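import Cfsg.Agent.Lib.MinIndexTransvection

/-!
In an action of `SL n q` on fewer than `(q^n - 1)/(q - 1)` points without a common fixed point,
no transvection fixes a point.
-/

set_option autoImplicit false

namespace Cfsg.Agent.MinIndexGeometry

open Matrix MulAction Cfsg.Agent.MinIndexTransvection
open scoped MatrixGroups

variable {n : ℕ} {F : Type*} [Field F] {Ω : Type*}

theorem sum_pow_succ (q m : ℕ) :
    ∑ i ∈ Finset.range (m + 1), q ^ i = q * (∑ i ∈ Finset.range m, q ^ i) + 1 := by
  rw [Finset.sum_range_succ', pow_zero, Finset.mul_sum]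
  congr 1
  exact Finset.sum_congr rfl fun i _ => by rw [pow_succ, mul_comm]

theorem sum_pow_lt {q : ℕ} (hq : 2 ≤ q) : ∀ m, ∑ i ∈ Finset.range (m + 1), q ^ i < 2 * q ^ m
  | 0 => by simp
  | m + 1 => by
    have ih := sum_pow_lt hq m
    rw [Finset.sum_range_succ]
    have : 2 * q ^ m ≤ q ^ (m + 1) := by rw [pow_succ']; exact Nat.mul_le_mul_right _ hq
    omega

/-- The two types of behaviour for the elations with a given centre. -/
def Free (ρ : SL(n, F) →* Equiv.Perm Ω) (v : Fin n → F) : Prop :=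
  ∀ φ : Fin n → F, φ ⬝ᵥ v = 0 → φ ≠ 0 → ∀ α, ρ (tv v φ) α = α → FixAll ρ v α

variable [Finite F] [Finite Ω] (ρ : SL(n, F) →* Equiv.Perm Ω)

theorem bound_of_lt (hn : 3 ≤ n)
    (hk : Nat.card Ω < ∑ i ∈ Finset.range n, Nat.card F ^ i) :
    Nat.card Ω + 1 < 2 * Nat.card F ^ (n - 1) := by
  obtain ⟨m, rfl⟩ : ∃ m, n = m + 1 := ⟨n - 1, by omega⟩
  have := sum_pow_lt (Finite.one_lt_card (α := F)) m
  rw [Nat.add_sub_cancel]
  omega

/-- If some point has a line with respect to `v`, all points do and none is fixed. -/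
theorem lines_of_not_free (hn : 3 ≤ n) (hk : Nat.card Ω < ∑ i ∈ Finset.range n, Nat.card F ^ i)
    {v : Fin n → F} (hv : v ≠ 0) (hnf : ¬ Free ρ v) (β : Ω) :
    ¬ FixAll ρ v β ∧ ∃ u, u ∉ Submodule.span F {v} ∧ Line ρ β v u := by
  classical
  have hlt := bound_of_lt (Ω := Ω) (F := F) hn hk
  simp only [Free, not_forall] at hnf
  obtain ⟨φ, hφ, hφ0, α, hfix, hm⟩ := hnf
  obtain ⟨u, hu, hline⟩ := exists_line ρ hn hv hlt hm hφ hφ0 hfix
  let _ := elationAction ρ v
  obtain ⟨φ₀, hc⟩ := exists_const ρ hn hv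
  obtain ⟨x₀, hx₀⟩ := exists_move ρ hm
  have hlt' : Nat.card Ω + 1 < 2 * Nat.card (Multiplicative (perp v)) := by
    rw [Nat.card_congr Multiplicative.toAdd, card_perp hv]; exact hlt
  -- every line through `v` occurs
  have hall : ∀ u' : Fin n → F, u' ∉ Submodule.span F {v} →
      ∃ γ : Ω, ¬ FixAll ρ v γ ∧ Line ρ γ v u' := by
    intro u' hu'
    by_cases h : u' ∈ Submodule.span F {v, u}
    · refine ⟨α, hm, fun χ hχ hχu => hline χ hχ ?_⟩
      obtain ⟨a, b, hab⟩ := Submodule.mem_span_pair.1 h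
      have hb : b ≠ 0 := by
        rintro rfl
        exact hu' (Submodule.mem_span_singleton.2 ⟨a, by simpa using hab⟩)
      rw [← hab, dotProduct_add, dotProduct_smul, dotProduct_smul, hχ, smul_zero, zero_add,
        smul_eq_mul] at hχu
      exact (mul_eq_zero.1 hχu).resolve_left hb
    · obtain ⟨ψ, hψ1, hψ0⟩ := SubspaceStab.exists_dot
        (Submodule.span F {v, u' - u}) (x := u) (by
          intro e
          obtain ⟨a, b, hab⟩ := Submodule.mem_span_pair.1 e
          by_cases hb : b = 0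
          · subst hb; exact hu (Submodule.mem_span_singleton.2 ⟨a, by simpa using hab⟩)
          refine h (Submodule.mem_span_pair.2 ⟨-(b⁻¹ * a), b⁻¹ + 1, ?_⟩)
          have : u' = b⁻¹ • (u - a • v) + u := by
            rw [← hab, add_sub_cancel_left, smul_smul, inv_mul_cancel₀ hb, one_smul, hab]
            abel
          conv_rhs => rw [this]
          module)
      have hψw : ψ ⬝ᵥ (u' - u) = 0 := hψ0 _ (Submodule.subset_span (by simp))
      set g := tv (u' - u) ψ with hg
      have hgv : g.1 *ᵥ v = v := by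
        rw [hg, tv_apply hψw, hψ0 v (Submodule.subset_span (by simp)), zero_smul, add_zero]
      have hgu : g.1 *ᵥ u = u' := by
        rw [hg, tv_apply hψw, hψ1, one_smul, add_sub_cancel]
      refine ⟨ρ g α, fun hF => hm ?_, ?_⟩
      · have h2 : (g⁻¹).1 *ᵥ v = v := by
          conv_lhs => rw [← hgv]
          rw [← PSLSimple.mulVec_mul, inv_mul_cancel, one_smul_vec]
        have := fixAll_map ρ (g := g⁻¹) hF
        rwa [h2, ← rho_mul_apply ρ g⁻¹ g, inv_mul_cancel, map_one, Equiv.Perm.one_apply] at this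
      · have := line_map ρ (g := g) hline
        rwa [hgv, hgu] at this
  -- no point is fixed by all elations with centre `v`
  have hnone : ¬ FixAll ρ v β := by
    intro hF
    let V' := (Fin n → F) ⧸ Submodule.span F {v}
    have hfin : Module.finrank F V' = n - 1 := by
      have := Submodule.finrank_quotient_add_finrank (Submodule.span F {v})
      rw [finrank_span_singleton hv, Module.finrank_fin_fun] at this
      change Module.finrank F V' + 1 = n at this
      omega
    have : Finite V' := Quotient.finite _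
    choose lift hlift using Submodule.Quotient.mk_surjective (Submodule.span F {v})
    have hrep : ∀ P : Projectivization F V', lift P.rep ∉ Submodule.span F {v} := fun P h =>
      P.rep_nonzero (by rw [← hlift P.rep, (Submodule.Quotient.mk_eq_zero _).2 h])
    choose pt hptm hptl using fun P : Projectivization F V' => hall _ (hrep P)
    let f : Option (Projectivization F V') → ElationOrbitCount.AllOrbits
        (Multiplicative (perp v)) Ω := fun o => o.elim (Quotient.mk'' β) fun P => Quotient.mk'' (pt P)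
    have hfixorb : ∀ γ : Ω, γ ∈ orbit (Multiplicative (perp v)) β → γ = β := by
      rintro γ ⟨z, rfl⟩
      exact hF _ z.toAdd.2
    have hinj : Function.Injective f := by
      intro a b hab
      cases a with
      | none =>
        cases b with
        | none => rfl
        | some P =>
          exfalso
          have h1 : β ∈ orbit (Multiplicative (perp v)) (pt P) := Quotient.exact hab
          have h2 : pt P ∈ orbit (Multiplicative (perp v)) β := mem_orbit_symm.1 h1
          exact hptm P (by rw [hfixorb _ h2]; exact hF)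
      | some P =>
        cases b with
        | none =>
          exfalso
          have h2 : pt P ∈ orbit (Multiplicative (perp v)) β := Quotient.exact hab
          exact hptm P (by rw [hfixorb _ h2]; exact hF)
        | some P' =>
          obtain ⟨z, hz⟩ := (Quotient.exact hab : pt P ∈ orbit (Multiplicative (perp v)) (pt P'))
          have hl : Line ρ (pt P) v (lift P'.rep) := by
            intro χ hχ hχu
            have hmem : Multiplicative.ofAdd (⟨χ, hχ⟩ : perp v) ∈
                stabilizer (Multiplicative (perp v)) (pt P') := hptl P' χ hχ hχu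
            rw [← ElationOrbitCount.stabilizer_smul_eq z (pt P'),
              show z • pt P' = pt P from hz] at hmem
            exact hmem
          have hmem := line_unique ρ (hptl P) hl (hptm P)
          obtain ⟨a, b, hab'⟩ := Submodule.mem_span_pair.1 hmem
          congr 1
          have e := congrArg (Submodule.Quotient.mk (p := Submodule.span F {v})) hab'
          rw [Submodule.Quotient.mk_add, Submodule.Quotient.mk_smul, Submodule.Quotient.mk_smul,
            (Submodule.Quotient.mk_eq_zero _).2 (Submodule.mem_span_singleton_self v), smul_zero,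
            zero_add, hlift, hlift] at e
          have hb : b ≠ 0 := fun hb => P'.rep_nonzero (by rw [← e, hb, zero_smul])
          rw [← P.mk_rep, ← P'.mk_rep, Projectivization.mk_eq_mk_iff']
          exact ⟨b⁻¹, by rw [← e, smul_smul, inv_mul_cancel₀ hb, one_smul]⟩
    have h1 := Nat.card_le_card_of_injective f hinj
    rw [Finite.card_option, Projectivization.card_of_finrank F V' hfin] at h1
    obtain ⟨ho, hk'⟩ := ElationOrbitCount.fixed_eq hc hlt' α x₀ hx₀
    rw [Nat.card_congr Multiplicative.toAdd, card_perp hv] at hk'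
    obtain ⟨m, rfl⟩ : ∃ m, n = m + 1 := ⟨n - 1, by omega⟩
    rw [Nat.add_sub_cancel] at h1 hk'
    rw [Finset.sum_range_succ] at hk
    omega
  refine ⟨hnone, ?_⟩
  by_cases hfree : stabilizer (Multiplicative (perp v)) β = ⊥
  · exfalso
    obtain ⟨x₁, hx₁⟩ := exists_move ρ hnone
    exact hm fun χ hχ =>
      ElationOrbitCount.fixed_of_free hc hlt' hx₁ hfree
        (x := Multiplicative.ofAdd (⟨φ, hφ⟩ : perp v))
        (fun e => hφ0 (congrArg (fun z => (z.toAdd : Fin n → F)) e)) hfix
        (Multiplicative.ofAdd (⟨χ, hχ⟩ : perp v))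
  · obtain ⟨s, hs, hs1⟩ := (Subgroup.bot_or_exists_ne_one _).resolve_left hfree
    exact exists_line ρ hn hv hlt hnone s.toAdd.2
      (fun e => hs1 (toAdd_eq_zero.1 (Subtype.ext e))) hs

omit [Finite F] [Finite Ω] in
theorem free_map (g : SL(n, F)) {v : Fin n → F} (h : Free ρ v) : Free ρ (g.1 *ᵥ v) := by
  intro φ hφ hφ0 α hfix
  have h0 : (φ ᵥ* g.1) ⬝ᵥ v = 0 := by rw [← dotProduct_mulVec]; exact hφ
  have hne : φ ᵥ* g.1 ≠ 0 := fun e => hφ0 (by
    have := congrArg (fun y => y ᵥ* (g⁻¹).1) e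
    simpa only [vecMul_mul', mul_inv_cancel, vecMul_one', zero_vecMul] using this)
  have hα : ρ (tv v (φ ᵥ* g.1)) (ρ g⁻¹ α) = ρ g⁻¹ α := by
    have := fix_conj ρ (g := g⁻¹) hfix
    rw [conj_tv _ hφ, ← PSLSimple.mulVec_mul, inv_mul_cancel, one_smul_vec, inv_inv] at this
    exact this
  have := fixAll_map ρ (g := g) (h _ h0 hne _ hα)
  rwa [← rho_mul_apply, mul_inv_cancel, map_one, Equiv.Perm.one_apply] at this

/-- For every vector the elations are free: the line type is impossible. -/
theorem free (hn : 3 ≤ n) (hk : Nat.card Ω < ∑ i ∈ Finset.range n, Nat.card F ^ i)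
    {v₀ : Fin n → F} (hv₀ : v₀ ≠ 0) : Free ρ v₀ := by
  classical
  by_contra hnf₀
  have hnf : ∀ {v : Fin n → F}, v ≠ 0 → ¬ Free ρ v := by
    intro v hv h
    obtain ⟨g, hg⟩ := exists_map_vec hn hv hv₀
    exact hnf₀ (hg ▸ free_map ρ g h)
  have hlines : ∀ {v : Fin n → F}, v ≠ 0 → ∀ β : Ω,
      ¬ FixAll ρ v β ∧ ∃ u, u ∉ Submodule.span F {v} ∧ Line ρ β v u :=
    fun hv β => lines_of_not_free ρ hn hk hv (hnf hv) β
  obtain ⟨α⟩ : Nonempty Ω := by
    have h := hnf hv₀
    simp only [Free, not_forall] at h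
    obtain ⟨-, -, -, α, -⟩ := h
    exact ⟨α⟩
  have hind : ∀ {v u : Fin n → F}, v ≠ 0 → u ∉ Submodule.span F {v} →
      v ∉ Submodule.span F {u} ∧ u ≠ 0 := fun hv hu =>
    ⟨notMem_span_symm hv hu, fun e => hu (e ▸ Submodule.zero_mem _)⟩
  -- lines form a spread
  have hswap : ∀ {v u : Fin n → F}, v ≠ 0 → u ∉ Submodule.span F {v} → Line ρ α v u →
      Line ρ α u v := by
    intro v u hv hu hl
    obtain ⟨hvu, hu0⟩ := hind hv hu
    obtain ⟨hmu, u', hu', hl'⟩ := hlines hu0 α
    have key : u' ∈ Submodule.span F {v, u} := by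
      by_contra hnot
      obtain ⟨φ, hφ1, hφ0⟩ := SubspaceStab.exists_dot _ hnot
      have hφv : φ ⬝ᵥ v = 0 := hφ0 v (Submodule.subset_span (by simp))
      have hφu : φ ⬝ᵥ u = 0 := hφ0 u (Submodule.subset_span (by simp))
      have h2 := line_map ρ (g := tv v φ) hl'
      rw [hl φ hφv hφu, tv_apply hφv, hφu, zero_smul, add_zero, tv_apply hφv, hφ1, one_smul] at h2
      obtain ⟨a, b, hab⟩ := Submodule.mem_span_pair.1 (line_unique ρ hl' h2 hmu)
      by_cases hb : b = 1
      · subst hb
        exact hvu (Submodule.mem_span_singleton.2 ⟨a, add_right_cancel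
          (b := u') (by rw [add_comm v u']; simpa using hab)⟩)
      · refine hnot (Submodule.mem_span_pair.2 ⟨(b - 1)⁻¹, -((b - 1)⁻¹ * a), ?_⟩)
        have hv' : v = a • u + (b - 1) • u' := by
          rw [sub_smul, one_smul, ← add_sub_assoc, hab, add_sub_cancel_left]
        conv_lhs => rw [hv']
        rw [smul_add, smul_smul, smul_smul, inv_mul_cancel₀ (sub_ne_zero.2 hb)]
        module
    intro χ hχu hχv
    refine hl' χ hχu ?_
    obtain ⟨a, b, hab⟩ := Submodule.mem_span_pair.1 key
    rw [← hab, dotProduct_add, dotProduct_smul, dotProduct_smul, hχu, hχv]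
    simp
  have hspread : ∀ {v u w x : Fin n → F}, v ≠ 0 → u ∉ Submodule.span F {v} → Line ρ α v u →
      w ∈ Submodule.span F {v, u} → x ∈ Submodule.span F {v, u} → w ≠ 0 →
      x ∉ Submodule.span F {w} → Line ρ α w x := by
    intro v u w x hv hu hl hw hx hw0 hxw
    obtain ⟨a, b, rfl⟩ := Submodule.mem_span_pair.1 hw
    obtain ⟨c, d, rfl⟩ := Submodule.mem_span_pair.1 hx
    intro χ h1 h2
    -- `χ` kills both `v` and `u`
    have hdet : a * d - b * c ≠ 0 := by
      intro h0
      refine hxw (Submodule.mem_span_singleton.2 ?_)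
      by_cases ha : a = 0
      · have hb : b ≠ 0 := fun hb => hw0 (by simp [ha, hb])
        have hc : c = 0 := by
          rw [ha, zero_mul, zero_sub, neg_eq_zero] at h0
          exact (mul_eq_zero.1 h0).resolve_left hb
        exact ⟨d / b, by rw [ha, hc, zero_smul, zero_add, zero_add, smul_smul, div_mul_cancel₀ d hb]⟩
      · refine ⟨c / a, ?_⟩
        have hd : c / a * b = d := by
          field_simp
          linear_combination -h0
        rw [smul_add, smul_smul, smul_smul, div_mul_cancel₀ c ha, hd]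
    simp only [dotProduct_add, dotProduct_smul, smul_eq_mul] at h1 h2
    have hχv : χ ⬝ᵥ v = 0 := by
      have : (a * d - b * c) * (χ ⬝ᵥ v) = 0 := by linear_combination d * h1 - b * h2
      exact (mul_eq_zero.1 this).resolve_left hdet
    have hχu : χ ⬝ᵥ u = 0 := by
      have : (a * d - b * c) * (χ ⬝ᵥ u) = 0 := by linear_combination a * h2 - c * h1
      exact (mul_eq_zero.1 this).resolve_left hdet
    have e1 : (χ : Fin n → F) ⬝ᵥ (a • v) = 0 := by rw [dotProduct_smul, hχv, smul_zero]
    have e2 : (χ : Fin n → F) ⬝ᵥ (b • u) = 0 := by rw [dotProduct_smul, hχu, smul_zero]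
    rw [← tv_mul' e1 e2, rho_mul_apply, tv_smul a hχv, tv_smul b hχu,
      hswap hv hu hl (b • χ) (by rw [smul_dotProduct, hχu, smul_zero])
        (by rw [smul_dotProduct, hχv, smul_zero]),
      hl (a • χ) (by rw [smul_dotProduct, hχv, smul_zero]) (by rw [smul_dotProduct, hχu, smul_zero])]
  -- contradiction
  obtain ⟨hmv, u, hu, hl⟩ := hlines hv₀ α
  obtain ⟨φ, hφ0, hφv, hφu⟩ := exists_perp_pair hn v₀ u
  obtain ⟨j, hj⟩ := Function.ne_iff.1 hφ0
  set x : Fin n → F := Pi.single j 1 with hx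
  have hφx : φ ⬝ᵥ x ≠ 0 := by rw [hx, dotProduct_single, mul_one]; exact hj
  have hx0 : x ≠ 0 := fun e => hφx (by rw [e, dotProduct_zero])
  obtain ⟨hmx, y, hy, hlxy⟩ := hlines hx0 α
  set z := (φ ⬝ᵥ y) • x - (φ ⬝ᵥ x) • y with hz
  have hφz : φ ⬝ᵥ z = 0 := by
    rw [hz, dotProduct_sub, dotProduct_smul, dotProduct_smul, smul_eq_mul, smul_eq_mul, mul_comm,
      sub_self]
  have hzx : z ∈ Submodule.span F {x, y} :=
    Submodule.mem_span_pair.2 ⟨φ ⬝ᵥ y, -(φ ⬝ᵥ x), by rw [hz, neg_smul, ← sub_eq_add_neg]⟩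
  have hxz : x ∉ Submodule.span F {z} := by
    intro h
    obtain ⟨c, hc⟩ := Submodule.mem_span_singleton.1 h
    exact hφx (by rw [← hc, dotProduct_smul, hφz, smul_zero])
  have hz0 : z ≠ 0 := fun e => hy (Submodule.mem_span_singleton.2 ⟨(φ ⬝ᵥ x)⁻¹ * (φ ⬝ᵥ y), by
    have e' : (φ ⬝ᵥ y) • x = (φ ⬝ᵥ x) • y := sub_eq_zero.1 e
    rw [← smul_smul, e', smul_smul, inv_mul_cancel₀ hφx, one_smul]⟩)
  have hlzx : Line ρ α z x :=
    hspread hx0 hy hlxy hzx (Submodule.subset_span (by simp)) hz0 hxz
  have h2 := line_map ρ (g := tv v₀ φ) hlzx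
  rw [hl φ hφv hφu, tv_apply hφv, hφz, zero_smul, add_zero, tv_apply hφv] at h2
  have hvs : v₀ ∈ Submodule.span F {x, y} := by
    have h3 := line_unique ρ hlzx h2 (hlines hz0 α).1
    have hle : Submodule.span F {z, x} ≤ Submodule.span F {x, y} := Submodule.span_le.2 (by
      rintro w (rfl | rfl)
      · exact hzx
      · exact Submodule.subset_span (by simp))
    have h4 := Submodule.sub_mem _ (hle h3) (Submodule.subset_span (show x ∈ ({x, y} : Set _) by simp))
    rw [add_sub_cancel_left] at h4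
    have := Submodule.smul_mem (Submodule.span F {x, y}) (φ ⬝ᵥ x)⁻¹ h4
    rwa [smul_smul, inv_mul_cancel₀ hφx, one_smul] at this
  have hxv : x ∉ Submodule.span F {v₀} := fun h => by
    obtain ⟨c, hc⟩ := Submodule.mem_span_singleton.1 h
    exact hφx (by rw [← hc, dotProduct_smul, hφv, smul_zero])
  have hlvx : Line ρ α v₀ x :=
    hspread hx0 hy hlxy hvs (Submodule.subset_span (by simp)) hv₀ hxv
  obtain ⟨a, b, hab⟩ := Submodule.mem_span_pair.1 (line_unique ρ hl hlvx hmv)
  refine hφx ?_
  rw [← hab, dotProduct_add, dotProduct_smul, dotProduct_smul, hφv, hφu]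
  simp

omit [Finite F] [Finite Ω] in
/-- The inverse-transpose twist. -/
noncomputable def dualRep : SL(n, F) →* Equiv.Perm Ω where
  toFun g := ρ (Matrix.SpecialLinearGroup.transpose g)⁻¹
  map_one' := by
    have : Matrix.SpecialLinearGroup.transpose (1 : SL(n, F)) = 1 := Subtype.ext Matrix.transpose_one
    rw [this, inv_one, map_one]
  map_mul' a b := by
    have : Matrix.SpecialLinearGroup.transpose (a * b) =
        Matrix.SpecialLinearGroup.transpose b * Matrix.SpecialLinearGroup.transpose a :=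
      Subtype.ext (Matrix.transpose_mul a.1 b.1)
    rw [this, _root_.mul_inv_rev, map_mul]

omit [Finite F] [Finite Ω] in
theorem dual_tv {v φ : Fin n → F} (h : φ ⬝ᵥ v = 0) :
    dualRep ρ (tv v φ) = ρ (tv (-φ) v) := by
  have h' : v ⬝ᵥ φ = 0 := by rw [dotProduct_comm]; exact h
  have e : Matrix.SpecialLinearGroup.transpose (tv v φ) = tv φ v := by
    refine Subtype.ext ?_
    show (tv v φ).1ᵀ = (tv φ v).1
    rw [coe_tv h, coe_tv h', transpose_add, transpose_one, transpose_vecMulVec]
  show ρ _⁻¹ = _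
  rw [e, tv_inv h', show -v = (-1 : F) • v by simp, ← tv_smul (-1) h']
  simp

theorem no_fix (hn : 3 ≤ n) (hk : Nat.card Ω < ∑ i ∈ Finset.range n, Nat.card F ^ i)
    (hnfix : ∀ α : Ω, ∃ g, ρ g α ≠ α) {v φ : Fin n → F} (h : φ ⬝ᵥ v = 0) (hv : v ≠ 0)
    (hφ : φ ≠ 0) (α : Ω) : ρ (tv v φ) α ≠ α := by
  intro hfix
  have : Nontrivial (Fin n) := Fin.nontrivial_iff_two_le.2 (by omega)
  -- same axis
  have hdual : ∀ {w w' ψ : Fin n → F}, ψ ≠ 0 → ψ ⬝ᵥ w = 0 → ψ ⬝ᵥ w' = 0 → w ≠ 0 →
      ρ (tv w ψ) α = α → ρ (tv w' ψ) α = α := by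
    intro w w' ψ hψ hw hw' hw0 hf
    have hne : -ψ ≠ (0 : Fin n → F) := neg_ne_zero.2 hψ
    have e1 : ∀ {y : Fin n → F}, ψ ⬝ᵥ y = 0 → dualRep ρ (tv (-ψ) (-y)) = ρ (tv y (-ψ)) := by
      intro y hy
      have : (-y) ⬝ᵥ (-ψ) = 0 := by rw [neg_dotProduct, dotProduct_neg, dotProduct_comm, hy]; simp
      rw [dual_tv ρ this, neg_neg]
    -- the inverse of `tv w ψ` also fixes `α`
    have hf' : ρ (tv w (-ψ)) α = α := by
      rw [← tv_inv hw]
      conv_lhs => rw [← hf]
      rw [← rho_mul_apply, inv_mul_cancel, map_one, Equiv.Perm.one_apply]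
    have hF : FixAll (dualRep ρ) (-ψ) α :=
      free (dualRep ρ) hn hk hne (-w)
        (by rw [neg_dotProduct, dotProduct_neg, dotProduct_comm, hw]; simp) (neg_ne_zero.2 hw0) α
        (by rw [e1 hw]; exact hf')
    have h1 := hF (-w') (by rw [neg_dotProduct, dotProduct_neg, dotProduct_comm, hw']; simp)
    rw [e1 hw'] at h1
    rw [show ψ = -(-ψ) from (neg_neg ψ).symm, ← tv_inv (by rw [neg_dotProduct, hw', neg_zero])]
    conv_lhs => rw [← h1]
    rw [← rho_mul_apply, inv_mul_cancel, map_one, Equiv.Perm.one_apply]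
  have hall : ∀ w ψ : Fin n → F, ψ ⬝ᵥ w = 0 → ρ (tv w ψ) α = α := by
    intro w ψ hψ
    by_cases hw : w = 0
    · subst hw
      have : tv (0 : Fin n → F) ψ = 1 :=
        ext_mulVec fun y => by rw [tv_apply hψ, smul_zero, add_zero, one_smul_vec]
      rw [this, map_one, Equiv.Perm.one_apply]
    obtain ⟨χ, hχ0, hχv, hχw⟩ := exists_perp_pair hn v w
    have h1 : ρ (tv v χ) α = α := free ρ hn hk hv φ h hφ α hfix χ hχv
    have h2 : ρ (tv w χ) α = α := hdual hχ0 hχv hχw hv h1
    exact free ρ hn hk hw χ hχw hχ0 α h2 ψ hψ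
  obtain ⟨g, hg⟩ := hnfix α
  let H : Subgroup SL(n, F) :=
    { carrier := {g | ρ g α = α}
      one_mem' := by show ρ 1 α = α; rw [map_one]; rfl
      mul_mem' := fun {a b} ha hb => by show ρ (a * b) α = α; rw [rho_mul_apply, hb, ha]
      inv_mem' := fun {a} ha => by
        show ρ a⁻¹ α = α
        conv_lhs => rw [← (show ρ a α = α from ha)]
        rw [← rho_mul_apply, inv_mul_cancel, map_one, Equiv.Perm.one_apply] }
  exact hg ((eq_top_of_tv_mem H hall ▸ Subgroup.mem_top g : g ∈ H))

end Cfsg.Agent.MinIndexGeometry
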