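import Mathlib
import Cfsg.Agent.Lib.OrthUnitarySimple
import Cfsg.Agent.Lib.OrthUnitaryStd

/-!
Root elements of orthogonal groups `orth (hypExt P)`: the two radicals, transitivity, the elements
swapping and scaling the hyperbolic pair, and root elements as commutators in vector stabilisers.
-/

set_option autoImplicit false

namespace Cfsg.Agent.OrthMinDegree32Geom

open QuadraticMap
open Cfsg.Agent.OrthUnitaryQuad
open Cfsg.Agent.OrthUnitaryRefl
open Cfsg.Agent.OrthUnitaryOmega
open Cfsg.Agent.OrthUnitarySimple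
open Cfsg.Agent.OrthUnitaryStd
open scoped commutatorElement

variable {F W : Type*} [Field F] [AddCommGroup W] [Module F W]

/-- The root elements at the first vector of the hyperbolic pair. -/
noncomputable def rS (P : QuadraticForm F W) (w : W) : orth (hypExt P) :=
  siegel (hypExt P) ((1, 0), 0) ((0, 0), w) (by simp [hypExt_apply]) (by simp [polar_hypExt])

/-- The root elements at the second vector of the hyperbolic pair. -/
noncomputable def sS (P : QuadraticForm F W) (w : W) : orth (hypExt P) :=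
  siegel (hypExt P) ((0, 1), 0) ((0, 0), w) (by simp [hypExt_apply]) (by simp [polar_hypExt])

variable {P : QuadraticForm F W}

theorem rS_apply (w : W) (x y : F) (z : W) :
    (rS P w).1 ((x, y), z) = ((x - polar P w z - P w * y, y), z + y • w) := by
  rw [rS, siegel_apply]
  simp [polar_hypExt, hypExt_apply, Prod.ext_iff]
  ring

theorem sS_apply (w : W) (x y : F) (z : W) :
    (sS P w).1 ((x, y), z) = ((x, y - polar P w z - P w * x), z + x • w) := by
  rw [sS, siegel_apply]
  simp [polar_hypExt, hypExt_apply, Prod.ext_iff]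
  ring

theorem rS_add (v w : W) : rS P (v + w) = rS P v * rS P w := by
  rw [rS, rS, rS, siegel_mul]
  exact siegel_congr _ _ (by simp)

theorem rS_zero : rS P (0 : W) = 1 := by
  apply orth_ext
  rintro ⟨⟨x, y⟩, z⟩
  rw [rS_apply]
  simp

/-- A Siegel element at the first vector of the hyperbolic pair is a root element. -/
theorem siegel_u_eq {u b : (F × F) × W} (hu0 : u = ((1, 0), 0)) (hu : hypExt P u = 0)
    (hb : polar (hypExt P) u b = 0) : siegel (hypExt P) u b hu hb = rS P b.2 := by
  subst hu0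
  obtain ⟨⟨t, s⟩, z⟩ := b
  obtain rfl : s = 0 := by simpa [polar_hypExt] using hb
  apply orth_ext
  rintro ⟨⟨x, y⟩, v⟩
  rw [rS_apply, siegel_apply]
  simp [polar_hypExt, hypExt_apply, Prod.ext_iff]
  ring

/-- The isometries of `P` act on the root elements by conjugation. -/
theorem hypLift_conj_rS (g : orth P) (w : W) :
    hypLift P g * rS P w * (hypLift P g)⁻¹ = rS P (g.1 w) := by
  rw [mul_inv_eq_iff_eq_mul]
  apply orth_ext
  rintro ⟨⟨x, y⟩, z⟩
  rw [orth_mul_apply, orth_mul_apply, rS_apply]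
  show ((x - polar P w z - P w * y, y), g.1 (z + y • w)) = (rS P (g.1 w)).1 ((x, y), g.1 z)
  rw [rS_apply, map_add, map_smul, polar_orth g, map_orth g]

/-! ### Universal forms and transitivity -/

/-- Every scalar is a value. -/
def IsUniv (P : QuadraticForm F W) : Prop := ∀ a : F, ∃ w, P w = a

theorem isUniv_hypExt : IsUniv (hypExt P) := fun a => ⟨((a, 1), 0), by simp [hypExt_apply]⟩

theorem isUniv_of_two_le [Fintype F] [FiniteDimensional F W] (hP : (polarBilin P).Nondegenerate)
    (hn : 2 ≤ Module.finrank F W) : IsUniv P :=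
  exists_map_eq (isReg_of_nondegenerate hP) hn

theorem exists_polar_eq_scalar (hP : (polarBilin P).Nondegenerate) {z : W} (hz : z ≠ 0) (c : F) :
    ∃ w, polar P w z = c := by
  obtain ⟨w, hw⟩ : ∃ w, polar P w z ≠ 0 := by
    by_contra! h
    exact hz (hP.2 z h)
  exact ⟨(c / polar P w z) • w, by rw [polar_smul_left, smul_eq_mul, div_mul_cancel₀ c hw]⟩

/-- The group generated by both radicals. -/
noncomputable def HS (P : QuadraticForm F W) : Subgroup (orth (hypExt P)) :=
  Subgroup.closure (Set.range (rS P) ∪ Set.range (sS P))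

theorem rS_mem_HS (w : W) : rS P w ∈ HS P := Subgroup.subset_closure (Or.inl ⟨w, rfl⟩)

theorem sS_mem_HS (w : W) : sS P w ∈ HS P := Subgroup.subset_closure (Or.inr ⟨w, rfl⟩)

theorem exists_to_normal (hP : (polarBilin P).Nondegenerate) (hU : IsUniv P)
    {v : (F × F) × W} (hv : v ≠ 0) : ∃ h ∈ HS P, h.1 v = ((hypExt P v, 1), 0) := by
  have step : ∀ (k : orth (hypExt P)), k ∈ HS P → ∀ v : (F × F) × W,
      (∃ h ∈ HS P, h.1 (k.1 v) = ((hypExt P (k.1 v), 1), 0)) →
      ∃ h ∈ HS P, h.1 v = ((hypExt P v, 1), 0) := by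
    rintro k hk v ⟨h, hh, e⟩
    refine ⟨h * k, Subgroup.mul_mem _ hh hk, ?_⟩
    rw [orth_mul_apply, e, map_orth k]
  have hB : ∀ X Y : F, X ≠ 0 →
      ∃ h ∈ HS P, h.1 ((X, Y), 0) = ((hypExt P ((X, Y), (0 : W)), 1), 0) := by
    intro X Y hX
    obtain ⟨w, hw⟩ := hU ((Y - 1) / X)
    refine step _ (sS_mem_HS w) _ ?_
    have e1 : (sS P w).1 ((X, Y), 0) = ((X, 1), X • w) := by
      rw [sS_apply, polar_zero_right, hw]
      simp [div_mul_cancel₀ _ hX]
    refine ⟨rS P (-(X • w)), rS_mem_HS _, ?_⟩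
    have hn := map_orth (rS P (-(X • w))) ((sS P w).1 ((X, Y), 0))
    rw [e1] at hn ⊢
    rw [rS_apply, one_smul, add_neg_cancel] at hn ⊢
    rw [hypExt_apply, QuadraticMap.map_zero, add_zero, mul_one] at hn
    rw [hn]
  have hC : ∀ (x y : F) (z : W), y ≠ 0 →
      ∃ h ∈ HS P, h.1 ((x, y), z) = ((hypExt P ((x, y), z), 1), 0) := by
    intro x y z hy
    refine step _ (rS_mem_HS (-(y⁻¹ • z))) _ ?_
    have e1 : ∃ x', (rS P (-(y⁻¹ • z))).1 ((x, y), z) = ((x', y), 0) := by
      rw [rS_apply]
      exact ⟨_, by rw [smul_neg, smul_inv_smul₀ hy, add_neg_cancel]⟩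
    obtain ⟨x', e1⟩ := e1
    rw [e1]
    by_cases hx : x' = 0
    · subst hx
      obtain ⟨w, hw⟩ := hU 1
      refine step _ (rS_mem_HS w) _ ?_
      rw [rS_apply, polar_zero_right, hw, one_mul, zero_add, sub_zero, zero_sub]
      refine step _ (sS_mem_HS w) _ ?_
      have e2 : ∃ Y, (sS P w).1 ((-y, y), y • w) = ((-y, Y), 0) := by
        rw [sS_apply]
        exact ⟨_, by rw [neg_smul, add_neg_cancel]⟩
      obtain ⟨Y, e2⟩ := e2
      rw [e2]
      exact hB _ _ (neg_ne_zero.2 hy)
    · exact hB _ _ hx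
  obtain ⟨⟨x, y⟩, z⟩ := v
  by_cases hy : y = 0
  swap
  · exact hC x y z hy
  subst hy
  by_cases hz : z = 0
  · subst hz
    exact hB x 0 (fun h => hv (by rw [h]; rfl))
  obtain ⟨w, hw⟩ := exists_polar_eq_scalar hP hz x
  refine step _ (rS_mem_HS w) _ ?_
  rw [rS_apply, hw, sub_self, mul_zero, sub_zero, zero_smul, add_zero]
  obtain ⟨w', hw'⟩ := exists_polar_eq_scalar hP hz (-1)
  refine step _ (sS_mem_HS w') _ ?_
  rw [sS_apply, hw', zero_sub, neg_neg, mul_zero, sub_zero, zero_smul, add_zero]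
  exact hC 0 1 z one_ne_zero

/-- The group generated by the radicals is transitive on non-zero vectors of each norm. -/
theorem exists_mem_HS (hP : (polarBilin P).Nondegenerate) (hU : IsUniv P)
    {v v' : (F × F) × W} (hv : v ≠ 0) (hv' : v' ≠ 0) (h : hypExt P v = hypExt P v') :
    ∃ g ∈ HS P, g.1 v = v' := by
  obtain ⟨g, hg, eg⟩ := exists_to_normal hP hU hv
  obtain ⟨g', hg', eg'⟩ := exists_to_normal hP hU hv'
  refine ⟨g'⁻¹ * g, Subgroup.mul_mem _ (Subgroup.inv_mem _ hg') hg, ?_⟩
  rw [orth_mul_apply, eg, h, ← eg']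
  exact g'.1.symm_apply_apply v'

/-! ### The group generated by singular root elements -/

section SGroup

variable [Fintype F] [FiniteDimensional F W] (hP : (polarBilin P).Nondegenerate)
  (hn : 3 ≤ Module.finrank F W)

include hP hn

theorem siegel_mem' {a b : (F × F) × W} (ha : hypExt P a = 0)
    (hb : polar (hypExt P) a b = 0) : siegel (hypExt P) a b ha hb ∈ sGroup (hypExt P) :=
  siegel_mem (nondegenerate_hypExt hP) (by rw [finrank_hypExt_space]; omega) ha hb

theorem rS_mem (w : W) : rS P w ∈ sGroup (hypExt P) := siegel_mem' hP hn _ _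

theorem sS_mem (w : W) : sS P w ∈ sGroup (hypExt P) := siegel_mem' hP hn _ _

theorem HS_le : HS P ≤ sGroup (hypExt P) := by
  rw [HS, Subgroup.closure_le]
  rintro _ (⟨w, rfl⟩ | ⟨w, rfl⟩)
  · exact rS_mem hP hn w
  · exact sS_mem hP hn w

theorem exists_mem_sGroup {v v' : (F × F) × W} (hv : v ≠ 0) (hv' : v' ≠ 0)
    (h : hypExt P v = hypExt P v') : ∃ g ∈ sGroup (hypExt P), g.1 v = v' := by
  obtain ⟨g, hg, e⟩ := exists_mem_HS hP (isUniv_of_two_le hP (by omega)) hv hv' h
  exact ⟨g, HS_le hP hn hg, e⟩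

/-- A root element is conjugate to a root element at the hyperbolic pair. -/
theorem exists_conj_rS {a b : (F × F) × W} (ha : hypExt P a = 0)
    (hb : polar (hypExt P) a b = 0) (ha0 : a ≠ 0) :
    ∃ g ∈ sGroup (hypExt P), g.1 a = ((1, 0), 0) ∧
      g * siegel (hypExt P) a b ha hb * g⁻¹ = rS P (g.1 b).2 := by
  have hu : ((1, 0), 0) ≠ (0 : (F × F) × W) := by simp [Prod.ext_iff]
  obtain ⟨g, hg, e⟩ := exists_mem_sGroup hP hn ha0 hu (by rw [ha]; simp [hypExt_apply])
  exact ⟨g, hg, e, by rw [conj_siegel]; exact siegel_u_eq e _ _⟩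

theorem sGroup_le_HS : sGroup (hypExt P) ≤ HS P := by
  rw [sGroup, Subgroup.closure_le]
  rintro _ ⟨a, b, ha, hb, -, rfl⟩
  by_cases ha0 : a = 0
  · subst ha0
    rw [siegel_zero_left]
    exact Subgroup.one_mem _
  have hu : ((1, 0), 0) ≠ (0 : (F × F) × W) := by simp [Prod.ext_iff]
  obtain ⟨g, hg, e⟩ := exists_mem_HS hP (isUniv_of_two_le hP (by omega)) ha0 hu
    (by rw [ha]; simp [hypExt_apply])
  have e' : g * siegel (hypExt P) a b ha hb * g⁻¹ = rS P (g.1 b).2 := by
    rw [conj_siegel]; exact siegel_u_eq e _ _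
  rw [show siegel (hypExt P) a b ha hb = g⁻¹ * rS P (g.1 b).2 * g by rw [← e']; group]
  exact Subgroup.mul_mem _ (Subgroup.mul_mem _ (Subgroup.inv_mem _ hg) (rS_mem_HS _)) hg

/-- A normal subgroup containing the radical is everything. -/
theorem eq_top_of_rS (N : Subgroup (sGroup (hypExt P))) [N.Normal]
    (hr : ∀ w, ⟨rS P w, rS_mem hP hn w⟩ ∈ N) : N = ⊤ := by
  rw [Subgroup.eq_top_iff']
  rintro ⟨x, hx⟩
  suffices h : x ∈ N.map (sGroup (hypExt P)).subtype by
    obtain ⟨y, hy, e⟩ := h
    rwa [show (⟨x, hx⟩ : sGroup (hypExt P)) = y from Subtype.ext e.symm]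
  revert x
  rw [← SetLike.le_def]
  conv_lhs => rw [sGroup]
  rw [Subgroup.closure_le]
  rintro _ ⟨a, b, ha, hb, -, rfl⟩
  by_cases ha0 : a = 0
  · subst ha0
    rw [siegel_zero_left]
    exact Subgroup.one_mem _
  obtain ⟨g, hg, -, e⟩ := exists_conj_rS hP hn ha hb ha0
  refine ⟨⟨g, hg⟩⁻¹ * ⟨_, rS_mem hP hn (g.1 b).2⟩ * ⟨g, hg⟩,
    by simpa using Subgroup.Normal.conj_mem inferInstance _ (hr (g.1 b).2) ⟨g, hg⟩⁻¹, ?_⟩
  show g⁻¹ * rS P (g.1 b).2 * g = _
  rw [← e]
  group

end SGroup

/-! ### Swapping and scaling the hyperbolic pair -/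

/-- The element swapping the hyperbolic pair. -/
noncomputable def kW (P : QuadraticForm F W) (w : W) : orth (hypExt P) :=
  rS P w * sS P ((P w)⁻¹ • w) * rS P w

theorem kW_apply {w : W} (hw : P w ≠ 0) (x y : F) (z : W) :
    (kW P w).1 ((x, y), z) = ((-(P w * y), -((P w)⁻¹ * x)), (refl P w hw).1 z) := by
  rw [kW, orth_mul_apply, orth_mul_apply, rS_apply, sS_apply, rS_apply, refl_apply]
  simp only [polar_add_right, polar_smul_right, polar_smul_left, QuadraticMap.map_smul,
    polar_self_mul, smul_eq_mul]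
  refine Prod.ext (Prod.ext ?_ ?_) ?_
  · field_simp
    ring
  · field_simp
    ring
  · match_scalars <;> field_simp <;> ring

theorem kW_mul_apply {w w' : W} (hw : P w ≠ 0) (hw' : P w' ≠ 0) (x y : F) (z : W) :
    (kW P w * kW P w').1 ((x, y), z) =
      ((P w / P w' * x, P w' / P w * y), (refl P w hw * refl P w' hw').1 z) := by
  rw [orth_mul_apply, kW_apply hw', kW_apply hw, orth_mul_apply]
  refine Prod.ext (Prod.ext ?_ ?_) rfl <;> field_simp

/-- The scaling elements act on root elements. -/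
theorem kW_mul_conj_rS {w w' : W} (hw : P w ≠ 0) (hw' : P w' ≠ 0) (z : W) :
    kW P w * kW P w' * rS P z * (kW P w * kW P w')⁻¹ =
      rS P ((P w / P w') • (refl P w hw * refl P w' hw').1 z) := by
  rw [mul_inv_eq_iff_eq_mul]
  apply orth_ext
  rintro ⟨⟨x, y⟩, v⟩
  rw [orth_mul_apply (kW P w * kW P w'), rS_apply, kW_mul_apply hw hw', orth_mul_apply (rS P _),
    kW_mul_apply hw hw', rS_apply]
  simp only [polar_smul_left, QuadraticMap.map_smul, map_orth, polar_orth, smul_eq_mul, map_add,
    map_smul]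
  refine Prod.ext (Prod.ext ?_ rfl) ?_
  · field_simp
  · simp only [smul_smul]
    congr 2
    field_simp

/-- The swapping element exchanges the radicals. -/
theorem kW_conj_rS {w : W} (hw : P w ≠ 0) (z : W) :
    kW P w * rS P z * (kW P w)⁻¹ = sS P ((-(P w)⁻¹) • (refl P w hw).1 z) := by
  rw [mul_inv_eq_iff_eq_mul]
  apply orth_ext
  rintro ⟨⟨x, y⟩, v⟩
  rw [orth_mul_apply, rS_apply, kW_apply hw, orth_mul_apply, kW_apply hw, sS_apply]
  simp only [polar_smul_left, QuadraticMap.map_smul, map_orth, polar_orth, smul_eq_mul, map_add,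
    map_smul]
  refine Prod.ext (Prod.ext rfl ?_) ?_
  · field_simp
    ring
  · simp only [smul_smul]
    congr 2
    field_simp

/-- The swapping element acts on isometries of `P` by a reflection. -/
theorem kW_conj_hypLift {w : W} (hw : P w ≠ 0) (g : orth P) :
    kW P w * hypLift P g * (kW P w)⁻¹ = hypLift P (refl P w hw * g * (refl P w hw)⁻¹) := by
  rw [mul_inv_eq_iff_eq_mul]
  apply orth_ext
  rintro ⟨⟨x, y⟩, v⟩
  rw [orth_mul_apply, orth_mul_apply]
  show (kW P w).1 ((x, y), g.1 v) =
    (hypLift P (refl P w hw * g * (refl P w hw)⁻¹)).1 ((kW P w).1 ((x, y), v))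
  rw [kW_apply hw, kW_apply hw]
  show _ = ((-(P w * y), -((P w)⁻¹ * x)),
    (refl P w hw * g * (refl P w hw)⁻¹).1 ((refl P w hw).1 v))
  rw [orth_mul_apply, orth_mul_apply]
  congr 2
  exact (congrArg g.1 ((refl P w hw).1.symm_apply_apply v)).symm

/-! ### Root elements as commutators in stabilisers -/

/-- The stabiliser of a vector in the group generated by singular root elements. -/
def stabS (P : QuadraticForm F W) (c : W) : Subgroup (orth P) where
  carrier := {g | g ∈ sGroup P ∧ g.1 c = c}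
  one_mem' := ⟨Subgroup.one_mem _, rfl⟩
  mul_mem' {g h} hg hh := ⟨Subgroup.mul_mem _ hg.1 hh.1, by rw [orth_mul_apply, hh.2, hg.2]⟩
  inv_mem' {g} hg := ⟨Subgroup.inv_mem _ hg.1, by
    show g.1.symm c = c
    rw [LinearEquiv.symm_apply_eq, hg.2]⟩

theorem siegel_fix {a b c : W} (ha : P a = 0) (hb : polar P a b = 0) (hac : polar P a c = 0)
    (hbc : polar P b c = 0) : (siegel P a b ha hb).1 c = c := by
  rw [siegel_apply, hac, hbc]
  simp

variable [Fintype F] [FiniteDimensional F W]

/-- A subspace of small dimension leaves a non-degenerate pair in its orthogonal. -/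
theorem exists_pair (hP : (polarBilin P).Nondegenerate) (S : Submodule F W)
    (hS : 2 * Module.finrank F S < Module.finrank F W) :
    ∃ e x : W, (∀ s ∈ S, polar P e s = 0 ∧ polar P x s = 0) ∧ polar P e x = -1 := by
  set L : W →ₗ[F] Module.Dual F S := (polarBilin P).compl₂ S.subtype with hL
  set E := LinearMap.ker L with hE
  have hEmem : ∀ e ∈ E, ∀ s ∈ S, polar P e s = 0 := fun e he s hs =>
    congrArg (fun φ : Module.Dual F S => φ ⟨s, hs⟩) (LinearMap.mem_ker.1 he)
  by_cases hz : ∀ e ∈ E, ∀ x ∈ E, polar P e x = 0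
  · exfalso
    let j : E →ₗ[F] Module.Dual F (W ⧸ E) :=
      { toFun := fun e => E.liftQ (polarBilin P (e : W)) (fun x hx => hz e e.2 x hx)
        map_add' := fun a b => by
          ext x; exact polar_add_left P (a : W) (b : W) x
        map_smul' := fun c a => by
          ext x; exact polar_smul_left P c (a : W) x }
    have hj : Function.Injective j := by
      rw [← LinearMap.ker_eq_bot, LinearMap.ker_eq_bot']
      intro e he
      exact Subtype.ext (hP.1 _ fun y => congrArg (fun φ : Module.Dual F (W ⧸ E) =>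
        φ (Submodule.Quotient.mk y)) he)
    have h1 := LinearMap.finrank_le_finrank_of_injective hj
    rw [Subspace.dual_finrank_eq] at h1
    have h2 := E.finrank_quotient_add_finrank
    have h3 := L.finrank_range_add_finrank_ker
    have h4 := Submodule.finrank_le (LinearMap.range L)
    rw [Subspace.dual_finrank_eq] at h4
    rw [← hE] at h3
    omega
  · push Not at hz
    obtain ⟨e, he, x, hx, hne⟩ := hz
    refine ⟨e, (-(polar P e x)⁻¹) • x, fun s hs => ⟨hEmem e he s hs, ?_⟩, ?_⟩
    · rw [polar_smul_left, hEmem x hx s hs, smul_zero]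
    · rw [polar_smul_right, smul_eq_mul, neg_mul, inv_mul_cancel₀ hne]

/-- With a small span, a root element is a commutator of elements fixing `c`. -/
theorem siegel_mem_stab_of_small (hP : (polarBilin P).Nondegenerate)
    (hn : 5 ≤ Module.finrank F W) {a b c : W} (ha : P a = 0) (hb : P b = 0)
    (hab : polar P a b = 0) (hac : polar P a c = 0) (hbc : polar P b c = 0)
    (S : Submodule F W) (haS : a ∈ S) (hbS : b ∈ S) (hcS : c ∈ S)
    (hS : 2 * Module.finrank F S < Module.finrank F W) :
    siegel P a b ha hab ∈ ⁅stabS P c, stabS P c⁆ := by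
  obtain ⟨e, x, hperp, hex⟩ := exists_pair hP S hS
  have hbe : polar P b e = 0 := by rw [polar_comm]; exact (hperp b hbS).1
  have hea : polar P e a = 0 := (hperp a haS).1
  have hax : polar P a x = 0 := by rw [polar_comm]; exact (hperp a haS).2
  set g := siegel P b e hb hbe with hg
  set X := siegel P a x ha hax with hX
  have hgC : g ∈ stabS P c :=
    ⟨siegel_mem hP hn _ _, siegel_fix _ _ hbc (hperp c hcS).1⟩
  have hXC : X ∈ stabS P c :=
    ⟨siegel_mem hP hn _ _, siegel_fix _ _ hac (hperp c hcS).2⟩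
  have hga : g.1 a = a := siegel_fix _ _ (by rw [polar_comm]; exact hab) hea
  have hgx : g.1 x = x + b := by
    rw [hg, siegel_apply, hex, polar_comm P b x, (hperp b hbS).2]
    simp
  have : siegel P a b ha hab = ⁅g, X⁆ := by
    rw [commutatorElement_def, eq_mul_inv_iff_mul_eq, hX, conj_siegel, siegel_mul]
    apply orth_ext
    intro v
    rw [siegel_apply, siegel_apply, hga, hgx, add_comm b x]
  rw [this]
  exact Subgroup.commutator_mem_commutator hgC hXC

theorem exists_polar_eq_dual (hP : (polarBilin P).Nondegenerate) (φ : Module.Dual F W) :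
    ∃ z, ∀ w, polar P z w = φ w := by
  obtain ⟨z, hz⟩ := (LinearMap.injective_iff_surjective_of_finrank_eq_finrank
    (f := (polarBilin P : W →ₗ[F] Module.Dual F W)) Subspace.dual_finrank_eq.symm).1
    (by
      rw [← LinearMap.ker_eq_bot, LinearMap.ker_eq_bot']
      exact fun z hz => hP.1 z fun y => congrArg (fun ψ : Module.Dual F W => ψ y) hz) φ
  exact ⟨z, fun w => congrArg (fun ψ : Module.Dual F W => ψ w) hz⟩

theorem exists_sq_ne_one (hq : 3 < Fintype.card F) : ∃ μ : F, μ ≠ 0 ∧ μ * μ ≠ 1 := by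
  classical
  by_contra! h
  have hsub : (Finset.univ : Finset F) ⊆ {0, 1, -1} := fun μ _ => by
    by_cases h0 : μ = 0
    · simp [h0]
    · rcases mul_self_eq_one_iff.1 (h μ h0) with e | e <;> simp [e]
  have := Finset.card_le_card hsub
  rw [Finset.card_univ] at this
  have : (({0, 1, -1} : Finset F)).card ≤ 3 := Finset.card_le_three
  omega

/-- For more than three scalars, a root element is a commutator of elements fixing `c`. -/
theorem siegel_mem_stab_of_card (hP : (polarBilin P).Nondegenerate)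
    (hn : 5 ≤ Module.finrank F W) (hq : 3 < Fintype.card F) {a b c : W} (ha : P a = 0)
    (hab : polar P a b = 0) (hac : polar P a c = 0) (hbc : polar P b c = 0)
    (hnm : a ∉ Submodule.span F ({b, c} : Set W)) :
    siegel P a b ha hab ∈ ⁅stabS P c, stabS P c⁆ := by
  obtain ⟨φ, hφa, hφ⟩ := Submodule.exists_dual_map_eq_bot_of_notMem hnm inferInstance
  have hφ0 : ∀ s ∈ Submodule.span F ({b, c} : Set W), φ s = 0 := fun s hs => by
    have := Submodule.mem_map_of_mem (f := φ) hs
    rw [hφ] at this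
    simpa using this
  obtain ⟨z, hz⟩ := exists_polar_eq_dual hP ((φ a)⁻¹ • φ)
  have hza : polar P z a = 1 := by
    rw [hz, LinearMap.smul_apply, smul_eq_mul, inv_mul_cancel₀ hφa]
  have hzb : polar P z b = 0 := by
    rw [hz, LinearMap.smul_apply, hφ0 b (Submodule.subset_span (by simp)), smul_zero]
  have hzc : polar P z c = 0 := by
    rw [hz, LinearMap.smul_apply, hφ0 c (Submodule.subset_span (by simp)), smul_zero]
  set a' := z + (-(P z)) • a with ha'
  have hQa' : P a' = 0 := by
    rw [ha', QuadraticMap.map_add (⇑P), QuadraticMap.map_smul, ha, polar_smul_right, hza]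
    simp
  have haa' : polar P a a' = 1 := by
    rw [ha', polar_add_right, polar_smul_right, polar_self_mul, ha, polar_comm P a z, hza]
    simp
  have ha'b : polar P a' b = 0 := by
    rw [ha', polar_add_left, polar_smul_left, hzb, hab]
    simp
  have ha'c : polar P a' c = 0 := by
    rw [ha', polar_add_left, polar_smul_left, hzc, hac]
    simp
  obtain ⟨μ, hμ0, hμ⟩ := exists_sq_ne_one hq
  have hne : ∀ t : F, t ≠ 0 → P (a - t • a') ≠ 0 := fun t ht => by
    rw [sub_eq_add_neg, ← neg_smul, QuadraticMap.map_add (⇑P), QuadraticMap.map_smul, ha, hQa',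
      polar_smul_right, haa']
    simpa using ht
  set R := refl P (a - μ • a') (hne μ hμ0) with hR
  set σ := refl P (a - (1 : F) • a') (hne 1 one_ne_zero) with hσ
  have hperp : ∀ (t : F) (y : W), polar P a y = 0 → polar P a' y = 0 →
      ∀ h, (refl P (a - t • a') h).1 y = y := fun t y h1 h2 h => by
    rw [refl_apply, polar_sub_left, polar_smul_left, h1, h2]
    simp
  have hσa : σ.1 a = a' := by
    rw [hσ]
    exact (refl_sub_apply (by rw [one_smul, ha, hQa']) (hne 1 one_ne_zero)).trans (one_smul F a')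
  have hRa' : R.1 a' = μ⁻¹ • a := by
    have h1 : R.1 a = μ • a' := refl_sub_apply
      (by rw [QuadraticMap.map_smul, ha, hQa', smul_zero]) (hne μ hμ0)
    have h2 : R.1 (μ • a') = a := by
      rw [← h1]
      exact reflMap_involutive (hne μ hμ0) a
    rw [← h2, map_smul, inv_smul_smul₀ hμ0]
  set h := R * σ * R⁻¹ * σ⁻¹ with hh
  have hinv : ∀ (v : W) (hv : P v ≠ 0), (refl P v hv)⁻¹ = refl P v hv := fun v hv =>
    inv_eq_of_mul_eq_one_right (refl_sq v hv)
  have hhmem : h ∈ sGroup P := by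
    rw [← commutator_eq_sGroup hP hn, commutator_def]
    exact Subgroup.commutator_mem_commutator (Subgroup.mem_top R) (Subgroup.mem_top σ)
  have hha : h.1 a = (μ * μ)⁻¹ • a := by
    rw [hh, hinv _ (hne μ hμ0), hinv _ (hne 1 one_ne_zero), orth_mul_apply, orth_mul_apply,
      orth_mul_apply, hσa, hRa', map_smul, hσa, map_smul, hRa', smul_smul, mul_inv]
  have hfix : ∀ y, polar P a y = 0 → polar P a' y = 0 → h.1 y = y := fun y h1 h2 => by
    rw [hh, hinv _ (hne μ hμ0), hinv _ (hne 1 one_ne_zero), orth_mul_apply, orth_mul_apply,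
      orth_mul_apply, hperp 1 y h1 h2, hperp μ y h1 h2, hperp 1 y h1 h2, hperp μ y h1 h2]
  clear_value h
  have hC : h ∈ stabS P c := ⟨hhmem, hfix c hac ha'c⟩
  have hd : (μ * μ)⁻¹ - 1 ≠ 0 := sub_ne_zero.2 fun e => hμ (inv_eq_one.1 e)
  set k := ((μ * μ)⁻¹ - 1)⁻¹
  have hab' : polar P a (k • b) = 0 := by rw [polar_smul_right, hab, smul_zero]
  set X := siegel P a (k • b) ha hab'
  have hXC : X ∈ stabS P c :=
    ⟨siegel_mem hP hn _ _, siegel_fix _ _ hac (by rw [polar_smul_left, hbc, smul_zero])⟩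
  have : siegel P a b ha hab = ⁅h, X⁆ := by
    rw [commutatorElement_def, eq_mul_inv_iff_mul_eq, conj_siegel, siegel_mul]
    apply orth_ext
    intro v
    rw [siegel_apply, siegel_apply, hha, map_smul, hfix b hab ha'b]
    simp only [polar_smul_left, QuadraticMap.map_smul, polar_add_left, QuadraticMap.map_add (⇑P),
      polar_smul_right, smul_eq_mul]
    have hk : ((μ * μ)⁻¹ - 1) * k = 1 := mul_inv_cancel₀ hd
    have e1 : (μ * μ)⁻¹ * k = 1 + k := by linear_combination hk
    rw [polar_self_mul]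
    match_scalars
    · ring
    · linear_combination (-(polar P a v)) * e1
    · linear_combination (polar P b v + P b * polar P a v * ((μ * μ)⁻¹ * k + 1 + k)) * e1
  rw [this]
  exact Subgroup.commutator_mem_commutator hC hXC

omit [Fintype F] in
/-- In Witt index two, a singular vector orthogonal to a singular pair lies in its span. -/
theorem mem_span_of_aniso {Z : Type*} [AddCommGroup Z] [Module F Z] {A : QuadraticForm F Z}
    (hA : ∀ p, A p = 0 → p = 0) {a b c : (F × F) × (F × F) × Z}
    (ha : hypExt (hypExt A) a = 0) (hb : hypExt (hypExt A) b = 0)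
    (hc : hypExt (hypExt A) c = 0) (hab : polar (hypExt (hypExt A)) a b = 0)
    (hac : polar (hypExt (hypExt A)) a c = 0) (hbc : polar (hypExt (hypExt A)) b c = 0)
    (hne : a ≠ 0) (hbn : b ∉ Submodule.span F {a}) : c ∈ Submodule.span F {a, b} := by
  have hreg : IsReg (hypExt A) := isReg_hypExt (isReg_of_anisotropic hA)
  obtain ⟨h, hh⟩ := exists_map_singular (isReg_hypExt hreg) ha
    (v := ((1, 0), 0)) (by simp [hypExt_apply]) hne (by simp [Prod.ext_iff])
  obtain ⟨⟨⟨t, s⟩, z⟩, hb'⟩ : ∃ v, h.1 b = v := ⟨_, rfl⟩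
  obtain ⟨⟨⟨t', s'⟩, z'⟩, hc'⟩ : ∃ v, h.1 c = v := ⟨_, rfl⟩
  rw [← polar_orth h, hh, hb', polar_hypExt] at hab
  rw [← polar_orth h, hh, hc', polar_hypExt] at hac
  obtain rfl : s = 0 := by simpa using hab
  obtain rfl : s' = 0 := by simpa using hac
  rw [← map_orth h, hb', hypExt_apply, mul_zero, zero_add] at hb
  rw [← map_orth h, hc', hypExt_apply, mul_zero, zero_add] at hc
  rw [← polar_orth h, hb', hc', polar_hypExt, mul_zero, mul_zero, zero_add, zero_add] at hbc
  have hz0 : z ≠ 0 := fun e => hbn (Submodule.mem_span_singleton.2 ⟨t, h.1.injective (by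
    rw [map_smul, hh, hb', e]
    simp)⟩)
  obtain ⟨k, hk⟩ := exists_map_singular hreg hb (v := ((1, 0), 0)) (by simp [hypExt_apply]) hz0
    (by simp [Prod.ext_iff])
  obtain ⟨⟨⟨x, y⟩, p⟩, hz'⟩ : ∃ v, k.1 z' = v := ⟨_, rfl⟩
  rw [← polar_orth k, hk, hz', polar_hypExt] at hbc
  obtain rfl : y = 0 := by simpa using hbc
  rw [← map_orth k, hz', hypExt_apply, mul_zero, zero_add] at hc
  obtain rfl := hA p hc
  have hzz : z' = x • z := k.1.injective (by rw [map_smul, hz', hk]; simp)
  rw [Submodule.mem_span_pair]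
  refine ⟨t' - x * t, x, h.1.injective ?_⟩
  rw [map_add, map_smul, map_smul, hh, hb', hc', hzz]
  simp [Prod.ext_iff]

end Cfsg.Agent.OrthMinDegree32Geom
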