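import Mathlib
import Cfsg.Agent.Lib.OrthMinDegree32Geom
import Cfsg.Agent.Lib.OrthUnitaryForms
import Cfsg.Agent.Lib.PSLCard

/-!
Counting for orthogonal spaces: level sets, singular orthogonal pairs and root elements.
-/

set_option autoImplicit false

namespace Cfsg.Agent.OrthMinDegree32Count

open QuadraticMap
open Cfsg.Agent.OrthUnitaryQuad
open Cfsg.Agent.OrthUnitaryRefl
open Cfsg.Agent.OrthUnitaryForms
open Cfsg.Agent.OrthUnitaryStd
open Cfsg.Agent.OrthUnitarySimple
open Cfsg.Agent.OrthUnitaryOmega
open Cfsg.Agent.OrthMinDegree32Geom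
open scoped MatrixGroups

variable {F W : Type*} [Field F] [Fintype F] [AddCommGroup W] [Module F W]

/-- The number of vectors of a given norm. -/
noncomputable def lev (Q : QuadraticForm F W) (a : F) : ℤ := (Nat.card {x // Q x = a} : ℤ)

theorem lev_congr {V : Type*} [AddCommGroup V] [Module F V] {Q : QuadraticForm F V}
    {Q' : QuadraticForm F W} (e : V ≃ₗ[F] W) (h : ∀ x, Q' (e x) = Q x) (a : F) :
    lev Q a = lev Q' a := by
  unfold lev
  rw [Nat.card_congr (e.toEquiv.subtypeEquiv (p := fun x => Q x = a) (q := fun y => Q' y = a)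
    fun x => by
      show Q x = a ↔ Q' (e x) = a
      rw [h])]

variable [Finite W]

theorem lev_hypExt (Q : QuadraticForm F W) (a : F) :
    lev (hypExt Q) a = (Fintype.card F - 1) * Nat.card W + Fintype.card F * lev Q a := by
  classical
  cases nonempty_fintype W
  have e : {v // hypExt Q v = a} ≃ (Σ x : F, {p : F × W // x * p.1 + Q p.2 = a}) :=
    { toFun := fun v => ⟨v.1.1.1, (v.1.1.2, v.1.2), by
        have h := v.2
        rw [← Prod.mk.eta (p := v.1), ← Prod.mk.eta (p := v.1.1), hypExt_apply] at h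
        exact h⟩
      invFun := fun p => ⟨((p.1, p.2.1.1), p.2.1.2), by rw [hypExt_apply]; exact p.2.2⟩
      left_inv := fun v => rfl
      right_inv := fun p => rfl }
  unfold lev
  rw [Nat.card_congr e, Nat.card_sigma, ← Finset.add_sum_erase _ _ (Finset.mem_univ (0 : F))]
  have h0 : Nat.card {p : F × W // (0 : F) * p.1 + Q p.2 = a}
      = Fintype.card F * Nat.card {x // Q x = a} := by
    rw [← Nat.card_eq_fintype_card, ← Nat.card_prod]
    exact Nat.card_congr
      { toFun := fun p => (p.1.1, ⟨p.1.2, by simpa using p.2⟩)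
        invFun := fun p => ⟨(p.1, p.2.1), by simp [p.2.2]⟩
        left_inv := fun p => rfl
        right_inv := fun p => rfl }
  have h1 : ∀ x ∈ (Finset.univ.erase (0 : F)),
      Nat.card {p : F × W // x * p.1 + Q p.2 = a} = Nat.card W := by
    intro x hx
    have hx0 : x ≠ 0 := Finset.ne_of_mem_erase hx
    refine Nat.card_congr
      { toFun := fun p => p.1.2
        invFun := fun w => ⟨((a - Q w) / x, w), by field_simp; ring⟩
        left_inv := fun p => ?_
        right_inv := fun w => rfl }
    apply Subtype.ext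
    refine Prod.ext ?_ rfl
    have h := p.2
    rw [div_eq_iff hx0]
    linear_combination -h
  rw [h0, Finset.sum_congr rfl h1, Finset.sum_const, Finset.card_erase_of_mem (Finset.mem_univ _),
    Finset.card_univ, smul_eq_mul]
  push_cast [Nat.cast_sub Fintype.card_pos]
  ring

omit [Fintype F] in
theorem card_eq_pow_finrank' [Finite F] [Module.Finite F W] :
    Nat.card W = Nat.card F ^ Module.finrank F W := Module.natCard_eq_pow_finrank

theorem q_mul_lev_withBase {d : ℕ} (hW : Nat.card W = Fintype.card F ^ d)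
    (Q : QuadraticForm F W) (a : F) (m : ℕ) :
    (Fintype.card F : ℤ) * lev (withBase m Q) a
      = (Fintype.card F : ℤ) ^ (2 * m + d) + (Fintype.card F : ℤ) ^ m *
          ((Fintype.card F : ℤ) * lev Q a - (Fintype.card F : ℤ) ^ d) := by
  induction m with
  | zero =>
    have : lev (withBase 0 Q) a = lev Q a :=
      lev_congr (dropZero (F := F) (W := W)) (dropZero_isometry Q) a
    rw [this]
    ring
  | succ m ih =>
    rw [← lev_congr (splitEquiv m) (splitEquiv_isometry m Q), lev_hypExt,
      card_withBase_space hW, Nat.cast_pow, mul_add, mul_left_comm, ih]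
    ring

omit [Fintype F] [Finite W] in
theorem lev_qfNil [DecidableEq F] (a : F) : lev (qfNil F) a = if a = 0 then 1 else 0 := by
  unfold lev
  by_cases ha : a = 0
  · subst ha
    rw [if_pos rfl, card_zero_of_aniso (qfNil F) fun x _ => Subsingleton.elim x 0]
    rfl
  · rw [if_neg ha]
    have : IsEmpty {x : Fin 0 → F // qfNil F x = a} := ⟨fun x => ha (by
      have := x.2
      simpa [qfNil] using this.symm)⟩
    simp

omit [Finite W] in
theorem lev_qfBin [DecidableEq F] {α β : F} (hab : IsAniso α β) (a : F) :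
    lev (qfBin α β) a = if a = 0 then 1 else (Fintype.card F : ℤ) + 1 := by
  unfold lev
  by_cases ha : a = 0
  · subst ha
    rw [if_pos rfl, card_zero_of_aniso (qfBin α β) fun x hx => eq_zero_of_qfBin hab hx]
    rfl
  rw [if_neg ha]
  obtain ⟨z, hz⟩ := exists_map_eq (isReg_qfBin hab) (by simp) a
  -- multiplication by `z` in the quadratic algebra
  let M : (Fin 2 → F) →ₗ[F] (Fin 2 → F) :=
    { toFun := fun x => ![z 0 * x 0 - β * z 1 * x 1, z 0 * x 1 + z 1 * x 0 + α * z 1 * x 1]
      map_add' := fun x y => by funext i; fin_cases i <;> simp <;> ring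
      map_smul' := fun c x => by funext i; fin_cases i <;> simp <;> ring }
  have hM : ∀ x, qfBin α β (M x) = a * qfBin α β x := fun x => by
    rw [← hz]
    simp [M, qfBin_apply]
    ring
  have hinj : Function.Injective M := by
    rw [← LinearMap.ker_eq_bot, LinearMap.ker_eq_bot']
    intro x hx
    refine eq_zero_of_qfBin hab ((mul_eq_zero.1 ?_).resolve_left ha)
    rw [← hM, hx, QuadraticMap.map_zero]
  have hbij : Function.Bijective M := ⟨hinj, LinearMap.injective_iff_surjective.1 hinj⟩
  have h1 := card_qfBin_eq_one hab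
  rw [← Nat.card_congr ((Equiv.ofBijective M hbij).subtypeEquiv fun x => ?_), h1]
  · push_cast
    rfl
  · show qfBin α β x = 1 ↔ qfBin α β (M x) = a
    rw [hM]
    exact ⟨fun h => by rw [h, mul_one], fun h => mul_left_cancel₀ ha (h.trans (mul_one a).symm)⟩

/-! ### Root elements -/

section Roots

variable {V : Type*} [AddCommGroup V] [Module F V] {Q : QuadraticForm F V}

omit [Fintype F] in
theorem siegel_apply_singular {a b : V} (ha : Q a = 0) (hb : Q b = 0) (hab : polar Q a b = 0)
    (v : V) : (siegel Q a b ha hab).1 v = v + polar Q a v • b - polar Q b v • a := by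
  rw [siegel_apply, hb, zero_mul, add_zero]

/-- A singular orthogonal pair spanning a plane. -/
def IsPair (Q : QuadraticForm F V) (p : V × V) : Prop :=
  (Q p.1 = 0 ∧ Q p.2 = 0 ∧ polar Q p.1 p.2 = 0) ∧ LinearIndependent F ![p.1, p.2]

/-- The root element of a pair. -/
noncomputable def root (p : {p : V × V // IsPair Q p}) : orth Q :=
  siegel Q p.1.1 p.1.2 p.2.1.1 p.2.1.2.2

omit [Fintype F] in
theorem root_apply (p : {p : V × V // IsPair Q p}) (v : V) :
    (root p).1 v = v + polar Q p.1.1 v • p.1.2 - polar Q p.1.2 v • p.1.1 :=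
  siegel_apply_singular _ p.2.1.2.1 _ v

omit [Fintype F] in
theorem comb_eq_zero {p : {p : V × V // IsPair Q p}} {x y : F}
    (h : x • p.1.1 + y • p.1.2 = 0) : x = 0 ∧ y = 0 :=
  LinearIndependent.pair_iff.1 p.2.2 x y h

omit [Fintype F] in
theorem isPair_comb (p : {p : V × V // IsPair Q p}) (M : SL(2, F)) :
    IsPair Q (M.1 0 0 • p.1.1 + M.1 0 1 • p.1.2, M.1 1 0 • p.1.1 + M.1 1 1 • p.1.2) := by
  obtain ⟨⟨⟨a, b⟩, ⟨ha, hb, hab⟩, hli⟩, hp⟩ : ∃ p', p' = p := ⟨p, rfl⟩
  subst hp
  dsimp only at ha hb hab hli ⊢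
  refine ⟨⟨?_, ?_, ?_⟩, ?_⟩
  · simp [QuadraticMap.map_add (⇑Q), QuadraticMap.map_smul, polar_smul_left, polar_smul_right,
      ha, hb, hab]
  · simp [QuadraticMap.map_add (⇑Q), QuadraticMap.map_smul, polar_smul_left, polar_smul_right,
      ha, hb, hab]
  · simp [polar_add_left, polar_add_right, polar_smul_left, polar_smul_right, polar_self_mul,
      ha, hb, hab, polar_comm Q b a]
  · rw [LinearIndependent.pair_iff]
    intro x y h
    obtain ⟨e1, e2⟩ := LinearIndependent.pair_iff.1 hli (x * M.1 0 0 + y * M.1 1 0)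
      (x * M.1 0 1 + y * M.1 1 1) (by rw [← h]; module)
    have hdet : M.1 0 0 * M.1 1 1 - M.1 0 1 * M.1 1 0 = 1 := by
      rw [← Matrix.det_fin_two]; exact M.2
    constructor
    · linear_combination M.1 1 1 * e1 - M.1 1 0 * e2 - x * hdet
    · linear_combination M.1 0 0 * e2 - M.1 0 1 * e1 - y * hdet

/-- Pairs with the same root element differ by an element of `SL 2`. -/
theorem card_fibre_root [FiniteDimensional F V] (hQ : (polarBilin Q).Nondegenerate)
    (p : {p : V × V // IsPair Q p}) :
    Nat.card {p' : {p : V × V // IsPair Q p} // root p' = root p} =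
      Fintype.card F * (Fintype.card F ^ 2 - 1) := by
  rw [← Nat.card_eq_fintype_card (α := F), ← PSLCard.card_SL2 (F := F)]
  -- test vectors
  have test : ∀ p : {p : V × V // IsPair Q p}, ∀ s t : F, ∃ v, polar Q p.1.1 v = s ∧
      polar Q p.1.2 v = t := by
    intro p s t
    obtain ⟨φ, hφ⟩ : ∃ φ : Module.Dual F V, φ p.1.1 = s ∧ φ p.1.2 = t := by
      have hli' : LinearIndepOn F id (Set.range ![p.1.1, p.1.2]) := p.2.2.linearIndepOn_id
      obtain ⟨g, hg⟩ := LinearMap.exists_extend
        ((Module.Basis.span p.2.2).constr F ![s, t] : Submodule.span F _ →ₗ[F] F)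
      have hb : ∀ i, g (![p.1.1, p.1.2] i) = ![s, t] i := fun i => by
        have h := congrArg (fun T => T (Module.Basis.span p.2.2 i)) hg
        simp only [LinearMap.comp_apply, Submodule.subtype_apply, Module.Basis.constr_basis] at h
        rwa [Module.Basis.span_apply] at h
      exact ⟨g, hb 0, hb 1⟩
    obtain ⟨v, hv⟩ := exists_polar_eq_dual hQ φ
    exact ⟨v, by rw [polar_comm, hv, hφ.1], by rw [polar_comm, hv, hφ.2]⟩
  refine (Nat.card_eq_of_bijective (fun M : SL(2, F) =>
    (⟨⟨_, isPair_comb p M⟩, ?_⟩ : {p' : {p : V × V // IsPair Q p} // root p' = root p}))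
    ⟨?_, ?_⟩).symm
  · apply orth_ext
    intro v
    have hdet : M.1 0 0 * M.1 1 1 - M.1 0 1 * M.1 1 0 = 1 := by
      rw [← Matrix.det_fin_two]; exact M.2
    rw [root_apply, root_apply]
    simp only [polar_add_left, polar_smul_left, smul_eq_mul]
    match_scalars
    · ring
    · linear_combination (-(polar Q p.1.2 v)) * hdet
    · linear_combination (polar Q p.1.1 v) * hdet
  · intro M N h
    have h1 := congrArg (fun x : {p' : {p : V × V // IsPair Q p} // root p' = root p} => x.1.1.1) h
    have h2 := congrArg (fun x : {p' : {p : V × V // IsPair Q p} // root p' = root p} => x.1.1.2) h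
    dsimp only at h1 h2
    obtain ⟨a1, b1⟩ := comb_eq_zero (p := p) (x := M.1 0 0 - N.1 0 0) (y := M.1 0 1 - N.1 0 1)
      (by rw [← sub_eq_zero] at h1; rw [← h1]; module)
    obtain ⟨a2, b2⟩ := comb_eq_zero (p := p) (x := M.1 1 0 - N.1 1 0) (y := M.1 1 1 - N.1 1 1)
      (by rw [← sub_eq_zero] at h2; rw [← h2]; module)
    apply Subtype.ext
    ext i j
    fin_cases i <;> fin_cases j
    · exact sub_eq_zero.1 a1
    · exact sub_eq_zero.1 b1
    · exact sub_eq_zero.1 a2
    · exact sub_eq_zero.1 b2
  · rintro ⟨p', hp'⟩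
    have key : ∀ v, polar Q p'.1.1 v • p'.1.2 - polar Q p'.1.2 v • p'.1.1 =
        polar Q p.1.1 v • p.1.2 - polar Q p.1.2 v • p.1.1 := fun v => by
      have h := congrArg (fun g : orth Q => g.1 v) hp'
      simp only [root_apply] at h
      rw [add_sub_assoc, add_sub_assoc] at h
      exact add_left_cancel h
    obtain ⟨v, hv1, hv2⟩ := test p' 0 (-1)
    obtain ⟨v', hv1', hv2'⟩ := test p' 1 0
    have ea : p'.1.1 = (-(polar Q p.1.2 v)) • p.1.1 + polar Q p.1.1 v • p.1.2 := by
      have h := key v
      rw [hv1, hv2] at h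
      rw [show p'.1.1 = (0 : F) • p'.1.2 - (-1 : F) • p'.1.1 by module, h]
      module
    have eb : p'.1.2 = (-(polar Q p.1.2 v')) • p.1.1 + polar Q p.1.1 v' • p.1.2 := by
      have h := key v'
      rw [hv1', hv2'] at h
      rw [show p'.1.2 = (1 : F) • p'.1.2 - (0 : F) • p'.1.1 by module, h]
      module
    set α := -(polar Q p.1.2 v)
    set β := polar Q p.1.1 v
    set γ := -(polar Q p.1.2 v')
    set δ := polar Q p.1.1 v'
    obtain ⟨w, hw1, hw2⟩ := test p 1 0
    have hdet : α * δ - β * γ = 1 := by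
      have h := key w
      rw [ea, eb, polar_add_left, polar_add_left, polar_smul_left, polar_smul_left,
        polar_smul_left, polar_smul_left, hw1, hw2] at h
      obtain ⟨-, e⟩ := comb_eq_zero (p := p)
        (x := α * γ - γ * α) (y := α * δ - γ * β - 1) (by
          rw [← sub_eq_zero] at h
          rw [← h]
          simp only [smul_eq_mul]
          module)
      linear_combination e
    exact ⟨⟨!![α, β; γ, δ], by rw [Matrix.det_fin_two_of]; exact hdet⟩,
      Subtype.ext (Subtype.ext (Prod.ext ea.symm eb.symm))⟩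

end Roots

/-! ### The number of pairs -/

variable [FiniteDimensional F W] {P : QuadraticForm F W}

theorem card_pairs (hP : (polarBilin P).Nondegenerate) (hU : IsUniv P) :
    (Nat.card {p : ((F × F) × W) × ((F × F) × W) // IsPair (hypExt P) p} : ℤ) =
      (lev (hypExt P) 0 - 1) * (Fintype.card F * (lev P 0 - 1)) := by
  classical
  cases nonempty_fintype W
  set u : (F × F) × W := ((1, 0), 0) with hu
  let S := {v : (F × F) × W // hypExt P v = 0 ∧ v ≠ 0}
  have hS : (Nat.card S : ℤ) = lev (hypExt P) 0 - 1 := by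
    unfold lev
    rw [Nat.card_eq_fintype_card, Nat.card_eq_fintype_card, Fintype.card_subtype,
      Fintype.card_subtype, ← Finset.filter_filter, Finset.filter_ne',
      Finset.card_erase_of_mem (by simp),
      Nat.cast_sub (Finset.card_pos.2 ⟨0, by simp⟩)]
    rfl
  let e : {p : ((F × F) × W) × ((F × F) × W) // IsPair (hypExt P) p} ≃
      Σ v : S, {b : (F × F) × W // IsPair (hypExt P) (v.1, b)} :=
    { toFun := fun p => ⟨⟨p.1.1, p.2.1.1, fun h => p.2.2.ne_zero 0 (by simpa using h)⟩,
        ⟨p.1.2, p.2⟩⟩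
      invFun := fun s => ⟨(s.1.1, s.2.1), s.2.2⟩
      left_inv := fun p => rfl
      right_inv := fun s => rfl }
  have hu0 : u ≠ 0 := by simp [hu, Prod.ext_iff]
  have hfib : ∀ v : S, (Nat.card {b : (F × F) × W // IsPair (hypExt P) (v.1, b)} : ℤ) =
      Fintype.card F * (lev P 0 - 1) := by
    intro v
    obtain ⟨h, -, hv⟩ := exists_mem_HS hP hU v.2.2 hu0 (by rw [v.2.1]; simp [hu, hypExt_apply])
    let g : {b : (F × F) × W // IsPair (hypExt P) (v.1, b)} ≃
        {b : (F × F) × W // IsPair (hypExt P) (u, b)} :=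
      h.1.toEquiv.subtypeEquiv fun b => by
        show IsPair _ (v.1, b) ↔ IsPair _ (u, h.1 b)
        rw [← hv]
        simp only [IsPair, map_orth h, polar_orth h]
        refine and_congr_right fun _ => ?_
        rw [show ![h.1 v.1, h.1 b] = (h.1 : _ →ₗ[F] _) ∘ ![v.1, b] from
          funext fun i => by fin_cases i <;> rfl]
        exact (LinearMap.linearIndependent_iff_of_injOn _
          (fun _ _ _ _ e => h.1.injective e)).symm
    let k : {b : (F × F) × W // IsPair (hypExt P) (u, b)} ≃ F × {z : W // P z = 0 ∧ z ≠ 0} :=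
      { toFun := fun b => (b.1.1.1, ⟨b.1.2, by
          obtain ⟨⟨⟨t, s⟩, z⟩, ⟨-, hb, hub⟩, hli⟩ := b
          obtain rfl : s = 0 := by simpa [hu, polar_hypExt] using hub
          refine ⟨by simpa [hypExt_apply] using hb, fun hz => ?_⟩
          obtain rfl : z = 0 := hz
          have := (LinearIndependent.pair_iff.1 hli t (-1) (by simp [hu, Prod.ext_iff])).2
          simp at this⟩)
        invFun := fun x => ⟨((x.1, 0), x.2.1), ⟨by simp [hu, hypExt_apply],
          by simp [hypExt_apply, x.2.2.1], by simp [hu, polar_hypExt]⟩,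
          LinearIndependent.pair_iff.2 fun s t h => by
            simp [hu, Prod.ext_iff] at h
            have ht : t = 0 := (h.2).resolve_right x.2.2.2
            exact ⟨by simpa [ht] using h.1, ht⟩⟩
        left_inv := fun b => by
          obtain ⟨⟨⟨t, s⟩, z⟩, ⟨-, hb, hub⟩, hli⟩ := b
          obtain rfl : s = 0 := by simpa [hu, polar_hypExt] using hub
          rfl
        right_inv := fun x => rfl }
    rw [Nat.card_congr (g.trans k), Nat.card_prod, Nat.cast_mul, Nat.card_eq_fintype_card (α := F)]
    congr 1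
    unfold lev
    rw [Nat.card_eq_fintype_card, Nat.card_eq_fintype_card, Fintype.card_subtype,
      Fintype.card_subtype, ← Finset.filter_filter, Finset.filter_ne',
      Finset.card_erase_of_mem (by simp),
      Nat.cast_sub (Finset.card_pos.2 ⟨0, by simp⟩)]
    rfl
  rw [Nat.card_congr e, Nat.card_sigma, Nat.cast_sum, Finset.sum_congr rfl (fun v _ => hfib v),
    Finset.sum_const, Finset.card_univ, nsmul_eq_mul, ← Nat.card_eq_fintype_card (α := S), hS]

end Cfsg.Agent.OrthMinDegree32Count
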