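import Mathlib
import Cfsg.Agent.Lib.TwoGenSiegel
import Cfsg.Agent.Lib.OrthMinDegree32Count

/-!
Tools for subgroups of small index of orthogonal groups: hyperbolic pairs and their complements, the elements
exchanging the two vectors of a hyperbolic pair, transitivity, and singular vectors in hyperplanes.
-/

set_option autoImplicit false

namespace Cfsg.Agent.MinIndexOrthTools

open QuadraticMap
open Cfsg.Agent.OrthUnitaryQuad Cfsg.Agent.OrthUnitaryRefl Cfsg.Agent.OrthUnitaryOmega
open Cfsg.Agent.OrthUnitarySimple Cfsg.Agent.TwoGenSiegel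

variable {F V : Type*} [Field F] [AddCommGroup V] [Module F V] {Q : QuadraticForm F V}

theorem act_mul {g h : orth Q} (x : V) : (g * h).1 x = g.1 (h.1 x) := rfl

theorem act_inv_apply (g : orth Q) (x : V) : (g⁻¹ : orth Q).1 (g.1 x) = x := by
  rw [← act_mul, inv_mul_cancel]; rfl

theorem act_apply_inv (g : orth Q) (x : V) : g.1 ((g⁻¹ : orth Q).1 x) = x := by
  rw [← act_mul, mul_inv_cancel]; rfl

/-- A hyperbolic pair. -/
structure Hyp (Q : QuadraticForm F V) (u u' : V) : Prop where
  hu : Q u = 0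
  hu' : Q u' = 0
  huu' : polar Q u u' = 1

namespace Hyp

variable {u u' : V} (hp : Hyp Q u u')

include hp

theorem symm : Hyp Q u' u := ⟨hp.hu', hp.hu, by rw [polar_comm, hp.huu']⟩

theorem uu : polar Q u u = 0 := by rw [polar_self_mul, hp.hu, mul_zero]

theorem u'u' : polar Q u' u' = 0 := by rw [polar_self_mul, hp.hu', mul_zero]

theorem u'u : polar Q u' u = 1 := hp.symm.huu'

theorem ne_zero : u ≠ 0 := fun h => by
  have := hp.huu'
  rw [h, polar_zero_left] at this
  exact zero_ne_one this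

theorem map (g : orth Q) : Hyp Q (g.1 u) (g.1 u') :=
  ⟨by rw [map_orth g, hp.hu], by rw [map_orth g, hp.hu'], by rw [polar_orth g, hp.huu']⟩

end Hyp

/-- The orthogonal complement of two vectors. -/
def comp (Q : QuadraticForm F V) (u u' : V) : Submodule F V :=
  LinearMap.ker (polarBilin Q u) ⊓ LinearMap.ker (polarBilin Q u')

theorem mem_comp {u u' x : V} : x ∈ comp Q u u' ↔ polar Q u x = 0 ∧ polar Q u' x = 0 := Iff.rfl

theorem mem_comp' {u u' x : V} : x ∈ comp Q u u' ↔ polar Q x u = 0 ∧ polar Q x u' = 0 := by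
  rw [mem_comp, polar_comm Q u, polar_comm Q u']

theorem comp_comm (Q : QuadraticForm F V) (u u' : V) : comp Q u u' = comp Q u' u :=
  inf_comm _ _

/-- The projection to the complement of a hyperbolic pair. -/
def proj (Q : QuadraticForm F V) (u u' x : V) : V := x - polar Q u' x • u - polar Q u x • u'

theorem proj_mem {u u' : V} (hp : Hyp Q u u') (x : V) : proj Q u u' x ∈ comp Q u u' := by
  constructor <;>
    simp [proj, polar_sub_right, polar_smul_right, hp.uu, hp.u'u', hp.huu', hp.u'u]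

theorem polar_proj {u u' a : V} (ha : a ∈ comp Q u u') (x : V) :
    polar Q a (proj Q u u' x) = polar Q a x := by
  obtain ⟨h1, h2⟩ := mem_comp'.1 ha
  simp [proj, polar_sub_right, polar_smul_right, h1, h2]

theorem proj_of_mem {u u' x : V} (hx : x ∈ comp Q u u') : proj Q u u' x = x := by
  simp [proj, show polar Q u x = 0 from hx.1, show polar Q u' x = 0 from hx.2]

theorem eq_decomp (Q : QuadraticForm F V) (u u' x : V) :
    x = polar Q u' x • u + polar Q u x • u' + proj Q u u' x := by
  rw [proj]; abel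

theorem nondeg_comp (hQ : (polarBilin Q).Nondegenerate) {u u' : V} (hp : Hyp Q u u') :
    (polarBilin (Q.restrict (comp Q u u'))).Nondegenerate := by
  refine OrthUnitaryStd.nondegenerate_iff_left _ fun x hx => Subtype.ext (hQ.1 x fun y => ?_)
  show polar Q (x : V) y = 0
  rw [← polar_proj x.2 y]
  exact hx ⟨_, proj_mem hp y⟩

/-- The splitting of the space at a hyperbolic pair. -/
def splitPair {u u' : V} (hp : Hyp Q u u') : ((F × F) × comp Q u u') ≃ₗ[F] V where
  toFun p := p.1.1 • u + p.1.2 • u' + p.2.1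
  map_add' p p' := by simp only [Prod.fst_add, Prod.snd_add, Submodule.coe_add]; module
  map_smul' c p := by
    simp only [Prod.smul_fst, Prod.smul_snd, smul_eq_mul, Submodule.coe_smul, RingHom.id_apply]
    module
  invFun x := ((polar Q u' x, polar Q u x), ⟨_, proj_mem hp x⟩)
  left_inv p := by
    obtain ⟨⟨a, b⟩, x, hx⟩ := p
    have h1 : polar Q u x = 0 := hx.1
    have h2 : polar Q u' x = 0 := hx.2
    have ha : polar Q u' (a • u + b • u' + x) = a := by
      simp [polar_add_right, polar_smul_right, hp.u'u, hp.u'u', h2]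
    have hb : polar Q u (a • u + b • u' + x) = b := by
      simp [polar_add_right, polar_smul_right, hp.uu, hp.huu', h1]
    simp only [proj, ha, hb, Prod.mk.injEq, Subtype.mk.injEq, true_and]
    module
  right_inv x := (eq_decomp Q u u' x).symm

theorem splitPair_isometry {u u' : V} (hp : Hyp Q u u') (p : (F × F) × comp Q u u') :
    Q (splitPair hp p) = hypExt (Q.restrict (comp Q u u')) p := by
  obtain ⟨⟨a, b⟩, x, hx⟩ := p
  show Q (a • u + b • u' + x) = _
  rw [hypExt_apply, QuadraticMap.restrict_apply, QuadraticMap.map_add (⇑Q),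
    QuadraticMap.map_add (⇑Q) (a • u), QuadraticMap.map_smul, QuadraticMap.map_smul, hp.hu, hp.hu']
  simp [polar_add_left, polar_smul_left, polar_smul_right, hp.huu', show polar Q u x = 0 from hx.1,
    show polar Q u' x = 0 from hx.2, mul_comm]

theorem finrank_comp [FiniteDimensional F V] {u u' : V} (hp : Hyp Q u u') :
    Module.finrank F (comp Q u u') + 2 = Module.finrank F V := by
  rw [← (splitPair hp).finrank_eq, finrank_hypExt_space]

theorem card_comp [Finite F] [FiniteDimensional F V] {u u' : V} (hp : Hyp Q u u') :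
    Nat.card F ^ 2 * Nat.card (comp Q u u') = Nat.card V := by
  rw [← Nat.card_congr (splitPair hp).toEquiv, Nat.card_prod, Nat.card_prod, pow_two]

/-- Every singular non-zero vector is in a hyperbolic pair. -/
theorem exists_hyp (hQ : (polarBilin Q).Nondegenerate) {u : V} (hu : Q u = 0) (hu0 : u ≠ 0) :
    ∃ u', Hyp Q u u' := by
  obtain ⟨z, hz⟩ := exists_polar_ne_zero (isReg_of_nondegenerate hQ) hu hu0
  obtain ⟨z', h1⟩ : ∃ z', polar Q u z' = 1 :=
    ⟨(polar Q u z)⁻¹ • z, by rw [polar_smul_right, smul_eq_mul, inv_mul_cancel₀ hz]⟩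
  refine ⟨z' - Q z' • u, hu, ?_, ?_⟩
  · rw [sub_eq_add_neg, ← neg_smul, QuadraticMap.map_add (⇑Q), QuadraticMap.map_smul, hu,
      polar_smul_right, polar_comm Q z' u, h1]
    simp
  · rw [polar_sub_right, polar_smul_right, h1, polar_self_mul, hu]
    simp

/-- A hyperbolic pair inside a complement. -/
theorem exists_hyp_comp (hQ : (polarBilin Q).Nondegenerate) {u u' v : V} (hp : Hyp Q u u')
    (hv : v ∈ comp Q u u') (hv0 : v ≠ 0) (hQv : Q v = 0) :
    ∃ v', v' ∈ comp Q u u' ∧ Hyp Q v v' := by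
  obtain ⟨w, hw⟩ := exists_hyp (nondeg_comp hQ hp) (u := (⟨v, hv⟩ : comp Q u u')) hQv
    fun h => hv0 (congrArg Subtype.val h)
  exact ⟨w.1, w.2, hQv, hw.hu', hw.huu'⟩

/-! ### Siegel transformations in the generated group -/

section Finite

variable [Fintype F] [FiniteDimensional F V]

theorem rtS (hQ : (polarBilin Q).Nondegenerate) (hn : 5 ≤ Module.finrank F V) {u w : V}
    (hu : Q u = 0) (hw : polar Q u w = 0) : Rt (sGroup Q) u w :=
  ⟨hu, hw, siegel_mem hQ hn hu hw⟩

end Finite

/-- The element built from three Siegel transformations exchanging the vectors of a hyperbolic pair. -/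
theorem exists_flip {M : Subgroup (orth Q)} {a b y : V} (hab : Hyp Q a b) (hy : y ∈ comp Q a b)
    (hQy : Q y ≠ 0) (ha : Rt M a y) (hb : Rt M b ((Q y)⁻¹ • y)) :
    ∃ h ∈ M, h.1 a = -((Q y)⁻¹ • b) ∧ h.1 b = -(Q y • a) ∧
      ∀ x ∈ comp Q a b, h.1 x = x - ((Q y)⁻¹ * polar Q y x) • y := by
  obtain ⟨ha1, ha2, ha3⟩ := ha
  obtain ⟨hb1, hb2, hb3⟩ := hb
  obtain ⟨hya, hyb⟩ := mem_comp'.1 hy
  have hay : polar Q a y = 0 := hy.1
  have hby : polar Q b y = 0 := hy.2
  refine ⟨_, mul_mem (mul_mem ha3 hb3) ha3, ?_, ?_, fun x hx => ?_⟩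
  · simp only [act_mul, siegel_apply, polar_add_right, polar_sub_right, polar_smul_right,
      polar_smul_left, QuadraticMap.map_smul, polar_self_mul, hab.huu', hab.u'u, hab.hu, hab.hu',
      hay, hby, hya, hyb, smul_eq_mul]
    match_scalars <;> field_simp <;> ring
  · simp only [act_mul, siegel_apply, polar_add_right, polar_sub_right, polar_smul_right,
      polar_smul_left, QuadraticMap.map_smul, polar_self_mul, hab.huu', hab.u'u, hab.hu, hab.hu',
      hay, hby, hya, hyb, smul_eq_mul]
    match_scalars <;> field_simp <;> ring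
  · have h1 : polar Q a x = 0 := hx.1
    have h2 : polar Q b x = 0 := hx.2
    simp only [act_mul, siegel_apply, polar_add_right, polar_sub_right, polar_smul_right,
      polar_smul_left, QuadraticMap.map_smul, polar_self_mul, hab.huu', hab.u'u, hab.hu, hab.hu',
      hay, hby, hya, hyb, h1, h2, smul_eq_mul]
    match_scalars <;> field_simp <;> ring

theorem exists_flip_apply_perp {h : orth Q} {a b y x : V} {c : F}
    (hh : ∀ x ∈ comp Q a b, h.1 x = x - (c * polar Q y x) • y) (hx : x ∈ comp Q a b)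
    (hyx : polar Q y x = 0) : h.1 x = x := by
  rw [hh x hx, hyx, mul_zero, zero_smul, sub_zero]

/-- Two descriptions of a long root element. -/
theorem rt_wedge {M : Subgroup (orth Q)} {u v : V} (hu : Q u = 0) (hv : Q v = 0)
    (huv : polar Q u v = 0) {a b c e s t : F} (ht : t = s * (a * e - b * c)) (h : Rt M u (t • v)) :
    Rt M (a • u + b • v) (s • (c • u + e • v)) := by
  obtain ⟨h1, h2, h3⟩ := h
  have hvu : polar Q v u = 0 := by rw [polar_comm, huv]
  have e1 : Q (a • u + b • v) = 0 := by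
    rw [QuadraticMap.map_add (⇑Q), QuadraticMap.map_smul, QuadraticMap.map_smul, hu, hv,
      polar_smul_left, polar_smul_right, huv]
    simp
  have e2 : polar Q (a • u + b • v) (s • (c • u + e • v)) = 0 := by
    simp [polar_add_left, polar_add_right, polar_smul_left, polar_smul_right, polar_self_mul, hu,
      hv, huv, hvu]
  refine ⟨e1, e2, ?_⟩
  convert h3 using 1
  apply orth_ext
  intro x
  rw [siegel_apply, siegel_apply]
  simp only [polar_add_left, polar_smul_left, QuadraticMap.map_smul, QuadraticMap.map_add (⇑Q),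
    polar_smul_right, hu, hv, huv, smul_eq_mul, mul_zero, add_zero, zero_mul]
  subst ht
  match_scalars <;> ring

/-- Two subgroup-free descriptions of a Siegel transformation of a scalar multiple. -/
theorem rt_swap {M : Subgroup (orth Q)} {u v : V} (h : Rt M u v) (hv : Q v = 0) : Rt M v u := by
  have := (h.symm hv).neg
  rwa [neg_neg] at this

/-! ### Singular vectors -/

theorem exists_singular_polar {W : Submodule F V} {e f : V} (he : e ∈ W) (hf : f ∈ W)
    (hp : Hyp Q e f) {y : V} (hy : ∃ z ∈ W, polar Q y z ≠ 0) :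
    ∃ z ∈ W, Q z = 0 ∧ polar Q y z ≠ 0 := by
  obtain ⟨z, hzW, hz⟩ := hy
  by_contra hc
  push Not at hc
  have h1 := hc e he hp.hu
  have h2 := hc f hf hp.hu'
  set z₀ := proj Q e f z with hz0
  have hz₀ := proj_mem hp z (Q := Q)
  obtain ⟨h3, h4⟩ := mem_comp.1 hz₀
  have h5 : polar Q y (z₀ + e - Q z₀ • f) = 0 := by
    refine hc _ ?_ ?_
    · exact sub_mem (add_mem (sub_mem (sub_mem hzW (W.smul_mem _ he)) (W.smul_mem _ hf)) he)
        (W.smul_mem _ hf)
    · rw [sub_eq_add_neg, ← neg_smul, QuadraticMap.map_add (⇑Q), QuadraticMap.map_add (⇑Q) z₀,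
        QuadraticMap.map_smul, hp.hu, hp.hu', polar_add_left, polar_smul_right, polar_smul_right,
        polar_comm Q z₀ e, polar_comm Q z₀ f, h3, h4, hp.huu']
      simp
  rw [polar_sub_right, polar_add_right, polar_smul_right, h1, h2, smul_zero, add_zero, sub_zero]
    at h5
  apply hz
  rw [eq_decomp Q e f z, polar_add_right, polar_add_right, polar_smul_right, polar_smul_right, h1,
    h2, ← hz0, h5]
  simp

variable [Fintype F] [FiniteDimensional F V]

theorem exists_hyp_mem (hQ : (polarBilin Q).Nondegenerate) (hn : 3 ≤ Module.finrank F V) :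
    ∃ u u', Hyp Q u u' := by
  obtain ⟨u, hu, hu0⟩ := exists_singular (isReg_of_nondegenerate hQ) hn
  obtain ⟨u', hp⟩ := exists_hyp hQ hu hu0
  exact ⟨u, u', hp⟩

theorem exists_hyp_in_comp (hQ : (polarBilin Q).Nondegenerate) {u u' : V} (hp : Hyp Q u u')
    (hn : 5 ≤ Module.finrank F V) :
    ∃ e f, e ∈ comp Q u u' ∧ f ∈ comp Q u u' ∧ Hyp Q e f := by
  have := finrank_comp hp
  obtain ⟨e, f, h⟩ := exists_hyp_mem (nondeg_comp hQ hp) (by omega)
  exact ⟨e.1, f.1, e.2, f.2, h.hu, h.hu', h.huu'⟩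

/-- A singular vector with non-zero product with two given singular vectors. -/
theorem exists_common (hQ : (polarBilin Q).Nondegenerate) {a b : V} (ha : Q a = 0) (ha0 : a ≠ 0)
    (hb : Q b = 0) (hb0 : b ≠ 0) (hab : polar Q a b = 0) :
    ∃ c, Q c = 0 ∧ polar Q a c ≠ 0 ∧ polar Q b c ≠ 0 := by
  obtain ⟨z₁, h1⟩ := exists_polar_ne_zero (isReg_of_nondegenerate hQ) ha ha0
  obtain ⟨z₂, h2⟩ := exists_polar_ne_zero (isReg_of_nondegenerate hQ) hb hb0
  obtain ⟨z, hza, hzb⟩ : ∃ z, polar Q a z ≠ 0 ∧ polar Q b z ≠ 0 := by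
    by_cases c1 : polar Q b z₁ = 0
    · by_cases c2 : polar Q a z₂ = 0
      · exact ⟨z₁ + z₂, by rw [polar_add_right, c2, add_zero]; exact h1,
          by rw [polar_add_right, c1, zero_add]; exact h2⟩
      · exact ⟨z₂, c2, h2⟩
    · exact ⟨z₁, h1, c1⟩
  refine ⟨z - (Q z / polar Q a z) • a, ?_, ?_, ?_⟩
  · rw [sub_eq_add_neg, ← neg_smul, QuadraticMap.map_add (⇑Q), QuadraticMap.map_smul, ha,
      polar_smul_right, polar_comm Q z a]
    simp only [smul_eq_mul]
    field_simp
    ring
  · rwa [polar_sub_right, polar_smul_right, polar_self_mul, ha, mul_zero, smul_zero, sub_zero]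
  · rwa [polar_sub_right, polar_smul_right, polar_comm Q b a, hab, smul_zero, sub_zero]

/-- An isometry fixing a hyperbolic pair and moving a non-singular vector of the complement. -/
theorem exists_move_comp (hQ : (polarBilin Q).Nondegenerate) (hn : 7 ≤ Module.finrank F V)
    {u u' x y : V} (hp : Hyp Q u u') (hx : x ∈ comp Q u u') (hy : y ∈ comp Q u u') (hx0 : Q x ≠ 0)
    (hxy : Q x = Q y) :
    ∃ g ∈ sGroup Q, g.1 u = u ∧ g.1 u' = u' ∧ g.1 x = y := by
  have hd := finrank_comp hp
  have hW := nondeg_comp hQ hp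
  have lift : ∀ g ∈ sGroup (Q.restrict (comp Q u u')), ∃ h ∈ sGroup Q, h.1 u = u ∧ h.1 u' = u' ∧
      ∀ z : comp Q u u', h.1 z.1 = (g.1 z).1 := by
    intro g hg
    induction hg using Subgroup.closure_induction with
    | mem g hg =>
      obtain ⟨a, w, ha, hw, -, rfl⟩ := hg
      obtain ⟨h1, h2, h3⟩ := rtS hQ (by omega) (u := (a : V)) (w := (w : V)) ha hw
      refine ⟨_, h3, ?_, ?_, fun z => ?_⟩
      · rw [siegel_apply, (mem_comp'.1 a.2).1, (mem_comp'.1 w.2).1]; simp
      · rw [siegel_apply, (mem_comp'.1 a.2).2, (mem_comp'.1 w.2).2]; simp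
      · rw [siegel_apply, siegel_apply]; rfl
    | one => exact ⟨1, one_mem _, rfl, rfl, fun z => rfl⟩
    | mul a b _ _ ha hb =>
      obtain ⟨h, hh, h1, h2, h3⟩ := ha
      obtain ⟨k, hk, k1, k2, k3⟩ := hb
      exact ⟨h * k, mul_mem hh hk, by rw [act_mul, k1, h1], by rw [act_mul, k2, h2],
        fun z => by rw [act_mul, k3, h3]; rfl⟩
    | inv a _ ha =>
      obtain ⟨h, hh, h1, h2, h3⟩ := ha
      refine ⟨h⁻¹, inv_mem hh, ?_, ?_, fun z => ?_⟩
      · conv_lhs => rw [← h1]
        exact act_inv_apply h u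
      · conv_lhs => rw [← h2]
        exact act_inv_apply h u'
      · have e := h3 ((a⁻¹ : orth (Q.restrict (comp Q u u'))).1 z)
        rw [act_apply_inv] at e
        conv_lhs => rw [← e]
        exact act_inv_apply h _
  obtain ⟨g, hg, hgx⟩ := exists_move_norm hW (by omega) (x := (⟨x, hx⟩ : comp Q u u'))
    (y := ⟨y, hy⟩) hx0 hxy
  obtain ⟨h, hh, h1, h2, h3⟩ := lift g hg
  exact ⟨h, hh, h1, h2, by rw [← Subtype.coe_mk x hx, h3, hgx]⟩

end Cfsg.Agent.MinIndexOrthTools
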