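import Mathlib
import Cfsg.Agent.Lib.MinIndexOrthTools

/-!
Additive subgroups invariant under all Siegel transformations of a non-degenerate subspace.
-/

set_option autoImplicit false

namespace Cfsg.Agent.MinIndexOrthInv

open QuadraticMap
open Cfsg.Agent.OrthUnitaryQuad Cfsg.Agent.OrthUnitaryRefl Cfsg.Agent.OrthUnitaryOmega
open Cfsg.Agent.OrthUnitarySimple Cfsg.Agent.MinIndexOrthTools

variable {F V : Type*} [Field F] [Fintype F] [AddCommGroup V] [Module F V] [FiniteDimensional F V]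
  {Q : QuadraticForm F V} {X : Submodule F V}

/-- Two Siegel maps composed after subtracting the identity. -/
theorem double_diff {a w w' z : V} (ha : Q a = 0) (haw : polar Q a w = 0)
    (haw' : polar Q a w' = 0) :
    siegelMap Q a w (siegelMap Q a w' z - z) - (siegelMap Q a w' z - z)
      = (-(polar Q a z * polar Q w w')) • a := by
  have haa : polar Q a a = 0 := by rw [polar_self_mul, ha, mul_zero]
  simp only [siegelMap_apply, polar_add_right, polar_sub_right, polar_smul_right, haa, haw, haw',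
    polar_comm Q w a, smul_eq_mul]
  match_scalars <;> ring

section

variable (hX : (polarBilin (Q.restrict X)).Nondegenerate) (h3 : 3 ≤ Module.finrank F X)

include hX h3

theorem exists_pair {a : V} (ha : a ∈ X) (hQa : Q a = 0) (ha0 : a ≠ 0) :
    ∃ w ∈ X, ∃ w' ∈ X, polar Q a w = 0 ∧ polar Q a w' = 0 ∧ polar Q w w' ≠ 0 := by
  obtain ⟨b, hp⟩ := exists_hyp hX (u := (⟨a, ha⟩ : X)) hQa fun h => ha0 (congrArg Subtype.val h)
  have hd := finrank_comp hp
  have hc := nondeg_comp hX hp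
  obtain ⟨w, hw⟩ := Module.finrank_pos_iff_exists_ne_zero.1
    (show 0 < Module.finrank F (comp (Q.restrict X) ⟨a, ha⟩ b) by omega)
  obtain ⟨w', hww⟩ : ∃ w', polar ((Q.restrict X).restrict _) w w' ≠ 0 := by
    by_contra hall
    push Not at hall
    exact hw (hc.1 w hall)
  exact ⟨w.1.1, w.1.2, w'.1.1, w'.1.2, w.2.1, w'.2.1, hww⟩

theorem exists_sing_polar {x : V} (hx : x ∈ X) (hx0 : x ≠ 0) :
    ∃ a ∈ X, Q a = 0 ∧ polar Q x a ≠ 0 := by
  obtain ⟨e, f, hp⟩ := exists_hyp_mem hX h3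
  refine exists_singular_polar e.2 f.2 ⟨hp.hu, hp.hu', hp.huu'⟩ ?_
  by_contra hall
  push Not at hall
  exact hx0 (congrArg Subtype.val (hX.1 ⟨x, hx⟩ fun z => hall z.1 z.2))

theorem connected {P : V → Prop}
    (step : ∀ a ∈ X, ∀ b ∈ X, Q a = 0 → Q b = 0 → polar Q a b ≠ 0 → P a → P b)
    {a b : V} (ha : a ∈ X) (hb : b ∈ X) (hQa : Q a = 0) (hQb : Q b = 0) (ha0 : a ≠ 0) (hb0 : b ≠ 0)
    (h : P a) : P b := by
  by_cases hab : polar Q a b = 0
  · obtain ⟨c, hc, hac, hbc⟩ := exists_common hX (a := (⟨a, ha⟩ : X)) (b := ⟨b, hb⟩) hQa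
      (fun e => ha0 (congrArg Subtype.val e)) hQb (fun e => hb0 (congrArg Subtype.val e)) hab
    refine step c.1 c.2 b hb hc hQb ?_ (step a ha c.1 c.2 hQa hc hac h)
    rw [polar_comm]
    exact hbc
  · exact step a ha b hb hQa hQb hab h

/-- An invariant non-zero subgroup of `X × X` contains a copy of `X`. -/
theorem exists_line {M : AddSubgroup (V × V)} (hM : ∀ m ∈ M, m.1 ∈ X ∧ m.2 ∈ X)
    (hinv : ∀ a ∈ X, ∀ w ∈ X, Q a = 0 → polar Q a w = 0 → ∀ m ∈ M,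
      (siegelMap Q a w m.1, siegelMap Q a w m.2) ∈ M)
    {m₀ : V × V} (hm₀ : m₀ ∈ M) (hne : m₀ ≠ 0) :
    ∃ c : F × F, c ≠ 0 ∧ (∃ z ∈ X, c = (polar Q z m₀.1, polar Q z m₀.2)) ∧
      ∀ x ∈ X, (c.1 • x, c.2 • x) ∈ M := by
  have hdiff : ∀ a ∈ X, ∀ w ∈ X, Q a = 0 → polar Q a w = 0 → ∀ m ∈ M,
      (siegelMap Q a w m.1 - m.1, siegelMap Q a w m.2 - m.2) ∈ M := fun a ha w hw h1 h2 m hm =>
    sub_mem (hinv a ha w hw h1 h2 m hm) hm
  have key : ∀ a ∈ X, Q a = 0 → a ≠ 0 → ∀ m ∈ M, ∀ r : F,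
      ((r * polar Q a m.1) • a, (r * polar Q a m.2) • a) ∈ M := by
    intro a ha hQa ha0 m hm r
    obtain ⟨w, hw, w', hw', haw, haw', hww⟩ := exists_pair hX h3 ha hQa ha0
    have hs : polar Q a ((-r / polar Q w w') • w) = 0 := by rw [polar_smul_right, haw, smul_zero]
    have h := hdiff a ha _ (X.smul_mem _ hw) hQa hs _ (hdiff a ha w' hw' hQa haw' m hm)
    rw [double_diff hQa hs haw', double_diff hQa hs haw', polar_smul_left, smul_eq_mul,
      div_mul_cancel₀ _ hww] at h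
    simpa [mul_comm r] using h
  obtain ⟨a₀, ha₀, hQa₀, hne'⟩ : ∃ a ∈ X, Q a = 0 ∧ (polar Q a m₀.1 ≠ 0 ∨ polar Q a m₀.2 ≠ 0) := by
    rcases not_and_or.1 (fun h : m₀.1 = 0 ∧ m₀.2 = 0 => hne (Prod.ext h.1 h.2)) with h | h
    · obtain ⟨a, ha, hQa, hp⟩ := exists_sing_polar hX h3 (hM _ hm₀).1 h
      exact ⟨a, ha, hQa, Or.inl (by rwa [polar_comm])⟩
    · obtain ⟨a, ha, hQa, hp⟩ := exists_sing_polar hX h3 (hM _ hm₀).2 h
      exact ⟨a, ha, hQa, Or.inr (by rwa [polar_comm])⟩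
  have ha₀0 : a₀ ≠ 0 := fun h => by simp [h] at hne'
  refine ⟨(polar Q a₀ m₀.1, polar Q a₀ m₀.2), fun h => ?_, ⟨a₀, ha₀, rfl⟩, ?_⟩
  · simp only [Prod.mk_eq_zero] at h
    tauto
  · let P : V → Prop := fun a => ∀ r : F,
      ((r * polar Q a₀ m₀.1) • a, (r * polar Q a₀ m₀.2) • a) ∈ M
    have step : ∀ a ∈ X, ∀ b ∈ X, Q a = 0 → Q b = 0 → polar Q a b ≠ 0 → P a → P b := by
      intro a ha b hb hQa hQb hab hP r
      have hb0 : b ≠ 0 := fun h => hab (by rw [h, polar_zero_right])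
      have h := key b hb hQb hb0 _ (hP 1) (r / polar Q b a)
      have hba : polar Q b a ≠ 0 := by rwa [polar_comm]
      simp only [one_mul, polar_smul_right, smul_eq_mul] at h
      rw [← mul_assoc, ← mul_assoc] at h
      convert h using 3 <;> field_simp
    have all : ∀ b ∈ X, Q b = 0 → P b := by
      intro b hb hQb
      by_cases hb0 : b = 0
      · intro r; simp [hb0, show ((0 : V), (0 : V)) = (0 : V × V) from rfl, zero_mem]
      · exact connected hX h3 step ha₀ hb hQa₀ hQb ha₀0 hb0 (key a₀ ha₀ hQa₀ ha₀0 m₀ hm₀)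
    intro x hx
    obtain ⟨e, f, hp⟩ := exists_hyp_mem hX h3
    obtain ⟨z₁, z₂, z₃, h₁, h₂, h₃, hsum⟩ := exists_three_singular (isReg_of_nondegenerate hX) hp.hu
      hp.ne_zero (⟨x, hx⟩ : X)
    have hx' : x = z₁.1 + z₂.1 + z₃.1 := congrArg Subtype.val hsum
    have := add_mem (add_mem (all z₁.1 z₁.2 h₁ 1) (all z₂.1 z₂.2 h₂ 1)) (all z₃.1 z₃.2 h₃ 1)
    simp only [one_mul, Prod.mk_add_mk, ← smul_add, ← hx'] at this
    exact this

/-- An invariant subgroup of `X` is trivial or everything. -/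
theorem eq_bot_or_le {K : AddSubgroup V} (hK : ∀ m ∈ K, m ∈ X)
    (hinv : ∀ a ∈ X, ∀ w ∈ X, Q a = 0 → polar Q a w = 0 → ∀ m ∈ K, siegelMap Q a w m ∈ K) :
    (∀ m ∈ K, m = 0) ∨ ∀ x ∈ X, x ∈ K := by
  refine or_iff_not_imp_left.2 fun h => ?_
  push Not at h
  obtain ⟨m, hm, hm0⟩ := h
  obtain ⟨c, hc, ⟨z, -, rfl⟩, hcl⟩ := exists_line hX h3 (M := K.prod ⊥)
    (fun m hm => ⟨hK _ hm.1, by simp [AddSubgroup.mem_bot.1 hm.2, X.zero_mem]⟩)
    (fun a ha w hw h1 h2 m hm => ⟨hinv a ha w hw h1 h2 _ hm.1, by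
      simp [AddSubgroup.mem_bot.1 hm.2]⟩)
    (m₀ := (m, 0)) ⟨hm, AddSubgroup.mem_bot.2 rfl⟩ (fun h => hm0 (congrArg Prod.fst h))
  intro x hx
  simp only [polar_zero_right, ne_eq, Prod.mk_eq_zero, and_true] at hc
  have := (hcl ((polar Q z m)⁻¹ • x) (X.smul_mem _ hx)).1
  simpa [smul_smul, mul_inv_cancel₀ hc] using this

/-- The differences of Siegel maps generate `X`. -/
theorem mem_of_diff {K : AddSubgroup V}
    (h : ∀ a ∈ X, ∀ w ∈ X, Q a = 0 → polar Q a w = 0 → ∀ z ∈ X, siegelMap Q a w z - z ∈ K)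
    {x : V} (hx : x ∈ X) : x ∈ K := by
  have hsing : ∀ a ∈ X, Q a = 0 → a ∈ K := by
    intro a ha hQa
    by_cases ha0 : a = 0
    · simp [ha0, zero_mem]
    obtain ⟨w, hw, w', hw', haw, haw', hww⟩ := exists_pair hX h3 ha hQa ha0
    obtain ⟨b, hb⟩ := exists_hyp hX (u := (⟨a, ha⟩ : X)) hQa fun e => ha0 (congrArg Subtype.val e)
    have hab : polar Q a b.1 = 1 := hb.huu'
    have hs : polar Q a ((-(polar Q w w')⁻¹) • w) = 0 := by rw [polar_smul_right, haw, smul_zero]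
    have hmem : siegelMap Q a w' b.1 - b.1 ∈ X := by
      rw [siegelMap_apply]
      exact sub_mem (sub_mem (add_mem b.2 (X.smul_mem _ hw')) (X.smul_mem _ ha)) b.2
    have := h a ha _ (X.smul_mem _ hw) hQa hs _ hmem
    rw [double_diff hQa hs haw', hab, polar_smul_left, smul_eq_mul] at this
    simpa [inv_mul_cancel₀ hww] using this
  obtain ⟨e, f, hp⟩ := exists_hyp_mem hX h3
  obtain ⟨z₁, z₂, z₃, h₁, h₂, h₃, hsum⟩ := exists_three_singular (isReg_of_nondegenerate hX) hp.hu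
    hp.ne_zero (⟨x, hx⟩ : X)
  rw [show x = z₁.1 + z₂.1 + z₃.1 from congrArg Subtype.val hsum]
  exact add_mem (add_mem (hsing _ z₁.2 h₁) (hsing _ z₂.2 h₂)) (hsing _ z₃.2 h₃)

end

end Cfsg.Agent.MinIndexOrthInv
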