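import Mathlib
import Cfsg.Agent.Lib.MinIndexOrthTools

/-!
Annihilators of additive subgroups under a character of a bilinear form, and numbers of singular vectors.
-/

set_option autoImplicit false

namespace Cfsg.Agent.MinIndexOrthCount

open QuadraticMap
open Cfsg.Agent.OrthUnitaryQuad Cfsg.Agent.OrthUnitaryRefl Cfsg.Agent.OrthUnitaryOmega
open Cfsg.Agent.OrthUnitarySimple Cfsg.Agent.MinIndexOrthTools Cfsg.Agent.OrthMinDegree32Count

section Dual

variable {F W : Type*} [Field F] [AddCommGroup W] [Module F W] {p : ℕ}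

/-- The annihilator of `S` under `ψ ∘ B`. -/
def ann (B : W →ₗ[F] W →ₗ[F] F) (ψ : F →+ ZMod p) (S : AddSubgroup W) : AddSubgroup W where
  carrier := {x | ∀ s ∈ S, ψ (B s x) = 0}
  zero_mem' := fun s _ => by simp
  add_mem' {x y} hx hy := fun s hs => by rw [map_add, map_add, hx s hs, hy s hs, add_zero]
  neg_mem' {x} hx := fun s hs => by rw [map_neg, map_neg, hx s hs, neg_zero]

theorem mem_ann {B : W →ₗ[F] W →ₗ[F] F} {ψ : F →+ ZMod p} {S : AddSubgroup W} {x : W} :
    x ∈ ann B ψ S ↔ ∀ s ∈ S, ψ (B s x) = 0 := Iff.rfl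

theorem eq_zero_of_char {ψ : F →+ ZMod p} (hψ : ψ ≠ 0) {r : F} (h : ∀ s : F, ψ (s * r) = 0) :
    r = 0 := by
  by_contra hr
  exact hψ (AddMonoidHom.ext fun y => by
    have := h (y / r); rwa [div_mul_cancel₀ y hr] at this)

theorem exists_char [hp : Fact p.Prime] [CharP F p] {S : AddSubgroup F} {y : F} (hy : y ∉ S) :
    ∃ ψ : F →+ ZMod p, ψ ≠ 0 ∧ ψ y ≠ 0 ∧ ∀ t ∈ S, ψ t = 0 := by
  let : Module (ZMod p) F := ZMod.algebra F p |>.toModule
  obtain ⟨lam, h1, h2⟩ := Submodule.exists_le_ker_of_notMem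
    (p := AddSubgroup.toZModSubmodule p S) (v := y) fun h => hy h
  exact ⟨lam.toAddMonoidHom, fun e => h1 (DFunLike.congr_fun e y), h1,
    fun t ht => LinearMap.mem_ker.1 (h2 ht)⟩

theorem card_ann_mul [hp : Fact p.Prime] [CharP F p] [Finite W] {B : W →ₗ[F] W →ₗ[F] F}
    (hB : ∀ x, (∀ y, B y x = 0) → x = 0) {ψ : F →+ ZMod p} (hψ : ψ ≠ 0) (S : AddSubgroup W) :
    Nat.card (ann B ψ S) * Nat.card S = Nat.card W := by
  letI : Module (ZMod p) W := Module.compHom W (ZMod.castHom (dvd_refl p) F)
  let U : Submodule (ZMod p) W := AddSubgroup.toZModSubmodule p S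
  let βr : W → (W →ₗ[ZMod p] ZMod p) := fun x => AddMonoidHom.toZModLinearMap p
    (AddMonoidHom.mk' (fun a : W => ψ (B a x)) fun a b => by simp)
  have hadd : ∀ x y : W, βr (x + y) = βr x + βr y := fun x y => LinearMap.ext fun a => by
    rw [LinearMap.add_apply]
    show ψ (B a (x + y)) = ψ _ + ψ _
    rw [map_add, map_add]
  let β : W →ₗ[ZMod p] Module.Dual (ZMod p) W :=
    AddMonoidHom.toZModLinearMap p (AddMonoidHom.mk' βr hadd)
  have hinj : Function.Injective β := by
    rw [injective_iff_map_eq_zero]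
    intro x hx
    refine hB x fun y => eq_zero_of_char hψ fun s => ?_
    have : ψ (B (s • y) x) = 0 := LinearMap.congr_fun hx (s • y)
    rwa [map_smul, LinearMap.smul_apply, smul_eq_mul] at this
  have hsurj : Function.Surjective β :=
    (LinearMap.injective_iff_surjective_of_finrank_eq_finrank Subspace.dual_finrank_eq.symm).1 hinj
  let g : W →ₗ[ZMod p] Module.Dual (ZMod p) U := U.dualRestrict.comp β
  have hg : Function.Surjective g := Subspace.dualRestrict_surjective.comp hsurj
  have hk : Nat.card (LinearMap.ker g) = Nat.card (ann B ψ S) :=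
    Nat.card_congr (Equiv.subtypeEquivRight fun x =>
      ⟨fun h a ha => LinearMap.congr_fun (LinearMap.mem_ker.1 h) (⟨a, ha⟩ : U),
        fun h => LinearMap.mem_ker.2 (LinearMap.ext fun a => h a.1 a.2)⟩)
  have hr := g.finrank_range_add_finrank_ker
  rw [LinearMap.range_eq_top.2 hg, finrank_top, Subspace.dual_finrank_eq] at hr
  rw [← hk, show Nat.card S = Nat.card U from rfl,
    Module.natCard_eq_pow_finrank (K := ZMod p) (V := LinearMap.ker g),
    Module.natCard_eq_pow_finrank (K := ZMod p) (V := U),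
    Module.natCard_eq_pow_finrank (K := ZMod p) (V := W), ← pow_add, add_comm, hr]

theorem mem_of_ann [hp : Fact p.Prime] [CharP F p] [Finite W] {B : W →ₗ[F] W →ₗ[F] F}
    (hl : ∀ x, (∀ y, B y x = 0) → x = 0) (hr : ∀ y, (∀ x, B y x = 0) → y = 0)
    {ψ : F →+ ZMod p} (hψ : ψ ≠ 0) {S : AddSubgroup W} {y : W}
    (hy : ∀ x ∈ ann B ψ S, ψ (B y x) = 0) : y ∈ S := by
  have hr' : ∀ x, (∀ z, B.flip z x = 0) → x = 0 := fun x h => hr x h
  have h1 := card_ann_mul hl hψ S
  have h2 := card_ann_mul hr' hψ (ann B ψ S)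
  have hle : S ≤ ann B.flip ψ (ann B ψ S) := fun s hs x hx => hx s hs
  have hc : Nat.card (ann B.flip ψ (ann B ψ S)) ≤ Nat.card S := by
    refine (Nat.eq_of_mul_eq_mul_right (m := Nat.card (ann B ψ S)) Nat.card_pos ?_).le
    rw [h2, ← h1, mul_comm]
  have := AddSubgroup.eq_of_le_of_card_ge hle hc
  rw [this]
  exact hy

theorem card_ann_le [hp : Fact p.Prime] [CharP F p] [Finite W] {B : W →ₗ[F] W →ₗ[F] F}
    (hB : ∀ x, (∀ y, B y x = 0) → x = 0) {ψ : F →+ ZMod p} (hψ : ψ ≠ 0) {S : AddSubgroup W}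
    (h : ∀ s ∈ S, ∀ t ∈ S, ψ (B s t) = 0) : Nat.card S * Nat.card S ≤ Nat.card W := by
  rw [← card_ann_mul hB hψ S]
  refine Nat.mul_le_mul_right _ ?_
  exact Nat.card_le_card_of_injective (fun t : S => (⟨t, fun s hs => h s hs t t.2⟩ : ann B ψ S))
    fun a b e => Subtype.ext (congrArg (fun z : ann B ψ S => (z : W)) e)

end Dual

section Levels

variable {F V : Type*} [Field F] [Fintype F] [AddCommGroup V] [Module F V] [FiniteDimensional F V]
  {Q : QuadraticForm F V}

/-- The number of vectors of norm `a` in a subspace. -/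
noncomputable def cnt (Q : QuadraticForm F V) (X : Submodule F V) (a : F) : ℕ :=
  Nat.card {x : X // Q x = a}

theorem finite_V (F V : Type*) [Field F] [Fintype F] [AddCommGroup V] [Module F V]
    [FiniteDimensional F V] : Finite V := Module.finite_of_finite F

theorem card_level {u u' : V} (hp : Hyp Q u u') (a : F) :
    Nat.card {x : V // Q x = a} = (Fintype.card F - 1) * Nat.card (comp Q u u') +
      Fintype.card F * cnt Q (comp Q u u') a := by
  have := finite_V F V
  have h1 := lev_hypExt (Q.restrict (comp Q u u')) a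
  rw [lev_congr (splitPair hp) (splitPair_isometry hp) a] at h1
  have h2 : 1 ≤ Fintype.card F := Fintype.card_pos
  zify [h2]
  exact h1

theorem card_sub {U : Submodule F V} : Nat.card U = Fintype.card F ^ Module.finrank F U := by
  rw [Module.natCard_eq_pow_finrank (K := F), Nat.card_eq_fintype_card]

theorem cnt_congr (X : Submodule F V) (a : F) :
    Nat.card {x : X // Q.restrict X x = a} = cnt Q X a := rfl

end Levels

section Bounds

variable {F : Type*} [Field F] [Fintype F]

theorem card_zero_le_two {V : Type*} [AddCommGroup V] [Module F V] [FiniteDimensional F V]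
    {Q : QuadraticForm F V} (hQ : (polarBilin Q).Nondegenerate) (hd : Module.finrank F V = 2) :
    Nat.card {x : V // Q x = 0} + 1 ≤ 2 * Fintype.card F := by
  have h2 : 2 ≤ Fintype.card F := Fintype.one_lt_card
  have := finite_V F V
  by_cases h : ∀ x, Q x = 0 → x = 0
  · rw [show Nat.card {x : V // Q x = 0} = 1 from Nat.card_eq_one_iff_unique.2
      ⟨⟨fun a b => Subtype.ext ((h a.1 a.2).trans (h b.1 b.2).symm)⟩,
        ⟨⟨0, QuadraticMap.map_zero Q⟩⟩⟩]
    omega
  · push Not at h
    obtain ⟨u, hu, hu0⟩ := h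
    obtain ⟨u', hp⟩ := exists_hyp hQ hu hu0
    have hd' := finrank_comp hp
    have hc : comp Q u u' = ⊥ := Submodule.finrank_eq_zero.1 (by omega)
    have h1 : cnt Q (comp Q u u') 0 ≤ 1 := by
      refine Finite.card_le_one_iff_subsingleton.2 ⟨fun a b => Subtype.ext (Subtype.ext ?_)⟩
      have ha := a.1.2
      have hb := b.1.2
      simp only [hc, Submodule.mem_bot] at ha hb
      rw [ha, hb]
    rw [card_level hp, card_sub, show Module.finrank F (comp Q u u') = 0 by omega, pow_zero, mul_one]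
    have := Nat.mul_le_mul_left (Fintype.card F) h1
    omega

/-- An upper bound for the number of singular vectors. -/
theorem q_mul_card_zero_le : ∀ (d : ℕ) {V : Type*} [AddCommGroup V] [Module F V]
    [FiniteDimensional F V] (Q : QuadraticForm F V), (polarBilin Q).Nondegenerate →
    Module.finrank F V = d → 1 ≤ d →
    Fintype.card F * Nat.card {x : V // Q x = 0} ≤ (2 * Fintype.card F - 1) * Fintype.card F ^ (d - 1) := by
  intro d
  induction d using Nat.strong_induction_on with
  | _ d ih =>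
    intro V _ _ _ Q hQ hd h1
    have := finite_V F V
    have h2 : 2 ≤ Fintype.card F := Fintype.one_lt_card
    by_cases hd3 : d < 3
    · interval_cases d
      · rw [show Nat.card {x : V // Q x = 0} = 1 from Nat.card_eq_one_iff_unique.2 ⟨⟨fun a b => ?_⟩,
          ⟨⟨0, QuadraticMap.map_zero Q⟩⟩⟩]
        · simp
          omega
        · have key : ∀ x : V, Q x = 0 → x = 0 := by
            intro x hx
            by_contra h0
            obtain ⟨u', hp⟩ := exists_hyp hQ hx h0
            have := finrank_comp hp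
            omega
          exact Subtype.ext ((key a.1 a.2).trans (key b.1 b.2).symm)
      · have := card_zero_le_two hQ hd
        rw [show 2 - 1 = 1 from rfl, pow_one, mul_comm (2 * Fintype.card F - 1)]
        exact Nat.mul_le_mul_left _ (by omega)
    · obtain ⟨u, u', hp⟩ := exists_hyp_mem hQ (by omega)
      have hd' := finrank_comp hp
      have hX := ih (d - 2) (by omega) (Q.restrict (comp Q u u')) (nondeg_comp hQ hp)
        (by omega) (by omega)
      rw [cnt_congr] at hX
      rw [card_level hp, card_sub, show Module.finrank F (comp Q u u') = d - 2 by omega]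
      obtain ⟨e, rfl⟩ : ∃ e, d = e + 3 := ⟨d - 3, by omega⟩
      rw [show e + 3 - 2 - 1 = e by omega] at hX
      rw [show e + 3 - 2 = e + 1 by omega, show e + 3 - 1 = e + 2 by omega]
      obtain ⟨r, hr⟩ : ∃ r, Fintype.card F = r + 2 := ⟨Fintype.card F - 2, by omega⟩
      rw [hr] at hX ⊢
      rw [show r + 2 - 1 = r + 1 by omega, show 2 * (r + 2) - 1 = 2 * r + 3 by omega] at *
      calc (r + 2) * ((r + 1) * (r + 2) ^ (e + 1) + (r + 2) * cnt Q (comp Q u u') 0)
          ≤ (r + 2) * ((r + 1) * (r + 2) ^ (e + 1) + (2 * r + 3) * (r + 2) ^ e) := by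
            exact Nat.mul_le_mul_left _ (Nat.add_le_add_left hX _)
        _ ≤ (2 * r + 3) * (r + 2) ^ (e + 2) := by
            rw [show (r + 2) * ((r + 1) * (r + 2) ^ (e + 1) + (2 * r + 3) * (r + 2) ^ e) =
              ((r + 2) * (r + 1) + (2 * r + 3)) * (r + 2) ^ (e + 1) by ring,
              show (2 * r + 3) * (r + 2) ^ (e + 2) = ((2 * r + 3) * (r + 2)) * (r + 2) ^ (e + 1) by
                ring]
            exact Nat.mul_le_mul_right _ (by nlinarith)

/-- The numeric bound used for the permutation degree. -/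
theorem small_degree {V : Type*} [AddCommGroup V] [Module F V] [FiniteDimensional F V]
    {Q : QuadraticForm F V} (hQ : (polarBilin Q).Nondegenerate) (hn : 7 ≤ Module.finrank F V) {k : ℕ}
    (hN : (Fintype.card F - 1) * k < Nat.card {x : V // Q x = 0} - 1)
    (h2 : Fintype.card F = 2 → k + Nat.card {x : V // Q x = 0} < 2 ^ Module.finrank F V) :
    k < (Fintype.card F + 2) * Fintype.card F ^ (Module.finrank F V - 3) := by
  have := finite_V F V
  obtain ⟨e, he⟩ : ∃ e, Module.finrank F V = e + 7 := ⟨Module.finrank F V - 7, by omega⟩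
  obtain ⟨u, u', hp⟩ := exists_hyp_mem hQ (by omega)
  have hd := finrank_comp hp
  have hX := nondeg_comp hQ hp
  obtain ⟨a, a', hq⟩ := exists_hyp_mem hX (by omega)
  have hd2 := finrank_comp hq
  have hb := q_mul_card_zero_le _ ((Q.restrict (comp Q u u')).restrict _) (nondeg_comp hX hq) rfl
    (by omega)
  rw [cnt_congr] at hb
  have hLW := card_level hq (0 : F)
  rw [cnt_congr] at hLW
  rw [card_level hp, hLW, card_sub, card_sub] at hN h2
  rw [show Module.finrank F (comp Q u u') = e + 5 by omega,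
    show Module.finrank F (comp (Q.restrict (comp Q u u')) a a') = e + 3 by omega] at hN h2
  rw [show Module.finrank F (comp (Q.restrict (comp Q u u')) a a') - 1 = e + 2 by omega] at hb
  rw [he, show e + 7 - 3 = e + 4 by omega]
  rw [he] at h2
  generalize cnt (Q.restrict (comp Q u u')) (comp (Q.restrict (comp Q u u')) a a') 0 = L at hN h2 hb
  have hq2 : 2 ≤ Fintype.card F := Fintype.one_lt_card
  obtain ⟨r, hr⟩ : ∃ r, Fintype.card F = r + 2 := ⟨Fintype.card F - 2, by omega⟩
  rw [hr, show r + 2 - 1 = r + 1 by omega] at hN h2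
  rw [hr, show 2 * (r + 2) - 1 = 2 * r + 3 by omega] at hb
  rw [hr]
  by_cases hr0 : r = 0
  · subst hr0
    have := h2 rfl
    simp only [zero_add, one_mul] at hN this ⊢
    rw [show (2 : ℕ) ^ (e + 7) = 8 * 2 ^ (e + 4) by ring] at this
    omega
  · by_contra hk
    push Not at hk
    have h3 := Nat.mul_le_mul_left (r + 1) hk
    have h4 : (r + 1) * ((r + 2 + 2) * (r + 2) ^ (e + 4)) + 1 ≤
        (r + 1) * (r + 2) ^ (e + 5) + (r + 2) * ((r + 1) * (r + 2) ^ (e + 3) + (r + 2) * L) := by
      omega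
    have h5 : (r + 2) * ((r + 2) * L) ≤ (r + 2) * ((2 * r + 3) * (r + 2) ^ (e + 2)) :=
      Nat.mul_le_mul_left _ hb
    have h6 : (r + 1) * (r + 2) ^ (e + 5) + (r + 2) * ((r + 1) * (r + 2) ^ (e + 3) + (r + 2) * L)
        ≤ (r + 1) * ((r + 2 + 2) * (r + 2) ^ (e + 4)) := by
      have h7 : ((2 * r + 3) + (r + 1) * (r + 2)) * (r + 2) ^ (e + 3) ≤
          2 * ((r + 1) * (r + 2)) * (r + 2) ^ (e + 3) := by
        have : 1 ≤ r := by omega
        exact Nat.mul_le_mul_right _ (by nlinarith)
      ring_nf at h5 h7 ⊢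
      omega
    omega

end Bounds

end Cfsg.Agent.MinIndexOrthCount
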