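import Mathlib
import Cfsg.Agent.Lib.MinIndexOrthCount

/-!
The unipotent radical of the stabiliser of a totally singular line: coordinates, stabilisers of points of an
action, and the size of its orbits.
-/

set_option autoImplicit false

namespace Cfsg.Agent.MinIndexOrthLine

open QuadraticMap hiding proj
open Cfsg.Agent.OrthUnitaryQuad Cfsg.Agent.OrthUnitaryRefl Cfsg.Agent.OrthUnitaryOmega
open Cfsg.Agent.OrthUnitarySimple Cfsg.Agent.TwoGenSiegel
open Cfsg.Agent.MinIndexOrthTools Cfsg.Agent.MinIndexOrthCount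

variable {F V : Type*} [Field F] [AddCommGroup V] [Module F V] {Q : QuadraticForm F V}

/-- A totally singular line with two opposite vectors. -/
structure Frame (Q : QuadraticForm F V) where
  /-- first vector of the line -/
  u : V
  /-- second vector of the line -/
  v : V
  /-- opposite of the first vector -/
  u' : V
  /-- opposite of the second vector -/
  v' : V
  h1 : Hyp Q u u'
  h2 : Hyp Q v v'
  huv : polar Q u v = 0
  huv' : polar Q u v' = 0
  hu'v : polar Q u' v = 0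
  hu'v' : polar Q u' v' = 0

namespace Frame

variable (fr : Frame Q)

/-- The frame with the two vectors interchanged. -/
def swap : Frame Q where
  u := fr.v
  v := fr.u
  u' := fr.v'
  v' := fr.u'
  h1 := fr.h2
  h2 := fr.h1
  huv := by rw [polar_comm, fr.huv]
  huv' := by rw [polar_comm, fr.hu'v]
  hu'v := by rw [polar_comm, fr.huv']
  hu'v' := by rw [polar_comm, fr.hu'v']

/-- The complement of the frame. -/
def X : Submodule F V := comp Q fr.u fr.u' ⊓ comp Q fr.v fr.v'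

theorem mem_X {x : V} : x ∈ fr.X ↔
    (polar Q fr.u x = 0 ∧ polar Q fr.u' x = 0) ∧ polar Q fr.v x = 0 ∧ polar Q fr.v' x = 0 := Iff.rfl

theorem v_mem : fr.v ∈ comp Q fr.u fr.u' := ⟨fr.huv, fr.hu'v⟩

theorem v'_mem : fr.v' ∈ comp Q fr.u fr.u' := ⟨fr.huv', fr.hu'v'⟩

theorem u_mem : fr.u ∈ comp Q fr.v fr.v' := fr.swap.v_mem

theorem u'_mem : fr.u' ∈ comp Q fr.v fr.v' := fr.swap.v'_mem

/-- The projection to the complement of the frame. -/
def pr (x : V) : V := proj Q fr.v fr.v' (proj Q fr.u fr.u' x)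

theorem pr_mem (x : V) : fr.pr x ∈ fr.X := by
  refine ⟨?_, proj_mem fr.h2 _⟩
  have hw := proj_mem fr.h1 x (Q := Q)
  exact sub_mem (sub_mem hw (Submodule.smul_mem _ _ fr.v_mem)) (Submodule.smul_mem _ _ fr.v'_mem)

theorem eq_decomp (x : V) : x = polar Q fr.u' x • fr.u + polar Q fr.u x • fr.u' +
    polar Q fr.v' x • fr.v + polar Q fr.v x • fr.v' + fr.pr x := by
  have h1 : polar Q fr.v' (proj Q fr.u fr.u' x) = polar Q fr.v' x :=
    polar_proj fr.v'_mem x
  have h2 : polar Q fr.v (proj Q fr.u fr.u' x) = polar Q fr.v x :=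
    polar_proj fr.v_mem x
  rw [pr, proj, h1, h2, proj]
  abel

theorem polar_pr {a : V} (ha : a ∈ fr.X) (x : V) : polar Q a (fr.pr x) = polar Q a x := by
  rw [pr, polar_proj ha.2, polar_proj ha.1]

theorem pr_of_mem {x : V} (hx : x ∈ fr.X) : fr.pr x = x := by
  rw [pr, proj_of_mem hx.1, proj_of_mem hx.2]

theorem nondeg (hQ : (polarBilin Q).Nondegenerate) : (polarBilin (Q.restrict fr.X)).Nondegenerate := by
  refine OrthUnitaryStd.nondegenerate_iff_left _ fun x hx => Subtype.ext (hQ.1 x fun y => ?_)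
  show polar Q (x : V) y = 0
  rw [← fr.polar_pr x.2 y]
  exact hx ⟨_, fr.pr_mem y⟩

theorem pr_ext (hQ : (polarBilin Q).Nondegenerate) {y y' : V}
    (h : ∀ a ∈ fr.X, polar Q a y = polar Q a y') : fr.pr y = fr.pr y' := by
  refine congrArg Subtype.val (?_ : (⟨fr.pr y, fr.pr_mem y⟩ : fr.X) = ⟨fr.pr y', fr.pr_mem y'⟩)
  refine sub_eq_zero.1 ((fr.nondeg hQ).2 _ fun a => ?_)
  show polar Q (a : V) (fr.pr y - fr.pr y') = 0
  rw [polar_sub_right, fr.polar_pr a.2, fr.polar_pr a.2, h a a.2, sub_self]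

theorem pr_add (x y : V) : fr.pr (x + y) = fr.pr x + fr.pr y := by
  simp only [pr, proj, polar_add_right, polar_sub_right, polar_smul_right]
  module

theorem pr_sub (x y : V) : fr.pr (x - y) = fr.pr x - fr.pr y := by
  have := fr.pr_add (x - y) y
  rw [sub_add_cancel] at this
  rw [this, add_sub_cancel_right]

theorem pr_smul (c : F) (x : V) : fr.pr (c • x) = c • fr.pr x := by
  simp only [pr, proj, polar_smul_right, polar_sub_right, smul_eq_mul]
  module

theorem pr_neg (x : V) : fr.pr (-x) = -fr.pr x := by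
  rw [← neg_one_smul F x, fr.pr_smul, neg_one_smul]

theorem pr_u : fr.pr fr.u = 0 := by
  simp [pr, proj, fr.h1.u'u, fr.h1.uu]

theorem pr_v : fr.pr fr.v = 0 := by
  simp [pr, proj, fr.huv, fr.hu'v, fr.h2.u'u, fr.h2.uu]

theorem pr_u' : fr.pr fr.u' = 0 := by
  simp [pr, proj, fr.h1.huu', fr.h1.u'u']

theorem pr_v' : fr.pr fr.v' = 0 := by
  simp [pr, proj, fr.huv', fr.hu'v', fr.h2.huu', fr.h2.u'u']

variable [Fintype F] [FiniteDimensional F V]

theorem finrank_X (hQ : (polarBilin Q).Nondegenerate) :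
    Module.finrank F fr.X + 4 = Module.finrank F V := by
  have hW := nondeg_comp hQ fr.h1
  have h2 : Hyp (Q.restrict (comp Q fr.u fr.u')) ⟨fr.v, fr.v_mem⟩ ⟨fr.v', fr.v'_mem⟩ :=
    ⟨fr.h2.hu, fr.h2.hu', fr.h2.huu'⟩
  have h3 := finrank_comp h2
  have h4 := finrank_comp fr.h1
  let e : comp (Q.restrict (comp Q fr.u fr.u')) ⟨fr.v, fr.v_mem⟩ ⟨fr.v', fr.v'_mem⟩ ≃ₗ[F] fr.X :=
    { toFun := fun x => ⟨x.1.1, x.1.2, x.2⟩
      invFun := fun x => ⟨⟨x.1, x.2.1⟩, x.2.2⟩
      map_add' := fun _ _ => rfl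
      map_smul' := fun _ _ => rfl
      left_inv := fun _ => rfl
      right_inv := fun _ => rfl }
  rw [← e.finrank_eq]
  omega

theorem card_X (hQ : (polarBilin Q).Nondegenerate) :
    Nat.card fr.X = Fintype.card F ^ (Module.finrank F V - 4) := by
  rw [card_sub, ← fr.finrank_X hQ, Nat.add_sub_cancel]

end Frame

/-! ### Actions -/

variable {Ω : Type*} [MulAction (sGroup Q) Ω]

/-- The isometries of the generated group fixing a point. -/
noncomputable def fixG (Q : QuadraticForm F V) {Ω : Type*} [MulAction (sGroup Q) Ω] (α : Ω) :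
    Subgroup (orth Q) :=
  (MulAction.stabilizer (sGroup Q) α).map (sGroup Q).subtype

theorem mem_fixG {α : Ω} {g : orth Q} :
    g ∈ fixG Q α ↔ ∃ h : g ∈ sGroup Q, (⟨g, h⟩ : sGroup Q) • α = α := by
  constructor
  · rintro ⟨k, hk, rfl⟩
    exact ⟨k.2, hk⟩
  · rintro ⟨h, hh⟩
    exact ⟨⟨g, h⟩, hh, rfl⟩

theorem mem_fixG' {α : Ω} {g : sGroup Q} : g.1 ∈ fixG Q α ↔ g • α = α :=
  mem_fixG.trans ⟨fun ⟨_, h⟩ => h, fun h => ⟨g.2, h⟩⟩

theorem rt_map {α : Ω} {u w : V} (h : Rt (fixG Q α) u w) (g : sGroup Q) :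
    Rt (fixG Q (g • α)) (g.1.1 u) (g.1.1 w) := by
  obtain ⟨hu, hw, hm⟩ := h
  obtain ⟨hs, hfix⟩ := mem_fixG.1 hm
  refine ⟨by rw [map_orth g.1, hu], by rw [polar_orth g.1, hw], ?_⟩
  have e := conj_siegel g.1 u w hu hw
  rw [← e]
  refine (mem_fixG' (α := g • α) (g := g * ⟨_, hs⟩ * g⁻¹)).2 ?_
  rw [mul_smul, mul_smul, inv_smul_smul, hfix]

theorem rt_map_iff {α : Ω} {u w : V} (g : sGroup Q) :
    Rt (fixG Q (g • α)) (g.1.1 u) (g.1.1 w) ↔ Rt (fixG Q α) u w := by
  refine ⟨fun h => ?_, fun h => rt_map h g⟩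
  have h' := rt_map h g⁻¹
  rw [inv_smul_smul] at h'
  have hu : (g⁻¹ : sGroup Q).1.1 (g.1.1 u) = u := act_inv_apply g.1 u
  have hw : (g⁻¹ : sGroup Q).1.1 (g.1.1 w) = w := act_inv_apply g.1 w
  rwa [hu, hw] at h'

open Classical in
/-- The Siegel transformation as an element of the generated group, with junk value `1`. -/
noncomputable def sg (Q : QuadraticForm F V) (u w : V) : sGroup Q :=
  if h : ∃ (hu : Q u = 0) (hw : polar Q u w = 0), siegel Q u w hu hw ∈ sGroup Q then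
    ⟨siegel Q u w h.1 h.2.1, h.2.2⟩ else 1

variable [Fintype F] [FiniteDimensional F V]

theorem sg_coe (hQ : (polarBilin Q).Nondegenerate) (hn : 5 ≤ Module.finrank F V) {u w : V}
    (hu : Q u = 0) (hw : polar Q u w = 0) : (sg Q u w).1 = siegel Q u w hu hw := by
  rw [sg, dif_pos ⟨hu, hw, siegel_mem hQ hn hu hw⟩]

theorem sg_apply (hQ : (polarBilin Q).Nondegenerate) (hn : 5 ≤ Module.finrank F V) {u w : V}
    (hu : Q u = 0) (hw : polar Q u w = 0) (x : V) :
    (sg Q u w).1.1 x = x + polar Q u x • w - (polar Q w x + Q w * polar Q u x) • u := by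
  rw [sg_coe hQ hn hu hw, siegel_apply]

theorem rt_iff_sg (hQ : (polarBilin Q).Nondegenerate) (hn : 5 ≤ Module.finrank F V) {α : Ω}
    {u w : V} (hu : Q u = 0) (hw : polar Q u w = 0) :
    Rt (fixG Q α) u w ↔ sg Q u w • α = α := by
  rw [← mem_fixG', sg_coe hQ hn hu hw]
  exact ⟨fun ⟨_, _, h⟩ => h, fun h => ⟨hu, hw, h⟩⟩

theorem sg_add (hQ : (polarBilin Q).Nondegenerate) (hn : 5 ≤ Module.finrank F V) {u w w' : V}
    (hu : Q u = 0) (hw : polar Q u w = 0) (hw' : polar Q u w' = 0) :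
    sg Q u (w + w') = sg Q u w * sg Q u w' := by
  apply Subtype.ext
  rw [Subgroup.coe_mul, sg_coe hQ hn hu hw, sg_coe hQ hn hu hw',
    sg_coe hQ hn hu (by rw [polar_add_right, hw, hw', add_zero]), siegel_mul]

theorem sg_conj (hQ : (polarBilin Q).Nondegenerate) (hn : 5 ≤ Module.finrank F V) (g : sGroup Q)
    {u w : V} (hu : Q u = 0) (hw : polar Q u w = 0) :
    g * sg Q u w * g⁻¹ = sg Q (g.1.1 u) (g.1.1 w) := by
  apply Subtype.ext
  rw [Subgroup.coe_mul, Subgroup.coe_mul, Subgroup.coe_inv, sg_coe hQ hn hu hw, conj_siegel,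
    sg_coe hQ hn]

/-! ### The radical of a line -/

variable (fr : Frame Q)

/-- Elements fixing the line pointwise and acting trivially on `line^⊥ / line`. -/
def InRad (g : sGroup Q) : Prop :=
  g.1.1 fr.u = fr.u ∧ g.1.1 fr.v = fr.v ∧
    ∀ x, polar Q fr.u x = 0 → polar Q fr.v x = 0 →
      g.1.1 x - x ∈ Submodule.span F ({fr.u, fr.v} : Set V)

omit [Fintype F] [FiniteDimensional F V] in
theorem fix_span {g : sGroup Q} (hg : InRad fr g) {z : V}
    (hz : z ∈ Submodule.span F ({fr.u, fr.v} : Set V)) : g.1.1 z = z := by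
  obtain ⟨a, b, rfl⟩ := Submodule.mem_span_pair.1 hz
  rw [map_add, map_smul, map_smul, hg.1, hg.2.1]

omit [Fintype F] [FiniteDimensional F V] in
theorem perp_span {z x : V} (hz : z ∈ Submodule.span F ({fr.u, fr.v} : Set V))
    (h1 : polar Q fr.u x = 0) (h2 : polar Q fr.v x = 0) : polar Q z x = 0 := by
  obtain ⟨a, b, rfl⟩ := Submodule.mem_span_pair.1 hz
  simp [polar_add_left, polar_smul_left, h1, h2]

/-- The radical of the line. -/
def rad : Subgroup (sGroup Q) where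
  carrier := {g | InRad fr g}
  one_mem' := ⟨rfl, rfl, fun x _ _ => by simp⟩
  mul_mem' {g h} hg hh := by
    have e : ∀ x, (g * h).1.1 x = g.1.1 (h.1.1 x) := fun x => rfl
    refine ⟨by rw [e, hh.1, hg.1], by rw [e, hh.2.1, hg.2.1], fun x h1 h2 => ?_⟩
    have hd := hh.2.2 x h1 h2
    have : (g * h).1.1 x - x = (g.1.1 x - x) + g.1.1 (h.1.1 x - x) := by
      rw [e, map_sub]; abel
    rw [this, fix_span fr hg hd]
    exact add_mem (hg.2.2 x h1 h2) hd
  inv_mem' {g} hg := by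
    have e : ∀ x, (g⁻¹ : sGroup Q).1.1 (g.1.1 x) = x := fun x => act_inv_apply g.1 x
    have hz : ∀ z ∈ Submodule.span F ({fr.u, fr.v} : Set V), (g⁻¹ : sGroup Q).1.1 z = z :=
      fun z hz => by conv_lhs => rw [← fix_span fr hg hz]; exact e z
    refine ⟨hz _ (Submodule.subset_span (by simp)), hz _ (Submodule.subset_span (by simp)),
      fun x h1 h2 => ?_⟩
    have hd := hg.2.2 x h1 h2
    have : (g⁻¹ : sGroup Q).1.1 x - x = -(g.1.1 x - x) := by
      have h3 := hz _ hd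
      rw [map_sub, e] at h3
      rw [← h3]; abel
    rw [this]
    exact neg_mem hd

/-- First coordinate. -/
def cA (g : sGroup Q) : V := fr.pr (g.1.1 fr.u' - fr.u')

/-- Second coordinate. -/
def cB (g : sGroup Q) : V := fr.pr (g.1.1 fr.v' - fr.v')

/-- Central coordinate. -/
def cC (g : sGroup Q) : F := polar Q fr.v' (g.1.1 fr.u')

variable {fr} {g h : sGroup Q}

omit [Fintype F] [FiniteDimensional F V] in
theorem rad_apply_X (hg : g ∈ rad fr) {x : V} (hx : x ∈ fr.X) :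
    g.1.1 x = x - polar Q (cA fr g) x • fr.u - polar Q (cB fr g) x • fr.v := by
  obtain ⟨a, b, hab⟩ := Submodule.mem_span_pair.1 (hg.2.2 x hx.1.1 hx.2.1)
  obtain ⟨⟨h1, h2⟩, h3, h4⟩ := (Frame.mem_X fr).1 hx
  have hx' : g.1.1 x = x + (a • fr.u + b • fr.v) := by rw [hab, add_sub_cancel]
  have pu : polar Q fr.u (g.1.1 fr.u') = 1 := by
    conv_lhs => rw [← hg.1]
    rw [polar_orth g.1, fr.h1.huu']
  have pv : polar Q fr.v (g.1.1 fr.v') = 1 := by
    conv_lhs => rw [← hg.2.1]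
    rw [polar_orth g.1, fr.h2.huu']
  have pvu : polar Q fr.v (g.1.1 fr.u') = 0 := by
    conv_lhs => rw [← hg.2.1]
    rw [polar_orth g.1, polar_comm, fr.hu'v]
  have puv : polar Q fr.u (g.1.1 fr.v') = 0 := by
    conv_lhs => rw [← hg.1]
    rw [polar_orth g.1, fr.huv']
  have e1 : polar Q (cA fr g) x = polar Q x (g.1.1 fr.u') := by
    rw [polar_comm, cA, fr.polar_pr hx, polar_sub_right, polar_comm Q x fr.u', h2, sub_zero]
  have e2 : polar Q (cB fr g) x = polar Q x (g.1.1 fr.v') := by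
    rw [polar_comm, cB, fr.polar_pr hx, polar_sub_right, polar_comm Q x fr.v', h4, sub_zero]
  have p1 := polar_orth g.1 x fr.u'
  have p2 := polar_orth g.1 x fr.v'
  rw [hx', polar_add_left, polar_add_left, polar_smul_left, polar_smul_left, pu, pvu,
    polar_comm Q x fr.u', h2, ← e1] at p1
  rw [hx', polar_add_left, polar_add_left, polar_smul_left, polar_smul_left, puv, pv,
    polar_comm Q x fr.v', h4, ← e2] at p2
  simp only [smul_eq_mul, mul_one, mul_zero, add_zero, zero_add] at p1 p2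
  rw [hx', show a = -polar Q (cA fr g) x by linear_combination p1,
    show b = -polar Q (cB fr g) x by linear_combination p2]
  module

omit [Fintype F] [FiniteDimensional F V] in
theorem rad_apply_u' (hg : g ∈ rad fr) :
    g.1.1 fr.u' = polar Q fr.u' (g.1.1 fr.u') • fr.u + fr.u' + cC fr g • fr.v + cA fr g := by
  have h1 : polar Q fr.u (g.1.1 fr.u') = 1 := by
    conv_lhs => rw [← hg.1]
    rw [polar_orth g.1, fr.h1.huu']
  have h2 : polar Q fr.v (g.1.1 fr.u') = 0 := by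
    conv_lhs => rw [← hg.2.1]
    rw [polar_orth g.1, polar_comm, fr.hu'v]
  conv_lhs => rw [fr.eq_decomp (g.1.1 fr.u'), h1, h2]
  rw [cA, fr.pr_sub, fr.pr_u', cC]
  module

omit [Fintype F] [FiniteDimensional F V] in
theorem rad_apply_v' (hg : g ∈ rad fr) :
    g.1.1 fr.v' = polar Q fr.u' (g.1.1 fr.v') • fr.u + polar Q fr.v' (g.1.1 fr.v') • fr.v + fr.v' +
      cB fr g := by
  have h1 : polar Q fr.u (g.1.1 fr.v') = 0 := by
    conv_lhs => rw [← hg.1]
    rw [polar_orth g.1, fr.huv']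
  have h2 : polar Q fr.v (g.1.1 fr.v') = 1 := by
    conv_lhs => rw [← hg.2.1]
    rw [polar_orth g.1, fr.h2.huu']
  conv_lhs => rw [fr.eq_decomp (g.1.1 fr.v'), h1, h2]
  rw [cB, fr.pr_sub, fr.pr_v']
  module

omit [Fintype F] [FiniteDimensional F V] in
theorem cA_mem (g : sGroup Q) : cA fr g ∈ fr.X := fr.pr_mem _

omit [Fintype F] [FiniteDimensional F V] in
theorem cB_mem (g : sGroup Q) : cB fr g ∈ fr.X := fr.pr_mem _

omit [Fintype F] [FiniteDimensional F V] in
theorem coord_mul (hg : g ∈ rad fr) (hh : h ∈ rad fr) :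
    cA fr (g * h) = cA fr g + cA fr h ∧ cB fr (g * h) = cB fr g + cB fr h ∧
      cC fr (g * h) = cC fr g + cC fr h - polar Q (cB fr g) (cA fr h) := by
  have e : ∀ x, (g * h).1.1 x = g.1.1 (h.1.1 x) := fun x => rfl
  have gu' := rad_apply_u' hg
  have gv' := rad_apply_v' hg
  obtain ⟨⟨a1, a2⟩, a3, a4⟩ := (Frame.mem_X fr).1 (cA_mem (fr := fr) g)
  have eu : (g * h).1.1 fr.u' = polar Q fr.u' (h.1.1 fr.u') • fr.u + g.1.1 fr.u' +
      cC fr h • fr.v +
      (cA fr h - polar Q (cA fr g) (cA fr h) • fr.u - polar Q (cB fr g) (cA fr h) • fr.v) := by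
    rw [e]
    conv_lhs => rw [rad_apply_u' hh]
    rw [map_add, map_add, map_add, map_smul, map_smul, hg.1, hg.2.1, rad_apply_X hg (cA_mem h)]
  refine ⟨?_, ?_, ?_⟩
  · rw [cA, eu, gu']
    simp only [fr.pr_add, fr.pr_sub, fr.pr_smul, fr.pr_u, fr.pr_v, fr.pr_u',
      fr.pr_of_mem (cA_mem h), fr.pr_of_mem (cA_mem g), smul_zero]
    abel
  · rw [cB, e, rad_apply_v' hh, map_add, map_add, map_add, map_smul, map_smul, hg.1, hg.2.1,
      rad_apply_X hg (cB_mem h), gv']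
    simp only [fr.pr_add, fr.pr_sub, fr.pr_smul, fr.pr_u, fr.pr_v, fr.pr_v',
      fr.pr_of_mem (cB_mem h), fr.pr_of_mem (cB_mem g), smul_zero]
    abel
  · rw [cC, eu, polar_add_right, polar_add_right, polar_add_right, polar_sub_right, polar_sub_right]
    simp only [polar_smul_right, fr.h2.u'u, fr.swap.hu'v, fr.swap.huv', ← cC.eq_def,
      (fr.mem_X.1 (cA_mem (fr := fr) h)).2.2, show polar Q fr.v' fr.u = 0 from by
        rw [polar_comm, fr.huv'], smul_eq_mul]
    ring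

omit [Fintype F] [FiniteDimensional F V] in
theorem eq_one_of_coord (hg : g ∈ rad fr) (hA : cA fr g = 0) (hB : cB fr g = 0) (hC : cC fr g = 0) :
    g = 1 := by
  have gu := rad_apply_u' hg
  have gv := rad_apply_v' hg
  rw [hA, hC] at gu
  rw [hB] at gv
  simp only [zero_smul, add_zero] at gu gv
  have qu := map_orth g.1 fr.u'
  rw [gu, QuadraticMap.map_add (⇑Q), QuadraticMap.map_smul, fr.h1.hu, fr.h1.hu', polar_smul_left,
    fr.h1.huu', smul_zero, zero_add, smul_eq_mul, mul_one, zero_add] at qu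
  rw [qu, zero_smul, zero_add] at gu
  have pv := polar_orth g.1 fr.u' fr.v'
  rw [gu, gv, polar_add_right, polar_add_right, polar_smul_right, polar_smul_right, fr.h1.u'u,
    fr.hu'v, fr.hu'v'] at pv
  simp only [smul_eq_mul, mul_one, mul_zero, add_zero] at pv
  rw [pv, zero_smul, zero_add] at gv
  have qv := map_orth g.1 fr.v'
  rw [gv, QuadraticMap.map_add (⇑Q), QuadraticMap.map_smul, fr.h2.hu, fr.h2.hu', polar_smul_left,
    fr.h2.huu', smul_zero, zero_add, smul_eq_mul, mul_one, zero_add] at qv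
  rw [qv, zero_smul, zero_add] at gv
  refine Subtype.ext (orth_ext fun x => ?_)
  show g.1.1 x = x
  conv_lhs => rw [fr.eq_decomp x]
  simp only [map_add, map_smul, hg.1, hg.2.1, gu, gv, rad_apply_X hg (fr.pr_mem x), hA, hB,
    polar_zero_left, zero_smul, sub_zero]
  exact (fr.eq_decomp x).symm

omit [Fintype F] [FiniteDimensional F V] in
theorem coord_one : cA fr (1 : sGroup Q) = 0 ∧ cB fr (1 : sGroup Q) = 0 ∧ cC fr (1 : sGroup Q) = 0 :=
  ⟨by simp [cA, Frame.pr, proj], by simp [cB, Frame.pr, proj], by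
    show polar Q fr.v' fr.u' = 0
    rw [polar_comm, fr.hu'v']⟩

omit [Fintype F] [FiniteDimensional F V] in
theorem coord_inv (hg : g ∈ rad fr) :
    cA fr g⁻¹ = -cA fr g ∧ cB fr g⁻¹ = -cB fr g := by
  obtain ⟨h1, h2, -⟩ := coord_mul hg (inv_mem hg)
  rw [mul_inv_cancel, coord_one.1] at h1
  rw [mul_inv_cancel, coord_one.2.1] at h2
  exact ⟨eq_neg_of_add_eq_zero_right h1.symm, eq_neg_of_add_eq_zero_right h2.symm⟩

omit [Fintype F] [FiniteDimensional F V] in
theorem eq_of_coord (hg : g ∈ rad fr) (hh : h ∈ rad fr) (hA : cA fr g = cA fr h)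
    (hB : cB fr g = cB fr h) (hC : cC fr g = cC fr h) : g = h := by
  obtain ⟨i1, i2⟩ := coord_inv hh
  obtain ⟨m1, m2, -⟩ := coord_mul (inv_mem hh) hg
  rw [i1, hA, neg_add_cancel] at m1
  rw [i2, hB, neg_add_cancel] at m2
  have hk := mul_mem (inv_mem hh) hg
  obtain ⟨-, -, m3⟩ := coord_mul hh hk
  rw [mul_inv_cancel_left, m1, polar_zero_right, sub_zero, hC, left_eq_add] at m3
  exact eq_of_inv_mul_eq_one (eq_one_of_coord hk m1 m2 m3) |>.symm

variable (fr) in
/-- The long root elements of the line. -/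
noncomputable def zel (c : F) : sGroup Q := sg Q fr.u (c • fr.v)

variable (hQ : (polarBilin Q).Nondegenerate) (hn : 7 ≤ Module.finrank F V)

include hQ hn

theorem rad_sgA {a : V} (ha : polar Q fr.u a = 0) (ha' : polar Q fr.v a = 0) :
    sg Q fr.u a ∈ rad fr ∧ cA fr (sg Q fr.u a) = fr.pr a ∧ cB fr (sg Q fr.u a) = 0 ∧
      cC fr (sg Q fr.u a) = polar Q fr.v' a := by
  have he := sg_apply hQ (by omega) fr.h1.hu ha
  refine ⟨⟨?_, ?_, fun x h1 h2 => ?_⟩, ?_, ?_, ?_⟩
  · rw [he, fr.h1.uu, polar_comm Q a fr.u, ha]; simp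
  · rw [he, fr.huv, polar_comm Q a fr.v, ha']; simp
  · rw [he, h1]
    refine Submodule.mem_span_pair.2 ⟨-(polar Q a x), 0, ?_⟩
    module
  · rw [cA, he, fr.h1.huu']
    simp [fr.pr_add, fr.pr_sub, fr.pr_smul, fr.pr_u, fr.pr_u']
  · rw [cB, he, fr.huv']
    simp [fr.pr_add, fr.pr_sub, fr.pr_neg, fr.pr_smul, fr.pr_u, fr.pr_v']
  · rw [cC, he, fr.h1.huu']
    simp [polar_add_right, polar_sub_right, polar_smul_right, polar_comm Q fr.v' fr.u,
      polar_comm Q fr.v' fr.u', fr.huv', fr.hu'v']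

theorem rad_sgB {b : V} (hb : polar Q fr.v b = 0) (hb' : polar Q fr.u b = 0) :
    sg Q fr.v b ∈ rad fr ∧ cA fr (sg Q fr.v b) = 0 ∧ cB fr (sg Q fr.v b) = fr.pr b := by
  have he := sg_apply hQ (by omega) fr.h2.hu hb
  have hvu : polar Q fr.v fr.u = 0 := by rw [polar_comm, fr.huv]
  refine ⟨⟨?_, ?_, fun x h1 h2 => ?_⟩, ?_, ?_⟩
  · rw [he, hvu, polar_comm Q b fr.u, hb']; simp
  · rw [he, fr.h2.uu, polar_comm Q b fr.v, hb]; simp
  · rw [he, h2]
    refine Submodule.mem_span_pair.2 ⟨0, -(polar Q b x), ?_⟩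
    module
  · rw [cA, he, polar_comm Q fr.v fr.u', fr.hu'v]
    simp [fr.pr_add, fr.pr_sub, fr.pr_neg, fr.pr_smul, fr.pr_v, fr.pr_u']
  · rw [cB, he, fr.h2.huu']
    simp [fr.pr_add, fr.pr_sub, fr.pr_smul, fr.pr_v, fr.pr_v']

theorem zel_coord (c : F) : zel fr c ∈ rad fr ∧ cA fr (zel fr c) = 0 ∧ cB fr (zel fr c) = 0 ∧
    cC fr (zel fr c) = c := by
  obtain ⟨h1, h2, h3, h4⟩ := rad_sgA hQ hn (fr := fr) (a := c • fr.v)
    (by rw [polar_smul_right, fr.huv, smul_zero]) (by rw [polar_smul_right, fr.h2.uu, smul_zero])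
  exact ⟨h1, by rw [zel, h2, fr.pr_smul, fr.pr_v, smul_zero], h3, by
    rw [zel, h4, polar_smul_right, fr.h2.u'u, smul_eq_mul, mul_one]⟩

theorem zel_add (c c' : F) : zel fr (c + c') = zel fr c * zel fr c' := by
  rw [zel, zel, zel, add_smul, sg_add hQ (by omega) fr.h1.hu]
  · rw [polar_smul_right, fr.huv, smul_zero]
  · rw [polar_smul_right, fr.huv, smul_zero]

theorem zel_zero : zel fr (0 : F) = 1 := by
  have h := zel_add (fr := fr) hQ hn (0 : F) 0
  rwa [add_zero, left_eq_mul] at h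

theorem eq_zel (hg : g ∈ rad fr) (hA : cA fr g = 0) (hB : cB fr g = 0) : g = zel fr (cC fr g) := by
  obtain ⟨h1, h2, h3, h4⟩ := zel_coord (fr := fr) hQ hn (cC fr g)
  exact eq_of_coord hg h1 (hA.trans h2.symm) (hB.trans h3.symm) h4.symm

theorem zel_comm (hg : g ∈ rad fr) (c : F) : g * zel fr c = zel fr c * g := by
  have h := sg_conj hQ (by omega) g fr.h1.hu (w := c • fr.v)
    (by rw [polar_smul_right, fr.huv, smul_zero])
  rw [map_smul, hg.1, hg.2.1, mul_inv_eq_iff_eq_mul] at h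
  exact h

theorem exists_coord {a b : V} (ha : a ∈ fr.X) (hb : b ∈ fr.X) (c : F) :
    ∃ g ∈ rad fr, cA fr g = a ∧ cB fr g = b ∧ cC fr g = c := by
  obtain ⟨g1, a1, b1, -⟩ := rad_sgA hQ hn (fr := fr) ha.1.1 ha.2.1
  obtain ⟨g2, a2, b2⟩ := rad_sgB hQ hn (fr := fr) hb.2.1 hb.1.1
  have g12 := mul_mem g1 g2
  obtain ⟨m1, m2, -⟩ := coord_mul g1 g2
  obtain ⟨g3, a3, b3, c3⟩ := zel_coord (fr := fr) hQ hn
    (c - cC fr (sg Q fr.u a * sg Q fr.v b))
  obtain ⟨n1, n2, n3⟩ := coord_mul g12 g3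
  refine ⟨_, mul_mem g12 g3, ?_, ?_, ?_⟩
  · rw [n1, m1, a1, a2, a3, fr.pr_of_mem ha, add_zero, add_zero]
  · rw [n2, m2, b1, b2, b3, fr.pr_of_mem hb, zero_add, add_zero]
  · rw [n3, c3, a3, polar_zero_right, sub_zero, add_sub_cancel]

theorem card_rad [Finite V] : Nat.card (rad fr) = Nat.card fr.X ^ 2 * Fintype.card F := by
  rw [pow_two, ← Nat.card_prod, ← Nat.card_eq_fintype_card, ← Nat.card_prod]
  refine Nat.card_eq_of_bijective (fun g => ((⟨_, cA_mem g.1⟩, ⟨_, cB_mem g.1⟩), cC fr g.1))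
    ⟨fun g h e => ?_, fun p => ?_⟩
  · simp only [Prod.mk.injEq, Subtype.mk.injEq] at e
    exact Subtype.ext (eq_of_coord g.2 h.2 e.1.1 e.1.2 e.2)
  · obtain ⟨g, hg, h1, h2, h3⟩ := exists_coord (fr := fr) hQ hn p.1.1.2 p.1.2.2 p.2
    exact ⟨⟨g, hg⟩, Prod.ext (Prod.ext (Subtype.ext h1) (Subtype.ext h2)) h3⟩

end Cfsg.Agent.MinIndexOrthLine
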