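import Mathlib
import Cfsg.Agent.Lib.MinIndexOrthLine

/-!
Orbits of the radical of a line on a set acted on: stabiliser coordinates, sizes, and classes of orbits with
the same central stabiliser up to scalars.
-/

set_option autoImplicit false

namespace Cfsg.Agent.MinIndexOrthOrbit

open QuadraticMap hiding proj
open Cfsg.Agent.OrthUnitaryQuad Cfsg.Agent.OrthUnitaryRefl Cfsg.Agent.OrthUnitaryOmega
open Cfsg.Agent.OrthUnitarySimple Cfsg.Agent.TwoGenSiegel
open Cfsg.Agent.MinIndexOrthTools Cfsg.Agent.MinIndexOrthCount Cfsg.Agent.MinIndexOrthLine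

variable {F V : Type*} [Field F] [AddCommGroup V] [Module F V] {Q : QuadraticForm F V}
  {Ω : Type*} [MulAction (sGroup Q) Ω] (fr : Frame Q)

theorem zel_perp (fr : Frame Q) (c : F) : polar Q fr.u (c • fr.v) = 0 := by
  rw [polar_smul_right, fr.huv, smul_zero]

/-- The parameters of the long root elements of the line fixing a point. -/
def R0 (α : Ω) : AddSubgroup F where
  carrier := {c | Rt (fixG Q α) fr.u (c • fr.v)}
  zero_mem' := by
    show Rt (fixG Q α) fr.u ((0 : F) • fr.v)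
    rw [zero_smul]; exact rt_zero fr.h1.hu
  add_mem' {a b} ha hb := by
    show Rt (fixG Q α) fr.u ((a + b) • fr.v)
    rw [add_smul]; exact Rt.add ha hb
  neg_mem' {a} ha := by
    show Rt (fixG Q α) fr.u ((-a) • fr.v)
    rw [neg_smul]; exact Rt.neg ha

/-- The coordinates of the stabiliser of a point in the radical. -/
def Mset (α : Ω) : AddSubgroup (V × V) where
  carrier := {m | ∃ g ∈ rad fr, g • α = α ∧ (cA fr g, cB fr g) = m}
  zero_mem' := ⟨1, one_mem _, one_smul _ _, by rw [coord_one.1, coord_one.2.1]; rfl⟩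
  add_mem' {m m'} := fun ⟨g, hg, hga, em⟩ ⟨h, hh, hha, em'⟩ => ⟨g * h, mul_mem hg hh,
    by rw [mul_smul, hha, hga], by
      rw [(coord_mul hg hh).1, (coord_mul hg hh).2.1, ← em, ← em']; rfl⟩
  neg_mem' {m} := fun ⟨g, hg, hga, em⟩ => ⟨g⁻¹, inv_mem hg, by rw [inv_smul_eq_iff, hga], by
    rw [(coord_inv hg).1, (coord_inv hg).2, ← em]; rfl⟩

theorem Mset_mem_X {α : Ω} {m : V × V} (h : m ∈ Mset fr α) : m.1 ∈ fr.X ∧ m.2 ∈ fr.X := by
  obtain ⟨g, -, -, rfl⟩ := h
  exact ⟨cA_mem g, cB_mem g⟩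

/-- The orbit of the radical. -/
def orb (α : Ω) : Set Ω := {β | ∃ g ∈ rad fr, g • α = β}

theorem mem_orb_self (α : Ω) : α ∈ orb fr α := ⟨1, one_mem _, one_smul _ _⟩

theorem orb_eq {α β : Ω} (h : β ∈ orb fr α) : orb fr β = orb fr α := by
  obtain ⟨g, hg, rfl⟩ := h
  ext γ
  constructor
  · rintro ⟨k, hk, rfl⟩
    exact ⟨k * g, mul_mem hk hg, mul_smul _ _ _⟩
  · rintro ⟨k, hk, rfl⟩
    exact ⟨k * g⁻¹, mul_mem hk (inv_mem hg), by rw [mul_smul, inv_smul_smul]⟩

/-! ### The stabiliser of the line -/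

/-- Elements stabilising the line. -/
def stabL : Subgroup (sGroup Q) where
  carrier := {h | ∀ z, h.1.1 z ∈ Submodule.span F ({fr.u, fr.v} : Set V) ↔
    z ∈ Submodule.span F ({fr.u, fr.v} : Set V)}
  one_mem' := fun z => Iff.rfl
  mul_mem' {g h} hg hh := fun z => (hg (h.1.1 z)).trans (hh z)
  inv_mem' {g} hg := fun z => by
    have := hg ((g⁻¹ : sGroup Q).1.1 z)
    rw [show g.1.1 ((g⁻¹ : sGroup Q).1.1 z) = z from act_apply_inv g.1 z] at this
    exact this.symm

theorem mem_stabL_of [FiniteDimensional F V] {h : sGroup Q}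
    (hu : h.1.1 fr.u ∈ Submodule.span F ({fr.u, fr.v} : Set V))
    (hv : h.1.1 fr.v ∈ Submodule.span F ({fr.u, fr.v} : Set V)) : h ∈ stabL fr := by
  set L := Submodule.span F ({fr.u, fr.v} : Set V)
  have hle : L.map h.1.1.toLinearMap ≤ L := by
    rw [Submodule.map_span_le]
    intro z hz
    rcases Set.mem_insert_iff.1 hz with rfl | hz
    · exact hu
    · rw [Set.mem_singleton_iff.1 hz]; exact hv
  have heq : L.map h.1.1.toLinearMap = L :=
    Submodule.eq_of_le_of_finrank_eq hle (LinearEquiv.finrank_map_eq h.1.1 L)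
  intro z
  show h.1.1 z ∈ L ↔ z ∈ L
  conv_lhs => rw [← heq]
  constructor
  · rintro ⟨w, hw, e⟩
    rw [h.1.1.injective e] at hw
    exact hw
  · exact fun hz => ⟨z, hz, rfl⟩

theorem rad_conj {h g : sGroup Q} (hh : h ∈ stabL fr) (hg : g ∈ rad fr) :
    h * g * h⁻¹ ∈ rad fr := by
  have e : ∀ x, (h * g * h⁻¹).1.1 x = h.1.1 (g.1.1 ((h⁻¹ : sGroup Q).1.1 x)) := fun x => rfl
  have hi : ∀ z ∈ Submodule.span F ({fr.u, fr.v} : Set V),
      (h⁻¹ : sGroup Q).1.1 z ∈ Submodule.span F ({fr.u, fr.v} : Set V) := fun z hz =>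
    ((inv_mem hh : h⁻¹ ∈ stabL fr) z).2 hz
  have hfix : ∀ z ∈ Submodule.span F ({fr.u, fr.v} : Set V), (h * g * h⁻¹).1.1 z = z := fun z hz => by
    rw [e, fix_span fr hg (hi z hz)]
    exact act_apply_inv h.1 z
  refine ⟨hfix _ (Submodule.subset_span (by simp)), hfix _ (Submodule.subset_span (by simp)),
    fun x h1 h2 => ?_⟩
  have hp : ∀ z ∈ Submodule.span F ({fr.u, fr.v} : Set V),
      polar Q z ((h⁻¹ : sGroup Q).1.1 x) = 0 := fun z hz => by
    rw [← polar_orth h.1 z, show h.1.1 ((h⁻¹ : sGroup Q).1.1 x) = x from act_apply_inv h.1 x]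
    exact perp_span fr ((hh z).2 hz) h1 h2
  have hd := hg.2.2 _ (hp _ (Submodule.subset_span (by simp))) (hp _ (Submodule.subset_span (by simp)))
  have hd' := (hh _).2 hd
  rw [map_sub, show h.1.1 ((h⁻¹ : sGroup Q).1.1 x) = x from act_apply_inv h.1 x] at hd'
  exact hd'

theorem orb_smul {h : sGroup Q} (hh : h ∈ stabL fr) (α : Ω) :
    orb fr (h • α) = (h • ·) '' orb fr α := by
  ext β
  constructor
  · rintro ⟨g, hg, rfl⟩
    refine ⟨(h⁻¹ * g * h) • α, ⟨_, ?_, rfl⟩, ?_⟩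
    · simpa using rad_conj fr (inv_mem hh) hg
    · show h • (h⁻¹ * g * h) • α = g • h • α
      rw [← mul_smul, ← mul_smul]
      congr 1
      group
  · rintro ⟨γ, ⟨g, hg, rfl⟩, rfl⟩
    exact ⟨_, rad_conj fr hh hg, by
      show (h * g * h⁻¹) • h • α = h • g • α
      rw [← mul_smul, ← mul_smul, inv_mul_cancel_right]⟩

variable [Fintype F] [FiniteDimensional F V] (hQ : (polarBilin Q).Nondegenerate)
  (hn : 7 ≤ Module.finrank F V)

include hQ hn

theorem mem_R0 {α : Ω} {c : F} : c ∈ R0 fr α ↔ zel fr c • α = α :=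
  rt_iff_sg hQ (by omega) fr.h1.hu (zel_perp fr c)

/-- The stabiliser of the line centralising its long root elements. -/
noncomputable def K : Subgroup (sGroup Q) :=
  stabL fr ⊓ Subgroup.centralizer (Set.range (zel fr : F → sGroup Q))

omit hQ hn [Fintype F] [FiniteDimensional F V] in
theorem mem_K {h : sGroup Q} : h ∈ K fr ↔ h ∈ stabL fr ∧ ∀ c, zel fr c * h = h * zel fr c := by
  rw [K, Subgroup.mem_inf, Subgroup.mem_centralizer_iff]
  simp [Set.forall_mem_range]

theorem rad_le_K : rad fr ≤ K fr := fun g hg =>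
  (mem_K fr).2 ⟨mem_stabL_of fr (by rw [hg.1]; exact Submodule.subset_span (by simp))
    (by rw [hg.2.1]; exact Submodule.subset_span (by simp)), fun c => (zel_comm hQ hn hg c).symm⟩

theorem R0_smul {h : sGroup Q} {l : F} (hl : ∀ c, h * zel fr c * h⁻¹ = zel fr (l * c)) (α : Ω)
    (c : F) : l * c ∈ R0 fr (h • α) ↔ c ∈ R0 fr α := by
  rw [mem_R0 fr hQ hn, mem_R0 fr hQ hn, ← hl, mul_smul, mul_smul, inv_smul_smul,
    smul_left_cancel_iff]

theorem R0_K {h : sGroup Q} (hh : h ∈ K fr) (α : Ω) : R0 fr (h • α) = R0 fr α := by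
  ext c
  rw [mem_R0 fr hQ hn, mem_R0 fr hQ hn, ← mul_smul, ((mem_K fr).1 hh).2 c, mul_smul,
    smul_left_cancel_iff]

theorem R0_orb {α β : Ω} (h : β ∈ orb fr α) : R0 fr β = R0 fr α := by
  obtain ⟨g, hg, rfl⟩ := h
  exact R0_K fr hQ hn (rad_le_K fr hQ hn hg) α

omit hQ hn [Fintype F] [FiniteDimensional F V] in
theorem Mset_orb {α β : Ω} (h : β ∈ orb fr α) : Mset fr β = Mset fr α := by
  have key : ∀ {α β : Ω}, β ∈ orb fr α → Mset fr α ≤ Mset fr β := by
    rintro α _ ⟨k, hk, rfl⟩ m ⟨g, hg, hga, rfl⟩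
    refine ⟨k * g * k⁻¹, mul_mem (mul_mem hk hg) (inv_mem hk), ?_, ?_⟩
    · rw [mul_smul, mul_smul, inv_smul_smul, hga]
    · rw [(coord_mul (mul_mem hk hg) (inv_mem hk)).1, (coord_mul hk hg).1, (coord_inv hk).1,
        (coord_mul (mul_mem hk hg) (inv_mem hk)).2.1, (coord_mul hk hg).2.1, (coord_inv hk).2]
      simp
  exact le_antisymm (key (by rw [orb_eq fr h]; exact mem_orb_self fr α))
    (key h)

theorem Mset_isotropic {α : Ω} {m m' : V × V} (hm : m ∈ Mset fr α) (hm' : m' ∈ Mset fr α) :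
    polar Q m.1 m'.2 - polar Q m.2 m'.1 ∈ R0 fr α := by
  obtain ⟨g, hg, hga, rfl⟩ := hm
  obtain ⟨h, hh, hha, rfl⟩ := hm'
  obtain ⟨a1, b1, c1⟩ := coord_mul hg hh
  obtain ⟨a2, b2, c2⟩ := coord_mul hh hg
  set δ := cC fr (g * h) - cC fr (h * g) with hδ
  obtain ⟨z1, z2, z3, z4⟩ := zel_coord (fr := fr) hQ hn δ
  have hhg := mul_mem hh hg
  obtain ⟨e1, e2, e3⟩ := coord_mul hhg z1
  have heq : h * g * zel fr δ = g * h := eq_of_coord (mul_mem hhg z1) (mul_mem hg hh)
    (by rw [e1, z2, add_zero, a1, a2, add_comm]) (by rw [e2, z3, add_zero, b1, b2, add_comm])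
    (by rw [e3, z2, z4, polar_zero_right, hδ]; ring)
  have hfix : zel fr δ • α = α := by
    have : (h * g * zel fr δ) • α = α := by rw [heq, mul_smul, hha, hga]
    rw [mul_smul] at this
    have h2 : (h * g) • α = α := by rw [mul_smul, hga, hha]
    exact smul_left_cancel _ (this.trans h2.symm)
  show polar Q (cA fr g) (cB fr h) - polar Q (cB fr g) (cA fr h) ∈ R0 fr α
  rw [show polar Q (cA fr g) (cB fr h) - polar Q (cB fr g) (cA fr h) = δ by
    rw [hδ, c1, c2, polar_comm Q (cB fr h) (cA fr g)]; ring]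
  exact (mem_R0 fr hQ hn).2 hfix

theorem card_orb [Finite Ω] (α : Ω) :
    Nat.card (orb fr α) * Nat.card (Mset fr α) = Nat.card fr.X ^ 2 * (R0 fr α).index := by
  have := finite_V F V
  choose ch hch hcha hchm using fun m : Mset fr α => m.2
  let S := MulAction.stabilizer (rad fr) α
  have hS : ∀ x : rad fr, x ∈ S ↔ x.1 • α = α := fun x => Iff.rfl
  have hR : Nat.card S = Nat.card (Mset fr α) * Nat.card (R0 fr α) := by
    rw [← Nat.card_prod]
    symm
    let φ : Mset fr α × R0 fr α → S := fun p =>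
      ⟨⟨ch p.1 * zel fr p.2, mul_mem (hch _) (zel_coord hQ hn _).1⟩, (hS _).2 (by
        show (ch p.1 * zel fr (p.2 : F)) • α = α
        rw [mul_smul, (mem_R0 fr hQ hn).1 p.2.2, hcha])⟩
    have hco : ∀ p, (cA fr (φ p).1.1, cB fr (φ p).1.1) = (p.1 : V × V) := fun p => by
      obtain ⟨z1, z2, z3, -⟩ := zel_coord (fr := fr) hQ hn (p.2 : F)
      obtain ⟨e1, e2, -⟩ := coord_mul (hch p.1) z1
      show (cA fr (ch p.1 * zel fr (p.2 : F)), cB fr (ch p.1 * zel fr (p.2 : F))) = _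
      rw [e1, e2, z2, z3, add_zero, add_zero, hchm]
    refine Nat.card_eq_of_bijective φ ⟨fun p p' e => ?_, fun s => ?_⟩
    · have e1 : p.1 = p'.1 := Subtype.ext (by rw [← hco p, ← hco p', e])
      have e2 : ch p.1 * zel fr (p.2 : F) = ch p'.1 * zel fr (p'.2 : F) :=
        congrArg (fun z : S => z.1.1) e
      rw [e1, mul_left_cancel_iff] at e2
      refine Prod.ext e1 (Subtype.ext ?_)
      have h3 := congrArg (cC fr) e2
      rwa [(zel_coord hQ hn _).2.2.2, (zel_coord hQ hn _).2.2.2] at h3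
    · have hs : s.1.1 • α = α := (hS _).1 s.2
      let m : Mset fr α := ⟨(cA fr s.1.1, cB fr s.1.1), s.1.1, s.1.2, hs, rfl⟩
      have hk := mul_mem (inv_mem (hch m)) s.1.2
      obtain ⟨e1, e2, -⟩ := coord_mul (inv_mem (hch m)) s.1.2
      have hm1 : cA fr (ch m) = cA fr s.1.1 := congrArg Prod.fst (hchm m)
      have hm2 : cB fr (ch m) = cB fr s.1.1 := congrArg Prod.snd (hchm m)
      rw [(coord_inv (hch m)).1, hm1, neg_add_cancel] at e1
      rw [(coord_inv (hch m)).2, hm2, neg_add_cancel] at e2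
      have hz := eq_zel hQ hn hk e1 e2
      refine ⟨(m, ⟨cC fr ((ch m)⁻¹ * s.1.1), (mem_R0 fr hQ hn).2 ?_⟩), ?_⟩
      · rw [← hz, mul_smul, hs, inv_smul_eq_iff, hcha]
      · refine Subtype.ext (Subtype.ext ?_)
        show ch m * zel fr (cC fr ((ch m)⁻¹ * s.1.1)) = s.1.1
        rw [← hz, mul_inv_cancel_left]
  have horb : Nat.card (orb fr α) = Nat.card (MulAction.orbit (rad fr) α) := by
    refine Nat.card_congr (Equiv.setCongr ?_)
    ext β
    constructor
    · rintro ⟨g, hg, rfl⟩; exact ⟨⟨g, hg⟩, rfl⟩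
    · rintro ⟨g, rfl⟩; exact ⟨g.1, g.2, rfl⟩
  have h1 := MulAction.index_stabilizer (rad fr) (x := α)
  rw [← Nat.card_coe_set_eq, ← horb] at h1
  have h2 := Subgroup.index_mul_card S
  rw [h1, hR, card_rad hQ hn, ← Nat.card_eq_fintype_card (α := F),
    ← AddSubgroup.index_mul_card (R0 fr α)] at h2
  refine Nat.eq_of_mul_eq_mul_right (Nat.card_pos (α := R0 fr α)) ?_
  rw [mul_assoc, h2, mul_assoc]

set_option maxHeartbeats 800000 in
theorem card_Mset_le {α : Ω} (h : R0 fr α ≠ ⊤) : Nat.card (Mset fr α) ≤ Nat.card fr.X := by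
  have := finite_V F V
  obtain ⟨y, hy⟩ : ∃ y, y ∉ R0 fr α := by
    by_contra hall
    push Not at hall
    exact h (eq_top_iff.2 fun x _ => hall x)
  obtain ⟨p, hp⟩ := CharP.exists F
  haveI : Fact p.Prime := ⟨CharP.char_is_prime F p⟩
  obtain ⟨ψ, hψ, -, hψS⟩ := exists_char (p := p) hy
  let p1 : (fr.X × fr.X) →ₗ[F] V := fr.X.subtype.comp (LinearMap.fst F fr.X fr.X)
  let p2 : (fr.X × fr.X) →ₗ[F] V := fr.X.subtype.comp (LinearMap.snd F fr.X fr.X)
  let B : (fr.X × fr.X) →ₗ[F] (fr.X × fr.X) →ₗ[F] F :=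
    (polarBilin Q).compl₁₂ p1 p2 - (polarBilin Q).compl₁₂ p2 p1
  have hnd := fr.nondeg hQ
  have hB : ∀ x, (∀ y, B y x = 0) → x = 0 := by
    intro x hx
    refine Prod.ext (hnd.1 x.1 fun z => ?_) (hnd.1 x.2 fun z => ?_)
    · have := hx (0, z)
      simp [B, p1, p2] at this
      show polar Q (x.1 : V) z = 0
      rw [polar_comm]; exact this
    · have := hx (z, 0)
      simp [B, p1, p2] at this
      show polar Q (x.2 : V) z = 0
      rw [polar_comm]; exact this
  let S : AddSubgroup (fr.X × fr.X) := (Mset fr α).comap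
    ((fr.X.subtype.toAddMonoidHom).prodMap fr.X.subtype.toAddMonoidHom)
  have hc : Nat.card (Mset fr α) = Nat.card S := Nat.card_congr
    { toFun := fun m => ⟨(⟨m.1.1, (Mset_mem_X fr m.2).1⟩, ⟨m.1.2, (Mset_mem_X fr m.2).2⟩), m.2⟩
      invFun := fun m => ⟨((m.1.1 : V), (m.1.2 : V)), m.2⟩
      left_inv := fun _ => rfl
      right_inv := fun _ => rfl }
  have := card_ann_le hB hψ (S := S) fun s hs t ht => hψS _ (Mset_isotropic fr hQ hn hs ht)
  rw [← hc, Nat.card_prod] at this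
  exact Nat.mul_self_le_mul_self_iff.1 this

/-- An element stabilising the line with a prescribed determinant there. -/
theorem exists_det {l : F} (hl : l ≠ 0) :
    ∃ h ∈ stabL fr, ∀ c, h * zel fr c * h⁻¹ = zel fr (l * c) := by
  have hX := fr.nondeg hQ
  have hd := fr.finrank_X hQ
  obtain ⟨y1, hy1⟩ := exists_map_eq (isReg_of_nondegenerate hX) (by omega) (1 : F)
  obtain ⟨y2, hy2⟩ := exists_map_eq (isReg_of_nondegenerate hX) (by omega) l⁻¹
  have h1 : Q (y1 : V) = 1 := hy1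
  have h2 : Q (y2 : V) = l⁻¹ := hy2
  have rt : ∀ y : fr.X, ∀ r : F, Rt (sGroup Q) fr.u (r • (y : V)) ∧ Rt (sGroup Q) fr.u' (r • (y : V)) :=
    fun y r => ⟨rtS hQ (by omega) fr.h1.hu (by rw [polar_smul_right, show polar Q fr.u (y : V) = 0 from y.2.1.1, smul_zero]),
      rtS hQ (by omega) fr.h1.hu' (by rw [polar_smul_right, show polar Q fr.u' (y : V) = 0 from y.2.1.2, smul_zero])⟩
  obtain ⟨f1, hf1, -, b1, c1⟩ := exists_flip (M := sGroup Q) fr.h1 y1.2.1 (by rw [h1]; exact one_ne_zero)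
    (by simpa using (rt y1 1).1) (rt y1 _).2
  obtain ⟨f2, hf2, a2, -, c2⟩ := exists_flip (M := sGroup Q) fr.h1 y2.2.1
    (by rw [h2]; exact inv_ne_zero hl) (by simpa using (rt y2 1).1) (rt y2 _).2
  have hv1 : f1.1 fr.v = fr.v :=
    exists_flip_apply_perp c1 fr.v_mem (by rw [polar_comm]; exact y1.2.2.1)
  have hv2 : f2.1 fr.v = fr.v :=
    exists_flip_apply_perp c2 fr.v_mem (by rw [polar_comm]; exact y2.2.2.1)
  set h : sGroup Q := ⟨f1 * f2, mul_mem hf1 hf2⟩
  have hv : h.1.1 fr.v = fr.v := by show f1.1 (f2.1 fr.v) = fr.v; rw [hv2, hv1]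
  have hu : h.1.1 fr.u = l • fr.u := by
    show f1.1 (f2.1 fr.u) = l • fr.u
    rw [a2, map_neg, map_smul, b1, h1, h2, inv_inv, one_smul, smul_neg, neg_neg]
  refine ⟨h, mem_stabL_of fr ?_ ?_, fun c => ?_⟩
  · rw [hu]; exact Submodule.smul_mem _ _ (Submodule.subset_span (by simp))
  · rw [hv]; exact Submodule.subset_span (by simp)
  · rw [zel, zel, sg_conj hQ (by omega) h fr.h1.hu (zel_perp fr c), map_smul, hu, hv]
    apply Subtype.ext
    have e1 : polar Q (l • fr.u) (c • fr.v) = 0 := by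
      simp [polar_smul_left, polar_smul_right, fr.huv]
    have e0 : Q (l • fr.u) = 0 := by rw [QuadraticMap.map_smul, fr.h1.hu, smul_zero]
    rw [sg_coe hQ (by omega) e0 e1, sg_coe hQ (by omega) fr.h1.hu (zel_perp fr (l * c)),
      siegel_scale e0 e1 fr.h1.hu (by simp [polar_smul_right, fr.huv])]
    exact siegel_congr _ _ (by rw [smul_smul])

/-! ### Classes -/

omit hQ hn [Fintype F] [FiniteDimensional F V] in
/-- Points whose central stabiliser is a multiple of `S`. -/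
def cls (S : AddSubgroup F) : Set Ω := {α | ∃ l : F, l ≠ 0 ∧ ∀ c, l * c ∈ R0 fr α ↔ c ∈ S}

omit hQ hn [Fintype F] [FiniteDimensional F V] in
/-- The orbits with central stabiliser `S`. -/
def Cl (Ω : Type*) [MulAction (sGroup Q) Ω] (S : AddSubgroup F) : Type _ :=
  {O : Set Ω // ∃ α, R0 fr α = S ∧ O = orb fr α}

omit hQ hn in
instance [Finite Ω] (S : AddSubgroup F) : Finite (Cl fr Ω S) := Subtype.finite

theorem class_bound_on [Finite Ω] {S : AddSubgroup F} (hS : S ≠ ⊤) {b : ℕ}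
    (Y : Finset (Cl fr Ω S)) (hb : ∀ O ∈ Y, ∀ α ∈ O.1, Nat.card (Mset fr α) ≤ b) :
    Y.card * (Fintype.card F * Nat.card fr.X ^ 2) ≤ Nat.card (cls fr S : Set Ω) * b := by
  classical
  have := finite_V F V
  let P := S.index
  let n := Nat.card {α : Ω // R0 fr α = S}
  cases nonempty_fintype (Cl fr Ω S)
  choose rep hrep hrepO using fun O : Cl fr Ω S => O.2
  have hn1 : Y.card * (Nat.card fr.X ^ 2 * P) ≤ n * b := by
    have hmem : ∀ p : (Σ O : Cl fr Ω S, O.1), R0 fr (p.2 : Ω) = S := fun p => by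
      have h2 : (p.2 : Ω) ∈ orb fr (rep p.1) := hrepO p.1 ▸ p.2.2
      rw [R0_orb fr hQ hn h2]; exact hrep p.1
    have hsum : ∑ O : Cl fr Ω S, Nat.card O.1 ≤ n := by
      rw [← Nat.card_sigma]
      refine Nat.card_le_card_of_injective
        (fun p => (⟨(p.2 : Ω), hmem p⟩ : {α : Ω // R0 fr α = S})) fun p p' e => ?_
      have e' : (p.2 : Ω) = p'.2 := congrArg Subtype.val e
      have h1 : (p.2 : Ω) ∈ orb fr (rep p.1) := hrepO p.1 ▸ p.2.2
      have h2 : (p'.2 : Ω) ∈ orb fr (rep p'.1) := hrepO p'.1 ▸ p'.2.2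
      have eO : p.1 = p'.1 := Subtype.ext (by
        rw [hrepO p.1, hrepO p'.1, ← orb_eq fr h1, e', orb_eq fr h2])
      obtain ⟨O, x⟩ := p
      obtain ⟨O', x'⟩ := p'
      simp only at eO
      subst eO
      exact Sigma.ext rfl (heq_of_eq (Subtype.ext e'))
    refine le_trans ?_ (Nat.mul_le_mul_right b hsum)
    rw [Finset.sum_mul, ← smul_eq_mul]
    refine le_trans ?_ (Finset.sum_le_univ_sum_of_nonneg (s := Y) fun _ => Nat.zero_le _)
    refine Finset.card_nsmul_le_sum _ _ _ fun O hO => ?_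
    have h3 := card_orb fr hQ hn (rep O)
    rw [hrep O] at h3
    rw [← h3, hrepO O]
    exact Nat.mul_le_mul_left _ (hb O hO _ (hrepO O ▸ mem_orb_self fr _))
  choose hd hdst hdc using fun l : Fˣ => exists_det fr hQ hn l.ne_zero
  let Sl : Fˣ → AddSubgroup F := fun l => S.map (AddMonoidHom.mulLeft (l : F))
  have hSl : ∀ l c, c ∈ Sl l ↔ (l : F)⁻¹ * c ∈ S := by
    intro l c
    simp only [Sl, AddSubgroup.mem_map, AddMonoidHom.coe_mulLeft]
    exact ⟨fun ⟨x, hx, e⟩ => by simpa [← e] using hx, fun h => ⟨_, h, by simp⟩⟩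
  have hRS : ∀ (l : Fˣ) (α : Ω), R0 fr α = S → R0 fr (hd l • α) = Sl l := by
    intro l α hα
    ext c
    rw [hSl, ← hα, ← R0_smul fr hQ hn (hdc l) α, ← mul_assoc, mul_inv_cancel₀ (Units.ne_zero l), one_mul]
  let T : Finset (AddSubgroup F) := Finset.univ.image Sl
  have hT : T.card * n ≤ Nat.card (cls fr S : Set Ω) := by
    have hrep' : ∀ A : T, ∃ l, Sl l = A := fun A => by
      obtain ⟨l, -, e⟩ := Finset.mem_image.1 A.2; exact ⟨l, e⟩
    choose r hr using hrep'
    rw [show T.card * n = Nat.card (T × {α : Ω // R0 fr α = S}) by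
      rw [Nat.card_prod, Nat.card_eq_fintype_card, Fintype.card_coe]]
    refine Nat.card_le_card_of_injective (fun p => (⟨hd (r p.1) • p.2.1, (r p.1 : F),
      Units.ne_zero _, fun c => by
        rw [hRS _ _ p.2.2, hSl, ← mul_assoc, inv_mul_cancel₀ (Units.ne_zero _), one_mul]⟩ : cls fr S))
      fun p p' e => ?_
    have e' : hd (r p.1) • p.2.1 = hd (r p'.1) • p'.2.1 := congrArg Subtype.val e
    have e1 : p.1 = p'.1 := Subtype.ext (by
      rw [← hr p.1, ← hr p'.1, ← hRS _ _ p.2.2, e', hRS _ _ p'.2.2])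
    rw [e1, smul_left_cancel_iff] at e'
    exact Prod.ext e1 (Subtype.ext e')
  have hq : Fintype.card F ≤ T.card * P := by
    obtain ⟨p, hp⟩ := CharP.exists F
    haveI : Fact p.Prime := ⟨CharP.char_is_prime F p⟩
    obtain ⟨y, hy⟩ : ∃ y, y ∉ S := by
      by_contra hall
      push Not at hall
      exact hS (eq_top_iff.2 fun x _ => hall x)
    obtain ⟨ψ, hψ, -, -⟩ := exists_char (p := p) hy
    let B : F →ₗ[F] F →ₗ[F] F := LinearMap.mul F F
    have hB : ∀ z, (∀ w, B w z = 0) → z = 0 := fun z h => by simpa [B] using h 1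
    have hidx : ∀ l, (Sl l).index = P := fun l => by
      have h1 := AddSubgroup.index_mul_card (Sl l)
      rw [show Nat.card (Sl l) = Nat.card S from (Nat.card_congr
        (S.equivMapOfInjective _ (mul_right_injective₀ l.ne_zero)).toEquiv).symm,
        ← AddSubgroup.index_mul_card S] at h1
      exact Nat.eq_of_mul_eq_mul_right Nat.card_pos h1
    have hann : ∀ l, Nat.card (ann B ψ (Sl l)) = P := fun l => by
      have h1 := card_ann_mul hB hψ (Sl l)
      rw [← AddSubgroup.index_mul_card (Sl l), hidx] at h1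
      exact Nat.eq_of_mul_eq_mul_right Nat.card_pos h1
    obtain ⟨ζ, hζ, hζ0⟩ : ∃ ζ ∈ ann B ψ S, ζ ≠ 0 := by
      by_contra hall
      push Not at hall
      refine hy (mem_of_ann hB (fun z h => hB z fun w => ?_) hψ fun z hz => ?_)
      · have := h w
        simpa [B, mul_comm] using this
      · rw [hall z hz]; simp [B]
    let U : Finset F := T.biUnion fun L => (Finset.univ.filter fun z => z ∈ ann B ψ L).erase 0
    have hU : U.card ≤ T.card * (P - 1) := by
      refine Finset.card_biUnion_le.trans ?_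
      refine (Finset.sum_le_card_nsmul _ _ (P - 1) fun L hL => ?_).trans_eq (smul_eq_mul _ _)
      obtain ⟨s, -, rfl⟩ := Finset.mem_image.1 hL
      rw [Finset.card_erase_of_mem (by simp [zero_mem]), ← hann s, Nat.card_eq_fintype_card,
        Fintype.card_subtype]
    have h4 : Fintype.card F - 1 ≤ U.card := by
      rw [← Fintype.card_units, ← Finset.card_univ]
      refine Finset.card_le_card_of_injOn (fun l : Fˣ => (l : F)⁻¹ * ζ) (fun l _ => ?_)
        fun a _ b _ e => Units.ext (inv_injective (mul_right_cancel₀ hζ0 e))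
      refine Finset.mem_biUnion.2 ⟨_, Finset.mem_image_of_mem _ (Finset.mem_univ l),
        Finset.mem_erase.2 ⟨mul_ne_zero (inv_ne_zero l.ne_zero) hζ0, ?_⟩⟩
      simp only [Finset.mem_filter, Finset.mem_univ, true_and]
      intro t ht
      have := hζ _ ((hSl l t).1 ht)
      simpa [B, mul_assoc, mul_left_comm, mul_comm] using this
    have hne : 1 ≤ T.card := Finset.card_pos.2 ⟨_, Finset.mem_image_of_mem _ (Finset.mem_univ 1)⟩
    have hP : 1 ≤ P := Nat.one_le_iff_ne_zero.2 AddSubgroup.index_ne_zero_of_finite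
    have h5 : T.card * P = T.card * (P - 1) + T.card := by
      rw [← Nat.mul_succ, Nat.succ_eq_add_one, Nat.sub_add_cancel hP]
    omega
  calc Y.card * (Fintype.card F * Nat.card fr.X ^ 2)
      ≤ Y.card * (T.card * P * Nat.card fr.X ^ 2) := by
        exact Nat.mul_le_mul_left _ (Nat.mul_le_mul_right _ hq)
    _ = T.card * (Y.card * (Nat.card fr.X ^ 2 * P)) := by ring
    _ ≤ T.card * (n * b) := Nat.mul_le_mul_left _ hn1
    _ = T.card * n * b := (mul_assoc _ _ _).symm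
    _ ≤ _ := Nat.mul_le_mul_right _ hT

theorem class_bound [Finite Ω] {S : AddSubgroup F} (hS : S ≠ ⊤) {b : ℕ}
    (hb : ∀ α : Ω, R0 fr α = S → Nat.card (Mset fr α) ≤ b) :
    Nat.card (Cl fr Ω S) * (Fintype.card F * Nat.card fr.X ^ 2) ≤
      Nat.card (cls fr S : Set Ω) * b := by
  cases nonempty_fintype (Cl fr Ω S)
  rw [Nat.card_eq_fintype_card, ← Finset.card_univ]
  refine class_bound_on fr hQ hn hS _ fun O _ α hα => hb α ?_
  obtain ⟨β, hβ, hO⟩ := O.2
  rw [R0_orb fr hQ hn (hO ▸ hα : α ∈ orb fr β), hβ]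

/-- The action on the orbits with central stabiliser `S`. -/
@[reducible]
def clAction (S : AddSubgroup F) : MulAction (K fr) (Cl fr Ω S) where
  smul h O := ⟨((h : sGroup Q) • ·) '' O.1, by
    obtain ⟨α, hα, hO⟩ := O.2
    exact ⟨(h : sGroup Q) • α, by rw [R0_K fr hQ hn h.2, hα],
      by rw [hO, orb_smul fr ((mem_K fr).1 h.2).1]⟩⟩
  one_smul O := Subtype.ext (by
    show ((1 : sGroup Q) • ·) '' O.1 = O.1
    simp)
  mul_smul g h O := Subtype.ext (by
    show (((g : sGroup Q) * h) • ·) '' O.1 = ((g : sGroup Q) • ·) '' (((h : sGroup Q) • ·) '' O.1)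
    rw [Set.image_image]
    simp [mul_smul])

end Cfsg.Agent.MinIndexOrthOrbit
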