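import Mathlib
import Cfsg.Agent.Lib.MinIndexOrthCount

/-!
Two commuting groups with scaled one-parameter subgroups, acting on at most `q + 1` points.
-/

set_option autoImplicit false

namespace Cfsg.Agent.MinIndexOrthPerm

open Cfsg.Agent.MinIndexOrthCount

variable {F : Type*} [Field F] [Fintype F] {N Y : Type*} [Group N] [MulAction N Y]

/-- A one-parameter subgroup of `Γ` scaled by squares inside `Γ`. -/
structure Root (Γ : Subgroup N) (x : F → N) : Prop where
  mem : ∀ t, x t ∈ Γ
  add : ∀ s t, x (s + t) = x s * x t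
  scale : ∀ s : F, s ≠ 0 → ∃ h ∈ Γ, ∀ t, h * x t * h⁻¹ = x (s ^ 2 * t)

variable {Γ Δ : Subgroup N} {x x' : F → N}

omit [Fintype F] in
theorem root_zero (hx : Root Γ x) : x 0 = 1 := by
  have h := hx.add 0 0
  rwa [add_zero, left_eq_mul] at h

omit [Fintype F] in
theorem root_neg (hx : Root Γ x) (t : F) : x (-t) = (x t)⁻¹ := by
  refine eq_inv_of_mul_eq_one_left ?_
  rw [← hx.add, neg_add_cancel, root_zero hx]

/-- The parameters fixing a point. -/
def ker (hx : Root Γ x) (y : Y) : AddSubgroup F where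
  carrier := {t | x t • y = y}
  zero_mem' := by show x 0 • y = y; rw [root_zero hx, one_smul]
  add_mem' {s t} hs ht := by
    show x (s + t) • y = y
    rw [hx.add, mul_smul, show x t • y = y from ht]; exact hs
  neg_mem' {t} ht := by
    show x (-t) • y = y
    rw [root_neg hx, inv_smul_eq_iff]
    exact (show x t • y = y from ht).symm

omit [Fintype F] in
theorem mem_ker (hx : Root Γ x) {y : Y} {t : F} : t ∈ ker hx y ↔ x t • y = y := Iff.rfl

omit [Fintype F] in
theorem ker_smul (hx : Root Γ x) (y : Y) (t : F) : ker hx (x t • y) = ker hx y := by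
  ext s
  rw [mem_ker, mem_ker, ← mul_smul, ← hx.add, add_comm, hx.add, mul_smul, smul_left_cancel_iff]

omit [Fintype F] in
theorem mem_ker_conj (hx : Root Γ x) {h : N} {s : F} (hs : s ≠ 0)
    (hh : ∀ t, h * x t * h⁻¹ = x (s ^ 2 * t)) (y : Y) (t : F) :
    t ∈ ker hx (h • y) ↔ (s ^ 2)⁻¹ * t ∈ ker hx y := by
  have h2 := hh ((s ^ 2)⁻¹ * t)
  rw [← mul_assoc, mul_inv_cancel₀ (pow_ne_zero 2 hs), one_mul] at h2
  rw [mem_ker, mem_ker, ← h2, mul_smul, mul_smul, inv_smul_smul, smul_left_cancel_iff]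

theorem eq_bot_of_sq (K : AddSubgroup F) (hne : K ≠ ⊤)
    (h : ∀ s : F, s ≠ 0 → ∀ t ∈ K, s ^ 2 * t ∈ K) : K = ⊥ := by
  have h' : ∀ c : F, ∀ t ∈ K, c * t ∈ K := by
    intro c t ht
    have hsq : ∀ s : F, s ^ 2 * t ∈ K := fun s => by
      by_cases hs : s = 0
      · simp [hs, zero_mem]
      · exact h s hs t ht
    by_cases h2 : (2 : F) = 0
    · have : CharP F 2 := CharTwo.of_one_ne_zero_of_two_eq_zero one_ne_zero h2
      obtain ⟨s, hs⟩ := FiniteField.isSquare_of_char_two (ringChar.eq F 2) c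
      rw [hs, ← pow_two]
      exact hsq s
    · have := sub_mem (hsq ((c + 1) / 2)) (hsq ((c - 1) / 2))
      rwa [← sub_mul, show ((c + 1) / 2) ^ 2 - ((c - 1) / 2) ^ 2 = c by field_simp; ring] at this
  rw [eq_bot_iff]
  intro t ht
  rw [AddSubgroup.mem_bot]
  by_contra h0
  refine hne (eq_top_iff.2 fun c _ => ?_)
  have := h' (c / t) t ht
  rwa [div_mul_cancel₀ c h0] at this

variable [Finite Y]

/-- A moved point lies in a large orbit. -/
theorem two_card_orbit (hx : Root Γ x) {y : Y} {t₀ : F} (hy : x t₀ • y ≠ y) :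
    Fintype.card F + 1 < 2 * Nat.card {z : Y // ∃ g ∈ Γ, g • y = z} := by
  classical
  have hq : 2 ≤ Fintype.card F := Fintype.one_lt_card
  set K := ker hx y with hK
  have hKt : K ≠ ⊤ := fun h => hy (by
    have : t₀ ∈ K := h ▸ AddSubgroup.mem_top t₀
    exact this)
  choose hs hsm hsc using fun s : Fˣ => hx.scale s s.ne_zero
  let zs : Fˣ → Y := fun s => hs s • y
  have hidx : ∀ s, (ker hx (zs s)).index = K.index := by
    intro s
    have hc : Nat.card (ker hx (zs s)) = Nat.card K := by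
      refine Nat.card_congr
        { toFun := fun t => ⟨((s : F) ^ 2)⁻¹ * t, (mem_ker_conj hx s.ne_zero (hsc s) y t).1 t.2⟩
          invFun := fun t => ⟨(s : F) ^ 2 * t, (mem_ker_conj hx s.ne_zero (hsc s) y _).2 (by
            rw [← mul_assoc, inv_mul_cancel₀ (pow_ne_zero 2 s.ne_zero), one_mul]; exact t.2)⟩
          left_inv := fun t => Subtype.ext (by simp [← mul_assoc])
          right_inv := fun t => Subtype.ext (by simp [← mul_assoc]) }
    have h1 := AddSubgroup.index_mul_card (ker hx (zs s))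
    have h2 := AddSubgroup.index_mul_card K
    rw [hc] at h1
    exact Nat.eq_of_mul_eq_mul_right Nat.card_pos (h1.trans h2.symm)
  let S : Finset (AddSubgroup F) := Finset.univ.image fun s : Fˣ => ker hx (zs s)
  have hrep : ∀ L : S, ∃ s : Fˣ, ker hx (zs s) = L := fun L => by
    obtain ⟨s, -, hs⟩ := Finset.mem_image.1 L.2
    exact ⟨s, hs⟩
  choose r hr using hrep
  have horb : S.card * K.index ≤ Nat.card {z : Y // ∃ g ∈ Γ, g • y = z} := by
    have : ∀ L : S, Nat.card (F ⧸ (L : AddSubgroup F)) = K.index := fun L => by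
      rw [← hr L, ← hidx (r L)]; rfl
    rw [show S.card * K.index = Nat.card (Σ L : S, F ⧸ (L : AddSubgroup F)) by
      rw [Nat.card_sigma, Finset.sum_congr rfl fun L _ => this L]; simp]
    refine Nat.card_le_card_of_injective (fun c => ⟨x c.2.out • zs (r c.1),
      x c.2.out * hs (r c.1), Subgroup.mul_mem _ (hx.mem _) (hsm _), mul_smul _ _ _⟩) ?_
    rintro ⟨L, c⟩ ⟨L', c'⟩ e
    have e' : x c.out • zs (r L) = x c'.out • zs (r L') := congrArg Subtype.val e
    have eL : (L : AddSubgroup F) = L' := by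
      rw [← hr L, ← hr L', ← ker_smul hx (zs (r L)) c.out, e', ker_smul]
    obtain rfl : L = L' := Subtype.ext eL
    refine Sigma.ext rfl (heq_of_eq ?_)
    rw [← c.out_eq', ← c'.out_eq', QuotientAddGroup.eq]
    have h1 : -c.out + c'.out ∈ ker hx (zs (r L)) := by
      rw [mem_ker, hx.add, mul_smul, ← e', root_neg hx, inv_smul_smul]
    exact (SetLike.ext_iff.1 (hr L) _).1 h1
  have hne : S.Nonempty := ⟨_, Finset.mem_image_of_mem _ (Finset.mem_univ 1)⟩
  by_cases hS : S.card = 1
  · have hall : ∀ s : Fˣ, ker hx (zs s) = ker hx (zs 1) := fun s =>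
      Finset.card_le_one.1 hS.le _ (Finset.mem_image_of_mem _ (Finset.mem_univ s)) _
        (Finset.mem_image_of_mem _ (Finset.mem_univ 1))
    have hinv : ∀ s : F, s ≠ 0 → ∀ t ∈ ker hx (zs 1), s ^ 2 * t ∈ ker hx (zs 1) := by
      intro s hs0 t ht
      obtain ⟨v, rfl⟩ : ∃ v : Fˣ, (v : F) = s := ⟨Units.mk0 s hs0, rfl⟩
      have h1 := (mem_ker_conj hx one_ne_zero (by simpa using hsc 1) y t).1 ht
      rw [← hall v, mem_ker_conj hx v.ne_zero (hsc v) y, ← mul_assoc,
        inv_mul_cancel₀ (pow_ne_zero 2 v.ne_zero), one_mul]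
      simpa using h1
    have h1t : ker hx (zs 1) ≠ ⊤ := fun h => hKt (by
      have := hidx 1
      rw [h, AddSubgroup.index_top] at this
      exact AddSubgroup.index_eq_one.1 this.symm)
    have hb := eq_bot_of_sq _ h1t hinv
    have : K.index = Fintype.card F := by
      rw [← hidx 1, hb, AddSubgroup.index_bot, Nat.card_eq_fintype_card]
    rw [hS, one_mul, this] at horb
    omega
  · obtain ⟨p, hp⟩ := CharP.exists F
    haveI : Fact p.Prime := ⟨CharP.char_is_prime F p⟩
    obtain ⟨ψ, hψ, -, hψK⟩ := exists_char (p := p) (S := (⊥ : AddSubgroup F)) (y := (1 : F)) (by simp)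
    let B : F →ₗ[F] F →ₗ[F] F := LinearMap.mul F F
    have hB : ∀ z, (∀ w, B w z = 0) → z = 0 := fun z h => by simpa [B] using h 1
    have hann : ∀ s, Nat.card (ann B ψ (ker hx (zs s))) = K.index := fun s => by
      have h1 := card_ann_mul hB hψ (ker hx (zs s))
      rw [← AddSubgroup.index_mul_card (ker hx (zs s)), hidx] at h1
      exact Nat.eq_of_mul_eq_mul_right Nat.card_pos h1
    obtain ⟨ζ, hζ, hζ0⟩ : ∃ ζ ∈ ann B ψ K, ζ ≠ 0 := by
      by_contra hall
      push Not at hall
      refine hKt (eq_top_iff.2 fun c _ => mem_of_ann hB (fun z h => hB z fun w => ?_) hψ fun z hz => ?_)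
      · have := h w
        simpa [B, mul_comm] using this
      · rw [hall z hz]; simp [B]
    have hcover : Fintype.card F - 1 ≤ 2 * (S.card * (K.index - 1)) := by
      let T : Finset F := S.biUnion fun L => (Finset.univ.filter fun z => z ∈ ann B ψ L).erase 0
      have hT : T.card ≤ S.card * (K.index - 1) := by
        refine Finset.card_biUnion_le.trans ?_
        refine (Finset.sum_le_card_nsmul _ _ (K.index - 1) fun L hL => ?_).trans_eq (smul_eq_mul _ _)
        obtain ⟨s, -, rfl⟩ := Finset.mem_image.1 hL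
        rw [Finset.card_erase_of_mem (by simp [zero_mem]), ← hann s, Nat.card_eq_fintype_card,
          Fintype.card_subtype]
      rw [← Fintype.card_units]
      refine le_trans ?_ (Nat.mul_le_mul_left 2 hT)
      refine Finset.card_le_mul_card_image_of_maps_to (s := (Finset.univ : Finset Fˣ))
        (f := fun s : Fˣ => ((s : F) ^ 2)⁻¹ * ζ) (fun s _ => ?_) 2 (fun b _ => ?_)
      · refine Finset.mem_biUnion.2 ⟨_, Finset.mem_image_of_mem _ (Finset.mem_univ s),
          Finset.mem_erase.2 ⟨mul_ne_zero (inv_ne_zero (pow_ne_zero 2 s.ne_zero)) hζ0, ?_⟩⟩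
        simp only [Finset.mem_filter, Finset.mem_univ, true_and]
        intro t ht
        have := hζ _ ((mem_ker_conj hx s.ne_zero (hsc s) y t).1 ht)
        simpa [B, mul_assoc, mul_left_comm, mul_comm] using this
      · by_cases h : ∃ s : Fˣ, ((s : F) ^ 2)⁻¹ * ζ = b
        · obtain ⟨s, rfl⟩ := h
          refine (Finset.card_le_card_of_injOn (t := ({(s : F), -(s : F)} : Finset F))
            (fun v : Fˣ => (v : F)) (fun v hv => ?_) (fun v _ w _ e => Units.ext e)).trans
            Finset.card_le_two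
          simp only [Finset.coe_filter, Finset.mem_univ, true_and, Set.mem_setOf_eq] at hv
          have := inv_injective (mul_right_cancel₀ hζ0 hv)
          rcases sq_eq_sq_iff_eq_or_eq_neg.1 this with e | e <;> simp [e]
        · push Not at h
          simp [h]
    have h2 : 2 ≤ S.card := by have := Finset.card_pos.2 hne; omega
    have hpos : 1 ≤ K.index := Nat.one_le_iff_ne_zero.2 AddSubgroup.index_ne_zero_of_finite
    have h3 : S.card * K.index = S.card * (K.index - 1) + S.card := by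
      rw [← Nat.mul_succ, Nat.succ_eq_add_one, Nat.sub_add_cancel hpos]
    omega

/-- Both groups moving forces tiny fields and commuting translations. -/
theorem both_move (hY : Nat.card Y ≤ Fintype.card F + 1) (hx : Root Γ x) (hx' : Root Δ x')
    (hc : ∀ g ∈ Γ, ∀ d ∈ Δ, g * d = d * g) {y₀ : Y} {t₀ : F} (hm : x t₀ • y₀ ≠ y₀) {y₁ : Y}
    {t₁ : F} (hm' : x' t₁ • y₁ ≠ y₁) :
    Fintype.card F ≤ 3 ∧
      (∀ g, g ∈ Γ ∨ g ∈ Δ → ∀ g', g' ∈ Γ ∨ g' ∈ Δ → ∀ y : Y, g • g' • y = g' • g • y) ∧
      (∀ g, g ∈ Γ ∨ g ∈ Δ → ∀ y : Y, g ^ Fintype.card F • y = y) := by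
  classical
  cases nonempty_fintype Y
  let O : Finset Y := Finset.univ.filter fun z => ∃ g ∈ Γ, g • y₀ = z
  have hOm : ∀ {z}, z ∈ O ↔ ∃ g ∈ Γ, g • y₀ = z := by simp [O]
  have hOc : O.card = Nat.card {z : Y // ∃ g ∈ Γ, g • y₀ = z} := by
    rw [Nat.card_eq_fintype_card, Fintype.card_subtype]
  have ha := two_card_orbit hx hm
  rw [← hOc] at ha
  rw [Nat.card_eq_fintype_card] at hY
  have hy₀ : y₀ ∈ O := hOm.2 ⟨1, one_mem _, one_smul _ _⟩
  have hΔO : ∀ d ∈ Δ, ∀ z ∈ O, d • z ∈ O := by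
    intro d hd z hz
    obtain ⟨g, hg, rfl⟩ := hOm.1 hz
    by_contra hout
    have hsub : (O.image fun w => d • w) ⊆ Oᶜ := by
      intro w hw
      obtain ⟨v, hv, rfl⟩ := Finset.mem_image.1 hw
      obtain ⟨g', hg', rfl⟩ := hOm.1 hv
      rw [Finset.mem_compl]
      intro hin
      obtain ⟨k, hk, hk'⟩ := hOm.1 hin
      refine hout (hOm.2 ⟨g * g'⁻¹ * k, mul_mem (mul_mem hg (inv_mem hg')) hk, ?_⟩)
      rw [mul_smul, hk', mul_smul, ← mul_smul g'⁻¹ d, hc _ (inv_mem hg') d hd, mul_smul,
        inv_smul_smul, ← mul_smul, hc g hg d hd, mul_smul]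
    have := Finset.card_le_card hsub
    rw [Finset.card_image_of_injective _ (MulAction.injective d), Finset.card_compl] at this
    omega
  obtain ⟨y₂, hy₂, hm₂⟩ : ∃ z ∈ O, x' t₁ • z ≠ z := by
    by_contra hall
    push Not at hall
    have hy₁ : y₁ ∉ O := fun h => hm' (hall _ h)
    have hb := two_card_orbit hx' hm'
    have hsub : (Finset.univ.filter fun z => ∃ d ∈ Δ, d • y₁ = z) ⊆ Oᶜ := by
      intro z hz
      obtain ⟨d, hd, rfl⟩ := (Finset.mem_filter.1 hz).2
      rw [Finset.mem_compl]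
      intro hin
      have := hΔO d⁻¹ (inv_mem hd) _ hin
      rw [inv_smul_smul] at this
      exact hy₁ this
    have := Finset.card_le_card hsub
    rw [Finset.card_compl] at this
    rw [Nat.card_eq_fintype_card, Fintype.card_subtype] at hb
    omega
  have hsemi : ∀ d ∈ Δ, ∀ z ∈ O, d • z = z → ∀ w ∈ O, d • w = w := by
    intro d hd z hz hfix w hw
    obtain ⟨g, hg, rfl⟩ := hOm.1 hz
    obtain ⟨g', hg', rfl⟩ := hOm.1 hw
    have hy : d • y₀ = y₀ := by
      rwa [← mul_smul, ← hc g hg d hd, mul_smul, smul_left_cancel_iff] at hfix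
    rw [← mul_smul, ← hc g' hg' d hd, mul_smul, hy]
  have hK : ker hx' y₂ = ⊥ := by
    refine eq_bot_of_sq _ (fun h => hm₂ ?_) fun s hs t ht => ?_
    · have : t₁ ∈ ker hx' y₂ := h ▸ AddSubgroup.mem_top t₁
      exact this
    · obtain ⟨h, hh, hh'⟩ := hx'.scale s hs
      have h1 : s ^ 2 * t ∈ ker hx' (h • y₂) := by
        rw [mem_ker_conj hx' hs hh', ← mul_assoc, inv_mul_cancel₀ (pow_ne_zero 2 hs), one_mul]
        exact ht
      exact hsemi _ (hx'.mem _) _ (hΔO h hh _ hy₂) h1 _ hy₂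
  let L : Finset Y := Finset.univ.image fun t => x' t • y₂
  have hinj : Function.Injective fun t => x' t • y₂ := fun s t e => by
    have h1 : -t + s ∈ ker hx' y₂ := by
      rw [mem_ker, hx'.add, mul_smul, root_neg hx', inv_smul_eq_iff]; exact e
    rw [hK, AddSubgroup.mem_bot, neg_add_eq_zero] at h1
    exact h1.symm
  have hLc : L.card = Fintype.card F := by
    rw [Finset.card_image_of_injective _ hinj, Finset.card_univ]
  let D : Finset Y := Finset.univ.filter fun z => ∃ d ∈ Δ, d • y₂ = z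
  have hLD : L ⊆ D := fun z hz => by
    obtain ⟨t, -, rfl⟩ := Finset.mem_image.1 hz
    exact Finset.mem_filter.2 ⟨Finset.mem_univ _, x' t, hx'.mem t, rfl⟩
  have hDO : D ⊆ O := fun z hz => by
    obtain ⟨d, hd, rfl⟩ := (Finset.mem_filter.1 hz).2
    exact hΔO d hd _ hy₂
  have hOle : O.card ≤ Fintype.card F + 1 := (Finset.card_le_univ O).trans hY
  have hq : 2 ≤ Fintype.card F := Fintype.one_lt_card
  have hOD : O ⊆ D := by
    intro z hz
    by_contra hzD
    obtain ⟨g, hg, hgz⟩ : ∃ g ∈ Γ, g • y₂ = z := by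
      obtain ⟨g₁, hg₁, e₁⟩ := hOm.1 hy₂
      obtain ⟨g₂, hg₂, e₂⟩ := hOm.1 hz
      exact ⟨g₂ * g₁⁻¹, mul_mem hg₂ (inv_mem hg₁), by rw [mul_smul, ← e₁, inv_smul_smul, e₂]⟩
    have hdis : Disjoint D (D.image fun w => g • w) := Finset.disjoint_left.2 fun w hw hw' => by
      obtain ⟨d, hd, rfl⟩ := (Finset.mem_filter.1 hw).2
      obtain ⟨v, hv, hv'⟩ := Finset.mem_image.1 hw'
      obtain ⟨e, he, rfl⟩ := (Finset.mem_filter.1 hv).2
      refine hzD (Finset.mem_filter.2 ⟨Finset.mem_univ _, e⁻¹ * d, mul_mem (inv_mem he) hd, ?_⟩)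
      rw [mul_smul, ← hv', ← mul_smul g e, hc g hg e he, mul_smul, inv_smul_smul, hgz]
    have hsub : D ∪ (D.image fun w => g • w) ⊆ O := by
      refine Finset.union_subset hDO fun w hw => ?_
      obtain ⟨v, hv, rfl⟩ := Finset.mem_image.1 hw
      obtain ⟨k, hk, rfl⟩ := hOm.1 (hDO hv)
      exact hOm.2 ⟨g * k, mul_mem hg hk, mul_smul _ _ _⟩
    have := Finset.card_le_card hsub
    rw [Finset.card_union_of_disjoint hdis, Finset.card_image_of_injective _ (MulAction.injective g)]
      at this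
    have := Finset.card_le_card hLD
    omega
  obtain ⟨hD1, hD2⟩ : O = D ∧ L = D := by
    refine ⟨Finset.Subset.antisymm hOD hDO, Finset.eq_of_subset_of_card_le hLD ?_⟩
    -- the image of `Δ` on `O` is regular and contains the translations, so it has order `q`
    let ρ : Δ →* Equiv.Perm O :=
      { toFun := fun d =>
          { toFun := fun z => ⟨(d : N) • (z : Y), hΔO d d.2 z z.2⟩
            invFun := fun z => ⟨(d : N)⁻¹ • (z : Y), hΔO _ (inv_mem d.2) z z.2⟩
            left_inv := fun z => Subtype.ext (inv_smul_smul _ _)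
            right_inv := fun z => Subtype.ext (smul_inv_smul _ _) }
        map_one' := Equiv.ext fun z => Subtype.ext (one_smul N (z : Y))
        map_mul' := fun a b => Equiv.ext fun z => Subtype.ext (mul_smul (a : N) (b : N) (z : Y)) }
    have hρ : Nat.card ρ.range = D.card := by
      rw [← Fintype.card_coe D, ← Nat.card_eq_fintype_card]
      refine Nat.card_eq_of_bijective (fun σ => ⟨((σ : Equiv.Perm O) ⟨y₂, hy₂⟩ : O), by
        obtain ⟨d, hd⟩ := σ.2
        exact Finset.mem_filter.2 ⟨Finset.mem_univ _, d, d.2, by rw [← hd]; rfl⟩⟩) ⟨?_, ?_⟩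
      · rintro ⟨σ, d, rfl⟩ ⟨τ, e, rfl⟩ h
        have h' : (d : N) • y₂ = (e : N) • y₂ := congrArg Subtype.val h
        refine Subtype.ext (Equiv.ext fun z => Subtype.ext ?_)
        show (d : N) • (z : Y) = (e : N) • (z : Y)
        have := hsemi ((e : N)⁻¹ * d) (mul_mem (inv_mem e.2) d.2) y₂ hy₂
          (by rw [mul_smul, h', inv_smul_smul]) z z.2
        rwa [mul_smul, inv_smul_eq_iff] at this
      · rintro ⟨z, hz⟩
        obtain ⟨d, hd, rfl⟩ := (Finset.mem_filter.1 hz).2
        exact ⟨⟨_, ⟨d, hd⟩, rfl⟩, rfl⟩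
    let f : Multiplicative F →* ρ.range :=
      { toFun := fun t => ⟨ρ ⟨x' t.toAdd, hx'.mem _⟩, _, rfl⟩
        map_one' := by
          refine Subtype.ext ?_
          show ρ _ = 1
          rw [← map_one ρ]
          exact congrArg ρ (Subtype.ext (root_zero hx'))
        map_mul' := fun a b => by
          refine Subtype.ext ?_
          show ρ _ = ρ _ * ρ _
          rw [← map_mul]
          exact congrArg ρ (Subtype.ext (hx'.add _ _)) }
    have hf : Function.Injective f := fun a b h => by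
      have h' := congrArg (fun σ : ρ.range => (((σ : Equiv.Perm O) ⟨y₂, hy₂⟩ : O) : Y)) h
      exact Multiplicative.toAdd.injective (hinj h')
    have hdvd : Fintype.card F ∣ D.card := by
      rw [← hρ, ← Nat.card_eq_fintype_card,
        show Nat.card F = Nat.card (Multiplicative F) from Nat.card_congr Multiplicative.ofAdd]
      exact Subgroup.card_dvd_of_injective f hf
    have := Finset.card_le_card hDO
    rw [hLc]
    rcases hdvd with ⟨c, hc⟩
    rcases Nat.lt_or_ge c 2 with hc2 | hc2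
    · interval_cases c <;> omega
    · have := Nat.mul_le_mul_left (Fintype.card F) hc2
      omega
  have hOL : O = L := hD1.trans hD2.symm
  have htr : ∀ g, g ∈ Γ ∨ g ∈ Δ → ∃ t, ∀ z, g • z = if z ∈ O then x' t • z else z := by
    intro g hg
    have hgO : ∀ z, z ∈ O → g • z ∈ O := fun z hz => by
      rcases hg with hg | hg
      · obtain ⟨k, hk, rfl⟩ := hOm.1 hz
        exact hOm.2 ⟨g * k, mul_mem hg hk, mul_smul _ _ _⟩
      · exact hΔO g hg z hz
    obtain ⟨t, -, ht⟩ := Finset.mem_image.1 (show g • y₂ ∈ L from hOL ▸ hgO _ hy₂)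
    refine ⟨t, fun z => ?_⟩
    by_cases hz : z ∈ O
    · rw [if_pos hz]
      rcases hg with hg | hg
      · obtain ⟨s, -, rfl⟩ := Finset.mem_image.1 (show z ∈ L from hOL ▸ hz)
        rw [← mul_smul, hc g hg _ (hx'.mem s), mul_smul, ← ht, ← mul_smul, ← mul_smul, ← hx'.add,
          ← hx'.add, add_comm]
      · have := hsemi ((x' t)⁻¹ * g) (mul_mem (inv_mem (hx'.mem t)) hg) y₂ hy₂
          (by rw [mul_smul, ← ht, inv_smul_smul]) z hz
        rwa [mul_smul, inv_smul_eq_iff] at this
    · rw [if_neg hz]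
      have h1 : ((Finset.univ : Finset Y) \ O).card ≤ 1 := by
        rw [← Finset.compl_eq_univ_sdiff, Finset.card_compl, hOL, hLc]; omega
      have h2 : g • z ∉ O := fun h => hz (by
        rcases hg with hg | hg
        · obtain ⟨k, hk, hk'⟩ := hOm.1 h
          exact hOm.2 ⟨g⁻¹ * k, mul_mem (inv_mem hg) hk, by rw [mul_smul, hk', inv_smul_smul]⟩
        · have := hΔO g⁻¹ (inv_mem hg) _ h
          rwa [inv_smul_smul] at this)
      exact Finset.card_le_one.1 h1 _ (by simp [h2]) _ (by simp [hz])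
  have hxO : ∀ t z, z ∈ O → x' t • z ∈ O := fun t z hz => hΔO _ (hx'.mem t) z hz
  have hcomm : ∀ g, g ∈ Γ ∨ g ∈ Δ → ∀ g', g' ∈ Γ ∨ g' ∈ Δ → ∀ y : Y, g • g' • y = g' • g • y := by
    intro g hg g' hg' z
    obtain ⟨t, ht⟩ := htr g hg
    obtain ⟨s, hs⟩ := htr g' hg'
    rw [ht, hs, ht, hs]
    by_cases hz : z ∈ O
    · simp only [if_pos hz, if_pos (hxO _ _ hz), ← mul_smul, ← hx'.add, add_comm s t]
    · simp [hz]
  refine ⟨?_, hcomm, fun g hg z => ?_⟩
  · have hsq : ∀ s : F, s ≠ 0 → s ^ 2 = 1 := by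
      intro s hs
      obtain ⟨h, hh, hh'⟩ := hx'.scale s hs
      have h1 := hh' 1
      rw [mul_one] at h1
      have h2 : x' (s ^ 2) • y₂ = x' 1 • y₂ := by
        rw [← h1, mul_smul, mul_smul, hcomm h (Or.inr hh) (x' 1) (Or.inr (hx'.mem 1)), smul_inv_smul]
      exact hinj h2
    have hle : (Finset.univ : Finset F) ⊆ {0, 1, -1} := fun s _ => by
      by_cases hs : s = 0
      · simp [hs]
      · rcases sq_eq_one_iff.1 (hsq s hs) with e | e <;> simp [e]
    have := (Finset.card_le_card hle).trans (Finset.card_le_three (a := (0 : F)) (b := 1) (c := -1))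
    simpa using this
  · obtain ⟨t, ht⟩ := htr g hg
    have hp : ∀ n : ℕ, g ^ n • z = if z ∈ O then x' (n • t) • z else z := by
      intro n
      induction n with
      | zero => simp [root_zero hx']
      | succ n ih =>
        rw [pow_succ', mul_smul, ih, ht]
        by_cases hz : z ∈ O
        · simp only [if_pos hz, if_pos (hxO _ _ hz), ← mul_smul, ← hx'.add, succ_nsmul']
        · simp [hz]
    rw [hp]
    by_cases hz : z ∈ O
    · rw [if_pos hz, show Fintype.card F • t = 0 by
        rw [nsmul_eq_mul, FiniteField.cast_card_eq_zero, zero_mul], root_zero hx', one_smul]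
    · rw [if_neg hz]

end Cfsg.Agent.MinIndexOrthPerm
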