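import Mathlib
import Cfsg.Agent.Lib.MinIndexOrthOrbit
import Cfsg.Agent.Lib.MinIndexOrthPerm
import Cfsg.Agent.Lib.MinIndexOrthInv

/-!
The two commuting parts of the Levi complement of a line, their root subgroups, and their effect on the
coordinates of stabilisers in the radical.
-/

set_option autoImplicit false

namespace Cfsg.Agent.MinIndexOrthLevi

open QuadraticMap hiding proj
open Cfsg.Agent.OrthUnitaryQuad Cfsg.Agent.OrthUnitaryRefl Cfsg.Agent.OrthUnitaryOmega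
open Cfsg.Agent.OrthUnitarySimple Cfsg.Agent.TwoGenSiegel
open Cfsg.Agent.MinIndexOrthTools Cfsg.Agent.MinIndexOrthCount Cfsg.Agent.MinIndexOrthLine
open Cfsg.Agent.MinIndexOrthOrbit Cfsg.Agent.MinIndexOrthPerm

variable {F V : Type*} [Field F] [Fintype F] [AddCommGroup V] [Module F V] [FiniteDimensional F V]
  {Q : QuadraticForm F V} {Ω : Type*} [MulAction (sGroup Q) Ω] (fr : Frame Q)

/-- Elements of `K` fixing the frame. -/
noncomputable def gam : Subgroup (K fr) where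
  carrier := {h | h.1.1.1 fr.u = fr.u ∧ h.1.1.1 fr.v = fr.v ∧ h.1.1.1 fr.u' = fr.u' ∧
    h.1.1.1 fr.v' = fr.v'}
  one_mem' := ⟨rfl, rfl, rfl, rfl⟩
  mul_mem' {g h} hg hh := by
    have e : ∀ x, (g * h).1.1.1 x = g.1.1.1 (h.1.1.1 x) := fun x => rfl
    exact ⟨by rw [e, hh.1, hg.1], by rw [e, hh.2.1, hg.2.1], by rw [e, hh.2.2.1, hg.2.2.1],
      by rw [e, hh.2.2.2, hg.2.2.2]⟩
  inv_mem' {g} hg := by
    have e : ∀ x, (g⁻¹ : K fr).1.1.1 (g.1.1.1 x) = x := fun x => act_inv_apply g.1.1 x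
    exact ⟨by conv_lhs => rw [← hg.1, e], by conv_lhs => rw [← hg.2.1, e],
      by conv_lhs => rw [← hg.2.2.1, e], by conv_lhs => rw [← hg.2.2.2, e]⟩

/-- Elements of `K` fixing the complement of the frame. -/
noncomputable def del : Subgroup (K fr) where
  carrier := {h | ∀ x ∈ fr.X, h.1.1.1 x = x}
  one_mem' := fun _ _ => rfl
  mul_mem' {g h} hg hh := fun x hx => by
    show g.1.1.1 (h.1.1.1 x) = x
    rw [hh x hx, hg x hx]
  inv_mem' {g} hg := fun x hx => by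
    conv_lhs => rw [← hg x hx]
    exact act_inv_apply g.1.1 x

variable {fr}

theorem gam_maps {h : K fr} (hh : h ∈ gam fr) {x : V} (hx : x ∈ fr.X) : h.1.1.1 x ∈ fr.X := by
  obtain ⟨⟨a, b⟩, c, d⟩ := (Frame.mem_X fr).1 hx
  refine (Frame.mem_X fr).2 ⟨⟨?_, ?_⟩, ?_, ?_⟩
  · conv_lhs => rw [← hh.1]
    rw [polar_orth h.1.1, a]
  · conv_lhs => rw [← hh.2.2.1]
    rw [polar_orth h.1.1, b]
  · conv_lhs => rw [← hh.2.1]
    rw [polar_orth h.1.1, c]
  · conv_lhs => rw [← hh.2.2.2]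
    rw [polar_orth h.1.1, d]

theorem gam_pr {h : K fr} (hh : h ∈ gam fr) (y : V) :
    fr.pr (h.1.1.1 y) = h.1.1.1 (fr.pr y) := by
  conv_lhs => rw [fr.eq_decomp y]
  simp only [map_add, map_smul, hh.1, hh.2.1, hh.2.2.1, hh.2.2.2, fr.pr_add, fr.pr_smul, fr.pr_u,
    fr.pr_v, fr.pr_u', fr.pr_v', fr.pr_of_mem (gam_maps hh (fr.pr_mem y)), smul_zero, zero_add]

theorem del_pr (hQ : (polarBilin Q).Nondegenerate) {h : K fr} (hh : h ∈ del fr) (y : V) :
    fr.pr (h.1.1.1 y) = fr.pr y :=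
  fr.pr_ext hQ fun a ha => by
    conv_lhs => rw [← hh a ha]
    rw [polar_orth h.1.1]

theorem gam_del_comm (hQ : (polarBilin Q).Nondegenerate) :
    ∀ g ∈ gam fr, ∀ d ∈ del fr, g * d = d * g := by
  intro g hg d hd
  have hfix : ∀ y, fr.pr y = 0 → g.1.1.1 y = y := by
    intro y hy
    conv_lhs => rw [fr.eq_decomp y, hy]
    conv_rhs => rw [fr.eq_decomp y, hy]
    simp [hg.1, hg.2.1, hg.2.2.1, hg.2.2.2]
  refine Subtype.ext (Subtype.ext (orth_ext fun x => ?_))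
  show g.1.1.1 (d.1.1.1 x) = d.1.1.1 (g.1.1.1 x)
  rw [fr.eq_decomp x]
  simp only [map_add, map_smul, hg.1, hg.2.1, hg.2.2.1, hg.2.2.2, hd _ (fr.pr_mem x),
    hd _ (gam_maps hg (fr.pr_mem x))]
  simp only [hfix _ ((del_pr hQ hd _).trans fr.pr_u), hfix _ ((del_pr hQ hd _).trans fr.pr_v),
    hfix _ ((del_pr hQ hd _).trans fr.pr_u'), hfix _ ((del_pr hQ hd _).trans fr.pr_v')]

/-- The coordinates of conjugates by `h` are given by `φ`. -/
def Tr (h : sGroup Q) (φ : V × V → V × V) : Prop :=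
  ∀ g ∈ rad fr, (cA fr (h * g * h⁻¹), cB fr (h * g * h⁻¹)) = φ (cA fr g, cB fr g)

omit [Fintype F] [FiniteDimensional F V] in
theorem Tr.mul {h k : sGroup Q} {φ ψ : V × V → V × V} (hk : k ∈ stabL fr)
    (H : Tr (fr := fr) h φ) (K' : Tr (fr := fr) k ψ) : Tr (fr := fr) (h * k) (φ ∘ ψ) := by
  intro g hg
  rw [show h * k * g * (h * k)⁻¹ = h * (k * g * k⁻¹) * h⁻¹ by group, H _ (rad_conj fr hk hg),
    K' g hg]
  rfl

omit [Fintype F] [FiniteDimensional F V] in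
theorem cA_conj (h g : sGroup Q) : cA fr (h * g * h⁻¹) =
    fr.pr (h.1.1 (g.1.1 ((h⁻¹ : sGroup Q).1.1 fr.u')) - fr.u') := rfl

omit [Fintype F] [FiniteDimensional F V] in
theorem cB_conj (h g : sGroup Q) : cB fr (h * g * h⁻¹) =
    fr.pr (h.1.1 (g.1.1 ((h⁻¹ : sGroup Q).1.1 fr.v')) - fr.v') := rfl

theorem tr_gam {h : K fr} (hh : h ∈ gam fr) :
    Tr (fr := fr) h.1 (fun m => (h.1.1.1 m.1, h.1.1.1 m.2)) := by
  intro g _
  have i1 : (h.1⁻¹ : sGroup Q).1.1 fr.u' = fr.u' := (inv_mem hh : h⁻¹ ∈ gam fr).2.2.1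
  have i2 : (h.1⁻¹ : sGroup Q).1.1 fr.v' = fr.v' := (inv_mem hh : h⁻¹ ∈ gam fr).2.2.2
  have e1 : h.1.1.1 (g.1.1 fr.u') - fr.u' = h.1.1.1 (g.1.1 fr.u' - fr.u') := by
    rw [map_sub, hh.2.2.1]
  have e2 : h.1.1.1 (g.1.1 fr.v') - fr.v' = h.1.1.1 (g.1.1 fr.v' - fr.v') := by
    rw [map_sub, hh.2.2.2]
  rw [cA_conj, cB_conj, i1, i2, e1, e2, gam_pr hh, gam_pr hh]
  rfl

/-- A fixed orbit gives an invariant coordinate subgroup. -/
theorem Mset_tr {h : sGroup Q} {φ : V × V → V × V} (hh : h ∈ stabL fr) (hφ : Tr (fr := fr) h φ)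
    {α : Ω} (hfix : (h • ·) '' orb fr α = orb fr α) {m : V × V} (hm : m ∈ Mset fr α) :
    φ m ∈ Mset fr α := by
  obtain ⟨g, hg, hga, rfl⟩ := hm
  rw [← hφ g hg, ← Mset_orb fr (show h • α ∈ orb fr α from hfix ▸ ⟨α, mem_orb_self fr α, rfl⟩)]
  exact ⟨_, rad_conj fr hh hg, by rw [mul_smul, mul_smul, inv_smul_smul, hga], rfl⟩

variable (hQ : (polarBilin Q).Nondegenerate) (hn : 7 ≤ Module.finrank F V)

include hQ hn

theorem mem_K_of {h : sGroup Q} {a b c d : F} (hu : h.1.1 fr.u = a • fr.u + b • fr.v)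
    (hv : h.1.1 fr.v = c • fr.u + d • fr.v) (hdet : a * d - b * c = 1) : h ∈ K fr := by
  refine (mem_K fr).2 ⟨mem_stabL_of fr ?_ ?_, fun s => ?_⟩
  · rw [hu]; exact Submodule.mem_span_pair.2 ⟨a, b, rfl⟩
  · rw [hv]; exact Submodule.mem_span_pair.2 ⟨c, d, rfl⟩
  · have e : h * zel fr s * h⁻¹ = zel fr s := by
      rw [zel, sg_conj hQ (by omega) h fr.h1.hu (zel_perp fr s), map_smul]
      have e0 : Q (h.1.1 fr.u) = 0 := by rw [map_orth h.1, fr.h1.hu]
      have e1 : polar Q (h.1.1 fr.u) (s • h.1.1 fr.v) = 0 := by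
        rw [← map_smul, polar_orth h.1, zel_perp fr s]
      apply Subtype.ext
      rw [sg_coe hQ (by omega) e0 e1, sg_coe hQ (by omega) fr.h1.hu (zel_perp fr s)]
      apply orth_ext
      intro x
      rw [siegel_apply, siegel_apply, hu, hv]
      simp only [polar_add_left, polar_smul_left, QuadraticMap.map_smul,
        QuadraticMap.map_add (⇑Q), polar_smul_right, fr.h1.hu, fr.h2.hu, fr.huv, smul_eq_mul,
        mul_zero, add_zero, zero_mul]
      match_scalars <;>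
        first
          | ring1
          | linear_combination (s * polar (⇑Q) fr.u x) * hdet
          | linear_combination (-(s * polar (⇑Q) fr.v x)) * hdet
    exact (mul_inv_eq_iff_eq_mul.1 e).symm

theorem mem_K_fix {h : sGroup Q} (hu : h.1.1 fr.u = fr.u) (hv : h.1.1 fr.v = fr.v) : h ∈ K fr :=
  mem_K_of hQ hn (a := 1) (b := 0) (c := 0) (d := 1) (by simp [hu]) (by simp [hv]) (by ring)

/-- Siegel transformations of the complement of the frame. -/
theorem sg_fix {a w : V} (ha : a ∈ fr.X) (hw : w ∈ fr.X) (hQa : Q a = 0) (haw : polar Q a w = 0)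
    {z : V} (hz : z = fr.u ∨ z = fr.v ∨ z = fr.u' ∨ z = fr.v') : (sg Q a w).1.1 z = z := by
  obtain ⟨⟨a1, a2⟩, a3, a4⟩ := (Frame.mem_X fr).1 ha
  obtain ⟨⟨w1, w2⟩, w3, w4⟩ := (Frame.mem_X fr).1 hw
  rw [sg_apply hQ (by omega) hQa haw, polar_comm Q a z, polar_comm Q w z]
  rcases hz with rfl | rfl | rfl | rfl <;> simp [a1, a2, a3, a4, w1, w2, w3, w4]

open Classical in
omit hQ hn in
/-- An element of `K`, with junk value `1`. -/
noncomputable def toK (fr : Frame Q) (h : sGroup Q) : K fr := if hh : h ∈ K fr then ⟨h, hh⟩ else 1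

omit hQ hn in
theorem toK_coe {h : sGroup Q} (hh : h ∈ K fr) : (toK fr h).1 = h := by rw [toK, dif_pos hh]

theorem sg_mem_K {a w : V} (ha : a ∈ fr.X) (hw : w ∈ fr.X) (hQa : Q a = 0)
    (haw : polar Q a w = 0) : sg Q a w ∈ K fr :=
  mem_K_fix hQ hn (sg_fix hQ hn ha hw hQa haw (Or.inl rfl))
    (sg_fix hQ hn ha hw hQa haw (Or.inr (Or.inl rfl)))

theorem toK_sg_mem {a w : V} (ha : a ∈ fr.X) (hw : w ∈ fr.X) (hQa : Q a = 0)
    (haw : polar Q a w = 0) : toK fr (sg Q a w) ∈ gam fr := by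
  have hk := sg_mem_K hQ hn ha hw hQa haw
  refine ⟨?_, ?_, ?_, ?_⟩ <;> rw [toK_coe hk]
  exacts [sg_fix hQ hn ha hw hQa haw (Or.inl rfl), sg_fix hQ hn ha hw hQa haw (Or.inr (Or.inl rfl)),
    sg_fix hQ hn ha hw hQa haw (Or.inr (Or.inr (Or.inl rfl))),
    sg_fix hQ hn ha hw hQa haw (Or.inr (Or.inr (Or.inr rfl)))]

/-- The element flipping a hyperbolic pair of the complement. -/
noncomputable def flipEl (a b y : V) : sGroup Q :=
  sg Q a y * sg Q b ((Q y)⁻¹ • y) * sg Q a y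

theorem flip_spec {a b y : V} (hab : Hyp Q a b) (hy : y ∈ comp Q a b) (hQy : Q y ≠ 0) :
    (flipEl (Q := Q) a b y).1.1 a = -((Q y)⁻¹ • b) ∧
      (flipEl (Q := Q) a b y).1.1 b = -(Q y • a) ∧
      (∀ x ∈ comp Q a b, (flipEl (Q := Q) a b y).1.1 x = x - ((Q y)⁻¹ * polar Q y x) • y) ∧
      ∀ x, polar Q a x = 0 → polar Q b x = 0 → polar Q y x = 0 →
        (flipEl (Q := Q) a b y).1.1 x = x := by
  have hay : polar Q a y = 0 := hy.1
  have hby : polar Q b ((Q y)⁻¹ • y) = 0 := by rw [polar_smul_right, show polar Q b y = 0 from hy.2,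
    smul_zero]
  have e : ∀ x, (flipEl (Q := Q) a b y).1.1 x =
      (siegel Q a y hab.hu hay).1 ((siegel Q b _ hab.hu' hby).1 ((siegel Q a y hab.hu hay).1 x)) :=
    fun x => by
      show (sg Q a y).1.1 ((sg Q b _).1.1 ((sg Q a y).1.1 x)) = _
      rw [sg_coe hQ (by omega) hab.hu hay, sg_coe hQ (by omega) hab.hu' hby]
  obtain ⟨hya, hyb⟩ := mem_comp'.1 hy
  have hby' : polar Q b y = 0 := hy.2
  have hcomp : ∀ x ∈ comp Q a b,
      (flipEl (Q := Q) a b y).1.1 x = x - ((Q y)⁻¹ * polar Q y x) • y := fun x hx => by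
    have h1 : polar Q a x = 0 := hx.1
    have h2 : polar Q b x = 0 := hx.2
    simp only [e, siegel_apply, polar_add_right, polar_sub_right, polar_smul_right, polar_smul_left,
      QuadraticMap.map_smul, polar_self_mul, hab.huu', hab.u'u, hab.hu, hay, hby', hya, hyb, h1, h2,
      smul_eq_mul]
    match_scalars <;> field_simp <;> ring
  refine ⟨?_, ?_, hcomp, fun x h1 h2 h3 => ?_⟩
  · simp only [e, siegel_apply, polar_add_right, polar_sub_right, polar_smul_right, polar_smul_left,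
      QuadraticMap.map_smul, polar_self_mul, hab.huu', hab.u'u, hab.hu, hab.hu', hay, hby', hya, hyb,
      smul_eq_mul]
    match_scalars <;> field_simp <;> ring
  · simp only [e, siegel_apply, polar_add_right, polar_sub_right, polar_smul_right, polar_smul_left,
      QuadraticMap.map_smul, polar_self_mul, hab.huu', hab.u'u, hab.hu, hab.hu', hay, hby', hya, hyb,
      smul_eq_mul]
    match_scalars <;> field_simp <;> ring
  · rw [hcomp x ⟨h1, h2⟩, h3, mul_zero, zero_smul, sub_zero]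

theorem flip_mem {a b y : V} (ha : a ∈ fr.X) (hb : b ∈ fr.X) (hy : y ∈ fr.X) (hab : Hyp Q a b)
    (hyc : y ∈ comp Q a b) :
    flipEl (Q := Q) a b y ∈ K fr ∧ toK fr (flipEl (Q := Q) a b y) ∈ gam fr ∧
      toK fr (flipEl (Q := Q) a b y) =
        toK fr (sg Q a y) * toK fr (sg Q b ((Q y)⁻¹ • y)) * toK fr (sg Q a y) := by
  have h1 := toK_sg_mem hQ hn ha hy hab.hu hyc.1
  have hyb : polar Q b ((Q y)⁻¹ • y) = 0 := by
    rw [polar_smul_right, show polar Q b y = 0 from hyc.2, smul_zero]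
  have h2 := toK_sg_mem hQ hn hb (fr.X.smul_mem _ hy) hab.hu' hyb
  have k1 := sg_mem_K hQ hn ha hy hab.hu hyc.1
  have k2 := sg_mem_K hQ hn hb (fr.X.smul_mem (Q y)⁻¹ hy) hab.hu' hyb
  have k : flipEl (Q := Q) a b y ∈ K fr := mul_mem (mul_mem k1 k2) k1
  have e : toK fr (flipEl (Q := Q) a b y) =
      toK fr (sg Q a y) * toK fr (sg Q b ((Q y)⁻¹ • y)) * toK fr (sg Q a y) := by
    apply Subtype.ext
    rw [Subgroup.coe_mul, Subgroup.coe_mul, toK_coe k, toK_coe k1, toK_coe k2]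
    rfl
  exact ⟨k, e ▸ mul_mem (mul_mem h1 h2) h1, e⟩

omit hQ hn in
theorem toK_mul {g h : sGroup Q} (hg : g ∈ K fr) (hh : h ∈ K fr) :
    toK fr (g * h) = toK fr g * toK fr h := by
  apply Subtype.ext
  rw [toK_coe (mul_mem hg hh), Subgroup.coe_mul, toK_coe hg, toK_coe hh]

omit hQ hn in
theorem toK_conj {g h : sGroup Q} (hg : g ∈ K fr) (hh : h ∈ K fr) :
    toK fr g * toK fr h * (toK fr g)⁻¹ = toK fr (g * h * g⁻¹) := by
  apply Subtype.ext
  rw [Subgroup.coe_mul, Subgroup.coe_mul, Subgroup.coe_inv, toK_coe hg, toK_coe hh,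
    toK_coe (mul_mem (mul_mem hg hh) (inv_mem hg))]

theorem sg_scale {u w : V} {c : F} (hu : Q u = 0) (hw : polar Q u w = 0) :
    sg Q (c • u) w = sg Q u (c • w) := by
  have e0 : Q (c • u) = 0 := by rw [QuadraticMap.map_smul, hu, smul_zero]
  have e1 : polar Q (c • u) w = 0 := by rw [polar_smul_left, hw, smul_zero]
  apply Subtype.ext
  rw [sg_coe hQ (by omega) e0 e1, sg_coe hQ (by omega) hu (by rw [polar_smul_right, hw, smul_zero]),
    siegel_scale]

theorem root_gam {a b y : V} (ha : a ∈ fr.X) (hb : b ∈ fr.X) (hy : y ∈ fr.X) (hab : Hyp Q a b)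
    (hyc : y ∈ comp Q a b) {y₀ : V} (hy₀ : y₀ ∈ fr.X) (hy₀c : y₀ ∈ comp Q a b) (hQy₀ : Q y₀ ≠ 0) :
    Root (gam fr) (fun t : F => toK fr (sg Q a (t • y))) := by
  have hay : ∀ t : F, polar Q a (t • y) = 0 := fun t => by
    rw [polar_smul_right, show polar Q a y = 0 from hyc.1, smul_zero]
  refine ⟨fun t => toK_sg_mem hQ hn ha (fr.X.smul_mem _ hy) hab.hu (hay t), fun s t => ?_,
    fun s hs => ?_⟩
  · show toK fr _ = toK fr _ * toK fr _
    rw [add_smul, sg_add hQ (by omega) hab.hu (hay s) (hay t),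
      toK_mul (sg_mem_K hQ hn ha (fr.X.smul_mem _ hy) hab.hu (hay s))
        (sg_mem_K hQ hn ha (fr.X.smul_mem _ hy) hab.hu (hay t))]
  · have hsy : s • y₀ ∈ comp Q a b := Submodule.smul_mem _ _ hy₀c
    have hQsy : Q (s • y₀) ≠ 0 := by
      simp [QuadraticMap.map_smul, hs, hQy₀]
    obtain ⟨k1, g1, -⟩ := flip_mem hQ hn ha hb (fr.X.smul_mem s hy₀) hab hsy
    obtain ⟨k2, g2, -⟩ := flip_mem hQ hn ha hb hy₀ hab hy₀c
    obtain ⟨-, b1, c1, -⟩ := flip_spec hQ hn hab hsy hQsy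
    obtain ⟨a2, -, c2, -⟩ := flip_spec hQ hn hab hy₀c hQy₀
    refine ⟨_, mul_mem g1 g2, fun t => ?_⟩
    rw [← toK_mul k1 k2, toK_conj (mul_mem k1 k2) (sg_mem_K hQ hn ha (fr.X.smul_mem _ hy) hab.hu (hay t)),
      sg_conj hQ (by omega) _ hab.hu (hay t)]
    congr 1
    have e1 : (flipEl (Q := Q) a b (s • y₀) * flipEl (Q := Q) a b y₀).1.1 a = (s ^ 2) • a := by
      show (flipEl (Q := Q) a b (s • y₀)).1.1 ((flipEl (Q := Q) a b y₀).1.1 a) = _
      rw [a2, map_neg, map_smul, b1, QuadraticMap.map_smul, smul_neg, neg_neg, smul_smul,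
        smul_eq_mul]
      congr 1
      field_simp
    have e2 : (flipEl (Q := Q) a b (s • y₀) * flipEl (Q := Q) a b y₀).1.1 (t • y) = t • y := by
      show (flipEl (Q := Q) a b (s • y₀)).1.1 ((flipEl (Q := Q) a b y₀).1.1 (t • y)) = _
      have hty : t • y ∈ comp Q a b := Submodule.smul_mem _ _ hyc
      rw [c2 _ hty, c1 _ (sub_mem hty (Submodule.smul_mem _ _ hy₀c))]
      simp only [polar_sub_right, polar_smul_right, polar_smul_left, polar_self_mul,
        QuadraticMap.map_smul, smul_eq_mul]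
      match_scalars <;> field_simp <;> ring
    rw [e1, e2, sg_scale hQ hn hab.hu (hay t), smul_smul]

omit hQ hn in
/-- Root elements mixing the two vectors of the line. -/
noncomputable def xU (fr : Frame Q) (t : F) : sGroup Q := sg Q fr.u (t • fr.v')

omit hQ hn in
/-- The other root elements mixing the two vectors of the line. -/
noncomputable def xV (fr : Frame Q) (t : F) : sGroup Q := sg Q fr.v (t • fr.u')

theorem xU_apply (t : F) (x : V) :
    (xU fr t).1.1 x = x + polar Q fr.u x • t • fr.v' - (t * polar Q fr.v' x) • fr.u := by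
  rw [xU, sg_apply hQ (by omega) fr.h1.hu (by rw [polar_smul_right, fr.huv', smul_zero]),
    polar_smul_left, QuadraticMap.map_smul, fr.h2.hu']
  simp

theorem xV_apply (t : F) (x : V) :
    (xV fr t).1.1 x = x + polar Q fr.v x • t • fr.u' - (t * polar Q fr.u' x) • fr.v :=
  xU_apply (fr := fr.swap) hQ hn t x

theorem xU_mem (t : F) : xU fr t ∈ K fr ∧ toK fr (xU fr t) ∈ del fr := by
  have hk : xU fr t ∈ K fr := mem_K_of hQ hn (a := 1) (b := 0) (c := -t) (d := 1)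
    (by rw [xU_apply hQ hn, fr.h1.uu, polar_comm Q fr.v' fr.u, fr.huv']; simp)
    (by rw [xU_apply hQ hn, fr.huv, fr.h2.u'u]; simp [sub_eq_add_neg, add_comm]) (by ring)
  refine ⟨hk, fun x hx => ?_⟩
  rw [toK_coe hk, xU_apply hQ hn, show polar Q fr.u x = 0 from hx.1.1,
    show polar Q fr.v' x = 0 from hx.2.2]
  simp

theorem xV_mem (t : F) : xV fr t ∈ K fr ∧ toK fr (xV fr t) ∈ del fr := by
  have hk : xV fr t ∈ K fr := mem_K_of hQ hn (a := 1) (b := -t) (c := 0) (d := 1)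
    (by
      rw [xV_apply hQ hn, fr.h1.u'u, polar_comm Q fr.v fr.u, fr.huv]
      simp [sub_eq_add_neg])
    (by rw [xV_apply hQ hn, fr.h2.uu, fr.hu'v]; simp) (by ring)
  refine ⟨hk, fun x hx => ?_⟩
  rw [toK_coe hk, xV_apply hQ hn, show polar Q fr.v x = 0 from hx.2.1,
    show polar Q fr.u' x = 0 from hx.1.2]
  simp

theorem xU_add (s t : F) : xU fr (s + t) = xU fr s * xU fr t := by
  rw [xU, xU, xU, add_smul, sg_add hQ (by omega) fr.h1.hu] <;>
    rw [polar_smul_right, fr.huv', smul_zero]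

theorem xV_add (s t : F) : xV fr (s + t) = xV fr s * xV fr t :=
  xU_add (fr := fr.swap) hQ hn s t

theorem tr_xU (t : F) : Tr (fr := fr) (xU fr t) (fun m => (m.1 - t • m.2, m.2)) := by
  intro g _
  have hinv : (xU fr t)⁻¹ = xU fr (-t) := by
    refine inv_eq_of_mul_eq_one_right ?_
    rw [← xU_add hQ hn, add_neg_cancel, xU, zero_smul]
    apply Subtype.ext
    rw [sg_coe hQ (by omega) fr.h1.hu (polar_zero_right _ _)]
    exact siegel_eq_one _ _ (a := 0) (zero_smul F fr.u).symm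
  have hpr : ∀ y, fr.pr ((xU fr t).1.1 y) = fr.pr y := fun y => by
    rw [xU_apply hQ hn, fr.pr_sub, fr.pr_add]
    simp [fr.pr_smul, fr.pr_u, fr.pr_v']
  have i1 : (xU fr (-t)).1.1 fr.u' = fr.u' - t • fr.v' := by
    rw [xU_apply hQ hn, fr.h1.huu', polar_comm Q fr.v' fr.u', fr.hu'v']
    simp [sub_eq_add_neg]
  have i2 : (xU fr (-t)).1.1 fr.v' = fr.v' := by
    rw [xU_apply hQ hn, fr.huv', fr.h2.u'u']; simp
  rw [cA_conj, cB_conj, hinv, i1, i2, map_sub, map_smul, fr.pr_sub, fr.pr_sub, hpr, hpr, fr.pr_sub,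
    fr.pr_smul, fr.pr_u', fr.pr_v', sub_zero, sub_zero, cA, cB, fr.pr_sub, fr.pr_sub, fr.pr_u',
    fr.pr_v', sub_zero, sub_zero]

theorem tr_xV (t : F) : Tr (fr := fr) (xV fr t) (fun m => (m.1, m.2 - t • m.1)) := by
  intro g hg
  have hg' : g ∈ rad fr.swap := ⟨hg.2.1, hg.1, fun x h1 h2 => by
    have := hg.2.2 x h2 h1
    rwa [show ({fr.swap.u, fr.swap.v} : Set V) = {fr.u, fr.v} from Set.pair_comm _ _]⟩
  have hpr : ∀ y, fr.swap.pr y = fr.pr y := fun y => by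
    rw [fr.swap.pr_ext hQ (y := y) (y' := fr.pr y) fun a ha =>
        (fr.polar_pr (⟨ha.2, ha.1⟩ : a ∈ fr.X) y).symm]
    exact fr.swap.pr_of_mem (⟨(fr.pr_mem y).2, (fr.pr_mem y).1⟩ : fr.pr y ∈ fr.swap.X)
  have h := tr_xU (fr := fr.swap) hQ hn t g hg'
  simp only [cA, cB, hpr, Prod.mk.injEq] at h
  exact Prod.ext h.2 h.1

/-- The elements of the line's `SL₂` exchanging the two vectors. -/
theorem weyl_spec (s : F) (hs : s ≠ 0) :
    let J := xU fr s * xV fr (-s⁻¹) * xU fr s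
    J.1.1 fr.u = s⁻¹ • fr.v ∧ J.1.1 fr.v = -(s • fr.u) ∧ J.1.1 fr.v' = -(s⁻¹ • fr.u') ∧
      J.1.1 fr.u' = s • fr.v' := by
  intro J
  have e : ∀ x, J.1.1 x = (xU fr s).1.1 ((xV fr (-s⁻¹)).1.1 ((xU fr s).1.1 x)) := fun x => rfl
  have vu : polar Q fr.v fr.u = 0 := by rw [polar_comm, fr.huv]
  have vu' : polar Q fr.v fr.u' = 0 := by rw [polar_comm, fr.hu'v]
  have v'u : polar Q fr.v' fr.u = 0 := by rw [polar_comm, fr.huv']
  have v'u' : polar Q fr.v' fr.u' = 0 := by rw [polar_comm, fr.hu'v']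
  refine ⟨?_, ?_, ?_, ?_⟩ <;>
    · simp only [e, xU_apply hQ hn, xV_apply hQ hn, polar_add_right, polar_sub_right,
        polar_smul_right, fr.h1.uu, fr.h1.huu', fr.h1.u'u, fr.h1.u'u', fr.h2.uu, fr.h2.huu',
        fr.h2.u'u, fr.h2.u'u', fr.huv, fr.huv', fr.hu'v, fr.hu'v', vu, vu', v'u, v'u', smul_eq_mul]
      match_scalars <;> field_simp <;> ring

theorem root_del_U : Root (del fr) (fun t : F => toK fr (xU fr t)) := by
  refine ⟨fun t => (xU_mem hQ hn t).2, fun s t => ?_, fun s hs => ?_⟩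
  · show toK fr _ = toK fr _ * toK fr _
    rw [xU_add hQ hn, toK_mul (xU_mem hQ hn s).1 (xU_mem hQ hn t).1]
  · obtain ⟨u1, v1, w1, z1⟩ := weyl_spec (fr := fr) hQ hn s hs
    obtain ⟨u2, v2, w2, z2⟩ := weyl_spec (fr := fr) hQ hn (1 : F) one_ne_zero
    set J1 := xU fr s * xV fr (-s⁻¹) * xU fr s
    set J2 := xU fr (1 : F) * xV fr (-(1 : F)⁻¹) * xU fr (1 : F)
    have kU := fun r => (xU_mem (fr := fr) hQ hn r)
    have kV := fun r => (xV_mem (fr := fr) hQ hn r)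
    have k1 : J1 ∈ K fr := mul_mem (mul_mem (kU _).1 (kV _).1) (kU _).1
    have k2 : J2 ∈ K fr := mul_mem (mul_mem (kU _).1 (kV _).1) (kU _).1
    refine ⟨toK fr (J1 * J2), ?_, fun t => ?_⟩
    · rw [toK_mul k1 k2, toK_mul (mul_mem (kU _).1 (kV _).1) (kU _).1,
        toK_mul (mul_mem (kU _).1 (kV _).1) (kU _).1, toK_mul (kU _).1 (kV _).1,
        toK_mul (kU _).1 (kV _).1]
      exact mul_mem (mul_mem (mul_mem (kU _).2 (kV _).2) (kU _).2)
        (mul_mem (mul_mem (kU _).2 (kV _).2) (kU _).2)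
    · rw [toK_conj (mul_mem k1 k2) (kU _).1]
      congr 1
      have e1 : (J1 * J2).1.1 fr.u = (-s) • fr.u := by
        show J1.1.1 (J2.1.1 fr.u) = _
        rw [u2, inv_one, one_smul, v1, neg_smul]
      have e2 : (J1 * J2).1.1 (t • fr.v') = (-(s * t)) • fr.v' := by
        show J1.1.1 (J2.1.1 (t • fr.v')) = _
        rw [map_smul, w2, inv_one, one_smul, map_smul, map_neg, z1]
        module
      have hp : ∀ r : F, polar Q fr.u (r • fr.v') = 0 := fun r => by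
        rw [polar_smul_right, fr.huv', smul_zero]
      rw [xU, sg_conj hQ (by omega) _ fr.h1.hu (hp t), e1, e2, sg_scale hQ hn fr.h1.hu (hp _), xU,
        smul_smul]
      congr 2
      ring

theorem root_del_V : Root (del fr) (fun t : F => toK fr (xV fr t)) := by
  refine ⟨fun t => (xV_mem hQ hn t).2, fun s t => ?_, fun s hs => ?_⟩
  · show toK fr _ = toK fr _ * toK fr _
    rw [xV_add hQ hn, toK_mul (xV_mem hQ hn s).1 (xV_mem hQ hn t).1]
  · have kU := fun r => (xU_mem (fr := fr) hQ hn r)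
    have kV := fun r => (xV_mem (fr := fr) hQ hn r)
    obtain ⟨u1, v1, w1, z1⟩ := weyl_spec (fr := fr) hQ hn s⁻¹ (inv_ne_zero hs)
    obtain ⟨u2, v2, w2, z2⟩ := weyl_spec (fr := fr) hQ hn (1 : F) one_ne_zero
    set J1 := xU fr s⁻¹ * xV fr (-s⁻¹⁻¹) * xU fr s⁻¹
    set J2 := xU fr (1 : F) * xV fr (-(1 : F)⁻¹) * xU fr (1 : F)
    have k1 : J1 ∈ K fr := mul_mem (mul_mem (kU _).1 (kV _).1) (kU _).1
    have k2 : J2 ∈ K fr := mul_mem (mul_mem (kU _).1 (kV _).1) (kU _).1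
    refine ⟨toK fr (J1 * J2), ?_, fun t => ?_⟩
    · rw [toK_mul k1 k2, toK_mul (mul_mem (kU _).1 (kV _).1) (kU _).1,
        toK_mul (mul_mem (kU _).1 (kV _).1) (kU _).1, toK_mul (kU _).1 (kV _).1,
        toK_mul (kU _).1 (kV _).1]
      exact mul_mem (mul_mem (mul_mem (kU _).2 (kV _).2) (kU _).2)
        (mul_mem (mul_mem (kU _).2 (kV _).2) (kU _).2)
    · rw [toK_conj (mul_mem k1 k2) (kV _).1]
      congr 1
      have e1 : (J1 * J2).1.1 fr.v = (-s) • fr.v := by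
        show J1.1.1 (J2.1.1 fr.v) = _
        rw [v2, one_smul, map_neg, u1, inv_inv, neg_smul]
      have e2 : (J1 * J2).1.1 (t • fr.u') = (-(s * t)) • fr.u' := by
        show J1.1.1 (J2.1.1 (t • fr.u')) = _
        rw [map_smul, z2, one_smul, map_smul, w1, inv_inv]
        module
      have hp : ∀ r : F, polar Q fr.v (r • fr.u') = 0 := fun r => by
        rw [polar_smul_right, polar_comm Q fr.v fr.u', fr.hu'v, smul_zero]
      rw [xV, sg_conj hQ (by omega) _ fr.h2.hu (hp t), e1, e2, sg_scale hQ hn fr.h2.hu (hp _), xV,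
        smul_smul]
      congr 2
      ring

end Cfsg.Agent.MinIndexOrthLevi
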