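import Mathlib
import Cfsg.Agent.Lib.MinIndexOrthLevi
import Cfsg.Agent.Lib.MinIndexOrthInv

/-!
Fields with two or three elements: the two parts of the Levi complement of a line cannot both move orbits.
-/

set_option autoImplicit false

namespace Cfsg.Agent.MinIndexOrthSmallQ

open QuadraticMap hiding proj
open Cfsg.Agent.OrthUnitaryQuad Cfsg.Agent.OrthUnitaryRefl Cfsg.Agent.OrthUnitaryOmega
open Cfsg.Agent.OrthUnitarySimple Cfsg.Agent.TwoGenSiegel
open Cfsg.Agent.MinIndexOrthTools Cfsg.Agent.MinIndexOrthCount Cfsg.Agent.MinIndexOrthLine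
open Cfsg.Agent.MinIndexOrthOrbit Cfsg.Agent.MinIndexOrthLevi

variable {F V : Type*} [Field F] [Fintype F] [AddCommGroup V] [Module F V] [FiniteDimensional F V]
  {Q : QuadraticForm F V} {Ω : Type*} [MulAction (sGroup Q) Ω] [Finite Ω]

section

variable {fr : Frame Q} {α : Ω} {P : Type*} [Group P]

/-- A homomorphism of `K` with commuting images of exponent `q` on both parts, whose kernel fixes the
coordinate subgroup, the latter being totally isotropic. -/
structure Kill (ρ : K fr →* P) (α : Ω) : Prop where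
  comm : ∀ g, g ∈ gam fr ∨ g ∈ del fr → ∀ g', g' ∈ gam fr ∨ g' ∈ del fr → Commute (ρ g) (ρ g')
  exp : ∀ g, g ∈ gam fr ∨ g ∈ del fr → ρ g ^ Fintype.card F = 1
  inv : ∀ h ∈ K fr, ρ (toK fr h) = 1 → ∀ φ, Tr (fr := fr) h φ → ∀ m ∈ Mset fr α, φ m ∈ Mset fr α
  iso : ∀ m ∈ Mset fr α, ∀ m' ∈ Mset fr α, polar Q m.1 m'.2 = polar Q m.2 m'.1

variable {ρ : K fr →* P} (H : Kill ρ α) (hQ : (polarBilin Q).Nondegenerate)
  (hn : 7 ≤ Module.finrank F V)

/-! ### Small fields -/

omit [Finite Ω] in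
theorem eq_one_of_card_two (h : Fintype.card F = 2) {x : F} (hx : x ≠ 0) : x = 1 := by
  have := FiniteField.pow_card_sub_one_eq_one x hx
  rwa [h, pow_one] at this

omit [Finite Ω] in
theorem two_eq_zero (h : Fintype.card F = 2) : (2 : F) = 0 := by
  have := Nat.cast_card_eq_zero F
  rwa [h, Nat.cast_ofNat] at this

omit [Finite Ω] in
theorem three_eq_zero (h : Fintype.card F = 3) : (3 : F) = 0 := by
  have := Nat.cast_card_eq_zero F
  rwa [h, Nat.cast_ofNat] at this

omit [Finite Ω] in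
theorem sq_eq_one (h : Fintype.card F = 3) {x : F} (hx : x ≠ 0) : x ^ 2 = 1 := by
  have := FiniteField.pow_card_sub_one_eq_one x hx
  rwa [h] at this

omit [Finite Ω] in
theorem two_ne_zero_three (h : Fintype.card F = 3) : (2 : F) ≠ 0 := fun h2 => one_ne_zero (α := F) (by
  linear_combination three_eq_zero h - h2)

include H hQ hn

/-! ### Images of Siegel transformations -/

theorem rho_add {a w w' : V} (ha : a ∈ fr.X) (hw : w ∈ fr.X) (hw' : w' ∈ fr.X) (hQa : Q a = 0)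
    (haw : polar Q a w = 0) (haw' : polar Q a w' = 0) :
    ρ (toK fr (sg Q a (w + w'))) = ρ (toK fr (sg Q a w)) * ρ (toK fr (sg Q a w')) := by
  rw [sg_add hQ (by omega) hQa haw haw', toK_mul (sg_mem_K hQ hn ha hw hQa haw)
    (sg_mem_K hQ hn ha hw' hQa haw'), map_mul]

theorem rho_zero {a : V} (ha : a ∈ fr.X) (hQa : Q a = 0) : ρ (toK fr (sg Q a 0)) = 1 := by
  have h := rho_add H hQ hn ha fr.X.zero_mem fr.X.zero_mem hQa (polar_zero_right _ _) (polar_zero_right _ _)
  rwa [add_zero, left_eq_mul] at h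

theorem rho_neg {a w : V} (ha : a ∈ fr.X) (hw : w ∈ fr.X) (hQa : Q a = 0) (haw : polar Q a w = 0) :
    ρ (toK fr (sg Q a (-w))) = (ρ (toK fr (sg Q a w)))⁻¹ := by
  have h := rho_add H hQ hn ha (neg_mem hw) hw hQa (by rw [polar_neg_right, haw, neg_zero]) haw
  rw [neg_add_cancel, rho_zero H hQ hn ha hQa] at h
  exact eq_inv_of_mul_eq_one_left h.symm

/-- Conjugation inside the part fixing the frame is invisible. -/
theorem rho_conj {g : K fr} (hg : g ∈ gam fr) {a w : V} (ha : a ∈ fr.X) (hw : w ∈ fr.X)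
    (hQa : Q a = 0) (haw : polar Q a w = 0) :
    ρ (toK fr (sg Q (g.1.1.1 a) (g.1.1.1 w))) = ρ (toK fr (sg Q a w)) := by
  have hk := sg_mem_K (fr := fr) hQ hn ha hw hQa haw
  have e : g * toK fr (sg Q a w) * g⁻¹ = toK fr (sg Q (g.1.1.1 a) (g.1.1.1 w)) := by
    apply Subtype.ext
    rw [← sg_conj hQ (by omega) g.1 hQa haw, toK_coe (mul_mem (mul_mem g.2 hk) (inv_mem g.2)),
      Subgroup.coe_mul, Subgroup.coe_mul, Subgroup.coe_inv, toK_coe hk]
  rw [← e, map_mul, map_mul, map_inv,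
    (H.comm g (Or.inl hg) _ (Or.inl (toK_sg_mem hQ hn ha hw hQa haw))).eq, mul_inv_cancel_right]

theorem rho_flip {a b y : V} (ha : a ∈ fr.X) (hb : b ∈ fr.X) (hy : y ∈ fr.X) (hab : Hyp Q a b)
    (hyc : y ∈ comp Q a b) (hQy : Q y ≠ 0) :
    ρ (toK fr (flipEl (Q := Q) a b y)) = ρ (toK fr (sg Q a y)) ^ 3 := by
  obtain ⟨k, g, e⟩ := flip_mem (fr := fr) hQ hn ha hb hy hab hyc
  obtain ⟨fa, -, fc, -⟩ := flip_spec (Q := Q) hQ hn hab hyc hQy
  have hby : polar Q b y = 0 := hyc.2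
  have h := rho_conj H hQ hn g ha hy hab.hu hyc.1
  rw [toK_coe k, fa, fc y hyc, show -((Q y)⁻¹ • b) = (-(Q y)⁻¹) • b from (neg_smul _ _).symm,
    sg_scale hQ hn hab.hu' (by
      rw [polar_sub_right, polar_smul_right, hby, smul_zero, sub_zero])] at h
  rw [show (-(Q y)⁻¹) • (y - ((Q y)⁻¹ * polar Q y y) • y) = (Q y)⁻¹ • y by
    rw [polar_self_mul]; match_scalars; field_simp; ring] at h
  rw [e, map_mul, map_mul, h, pow_three, mul_assoc]

theorem rho_xV (t : F) : ρ (toK fr (xV fr (-t))) = ρ (toK fr (xU fr t)) := by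
  have kU := fun r => xU_mem (fr := fr) hQ hn r
  have kV := fun r => xV_mem (fr := fr) hQ hn r
  obtain ⟨j1, -, j3, -⟩ := weyl_spec (fr := fr) hQ hn (1 : F) one_ne_zero
  set J := xU fr (1 : F) * xV fr (-(1 : F)⁻¹) * xU fr (1 : F)
  have kJ : J ∈ K fr := mul_mem (mul_mem (kU _).1 (kV _).1) (kU _).1
  have dJ : toK fr J ∈ del fr := by
    rw [toK_mul (mul_mem (kU _).1 (kV _).1) (kU _).1, toK_mul (kU _).1 (kV _).1]
    exact mul_mem (mul_mem (kU _).2 (kV _).2) (kU _).2
  have hp : polar Q fr.u (t • fr.v') = 0 := by rw [polar_smul_right, fr.huv', smul_zero]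
  have e : J * xU fr t * J⁻¹ = xV fr (-t) := by
    rw [xU, sg_conj hQ (by omega) _ fr.h1.hu hp, map_smul, j1, j3, inv_one, one_smul, one_smul,
      smul_neg, xV, neg_smul]
  rw [← e, ← toK_conj kJ (kU t).1, map_mul, map_mul, map_inv,
    (H.comm _ (Or.inr dJ) _ (Or.inr (kU t).2)).eq, mul_inv_cancel_right]

/-- The first cyclic symmetry of the coordinates. -/
theorem inv_two (h2 : Fintype.card F = 2) {m : V × V} (hm : m ∈ Mset fr α) :
    (m.2, m.1 + m.2) ∈ Mset fr α := by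
  have kU := fun r => xU_mem (fr := fr) hQ hn r
  have kV := fun r => xV_mem (fr := fr) hQ hn r
  have h1 : ρ (toK fr (xU fr (1 : F) * xV fr (-1))) = 1 := by
    rw [toK_mul (kU _).1 (kV _).1, map_mul, rho_xV H hQ hn, ← pow_two, ← h2]
    exact H.exp _ (Or.inr (kU _).2)
  have h := H.inv _ (mul_mem (kU _).1 (kV _).1) h1 _
    (Tr.mul ((mem_K fr).1 (kV _).1).1 (tr_xU hQ hn (1 : F)) (tr_xV hQ hn (-1 : F))) m hm
  have hneg : (-1 : F) = 1 := eq_one_of_card_two h2 (neg_ne_zero.2 one_ne_zero)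
  convert h using 1
  simp only [Function.comp_apply, hneg, one_smul]
  have hd : ∀ x : V, -x = x := fun x => by rw [← neg_one_smul F x, hneg, one_smul]
  rw [Prod.mk.injEq]
  constructor
  · rw [sub_sub_eq_add_sub, sub_eq_add_neg (m.1 + m.1), hd, ← two_smul F m.1, two_eq_zero h2, zero_smul,
      zero_add]
  · rw [sub_eq_add_neg, hd, add_comm]

/-- The quarter turn of the coordinates. -/
theorem inv_three (h3 : Fintype.card F = 3) {m : V × V} (hm : m ∈ Mset fr α) :
    (-m.2, m.1) ∈ Mset fr α := by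
  have kU := fun r => xU_mem (fr := fr) hQ hn r
  have kV := fun r => xV_mem (fr := fr) hQ hn r
  have k1 := mul_mem (kU (1 : F)).1 (kV (-1 : F)).1
  have h1 : ρ (toK fr (xU fr (1 : F) * xV fr (-1) * xU fr (1 : F))) = 1 := by
    rw [toK_mul k1 (kU _).1, toK_mul (kU _).1 (kV _).1, map_mul, map_mul, rho_xV H hQ hn, mul_assoc,
      ← pow_three, ← h3]
    exact H.exp _ (Or.inr (kU _).2)
  have h := H.inv _ (mul_mem k1 (kU _).1) h1 _
    (Tr.mul ((mem_K fr).1 (kU _).1).1
      (Tr.mul ((mem_K fr).1 (kV _).1).1 (tr_xU hQ hn (1 : F)) (tr_xV hQ hn (-1 : F)))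
      (tr_xU hQ hn (1 : F))) m hm
  convert h using 1
  simp only [Function.comp_apply, one_smul, neg_smul, Prod.mk.injEq]
  constructor <;> abel

/-- An element of the part fixing the frame in the kernel acts on the coordinates. -/
theorem inv_gam {g : sGroup Q} (hk : g ∈ K fr) (hg : toK fr g ∈ gam fr) (h1 : ρ (toK fr g) = 1)
    {m : V × V} (hm : m ∈ Mset fr α) : (g.1.1 m.1, g.1.1 m.2) ∈ Mset fr α := by
  have ht := tr_gam (fr := fr) hg
  rw [toK_coe hk] at ht
  exact H.inv _ hk h1 _ ht m hm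

/-! ### The complement of a pair moves nothing when it is large or anisotropic -/

theorem fix_of_large {a b : V} (ha : a ∈ fr.X) (hab : Hyp Q a b)
    (hW : (polarBilin (Q.restrict (fr.X ⊓ comp Q a b : Submodule F V))).Nondegenerate)
    (h3 : 3 ≤ Module.finrank F (fr.X ⊓ comp Q a b : Submodule F V)) {w : V} (hw : w ∈ fr.X)
    (hwc : w ∈ comp Q a b) : ρ (toK fr (sg Q a w)) = 1 := by
  let K1 : AddSubgroup V :=
    { carrier := {z | z ∈ (fr.X ⊓ comp Q a b : Submodule F V) ∧ ρ (toK fr (sg Q a z)) = 1}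
      zero_mem' := ⟨zero_mem _, rho_zero H hQ hn ha hab.hu⟩
      add_mem' := fun {z z'} hz hz' => ⟨add_mem hz.1 hz'.1, by
        rw [rho_add H hQ hn ha hz.1.1 hz'.1.1 hab.hu hz.1.2.1 hz'.1.2.1, hz.2, hz'.2, one_mul]⟩
      neg_mem' := fun {z} hz => ⟨neg_mem hz.1, by
        rw [rho_neg H hQ hn ha hz.1.1 hab.hu hz.1.2.1, hz.2, inv_one]⟩ }
  refine (MinIndexOrthInv.mem_of_diff hW h3 (K := K1) (fun p hp r hr hQp hpr z hz => ?_)
    (x := w) ⟨hw, hwc⟩).2
  have hk := sg_mem_K (fr := fr) hQ hn hp.1 hr.1 hQp hpr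
  have hmem : siegelMap Q p r z - z ∈ (fr.X ⊓ comp Q a b : Submodule F V) := by
    rw [siegelMap_apply]
    exact sub_mem (sub_mem (add_mem hz (Submodule.smul_mem _ _ hr)) (Submodule.smul_mem _ _ hp)) hz
  refine ⟨hmem, ?_⟩
  have h := rho_conj H hQ hn (toK_sg_mem hQ hn hp.1 hr.1 hQp hpr) ha hz.1 hab.hu hz.2.1
  have e1 : (sg Q p r).1.1 a = a := by
    rw [sg_apply hQ (by omega) hQp hpr, (mem_comp'.1 hp.2).1, (mem_comp'.1 hr.2).1]
    simp
  have e2 : (sg Q p r).1.1 z = siegelMap Q p r z := by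
    rw [sg_apply hQ (by omega) hQp hpr, siegelMap_apply]
  rw [toK_coe hk, e1, e2] at h
  have hz' : siegelMap Q p r z - z + z = siegelMap Q p r z := sub_add_cancel _ _
  rw [← hz', rho_add H hQ hn ha hmem.1 hz.1 hab.hu hmem.2.1 hz.2.1] at h
  exact mul_eq_right.1 h

theorem fix_rot {a b y₁ y₂ z : V} (ha : a ∈ fr.X) (hb : b ∈ fr.X) (hab : Hyp Q a b)
    (h1 : y₁ ∈ fr.X) (h1c : y₁ ∈ comp Q a b) (hQ1 : Q y₁ ≠ 0) (h2 : y₂ ∈ fr.X)
    (h2c : y₂ ∈ comp Q a b) (hQ2 : Q y₂ ≠ 0) (hz : z ∈ fr.X) (hzc : z ∈ comp Q a b)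
    {z' z'' : V} (e' : z' = z - ((Q y₂)⁻¹ * polar Q y₂ z) • y₂)
    (e'' : z'' = z' - ((Q y₁)⁻¹ * polar Q y₁ z') • y₁) :
    ρ (toK fr (sg Q a ((Q y₁ * (Q y₂)⁻¹) • z''))) = ρ (toK fr (sg Q a z)) := by
  obtain ⟨k1, g1, -⟩ := flip_mem (fr := fr) hQ hn ha hb h1 hab h1c
  obtain ⟨k2, g2, -⟩ := flip_mem (fr := fr) hQ hn ha hb h2 hab h2c
  obtain ⟨-, b1, c1, -⟩ := flip_spec (Q := Q) hQ hn hab h1c hQ1
  obtain ⟨a2, -, c2, -⟩ := flip_spec (Q := Q) hQ hn hab h2c hQ2
  have hz'c : z' ∈ comp Q a b := e' ▸ sub_mem hzc (Submodule.smul_mem _ _ h2c)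
  have hz''c : z'' ∈ comp Q a b := e'' ▸ sub_mem hz'c (Submodule.smul_mem _ _ h1c)
  have h := rho_conj H hQ hn (mul_mem g1 g2) ha hz hab.hu hzc.1
  rw [← toK_mul k1 k2, toK_coe (mul_mem k1 k2)] at h
  have ea : (flipEl (Q := Q) a b y₁ * flipEl (Q := Q) a b y₂).1.1 a = (Q y₁ * (Q y₂)⁻¹) • a := by
    show (flipEl (Q := Q) a b y₁).1.1 ((flipEl (Q := Q) a b y₂).1.1 a) = _
    rw [a2, map_neg, map_smul, b1, smul_neg, neg_neg, smul_smul, mul_comm]
  have ez : (flipEl (Q := Q) a b y₁ * flipEl (Q := Q) a b y₂).1.1 z = z'' := by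
    show (flipEl (Q := Q) a b y₁).1.1 ((flipEl (Q := Q) a b y₂).1.1 z) = _
    rw [c2 z hzc, ← e', c1 z' hz'c, e'']
  rw [ea, ez, sg_scale hQ hn hab.hu hz''c.1] at h
  exact h

theorem fix_of_aniso {a b : V} (hq : Fintype.card F = 2 ∨ Fintype.card F = 3) (ha : a ∈ fr.X)
    (hb : b ∈ fr.X) (hab : Hyp Q a b)
    (hW : (polarBilin (Q.restrict (fr.X ⊓ comp Q a b : Submodule F V))).Nondegenerate)
    (h2W : Module.finrank F (fr.X ⊓ comp Q a b : Submodule F V) = 2)
    (han : ∀ z ∈ fr.X, z ∈ comp Q a b → Q z = 0 → z = 0) {w : V} (hw : w ∈ fr.X)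
    (hwc : w ∈ comp Q a b) : ρ (toK fr (sg Q a w)) = 1 := by
  by_cases hw0 : w = 0
  · rw [hw0]; exact rho_zero H hQ hn ha hab.hu
  have hQw : Q w ≠ 0 := fun h => hw0 (han w hw hwc h)
  rcases hq with hq | hq
  · have h2 := two_eq_zero hq
    have hv : ∀ x : F, x ≠ 0 → x = 1 := fun x => eq_one_of_card_two hq
    obtain ⟨z, hz⟩ : ∃ z : (fr.X ⊓ comp Q a b : Submodule F V), polar Q w (z : V) ≠ 0 := by
      by_contra hall
      push Not at hall
      exact hw0 (congrArg Subtype.val (hW.1 ⟨w, hw, hwc⟩ fun z => hall z))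
    have hwz : polar Q w (z : V) = 1 := hv _ hz
    have hQw1 : Q w = 1 := hv _ hQw
    have hz1 : Q (z : V) = 1 := hv _ fun h => hz (by
      rw [han _ z.2.1 z.2.2 h, polar_zero_right])
    have hsum : Q ((z : V) + w) = 1 := by
      rw [QuadraticMap.map_add (⇑Q), hz1, hQw1, polar_comm, hwz]
      linear_combination h2
    have hwz2 : polar Q ((z : V) + w) z = 1 := by
      rw [polar_add_left, polar_self_mul, h2, zero_mul, zero_add, hwz]
    have hd : ∀ x : V, -x = x := fun x => by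
      rw [← neg_one_smul F x, hv (-1) (neg_ne_zero.2 one_ne_zero), one_smul]
    have h := fix_rot H hQ hn ha hb hab z.2.1 z.2.2 (by rw [hz1]; exact one_ne_zero)
      (add_mem z.2.1 hw) (add_mem z.2.2 hwc) (by rw [hsum]; exact one_ne_zero) z.2.1 z.2.2
      (z' := w) (z'' := (z : V) + w)
      (by rw [hsum, hwz2, inv_one, one_mul, one_smul, sub_add_cancel_left, hd])
      (by rw [hz1, polar_comm, hwz, inv_one, one_mul, one_smul, sub_eq_add_neg, hd, add_comm])
    rw [hz1, hsum, inv_one, one_mul, one_smul,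
      rho_add H hQ hn ha z.2.1 hw hab.hu z.2.2.1 hwc.1] at h
    exact mul_eq_left.1 h
  · have h3 := three_eq_zero hq
    have h2 := two_ne_zero_three hq
    obtain ⟨z₀, hz₀, hz₀w⟩ := SetLike.exists_of_lt (lt_of_le_of_ne
      (show Submodule.span F {w} ≤ (fr.X ⊓ comp Q a b : Submodule F V) from
        (Submodule.span_singleton_le_iff_mem _ _).2 ⟨hw, hwc⟩)
      (fun e => by rw [← e, finrank_span_singleton hw0] at h2W; omega))
    set z := z₀ - (polar Q w z₀ / (2 * Q w)) • w with hz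
    have hzX : z ∈ (fr.X ⊓ comp Q a b : Submodule F V) :=
      sub_mem hz₀ (Submodule.smul_mem _ _ ⟨hw, hwc⟩)
    have hwz : polar Q w z = 0 := by
      rw [hz, polar_sub_right, polar_smul_right, polar_self_mul, smul_eq_mul,
        div_mul_cancel₀ _ (mul_ne_zero h2 hQw), sub_self]
    have hz0 : z ≠ 0 := fun h => hz₀w (Submodule.mem_span_singleton.2 ⟨_, (sub_eq_zero.1 (hz ▸ h)).symm⟩)
    have hQz : Q z ≠ 0 := fun h => hz0 (han z hzX.1 hzX.2 h)
    have hsum : Q w + Q z ≠ 0 := fun h => by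
      have e : Q (w + z) = 0 := by rw [QuadraticMap.map_add (⇑Q), hwz, add_zero, h]
      have := congrArg (polar Q w) (han _ (add_mem hw hzX.1) (add_mem hwc hzX.2) e)
      rw [polar_add_right, hwz, add_zero, polar_self_mul, polar_zero_right] at this
      exact mul_ne_zero h2 hQw this
    have hl : Q w * (Q z)⁻¹ = 1 := by
      have e1 := sq_eq_one hq hQw
      have e2 := sq_eq_one hq hQz
      have e3 : (Q w - Q z) * (Q w + Q z) = 0 := by linear_combination e1 - e2
      rw [sub_eq_zero.1 ((mul_eq_zero.1 e3).resolve_right hsum), mul_inv_cancel₀ hQz]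
    have h := fix_rot H hQ hn ha hb hab hw hwc hQw hzX.1 hzX.2 hQz hw hwc (z' := w) (z'' := -w)
      (by rw [polar_comm, hwz, mul_zero, zero_smul, sub_zero])
      (by rw [polar_self_mul]; match_scalars; field_simp; ring)
    rw [hl, one_smul, rho_neg H hQ hn ha hw hab.hu hwc.1] at h
    have h' := H.exp _ (Or.inl (toK_sg_mem (fr := fr) hQ hn ha hw hab.hu hwc.1))
    rw [hq, pow_succ, pow_two] at h'
    have e : ρ (toK fr (sg Q a w)) * ρ (toK fr (sg Q a w)) = 1 := by
      conv_lhs => arg 1; rw [← h]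
      exact inv_mul_cancel _
    rwa [e, one_mul] at h'

/-! ### Three-dimensional complement over three elements -/

theorem perp_three (h3 : Fintype.card F = 3) {a b w : V} (ha : a ∈ fr.X) (hb : b ∈ fr.X)
    (hw : w ∈ fr.X) (hab : Hyp Q a b) (hwc : w ∈ comp Q a b) (hQw : Q w ≠ 0)
    (h1W : Module.finrank F (fr.X ⊓ comp Q a b : Submodule F V) = 1) {m : V × V}
    (hm : m ∈ Mset fr α) : polar Q (Q w • a - b) m.1 = 0 ∧ polar Q (Q w • a - b) m.2 = 0 := by
  have h3' := three_eq_zero h3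
  have hsq := sq_eq_one h3 hQw
  have hinv : (Q w)⁻¹ = Q w := inv_eq_of_mul_eq_one_right (by rw [← pow_two]; exact hsq)
  have hw0 : w ≠ 0 := fun h => hQw (by rw [h, QuadraticMap.map_zero])
  set n := flipEl (Q := Q) a b w with hn'
  obtain ⟨k, g, -⟩ := flip_mem (fr := fr) hQ hn ha hb hw hab hwc
  obtain ⟨fa, fb, fc, -⟩ := flip_spec (Q := Q) hQ hn hab hwc hQw
  have h1 : ρ (toK fr n) = 1 := by
    rw [hn', rho_flip H hQ hn ha hb hw hab hwc hQw, ← h3]
    exact H.exp _ (Or.inl (toK_sg_mem hQ hn ha hw hab.hu hwc.1))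
  set e := Q w • a - b with he
  have hee : polar Q e e = Q w := by
    rw [he]
    simp only [polar_sub_left, polar_sub_right, polar_smul_left, polar_smul_right, hab.uu, hab.u'u',
      hab.huu', hab.u'u, smul_eq_mul]
    linear_combination (-Q w) * h3'
  have key : ∀ x ∈ fr.X, n.1.1 x + x = (-(Q w * polar Q e x)) • e := by
    intro x hx
    have hx0 : proj Q a b x ∈ (fr.X ⊓ comp Q a b : Submodule F V) :=
      ⟨sub_mem (sub_mem hx (fr.X.smul_mem _ ha)) (fr.X.smul_mem _ hb), proj_mem hab x⟩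
    obtain ⟨s, hs⟩ := exists_smul_eq_of_finrank_eq_one h1W (x := (⟨w, hw, hwc⟩ : (fr.X ⊓ comp Q a b : Submodule F V)))
      (fun h => hw0 (congrArg Subtype.val h)) ⟨_, hx0⟩
    have hs' : s • w = proj Q a b x := congrArg Subtype.val hs
    have hx' := MinIndexOrthTools.eq_decomp Q a b x
    rw [← hs'] at hx'
    have hex : polar Q e x = Q w * polar Q a x - polar Q b x := by
      rw [he, polar_sub_left, polar_smul_left, smul_eq_mul]
    rw [hex]
    conv_lhs => rw [hx']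
    simp only [hn', map_add, map_smul, fa, fb, fc w hwc, hinv, polar_self_mul, he]
    match_scalars <;> grobner
  have hXm := Mset_mem_X fr hm
  have hD : ((-(Q w * polar Q e m.1)) • e, (-(Q w * polar Q e m.2)) • e) ∈ Mset fr α := by
    have := add_mem (inv_gam H hQ hn k g h1 hm) hm
    rwa [Prod.add_def, key _ hXm.1, key _ hXm.2] at this
  have h := H.iso _ hD _ (inv_three H hQ hn h3 hD)
  simp only [polar_neg_right, polar_smul_left, polar_smul_right, hee, smul_eq_mul] at h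
  set r := polar Q e m.1
  set s := polar Q e m.2
  have h4 : r ^ 2 + s ^ 2 = 0 := by
    linear_combination (Q w) * h - (r ^ 2 + s ^ 2) * hsq * ((Q w) ^ 2 + 1)
  have h12 : (1 : F) ≠ 0 := one_ne_zero
  have h22 := two_ne_zero_three h3
  by_cases hr : r = 0
  · refine ⟨hr, pow_eq_zero_iff two_ne_zero |>.1 ?_⟩
    simpa [hr] using h4
  · exfalso
    by_cases hs : s = 0
    · rw [hs, sq_eq_one h3 hr] at h4
      simp at h4
    · rw [sq_eq_one h3 hr, sq_eq_one h3 hs, one_add_one_eq_two] at h4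
      exact h22 h4

/-! ### Four-dimensional split complement over two elements -/

theorem perp_two (h2 : Fintype.card F = 2) {a b a₂ b₂ : V} (ha : a ∈ fr.X) (hb : b ∈ fr.X)
    (ha₂ : a₂ ∈ fr.X) (hb₂ : b₂ ∈ fr.X) (hab : Hyp Q a b) (hab₂ : Hyp Q a₂ b₂)
    (hac : a₂ ∈ comp Q a b) (hbc : b₂ ∈ comp Q a b) {m : V × V} (hm : m ∈ Mset fr α) :
    (polar Q (a + b) m.1 = 0 ∧ polar Q (a + (a₂ + b₂)) m.1 = 0) ∧
      polar Q (a + b) m.2 = 0 ∧ polar Q (a + (a₂ + b₂)) m.2 = 0 := by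
  have h2' := two_eq_zero h2
  have hv : ∀ x : F, x ≠ 0 → x = 1 := fun x => eq_one_of_card_two h2
  have hneg : ∀ x : F, -x = x := fun x => by linear_combination (-x) * h2'
  set y := a₂ + b₂ with hy
  have hyX : y ∈ fr.X := add_mem ha₂ hb₂
  have hyc : y ∈ comp Q a b := add_mem hac hbc
  have hQy : Q y = 1 := by rw [hy, QuadraticMap.map_add (⇑Q), hab₂.hu, hab₂.hu', hab₂.huu']; simp
  have hQy0 : Q y ≠ 0 := by rw [hQy]; exact one_ne_zero
  obtain ⟨kf, gf, -⟩ := flip_mem (fr := fr) hQ hn ha hb hyX hab hyc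
  have ks := sg_mem_K (fr := fr) hQ hn ha hyX hab.hu hyc.1
  have gs := toK_sg_mem (fr := fr) hQ hn ha hyX hab.hu hyc.1
  set c := flipEl (Q := Q) a b y * sg Q a y with hc
  have h1 : ρ (toK fr c) = 1 := by
    rw [hc, toK_mul kf ks, map_mul, rho_flip H hQ hn ha hb hyX hab hyc hQy0, ← pow_succ,
      show 3 + 1 = Fintype.card F * 2 by omega, pow_mul, H.exp _ (Or.inl gs), one_pow]
  have hcg : toK fr c ∈ gam fr := by rw [hc, toK_mul kf ks]; exact mul_mem gf gs
  clear_value y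
  set p := a + b with hp
  set p₂ := a + y with hp₂
  have hay : polar Q a y = 0 := hyc.1
  have hby : polar Q b y = 0 := hyc.2
  obtain ⟨hya, hyb⟩ := mem_comp'.1 hyc
  have key : ∀ x, c.1.1 x + x = (polar Q p x + polar Q p₂ x) • p + polar Q p₂ x • p₂ := by
    intro x
    have e : c.1.1 x = (sg Q a y).1.1 ((sg Q b ((Q y)⁻¹ • y)).1.1
        ((sg Q a y).1.1 ((sg Q a y).1.1 x))) := rfl
    rw [hQy, inv_one, one_smul] at e
    simp only [e, sg_apply hQ (show 5 ≤ Module.finrank F V by omega) hab.hu hay,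
      sg_apply hQ (show 5 ≤ Module.finrank F V by omega) hab.hu' hby, hQy, hp, hp₂,
      polar_add_left, polar_add_right, polar_sub_right, polar_smul_right, hab.uu, hab.u'u', hab.huu',
      hab.u'u, hay, hby, hya, hyb, polar_self_mul, h2', zero_mul, smul_eq_mul, mul_zero, mul_one,
      add_zero, zero_add, sub_zero, one_mul]
    match_scalars <;> grobner
  have hpp : polar Q p p = 0 := by rw [polar_self_mul, h2', zero_mul]
  have hpp₂ : polar Q p p₂ = 1 := by
    simp [hp, hp₂, polar_add_left, polar_add_right, hab.uu, hab.u'u, hay, hby]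
  have hp₂p : polar Q p₂ p = 1 := by rw [polar_comm, hpp₂]
  have hp₂p₂ : polar Q p₂ p₂ = 0 := by rw [polar_self_mul, h2', zero_mul]
  have hck : c ∈ K fr := mul_mem kf ks
  have hD : ((polar Q p m.1 + polar Q p₂ m.1) • p + polar Q p₂ m.1 • p₂,
      (polar Q p m.2 + polar Q p₂ m.2) • p + polar Q p₂ m.2 • p₂) ∈ Mset fr α := by
    rw [← key, ← key]
    exact add_mem (inv_gam H hQ hn hck hcg h1 hm) hm
  have e1 := H.iso _ hD _ (inv_two H hQ hn h2 hD)
  have e2 := H.iso _ hD _ (inv_two H hQ hn h2 (inv_gam H hQ hn hck hcg h1 hD))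
  have kp : c.1.1 p = p₂ := by
    have := eq_sub_of_add_eq (key p)
    rw [this, hpp, hp₂p, zero_add, one_smul, one_smul, add_sub_cancel_left]
  have kp₂ : c.1.1 p₂ = p + p₂ - p₂ - p₂ := by
    have := eq_sub_of_add_eq (key p₂)
    rw [this, hpp₂, hp₂p₂]
    module
  simp only [map_add, map_smul, kp, kp₂, polar_add_left, polar_add_right, polar_sub_right,
    polar_smul_left, polar_smul_right, hpp, hpp₂, hp₂p, hp₂p₂, smul_eq_mul] at e1 e2
  have hF : ∀ x : F, x = 0 ∨ x = 1 := fun x => (em (x = 0)).imp_right (hv x)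
  rcases hF (polar Q p m.1) with u1 | u1 <;> rcases hF (polar Q p₂ m.1) with u2 | u2 <;>
    rcases hF (polar Q p m.2) with w1 | w1 <;> rcases hF (polar Q p₂ m.2) with w2 | w2 <;>
    first
      | exact ⟨⟨u1, u2⟩, w1, w2⟩
      | (exfalso; simp only [u1, u2, w1, w2] at e1 e2; apply one_ne_zero (α := F); grobner)

omit H in
theorem exists_sub_smul {a b : V} (hab : Hyp Q a b)
    (hW : (polarBilin (Q.restrict (fr.X ⊓ comp Q a b : Submodule F V))).Nondegenerate)
    (hd : 0 < Module.finrank F (fr.X ⊓ comp Q a b : Submodule F V)) :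
    ∃ w ∈ fr.X, w ∈ comp Q a b ∧ Q w ≠ 0 := by
  obtain ⟨w, hw⟩ := exists_map_ne_zero (isReg_of_nondegenerate hW) (by omega)
  exact ⟨w.1, w.2.1, w.2.2, hw⟩

omit H in
theorem nondeg_pair {a b : V} (ha : a ∈ fr.X) (hb : b ∈ fr.X) (hab : Hyp Q a b) :
    (polarBilin (Q.restrict (fr.X ⊓ comp Q a b : Submodule F V))).Nondegenerate ∧
      Module.finrank F (fr.X ⊓ comp Q a b : Submodule F V) + 2 = Module.finrank F fr.X := by
  have hp : Hyp (Q.restrict fr.X) ⟨a, ha⟩ ⟨b, hb⟩ := ⟨hab.hu, hab.hu', hab.huu'⟩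
  let e : comp (Q.restrict fr.X) ⟨a, ha⟩ ⟨b, hb⟩ ≃ₗ[F] (fr.X ⊓ comp Q a b : Submodule F V) :=
    { toFun := fun x => ⟨x.1.1, x.1.2, x.2⟩
      invFun := fun x => ⟨⟨x.1, x.2.1⟩, x.2.2⟩
      map_add' := fun _ _ => rfl
      map_smul' := fun _ _ => rfl
      left_inv := fun _ => rfl
      right_inv := fun _ => rfl }
  refine ⟨OrthUnitaryStd.nondegenerate_congr e (fun _ => rfl) (nondeg_comp (fr.nondeg hQ) hp), ?_⟩
  rw [← e.finrank_eq, finrank_comp hp]

theorem false_three (h3 : Fintype.card F = 3) {a b : V} (ha : a ∈ fr.X) (hb : b ∈ fr.X)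
    (hab : Hyp Q a b) (hd : Module.finrank F fr.X = 3) {m : V × V} (hm : m ∈ Mset fr α)
    (hm0 : m ≠ 0) : False := by
  obtain ⟨hW, hWd⟩ := nondeg_pair hQ hn ha hb hab
  have h1W : Module.finrank F (fr.X ⊓ comp Q a b : Submodule F V) = 1 := by omega
  obtain ⟨w, hw, hwc, hQw⟩ := exists_sub_smul hQ hn hab hW (by omega)
  have h3' := three_eq_zero h3
  have h22 := two_ne_zero_three h3
  obtain ⟨hwa, hwb⟩ := mem_comp'.1 hwc
  have key : ∀ s : F, s ^ 2 = 1 →
      polar Q (Q w • a - (b + s • w - Q w • a)) m.1 = 0 ∧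
        polar Q (Q w • a - (b + s • w - Q w • a)) m.2 = 0 := by
    intro s hs
    have hQb : Q (b + s • w - Q w • a) = 0 := by
      rw [sub_eq_add_neg, ← neg_smul, QuadraticMap.map_add (⇑Q), QuadraticMap.map_add (⇑Q) b,
        QuadraticMap.map_smul, QuadraticMap.map_smul, hab.hu, hab.hu', polar_smul_right,
        polar_smul_right, polar_add_left, polar_smul_left, hab.u'u, hwa, show polar Q b w = 0 from hwc.2]
      simp only [smul_eq_mul]
      linear_combination (Q w) * hs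
    have hp : Hyp Q a (b + s • w - Q w • a) := ⟨hab.hu, hQb, by
      rw [polar_sub_right, polar_add_right, polar_smul_right, polar_smul_right, hab.huu', hab.uu,
        show polar Q a w = 0 from hwc.1]
      simp⟩
    set w' := w - (2 * s * Q w) • a with hw'
    have hw'X : w' ∈ fr.X := sub_mem hw (fr.X.smul_mem _ ha)
    have hQw' : Q w' = Q w := by
      rw [hw', sub_eq_add_neg, ← neg_smul, QuadraticMap.map_add (⇑Q), QuadraticMap.map_smul, hab.hu,
        polar_smul_right, hwa]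
      simp
    have hw'c : w' ∈ comp Q a (b + s • w - Q w • a) := by
      refine ⟨?_, ?_⟩
      · show polar Q a w' = 0
        rw [hw', polar_sub_right, polar_smul_right, hab.uu, show polar Q a w = 0 from hwc.1]
        simp
      · show polar Q (b + s • w - Q w • a) w' = 0
        rw [hw']
        simp only [polar_sub_left, polar_add_left, polar_smul_left, polar_sub_right, polar_smul_right,
          hab.uu, hab.u'u, hwa, hwb, show polar Q a w = 0 from hwc.1,
          show polar Q b w = 0 from hwc.2, polar_self_mul, smul_eq_mul]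
        ring
    have hX' : b + s • w - Q w • a ∈ fr.X :=
      sub_mem (add_mem hb (fr.X.smul_mem _ hw)) (fr.X.smul_mem _ ha)
    obtain ⟨-, hWd'⟩ := nondeg_pair hQ hn ha hX' hp
    have := perp_three H hQ hn h3 ha hX' hw'X hp hw'c (by rwa [hQw']) (by omega) hm
    rwa [hQw'] at this
  have h0 := perp_three H hQ hn h3 ha hb hw hab hwc hQw h1W hm
  have hzero : ∀ x ∈ fr.X, polar Q (Q w • a - b) x = 0 →
      polar Q (Q w • a - (b + (1 : F) • w - Q w • a)) x = 0 →
      polar Q (Q w • a - (b + (-1 : F) • w - Q w • a)) x = 0 → x = 0 := by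
    intro x hx e0 e1 e2
    simp only [polar_sub_left, polar_add_left, polar_smul_left, smul_eq_mul] at e0 e1 e2
    have hA : polar Q a x = 0 := by
      have : Q w * polar Q a x = 0 := by
        linear_combination (2 : F) * (e1 + e2) - 4 * e0 - Q w * polar Q a x * h3'
      exact (mul_eq_zero.1 this).resolve_left hQw
    have hB : polar Q b x = 0 := by linear_combination Q w * hA - e0
    have hWx : polar Q w x = 0 := by
      linear_combination e1 - e2 - polar Q w x * h3' * (-1)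
    obtain ⟨s, hs⟩ := exists_smul_eq_of_finrank_eq_one h1W
      (x := (⟨w, hw, hwc⟩ : (fr.X ⊓ comp Q a b : Submodule F V)))
      (fun h => hQw (by rw [show w = 0 from congrArg Subtype.val h, QuadraticMap.map_zero]))
      ⟨x, hx, hA, hB⟩
    have hs' : s • w = x := congrArg Subtype.val hs
    rw [← hs', polar_smul_right, polar_self_mul, smul_eq_mul] at hWx
    rw [← hs', (mul_eq_zero.1 hWx).resolve_right (mul_ne_zero h22 hQw), zero_smul]
  have hXm := Mset_mem_X fr hm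
  exact hm0 (Prod.ext
    (hzero _ hXm.1 h0.1 (key 1 (by ring)).1 (key (-1) (by ring)).1)
    (hzero _ hXm.2 h0.2 (key 1 (by ring)).2 (key (-1) (by ring)).2))

theorem false_two (h2 : Fintype.card F = 2) {a b : V} (ha : a ∈ fr.X) (hb : b ∈ fr.X)
    (hab : Hyp Q a b) (hd : Module.finrank F fr.X = 4) {u : V} (hu : u ∈ fr.X)
    (huc : u ∈ comp Q a b) (hQu : Q u = 0) (hu0 : u ≠ 0) {m : V × V} (hm : m ∈ Mset fr α)
    (hm0 : m ≠ 0) : False := by
  obtain ⟨hW, hWd⟩ := nondeg_pair hQ hn ha hb hab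
  obtain ⟨v, hp⟩ := exists_hyp hW (u := (⟨u, hu, huc⟩ : (fr.X ⊓ comp Q a b : Submodule F V))) hQu
    (fun h => hu0 (congrArg Subtype.val h))
  have hd₂ := finrank_comp hp
  have hp' : Hyp Q u v.1 := ⟨hQu, hp.hu', hp.huu'⟩
  have hca : a ∈ comp Q u v.1 := ⟨(mem_comp'.1 huc).1, (mem_comp'.1 v.2.2).1⟩
  have hcb : b ∈ comp Q u v.1 := ⟨(mem_comp'.1 huc).2, (mem_comp'.1 v.2.2).2⟩
  have h1 := perp_two H hQ hn h2 ha hb hu v.2.1 hab hp' huc v.2.2 hm
  have h2' := perp_two H hQ hn h2 hu v.2.1 ha hb hp' hab hca hcb hm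
  have hzero : ∀ x ∈ fr.X, polar Q (a + b) x = 0 → polar Q (a + (u + v.1)) x = 0 →
      polar Q (u + v.1) x = 0 → polar Q (u + (a + b)) x = 0 → x = 0 := by
    intro x hx e1 e2 e3 e4
    simp only [polar_add_left] at e1 e2 e3 e4
    have hA : polar Q a x = 0 := by linear_combination e2 - e3
    have hB : polar Q b x = 0 := by linear_combination e1 - hA
    have hA₂ : polar Q u x = 0 := by linear_combination e4 - e1
    have hB₂ : polar Q v.1 x = 0 := by linear_combination e3 - hA₂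
    have h0 : comp (Q.restrict (fr.X ⊓ comp Q a b : Submodule F V)) ⟨u, hu, huc⟩ v = ⊥ :=
      Submodule.finrank_eq_zero.1 (by omega)
    have : (⟨x, hx, hA, hB⟩ : (fr.X ⊓ comp Q a b : Submodule F V)) ∈
        comp (Q.restrict (fr.X ⊓ comp Q a b : Submodule F V)) ⟨u, hu, huc⟩ v := ⟨hA₂, hB₂⟩
    rw [h0, Submodule.mem_bot] at this
    exact congrArg Subtype.val this
  have hXm := Mset_mem_X fr hm
  exact hm0 (Prod.ext (hzero _ hXm.1 h1.1.1 h1.1.2 h2'.1.1 h2'.1.2)
    (hzero _ hXm.2 h1.2.1 h1.2.2 h2'.2.1 h2'.2.2))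

omit H hn in
theorem cnt_step {S : Submodule F V} {e f : V} (he : e ∈ S) (hf : f ∈ S) (hp : Hyp Q e f) :
    Module.finrank F (S ⊓ comp Q e f : Submodule F V) + 2 = Module.finrank F S ∧
      cnt Q S 0 = (Fintype.card F - 1) * Fintype.card F ^
          Module.finrank F (S ⊓ comp Q e f : Submodule F V) +
        Fintype.card F * cnt Q (S ⊓ comp Q e f) 0 := by
  have hp' : Hyp (Q.restrict S) ⟨e, he⟩ ⟨f, hf⟩ := ⟨hp.hu, hp.hu', hp.huu'⟩
  let eq : comp (Q.restrict S) ⟨e, he⟩ ⟨f, hf⟩ ≃ₗ[F] (S ⊓ comp Q e f : Submodule F V) :=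
    { toFun := fun x => ⟨x.1.1, x.1.2, x.2⟩
      invFun := fun x => ⟨⟨x.1, x.2.1⟩, x.2.2⟩
      map_add' := fun _ _ => rfl
      map_smul' := fun _ _ => rfl
      left_inv := fun _ => rfl
      right_inv := fun _ => rfl }
  refine ⟨by rw [← eq.finrank_eq, finrank_comp hp'], ?_⟩
  have h := card_level hp' (0 : F)
  rw [card_sub, eq.finrank_eq, cnt_congr] at h
  rw [h]
  congr 2
  exact Nat.card_congr (eq.toEquiv.subtypeEquiv fun _ => Iff.rfl)

omit H in
theorem card_zero_split (h3 : Fintype.card F = 3) {a b : V} (ha : a ∈ fr.X) (hb : b ∈ fr.X)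
    (hab : Hyp Q a b) (hd : Module.finrank F V = 8) {u : V} (hu : u ∈ fr.X) (huc : u ∈ comp Q a b)
    (hQu : Q u = 0) (hu0 : u ≠ 0) : Nat.card {x : V // Q x = 0} = 2241 := by
  obtain ⟨hW, -⟩ := nondeg_pair hQ hn ha hb hab
  obtain ⟨v, hp⟩ := exists_hyp hW (u := (⟨u, hu, huc⟩ : (fr.X ⊓ comp Q a b : Submodule F V))) hQu
    (fun h => hu0 (congrArg Subtype.val h))
  have hp' : Hyp Q u v.1 := ⟨hQu, hp.hu', hp.huu'⟩
  have hC1 : Module.finrank F (comp Q fr.u fr.u') = 6 := by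
    have := finrank_comp fr.h1
    omega
  obtain ⟨hd2, c1⟩ : Module.finrank F fr.X + 2 = Module.finrank F (comp Q fr.u fr.u') ∧
      cnt Q (comp Q fr.u fr.u') 0 = (Fintype.card F - 1) * Fintype.card F ^ Module.finrank F fr.X +
        Fintype.card F * cnt Q fr.X 0 := cnt_step hQ fr.v_mem fr.v'_mem fr.h2
  obtain ⟨hd3, c2⟩ := cnt_step hQ ha hb hab
  obtain ⟨hd4, c3⟩ := cnt_step hQ (S := (fr.X ⊓ comp Q a b : Submodule F V)) (e := u) (f := v.1)
    ⟨hu, huc⟩ v.2 hp'
  set W := (fr.X ⊓ comp Q a b ⊓ comp Q u v.1 : Submodule F V)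
  have hW4 : Module.finrank F W = 0 := by omega
  have c4 : cnt Q W 0 = 1 := by
    refine Nat.card_eq_one_iff_unique.2 ⟨⟨fun x y => Subtype.ext (Subtype.ext ?_)⟩,
      ⟨⟨0, QuadraticMap.map_zero Q⟩⟩⟩
    have hbot : W = ⊥ := Submodule.finrank_eq_zero.1 hW4
    rw [(Submodule.mem_bot F).1 (hbot ▸ x.1.2 : (x.1 : V) ∈ (⊥ : Submodule F V)),
      (Submodule.mem_bot F).1 (hbot ▸ y.1.2 : (y.1 : V) ∈ (⊥ : Submodule F V))]
  rw [c4, h3, hW4] at c3
  rw [c3, h3, show Module.finrank F (fr.X ⊓ comp Q a b : Submodule F V) = 2 by omega] at c2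
  rw [c2, h3, show Module.finrank F fr.X = 4 by omega] at c1
  rw [card_level fr.h1 (0 : F), card_sub, h3, c1, hC1]
  norm_num

omit H

end

/-- Both parts of the Levi complement moving orbits is impossible over fields with two or three elements. -/
theorem no_small_field (fr : Frame Q) (hQ : (polarBilin Q).Nondegenerate)
    (hn : 7 ≤ Module.finrank F V)
    (hexc : Fintype.card F = 3 → Module.finrank F V = 8 → Nat.card {x : V // Q x = 0} ≠ 2241)
    (hq : Fintype.card F ≤ 3) {α : Ω} (hR : R0 fr α ≠ ⊤) (hM : ∃ m ∈ Mset fr α, m ≠ 0)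
    (hcomm : letI := clAction (Ω := Ω) fr hQ hn (R0 fr α)
      ∀ g, g ∈ gam fr ∨ g ∈ del fr → ∀ g', g' ∈ gam fr ∨ g' ∈ del fr →
        ∀ O : Cl fr Ω (R0 fr α), g • g' • O = g' • g • O)
    (hexp : letI := clAction (Ω := Ω) fr hQ hn (R0 fr α)
      ∀ g, g ∈ gam fr ∨ g ∈ del fr → ∀ O : Cl fr Ω (R0 fr α), g ^ Fintype.card F • O = O)
    {a b y : V} (ha : a ∈ fr.X) (hb : b ∈ fr.X) (hy : y ∈ fr.X) (hab : Hyp Q a b)
    (hyc : y ∈ comp Q a b) {t : F}
    (hmove : letI := clAction (Ω := Ω) fr hQ hn (R0 fr α)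
      ∃ O : Cl fr Ω (R0 fr α), toK fr (sg Q a (t • y)) • O ≠ O) : False := by
  classical
  letI := clAction (Ω := Ω) fr hQ hn (R0 fr α)
  have hq' : Fintype.card F = 2 ∨ Fintype.card F = 3 := by
    have := Fintype.one_lt_card (α := F)
    omega
  let ρ : K fr →* Equiv.Perm (Cl fr Ω (R0 fr α)) := MulAction.toPermHom _ _
  have hbot : R0 fr α = ⊥ := by
    have : Fact (Nat.card F).Prime := ⟨by
      rw [Nat.card_eq_fintype_card]
      rcases hq' with h | h <;> rw [h] <;> norm_num⟩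
    exact ((R0 fr α).eq_bot_or_eq_top_of_prime_card).resolve_right hR
  have H : Kill ρ α := by
    refine ⟨fun g hg g' hg' => Equiv.ext fun O => hcomm g hg g' hg' O,
      fun g hg => ?_, fun h hh h1 φ hφ m hm => ?_, fun m hm m' hm' => ?_⟩
    · rw [← map_pow]
      exact Equiv.ext fun O => hexp g hg O
    · refine Mset_tr ((mem_K fr).1 hh).1 hφ ?_ hm
      have := congrArg Subtype.val (DFunLike.congr_fun h1 (⟨orb fr α, α, rfl, rfl⟩ : Cl fr Ω (R0 fr α)))
      rw [← toK_coe hh]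
      exact this
    · have := Mset_isotropic fr hQ hn hm hm'
      rw [hbot, AddSubgroup.mem_bot] at this
      exact sub_eq_zero.1 this
  obtain ⟨O, hO⟩ := hmove
  have hty : t • y ∈ fr.X := fr.X.smul_mem t hy
  have htyc : t • y ∈ comp Q a b := Submodule.smul_mem _ t hyc
  have hfin : ρ (toK fr (sg Q a (t • y))) ≠ 1 := fun h => hO (DFunLike.congr_fun h O)
  obtain ⟨hW, hWd⟩ := nondeg_pair (fr := fr) hQ hn ha hb hab
  have hd := fr.finrank_X hQ
  obtain ⟨m, hm, hm0⟩ := hM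
  by_cases h5 : 5 ≤ Module.finrank F fr.X
  · exact hfin (fix_of_large H hQ hn ha hab hW (by omega) hty htyc)
  by_cases h4 : Module.finrank F fr.X = 4
  · by_cases han : ∀ z ∈ fr.X, z ∈ comp Q a b → Q z = 0 → z = 0
    · exact hfin (fix_of_aniso H hQ hn hq' ha hb hab hW (by omega) han hty htyc)
    · push Not at han
      obtain ⟨u, hu, huc, hQu, hu0⟩ := han
      rcases hq' with h | h
      · exact false_two H hQ hn h ha hb hab h4 hu huc hQu hu0 hm hm0
      · exact hexc h (by omega) (card_zero_split hQ hn h ha hb hab (by omega) hu huc hQu hu0)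
  · rcases hq' with h | h
    · obtain ⟨w, hw⟩ := exists_map_ne_zero (isReg_of_nondegenerate hW) (by omega)
      have hw0 : w ≠ 0 := fun e => hw (by rw [e, QuadraticMap.map_zero])
      refine hw0 (hW.1 w fun z => ?_)
      obtain ⟨s, rfl⟩ := exists_smul_eq_of_finrank_eq_one
        (show Module.finrank F (fr.X ⊓ comp Q a b : Submodule F V) = 1 by omega) hw0 z
      show polar Q (w : V) (s • (w : V)) = 0
      rw [polar_smul_right, polar_self_mul, two_eq_zero h, zero_mul, smul_zero]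
    · exact false_three H hQ hn h ha hb hab (by omega) hm hm0

end Cfsg.Agent.MinIndexOrthSmallQ
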