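import Mathlib
import Cfsg.Agent.Lib.MinIndexOrthSmallQ

/-!
The two possible shapes of the stabiliser of a point in the radical of a line, when the degree is small.
-/

set_option autoImplicit false

namespace Cfsg.Agent.MinIndexOrthClass

open QuadraticMap hiding proj
open Cfsg.Agent.OrthUnitaryQuad Cfsg.Agent.OrthUnitaryRefl Cfsg.Agent.OrthUnitaryOmega
open Cfsg.Agent.OrthUnitarySimple Cfsg.Agent.TwoGenSiegel
open Cfsg.Agent.MinIndexOrthTools Cfsg.Agent.MinIndexOrthCount Cfsg.Agent.MinIndexOrthLine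
open Cfsg.Agent.MinIndexOrthOrbit Cfsg.Agent.MinIndexOrthLevi Cfsg.Agent.MinIndexOrthInv
open Cfsg.Agent.MinIndexOrthPerm

variable {F V : Type*} [Field F] [AddCommGroup V] [Module F V] {Q : QuadraticForm F V}
  {Ω : Type*} [MulAction (sGroup Q) Ω]

/-- `M` contains the copy of `X` given by the point `c` of the line. -/
def Pat (fr : Frame Q) (α : Ω) (c : F × F) : Prop :=
  ∀ a ∈ fr.X, (c.1 • a, c.2 • a) ∈ Mset fr α

/-- The first shape: a point of the line, and each end is full or empty. -/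
def PStruct (fr : Frame Q) (α : Ω) : Prop :=
  (∃ c : F × F, c ≠ 0 ∧ Pat fr α c) ∧
    ((∀ a ∈ fr.X, (a, (0 : V)) ∈ Mset fr α) ∨ ∀ a, (a, (0 : V)) ∈ Mset fr α → a = 0) ∧
    ((∀ a ∈ fr.X, ((0 : V), a) ∈ Mset fr α) ∨ ∀ a, ((0 : V), a) ∈ Mset fr α → a = 0)

/-- The second shape: a totally singular plane of the complement. -/
def AStruct (fr : Frame Q) (α : Ω) : Prop :=
  Module.finrank F fr.X = 4 ∧ ∃ A : Submodule F V, A ≤ fr.X ∧ Module.finrank F A = 2 ∧
    (∀ a ∈ A, Q a = 0) ∧ (∀ m, m ∈ Mset fr α ↔ m.1 ∈ A ∧ m.2 ∈ A) ∧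
    Nat.card F + 1 ≤ Nat.card (Cl fr Ω (R0 fr α))

variable [Fintype F] [FiniteDimensional F V] [Finite Ω]

theorem card_prod_sub (A : Submodule F V) :
    Nat.card ((A.prod A : Submodule F (V × V))) = Fintype.card F ^ (2 * Module.finrank F A) := by
  rw [Nat.card_congr (α := ((A.prod A : Submodule F (V × V)))) (β := A × A)
    { toFun := fun m => (⟨m.1.1, m.2.1⟩, ⟨m.1.2, m.2.2⟩)
      invFun := fun m => ⟨((m.1 : V), (m.2 : V)), m.1.2, m.2.2⟩
      left_inv := fun _ => rfl
      right_inv := fun _ => rfl }, Nat.card_prod, card_sub, ← pow_add, two_mul]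

variable (fr : Frame Q) (hQ : (polarBilin Q).Nondegenerate) (hn : 7 ≤ Module.finrank F V)

include hQ hn

theorem full_isotropic {α : Ω} (hR : R0 fr α ≠ ⊤)
    (h : ∀ a ∈ fr.X, (a, (0 : V)) ∈ Mset fr α ∧ ((0 : V), a) ∈ Mset fr α) : False := by
  obtain ⟨e, f, hp⟩ := exists_hyp_mem (fr.nondeg hQ) (by have := fr.finrank_X hQ; omega)
  refine hR (eq_top_iff.2 fun c _ => ?_)
  have := Mset_isotropic fr hQ hn (h _ (fr.X.smul_mem c e.2)).1 (h _ f.2).2
  simp only [polar_smul_left, polar_zero_left, sub_zero] at this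
  rwa [show polar Q (e : V) f = 1 from hp.huu', smul_eq_mul, mul_one] at this

theorem card_cl_le {α : Ω} (hR : R0 fr α ≠ ⊤)
    (hk : Nat.card Ω < (Fintype.card F + 2) * Fintype.card F ^ (Module.finrank F V - 3)) :
    Nat.card (Cl fr Ω (R0 fr α)) ≤ Fintype.card F + 1 := by
  have h1 := class_bound (Ω := Ω) fr hQ hn hR (b := Nat.card fr.X) fun β hβ =>
    card_Mset_le fr hQ hn (by rwa [hβ])
  have h2 : Nat.card (cls fr (R0 fr α) : Set Ω) ≤ Nat.card Ω :=
    Nat.card_le_card_of_injective _ Subtype.val_injective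
  have hX := fr.card_X hQ
  have hq : 0 < Fintype.card F := Fintype.card_pos
  rw [show Module.finrank F V - 3 = Module.finrank F V - 4 + 1 by omega, pow_succ] at hk
  rw [hX] at h1
  have hpos : 0 < Fintype.card F ^ (Module.finrank F V - 4) := pow_pos hq _
  generalize Fintype.card F ^ (Module.finrank F V - 4) = Xc at *
  by_contra hc
  push Not at hc
  have h3 := Nat.mul_le_mul_right (Fintype.card F * Xc ^ 2) hc
  have h4 := Nat.mul_le_mul_right Xc h2
  have h5 := Nat.mul_lt_mul_of_pos_right hk hpos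
  rw [pow_two] at h1 h3
  nlinarith

theorem exists_Mset_ne {α : Ω} (hR : R0 fr α ≠ ⊤)
    (hk : Nat.card Ω < (Fintype.card F + 2) * Fintype.card F ^ (Module.finrank F V - 3)) :
    ∃ m ∈ Mset fr α, m ≠ 0 := by
  by_contra hall
  push Not at hall
  have := finite_V F V
  have := fr.finrank_X hQ
  have hb : ∀ β : Ω, R0 fr β = R0 fr α → β ∈ orb fr α → Nat.card (Mset fr β) ≤ 1 := by
    intro β _ hβ
    rw [Mset_orb fr hβ]
    exact Finite.card_le_one_iff_subsingleton.2
      ⟨fun a b => Subtype.ext ((hall _ a.2).trans (hall _ b.2).symm)⟩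
  have h0 := card_orb fr hQ hn α
  have h1 : Nat.card (Mset fr α) = 1 := Nat.card_eq_one_iff_unique.2
    ⟨⟨fun a b => Subtype.ext ((hall _ a.2).trans (hall _ b.2).symm)⟩, ⟨0⟩⟩
  rw [h1, mul_one, fr.card_X hQ] at h0
  have h2 : Nat.card (orb fr α) ≤ Nat.card Ω :=
    Nat.card_le_card_of_injective _ Subtype.val_injective
  have h3 : 2 ≤ (R0 fr α).index := by
    rcases Nat.lt_or_ge (R0 fr α).index 2 with h | h
    · have : (R0 fr α).index ≠ 0 := AddSubgroup.index_ne_zero_of_finite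
      exact absurd (AddSubgroup.index_eq_one.1 (by omega)) hR
    · exact h
  rw [h0] at h2
  have h4 := Nat.mul_le_mul_left ((Fintype.card F ^ (Module.finrank F V - 4)) ^ 2) h3
  have h5 : (Fintype.card F + 2) * Fintype.card F ^ (Module.finrank F V - 3) ≤
      (Fintype.card F ^ (Module.finrank F V - 4)) ^ 2 * 2 := by
    obtain ⟨e, he⟩ : ∃ e, Module.finrank F V = e + 7 := ⟨Module.finrank F V - 7, by omega⟩
    rw [he, show e + 7 - 3 = e + 4 by omega, show e + 7 - 4 = e + 3 by omega]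
    have hq : 2 ≤ Fintype.card F := Fintype.one_lt_card
    generalize Fintype.card F = q at *
    calc (q + 2) * q ^ (e + 4) ≤ 2 * q ^ (1 + 1) * q ^ (e + 4) :=
          Nat.mul_le_mul_right _ (by rw [show 1 + 1 = 2 from rfl, pow_two]; nlinarith)
      _ = 2 * q ^ (e + 6) := by ring
      _ ≤ 2 * q ^ (2 * e + 6) :=
          Nat.mul_le_mul_left _ (Nat.pow_le_pow_right (by omega) (by omega))
      _ = (q ^ (e + 3)) ^ 2 * 2 := by ring
  omega

/-- The sub-complement of a hyperbolic pair of the complement. -/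
theorem nondeg_sub {a b : V} (ha : a ∈ fr.X) (hb : b ∈ fr.X) (hab : Hyp Q a b) :
    (polarBilin (Q.restrict (fr.X ⊓ comp Q a b))).Nondegenerate ∧
      Module.finrank F (fr.X ⊓ comp Q a b : Submodule F V) + 2 = Module.finrank F fr.X := by
  have hX := fr.nondeg hQ
  have hp : Hyp (Q.restrict fr.X) ⟨a, ha⟩ ⟨b, hb⟩ := ⟨hab.hu, hab.hu', hab.huu'⟩
  let e : comp (Q.restrict fr.X) ⟨a, ha⟩ ⟨b, hb⟩ ≃ₗ[F] (fr.X ⊓ comp Q a b : Submodule F V) :=
    { toFun := fun x => ⟨x.1.1, x.1.2, x.2⟩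
      invFun := fun x => ⟨⟨x.1, x.2.1⟩, x.2.2⟩
      map_add' := fun _ _ => rfl
      map_smul' := fun _ _ => rfl
      left_inv := fun _ => rfl
      right_inv := fun _ => rfl }
  refine ⟨?_, ?_⟩
  · exact OrthUnitaryStd.nondegenerate_congr e (fun _ => rfl) (nondeg_comp hX hp)
  · rw [← e.finrank_eq, finrank_comp hp]

theorem exists_nonsing_sub {a b : V} (ha : a ∈ fr.X) (hb : b ∈ fr.X) (hab : Hyp Q a b) :
    ∃ y ∈ fr.X, y ∈ comp Q a b ∧ Q y ≠ 0 := by
  obtain ⟨h1, h2⟩ := nondeg_sub fr hQ hn ha hb hab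
  have := fr.finrank_X hQ
  obtain ⟨y, hy⟩ := exists_map_ne_zero (isReg_of_nondegenerate h1) (by omega)
  exact ⟨y.1, y.2.1, y.2.2, hy⟩

omit hQ hn in
/-- The orbit of a point, as a class element. -/
def clOf (α : Ω) : Cl fr Ω (R0 fr α) := ⟨orb fr α, α, rfl, rfl⟩

/-- The Levi part moves each singular point of the complement to every other one. -/
theorem exists_gam_map {a z : V} (ha : a ∈ fr.X) (hz : z ∈ fr.X) (hQa : Q a = 0) (hQz : Q z = 0)
    (ha0 : a ≠ 0) (hz0 : z ≠ 0) :
    ∃ h ∈ gam fr, ∃ r : F, r ≠ 0 ∧ h.1.1.1 a = r • z := by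
  have hX := fr.nondeg hQ
  have hd := fr.finrank_X hQ
  refine connected hX (by omega) (P := fun w => ∃ h ∈ gam fr, ∃ r : F, r ≠ 0 ∧ h.1.1.1 a = r • w)
    (fun p hp w hw hQp hQw hpw => ?_) ha hz hQa hQz ha0 hz0
    ⟨1, one_mem _, 1, one_ne_zero, by rw [one_smul]; rfl⟩
  rintro ⟨h, hh, r, hr, e⟩
  have hhyp : Hyp Q p ((polar Q p w)⁻¹ • w) := ⟨hQp, by rw [QuadraticMap.map_smul, hQw, smul_zero],
    by rw [polar_smul_right, smul_eq_mul, inv_mul_cancel₀ hpw]⟩
  have hw' := fr.X.smul_mem (polar Q p w)⁻¹ hw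
  obtain ⟨y, hy, hyc, hQy⟩ := exists_nonsing_sub fr hQ hn hp hw' hhyp
  obtain ⟨k, g, -⟩ := flip_mem (fr := fr) hQ hn hp hw' hy hhyp hyc
  obtain ⟨f1, -, -, -⟩ := flip_spec (Q := Q) hQ hn hhyp hyc hQy
  refine ⟨_, mul_mem g hh, -(r * (Q y)⁻¹ * (polar Q p w)⁻¹), by simp [hr, hQy, hpw], ?_⟩
  show (toK fr (flipEl p _ y)).1.1.1 (h.1.1.1 a) = _
  rw [e, map_smul, toK_coe k, f1]
  module

/-- Invariance under Siegel transformations of the complement when all of them fix the orbit. -/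
theorem invariant_of_fixed {α : Ω}
    (hΓ : letI := clAction (Ω := Ω) fr hQ hn (R0 fr α)
      ∀ a b y : V, a ∈ fr.X → b ∈ fr.X → y ∈ fr.X → Hyp Q a b → y ∈ comp Q a b →
        toK fr (sg Q a y) • clOf fr α = clOf fr α) :
    ∀ a ∈ fr.X, ∀ w ∈ fr.X, Q a = 0 → polar Q a w = 0 → ∀ m ∈ Mset fr α,
      (siegelMap Q a w m.1, siegelMap Q a w m.2) ∈ Mset fr α := by
  have hX := fr.nondeg hQ
  intro a ha w hw hQa haw m hm
  by_cases ha0 : a = 0
  · subst ha0
    rw [siegelMap_apply, siegelMap_apply]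
    simpa using hm
  obtain ⟨b, hb⟩ := exists_hyp hX (u := (⟨a, ha⟩ : fr.X)) hQa fun e => ha0 (congrArg Subtype.val e)
  have hab : Hyp Q a b.1 := ⟨hQa, hb.hu', hb.huu'⟩
  set y := w - polar Q (b : V) w • a with hy
  have hyX : y ∈ fr.X := sub_mem hw (fr.X.smul_mem _ ha)
  have hyc : y ∈ comp Q a b.1 := by
    refine ⟨?_, ?_⟩
    · show polar Q a y = 0
      rw [hy, polar_sub_right, polar_smul_right, haw, hab.uu, smul_zero, sub_zero]
    · show polar Q (b : V) y = 0
      rw [hy, polar_sub_right, polar_smul_right, hab.u'u, smul_eq_mul, mul_one, sub_self]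
  have hyp : polar Q a y = 0 := hyc.1
  have hk' := sg_mem_K (fr := fr) hQ hn ha hyX hQa hyp
  have e : (sg Q a y) = sg Q a w := by
    apply Subtype.ext
    rw [sg_coe hQ (by omega) hQa hyp, sg_coe hQ (by omega) hQa haw]
    apply orth_ext
    intro x
    rw [siegel_apply, siegel_apply, hy, sub_eq_add_neg w, ← neg_smul,
      QuadraticMap.map_add (⇑Q), QuadraticMap.map_smul, hQa, polar_smul_right,
      polar_comm Q w a, haw, polar_add_left, polar_smul_left]
    simp only [smul_eq_mul, mul_zero, add_zero]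
    module
  have h1 := Mset_tr ((mem_K fr).1 (toK fr (sg Q a y)).2).1
    (tr_gam (fr := fr) (toK_sg_mem hQ hn ha hyX hQa hyc.1))
    (congrArg Subtype.val (hΓ a b.1 y ha b.2 hyX hab hyc)) hm
  have h1' : (((toK fr (sg Q a y)).1.1.1 m.1), ((toK fr (sg Q a y)).1.1.1 m.2)) ∈ Mset fr α := h1
  rwa [toK_coe hk', e, sg_coe hQ (by omega) hQa haw] at h1'

set_option maxHeartbeats 1000000 in
/-- The dichotomy. -/
theorem classify
    (hexc : Fintype.card F = 3 → Module.finrank F V = 8 → Nat.card {x : V // Q x = 0} ≠ 2241)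
    (hk : Nat.card Ω < (Fintype.card F + 2) * Fintype.card F ^ (Module.finrank F V - 3))
    {α : Ω} (hR : R0 fr α ≠ ⊤) : PStruct fr α ∨ AStruct fr α := by
  classical
  have := finite_V F V
  letI := clAction (Ω := Ω) fr hQ hn (R0 fr α)
  have hY := card_cl_le fr hQ hn hR hk
  obtain ⟨m₀, hm₀, hm₀0⟩ := exists_Mset_ne fr hQ hn hR hk
  have hX := fr.nondeg hQ
  have hd := fr.finrank_X hQ
  have h3 : 3 ≤ Module.finrank F fr.X := by omega
  have hMX : ∀ m ∈ Mset fr α, m.1 ∈ fr.X ∧ m.2 ∈ fr.X := fun m => Mset_mem_X fr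
  let yα : Cl fr Ω (R0 fr α) := clOf fr α
  by_cases hΓ : ∀ a b y : V, a ∈ fr.X → b ∈ fr.X → y ∈ fr.X → Hyp Q a b → y ∈ comp Q a b →
      toK fr (sg Q a y) • yα = yα
  · left
    have hsieg := invariant_of_fixed fr hQ hn hΓ
    obtain ⟨c, hc, -, hcl⟩ := exists_line hX h3 hMX hsieg hm₀ hm₀0
    refine ⟨⟨c, hc, hcl⟩, ?_, ?_⟩
    · refine (eq_bot_or_le hX h3 (K := (Mset fr α).comap (AddMonoidHom.inl V V))
        (fun a ha => (hMX _ ha).1) fun a ha w hw h1 h2 m hm => ?_).symm
      have h4 := hsieg a ha w hw h1 h2 _ hm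
      simpa using h4
    · refine (eq_bot_or_le hX h3 (K := (Mset fr α).comap (AddMonoidHom.inr V V))
        (fun a ha => (hMX _ ha).2) fun a ha w hw h1 h2 m hm => ?_).symm
      have h4 := hsieg a ha w hw h1 h2 _ hm
      simpa using h4
  right
  push Not at hΓ
  obtain ⟨a₁, b₁, y₁, ha₁, hb₁, hy₁, hab₁, hyc₁, hO₁⟩ := hΓ
  obtain ⟨y₀, hy₀, hy₀c, hQy₀⟩ := exists_nonsing_sub fr hQ hn ha₁ hb₁ hab₁
  have hrootΓ := root_gam (fr := fr) hQ hn ha₁ hb₁ hy₁ hab₁ hyc₁ hy₀ hy₀c hQy₀
  have hO₁' : toK fr (sg Q a₁ ((1 : F) • y₁)) • yα ≠ yα := by rwa [one_smul]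
  have hfix : ∀ x' : F → K fr, Root (del fr) x' → ∀ t, ∀ O : Cl fr Ω (R0 fr α), x' t • O = O := by
    intro x' hx' t O
    by_contra hm
    obtain ⟨hq, hcomm, hexp⟩ := both_move hY hrootΓ hx'
      (gam_del_comm hQ) (t₀ := (1 : F)) hO₁' hm
    exact MinIndexOrthSmallQ.no_small_field fr hQ hn hexc hq hR ⟨m₀, hm₀, hm₀0⟩ hcomm hexp ha₁ hb₁
      hy₁ hab₁ hyc₁ (t := (1 : F)) ⟨yα, hO₁'⟩
  have hU : ∀ (t : F), ∀ m ∈ Mset fr α, (m.1 - t • m.2, m.2) ∈ Mset fr α := fun t m hm => by
    have h := congrArg Subtype.val (hfix _ (root_del_U hQ hn) t yα)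
    exact Mset_tr ((mem_K fr).1 (xU_mem hQ hn t).1).1 (tr_xU hQ hn t)
      (by rw [← toK_coe (xU_mem hQ hn t).1]; exact h) hm
  have hV : ∀ (t : F), ∀ m ∈ Mset fr α, (m.1, m.2 - t • m.1) ∈ Mset fr α := fun t m hm => by
    have h := congrArg Subtype.val (hfix _ (root_del_V hQ hn) t yα)
    exact Mset_tr ((mem_K fr).1 (xV_mem hQ hn t).1).1 (tr_xV hQ hn t)
      (by rw [← toK_coe (xV_mem hQ hn t).1]; exact h) hm
  have hU' : ∀ (t : F), ∀ m ∈ Mset fr α, (t • m.2, (0 : V)) ∈ Mset fr α := fun t m hm => by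
    have h := sub_mem hm (hU t m hm)
    rwa [show m - (m.1 - t • m.2, m.2) = (t • m.2, (0 : V)) from Prod.ext (by simp) (by simp)] at h
  have hV' : ∀ (t : F), ∀ m ∈ Mset fr α, ((0 : V), t • m.1) ∈ Mset fr α := fun t m hm => by
    have h := sub_mem hm (hV t m hm)
    rwa [show m - (m.1, m.2 - t • m.1) = ((0 : V), t • m.1) from Prod.ext (by simp) (by simp)] at h
  let A : Submodule F V :=
    { carrier := {z | (z, (0 : V)) ∈ Mset fr α}
      zero_mem' := zero_mem (Mset fr α)
      add_mem' := fun {p r} hp hr => by simpa using add_mem (s := Mset fr α) hp hr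
      smul_mem' := fun c z (hz : (z, (0 : V)) ∈ Mset fr α) => by
        have := hU' c _ (hV' 1 _ hz)
        simpa using this }
  have hA : ∀ z, z ∈ A ↔ (z, (0 : V)) ∈ Mset fr α := fun z => Iff.rfl
  have hAiff : ∀ m, m ∈ Mset fr α ↔ m.1 ∈ A ∧ m.2 ∈ A := by
    intro m
    constructor
    · intro hm
      exact ⟨(hA _).2 (by simpa using hU' 1 _ (hV' 1 m hm)), (hA _).2 (by simpa using hU' 1 m hm)⟩
    · rintro ⟨h1, h2⟩
      have := add_mem ((hA _).1 h1) (hV' 1 _ ((hA _).1 h2))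
      simpa using this
  have hAX : A ≤ fr.X := fun z hz => (hMX _ ((hA _).1 hz)).1
  have hpol : ∀ z ∈ A, ∀ z' ∈ A, polar Q z z' = 0 := by
    intro z hz z' hz'
    by_contra hne
    refine hR (eq_top_iff.2 fun c _ => ?_)
    have h1 := Mset_isotropic fr hQ hn ((hA _).1 (A.smul_mem (c / polar Q z z') hz))
      ((hAiff (0, z')).2 ⟨A.zero_mem, hz'⟩)
    simp only [polar_smul_left, polar_zero_left, sub_zero, smul_eq_mul] at h1
    rwa [div_mul_cancel₀ _ hne] at h1
  have hq2 : 2 ≤ Fintype.card F := Fintype.one_lt_card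
  have hMcard : Nat.card (Mset fr α) = Fintype.card F ^ (2 * Module.finrank F A) := by
    rw [← card_prod_sub A]
    exact Nat.card_congr (Equiv.subtypeEquivRight hAiff)
  have hXc : Nat.card fr.X = Fintype.card F ^ Module.finrank F fr.X := card_sub
  have hed : 2 * Module.finrank F A ≤ Module.finrank F fr.X := by
    have h := card_Mset_le fr hQ hn hR
    rw [hMcard, hXc] at h
    exact (Nat.pow_le_pow_iff_right hq2).1 h
  set d := Module.finrank F fr.X
  set q := Fintype.card F with hqdef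
  -- the translated orbit has coordinates of the same size
  have hγ := toK_sg_mem (fr := fr) hQ hn ha₁ hy₁ hab₁.hu hyc₁.1
  set γ := toK fr (sg Q a₁ y₁) with hγdef
  have hgam_eq : ∀ h : K fr, h ∈ gam fr → ∀ β ∈ (h • yα).1,
      Nat.card (Mset fr β) = Nat.card (Mset fr α) := by
    intro h hh β hβ
    have hβ' : β ∈ orb fr (h.1 • α) := by
      rw [orb_smul fr ((mem_K fr).1 h.2).1]
      exact hβ
    rw [Mset_orb fr hβ']
    refine le_antisymm ?_ ?_
    · refine Nat.card_le_card_of_injective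
        (fun m => (⟨((h⁻¹ : K fr).1.1.1 m.1.1, (h⁻¹ : K fr).1.1.1 m.1.2), ?_⟩ : Mset fr α))
        fun m m' e => ?_
      · obtain ⟨g, hg, hga, hm⟩ := m.2
        refine ⟨(h⁻¹ : K fr).1 * g * ((h⁻¹ : K fr).1)⁻¹, rad_conj fr ((mem_K fr).1 (h⁻¹).2).1 hg, ?_, ?_⟩
        · rw [mul_smul, mul_smul, Subgroup.coe_inv, inv_inv, hga, inv_smul_smul]
        · rw [tr_gam (inv_mem hh) g hg, ← hm]
      · have e' := congrArg Subtype.val e
        simp only [Prod.mk.injEq] at e'
        exact Subtype.ext (Prod.ext ((h⁻¹ : K fr).1.1.1.injective e'.1)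
          ((h⁻¹ : K fr).1.1.1.injective e'.2))
    · refine Nat.card_le_card_of_injective
        (fun m => (⟨(h.1.1.1 m.1.1, h.1.1.1 m.1.2), ?_⟩ : Mset fr (h.1 • α))) fun m m' e => ?_
      · obtain ⟨g, hg, hga, hm⟩ := m.2
        refine ⟨h.1 * g * h.1⁻¹, rad_conj fr ((mem_K fr).1 h.2).1 hg, ?_, ?_⟩
        · rw [mul_smul, mul_smul, inv_smul_smul, hga]
        · rw [tr_gam hh g hg, ← hm]
      · have e' := congrArg Subtype.val e
        simp only [Prod.mk.injEq] at e'
        exact Subtype.ext (Prod.ext (h.1.1.1.injective e'.1) (h.1.1.1.injective e'.2))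
  have hde : 2 * Module.finrank F A = d := by
    by_contra hne
    have h1 := class_bound_on fr hQ hn hR ({yα, γ • yα} : Finset (Cl fr Ω (R0 fr α)))
      (b := q ^ (2 * Module.finrank F A)) fun O hO β hβ => by
        rcases Finset.mem_insert.1 hO with rfl | hO
        · rw [← hMcard, Mset_orb fr (hβ : β ∈ orb fr α)]
        · rw [Finset.mem_singleton] at hO
          subst hO
          rw [hgam_eq γ hγ β hβ, hMcard]
    rw [Finset.card_pair (Ne.symm hO₁), hXc] at h1
    have h2 : Nat.card (cls fr (R0 fr α) : Set Ω) ≤ Nat.card Ω :=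
      Nat.card_le_card_of_injective _ Subtype.val_injective
    have h4 := Nat.mul_le_mul h2
      (Nat.pow_le_pow_right (show 0 < q by omega) (show 2 * Module.finrank F A ≤ d - 1 by omega))
    rw [show Module.finrank F V - 3 = d + 1 by omega] at hk
    have h5 := Nat.mul_lt_mul_of_pos_right hk (pow_pos (show 0 < q by omega) (d - 1))
    obtain ⟨d', hd'⟩ : ∃ d', d = d' + 1 := ⟨d - 1, by omega⟩
    rw [hd'] at h1 h4 h5
    rw [Nat.add_sub_cancel] at h4 h5
    have h6 : (q + 2) * q ^ (d' + 1 + 1) * q ^ d' ≤ 2 * (q * (q ^ (d' + 1)) ^ 2) := by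
      rw [show 2 * (q * (q ^ (d' + 1)) ^ 2) = (2 * q) * (q ^ (d' + 1 + 1) * q ^ d') by ring, mul_assoc]
      exact Nat.mul_le_mul_right _ (by omega)
    have h7 := (h6.trans h1).trans h4
    linarith
  -- counting the singular vectors of the complement
  have hAe : 2 ≤ Module.finrank F A := by omega
  obtain ⟨a₀, ha₀, hQa₀, ha₀0⟩ : ∃ z ∈ A, Q z = 0 ∧ z ≠ 0 := by
    by_contra hall
    push Not at hall
    have hinj : Function.Injective fun z : A => Q z.1 := by
      intro z w e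
      have e' : Q (z.1 - w.1) = 0 := by
        have h2 := QuadraticMap.map_add (⇑Q) (z.1 - w.1) w.1
        rw [sub_add_cancel, hpol _ (sub_mem z.2 w.2) _ w.2, add_zero] at h2
        exact add_right_cancel (b := Q w.1) (by rw [zero_add, ← h2]; exact e)
      exact Subtype.ext (sub_eq_zero.1 (hall _ (sub_mem z.2 w.2) e'))
    have h1 := Nat.card_le_card_of_injective _ hinj
    rw [card_sub, Nat.card_eq_fintype_card, ← hqdef] at h1
    have h2 := Nat.pow_le_pow_right (show 0 < q by omega) hAe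
    nlinarith
  let SX := {z : fr.X // Q z.1 = 0 ∧ z ≠ 0}
  let SA := {z : A // Q z.1 = 0 ∧ z ≠ 0}
  have hcount : Nat.card SX ≤ Nat.card (Cl fr Ω (R0 fr α)) * Nat.card SA := by
    rw [← Nat.card_prod]
    choose hz hzΓ rz hrz hze using fun z : SX =>
      exists_gam_map fr hQ hn (hAX ha₀) z.1.2 hQa₀ z.2.1 ha₀0 fun e => z.2.2 (Subtype.ext e)
    let img : SX → Cl fr Ω (R0 fr α) := fun z => hz z • yα
    have hrep : ∀ z, ∃ h ∈ gam fr, h • yα = img z := fun z => ⟨hz z, hzΓ z, rfl⟩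
    let rep : Cl fr Ω (R0 fr α) → K fr := fun O =>
      if h : ∃ h ∈ gam fr, h • yα = O then h.choose else 1
    have hrep' : ∀ z, rep (img z) ∈ gam fr ∧ rep (img z) • yα = img z := fun z => by
      simp only [rep, dif_pos (hrep z)]
      exact (hrep z).choose_spec
    have hinA : ∀ z : SX, ((rep (img z))⁻¹ : K fr).1.1.1 z.1.1 ∈ A := by
      intro z
      set k := (rep (img z))⁻¹ * hz z with hk'
      have hkΓ : k ∈ gam fr := mul_mem (inv_mem (hrep' z).1) (hzΓ z)
      have hkfix : k • yα = yα := by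
        rw [hk', mul_smul, show hz z • yα = img z from rfl]
        exact inv_smul_eq_iff.2 (hrep' z).2.symm
      have h1 := Mset_tr ((mem_K fr).1 k.2).1 (tr_gam hkΓ) (congrArg Subtype.val hkfix)
        ((hA a₀).1 ha₀)
      have h2 : k.1.1.1 a₀ ∈ A := ((hAiff _).1 h1).1
      rw [show k.1.1.1 a₀ = ((rep (img z))⁻¹ : K fr).1.1.1 ((hz z).1.1.1 a₀) from rfl, hze,
        map_smul] at h2
      exact (A.smul_mem_iff (hrz z)).1 h2
    refine Nat.card_le_card_of_injective (fun z => (img z,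
      (⟨⟨_, hinA z⟩, by rw [map_orth ((rep (img z))⁻¹ : K fr).1.1]; exact z.2.1, fun e => z.2.2
        (Subtype.ext (((rep (img z))⁻¹ : K fr).1.1.1.map_eq_zero_iff.1 (congrArg Subtype.val e)))⟩ : SA)))
      fun z w e => ?_
    have e2 := congrArg (fun p : Cl fr Ω (R0 fr α) × SA => (p.2.1 : V)) e
    have e1 : rep (img z) = rep (img w) := congrArg (fun p => rep p.1) e
    simp only [e1] at e2
    exact Subtype.ext (Subtype.ext (LinearEquiv.injective _ e2))
  have hsingX : Nat.card SX + 1 = cnt Q fr.X 0 := by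
    rw [cnt, ← Finite.card_option]
    refine Nat.card_congr
      { toFun := fun o => o.elim ⟨0, QuadraticMap.map_zero Q⟩ fun z => ⟨z.1, z.2.1⟩
        invFun := fun x => if h : x.1 = 0 then none else some ⟨x.1, x.2, h⟩
        left_inv := fun o => by cases o with
          | none => simp
          | some z => simp [z.2.2]
        right_inv := fun x => by
          by_cases h : x.1 = 0
          · simp only [dif_pos h]; exact Subtype.ext h.symm
          · simp [dif_neg h] }
  have hA' : Nat.card SA + 1 ≤ q ^ Module.finrank F A := by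
    rw [← card_sub, ← Finite.card_option]
    refine Nat.card_le_card_of_injective (fun o => o.elim 0 fun z => z.1) fun o o' e => ?_
    rcases o with _ | z <;> rcases o' with _ | w
    · rfl
    · exact absurd e.symm w.2.2
    · exact absurd e z.2.2
    · exact congrArg some (Subtype.ext e)
  obtain ⟨b₀, hb₀⟩ := exists_hyp hX (u := (⟨a₀, hAX ha₀⟩ : fr.X)) hQa₀
    fun e => ha₀0 (congrArg Subtype.val e)
  have hd2 := finrank_comp hb₀
  have hL := card_level hb₀ (0 : F)
  rw [cnt_congr] at hL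
  rw [card_sub, show Module.finrank F (comp (Q.restrict fr.X) ⟨a₀, hAX ha₀⟩ b₀) = d - 2 by omega,
    ← hqdef] at hL
  generalize hLc : cnt (Q.restrict fr.X) (comp (Q.restrict fr.X) ⟨a₀, hAX ha₀⟩ b₀) 0 = L1 at hL
  have hL1pos : 1 ≤ L1 := by
    rw [← hLc]
    exact Nat.card_pos_iff.2 ⟨⟨⟨0, QuadraticMap.map_zero _⟩⟩, inferInstance⟩
  by_cases hd4 : d = 4
  · have he2 : Module.finrank F A = 2 := by omega
    by_cases hts : ∀ z ∈ A, Q z = 0
    · refine ⟨hd4, A, hAX, he2, hts, hAiff, ?_⟩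
      -- the complement of a hyperbolic pair through the plane is hyperbolic
      obtain ⟨c, hc, hcs⟩ : ∃ c ∈ A, c ∉ Submodule.span F ({a₀} : Set V) := by
        by_contra hall
        push Not at hall
        have := Submodule.finrank_mono (show A ≤ Submodule.span F ({a₀} : Set V) from hall)
        rw [finrank_span_singleton ha₀0] at this
        omega
      set a' : fr.X := ⟨a₀, hAX ha₀⟩ with ha'
      set c1 : fr.X := ⟨c, hAX hc⟩ - polar (Q.restrict fr.X) b₀ ⟨c, hAX hc⟩ • a' with hc1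
      have hc1A : (c1 : V) ∈ A := sub_mem hc (A.smul_mem _ ha₀)
      have hc1c : c1 ∈ comp (Q.restrict fr.X) a' b₀ := by
        refine ⟨?_, ?_⟩
        · exact hpol a₀ ha₀ _ hc1A
        · show polar (Q.restrict fr.X) b₀ c1 = 0
          rw [hc1, polar_sub_right, polar_smul_right, hb₀.u'u, smul_eq_mul, mul_one, sub_self]
      have hc10 : c1 ≠ 0 := fun e => hcs (Submodule.mem_span_singleton.2
        ⟨polar (Q.restrict fr.X) b₀ ⟨c, hAX hc⟩,
          by rw [hc1, sub_eq_zero] at e; exact (congrArg Subtype.val e).symm⟩)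
      obtain ⟨c2, hc2⟩ := exists_hyp (nondeg_comp hX hb₀) (u := ⟨c1, hc1c⟩) (hts _ hc1A)
        fun e => hc10 (congrArg Subtype.val e)
      have hd3 := finrank_comp hc2
      have hL1 := card_level hc2 (0 : F)
      rw [cnt_congr, hLc, card_sub,
        show Module.finrank F (comp ((Q.restrict fr.X).restrict _) ⟨c1, hc1c⟩ c2) = 0 by omega,
        pow_zero, mul_one, ← hqdef] at hL1
      have hL2 : 1 ≤ cnt ((Q.restrict fr.X).restrict (comp (Q.restrict fr.X) a' b₀))
          (comp ((Q.restrict fr.X).restrict _) ⟨c1, hc1c⟩ c2) 0 :=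
        Nat.card_pos_iff.2 ⟨⟨⟨0, QuadraticMap.map_zero _⟩⟩, inferInstance⟩
      have hL3 := Nat.mul_le_mul_left q hL2
      rw [he2] at hA'
      rw [hd4] at hL
      rw [Nat.card_eq_fintype_card, ← hqdef]
      by_contra hlt
      push Not at hlt
      have h6 : Nat.card SX ≤ q * Nat.card SA := hcount.trans (Nat.mul_le_mul_right _ (by omega))
      have h7 : q * (Nat.card SA + 1) ≤ q * q ^ 2 := Nat.mul_le_mul_left _ hA'
      have h8 : q * (2 * q - 1) ≤ q * L1 := Nat.mul_le_mul_left _ (by omega)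
      obtain ⟨r, hr⟩ : ∃ r, q = r + 2 := ⟨q - 2, by omega⟩
      rw [hr] at h6 h7 h8 hL
      rw [show r + 2 - 1 = r + 1 by omega, show 2 * (r + 2) - 1 = 2 * r + 3 by omega] at *
      simp only [show 4 - 2 = 2 from rfl] at hL
      nlinarith
    · exfalso
      push Not at hts
      obtain ⟨c, hc, hQc⟩ := hts
      have hSA : Nat.card SA + 1 ≤ q := by
        rw [← Finite.card_option, hqdef, ← Nat.card_eq_fintype_card]
        have key : ∀ z : A, Q z.1 = 0 → ∃ r : F, z.1 = r • a₀ := by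
          intro z hz
          by_contra hne
          push Not at hne
          apply hQc
          let Z : Submodule F V := Submodule.span F {z.1, a₀}
          have hZA : Z ≤ A := by
            rw [Submodule.span_le]
            rintro x (rfl | rfl)
            exacts [z.2, ha₀]
          have hZ0 : ∀ x ∈ Z, Q x = 0 := by
            intro x hx
            obtain ⟨r, s, rfl⟩ := Submodule.mem_span_pair.1 hx
            rw [QuadraticMap.map_add (⇑Q), hpol _ (A.smul_mem _ z.2) _ (A.smul_mem _ ha₀),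
              QuadraticMap.map_smul, QuadraticMap.map_smul, hz, hQa₀]
            simp
          have hZA' : Z = A := by
            refine Submodule.eq_of_le_of_finrank_le hZA ?_
            rw [he2]
            by_contra hlt
            have hle : Submodule.span F ({a₀} : Set V) ≤ Z := Submodule.span_mono (by simp)
            have heq := Submodule.eq_of_le_of_finrank_le hle
              (by rw [finrank_span_singleton ha₀0]; omega)
            have : z.1 ∈ Submodule.span F ({a₀} : Set V) := heq ▸ Submodule.subset_span (by simp)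
            obtain ⟨r, hr⟩ := Submodule.mem_span_singleton.1 this
            exact hne r hr.symm
          exact hZ0 c (hZA' ▸ hc)
        choose r hr using key
        refine Nat.card_le_card_of_injective (fun o : Option SA => o.elim 0 fun z => r z.1 z.2.1)
          fun o o' e => ?_
        rcases o with _ | z <;> rcases o' with _ | w <;> simp only [Option.elim] at e
        · rfl
        · exact absurd (Subtype.ext ((hr w.1 w.2.1).trans (by rw [← e, zero_smul]; rfl))) w.2.2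
        · exact absurd (Subtype.ext ((hr z.1 z.2.1).trans (by rw [e, zero_smul]; rfl))) z.2.2
        · exact congrArg some (Subtype.ext (Subtype.ext
            ((hr z.1 z.2.1).trans (by rw [e]; exact (hr w.1 w.2.1).symm))))
      have h6 : Nat.card SX ≤ (q + 1) * Nat.card SA := hcount.trans (Nat.mul_le_mul_right _ hY)
      rw [hd4] at hL
      obtain ⟨r, hr⟩ : ∃ r, q = r + 2 := ⟨q - 2, by omega⟩
      rw [hr] at h6 hSA hL
      rw [show r + 2 - 1 = r + 1 by omega] at *
      simp only [show 4 - 2 = 2 from rfl] at hL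
      have h7 : (r + 2 + 1) * Nat.card SA ≤ (r + 2 + 1) * (r + 1) :=
        Nat.mul_le_mul_left _ (by omega)
      nlinarith
  · exfalso
    have hd6 : 6 ≤ d := by omega
    obtain ⟨c, c', hc⟩ := exists_hyp_mem (nondeg_comp hX hb₀) (by omega)
    have hd3 := finrank_comp hc
    have hL1 := card_level hc (0 : F)
    rw [cnt_congr, hLc, card_sub,
      show Module.finrank F (comp ((Q.restrict fr.X).restrict _) c c') = d - 4 by omega, ← hqdef] at hL1
    have hL2 : 1 ≤ cnt ((Q.restrict fr.X).restrict (comp (Q.restrict fr.X) ⟨a₀, hAX ha₀⟩ b₀))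
        (comp ((Q.restrict fr.X).restrict _) c c') 0 :=
      Nat.card_pos_iff.2 ⟨⟨⟨0, QuadraticMap.map_zero _⟩⟩, inferInstance⟩
    have h6 : Nat.card SX ≤ (q + 1) * Nat.card SA := hcount.trans (Nat.mul_le_mul_right _ hY)
    have h9 := Nat.mul_le_mul_left q hL2
    obtain ⟨r, hr⟩ : ∃ r, q = r + 2 := ⟨q - 2, by omega⟩
    obtain ⟨f, hf⟩ : ∃ f, Module.finrank F A = f + 3 := ⟨Module.finrank F A - 3, by omega⟩
    rw [hf] at hde hA'
    rw [show d - 2 = 2 * f + 4 by omega] at hL
    rw [show d - 4 = 2 * f + 2 by omega] at hL1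
    rw [hr] at h6 hA' hL hL1 h9
    rw [show r + 2 - 1 = r + 1 by omega] at *
    have h7 : (r + 2 + 1) * (Nat.card SA + 1) ≤ (r + 2 + 1) * (r + 2) ^ (f + 3) :=
      Nat.mul_le_mul_left _ hA'
    have h8 : (r + 2) ^ (f + 3) ≤ (r + 2) ^ (2 * f + 3) := Nat.pow_le_pow_right (by omega) (by omega)
    have h10 : (r + 2) * ((r + 1) * (r + 2) ^ (2 * f + 2) + (r + 2)) ≤ (r + 2) * L1 :=
      Nat.mul_le_mul_left _ (by omega)
    have h11 : (r + 2 + 1) * (r + 2) ^ (f + 3) ≤ (r + 2 + 1) * (r + 2) ^ (2 * f + 3) :=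
      Nat.mul_le_mul_left _ h8
    have h12 : (r + 2 + 1) * (r + 2) ^ (2 * f + 3) ≤
        (r + 1) * (r + 2) ^ (2 * f + 4) + (r + 2) * ((r + 1) * (r + 2) ^ (2 * f + 2)) := by
      rw [show (r + 1) * (r + 2) ^ (2 * f + 4) + (r + 2) * ((r + 1) * (r + 2) ^ (2 * f + 2)) =
        ((r + 1) * (r + 2 + 1)) * (r + 2) ^ (2 * f + 3) by ring]
      exact Nat.mul_le_mul_right _ (Nat.le_mul_of_pos_left _ (by omega))
    nlinarith

end Cfsg.Agent.MinIndexOrthClass
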