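import Mathlib
import Cfsg.Agent.Lib.OrthMinDegree32Count
import Cfsg.Agent.Lib.OrthUnitarySimpleStd

/-!
Minimal index of subgroups of projective orthogonal commutator groups: passage to `sGroup`,
line stabilisers and the level set counts of the standard forms.
-/

set_option autoImplicit false

namespace Cfsg.Agent.MinIndexOrthGlue29

open QuadraticMap
open Cfsg.Agent.OrthUnitaryQuad
open Cfsg.Agent.OrthUnitaryRefl
open Cfsg.Agent.OrthUnitaryOmega
open Cfsg.Agent.OrthUnitaryCentre
open Cfsg.Agent.OrthUnitarySimple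
open Cfsg.Agent.OrthUnitaryForms
open Cfsg.Agent.OrthUnitaryStd
open Cfsg.Agent.OrthMinDegree32Count

variable {F V : Type*} [Field F] [Fintype F] [AddCommGroup V] [Module F V] [FiniteDimensional F V]
  {Q : QuadraticForm F V}

/-! ### Lines -/

/-- The stabiliser in `sGroup Q` of the line through `x`. -/
noncomputable def lineStab (Q : QuadraticForm F V) {x : V} (hx0 : x ≠ 0) :
    Subgroup (sGroup Q) where
  carrier := {g | ∃ c : F, g.1.1 x = c • x}
  one_mem' := ⟨1, (one_smul F x).symm⟩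
  mul_mem' {a b} := by
    rintro ⟨c, hc⟩ ⟨d, hd⟩
    exact ⟨d * c, by
      show a.1.1 (b.1.1 x) = _
      rw [hd, map_smul, hc, smul_smul]⟩
  inv_mem' {a} := by
    rintro ⟨c, hc⟩
    have hc0 : c ≠ 0 := fun h => hx0 (a.1.1.map_eq_zero_iff.1 (by rw [hc, h, zero_smul]))
    refine ⟨c⁻¹, a.1.1.injective ?_⟩
    rw [map_smul, hc, inv_smul_smul₀ hc0]
    exact a.1.1.apply_symm_apply x

omit [Fintype F] [FiniteDimensional F V] in
/-- Vectors of a class permuted transitively up to scalars. -/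
theorem card_eq_index_mul (P : V → Prop) (hP : ∀ (g : sGroup Q) v, P v → P (g.1.1 v)) {x : V}
    (hx0 : x ≠ 0) (htr : ∀ v, P v → ∃ (g : sGroup Q) (t : F), g.1.1 x = t • v) :
    Nat.card {v // P v} = (lineStab Q hx0).index * Nat.card {c : F // P (c • x)} := by
  rw [Subgroup.index, ← Nat.card_prod]
  let f : (sGroup Q ⧸ lineStab Q hx0) × {c : F // P (c • x)} → {v // P v} :=
    fun p => ⟨p.1.out.1.1 (p.2.1 • x), hP _ _ p.2.2⟩
  refine (Nat.card_congr (Equiv.ofBijective f ⟨?_, ?_⟩)).symm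
  · rintro ⟨g, c, hc⟩ ⟨h, d, hd⟩ e
    have e' : g.out.1.1 (c • x) = h.out.1.1 (d • x) := congrArg Subtype.val e
    by_cases hc0 : c = 0
    · subst hc0
      obtain ⟨k, t, hk⟩ := htr _ hc
      rw [zero_smul, smul_zero] at hk
      exact absurd (k.1.1.map_eq_zero_iff.1 hk) hx0
    have hgh : (g.out)⁻¹ * h.out ∈ lineStab Q hx0 := by
      by_cases hd0 : d = 0
      · subst hd0
        rw [map_smul, map_smul, zero_smul] at e'
        exact absurd (g.out.1.1.map_eq_zero_iff.1 ((smul_eq_zero.1 e').resolve_left hc0)) hx0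
      refine ⟨d⁻¹ * c, g.out.1.1.injective ?_⟩
      show g.out.1.1 (g.out.1.1.symm (h.out.1.1 x)) = _
      rw [LinearEquiv.apply_symm_apply, ← smul_smul, map_smul, e', map_smul, inv_smul_smul₀ hd0]
    have hq : g = h := by
      rw [← QuotientGroup.out_eq' g, ← QuotientGroup.out_eq' h]
      exact QuotientGroup.eq.2 hgh
    subst hq
    have := smul_left_injective F hx0 (g.out.1.1.injective e')
    exact Prod.ext rfl (Subtype.ext this)
  · rintro ⟨v, hv⟩
    obtain ⟨g, t, hg⟩ := htr v hv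
    have ht0 : t ≠ 0 := fun h => hx0 (g.1.1.map_eq_zero_iff.1 (by rw [hg, h, zero_smul]))
    set r := (QuotientGroup.mk g : sGroup Q ⧸ lineStab Q hx0).out with hr
    have hmem : g⁻¹ * r ∈ lineStab Q hx0 :=
      QuotientGroup.eq.1 (QuotientGroup.out_eq' _).symm
    obtain ⟨c, hc⟩ := hmem
    have hc' : r.1.1 x = c • g.1.1 x := by
      have := congrArg g.1.1 hc
      rw [map_smul] at this
      rw [← this]
      exact (g.1.1.apply_symm_apply _).symm
    have hc0 : c ≠ 0 := fun h => hx0 (r.1.1.map_eq_zero_iff.1 (by rw [hc', h, zero_smul]))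
    have hv' : r.1.1 ((c * t)⁻¹ • x) = v := by
      rw [map_smul, hc', hg, smul_smul c t, inv_smul_smul₀ (mul_ne_zero hc0 ht0)]
    refine ⟨(QuotientGroup.mk g, ⟨(c * t)⁻¹, ?_⟩), Subtype.ext hv'⟩
    have := hP r⁻¹ v hv
    rwa [← hv', show r⁻¹.1.1 (r.1.1 ((c * t)⁻¹ • x)) = (c * t)⁻¹ • x from
      r.1.1.symm_apply_apply _] at this

theorem center_le_lineStab (hQ : (polarBilin Q).Nondegenerate) (hn : 5 ≤ Module.finrank F V)
    {x : V} (hx0 : x ≠ 0) : Subgroup.center (sGroup Q) ≤ lineStab Q hx0 := by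
  intro z hz
  obtain ⟨e, he, he0⟩ := exists_singular (isReg_of_nondegenerate hQ) (by omega)
  rcases eq_one_or_negOne_of_lines (isReg_of_nondegenerate hQ) he he0 (by omega) (g := z.1)
      (fun u hu => exists_smul_of_commute hQ (by omega) (g := z.1) (fun k hk => by
        rw [commutator_eq_sGroup hQ hn] at hk
        exact (congrArg Subtype.val (Subgroup.mem_center_iff.1 hz ⟨k, hk⟩)).symm) hu) with h | h
  · exact ⟨1, by rw [h, one_smul]; rfl⟩
  · exact ⟨-1, by rw [h, negOne_apply, neg_one_smul]⟩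

/-- `sGroup Q` is transitive on singular lines. -/
theorem exists_line_move (hQ : (polarBilin Q).Nondegenerate) (hn : 5 ≤ Module.finrank F V)
    {u w : V} (hu : Q u = 0) (hu0 : u ≠ 0) (hw : Q w = 0) (hw0 : w ≠ 0) :
    ∃ (g : sGroup Q) (t : F), g.1.1 u = t • w := by
  obtain ⟨U, φ, hφ, hφu, hU, hd, z₀, hz₀, hz₀0⟩ := exists_frame hQ hn hu hu0
  have hpol := fun p p' => polar_congr φ hφ p p'
  obtain ⟨⟨⟨a, b⟩, y⟩, rfl⟩ := φ.surjective w
  -- a singular vector orthogonal to neither
  obtain ⟨z, hz, hzu, hzw⟩ : ∃ z, Q z = 0 ∧ polar Q z u ≠ 0 ∧ polar Q z (φ ((a, b), y)) ≠ 0 := by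
    suffices h : ∃ x : U, a + (-(Q.restrict U x)) * b + polar (Q.restrict U) x y ≠ 0 by
      obtain ⟨x, hx⟩ := h
      refine ⟨φ ((-(Q.restrict U x), 1), x), by simp [hφ, hypExt_apply],
        by simp [← hφu, hpol, polar_hypExt], ?_⟩
      rw [hpol, polar_hypExt]
      convert hx using 1
      ring
    by_cases ha : a = 0
    swap
    · exact ⟨0, by simpa using ha⟩
    subst ha
    by_cases hy : y = 0
    · subst hy
      have hb : b ≠ 0 := fun h => hw0 (by simp [h])
      obtain ⟨x, hx⟩ := exists_map_ne_zero (isReg_of_nondegenerate hU) (by omega)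
      exact ⟨x, by simpa using mul_ne_zero hx hb⟩
    · by_contra! hc
      refine hy (hU.2 y fun s => ?_)
      obtain ⟨s₁, s₂, s₃, h₁, h₂, h₃, rfl⟩ :=
        exists_three_singular (isReg_of_nondegenerate hU) hz₀ hz₀0 s
      have hval : ∀ s : U, Q.restrict U s = 0 → polar (Q.restrict U) s y = 0 := fun s hs => by
        simpa [hs] using hc s
      show polar (Q.restrict U) (s₁ + s₂ + s₃) y = 0
      rw [polar_add_left, polar_add_left, hval _ h₁, hval _ h₂, hval _ h₃, add_zero, add_zero]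
  set w₀ := φ ((a, b), y)
  set f := (polar Q z u)⁻¹ • u with hf
  set f' := (polar Q z w₀)⁻¹ • w₀ with hf'
  have hzf : polar Q z f = 1 := by rw [hf, polar_smul_right, smul_eq_mul, inv_mul_cancel₀ hzu]
  have hzf' : polar Q z f' = 1 := by rw [hf', polar_smul_right, smul_eq_mul, inv_mul_cancel₀ hzw]
  have hQf : Q f = 0 := by rw [hf, QuadraticMap.map_smul, hu, smul_zero]
  have hQf' : Q f' = 0 := by rw [hf', QuadraticMap.map_smul, hw, smul_zero]
  have hperp : polar Q z (f' - f) = 0 := by rw [polar_sub_right, hzf', hzf, sub_self]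
  set g : sGroup Q := ⟨siegel Q z (f' - f) hz hperp, siegel_mem hQ hn hz hperp⟩ with hg
  have hgf : g.1.1 f = f' := by
    show (siegel Q z (f' - f) hz hperp).1 f = f'
    have h0 : polar Q (f' - f) f + Q (f' - f) = 0 := by
      have h := QuadraticMap.map_add (⇑Q) (f' - f) f
      rw [sub_add_cancel, hQf', hQf] at h
      linear_combination -h
    rw [siegel_apply, hzf, mul_one, h0, zero_smul, one_smul, sub_zero, add_sub_cancel]
  refine ⟨g, polar Q z u * (polar Q z w₀)⁻¹, ?_⟩
  conv_lhs => rw [show u = polar Q z u • f by rw [hf, smul_inv_smul₀ hzu]]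
  rw [map_smul, hgf, hf', smul_smul]

/-- The stabiliser of a singular line. -/
theorem exists_singular_stab [Finite V] (hQ : (polarBilin Q).Nondegenerate)
    (hn : 5 ≤ Module.finrank F V) :
    ∃ L : Subgroup (sGroup Q), Subgroup.center (sGroup Q) ≤ L ∧
      L.index * (Fintype.card F - 1) = Nat.card {v // Q v = 0} - 1 := by
  classical
  cases nonempty_fintype V
  obtain ⟨x, hx, hx0⟩ := exists_singular (isReg_of_nondegenerate hQ) (by omega)
  refine ⟨lineStab Q hx0, center_le_lineStab hQ hn hx0, ?_⟩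
  have h := card_eq_index_mul (Q := Q) (fun v => Q v = 0 ∧ v ≠ 0)
    (fun g v hv => ⟨by rw [map_orth, hv.1], fun h => hv.2 (g.1.1.map_eq_zero_iff.1 h)⟩)
    hx0 (fun v hv => exists_line_move hQ hn hx hx0 hv.1 hv.2)
  have h1 : Nat.card {v // Q v = 0 ∧ v ≠ 0} = Nat.card {v // Q v = 0} - 1 := by
    rw [Nat.card_eq_fintype_card, Nat.card_eq_fintype_card, Fintype.card_subtype,
      Fintype.card_subtype, ← Finset.filter_filter, Finset.filter_ne',
      Finset.card_erase_of_mem (by simp)]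
  have h2 : Nat.card {c : F // Q (c • x) = 0 ∧ c • x ≠ 0} = Fintype.card F - 1 := by
    rw [Nat.card_congr (Equiv.subtypeEquivRight (p := fun c : F => Q (c • x) = 0 ∧ c • x ≠ 0)
      (q := fun c => c ≠ 0) fun c => by simp [QuadraticMap.map_smul, hx, hx0]),
      Nat.card_eq_fintype_card, Fintype.card_subtype_compl, Fintype.card_subtype_eq]
  rw [← h1, h, h2]

/-- The stabiliser of a line of non-singular vectors of norm `a`. -/
theorem exists_norm_stab (hQ : (polarBilin Q).Nondegenerate) (hn : 5 ≤ Module.finrank F V)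
    {a : F} (ha : a ≠ 0) :
    ∃ L : Subgroup (sGroup Q), Subgroup.center (sGroup Q) ≤ L ∧
      L.index * Nat.card {c : F // c * c = 1} = Nat.card {v // Q v = a} := by
  obtain ⟨x, hx⟩ := exists_map_eq (isReg_of_nondegenerate hQ) (by omega) a
  have hx0 : x ≠ 0 := fun h => ha (by rw [← hx, h, QuadraticMap.map_zero])
  refine ⟨lineStab Q hx0, center_le_lineStab hQ hn hx0, ?_⟩
  rw [card_eq_index_mul (Q := Q) (fun v => Q v = a) (fun g v hv => by rw [map_orth, hv]) hx0
    (fun v hv => by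
      obtain ⟨g, hg, hgx⟩ := exists_move_norm hQ hn (hx.symm ▸ ha) (hx.trans hv.symm)
      exact ⟨⟨g, hg⟩, 1, by rw [one_smul]; exact hgx⟩)]
  congr 1
  refine Nat.card_congr (Equiv.subtypeEquivRight fun c => ?_)
  rw [QuadraticMap.map_smul, hx, smul_eq_mul]
  exact ⟨fun h => by rw [h, one_mul], fun h => mul_right_cancel₀ ha (h.trans (one_mul a).symm)⟩

/-! ### Transfer -/

theorem transfer {ι : Type} [Fintype ι] [DecidableEq ι] (Q : QuadraticForm F V)
    (f : (ι → F) → F) (e : V ≃ₗ[F] (ι → F)) (h : ∀ x, f (e x) = Q x)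
    (hQ : (polarBilin Q).Nondegenerate) (hn : 5 ≤ Module.finrank F V) (B : ℕ)
    (hlow : ∀ H : Subgroup (sGroup Q), H ≠ ⊤ → B ≤ H.index)
    (hex : ∃ L : Subgroup (sGroup Q), Subgroup.center (sGroup Q) ≤ L ∧ L.index = B) :
    (∀ H : Subgroup (POmega F f), H ≠ ⊤ → B ≤ H.index) ∧
      (∃ H : Subgroup (POmega F f), H.index = B) := by
  let ψ : Omega F f ≃* sGroup Q :=
    (omegaEquiv Q f e h).trans (MulEquiv.subgroupCongr (commutator_eq_sGroup hQ hn))
  let π : sGroup Q →* POmega F f :=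
    (QuotientGroup.mk' (Subgroup.center (Omega F f))).comp ψ.symm.toMonoidHom
  have hπ : Function.Surjective π :=
    (QuotientGroup.mk'_surjective _).comp ψ.symm.surjective
  have hker : π.ker ≤ Subgroup.center (sGroup Q) := by
    intro x hx
    have hc : ψ.symm x ∈ Subgroup.center (Omega F f) := (QuotientGroup.eq_one_iff _).1 hx
    rw [Subgroup.mem_center_iff]
    intro y
    apply ψ.symm.injective
    rw [map_mul, map_mul]
    exact Subgroup.mem_center_iff.1 hc _
  refine ⟨fun H hH => ?_, ?_⟩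
  · rw [← Subgroup.index_comap_of_surjective H hπ]
    refine hlow _ fun hc => hH ?_
    exact Subgroup.comap_injective hπ (hc.trans (Subgroup.comap_top π).symm)
  · obtain ⟨L, hL, hB⟩ := hex
    exact ⟨L.map π, by rw [Subgroup.index_map_eq L hπ (hker.trans hL), hB]⟩

/-! ### Level sets of the standard forms -/

variable {W : Type*} [AddCommGroup W] [Module F W] [Finite W]

omit [Finite W] in
theorem natCard_lev (P : QuadraticForm F W) (a : F) :
    ((Nat.card {x // P x = a} : ℕ) : ℤ) = lev P a := rfl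

theorem card_withBase {d : ℕ} (hW : Nat.card W = Fintype.card F ^ d) (P : QuadraticForm F W)
    (a : F) (m : ℕ) :
    (Fintype.card F : ℤ) * Nat.card {v // withBase (m + 1) P v = a}
      = (Fintype.card F : ℤ) ^ (2 * (m + 1) + d) + (Fintype.card F : ℤ) ^ (m + 1) *
          ((Fintype.card F : ℤ) * lev P a - (Fintype.card F : ℤ) ^ d) := by
  rw [natCard_lev]
  exact q_mul_lev_withBase hW P a (m + 1)

end Cfsg.Agent.MinIndexOrthGlue29
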