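import Mathlib
import Cfsg.Agent.Lib.MinIndexOrthGlue29

/-!
Minimal index for the standard orthogonal families, from a bound on subgroups of `sGroup`.
-/

set_option autoImplicit false

namespace Cfsg.Agent.MinIndexOrthFamilies29

open QuadraticMap
open Cfsg.Agent.OrthUnitaryQuad
open Cfsg.Agent.OrthUnitarySimple
open Cfsg.Agent.OrthUnitaryForms
open Cfsg.Agent.OrthUnitaryStd
open Cfsg.Agent.OrthMinDegree32Count
open Cfsg.Agent.MinIndexOrthGlue29

/-! ### Arithmetic -/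

theorem natArith_plus {q m Z : ℕ} (hm : 1 ≤ m) (hq : 1 ≤ q)
    (h : (q : ℤ) * Z = (q : ℤ) ^ (2 * m) + (q : ℤ) ^ m * ((q : ℤ) - 1)) :
    Z - 1 = (q ^ m - 1) * (q ^ (m - 1) + 1) := by
  obtain ⟨j, rfl⟩ : ∃ j, m = j + 1 := ⟨m - 1, by omega⟩
  have h1 : 1 ≤ q ^ (j + 1) := Nat.one_le_pow _ _ hq
  have h2 : (Z : ℤ) = ((q : ℤ) ^ (j + 1) - 1) * ((q : ℤ) ^ j + 1) + 1 := by
    apply mul_left_cancel₀ (show (q : ℤ) ≠ 0 by omega)
    rw [h]
    ring
  have h3 : Z = (q ^ (j + 1) - 1) * (q ^ j + 1) + 1 := by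
    zify [h1]
    exact h2
  rw [h3, Nat.add_sub_cancel, Nat.add_sub_cancel]

theorem natArith_plus_ne {q m Z : ℕ} (hm : 1 ≤ m) (hq : 1 ≤ q)
    (h : (q : ℤ) * Z = (q : ℤ) ^ (2 * m) + (q : ℤ) ^ m * (-1)) :
    Z = q ^ (m - 1) * (q ^ m - 1) := by
  obtain ⟨j, rfl⟩ : ∃ j, m = j + 1 := ⟨m - 1, by omega⟩
  have h1 : 1 ≤ q ^ (j + 1) := Nat.one_le_pow _ _ hq
  rw [Nat.add_sub_cancel]
  zify [h1]
  apply mul_left_cancel₀ (show (q : ℤ) ≠ 0 by omega)
  rw [h]
  ring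

theorem natArith_minus {q m Z : ℕ} (hm : 1 ≤ m) (hq : 1 ≤ q)
    (h : (q : ℤ) * Z = (q : ℤ) ^ (2 * (m - 1) + 2) + (q : ℤ) ^ (m - 1) * ((q : ℤ) - (q : ℤ) ^ 2)) :
    Z - 1 = (q ^ m + 1) * (q ^ (m - 1) - 1) := by
  obtain ⟨j, rfl⟩ : ∃ j, m = j + 1 := ⟨m - 1, by omega⟩
  rw [Nat.add_sub_cancel] at h
  have h1 : 1 ≤ q ^ j := Nat.one_le_pow _ _ hq
  have h2 : (Z : ℤ) = ((q : ℤ) ^ (j + 1) + 1) * ((q : ℤ) ^ j - 1) + 1 := by
    apply mul_left_cancel₀ (show (q : ℤ) ≠ 0 by omega)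
    rw [h]
    ring
  have h3 : Z = (q ^ (j + 1) + 1) * (q ^ j - 1) + 1 := by
    zify [h1]
    exact h2
  rw [h3, Nat.add_sub_cancel, Nat.add_sub_cancel]

theorem natArith_minus_ne {q m Z : ℕ} (hm : 1 ≤ m) (hq : 1 ≤ q)
    (h : (q : ℤ) * Z = (q : ℤ) ^ (2 * (m - 1) + 2) +
      (q : ℤ) ^ (m - 1) * ((q : ℤ) * ((q : ℤ) + 1) - (q : ℤ) ^ 2)) :
    Z = q ^ (m - 1) * (q ^ m + 1) := by
  obtain ⟨j, rfl⟩ : ∃ j, m = j + 1 := ⟨m - 1, by omega⟩
  rw [Nat.add_sub_cancel] at h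
  rw [Nat.add_sub_cancel]
  zify
  apply mul_left_cancel₀ (show (q : ℤ) ≠ 0 by omega)
  rw [h]
  ring

theorem le_of_mul_div {q Z B k : ℕ} (hq : 2 ≤ q) (hB : (q - 1) * B = Z)
    (h : Z ≤ (q - 1) * k) : B ≤ k :=
  Nat.le_of_mul_le_mul_left (hB ▸ h) (by omega)

theorem mul_div_pred {q n : ℕ} (hq : 2 ≤ q) {X : ℕ} (hX : X = (q ^ n - 1)) :
    ∀ Y, (q - 1) * (X * Y / (q - 1)) = X * Y := fun Y =>
  Nat.mul_div_cancel' (Dvd.dvd.mul_right (hX ▸ Nat.sub_one_dvd_pow_sub_one q n) Y)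

/-! ### The bound -/

variable {F V : Type*} [Field F] [Fintype F] [AddCommGroup V] [Module F V]

/-- The multiplicity of lines among vectors of given norm. -/
def mult (q : ℕ) : ℕ := if q = 2 then 1 else 2

/-- The lower bound for subgroups of `sGroup Q` in terms of level sets. -/
def CoreBound (Q : QuadraticForm F V) : Prop :=
  ∀ H : Subgroup (sGroup Q), H ≠ ⊤ →
    Nat.card {v // Q v = 0} - 1 ≤ (Fintype.card F - 1) * H.index ∨
      ∃ a : F, a ≠ 0 ∧ Nat.card {v // Q v = a} ≤ mult (Fintype.card F) * H.index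

variable [FiniteDimensional F V] [Finite V] {ι : Type} [Fintype ι] [DecidableEq ι]

/-- The families where singular points give the minimum. -/
theorem of_singular {Q : QuadraticForm F V} {f : (ι → F) → F} (e : V ≃ₗ[F] (ι → F))
    (h : ∀ x, f (e x) = Q x) (hQ : (polarBilin Q).Nondegenerate) (hn : 5 ≤ Module.finrank F V)
    {q B : ℕ} (hF : Fintype.card F = q) (hcore : CoreBound Q)
    (hB : (q - 1) * B = Nat.card {v // Q v = 0} - 1)
    (hlev : ∀ a : F, a ≠ 0 → mult q * B ≤ Nat.card {v // Q v = a}) :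
    (∀ H : Subgroup (POmega F f), H ≠ ⊤ → B ≤ H.index) ∧
      (∃ H : Subgroup (POmega F f), H.index = B) := by
  have hq : 2 ≤ q := hF ▸ Fintype.one_lt_card
  refine transfer Q f e h hQ hn B (fun H hH => ?_) ?_
  · rcases hcore H hH with h0 | ⟨a, ha, h1⟩
    · exact le_of_mul_div hq hB (hF ▸ h0)
    · refine Nat.le_of_mul_le_mul_left ((hlev a ha).trans (hF ▸ h1)) ?_
      unfold mult
      split_ifs <;> omega
  · obtain ⟨L, hL, hi⟩ := exists_singular_stab hQ hn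
    refine ⟨L, hL, Nat.eq_of_mul_eq_mul_left (show 0 < q - 1 by omega) ?_⟩
    rw [hB, ← hi, hF, mul_comm]

/-- The families where a class of non-singular points gives the minimum. -/
theorem of_norm {Q : QuadraticForm F V} {f : (ι → F) → F} (e : V ≃ₗ[F] (ι → F))
    (h : ∀ x, f (e x) = Q x) (hQ : (polarBilin Q).Nondegenerate) (hn : 5 ≤ Module.finrank F V)
    {q B : ℕ} (hF : Fintype.card F = q) (hq3 : q = 2 ∨ q = 3) (hcore : CoreBound Q)
    (hB : (q - 1) * B ≤ Nat.card {v // Q v = 0} - 1)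
    (hlev : ∀ a : F, a ≠ 0 → mult q * B ≤ Nat.card {v // Q v = a}) {a₀ : F} (ha₀ : a₀ ≠ 0)
    (hlev₀ : Nat.card {v // Q v = a₀} = mult q * B) :
    (∀ H : Subgroup (POmega F f), H ≠ ⊤ → B ≤ H.index) ∧
      (∃ H : Subgroup (POmega F f), H.index = B) := by
  classical
  have hq : 2 ≤ q := hF ▸ Fintype.one_lt_card
  have hc0 : 0 < mult q := by unfold mult; split_ifs <;> omega
  refine transfer Q f e h hQ hn B (fun H hH => ?_) ?_
  · rcases hcore H hH with h0 | ⟨a, ha, h1⟩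
    · exact Nat.le_of_mul_le_mul_left (hB.trans (hF ▸ h0)) (by omega)
    · exact Nat.le_of_mul_le_mul_left ((hlev a ha).trans (hF ▸ h1)) hc0
  · obtain ⟨L, hL, hi⟩ := exists_norm_stab hQ hn ha₀
    refine ⟨L, hL, Nat.eq_of_mul_eq_mul_left hc0 ?_⟩
    rw [← hlev₀, ← hi, mul_comm]
    congr 1
    have e1 : (Finset.univ.filter fun c : F => c * c = 1) = {1, -1} := by
      ext c; simp [mul_self_eq_one_iff]
    rw [Nat.card_eq_fintype_card, Fintype.card_subtype, e1]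
    unfold mult
    rcases hq3 with rfl | rfl
    · have : CharP F 2 := charP_of_card_eq_prime hF
      rw [if_pos rfl, CharTwo.neg_eq]
      simp
    · rw [if_neg (by norm_num), Finset.card_pair]
      have h2 := two_ne_zero_of_odd hF ⟨1, rfl⟩
      intro h'
      exact h2 (by linear_combination h')

/-! ### The families -/

omit [FiniteDimensional F V] [Finite V] in
theorem pow_two_mul_sub_one (q m : ℕ) : q ^ (2 * m) - 1 = (q ^ m + 1) * (q ^ m - 1) := by
  rw [mul_comm 2 m, pow_mul, ← Nat.sq_sub_sq, one_pow]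

variable {F : Type*} [Field F] [Fintype F] {q : ℕ}

theorem zeros_plus (hF : Fintype.card F = q) {m : ℕ} (hm : 1 ≤ m) :
    Nat.card {v // withBase m (qfNil F) v = 0} - 1 = (q ^ m - 1) * (q ^ (m - 1) + 1) ∧
      ∀ a : F, a ≠ 0 → Nat.card {v // withBase m (qfNil F) v = a} = q ^ (m - 1) * (q ^ m - 1) := by
  classical
  have hq : 1 ≤ q := hF ▸ Fintype.card_pos
  have key : ∀ a : F, (q : ℤ) * Nat.card {v // withBase m (qfNil F) v = a} =
      (q : ℤ) ^ (2 * m) + (q : ℤ) ^ m * ((q : ℤ) * (if a = 0 then 1 else 0) - 1) := fun a => by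
    rw [natCard_lev, ← hF, q_mul_lev_withBase (d := 0) (by simp) (qfNil F) a m, lev_qfNil]
    simp
  refine ⟨natArith_plus hm hq ?_, fun a ha => natArith_plus_ne hm hq ?_⟩
  · rw [key, if_pos rfl, mul_one]
  · rw [key, if_neg ha]
    ring

theorem zeros_minus (hF : Fintype.card F = q) {m : ℕ} (hm : 1 ≤ m) {a b : F}
    (hab : IsAniso a b) :
    Nat.card {v // withBase (m - 1) (qfBin a b) v = 0} - 1 = (q ^ m + 1) * (q ^ (m - 1) - 1) ∧
      ∀ c : F, c ≠ 0 →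
        Nat.card {v // withBase (m - 1) (qfBin a b) v = c} = q ^ (m - 1) * (q ^ m + 1) := by
  classical
  have hq : 1 ≤ q := hF ▸ Fintype.card_pos
  have key : ∀ c : F, (q : ℤ) * Nat.card {v // withBase (m - 1) (qfBin a b) v = c} =
      (q : ℤ) ^ (2 * (m - 1) + 2) + (q : ℤ) ^ (m - 1) *
        ((q : ℤ) * (if c = 0 then 1 else (q : ℤ) + 1) - (q : ℤ) ^ 2) := fun c => by
    rw [natCard_lev, ← hF, q_mul_lev_withBase (d := 2)
      (by simp [Nat.card_eq_fintype_card]) (qfBin a b) c (m - 1), lev_qfBin hab]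
  refine ⟨natArith_minus hm hq ?_, fun c hc => natArith_minus_ne hm hq ?_⟩
  · rw [key, if_pos rfl, mul_one]
  · rw [key, if_neg hc]

theorem zeros_odd (hF : Fintype.card F = q) (m : ℕ) :
    Nat.card {v // withBase m (qfSq F) v = 0} - 1 = q ^ (2 * m) - 1 ∧
      (∀ c : F, c ≠ 0 → q ^ (2 * m) - q ^ m ≤ Nat.card {v // withBase m (qfSq F) v = c}) ∧
      ∀ c : F, (∀ x : F, x * x ≠ c) →
        Nat.card {v // withBase m (qfSq F) v = c} = q ^ (2 * m) - q ^ m := by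
  classical
  have hq : 2 ≤ q := hF ▸ Fintype.one_lt_card
  have hle : q ^ m ≤ q ^ (2 * m) := Nat.pow_le_pow_right (by omega) (by omega)
  have key : ∀ c : F, (Nat.card {v // withBase m (qfSq F) v = c} : ℤ) =
      (q : ℤ) ^ (2 * m) + (q : ℤ) ^ m * (lev (qfSq F) c - 1) := fun c => by
    apply mul_left_cancel₀ (show (q : ℤ) ≠ 0 by omega)
    rw [natCard_lev, ← hF, q_mul_lev_withBase (d := 1) (by simp) (qfSq F) c m]
    ring
  have h0 : lev (qfSq F) 0 = 1 := by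
    unfold lev
    rw [card_zero_of_aniso (qfSq F) fun x hx => funext fun u => by simpa [qfSq_apply] using hx]
    rfl
  refine ⟨?_, fun c _ => ?_, fun c hc => ?_⟩
  · congr 1
    have h := key 0
    rw [h0] at h
    have h' : (Nat.card {v // withBase m (qfSq F) v = 0} : ℤ) = ((q ^ (2 * m) : ℕ) : ℤ) := by
      rw [h]; push_cast; ring
    exact_mod_cast h'
  · zify [hle]
    have : (0 : ℤ) ≤ (q : ℤ) ^ m * lev (qfSq F) c :=
      mul_nonneg (by positivity) (by unfold lev; exact Nat.cast_nonneg _)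
    linarith [key c]
  · zify [hle]
    have : lev (qfSq F) c = 0 := by
      unfold lev
      have : IsEmpty {x : Unit → F // qfSq F x = c} :=
        ⟨fun x => hc (x.1 ()) (by rw [← qfSq_apply]; exact x.2)⟩
      simp
    rw [key, this]
    ring

theorem odd_dim (hF : Fintype.card F = q) (hodd : Odd q) (h5 : 5 ≤ q) (m : ℕ) (hm : 3 ≤ m)
    (hcore : CoreBound (withBase m (qfSq F))) :
    (∀ H : Subgroup (POmega F (quadFormOdd m F)), H ≠ ⊤ → (q ^ (2 * m) - 1) / (q - 1) ≤ H.index) ∧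
      (∃ H : Subgroup (POmega F (quadFormOdd m F)), H.index = (q ^ (2 * m) - 1) / (q - 1)) := by
  obtain ⟨h0, hge, -⟩ := zeros_odd hF m
  have hB : (q - 1) * ((q ^ (2 * m) - 1) / (q - 1)) = q ^ (2 * m) - 1 :=
    Nat.mul_div_cancel' (Nat.sub_one_dvd_pow_sub_one _ _)
  refine of_singular (eqOdd m) (eqOdd_isometry m)
    (nondegenerate_withBase (nondegenerate_qfSq (two_ne_zero_of_odd hF hodd)) m)
    (by rw [finrank_withBase_space]; omega) hF hcore (h0 ▸ hB) fun a ha => ?_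
  refine le_trans ?_ (hge a ha)
  refine Nat.le_of_mul_le_mul_left (?_ : (q - 1) * _ ≤ (q - 1) * _) (show 0 < q - 1 by omega)
  have hm2 : mult q = 2 := if_neg (by omega)
  rw [hm2, mul_left_comm, hB, pow_two_mul_sub_one,
    show q ^ (2 * m) - q ^ m = q ^ m * (q ^ m - 1) by
      rw [Nat.mul_sub, mul_one, ← pow_add, two_mul],
    ← mul_assoc, ← mul_assoc]
  refine Nat.mul_le_mul_right _ ?_
  have h1 : 1 ≤ q ^ m := Nat.one_le_pow _ _ (by omega)
  calc 2 * (q ^ m + 1) ≤ 4 * q ^ m := by omega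
    _ ≤ (q - 1) * q ^ m := Nat.mul_le_mul_right _ (by omega)

theorem odd_dim_three (hF : Fintype.card F = 3) (m : ℕ) (hm : 3 ≤ m)
    (hcore : CoreBound (withBase m (qfSq F))) :
    (∀ H : Subgroup (POmega F (quadFormOdd m F)), H ≠ ⊤ → 3 ^ m * (3 ^ m - 1) / 2 ≤ H.index) ∧
      (∃ H : Subgroup (POmega F (quadFormOdd m F)), H.index = 3 ^ m * (3 ^ m - 1) / 2) := by
  classical
  obtain ⟨h0, hge, heq⟩ := zeros_odd hF m
  have h2 := two_ne_zero_of_odd hF ⟨1, rfl⟩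
  have hB : 2 * (3 ^ m * (3 ^ m - 1) / 2) = 3 ^ (2 * m) - 3 ^ m := by
    rw [Nat.mul_div_cancel' (Dvd.dvd.mul_left (Nat.sub_one_dvd_pow_sub_one 3 m) _),
      Nat.mul_sub, mul_one, ← pow_add, two_mul]
  obtain ⟨c, hc⟩ := FiniteField.exists_nonsquare (F := F) (by
    intro hch
    have := ringChar.charP F
    rw [hch] at this
    exact h2 (CharP.cast_eq_zero F 2))
  have hc' : ∀ x : F, x * x ≠ c := fun x hx => hc ⟨x, hx.symm⟩
  refine of_norm (eqOdd m) (eqOdd_isometry m)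
    (nondegenerate_withBase (nondegenerate_qfSq h2) m)
    (by rw [finrank_withBase_space]; omega) hF (Or.inr rfl) hcore ?_ (fun a ha => ?_)
    (a₀ := c) (fun h => hc' 0 (by rw [h, mul_zero])) ?_
  · rw [h0, show (3 : ℕ) - 1 = 2 from rfl, hB]
    exact Nat.sub_le_sub_left (Nat.one_le_pow _ _ (by omega)) _
  · rw [show mult 3 = 2 from rfl, hB]
    exact hge a ha
  · rw [heq c hc', show mult 3 = 2 from rfl, hB]

theorem plus (hF : Fintype.card F = q) (hq : 4 ≤ q) (m : ℕ) (hm : 4 ≤ m)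
    (hcore : CoreBound (withBase m (qfNil F))) :
    (∀ H : Subgroup (POmega F (quadFormPlus m F)), H ≠ ⊤ →
        (q ^ m - 1) * (q ^ (m - 1) + 1) / (q - 1) ≤ H.index) ∧
      (∃ H : Subgroup (POmega F (quadFormPlus m F)),
        H.index = (q ^ m - 1) * (q ^ (m - 1) + 1) / (q - 1)) := by
  obtain ⟨h0, hne⟩ := zeros_plus hF (show 1 ≤ m by omega)
  have hB := mul_div_pred (show 2 ≤ q by omega) (n := m) rfl (q ^ (m - 1) + 1)
  refine of_singular (eqPlus m) (eqPlus_isometry m)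
    (nondegenerate_withBase nondegenerate_qfNil m)
    (by rw [finrank_withBase_space]; omega) hF hcore (h0 ▸ hB) fun a ha => ?_
  rw [hne a ha]
  refine Nat.le_of_mul_le_mul_left (?_ : (q - 1) * _ ≤ (q - 1) * _) (show 0 < q - 1 by omega)
  have hm2 : mult q = 2 := if_neg (by omega)
  rw [hm2, mul_left_comm, hB, mul_comm (q ^ m - 1), ← mul_assoc, ← mul_assoc]
  refine Nat.mul_le_mul_right _ ?_
  have h1 : 2 ≤ q ^ (m - 1) :=
    le_trans (by rw [pow_one]; omega : 2 ≤ q ^ 1) (Nat.pow_le_pow_right (by omega) (by omega))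
  calc 2 * (q ^ (m - 1) + 1) ≤ 3 * q ^ (m - 1) := by omega
    _ ≤ (q - 1) * q ^ (m - 1) := Nat.mul_le_mul_right _ (by omega)

theorem plus_two (hF : Fintype.card F = 2) (m : ℕ) (hm : 4 ≤ m)
    (hcore : CoreBound (withBase m (qfNil F))) :
    (∀ H : Subgroup (POmega F (quadFormPlus m F)), H ≠ ⊤ → 2 ^ (m - 1) * (2 ^ m - 1) ≤ H.index) ∧
      (∃ H : Subgroup (POmega F (quadFormPlus m F)), H.index = 2 ^ (m - 1) * (2 ^ m - 1)) := by
  obtain ⟨h0, hne⟩ := zeros_plus hF (show 1 ≤ m by omega)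
  refine of_norm (eqPlus m) (eqPlus_isometry m)
    (nondegenerate_withBase nondegenerate_qfNil m)
    (by rw [finrank_withBase_space]; omega) hF (Or.inl rfl) hcore ?_ (fun a ha => ?_)
    (one_ne_zero) ?_
  · rw [h0, show (2 : ℕ) - 1 = 1 from rfl, one_mul, mul_comm]
    exact Nat.mul_le_mul_left _ (Nat.le_add_right _ _)
  · rw [hne a ha, show mult 2 = 1 from rfl, one_mul]
  · rw [hne 1 one_ne_zero, show mult 2 = 1 from rfl, one_mul]

theorem minus (hF : Fintype.card F = q) (m : ℕ) (hm : 4 ≤ m) (a b : F) (hab : IsAniso a b)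
    (hcore : CoreBound (withBase (m - 1) (qfBin a b))) :
    (∀ H : Subgroup (POmega F (quadFormMinus (m - 1) F a b)), H ≠ ⊤ →
        (q ^ m + 1) * (q ^ (m - 1) - 1) / (q - 1) ≤ H.index) ∧
      (∃ H : Subgroup (POmega F (quadFormMinus (m - 1) F a b)),
        H.index = (q ^ m + 1) * (q ^ (m - 1) - 1) / (q - 1)) := by
  have hq : 2 ≤ q := hF ▸ Fintype.one_lt_card
  obtain ⟨h0, hne⟩ := zeros_minus hF (show 1 ≤ m by omega) hab
  have hB := mul_div_pred hq (n := m - 1) rfl (q ^ m + 1)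
  rw [mul_comm (q ^ (m - 1) - 1)] at hB
  refine of_singular (eqMinus (m - 1)) (eqMinus_isometry (m - 1) a b)
    (nondegenerate_withBase (nondegenerate_qfBin hab) (m - 1))
    (by rw [finrank_withBase_space]; omega) hF hcore (h0 ▸ hB) fun c hc => ?_
  rw [hne c hc]
  refine Nat.le_of_mul_le_mul_left (?_ : (q - 1) * _ ≤ (q - 1) * _) (show 0 < q - 1 by omega)
  rw [mul_left_comm, hB, mul_comm (q ^ m + 1), ← mul_assoc, ← mul_assoc]
  refine Nat.mul_le_mul_right _ ?_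
  calc mult q * (q ^ (m - 1) - 1) ≤ (q - 1) * (q ^ (m - 1) - 1) :=
        Nat.mul_le_mul_right _ (by unfold mult; split_ifs <;> omega)
    _ ≤ (q - 1) * q ^ (m - 1) := Nat.mul_le_mul_left _ (Nat.sub_le _ _)

end Cfsg.Agent.MinIndexOrthFamilies29
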