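import Mathlib
import Cfsg.Agent.Lib.MinIndexOrthCount

/-!
Existence of vectors with prescribed products in orthogonal spaces of dimension at least five.
-/

set_option autoImplicit false

namespace Cfsg.Agent.MinIndexOrthVectors

open QuadraticMap hiding proj
open Cfsg.Agent.OrthUnitaryQuad Cfsg.Agent.OrthUnitaryRefl Cfsg.Agent.OrthUnitaryOmega
open Cfsg.Agent.OrthUnitarySimple Cfsg.Agent.TwoGenSiegel
open Cfsg.Agent.MinIndexOrthTools

variable {F V : Type*} [Field F] [Fintype F] [AddCommGroup V] [Module F V] [FiniteDimensional F V]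
  {Q : QuadraticForm F V}

omit [Fintype F] [FiniteDimensional F V] in
theorem exists_dual (hQ : (polarBilin Q).Nondegenerate) {x y : V} (h : ∀ r : F, y ≠ r • x) :
    ∃ z, polar Q x z = 0 ∧ polar Q y z ≠ 0 := by
  by_contra hall
  push Not at hall
  by_cases hx : ∀ z, polar Q x z = 0
  · exact h 0 (by rw [zero_smul]; exact hQ.1 y fun z => hall z (hx z))
  push Not at hx
  obtain ⟨z₁, hz₁⟩ := hx
  refine h (polar Q y z₁ / polar Q x z₁) (sub_eq_zero.1 (hQ.1 _ fun z => ?_))
  show polar Q (y - (polar Q y z₁ / polar Q x z₁) • x) z = 0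
  have h1 := hall (z - (polar Q x z / polar Q x z₁) • z₁) (by
    rw [polar_sub_right, polar_smul_right, smul_eq_mul, div_mul_cancel₀ _ hz₁, sub_self])
  rw [polar_sub_right, polar_smul_right, smul_eq_mul] at h1
  rw [polar_sub_left, polar_smul_left, smul_eq_mul]
  linear_combination h1

/-- A non-zero singular vector in any subspace of dimension at least three. -/
theorem exists_singular_mem {S : Submodule F V} (h3 : 3 ≤ Module.finrank F S) :
    ∃ u ∈ S, Q u = 0 ∧ u ≠ 0 := by
  by_cases hreg : IsReg (Q.restrict S)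
  · obtain ⟨u, hu, hu0⟩ := exists_singular hreg h3
    exact ⟨u.1, u.2, hu, fun e => hu0 (Subtype.ext e)⟩
  · simp only [IsReg] at hreg
    push Not at hreg
    obtain ⟨u, -, hu, hu0⟩ := hreg
    exact ⟨u.1, u.2, hu, fun e => hu0 (Subtype.ext e)⟩

theorem exists_singular_avoid {S T : Submodule F V}
    (h : Module.finrank F T + 3 ≤ Module.finrank F S) :
    ∃ u ∈ S, u ∉ T ∧ Q u = 0 := by
  obtain ⟨C, hC⟩ := exists_isCompl (T.comap S.subtype)
  have h1 := Submodule.finrank_add_eq_of_isCompl hC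
  have h2 : Module.finrank F (T.comap S.subtype) ≤ Module.finrank F T :=
    LinearMap.finrank_le_finrank_of_injective
      (f := S.subtype.restrict (p := T.comap S.subtype) (q := T) fun _ hx => hx)
      fun a b e => Subtype.ext (Subtype.ext (congrArg (fun z : T => (z : V)) e))
  obtain ⟨u, hu, hQu, hu0⟩ := exists_singular_mem (Q := Q) (S := C.map S.subtype) (by
    rw [Submodule.finrank_map_subtype_eq]; omega)
  obtain ⟨w, hw, rfl⟩ := hu
  refine ⟨_, w.2, fun hT => hu0 ?_, hQu⟩
  have hb : w ∈ (T.comap S.subtype) ⊓ C := ⟨hT, hw⟩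
  rw [hC.disjoint.eq_bot, Submodule.mem_bot] at hb
  rw [hb]; rfl

omit [Fintype F] in
theorem finrank_ker2 (x y : V) :
    Module.finrank F V ≤ Module.finrank F
      (LinearMap.ker (polarBilin Q x) ⊓ LinearMap.ker (polarBilin Q y) : Submodule F V) + 2 := by
  have h1 := LinearMap.finrank_range_add_finrank_ker
    ((polarBilin Q x).prod (polarBilin Q y))
  have h2 := Submodule.finrank_le (LinearMap.range ((polarBilin Q x).prod (polarBilin Q y)))
  rw [LinearMap.ker_prod] at h1
  rw [Module.finrank_prod, Module.finrank_self] at h2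
  omega

/-- A non-singular vector orthogonal to two given vectors. -/
theorem exists_nonsing2 (hQ : (polarBilin Q).Nondegenerate) (hn : 5 ≤ Module.finrank F V) (x y : V) :
    ∃ z, polar Q x z = 0 ∧ polar Q y z = 0 ∧ Q z ≠ 0 := by
  by_contra hall
  push Not at hall
  set S : Submodule F V := LinearMap.ker (polarBilin Q x) ⊓ LinearMap.ker (polarBilin Q y)
  have hS : ∀ z ∈ S, ∀ w ∈ S, polar Q z w = 0 := by
    intro z hz w hw
    have h1 := hall (z + w) (add_mem hz hw).1 (add_mem hz hw).2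
    rw [QuadraticMap.map_add (⇑Q), hall z hz.1 hz.2, hall w hw.1 hw.2, zero_add, zero_add] at h1
    exact h1
  let f : V →ₗ[F] Module.Dual F S := S.dualRestrict.comp (polarBilin Q)
  have hinj : Function.Injective (polarBilin Q) := by
    rw [injective_iff_map_eq_zero]
    exact fun z hz => hQ.1 z fun w => LinearMap.congr_fun hz w
  have hf : Function.Surjective f := Subspace.dualRestrict_surjective.comp
    ((LinearMap.injective_iff_surjective_of_finrank_eq_finrank Subspace.dual_finrank_eq.symm).1 hinj)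
  have h1 := f.finrank_range_add_finrank_ker
  rw [LinearMap.range_eq_top.2 hf, finrank_top, Subspace.dual_finrank_eq] at h1
  have h2 : Module.finrank F S ≤ Module.finrank F (LinearMap.ker f) :=
    Submodule.finrank_mono fun z hz => LinearMap.mem_ker.2 (LinearMap.ext fun w => hS z hz w.1 w.2)
  have h3 : Module.finrank F V ≤ Module.finrank F S + 2 := finrank_ker2 x y
  omega

/-- A hyperbolic pair orthogonal to a given non-zero vector. -/
theorem exists_hyp_perp (hQ : (polarBilin Q).Nondegenerate) (hn : 5 ≤ Module.finrank F V) {x : V}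
    (hx : x ≠ 0) : ∃ e f, polar Q x e = 0 ∧ polar Q x f = 0 ∧ Hyp Q e f := by
  by_cases hQx : Q x = 0
  · obtain ⟨x', hp⟩ := exists_hyp hQ hQx hx
    obtain ⟨e, f, he, hf, h⟩ := exists_hyp_in_comp hQ hp hn
    exact ⟨e, f, he.1, hf.1, h⟩
  · obtain ⟨a, b, hp⟩ := exists_hyp_mem hQ (by omega)
    have ha : Q (a + Q x • b) = Q x := by
      rw [QuadraticMap.map_add (⇑Q), QuadraticMap.map_smul, hp.hu, hp.hu', polar_smul_right, hp.huu']
      simp
    obtain ⟨g, -, hg⟩ := exists_move_norm hQ hn (x := a + Q x • b) (y := x) (by rw [ha]; exact hQx) ha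
    obtain ⟨e, f, he, hf, h⟩ := exists_hyp_in_comp hQ hp hn
    refine ⟨g.1 e, g.1 f, ?_, ?_, h.map g⟩
    · rw [← hg, polar_orth g, polar_add_left, polar_smul_left,
        show polar Q a e = 0 from he.1, show polar Q b e = 0 from he.2]
      simp
    · rw [← hg, polar_orth g, polar_add_left, polar_smul_left,
        show polar Q a f = 0 from hf.1, show polar Q b f = 0 from hf.2]
      simp

/-- A singular vector orthogonal to `x`, not to `y`, and not a multiple of `x`. -/
theorem exists_separating (hQ : (polarBilin Q).Nondegenerate) (hn : 5 ≤ Module.finrank F V) {x y : V}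
    (hx : x ≠ 0) (h : ∀ r : F, y ≠ r • x) :
    ∃ v, Q v = 0 ∧ polar Q x v = 0 ∧ polar Q y v ≠ 0 ∧ ∀ r : F, v ≠ r • x := by
  obtain ⟨z, hxz, hyz⟩ := exists_dual hQ h
  obtain ⟨e, f, he, hf, hp⟩ := exists_hyp_perp hQ hn hx
  obtain ⟨v, hvx, hv, hyv⟩ := exists_singular_polar (W := LinearMap.ker (polarBilin Q x)) he hf hp
    ⟨z, hxz, hyz⟩
  by_cases hr : ∀ r : F, v ≠ r • x
  · exact ⟨v, hv, hvx, hyv, hr⟩
  push Not at hr
  obtain ⟨r, hr⟩ := hr
  have hr0 : r ≠ 0 := fun h0 => hyv (by rw [hr, h0, zero_smul, polar_zero_right])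
  have hev : polar Q v e = 0 := by rw [hr, polar_smul_left, he, smul_zero]
  have hne : ∀ s : F, e ≠ s • x := fun s hs => by
    have := hp.huu'
    rw [hs, polar_smul_left, hf, smul_zero] at this
    exact zero_ne_one this
  by_cases hye : polar Q y e = 0
  · refine ⟨v + e, ?_, by rw [polar_add_right, show polar Q x v = 0 from hvx, he, add_zero], by
      rwa [polar_add_right, hye, add_zero], fun s hs => hne (s - r) ?_⟩
    · rw [QuadraticMap.map_add (⇑Q), hv, hp.hu, hev, add_zero, add_zero]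
    · rw [sub_smul, ← hr, ← hs, add_sub_cancel_left]
  · exact ⟨e, hp.hu, he, hye, hne⟩

/-- Exact transitivity on non-zero singular vectors. -/
theorem exists_map_sing (hQ : (polarBilin Q).Nondegenerate) (hn : 5 ≤ Module.finrank F V) {a b : V}
    (ha : Q a = 0) (hb : Q b = 0) (ha0 : a ≠ 0) (hb0 : b ≠ 0) :
    ∃ g ∈ sGroup Q, g.1 a = b := by
  have step : ∀ a b : V, Q a = 0 → Q b = 0 → polar Q a b ≠ 0 → ∃ g ∈ sGroup Q, g.1 a = b := by
    intro a b ha hb hab
    have hp : Hyp Q a ((polar Q a b)⁻¹ • b) := ⟨ha, by rw [QuadraticMap.map_smul, hb, smul_zero], by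
      rw [polar_smul_right, smul_eq_mul, inv_mul_cancel₀ hab]⟩
    have hd := finrank_comp hp
    obtain ⟨y, hy⟩ := exists_map_eq (isReg_of_nondegenerate (nondeg_comp hQ hp)) (by omega)
      (-(polar Q a b)⁻¹)
    have hQy : Q (y : V) = -(polar Q a b)⁻¹ := hy
    obtain ⟨h, hh, h1, -, -⟩ := exists_flip (M := sGroup Q) hp y.2 (by simp [hQy, hab])
      (rtS hQ hn hp.hu y.2.1) (rtS hQ hn hp.hu' (by
        rw [polar_smul_right (R := F), show polar Q ((polar Q a b)⁻¹ • b) (y : V) = 0 from y.2.2,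
          smul_zero]))
    refine ⟨h, hh, ?_⟩
    rw [h1, hQy, inv_neg, inv_inv, smul_smul, neg_mul, mul_inv_cancel₀ hab]
    simp
  by_cases hab : polar Q a b = 0
  · obtain ⟨c, hc, hac, hbc⟩ := exists_common hQ ha ha0 hb hb0 hab
    obtain ⟨g, hg, e⟩ := step a c ha hc hac
    obtain ⟨g', hg', e'⟩ := step c b hc hb (by rwa [polar_comm])
    exact ⟨g' * g, mul_mem hg' hg, by rw [act_mul, e, e']⟩
  · exact step a b ha hb hab

/-- Transitivity on the non-zero vectors of each norm of the complement of a hyperbolic pair. -/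
theorem exists_map_comp (hQ : (polarBilin Q).Nondegenerate) (hn : 7 ≤ Module.finrank F V)
    {u u' x y : V} (hp : Hyp Q u u') (hx : x ∈ comp Q u u') (hy : y ∈ comp Q u u') (hx0 : x ≠ 0)
    (hy0 : y ≠ 0) (hxy : Q x = Q y) :
    ∃ g ∈ sGroup Q, g.1 u = u ∧ g.1 u' = u' ∧ g.1 x = y := by
  by_cases hQx : Q x = 0
  swap
  · exact exists_move_comp hQ hn hp hx hy hQx hxy
  have hW := nondeg_comp hQ hp
  have hd := finrank_comp hp
  have step : ∀ a b : comp Q u u', Q (a : V) = 0 → Q (b : V) = 0 → polar Q (a : V) b ≠ 0 →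
      ∃ g ∈ sGroup Q, g.1 u = u ∧ g.1 u' = u' ∧ g.1 (a : V) = b := by
    intro a b ha hb hab
    have hpair : Hyp (Q.restrict (comp Q u u')) a ((polar Q (a : V) b)⁻¹ • b) := ⟨ha, by
      rw [QuadraticMap.map_smul]
      show _ • Q (b : V) = 0
      rw [hb, smul_zero], by
      rw [polar_smul_right]
      show _ • polar Q (a : V) b = 1
      rw [smul_eq_mul, inv_mul_cancel₀ hab]⟩
    have hd2 := finrank_comp hpair
    obtain ⟨z, hz⟩ := exists_map_eq (isReg_of_nondegenerate (nondeg_comp hW hpair)) (by omega)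
      (-(polar Q (a : V) b)⁻¹)
    have hQz : Q (z.1 : V) = -(polar Q (a : V) b)⁻¹ := hz
    have hp' : Hyp Q (a : V) ((polar Q (a : V) b)⁻¹ • (b : V)) := ⟨hpair.hu, hpair.hu', hpair.huu'⟩
    have hzc : (z.1 : V) ∈ comp Q (a : V) ((polar Q (a : V) b)⁻¹ • (b : V)) := ⟨z.2.1, z.2.2⟩
    obtain ⟨h, hh, h1, -, h3⟩ := exists_flip (M := sGroup Q) hp' hzc (by simp [hQz, hab])
      (rtS hQ (by omega) hp'.hu hzc.1) (rtS hQ (by omega) hp'.hu' (by
        rw [polar_smul_right (R := F),
          show polar Q ((polar Q (a : V) b)⁻¹ • (b : V)) (z.1 : V) = 0 from hzc.2, smul_zero]))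
    obtain ⟨ua, u'a⟩ := mem_comp'.1 a.2
    obtain ⟨ub, u'b⟩ := mem_comp'.1 b.2
    obtain ⟨uz, u'z⟩ := mem_comp'.1 z.1.2
    refine ⟨h, hh, exists_flip_apply_perp h3 ⟨ua, ?_⟩ uz, exists_flip_apply_perp h3 ⟨u'a, ?_⟩ u'z, ?_⟩
    · show polar Q _ u = 0
      rw [polar_smul_left, ub, smul_zero]
    · show polar Q _ u' = 0
      rw [polar_smul_left, u'b, smul_zero]
    · rw [h1, hQz, inv_neg, inv_inv, smul_smul, neg_mul, mul_inv_cancel₀ hab]
      simp
  have hQy : Q y = 0 := hxy ▸ hQx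
  by_cases hab : polar Q x y = 0
  · obtain ⟨c, hc, hac, hbc⟩ := exists_common hW (a := (⟨x, hx⟩ : comp Q u u')) (b := ⟨y, hy⟩) hQx
      (fun e => hx0 (congrArg Subtype.val e)) hQy (fun e => hy0 (congrArg Subtype.val e)) hab
    obtain ⟨g, hg, g1, g2, g3⟩ := step ⟨x, hx⟩ c hQx hc hac
    obtain ⟨k, hk, k1, k2, k3⟩ := step c ⟨y, hy⟩ hc hQy
      (by rw [polar_comm]; exact hbc)
    exact ⟨k * g, mul_mem hk hg, by rw [act_mul, g1, k1], by rw [act_mul, g2, k2],
      by rw [act_mul, g3, k3]⟩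
  · exact step ⟨x, hx⟩ ⟨y, hy⟩ hQx hQy hab

/-- An element scaling a singular vector and fixing, up to that vector, a vector orthogonal to it. -/
theorem exists_scale_fix (hQ : (polarBilin Q).Nondegenerate) (hn : 7 ≤ Module.finrank F V)
    {u u' w : V} (hp : Hyp Q u u') (hw : w ∈ comp Q u u') (hw0 : w ≠ 0) {μ : F} (hμ : μ ≠ 0) :
    ∃ g ∈ sGroup Q, g.1 u = μ • u ∧ ∃ r : F, g.1 w = w + r • u := by
  obtain ⟨g, hg, hgu⟩ := exists_map_sing hQ (by omega) (a := u) (b := μ • u) hp.hu
    (by rw [QuadraticMap.map_smul, hp.hu, smul_zero]) hp.ne_zero (smul_ne_zero hμ hp.ne_zero)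
  have hperp : polar Q u (g.1 w) = 0 := by
    have h := polar_orth g u w
    rw [hgu, polar_smul_left, show polar Q u w = 0 from hw.1, smul_eq_mul] at h
    exact (mul_eq_zero.1 h).resolve_left hμ
  set z := proj Q u u' (g.1 w) with hz
  have hgw : g.1 w = polar Q u' (g.1 w) • u + z := by
    conv_lhs => rw [eq_decomp Q u u' (g.1 w)]
    rw [hperp, zero_smul, add_zero]
  have hQz : Q z = Q w := by
    rw [← map_orth g w]
    conv_rhs => rw [hgw]
    rw [QuadraticMap.map_add (⇑Q), QuadraticMap.map_smul, hp.hu, polar_smul_left,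
      show polar Q u z = 0 from (proj_mem hp _).1]
    simp
  have hz0 : z ≠ 0 := fun h0 => by
    rw [h0, add_zero] at hgw
    have h := congrArg (g⁻¹ : orth Q).1 hgw
    rw [act_inv_apply, map_smul] at h
    have hu : (g⁻¹ : orth Q).1 u = μ⁻¹ • u := by
      have h2 := congrArg (g⁻¹ : orth Q).1 hgu
      rw [act_inv_apply, map_smul] at h2
      conv_rhs => rw [h2, smul_smul, inv_mul_cancel₀ hμ, one_smul]
    rw [hu, smul_smul] at h
    have h3 : polar Q u' w = 0 := hw.2
    rw [h, polar_smul_right, hp.u'u, smul_eq_mul, mul_one] at h3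
    exact hw0 (by rw [h, h3, zero_smul])
  obtain ⟨k, hk, k1, -, k3⟩ := exists_map_comp hQ hn hp (proj_mem hp _) hw hz0 hw0 hQz
  refine ⟨k * g, mul_mem hk hg, by rw [act_mul, hgu, map_smul, k1], polar Q u' (g.1 w), ?_⟩
  rw [act_mul]
  conv_lhs => rw [hgw]
  rw [map_add, map_smul, k1, k3, add_comm]

end Cfsg.Agent.MinIndexOrthVectors
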