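import Mathlib
import Cfsg.Agent.Lib.MinIndexOrthClass
import Cfsg.Agent.Lib.MinIndexOrthVectors

/-!
The root elements at one singular vector fixing a point of a set acted on: small vectors, their directions,
and the number of points for which a given vector is small.
-/

set_option autoImplicit false

namespace Cfsg.Agent.MinIndexOrthPoint

open QuadraticMap hiding proj
open Cfsg.Agent.OrthUnitaryQuad Cfsg.Agent.OrthUnitaryRefl Cfsg.Agent.OrthUnitaryOmega
open Cfsg.Agent.OrthUnitarySimple Cfsg.Agent.TwoGenSiegel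
open Cfsg.Agent.MinIndexOrthTools Cfsg.Agent.MinIndexOrthCount Cfsg.Agent.MinIndexOrthLine
open Cfsg.Agent.MinIndexOrthOrbit Cfsg.Agent.MinIndexOrthLevi Cfsg.Agent.MinIndexOrthClass
open Cfsg.Agent.MinIndexOrthVectors

variable {F V : Type*} [Field F] [AddCommGroup V] [Module F V] {Q : QuadraticForm F V}
  {Ω : Type*} [MulAction (sGroup Q) Ω]

/-- The root elements at `u` fixing `α` contain a hyperplane of them but not all. -/
def Small (Q : QuadraticForm F V) [MulAction (sGroup Q) Ω] (α : Ω) (u : V) : Prop :=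
  Q u = 0 ∧ u ≠ 0 ∧ ¬ Unip (fixG Q α) u ∧
    ∃ w, polar Q u w = 0 ∧ ∀ y, polar Q u y = 0 → polar Q w y = 0 → Rt (fixG Q α) u y

theorem unip_map {α : Ω} {u : V} (g : sGroup Q) :
    Unip (fixG Q (g • α)) (g.1.1 u) ↔ Unip (fixG Q α) u := by
  constructor
  · intro h y hy
    exact (rt_map_iff g).1 (h _ (by rw [polar_orth g.1, hy]))
  · intro h y hy
    obtain ⟨y, rfl⟩ := g.1.1.surjective y
    rw [polar_orth g.1] at hy
    exact rt_map (h y hy) g

theorem small_map {α : Ω} {u : V} (g : sGroup Q) (h : Small Q α u) :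
    Small Q (g • α) (g.1.1 u) := by
  obtain ⟨h1, h2, h3, w, hw, h4⟩ := h
  refine ⟨by rw [map_orth g.1, h1], fun e => h2 (g.1.1.map_eq_zero_iff.1 e),
    fun e => h3 ((unip_map g).1 e), g.1.1 w, by rw [polar_orth g.1, hw], fun y hy hwy => ?_⟩
  obtain ⟨y, rfl⟩ := g.1.1.surjective y
  rw [polar_orth g.1] at hy hwy
  exact rt_map (h4 y hy hwy) g

theorem small_map_iff {α : Ω} {u : V} (g : sGroup Q) :
    Small Q (g • α) (g.1.1 u) ↔ Small Q α u := by
  refine ⟨fun h => ?_, small_map g⟩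
  have h' := small_map g⁻¹ h
  rwa [inv_smul_smul, show (g⁻¹ : sGroup Q).1.1 (g.1.1 u) = u from act_inv_apply g.1 u] at h'

theorem unip_smul_iff {α : Ω} {u : V} {c : F} (hc : c ≠ 0) :
    Unip (fixG Q α) (c • u) ↔ Unip (fixG Q α) u := by
  refine ⟨fun h => ?_, fun h => unip_smul h hc⟩
  have := unip_smul h (inv_ne_zero hc)
  rwa [smul_smul, inv_mul_cancel₀ hc, one_smul] at this

theorem small_smul {α : Ω} {u : V} {c : F} (hc : c ≠ 0) (h : Small Q α u) :
    Small Q α (c • u) := by
  obtain ⟨h1, h2, h3, w, hw, h4⟩ := h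
  refine ⟨by rw [QuadraticMap.map_smul, h1, smul_zero], smul_ne_zero hc h2,
    fun e => h3 ((unip_smul_iff hc).1 e), w, by rw [polar_smul_left, hw, smul_zero], fun y hy hwy => ?_⟩
  rw [polar_smul_left, smul_eq_mul] at hy
  refine Rt.unscale (h4 _ ?_ ?_) hc
  · rw [polar_smul_right, (mul_eq_zero.1 hy).resolve_left hc, smul_zero]
  · rw [polar_smul_right, hwy, smul_zero]

/-- The direction of a small vector inside a complement is unique. -/
theorem small_unique [Fintype F] [FiniteDimensional F V] (hQ : (polarBilin Q).Nondegenerate)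
    {α : Ω} {u u' w₁ w₂ : V} (hp : Hyp Q u u') (hnu : ¬ Unip (fixG Q α) u)
    (hw₁ : w₁ ∈ comp Q u u') (hw₂ : w₂ ∈ comp Q u u')
    (h₁ : ∀ y ∈ comp Q u u', polar Q w₁ y = 0 → Rt (fixG Q α) u y)
    (h₂ : ∀ y ∈ comp Q u u', polar Q w₂ y = 0 → Rt (fixG Q α) u y) : ∃ r : F, w₂ = r • w₁ := by
  by_contra hall
  push Not at hall
  obtain ⟨z, hz1, hz2⟩ := exists_dual (nondeg_comp hQ hp) (x := (⟨w₁, hw₁⟩ : comp Q u u'))
    (y := ⟨w₂, hw₂⟩) fun r e => hall r (congrArg Subtype.val e)
  refine hnu (unip_of_perp hp.hu hp.huu' fun y h1 h2 => ?_)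
  have hy : y ∈ comp Q u u' := ⟨h1, h2⟩
  set r := polar Q w₂ y / polar Q w₂ (z : V)
  have e1 := h₁ (r • (z : V)) (Submodule.smul_mem _ _ z.2) (by
    rw [polar_smul_right, show polar Q w₁ (z : V) = 0 from hz1, smul_zero])
  have e2 := h₂ (y - r • (z : V)) (sub_mem hy (Submodule.smul_mem _ _ z.2)) (by
    rw [polar_sub_right, polar_smul_right, smul_eq_mul,
      div_mul_cancel₀ _ (show polar Q w₂ (z : V) ≠ 0 from hz2), sub_self])
  have := e2.add e1
  rwa [sub_add_cancel] at this

theorem exists_direction {α : Ω} {u u' : V} (hp : Hyp Q u u') (h : Small Q α u) :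
    ∃ w ∈ comp Q u u', w ≠ 0 ∧ ∀ y, polar Q u y = 0 → polar Q w y = 0 → Rt (fixG Q α) u y := by
  obtain ⟨-, -, h3, w, hw, h4⟩ := h
  refine ⟨proj Q u u' w, proj_mem hp w, fun e => h3 fun y hy => h4 y hy ?_, fun y hy hwy => h4 y hy ?_⟩
  all_goals conv_lhs => rw [eq_decomp Q u u' w]
  · simp [polar_add_left, polar_smul_left, hy, hw, e]
  · simp [polar_add_left, polar_smul_left, hy, hw, hwy]

/-- Scalar multiples of a proper additive subgroup: their number times the index is at least `q`. -/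
theorem scaled_count [Fintype F] [DecidableEq F] [DecidableEq (AddSubgroup F)] {S : AddSubgroup F} (hS : S ≠ ⊤) :
    Fintype.card F ≤
      (Finset.univ.image fun l : Fˣ => S.map (AddMonoidHom.mulLeft (l : F))).card * S.index ∧
      ∀ l : Fˣ, (S.map (AddMonoidHom.mulLeft (l : F))).index = S.index := by
  classical
  obtain ⟨p, hp⟩ := CharP.exists F
  haveI : Fact p.Prime := ⟨CharP.char_is_prime F p⟩
  obtain ⟨y, hy⟩ : ∃ y, y ∉ S := by
    by_contra hall
    push Not at hall
    exact hS (eq_top_iff.2 fun x _ => hall x)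
  obtain ⟨ψ, hψ, -, -⟩ := exists_char (p := p) hy
  let B : F →ₗ[F] F →ₗ[F] F := LinearMap.mul F F
  have hB : ∀ z, (∀ w, B w z = 0) → z = 0 := fun z h => by simpa [B] using h 1
  let Sl : Fˣ → AddSubgroup F := fun l => S.map (AddMonoidHom.mulLeft (l : F))
  have hSl : ∀ l c, c ∈ Sl l ↔ (l : F)⁻¹ * c ∈ S := by
    intro l c
    simp only [Sl, AddSubgroup.mem_map, AddMonoidHom.coe_mulLeft]
    exact ⟨fun ⟨x, hx, e⟩ => by simpa [← e] using hx, fun h => ⟨_, h, by simp⟩⟩
  have hidx : ∀ l : Fˣ, (Sl l).index = S.index := fun l => by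
    have h1 := AddSubgroup.index_mul_card (Sl l)
    rw [show Nat.card (Sl l) = Nat.card S from (Nat.card_congr
      (S.equivMapOfInjective _ (mul_right_injective₀ l.ne_zero)).toEquiv).symm,
      ← AddSubgroup.index_mul_card S] at h1
    exact Nat.eq_of_mul_eq_mul_right Nat.card_pos h1
  refine ⟨?_, hidx⟩
  have hann : ∀ l, Nat.card (ann B ψ (Sl l)) = S.index := fun l => by
    have h1 := card_ann_mul hB hψ (Sl l)
    rw [← AddSubgroup.index_mul_card (Sl l), hidx] at h1
    exact Nat.eq_of_mul_eq_mul_right Nat.card_pos h1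
  obtain ⟨ζ, hζ, hζ0⟩ : ∃ ζ ∈ ann B ψ S, ζ ≠ 0 := by
    by_contra hall
    push Not at hall
    refine hy (mem_of_ann hB (fun z h => hB z fun w => ?_) hψ fun z hz => ?_)
    · have := h w
      simpa [B, mul_comm] using this
    · rw [hall z hz]; simp [B]
  set T : Finset (AddSubgroup F) := Finset.univ.image Sl
  let U : Finset F := T.biUnion fun L => (Finset.univ.filter fun z => z ∈ ann B ψ L).erase 0
  have hU : U.card ≤ T.card * (S.index - 1) := by
    refine Finset.card_biUnion_le.trans ?_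
    refine (Finset.sum_le_card_nsmul _ _ (S.index - 1) fun L hL => ?_).trans_eq (smul_eq_mul _ _)
    obtain ⟨s, -, rfl⟩ := Finset.mem_image.1 hL
    rw [Finset.card_erase_of_mem (by simp [zero_mem]), ← hann s, Nat.card_eq_fintype_card,
      Fintype.card_subtype]
  have h4 : Fintype.card F - 1 ≤ U.card := by
    rw [← Fintype.card_units, ← Finset.card_univ]
    refine Finset.card_le_card_of_injOn (fun l : Fˣ => (l : F)⁻¹ * ζ) (fun l _ => ?_)
      fun a _ b _ e => Units.ext (inv_injective (mul_right_cancel₀ hζ0 e))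
    refine Finset.mem_biUnion.2 ⟨_, Finset.mem_image_of_mem _ (Finset.mem_univ l),
      Finset.mem_erase.2 ⟨mul_ne_zero (inv_ne_zero l.ne_zero) hζ0, ?_⟩⟩
    simp only [Finset.mem_filter, Finset.mem_univ, true_and]
    intro t ht
    have := hζ _ ((hSl l t).1 ht)
    simpa [B, mul_assoc, mul_left_comm, mul_comm] using this
  have hne : 1 ≤ T.card := Finset.card_pos.2 ⟨_, Finset.mem_image_of_mem _ (Finset.mem_univ 1)⟩
  have hP : 1 ≤ S.index := Nat.one_le_iff_ne_zero.2 AddSubgroup.index_ne_zero_of_finite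
  have h5 : T.card * S.index = T.card * (S.index - 1) + T.card := by
    rw [← Nat.mul_succ, Nat.succ_eq_add_one, Nat.sub_add_cancel hP]
  show Fintype.card F ≤ T.card * S.index
  omega

variable [Fintype F] [FiniteDimensional F V] [Finite Ω] (hQ : (polarBilin Q).Nondegenerate)
  (hn : 7 ≤ Module.finrank F V)

include hQ hn

theorem inl_mem_iff {fr : Frame Q} {α : Ω} {a : V} (ha : a ∈ fr.X) :
    (a, (0 : V)) ∈ Mset fr α ↔ ∃ c : F, Rt (fixG Q α) fr.u (a + c • fr.v) := by
  have hu : ∀ c : F, polar Q fr.u (a + c • fr.v) = 0 ∧ polar Q fr.v (a + c • fr.v) = 0 := fun c => by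
    simp [polar_add_right, polar_smul_right, show polar Q fr.u a = 0 from ha.1.1,
      show polar Q fr.v a = 0 from ha.2.1, fr.huv, fr.h2.uu]
  constructor
  · rintro ⟨g, hg, hga, e⟩
    simp only [Prod.mk.injEq] at e
    refine ⟨cC fr g, (rt_iff_sg hQ (by omega) fr.h1.hu (hu _).1).2 ?_⟩
    obtain ⟨h1, h2, h3, h4⟩ := rad_sgA (fr := fr) hQ hn (hu (cC fr g)).1 (hu (cC fr g)).2
    have : g = sg Q fr.u (a + cC fr g • fr.v) := eq_of_coord hg h1
      (by rw [h2, fr.pr_add, fr.pr_smul, fr.pr_v, fr.pr_of_mem ha, smul_zero, add_zero, e.1])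
      (by rw [h3, e.2])
      (by rw [h4, polar_add_right, polar_smul_right, fr.h2.u'u,
        show polar Q fr.v' a = 0 from ha.2.2]; simp)
    rwa [← this]
  · rintro ⟨c, hc⟩
    obtain ⟨h1, h2, h3, -⟩ := rad_sgA (fr := fr) hQ hn (hu c).1 (hu c).2
    refine ⟨_, h1, (rt_iff_sg hQ (by omega) fr.h1.hu (hu c).1).1 hc, ?_⟩
    rw [h2, h3, fr.pr_add, fr.pr_smul, fr.pr_v, fr.pr_of_mem ha, smul_zero, add_zero]

/-- A singular vector of the complement and its frame. -/
theorem exists_frame_at {u u' v : V} (hp : Hyp Q u u') (hv : v ∈ comp Q u u') (hv0 : v ≠ 0)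
    (hQv : Q v = 0) : ∃ fr : Frame Q, fr.u = u ∧ fr.u' = u' ∧ fr.v = v := by
  obtain ⟨v', hv', h⟩ := exists_hyp_comp hQ hp hv hv0 hQv
  exact ⟨⟨u, v, u', v', hp, h, hv.1, hv'.1, hv.2, hv'.2⟩, rfl, rfl, rfl⟩

/-- A full end at one line through `u` makes `u` small. -/
theorem small_of_full_end {fr : Frame Q} {α : Ω}
    (hP : ∀ fr' : Frame Q, fr'.u = fr.u → R0 fr' α ≠ ⊤ → PStruct fr' α)
    (hR : R0 fr α ≠ ⊤) (hfull : ∀ a ∈ fr.X, (a, (0 : V)) ∈ Mset fr α) :
    Small Q α fr.u := by
  classical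
  have := finite_V F V
  set u := fr.u
  set u' := fr.u'
  have hp : Hyp Q u u' := fr.h1
  have hd := fr.finrank_X hQ
  have hW := nondeg_comp hQ hp
  have hdW := finrank_comp hp
  have hnu : ¬ Unip (fixG Q α) u := fun h => hR (eq_top_iff.2 fun c _ => h _ (by
    rw [polar_smul_right, fr.huv, smul_zero]))
  let R : AddSubgroup (comp Q u u') :=
    { carrier := {y | Rt (fixG Q α) u (y : V)}
      zero_mem' := rt_zero hp.hu
      add_mem' := fun {a b} ha hb => Rt.add ha hb
      neg_mem' := fun {a} ha => Rt.neg ha }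
  have hR' : ∀ y : comp Q u u', y ∈ R ↔ Rt (fixG Q α) u (y : V) := fun y => Iff.rfl
  have hbig : Fintype.card F ^ (Module.finrank F V - 4) ≤ Nat.card R := by
    rw [← fr.card_X hQ]
    choose c hc using fun a : fr.X => (inl_mem_iff hQ hn a.2).1 (hfull a a.2)
    refine Nat.card_le_card_of_injective (fun a : fr.X => (⟨⟨(a : V) + c a • fr.v,
      add_mem a.2.1 (Submodule.smul_mem _ _ fr.v_mem)⟩, hc a⟩ : R)) fun a b e => ?_
    have e' := congrArg (fun z : R => fr.pr ((z : comp Q u u') : V)) e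
    simp only [fr.pr_add, fr.pr_smul, fr.pr_v, fr.pr_of_mem a.2, fr.pr_of_mem b.2, smul_zero,
      add_zero] at e'
    exact Subtype.ext e'
  have hall : ∀ fr' : Frame Q, fr'.u = u → fr'.u' = u' → R0 fr' α ≠ ⊤ →
      ∀ a ∈ fr'.X, (a, (0 : V)) ∈ Mset fr' α := by
    intro fr' e1 e2 hR0
    rcases (hP fr' e1 hR0).2.1 with h | h
    · exact h
    exfalso
    have hker : ∀ y : R, polar Q fr'.v ((y : comp Q u u') : V) = 0 →
        ∃ r : F, ((y : comp Q u u') : V) = r • fr'.v := by
      intro y hy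
      obtain ⟨h1, h2⟩ := mem_comp.1 (y : comp Q u u').2
      replace h1 : polar Q fr'.u ((y : comp Q u u') : V) = 0 :=
        (congrArg (fun z => polar Q z ((y : comp Q u u') : V)) e1).trans h1
      replace h2 : polar Q fr'.u' ((y : comp Q u u') : V) = 0 :=
        (congrArg (fun z => polar Q z ((y : comp Q u u') : V)) e2).trans h2
      have hdec := fr'.eq_decomp ((y : comp Q u u') : V)
      rw [h1, h2, hy] at hdec
      simp only [zero_smul, zero_add, add_zero] at hdec
      refine ⟨polar Q fr'.v' ((y : comp Q u u') : V), ?_⟩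
      have h4 := h (fr'.pr ((y : comp Q u u') : V)) ((inl_mem_iff hQ hn (fr'.pr_mem _)).2
        ⟨polar Q fr'.v' ((y : comp Q u u') : V), by
          rw [add_comm, ← hdec, e1]; exact y.2⟩)
      conv_lhs => rw [hdec, h4, add_zero]
    let rep : F → R := fun t =>
      if h : ∃ y : R, polar Q fr'.v ((y : comp Q u u') : V) = t then h.choose else 0
    have hrep : ∀ y : R, polar Q fr'.v ((rep (polar Q fr'.v ((y : comp Q u u') : V)) : comp Q u u') : V)
        = polar Q fr'.v ((y : comp Q u u') : V) := fun y => by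
      simp only [rep, dif_pos (show ∃ z : R, polar Q fr'.v ((z : comp Q u u') : V) =
        polar Q fr'.v ((y : comp Q u u') : V) from ⟨y, rfl⟩)]
      exact (show ∃ z : R, polar Q fr'.v ((z : comp Q u u') : V) =
        polar Q fr'.v ((y : comp Q u u') : V) from ⟨y, rfl⟩).choose_spec
    choose r hr using fun y : R => hker (y - rep (polar Q fr'.v ((y : comp Q u u') : V))) (by
      rw [AddSubgroup.coe_sub, Submodule.coe_sub, polar_sub_right, hrep, sub_self])
    have hsmall : Nat.card R ≤ Fintype.card F ^ 2 := by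
      rw [pow_two, ← Nat.card_eq_fintype_card, ← Nat.card_prod]
      refine Nat.card_le_card_of_injective
        (fun y : R => (polar Q fr'.v ((y : comp Q u u') : V), r y)) fun y z e => ?_
      simp only [Prod.mk.injEq] at e
      have h1 := hr y
      have h2 := hr z
      rw [e.2] at h1
      rw [e.1] at h1
      have h3 := h1.trans h2.symm
      rw [AddSubgroup.coe_sub, AddSubgroup.coe_sub, Submodule.coe_sub, Submodule.coe_sub,
        sub_left_inj] at h3
      exact Subtype.ext (Subtype.ext h3)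
    have h5 := Nat.pow_lt_pow_right (Fintype.one_lt_card (α := F))
      (show 2 < Module.finrank F V - 4 by omega)
    omega
  obtain ⟨p, hpc⟩ := CharP.exists F
  haveI : Fact p.Prime := ⟨CharP.char_is_prime F p⟩
  obtain ⟨ψ, hψ, -, -⟩ := exists_char (p := p) (S := (⊥ : AddSubgroup F)) (y := (1 : F)) (by simp)
  let B := polarBilin (Q.restrict (comp Q u u'))
  have hBd : ∀ a b : comp Q u u', B a b = polar Q (a : V) (b : V) := fun _ _ => rfl
  have hl : ∀ x, (∀ y, B y x = 0) → x = 0 := fun x h => hW.2 x h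
  have hr : ∀ y, (∀ x, B y x = 0) → y = 0 := fun y h => hW.1 y h
  obtain ⟨x, hx, hx0⟩ : ∃ x ∈ ann B ψ R, x ≠ 0 := by
    by_contra hc
    push Not at hc
    refine hnu (unip_of_perp hp.hu hp.huu' fun y h1 h2 => (hR' ⟨y, h1, h2⟩).1 ?_)
    exact mem_of_ann hl hr hψ fun x hx => by rw [hc x hx]; simp
  have key : ∀ y ∈ ann B ψ R, ∃ r : F, y = r • x := by
    intro y hy
    by_contra hc
    push Not at hc
    obtain ⟨v, hQv, hxv, hyv, hvx⟩ :=
      exists_separating hW (show 5 ≤ Module.finrank F (comp Q u u') by omega) hx0 hc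
    have hv0 : v ≠ 0 := fun e => hyv (by rw [e, polar_zero_right])
    obtain ⟨fr', e1, e2, e3⟩ := exists_frame_at (Q := Q) hQ hn hp v.2
      (fun e => hv0 (Subtype.ext e)) hQv
    have hR0 : R0 fr' α ≠ ⊤ := fun htop => by
      refine hyv (eq_zero_of_char hψ fun s => ?_)
      have h1 : s ∈ R0 fr' α := htop ▸ AddSubgroup.mem_top s
      have h2 : Rt (fixG Q α) u (s • (v : V)) := by
        rw [← e3]; exact (congrArg (fun z => Rt (fixG Q α) z (s • fr'.v)) e1).mp h1
      have h3 := hy (s • v) ((hR' _).2 h2)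
      rw [hBd, Submodule.coe_smul, polar_smul_left, smul_eq_mul, polar_comm] at h3
      exact h3
    have hperp : ∀ a ∈ fr'.X, polar Q a (x : V) = 0 := by
      intro a ha
      refine eq_zero_of_char hψ fun s => ?_
      obtain ⟨c, hc'⟩ := (inl_mem_iff hQ hn (fr'.X.smul_mem s ha)).1
        (hall fr' e1 e2 hR0 _ (fr'.X.smul_mem s ha))
      have hmem : s • a + c • (v : V) ∈ comp Q u u' := by
        have ha' : a ∈ comp Q fr'.u fr'.u' := ha.1
        rw [e1, e2] at ha'
        exact add_mem (Submodule.smul_mem _ _ ha') (Submodule.smul_mem _ _ v.2)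
      have h4 : Rt (fixG Q α) u (s • a + c • (v : V)) := by
        rw [← e3]; exact (congrArg (fun z => Rt (fixG Q α) z (s • a + c • fr'.v)) e1).mp hc'
      have h3 := hx ⟨_, hmem⟩ ((hR' ⟨_, hmem⟩).2 h4)
      have hvx' : polar Q (v : V) x = 0 := by rw [polar_comm]; exact hxv
      rw [hBd, polar_add_left, polar_smul_left, polar_smul_left, hvx', smul_zero, add_zero,
        smul_eq_mul] at h3
      exact h3
    have hx1 : polar Q fr'.u (x : V) = 0 :=
      (congrArg (fun z => polar Q z (x : V)) e1).trans x.2.1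
    have hx2 : polar Q fr'.u' (x : V) = 0 :=
      (congrArg (fun z => polar Q z (x : V)) e2).trans x.2.2
    have hx3 : polar Q fr'.v (x : V) = 0 := by rw [e3, polar_comm]; exact hxv
    have hpr : fr'.pr (x : V) = 0 := by
      refine (fr'.pr_ext hQ (y' := 0) fun a ha => ?_).trans ?_
      · rw [hperp a ha, polar_zero_right]
      · rw [← zero_smul F (0 : V), fr'.pr_smul, zero_smul, zero_smul]
    have hdec := fr'.eq_decomp (x : V)
    rw [hx1, hx2, hx3, hpr, e3] at hdec
    simp only [zero_smul, zero_add, add_zero] at hdec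
    have hγ : polar Q fr'.v' (x : V) ≠ 0 := fun h0 => hx0 (Subtype.ext (by
      rw [hdec, h0, zero_smul]; rfl))
    refine hvx (polar Q fr'.v' (x : V))⁻¹ (Subtype.ext ?_)
    show (v : V) = (polar Q fr'.v' (x : V))⁻¹ • (x : V)
    generalize polar Q fr'.v' (x : V) = γ at hdec hγ ⊢
    rw [hdec, smul_smul, inv_mul_cancel₀ hγ, one_smul]
  refine ⟨hp.hu, hp.ne_zero, hnu, (x : V), x.2.1, fun y hy hxy => ?_⟩
  have hy' := proj_mem hp y
  have h1 : Rt (fixG Q α) u (proj Q u u' y) := (hR' ⟨_, hy'⟩).1 (mem_of_ann hl hr hψ fun z hz => by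
    obtain ⟨r, rfl⟩ := key z hz
    have : polar Q (proj Q u u' y) (r • (x : V)) = 0 := by
      rw [polar_smul_right, polar_comm, polar_proj x.2, hxy, smul_zero]
    show ψ (polar Q (proj Q u u' y) ((r • x : comp Q u u') : V)) = 0
    rw [show ((r • x : comp Q u u') : V) = r • (x : V) from rfl, this, map_zero])
  have h2 := (rt_self (M := fixG Q α) hp.hu (polar Q u' y)).add h1
  conv at h2 => rhs
  rwa [show polar Q u' y • u + proj Q u u' y = y by
    conv_rhs => rw [eq_decomp Q u u' y, hy, zero_smul, add_zero]] at h2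

/-- A moved line with a point structure has a small vector. -/
theorem exists_small
    (hP : ∀ (fr : Frame Q) (β : Ω), R0 fr β ≠ ⊤ → PStruct fr β)
    {fr : Frame Q} {α : Ω} (hR : R0 fr α ≠ ⊤) : ∃ u, Small Q α u := by
  obtain ⟨⟨c, hc, hpat⟩, -, -⟩ := hP fr α hR
  suffices key : ∀ (fr : Frame Q), R0 fr α ≠ ⊤ → ∀ c : F × F, c.1 ≠ 0 → Pat fr α c →
      ∃ u, Small Q α u by
    by_cases hc1 : c.1 = 0
    · have hc2 : c.2 ≠ 0 := fun h => hc (Prod.ext hc1 h)
      refine key fr.swap ?_ (c.2, c.1) hc2 fun a ha => ?_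
      · intro htop
        refine hR (eq_top_iff.2 fun s _ => ?_)
        have h1 : -s ∈ R0 fr.swap α := htop ▸ AddSubgroup.mem_top _
        have h2 := rt_wedge (M := fixG Q α) fr.swap.h1.hu fr.swap.h2.hu fr.swap.huv
          (a := (0 : F)) (b := 1) (c := 1) (e := 0) (s := s) (t := -s) (by ring) h1
        show Rt (fixG Q α) fr.u (s • fr.v)
        simpa [Frame.swap] using h2
      · obtain ⟨g, hg, hga, e⟩ := hpat a ⟨ha.2, ha.1⟩
        refine ⟨g, ⟨hg.2.1, hg.1, fun x h1 h2 => ?_⟩, hga, ?_⟩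
        · have := hg.2.2 x h2 h1
          rwa [show ({fr.swap.u, fr.swap.v} : Set V) = {fr.u, fr.v} from Set.pair_comm _ _]
        · have hpr : ∀ y, fr.swap.pr y = fr.pr y := fun y => by
            rw [fr.swap.pr_ext hQ (y := y) (y' := fr.pr y) fun b hb =>
              (fr.polar_pr (⟨hb.2, hb.1⟩ : b ∈ fr.X) y).symm]
            exact fr.swap.pr_of_mem (⟨(fr.pr_mem y).2, (fr.pr_mem y).1⟩ : fr.pr y ∈ fr.swap.X)
          simp only [Prod.mk.injEq] at e ⊢
          simp only [cA, cB, hpr]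
          exact ⟨e.2, e.1⟩
    · exact key fr hR c hc1 hpat
  intro fr hR c hc1 hpat
  have vu : polar Q fr.v fr.u = 0 := by rw [polar_comm, fr.huv]
  let fr' : Frame Q :=
    { u := c.1 • fr.u + c.2 • fr.v
      v := fr.v
      u' := c.1⁻¹ • fr.u'
      v' := fr.v' - (c.2 / c.1) • fr.u'
      h1 := ⟨by
          rw [QuadraticMap.map_add (⇑Q), QuadraticMap.map_smul, QuadraticMap.map_smul, fr.h1.hu,
            fr.h2.hu, polar_smul_left, polar_smul_right, fr.huv]
          simp, by rw [QuadraticMap.map_smul, fr.h1.hu', smul_zero], by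
          rw [polar_smul_right, polar_add_left, polar_smul_left, polar_smul_left, fr.h1.huu',
            polar_comm Q fr.v fr.u', fr.hu'v]
          simp [hc1]⟩
      h2 := ⟨fr.h2.hu, by
          rw [sub_eq_add_neg, ← neg_smul, QuadraticMap.map_add (⇑Q), QuadraticMap.map_smul,
            fr.h2.hu', fr.h1.hu', polar_smul_right, polar_comm Q fr.v' fr.u', fr.hu'v']
          simp, by
          rw [polar_sub_right, polar_smul_right, fr.h2.huu', polar_comm Q fr.v fr.u', fr.hu'v]
          simp⟩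
      huv := by
        rw [polar_add_left, polar_smul_left, polar_smul_left, fr.huv, fr.h2.uu]; simp
      huv' := by
        rw [polar_sub_right, polar_smul_right, polar_add_left, polar_add_left, polar_smul_left,
          polar_smul_left, polar_smul_left, polar_smul_left, fr.huv', fr.h2.huu', fr.h1.huu',
          polar_comm Q fr.v fr.u', fr.hu'v]
        simp only [smul_eq_mul]
        field_simp
        ring
      hu'v := by rw [polar_smul_left, fr.hu'v, smul_zero]
      hu'v' := by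
        rw [polar_smul_left, polar_sub_right, polar_smul_right, fr.hu'v', fr.h1.u'u']
        simp }
  have hXle : fr.X ≤ fr'.X := by
    intro x hx
    obtain ⟨⟨a, b⟩, d, e⟩ := (Frame.mem_X fr).1 hx
    exact (Frame.mem_X fr').2 ⟨⟨by simp [fr', polar_add_left, polar_smul_left, a, d],
      by simp [fr', polar_smul_left, b]⟩, d, by simp [fr', polar_sub_left, polar_smul_left, b, e]⟩
  have hX : fr'.X = fr.X := (Submodule.eq_of_le_of_finrank_eq hXle (by
    have h1 := fr.finrank_X hQ
    have h2 := fr'.finrank_X hQ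
    omega)).symm
  have hpr : ∀ y, fr'.pr y = fr.pr y := fun y => by
    rw [fr'.pr_ext hQ (y := y) (y' := fr.pr y) fun b hb => (fr.polar_pr (hX ▸ hb) y).symm]
    exact fr'.pr_of_mem (hX ▸ fr.pr_mem y)
  refine ⟨_, small_of_full_end hQ hn (fr := fr') (fun f' _ => hP f' α) (fun htop => hR (eq_top_iff.2 fun s _ => ?_))
    fun a ha => ?_⟩
  · have h1 : s / c.1 ∈ R0 fr' α := htop ▸ AddSubgroup.mem_top _
    have h2 := rt_wedge (M := fixG Q α) fr'.h1.hu fr'.h2.hu fr'.huv (a := c.1⁻¹) (b := -(c.2 / c.1))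
      (c := 0) (e := 1) (s := s) (t := s / c.1) (by ring) h1
    show Rt (fixG Q α) fr.u (s • fr.v)
    convert h2 using 1 <;> simp [fr', smul_smul, hc1, div_eq_inv_mul]
  · obtain ⟨g, hg, hga, e⟩ := hpat a (hX ▸ ha)
    simp only [Prod.mk.injEq] at e
    have hgu : g.1.1 fr'.u = fr'.u := by
      show g.1.1 (c.1 • fr.u + c.2 • fr.v) = _
      rw [map_add, map_smul, map_smul, hg.1, hg.2.1]
    refine ⟨g, ⟨hgu, hg.2.1, fun x h1 h2 => ?_⟩, hga, ?_⟩
    · have h1' : polar Q fr.u x = 0 := by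
        have : polar Q (c.1 • fr.u + c.2 • fr.v) x = 0 := h1
        rw [polar_add_left, polar_smul_left, polar_smul_left,
          show polar Q fr.v x = 0 from h2] at this
        simpa [hc1] using this
      obtain ⟨a', b', hab⟩ := Submodule.mem_span_pair.1 (hg.2.2 x h1' h2)
      refine Submodule.mem_span_pair.2 ⟨a' / c.1, b' - a' / c.1 * c.2, ?_⟩
      rw [← hab]
      show (a' / c.1) • (c.1 • fr.u + c.2 • fr.v) + _ • fr.v = _
      match_scalars <;> field_simp <;> ring
    · have e1 : fr.pr (g.1.1 fr.u') = c.1 • a := by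
        have := e.1
        rwa [cA, fr.pr_sub, fr.pr_u', sub_zero] at this
      have e2 : fr.pr (g.1.1 fr.v') = c.2 • a := by
        have := e.2
        rwa [cB, fr.pr_sub, fr.pr_v', sub_zero] at this
      simp only [cA, cB, hpr]
      show (fr.pr (g.1.1 (c.1⁻¹ • fr.u') - c.1⁻¹ • fr.u'),
        fr.pr (g.1.1 (fr.v' - (c.2 / c.1) • fr.u') - (fr.v' - (c.2 / c.1) • fr.u'))) = (a, 0)
      simp only [map_sub, map_smul, fr.pr_sub, fr.pr_smul, fr.pr_u', fr.pr_v', e1, e2, smul_zero,
        sub_zero, smul_smul, inv_mul_cancel₀ hc1, one_smul, div_mul_cancel₀ _ hc1, sub_self]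

/-- Each admissible direction occurs for at least `q` points. -/
theorem small_fibre {α : Ω} {u u' w : V} (hp : Hyp Q u u') (hw : w ∈ comp Q u u') (hw0 : w ≠ 0)
    (hnu : ¬ Unip (fixG Q α) u)
    (hh : ∀ y, polar Q u y = 0 → polar Q w y = 0 → Rt (fixG Q α) u y) :
    Fintype.card F ≤ Nat.card {β : Ω // ¬ Unip (fixG Q β) u ∧
      ∀ y, polar Q u y = 0 → polar Q w y = 0 → Rt (fixG Q β) u y} := by
  classical
  obtain ⟨z, hz⟩ : ∃ z ∈ comp Q u u', polar Q w z = 1 := by
    obtain ⟨z₁, hz₁⟩ : ∃ z : comp Q u u', polar Q w (z : V) ≠ 0 := by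
      by_contra hall
      push Not at hall
      exact hw0 (congrArg Subtype.val ((nondeg_comp hQ hp).1 ⟨w, hw⟩ hall))
    exact ⟨(polar Q w (z₁ : V))⁻¹ • (z₁ : V), Submodule.smul_mem _ _ z₁.2, by
      rw [polar_smul_right, smul_eq_mul, inv_mul_cancel₀ hz₁]⟩
  obtain ⟨hzW, hwz⟩ := hz
  have huz : ∀ t : F, polar Q u (t • z) = 0 := fun t => by
    rw [polar_smul_right, show polar Q u z = 0 from hzW.1, smul_zero]
  let S : Ω → AddSubgroup F := fun β =>
    { carrier := {t | Rt (fixG Q β) u (t • z)}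
      zero_mem' := by show Rt (fixG Q β) u ((0 : F) • z); rw [zero_smul]; exact rt_zero hp.hu
      add_mem' := fun {a b} ha hb => by
        show Rt (fixG Q β) u ((a + b) • z); rw [add_smul]; exact Rt.add ha hb
      neg_mem' := fun {a} ha => by
        show Rt (fixG Q β) u ((-a) • z); rw [neg_smul]; exact Rt.neg ha }
  have hwu : polar Q w u = 0 := by rw [polar_comm]; exact hw.1
  have hsplit : ∀ y, polar Q u y = 0 → polar Q u (y - polar Q w y • z) = 0 ∧
      polar Q w (y - polar Q w y • z) = 0 := fun y hy =>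
    ⟨by rw [polar_sub_right, hy, huz, sub_zero],
      by rw [polar_sub_right, polar_smul_right, hwz, smul_eq_mul, mul_one, sub_self]⟩
  have hS : S α ≠ ⊤ := fun htop => hnu fun y hy => by
    have h1 := hh _ (hsplit y hy).1 (hsplit y hy).2
    have h2 : Rt (fixG Q α) u (polar Q w y • z) :=
      (htop ▸ AddSubgroup.mem_top _ : polar Q w y ∈ S α)
    simpa using h1.add h2
  choose g hg hgu rg hgw using fun l : Fˣ => exists_scale_fix hQ hn hp hw hw0 l.ne_zero
  let γ : Fˣ → Ω := fun l => (⟨g l, hg l⟩ : sGroup Q) • α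
  have hback : ∀ (l : Fˣ) (y : V), polar Q u y = 0 → ∃ y₀, polar Q u y₀ = 0 ∧
      (g l).1 y₀ = (l : F)⁻¹ • y ∧ (l : F) * polar Q w y₀ = polar Q w y ∧
      (Rt (fixG Q (γ l)) u y ↔ Rt (fixG Q α) u y₀) := by
    intro l y hy
    obtain ⟨y₀, hy₀⟩ := (g l).1.surjective ((l : F)⁻¹ • y)
    have h1 : polar Q u y₀ = 0 := by
      rw [← polar_orth (g l), hgu, hy₀, polar_smul_left, polar_smul_right, hy]; simp
    refine ⟨y₀, h1, hy₀, ?_, ?_⟩
    · rw [← polar_orth (g l) w y₀, hgw, hy₀, polar_add_left, polar_smul_left, polar_smul_right,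
        polar_smul_right, hy]
      simp [l.ne_zero]
    · rw [← rt_map_iff (Q := Q) (⟨g l, hg l⟩ : sGroup Q) (α := α)]
      show Rt (fixG Q (γ l)) u y ↔ Rt (fixG Q (γ l)) ((g l).1 u) ((g l).1 y₀)
      rw [hgu, hy₀]
      refine ⟨fun h => Rt.unscale ?_ l.ne_zero, fun h => ?_⟩
      · rwa [smul_smul, mul_inv_cancel₀ l.ne_zero, one_smul]
      · have := Rt.scale l.ne_zero h
        rwa [smul_smul, mul_inv_cancel₀ l.ne_zero, one_smul] at this
  have hγ : ∀ (l : Fˣ) (y : V), polar Q u y = 0 → polar Q w y = 0 → Rt (fixG Q (γ l)) u y := by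
    intro l y hy hwy
    obtain ⟨y₀, h1, -, h3, h4⟩ := hback l y hy
    exact h4.2 (hh y₀ h1 ((mul_eq_zero.1 (h3.trans hwy)).resolve_left l.ne_zero))
  have hSγ : ∀ l : Fˣ, S (γ l) = (S α).map (AddMonoidHom.mulLeft (l : F)) := by
    intro l
    ext t
    obtain ⟨y₀, h1, -, h3, h4⟩ := hback l (t • z) (huz t)
    rw [polar_smul_right, hwz, smul_eq_mul, mul_one] at h3
    have h5 : polar Q w y₀ = (l : F)⁻¹ * t := by
      rw [← h3, ← mul_assoc, inv_mul_cancel₀ l.ne_zero, one_mul]
    have h6 := hh _ (hsplit y₀ h1).1 (hsplit y₀ h1).2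
    simp only [AddSubgroup.mem_map, AddMonoidHom.coe_mulLeft]
    constructor
    · intro ht
      refine ⟨(l : F)⁻¹ * t, ?_, by simp⟩
      have h7 := (h4.1 ht).sub h6
      rw [sub_sub_cancel, h5] at h7
      exact h7
    · rintro ⟨s, hs, rfl⟩
      refine h4.2 ?_
      rw [h5, ← mul_assoc, inv_mul_cancel₀ l.ne_zero, one_mul] at h6
      simpa using h6.add hs
  obtain ⟨hcount, hidx⟩ := scaled_count hS
  let T : Finset (AddSubgroup F) :=
    Finset.univ.image fun l : Fˣ => (S α).map (AddMonoidHom.mulLeft (l : F))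
  refine hcount.trans ?_
  have hrep : ∀ A : T, ∃ l : Fˣ, S (γ l) = A := fun A => by
    obtain ⟨l, -, e⟩ := Finset.mem_image.1 A.2
    exact ⟨l, (hSγ l).trans e⟩
  choose r hr using hrep
  have hc : ∀ A : T, Nat.card (F ⧸ (A : AddSubgroup F)) = (S α).index := fun A => by
    obtain ⟨l, -, e⟩ := Finset.mem_image.1 A.2
    rw [← hidx l, e]; rfl
  rw [show T.card * (S α).index = Nat.card (Σ A : T, F ⧸ (A : AddSubgroup F)) by
    rw [Nat.card_sigma, Finset.sum_congr rfl fun A _ => hc A]; simp]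
  have hshift : ∀ (l : Fˣ) (t : F) (y : V), polar Q u y = 0 →
      (Rt (fixG Q (sg Q u (t • z) • γ l)) u y ↔ Rt (fixG Q (γ l)) u y) := by
    intro l t y hy
    rw [rt_iff_sg hQ (by omega) hp.hu hy, rt_iff_sg hQ (by omega) hp.hu hy, ← mul_smul,
      ← sg_add hQ (by omega) hp.hu hy (huz t), add_comm, sg_add hQ (by omega) hp.hu (huz t) hy,
      mul_smul, smul_left_cancel_iff]
  refine Nat.card_le_card_of_injective (fun c => ⟨sg Q u (c.2.out • z) • γ (r c.1), ?_, ?_⟩) ?_
  · intro h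
    refine hS ?_
    have h2 : S (γ (r c.1)) = ⊤ := eq_top_iff.2 fun t _ =>
      (hshift _ _ _ (huz t)).1 (h _ (huz t))
    rw [hSγ] at h2
    have h3 := hidx (r c.1)
    rw [h2, AddSubgroup.index_top] at h3
    exact AddSubgroup.index_eq_one.1 h3.symm
  · exact fun y hy hwy => (hshift _ _ _ hy).2 (hγ _ y hy hwy)
  · rintro ⟨A, c⟩ ⟨A', c'⟩ e
    have e' : sg Q u (c.out • z) • γ (r A) = sg Q u (c'.out • z) • γ (r A') := congrArg Subtype.val e
    have eA : A = A' := Subtype.ext (by
      rw [← hr A, ← hr A']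
      ext t
      show Rt _ u (t • z) ↔ Rt _ u (t • z)
      rw [← hshift (r A) c.out _ (huz t), e', hshift (r A') c'.out _ (huz t)])
    subst eA
    refine Sigma.ext rfl (heq_of_eq ?_)
    rw [← c.out_eq', ← c'.out_eq', QuotientAddGroup.eq]
    have h1 : -c.out + c'.out ∈ S (γ (r A)) := by
      show Rt (fixG Q (γ (r A))) u ((-c.out + c'.out) • z)
      rw [rt_iff_sg hQ (by omega) hp.hu (huz _), add_smul,
        sg_add hQ (by omega) hp.hu (huz _) (huz _), mul_smul, ← e', ← mul_smul,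
        ← sg_add hQ (by omega) hp.hu (huz _) (huz _), ← add_smul, neg_add_cancel, zero_smul]
      have h0 : sg Q u (0 : V) = 1 := by
        apply Subtype.ext
        rw [sg_coe hQ (by omega) hp.hu (polar_zero_right _ _)]
        exact siegel_eq_one _ _ (a := 0) (zero_smul F u).symm
      rw [h0, one_smul]
    exact (SetLike.ext_iff.1 (hr A) _).1 h1

end Cfsg.Agent.MinIndexOrthPoint
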