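import Mathlib
import Cfsg.Agent.Lib.MinIndexOrthPoint

/-!
Counting with full and small vectors: moved lines through a vector, directions, double counting, and the
number of points with a given small vector.
-/

set_option autoImplicit false

namespace Cfsg.Agent.MinIndexOrthLocal

open QuadraticMap hiding proj
open Cfsg.Agent.OrthUnitaryQuad Cfsg.Agent.OrthUnitaryRefl Cfsg.Agent.OrthUnitaryOmega
open Cfsg.Agent.OrthUnitarySimple Cfsg.Agent.TwoGenSiegel
open Cfsg.Agent.MinIndexOrthTools Cfsg.Agent.MinIndexOrthCount Cfsg.Agent.MinIndexOrthLine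
open Cfsg.Agent.MinIndexOrthOrbit Cfsg.Agent.MinIndexOrthClass
open Cfsg.Agent.MinIndexOrthVectors Cfsg.Agent.MinIndexOrthPoint

variable {F V : Type*} [Field F] [AddCommGroup V] [Module F V] {Q : QuadraticForm F V}
  {Ω : Type*} [MulAction (sGroup Q) Ω]

/-- All root elements at the singular vector `u` fix `α`. -/
def Full (Q : QuadraticForm F V) [MulAction (sGroup Q) Ω] (α : Ω) (u : V) : Prop :=
  Q u = 0 ∧ u ≠ 0 ∧ Unip (fixG Q α) u

/-- The root elements at `u` orthogonal to `w` fix `α`. -/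
def Dir (Q : QuadraticForm F V) [MulAction (sGroup Q) Ω] (α : Ω) (u w : V) : Prop :=
  ∀ y, polar Q u y = 0 → polar Q w y = 0 → Rt (fixG Q α) u y

theorem full_map_iff {α : Ω} {u : V} (g : sGroup Q) :
    Full Q (g • α) (g.1.1 u) ↔ Full Q α u := by
  simp only [Full, map_orth g.1, ne_eq, LinearEquiv.map_eq_zero_iff, unip_map]

theorem full_smul {α : Ω} {u : V} {c : F} (hc : c ≠ 0) (h : Full Q α u) : Full Q α (c • u) :=
  ⟨by rw [QuadraticMap.map_smul, h.1, smul_zero], smul_ne_zero hc h.2.1, unip_smul h.2.2 hc⟩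

theorem dir_smul {α : Ω} {u w : V} (c : F) (hc : c ≠ 0) (h : Dir Q α u w) : Dir Q α u (c • w) := by
  intro y h1 h2
  refine h y h1 ?_
  rw [polar_smul_left, smul_eq_mul] at h2
  exact (mul_eq_zero.1 h2).resolve_left hc

theorem dir_map {α : Ω} {u w : V} (g : sGroup Q) (h : Dir Q α u w) :
    Dir Q (g • α) (g.1.1 u) (g.1.1 w) := by
  intro y h1 h2
  obtain ⟨y, rfl⟩ := g.1.1.surjective y
  rw [polar_orth g.1] at h1 h2
  exact rt_map (h y h1 h2) g

theorem small_of_dir {α : Ω} {u u' w : V} (hp : Hyp Q u u') (hnu : ¬ Unip (fixG Q α) u)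
    (hw : polar Q u w = 0) (h : Dir Q α u w) : Small Q α u :=
  ⟨hp.hu, hp.ne_zero, hnu, w, hw, h⟩

/-- A predicate stable under sums holding on the lines of singular vectors holds on the whole space. -/
theorem mem_of_singular {W : Submodule F V} {e f : V} (he : e ∈ W) (hf : f ∈ W) (hp : Hyp Q e f)
    {P : V → Prop} (hadd : ∀ a b, P a → P b → P (a + b))
    (key : ∀ v ∈ W, Q v = 0 → ∀ c : F, P (c • v)) {y : V} (hy : y ∈ W) : P y := by
  set z := proj Q e f y with hz
  obtain ⟨h3, h4⟩ := mem_comp.1 (proj_mem hp y)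
  have hzW : z ∈ W := sub_mem (sub_mem hy (W.smul_mem _ he)) (W.smul_mem _ hf)
  have hQ' : Q (z + e - Q z • f) = 0 := by
    rw [sub_eq_add_neg, ← neg_smul, QuadraticMap.map_add (⇑Q), QuadraticMap.map_add (⇑Q) z,
      QuadraticMap.map_smul, hp.hu, hp.hu', polar_add_left, polar_smul_right, polar_smul_right,
      polar_comm Q z e, polar_comm Q z f, h3, h4, hp.huu']
    simp
  have e1 : y = (polar Q f y - 1) • e + (polar Q e y + Q z) • f + (1 : F) • (z + e - Q z • f) := by
    conv_lhs => rw [eq_decomp Q e f y, ← hz]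
    module
  rw [e1]
  exact hadd _ _ (hadd _ _ (key e he hp.hu _) (key f hf hp.hu' _))
    (key _ (sub_mem (add_mem hzW he) (W.smul_mem _ hf)) hQ' _)

variable [Fintype F] [FiniteDimensional F V]

omit [Fintype F] in
/-- A totally singular subspace has at most half the dimension. -/
theorem ts_bound (hQ : (polarBilin Q).Nondegenerate) {E : Submodule F V} (hE : ∀ x ∈ E, Q x = 0) :
    2 * Module.finrank F E ≤ Module.finrank F V := by
  let f : V →ₗ[F] Module.Dual F E := E.dualRestrict.comp (polarBilin Q)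
  have hinj : Function.Injective (polarBilin Q) := by
    rw [injective_iff_map_eq_zero]
    exact fun z hz => hQ.1 z fun w => LinearMap.congr_fun hz w
  have hf : Function.Surjective f := Subspace.dualRestrict_surjective.comp
    ((LinearMap.injective_iff_surjective_of_finrank_eq_finrank Subspace.dual_finrank_eq.symm).1 hinj)
  have h1 := f.finrank_range_add_finrank_ker
  rw [LinearMap.range_eq_top.2 hf, finrank_top, Subspace.dual_finrank_eq] at h1
  have h2 : Module.finrank F E ≤ Module.finrank F (LinearMap.ker f) :=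
    Submodule.finrank_mono fun z hz => LinearMap.mem_ker.2 (LinearMap.ext fun w => by
      show polar Q z (w : V) = 0
      have h := hE _ (add_mem hz w.2)
      rwa [QuadraticMap.map_add (⇑Q), hE z hz, hE _ w.2, zero_add, zero_add] at h)
  omega

/-- The number of a set of non-zero vectors stable under scalars is divisible by `q - 1`. -/
theorem dvd_card_of_smul {P : V → Prop} (h0 : ∀ v, P v → v ≠ 0)
    (hs : ∀ v (c : F), P v → c ≠ 0 → P (c • v)) :
    Fintype.card F - 1 ∣ Nat.card {v // P v} := by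
  classical
  have := finite_V F V
  cases nonempty_fintype V
  rw [Nat.card_eq_fintype_card, Fintype.card_subtype,
    Finset.card_eq_sum_card_image (fun v => Submodule.span F ({v} : Set V))]
  refine Finset.dvd_sum fun L hL => ?_
  obtain ⟨v, hv, rfl⟩ := Finset.mem_image.1 hL
  rw [Finset.mem_filter] at hv
  refine dvd_of_eq ?_
  rw [← Fintype.card_units, ← Finset.card_univ]
  refine Finset.card_bij (fun l _ => (l : F) • v) (fun l _ => ?_) (fun a _ b _ e => ?_) fun w hw => ?_
  · simp only [Finset.mem_filter, Finset.mem_univ, true_and]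
    exact ⟨hs v _ hv.2 l.ne_zero, Submodule.span_singleton_smul_eq l.isUnit v⟩
  · exact Units.ext (smul_left_injective F (h0 v hv.2) e)
  · simp only [Finset.mem_filter, Finset.mem_univ, true_and] at hw
    obtain ⟨c, hc⟩ := Submodule.mem_span_singleton.1 (hw.2 ▸ Submodule.mem_span_singleton_self w)
    exact ⟨Units.mk0 c fun e => h0 w hw.1 (by rw [← hc, e, zero_smul]), Finset.mem_univ _, hc⟩

theorem card_singular (Q : QuadraticForm F V) :
    Nat.card {v : V // Q v = 0 ∧ v ≠ 0} = Nat.card {v : V // Q v = 0} - 1 := by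
  classical
  have := finite_V F V
  cases nonempty_fintype V
  rw [Nat.card_eq_fintype_card, Nat.card_eq_fintype_card, Fintype.card_subtype, Fintype.card_subtype,
    ← Finset.filter_filter, Finset.filter_ne', Finset.card_erase_of_mem (by simp)]

variable (hQ : (polarBilin Q).Nondegenerate) (hn : 7 ≤ Module.finrank F V)

include hQ hn

/-- A vector that is not full lies on a moved line. -/
theorem exists_moved {α : Ω} {u u' : V} (hp : Hyp Q u u') (hnu : ¬ Unip (fixG Q α) u) :
    ∃ fr : Frame Q, fr.u = u ∧ fr.u' = u' ∧ R0 fr α ≠ ⊤ := by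
  by_contra hall
  push Not at hall
  obtain ⟨e, f, he, hf, hef⟩ := exists_hyp_in_comp hQ hp (by omega)
  refine hnu (unip_of_perp hp.hu hp.huu' fun y h1 h2 => ?_)
  refine mem_of_singular (W := comp Q u u') he hf hef (P := fun z => Rt (fixG Q α) u z)
    (fun _ _ ha hb => ha.add hb) (fun v hv hQv c => ?_) ⟨h1, h2⟩
  by_cases hv0 : v = 0
  · rw [hv0, smul_zero]; exact rt_zero hp.hu
  obtain ⟨fr, e1, e2, e3⟩ := exists_frame_at hQ hn hp hv hv0 hQv
  have h : Rt (fixG Q α) fr.u (c • fr.v) :=
    (hall fr e1 e2 ▸ AddSubgroup.mem_top c : c ∈ R0 fr α)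
  rwa [e1, e3] at h

/-- Transitive double counting between points and singular vectors. -/
theorem double_count [MulAction.IsPretransitive (sGroup Q) Ω] (P : Ω → V → Prop)
    (hP : ∀ α u, P α u → Q u = 0 ∧ u ≠ 0)
    (hmap : ∀ (g : sGroup Q) α u, P (g • α) (g.1.1 u) ↔ P α u) (α : Ω) {u : V} (hu : Q u = 0)
    (hu0 : u ≠ 0) :
    Nat.card {v // P α v} * Nat.card Ω =
      Nat.card {v : V // Q v = 0 ∧ v ≠ 0} * Nat.card {β // P β u} := by
  have key : Nat.card (Σ β : Ω, {v // P β v}) =
      Nat.card (Σ v : {v : V // Q v = 0 ∧ v ≠ 0}, {β // P β v.1}) := Nat.card_congr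
    { toFun := fun p => ⟨⟨p.2.1, hP _ _ p.2.2⟩, p.1, p.2.2⟩
      invFun := fun p => ⟨p.2.1, p.1.1, p.2.2⟩
      left_inv := fun _ => rfl
      right_inv := fun _ => rfl }
  have h1 : ∀ β : Ω, Nonempty ({v // P β v} ≃ {v // P α v}) := fun β => by
    obtain ⟨g, rfl⟩ := MulAction.exists_smul_eq (sGroup Q) α β
    exact ⟨(g.1.1.toEquiv.subtypeEquiv fun v => (hmap g α v).symm).symm⟩
  have h2 : ∀ v : {v : V // Q v = 0 ∧ v ≠ 0}, Nonempty ({β // P β v.1} ≃ {β // P β u}) := fun v => by
    obtain ⟨g, hg, e⟩ := exists_map_sing hQ (by omega) hu v.2.1 hu0 v.2.2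
    refine ⟨((MulAction.toPerm (⟨g, hg⟩ : sGroup Q)).subtypeEquiv fun β => ?_).symm⟩
    rw [← e]
    exact (hmap ⟨g, hg⟩ β u).symm
  rw [Nat.card_congr ((Equiv.sigmaCongrRight fun β => (h1 β).some).trans (Equiv.sigmaEquivProd _ _)),
    Nat.card_congr ((Equiv.sigmaCongrRight fun v => (h2 v).some).trans (Equiv.sigmaEquivProd _ _)),
    Nat.card_prod, Nat.card_prod] at key
  rw [← key, mul_comm]

omit hn in
/-- The number of vectors of given norm in a space with a hyperbolic pair. -/
theorem card_norm_ge {u u' : V} (hp : Hyp Q u u') (hn5 : 5 ≤ Module.finrank F V) (a : F) :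
    (Fintype.card F - 1) * Fintype.card F ^ (Module.finrank F V - 4) ≤
      Nat.card {x : comp Q u u' // Q x = a} := by
  have hd := finrank_comp hp
  obtain ⟨e, f, h⟩ := exists_hyp_mem (nondeg_comp hQ hp) (by omega)
  have hd' := finrank_comp h
  show _ ≤ Nat.card {x : comp Q u u' // Q.restrict (comp Q u u') x = a}
  rw [card_level h, card_sub,
    show Module.finrank F (comp (Q.restrict (comp Q u u')) e f) = Module.finrank F V - 4 by omega]
  exact Nat.le_add_right _ _

/-- The non-zero vectors of the complement with norm in the square class of `Q w`. -/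
def Theta (Q : QuadraticForm F V) (u u' w : V) : Set (comp Q u u') :=
  {x | x ≠ 0 ∧ ∃ c : F, c ≠ 0 ∧ Q (x : V) = c * c * Q w}

omit hn in
theorem card_Theta_ge {u u' w : V} (hp : Hyp Q u u') (hn5 : 5 ≤ Module.finrank F V) :
    (Fintype.card F - 1) * Fintype.card F ^ (Module.finrank F V - 4) ≤
      Nat.card (Theta Q u u' w) + 1 := by
  classical
  have := finite_V F V
  refine (card_norm_ge hQ hp hn5 (Q w)).trans ?_
  rw [← Finite.card_option]
  refine Nat.card_le_card_of_injective (fun x => if h : x.1 = 0 then none else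
    some ⟨x.1, h, 1, one_ne_zero, by rw [x.2, one_mul, one_mul]⟩) fun x y e => ?_
  by_cases hx : x.1 = 0 <;> by_cases hy : y.1 = 0 <;>
    simp only [hx, hy, dif_pos, dif_neg, not_false_iff, reduceCtorEq] at e
  · exact Subtype.ext (hx.trans hy.symm)
  · exact Subtype.ext (congrArg (fun z : Theta Q u u' w => (z : comp Q u u')) (Option.some.inj e))

variable [Finite Ω]

/-- The number of points with small vector `u`. -/
theorem small_count {α : Ω} {u u' w : V} (hp : Hyp Q u u') (hw : w ∈ comp Q u u') (hw0 : w ≠ 0)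
    (hnu : ¬ Unip (fixG Q α) u) (hh : Dir Q α u w) :
    Fintype.card F * Nat.card (Theta Q u u' w) ≤
      (Fintype.card F - 1) * Nat.card {β : Ω // Small Q β u} := by
  classical
  have := finite_V F V
  let B : comp Q u u' → Type _ := fun x => {β : Ω // ¬ Unip (fixG Q β) u ∧ Dir Q β u x}
  have hB : ∀ x : Theta Q u u' w, Fintype.card F ≤ Nat.card (B x) := by
    rintro ⟨x, hx0, c, hc, hQx⟩
    obtain ⟨g, hg, g1, -, g3⟩ := exists_map_comp hQ hn hp ((comp Q u u').smul_mem c hw) x.2
      (smul_ne_zero hc hw0) (fun e => hx0 (Subtype.ext e))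
      (by rw [QuadraticMap.map_smul, hQx, smul_eq_mul])
    have h1 := dir_map (⟨g, hg⟩ : sGroup Q) (dir_smul c hc hh)
    dsimp only at h1
    rw [g1, g3] at h1
    refine small_fibre hQ hn hp x.2 (fun e => hx0 (Subtype.ext e))
      (α := (⟨g, hg⟩ : sGroup Q) • α) (fun h => hnu ?_) h1
    refine (unip_map (⟨g, hg⟩ : sGroup Q)).1 ?_
    show Unip _ (g.1 u)
    rwa [g1]
  cases nonempty_fintype (Theta Q u u' w)
  have h1 : Fintype.card F * Nat.card (Theta Q u u' w) ≤ Nat.card (Σ x : Theta Q u u' w, B x) := by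
    rw [Nat.card_sigma, Nat.card_eq_fintype_card, mul_comm, ← smul_eq_mul, ← Finset.card_univ]
    exact Finset.card_nsmul_le_sum _ _ _ fun x _ => hB x
  refine h1.trans ?_
  let ref : {β : Ω // Small Q β u} → comp Q u u' := fun β =>
    if h : ∃ x : Theta Q u u' w, Dir Q β.1 u (x : comp Q u u') then h.choose.1 else 0
  have hr : ∀ p : (Σ x : Theta Q u u' w, B x), ∃ r : Fˣ, ((p.1.1 : comp Q u u') : V) =
      (r : F) • (ref ⟨p.2.1, small_of_dir hp p.2.2.1 p.1.1.2.1 p.2.2.2⟩ : V) := by
    rintro ⟨x, β, hβ, hd⟩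
    have hex : ∃ y : Theta Q u u' w, Dir Q β u (y : comp Q u u') := ⟨x, hd⟩
    simp only [ref, dif_pos hex]
    obtain ⟨r, hr⟩ := small_unique hQ hp hβ hex.choose.1.2 x.1.2
      (fun y hy => hex.choose_spec y hy.1) (fun y hy => hd y hy.1)
    refine ⟨Units.mk0 r fun h0 => x.2.1 (Subtype.ext ?_), hr⟩
    rw [hr, h0, zero_smul]; rfl
  choose r hr using hr
  rw [← Fintype.card_units, ← Nat.card_eq_fintype_card, ← Nat.card_prod]
  refine Nat.card_le_card_of_injective (fun p =>
    (r p, (⟨p.2.1, small_of_dir hp p.2.2.1 p.1.1.2.1 p.2.2.2⟩ : {β : Ω // Small Q β u}))) ?_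
  rintro ⟨x, β, hβ⟩ ⟨y, γ, hγ⟩ e
  simp only [Prod.mk.injEq] at e
  have h1 := hr ⟨x, β, hβ⟩
  have h2 := hr ⟨y, γ, hγ⟩
  rw [e.1, e.2, ← h2] at h1
  obtain rfl : x = y := Subtype.ext (Subtype.ext h1)
  obtain rfl : β = γ := congrArg Subtype.val e.2
  rfl

end Cfsg.Agent.MinIndexOrthLocal
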