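import Mathlib
import Cfsg.Agent.Lib.MinIndexOrthLocal

/-!
A transitive action of small degree in which every moved line has a point structure is impossible.
-/

set_option autoImplicit false

namespace Cfsg.Agent.MinIndexOrthMain

open QuadraticMap hiding proj
open Cfsg.Agent.OrthUnitaryQuad Cfsg.Agent.OrthUnitaryRefl Cfsg.Agent.OrthUnitaryOmega
open Cfsg.Agent.OrthUnitarySimple Cfsg.Agent.TwoGenSiegel
open Cfsg.Agent.MinIndexOrthTools Cfsg.Agent.MinIndexOrthCount Cfsg.Agent.MinIndexOrthLine
open Cfsg.Agent.MinIndexOrthOrbit Cfsg.Agent.MinIndexOrthClass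
open Cfsg.Agent.MinIndexOrthVectors Cfsg.Agent.MinIndexOrthPoint Cfsg.Agent.MinIndexOrthLocal

variable {F V : Type*} [Field F] [AddCommGroup V] [Module F V] {Q : QuadraticForm F V}
  {Ω : Type*} [MulAction (sGroup Q) Ω]

theorem dir_of_smul {α : Ω} {u w : V} {c : F} (hc : c ≠ 0) (h : Dir Q α (c • u) w) :
    Dir Q α u w := by
  intro y hy hwy
  have h1 := h (c⁻¹ • y) (by rw [polar_smul_left, polar_smul_right, hy]; simp)
    (by rw [polar_smul_right, hwy, smul_zero])
  have h2 := Rt.scale hc h1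
  rwa [smul_smul, mul_inv_cancel₀ hc, one_smul] at h2

theorem dir_smul_left {α : Ω} {u w : V} {c : F} (hc : c ≠ 0) (h : Dir Q α u w) :
    Dir Q α (c • u) w := by
  intro y hy hwy
  rw [polar_smul_left, smul_eq_mul] at hy
  refine Rt.unscale (h _ ?_ ?_) hc
  · rw [polar_smul_right, (mul_eq_zero.1 hy).resolve_left hc, smul_zero]
  · rw [polar_smul_right, hwy, smul_zero]

theorem unip_zero (M : Subgroup (orth Q)) : Unip M (0 : V) := fun y hy =>
  ⟨QuadraticMap.map_zero Q, hy, by rw [siegel_zero_left]; exact one_mem _⟩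

/-- The image of a singular vector with a direction under an element fixing the point and the direction. -/
theorem dir_image {α : Ω} {x x' w u : V} (hxx' : Hyp Q x x') (hw : w ∈ comp Q x x')
    (hx : Dir Q α x w) (hx' : Dir Q α x' w) (hu : Q u = 0) (hwu : polar Q w u = 0)
    (hne : polar Q x' u ≠ 0) : Dir Q α u w := by
  set β := polar Q x' u with hβ
  set p := proj Q x x' u with hp0
  have hp := proj_mem hxx' u (Q := Q)
  rw [← hp0] at hp
  have hwp : polar Q w p = 0 := by rw [hp0, polar_proj hw, hwu]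
  have hxp : polar Q x p = 0 := hp.1
  have hx'p : polar Q x' p = 0 := hp.2
  have hdec : u = β • x + polar Q x u • x' + p := eq_decomp Q x x' u
  obtain ⟨hy1, hy2, hm⟩ := hx' (β⁻¹ • p) (by rw [polar_smul_right, hx'p, smul_zero])
    (by rw [polar_smul_right, hwp, smul_zero])
  obtain ⟨hs, hfix⟩ := mem_fixG.1 hm
  set g : sGroup Q := ⟨_, hs⟩
  have hgw : g.1.1 w = w := by
    show (siegel Q x' _ hy1 hy2).1 w = w
    rw [siegel_apply, show polar Q x' w = 0 from hw.2, polar_smul_left, polar_comm Q p w, hwp]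
    simp
  have hgx : g.1.1 (β • x) = u := by
    show (siegel Q x' _ hy1 hy2).1 (β • x) = u
    have hQu : β * polar Q x u + Q p = 0 := by
      rw [← hu]
      conv_rhs => rw [hdec]
      rw [QuadraticMap.map_add (⇑Q), QuadraticMap.map_add (⇑Q) (β • x), QuadraticMap.map_smul,
        QuadraticMap.map_smul, hxx'.hu, hxx'.hu']
      simp [polar_add_left, polar_smul_left, polar_smul_right, hxx'.huu', hxp, hx'p]
      ring
    rw [siegel_apply]
    simp only [polar_smul_right, polar_smul_left, QuadraticMap.map_smul, hxx'.u'u,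
      polar_comm Q p x, hxp, smul_eq_mul]
    conv_rhs => rw [hdec]
    match_scalars <;> field_simp <;> linear_combination (-1 : F) * hQu
  have h1 := dir_map g (dir_smul_left hne hx)
  rwa [hgx, hgw, show g • α = α from hfix] at h1

variable [Fintype F] [FiniteDimensional F V]

variable (hQ : (polarBilin Q).Nondegenerate) (hn : 7 ≤ Module.finrank F V)

include hQ hn

/-- The levels of the complement of a hyperbolic pair in terms of the complement of a frame. -/
theorem card_W_level (fr : Frame Q) (a : F) :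
    Nat.card {x : comp Q fr.u fr.u' // Q x = a} =
      (Fintype.card F - 1) * Nat.card fr.X + Fintype.card F * cnt Q fr.X a := by
  have h2 : Hyp (Q.restrict (comp Q fr.u fr.u')) ⟨fr.v, fr.v_mem⟩ ⟨fr.v', fr.v'_mem⟩ :=
    ⟨fr.h2.hu, fr.h2.hu', fr.h2.huu'⟩
  let e : comp (Q.restrict (comp Q fr.u fr.u')) ⟨fr.v, fr.v_mem⟩ ⟨fr.v', fr.v'_mem⟩ ≃ fr.X :=
    { toFun := fun x => ⟨x.1.1, x.1.2, x.2⟩
      invFun := fun x => ⟨⟨x.1, x.2.1⟩, x.2.2⟩
      left_inv := fun _ => rfl
      right_inv := fun _ => rfl }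
  show Nat.card {x : comp Q fr.u fr.u' // Q.restrict (comp Q fr.u fr.u') x = a} = _
  rw [card_level h2, Nat.card_congr e]
  congr 2
  exact Nat.card_congr (e.subtypeEquiv fun _ => Iff.rfl)

variable [Finite Ω] [MulAction.IsPretransitive (sGroup Q) Ω] (hk1 : 1 < Nat.card Ω)

include hk1

omit [Finite Ω] in
/-- Two full vectors are orthogonal. -/
theorem full_perp {α : Ω} {u v : V} (hu : Full Q α u) (hv : Full Q α v) : polar Q u v = 0 := by
  by_contra hne
  have hp : Hyp Q u ((polar Q u v)⁻¹ • v) := ⟨hu.1, by rw [QuadraticMap.map_smul, hv.1, smul_zero],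
    by rw [polar_smul_right, smul_eq_mul, inv_mul_cancel₀ hne]⟩
  have h1 := sGroup_le_of_pair hQ hp.hu hp.hu' hp.huu' (M := fixG Q α)
    (fun y h _ => hu.2.2 y h) fun y _ h => unip_smul hv.2.2 (inv_ne_zero hne) y h
  have hfix : ∀ g : sGroup Q, g • α = α := fun g => mem_fixG'.1 (h1 g.2)
  have : Subsingleton Ω := ⟨fun a b => by
    obtain ⟨g, rfl⟩ := MulAction.exists_smul_eq (sGroup Q) α a
    obtain ⟨g', rfl⟩ := MulAction.exists_smul_eq (sGroup Q) α b
    rw [hfix, hfix]⟩
  have := Nat.card_of_subsingleton α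
  omega

variable (hP : ∀ (fr : Frame Q) (α : Ω), R0 fr α ≠ ⊤ → PStruct fr α)

include hP

theorem exists_small_vec (α : Ω) : ∃ u, Small Q α u := by
  obtain ⟨e, f, hp⟩ := exists_hyp_mem hQ (by omega)
  by_cases he : Unip (fixG Q α) e
  · have hf : ¬ Unip (fixG Q α) f := fun hf => by
      have h := full_perp hQ hn hk1 (u := e) (v := f) ⟨hp.hu, hp.ne_zero, he⟩
        ⟨hp.hu', hp.symm.ne_zero, hf⟩
      rw [hp.huu'] at h
      exact one_ne_zero h
    obtain ⟨fr, -, -, hR⟩ := exists_moved hQ hn hp.symm hf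
    exact exists_small hQ hn hP hR
  · obtain ⟨fr, -, -, hR⟩ := exists_moved hQ hn hp he
    exact exists_small hQ hn hP hR

omit [MulAction.IsPretransitive (sGroup Q) Ω] hk1 hP in
/-- A full vector is orthogonal to every small one. -/
theorem full_small_perp {α : Ω} {u z : V} (hu : Full Q α u) (hz : Small Q α z) :
    polar Q u z = 0 := by
  by_contra hne
  have hz' := small_smul (inv_ne_zero hne) hz
  set z' := (polar Q u z)⁻¹ • z with hz0
  have hp : Hyp Q u z' := ⟨hu.1, hz'.1, by
    rw [hz0, polar_smul_right, smul_eq_mul, inv_mul_cancel₀ hne]⟩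
  obtain ⟨w, hw, -, hd⟩ := exists_direction hp.symm hz'
  have hdW := finrank_comp hp
  obtain ⟨y, hwy, -, hQy⟩ := exists_nonsing2 (nondeg_comp hQ hp) (by omega)
    (⟨w, by rwa [comp_comm]⟩ : comp Q u z') ⟨w, by rwa [comp_comm]⟩
  obtain ⟨h, hm, h1, -, -⟩ := exists_flip (M := fixG Q α) hp y.2 hQy (hu.2.2 _ y.2.1)
    (hd _ (by rw [polar_smul_right, show polar Q z' (y : V) = 0 from y.2.2, smul_zero])
      (by rw [polar_smul_right, show polar Q w (y : V) = 0 from hwy, smul_zero]))
  have hQy' : Q (y : V) ≠ 0 := hQy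
  have h2 := unip_conj hu.2.2 hm
  rw [h1, ← neg_smul, unip_smul_iff (neg_ne_zero.2 (inv_ne_zero hQy'))] at h2
  exact hz'.2.2.1 h2

omit [MulAction.IsPretransitive (sGroup Q) Ω] hk1 hP in
/-- Two small vectors that are not orthogonal have the same direction. -/
theorem common_dir {α : Ω} {x x' : V} (hp : Hyp Q x x') (hx : Small Q α x) (hx' : Small Q α x') :
    ∃ w ∈ comp Q x x', w ≠ 0 ∧ Dir Q α x w ∧ Dir Q α x' w := by
  obtain ⟨w, hw, hw0, hd⟩ := exists_direction hp hx
  obtain ⟨w', hw', -, hd'⟩ := exists_direction hp.symm hx'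
  have hdW := finrank_comp hp
  obtain ⟨y, hwy, hwy', hQy⟩ := exists_nonsing2 (nondeg_comp hQ hp) (by omega)
    (⟨w, hw⟩ : comp Q x x') ⟨w', by rwa [comp_comm]⟩
  have hwy1 : polar Q w (y : V) = 0 := hwy
  obtain ⟨h, hm, h1, -, h3⟩ := exists_flip (M := fixG Q α) hp y.2 hQy (hd _ y.2.1 hwy1)
    (hd' _ (by rw [polar_smul_right, show polar Q x' (y : V) = 0 from y.2.2, smul_zero])
      (by rw [polar_smul_right, show polar Q w' (y : V) = 0 from hwy', smul_zero]))
  obtain ⟨hs, hfix⟩ := mem_fixG.1 hm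
  have h4 := dir_map (⟨h, hs⟩ : sGroup Q) (show Dir Q α x w from hd)
  rw [hfix] at h4
  dsimp only at h4
  rw [h1, exists_flip_apply_perp h3 hw (by rw [polar_comm]; exact hwy1), ← neg_smul] at h4
  exact ⟨w, hw, hw0, hd, dir_of_smul (neg_ne_zero.2 (inv_ne_zero hQy)) h4⟩

variable (hN : (Fintype.card F - 1) * Nat.card Ω < Nat.card {v : V // Q v = 0} - 1)

include hN

/-- A small vector with a prescribed first vector and a lower bound for their number. -/
theorem small_at {α β₀ : Ω} {x x' w : V} (hp : Hyp Q x x') (hw : w ∈ comp Q x x') (hw0 : w ≠ 0)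
    (hnu : ¬ Unip (fixG Q β₀) x) (hd : Dir Q β₀ x w) {u u' : V} (hp' : Hyp Q u u') :
    ∃ w' ∈ comp Q u u', w' ≠ 0 ∧ Q w' = Q w ∧
      Fintype.card F * Nat.card (Theta Q u u' w') < Nat.card {v // Small Q α v} := by
  have := finite_V F V
  obtain ⟨g, hg, e⟩ := exists_map_sing hQ (by omega) hp.hu hp'.hu hp.ne_zero hp'.ne_zero
  set γ := (⟨g, hg⟩ : sGroup Q) • β₀
  have hnu' : ¬ Unip (fixG Q γ) u := fun h => hnu ((unip_map (⟨g, hg⟩ : sGroup Q)).1 (by
    show Unip _ (g.1 x)
    rwa [e]))
  have hd1 : Dir Q γ u (g.1 w) := by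
    have h := dir_map (⟨g, hg⟩ : sGroup Q) hd
    dsimp only at h
    rwa [e] at h
  have hgw : polar Q u (g.1 w) = 0 := by rw [← e, polar_orth g, show polar Q x w = 0 from hw.1]
  set w' := proj Q u u' (g.1 w) with hw'0
  have hdec : g.1 w = polar Q u' (g.1 w) • u + w' := by
    conv_lhs => rw [eq_decomp Q u u' (g.1 w)]
    rw [hgw, zero_smul, add_zero]
  have hw' := proj_mem hp' (g.1 w) (Q := Q)
  rw [← hw'0] at hw'
  have hQw' : Q w' = Q w := by
    rw [← map_orth g w]
    conv_rhs => rw [hdec]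
    rw [QuadraticMap.map_add (⇑Q), QuadraticMap.map_smul, hp'.hu, polar_smul_left,
      show polar Q u w' = 0 from hw'.1]
    simp
  have hd' : Dir Q γ u w' := fun y hy hwy => hd1 y hy (by
    rw [hdec, polar_add_left, polar_smul_left, hy, hwy]; simp)
  have hw'0' : w' ≠ 0 := fun h0 => hnu' fun y hy => hd' y hy (by rw [h0, polar_zero_left])
  refine ⟨w', hw', hw'0', hQw', ?_⟩
  have h1 := small_count hQ hn hp' hw' hw'0' hnu' hd'
  have h2 := double_count hQ hn (fun a v => Small Q a v) (fun a v h => ⟨h.1, h.2.1⟩)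
    (fun g a v => small_map_iff g) α hp'.hu hp'.ne_zero
  rw [card_singular] at h2
  obtain ⟨v, hv⟩ := exists_small_vec hQ hn hk1 hP α
  have hs : 0 < Nat.card {v // Small Q α v} := Nat.card_pos_iff.2 ⟨⟨⟨v, hv⟩⟩, inferInstance⟩
  have h3 := Nat.mul_lt_mul_of_pos_left hN hs
  refine h1.trans_lt ?_
  by_contra hle
  push Not at hle
  have h4 := Nat.mul_le_mul_right (Nat.card {v : V // Q v = 0} - 1) hle
  rw [mul_left_comm, h2] at h3
  nlinarith

/-- Two orthogonal singular vectors cannot be orthogonal to all small vectors of a point. -/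
theorem two_perp_contra {α : Ω} {z z' : V} (hz : Q z = 0) (hz0 : z ≠ 0) (hz' : Q z' = 0)
    (hzz' : polar Q z z' = 0) (hind : ∀ r : F, z' ≠ r • z)
    (hall : ∀ v, Small Q α v → polar Q z v = 0 ∧ polar Q z' v = 0) : False := by
  classical
  have := finite_V F V
  obtain ⟨zp, hp⟩ := exists_hyp hQ hz hz0
  set p := proj Q z zp z' with hp0
  have hdec : z' = polar Q zp z' • z + p := by
    conv_lhs => rw [eq_decomp Q z zp z']
    rw [hzz', zero_smul, add_zero]
  have hpm := proj_mem hp z' (Q := Q)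
  rw [← hp0] at hpm
  have hpne : p ≠ 0 := fun h => hind (polar Q zp z') (by rw [h, add_zero] at hdec; exact hdec)
  have hQp : Q p = 0 := by
    have h := hz'
    rw [hdec, QuadraticMap.map_add (⇑Q), QuadraticMap.map_smul, hz, polar_smul_left,
      show polar Q z p = 0 from hpm.1] at h
    simpa using h
  obtain ⟨fr, e1, e2, e3⟩ := exists_frame_at hQ hn hp hpm hpne hQp
  have hperp : ∀ v, Small Q α v → polar Q fr.u v = 0 ∧ polar Q fr.v v = 0 := fun v hv => by
    obtain ⟨h1, h2⟩ := hall v hv
    refine ⟨by rw [e1, h1], ?_⟩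
    rw [e3, show p = z' - polar Q zp z' • z by rw [eq_sub_iff_add_eq', ← hdec], polar_sub_left,
      polar_smul_left, h1, h2, smul_zero, sub_zero]
  -- the small vectors lie in the span of the line and the singular vectors of its complement
  have hs : Nat.card {v // Small Q α v} + 1 ≤ Fintype.card F * (Fintype.card F * cnt Q fr.X 0) := by
    rw [cnt, ← Nat.card_eq_fintype_card, ← Nat.card_prod, ← Nat.card_prod, ← Finite.card_option]
    have hdec : ∀ v, Small Q α v → v = polar Q fr.u' v • fr.u + polar Q fr.v' v • fr.v + fr.pr v ∧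
        Q (fr.pr v) = 0 := fun v hv => by
      obtain ⟨h1, h2⟩ := hperp v hv
      have h := fr.eq_decomp v
      rw [h1, h2] at h
      simp only [zero_smul, add_zero] at h
      refine ⟨h, ?_⟩
      have h3 := hv.1
      obtain ⟨⟨a1, a2⟩, a3, a4⟩ := (Frame.mem_X fr).1 (fr.pr_mem v)
      rw [h, QuadraticMap.map_add (⇑Q), QuadraticMap.map_add (⇑Q) (_ • fr.u), QuadraticMap.map_smul,
        QuadraticMap.map_smul, fr.h1.hu, fr.h2.hu] at h3
      simpa [polar_add_left, polar_smul_left, polar_smul_right, fr.huv, a1, a3] using h3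
    refine Nat.card_le_card_of_injective (fun o => o.elim ((0 : F), (0 : F),
      (⟨0, QuadraticMap.map_zero Q⟩ : {x : fr.X // Q x = 0})) fun v =>
      (polar Q fr.u' v.1, polar Q fr.v' v.1, ⟨⟨fr.pr v.1, fr.pr_mem _⟩, (hdec v.1 v.2).2⟩)) ?_
    intro o o' e
    rcases o with _ | v <;> rcases o' with _ | v' <;>
      simp only [Option.elim, Prod.mk.injEq, Subtype.ext_iff, Submodule.coe_zero] at e
    · rfl
    · exact absurd (by rw [(hdec v'.1 v'.2).1, ← e.1, ← e.2.1, ← e.2.2]; simp) v'.2.2.1
    · exact absurd (by rw [(hdec v.1 v.2).1, e.1, e.2.1, e.2.2]; simp) v.2.2.1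
    · exact congrArg some (Subtype.ext (by
        rw [(hdec v.1 v.2).1, (hdec v'.1 v'.2).1, e.1, e.2.1, e.2.2]))
  obtain ⟨x, hx⟩ := exists_small_vec hQ hn hk1 hP α
  obtain ⟨x', hpx⟩ := exists_hyp hQ hx.1 hx.2.1
  obtain ⟨w, hw, hw0, hd⟩ := exists_direction hpx hx
  obtain ⟨w', hw', hw'0, hQw, hlt⟩ :=
    small_at hQ hn hk1 hP hN (α := α) hpx hw hw0 hx.2.2.1 hd fr.h1
  have hq : 2 ≤ Fintype.card F := Fintype.one_lt_card
  have hX := fr.nondeg hQ
  have hdX := fr.finrank_X hQ
  have hL := q_mul_card_zero_le (Module.finrank F fr.X) (Q.restrict fr.X) hX rfl (by omega)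
  rw [cnt_congr] at hL
  have hXc : Nat.card fr.X = Fintype.card F * Fintype.card F ^ (Module.finrank F fr.X - 1) := by
    rw [card_sub, ← pow_succ', Nat.sub_add_cancel (by omega)]
  generalize Fintype.card F ^ (Module.finrank F fr.X - 1) = P at hL hXc
  by_cases hQw0 : Q w' = 0
  · have hΘ : Nat.card {y : comp Q fr.u fr.u' // Q y = 0} ≤ Nat.card (Theta Q fr.u fr.u' w') + 1 := by
      rw [← Finite.card_option]
      refine Nat.card_le_card_of_injective (fun y => if h : y.1 = 0 then none else
        some ⟨y.1, h, 1, one_ne_zero, by rw [y.2, hQw0, mul_zero]⟩) fun a b e => ?_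
      by_cases ha : a.1 = 0 <;> by_cases hb : b.1 = 0 <;>
        simp only [ha, hb, dif_pos, dif_neg, not_false_iff, reduceCtorEq] at e
      · exact Subtype.ext (ha.trans hb.symm)
      · exact Subtype.ext (congrArg (fun z : Theta Q fr.u fr.u' w' => (z : comp Q fr.u fr.u'))
          (Option.some.inj e))
    rw [card_W_level hQ hn fr 0, hXc] at hΘ
    have h1 := Nat.mul_le_mul_left (Fintype.card F) hΘ
    have hP1 : 1 ≤ P := by
      rcases Nat.eq_zero_or_pos P with h | h
      · have := Nat.card_pos (α := fr.X)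
        rw [hXc, h, mul_zero] at this
        omega
      · exact h
    obtain ⟨r, hr⟩ : ∃ r, Fintype.card F = r + 2 := ⟨Fintype.card F - 2, by omega⟩
    rw [hr, show r + 2 - 1 = r + 1 by omega] at h1
    rw [hr] at hlt hs
    have h7 : 0 < (r + 1) * ((r + 2) * P) := Nat.mul_pos (by omega) (Nat.mul_pos (by omega) hP1)
    have h8 : (r + 2) * 1 ≤ (r + 2) * ((r + 1) * ((r + 2) * P)) := Nat.mul_le_mul_left _ h7
    rw [mul_add, mul_add] at h1
    omega
  · have hΘ : Nat.card {y : comp Q fr.u fr.u' // Q y = Q w'} ≤ Nat.card (Theta Q fr.u fr.u' w') := by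
      refine Nat.card_le_card_of_injective (fun y => ⟨y.1, fun h => hQw0 ?_, 1, one_ne_zero, by
        rw [y.2, one_mul, one_mul]⟩) fun a b e => Subtype.ext
          (congrArg (fun z : Theta Q fr.u fr.u' w' => (z : comp Q fr.u fr.u')) e)
      rw [← y.2, h]
      exact QuadraticMap.map_zero Q
    rw [card_W_level hQ hn fr, hXc] at hΘ
    have h1 := Nat.mul_le_mul_left (Fintype.card F) hΘ
    obtain ⟨r, hr⟩ : ∃ r, Fintype.card F = r + 2 := ⟨Fintype.card F - 2, by omega⟩
    rcases Nat.eq_zero_or_pos r with rfl | hr1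
    · have htwo : ∀ a : F, a = 0 ∨ a = 1 := by
        have hsub : (Finset.univ : Finset F) = {0, 1} := (Finset.eq_univ_of_card _ (by
          rw [Finset.card_pair zero_ne_one, hr])).symm
        intro a
        have := hsub ▸ Finset.mem_univ a
        simpa using this
      have hsum : cnt Q fr.X 0 + cnt Q fr.X (Q w') = Nat.card fr.X := by
        rw [cnt, cnt, ← Nat.card_sum]
        refine Nat.card_congr (Equiv.trans (Equiv.sumCongr (Equiv.refl _)
          (Equiv.subtypeEquivRight fun y => ?_)) (Equiv.sumCompl fun y : fr.X => Q (y : V) = 0))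
        constructor
        · intro h h'
          exact hQw0 (h.symm.trans h')
        · intro h
          rcases htwo (Q w') with h' | h'
          · exact absurd h' hQw0
          · rw [h']; exact (htwo _).resolve_left h
      rw [hr, show 0 + 2 - 1 = 1 from rfl] at h1
      rw [hr] at hlt hs hL hXc
      omega
    · rw [hr, show r + 2 - 1 = r + 1 by omega] at h1
      rw [hr] at hlt hs hL
      rw [show 2 * (r + 2) - 1 = 2 * r + 3 by omega] at hL
      have h2 : (2 * r + 3) * P ≤ (r + 1) * ((r + 2) * P) := by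
        rw [← mul_assoc]
        exact Nat.mul_le_mul_right _ (by nlinarith)
      have h7 := Nat.mul_le_mul_left (r + 2) (hL.trans h2)
      rw [mul_add] at h1
      omega

/-- No vector is full. -/
theorem no_full {α : Ω} {u : V} (hu : Full Q α u) : False := by
  classical
  have := finite_V F V
  have hperp : ∀ v, Small Q α v → polar Q u v = 0 := fun v hv => full_small_perp hQ hn hu hv
  obtain ⟨x, hx⟩ := exists_small_vec hQ hn hk1 hP α
  obtain ⟨x', hpx⟩ := exists_hyp hQ hx.1 hx.2.1
  obtain ⟨w, hw, hw0, hd⟩ := exists_direction hpx hx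
  have hxu : polar Q x u = 0 := by rw [polar_comm]; exact hperp x hx
  have hind : ∀ r : F, x ≠ r • u := fun r e => hx.2.2.1 (by
    by_cases hr : r = 0
    · rw [e, hr, zero_smul]; exact unip_zero _
    · rw [e]; exact unip_smul hu.2.2 hr)
  set p := proj Q x x' u with hp0
  have hpm := proj_mem hpx u (Q := Q)
  rw [← hp0] at hpm
  by_cases hsep : ∃ y ∈ comp Q x x', polar Q w y = 0 ∧ polar Q p y ≠ 0
  · obtain ⟨y, hy, hwy, hpy⟩ := hsep
    refine two_perp_contra hQ hn hk1 hP hN hu.1 hu.2.1 hx.1 (by rw [polar_comm, hxu]) hind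
      fun v hv => ⟨hperp v hv, ?_⟩
    obtain ⟨hy1, hy2, hm⟩ := hd y hy.1 hwy
    have h1 := full_small_perp hQ hn (u := (siegel Q x y hy1 hy2).1 u)
      ⟨by rw [map_orth, hu.1], fun e => hu.2.1 ((siegel Q x y hy1 hy2).1.map_eq_zero_iff.1 e),
        unip_conj hu.2.2 hm⟩ hv
    have hyu : polar Q y u ≠ 0 := by
      rw [show polar Q y u = polar Q p y by
        rw [hp0, polar_comm Q _ y, polar_proj hy]]
      exact hpy
    rw [siegel_apply, hxu, zero_smul, add_zero, mul_zero, add_zero, polar_sub_left,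
      polar_smul_left, hperp v hv, zero_sub, neg_eq_zero, smul_eq_mul] at h1
    exact (mul_eq_zero.1 h1).resolve_left hyu
  · push Not at hsep
    have hW := nondeg_comp hQ hpx
    obtain ⟨r, hr⟩ : ∃ r : F, p = r • w := by
      by_contra hne
      push Not at hne
      obtain ⟨y, h1, h2⟩ := exists_dual hW (x := (⟨w, hw⟩ : comp Q x x')) (y := ⟨p, hpm⟩)
        fun r e => hne r (congrArg Subtype.val e)
      exact h2 (hsep y y.2 h1)
    have hdec : u = polar Q x' u • x + p := by
      conv_lhs => rw [eq_decomp Q x x' u]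
      rw [hxu, zero_smul, add_zero]
    have hQw : Q w = 0 := by
      have h := hu.1
      rw [hdec, hr, QuadraticMap.map_add (⇑Q), QuadraticMap.map_smul, hx.1, QuadraticMap.map_smul,
        polar_smul_left, polar_smul_right, show polar Q x w = 0 from hw.1] at h
      simp only [smul_zero, zero_add, add_zero, smul_eq_mul, mul_zero, mul_eq_zero, or_self] at h
      rcases h with h | h
      · exfalso
        rw [hr, h, zero_smul, add_zero] at hdec
        have hc : polar Q x' u ≠ 0 := fun h0 => hu.2.1 (by rw [hdec, h0, zero_smul])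
        exact hx.2.2.1 ((unip_smul_iff hc).1 (hdec ▸ hu.2.2))
      · exact h
    obtain ⟨u', hpu⟩ := exists_hyp hQ hu.1 hu.2.1
    obtain ⟨w', hw', hw'0, hQw', hlt⟩ :=
      small_at hQ hn hk1 hP hN (α := α) hpx hw hw0 hx.2.2.1 hd hpu
    rw [hQw] at hQw'
    refine absurd hlt (not_lt.2 ?_)
    rw [← Nat.card_eq_fintype_card, ← Nat.card_prod]
    have hmem : ∀ v : {v // Small Q α v},
        (⟨_, proj_mem hpu v.1⟩ : comp Q u u') ∈ Theta Q u u' w' := fun v => by
      have h0 := hperp v.1 v.2
      have hdecv : v.1 = polar Q u' v.1 • u + proj Q u u' v.1 := by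
        conv_lhs => rw [eq_decomp Q u u' v.1]
        rw [h0, zero_smul, add_zero]
      refine ⟨fun e => v.2.2.2.1 ?_, 1, one_ne_zero, ?_⟩
      · have e' : proj Q u u' v.1 = 0 := congrArg Subtype.val e
        rw [e', add_zero] at hdecv
        have hc : polar Q u' v.1 ≠ 0 := fun h => v.2.2.1 (by rw [hdecv, h, zero_smul])
        rw [hdecv, unip_smul_iff hc]
        exact hu.2.2
      · have h := v.2.1
        rw [hdecv, QuadraticMap.map_add (⇑Q), QuadraticMap.map_smul, hu.1, polar_smul_left,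
          show polar Q u (proj Q u u' v.1) = 0 from (proj_mem hpu v.1).1] at h
        rw [hQw', mul_zero]
        simpa using h
    refine Nat.card_le_card_of_injective
      (fun v => (polar Q u' v.1, (⟨_, hmem v⟩ : Theta Q u u' w'))) fun a b e => ?_
    simp only [Prod.mk.injEq, Subtype.mk.injEq] at e
    refine Subtype.ext ?_
    rw [eq_decomp Q u u' a.1, eq_decomp Q u u' b.1, hperp a.1 a.2, hperp b.1 b.2, e.1, e.2]

variable (hlev : ∀ a : F, a ≠ 0 →
  Nat.card {c : F // c * c = 1} * Nat.card Ω < Nat.card {v : V // Q v = a})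

include hlev

/-- The element stabilising a point and moving the line of a non-singular vector. -/
theorem exists_moving (α : Ω) {x : V} (hx : Q x ≠ 0) :
    ∃ g : sGroup Q, g • α = α ∧ ∀ c : F, g.1.1 x ≠ c • x := by
  by_contra hall
  push Not at hall
  have := finite_V F V
  choose G hG using fun β : Ω => MulAction.exists_smul_eq (sGroup Q) α β
  choose M hM hMx using fun v : {v : V // Q v = Q x} =>
    exists_move_norm hQ (by omega) hx v.2.symm
  have key : ∀ v : {v : V // Q v = Q x}, ∃ c : {c : F // c * c = 1},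
      (v : V) = (c : F) • (G ((⟨M v, hM v⟩ : sGroup Q) • α)).1.1 x := by
    intro v
    set g : sGroup Q := ⟨M v, hM v⟩
    obtain ⟨c, hc⟩ := hall ((G (g • α))⁻¹ * g) (by rw [mul_smul, inv_smul_eq_iff, hG])
    have h1 : g.1.1 x = c • (G (g • α)).1.1 x := by
      rw [← map_smul, ← hc]
      exact (act_apply_inv (G (g • α)).1 _).symm
    have hc2 : c * c = 1 := by
      have h2 := map_orth g.1 x
      rw [h1, QuadraticMap.map_smul, map_orth, smul_eq_mul] at h2
      exact mul_right_cancel₀ hx (h2.trans (one_mul _).symm)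
    exact ⟨⟨c, hc2⟩, (hMx v).symm.trans h1⟩
  choose c hc using key
  refine absurd (hlev _ hx) (not_lt.2 ?_)
  rw [← Nat.card_prod]
  refine Nat.card_le_card_of_injective (fun v => (c v, (⟨M v, hM v⟩ : sGroup Q) • α)) fun v v' e => ?_
  simp only [Prod.mk.injEq] at e
  exact Subtype.ext (by rw [hc v, hc v', e.1, e.2])

/-- Small vectors of a point are pairwise orthogonal. -/
theorem small_perp {α : Ω} {v v' : V} (hv : Small Q α v) (hv' : Small Q α v') :
    polar Q v v' = 0 := by
  by_contra hne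
  set x' := (polar Q v v')⁻¹ • v' with hx'0
  have hx' : Small Q α x' := small_smul (inv_ne_zero hne) hv'
  have hp : Hyp Q v x' := ⟨hv.1, hx'.1, by
    rw [hx'0, polar_smul_right, smul_eq_mul, inv_mul_cancel₀ hne]⟩
  obtain ⟨w, hw, hw0, hd, hd'⟩ := common_dir hQ hn hp hv hx'
  have hW := nondeg_comp hQ hp
  have hdW := finrank_comp hp
  by_cases hQw : Q w = 0
  · refine no_full hQ hn hk1 hP hN (α := α) (u := w) ⟨hQw, hw0, fun y hy => ?_⟩
    have hwv : polar Q w v = 0 := (mem_comp'.1 hw).1
    have hwx : polar Q w x' = 0 := (mem_comp'.1 hw).2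
    have hww : polar Q w w = 0 := by rw [polar_self_mul, hQw, mul_zero]
    have side : ∀ (x : V) (c : F), Q x = 0 → polar Q x w = 0 → Dir Q α x w →
        Rt (fixG Q α) w (c • x) := by
      intro x c hx hxw hdx
      by_cases hc : c = 0
      · rw [hc, zero_smul]; exact rt_zero hQw
      have h := hdx (c • w) (by rw [polar_smul_right, hxw, smul_zero])
        (by rw [polar_smul_right, hww, smul_zero])
      exact rt_swap (h.unscale hc) hQw
    set y₀ := proj Q v x' y with hy₀0
    have hy₀ := proj_mem hp y (Q := Q)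
    rw [← hy₀0] at hy₀
    have hwy₀ : polar Q w y₀ = 0 := by rw [hy₀0, polar_proj hw, hy]
    have h1 := (side x' 1 hx'.1 (by rw [polar_comm, hwx]) hd').comm' (hd y₀ hy₀.1 hwy₀)
      (by rw [polar_comm, hwv]) (by rw [polar_comm, hwy₀])
      (by rw [one_smul, polar_comm]; exact hy₀.2)
    rw [one_smul, hp.huu', one_smul, mul_one] at h1
    have h2 := h1.add (side v (Q y₀) hv.1 (by rw [polar_comm, hwv]) hd)
    rw [sub_add_cancel] at h2
    have h3 := ((side v (polar Q x' y) hv.1 (by rw [polar_comm, hwv]) hd).add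
      (side x' (polar Q v y) hx'.1 (by rw [polar_comm, hwx]) hd')).add h2
    rwa [hy₀0, ← eq_decomp] at h3
  -- the direction is non-singular
  have hall : ∀ u, Q u = 0 → u ≠ 0 → polar Q w u = 0 → Dir Q α u w := by
    intro u hu hu0 hwu
    by_cases h1 : polar Q x' u ≠ 0
    · exact dir_image hp hw hd hd' hu hwu h1
    by_cases h2 : polar Q v u ≠ 0
    · exact dir_image hp.symm (by rwa [comp_comm]) hd' hd hu hwu h2
    push Not at h1 h2
    have huW : u ∈ comp Q v x' := ⟨h2, h1⟩
    obtain ⟨y, hy1, hy2⟩ := exists_dual hW (x := (⟨w, hw⟩ : comp Q v x')) (y := ⟨u, huW⟩)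
      fun r e => by
        have e' : u = r • w := congrArg Subtype.val e
        have : r * r * Q w = 0 := by rw [← hu, e', QuadraticMap.map_smul, smul_eq_mul]
        exact hu0 (by rw [e', show r = 0 by simpa [hQw] using this, zero_smul])
    obtain ⟨hy1', hy2', hm⟩ := hd (-(y : V))
      (by rw [polar_neg_right, show polar Q v (y : V) = 0 from y.2.1, neg_zero])
      (by rw [polar_neg_right, show polar Q w (y : V) = 0 from hy1, neg_zero])
    obtain ⟨hs, hfix⟩ := mem_fixG.1 hm
    set g : sGroup Q := ⟨_, hs⟩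
    set u₁ := u - polar Q (y : V) u • v with hu₁
    have hvu₁ : polar Q v u₁ = 0 := by
      rw [hu₁, polar_sub_right, polar_smul_right, h2, hp.uu, smul_zero, sub_zero]
    have hgu : g.1.1 u₁ = u := by
      show (siegel Q v _ hy1' hy2').1 u₁ = u
      rw [siegel_apply, hvu₁, zero_smul, add_zero, mul_zero, add_zero, hu₁, polar_neg_left,
        polar_sub_right, polar_smul_right, show polar Q (y : V) v = 0 by
          rw [polar_comm]; exact y.2.1, smul_zero, sub_zero, neg_smul, sub_neg_eq_add, sub_add_cancel]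
    have hgw : g.1.1 w = w := by
      show (siegel Q v _ hy1' hy2').1 w = w
      rw [siegel_apply, show polar Q v w = 0 from hw.1, polar_neg_left, polar_comm Q (y : V) w,
        show polar Q w (y : V) = 0 from hy1]
      simp
    have h3 : Dir Q α u₁ w := dir_image hp hw hd hd'
      (by rw [← map_orth g.1 u₁, hgu, hu])
      (by rw [← polar_orth g.1, hgw, hgu, hwu]) (by
        rw [hu₁, polar_sub_right, h1, polar_smul_right, hp.u'u, zero_sub, smul_eq_mul, mul_one,
          neg_ne_zero, polar_comm]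
        exact hy2)
    have h4 := dir_map g h3
    rwa [hgu, hgw, show g • α = α from hfix] at h4
  obtain ⟨g, hgα, hgw⟩ := exists_moving hQ hn hk1 hP hN hlev α hQw
  set w₁ := g.1.1 w
  have hall₁ : ∀ u, Q u = 0 → u ≠ 0 → polar Q w₁ u = 0 → Dir Q α u w₁ := by
    intro u hu hu0 hu1
    obtain ⟨u₀, rfl⟩ := g.1.1.surjective u
    rw [map_orth g.1] at hu
    rw [polar_orth g.1] at hu1
    have h := dir_map g (hall u₀ hu (fun e => hu0 (by rw [e, map_zero])) hu1)
    rwa [hgα] at h
  obtain ⟨u, huS, huT, hQu⟩ := exists_singular_avoid (Q := Q)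
    (S := LinearMap.ker (polarBilin Q w) ⊓ LinearMap.ker (polarBilin Q w₁))
    (T := Submodule.span F ({w, w₁} : Set V)) (by
      have h1 := finrank_ker2 (Q := Q) w w₁
      have h2 : Module.finrank F (Submodule.span F ({w, w₁} : Set V)) ≤ 2 := by
        classical
        have h := finrank_span_finset_le_card (R := F) ({w, w₁} : Finset V)
        rw [show (({w, w₁} : Finset V) : Set V) = {w, w₁} by simp] at h
        exact le_trans h Finset.card_le_two
      omega)
  have hu0 : u ≠ 0 := fun e => huT (e ▸ zero_mem _)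
  have hwu : polar Q w u = 0 := huS.1
  have hw₁u : polar Q w₁ u = 0 := huS.2
  obtain ⟨u', hpu⟩ := exists_hyp hQ hQu hu0
  obtain ⟨z, hz1, hz2⟩ := exists_dual (nondeg_comp hQ hpu)
    (x := (⟨_, proj_mem hpu w⟩ : comp Q u u')) (y := ⟨_, proj_mem hpu w₁⟩) fun r e => by
      have e' : proj Q u u' w₁ = r • proj Q u u' w := congrArg Subtype.val e
      have e1 : w₁ - r • w = (polar Q u' w₁ - r * polar Q u' w) • u := by
        conv_lhs => rw [eq_decomp Q u u' w₁, eq_decomp Q u u' w, e',
          show polar Q u w = 0 by rw [polar_comm, hwu],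
          show polar Q u w₁ = 0 by rw [polar_comm, hw₁u]]
        module
      by_cases hs : polar Q u' w₁ - r * polar Q u' w = 0
      · rw [hs, zero_smul, sub_eq_zero] at e1
        exact hgw r e1
      · refine huT (Submodule.mem_span_pair.2 ⟨-((polar Q u' w₁ - r * polar Q u' w)⁻¹ * r),
          (polar Q u' w₁ - r * polar Q u' w)⁻¹, ?_⟩)
        conv_rhs => rw [← inv_smul_smul₀ hs u, ← e1]
        module
  have hz1' : polar Q w (z : V) = 0 := by
    rw [polar_comm, ← polar_proj z.2, polar_comm]; exact hz1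
  have hz2' : polar Q w₁ (z : V) ≠ 0 := by
    rw [polar_comm, ← polar_proj z.2, polar_comm]; exact hz2
  refine no_full hQ hn hk1 hP hN (α := α) (u := u) ⟨hQu, hu0, fun y hy => ?_⟩
  set t := polar Q w₁ y / polar Q w₁ (z : V)
  have huz : polar Q u (t • (z : V)) = 0 := by
    rw [polar_smul_right, show polar Q u (z : V) = 0 from z.2.1, smul_zero]
  have h1 := hall₁ u hQu hu0 hw₁u (y - t • (z : V))
    (by rw [polar_sub_right, hy, huz, sub_zero])
    (by rw [polar_sub_right, polar_smul_right, smul_eq_mul, div_mul_cancel₀ _ hz2', sub_self])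
  have h2 := hall u hQu hu0 hwu (t • (z : V)) huz (by rw [polar_smul_right, hz1', smul_zero])
  have h3 := h1.add h2
  rwa [sub_add_cancel] at h3

/-- A transitive action of small degree with point structures only does not exist. -/
theorem false_of_pstruct : False := by
  have := finite_V F V
  obtain ⟨α⟩ : Nonempty Ω := (Nat.card_pos_iff.1 (by omega : 0 < Nat.card Ω)).1
  obtain ⟨x, hx⟩ := exists_small_vec hQ hn hk1 hP α
  obtain ⟨x', hpx⟩ := exists_hyp hQ hx.1 hx.2.1
  obtain ⟨w, hw, hw0, hd⟩ := exists_direction hpx hx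
  obtain ⟨w', -, -, -, hlt⟩ := small_at hQ hn hk1 hP hN (α := α) hpx hw hw0 hx.2.2.1 hd hpx
  obtain ⟨v, hv, hind⟩ : ∃ v, Small Q α v ∧ ∀ r : F, v ≠ r • x := by
    by_contra hall
    push Not at hall
    choose r hr using hall
    have h1 : Nat.card {v // Small Q α v} ≤ Fintype.card F := by
      rw [← Nat.card_eq_fintype_card]
      exact Nat.card_le_card_of_injective (fun v => r v.1 v.2) fun a b e =>
        Subtype.ext (by rw [hr a.1 a.2, hr b.1 b.2]; exact congrArg (· • x) e)
    have h2 := card_Theta_ge (w := w') hQ hpx (by omega)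
    have h4 : 2 ^ 3 ≤ Fintype.card F ^ (Module.finrank F V - 4) :=
      (Nat.pow_le_pow_left (Fintype.one_lt_card (α := F)) 3).trans
        (Nat.pow_le_pow_right Fintype.card_pos (by omega))
    have hq : 1 ≤ Fintype.card F - 1 := by have := Fintype.one_lt_card (α := F); omega
    have h5 := Nat.mul_le_mul hq h4
    have h6 : 7 ≤ Nat.card (Theta Q x x' w') := by omega
    have h7 := Nat.mul_le_mul_left (Fintype.card F) h6
    omega
  exact two_perp_contra hQ hn hk1 hP hN (α := α) hx.1 hx.2.1 hv.1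
    (small_perp hQ hn hk1 hP hN hlev hx hv) hind
    fun u hu => ⟨small_perp hQ hn hk1 hP hN hlev hx hu, small_perp hQ hn hk1 hP hN hlev hv hu⟩

end Cfsg.Agent.MinIndexOrthMain
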