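import Mathlib
import Cfsg.Agent.Lib.MinIndexOrthLocal

/-!
Points for which the root elements at a singular vector fixing them form a maximal totally singular
subspace of an eight-dimensional space, and the number of such subspaces.
-/

set_option autoImplicit false

namespace Cfsg.Agent.MinIndexOrthGood

open QuadraticMap hiding proj
open Cfsg.Agent.OrthUnitaryQuad Cfsg.Agent.OrthUnitaryRefl Cfsg.Agent.OrthUnitaryOmega
open Cfsg.Agent.OrthUnitarySimple Cfsg.Agent.TwoGenSiegel
open Cfsg.Agent.MinIndexOrthTools Cfsg.Agent.MinIndexOrthCount Cfsg.Agent.MinIndexOrthLine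
open Cfsg.Agent.MinIndexOrthOrbit Cfsg.Agent.MinIndexOrthLevi Cfsg.Agent.MinIndexOrthClass
open Cfsg.Agent.MinIndexOrthVectors Cfsg.Agent.MinIndexOrthPoint Cfsg.Agent.MinIndexOrthLocal

variable {F V : Type*} [Field F] [AddCommGroup V] [Module F V] {Q : QuadraticForm F V}
  {Ω : Type*} [MulAction (sGroup Q) Ω]

/-- The root elements at `u` fixing `α` are given by the totally singular subspace `M`. -/
def GoodM (Q : QuadraticForm F V) [MulAction (sGroup Q) Ω] (α : Ω) (u : V) (M : Submodule F V) :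
    Prop :=
  Module.finrank F M = 4 ∧ u ∈ M ∧ (∀ x ∈ M, Q x = 0) ∧
    ∀ y, polar Q u y = 0 → (Rt (fixG Q α) u y ↔ y ∈ M)

theorem ts_polar {M : Submodule F V} (h : ∀ x ∈ M, Q x = 0) {x y : V} (hx : x ∈ M) (hy : y ∈ M) :
    polar Q x y = 0 := by
  have h1 := h _ (add_mem hx hy)
  rwa [QuadraticMap.map_add (⇑Q), h x hx, h y hy, zero_add, zero_add] at h1

theorem GoodM.unique {α : Ω} {u : V} {M M' : Submodule F V} (h : GoodM Q α u M)
    (h' : GoodM Q α u M') : M = M' := by
  refine le_antisymm (fun x hx => ?_) (fun x hx => ?_)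
  · have hp := ts_polar h.2.2.1 h.2.1 hx
    exact (h'.2.2.2 x hp).1 ((h.2.2.2 x hp).2 hx)
  · have hp := ts_polar h'.2.2.1 h'.2.1 hx
    exact (h.2.2.2 x hp).1 ((h'.2.2.2 x hp).2 hx)

theorem mem_map_iff' (g : sGroup Q) {M : Submodule F V} {x : V} :
    g.1.1 x ∈ M.map g.1.1.toLinearMap ↔ x ∈ M :=
  ⟨fun ⟨y, hy, e⟩ => g.1.1.injective e ▸ hy, fun h => ⟨x, h, rfl⟩⟩

theorem GoodM.map {α : Ω} {u : V} {M : Submodule F V} (h : GoodM Q α u M) (g : sGroup Q) :
    GoodM Q (g • α) (g.1.1 u) (M.map g.1.1.toLinearMap) := by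
  obtain ⟨h1, h2, h3, h4⟩ := h
  refine ⟨by rw [LinearEquiv.finrank_map_eq, h1], (mem_map_iff' g).2 h2, ?_, fun y hy => ?_⟩
  · rintro _ ⟨x, hx, rfl⟩
    show Q (g.1.1 x) = 0
    rw [map_orth g.1, h3 x hx]
  · obtain ⟨y, rfl⟩ := g.1.1.surjective y
    rw [polar_orth g.1] at hy
    rw [rt_map_iff, mem_map_iff', h4 y hy]

theorem GoodM.of_smul {α : Ω} {u : V} {M : Submodule F V} {c : F} (hc : c ≠ 0)
    (h : GoodM Q α (c • u) M) : GoodM Q α u M := by
  obtain ⟨h1, h2, h3, h4⟩ := h
  refine ⟨h1, (M.smul_mem_iff hc).1 h2, h3, fun y hy => ?_⟩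
  have h5 := h4 (c⁻¹ • y) (by rw [polar_smul_left, polar_smul_right, hy]; simp)
  rw [M.smul_mem_iff (inv_ne_zero hc)] at h5
  rw [← h5]
  refine ⟨fun h => Rt.unscale ?_ hc, fun h => ?_⟩
  · rwa [smul_smul, mul_inv_cancel₀ hc, one_smul]
  · have h6 := Rt.scale hc h
    rwa [smul_smul, mul_inv_cancel₀ hc, one_smul] at h6

/-- The root elements at `u` fixing `α`, inside the complement of a hyperbolic pair. -/
def rootSub {u u' : V} (hp : Hyp Q u u') (α : Ω) : AddSubgroup (comp Q u u') where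
  carrier := {y | Rt (fixG Q α) u (y : V)}
  zero_mem' := rt_zero hp.hu
  add_mem' {_ _} ha hb := Rt.add ha hb
  neg_mem' {_} ha := Rt.neg ha

theorem mem_rootSub {u u' : V} {hp : Hyp Q u u'} {α : Ω} {y : comp Q u u'} :
    y ∈ rootSub hp α ↔ Rt (fixG Q α) u (y : V) := Iff.rfl

/-- A frame through a hyperbolic pair. -/
@[reducible]
def mkFrame {u u' v v' : V} (hp : Hyp Q u u') (hv : v ∈ comp Q u u') (hv' : v' ∈ comp Q u u')
    (h : Hyp Q v v') : Frame Q :=
  ⟨u, v, u', v', hp, h, hv.1, hv'.1, hv.2, hv'.2⟩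

theorem finrank_span_sup {u u' : V} (hp : Hyp Q u u') (E : Submodule F (comp Q u u'))
    [FiniteDimensional F V] :
    Module.finrank F (Submodule.span F ({u} : Set V) ⊔ E.map (comp Q u u').subtype : Submodule F V) =
      Module.finrank F E + 1 := by
  have h := Submodule.finrank_sup_add_finrank_inf_eq (Submodule.span F ({u} : Set V))
    (E.map (comp Q u u').subtype)
  rw [show Submodule.span F ({u} : Set V) ⊓ E.map (comp Q u u').subtype = ⊥ from ?_, finrank_bot,
    add_zero, finrank_span_singleton hp.ne_zero, Submodule.finrank_map_subtype_eq] at h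
  · omega
  · rw [Submodule.eq_bot_iff]
    rintro x ⟨hx1, ⟨y, -, hy⟩⟩
    obtain ⟨c, rfl⟩ := Submodule.mem_span_singleton.1 hx1
    have h1 : polar Q u' (c • u) = 0 := by rw [← hy]; exact y.2.2
    rw [polar_smul_right, hp.u'u, smul_eq_mul, mul_one] at h1
    rw [h1, zero_smul]

theorem finrank_inW [FiniteDimensional F V] {u u' : V} (hp : Hyp Q u u') {M : Submodule F V}
    (hM : Module.finrank F M = 4) (huM : u ∈ M) (hts : ∀ x ∈ M, Q x = 0) :
    Module.finrank F (M.comap (comp Q u u').subtype) = 3 := by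
  have e : Submodule.span F ({u} : Set V) ⊔ (M.comap (comp Q u u').subtype).map (comp Q u u').subtype
      = M := by
    refine le_antisymm (sup_le ?_ (Submodule.map_comap_le _ _)) fun x hx => ?_
    · rwa [Submodule.span_le, Set.singleton_subset_iff]
    · have hux : polar Q u x = 0 := ts_polar hts huM hx
      have hdec : x = polar Q u' x • u + proj Q u u' x := by
        conv_lhs => rw [eq_decomp Q u u' x]
        rw [hux, zero_smul, add_zero]
      refine Submodule.mem_sup.2 ⟨_, Submodule.smul_mem _ _ (Submodule.mem_span_singleton_self u),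
        proj Q u u' x, ⟨⟨_, proj_mem hp x⟩, ?_, rfl⟩, hdec.symm⟩
      show proj Q u u' x ∈ M
      rw [show proj Q u u' x = x - polar Q u' x • u from eq_sub_of_add_eq' hdec.symm]
      exact sub_mem hx (M.smul_mem _ huM)
  have h := finrank_span_sup hp (M.comap (comp Q u u').subtype)
  rw [e, hM] at h
  omega

variable [Fintype F] [FiniteDimensional F V]

/-- An additive subgroup is at most `q` times as large as its intersection with a hyperplane. -/
theorem card_le_ker {W : Type*} [AddCommGroup W] [Module F W] [Finite W] (R : AddSubgroup W)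
    (φ : W →ₗ[F] F) : Nat.card R ≤ Fintype.card F * Nat.card {y : R // φ y = 0} := by
  classical
  rw [← Nat.card_eq_fintype_card, ← Nat.card_prod]
  let rep : F → R := fun t => if h : ∃ y : R, φ y = t then h.choose else 0
  have hrep : ∀ y : R, φ (rep (φ y) : W) = φ y := fun y => by
    have h : ∃ z : R, φ z = φ y := ⟨y, rfl⟩
    simp only [rep, dif_pos h]
    exact h.choose_spec
  refine Nat.card_le_card_of_injective (fun y : R => (φ y,
    (⟨y - rep (φ y), by rw [AddSubgroup.coe_sub, map_sub, hrep, sub_self]⟩ : {y : R // φ y = 0})))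
    fun y z e => ?_
  simp only [Prod.mk.injEq, Subtype.mk.injEq] at e
  rw [e.1] at e
  exact sub_left_inj.1 e.2

/-- The number of singular vectors of a space of Witt index half the dimension. -/
theorem cnt0_ts : ∀ (m : ℕ) {V : Type*} [AddCommGroup V] [Module F V] [FiniteDimensional F V]
    (Q : QuadraticForm F V), (polarBilin Q).Nondegenerate → Module.finrank F V = 2 * m →
    ∀ E : Submodule F V, (∀ x ∈ E, Q x = 0) → Module.finrank F E = m →
    Fintype.card F * Nat.card {x : V // Q x = 0} + Fintype.card F ^ m =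
      Fintype.card F ^ (2 * m) + Fintype.card F ^ (m + 1) := by
  intro m
  induction m with
  | zero =>
    intro V _ _ _ Q _ hd E _ _
    have := finite_V F V
    have : Subsingleton V := Module.finrank_zero_iff.1 hd
    rw [show Nat.card {x : V // Q x = 0} = 1 from Nat.card_eq_one_iff_unique.2
      ⟨⟨fun a b => Subtype.ext (Subsingleton.elim _ _)⟩, ⟨⟨0, QuadraticMap.map_zero Q⟩⟩⟩]
    ring
  | succ m ih =>
    intro V _ _ _ Q hQ hd E hE hdE
    obtain ⟨e, he, he0⟩ : ∃ e ∈ E, e ≠ 0 := by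
      by_contra hall
      push Not at hall
      rw [(Submodule.eq_bot_iff E).2 hall, finrank_bot] at hdE
      omega
    obtain ⟨e', hp⟩ := exists_hyp hQ (hE e he) he0
    have hd' := finrank_comp hp
    have hW := nondeg_comp hQ hp
    let E' : Submodule F (comp Q e e') := E.comap (comp Q e e').subtype
    have hE' : ∀ x ∈ E', Q.restrict (comp Q e e') x = 0 := fun x hx => hE _ hx
    have h1 : m ≤ Module.finrank F E' := by
      have hspan : E ≤ Submodule.span F ({e} : Set V) ⊔ E'.map (comp Q e e').subtype := by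
        intro x hx
        have hdec : x = polar Q e' x • e + proj Q e e' x := by
          conv_lhs => rw [eq_decomp Q e e' x]
          rw [ts_polar hE he hx, zero_smul, add_zero]
        refine Submodule.mem_sup.2 ⟨_, Submodule.smul_mem _ _ (Submodule.mem_span_singleton_self e),
          proj Q e e' x, ⟨⟨_, proj_mem hp x⟩, ?_, rfl⟩, hdec.symm⟩
        show proj Q e e' x ∈ E
        rw [show proj Q e e' x = x - polar Q e' x • e from eq_sub_of_add_eq' hdec.symm]
        exact sub_mem hx (E.smul_mem _ he)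
      have h := Submodule.finrank_mono hspan
      rw [finrank_span_sup hp, hdE] at h
      omega
    have h2 := ts_bound hW hE'
    have hL := ih (Q.restrict (comp Q e e')) hW (by omega) E' hE' (by omega)
    rw [cnt_congr] at hL
    rw [card_level hp, card_sub, show Module.finrank F (comp Q e e') = 2 * m by omega]
    have hq : 1 ≤ Fintype.card F := Fintype.card_pos
    generalize cnt Q (comp Q e e') 0 = L at hL
    generalize Fintype.card F = q at *
    obtain ⟨r, rfl⟩ : ∃ r, q = r + 1 := ⟨q - 1, by omega⟩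
    rw [Nat.add_sub_cancel]
    have h3 : (r + 1) * ((r + 1) * L + (r + 1) ^ m) =
        (r + 1) * ((r + 1) ^ (2 * m) + (r + 1) ^ (m + 1)) := by rw [hL]
    ring_nf at h3 ⊢
    omega

variable (hQ : (polarBilin Q).Nondegenerate) (hn : 7 ≤ Module.finrank F V)

include hQ hn

theorem GoodM.not_unip {α : Ω} {u : V} {M : Submodule F V} (h : GoodM Q α u M) :
    ¬ Unip (fixG Q α) u := by
  intro hU
  have hle : LinearMap.ker (polarBilin Q u) ≤ M := fun y hy => (h.2.2.2 y hy).1 (hU y hy)
  have h1 := Submodule.finrank_mono hle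
  have h2 := (polarBilin Q u).finrank_range_add_finrank_ker
  have h3 := Submodule.finrank_le (LinearMap.range (polarBilin Q u))
  rw [Module.finrank_self] at h3
  rw [h.1] at h1
  omega

variable [Finite Ω]

omit hQ hn in
theorem card_R0_two {fr : Frame Q} {α : Ω} (hR : R0 fr α ≠ ⊤) :
    2 * Nat.card (R0 fr α) ≤ Fintype.card F := by
  rw [← Nat.card_eq_fintype_card, ← AddSubgroup.index_mul_card (R0 fr α)]
  refine Nat.mul_le_mul_right _ ?_
  have h1 : (R0 fr α).index ≠ 0 := AddSubgroup.index_ne_zero_of_finite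
  have h2 : (R0 fr α).index ≠ 1 := fun h => hR (AddSubgroup.index_eq_one.1 h)
  omega

/-- The part of the root subgroup orthogonal to the line contains a copy of an end. -/
theorem card_perp_ge {fr : Frame Q} {α : Ω} {A : Submodule F V} (hA : A ≤ fr.X)
    (h : ∀ a ∈ A, (a, (0 : V)) ∈ Mset fr α) :
    Nat.card A ≤ Nat.card {y : rootSub fr.h1 α // polar Q fr.v ((y : comp Q fr.u fr.u') : V) = 0} := by
  have := finite_V F V
  choose c hc using fun a : A => (inl_mem_iff hQ hn (hA a.2)).1 (h a a.2)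
  refine Nat.card_le_card_of_injective (fun a : A =>
    ⟨⟨⟨(a : V) + c a • fr.v, add_mem (hA a.2).1 (Submodule.smul_mem _ _ fr.v_mem)⟩, hc a⟩, ?_⟩)
    fun a b e => ?_
  · show polar Q fr.v ((a : V) + c a • fr.v) = 0
    rw [polar_add_right, polar_smul_right, fr.h2.uu, show polar Q fr.v (a : V) = 0 from (hA a.2).2.1]
    simp
  · have e' := congrArg (fun z : {y : rootSub fr.h1 α //
      polar Q fr.v ((y : comp Q fr.u fr.u') : V) = 0} => fr.pr (((z : rootSub fr.h1 α) :
        comp Q fr.u fr.u') : V)) e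
    simp only [fr.pr_add, fr.pr_smul, fr.pr_v, fr.pr_of_mem (hA a.2), fr.pr_of_mem (hA b.2),
      smul_zero, add_zero] at e'
    exact Subtype.ext e'

/-- The part of the root subgroup orthogonal to the line, projected to the complement of the frame. -/
theorem perp_decomp {fr : Frame Q} {α : Ω} {y : comp Q fr.u fr.u'}
    (hy : Rt (fixG Q α) fr.u (y : V)) (hvy : polar Q fr.v (y : V) = 0) :
    (y : V) = fr.pr y + polar Q fr.v' (y : V) • fr.v ∧ (fr.pr (y : V), (0 : V)) ∈ Mset fr α := by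
  have hdec := fr.eq_decomp (y : V)
  rw [show polar Q fr.u (y : V) = 0 from y.2.1, show polar Q fr.u' (y : V) = 0 from y.2.2, hvy] at hdec
  simp only [zero_smul, zero_add, add_zero] at hdec
  rw [add_comm] at hdec
  exact ⟨hdec, (inl_mem_iff hQ hn (fr.pr_mem _)).2 ⟨_, hdec ▸ hy⟩⟩

theorem card_perp_le {fr : Frame Q} {α : Ω} {A : Submodule F V} (hA : A ≤ fr.X)
    (h : ∀ a ∈ fr.X, (a, (0 : V)) ∈ Mset fr α → a ∈ A) :
    Nat.card {y : rootSub fr.h1 α // polar Q fr.v ((y : comp Q fr.u fr.u') : V) = 0} ≤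
      Nat.card A * Nat.card (R0 fr α) := by
  classical
  have := finite_V F V
  rw [← Nat.card_prod]
  let P : A → F → Prop := fun a c => Rt (fixG Q α) fr.u ((a : V) + c • fr.v)
  let ref : A → F := fun a => if h : ∃ c, P a c then h.choose else 0
  have hmem : ∀ y : {y : rootSub fr.h1 α // polar Q fr.v ((y : comp Q fr.u fr.u') : V) = 0},
      ∃ (a : A) (r : R0 fr α),
        ((y.1 : comp Q fr.u fr.u') : V) = (a : V) + (ref a + (r : F)) • fr.v := by
    intro y
    obtain ⟨h1, h2⟩ := perp_decomp hQ hn y.1.2 y.2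
    set z := fr.pr ((y.1 : comp Q fr.u fr.u') : V)
    set c := polar Q fr.v' ((y.1 : comp Q fr.u fr.u') : V)
    let a : A := ⟨z, h _ (fr.pr_mem _) h2⟩
    have hc : P a c := by
      show Rt _ _ (z + c • fr.v)
      rw [← h1]; exact y.1.2
    have href : P a (ref a) := by
      simp only [ref, dif_pos (show ∃ c, P a c from ⟨c, hc⟩)]
      exact (show ∃ c, P a c from ⟨c, hc⟩).choose_spec
    refine ⟨a, ⟨c - ref a, ?_⟩, ?_⟩
    · show Rt (fixG Q α) fr.u ((c - ref a) • fr.v)
      have h3 := hc.sub href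
      rwa [add_sub_add_left_eq_sub, ← sub_smul] at h3
    · rw [h1]
      show z + c • fr.v = z + (ref a + (c - ref a)) • fr.v
      rw [add_sub_cancel]
  choose a r har using hmem
  refine Nat.card_le_card_of_injective (fun y => (a y, r y)) fun y z e => ?_
  simp only [Prod.mk.injEq] at e
  exact Subtype.ext (Subtype.ext (Subtype.ext (by rw [har y, har z, e.1, e.2])))

theorem card_root_empty {fr : Frame Q} {α : Ω} (hR : R0 fr α ≠ ⊤)
    (h : ∀ a, (a, (0 : V)) ∈ Mset fr α → a = 0) :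
    2 * Nat.card (rootSub fr.h1 α) ≤ Fintype.card F ^ 2 := by
  have := finite_V F V
  have h1 := card_le_ker (rootSub fr.h1 α) ((polarBilin Q fr.v).comp (comp Q fr.u fr.u').subtype)
  have h2 := card_perp_le hQ hn (fr := fr) (α := α) (A := ⊥) bot_le
    fun a _ ha => by rw [h a ha]; exact zero_mem _
  rw [card_sub, finrank_bot, pow_zero, one_mul] at h2
  have h3 := card_R0_two (fr := fr) hR
  have h4 := h1.trans (Nat.mul_le_mul_left _ h2)
  rw [pow_two]
  calc 2 * Nat.card (rootSub fr.h1 α) ≤ 2 * (Fintype.card F * Nat.card (R0 fr α)) :=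
        Nat.mul_le_mul_left _ h4
    _ = Fintype.card F * (2 * Nat.card (R0 fr α)) := by ring
    _ ≤ Fintype.card F * Fintype.card F := Nat.mul_le_mul_left _ h3

/-- All moved lines through `u` have the second shape once one of them has it. -/
theorem all_AStruct (hPA : ∀ (fr : Frame Q) (α : Ω), R0 fr α ≠ ⊤ → PStruct fr α ∨ AStruct fr α)
    {u u' v v' v₂ v₂' : V} (hp : Hyp Q u u') (hv : v ∈ comp Q u u') (hv' : v' ∈ comp Q u u')
    (hvv : Hyp Q v v') (hv₂ : v₂ ∈ comp Q u u') (hv₂' : v₂' ∈ comp Q u u') (hvv₂ : Hyp Q v₂ v₂')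
    {α : Ω} (hR : R0 (mkFrame hp hv hv' hvv) α ≠ ⊤) (hA : AStruct (mkFrame hp hv hv' hvv) α)
    (hR₂ : R0 (mkFrame hp hv₂ hv₂' hvv₂) α ≠ ⊤) : AStruct (mkFrame hp hv₂ hv₂' hvv₂) α := by
  refine (hPA _ _ hR₂).resolve_left fun hP => ?_
  have := finite_V F V
  set fr := mkFrame hp hv hv' hvv with hfr
  set fr₂ := mkFrame hp hv₂ hv₂' hvv₂ with hfr₂
  obtain ⟨hd4, A, hAX, hA2, -, hAM, -⟩ := hA
  have hn8 : Module.finrank F V = 8 := by
    have := fr.finrank_X hQ
    omega
  have hlow := card_perp_ge hQ hn hAX fun a ha => (hAM (a, 0)).2 ⟨ha, zero_mem _⟩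
  have hup := card_perp_le hQ hn hAX fun a _ ha => ((hAM (a, 0)).1 ha).1
  rw [card_sub, hA2] at hlow hup
  have hq : 2 ≤ Fintype.card F := Fintype.one_lt_card
  rcases hP.2.1 with hfull | hempty
  · have h1 := card_perp_ge hQ hn (fr := fr₂) le_rfl hfull
    rw [fr₂.card_X hQ, hn8] at h1
    let R₂ : AddSubgroup (comp Q u u') :=
      rootSub hp α ⊓ (LinearMap.ker ((polarBilin Q v₂).comp (comp Q u u').subtype)).toAddSubgroup
    have h2 : Nat.card {y : rootSub hp α // polar Q v₂ ((y : comp Q u u') : V) = 0} ≤ Nat.card R₂ :=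
      Nat.card_le_card_of_injective (fun y => ⟨y.1.1, y.1.2, y.2⟩) fun a b e =>
        Subtype.ext (Subtype.ext (congrArg (fun z : R₂ => (z : comp Q u u')) e))
    have h3 := card_le_ker R₂ ((polarBilin Q v).comp (comp Q u u').subtype)
    have h4 : Nat.card {y : R₂ // (polarBilin Q v).comp (comp Q u u').subtype y = 0} ≤
        Nat.card {y : rootSub hp α // polar Q v ((y : comp Q u u') : V) = 0} :=
      Nat.card_le_card_of_injective (fun y => ⟨⟨y.1.1, y.1.2.1⟩, y.2⟩) fun a b e =>
        Subtype.ext (Subtype.ext (congrArg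
          (fun z : {y : rootSub hp α // polar Q v ((y : comp Q u u') : V) = 0} =>
            ((z : rootSub hp α) : comp Q u u')) e))
    have h5 := (h1.trans h2).trans (h3.trans (Nat.mul_le_mul_left _ (h4.trans hup)))
    have h6 := card_R0_two (fr := fr) hR
    have h7 : Fintype.card F * (Fintype.card F ^ 2 * (2 * Nat.card (R0 fr α))) ≤
        Fintype.card F ^ (8 - 4) := by
      rw [show Fintype.card F ^ (8 - 4) = Fintype.card F * (Fintype.card F ^ 2 * Fintype.card F) by
        ring]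
      exact Nat.mul_le_mul_left _ (Nat.mul_le_mul_left _ h6)
    have h8 : 0 < Fintype.card F ^ (8 - 4) := pow_pos (by omega) _
    nlinarith
  · have h1 := card_root_empty hQ hn hR₂ hempty
    have h2 : Nat.card {y : rootSub hp α // polar Q v ((y : comp Q u u') : V) = 0} ≤
        Nat.card (rootSub hp α) := Nat.card_le_card_of_injective _ Subtype.val_injective
    have h3 : Fintype.card F ^ 2 ≤ Nat.card (rootSub hp α) := hlow.trans h2
    change 2 * Nat.card (rootSub hp α) ≤ _ at h1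
    have h4 : 0 < Fintype.card F ^ 2 := pow_pos (by omega) _
    omega

/-- A line of the second shape makes the point good for its first vector. -/
theorem good_of_AStruct (hPA : ∀ (fr : Frame Q) (α : Ω), R0 fr α ≠ ⊤ → PStruct fr α ∨ AStruct fr α)
    {fr : Frame Q} {α : Ω} (hR : R0 fr α ≠ ⊤) (hA : AStruct fr α) :
    ∃ M, GoodM Q α fr.u M := by
  classical
  have := finite_V F V
  obtain ⟨u, v, u', v', hp, hvv, a1, a2, a3, a4⟩ := fr
  have hv : v ∈ comp Q u u' := ⟨a1, a3⟩
  have hv' : v' ∈ comp Q u u' := ⟨a2, a4⟩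
  have hd8 : Module.finrank F V = 8 := by
    have := (mkFrame hp hv hv' hvv).finrank_X hQ
    have h4 : Module.finrank F (mkFrame hp hv hv' hvv).X = 4 := hA.1
    omega
  have hW := nondeg_comp hQ hp
  have hdW := finrank_comp hp
  set R := rootSub hp α with hRdef
  -- every other moved singular vector gives the second shape
  have other : ∀ w : comp Q u u', Q (w : V) = 0 → (¬ ∀ c : F, c • w ∈ R) →
      ∃ (fr' : Frame Q) (h : fr'.u = u), fr'.u' = u' ∧ fr'.v = w ∧
        (∀ y ∈ R, polar Q (w : V) (y : V) = 0 → Q (y : V) = 0) ∧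
        Fintype.card F ^ 2 ≤ Nat.card {y : R // polar Q (w : V) ((y : comp Q u u') : V) = 0} ∧
        2 * Nat.card {y : R // polar Q (w : V) ((y : comp Q u u') : V) = 0} ≤ Fintype.card F ^ 3 := by
    intro w hQw hw
    have hw0 : w ≠ 0 := fun e => hw fun c => by rw [e, smul_zero]; exact zero_mem _
    obtain ⟨w', hw', hww⟩ := exists_hyp_comp hQ hp w.2 (fun e => hw0 (Subtype.ext e)) hQw
    have hR' : R0 (mkFrame hp w.2 hw' hww) α ≠ ⊤ := fun htop => hw fun c => by
      have hc : c ∈ R0 (mkFrame hp w.2 hw' hww) α := htop ▸ AddSubgroup.mem_top c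
      exact hc
    obtain ⟨hd4, A, hAX, hA2, hAts, hAM, -⟩ :=
      all_AStruct hQ hn hPA hp hv hv' hvv w.2 hw' hww hR hA hR'
    refine ⟨mkFrame hp w.2 hw' hww, rfl, rfl, rfl, fun y hy hwy => ?_, ?_, ?_⟩
    · obtain ⟨h1, h2⟩ := perp_decomp hQ hn (fr := mkFrame hp w.2 hw' hww) (y := y) hy hwy
      have h3 := ((hAM _).1 h2).1
      have h4 : polar Q (mkFrame hp w.2 hw' hww).v ((mkFrame hp w.2 hw' hww).pr (y : V)) = 0 :=
        (hAX h3).2.1
      conv_lhs => rw [h1]
      rw [QuadraticMap.map_add (⇑Q), QuadraticMap.map_smul, hAts _ h3, polar_smul_right,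
        polar_comm Q ((mkFrame hp w.2 hw' hww).pr (y : V)), h4]
      show 0 + _ • Q (w : V) + _ = 0
      rw [hQw]
      simp
    · have h1 := card_perp_ge hQ hn hAX fun a ha => (hAM (a, 0)).2 ⟨ha, zero_mem _⟩
      rwa [card_sub, hA2] at h1
    · have h1 := card_perp_le hQ hn hAX fun a _ ha => ((hAM (a, 0)).1 ha).1
      rw [card_sub, hA2] at h1
      have h2 := card_R0_two (fr := mkFrame hp w.2 hw' hww) hR'
      calc _ ≤ 2 * (Fintype.card F ^ 2 * Nat.card (R0 (mkFrame hp w.2 hw' hww) α)) :=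
            Nat.mul_le_mul_left _ h1
        _ = Fintype.card F ^ 2 * (2 * Nat.card (R0 (mkFrame hp w.2 hw' hww) α)) := by ring
        _ ≤ Fintype.card F ^ 2 * Fintype.card F := Nat.mul_le_mul_left _ h2
        _ = _ := by ring
  have hv_moved : ¬ ∀ c : F, c • (⟨v, hv⟩ : comp Q u u') ∈ R := fun h =>
    hR (eq_top_iff.2 fun c _ => h c)
  have hq : 2 ≤ Fintype.card F := Fintype.one_lt_card
  -- every root element is singular
  have hsing : ∀ y ∈ R, Q (y : V) = 0 := by
    intro y hy
    by_contra hQy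
    have hy0 : y ≠ 0 := fun e => hQy (by rw [e]; exact QuadraticMap.map_zero Q)
    obtain ⟨e, f, he, hf, hef⟩ := exists_hyp_perp hW (by omega) hy0
    have hU : ∀ z : comp Q u u', polar (Q.restrict (comp Q u u')) y z = 0 → z ∈ R := by
      intro z hz
      refine mem_of_singular (Q := Q.restrict (comp Q u u'))
        (W := LinearMap.ker (polarBilin (Q.restrict (comp Q u u')) y)) he hf hef
        (P := fun z => z ∈ R) (fun _ _ ha hb => add_mem ha hb) (fun w hw hQw c => ?_) hz
      by_contra hc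
      obtain ⟨fr', -, -, -, h1, -, -⟩ := other w hQw fun h => hc (h c)
      exact hQy (h1 y hy (by rw [polar_comm]; exact hw))
    obtain ⟨fr', -, -, -, -, -, h3⟩ := other ⟨v, hv⟩ hvv.hu hv_moved
    set K : Submodule F (comp Q u u') := LinearMap.ker (polarBilin (Q.restrict (comp Q u u')) y) ⊓
      LinearMap.ker (polarBilin (Q.restrict (comp Q u u')) ⟨v, hv⟩)
    have h4 : Nat.card K ≤ Nat.card {z : R // polar Q v ((z : comp Q u u') : V) = 0} :=
      Nat.card_le_card_of_injective (fun z => ⟨⟨z.1, hU z.1 z.2.1⟩, z.2.2⟩) fun a b e =>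
        Subtype.ext (congrArg (fun z : {z : R // polar Q v ((z : comp Q u u') : V) = 0} =>
          ((z : R) : comp Q u u')) e)
    have h5 : Module.finrank F (comp Q u u') ≤ Module.finrank F K + 2 :=
      finrank_ker2 (Q := Q.restrict (comp Q u u')) y (⟨v, hv⟩ : comp Q u u')
    rw [card_sub] at h4
    have h8 : 2 * Fintype.card F ^ Module.finrank F K ≤ Fintype.card F ^ 3 :=
      le_trans (Nat.mul_le_mul_left 2 h4) h3
    have h6 := Nat.pow_le_pow_right (show 0 < Fintype.card F by omega)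
      (show 4 ≤ Module.finrank F K by omega)
    have h7 : Fintype.card F ^ 3 < Fintype.card F ^ 4 := Nat.pow_lt_pow_right hq (by omega)
    omega
  -- hence they span a totally singular subspace
  set E : Submodule F (comp Q u u') := Submodule.span F (R : Set (comp Q u u')) with hEdef
  have hpolR : ∀ x ∈ R, ∀ y ∈ R, polar Q (x : V) (y : V) = 0 := by
    intro x hx y hy
    have h := hsing _ (add_mem hx hy)
    rwa [Submodule.coe_add, QuadraticMap.map_add (⇑Q), hsing x hx, hsing y hy, zero_add, zero_add]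
      at h
  have hpolE : ∀ x ∈ E, ∀ y ∈ E, polar Q (x : V) (y : V) = 0 := by
    have h1 : ∀ x ∈ R, E ≤ LinearMap.ker (polarBilin (Q.restrict (comp Q u u')) x) := fun x hx =>
      Submodule.span_le.2 fun y hy => hpolR x hx y hy
    intro x hx y hy
    have h2 : E ≤ LinearMap.ker (polarBilin (Q.restrict (comp Q u u')) y) :=
      Submodule.span_le.2 fun z hz => by
        show polar Q (y : V) (z : V) = 0
        rw [polar_comm]; exact h1 z hz hy
    rw [polar_comm]; exact h2 hx
  have hEts : ∀ x ∈ E, Q.restrict (comp Q u u') x = 0 := by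
    intro x hx
    induction hx using Submodule.span_induction with
    | mem x hx => exact hsing x hx
    | zero => exact QuadraticMap.map_zero _
    | add x y hx' hy' ihx ihy =>
      rw [QuadraticMap.map_add (⇑(Q.restrict (comp Q u u'))), ihx, ihy]
      show 0 + 0 + polar Q (x : V) (y : V) = 0
      rw [hpolE x hx' y hy']; simp
    | smul c x _ ih => rw [QuadraticMap.map_smul, ih, smul_zero]
  have hEb := ts_bound hW hEts
  -- it is three-dimensional and consists of root elements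
  have half : ∀ e ∈ E, e ≠ 0 → ∃ H : Submodule F (comp Q u u'), H ≤ E ∧ e ∉ H ∧
      Module.finrank F E = 3 ∧ Module.finrank F H = 2 ∧ ∀ y ∈ H, y ∈ R := by
    intro e he he0
    obtain ⟨e', he'⟩ := exists_hyp hW (hEts e he) he0
    obtain ⟨fr', -, -, -, -, h2, -⟩ := other e' he'.hu' fun h => by
      have h1 : e' ∈ E := Submodule.subset_span (by simpa using h 1)
      have h2 := hpolE e he e' h1
      rw [show polar Q (e : V) (e' : V) = 1 from he'.huu'] at h2
      exact one_ne_zero h2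
    set H := E ⊓ LinearMap.ker (polarBilin (Q.restrict (comp Q u u')) e') with hHdef
    have heH : e ∉ H := fun h => by
      have h1 : polar Q (e' : V) (e : V) = 0 := h.2
      rw [polar_comm, show polar Q (e : V) (e' : V) = 1 from he'.huu'] at h1
      exact one_ne_zero h1
    let Rk : AddSubgroup (comp Q u u') :=
      R ⊓ (LinearMap.ker (polarBilin (Q.restrict (comp Q u u')) e')).toAddSubgroup
    have hle : Rk ≤ H.toAddSubgroup := fun y hy => ⟨Submodule.subset_span hy.1, hy.2⟩
    have hRk : Fintype.card F ^ 2 ≤ Nat.card Rk := h2.trans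
      (Nat.card_le_card_of_injective (fun y => ⟨y.1.1, y.1.2, y.2⟩) fun a b h =>
        Subtype.ext (Subtype.ext (congrArg (fun z : Rk => (z : comp Q u u')) h)))
    have hlt : H < E := lt_of_le_of_ne inf_le_left fun h => heH (h.symm ▸ he)
    have hlt' := Submodule.finrank_lt_finrank_of_lt hlt
    have h3 := AddSubgroup.card_le_of_le hle
    rw [show Nat.card H.toAddSubgroup = Nat.card H from rfl, card_sub] at h3
    have h4 : 2 ≤ Module.finrank F H := (Nat.pow_le_pow_iff_right hq).1 (hRk.trans h3)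
    refine ⟨H, inf_le_left, heH, by omega, by omega, fun y hy => ?_⟩
    have heq : Rk = H.toAddSubgroup := AddSubgroup.eq_of_le_of_card_ge hle (by
      rw [show Nat.card H.toAddSubgroup = Nat.card H from rfl, card_sub,
        show Module.finrank F H = 2 by omega]
      exact hRk)
    exact (show y ∈ Rk from heq ▸ hy).1
  obtain ⟨y₀, hy₀, hy₀0⟩ : ∃ y ∈ R, y ≠ 0 := by
    obtain ⟨fr', -, -, -, -, h2, -⟩ := other ⟨v, hv⟩ hvv.hu hv_moved
    by_contra hall
    push Not at hall
    have h3 : Nat.card {z : R // polar Q v ((z : comp Q u u') : V) = 0} ≤ 1 :=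
      Finite.card_le_one_iff_subsingleton.2 ⟨fun a b => Subtype.ext (Subtype.ext
        ((hall _ a.1.2).trans (hall _ b.1.2).symm))⟩
    change _ ≤ Nat.card {z : R // polar Q v ((z : comp Q u u') : V) = 0} at h2
    have := Nat.pow_le_pow_left hq 2
    omega
  obtain ⟨H₁, hH₁E, -, hE3, hH₁2, hH₁⟩ := half y₀ (Submodule.subset_span hy₀) hy₀0
  obtain ⟨e₂, he₂, he₂0⟩ : ∃ e ∈ H₁, e ≠ 0 := by
    by_contra hall
    push Not at hall
    rw [(Submodule.eq_bot_iff H₁).2 hall, finrank_bot] at hH₁2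
    omega
  obtain ⟨H₂, hH₂E, he₂H, -, hH₂2, hH₂⟩ := half e₂ (hH₁E he₂) he₂0
  have hsup : H₁ ⊔ H₂ = E := by
    refine Submodule.eq_of_le_of_finrank_le (sup_le hH₁E hH₂E) ?_
    have hlt : H₂ < H₁ ⊔ H₂ := lt_of_le_of_ne le_sup_right fun h =>
      he₂H (h ▸ Submodule.mem_sup_left he₂)
    have := Submodule.finrank_lt_finrank_of_lt hlt
    omega
  have hER : ∀ y ∈ E, y ∈ R := fun y hy => by
    rw [← hsup, Submodule.mem_sup] at hy
    obtain ⟨a, ha, b, hb, rfl⟩ := hy
    exact add_mem (hH₁ a ha) (hH₂ b hb)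
  refine ⟨Submodule.span F ({u} : Set V) ⊔ E.map (comp Q u u').subtype,
    by rw [finrank_span_sup hp, hE3], Submodule.mem_sup_left (Submodule.mem_span_singleton_self u),
    ?_, ?_⟩
  · intro x hx
    obtain ⟨_, hc, _, ⟨e, he, rfl⟩, rfl⟩ := Submodule.mem_sup.1 hx
    obtain ⟨c, rfl⟩ := Submodule.mem_span_singleton.1 hc
    show Q (c • u + (e : V)) = 0
    rw [QuadraticMap.map_add (⇑Q), QuadraticMap.map_smul, hp.hu, show Q (e : V) = 0 from hEts e he,
      polar_smul_left, show polar Q u (e : V) = 0 from e.2.1]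
    simp
  · intro y hy
    have hdec : y = polar Q u' y • u + proj Q u u' y := by
      conv_lhs => rw [eq_decomp Q u u' y]
      rw [show polar Q u y = 0 from hy, zero_smul, add_zero]
    constructor
    · intro h
      refine Submodule.mem_sup.2 ⟨_, Submodule.smul_mem _ _ (Submodule.mem_span_singleton_self u),
        _, ⟨⟨_, proj_mem hp y⟩, Submodule.subset_span ?_, rfl⟩, hdec.symm⟩
      show Rt (fixG Q α) u (proj Q u u' y)
      rw [show proj Q u u' y = y - polar Q u' y • u from eq_sub_of_add_eq' hdec.symm]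
      exact h.sub (rt_self hp.hu _)
    · intro h
      obtain ⟨_, hc, _, ⟨e, he, rfl⟩, rfl⟩ := Submodule.mem_sup.1 h
      obtain ⟨c, rfl⟩ := Submodule.mem_span_singleton.1 hc
      exact (rt_self hp.hu c).add (hER e he)

/-- The images of `M₀` under the stabiliser of `u`. -/
def conjM (Q : QuadraticForm F V) (u : V) (M₀ : Submodule F V) : Set (Submodule F V) :=
  {M | ∃ g : sGroup Q, g.1.1 u = u ∧ M = M₀.map g.1.1.toLinearMap}

omit [Finite Ω] in
/-- Counts in an eight-dimensional space with a four-dimensional totally singular subspace. -/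
theorem levels {u u' : V} (hp : Hyp Q u u') (hd8 : Module.finrank F V = 8) {M : Submodule F V}
    (hM : Module.finrank F M = 4) (huM : u ∈ M) (hts : ∀ x ∈ M, Q x = 0) :
    Nat.card {x : V // Q x = 0} + Fintype.card F ^ 3 = Fintype.card F ^ 7 + Fintype.card F ^ 4 ∧
      Nat.card {x : comp Q u u' // Q x = 0} + Fintype.card F ^ 2 =
        Fintype.card F ^ 5 + Fintype.card F ^ 3 := by
  have hdW := finrank_comp hp
  have hq : 0 < Fintype.card F := Fintype.card_pos
  have h1 := cnt0_ts 4 Q hQ hd8 M hts hM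
  have h2 := cnt0_ts 3 (Q.restrict (comp Q u u')) (nondeg_comp hQ hp) (by omega)
    (M.comap (comp Q u u').subtype) (fun x hx => hts _ hx) (finrank_inW hp hM huM hts)
  constructor
  · refine Nat.eq_of_mul_eq_mul_left hq ?_
    rw [mul_add, mul_add, ← pow_succ', ← pow_succ', ← pow_succ']
    exact h1
  · refine Nat.eq_of_mul_eq_mul_left hq ?_
    rw [mul_add, mul_add, ← pow_succ', ← pow_succ', ← pow_succ']
    exact h2

omit [Finite Ω] in
/-- Any two orthogonal singular vectors of the complement lie in a common image of `M₀`. -/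
theorem exists_conjM {u u' : V} (hp : Hyp Q u u') {M₀ : Submodule F V}
    (hM : Module.finrank F M₀ = 4) (huM : u ∈ M₀) (hts : ∀ x ∈ M₀, Q x = 0)
    {e₁ e₂ : comp Q u u'} (h1 : Q (e₁ : V) = 0) (h2 : Q (e₂ : V) = 0)
    (h12 : polar Q (e₁ : V) e₂ = 0) (he₁ : e₁ ≠ 0) :
    ∃ M ∈ conjM Q u M₀, (e₁ : V) ∈ M ∧ (e₂ : V) ∈ M := by
  have hE := finrank_inW hp hM huM hts
  obtain ⟨a₁, ha₁, ha₁0⟩ : ∃ a ∈ M₀.comap (comp Q u u').subtype, a ≠ 0 := by
    by_contra hall
    push Not at hall
    rw [(Submodule.eq_bot_iff _).2 hall, finrank_bot] at hE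
    omega
  have hQa : Q (a₁ : V) = 0 := hts _ ha₁
  obtain ⟨g₁, hg₁, g1u, g1u', g1a⟩ := exists_map_comp hQ hn hp a₁.2 e₁.2
    (fun e => ha₁0 (Subtype.ext e)) (fun e => he₁ (Subtype.ext e)) (by rw [hQa, h1])
  set M₁ := M₀.map g₁.1.toLinearMap with hM₁def
  have huM₁ : u ∈ M₁ := ⟨u, huM, g1u⟩
  have he₁M : (e₁ : V) ∈ M₁ := ⟨_, ha₁, g1a⟩
  have hts₁ : ∀ x ∈ M₁, Q x = 0 := by
    rintro _ ⟨x, hx, rfl⟩
    show Q (g₁.1 x) = 0
    rw [map_orth g₁, hts x hx]
  have hdM₁ : Module.finrank F M₁ = 4 := by rw [hM₁def, LinearEquiv.finrank_map_eq, hM]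
  obtain ⟨e₁', he₁', hh⟩ := exists_hyp_comp hQ hp e₁.2 (fun e => he₁ (Subtype.ext e)) h1
  set fr := mkFrame hp e₁.2 he₁' hh with hfr
  have hdec : (e₂ : V) = polar Q e₁' (e₂ : V) • (e₁ : V) + proj Q (e₁ : V) e₁' e₂ := by
    conv_lhs => rw [eq_decomp Q (e₁ : V) e₁' (e₂ : V)]
    rw [h12, zero_smul, add_zero]
  set p := proj Q (e₁ : V) e₁' (e₂ : V) with hp0
  by_cases hpz : p = 0
  · refine ⟨M₁, ⟨⟨g₁, hg₁⟩, g1u, rfl⟩, he₁M, ?_⟩
    rw [hdec, hpz, add_zero]
    exact M₁.smul_mem _ he₁M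
  have hpX : p ∈ fr.X := ⟨sub_mem (sub_mem e₂.2 (Submodule.smul_mem _ _ e₁.2))
    (Submodule.smul_mem _ _ he₁'), proj_mem hh _⟩
  have hQp : Q p = 0 := by
    have h := h2
    rw [hdec, QuadraticMap.map_add (⇑Q), QuadraticMap.map_smul, h1, polar_smul_left,
      show polar Q (e₁ : V) p = 0 from (proj_mem hh (e₂ : V)).1] at h
    simpa using h
  obtain ⟨a₂, ha₂X, ha₂M, ha₂0⟩ : ∃ a ∈ fr.X, a ∈ M₁ ∧ a ≠ 0 := by
    set E₁ := M₁.comap (comp Q u u').subtype
    have hE₁ : Module.finrank F E₁ = 3 := finrank_inW hp hdM₁ huM₁ hts₁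
    let φ : E₁ →ₗ[F] F := ((polarBilin Q e₁').comp (comp Q u u').subtype).comp E₁.subtype
    have h3 := φ.finrank_range_add_finrank_ker
    have h4 := Submodule.finrank_le (LinearMap.range φ)
    rw [Module.finrank_self] at h4
    obtain ⟨x, hx, hx0⟩ : ∃ x ∈ LinearMap.ker φ, x ≠ 0 := by
      by_contra hall
      push Not at hall
      rw [(Submodule.eq_bot_iff _).2 hall, finrank_bot] at h3
      omega
    have hxM : ((x : comp Q u u') : V) ∈ M₁ := x.2
    exact ⟨_, ⟨(x : comp Q u u').2, ts_polar hts₁ he₁M hxM, hx⟩, hxM,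
      fun e => hx0 (Subtype.ext (Subtype.ext e))⟩
  obtain ⟨h, hh', r, hr, hha⟩ :=
    exists_gam_map fr hQ hn ha₂X hpX (hts₁ _ ha₂M) hQp ha₂0 hpz
  refine ⟨M₁.map h.1.1.1.toLinearMap, ⟨h.1 * ⟨g₁, hg₁⟩, ?_, ?_⟩,
    ⟨_, he₁M, hh'.2.1⟩, ?_⟩
  · show h.1.1.1 (g₁.1 u) = u
    rw [g1u]; exact hh'.1
  · rw [hM₁def, ← Submodule.map_comp]; rfl
  · rw [hdec]
    refine add_mem (Submodule.smul_mem _ _ ⟨_, he₁M, hh'.2.1⟩) ?_
    exact (Submodule.smul_mem_iff _ hr).1 (hha ▸ ⟨a₂, ha₂M, rfl⟩)

omit [Finite Ω] in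
/-- There are at least `(q + 1)(q² + 1)` images. -/
theorem card_conjM {u u' : V} (hp : Hyp Q u u') (hd8 : Module.finrank F V = 8)
    {M₀ : Submodule F V} (hM : Module.finrank F M₀ = 4) (huM : u ∈ M₀) (hts : ∀ x ∈ M₀, Q x = 0) :
    (Fintype.card F + 1) * (Fintype.card F ^ 2 + 1) ≤ Nat.card (conjM Q u M₀) := by
  classical
  have := finite_V F V
  have : Finite (Submodule F V) := Finite.of_injective _ SetLike.coe_injective
  have hdW := finrank_comp hp
  have hW := nondeg_comp hQ hp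
  obtain ⟨-, hLW⟩ := levels hQ hn hp hd8 hM huM hts
  have hq : 2 ≤ Fintype.card F := Fintype.one_lt_card
  set q := Fintype.card F with hqdef
  cases nonempty_fintype (comp Q u u')
  cases nonempty_fintype (conjM Q u M₀)
  let S := {e : (comp Q u u') // Q (e : V) = 0 ∧ e ≠ 0}
  cases nonempty_fintype S
  let P := {p : (comp Q u u') × (comp Q u u') // Q (p.1 : V) = 0 ∧ p.1 ≠ 0 ∧ Q (p.2 : V) = 0 ∧
    polar Q (p.1 : V) p.2 = 0 ∧ p.2 ∉ Submodule.span F ({p.1} : Set (comp Q u u'))}
  -- lower bound for the pairs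
  have hS : Nat.card S + 1 = Nat.card {x : (comp Q u u') // Q (x : V) = 0} := by
    have h := card_singular (Q.restrict (comp Q u u'))
    have h1 : 1 ≤ Nat.card {x : (comp Q u u') // Q (x : V) = 0} :=
      Nat.card_pos_iff.2 ⟨⟨⟨0, QuadraticMap.map_zero Q⟩⟩, inferInstance⟩
    change Nat.card S = Nat.card {x : (comp Q u u') // Q (x : V) = 0} - 1 at h
    omega
  have hPlow : (q ^ 5 + q ^ 3 - q ^ 2 - 1) * (q * (q ^ 3 + q ^ 2 - q - 1)) ≤ Nat.card P := by
    choose e' he' using fun e : S => exists_hyp hW (u := e.1) e.2.1 e.2.2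
    have hL4 : ∀ e : S, Nat.card {x : comp (Q.restrict (comp Q u u')) e.1 (e' e) //
        Q ((x : (comp Q u u')) : V) = 0 ∧ x ≠ 0} + 1 + q = q ^ 3 + q ^ 2 := by
      intro e
      have h1 := card_level (he' e) (0 : F)
      have h2 := finrank_comp (he' e)
      rw [card_sub, show Module.finrank F (comp (Q.restrict (comp Q u u')) e.1 (e' e)) = 4 by omega] at h1
      change Nat.card {x : (comp Q u u') // Q (x : V) = 0} = _ at h1
      rw [h1] at hLW
      have h3 := card_singular ((Q.restrict (comp Q u u')).restrict (comp (Q.restrict (comp Q u u')) e.1 (e' e)))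
      change Nat.card {x : comp (Q.restrict (comp Q u u')) e.1 (e' e) // Q ((x : (comp Q u u')) : V) = 0 ∧ x ≠ 0} =
        cnt (Q.restrict (comp Q u u')) (comp (Q.restrict (comp Q u u')) e.1 (e' e)) 0 - 1 at h3
      have h4 : 1 ≤ cnt (Q.restrict (comp Q u u')) (comp (Q.restrict (comp Q u u')) e.1 (e' e)) 0 :=
        Nat.card_pos_iff.2 ⟨⟨⟨0, QuadraticMap.map_zero _⟩⟩, inferInstance⟩
      rw [← hqdef] at hLW
      generalize cnt (Q.restrict (comp Q u u')) (comp (Q.restrict (comp Q u u')) e.1 (e' e)) 0 = L at *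
      obtain ⟨r, hr⟩ : ∃ r, q = r + 1 := ⟨q - 1, by omega⟩
      rw [hr, Nat.add_sub_cancel] at hLW
      rw [hr, h3, Nat.sub_add_cancel h4]
      refine Nat.eq_of_mul_eq_mul_left (show 0 < r + 1 by omega) ?_
      ring_nf at hLW ⊢
      omega
    refine le_trans (le_of_eq ?_) (Nat.card_le_card_of_injective
      (fun p : (Σ e : S, F × {x : comp (Q.restrict (comp Q u u')) e.1 (e' e) // Q ((x : (comp Q u u')) : V) = 0 ∧ x ≠ 0}) =>
        (⟨(p.1.1, p.2.1 • p.1.1 + (p.2.2.1 : (comp Q u u'))), p.1.2.1, p.1.2.2, ?_, ?_, ?_⟩ : P)) ?_)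
    · rw [Nat.card_sigma, Finset.sum_congr rfl fun e _ => (show Nat.card (F ×
          {x : comp (Q.restrict (comp Q u u')) e.1 (e' e) // Q ((x : (comp Q u u')) : V) = 0 ∧ x ≠ 0}) =
          q * (q ^ 3 + q ^ 2 - q - 1) by
        rw [Nat.card_prod, Nat.card_eq_fintype_card]
        have := hL4 e
        congr 1
        omega), Finset.sum_const, Finset.card_univ, ← Nat.card_eq_fintype_card, smul_eq_mul]
      congr 1
      omega
    · show Q (p.2.1 • (p.1.1 : V) + ((p.2.2.1 : (comp Q u u')) : V)) = 0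
      rw [QuadraticMap.map_add (⇑Q), QuadraticMap.map_smul, p.1.2.1, p.2.2.2.1, polar_smul_left,
        show polar Q (p.1.1 : V) ((p.2.2.1 : (comp Q u u')) : V) = 0 from p.2.2.1.2.1]
      simp
    · show polar Q (p.1.1 : V) (p.2.1 • (p.1.1 : V) + ((p.2.2.1 : (comp Q u u')) : V)) = 0
      rw [polar_add_right, polar_smul_right, polar_self_mul, p.1.2.1,
        show polar Q (p.1.1 : V) ((p.2.2.1 : (comp Q u u')) : V) = 0 from p.2.2.1.2.1]
      simp
    · intro hmem
      obtain ⟨c, hc⟩ := Submodule.mem_span_singleton.1 hmem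
      have hx : (p.2.2.1 : (comp Q u u')) = (c - p.2.1) • p.1.1 := by
        have h := (eq_sub_of_add_eq' hc.symm)
        rw [h, sub_smul]
      have h1 : polar (Q.restrict (comp Q u u')) (e' p.1) (p.2.2.1 : (comp Q u u')) = 0 := p.2.2.1.2.2
      rw [hx, polar_smul_right, (he' p.1).u'u, smul_eq_mul, mul_one] at h1
      exact p.2.2.2.2 (Subtype.ext (by rw [hx, h1, zero_smul]; rfl))
    · rintro ⟨e, c, x⟩ ⟨e₂, c₂, x₂⟩ h
      have h' := congrArg Subtype.val h
      obtain rfl : e = e₂ := Subtype.ext (congrArg Prod.fst h')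
      have h'' := congrArg Prod.snd h'
      dsimp only at h''
      have h2 := congrArg (fun z => polar (Q.restrict (comp Q u u')) (e' e) z) h''
      simp only [polar_add_right, polar_smul_right, (he' e).u'u, smul_eq_mul, mul_one,
        show polar (Q.restrict (comp Q u u')) (e' e) (x.1 : (comp Q u u')) = 0 from x.1.2.2,
        show polar (Q.restrict (comp Q u u')) (e' e) (x₂.1 : (comp Q u u')) = 0 from x₂.1.2.2, add_zero] at h2
      subst h2
      obtain rfl : x = x₂ := Subtype.ext (Subtype.ext (add_left_cancel h''))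
      rfl
  -- upper bound for the pairs
  have hPup : Nat.card P ≤ Nat.card (conjM Q u M₀) * ((q ^ 3 - 1) * (q ^ 3 - q)) := by
    choose Mp hMp h1 h2 using fun p : P =>
      exists_conjM hQ hn hp hM huM hts p.2.1 p.2.2.2.1 p.2.2.2.2.1 p.2.2.1
    let E : conjM Q u M₀ → Submodule F (comp Q u u') := fun M => M.1.comap (comp Q u u').subtype
    let T : conjM Q u M₀ → Type _ := fun M =>
      Σ e : {e : E M // e ≠ 0}, {x : E M // x ∉ Submodule.span F ({e.1} : Set (E M))}
    have hT : ∀ M, Nat.card (T M) = (q ^ 3 - 1) * (q ^ 3 - q) := by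
      intro M
      obtain ⟨g, hgu, hgM⟩ := M.2
      have hdE : Module.finrank F (E M) = 3 := finrank_inW hp
        (by rw [hgM, LinearEquiv.finrank_map_eq, hM]) (hgM ▸ ⟨u, huM, hgu⟩)
        (by
          rw [hgM]
          rintro _ ⟨x, hx, rfl⟩
          show Q (g.1.1 x) = 0
          rw [map_orth g.1, hts x hx])
      cases nonempty_fintype (E M)
      have hc : ∀ e : {e : E M // e ≠ 0},
          Nat.card {x : E M // x ∉ Submodule.span F ({e.1} : Set (E M))} = q ^ 3 - q := fun e => by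
        rw [Nat.card_eq_fintype_card, Fintype.card_subtype_compl, ← Nat.card_eq_fintype_card,
          ← Nat.card_eq_fintype_card, card_sub, hdE]
        congr 1
        show Nat.card (Submodule.span F ({e.1} : Set (E M))) = q
        rw [card_sub, finrank_span_singleton e.2, pow_one]
      show Nat.card (Σ e : {e : E M // e ≠ 0}, _) = _
      rw [Nat.card_sigma, Finset.sum_congr rfl fun e _ => hc e, Finset.sum_const, Finset.card_univ,
        smul_eq_mul, Fintype.card_subtype_compl, ← Nat.card_eq_fintype_card (α := E M), card_sub,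
        hdE]
      congr 1
    have hsum : Nat.card (Σ M, T M) = Nat.card (conjM Q u M₀) * ((q ^ 3 - 1) * (q ^ 3 - q)) := by
      rw [Nat.card_sigma, Finset.sum_congr rfl fun M _ => hT M, Finset.sum_const, Finset.card_univ,
        smul_eq_mul, Nat.card_eq_fintype_card]
    rw [← hsum]
    refine Nat.card_le_card_of_injective (fun p => ⟨⟨Mp p, hMp p⟩,
      ⟨⟨p.1.1, h1 p⟩, fun e => p.2.2.1 (congrArg (fun z : E ⟨Mp p, hMp p⟩ => (z : (comp Q u u'))) e)⟩,
      ⟨⟨p.1.2, h2 p⟩, fun hmem => ?_⟩⟩) fun p p' e => ?_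
    · obtain ⟨c, hc⟩ := Submodule.mem_span_singleton.1 hmem
      exact p.2.2.2.2.2 (Submodule.mem_span_singleton.2
        ⟨c, congrArg (fun z : E ⟨Mp p, hMp p⟩ => (z : (comp Q u u'))) hc⟩)
    · have e1 := congrArg (fun s : Σ M, T M => ((s.2.1.1 : (comp Q u u')), (s.2.2.1 : (comp Q u u')))) e
      exact Subtype.ext e1
  have h := hPlow.trans hPup
  obtain ⟨r, hr⟩ : ∃ r, q = r + 2 := ⟨q - 2, by omega⟩
  rw [hr] at h ⊢
  have f1 : (r + 2) ^ 5 + (r + 2) ^ 3 - (r + 2) ^ 2 - 1 = ((r + 2) ^ 3 - 1) * ((r + 2) ^ 2 + 1) := by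
    rw [Nat.sub_mul, one_mul, Nat.mul_add, mul_one, ← pow_add, show (3 : ℕ) + 2 = 5 from rfl]
    omega
  have f2 : (r + 2) * ((r + 2) ^ 3 + (r + 2) ^ 2 - (r + 2) - 1) =
      (r + 2 + 1) * ((r + 2) ^ 3 - (r + 2)) := by
    have g1 : (r + 2) ≤ (r + 2) ^ 3 := Nat.le_self_pow (by omega) _
    zify [g1, show (r + 2) ≤ (r + 2) ^ 3 + (r + 2) ^ 2 by omega,
      show 1 ≤ (r + 2) ^ 3 + (r + 2) ^ 2 - (r + 2) by
        have : 1 ≤ (r + 2) ^ 2 := Nat.one_le_pow _ _ (by omega)
        omega]
    ring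
  rw [f1, f2] at h
  have hpos : 0 < ((r + 2) ^ 3 - 1) * ((r + 2) ^ 3 - (r + 2)) := by
    have g1 : (r + 2) ^ 1 < (r + 2) ^ 3 := Nat.pow_lt_pow_right (by omega) (by omega)
    rw [pow_one] at g1
    exact Nat.mul_pos (by omega) (by omega)
  refine Nat.le_of_mul_le_mul_right (le_trans (le_of_eq ?_) h) hpos
  ring

end Cfsg.Agent.MinIndexOrthGood
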