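import Mathlib
import Cfsg.Agent.Lib.MinIndexOrthGood

/-!
The second shape of moved lines, totally singular planes in eight-dimensional spaces, does not occur in a
transitive action of small degree.
-/

set_option autoImplicit false

namespace Cfsg.Agent.MinIndexOrthModeA

open QuadraticMap hiding proj
open Cfsg.Agent.OrthUnitaryQuad Cfsg.Agent.OrthUnitaryRefl Cfsg.Agent.OrthUnitaryOmega
open Cfsg.Agent.OrthUnitarySimple Cfsg.Agent.TwoGenSiegel
open Cfsg.Agent.MinIndexOrthTools Cfsg.Agent.MinIndexOrthCount Cfsg.Agent.MinIndexOrthLine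
open Cfsg.Agent.MinIndexOrthOrbit Cfsg.Agent.MinIndexOrthClass
open Cfsg.Agent.MinIndexOrthVectors Cfsg.Agent.MinIndexOrthPoint Cfsg.Agent.MinIndexOrthLocal
open Cfsg.Agent.MinIndexOrthGood

variable {F V : Type*} [Field F] [Fintype F] [AddCommGroup V] [Module F V] [FiniteDimensional F V]
  {Q : QuadraticForm F V} {Ω : Type*} [MulAction (sGroup Q) Ω]
  (hQ : (polarBilin Q).Nondegenerate) (hn : 7 ≤ Module.finrank F V)

include hQ hn

/-- An element scaling the two vectors of a hyperbolic pair and fixing its complement. -/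
theorem exists_torus {u u' : V} (hp : Hyp Q u u') {μ : F} (hμ : μ ≠ 0) :
    ∃ g : sGroup Q, g.1.1 u = (μ * μ)⁻¹ • u ∧ g.1.1 u' = (μ * μ) • u' ∧
      ∀ x ∈ comp Q u u', g.1.1 x = x := by
  have hW := nondeg_comp hQ hp
  have hd := finrank_comp hp
  obtain ⟨y, -, -, hQy⟩ := exists_nonsing2 hW (by omega) (0 : comp Q u u') 0
  have hQy : Q (y : V) ≠ 0 := hQy
  have hy2 : μ • (y : V) ∈ comp Q u u' := Submodule.smul_mem _ _ y.2
  have hQy2 : Q (μ • (y : V)) = μ * μ * Q (y : V) := by rw [QuadraticMap.map_smul]; rfl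
  have hQy2' : Q (μ • (y : V)) ≠ 0 := by
    rw [hQy2]; exact mul_ne_zero (mul_ne_zero hμ hμ) hQy
  have rt : ∀ z ∈ comp Q u u', ∀ r : F, Rt (sGroup Q) u (r • z) ∧ Rt (sGroup Q) u' (r • z) :=
    fun z hz r => ⟨rtS hQ (by omega) hp.hu (by
        rw [polar_smul_right, show polar Q u z = 0 from hz.1, smul_zero]),
      rtS hQ (by omega) hp.hu' (by
        rw [polar_smul_right, show polar Q u' z = 0 from hz.2, smul_zero])⟩
  obtain ⟨f1, hf1, a1, b1, c1⟩ := exists_flip (M := sGroup Q) hp y.2 hQy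
    (by simpa using (rt y y.2 1).1) (rt y y.2 _).2
  obtain ⟨f2, hf2, a2, b2, c2⟩ := exists_flip (M := sGroup Q) hp hy2 hQy2'
    (by simpa using (rt _ hy2 1).1) (rt _ hy2 _).2
  refine ⟨⟨f1 * f2, mul_mem hf1 hf2⟩, ?_, ?_, fun x hx => ?_⟩
  · show f1.1 (f2.1 u) = _
    rw [a2, map_neg, map_smul, b1, smul_neg, neg_neg, smul_smul, hQy2, mul_inv_rev,
      mul_comm _ (μ * μ)⁻¹, mul_assoc, inv_mul_cancel₀ hQy, mul_one]
  · show f1.1 (f2.1 u') = _
    rw [b2, map_neg, map_smul, a1, smul_neg, neg_neg, smul_smul, hQy2, mul_assoc,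
      mul_inv_cancel₀ hQy, mul_one]
  · show f1.1 (f2.1 x) = x
    rw [c2 x hx, hQy2, map_sub, map_smul, map_smul, c1 x hx, c1 _ y.2, polar_self_mul,
      polar_smul_left]
    match_scalars <;> field_simp <;> ring

theorem sg_scale {u t : V} {c : F} (hu : Q u = 0) (ht : polar Q u t = 0) :
    sg Q (c • u) t = sg Q u (c • t) := by
  have e0 : Q (c • u) = 0 := by rw [QuadraticMap.map_smul, hu, smul_zero]
  have e1 : polar Q (c • u) t = 0 := by rw [polar_smul_left, ht, smul_zero]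
  have e2 : polar Q u (c • t) = 0 := by rw [polar_smul_right, ht, smul_zero]
  apply Subtype.ext
  rw [sg_coe hQ (by omega) e0 e1, sg_coe hQ (by omega) hu e2, siegel_scale e0 e1 hu e2]

theorem sg_zero {u : V} (hu : Q u = 0) : sg Q u (0 : V) = 1 := by
  apply Subtype.ext
  rw [sg_coe hQ (by omega) hu (polar_zero_right _ _)]
  exact siegel_eq_one _ _ (a := 0) (zero_smul F u).symm

theorem orbit_inj {β : Ω} {u z z' : V} (hu : Q u = 0) (hz : polar Q u z = 0)
    (hz' : polar Q u z' = 0) (h : sg Q u z • β = sg Q u z' • β) : Rt (fixG Q β) u (z - z') := by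
  have hd : polar Q u (z - z') = 0 := by rw [polar_sub_right, hz, hz', sub_zero]
  rw [rt_iff_sg hQ (by omega) hu hd]
  rw [show z = z' + (z - z') by abel, sg_add hQ (by omega) hu hz' hd, mul_smul,
    smul_left_cancel_iff] at h
  exact h

theorem good_shift {β : Ω} {u z : V} {M : Submodule F V} (hz : polar Q u z = 0)
    (h : GoodM Q β u M) : GoodM Q (sg Q u z • β) u M := by
  have hu : Q u = 0 := h.2.2.1 u h.2.1
  have he := sg_apply hQ (by omega) hu hz
  have h1 := h.map (sg Q u z)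
  have e : M.map (sg Q u z).1.1.toLinearMap = M := by
    refine Submodule.eq_of_le_of_finrank_eq ?_ (by rw [LinearEquiv.finrank_map_eq])
    rintro _ ⟨x, hx, rfl⟩
    show (sg Q u z).1.1 x ∈ M
    rw [he, ts_polar h.2.2.1 h.2.1 hx, zero_smul, add_zero, mul_zero, add_zero]
    exact sub_mem hx (M.smul_mem _ h.2.1)
  have hgu : (sg Q u z).1.1 u = u := by
    rw [he, polar_comm Q z u, hz, polar_self_mul, hu]; simp
  rwa [e, hgu] at h1

theorem not_good_shift {β : Ω} {u z : V} (hu : Q u = 0) (hz : polar Q u z = 0)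
    (h : ∀ M, ¬ GoodM Q β u M) (M : Submodule F V) : ¬ GoodM Q (sg Q u z • β) u M := fun h' => by
  refine h M ?_
  have h1 := good_shift hQ hn (z := -z) (by rw [polar_neg_right, hz, neg_zero]) h'
  rwa [← mul_smul, ← sg_add hQ (by omega) hu (by rw [polar_neg_right, hz, neg_zero]) hz,
    neg_add_cancel, sg_zero hQ hn hu, one_smul] at h1

variable [Finite Ω]

/-- The orbit of the root elements at `u` on a good point has at least `q³` elements. -/
theorem card_good_ge {β : Ω} {u u' : V} (hp : Hyp Q u u') (hd8 : Module.finrank F V = 8)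
    {M : Submodule F V} (h : GoodM Q β u M) :
    Fintype.card F ^ 3 ≤ Nat.card {γ : Ω // GoodM Q γ u M} ∧
      ∀ β' : Ω, GoodM Q β' u M → (∀ z ∈ comp Q u u', sg Q u z • β ≠ β') →
        2 * Fintype.card F ^ 3 ≤ Nat.card {γ : Ω // GoodM Q γ u M} := by
  have := finite_V F V
  set E := M.comap (comp Q u u').subtype
  have hE : Module.finrank F E = 3 := finrank_inW hp h.1 h.2.1 h.2.2.1
  have hd := finrank_comp hp
  have hq3 : Nat.card (comp Q u u' ⧸ E) = Fintype.card F ^ 3 := by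
    have h1 := Submodule.finrank_quotient_add_finrank E
    rw [Module.natCard_eq_pow_finrank (K := F), Nat.card_eq_fintype_card]
    congr 1
    omega
  have : Finite (comp Q u u' ⧸ E) := Finite.of_surjective _ (Submodule.mkQ_surjective E)
  have hperp : ∀ z : comp Q u u', polar Q u (z : V) = 0 := fun z => z.2.1
  have hinj : ∀ β : Ω, GoodM Q β u M → ∀ c c' : comp Q u u' ⧸ E,
      sg Q u (c.out : V) • β = sg Q u (c'.out : V) • β → c = c' := by
    intro β hβ c c' e
    have h1 := (hβ.2.2.2 _ (by rw [polar_sub_right, hperp, hperp, sub_zero])).1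
      (orbit_inj hQ hn hp.hu (hperp c.out) (hperp c'.out) e)
    rw [← Submodule.Quotient.mk_out c, ← Submodule.Quotient.mk_out c', Submodule.Quotient.eq]
    exact h1
  constructor
  · rw [← hq3]
    exact Nat.card_le_card_of_injective
      (fun c => ⟨_, good_shift hQ hn (hperp c.out) h⟩) fun c c' e =>
        hinj β h c c' (congrArg Subtype.val e)
  · intro β' hβ' hne
    rw [← hq3, two_mul, ← Nat.card_sum]
    refine Nat.card_le_card_of_injective (Sum.elim
      (fun c => ⟨_, good_shift hQ hn (hperp c.out) h⟩)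
      (fun c => ⟨_, good_shift hQ hn (hperp c.out) hβ'⟩)) ?_
    have key : ∀ c c' : comp Q u u' ⧸ E, sg Q u (c.out : V) • β ≠ sg Q u (c'.out : V) • β' := by
      intro c c' e
      refine hne (-(c'.out : V) + (c.out : V))
        (add_mem (neg_mem c'.out.2) c.out.2) ?_
      rw [sg_add hQ (by omega) hp.hu (by rw [polar_neg_right, hperp, neg_zero]) (hperp c.out),
        mul_smul, e, ← mul_smul, ← sg_add hQ (by omega) hp.hu
          (by rw [polar_neg_right, hperp, neg_zero]) (hperp c'.out), neg_add_cancel,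
        sg_zero hQ hn hp.hu, one_smul]
    rintro (c | c) (c' | c') e <;> have e' := congrArg Subtype.val e <;>
      simp only [Sum.elim_inl, Sum.elim_inr] at e'
    · rw [hinj β h c c' e']
    · exact absurd e' (key c c')
    · exact absurd e'.symm (key c' c)
    · rw [hinj β' hβ' c c' e']

/-- The points good for the images of `M₀`, and the points good for none. -/
theorem budget {u u' : V} (hp : Hyp Q u u') (hd8 : Module.finrank F V = 8) {α : Ω}
    {M₀ : Submodule F V} (h : GoodM Q α u M₀) :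
    (Fintype.card F + 1) * (Fintype.card F ^ 2 + 1) * Nat.card {γ : Ω // GoodM Q γ u M₀} +
      Nat.card {γ : Ω // ∀ M, ¬ GoodM Q γ u M} ≤ Nat.card Ω := by
  classical
  have := finite_V F V
  have : Finite (Submodule F V) := Finite.of_injective _ SetLike.coe_injective
  cases nonempty_fintype (conjM Q u M₀)
  have hc := card_conjM hQ hn hp hd8 h.1 h.2.1 h.2.2.1
  refine le_trans (Nat.add_le_add_right (Nat.mul_le_mul_right _ hc) _) ?_
  have hM : ∀ M : conjM Q u M₀, Nat.card {γ : Ω // GoodM Q γ u M₀} ≤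
      Nat.card {γ : Ω // GoodM Q γ u M.1} := by
    rintro ⟨M, g, hgu, rfl⟩
    refine Nat.card_le_card_of_injective (fun γ => ⟨g • γ.1, ?_⟩) fun a b e =>
      Subtype.ext (smul_left_cancel g (congrArg Subtype.val e))
    have h1 := γ.2.map g
    rwa [hgu] at h1
  have h2 : Nat.card (conjM Q u M₀) * Nat.card {γ : Ω // GoodM Q γ u M₀} ≤
      Nat.card (Σ M : conjM Q u M₀, {γ : Ω // GoodM Q γ u M.1}) := by
    rw [Nat.card_sigma, Nat.card_eq_fintype_card (α := conjM Q u M₀), ← smul_eq_mul,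
      ← Finset.card_univ]
    exact Finset.card_nsmul_le_sum _ _ _ fun M _ => hM M
  refine le_trans (Nat.add_le_add_right h2 _) ?_
  rw [← Nat.card_sum]
  refine Nat.card_le_card_of_injective (Sum.elim (fun p => p.2.1) fun γ => γ.1) ?_
  rintro (⟨M, γ, hγ⟩ | γ) (⟨M', γ', hγ'⟩ | γ') e <;> simp only [Sum.elim_inl, Sum.elim_inr] at e
  · subst e
    obtain rfl : M = M' := Subtype.ext (hγ.unique hγ')
    rfl
  · exact absurd hγ (e ▸ γ'.2 M.1)
  · exact absurd hγ' (e.symm ▸ γ.2 M'.1)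
  · exact congrArg Sum.inr (Subtype.ext e)

variable [MulAction.IsPretransitive (sGroup Q) Ω]
  (hN : (Fintype.card F - 1) * Nat.card Ω < Nat.card {v : V // Q v = 0} - 1)

include hN

/-- The numerical consequences of a good point over fields with at least four elements. -/
theorem numbers {u u' : V} (hp : Hyp Q u u') (hd8 : Module.finrank F V = 8) (hq : 4 ≤ Fintype.card F)
    {α : Ω} {M₀ : Submodule F V} (h : GoodM Q α u M₀) :
    (Fintype.card F - 1) * Nat.card {γ : Ω // ∀ M, ¬ GoodM Q γ u M} + 1 < Fintype.card F ^ 4 ∧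
      Nat.card {γ : Ω // GoodM Q γ u M₀} < 2 * Fintype.card F ^ 3 := by
  obtain ⟨hL, -⟩ := levels hQ hn hp hd8 h.1 h.2.1 h.2.2.1
  have h1 := Nat.mul_le_mul_left (Fintype.card F - 1) (budget hQ hn hp hd8 h)
  have h2 := (card_good_ge hQ hn hp hd8 h).1
  obtain ⟨r, hr⟩ : ∃ r, Fintype.card F = r + 4 := ⟨Fintype.card F - 4, by omega⟩
  rw [hr] at hN hL h1 h2 ⊢
  generalize Nat.card {γ : Ω // GoodM Q γ u M₀} = c at h1 h2 ⊢
  generalize Nat.card {γ : Ω // ∀ M, ¬ GoodM Q γ u M} = f at h1 ⊢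
  rw [show r + 4 - 1 = r + 3 by omega] at *
  have e : ∀ c : ℕ, (r + 3) * ((r + 4 + 1) * ((r + 4) ^ 2 + 1) * c) + c = (r + 4) ^ 4 * c := by
    intro c; ring
  have h3 := e c
  rw [mul_add] at h1
  have h4 : (r + 4) ^ 4 * (r + 4) ^ 3 = (r + 4) ^ 7 := by ring
  have h7 : (r + 4) ^ 3 < (r + 4) ^ 4 := Nat.pow_lt_pow_right (by omega) (by omega)
  constructor
  · obtain ⟨d, rfl⟩ : ∃ d, c = (r + 4) ^ 3 + d := ⟨c - (r + 4) ^ 3, by omega⟩
    have h5 : d ≤ (r + 4) ^ 4 * d := Nat.le_mul_of_pos_left _ (pow_pos (by omega) _)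
    rw [mul_add ((r + 4) ^ 4)] at h3
    omega
  · by_contra hc
    obtain ⟨d, rfl⟩ : ∃ d, c = 2 * (r + 4) ^ 3 + d := ⟨c - 2 * (r + 4) ^ 3, by omega⟩
    have h5 : d ≤ (r + 4) ^ 4 * d := Nat.le_mul_of_pos_left _ (pow_pos (by omega) _)
    have h9 : (r + 4) ^ 4 * (2 * (r + 4) ^ 3) = 2 * (r + 4) ^ 7 := by ring
    rw [mul_add ((r + 4) ^ 4)] at h3
    have h6 : (r + 4) ^ 4 ≤ (r + 4) ^ 6 := Nat.pow_le_pow_right (by omega) (by omega)
    have h8 : 4 * (r + 4) ^ 6 ≤ (r + 4) * (r + 4) ^ 6 := Nat.mul_le_mul_right _ (by omega)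
    rw [← pow_succ', show 6 + 1 = 7 from rfl] at h8
    omega

/-- No point has a full vector. -/
theorem no_full {u u' : V} (hp : Hyp Q u u') (hd8 : Module.finrank F V = 8) (hq : 4 ≤ Fintype.card F)
    {α : Ω} {M₀ : Submodule F V} (h : GoodM Q α u M₀) {β : Ω} {v : V} (hv : Full Q β v) : False := by
  have := finite_V F V
  obtain ⟨h0, -⟩ := numbers hQ hn hN hp hd8 hq h
  obtain ⟨hL, -⟩ := levels hQ hn hp hd8 h.1 h.2.1 h.2.2.1
  have hb := budget hQ hn hp hd8 h
  have hc := (card_good_ge hQ hn hp hd8 h).1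
  have hf : Nat.card {γ : Ω // Full Q γ u} ≤ Nat.card {γ : Ω // ∀ M, ¬ GoodM Q γ u M} :=
    Nat.card_le_card_of_injective (fun γ => ⟨γ.1, fun M hM => hM.not_unip hQ hn γ.2.2.2⟩)
      fun a b e => Subtype.ext (congrArg (fun z : {γ : Ω // ∀ M, ¬ GoodM Q γ u M} => (z : Ω)) e)
  have hdc := double_count hQ hn (fun a w => Full Q a w) (fun a w h => ⟨h.1, h.2.1⟩)
    (fun g a w => full_map_iff g) β hp.hu hp.ne_zero
  rw [card_singular] at hdc
  obtain ⟨s, hs⟩ := dvd_card_of_smul (P := fun w => Full Q β w) (fun w hw => hw.2.1)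
    (fun w c hw hc => full_smul hc hw)
  have hT : 0 < Nat.card {w // Full Q β w} := Nat.card_pos_iff.2 ⟨⟨⟨v, hv⟩⟩, inferInstance⟩
  rw [hs] at hdc hT
  generalize Nat.card {γ : Ω // Full Q γ u} = f at hf hdc
  generalize Nat.card {γ : Ω // ∀ M, ¬ GoodM Q γ u M} = NG at h0 hb hf
  generalize Nat.card {γ : Ω // GoodM Q γ u M₀} = c at hb hc
  generalize Nat.card Ω = k at hb hdc hN
  obtain ⟨r, hr⟩ : ∃ r, Fintype.card F = r + 4 := ⟨Fintype.card F - 4, by omega⟩
  rw [hr] at h0 hb hc hdc hT hN hL hq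
  rw [show r + 4 - 1 = r + 3 by omega] at h0 hdc hT hN
  set c1 := (r + 4 + 1) * ((r + 4) ^ 2 + 1) with hc1
  have hid : (r + 3) * (c1 * ((r + 4) ^ 3 + 1)) + ((r + 4) ^ 3 + 1) =
      (r + 4) ^ 7 + (r + 4) ^ 4 := by rw [hc1]; ring
  have hLval : Nat.card {v : V // Q v = 0} - 1 = (r + 3) * (c1 * ((r + 4) ^ 3 + 1)) := by omega
  rw [hLval] at hdc hN
  have hsk : s * k = c1 * ((r + 4) ^ 3 + 1) * f :=
    Nat.eq_of_mul_eq_mul_left (show 0 < r + 3 by omega) (by rw [← mul_assoc, hdc, mul_assoc])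
  have hk : k < c1 * ((r + 4) ^ 3 + 1) := Nat.lt_of_mul_lt_mul_left hN
  have hs0 : 0 < s := Nat.pos_of_ne_zero fun h => by rw [h, mul_zero] at hT; omega
  have hfs : f < s := by
    by_contra hle
    push Not at hle
    have h1 := Nat.mul_le_mul_left (c1 * ((r + 4) ^ 3 + 1)) hle
    have h2 := Nat.mul_lt_mul_of_pos_left hk hs0
    rw [hsk, mul_comm s] at h2
    omega
  have hk2 : c1 * (r + 4) ^ 3 + f ≤ k := le_trans (Nat.add_le_add (Nat.mul_le_mul_left _ hc) hf) hb
  have h3 : (f + 1) * (c1 * (r + 4) ^ 3 + f) ≤ c1 * ((r + 4) ^ 3 + 1) * f :=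
    le_trans (Nat.mul_le_mul (show f + 1 ≤ s by omega) hk2) hsk.le
  have hc1' : c1 ≤ 2 * (r + 4) ^ 3 := by
    rw [hc1]
    ring_nf
    omega
  nlinarith [sq_nonneg ((c1 : ℤ) - 2 * f), Nat.mul_le_mul_left c1 hc1']

variable (hPA : ∀ (fr : Frame Q) (β : Ω), R0 fr β ≠ ⊤ → PStruct fr β ∨ AStruct fr β)

include hPA

/-- Every point is good for every singular vector. -/
theorem all_good {u u' : V} (hp : Hyp Q u u') (hd8 : Module.finrank F V = 8) (hq : 4 ≤ Fintype.card F)
    {α : Ω} {M₀ : Submodule F V} (h : GoodM Q α u M₀) (β : Ω) : ∃ M, GoodM Q β u M := by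
  have := finite_V F V
  by_contra hno
  push Not at hno
  obtain ⟨hNG, -⟩ := numbers hQ hn hN hp hd8 hq h
  have hdW := finrank_comp hp
  have hnu : ¬ Unip (fixG Q β) u := fun hU =>
    no_full hQ hn hN hp hd8 hq h (β := β) (v := u) ⟨hp.hu, hp.ne_zero, hU⟩
  have hP : ∀ fr : Frame Q, fr.u = u → R0 fr β ≠ ⊤ → PStruct fr β := fun fr e hR =>
    (hPA fr β hR).resolve_right fun hA => by
      obtain ⟨M, hM⟩ := good_of_AStruct hQ hn hPA hR hA
      exact hno M (e ▸ hM)
  obtain ⟨fr, e1, e2, hR⟩ := exists_moved hQ hn hp hnu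
  have hq4 : 1 ≤ (Fintype.card F - 1) := by omega
  rcases (hP fr e1 hR).2.1 with hfull | hempty
  · have hsm := small_of_full_end hQ hn (fr := fr) (fun f' e => hP f' (e.trans e1)) hR hfull
    rw [e1] at hsm
    obtain ⟨w, hw, hw0, hd⟩ := exists_direction hp hsm
    have h1 := small_count hQ hn hp hw hw0 hnu hd
    have h2 : Nat.card {γ : Ω // Small Q γ u} ≤ Nat.card {γ : Ω // ∀ M, ¬ GoodM Q γ u M} :=
      Nat.card_le_card_of_injective (fun γ => ⟨γ.1, fun M hM => by
        obtain ⟨w', -, -, hd'⟩ := exists_direction hp γ.2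
        have hle : LinearMap.ker (polarBilin Q u) ⊓ LinearMap.ker (polarBilin Q w') ≤ M :=
          fun y hy => (hM.2.2.2 y hy.1).1 (hd' y hy.1 hy.2)
        have h3 := Submodule.finrank_mono hle
        have h4 := finrank_ker2 (Q := Q) u w'
        rw [hM.1] at h3
        omega⟩)
        fun a b e => Subtype.ext (congrArg (fun z : {γ : Ω // ∀ M, ¬ GoodM Q γ u M} => (z : Ω)) e)
    have h3 := card_Theta_ge (w := w) hQ hp (by omega)
    rw [hd8, show 8 - 4 = 4 from rfl] at h3
    have h4 := Nat.mul_le_mul_left (Fintype.card F - 1) h2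
    have h5 : Fintype.card F * Fintype.card F ^ 4 ≤ Fintype.card F * (Nat.card (Theta Q u u' w) + 1) :=
      Nat.mul_le_mul_left _ (le_trans (Nat.le_mul_of_pos_left _ hq4) h3)
    have h6 : 2 * Fintype.card F ^ 4 ≤ Fintype.card F * Fintype.card F ^ 4 :=
      Nat.mul_le_mul_right _ (by omega)
    have h7 : Fintype.card F ≤ Fintype.card F ^ 4 := Nat.le_self_pow (by omega) _
    rw [mul_add, mul_one] at h5
    omega
  · have h1 := card_root_empty hQ hn hR hempty
    subst e1
    subst e2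
    set R := rootSub fr.h1 β
    have h2 : R.index * Nat.card R = Fintype.card F ^ 6 := by
      rw [AddSubgroup.index_mul_card, card_sub]
      congr 1
      omega
    have h3 : R.index ≤ Nat.card {γ : Ω // ∀ M, ¬ GoodM Q γ fr.u M} := by
      refine Nat.card_le_card_of_injective (fun c : comp Q fr.u fr.u' ⧸ R =>
        ⟨sg Q fr.u (c.out : V) • β, not_good_shift hQ hn hp.hu c.out.2.1 hno⟩) fun c c' e => ?_
      have h4 := orbit_inj hQ hn hp.hu c.out.2.1 c'.out.2.1
        (congrArg (fun z : {γ : Ω // ∀ M, ¬ GoodM Q γ fr.u M} => (z : Ω)) e)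
      rw [← c.out_eq', ← c'.out_eq', QuotientAddGroup.eq]
      have h5 : -(c.out - c'.out) ∈ R := neg_mem (show c.out - c'.out ∈ R from h4)
      rwa [neg_sub, sub_eq_add_neg, add_comm] at h5
    have h5 : Fintype.card F ^ 4 * Fintype.card F ^ 2 ≤
        Nat.card {γ : Ω // ∀ M, ¬ GoodM Q γ fr.u M} * Fintype.card F ^ 2 := by
      rw [← pow_add, ← h2]
      exact Nat.mul_le_mul h3 (by omega)
    have h6 := Nat.le_of_mul_le_mul_right h5 (pow_pos (by omega) _)
    have h7 := Nat.le_mul_of_pos_left (Nat.card {γ : Ω // ∀ M, ¬ GoodM Q γ fr.u M}) hq4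
    omega

/-- The second shape does not occur. -/
theorem not_AStruct
    (hexc : Fintype.card F = 3 → Module.finrank F V = 8 → Nat.card {x : V // Q x = 0} ≠ 2241)
    (hlev : ∀ a : F, a ≠ 0 →
      Nat.card {c : F // c * c = 1} * Nat.card Ω < Nat.card {v : V // Q v = a})
    {fr : Frame Q} {α : Ω} (hR : R0 fr α ≠ ⊤) : ¬ AStruct fr α := by
  classical
  intro hA
  have := finite_V F V
  obtain ⟨M₀, hM₀⟩ := good_of_AStruct hQ hn hPA hR hA
  have hd8 : Module.finrank F V = 8 := by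
    have h1 := fr.finrank_X hQ
    have h2 := hA.1
    omega
  obtain ⟨u, v, u', v', hp, hvv, a1, a2, a3, a4⟩ := fr
  change GoodM Q α u M₀ at hM₀
  obtain ⟨hL, hLW⟩ := levels hQ hn hp hd8 hM₀.1 hM₀.2.1 hM₀.2.2.1
  have hb := budget hQ hn hp hd8 hM₀
  have hc := (card_good_ge hQ hn hp hd8 hM₀).1
  rcases Nat.lt_or_ge (Fintype.card F) 4 with hq | hq
  · have hq2 : 2 ≤ Fintype.card F := Fintype.one_lt_card
    rcases (show Fintype.card F = 2 ∨ Fintype.card F = 3 by omega) with hF | hF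
    · have hsub : (Finset.univ : Finset F) = {0, 1} := (Finset.eq_univ_of_card _ (by
        rw [Finset.card_pair zero_ne_one, hF])).symm
      have htwo : ∀ a : F, a = 0 ∨ a = 1 := fun a => by
        have := hsub ▸ Finset.mem_univ a
        simpa using this
      have hone : Nat.card {c : F // c * c = 1} = 1 := Nat.card_eq_one_iff_unique.2
        ⟨⟨fun a b => Subtype.ext (by
          rcases htwo a.1 with ha | ha <;> rcases htwo b.1 with hb | hb
          · rw [ha, hb]
          · exact absurd a.2 (by rw [ha]; simp)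
          · exact absurd b.2 (by rw [hb]; simp)
          · rw [ha, hb])⟩, ⟨⟨1, mul_one 1⟩⟩⟩
      have hsum : Nat.card {x : V // Q x = 0} + Nat.card {x : V // Q x = 1} = Nat.card V := by
        rw [← Nat.card_sum]
        refine Nat.card_congr (Equiv.trans (Equiv.sumCongr (Equiv.refl _)
          (Equiv.subtypeEquivRight fun x => ?_)) (Equiv.sumCompl fun x : V => Q x = 0))
        exact ⟨fun h h' => one_ne_zero (h.symm.trans h'), fun h => (htwo _).resolve_left h⟩
      rw [Module.natCard_eq_pow_finrank (K := F) (V := V), Nat.card_eq_fintype_card (α := F), hd8] at hsum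
      have h1 := hlev 1 one_ne_zero
      rw [hone, one_mul] at h1
      rw [hF] at hL hb hc hsum
      omega
    · refine hexc hF hd8 ?_
      rw [hF] at hL
      omega
  -- over at least four elements
  obtain ⟨-, hc2⟩ := numbers hQ hn hN hp hd8 hq hM₀
  obtain ⟨μ, hμ, hμ2⟩ : ∃ μ : F, μ ≠ 0 ∧ μ * μ ≠ 1 := by
    by_contra hall
    push Not at hall
    have h1 : Finset.univ ⊆ ({0, 1, -1} : Finset F) := fun a _ => by
      by_cases ha : a = 0
      · simp [ha]
      · rcases mul_self_eq_one_iff.1 (hall a ha) with h | h <;> simp [h]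
    have h2 := (Finset.card_le_card h1).trans Finset.card_le_three
    rw [Finset.card_univ] at h2
    omega
  obtain ⟨g, gu, gu', gW⟩ := exists_torus hQ hn hp hμ
  set l := (μ * μ)⁻¹ with hl
  have hl0 : l ≠ 0 := inv_ne_zero (mul_ne_zero hμ hμ)
  have hl1 : 1 - l ≠ 0 := fun h => hμ2 (by
    rw [hl, sub_eq_zero, eq_comm, inv_eq_one] at h
    exact h)
  have gM : M₀.map g.1.1.toLinearMap = M₀ := by
    refine Submodule.eq_of_le_of_finrank_eq ?_ (by rw [LinearEquiv.finrank_map_eq])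
    rintro _ ⟨x, hx, rfl⟩
    show g.1.1 x ∈ M₀
    have hux : polar Q u x = 0 := ts_polar hM₀.2.2.1 hM₀.2.1 hx
    have hdec : x = polar Q u' x • u + proj Q u u' x := by
      conv_lhs => rw [eq_decomp Q u u' x]
      rw [hux, zero_smul, add_zero]
    rw [hdec, map_add, map_smul, gu, gW _ (proj_mem hp x),
      show proj Q u u' x = x - polar Q u' x • u from eq_sub_of_add_eq' hdec.symm, smul_smul]
    exact add_mem (M₀.smul_mem _ hM₀.2.1) (sub_mem hx (M₀.smul_mem _ hM₀.2.1))
  have hgα : GoodM Q (g • α) u M₀ := by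
    have h1 := hM₀.map g
    rw [gM, gu] at h1
    exact h1.of_smul hl0
  obtain ⟨y, hy, hye⟩ : ∃ y ∈ comp Q u u', sg Q u y • α = g • α := by
    by_contra hall
    push Not at hall
    have h1 := (card_good_ge hQ hn hp hd8 hM₀).2 _ hgα hall
    omega
  have huy : polar Q u y = 0 := hy.1
  set t := (1 - l)⁻¹ • y with ht
  have hut : polar Q u t = 0 := by rw [ht, polar_smul_right, huy, smul_zero]
  have hult : polar Q u (l • t) = 0 := by rw [polar_smul_right, hut, smul_zero]
  set β := sg Q u t • α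
  have hfix : g • β = β := by
    show g • sg Q u t • α = sg Q u t • α
    calc g • sg Q u t • α = (g * sg Q u t * g⁻¹) • g • α := by rw [mul_smul, mul_smul, inv_smul_smul]
      _ = sg Q u t • α := by
        rw [sg_conj hQ (by omega) g hp.hu hut, gu, gW t ((comp Q u u').smul_mem _ hy),
          sg_scale hQ hn hp.hu hut, ← hye, ← mul_smul, ← sg_add hQ (by omega) hp.hu hult huy]
        congr 2
        rw [ht, smul_smul]
        match_scalars
        field_simp
        ring
  have hβ : GoodM Q β u M₀ := good_shift hQ hn hut hM₀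
  obtain ⟨M', hM'⟩ : ∃ M', GoodM Q β u' M' := by
    obtain ⟨k, hk, e⟩ := exists_map_sing hQ (by omega) hp.hu hp.hu' hp.ne_zero hp.symm.ne_zero
    have h1 := hM₀.map (⟨k, hk⟩ : sGroup Q)
    dsimp only at h1
    rw [e] at h1
    exact all_good hQ hn hN hPA hp.symm hd8 hq h1 β
  -- a singular vector of the complement outside both subspaces
  obtain ⟨z, hzW, hQz, hz1, hz2⟩ : ∃ z ∈ comp Q u u', Q z = 0 ∧ z ∉ M₀ ∧ z ∉ M' := by
    by_contra hall
    push Not at hall
    have h1 : Nat.card {x : comp Q u u' // Q (x : V) = 0} ≤ Nat.card M₀ + Nat.card M' := by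
      rw [← Nat.card_sum]
      refine Nat.card_le_card_of_injective (fun x => if hx : (x.1 : V) ∈ M₀ then Sum.inl ⟨_, hx⟩
        else Sum.inr ⟨_, hall _ x.1.2 x.2 hx⟩) fun a b e => ?_
      have e' := congrArg (fun s : M₀ ⊕ M' =>
        Sum.elim (fun m : M₀ => (m : V)) (fun m : M' => (m : V)) s) e
      by_cases ha : (a.1 : V) ∈ M₀ <;> by_cases hb' : (b.1 : V) ∈ M₀ <;>
        simp only [ha, hb', dif_pos, dif_neg, not_false_iff, Sum.elim_inl, Sum.elim_inr] at e' <;>
        exact Subtype.ext (Subtype.ext e')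
    rw [card_sub, card_sub, hM₀.1, hM'.1] at h1
    have h2 : 4 * Fintype.card F ^ 4 ≤ Fintype.card F * Fintype.card F ^ 4 := Nat.mul_le_mul_right _ hq
    rw [← pow_succ', show 4 + 1 = 5 from rfl] at h2
    have h3 : Fintype.card F ^ 2 < Fintype.card F ^ 4 := Nat.pow_lt_pow_right (by omega) (by omega)
    omega
  have hz0 : z ≠ 0 := fun e => hz1 (e ▸ zero_mem _)
  obtain ⟨z', hpz⟩ := exists_hyp hQ hQz hz0
  obtain ⟨Mz, hMz⟩ : ∃ M, GoodM Q β z M := by
    obtain ⟨k, hk, e⟩ := exists_map_sing hQ (by omega) hp.hu hQz hp.ne_zero hz0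
    have h1 := hM₀.map (⟨k, hk⟩ : sGroup Q)
    dsimp only at h1
    rw [e] at h1
    exact all_good hQ hn hN hPA hpz hd8 hq h1 β
  have hgMz : ∀ m ∈ Mz, g.1.1 m ∈ Mz := by
    have h1 := hMz.map g
    rw [hfix, gW z hzW] at h1
    intro m hm
    rw [h1.unique hMz |>.symm] at hm ⊢
    have h2 : Mz.map g.1.1.toLinearMap = Mz := h1.unique hMz
    rw [h2] at hm
    exact ⟨m, hm, rfl⟩
  have noEnd : ∀ (x : V) (M : Submodule F V) (c : F), GoodM Q β x M → z ∉ M → c ≠ 0 →
      c • x ∈ Mz → polar Q x z = 0 → False := by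
    intro x M c hxM hzM hc hcx hxz
    have hQx : Q x = 0 := hxM.2.2.1 x hxM.2.1
    have h1 := (hMz.2.2.2 x (by rw [polar_comm]; exact hxz)).2 ((Mz.smul_mem_iff hc).1 hcx)
    exact hzM ((hxM.2.2.2 z hxz).1 (rt_swap h1 hQx))
  have hle : Mz ≤ comp Q u u' := by
    intro m hm
    have hdec := eq_decomp Q u u' m
    have h1 : ((l - 1) * polar Q u' m) • u + ((μ * μ - 1) * polar Q u m) • u' ∈ Mz := by
      have h2 := sub_mem (hgMz m hm) hm
      rw [hdec, map_add, map_add, map_smul, map_smul, gu, gu', gW _ (proj_mem hp m)] at h2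
      convert h2 using 1
      module
    have hm1 : μ * μ - 1 ≠ 0 := sub_ne_zero.2 hμ2
    have hl1' : l - 1 ≠ 0 := fun h => hl1 (by rw [sub_eq_zero.1 h, sub_self])
    have h2 := hMz.2.2.1 _ h1
    rw [QuadraticMap.map_add (⇑Q), QuadraticMap.map_smul, QuadraticMap.map_smul, hp.hu, hp.hu',
      polar_smul_left, polar_smul_right, hp.huu'] at h2
    simp only [smul_eq_mul, mul_zero, add_zero, zero_add, mul_one, mul_eq_zero, hm1, hl1',
      false_or] at h2
    have ha : polar Q u' m = 0 := by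
      by_contra ha
      have hb0 := h2.resolve_left ha
      rw [hb0, mul_zero, zero_smul, add_zero] at h1
      exact noEnd u M₀ _ hβ hz1 (mul_ne_zero hl1' ha) h1 hzW.1
    refine ⟨?_, ha⟩
    by_contra hb0
    rw [ha, mul_zero, zero_smul, zero_add] at h1
    exact noEnd u' M' _ hM' hz2 (mul_ne_zero hm1 hb0) h1 hzW.2
  have h1 := ts_bound (nondeg_comp hQ hp) (E := Mz.comap (comp Q u u').subtype)
    fun x hx => hMz.2.2.1 _ hx
  rw [(Submodule.comapSubtypeEquivOfLe hle).finrank_eq, hMz.1] at h1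
  have h2 := finrank_comp hp
  omega

end Cfsg.Agent.MinIndexOrthModeA
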