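import Mathlib
import Cfsg.Agent.Lib.MinIndexOrthMain
import Cfsg.Agent.Lib.MinIndexOrthModeA
import Cfsg.Agent.Lib.MinIndexOrthFamilies29

/-!
The lower bound for the indices of proper subgroups of the group generated by Siegel transformations.
-/

set_option autoImplicit false

namespace Cfsg.Agent.MinIndexOrthCore

open QuadraticMap hiding proj
open Cfsg.Agent.OrthUnitaryQuad Cfsg.Agent.OrthUnitarySimple
open Cfsg.Agent.MinIndexOrthTools Cfsg.Agent.MinIndexOrthCount Cfsg.Agent.MinIndexOrthLine
open Cfsg.Agent.MinIndexOrthOrbit Cfsg.Agent.MinIndexOrthClass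
open Cfsg.Agent.MinIndexOrthFamilies29

variable {F V : Type*} [Field F] [Fintype F] [AddCommGroup V] [Module F V] [FiniteDimensional F V]
  {Q : QuadraticForm F V}

theorem two_cases (hF : Fintype.card F = 2) (a : F) : a = 0 ∨ a = 1 := by
  classical
  have hsub : (Finset.univ : Finset F) = {0, 1} := (Finset.eq_univ_of_card _ (by
    rw [Finset.card_pair zero_ne_one, hF])).symm
  have := hsub ▸ Finset.mem_univ a
  simpa using this

theorem card_sq_one_le : Nat.card {c : F // c * c = 1} ≤ mult (Fintype.card F) := by
  classical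
  rw [Nat.card_eq_fintype_card, Fintype.card_subtype, mult]
  split_ifs with h
  · refine Finset.card_le_one.2 fun a ha b hb => ?_
    simp only [Finset.mem_filter, Finset.mem_univ, true_and] at ha hb
    rcases two_cases h a with rfl | rfl <;> rcases two_cases h b with rfl | rfl <;> simp_all
  · refine le_trans (Finset.card_le_card (t := {1, -1}) fun a ha => ?_) Finset.card_le_two
    simp only [Finset.mem_filter, Finset.mem_univ, true_and, mul_self_eq_one_iff] at ha
    rcases ha with rfl | rfl <;> simp

/-- The bound for every proper subgroup. -/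
theorem coreBound (hQ : (polarBilin Q).Nondegenerate) (hn : 7 ≤ Module.finrank F V)
    (hexc : Fintype.card F = 3 → Module.finrank F V = 8 → Nat.card {x : V // Q x = 0} ≠ 2241) :
    CoreBound Q := by
  intro H hH
  by_contra hc
  push Not at hc
  obtain ⟨hN, hlev⟩ := hc
  have := finite_V F V
  have := finite_orth Q
  let Ω := sGroup Q ⧸ H
  have hcard : Nat.card Ω = H.index := rfl
  rw [← hcard] at hN hlev
  have hk1 : 1 < Nat.card Ω := by
    rw [hcard]
    exact H.one_lt_index_of_ne_top hH
  have hlev' : ∀ a : F, a ≠ 0 →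
      Nat.card {c : F // c * c = 1} * Nat.card Ω < Nat.card {v : V // Q v = a} := fun a ha =>
    lt_of_le_of_lt (Nat.mul_le_mul_right _ card_sq_one_le) (hlev a ha)
  have hk : Nat.card Ω < (Fintype.card F + 2) * Fintype.card F ^ (Module.finrank F V - 3) := by
    refine small_degree hQ hn hN fun h2 => ?_
    have h1 := hlev 1 one_ne_zero
    rw [h2, mult, if_pos rfl, one_mul] at h1
    have hsum : Nat.card {x : V // Q x = 0} + Nat.card {x : V // Q x = 1} = Nat.card V := by
      classical
      rw [← Nat.card_sum]
      refine Nat.card_congr (Equiv.trans (Equiv.sumCongr (Equiv.refl _)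
        (Equiv.subtypeEquivRight fun x => ?_)) (Equiv.sumCompl fun x : V => Q x = 0))
      exact ⟨fun h h' => one_ne_zero (h.symm.trans h'), fun h => (two_cases h2 _).resolve_left h⟩
    rw [Module.natCard_eq_pow_finrank (K := F) (V := V), Nat.card_eq_fintype_card (α := F), h2] at hsum
    omega
  have hPA : ∀ (fr : Frame Q) (α : Ω), R0 fr α ≠ ⊤ → PStruct fr α ∨ AStruct fr α :=
    fun fr α hR => classify fr hQ hn hexc hk hR
  exact MinIndexOrthMain.false_of_pstruct hQ hn hk1
    (fun fr α hR => (hPA fr α hR).resolve_right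
      (MinIndexOrthModeA.not_AStruct hQ hn hN hPA hexc hlev' hR)) hN hlev'

end Cfsg.Agent.MinIndexOrthCore
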