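import Mathlib

/-!
Numbers of isotropic and anisotropic points of a Hermitian space and the inequalities between
them used for the minimal index of the unitary groups.
-/

set_option autoImplicit false

namespace Cfsg.Agent.MinIndexUnit19

/-- The number of isotropic points of a Hermitian space of dimension `m`. -/
def isoN (q : ℕ) : ℕ → ℕ
  | 0 => 0
  | 1 => 0
  | m + 2 => 1 + q ^ 2 * isoN q m + q ^ (2 * m + 1)

theorem isoN_succ_succ (q m : ℕ) : isoN q (m + 2) = 1 + q ^ 2 * isoN q m + q ^ (2 * m + 1) := rfl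

theorem isoN_eq (q : ℕ) : ∀ m : ℕ, 1 ≤ m →
    ((q : ℤ) ^ 2 - 1) * isoN q m = ((q : ℤ) ^ m - (-1) ^ m) * ((q : ℤ) ^ (m - 1) - (-1) ^ (m - 1))
  | 0, h => absurd h (by omega)
  | 1, _ => by simp [isoN]
  | 2, _ => by
    rw [isoN_succ_succ, show isoN q 0 = 0 from rfl]
    push_cast
    ring
  | m + 3, _ => by
    have ih := isoN_eq q (m + 1) (by omega)
    rw [show m + 3 - 1 = m + 2 by omega]
    rw [show m + 1 - 1 = m by omega] at ih
    rw [isoN_succ_succ]
    push_cast
    simp only [pow_succ] at ih ⊢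
    rcases neg_one_pow_eq_or ℤ m with h | h <;> rw [h] at ih ⊢ <;>
      rw [show 2 * (m + 1) = m + m + 2 by omega] <;> simp only [pow_add] at ih ⊢ <;>
      linear_combination ((q : ℤ) ^ 2) * ih

/-- The number of anisotropic points of a Hermitian space of dimension `m`. -/
def anisoN (q m : ℕ) : ℕ := (q ^ (2 * m) - 1 - (q ^ 2 - 1) * isoN q m) / (q ^ 2 - 1)

end Cfsg.Agent.MinIndexUnit19
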