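import Mathlib
import Cfsg.Agent.Lib.OrthUnitaryPSU

/-!
Geometry of nondegenerate subspaces of a Hermitian space: hyperbolic pairs, root groups
parametrised by the fixed field, torus elements.
-/

set_option autoImplicit false

namespace Cfsg.Agent.SUMinDegree32Geom

open Cfsg.Agent.OrthUnitaryHerm Cfsg.Agent.OrthUnitaryTransvection Cfsg.Agent.OrthUnitaryPSU
open scoped Matrix

variable {F : Type*} [Field F] [Fintype F] {q : ℕ} {n : ℕ}

/-! ### The fixed field -/

/-- The additive group of the fixed field. -/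
def fixedSet (hF : Fintype.card F = q ^ 2) : AddSubgroup F where
  carrier := {x | x ^ q = x}
  zero_mem' := zero_pow_q hF
  add_mem' := fun {x y} hx hy => by
    show (x + y) ^ q = x + y
    rw [add_pow_q hF, hx, hy]
  neg_mem' := fun {x} hx => by
    show (-x) ^ q = -x
    rw [neg_pow_q hF, hx]

theorem mem_fixedSet (hF : Fintype.card F = q ^ 2) {x : F} : x ∈ fixedSet hF ↔ x ^ q = x := Iff.rfl

theorem card_fixedSet (hF : Fintype.card F = q ^ 2) : Nat.card (fixedSet hF) = q := by
  classical
  have hq := two_le_q hF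
  have e : ↥(fixedSet hF) ≃ Option {x : Fˣ // x ^ (q - 1) = 1} :=
    { toFun := fun r => if h : (r : F) = 0 then none else
        some ⟨Units.mk0 _ h, Units.ext (by
          rw [Units.val_pow_eq_pow_val, Units.val_mk0, Units.val_one]
          refine mul_right_cancel₀ h ?_
          rw [one_mul, ← pow_succ, Nat.sub_add_cancel (by omega)]
          exact r.2)⟩
      invFun := fun o => o.elim 0 fun u => ⟨(u : Fˣ), by
        have h := congrArg Units.val u.2
        rw [Units.val_pow_eq_pow_val, Units.val_one] at h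
        show ((u : Fˣ) : F) ^ q = _
        rw [← pow_sub_one_mul (by omega : q ≠ 0), h, one_mul]⟩
      left_inv := fun r => by
        by_cases h : (r : F) = 0
        · beta_reduce
          rw [dif_pos h]
          exact Subtype.ext h.symm
        · beta_reduce
          rw [dif_neg h]
          rfl
      right_inv := fun o => by
        cases o with
        | none => simp
        | some u => simp }
  haveI := Fintype.ofFinite {x : Fˣ // x ^ (q - 1) = 1}
  rw [Nat.card_congr e, Nat.card_eq_fintype_card, Fintype.card_option, ← Nat.card_eq_fintype_card,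
    card_fixedUnits hF]
  omega

/-- A fixed nonzero skew element. -/
noncomputable def c0 (hF : Fintype.card F = q ^ 2) : F := (exists_skew hF).choose

theorem c0_ne (hF : Fintype.card F = q ^ 2) : c0 hF ≠ 0 := (exists_skew hF).choose_spec.1

theorem c0_skew (hF : Fintype.card F = q ^ 2) : c0 hF + c0 hF ^ q = 0 :=
  (exists_skew hF).choose_spec.2

theorem c0_mul_skew (hF : Fintype.card F = q ^ 2) {r : F} (hr : r ^ q = r) :
    c0 hF * r + (c0 hF * r) ^ q = 0 := by
  rw [mul_pow, hr, ← add_mul, c0_skew, zero_mul]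

theorem exists_eq_c0_mul (hF : Fintype.card F = q ^ 2) {c : F} (hc : c + c ^ q = 0) :
    ∃ r : fixedSet hF, c = c0 hF * (r : F) := by
  refine ⟨⟨c / c0 hF, ?_⟩, (mul_div_cancel₀ _ (c0_ne hF)).symm⟩
  show (c / c0 hF) ^ q = c / c0 hF
  rw [div_pow, show c ^ q = -c by linear_combination hc,
    show c0 hF ^ q = -c0 hF by linear_combination c0_skew hF, neg_div_neg_eq]

/-! ### Root groups -/

/-- The root group element at `e` with parameter `r`. -/
noncomputable def T (hF : Fintype.card F = q ^ 2) (e : Fin n → F) (he : hermForm n F q e e = 0)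
    (r : fixedSet hF) : SU n F q :=
  tv hF e (c0 hF * (r : F)) he (c0_mul_skew hF r.2)

variable (hF : Fintype.card F = q ^ 2)
include hF

theorem T_act (e : Fin n → F) (he : hermForm n F q e e = 0) (r : fixedSet hF) (x : Fin n → F) :
    act (T hF e he r) x = x + (c0 hF * (r : F) * hermForm n F q x e) • e := tv_act hF _ _ _ _ _

theorem T_add (e : Fin n → F) (he : hermForm n F q e e = 0) (r s : fixedSet hF) :
    T hF e he (r + s) = T hF e he r * T hF e he s := by
  apply su_ext
  intro x
  rw [act_mul, T_act, T_act, T_act, herm_add_left, herm_smul_left, he, AddSubgroup.coe_add]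
  module

theorem T_zero (e : Fin n → F) (he : hermForm n F q e e = 0) : T hF e he 0 = 1 := by
  apply su_ext
  intro x
  rw [T_act, act_one, AddSubgroup.coe_zero, mul_zero, zero_mul, zero_smul, add_zero]

theorem T_congr {e e' : Fin n → F} (he : hermForm n F q e e = 0) (he' : hermForm n F q e' e' = 0)
    (h : e = e') (r : fixedSet hF) : T hF e he r = T hF e' he' r := by
  subst h; rfl

theorem conj_T (g : SU n F q) (e : Fin n → F) (he : hermForm n F q e e = 0) (r : fixedSet hF) :
    g * T hF e he r * g⁻¹ = T hF (act g e) (by rw [herm_act, he]) r :=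
  tv_conj hF g he _

theorem T_smul {e : Fin n → F} (he : hermForm n F q e e = 0) {a : F}
    (ha : hermForm n F q (a • e) (a • e) = 0) (r s : fixedSet hF)
    (hs : (s : F) = a ^ q * a * r) : T hF (a • e) ha r = T hF e he s := by
  apply su_ext
  intro x
  rw [T_act, T_act, herm_smul_right, smul_smul, hs]
  congr 2
  ring

theorem commute_T {g : SU n F q} {e : Fin n → F} (he : hermForm n F q e e = 0)
    (hg : act g e = e) (r : fixedSet hF) : g * T hF e he r = T hF e he r * g := by
  have h := conj_T hF g e he r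
  rw [T_congr hF _ he hg, mul_inv_eq_iff_eq_mul] at h
  exact h

/-! ### Eichler transformations with parameter a root element -/

theorem eich_zero {e : Fin n → F} (he : hermForm n F q e e = 0) (r : fixedSet hF)
    (hw : hermForm n F q (0 : Fin n → F) e = 0)
    (hμ : c0 hF * (r : F) + (c0 hF * (r : F)) ^ q + hermForm n F q (0 : Fin n → F) 0 = 0) :
    eich hF e 0 (c0 hF * (r : F)) he hw hμ = T hF e he r :=
  eich_eq_tv hF he hw hμ

/-- Fixing the orthogonal complement of `W`. -/
def FixPerp (q : ℕ) (W : Submodule F (Fin n → F)) (g : SU n F q) : Prop :=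
  ∀ x, (∀ w ∈ W, hermForm n F q x w = 0) → act g x = x

variable {W : Submodule F (Fin n → F)}

theorem fixPerp_eich {e w : Fin n → F} {μ : F} (he : hermForm n F q e e = 0)
    (hw : hermForm n F q w e = 0) (hμ : μ + μ ^ q + hermForm n F q w w = 0)
    (heW : e ∈ W) (hwW : w ∈ W) : FixPerp q W (eich hF e w μ he hw hμ) := by
  intro x hx
  rw [eich_act, hx e heW, hx w hwW]
  simp

theorem fixPerp_T {e : Fin n → F} (he : hermForm n F q e e = 0) (heW : e ∈ W)
    (r : fixedSet hF) : FixPerp q W (T hF e he r) := by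
  intro x hx
  rw [T_act, hx e heW, mul_zero, zero_smul, add_zero]

omit [Fintype F] hF in
theorem FixPerp.mul {g k : SU n F q} (hg : FixPerp q W g) (hk : FixPerp q W k) :
    FixPerp q W (g * k) := fun x hx => by rw [act_mul, hk x hx, hg x hx]

omit [Fintype F] hF in
theorem FixPerp.mono {W' : Submodule F (Fin n → F)} (h : W' ≤ W) {g : SU n F q}
    (hg : FixPerp q W' g) : FixPerp q W g := fun x hx => hg x fun w hw => hx w (h hw)

/-! ### Nondegenerate subspaces -/

/-- The form restricted to `W` is nondegenerate. -/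
def Nondeg (q : ℕ) (W : Submodule F (Fin n → F)) : Prop :=
  ∀ x ∈ W, (∀ y ∈ W, hermForm n F q x y = 0) → x = 0

theorem exists_herm_eq_in (hW : Nondeg q W) {e : Fin n → F} (heW : e ∈ W) (he0 : e ≠ 0) (a : F) :
    ∃ z ∈ W, hermForm n F q z e = a := by
  obtain ⟨y, hy, hye⟩ : ∃ y ∈ W, hermForm n F q y e ≠ 0 := by
    by_contra! h
    exact he0 (hW e heW fun y hy => herm_skew_zero hF (h y hy))
  exact ⟨(a / hermForm n F q y e) • y, W.smul_mem _ hy,
    by rw [herm_smul_left, div_mul_cancel₀ _ hye]⟩

theorem exists_hyp_in (hW : Nondeg q W) {e : Fin n → F} (heW : e ∈ W) (he0 : e ≠ 0)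
    (he : hermForm n F q e e = 0) :
    ∃ f ∈ W, hermForm n F q f f = 0 ∧ hermForm n F q f e = 1 ∧ hermForm n F q e f = 1 := by
  obtain ⟨z, hzW, hz⟩ := exists_herm_eq_in hF hW heW he0 1
  obtain ⟨a, ha⟩ := exists_iso_add hF he (hz ▸ one_ne_zero)
  have h1 : hermForm n F q (z + a • e) e = 1 := by
    rw [herm_add_left, herm_smul_left, he, hz]; ring
  exact ⟨z + a • e, W.add_mem hzW (W.smul_mem _ heW), ha, h1, by rw [herm_conj hF, h1, one_pow]⟩

theorem exists_norm_in (hW : Nondeg q W) (hne : W ≠ ⊥) {r : F} (hr : r ^ q = r) (hr0 : r ≠ 0) :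
    ∃ x ∈ W, hermForm n F q x x = r := by
  obtain ⟨p, hpW, hp0⟩ := Submodule.exists_mem_ne_zero_of_ne_bot hne
  by_cases h : hermForm n F q p p = 0
  · obtain ⟨f, hfW, hff, hfe, hef⟩ := exists_hyp_in hF hW hpW hp0 h
    obtain ⟨t, ht⟩ := exists_trace hF hr
    refine ⟨t • p + f, W.add_mem (W.smul_mem _ hpW) hfW, ?_⟩
    simp only [herm_add_left, herm_add_right hF, herm_smul_left, herm_smul_right, h, hff, hfe,
      hef]
    linear_combination ht
  · obtain ⟨z, hz⟩ := exists_norm_eq hF (a := r / hermForm n F q p p)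
      (by rw [div_pow, herm_self_pow hF, hr])
    refine ⟨z • p, W.smul_mem _ hpW, ?_⟩
    rw [herm_smul_left, herm_smul_right, ← mul_assoc, ← pow_succ', hz, div_mul_cancel₀ _ h]

theorem exists_iso_in (hW : Nondeg q W) (hd : 2 ≤ Module.finrank F W) :
    ∃ e ∈ W, e ≠ 0 ∧ hermForm n F q e e = 0 := by
  have hne : W ≠ ⊥ := fun h => by rw [h, finrank_bot] at hd; omega
  obtain ⟨p, hpW, hpp⟩ := exists_norm_in hF hW hne (one_pow q) one_ne_zero
  set W₁ := W ⊓ LinearMap.ker (hermL q p) with hW₁
  have hm : ∀ {x : Fin n → F}, x ∈ W₁ ↔ x ∈ W ∧ hermForm n F q x p = 0 := by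
    simp [hW₁, hermL_apply]
  have hW₁n : Nondeg q W₁ := by
    intro x hx h
    refine hW x (hm.1 hx).1 fun y hy => ?_
    have hy' : y - hermForm n F q y p • p ∈ W₁ :=
      hm.2 ⟨W.sub_mem hy (W.smul_mem _ hpW),
        by rw [herm_sub_left, herm_smul_left, hpp, mul_one, sub_self]⟩
    have := h _ hy'
    rwa [herm_sub_right hF, herm_smul_right, (hm.1 hx).2, mul_zero, sub_zero] at this
  have hW₁ne : W₁ ≠ ⊥ := by
    intro h
    have hi : Function.Injective ((hermL q p).comp W.subtype) := by
      rw [← LinearMap.ker_eq_bot, LinearMap.ker_eq_bot']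
      intro x hx
      exact Subtype.ext ((Submodule.eq_bot_iff _).1 h (x : Fin n → F) (hm.2 ⟨x.2, hx⟩))
    have := LinearMap.finrank_le_finrank_of_injective hi
    rw [Module.finrank_self] at this
    omega
  obtain ⟨k, hk, hkk⟩ := exists_norm_in hF hW₁n hW₁ne (r := -1)
    (by rw [neg_pow_q hF, one_pow]) (neg_ne_zero.2 one_ne_zero)
  obtain ⟨hkW, hkp⟩ := hm.1 hk
  refine ⟨p + k, W.add_mem hpW hkW, fun h0 => ?_, ?_⟩
  · have : hermForm n F q (p + k) p = 0 := by rw [h0, herm_zero_left]
    rw [herm_add_left, hpp, hkp, add_zero] at this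
    exact one_ne_zero this
  · rw [herm_add_left, herm_add_right hF, herm_add_right hF, hpp, hkp, hkk,
      herm_skew_zero hF hkp]
    ring

/-- The orthogonal complement of a hyperbolic pair inside `W`. -/
def pairPerp (q : ℕ) (W : Submodule F (Fin n → F)) (e f : Fin n → F) :
    Submodule F (Fin n → F) :=
  W ⊓ LinearMap.ker (hermL q e) ⊓ LinearMap.ker (hermL q f)

omit [Fintype F] hF in
theorem mem_pairPerp {e f x : Fin n → F} :
    x ∈ pairPerp q W e f ↔ x ∈ W ∧ hermForm n F q x e = 0 ∧ hermForm n F q x f = 0 := by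
  simp [pairPerp, hermL_apply, and_assoc]

theorem nondeg_pairPerp (hW : Nondeg q W) {e f : Fin n → F} (heW : e ∈ W) (hfW : f ∈ W)
    (hee : hermForm n F q e e = 0) (hff : hermForm n F q f f = 0)
    (hef : hermForm n F q e f = 1) (hfe : hermForm n F q f e = 1) :
    Nondeg q (pairPerp q W e f) := by
  intro x hx h
  obtain ⟨hxW, hxe, hxf⟩ := mem_pairPerp.1 hx
  refine hW x hxW fun y hy => ?_
  have hp : proj2 q e f y ∈ pairPerp q W e f := by
    refine mem_pairPerp.2 ⟨?_, proj2_perp hee hff hef hfe y⟩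
    rw [proj2_apply]
    exact W.sub_mem (W.sub_mem hy (W.smul_mem _ heW)) (W.smul_mem _ hfW)
  have := h _ hp
  rw [proj2_apply, herm_sub_right hF, herm_sub_right hF, herm_smul_right, herm_smul_right,
    hxe, hxf, mul_zero, mul_zero, sub_zero, sub_zero] at this
  exact this

theorem finrank_pairPerp {e f : Fin n → F} (heW : e ∈ W) (hfW : f ∈ W)
    (hee : hermForm n F q e e = 0) (hff : hermForm n F q f f = 0)
    (hef : hermForm n F q e f = 1) (hfe : hermForm n F q f e = 1) :
    Module.finrank F (pairPerp q W e f) + 2 = Module.finrank F W := by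
  let φ : ↥W →ₗ[F] F × F := ((hermL q e).comp W.subtype).prod ((hermL q f).comp W.subtype)
  have hs : Function.Surjective φ := by
    rintro ⟨a, b⟩
    refine ⟨⟨a • f + b • e, W.add_mem (W.smul_mem _ hfW) (W.smul_mem _ heW)⟩, ?_⟩
    simp [φ, hermL_apply, herm_add_left, herm_smul_left, hee, hff, hef, hfe]
  have hk : (LinearMap.ker φ).map W.subtype = pairPerp q W e f := by
    ext x
    simp only [Submodule.mem_map, LinearMap.mem_ker, mem_pairPerp]
    constructor
    · rintro ⟨y, hy, rfl⟩
      simp [φ, hermL_apply] at hy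
      exact ⟨y.2, hy.1, hy.2⟩
    · rintro ⟨hxW, h1, h2⟩
      exact ⟨⟨x, hxW⟩, by simp [φ, hermL_apply, h1, h2], rfl⟩
  have h := LinearMap.finrank_range_add_finrank_ker φ
  rw [LinearMap.range_eq_top.2 hs, finrank_top, Module.finrank_prod, Module.finrank_self] at h
  rw [← hk, Submodule.finrank_map_subtype_eq]
  omega

/-! ### Torus elements -/

/-- The matrix scaling a hyperbolic pair by `t` and `t ^ (-q)`. -/
def pairMat (q : ℕ) (e f : Fin n → F) (t : F) : Matrix (Fin n) (Fin n) F :=
  1 + Matrix.of (fun i (j : Fin 2) => ![(t - 1) * e i, ((t ^ q)⁻¹ - 1) * f i] j) *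
    Matrix.of (fun (j : Fin 2) i => ![f i ^ q, e i ^ q] j)

omit [Fintype F] hF in
theorem pairMat_mulVec (e f : Fin n → F) (t : F) (x : Fin n → F) :
    pairMat q e f t *ᵥ x = x + ((t - 1) * hermForm n F q x f) • e
      + (((t ^ q)⁻¹ - 1) * hermForm n F q x e) • f := by
  funext i
  simp only [pairMat, Matrix.add_mulVec, Matrix.one_mulVec, ← Matrix.mulVec_mulVec, Pi.add_apply]
  simp only [Matrix.mulVec, dotProduct, Matrix.of_apply, Fin.sum_univ_two, Matrix.cons_val_zero,
    Matrix.cons_val_one, Pi.smul_apply, smul_eq_mul, hermForm]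
  have h1 : ∀ y : Fin n → F, ∑ j, y j ^ q * x j = ∑ j, x j * y j ^ q := fun y =>
    Finset.sum_congr rfl fun j _ => mul_comm _ _
  simp only [h1]
  ring

omit [Fintype F] hF in
theorem pairMat_det {e f : Fin n → F} (t : F)
    (hee : hermForm n F q e e = 0) (hff : hermForm n F q f f = 0)
    (hef : hermForm n F q e f = 1) (hfe : hermForm n F q f e = 1) :
    (pairMat q e f t).det = t * (t ^ q)⁻¹ := by
  rw [pairMat, Matrix.det_one_add_mul_comm, Matrix.det_fin_two]
  simp only [Matrix.add_apply, Matrix.one_apply, Matrix.mul_apply, Matrix.of_apply,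
    Matrix.cons_val_zero, Matrix.cons_val_one]
  have key : ∀ (a : F) (y z : Fin n → F),
      ∑ j, z j ^ q * (a * y j) = a * hermForm n F q y z := fun a y z => by
    rw [hermForm, Finset.mul_sum]
    exact Finset.sum_congr rfl fun j _ => by ring
  simp [key, hee, hff, hef, hfe]

theorem pairMat_isU {e f : Fin n → F} {t : F} (ht : t ≠ 0)
    (hee : hermForm n F q e e = 0) (hff : hermForm n F q f f = 0)
    (hef : hermForm n F q e f = 1) (hfe : hermForm n F q f e = 1) :
    IsU q (pairMat q e f t) := by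
  intro x y
  rw [pairMat_mulVec, pairMat_mulVec]
  simp only [herm_add_left, herm_add_right hF, herm_smul_left, herm_smul_right, hee, hff, hef, hfe,
    mul_zero, mul_one, add_zero, zero_add, mul_pow, sub_pow_q hF, one_pow, inv_pow, pow_q_q hF,
    ← herm_conj hF]
  have htq : t ^ q ≠ 0 := pow_ne_zero _ ht
  field_simp
  ring

/-- The element scaling `e` by `t`, compensated at an anisotropic vector. -/
theorem exists_torus {e f k : Fin n → F} (heW : e ∈ W) (hfW : f ∈ W) (hkW : k ∈ W) {t : F}
    (ht : t ≠ 0) (hee : hermForm n F q e e = 0) (hff : hermForm n F q f f = 0)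
    (hef : hermForm n F q e f = 1) (hfe : hermForm n F q f e = 1)
    (hke : hermForm n F q k e = 0) (hkk : hermForm n F q k k ≠ 0) :
    ∃ g : SU n F q, FixPerp q W g ∧ act g e = t • e := by
  set a := hermForm n F q k k with ha
  have haq : a ^ q = a := herm_self_pow hF k
  set s := (t * (t ^ q)⁻¹)⁻¹ with hs
  have htq : t ^ q ≠ 0 := pow_ne_zero _ ht
  have hsn : s * s ^ q = 1 := by
    rw [hs, inv_pow, mul_pow, inv_pow, pow_q_q hF]
    field_simp
  set c := (s - 1) / a with hc
  have hca : 1 + c * a = s := by rw [hc, div_mul_cancel₀ _ hkk]; ring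
  have hcond : c + c ^ q + c * c ^ q * a = 0 := by
    rw [hc, div_pow, sub_pow_q hF, one_pow, haq]
    field_simp
    linear_combination hsn
  set M := unitaryTransvection n q k c * pairMat q e f t with hM
  have hU : IsU q M := (isU_transvection hF hcond).mul (pairMat_isU hF ht hee hff hef hfe)
  have hd : M.det = 1 := by
    rw [hM, Matrix.det_mul, det_transvection hF, ← ha, hca, pairMat_det t hee hff hef hfe, hs]
    field_simp
  refine ⟨mkSU M hd hU, fun x hx => ?_, ?_⟩
  · show M *ᵥ x = x
    rw [hM, ← Matrix.mulVec_mulVec, pairMat_mulVec, hx e heW, hx f hfW, mul_zero, mul_zero,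
      zero_smul, zero_smul, add_zero, add_zero, transvection_mulVec, hx k hkW, mul_zero, zero_smul,
      add_zero]
  · show M *ᵥ e = t • e
    rw [hM, ← Matrix.mulVec_mulVec, pairMat_mulVec, hef, hee, mul_zero, zero_smul, add_zero,
      mul_one, transvection_mulVec, herm_add_left, herm_smul_left, herm_skew_zero hF hke]
    module

/-- The element scaling `e` by `t` and `e'` by `t⁻¹`. -/
theorem exists_torus_two {e f e' f' : Fin n → F} {t : F} (ht : t ≠ 0)
    (hee : hermForm n F q e e = 0) (hff : hermForm n F q f f = 0)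
    (hef : hermForm n F q e f = 1) (hfe : hermForm n F q f e = 1)
    (hee' : hermForm n F q e' e' = 0) (hff' : hermForm n F q f' f' = 0)
    (hef' : hermForm n F q e' f' = 1) (hfe' : hermForm n F q f' e' = 1)
    (h1 : hermForm n F q e' e = 0) (h2 : hermForm n F q e' f = 0)
    (heW : e ∈ W) (hfW : f ∈ W) (heW' : e' ∈ W) (hfW' : f' ∈ W)
    (h3 : hermForm n F q f' e = 0) :
    ∃ g : SU n F q, FixPerp q W g ∧ act g e = t • e ∧ act g e' = t⁻¹ • e' := by
  set M := pairMat q e f t * pairMat q e' f' t⁻¹ with hM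
  have hU : IsU q M :=
    (pairMat_isU hF ht hee hff hef hfe).mul (pairMat_isU hF (inv_ne_zero ht) hee' hff' hef' hfe')
  have hd : M.det = 1 := by
    rw [hM, Matrix.det_mul, pairMat_det t hee hff hef hfe, pairMat_det t⁻¹ hee' hff' hef' hfe',
      inv_pow]
    have htq : t ^ q ≠ 0 := pow_ne_zero _ ht
    field_simp
  refine ⟨mkSU M hd hU, fun x hx => ?_, ?_, ?_⟩
  · show M *ᵥ x = x
    simp only [hM, ← Matrix.mulVec_mulVec, pairMat_mulVec, hx e heW, hx f hfW, hx e' heW',
      hx f' hfW', mul_zero, zero_smul, add_zero]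
  · show M *ᵥ e = t • e
    rw [hM, ← Matrix.mulVec_mulVec, pairMat_mulVec e' f', herm_skew_zero hF h1,
      herm_skew_zero hF h3, mul_zero, mul_zero, zero_smul, zero_smul, add_zero, add_zero,
      pairMat_mulVec, hef, hee]
    module
  · show M *ᵥ e' = t⁻¹ • e'
    rw [hM, ← Matrix.mulVec_mulVec, pairMat_mulVec e' f', hef', hee', mul_zero, zero_smul,
      add_zero, mul_one, pairMat_mulVec, herm_add_left, herm_add_left, herm_smul_left,
      herm_smul_left, h1, h2]
    module

end Cfsg.Agent.SUMinDegree32Geom
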