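import Mathlib
import Cfsg.Agent.Lib.SUMinDegree32Geom
import Cfsg.Agent.Lib.MinIndexUnit19Arith

/-!
Geometry of a nondegenerate subspace `W` of the standard Hermitian space used for the minimal
index of the unitary groups: the group fixing `W`-perp, hyperbolic pairs, double perpendiculars.
-/

set_option autoImplicit false

namespace Cfsg.Agent.MinIndexUnit19

open Cfsg Cfsg.Agent.OrthUnitaryHerm Cfsg.Agent.OrthUnitaryTransvection
  Cfsg.Agent.SUMinDegree32Geom

variable {F : Type*} [Field F] [Fintype F] {q n : ℕ}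
variable {W : Submodule F (Fin n → F)}

local notation "⟪" x ", " y "⟫" => hermForm n F q x y

/-- The special unitary transformations fixing the perp of `W`. -/
def GS (q : ℕ) (W : Submodule F (Fin n → F)) : Subgroup (SU n F q) where
  carrier := {g | FixPerp q W g}
  one_mem' := fun x _ => act_one x
  mul_mem' := fun hg hk => FixPerp.mul hg hk
  inv_mem' := fun {g} hg x hx => by
    have h := congrArg (act g⁻¹) (hg x hx)
    rw [act_inv_act] at h
    exact h.symm

omit [Fintype F] in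
theorem mem_GS {g : SU n F q} : g ∈ GS q W ↔ FixPerp q W g := Iff.rfl

omit [Fintype F] in
theorem GS_mono {W' : Submodule F (Fin n → F)} (h : W' ≤ W) : GS q W' ≤ GS q W :=
  fun _ hg => FixPerp.mono h hg

/-- A hyperbolic pair inside `W`. -/
structure HP (q : ℕ) (W : Submodule F (Fin n → F)) (e f : Fin n → F) : Prop where
  eW : e ∈ W
  fW : f ∈ W
  ee : hermForm n F q e e = 0
  ff : hermForm n F q f f = 0
  ef : hermForm n F q e f = 1
  fe : hermForm n F q f e = 1

variable (hF : Fintype.card F = q ^ 2)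
include hF

theorem card_submodule (W : Submodule F (Fin n → F)) :
    Nat.card W = q ^ (2 * Module.finrank F W) := by
  rw [Module.natCard_eq_pow_finrank (K := F) (V := W), Nat.card_eq_fintype_card, hF, pow_mul]

theorem exists_proj (hW : Nondeg q W) (v : Fin n → F) :
    ∃ w ∈ W, ∀ y ∈ W, ⟪y, v - w⟫ = 0 := by
  let φ : ∀ x : Fin n → F, ↥W →ₗ[F] F := fun x => (hermL q x).comp W.subtype
  have hinj : Function.Injective (fun w : W => φ (w : Fin n → F)) := fun a b hab => by
    have h : ∀ y ∈ W, ⟪y, (a : Fin n → F) - b⟫ = 0 := fun y hy => by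
      have := LinearMap.congr_fun hab ⟨y, hy⟩
      simp only [φ, LinearMap.comp_apply, Submodule.subtype_apply, hermL_apply] at this
      rw [herm_sub_right hF, this, sub_self]
    exact Subtype.ext (sub_eq_zero.1 (hW _ (W.sub_mem a.2 b.2)
      fun y hy => herm_skew_zero hF (h y hy)))
  have : Finite (↥W →ₗ[F] F) := Finite.of_injective _ DFunLike.coe_injective
  have hcard : Nat.card W = Nat.card (↥W →ₗ[F] F) := by
    rw [Module.natCard_eq_pow_finrank (K := F) (V := W),
      Module.natCard_eq_pow_finrank (K := F) (V := (↥W →ₗ[F] F)), Module.finrank_linearMap,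
      Module.finrank_self, mul_one]
  obtain ⟨w, hw⟩ := (hinj.bijective_of_nat_card_le hcard.ge).2 (φ v)
  refine ⟨w, w.2, fun y hy => ?_⟩
  have := LinearMap.congr_fun hw ⟨y, hy⟩
  simp only [φ, LinearMap.comp_apply, Submodule.subtype_apply, hermL_apply] at this
  rw [herm_sub_right hF, this, sub_self]

theorem mem_of_perp_perp (hW : Nondeg q W) {v : Fin n → F}
    (h : ∀ x, (∀ w ∈ W, ⟪x, w⟫ = 0) → ⟪v, x⟫ = 0) : v ∈ W := by
  obtain ⟨w, hw, hperp⟩ := exists_proj hF hW v
  suffices v - w = 0 by rw [sub_eq_zero.1 this]; exact hw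
  refine eq_zero_of_herm_eq_zero hF fun y => ?_
  obtain ⟨y', hy', hyperp⟩ := exists_proj hF hW y
  have hz : ∀ x, (∀ u ∈ W, ⟪x, u⟫ = 0) → ⟪v - w, x⟫ = 0 := fun x hx => by
    rw [herm_sub_left, h x hx, herm_skew_zero hF (hx w hw), sub_zero]
  have h1 := hz (y - y') fun u hu => herm_skew_zero hF (hyperp u hu)
  have h2 : ⟪v - w, y'⟫ = 0 := herm_skew_zero hF (hperp y' hy')
  rwa [herm_sub_right hF, h2, sub_zero] at h1

theorem act_mem (hW : Nondeg q W) {g : SU n F q} (hg : g ∈ GS q W) {x : Fin n → F} (hx : x ∈ W) :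
    act g x ∈ W := by
  refine mem_of_perp_perp hF hW fun y hy => ?_
  have := herm_act g x y
  rw [hg y hy] at this
  rw [this]
  exact herm_skew_zero hF (hy x hx)

omit [Fintype F] hF in
theorem nondeg_top_iff : Nondeg q (⊤ : Submodule F (Fin n → F)) ↔
    ∀ x : Fin n → F, (∀ y, ⟪x, y⟫ = 0) → x = 0 :=
  ⟨fun h x hx => h x Submodule.mem_top fun y _ => hx y,
    fun h x _ hx => h x fun y => hx y Submodule.mem_top⟩

theorem nondeg_top : Nondeg q (⊤ : Submodule F (Fin n → F)) :=
  nondeg_top_iff.2 fun _ h => eq_zero_of_herm_eq_zero hF h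

variable {e f : Fin n → F}

omit hF in
theorem HP.e_ne (h : HP q W e f) : e ≠ 0 := fun h0 => by
  have := h.ef
  rw [h0, herm_zero_left] at this
  exact zero_ne_one this

theorem HP.exists_of_iso (hW : Nondeg q W) (he : e ∈ W) (he0 : e ≠ 0) (hee : ⟪e, e⟫ = 0) :
    ∃ f, HP q W e f := by
  obtain ⟨f, hf, hff, hfe, hef⟩ := exists_hyp_in hF hW he he0 hee
  exact ⟨f, he, hf, hee, hff, hef, hfe⟩

omit hF [Fintype F] in
theorem pairPerp_le : pairPerp q W e f ≤ W := fun _ hx => (mem_pairPerp.1 hx).1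

omit hF [Fintype F] in
theorem perp_e {w : Fin n → F} (hw : w ∈ pairPerp q W e f) : ⟪w, e⟫ = 0 := (mem_pairPerp.1 hw).2.1

omit hF [Fintype F] in
theorem perp_f {w : Fin n → F} (hw : w ∈ pairPerp q W e f) : ⟪w, f⟫ = 0 := (mem_pairPerp.1 hw).2.2

theorem e_perp {w : Fin n → F} (hw : w ∈ pairPerp q W e f) : ⟪e, w⟫ = 0 :=
  herm_skew_zero hF (perp_e hw)

theorem f_perp {w : Fin n → F} (hw : w ∈ pairPerp q W e f) : ⟪f, w⟫ = 0 :=
  herm_skew_zero hF (perp_f hw)

omit hF [Fintype F] in
theorem HP.decomp (h : HP q W e f) {x : Fin n → F} (hx : x ∈ W) :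
    x - ⟪x, f⟫ • e - ⟪x, e⟫ • f ∈ pairPerp q W e f := by
  refine mem_pairPerp.2 ⟨W.sub_mem (W.sub_mem hx (W.smul_mem _ h.eW)) (W.smul_mem _ h.fW), ?_, ?_⟩
  · rw [herm_sub_left, herm_sub_left, herm_smul_left, herm_smul_left, h.ee, h.fe]; ring
  · rw [herm_sub_left, herm_sub_left, herm_smul_left, herm_smul_left, h.ef, h.ff]; ring

theorem HP.nondeg (h : HP q W e f) (hW : Nondeg q W) : Nondeg q (pairPerp q W e f) :=
  nondeg_pairPerp hF hW h.eW h.fW h.ee h.ff h.ef h.fe

theorem HP.finrank (h : HP q W e f) :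
    Module.finrank F (pairPerp q W e f) + 2 = Module.finrank F W :=
  finrank_pairPerp hF h.eW h.fW h.ee h.ff h.ef h.fe

theorem fix_pair (h : HP q W e f) {g : SU n F q} (hg : g ∈ GS q (pairPerp q W e f)) :
    act g e = e ∧ act g f = f :=
  ⟨hg e fun _ hw => e_perp hF hw, hg f fun _ hw => f_perp hF hw⟩

end Cfsg.Agent.MinIndexUnit19
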