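import Mathlib
import Cfsg.Agent.Lib.MinIndexUnit19Space

/-!
Root elements and Eichler transformations inside the group of a nondegenerate subspace:
moving isotropic lines, subgroups invariant under all root groups.
-/

set_option autoImplicit false

namespace Cfsg.Agent.MinIndexUnit19

open Cfsg Cfsg.Agent.OrthUnitaryHerm Cfsg.Agent.OrthUnitaryTransvection
  Cfsg.Agent.SUMinDegree32Geom

variable {F : Type*} [Field F] [Fintype F] {q n : ℕ}
variable {W : Submodule F (Fin n → F)} {e f : Fin n → F}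

local notation "⟪" x ", " y "⟫" => hermForm n F q x y

variable (hF : Fintype.card F = q ^ 2)
include hF

/-- A root element as an element of `GS q W`. -/
noncomputable def Tg (heW : e ∈ W) (he : hermForm n F q e e = 0) (r : fixedSet hF) : GS q W :=
  ⟨T hF e he r, fixPerp_T hF he heW r⟩

/-- An Eichler transformation as an element of `GS q W`. -/
noncomputable def Eg {w : Fin n → F} {μ : F} (heW : e ∈ W) (he : hermForm n F q e e = 0)
    (hwW : w ∈ W) (hwe : hermForm n F q w e = 0)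
    (hμ : μ + μ ^ q + hermForm n F q w w = 0) : GS q W :=
  ⟨eich hF e w μ he hwe hμ, fixPerp_eich hF he hwe hμ heW hwW⟩

theorem Tg_coe (heW : e ∈ W) (he : ⟪e, e⟫ = 0) (r : fixedSet hF) :
    ((Tg hF heW he r : GS q W) : SU n F q) = T hF e he r := rfl

theorem Eg_coe {w : Fin n → F} {μ : F} (heW : e ∈ W) (he : ⟪e, e⟫ = 0)
    (hwW : w ∈ W) (hwe : ⟪w, e⟫ = 0) (hμ : μ + μ ^ q + ⟪w, w⟫ = 0) :
    ((Eg hF heW he hwW hwe hμ : GS q W) : SU n F q) = eich hF e w μ he hwe hμ := rfl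

/-- Interchanging the two isotropic parameters. -/
theorem eich_exchange {u : Fin n → F} (he : ⟪e, e⟫ = 0) (hu : ⟪u, u⟫ = 0) (hue : ⟪u, e⟫ = 0)
    (h1 : (0 : F) + 0 ^ q + ⟪u, u⟫ = 0) (hne : ⟪-e, u⟫ = 0)
    (h2 : (0 : F) + 0 ^ q + ⟪-e, -e⟫ = 0) :
    eich hF e u 0 he hue h1 = eich hF u (-e) 0 hu hne h2 := by
  apply su_ext
  intro x
  rw [eich_act, eich_act, ← neg_one_smul F e, herm_smul_right, neg_pow_q hF, one_pow]
  module

omit [Fintype F] hF in
theorem herm_neg_left (x y : Fin n → F) : ⟪-x, y⟫ = -⟪x, y⟫ := by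
  rw [← neg_one_smul F x, herm_smul_left, neg_one_mul]

theorem herm_neg_right (x y : Fin n → F) : ⟪x, -y⟫ = -⟪x, y⟫ := by
  rw [← neg_one_smul F y, herm_smul_right, neg_pow_q hF, one_pow, neg_one_mul]

omit [Fintype F] hF in
theorem herm_smul_smul_zero {x y : Fin n → F} (h : ⟪x, y⟫ = 0) (a b : F) :
    ⟪a • x, b • y⟫ = 0 := by
  rw [herm_smul_left, herm_smul_right, h, mul_zero, mul_zero]

/-- A hyperbolic partner of `e` perpendicular to a given vector `r`. -/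
theorem HP.exists_perp (hW : Nondeg q W) {r : Fin n → F} (heW : e ∈ W) (he : ⟪e, e⟫ = 0)
    (hrW : r ∈ W) (hr0 : r ≠ 0) (hr : ⟪r, r⟫ = 0) (her : ⟪e, r⟫ = 0)
    (hind : ∀ a : F, e ≠ a • r) : ∃ g, HP q W e g ∧ ⟪r, g⟫ = 0 := by
  obtain ⟨f', hP⟩ := HP.exists_of_iso hF hW hrW hr0 hr
  set c := ⟪e, f'⟫ with hc
  have he0 : e - c • r ≠ 0 := fun h => hind c (sub_eq_zero.1 h)
  have hm : e - c • r ∈ pairPerp q W r f' := by
    refine mem_pairPerp.2 ⟨W.sub_mem heW (W.smul_mem _ hrW), ?_, ?_⟩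
    · rw [herm_sub_left, herm_smul_left, her, hr, mul_zero, sub_zero]
    · rw [herm_sub_left, herm_smul_left, hP.ef, mul_one, sub_self]
  have hiso : ⟪e - c • r, e - c • r⟫ = 0 := by
    rw [herm_sub_left, herm_sub_right hF, herm_sub_right hF, herm_smul_left, herm_smul_left,
      herm_smul_right, herm_smul_right, he, hr, her, herm_skew_zero hF her]
    ring
  obtain ⟨g, hg⟩ := HP.exists_of_iso hF (hP.nondeg hF hW) hm he0 hiso
  have hrg : ⟪r, g⟫ = 0 := herm_skew_zero hF (perp_e hg.fW)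
  have heg : ⟪e, g⟫ = 1 := by
    have := hg.ef
    rwa [herm_sub_left, herm_smul_left, hrg, mul_zero, sub_zero] at this
  exact ⟨g, ⟨heW, pairPerp_le hg.fW, he, hg.ff, heg, by rw [herm_conj hF, heg, one_pow]⟩, hrg⟩

/-! ### Moving isotropic lines -/

theorem exists_weyl {x y : Fin n → F} (hx : ⟪x, x⟫ = 0)
    (hy : ⟪y, y⟫ = 0) (hxy : ⟪x, y⟫ ≠ 0) :
    ∃ (r s : fixedSet hF) (a : F), a ≠ 0 ∧
      act (T hF x hx r * T hF y hy s * T hF x hx r) x = a • y := by
  set β := ⟪x, y⟫ with hβ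
  have hyx : ⟪y, x⟫ = β ^ q := herm_conj hF x y
  have hN : (β * β ^ q) ^ q = β * β ^ q := by rw [mul_pow, pow_q_q hF]; ring
  have hc : (c0 hF * c0 hF) ^ q = c0 hF * c0 hF := by
    rw [mul_pow, show c0 hF ^ q = -c0 hF by linear_combination c0_skew hF]; ring
  have hne : c0 hF * c0 hF * (β * β ^ q) ≠ 0 :=
    mul_ne_zero (mul_ne_zero (c0_ne hF) (c0_ne hF)) (mul_ne_zero hxy (pow_ne_zero _ hxy))
  set s0 : F := -(c0 hF * c0 hF * (β * β ^ q))⁻¹ with hs0
  have hs : s0 ^ q = s0 := by rw [hs0, neg_pow_q hF, inv_pow, mul_pow, hc, hN]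
  refine ⟨⟨1, (mem_fixedSet hF).2 (one_pow q)⟩, ⟨s0, (mem_fixedSet hF).2 hs⟩, c0 hF * s0 * β,
    mul_ne_zero (mul_ne_zero (c0_ne hF) (neg_ne_zero.2 (inv_ne_zero hne))) hxy, ?_⟩
  simp only [act_mul, T_act, hx, herm_add_left, herm_smul_left, mul_zero, zero_smul, add_zero,
    ← hβ, hyx]
  have h1 : 1 + c0 hF * c0 hF * (β * β ^ q) * s0 = 0 := by
    rw [hs0, mul_neg, mul_inv_cancel₀ hne]; ring
  match_scalars
  · linear_combination h1
  · ring

/-- `GS q W` is transitive on isotropic lines of `W`. -/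
theorem exists_move_in (hW : Nondeg q W) {x y : Fin n → F} (hxW : x ∈ W) (hyW : y ∈ W)
    (hx0 : x ≠ 0) (hy0 : y ≠ 0) (hx : ⟪x, x⟫ = 0) (hy : ⟪y, y⟫ = 0) :
    ∃ (g : GS q W) (a : F), a ≠ 0 ∧ act (g : SU n F q) x = a • y := by
  have step : ∀ {x y : Fin n → F}, x ∈ W → y ∈ W → ⟪x, x⟫ = 0 → ⟪y, y⟫ = 0 → ⟪x, y⟫ ≠ 0 →
      ∃ (g : GS q W) (a : F), a ≠ 0 ∧ act (g : SU n F q) x = a • y := by
    intro x y hxW hyW hx hy hxy
    obtain ⟨r, s, a, ha, h⟩ := exists_weyl hF hx hy hxy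
    exact ⟨Tg hF hxW hx r * Tg hF hyW hy s * Tg hF hxW hx r, a, ha, h⟩
  obtain ⟨z, hzW, hz, hxz, hzy⟩ : ∃ z ∈ W, ⟪z, z⟫ = 0 ∧ ⟪x, z⟫ ≠ 0 ∧ ⟪z, y⟫ ≠ 0 := by
    obtain ⟨f, hP⟩ := HP.exists_of_iso hF hW hxW hx0 hx
    by_cases hfy : ⟪f, y⟫ = 0
    · by_cases hxy : ⟪x, y⟫ = 0
      · have hy' : y ∈ pairPerp q W x f :=
          mem_pairPerp.2 ⟨hyW, herm_skew_zero hF hxy, herm_skew_zero hF hfy⟩
        obtain ⟨g, hg⟩ := HP.exists_of_iso hF (hP.nondeg hF hW) hy' hy0 hy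
        refine ⟨f + g, W.add_mem hP.fW (pairPerp_le hg.fW), ?_, ?_, ?_⟩
        · rw [herm_add_left, herm_add_right hF, herm_add_right hF, hP.ff, hg.ff, f_perp hF hg.fW,
            perp_f hg.fW]
          ring
        · rw [herm_add_right hF, hP.ef, e_perp hF hg.fW, add_zero]
          exact one_ne_zero
        · rw [herm_add_left, hfy, hg.fe, zero_add]
          exact one_ne_zero
      · obtain ⟨t, ht0, ht⟩ : ∃ t : F, t ≠ 0 ∧ t + t ^ q = 0 := ⟨c0 hF, c0_ne hF, c0_skew hF⟩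
        refine ⟨f + t • x, W.add_mem hP.fW (W.smul_mem _ hxW), ?_, ?_, ?_⟩
        · simp only [herm_add_left, herm_add_right hF, herm_smul_left, herm_smul_right, hP.ff,
            hP.fe, hP.ef, hx]
          linear_combination ht
        · rw [herm_add_right hF, hP.ef, herm_smul_right, hx, mul_zero, add_zero]
          exact one_ne_zero
        · rw [herm_add_left, hfy, herm_smul_left, zero_add]
          exact mul_ne_zero ht0 hxy
    · exact ⟨f, hP.fW, hP.ff, by rw [hP.ef]; exact one_ne_zero, hfy⟩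
  obtain ⟨g, a, ha, hg⟩ := step hxW hzW hx hz hxz
  obtain ⟨g', b, hb, hg'⟩ := step hzW hyW hz hy hzy
  refine ⟨g' * g, a * b, mul_ne_zero ha hb, ?_⟩
  rw [Subgroup.coe_mul, act_mul, hg, act_smul, hg', smul_smul]

/-! ### Subgroups invariant under root groups -/

/-- Invariance of an additive subgroup under the root group at `u`. -/
def InvAt (S : AddSubgroup (Fin n → F)) (u : Fin n → F) : Prop :=
  ∀ (r : fixedSet hF), ∀ s ∈ S, (c0 hF * (r : F) * hermForm n F q s u) • u ∈ S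

theorem invAt_iff {u : Fin n → F} (hu : ⟪u, u⟫ = 0) (S : AddSubgroup (Fin n → F)) :
    InvAt hF S u ↔ ∀ r, ∀ s ∈ S, act (T hF u hu r) s ∈ S := by
  refine forall_congr' fun r => forall₂_congr fun s hs => ?_
  rw [T_act]
  exact ⟨fun h => S.add_mem hs h, fun h => by simpa using S.sub_mem h hs⟩

/-- The multiples of a vector inside an additive subgroup. -/
def lineIn (S : AddSubgroup (Fin n → F)) (u : Fin n → F) : AddSubgroup F where
  carrier := {a | a • u ∈ S}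
  zero_mem' := by simp
  add_mem' := fun {a b} ha hb => by
    show (a + b) • u ∈ S
    rw [add_smul]; exact S.add_mem ha hb
  neg_mem' := fun {a} ha => by
    show (-a) • u ∈ S
    rw [neg_smul]; exact S.neg_mem ha

omit [Fintype F] hF in
theorem mem_lineIn {S : AddSubgroup (Fin n → F)} {u : Fin n → F} {a : F} :
    a ∈ lineIn S u ↔ a • u ∈ S := Iff.rfl

theorem InvAt.line {S : AddSubgroup (Fin n → F)} {u y : Fin n → F} (h : InvAt hF S u) {a : F}
    (hy : a • y ∈ S) {r : F} (hr : r ^ q = r) : c0 hF * r * (a * ⟪y, u⟫) ∈ lineIn S u := by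
  have := h ⟨r, (mem_fixedSet hF).2 hr⟩ _ hy
  rwa [herm_smul_left] at this

/-- A field element decomposes along two independent lines over the fixed field. -/
theorem exists_fixed_comb {t : F} (ht : t + t ^ q ≠ 0) (a : F) :
    ∃ r s : F, r ^ q = r ∧ s ^ q = s ∧ a = r * t + s * c0 hF := by
  have hc : c0 hF ^ q = -c0 hF := by linear_combination c0_skew hF
  have hr : ((a + a ^ q) / (t + t ^ q)) ^ q = (a + a ^ q) / (t + t ^ q) := by
    rw [div_pow, add_pow_q hF, add_pow_q hF, pow_q_q hF, pow_q_q hF]; ring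
  refine ⟨_, (a - (a + a ^ q) / (t + t ^ q) * t) / c0 hF, hr, ?_,
    by rw [div_mul_cancel₀ _ (c0_ne hF)]; ring⟩
  rw [div_pow, sub_pow_q hF, mul_pow, hr, hc, div_neg, ← neg_div]
  congr 1
  field_simp
  ring

/-- A nonzero subgroup of `W` invariant under all root groups of `W` contains `W`. -/
theorem mem_of_rootInv (hW : Nondeg q W) (hd : 3 ≤ Module.finrank F W)
    {S : AddSubgroup (Fin n → F)} (hS : ∀ s ∈ S, s ∈ W) (hne : S ≠ ⊥)
    (hinv : ∀ u ∈ W, ⟪u, u⟫ = 0 → InvAt hF S u) : ∀ x ∈ W, x ∈ S := by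
  obtain ⟨e₁, he₁W, he₁0, he₁⟩ := exists_iso_in hF hW (by omega)
  obtain ⟨f₁, hP₁⟩ := HP.exists_of_iso hF hW he₁W he₁0 he₁
  obtain ⟨s, hs, hs0⟩ : ∃ s ∈ S, s ≠ 0 := by
    by_contra! h
    exact hne ((AddSubgroup.eq_bot_iff_forall _).2 h)
  obtain ⟨x₁, hx₁W, hx₁, hsx₁⟩ : ∃ x ∈ W, ⟪x, x⟫ = 0 ∧ ⟪s, x⟫ ≠ 0 := by
    by_contra! h
    refine hs0 (hW s (hS s hs) fun y hy => ?_)
    have he' := h e₁ he₁W he₁
    have hf' := h f₁ hP₁.fW hP₁.ff
    have hk := hP₁.decomp hy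
    set k := y - ⟪y, f₁⟫ • e₁ - ⟪y, e₁⟫ • f₁ with hkdef
    obtain ⟨t, ht⟩ := exists_trace hF (a := -⟪k, k⟫) (by rw [neg_pow_q hF, herm_self_pow hF])
    have h' := h (t • e₁ + f₁ + k) (W.add_mem (W.add_mem (W.smul_mem _ he₁W) hP₁.fW)
      (pairPerp_le hk)) (by
        simp only [herm_add_left, herm_add_right hF, herm_smul_left, herm_smul_right, he₁,
          hP₁.ff, hP₁.ef, hP₁.fe, perp_e hk, perp_f hk, e_perp hF hk, f_perp hF hk]
        linear_combination ht)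
    rw [herm_add_right hF, herm_add_right hF, herm_smul_right, he', hf', mul_zero, zero_add,
      zero_add, hkdef, herm_sub_right hF, herm_sub_right hF, herm_smul_right, herm_smul_right,
      he', hf', mul_zero, mul_zero, sub_zero, sub_zero] at h'
    exact h'
  -- the vector `e`
  set e := (c0 hF * 1 * ⟪s, x₁⟫) • x₁ with he_def
  have heS : e ∈ S := hinv x₁ hx₁W hx₁ ⟨1, (mem_fixedSet hF).2 (one_pow q)⟩ s hs
  have he : ⟪e, e⟫ = 0 := herm_smul_smul_zero hx₁ _ _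
  have heW : e ∈ W := W.smul_mem _ hx₁W
  have hx₁0 : x₁ ≠ 0 := fun h => hsx₁ (by rw [h, herm_zero_right hF])
  have he0 : e ≠ 0 := smul_ne_zero
    (mul_ne_zero (mul_ne_zero (c0_ne hF) one_ne_zero) hsx₁) hx₁0
  obtain ⟨f, hP⟩ := HP.exists_of_iso hF hW heW he0 he
  have hne' : pairPerp q W e f ≠ ⊥ := fun h => by
    have := hP.finrank hF
    rw [h, finrank_bot] at this
    omega
  have hiso : ∀ t k, k ∈ pairPerp q W e f → t + t ^ q + ⟪k, k⟫ = 0 →
      t • e + f + k ∈ W ∧ ⟪t • e + f + k, t • e + f + k⟫ = 0 ∧ ⟪e, t • e + f + k⟫ = 1 ∧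
        ⟪t • e + f + k, f⟫ = t := by
    intro t k hk ht
    refine ⟨W.add_mem (W.add_mem (W.smul_mem _ heW) hP.fW) (pairPerp_le hk), ?_, ?_, ?_⟩ <;>
      simp only [herm_add_left, herm_add_right hF, herm_smul_left, herm_smul_right, he, hP.ff,
        hP.ef, hP.fe, perp_e hk, perp_f hk, e_perp hF hk, f_perp hF hk]
    · linear_combination ht
    · ring
    · ring
  have h1 : ∀ r : F, r ^ q = r → c0 hF * r ∈ lineIn S f := fun r hr => by
    have := (hinv f hP.fW hP.ff).line hF (a := 1) (y := e) (by rwa [one_smul]) hr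
    rwa [hP.ef, mul_one, mul_one] at this
  have hx : ∀ t k, k ∈ pairPerp q W e f → t + t ^ q + ⟪k, k⟫ = 0 → ∀ a : F, a • e ∈ S →
      ∀ r : F, r ^ q = r → c0 hF * r * a ∈ lineIn S (t • e + f + k) := by
    intro t k hk ht a ha r hr
    obtain ⟨hW', hi, hexx, -⟩ := hiso t k hk ht
    have := (hinv _ hW' hi).line hF ha hr
    rwa [hexx, mul_one] at this
  obtain ⟨k₀, hk₀, hk₀n⟩ :=
    exists_norm_in hF (hP.nondeg hF hW) hne' (one_pow q) one_ne_zero
  obtain ⟨t₀, ht₀⟩ := exists_trace hF (a := -(1 : F)) (by rw [neg_pow_q hF, one_pow])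
  have ht₀' : t₀ + t₀ ^ q + ⟪k₀, k₀⟫ = 0 := by rw [hk₀n]; linear_combination ht₀
  have htr : t₀ + t₀ ^ q ≠ 0 := by
    rw [show t₀ + t₀ ^ q = -1 by linear_combination ht₀]; exact neg_ne_zero.2 one_ne_zero
  have hf : ∀ a : F, a ∈ lineIn S f := by
    intro a
    obtain ⟨r, u, hr, hu, rfl⟩ := exists_fixed_comb hF htr a
    refine AddSubgroup.add_mem _ ?_ (by rw [mul_comm]; exact h1 u hu)
    obtain ⟨-, -, -, hxf⟩ := hiso t₀ k₀ hk₀ ht₀'
    have hone : (1 : F) • e ∈ S := by rwa [one_smul]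
    have h2 := (hinv f hP.fW hP.ff).line hF
      (mem_lineIn.1 (hx t₀ k₀ hk₀ ht₀' 1 hone 1 (one_pow q)))
      (r := r / (c0 hF * c0 hF)) (by
        rw [div_pow, hr, mul_pow, show c0 hF ^ q = -c0 hF by linear_combination c0_skew hF,
          neg_mul_neg])
    rw [hxf] at h2
    convert h2 using 1
    field_simp [c0_ne hF]
  have hE : ∀ a : F, a • e ∈ S := by
    intro a
    have := (hinv e heW he).line hF (mem_lineIn.1 (hf (a / c0 hF))) (one_pow q)
    rwa [hP.fe, mul_one, mul_one, mul_div_cancel₀ _ (c0_ne hF)] at this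
  intro x hxW
  have hk := hP.decomp hxW
  set k := x - ⟪x, f⟫ • e - ⟪x, e⟫ • f with hkdef
  obtain ⟨t, ht⟩ := exists_trace hF (a := -⟪k, k⟫) (by rw [neg_pow_q hF, herm_self_pow hF])
  have ht' : t + t ^ q + ⟪k, k⟫ = 0 := by linear_combination ht
  have h3 := hx t k hk ht' _ (hE (c0 hF)⁻¹) 1 (one_pow q)
  rw [mul_one, mul_inv_cancel₀ (c0_ne hF), mem_lineIn, one_smul] at h3
  have hkS : k ∈ S := by
    have h4 := S.sub_mem (S.sub_mem h3 (hE t)) (mem_lineIn.1 (hf 1))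
    rw [one_smul] at h4
    convert h4 using 1
    abel
  have := S.add_mem (S.add_mem hkS (hE ⟪x, f⟫)) (mem_lineIn.1 (hf ⟪x, e⟫))
  convert this using 1
  rw [hkdef]
  abel

/-- A subgroup invariant at the two vectors of a hyperbolic basis of a plane. -/
theorem real_of_inv_two (hd : Module.finrank F W = 2) (hP : HP q W e f)
    {S : AddSubgroup (Fin n → F)} (hS : ∀ s ∈ S, s ∈ W) (hne : S ≠ ⊥)
    (he : InvAt hF S e) (hf : InvAt hF S f) :
    ∃ a : F, a ≠ 0 ∧ ∀ r s : F, r ^ q = r → s ^ q = s → a • (r • e + (c0 hF * s) • f) ∈ S := by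
  have hW' : pairPerp q W e f = ⊥ := Submodule.finrank_eq_zero.1 (by
    have := hP.finrank hF; omega)
  obtain ⟨s, hs, hs0⟩ : ∃ s ∈ S, s ≠ 0 := by
    by_contra! h
    exact hne ((AddSubgroup.eq_bot_iff_forall _).2 h)
  obtain ⟨a, ha, h⟩ : ∃ a : F, a ≠ 0 ∧ ∀ r : F, r ^ q = r → r * a ∈ lineIn S e := by
    by_cases hse : ⟪s, e⟫ = 0
    · have hsf : ⟪s, f⟫ ≠ 0 := by
        intro hsf
        refine hs0 ?_
        have := hP.decomp (hS s hs)
        rw [hW', Submodule.mem_bot, hse, hsf, zero_smul, zero_smul, sub_zero, sub_zero] at this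
        exact this
      refine ⟨c0 hF * c0 hF * ⟪s, f⟫, mul_ne_zero (mul_ne_zero (c0_ne hF) (c0_ne hF)) hsf,
        fun r hr => ?_⟩
      have h1 := hf.line hF (a := 1) (by rwa [one_smul]) (one_pow q)
      have h2 := he.line hF (mem_lineIn.1 h1) hr
      rw [hP.fe] at h2
      convert h2 using 1
      ring
    · refine ⟨c0 hF * ⟪s, e⟫, mul_ne_zero (c0_ne hF) hse, fun r hr => ?_⟩
      have h1 := he.line hF (a := 1) (by rwa [one_smul]) hr
      convert h1 using 1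
      ring
  refine ⟨a, ha, fun r u hr hu => ?_⟩
  rw [smul_add, smul_smul, smul_smul]
  refine S.add_mem (by rw [mul_comm]; exact mem_lineIn.1 (h r hr)) ?_
  have h2 := hf.line hF (mem_lineIn.1 (h 1 (one_pow q))) hu
  rw [hP.ef, mem_lineIn] at h2
  convert h2 using 2
  ring

end Cfsg.Agent.MinIndexUnit19
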