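import Mathlib
import Cfsg.Agent.Lib.MinIndexUnit19Root

/-!
The alternating form `Im h` on a nondegenerate subspace: annihilators of additive subgroups, and
multiples of a subgroup of the fixed field.
-/

set_option autoImplicit false

namespace Cfsg.Agent.MinIndexUnit19

open Cfsg Cfsg.Agent.OrthUnitaryHerm Cfsg.Agent.OrthUnitaryTransvection
  Cfsg.Agent.SUMinDegree32Geom

variable {F : Type*} [Field F] [Fintype F] {q n : ℕ}
variable {W : Submodule F (Fin n → F)}

local notation "⟪" x ", " y "⟫" => hermForm n F q x y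

variable (hF : Fintype.card F = q ^ 2)
include hF

theorem c0_pow : c0 hF ^ q = -c0 hF := by linear_combination c0_skew hF

theorem c0_sq_pow : (c0 hF * c0 hF) ^ q = c0 hF * c0 hF := by
  rw [mul_pow, c0_pow, neg_mul_neg]

/-- The commutator pairing of Eichler transformations. -/
noncomputable def bf (w w' : Fin n → F) : fixedSet hF :=
  ⟨(hermForm n F q w' w - hermForm n F q w w') / c0 hF, (mem_fixedSet hF).2 (by
    rw [div_pow, sub_pow_q hF, ← herm_conj hF, ← herm_conj hF, c0_pow, div_neg, ← neg_div,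
      neg_sub])⟩

theorem c0_mul_bf (w w' : Fin n → F) :
    c0 hF * (bf hF w w' : F) = ⟪w', w⟫ - ⟪w, w'⟫ := mul_div_cancel₀ _ (c0_ne hF)

theorem bf_zero_left (w : Fin n → F) : bf hF 0 w = 0 := by
  refine Subtype.ext ?_
  simp only [bf, herm_zero_left, herm_zero_right hF, sub_self, zero_div, AddSubgroup.coe_zero]

theorem bf_zero_right (w : Fin n → F) : bf hF w 0 = 0 := by
  refine Subtype.ext ?_
  simp only [bf, herm_zero_left, herm_zero_right hF, sub_self, zero_div, AddSubgroup.coe_zero]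

theorem bf_add_left (v w x : Fin n → F) : bf hF (v + w) x = bf hF v x + bf hF w x := by
  refine Subtype.ext ?_
  simp only [bf, herm_add_left, herm_add_right hF, AddSubgroup.coe_add]
  ring

theorem bf_add_right (v w x : Fin n → F) : bf hF x (v + w) = bf hF x v + bf hF x w := by
  refine Subtype.ext ?_
  simp only [bf, herm_add_left, herm_add_right hF, AddSubgroup.coe_add]
  ring

theorem bf_neg_comm (w x : Fin n → F) : bf hF x w = -bf hF w x := by
  refine Subtype.ext ?_
  simp only [bf, AddSubgroup.coe_neg]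
  ring

theorem bf_act (g : SU n F q) (w x : Fin n → F) : bf hF (act g w) (act g x) = bf hF w x := by
  refine Subtype.ext ?_
  simp only [bf, herm_act]

theorem exists_bf_eq (hW : Nondeg q W) {s : Fin n → F} (hs : s ∈ W) (hs0 : s ≠ 0)
    (r : fixedSet hF) : ∃ y ∈ W, bf hF y s = r := by
  obtain ⟨b, hb⟩ := exists_trace hF (one_pow q : (1 : F) ^ q = 1)
  obtain ⟨y, hyW, hy⟩ := exists_herm_eq_in hF hW hs hs0 (-(c0 hF * r * b))
  refine ⟨y, hyW, Subtype.ext ?_⟩
  show (⟪s, y⟫ - ⟪y, s⟫) / c0 hF = r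
  rw [herm_conj hF y s, hy, neg_pow_q hF, mul_pow, mul_pow, r.2, c0_pow hF,
    div_eq_iff (c0_ne hF)]
  linear_combination (c0 hF * (r : F)) * hb

/-- The annihilator of `S` in `W` for the pairing followed by `ψ`. -/
noncomputable def annS (W : Submodule F (Fin n → F)) (S : AddSubgroup (Fin n → F))
    (ψ : AddChar (fixedSet hF) ℂ) : AddSubgroup (Fin n → F) where
  carrier := {w | w ∈ W ∧ ∀ s ∈ S, ψ (bf hF w s) = 1}
  zero_mem' := ⟨W.zero_mem, fun s _ => by rw [bf_zero_left, AddChar.map_zero_eq_one]⟩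
  add_mem' := fun {a b} ha hb => ⟨W.add_mem ha.1 hb.1, fun s hs => by
    rw [bf_add_left, AddChar.map_add_eq_mul, ha.2 s hs, hb.2 s hs, mul_one]⟩
  neg_mem' := fun {a} ha => ⟨W.neg_mem ha.1, fun s hs => by
    have h : bf hF (-a) s + bf hF a s = 0 := by
      rw [← bf_add_left, neg_add_cancel, bf_zero_left]
    have h' := congrArg ψ h
    rwa [AddChar.map_add_eq_mul, AddChar.map_zero_eq_one, ha.2 s hs, mul_one] at h'⟩

theorem mem_annS {S : AddSubgroup (Fin n → F)} {ψ : AddChar (fixedSet hF) ℂ} {w : Fin n → F} :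
    w ∈ annS hF W S ψ ↔ w ∈ W ∧ ∀ s ∈ S, ψ (bf hF w s) = 1 := Iff.rfl

/-- A subgroup and its annihilator have complementary orders. -/
theorem card_mul_annS (hW : Nondeg q W) {S : AddSubgroup (Fin n → F)} (hS : ∀ s ∈ S, s ∈ W)
    {ψ : AddChar (fixedSet hF) ℂ} (hψ : ψ ≠ 0) :
    Nat.card S * Nat.card (annS hF W S ψ) = Nat.card W := by
  classical
  have := Fintype.ofFinite W
  have := Fintype.ofFinite S
  have := Fintype.ofFinite (annS hF W S ψ)
  let L : S → AddChar W ℂ := fun s =>
    { toFun := fun w => ψ (bf hF (w : Fin n → F) (s : Fin n → F))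
      map_zero_eq_one' := by rw [ZeroMemClass.coe_zero, bf_zero_left, AddChar.map_zero_eq_one]
      map_add_eq_mul' := fun a b => by
        rw [Submodule.coe_add, bf_add_left, AddChar.map_add_eq_mul] }
  let R : W → AddChar S ℂ := fun w =>
    { toFun := fun s => ψ (bf hF (w : Fin n → F) (s : Fin n → F))
      map_zero_eq_one' := by rw [ZeroMemClass.coe_zero, bf_zero_right, AddChar.map_zero_eq_one]
      map_add_eq_mul' := fun a b => by
        rw [AddSubgroup.coe_add, bf_add_right, AddChar.map_add_eq_mul] }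
  have hL : ∀ s : S, L s = 0 ↔ s = 0 := fun s => by
    constructor
    · intro h
      by_contra hs
      obtain ⟨r, hr⟩ := AddChar.ne_zero_iff.1 hψ
      obtain ⟨y, hy, hyr⟩ := exists_bf_eq hF hW (hS _ s.2)
        (fun h0 => hs (Subtype.ext h0)) r
      exact hr (by rw [← hyr]; exact DFunLike.congr_fun h ⟨y, hy⟩)
    · rintro rfl
      refine DFunLike.ext _ _ fun w => ?_
      show ψ (bf hF (w : Fin n → F) ((0 : S) : Fin n → F)) = _
      rw [ZeroMemClass.coe_zero, bf_zero_right, AddChar.map_zero_eq_one, AddChar.zero_apply]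
  have hR : ∀ w : W, R w = 0 ↔ (w : Fin n → F) ∈ annS hF W S ψ := fun w => by
    rw [DFunLike.ext_iff, mem_annS]
    exact ⟨fun h => ⟨w.2, fun s hs => h ⟨s, hs⟩⟩, fun h s => h.2 s s.2⟩
  have h1 : ∑ s : S, ∑ w : W, L s w = (Fintype.card W : ℂ) := by
    simp only [AddChar.sum_eq_ite, hL, Finset.sum_ite_eq', Finset.mem_univ, if_true]
  have h2 : ∑ w : W, ∑ s : S, R w s =
      ((Fintype.card S * Fintype.card (annS hF W S ψ) : ℕ) : ℂ) := by
    simp only [AddChar.sum_eq_ite, hR, ← Finset.sum_filter, Finset.sum_const]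
    rw [nsmul_eq_mul, mul_comm, Nat.cast_mul]
    congr 2
    rw [← Fintype.card_subtype]
    exact Fintype.card_congr
      { toFun := fun w => ⟨(w.1 : Fin n → F), w.2⟩
        invFun := fun w => ⟨⟨(w : Fin n → F), w.2.1⟩, w.2⟩
        left_inv := fun _ => rfl
        right_inv := fun _ => rfl }
  rw [Nat.card_eq_fintype_card, Nat.card_eq_fintype_card, Nat.card_eq_fintype_card]
  apply Nat.cast_injective (R := ℂ)
  rw [← h1, ← h2, Finset.sum_comm]
  rfl

/-- Isotropy for the pairing modulo `P`. -/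
def Isot (P : AddSubgroup (fixedSet hF)) (S : AddSubgroup (Fin n → F)) : Prop :=
  ∀ w ∈ S, ∀ w' ∈ S, bf hF w w' ∈ P

theorem exists_char {P : AddSubgroup (fixedSet hF)} (hP : P ≠ ⊤) :
    ∃ ψ : AddChar (fixedSet hF) ℂ, ψ ≠ 0 ∧ ∀ r ∈ P, ψ r = 1 := by
  obtain ⟨r₀, hr₀⟩ : ∃ r, r ∉ P := by
    by_contra! h
    exact hP ((AddSubgroup.eq_top_iff' P).2 h)
  have h0 : (QuotientAddGroup.mk' P r₀) ≠ 0 := by
    rwa [Ne, QuotientAddGroup.mk'_apply, QuotientAddGroup.eq_zero_iff]
  obtain ⟨χ, hχ⟩ := AddChar.exists_apply_ne_zero.2 h0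
  refine ⟨χ.compAddMonoidHom (QuotientAddGroup.mk' P), AddChar.ne_zero_iff.2 ⟨r₀, hχ⟩,
    fun r hr => ?_⟩
  rw [AddChar.compAddMonoidHom_apply, QuotientAddGroup.mk'_apply,
    (QuotientAddGroup.eq_zero_iff r).2 hr, AddChar.map_zero_eq_one]

/-- An isotropic subgroup has at most the square root of the order. -/
theorem Isot.card_sq_le (hW : Nondeg q W) {P : AddSubgroup (fixedSet hF)} (hP : P ≠ ⊤)
    {S : AddSubgroup (Fin n → F)} (hS : ∀ s ∈ S, s ∈ W) (hI : Isot hF P S) :
    Nat.card S ^ 2 ≤ Nat.card W := by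
  obtain ⟨ψ, hψ, hψP⟩ := exists_char hF hP
  rw [← card_mul_annS hF hW hS hψ, sq]
  refine Nat.mul_le_mul le_rfl (Nat.card_le_card_of_injective
    (fun s : S => (⟨(s : Fin n → F), ⟨hS _ s.2, fun s' hs' => hψP _ (hI _ s.2 _ hs')⟩⟩ :
      annS hF W S ψ)) fun a b h => ?_)
  exact Subtype.ext (congrArg (fun x : annS hF W S ψ => (x : Fin n → F)) h)

/-! ### Multiples of a subgroup of the fixed field -/

/-- `a • P` for `a` in the fixed field. -/
noncomputable def scaleP (a : fixedSet hF) (P : AddSubgroup (fixedSet hF)) :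
    AddSubgroup (fixedSet hF) :=
  P.map
    ({ toFun := fun r => ⟨(a : F) * r.1, (mem_fixedSet hF).2 (by rw [mul_pow, a.2, r.2])⟩
       map_zero' := Subtype.ext (mul_zero _)
       map_add' := fun _ _ => Subtype.ext (mul_add _ _ _) } : fixedSet hF →+ fixedSet hF)

theorem mem_scaleP {a : fixedSet hF} {P : AddSubgroup (fixedSet hF)} {x : fixedSet hF} :
    x ∈ scaleP hF a P ↔ ∃ r ∈ P, (a : F) * r = x := by
  simp [scaleP, AddSubgroup.mem_map, Subtype.ext_iff]

theorem card_scaleP {a : fixedSet hF} (ha : a ≠ 0) (P : AddSubgroup (fixedSet hF)) :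
    Nat.card (scaleP hF a P) = Nat.card P :=
  (Nat.card_congr (P.equivMapOfInjective _ fun x y h =>
    Subtype.ext (mul_left_cancel₀ (fun h0 => ha (Subtype.ext h0))
      (congrArg Subtype.val h))).toEquiv).symm

/-- Multiplication in the fixed field. -/
def mulF (a r : fixedSet hF) : fixedSet hF :=
  ⟨(a : F) * r, (mem_fixedSet hF).2 (by rw [mul_pow, a.2, r.2])⟩

theorem mulF_mem {a r : fixedSet hF} {P : AddSubgroup (fixedSet hF)} (hr : r ∈ P) :
    mulF hF a r ∈ scaleP hF a P := (mem_scaleP hF).2 ⟨r, hr, rfl⟩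

/-- At most `index - 1` nonzero multipliers preserve a proper subgroup. -/
theorem card_stabP_le {P : AddSubgroup (fixedSet hF)} (htop : P ≠ ⊤) :
    Nat.card {a : fixedSet hF // a ≠ 0 ∧ ∀ r ∈ P, mulF hF a r ∈ P} ≤ P.index - 1 := by
  classical
  obtain ⟨x₀, hx₀⟩ : ∃ r, r ∉ P := by
    by_contra! h
    exact htop ((AddSubgroup.eq_top_iff' P).2 h)
  have key : ∀ d : fixedSet hF, d ≠ 0 → (∀ r ∈ P, mulF hF d r ∈ P) → mulF hF d x₀ ∉ P := by
    intro d hd hdP hmem
    have hinj : Function.Injective (fun r : P => (⟨mulF hF d r, hdP _ r.2⟩ : P)) := fun a b h =>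
      Subtype.ext (Subtype.ext (mul_left_cancel₀ (fun h0 => hd (Subtype.ext h0))
        (congrArg (fun x : P => ((x : fixedSet hF) : F)) h)))
    obtain ⟨r, hr⟩ := (Finite.injective_iff_surjective.1 hinj) ⟨_, hmem⟩
    have : (r : fixedSet hF) = x₀ := Subtype.ext (mul_left_cancel₀ (fun h0 => hd (Subtype.ext h0))
      (congrArg (fun x : P => ((x : fixedSet hF) : F)) hr))
    exact hx₀ (this ▸ r.2)
  let m : {a : fixedSet hF // a ≠ 0 ∧ ∀ r ∈ P, mulF hF a r ∈ P} →
      {c : fixedSet hF ⧸ P // c ≠ 0} := fun a => ⟨QuotientAddGroup.mk (mulF hF a.1 x₀), fun h =>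
    key a.1 a.2.1 a.2.2 ((QuotientAddGroup.eq_zero_iff _).1 h)⟩
  have hm : Function.Injective m := fun a b h => by
    by_contra hne
    have h1 := QuotientAddGroup.eq.1 (congrArg Subtype.val h)
    have hsub : ∀ r, mulF hF (b.1 - a.1) r = -mulF hF a.1 r + mulF hF b.1 r := fun r =>
      Subtype.ext (by simp only [mulF, AddSubgroup.coe_sub, AddSubgroup.coe_add,
        AddSubgroup.coe_neg]; ring)
    refine key (b.1 - a.1) (fun h0 => hne (Subtype.ext (sub_eq_zero.1 h0).symm))
      (fun r hr => ?_) (by rw [hsub]; exact h1)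
    rw [hsub]
    exact P.add_mem (P.neg_mem (a.2.2 r hr)) (b.2.2 r hr)
  refine (Nat.card_le_card_of_injective m hm).trans (le_of_eq ?_)
  have := Fintype.ofFinite (fixedSet hF ⧸ P)
  rw [Nat.card_eq_fintype_card, Fintype.card_subtype_compl, Fintype.card_subtype_eq,
    AddSubgroup.index, Nat.card_eq_fintype_card]

/-- The number of multiples of a proper nonzero subgroup. -/
theorem succ_le_index_mul_scaleP {P : AddSubgroup (fixedSet hF)} (hbot : P ≠ ⊥) (htop : P ≠ ⊤) :
    q + 1 ≤ P.index *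
      Nat.card (Set.range fun a : {a : fixedSet hF // a ≠ 0} => scaleP hF a.1 P) := by
  classical
  have := Fintype.ofFinite {a : fixedSet hF // a ≠ 0}
  set N := Nat.card (Set.range fun a : {a : fixedSet hF // a ≠ 0} => scaleP hF a.1 P) with hN
  have hq1 : Fintype.card {a : fixedSet hF // a ≠ 0} + 1 = q := by
    have := card_fixedSet hF
    rw [Nat.card_eq_fintype_card] at this
    rw [Fintype.card_subtype_compl, Fintype.card_subtype_eq, this]
    have := two_le_q hF
    omega
  have hfib : Fintype.card {a : fixedSet hF // a ≠ 0} ≤ (P.index - 1) * N := by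
    rw [hN, Nat.card_coe_set_eq, Set.ncard_eq_toFinset_card', Set.toFinset_range]
    refine Finset.card_le_mul_card_image _ _ fun Y hY => ?_
    obtain ⟨a₁, -, ha₁⟩ := Finset.mem_image.1 hY
    have h1 : (a₁.1 : F) ≠ 0 := fun h => a₁.2 (Subtype.ext h)
    refine le_trans ?_ (card_stabP_le hF htop)
    rw [Nat.card_eq_fintype_card, Fintype.card_subtype]
    refine Finset.card_le_card_of_injOn (fun a => (⟨(a.1 : F) / a₁.1, (mem_fixedSet hF).2
      (by rw [div_pow, a.1.2, a₁.1.2])⟩ : fixedSet hF)) (fun a ha => ?_) fun a _ b _ hab => ?_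
    · have ha' : scaleP hF a.1 P = Y := (Finset.mem_filter.1 ha).2
      rw [Finset.mem_coe, Finset.mem_filter]
      refine ⟨Finset.mem_univ _, fun h0 => ?_, fun r hr => ?_⟩
      · exact a.2 (Subtype.ext ((div_eq_zero_iff.1 (congrArg Subtype.val h0)).resolve_right h1))
      · have := mulF_mem hF (a := a.1) hr
        rw [ha', ← ha₁] at this
        obtain ⟨r', hr', he⟩ := (mem_scaleP hF).1 this
        have he' : (a₁.1 : F) * r' = (a.1 : F) * r := he
        convert hr' using 1
        refine Subtype.ext ?_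
        show (a.1 : F) / a₁.1 * r = r'
        rw [div_mul_eq_mul_div, ← he', mul_div_cancel_left₀ _ h1]
    · exact Subtype.ext (Subtype.ext (mul_right_cancel₀ (inv_ne_zero h1)
        (by simpa [div_eq_mul_inv] using congrArg Subtype.val hab)))
  have hmul := AddSubgroup.card_mul_index P
  rw [card_fixedSet hF] at hmul
  have hP2 : 2 ≤ Nat.card P := by
    have := (AddSubgroup.nontrivial_iff_ne_bot P).2 hbot
    exact Finite.one_lt_card
  have h2j : 2 * P.index ≤ q := le_trans (Nat.mul_le_mul_right _ hP2) hmul.le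
  have hj : P.index ≠ 0 := AddSubgroup.index_ne_zero_of_finite
  by_contra hlt
  obtain ⟨i, hi⟩ : ∃ i, P.index = i + 1 := ⟨P.index - 1, by omega⟩
  rw [hi] at hlt hfib h2j
  simp only [Nat.add_sub_cancel] at hfib
  have hexp : (i + 1) * N = i * N + N := by ring
  rcases Nat.lt_or_ge N 2 with hN2 | hN2
  · interval_cases N <;> omega
  · omega

end Cfsg.Agent.MinIndexUnit19
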