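import Mathlib
import Cfsg.Agent.Lib.SUMinDegree32Eigen
import Cfsg.Agent.Lib.SUMinDegree32Geom

/-!
Lower bound for the degree of nontrivial complex representations of `SU n q`, by induction along
isotropic vectors.
-/

set_option autoImplicit false
set_option maxHeartbeats 800000

namespace Cfsg.Agent.SUMinDegree32

open Cfsg.Agent.OrthUnitaryHerm Cfsg.Agent.OrthUnitaryTransvection Cfsg.Agent.OrthUnitaryPSU
open Cfsg.Agent.SUMinDegree32Eigen Cfsg.Agent.SUMinDegree32Geom

/-- The recursively defined bound. -/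
def bnd (q : ℕ) : ℕ → ℕ
  | 0 => 0
  | 1 => 0
  | m + 2 => (q - 1) * q ^ m + bnd q m

theorem bnd_spec {q : ℕ} (hq : 1 ≤ q) : ∀ m : ℕ,
    (q + 1) * bnd q m + (if Even m then 1 else q) = q ^ m
  | 0 => by simp [bnd]
  | 1 => by simp [bnd]
  | m + 2 => by
    have ih := bnd_spec hq m
    obtain ⟨p, rfl⟩ : ∃ p, q = p + 1 := ⟨q - 1, by omega⟩
    have hev : Even (m + 2) ↔ Even m := by simp [Nat.even_add]
    simp only [bnd, hev, Nat.add_sub_cancel]
    rw [pow_add]
    linear_combination ih

variable {F : Type*} [Field F] [Fintype F] {q : ℕ} {n : ℕ}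

/-! ### Characters of the fixed field -/

variable (hF : Fintype.card F = q ^ 2)

theorem exists_lam0 : ∃ (l : AddChar (fixedSet hF) ℂ) (a : fixedSet hF), l a ≠ 1 := by
  have h1 : (⟨1, (mem_fixedSet hF).2 (one_pow q)⟩ : fixedSet hF) ≠ 0 := fun h =>
    one_ne_zero (congrArg Subtype.val h)
  obtain ⟨l, hl⟩ := AddChar.exists_apply_ne_zero.2 h1
  exact ⟨l, _, hl⟩

/-- A fixed nontrivial character of the fixed field. -/
noncomputable def lam0 : AddChar (fixedSet hF) ℂ := (exists_lam0 hF).choose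

theorem lam0_ne : ∃ a, lam0 hF a ≠ 1 := (exists_lam0 hF).choose_spec

/-- Multiplication in the fixed field. -/
def mulFix (a : fixedSet hF) : fixedSet hF →+ fixedSet hF where
  toFun r := ⟨(a : F) * r, (mem_fixedSet hF).2 (by rw [mul_pow, a.2, r.2])⟩
  map_zero' := Subtype.ext (mul_zero _)
  map_add' _ _ := Subtype.ext (mul_add _ _ _)

/-- The character `r ↦ lam0 (a * r)`. -/
noncomputable def lam (a : fixedSet hF) : AddChar (fixedSet hF) ℂ :=
  (lam0 hF).compAddMonoidHom (mulFix hF a)

theorem lam_apply (a r : fixedSet hF) : lam hF a r = lam0 hF (mulFix hF a r) := rfl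

theorem lam_zero : lam hF 0 = 0 := by
  ext r
  rw [lam_apply, show mulFix hF 0 r = 0 from Subtype.ext (zero_mul _), AddChar.map_zero_eq_one,
    AddChar.zero_apply]

theorem lam_bijective : Function.Bijective (lam hF) := by
  classical
  have hinj : Function.Injective (lam hF) := by
    intro a b h
    by_contra hne
    obtain ⟨s, hs⟩ := lam0_ne hF
    apply hs
    have hab : (a : F) - b ≠ 0 := fun e => hne (Subtype.ext (sub_eq_zero.1 e))
    set r : fixedSet hF := ⟨(s : F) / ((a : F) - b), (mem_fixedSet hF).2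
      (by rw [div_pow, sub_pow_q hF, a.2, b.2, s.2])⟩ with hr
    have e : mulFix hF a r = mulFix hF b r + s := by
      refine Subtype.ext ?_
      show (a : F) * (s / ((a : F) - b)) = (b : F) * (s / ((a : F) - b)) + s
      field_simp
      ring
    have h1 := DFunLike.congr_fun h r
    rw [lam_apply, lam_apply, e, AddChar.map_add_eq_mul] at h1
    exact mul_eq_left₀ (AddChar.val_isUnit _ _).ne_zero |>.1 h1
  rw [Fintype.bijective_iff_injective_and_card]
  exact ⟨hinj, AddChar.card_eq.symm⟩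

theorem exists_eq_lam (ψ : AddChar (fixedSet hF) ℂ) : ∃ a, lam hF a = ψ :=
  (lam_bijective hF).2 ψ

theorem lam_ne_zero {a : fixedSet hF} (ha : a ≠ 0) : lam hF a ≠ 0 := fun h =>
  ha ((lam_bijective hF).1 (h.trans (lam_zero hF).symm))

/-! ### The setting -/

variable {V : Type*} [AddCommGroup V] [Module ℂ V] (ρ : Representation ℂ (SU n F q) V)

/-- The operators of a root group. -/
noncomputable def DT {e : Fin n → F} (he : hermForm n F q e e = 0) :
    fixedSet hF → Module.End ℂ V := fun r => ρ (T hF e he r)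

theorem DT_add {e : Fin n → F} (he : hermForm n F q e e = 0) (r s : fixedSet hF) :
    DT hF ρ he (r + s) = DT hF ρ he r * DT hF ρ he s := by
  rw [DT, T_add, map_mul]; rfl

theorem DT_zero {e : Fin n → F} (he : hermForm n F q e e = 0) : DT hF ρ he 0 = 1 := by
  rw [DT, T_zero, map_one]

/-- The eigenspace of a root group. -/
noncomputable def E {e : Fin n → F} (he : hermForm n F q e e = 0)
    (ψ : AddChar (fixedSet hF) ℂ) : Submodule ℂ V := eig (DT hF ρ he) ψ

theorem mem_E {e : Fin n → F} {he : hermForm n F q e e = 0} {ψ : AddChar (fixedSet hF) ℂ}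
    {v : V} : v ∈ E hF ρ he ψ ↔ ∀ r, ρ (T hF e he r) v = ψ r • v := Iff.rfl

theorem mem_E_zero {e : Fin n → F} {he : hermForm n F q e e = 0}
    {v : V} : v ∈ E hF ρ he 0 ↔ ∀ r, ρ (T hF e he r) v = v := mem_eig_zero

omit [Fintype F] in
theorem rho_injective (g : SU n F q) : Function.Injective (ρ g) := fun x y h => by
  have h' := congrArg (ρ g⁻¹) h
  rwa [← Module.End.mul_apply, ← Module.End.mul_apply, ← map_mul, inv_mul_cancel, map_one] at h'

omit [Fintype F] in
theorem finrank_le_of_map [FiniteDimensional ℂ V] (g : SU n F q) {A B : Submodule ℂ V}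
    (h : ∀ v ∈ A, ρ g v ∈ B) : Module.finrank ℂ A ≤ Module.finrank ℂ B :=
  LinearMap.finrank_le_finrank_of_injective (f := (ρ g).restrict h) fun _ _ e =>
    Subtype.ext (rho_injective ρ g (congrArg Subtype.val e))

/-- The hypotheses carried through the induction. -/
structure Good (W : Submodule F (Fin n → F)) (H : Subgroup (SU n F q)) (U : Submodule ℂ V)
    (m : ℕ) : Prop where
  nondeg : Nondeg q W
  dim : Module.finrank F W = m
  fix : ∀ g, FixPerp q W g → g ∈ H
  inv : ∀ g ∈ H, ∀ v ∈ U, ρ g v ∈ U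
  tor : m = 2 → ∀ e ∈ W, e ≠ 0 → hermForm n F q e e = 0 → ∀ t : F, t ≠ 0 →
    ∃ g ∈ H, act g e = t • e
  moving : ∃ e ∈ W, e ≠ 0 ∧ ∃ he : hermForm n F q e e = 0,
    ∃ r, ∃ v ∈ U, ρ (T hF e he r) v ≠ v

variable {W : Submodule F (Fin n → F)} {H : Subgroup (SU n F q)} {U : Submodule ℂ V} {m : ℕ}

theorem Good.exists_tor (hG : Good hF ρ W H U (m + 2)) {e : Fin n → F} (heW : e ∈ W)
    (he0 : e ≠ 0) (he : hermForm n F q e e = 0) {t : F} (ht : t ≠ 0) :
    ∃ g ∈ H, act g e = t • e := by
  rcases Nat.eq_zero_or_pos m with rfl | hm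
  · exact hG.tor rfl e heW he0 he t ht
  · obtain ⟨f, hfW, hff, hfe, hef⟩ := exists_hyp_in hF hG.nondeg heW he0 he
    have hd := finrank_pairPerp hF heW hfW he hff hef hfe
    rw [hG.dim] at hd
    have hne : pairPerp q W e f ≠ ⊥ := fun h => by rw [h, finrank_bot] at hd; omega
    obtain ⟨k, hk, hkk⟩ := exists_norm_in hF (nondeg_pairPerp hF hG.nondeg heW hfW he hff hef hfe)
      hne (one_pow q) one_ne_zero
    obtain ⟨hkW, hke, -⟩ := mem_pairPerp.1 hk
    obtain ⟨g, hg, hge⟩ := exists_torus hF heW hfW hkW ht he hff hef hfe hke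
      (hkk ▸ one_ne_zero)
    exact ⟨g, hG.fix g hg, hge⟩

/-! ### Moving eigenspaces with a torus -/

theorem map_E_of_scale {g : SU n F q} {e : Fin n → F} (he : hermForm n F q e e = 0) {t : F}
    (ht : t ≠ 0) (hge : act g e = t • e) {a b : fixedSet hF} (hab : (a : F) = t ^ q * t * b) {v : V}
    (hv : v ∈ E hF ρ he (lam hF a)) : ρ g v ∈ E hF ρ he (lam hF b) := by
  intro r
  set s : fixedSet hF := ⟨(r : F) / (t ^ q * t), (mem_fixedSet hF).2 (by
    rw [div_pow, mul_pow, pow_q_q hF, r.2, mul_comm])⟩ with hs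
  have htt : t ^ q * t ≠ 0 := mul_ne_zero (pow_ne_zero _ ht) ht
  have hconj : g * T hF e he s = T hF e he r * g := by
    have h := conj_T hF g e he s
    rw [T_congr hF _ (by rw [← hge, herm_act, he]) hge,
      T_smul hF he (by rw [← hge, herm_act, he]) s r (by rw [hs, mul_div_cancel₀ _ htt]),
      mul_inv_eq_iff_eq_mul] at h
    exact h
  show ρ (T hF e he r) (ρ g v) = _
  rw [← Module.End.mul_apply, ← map_mul, ← hconj, map_mul, Module.End.mul_apply]
  show ρ g (DT hF ρ he s v) = _
  rw [hv s, map_smul]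
  congr 1
  rw [lam_apply, lam_apply]
  congr 1
  refine Subtype.ext ?_
  show (a : F) * ((r : F) / (t ^ q * t)) = (b : F) * r
  rw [hab]
  field_simp

/-- Characters with parameters in the same norm class have eigenspaces of equal dimension. -/
theorem finrank_E_eq [FiniteDimensional ℂ V] (hG : Good hF ρ W H U (m + 2)) {e : Fin n → F}
    (heW : e ∈ W) (he0 : e ≠ 0) (he : hermForm n F q e e = 0) {a b : fixedSet hF}
    (ha : a ≠ 0) (hb : b ≠ 0) :
    Module.finrank ℂ ↥(U ⊓ E hF ρ he (lam hF a)) =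
      Module.finrank ℂ ↥(U ⊓ E hF ρ he (lam hF b)) := by
  suffices h : ∀ a b : fixedSet hF, a ≠ 0 → b ≠ 0 →
      Module.finrank ℂ ↥(U ⊓ E hF ρ he (lam hF a)) ≤
        Module.finrank ℂ ↥(U ⊓ E hF ρ he (lam hF b)) from le_antisymm (h a b ha hb) (h b a hb ha)
  intro a b ha hb
  have hbF : (b : F) ≠ 0 := fun e => hb (Subtype.ext e)
  obtain ⟨t, ht⟩ := exists_norm_eq hF (a := (a : F) / b) (by rw [div_pow, a.2, b.2])
  have hab : (a : F) = t ^ q * t * b := by rw [← pow_succ, ht, div_mul_cancel₀ _ hbF]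
  have ht0 : t ≠ 0 := fun h => ha (Subtype.ext (by rw [hab, h, mul_zero, zero_mul]; rfl))
  obtain ⟨g, hg, hge⟩ := hG.exists_tor hF ρ heW he0 he ht0
  exact finrank_le_of_map ρ g fun v hv =>
    ⟨hG.inv g hg v hv.1, map_E_of_scale hF ρ he ht0 hge hab hv.2⟩

/-- The nontrivial eigenspaces together with the fixed space. -/
theorem sum_le [FiniteDimensional ℂ V] (hG : Good hF ρ W H U (m + 2)) {e : Fin n → F}
    (heW : e ∈ W) (he0 : e ≠ 0) (he : hermForm n F q e e = 0) {a : fixedSet hF} (ha : a ≠ 0) :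
    (q - 1) * Module.finrank ℂ ↥(U ⊓ E hF ρ he (lam hF a)) +
      Module.finrank ℂ ↥(U ⊓ E hF ρ he 0) ≤ Module.finrank ℂ ↥U := by
  classical
  refine le_trans (le_of_eq ?_) (sum_finrank_le (DT hF ρ he) U Finset.univ)
  rw [← Finset.add_sum_erase _ _ (Finset.mem_univ (0 : AddChar (fixedSet hF) ℂ)), add_comm]
  congr 1
  rw [Finset.sum_congr rfl (g := fun _ => Module.finrank ℂ ↥(U ⊓ E hF ρ he (lam hF a)))]
  · rw [Finset.sum_const, Finset.card_erase_of_mem (Finset.mem_univ _), Finset.card_univ,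
      AddChar.card_eq, ← Nat.card_eq_fintype_card, card_fixedSet hF, smul_eq_mul]
  · intro ψ hψ
    obtain ⟨b, rfl⟩ := exists_eq_lam hF ψ
    refine finrank_E_eq hF ρ hG heW he0 he (fun h => ?_) ha
    rw [h, lam_zero] at hψ
    exact (Finset.ne_of_mem_erase hψ) rfl

/-! ### The Heisenberg group -/

/-- The group of Eichler transformations at `e` with parameter in `W'`. -/
noncomputable def heis {e : Fin n → F} (he : hermForm n F q e e = 0)
    (W' : Submodule F (Fin n → F)) (hW' : ∀ w ∈ W', hermForm n F q w e = 0) :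
    Subgroup (SU n F q) where
  carrier := {g | ∃ w, ∃ hw : w ∈ W', ∃ μ, ∃ hμ : μ + μ ^ q + hermForm n F q w w = 0,
    g = eich hF e w μ he (hW' w hw) hμ}
  one_mem' := ⟨0, W'.zero_mem, 0, by rw [zero_pow_q hF, herm_zero_left, add_zero, add_zero], by
    apply su_ext
    intro x
    rw [act_one, eich_act]
    simp [herm_zero_right hF]⟩
  mul_mem' := by
    rintro _ _ ⟨w, hw, μ, hμ, rfl⟩ ⟨w', hw', μ', hμ', rfl⟩
    exact ⟨w + w', W'.add_mem hw hw', _, _, eich_mul hF he _ _ hμ hμ'⟩
  inv_mem' := by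
    rintro _ ⟨w, hw, μ, hμ, rfl⟩
    have hμ' : μ ^ q + (μ ^ q) ^ q + hermForm n F q (-w) (-w) = 0 := by
      rw [pow_q_q hF, ← neg_one_smul F w, herm_smul_left, herm_smul_right, neg_pow_q hF, one_pow]
      linear_combination hμ
    refine ⟨-w, W'.neg_mem hw, μ ^ q, hμ', inv_eq_of_mul_eq_one_right ?_⟩
    rw [eich_mul hF he _ _ hμ hμ']
    apply su_ext
    intro x
    have h0 : μ + μ ^ q - hermForm n F q (-w) w = 0 := by
      rw [← neg_one_smul F w, herm_smul_left]
      linear_combination hμ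
    rw [act_one, eich_act, h0, add_neg_cancel, herm_zero_right hF, smul_zero, zero_mul, sub_zero,
      zero_smul, add_zero, add_zero]

/-- Two Eichler transformations commute up to a root element. -/
theorem eich_swap {e w w' : Fin n → F} {μ μ' : F} (he : hermForm n F q e e = 0)
    (hw : hermForm n F q w e = 0) (hw' : hermForm n F q w' e = 0)
    (hμ : μ + μ ^ q + hermForm n F q w w = 0) (hμ' : μ' + μ' ^ q + hermForm n F q w' w' = 0)
    (r : fixedSet hF)
    (hr : c0 hF * (r : F) = hermForm n F q w' w - hermForm n F q w w') :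
    eich hF e w' μ' he hw' hμ' * eich hF e w μ he hw hμ =
      eich hF e w μ he hw hμ * eich hF e w' μ' he hw' hμ' * T hF e he r := by
  have h0 : c0 hF * (r : F) + (c0 hF * (r : F)) ^ q + hermForm n F q (0 : Fin n → F) 0 = 0 := by
    rw [herm_zero_left, add_zero, c0_mul_skew hF r.2]
  rw [← eich_zero hF he r (herm_zero_left e) h0, eich_mul, eich_mul, eich_mul]
  refine eich_congr hF _ _ _ _ _ ?_ ?_
  · rw [add_zero, add_comm]
  · rw [herm_zero_left, hr]
    ring

/-- A representation of the Heisenberg group with nontrivial central character is large. -/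
theorem le_finrank_E [FiniteDimensional ℂ V] (hG : Good hF ρ W H U (m + 2)) {e f : Fin n → F}
    (heW : e ∈ W) (hfW : f ∈ W) (he : hermForm n F q e e = 0) (hff : hermForm n F q f f = 0)
    (hef : hermForm n F q e f = 1) (hfe : hermForm n F q f e = 1)
    {ψ : AddChar (fixedSet hF) ℂ} (hψ : ψ ≠ 0) (hne : U ⊓ E hF ρ he ψ ≠ ⊥) :
    q ^ m ≤ Module.finrank ℂ ↥(U ⊓ E hF ρ he ψ) := by
  classical
  set W' := pairPerp q W e f with hW'
  have hW'e : ∀ w ∈ W', hermForm n F q w e = 0 := fun w hw => (mem_pairPerp.1 hw).2.1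
  have hW'n : Nondeg q W' := nondeg_pairPerp hF hG.nondeg heW hfW he hff hef hfe
  have hW'd : Module.finrank F W' = m := by
    have := finrank_pairPerp hF heW hfW he hff hef hfe
    rw [hG.dim] at this
    exact Nat.add_right_cancel this
  set Q := heis hF he W' hW'e with hQ
  set A : Submodule ℂ V := U ⊓ E hF ρ he ψ with hA
  have hQH : ∀ g ∈ Q, g ∈ H := by
    rintro _ ⟨w, hw, μ, hμ, rfl⟩
    exact hG.fix _ (fixPerp_eich hF he _ _ heW (mem_pairPerp.1 hw).1)
  have hQe : ∀ g ∈ Q, act g e = e := by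
    rintro _ ⟨w, hw, μ, hμ, rfl⟩
    exact eich_self hF e w μ he _ _
  have hQA : ∀ g ∈ Q, ∀ v ∈ A, ρ g v ∈ A := by
    intro g hg v hv
    refine ⟨hG.inv g (hQH g hg) v hv.1, fun r => ?_⟩
    show ρ (T hF e he r) (ρ g v) = _
    rw [← Module.End.mul_apply, ← map_mul, ← commute_T hF he (hQe g hg), map_mul,
      Module.End.mul_apply]
    show ρ g (DT hF ρ he r v) = _
    rw [hv.2 r, map_smul]
  let σ : Representation ℂ Q A :=
    { toFun := fun g => (ρ (g : SU n F q)).restrict (hQA g g.2)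
      map_one' := LinearMap.ext fun v => Subtype.ext (by simp)
      map_mul' := fun g k => LinearMap.ext fun v => Subtype.ext (by simp) }
  have hTQ : ∀ r, T hF e he r ∈ Q := fun r =>
    ⟨0, W'.zero_mem, c0 hF * (r : F), by rw [herm_zero_left, add_zero, c0_mul_skew hF r.2],
      (eich_zero hF he r _ _).symm⟩
  have he0 : e ≠ 0 := fun h => by rw [h, herm_zero_left] at hef; exact zero_ne_one hef
  let Zc : fixedSet hF → Q := fun r => ⟨T hF e he r, hTQ r⟩
  have hσZ : ∀ r, σ (Zc r) = ψ r • 1 := fun r => LinearMap.ext fun v => Subtype.ext (v.2.2 r)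
  set d := Module.finrank ℂ ↥A with hd
  have hcharZ : ∀ r, σ.character (Zc r) = ψ r * d := fun r => by
    rw [Representation.character, hσZ, map_smul, LinearMap.trace_one, smul_eq_mul]
  have hchar0 : ∀ g : Q, g ∉ Set.range Zc → σ.character g = 0 := by
    rintro ⟨g, w, hw, μ, hμ, rfl⟩ hg
    have hw0 : w ≠ 0 := by
      rintro rfl
      have hμs : μ + μ ^ q = 0 := by rw [herm_zero_left, add_zero] at hμ; exact hμ
      obtain ⟨r, rfl⟩ := exists_eq_c0_mul hF hμs
      exact hg ⟨r, Subtype.ext (eich_zero hF he r (herm_zero_left e) hμ).symm⟩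
    obtain ⟨r, hr⟩ := AddChar.ne_zero_iff.1 hψ
    obtain ⟨y, hy⟩ := exists_trace hF (one_pow q : (1 : F) ^ q = 1)
    obtain ⟨z, hzW, hz⟩ := exists_herm_eq_in hF hW'n hw hw0 (c0 hF * (r : F) * y)
    obtain ⟨ν, hν⟩ := exists_mu hF z
    have hrel : c0 hF * (r : F) = hermForm n F q z w - hermForm n F q w z := by
      rw [herm_conj hF z w, hz, mul_pow, mul_pow, r.2,
        show c0 hF ^ q = -c0 hF by linear_combination c0_skew hF]
      linear_combination (-(c0 hF * (r : F))) * hy
    let k : Q := ⟨eich hF e z ν he (hW'e z hzW) hν, z, hzW, ν, hν, rfl⟩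
    let g' : Q := ⟨eich hF e w μ he (hW'e w hw) hμ, w, hw, μ, hμ, rfl⟩
    show σ.character g' = 0
    have hswap : k * g' = g' * k * Zc r :=
      Subtype.ext (eich_swap hF he (hW'e w hw) (hW'e z hzW) hμ hν r hrel)
    have h1 : σ.character (k * g' * k⁻¹) = ψ r * σ.character g' := by
      have e2 : k * g' * k⁻¹ = g' * (k * Zc r * k⁻¹) := by rw [hswap]; group
      have h3 : σ (k * Zc r * k⁻¹) = ψ r • 1 := by
        simp only [MonoidHom.map_mul, hσZ, mul_smul_comm, mul_one, smul_mul_assoc]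
        rw [← MonoidHom.map_mul, mul_inv_cancel, MonoidHom.map_one]
      rw [e2, Representation.character, MonoidHom.map_mul, h3, mul_smul_comm, mul_one, map_smul,
        smul_eq_mul]
      rfl
    rw [Representation.char_conj] at h1
    rcases eq_or_ne (σ.character g') 0 with h | h
    · exact h
    · exact absurd (mul_eq_right₀ h |>.1 h1.symm) hr
  have hZinj : Function.Injective Zc := by
    intro r s h
    have h' := congrArg (fun g : Q => act (g : SU n F q) f) h
    simp only [Zc, T_act, hfe, mul_one] at h'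
    exact Subtype.ext (mul_left_cancel₀ (c0_ne hF) (smul_left_injective F he0 (add_left_cancel h')))
  haveI : Fintype Q := Fintype.ofFinite Q
  haveI : Invertible (Nat.card Q : ℂ) :=
    invertibleOfNonzero (Nat.cast_ne_zero.2 Nat.card_pos.ne')
  have hsum : ∑ g : Q, σ.character g * σ.character g⁻¹ = (q : ℂ) * (d : ℂ) ^ 2 := by
    rw [← Finset.sum_subset (Finset.subset_univ ((Finset.univ : Finset (fixedSet hF)).image Zc))
      (fun g _ hg => by
        rw [hchar0 g (fun ⟨r, hr⟩ => hg (Finset.mem_image.2 ⟨r, Finset.mem_univ _, hr⟩)),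
          zero_mul]),
      Finset.sum_image (hZinj.injOn)]
    have hinv : ∀ r, (Zc r)⁻¹ = Zc (-r) := fun r => inv_eq_of_mul_eq_one_right (Subtype.ext (by
      show T hF e he r * T hF e he (-r) = 1
      rw [← T_add, add_neg_cancel, T_zero]))
    have hterm : ∀ r, σ.character (Zc r) * σ.character (Zc r)⁻¹ = (d : ℂ) ^ 2 := fun r => by
      rw [hinv, hcharZ, hcharZ, mul_mul_mul_comm, ← AddChar.map_add_eq_mul, add_neg_cancel,
        AddChar.map_zero_eq_one, one_mul, sq]
    rw [Finset.sum_congr rfl fun r _ => hterm r, Finset.sum_const, Finset.card_univ,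
      ← Nat.card_eq_fintype_card, card_fixedSet hF, nsmul_eq_mul]
  have hN := Representation.card_inv_mul_sum_char_mul_char_eq_finrank σ σ
  rw [hsum] at hN
  haveI : Nontrivial ↥A := Submodule.nontrivial_iff_ne_bot.2 hne
  haveI : Nontrivial (Representation.IntertwiningMap σ σ) := by
    refine ⟨⟨Representation.IntertwiningMap.id σ, 0, fun h => ?_⟩⟩
    obtain ⟨v, hv⟩ := exists_ne (0 : ↥A)
    exact hv (by simpa using DFunLike.congr_fun h v)
  haveI : FiniteDimensional ℂ (Representation.IntertwiningMap σ σ) :=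
    Module.Finite.equiv (Representation.invariantsEquivIntertwiningMap σ σ)
  have hpos : 0 < Module.finrank ℂ (Representation.IntertwiningMap σ σ) := Module.finrank_pos
  have hQd : Nat.card Q ≤ q * d ^ 2 := by
    have e1 : ((q * d ^ 2 : ℕ) : ℂ) =
        ((Nat.card Q * Module.finrank ℂ (Representation.IntertwiningMap σ σ) : ℕ) : ℂ) := by
      push_cast
      rw [← hN, mul_inv_cancel_left₀ (Nat.cast_ne_zero.2 Nat.card_pos.ne')]
    rw [Nat.cast_inj.1 e1]
    exact Nat.le_mul_of_pos_right _ hpos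
  -- lower bound on the order of the Heisenberg group
  choose μf hμf using fun w : Fin n → F => exists_mu hF w
  have hμr : ∀ (w : Fin n → F) (r : fixedSet hF),
      (μf w + c0 hF * (r : F)) + (μf w + c0 hF * (r : F)) ^ q + hermForm n F q w w = 0 :=
    fun w r => by
      rw [add_pow_q hF]
      linear_combination hμf w + c0_mul_skew hF r.2
  let φ : W' × fixedSet hF → Q := fun p =>
    ⟨eich hF e p.1 (μf p.1 + c0 hF * (p.2 : F)) he (hW'e _ p.1.2) (hμr _ _),
      p.1, p.1.2, _, hμr _ _, rfl⟩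
  have hφ : Function.Injective φ := by
    rintro ⟨w, r⟩ ⟨w', r'⟩ h
    have h' := congrArg (fun g : Q => act (g : SU n F q) f) h
    have hf : ∀ x : W', hermForm n F q f (x : Fin n → F) = 0 := fun x =>
      herm_skew_zero hF (mem_pairPerp.1 x.2).2.2
    simp only [φ, eich_act, hfe, hf, mul_one, sub_zero, one_smul] at h'
    have h2 := congrArg (fun x => hermForm n F q x f) h'
    simp only [herm_add_left, herm_smul_left, hff, (mem_pairPerp.1 w.2).2.2,
      (mem_pairPerp.1 w'.2).2.2, hef, mul_one, zero_add] at h2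
    rw [h2] at h'
    obtain rfl : w = w' := Subtype.ext (add_left_cancel (add_right_cancel h'))
    exact Prod.ext rfl (Subtype.ext (mul_left_cancel₀ (c0_ne hF) (add_left_cancel h2)))
  have hcard := Nat.card_le_card_of_injective φ hφ
  rw [Nat.card_prod, card_fixedSet hF, Nat.card_eq_fintype_card (α := W'),
    Module.card_eq_pow_finrank (K := F), hF, hW'd] at hcard
  have hq := two_le_q hF
  have h3 : (q ^ m) ^ 2 ≤ d ^ 2 := by
    refine Nat.le_of_mul_le_mul_left (le_trans ?_ hQd) (show 0 < q by omega)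
    rw [mul_comm, ← pow_mul, mul_comm m 2, pow_mul]
    exact hcard
  exact (Nat.pow_le_pow_iff_left two_ne_zero).1 h3

/-! ### The translations along a second isotropic vector -/

include hF

theorem scal_cond {w : Fin n → F} (hw : hermForm n F q w w = 0) (a : F) :
    (0 : F) + 0 ^ q + hermForm n F q (a • w) (a • w) = 0 := by
  rw [zero_pow_q hF, herm_smul_left, herm_smul_right, hw, mul_zero, mul_zero, add_zero, add_zero]

omit [Fintype F] hF in
theorem scal_perp {e w : Fin n → F} (hw : hermForm n F q w e = 0) (a : F) :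
    hermForm n F q (a • w) e = 0 := by
  rw [herm_smul_left, hw, mul_zero]

/-- The Eichler transformation at `e` with parameter `a • w`. -/
noncomputable def eichLine {e w : Fin n → F} (he : hermForm n F q e e = 0)
    (hwe : hermForm n F q w e = 0) (hww : hermForm n F q w w = 0) (a : F) : SU n F q :=
  eich hF e (a • w) 0 he (scal_perp hwe a) (scal_cond hF hww a)

theorem eichLine_act {e w : Fin n → F} (he : hermForm n F q e e = 0)
    (hwe : hermForm n F q w e = 0) (hww : hermForm n F q w w = 0) (a : F) (x : Fin n → F) :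
    act (eichLine hF he hwe hww a) x =
      x + (a * hermForm n F q x e) • w - (a ^ q * hermForm n F q x w) • e := by
  rw [eichLine, eich_act, herm_smul_right, zero_mul, zero_sub, smul_smul, neg_smul, ← sub_eq_add_neg,
    mul_comm (hermForm n F q x e) a]

theorem eichLine_add {e w : Fin n → F} (he : hermForm n F q e e = 0)
    (hwe : hermForm n F q w e = 0) (hww : hermForm n F q w w = 0) (a b : F) :
    eichLine hF he hwe hww (a + b) = eichLine hF he hwe hww a * eichLine hF he hwe hww b := by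
  apply su_ext
  intro x
  simp only [act_mul, eichLine_act, herm_sub_left, herm_add_left, herm_smul_left, he, hwe, hww,
    herm_skew_zero hF hwe, add_pow_q hF, mul_zero, add_zero, sub_zero]
  module

theorem eichLine_zero {e w : Fin n → F} (he : hermForm n F q e e = 0)
    (hwe : hermForm n F q w e = 0) (hww : hermForm n F q w w = 0) :
    eichLine hF he hwe hww 0 = 1 := by
  apply su_ext
  intro x
  rw [eichLine_act, act_one, zero_pow_q hF, zero_mul, zero_mul, zero_smul, zero_smul, add_zero,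
    sub_zero]

/-- The fixed space of the first root group is moved by a root group inside `W'`. -/
theorem exists_moving [FiniteDimensional ℂ V] (hG : Good hF ρ W H U (m + 2)) (hm : 2 ≤ m)
    {e f : Fin n → F}
    (heW : e ∈ W) (hfW : f ∈ W) (he : hermForm n F q e e = 0) (hff : hermForm n F q f f = 0)
    (hef : hermForm n F q e f = 1) (hfe : hermForm n F q f e = 1)
    {a₀ : fixedSet hF} (ha₀ : a₀ ≠ 0) (hne : U ⊓ E hF ρ he (lam hF a₀) ≠ ⊥) :
    ∃ e' ∈ pairPerp q W e f, e' ≠ 0 ∧ ∃ he' : hermForm n F q e' e' = 0,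
      ∃ r, ∃ v ∈ U ⊓ E hF ρ he 0, ρ (T hF e' he' r) v ≠ v := by
  classical
  set W' := pairPerp q W e f with hW'
  have hW'n : Nondeg q W' := nondeg_pairPerp hF hG.nondeg heW hfW he hff hef hfe
  have hW'd : 2 ≤ Module.finrank F W' := by
    show 2 ≤ Module.finrank F (pairPerp q W e f)
    have := finrank_pairPerp hF heW hfW he hff hef hfe
    rw [hG.dim] at this
    omega
  obtain ⟨e', he'W', he'0, he'⟩ := exists_iso_in hF hW'n hW'd
  obtain ⟨f', hf'W', hf', hfe', hef'⟩ := exists_hyp_in hF hW'n he'W' he'0 he'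
  obtain ⟨he'W, he'e, he'f⟩ := mem_pairPerp.1 he'W'
  obtain ⟨hf'W, hf'e, hf'f⟩ := mem_pairPerp.1 hf'W'
  have hee' : hermForm n F q e e' = 0 := herm_skew_zero hF he'e
  have hef'0 : hermForm n F q e f' = 0 := herm_skew_zero hF hf'e
  refine ⟨e', he'W', he'0, he', ?_⟩
  by_contra! hcon
  set ψ := lam hF a₀ with hψ
  set A : Submodule ℂ V := U ⊓ E hF ρ he ψ with hA
  -- `A` is invariant under elements of `H` fixing `e`
  have hAinv : ∀ g ∈ H, act g e = e → ∀ v ∈ A, ρ g v ∈ A := by
    intro g hg hge v hv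
    refine ⟨hG.inv g hg v hv.1, fun r => ?_⟩
    show ρ (T hF e he r) (ρ g v) = _
    rw [← Module.End.mul_apply, ← map_mul, ← commute_T hF he hge, map_mul, Module.End.mul_apply]
    show ρ g (DT hF ρ he r v) = _
    rw [hv.2 r, map_smul]
  let B : F → SU n F q := eichLine hF he he'e he'
  let X : F → SU n F q := eichLine hF he hf'e hf'
  have hBH : ∀ a, B a ∈ H := fun a =>
    hG.fix _ (fixPerp_eich hF he _ _ heW (W.smul_mem a he'W))
  have hXH : ∀ a, X a ∈ H := fun a =>
    hG.fix _ (fixPerp_eich hF he _ _ heW (W.smul_mem a hf'W))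
  have hBe : ∀ a, act (B a) e = e := fun a => eich_self hF _ _ _ _ _ _
  have hXe : ∀ a, act (X a) e = e := fun a => eich_self hF _ _ _ _ _ _
  have hTH : ∀ r, T hF e' he' r ∈ H := fun r => hG.fix _ (fixPerp_T hF he' he'W r)
  have hTe : ∀ r, act (T hF e' he' r) e = e := fun r => by
    rw [T_act, hee', mul_zero, zero_smul, add_zero]
  let DB : F → Module.End ℂ V := fun a => ρ (B a)
  have hDBadd : ∀ a b, DB (a + b) = DB a * DB b := fun a b => by
    show ρ (B (a + b)) = _
    rw [show B (a + b) = B a * B b from eichLine_add hF he he'e he' a b, map_mul]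
  have hDB0 : DB 0 = 1 := by
    show ρ (B 0) = 1
    rw [show B 0 = 1 from eichLine_zero hF he he'e he', map_one]
  -- the parameter of the commutator
  have hskew : ∀ a b : F, (b * a ^ q - a * b ^ q) + (b * a ^ q - a * b ^ q) ^ q = 0 := by
    intro a b
    rw [sub_pow_q hF, mul_pow, mul_pow, pow_q_q hF, pow_q_q hF]
    ring
  choose rho0 hrho0 using fun p : F × F => exists_eq_c0_mul hF (hskew p.1 p.2)
  have hswap : ∀ a b, X b * B a = B a * X b * T hF e he (rho0 (a, b)) := by
    intro a b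
    refine eich_swap hF he _ _ _ _ _ ?_
    rw [← hrho0]
    simp only [herm_smul_left, herm_smul_right, hfe', hef', mul_one]
    ring
  have hrho_add : ∀ a a' b, rho0 (a + a', b) = rho0 (a, b) + rho0 (a', b) := by
    intro a a' b
    refine Subtype.ext (mul_left_cancel₀ (c0_ne hF) ?_)
    rw [AddSubgroup.coe_add, mul_add, ← hrho0, ← hrho0, ← hrho0, add_pow_q hF]
    ring
  let χ : F → AddChar F ℂ := fun b =>
    { toFun := fun a => ψ (-rho0 (a, b))
      map_zero_eq_one' := by
        have h := hrho_add 0 0 b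
        rw [add_zero, left_eq_add] at h
        rw [h, neg_zero, AddChar.map_zero_eq_one]
      map_add_eq_mul' := fun a a' => by
        rw [hrho_add, neg_add, AddChar.map_add_eq_mul] }
  have hshift : ∀ (φ : AddChar F ℂ) b, ∀ v ∈ A ⊓ eig DB φ,
      ρ (X b) v ∈ A ⊓ eig DB (φ + χ b) := by
    intro φ b v hv
    refine ⟨hAinv _ (hXH b) (hXe b) v hv.1, fun a => ?_⟩
    show ρ (B a) (ρ (X b) v) = (φ + χ b) a • ρ (X b) v
    have h1 : ρ (B a) (ρ (X b) v) =
        ψ (-rho0 (a, b)) • ρ (B a * X b * T hF e he (rho0 (a, b))) v := by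
      rw [map_mul, Module.End.mul_apply]
      show _ = _ • ρ (B a * X b) (DT hF ρ he (rho0 (a, b)) v)
      rw [hv.1.2 (rho0 (a, b)), map_smul, smul_smul, ← AddChar.map_add_eq_mul, neg_add_cancel,
        AddChar.map_zero_eq_one, one_smul, map_mul, Module.End.mul_apply]
    rw [h1, ← hswap, map_mul, Module.End.mul_apply]
    show _ • ρ (X b) (DB a v) = _
    rw [hv.2 a, map_smul, smul_smul, AddChar.add_apply, mul_comm]
    rfl
  have hχinj : Function.Injective χ := by
    intro b b' h
    by_contra hne'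
    obtain ⟨r, hr⟩ := AddChar.ne_zero_iff.1 (lam_ne_zero hF ha₀)
    obtain ⟨y, hy⟩ := exists_trace hF (one_pow q : (1 : F) ^ q = 1)
    have hd : b - b' ≠ 0 := sub_ne_zero.2 hne'
    set x : F := c0 hF * (-(r : F)) * y with hx
    set a : F := (x / (b - b')) ^ q with ha
    have e1 : -rho0 (a, b) = -rho0 (a, b') + r := by
      have haq : a ^ q = x / (b - b') := pow_q_q hF _
      have hxq : a * (b - b') ^ q = x ^ q := by
        rw [ha, div_pow, div_mul_cancel₀ _ (pow_ne_zero _ hd)]
      have hxb : (b - b') * a ^ q = x := by rw [haq, mul_div_cancel₀ _ hd]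
      have hcx : x - x ^ q = -(c0 hF * (r : F)) := by
        rw [hx, mul_pow, mul_pow, neg_pow_q hF, r.2,
          show c0 hF ^ q = -c0 hF by linear_combination c0_skew hF]
        linear_combination (-(c0 hF * (r : F))) * hy
      refine Subtype.ext (mul_left_cancel₀ (c0_ne hF) ?_)
      rw [AddSubgroup.coe_add, NegMemClass.coe_neg, NegMemClass.coe_neg, mul_add, mul_neg, mul_neg,
        ← hrho0, ← hrho0]
      rw [sub_pow_q hF] at hxq
      linear_combination (-1 : F) * hxb + hxq - hcx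
    have h1 : ψ (-rho0 (a, b)) = ψ (-rho0 (a, b')) := DFunLike.congr_fun h a
    rw [e1, AddChar.map_add_eq_mul] at h1
    exact hr (mul_eq_left₀ (AddChar.val_isUnit _ _).ne_zero |>.1 h1)
  have hχsurj : Function.Surjective χ :=
    ((Fintype.bijective_iff_injective_and_card χ).2 ⟨hχinj, AddChar.card_eq.symm⟩).2
  -- a vector fixed by all translations along `e'`
  obtain ⟨u, huA, hu0⟩ := Submodule.exists_mem_ne_zero_of_ne_bot hne
  obtain ⟨φ, v0, hv0A, hv00, hv0⟩ := exists_eigen hDBadd hDB0 A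
    (fun a v hv => hAinv _ (hBH a) (hBe a) v hv) huA hu0
  obtain ⟨b₁, hb₁⟩ := hχsurj (-φ)
  have hv1 := hshift φ b₁ v0 ⟨hv0A, hv0⟩
  rw [hb₁, add_neg_cancel] at hv1
  have hv10 : ρ (X b₁) v0 ≠ 0 := fun h => hv00 (rho_injective ρ _ (h.trans (map_zero _).symm))
  -- a character of the root group at `e'` on that space
  have hTB : ∀ r a, B a * T hF e' he' r = T hF e' he' r * B a := fun r a =>
    commute_T hF he' (by
      show act (eichLine hF he he'e he' a) e' = e'
      rw [eichLine_act, he'e, he', mul_zero, mul_zero, zero_smul, zero_smul, add_zero, sub_zero]) r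
  have hinvT : ∀ r, ∀ v ∈ A ⊓ eig DB 0, DT hF ρ he' r v ∈ A ⊓ eig DB 0 := by
    intro r v hv
    refine ⟨hAinv _ (hTH r) (hTe r) v hv.1, mem_eig_zero.2 fun a => ?_⟩
    show ρ (B a) (ρ (T hF e' he' r) v) = _
    rw [← Module.End.mul_apply, ← map_mul, hTB, map_mul, Module.End.mul_apply]
    show ρ _ (DB a v) = _
    rw [mem_eig_zero.1 hv.2 a]
    rfl
  obtain ⟨η, v2, hv2, hv20, hv2η⟩ := exists_eigen (DT_add hF ρ he') (DT_zero hF ρ he') _ hinvT
    hv1 hv10
  obtain ⟨r₀, rfl⟩ := exists_eq_lam hF η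
  have ha₀F : (a₀ : F) ≠ 0 := fun h => ha₀ (Subtype.ext h)
  obtain ⟨β, hβ⟩ := exists_norm_eq hF (a := -(r₀ : F) / a₀)
    (by rw [div_pow, neg_pow_q hF, r₀.2, a₀.2])
  set b : F := β ^ q with hb
  have hbq : b ^ q = β := pow_q_q hF β
  have hw0 : ρ (X b) v2 ≠ 0 := fun h => hv20 (rho_injective ρ _ (h.trans (map_zero _).symm))
  have hwA : ρ (X b) v2 ∈ A := hAinv _ (hXH b) (hXe b) v2 hv2.1
  have hfix : ∀ s, ρ (T hF e' he' s) (ρ (X b) v2) = ρ (X b) v2 := by
    intro s
    have he'' : hermForm n F q (e' + β • e) (e' + β • e) = 0 := by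
      simp only [herm_add_left, herm_add_right hF, herm_smul_left, herm_smul_right, he, he', he'e,
        hee', mul_zero, add_zero]
    have hmove : act (X b) (e' + β • e) = e' := by
      rw [act_add, act_smul, hXe b]
      show act (eichLine hF he hf'e hf' b) e' + β • e = e'
      rw [eichLine_act, he'e, hef', mul_zero, zero_smul, add_zero, mul_one, hbq, sub_add_cancel]
    have hconj : T hF e' he' s * X b = X b * T hF (e' + β • e) he'' s := by
      have h := conj_T hF (X b) _ he'' s
      rw [T_congr hF _ he' hmove, mul_inv_eq_iff_eq_mul] at h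
      exact h.symm
    set a : F := c0 hF * (s : F) * β ^ q with ha
    set s' : fixedSet hF := ⟨β ^ q * β * (s : F), (mem_fixedSet hF).2 (by
      rw [mul_pow, mul_pow, pow_q_q hF, s.2]; ring)⟩ with hs'
    have haq : a ^ q = -(c0 hF * (s : F) * β) := by
      rw [ha, mul_pow, mul_pow, pow_q_q hF, s.2,
        show c0 hF ^ q = -c0 hF by linear_combination c0_skew hF]
      ring
    have hdec : T hF (e' + β • e) he'' s = T hF e' he' s * B a * T hF e he s' := by
      apply su_ext
      intro x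
      show _ = act (T hF e' he' s * eichLine hF he he'e he' a * T hF e he s') x
      simp only [act_mul, T_act, eichLine_act, herm_add_left, herm_sub_left, herm_smul_left,
        herm_add_right hF, herm_smul_right, he, he', he'e, hee', mul_zero, add_zero, zero_add,
        sub_zero, haq, hs']
      simp only [ha]
      module
    rw [← Module.End.mul_apply, ← map_mul, hconj, hdec, map_mul, map_mul, map_mul,
      Module.End.mul_apply, Module.End.mul_apply, Module.End.mul_apply]
    show ρ (X b) (DT hF ρ he' s (DB a (DT hF ρ he s' v2))) = _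
    rw [hv2.1.2 s', map_smul, mem_eig_zero.1 hv2.2 a, map_smul, hv2η s, smul_smul]
    congr 1
    rw [hψ, lam_apply, lam_apply, ← AddChar.map_add_eq_mul]
    have hz : mulFix hF a₀ s' + mulFix hF r₀ s = 0 := by
      refine Subtype.ext ?_
      show (a₀ : F) * (β ^ q * β * s) + (r₀ : F) * s = 0
      rw [← pow_succ, hβ]
      field_simp
      ring
    rw [hz, AddChar.map_zero_eq_one, one_smul]
  -- compare the fixed spaces of the two root groups
  have hgd : ∃ g ∈ H, act g e = e' := by
    have hzq := zero_pow_q hF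
    refine ⟨eichLine hF hf' (herm_skew_zero hF hf'e) he (-1) *
      eichLine hF hff he'f he' 1,
      H.mul_mem (hG.fix _ (fixPerp_eich hF hf' _ _ hf'W (W.smul_mem _ heW)))
        (hG.fix _ (fixPerp_eich hF hff _ _ hfW (W.smul_mem _ he'W))), ?_⟩
    rw [act_mul, eichLine_act, eichLine_act, hef, hee']
    simp only [mul_zero, zero_smul, sub_zero, herm_add_left, herm_smul_left, hef'0, hef', he, hee',
      he'e]
    module
  obtain ⟨g, hgH, hge⟩ := hgd
  have hsub : ∀ (x y : Fin n → F) (hx : hermForm n F q x x = 0) (hy : hermForm n F q y y = 0)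
      (k : SU n F q), k ∈ H → act k x = y → ∀ v ∈ U ⊓ E hF ρ hx 0,
      ρ k v ∈ U ⊓ E hF ρ hy 0 := by
    intro x y hx hy k hk hkx v hv
    refine ⟨hG.inv k hk v hv.1, (mem_E_zero hF ρ).2 fun r => ?_⟩
    have h := conj_T hF k x hx r
    rw [T_congr hF _ hy hkx] at h
    rw [← h, map_mul, map_mul, Module.End.mul_apply, Module.End.mul_apply, ← Module.End.mul_apply
      (ρ k⁻¹), ← map_mul, inv_mul_cancel, map_one, Module.End.one_apply,
      (mem_E_zero hF ρ).1 hv.2 r]
  have hle : U ⊓ E hF ρ he 0 ≤ U ⊓ E hF ρ he' 0 := fun v hv =>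
    ⟨hv.1, (mem_E_zero hF ρ).2 fun r => hcon r v hv⟩
  have heq := Submodule.eq_of_le_of_finrank_le hle
    (finrank_le_of_map ρ g⁻¹ (hsub e' e he' he g⁻¹ (H.inv_mem hgH) (by
      rw [← hge, act_inv_act])))
  have hw' : ρ (X b) v2 ∈ U ⊓ E hF ρ he 0 := heq.ge ⟨hwA.1, (mem_E_zero hF ρ).2 hfix⟩
  obtain ⟨r, hr⟩ := AddChar.ne_zero_iff.1 (lam_ne_zero hF ha₀)
  have h1 := (mem_E_zero hF ρ).1 hw'.2 r
  rw [(mem_E hF ρ).1 hwA.2 r] at h1
  exact hr (smul_left_injective ℂ hw0 (h1.trans (one_smul ℂ _).symm))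

/-! ### The recursion -/

theorem Good.descend (hG : Good hF ρ W H U (m + 2)) {e f : Fin n → F}
    (heW : e ∈ W) (hfW : f ∈ W) (he : hermForm n F q e e = 0) (hff : hermForm n F q f f = 0)
    (hef : hermForm n F q e f = 1) (hfe : hermForm n F q f e = 1)
    (hmov : ∃ e' ∈ pairPerp q W e f, e' ≠ 0 ∧ ∃ he' : hermForm n F q e' e' = 0,
      ∃ r, ∃ v ∈ U ⊓ E hF ρ he 0, ρ (T hF e' he' r) v ≠ v) :
    ∃ H', Good hF ρ (pairPerp q W e f) H' (U ⊓ E hF ρ he 0) m := by
  let H' : Subgroup (SU n F q) :=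
    { carrier := {g | g ∈ H ∧ ∃ t : F, t ≠ 0 ∧ act g e = t • e}
      one_mem' := ⟨H.one_mem, 1, one_ne_zero, by rw [act_one, one_smul]⟩
      mul_mem' := by
        rintro g k ⟨hg, t, ht, hgt⟩ ⟨hk, t', ht', hkt⟩
        exact ⟨H.mul_mem hg hk, t' * t, mul_ne_zero ht' ht, by
          rw [act_mul, hkt, act_smul, hgt, smul_smul]⟩
      inv_mem' := by
        rintro g ⟨hg, t, ht, hgt⟩
        refine ⟨H.inv_mem hg, t⁻¹, inv_ne_zero ht, ?_⟩
        have h := congrArg (act g⁻¹) hgt
        rw [act_inv_act, act_smul] at h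
        rw [eq_inv_smul_iff₀ ht, ← h] }
  refine ⟨H', nondeg_pairPerp hF hG.nondeg heW hfW he hff hef hfe, ?_, ?_, ?_, ?_, hmov⟩
  · have := finrank_pairPerp hF heW hfW he hff hef hfe
    rw [hG.dim] at this
    exact Nat.add_right_cancel this
  · intro g hg
    refine ⟨hG.fix g (hg.mono fun x hx => (mem_pairPerp.1 hx).1), 1, one_ne_zero, ?_⟩
    rw [one_smul]
    exact hg e fun w hw => herm_skew_zero hF (mem_pairPerp.1 hw).2.1
  · rintro g ⟨hgH, t, ht, hgt⟩ v hv
    refine ⟨hG.inv g hgH v hv.1, ?_⟩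
    have hE : (0 : fixedSet hF).1 = t ^ q * t * (0 : fixedSet hF) := by
      rw [AddSubgroup.coe_zero, mul_zero]
    have := map_E_of_scale hF ρ he ht hgt hE (v := v) (by rw [lam_zero]; exact hv.2)
    rwa [lam_zero] at this
  · intro hm2 e'' he''W he''0 he'' t ht
    have hn' := nondeg_pairPerp hF hG.nondeg heW hfW he hff hef hfe
    obtain ⟨f'', hf''W, hf'', hfe'', hef''⟩ := exists_hyp_in hF hn' he''W he''0 he''
    obtain ⟨he''W, h1, h2⟩ := mem_pairPerp.1 he''W
    obtain ⟨hf''W, h3, -⟩ := mem_pairPerp.1 hf''W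
    obtain ⟨g, hg, hge, hge''⟩ := exists_torus_two hF (inv_ne_zero ht) he hff hef hfe he'' hf''
      hef'' hfe'' h1 h2 heW hfW he''W hf''W h3
    rw [inv_inv] at hge''
    exact ⟨g, ⟨hG.fix g hg, t⁻¹, inv_ne_zero ht, hge⟩, hge''⟩

theorem bnd_le_finrank [FiniteDimensional ℂ V] : ∀ (m : ℕ) (W : Submodule F (Fin n → F))
    (H : Subgroup (SU n F q)) (U : Submodule ℂ V), Good hF ρ W H U m →
    bnd q m ≤ Module.finrank ℂ ↥U
  | 0, _, _, _, _ => Nat.zero_le _
  | 1, _, _, _, _ => Nat.zero_le _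
  | m + 2, W, H, U, hG => by
    classical
    obtain ⟨e, heW, he0, he, r, v, hvU, hrv⟩ := hG.moving
    obtain ⟨f, hfW, hff, hfe, hef⟩ := exists_hyp_in hF hG.nondeg heW he0 he
    obtain ⟨ψ, hψ0, w, hwU, hw0, hwψ⟩ := exists_eigen_nontrivial (DT_add hF ρ he)
      (DT_zero hF ρ he) U (fun s x hx => hG.inv _ (hG.fix _ (fixPerp_T hF he heW s)) x hx) hvU hrv
    obtain ⟨a₀, rfl⟩ := exists_eq_lam hF ψ
    have ha₀ : a₀ ≠ 0 := fun h => hψ0 (by rw [h, lam_zero])
    have hne : U ⊓ E hF ρ he (lam hF a₀) ≠ ⊥ :=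
      Submodule.ne_bot_iff _ |>.2 ⟨w, ⟨hwU, hwψ⟩, hw0⟩
    have hA := le_finrank_E hF ρ hG heW hfW he hff hef hfe hψ0 hne
    have hB : bnd q m ≤ Module.finrank ℂ ↥(U ⊓ E hF ρ he 0) := by
      by_cases hm : 2 ≤ m
      · obtain ⟨H', hG'⟩ := hG.descend hF ρ heW hfW he hff hef hfe
          (exists_moving hF ρ hG hm heW hfW he hff hef hfe ha₀ hne)
        exact bnd_le_finrank m _ _ _ hG'
      · interval_cases m <;> exact Nat.zero_le _
    calc bnd q (m + 2) = (q - 1) * q ^ m + bnd q m := rfl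
      _ ≤ _ := Nat.add_le_add (Nat.mul_le_mul_left _ hA) hB
      _ ≤ _ := sum_le hF ρ hG heW he0 he ha₀

/-! ### Representations of `SU` -/

/-- An irreducible representation of degree at least two has degree at least `bnd q n`. -/
theorem bnd_le_of_irreducible [FiniteDimensional ℂ V] (hn : 3 ≤ n) (h32 : ¬(n = 3 ∧ q = 2))
    (hirr : ρ.IsIrreducible) (hd : 2 ≤ Module.finrank ℂ V) :
    bnd q n ≤ Module.finrank ℂ V := by
  classical
  have hmov : ∃ (e : Fin n → F) (he : hermForm n F q e e = 0) (r : fixedSet hF) (v : V),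
      e ≠ 0 ∧ ρ (T hF e he r) v ≠ v := by
    by_contra! hcon
    have htriv : tGroup n F q ≤ MonoidHom.ker ρ := by
      refine (Subgroup.closure_le _).2 ?_
      rintro A ⟨v, c, hv, hA⟩
      rcases eq_tv_or_one hF hv hA with rfl | ⟨hc, rfl, hv0⟩
      · exact map_one ρ
      · obtain ⟨r, rfl⟩ := exists_eq_c0_mul hF hc
        exact LinearMap.ext fun x => hcon v hv r x hv0
    rw [tGroup_eq_top hF (by omega) h32] at htriv
    haveI := hirr
    haveI : Nontrivial V := Module.nontrivial_of_finrank_pos (R := ℂ) (by omega)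
    obtain ⟨v, hv⟩ := exists_ne (0 : V)
    let S : Subrepresentation ρ :=
      ⟨ℂ ∙ v, fun g x hx => by
        rw [show ρ g = 1 from htriv (Subgroup.mem_top g)]
        exact hx⟩
    rcases eq_bot_or_eq_top S with h | h
    · have h' := congrArg Subrepresentation.toSubmodule h
      exact hv ((Submodule.span_singleton_eq_bot (R := ℂ)).1 h')
    · have h' : (ℂ ∙ v) = ⊤ := congrArg Subrepresentation.toSubmodule h
      have := finrank_span_singleton (K := ℂ) hv
      rw [h', finrank_top] at this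
      omega
  obtain ⟨e, he, r, v, he0, hrv⟩ := hmov
  have hG : Good hF ρ (⊤ : Submodule F (Fin n → F)) ⊤ ⊤ n :=
    { nondeg := fun x _ h => eq_zero_of_herm_eq_zero hF fun y => h y Submodule.mem_top
      dim := by rw [finrank_top, Module.finrank_fin_fun]
      fix := fun g _ => Subgroup.mem_top g
      inv := fun g _ v _ => Submodule.mem_top
      tor := fun h => absurd h (by omega)
      moving := ⟨e, Submodule.mem_top, he0, he, r, v, Submodule.mem_top, hrv⟩ }
  have := bnd_le_finrank hF ρ n ⊤ ⊤ ⊤ hG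
  rwa [finrank_top] at this

end Cfsg.Agent.SUMinDegree32
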