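import Mathlib
import Cfsg.Agent.Lib.SUMinDegree32
import Cfsg.Agent.Lib.MinIndexUnit19Form

/-!
An action of the group of a nondegenerate subspace: stabilisers inside the Heisenberg group of an
isotropic vector.
-/

set_option autoImplicit false

namespace Cfsg.Agent.MinIndexUnit19

open Cfsg Cfsg.Agent.OrthUnitaryHerm Cfsg.Agent.OrthUnitaryTransvection
  Cfsg.Agent.SUMinDegree32Geom

/-! ### Counting -/

/-- Many fibres, each large. -/
theorem card_mul_le_of_fibres {M Y : Type*} [Finite M] (s : Set M) (φ : M → Y) (T : Set Y)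
    {c : ℕ} (hc : 0 < c) (h : ∀ y ∈ T, c ≤ Nat.card {x : M | x ∈ s ∧ φ x = y}) :
    Nat.card T * c ≤ Nat.card s := by
  classical
  have := Fintype.ofFinite M
  have hsub : ∀ y ∈ T, y ∈ (s.toFinset.image φ : Finset Y) := fun y hy => by
    have := lt_of_lt_of_le hc (h y hy)
    rw [Nat.card_pos_iff] at this
    obtain ⟨⟨x, hx, rfl⟩⟩ := this.1
    exact Finset.mem_image.2 ⟨x, Set.mem_toFinset.2 hx, rfl⟩
  have : Finite T := Finite.of_injective (fun y : T => (⟨y.1, hsub _ y.2⟩ :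
    (s.toFinset.image φ : Finset Y))) fun a b hab => Subtype.ext (congrArg Subtype.val hab :)
  have := Fintype.ofFinite T
  calc Nat.card T * c = ∑ _y : T, c := by
        rw [Finset.sum_const, Finset.card_univ, Nat.card_eq_fintype_card, smul_eq_mul]
    _ ≤ ∑ y : T, Nat.card {x : M | x ∈ s ∧ φ x = y.1} := Finset.sum_le_sum fun y _ => h _ y.2
    _ = Nat.card (Σ y : T, {x : M | x ∈ s ∧ φ x = y.1}) := Nat.card_sigma.symm
    _ ≤ Nat.card s := Nat.card_le_card_of_injective (fun p => ⟨p.2.1, p.2.2.1⟩) fun p p' hp => by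
        rcases p with ⟨⟨y, hy⟩, ⟨x, hx⟩⟩
        rcases p' with ⟨⟨y', hy'⟩, ⟨x', hx'⟩⟩
        obtain rfl : x = x' := congrArg Subtype.val hp
        obtain rfl : y = y' := hx.2.symm.trans hx'.2
        rfl

variable {F : Type*} [Field F] [Fintype F] {q n : ℕ}
variable {W : Submodule F (Fin n → F)} {e f : Fin n → F}

local notation "⟪" x ", " y "⟫" => hermForm n F q x y

/-- The linear map of a group element, as an additive map. -/
def actHom (g : SU n F q) : (Fin n → F) →+ (Fin n → F) :=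
  AddMonoidHom.mk' (act g) (act_add g)

/-- The image of an additive subgroup under a group element. -/
def imgS (g : SU n F q) (S : AddSubgroup (Fin n → F)) : AddSubgroup (Fin n → F) :=
  S.map (actHom g)

omit [Fintype F] in
theorem mem_imgS {g : SU n F q} {S : AddSubgroup (Fin n → F)} {x : Fin n → F} :
    x ∈ imgS g S ↔ ∃ s ∈ S, act g s = x := Iff.rfl

omit [Fintype F] in
theorem imgS_one (S : AddSubgroup (Fin n → F)) : imgS (1 : SU n F q) S = S := by
  ext x; simp [mem_imgS, act_one]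

omit [Fintype F] in
theorem imgS_mul (g k : SU n F q) (S : AddSubgroup (Fin n → F)) :
    imgS (g * k) S = imgS g (imgS k S) := by
  ext x; simp [mem_imgS, act_mul]

variable (hF : Fintype.card F = q ^ 2)
include hF

/-- Every root group of `W` acts trivially. -/
def RootsFix (W : Submodule F (Fin n → F)) (M : Type*) [MulAction (GS q W) M] : Prop :=
  ∀ e (heW : e ∈ W) (he : hermForm n F q e e = 0) (r : fixedSet hF) (α : M),
    Tg hF heW he r • α = α

/-- The root groups of `W` are trivial in every action on fewer than `B` points. -/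
def Small (W : Submodule F (Fin n → F)) (B : ℕ) : Prop :=
  ∀ k < B, ∀ ρ : GS q W →* Equiv.Perm (Fin k),
    ∀ e (heW : e ∈ W) (he : hermForm n F q e e = 0) (r : fixedSet hF), ρ (Tg hF heW he r) = 1

theorem small_apply {B : ℕ} (h : Small hF W B) {M : Type*} [Finite M] [MulAction (GS q W) M]
    (hM : Nat.card M < B) : RootsFix hF W M := by
  intro e heW he r α
  have := h _ hM (((Finite.equivFin M).permCongrHom).toMonoidHom.comp
    (MulAction.toPermHom (GS q W) M)) e heW he r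
  have h2 := congrArg (fun σ : Equiv.Perm (Fin (Nat.card M)) => σ (Finite.equivFin M α)) this
  simpa [Equiv.permCongrHom] using h2

/-- An element with few images is fixed by all root groups. -/
theorem small_orbit {B : ℕ} (h : Small hF W B) {Y : Type*} (a : GS q W → Y → Y)
    (h1 : ∀ y, a 1 y = y) (hm : ∀ g k y, a (g * k) y = a g (a k y)) (y : Y)
    (hy : Nat.card (Set.range fun g => a g y) < B) {e : Fin n → F} (heW : e ∈ W)
    (he : hermForm n F q e e = 0) (r : fixedSet hF) : a (Tg hF heW he r) y = y := by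
  let I : MulAction (GS q W) (Set.range fun g => a g y) :=
    { smul := fun g z => ⟨a g z.1, by obtain ⟨k, hk⟩ := z.2; exact ⟨g * k, by
        show a (g * k) y = a g z.1
        rw [hm, show a k y = z.1 from hk]⟩⟩
      one_smul := fun z => Subtype.ext (h1 _)
      mul_smul := fun g k z => Subtype.ext (hm _ _ _) }
  have : Finite (GS q W) := inferInstance
  have : Finite (Set.range fun g => a g y) := Finite.Set.finite_range _
  exact congrArg Subtype.val (small_apply hF h hy e heW he r ⟨y, 1, h1 y⟩)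

/-- A subgroup with few images is invariant under all root groups. -/
theorem invAt_of_few {B : ℕ} (h : Small hF W B) {S : AddSubgroup (Fin n → F)}
    (hS : Nat.card (Set.range fun g : GS q W => imgS (g : SU n F q) S) < B)
    {u : Fin n → F} (huW : u ∈ W) (hu : ⟪u, u⟫ = 0) : InvAt hF S u := by
  refine (invAt_iff hF hu S).2 fun r s hs => ?_
  have := small_orbit hF h (fun g : GS q W => imgS (g : SU n F q)) imgS_one
    (fun g k T => imgS_mul _ _ T) S hS huW hu r
  rw [← this]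
  exact mem_imgS.2 ⟨s, hs, rfl⟩

/-! ### The Heisenberg group of a hyperbolic pair -/

theorem act_eich_f (hP : HP q W e f) {w : Fin n → F} {μ : F} (hw : w ∈ pairPerp q W e f)
    (hμ : μ + μ ^ q + ⟪w, w⟫ = 0) :
    act (eich hF e w μ hP.ee (perp_e hw) hμ) f = f + w + μ • e := by
  rw [eich_act, hP.fe, f_perp hF hw, one_smul, mul_one, sub_zero]

/-- An element of the Heisenberg group. -/
noncomputable def Qel (hP : HP q W e f) {w : Fin n → F} {μ : F} (hw : w ∈ pairPerp q W e f)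
    (hμ : μ + μ ^ q + hermForm n F q w w = 0) : GS q W :=
  Eg hF hP.eW hP.ee (pairPerp_le hw) (perp_e hw) hμ

/-- The Heisenberg group. -/
noncomputable def Qg (hP : HP q W e f) : Subgroup (GS q W) :=
  (SUMinDegree32.heis hF hP.ee (pairPerp q W e f) fun _ hw => perp_e hw).comap (GS q W).subtype

theorem Qel_mem (hP : HP q W e f) {w : Fin n → F} {μ : F} (hw : w ∈ pairPerp q W e f)
    (hμ : μ + μ ^ q + ⟪w, w⟫ = 0) : Qel hF hP hw hμ ∈ Qg hF hP :=
  ⟨w, hw, μ, hμ, rfl⟩

theorem exists_Qel (hP : HP q W e f) {x : GS q W} (hx : x ∈ Qg hF hP) :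
    ∃ (w : Fin n → F) (μ : F) (hw : w ∈ pairPerp q W e f)
      (hμ : μ + μ ^ q + ⟪w, w⟫ = 0), x = Qel hF hP hw hμ := by
  obtain ⟨w, hw, μ, hμ, he⟩ := hx
  exact ⟨w, μ, hw, hμ, Subtype.ext he⟩

theorem Qel_inj (hP : HP q W e f) {w w' : Fin n → F} {μ μ' : F}
    {hw : w ∈ pairPerp q W e f} {hμ : μ + μ ^ q + ⟪w, w⟫ = 0} {hw' : w' ∈ pairPerp q W e f}
    {hμ' : μ' + μ' ^ q + ⟪w', w'⟫ = 0} (h : Qel hF hP hw hμ = Qel hF hP hw' hμ') :
    w = w' ∧ μ = μ' := by
  have h1 := congrArg (fun g : GS q W => act (g : SU n F q) f) h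
  simp only [Qel, Eg_coe, act_eich_f hF hP hw hμ, act_eich_f hF hP hw' hμ'] at h1
  have h2 := congrArg (fun x => ⟪x, f⟫) h1
  simp only [herm_add_left, herm_smul_left, hP.ff, hP.ef, perp_f hw, perp_f hw', zero_add,
    mul_one] at h2
  subst h2
  exact ⟨add_left_cancel (add_right_cancel h1), rfl⟩

theorem Qel_congr (hP : HP q W e f) {w w' : Fin n → F} {μ μ' : F}
    (hw : w ∈ pairPerp q W e f) (hμ : μ + μ ^ q + ⟪w, w⟫ = 0) (hw' : w' ∈ pairPerp q W e f)
    (hμ' : μ' + μ' ^ q + ⟪w', w'⟫ = 0) (h1 : w = w') (h2 : μ = μ') :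
    Qel hF hP hw hμ = Qel hF hP hw' hμ' := by
  subst h1; subst h2; rfl

theorem Qel_mul (hP : HP q W e f) {w w' : Fin n → F} {μ μ' : F}
    (hw : w ∈ pairPerp q W e f) (hμ : μ + μ ^ q + ⟪w, w⟫ = 0) (hw' : w' ∈ pairPerp q W e f)
    (hμ' : μ' + μ' ^ q + ⟪w', w'⟫ = 0) :
    ∃ h : μ + μ' - ⟪w', w⟫ + (μ + μ' - ⟪w', w⟫) ^ q + ⟪w + w', w + w'⟫ = 0,
      Qel hF hP hw hμ * Qel hF hP hw' hμ' =
        Qel hF hP (Submodule.add_mem _ hw hw') h := by
  refine ⟨?_, Subtype.ext (eich_mul hF hP.ee (perp_e hw) (perp_e hw') hμ hμ')⟩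
  rw [sub_pow_q hF, add_pow_q hF, herm_add_left, herm_add_right hF, herm_add_right hF,
    ← herm_conj hF]
  linear_combination hμ + hμ'

theorem Tg_eq_Qel (hP : HP q W e f) (r : fixedSet hF) :
    ∃ hμ : c0 hF * (r : F) + (c0 hF * (r : F)) ^ q + ⟪(0 : Fin n → F), 0⟫ = 0,
      Tg hF hP.eW hP.ee r = Qel hF hP (Submodule.zero_mem _) hμ :=
  ⟨by rw [herm_zero_left, add_zero, c0_mul_skew hF r.2],
    Subtype.ext (eich_zero hF hP.ee r (herm_zero_left e)
      (by rw [herm_zero_left, add_zero, c0_mul_skew hF r.2])).symm⟩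

theorem Tg_mem_Qg (hP : HP q W e f) (r : fixedSet hF) : Tg hF hP.eW hP.ee r ∈ Qg hF hP := by
  obtain ⟨hμ, h⟩ := Tg_eq_Qel hF hP r
  rw [h]; exact Qel_mem hF hP _ _

theorem card_Qg (hP : HP q W e f) :
    Nat.card (Qg hF hP) = Nat.card (pairPerp q W e f) * q := by
  choose μf hμf using fun w : Fin n → F => exists_mu hF w
  have hμr : ∀ (w : Fin n → F) (r : fixedSet hF),
      (μf w + c0 hF * (r : F)) + (μf w + c0 hF * (r : F)) ^ q + ⟪w, w⟫ = 0 := fun w r => by
    rw [add_pow_q hF]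
    linear_combination hμf w + c0_mul_skew hF r.2
  let φ : pairPerp q W e f × fixedSet hF → Qg hF hP := fun p =>
    ⟨Qel hF hP p.1.2 (hμr p.1 p.2), Qel_mem hF hP _ _⟩
  have hφ : Function.Bijective φ := by
    refine ⟨fun p p' h => ?_, fun x => ?_⟩
    · obtain ⟨h1, h2⟩ := Qel_inj hF hP (hw := p.1.2) (hw' := p'.1.2) (hμ := hμr p.1 p.2)
        (hμ' := hμr p'.1 p'.2) (congrArg Subtype.val h)
      rw [h1] at h2
      exact Prod.ext (Subtype.ext h1)
        (Subtype.ext (mul_left_cancel₀ (c0_ne hF) (add_left_cancel h2)))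
    · obtain ⟨w, μ, hw, hμ, hx⟩ := exists_Qel hF hP x.2
      obtain ⟨r, hr⟩ := exists_eq_c0_mul hF (c := μ - μf w) (by
        rw [sub_pow_q hF]; linear_combination hμ - hμf w)
      exact ⟨(⟨w, hw⟩, r), Subtype.ext ((Qel_congr hF hP hw (hμr w r) hw hμ rfl
        (by rw [← hr]; ring)).trans hx.symm)⟩
  rw [← Nat.card_eq_of_bijective φ hφ, Nat.card_prod, card_fixedSet hF]

/-! ### Stabilisers -/

variable {M : Type*} [MulAction (GS q W) M]

/-- The parameters of the root elements at `e` fixing `α`. -/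
def PP (heW : e ∈ W) (he : hermForm n F q e e = 0) (α : M) : AddSubgroup (fixedSet hF) where
  carrier := {r | Tg hF heW he r • α = α}
  zero_mem' := by
    show Tg hF heW he 0 • α = α
    rw [show Tg hF heW he 0 = 1 from Subtype.ext (T_zero hF e he), one_smul]
  add_mem' := fun {r s} hr hs => by
    show Tg hF heW he (r + s) • α = α
    rw [show Tg hF heW he (r + s) = Tg hF heW he r * Tg hF heW he s from
      Subtype.ext (T_add hF e he r s), mul_smul, hs, hr]
  neg_mem' := fun {r} hr => by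
    show Tg hF heW he (-r) • α = α
    have h : Tg hF heW he (-r) * Tg hF heW he r = 1 := Subtype.ext (by
      show T hF e he (-r) * T hF e he r = 1
      rw [← T_add, neg_add_cancel, T_zero])
    conv_lhs => rw [← (show Tg hF heW he r • α = α from hr), ← mul_smul, h, one_smul]

theorem mem_PP {heW : e ∈ W} {he : ⟪e, e⟫ = 0} {α : M} {r : fixedSet hF} :
    r ∈ PP hF heW he α ↔ Tg hF heW he r • α = α := Iff.rfl

/-- The parameters of the Heisenberg elements fixing `α`. -/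
def SS (hP : HP q W e f) (α : M) : AddSubgroup (Fin n → F) where
  carrier := {w | ∃ (hw : w ∈ pairPerp q W e f) (μ : F)
    (hμ : μ + μ ^ q + hermForm n F q w w = 0), Qel hF hP hw hμ • α = α}
  zero_mem' := by
    obtain ⟨hμ, h⟩ := Tg_eq_Qel hF hP 0
    refine ⟨Submodule.zero_mem _, _, hμ, ?_⟩
    rw [← h, show Tg hF hP.eW hP.ee 0 = 1 from Subtype.ext (T_zero hF e hP.ee), one_smul]
  add_mem' := by
    rintro a b ⟨ha, μ, hμ, h1⟩ ⟨hb, ν, hν, h2⟩
    obtain ⟨h, he⟩ := Qel_mul hF hP ha hμ hb hν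
    exact ⟨Submodule.add_mem _ ha hb, _, h, by rw [← he, mul_smul, h2, h1]⟩
  neg_mem' := by
    rintro a ⟨ha, μ, hμ, h1⟩
    obtain ⟨w, ν, hw, hν, hinv⟩ := exists_Qel hF hP ((Qg hF hP).inv_mem (Qel_mem hF hP ha hμ))
    obtain ⟨h, he⟩ := Qel_mul hF hP hw hν ha hμ
    rw [← hinv, inv_mul_cancel] at he
    obtain ⟨hμ0, hT⟩ := Tg_eq_Qel hF hP 0
    rw [← show Tg hF hP.eW hP.ee 0 = 1 from Subtype.ext (T_zero hF e hP.ee), hT] at he
    obtain rfl : w = -a := eq_neg_of_add_eq_zero_left (Qel_inj hF hP he).1.symm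
    exact ⟨hw, ν, hν, by rw [← hinv, inv_smul_eq_iff, h1]⟩

theorem mem_SS {hP : HP q W e f} {α : M} {w : Fin n → F} :
    w ∈ SS hF hP α ↔ ∃ (hw : w ∈ pairPerp q W e f) (μ : F)
      (hμ : μ + μ ^ q + ⟪w, w⟫ = 0), Qel hF hP hw hμ • α = α := Iff.rfl

theorem SS_le (hP : HP q W e f) (α : M) : ∀ s ∈ SS hF hP α, s ∈ pairPerp q W e f :=
  fun _ hs => hs.choose

/-- The orbit of the Heisenberg group. -/
theorem card_orbit_mul (hP : HP q W e f) (α : M) :
    Nat.card (MulAction.orbit (Qg hF hP) α) *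
      (Nat.card (SS hF hP α) * Nat.card (PP hF hP.eW hP.ee α)) =
        Nat.card (pairPerp q W e f) * q := by
  rw [← card_Qg hF hP]
  have hst : Nat.card (MulAction.stabilizer (Qg hF hP) α) =
      Nat.card (SS hF hP α) * Nat.card (PP hF hP.eW hP.ee α) := by
    rw [← Nat.card_prod]
    have hs : ∀ s : SS hF hP α, ∃ μ : F, ∃ hμ : μ + μ ^ q + ⟪(s : Fin n → F), s⟫ = 0,
        Qel hF hP (SS_le hF hP α _ s.2) hμ • α = α := fun s => s.2.choose_spec
    choose μs hμs hfix using hs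
    let φ : SS hF hP α × PP hF hP.eW hP.ee α → MulAction.stabilizer (Qg hF hP) α := fun p =>
      ⟨⟨Qel hF hP (SS_le hF hP α _ p.1.2) (hμs p.1) * Tg hF hP.eW hP.ee p.2.1,
        mul_mem (Qel_mem hF hP _ _) (Tg_mem_Qg hF hP _)⟩, by
        rw [MulAction.mem_stabilizer_iff, Subgroup.smul_def, mul_smul, p.2.2, hfix]⟩
    refine (Nat.card_eq_of_bijective φ ⟨fun p p' h => ?_, fun x => ?_⟩).symm
    · have h' : Qel hF hP (SS_le hF hP α _ p.1.2) (hμs p.1) * Tg hF hP.eW hP.ee p.2.1 =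
          Qel hF hP (SS_le hF hP α _ p'.1.2) (hμs p'.1) * Tg hF hP.eW hP.ee p'.2.1 :=
        congrArg (fun z : MulAction.stabilizer (Qg hF hP) α => ((z : Qg hF hP) : GS q W)) h
      obtain ⟨h1, t1⟩ := Tg_eq_Qel hF hP p.2.1
      obtain ⟨h2, t2⟩ := Tg_eq_Qel hF hP p'.2.1
      obtain ⟨h3, m1⟩ := Qel_mul hF hP (SS_le hF hP α _ p.1.2) (hμs p.1) (Submodule.zero_mem _) h1
      obtain ⟨h4, m2⟩ :=
        Qel_mul hF hP (SS_le hF hP α _ p'.1.2) (hμs p'.1) (Submodule.zero_mem _) h2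
      rw [t1, t2, m1, m2] at h'
      obtain ⟨e1, e2⟩ := Qel_inj hF hP h'
      rw [add_zero, add_zero] at e1
      have e3 : p.1 = p'.1 := Subtype.ext e1
      rw [e3, herm_zero_left, sub_zero, sub_zero] at e2
      exact Prod.ext e3
        (Subtype.ext (Subtype.ext (mul_left_cancel₀ (c0_ne hF) (add_left_cancel e2))))
    · obtain ⟨w, μ, hw, hμ, hx⟩ := exists_Qel hF hP x.1.2
      have hxα : Qel hF hP hw hμ • α = α := by
        rw [← hx]; exact x.2
      have hwS : w ∈ SS hF hP α := ⟨hw, μ, hμ, hxα⟩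
      set s : SS hF hP α := ⟨w, hwS⟩
      obtain ⟨r, hr⟩ := exists_eq_c0_mul hF (c := μ - μs s) (by
        rw [sub_pow_q hF]; linear_combination hμ - hμs s)
      obtain ⟨h1, t1⟩ := Tg_eq_Qel hF hP r
      obtain ⟨h3, m1⟩ := Qel_mul hF hP (SS_le hF hP α _ s.2) (hμs s) (Submodule.zero_mem _) h1
      have key : Qel hF hP (SS_le hF hP α _ s.2) (hμs s) * Tg hF hP.eW hP.ee r =
          Qel hF hP hw hμ := by
        rw [t1, m1]
        refine Qel_congr hF hP _ _ _ _ (add_zero w) ?_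
        rw [herm_zero_left, sub_zero, ← hr]; ring
      have hrP : r ∈ PP hF hP.eW hP.ee α := by
        show Tg hF hP.eW hP.ee r • α = α
        rw [← eq_inv_mul_iff_mul_eq] at key
        rw [key, mul_smul, hxα, inv_smul_eq_iff, hfix]
      exact ⟨(s, ⟨r, hrP⟩), Subtype.ext (Subtype.ext (key.trans hx.symm))⟩
  rw [← hst, ← Nat.card_prod]
  exact Nat.card_congr (MulAction.orbitProdStabilizerEquivGroup (Qg hF hP) α)

/-- The pairing of two stabiliser parameters lies in the root stabiliser. -/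
theorem isot_SS (hP : HP q W e f) (α : M) :
    Isot hF (PP hF hP.eW hP.ee α) (SS hF hP α) := by
  rintro w ⟨hw, μ, hμ, h1⟩ w' ⟨hw', μ', hμ', h2⟩
  have hs : Qel hF hP hw' hμ' * Qel hF hP hw hμ =
      Qel hF hP hw hμ * Qel hF hP hw' hμ' * Tg hF hP.eW hP.ee (bf hF w w') :=
    Subtype.ext (SUMinDegree32.eich_swap hF hP.ee (perp_e hw) (perp_e hw') hμ hμ' _
      (c0_mul_bf hF w w'))
  have h3 := congrArg (· • α) hs
  simp only [mul_smul, h1, h2] at h3
  have h4 : (Qel hF hP hw hμ * Qel hF hP hw' hμ') • α = α := by rw [mul_smul, h2, h1]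
  have h5 : (Qel hF hP hw hμ * Qel hF hP hw' hμ') • (Tg hF hP.eW hP.ee (bf hF w w') • α) =
      (Qel hF hP hw hμ * Qel hF hP hw' hμ') • α := by rw [h4, mul_smul]; exact h3.symm
  exact smul_left_cancel _ h5

theorem PP_smul {g : GS q W} (heW : e ∈ W) (he : ⟪e, e⟫ = 0) {t : F} (ht : t ≠ 0)
    (hg : act (g : SU n F q) e = t • e) (α : M) :
    PP hF heW he (g • α) =
      scaleP hF ⟨t ^ q * t, (mem_fixedSet hF).2 (by rw [mul_pow, pow_q_q hF, mul_comm])⟩
        (PP hF heW he α) := by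
  set ν : fixedSet hF := ⟨t ^ q * t, (mem_fixedSet hF).2 (by rw [mul_pow, pow_q_q hF, mul_comm])⟩
  have hν : (ν : F) ≠ 0 := mul_ne_zero (pow_ne_zero _ ht) ht
  have hconj : ∀ r s : fixedSet hF, (ν : F) * r = s →
      g * Tg hF heW he r * g⁻¹ = Tg hF heW he s := fun r s hrs => Subtype.ext (by
    show (g : SU n F q) * T hF e he r * (g : SU n F q)⁻¹ = T hF e he s
    rw [conj_T hF, T_congr hF _ (by rw [herm_smul_left, herm_smul_right, he, mul_zero, mul_zero]) hg]
    exact T_smul hF he _ r s hrs.symm)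
  ext x
  rw [mem_scaleP, mem_PP]
  constructor
  · intro hx
    refine ⟨⟨(x : F) / ν, (mem_fixedSet hF).2 (by rw [div_pow, x.2, ν.2])⟩, ?_,
      mul_div_cancel₀ _ hν⟩
    show Tg hF heW he _ • α = α
    rw [← hconj ⟨(x : F) / ν, (mem_fixedSet hF).2 (by rw [div_pow, x.2, ν.2])⟩ x
      (mul_div_cancel₀ _ hν), mul_smul, mul_smul, inv_smul_smul] at hx
    exact smul_left_cancel g hx
  · rintro ⟨r, hr, hrx⟩
    rw [← hconj r x hrx, mul_smul, mul_smul, inv_smul_smul, hr]

omit hF in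
/-- The parameter condition after conjugation. -/
theorem cond_conj {g : GS q W} (hF : Fintype.card F = q ^ 2) {t : F} {w : Fin n → F} {μ : F}
    (hμ : μ + μ ^ q + ⟪w, w⟫ = 0) :
    t ^ q * t * μ + (t ^ q * t * μ) ^ q +
      ⟪t ^ q • act (g : SU n F q) w, t ^ q • act (g : SU n F q) w⟫ = 0 := by
  rw [herm_smul_left, herm_smul_right, herm_act, pow_q_q hF, mul_pow, mul_pow, pow_q_q hF]
  linear_combination (t ^ q * t) * hμ

/-- Conjugation of a Heisenberg element. -/
theorem conj_Qel {g : GS q W} (hP : HP q W e f) {t : F}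
    (hg : act (g : SU n F q) e = t • e)
    (hgW : ∀ w ∈ pairPerp q W e f, act (g : SU n F q) w ∈ pairPerp q W e f)
    {w : Fin n → F} {μ : F} (hw : w ∈ pairPerp q W e f) (hμ : μ + μ ^ q + ⟪w, w⟫ = 0) :
    g * Qel hF hP hw hμ * g⁻¹ =
      Qel hF hP (Submodule.smul_mem _ (t ^ q) (hgW w hw)) (cond_conj (g := g) hF hμ) :=
  Subtype.ext (by
    apply su_ext
    intro x
    simp only [Qel, Eg_coe, Subgroup.coe_mul, InvMemClass.coe_inv]
    show act ((g : SU n F q) * eich hF e w μ hP.ee (perp_e hw) hμ * (g : SU n F q)⁻¹) x = _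
    rw [eich_conj hF, eich_act, eich_act, hg]
    simp only [herm_smul_right, pow_q_q hF, smul_smul]
    module)

theorem SS_map_le {g : GS q W} (hP : HP q W e f) {t : F}
    (hg : act (g : SU n F q) e = t • e)
    (hgW : ∀ w ∈ pairPerp q W e f, act (g : SU n F q) w ∈ pairPerp q W e f) (α : M) :
    ∀ s ∈ SS hF hP α, t ^ q • act (g : SU n F q) s ∈ SS hF hP (g • α) := by
  rintro w ⟨hw, μ, hμ, h⟩
  refine ⟨Submodule.smul_mem _ _ (hgW w hw), _, cond_conj (g := g) hF hμ, ?_⟩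
  rw [← conj_Qel hF hP hg hgW hw hμ, mul_smul, mul_smul, inv_smul_smul, h]

theorem SS_smul {g : GS q W} (hP : HP q W e f) {t : F} (ht : t ≠ 0)
    (hg : act (g : SU n F q) e = t • e)
    (hgW : ∀ w ∈ pairPerp q W e f, act (g : SU n F q) w ∈ pairPerp q W e f) (α : M) :
    ∀ s, s ∈ SS hF hP (g • α) ↔ ∃ s' ∈ SS hF hP α, t ^ q • act (g : SU n F q) s' = s := by
  intro s
  refine ⟨fun hs => ?_, fun ⟨s', hs', he⟩ => he ▸ SS_map_le hF hP hg hgW α s' hs'⟩
  have hgW' : ∀ w ∈ pairPerp q W e f, act ((g⁻¹ : GS q W) : SU n F q) w ∈ pairPerp q W e f := by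
    intro w hw
    have hinj : Function.Injective (fun x : pairPerp q W e f =>
        (⟨act (g : SU n F q) x, hgW _ x.2⟩ : pairPerp q W e f)) := fun a b hab => Subtype.ext (by
      have := congrArg (fun z : pairPerp q W e f => act (g : SU n F q)⁻¹ (z : Fin n → F)) hab
      simpa [act_inv_act] using this)
    obtain ⟨x, hx⟩ := (Finite.injective_iff_surjective.1 hinj) ⟨w, hw⟩
    have hx' : act (g : SU n F q) x = w := congrArg Subtype.val hx
    rw [InvMemClass.coe_inv, ← hx', act_inv_act]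
    exact x.2
  have hg' : act ((g⁻¹ : GS q W) : SU n F q) e = t⁻¹ • e := by
    have h1 : act (g : SU n F q)⁻¹ (act (g : SU n F q) e) = e := act_inv_act _ _
    rw [hg, act_smul] at h1
    rw [InvMemClass.coe_inv]
    exact (inv_smul_eq_iff₀ ht).2 h1.symm |>.symm
  have h2 := SS_map_le hF hP hg' hgW' (g • α) s hs
  rw [inv_smul_smul] at h2
  refine ⟨_, h2, ?_⟩
  rw [InvMemClass.coe_inv, act_smul, act_act_inv, smul_smul, ← mul_pow, mul_inv_cancel₀ ht,
    one_pow, one_smul]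

theorem PP_orbit (hP : HP q W e f) {ξ : GS q W} (hξ : ξ ∈ Qg hF hP) (α : M) :
    PP hF hP.eW hP.ee (ξ • α) = PP hF hP.eW hP.ee α := by
  obtain ⟨w, μ, hw, hμ, rfl⟩ := exists_Qel hF hP hξ
  have hcomm : ∀ r, Tg hF hP.eW hP.ee r * Qel hF hP hw hμ =
      Qel hF hP hw hμ * Tg hF hP.eW hP.ee r := fun r =>
    Subtype.ext (commute_T hF hP.ee (eich_self hF e w μ hP.ee (perp_e hw) hμ) r).symm
  ext r
  rw [mem_PP, mem_PP, ← mul_smul, hcomm, mul_smul, smul_left_cancel_iff]

theorem SS_orbit (hP : HP q W e f) {ξ : GS q W} (hξ : ξ ∈ Qg hF hP) (α : M) :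
    SS hF hP (ξ • α) = SS hF hP α := by
  suffices h : ∀ ξ ∈ Qg hF hP, ∀ α : M, SS hF hP α ≤ SS hF hP (ξ • α) by
    refine le_antisymm ?_ (h ξ hξ α)
    simpa using h ξ⁻¹ ((Qg hF hP).inv_mem hξ) (ξ • α)
  intro ξ hξ α w hwS
  obtain ⟨hw, μ, hμ, h⟩ := hwS
  obtain ⟨v, ν, hv, hν, rfl⟩ := exists_Qel hF hP hξ
  have hs : Qel hF hP hv hν * Qel hF hP hw hμ =
      Qel hF hP hw hμ * Qel hF hP hv hν * Tg hF hP.eW hP.ee (bf hF w v) :=
    Subtype.ext (SUMinDegree32.eich_swap hF hP.ee (perp_e hw) (perp_e hv) hμ hν _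
      (c0_mul_bf hF w v))
  have hc : Qel hF hP hv hν * Tg hF hP.eW hP.ee (bf hF w v) =
      Tg hF hP.eW hP.ee (bf hF w v) * Qel hF hP hv hν :=
    Subtype.ext (commute_T hF hP.ee (eich_self hF e v ν hP.ee (perp_e hv) hν) _)
  obtain ⟨h1, t1⟩ := Tg_eq_Qel hF hP (bf hF w v)
  obtain ⟨h3, m1⟩ := Qel_mul hF hP hw hμ (Submodule.zero_mem _) h1
  have hkey : Qel hF hP (Submodule.add_mem _ hw (Submodule.zero_mem _)) h3 •
      (Qel hF hP hv hν • α) = Qel hF hP hv hν • α := by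
    rw [← m1, ← t1, ← mul_smul, mul_assoc, ← hc, ← mul_assoc, ← hs, mul_smul, h]
  have := (mem_SS hF).2 ⟨_, _, h3, hkey⟩
  rwa [add_zero] at this

end Cfsg.Agent.MinIndexUnit19
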