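import Mathlib
import Cfsg.Agent.Lib.MinIndexUnit19Root
import Cfsg.Agent.Lib.MinIndexUnit19Arith

/-!
Counting isotropic vectors of a nondegenerate subspace; scalar stabilisers of additive subgroups.
-/

set_option autoImplicit false

namespace Cfsg.Agent.MinIndexUnit19

open Cfsg Cfsg.Agent.OrthUnitaryHerm Cfsg.Agent.OrthUnitaryTransvection
  Cfsg.Agent.SUMinDegree32Geom

/-- The number of isotropic vectors (zero included) in dimension `m`. -/
def vecN (q : ℕ) : ℕ → ℕ
  | 0 => 1
  | 1 => 1
  | m + 2 => q ^ 2 * vecN q m + (q ^ 2 - 1) * q ^ (2 * m + 1)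

theorem vecN_eq {q : ℕ} (hq : 1 ≤ q) : ∀ m, vecN q m = 1 + (q ^ 2 - 1) * isoN q m
  | 0 => by simp [vecN, isoN]
  | 1 => by simp [vecN, isoN]
  | m + 2 => by
    rw [vecN, isoN_succ_succ, vecN_eq hq m]
    obtain ⟨k, hk⟩ : ∃ k, q ^ 2 = k + 1 := ⟨q ^ 2 - 1, by have := Nat.one_le_pow 2 q hq; omega⟩
    rw [hk, Nat.add_sub_cancel]
    ring

variable {F : Type*} [Field F] [Fintype F] {q n : ℕ}
variable {W : Submodule F (Fin n → F)} {e f : Fin n → F}

local notation "⟪" x ", " y "⟫" => hermForm n F q x y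

variable (hF : Fintype.card F = q ^ 2)
include hF

theorem card_trace_fibre {a : F} (ha : a ^ q = a) : Nat.card {t : F // t + t ^ q = a} = q := by
  obtain ⟨t₀, ht₀⟩ := exists_trace hF ha
  refine (Nat.card_congr (β := fixedSet hF)
    { toFun := fun t : {t : F // t + t ^ q = a} => ⟨((t : F) - t₀) / c0 hF, (mem_fixedSet hF).2 (by
        rw [div_pow, sub_pow_q hF, show c0 hF ^ q = -c0 hF by linear_combination c0_skew hF,
          div_neg, ← neg_div]
        congr 1
        linear_combination ht₀ - t.2)⟩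
      invFun := fun r => ⟨t₀ + c0 hF * (r : F), by
        rw [add_pow_q hF]
        linear_combination ht₀ + c0_mul_skew hF r.2⟩
      left_inv := fun t => Subtype.ext (by
        show t₀ + c0 hF * (((t : F) - t₀) / c0 hF) = t
        rw [mul_div_cancel₀ _ (c0_ne hF)]; ring)
      right_inv := fun r => Subtype.ext (by
        show (t₀ + c0 hF * (r : F) - t₀) / c0 hF = r
        rw [add_sub_cancel_left, mul_div_cancel_left₀ _ (c0_ne hF)]) }).trans (card_fixedSet hF)

omit [Fintype F] hF in
theorem eq_zero_of_finrank_one (hW : Nondeg q W) (hd : Module.finrank F W = 1) {x : Fin n → F}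
    (hx : x ∈ W) (hxx : ⟪x, x⟫ = 0) : x = 0 := by
  by_contra hx0
  refine hx0 (hW x hx fun y hy => ?_)
  obtain ⟨c, hc⟩ := exists_smul_eq_of_finrank_eq_one hd (x := (⟨x, hx⟩ : W))
    (fun h => hx0 (congrArg Subtype.val h)) ⟨y, hy⟩
  have : y = c • x := (congrArg Subtype.val hc).symm
  rw [this, herm_smul_right, hxx, mul_zero]

theorem card_isoVec : ∀ (m : ℕ) (W : Submodule F (Fin n → F)), Nondeg q W →
    Module.finrank F W = m →
    Nat.card {x : Fin n → F // x ∈ W ∧ hermForm n F q x x = 0} = vecN q m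
  | 0, W, _, hd => by
    rw [vecN]
    refine Nat.card_eq_one_iff_unique.2 ⟨⟨fun a b => Subtype.ext ?_⟩,
      ⟨⟨0, W.zero_mem, herm_zero_left 0⟩⟩⟩
    have hb : W = ⊥ := Submodule.finrank_eq_zero.1 hd
    rw [(Submodule.eq_bot_iff _).1 hb _ a.2.1, (Submodule.eq_bot_iff _).1 hb _ b.2.1]
  | 1, W, hW, hd => by
    rw [vecN]
    refine Nat.card_eq_one_iff_unique.2 ⟨⟨fun a b => Subtype.ext ?_⟩,
      ⟨⟨0, W.zero_mem, herm_zero_left 0⟩⟩⟩
    rw [eq_zero_of_finrank_one hW hd a.2.1 a.2.2, eq_zero_of_finrank_one hW hd b.2.1 b.2.2]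
  | m + 2, W, hW, hd => by
    classical
    obtain ⟨e, heW, he0, he⟩ := exists_iso_in hF hW (by omega)
    obtain ⟨f, hP⟩ := HP.exists_of_iso hF hW heW he0 he
    have hd' : Module.finrank F (pairPerp q W e f) = m := by have := hP.finrank hF; omega
    set W' := pairPerp q W e f with hW'
    have ih := card_isoVec m W' (hP.nondeg hF hW) hd'
    have hform : ∀ (a b : F) (w : Fin n → F), w ∈ W' →
        ⟪a • e + b • f + w, a • e + b • f + w⟫ = a * b ^ q + (a * b ^ q) ^ q + ⟪w, w⟫ := by
      intro a b w hw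
      simp only [herm_add_left, herm_add_right hF, herm_smul_left, herm_smul_right, he, hP.ff,
        hP.ef, hP.fe, perp_e hw, perp_f hw, e_perp hF hw, f_perp hF hw, mul_pow, pow_q_q hF]
      ring
    let Φ : (Σ p : F × W', {a : F // a * p.1 ^ q + (a * p.1 ^ q) ^ q +
        ⟪(p.2 : Fin n → F), (p.2 : Fin n → F)⟫ = 0}) → {x : Fin n → F // x ∈ W ∧ ⟪x, x⟫ = 0} :=
      fun p => ⟨(p.2 : F) • e + p.1.1 • f + (p.1.2 : Fin n → F),
        W.add_mem (W.add_mem (W.smul_mem _ heW) (W.smul_mem _ hP.fW)) (pairPerp_le p.1.2.2),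
        by rw [hform _ _ _ p.1.2.2]; exact p.2.2⟩
    have hΦ : Function.Bijective Φ := by
      constructor
      · rintro ⟨⟨b, w⟩, a⟩ ⟨⟨b', w'⟩, a'⟩ h
        have h' : (a : F) • e + b • f + (w : Fin n → F) = (a' : F) • e + b' • f + (w' : Fin n → F) :=
          congrArg Subtype.val h
        have hb := congrArg (fun x => ⟪x, e⟫) h'
        have ha := congrArg (fun x => ⟪x, f⟫) h'
        simp only [herm_add_left, herm_smul_left, he, hP.fe, hP.ef, hP.ff, perp_e w.2, perp_e w'.2,
          perp_f w.2, perp_f w'.2, mul_zero, mul_one, zero_add, add_zero] at hb ha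
        subst hb
        rw [ha] at h'
        obtain rfl : w = w' := Subtype.ext (add_left_cancel h')
        obtain rfl : a = a' := Subtype.ext ha
        rfl
      · rintro ⟨x, hxW, hxx⟩
        have hk := hP.decomp hxW
        have hx : ⟪x, f⟫ • e + ⟪x, e⟫ • f + (x - ⟪x, f⟫ • e - ⟪x, e⟫ • f) = x := by abel
        refine ⟨⟨(⟪x, e⟫, ⟨_, hk⟩), ⟨⟪x, f⟫, ?_⟩⟩, Subtype.ext hx⟩
        have h := hform ⟪x, f⟫ ⟪x, e⟫ _ hk
        rw [hx, hxx] at h
        exact h.symm
    have := Fintype.ofFinite W'
    have hfib : ∀ p : F × W', Nat.card {a : F // a * p.1 ^ q + (a * p.1 ^ q) ^ q +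
        ⟪(p.2 : Fin n → F), (p.2 : Fin n → F)⟫ = 0} =
          if p.1 = 0 then (if ⟪(p.2 : Fin n → F), (p.2 : Fin n → F)⟫ = 0 then q ^ 2 else 0)
          else q := by
      rintro ⟨b, w⟩
      by_cases hb : b = 0
      · subst hb
        simp only [zero_pow_q hF, mul_zero, zero_add, if_true]
        by_cases hw : ⟪(w : Fin n → F), (w : Fin n → F)⟫ = 0
        · simp [hw, hF]
        · simp [hw]
      · simp only [if_neg hb]
        refine Eq.trans ?_ (card_trace_fibre hF (a := -⟪(w : Fin n → F), (w : Fin n → F)⟫)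
          (by rw [neg_pow_q hF, herm_self_pow hF]))
        exact Nat.card_congr ((Equiv.mulRight₀ (b ^ q) (pow_ne_zero _ hb)).subtypeEquiv fun a =>
          ⟨fun h => by simpa [eq_neg_iff_add_eq_zero] using h,
            fun h => by simpa [eq_neg_iff_add_eq_zero] using h⟩)
    rw [← Nat.card_congr (Equiv.ofBijective Φ hΦ), Nat.card_sigma, Fintype.sum_prod_type]
    rw [Finset.sum_congr rfl fun b _ => Finset.sum_congr rfl fun w _ => hfib (b, w)]
    rw [← Finset.add_sum_erase _ _ (Finset.mem_univ (0 : F))]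
    simp only [if_true]
    rw [Finset.sum_congr (s₁ := (Finset.univ : Finset F).erase 0) rfl
      (g := fun _ => Fintype.card W' * q) (fun b hb => by
      rw [Finset.sum_congr rfl (g := fun _ => q) fun w _ => if_neg (Finset.ne_of_mem_erase hb),
        Finset.sum_const, Finset.card_univ, smul_eq_mul])]
    rw [← Finset.sum_filter, Finset.sum_const, Finset.sum_const, Finset.card_erase_of_mem
      (Finset.mem_univ _), Finset.card_univ, hF, ← Fintype.card_subtype, smul_eq_mul, smul_eq_mul,
      ← Nat.card_eq_fintype_card, ← Nat.card_eq_fintype_card (α := W'), card_submodule hF W', hd',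
      vecN, ← ih]
    have e1 : Nat.card {x : W' // ⟪(x : Fin n → F), (x : Fin n → F)⟫ = 0} =
        Nat.card {x : Fin n → F // x ∈ W' ∧ ⟪x, x⟫ = 0} := Nat.card_congr
      (Equiv.subtypeSubtypeEquivSubtypeInter (fun x => x ∈ W') fun x => ⟪x, x⟫ = 0)
    rw [e1]
    ring

/-- The order of a set of nonzero vectors closed under scalars is a multiple of `q ^ 2 - 1`. -/
theorem dvd_card_of_smul_closed {s : Set (Fin n → F)} (h0 : ∀ x ∈ s, x ≠ 0)
    (hs : ∀ x ∈ s, ∀ a : F, a ≠ 0 → a • x ∈ s) : q ^ 2 - 1 ∣ Nat.card s := by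
  classical
  let I : MulAction Fˣ s :=
    { smul := fun a x => ⟨(a : F) • (x : Fin n → F), hs _ x.2 _ a.ne_zero⟩
      one_smul := fun x => Subtype.ext (one_smul F _)
      mul_smul := fun a b x => Subtype.ext (mul_smul (a : F) (b : F) _) }
  have horb : ∀ x : s, Nat.card (MulAction.orbit Fˣ x) = q ^ 2 - 1 := fun x => by
    rw [← hF, ← Fintype.card_units, ← Nat.card_eq_fintype_card]
    refine Nat.card_range_of_injective fun a b h => Units.ext ?_
    exact smul_left_injective F (h0 _ x.2) (congrArg Subtype.val h)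
  rw [Nat.card_congr (MulAction.selfEquivSigmaOrbits Fˣ s)]
  have := Fintype.ofFinite (MulAction.orbitRel.Quotient Fˣ s)
  rw [Nat.card_sigma]
  exact Finset.dvd_sum fun i _ => by rw [horb]

/-- If all `t ^ (2 * q)`, `t` of norm one, preserve `S`, so does every scalar. -/
theorem smul_mem_of_normOne (hq3 : q ≠ 3) {S : AddSubgroup (Fin n → F)}
    (h : ∀ t : F, t ^ (q + 1) = 1 → ∀ s ∈ S, (t ^ q * t ^ q) • s ∈ S) :
    ∀ (a : F), ∀ s ∈ S, a • s ∈ S := by
  classical
  let K : Subfield F :=
    { carrier := {a | ∀ s ∈ S, a • s ∈ S}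
      mul_mem' := fun {a b} ha hb s hs => by rw [mul_smul]; exact ha _ (hb s hs)
      one_mem' := fun s hs => by rwa [one_smul]
      add_mem' := fun {a b} ha hb s hs => by rw [add_smul]; exact S.add_mem (ha s hs) (hb s hs)
      zero_mem' := fun s _ => by rw [zero_smul]; exact S.zero_mem
      neg_mem' := fun {a} ha s hs => by rw [neg_smul]; exact S.neg_mem (ha s hs)
      inv_mem' := fun a ha s hs => by
        rcases eq_or_ne a 0 with rfl | ha0
        · rw [inv_zero, zero_smul]; exact S.zero_mem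
        have hinj : Function.Injective (fun x : S => (⟨a • (x : Fin n → F), ha _ x.2⟩ : S)) :=
          fun x y hxy => Subtype.ext (smul_right_injective _ ha0 (congrArg Subtype.val hxy))
        obtain ⟨x, hx⟩ := (Finite.injective_iff_surjective.1 hinj) ⟨s, hs⟩
        have hx' : a • (x : Fin n → F) = s := congrArg Subtype.val hx
        rw [← hx', inv_smul_smul₀ ha0]
        exact x.2 }
  set G := (Finset.univ : Finset Fˣ).filter (fun t => t ^ (q + 1) = 1) with hG
  have hGc : G.card = q + 1 := by
    rw [hG, ← Fintype.card_subtype, ← Nat.card_eq_fintype_card, card_normOne hF]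
  have hμ : ∀ t ∈ G, (t : F) ^ q * (t : F) ^ q ∈ K := fun t ht => h t (by
    rw [← Units.val_pow_eq_pow_val, (Finset.mem_filter.1 ht).2, Units.val_one])
  have hcard := Module.natCard_eq_pow_finrank (K := K) (V := F)
  rw [Nat.card_eq_fintype_card, hF] at hcard
  set s₀ := Nat.card K with hs₀
  set d := Module.finrank K F with hd
  have hq := two_le_q hF
  suffices hd1 : d = 1 by
    intro a
    rw [hd1, pow_one] at hcard
    have hsurj : Function.Bijective (Subtype.val : K → F) :=
      Subtype.val_injective.bijective_of_nat_card_le (by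
        rw [Nat.card_eq_fintype_card, hF, hcard])
    obtain ⟨b, rfl⟩ := hsurj.2 a
    exact b.2
  by_contra hd1
  rcases Nat.lt_or_ge d 3 with hd3 | hd3
  · interval_cases d
    · rw [pow_zero] at hcard
      have := Nat.pow_le_pow_left hq 2
      omega
    · exact hd1 rfl
    · have hsq : s₀ = q := (Nat.pow_left_injective two_ne_zero hcard).symm
      have hfix : ∀ x ∈ K, x ^ q = x := fun x hx => by
        have hp : (⟨x, hx⟩ : K) ^ Nat.card K = ⟨x, hx⟩ := by rw [Nat.card_eq_fintype_card]; exact FiniteField.pow_card _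
        rw [← hs₀, hsq] at hp
        exact congrArg Subtype.val hp
      obtain ⟨t, ht, ht4⟩ : ∃ t ∈ G, t ^ 4 ≠ 1 := by
        by_contra! hall
        rcases Nat.lt_or_ge q 4 with hq4 | hq4
        · obtain rfl : q = 2 := by omega
          obtain ⟨t, ht, ht1⟩ := Finset.exists_mem_ne (show 1 < G.card by omega) (1 : Fˣ)
          refine ht1 ?_
          rw [show t = t ^ 4 * (t ^ (2 + 1))⁻¹ by group, hall t ht, (Finset.mem_filter.1 ht).2,
            inv_one, one_mul]
        · have h4 : ∀ u ∈ G.image (fun t : Fˣ => (t : F)), u ∈ (Polynomial.X ^ 4 - 1 :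
              Polynomial F).roots.toFinset := by
            intro u hu
            obtain ⟨t, ht, rfl⟩ := Finset.mem_image.1 hu
            rw [Multiset.mem_toFinset, Polynomial.mem_roots (Polynomial.X_pow_sub_C_ne_zero
              (by norm_num : 0 < 4) (1 : F) |> fun h => by simpa using h)]
            simp [← Units.val_pow_eq_pow_val, hall t ht]
          have := (Finset.card_le_card h4).trans (Multiset.toFinset_card_le _)
          rw [Finset.card_image_of_injective _ fun a b h => Units.ext h, hGc] at this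
          have := this.trans (Polynomial.card_roots' _)
          rw [show (Polynomial.X ^ 4 - 1 : Polynomial F).natDegree = 4 from
            Polynomial.natDegree_X_pow_sub_C (n := 4) (r := (1 : F)) |> fun h => by simpa using h]
            at this
          omega
      refine ht4 (Units.ext ?_)
      have h1 := hfix _ (hμ t ht)
      rw [mul_pow, pow_q_q hF] at h1
      have h2 : (t : F) * (t : F) ^ q = 1 := by
        rw [← pow_succ', ← Units.val_pow_eq_pow_val, (Finset.mem_filter.1 ht).2, Units.val_one]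
      rw [Units.val_pow_eq_pow_val, Units.val_one]
      linear_combination ((t : F) * t) * h1 + ((t : F) * (t : F) ^ q + 1) * h2
  · have hfib : G.card ≤ 2 * (G.image (fun t : Fˣ => (t : F) ^ q * (t : F) ^ q)).card := by
      refine Finset.card_le_mul_card_image G 2 fun b hb => ?_
      obtain ⟨t₁, -, ht₁⟩ := Finset.mem_image.1 hb
      refine le_trans (Finset.card_le_card (t := {t₁, -t₁}) fun t ht => ?_) Finset.card_le_two
      have hsq := (Finset.mem_filter.1 ht).2.trans ht₁.symm
      have : ((t : F) ^ q - (t₁ : F) ^ q) * ((t : F) ^ q + (t₁ : F) ^ q) = 0 := by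
        linear_combination hsq
      rw [Finset.mem_insert, Finset.mem_singleton]
      rcases mul_eq_zero.1 this with h' | h'
      · left
        refine Units.ext ?_
        rw [← pow_q_q hF (t : F), sub_eq_zero.1 h', pow_q_q hF]
      · right
        refine Units.ext ?_
        rw [Units.val_neg, ← pow_q_q hF (t : F), eq_neg_of_add_eq_zero_left h', neg_pow_q hF,
          pow_q_q hF]
    have hsub : (G.image (fun t : Fˣ => (t : F) ^ q * (t : F) ^ q)).card + 1 ≤ s₀ := by
      have h0 : (0 : F) ∉ G.image (fun t : Fˣ => (t : F) ^ q * (t : F) ^ q) := by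
        rw [Finset.mem_image]
        rintro ⟨t, -, ht⟩
        exact t.ne_zero (eq_zero_of_pow_eq_zero (mul_self_eq_zero.1 ht))
      rw [← Finset.card_insert_of_notMem h0, hs₀]
      rw [← Nat.card_eq_finsetCard]
      refine Nat.card_le_card_of_injective (fun x => (⟨(x : F), ?_⟩ : K)) fun a b hab =>
        Subtype.ext (congrArg (fun y : K => (y : F)) hab)
      rcases Finset.mem_insert.1 x.2 with hx | hx
      · rw [hx]; exact K.zero_mem
      · obtain ⟨t, ht, hte⟩ := Finset.mem_image.1 hx
        rw [← hte]; exact hμ t ht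
    have h3 : s₀ ^ 3 ≤ q ^ 2 := by
      rw [hcard]
      exact Nat.pow_le_pow_right (by omega) hd3
    have : q + 3 ≤ 2 * s₀ := by omega
    have := Nat.pow_le_pow_left this 3
    nlinarith

end Cfsg.Agent.MinIndexUnit19
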