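import Mathlib
import Cfsg.Agent.Lib.MinIndexUnit19Act
import Cfsg.Agent.Lib.MinIndexUnit19Count

/-!
Fixed points of root groups in a transitive action: torus elements, equivariance, averaging.
-/

set_option autoImplicit false

namespace Cfsg.Agent.MinIndexUnit19

open Cfsg Cfsg.Agent.OrthUnitaryHerm Cfsg.Agent.OrthUnitaryTransvection
  Cfsg.Agent.SUMinDegree32Geom
open scoped Matrix

variable {F : Type*} [Field F] [Fintype F] {q n : ℕ}
variable {W : Submodule F (Fin n → F)} {e f : Fin n → F}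

local notation "⟪" x ", " y "⟫" => hermForm n F q x y

variable (hF : Fintype.card F = q ^ 2)
include hF

/-- The torus element scaling the pair by a nonzero element of the fixed field. -/
noncomputable def tau (hP : HP q W e f) (a : fixedSet hF) (ha : a ≠ 0) : GS q W :=
  ⟨mkSU (pairMat q e f (a : F))
    (by
      rw [pairMat_det (a : F) hP.ee hP.ff hP.ef hP.fe, a.2,
        mul_inv_cancel₀ fun h => ha (Subtype.ext h)])
    (pairMat_isU hF (fun h => ha (Subtype.ext h)) hP.ee hP.ff hP.ef hP.fe),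
    fun x hx => by
      show pairMat q e f (a : F) *ᵥ x = x
      rw [pairMat_mulVec, hx e hP.eW, hx f hP.fW, mul_zero, mul_zero, zero_smul, zero_smul,
        add_zero, add_zero]⟩

theorem tau_e (hP : HP q W e f) (a : fixedSet hF) (ha : a ≠ 0) :
    act (tau hF hP a ha : SU n F q) e = (a : F) • e := by
  show pairMat q e f (a : F) *ᵥ e = _
  rw [pairMat_mulVec, hP.ef, hP.ee]
  module

theorem tau_perp (hP : HP q W e f) (a : fixedSet hF) (ha : a ≠ 0) {w : Fin n → F}
    (hw : w ∈ pairPerp q W e f) : act (tau hF hP a ha : SU n F q) w = w := by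
  show pairMat q e f (a : F) *ᵥ w = _
  rw [pairMat_mulVec, perp_e hw, perp_f hw, mul_zero, mul_zero, zero_smul, zero_smul, add_zero,
    add_zero]

/-- An element of `GS q W` with prescribed scaling of `e`. -/
theorem exists_scale (hW : Nondeg q W) (hP : HP q W e f) (hne : pairPerp q W e f ≠ ⊥) {t : F}
    (ht : t ≠ 0) : ∃ g : GS q W, act (g : SU n F q) e = t • e := by
  obtain ⟨k, hk, hkk⟩ := exists_norm_in hF (hP.nondeg hF hW) hne (one_pow q) one_ne_zero
  obtain ⟨g, hg, hge⟩ := exists_torus hF hP.eW hP.fW (pairPerp_le hk) ht hP.ee hP.ff hP.ef hP.fe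
    (perp_e hk) (hkk ▸ one_ne_zero)
  exact ⟨⟨g, hg⟩, hge⟩

/-- A Levi element as an element of `GS q W`. -/
def levi (g : GS q (pairPerp q W e f)) : GS q W :=
  Subgroup.inclusion (GS_mono pairPerp_le) g

theorem levi_e (hP : HP q W e f) (g : GS q (pairPerp q W e f)) :
    act (levi g : SU n F q) e = (1 : F) • e := by
  rw [one_smul]; exact (fix_pair hF hP g.2).1

theorem levi_perp (hW : Nondeg q W) (hP : HP q W e f) (g : GS q (pairPerp q W e f))
    {w : Fin n → F} (hw : w ∈ pairPerp q W e f) :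
    act (levi g : SU n F q) w ∈ pairPerp q W e f :=
  act_mem hF (hP.nondeg hF hW) g.2 hw

theorem one_fixed : ((⟨1, (mem_fixedSet hF).2 (one_pow q)⟩ : fixedSet hF) : F) = 1 := rfl

variable {M : Type*} [MulAction (GS q W) M]

theorem PP_levi (hP : HP q W e f) (g : GS q (pairPerp q W e f)) (α : M) :
    PP hF hP.eW hP.ee (levi g • α) = PP hF hP.eW hP.ee α := by
  rw [PP_smul hF hP.eW hP.ee one_ne_zero (levi_e hF hP g) α]
  ext x
  rw [mem_scaleP]
  constructor
  · rintro ⟨r, hr, h⟩
    simp only [one_pow, one_mul] at h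
    rwa [← show r = x from Subtype.ext h]
  · exact fun h => ⟨x, h, by simp⟩

theorem SS_levi (hW : Nondeg q W) (hP : HP q W e f) (g : GS q (pairPerp q W e f)) (α : M) :
    SS hF hP (levi g • α) = imgS (g : SU n F q) (SS hF hP α) := by
  ext s
  rw [SS_smul hF hP one_ne_zero (levi_e hF hP g) (fun w hw => levi_perp hF hW hP g hw), mem_imgS]
  simp only [one_pow, one_smul]
  rfl

/-- The point is fixed by the whole root group at `e`. -/
def ZFix (heW : e ∈ W) (he : hermForm n F q e e = 0) (α : M) : Prop :=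
  ∀ r, Tg hF heW he r • α = α

theorem zfix_iff {heW : e ∈ W} {he : ⟪e, e⟫ = 0} {α : M} :
    ZFix hF heW he α ↔ PP hF heW he α = ⊤ :=
  (AddSubgroup.eq_top_iff' (PP hF heW he α)).symm

theorem zfix_congr {e' : Fin n → F} (heW : e ∈ W) (he : ⟪e, e⟫ = 0) (heW' : e' ∈ W)
    (he' : ⟪e', e'⟫ = 0) {t : F} (ht : t ≠ 0) (h : e' = t • e) (α : M) :
    ZFix hF heW' he' α ↔ ZFix hF heW he α := by
  subst h
  have hν : t ^ q * t ≠ 0 := mul_ne_zero (pow_ne_zero _ ht) ht
  have hνq : (t ^ q * t) ^ q = t ^ q * t := by rw [mul_pow, pow_q_q hF, mul_comm]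
  constructor
  · intro hfix r
    have := hfix ⟨(r : F) / (t ^ q * t), (mem_fixedSet hF).2 (by rw [div_pow, r.2, hνq])⟩
    rwa [show Tg hF heW' he' _ = Tg hF heW he r from Subtype.ext
      (T_smul hF he he' _ r (mul_div_cancel₀ _ hν).symm)] at this
  · intro hfix r
    rw [show Tg hF heW' he' r = Tg hF heW he ⟨t ^ q * t * (r : F),
      (mem_fixedSet hF).2 (by rw [mul_pow, hνq, r.2])⟩ from Subtype.ext (T_smul hF he he' r _ rfl)]
    exact hfix _

theorem zfix_smul {e' : Fin n → F} (g : GS q W) (heW : e ∈ W) (he : ⟪e, e⟫ = 0) (heW' : e' ∈ W)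
    (he' : ⟪e', e'⟫ = 0) {t : F} (ht : t ≠ 0) (h : act (g : SU n F q) e = t • e') (α : M) :
    ZFix hF heW' he' (g • α) ↔ ZFix hF heW he α := by
  have hgW : act (g : SU n F q) e ∈ W := h ▸ W.smul_mem _ heW'
  have hge : ⟪act (g : SU n F q) e, act (g : SU n F q) e⟫ = 0 := by rw [herm_act, he]
  rw [← zfix_congr hF heW' he' hgW hge ht h]
  have hc : ∀ r, g * Tg hF heW he r * g⁻¹ = Tg hF hgW hge r := fun r =>
    Subtype.ext (conj_T hF (g : SU n F q) e he r)
  refine forall_congr' fun r => ?_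
  rw [← hc, mul_smul, mul_smul, inv_smul_smul, smul_left_cancel_iff]

/-- In a transitive action, a point fixed by every root group forces all of them to be trivial. -/
theorem rootsFix_of_point [MulAction.IsPretransitive (GS q W) M] (hW : Nondeg q W) {α : M}
    (h : ∀ v (hvW : v ∈ W) (hv : ⟪v, v⟫ = 0), v ≠ 0 → ZFix hF hvW hv α) : RootsFix hF W M := by
  intro v hvW hv r β
  obtain ⟨g, rfl⟩ := MulAction.exists_smul_eq (GS q W) α β
  by_cases hv0 : v = 0
  · subst hv0
    rw [show Tg hF hvW hv r = 1 from Subtype.ext (su_ext fun x => by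
      show act (T hF 0 hv r) x = _
      rw [T_act, smul_zero, add_zero]; exact (act_one x).symm), one_smul]
  have hu : act (g : SU n F q)⁻¹ v ∈ W := act_mem hF hW (g⁻¹).2 hvW
  have hu0 : act (g : SU n F q)⁻¹ v ≠ 0 := fun h0 => hv0 (by
    have := congrArg (act (g : SU n F q)) h0
    rw [act_act_inv] at this
    rw [this, show act (g : SU n F q) (0 : Fin n → F) = 0 from map_zero (actHom _)])
  exact (zfix_smul hF g hu (by rw [herm_act, hv]) hvW hv one_ne_zero
    (by rw [act_act_inv, one_smul]) α).2 (h _ hu (by rw [herm_act, hv]) hu0) r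

/-- All root groups have equally many fixed points. -/
theorem card_zfix_eq (hW : Nondeg q W) {e' : Fin n → F} (heW : e ∈ W) (he : ⟪e, e⟫ = 0)
    (he0 : e ≠ 0) (heW' : e' ∈ W) (he' : ⟪e', e'⟫ = 0) (he'0 : e' ≠ 0) :
    Nat.card {α : M // ZFix hF heW he α} = Nat.card {α : M // ZFix hF heW' he' α} := by
  obtain ⟨g, a, ha, hg⟩ := exists_move_in hF hW heW heW' he0 he'0 he he'
  exact Nat.card_congr ((MulAction.toPerm g).subtypeEquiv fun α =>
    (zfix_smul hF g heW he heW' he' ha hg α).symm)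

/-- Averaging over the isotropic lines. -/
theorem averaging [Finite M] [MulAction.IsPretransitive (GS q W) M] (hW : Nondeg q W) {d : ℕ}
    (hd : Module.finrank F W = d) (heW : e ∈ W) (he : ⟪e, e⟫ = 0) (he0 : e ≠ 0) :
    Nat.card M ∣ isoN q d * Nat.card {α : M // ZFix hF heW he α} ∧
    ∃ t, Nat.card M * t = isoN q d * Nat.card {α : M // ZFix hF heW he α} := by
  classical
  suffices h : ∃ t, Nat.card M * t = isoN q d * Nat.card {α : M // ZFix hF heW he α} by
    obtain ⟨t, ht⟩ := h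
    exact ⟨⟨t, ht.symm⟩, t, ht⟩
  rcases isEmpty_or_nonempty M with hM | ⟨⟨α₀⟩⟩
  · exact ⟨0, by simp⟩
  have := Fintype.ofFinite M
  let L := {v : Fin n → F // (v ∈ W ∧ ⟪v, v⟫ = 0) ∧ v ≠ 0}
  let P : M → L → Prop := fun α v => ZFix hF v.2.1.1 v.2.1.2 α
  have hcL : Nat.card L = (q ^ 2 - 1) * isoN q d := by
    let z : {x : Fin n → F // x ∈ W ∧ ⟪x, x⟫ = 0} := ⟨0, W.zero_mem, herm_zero_left 0⟩
    have h1 : Nat.card L = Nat.card {x : {x : Fin n → F // x ∈ W ∧ ⟪x, x⟫ = 0} // x ≠ z} :=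
      Nat.card_congr
        { toFun := fun v => ⟨⟨v.1, v.2.1⟩, fun h => v.2.2 (congrArg Subtype.val h)⟩
          invFun := fun v => ⟨v.1.1, v.1.2, fun h => v.2 (Subtype.ext h)⟩
          left_inv := fun _ => rfl
          right_inv := fun _ => rfl }
    have hq := two_le_q hF
    rw [h1, Nat.card_eq_fintype_card, Fintype.card_subtype_compl, Fintype.card_subtype_eq,
      ← Nat.card_eq_fintype_card, card_isoVec hF d W hW hd, vecN_eq (by omega)]
    omega
  have hconst : ∀ α, Nat.card {v : L // P α v} = Nat.card {v : L // P α₀ v} := by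
    intro α
    obtain ⟨g, rfl⟩ := MulAction.exists_smul_eq (GS q W) α₀ α
    have hmap : ∀ (k : GS q W) (v : L), ((act (k : SU n F q) v.1 ∈ W ∧
        ⟪act (k : SU n F q) v.1, act (k : SU n F q) v.1⟫ = 0) ∧ act (k : SU n F q) v.1 ≠ 0) := by
      intro k v
      refine ⟨⟨act_mem hF hW k.2 v.2.1.1, by rw [herm_act, v.2.1.2]⟩, fun h => v.2.2 ?_⟩
      have := congrArg (act (k : SU n F q)⁻¹) h
      rwa [act_inv_act, show act (k : SU n F q)⁻¹ (0 : Fin n → F) = 0 from map_zero (actHom _)]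
        at this
    let E : L ≃ L :=
      { toFun := fun v => ⟨_, hmap g v⟩
        invFun := fun v => ⟨_, hmap g⁻¹ v⟩
        left_inv := fun v => Subtype.ext (act_inv_act _ _)
        right_inv := fun v => Subtype.ext (act_act_inv _ _) }
    exact (Nat.card_congr (E.subtypeEquiv fun v => (zfix_smul hF g v.2.1.1 v.2.1.2 (hmap g v).1.1
      (hmap g v).1.2 one_ne_zero (one_smul F _).symm α₀).symm)).symm
  have hdvd : q ^ 2 - 1 ∣ Nat.card {v : L // P α₀ v} := by
    let s : Set (Fin n → F) := {v | ∃ h : (v ∈ W ∧ ⟪v, v⟫ = 0) ∧ v ≠ 0, P α₀ ⟨v, h⟩}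
    have hs : Nat.card {v : L // P α₀ v} = Nat.card s := Nat.card_congr
      { toFun := fun v => ⟨v.1.1, v.1.2, v.2⟩
        invFun := fun v => ⟨⟨v.1, v.2.choose⟩, v.2.choose_spec⟩
        left_inv := fun _ => rfl
        right_inv := fun _ => rfl }
    rw [hs]
    refine dvd_card_of_smul_closed hF (fun x hx => hx.choose.2) fun x hx a ha => ?_
    have hax : ⟪a • x, a • x⟫ = 0 := herm_smul_smul_zero hx.choose.1.2 _ _
    exact ⟨⟨⟨W.smul_mem _ hx.choose.1.1, hax⟩, smul_ne_zero ha hx.choose.2⟩,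
      (zfix_congr hF hx.choose.1.1 hx.choose.1.2 _ hax ha rfl α₀).2 hx.choose_spec⟩
  obtain ⟨t, ht⟩ := hdvd
  refine ⟨t, Nat.eq_of_mul_eq_mul_left (show 0 < q ^ 2 - 1 by
    have := Nat.pow_le_pow_left (two_le_q hF) 2; omega) ?_⟩
  have h1 : Nat.card (Σ α : M, {v : L // P α v}) = Nat.card M * ((q ^ 2 - 1) * t) := by
    rw [Nat.card_sigma, Finset.sum_congr rfl fun α _ => (hconst α).trans ht, Finset.sum_const,
      Finset.card_univ, smul_eq_mul, Nat.card_eq_fintype_card]
  have := Fintype.ofFinite L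
  have h2 : Nat.card (Σ v : L, {α : M // P α v}) =
      Nat.card L * Nat.card {α : M // ZFix hF heW he α} := by
    rw [Nat.card_sigma, Finset.sum_congr rfl fun v _ =>
      card_zfix_eq hF hW v.2.1.1 v.2.1.2 v.2.2 heW he he0, Finset.sum_const, Finset.card_univ,
      smul_eq_mul, ← Nat.card_eq_fintype_card]
  have h3 : Nat.card (Σ α : M, {v : L // P α v}) = Nat.card (Σ v : L, {α : M // P α v}) :=
    Nat.card_congr
      { toFun := fun p => ⟨p.2.1, p.1, p.2.2⟩
        invFun := fun p => ⟨p.2.1, p.1, p.2.2⟩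
        left_inv := fun _ => rfl
        right_inv := fun _ => rfl }
  rw [h1, h2, hcL] at h3
  rw [← mul_assoc, mul_comm (q ^ 2 - 1) (Nat.card M), mul_assoc, h3, mul_assoc]

/-- It is enough to treat transitive actions. -/
theorem small_of_transitive {B : ℕ}
    (h : ∀ (M : Type) [Finite M] [MulAction (GS q W) M] [MulAction.IsPretransitive (GS q W) M],
      Nat.card M < B → RootsFix hF W M) : Small hF W B := by
  intro k hk ρ v hvW hv r
  let I : MulAction (GS q W) (Fin k) := MulAction.compHom (Fin k) ρ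
  refine Equiv.ext fun α => ?_
  have hle : Nat.card (MulAction.orbit (GS q W) α) ≤ k := (Finite.card_subtype_le _).trans (by simp)
  exact congrArg Subtype.val (h (MulAction.orbit (GS q W) α) (lt_of_le_of_lt hle hk) v hvW hv r
    ⟨α, MulAction.mem_orbit_self α⟩)

end Cfsg.Agent.MinIndexUnit19
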