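import Mathlib
import Cfsg.Agent.Lib.MinIndexUnit19Root

/-!
The group of a nondegenerate subspace is transitive on its vectors of norm one.
-/

set_option autoImplicit false

namespace Cfsg.Agent.MinIndexUnit19

open Cfsg Cfsg.Agent.OrthUnitaryHerm Cfsg.Agent.OrthUnitaryTransvection
  Cfsg.Agent.SUMinDegree32Geom

variable {F : Type*} [Field F] [Fintype F] {q n : ℕ}
variable {W : Submodule F (Fin n → F)}

local notation "⟪" x ", " y "⟫" => hermForm n F q x y

variable (hF : Fintype.card F = q ^ 2)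
include hF

omit [Fintype F] hF in
theorem mem_uPerp {u x : Fin n → F} :
    x ∈ W ⊓ LinearMap.ker (hermL q u) ↔ x ∈ W ∧ ⟪x, u⟫ = 0 := by simp [hermL_apply]

omit [Fintype F] hF in
theorem finrank_uPerp (u : Fin n → F) :
    Module.finrank F W ≤ Module.finrank F ↥(W ⊓ LinearMap.ker (hermL q u)) + 1 := by
  set φ : ↥W →ₗ[F] F := (hermL q u).comp W.subtype with hφ
  have h := LinearMap.finrank_range_add_finrank_ker φ
  have h1 : Module.finrank F ↥(LinearMap.range φ) ≤ 1 := by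
    have := Submodule.finrank_le (LinearMap.range φ)
    rwa [Module.finrank_self] at this
  have h2 : (LinearMap.ker φ).map W.subtype = W ⊓ LinearMap.ker (hermL q u) := by
    rw [hφ, LinearMap.ker_comp, Submodule.map_comap_subtype]
  rw [← h2, Submodule.finrank_map_subtype_eq]
  omega

theorem nondeg_uPerp (hW : Nondeg q W) {u : Fin n → F} (hu : u ∈ W) (huu : ⟪u, u⟫ ≠ 0) :
    Nondeg q (W ⊓ LinearMap.ker (hermL q u)) := by
  intro x hx h
  obtain ⟨hxW, hxu⟩ := mem_uPerp.1 hx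
  refine hW x hxW fun y hy => ?_
  have hy' : y - (⟪y, u⟫ / ⟪u, u⟫) • u ∈ W ⊓ LinearMap.ker (hermL q u) :=
    mem_uPerp.2 ⟨W.sub_mem hy (W.smul_mem _ hu), by
      rw [herm_sub_left, herm_smul_left, div_mul_cancel₀ _ huu, sub_self]⟩
  have := h _ hy'
  rwa [herm_sub_right hF, herm_smul_right, hxu, mul_zero, sub_zero] at this

theorem one_step {u v : Fin n → F} (hu : u ∈ W) (hv : v ∈ W) (huu : ⟪u, u⟫ = 1)
    (hvv : ⟪v, v⟫ = 1) (hs : ⟪v, u⟫ - 1 + (⟪v, u⟫ - 1) ^ q = 0) (hs0 : ⟪v, u⟫ ≠ 1) :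
    ∃ g : GS q W, act (g : SU n F q) u = v := by
  set s := ⟪v, u⟫ - 1 with hsdef
  have hs' : s ≠ 0 := sub_ne_zero.2 hs0
  have huv : ⟪u, v⟫ = (⟪v, u⟫) ^ q := herm_conj hF v u
  have hsq : s ^ q = ⟪v, u⟫ ^ q - 1 := by rw [hsdef, sub_pow_q hF, one_pow]
  have hxx : ⟪v - u, v - u⟫ = 0 := by
    rw [herm_sub_left, herm_sub_right hF, herm_sub_right hF, huu, hvv, huv]
    linear_combination -hs + hsq + hsdef
  obtain ⟨r, hr⟩ := exists_eq_c0_mul hF (c := -s⁻¹) (by
    rw [neg_pow_q hF, inv_pow, show s ^ q = -s by linear_combination hs, inv_neg]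
    ring)
  refine ⟨Tg hF (W.sub_mem hv hu) hxx r, ?_⟩
  rw [Tg_coe, T_act, ← hr, herm_sub_right hF, huu, huv]
  have : -s⁻¹ * (⟪v, u⟫ ^ q - 1) = 1 := by
    rw [show ⟪v, u⟫ ^ q - 1 = -s by linear_combination hs - hsq]
    field_simp
  rw [this, one_smul]
  abel

/-- A vector of given norm with given inner product. -/
theorem exists_prescribed (hW : Nondeg q W) (hd : 3 ≤ Module.finrank F W) {k : Fin n → F}
    (hk : k ∈ W) (hk0 : k ≠ 0) (a : F) {ν : F} (hν : ν ^ q = ν) (hν0 : ν ≠ 0) :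
    ∃ x ∈ W, ⟪x, k⟫ = a ∧ ⟪x, x⟫ = ν := by
  by_cases hkk : ⟪k, k⟫ = 0
  · obtain ⟨g, hP⟩ := HP.exists_of_iso hF hW hk hk0 hkk
    by_cases ha : a = 0
    · subst ha
      have hne : pairPerp q W k g ≠ ⊥ := fun h => by
        have := hP.finrank hF
        rw [h, finrank_bot] at this
        omega
      obtain ⟨x, hx, hxx⟩ := exists_norm_in hF (hP.nondeg hF hW) hne hν hν0
      exact ⟨x, pairPerp_le hx, perp_e hx, hxx⟩
    · obtain ⟨t, ht⟩ := exists_trace hF hν
      refine ⟨(t / a ^ q) • k + a • g, W.add_mem (W.smul_mem _ hk) (W.smul_mem _ hP.fW), ?_, ?_⟩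
      · rw [herm_add_left, herm_smul_left, herm_smul_left, hkk, hP.fe]; ring
      · simp only [herm_add_left, herm_add_right hF, herm_smul_left, herm_smul_right, hkk, hP.ff,
          hP.ef, hP.fe, mul_zero, mul_one, zero_add, add_zero]
        rw [div_pow, pow_q_q hF, div_mul_cancel₀ _ ha, mul_div_cancel₀ _ (pow_ne_zero _ ha)]
        linear_combination ht
  · set c := a / ⟪k, k⟫ with hc
    have hN := nondeg_uPerp hF hW hk hkk
    have hνq : (ν - c * (c ^ q * ⟪k, k⟫)) ^ q = ν - c * (c ^ q * ⟪k, k⟫) := by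
      rw [sub_pow_q hF, mul_pow, mul_pow, pow_q_q hF, hν, herm_self_pow hF]; ring
    obtain ⟨y, hy, hyy⟩ : ∃ y ∈ W ⊓ LinearMap.ker (hermL q k),
        ⟪y, y⟫ = ν - c * (c ^ q * ⟪k, k⟫) := by
      by_cases h0 : ν - c * (c ^ q * ⟪k, k⟫) = 0
      · exact ⟨0, Submodule.zero_mem _, by rw [herm_zero_left, h0]⟩
      · exact exists_norm_in hF hN (fun h => by
          have := finrank_uPerp (q := q) (W := W) k
          rw [h, finrank_bot] at this
          omega) hνq h0
    obtain ⟨hyW, hyk⟩ := mem_uPerp.1 hy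
    refine ⟨c • k + y, W.add_mem (W.smul_mem _ hk) hyW, ?_, ?_⟩
    · rw [herm_add_left, herm_smul_left, hyk, add_zero, hc, div_mul_cancel₀ _ hkk]
    · simp only [herm_add_left, herm_add_right hF, herm_smul_left, herm_smul_right, hyk, hyy,
        herm_skew_zero hF hyk]
      ring

/-- `GS q W` is transitive on vectors of norm one. -/
theorem exists_move_norm_one (hW : Nondeg q W) (hd : 4 ≤ Module.finrank F W) {u v : Fin n → F}
    (hu : u ∈ W) (hv : v ∈ W) (huu : ⟪u, u⟫ = 1) (hvv : ⟪v, v⟫ = 1) :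
    ∃ g : GS q W, act (g : SU n F q) u = v := by
  set s := c0 hF with hs
  have hsq : s ^ q = -s := by linear_combination c0_skew hF
  have hs2 : (s * s) ^ q = s * s := by rw [mul_pow, hsq]; ring
  have hs20 : s * s ≠ 0 := mul_ne_zero (c0_ne hF) (c0_ne hF)
  have key : ∀ u v, u ∈ W → v ∈ W → ⟪u, u⟫ = 1 → ⟪v, v⟫ = 1 → v - ⟪v, u⟫ • u ≠ 0 →
      ∃ g : GS q W, act (g : SU n F q) u = v := by
    intro u v hu hv huu hvv hne
    set β := ⟪v, u⟫ with hβ
    have hk : v - β • u ∈ W ⊓ LinearMap.ker (hermL q u) :=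
      mem_uPerp.2 ⟨W.sub_mem hv (W.smul_mem _ hu), by
        rw [herm_sub_left, herm_smul_left, huu, mul_one, sub_self]⟩
    obtain ⟨x, hx, hxk, hxx⟩ := exists_prescribed hF
      (nondeg_uPerp hF hW hu (by rw [huu]; exact one_ne_zero))
      (by have := finrank_uPerp (q := q) (W := W) u; omega) hk hne
      ((1 + s) * (1 - β ^ q)) hs2 hs20
    obtain ⟨hxW, hxu⟩ := mem_uPerp.1 hx
    set w := (1 + s) • u + x with hw
    have hwW : w ∈ W := W.add_mem (W.smul_mem _ hu) hxW
    have hwu : ⟪w, u⟫ = 1 + s := by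
      rw [hw, herm_add_left, herm_smul_left, huu, hxu]; ring
    have hww : ⟪w, w⟫ = 1 := by
      simp only [hw, herm_add_left, herm_add_right hF, herm_smul_left, herm_smul_right, huu, hxu,
        hxx, herm_skew_zero hF hxu, add_pow_q hF, one_pow, hsq]
      ring
    have hwv : ⟪w, v⟫ = 1 + s := by
      have hxv : ⟪x, v⟫ = (1 + s) * (1 - β ^ q) := by
        rw [← hxk, herm_sub_right hF, herm_smul_right, hxu, mul_zero, sub_zero]
      have huv : ⟪u, v⟫ = β ^ q := herm_conj hF v u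
      rw [hw, herm_add_left, herm_smul_left, hxv, huv]; ring
    have hskew : (1 + s) - 1 + ((1 + s) - 1) ^ q = 0 := by
      rw [add_sub_cancel_left, hsq]; ring
    obtain ⟨g₁, hg₁⟩ := one_step hF hu hwW huu hww (by rw [hwu]; exact hskew)
      (by rw [hwu]; intro h; exact c0_ne hF (by linear_combination h))
    obtain ⟨g₂, hg₂⟩ := one_step hF hv hwW hvv hww (by rw [hwv]; exact hskew)
      (by rw [hwv]; intro h; exact c0_ne hF (by linear_combination h))
    refine ⟨g₂⁻¹ * g₁, ?_⟩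
    rw [Subgroup.coe_mul, act_mul, hg₁, InvMemClass.coe_inv, ← hg₂, act_inv_act]
  by_cases hne : v - ⟪v, u⟫ • u = 0
  · have hN := nondeg_uPerp hF hW hu (by rw [huu]; exact one_ne_zero)
    obtain ⟨x, hx, hxx⟩ := exists_norm_in hF hN (fun h => by
      have := finrank_uPerp (q := q) (W := W) u
      rw [h, finrank_bot] at this
      omega) hs2 hs20
    obtain ⟨hxW, hxu⟩ := mem_uPerp.1 hx
    set w := (1 + s) • u + x with hw
    have hwW : w ∈ W := W.add_mem (W.smul_mem _ hu) hxW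
    have hwu : ⟪w, u⟫ = 1 + s := by
      rw [hw, herm_add_left, herm_smul_left, huu, hxu]; ring
    have hww : ⟪w, w⟫ = 1 := by
      simp only [hw, herm_add_left, herm_add_right hF, herm_smul_left, herm_smul_right, huu, hxu,
        hxx, herm_skew_zero hF hxu, add_pow_q hF, one_pow, hsq]
      ring
    have hx0 : x ≠ 0 := fun h => hs20 (by rw [← hxx, h, herm_zero_left])
    have h1 : w - ⟪w, u⟫ • u ≠ 0 := by rwa [hwu, hw, add_sub_cancel_left]
    have hv' : v = ⟪v, u⟫ • u := sub_eq_zero.1 hne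
    have h2 : v - ⟪v, w⟫ • w ≠ 0 := by
      intro h
      have hb : ⟪v, u⟫ ≠ 0 := fun h0 => one_ne_zero (α := F)
        (by rw [← hvv, hv', h0, zero_smul, herm_zero_left])
      rw [sub_eq_zero] at h
      rw [hv'] at h
      have hh := congrArg (fun y => y - ⟪y, u⟫ • u) h
      simp only [herm_smul_left, huu, mul_one, sub_self, ← smul_smul, ← smul_sub] at hh
      have hc : ⟪u, w⟫ = 0 :=
        (smul_eq_zero.1 ((smul_eq_zero.1 hh.symm).resolve_left hb)).resolve_right h1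
      rw [herm_smul_left, hc, mul_zero, zero_smul] at h
      rcases smul_eq_zero.1 h with h' | h'
      · exact hb h'
      · rw [h', herm_zero_left] at huu; exact zero_ne_one huu
    obtain ⟨g₁, hg₁⟩ := key u w hu hwW huu hww h1
    obtain ⟨g₂, hg₂⟩ := key w v hwW hv hww hvv h2
    exact ⟨g₂ * g₁, by rw [Subgroup.coe_mul, act_mul, hg₁, hg₂]⟩
  · exact key u v hu hv huu hvv hne

end Cfsg.Agent.MinIndexUnit19
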