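import Mathlib
import Cfsg.Agent.Lib.OrthUnitaryIsotropic
import Cfsg.Agent.Lib.MinIndexUnit19Trans
import Cfsg.Agent.Lib.MinIndexUnit19Count
import Cfsg.Agent.Lib.MinIndexUnit19Basic

/-!
Subgroups of `PSU n F q` of the minimal index: stabilisers of isotropic points, of totally isotropic
lines in dimension four, and of anisotropic points.
-/

set_option autoImplicit false

namespace Cfsg.Agent.MinIndexPSUAttain55

open Cfsg Cfsg.Agent.OrthUnitaryHerm Cfsg.Agent.OrthUnitaryTransvection
  Cfsg.Agent.SUMinDegree32Geom Cfsg.Agent.MinIndexUnit19 Cfsg.Agent.OrthUnitaryIsotropic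

variable {F : Type*} [Field F] [Fintype F] {q n : ℕ}

local notation "⟪" x ", " y "⟫" => hermForm n F q x y

omit [Fintype F] in
theorem act_ne_zero (g : SU n F q) {x : Fin n → F} (hx : x ≠ 0) : act g x ≠ 0 := by
  intro h
  refine hx ?_
  rw [← act_inv_act g x, h]
  exact Matrix.mulVec_zero _

/-- The stabiliser of the line through a nonzero vector. -/
def lineSt (q : ℕ) {x : Fin n → F} (hx : x ≠ 0) : Subgroup (SU n F q) where
  carrier := {g | ∃ a : F, act g x = a • x}
  one_mem' := ⟨1, by rw [act_one, one_smul]⟩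
  mul_mem' := by
    rintro g k ⟨a, ha⟩ ⟨b, hb⟩
    exact ⟨b * a, by rw [act_mul, hb, act_smul, ha, smul_smul]⟩
  inv_mem' := by
    rintro g ⟨a, ha⟩
    have ha0 : a ≠ 0 := fun h => act_ne_zero g hx (by rw [ha, h, zero_smul])
    refine ⟨a⁻¹, ?_⟩
    have h := congrArg (act g⁻¹) ha
    rw [act_inv_act, act_smul] at h
    conv_rhs => rw [h]
    rw [smul_smul, inv_mul_cancel₀ ha0, one_smul]

variable (hF : Fintype.card F = q ^ 2)
include hF

/-- Central elements act as scalars. -/
theorem exists_scalar (hn : 2 ≤ n) {z : SU n F q} (hz : z ∈ Subgroup.center (SU n F q)) :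
    ∃ l : F, ∀ x, act z x = l • x := by
  refine ⟨((z : Matrix.SpecialLinearGroup (Fin n) F) : Matrix (Fin n) (Fin n) F)
    ⟨0, by omega⟩ ⟨0, by omega⟩, fun x => funext fun i => ?_⟩
  have hsc := center_SU_scalar hF hn hz i
  simp only [act, Matrix.mulVec, dotProduct, hsc, ite_mul, zero_mul, Finset.sum_ite_eq,
    Finset.mem_univ, if_true, Pi.smul_apply, smul_eq_mul]

omit [Fintype F] hF in
/-- A subgroup containing the centre has an image of the same index. -/
theorem exists_image {H : Subgroup (SU n F q)} (hc : Subgroup.center (SU n F q) ≤ H) {B : ℕ}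
    (hB : H.index = B) : ∃ K : Subgroup (PSU n F q), K.index = B :=
  ⟨H.map (QuotientGroup.mk' _), by
    rw [Subgroup.index_map_eq H (QuotientGroup.mk'_surjective _)
      (by rw [QuotientGroup.ker_mk']; exact hc), hB]⟩

theorem center_le_lineSt (hn : 2 ≤ n) {x : Fin n → F} (hx : x ≠ 0) :
    Subgroup.center (SU n F q) ≤ lineSt q hx := fun _ hz =>
  (exists_scalar hF hn hz).elim fun l hl => ⟨l, hl x⟩

omit hF in
/-- The index of a line stabiliser from an orbit of vectors. -/
theorem index_lineSt_mul {x : Fin n → F} (hx : x ≠ 0) (P : (Fin n → F) → Prop) (hPx : P x)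
    (hinv : ∀ (g : SU n F q) v, P v → P (act g v))
    (htr : ∀ v, P v → ∃ g : SU n F q, act g x = v) :
    (lineSt q hx).index * Nat.card {a : F // P (a • x)} = Nat.card {v : Fin n → F // P v} := by
  classical
  let f : SU n F q → {v : Fin n → F // P v} := fun g => ⟨act g x, hinv g x hPx⟩
  have h1 := card_eq_card_mul_card_fibre f ⟨x, hPx⟩ (by
    rintro ⟨v, hv⟩
    obtain ⟨k, hk⟩ := htr v hv
    refine ⟨k, fun g => ?_⟩
    rw [Subtype.ext_iff, Subtype.ext_iff]
    show act (k * g) x = v ↔ act g x = x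
    rw [act_mul, ← hk]
    exact ⟨fun h => by rw [← act_inv_act k (act g x), h, act_inv_act], fun h => by rw [h]⟩)
  let f' : lineSt q hx → {a : F // P (a • x)} := fun g =>
    ⟨g.2.choose, by rw [← g.2.choose_spec]; exact hinv g.1 x hPx⟩
  have hf' : ∀ (g : lineSt q hx) (a : {a : F // P (a • x)}), f' g = a ↔ act g.1 x = a.1 • x := by
    intro g a
    rw [Subtype.ext_iff]
    show g.2.choose = a.1 ↔ _
    constructor
    · intro h; rw [← h]; exact g.2.choose_spec
    · intro h; exact smul_left_injective F hx (g.2.choose_spec.symm.trans h)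
  have hone : P ((1 : F) • x) := by rw [one_smul]; exact hPx
  have h2 := card_eq_card_mul_card_fibre f' ⟨1, hone⟩ (by
    rintro ⟨a, ha⟩
    obtain ⟨k, hk⟩ := htr _ ha
    refine ⟨⟨k, a, hk⟩, fun g => ?_⟩
    rw [hf', hf', one_smul]
    show act (k * g.1) x = a • x ↔ _
    rw [act_mul, ← hk]
    exact ⟨fun h => by rw [← act_inv_act k (act g.1 x), h, act_inv_act], fun h => by rw [h]⟩)
  have h3 : Nat.card {g // f g = ⟨x, hPx⟩} = Nat.card {g // f' g = ⟨1, hone⟩} := by
    refine Nat.card_congr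
      { toFun := fun g => ⟨⟨g.1, 1, by
          rw [one_smul]; exact congrArg Subtype.val g.2⟩, (hf' _ _).2
            ((congrArg Subtype.val g.2).trans (one_smul F x).symm)⟩
        invFun := fun g => ⟨g.1.1, Subtype.ext (by
          have := (hf' _ _).1 g.2
          rwa [one_smul] at this)⟩
        left_inv := fun g => rfl
        right_inv := fun g => rfl }
  have h4 := (lineSt q hx).index_mul_card
  rw [h1, h2, h3, ← mul_assoc] at h4
  exact Nat.eq_of_mul_eq_mul_right (Nat.card_pos_iff.2 ⟨⟨⟨⟨1, 1, by rw [act_one, one_smul]⟩,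
    (hf' _ _).2 ((act_one x).trans (one_smul F x).symm)⟩⟩, inferInstance⟩) h4

/-- The stabiliser of an isotropic point. -/
theorem exists_point (hn : 3 ≤ n) :
    ∃ K : Subgroup (PSU n F q), K.index = isoN q n := by
  classical
  have hq := two_le_q hF
  have hW : Nondeg q (⊤ : Submodule F (Fin n → F)) := nondeg_top hF
  obtain ⟨e, he0, he⟩ := exists_isotropic hF (by omega : 2 ≤ n)
  obtain ⟨f, hP⟩ := HP.exists_of_iso hF hW Submodule.mem_top he0 he
  have hne : pairPerp q (⊤ : Submodule F (Fin n → F)) e f ≠ ⊥ := by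
    intro h
    have := hP.finrank hF
    rw [h, finrank_bot, finrank_top, Module.finrank_fin_fun] at this
    omega
  refine exists_image (center_le_lineSt hF (by omega) he0) ?_
  have h := index_lineSt_mul he0 (fun v => v ≠ 0 ∧ ⟪v, v⟫ = 0) ⟨he0, he⟩
    (fun g v hv => ⟨act_ne_zero g hv.1, by rw [herm_act]; exact hv.2⟩) (fun v hv => by
      obtain ⟨g, a, ha, hg⟩ := exists_move_in hF hW (x := e) (y := v) Submodule.mem_top
        Submodule.mem_top he0 hv.1 he hv.2
      obtain ⟨k, hk⟩ := exists_scale hF hW hP hne (inv_ne_zero ha)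
      exact ⟨(g : SU n F q) * k, by
        rw [act_mul, hk, act_smul, hg, smul_smul, inv_mul_cancel₀ ha, one_smul]⟩)
  have hs : Nat.card {a : F // a • e ≠ 0 ∧ ⟪a • e, a • e⟫ = 0} = q ^ 2 - 1 := by
    rw [Nat.card_congr (Equiv.subtypeEquivRight (q := fun a : F => a ≠ 0) fun a => ?_)]
    · rw [← hF, ← Nat.card_eq_fintype_card, ← Nat.card_congr unitsEquivNeZero, Nat.card_units]
    · exact ⟨fun h ha => h.1 (by rw [ha, zero_smul]), fun h => ⟨smul_ne_zero h he0, by
        rw [herm_smul_left, herm_smul_right, he, mul_zero, mul_zero]⟩⟩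
  have hv : Nat.card {v : Fin n → F // v ≠ 0 ∧ ⟪v, v⟫ = 0} + 1 = 1 + (q ^ 2 - 1) * isoN q n := by
    rw [← vecN_eq (by omega), ← card_isoVec hF n ⊤ hW (by rw [finrank_top, Module.finrank_fin_fun]),
      Nat.card_eq_fintype_card, Nat.card_eq_fintype_card]
    have h0 : (⟪(0 : Fin n → F), 0⟫) = 0 := herm_zero_left _
    rw [Fintype.card_subtype, Fintype.card_subtype,
      ← Finset.card_insert_of_notMem (a := (0 : Fin n → F)) (by simp)]
    congr 1
    ext v
    by_cases hv : v = 0 <;> simp [hv, h0]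
  rw [hs] at h
  have h' : (lineSt q he0).index * (q ^ 2 - 1) = isoN q n * (q ^ 2 - 1) := by
    rw [h, mul_comm (isoN q n)]; omega
  have : 4 ≤ q ^ 2 := by nlinarith
  exact Nat.eq_of_mul_eq_mul_right (by omega) h'

/-- The stabiliser of a totally isotropic line in dimension four. -/
theorem exists_line_four : ∃ K : Subgroup (PSU 4 F q), K.index = (q + 1) * (q ^ 3 + 1) := by
  classical
  have hq := two_le_q hF
  have hG := card_GU_eq_mul_stab hF (n := 4) (k := 2) (m := 0) rfl
  have hpos : 0 < Nat.card (GU 4 F q) := Nat.card_pos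
  obtain ⟨⟨W, hWk, hW⟩⟩ := (Nat.card_pos_iff.1 (Nat.pos_of_ne_zero (left_ne_zero_of_mul
    (hG ▸ hpos.ne')))).1
  rw [← card_stabGU hF (n := 4) rfl hWk hW, ← card_stabSU hF (k := 2) (m := 0) rfl (by omega) hWk hW,
    ← card_GU_eq_mul_card_SU hF (by omega)] at hG
  set H := (stabilizing (slToMat 4 F) (W : Set (Fin 4 → F))).subgroupOf (SU 4 F q) with hH
  set N := Nat.card {W : Submodule F (Fin 4 → F) //
    Module.finrank F W = 2 ∧ ∀ u ∈ W, ∀ v ∈ W, hermForm 4 F q u v = 0}
  have hidx : H.index = N := by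
    rw [← H.index_mul_card, ← mul_assoc, ← mul_assoc, mul_comm (q + 1), mul_comm N (q + 1),
      mul_comm H.index] at hG
    have h2 := Nat.eq_of_mul_eq_mul_right (Nat.card_pos (α := H)) hG
    exact Nat.eq_of_mul_eq_mul_left (by omega) h2
  refine exists_image (H := H) (fun z hz => ?_) ?_
  · obtain ⟨l, hl⟩ := exists_scalar hF (by omega) hz
    rw [hH, Subgroup.mem_subgroupOf]
    intro v
    show v ∈ W ↔ act z v ∈ W
    rw [hl]
    have hl0 : l ≠ 0 := by
      intro h
      have h1 := hl (Pi.single 0 1)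
      rw [h, zero_smul] at h1
      exact act_ne_zero z (x := Pi.single (0 : Fin 4) (1 : F)) (by simp) h1
    exact ⟨W.smul_mem l, fun h => by
      simpa [smul_smul, inv_mul_cancel₀ hl0] using W.smul_mem l⁻¹ h⟩
  · rw [hidx]
    have hG' : Nat.card (GU 4 F q) = N * (q ^ (2 * 2 + 2 * 2 * 0) *
        (∏ i : Fin 2, ((q ^ 2) ^ 2 - (q ^ 2) ^ (i : ℕ))) * Nat.card (GU 0 F q)) :=
      card_GU_eq_mul_stab hF rfl
    clear_value N
    clear hG hidx
    rw [card_GU hF 4, card_GU hF 0] at hG'
    simp only [Finset.prod_range_succ, Finset.prod_range_zero, Fin.prod_univ_two] at hG'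
    norm_num at hG'
    have h1 : 1 ≤ q ^ 2 := Nat.one_le_pow _ _ (by omega)
    have h2 : 1 ≤ q ^ 4 := Nat.one_le_pow _ _ (by omega)
    have h3 : q ^ 2 ≤ (q ^ 2) ^ 2 := by nlinarith
    have h4 : 1 ≤ (q ^ 2) ^ 2 := by nlinarith
    zify [h1, h2, h3, h4] at hG'
    have hne : ((q : ℤ) ^ 6 * (((q : ℤ) ^ 2 - 1) * ((q : ℤ) ^ 4 - 1))) ≠ 0 := by
      have : (2 : ℤ) ≤ q := by exact_mod_cast hq
      have h5 : (4 : ℤ) ≤ (q : ℤ) ^ 2 := by nlinarith
      have h6 : (16 : ℤ) ≤ (q : ℤ) ^ 4 := by nlinarith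
      exact mul_ne_zero (pow_ne_zero _ (by omega)) (mul_ne_zero (by omega) (by omega))
    zify
    refine mul_left_cancel₀ hne ?_
    linear_combination -hG'

/-- The stabiliser of an anisotropic point over the field with four elements. -/
theorem exists_aniso_two (hq2 : q = 2) (hn : 4 ≤ n) (heven : Even n) :
    ∃ K : Subgroup (PSU n F q), K.index = 2 ^ (n - 1) * (2 ^ n - 1) / 3 := by
  classical
  have hW : Nondeg q (⊤ : Submodule F (Fin n → F)) := nondeg_top hF
  obtain ⟨m, rfl⟩ : ∃ m, n = m + 1 := ⟨n - 1, by omega⟩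
  set u : Fin (m + 1) → F := Pi.single 0 1 with hu
  have huu : hermForm (m + 1) F q u u = 1 := by rw [hu, herm_single_right hF]; simp
  have hu0 : u ≠ 0 := by simp [hu]
  refine exists_image (center_le_lineSt hF (by omega) hu0) ?_
  have h := index_lineSt_mul hu0 (fun v => hermForm (m + 1) F q v v = 1) huu
    (fun g v hv => by rw [herm_act]; exact hv) (fun v hv => by
      obtain ⟨g, hg⟩ := exists_move_norm_one hF hW (by rw [finrank_top, Module.finrank_fin_fun]; omega)
        (u := u) (v := v) Submodule.mem_top Submodule.mem_top huu hv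
      exact ⟨g, hg⟩)
  have hs : Nat.card {a : F // hermForm (m + 1) F q (a • u) (a • u) = 1} = 3 := by
    rw [Nat.card_congr (Equiv.subtypeEquivRight (q := fun a : F => a ^ (q + 1) = 1) fun a => ?_),
      card_norm_fibre hF (one_pow q), if_neg one_ne_zero, hq2]
    rw [herm_smul_left, herm_smul_right, huu, mul_one, pow_succ']
  have hpar : ¬ Even m := by
    rw [Nat.even_add_one] at heven; exact heven
  rw [hs, card_norm_one_succ hF, if_neg hpar, hq2] at h
  subst hq2
  rw [Nat.add_sub_cancel, ← h, Nat.mul_div_cancel _ (by norm_num)]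

end Cfsg.Agent.MinIndexPSUAttain55
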