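import Cfsg.Agent.Lib.OrthUnitaryPSU
import Mathlib

/-!
A proper subgroup of `SU(3,25)` has index at least 50.

A Sylow 5-subgroup `R` of a larger subgroup fixes exactly one of the 126 isotropic lines and is
semiregular on the others, so the orbit of that line has length congruent to 1 modulo `|R|` and
must be everything; `R` then contains the transvections centred at the line, hence so does the
subgroup at every line.
-/

set_option autoImplicit false
set_option linter.unusedSectionVars false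
set_option linter.unusedVariables false

namespace Cfsg.Agent.U35MinIndexBound

open Cfsg Cfsg.Agent.OrthUnitaryHerm Cfsg.Agent.OrthUnitaryTransvection

variable {F : Type*} [Field F]

local notation "G5" => SU 3 F 5
local notation "hh" => hermForm 3 F 5

/-- The line through a vector. -/
def lineOf (v : Fin 3 → F) : Set (Fin 3 → F) := {x | ∃ a : F, a ≠ 0 ∧ x = a • v}

theorem mem_lineOf_self (v : Fin 3 → F) : v ∈ lineOf v := ⟨1, one_ne_zero, (one_smul F v).symm⟩

theorem lineOf_smul {a : F} (ha : a ≠ 0) (v : Fin 3 → F) : lineOf (a • v) = lineOf v := by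
  ext x
  constructor
  · rintro ⟨b, hb, rfl⟩
    exact ⟨b * a, mul_ne_zero hb ha, smul_smul b a v⟩
  · rintro ⟨b, hb, rfl⟩
    exact ⟨b * a⁻¹, mul_ne_zero hb (inv_ne_zero ha),
      by rw [smul_smul, mul_assoc, inv_mul_cancel₀ ha, mul_one]⟩

/-- The isotropic lines. -/
def Line (F : Type*) [Field F] : Type _ :=
  {S : Set (Fin 3 → F) // ∃ v, v ≠ 0 ∧ hermForm 3 F 5 v v = 0 ∧ S = lineOf v}

theorem act_ne_zero (g : G5) {v : Fin 3 → F} (hv : v ≠ 0) : act g v ≠ 0 := by
  intro h
  apply hv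
  have h2 := congrArg (act g⁻¹) h
  rw [act_inv_act] at h2
  rw [h2]
  exact Matrix.mulVec_zero _

theorem image_lineOf (g : G5) (v : Fin 3 → F) : act g '' lineOf v = lineOf (act g v) := by
  ext x
  constructor
  · rintro ⟨y, ⟨a, ha, rfl⟩, rfl⟩
    exact ⟨a, ha, act_smul g a v⟩
  · rintro ⟨a, ha, rfl⟩
    exact ⟨a • v, ⟨a, ha, rfl⟩, act_smul g a v⟩

noncomputable instance lineAction : MulAction (SU 3 F 5) (Line F) where
  smul g L := ⟨act g '' L.1, by
    obtain ⟨v, hv0, hv, e⟩ := L.2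
    exact ⟨act g v, act_ne_zero g hv0, by rw [herm_act, hv], by rw [e, image_lineOf]⟩⟩
  one_smul L := by
    refine Subtype.ext ?_
    show act (1 : G5) '' L.1 = L.1
    simp [act_one]
  mul_smul g k L := by
    refine Subtype.ext ?_
    show act (g * k) '' L.1 = act g '' (act k '' L.1)
    rw [Set.image_image]
    exact Set.image_congr' fun x => act_mul g k x

/-- The line of an isotropic vector. -/
def mkLine (v : Fin 3 → F) (hv0 : v ≠ 0) (hv : hh v v = 0) : Line F :=
  ⟨lineOf v, v, hv0, hv, rfl⟩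

theorem smul_mkLine (g : G5) (v : Fin 3 → F) (hv0 : v ≠ 0) (hv : hh v v = 0) :
    g • mkLine v hv0 hv = mkLine (act g v) (act_ne_zero g hv0) (by rw [herm_act, hv]) :=
  Subtype.ext (image_lineOf g v)

theorem mkLine_eq {v w : Fin 3 → F} {hv0 : v ≠ 0} {hv : hh v v = 0} {hw0 : w ≠ 0}
    {hw : hh w w = 0} (h : mkLine v hv0 hv = mkLine w hw0 hw) : ∃ a : F, a ≠ 0 ∧ v = a • w := by
  have h' : lineOf v = lineOf w := congrArg Subtype.val h
  exact (h' ▸ mem_lineOf_self v : v ∈ lineOf w)

theorem exists_rep (L : Line F) : ∃ v hv0 hv, L = mkLine v hv0 hv := by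
  obtain ⟨v, hv0, hv, e⟩ := L.2
  exact ⟨v, hv0, hv, Subtype.ext e⟩

/-- A hyperbolic pair together with a unit vector orthogonal to it. -/
structure Frame (F : Type*) [Field F] where
  e : Fin 3 → F
  f : Fin 3 → F
  k : Fin 3 → F
  ee : hermForm 3 F 5 e e = 0
  ff : hermForm 3 F 5 f f = 0
  ef : hermForm 3 F 5 e f = 1
  fe : hermForm 3 F 5 f e = 1
  ke : hermForm 3 F 5 k e = 0
  kf : hermForm 3 F 5 k f = 0
  ek : hermForm 3 F 5 e k = 0
  fk : hermForm 3 F 5 f k = 0
  kk : hermForm 3 F 5 k k = 1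
  span : ∀ x : Fin 3 → F,
    x = hermForm 3 F 5 x f • e + hermForm 3 F 5 x e • f + hermForm 3 F 5 x k • k

variable [Fintype F]

instance lineFinite : Finite (Line F) := Subtype.finite

theorem exists_frame (hF : Fintype.card F = 5 ^ 2) {e : Fin 3 → F} (he0 : e ≠ 0)
    (he : hh e e = 0) : ∃ Φ : Frame F, Φ.e = e := by
  obtain ⟨f, hff, hfe, hef⟩ := exists_hyp hF he0 he
  obtain ⟨k, hke, hkf, hkk⟩ := exists_perp2 hF (le_refl 3) he hff hef hfe (r := 1) (one_pow _)
  have hek := herm_skew_zero hF hke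
  have hfk := herm_skew_zero hF hkf
  have lin : LinearIndependent F ![e, f, k] := by
    rw [Fintype.linearIndependent_iff]
    intro g hg
    simp [Fin.sum_univ_three] at hg
    have a1 := congrArg (fun x => hh x f) hg
    have a2 := congrArg (fun x => hh x e) hg
    have a3 := congrArg (fun x => hh x k) hg
    simp only [herm_add_left, herm_smul_left, herm_zero_left, hef, hff, hkf, he, hfe, hke, hek,
      hfk, hkk] at a1 a2 a3
    simp at a1 a2 a3
    intro i; fin_cases i <;> assumption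
  refine ⟨⟨e, f, k, he, hff, hef, hfe, hke, hkf, hek, hfk, hkk, fun x => ?_⟩, rfl⟩
  have hsp := lin.span_eq_top_of_card_eq_finrank (by simp)
  have hx : x ∈ Submodule.span F (Set.range ![e, f, k]) := hsp ▸ Submodule.mem_top
  obtain ⟨c, hc⟩ := (Submodule.mem_span_range_iff_exists_fun F).1 hx
  simp [Fin.sum_univ_three] at hc
  rw [← hc]
  simp only [herm_add_left, herm_smul_left, hef, hff, hkf, he, hfe, hke, hek, hfk, hkk]
  simp

theorem orbit_arith : ∀ m ∈ ([1, 2, 3] : List ℕ), ∀ o : ℕ, o < 127 → o ∣ 3024 → (o + 5 ^ m - 1) % 5 ^ m = 0 →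
    7560 < o * (5 ^ m * 24) → o = 126 := by decide +kernel

variable (hF : Fintype.card F = 5 ^ 2)

include hF in
theorem card_normOne_pow {a : F} (ha : a ≠ 0) : a ^ 24 = 1 := by
  have := FiniteField.pow_card_sub_one_eq_one a ha
  rwa [hF] at this

include hF in
theorem card_SU_eq : Nat.card (SU 3 F 5) = 378000 := by
  have h := card_GU_eq_mul_card_SU hF (n := 3) (by norm_num)
  rw [card_GU hF] at h
  simp [Finset.prod_range_succ] at h
  omega

include hF in
theorem card_Line : Nat.card (Line F) = 126 := by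
  classical
  have hn : Nat.card {v : Fin 3 → F // hh v v = 0} = 3025 := by
    have h := q_mul_card_norm_zero hF 3
    norm_num at h
    rw [Nat.card_eq_fintype_card]
    omega
  let π : {v : Fin 3 → F // v ≠ 0 ∧ hh v v = 0} → Line F := fun v => mkLine v.1 v.2.1 v.2.2
  have hfib : ∀ L : Line F, Nat.card {v // π v = L} = 24 := by
    intro L
    obtain ⟨w, hw0, hw, rfl⟩ := exists_rep L
    have : Nat.card Fˣ = 24 := by rw [Nat.card_units, Nat.card_eq_fintype_card, hF]; norm_num
    rw [← this]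
    symm
    refine Nat.card_congr (Equiv.ofBijective (fun a : Fˣ => ⟨⟨(a : F) • w, smul_ne_zero a.ne_zero hw0,
      by rw [herm_smul_left, herm_smul_right, hw]; ring⟩, Subtype.ext (lineOf_smul a.ne_zero w)⟩)
      ⟨?_, ?_⟩)
    · intro a b hab
      have h : (a : F) • w = (b : F) • w := congrArg (fun x => x.1.1) hab
      exact Units.ext (smul_left_injective F hw0 h)
    · rintro ⟨⟨v, hv0, hv⟩, h⟩
      obtain ⟨a, ha, rfl⟩ := mkLine_eq h
      exact ⟨Units.mk0 a ha, rfl⟩
  have hz : Nat.card {v : Fin 3 → F // v ≠ 0 ∧ hh v v = 0} = 3024 := by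
    have e : ({v : Fin 3 → F | hh v v = 0} \ {0}) = {v : Fin 3 → F | v ≠ 0 ∧ hh v v = 0} := by
      ext v; simp [and_comm]
    have h := Set.ncard_sdiff_singleton_add_one (a := (0 : Fin 3 → F)) (s := {v | hh v v = 0})
      (herm_zero_left _)
    rw [e] at h
    rw [← Nat.card_coe_set_eq, ← Nat.card_coe_set_eq] at h
    change Nat.card {v : Fin 3 → F // v ≠ 0 ∧ hh v v = 0} + 1 = Nat.card {v : Fin 3 → F // hh v v = 0} at h
    omega
  have : Fintype (Line F) := Fintype.ofFinite _
  have := Nat.card_congr (Equiv.sigmaFiberEquiv π)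
  rw [Nat.card_sigma, Finset.sum_congr rfl (fun L _ => hfib L), hz, Finset.sum_const,
    Finset.card_univ, smul_eq_mul, ← Nat.card_eq_fintype_card] at this
  omega

variable (Φ : Frame F)

/-- The line of the frame. -/
def Frame.line : Line F := mkLine Φ.e (fun h => by
  have := Φ.ef; rw [h, herm_zero_left] at this; exact zero_ne_one this) Φ.ee

/-- The elements fixing the first frame vector. -/
def Frame.P : Subgroup (SU 3 F 5) where
  carrier := {g | act g Φ.e = Φ.e}
  one_mem' := act_one _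
  mul_mem' {a b} ha hb := by
    show act (a * b) Φ.e = Φ.e
    rw [act_mul, show act b Φ.e = Φ.e from hb, show act a Φ.e = Φ.e from ha]
  inv_mem' {a} ha := by
    show act a⁻¹ Φ.e = Φ.e
    conv_lhs => rw [← show act a Φ.e = Φ.e from ha]
    rw [act_inv_act]

theorem mem_P {g : G5} : g ∈ Φ.P ↔ act g Φ.e = Φ.e := Iff.rfl

theorem P_le_stab : Φ.P ≤ MulAction.stabilizer (SU 3 F 5) Φ.line := by
  intro g hg
  rw [MulAction.mem_stabilizer_iff]
  refine Subtype.ext ?_
  show act g '' lineOf Φ.e = lineOf Φ.e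
  rw [image_lineOf, mem_P Φ |>.1 hg]

theorem e_ne_zero : Φ.e ≠ 0 := fun h => by
  have := Φ.ef; rw [h, herm_zero_left] at this; exact zero_ne_one this

include hF in
/-- Only the identity of `P` fixes a second line. -/
theorem semiregular {g : G5} (hg : g ∈ Φ.P) {L : Line F} (hL : L ≠ Φ.line) (hgL : g • L = L) :
    g = 1 := by
  obtain ⟨v, hv0, hv, rfl⟩ := exists_rep L
  rw [smul_mkLine] at hgL
  obtain ⟨b, hb0, hb⟩ := mkLine_eq hgL
  have hev : hh Φ.e v ≠ 0 := by
    intro h0
    have h1 : hh v Φ.e = 0 := herm_skew_zero hF h0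
    have hx := Φ.span v
    rw [h1, zero_smul, add_zero] at hx
    have h2 : hh v Φ.k ^ (5 + 1) = 0 := by
      rw [hx] at hv
      simp only [herm_add_left, herm_add_right hF, herm_smul_left, herm_smul_right, Φ.ee, Φ.ek,
        Φ.ke, Φ.kk] at hv
      rw [pow_succ']
      linear_combination hv
    rw [pow_eq_zero_iff (by norm_num)] at h2
    rw [h2, zero_smul, add_zero] at hx
    apply hL
    refine Subtype.ext ?_
    show lineOf v = lineOf Φ.e
    have hc : hh v Φ.f ≠ 0 := fun h => hv0 (by rw [hx, h, zero_smul])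
    rw [hx, lineOf_smul hc]
  have hb1 : b = 1 := by
    have h := herm_act g Φ.e v
    rw [mem_P Φ |>.1 hg, hb, herm_smul_right] at h
    have h5 : b ^ 5 = 1 := mul_right_cancel₀ hev (by rw [one_mul]; exact h)
    have := congrArg (· ^ 5) h5
    simpa [pow_q_q hF] using this
  rw [hb1, one_smul] at hb
  obtain ⟨k', hk'e, hk'v, hk'k⟩ :=
    exists_perp2 hF (le_refl 3) (e := Φ.e) (f := (hh v Φ.e)⁻¹ • v) Φ.ee
      (by rw [herm_smul_left, herm_smul_right, hv]; ring)
      (by rw [herm_smul_right, herm_conj hF v Φ.e, ← mul_pow,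
            inv_mul_cancel₀ (herm_skew_ne hF hev), one_pow])
      (by rw [herm_smul_left, inv_mul_cancel₀ (herm_skew_ne hF hev)]) (r := 1) (one_pow _)
  have hek' := herm_skew_zero hF hk'e
  rw [herm_smul_right] at hk'v
  have hkv : hh k' v = 0 :=
    (mul_eq_zero.1 hk'v).resolve_left (pow_ne_zero _ (inv_ne_zero (herm_skew_ne hF hev)))
  have hvk := herm_skew_zero hF hkv
  have lin : LinearIndependent F ![Φ.e, v, k'] := by
    rw [Fintype.linearIndependent_iff]
    intro c hc
    simp [Fin.sum_univ_three] at hc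
    have a1 := congrArg (fun x => hh x v) hc
    have a2 := congrArg (fun x => hh x Φ.e) hc
    have a3 := congrArg (fun x => hh x k') hc
    simp only [herm_add_left, herm_smul_left, herm_zero_left, Φ.ee, hv, hk'e, hkv, hvk, hek',
      hk'k] at a1 a2 a3
    simp [hev, herm_skew_ne hF hev] at a1 a2 a3
    intro i; fin_cases i <;> assumption
  have hsp := lin.span_eq_top_of_card_eq_finrank (by simp)
  have hco : ∀ x, ∃ α β γ : F, x = α • Φ.e + β • v + γ • k' := by
    intro x
    have hx : x ∈ Submodule.span F (Set.range ![Φ.e, v, k']) := hsp ▸ Submodule.mem_top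
    obtain ⟨c, hc⟩ := (Submodule.mem_span_range_iff_exists_fun F).1 hx
    exact ⟨c 0, c 1, c 2, by simpa [Fin.sum_univ_three] using hc.symm⟩
  obtain ⟨α, β, γ, hgk⟩ := hco (act g k')
  have hα : β = 0 := by
    have h := herm_act g k' Φ.e
    rw [mem_P Φ |>.1 hg, hgk] at h
    simp [herm_add_left, herm_smul_left, Φ.ee, hk'e, herm_skew_ne hF hev] at h
    exact h
  have hβ : α = 0 := by
    have h := herm_act g k' v
    rw [hb, hgk] at h
    simp [herm_add_left, herm_smul_left, hv, hkv, hev] at h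
    exact h
  rw [hα, hβ, zero_smul, zero_smul, zero_add, zero_add] at hgk
  -- the determinant is one
  have hdet : γ = 1 := by
    have hM : ((g : Matrix.SpecialLinearGroup (Fin 3) F) : Matrix (Fin 3) (Fin 3) F) =
        unitaryTransvection 3 5 k' (γ - 1) := by
      refine Matrix.ext_of_mulVec_single fun i => ?_
      obtain ⟨a, b', c, hx⟩ := hco (Pi.single i 1)
      rw [hx]
      show act g _ = _
      rw [act_add, act_add, act_smul, act_smul, act_smul, mem_P Φ |>.1 hg, hb, hgk,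
        transvection_mulVec, herm_add_left, herm_add_left, herm_smul_left, herm_smul_left,
        herm_smul_left, hek', hvk, hk'k]
      module
    have hd := congrArg Matrix.det hM
    rw [det_transvection hF, hk'k, (g : Matrix.SpecialLinearGroup (Fin 3) F).2] at hd
    linear_combination -hd
  refine su_ext fun x => ?_
  obtain ⟨a, b', c, hx⟩ := hco x
  rw [hx, act_one, act_add, act_add, act_smul, act_smul, act_smul, mem_P Φ |>.1 hg, hb, hgk, hdet,
    one_smul]

include hF in
theorem transitive : MulAction.IsPretransitive (SU 3 F 5) (Line F) := by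
  constructor
  intro L M
  obtain ⟨u, hu0, hu, rfl⟩ := exists_rep L
  obtain ⟨v, hv0, hv, rfl⟩ := exists_rep M
  obtain ⟨g, -, hg⟩ := exists_move hF (le_refl 3) ⊤ (fun _ _ _ _ _ _ => Subgroup.mem_top _) hu0 hu
    hv0 hv
  refine ⟨g, ?_⟩
  rw [smul_mkLine]
  exact Subtype.ext (by show lineOf (act g u) = lineOf v; rw [hg])

/-- The eigenvalue at the frame vector. -/
noncomputable def eig (g : MulAction.stabilizer (SU 3 F 5) Φ.line) : F :=
  Classical.choose (mkLine_eq ((smul_mkLine g.1 Φ.e (e_ne_zero Φ) Φ.ee).symm.trans g.2))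

theorem eig_spec (g : MulAction.stabilizer (SU 3 F 5) Φ.line) :
    eig Φ g ≠ 0 ∧ act g.1 Φ.e = eig Φ g • Φ.e :=
  Classical.choose_spec (mkLine_eq ((smul_mkLine g.1 Φ.e (e_ne_zero Φ) Φ.ee).symm.trans g.2))

/-- The eigenvalue as a homomorphism. -/
noncomputable def eigHom : MulAction.stabilizer (SU 3 F 5) Φ.line →* Fˣ where
  toFun g := Units.mk0 (eig Φ g) (eig_spec Φ g).1
  map_one' := by
    ext
    refine smul_left_injective F (e_ne_zero Φ) ?_
    show eig Φ 1 • Φ.e = ((1 : Fˣ) : F) • Φ.e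
    rw [← (eig_spec Φ 1).2, Units.val_one, one_smul]
    exact act_one _
  map_mul' g k := by
    ext
    refine smul_left_injective F (e_ne_zero Φ) ?_
    show eig Φ (g * k) • Φ.e = (eig Φ g * eig Φ k) • Φ.e
    rw [← (eig_spec Φ _).2, Subgroup.coe_mul, act_mul, (eig_spec Φ k).2, act_smul, (eig_spec Φ g).2,
      smul_smul, mul_comm]

theorem mem_eig_ker {g : MulAction.stabilizer (SU 3 F 5) Φ.line} :
    g ∈ (eigHom Φ).ker ↔ g.1 ∈ Φ.P := by
  rw [MonoidHom.mem_ker, mem_P, Units.ext_iff, (eig_spec Φ g).2]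
  constructor
  · intro h
    rw [show eig Φ g = 1 from h, one_smul]
  · intro h
    exact smul_left_injective F (e_ne_zero Φ) (h.trans (one_smul F Φ.e).symm)

include hF in
theorem card_P : Nat.card Φ.P = 125 := by
  classical
  have := transitive hF
  have hidx : (MulAction.stabilizer (SU 3 F 5) Φ.line).index = 126 := by
    rw [MulAction.index_stabilizer_of_transitive, card_Line hF]
  have hst := (MulAction.stabilizer (SU 3 F 5) Φ.line).card_mul_index
  rw [hidx, card_SU_eq hF] at hst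
  have hker : Nat.card (eigHom Φ).ker = Nat.card Φ.P := by
    refine Nat.card_congr ⟨fun g => ⟨g.1.1, (mem_eig_ker Φ).1 g.2⟩,
      fun g => ⟨⟨g.1, P_le_stab Φ g.2⟩, (mem_eig_ker Φ).2 g.2⟩, fun g => rfl, fun g => rfl⟩
  have h24 : Nat.card (eigHom Φ).range ∣ 24 := by
    have h := Subgroup.card_subgroup_dvd_card (eigHom Φ).range
    rwa [Nat.card_units, Nat.card_eq_fintype_card (α := F), hF] at h
  have hmul : Nat.card (eigHom Φ).range * Nat.card (eigHom Φ).ker = 3000 := by
    have h := (eigHom Φ).ker.index_mul_card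
    rw [Subgroup.index_ker] at h
    omega
  obtain ⟨L, hL⟩ : ∃ L : Line F, L ≠ Φ.line := by
    refine ⟨mkLine Φ.f (fun h => ?_) Φ.ff, fun h => ?_⟩
    · have := Φ.fe; rw [h, herm_zero_left] at this; exact zero_ne_one this
    · obtain ⟨a, -, ha⟩ := mkLine_eq h
      have := Φ.fe
      rw [ha, herm_smul_left, Φ.ee, mul_zero] at this
      exact zero_ne_one this
  have : Fintype (Line F) := Fintype.ofFinite _
  have hle : Nat.card Φ.P ≤ 125 := by
    have hinj : Function.Injective (fun g : Φ.P => (⟨g.1 • L, fun h => hL (by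
        have := congrArg (g.1⁻¹ • ·) h
        simp only [inv_smul_smul] at this
        rw [this, MulAction.mem_stabilizer_iff.1 (P_le_stab Φ (inv_mem g.2))])⟩ :
        {M : Line F // M ≠ Φ.line})) := by
      intro g k h
      have h' : g.1 • L = k.1 • L := congrArg Subtype.val h
      have := semiregular hF Φ (mul_mem (inv_mem k.2) g.2) hL
        (by rw [mul_smul, h', inv_smul_smul])
      exact Subtype.ext (inv_mul_eq_one.1 this).symm
    refine (Nat.card_le_card_of_injective _ hinj).trans ?_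
    rw [Nat.card_eq_fintype_card, Fintype.card_subtype_compl, Fintype.card_subtype_eq,
      ← Nat.card_eq_fintype_card, card_Line hF]
  rw [hker] at hmul
  obtain ⟨d, hd⟩ := h24
  have : Nat.card (eigHom Φ).range ≤ 24 := Nat.le_of_dvd (by norm_num) ⟨d, hd⟩
  nlinarith

include hF in
theorem isPGroup_P : IsPGroup 5 Φ.P := IsPGroup.of_card (n := 3) (card_P hF Φ)

/-- The coefficient of `e` in the image of `k`. -/
def phi (g : G5) : F := hh (act g Φ.k) Φ.f

include hF in
theorem act_k {g : G5} (hg : g ∈ Φ.P) : act g Φ.k = phi Φ g • Φ.e + Φ.k := by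
  have h0 : ∀ g ∈ Φ.P, hh (act g Φ.k) Φ.e = 0 := fun g hg => by
    have h := herm_act g Φ.k Φ.e
    rwa [mem_P Φ |>.1 hg, Φ.ke] at h
  have hx := Φ.span (act g Φ.k)
  rw [h0 g hg, zero_smul, add_zero] at hx
  let γ : Φ.P →* F :=
    { toFun := fun g => hh (act g.1 Φ.k) Φ.k
      map_one' := by simp only [OneMemClass.coe_one, act_one, Φ.kk]
      map_mul' := fun a b => by
        have hb := Φ.span (act b.1 Φ.k)
        rw [h0 b.1 b.2, zero_smul, add_zero] at hb
        show hh (act (a.1 * b.1) Φ.k) Φ.k = _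
        rw [act_mul]
        conv_lhs => rw [hb]
        rw [act_add, act_smul, act_smul, mem_P Φ |>.1 a.2, herm_add_left,
          herm_smul_left, herm_smul_left, Φ.ek]
        ring }
  have h125 : γ ⟨g, hg⟩ ^ 125 = 1 := by
    rw [← map_pow, ← card_P hF Φ, pow_card_eq_one', map_one]
  have h6 : γ ⟨g, hg⟩ ^ 6 = 1 := by
    have h := herm_act g Φ.k Φ.k
    rw [hx] at h
    simp only [herm_add_left, herm_add_right hF, herm_smul_left, herm_smul_right, Φ.ee, Φ.ek,
      Φ.ke, Φ.kk] at h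
    show hh (act g Φ.k) Φ.k ^ (5 + 1) = 1
    rw [pow_succ']
    linear_combination h
  have h1 : hh (act g Φ.k) Φ.k = 1 := by
    show γ ⟨g, hg⟩ = 1
    calc γ ⟨g, hg⟩ = γ ⟨g, hg⟩ ^ 125 * γ ⟨g, hg⟩ := by rw [h125, one_mul]
      _ = (γ ⟨g, hg⟩ ^ 6) ^ 21 := by ring
      _ = 1 := by rw [h6, one_pow]
  rw [h1, one_smul] at hx
  exact hx

include hF in
theorem act_f {g : G5} (hg : g ∈ Φ.P) :
    act g Φ.f = hh (act g Φ.f) Φ.f • Φ.e + Φ.f + (-(phi Φ g) ^ 5) • Φ.k := by
  have hx := Φ.span (act g Φ.f)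
  have h1 : hh (act g Φ.f) Φ.e = 1 := by
    have h := herm_act g Φ.f Φ.e
    rwa [mem_P Φ |>.1 hg, Φ.fe] at h
  rw [h1, one_smul] at hx
  have h := herm_act g Φ.k Φ.f
  rw [act_k hF Φ hg, hx, Φ.kf] at h
  simp only [herm_add_left, herm_add_right hF, herm_smul_left, herm_smul_right, Φ.ee, Φ.ef, Φ.ek,
    Φ.ke, Φ.kf, Φ.kk] at h
  have h2 : hh (act g Φ.f) Φ.k = -(phi Φ g) ^ 5 := by
    have h3 := congrArg (· ^ 5) (eq_neg_of_add_eq_zero_right
      (show phi Φ g + hh (act g Φ.f) Φ.k ^ 5 = 0 by linear_combination h))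
    simpa [pow_q_q hF, neg_pow_q hF] using h3
  rw [h2] at hx
  exact hx

include hF in
theorem ext_P {g k : G5} (hg : g ∈ Φ.P) (hk : k ∈ Φ.P) (hf : act g Φ.f = act k Φ.f)
    (hk' : act g Φ.k = act k Φ.k) : g = k := by
  refine su_ext fun x => ?_
  rw [Φ.span x]
  simp only [act_add, act_smul, hf, hk', mem_P Φ |>.1 hg, mem_P Φ |>.1 hk]

include hF in
theorem phi_mul {g k : G5} (hg : g ∈ Φ.P) (hk : k ∈ Φ.P) :
    phi Φ (g * k) = phi Φ g + phi Φ k := by
  show hh (act (g * k) Φ.k) Φ.f = _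
  rw [act_mul, act_k hF Φ hk, act_add, act_smul, mem_P Φ |>.1 hg, herm_add_left, herm_smul_left,
    Φ.ef]
  show phi Φ k * 1 + phi Φ g = _
  ring

include hF in
/-- An element with trivial `phi` is a transvection centred at `e`. -/
theorem phi_zero {g : G5} (hg : g ∈ Φ.P) (h : phi Φ g = 0) :
    ∃ hc, g = tv hF Φ.e (hh (act g Φ.f) Φ.f) Φ.ee hc := by
  have hf := act_f hF Φ hg
  revert hf
  generalize hh (act g Φ.f) Φ.f = μ
  intro hf
  rw [h, zero_pow (by norm_num), neg_zero, zero_smul, add_zero] at hf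
  have hc : μ + μ ^ 5 = 0 := by
    have h1 := herm_act g Φ.f Φ.f
    rw [hf] at h1
    simp only [herm_add_left, herm_add_right hF, herm_smul_left, herm_smul_right, Φ.ee, Φ.ef, Φ.fe,
      Φ.ff] at h1
    linear_combination h1
  refine ⟨hc, su_ext fun x => ?_⟩
  rw [Φ.span x]
  simp only [act_add, act_smul, mem_P Φ |>.1 hg, act_k hF Φ hg, h, hf, tv_act, Φ.ee, Φ.fe, Φ.ke]
  module

/-- The transvections centred at `e`. -/
def rootSet : Set (SU 3 F 5) :=
  {g | g ∈ Φ.P ∧ phi Φ g = 0}

include hF in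
theorem tv_mem_root (c : F) (hc : c + c ^ 5 = 0) : tv hF Φ.e c Φ.ee hc ∈ rootSet Φ := by
  refine ⟨?_, ?_⟩
  · rw [mem_P, tv_act, Φ.ee, mul_zero, zero_smul, add_zero]
  · show hh (act _ Φ.k) Φ.f = 0
    rw [tv_act, Φ.ke, mul_zero, zero_smul, add_zero, Φ.kf]

include hF in
/-- If a subgroup meets the root group, it contains it. -/
theorem root_subset {H : Subgroup (SU 3 F 5)} {g : G5} (hgH : g ∈ H) (hg : g ∈ rootSet Φ)
    (hg1 : g ≠ 1) : rootSet Φ ⊆ H := by
  classical
  have : Fact (Nat.Prime 5) := ⟨by norm_num⟩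
  let Z : Subgroup (SU 3 F 5) :=
    { carrier := rootSet Φ
      one_mem' := ⟨one_mem _, by show hh (act 1 Φ.k) Φ.f = 0; rw [act_one, Φ.kf]⟩
      mul_mem' := fun {a b} ha hb => ⟨mul_mem ha.1 hb.1,
        by rw [phi_mul hF Φ ha.1 hb.1, ha.2, hb.2, add_zero]⟩
      inv_mem' := fun {a} ha => ⟨inv_mem ha.1, by
        have h := phi_mul hF Φ ha.1 (inv_mem ha.1)
        rw [mul_inv_cancel] at h
        have h0 : phi Φ (1 : G5) = 0 := by show hh (act 1 Φ.k) Φ.f = 0; rw [act_one, Φ.kf]
        rw [h0, ha.2, zero_add] at h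
        exact h.symm⟩ }
  have hle : Nat.card Z ≤ 5 := by
    let p : Polynomial F := Polynomial.X ^ 5 + Polynomial.X
    have hp : p.natDegree = 5 := by
      show (Polynomial.X ^ 5 + Polynomial.X : Polynomial F).natDegree = 5
      compute_degree!
    have hp0 : p ≠ 0 := fun h => by rw [h, Polynomial.natDegree_zero] at hp; omega
    have hinj : Function.Injective (fun z : Z => (⟨hh (act z.1 Φ.f) Φ.f, by
        obtain ⟨hc, -⟩ := phi_zero hF Φ z.2.1 z.2.2
        rw [Multiset.mem_toFinset, Polynomial.mem_roots hp0]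
        show Polynomial.eval _ (Polynomial.X ^ 5 + Polynomial.X : Polynomial F) = 0
        simp only [Polynomial.eval_add, Polynomial.eval_pow, Polynomial.eval_X]
        rw [add_comm]; exact hc⟩ : p.roots.toFinset)) := by
      intro a b h
      obtain ⟨hca, ha⟩ := phi_zero hF Φ a.2.1 a.2.2
      obtain ⟨hcb, hb⟩ := phi_zero hF Φ b.2.1 b.2.2
      have h' : hh (act a.1 Φ.f) Φ.f = hh (act b.1 Φ.f) Φ.f := congrArg Subtype.val h
      exact Subtype.ext (by rw [ha, hb]; simp only [h'])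
    refine (Nat.card_le_card_of_injective _ hinj).trans ?_
    rw [Nat.card_eq_fintype_card, Fintype.card_coe]
    exact (Multiset.toFinset_card_le _).trans ((Polynomial.card_roots' p).trans_eq hp)
  have hZP : Z ≤ Φ.P := fun z hz => hz.1
  have hZ : IsPGroup 5 Z := (isPGroup_P hF Φ).to_le hZP
  intro z hz
  have hne : Nat.card (Z ⊓ H : Subgroup _) ≠ 1 := by
    intro h
    have := (Subgroup.eq_bot_of_card_eq _ h) ▸ (show g ∈ Z ⊓ H from ⟨hg, hgH⟩)
    exact hg1 (Subgroup.mem_bot.1 this)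
  have hdvd : Nat.card (Z ⊓ H : Subgroup _) ∣ Nat.card Z := Subgroup.card_dvd_of_le inf_le_left
  obtain ⟨n, hn⟩ := IsPGroup.iff_card.1 hZ
  have hn1 : n ≤ 1 := by
    by_contra hn1
    have : 5 ^ 2 ≤ 5 ^ n := Nat.pow_le_pow_right (by norm_num) (by omega)
    omega
  have hcard : Nat.card (Z ⊓ H : Subgroup _) = Nat.card Z := by
    rw [hn] at hdvd ⊢
    obtain ⟨m, hm, hm'⟩ := (Nat.dvd_prime_pow (by norm_num)).1 hdvd
    have : m ≠ 0 := fun h => hne (by rw [hm', h, pow_zero])
    rw [hm', show m = n by omega]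
  have heq : Z ⊓ H = Z := Subgroup.eq_of_le_of_card_ge inf_le_left hcard.ge
  exact (inf_eq_left.1 heq) hz

include hF in
/-- A subgroup of `P` of order at least 25 meets the root group. -/
theorem meets_root {R : Subgroup (SU 3 F 5)} (hR : R ≤ Φ.P) (h25 : 25 ≤ Nat.card R) :
    ∃ g ∈ R, g ∈ rootSet Φ ∧ g ≠ 1 := by
  classical
  by_contra h
  push Not at h
  have hinj : Function.Injective (fun g : R => phi Φ g.1) := by
    intro a b hab
    have h0 : phi Φ (a.1⁻¹ * b.1) = 0 := by
      have e := phi_mul hF Φ (hR a.2) (mul_mem (inv_mem (hR a.2)) (hR b.2))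
      rw [mul_inv_cancel_left] at e
      change phi Φ a.1 = phi Φ b.1 at hab
      linear_combination hab.symm - e
    have := h _ (mul_mem (inv_mem a.2) b.2) ⟨mul_mem (inv_mem (hR a.2)) (hR b.2), h0⟩
    exact Subtype.ext (inv_mul_eq_one.1 this)
  have hsurj : Function.Surjective (fun g : R => phi Φ g.1) := by
    refine (Function.Injective.bijective_of_nat_card_le hinj ?_).2
    rw [Nat.card_eq_fintype_card, hF]
    omega
  obtain ⟨c, hc0, hc⟩ := exists_skew hF
  obtain ⟨g, hg⟩ := hsurj 1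
  obtain ⟨k, hk⟩ := hsurj c
  change phi Φ g.1 = 1 at hg
  change phi Φ k.1 = c at hk
  have hgk : g * k = k * g := hinj (by
    show phi Φ (g.1 * k.1) = phi Φ (k.1 * g.1)
    rw [phi_mul hF Φ (hR g.2) (hR k.2), phi_mul hF Φ (hR k.2) (hR g.2), add_comm])
  have e := congrArg (fun x : R => hh (act x.1 Φ.f) Φ.f) hgk
  simp only [Subgroup.coe_mul, act_mul] at e
  rw [act_f hF Φ (hR k.2), act_f hF Φ (hR g.2)] at e
  simp only [act_add, act_smul, mem_P Φ |>.1 (hR g.2), mem_P Φ |>.1 (hR k.2),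
    act_k hF Φ (hR g.2), act_k hF Φ (hR k.2)] at e
  rw [act_f hF Φ (hR k.2), act_f hF Φ (hR g.2)] at e
  simp only [herm_add_left, herm_smul_left, Φ.ef, Φ.ff, Φ.kf, hg, hk] at e
  have hcc : c + c = 0 := by linear_combination e + hc
  rw [← two_mul] at hcc
  have h2 : (2 : F) ≠ 0 := by
    intro h2
    have h5 : ((Fintype.card F : ℕ) : F) = 0 := Nat.cast_card_eq_zero F
    rw [hF] at h5
    push_cast at h5
    exact one_ne_zero (by linear_combination h5 - 12 * h2 : (1 : F) = 0)
  exact hc0 ((mul_eq_zero.1 hcc).resolve_left h2)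

include hF in
/-- A group of order 5 in `P` normalised by an element with primitive eigenvalue is the root
group. -/
theorem meets_root_five {R : Subgroup (SU 3 F 5)} (hR : R ≤ Φ.P) (h5 : Nat.card R = 5) {x : G5}
    {a : F} (hxa : act x Φ.e = a • Φ.e) (ha : orderOf a = 24)
    (hnorm : ∀ g ∈ R, x * g * x⁻¹ ∈ R) : ∃ g ∈ R, g ∈ rootSet Φ ∧ g ≠ 1 := by
  classical
  by_contra h
  push Not at h
  have : Fact (Nat.Prime 5) := ⟨by norm_num⟩
  obtain ⟨g, hg1⟩ : ∃ g : R, g ≠ 1 := by
    have : Nontrivial R := Finite.one_lt_card_iff_nontrivial.1 (by rw [h5]; norm_num)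
    exact exists_ne 1
  have hgen : Subgroup.zpowers g = ⊤ := zpowers_eq_top_of_prime_card h5 hg1
  have hgne : g.1 ≠ 1 := fun e => hg1 (Subtype.ext e)
  have hφ : phi Φ g.1 ≠ 0 := fun e => hgne (h _ g.2 ⟨hR g.2, e⟩)
  set φ := phi Φ g.1
  obtain ⟨j, hj⟩ := (Submonoid.mem_powers_iff _ _).1 (mem_powers_iff_mem_zpowers.2
    (hgen ▸ Subgroup.mem_top (⟨_, hnorm _ g.2⟩ : R)))
  have hpow : ∀ j : ℕ, phi Φ (g.1 ^ j) = j * φ := by
    intro j
    induction j with
    | zero =>
      show hh (act (g.1 ^ 0) Φ.k) Φ.f = _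
      rw [pow_zero, act_one, Φ.kf]; simp
    | succ j ih => rw [pow_succ, phi_mul hF Φ (pow_mem (hR g.2) j) (hR g.2), ih]; push_cast; ring
  have ha0 : a ≠ 0 := fun e => by rw [e, orderOf_zero] at ha; omega
  have hxe : hh (act x Φ.k) Φ.e = 0 := by
    have h1 := herm_act x Φ.k Φ.e
    rw [hxa, herm_smul_right, Φ.ke] at h1
    exact (mul_eq_zero.1 h1).resolve_left (pow_ne_zero _ ha0)
  have hxk := Φ.span (act x Φ.k)
  rw [hxe, zero_smul, add_zero] at hxk
  set b := hh (act x Φ.k) Φ.k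
  set c := hh (act x Φ.k) Φ.f
  have hb6 : b ^ 6 = 1 := by
    have h1 := herm_act x Φ.k Φ.k
    rw [hxk] at h1
    simp only [herm_add_left, herm_add_right hF, herm_smul_left, herm_smul_right, Φ.ee, Φ.ek,
      Φ.ke, Φ.kk] at h1
    rw [show b ^ 6 = b * b ^ 5 by ring]
    linear_combination h1
  have hy := hR (hnorm _ g.2)
  have key : act (x * g.1 * x⁻¹) (act x Φ.k) = act x (act g.1 Φ.k) := by
    rw [act_mul, act_mul, act_inv_act]
  rw [act_k hF Φ (hR g.2), hxk, act_add, act_smul, act_add (g := x), act_smul, act_smul, hxa,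
    hxk, mem_P Φ |>.1 hy, act_k hF Φ hy] at key
  have key2 := congrArg (fun v => hh v Φ.f) key
  simp only [herm_add_left, herm_smul_left, Φ.ef, Φ.kf] at key2
  have hj' : phi Φ (x * g.1 * x⁻¹) = j * φ := by rw [← hpow, ← SubgroupClass.coe_pow, hj]
  rw [hj'] at key2
  have hrel : (j : F) * b = a := by
    refine mul_right_cancel₀ hφ ?_
    change _ = _ at key2
    linear_combination key2
  have hb0 : b ≠ 0 := fun e => by rw [e] at hb6; norm_num at hb6
  have hj0 : (j : F) ≠ 0 := fun e => ha0 (by rw [← hrel, e, zero_mul])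
  have hj4 : (j : F) ^ 4 = 1 := by
    have h50 : ((Fintype.card F : ℕ) : F) = 0 := Nat.cast_card_eq_zero F
    rw [hF] at h50
    have h5F : (5 : F) = 0 := by
      have : (5 : F) * 5 = 0 := by norm_num at h50 ⊢; exact h50
      exact mul_self_eq_zero.1 this
    have hp : ∀ n : ℕ, (n : F) ^ 5 = (n : F) := by
      intro n
      induction n with
      | zero => simp
      | succ n ih =>
        push_cast
        linear_combination ih + ((n : F) ^ 4 + 2 * (n : F) ^ 3 + 2 * (n : F) ^ 2 + (n : F)) * h5F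
    exact mul_right_cancel₀ hj0 (by rw [one_mul, ← pow_succ, hp])
  have : a ^ 12 = 1 := by
    rw [← hrel, mul_pow, show (j : F) ^ 12 = ((j : F) ^ 4) ^ 3 by ring, hj4,
      show b ^ 12 = (b ^ 6) ^ 2 by ring, hb6]
    ring
  have := orderOf_dvd_of_pow_eq_one this
  rw [ha] at this
  norm_num at this

set_option maxHeartbeats 1000000 in
include hF in
theorem card_ge : ∀ H : Subgroup (SU 3 F 5), H ≠ ⊤ → 50 ≤ H.index := by
  classical
  intro H hH
  by_contra hk
  push Not at hk
  have hmul := H.card_mul_index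
  rw [card_SU_eq hF] at hmul
  have hbig : 7560 < Nat.card H := by nlinarith
  have : Fact (Nat.Prime 5) := ⟨by norm_num⟩
  obtain ⟨R0⟩ : Nonempty (Sylow 5 H) := inferInstance
  set R : Subgroup (SU 3 F 5) := (R0 : Subgroup H).map H.subtype
  have hRH : R ≤ H := Subgroup.map_subtype_le _
  have hRp : IsPGroup 5 R := R0.2.map _
  have hRcard : Nat.card R = 5 ^ (Nat.card H).factorization 5 := by
    rw [Subgroup.card_subtype, R0.card_eq_multiplicity]
  have : Fintype (Line F) := Fintype.ofFinite _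
  -- the fixed line
  obtain ⟨L, hL⟩ : ∃ L : Line F, ∀ g ∈ R, g • L = L := by
    have hn := hRp.nonempty_fixed_point_of_prime_not_dvd_card (Line F) (by
      rw [card_Line hF]; norm_num)
    obtain ⟨L, hL⟩ := hn
    exact ⟨L, fun g hg => hL ⟨g, hg⟩⟩
  obtain ⟨v, hv0, hv, rfl⟩ := exists_rep L
  obtain ⟨Φ, rfl⟩ := exists_frame hF hv0 hv
  set S := MulAction.stabilizer (SU 3 F 5) Φ.line
  have hRS : R ≤ S := fun g hg => MulAction.mem_stabilizer_iff.2 (hL g hg)
  have h24 : Nat.card Fˣ = 24 := by rw [Nat.card_units, Nat.card_eq_fintype_card, hF]; norm_num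
  have hRP : R ≤ Φ.P := by
    intro g hg
    refine (mem_eig_ker Φ (g := ⟨g, hRS hg⟩)).1 ?_
    obtain ⟨n, hn⟩ := hRp ⟨g, hg⟩
    have h1 : orderOf (eigHom Φ ⟨g, hRS hg⟩) ∣ 5 ^ n := by
      refine orderOf_dvd_of_pow_eq_one ?_
      have hn' : g ^ 5 ^ n = 1 := by simpa using congrArg Subtype.val hn
      rw [← map_pow, ← map_one (eigHom Φ)]
      exact congrArg _ (Subtype.ext (by simpa using hn'))
    have h2 : orderOf (eigHom Φ ⟨g, hRS hg⟩) ∣ 24 := h24 ▸ orderOf_dvd_natCard _
    rw [MonoidHom.mem_ker, ← orderOf_eq_one_iff]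
    exact Nat.eq_one_of_dvd_coprimes (Nat.Coprime.pow_left n (by norm_num)) h1 h2
  have hReq : H ⊓ Φ.P = R := by
    refine le_antisymm ?_ (le_inf hRH hRP)
    have hp : IsPGroup 5 (H ⊓ Φ.P : Subgroup _) := (isPGroup_P hF Φ).to_le inf_le_right
    have h1 : ((H ⊓ Φ.P).subgroupOf H) = R0 := R0.3 (IsPGroup.comap_subtype hp) (by
      intro g hg
      exact ⟨g.2, hRP (Subgroup.mem_map_of_mem _ hg)⟩)
    intro g hg
    exact ⟨⟨g, hg.1⟩, h1.le (show g ∈ H ⊓ Φ.P from hg), rfl⟩
  -- the stabiliser in `H`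
  set St := S.subgroupOf H
  let ψ : St →* Fˣ := (eigHom Φ).comp
    { toFun := fun g => ⟨g.1.1, g.2⟩, map_one' := rfl, map_mul' := fun _ _ => rfl }
  have hψk : Nat.card ψ.ker = Nat.card R := by
    refine Nat.card_congr ⟨fun g => ⟨g.1.1.1, hReq ▸ ⟨g.1.1.2, (mem_eig_ker Φ).1 g.2⟩⟩,
      fun g => ⟨⟨⟨g.1, hRH g.2⟩, hRS g.2⟩, (mem_eig_ker Φ).2 (hRP g.2)⟩, fun g => rfl, fun g => rfl⟩
  have hψmul : Nat.card ψ.range * Nat.card R = Nat.card St := by
    rw [← hψk, ← ψ.ker.index_mul_card, Subgroup.index_ker]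
  have hψr : Nat.card ψ.range ∣ 24 := h24 ▸ Subgroup.card_subgroup_dvd_card _
  -- the orbit
  set O := MulAction.orbit H Φ.line
  have hO : Nat.card O * Nat.card St = Nat.card H := by
    rw [show St = MulAction.stabilizer H Φ.line from Subgroup.ext fun g => Iff.rfl,
      Nat.card_coe_set_eq, ← MulAction.index_stabilizer, Subgroup.index_mul_card]
  have hOle : Nat.card O ≤ 126 := card_Line hF ▸ Nat.card_le_card_of_injective _ Subtype.val_injective
  -- divisibility by 5
  obtain ⟨m, hmdef⟩ : ∃ m, m = (Nat.card H).factorization 5 := ⟨_, rfl⟩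
  rw [← hmdef] at hRcard
  have hdvd : Nat.card H ∣ 5 ^ 3 * 3024 := ⟨H.index, by rw [hmul]; norm_num⟩
  have hcop : ∀ d, d ∣ Nat.card H → d * 5 ^ m ∣ Nat.card H → d ∣ 3024 := by
    intro d hd hd5
    have hnd : ¬ 5 ∣ d := by
      intro h5
      have hh' : 5 ^ (m + 1) ∣ Nat.card H := (by
        rw [pow_succ']; exact (Nat.mul_dvd_mul_right h5 _).trans hd5)
      have := (Nat.Prime.pow_dvd_iff_le_factorization (by norm_num)
        (Nat.pos_iff_ne_zero.1 Nat.card_pos)).1 hh'
      omega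
    exact (Nat.Coprime.pow_right 3 ((Nat.Prime.coprime_iff_not_dvd (by norm_num)).2 hnd).symm)
      |>.dvd_of_dvd_mul_left (hd.trans hdvd)
  have hm0 : m ≠ 0 := by
    intro h0
    have := hcop (Nat.card H) dvd_rfl (by rw [h0, pow_zero, mul_one])
    have := Nat.le_of_dvd (by norm_num) this
    omega
  have hm3 : m ≤ 3 := by
    have h := Subgroup.card_dvd_of_le hRP
    rw [hRcard, card_P hF Φ, show (125 : ℕ) = 5 ^ 3 from rfl] at h
    exact (Nat.pow_dvd_pow_iff_le_right (by norm_num)).1 h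
  have hO3024 : Nat.card O ∣ 3024 := by
    refine hcop _ ⟨_, hO.symm⟩ ?_
    rw [← hRcard, ← hO, ← hψmul]
    exact Nat.mul_dvd_mul_left _ (Dvd.intro_left _ rfl)
  have hmod : Nat.card R ∣ Nat.card O - 1 := by
    let X := {M : O // (M.1 : Line F) ≠ Φ.line}
    letI : MulAction R X :=
      { smul := fun g M => ⟨⟨g.1 • M.1.1, by
            obtain ⟨⟨h, hh'⟩, hM⟩ := M.1.2
            exact ⟨⟨g.1 * h, mul_mem (hRH g.2) hh'⟩, by
              rw [← hM]; exact mul_smul g.1 h Φ.line⟩⟩, fun e => M.2 (by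
            have := congrArg (g.1⁻¹ • ·) e
            simp only [inv_smul_smul] at this
            rw [this]
            exact MulAction.mem_stabilizer_iff.1 (hRS (inv_mem g.2)))⟩
        one_smul := fun M => Subtype.ext (Subtype.ext (one_smul _ _))
        mul_smul := fun g k M => Subtype.ext (Subtype.ext (mul_smul g.1 k.1 M.1.1)) }
    have hX : Nat.card X = Nat.card O - 1 := by
      have : Fintype O := Fintype.ofFinite _
      rw [Nat.card_eq_fintype_card, Nat.card_eq_fintype_card]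
      have : Fintype.card X = Fintype.card {M : O // M ≠ ⟨Φ.line, MulAction.mem_orbit_self _⟩} :=
        Fintype.card_congr (Equiv.subtypeEquivRight fun M =>
          ⟨fun h e => h (congrArg Subtype.val e), fun h e => h (Subtype.ext e)⟩)
      rw [this, Fintype.card_subtype_compl, Fintype.card_subtype_eq]
    rw [← hX]
    have hfree : ∀ M : X, MulAction.stabilizer R M = ⊥ := by
      intro M
      rw [Subgroup.eq_bot_iff_forall]
      intro g hg
      exact Subtype.ext (semiregular hF Φ (hRP g.2) M.2 (congrArg (fun z : X => z.1.1) hg))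
    have e := MulAction.selfEquivSigmaOrbits R X
    rw [Nat.card_congr e]
    have : Fintype (Quotient (MulAction.orbitRel R X)) := Fintype.ofFinite _
    rw [Nat.card_sigma]
    refine Finset.dvd_sum fun q _ => ?_
    rw [Nat.card_congr (MulAction.orbitEquivQuotientStabilizer R (Quotient.out q)),
      ← Subgroup.index_eq_card, hfree, Subgroup.index_bot]
  -- arithmetic
  have hOpos : 0 < Nat.card O := by
    have : Nonempty O := ⟨⟨_, MulAction.mem_orbit_self _⟩⟩
    exact Nat.card_pos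
  have hr24 : Nat.card ψ.range ≤ 24 := Nat.le_of_dvd (by norm_num) hψr
  have hO126 : Nat.card O = 126 := by
    refine orbit_arith m (by simp; omega) _ (by omega) hO3024 ?_ ?_
    · rw [hRcard] at hmod
      obtain ⟨t, ht⟩ := hmod
      have hp : 0 < 5 ^ m := pow_pos (by norm_num) m
      rw [show Nat.card O + 5 ^ m - 1 = 5 ^ m * (t + 1) by rw [mul_add]; omega, Nat.mul_mod_right]
    · calc 7560 < Nat.card H := hbig
        _ = Nat.card O * (Nat.card ψ.range * Nat.card R) := by rw [hψmul, hO]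
        _ ≤ Nat.card O * (24 * Nat.card R) :=
          Nat.mul_le_mul_left _ (Nat.mul_le_mul_right _ hr24)
        _ = _ := by rw [hRcard]; ring
  have htrans : ∀ M : Line F, ∃ h ∈ H, h • Φ.line = M := by
    intro M
    have hu : O = Set.univ := Set.eq_of_subset_of_ncard_le (Set.subset_univ _) (by
      rw [Set.ncard_univ, card_Line hF, ← Nat.card_coe_set_eq, hO126]) (Set.toFinite _)
    obtain ⟨h, hh'⟩ : M ∈ O := hu ▸ Set.mem_univ M
    exact ⟨h.1, h.2, hh'⟩
  -- the root group
  obtain ⟨g, hgR, hg, hg1⟩ : ∃ g ∈ R, g ∈ rootSet Φ ∧ g ≠ 1 := by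
    by_cases hm2 : 2 ≤ m
    · exact meets_root hF Φ hRP (by rw [hRcard]; exact le_of_eq_of_le (by norm_num : (25 : ℕ) = 5 ^ 2) (Nat.pow_le_pow_right (by norm_num) hm2))
    · have hm1 : m = 1 := by omega
      have hR5 : Nat.card R = 5 := by rw [hRcard, hm1, pow_one]
      have h24' : Nat.card ψ.range = 24 := by
        have h1 : 7560 < Nat.card O * (Nat.card ψ.range * Nat.card R) := by
          rw [hψmul, hO]; exact hbig
        rw [hO126, hR5] at h1
        rcases Nat.le.dest hr24 with ⟨d, hd⟩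
        have : 12 < Nat.card ψ.range := by omega
        obtain ⟨t, ht⟩ := hψr
        rcases t with _ | _ | t
        · simp at ht
        · omega
        · nlinarith
      have hsurj : Function.Surjective ψ :=
        MonoidHom.range_eq_top.1 (Subgroup.eq_top_of_card_eq _ (by rw [h24', h24]))
      obtain ⟨u, hu⟩ := IsCyclic.exists_ofOrder_eq_natCard (α := Fˣ)
      obtain ⟨x, hx⟩ := hsurj u
      refine meets_root_five hF Φ hRP hR5 (x := x.1.1) (a := (u : F)) ?_ ?_ fun g hg => ?_
      · rw [← hx]; exact (eig_spec Φ ⟨x.1.1, x.2⟩).2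
      · rw [orderOf_units, hu, h24]
      · have hk : (x * ⟨⟨g, hRH hg⟩, hRS hg⟩ * x⁻¹ : St) ∈ ψ.ker :=
          (MonoidHom.normal_ker ψ).conj_mem _ ((mem_eig_ker Φ).2 (hRP hg)) x
        rw [← hReq]
        exact ⟨H.mul_mem (H.mul_mem x.1.2 (hRH hg)) (H.inv_mem x.1.2), (mem_eig_ker Φ).1 hk⟩
  have hroot : rootSet Φ ⊆ H := root_subset hF Φ (hRH hgR) hg hg1
  apply hH
  rw [eq_top_iff, ← tGroup_eq_top (F := F) hF (by norm_num : 1 ≤ 3) (by norm_num), tGroup,
    Subgroup.closure_le]
  rintro A ⟨w, c, hw, hA⟩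
  rcases eq_tv_or_one hF hw hA with rfl | ⟨hc, rfl, hw0⟩
  · exact one_mem _
  obtain ⟨h, hhH, hh'⟩ := htrans (mkLine w hw0 hw)
  rw [Frame.line, smul_mkLine] at hh'
  obtain ⟨a, ha0, ha⟩ := mkLine_eq hh'.symm
  have hc' : c * (a * a ^ 5) + (c * (a * a ^ 5)) ^ 5 = 0 := by
    have hn : (a * a ^ 5) ^ 5 = a * a ^ 5 := by rw [mul_pow, pow_q_q hF]; ring
    rw [mul_pow, hn]
    linear_combination (a * a ^ 5) * hc
  have hmem := hroot (tv_mem_root hF Φ _ hc')
  have e : tv hF w c hw hc = h * tv hF Φ.e _ Φ.ee hc' * h⁻¹ := by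
    refine su_ext fun x => ?_
    rw [act_mul, act_mul, tv_act, tv_act, act_add, act_smul, act_act_inv, ha]
    have : hh x (act h Φ.e) = hh (act h⁻¹ x) Φ.e := by
      conv_lhs => rw [← act_act_inv h x]
      rw [herm_act]
    rw [herm_smul_right, this, smul_smul]
    congr 2
    ring
  rw [e]
  exact H.mul_mem (H.mul_mem hhH hmem) (H.inv_mem hhH)

end Cfsg.Agent.U35MinIndexBound
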