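import Mathlib
import Cfsg.Agent.Lib.MinIndexUnit19Trans
import Cfsg.Agent.Lib.MinIndexUnit19Act
import Cfsg.Agent.Lib.MinIndexPSU3Cases89
import Cfsg.Agent.Lib.U35MinIndexBound

/-!
Small actions of the group of a three-dimensional nondegenerate subspace, through an orthonormal
basis and the minimal index of the three-dimensional unitary groups.
-/

set_option autoImplicit false

namespace Cfsg.Agent.MinIndexPSUBase55

open Cfsg Cfsg.Agent.OrthUnitaryHerm Cfsg.Agent.OrthUnitaryTransvection
  Cfsg.Agent.SUMinDegree32Geom Cfsg.Agent.MinIndexUnit19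
open scoped Matrix commutatorElement

variable {F : Type*} [Field F] [Fintype F] {q n : ℕ}

variable (hF : Fintype.card F = q ^ 2)
include hF

/-- The bound on indices in dimension three, without hypothesis on the centre. -/
theorem su3_top (hq : 3 ≤ q) {B : ℕ} (hB : (q ≠ 5 ∧ B ≤ q ^ 3 + 1) ∨ (q = 5 ∧ B ≤ 50))
    (H : Subgroup (SU 3 F q)) (hH : H.index < B) : H = ⊤ := by
  set H' := H ⊔ Subgroup.center (SU 3 F q) with hH'
  have hle : H'.index ≤ H.index :=
    Nat.le_of_dvd (Nat.pos_of_ne_zero Subgroup.index_ne_zero_of_finite)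
      (Subgroup.index_dvd_of_le le_sup_left)
  have htop : H' = ⊤ := by
    by_contra hne
    rcases hB with ⟨h5, hB⟩ | ⟨h5, hB⟩
    · have := MinIndexPSU3Cases89.index_ge hF H' hq h5 le_sup_right hne
      omega
    · subst h5
      have := U35MinIndexBound.card_ge hF H' hne
      omega
  rw [eq_top_iff, ← tGroup_eq_top (F := F) (n := 3) hF (by norm_num) (by omega), tGroup,
    Subgroup.closure_le]
  rintro A ⟨v, c, hv, hA⟩
  rcases eq_tv_or_one hF hv hA with rfl | ⟨hc, rfl, -⟩
  · exact one_mem _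
  obtain ⟨g, k, hgk⟩ := exists_commutator hF le_rfl v c hv hc
  rw [← hgk, SetLike.mem_coe]
  have hmem : ∀ x : SU 3 F q, ∃ h ∈ H, ∃ z ∈ Subgroup.center (SU 3 F q), x = h * z := fun x => by
    have hx : x ∈ H' := htop ▸ Subgroup.mem_top x
    rw [hH'] at hx
    obtain ⟨h, hh, z, hz, e⟩ := Subgroup.mem_sup_of_normal_right.1 hx
    exact ⟨h, hh, z, hz, e.symm⟩
  obtain ⟨h₁, hh₁, z₁, hz₁, rfl⟩ := hmem g
  obtain ⟨h₂, hh₂, z₂, hz₂, rfl⟩ := hmem k
  have : ⁅h₁ * z₁, h₂ * z₂⁆ = ⁅h₁, h₂⁆ := by
    have c1 := fun x => Subgroup.mem_center_iff.1 hz₁ x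
    have c2 := fun x => Subgroup.mem_center_iff.1 hz₂ x
    simp only [commutatorElement_def, mul_inv_rev]
    calc h₁ * z₁ * (h₂ * z₂) * (z₁⁻¹ * h₁⁻¹) * (z₂⁻¹ * h₂⁻¹)
        = h₁ * ((z₁ * (h₂ * z₂)) * z₁⁻¹) * h₁⁻¹ * (z₂⁻¹ * h₂⁻¹) := by group
      _ = h₁ * (h₂ * z₂) * h₁⁻¹ * (z₂⁻¹ * h₂⁻¹) := by
          rw [← c1 (h₂ * z₂), mul_inv_cancel_right]
      _ = h₁ * h₂ * (z₂ * h₁⁻¹ * z₂⁻¹) * h₂⁻¹ := by group
      _ = _ := by rw [← c2 h₁⁻¹, mul_inv_cancel_right]
  rw [this, commutatorElement_def]
  exact H.mul_mem (H.mul_mem (H.mul_mem hh₁ hh₂) (H.inv_mem hh₁)) (H.inv_mem hh₂)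

/-! ### An orthonormal basis -/

theorem exists_on_basis (W : Submodule F (Fin n → F)) (hW : Nondeg q W)
    (hd : Module.finrank F W = 3) :
    ∃ u : Fin 3 → Fin n → F, (∀ i, u i ∈ W) ∧
      (∀ i j, hermForm n F q (u i) (u j) = if i = j then 1 else 0) ∧
      ∀ w ∈ W, w = ∑ i, hermForm n F q w (u i) • u i := by
  classical
  have hne : ∀ V : Submodule F (Fin n → F), 1 ≤ Module.finrank F V → V ≠ ⊥ := fun V h hb => by
    rw [hb, finrank_bot] at h; omega
  obtain ⟨a, ha, haa⟩ := exists_norm_in hF hW (hne W (by omega)) (one_pow q) one_ne_zero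
  have hW1 := nondeg_uPerp hF hW ha (haa ▸ one_ne_zero)
  set W1 := W ⊓ LinearMap.ker (hermL q a)
  have hd1 : 2 ≤ Module.finrank F W1 := by
    have := finrank_uPerp (q := q) (W := W) a
    change Module.finrank F W ≤ Module.finrank F W1 + 1 at this
    omega
  obtain ⟨b, hb, hbb⟩ := exists_norm_in hF hW1 (hne W1 (by omega)) (one_pow q) one_ne_zero
  have hW2 := nondeg_uPerp hF hW1 hb (hbb ▸ one_ne_zero)
  set W2 := W1 ⊓ LinearMap.ker (hermL q b)
  have hd2 : 1 ≤ Module.finrank F W2 := by
    have := finrank_uPerp (q := q) (W := W1) b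
    change Module.finrank F W1 ≤ Module.finrank F W2 + 1 at this
    omega
  obtain ⟨c, hc, hcc⟩ := exists_norm_in hF hW2 (hne W2 hd2) (one_pow q) one_ne_zero
  obtain ⟨hbW, hba⟩ := mem_uPerp.1 hb
  obtain ⟨hc1, hcb⟩ := mem_uPerp.1 hc
  obtain ⟨hcW, hca⟩ := mem_uPerp.1 hc1
  have hu : ∀ i, ![a, b, c] i ∈ W := by intro i; fin_cases i <;> assumption
  have hon : ∀ i j, hermForm n F q (![a, b, c] i) (![a, b, c] j) = if i = j then 1 else 0 := by
    intro i j
    fin_cases i <;> fin_cases j <;>
      simp [haa, hbb, hcc, hba, hca, hcb, herm_skew_zero hF hba, herm_skew_zero hF hca,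
        herm_skew_zero hF hcb]
  refine ⟨![a, b, c], hu, hon, fun w hw => ?_⟩
  have hli : LinearIndependent F (fun i => (⟨![a, b, c] i, hu i⟩ : W)) := by
    rw [Fintype.linearIndependent_iff]
    intro g hg i
    have h' : ∑ j, g j • ![a, b, c] j = 0 := by
      have := congrArg Subtype.val hg
      simpa using this
    have h2 := congrArg (fun x => hermForm n F q x (![a, b, c] i)) h'
    fin_cases i <;>
      simpa [Fin.sum_univ_three, herm_add_left, herm_smul_left, haa, hbb, hcc, hba, hca, hcb,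
        herm_skew_zero hF hba, herm_skew_zero hF hca, herm_skew_zero hF hcb, herm_zero_left]
        using h2
  have hspan := hli.span_eq_top_of_card_eq_finrank (by rw [Fintype.card_fin, hd])
  obtain ⟨g, hg⟩ := (Submodule.mem_span_range_iff_exists_fun F).1
    (hspan ▸ Submodule.mem_top (x := (⟨w, hw⟩ : W)))
  have hg' : ∑ j, g j • ![a, b, c] j = w := by
    have := congrArg Subtype.val hg
    simpa using this
  rw [Fin.sum_univ_three] at hg'
  simp only [Matrix.cons_val_zero, Matrix.cons_val_one, Matrix.cons_val_two,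
    Matrix.head_cons, Matrix.tail_cons] at hg'
  rw [Fin.sum_univ_three, ← hg']
  simp [herm_add_left, herm_smul_left, haa, hbb, hcc, hba, hca, hcb, herm_skew_zero hF hba,
    herm_skew_zero hF hca, herm_skew_zero hF hcb]

/-! ### The embedding -/

variable (u : Fin 3 → Fin n → F)

/-- The matrix of the columns of `u`. -/
def colMat : Matrix (Fin n) (Fin 3) F := Matrix.of fun i j => u j i

/-- Its adjoint. -/
def rowMat (q : ℕ) : Matrix (Fin 3) (Fin n) F := Matrix.of fun j i => u j i ^ q

omit [Fintype F] hF in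
theorem rowMat_mulVec (x : Fin n → F) : rowMat u q *ᵥ x = fun j => hermForm n F q x (u j) :=
  funext fun j => by
    show ∑ i, u j i ^ q * x i = ∑ i, x i * u j i ^ q
    exact Finset.sum_congr rfl fun _ _ => mul_comm _ _

omit [Fintype F] hF in
theorem colMat_mulVec (y : Fin 3 → F) : colMat u *ᵥ y = ∑ j, y j • u j := by
  funext i
  simp [colMat, Matrix.mulVec, dotProduct, Finset.sum_apply, mul_comm]

/-- The extension of a matrix by the identity off the span of `u`. -/
def embMat (q : ℕ) (A : Matrix (Fin 3) (Fin 3) F) : Matrix (Fin n) (Fin n) F :=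
  1 + colMat u * ((A - 1) * rowMat u q)

omit [Fintype F] hF in
theorem embMat_mulVec (A : Matrix (Fin 3) (Fin 3) F) (x : Fin n → F) :
    embMat u q A *ᵥ x = x + ∑ j, (A *ᵥ (fun i => hermForm n F q x (u i)) -
      fun i => hermForm n F q x (u i)) j • u j := by
  rw [embMat, Matrix.add_mulVec, Matrix.one_mulVec, ← Matrix.mulVec_mulVec,
    ← Matrix.mulVec_mulVec, rowMat_mulVec, colMat_mulVec, Matrix.sub_mulVec, Matrix.one_mulVec]

variable {u} (hon : ∀ i j, hermForm n F q (u i) (u j) = if i = j then 1 else 0)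
include hon

omit [Fintype F] hF in
theorem row_col : rowMat u q * colMat u = 1 := by
  ext i j
  rw [Matrix.mul_apply, Matrix.one_apply]
  have := hon j i
  simp only [rowMat, colMat, Matrix.of_apply]
  rw [hermForm] at this
  simp only [eq_comm (a := i)]
  rw [← this]
  exact Finset.sum_congr rfl fun _ _ => mul_comm _ _

omit [Fintype F] hF in
theorem embMat_mul (A B : Matrix (Fin 3) (Fin 3) F) :
    embMat u q (A * B) = embMat u q A * embMat u q B := by
  have h : colMat u * ((A - 1) * rowMat u q) * (colMat u * ((B - 1) * rowMat u q)) =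
      colMat u * ((A - 1) * (B - 1) * rowMat u q) := by
    simp only [Matrix.mul_assoc]
    rw [← Matrix.mul_assoc (rowMat u q) (colMat u), row_col hon, Matrix.one_mul]
  simp only [embMat, Matrix.add_mul, Matrix.mul_add, Matrix.one_mul, Matrix.mul_one]
  rw [h, add_assoc]
  congr 1
  rw [← Matrix.mul_add, ← Matrix.mul_add, ← Matrix.add_mul, ← Matrix.add_mul]
  congr 2
  simp only [Matrix.sub_mul, Matrix.mul_sub, Matrix.one_mul, Matrix.mul_one]
  abel

theorem embMat_isU {A : Matrix (Fin 3) (Fin 3) F} (hA : IsU q A) : IsU q (embMat u q A) := by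
  intro x y
  rw [embMat_mulVec, embMat_mulVec]
  have hx := hA (fun i => hermForm n F q x (u i)) (fun i => hermForm n F q y (u i))
  simp only [hermForm.eq_def (n := 3), Fin.sum_univ_three] at hx
  simp only [Fin.sum_univ_three, herm_add_left, herm_add_right hF, herm_smul_left, herm_smul_right,
    hon, Fin.reduceEq, if_false, if_true, Pi.sub_apply, sub_pow_q hF, ← herm_conj hF y,
    mul_zero, mul_one, add_zero, zero_add]
  simp only [← herm_conj hF y] at hx
  linear_combination hx

omit [Fintype F] hF in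
theorem embMat_det (A : Matrix (Fin 3) (Fin 3) F) : (embMat u q A).det = A.det := by
  rw [embMat, Matrix.det_one_add_mul_comm, Matrix.mul_assoc, row_col hon, Matrix.mul_one,
    add_sub_cancel]

/-- The embedding of the three-dimensional group. -/
noncomputable def embHom {W : Submodule F (Fin n → F)} (hu : ∀ i, u i ∈ W) :
    SU 3 F q →* GS q W where
  toFun g := ⟨mkSU (embMat u q g.1.1) (by rw [embMat_det hon]; exact g.1.2)
    (embMat_isU hF hon (isU_of_mem_SU g)), fun x hx => by
      show embMat u q g.1.1 *ᵥ x = x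
      rw [embMat_mulVec, show (fun i => hermForm n F q x (u i)) = 0 from
        funext fun i => hx _ (hu i), Matrix.mulVec_zero, sub_zero]
      simp⟩
  map_one' := Subtype.ext (Subtype.ext (Subtype.ext (by
    show embMat u q 1 = 1
    rw [embMat, sub_self, Matrix.zero_mul, Matrix.mul_zero, add_zero])))
  map_mul' g k := Subtype.ext (Subtype.ext (Subtype.ext (embMat_mul hon _ _)))

omit hon in
/-- Root groups of a three-dimensional space are trivial on few points. -/
theorem small_three (hq : 3 ≤ q) {B : ℕ} (hB : (q ≠ 5 ∧ B ≤ q ^ 3 + 1) ∨ (q = 5 ∧ B ≤ 50))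
    {W : Submodule F (Fin n → F)} (hW : Nondeg q W) (hd : Module.finrank F W = 3) :
    Small hF W B := by
  obtain ⟨u, hu, hon, hbasis⟩ := exists_on_basis hF W hW hd
  intro k hk ρ e heW he r
  set φ := embHom hF hon hu
  set y : Fin 3 → F := fun i => hermForm n F q e (u i) with hy
  have hey : e = ∑ i, y i • u i := hbasis e heW
  have hyy : hermForm 3 F q y y = 0 := by
    have h1 := he
    rw [hey] at h1
    simp only [Fin.sum_univ_three, herm_add_left, herm_add_right hF, herm_smul_left,
      herm_smul_right, hon, Fin.reduceEq, if_false, if_true, mul_zero, mul_one, add_zero,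
      zero_add] at h1
    simp only [hermForm.eq_def (n := 3), Fin.sum_univ_three]
    linear_combination h1
  have hlift : φ (T hF y hyy r) = Tg hF heW he r := by
    refine Subtype.ext (su_ext fun x => ?_)
    show embMat u q (T hF y hyy r).1.1 *ᵥ x = act (T hF e he r) x
    rw [embMat_mulVec, T_act]
    congr 1
    have hT := T_act hF y hyy r (fun i => hermForm n F q x (u i))
    simp only [act] at hT
    rw [hT]
    have hxe : hermForm n F q x e = hermForm 3 F q (fun i => hermForm n F q x (u i)) y := by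
      conv_lhs => rw [hey]
      simp only [Fin.sum_univ_three, herm_add_right hF, herm_smul_right,
        hermForm.eq_def (n := 3)]
      ring
    rw [hxe]
    conv_rhs => rw [hey]
    simp only [add_sub_cancel_left, Pi.smul_apply, smul_eq_mul, Finset.smul_sum, smul_smul]
  refine Equiv.ext fun α => ?_
  let I : MulAction (SU 3 F q) (Fin k) := MulAction.compHom (Fin k) (ρ.comp φ)
  have hidx : (MulAction.stabilizer (SU 3 F q) α).index < B := by
    rw [MulAction.index_stabilizer, ← Nat.card_coe_set_eq]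
    exact lt_of_le_of_lt ((Finite.card_subtype_le _).trans (by simp)) hk
  have hmem : T hF y hyy r ∈ MulAction.stabilizer (SU 3 F q) α := by
    rw [su3_top hF hq hB _ hidx]; exact Subgroup.mem_top _
  have h : ρ (φ (T hF y hyy r)) α = α := hmem
  rw [hlift] at h
  exact h

end Cfsg.Agent.MinIndexPSUBase55
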