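import Mathlib
import Cfsg.Agent.Lib.MinIndexUnit19Basic

/-!
The inductive step, part 1: a point moved by a root group lies in a regular orbit of the
Heisenberg group, and a point fixed by a root group is fixed by the Heisenberg group.
-/

set_option autoImplicit false

namespace Cfsg.Agent.MinIndexUnit19

open Cfsg Cfsg.Agent.OrthUnitaryHerm Cfsg.Agent.OrthUnitaryTransvection
  Cfsg.Agent.SUMinDegree32Geom

variable {F : Type*} [Field F] [Fintype F] {q n : ℕ}
variable {W : Submodule F (Fin n → F)} {e f : Fin n → F}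

local notation "⟪" x ", " y "⟫" => hermForm n F q x y

/-- The additive map `x ↦ a • g x`. -/
def scaleHom (a : F) (g : SU n F q) : (Fin n → F) →+ (Fin n → F) :=
  AddMonoidHom.mk' (fun x => a • act g x) fun x y => by
    show a • act g (x + y) = _
    rw [act_add, smul_add]

variable (hF : Fintype.card F = q ^ 2)
include hF

/-- The images of an additive subgroup under the group of `W` and the nonzero fixed scalars. -/
noncomputable def imgsT (W : Submodule F (Fin n → F)) (S : AddSubgroup (Fin n → F)) :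
    Set (AddSubgroup (Fin n → F)) :=
  Set.range fun p : GS q W × {a : fixedSet hF // a ≠ 0} =>
    S.map (scaleHom (p.2.1 : F) (p.1 : SU n F q))

/-- Invariance under the root groups at its own isotropic vectors. -/
def ClosedS (S : AddSubgroup (Fin n → F)) : Prop :=
  ∀ u ∈ S, hermForm n F q u u = 0 → InvAt hF S u

/-- The lower bound for proper closed subgroups. -/
def Geo (W : Submodule F (Fin n → F)) (X : ℕ) : Prop :=
  ∀ S : AddSubgroup (Fin n → F), (∀ s ∈ S, s ∈ W) → (∃ x ∈ W, x ∉ S) → ClosedS hF S →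
    q ^ 2 * X * Nat.card S ≤ Nat.card W * Nat.card (imgsT hF W S)

/-- The hypotheses of the inductive step. -/
structure StepHyp (W : Submodule F (Fin n → F)) (m B X C : ℕ) : Prop where
  nondeg : Nondeg q W
  dim : Module.finrank F W = m + 2
  four : 4 ≤ m
  small : ∀ e f, HP q W e f → Small hF (pairPerp q W e f) B
  geo : ∀ e f, HP q W e f → Geo hF (pairPerp q W e f) X
  qlt : q < B ∨ q = 2
  c1 : C ≤ B * q ^ (m + 1)
  c2 : C ≤ (q + 1) * q ^ (2 * m)
  c3 : C ≤ 2 * q ^ (2 * m + 1)
  c4 : C ≤ q ^ (2 * m + 1) + q ^ 2 * X ∨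
    (C = q ^ (2 * m + 1) + q ^ 2 * X + 1 ∧ C = isoN q (m + 2))

variable {m B X C : ℕ} {M : Type*} [MulAction (GS q W) M]

theorem StepHyp.dimW' (H : StepHyp hF W m B X C) (hP : HP q W e f) :
    Module.finrank F (pairPerp q W e f) = m := by
  have := hP.finrank hF
  have := H.dim
  omega

theorem StepHyp.cardW' (H : StepHyp hF W m B X C) (hP : HP q W e f) :
    Nat.card (pairPerp q W e f) = q ^ (2 * m) := by
  rw [card_submodule hF, H.dimW' hF hP]

theorem orbit_mul_SS (H : StepHyp hF W m B X C) (hP : HP q W e f) (α : M) :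
    Nat.card (MulAction.orbit (Qg hF hP) α) * Nat.card (SS hF hP α) =
      q ^ (2 * m) * (PP hF hP.eW hP.ee α).index := by
  have h1 := card_orbit_mul hF hP α
  have h2 := AddSubgroup.card_mul_index (PP hF hP.eW hP.ee α)
  rw [card_fixedSet hF] at h2
  rw [H.cardW' hF hP] at h1
  refine Nat.eq_of_mul_eq_mul_right (m := Nat.card (PP hF hP.eW hP.ee α)) Nat.card_pos ?_
  rw [mul_assoc, h1, mul_assoc, mul_comm (AddSubgroup.index _), h2]

theorem card_SS_le (H : StepHyp hF W m B X C) (hP : HP q W e f) {α : M}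
    (hP' : PP hF hP.eW hP.ee α ≠ ⊤) : Nat.card (SS hF hP α) ≤ q ^ m := by
  have h := (isot_SS hF hP α).card_sq_le hF (hP.nondeg hF H.nondeg) hP' (SS_le hF hP α)
  rw [H.cardW' hF hP, mul_comm 2 m, pow_mul] at h
  exact (Nat.pow_le_pow_iff_left two_ne_zero).1 h

/-- Many points share the root stabiliser of a moved point. -/
theorem moved_class [Finite M] (H : StepHyp hF W m B X C) (hP : HP q W e f) (α : M)
    (hmv : PP hF hP.eW hP.ee α ≠ ⊤) :
    SS hF hP α = ⊥ ∨ B * q ^ m * (PP hF hP.eW hP.ee α).index ≤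
      Nat.card {β : M // PP hF hP.eW hP.ee β = PP hF hP.eW hP.ee α} := by
  classical
  set P := PP hF hP.eW hP.ee α with hPdef
  set S := SS hF hP α with hSdef
  set T := Set.range fun g : GS q (pairPerp q W e f) => imgS (g : SU n F q) S with hT
  have hq := two_le_q hF
  by_cases hfew : Nat.card T < B
  · left
    by_contra hne
    have hmem := mem_of_rootInv hF (hP.nondeg hF H.nondeg)
      (by rw [H.dimW' hF hP]; have := H.four; omega) (SS_le hF hP α) hne
      fun u huW hu => invAt_of_few hF (H.small e f hP) hfew huW hu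
    have h1 : Nat.card (pairPerp q W e f) ≤ Nat.card S :=
      Nat.card_le_card_of_injective (fun x => (⟨(x : Fin n → F), hmem _ x.2⟩ : S))
        fun a b h => Subtype.ext (congrArg Subtype.val h :)
    have h2 : Nat.card S ≤ q ^ m := card_SS_le hF H hP hmv
    rw [H.cardW' hF hP] at h1
    have h3 : q ^ m < q ^ (2 * m) :=
      Nat.pow_lt_pow_right (by omega) (by have := H.four; omega)
    omega
  · right
    push Not at hfew
    have hidx : 0 < P.index := Nat.pos_of_ne_zero AddSubgroup.index_ne_zero_of_finite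
    let s : Set M := {β | PP hF hP.eW hP.ee β = P}
    have key := card_mul_le_of_fibres s (SS hF hP) T (c := q ^ m * P.index)
      (Nat.mul_pos (Nat.pow_pos (by omega)) hidx) (by
      rintro Y ⟨g, rfl⟩
      have hPg : PP hF hP.eW hP.ee (levi g • α) = P := PP_levi hF hP g α
      have hSg : SS hF hP (levi g • α) = imgS (g : SU n F q) S := SS_levi hF H.nondeg hP g α
      refine le_trans ?_ (Nat.card_le_card_of_injective
        (fun β : MulAction.orbit (Qg hF hP) (levi g • α) =>
          (⟨(β : M), ?_⟩ : {x : M | x ∈ s ∧ SS hF hP x = imgS (g : SU n F q) S}))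
        fun a b h => Subtype.ext (congrArg Subtype.val h :))
      · have h1 := orbit_mul_SS hF H hP (levi g • α)
        rw [hPg] at h1
        refine Nat.le_of_mul_le_mul_right
          (c := Nat.card (SS hF hP (levi g • α))) ?_ Nat.card_pos
        rw [h1]
        refine le_trans (Nat.mul_le_mul_left _ (card_SS_le hF H hP (by rw [hPg]; exact hmv))) ?_
        rw [mul_right_comm, ← pow_add, two_mul]
      · obtain ⟨ξ, hξ⟩ := β.2
        rw [← hξ]
        refine ⟨?_, ?_⟩
        · show PP hF hP.eW hP.ee ((ξ : GS q W) • (levi g • α)) = P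
          rw [PP_orbit hF hP ξ.2, hPg]
        · show SS hF hP ((ξ : GS q W) • (levi g • α)) = _
          rw [SS_orbit hF hP ξ.2, hSg])
    calc B * q ^ m * P.index = B * (q ^ m * P.index) := mul_assoc _ _ _
      _ ≤ Nat.card T * (q ^ m * P.index) := Nat.mul_le_mul_right _ hfew
      _ ≤ Nat.card s := key
      _ = _ := rfl

theorem class_bound [Finite M] (H : StepHyp hF W m B X C) (hP : HP q W e f) (α : M)
    (hmv : PP hF hP.eW hP.ee α ≠ ⊤) :
    min (B * q ^ m) (q ^ (2 * m)) * (PP hF hP.eW hP.ee α).index ≤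
      Nat.card {β : M // PP hF hP.eW hP.ee β = PP hF hP.eW hP.ee α} := by
  rcases moved_class hF H hP α hmv with h | h
  · refine le_trans (Nat.mul_le_mul_right _ (min_le_right _ _)) ?_
    have h1 := orbit_mul_SS hF H hP α
    rw [h, AddSubgroup.card_bot, mul_one] at h1
    rw [← h1]
    refine Nat.card_le_card_of_injective (fun β : MulAction.orbit (Qg hF hP) α =>
      (⟨(β : M), ?_⟩ : {β : M // PP hF hP.eW hP.ee β = PP hF hP.eW hP.ee α}))
      fun a b hab => Subtype.ext (congrArg Subtype.val hab :)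
    obtain ⟨ξ, hξ⟩ := β.2
    rw [← hξ]
    exact PP_orbit hF hP ξ.2 α
  · exact le_trans (Nat.mul_le_mul_right _ (min_le_left _ _)) h

/-- A moved point has trivial stabiliser in the Heisenberg group. -/
theorem moved_free [Finite M] (H : StepHyp hF W m B X C) (hk : Nat.card M < C)
    (hP : HP q W e f) (α : M) (hmv : PP hF hP.eW hP.ee α ≠ ⊤) :
    PP hF hP.eW hP.ee α = ⊥ ∧ SS hF hP α = ⊥ := by
  classical
  have hq := two_le_q hF
  set P := PP hF hP.eW hP.ee α with hPdef
  have hPbot : P = ⊥ := by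
    by_contra hne
    have hne' : pairPerp q W e f ≠ ⊥ := fun h => by
      have := H.dimW' hF hP
      rw [h, finrank_bot] at this
      have := H.four
      omega
    have hB : 0 < B := Nat.pos_of_ne_zero fun hB => by
      subst hB
      have := H.c1
      omega
    let T := Set.range fun a : {a : fixedSet hF // a ≠ 0} => scaleP hF a.1 P
    have key := card_mul_le_of_fibres (Set.univ : Set M) (PP hF hP.eW hP.ee) T
      (c := min (B * q ^ m) (q ^ (2 * m)) * P.index)
      (Nat.mul_pos (lt_min (Nat.mul_pos hB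
        (Nat.pow_pos (by omega))) (Nat.pow_pos (by omega)))
        (Nat.pos_of_ne_zero AddSubgroup.index_ne_zero_of_finite)) (by
      rintro Y ⟨⟨a, ha⟩, rfl⟩
      obtain ⟨t, ht⟩ := exists_norm_eq hF a.2
      rw [pow_succ] at ht
      have ht0 : t ≠ 0 := fun h0 => ha (Subtype.ext (by rw [← ht, h0, mul_zero]; rfl))
      obtain ⟨g, hg⟩ := exists_scale hF H.nondeg hP hne' ht0
      have hPg : PP hF hP.eW hP.ee (g • α) = scaleP hF a P := by
        rw [PP_smul hF hP.eW hP.ee ht0 hg α]
        congr 1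
        exact Subtype.ext ht
      have hidx : (scaleP hF a P).index = P.index := by
        have h1 := AddSubgroup.card_mul_index (scaleP hF a P)
        have h2 := AddSubgroup.card_mul_index P
        rw [card_scaleP hF ha] at h1
        exact Nat.eq_of_mul_eq_mul_left Nat.card_pos (h1.trans h2.symm)
      have hb := class_bound hF H hP (g • α) (by
        intro htop
        rw [hPg] at htop
        rw [htop, AddSubgroup.index_top] at hidx
        exact hmv (AddSubgroup.index_eq_one.1 hidx.symm))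
      rw [hPg, hidx] at hb
      refine hb.trans (le_of_eq (Nat.card_congr (Equiv.subtypeEquivRight fun β => ?_)))
      simp)
    rw [Nat.card_univ] at key
    have h2 : q + 1 ≤ P.index * Nat.card T := succ_le_index_mul_scaleP hF hne hmv
    have h3 : (q + 1) * min (B * q ^ m) (q ^ (2 * m)) ≤ Nat.card M :=
      le_trans (le_of_le_of_eq (Nat.mul_le_mul_right _ h2) (by ring)) key
    have h4 : C ≤ (q + 1) * min (B * q ^ m) (q ^ (2 * m)) := by
      rw [← Nat.mul_min_mul_left]
      refine le_min (H.c1.trans ?_) H.c2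
      rw [pow_succ, ← mul_assoc, mul_comm]
      exact Nat.mul_le_mul_right _ (by omega)
    omega
  refine ⟨hPbot, ?_⟩
  rcases moved_class hF H hP α hmv with h | h
  · exact h
  · exfalso
    rw [← hPdef, hPbot, AddSubgroup.index_bot, card_fixedSet hF, mul_assoc, ← pow_succ] at h
    have := H.c1
    have := h.trans (Finite.card_subtype_le _)
    omega

theorem card_orbit_moved [Finite M] (H : StepHyp hF W m B X C) (hk : Nat.card M < C)
    (hP : HP q W e f) (α : M) (hmv : PP hF hP.eW hP.ee α ≠ ⊤) :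
    Nat.card (MulAction.orbit (Qg hF hP) α) = q ^ (2 * m + 1) := by
  obtain ⟨h1, h2⟩ := moved_free hF H hk hP α hmv
  have h := orbit_mul_SS hF H hP α
  rw [h1, h2, AddSubgroup.card_bot, mul_one, AddSubgroup.index_bot, card_fixedSet hF] at h
  rw [h, ← pow_succ]

theorem moved_one_orbit [Finite M] (H : StepHyp hF W m B X C) (hk : Nat.card M < C)
    (hP : HP q W e f) (α : M) (hmv : PP hF hP.eW hP.ee α ≠ ⊤) (β : M)
    (hmv' : PP hF hP.eW hP.ee β ≠ ⊤) : β ∈ MulAction.orbit (Qg hF hP) α := by
  by_contra hne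
  have hdis : Disjoint (MulAction.orbit (Qg hF hP) α) (MulAction.orbit (Qg hF hP) β) := by
    rw [Set.disjoint_left]
    intro x hx hx'
    apply hne
    rw [← MulAction.orbit_eq_iff.2 hx, MulAction.orbit_eq_iff.2 hx']
    exact MulAction.mem_orbit_self β
  have h1 : (MulAction.orbit (Qg hF hP) α ∪ MulAction.orbit (Qg hF hP) β).ncard ≤ Nat.card M := by
    rw [← Set.ncard_univ M]
    exact Set.ncard_le_ncard (Set.subset_univ _) (Set.toFinite _)
  rw [Set.ncard_union_eq hdis (Set.toFinite _) (Set.toFinite _), ← Nat.card_coe_set_eq,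
    ← Nat.card_coe_set_eq, card_orbit_moved hF H hk hP α hmv,
    card_orbit_moved hF H hk hP β hmv'] at h1
  have := H.c3
  omega

theorem card_zfix_add [Finite M] (H : StepHyp hF W m B X C) (hk : Nat.card M < C)
    (hP : HP q W e f) (α : M) (hmv : PP hF hP.eW hP.ee α ≠ ⊤) :
    Nat.card {β : M // ZFix hF hP.eW hP.ee β} + q ^ (2 * m + 1) = Nat.card M := by
  classical
  rw [← card_orbit_moved hF H hk hP α hmv, ← Nat.card_sum]
  refine Nat.card_congr (((Equiv.refl _).sumCongr (Equiv.subtypeEquivRight fun β => ?_)).trans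
    (Equiv.sumCompl fun β => ZFix hF hP.eW hP.ee β))
  rw [zfix_iff]
  refine ⟨fun h => ?_, fun h => moved_one_orbit hF H hk hP α hmv β h⟩
  obtain ⟨ξ, hξ⟩ := h
  rw [← hξ]
  show PP hF hP.eW hP.ee ((ξ : GS q W) • α) ≠ ⊤
  rwa [PP_orbit hF hP ξ.2]

/-- An isotropic stabiliser parameter of a fixed point fixes it. -/
theorem zfix_of_mem_SS [Finite M] (H : StepHyp hF W m B X C) (hk : Nat.card M < C)
    (hP : HP q W e f) {α : M} (hfix : ZFix hF hP.eW hP.ee α) {u : Fin n → F}
    (hu : u ∈ SS hF hP α) (huu : ⟪u, u⟫ = 0) (huW : u ∈ W) : ZFix hF huW huu α := by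
  by_cases hu0 : u = 0
  · subst hu0
    intro r
    rw [show Tg hF huW huu r = 1 from Subtype.ext (su_ext fun x => by
      show act (T hF 0 huu r) x = _
      rw [T_act, smul_zero, add_zero]; exact (act_one x).symm), one_smul]
  obtain ⟨hu', μ, hμ, hμfix⟩ := hu
  -- the parameter `μ` may be taken zero
  have h0 : (0 : F) + 0 ^ q + ⟪u, u⟫ = 0 := by rw [zero_pow_q hF, huu, add_zero, add_zero]
  obtain ⟨r, hr⟩ := exists_eq_c0_mul hF (c := μ) (by rw [huu, add_zero] at hμ; exact hμ)
  obtain ⟨h1, t1⟩ := Tg_eq_Qel hF hP r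
  obtain ⟨h2, m1⟩ := Qel_mul hF hP hu' h0 (Submodule.zero_mem _) h1
  have hfix0 : Qel hF hP hu' h0 • α = α := by
    have hm : Qel hF hP hu' h0 * Tg hF hP.eW hP.ee r = Qel hF hP hu' hμ := by
      rw [t1, m1]
      exact Qel_congr hF hP _ _ _ _ (add_zero u) (by rw [herm_zero_left, sub_zero, zero_add, hr])
    rw [← hm, mul_smul, hfix r] at hμfix
    exact hμfix
  -- read it in a Heisenberg group at `u`
  obtain ⟨g, hg⟩ := HP.exists_of_iso hF (hP.nondeg hF H.nondeg) hu' hu0 huu
  have hPu : HP q W u g := ⟨huW, pairPerp_le hg.fW, huu, hg.ff, hg.ef, hg.fe⟩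
  have hne : -e ∈ pairPerp q W u g := Submodule.neg_mem _
    (mem_pairPerp.2 ⟨hP.eW, e_perp hF hu', e_perp hF hg.fW⟩)
  have h0' : (0 : F) + 0 ^ q + ⟪-e, -e⟫ = 0 := by
    rw [zero_pow_q hF, herm_neg_left, herm_neg_right hF, hP.ee]; ring
  have hmem : -e ∈ SS hF hPu α := ⟨hne, 0, h0', by
    rw [show Qel hF hPu hne h0' = Qel hF hP hu' h0 from
      Subtype.ext (eich_exchange hF hP.ee huu (perp_e hu') h0 (perp_e hne) h0').symm]
    exact hfix0⟩
  by_contra hmv
  rw [zfix_iff] at hmv
  rw [(moved_free hF H hk hPu α hmv).2, AddSubgroup.mem_bot, neg_eq_zero] at hmem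
  exact hP.e_ne hmem

/-- A point fixed by a root group is fixed by the Heisenberg group, or there are many. -/
theorem fix_alt [Finite M] (H : StepHyp hF W m B X C) (hk : Nat.card M < C)
    (hP : HP q W e f) {α : M} (hfix : ZFix hF hP.eW hP.ee α) :
    (∀ x ∈ pairPerp q W e f, x ∈ SS hF hP α) ∨
      q ^ 2 * X ≤ Nat.card {β : M // ZFix hF hP.eW hP.ee β} := by
  classical
  by_contra hcon
  simp only [not_or, not_forall, not_le] at hcon
  obtain ⟨⟨x, hx, hxS⟩, hlt⟩ := hcon
  set S := SS hF hP α with hS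
  have hclosed : ClosedS hF S := by
    intro u huS huu
    have huW' : u ∈ pairPerp q W e f := SS_le hF hP α u huS
    refine (invAt_iff hF huu S).2 fun r s hs => ?_
    have hfu := zfix_of_mem_SS hF H hk hP hfix huS huu (pairPerp_le huW') r
    have h1 := SS_levi hF H.nondeg hP (Tg hF huW' huu r) α
    rw [show levi (Tg hF huW' huu r) = Tg hF (pairPerp_le huW') huu r from rfl, hfu, ← hS] at h1
    rw [h1]
    exact mem_imgS.2 ⟨s, hs, rfl⟩
  have hgeo := H.geo e f hP S (SS_le hF hP α) ⟨x, hx, hxS⟩ hclosed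
  have hne' : pairPerp q W e f ≠ ⊥ := fun h => by
    rw [h, Submodule.mem_bot] at hx
    exact hxS (hx ▸ S.zero_mem)
  set o := Nat.card (MulAction.orbit (Qg hF hP) α) with ho
  have hoS : o * Nat.card S = Nat.card (pairPerp q W e f) := by
    rw [ho, orbit_mul_SS hF H hP α, (zfix_iff hF).1 hfix, AddSubgroup.index_top, mul_one,
      H.cardW' hF hP]
  have key := card_mul_le_of_fibres {β : M | ZFix hF hP.eW hP.ee β} (SS hF hP)
    (imgsT hF (pairPerp q W e f) S) (c := o) (by
      have : Finite (MulAction.orbit (Qg hF hP) α) := inferInstance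
      have : Nonempty (MulAction.orbit (Qg hF hP) α) := ⟨⟨α, MulAction.mem_orbit_self α⟩⟩
      exact Nat.card_pos) (by
    rintro Y ⟨⟨g, a, ha⟩, rfl⟩
    set β := tau hF hP a ha • (levi g • α) with hβ
    have ha0 : (a : F) ≠ 0 := fun h => ha (Subtype.ext h)
    have hPβ : PP hF hP.eW hP.ee β = ⊤ := by
      rw [hβ, PP_smul hF hP.eW hP.ee ha0 (tau_e hF hP a ha), PP_levi hF hP g,
        (zfix_iff hF).1 hfix]
      refine AddSubgroup.eq_top_of_card_eq _ (card_scaleP hF ?_ _ |>.trans AddSubgroup.card_top)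
      exact fun h => ha0 (by
        have := congrArg Subtype.val h
        exact pow_eq_zero_iff (q_ne_zero hF) |>.1 ((mul_eq_zero.1 this).elim id fun h' => by
          rw [h', zero_pow_q hF]))
    have hSβ : SS hF hP β = S.map (scaleHom (a : F) (g : SU n F q)) := by
      ext s
      rw [hβ, SS_smul hF hP ha0 (tau_e hF hP a ha) (fun w hw => by
        rw [tau_perp hF hP a ha hw]; exact hw) (levi g • α)]
      rw [AddSubgroup.mem_map, a.2]
      constructor
      · rintro ⟨s', hs', rfl⟩
        rw [tau_perp hF hP a ha (SS_le hF hP _ _ hs')]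
        rw [SS_levi hF H.nondeg hP g α, mem_imgS] at hs'
        obtain ⟨s'', hs'', rfl⟩ := hs'
        exact ⟨s'', hs'', rfl⟩
      · rintro ⟨s'', hs'', rfl⟩
        have hm : act (g : SU n F q) s'' ∈ SS hF hP (levi g • α) := by
          rw [SS_levi hF H.nondeg hP g α, mem_imgS]; exact ⟨s'', hs'', rfl⟩
        exact ⟨_, hm, by rw [tau_perp hF hP a ha (SS_le hF hP _ _ hm)]; rfl⟩
    have hoβ : Nat.card (MulAction.orbit (Qg hF hP) β) = o := by
      have h1 := orbit_mul_SS hF H hP β
      rw [hPβ, AddSubgroup.index_top, mul_one, hSβ, ← H.cardW' hF hP, ← hoS] at h1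
      rw [← Nat.card_congr (S.equivMapOfInjective (scaleHom (a : F) (g : SU n F q))
        fun u v huv => by
          have h' : act (g : SU n F q) u = act (g : SU n F q) v :=
            smul_right_injective _ ha0 huv
          rw [← act_inv_act (g : SU n F q) u, h', act_inv_act]).toEquiv] at h1
      exact Nat.eq_of_mul_eq_mul_right Nat.card_pos h1
    rw [← hoβ]
    refine Nat.card_le_card_of_injective (fun γ : MulAction.orbit (Qg hF hP) β =>
      (⟨(γ : M), ?_⟩ : {x : M | x ∈ {β : M | ZFix hF hP.eW hP.ee β} ∧ SS hF hP x =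
        S.map (scaleHom (a : F) (g : SU n F q))}))
      fun a b h => Subtype.ext (congrArg Subtype.val h :)
    obtain ⟨ξ, hξ⟩ := γ.2
    rw [← hξ]
    refine ⟨(zfix_iff hF).2 ?_, ?_⟩
    · show PP hF hP.eW hP.ee ((ξ : GS q W) • β) = ⊤
      rw [PP_orbit hF hP ξ.2, hPβ]
    · show SS hF hP ((ξ : GS q W) • β) = _
      rw [SS_orbit hF hP ξ.2, hSβ])
  rw [← hoS] at hgeo
  have : q ^ 2 * X * Nat.card S ≤
      Nat.card {β : M // ZFix hF hP.eW hP.ee β} * Nat.card S := by
    refine hgeo.trans ?_
    rw [mul_right_comm, mul_comm o]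
    exact Nat.mul_le_mul_right _ key
  have := Nat.le_of_mul_le_mul_right this Nat.card_pos
  omega

end Cfsg.Agent.MinIndexUnit19
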