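import Mathlib
import Cfsg.Agent.Lib.MinIndexUnit19Count
import Cfsg.Agent.Lib.MinIndexUnit19Trans
import Cfsg.Agent.Lib.MinIndexUnit19Step

/-!
Images of an additive subgroup of a three-dimensional Hermitian space: the orbits of isotropic and
anisotropic vectors and the lower bound obtained by covering them.
-/

set_option autoImplicit false

namespace Cfsg.Agent.MinIndexPSUCover55

open Cfsg Cfsg.Agent.OrthUnitaryHerm Cfsg.Agent.OrthUnitaryTransvection
  Cfsg.Agent.SUMinDegree32Geom Cfsg.Agent.MinIndexUnit19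
open scoped Matrix

variable {F : Type*} [Field F] [Fintype F] {q n : ℕ}
variable {W : Submodule F (Fin n → F)}

local notation "⟪" x ", " y "⟫" => hermForm n F q x y

/-- The images of an additive subgroup under the group of `W`. -/
def imgs (q : ℕ) (W : Submodule F (Fin n → F)) (S : AddSubgroup (Fin n → F)) :
    Set (AddSubgroup (Fin n → F)) :=
  Set.range fun g : GS q W => imgS (g : SU n F q) S

theorem finite_imgs (S : AddSubgroup (Fin n → F)) : (imgs q W S).Finite := Set.finite_range _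

omit [Fintype F] in
theorem imgS_injective (g : SU n F q) :
    Function.Injective (imgS g : AddSubgroup (Fin n → F) → AddSubgroup (Fin n → F)) :=
  fun A B h => by
    have := congrArg (imgS g⁻¹) h
    rwa [← imgS_mul, ← imgS_mul, inv_mul_cancel, imgS_one, imgS_one] at this

/-- Covering the orbit of a vector of `S` by the images of `S`. -/
theorem cover {S : AddSubgroup (Fin n → F)} {P : (Fin n → F) → Prop}
    (hinv : ∀ (g : GS q W) v, P (act (g : SU n F q) v) ↔ P v) {x : Fin n → F}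
    (htr : ∀ v, P v → ∃ g : GS q W, act (g : SU n F q) x = v) {M : ℕ}
    (hM : M ≤ Nat.card {T : AddSubgroup (Fin n → F) // T ∈ imgs q W S ∧ x ∈ T}) :
    Nat.card {v : Fin n → F // P v} * M ≤
      Nat.card (imgs q W S) * Nat.card {s : Fin n → F // s ∈ S ∧ P s} := by
  classical
  set I := (finite_imgs (q := q) (W := W) S).toFinset with hI
  set V := Finset.univ.filter P with hV
  have hIc : Nat.card (imgs q W S) = I.card := by
    rw [Nat.card_coe_set_eq, Set.ncard_eq_toFinset_card _ (finite_imgs S)]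
  have hVc : Nat.card {v : Fin n → F // P v} = V.card := by
    rw [Nat.card_eq_fintype_card, Fintype.card_subtype]
  have h1 : ∀ v ∈ V, M ≤ (I.bipartiteAbove (fun v T => v ∈ T) v).card := by
    intro v hv
    obtain ⟨g, hg⟩ := htr v (Finset.mem_filter.1 hv).2
    refine hM.trans ?_
    rw [← Nat.card_eq_finsetCard]
    refine Nat.card_le_card_of_injective
      (fun T => ⟨imgS (g : SU n F q) T.1, ?_⟩) fun A B h => Subtype.ext
        (imgS_injective _ (congrArg Subtype.val h))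
    rw [Finset.bipartiteAbove, Finset.mem_filter, hI, Set.Finite.mem_toFinset]
    obtain ⟨k, hk⟩ := T.2.1
    refine ⟨⟨g * k, ?_⟩, hg ▸ mem_imgS.2 ⟨x, T.2.2, rfl⟩⟩
    show imgS ((g * k : GS q W) : SU n F q) S = _
    rw [Subgroup.coe_mul, imgS_mul, ← hk]
  have h2 : ∀ T ∈ I, (V.bipartiteBelow (fun v T => v ∈ T) T).card =
      Nat.card {s : Fin n → F // s ∈ S ∧ P s} := by
    intro T hT
    obtain ⟨k, hk⟩ := (Set.Finite.mem_toFinset _).1 hT
    rw [← Nat.card_eq_finsetCard]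
    refine (Nat.card_eq_of_bijective
      (fun s : {s : Fin n → F // s ∈ S ∧ P s} => (⟨act (k : SU n F q) s.1, ?_⟩ :
        (V.bipartiteBelow (fun v T => v ∈ T) T : Finset (Fin n → F)))) ⟨?_, ?_⟩).symm
    · rw [Finset.bipartiteBelow, Finset.mem_filter, hV, Finset.mem_filter]
      exact ⟨⟨Finset.mem_univ _, (hinv k _).2 s.2.2⟩, hk ▸ mem_imgS.2 ⟨_, s.2.1, rfl⟩⟩
    · intro a b h
      refine Subtype.ext ?_
      have h' : act (k : SU n F q) a.1 = act (k : SU n F q) b.1 := congrArg Subtype.val h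
      rw [← act_inv_act (k : SU n F q) a.1, h', act_inv_act]
    · rintro ⟨v, hv⟩
      rw [Finset.bipartiteBelow, Finset.mem_filter, hV, Finset.mem_filter] at hv
      obtain ⟨s, hs, rfl⟩ := mem_imgS.1 (show v ∈ imgS (k : SU n F q) S by have := hv.2; rw [← hk] at this; exact this)
      exact ⟨⟨s, hs, (hinv k s).1 hv.1.2⟩, rfl⟩
  have h3 := Finset.sum_card_bipartiteAbove_eq_sum_card_bipartiteBelow
    (r := fun (v : Fin n → F) (T : AddSubgroup (Fin n → F)) => v ∈ T) (s := V) (t := I)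
  rw [Finset.sum_congr rfl h2, Finset.sum_const, smul_eq_mul] at h3
  rw [hIc, hVc, ← h3, ← smul_eq_mul]
  exact Finset.card_nsmul_le_sum _ _ _ h1

/-- One member contains each of its vectors. -/
theorem one_le_members {S : AddSubgroup (Fin n → F)} {x : Fin n → F} (hx : x ∈ S) :
    1 ≤ Nat.card {T : AddSubgroup (Fin n → F) // T ∈ imgs q W S ∧ x ∈ T} := by
  have : Finite {T : AddSubgroup (Fin n → F) // T ∈ imgs q W S ∧ x ∈ T} :=
    ((finite_imgs S).subset fun T hT => hT.1).to_subtype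
  exact Nat.card_pos_iff.2 ⟨⟨⟨S, ⟨1, imgS_one S⟩, hx⟩⟩, inferInstance⟩

/-- Distinct images containing a vector. -/
theorem card_le_members {S : AddSubgroup (Fin n → F)} {x : Fin n → F} {ι : Type*}
    (g : ι → GS q W) (hinj : Function.Injective fun i => imgS (g i : SU n F q) S)
    (hx : ∀ i, x ∈ imgS (g i : SU n F q) S) :
    Nat.card ι ≤ Nat.card {T : AddSubgroup (Fin n → F) // T ∈ imgs q W S ∧ x ∈ T} := by
  have : Finite {T : AddSubgroup (Fin n → F) // T ∈ imgs q W S ∧ x ∈ T} :=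
    ((finite_imgs S).subset fun T hT => hT.1).to_subtype
  exact Nat.card_le_card_of_injective (fun i => ⟨_, ⟨g i, rfl⟩, hx i⟩)
    fun a b h => hinj (congrArg Subtype.val h)

variable (hF : Fintype.card F = q ^ 2)
include hF

theorem pairPerp_ne_bot (hd : 3 ≤ Module.finrank F W) {e f : Fin n → F} (hP : HP q W e f) :
    pairPerp q W e f ≠ ⊥ := fun h => by
  have := hP.finrank hF
  rw [h, finrank_bot] at this
  omega

/-- Transitivity on nonzero isotropic vectors. -/
theorem iso_trans (hW : Nondeg q W) (hd : 3 ≤ Module.finrank F W) {x : Fin n → F} (hxW : x ∈ W)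
    (hx0 : x ≠ 0) (hx : ⟪x, x⟫ = 0) :
    ∀ v, (v ∈ W ∧ v ≠ 0 ∧ ⟪v, v⟫ = 0) → ∃ g : GS q W, act (g : SU n F q) x = v := by
  rintro v ⟨hvW, hv0, hv⟩
  obtain ⟨g, a, ha, hg⟩ := exists_move_in hF hW hxW hvW hx0 hv0 hx hv
  obtain ⟨f, hP⟩ := HP.exists_of_iso hF hW hxW hx0 hx
  obtain ⟨k, hk⟩ := exists_scale hF hW hP (pairPerp_ne_bot hF hd hP) (inv_ne_zero ha)
  exact ⟨g * k, by
    rw [Subgroup.coe_mul, act_mul, hk, act_smul, hg, smul_smul, inv_mul_cancel₀ ha, one_smul]⟩

theorem iso_inv (hW : Nondeg q W) (g : GS q W) (v : Fin n → F) :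
    (act (g : SU n F q) v ∈ W ∧ act (g : SU n F q) v ≠ 0 ∧
      ⟪act (g : SU n F q) v, act (g : SU n F q) v⟫ = 0) ↔ (v ∈ W ∧ v ≠ 0 ∧ ⟪v, v⟫ = 0) := by
  rw [herm_act]
  constructor
  · rintro ⟨h1, h2, h3⟩
    refine ⟨?_, fun h => h2 ?_, h3⟩
    · have := act_mem hF hW (g⁻¹).2 h1
      rwa [InvMemClass.coe_inv, act_inv_act] at this
    · rw [h]; exact Matrix.mulVec_zero _
  · rintro ⟨h1, h2, h3⟩
    refine ⟨act_mem hF hW g.2 h1, fun h => h2 ?_, h3⟩
    rw [← act_inv_act (g : SU n F q) v, h]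
    exact Matrix.mulVec_zero _

theorem norm_inv (hW : Nondeg q W) (ν : F) (g : GS q W) (v : Fin n → F) :
    (act (g : SU n F q) v ∈ W ∧ ⟪act (g : SU n F q) v, act (g : SU n F q) v⟫ = ν) ↔
      (v ∈ W ∧ ⟪v, v⟫ = ν) := by
  rw [herm_act]
  constructor
  · rintro ⟨h1, h3⟩
    refine ⟨?_, h3⟩
    have := act_mem hF hW (g⁻¹).2 h1
    rwa [InvMemClass.coe_inv, act_inv_act] at this
  · rintro ⟨h1, h3⟩
    exact ⟨act_mem hF hW g.2 h1, h3⟩

/-- A torus element scaling `e` by `t` and an anisotropic perpendicular vector by `t ^ (q - 1)`. -/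
theorem exists_torus_line {e f k : Fin n → F} (hP : HP q W e f) (hk : k ∈ pairPerp q W e f)
    (hkk : ⟪k, k⟫ ≠ 0) {t : F} (ht : t ≠ 0) :
    ∃ g : GS q W, act (g : SU n F q) e = t • e ∧ act (g : SU n F q) k = (t ^ q / t) • k := by
  set s := t ^ q / t with hs
  have htq : t ^ q ≠ 0 := pow_ne_zero _ ht
  have hsn : s * s ^ q = 1 := by
    rw [hs, div_pow, pow_q_q hF]
    field_simp
  set a := ⟪k, k⟫ with ha
  have hcond : (s - 1) / a + ((s - 1) / a) ^ q + (s - 1) / a * ((s - 1) / a) ^ q * a = 0 := by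
    have haq : a ^ q = a := herm_self_pow hF k
    rw [div_pow, sub_pow_q hF, one_pow, haq]
    field_simp
    linear_combination hsn
  have hdet : (unitaryTransvection n q k ((s - 1) / a) * pairMat q e f t).det = 1 := by
    rw [Matrix.det_mul, det_transvection hF, ← ha, div_mul_cancel₀ _ hkk,
      pairMat_det t hP.ee hP.ff hP.ef hP.fe, hs]
    field_simp
    ring
  refine ⟨⟨mkSU _ hdet ((isU_transvection hF hcond).mul
    (pairMat_isU hF ht hP.ee hP.ff hP.ef hP.fe)), fun y hy => ?_⟩, ?_, ?_⟩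
  · show (unitaryTransvection n q k ((s - 1) / a) * pairMat q e f t) *ᵥ y = y
    rw [← Matrix.mulVec_mulVec, pairMat_mulVec, hy e hP.eW, hy f hP.fW, mul_zero, mul_zero,
      zero_smul, zero_smul, add_zero, add_zero, transvection_mulVec, hy k (pairPerp_le hk),
      mul_zero, zero_smul, add_zero]
  · show (unitaryTransvection n q k ((s - 1) / a) * pairMat q e f t) *ᵥ e = t • e
    rw [← Matrix.mulVec_mulVec, pairMat_mulVec, hP.ef, hP.ee, mul_zero, zero_smul, add_zero,
      mul_one, transvection_mulVec, herm_add_left, herm_smul_left, e_perp hF hk]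
    module
  · show (unitaryTransvection n q k ((s - 1) / a) * pairMat q e f t) *ᵥ k = s • k
    rw [← Matrix.mulVec_mulVec, pairMat_mulVec, perp_e hk, perp_f hk, mul_zero, mul_zero,
      zero_smul, zero_smul, add_zero, add_zero, transvection_mulVec, ← ha, div_mul_cancel₀ _ hkk]
    module

/-- Transitivity on anisotropic vectors of a given norm in dimension three. -/
theorem norm_trans (hW : Nondeg q W) (hd : Module.finrank F W = 3) {x : Fin n → F} (hxW : x ∈ W)
    {ν : F} (hν : ν ≠ 0) (hx : ⟪x, x⟫ = ν) :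
    ∀ v, (v ∈ W ∧ ⟪v, v⟫ = ν) → ∃ g : GS q W, act (g : SU n F q) x = v := by
  rintro v ⟨hvW, hv⟩
  have hpair : ∀ u ∈ W, ⟪u, u⟫ = ν → ∃ e f, HP q W e f ∧ ⟪u, e⟫ = 0 ∧ ⟪u, f⟫ = 0 := by
    intro u huW hu
    have hN := nondeg_uPerp hF hW huW (hu ▸ hν)
    obtain ⟨e, he, he0, hee⟩ := exists_iso_in hF hN (by
      have := finrank_uPerp (q := q) (W := W) u
      omega)
    obtain ⟨f, hP⟩ := HP.exists_of_iso hF hN he he0 hee
    obtain ⟨heW, hue⟩ := mem_uPerp.1 he
    obtain ⟨hfW, huf⟩ := mem_uPerp.1 hP.fW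
    exact ⟨e, f, ⟨heW, hfW, hP.ee, hP.ff, hP.ef, hP.fe⟩, herm_skew_zero hF hue,
      herm_skew_zero hF huf⟩
  obtain ⟨e, f, hP, hxe, hxf⟩ := hpair x hxW hx
  obtain ⟨e', f', hP', hve, hvf⟩ := hpair v hvW hv
  obtain ⟨g₁, hg₁⟩ := iso_trans hF hW (by omega) hP.eW hP.e_ne hP.ee e' ⟨hP'.eW, hP'.e_ne, hP'.ee⟩
  -- move the second vector of the pair
  set f₁ := act (g₁ : SU n F q) f with hf₁
  have hf₁e : ⟪f₁, e'⟫ = 1 := by rw [hf₁, ← hg₁, herm_act, hP.fe]
  have hk := hP'.decomp (x := f₁) (act_mem hF hW g₁.2 hP.fW)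
  rw [hf₁e, one_smul] at hk
  set w := f₁ - ⟪f₁, f'⟫ • e' - f' with hw
  have hμ : ⟪f₁, f'⟫ + ⟪f₁, f'⟫ ^ q + ⟪w, w⟫ = 0 := by
    have h0 : ⟪f₁, f₁⟫ = 0 := by rw [hf₁, herm_act, hP.ff]
    have hd' : f₁ = f' + w + ⟪f₁, f'⟫ • e' := by rw [hw]; abel
    rw [hd'] at h0
    simp only [herm_add_left, herm_add_right hF, herm_smul_left, herm_smul_right, hP'.ee, hP'.ff,
      hP'.ef, hP'.fe, perp_e hk, perp_f hk, e_perp hF hk, f_perp hF hk] at h0
    linear_combination h0
  set ξ := Qel hF hP' hk hμ with hξ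
  have hξe : act (ξ : SU n F q) e' = e' := by rw [hξ, Qel, Eg_coe, eich_self hF]
  have hξf : act (ξ : SU n F q) f' = f₁ := by
    rw [hξ, Qel, Eg_coe, act_eich_f hF hP' hk hμ, hw]; abel
  set g₂ := (ξ⁻¹ * g₁ : GS q W) with hg₂
  have h2e : act (g₂ : SU n F q) e = e' := by
    rw [hg₂, Subgroup.coe_mul, InvMemClass.coe_inv, act_mul, hg₁]
    conv_lhs => rw [← hξe]
    rw [act_inv_act]
  have h2f : act (g₂ : SU n F q) f = f' := by
    rw [hg₂, Subgroup.coe_mul, InvMemClass.coe_inv, act_mul, ← hf₁, ← hξf, act_inv_act]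
  set u := act (g₂ : SU n F q) x with hu
  have huW' : u ∈ pairPerp q W e' f' := mem_pairPerp.2 ⟨act_mem hF hW g₂.2 hxW,
    by rw [hu, ← h2e, herm_act, hxe], by rw [hu, ← h2f, herm_act, hxf]⟩
  have hvW' : v ∈ pairPerp q W e' f' := mem_pairPerp.2 ⟨hvW, hve, hvf⟩
  have h1 : Module.finrank F (pairPerp q W e' f') = 1 := by
    have := hP'.finrank hF; omega
  have hu0 : (⟨u, huW'⟩ : pairPerp q W e' f') ≠ 0 := fun h => by
    have h' : u = 0 := congrArg Subtype.val h
    have := herm_act (g₂ : SU n F q) x x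
    rw [← hu, h', herm_zero_left, hx] at this
    exact hν this.symm
  obtain ⟨c, hc⟩ := exists_smul_eq_of_finrank_eq_one h1 hu0 ⟨v, hvW'⟩
  have hc' : c • u = v := congrArg Subtype.val hc
  have hcn : c * c ^ q = 1 := by
    have huu : ⟪u, u⟫ = ν := by rw [hu, herm_act, hx]
    have := congrArg (fun y => ⟪y, y⟫) hc'
    simp only [herm_smul_left, herm_smul_right, huu, hv] at this
    exact mul_right_cancel₀ hν (by linear_combination this)
  -- a torus element multiplying the line by `c`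
  have hc0 : c ≠ 0 := fun h => by rw [h, zero_mul] at hcn; exact zero_ne_one hcn
  obtain ⟨d, hd0, hd⟩ : ∃ d : F, d ≠ 0 ∧ d = c⁻¹ * d ^ q := by
    by_cases hc1 : (c : F) = -1
    · obtain ⟨d, hd0, hd⟩ := exists_skew hF
      refine ⟨d, hd0, ?_⟩
      rw [hc1, show (-1 : F)⁻¹ = -1 by norm_num]
      linear_combination hd
    · have hci : c⁻¹ = c ^ q := inv_eq_of_mul_eq_one_right hcn
      refine ⟨1 + c⁻¹, fun h => hc1 ?_, ?_⟩
      · have h2 : (1 + c⁻¹) * c = 0 := by rw [h, zero_mul]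
        rw [add_mul, inv_mul_cancel₀ hc0, one_mul] at h2
        linear_combination h2
      · rw [add_pow_q hF, one_pow, hci, pow_q_q hF]
        linear_combination -hcn
  have hkk : ⟪u, u⟫ ≠ 0 := by rw [hu, herm_act, hx]; exact hν
  obtain ⟨g₃, -, hg₃⟩ := exists_torus_line hF hP' huW' hkk hd0
  have hdc : d ^ q / d = c := by
    rw [div_eq_iff hd0]
    conv_rhs => rw [hd]
    rw [← mul_assoc, mul_inv_cancel₀ hc0, one_mul]
  exact ⟨g₃ * g₂, by rw [Subgroup.coe_mul, act_mul, ← hu, hg₃, hdc, hc']⟩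

/-- The number of nonzero isotropic vectors. -/
theorem card_iso (hW : Nondeg q W) (hd : Module.finrank F W = 3) :
    Nat.card {v : Fin n → F // v ∈ W ∧ v ≠ 0 ∧ ⟪v, v⟫ = 0} = (q ^ 2 - 1) * (q ^ 3 + 1) := by
  classical
  have h := card_isoVec hF 3 W hW hd
  rw [vecN_eq (by have := two_le_q hF; omega)] at h
  have hN : isoN q 3 = q ^ 3 + 1 := by
    rw [isoN_succ_succ, show isoN q 1 = 0 from rfl]; ring
  have h' : Nat.card {x : Fin n → F // x ∈ W ∧ ⟪x, x⟫ = 0} =
      Nat.card {v : Fin n → F // v ∈ W ∧ v ≠ 0 ∧ ⟪v, v⟫ = 0} + 1 := by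
    rw [Nat.card_eq_fintype_card, Nat.card_eq_fintype_card, Fintype.card_subtype,
      Fintype.card_subtype, ← Finset.card_insert_of_notMem (a := (0 : Fin n → F)) (by simp)]
    congr 1
    ext v
    by_cases hv : v = 0
    · subst hv; simp [herm_zero_left, W.zero_mem]
    · simp [hv]
  rw [h', hN] at h
  omega

/-- The number of vectors of a given nonzero norm. -/
theorem card_norm (hW : Nondeg q W) (hd : Module.finrank F W = 3) {ν : F} (hν0 : ν ≠ 0)
    (hν : ν ^ q = ν) :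
    Nat.card {v : Fin n → F // v ∈ W ∧ ⟪v, v⟫ = ν} = q ^ 2 * (q ^ 3 + 1) := by
  classical
  have hq := two_le_q hF
  set A := {r : fixedSet hF // r ≠ 0}
  have hA : Nat.card A = q - 1 := by
    rw [Nat.card_eq_fintype_card, Fintype.card_subtype_compl, Fintype.card_subtype_eq,
      ← Nat.card_eq_fintype_card, card_fixedSet hF]
  have hfib : ∀ r : A, Nat.card {v : Fin n → F // v ∈ W ∧ ⟪v, v⟫ = (r.1 : F)} =
      Nat.card {v : Fin n → F // v ∈ W ∧ ⟪v, v⟫ = ν} := by
    intro r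
    have hr0 : (r.1 : F) ≠ 0 := fun h => r.2 (Subtype.ext h)
    obtain ⟨t, ht⟩ := exists_norm_eq hF (a := (r.1 : F) / ν) (by rw [div_pow, r.1.2, hν])
    rw [pow_succ'] at ht
    have ht0 : t ≠ 0 := fun h => div_ne_zero hr0 hν0 (by rw [← ht, h, zero_mul])
    refine (Nat.card_congr
      { toFun := fun v => ⟨t • v.1, W.smul_mem _ v.2.1, by
          rw [herm_smul_left, herm_smul_right, v.2.2, ← mul_assoc, ht, div_mul_cancel₀ _ hν0]⟩
        invFun := fun v => ⟨t⁻¹ • v.1, W.smul_mem _ v.2.1, by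
          rw [herm_smul_left, herm_smul_right, v.2.2, inv_pow, ← mul_assoc, ← mul_inv, ht, inv_div,
            div_mul_cancel₀ _ hr0]⟩
        left_inv := fun v => Subtype.ext (inv_smul_smul₀ ht0 _)
        right_inv := fun v => Subtype.ext (smul_inv_smul₀ ht0 _) }).symm
  have hsplit : Nat.card {x : Fin n → F // x ∈ W ∧ ⟪x, x⟫ = 0} +
      Nat.card (Σ r : A, {v : Fin n → F // v ∈ W ∧ ⟪v, v⟫ = (r.1 : F)}) = Nat.card W := by
    rw [← Nat.card_sum]
    refine Nat.card_congr (((Equiv.subtypeSubtypeEquivSubtypeInter (fun x => x ∈ W)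
      (fun x => ⟪x, x⟫ = 0)).symm.sumCongr
      ({ toFun := fun p => ⟨⟨p.2.1, p.2.2.1⟩, fun h => p.1.2 (Subtype.ext (p.2.2.2.symm.trans h))⟩
         invFun := fun w => ⟨⟨⟨⟪(w.1 : Fin n → F), (w.1 : Fin n → F)⟫, herm_self_pow hF _⟩,
           fun h => w.2 (congrArg Subtype.val h)⟩, (w.1 : Fin n → F), w.1.2, rfl⟩
         left_inv := ?_
         right_inv := fun w => rfl } :
        (Σ r : A, {v : Fin n → F // v ∈ W ∧ ⟪v, v⟫ = (r.1 : F)}) ≃
          {w : W // ¬ ⟪(w : Fin n → F), (w : Fin n → F)⟫ = 0})).trans (Equiv.sumCompl _))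
    rintro ⟨⟨⟨r, hr⟩, hr0⟩, v, hvW, hv⟩
    obtain rfl : ⟪v, v⟫ = r := hv
    rfl
  rw [Nat.card_sigma, Finset.sum_congr rfl fun r _ => hfib r, Finset.sum_const, smul_eq_mul,
    Finset.card_univ, ← Nat.card_eq_fintype_card, hA, card_submodule hF, hd,
    card_isoVec hF 3 W hW hd, vecN_eq (by omega), show isoN q 3 = q ^ 3 + 1 by
      rw [isoN_succ_succ, show isoN q 1 = 0 from rfl]; ring] at hsplit
  refine Nat.eq_of_mul_eq_mul_left (show 0 < q - 1 by omega) ?_
  have h1 : 1 ≤ q ^ 2 := Nat.one_le_pow _ _ (by omega)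
  have h2 : 1 ≤ q := by omega
  zify [h1, h2] at hsplit ⊢
  linear_combination hsplit

/-- The annihilator commutes with the group. -/
theorem annS_img (hW : Nondeg q W) (g : GS q W) {S : AddSubgroup (Fin n → F)}
    (ψ : AddChar (fixedSet hF) ℂ) :
    annS hF W (imgS (g : SU n F q) S) ψ = imgS (g : SU n F q) (annS hF W S ψ) := by
  ext x
  rw [mem_annS, mem_imgS]
  constructor
  · rintro ⟨hxW, hx⟩
    refine ⟨act (g : SU n F q)⁻¹ x, (mem_annS hF).2 ⟨?_, fun s hs => ?_⟩, act_act_inv _ _⟩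
    · have := act_mem hF hW (g⁻¹).2 hxW
      rwa [InvMemClass.coe_inv] at this
    · rw [← bf_act hF (g : SU n F q), act_act_inv]
      exact hx _ (mem_imgS.2 ⟨s, hs, rfl⟩)
  · rintro ⟨y, hy, rfl⟩
    obtain ⟨hyW, hy⟩ := (mem_annS hF).1 hy
    refine ⟨act_mem hF hW g.2 hyW, fun s hs => ?_⟩
    obtain ⟨s', hs', rfl⟩ := mem_imgS.1 hs
    rw [bf_act hF]
    exact hy s' hs'

/-- The images of the annihilator are not more than those of the subgroup. -/
theorem card_imgs_annS_le (hW : Nondeg q W) (S : AddSubgroup (Fin n → F))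
    (ψ : AddChar (fixedSet hF) ℂ) :
    Nat.card (imgs q W (annS hF W S ψ)) ≤ Nat.card (imgs q W S) := by
  have h : imgs q W (annS hF W S ψ) ⊆ (fun T => annS hF W T ψ) '' imgs q W S := by
    rintro _ ⟨g, rfl⟩
    exact ⟨_, ⟨g, rfl⟩, annS_img hF hW g ψ⟩
  exact (Nat.card_mono ((finite_imgs S).image _) h).trans (Nat.card_image_le (finite_imgs S))

end Cfsg.Agent.MinIndexPSUCover55
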