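import Mathlib
import Cfsg.Agent.Lib.MinIndexUnit19Step

/-!
Closed additive subgroups of a Hermitian space: the index is at least `q ^ 2`.
-/

set_option autoImplicit false

namespace Cfsg.Agent.MinIndexUnit19

open Cfsg Cfsg.Agent.OrthUnitaryHerm Cfsg.Agent.OrthUnitaryTransvection
  Cfsg.Agent.SUMinDegree32Geom

/-- The order of a preimage under a surjective additive map. -/
theorem card_preimage_mul {A B : Type*} [AddGroup A] [AddGroup B] [Finite A] (φ : A →+ B)
    (hφ : Function.Surjective φ) (T : Set B) :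
    Nat.card {a : A // φ a ∈ T} * Nat.card B = Nat.card A * Nat.card T := by
  have : Finite B := Finite.of_surjective φ hφ
  obtain ⟨σ, hσ⟩ := hφ.hasRightInverse
  rw [← Nat.card_prod, ← Nat.card_prod]
  refine Nat.card_congr
    { toFun := fun p => (p.1.1 - σ (φ p.1.1) + σ p.2, ⟨φ p.1.1, p.1.2⟩)
      invFun := fun p => (⟨p.1 - σ (φ p.1) + σ p.2.1, ?_⟩, φ p.1)
      left_inv := fun p => ?_
      right_inv := fun p => ?_ }
  · rw [map_add, map_sub, hσ, hσ, sub_self, zero_add]; exact p.2.2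
  · refine Prod.ext (Subtype.ext ?_) ?_
    · show p.1.1 - σ (φ p.1.1) + σ p.2 - σ (φ (p.1.1 - σ (φ p.1.1) + σ p.2)) + σ (φ p.1.1) = p.1.1
      rw [map_add, map_sub, hσ, hσ, sub_self, zero_add, add_sub_cancel_right, sub_add_cancel]
    · show φ (p.1.1 - σ (φ p.1.1) + σ p.2) = p.2
      rw [map_add, map_sub, hσ, hσ, sub_self, zero_add]
  · refine Prod.ext ?_ (Subtype.ext ?_)
    · show p.1 - σ (φ p.1) + σ p.2.1 - σ (φ (p.1 - σ (φ p.1) + σ p.2.1)) + σ (φ p.1) = p.1
      rw [map_add, map_sub, hσ, hσ, sub_self, zero_add, add_sub_cancel_right, sub_add_cancel]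
    · show φ (p.1 - σ (φ p.1) + σ p.2.1) = p.2.1
      rw [map_add, map_sub, hσ, hσ, sub_self, zero_add]

variable {F : Type*} [Field F] [Fintype F] {q n : ℕ}
variable {W : Submodule F (Fin n → F)} {S : AddSubgroup (Fin n → F)}

local notation "⟪" x ", " y "⟫" => hermForm n F q x y

variable (hF : Fintype.card F = q ^ 2)
include hF

/-- The multiples of `b` by the fixed field. -/
def fixLine (b : F) : Set F := {x | ∃ r : F, r ^ q = r ∧ x = b * r}

theorem card_fixLine_le (b : F) : Nat.card (fixLine (q := q) b) ≤ q := by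
  have := Nat.card_mono (Set.finite_range fun r : fixedSet hF => b * (r : F))
    (show fixLine (q := q) b ⊆ Set.range (fun r : fixedSet hF => b * (r : F)) from
      fun x ⟨r, hr, hx⟩ => ⟨⟨r, (mem_fixedSet hF).2 hr⟩, hx.symm⟩)
  exact this.trans ((Finite.card_range_le _).trans (card_fixedSet hF).le)

theorem exists_comb_of_indep {x y : F} (hy : y ≠ 0) (h : (x / y) ^ q ≠ x / y) (a : F) :
    ∃ r s : F, r ^ q = r ∧ s ^ q = s ∧ a = r * x + s * y := by
  have ht : x * c0 hF / y + (x * c0 hF / y) ^ q ≠ 0 := by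
    rw [mul_div_right_comm, mul_pow, show c0 hF ^ q = -c0 hF by linear_combination c0_skew hF,
      show x / y * c0 hF + (x / y) ^ q * -c0 hF = c0 hF * (x / y - (x / y) ^ q) by ring]
    exact mul_ne_zero (c0_ne hF) (sub_ne_zero.2 (Ne.symm h))
  obtain ⟨r, s, hr, hs, he⟩ := exists_fixed_comb hF ht (a * c0 hF / y)
  refine ⟨r, s, hr, hs, mul_right_cancel₀ (c0_ne hF) ?_⟩
  rw [div_eq_iff hy] at he
  rw [he]
  field_simp

/-- The inner products with a partial vector lie on a line over the fixed field. -/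
theorem exists_fixLine {u : Fin n → F} (hinv : InvAt hF S u) {a : F} (ha : a • u ∉ S) :
    ∃ b : F, ∀ s ∈ S, ⟪s, u⟫ ∈ fixLine (q := q) b := by
  by_cases h0 : ∀ s ∈ S, ⟪s, u⟫ = 0
  · exact ⟨0, fun s hs => ⟨0, zero_pow_q hF, by rw [h0 s hs, mul_zero]⟩⟩
  push Not at h0
  obtain ⟨s₀, hs₀, hne⟩ := h0
  refine ⟨⟪s₀, u⟫, fun s hs => ?_⟩
  by_cases hfx : (⟪s, u⟫ / ⟪s₀, u⟫) ^ q = ⟪s, u⟫ / ⟪s₀, u⟫
  · exact ⟨_, hfx, (mul_div_cancel₀ _ hne).symm⟩
  · exfalso
    obtain ⟨r, r', hr, hr', he⟩ := exists_comb_of_indep hF hne hfx (a / c0 hF)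
    refine ha ?_
    have h1 := hinv ⟨r, (mem_fixedSet hF).2 hr⟩ s hs
    have h2 := hinv ⟨r', (mem_fixedSet hF).2 hr'⟩ s₀ hs₀
    convert S.add_mem h1 h2 using 1
    rw [← add_smul]
    congr 1
    rw [div_eq_iff (c0_ne hF)] at he
    rw [he]; ring

/-- The inner product with a fixed vector, as an additive map on `W`. -/
noncomputable def ipHom (W : Submodule F (Fin n → F)) (u : Fin n → F) : W →+ F :=
  ((hermL q u).comp W.subtype).toAddMonoidHom

omit [Fintype F] hF in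
theorem ipHom_apply (u : Fin n → F) (w : W) : ipHom (q := q) W u w = ⟪(w : Fin n → F), u⟫ := rfl

theorem ipHom_surjective (hW : Nondeg q W) {u : Fin n → F} (hu : u ∈ W) (hu0 : u ≠ 0) :
    Function.Surjective (ipHom (q := q) W u) := fun a => by
  obtain ⟨z, hz, h⟩ := exists_herm_eq_in hF hW hu hu0 a
  exact ⟨⟨z, hz⟩, h⟩

theorem ipPair_surjective (hW : Nondeg q W) {u v : Fin n → F} (hu : u ∈ W) (hv : v ∈ W)
    (hu0 : u ≠ 0) (hind : ∀ c : F, v ≠ c • u) :
    Function.Surjective ((ipHom (q := q) W u).prod (ipHom (q := q) W v)) := by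
  rintro ⟨a, b⟩
  obtain ⟨z₁, hz₁, h₁⟩ := exists_herm_eq_in hF hW hu hu0 1
  set c := ⟪z₁, v⟫ with hc
  obtain ⟨x, hxW, hxu, hxv⟩ : ∃ x ∈ W, ⟪x, u⟫ = 0 ∧ ⟪x, v⟫ ≠ 0 := by
    by_contra! h
    refine hind (c ^ q) (sub_eq_zero.1 (hW _ (W.sub_mem hv (W.smul_mem _ hu)) fun y hy => ?_))
    refine herm_skew_zero hF ?_
    have h' := h (y - ⟪y, u⟫ • z₁) (W.sub_mem hy (W.smul_mem _ hz₁))
      (by rw [herm_sub_left, herm_smul_left, h₁, mul_one, sub_self])
    rw [herm_sub_left, herm_smul_left, ← hc] at h'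
    rw [herm_sub_right hF, herm_smul_right, pow_q_q hF]
    linear_combination h'
  refine ⟨⟨a • z₁ + ((b - a * c) / ⟪x, v⟫) • x,
    W.add_mem (W.smul_mem _ hz₁) (W.smul_mem _ hxW)⟩, Prod.ext ?_ ?_⟩
  · show ⟪a • z₁ + ((b - a * c) / ⟪x, v⟫) • x, u⟫ = a
    rw [herm_add_left, herm_smul_left, herm_smul_left, h₁, hxu]; ring
  · show ⟪a • z₁ + ((b - a * c) / ⟪x, v⟫) • x, v⟫ = b
    rw [herm_add_left, herm_smul_left, herm_smul_left, ← hc, div_mul_cancel₀ _ hxv]; ring

/-- A subgroup orthogonal to a vector has index at least `q ^ 2`. -/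
theorem card_le_of_perp (hW : Nondeg q W) {u : Fin n → F} (hu : u ∈ W) (hu0 : u ≠ 0)
    (hS : ∀ s ∈ S, s ∈ W) (h : ∀ s ∈ S, ⟪s, u⟫ = 0) : q ^ 2 * Nat.card S ≤ Nat.card W := by
  have h1 := card_preimage_mul _ (ipHom_surjective hF hW hu hu0) {(0 : F)}
  rw [Nat.card_eq_fintype_card (α := F), hF, Nat.card_unique (α := ({(0 : F)} : Set F)), mul_one]
    at h1
  rw [← h1, mul_comm]
  exact Nat.mul_le_mul_right _ (Nat.card_le_card_of_injective
    (fun s : S => (⟨⟨(s : Fin n → F), hS _ s.2⟩, h _ s.2⟩ :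
      {w : W // ipHom (q := q) W u w ∈ ({0} : Set F)}))
    fun a b hab => Subtype.ext (congrArg (fun x => ((x.1 : W) : Fin n → F)) hab :))

/-- A proper closed subgroup has index at least `q ^ 2`. -/
theorem index_ge (hW : Nondeg q W) (hd : 2 ≤ Module.finrank F W) (hS : ∀ s ∈ S, s ∈ W)
    (hproper : ∃ x ∈ W, x ∉ S) (hcl : ClosedS hF S) :
    q ^ 2 * Nat.card S ≤ Nat.card W := by
  by_contra hlt
  push Not at hlt
  have hcS : 0 < Nat.card S := Nat.card_pos
  -- every isotropic line meets `S`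
  have hmeet : ∀ v ∈ W, v ≠ 0 → ∃ a : F, a ≠ 0 ∧ a • v ∈ S := by
    intro v hv hv0
    by_contra! hno
    have hinj : Function.Injective (fun p : F × S => (⟨p.1 • v + (p.2 : Fin n → F),
        W.add_mem (W.smul_mem _ hv) (hS _ p.2.2)⟩ : W)) := by
      rintro ⟨a, s⟩ ⟨b, t⟩ h
      have h' : a • v + (s : Fin n → F) = b • v + t := congrArg Subtype.val h
      have hmem : (a - b) • v ∈ S := by
        have := S.sub_mem t.2 s.2
        convert this using 1
        rw [sub_smul]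
        rw [← sub_eq_zero] at h' ⊢
        rw [← h']; abel
      obtain rfl : a = b := sub_eq_zero.1 (by_contra fun hne => hno _ hne hmem)
      exact Prod.ext rfl (Subtype.ext (add_left_cancel h'))
    have := Nat.card_le_card_of_injective _ hinj
    rw [Nat.card_prod, Nat.card_eq_fintype_card (α := F), hF] at this
    omega
  -- the vectors of partial lines are collinear
  have hone : ∀ u v, u ∈ W → v ∈ W → ⟪u, u⟫ = 0 → ⟪v, v⟫ = 0 → u ≠ 0 → v ≠ 0 →
      ∀ a b : F, a • u ∉ S → b • v ∉ S → ∃ c : F, v = c • u := by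
    intro u v hu hv huu hvv hu0 hv0 a b ha hb
    obtain ⟨x, hx0, hxS⟩ := hmeet u hu hu0
    obtain ⟨y, hy0, hyS⟩ := hmeet v hv hv0
    by_contra! hind
    obtain ⟨b₁, hb₁⟩ := exists_fixLine hF (hcl _ hxS (herm_smul_smul_zero huu _ _))
      (a := a / x) (by rwa [smul_smul, div_mul_cancel₀ _ hx0])
    obtain ⟨b₂, hb₂⟩ := exists_fixLine hF (hcl _ hyS (herm_smul_smul_zero hvv _ _))
      (a := b / y) (by rwa [smul_smul, div_mul_cancel₀ _ hy0])
    have hsurj : Function.Surjective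
        ((ipHom (q := q) W (x • u)).prod (ipHom (q := q) W (y • v))) := by
      refine ipPair_surjective hF hW (W.smul_mem _ hu) (W.smul_mem _ hv) (smul_ne_zero hx0 hu0)
        fun c hc => hind (c * x / y) ?_
      rw [div_eq_inv_mul, ← smul_smul, ← smul_smul, ← hc, inv_smul_smul₀ hy0]
    have h1 := card_preimage_mul _ hsurj (fixLine (q := q) b₁ ×ˢ fixLine (q := q) b₂)
    rw [Nat.card_prod, Nat.card_eq_fintype_card (α := F), hF] at h1
    have h2 : Nat.card (fixLine (q := q) b₁ ×ˢ fixLine (q := q) b₂ : Set (F × F)) ≤ q * q := by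
      rw [Nat.card_congr (Equiv.Set.prod _ _), Nat.card_prod]
      exact Nat.mul_le_mul (card_fixLine_le hF _) (card_fixLine_le hF _)
    have h3 : Nat.card S * (q ^ 2 * q ^ 2) ≤ Nat.card W * (q * q) := by
      refine le_trans (Nat.mul_le_mul_right _ ?_) (h1.le.trans (Nat.mul_le_mul_left _ h2))
      exact Nat.card_le_card_of_injective (fun s : S => (⟨⟨(s : Fin n → F), hS _ s.2⟩,
        hb₁ _ s.2, hb₂ _ s.2⟩ : {w : W // (ipHom (q := q) W (x • u)).prod
          (ipHom (q := q) W (y • v)) w ∈ fixLine (q := q) b₁ ×ˢ fixLine (q := q) b₂}))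
        fun a b hab => Subtype.ext (congrArg (fun x => ((x.1 : W) : Fin n → F)) hab :)
    have hq2 : 0 < q * q := Nat.mul_pos (by have := two_le_q hF; omega) (by
      have := two_le_q hF; omega)
    have h4 : Nat.card S * q ^ 2 ≤ Nat.card W := by
      refine Nat.le_of_mul_le_mul_right (c := q * q) ?_ hq2
      rw [show Nat.card S * q ^ 2 * (q * q) = Nat.card S * (q ^ 2 * q ^ 2) by ring]
      exact h3
    rw [mul_comm] at h4
    omega
  obtain ⟨e₀, he₀W, he₀0, he₀⟩ := exists_iso_in hF hW hd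
  obtain ⟨e, heW, he0, he, hfull⟩ : ∃ e ∈ W, e ≠ 0 ∧ ⟪e, e⟫ = 0 ∧
      ∀ v ∈ W, ⟪v, v⟫ = 0 → (∀ c : F, v ≠ c • e) → ∀ a : F, a • v ∈ S := by
    by_cases hall : ∀ v ∈ W, ⟪v, v⟫ = 0 → ∀ a : F, a • v ∈ S
    · exact ⟨e₀, he₀W, he₀0, he₀, fun v hv hvv _ => hall v hv hvv⟩
    · push Not at hall
      obtain ⟨e, heW, he, a, ha⟩ := hall
      have he0 : e ≠ 0 := fun h => ha (by rw [h, smul_zero]; exact S.zero_mem)
      refine ⟨e, heW, he0, he, fun v hv hvv hind b => by_contra fun hb => ?_⟩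
      have hv0 : v ≠ 0 := fun h => hind 0 (by rw [h, zero_smul])
      obtain ⟨c, hc⟩ := hone e v heW hv he hvv he0 hv0 a b ha hb
      exact hind c hc
  obtain ⟨f, hP⟩ := HP.exists_of_iso hF hW heW he0 he
  have hvec : ∀ t k, k ∈ pairPerp q W e f → t + t ^ q + ⟪k, k⟫ = 0 →
      ∀ a : F, a • (t • e + f + k) ∈ S := by
    intro t k hk ht
    refine hfull _ (W.add_mem (W.add_mem (W.smul_mem _ heW) hP.fW) (pairPerp_le hk)) ?_ ?_
    · simp only [herm_add_left, herm_add_right hF, herm_smul_left, herm_smul_right, he, hP.ff,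
        hP.ef, hP.fe, perp_e hk, perp_f hk, e_perp hF hk, f_perp hF hk]
      linear_combination ht
    · intro c hc
      have := congrArg (fun x => ⟪x, e⟫) hc
      simp only [herm_add_left, herm_smul_left, he, hP.fe, perp_e hk, mul_zero, zero_add,
        add_zero] at this
      exact one_ne_zero this
  have hf : ∀ a : F, a • f ∈ S := fun a => by
    have := hvec 0 0 (Submodule.zero_mem _)
      (by rw [zero_pow_q hF, herm_zero_left, add_zero, add_zero]) a
    rwa [zero_smul, zero_add, add_zero] at this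
  have hE : ∀ a : F, a • e ∈ S := fun a => by
    have := hvec (c0 hF) 0 (Submodule.zero_mem _)
      (by rw [herm_zero_left, add_zero, c0_skew]) (a / c0 hF)
    rw [add_zero, smul_add, smul_smul, div_mul_cancel₀ _ (c0_ne hF)] at this
    simpa using S.sub_mem this (hf (a / c0 hF))
  obtain ⟨x, hxW, hxS⟩ := hproper
  refine hxS ?_
  have hk := hP.decomp hxW
  obtain ⟨t, ht⟩ := exists_trace hF
    (a := -⟪x - ⟪x, f⟫ • e - ⟪x, e⟫ • f, x - ⟪x, f⟫ • e - ⟪x, e⟫ • f⟫)
    (by rw [neg_pow_q hF, herm_self_pow hF])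
  have h1 := hvec t _ hk (by linear_combination ht) 1
  rw [one_smul] at h1
  have := S.add_mem (S.add_mem (S.sub_mem (S.sub_mem h1 (hE t)) (hf 1)) (hE ⟪x, f⟫)) (hf ⟪x, e⟫)
  convert this using 1
  rw [one_smul]
  abel

theorem card_range_imgS_le (S : AddSubgroup (Fin n → F)) :
    Nat.card (Set.range fun g : GS q W => imgS (g : SU n F q) S) ≤ Nat.card (imgsT hF W S) := by
  have : Finite (GS q W × {a : fixedSet hF // a ≠ 0}) := inferInstance
  refine Nat.card_mono (Set.finite_range _) ?_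
  rintro _ ⟨g, rfl⟩
  refine ⟨(g, ⟨⟨1, (mem_fixedSet hF).2 (one_pow q)⟩, fun h => one_ne_zero (congrArg Subtype.val h)⟩),
    ?_⟩
  ext x
  simp only [AddSubgroup.mem_map, mem_imgS, scaleHom, AddMonoidHom.mk'_apply, one_smul]

/-- The bound for closed subgroups in large dimension. -/
theorem geo_basic {B : ℕ} (hW : Nondeg q W) (hd : 3 ≤ Module.finrank F W) (h : Small hF W B)
    (hB : q ^ 2 * B ≤ Nat.card W) : Geo hF W B := by
  intro S hS hproper hcl
  by_cases hbot : S = ⊥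
  · subst hbot
    rw [AddSubgroup.card_bot, mul_one]
    exact hB.trans (Nat.le_mul_of_pos_right _ (Nat.card_pos_iff.2
      ⟨⟨⟨_, (1, ⟨⟨1, (mem_fixedSet hF).2 (one_pow q)⟩, fun h => one_ne_zero
        (congrArg Subtype.val h)⟩), rfl⟩⟩, Set.finite_range _⟩))
  by_cases hfew : Nat.card (Set.range fun g : GS q W => imgS (g : SU n F q) S) < B
  · obtain ⟨x, hx, hxS⟩ := hproper
    exact absurd (mem_of_rootInv hF hW hd hS hbot
      (fun u huW hu => invAt_of_few hF h hfew huW hu) x hx) hxS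
  push Not at hfew
  calc q ^ 2 * B * Nat.card S = (q ^ 2 * Nat.card S) * B := by ring
    _ ≤ Nat.card W * Nat.card (imgsT hF W S) := Nat.mul_le_mul
      (index_ge hF hW (by omega) hS hproper hcl) (hfew.trans (card_range_imgS_le hF S))

end Cfsg.Agent.MinIndexUnit19
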