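import Mathlib
import Cfsg.Agent.Lib.MinIndexPSUCover55
import Cfsg.Agent.Lib.MinIndexUnit19Geo

/-!
Additive subgroups of a three-dimensional Hermitian space: the numbers of their images under the
unitary group are large compared with their orders.
-/

set_option autoImplicit false

namespace Cfsg.Agent.MinIndexPSUThree55

open Cfsg Cfsg.Agent.OrthUnitaryHerm Cfsg.Agent.OrthUnitaryTransvection
  Cfsg.Agent.SUMinDegree32Geom Cfsg.Agent.MinIndexUnit19 Cfsg.Agent.MinIndexPSUCover55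

variable {F : Type*} [Field F] [Fintype F] {q n : ℕ}
variable {W : Submodule F (Fin n → F)} {S : AddSubgroup (Fin n → F)}

local notation "⟪" x ", " y "⟫" => hermForm n F q x y

variable (hF : Fintype.card F = q ^ 2)
include hF

/-- Root groups act trivially on fewer than two points. -/
theorem small_two : Small hF W 2 := by
  intro k hk ρ e heW he r
  have : Subsingleton (Fin k) := ⟨fun a b => Fin.ext (by omega)⟩
  exact Subsingleton.elim _ _

/-- A proper nonzero subgroup has at least as many images as any bound. -/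
theorem bound_le_imgs {B : ℕ} (hW : Nondeg q W) (hd : 3 ≤ Module.finrank F W) (h : Small hF W B)
    (hS : ∀ s ∈ S, s ∈ W) (hbot : S ≠ ⊥) (hproper : ∃ x ∈ W, x ∉ S) :
    B ≤ Nat.card (imgs q W S) := by
  by_contra hlt
  push Not at hlt
  obtain ⟨x, hx, hxS⟩ := hproper
  exact hxS (mem_of_rootInv hF hW hd hS hbot
    (fun u huW hu => invAt_of_few hF h hlt huW hu) x hx)

omit hF in
theorem card_sub_zero (P : (Fin n → F) → Prop) (hP : ¬P 0) :
    Nat.card {s : Fin n → F // s ∈ S ∧ P s} + 1 ≤ Nat.card S := by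
  classical
  rw [Nat.card_eq_fintype_card, Fintype.card_subtype,
    show Nat.card S = Nat.card {s : Fin n → F // s ∈ S} from rfl, Nat.card_eq_fintype_card,
    Fintype.card_subtype, ← Finset.card_insert_of_notMem (a := (0 : Fin n → F)) (by simp [hP])]
  refine Finset.card_le_card fun s hs => ?_
  rcases Finset.mem_insert.1 hs with rfl | hs
  · simp [S.zero_mem]
  · simp [(Finset.mem_filter.1 hs).2.1]

/-- The basic bound from covering. -/
theorem core_bound (hW : Nondeg q W) (hd : Module.finrank F W = 3) (hS : ∀ s ∈ S, s ∈ W)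
    (hbot : S ≠ ⊥) :
    (q ^ 2 - 1) * (q ^ 3 + 1) ≤ Nat.card (imgs q W S) * (Nat.card S - 1) := by
  obtain ⟨x, hxS, hx0⟩ : ∃ x ∈ S, x ≠ 0 := by
    by_contra! h
    exact hbot ((AddSubgroup.eq_bot_iff_forall _).2 h)
  by_cases hxx : ⟪x, x⟫ = 0
  · have h := cover (q := q) (W := W) (S := S) (P := fun v => v ∈ W ∧ v ≠ 0 ∧ ⟪v, v⟫ = 0)
      (iso_inv hF hW) (iso_trans hF hW (by omega) (hS x hxS) hx0 hxx) (one_le_members hxS)
    rw [card_iso hF hW hd, mul_one] at h
    refine h.trans (Nat.mul_le_mul_left _ (Nat.le_sub_one_of_lt ?_))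
    exact card_sub_zero _ fun h => h.2.1 rfl
  · have h := cover (q := q) (W := W) (S := S) (P := fun v => v ∈ W ∧ ⟪v, v⟫ = ⟪x, x⟫)
      (norm_inv hF hW _) (norm_trans hF hW hd (hS x hxS) hxx rfl) (one_le_members hxS)
    rw [card_norm hF hW hd hxx (herm_self_pow hF x), mul_one] at h
    refine (Nat.mul_le_mul_right _ (Nat.sub_le _ _)).trans
      (h.trans (Nat.mul_le_mul_left _ (Nat.le_sub_one_of_lt ?_)))
    exact card_sub_zero _ fun h => hxx (by rw [← h.2, herm_zero_left])

/-- An isotropic vector perpendicular to an isotropic vector is a multiple of it. -/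
theorem perp_iso (hW : Nondeg q W) (hd : Module.finrank F W = 3) {x y : Fin n → F} (hxW : x ∈ W)
    (hyW : y ∈ W) (hx0 : x ≠ 0) (hx : ⟪x, x⟫ = 0) (hy : ⟪y, y⟫ = 0) (hyx : ⟪y, x⟫ = 0) :
    ∃ a : F, y = a • x := by
  obtain ⟨f, hP⟩ := HP.exists_of_iso hF hW hxW hx0 hx
  have hk := hP.decomp hyW
  rw [hyx, zero_smul, sub_zero] at hk
  refine ⟨⟪y, f⟫, sub_eq_zero.1 (eq_zero_of_finrank_one (hP.nondeg hF hW) ?_ hk ?_)⟩
  · have := hP.finrank hF
    omega
  · simp only [herm_sub_left, herm_sub_right hF, herm_smul_left, herm_smul_right, hx, hy, hyx,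
      herm_skew_zero hF hyx]
    ring

/-- The isotropic vectors of a subgroup perpendicular to an isotropic vector. -/
theorem card_perp_iso (hW : Nondeg q W) (hd : Module.finrank F W = 3) {x : Fin n → F}
    (hxW : x ∈ W) (hx0 : x ≠ 0) (hx : ⟪x, x⟫ = 0) (hperp : ∀ s ∈ S, ⟪s, x⟫ = 0) :
    Nat.card {s : Fin n → F // s ∈ S ∧ (s ∈ W ∧ s ≠ 0 ∧ ⟪s, s⟫ = 0)} ≤ q ^ 2 - 1 := by
  classical
  have h : Nat.card {a : F // a ≠ 0} = q ^ 2 - 1 := by
    rw [Nat.card_eq_fintype_card, Fintype.card_subtype_compl, Fintype.card_subtype_eq, hF]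
  rw [← h]
  choose a ha using fun s : {s : Fin n → F // s ∈ S ∧ (s ∈ W ∧ s ≠ 0 ∧ ⟪s, s⟫ = 0)} =>
    perp_iso hF hW hd hxW s.2.2.1 hx0 hx s.2.2.2.2 (hperp _ s.2.1)
  exact Nat.card_le_card_of_injective (fun s => ⟨a s, fun h0 => s.2.2.2.1 (by
    rw [ha s, h0, zero_smul])⟩) fun s t hst => Subtype.ext (by
      rw [ha s, ha t, show a s = a t from congrArg Subtype.val hst])

/-- Subgroups of order eight or sixteen over four elements. -/
theorem order_two_bound (hq2 : q = 2) (hW : Nondeg q W) (hd : Module.finrank F W = 3)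
    (hS : ∀ s ∈ S, s ∈ W) (hc : Nat.card S = 8 ∨ Nat.card S = 16) :
    36 ≤ Nat.card (imgs q W S) * Nat.card S := by
  classical
  subst hq2
  obtain ⟨x₁, hx₁S, hx₁0⟩ : ∃ x ∈ S, x ≠ 0 := by
    by_contra! h
    rw [(AddSubgroup.eq_bot_iff_forall _).2 h, AddSubgroup.card_bot] at hc
    omega
  have hconc : ∀ Z M K : ℕ, K * M ≤ Nat.card (imgs 2 W S) * Z → 27 ≤ K →
      (Z ≤ 3 ∧ 1 ≤ M ∨ Z + 1 ≤ Nat.card S ∧ 2 ≤ M ∨
        Z + 1 ≤ Nat.card S ∧ 1 ≤ M ∧ 36 ≤ K ∨ Nat.card S = 16 ∧ Z ≤ 12 ∧ 1 ≤ M) →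
      36 ≤ Nat.card (imgs 2 W S) * Nat.card S := by
    intro Z M K h hK hcase
    set T := Nat.card (imgs 2 W S)
    rcases hcase with ⟨hZ, hM⟩ | ⟨hZ, hM⟩ | ⟨hZ, hM, hK'⟩ | ⟨h16, hZ, hM⟩
    · have h' : 27 ≤ T * 3 :=
        le_trans (by nlinarith) (h.trans (Nat.mul_le_mul_left _ hZ))
      rcases hc with e | e <;> rw [e] <;> omega
    · have h' : 54 ≤ T * (Nat.card S - 1) :=
        le_trans (by nlinarith) (h.trans (Nat.mul_le_mul_left _ (by omega)))
      rcases hc with e | e <;> rw [e] at h' ⊢ <;> omega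
    · have h' : 36 ≤ T * (Nat.card S - 1) :=
        le_trans (by nlinarith) (h.trans (Nat.mul_le_mul_left _ (by omega)))
      rcases hc with e | e <;> rw [e] at h' ⊢ <;> omega
    · have h' : 27 ≤ T * 12 :=
        le_trans (by nlinarith) (h.trans (Nat.mul_le_mul_left _ hZ))
      rw [h16]; omega
  by_cases hiso : ∃ x ∈ S, x ≠ 0 ∧ hermForm n F 2 x x = 0
  swap
  · push Not at hiso
    have hx := hiso x₁ hx₁S hx₁0
    have h := cover (q := 2) (W := W) (S := S)
      (P := fun v => v ∈ W ∧ hermForm n F 2 v v = hermForm n F 2 x₁ x₁)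
      (norm_inv hF hW _) (norm_trans hF hW hd (hS _ hx₁S) hx rfl) (one_le_members hx₁S)
    refine hconc _ _ _ h ?_ (Or.inr (Or.inr (Or.inl ⟨card_sub_zero _ fun h =>
      hx (by rw [← h.2, herm_zero_left]), le_rfl, ?_⟩))) <;>
      rw [card_norm hF hW hd hx (herm_self_pow hF x₁)] <;> norm_num
  obtain ⟨x, hxS, hx0, hx⟩ := hiso
  have hcov := fun M hM => cover (q := 2) (W := W) (S := S)
    (P := fun v => v ∈ W ∧ v ≠ 0 ∧ hermForm n F 2 v v = 0) (M := M)
    (iso_inv hF hW) (iso_trans hF hW (by omega) (hS x hxS) hx0 hx) hM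
  have hK : 27 ≤ Nat.card {v : Fin n → F // v ∈ W ∧ v ≠ 0 ∧ hermForm n F 2 v v = 0} := by
    rw [card_iso hF hW hd]; norm_num
  by_cases hperp : ∀ s ∈ S, hermForm n F 2 s x = 0
  · exact hconc _ _ _ (hcov 1 (one_le_members hxS)) hK (Or.inl
      ⟨card_perp_iso hF hW hd (hS x hxS) hx0 hx hperp, le_rfl⟩)
  push Not at hperp
  obtain ⟨s, hs, hsx⟩ := hperp
  obtain ⟨f, hP⟩ := HP.exists_of_iso hF hW (hS x hxS) hx0 hx
  by_cases hmove : ∃ (w : Fin n → F) (μ : F) (hw : w ∈ pairPerp 2 W x f)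
      (hμ : μ + μ ^ 2 + hermForm n F 2 w w = 0),
      imgS ((Qel hF hP hw hμ : GS 2 W) : SU n F 2) S ≠ S
  · obtain ⟨w, μ, hw, hμ, hne⟩ := hmove
    refine hconc _ _ _ (hcov 2 ?_) hK (Or.inr (Or.inl ⟨card_sub_zero _ fun h => h.2.1 rfl,
      le_rfl⟩))
    have h2 := card_le_members (q := 2) (W := W) (S := S) (x := x) (ι := Bool)
      (fun b => if b then Qel hF hP hw hμ else 1) (fun a b h => by
        rcases a <;> rcases b <;>
          simp only [Bool.false_eq_true, if_false, if_true, OneMemClass.coe_one, imgS_one] at h <;>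
          first | rfl | exact absurd h hne | exact absurd h.symm hne) (fun b => by
        rcases b <;> simp only [Bool.false_eq_true, if_false, if_true]
        · rw [OneMemClass.coe_one, imgS_one]; exact hxS
        · refine mem_imgS.2 ⟨x, hxS, ?_⟩
          rw [Qel, Eg_coe, eich_self hF])
    simpa using h2
  push Not at hmove
  -- the Heisenberg group fixes `S`
  set L := pairPerp 2 W x f
  have hL : Nat.card L = 4 := by
    rw [card_submodule hF]
    have : Module.finrank F L + 2 = Module.finrank F W := hP.finrank hF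
    rw [show Module.finrank F L = 1 by omega]
    norm_num
  choose μ hμ using fun w : L => exists_mu hF (w : Fin n → F)
  set c := hermForm n F 2 s x
  let Φ : L × fixedSet hF → Fin n → F := fun p =>
    c • (p.1 : Fin n → F) + ((μ p.1 + c0 hF * (p.2 : F)) * c - hermForm n F 2 s p.1) • x
  have hΦS : ∀ p, Φ p ∈ S := by
    intro p
    have hμ' : μ p.1 + c0 hF * (p.2 : F) + (μ p.1 + c0 hF * (p.2 : F)) ^ 2 +
        hermForm n F 2 (p.1 : Fin n → F) (p.1 : Fin n → F) = 0 := by
      rw [add_pow_q hF]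
      linear_combination hμ p.1 + c0_mul_skew hF p.2.2
    have h := hmove _ _ p.1.2 hμ'
    have hmem : act ((Qel hF hP p.1.2 hμ' : GS 2 W) : SU n F 2) s ∈ S := by
      have h' : act ((Qel hF hP p.1.2 hμ' : GS 2 W) : SU n F 2) s ∈
          imgS ((Qel hF hP p.1.2 hμ' : GS 2 W) : SU n F 2) S := mem_imgS.2 ⟨s, hs, rfl⟩
      rwa [h] at h'
    have := S.sub_mem hmem hs
    rw [Qel, Eg_coe, eich_act, add_assoc, add_sub_cancel_left] at this
    exact this
  have hΦx : ∀ p, hermForm n F 2 (Φ p) x = 0 := fun p => by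
    simp only [Φ, herm_add_left, herm_smul_left, perp_e p.1.2, hx]; ring
  have hΦn : ∀ p, hermForm n F 2 (Φ p) (Φ p) =
      c * (c ^ 2 * hermForm n F 2 (p.1 : Fin n → F) (p.1 : Fin n → F)) := fun p => by
    simp only [Φ, herm_add_left, herm_add_right hF, herm_smul_left, herm_smul_right,
      perp_e p.1.2, e_perp hF p.1.2, hx]
    ring
  have hΦ0 : ∀ p, hermForm n F 2 (Φ p) (Φ p) = 0 → p.1 = 0 := fun p h => by
    rw [hΦn] at h
    have h1 := ((mul_eq_zero.1 ((mul_eq_zero.1 h).resolve_left hsx)).resolve_left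
      (pow_ne_zero _ hsx))
    exact Subtype.ext (eq_zero_of_finrank_one (hP.nondeg hF hW)
      (by have := hP.finrank hF; omega) p.1.2 h1)
  have hinj : Function.Injective Φ := by
    rintro ⟨a, r⟩ ⟨b, r'⟩ h
    obtain ⟨k, hk, hkk⟩ := exists_norm_in hF (hP.nondeg hF hW)
      (pairPerp_ne_bot hF (by omega) hP) (one_pow 2) one_ne_zero
    have hab : a = b := by
      have h1 : c • ((a : Fin n → F) - b) = (((μ b + c0 hF * (r' : F)) * c -
          hermForm n F 2 s b) - ((μ a + c0 hF * (r : F)) * c - hermForm n F 2 s a)) • x := by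
        rw [smul_sub, sub_smul, ← sub_eq_zero]
        rw [← sub_eq_zero] at h
        simp only [Φ] at h
        rw [← h]; abel
      have h2 := congrArg (fun y => hermForm n F 2 y f) h1
      simp only [herm_smul_left, herm_sub_left, perp_f a.2, perp_f b.2, hP.ef, sub_zero,
        mul_zero, mul_one] at h2
      rw [← h2, zero_smul, smul_eq_zero, sub_eq_zero] at h1
      exact Subtype.ext (h1.resolve_left hsx)
    subst hab
    have h2 := congrArg (fun y => hermForm n F 2 y f) h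
    simp only [Φ, herm_add_left, herm_smul_left, perp_f a.2, hP.ef, mul_zero, mul_one,
      zero_add] at h2
    have h3 : c0 hF * (r : F) * c = c0 hF * (r' : F) * c := by linear_combination h2
    rw [Subtype.ext (mul_left_cancel₀ (c0_ne hF) (mul_right_cancel₀ hsx h3))]
  -- eight elements of `S` perpendicular to `x`, and `s`
  have h9 : 9 ≤ Nat.card S := by
    have hcard : Nat.card (Option (L × fixedSet hF)) = 9 := by
      rw [Nat.card_eq_fintype_card, Fintype.card_option, ← Nat.card_eq_fintype_card,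
        Nat.card_prod, hL, card_fixedSet hF]
    rw [← hcard]
    refine Nat.card_le_card_of_injective
      (fun o => o.elim ⟨s, hs⟩ fun p => (⟨Φ p, hΦS p⟩ : S)) ?_
    rintro (_ | a) (_ | b) h
    · rfl
    · exact absurd ((congrArg (fun y => hermForm n F 2 y x) (show s = Φ b from congrArg Subtype.val h)).trans (hΦx b)) hsx
    · exact absurd ((congrArg (fun y => hermForm n F 2 y x) (show s = Φ a from (congrArg Subtype.val h).symm)).trans (hΦx a)) hsx
    · exact congrArg some (hinj (congrArg Subtype.val h))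
  have h16 : Nat.card S = 16 := hc.resolve_left (by omega)
  refine hconc _ _ _ (hcov 1 (one_le_members hxS)) hK (Or.inr (Or.inr (Or.inr ⟨h16, ?_, le_rfl⟩)))
  have hdis := Nat.card_le_card_of_injective
    (fun o : {v : Fin n → F // v ∈ S ∧ (v ∈ W ∧ v ≠ 0 ∧ hermForm n F 2 v v = 0)} ⊕
        Option {a : L // a ≠ 0} =>
      o.elim (fun v => (⟨v.1, v.2.1⟩ : S))
        fun o => o.elim 0 fun a => ⟨Φ (a.1, 0), hΦS _⟩) (by
    rintro (⟨v, hv⟩ | _ | a) (⟨v', hv'⟩ | _ | b) h
    · exact congrArg Sum.inl (Subtype.ext (congrArg Subtype.val h :))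
    · exact absurd (congrArg Subtype.val h) hv.2.2.1
    · have h' : v = Φ (b.1, 0) := congrArg Subtype.val h
      exact absurd (hΦ0 _ (h' ▸ hv.2.2.2)) b.2
    · exact absurd (congrArg Subtype.val h).symm hv'.2.2.1
    · rfl
    · exact absurd (hΦ0 (b.1, 0) (by
        rw [← show (0 : Fin n → F) = Φ (b.1, 0) from congrArg Subtype.val h, herm_zero_left])) b.2
    · have h' : Φ (a.1, 0) = v' := congrArg Subtype.val h
      exact absurd (hΦ0 _ (h'.symm ▸ hv'.2.2.2)) a.2
    · exact absurd (hΦ0 (a.1, 0) (by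
        rw [show Φ (a.1, 0) = (0 : Fin n → F) from congrArg Subtype.val h, herm_zero_left])) a.2
    · exact congrArg (fun z => Sum.inr (some z))
        (Subtype.ext (congrArg Prod.fst (hinj (congrArg Subtype.val h)))))
  rw [Nat.card_sum, h16, Nat.card_eq_fintype_card (α := Option {a : L // a ≠ 0}),
    Fintype.card_option, Fintype.card_subtype_compl, Fintype.card_subtype_eq,
    ← Nat.card_eq_fintype_card, hL] at hdis
  omega

/-- The bound for closed subgroups in dimension three. -/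
theorem geo_three {B : ℕ} (hW : Nondeg q W) (hd : Module.finrank F W = 3) (h : Small hF W B)
    (hB : q = 2 ∨ q ^ 3 + 1 ≤ 2 * B ∨ q = 5 ∧ 50 ≤ B) :
    MinIndexUnit19.Geo hF W (q ^ 3 + 1) := by
  classical
  intro S hS hproper _
  have hq := two_le_q hF
  refine le_trans ?_ (Nat.mul_le_mul_left _ (card_range_imgS_le hF S))
  show _ ≤ Nat.card W * Nat.card (imgs q W S)
  have hTpos : 1 ≤ Nat.card (imgs q W S) := by
    have := (finite_imgs (q := q) (W := W) S).to_subtype
    exact Nat.card_pos_iff.2 ⟨⟨⟨_, 1, rfl⟩⟩, inferInstance⟩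
  by_cases hbot : S = ⊥
  · subst hbot
    rw [AddSubgroup.card_bot, mul_one, card_submodule hF, hd]
    refine le_trans ?_ (Nat.le_mul_of_pos_right _ hTpos)
    have h2 : q ^ 3 + 1 ≤ q ^ 4 := by
      have h8 : 2 ^ 3 ≤ q ^ 3 := Nat.pow_le_pow_left hq 3
      rw [pow_succ q 3]; nlinarith
    calc q ^ 2 * (q ^ 3 + 1) ≤ q ^ 2 * q ^ 4 := Nat.mul_le_mul_left _ h2
      _ = _ := by ring
  obtain ⟨ψ, hψ, -⟩ := exists_char hF (P := (⊥ : AddSubgroup (fixedSet hF))) fun h => by
    have h1 := AddSubgroup.card_top (G := fixedSet hF)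
    rw [← h, AddSubgroup.card_bot, card_fixedSet hF] at h1
    omega
  set D := annS hF W S ψ with hD
  have hmul := card_mul_annS hF hW hS hψ
  rw [← hmul, mul_comm (q ^ 2 * (q ^ 3 + 1)), mul_assoc]
  refine Nat.mul_le_mul_left _ ?_
  have hDW : ∀ s ∈ D, s ∈ W := fun s hs => ((mem_annS hF).1 hs).1
  have hle := card_imgs_annS_le hF hW S ψ
  rw [← hD] at hle
  rw [← hD, card_submodule hF, hd] at hmul
  have hDbot : D ≠ ⊥ := by
    intro hb
    rw [hb, AddSubgroup.card_bot, mul_one] at hmul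
    obtain ⟨x, hxW, hxS⟩ := hproper
    refine hxS ?_
    have hb2 : Function.Bijective (fun s : S => (⟨s.1, hS _ s.2⟩ : W)) :=
      (show Function.Injective (fun s : S => (⟨s.1, hS _ s.2⟩ : W)) from fun a b hab =>
        Subtype.ext (congrArg Subtype.val hab :)).bijective_of_nat_card_le
        (by rw [card_submodule hF, hd, ← hmul])
    obtain ⟨s, hs⟩ := hb2.2 ⟨x, hxW⟩
    have hsx : (s : Fin n → F) = x := congrArg Subtype.val hs
    rw [← hsx]; exact s.2
  have hd1 : 1 < Nat.card D := by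
    by_contra hle1
    exact hDbot (AddSubgroup.eq_bot_of_card_le _ (by omega))
  by_cases hsmall : Nat.card D ≤ q ^ 2
  · have h1 := (core_bound hF hW hd hDW hDbot).trans (Nat.mul_le_mul_right _ hle)
    have h2 : q ^ 2 * (Nat.card D - 1) ≤ (q ^ 2 - 1) * Nat.card D := by
      rw [Nat.mul_sub, Nat.sub_mul, mul_one, one_mul]
      omega
    refine Nat.le_of_mul_le_mul_right (c := Nat.card D - 1) ?_ (by omega)
    calc q ^ 2 * (q ^ 3 + 1) * (Nat.card D - 1) = q ^ 2 * (Nat.card D - 1) * (q ^ 3 + 1) := by ring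
      _ ≤ (q ^ 2 - 1) * Nat.card D * (q ^ 3 + 1) := Nat.mul_le_mul_right _ h2
      _ = Nat.card D * ((q ^ 2 - 1) * (q ^ 3 + 1)) := by ring
      _ ≤ Nat.card D * (Nat.card (imgs q W S) * (Nat.card D - 1)) := Nat.mul_le_mul_left _ h1
      _ = _ := by ring
  push Not at hsmall
  obtain ⟨p, e, hp, -, he, hpe⟩ := exists_prime_pow hF
  obtain ⟨i, hi, hDi⟩ := (Nat.dvd_prime_pow hp).1
    (show Nat.card D ∣ p ^ (e * (2 * 3)) by rw [pow_mul, ← hpe, ← hmul]; exact Dvd.intro_left _ rfl)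
  have hpD : p * q ^ 2 ≤ Nat.card D := by
    rw [hDi, hpe, ← pow_mul, ← pow_succ']
    rw [hDi, hpe, ← pow_mul] at hsmall
    exact Nat.pow_le_pow_right hp.one_le
      ((Nat.pow_lt_pow_iff_right hp.one_lt).1 hsmall)
  have hB' := bound_le_imgs hF hW (by omega) h hS hbot hproper
  rcases hB with rfl | hB | ⟨rfl, hB⟩
  · -- four elements
    have hT2 := bound_le_imgs hF hW (by omega) (small_two hF) hS hbot hproper
    have hp2 : p = 2 := (Nat.prime_dvd_prime_iff_eq hp Nat.prime_two).1 (by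
      rw [hpe]; exact dvd_pow_self p (by omega))
    subst hp2
    have he1 : e = 1 := (Nat.pow_right_injective le_rfl (hpe.trans rfl)).symm.trans rfl
    subst he1
    by_cases h32 : 32 ≤ Nat.card D
    · exact le_trans (by norm_num : 2 ^ 2 * (2 ^ 3 + 1) ≤ 32 * 2) (Nat.mul_le_mul h32 hT2)
    · have hi5 : i < 5 := by
        by_contra h5
        exact h32 (hDi ▸ Nat.pow_le_pow_right two_pos (by omega : 5 ≤ i))
      have hD8 : Nat.card D = 8 ∨ Nat.card D = 16 := by
        rw [hDi] at hsmall ⊢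
        interval_cases i <;> norm_num at hsmall <;> omega
      have := order_two_bound hF rfl hW hd hDW hD8
      calc 2 ^ 2 * (2 ^ 3 + 1) ≤ Nat.card (imgs 2 W D) * Nat.card D := this
        _ ≤ _ := by rw [mul_comm]; exact Nat.mul_le_mul_left _ hle
  · calc q ^ 2 * (q ^ 3 + 1) ≤ q ^ 2 * (p * B) :=
          Nat.mul_le_mul_left _ (hB.trans (Nat.mul_le_mul_right _ hp.two_le))
      _ = p * q ^ 2 * B := by ring
      _ ≤ _ := Nat.mul_le_mul hpD hB'
  · have hp5 : p = 5 := (Nat.prime_dvd_prime_iff_eq hp (by norm_num)).1 (by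
      rw [hpe]; exact dvd_pow_self p (by omega))
    subst hp5
    exact le_trans (by norm_num : 5 ^ 2 * (5 ^ 3 + 1) ≤ 5 * 5 ^ 2 * 50)
      ((Nat.mul_le_mul_left _ hB).trans (Nat.mul_le_mul hpD hB'))

end Cfsg.Agent.MinIndexPSUThree55
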