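import Mathlib
import Cfsg.Agent.Lib.MinIndexPSUThree55

/-!
Isotropic additive subgroups of a three-dimensional Hermitian space have many images: this bounds
the moved orbits of the Heisenberg group in dimension five.
-/

set_option autoImplicit false

namespace Cfsg.Agent.MinIndexPSUFree55

open Cfsg Cfsg.Agent.OrthUnitaryHerm Cfsg.Agent.OrthUnitaryTransvection
  Cfsg.Agent.SUMinDegree32Geom Cfsg.Agent.MinIndexUnit19 Cfsg.Agent.MinIndexPSUCover55
  Cfsg.Agent.MinIndexPSUThree55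

variable {F : Type*} [Field F] [Fintype F] {q n : ℕ}
variable {W : Submodule F (Fin n → F)} {S : AddSubgroup (Fin n → F)}

local notation "⟪" x ", " y "⟫" => hermForm n F q x y

variable (hF : Fintype.card F = q ^ 2)
include hF

theorem herm_symm_of_isot (hI : Isot hF ⊥ S) {s s' : Fin n → F} (hs : s ∈ S) (hs' : s' ∈ S) :
    ⟪s', s⟫ = ⟪s, s'⟫ := by
  have h := c0_mul_bf hF s s'
  rw [show bf hF s s' = 0 from AddSubgroup.mem_bot.1 (hI s hs s' hs'), AddSubgroup.coe_zero,
    mul_zero] at h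
  exact sub_eq_zero.1 h.symm

theorem herm_real (hI : Isot hF ⊥ S) {s s' : Fin n → F} (hs : s ∈ S) (hs' : s' ∈ S) :
    ⟪s, s'⟫ ^ q = ⟪s, s'⟫ := by
  rw [← herm_conj hF, herm_symm_of_isot hF hI hs hs']

/-- A maximal isotropic subgroup contains every vector with real products against it. -/
theorem mem_of_symm (hW : Nondeg q W) (hS : ∀ s ∈ S, s ∈ W) (hI : Isot hF ⊥ S)
    (hcard : Nat.card S * Nat.card S = Nat.card W) {y : Fin n → F} (hy : y ∈ W)
    (h : ∀ s ∈ S, ⟪s, y⟫ = ⟪y, s⟫) : y ∈ S := by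
  have hq := two_le_q hF
  obtain ⟨ψ, hψ, -⟩ := exists_char hF (P := (⊥ : AddSubgroup (fixedSet hF))) fun h => by
    have h1 := AddSubgroup.card_top (G := fixedSet hF)
    rw [← h, AddSubgroup.card_bot, card_fixedSet hF] at h1
    omega
  have hmem : ∀ s : S, (s : Fin n → F) ∈ annS hF W S ψ := fun s => (mem_annS hF).2
    ⟨hS _ s.2, fun s' hs' => by
      rw [show bf hF (s : Fin n → F) s' = 0 from AddSubgroup.mem_bot.1 (hI _ s.2 _ hs'),
        AddChar.map_zero_eq_one]⟩
  have hb : Function.Bijective (fun s : S => (⟨s.1, hmem s⟩ : annS hF W S ψ)) :=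
    (show Function.Injective (fun s : S => (⟨s.1, hmem s⟩ : annS hF W S ψ)) from fun a b hab =>
      Subtype.ext (congrArg Subtype.val hab :)).bijective_of_nat_card_le (by
        have := card_mul_annS hF hW hS hψ
        rw [← hcard] at this
        exact (Nat.eq_of_mul_eq_mul_left Nat.card_pos this).le)
  have hy' : y ∈ annS hF W S ψ := (mem_annS hF).2 ⟨hy, fun s hs => by
    have h0 : bf hF y s = 0 := Subtype.ext (mul_left_cancel₀ (c0_ne hF) (by
      rw [c0_mul_bf, h s hs, sub_self, AddSubgroup.coe_zero, mul_zero]))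
    rw [h0, AddChar.map_zero_eq_one]⟩
  obtain ⟨s, hs⟩ := hb.2 ⟨y, hy'⟩
  have hsy : (s : Fin n → F) = y := congrArg Subtype.val hs
  rw [← hsy]; exact s.2

/-- A real combination of two squares takes every real value. -/
theorem exists_two_squares {a b c : F} (ha : a ^ q = a) (hb : b ^ q = b) (hc : c ^ q = c)
    (ha0 : a ≠ 0) (hb0 : b ≠ 0) :
    ∃ u v : F, u ^ q = u ∧ v ^ q = v ∧ a * u * u + b * v * v = c := by
  classical
  have hq := two_le_q hF
  set Φ := Finset.univ.filter fun x : F => x ^ q = x with hΦ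
  have hΦc : Φ.card = q := by
    rw [← Fintype.card_subtype, ← Nat.card_eq_fintype_card]
    exact card_fixedSet hF
  have hsq : ∀ d : F, d ≠ 0 → ∀ e : F,
      q + 1 ≤ 2 * (Φ.image fun x => e + d * x * x).card := by
    intro d hd e
    have h0 : (0 : F) ∈ Φ := Finset.mem_filter.2 ⟨Finset.mem_univ _, zero_pow_q hF⟩
    have h1 : ((Φ.erase 0).card) ≤ 2 * ((Φ.erase 0).image fun x => e + d * x * x).card := by
      refine Finset.card_le_mul_card_image _ _ fun y hy => ?_
      obtain ⟨x, -, rfl⟩ := Finset.mem_image.1 hy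
      refine le_trans (Finset.card_le_card (t := {x, -x}) fun z hz => ?_) Finset.card_le_two
      have hzz := (Finset.mem_filter.1 hz).2
      have : (z - x) * (z + x) = 0 := mul_left_cancel₀ hd (by linear_combination hzz)
      rcases mul_eq_zero.1 this with h | h
      · simp [sub_eq_zero.1 h]
      · simp [eq_neg_of_add_eq_zero_left h]
    have h2 : ((Φ.erase 0).image fun x => e + d * x * x).card + 1 ≤
        (Φ.image fun x => e + d * x * x).card := by
      rw [← Finset.card_insert_of_notMem (a := e) (fun he => by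
        obtain ⟨x, hx, hxe⟩ := Finset.mem_image.1 he
        have hx0 := (Finset.mem_erase.1 hx).1
        exact mul_ne_zero (mul_ne_zero hd hx0) hx0 (add_eq_left.1 hxe))]
      refine Finset.card_le_card (Finset.insert_subset ?_ (Finset.image_subset_image
        (Finset.erase_subset _ _)))
      exact Finset.mem_image.2 ⟨0, h0, by ring⟩
    rw [Finset.card_erase_of_mem h0, hΦc] at h1
    omega
  have hX := hsq a ha0 0
  have hY := hsq (-b) (neg_ne_zero.2 hb0) c
  obtain ⟨z, hz1, hz2⟩ : ∃ z, z ∈ Φ.image (fun x => 0 + a * x * x) ∧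
      z ∈ Φ.image (fun x => c + -b * x * x) := by
    by_contra! hdis
    have hsub : Φ.image (fun x => 0 + a * x * x) ∪ Φ.image (fun x => c + -b * x * x) ⊆ Φ := by
      intro z hz
      rcases Finset.mem_union.1 hz with h | h <;> obtain ⟨x, hx, rfl⟩ := Finset.mem_image.1 h <;>
        have hxq := (Finset.mem_filter.1 hx).2 <;>
        refine Finset.mem_filter.2 ⟨Finset.mem_univ _, ?_⟩
      · rw [zero_add, mul_pow, mul_pow, ha, hxq]
      · rw [add_pow_q hF, mul_pow, mul_pow, neg_pow_q hF, hb, hxq, hc]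
    have := Finset.card_le_card hsub
    rw [Finset.card_union_of_disjoint (Finset.disjoint_left.2 hdis), hΦc] at this
    omega
  obtain ⟨u, hu, rfl⟩ := Finset.mem_image.1 hz1
  obtain ⟨v, hv, huv⟩ := Finset.mem_image.1 hz2
  exact ⟨u, v, (Finset.mem_filter.1 hu).2, (Finset.mem_filter.1 hv).2,
    by linear_combination -huv⟩

/-- Two values in the fixed field do not separate `q ^ 3` vectors. -/
theorem exists_perp_pair (hI : Isot hF ⊥ S) (hcard : Nat.card S = q ^ 3) {u v : Fin n → F}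
    (hu : u ∈ S) (hv : v ∈ S) : ∃ z ∈ S, z ≠ 0 ∧ ⟪z, u⟫ = 0 ∧ ⟪z, v⟫ = 0 := by
  classical
  have hq := two_le_q hF
  have : Fintype S := Fintype.ofFinite S
  have : Fintype (fixedSet hF) := Fintype.ofFinite _
  let φ : S → fixedSet hF × fixedSet hF := fun z =>
    (⟨⟪(z : Fin n → F), u⟫, herm_real hF hI z.2 hu⟩, ⟨⟪(z : Fin n → F), v⟫, herm_real hF hI z.2 hv⟩)
  obtain ⟨a, b, hab, h⟩ := Fintype.exists_ne_map_eq_of_card_lt φ (by
    rw [Fintype.card_prod, ← Nat.card_eq_fintype_card, ← Nat.card_eq_fintype_card,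
      card_fixedSet hF, hcard, ← sq]
    exact Nat.pow_lt_pow_right (by omega) (by norm_num))
  have h1 : ⟪(a : Fin n → F), u⟫ = ⟪(b : Fin n → F), u⟫ := congrArg (fun p => (p.1 : F)) h
  have h2 : ⟪(a : Fin n → F), v⟫ = ⟪(b : Fin n → F), v⟫ := congrArg (fun p => (p.2 : F)) h
  exact ⟨(a : Fin n → F) - b, S.sub_mem a.2 b.2,
    fun h0 => hab (Subtype.ext (sub_eq_zero.1 h0)),
    by rw [herm_sub_left, h1, sub_self], by rw [herm_sub_left, h2, sub_self]⟩

variable (hW : Nondeg q W) (hd : Module.finrank F W = 3)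
include hW hd

theorem exists_iso_mem (hS : ∀ s ∈ S, s ∈ W) (hI : Isot hF ⊥ S) (hcard : Nat.card S = q ^ 3) :
    ∃ x ∈ S, x ≠ 0 ∧ ⟪x, x⟫ = 0 := by
  classical
  have hq := two_le_q hF
  by_contra! hno
  have hsq : Nat.card S * Nat.card S = Nat.card W := by
    rw [hcard, card_submodule hF, hd, ← pow_add]
  have hsmul : ∀ r : F, r ^ q = r → ∀ s ∈ S, r • s ∈ S := fun r hr s hs =>
    mem_of_symm hF hW hS hI hsq (W.smul_mem _ (hS s hs)) fun s' hs' => by
      rw [herm_smul_left, herm_smul_right, hr, herm_symm_of_isot hF hI hs hs']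
  obtain ⟨s₁, hs₁, hs₁0, -, -⟩ := exists_perp_pair hF hI hcard S.zero_mem S.zero_mem
  obtain ⟨s₂, hs₂, hs₂0, h21, -⟩ := exists_perp_pair hF hI hcard hs₁ hs₁
  obtain ⟨s₃, hs₃, hs₃0, h31, h32⟩ := exists_perp_pair hF hI hcard hs₁ hs₂
  obtain ⟨u, v, hu, hv, huv⟩ := exists_two_squares hF (c := -⟪s₃, s₃⟫)
    (herm_self_pow hF s₁) (herm_self_pow hF s₂)
    (by rw [neg_pow_q hF, herm_self_pow hF]) (hno s₁ hs₁ hs₁0) (hno s₂ hs₂ hs₂0)
  refine hno (u • s₁ + v • s₂ + s₃)
    (S.add_mem (S.add_mem (hsmul u hu _ hs₁) (hsmul v hv _ hs₂)) hs₃) (fun h => ?_) ?_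
  · have := congrArg (fun y => ⟪y, s₃⟫) h
    simp only [herm_add_left, herm_smul_left, herm_skew_zero hF h31, herm_skew_zero hF h32,
      herm_zero_left, mul_zero, zero_add] at this
    exact hno s₃ hs₃ hs₃0 this
  · simp only [herm_add_left, herm_add_right hF, herm_smul_left, herm_smul_right, hu, hv, h21,
      herm_skew_zero hF h21, h31, h32, herm_skew_zero hF h31, herm_skew_zero hF h32]
    linear_combination huv

/-- A maximal isotropic subgroup has more than `q ^ 3 + q` images. -/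
theorem lagrange_bound (hS : ∀ s ∈ S, s ∈ W) (hI : Isot hF ⊥ S) (hcard : Nat.card S = q ^ 3) :
    q ^ 3 + q + 1 ≤ Nat.card (imgs q W S) := by
  classical
  have hq := two_le_q hF
  obtain ⟨x, hxS, hx0, hx⟩ := exists_iso_mem hF hW hd hS hI hcard
  have hsq : Nat.card S * Nat.card S = Nat.card W := by
    rw [hcard, card_submodule hF, hd, ← pow_add]
  obtain ⟨f, hP⟩ := HP.exists_of_iso hF hW (hS x hxS) hx0 hx
  have hcov := fun M hM => cover (q := q) (W := W) (S := S)
    (P := fun v => v ∈ W ∧ v ≠ 0 ∧ ⟪v, v⟫ = 0) (M := M)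
    (iso_inv hF hW) (iso_trans hF hW (by omega) (hS x hxS) hx0 hx) hM
  set T := Nat.card (imgs q W S)
  have h1q : 1 ≤ q ^ 2 := Nat.one_le_pow _ _ (by omega)
  by_cases hperp : ∀ s ∈ S, ⟪s, x⟫ = 0
  · -- the line of `x` lies in `S`
    have hline : ∀ a : F, a • x ∈ S := fun a =>
      mem_of_symm hF hW hS hI hsq (W.smul_mem _ (hS x hxS)) fun s hs => by
        rw [herm_smul_left, herm_smul_right, hperp s hs, herm_skew_zero hF (hperp s hs)]; simp
    obtain ⟨s₁, hs₁, hs₁k⟩ : ∃ s ∈ S, s - ⟪s, f⟫ • x ≠ 0 := by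
      by_contra! h
      have := Nat.card_le_card_of_injective (fun s : S => ⟪(s : Fin n → F), f⟫)
        fun a b hab => Subtype.ext (by
          rw [sub_eq_zero.1 (h _ a.2), sub_eq_zero.1 (h _ b.2)]
          exact congrArg (· • x) hab)
      rw [hcard, Nat.card_eq_fintype_card (α := F), hF] at this
      exact absurd this (Nat.not_le.2 (Nat.pow_lt_pow_right (by omega) (by norm_num)))
    have hk := hP.decomp (hS _ hs₁)
    rw [hperp _ hs₁, zero_smul, sub_zero] at hk
    set k := s₁ - ⟪s₁, f⟫ • x with hkdef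
    have hkk : ⟪k, k⟫ ≠ 0 := fun h => hs₁k (eq_zero_of_finrank_one (hP.nondeg hF hW)
      (by have := hP.finrank hF; omega) hk h)
    obtain ⟨t, ht0, htμ⟩ : ∃ t : F, t ≠ 0 ∧ (t ^ q / t) ^ q ≠ t ^ q / t := by
      by_contra! h
      obtain ⟨u, hu⟩ := IsCyclic.exists_generator (α := Fˣ)
      have hord : orderOf u = q ^ 2 - 1 := by
        rw [orderOf_eq_card_of_forall_mem_zpowers hu, Nat.card_units, Nat.card_eq_fintype_card, hF]
      have h2 := h (u : F) u.ne_zero
      rw [div_pow, pow_q_q hF, div_eq_div_iff (pow_ne_zero _ u.ne_zero) u.ne_zero] at h2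
      have h3 : u ^ (2 * q) = u ^ 2 := by
        apply Units.ext
        rw [Units.val_pow_eq_pow_val, Units.val_pow_eq_pow_val, two_mul, pow_add]
        linear_combination -h2
      have h4 : u ^ (2 * q - 2) = 1 := by
        have h5 := h3
        rw [show 2 * q = 2 * q - 2 + 2 by omega, pow_add] at h5
        exact mul_eq_right.1 h5
      have h6 := Nat.le_of_dvd (by omega) (hord ▸ orderOf_dvd_of_pow_eq_one h4)
      have : 2 * q ≤ q ^ 2 := by rw [sq]; exact Nat.mul_le_mul_right _ hq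
      omega
    obtain ⟨g, hge, hgk⟩ := exists_torus_line hF hP hk hkk ht0
    have hne : imgS (g : SU n F q) S ≠ S := by
      intro he
      have hmem : act (g : SU n F q) s₁ ∈ S := by
        have h' : act (g : SU n F q) s₁ ∈ imgS (g : SU n F q) S := mem_imgS.2 ⟨s₁, hs₁, rfl⟩
        rwa [he] at h'
      have hreal := herm_real hF hI hmem hs₁
      have hxk : ⟪x, k⟫ = 0 := e_perp hF hk
      have hsd : s₁ = ⟪s₁, f⟫ • x + k := by rw [hkdef]; abel
      have hval : ⟪act (g : SU n F q) s₁, s₁⟫ = t ^ q / t * ⟪k, k⟫ := by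
        rw [hsd, act_add, act_smul, hge, hgk]
        simp only [herm_add_left, herm_add_right hF, herm_smul_left, herm_smul_right, hx, hxk,
          perp_e hk]
        ring
      rw [hval, mul_pow, herm_self_pow hF] at hreal
      exact htμ (mul_right_cancel₀ hkk hreal)
    have hM : 2 ≤ Nat.card {T : AddSubgroup (Fin n → F) // T ∈ imgs q W S ∧ x ∈ T} := by
      have h2 := card_le_members (q := q) (W := W) (S := S) (x := x) (ι := Bool)
        (fun b => if b then g else 1) (fun a b h => by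
          rcases a <;> rcases b <;>
            simp only [Bool.false_eq_true, if_false, if_true, OneMemClass.coe_one, imgS_one] at h <;>
            first | rfl | exact absurd h hne | exact absurd h.symm hne) (fun b => by
          rcases b <;> simp only [Bool.false_eq_true, if_false, if_true]
          · rw [OneMemClass.coe_one, imgS_one]; exact hxS
          · refine mem_imgS.2 ⟨t⁻¹ • x, hline _, ?_⟩
            rw [act_smul, hge, inv_smul_smul₀ ht0])
      simpa using h2
    have h := (hcov 2 hM).trans (Nat.mul_le_mul_left _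
      (card_perp_iso hF hW hd (hS x hxS) hx0 hx hperp))
    rw [card_iso hF hW hd] at h
    have h4 : 4 ≤ q ^ 2 := by rw [sq]; exact Nat.mul_le_mul hq hq
    have h' : (q ^ 3 + 1) * 2 ≤ T :=
      Nat.le_of_mul_le_mul_left (c := q ^ 2 - 1) (by rw [← mul_assoc, mul_comm _ T]; exact h) (by omega)
    have hq3 : q ≤ q ^ 3 := Nat.le_self_pow (by norm_num) q
    omega
  -- `x` is not perpendicular to `S`
  push Not at hperp
  obtain ⟨s₀, hs₀, hs₀x⟩ := hperp
  have hc := herm_real hF hI hs₀ hxS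
  set c := ⟪s₀, x⟫ with hcdef
  have hcq : (c⁻¹) ^ q = c⁻¹ := by rw [inv_pow, hc]
  set s := c⁻¹ • s₀ with hsdef
  have hsS : s ∈ S := mem_of_symm hF hW hS hI hsq (W.smul_mem _ (hS _ hs₀)) fun s' hs' => by
    rw [hsdef, herm_smul_left, herm_smul_right, hcq, herm_symm_of_isot hF hI hs₀ hs']
  have hsx : ⟪s, x⟫ = 1 := by rw [hsdef, herm_smul_left, ← hcdef, inv_mul_cancel₀ hs₀x]
  have hxs : ⟪x, s⟫ = 1 := by rw [herm_symm_of_isot hF hI hsS hxS, hsx]
  obtain ⟨t, ht⟩ := exists_trace hF (a := -⟪s, s⟫) (by rw [neg_pow_q hF, herm_self_pow hF])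
  clear hP f
  set f := s + t • x with hfdef
  have hP : HP q W x f := ⟨hS x hxS, W.add_mem (hS s hsS) (W.smul_mem _ (hS x hxS)), hx, by
      simp only [hfdef, herm_add_left, herm_add_right hF, herm_smul_left, herm_smul_right, hx, hsx,
        hxs]
      linear_combination ht, by
      simp only [hfdef, herm_add_right hF, herm_smul_right, hx, hxs]; ring, by
      simp only [hfdef, herm_add_left, herm_smul_left, hx, hsx]; ring⟩
  have hperpL : ∀ z ∈ S, ⟪z, x⟫ = 0 → ⟪z, s⟫ = 0 → z ∈ pairPerp q W x f := fun z hz h1 h2 =>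
    mem_pairPerp.2 ⟨hS z hz, h1, by
      simp only [hfdef, herm_add_right hF, herm_smul_right, h1, h2]; ring⟩
  obtain ⟨k, hkS, hk0, hkx, hks⟩ := exists_perp_pair hF hI hcard hxS hsS
  have hkL := hperpL k hkS hkx hks
  have hL1 : Module.finrank F (pairPerp q W x f) = 1 := by have := hP.finrank hF; omega
  have hkk : ⟪k, k⟫ ≠ 0 := fun h =>
    hk0 (eq_zero_of_finrank_one (hP.nondeg hF hW) hL1 hkL h)
  -- coordinates
  have hdec : ∀ z ∈ S, z = (⟪z, s⟫ - ⟪z, x⟫ * ⟪s, s⟫) • x + ⟪z, x⟫ • s +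
      (⟪z, k⟫ / ⟪k, k⟫) • k := by
    intro z hz
    set r := ⟪z, s⟫ - ⟪z, x⟫ * ⟪s, s⟫ with hr
    set b := ⟪z, x⟫ with hb
    have hrr : r ^ q = r := by
      rw [hr, sub_pow_q hF, mul_pow, herm_real hF hI hz hsS, herm_real hF hI hz hxS,
        herm_self_pow hF]
    have hbb : b ^ q = b := herm_real hF hI hz hxS
    set z' := z - r • x - b • s with hz'
    have hsmul : ∀ r : F, r ^ q = r → ∀ y ∈ S, r • y ∈ S := fun r hr y hy =>
      mem_of_symm hF hW hS hI hsq (W.smul_mem _ (hS y hy)) fun s' hs' => by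
        rw [herm_smul_left, herm_smul_right, hr, herm_symm_of_isot hF hI hy hs']
    have hz'S : z' ∈ S := S.sub_mem (S.sub_mem hz (hsmul r hrr x hxS)) (hsmul b hbb s hsS)
    have h1 : ⟪z', x⟫ = 0 := by
      simp only [hz', herm_sub_left, herm_smul_left, hx, hsx, ← hb]; ring
    have h2 : ⟪z', s⟫ = 0 := by
      simp only [hz', herm_sub_left, herm_smul_left, hxs, hr]; ring
    obtain ⟨a, ha⟩ := exists_smul_eq_of_finrank_eq_one hL1
      (x := (⟨k, hkL⟩ : pairPerp q W x f)) (fun h => hk0 (congrArg Subtype.val h))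
      ⟨z', hperpL z' hz'S h1 h2⟩
    have ha' : a • k = z' := congrArg Subtype.val ha
    have hzk : ⟪z, k⟫ = a * ⟪k, k⟫ := by
      have h4 : ⟪z', k⟫ = ⟪z, k⟫ := by
        simp only [hz', herm_sub_left, herm_smul_left, herm_skew_zero hF hkx,
          herm_skew_zero hF hks]
        ring
      rw [← h4, ← ha', herm_smul_left]
    rw [hzk, mul_div_cancel_right₀ _ hkk, ha', hz']
    abel
  have hnorm : ∀ z ∈ S, ⟪z, z⟫ = 2 * (⟪z, s⟫ - ⟪z, x⟫ * ⟪s, s⟫) * ⟪z, x⟫ +
      ⟪z, x⟫ * ⟪z, x⟫ * ⟪s, s⟫ + ⟪z, k⟫ * ⟪z, k⟫ / ⟪k, k⟫ := by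
    intro z hz
    have h1 := herm_real hF hI hz hxS
    have h2 := herm_real hF hI hz hsS
    have h3 := herm_real hF hI hz hkS
    have hd' := hdec z hz
    generalize ⟪z, x⟫ = b at h1 hd' ⊢
    generalize ⟪z, s⟫ = d at h2 hd' ⊢
    generalize ⟪z, k⟫ = e at h3 hd' ⊢
    rw [hd']
    simp only [herm_add_left, herm_add_right hF, herm_smul_left, herm_smul_right, hx, hsx, hxs,
      hkx, hks, herm_skew_zero hF hkx, herm_skew_zero hF hks, sub_pow_q hF, mul_pow, div_pow, h1,
      h2, h3, herm_self_pow hF]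
    field_simp
    ring
  -- the number of isotropic vectors
  have hZ : Nat.card {z : Fin n → F // z ∈ S ∧ (z ∈ W ∧ z ≠ 0 ∧ ⟪z, z⟫ = 0)} + 1 + q ≤
      2 * q ^ 2 := by
    set A := Finset.univ.filter fun z : Fin n → F => z ∈ S ∧ ⟪z, z⟫ = 0 with hA
    have hA1 : Nat.card {z : Fin n → F // z ∈ S ∧ (z ∈ W ∧ z ≠ 0 ∧ ⟪z, z⟫ = 0)} + 1 ≤ A.card := by
      rw [Nat.card_eq_fintype_card, Fintype.card_subtype,
        ← Finset.card_insert_of_notMem (a := (0 : Fin n → F)) (by simp)]
      refine Finset.card_le_card fun z hz => ?_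
      rcases Finset.mem_insert.1 hz with rfl | hz
      · simp [hA, S.zero_mem, herm_zero_left]
      · simp [hA, (Finset.mem_filter.1 hz).2.1, (Finset.mem_filter.1 hz).2.2.2.2]
    set Φ := Finset.univ.filter fun y : F => y ^ q = y with hΦ
    have hΦc : Φ.card = q := by
      rw [← Fintype.card_subtype, ← Nat.card_eq_fintype_card]
      exact card_fixedSet hF
    have hB : (A.filter fun z => ⟪z, x⟫ = 0).card ≤ q := by
      refine le_of_le_of_eq ?_ hΦc
      refine Finset.card_le_card_of_injOn (fun z => ⟪z, s⟫) (fun z hz => ?_) fun z hz z' hz' e => ?_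
      · have hzS := (Finset.mem_filter.1 (Finset.mem_filter.1 hz).1).2.1
        exact Finset.mem_filter.2 ⟨Finset.mem_univ _, herm_real hF hI hzS hsS⟩
      · obtain ⟨hz1, hzx⟩ := Finset.mem_filter.1 (Finset.mem_coe.1 hz)
        obtain ⟨hz1', hzx'⟩ := Finset.mem_filter.1 (Finset.mem_coe.1 hz')
        obtain ⟨-, hzS, hzz⟩ := Finset.mem_filter.1 hz1
        obtain ⟨-, hzS', hzz'⟩ := Finset.mem_filter.1 hz1'
        have hk' : ∀ y ∈ S, ⟪y, x⟫ = 0 → ⟪y, y⟫ = 0 → ⟪y, k⟫ = 0 := fun y hy h1 h2 => by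
          rw [hnorm y hy, h1] at h2
          simp only [mul_zero, zero_mul, zero_add] at h2
          exact mul_self_eq_zero.1 ((div_eq_zero_iff.1 h2).resolve_right hkk)
        have e' : ⟪z, s⟫ = ⟪z', s⟫ := e
        rw [hdec z hzS, hdec z' hzS', hzx, hzx', e', hk' z hzS hzx hzz, hk' z' hzS' hzx' hzz']
    have hC : (A.filter fun z => ¬⟪z, x⟫ = 0).card ≤ 2 * ((q - 1) * q) := by
      refine le_trans (Finset.card_le_mul_card_image (f := fun z => (⟪z, x⟫, ⟪z, s⟫)) _ 2
        fun y hy => ?_) (Nat.mul_le_mul_left _ ?_)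
      · obtain ⟨z, hz, rfl⟩ := Finset.mem_image.1 hy
        obtain ⟨-, hzS, hzz⟩ := Finset.mem_filter.1 (Finset.mem_filter.1 hz).1
        set r := (⟪z, s⟫ - ⟪z, x⟫ * ⟪s, s⟫) with hr
        refine le_trans (Finset.card_le_card (t := {z,
          r • x + ⟪z, x⟫ • s + (-⟪z, k⟫ / ⟪k, k⟫) • k}) fun z' hz' => ?_) Finset.card_le_two
        obtain ⟨hz'A, e⟩ := Finset.mem_filter.1 hz'
        obtain ⟨-, hzS', hzz'⟩ := Finset.mem_filter.1 (Finset.mem_filter.1 hz'A).1
        simp only [Prod.mk.injEq] at e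
        obtain ⟨e1, e2⟩ := e
        rw [hnorm z' hzS', e1, e2] at hzz'
        rw [hnorm z hzS] at hzz
        have hkk' : (⟪z', k⟫ - ⟪z, k⟫) * (⟪z', k⟫ + ⟪z, k⟫) = 0 := by
          have h5 : ⟪z', k⟫ * ⟪z', k⟫ / ⟪k, k⟫ = ⟪z, k⟫ * ⟪z, k⟫ / ⟪k, k⟫ := by
            linear_combination hzz' - hzz
          rw [div_left_inj' hkk] at h5
          linear_combination h5
        have hd1 := hdec z' hzS'
        rw [e1, e2, ← hr] at hd1
        rcases mul_eq_zero.1 hkk' with h | h
        · rw [sub_eq_zero.1 h, hr, ← hdec z hzS] at hd1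
          simp [hd1]
        · rw [eq_neg_of_add_eq_zero_left h] at hd1
          simp [← hd1]
      · refine le_trans (Finset.card_le_card (t := (Φ.erase 0) ×ˢ Φ) fun y hy => ?_) (by
          rw [Finset.card_product, Finset.card_erase_of_mem (show (0 : F) ∈ Φ from Finset.mem_filter.2
            ⟨Finset.mem_univ _, zero_pow_q hF⟩), hΦc])
        obtain ⟨z, hz, rfl⟩ := Finset.mem_image.1 hy
        obtain ⟨hz1, hzx⟩ := Finset.mem_filter.1 hz
        have hzS := (Finset.mem_filter.1 hz1).2.1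
        exact Finset.mem_product.2 ⟨Finset.mem_erase.2 ⟨hzx, Finset.mem_filter.2
          ⟨Finset.mem_univ _, herm_real hF hI hzS hxS⟩⟩, Finset.mem_filter.2
          ⟨Finset.mem_univ _, herm_real hF hI hzS hsS⟩⟩
    have hAc := Finset.card_filter_add_card_filter_not (s := A) (fun z => ⟪z, x⟫ = 0)
    have hqq : (q - 1) * q + q = q ^ 2 := by
      rw [Nat.sub_mul, one_mul, sq, Nat.sub_add_cancel (Nat.le_mul_of_pos_left _ (by omega))]
    omega
  -- many images contain `x`
  obtain ⟨θ, hθ⟩ : ∃ θ : F, θ ^ q ≠ θ := by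
    by_contra! h
    have := Nat.card_le_card_of_injective (fun a : F => (⟨a, h a⟩ : fixedSet hF))
      fun a b hab => congrArg Subtype.val hab
    rw [Nat.card_eq_fintype_card, hF, card_fixedSet hF] at this
    have : 2 * q ≤ q ^ 2 := by rw [sq]; exact Nat.mul_le_mul_right _ hq
    omega
  choose μ hμ using fun r : fixedSet hF => exists_mu hF (((r : F) * θ) • k)
  set ξ : fixedSet hF → GS q W := fun r =>
    Qel hF hP (Submodule.smul_mem _ ((r : F) * θ) hkL) (hμ r) with hξ
  have hM := card_le_members (q := q) (W := W) (S := S) (x := x) ξ (fun r r' h => ?_) fun r => by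
    refine mem_imgS.2 ⟨x, hxS, ?_⟩
    simp only [hξ, Qel, Eg_coe]
    exact eich_self hF _ _ _ _ _ _
  swap
  · by_contra hne
    set g := (ξ r')⁻¹ * ξ r with hg
    obtain ⟨w, ν, hw, hν, hge⟩ := exists_Qel hF hP ((Qg hF hP).mul_mem
      ((Qg hF hP).inv_mem (Qel_mem hF hP _ (hμ r'))) (Qel_mem hF hP _ (hμ r)) : g ∈ Qg hF hP)
    obtain ⟨hm, hmul⟩ := Qel_mul hF hP (Submodule.smul_mem _ ((r' : F) * θ) hkL) (hμ r') hw hν
    have hprod : ξ r' * g = ξ r := by rw [hg, mul_inv_cancel_left]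
    rw [← hg] at hge
    rw [hge] at hprod
    simp only [hξ] at hprod
    rw [hmul] at hprod
    obtain ⟨hww, -⟩ := Qel_inj hF hP hprod
    have hgS : imgS (g : SU n F q) S = S := by
      rw [hg, Subgroup.coe_mul, InvMemClass.coe_inv, imgS_mul]
      have h' : imgS (ξ r : SU n F q) S = imgS (ξ r' : SU n F q) S := h
      rw [h', ← imgS_mul, inv_mul_cancel, imgS_one]
    have hmem : act (g : SU n F q) s ∈ S := by
      have h' : act (g : SU n F q) s ∈ imgS (g : SU n F q) S := mem_imgS.2 ⟨s, hsS, rfl⟩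
      rwa [hgS] at h'
    have hreal := herm_real hF hI hmem hkS
    have hval : ⟪act (g : SU n F q) s, k⟫ = ((r : F) - r') * θ * ⟪k, k⟫ := by
      have hw' : w = (((r : F) - r') * θ) • k := by
        rw [sub_mul, sub_smul]
        exact eq_sub_of_add_eq' hww
      rw [hge, Qel, Eg_coe, eich_act]
      simp only [herm_add_left, herm_smul_left, herm_skew_zero hF hks, hsx, hw',
        herm_skew_zero hF hkx]
      ring
    rw [hval, mul_pow, mul_pow, sub_pow_q hF, r.2, r'.2, herm_self_pow hF] at hreal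
    refine hθ (mul_left_cancel₀ (sub_ne_zero.2 fun e => hne (Subtype.ext e)) ?_)
    exact mul_right_cancel₀ hkk hreal
  rw [card_fixedSet hF] at hM
  have h := hcov q hM
  rw [card_iso hF hW hd] at h
  set Z := Nat.card {z : Fin n → F // z ∈ S ∧ (z ∈ W ∧ z ≠ 0 ∧ ⟪z, z⟫ = 0)}
  by_contra hlt
  push Not at hlt
  have h2 : T * Z ≤ (q ^ 3 + q) * (2 * q ^ 2 - q - 1) := Nat.mul_le_mul (by omega) (by omega)
  have h3 : (q ^ 3 + q) * (2 * q ^ 2 - q - 1) < (q ^ 2 - 1) * (q ^ 3 + 1) * q := by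
    have hq2 : q ≤ q ^ 2 := Nat.le_self_pow two_ne_zero q
    have h4 : 1 ≤ 2 * q ^ 2 - q := by omega
    have h5 : q ≤ 2 * q ^ 2 := by omega
    zify [h1q, h4, h5]
    have hq' : (2 : ℤ) ≤ q := by exact_mod_cast hq
    nlinarith [mul_pos (show (0 : ℤ) < q - 1 by omega) (show (0 : ℤ) < q by omega),
      mul_nonneg (mul_nonneg (mul_nonneg (show (0 : ℤ) ≤ q by omega) (show (0 : ℤ) ≤ q by omega))
        (show (0 : ℤ) ≤ q - 1 by omega)) (show (0 : ℤ) ≤ q - 2 by omega)]
  omega

/-- Moved points of the Heisenberg group in dimension five have trivial stabilisers. -/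
theorem free_three {B : ℕ} (h : Small hF W B)
    (hB : q = 2 ∨ q ^ 3 + 1 ≤ B ∨ q = 5 ∧ 50 ≤ B)
    (hS : ∀ s ∈ S, s ∈ W) (hbot : S ≠ ⊥) (hI : Isot hF ⊥ S) :
    (q ^ 7 + q ^ 5 + q ^ 2 + 1) * Nat.card S ≤ Nat.card (imgs q W S) * q ^ 7 := by
  classical
  have hq := two_le_q hF
  have hcW : Nat.card W = q ^ 6 := by rw [card_submodule hF, hd]
  have htop : (⊥ : AddSubgroup (fixedSet hF)) ≠ ⊤ := fun h => by
    have h1 := AddSubgroup.card_top (G := fixedSet hF)
    rw [← h, AddSubgroup.card_bot, card_fixedSet hF] at h1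
    omega
  have hle := hI.card_sq_le hF hW htop hS
  rw [hcW, show q ^ 6 = (q ^ 3) ^ 2 by ring] at hle
  replace hle := (Nat.pow_le_pow_iff_left two_ne_zero).1 hle
  rcases hle.eq_or_lt with he | hlt
  · have hT := lagrange_bound hF hW hd hS hI he
    rw [he]
    refine le_trans ?_ (Nat.mul_le_mul_right _ hT)
    have hq2 : q ^ 2 + 1 ≤ q ^ 4 := by
      have h24 : q ^ 2 < q ^ 4 := Nat.pow_lt_pow_right (by omega) (by norm_num)
      omega
    calc (q ^ 7 + q ^ 5 + q ^ 2 + 1) * q ^ 3 = (q ^ 7 + q ^ 5 + (q ^ 2 + 1)) * q ^ 3 := by ring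
      _ ≤ (q ^ 7 + q ^ 5 + q ^ 4) * q ^ 3 := Nat.mul_le_mul_right _ (by omega)
      _ = _ := by ring
  obtain ⟨ψ, hψ, -⟩ := exists_char hF htop
  have hdvd : Nat.card S ∣ q ^ 6 := ⟨_, (hcW ▸ card_mul_annS hF hW hS hψ).symm⟩
  have hproper : ∃ x ∈ W, x ∉ S := by
    by_contra! hall
    have := Nat.card_le_card_of_injective (fun x : W => (⟨x.1, hall _ x.2⟩ : S))
      fun a b hab => Subtype.ext (congrArg Subtype.val hab :)
    rw [hcW] at this
    have h36 : q ^ 3 < q ^ 6 := Nat.pow_lt_pow_right (by omega) (by norm_num)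
    omega
  obtain ⟨p, e, hp, -, he, hpe⟩ := exists_prime_pow hF
  obtain ⟨i, -, hSi⟩ := (Nat.dvd_prime_pow hp).1
    (show Nat.card S ∣ p ^ (e * 6) by rw [pow_mul, ← hpe]; exact hdvd)
  have hpS : p * Nat.card S ≤ q ^ 3 := by
    rw [hSi, hpe, ← pow_mul, ← pow_succ']
    rw [hSi, hpe, ← pow_mul] at hlt
    exact Nat.pow_le_pow_right hp.one_le ((Nat.pow_lt_pow_iff_right hp.one_lt).1 hlt)
  rcases hB with rfl | hB | ⟨rfl, hB⟩
  · have hS4 : Nat.card S ≤ 4 := by nlinarith [hp.two_le]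
    have hc := core_bound hF hW hd hS hbot
    have hc1 : Nat.card S ≠ 0 := Nat.card_ne_zero.2 ⟨⟨0⟩, inferInstance⟩
    generalize Nat.card (imgs 2 W S) = T at hc ⊢
    generalize Nat.card S = c at hc hS4 hc1 ⊢
    interval_cases c <;> (try norm_num at hc ⊢) <;> omega
  · have hT := (bound_le_imgs hF hW (by omega) h hS hbot hproper)
    calc (q ^ 7 + q ^ 5 + q ^ 2 + 1) * Nat.card S
        ≤ 2 * (q ^ 7 + q ^ 4) * Nat.card S := by
          refine Nat.mul_le_mul_right _ ?_
          have h1 : q ^ 5 ≤ q ^ 7 := Nat.pow_le_pow_right (by omega) (by norm_num)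
          have h2 : q ^ 2 < q ^ 4 := Nat.pow_lt_pow_right (by omega) (by norm_num)
          omega
      _ = (q ^ 3 + 1) * q ^ 4 * (2 * Nat.card S) := by ring
      _ ≤ Nat.card (imgs q W S) * q ^ 4 * q ^ 3 := Nat.mul_le_mul
          (Nat.mul_le_mul_right _ (hB.trans hT))
          ((Nat.mul_le_mul_right _ hp.two_le).trans hpS)
      _ = _ := by ring
  · have hT := hB.trans (bound_le_imgs hF hW (by omega) h hS hbot hproper)
    have hp5 : p = 5 := (Nat.prime_dvd_prime_iff_eq hp (by norm_num)).1 (by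
      rw [hpe]; exact dvd_pow_self p (by omega))
    subst hp5
    calc (5 ^ 7 + 5 ^ 5 + 5 ^ 2 + 1) * Nat.card S ≤ 50 * 5 ^ 4 * (5 * Nat.card S) := by
          norm_num; omega
      _ ≤ Nat.card (imgs 5 W S) * 5 ^ 4 * 5 ^ 3 :=
          Nat.mul_le_mul (Nat.mul_le_mul_right _ hT) hpS
      _ = _ := by ring

end Cfsg.Agent.MinIndexPSUFree55
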