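import Mathlib
import Cfsg.Agent.Lib.MinIndexUnit19Step

/-!
The inductive step, part 2: no point is fixed by a root group, and the regular case is impossible.
-/

set_option autoImplicit false

namespace Cfsg.Agent.MinIndexUnit19

open Cfsg Cfsg.Agent.OrthUnitaryHerm Cfsg.Agent.OrthUnitaryTransvection
  Cfsg.Agent.SUMinDegree32Geom
open scoped Matrix

variable {F : Type*} [Field F] [Fintype F] {q n : ℕ}
variable {W : Submodule F (Fin n → F)} {e f : Fin n → F}

local notation "⟪" x ", " y "⟫" => hermForm n F q x y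

variable (hF : Fintype.card F = q ^ 2)
include hF

variable {m B X C : ℕ} {M : Type*} [MulAction (GS q W) M]

/-- A fixed point of a root group is fixed by the root groups of perpendicular isotropic vectors. -/
theorem zfix_spread [Finite M] [MulAction.IsPretransitive (GS q W) M] (H : StepHyp hF W m B X C)
    (hk : Nat.card M < C) (hno : ¬RootsFix hF W M) {x y : Fin n → F} (hxW : x ∈ W)
    (hxx : ⟪x, x⟫ = 0) (hx0 : x ≠ 0) (hyW : y ∈ W) (hyy : ⟪y, y⟫ = 0) (hy0 : y ≠ 0)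
    (hxy : ⟪x, y⟫ = 0) {α : M} (hfix : ZFix hF hxW hxx α) : ZFix hF hyW hyy α := by
  by_cases hdep : ∃ a : F, x = a • y
  · obtain ⟨a, ha⟩ := hdep
    have ha0 : a ≠ 0 := fun h => hx0 (by rw [ha, h, zero_smul])
    exact (zfix_congr hF hyW hyy hxW hxx ha0 ha α).1 hfix
  push Not at hdep
  obtain ⟨g, hP, hyg⟩ := HP.exists_perp hF H.nondeg hxW hxx hyW hy0 hyy hxy hdep
  have hyW' : y ∈ pairPerp q W x g :=
    mem_pairPerp.2 ⟨hyW, herm_skew_zero hF hxy, hyg⟩
  rcases fix_alt hF H hk hP hfix with h | h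
  · exact zfix_of_mem_SS hF H hk hP hfix (h y hyW') hyy hyW
  · exfalso
    obtain ⟨β, hβ⟩ : ∃ β : M, ¬ZFix hF hxW hxx β := by
      by_contra! hall
      refine hno (rootsFix_of_point hF H.nondeg (α := α) fun v hvW hv hv0 => ?_)
      by_contra hnv
      have hc := card_zfix_eq hF (M := M) H.nondeg hxW hxx hx0 hvW hv hv0
      rw [Nat.card_congr (Equiv.subtypeUnivEquiv hall)] at hc
      have hlt : Nat.card {β : M // ZFix hF hvW hv β} < Nat.card M :=
        Finite.card_subtype_lt (x := α) hnv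
      omega
    have hadd := card_zfix_add hF H hk hP β fun h' => hβ ((zfix_iff hF).2 h')
    have hd : Nat.card M ∣ isoN q (m + 2) * Nat.card {α : M // ZFix hF hxW hxx α} :=
      (averaging hF H.nondeg H.dim hxW hxx hx0).1
    have hpos : 0 < Nat.card {α : M // ZFix hF hxW hxx α} :=
      Nat.card_pos_iff.2 ⟨⟨⟨α, hfix⟩⟩, inferInstance⟩
    have hqpos : 0 < q ^ (2 * m + 1) := Nat.pow_pos (by have := two_le_q hF; omega)
    set fc := Nat.card {α : M // ZFix hF hxW hxx α} with hfc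
    have hfc' : Nat.card {β : M // ZFix hF hP.eW hP.ee β} = fc := rfl
    rcases H.c4 with h4 | ⟨h4, h5⟩
    · omega
    · have hkC : isoN q (m + 2) = Nat.card M + 1 := by omega
      rw [hkC, add_mul, one_mul] at hd
      have := Nat.le_of_dvd hpos ((Nat.dvd_add_right (dvd_mul_right _ _)).1 hd)
      omega

/-- In a nontrivial transitive action no point is fixed by a root group. -/
theorem no_zfix [Finite M] [MulAction.IsPretransitive (GS q W) M] (H : StepHyp hF W m B X C)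
    (hk : Nat.card M < C) (hno : ¬RootsFix hF W M) {x : Fin n → F} (hxW : x ∈ W)
    (hxx : ⟪x, x⟫ = 0) (hx0 : x ≠ 0) (α : M) : ¬ZFix hF hxW hxx α := by
  intro hfix
  refine hno (rootsFix_of_point hF H.nondeg (α := α) fun v hvW hv hv0 => ?_)
  by_cases hxv : ⟪x, v⟫ = 0
  · exact zfix_spread hF H hk hno hxW hxx hx0 hvW hv hv0 hxv hfix
  set a := ⟪x, v⟫ with ha
  set v' := ((a⁻¹) ^ q) • v with hv'
  have hPv : HP q W x v' := by
    refine ⟨hxW, W.smul_mem _ hvW, hxx, herm_smul_smul_zero hv _ _, ?_, ?_⟩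
    · rw [hv', herm_smul_right, pow_q_q hF, ← ha, inv_mul_cancel₀ hxv]
    · rw [hv', herm_smul_left, herm_conj hF x v, ← ha, ← mul_pow, inv_mul_cancel₀ hxv, one_pow]
  obtain ⟨z, hz, hz0, hzz⟩ := exists_iso_in hF (hPv.nondeg hF H.nondeg)
    (by rw [H.dimW' hF hPv]; have := H.four; omega)
  have hzv : ⟪z, v⟫ = 0 := by
    have h1 := perp_f hz
    rw [hv', herm_smul_right, pow_q_q hF] at h1
    exact (mul_eq_zero.1 h1).resolve_left (inv_ne_zero hxv)
  exact zfix_spread hF H hk hno (pairPerp_le hz) hzz hz0 hvW hv hv0 hzv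
    (zfix_spread hF H hk hno hxW hxx hx0 (pairPerp_le hz) hzz hz0 (e_perp hF hz) hfix)

/-- In a nontrivial transitive action the Heisenberg group is regular. -/
theorem regular_of_not [Finite M] [MulAction.IsPretransitive (GS q W) M]
    (H : StepHyp hF W m B X C) (hk : Nat.card M < C) (hno : ¬RootsFix hF W M)
    (hP : HP q W e f) (α : M) :
    (∀ (w : Fin n → F) (μ : F) (hw : w ∈ pairPerp q W e f) (hμ : μ + μ ^ q + ⟪w, w⟫ = 0),
        Qel hF hP hw hμ • α = α → w = 0 ∧ μ = 0) ∧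
      ∀ β : M, ∃ (w : Fin n → F) (μ : F) (hw : w ∈ pairPerp q W e f)
        (hμ : μ + μ ^ q + ⟪w, w⟫ = 0), Qel hF hP hw hμ • α = β := by
  have hmv : ∀ β : M, PP hF hP.eW hP.ee β ≠ ⊤ := fun β h =>
    no_zfix hF H hk hno hP.eW hP.ee hP.e_ne β ((zfix_iff hF).2 h)
  refine ⟨fun w μ hw hμ h => ?_, fun β => ?_⟩
  · have hwS : w ∈ SS hF hP α := ⟨hw, μ, hμ, h⟩
    rw [(moved_free hF H hk hP α (hmv α)).2, AddSubgroup.mem_bot] at hwS
    subst hwS
    refine ⟨rfl, ?_⟩
    obtain ⟨r, hr⟩ := exists_eq_c0_mul hF (c := μ) (by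
      rw [herm_zero_left, add_zero] at hμ; exact hμ)
    obtain ⟨h1, t1⟩ := Tg_eq_Qel hF hP r
    have hr' : r ∈ PP hF hP.eW hP.ee α := by
      show Tg hF hP.eW hP.ee r • α = α
      rw [t1, Qel_congr hF hP _ h1 hw hμ rfl hr.symm]
      exact h
    rw [(moved_free hF H hk hP α (hmv α)).1, AddSubgroup.mem_bot] at hr'
    rw [hr, hr', AddSubgroup.coe_zero, mul_zero]
  · obtain ⟨ξ, hξ⟩ := moved_one_orbit hF H hk hP α (hmv α) β (hmv β)
    obtain ⟨w, μ, hw, hμ, he⟩ := exists_Qel hF hP ξ.2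
    exact ⟨w, μ, hw, hμ, by rw [← he]; exact hξ⟩

/-- The point fixed by `τ` up to the centre, when `τ` acts freely modulo the centre. -/
theorem exists_centred [Finite M] [MulAction.IsPretransitive (GS q W) M]
    (H : StepHyp hF W m B X C) (hk : Nat.card M < C) (hno : ¬RootsFix hF W M)
    (hP : HP q W e f) (τ : GS q W) {t : F} (hτe : act (τ : SU n F q) e = t • e)
    (hτW : ∀ w ∈ pairPerp q W e f, act (τ : SU n F q) w ∈ pairPerp q W e f)
    (hfree : ∀ w ∈ pairPerp q W e f, t ^ q • act (τ : SU n F q) w = w → w = 0) (α₀ : M) :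
    ∃ β : M, (∃ r, τ • β = Tg hF hP.eW hP.ee r • β) ∧
      ∀ γ : M, (∃ r, τ • γ = Tg hF hP.eW hP.ee r • γ) →
        ∃ r, γ = Tg hF hP.eW hP.ee r • β := by
  obtain ⟨w₀, μ₀, hw₀, hμ₀, h₀⟩ := (regular_of_not hF H hk hno hP α₀).2 (τ • α₀)
  let D : pairPerp q W e f → pairPerp q W e f := fun w =>
    ⟨(w : Fin n → F) - t ^ q • act (τ : SU n F q) (w : Fin n → F),
      Submodule.sub_mem _ w.2 (Submodule.smul_mem _ _ (hτW _ w.2))⟩
  have hD : Function.Injective D := fun a b h => by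
    have h' : (a : Fin n → F) - t ^ q • act (τ : SU n F q) a =
        (b : Fin n → F) - t ^ q • act (τ : SU n F q) b := congrArg Subtype.val h
    refine Subtype.ext (sub_eq_zero.1 (hfree _ (Submodule.sub_mem _ a.2 b.2) ?_))
    rw [act_sub, smul_sub]
    exact sub_eq_sub_iff_sub_eq_sub.1 h' |>.symm
  obtain ⟨⟨v, hv⟩, hDv⟩ := (Finite.injective_iff_surjective.1 hD) ⟨w₀, hw₀⟩
  have hv' : v - t ^ q • act (τ : SU n F q) v = w₀ := congrArg Subtype.val hDv
  obtain ⟨ν, hν⟩ := exists_mu hF v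
  have hcomb : τ • (Qel hF hP hv hν • α₀) =
      Qel hF hP (Submodule.smul_mem _ (t ^ q) (hτW v hv)) (cond_conj (g := τ) hF hν) •
        (Qel hF hP hw₀ hμ₀ • α₀) := by
    rw [h₀, ← conj_Qel hF hP hτe hτW hv hν, mul_smul, mul_smul, inv_smul_smul]
  obtain ⟨hm, hmul⟩ := Qel_mul hF hP (Submodule.smul_mem _ (t ^ q) (hτW v hv))
    (cond_conj (g := τ) hF hν) hw₀ hμ₀
  rw [← mul_smul (Qel hF hP _ _) (Qel hF hP hw₀ hμ₀), hmul] at hcomb
  set μ' := t ^ q * t * ν + μ₀ - ⟪w₀, t ^ q • act (τ : SU n F q) v⟫ with hμ'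
  have hvw : t ^ q • act (τ : SU n F q) v + w₀ = v := by rw [← hv']; abel
  obtain ⟨r, hr⟩ := exists_eq_c0_mul hF (c := μ' - ν) (by
    rw [hvw] at hm
    rw [sub_pow_q hF]
    linear_combination hm - hν)
  obtain ⟨h1, t1⟩ := Tg_eq_Qel hF hP r
  obtain ⟨h2, hTQ⟩ := Qel_mul hF hP (Submodule.zero_mem _) h1 hv hν
  refine ⟨Qel hF hP hv hν • α₀, ⟨r, ?_⟩, ?_⟩
  · rw [hcomb, t1, ← mul_smul, hTQ]
    congr 1
    refine Qel_congr hF hP _ _ _ _ (by rw [hvw, zero_add]) ?_
    rw [herm_zero_right hF, sub_zero, ← hr]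
    ring
  · rintro γ ⟨r', hr'⟩
    obtain ⟨β, hβ⟩ : ∃ β, β = Qel hF hP hv hν • α₀ := ⟨_, rfl⟩
    rw [← hβ]
    obtain ⟨u, κ, hu, hκ, hγ⟩ := (regular_of_not hF H hk hno hP β).2 γ
    have hβr : τ • β = Tg hF hP.eW hP.ee r • β := by
      rw [hβ, hcomb, t1, ← mul_smul (Qel hF hP _ h1), hTQ]
      congr 1
      refine Qel_congr hF hP _ _ _ _ (by rw [hvw, zero_add]) ?_
      rw [herm_zero_right hF, sub_zero, ← hr]
      ring
    have hτu : τ • γ = Qel hF hP (Submodule.smul_mem _ (t ^ q) (hτW u hu))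
        (cond_conj (g := τ) hF hκ) • (Tg hF hP.eW hP.ee r • β) := by
      rw [← hγ, ← hβr, ← conj_Qel hF hP hτe hτW hu hκ, mul_smul, mul_smul, inv_smul_smul]
    obtain ⟨h1', t1'⟩ := Tg_eq_Qel hF hP r'
    rw [hr', ← hγ, t1', t1, ← mul_smul, ← mul_smul] at hτu
    obtain ⟨hA, eA⟩ := Qel_mul hF hP (Submodule.zero_mem _) h1' hu hκ
    obtain ⟨hB, eB⟩ := Qel_mul hF hP (Submodule.smul_mem _ (t ^ q) (hτW u hu))
      (cond_conj (g := τ) hF hκ) (Submodule.zero_mem _) h1
    rw [eA, eB] at hτu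
    obtain ⟨w, μ, hw, hμ, hinv⟩ := exists_Qel hF hP
      ((Qg hF hP).mul_mem ((Qg hF hP).inv_mem (Qel_mem hF hP _ hB)) (Qel_mem hF hP _ hA))
    have h0 : Qel hF hP hw hμ • β = β := by
      rw [← hinv, mul_smul, hτu, inv_smul_smul]
    obtain ⟨hw0, hμ0⟩ := (regular_of_not hF H hk hno hP β).1 w μ hw hμ h0
    have hone : Qel hF hP hw hμ = 1 := by
      subst hw0 hμ0
      obtain ⟨h3, t3⟩ := Tg_eq_Qel hF hP 0
      rw [Qel_congr hF hP hw hμ (Submodule.zero_mem _) h3 rfl
        (by rw [AddSubgroup.coe_zero, mul_zero]), ← t3]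
      exact Subtype.ext (T_zero hF e hP.ee)
    rw [hone, inv_mul_eq_one] at hinv
    obtain ⟨e1, -⟩ := Qel_inj hF hP hinv
    rw [zero_add, add_zero] at e1
    have hu0 : u = 0 := hfree u hu e1
    subst hu0
    obtain ⟨s, hs⟩ := exists_eq_c0_mul hF (c := κ) (by
      rw [herm_zero_left, add_zero] at hκ; exact hκ)
    obtain ⟨h4, t4⟩ := Tg_eq_Qel hF hP s
    exact ⟨s, by rw [t4, ← hγ, Qel_congr hF hP hu hκ _ h4 rfl hs]⟩

/-- A torus centralising the Levi factor leads to a contradiction. -/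
theorem regular_big [Finite M] [MulAction.IsPretransitive (GS q W) M]
    (H : StepHyp hF W m B X C) (hk : Nat.card M < C) (hno : ¬RootsFix hF W M) (hqB : q < B)
    (hq3 : 3 ≤ q) (hP : HP q W e f) (α₀ : M) : False := by
  classical
  obtain ⟨a, ha0, ha1⟩ : ∃ a : fixedSet hF, a ≠ 0 ∧ (a : F) ≠ 1 := by
    by_contra! hall
    have : Nat.card (fixedSet hF) ≤ Nat.card (Fin 2) := Nat.card_le_card_of_injective
      (fun a => if a = 0 then 0 else 1) fun a b hab => by
        by_cases ha : a = 0 <;> by_cases hb : b = 0 <;> simp [ha, hb] at hab ⊢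
        exact Subtype.ext ((hall a ha).trans (hall b hb).symm)
    rw [card_fixedSet hF, Nat.card_fin] at this
    omega
  set τ := tau hF hP a ha0
  have hτW : ∀ w ∈ pairPerp q W e f, act (τ : SU n F q) w ∈ pairPerp q W e f := fun w hw => by
    rw [tau_perp hF hP a ha0 hw]; exact hw
  obtain ⟨β, hβ, huniq⟩ := exists_centred hF H hk hno hP τ (tau_e hF hP a ha0) hτW
    (fun w hw h => by
      rw [tau_perp hF hP a ha0 hw, a.2] at h
      by_contra hw0
      refine ha1 (sub_eq_zero.1 ((smul_eq_zero.1 ?_).resolve_right hw0))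
      rw [sub_smul, one_smul, h, sub_self]) α₀
  have hcard : Nat.card (Set.range fun g : GS q (pairPerp q W e f) => levi g • β) < B := by
    refine lt_of_le_of_lt ?_ hqB
    refine le_trans ?_ (card_fixedSet hF).le
    have hsub : ∀ γ ∈ Set.range fun g : GS q (pairPerp q W e f) => levi g • β,
        γ ∈ Set.range fun r => Tg hF hP.eW hP.ee r • β := by
      rintro γ ⟨g, rfl⟩
      obtain ⟨r, hr⟩ := hβ
      obtain ⟨s, hs⟩ := huniq (levi g • β) ⟨r, by
        have c1 : τ * levi g = levi g * τ := Subtype.ext (su_ext fun x => by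
          simp only [Subgroup.coe_mul, act_mul]
          obtain ⟨he, hf⟩ := fix_pair hF hP g.2
          show pairMat q e f (a : F) *ᵥ act (g : SU n F q) x =
            act (g : SU n F q) (pairMat q e f (a : F) *ᵥ x)
          rw [pairMat_mulVec, pairMat_mulVec, act_add, act_add, act_smul, act_smul, he, hf]
          have e1 := herm_act (g : SU n F q) x e
          have e2 := herm_act (g : SU n F q) x f
          rw [he] at e1
          rw [hf] at e2
          rw [e1, e2])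
        have c2 : Tg hF hP.eW hP.ee r * levi g = levi g * Tg hF hP.eW hP.ee r :=
          Subtype.ext (commute_T hF hP.ee (fix_pair hF hP g.2).1 r).symm
        rw [← mul_smul, c1, mul_smul, hr, ← mul_smul, ← c2, mul_smul]⟩
      exact ⟨s, hs.symm⟩
    refine (Nat.card_mono (Set.toFinite _) hsub).trans ?_
    exact Finite.card_range_le _
  obtain ⟨e', he'W, he'0, he'⟩ := exists_iso_in hF (hP.nondeg hF H.nondeg)
    (by rw [H.dimW' hF hP]; have := H.four; omega)
  refine no_zfix hF H hk hno (pairPerp_le he'W) he' he'0 β fun r => ?_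
  exact small_orbit hF (H.small e f hP) (fun g γ => levi g • γ) (fun γ => one_smul _ γ)
    (fun g g' γ => mul_smul (levi g) (levi g') γ) β hcard he'W he' r

end Cfsg.Agent.MinIndexUnit19
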