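import Mathlib
import Cfsg.Agent.Lib.MinIndexUnit19Step2

/-!
The inductive step, part 3: the regular case over four elements, and the step itself.
-/

set_option autoImplicit false

namespace Cfsg.Agent.MinIndexUnit19

open Cfsg Cfsg.Agent.OrthUnitaryHerm Cfsg.Agent.OrthUnitaryTransvection
  Cfsg.Agent.SUMinDegree32Geom
open scoped Matrix

variable {F : Type*} [Field F] [Fintype F] {q n : ℕ}
variable {W : Submodule F (Fin n → F)} {e f : Fin n → F}

local notation "⟪" x ", " y "⟫" => hermForm n F q x y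

variable (hF : Fintype.card F = q ^ 2)
include hF

/-- The torus element of two orthogonal hyperbolic pairs. -/
theorem exists_tau_two (hP : HP q W e f) {e' f' : Fin n → F}
    (hP' : HP q (pairPerp q W e f) e' f') {t : F} (ht : t ≠ 0) :
    ∃ τ : GS q W, ∀ x, act (τ : SU n F q) x = x + ((t - 1) * ⟪x, f⟫) • e +
      (((t ^ q)⁻¹ - 1) * ⟪x, e⟫) • f + ((t⁻¹ - 1) * ⟪x, f'⟫) • e' +
      (((t⁻¹ ^ q)⁻¹ - 1) * ⟪x, e'⟫) • f' := by
  have hmul : ∀ x, (pairMat q e f t * pairMat q e' f' t⁻¹) *ᵥ x = x + ((t - 1) * ⟪x, f⟫) • e +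
      (((t ^ q)⁻¹ - 1) * ⟪x, e⟫) • f + ((t⁻¹ - 1) * ⟪x, f'⟫) • e' +
      (((t⁻¹ ^ q)⁻¹ - 1) * ⟪x, e'⟫) • f' := by
    intro x
    rw [← Matrix.mulVec_mulVec, pairMat_mulVec e' f', pairMat_mulVec e f]
    simp only [herm_add_left, herm_smul_left, perp_e hP'.eW, perp_f hP'.eW, perp_e hP'.fW,
      perp_f hP'.fW, mul_zero, add_zero]
    abel
  refine ⟨⟨mkSU (pairMat q e f t * pairMat q e' f' t⁻¹) ?_
    ((pairMat_isU hF ht hP.ee hP.ff hP.ef hP.fe).mul
      (pairMat_isU hF (inv_ne_zero ht) hP'.ee hP'.ff hP'.ef hP'.fe)), fun x hx => ?_⟩, hmul⟩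
  · rw [Matrix.det_mul, pairMat_det t hP.ee hP.ff hP.ef hP.fe,
      pairMat_det t⁻¹ hP'.ee hP'.ff hP'.ef hP'.fe, inv_pow]
    have htq : t ^ q ≠ 0 := pow_ne_zero _ ht
    field_simp
  · show (pairMat q e f t * pairMat q e' f' t⁻¹) *ᵥ x = x
    rw [hmul, hx e hP.eW, hx f hP.fW, hx e' (pairPerp_le hP'.eW), hx f' (pairPerp_le hP'.fW)]
    simp

variable {m B X C : ℕ} {M : Type*} [MulAction (GS q W) M]

/-- The regular case over four elements. -/
theorem regular_two [Finite M] [MulAction.IsPretransitive (GS q W) M]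
    (H : StepHyp hF W m B X C) (hk : Nat.card M < C) (hno : ¬RootsFix hF W M)
    (hq2 : q = 2) (hP : HP q W e f) (α₀ : M) : False := by
  classical
  subst hq2
  have h2 : (2 : F) = 0 := by
    have h := FiniteField.cast_card_eq_zero F
    rw [hF] at h
    push_cast at h
    exact mul_self_eq_zero.1 (by linear_combination h)
  obtain ⟨ω, hω0, hω1⟩ : ∃ x : F, x ≠ 0 ∧ x ≠ 1 := by
    by_contra! h
    have : Fintype.card F ≤ Fintype.card (Fin 2) := Fintype.card_le_of_injective
      (fun a => if a = 0 then 0 else 1) fun a b hab => by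
        by_cases ha : a = 0 <;> by_cases hb : b = 0 <;> simp [ha, hb] at hab ⊢
        exact (h a ha).trans (h b hb).symm
    rw [hF, Fintype.card_fin] at this
    omega
  have hω3 : ω ^ 3 = 1 := by
    have h := FiniteField.pow_card_sub_one_eq_one ω hω0
    rwa [hF] at h
  have hinv : ω⁻¹ = ω ^ 2 := inv_eq_of_mul_eq_one_right (by linear_combination hω3)
  have hfix01 : ∀ r : fixedSet hF, r = 0 ∨ (r : F) = 1 := fun r => by
    rcases eq_or_ne (r : F) 0 with h | h
    · exact Or.inl (Subtype.ext h)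
    · exact Or.inr (mul_right_cancel₀ h (by rw [one_mul, ← sq]; exact r.2))
  have hc0 : c0 hF = 1 := mul_right_cancel₀ (c0_ne hF) (by
    linear_combination c0_skew hF - (c0 hF) * h2)
  obtain ⟨e', he'W, he'0, he'⟩ := exists_iso_in hF (hP.nondeg hF H.nondeg)
    (by rw [H.dimW' hF hP]; have := H.four; omega)
  obtain ⟨f', hP'⟩ := HP.exists_of_iso hF (hP.nondeg hF H.nondeg) he'W he'0 he'
  obtain ⟨τ, hτ⟩ := exists_tau_two hF hP hP' hω0
  have hcoef : (ω ^ 2)⁻¹ = ω := inv_eq_of_mul_eq_one_right (by linear_combination hω3)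
  have hcoef' : (ω⁻¹ ^ 2)⁻¹ = ω ^ 2 := by rw [inv_pow, inv_inv]
  have hτe : act (τ : SU n F 2) e = ω • e := by
    rw [hτ, hP.ef, hP.ee, e_perp hF hP'.eW, e_perp hF hP'.fW]
    module
  have hτe' : act (τ : SU n F 2) e' = (ω ^ 2) • e' := by
    rw [hτ, perp_e he'W, perp_f he'W, hP'.ef, he', hinv]
    module
  have hτW : ∀ w ∈ pairPerp 2 W e f, act (τ : SU n F 2) w ∈ pairPerp 2 W e f := by
    intro w hw
    rw [hτ, perp_e hw, perp_f hw, mul_zero, mul_zero, zero_smul, zero_smul, add_zero, add_zero]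
    exact Submodule.add_mem _ (Submodule.add_mem _ hw (Submodule.smul_mem _ _ hP'.eW))
      (Submodule.smul_mem _ _ hP'.fW)
  obtain ⟨β, ⟨r₀, hβ⟩, huniq⟩ := exists_centred hF H hk hno hP τ hτe hτW (fun w hw h => by
    rw [hτ, perp_e hw, perp_f hw, mul_zero, mul_zero, zero_smul, zero_smul, add_zero, add_zero,
      hcoef', hinv] at h
    have ha := congrArg (fun x => hermForm n F 2 x f') h
    have hb := congrArg (fun x => hermForm n F 2 x e') h
    simp only [herm_add_left, herm_smul_left, hP'.ef, hP'.ff, hP'.fe, he'] at ha hb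
    have hz : ω ^ 2 * ω ^ 2 - 1 ≠ 0 := by
      rw [show ω ^ 2 * ω ^ 2 - 1 = ω - 1 by linear_combination ω * hω3]
      exact sub_ne_zero.2 hω1
    have ha0 : hermForm n F 2 w f' = 0 := (mul_eq_zero.1 (show
      (ω ^ 2 * ω ^ 2 - 1) * hermForm n F 2 w f' = 0 by linear_combination ha)).resolve_left hz
    have hb0 : hermForm n F 2 w e' = 0 := (mul_eq_zero.1 (show
      (ω ^ 2 * ω ^ 2 - 1) * hermForm n F 2 w e' = 0 by linear_combination hb)).resolve_left hz
    simp only [ha0, hb0, mul_zero, zero_smul, add_zero] at h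
    by_contra hw0
    have h' : (ω ^ 2 - 1) • w = 0 := by rw [sub_smul, one_smul, h, sub_self]
    rcases smul_eq_zero.1 h' with h'' | h''
    · exact hω1 (by linear_combination hω3 - ω * h'')
    · exact hw0 h'') α₀
  obtain ⟨r', hr'W, hr'0, hr'⟩ := exists_iso_in hF
    (hP'.nondeg hF (hP.nondeg hF H.nondeg)) (by
      have h1 := H.dimW' hF hP
      have h2 := hP'.finrank hF
      have := H.four
      omega)
  have hr'W' : r' ∈ pairPerp 2 W e f := pairPerp_le hr'W
  let o : fixedSet hF := ⟨1, (mem_fixedSet hF).2 (one_pow 2)⟩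
  set z := Tg hF hP.eW hP.ee o with hz
  have hswap : ∀ u (hu : u ∈ pairPerp 2 W e f) (huu : hermForm n F 2 u u = 0), u ≠ 0 →
      τ * Tg hF (pairPerp_le hu) huu o * τ⁻¹ = Tg hF (pairPerp_le hu) huu o →
      Tg hF (pairPerp_le hu) huu o • β = z • β := by
    intro u hu huu hu0 hcomm
    have hmove : Tg hF (pairPerp_le hu) huu o • β ≠ β := by
      intro h
      refine no_zfix hF H hk hno (pairPerp_le hu) huu hu0 β fun r => ?_
      rcases hfix01 r with rfl | h1
      · rw [show Tg hF (pairPerp_le hu) huu 0 = 1 from Subtype.ext (T_zero hF u huu), one_smul]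
      · rwa [show r = o from Subtype.ext h1]
    have hc2 : Tg hF (pairPerp_le hu) huu o * Tg hF hP.eW hP.ee r₀ =
        Tg hF hP.eW hP.ee r₀ * Tg hF (pairPerp_le hu) huu o := Subtype.ext (commute_T hF hP.ee
      (by rw [Tg_coe, T_act, e_perp hF hu, mul_zero, zero_smul, add_zero]) r₀)
    obtain ⟨s, hs⟩ := huniq (Tg hF (pairPerp_le hu) huu o • β) ⟨r₀, by
      rw [← mul_smul, mul_inv_eq_iff_eq_mul.1 hcomm, mul_smul, hβ, ← mul_smul, hc2, mul_smul]⟩
    rcases hfix01 s with rfl | h1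
    · rw [show Tg hF hP.eW hP.ee 0 = 1 from Subtype.ext (T_zero hF e hP.ee), one_smul] at hs
      exact absurd hs hmove
    · rw [hs, show s = o from Subtype.ext h1]
  have hTe' : Tg hF (pairPerp_le he'W) he' o • β = z • β := hswap e' he'W he' he'0
    (Subtype.ext (by
      show (τ : SU n F 2) * T hF e' he' o * (τ : SU n F 2)⁻¹ = T hF e' he' o
      rw [conj_T hF, T_congr hF _ (herm_smul_smul_zero he' _ _) hτe']
      exact T_smul hF he' _ o o (by
        show (1 : F) = (ω ^ 2) ^ 2 * ω ^ 2 * 1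
        linear_combination -(ω ^ 3 + 1) * hω3)))
  have hTr' : Tg hF (pairPerp_le hr'W') hr' o • β = z • β := hswap r' hr'W' hr' hr'0
    (Subtype.ext (by
      show (τ : SU n F 2) * T hF r' hr' o * (τ : SU n F 2)⁻¹ = T hF r' hr' o
      rw [conj_T hF]
      exact T_congr hF _ _ (by
        rw [hτ, perp_e hr'W', perp_f hr'W', perp_e hr'W, perp_f hr'W]
        simp) o))
  have hzz : z * z = 1 := Subtype.ext (by
    show T hF e hP.ee o * T hF e hP.ee o = 1
    rw [← T_add, show o + o = 0 from Subtype.ext (by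
      show (1 : F) + 1 = 0
      linear_combination h2), T_zero])
  have hfix : (Tg hF (pairPerp_le he'W) he' o * Tg hF (pairPerp_le hr'W') hr' o) • β = β := by
    have hcz : Tg hF (pairPerp_le he'W) he' o * z = z * Tg hF (pairPerp_le he'W) he' o :=
      Subtype.ext (commute_T hF hP.ee
        (by rw [Tg_coe, T_act, e_perp hF he'W, mul_zero, zero_smul, add_zero]) o)
    rw [mul_smul, hTr', ← mul_smul, hcz, mul_smul, hTe', ← mul_smul, hzz, one_smul]
  set x₀ := e' + r' with hx₀
  have hperp : hermForm n F 2 e' r' = 0 := e_perp hF hr'W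
  have hx₀x : hermForm n F 2 x₀ x₀ = 0 := by
    rw [hx₀, herm_add_left, herm_add_right hF, herm_add_right hF, he', hr', hperp,
      herm_skew_zero hF hperp]
    ring
  have hx₀e : hermForm n F 2 x₀ e' = 0 := by
    rw [hx₀, herm_add_left, he', herm_skew_zero hF hperp, add_zero]
  have hind : ∀ a : F, x₀ ≠ a • e' := by
    intro a ha
    have h1 := congrArg (fun x => hermForm n F 2 x f') ha
    simp only [hx₀, herm_add_left, herm_smul_left, hP'.ef, perp_f hr'W, mul_one, add_zero] at h1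
    rw [hx₀, ← h1, one_smul, add_eq_left] at ha
    exact hr'0 ha
  have hx₀W : x₀ ∈ W := W.add_mem (pairPerp_le he'W) (pairPerp_le hr'W')
  obtain ⟨g, hP₀, he'g⟩ :=
    HP.exists_perp hF H.nondeg hx₀W hx₀x (pairPerp_le he'W) he'0 he' hx₀e hind
  have he'₀ : e' ∈ pairPerp 2 W x₀ g :=
    mem_pairPerp.2 ⟨pairPerp_le he'W, herm_skew_zero hF hx₀e, he'g⟩
  have hμ : (1 : F) + 1 ^ 2 + hermForm n F 2 e' e' = 0 := by
    rw [he']; linear_combination h2
  have heq : Qel hF hP₀ he'₀ hμ =
      Tg hF (pairPerp_le he'W) he' o * Tg hF (pairPerp_le hr'W') hr' o := Subtype.ext (by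
    apply su_ext
    intro x
    simp only [Qel, Eg_coe, Subgroup.coe_mul, Tg_coe, act_mul, eich_act, T_act, herm_add_left,
      herm_smul_left, herm_skew_zero hF hperp, hc0, hx₀, herm_add_right hF, o]
    match_scalars
    · ring
    · ring_nf
      linear_combination (hermForm n F 2 x r') * h2
    · ring)
  rw [← heq] at hfix
  exact he'0 ((regular_of_not hF H hk hno hP₀ β).1 e' 1 he'₀ hμ hfix).1

/-- The inductive step. -/
theorem step (H : StepHyp hF W m B X C) : Small hF W C := by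
  refine small_of_transitive hF fun M _ _ _ hk => ?_
  by_contra hno
  obtain ⟨e, heW, he0, he⟩ := exists_iso_in hF H.nondeg (by rw [H.dim]; omega)
  obtain ⟨f, hP⟩ := HP.exists_of_iso hF H.nondeg heW he0 he
  have hα : Nonempty M := by
    by_contra h
    exact hno fun v hvW hv r α => absurd ⟨α⟩ h
  obtain ⟨α₀⟩ := hα
  rcases H.qlt with h | h
  · by_cases h2 : q = 2
    · exact regular_two hF H hk hno h2 hP α₀
    · exact regular_big hF H hk hno h (by have := two_le_q hF; omega) hP α₀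
  · exact regular_two hF H hk hno h hP α₀

end Cfsg.Agent.MinIndexUnit19
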