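import Mathlib
import Cfsg.Agent.Lib.MinIndexUnit19Step3
import Cfsg.Agent.Lib.MinIndexPSUFree55

/-!
Actions of the five-dimensional unitary groups on fewer points than there are isotropic points: the
root groups act trivially. This follows the inductive step for larger dimensions, the moved points
being controlled by the bounds for three-dimensional Hermitian spaces.
-/

set_option autoImplicit false

namespace Cfsg.Agent.MinIndexPSUFive55

open Cfsg Cfsg.Agent.OrthUnitaryHerm Cfsg.Agent.OrthUnitaryTransvection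
  Cfsg.Agent.SUMinDegree32Geom Cfsg.Agent.MinIndexUnit19
open scoped Matrix

variable {F : Type*} [Field F] [Fintype F] {q n : ℕ}
variable {W : Submodule F (Fin n → F)} {e f : Fin n → F}

local notation "⟪" x ", " y "⟫" => hermForm n F q x y

variable (hF : Fintype.card F = q ^ 2)
include hF

/-- The hypotheses in dimension five. -/
structure Hyp5 (W : Submodule F (Fin n → F)) (B : ℕ) : Prop where
  nondeg : Nondeg q W
  dim : Module.finrank F W = 3 + 2
  small : ∀ e f, HP q W e f → Small hF (pairPerp q W e f) B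
  big : q = 2 ∨ q ^ 3 + 1 ≤ B ∨ q = 5 ∧ 50 ≤ B

variable {B : ℕ} {M : Type*} [MulAction (GS q W) M]

theorem isoN_five : isoN q 5 = q ^ 7 + q ^ 5 + q ^ 2 + 1 := by
  rw [show isoN q 5 = 1 + q ^ 2 * isoN q 3 + q ^ (2 * 3 + 1) from rfl,
    show isoN q 3 = 1 + q ^ 2 * isoN q 1 + q ^ (2 * 1 + 1) from rfl, show isoN q 1 = 0 from rfl]
  ring

theorem Hyp5.three (_H : Hyp5 hF W B) : 3 ≤ 3 := le_rfl

theorem Hyp5.qlt (H : Hyp5 hF W B) : q < B ∨ q = 2 := by
  have hq := two_le_q hF
  have h3 : q ≤ q ^ 3 := Nat.le_self_pow (by norm_num) q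
  rcases H.big with h | h | ⟨h, h'⟩
  · exact Or.inr h
  · exact Or.inl (by omega)
  · exact Or.inl (by omega)

theorem Hyp5.c2 (_H : Hyp5 hF W B) : isoN q 5 ≤ (q + 1) * q ^ (2 * 3) := by
  have hq := two_le_q hF
  rw [isoN_five hF, show q ^ (2 * 3) = q ^ 6 from rfl, add_mul, one_mul, show q * q ^ 6 = q ^ 7 from (pow_succ' q 6).symm]
  have h1 : q ^ 2 < q ^ 5 := Nat.pow_lt_pow_right (by omega) (by norm_num)
  have h2 : 2 * q ^ 5 ≤ q ^ 6 := by rw [pow_succ' q 5]; exact Nat.mul_le_mul_right _ hq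
  omega

theorem Hyp5.c3 (_H : Hyp5 hF W B) : isoN q 5 ≤ 2 * q ^ (2 * 3 + 1) := by
  have hq := two_le_q hF
  rw [isoN_five hF, show q ^ (2 * 3 + 1) = q ^ 7 from rfl]
  have h1 : q ^ 2 < q ^ 5 := Nat.pow_lt_pow_right (by omega) (by norm_num)
  have h2 : 2 * q ^ 5 ≤ q ^ 6 := by rw [pow_succ' q 5]; exact Nat.mul_le_mul_right _ hq
  have h3 : q ^ 6 ≤ q ^ 7 := Nat.pow_le_pow_right (by omega) (by norm_num)
  omega

theorem Hyp5.c4 (_H : Hyp5 hF W B) : isoN q 5 ≤ q ^ (2 * 3 + 1) + q ^ 2 * (q ^ 3 + 1) ∨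
    (isoN q 5 = q ^ (2 * 3 + 1) + q ^ 2 * (q ^ 3 + 1) + 1 ∧ isoN q 5 = isoN q (3 + 2)) :=
  Or.inr ⟨by rw [isoN_five hF]; ring, rfl⟩

theorem Hyp5.dimW' (H : Hyp5 hF W B) (hP : HP q W e f) :
    Module.finrank F (pairPerp q W e f) = 3 := by
  have := hP.finrank hF
  have := H.dim
  omega

theorem Hyp5.geo (H : Hyp5 hF W B) (hP : HP q W e f) :
    MinIndexUnit19.Geo hF (pairPerp q W e f) (q ^ 3 + 1) :=
  MinIndexPSUThree55.geo_three hF (hP.nondeg hF H.nondeg) (H.dimW' hF hP) (H.small e f hP)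
    (H.big.imp_right (Or.imp_left fun h => h.trans (Nat.le_mul_of_pos_left _ two_pos)))

theorem Hyp5.cardW' (H : Hyp5 hF W B) (hP : HP q W e f) :
    Nat.card (pairPerp q W e f) = q ^ (2 * 3) := by
  rw [card_submodule hF, H.dimW' hF hP]

theorem orbit_mul_SS (H : Hyp5 hF W B) (hP : HP q W e f) (α : M) :
    Nat.card (MulAction.orbit (Qg hF hP) α) * Nat.card (SS hF hP α) =
      q ^ (2 * 3) * (PP hF hP.eW hP.ee α).index := by
  have h1 := card_orbit_mul hF hP α
  have h2 := AddSubgroup.card_mul_index (PP hF hP.eW hP.ee α)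
  rw [card_fixedSet hF] at h2
  rw [H.cardW' hF hP] at h1
  refine Nat.eq_of_mul_eq_mul_right (m := Nat.card (PP hF hP.eW hP.ee α)) Nat.card_pos ?_
  rw [mul_assoc, h1, mul_assoc, mul_comm (AddSubgroup.index _), h2]

theorem card_SS_le (H : Hyp5 hF W B) (hP : HP q W e f) {α : M}
    (hP' : PP hF hP.eW hP.ee α ≠ ⊤) : Nat.card (SS hF hP α) ≤ q ^ 3 := by
  have h := (isot_SS hF hP α).card_sq_le hF (hP.nondeg hF H.nondeg) hP' (SS_le hF hP α)
  rw [H.cardW' hF hP, mul_comm 2 3, pow_mul] at h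
  exact (Nat.pow_le_pow_iff_left two_ne_zero).1 h

/-- Many points share the root stabiliser of a moved point. -/
theorem moved_class [Finite M] (H : Hyp5 hF W B) (hP : HP q W e f) (α : M)
    (hmv : PP hF hP.eW hP.ee α ≠ ⊤) :
    SS hF hP α = ⊥ ∨ B * q ^ 3 * (PP hF hP.eW hP.ee α).index ≤
      Nat.card {β : M // PP hF hP.eW hP.ee β = PP hF hP.eW hP.ee α} := by
  classical
  set P := PP hF hP.eW hP.ee α with hPdef
  set S := SS hF hP α with hSdef
  set T := Set.range fun g : GS q (pairPerp q W e f) => imgS (g : SU n F q) S with hT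
  have hq := two_le_q hF
  by_cases hfew : Nat.card T < B
  · left
    by_contra hne
    have hmem := mem_of_rootInv hF (hP.nondeg hF H.nondeg)
      (by rw [H.dimW' hF hP]) (SS_le hF hP α) hne
      fun u huW hu => invAt_of_few hF (H.small e f hP) hfew huW hu
    have h1 : Nat.card (pairPerp q W e f) ≤ Nat.card S :=
      Nat.card_le_card_of_injective (fun x => (⟨(x : Fin n → F), hmem _ x.2⟩ : S))
        fun a b h => Subtype.ext (congrArg Subtype.val h :)
    have h2 : Nat.card S ≤ q ^ 3 := card_SS_le hF H hP hmv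
    rw [H.cardW' hF hP] at h1
    have h3 : q ^ 3 < q ^ (2 * 3) :=
      Nat.pow_lt_pow_right (by omega) (by have := H.three hF; omega)
    omega
  · right
    push Not at hfew
    have hidx : 0 < P.index := Nat.pos_of_ne_zero AddSubgroup.index_ne_zero_of_finite
    let s : Set M := {β | PP hF hP.eW hP.ee β = P}
    have key := card_mul_le_of_fibres s (SS hF hP) T (c := q ^ 3 * P.index)
      (Nat.mul_pos (Nat.pow_pos (by omega)) hidx) (by
      rintro Y ⟨g, rfl⟩
      have hPg : PP hF hP.eW hP.ee (levi g • α) = P := PP_levi hF hP g α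
      have hSg : SS hF hP (levi g • α) = imgS (g : SU n F q) S := SS_levi hF H.nondeg hP g α
      refine le_trans ?_ (Nat.card_le_card_of_injective
        (fun β : MulAction.orbit (Qg hF hP) (levi g • α) =>
          (⟨(β : M), ?_⟩ : {x : M | x ∈ s ∧ SS hF hP x = imgS (g : SU n F q) S}))
        fun a b h => Subtype.ext (congrArg Subtype.val h :))
      · have h1 := orbit_mul_SS hF H hP (levi g • α)
        rw [hPg] at h1
        refine Nat.le_of_mul_le_mul_right
          (c := Nat.card (SS hF hP (levi g • α))) ?_ Nat.card_pos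
        rw [h1]
        refine le_trans (Nat.mul_le_mul_left _ (card_SS_le hF H hP (by rw [hPg]; exact hmv))) ?_
        rw [mul_right_comm, ← pow_add, two_mul]
      · obtain ⟨ξ, hξ⟩ := β.2
        rw [← hξ]
        refine ⟨?_, ?_⟩
        · show PP hF hP.eW hP.ee ((ξ : GS q W) • (levi g • α)) = P
          rw [PP_orbit hF hP ξ.2, hPg]
        · show SS hF hP ((ξ : GS q W) • (levi g • α)) = _
          rw [SS_orbit hF hP ξ.2, hSg])
    calc B * q ^ 3 * P.index = B * (q ^ 3 * P.index) := mul_assoc _ _ _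
      _ ≤ Nat.card T * (q ^ 3 * P.index) := Nat.mul_le_mul_right _ hfew
      _ ≤ Nat.card s := key
      _ = _ := rfl

theorem class_bound [Finite M] (H : Hyp5 hF W B) (hP : HP q W e f) (α : M)
    (hmv : PP hF hP.eW hP.ee α ≠ ⊤) :
    min (B * q ^ 3) (q ^ (2 * 3)) * (PP hF hP.eW hP.ee α).index ≤
      Nat.card {β : M // PP hF hP.eW hP.ee β = PP hF hP.eW hP.ee α} := by
  rcases moved_class hF H hP α hmv with h | h
  · refine le_trans (Nat.mul_le_mul_right _ (min_le_right _ _)) ?_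
    have h1 := orbit_mul_SS hF H hP α
    rw [h, AddSubgroup.card_bot, mul_one] at h1
    rw [← h1]
    refine Nat.card_le_card_of_injective (fun β : MulAction.orbit (Qg hF hP) α =>
      (⟨(β : M), ?_⟩ : {β : M // PP hF hP.eW hP.ee β = PP hF hP.eW hP.ee α}))
      fun a b hab => Subtype.ext (congrArg Subtype.val hab :)
    obtain ⟨ξ, hξ⟩ := β.2
    rw [← hξ]
    exact PP_orbit hF hP ξ.2 α
  · exact le_trans (Nat.mul_le_mul_right _ (min_le_left _ _)) h

/-- A moved point has trivial stabiliser in the Heisenberg group. -/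
theorem moved_free [Finite M] (H : Hyp5 hF W B) (hk : Nat.card M < (isoN q 5))
    (hP : HP q W e f) (α : M) (hmv : PP hF hP.eW hP.ee α ≠ ⊤) :
    PP hF hP.eW hP.ee α = ⊥ ∧ SS hF hP α = ⊥ := by
  classical
  have hq := two_le_q hF
  set P := PP hF hP.eW hP.ee α with hPdef
  have hPbot : P = ⊥ := by
    by_contra hne
    have hne' : pairPerp q W e f ≠ ⊥ := fun h => by
      have := H.dimW' hF hP
      rw [h, finrank_bot] at this
      have := H.three hF
      omega
    have hB4 : q ^ 3 + 1 ≤ B := by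
      have hprime : ¬ q.Prime := by
        intro hqp
        have h1 := AddSubgroup.card_mul_index P
        rw [card_fixedSet hF] at h1
        rcases hqp.eq_one_or_self_of_dvd _ (Dvd.intro _ h1) with h | h
        · exact hne (AddSubgroup.eq_bot_of_card_le _ h.le)
        · exact hmv (AddSubgroup.eq_top_of_card_eq _ (h.trans (card_fixedSet hF).symm))
      rcases H.big with h | h | ⟨h, -⟩
      · exact absurd (h ▸ Nat.prime_two) hprime
      · exact h
      · exact absurd (h ▸ (by norm_num : Nat.Prime 5)) hprime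
    have hB : 0 < B := by omega
    let T := Set.range fun a : {a : fixedSet hF // a ≠ 0} => scaleP hF a.1 P
    have key := card_mul_le_of_fibres (Set.univ : Set M) (PP hF hP.eW hP.ee) T
      (c := min (B * q ^ 3) (q ^ (2 * 3)) * P.index)
      (Nat.mul_pos (lt_min (Nat.mul_pos hB
        (Nat.pow_pos (by omega))) (Nat.pow_pos (by omega)))
        (Nat.pos_of_ne_zero AddSubgroup.index_ne_zero_of_finite)) (by
      rintro Y ⟨⟨a, ha⟩, rfl⟩
      obtain ⟨t, ht⟩ := exists_norm_eq hF a.2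
      rw [pow_succ] at ht
      have ht0 : t ≠ 0 := fun h0 => ha (Subtype.ext (by rw [← ht, h0, mul_zero]; rfl))
      obtain ⟨g, hg⟩ := exists_scale hF H.nondeg hP hne' ht0
      have hPg : PP hF hP.eW hP.ee (g • α) = scaleP hF a P := by
        rw [PP_smul hF hP.eW hP.ee ht0 hg α]
        congr 1
        exact Subtype.ext ht
      have hidx : (scaleP hF a P).index = P.index := by
        have h1 := AddSubgroup.card_mul_index (scaleP hF a P)
        have h2 := AddSubgroup.card_mul_index P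
        rw [card_scaleP hF ha] at h1
        exact Nat.eq_of_mul_eq_mul_left Nat.card_pos (h1.trans h2.symm)
      have hb := class_bound hF H hP (g • α) (by
        intro htop
        rw [hPg] at htop
        rw [htop, AddSubgroup.index_top] at hidx
        exact hmv (AddSubgroup.index_eq_one.1 hidx.symm))
      rw [hPg, hidx] at hb
      refine hb.trans (le_of_eq (Nat.card_congr (Equiv.subtypeEquivRight fun β => ?_)))
      simp)
    rw [Nat.card_univ] at key
    have h2 : q + 1 ≤ P.index * Nat.card T := succ_le_index_mul_scaleP hF hne hmv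
    have h3 : (q + 1) * min (B * q ^ 3) (q ^ (2 * 3)) ≤ Nat.card M :=
      le_trans (le_of_le_of_eq (Nat.mul_le_mul_right _ h2) (by ring)) key
    have h4 : (isoN q 5) ≤ (q + 1) * min (B * q ^ 3) (q ^ (2 * 3)) := by
      rw [← Nat.mul_min_mul_left]
      refine le_min ?_ (H.c2 hF)
      refine le_trans ?_ (Nat.mul_le_mul_left _ (Nat.mul_le_mul_right _ hB4))
      rw [isoN_five hF, show (q + 1) * ((q ^ 3 + 1) * q ^ 3) = q ^ 7 + q ^ 6 + q ^ 4 + q ^ 3 by ring]
      have h56 : q ^ 5 ≤ q ^ 6 := Nat.pow_le_pow_right (by omega) (by norm_num)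
      have h24 : q ^ 2 < q ^ 4 := Nat.pow_lt_pow_right (by omega) (by norm_num)
      omega
    omega
  refine ⟨hPbot, ?_⟩
  by_contra hS
  set S := SS hF hP α with hSdef
  have hidx : P.index = q := by rw [hPbot, AddSubgroup.index_bot, card_fixedSet hF]
  have ho : Nat.card (MulAction.orbit (Qg hF hP) α) * Nat.card S = q ^ 7 := by
    rw [orbit_mul_SS hF H hP α, ← hPdef, hidx]
    ring
  have key := card_mul_le_of_fibres (Set.univ : Set M) (SS hF hP)
    (MinIndexPSUCover55.imgs q (pairPerp q W e f) S)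
    (c := Nat.card (MulAction.orbit (Qg hF hP) α)) (by
      have : Nonempty (MulAction.orbit (Qg hF hP) α) := ⟨⟨α, MulAction.mem_orbit_self α⟩⟩
      exact Nat.card_pos) (by
    rintro Y ⟨g, rfl⟩
    have hSg : SS hF hP (levi g • α) = imgS (g : SU n F q) S := SS_levi hF H.nondeg hP g α
    have hc : Nat.card (imgS (g : SU n F q) S) = Nat.card S :=
      (Nat.card_congr (S.equivMapOfInjective (actHom (g : SU n F q)) fun u v huv => by
        have h' : act (g : SU n F q) u = act (g : SU n F q) v := huv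
        rw [← act_inv_act (g : SU n F q) u, h', act_inv_act]).toEquiv).symm
    have h1 := orbit_mul_SS hF H hP (levi g • α)
    rw [PP_levi hF hP g α, ← hPdef, hidx, hSg, hc] at h1
    have h2 : Nat.card (MulAction.orbit (Qg hF hP) (levi g • α)) =
        Nat.card (MulAction.orbit (Qg hF hP) α) :=
      Nat.eq_of_mul_eq_mul_right (Nat.card_pos (α := S)) (by rw [h1, ho]; ring)
    rw [← h2]
    refine Nat.card_le_card_of_injective (fun γ : MulAction.orbit (Qg hF hP) (levi g • α) =>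
      (⟨(γ : M), Set.mem_univ _, ?_⟩ :
        {x : M | x ∈ (Set.univ : Set M) ∧ SS hF hP x = imgS (g : SU n F q) S}))
      fun a b h => Subtype.ext (congrArg Subtype.val h :)
    obtain ⟨ξ, hξ⟩ := γ.2
    rw [← hξ]
    show SS hF hP ((ξ : GS q W) • (levi g • α)) = _
    rw [SS_orbit hF hP ξ.2, hSg])
  rw [Nat.card_univ] at key
  have hI : Isot hF ⊥ S := by
    have := isot_SS hF hP α
    rwa [← hPdef, hPbot, ← hSdef] at this
  have h3 := MinIndexPSUFree55.free_three hF (hP.nondeg hF H.nondeg) (H.dimW' hF hP)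
    (H.small e f hP) H.big (SS_le hF hP α) hS hI
  rw [← isoN_five hF, ← ho, ← mul_assoc] at h3
  have := (Nat.le_of_mul_le_mul_right h3 Nat.card_pos).trans key
  omega

theorem card_orbit_moved [Finite M] (H : Hyp5 hF W B) (hk : Nat.card M < (isoN q 5))
    (hP : HP q W e f) (α : M) (hmv : PP hF hP.eW hP.ee α ≠ ⊤) :
    Nat.card (MulAction.orbit (Qg hF hP) α) = q ^ (2 * 3 + 1) := by
  obtain ⟨h1, h2⟩ := moved_free hF H hk hP α hmv
  have h := orbit_mul_SS hF H hP α
  rw [h1, h2, AddSubgroup.card_bot, mul_one, AddSubgroup.index_bot, card_fixedSet hF] at h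
  rw [h, ← pow_succ]

theorem moved_one_orbit [Finite M] (H : Hyp5 hF W B) (hk : Nat.card M < (isoN q 5))
    (hP : HP q W e f) (α : M) (hmv : PP hF hP.eW hP.ee α ≠ ⊤) (β : M)
    (hmv' : PP hF hP.eW hP.ee β ≠ ⊤) : β ∈ MulAction.orbit (Qg hF hP) α := by
  by_contra hne
  have hdis : Disjoint (MulAction.orbit (Qg hF hP) α) (MulAction.orbit (Qg hF hP) β) := by
    rw [Set.disjoint_left]
    intro x hx hx'
    apply hne
    rw [← MulAction.orbit_eq_iff.2 hx, MulAction.orbit_eq_iff.2 hx']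
    exact MulAction.mem_orbit_self β
  have h1 : (MulAction.orbit (Qg hF hP) α ∪ MulAction.orbit (Qg hF hP) β).ncard ≤ Nat.card M := by
    rw [← Set.ncard_univ M]
    exact Set.ncard_le_ncard (Set.subset_univ _) (Set.toFinite _)
  rw [Set.ncard_union_eq hdis (Set.toFinite _) (Set.toFinite _), ← Nat.card_coe_set_eq,
    ← Nat.card_coe_set_eq, card_orbit_moved hF H hk hP α hmv,
    card_orbit_moved hF H hk hP β hmv'] at h1
  have := H.c3 hF
  omega

theorem card_zfix_add [Finite M] (H : Hyp5 hF W B) (hk : Nat.card M < (isoN q 5))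
    (hP : HP q W e f) (α : M) (hmv : PP hF hP.eW hP.ee α ≠ ⊤) :
    Nat.card {β : M // ZFix hF hP.eW hP.ee β} + q ^ (2 * 3 + 1) = Nat.card M := by
  classical
  rw [← card_orbit_moved hF H hk hP α hmv, ← Nat.card_sum]
  refine Nat.card_congr (((Equiv.refl _).sumCongr (Equiv.subtypeEquivRight fun β => ?_)).trans
    (Equiv.sumCompl fun β => ZFix hF hP.eW hP.ee β))
  rw [zfix_iff]
  refine ⟨fun h => ?_, fun h => moved_one_orbit hF H hk hP α hmv β h⟩
  obtain ⟨ξ, hξ⟩ := h
  rw [← hξ]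
  show PP hF hP.eW hP.ee ((ξ : GS q W) • α) ≠ ⊤
  rwa [PP_orbit hF hP ξ.2]

/-- An isotropic stabiliser parameter of a fixed point fixes it. -/
theorem zfix_of_mem_SS [Finite M] (H : Hyp5 hF W B) (hk : Nat.card M < (isoN q 5))
    (hP : HP q W e f) {α : M} (hfix : ZFix hF hP.eW hP.ee α) {u : Fin n → F}
    (hu : u ∈ SS hF hP α) (huu : ⟪u, u⟫ = 0) (huW : u ∈ W) : ZFix hF huW huu α := by
  by_cases hu0 : u = 0
  · subst hu0
    intro r
    rw [show Tg hF huW huu r = 1 from Subtype.ext (su_ext fun x => by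
      show act (T hF 0 huu r) x = _
      rw [T_act, smul_zero, add_zero]; exact (act_one x).symm), one_smul]
  obtain ⟨hu', μ, hμ, hμfix⟩ := hu
  -- the parameter `μ` may be taken zero
  have h0 : (0 : F) + 0 ^ q + ⟪u, u⟫ = 0 := by rw [zero_pow_q hF, huu, add_zero, add_zero]
  obtain ⟨r, hr⟩ := exists_eq_c0_mul hF (c := μ) (by rw [huu, add_zero] at hμ; exact hμ)
  obtain ⟨h1, t1⟩ := Tg_eq_Qel hF hP r
  obtain ⟨h2, m1⟩ := Qel_mul hF hP hu' h0 (Submodule.zero_mem _) h1
  have hfix0 : Qel hF hP hu' h0 • α = α := by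
    have hm : Qel hF hP hu' h0 * Tg hF hP.eW hP.ee r = Qel hF hP hu' hμ := by
      rw [t1, m1]
      exact Qel_congr hF hP _ _ _ _ (add_zero u) (by rw [herm_zero_left, sub_zero, zero_add, hr])
    rw [← hm, mul_smul, hfix r] at hμfix
    exact hμfix
  -- read it in a Heisenberg group at `u`
  obtain ⟨g, hg⟩ := HP.exists_of_iso hF (hP.nondeg hF H.nondeg) hu' hu0 huu
  have hPu : HP q W u g := ⟨huW, pairPerp_le hg.fW, huu, hg.ff, hg.ef, hg.fe⟩
  have hne : -e ∈ pairPerp q W u g := Submodule.neg_mem _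
    (mem_pairPerp.2 ⟨hP.eW, e_perp hF hu', e_perp hF hg.fW⟩)
  have h0' : (0 : F) + 0 ^ q + ⟪-e, -e⟫ = 0 := by
    rw [zero_pow_q hF, herm_neg_left, herm_neg_right hF, hP.ee]; ring
  have hmem : -e ∈ SS hF hPu α := ⟨hne, 0, h0', by
    rw [show Qel hF hPu hne h0' = Qel hF hP hu' h0 from
      Subtype.ext (eich_exchange hF hP.ee huu (perp_e hu') h0 (perp_e hne) h0').symm]
    exact hfix0⟩
  by_contra hmv
  rw [zfix_iff] at hmv
  rw [(moved_free hF H hk hPu α hmv).2, AddSubgroup.mem_bot, neg_eq_zero] at hmem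
  exact hP.e_ne hmem

/-- A point fixed by a root group is fixed by the Heisenberg group, or there are many. -/
theorem fix_alt [Finite M] (H : Hyp5 hF W B) (hk : Nat.card M < (isoN q 5))
    (hP : HP q W e f) {α : M} (hfix : ZFix hF hP.eW hP.ee α) :
    (∀ x ∈ pairPerp q W e f, x ∈ SS hF hP α) ∨
      q ^ 2 * (q ^ 3 + 1) ≤ Nat.card {β : M // ZFix hF hP.eW hP.ee β} := by
  classical
  by_contra hcon
  simp only [not_or, not_forall, not_le] at hcon
  obtain ⟨⟨x, hx, hxS⟩, hlt⟩ := hcon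
  set S := SS hF hP α with hS
  have hclosed : ClosedS hF S := by
    intro u huS huu
    have huW' : u ∈ pairPerp q W e f := SS_le hF hP α u huS
    refine (invAt_iff hF huu S).2 fun r s hs => ?_
    have hfu := zfix_of_mem_SS hF H hk hP hfix huS huu (pairPerp_le huW') r
    have h1 := SS_levi hF H.nondeg hP (Tg hF huW' huu r) α
    rw [show levi (Tg hF huW' huu r) = Tg hF (pairPerp_le huW') huu r from rfl, hfu, ← hS] at h1
    rw [h1]
    exact mem_imgS.2 ⟨s, hs, rfl⟩
  have hgeo := H.geo hF hP S (SS_le hF hP α) ⟨x, hx, hxS⟩ hclosed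
  have hne' : pairPerp q W e f ≠ ⊥ := fun h => by
    rw [h, Submodule.mem_bot] at hx
    exact hxS (hx ▸ S.zero_mem)
  set o := Nat.card (MulAction.orbit (Qg hF hP) α) with ho
  have hoS : o * Nat.card S = Nat.card (pairPerp q W e f) := by
    rw [ho, orbit_mul_SS hF H hP α, (zfix_iff hF).1 hfix, AddSubgroup.index_top, mul_one,
      H.cardW' hF hP]
  have key := card_mul_le_of_fibres {β : M | ZFix hF hP.eW hP.ee β} (SS hF hP)
    (imgsT hF (pairPerp q W e f) S) (c := o) (by
      have : Finite (MulAction.orbit (Qg hF hP) α) := inferInstance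
      have : Nonempty (MulAction.orbit (Qg hF hP) α) := ⟨⟨α, MulAction.mem_orbit_self α⟩⟩
      exact Nat.card_pos) (by
    rintro Y ⟨⟨g, a, ha⟩, rfl⟩
    set β := tau hF hP a ha • (levi g • α) with hβ
    have ha0 : (a : F) ≠ 0 := fun h => ha (Subtype.ext h)
    have hPβ : PP hF hP.eW hP.ee β = ⊤ := by
      rw [hβ, PP_smul hF hP.eW hP.ee ha0 (tau_e hF hP a ha), PP_levi hF hP g,
        (zfix_iff hF).1 hfix]
      refine AddSubgroup.eq_top_of_card_eq _ (card_scaleP hF ?_ _ |>.trans AddSubgroup.card_top)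
      exact fun h => ha0 (by
        have := congrArg Subtype.val h
        exact pow_eq_zero_iff (q_ne_zero hF) |>.1 ((mul_eq_zero.1 this).elim id fun h' => by
          rw [h', zero_pow_q hF]))
    have hSβ : SS hF hP β = S.map (scaleHom (a : F) (g : SU n F q)) := by
      ext s
      rw [hβ, SS_smul hF hP ha0 (tau_e hF hP a ha) (fun w hw => by
        rw [tau_perp hF hP a ha hw]; exact hw) (levi g • α)]
      rw [AddSubgroup.mem_map, a.2]
      constructor
      · rintro ⟨s', hs', rfl⟩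
        rw [tau_perp hF hP a ha (SS_le hF hP _ _ hs')]
        rw [SS_levi hF H.nondeg hP g α, mem_imgS] at hs'
        obtain ⟨s'', hs'', rfl⟩ := hs'
        exact ⟨s'', hs'', rfl⟩
      · rintro ⟨s'', hs'', rfl⟩
        have hm : act (g : SU n F q) s'' ∈ SS hF hP (levi g • α) := by
          rw [SS_levi hF H.nondeg hP g α, mem_imgS]; exact ⟨s'', hs'', rfl⟩
        exact ⟨_, hm, by rw [tau_perp hF hP a ha (SS_le hF hP _ _ hm)]; rfl⟩
    have hoβ : Nat.card (MulAction.orbit (Qg hF hP) β) = o := by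
      have h1 := orbit_mul_SS hF H hP β
      rw [hPβ, AddSubgroup.index_top, mul_one, hSβ, ← H.cardW' hF hP, ← hoS] at h1
      rw [← Nat.card_congr (S.equivMapOfInjective (scaleHom (a : F) (g : SU n F q))
        fun u v huv => by
          have h' : act (g : SU n F q) u = act (g : SU n F q) v :=
            smul_right_injective _ ha0 huv
          rw [← act_inv_act (g : SU n F q) u, h', act_inv_act]).toEquiv] at h1
      exact Nat.eq_of_mul_eq_mul_right Nat.card_pos h1
    rw [← hoβ]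
    refine Nat.card_le_card_of_injective (fun γ : MulAction.orbit (Qg hF hP) β =>
      (⟨(γ : M), ?_⟩ : {x : M | x ∈ {β : M | ZFix hF hP.eW hP.ee β} ∧ SS hF hP x =
        S.map (scaleHom (a : F) (g : SU n F q))}))
      fun a b h => Subtype.ext (congrArg Subtype.val h :)
    obtain ⟨ξ, hξ⟩ := γ.2
    rw [← hξ]
    refine ⟨(zfix_iff hF).2 ?_, ?_⟩
    · show PP hF hP.eW hP.ee ((ξ : GS q W) • β) = ⊤
      rw [PP_orbit hF hP ξ.2, hPβ]
    · show SS hF hP ((ξ : GS q W) • β) = _
      rw [SS_orbit hF hP ξ.2, hSβ])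
  rw [← hoS] at hgeo
  have : q ^ 2 * (q ^ 3 + 1) * Nat.card S ≤
      Nat.card {β : M // ZFix hF hP.eW hP.ee β} * Nat.card S := by
    refine hgeo.trans ?_
    rw [mul_right_comm, mul_comm o]
    exact Nat.mul_le_mul_right _ key
  have := Nat.le_of_mul_le_mul_right this Nat.card_pos
  omega

/-- A fixed point of a root group is fixed by the root groups of perpendicular isotropic vectors. -/
theorem zfix_spread [Finite M] [MulAction.IsPretransitive (GS q W) M] (H : Hyp5 hF W B)
    (hk : Nat.card M < (isoN q 5)) (hno : ¬RootsFix hF W M) {x y : Fin n → F} (hxW : x ∈ W)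
    (hxx : ⟪x, x⟫ = 0) (hx0 : x ≠ 0) (hyW : y ∈ W) (hyy : ⟪y, y⟫ = 0) (hy0 : y ≠ 0)
    (hxy : ⟪x, y⟫ = 0) {α : M} (hfix : ZFix hF hxW hxx α) : ZFix hF hyW hyy α := by
  by_cases hdep : ∃ a : F, x = a • y
  · obtain ⟨a, ha⟩ := hdep
    have ha0 : a ≠ 0 := fun h => hx0 (by rw [ha, h, zero_smul])
    exact (zfix_congr hF hyW hyy hxW hxx ha0 ha α).1 hfix
  push Not at hdep
  obtain ⟨g, hP, hyg⟩ := HP.exists_perp hF H.nondeg hxW hxx hyW hy0 hyy hxy hdep
  have hyW' : y ∈ pairPerp q W x g :=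
    mem_pairPerp.2 ⟨hyW, herm_skew_zero hF hxy, hyg⟩
  rcases fix_alt hF H hk hP hfix with h | h
  · exact zfix_of_mem_SS hF H hk hP hfix (h y hyW') hyy hyW
  · exfalso
    obtain ⟨β, hβ⟩ : ∃ β : M, ¬ZFix hF hxW hxx β := by
      by_contra! hall
      refine hno (rootsFix_of_point hF H.nondeg (α := α) fun v hvW hv hv0 => ?_)
      by_contra hnv
      have hc := card_zfix_eq hF (M := M) H.nondeg hxW hxx hx0 hvW hv hv0
      rw [Nat.card_congr (Equiv.subtypeUnivEquiv hall)] at hc
      have hlt : Nat.card {β : M // ZFix hF hvW hv β} < Nat.card M :=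
        Finite.card_subtype_lt (x := α) hnv
      omega
    have hadd := card_zfix_add hF H hk hP β fun h' => hβ ((zfix_iff hF).2 h')
    have hd : Nat.card M ∣ isoN q (3 + 2) * Nat.card {α : M // ZFix hF hxW hxx α} :=
      (averaging hF H.nondeg H.dim hxW hxx hx0).1
    have hpos : 0 < Nat.card {α : M // ZFix hF hxW hxx α} :=
      Nat.card_pos_iff.2 ⟨⟨⟨α, hfix⟩⟩, inferInstance⟩
    have hqpos : 0 < q ^ (2 * 3 + 1) := Nat.pow_pos (by have := two_le_q hF; omega)
    set fc := Nat.card {α : M // ZFix hF hxW hxx α} with hfc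
    have hfc' : Nat.card {β : M // ZFix hF hP.eW hP.ee β} = fc := rfl
    rcases H.c4 hF with h4 | ⟨h4, h5⟩
    · omega
    · have hkC : isoN q (3 + 2) = Nat.card M + 1 := by omega
      rw [hkC, add_mul, one_mul] at hd
      have := Nat.le_of_dvd hpos ((Nat.dvd_add_right (dvd_mul_right _ _)).1 hd)
      omega

/-- In a nontrivial transitive action no point is fixed by a root group. -/
theorem no_zfix [Finite M] [MulAction.IsPretransitive (GS q W) M] (H : Hyp5 hF W B)
    (hk : Nat.card M < (isoN q 5)) (hno : ¬RootsFix hF W M) {x : Fin n → F} (hxW : x ∈ W)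
    (hxx : ⟪x, x⟫ = 0) (hx0 : x ≠ 0) (α : M) : ¬ZFix hF hxW hxx α := by
  intro hfix
  refine hno (rootsFix_of_point hF H.nondeg (α := α) fun v hvW hv hv0 => ?_)
  by_cases hxv : ⟪x, v⟫ = 0
  · exact zfix_spread hF H hk hno hxW hxx hx0 hvW hv hv0 hxv hfix
  set a := ⟪x, v⟫ with ha
  set v' := ((a⁻¹) ^ q) • v with hv'
  have hPv : HP q W x v' := by
    refine ⟨hxW, W.smul_mem _ hvW, hxx, herm_smul_smul_zero hv _ _, ?_, ?_⟩
    · rw [hv', herm_smul_right, pow_q_q hF, ← ha, inv_mul_cancel₀ hxv]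
    · rw [hv', herm_smul_left, herm_conj hF x v, ← ha, ← mul_pow, inv_mul_cancel₀ hxv, one_pow]
  obtain ⟨z, hz, hz0, hzz⟩ := exists_iso_in hF (hPv.nondeg hF H.nondeg)
    (by rw [H.dimW' hF hPv]; have := H.three hF; omega)
  have hzv : ⟪z, v⟫ = 0 := by
    have h1 := perp_f hz
    rw [hv', herm_smul_right, pow_q_q hF] at h1
    exact (mul_eq_zero.1 h1).resolve_left (inv_ne_zero hxv)
  exact zfix_spread hF H hk hno (pairPerp_le hz) hzz hz0 hvW hv hv0 hzv
    (zfix_spread hF H hk hno hxW hxx hx0 (pairPerp_le hz) hzz hz0 (e_perp hF hz) hfix)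

/-- In a nontrivial transitive action the Heisenberg group is regular. -/
theorem regular_of_not [Finite M] [MulAction.IsPretransitive (GS q W) M]
    (H : Hyp5 hF W B) (hk : Nat.card M < (isoN q 5)) (hno : ¬RootsFix hF W M)
    (hP : HP q W e f) (α : M) :
    (∀ (w : Fin n → F) (μ : F) (hw : w ∈ pairPerp q W e f) (hμ : μ + μ ^ q + ⟪w, w⟫ = 0),
        Qel hF hP hw hμ • α = α → w = 0 ∧ μ = 0) ∧
      ∀ β : M, ∃ (w : Fin n → F) (μ : F) (hw : w ∈ pairPerp q W e f)
        (hμ : μ + μ ^ q + ⟪w, w⟫ = 0), Qel hF hP hw hμ • α = β := by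
  have hmv : ∀ β : M, PP hF hP.eW hP.ee β ≠ ⊤ := fun β h =>
    no_zfix hF H hk hno hP.eW hP.ee hP.e_ne β ((zfix_iff hF).2 h)
  refine ⟨fun w μ hw hμ h => ?_, fun β => ?_⟩
  · have hwS : w ∈ SS hF hP α := ⟨hw, μ, hμ, h⟩
    rw [(moved_free hF H hk hP α (hmv α)).2, AddSubgroup.mem_bot] at hwS
    subst hwS
    refine ⟨rfl, ?_⟩
    obtain ⟨r, hr⟩ := exists_eq_c0_mul hF (c := μ) (by
      rw [herm_zero_left, add_zero] at hμ; exact hμ)
    obtain ⟨h1, t1⟩ := Tg_eq_Qel hF hP r
    have hr' : r ∈ PP hF hP.eW hP.ee α := by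
      show Tg hF hP.eW hP.ee r • α = α
      rw [t1, Qel_congr hF hP _ h1 hw hμ rfl hr.symm]
      exact h
    rw [(moved_free hF H hk hP α (hmv α)).1, AddSubgroup.mem_bot] at hr'
    rw [hr, hr', AddSubgroup.coe_zero, mul_zero]
  · obtain ⟨ξ, hξ⟩ := moved_one_orbit hF H hk hP α (hmv α) β (hmv β)
    obtain ⟨w, μ, hw, hμ, he⟩ := exists_Qel hF hP ξ.2
    exact ⟨w, μ, hw, hμ, by rw [← he]; exact hξ⟩

/-- The point fixed by `τ` up to the centre, when `τ` acts freely modulo the centre. -/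
theorem exists_centred [Finite M] [MulAction.IsPretransitive (GS q W) M]
    (H : Hyp5 hF W B) (hk : Nat.card M < (isoN q 5)) (hno : ¬RootsFix hF W M)
    (hP : HP q W e f) (τ : GS q W) {t : F} (hτe : act (τ : SU n F q) e = t • e)
    (hτW : ∀ w ∈ pairPerp q W e f, act (τ : SU n F q) w ∈ pairPerp q W e f)
    (hfree : ∀ w ∈ pairPerp q W e f, t ^ q • act (τ : SU n F q) w = w → w = 0) (α₀ : M) :
    ∃ β : M, (∃ r, τ • β = Tg hF hP.eW hP.ee r • β) ∧
      ∀ γ : M, (∃ r, τ • γ = Tg hF hP.eW hP.ee r • γ) →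
        ∃ r, γ = Tg hF hP.eW hP.ee r • β := by
  obtain ⟨w₀, μ₀, hw₀, hμ₀, h₀⟩ := (regular_of_not hF H hk hno hP α₀).2 (τ • α₀)
  let D : pairPerp q W e f → pairPerp q W e f := fun w =>
    ⟨(w : Fin n → F) - t ^ q • act (τ : SU n F q) (w : Fin n → F),
      Submodule.sub_mem _ w.2 (Submodule.smul_mem _ _ (hτW _ w.2))⟩
  have hD : Function.Injective D := fun a b h => by
    have h' : (a : Fin n → F) - t ^ q • act (τ : SU n F q) a =
        (b : Fin n → F) - t ^ q • act (τ : SU n F q) b := congrArg Subtype.val h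
    refine Subtype.ext (sub_eq_zero.1 (hfree _ (Submodule.sub_mem _ a.2 b.2) ?_))
    rw [act_sub, smul_sub]
    exact sub_eq_sub_iff_sub_eq_sub.1 h' |>.symm
  obtain ⟨⟨v, hv⟩, hDv⟩ := (Finite.injective_iff_surjective.1 hD) ⟨w₀, hw₀⟩
  have hv' : v - t ^ q • act (τ : SU n F q) v = w₀ := congrArg Subtype.val hDv
  obtain ⟨ν, hν⟩ := exists_mu hF v
  have hcomb : τ • (Qel hF hP hv hν • α₀) =
      Qel hF hP (Submodule.smul_mem _ (t ^ q) (hτW v hv)) (cond_conj (g := τ) hF hν) •
        (Qel hF hP hw₀ hμ₀ • α₀) := by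
    rw [h₀, ← conj_Qel hF hP hτe hτW hv hν, mul_smul, mul_smul, inv_smul_smul]
  obtain ⟨hm, hmul⟩ := Qel_mul hF hP (Submodule.smul_mem _ (t ^ q) (hτW v hv))
    (cond_conj (g := τ) hF hν) hw₀ hμ₀
  rw [← mul_smul (Qel hF hP _ _) (Qel hF hP hw₀ hμ₀), hmul] at hcomb
  set μ' := t ^ q * t * ν + μ₀ - ⟪w₀, t ^ q • act (τ : SU n F q) v⟫ with hμ'
  have hvw : t ^ q • act (τ : SU n F q) v + w₀ = v := by rw [← hv']; abel
  obtain ⟨r, hr⟩ := exists_eq_c0_mul hF (c := μ' - ν) (by
    rw [hvw] at hm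
    rw [sub_pow_q hF]
    linear_combination hm - hν)
  obtain ⟨h1, t1⟩ := Tg_eq_Qel hF hP r
  obtain ⟨h2, hTQ⟩ := Qel_mul hF hP (Submodule.zero_mem _) h1 hv hν
  refine ⟨Qel hF hP hv hν • α₀, ⟨r, ?_⟩, ?_⟩
  · rw [hcomb, t1, ← mul_smul, hTQ]
    congr 1
    refine Qel_congr hF hP _ _ _ _ (by rw [hvw, zero_add]) ?_
    rw [herm_zero_right hF, sub_zero, ← hr]
    ring
  · rintro γ ⟨r', hr'⟩
    obtain ⟨β, hβ⟩ : ∃ β, β = Qel hF hP hv hν • α₀ := ⟨_, rfl⟩
    rw [← hβ]
    obtain ⟨u, κ, hu, hκ, hγ⟩ := (regular_of_not hF H hk hno hP β).2 γ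
    have hβr : τ • β = Tg hF hP.eW hP.ee r • β := by
      rw [hβ, hcomb, t1, ← mul_smul (Qel hF hP _ h1), hTQ]
      congr 1
      refine Qel_congr hF hP _ _ _ _ (by rw [hvw, zero_add]) ?_
      rw [herm_zero_right hF, sub_zero, ← hr]
      ring
    have hτu : τ • γ = Qel hF hP (Submodule.smul_mem _ (t ^ q) (hτW u hu))
        (cond_conj (g := τ) hF hκ) • (Tg hF hP.eW hP.ee r • β) := by
      rw [← hγ, ← hβr, ← conj_Qel hF hP hτe hτW hu hκ, mul_smul, mul_smul, inv_smul_smul]
    obtain ⟨h1', t1'⟩ := Tg_eq_Qel hF hP r'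
    rw [hr', ← hγ, t1', t1, ← mul_smul, ← mul_smul] at hτu
    obtain ⟨hA, eA⟩ := Qel_mul hF hP (Submodule.zero_mem _) h1' hu hκ
    obtain ⟨hB, eB⟩ := Qel_mul hF hP (Submodule.smul_mem _ (t ^ q) (hτW u hu))
      (cond_conj (g := τ) hF hκ) (Submodule.zero_mem _) h1
    rw [eA, eB] at hτu
    obtain ⟨w, μ, hw, hμ, hinv⟩ := exists_Qel hF hP
      ((Qg hF hP).mul_mem ((Qg hF hP).inv_mem (Qel_mem hF hP _ hB)) (Qel_mem hF hP _ hA))
    have h0 : Qel hF hP hw hμ • β = β := by
      rw [← hinv, mul_smul, hτu, inv_smul_smul]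
    obtain ⟨hw0, hμ0⟩ := (regular_of_not hF H hk hno hP β).1 w μ hw hμ h0
    have hone : Qel hF hP hw hμ = 1 := by
      subst hw0 hμ0
      obtain ⟨h3, t3⟩ := Tg_eq_Qel hF hP 0
      rw [Qel_congr hF hP hw hμ (Submodule.zero_mem _) h3 rfl
        (by rw [AddSubgroup.coe_zero, mul_zero]), ← t3]
      exact Subtype.ext (T_zero hF e hP.ee)
    rw [hone, inv_mul_eq_one] at hinv
    obtain ⟨e1, -⟩ := Qel_inj hF hP hinv
    rw [zero_add, add_zero] at e1
    have hu0 : u = 0 := hfree u hu e1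
    subst hu0
    obtain ⟨s, hs⟩ := exists_eq_c0_mul hF (c := κ) (by
      rw [herm_zero_left, add_zero] at hκ; exact hκ)
    obtain ⟨h4, t4⟩ := Tg_eq_Qel hF hP s
    exact ⟨s, by rw [t4, ← hγ, Qel_congr hF hP hu hκ _ h4 rfl hs]⟩

/-- A torus centralising the Levi factor leads to a contradiction. -/
theorem regular_big [Finite M] [MulAction.IsPretransitive (GS q W) M]
    (H : Hyp5 hF W B) (hk : Nat.card M < (isoN q 5)) (hno : ¬RootsFix hF W M) (hqB : q < B)
    (hq3 : 3 ≤ q) (hP : HP q W e f) (α₀ : M) : False := by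
  classical
  obtain ⟨a, ha0, ha1⟩ : ∃ a : fixedSet hF, a ≠ 0 ∧ (a : F) ≠ 1 := by
    by_contra! hall
    have : Nat.card (fixedSet hF) ≤ Nat.card (Fin 2) := Nat.card_le_card_of_injective
      (fun a => if a = 0 then 0 else 1) fun a b hab => by
        by_cases ha : a = 0 <;> by_cases hb : b = 0 <;> simp [ha, hb] at hab ⊢
        exact Subtype.ext ((hall a ha).trans (hall b hb).symm)
    rw [card_fixedSet hF, Nat.card_fin] at this
    omega
  set τ := tau hF hP a ha0
  have hτW : ∀ w ∈ pairPerp q W e f, act (τ : SU n F q) w ∈ pairPerp q W e f := fun w hw => by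
    rw [tau_perp hF hP a ha0 hw]; exact hw
  obtain ⟨β, hβ, huniq⟩ := exists_centred hF H hk hno hP τ (tau_e hF hP a ha0) hτW
    (fun w hw h => by
      rw [tau_perp hF hP a ha0 hw, a.2] at h
      by_contra hw0
      refine ha1 (sub_eq_zero.1 ((smul_eq_zero.1 ?_).resolve_right hw0))
      rw [sub_smul, one_smul, h, sub_self]) α₀
  have hcard : Nat.card (Set.range fun g : GS q (pairPerp q W e f) => levi g • β) < B := by
    refine lt_of_le_of_lt ?_ hqB
    refine le_trans ?_ (card_fixedSet hF).le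
    have hsub : ∀ γ ∈ Set.range fun g : GS q (pairPerp q W e f) => levi g • β,
        γ ∈ Set.range fun r => Tg hF hP.eW hP.ee r • β := by
      rintro γ ⟨g, rfl⟩
      obtain ⟨r, hr⟩ := hβ
      obtain ⟨s, hs⟩ := huniq (levi g • β) ⟨r, by
        have c1 : τ * levi g = levi g * τ := Subtype.ext (su_ext fun x => by
          simp only [Subgroup.coe_mul, act_mul]
          obtain ⟨he, hf⟩ := fix_pair hF hP g.2
          show pairMat q e f (a : F) *ᵥ act (g : SU n F q) x =
            act (g : SU n F q) (pairMat q e f (a : F) *ᵥ x)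
          rw [pairMat_mulVec, pairMat_mulVec, act_add, act_add, act_smul, act_smul, he, hf]
          have e1 := herm_act (g : SU n F q) x e
          have e2 := herm_act (g : SU n F q) x f
          rw [he] at e1
          rw [hf] at e2
          rw [e1, e2])
        have c2 : Tg hF hP.eW hP.ee r * levi g = levi g * Tg hF hP.eW hP.ee r :=
          Subtype.ext (commute_T hF hP.ee (fix_pair hF hP g.2).1 r).symm
        rw [← mul_smul, c1, mul_smul, hr, ← mul_smul, ← c2, mul_smul]⟩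
      exact ⟨s, hs.symm⟩
    refine (Nat.card_mono (Set.toFinite _) hsub).trans ?_
    exact Finite.card_range_le _
  obtain ⟨e', he'W, he'0, he'⟩ := exists_iso_in hF (hP.nondeg hF H.nondeg)
    (by rw [H.dimW' hF hP]; have := H.three hF; omega)
  refine no_zfix hF H hk hno (pairPerp_le he'W) he' he'0 β fun r => ?_
  exact small_orbit hF (H.small e f hP) (fun g γ => levi g • γ) (fun γ => one_smul _ γ)
    (fun g g' γ => mul_smul (levi g) (levi g') γ) β hcard he'W he' r

/-- The regular case over four elements. -/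
theorem regular_two [Finite M] [MulAction.IsPretransitive (GS q W) M]
    (H : Hyp5 hF W B) (hk : Nat.card M < (isoN q 5)) (hno : ¬RootsFix hF W M)
    (hq2 : q = 2) (hP : HP q W e f) (α₀ : M) : False := by
  classical
  subst hq2
  have h2 : (2 : F) = 0 := by
    have h := FiniteField.cast_card_eq_zero F
    rw [hF] at h
    push_cast at h
    exact mul_self_eq_zero.1 (by linear_combination h)
  obtain ⟨ω, hω0, hω1⟩ : ∃ x : F, x ≠ 0 ∧ x ≠ 1 := by
    by_contra! h
    have : Fintype.card F ≤ Fintype.card (Fin 2) := Fintype.card_le_of_injective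
      (fun a => if a = 0 then 0 else 1) fun a b hab => by
        by_cases ha : a = 0 <;> by_cases hb : b = 0 <;> simp [ha, hb] at hab ⊢
        exact (h a ha).trans (h b hb).symm
    rw [hF, Fintype.card_fin] at this
    omega
  have hω3 : ω ^ 3 = 1 := by
    have h := FiniteField.pow_card_sub_one_eq_one ω hω0
    rwa [hF] at h
  have hinv : ω⁻¹ = ω ^ 2 := inv_eq_of_mul_eq_one_right (by linear_combination hω3)
  have hfix01 : ∀ r : fixedSet hF, r = 0 ∨ (r : F) = 1 := fun r => by
    rcases eq_or_ne (r : F) 0 with h | h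
    · exact Or.inl (Subtype.ext h)
    · exact Or.inr (mul_right_cancel₀ h (by rw [one_mul, ← sq]; exact r.2))
  have hc0 : c0 hF = 1 := mul_right_cancel₀ (c0_ne hF) (by
    linear_combination c0_skew hF - (c0 hF) * h2)
  obtain ⟨e', he'W, he'0, he'⟩ := exists_iso_in hF (hP.nondeg hF H.nondeg)
    (by rw [H.dimW' hF hP]; have := H.three hF; omega)
  obtain ⟨f', hP'⟩ := HP.exists_of_iso hF (hP.nondeg hF H.nondeg) he'W he'0 he'
  obtain ⟨τ, hτ⟩ := exists_tau_two hF hP hP' hω0
  have hcoef : (ω ^ 2)⁻¹ = ω := inv_eq_of_mul_eq_one_right (by linear_combination hω3)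
  have hcoef' : (ω⁻¹ ^ 2)⁻¹ = ω ^ 2 := by rw [inv_pow, inv_inv]
  have hτe : act (τ : SU n F 2) e = ω • e := by
    rw [hτ, hP.ef, hP.ee, e_perp hF hP'.eW, e_perp hF hP'.fW]
    module
  have hτe' : act (τ : SU n F 2) e' = (ω ^ 2) • e' := by
    rw [hτ, perp_e he'W, perp_f he'W, hP'.ef, he', hinv]
    module
  have hτW : ∀ w ∈ pairPerp 2 W e f, act (τ : SU n F 2) w ∈ pairPerp 2 W e f := by
    intro w hw
    rw [hτ, perp_e hw, perp_f hw, mul_zero, mul_zero, zero_smul, zero_smul, add_zero, add_zero]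
    exact Submodule.add_mem _ (Submodule.add_mem _ hw (Submodule.smul_mem _ _ hP'.eW))
      (Submodule.smul_mem _ _ hP'.fW)
  obtain ⟨β, ⟨r₀, hβ⟩, huniq⟩ := exists_centred hF H hk hno hP τ hτe hτW (fun w hw h => by
    rw [hτ, perp_e hw, perp_f hw, mul_zero, mul_zero, zero_smul, zero_smul, add_zero, add_zero,
      hcoef', hinv] at h
    have ha := congrArg (fun x => hermForm n F 2 x f') h
    have hb := congrArg (fun x => hermForm n F 2 x e') h
    simp only [herm_add_left, herm_smul_left, hP'.ef, hP'.ff, hP'.fe, he'] at ha hb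
    have hz : ω ^ 2 * ω ^ 2 - 1 ≠ 0 := by
      rw [show ω ^ 2 * ω ^ 2 - 1 = ω - 1 by linear_combination ω * hω3]
      exact sub_ne_zero.2 hω1
    have ha0 : hermForm n F 2 w f' = 0 := (mul_eq_zero.1 (show
      (ω ^ 2 * ω ^ 2 - 1) * hermForm n F 2 w f' = 0 by linear_combination ha)).resolve_left hz
    have hb0 : hermForm n F 2 w e' = 0 := (mul_eq_zero.1 (show
      (ω ^ 2 * ω ^ 2 - 1) * hermForm n F 2 w e' = 0 by linear_combination hb)).resolve_left hz
    simp only [ha0, hb0, mul_zero, zero_smul, add_zero] at h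
    by_contra hw0
    have h' : (ω ^ 2 - 1) • w = 0 := by rw [sub_smul, one_smul, h, sub_self]
    rcases smul_eq_zero.1 h' with h'' | h''
    · exact hω1 (by linear_combination hω3 - ω * h'')
    · exact hw0 h'') α₀
  let o : fixedSet hF := ⟨1, (mem_fixedSet hF).2 (one_pow 2)⟩
  set z := Tg hF hP.eW hP.ee o with hz
  have hswap : ∀ u (hu : u ∈ pairPerp 2 W e f) (huu : hermForm n F 2 u u = 0), u ≠ 0 →
      τ * Tg hF (pairPerp_le hu) huu o * τ⁻¹ = Tg hF (pairPerp_le hu) huu o →
      Tg hF (pairPerp_le hu) huu o • β = z • β := by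
    intro u hu huu hu0 hcomm
    have hmove : Tg hF (pairPerp_le hu) huu o • β ≠ β := by
      intro h
      refine no_zfix hF H hk hno (pairPerp_le hu) huu hu0 β fun r => ?_
      rcases hfix01 r with rfl | h1
      · rw [show Tg hF (pairPerp_le hu) huu 0 = 1 from Subtype.ext (T_zero hF u huu), one_smul]
      · rwa [show r = o from Subtype.ext h1]
    have hc2 : Tg hF (pairPerp_le hu) huu o * Tg hF hP.eW hP.ee r₀ =
        Tg hF hP.eW hP.ee r₀ * Tg hF (pairPerp_le hu) huu o := Subtype.ext (commute_T hF hP.ee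
      (by rw [Tg_coe, T_act, e_perp hF hu, mul_zero, zero_smul, add_zero]) r₀)
    obtain ⟨s, hs⟩ := huniq (Tg hF (pairPerp_le hu) huu o • β) ⟨r₀, by
      rw [← mul_smul, mul_inv_eq_iff_eq_mul.1 hcomm, mul_smul, hβ, ← mul_smul, hc2, mul_smul]⟩
    rcases hfix01 s with rfl | h1
    · rw [show Tg hF hP.eW hP.ee 0 = 1 from Subtype.ext (T_zero hF e hP.ee), one_smul] at hs
      exact absurd hs hmove
    · rw [hs, show s = o from Subtype.ext h1]
  have hTe' : Tg hF (pairPerp_le he'W) he' o • β = z • β := hswap e' he'W he' he'0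
    (Subtype.ext (by
      show (τ : SU n F 2) * T hF e' he' o * (τ : SU n F 2)⁻¹ = T hF e' he' o
      rw [conj_T hF, T_congr hF _ (herm_smul_smul_zero he' _ _) hτe']
      exact T_smul hF he' _ o o (by
        show (1 : F) = (ω ^ 2) ^ 2 * ω ^ 2 * 1
        linear_combination -(ω ^ 3 + 1) * hω3)))
  have hzz : z * z = 1 := Subtype.ext (by
    show T hF e hP.ee o * T hF e hP.ee o = 1
    rw [← T_add, show o + o = 0 from Subtype.ext (by
      show (1 : F) + 1 = 0
      linear_combination h2), T_zero])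
  have hfix : (Tg hF (pairPerp_le he'W) he' o * z) • β = β := by
    have hcz : Tg hF (pairPerp_le he'W) he' o * z = z * Tg hF (pairPerp_le he'W) he' o :=
      Subtype.ext (commute_T hF hP.ee
        (by rw [Tg_coe, T_act, e_perp hF he'W, mul_zero, zero_smul, add_zero]) o)
    rw [hcz, mul_smul, hTe', ← mul_smul, hzz, one_smul]
  set x₀ := e' + e with hx₀
  have hperp : hermForm n F 2 e' e = 0 := perp_e he'W
  have hx₀x : hermForm n F 2 x₀ x₀ = 0 := by
    rw [hx₀, herm_add_left, herm_add_right hF, herm_add_right hF, he', hP.ee, hperp,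
      herm_skew_zero hF hperp]
    ring
  have hx₀e : hermForm n F 2 x₀ e' = 0 := by
    rw [hx₀, herm_add_left, he', herm_skew_zero hF hperp, add_zero]
  have hind : ∀ a : F, x₀ ≠ a • e' := by
    intro a ha
    have h1 := congrArg (fun x => hermForm n F 2 x f) ha
    simp only [hx₀, herm_add_left, herm_smul_left, hP.ef, perp_f he'W, mul_zero, zero_add] at h1
    exact one_ne_zero h1
  have hx₀W : x₀ ∈ W := W.add_mem (pairPerp_le he'W) hP.eW
  obtain ⟨g, hP₀, he'g⟩ :=
    HP.exists_perp hF H.nondeg hx₀W hx₀x (pairPerp_le he'W) he'0 he' hx₀e hind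
  have he'₀ : e' ∈ pairPerp 2 W x₀ g :=
    mem_pairPerp.2 ⟨pairPerp_le he'W, herm_skew_zero hF hx₀e, he'g⟩
  have hμ : (1 : F) + 1 ^ 2 + hermForm n F 2 e' e' = 0 := by
    rw [he']; linear_combination h2
  have heq : Qel hF hP₀ he'₀ hμ =
      Tg hF (pairPerp_le he'W) he' o * Tg hF hP.eW hP.ee o := Subtype.ext (by
    apply su_ext
    intro x
    simp only [Qel, Eg_coe, Subgroup.coe_mul, Tg_coe, act_mul, eich_act, T_act, herm_add_left,
      herm_smul_left, herm_skew_zero hF hperp, hc0, hx₀, herm_add_right hF, o]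
    match_scalars
    · ring
    · ring_nf
      linear_combination (hermForm n F 2 x e) * h2
    · ring)
  rw [hz, ← heq] at hfix
  exact he'0 ((regular_of_not hF H hk hno hP₀ β).1 e' 1 he'₀ hμ hfix).1

/-- Dimension five: fewer points than isotropic points give trivial root groups. -/
theorem small_five (H : Hyp5 hF W B) : Small hF W (isoN q 5) := by
  refine small_of_transitive hF fun M _ _ _ hk => ?_
  by_contra hno
  obtain ⟨e, heW, he0, he⟩ := exists_iso_in hF H.nondeg (by rw [H.dim]; omega)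
  obtain ⟨f, hP⟩ := HP.exists_of_iso hF H.nondeg heW he0 he
  have hα : Nonempty M := by
    by_contra h
    exact hno fun v hvW hv r α => absurd ⟨α⟩ h
  obtain ⟨α₀⟩ := hα
  by_cases h2 : q = 2
  · exact regular_two hF H hk hno h2 hP α₀
  · exact regular_big hF H hk hno ((H.qlt hF).resolve_right h2)
      (by have := two_le_q hF; omega) hP α₀

end Cfsg.Agent.MinIndexPSUFive55
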