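import Mathlib
import Cfsg.Agent.Lib.MinIndexUnit19Act
import Cfsg.Agent.Lib.MinIndexUnit19Arith
import Cfsg.Agent.Lib.OrthUnitaryTransvection

/-!
From actions in which the root groups are trivial to indices of subgroups of `PSU n F q`, and the
closed forms of the numbers of isotropic points.
-/

set_option autoImplicit false

namespace Cfsg.Agent.MinIndexPSUGlue55

open Cfsg Cfsg.Agent.OrthUnitaryHerm Cfsg.Agent.OrthUnitaryTransvection
  Cfsg.Agent.SUMinDegree32Geom Cfsg.Agent.MinIndexUnit19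

variable {F : Type*} [Field F] [Fintype F] {q n : ℕ}
variable (hF : Fintype.card F = q ^ 2)
include hF

/-- The group of the whole space is everything. -/
theorem mem_GS_top (g : SU n F q) : g ∈ GS q (⊤ : Submodule F (Fin n → F)) := fun x hx => by
  rw [eq_zero_of_herm_eq_zero hF fun y => hx y Submodule.mem_top]
  exact Matrix.mulVec_zero _

theorem index_bound (hn : 4 ≤ n) {B : ℕ} (h : Small hF (⊤ : Submodule F (Fin n → F)) B) :
    ∀ H : Subgroup (PSU n F q), H ≠ ⊤ → B ≤ H.index := by
  intro H hH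
  by_contra hlt
  push Not at hlt
  set π := QuotientGroup.mk' (Subgroup.center (SU n F q))
  set K := (H.comap π).comap (GS q (⊤ : Submodule F (Fin n → F))).subtype with hK
  have hsurj : Function.Surjective (π.comp (GS q (⊤ : Submodule F (Fin n → F))).subtype) := fun y => by
    obtain ⟨g, rfl⟩ := QuotientGroup.mk'_surjective _ y
    exact ⟨⟨g, mem_GS_top hF g⟩, rfl⟩
  have hidx : Nat.card (GS q (⊤ : Submodule F (Fin n → F)) ⧸ K) < B := by
    rw [← Subgroup.index_eq_card, hK, Subgroup.comap_comap,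
      Subgroup.index_comap_of_surjective _ hsurj]
    exact hlt
  have hroot := small_apply hF h hidx
  have hle : tGroup n F q ≤ H.comap π := by
    refine (Subgroup.closure_le _).2 ?_
    rintro A ⟨v, c, hv, hA⟩
    rcases eq_tv_or_one hF hv hA with rfl | ⟨hc, rfl, -⟩
    · exact one_mem _
    · have hr : c / c0 hF ∈ fixedSet hF := (mem_fixedSet hF).2 (by
        rw [div_pow, show c0 hF ^ q = -c0 hF by linear_combination c0_skew hF,
          show c ^ q = -c by linear_combination hc, neg_div_neg_eq])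
      have h1 := hroot v Submodule.mem_top hv ⟨_, hr⟩ (QuotientGroup.mk 1)
      rw [MulAction.Quotient.smul_mk, QuotientGroup.eq, smul_eq_mul, mul_one, mul_one] at h1
      have h2 := inv_mem_iff.1 h1
      rw [hK, Subgroup.mem_comap] at h2
      have e : tv hF v c hv hc = T hF v hv ⟨c / c0 hF, hr⟩ := su_ext fun x => by
        rw [T_act, tv_act, mul_div_cancel₀ _ (c0_ne hF)]
      rw [e]
      exact h2
  apply hH
  rw [tGroup_eq_top hF (by omega) (by omega), top_le_iff] at hle
  exact Subgroup.comap_injective (QuotientGroup.mk'_surjective _) (hle.trans (Subgroup.comap_top π).symm)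

theorem isoN_odd (hn : 1 ≤ n) (hodd : Odd n) :
    (q ^ n + 1) * (q ^ (n - 1) - 1) / (q ^ 2 - 1) = isoN q n := by
  have hq := two_le_q hF
  have h := isoN_eq q n hn
  have hev : Even (n - 1) := by
    obtain ⟨k, rfl⟩ := hodd
    exact ⟨k, by omega⟩
  rw [hodd.neg_one_pow, hev.neg_one_pow, sub_neg_eq_add] at h
  have h2 : 1 ≤ q ^ 2 := Nat.one_le_pow _ _ (by omega)
  have h3 : 1 ≤ q ^ (n - 1) := Nat.one_le_pow _ _ (by omega)
  have h4 : (q ^ n + 1) * (q ^ (n - 1) - 1) = (q ^ 2 - 1) * isoN q n := by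
    zify [h2, h3]; linear_combination -h
  have : 4 ≤ q ^ 2 := by nlinarith
  rw [h4, Nat.mul_div_cancel_left _ (by omega)]

theorem isoN_even (hn : 1 ≤ n) (heven : Even n) :
    (q ^ n - 1) * (q ^ (n - 1) + 1) / (q ^ 2 - 1) = isoN q n := by
  have hq := two_le_q hF
  have h := isoN_eq q n hn
  have hodd : Odd (n - 1) := by
    obtain ⟨k, rfl⟩ := heven
    exact ⟨k - 1, by omega⟩
  rw [heven.neg_one_pow, hodd.neg_one_pow, sub_neg_eq_add] at h
  have h2 : 1 ≤ q ^ 2 := Nat.one_le_pow _ _ (by omega)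
  have h3 : 1 ≤ q ^ n := Nat.one_le_pow _ _ (by omega)
  have h4 : (q ^ n - 1) * (q ^ (n - 1) + 1) = (q ^ 2 - 1) * isoN q n := by
    zify [h2, h3]; linear_combination -h
  have : 4 ≤ q ^ 2 := by nlinarith
  rw [h4, Nat.mul_div_cancel_left _ (by omega)]

end Cfsg.Agent.MinIndexPSUGlue55
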