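import Mathlib
import Cfsg.Agent.Lib.MinIndexPSUFive55
import Cfsg.Agent.Lib.MinIndexPSUBase55
import Cfsg.Agent.Lib.MinIndexUnit19Geo

/-!
The induction over the odd dimensions for small actions of the unitary groups.
-/

set_option autoImplicit false

namespace Cfsg.Agent.MinIndexPSUOddChain55

open Cfsg Cfsg.Agent.OrthUnitaryHerm Cfsg.Agent.SUMinDegree32Geom Cfsg.Agent.MinIndexUnit19

variable {F : Type*} [Field F] [Fintype F] {q n : ℕ}

theorem isoN_odd_bounds {q : ℕ} (hq : 2 ≤ q) : ∀ j : ℕ,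
    q ^ (4 * j + 7) ≤ isoN q (2 * j + 5) ∧ isoN q (2 * j + 5) < 2 * q ^ (4 * j + 7)
  | 0 => by
    rw [show 2 * 0 + 5 = 3 + 2 from rfl, isoN_succ_succ, show isoN q 3 = q ^ 3 + 1 by
      rw [isoN_succ_succ, show isoN q 1 = 0 from rfl]; ring, show 2 * 3 + 1 = 7 from rfl]
    have h1 : 2 * q ^ 5 ≤ q ^ 6 := by rw [pow_succ' q 5]; exact Nat.mul_le_mul_right _ hq
    have h2 : q ^ 6 < q ^ 7 := Nat.pow_lt_pow_right (by omega) (by norm_num)
    have h3 : q ^ 2 < q ^ 5 := Nat.pow_lt_pow_right (by omega) (by norm_num)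
    rw [show q ^ 2 * (q ^ 3 + 1) = q ^ 5 + q ^ 2 by ring]
    omega
  | j + 1 => by
    obtain ⟨h1, h2⟩ := isoN_odd_bounds hq j
    rw [show 2 * (j + 1) + 5 = (2 * j + 5) + 2 by ring, isoN_succ_succ,
      show 2 * (2 * j + 5) + 1 = 4 * (j + 1) + 7 by ring,
      show 4 * (j + 1) + 7 = (4 * j + 7) + 4 by ring, pow_add]
    set x := q ^ (4 * j + 7) with hx
    set y := isoN q (2 * j + 5)
    have h4 : 2 * (q ^ 2 * q) ≤ q ^ 4 := by
      rw [show q ^ 4 = q * (q ^ 2 * q) by ring]; exact Nat.mul_le_mul_right _ hq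
    have hx1 : 1 ≤ x := Nat.one_le_pow _ _ (by omega)
    have h5 : q ^ 2 * (y + 1) ≤ q ^ 2 * (2 * x) := Nat.mul_le_mul_left _ h2
    have h6 : q ^ 2 * (2 * x) ≤ q ^ 2 * (q * x) := Nat.mul_le_mul_left _ (Nat.mul_le_mul_right _ hq)
    have h7 : q ^ 2 * (q * x) * 2 ≤ x * q ^ 4 := by
      calc q ^ 2 * (q * x) * 2 = x * (2 * (q ^ 2 * q)) := by ring
        _ ≤ _ := Nat.mul_le_mul_left _ h4
    have h8 : 4 ≤ q ^ 2 := by rw [sq]; exact Nat.mul_le_mul hq hq
    rw [mul_add, mul_one] at h5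
    omega

variable (hF : Fintype.card F = q ^ 2)
include hF

theorem small_odd : ∀ (j : ℕ) (W : Submodule F (Fin n → F)), Nondeg q W →
    Module.finrank F W = 2 * j + 5 → Small hF W (isoN q (2 * j + 5))
  | 0, W, hW, hd => by
    have hq := two_le_q hF
    have hd' : ∀ e f, HP q W e f → Module.finrank F (pairPerp q W e f) = 3 := fun e f hP => by
      have := hP.finrank hF; omega
    by_cases h2 : q = 2
    · exact MinIndexPSUFive55.small_five hF (B := 2)
        ⟨hW, hd, fun e f _ => MinIndexPSUThree55.small_two hF, Or.inl h2⟩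
    by_cases h5 : q = 5
    · exact MinIndexPSUFive55.small_five hF (B := 50)
        ⟨hW, hd, fun e f hP => MinIndexPSUBase55.small_three hF (by omega) (Or.inr ⟨h5, le_rfl⟩)
          (hP.nondeg hF hW) (hd' e f hP), Or.inr (Or.inr ⟨h5, le_rfl⟩)⟩
    · exact MinIndexPSUFive55.small_five hF (B := q ^ 3 + 1)
        ⟨hW, hd, fun e f hP => MinIndexPSUBase55.small_three hF (by omega) (Or.inl ⟨h5, le_rfl⟩)
          (hP.nondeg hF hW) (hd' e f hP), Or.inr (Or.inl le_rfl)⟩
  | j + 1, W, hW, hd => by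
    have hq := two_le_q hF
    obtain ⟨hlo, hhi⟩ := isoN_odd_bounds hq j
    obtain ⟨-, hhi'⟩ := isoN_odd_bounds hq (j + 1)
    rw [show 2 * (j + 1) + 5 = (2 * j + 5) + 2 by ring] at hd hhi' ⊢
    set m := 2 * j + 5 with hm
    have hsmall : ∀ e f, HP q W e f → Small hF (pairPerp q W e f) (isoN q m) := fun e f hP =>
      small_odd j _ (hP.nondeg hF hW) (by have := hP.finrank hF; omega)
    have hBW : q ^ 2 * isoN q m ≤ q ^ (2 * m) := by
      refine (Nat.mul_le_mul_left _ (hhi.le.trans (Nat.mul_le_mul_right _ hq))).trans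
        (le_of_eq ?_)
      rw [← pow_succ', ← pow_add, hm]
      ring_nf
    refine step hF (m := m) (B := isoN q m) (X := isoN q m)
      ⟨hW, hd, by omega, hsmall, fun e f hP => geo_basic hF (hP.nondeg hF hW)
        (by have := hP.finrank hF; omega) (hsmall e f hP) (by
          rw [card_submodule hF, show Module.finrank F (pairPerp q W e f) = m by
            have := hP.finrank hF; omega]
          exact hBW), Or.inl ?_, ?_, ?_, ?_, Or.inr ⟨?_, rfl⟩⟩
    · refine lt_of_lt_of_le ?_ hlo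
      calc q = q ^ 1 := (pow_one q).symm
        _ < _ := Nat.pow_lt_pow_right (by omega) (by omega)
    · refine hhi'.le.trans ((Nat.mul_le_mul_right _ hq).trans ?_)
      refine le_trans ?_ (Nat.mul_le_mul_right _ hlo)
      rw [← pow_succ', ← pow_add]
      exact Nat.pow_le_pow_right (by omega) (by omega)
    · rw [isoN_succ_succ, add_mul, one_mul, ← pow_succ']
      have h1 : q ^ 2 * isoN q m + q ^ 2 ≤ q ^ (2 * m) := by
        have h := Nat.mul_le_mul_left (q ^ 2) (Nat.succ_le_of_lt hhi)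
        rw [Nat.succ_eq_add_one, mul_add, mul_one] at h
        refine h.trans ((Nat.mul_le_mul_left _ (Nat.mul_le_mul_right _ hq)).trans (le_of_eq ?_))
        rw [← pow_succ', ← pow_add, hm]
        ring_nf
      have h4 : 4 ≤ q ^ 2 := by rw [sq]; exact Nat.mul_le_mul hq hq
      omega
    · refine hhi'.le.trans (le_of_eq ?_)
      rw [hm]
      ring_nf
    · rw [isoN_succ_succ]; ring

end Cfsg.Agent.MinIndexPSUOddChain55
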