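import Cfsg.Agent.Lib.MinIndexGeometry

/-!
`SL n q`, `n ≥ 3`, `(n, q) ≠ (4, 2)`, has no action without common fixed point on fewer than
`(q^n - 1)/(q - 1)` points.
-/

set_option autoImplicit false

namespace Cfsg.Agent.MinIndexSL

open Matrix MulAction Cfsg.Agent.MinIndexTransvection
open scoped MatrixGroups

variable {n : ℕ} {F : Type*} [Field F] {Ω : Type*} (ρ : SL(n, F) →* Equiv.Perm Ω)

/-- `tv e a * g` fixes `α`. -/
def Lift (e : Fin n → F) (α : Ω) (g : SL(n, F)) (a : Fin n → F) : Prop :=
  a ⬝ᵥ e = 0 ∧ ρ (tv e a * g) α = α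

theorem vecMul_dot {e : Fin n → F} {g : SL(n, F)} (hg : g.1 *ᵥ e = e) {b : Fin n → F}
    (hb : b ⬝ᵥ e = 0) : (b ᵥ* (g⁻¹).1) ⬝ᵥ e = 0 := by
  rw [← dotProduct_mulVec]
  conv_lhs => rw [← hg]
  rw [← PSLSimple.mulVec_mul, inv_mul_cancel, one_smul_vec, hb]

theorem lift_mul {e : Fin n → F} {α : Ω} {g g' : SL(n, F)} {a b : Fin n → F}
    (hg : g.1 *ᵥ e = e) (ha : Lift ρ e α g a) (hb : Lift ρ e α g' b) :
    Lift ρ e α (g * g') (a + b ᵥ* (g⁻¹).1) := by
  refine ⟨by rw [add_dotProduct, ha.1, vecMul_dot hg hb.1, add_zero], ?_⟩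
  rw [← tv_mul ha.1 (vecMul_dot hg hb.1),
    show tv e a * tv e (b ᵥ* (g⁻¹).1) * (g * g') = tv e a * (tv e (b ᵥ* (g⁻¹).1) * g) * g' by
      simp only [mul_assoc],
    ← conj_tv_of_fix g hb.1 hg,
    show tv e a * (g * tv e b) * g' = (tv e a * g) * (tv e b * g') by simp only [mul_assoc],
    rho_mul_apply, hb.2, ha.2]

variable [Finite F] [Finite Ω]

/-- If no transvection fixes a point, each elation group is regular. -/
theorem regular (hn : 3 ≤ n) (hk : Nat.card Ω < ∑ i ∈ Finset.range n, Nat.card F ^ i)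
    (hfree : ∀ {v φ : Fin n → F}, φ ⬝ᵥ v = 0 → v ≠ 0 → φ ≠ 0 → ∀ α, ρ (tv v φ) α ≠ α)
    {v : Fin n → F} (hv : v ≠ 0) (α β : Ω) :
    ∃! a : Fin n → F, a ⬝ᵥ v = 0 ∧ ρ (tv v a) α = β := by
  classical
  let _ := elationAction ρ v
  have hlt : Nat.card Ω + 1 < 2 * Nat.card (Multiplicative (perp v)) := by
    rw [Nat.card_congr Multiplicative.toAdd, card_perp hv]
    exact MinIndexGeometry.bound_of_lt hn hk
  have hmv : ∀ x : Multiplicative (perp v), x ≠ 1 → ∀ γ : Ω, x • γ ≠ γ := fun x hx γ =>
    hfree x.toAdd.2 hv (fun e => hx (toAdd_eq_zero.1 (Subtype.ext e))) γ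
  have hc : ∀ x : Multiplicative (perp v), x ≠ 1 → Nat.card (fixedBy Ω x) = 0 := fun x hx => by
    have : IsEmpty (fixedBy Ω x) := ⟨fun γ => hmv x hx γ.1 γ.2⟩
    exact Nat.card_of_isEmpty
  obtain ⟨φ, hφ0, hφ, -⟩ := exists_perp_pair hn v v
  have hx₀ : Multiplicative.ofAdd (⟨φ, hφ⟩ : perp v) ≠ 1 := fun e =>
    hφ0 (congrArg (fun z => (z.toAdd : Fin n → F)) e)
  obtain ⟨-, hk'⟩ := ElationOrbitCount.fixed_eq hc hlt α _ (hmv _ hx₀ α)
  rw [zero_add] at hk'
  have hinj : Function.Injective fun x : Multiplicative (perp v) => x • α := by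
    intro x y h
    by_contra hne
    refine hmv (y⁻¹ * x) (fun e => hne (inv_mul_eq_one.1 e).symm) α ?_
    rw [mul_smul, show x • α = y • α from h, inv_smul_smul]
  obtain ⟨x, hx⟩ := (hinj.bijective_of_nat_card_le hk'.le).2 β
  refine ⟨(x.toAdd : Fin n → F), ⟨x.toAdd.2, hx⟩, fun a ha => ?_⟩
  have : Multiplicative.ofAdd (⟨a, ha.1⟩ : perp v) = x := hinj (ha.2.trans hx.symm)
  rw [← this]
  rfl

theorem lift_exists (hn : 3 ≤ n) (hk : Nat.card Ω < ∑ i ∈ Finset.range n, Nat.card F ^ i)
    (hfree : ∀ {v φ : Fin n → F}, φ ⬝ᵥ v = 0 → v ≠ 0 → φ ≠ 0 → ∀ α, ρ (tv v φ) α ≠ α)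
    {e : Fin n → F} (he : e ≠ 0) (α : Ω) (g : SL(n, F)) : ∃! a, Lift ρ e α g a := by
  obtain ⟨a, ha, huniq⟩ := regular ρ hn hk hfree he (ρ g α) α
  refine ⟨a, ⟨ha.1, by rw [rho_mul_apply]; exact ha.2⟩, fun b hb => huniq b ⟨hb.1, ?_⟩⟩
  rw [← rho_mul_apply]; exact hb.2

omit [Finite F] [Finite Ω] in
/-- `t = 1 + c E_ij`. -/
noncomputable def el (i j : Fin n) (c : F) : SL(n, F) := tv (Pi.single i 1) (Pi.single j c)

omit [Finite F] [Finite Ω] in
theorem el_dot {i j : Fin n} (hij : i ≠ j) (c : F) :
    (Pi.single j c : Fin n → F) ⬝ᵥ Pi.single i 1 = 0 := by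
  rw [single_dotProduct, Pi.single_eq_of_ne hij.symm, mul_zero]

omit [Finite F] [Finite Ω] in
theorem el_fix {i j k : Fin n} (hij : i ≠ j) (hjk : j ≠ k) (c : F) :
    (el i j c).1 *ᵥ (Pi.single k 1 : Fin n → F) = Pi.single k 1 := by
  rw [el, tv_apply (el_dot hij c), single_dotProduct, Pi.single_eq_of_ne hjk, mul_zero, zero_smul,
    add_zero]

omit [Finite F] [Finite Ω] in
theorem vecMul_el_inv {i j : Fin n} (hij : i ≠ j) (c : F) (a : Fin n → F) :
    a ᵥ* ((el i j c)⁻¹).1 = a - Pi.single j (c * a i) := by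
  rw [el, tv_inv (el_dot hij c), vecMul_tv (by rw [neg_dotProduct, el_dot hij c, neg_zero]),
    dotProduct_single, mul_one, smul_neg, ← sub_eq_add_neg, ← Pi.single_smul, smul_eq_mul, mul_comm]

omit [Finite F] [Finite Ω] in
theorem el_mul {i j : Fin n} (hij : i ≠ j) (c d : F) : el i j c * el i j d = el i j (c + d) := by
  rw [el, el, el, tv_mul (el_dot hij c) (el_dot hij d), Pi.single_add]

omit [Finite F] [Finite Ω] in
theorem el_eq_transvection {i j : Fin n} (hij : i ≠ j) (c : F) :
    el i j c = SpecialLinearGroup.transvection hij c :=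
  (transvection_eq_tv hij c).symm

omit [Finite F] [Finite Ω] in
theorem el_comm_same_row {i j l : Fin n} (hij : i ≠ j) (hil : i ≠ l) (z y : F) :
    el i j z * el i l y = el i l y * el i j z := by
  rw [el, el, tv_mul (el_dot hij z) (el_dot hil y), tv_mul (el_dot hil y) (el_dot hij z), add_comm]

omit [Finite F] [Finite Ω] in
theorem el_comm_same_col {i l j : Fin n} (hij : i ≠ j) (hlj : l ≠ j) (z y : F) :
    el i j z * el l j y = el l j y * el i j z := by
  have h1 : (Pi.single j 1 : Fin n → F) ⬝ᵥ Pi.single i 1 = 0 := el_dot hij 1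
  have h2 : (Pi.single j 1 : Fin n → F) ⬝ᵥ Pi.single l 1 = 0 := el_dot hlj 1
  have e1 : el i j z = tv (z • Pi.single i 1) (Pi.single j 1) := by
    rw [tv_smul z h1, ← Pi.single_smul, smul_eq_mul, mul_one]; rfl
  have e2 : el l j y = tv (y • Pi.single l 1) (Pi.single j 1) := by
    rw [tv_smul y h2, ← Pi.single_smul, smul_eq_mul, mul_one]; rfl
  have h1' : (Pi.single j 1 : Fin n → F) ⬝ᵥ (z • Pi.single i 1) = 0 := by
    rw [dotProduct_smul, h1, smul_zero]
  have h2' : (Pi.single j 1 : Fin n → F) ⬝ᵥ (y • Pi.single l 1) = 0 := by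
    rw [dotProduct_smul, h2, smul_zero]
  rw [e1, e2, tv_mul' h1' h2', tv_mul' h2' h1', add_comm]

/-- The main bound. -/
theorem card_ge (hn : 3 ≤ n) (hexc : ¬ (n = 4 ∧ Nat.card F = 2))
    (hnfix : ∀ α : Ω, ∃ g, ρ g α ≠ α) [Nonempty Ω] :
    ∑ i ∈ Finset.range n, Nat.card F ^ i ≤ Nat.card Ω := by
  classical
  by_contra hk
  rw [not_le] at hk
  have hfree : ∀ {v φ : Fin n → F}, φ ⬝ᵥ v = 0 → v ≠ 0 → φ ≠ 0 → ∀ α, ρ (tv v φ) α ≠ α :=
    fun h hv hφ α => MinIndexGeometry.no_fix ρ hn hk hnfix h hv hφ α
  obtain ⟨α⟩ := ‹Nonempty Ω›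
  let i0 : Fin n := ⟨0, by omega⟩
  let i : Fin n := ⟨1, by omega⟩
  let j : Fin n := ⟨2, by omega⟩
  have hi0 : i ≠ i0 := fun h => by simpa [i, i0, Fin.ext_iff] using h
  have hj0 : j ≠ i0 := fun h => by simpa [j, i0, Fin.ext_iff] using h
  have hij : i ≠ j := fun h => by simpa [i, j, Fin.ext_iff] using h
  set e : Fin n → F := Pi.single i0 1 with he_def
  have he : e ≠ 0 := Pi.single_ne_zero_iff.2 one_ne_zero
  choose A hA huniq using fun g => lift_exists ρ hn hk hfree he α g
  have hAe : ∀ g, A g i0 = 0 := fun g => by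
    have := (hA g).1
    rwa [he_def, dotProduct_single, mul_one] at this
  have mulA : ∀ g g' : SL(n, F), g.1 *ᵥ e = e → A (g * g') = A g + A g' ᵥ* (g⁻¹).1 :=
    fun g g' hg => (huniq _ _ (lift_mul ρ hg (hA g) (hA g'))).symm
  -- the lift of `el i j 1` is not supported at `j`
  have hbad : ∃ r, r ≠ j ∧ A (el i j 1) r ≠ 0 := by
    by_contra hall
    push Not at hall
    set c := A (el i j 1) with hc
    have hcj : c = Pi.single j (c j) := by
      funext r
      by_cases hr : r = j
      · subst hr; simp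
      · rw [Pi.single_eq_of_ne hr]; exact hall r hr
    have h1 := (hA (el i j 1)).2
    rw [← hc, hcj] at h1
    have hd1 : (Pi.single j 1 : Fin n → F) ⬝ᵥ (c j • e) = 0 := by
      rw [dotProduct_smul, he_def, el_dot hj0.symm, smul_zero]
    have hd2 : (Pi.single j 1 : Fin n → F) ⬝ᵥ Pi.single i 1 = 0 := el_dot hij 1
    have e1 : tv e (Pi.single j (c j)) = tv (c j • e) (Pi.single j 1) := by
      rw [tv_smul (c j) (by rw [he_def, el_dot hj0.symm]), ← Pi.single_smul, smul_eq_mul, mul_one]
    rw [el, e1, tv_mul' hd1 hd2] at h1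
    refine hfree (by rw [dotProduct_add, hd1, hd2, add_zero]) (fun h => ?_)
      (Pi.single_ne_zero_iff.2 one_ne_zero) α h1
    have := congrFun h i
    simp [he_def, Pi.single_eq_of_ne hi0] at this
  obtain ⟨r, hrj, hr⟩ := hbad
  have hr0 : r ≠ i0 := fun h => hr (h ▸ hAe _)
  by_cases hn3 : n = 3
  · -- three dimensions
    have hri : r = i := by
      have := r.isLt
      have h1 : r.val ≠ 2 := fun h => hrj (Fin.ext h)
      have h2 : r.val ≠ 0 := fun h => hr0 (Fin.ext h)
      exact Fin.ext (show r.val = 1 by omega)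
    subst hri
    by_cases h2 : (2 : F) = 0
    · have h11 : el i j (1 : F) * el i j 1 = 1 := by
        rw [el_mul hij, show (1 : F) + 1 = 0 by linear_combination h2, el, Pi.single_zero,
          tv_zero_right]
      have e1 := mulA (el i j 1) (el i j 1) (el_fix hij hj0 1)
      have e2 : A (1 : SL(n, F)) = 0 := (huniq 1 0 ⟨zero_dotProduct e, by
        rw [tv_zero_right, one_mul, map_one]; rfl⟩).symm
      rw [h11, e2, vecMul_el_inv hij] at e1
      have := congrFun e1 j
      simp at this
      exact hr (by linear_combination this + (A (el i j 1) j) * h2)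
    · -- the central involution of the complement
      let d : Fin n → F := fun k => if k = i0 then 1 else -1
      have hdet : (Matrix.diagonal d).det = 1 := by
        subst hn3
        rw [det_diagonal, Fin.prod_univ_three]
        have a0 : d 0 = 1 := if_pos rfl
        have a1 : d 1 = -1 := if_neg (fun h => by simpa [i0] using congrArg Fin.val h)
        have a2 : d 2 = -1 := if_neg (fun h => by simpa [i0] using congrArg Fin.val h)
        rw [a0, a1, a2]; ring
      let z : SL(n, F) := ⟨Matrix.diagonal d, hdet⟩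
      have hz : ∀ y : Fin n → F, z.1 *ᵥ y = fun k => d k * y k := fun y => by
        funext k; exact mulVec_diagonal d y k
      have hze : z.1 *ᵥ e = e := by
        rw [hz]; funext k
        by_cases hk' : k = i0
        · subst hk'; simp [he_def, d]
        · simp [he_def, hk']
      have hzz : z⁻¹ = z := inv_eq_of_mul_eq_one_right (Subtype.ext (by
        show Matrix.diagonal d * Matrix.diagonal d = 1
        rw [diagonal_mul_diagonal, ← diagonal_one]
        congr 1; funext k
        simp only [d]; split_ifs <;> ring))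
      have hcomm : z * el i j 1 = el i j 1 * z := by
        refine ext_mulVec fun y => ?_
        rw [PSLSimple.mulVec_mul, PSLSimple.mulVec_mul, el, tv_apply (el_dot hij 1),
          tv_apply (el_dot hij 1), hz, hz]
        funext k
        simp only [Pi.add_apply, Pi.smul_apply, single_dotProduct, smul_eq_mul, one_mul]
        by_cases hk' : k = i
        · subst hk'; simp [d, hi0, hj0]; ring
        · simp [hk']
      have e1 := mulA z (el i j 1) hze
      rw [hcomm, mulA (el i j 1) z (el_fix hij hj0 1), vecMul_el_inv hij, hzz] at e1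
      have := congrFun e1 i
      simp [hij, z, vecMul_diagonal, d, hi0] at this
      exact hr (by
        have : (2 : F) * A (el i j 1) i = 0 := by linear_combination this
        exact (mul_eq_zero.1 this).resolve_left h2)
  · -- at least four dimensions
    have relA : ∀ l : Fin n, l ≠ i0 → l ≠ i → l ≠ j → ∀ x y : F,
        A (el i j (x * y)) l = -(x * A (el l j y) i) ∧
          ∀ k, k ≠ j → k ≠ l → A (el i j (x * y)) k = 0 := by
      intro l hl0 hli hlj x y
      have hcom : el i l x * el l j y = el i j (x * y) * el l j y * el i l x := by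
        have h := PSLSimple.commutator_transvection hli.symm hlj hij x y
        rw [← el_eq_transvection, ← el_eq_transvection, ← el_eq_transvection,
          commutatorElement_def] at h
        rw [← h]; group
      have e1 := mulA (el i l x) (el l j y) (el_fix hli.symm hl0 x)
      have fcb : (el i j (x * y) * el l j y).1 *ᵥ e = e := by
        rw [PSLSimple.mulVec_mul, el_fix hlj hj0, el_fix hij hj0]
      have e2 : A (el i j (x * y) * el l j y * el i l x) = A (el i j (x * y)) +
          A (el l j y) ᵥ* ((el i j (x * y))⁻¹).1 +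
          A (el i l x) ᵥ* ((el i j (x * y) * el l j y)⁻¹).1 := by
        rw [mulA _ _ fcb, mulA _ _ (el_fix hij hj0 _)]
      rw [hcom, e2, _root_.mul_inv_rev, ← vecMul_mul', vecMul_el_inv hij, vecMul_el_inv hij,
        vecMul_el_inv hlj, vecMul_el_inv hli.symm] at e1
      refine ⟨?_, fun k hkj hkl => ?_⟩
      · have := congrFun e1 l
        simp [hlj] at this
        linear_combination this
      · have := congrFun e1 k
        simp [hkj, hkl] at this
        linear_combination this
    have commA : ∀ l : Fin n, l ≠ i0 → l ≠ i → l ≠ j → ∀ z y : F,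
        y * A (el i j z) l = z * A (el l j y) i := by
      intro l hl0 hli hlj z y
      have hcom := el_comm_same_col (F := F) hij hlj z y
      have e1 := mulA (el i j z) (el l j y) (el_fix hij hj0 z)
      rw [hcom, mulA (el l j y) (el i j z) (el_fix hlj hj0 y), vecMul_el_inv hij,
        vecMul_el_inv hlj] at e1
      have := congrFun e1 j
      simp at this
      linear_combination -this
    by_cases hn5 : 5 ≤ n
    · obtain ⟨l, hl0, hli, hlj, hlr⟩ : ∃ l : Fin n, l ≠ i0 ∧ l ≠ i ∧ l ≠ j ∧ l ≠ r := by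
        by_cases h3 : r.val = 3
        · exact ⟨⟨4, by omega⟩, by simp [i0, Fin.ext_iff], by simp [i, Fin.ext_iff],
            by simp [j, Fin.ext_iff], by simp [Fin.ext_iff, h3]⟩
        · exact ⟨⟨3, by omega⟩, by simp [i0, Fin.ext_iff], by simp [i, Fin.ext_iff],
            by simp [j, Fin.ext_iff], by simp [Fin.ext_iff]; omega⟩
      have := (relA l hl0 hli hlj 1 1).2 r hrj hlr.symm
      rw [one_mul] at this
      exact hr this
    · have hn4 : n = 4 := by omega
      let l : Fin n := ⟨3, by omega⟩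
      have hl0 : l ≠ i0 := fun h => by simpa [l, i0, Fin.ext_iff] using h
      have hli : l ≠ i := fun h => by simpa [l, i, Fin.ext_iff] using h
      have hlj : l ≠ j := fun h => by simpa [l, j, Fin.ext_iff] using h
      have hrl : r = l := by
        by_contra hrl
        have := (relA l hl0 hli hlj 1 1).2 r hrj hrl
        rw [one_mul] at this
        exact hr this
      subst hrl
      by_cases h2 : (2 : F) = 0
      · have hq : 4 ≤ Nat.card F := by
          by_contra hlt
          have h1 : 1 < Nat.card F := Finite.one_lt_card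
          rcases (show Nat.card F = 2 ∨ Nat.card F = 3 by omega) with h | h
          · exact hexc ⟨hn4, h⟩
          · have : Fintype F := Fintype.ofFinite F
            have h3 := FiniteField.cast_card_eq_zero F
            rw [← Nat.card_eq_fintype_card, h] at h3
            push_cast at h3
            exact one_ne_zero (α := F) (by linear_combination h3 - h2)
        obtain ⟨μ, hμ0, hμ⟩ := PSLSimple.exists_sq_ne_one hq
        set D := SpecialLinearGroup.diag2n hlj.symm μ hμ0 with hD
        have hDmul : ∀ y : Fin n → F, D.1 *ᵥ y =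
            fun k => (if k = j then μ else if k = l then μ⁻¹ else 1) * y k := fun y => by
          funext k
          rw [hD, SpecialLinearGroup.diag2n_coe, mulVec_diagonal]
        have hDe : D.1 *ᵥ e = e := by
          rw [hDmul]; funext k
          by_cases hk' : k = i0
          · subst hk'; simp [he_def, hj0.symm, hl0.symm]
          · simp [he_def, hk']
        have hDC : D * el i j 1 = el i j μ⁻¹ * D := by
          refine ext_mulVec fun y => ?_
          rw [PSLSimple.mulVec_mul, PSLSimple.mulVec_mul, el, el, tv_apply (el_dot hij _),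
            tv_apply (el_dot hij _), hDmul, hDmul]
          funext k
          simp only [Pi.add_apply, Pi.smul_apply, single_dotProduct, smul_eq_mul, one_mul]
          by_cases hk' : k = i
          · subst hk'; simp [hij, hli.symm]; field_simp
          · simp [hk']
        have e1 := mulA D (el i j 1) hDe
        rw [hDC, mulA (el i j μ⁻¹) D (el_fix hij hj0 _), vecMul_el_inv hij] at e1
        have hDl : ∀ b : Fin n → F, (b ᵥ* (D⁻¹).1) l * μ⁻¹ = b l := fun b => by
          have h := congrFun (show (b ᵥ* (D⁻¹).1) ᵥ* D.1 = b by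
            rw [vecMul_mul', inv_mul_cancel, vecMul_one']) l
          rw [hD, SpecialLinearGroup.diag2n_coe, vecMul_diagonal] at h
          simpa [hlj, ← hD] using h
        have h3 := congrFun e1 l
        simp [hlj] at h3
        have hb := hDl (A (el i j 1))
        have k1 := commA l hl0 hli hlj 1 1
        have k2 := commA l hl0 hli hlj μ⁻¹ 1
        rw [one_mul, one_mul] at k1
        rw [one_mul] at k2
        -- `μ⁻¹ κ = μ κ`
        have h4 : (A (el i j 1) ᵥ* (D⁻¹).1) l = μ * A (el i j 1) l := by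
          rw [← hb]; field_simp
        have h5 : A (el i j μ⁻¹) l = μ * A (el i j 1) l := by
          rw [← h4]; linear_combination h3
        rw [k2, ← k1] at h5
        apply hμ
        field_simp at h5
        exact h5.symm
      · have k1 := (relA l hl0 hli hlj 1 1).1
        have k2 := commA l hl0 hli hlj 1 1
        rw [one_mul, one_mul] at k1
        rw [one_mul, one_mul] at k2
        refine hr ?_
        have : (2 : F) * A (el i j 1) l = 0 := by linear_combination k1 + k2
        exact (mul_eq_zero.1 this).resolve_left h2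

end Cfsg.Agent.MinIndexSL
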