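import Mathlib
import Cfsg.Agent.Lib.SymplecticBasic
import Cfsg.Agent.Lib.SymplecticSimple

/-!
The radical of a point stabiliser of `Sp_2m`: the elements `heis w a c` and the complement `Levi w u`.
-/

set_option autoImplicit false

open Matrix Cfsg Cfsg.Agent.SymplecticBasic Cfsg.Agent.SymplecticSimple

namespace Cfsg.Agent.MinIndexSpHeis

variable {F : Type*} [Field F] {m : ℕ}

local notation "Sp" => symplecticGroup (Fin m) F

theorem add_smul' (g : symplecticGroup (Fin m) F) (x y : Fin m ⊕ Fin m → F) :
    g • (x + y) = g • x + g • y := by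
  simp only [smul_def, Matrix.mulVec_add]

theorem smul_zero' (g : symplecticGroup (Fin m) F) :
    g • (0 : Fin m ⊕ Fin m → F) = 0 := by simp [smul_def]

theorem smul_ne_zero' (g : symplecticGroup (Fin m) F) {x : Fin m ⊕ Fin m → F} (hx : x ≠ 0) :
    g • x ≠ 0 := fun e => hx (MulAction.injective g (e.trans (smul_zero' g).symm))

/-- A form preserving linear map as an element of the symplectic group. -/
noncomputable def ofLin (g : (Fin m ⊕ Fin m → F) →ₗ[F] (Fin m ⊕ Fin m → F))
    (h : ∀ x y, sympForm m F (g x) (g y) = sympForm m F x y) : symplecticGroup (Fin m) F :=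
  ⟨LinearMap.toMatrix' g, mem_sp_iff_form.2 fun x y => by
    rw [LinearMap.toMatrix'_mulVec, LinearMap.toMatrix'_mulVec, h]⟩

theorem ofLin_smul (g : (Fin m ⊕ Fin m → F) →ₗ[F] (Fin m ⊕ Fin m → F))
    (h : ∀ x y, sympForm m F (g x) (g y) = sympForm m F x y) (x : Fin m ⊕ Fin m → F) :
    ofLin g h • x = g x := LinearMap.toMatrix'_mulVec _ _

/-- `x ↦ x + f(x,w) a + (f(x,a) + c f(x,w)) w` for `a ⊥ w`. -/
def heis (w a : Fin m ⊕ Fin m → F) (c : F) : symplecticGroup (Fin m) F :=
  transv (w + a) 1 * transv a (-1) * transv w (c - 1)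

theorem heis_smul {w a : Fin m ⊕ Fin m → F} (ha : sympForm m F a w = 0) (c : F)
    (x : Fin m ⊕ Fin m → F) :
    heis w a c • x = x + sympForm m F x w • a +
      (sympForm m F x a + c * sympForm m F x w) • w := by
  have hw : sympForm m F w a = 0 := form_eq_zero_comm.1 ha
  rw [heis, mul_smul, mul_smul, transv_smul, transv_smul, transv_smul]
  simp only [form_add_left, form_add_right, form_smul_left, form_self, ha, hw]
  module

theorem heis_conj (g : symplecticGroup (Fin m) F) (w a : Fin m ⊕ Fin m → F) (c : F) :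
    g * heis w a c * g⁻¹ = heis (g • w) (g • a) c := by
  rw [heis, heis, ← add_smul', ← transv_conj, ← transv_conj, ← transv_conj]
  group

theorem heis_zero (w : Fin m ⊕ Fin m → F) (c : F) : heis w 0 c = transv w c := by
  refine ext_smul fun x => ?_
  rw [heis_smul (by simp), transv_smul]
  simp

theorem heis_mul {w a b : Fin m ⊕ Fin m → F} (ha : sympForm m F a w = 0)
    (hb : sympForm m F b w = 0) (c d : F) :
    heis w a c * heis w b d = heis w (a + b) (c + d + sympForm m F b a) := by
  have hw : sympForm m F w a = 0 := form_eq_zero_comm.1 ha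
  refine ext_smul fun x => ?_
  rw [mul_smul, heis_smul ha, heis_smul hb, heis_smul (by rw [form_add_left, ha, hb, add_zero])]
  simp only [form_add_left, form_add_right, form_smul_left, form_self, hb, hw]
  module

theorem heis_inv {w a : Fin m ⊕ Fin m → F} (ha : sympForm m F a w = 0) (c : F) :
    (heis w a c)⁻¹ = heis w (-a) (-c) := by
  have hn : sympForm m F (-a) w = 0 := by
    rw [← neg_one_smul F a, form_smul_left, ha, mul_zero]
  refine inv_eq_of_mul_eq_one_right ?_
  rw [heis_mul ha hn, add_neg_cancel, add_neg_cancel, zero_add, ← neg_one_smul F a, form_smul_left,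
    form_self, mul_zero, heis_zero, transv_zero]

theorem heis_shift {w a : Fin m ⊕ Fin m → F} (ha : sympForm m F a w = 0) (c s : F) :
    heis w (a + s • w) c = heis w a (c + 2 * s) := by
  refine ext_smul fun x => ?_
  rw [heis_smul ha, heis_smul (by rw [form_add_left, form_smul_left, form_self, ha]; simp)]
  simp only [form_add_right, form_smul_right]
  module

theorem heis_fix {w a : Fin m ⊕ Fin m → F} (ha : sympForm m F a w = 0) (c : F) :
    heis w a c • w = w := by
  rw [heis_smul ha, form_self, form_eq_zero_comm.1 ha]; simp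

theorem heis_comm {w a b : Fin m ⊕ Fin m → F} (ha : sympForm m F a w = 0)
    (hb : sympForm m F b w = 0) (c d : F) :
    heis w a c * heis w b d =
      transv w (2 * sympForm m F b a) * (heis w b d * heis w a c) := by
  have hba : sympForm m F (b + a) w = 0 := by rw [form_add_left, ha, hb, add_zero]
  rw [heis_mul ha hb, heis_mul hb ha, ← heis_zero w (2 * _), heis_mul (by simp) hba,
    form_zero_right, zero_add, add_comm a b, form_swap b a]
  congr 1
  ring

/-- The orthogonal complement of the plane of `w` and `u`. -/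
def comp (w u : Fin m ⊕ Fin m → F) : Submodule F (Fin m ⊕ Fin m → F) :=
  LinearMap.ker (formLin w) ⊓ LinearMap.ker (formLin u)

theorem mem_comp {w u x : Fin m ⊕ Fin m → F} :
    x ∈ comp w u ↔ sympForm m F w x = 0 ∧ sympForm m F u x = 0 := by
  simp [comp]

theorem comp_perp {w u a : Fin m ⊕ Fin m → F} (ha : a ∈ comp w u) :
    sympForm m F a w = 0 := form_eq_zero_comm.1 (mem_comp.1 ha).1

theorem comp_perp' {w u a : Fin m ⊕ Fin m → F} (ha : a ∈ comp w u) :
    sympForm m F a u = 0 := form_eq_zero_comm.1 (mem_comp.1 ha).2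

/-- Projection to `comp w u`. -/
def proj (w u x : Fin m ⊕ Fin m → F) : Fin m ⊕ Fin m → F :=
  x - sympForm m F x u • w - sympForm m F w x • u

theorem proj_mem {w u : Fin m ⊕ Fin m → F} (h : sympForm m F w u = 1) (x : Fin m ⊕ Fin m → F) :
    proj w u x ∈ comp w u := by
  rw [mem_comp, proj]
  simp only [form_sub_right, form_smul_right, form_self, h, form_swap w u, form_swap x u]
  constructor <;> ring

theorem form_proj {w u a : Fin m ⊕ Fin m → F} (ha : a ∈ comp w u) (x : Fin m ⊕ Fin m → F) :
    sympForm m F a (proj w u x) = sympForm m F a x := by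
  rw [proj]
  simp [form_sub_right, form_smul_right, comp_perp ha, comp_perp' ha]

theorem nondegOn_comp {w u : Fin m ⊕ Fin m → F} (h : sympForm m F w u = 1) :
    NondegOn (comp w u) := by
  intro a ha ha0
  obtain ⟨z, hz⟩ := exists_form_eq_one ha0
  exact ⟨proj w u z, proj_mem h z, by rw [form_proj ha, hz]; exact one_ne_zero⟩

theorem exists_comp_one {w u a : Fin m ⊕ Fin m → F} (h : sympForm m F w u = 1)
    (ha : a ∈ comp w u) (ha0 : a ≠ 0) : ∃ b ∈ comp w u, sympForm m F a b = 1 := by
  obtain ⟨z, hz⟩ := exists_form_eq_one ha0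
  exact ⟨proj w u z, proj_mem h z, by rw [form_proj ha, hz]⟩

theorem heis_apply_partner {w u a : Fin m ⊕ Fin m → F} (h : sympForm m F w u = 1)
    (ha : a ∈ comp w u) (c : F) : heis w a c • u = u - a - c • w := by
  rw [heis_smul (comp_perp ha), (mem_comp.1 ha).2, form_swap w u, h]
  module

theorem heis_inj {w u a b : Fin m ⊕ Fin m → F} (h : sympForm m F w u = 1)
    (ha : a ∈ comp w u) (hb : b ∈ comp w u) {c d : F} (e : heis w a c • u = heis w b d • u) :
    a = b ∧ c = d := by
  rw [heis_apply_partner h ha, heis_apply_partner h hb] at e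
  have h1 := congrArg (fun x => sympForm m F x u) e
  simp only [form_sub_left, form_smul_left, form_self, comp_perp' ha, comp_perp' hb, h] at h1
  have hcd : c = d := by linear_combination -h1
  subst hcd
  exact ⟨sub_right_inj.1 (sub_left_inj.1 e), rfl⟩

/-- The pointwise stabiliser of `w` and `u`. -/
def levi (w u : Fin m ⊕ Fin m → F) : Subgroup (symplecticGroup (Fin m) F) :=
  MulAction.stabilizer (symplecticGroup (Fin m) F) w ⊓
    MulAction.stabilizer (symplecticGroup (Fin m) F) u

theorem mem_levi {w u : Fin m ⊕ Fin m → F} {g : symplecticGroup (Fin m) F} :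
    g ∈ levi w u ↔ g • w = w ∧ g • u = u := Iff.rfl

theorem levi_maps {w u : Fin m ⊕ Fin m → F} {g : symplecticGroup (Fin m) F} (hg : g ∈ levi w u)
    {a : Fin m ⊕ Fin m → F} (ha : a ∈ comp w u) : g • a ∈ comp w u := by
  rw [mem_comp]
  constructor
  · conv_lhs => rw [← (mem_levi.1 hg).1]
    rw [form_map]; exact (mem_comp.1 ha).1
  · conv_lhs => rw [← (mem_levi.1 hg).2]
    rw [form_map]; exact (mem_comp.1 ha).2

theorem levi_heis {w u : Fin m ⊕ Fin m → F} {g : symplecticGroup (Fin m) F} (hg : g ∈ levi w u)
    (a : Fin m ⊕ Fin m → F) (c : F) : g * heis w a c = heis w (g • a) c * g := by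
  rw [← mul_inv_eq_iff_eq_mul, heis_conj, (mem_levi.1 hg).1]

theorem transv_mem_levi {w u v : Fin m ⊕ Fin m → F} (hv : v ∈ comp w u) (t : F) :
    transv v t ∈ levi w u := by
  rw [mem_levi, transv_smul, transv_smul, (mem_comp.1 hv).1, (mem_comp.1 hv).2]
  simp

theorem levi_transitive {w u x y : Fin m ⊕ Fin m → F} (h : sympForm m F w u = 1)
    (hx : x ∈ comp w u) (hy : y ∈ comp w u) (hx0 : x ≠ 0) (hy0 : y ≠ 0) :
    ∃ g ∈ levi w u, g • x = y := by
  obtain ⟨g, hg, hgx⟩ := exists_map_vec (nondegOn_comp h) hx hy hx0 hy0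
  exact ⟨g, mem_levi.2 ⟨transvGroup_fixes hg fun z hz => (mem_comp.1 hz).1,
    transvGroup_fixes hg fun z hz => (mem_comp.1 hz).2⟩, hgx⟩

theorem exists_decomp {w u : Fin m ⊕ Fin m → F} (h : sympForm m F w u = 1)
    {g : symplecticGroup (Fin m) F} (hg : g • w = w) :
    ∃ a ∈ comp w u, ∃ c : F, ∃ l ∈ levi w u, g = heis w a c * l := by
  have ha : -proj w u (g • u) ∈ comp w u := neg_mem (proj_mem h _)
  refine ⟨_, ha, -sympForm m F (g • u) u, (heis w (-proj w u (g • u)) (-sympForm m F (g • u) u))⁻¹ * g,
    mem_levi.2 ⟨?_, ?_⟩, by rw [mul_inv_cancel_left]⟩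
  · rw [mul_smul, hg, inv_smul_eq_iff, heis_fix (comp_perp ha)]
  · rw [mul_smul, inv_smul_eq_iff, heis_apply_partner h ha, proj]
    have h1 : sympForm m F w (g • u) = 1 := by
      conv_lhs => rw [← hg]
      rw [form_map, h]
    rw [h1]
    generalize g • u = y
    module

theorem decomp_unique {w u a b : Fin m ⊕ Fin m → F} (h : sympForm m F w u = 1)
    (ha : a ∈ comp w u) (hb : b ∈ comp w u) {c d : F} {l l' : symplecticGroup (Fin m) F}
    (hl : l ∈ levi w u) (hl' : l' ∈ levi w u) (e : heis w a c * l = heis w b d * l') :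
    a = b ∧ c = d ∧ l = l' := by
  have e' := congrArg (fun g : symplecticGroup (Fin m) F => g • u) e
  simp only [mul_smul, (mem_levi.1 hl).2, (mem_levi.1 hl').2] at e'
  obtain ⟨rfl, rfl⟩ := heis_inj h ha hb e'
  exact ⟨rfl, rfl, mul_left_cancel e⟩

/-- `-1` on `comp w u`, `1` on the plane. -/
noncomputable def negComp (w u : Fin m ⊕ Fin m → F) (h : sympForm m F w u = 1) :
    symplecticGroup (Fin m) F :=
  ofLin
    { toFun := fun x => -x + (2 * sympForm m F x u) • w + (2 * sympForm m F w x) • u
      map_add' := fun x y => by simp only [form_add_left, form_add_right]; module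
      map_smul' := fun s x => by
        simp only [form_smul_left, form_smul_right, RingHom.id_apply]; module }
    fun x y => by
      simp only [LinearMap.coe_mk, AddHom.coe_mk, ← neg_one_smul F x, ← neg_one_smul F y,
        form_add_left, form_add_right, form_smul_left, form_smul_right, form_self, h,
        form_swap w u, form_swap y u, form_swap x w]
      ring

theorem negComp_smul {w u : Fin m ⊕ Fin m → F} (h : sympForm m F w u = 1)
    (x : Fin m ⊕ Fin m → F) :
    negComp w u h • x = -x + (2 * sympForm m F x u) • w + (2 * sympForm m F w x) • u :=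
  ofLin_smul _ _ _

theorem negComp_mem {w u : Fin m ⊕ Fin m → F} (h : sympForm m F w u = 1) :
    negComp w u h ∈ levi w u := by
  rw [mem_levi, negComp_smul, negComp_smul, form_self, form_self, h]
  constructor <;> module

theorem negComp_apply {w u a : Fin m ⊕ Fin m → F} (h : sympForm m F w u = 1)
    (ha : a ∈ comp w u) : negComp w u h • a = -a := by
  rw [negComp_smul, comp_perp' ha, (mem_comp.1 ha).1]; simp

theorem negComp_sq {w u : Fin m ⊕ Fin m → F} (h : sympForm m F w u = 1) :
    negComp w u h * negComp w u h = 1 := by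
  refine ext_smul fun x => ?_
  rw [mul_smul, negComp_smul h (negComp w u h • x), negComp_smul, one_smul]
  simp only [← neg_one_smul F x, form_add_left, form_add_right, form_smul_left, form_smul_right,
    form_self, h, form_swap w u]
  module

/-- The dilation `b ↦ s b`, `b' ↦ s⁻¹ b'` of a hyperbolic plane. -/
noncomputable def dil (b b' : Fin m ⊕ Fin m → F) (h : sympForm m F b b' = 1) (s : Fˣ) :
    symplecticGroup (Fin m) F :=
  ofLin
    { toFun := fun x => x + (((s : F) - 1) * sympForm m F x b') • b +
        ((((s⁻¹ : Fˣ) : F) - 1) * sympForm m F b x) • b'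
      map_add' := fun x y => by simp only [form_add_left, form_add_right]; module
      map_smul' := fun r x => by
        simp only [form_smul_left, form_smul_right, RingHom.id_apply]; module }
    fun x y => by
      have hs : (s : F) * ((s⁻¹ : Fˣ) : F) = 1 := by simp
      simp only [LinearMap.coe_mk, AddHom.coe_mk, form_add_left, form_add_right, form_smul_left,
        form_smul_right, form_self, h, form_swap b b', form_swap b x, form_swap y b']
      linear_combination (sympForm m F x b' * sympForm m F b y -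
        sympForm m F b x * sympForm m F y b') * hs

theorem dil_smul {b b' : Fin m ⊕ Fin m → F} (h : sympForm m F b b' = 1) (s : Fˣ)
    (x : Fin m ⊕ Fin m → F) :
    dil b b' h s • x = x + (((s : F) - 1) * sympForm m F x b') • b +
      ((((s⁻¹ : Fˣ) : F) - 1) * sympForm m F b x) • b' := ofLin_smul _ _ _

theorem dil_left {b b' : Fin m ⊕ Fin m → F} (h : sympForm m F b b' = 1) (s : Fˣ) :
    dil b b' h s • b = (s : F) • b := by
  rw [dil_smul, h, form_self]; module

theorem dil_mem_levi {w u b b' : Fin m ⊕ Fin m → F} (h : sympForm m F b b' = 1)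
    (hb : b ∈ comp w u) (hb' : b' ∈ comp w u) (s : Fˣ) : dil b b' h s ∈ levi w u := by
  rw [mem_levi, dil_smul, dil_smul, (mem_comp.1 hb').1, (mem_comp.1 hb').2, comp_perp hb,
    comp_perp' hb]
  simp

theorem finrank_comp {w u : Fin m ⊕ Fin m → F} (h : sympForm m F w u = 1) :
    Module.finrank F (comp w u) = 2 * m - 2 := by
  let φ : (Fin m ⊕ Fin m → F) →ₗ[F] F × F := (formLin w).prod (formLin u)
  have hφ : Function.Surjective φ := fun p => ⟨p.1 • u - p.2 • w, by
    show (sympForm m F w _, sympForm m F u _) = p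
    simp [form_sub_right, form_smul_right, form_self, h, form_swap w u]⟩
  have hk : LinearMap.ker φ = comp w u := by rw [LinearMap.ker_prod]; rfl
  have := φ.finrank_range_add_finrank_ker
  rw [LinearMap.range_eq_top.2 hφ, finrank_top, Module.finrank_prod, Module.finrank_self, hk,
    Module.finrank_pi, Fintype.card_sum, Fintype.card_fin] at this
  omega

theorem card_comp [Finite F] {w u : Fin m ⊕ Fin m → F} (h : sympForm m F w u = 1) :
    Nat.card (comp w u) = Nat.card F ^ (2 * m - 2) := by
  rw [Module.natCard_eq_pow_finrank (K := F) (V := comp w u), finrank_comp h]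

end Cfsg.Agent.MinIndexSpHeis
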