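import Mathlib
import Cfsg.Agent.Lib.MinIndexSpHeis

/-!
A subgroup `H` of `Sp_2m(q)` and its orbits on vectors: `ridx H z = [stab z : H ∩ stab z]`, the sum of
`ridx` over vectors in distinct `H`-orbits is at most the index of `H`.
-/

set_option autoImplicit false

open Matrix Cfsg Cfsg.Agent.SymplecticBasic Cfsg.Agent.SymplecticSimple Cfsg.Agent.MinIndexSpHeis

namespace Cfsg.Agent.MinIndexSpCount

variable {F : Type*} [Field F] {m : ℕ}

/-- The index of `H ∩ stab z` in the stabiliser of `z`. -/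
noncomputable def ridx (H : Subgroup (symplecticGroup (Fin m) F)) (z : Fin m ⊕ Fin m → F) : ℕ :=
  H.relIndex (MulAction.stabilizer (symplecticGroup (Fin m) F) z)

/-- `H` has index below `(q^(2m) - 1)/(q - 1)`. -/
def SmallIdx (H : Subgroup (symplecticGroup (Fin m) F)) : Prop :=
  H.index * (Nat.card F - 1) < Nat.card F ^ (2 * m) - 1

theorem stab_smul_eq {z : Fin m ⊕ Fin m → F} {s : F} (hs : s ≠ 0) :
    MulAction.stabilizer (symplecticGroup (Fin m) F) (s • z) =
      MulAction.stabilizer (symplecticGroup (Fin m) F) z := by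
  ext g
  rw [MulAction.mem_stabilizer_iff, MulAction.mem_stabilizer_iff, scalar_smul]
  exact (smul_right_injective _ hs).eq_iff

theorem ridx_smul (H : Subgroup (symplecticGroup (Fin m) F)) {z : Fin m ⊕ Fin m → F} {s : F}
    (hs : s ≠ 0) : ridx H (s • z) = ridx H z := by
  rw [ridx, stab_smul_eq hs, ridx]

theorem card_orbit_one (H : Subgroup (symplecticGroup (Fin m) F))
    (R : Subgroup (symplecticGroup (Fin m) F)) :
    Nat.card (MulAction.orbit R ((1 : symplecticGroup (Fin m) F) :
      symplecticGroup (Fin m) F ⧸ H)) = H.relIndex R := by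
  rw [Nat.card_congr (MulAction.orbitEquivQuotientStabilizer R _)]
  show (MulAction.stabilizer R _).index = (H.subgroupOf R).index
  congr 1
  ext r
  rw [MulAction.mem_stabilizer_iff, Subgroup.mem_subgroupOf]
  show ((r.1 * 1 : symplecticGroup (Fin m) F) : symplecticGroup (Fin m) F ⧸ H) = _ ↔ _
  rw [QuotientGroup.eq, mul_one, mul_one, inv_mem_iff]

/-- Vectors in distinct `H`-orbits give disjoint orbits on the cosets of `H`. -/
theorem sum_ridx_le [Finite F] (H : Subgroup (symplecticGroup (Fin m) F)) {ι : Type*} [Fintype ι]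
    (z : ι → Fin m ⊕ Fin m → F) (hz : ∀ i, z i ≠ 0)
    (hdis : ∀ i j, i ≠ j → ∀ h ∈ H, h • z i ≠ z j) : ∑ i, ridx H (z i) ≤ H.index := by
  classical
  rcases isEmpty_or_nonempty ι with hι | ⟨⟨i₀⟩⟩
  · simp
  set w := z i₀ with hw
  choose g hg using fun i => exists_smul_eq (hz i) (hz i₀)
  let O : ι → Set (symplecticGroup (Fin m) F ⧸ H) := fun i =>
    (fun x => g i • x) '' MulAction.orbit (MulAction.stabilizer (symplecticGroup (Fin m) F) (z i))
      ((1 : symplecticGroup (Fin m) F) : symplecticGroup (Fin m) F ⧸ H)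
  have hcard : ∀ i, Nat.card (O i) = ridx H (z i) := fun i => by
    rw [Nat.card_image_of_injective (MulAction.injective (g i)), card_orbit_one]
    rfl
  let φ : (Σ i, O i) → symplecticGroup (Fin m) F ⧸ H := fun p => p.2.1
  have hinj : Function.Injective φ := by
    rintro ⟨i, x, hx⟩ ⟨j, y, hy⟩ (e : x = y)
    subst e
    suffices i = j by subst this; rfl
    by_contra hij
    obtain ⟨_, ⟨r, rfl⟩, hr⟩ := hx
    obtain ⟨_, ⟨s, rfl⟩, hs⟩ := hy
    have he : ((g i * (r.1 * 1) : symplecticGroup (Fin m) F) : symplecticGroup (Fin m) F ⧸ H) =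
        ((g j * (s.1 * 1) : symplecticGroup (Fin m) F) : symplecticGroup (Fin m) F ⧸ H) :=
      hr.trans hs.symm
    rw [mul_one, mul_one, QuotientGroup.eq] at he
    refine hdis i j hij _ (inv_mem he) ?_
    have h1 : (g i * r.1) • z i = g i • z i := by rw [mul_smul, r.2]
    have h2 : (g j * s.1) • z j = g j • z j := by rw [mul_smul, s.2]
    rw [_root_.mul_inv_rev, inv_inv, mul_smul, h1, inv_smul_eq_iff, h2, hg, hg]
  have := Nat.card_le_card_of_injective φ hinj
  rw [Nat.card_sigma, Finset.sum_congr rfl fun i _ => hcard i, ← Subgroup.index_eq_card] at this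
  exact this

theorem ridx_le [Finite F] (H : Subgroup (symplecticGroup (Fin m) F)) {z : Fin m ⊕ Fin m → F}
    (hz : z ≠ 0) : ridx H z ≤ H.index := by
  simpa using sum_ridx_le H (fun _ : Fin 1 => z) (fun _ => hz)
    fun i j hij => absurd (Subsingleton.elim i j) hij

theorem ridx_add_le [Finite F] (H : Subgroup (symplecticGroup (Fin m) F))
    {z z' : Fin m ⊕ Fin m → F} (hz : z ≠ 0) (hz' : z' ≠ 0) (h : ∀ g ∈ H, g • z ≠ z') :
    ridx H z + ridx H z' ≤ H.index := by
  have := sum_ridx_le H ![z, z'] (fun i => by fin_cases i <;> assumption) (fun i j hij g hg => by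
    fin_cases i <;> fin_cases j <;> simp at hij ⊢
    · exact h g hg
    · exact fun e => h g⁻¹ (inv_mem hg) (by rw [← e, inv_smul_smul]))
  simpa [Fin.sum_univ_two] using this

/-- The scalars induced by `H` on the line of `z`. -/
def scalars (H : Subgroup (symplecticGroup (Fin m) F)) (z : Fin m ⊕ Fin m → F) : Subgroup Fˣ where
  carrier := {s | ∃ h ∈ H, h • z = (s : F) • z}
  one_mem' := ⟨1, one_mem H, by simp⟩
  mul_mem' := fun {a b} ⟨h, hh, e⟩ ⟨k, hk, e'⟩ => ⟨h * k, mul_mem hh hk, by
    rw [mul_smul, e', scalar_smul, e, smul_smul, Units.val_mul, mul_comm]⟩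
  inv_mem' := fun {a} ⟨h, hh, e⟩ => ⟨h⁻¹, inv_mem hh, by
    rw [inv_smul_eq_iff, scalar_smul, e, smul_smul, ← Units.val_mul, inv_mul_cancel, Units.val_one,
      one_smul]⟩

theorem ridx_mul_le [Fintype F] (H : Subgroup (symplecticGroup (Fin m) F))
    {z : Fin m ⊕ Fin m → F} (hz : z ≠ 0) :
    ridx H z * (Nat.card F - 1) ≤ H.index * Nat.card (scalars H z) := by
  classical
  have := sum_ridx_le H (fun c : Fˣ ⧸ scalars H z => ((c.out : Fˣ) : F) • z)
    (fun c => smul_ne_zero c.out.ne_zero hz) (fun c d hcd h hh e => hcd ?_)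
  · rw [Finset.sum_congr rfl fun c _ => ridx_smul H (c.out : Fˣ).ne_zero, Finset.sum_const,
      smul_eq_mul, Finset.card_univ, ← Nat.card_eq_fintype_card] at this
    rw [← Nat.card_units, Subgroup.card_eq_card_quotient_mul_card_subgroup (scalars H z),
      ← mul_assoc, mul_comm (ridx H z)]
    exact Nat.mul_le_mul_right _ this
  · rw [← Quotient.out_eq c, ← Quotient.out_eq d]
    refine QuotientGroup.eq.2 ⟨h, hh, ?_⟩
    rw [scalar_smul] at e
    rw [Units.val_mul, ← smul_smul, ← e, smul_smul, ← Units.val_mul, inv_mul_cancel, Units.val_one,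
      one_smul]

theorem orbit_eq_nonzero {z : Fin m ⊕ Fin m → F} (hz : z ≠ 0) :
    MulAction.orbit (symplecticGroup (Fin m) F) z = {w | w ≠ 0} := by
  ext w
  exact ⟨fun ⟨g, hg⟩ => hg ▸ smul_ne_zero' g hz, fun hw => exists_smul_eq hz hw⟩

theorem card_nonzero [Finite F] :
    Nat.card {w : Fin m ⊕ Fin m → F | w ≠ 0} = Nat.card F ^ (2 * m) - 1 := by
  classical
  have := Fintype.ofFinite F
  rw [Nat.card_eq_fintype_card, Nat.card_eq_fintype_card]
  show Fintype.card {w : Fin m ⊕ Fin m → F // w ≠ 0} = _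
  rw [Fintype.card_subtype_compl, Fintype.card_subtype_eq, Fintype.card_fun]
  simp [two_mul]

/-- `index * |H z| = ridx * (q^(2m) - 1)`. -/
theorem index_mul_orbit [Finite F] (H : Subgroup (symplecticGroup (Fin m) F))
    {z : Fin m ⊕ Fin m → F} (hz : z ≠ 0) :
    H.index * Nat.card (MulAction.orbit H z) = ridx H z * (Nat.card F ^ (2 * m) - 1) := by
  have hG := Nat.card_congr (MulAction.orbitProdStabilizerEquivGroup (symplecticGroup (Fin m) F) z)
  rw [Nat.card_prod, orbit_eq_nonzero hz, card_nonzero] at hG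
  have hH := Nat.card_congr (MulAction.orbitProdStabilizerEquivGroup H z)
  rw [Nat.card_prod] at hH
  have h1 : ((H.subgroupOf (MulAction.stabilizer (symplecticGroup (Fin m) F) z))).index *
      Nat.card (H.subgroupOf (MulAction.stabilizer (symplecticGroup (Fin m) F) z)) =
      Nat.card (MulAction.stabilizer (symplecticGroup (Fin m) F) z) := Subgroup.index_mul_card _
  have h2 : Nat.card (H.subgroupOf (MulAction.stabilizer (symplecticGroup (Fin m) F) z)) =
      Nat.card (MulAction.stabilizer H z) :=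
    Nat.card_congr
      { toFun := fun g => ⟨⟨g.1.1, g.2⟩, g.1.2⟩
        invFun := fun g => ⟨⟨g.1.1, g.2⟩, g.1.2⟩
        left_inv := fun _ => rfl
        right_inv := fun _ => rfl }
  rw [h2] at h1
  have hpos : 0 < Nat.card (MulAction.stabilizer H z) := Nat.card_pos
  refine Nat.eq_of_mul_eq_mul_right hpos ?_
  rw [mul_assoc, hH, Subgroup.index_mul_card, ← hG, mul_comm (ridx H z), mul_assoc, ← h1]
  rfl

/-- `H` of small index moves every line. -/
theorem exists_move [Finite F] {H : Subgroup (symplecticGroup (Fin m) F)} (hH : SmallIdx H)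
    {z : Fin m ⊕ Fin m → F} (hz : z ≠ 0) : ∃ h ∈ H, ∀ s : F, h • z ≠ s • z := by
  classical
  have := Fintype.ofFinite F
  by_contra hall
  push Not at hall
  choose s hs using fun h : H => hall h.1 h.2
  have hsub : Nat.card (MulAction.orbit H z) ≤ Nat.card F - 1 := by
    rw [← Nat.card_units]
    refine Nat.card_le_card_of_surjective
      (fun a : {a : Fˣ // (a : F) • z ∈ MulAction.orbit H z} => (⟨_, a.2⟩ : MulAction.orbit H z))
      (fun x => ?_) |>.trans (Nat.card_le_card_of_injective _ Subtype.val_injective)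
    obtain ⟨h, hh⟩ := x.2
    have hne : s h ≠ 0 := fun e => smul_ne_zero' h.1 hz (by rw [hs h, e, zero_smul])
    exact ⟨⟨Units.mk0 _ hne, h, (hs h : h.1 • z = _)⟩, Subtype.ext ((hs h).symm.trans hh)⟩
  have h1 := index_mul_orbit H hz
  have h2 : 0 < ridx H z := by
    rw [ridx]; exact Nat.pos_of_ne_zero (Subgroup.index_ne_zero_of_finite)
  have h3 : Nat.card F ^ (2 * m) - 1 ≤ ridx H z * (Nat.card F ^ (2 * m) - 1) :=
    Nat.le_mul_of_pos_left _ h2
  have h4 := Nat.mul_le_mul_left H.index hsub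
  unfold SmallIdx at hH
  omega

theorem small_map {H : Subgroup (symplecticGroup (Fin m) F)} (hH : SmallIdx H)
    (g : symplecticGroup (Fin m) F) : SmallIdx (H.map (MulAut.conj g).toMonoidHom) := by
  unfold SmallIdx at hH ⊢
  rwa [MulEquiv.toMonoidHom_eq_coe, Subgroup.index_map_equiv]

end Cfsg.Agent.MinIndexSpCount
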