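import Mathlib
import Cfsg.Agent.Lib.MinIndexSpCount

/-!
The invariants of `H` at a hyperbolic pair `(w, u)`: the transvections `tC`, the radical part `uS`,
the image `piG` in the Levi factor, and the blocks `bS` of the characters trivial on the radical part.
-/

set_option autoImplicit false

open Matrix Cfsg Cfsg.Agent.SymplecticBasic Cfsg.Agent.SymplecticSimple Cfsg.Agent.MinIndexSpHeis
  Cfsg.Agent.MinIndexSpCount

namespace Cfsg.Agent.MinIndexSpShare

variable {F : Type*} [Field F] {m : ℕ}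

theorem form_neg_left (x y : Fin m ⊕ Fin m → F) : sympForm m F (-x) y = -sympForm m F x y := by
  rw [← neg_one_smul F x, form_smul_left, neg_one_mul]

theorem form_neg_right (x y : Fin m ⊕ Fin m → F) : sympForm m F x (-y) = -sympForm m F x y := by
  rw [← neg_one_smul F y, form_smul_right, neg_one_mul]

variable (H : Subgroup (symplecticGroup (Fin m) F))

/-- The parameters of the transvections of `H` with centre `v`. -/
def tC (v : Fin m ⊕ Fin m → F) : AddSubgroup F where
  carrier := {t | transv v t ∈ H}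
  zero_mem' := by show transv v 0 ∈ H; rw [transv_zero]; exact one_mem H
  add_mem' {a b} ha hb := by show transv v (a + b) ∈ H; rw [← transv_add]; exact mul_mem ha hb
  neg_mem' {a} ha := by show transv v (-a) ∈ H; rw [← transv_inv]; exact inv_mem ha

theorem mem_tC {v : Fin m ⊕ Fin m → F} {t : F} : t ∈ tC H v ↔ transv v t ∈ H := Iff.rfl

theorem tC_smul {v : Fin m ⊕ Fin m → F} {s t : F} :
    t ∈ tC H (s • v) ↔ s ^ 2 * t ∈ tC H v := by rw [mem_tC, mem_tC, transv_scale]

theorem tC_map {g : symplecticGroup (Fin m) F} (hg : g ∈ H) (v : Fin m ⊕ Fin m → F) :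
    tC H (g • v) = tC H v := by
  ext t
  rw [mem_tC, mem_tC, ← transv_conj]
  exact ⟨fun h => by simpa [mul_assoc] using mul_mem (mul_mem (inv_mem hg) h) hg,
    fun h => mul_mem (mul_mem hg h) (inv_mem hg)⟩

variable {w u : Fin m ⊕ Fin m → F}

/-- The projection of `H ∩ Q_w` to `comp w u`. -/
def uS (w u : Fin m ⊕ Fin m → F) : AddSubgroup (Fin m ⊕ Fin m → F) where
  carrier := {a | a ∈ comp w u ∧ ∃ c : F, heis w a c ∈ H}
  zero_mem' := ⟨zero_mem _, 0, by rw [heis_zero, transv_zero]; exact one_mem H⟩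
  add_mem' {a b} := fun ⟨ha, c, hc⟩ ⟨hb, d, hd⟩ => ⟨add_mem ha hb, _, by
    have := mul_mem hc hd; rwa [heis_mul (comp_perp ha) (comp_perp hb)] at this⟩
  neg_mem' {a} := fun ⟨ha, c, hc⟩ => ⟨neg_mem ha, -c, by
    rw [← heis_inv (comp_perp ha)]; exact inv_mem hc⟩

theorem uS_mem {a : Fin m ⊕ Fin m → F} (h : a ∈ uS H w u) : a ∈ comp w u := h.1

/-- The image of `H ∩ stab w` in the Levi factor. -/
def piG (w u : Fin m ⊕ Fin m → F) : Subgroup (symplecticGroup (Fin m) F) where
  carrier := {l | l ∈ levi w u ∧ ∃ a ∈ comp w u, ∃ c : F, heis w a c * l ∈ H}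
  one_mem' := ⟨one_mem _, 0, zero_mem _, 0, by rw [heis_zero, transv_zero, one_mul]; exact one_mem H⟩
  mul_mem' {k l} := fun ⟨hk, a, ha, c, hc⟩ ⟨hl, b, hb, d, hd⟩ =>
    ⟨mul_mem hk hl, _, add_mem ha (levi_maps hk hb), _, by
      have := mul_mem hc hd
      rwa [show heis w a c * k * (heis w b d * l) = heis w a c * (k * heis w b d) * l by group,
        levi_heis hk, show heis w a c * (heis w (k • b) d * k) * l =
          heis w a c * heis w (k • b) d * (k * l) by group,
        heis_mul (comp_perp ha) (comp_perp (levi_maps hk hb))] at this⟩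
  inv_mem' {k} := fun ⟨hk, a, ha, c, hc⟩ =>
    ⟨inv_mem hk, _, levi_maps (inv_mem hk) (neg_mem ha), -c, by
      have := inv_mem hc
      rwa [_root_.mul_inv_rev, heis_inv (comp_perp ha), levi_heis (inv_mem hk)] at this⟩

theorem piG_levi {l : symplecticGroup (Fin m) F} (h : l ∈ piG H w u) : l ∈ levi w u := h.1

theorem piG_le (w u : Fin m ⊕ Fin m → F) : piG H w u ≤ levi w u := fun _ h => h.1

/-- Conjugation by elements of `H ∩ stab w`. -/
theorem piG_conj {l : symplecticGroup (Fin m) F} {e : Fin m ⊕ Fin m → F} {s : F}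
    (hl : l ∈ levi w u) (he : e ∈ comp w u) (h : heis w e s * l ∈ H) {a : Fin m ⊕ Fin m → F}
    (ha : a ∈ comp w u) {c : F} (hc : heis w a c ∈ H) :
    heis w (l • a) (c + 2 * sympForm m F (l • a) e) ∈ H := by
  have := mul_mem (mul_mem h hc) (inv_mem h)
  rw [show heis w e s * l * heis w a c * (heis w e s * l)⁻¹ =
      heis w e s * (l * heis w a c * l⁻¹) * (heis w e s)⁻¹ by group, heis_conj,
    (mem_levi.1 hl).1] at this
  rwa [heis_comm (comp_perp he) (comp_perp (levi_maps hl ha)), mul_assoc, mul_assoc,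
    mul_inv_cancel, mul_one, ← heis_zero, heis_mul (by simp) (comp_perp (levi_maps hl ha)),
    zero_add, form_zero_right, add_zero, add_comm] at this

theorem uS_map {l : symplecticGroup (Fin m) F} (hl : l ∈ piG H w u) {a : Fin m ⊕ Fin m → F}
    (ha : a ∈ uS H w u) : l • a ∈ uS H w u := by
  obtain ⟨hl, e, he, s, hs⟩ := hl
  obtain ⟨ha, c, hc⟩ := ha
  exact ⟨levi_maps hl ha, _, piG_conj H hl he hs ha hc⟩

variable [Finite F]

theorem card_stab (h : sympForm m F w u = 1) :
    Nat.card (MulAction.stabilizer (symplecticGroup (Fin m) F) w) =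
      Nat.card (comp w u) * Nat.card F * Nat.card (levi w u) := by
  rw [← Nat.card_prod, ← Nat.card_prod]
  symm
  refine Nat.card_eq_of_bijective (fun p => (⟨heis w p.1.1 p.1.2 * p.2, by
    rw [MulAction.mem_stabilizer_iff, mul_smul, (mem_levi.1 p.2.2).1,
      heis_fix (comp_perp p.1.1.2)]⟩ : MulAction.stabilizer (symplecticGroup (Fin m) F) w))
    ⟨fun p p' e => ?_, fun g => ?_⟩
  · obtain ⟨e1, e2, e3⟩ := decomp_unique h p.1.1.2 p'.1.1.2 p.2.2 p'.2.2 (congrArg Subtype.val e)
    exact Prod.ext (Prod.ext (Subtype.ext e1) e2) (Subtype.ext e3)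
  · obtain ⟨a, ha, c, l, hl, e⟩ := exists_decomp h g.2
    exact ⟨((⟨a, ha⟩, c), ⟨l, hl⟩), Subtype.ext e.symm⟩

theorem card_inter (h : sympForm m F w u = 1) :
    Nat.card (H.subgroupOf (MulAction.stabilizer (symplecticGroup (Fin m) F) w)) =
      Nat.card (uS H w u) * Nat.card (tC H w) * Nat.card (piG H w u) := by
  rw [← Nat.card_prod, ← Nat.card_prod]
  symm
  choose aL haL cL hcL using fun l : piG H w u => l.2.2
  choose cU hcU using fun a : uS H w u => a.2.2
  let φ : (uS H w u × tC H w) × piG H w u →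
      H.subgroupOf (MulAction.stabilizer (symplecticGroup (Fin m) F) w) := fun p =>
    ⟨⟨transv w p.1.2 * heis w p.1.1 (cU p.1.1) * (heis w (aL p.2) (cL p.2) * p.2), by
      rw [MulAction.mem_stabilizer_iff, mul_smul, mul_smul, mul_smul, (mem_levi.1 p.2.2.1).1,
        heis_fix (comp_perp (haL _)), heis_fix (comp_perp p.1.1.2.1), transv_smul, form_self]
      simp⟩, Subgroup.mem_subgroupOf.2 (mul_mem (mul_mem p.1.2.2 (hcU _)) (hcL _))⟩
  refine Nat.card_eq_of_bijective φ ⟨?_, ?_⟩
  · rintro ⟨⟨a, t⟩, l⟩ ⟨⟨b, t'⟩, l'⟩ e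
    have e' : transv w t * heis w a (cU a) * (heis w (aL l) (cL l) * l) =
        transv w t' * heis w b (cU b) * (heis w (aL l') (cL l') * l') :=
      congrArg (fun z : H.subgroupOf _ => z.1.1) e
    rw [← heis_zero, ← heis_zero, heis_mul (by simp) (comp_perp a.2.1),
      heis_mul (by simp) (comp_perp b.2.1), ← mul_assoc, ← mul_assoc,
      heis_mul (comp_perp (by simpa using a.2.1)) (comp_perp (haL l)),
      heis_mul (comp_perp (by simpa using b.2.1)) (comp_perp (haL l'))] at e'
    obtain ⟨e1, e2, e3⟩ := decomp_unique h (add_mem (by simpa using a.2.1) (haL l))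
      (add_mem (by simpa using b.2.1) (haL l')) l.2.1 l'.2.1 e'
    obtain rfl : l = l' := Subtype.ext e3
    obtain rfl : a = b := Subtype.ext (by simpa using e1)
    obtain rfl : t = t' := Subtype.ext (by simpa using e2)
    rfl
  · rintro ⟨⟨g, hg⟩, hgH⟩
    have hgH' : g ∈ H := hgH
    obtain ⟨b, hb, d, l, hl, rfl⟩ := exists_decomp h hg
    let L : piG H w u := ⟨l, hl, b, hb, d, hgH'⟩
    have h1 := mul_mem hgH' (inv_mem (hcL L))
    rw [show heis w b d * l * (heis w (aL L) (cL L) * (L : symplecticGroup (Fin m) F))⁻¹ =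
      heis w b d * (heis w (aL L) (cL L))⁻¹ by simp [L, mul_assoc],
      heis_inv (comp_perp (haL L)), heis_mul (comp_perp hb) (comp_perp (neg_mem (haL L)))] at h1
    let A : uS H w u := ⟨b + -aL L, add_mem hb (neg_mem (haL L)), _, h1⟩
    have h2 := mul_mem h1 (inv_mem (hcU A))
    rw [heis_inv (comp_perp A.2.1), heis_mul (comp_perp A.2.1) (comp_perp (neg_mem A.2.1)),
      add_neg_cancel, heis_zero] at h2
    refine ⟨⟨⟨A, ⟨_, h2⟩⟩, L⟩, Subtype.ext (Subtype.ext ?_)⟩
    show transv w _ * heis w A (cU A) * (heis w (aL L) (cL L) * l) = heis w b d * l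
    rw [← heis_zero, heis_mul (by simp) (comp_perp A.2.1), ← mul_assoc,
      heis_mul (comp_perp (add_mem (zero_mem _) A.2.1)) (comp_perp (haL L))]
    have ea : (0 : Fin m ⊕ Fin m → F) + (A : Fin m ⊕ Fin m → F) + aL L = b := by
      simp [A, add_assoc]
    rw [ea]
    congr 2
    simp only [A, form_zero_right, add_zero, form_add_right, form_add_left, neg_add, neg_neg,
      form_neg_left, form_neg_right, form_self, form_swap (aL L) b, zero_add, form_zero_left]
    ring

omit [Finite F] in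
/-- A nonzero additive functional. -/
def IsFunctional {p : ℕ} (ψ : F →+ ZMod p) : Prop := ψ ≠ 0

/-- The characters trivial on `uS`, inside `comp w u`. -/
def bS {p : ℕ} (w u : Fin m ⊕ Fin m → F) (ψ : F →+ ZMod p) :
    AddSubgroup (Fin m ⊕ Fin m → F) where
  carrier := {x | x ∈ comp w u ∧ ∀ a ∈ uS H w u, ψ (sympForm m F a x) = 0}
  zero_mem' := ⟨zero_mem _, fun a _ => by simp⟩
  add_mem' {x y} hx hy := ⟨add_mem hx.1 hy.1, fun a ha => by
    rw [form_add_right, map_add, hx.2 a ha, hy.2 a ha, add_zero]⟩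
  neg_mem' {x} hx := ⟨neg_mem hx.1, fun a ha => by
    rw [← neg_one_smul F x, form_smul_right, neg_one_mul, map_neg, hx.2 a ha, neg_zero]⟩

omit [Finite F] in
theorem eq_zero_of_functional {p : ℕ} {ψ : F →+ ZMod p} (hψ : IsFunctional ψ) {r : F}
    (h : ∀ s : F, ψ (s * r) = 0) : r = 0 := by
  by_contra hr
  exact hψ (AddMonoidHom.ext fun y => by
    have := h (y / r); rwa [div_mul_cancel₀ y hr] at this)

theorem card_dual {p : ℕ} [hp : Fact p.Prime] [CharP F p] (h : sympForm m F w u = 1)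
    {ψ : F →+ ZMod p} (hψ : IsFunctional ψ) :
    Nat.card (bS H w u ψ) * Nat.card (uS H w u) = Nat.card (comp w u) := by
  let W := comp w u
  letI : Module (ZMod p) W := Module.compHom W (ZMod.castHom (dvd_refl p) F)
  let U : Submodule (ZMod p) W :=
    AddSubgroup.toZModSubmodule p ((uS H w u).comap W.toAddSubgroup.subtype)
  let βr : W → (W →ₗ[ZMod p] ZMod p) := fun x => AddMonoidHom.toZModLinearMap p
    (AddMonoidHom.mk' (fun a : W => ψ (sympForm m F (a : Fin m ⊕ Fin m → F) x.1))
      fun a b => by simp [form_add_left])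
  have hadd : ∀ x y : W, βr (x + y) = βr x + βr y := fun x y => LinearMap.ext fun a => by
    rw [LinearMap.add_apply]
    show ψ (sympForm m F a.1 (x.1 + y.1)) = ψ _ + ψ _
    rw [form_add_right, map_add]
  let β : W →ₗ[ZMod p] Module.Dual (ZMod p) W :=
    AddMonoidHom.toZModLinearMap p (AddMonoidHom.mk' βr hadd)
  have hinj : Function.Injective β := by
    rw [injective_iff_map_eq_zero]
    intro x hx
    by_contra hx0
    obtain ⟨b, hb, hxb⟩ := exists_comp_one h x.2 (fun e => hx0 (Subtype.ext e))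
    refine one_ne_zero (α := F) (neg_eq_zero.1 (eq_zero_of_functional hψ fun s => ?_))
    have : ψ (sympForm m F (s • b) x.1) = 0 :=
      LinearMap.congr_fun hx (⟨s • b, Submodule.smul_mem _ s hb⟩ : W)
    rwa [form_smul_left, form_swap (x : Fin m ⊕ Fin m → F) b, hxb] at this
  have hsurj : Function.Surjective β :=
    (LinearMap.injective_iff_surjective_of_finrank_eq_finrank Subspace.dual_finrank_eq.symm).1 hinj
  let g : W →ₗ[ZMod p] Module.Dual (ZMod p) U := U.dualRestrict.comp β
  have hg : Function.Surjective g := Subspace.dualRestrict_surjective.comp hsurj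
  have hk : Nat.card (LinearMap.ker g) = Nat.card (bS H w u ψ) :=
    Nat.card_congr
      { toFun := fun x => ⟨x.1.1, x.1.2, fun a ha => by
          have := LinearMap.congr_fun (LinearMap.mem_ker.1 x.2)
            (⟨⟨a, uS_mem H ha⟩, ha⟩ : U)
          exact this⟩
        invFun := fun x => ⟨⟨x.1, x.2.1⟩, LinearMap.mem_ker.2 (LinearMap.ext fun a => x.2.2 _ a.2)⟩
        left_inv := fun _ => rfl
        right_inv := fun _ => rfl }
  have hU : Nat.card U = Nat.card (uS H w u) :=
    Nat.card_congr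
      { toFun := fun x => ⟨x.1.1, x.2⟩
        invFun := fun x => ⟨⟨x.1, uS_mem H x.2⟩, x.2⟩
        left_inv := fun _ => rfl
        right_inv := fun _ => rfl }
  have hr := g.finrank_range_add_finrank_ker
  rw [LinearMap.range_eq_top.2 hg, finrank_top, Subspace.dual_finrank_eq] at hr
  rw [← hk, ← hU, Module.natCard_eq_pow_finrank (K := ZMod p) (V := LinearMap.ker g),
    Module.natCard_eq_pow_finrank (K := ZMod p) (V := U),
    Module.natCard_eq_pow_finrank (K := ZMod p) (V := (comp w u : Submodule F _)), ← pow_add,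
    add_comm, hr]

/-- `[L : π]`. -/
noncomputable def jdx (w u : Fin m ⊕ Fin m → F) : ℕ := (piG H w u).relIndex (levi w u)

omit [Finite F] in
theorem jdx_mul (w u : Fin m ⊕ Fin m → F) :
    jdx H w u * Nat.card (piG H w u) = Nat.card (levi w u) := by
  rw [← Nat.card_congr (Subgroup.subgroupOfEquivOfLe (piG_le H w u)).toEquiv]
  exact Subgroup.index_mul_card _

theorem ridx_eq {p : ℕ} [Fact p.Prime] [CharP F p] (h : sympForm m F w u = 1)
    {ψ : F →+ ZMod p} (hψ : IsFunctional ψ) :
    ridx H w = (tC H w).index * jdx H w u * Nat.card (bS H w u ψ) := by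
  have h1 : ridx H w * Nat.card (H.subgroupOf (MulAction.stabilizer (symplecticGroup (Fin m) F) w)) =
      Nat.card (MulAction.stabilizer (symplecticGroup (Fin m) F) w) := Subgroup.index_mul_card _
  rw [card_inter H h, card_stab h] at h1
  have h2 := jdx_mul H w u
  have h3 := card_dual H h hψ
  have h4 : (tC H w).index * Nat.card (tC H w) = Nat.card F := AddSubgroup.index_mul_card _
  rw [← h2, ← h3, ← h4] at h1
  have hpos : 0 < Nat.card (uS H w u) * Nat.card (tC H w) * Nat.card (piG H w u) :=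
    Nat.mul_pos (Nat.mul_pos Nat.card_pos Nat.card_pos) Nat.card_pos
  refine Nat.eq_of_mul_eq_mul_right hpos (h1.trans ?_)
  ring

omit [Finite F] in
theorem bS_map {p : ℕ} {ψ : F →+ ZMod p} {l : symplecticGroup (Fin m) F} (hl : l ∈ piG H w u)
    {x : Fin m ⊕ Fin m → F} (hx : x ∈ bS H w u ψ) : l • x ∈ bS H w u ψ := by
  refine ⟨levi_maps hl.1 hx.1, fun a ha => ?_⟩
  have := hx.2 (l⁻¹ • a) (uS_map H (inv_mem hl) ha)
  rwa [← form_map l (l⁻¹ • a) x, smul_inv_smul] at this

theorem card_bS_le {p : ℕ} (ψ : F →+ ZMod p) :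
    Nat.card (bS H w u ψ) ≤ Nat.card (comp w u) :=
  Nat.card_le_card_of_injective (fun x : bS H w u ψ => (⟨x.1, x.2.1⟩ : comp w u))
    fun a b e => Subtype.ext (congrArg (fun z : comp w u => (z : Fin m ⊕ Fin m → F)) e)

open scoped Classical in
/-- Double counting the blocks `l • bS`. -/
theorem count_blocks {p : ℕ} (h : sympForm m F w u = 1) (ψ : F →+ ZMod p)
    {x₀ : Fin m ⊕ Fin m → F} (hx₀ : x₀ ∈ comp w u) (h0 : x₀ ≠ 0) :
    Nat.card {l : levi w u // (l : symplecticGroup (Fin m) F) • x₀ ∈ bS H w u ψ} *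
      (Nat.card (comp w u) - 1) = Nat.card (levi w u) * (Nat.card (bS H w u ψ) - 1) := by
  have := Fintype.ofFinite (levi w u)
  have := Fintype.ofFinite {x : comp w u // x ≠ 0}
  let T := {z : levi w u × {x : comp w u // x ≠ 0} //
    (z.1 : symplecticGroup (Fin m) F) • (z.2.1 : Fin m ⊕ Fin m → F) ∈ bS H w u ψ}
  let e1 : T ≃ Σ x : {x : comp w u // x ≠ 0},
      {l : levi w u // (l : symplecticGroup (Fin m) F) • (x.1 : Fin m ⊕ Fin m → F) ∈ bS H w u ψ} :=
    { toFun := fun z => ⟨z.1.2, z.1.1, z.2⟩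
      invFun := fun z => ⟨(z.2.1, z.1), z.2.2⟩
      left_inv := fun _ => rfl
      right_inv := fun _ => rfl }
  let e2 : T ≃ Σ l : levi w u, {x : {x : comp w u // x ≠ 0} //
      (l : symplecticGroup (Fin m) F) • (x.1 : Fin m ⊕ Fin m → F) ∈ bS H w u ψ} :=
    { toFun := fun z => ⟨z.1.1, z.1.2, z.2⟩
      invFun := fun z => ⟨(z.1, z.2.1), z.2.2⟩
      left_inv := fun _ => rfl
      right_inv := fun _ => rfl }
  have hc1 : ∀ x : {x : comp w u // x ≠ 0},
      Nat.card {l : levi w u // (l : symplecticGroup (Fin m) F) • (x.1 : Fin m ⊕ Fin m → F) ∈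
        bS H w u ψ} =
      Nat.card {l : levi w u // (l : symplecticGroup (Fin m) F) • x₀ ∈ bS H w u ψ} := by
    intro x
    obtain ⟨g, hg, hgx⟩ := levi_transitive h x.1.2 hx₀ (fun e => x.2 (Subtype.ext e)) h0
    refine Nat.card_congr ((Equiv.mulRight (⟨g, hg⟩ : levi w u)⁻¹).subtypeEquiv fun l => ?_)
    have : (g⁻¹ : symplecticGroup (Fin m) F) • x₀ = (x.1 : Fin m ⊕ Fin m → F) := by
      rw [← hgx, inv_smul_smul]
    show _ ↔ ((l * (⟨g, hg⟩ : levi w u)⁻¹ : levi w u) : symplecticGroup (Fin m) F) • x₀ ∈ _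
    rw [Subgroup.coe_mul, mul_smul, Subgroup.coe_inv, this]
  have hc2 : ∀ l : levi w u, Nat.card {x : {x : comp w u // x ≠ 0} //
      (l : symplecticGroup (Fin m) F) • (x.1 : Fin m ⊕ Fin m → F) ∈ bS H w u ψ} =
      Nat.card (bS H w u ψ) - 1 := by
    intro l
    have := Fintype.ofFinite (bS H w u ψ)
    rw [Nat.card_eq_fintype_card (α := bS H w u ψ), ← Fintype.card_subtype_eq (0 : bS H w u ψ),
      ← Fintype.card_subtype_compl, ← Nat.card_eq_fintype_card]
    refine Nat.card_congr
      { toFun := fun x => ⟨⟨_, x.2⟩, fun e => x.1.2 (Subtype.ext ?_)⟩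
        invFun := fun y => ⟨⟨⟨(l : symplecticGroup (Fin m) F)⁻¹ • (y.1 : Fin m ⊕ Fin m → F),
          levi_maps (inv_mem l.2) y.1.2.1⟩, fun e => y.2 (Subtype.ext ?_)⟩, by
            show (l : symplecticGroup (Fin m) F) • ((l : symplecticGroup (Fin m) F)⁻¹ •
              (y.1 : Fin m ⊕ Fin m → F)) ∈ _
            rw [smul_inv_smul]; exact y.1.2⟩
        left_inv := fun x => Subtype.ext (Subtype.ext (Subtype.ext (inv_smul_smul _ _)))
        right_inv := fun y => Subtype.ext (Subtype.ext (smul_inv_smul _ _)) }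
    · have e' := congrArg (fun z : bS H w u ψ => (z : Fin m ⊕ Fin m → F)) e
      exact MulAction.injective (l : symplecticGroup (Fin m) F) (e'.trans (smul_zero' _).symm)
    · have e' := congrArg (fun z : comp w u => (z : Fin m ⊕ Fin m → F)) e
      exact (inv_smul_eq_iff.1 e').trans (smul_zero' _)
  have hT := Nat.card_congr (e1.symm.trans e2)
  rw [Nat.card_sigma, Nat.card_sigma, Finset.sum_congr rfl fun x _ => hc1 x,
    Finset.sum_congr rfl fun l _ => hc2 l, Finset.sum_const, Finset.sum_const, smul_eq_mul,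
    smul_eq_mul, Finset.card_univ, Finset.card_univ, ← Nat.card_eq_fintype_card,
    ← Nat.card_eq_fintype_card] at hT
  rw [mul_comm, ← hT]
  congr 1
  have := Fintype.ofFinite (comp w u)
  rw [Nat.card_eq_fintype_card, Nat.card_eq_fintype_card, Fintype.card_subtype_compl,
    Fintype.card_subtype_eq]

/-- If the blocks do not cover twice, they form a partition with stabiliser `piG`. -/
theorem blocks {p : ℕ} (h : sympForm m F w u = 1) (ψ : F →+ ZMod p)
    {b : Fin m ⊕ Fin m → F} (hb : b ∈ bS H w u ψ) (hb0 : b ≠ 0)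
    (hlt : jdx H w u * (Nat.card (bS H w u ψ) - 1) < 2 * (Nat.card (comp w u) - 1)) :
    (∀ l ∈ levi w u, l • b ∈ bS H w u ψ → l ∈ piG H w u) ∧
      jdx H w u * (Nat.card (bS H w u ψ) - 1) = Nat.card (comp w u) - 1 := by
  have hc := count_blocks H h ψ hb.1 hb0
  let T := {l : levi w u // (l : symplecticGroup (Fin m) F) • b ∈ bS H w u ψ}
  have hP : 0 < Nat.card (piG H w u) := Nat.card_pos
  have hW : 0 < Nat.card (comp w u) - 1 := by
    have : 1 < Nat.card (comp w u) := by
      rw [Finite.one_lt_card_iff_nontrivial]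
      exact ⟨⟨⟨b, hb.1⟩, 0, fun e => hb0 (congrArg Subtype.val e)⟩⟩
    omega
  rw [← jdx_mul H w u] at hc
  by_cases hall : ∀ l ∈ levi w u, l • b ∈ bS H w u ψ → l ∈ piG H w u
  · refine ⟨hall, ?_⟩
    have he : Nat.card T = Nat.card (piG H w u) := Nat.card_congr
      { toFun := fun l => ⟨_, hall _ l.1.2 l.2⟩
        invFun := fun l => ⟨⟨l.1, l.2.1⟩, bS_map H l.2 hb⟩
        left_inv := fun _ => rfl
        right_inv := fun _ => rfl }
    rw [he] at hc
    refine Nat.eq_of_mul_eq_mul_left hP ?_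
    rw [hc]; ring
  · exfalso
    push Not at hall
    obtain ⟨l, hl, hlb, hlp⟩ := hall
    have h2 : 2 * Nat.card (piG H w u) ≤ Nat.card T := by
      rw [two_mul, ← Nat.card_sum]
      refine Nat.card_le_card_of_injective
        (Sum.elim (fun k => (⟨⟨k.1, k.2.1⟩, bS_map H k.2 hb⟩ : T))
          (fun k => ⟨⟨k.1 * l, mul_mem k.2.1 hl⟩, by
            show (k.1 * l) • b ∈ _
            rw [mul_smul]; exact bS_map H k.2 hlb⟩)) ?_
      rintro (⟨k, hk⟩ | ⟨k, hk⟩) (⟨k', hk'⟩ | ⟨k', hk'⟩) e <;>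
        simp only [Sum.elim_inl, Sum.elim_inr, T, Subtype.mk.injEq] at e
      · subst e; rfl
      · exact absurd (show l ∈ piG H w u by
          rw [show l = k'⁻¹ * k by rw [e]; group]; exact mul_mem (inv_mem hk') hk) hlp
      · exact absurd (show l ∈ piG H w u by
          rw [show l = k⁻¹ * k' by rw [← e]; group]; exact mul_mem (inv_mem hk) hk') hlp
      · obtain rfl := mul_right_cancel e; rfl
    have h3 := Nat.mul_le_mul_right (Nat.card (comp w u) - 1) h2
    rw [hc] at h3
    have h4 : Nat.card (piG H w u) * (2 * (Nat.card (comp w u) - 1)) ≤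
        Nat.card (piG H w u) * (jdx H w u * (Nat.card (bS H w u ψ) - 1)) := by
      linarith
    exact absurd (Nat.le_of_mul_le_mul_left h4 hP) (not_le.2 hlt)

omit [Finite F] in
/-- A block with two independent vectors is everything. -/
theorem bS_eq_top {p : ℕ} {ψ : F →+ ZMod p}
    (hinv : ∀ b ∈ bS H w u ψ, b ≠ 0 → ∀ l ∈ levi w u, l • b ∈ bS H w u ψ → l ∈ piG H w u)
    (h : sympForm m F w u = 1) {b x : Fin m ⊕ Fin m → F} (hb : b ∈ bS H w u ψ)
    (hx : x ∈ bS H w u ψ) (hb0 : b ≠ 0) (hind : ∀ s : F, x ≠ s • b)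
    {z : Fin m ⊕ Fin m → F} (hz : z ∈ comp w u) : z ∈ bS H w u ψ := by
  -- if `f(y, v) ≠ 0` and `f(c, v) = 0` with `y, c` in the block, the line of `v` is in the block
  have key : ∀ c ∈ bS H w u ψ, c ≠ 0 → ∀ y ∈ bS H w u ψ, ∀ v ∈ comp w u,
      sympForm m F c v = 0 → sympForm m F y v ≠ 0 → v ∈ bS H w u ψ := by
    intro c hc hc0 y hy v hv h1 h2
    have hT : transv v (sympForm m F y v)⁻¹ • c = c := by rw [transv_smul, h1]; simp
    have hmem : transv v (sympForm m F y v)⁻¹ • y ∈ bS H w u ψ :=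
      bS_map H (hinv c hc hc0 _ (transv_mem_levi hv _) (by rw [hT]; exact hc)) hy
    rw [transv_smul, inv_mul_cancel₀ h2, one_smul] at hmem
    simpa using sub_mem hmem hy
  -- hence the block contains the perp of each of its vectors
  have perp : ∀ c ∈ bS H w u ψ, c ≠ 0 → ∀ y ∈ bS H w u ψ, (∀ s : F, y ≠ s • c) →
      ∀ v ∈ comp w u, sympForm m F c v = 0 → v ∈ bS H w u ψ := by
    intro c hc hc0 y hy hyc v hv h1
    by_cases h2 : sympForm m F y v = 0
    · obtain ⟨v₁, hv₁, e1, e2⟩ : ∃ v₁ ∈ comp w u, sympForm m F c v₁ = 0 ∧ sympForm m F y v₁ ≠ 0 := by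
        obtain ⟨c', hc', hcc⟩ := exists_comp_one h hc.1 hc0
        set y' := y - sympForm m F y c' • c with hy'
        obtain ⟨z', hz', hyz⟩ := exists_comp_one h (a := y')
          (sub_mem hy.1 (Submodule.smul_mem _ _ hc.1)) (fun e => hyc _ (sub_eq_zero.1 e))
        refine ⟨z' - sympForm m F c z' • c', sub_mem hz' (Submodule.smul_mem _ _ hc'),
          by rw [form_sub_right, form_smul_right, hcc]; ring, ?_⟩
        rw [hy', form_sub_left, form_smul_left] at hyz
        rw [form_sub_right, form_smul_right]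
        rw [show sympForm m F y z' - sympForm m F c z' * sympForm m F y c' = 1 by
          linear_combination hyz]
        exact one_ne_zero
      have m1 := key c hc hc0 y hy (v + v₁) (add_mem hv hv₁)
        (by rw [form_add_right, h1, e1, add_zero]) (by rw [form_add_right, h2, zero_add]; exact e2)
      have m2 := key c hc hc0 y hy v₁ hv₁ e1 e2
      simpa using sub_mem m1 m2
    · exact key c hc hc0 y hy v hv h1 h2
  obtain ⟨b', hb', hbb⟩ := exists_comp_one h hb.1 hb0
  set x' := x - sympForm m F x b' • b with hx'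
  have hbnot : ∀ s : F, b ≠ s • x := by
    intro s e
    have hs : s ≠ 0 := fun hs => hb0 (by rw [e, hs, zero_smul])
    exact hind s⁻¹ (by rw [e, inv_smul_smul₀ hs])
  have hx0 : x ≠ 0 := fun e => hind 0 (by rw [e, zero_smul])
  obtain ⟨v₂, hv₂, e2⟩ := exists_comp_one h (a := x') (sub_mem hx.1 (Submodule.smul_mem _ _ hb.1))
    (fun e => hind _ (sub_eq_zero.1 e))
  -- split `z` along `b⊥` and `x⊥`
  set v₀ := b' - sympForm m F x b' • (v₂ - sympForm m F b v₂ • b') with hv₀
  have hv₀m : v₀ ∈ comp w u :=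
    sub_mem hb' (Submodule.smul_mem _ _ (sub_mem hv₂ (Submodule.smul_mem _ _ hb')))
  rw [hx', form_sub_left, form_smul_left] at e2
  have hbv : sympForm m F b v₀ = 1 := by
    rw [hv₀]; simp only [form_sub_right, form_smul_right, hbb]; ring
  have hxv : sympForm m F x v₀ = 0 := by
    rw [hv₀]; simp only [form_sub_right, form_smul_right]
    linear_combination (-sympForm m F x b') * e2
  have m1 := perp b hb hb0 x hx hind (z - sympForm m F b z • v₀)
    (sub_mem hz (Submodule.smul_mem _ _ hv₀m))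
    (by rw [form_sub_right, form_smul_right, hbv]; ring)
  have m2 := perp x hx hx0 b hb hbnot (sympForm m F b z • v₀) (Submodule.smul_mem _ _ hv₀m)
    (by rw [form_smul_right, hxv, mul_zero])
  simpa using add_mem m1 m2

end Cfsg.Agent.MinIndexSpShare
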