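import Mathlib
import Cfsg.Agent.Lib.SymplecticBasic
import Cfsg.Agent.Lib.Witt

/-!
Totally isotropic subspaces of finite symplectic spaces: counting and stabilisers.
-/

set_option autoImplicit false

open Matrix

namespace Cfsg.Agent.SymplecticIsotropic

open Cfsg.Agent.SymplecticBasic

variable {F : Type*} [Field F] {m k : ℕ}

local notation "V" => (Fin m ⊕ Fin m → F)

/-- The alternating form as a bilinear map. -/
def bil : LinearMap.BilinForm F V := LinearMap.mk₂ F (sympForm m F)
  form_add_left form_smul_left form_add_right form_smul_right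

@[simp] theorem bil_apply (u v : V) : (bil (F := F) (m := m)) u v = sympForm m F u v := rfl

theorem bil_isAlt : (bil (F := F) (m := m)).IsAlt := fun v => form_self v

theorem bil_nondeg : (bil (F := F) (m := m)).Nondegenerate :=
  ⟨fun u h => form_nondeg fun v => h v,
    fun u h => form_nondeg fun v => by rw [form_eq_zero_comm]; exact h v⟩

theorem finrank_space : Module.finrank F V = 2 * m := by simp [two_mul]

/-- Independent totally isotropic tuples. -/
def frames (F : Type*) [Field F] (m k : ℕ) : Set (Fin k → (Fin m ⊕ Fin m → F)) :=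
  {φ | LinearIndependent F φ ∧ ∀ i j, sympForm m F (φ i) (φ j) = 0}

theorem span_isotropic {φ : Fin k → V} (hφ : φ ∈ frames F m k) :
    ∀ u ∈ Submodule.span F (Set.range φ), ∀ v ∈ Submodule.span F (Set.range φ), sympForm m F u v = 0 := by
  intro u hu v hv
  induction hu using Submodule.span_induction with
  | mem x hx =>
    obtain ⟨i, rfl⟩ := hx
    induction hv using Submodule.span_induction with
    | mem y hy => obtain ⟨j, rfl⟩ := hy; exact hφ.2 i j
    | zero => simp
    | add a b _ _ ha hb => rw [form_add_right, ha, hb, add_zero]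
    | smul c a _ ha => rw [form_smul_right, ha, mul_zero]
  | zero => simp
  | add a b _ _ ha hb => rw [form_add_left, ha, hb, add_zero]
  | smul c a _ ha => rw [form_smul_left, ha, mul_zero]

theorem mem_orth_span {φ : Fin k → V} {x : V} :
    x ∈ (bil (F := F) (m := m)).orthogonal (Submodule.span F (Set.range φ)) ↔
      ∀ i, sympForm m F (φ i) x = 0 := by
  rw [LinearMap.BilinForm.mem_orthogonal_iff]
  constructor
  · exact fun h i => h _ (Submodule.subset_span ⟨i, rfl⟩)
  · intro h u hu
    show sympForm m F u x = 0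
    induction hu using Submodule.span_induction with
    | mem y hy => obtain ⟨j, rfl⟩ := hy; exact h j
    | zero => simp
    | add a b _ _ ha hb => rw [form_add_left, ha, hb, add_zero]
    | smul c a _ ha => rw [form_smul_left, ha, mul_zero]

/-- Extensions of a frame by one vector. -/
theorem card_extensions [Fintype F] {φ : Fin k → V} (hφ : φ ∈ frames F m k) :
    Nat.card {x : V // (∀ i, sympForm m F (φ i) x = 0) ∧ x ∉ Submodule.span F (Set.range φ)} =
      Nat.card F ^ (2 * m - k) - Nat.card F ^ k := by
  let S := Submodule.span F (Set.range φ)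
  let O := (bil (F := F) (m := m)).orthogonal S
  have hS : Module.finrank F S = k := by rw [finrank_span_eq_card hφ.1, Fintype.card_fin]
  have hO : Module.finrank F O = 2 * m - k := by
    rw [LinearMap.BilinForm.finrank_orthogonal bil_nondeg, finrank_space, hS]
  have hsub : (S : Set V) ⊆ O := fun x hx => mem_orth_span.2 fun i =>
    span_isotropic hφ _ (Submodule.subset_span ⟨i, rfl⟩) x hx
  rw [← hO]
  conv_rhs => arg 2; rw [← hS]
  rw [← (Module.natCard_eq_pow_finrank : Nat.card O = Nat.card F ^ _),
    ← (Module.natCard_eq_pow_finrank : Nat.card S = Nat.card F ^ _),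
    show Nat.card O = (O : Set V).ncard from Nat.card_coe_set_eq (O : Set V),
    show Nat.card S = (S : Set V).ncard from Nat.card_coe_set_eq (S : Set V),
    ← Set.ncard_sdiff hsub, ← Nat.card_coe_set_eq]
  refine Nat.card_congr (Equiv.subtypeEquivRight fun x => ?_)
  exact and_congr mem_orth_span.symm Iff.rfl

theorem card_frames [Fintype F] (m : ℕ) : ∀ k, Nat.card (frames F m k) =
    ∏ i ∈ Finset.range k, (Nat.card F ^ (2 * m - i) - Nat.card F ^ i) := by
  intro k
  induction k with
  | zero =>
    have : Unique (frames F m 0) :=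
      ⟨⟨⟨Fin.elim0, linearIndependent_empty_type, fun i => i.elim0⟩⟩,
        fun a => Subtype.ext (funext fun i => i.elim0)⟩
    simp
  | succ k ih =>
    let e : frames F m (k + 1) ≃ (φ : frames F m k) ×
        {x : Fin m ⊕ Fin m → F // (∀ i, sympForm m F (φ.1 i) x = 0) ∧ x ∉ Submodule.span F (Set.range φ.1)} :=
      { toFun := fun ψ => ⟨⟨Fin.tail ψ.1, by
            have := ψ.2.1
            rw [← Fin.cons_self_tail ψ.1] at this
            exact (linearIndependent_finCons.1 this).1, fun i j => ψ.2.2 _ _⟩, ψ.1 0,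
          fun i => ψ.2.2 _ _, by
            have := ψ.2.1
            rw [← Fin.cons_self_tail ψ.1] at this
            exact (linearIndependent_finCons.1 this).2⟩
        invFun := fun s => ⟨Fin.cons s.2.1 s.1.1, linearIndependent_finCons.2 ⟨s.1.2.1, s.2.2.2⟩,
          fun i j => by
            refine Fin.cases ?_ (fun a => ?_) i <;> refine Fin.cases ?_ (fun b => ?_) j
            · exact form_self _
            · rw [form_eq_zero_comm]; simpa using s.2.2.1 b
            · simpa using s.2.2.1 a
            · simpa using s.1.2.2 a b⟩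
        left_inv := fun ψ => Subtype.ext (Fin.cons_self_tail ψ.1)
        right_inv := fun s => Sigma.subtype_ext (Subtype.ext (by simp)) rfl }
    haveI : Fintype (frames F m k) := Fintype.ofFinite _
    rw [Nat.card_congr e, Nat.card_sigma, Finset.sum_congr rfl fun φ _ => card_extensions φ.2,
      Finset.sum_const, smul_eq_mul, Finset.card_univ, ← Nat.card_eq_fintype_card, ih,
      Finset.prod_range_succ]

/-- The symplectic group moves any frame to any other. -/
theorem exists_map_frame {φ ψ : Fin k → V} (hφ : φ ∈ frames F m k) (hψ : ψ ∈ frames F m k) :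
    ∃ g : symplecticGroup (Fin m) F, ∀ i, g • φ i = ψ i := by
  let b := Module.Basis.span hφ.1
  have hb : ∀ i, (b i : V) = φ i := fun i => congrArg Subtype.val (Module.Basis.span_apply hφ.1 i)
  let f := b.constr F ψ
  have hinj : Function.Injective f := by
    rw [injective_iff_map_eq_zero]
    intro x hx
    rw [Module.Basis.constr_apply_fintype] at hx
    exact b.equivFun.map_eq_zero_iff.1 (funext (Fintype.linearIndependent_iff.1 hψ.1 _ hx))
  obtain ⟨g, hg, hgf⟩ := Witt.alt_extend (bil (F := F) (m := m)) bil_nondeg bil_isAlt _ f hinj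
    (fun a c => by
      have h1 : sympForm m F (a : V) (c : V) = 0 := span_isotropic hφ a a.2 c c.2
      have hmem : ∀ y, f y ∈ Submodule.span F (Set.range ψ) := fun y => by
        rw [← b.constr_range (S := F)]; exact LinearMap.mem_range_self _ y
      rw [bil_apply, bil_apply, h1, span_isotropic hψ _ (hmem a) _ (hmem c)])
  let A := LinearMap.toMatrix' g.toLinearMap
  have hA : ∀ x, A *ᵥ x = g x := fun x => by rw [← Matrix.toLin'_apply]; simp [A]
  refine ⟨⟨A, mem_sp_iff_form.2 fun u v => by rw [hA, hA]; exact hg u v⟩, fun i => ?_⟩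
  rw [smul_def, hA, ← hb i, hgf, Module.Basis.constr_basis]

/-- Orbit counting: `|Stab W| * #frames = |Sp| * #bases of W`. -/
theorem stabilizer_mul [Fintype F] (W : Submodule F V) (hWk : Module.finrank F W = k)
    (hW : ∀ u ∈ W, ∀ v ∈ W, sympForm m F u v = 0) :
    Nat.card ↥(Cfsg.stabilizing (Cfsg.spToMat m F) (W : Set V)) * Nat.card (frames F m k) =
      Nat.card (symplecticGroup (Fin m) F) *
        ∏ i : Fin k, (Fintype.card F ^ k - Fintype.card F ^ (i : ℕ)) := by
  classical
  let H := Cfsg.stabilizing (Cfsg.spToMat m F) (W : Set V)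
  have hH : ∀ g, g ∈ H ↔ ∀ v, v ∈ W ↔ g • v ∈ W := fun g => Iff.rfl
  let S : Set (Fin k → V) := {φ | LinearIndependent F φ ∧ ∀ i, φ i ∈ W}
  have hSf : S ⊆ frames F m k := fun φ h => ⟨h.1, fun i j => hW _ (h.2 i) _ (h.2 j)⟩
  have hspan : ∀ φ ∈ S, Submodule.span F (Set.range φ) = W := fun φ h =>
    Submodule.eq_of_le_of_finrank_eq (Submodule.span_le.2 (by rintro _ ⟨i, rfl⟩; exact h.2 i))
      (by rw [finrank_span_eq_card h.1, Fintype.card_fin, hWk])
  obtain ⟨φ₀, hφ₀⟩ : S.Nonempty := by
    let b := Module.finBasisOfFinrankEq F W hWk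
    exact ⟨fun i => (b i : V), b.linearIndependent.map' W.subtype W.ker_subtype, fun i => (b i).2⟩
  have hli : ∀ (g : symplecticGroup (Fin m) F) (φ : Fin k → V), LinearIndependent F φ →
      LinearIndependent F (g • φ) := fun g φ h => by
    have hinj : LinearMap.ker (Matrix.toLin' g.1) = ⊥ := by
      rw [LinearMap.ker_eq_bot]
      intro x y hxy
      exact MulAction.injective g hxy
    have e : g • φ = ⇑(Matrix.toLin' g.1) ∘ φ := funext fun i => by simp [smul_def]
    rw [e]
    exact h.map' _ hinj
  have horb : MulAction.orbit (symplecticGroup (Fin m) F) φ₀ = frames F m k := by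
    ext ψ
    constructor
    · rintro ⟨g, rfl⟩
      exact ⟨hli g φ₀ hφ₀.1, fun i j => by
        simp only [Pi.smul_apply, form_map]; exact (hSf hφ₀).2 i j⟩
    · intro hψ
      obtain ⟨g, hg⟩ := exists_map_frame (hSf hφ₀) hψ
      exact ⟨g, funext hg⟩
  have horbH : MulAction.orbit H φ₀ = S := by
    ext ψ
    constructor
    · rintro ⟨g, rfl⟩
      exact ⟨hli g.1 φ₀ hφ₀.1, fun i => ((hH g.1).1 g.2 _).1 (hφ₀.2 i)⟩
    · intro hψ
      obtain ⟨g, hg⟩ := exists_map_frame (hSf hφ₀) (hSf hψ)
      have hgW : W.map (Matrix.toLin' g.1) = W := by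
        conv_rhs => rw [← hspan ψ hψ]
        rw [← hspan φ₀ hφ₀, Submodule.map_span, ← Set.range_comp]
        congr 1
        exact congrArg Set.range (funext hg)
      refine ⟨⟨g, (hH g).2 fun v => ⟨fun hv => hgW ▸ Submodule.mem_map_of_mem hv, fun hv => ?_⟩⟩, funext hg⟩
      rw [← hgW] at hv
      obtain ⟨w, hw, hwv⟩ := Submodule.mem_map.1 hv
      have : w = v := MulAction.injective g hwv
      exact this ▸ hw
  have hstab : Nat.card (MulAction.stabilizer H φ₀) =
      Nat.card (MulAction.stabilizer (symplecticGroup (Fin m) F) φ₀) := by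
    refine Nat.card_congr
      { toFun := fun g => ⟨g.1.1, g.2⟩
        invFun := fun g => ⟨⟨g.1, (hH g.1).2 fun v => ?_⟩, g.2⟩
        left_inv := fun g => rfl
        right_inv := fun g => rfl }
    have hfix : ∀ w ∈ W, g.1 • w = w := fun w hw => by
      rw [← hspan φ₀ hφ₀] at hw
      induction hw using Submodule.span_induction with
      | mem y hy => obtain ⟨j, rfl⟩ := hy; exact congrFun g.2 j
      | zero => simp [smul_def]
      | add a b _ _ ha hb => rw [smul_def, Matrix.mulVec_add, ← smul_def, ← smul_def, ha, hb]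
      | smul c a _ ha => rw [smul_def, Matrix.mulVec_smul, ← smul_def, ha]
    exact ⟨fun hv => by rw [hfix v hv]; exact hv, fun hv => MulAction.injective g.1 (hfix _ hv) ▸ hv⟩
  have h1 := Nat.card_congr (MulAction.orbitProdStabilizerEquivGroup (symplecticGroup (Fin m) F) φ₀)
  have h2 := Nat.card_congr (MulAction.orbitProdStabilizerEquivGroup H φ₀)
  rw [Nat.card_prod, horb] at h1
  rw [Nat.card_prod, horbH, hstab] at h2
  have hcS : Nat.card S = ∏ i : Fin k, (Fintype.card F ^ k - Fintype.card F ^ (i : ℕ)) := by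
    have : Nat.card { s : Fin k → W // LinearIndependent F s } = _ := card_linearIndependent hWk.ge
    rw [hWk] at this
    rw [← this]
    exact Nat.card_congr
      { toFun := fun φ => ⟨fun i => ⟨φ.1 i, φ.2.2 i⟩, LinearIndependent.of_comp W.subtype φ.2.1⟩
        invFun := fun s => ⟨fun i => (s.1 i : V), s.2.map' W.subtype W.ker_subtype, fun i => (s.1 i).2⟩
        left_inv := fun φ => rfl
        right_inv := fun s => rfl }
  rw [← hcS, ← h1, ← h2]
  ring

/-- The number of totally isotropic `k`-subspaces times the number of bases of one. -/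
theorem card_subspaces_mul [Fintype F] (m k : ℕ) :
    Nat.card {W : Submodule F (Fin m ⊕ Fin m → F) //
        Module.finrank F W = k ∧ ∀ u ∈ W, ∀ v ∈ W, sympForm m F u v = 0} *
      ∏ i : Fin k, (Fintype.card F ^ k - Fintype.card F ^ (i : ℕ)) = Nat.card (frames F m k) := by
  classical
  let T := {W : Submodule F (Fin m ⊕ Fin m → F) //
    Module.finrank F W = k ∧ ∀ u ∈ W, ∀ v ∈ W, sympForm m F u v = 0}
  let sp : frames F m k → T := fun φ => ⟨Submodule.span F (Set.range φ.1),
    by rw [finrank_span_eq_card φ.2.1, Fintype.card_fin], span_isotropic φ.2⟩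
  haveI : Fintype T := Fintype.ofFinite _
  have hfib : ∀ W : T, Nat.card {φ // sp φ = W} =
      ∏ i : Fin k, (Fintype.card F ^ k - Fintype.card F ^ (i : ℕ)) := by
    intro W
    refine (Nat.card_congr (?_ : _ ≃ {s : Fin k → W.1 // LinearIndependent F s})).trans
      (by rw [card_linearIndependent W.2.1.ge, W.2.1])
    have hmem : ∀ φ : {φ // sp φ = W}, ∀ i, φ.1.1 i ∈ W.1 := fun φ i => by
      rw [← congrArg Subtype.val φ.2]; exact Submodule.subset_span ⟨i, rfl⟩
    refine
      { toFun := fun φ => ⟨fun i => ⟨φ.1.1 i, hmem φ i⟩, LinearIndependent.of_comp W.1.subtype φ.1.2.1⟩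
        invFun := fun s => ⟨⟨fun i => (s.1 i : Fin m ⊕ Fin m → F), s.2.map' W.1.subtype W.1.ker_subtype,
          fun i j => W.2.2 _ (s.1 i).2 _ (s.1 j).2⟩, Subtype.ext (Submodule.eq_of_le_of_finrank_eq
            (Submodule.span_le.2 (by rintro _ ⟨i, rfl⟩; exact (s.1 i).2)) ?_)⟩
        left_inv := fun φ => rfl
        right_inv := fun s => rfl }
    have hs : LinearIndependent F fun i => (s.1 i : Fin m ⊕ Fin m → F) :=
      s.2.map' W.1.subtype W.1.ker_subtype
    exact (finrank_span_eq_card hs).trans (by rw [Fintype.card_fin, W.2.1])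
  rw [← Nat.card_congr (Equiv.sigmaFiberEquiv sp), Nat.card_sigma,
    Finset.sum_congr rfl fun W _ => hfib W, Finset.sum_const, smul_eq_mul, Finset.card_univ]
  exact congrArg (· * _) Nat.card_eq_fintype_card

end Cfsg.Agent.SymplecticIsotropic
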