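import Mathlib
import Cfsg.Agent.Lib.MinIndexSpShare
import Cfsg.Agent.Lib.SymplecticIsotropic

/-!
A proper subgroup of small index of `Sp_2m(q)`, `q ≥ 3`, contains no full transvection group: the
vectors of its full transvection groups are closed under spans of non-perpendicular families, so `H`
would stabilise a totally isotropic subspace or a non-degenerate one up to perpendicular images.
-/

set_option autoImplicit false

open Matrix Cfsg Cfsg.Agent.SymplecticBasic Cfsg.Agent.SymplecticSimple Cfsg.Agent.MinIndexSpHeis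
  Cfsg.Agent.MinIndexSpCount Cfsg.Agent.MinIndexSpShare
open Cfsg.Agent.SymplecticIsotropic (bil bil_nondeg bil_isAlt finrank_space)

namespace Cfsg.Agent.MinIndexSpClosure

variable {F : Type*} [Field F] {m : ℕ} {H : Subgroup (symplecticGroup (Fin m) F)}

/-- All transvections with centre `v` are in `H`. -/
def Full (H : Subgroup (symplecticGroup (Fin m) F)) (v : Fin m ⊕ Fin m → F) : Prop :=
  ∀ t : F, transv v t ∈ H

/-- All non-zero vectors of `W` are full. -/
def SubFull (H : Subgroup (symplecticGroup (Fin m) F))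
    (W : Submodule F (Fin m ⊕ Fin m → F)) : Prop :=
  ∀ x ∈ W, x ≠ 0 → Full H x

theorem full_iff_index {v : Fin m ⊕ Fin m → F} : Full H v ↔ tC H v = ⊤ :=
  ⟨fun h => eq_top_iff.2 fun t _ => h t, fun h t => mem_tC H |>.1 (h ▸ AddSubgroup.mem_top t)⟩

theorem full_smul {v : Fin m ⊕ Fin m → F} (h : Full H v) (s : F) : Full H (s • v) := fun t => by
  rw [transv_scale]; exact h _

theorem full_map {g : symplecticGroup (Fin m) F} (hg : g ∈ H) {v : Fin m ⊕ Fin m → F}
    (h : Full H v) : Full H (g • v) := fun t => by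
  rw [← transv_conj]; exact mul_mem (mul_mem hg (h t)) (inv_mem hg)

theorem full_line {a b : Fin m ⊕ Fin m → F} (ha : Full H a) (hb : Full H b)
    (hab : sympForm m F b a ≠ 0) (s r : F) : Full H (s • a + r • b) := by
  by_cases hr : r = 0
  · rw [hr, zero_smul, add_zero]; exact full_smul ha s
  have := full_smul (full_map (ha (r⁻¹ * s / sympForm m F b a)) hb) r
  rw [transv_smul, div_mul_cancel₀ _ hab] at this
  convert this using 1
  rw [smul_add, smul_smul, ← mul_assoc, mul_inv_cancel₀ hr, one_mul, add_comm]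

theorem form_neg_self (x : Fin m ⊕ Fin m → F) : sympForm m F x (-x) = 0 := by
  rw [form_neg_right, form_self, neg_zero]

/-- The radical vector of a full plane and a full vector is full. -/
theorem full_radical {c r : Fin m ⊕ Fin m → F} (hc : sympForm m F c r = 0) {s : F} (hs0 : s ≠ 0)
    (hs1 : s ≠ 1) (h : ∀ σ : F, Full H (c + σ • r)) : Full H r := by
  have key : ∀ x σ : F, σ ≠ 0 → heis r (x • c) (x * σ) ∈ H := by
    intro x σ hσ
    have h0 : transv c (-(x / σ)) ∈ H := by simpa using h 0 (-(x / σ))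
    have hm := mul_mem (h σ (x / σ)) h0
    convert hm using 1
    refine ext_smul fun y => ?_
    rw [mul_smul, transv_smul, transv_smul, heis_smul (by rw [form_smul_left, hc, mul_zero])]
    simp only [form_add_left, form_smul_left, form_add_right, form_smul_right, form_self, hc]
    match_scalars <;> field_simp <;> ring
  intro t
  have hd : (1 : F) - s ≠ 0 := sub_ne_zero.2 hs1.symm
  have h1 := mul_mem (key (t / (1 - s)) 1 one_ne_zero) (inv_mem (key (t / (1 - s)) s hs0))
  have hp : sympForm m F ((t / (1 - s)) • c) r = 0 := by rw [form_smul_left, hc, mul_zero]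
  rw [heis_inv hp, heis_mul hp (by rw [form_neg_left, hp, neg_zero]), add_neg_cancel, heis_zero,
    form_neg_left, form_self, neg_zero, add_zero, mul_one] at h1
  convert h1 using 2
  field_simp
  ring

theorem extend [Finite F] (hq : 3 ≤ Nat.card F) {W : Submodule F (Fin m ⊕ Fin m → F)}
    (hW : SubFull H W) {z z' : Fin m ⊕ Fin m → F} (hz : z ∈ W) (hz' : z' ∈ W)
    (hzz : sympForm m F z z' ≠ 0) {b : Fin m ⊕ Fin m → F} (hb : Full H b)
    {y₁ : Fin m ⊕ Fin m → F} (hy₁ : y₁ ∈ W) (h₁ : sympForm m F y₁ b ≠ 0) :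
    SubFull H (W ⊔ Submodule.span F {b}) := by
  classical
  have := Fintype.ofFinite F
  obtain ⟨s, hs0, hs1⟩ : ∃ s : F, s ≠ 0 ∧ s ≠ 1 := by
    by_contra hall
    push Not at hall
    have hle : Nat.card F ≤ 2 := by
      refine (Nat.card_le_card_of_surjective (fun i : Bool => if i then (1 : F) else 0) fun x => ?_).trans
        (by simp)
      by_cases hx : x = 0
      · exact ⟨false, by simp [hx]⟩
      · exact ⟨true, by simp [hall x hx]⟩
    omega
  have hlin : ∀ y ∈ W, sympForm m F y b ≠ 0 → ∀ τ : F, Full H (y + τ • b) := by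
    intro y hy hyb τ
    have hy0 : y ≠ 0 := fun e => hyb (by rw [e]; simp)
    have := full_line (hW y hy hy0) hb (fun e => hyb (form_eq_zero_comm.1 e)) 1 τ
    rwa [one_smul] at this
  -- vectors of `W` outside its radical
  have hnr : ∀ y ∈ W, (∃ x ∈ W, sympForm m F y x ≠ 0) → ∀ τ : F, y + τ • b ≠ 0 →
      Full H (y + τ • b) := by
    intro y hy ⟨x, hx, hyx⟩ τ hne
    by_cases hyb : sympForm m F y b = 0
    swap
    · exact hlin y hy hyb τ
    by_cases hτ : τ = 0
    · subst hτ; rw [zero_smul, add_zero] at hne ⊢; exact hW y hy hne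
    obtain ⟨y', hy', e1, e2⟩ : ∃ y' ∈ W, sympForm m F y y' = 1 ∧ sympForm m F y' b ≠ 0 := by
      by_cases hxb : sympForm m F x b = 0
      · by_cases hyy : sympForm m F y y₁ = 0
        · refine ⟨(sympForm m F y x)⁻¹ • (x + y₁), W.smul_mem _ (add_mem hx hy₁), ?_, ?_⟩
          · rw [form_smul_right, form_add_right, hyy, add_zero, inv_mul_cancel₀ hyx]
          · rw [form_smul_left, form_add_left, hxb, zero_add]
            exact mul_ne_zero (inv_ne_zero hyx) h₁
        · refine ⟨(sympForm m F y y₁)⁻¹ • y₁, W.smul_mem _ hy₁, ?_, ?_⟩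
          · rw [form_smul_right, inv_mul_cancel₀ hyy]
          · rw [form_smul_left]; exact mul_ne_zero (inv_ne_zero hyy) h₁
      · refine ⟨(sympForm m F y x)⁻¹ • x, W.smul_mem _ hx, ?_, ?_⟩
        · rw [form_smul_right, inv_mul_cancel₀ hyx]
        · rw [form_smul_left]; exact mul_ne_zero (inv_ne_zero hyx) hxb
    set β := sympForm m F y' b with hβ
    -- full vectors with non-zero `y'` coefficient
    have hfull : ∀ ρ σ : F, Full H (ρ • y + y' + σ • (b + β • y)) := by
      intro ρ σ
      have h2 : sympForm m F ((ρ + σ * β) • y + y') b ≠ 0 := by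
        rw [form_add_left, form_smul_left, hyb, mul_zero, zero_add]; exact e2
      convert hlin _ (add_mem (W.smul_mem _ hy) hy') h2 σ using 1
      module
    by_cases hρ : 1 - τ * β = 0
    · have hrad : Full H (b + β • y) := by
        refine full_radical (c := y') ?_ hs0 hs1 fun σ => by simpa using hfull 0 σ
        rw [form_add_right, form_smul_right, form_swap y y', e1, ← hβ]; ring
      convert full_smul hrad τ using 1
      rw [smul_add, smul_smul, show τ * β = 1 by linear_combination -hρ, one_smul, add_comm]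
    · have hx1 : Full H (y + y' + τ • b) := by
        convert hfull (1 - τ * β) τ using 1
        module
      have hy'0 : y' ≠ 0 := fun e => e2 (by rw [hβ, e]; simp)
      have := full_line hx1 (full_smul (hW y' hy' hy'0) (-1)) ?_ 1 1
      · convert this using 1
        module
      · simp only [form_smul_left, form_add_right, form_smul_right, form_self, form_swap y y', e1,
          ← hβ]
        intro e
        exact hρ (by linear_combination e)
  intro v hv hv0
  obtain ⟨y, hy, c, hc, rfl⟩ := Submodule.mem_sup.1 hv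
  obtain ⟨τ, rfl⟩ := Submodule.mem_span_singleton.1 hc
  by_cases hr : ∃ x ∈ W, sympForm m F y x ≠ 0
  · exact hnr y hy hr τ hv0
  push Not at hr
  by_cases hτ : τ = 0
  · subst hτ; rw [zero_smul, add_zero] at hv0 ⊢; exact hW y hy hv0
  by_cases hyb : sympForm m F y b = 0
  swap
  · exact hlin y hy hyb τ
  obtain ⟨y', hy', hy'b, x', hx', hy'x⟩ :
      ∃ y' ∈ W, sympForm m F y' b ≠ 0 ∧ ∃ x' ∈ W, sympForm m F y' x' ≠ 0 := by
    by_cases hzb : sympForm m F z b = 0
    · by_cases hy1z : sympForm m F y₁ z' = 0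
      · exact ⟨y₁ + z, add_mem hy₁ hz, by rw [form_add_left, hzb, add_zero]; exact h₁, z', hz',
          by rw [form_add_left, hy1z, zero_add]; exact hzz⟩
      · exact ⟨y₁, hy₁, h₁, z', hz', hy1z⟩
    · exact ⟨z, hz, hzb, z', hz', hzz⟩
  have hy'0 : y' ≠ 0 := fun e => hy'b (by rw [e]; simp)
  have hsum0 : y + y' ≠ 0 := fun e => hy'x (by
    have := congrArg (fun v => sympForm m F v x') e
    simpa [form_add_left, hr x' hx'] using this)
  have f1 : Full H (y + y') := hW _ (add_mem hy hy') hsum0
  have f2 : Full H (-y' + τ • b) :=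
    hlin _ (neg_mem hy') (by rw [form_neg_left, neg_ne_zero]; exact hy'b) τ
  have := full_line f1 f2 ?_ 1 1
  · convert this using 1
    module
  · simp only [form_add_left, form_add_right, form_neg_left, form_smul_left, form_self,
      form_swap y b, hyb, form_swap y' b]
    rw [form_swap y y', hr y' hy']
    intro e
    exact mul_ne_zero hτ hy'b (by linear_combination -e)

/-- Orthogonal complements. -/
def orth (W : Submodule F (Fin m ⊕ Fin m → F)) : Submodule F (Fin m ⊕ Fin m → F) :=
  (bil (F := F) (m := m)).orthogonal W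

theorem mem_orth {W : Submodule F (Fin m ⊕ Fin m → F)} {x : Fin m ⊕ Fin m → F} :
    x ∈ orth W ↔ ∀ y ∈ W, sympForm m F y x = 0 := Iff.rfl

theorem finrank_orth_add (W : Submodule F (Fin m ⊕ Fin m → F)) :
    Module.finrank F (orth W) + Module.finrank F W = 2 * m := by
  rw [orth, LinearMap.BilinForm.finrank_orthogonal bil_nondeg, finrank_space]
  have := Submodule.finrank_le W
  rw [finrank_space] at this
  omega

theorem orth_orth (W : Submodule F (Fin m ⊕ Fin m → F)) : orth (orth W) = W :=
  LinearMap.BilinForm.orthogonal_orthogonal bil_nondeg bil_isAlt.isRefl W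

/-- The image of a subspace. -/
def img (g : symplecticGroup (Fin m) F) (W : Submodule F (Fin m ⊕ Fin m → F)) :
    Submodule F (Fin m ⊕ Fin m → F) := W.map (Matrix.toLin' g.1)

theorem mem_img {g : symplecticGroup (Fin m) F} {W : Submodule F (Fin m ⊕ Fin m → F)}
    {x : Fin m ⊕ Fin m → F} : x ∈ img g W ↔ g⁻¹ • x ∈ W := by
  rw [img, Submodule.mem_map]
  constructor
  · rintro ⟨y, hy, rfl⟩
    rw [Matrix.toLin'_apply, ← smul_def, inv_smul_smul]; exact hy
  · intro h
    exact ⟨g⁻¹ • x, h, by rw [Matrix.toLin'_apply, ← smul_def, smul_inv_smul]⟩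

theorem finrank_img (g : symplecticGroup (Fin m) F) (W : Submodule F (Fin m ⊕ Fin m → F)) :
    Module.finrank F (img g W) = Module.finrank F W :=
  (Submodule.equivMapOfInjective _ (fun x y h => MulAction.injective g
    (by simpa [smul_def] using h)) W).finrank_eq.symm

theorem img_orth (g : symplecticGroup (Fin m) F) (W : Submodule F (Fin m ⊕ Fin m → F)) :
    img g (orth W) = orth (img g W) := by
  ext x
  rw [mem_img, mem_orth, mem_orth]
  constructor
  · intro h y hy
    rw [← form_map g⁻¹ y x]; exact h _ (mem_img.1 hy)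
  · intro h y hy
    rw [← form_map g y (g⁻¹ • x), smul_inv_smul]; exact h _ (mem_img.2 (by rwa [inv_smul_smul]))

variable [Finite F]

/-- No small `H` stabilises a non-zero totally isotropic subspace. -/
theorem not_isotropic (hH : SmallIdx H) {X : Submodule F (Fin m ⊕ Fin m → F)} (h0 : X ≠ ⊥)
    (hiso : ∀ x ∈ X, ∀ y ∈ X, sympForm m F x y = 0)
    (hinv : ∀ g ∈ H, ∀ x ∈ X, g • x ∈ X) : False := by
  classical
  have := Fintype.ofFinite F
  have hq : 2 ≤ Nat.card F := Finite.one_lt_card
  set r := Module.finrank F X with hr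
  have hr1 : 1 ≤ r := Submodule.one_le_finrank_iff.2 h0
  have hrm : r ≤ m := by
    have h1 : X ≤ orth X := fun x hx => mem_orth.2 fun y hy => hiso y hy x hx
    have h2 := Submodule.finrank_mono h1
    have h3 := finrank_orth_add X
    omega
  let St := Cfsg.stabilizing (Cfsg.spToMat m F) (X : Set (Fin m ⊕ Fin m → F))
  have hle : H ≤ St := fun g hg v =>
    ⟨fun hv => hinv g hg v hv, fun hv => by
      have := hinv g⁻¹ (inv_mem hg) _ hv
      rwa [show (spToMat m F) g *ᵥ v = g • v from rfl, inv_smul_smul] at this⟩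
  have h1 := SymplecticIsotropic.stabilizer_mul X hr.symm hiso
  rw [← Nat.card_eq_fintype_card, SymplecticIsotropic.card_frames, ← Subgroup.index_mul_card St,
    mul_comm St.index, mul_assoc] at h1
  have h2 := Nat.eq_of_mul_eq_mul_left Nat.card_pos h1
  have h3 : St.index ≤ H.index :=
    Nat.le_of_dvd (Nat.pos_of_ne_zero Subgroup.index_ne_zero_of_finite)
      (Subgroup.index_dvd_of_le hle)
  unfold SmallIdx at hH
  set q := Nat.card F
  have hA : ∏ i ∈ Finset.range r, (q ^ (2 * m - i) - q ^ i) =
      (∏ i ∈ Finset.range r, q ^ i) * ∏ i ∈ Finset.range r, (q ^ (2 * m - 2 * i) - 1) := by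
    rw [← Finset.prod_mul_distrib]
    refine Finset.prod_congr rfl fun i hi => ?_
    rw [Finset.mem_range] at hi
    rw [Nat.mul_sub, mul_one, ← pow_add]
    congr 2; omega
  have hB : ∏ i : Fin r, (q ^ r - q ^ (i : ℕ)) =
      (∏ i ∈ Finset.range r, q ^ i) * ∏ i ∈ Finset.range r, (q ^ (r - i) - 1) := by
    rw [Fin.prod_univ_eq_prod_range (fun i => q ^ r - q ^ i), ← Finset.prod_mul_distrib]
    refine Finset.prod_congr rfl fun i hi => ?_
    rw [Finset.mem_range] at hi
    rw [Nat.mul_sub, mul_one, ← pow_add]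
    congr 2; omega
  rw [hA, hB, mul_left_comm] at h2
  have hpow : 0 < ∏ i ∈ Finset.range r, q ^ i :=
    Finset.prod_pos fun i _ => pow_pos (by omega) i
  have h4 := Nat.eq_of_mul_eq_mul_left hpow h2
  obtain ⟨t, ht⟩ : ∃ t, r = t + 1 := ⟨r - 1, by omega⟩
  rw [ht, Finset.prod_range_succ' (fun i => q ^ (2 * m - 2 * i) - 1),
    Finset.prod_range_succ (fun i => q ^ (t + 1 - i) - 1), Nat.mul_zero, Nat.sub_zero,
    show t + 1 - t = 1 by omega, pow_one] at h4
  have hterm : ∏ i ∈ Finset.range t, (q ^ (t + 1 - i) - 1) ≤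
      ∏ i ∈ Finset.range t, (q ^ (2 * m - 2 * (i + 1)) - 1) := by
    refine Finset.prod_le_prod' fun i hi => ?_
    rw [Finset.mem_range] at hi
    exact Nat.sub_le_sub_right (Nat.pow_le_pow_right (by omega) (by omega)) 1
  have hpos : 0 < ∏ i ∈ Finset.range t, (q ^ (t + 1 - i) - 1) :=
    Finset.prod_pos fun i hi => by
      rw [Finset.mem_range] at hi
      have : 1 < q ^ (t + 1 - i) := Nat.one_lt_pow (by omega) (by omega)
      omega
  have h5 : (∏ i ∈ Finset.range t, (q ^ (t + 1 - i) - 1)) * (q ^ (2 * m) - 1) ≤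
      (∏ i ∈ Finset.range t, (q ^ (t + 1 - i) - 1)) * (St.index * (q - 1)) := by
    refine (Nat.mul_le_mul_right _ hterm).trans (le_of_eq ?_)
    linarith [h4]
  have h6 := Nat.le_of_mul_le_mul_left h5 hpos
  have h7 := Nat.mul_le_mul_right (q - 1) h3
  omega

/-- No small `H` permutes a non-degenerate subspace with perpendicular images. -/
theorem not_nondeg (hq : 3 ≤ Nat.card F) (hH : SmallIdx H)
    {W : Submodule F (Fin m ⊕ Fin m → F)} (h0 : W ≠ ⊥) (hnd : W ⊓ orth W = ⊥)
    (hcard : Module.finrank F W ≤ Module.finrank F (orth W))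
    (himg : ∀ g ∈ H, img g W = W ∨ img g W ≤ orth W) : False := by
  classical
  have := Fintype.ofFinite F
  obtain ⟨w, hwW, hw0⟩ := Submodule.exists_mem_ne_zero_of_ne_bot h0
  obtain ⟨y, hyW, hyw⟩ : ∃ y ∈ W, sympForm m F y w = 1 := by
    by_contra hall
    push Not at hall
    refine hw0 ((Submodule.mem_bot F).1 (hnd ▸ Submodule.mem_inf.2 ⟨hwW, fun y hy => ?_⟩))
    show sympForm m F y w = 0
    by_contra hne
    exact hall _ (W.smul_mem (sympForm m F y w)⁻¹ hy)
      (by rw [form_smul_left, inv_mul_cancel₀ hne])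
  have hperp : ∀ a ∈ orth W, sympForm m F a w = 0 := fun a ha => form_eq_zero_comm.1 (ha w hwW)
  -- distinct cosets
  have hridx : Nat.card (orth W) ≤ ridx H w := by
    refine Nat.card_le_card_of_injective
      (fun a : orth W => ((⟨heis w a 0, by
        rw [MulAction.mem_stabilizer_iff]; exact heis_fix (hperp a a.2) 0⟩ :
        MulAction.stabilizer (symplecticGroup (Fin m) F) w) :
        _ ⧸ H.subgroupOf (MulAction.stabilizer (symplecticGroup (Fin m) F) w))) fun a b e => ?_
    simp only [QuotientGroup.eq, Subgroup.mem_subgroupOf, Subgroup.coe_mul, Subgroup.coe_inv] at e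
    have h1 : (heis w (a : Fin m ⊕ Fin m → F) 0)⁻¹ * heis w (b : Fin m ⊕ Fin m → F) 0 ∈ H := e
    have hn : sympForm m F (-(a : Fin m ⊕ Fin m → F)) w = 0 := by
      rw [form_neg_left, hperp a a.2, neg_zero]
    rw [heis_inv (hperp a a.2), heis_mul hn (hperp b b.2)] at h1
    set d := -(a : Fin m ⊕ Fin m → F) + b with hd
    have hdO : d ∈ orth W := add_mem (neg_mem a.2) b.2
    rcases himg _ h1 with h2 | h2
    · have hmem : ∀ c, heis w d c ∈ H → heis w d c • y ∈ img (heis w d c) W := fun c _ =>
        mem_img.2 (by rwa [inv_smul_smul])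
      have h3 := hmem _ h1
      rw [h2, heis_smul (hperp d hdO), hyw, one_smul] at h3
      have hdW : d ∈ W := by
        have := sub_mem (sub_mem h3 hyW) (W.smul_mem
          (sympForm m F y d + (-0 + 0 + sympForm m F (↑b) (-↑a)) * 1) hwW)
        simpa [add_assoc] using this
      have : d = 0 := (Submodule.mem_bot F).1 (hnd ▸ Submodule.mem_inf.2 ⟨hdW, hdO⟩)
      exact Subtype.ext (neg_add_eq_zero.1 this)
    · exfalso
      have hw' : w ∈ orth W := by
        refine h2 (mem_img.2 ?_)
        rw [inv_smul_eq_iff.2 (heis_fix (hperp d hdO) _).symm]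
        exact hwW
      exact hw0 ((Submodule.mem_bot F).1 (hnd ▸ Submodule.mem_inf.2 ⟨hwW, hw'⟩))
  -- the orbit of `w`
  have horb : Nat.card (MulAction.orbit H w) ≤ (Nat.card W - 1) + (Nat.card (orth W) - 1) := by
    have hsub : MulAction.orbit H w ⊆ ((W : Set (Fin m ⊕ Fin m → F)) \ {0}) ∪
        ((orth W : Set (Fin m ⊕ Fin m → F)) \ {0}) := by
      rintro _ ⟨g, rfl⟩
      have hne : g.1 • w ≠ 0 := smul_ne_zero' g.1 hw0
      have hmem : g.1 • w ∈ img g.1 W := mem_img.2 (by rwa [inv_smul_smul])
      rcases himg g.1 g.2 with h | h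
      · exact Or.inl ⟨h ▸ hmem, hne⟩
      · exact Or.inr ⟨h hmem, hne⟩
    rw [Nat.card_coe_set_eq]
    refine (Set.ncard_le_ncard hsub (Set.toFinite _)).trans ((Set.ncard_union_le _ _).trans ?_)
    rw [Set.ncard_sdiff_singleton_of_mem (zero_mem W), Set.ncard_sdiff_singleton_of_mem (zero_mem _),
      ← Nat.card_coe_set_eq, ← Nat.card_coe_set_eq]
    exact le_rfl
  have hWo : Nat.card W ≤ Nat.card (orth W) := by
    rw [Module.natCard_eq_pow_finrank (K := F) (V := W),
      Module.natCard_eq_pow_finrank (K := F) (V := orth W)]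
    exact Nat.pow_le_pow_right (by omega) hcard
  have h1 := index_mul_orbit H hw0
  have hbound : Nat.card (MulAction.orbit H w) ≤ ridx H w * (Nat.card F - 1) := by
    have : ridx H w * 2 ≤ ridx H w * (Nat.card F - 1) := Nat.mul_le_mul_left _ (by omega)
    omega
  have h2 := Nat.mul_le_mul_left H.index hbound
  rw [h1] at h2
  have h3 : ridx H w * (Nat.card F ^ (2 * m) - 1) ≤ ridx H w * (H.index * (Nat.card F - 1)) := by
    calc _ ≤ _ := h2
      _ = _ := by ring
  have hpos : 0 < ridx H w := Nat.pos_of_ne_zero Subgroup.index_ne_zero_of_finite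
  have := Nat.le_of_mul_le_mul_left h3 hpos
  unfold SmallIdx at hH
  omega

/-- A maximal full subspace absorbs every full vector it is not perpendicular to. -/
theorem max_mem (hq : 3 ≤ Nat.card F) {W : Submodule F (Fin m ⊕ Fin m → F)}
    (hW : Maximal (fun U => SubFull H U ∧ ∃ a ∈ U, ∃ b ∈ U, sympForm m F a b ≠ 0) W)
    {x y : Fin m ⊕ Fin m → F} (hx : Full H x) (hy : y ∈ W) (hyx : sympForm m F y x ≠ 0) :
    x ∈ W := by
  obtain ⟨hf, a, ha, b, hb, hab⟩ := hW.prop
  exact hW.le_of_ge (y := W ⊔ Submodule.span F {x})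
    ⟨extend hq hf ha hb hab hx hy hyx, a, Submodule.mem_sup_left ha, b, Submodule.mem_sup_left hb,
      hab⟩ le_sup_left (Submodule.mem_sup_right (Submodule.mem_span_singleton_self x))

theorem not_full (hq : 3 ≤ Nat.card F) (hH : SmallIdx H) (hne : H ≠ ⊤) {v : Fin m ⊕ Fin m → F}
    (hv0 : v ≠ 0) (hv : Full H v) : False := by
  classical
  have := Fintype.ofFinite F
  let X := Submodule.span F {x | Full H x}
  have hmap : ∀ g ∈ H, ∀ x ∈ X, g • x ∈ X := by
    intro g hg x hx
    have : img g X ≤ X := by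
      refine (Submodule.map_le_iff_le_comap).2 (Submodule.span_le.2 fun y hy => ?_)
      show Matrix.toLin' g.1 y ∈ X
      rw [Matrix.toLin'_apply, ← smul_def]
      exact Submodule.subset_span (full_map hg hy)
    exact this (mem_img.2 (by rwa [inv_smul_smul]))
  by_cases hrad : X ⊓ orth X ≠ ⊥
  · refine not_isotropic hH hrad (fun x hx y hy => ?_) fun g hg x hx => ?_
    · exact (Submodule.mem_inf.1 hy).2 x (Submodule.mem_inf.1 hx).1
    · obtain ⟨h1, h2⟩ := Submodule.mem_inf.1 hx
      refine Submodule.mem_inf.2 ⟨hmap g hg x h1, fun y hy => ?_⟩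
      show sympForm m F y (g • x) = 0
      rw [← form_map g⁻¹ y (g • x), inv_smul_smul]
      exact h2 _ (hmap g⁻¹ (inv_mem hg) y hy)
  push Not at hrad
  obtain ⟨a, ha, b, hb, hab⟩ : ∃ a, Full H a ∧ ∃ b, Full H b ∧ sympForm m F a b ≠ 0 := by
    by_contra hall
    push Not at hall
    refine hv0 ((Submodule.mem_bot F).1 (hrad ▸ Submodule.mem_inf.2
      ⟨Submodule.subset_span hv, fun y hy => ?_⟩))
    show sympForm m F y v = 0
    induction hy using Submodule.span_induction with
    | mem y hy => exact hall y hy v hv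
    | zero => simp
    | add _ _ _ _ h1 h2 => rw [form_add_left, h1, h2, add_zero]
    | smul c _ _ h1 => rw [form_smul_left, h1, mul_zero]
  let P : Submodule F (Fin m ⊕ Fin m → F) → Prop :=
    fun U => SubFull H U ∧ ∃ a ∈ U, ∃ b ∈ U, sympForm m F a b ≠ 0
  have hplane : P (Submodule.span F {a, b}) := by
    refine ⟨fun x hx _ => ?_, a, Submodule.subset_span (by simp), b, Submodule.subset_span (by simp), hab⟩
    obtain ⟨s, r, rfl⟩ := Submodule.mem_span_pair.1 hx
    exact full_line ha hb (fun e => hab (form_eq_zero_comm.1 e)) s r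
  obtain ⟨W, -, hW⟩ := (Set.toFinite {U | P U}).exists_le_maximal hplane
  -- facts on all maximal subspaces
  have hperp : ∀ U, Maximal P U → ∀ x, Full H x → x ∉ U → x ∈ orth U := by
    intro U hU x hx hxU y hy
    by_contra hne'
    exact hxU (max_mem hq hU hx hy hne')
  have hnd : ∀ U, Maximal P U → U ⊓ orth U = ⊥ := by
    intro U hU
    rw [eq_bot_iff]
    intro x hx
    obtain ⟨h1, h2⟩ := Submodule.mem_inf.1 hx
    have hxX : x ∈ X := by
      by_cases hx0 : x = 0
      · rw [hx0]; exact zero_mem _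
      · exact Submodule.subset_span (hU.prop.1 x h1 hx0)
    rw [← hrad]
    refine Submodule.mem_inf.2 ⟨hxX, fun y hy => ?_⟩
    show sympForm m F y x = 0
    induction hy using Submodule.span_induction with
    | mem y hy =>
      by_cases hyU : y ∈ U
      · exact h2 y hyU
      · exact form_eq_zero_comm.1 (hperp U hU y hy hyU x h1)
    | zero => simp
    | add _ _ _ _ h1 h2 => rw [form_add_left, h1, h2, add_zero]
    | smul c _ _ h1 => rw [form_smul_left, h1, mul_zero]
  have himg : ∀ g ∈ H, img g W = W ∨ img g W ≤ orth W := by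
    intro g hg
    by_cases hle : img g W ≤ W
    · exact Or.inl (Submodule.eq_of_le_of_finrank_eq hle (finrank_img g W))
    refine Or.inr fun x hx => ?_
    obtain ⟨x₀, hx₀, hx₀W⟩ := Set.not_subset.1 hle
    have hfull : ∀ y ∈ img g W, y ≠ 0 → Full H y := fun y hy hy0 => by
      have := full_map hg (hW.prop.1 _ (mem_img.1 hy) (smul_ne_zero' _ hy0))
      rwa [smul_inv_smul] at this
    have hout : ∀ y ∈ img g W, y ∉ W → y ∈ orth W := fun y hy hyW =>
      hperp W hW y (hfull y hy (fun e => hyW (e ▸ zero_mem W))) hyW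
    by_cases hxW : x ∈ W
    · have := sub_mem (hout _ (add_mem hx hx₀) (fun e => hx₀W (by simpa using sub_mem e hxW)))
        (hout _ hx₀ hx₀W)
      simpa using this
    · exact hout x hx hxW
  obtain ⟨a', ha', b', hb', hab'⟩ := hW.prop.2
  have hW0 : W ≠ ⊥ := fun e => hab' (by
    rw [e, Submodule.mem_bot] at ha'; simp [ha'])
  have hWtop : W ≠ ⊤ := fun e => hne (eq_top_of_transv fun x t => by
    by_cases hx : x = 0
    · rw [hx, transv_vec_zero]; exact one_mem H
    · exact hW.prop.1 x (e ▸ Submodule.mem_top) hx t)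
  by_cases hsize : Module.finrank F W ≤ Module.finrank F (orth W)
  · exact not_nondeg hq hH hW0 (hnd W hW) hsize himg
  · refine not_nondeg hq hH (W := orth W) ?_ ?_ (by rw [orth_orth]; omega) fun g hg => ?_
    · intro e
      apply hWtop
      rw [← orth_orth W, e]
      exact eq_top_iff.2 fun x _ y hy => by rw [(Submodule.mem_bot F).1 hy]; simp [bil]
    · rw [orth_orth, inf_comm]; exact hnd W hW
    · refine Or.inl ?_
      rcases himg g hg with h | h
      · rw [img_orth, h]
      · have := Submodule.finrank_mono h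
        rw [finrank_img] at this
        omega

end Cfsg.Agent.MinIndexSpClosure
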