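import Mathlib
import Cfsg.Agent.Lib.MinIndexSpClosure

/-!
Common arithmetic for subgroups of small index of `Sp_2m(q)`: the multipliers of the transvection
parameters, functionals, and the size of `comp w u`.
-/

set_option autoImplicit false

open Matrix Cfsg Cfsg.Agent.SymplecticBasic Cfsg.Agent.SymplecticSimple Cfsg.Agent.MinIndexSpHeis
  Cfsg.Agent.MinIndexSpCount Cfsg.Agent.MinIndexSpShare

namespace Cfsg.Agent.MinIndexSpTools

variable {F : Type*} [Field F] {m : ℕ}

theorem exists_functional {p : ℕ} [Fact p.Prime] [CharP F p] {V : AddSubgroup F} (hV : V ≠ ⊤) :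
    ∃ ψ : F →+ ZMod p, IsFunctional ψ ∧ ∀ t ∈ V, ψ t = 0 := by
  obtain ⟨y, hy⟩ : ∃ y, y ∉ V := by
    by_contra hall
    push Not at hall
    exact hV (eq_top_iff.2 fun x _ => hall x)
  let : Module (ZMod p) F := ZMod.algebra F p |>.toModule
  obtain ⟨lam, h1, h2⟩ := Submodule.exists_le_ker_of_notMem
    (p := AddSubgroup.toZModSubmodule p V) (v := y) fun h => hy h
  exact ⟨lam.toAddMonoidHom, fun e => h1 (DFunLike.congr_fun e y),
    fun t ht => LinearMap.mem_ker.1 (h2 ht)⟩

theorem mem_of_two_mul {p : ℕ} [CharP F p] (hodd : Odd p) {V : AddSubgroup F} {x : F}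
    (h : 2 * x ∈ V) : x ∈ V := by
  obtain ⟨k, hk⟩ := hodd
  have := AddSubgroup.nsmul_mem V h (k + 1)
  rwa [nsmul_eq_mul, show ((k + 1 : ℕ) : F) * (2 * x) = ((p : ℕ) : F) * x + x by
    subst hk; push_cast; ring, CharP.cast_eq_zero, zero_mul, zero_add] at this

/-- The multipliers of an additive subgroup. -/
def mult (V : AddSubgroup F) : Set F := {l | ∀ t ∈ V, l * t ∈ V}

theorem mult_inv [Finite F] {V : AddSubgroup F} {l : F} (hl : l ∈ mult V) (h0 : l ≠ 0) :
    l⁻¹ ∈ mult V := by
  intro t ht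
  have hs : Function.Surjective fun x : V => (⟨l * x, hl x x.2⟩ : V) := by
    refine Finite.injective_iff_surjective.1 fun a b e => Subtype.ext ?_
    exact mul_left_cancel₀ h0 (congrArg Subtype.val e)
  obtain ⟨x, hx⟩ := hs ⟨t, ht⟩
  rw [← show l * (x : F) = t from congrArg Subtype.val hx, ← mul_assoc, inv_mul_cancel₀ h0, one_mul]
  exact x.2

theorem card_mult_le [Finite F] {V : AddSubgroup F} (hb : V ≠ ⊥) :
    Nat.card (mult V) ≤ Nat.card V := by
  obtain ⟨t, ht, ht0⟩ := (AddSubgroup.bot_or_exists_ne_zero V).resolve_left hb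
  exact Nat.card_le_card_of_injective (fun l => (⟨(l : F) * t, l.2 t ht⟩ : V))
    fun a b e => Subtype.ext (mul_right_cancel₀ ht0 (congrArg Subtype.val e))

theorem card_mult_le_index [Finite F] {V : AddSubgroup F} (ht : V ≠ ⊤) :
    Nat.card (mult V) ≤ V.index := by
  obtain ⟨y, hy⟩ : ∃ y, y ∉ V := by
    by_contra hall
    push Not at hall
    exact ht (eq_top_iff.2 fun x _ => hall x)
  refine Nat.card_le_card_of_injective (fun l : mult V => ((l : F) * y : F ⧸ V)) fun a b e => ?_
  rw [QuotientAddGroup.eq, neg_add_eq_sub, ← sub_mul] at e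
  by_contra hne
  have h0 : (b : F) - a ≠ 0 := sub_ne_zero.2 fun h => hne (Subtype.ext h.symm)
  have hm : (b : F) - a ∈ mult V := fun t ht => by
    rw [sub_mul]; exact sub_mem (b.2 t ht) (a.2 t ht)
  refine hy ?_
  have := mult_inv hm h0 _ e
  rwa [← mul_assoc, inv_mul_cancel₀ h0, one_mul] at this

theorem mult_two [Finite F] {V : AddSubgroup F} : 2 ≤ Nat.card (mult V) := by
  refine le_of_eq_of_le (b := Nat.card Bool) (by simp) ?_
  refine Nat.card_le_card_of_injective
    (fun i => if i then (⟨1, fun t ht => by rwa [one_mul]⟩ : mult V)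
      else ⟨0, fun t _ => by rw [zero_mul]; exact zero_mem V⟩) fun a b e => ?_
  have e' := congrArg Subtype.val e
  cases a <;> cases b <;> simp at e' ⊢

theorem sq_mem_mult {H : Subgroup (symplecticGroup (Fin m) F)} {w : Fin m ⊕ Fin m → F} (s : Fˣ)
    (hs : s ∈ scalars H w) : (s : F) ^ 2 ∈ mult (tC H w) := by
  obtain ⟨g, hg, e⟩ := hs
  intro t ht
  rw [← tC_smul, ← e, tC_map H hg]
  exact ht

theorem card_scalars_le [Fintype F] {H : Subgroup (symplecticGroup (Fin m) F)}
    {w : Fin m ⊕ Fin m → F} :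
    Nat.card (scalars H w) ≤ 2 * (Nat.card (mult (tC H w)) - 1) := by
  classical
  have := Fintype.ofFinite (scalars H w)
  have hzero : (0 : F) ∈ mult (tC H w) := fun t _ => by rw [zero_mul]; exact zero_mem _
  let T : Finset F := (Finset.univ.filter fun l : F => l ∈ mult (tC H w)).erase 0
  have hT : T.card = Nat.card (mult (tC H w)) - 1 := by
    rw [Finset.card_erase_of_mem (by simp [hzero]), Nat.card_eq_fintype_card, ← Set.toFinset_card]
    congr 2
    ext; simp
  rw [← hT, Nat.card_eq_fintype_card, ← Finset.card_univ]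
  refine Finset.card_le_mul_card_image_of_maps_to (f := fun s : scalars H w => ((s : Fˣ) : F) ^ 2)
    (fun s _ => ?_) 2 (fun b _ => ?_)
  · simp only [T, Finset.mem_erase, Finset.mem_filter, Finset.mem_univ, true_and]
    exact ⟨pow_ne_zero 2 (Units.ne_zero _), sq_mem_mult _ s.2⟩
  · by_cases h : ∃ s : scalars H w, ((s : Fˣ) : F) ^ 2 = b
    · obtain ⟨s, rfl⟩ := h
      refine (Finset.card_le_card_of_injOn (t := ({((s : Fˣ) : F), -((s : Fˣ) : F)} : Finset F))
        (fun x : scalars H w => ((x : Fˣ) : F)) (fun x hx => ?_)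
        (fun x _ y _ e => Subtype.ext (Units.ext e))).trans (Finset.card_le_two)
      simp only [Finset.coe_filter, Finset.mem_univ, true_and, Set.mem_setOf_eq] at hx
      rcases sq_eq_sq_iff_eq_or_eq_neg.1 hx with e | e <;> simp [e]
    · push Not at h
      simp [h]

theorem card_scalars_le_units [Finite F] (H : Subgroup (symplecticGroup (Fin m) F))
    (w : Fin m ⊕ Fin m → F) : Nat.card (scalars H w) ≤ Nat.card F - 1 := by
  have := Fintype.ofFinite F
  rw [← Nat.card_units]
  exact Nat.card_le_card_of_injective _ Subtype.val_injective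

theorem card_comp_mul [Finite F] (hm : 1 ≤ m) {w u : Fin m ⊕ Fin m → F}
    (h : sympForm m F w u = 1) :
    Nat.card F ^ (2 * m) = Nat.card F ^ 2 * Nat.card (comp w u) := by
  rw [card_comp h, ← pow_add]; congr 1; omega

theorem sq_le_card_comp [Finite F] (hm : 2 ≤ m) {w u : Fin m ⊕ Fin m → F}
    (h : sympForm m F w u = 1) : Nat.card F ^ 2 ≤ Nat.card (comp w u) := by
  rw [card_comp h]; exact Nat.pow_le_pow_right Finite.card_pos (by omega)

theorem piG_conj_heis (H : Subgroup (symplecticGroup (Fin m) F)) {w u e : Fin m ⊕ Fin m → F}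
    (he : e ∈ comp w u) (s : F) {l : symplecticGroup (Fin m) F} (hl : l ∈ piG H w u) :
    l ∈ piG (H.map (MulAut.conj (heis w e s)).toMonoidHom) w u := by
  obtain ⟨hl, a, ha, c, hc⟩ := hl
  have := Subgroup.mem_map_of_mem (MulAut.conj (heis w e s)).toMonoidHom hc
  simp only [MulEquiv.toMonoidHom_eq_coe, MonoidHom.coe_coe, MulAut.conj_apply] at this
  rw [heis_inv (comp_perp he),
    show heis w e s * (heis w a c * l) * heis w (-e) (-s) =
      heis w e s * heis w a c * (l * heis w (-e) (-s)) by group,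
    levi_heis hl, ← mul_assoc, heis_mul (comp_perp he) (comp_perp ha),
    heis_mul (comp_perp (add_mem he ha)) (comp_perp (levi_maps hl (neg_mem he)))] at this
  exact ⟨hl, _, add_mem (add_mem he ha) (levi_maps hl (neg_mem he)), _, this⟩

end Cfsg.Agent.MinIndexSpTools
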