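import Mathlib
import Cfsg.Agent.Lib.MinIndexSpTools

/-!
Characteristic 2: quadratic forms polarizing to the symplectic form, and how many of them are
moved around by the Levi factor.
-/

set_option autoImplicit false

open Matrix Cfsg Cfsg.Agent.SymplecticBasic Cfsg.Agent.SymplecticSimple Cfsg.Agent.MinIndexSpHeis
  Cfsg.Agent.MinIndexSpCount Cfsg.Agent.MinIndexSpShare Cfsg.Agent.MinIndexSpTools

namespace Cfsg.Agent.MinIndexSpForms

variable {F : Type*} [Field F] [CharP F 2] {m : ℕ} {w u : Fin m ⊕ Fin m → F}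

/-- A quadratic form with polar the symplectic form. -/
def IsForm (Φ : (Fin m ⊕ Fin m → F) → F) : Prop :=
  (∀ a b, Φ (a + b) = Φ a + Φ b + sympForm m F a b) ∧ ∀ (r : F) a, Φ (r • a) = r ^ 2 * Φ a

omit [CharP F 2] in
theorem isForm_zero {Φ : (Fin m ⊕ Fin m → F) → F} (hΦ : IsForm Φ) : Φ 0 = 0 := by
  simpa using hΦ.2 0 0

/-- The standard form. -/
def form0 (a : Fin m ⊕ Fin m → F) : F := ∑ i, a (Sum.inr i) * a (Sum.inl i)

theorem isForm_form0 : IsForm (form0 (F := F) (m := m)) := by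
  constructor
  · intro a b
    rw [form0, form0, form0, form_eq_sum, ← Finset.sum_add_distrib, ← Finset.sum_add_distrib]
    refine Finset.sum_congr rfl fun i _ => ?_
    simp only [Pi.add_apply, CharTwo.sub_eq_add]
    ring
  · intro r a
    rw [form0, form0, Finset.mul_sum]
    exact Finset.sum_congr rfl fun i _ => by simp only [Pi.smul_apply, smul_eq_mul]; ring

theorem isForm_shift {Φ : (Fin m ⊕ Fin m → F) → F} (hΦ : IsForm Φ) (v : Fin m ⊕ Fin m → F) :
    IsForm fun a => Φ a + sympForm m F a v ^ 2 := by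
  constructor
  · intro a b
    simp only [hΦ.1 a b, form_add_left, CharTwo.add_sq]
    ring
  · intro r a
    simp only [hΦ.2 r a, form_smul_left]
    ring

/-- Squaring followed by a functional. -/
def sqFun (ψ : F →+ ZMod 2) : F →+ ZMod 2 where
  toFun x := ψ (x ^ 2)
  map_zero' := by simp
  map_add' x y := by simp [CharTwo.add_sq]

theorem sqFun_functional [Finite F] {ψ : F →+ ZMod 2} (hψ : IsFunctional ψ) :
    IsFunctional (sqFun ψ) := by
  intro e
  refine hψ (AddMonoidHom.ext fun x => ?_)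
  obtain ⟨y, hy⟩ := FiniteField.isSquare_of_char_two (F := F) (ringChar.eq F 2) x
  rw [hy, ← sq]
  exact DFunLike.congr_fun e y

/-- Functionals on `comp w u` are `a ↦ ψ (f(a, v))`. -/
theorem exists_rep [Finite F] (h : sympForm m F w u = 1) {ψ : F →+ ZMod 2} (hψ : IsFunctional ψ)
    (δ : comp w u →+ ZMod 2) :
    ∃ v ∈ comp w u, ∀ a : comp w u, δ a = ψ (sympForm m F (a : Fin m ⊕ Fin m → F) v) := by
  have : Fact (Nat.Prime 2) := ⟨Nat.prime_two⟩
  let W := comp w u
  letI : Module (ZMod 2) W := Module.compHom W (ZMod.castHom (dvd_refl 2) F)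
  let βr : W → (W →ₗ[ZMod 2] ZMod 2) := fun x => AddMonoidHom.toZModLinearMap 2
    (AddMonoidHom.mk' (fun a : W => ψ (sympForm m F (a : Fin m ⊕ Fin m → F) x.1))
      fun a b => by simp [form_add_left])
  have hadd : ∀ x y : W, βr (x + y) = βr x + βr y := fun x y => LinearMap.ext fun a => by
    rw [LinearMap.add_apply]
    show ψ (sympForm m F a.1 (x.1 + y.1)) = ψ _ + ψ _
    rw [form_add_right, map_add]
  let β : W →ₗ[ZMod 2] Module.Dual (ZMod 2) W :=
    AddMonoidHom.toZModLinearMap 2 (AddMonoidHom.mk' βr hadd)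
  have hinj : Function.Injective β := by
    rw [injective_iff_map_eq_zero]
    intro x hx
    by_contra hx0
    obtain ⟨b, hb, hxb⟩ := exists_comp_one h x.2 (fun e => hx0 (Subtype.ext e))
    refine one_ne_zero (α := F) (neg_eq_zero.1 (eq_zero_of_functional hψ fun s => ?_))
    have : ψ (sympForm m F (s • b) x.1) = 0 :=
      LinearMap.congr_fun hx (⟨s • b, Submodule.smul_mem _ s hb⟩ : W)
    rwa [form_smul_left, form_swap (x : Fin m ⊕ Fin m → F) b, hxb] at this
  have hsurj : Function.Surjective β :=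
    (LinearMap.injective_iff_surjective_of_finrank_eq_finrank Subspace.dual_finrank_eq.symm).1 hinj
  obtain ⟨v, hv⟩ := hsurj (AddMonoidHom.toZModLinearMap 2 δ)
  exact ⟨v.1, v.2, fun a => (LinearMap.congr_fun hv a).symm⟩

/-- A `ψ`-quadratic function on `comp w u` comes from a form. -/
theorem exists_form_rep [Finite F] (h : sympForm m F w u = 1) {ψ : F →+ ZMod 2}
    (hψ : IsFunctional ψ) (P : (Fin m ⊕ Fin m → F) → ZMod 2)
    (hP : ∀ a ∈ comp w u, ∀ b ∈ comp w u, P (a + b) = P a + P b + ψ (sympForm m F a b)) :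
    ∃ Φ, IsForm Φ ∧ ∀ a ∈ comp w u, P a = ψ (Φ a) := by
  let δ : comp w u →+ ZMod 2 := AddMonoidHom.mk'
    (fun a => P (a : Fin m ⊕ Fin m → F) + ψ (form0 (a : Fin m ⊕ Fin m → F))) fun a b => by
      rw [Submodule.coe_add, hP _ a.2 _ b.2, isForm_form0.1, map_add, map_add]
      linear_combination CharTwo.add_self_eq_zero
        (ψ (sympForm m F (a : Fin m ⊕ Fin m → F) (b : Fin m ⊕ Fin m → F)))
  obtain ⟨v, -, hv⟩ := exists_rep h (sqFun_functional hψ) δ
  refine ⟨_, isForm_shift isForm_form0 v, fun a ha => ?_⟩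
  have := hv ⟨a, ha⟩
  rw [show δ ⟨a, ha⟩ = P a + ψ (form0 a) from rfl, CharTwo.add_eq_iff_eq_add] at this
  rw [this, map_add, add_comm]
  rfl

/-- A functional vanishing exactly on `{y² + y}`. -/
theorem exists_artin_schreier [Finite F] :
    ∃ ψ : F →+ ZMod 2, IsFunctional ψ ∧ ∀ x : F, ψ x = 0 → ∃ y, x = y ^ 2 + y := by
  have : Fact (Nat.Prime 2) := ⟨Nat.prime_two⟩
  let P : F →+ F := AddMonoidHom.mk' (fun y => y ^ 2 + y) fun a b => by
    simp only [CharTwo.add_sq]; abel
  have hker : Nat.card P.ker = 2 := by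
    rw [← show Nat.card Bool = 2 by simp]
    have h1 : P 1 = 0 := by simp [P, CharTwo.add_self_eq_zero]
    refine (Nat.card_eq_of_bijective (fun i : Bool =>
      (if i then ⟨1, h1⟩ else 0 : P.ker)) ⟨fun a b e => ?_, fun x => ?_⟩).symm
    · cases a <;> cases b <;> simp [Subtype.ext_iff] at e ⊢
    · have hx : (x : F) * ((x : F) + 1) = 0 := by
        have : (x : F) ^ 2 + (x : F) = 0 := x.2
        linear_combination this
      rcases mul_eq_zero.1 hx with e | e
      · exact ⟨false, Subtype.ext (by simp [e])⟩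
      · exact ⟨true, Subtype.ext (by simp [CharTwo.add_eq_zero.1 e])⟩
  have hidx : P.range.index = 2 := by
    have h2 := P.range.index_mul_card
    have h3 := P.ker.index_mul_card
    rw [AddSubgroup.index_ker, hker] at h3
    rw [← h3, mul_comm] at h2
    exact Nat.eq_of_mul_eq_mul_left (Nat.card_pos (α := P.range)) h2
  obtain ⟨ψ, hψ, hψR⟩ := exists_functional (p := 2) (V := P.range) fun e => by
    rw [e, AddSubgroup.index_top] at hidx; omega
  refine ⟨ψ, hψ, fun x hx => ?_⟩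
  suffices x ∈ P.range by
    obtain ⟨y, hy⟩ := this; exact ⟨y, hy.symm⟩
  by_contra hxR
  obtain ⟨y, hy⟩ : ∃ y, ψ y ≠ 0 := DFunLike.ne_iff.1 hψ
  have := hψR _ ((AddSubgroup.add_mem_iff_of_index_two hidx).2
    (iff_of_false hxR fun e => hy (hψR _ e)))
  rw [map_add, hx, zero_add] at this
  exact hy this

theorem sign_add (x y : ZMod 2) : (if x + y = 0 then (1 : ℤ) else -1) =
    (if x = 0 then (1 : ℤ) else -1) * (if y = 0 then (1 : ℤ) else -1) := by
  revert x y; decide

/-- Gauss sum: the zeros of `ψ ∘ Φ` are at least a third. -/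
theorem gauss [Finite F] (h : sympForm m F w u = 1) {Φ : (Fin m ⊕ Fin m → F) → F} (hΦ : IsForm Φ)
    {ψ : F →+ ZMod 2} (hψ : IsFunctional ψ) (h16 : 16 ≤ Nat.card (comp w u)) :
    Nat.card (comp w u) ≤ 3 * Nat.card {z : comp w u // ψ (Φ (z : Fin m ⊕ Fin m → F)) = 0} := by
  classical
  have := Fintype.ofFinite (comp w u)
  let W := comp w u
  let χ : ZMod 2 → ℤ := fun x => if x = 0 then 1 else -1
  let P : W → ZMod 2 := fun a => ψ (Φ (a : Fin m ⊕ Fin m → F))
  set S := ∑ a : W, χ (P a) with hS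
  have hχ : ∀ x, χ x * χ x = 1 := by decide
  have hsum : ∀ c : W, c ≠ 0 →
      ∑ a : W, χ (ψ (sympForm m F (a : Fin m ⊕ Fin m → F) (c : Fin m ⊕ Fin m → F))) = 0 := by
    intro c hc
    obtain ⟨s, a₀, hs⟩ : ∃ (s : F) (a₀ : W),
        ψ (sympForm m F (s • (a₀ : Fin m ⊕ Fin m → F)) (c : Fin m ⊕ Fin m → F)) ≠ 0 := by
      obtain ⟨b, hb, hcb⟩ := exists_comp_one h c.2 fun e => hc (Subtype.ext e)
      obtain ⟨y, hy⟩ : ∃ y, ψ y ≠ 0 := DFunLike.ne_iff.1 hψ
      refine ⟨y, ⟨b, hb⟩, ?_⟩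
      rwa [form_smul_left, form_swap (c : Fin m ⊕ Fin m → F) b, hcb, CharTwo.neg_eq, mul_one]
    set g := fun a : W => χ (ψ (sympForm m F (a : Fin m ⊕ Fin m → F) (c : Fin m ⊕ Fin m → F)))
    have h1 : ∑ a : W, g (a + s • a₀) = ∑ a : W, g a :=
      Equiv.sum_comp (Equiv.addRight (s • a₀)) g
    have h2 : ∀ a : W, g (a + s • a₀) = -g a := by
      intro a
      show χ _ = -χ _
      rw [Submodule.coe_add, Submodule.coe_smul, form_add_left, map_add]
      have : ∀ x y : ZMod 2, y ≠ 0 → χ (x + y) = -χ x := by decide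
      exact this _ _ hs
    rw [Finset.sum_congr rfl fun a _ => h2 a, Finset.sum_neg_distrib] at h1
    show ∑ a : W, g a = 0
    linarith
  have hP0 : P 0 = 0 := by simp [P, isForm_zero hΦ]
  have hSS : S * S = Nat.card W := by
    rw [hS, Finset.sum_mul]
    have e1 : ∀ a : W, χ (P a) * ∑ b : W, χ (P b) =
        ∑ c : W, χ (P c) * χ (ψ (sympForm m F (a : Fin m ⊕ Fin m → F) (c : Fin m ⊕ Fin m → F))) := by
      intro a
      rw [Finset.mul_sum, ← Equiv.sum_comp (Equiv.addLeft a)]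
      refine Finset.sum_congr rfl fun c _ => ?_
      show χ (P a) * χ (P (a + c)) = _
      have : P (a + c) = P a + (P c + ψ (sympForm m F (a : Fin m ⊕ Fin m → F) c)) := by
        simp only [P, Submodule.coe_add, hΦ.1, map_add, add_assoc]
      rw [this]
      show χ (P a) * χ (_ + _) = _
      simp only [χ] at hχ ⊢
      rw [sign_add, sign_add, ← mul_assoc, hχ, one_mul]
    rw [Finset.sum_congr rfl fun a _ => e1 a, Finset.sum_comm, Finset.sum_eq_single (0 : W)]
    · simp [χ, hP0]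
    · intro c _ hc
      rw [← Finset.mul_sum, hsum c hc, mul_zero]
    · simp
  set Z := Nat.card {z : comp w u // ψ (Φ (z : Fin m ⊕ Fin m → F)) = 0}
  have hSZ : S = 2 * (Z : ℤ) - Nat.card W := by
    have hZ : Z = (Finset.univ.filter fun a : W => P a = 0).card := by
      rw [← Fintype.card_subtype]; exact Nat.card_eq_fintype_card
    have : ∀ a : W, χ (P a) = 2 * (if P a = 0 then (1 : ℤ) else 0) - 1 := fun a => by
      simp only [χ]; split <;> norm_num
    rw [hS, Finset.sum_congr rfl fun a _ => this a, Finset.sum_sub_distrib, ← Finset.mul_sum,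
      Finset.sum_boole, hZ, Nat.card_eq_fintype_card]
    simp
  by_contra hlt
  push Not at hlt
  have h1 : (3 * (Z : ℤ)) < Nat.card W := by exact_mod_cast hlt
  have h2 : (16 : ℤ) ≤ Nat.card W := by exact_mod_cast h16
  rw [hSZ] at hSS
  nlinarith

omit [CharP F 2] in
theorem form_eq_of_functional (h : sympForm m F w u = 1) {ψ : F →+ ZMod 2} (hψ : IsFunctional ψ)
    {z z' : Fin m ⊕ Fin m → F} (hz : z ∈ comp w u) (hz' : z' ∈ comp w u)
    (e : ∀ a ∈ comp w u, ψ (sympForm m F a z) = ψ (sympForm m F a z')) : z = z' := by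
  by_contra hne
  obtain ⟨b, hb, hcb⟩ := exists_comp_one h (sub_mem hz hz') (sub_ne_zero.2 hne)
  refine one_ne_zero (α := F) (neg_eq_zero.1 (eq_zero_of_functional hψ fun s => ?_))
  have := e (s • b) (Submodule.smul_mem _ s hb)
  rw [← sub_eq_zero, ← map_sub, ← form_sub_right, form_smul_left,
    form_swap (z - z') b, hcb] at this
  exact this

/-- The orbit bound for the index of `piG`. -/
theorem jdx_ge [Finite F] (H : Subgroup (symplecticGroup (Fin m) F)) (h : sympForm m F w u = 1)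
    {Φ : (Fin m ⊕ Fin m → F) → F} (hΦ : IsForm Φ) {ψ : F →+ ZMod 2} (hψ : IsFunctional ψ)
    (hπ : ∀ p ∈ piG H w u, ∀ a ∈ comp w u, ψ (Φ (p • a)) = ψ (Φ a))
    (h16 : 16 ≤ Nat.card (comp w u)) {ι : Type*} [Finite ι] (g : ι → symplecticGroup (Fin m) F)
    (hgL : ∀ i, g i ∈ levi w u) (hgΦ : ∀ i, ∀ a ∈ comp w u, Φ (g i • a) = Φ a)
    (hpair : ∀ i k, i ≠ k → g i * (g k)⁻¹ ∉ piG H w u) :
    Nat.card ι * Nat.card (comp w u) ≤ 3 * jdx H w u := by
  classical
  obtain ⟨ψ', hψ', has⟩ := exists_artin_schreier (F := F)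
  have hg := gauss h hΦ hψ' h16
  have hl : ∀ z : {z : comp w u // ψ' (Φ (z : Fin m ⊕ Fin m → F)) = 0}, ∃ l ∈ levi w u,
      ∀ a, Φ (l • a) = Φ a + sympForm m F a (z.1 : Fin m ⊕ Fin m → F) ^ 2 := by
    intro z
    set v := (z.1 : Fin m ⊕ Fin m → F)
    obtain ⟨y, hy⟩ := has _ z.2
    refine ⟨transv v (if Φ v = 0 then 1 else y / Φ v), transv_mem_levi z.1.2 _, fun a => ?_⟩
    rw [transv_smul, hΦ.1, hΦ.2, form_smul_right]
    split_ifs with h0
    · rw [h0]; ring
    · field_simp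
      linear_combination sympForm m F a v ^ 2 *
        (hy + CharTwo.add_self_eq_zero (y ^ 2 + y)) * 0 + sympForm m F a v ^ 2 * hy.symm
  choose l hlL hlΦ using hl
  have hinj : Function.Injective (fun p : ι × {z : comp w u // ψ' (Φ (z : Fin m ⊕ Fin m → F)) = 0} =>
      (((⟨g p.1 * l p.2, mul_mem (hgL _) (hlL _)⟩ : levi w u)⁻¹ : levi w u) :
        levi w u ⧸ (piG H w u).subgroupOf (levi w u))) := by
    rintro ⟨i, z⟩ ⟨k, z'⟩ e
    have hmem : g i * l z * (g k * l z')⁻¹ ∈ piG H w u := by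
      have := QuotientGroup.eq.1 e
      rwa [Subgroup.mem_subgroupOf, inv_inv] at this
    have hz : z = z' := by
      refine Subtype.ext (Subtype.ext (form_eq_of_functional h (sqFun_functional hψ) z.1.2 z'.1.2
        fun a ha => ?_))
      have h1 := hπ _ hmem ((g k * l z') • a) (levi_maps (mul_mem (hgL k) (hlL z')) ha)
      rw [smul_smul, inv_mul_cancel_right, mul_smul, mul_smul,
        hgΦ i _ (levi_maps (hlL z) ha), hgΦ k _ (levi_maps (hlL z') ha), hlΦ, hlΦ, map_add,
        map_add] at h1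
      exact add_left_cancel h1
    subst hz
    rw [show g i * l z * (g k * l z)⁻¹ = g i * (g k)⁻¹ by group] at hmem
    refine Prod.ext ?_ rfl
    by_contra hne
    exact hpair i k hne hmem
  have hle := Nat.card_le_card_of_injective _ hinj
  rw [Nat.card_prod] at hle
  have hj : jdx H w u = Nat.card (levi w u ⧸ (piG H w u).subgroupOf (levi w u)) := rfl
  rw [hj]
  calc Nat.card ι * Nat.card (comp w u) ≤ Nat.card ι * (3 * Nat.card _) := Nat.mul_le_mul_left _ hg
    _ = 3 * (Nat.card ι * Nat.card _) := by ring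
    _ ≤ _ := Nat.mul_le_mul_left _ hle

end Cfsg.Agent.MinIndexSpForms
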