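import Mathlib
import Cfsg.Agent.Lib.MinIndexSpTools

/-!
Characteristic 2: vectors `w` whose whole radical quotient is induced by `H` (`Rad H w`), and the
case that some transvection lies in a subgroup of small index.
-/

set_option autoImplicit false

open Matrix Cfsg Cfsg.Agent.SymplecticBasic Cfsg.Agent.SymplecticSimple Cfsg.Agent.MinIndexSpHeis
  Cfsg.Agent.MinIndexSpCount Cfsg.Agent.MinIndexSpShare Cfsg.Agent.MinIndexSpTools
  Cfsg.Agent.MinIndexSpClosure

namespace Cfsg.Agent.MinIndexSpRad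

variable {F : Type*} [Field F] [CharP F 2] {m : ℕ} {H : Subgroup (symplecticGroup (Fin m) F)}
  {w u : Fin m ⊕ Fin m → F}

theorem two_eq : (2 : F) = 0 := by exact_mod_cast CharP.cast_eq_zero F 2

theorem exists_sqrt [Finite F] (x : F) : ∃ y : F, y ^ 2 = x := by
  obtain ⟨y, hy⟩ := FiniteField.isSquare_of_char_two (F := F) (ringChar.eq F 2) x
  exact ⟨y, by rw [hy]; ring⟩

theorem form_comm (x y : Fin m ⊕ Fin m → F) : sympForm m F x y = sympForm m F y x := by
  rw [form_swap y x, CharTwo.neg_eq]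

theorem heis_scale (s : F) {a : Fin m ⊕ Fin m → F} (ha : sympForm m F a w = 0) (c : F) :
    heis (s • w) a c = heis w (s • a) (s ^ 2 * c) := by
  have hsw : sympForm m F a (s • w) = 0 := by rw [form_smul_right, ha, mul_zero]
  have hsa : sympForm m F (s • a) w = 0 := by rw [form_smul_left, ha, mul_zero]
  refine ext_smul fun x => ?_
  rw [heis_smul hsw, heis_smul hsa]
  simp only [form_smul_right]
  module

theorem heis_proj {a : Fin m ⊕ Fin m → F} (ha : sympForm m F a w = 0) (h : sympForm m F w u = 1)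
    (c : F) : heis w a c = heis w (proj w u a) c := by
  have hp : a = proj w u a + sympForm m F a u • w := by
    rw [proj, form_comm w a, ha, zero_smul]; abel
  conv_lhs => rw [hp, heis_shift (comp_perp (proj_mem h a)), two_eq, zero_mul, add_zero]

/-- Every element of `w⊥/w` is induced by `H`. -/
def Rad (H : Subgroup (symplecticGroup (Fin m) F)) (w : Fin m ⊕ Fin m → F) : Prop :=
  ∀ a, sympForm m F a w = 0 → ∃ c : F, heis w a c ∈ H

omit [CharP F 2] in
theorem rad_map {g : symplecticGroup (Fin m) F} (hg : g ∈ H) (h : Rad H w) : Rad H (g • w) := by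
  intro a ha
  obtain ⟨c, hc⟩ := h (g⁻¹ • a) (by rw [← form_map g, smul_inv_smul]; exact ha)
  refine ⟨c, ?_⟩
  have := mul_mem (mul_mem hg hc) (inv_mem hg)
  rwa [heis_conj, smul_inv_smul] at this

theorem rad_of_uS (h : sympForm m F w u = 1) (hU : ∀ a ∈ comp w u, a ∈ uS H w u) : Rad H w := by
  intro a ha
  obtain ⟨-, c, hc⟩ := hU _ (proj_mem h a)
  exact ⟨c, by rwa [heis_proj ha h]⟩

omit [CharP F 2] in
theorem jdx_pos [Finite F] (H : Subgroup (symplecticGroup (Fin m) F)) (w u : Fin m ⊕ Fin m → F) :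
    1 ≤ jdx H w u := by
  refine Nat.one_le_iff_ne_zero.2 fun e => ?_
  have := jdx_mul H w u
  rw [e, zero_mul] at this
  exact Nat.card_pos.ne' this.symm

omit [CharP F 2] in
theorem uS_eq_top [Finite F] {p : ℕ} [Fact p.Prime] [CharP F p] (h : sympForm m F w u = 1)
    {ψ : F →+ ZMod p} (hψ : IsFunctional ψ) (hB : ∀ b ∈ bS H w u ψ, b = 0) :
    ∀ a ∈ comp w u, a ∈ uS H w u := by
  intro a ha
  have h1 : Nat.card (bS H w u ψ) ≤ 1 := Finite.card_le_one_iff_subsingleton.2
    ⟨fun x y => Subtype.ext ((hB x x.2).trans (hB y y.2).symm)⟩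
  have h2 := card_dual H h hψ
  have h3 : Nat.card (comp w u) ≤ Nat.card (uS H w u) := by
    rw [← h2]; exact (Nat.mul_le_mul_right _ h1).trans (one_mul _).le
  have hinj : Function.Injective (fun x : uS H w u => (⟨x.1, x.2.1⟩ : comp w u)) :=
    fun x y e => Subtype.ext (congrArg (fun z : comp w u => z.1) e)
  obtain ⟨x, hx⟩ := ((Nat.bijective_iff_injective_and_card _).2
    ⟨hinj, le_antisymm (Nat.card_le_card_of_injective _ hinj) h3⟩).2 ⟨a, ha⟩
  rw [← show x.1 = a from congrArg (fun z : comp w u => z.1) hx]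
  exact x.2

omit [CharP F 2] in
theorem cover [Finite F] {p : ℕ} (h : sympForm m F w u = 1) (ψ : F →+ ZMod p)
    {b : Fin m ⊕ Fin m → F} (hb : b ∈ bS H w u ψ) (hb0 : b ≠ 0) :
    Nat.card (comp w u) - 1 ≤ jdx H w u * (Nat.card (bS H w u ψ) - 1) := by
  have hc := count_blocks H h ψ hb.1 hb0
  rw [← jdx_mul H w u] at hc
  have hle : Nat.card (piG H w u) ≤
      Nat.card {l : levi w u // (l : symplecticGroup (Fin m) F) • b ∈ bS H w u ψ} :=
    Nat.card_le_card_of_injective (fun k => ⟨⟨k.1, k.2.1⟩, bS_map H k.2 hb⟩)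
      fun x y e => Subtype.ext (congrArg (fun z => z.1.1) e)
  refine Nat.le_of_mul_le_mul_left ?_ (Nat.card_pos (α := piG H w u))
  calc _ ≤ _ := Nat.mul_le_mul_right _ hle
    _ = _ := hc
    _ = _ := by ring

omit [CharP F 2] in
theorem card_le_jdx_mul [Finite F] {p : ℕ} (h : sympForm m F w u = 1) (ψ : F →+ ZMod p)
    {b : Fin m ⊕ Fin m → F} (hb : b ∈ bS H w u ψ) (hb0 : b ≠ 0) :
    Nat.card (comp w u) ≤ jdx H w u * Nat.card (bS H w u ψ) := by
  have h1 := cover h ψ hb hb0
  have h2 := jdx_pos H w u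
  obtain ⟨k, hk⟩ := Nat.exists_eq_succ_of_ne_zero (Nat.card_pos (α := bS H w u ψ)).ne'
  rw [hk] at h1 ⊢
  simp only [Nat.succ_sub_one] at h1
  rw [Nat.mul_succ]
  omega

theorem card_scalars_le_mult [Fintype F] (H : Subgroup (symplecticGroup (Fin m) F))
    (w : Fin m ⊕ Fin m → F) : Nat.card (scalars H w) ≤ Nat.card (mult (tC H w)) - 1 := by
  classical
  have := Fintype.ofFinite (scalars H w)
  have hzero : (0 : F) ∈ mult (tC H w) := fun t _ => by rw [zero_mul]; exact zero_mem _
  let T : Finset F := (Finset.univ.filter fun l : F => l ∈ mult (tC H w)).erase 0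
  have hT : T.card = Nat.card (mult (tC H w)) - 1 := by
    rw [Finset.card_erase_of_mem (by simp [hzero]), Nat.card_eq_fintype_card, ← Set.toFinset_card]
    congr 2
    ext; simp
  rw [← hT, Nat.card_eq_fintype_card, ← Finset.card_univ]
  refine Finset.card_le_card_of_injOn (fun s : scalars H w => ((s : Fˣ) : F) ^ 2) (fun s _ => ?_)
    (fun a _ b _ e => Subtype.ext (Units.ext (CharTwo.sq_injective e)))
  simp only [T, Finset.coe_erase, Finset.coe_filter, Set.mem_sdiff, Set.mem_setOf_eq,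
    Finset.mem_univ, true_and, Set.mem_singleton_iff]
  exact ⟨sq_mem_mult _ s.2, pow_ne_zero 2 (Units.ne_zero _)⟩

/-- A proper nonzero transvection share forces `Rad`. -/
theorem rad_of_tC [Fintype F] (hm : 2 ≤ m) (hq : 4 ≤ Nat.card F) (hH : SmallIdx H) (hw : w ≠ 0)
    (hb : tC H w ≠ ⊥) (ht : tC H w ≠ ⊤) : Rad H w := by
  obtain ⟨u, h⟩ := exists_form_eq_one hw
  have : Fact (Nat.Prime 2) := ⟨Nat.prime_two⟩
  obtain ⟨ψ, hψ, -⟩ := exists_functional (p := 2) ht
  refine rad_of_uS h (uS_eq_top h hψ fun b hbB => ?_)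
  by_contra hb0
  set Q := Nat.card (comp w u) with hQ
  set q := Nat.card F with hq'
  set r := Nat.card (mult (tC H w)) with hr
  have hQ0 : 0 < Q := Nat.card_pos
  have hsc : Nat.card (scalars H w) ≤ r - 1 := card_scalars_le_mult H w
  have r1 : 2 ≤ r := mult_two
  have r2 : r ≤ Nat.card (tC H w) := card_mult_le hb
  have r3 : r ≤ (tC H w).index := card_mult_le_index ht
  have r4 : r * r ≤ q := by
    rw [hq', ← AddSubgroup.index_mul_card (tC H w)]
    exact Nat.mul_le_mul r3 r2
  have h1 : r * Q ≤ ridx H w := by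
    rw [ridx_eq H h hψ, mul_assoc]
    exact Nat.mul_le_mul r3 (card_le_jdx_mul h ψ hbB hb0)
  have hS : H.index * (q - 1) ≤ q ^ 2 * Q := by
    rw [hQ, ← card_comp_mul (by omega) h]
    exact hH.le.trans (Nat.sub_le _ _)
  have key : r * Q * (q - 1) * (q - 1) ≤ q ^ 2 * Q * (r - 1) :=
    calc r * Q * (q - 1) * (q - 1) ≤ ridx H w * (q - 1) * (q - 1) :=
          Nat.mul_le_mul_right _ (Nat.mul_le_mul_right _ h1)
      _ ≤ H.index * Nat.card (scalars H w) * (q - 1) := Nat.mul_le_mul_right _ (ridx_mul_le H hw)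
      _ = H.index * (q - 1) * Nat.card (scalars H w) := mul_right_comm _ _ _
      _ ≤ q ^ 2 * Q * (r - 1) := Nat.mul_le_mul hS hsc
  obtain ⟨n, hn⟩ : ∃ n, q = n + 1 := ⟨q - 1, by omega⟩
  obtain ⟨r', hr'⟩ : ∃ r', r = r' + 1 := ⟨r - 1, by omega⟩
  have key' : r * (q - 1) * (q - 1) ≤ q ^ 2 * (r - 1) :=
    Nat.le_of_mul_le_mul_left (by
      calc Q * (r * (q - 1) * (q - 1)) = r * Q * (q - 1) * (q - 1) := by ring
        _ ≤ _ := key
        _ = _ := by ring) hQ0
  rw [show q - 1 = n by omega, show r - 1 = r' by omega, hr', hn] at key'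
  have h5 : 2 * (r' + 1) ≤ n + 1 := by
    have := Nat.mul_le_mul_right r r1
    omega
  nlinarith [Nat.mul_le_mul_right (n + 1) h5]

/-- With `Rad H w`, elements of `H` shift perpendicular vectors along `w`. -/
theorem shift (hw : w ≠ 0) (hwu : sympForm m F u w = 0) (hind : ∀ s : F, u ≠ s • w)
    (hR : Rad H w) (t : F) : ∃ g ∈ H, g • u = u + t • w := by
  obtain ⟨w', hw'⟩ := exists_form_eq_one hw
  have hp : proj w w' u = u - sympForm m F u w' • w := by
    rw [proj, form_comm w u, hwu, zero_smul, sub_zero]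
  obtain ⟨a₀, ha₀, hua⟩ := exists_comp_one hw' (proj_mem hw' u)
    (fun e => hind _ (sub_eq_zero.1 (hp ▸ e)))
  have hua' : sympForm m F u a₀ = 1 := by
    rw [hp, form_sub_left, form_smul_left, (mem_comp.1 ha₀).1, mul_zero, sub_zero] at hua
    exact hua
  have ht : sympForm m F (t • a₀) w = 0 := by rw [form_smul_left, comp_perp ha₀, mul_zero]
  obtain ⟨c, hc⟩ := hR _ ht
  refine ⟨_, hc, ?_⟩
  rw [heis_smul ht, hwu, form_smul_right, hua']
  simp

/-- No transvection in a subgroup of small index. -/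
theorem tC_eq_bot [Fintype F] (hm : 2 ≤ m) (hq : 4 ≤ Nat.card F) (hH : SmallIdx H) (hne : H ≠ ⊤)
    (hw : w ≠ 0) : tC H w = ⊥ := by
  classical
  by_contra hb
  have ht : ∀ v : Fin m ⊕ Fin m → F, v ≠ 0 → tC H v ≠ ⊤ := fun v hv e =>
    not_full (by omega) hH hne hv (full_iff_index.2 e)
  set V := tC H w with hV
  have hVt : V ≠ ⊤ := ht w hw
  have hrad : ∀ v : Fin m ⊕ Fin m → F, v ≠ 0 → tC H v = V → Rad H v := fun v hv e =>
    rad_of_tC hm hq hH hv (e ▸ hb) (ht v hv)
  -- a perpendicular pair with the same share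
  obtain ⟨x, y, hx0, hy0, hxy, hind, hxV, hyV⟩ : ∃ x y : Fin m ⊕ Fin m → F, x ≠ 0 ∧ y ≠ 0 ∧
      sympForm m F y x = 0 ∧ (∀ s : F, y ≠ s • x) ∧ tC H x = V ∧ tC H y = V := by
    obtain ⟨g, hg, hgw⟩ := exists_move hH hw
    by_cases h0 : sympForm m F (g • w) w = 0
    · exact ⟨w, g • w, hw, smul_ne_zero' g hw, h0, hgw, rfl, tC_map H hg w⟩
    have hgx0 := smul_ne_zero' g hw
    have hgV : tC H (g • w) = V := tC_map H hg w
    generalize hx : g • w = x at h0 hgw hgx0 hgV
    have hwx : sympForm m F w x ≠ 0 := by rwa [form_comm]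
    have h : sympForm m F w ((sympForm m F w x)⁻¹ • x) = 1 := by
      rw [form_smul_right, inv_mul_cancel₀ hwx]
    set u := (sympForm m F w x)⁻¹ • x with hu
    obtain ⟨b, hb', hb0⟩ : ∃ b ∈ comp w u, b ≠ 0 := by
      refine Submodule.exists_mem_ne_zero_of_ne_bot fun e => ?_
      have := finrank_comp h
      rw [e, finrank_bot] at this
      omega
    have hbx : sympForm m F x b = 0 := by
      have := (mem_comp.1 hb').2
      rw [hu, form_smul_left] at this
      exact (mul_eq_zero.1 this).resolve_left (inv_ne_zero hwx)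
    have hyb : ∀ y : F, sympForm m F (y • b) w = 0 := fun y => by
      rw [form_smul_left, comp_perp hb', mul_zero]
    choose c hc using fun y : F => hrad w hw rfl (y • b) (hyb y)
    obtain ⟨y₁, y₂, he, hne12⟩ := Function.not_injective_iff.1
      (show ¬ Function.Injective (fun y : F => ((c y : F) : F ⧸ V)) from fun hi => by
        have h1 := Nat.card_le_card_of_injective _ hi
        have h2 := V.card_eq_card_quotient_mul_card_addSubgroup
        have h3 : 1 < Nat.card V := by
          rw [Finite.one_lt_card_iff_nontrivial]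
          exact (AddSubgroup.nontrivial_iff_ne_bot V).2 hb
        have h4 : 0 < Nat.card (F ⧸ V) := Nat.card_pos
        nlinarith)
    rw [QuotientAddGroup.eq, CharTwo.neg_eq] at he
    have hE := mul_mem (mul_mem (hc y₁) (hc y₂)) (show transv w (c y₁ + c y₂) ∈ H from he)
    rw [heis_mul (hyb y₁) (hyb y₂), ← heis_zero, ← add_smul,
      heis_mul (hyb (y₁ + y₂)) (by simp), add_zero] at hE
    simp only [form_smul_left, form_smul_right, form_self, mul_zero, add_zero, form_zero_left,
      CharTwo.add_self_eq_zero] at hE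
    set y := y₁ + y₂
    have hy0 : y ≠ 0 := fun e => hne12 (CharTwo.add_eq_zero.1 e)
    refine ⟨x, _, hgx0, smul_ne_zero' (heis w (y • b) 0) hgx0, ?_, fun s e => ?_,
      hgV, (tC_map H hE x).trans hgV⟩
    · rw [heis_smul (hyb y)]
      simp [form_add_left, form_smul_left, form_smul_right, hbx, form_comm b x, form_self]
    · rw [heis_smul (hyb y)] at e
      simp only [form_smul_right, hbx, mul_zero, zero_mul, add_zero, zero_smul] at e
      have e1 := congrArg (fun z => sympForm m F w z) e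
      simp only [form_add_right, form_smul_right, (mem_comp.1 hb').1, mul_zero, add_zero] at e1
      have hs : s = 1 := (mul_eq_right₀ hwx).1 e1.symm
      rw [hs, one_smul, add_eq_left, smul_smul] at e
      exact smul_ne_zero (mul_ne_zero (by rwa [form_comm]) hy0) hb0 e
  -- all multiples of `x` have the same share
  have hall : ∀ t : F, t ≠ 0 → tC H (t • x) = V := by
    intro t ht0
    obtain ⟨g, hg, hgy⟩ := shift hx0 hxy hind (hrad x hx0 hxV) t
    have hz : tC H (y + t • x) = V := by rw [← hgy, tC_map H hg, hyV]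
    obtain ⟨k, hk, hkz⟩ := shift (u := y + t • x) hy0
      (by rw [form_add_left, form_self, form_smul_left, form_comm x, hxy, mul_zero, add_zero])
      (fun s e => by
        by_cases hs : s = 1
        · rw [hs, one_smul, add_eq_left] at e
          exact smul_ne_zero ht0 hx0 e
        · refine hind (t / (s - 1)) ?_
          rw [div_eq_inv_mul, mul_smul, eq_inv_smul_iff₀ (sub_ne_zero.2 hs), sub_smul, one_smul, ← e]
          abel)
      (hrad y hy0 hyV) 1
    rw [← hz, ← tC_map H hk (y + t • x), hkz, one_smul, add_comm (y + _), ← add_assoc,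
      ← two_smul F y, two_eq, zero_smul, zero_add]
  refine hVt (eq_top_iff.2 fun r _ => ?_)
  obtain ⟨⟨v, hv⟩, hv0⟩ := @exists_ne _ ((AddSubgroup.nontrivial_iff_ne_bot V).2 hb) (0 : V)
  have hv0' : v ≠ 0 := fun e => hv0 (Subtype.ext e)
  obtain ⟨s, hs⟩ := exists_sqrt (r / v)
  by_cases hs0 : s = 0
  · rw [hs0, zero_pow two_ne_zero, eq_comm, div_eq_zero_iff] at hs
    rw [hs.resolve_right hv0']; exact zero_mem V
  have := hall s hs0
  rw [← this, tC_smul, hs, div_mul_cancel₀ r hv0', hxV] at hv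
  exact hv

end Cfsg.Agent.MinIndexSpRad
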