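import Mathlib
import Cfsg.Agent.Lib.MinIndexSpRad
import Cfsg.Agent.Lib.MinIndexSpForms
import Cfsg.Agent.Lib.SymplecticRootGroups

/-!
Even `q ≥ 4`: no proper subgroup of small index in `Sp_2m(q)`.
-/

set_option autoImplicit false

open Matrix Cfsg Cfsg.Agent.SymplecticBasic Cfsg.Agent.SymplecticSimple Cfsg.Agent.MinIndexSpHeis
  Cfsg.Agent.MinIndexSpCount Cfsg.Agent.MinIndexSpShare Cfsg.Agent.MinIndexSpTools
  Cfsg.Agent.MinIndexSpClosure Cfsg.Agent.MinIndexSpRad Cfsg.Agent.MinIndexSpForms

namespace Cfsg.Agent.MinIndexSpEven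

variable {F : Type*} [Field F] [CharP F 2] {m : ℕ} {H : Subgroup (symplecticGroup (Fin m) F)}
  {w u : Fin m ⊕ Fin m → F}

/-- Without transvections the radical elements of `H` are graphs. -/
theorem unique_c (hT : tC H w = ⊥) {a : Fin m ⊕ Fin m → F} (ha : sympForm m F a w = 0) {c c' : F}
    (hc : heis w a c ∈ H) (hc' : heis w a c' ∈ H) : c = c' := by
  have := mul_mem hc hc'
  rw [heis_mul ha ha, ← two_smul F a, two_eq, zero_smul, heis_zero, form_self, add_zero] at this
  have h0 : c + c' ∈ tC H w := this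
  rw [hT, AddSubgroup.mem_bot] at h0
  exact CharTwo.add_eq_zero.1 h0

/-- The inducing elements respect the graph. -/
theorem pi_map {l : symplecticGroup (Fin m) F} (hl : l ∈ piG H w u) {a : Fin m ⊕ Fin m → F}
    (ha : a ∈ comp w u) {c : F} (hc : heis w a c ∈ H) : heis w (l • a) c ∈ H := by
  obtain ⟨hl, e, he, s, hs⟩ := hl
  have := piG_conj H hl he hs ha hc
  rwa [two_eq, zero_mul, add_zero] at this

/-- Differences in the graph. -/
theorem diff_mem {a r : Fin m ⊕ Fin m → F} (ha : a ∈ comp w u) (hr : r ∈ comp w u) {c : F}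
    (h1 : heis w (a + r) c ∈ H) (h2 : heis w a c ∈ H) : heis w r (sympForm m F a r) ∈ H := by
  have := mul_mem h1 h2
  rw [heis_mul (comp_perp (add_mem ha hr)) (comp_perp ha), add_right_comm, ← two_smul F a, two_eq,
    zero_smul, zero_add, CharTwo.add_self_eq_zero, zero_add, form_add_right, form_self,
    zero_add] at this
  exact this

theorem card_bounds [Fintype F] (hm : 2 ≤ m) (hH : SmallIdx H) (h : sympForm m F w u = 1) :
    H.index * (Nat.card F - 1) < Nat.card F ^ 2 * Nat.card (comp w u) := by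
  rw [← card_comp_mul (by omega) h]
  exact lt_of_lt_of_le hH (Nat.sub_le _ _)

/-- The kernel of `f(·, b)` in `comp w u`. -/
theorem card_perp [Finite F] (h : sympForm m F w u = 1) {b : Fin m ⊕ Fin m → F}
    (hb : b ∈ comp w u) (hb0 : b ≠ 0) :
    Nat.card {a : comp w u // sympForm m F b (a : Fin m ⊕ Fin m → F) = 0} * Nat.card F =
      Nat.card (comp w u) := by
  let g : comp w u →+ F := AddMonoidHom.mk'
    (fun a => sympForm m F b (a : Fin m ⊕ Fin m → F)) fun x y => by
      rw [Submodule.coe_add, form_add_right]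
  have hs : g.range = ⊤ := by
    refine eq_top_iff.2 fun y _ => ?_
    obtain ⟨b', hb', hbb⟩ := exists_comp_one h hb hb0
    exact ⟨⟨y • b', Submodule.smul_mem _ _ hb'⟩, by
      show sympForm m F b (y • b') = y
      rw [form_smul_right, hbb, mul_one]⟩
  have := g.ker.index_mul_card
  rw [AddSubgroup.index_ker, hs, AddSubgroup.card_top, mul_comm] at this
  rw [← this]
  rfl

/-- The two possible shapes at a point that is not `Rad`. -/
theorem nonrad_shape [Fintype F] (hm : 2 ≤ m) (hq : 4 ≤ Nat.card F) (hH : SmallIdx H)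
    (hT : tC H w = ⊥) (hw : w ≠ 0) (h : sympForm m F w u = 1) (hR : ¬ Rad H w) :
    Nat.card F * Nat.card (comp w u) ≤ ridx H w ∧
    (((∀ a ∈ uS H w u, a = 0) ∧ ∀ l ∈ levi w u, l ∈ piG H w u) ∨
      ∃ b ∈ comp w u, b ≠ 0 ∧ (∀ l ∈ levi w u, (∃ s : F, l • b = s • b) → l ∈ piG H w u) ∧
        (∀ a ∈ comp w u, sympForm m F b a = 0 → a ∈ uS H w u) ∧
        ∀ a ∈ uS H w u, sympForm m F b a = 0) := by
  classical
  have : Fact (Nat.Prime 2) := ⟨Nat.prime_two⟩
  have hne : tC H w ≠ ⊤ := by
    rw [hT]; intro e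
    exact one_ne_zero ((AddSubgroup.mem_bot).1 (e ▸ AddSubgroup.mem_top (1 : F)))
  obtain ⟨ψ, hψ, -⟩ := exists_functional (p := 2) hne
  obtain ⟨b, hbB, hb0⟩ : ∃ b ∈ bS H w u ψ, b ≠ 0 := by
    by_contra hno
    push Not at hno
    exact hR (rad_of_uS h (uS_eq_top h hψ hno))
  set q := Nat.card F with hq'
  set Q := Nat.card (comp w u) with hQ
  set B := bS H w u ψ with hB
  set j := jdx H w u with hj
  have hQ16 : 16 ≤ Q := le_trans (by nlinarith) (sq_le_card_comp hm h)
  have hridx : ridx H w = q * j * Nat.card B := by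
    rw [ridx_eq H h hψ, hT, AddSubgroup.index_bot]
  have hjB : Q ≤ j * Nat.card B := card_le_jdx_mul h ψ hbB hb0
  refine ⟨by rw [hridx, mul_assoc]; exact Nat.mul_le_mul_left _ hjB, ?_⟩
  -- `(q - 1) j |B| < q Q`
  have hkey : (q - 1) * (j * Nat.card B) < q * Q := by
    refine Nat.lt_of_mul_lt_mul_left (a := q) ?_
    calc q * ((q - 1) * (j * Nat.card B)) = ridx H w * (q - 1) := by rw [hridx]; ring
      _ ≤ H.index * (q - 1) := Nat.mul_le_mul_right _ (ridx_le H hw)
      _ < q ^ 2 * Q := card_bounds hm hH h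
      _ = q * (q * Q) := by ring
  obtain ⟨n, hn⟩ : ∃ n, q = n + 1 := ⟨q - 1, by omega⟩
  have hn3 : 3 ≤ n := by omega
  rw [show q - 1 = n by omega, hn] at hkey
  have h3 : 3 * (j * Nat.card B) < 4 * Q := by
    by_contra hlt
    push Not at hlt
    have := Nat.mul_le_mul_left n hlt
    have := Nat.mul_le_mul_right Q hn3
    linarith
  have hlt : j * (Nat.card B - 1) < 2 * (Q - 1) := by
    have : j * (Nat.card B - 1) ≤ j * Nat.card B := Nat.mul_le_mul_left _ (Nat.sub_le _ _)
    omega
  have hblk : ∀ x ∈ B, x ≠ 0 → ∀ l ∈ levi w u, l • x ∈ B → l ∈ piG H w u :=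
    fun x hx hx0 => (blocks H h ψ hx hx0 hlt).1
  have heq := (blocks H h ψ hbB hb0 hlt).2
  have hcard := card_dual H h hψ
  rw [← hB, ← hQ] at hcard
  by_cases hind : ∃ x ∈ B, ∀ s : F, x ≠ s • b
  · obtain ⟨x, hx, hxb⟩ := hind
    have hBall : ∀ y ∈ comp w u, y ∈ B := fun y hy => bS_eq_top H hblk h hbB hx hb0 hxb hy
    refine Or.inl ⟨fun a ha => ?_, fun l hl => hblk b hbB hb0 l hl (hBall _ (levi_maps hl hbB.1))⟩
    by_contra ha0
    obtain ⟨c, hc, hac⟩ := exists_comp_one h ha.1 ha0
    exact one_ne_zero (eq_zero_of_functional hψ fun s => by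
      have := (hBall _ (Submodule.smul_mem _ s hc)).2 a ha
      rwa [form_smul_right, hac] at this)
  · push Not at hind
    choose s hs using hind
    have hsinj : Function.Injective (fun x : B => s x x.2) := fun x y e => Subtype.ext (by
      rw [hs x x.2, hs y y.2]; exact congrArg (· • b) e)
    have hBq : Nat.card B ≤ q := Nat.card_le_card_of_injective _ hsinj
    let σ : B →+ F := AddMonoidHom.mk' (fun x => s x x.2) fun x y => by
      refine smul_left_injective F hb0 ?_
      show s _ _ • b = (s _ _ + s _ _) • b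
      rw [add_smul, ← hs, ← hs, ← hs]
      rfl
    have hdvd : Nat.card B ∣ q := AddSubgroup.card_dvd_of_injective σ hsinj
    have hBeq : Nat.card B = q := by
      by_contra hne'
      obtain ⟨k, hk⟩ := hdvd
      have hk2 : 2 ≤ k := by
        rcases k with _ | _ | k
        · omega
        · exact absurd (by simpa using hk.symm) hne'
        · omega
      have hB2 : 2 * Nat.card B ≤ q := by rw [hk, mul_comm 2]; exact Nat.mul_le_mul_left _ hk2
      obtain ⟨B', hB'⟩ := Nat.exists_eq_succ_of_ne_zero (Nat.card_pos (α := B)).ne'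
      rw [hB'] at heq hkey hB2
      simp only [Nat.succ_sub_one, ← hQ] at heq
      obtain ⟨Q', hQ'⟩ : ∃ Q', Q = Q' + 1 := ⟨Q - 1, by omega⟩
      rw [hQ', add_tsub_cancel_right] at heq
      rw [hQ'] at hkey
      rw [hn] at hB2
      have e1 : n * (j * B') = n * Q' := by rw [heq]
      have e2 := Nat.mul_le_mul_left (j * n) (show 2 * B' + 1 ≤ n by omega)
      have hQn : 2 * n ≤ Q' := by
        have : q ^ 2 ≤ Q := sq_le_card_comp hm h
        rw [hn, hQ'] at this
        nlinarith
      nlinarith
    have hline : ∀ r : F, r • b ∈ B := by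
      intro r
      obtain ⟨x, hx⟩ := ((Nat.bijective_iff_injective_and_card _).2 ⟨hsinj, hBeq⟩).2 r
      rw [← show s x x.2 = r from hx, ← hs x x.2]
      exact x.2
    have hsub : ∀ x : uS H w u, sympForm m F b x = 0 := fun x => by
      rw [form_comm]
      exact eq_zero_of_functional hψ fun r => by
        have := (hline r).2 x x.2
        rwa [form_smul_right] at this
    refine Or.inr ⟨b, hbB.1, hb0, fun l hl ⟨r, hr⟩ => hblk b hbB hb0 l hl (hr ▸ hline r),
      fun a ha hab => ?_, fun a ha => hsub ⟨a, ha⟩⟩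
    let ι : uS H w u → {a : comp w u // sympForm m F b (a : Fin m ⊕ Fin m → F) = 0} :=
      fun x => ⟨⟨x.1, x.2.1⟩, hsub x⟩
    have hι : Function.Injective ι := fun x y e =>
      Subtype.ext (congrArg (fun z : {a : comp w u // sympForm m F b
        (a : Fin m ⊕ Fin m → F) = 0} => z.1.1) e)
    have hc2 : Nat.card (uS H w u) =
        Nat.card {a : comp w u // sympForm m F b (a : Fin m ⊕ Fin m → F) = 0} := by
      refine Nat.eq_of_mul_eq_mul_right (show 0 < q by omega) ?_
      rw [card_perp h hbB.1 hb0, ← hQ, ← hcard, hBeq, mul_comm]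
    obtain ⟨x, hx⟩ := ((Nat.bijective_iff_injective_and_card _).2 ⟨hι, hc2⟩).2 ⟨⟨a, ha⟩, hab⟩
    rw [← show x.1 = a from congrArg (fun z => z.1.1) hx]
    exact x.2

/-- At a point that is not `Rad`: the graph is flat, and a witness point is found. -/
theorem nonrad_flat [Fintype F] (hm : 2 ≤ m) (hq : 4 ≤ Nat.card F) (hH : SmallIdx H)
    (hT : tC H w = ⊥) (hw : w ≠ 0) (h : sympForm m F w u = 1) (hR : ¬ Rad H w) :
    (∀ a ∈ comp w u, ∀ c : F, heis w a c ∈ H → c = 0) ∧
      ∃ b ∈ comp w u, b ≠ 0 ∧ ∃ e ∈ comp w u, ∃ c κ : F, e = κ • b ∧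
        heis w e c * transv b 1 ∈ H := by
  classical
  obtain ⟨-, hshape⟩ := nonrad_shape hm hq hH hT hw h hR
  have hflat : ∀ a ∈ comp w u, ∀ c : F, heis w a c ∈ H → c = 0 := by
    rcases hshape with ⟨hU, -⟩ | ⟨b, hb, hb0, hπ, hU, hU'⟩
    · intro a ha c hc
      obtain rfl := hU a ⟨ha, c, hc⟩
      refine unique_c hT (form_zero_left _) hc ?_
      rw [heis_zero, transv_zero]; exact one_mem H
    obtain ⟨b', hb', hbb⟩ := exists_comp_one h hb hb0
    by_cases hsmall : ∀ a ∈ comp w u, sympForm m F b a = 0 → ∃ s : F, a = s • b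
    · intro a ha c hc
      obtain ⟨r, rfl⟩ : ∃ r : F, a = r • b := by
        exact hsmall a ha (hU' a ⟨ha, c, hc⟩)
      by_cases hr : r = 0
      · rw [hr, zero_smul] at hc
        refine unique_c hT (form_zero_left _) hc ?_
        rw [heis_zero, transv_zero]; exact one_mem H
      obtain ⟨s, hs0, hs1⟩ : ∃ s : F, s ≠ 0 ∧ s ≠ 1 := by
        by_contra hall
        push Not at hall
        have : Nat.card F ≤ 2 := by
          rw [Nat.card_eq_fintype_card, ← Finset.card_univ]
          refine (Finset.card_le_card (t := ({0, 1} : Finset F)) fun x _ => ?_).trans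
            Finset.card_le_two
          by_cases hx : x = 0
          · simp [hx]
          · simp [hall x hx]
        omega
      have hdil : ∀ σ : F, σ ≠ 0 → heis w (σ • r • b) c ∈ H := fun σ hσ => by
        have := pi_map (hπ _ (dil_mem_levi hbb hb hb' (Units.mk0 σ hσ)) ⟨_, dil_left hbb _⟩) ha hc
        rwa [scalar_smul, dil_left, Units.val_mk0, smul_comm] at this
      have hs2 : s + 1 ≠ 0 := fun e => hs1 (CharTwo.add_eq_zero.1 e)
      have hp := mul_mem (hdil s hs0) (hdil _ hs2)
      rw [heis_mul (comp_perp (Submodule.smul_mem _ _ ha)) (comp_perp (Submodule.smul_mem _ _ ha)),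
        ← add_smul, show s + (s + 1) = 1 by rw [← add_assoc, CharTwo.add_self_eq_zero, zero_add],
        one_smul, CharTwo.add_self_eq_zero, zero_add, form_smul_left, form_smul_right, form_self,
        mul_zero, mul_zero] at hp
      exact unique_c hT (comp_perp ha) hc hp
    · exfalso
      push Not at hsmall
      obtain ⟨x, hx, hxb, hxs⟩ := hsmall
      set v := proj b b' x with hv
      have hvm : v ∈ comp w u :=
        sub_mem (sub_mem hx (Submodule.smul_mem _ _ hb)) (Submodule.smul_mem _ _ hb')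
      have hbv : sympForm m F b v = 0 := (mem_comp.1 (proj_mem hbb x)).1
      have hb'v : sympForm m F b' v = 0 := (mem_comp.1 (proj_mem hbb x)).2
      have hv0 : v ≠ 0 := by
        intro e
        rw [hv, proj, hxb, zero_smul, sub_zero, sub_eq_zero] at e
        exact hxs _ e
      obtain ⟨a₀, ha₀, hva⟩ := exists_comp_one h hvm hv0
      set a := a₀ - sympForm m F b a₀ • b' with ha
      have ham : a ∈ comp w u := sub_mem ha₀ (Submodule.smul_mem _ _ hb')
      have hba : sympForm m F b a = 0 := by rw [ha, form_sub_right, form_smul_right, hbb]; ring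
      have hva' : sympForm m F a v = 1 := by
        rw [ha, form_sub_left, form_smul_left, hb'v, mul_zero, sub_zero, form_comm, hva]
      have hrel : ∀ t α : F, heis w ((t * α) • v) (t * α * α) ∈ H := fun t α => by
        obtain ⟨-, c, hc⟩ := hU (α • a) (Submodule.smul_mem _ _ ham)
          (by rw [form_smul_right, hba, mul_zero])
        have h1 := pi_map (hπ _ (transv_mem_levi hvm t)
          ⟨1, by rw [transv_smul, hbv, mul_zero, zero_smul, add_zero, one_smul]⟩)
          (Submodule.smul_mem _ _ ham) hc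
        rw [transv_smul, form_smul_left, hva', mul_one] at h1
        have h2 := diff_mem (Submodule.smul_mem _ _ ham) (Submodule.smul_mem _ _ hvm) h1 hc
        rwa [form_smul_left, form_smul_right, hva', mul_one, mul_comm α] at h2
      obtain ⟨s, hs0, hs1⟩ : ∃ s : F, s ≠ 0 ∧ s ≠ 1 := by
        by_contra hall
        push Not at hall
        have : Nat.card F ≤ 2 := by
          rw [Nat.card_eq_fintype_card, ← Finset.card_univ]
          refine (Finset.card_le_card (t := ({0, 1} : Finset F)) fun x _ => ?_).trans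
            Finset.card_le_two
          by_cases hx : x = 0
          · simp [hx]
          · simp [hall x hx]
        omega
      have h1 := hrel 1 1
      have h2 := hrel s s⁻¹
      rw [mul_inv_cancel₀ hs0, one_mul] at h2
      rw [one_mul, one_mul] at h1
      refine hs1 ?_
      have := unique_c hT (comp_perp (Submodule.smul_mem _ _ hvm)) h1 h2
      rwa [eq_comm, inv_eq_one] at this
  refine ⟨hflat, ?_⟩
  -- lifts square to flat elements
  have hsq : ∀ v ∈ comp w u, v ≠ 0 → ∀ e ∈ comp w u, ∀ c : F,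
      heis w e c * transv v 1 ∈ H → sympForm m F e v = 0 := by
    intro v hv _ e he c hg
    have hm' := mul_mem hg hg
    rw [show heis w e c * transv v 1 * (heis w e c * transv v 1) =
        heis w e c * (transv v 1 * heis w e c) * transv v 1 by group,
      levi_heis (transv_mem_levi hv 1), ← mul_assoc, mul_assoc (_ * _), transv_add,
      CharTwo.add_self_eq_zero, transv_zero, mul_one,
      heis_mul (comp_perp he) (comp_perp (levi_maps (transv_mem_levi hv 1) he)),
      CharTwo.add_self_eq_zero, zero_add] at hm'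
    have := hflat _ (add_mem he (levi_maps (transv_mem_levi hv 1) he)) _ hm'
    rw [transv_smul, one_mul, form_add_left, form_self, zero_add, form_smul_left,
      form_comm v e] at this
    exact pow_eq_zero_iff two_ne_zero |>.1 ((sq _).trans this)
  rcases hshape with ⟨hU, hall⟩ | ⟨b, hb, hb0, hπ, hU, -⟩
  · obtain ⟨b, hb, hb0⟩ : ∃ b ∈ comp w u, b ≠ 0 := by
      refine Submodule.exists_mem_ne_zero_of_ne_bot fun e => ?_
      have := finrank_comp h
      rw [e, finrank_bot] at this
      omega
    obtain ⟨-, e, he, c, hg⟩ := hall _ (transv_mem_levi hb 1)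
    obtain ⟨b', hb', hbb⟩ := exists_comp_one h hb hb0
    refine ⟨b, hb, hb0, e, he, c, sympForm m F e b', ?_, hg⟩
    have heb := hsq b hb hb0 e he c hg
    set e' := e - sympForm m F e b' • b with he'
    by_contra hne
    obtain ⟨v₀, hv₀, hev⟩ := exists_comp_one h (a := e')
      (sub_mem he (Submodule.smul_mem _ _ hb)) (fun h0 => hne (sub_eq_zero.1 h0))
    set v := proj b b' v₀ with hv
    have hvm : v ∈ comp w u :=
      sub_mem (sub_mem hv₀ (Submodule.smul_mem _ _ hb)) (Submodule.smul_mem _ _ hb')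
    have hbv : sympForm m F b v = 0 := (mem_comp.1 (proj_mem hbb v₀)).1
    have hb'v : sympForm m F b' v = 0 := (mem_comp.1 (proj_mem hbb v₀)).2
    have hev' : sympForm m F e v = 1 := by
      rw [he', form_sub_left, form_smul_left] at hev
      rw [hv, proj]
      simp only [form_sub_right, form_smul_right, heb, form_comm v₀ b'] at *
      linear_combination hev + (sympForm m F e b' * sympForm m F b v₀ -
        sympForm m F b v₀ * sympForm m F e b') * 0
    have hv0 : v ≠ 0 := fun h0 => one_ne_zero (α := F) (by rw [← hev', h0, form_zero_right])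
    obtain ⟨-, e₂, he₂, c₂, hg₂⟩ := hall _ (transv_mem_levi hvm 1)
    have hcomm : ∀ (v₁ v₂ a₁ a₂ : Fin m ⊕ Fin m → F) (c₁ c₂ : F), v₁ ∈ comp w u → a₁ ∈ comp w u →
        a₂ ∈ comp w u → heis w a₁ c₁ * transv v₁ 1 * (heis w a₂ c₂ * transv v₂ 1) =
        heis w (a₁ + transv v₁ 1 • a₂) (c₁ + c₂ + sympForm m F (transv v₁ 1 • a₂) a₁) *
          (transv v₁ 1 * transv v₂ 1) := by
      intro v₁ v₂ a₁ a₂ c₁ c₂ hv₁ ha₁ ha₂
      rw [← heis_mul (comp_perp ha₁) (comp_perp (levi_maps (transv_mem_levi hv₁ 1) ha₂)),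
        mul_assoc (heis w a₁ c₁) _ _, ← mul_assoc (transv v₁ 1), levi_heis (transv_mem_levi hv₁ 1),
        mul_assoc, mul_assoc]
    have hq1 := mul_mem (mul_mem hg hg₂) (inv_mem (mul_mem hg₂ hg))
    rw [hcomm b v e e₂ c c₂ hb he he₂, hcomm v b e₂ e c₂ c hvm he₂ he,
      SymplecticRootGroups.transv_comm_of_perp hbv 1 1, _root_.mul_inv_rev, ← mul_assoc,
      mul_assoc (heis w _ _), mul_inv_cancel, mul_one,
      heis_inv (comp_perp (add_mem he₂ (levi_maps (transv_mem_levi hvm 1) he))),
      heis_mul (comp_perp (add_mem he (levi_maps (transv_mem_levi hb 1) he₂)))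
        (comp_perp (neg_mem (add_mem he₂ (levi_maps (transv_mem_levi hvm 1) he))))] at hq1
    have h0 := hU _ ⟨add_mem (add_mem he (levi_maps (transv_mem_levi hb 1) he₂))
      (neg_mem (add_mem he₂ (levi_maps (transv_mem_levi hvm 1) he))), _, hq1⟩
    have h0' := congrArg (fun z => sympForm m F z b') h0
    simp only [transv_smul, one_mul, hev', form_add_left, form_neg_left, form_smul_left, one_smul,
      form_zero_left, hbb, form_comm v b', hb'v, mul_zero, add_zero, mul_one] at h0'
    have hz : sympForm m F e₂ b = 0 := by linear_combination h0'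
    rw [transv_smul, transv_smul, one_mul, one_mul, hz, zero_smul, add_zero, hev', one_smul] at h0
    exact hv0 (by
      rw [← neg_eq_zero, ← h0]; abel)
  · obtain ⟨b', hb', hbb⟩ := exists_comp_one h hb hb0
    obtain ⟨-, e, he, c, hg⟩ := hπ _ (transv_mem_levi hb 1)
      ⟨1, by rw [transv_smul, form_self]; simp⟩
    refine ⟨b, hb, hb0, e, he, c, sympForm m F e b', ?_, hg⟩
    have heb := hsq b hb hb0 e he c hg
    set e' := e - sympForm m F e b' • b with he'
    by_contra hne
    -- otherwise `e'` and `b` give a two-dimensional flat radical part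
    obtain ⟨v₀, hv₀, hev⟩ := exists_comp_one h (a := e')
      (sub_mem he (Submodule.smul_mem _ _ hb)) (fun h0 => hne (sub_eq_zero.1 h0))
    set v := proj b b' v₀ with hv
    have hvm : v ∈ comp w u :=
      sub_mem (sub_mem hv₀ (Submodule.smul_mem _ _ hb)) (Submodule.smul_mem _ _ hb')
    have hbv : sympForm m F b v = 0 := (mem_comp.1 (proj_mem hbb v₀)).1
    have hev' : sympForm m F e v = 1 := by
      rw [he', form_sub_left, form_smul_left] at hev
      rw [hv, proj]
      simp only [form_sub_right, form_smul_right, heb, form_comm v₀ b'] at *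
      linear_combination hev
    have hbe : sympForm m F b e = 0 := by rw [form_comm]; exact heb
    obtain ⟨-, c₁, hc₁⟩ := hU e he hbe
    obtain rfl := hflat e he c₁ hc₁
    have h1 := pi_map (hπ _ (transv_mem_levi hvm 1)
      ⟨1, by rw [transv_smul, hbv, mul_zero, zero_smul, add_zero, one_smul]⟩) he hc₁
    rw [transv_smul, hev', mul_one, one_smul] at h1
    have h2 := diff_mem he hvm h1 hc₁
    rw [hev'] at h2
    exact one_ne_zero (hflat v hvm 1 h2)

end Cfsg.Agent.MinIndexSpEven
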