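import Mathlib
import Cfsg.Agent.Lib.MinIndexSpEven

/-!
Even `q ≥ 4`: every vector is `Rad`, and then two perpendicular radical elements give a
transvection.
-/

set_option autoImplicit false

open Matrix Cfsg Cfsg.Agent.SymplecticBasic Cfsg.Agent.SymplecticSimple Cfsg.Agent.MinIndexSpHeis
  Cfsg.Agent.MinIndexSpCount Cfsg.Agent.MinIndexSpShare Cfsg.Agent.MinIndexSpTools
  Cfsg.Agent.MinIndexSpClosure Cfsg.Agent.MinIndexSpRad Cfsg.Agent.MinIndexSpForms
  Cfsg.Agent.MinIndexSpEven

namespace Cfsg.Agent.MinIndexSpEvenMain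

variable {F : Type*} [Field F] [CharP F 2] [Fintype F] {m : ℕ}
  {H : Subgroup (symplecticGroup (Fin m) F)} {w u : Fin m ⊕ Fin m → F}

theorem sixteen_le (hm : 2 ≤ m) (hq : 4 ≤ Nat.card F) (h : sympForm m F w u = 1) :
    16 ≤ Nat.card (comp w u) :=
  le_trans (by nlinarith) (sq_le_card_comp hm h)

/-- At a `Rad` vector the graph is the graph of a form preserved by `piG`. -/
theorem rad_form (hT : tC H w = ⊥) (h : sympForm m F w u = 1) (hR : Rad H w)
    {ψ : F →+ ZMod 2} (hψ : IsFunctional ψ) :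
    ∃ Φ, IsForm Φ ∧ ∀ p ∈ piG H w u, ∀ a ∈ comp w u, ψ (Φ (p • a)) = ψ (Φ a) := by
  classical
  let φ : (Fin m ⊕ Fin m → F) → F := fun a =>
    if ha : a ∈ comp w u then (hR a (comp_perp ha)).choose else 0
  have hφ : ∀ a ∈ comp w u, heis w a (φ a) ∈ H := fun a ha => by
    simp only [φ, dif_pos ha]
    exact (hR a (comp_perp ha)).choose_spec
  obtain ⟨Φ, hΦ, hP⟩ := exists_form_rep h hψ (fun a => ψ (φ a)) fun a ha b hb => by
    have := mul_mem (hφ a ha) (hφ b hb)
    rw [heis_mul (comp_perp ha) (comp_perp hb)] at this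
    rw [unique_c hT (comp_perp (add_mem ha hb)) (hφ _ (add_mem ha hb)) this, map_add, map_add,
      form_comm a b]
  refine ⟨Φ, hΦ, fun p hp a ha => ?_⟩
  rw [← hP a ha, ← hP _ (levi_maps hp.1 ha)]
  exact congrArg ψ (unique_c hT (comp_perp (levi_maps hp.1 ha)) (hφ _ (levi_maps hp.1 ha))
    (pi_map hp ha (hφ a ha)))

/-- A vector that is not `Rad` produces one that is. -/
theorem exists_rad (hm : 2 ≤ m) (hq : 4 ≤ Nat.card F) (hH : SmallIdx H)
    (hT : ∀ v : Fin m ⊕ Fin m → F, v ≠ 0 → tC H v = ⊥) (hw : w ≠ 0) (hR : ¬ Rad H w) :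
    ∃ z : Fin m ⊕ Fin m → F, z ≠ 0 ∧ Rad H z := by
  obtain ⟨u, h⟩ := exists_form_eq_one hw
  obtain ⟨-, b, hb, hb0, e, he, c, κ, rfl, hg⟩ := nonrad_flat hm hq hH (hT w hw) hw h hR
  obtain ⟨σ, hσ⟩ := exists_sqrt c
  obtain ⟨b', hb', hbb⟩ := exists_comp_one h hb hb0
  have hwb : sympForm m F w b = 0 := (mem_comp.1 hb).1
  have hbw : sympForm m F b w = 0 := comp_perp hb
  have hkb : sympForm m F (κ • b) w = 0 := by rw [form_smul_left, hbw, mul_zero]
  by_cases hδ : κ + σ = 0
  · -- a transvection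
    exfalso
    have hκ : κ = σ := CharTwo.add_eq_zero.1 hδ
    have hv0 : b + κ • w ≠ 0 := fun h0 => one_ne_zero (α := F) (by
      have := congrArg (fun z => sympForm m F z b') h0
      simpa [form_add_left, form_smul_left, hbb, (mem_comp.1 hb').1] using this)
    have hmem : (1 : F) ∈ tC H (b + κ • w) := by
      rw [mem_tC]
      convert hg using 1
      refine ext_smul fun x => ?_
      rw [mul_smul, heis_smul hkb, transv_smul, transv_smul]
      simp only [form_add_left, form_add_right, form_smul_left, form_smul_right, form_self, hbw,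
        hwb, hκ, ← hσ, mul_zero, add_zero, zero_add]
      module
    rw [hT _ hv0, AddSubgroup.mem_bot] at hmem
    exact one_ne_zero hmem
  · set z := σ • w + b with hz
    have hz0 : z ≠ 0 := fun h0 => one_ne_zero (α := F) (by
      have := congrArg (fun z => sympForm m F z b') h0
      simpa [hz, form_add_left, form_smul_left, hbb, (mem_comp.1 hb').1] using this)
    have hwz : sympForm m F w z = 0 := by
      rw [hz, form_add_right, form_smul_right, form_self, hwb, mul_zero, add_zero]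
    have haz : sympForm m F ((κ + σ) • w) z = 0 := by rw [form_smul_left, hwz, mul_zero]
    have hmem : heis z ((κ + σ) • w) 1 ∈ H := by
      convert hg using 1
      refine ext_smul fun x => ?_
      rw [mul_smul, heis_smul hkb, transv_smul, heis_smul haz]
      simp only [hz, form_add_left, form_add_right, form_smul_left, form_smul_right, form_self, hbw,
        hwb, ← hσ, mul_zero, add_zero, zero_add]
      match_scalars <;> first | ring1 | (rw [← sub_eq_zero]; ring_nf; simp [two_eq])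
    refine ⟨z, hz0, ?_⟩
    by_contra hRz
    obtain ⟨u', h'⟩ := exists_form_eq_one hz0
    obtain ⟨hflat, -⟩ := nonrad_flat hm hq hH (hT z hz0) hz0 h' hRz
    refine one_ne_zero (α := F) (hflat _ (proj_mem h' ((κ + σ) • w)) 1 ?_)
    rwa [← heis_proj haz h']

/-- Every vector is `Rad`. -/
theorem all_rad (hm : 2 ≤ m) (hq : 4 ≤ Nat.card F) (hH : SmallIdx H)
    (hT : ∀ v : Fin m ⊕ Fin m → F, v ≠ 0 → tC H v = ⊥) (hw : w ≠ 0) : Rad H w := by
  have : Fact (Nat.Prime 2) := ⟨Nat.prime_two⟩
  by_contra hR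
  obtain ⟨z, hz, hRz⟩ := exists_rad hm hq hH hT hw hR
  obtain ⟨u, h⟩ := exists_form_eq_one hw
  obtain ⟨u', h'⟩ := exists_form_eq_one hz
  have h1 := (nonrad_shape hm hq hH (hT w hw) hw h hR).1
  have hne : tC H z ≠ ⊤ := by
    rw [hT z hz]; intro e
    exact one_ne_zero ((AddSubgroup.mem_bot).1 (e ▸ AddSubgroup.mem_top (1 : F)))
  obtain ⟨ψ, hψ, -⟩ := exists_functional (p := 2) hne
  obtain ⟨Φ, hΦ, hπ⟩ := rad_form (hT z hz) h' hRz hψ
  have h2 := jdx_ge H h' hΦ hψ hπ (sixteen_le hm hq h') (fun _ : Fin 1 => 1)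
    (fun _ => one_mem _) (fun _ a _ => by rw [one_smul])
    (fun i k hik => absurd (Subsingleton.elim i k) hik)
  rw [Nat.card_fin, one_mul] at h2
  have h3 : Nat.card F * jdx H z u' ≤ ridx H z := by
    rw [ridx_eq H h' hψ, hT z hz, AddSubgroup.index_bot]
    exact Nat.le_mul_of_pos_right _ Nat.card_pos
  have h4 := ridx_add_le H hw hz fun g hg e => hR (by
    have := rad_map (inv_mem hg) hRz
    rwa [← e, inv_smul_smul] at this)
  have h5 := card_bounds hm hH h
  have hQ : Nat.card (comp z u') = Nat.card (comp w u) := by rw [card_comp h', card_comp h]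
  rw [hQ] at h2
  obtain ⟨n, hn⟩ : ∃ n, Nat.card F = n + 1 := ⟨Nat.card F - 1, by omega⟩
  rw [hn, add_tsub_cancel_right] at h5
  rw [hn] at h1 h3
  have h6 : (n + 1) * (n * (Nat.card (comp w u) + jdx H z u')) <
      (n + 1) * ((n + 1) * Nat.card (comp w u)) :=
    calc (n + 1) * (n * (Nat.card (comp w u) + jdx H z u'))
        = ((n + 1) * Nat.card (comp w u) + (n + 1) * jdx H z u') * n := by ring
      _ ≤ H.index * n := Nat.mul_le_mul_right _ ((add_le_add h1 h3).trans h4)
      _ < _ := h5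
      _ = _ := by ring
  have h7 := Nat.lt_of_mul_lt_mul_left h6
  have h8 := Nat.mul_le_mul (show 3 ≤ n by omega) (le_refl (jdx H z u'))
  linarith

theorem exists_three (hq : 4 ≤ Nat.card F) (h : sympForm m F w u = 1)
    {Φ : (Fin m ⊕ Fin m → F) → F} (hΦ : IsForm Φ) (hm : 2 ≤ m) :
    ∃ v : Fin 3 → (Fin m ⊕ Fin m → F), (∀ i, v i ∈ comp w u ∧ Φ (v i) ≠ 0) ∧
      ∀ i k, i ≠ k → sympForm m F (v i) (v k) ≠ 0 := by
  classical
  obtain ⟨b₀, hb₀, hb00⟩ : ∃ b ∈ comp w u, b ≠ 0 := by
    refine Submodule.exists_mem_ne_zero_of_ne_bot fun e => ?_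
    have := finrank_comp h
    rw [e, finrank_bot] at this
    omega
  obtain ⟨c₀, hc₀, hbc⟩ := exists_comp_one h hb₀ hb00
  -- one nonsingular vector
  obtain ⟨u₁, hu₁, hΦ1⟩ : ∃ u₁ ∈ comp w u, Φ u₁ ≠ 0 := by
    by_contra hall
    push Not at hall
    have := hΦ.1 b₀ c₀
    rw [hall _ (add_mem hb₀ hc₀), hall _ hb₀, hall _ hc₀, hbc] at this
    simp at this
  have hu10 : u₁ ≠ 0 := fun e => hΦ1 (by rw [e, isForm_zero hΦ])
  obtain ⟨b, hb, h1b⟩ := exists_comp_one h hu₁ hu10
  have hbu : sympForm m F b u₁ = 1 := by rw [form_comm, h1b]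
  -- the singular vectors on the affine line `b + s u₁`
  let S : Finset F := Finset.univ.filter fun s => Φ (b + s • u₁) ≠ 0
  have hval : ∀ s : F, Φ (b + s • u₁) = Φ b + s ^ 2 * Φ u₁ + s := fun s => by
    rw [hΦ.1, hΦ.2, form_smul_right, hbu, mul_one]
  have hcomp : (Finset.univ \ S).card ≤ 2 := by
    rcases (Finset.univ \ S).eq_empty_or_nonempty with e | ⟨r, hr⟩
    · rw [e]; simp
    refine (Finset.card_le_card (t := ({r, r + 1 / Φ u₁} : Finset F)) fun s hs => ?_).trans
      Finset.card_le_two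
    simp only [S, Finset.mem_sdiff, Finset.mem_univ, true_and, Finset.mem_filter, not_not] at hr hs
    rw [hval] at hr hs
    have e : (s + r) * ((s + r) * Φ u₁ + 1) = 0 := by
      linear_combination hs + hr + (s * r * Φ u₁ - Φ b) * two_eq (F := F)
    rcases mul_eq_zero.1 e with e | e
    · simp [CharTwo.add_eq_zero.1 e]
    · simp only [Finset.mem_insert, Finset.mem_singleton]
      right
      field_simp
      linear_combination e - (r * Φ u₁ + 1) * two_eq (F := F)
  have hS : 2 ≤ S.card := by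
    have := Finset.card_sdiff_add_card_eq_card (Finset.subset_univ S)
    rw [Finset.card_univ, ← Nat.card_eq_fintype_card] at this
    omega
  obtain ⟨s₂, hs₂, s₃, hs₃, h23⟩ := Finset.one_lt_card.1 hS
  simp only [S, Finset.mem_filter, Finset.mem_univ, true_and] at hs₂ hs₃
  refine ⟨![u₁, b + s₂ • u₁, b + s₃ • u₁], fun i => ?_, fun i k hik => ?_⟩
  · fin_cases i
    · exact ⟨hu₁, hΦ1⟩
    · exact ⟨add_mem hb (Submodule.smul_mem _ _ hu₁), hs₂⟩
    · exact ⟨add_mem hb (Submodule.smul_mem _ _ hu₁), hs₃⟩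
  · fin_cases i <;> fin_cases k <;> simp only [ne_eq, not_true_eq_false] at hik ⊢ <;>
      simp [form_add_left, form_add_right, form_smul_left, form_smul_right, form_self, h1b, hbu,
        h23, h23.symm, CharTwo.add_eq_zero]

/-- The radical part of a `Rad` vector contains a special line. -/
theorem exists_line (hm : 2 ≤ m) (hq : 4 ≤ Nat.card F) (hH : SmallIdx H) (hT : tC H w = ⊥)
    (hw : w ≠ 0) (h : sympForm m F w u = 1) (hR : Rad H w) :
    ∃ v ∈ comp w u, ∃ t : F, t ≠ 0 ∧ ∀ y : F, heis w (y • v) (y ^ 2 / t) ∈ H := by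
  classical
  have : Fact (Nat.Prime 2) := ⟨Nat.prime_two⟩
  have hne : tC H w ≠ ⊤ := by
    rw [hT]; intro e
    exact one_ne_zero ((AddSubgroup.mem_bot).1 (e ▸ AddSubgroup.mem_top (1 : F)))
  obtain ⟨ψ, hψ, -⟩ := exists_functional (p := 2) hne
  obtain ⟨Φ, hΦ, hπ⟩ := rad_form hT h hR hψ
  obtain ⟨v, hv, hvv⟩ := exists_three hq h hΦ hm
  let g : Option (Fin 3) → symplecticGroup (Fin m) F :=
    fun o => o.elim 1 fun i => transv (v i) (1 / Φ (v i))
  have hgL : ∀ o, g o ∈ levi w u := fun o => by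
    cases o with
    | none => exact one_mem _
    | some i => exact transv_mem_levi (hv i).1 _
  have hgΦ : ∀ o, ∀ a ∈ comp w u, Φ (g o • a) = Φ a := fun o a _ => by
    cases o with
    | none => exact congrArg Φ (one_smul _ a)
    | some i =>
      show Φ (transv (v i) _ • a) = Φ a
      rw [transv_smul, hΦ.1, hΦ.2, form_smul_right]
      have := (hv i).2
      field_simp
      linear_combination sympForm m F a (v i) ^ 2 * two_eq (F := F)
  -- the pigeonhole
  obtain ⟨o, o', hoo, hmem⟩ : ∃ o o', o ≠ o' ∧ g o * (g o')⁻¹ ∈ piG H w u := by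
    by_contra hall
    push Not at hall
    have h2 := jdx_ge H h hΦ hψ hπ (sixteen_le hm hq h) g hgL hgΦ hall
    rw [Nat.card_eq_fintype_card, Fintype.card_option, Fintype.card_fin] at h2
    have h3 : Nat.card F * jdx H w u ≤ H.index := by
      refine le_trans ?_ (ridx_le H hw)
      rw [ridx_eq H h hψ, hT, AddSubgroup.index_bot]
      exact Nat.le_mul_of_pos_right _ Nat.card_pos
    have h5 := card_bounds hm hH h
    obtain ⟨n, hn⟩ : ∃ n, Nat.card F = n + 1 := ⟨Nat.card F - 1, by omega⟩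
    rw [hn, add_tsub_cancel_right] at h5
    rw [hn] at h3
    have h6 : (n + 1) * (n * jdx H w u) < (n + 1) * ((n + 1) * Nat.card (comp w u)) :=
      calc (n + 1) * (n * jdx H w u) = (n + 1) * jdx H w u * n := by ring
        _ ≤ H.index * n := Nat.mul_le_mul_right _ h3
        _ < _ := h5
        _ = _ := by ring
    have h7 := Nat.lt_of_mul_lt_mul_left h6
    have h8 := Nat.mul_le_mul_left n h2
    have h9 := Nat.mul_le_mul_right (Nat.card (comp w u)) (show 3 ≤ n by omega)
    linarith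
  -- some `x` on which the product acts as one transvection
  obtain ⟨i, x, hx, hxv, hact⟩ : ∃ (i : Fin 3) (x : Fin m ⊕ Fin m → F), x ∈ comp w u ∧
      sympForm m F x (v i) ≠ 0 ∧
      ∀ α : F, (g o * (g o')⁻¹) • (α • x) = transv (v i) (1 / Φ (v i)) • (α • x) := by
    have hinv : ∀ i, (g (some i))⁻¹ = g (some i) := fun i => by
      show (transv _ _)⁻¹ = transv _ _
      rw [transv_inv, CharTwo.neg_eq]
    obtain ⟨p, hp⟩ : ∃ p : Fin 3 → Fin 3, ∀ i, p i ≠ i := ⟨fun i => i + 1, by decide⟩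
    rcases o with _ | i <;> rcases o' with _ | k
    · exact absurd rfl hoo
    · refine ⟨k, v (p k), (hv _).1, hvv _ _ (hp k), fun α => ?_⟩
      rw [hinv, show g none = 1 from rfl, one_mul]; rfl
    · refine ⟨i, v (p i), (hv _).1, hvv _ _ (hp i), fun α => ?_⟩
      rw [show g none = 1 from rfl, inv_one, mul_one]; rfl
    · have hik : k ≠ i := fun e => hoo (by rw [e])
      refine ⟨i, v k, (hv k).1, hvv k i hik, fun α => ?_⟩
      rw [mul_smul, hinv]
      have : g (some k) • (α • v k) = α • v k := by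
        show transv _ _ • _ = _
        rw [transv_smul, form_smul_left, form_self]; simp
      rw [this]; rfl
  refine ⟨v i, (hv i).1, 1 / Φ (v i), one_div_ne_zero (hv i).2, fun y => ?_⟩
  set t := 1 / Φ (v i)
  have ht : t ≠ 0 := one_div_ne_zero (hv i).2
  set α := y / (t * sympForm m F x (v i)) with hα
  have hax : α • x ∈ comp w u := Submodule.smul_mem _ _ hx
  obtain ⟨c, hc⟩ := hR _ (comp_perp hax)
  have h1 := pi_map hmem hax hc
  rw [hact, transv_smul, form_smul_left,
    show t * (α * sympForm m F x (v i)) = y by rw [hα]; field_simp] at h1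
  have h2 := diff_mem hax (Submodule.smul_mem _ _ (hv i).1) h1 hc
  rwa [form_smul_left, form_smul_right,
    show α * (y * sympForm m F x (v i)) = y ^ 2 / t by rw [hα]; field_simp] at h2

/-- Even `q`: no proper subgroup of small index. -/
theorem even_false (hm : 2 ≤ m) (hq : 4 ≤ Nat.card F) (hH : SmallIdx H) (hne : H ≠ ⊤) : False := by
  have hT : ∀ v : Fin m ⊕ Fin m → F, v ≠ 0 → tC H v = ⊥ := fun v hv => tC_eq_bot hm hq hH hne hv
  obtain ⟨w, hw⟩ : ∃ w : Fin m ⊕ Fin m → F, w ≠ 0 :=
    ⟨Pi.single (Sum.inl ⟨0, by omega⟩) 1, by simp⟩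
  obtain ⟨u₀, h⟩ := exists_form_eq_one hw
  obtain ⟨v, hv, t, ht, hline⟩ := exists_line hm hq hH (hT w hw) hw h (all_rad hm hq hH hT hw)
  have hvw : sympForm m F v w = 0 := comp_perp hv
  have hwv : sympForm m F w v = 0 := (mem_comp.1 hv).1
  have hyw : ∀ y : F, sympForm m F (y • w) v = 0 := fun y => by
    rw [form_smul_left, hwv, mul_zero]
  have hyv : ∀ y : F, sympForm m F (y • v) w = 0 := fun y => by
    rw [form_smul_left, hvw, mul_zero]
  have hv0 : v ≠ 0 := by
    intro e
    have h1 := hline 1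
    rw [e, smul_zero, heis_zero, one_pow] at h1
    have : (1 : F) / t ∈ tC H w := h1
    rw [hT w hw, AddSubgroup.mem_bot] at this
    exact one_div_ne_zero ht this
  choose B hB using fun y : F => all_rad hm hq hH hT hv0 (y • w) (hyw y)
  obtain ⟨y, hy, hBy⟩ : ∃ y, y ≠ 0 ∧ B y ≠ t := by
    by_contra hall
    push Not at hall
    obtain ⟨s, hs0, hs1⟩ : ∃ s : F, s ≠ 0 ∧ s ≠ 1 := by
      by_contra hsm
      push Not at hsm
      have : Nat.card F ≤ 2 := by
        classical
        rw [Nat.card_eq_fintype_card, ← Finset.card_univ]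
        refine (Finset.card_le_card (t := ({0, 1} : Finset F)) fun x _ => ?_).trans
          Finset.card_le_two
        by_cases hx : x = 0
        · simp [hx]
        · simp [hsm x hx]
      omega
    have h2 := mul_mem (hB s) (hB 1)
    rw [heis_mul (hyw s) (hyw 1), hall s hs0, hall 1 one_ne_zero, CharTwo.add_self_eq_zero,
      zero_add, ← add_smul, form_smul_left, form_smul_right, form_self, mul_zero, mul_zero] at h2
    have h3 := hB (s + 1)
    rw [hall _ fun e => hs1 (CharTwo.add_eq_zero.1 e)] at h3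
    exact ht (unique_c (hT v hv0) (hyw _) h3 h2)
  obtain ⟨ρ, hρ⟩ := exists_sqrt (B y / t)
  have hρ1 : 1 + ρ ≠ 0 := fun e => hBy (by
    rw [← CharTwo.add_eq_zero.1 e, one_pow, eq_comm, div_eq_one_iff_eq ht] at hρ
    exact hρ)
  set s := y / (1 + ρ) with hs
  have hs0 : s ≠ 0 := div_ne_zero hy hρ1
  have hsy : s + y = ρ * s := by
    rw [hs]; field_simp
    linear_combination two_eq (F := F)
  have hB' : B y = ρ ^ 2 * t := by rw [hρ]; field_simp
  clear_value s
  have hg := mul_mem (hline s) (hB y)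
  have hz0 : w + (ρ * t / s) • v ≠ 0 := fun e => one_ne_zero (α := F) (by
    have := congrArg (fun z => sympForm m F z u₀) e
    simpa [form_add_left, form_smul_left, h, comp_perp' hv] using this)
  have hmem : s ^ 2 / t ∈ tC H (w + (ρ * t / s) • v) := by
    rw [mem_tC]
    convert hg using 1
    refine ext_smul fun x => ?_
    rw [mul_smul, heis_smul (hyv s), heis_smul (hyw y), transv_smul]
    simp only [form_add_left, form_add_right, form_smul_left, form_smul_right, form_self, hvw, hwv,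
      mul_zero, add_zero, zero_add, hB']
    have e1 : s ^ 2 / t * (ρ * t / s) = s + y := by rw [hsy]; field_simp
    have e2 : s ^ 2 / t * (ρ * t / s) * (ρ * t / s) = ρ ^ 2 * t := by field_simp
    generalize s ^ 2 / t = C at e1 e2 ⊢
    generalize ρ * t / s = K at e1 e2 ⊢
    generalize ρ ^ 2 * t = D at e2 ⊢
    match_scalars
    · ring
    · linear_combination sympForm m F x v * e1
    · linear_combination sympForm m F x w * e1 + sympForm m F x v * e2
  rw [hT _ hz0, AddSubgroup.mem_bot] at hmem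
  exact div_ne_zero (pow_ne_zero 2 hs0) ht hmem

end Cfsg.Agent.MinIndexSpEvenMain
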