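import Mathlib
import Cfsg.Agent.Lib.MinIndexSpTools
import Cfsg.Agent.Lib.SymplecticRootGroups

/-!
Odd `q`: a subgroup of small index of `Sp_2m(q)` contains a full transvection group.
-/

set_option autoImplicit false

open Matrix Cfsg Cfsg.Agent.SymplecticBasic Cfsg.Agent.SymplecticSimple Cfsg.Agent.MinIndexSpHeis
  Cfsg.Agent.MinIndexSpCount Cfsg.Agent.MinIndexSpShare Cfsg.Agent.MinIndexSpTools
  Cfsg.Agent.MinIndexSpClosure

namespace Cfsg.Agent.MinIndexSpOdd

variable {F : Type*} [Field F] {m : ℕ} {H : Subgroup (symplecticGroup (Fin m) F)}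
  {w u : Fin m ⊕ Fin m → F}

theorem negComp_comm (h : sympForm m F w u = 1) {l : symplecticGroup (Fin m) F}
    (hl : l ∈ levi w u) : negComp w u h * l = l * negComp w u h := by
  obtain ⟨h1, h2⟩ := mem_levi.1 hl
  refine ext_smul fun x => ?_
  have e1 : sympForm m F (l • x) u = sympForm m F x u := by
    conv_lhs => rw [← h2]
    rw [form_map]
  have e2 : sympForm m F w (l • x) = sympForm m F w x := by
    conv_lhs => rw [← h1]
    rw [form_map]
  rw [mul_smul, mul_smul, negComp_smul, negComp_smul, e1, e2, add_smul', add_smul', scalar_smul,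
    scalar_smul, h1, h2, ← neg_one_smul F x, scalar_smul, neg_one_smul]

theorem transv_comm_levi {l : symplecticGroup (Fin m) F} (hl : l ∈ levi w u) (c : F) :
    l * transv w c = transv w c * l := by
  have := levi_heis hl (0 : Fin m ⊕ Fin m → F) c
  rwa [smul_zero', heis_zero] at this

/-- If `negComp` is induced on the Levi factor, a conjugate of `H` contains it. -/
theorem exists_neg {p : ℕ} [CharP F p] (hodd : Odd p) (h2 : (2 : F) ≠ 0)
    (h : sympForm m F w u = 1) (hN : negComp w u h ∈ piG H w u) :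
    ∃ e : Fin m ⊕ Fin m → F, e ∈ comp w u ∧
      negComp w u h ∈ H.map (MulAut.conj (heis w e 0)).toMonoidHom := by
  obtain ⟨hNl, a, ha, c, hc⟩ := hN
  refine ⟨(-(2 : F)⁻¹) • a, Submodule.smul_mem _ _ ha, ?_⟩
  set e := (-(2 : F)⁻¹) • a with he'
  have he : e ∈ comp w u := Submodule.smul_mem _ _ ha
  set H' := H.map (MulAut.conj (heis w e 0)).toMonoidHom
  have h3 : heis w e 0 * (heis w a c * negComp w u h) * (heis w e 0)⁻¹ ∈ H' := ⟨_, hc, rfl⟩
  rw [heis_inv (comp_perp he), neg_zero,
    show heis w e 0 * (heis w a c * negComp w u h) * heis w (-e) 0 =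
      heis w e 0 * heis w a c * (negComp w u h * heis w (-e) 0) by group,
    levi_heis hNl, negComp_apply h (neg_mem he), neg_neg, ← mul_assoc,
    heis_mul (comp_perp he) (comp_perp ha),
    heis_mul (comp_perp (add_mem he ha)) (comp_perp he),
    show e + a + e = 0 by rw [he']; match_scalars; field_simp; ring, heis_zero] at h3
  set c' := 0 + c + sympForm m F a e + 0 + sympForm m F e (e + a)
  have h4 := mul_mem h3 h3
  rw [show transv w c' * negComp w u h * (transv w c' * negComp w u h) =
      transv w c' * (negComp w u h * transv w c') * negComp w u h by group,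
    transv_comm_levi hNl, ← mul_assoc, transv_add, mul_assoc, negComp_sq, mul_one] at h4
  have h5 : c' ∈ tC H' w := mem_of_two_mul hodd (by rw [two_mul]; exact h4)
  have := mul_mem (inv_mem ((mem_tC H').1 h5)) h3
  rwa [transv_inv, ← mul_assoc, transv_add, neg_add_cancel, transv_zero, one_mul] at this

/-- With `negComp` in `H`, every induced Levi element lies in `H` up to a central transvection. -/
theorem exists_lift {p : ℕ} [CharP F p] (hodd : Odd p) (h : sympForm m F w u = 1)
    (hN : negComp w u h ∈ H) {l : symplecticGroup (Fin m) F} (hl : l ∈ piG H w u) :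
    ∃ c : F, transv w c * l ∈ H := by
  obtain ⟨hl, a, ha, c, hc⟩ := hl
  have hm := mul_mem hc (inv_mem (mul_mem (mul_mem hN hc) hN))
  rw [show negComp w u h * (heis w a c * l) * negComp w u h =
      negComp w u h * heis w a c * (l * negComp w u h) by group,
    levi_heis (negComp_mem h), negComp_apply h ha, ← negComp_comm h hl,
    show heis w (-a) c * negComp w u h * (negComp w u h * l) =
      heis w (-a) c * (negComp w u h * negComp w u h) * l by group, negComp_sq, mul_one,
    show heis w a c * l * (heis w (-a) c * l)⁻¹ = heis w a c * (heis w (-a) c)⁻¹ by group,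
    heis_inv (comp_perp (neg_mem ha)), neg_neg, heis_mul (comp_perp ha) (comp_perp ha)] at hm
  have h2a : a + a ∈ uS H w u := ⟨add_mem ha ha, _, hm⟩
  have haU : a ∈ uS H w u := by
    obtain ⟨k, hk⟩ := hodd
    have := AddSubgroup.nsmul_mem _ h2a (k + 1)
    rwa [show (k + 1) • (a + a) = p • a + a by rw [hk]; module, ← Nat.cast_smul_eq_nsmul F,
      CharP.cast_eq_zero, zero_smul, zero_add] at this
  obtain ⟨-, d, hd⟩ := haU
  refine ⟨-d + c + sympForm m F a (-a), ?_⟩
  have := mul_mem (inv_mem hd) hc
  rwa [heis_inv (comp_perp ha), ← mul_assoc, heis_mul (comp_perp (neg_mem ha)) (comp_perp ha),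
    neg_add_cancel, heis_zero] at this

theorem transport {l : symplecticGroup (Fin m) F} (hl : l ∈ levi w u) {s c t : F}
    {b : Fin m ⊕ Fin m → F} (hb : b ∈ comp w u) (h1 : transv w s * l ∈ H) (h2 : transv w c * transv b t ∈ H) :
    transv w c * transv (l • b) t ∈ H := by
  have := mul_mem (mul_mem h1 h2) (inv_mem h1)
  rwa [show transv w s * l * (transv w c * transv b t) * (transv w s * l)⁻¹ =
      transv w s * (l * transv w c) * transv b t * l⁻¹ * (transv w s)⁻¹ by group,
    transv_comm_levi hl, show transv w s * (transv w c * l) * transv b t * l⁻¹ * (transv w s)⁻¹ =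
      transv w s * transv w c * (l * transv b t * l⁻¹) * (transv w s)⁻¹ by group, transv_conj,
    transv_add, transv_inv, mul_assoc, SymplecticRootGroups.transv_comm_of_perp
      (comp_perp (levi_maps hl hb)) t (-s),
    ← mul_assoc, transv_add, show s + c + -s = c by ring] at this

/-- If the Levi elements preserving the line of `b` are induced, `H` contains its transvection group. -/
theorem full_of_line [Finite F] {p : ℕ} [CharP F p] (hodd : Odd p)
    (h : sympForm m F w u = 1) (hN : negComp w u h ∈ H) {b : Fin m ⊕ Fin m → F}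
    (hb : b ∈ comp w u) (hb0 : b ≠ 0)
    (hπ : ∀ l ∈ levi w u, (∃ s : F, l • b = s • b) → l ∈ piG H w u)
    (h3 : Nat.card F = 3 → 3 ≤ m ∧ ∀ l ∈ levi w u, l ∈ piG H w u) :
    Full H b := by
  classical
  have := Fintype.ofFinite F
  intro t
  obtain ⟨c, hc⟩ := exists_lift hodd h hN
    (hπ _ (transv_mem_levi hb t) ⟨1, by rw [transv_smul, form_self]; simp⟩)
  by_cases hs : ∃ s : Fˣ, (s : F) ^ 2 ≠ 1
  · obtain ⟨s, hs⟩ := hs
    obtain ⟨b', hb', hbb⟩ := exists_comp_one h hb hb0
    have hl : dil b b' hbb s ∈ levi w u := dil_mem_levi hbb hb hb' s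
    -- apply to `t / (s² - 1)`
    have hs' : (s : F) ^ 2 - 1 ≠ 0 := sub_ne_zero.2 hs
    obtain ⟨d, hd⟩ := exists_lift hodd h hN
      (hπ _ (transv_mem_levi hb (t / ((s : F) ^ 2 - 1))) ⟨1, by rw [transv_smul, form_self]; simp⟩)
    obtain ⟨σ, hσ⟩ := exists_lift hodd h hN (hπ _ hl ⟨s, dil_left hbb s⟩)
    have e := transport hl hb hσ hd
    rw [dil_left, transv_scale] at e
    have := mul_mem (inv_mem hd) e
    rwa [_root_.mul_inv_rev, mul_assoc, ← mul_assoc (transv w d)⁻¹, inv_mul_cancel, one_mul,
      transv_inv, transv_add, show -(t / ((s : F) ^ 2 - 1)) + (s : F) ^ 2 * (t / ((s : F) ^ 2 - 1)) = t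
        by field_simp; ring] at this
  · push Not at hs
    -- then `q = 3`
    have hq3 : Nat.card F = 3 := by
      have hle : Nat.card Fˣ ≤ 2 := by
        rw [Nat.card_eq_fintype_card, ← Finset.card_univ]
        refine (Finset.card_le_card (t := ({1, -1} : Finset Fˣ)) fun x _ => ?_).trans Finset.card_le_two
        rcases sq_eq_one_iff.1 (hs x) with e | e
        · simp [Units.ext_iff, e]
        · simp [Units.ext_iff, e]
      rw [Nat.card_units] at hle
      have hge : 2 ≤ Nat.card F := Finite.one_lt_card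
      have hne2 : Nat.card F ≠ 2 := fun e => by
        have h0 := FiniteField.cast_card_eq_zero F
        rw [← Nat.card_eq_fintype_card, e, CharP.cast_eq_zero_iff F p] at h0
        rcases (Nat.dvd_prime Nat.prime_two).1 h0 with e1 | e1
        · exact CharP.char_ne_one F p e1
        · rw [e1] at hodd; exact Nat.not_odd_iff_even.2 even_two hodd
      omega
    have h30 : (3 : F) = 0 := by
      have h0 := FiniteField.cast_card_eq_zero F
      rwa [← Nat.card_eq_fintype_card, hq3, Nat.cast_ofNat] at h0
    obtain ⟨hm3, hall⟩ := h3 hq3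
    obtain ⟨b₁, hb₁, hbb⟩ := exists_comp_one h hb hb0
    obtain ⟨x, hx, hxs⟩ : ∃ x ∈ comp w u, x ∉ Submodule.span F {b, b₁} := by
      by_contra hno
      push Not at hno
      have h1 := Submodule.finrank_mono (show comp w u ≤ Submodule.span F {b, b₁} from hno)
      have h2 := finrank_span_finset_le_card (R := F) ({b, b₁} : Finset (Fin m ⊕ Fin m → F))
      have h3 : Set.finrank F (({b, b₁} : Finset (Fin m ⊕ Fin m → F)) : Set (Fin m ⊕ Fin m → F)) =
          Module.finrank F (Submodule.span F {b, b₁}) := by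
            rw [Set.finrank, Finset.coe_insert, Finset.coe_singleton]
      rw [h3] at h2
      have := h2.trans Finset.card_le_two
      rw [finrank_comp h] at h1
      omega
    set b' := proj b b₁ x with hb'd
    have hb' : b' ∈ comp w u :=
      sub_mem (sub_mem hx (Submodule.smul_mem _ _ hb)) (Submodule.smul_mem _ _ hb₁)
    have hbb' : sympForm m F b b' = 0 := (mem_comp.1 (proj_mem hbb x)).1
    have hb'b : ∀ r : F, b' ≠ r • b := by
      intro r e
      refine hxs ?_
      rw [hb'd, proj, sub_eq_iff_eq_add, sub_eq_iff_eq_add] at e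
      rw [e]
      exact add_mem (add_mem (Submodule.smul_mem _ _ (Submodule.subset_span (by simp)))
        (Submodule.smul_mem _ _ (Submodule.subset_span (by simp))))
        (Submodule.smul_mem _ _ (Submodule.subset_span (by simp)))
    have tr : ∀ y ∈ comp w u, y ≠ 0 → transv w c * transv y t ∈ H := by
      intro y hy hy0
      obtain ⟨l, hl, e⟩ := levi_transitive h hb hy hb0 hy0
      obtain ⟨σ, hσ⟩ := exists_lift hodd h hN (hall l hl)
      have := transport hl hb hσ hc
      rwa [e] at this
    have n1 : b + b' ≠ 0 := fun e => hb'b (-1) (by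
      rw [neg_one_smul]; exact eq_neg_of_add_eq_zero_right e)
    have n2 : b - b' ≠ 0 := fun e => hb'b 1 (by rw [one_smul]; exact (sub_eq_zero.1 e).symm)
    have n3 : b' ≠ 0 := fun e => hb'b 0 (by rw [e, zero_smul])
    have cw : ∀ y ∈ comp w u, ∀ s r : F, transv y s * transv w r = transv w r * transv y s :=
      fun y hy s r => SymplecticRootGroups.transv_comm_of_perp (comp_perp hy) s r
    have hpar : transv (b + b') t * transv (b - b') t = transv b (2 * t) * transv b' (2 * t) := by
      refine ext_smul fun y => ?_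
      simp only [mul_smul, transv_smul, form_add_left, form_smul_left, form_add_right,
        form_sub_right, form_sub_left, form_self, hbb', form_eq_zero_comm.1 hbb']
      module
    have hm2 : (2 : F) * t = -t := by linear_combination t * h30
    have hP := mul_mem (tr _ (add_mem hb hb') n1) (tr _ (sub_mem hb hb') n2)
    rw [mul_assoc, ← mul_assoc (transv (b + b') t), cw _ (add_mem hb hb'), mul_assoc,
      ← mul_assoc (transv w c), transv_add, hpar, hm2] at hP
    have hQ := mul_mem hc (tr _ hb' n3)
    rw [mul_assoc, ← mul_assoc (transv b t), cw _ hb, mul_assoc, ← mul_assoc (transv w c),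
      transv_add] at hQ
    have hR := mul_mem hQ hP
    rw [mul_assoc, mul_assoc, ← mul_assoc (transv b' t), cw _ hb', mul_assoc,
      ← mul_assoc (transv b t), cw _ hb, mul_assoc, ← mul_assoc (transv w _), transv_add,
      ← mul_assoc (transv b' t),
      SymplecticRootGroups.transv_comm_of_perp (form_eq_zero_comm.1 hbb') t (-t), mul_assoc,
      ← mul_assoc (transv b t), transv_add, transv_add, add_neg_cancel, transv_zero, transv_zero,
      mul_one, mul_one, show c + c + (c + c) = c by linear_combination c * h30] at hR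
    have := mul_mem (inv_mem hR) hc
    rwa [inv_mul_cancel_left] at this

/-- Odd `q`: no proper subgroup of small index. -/
theorem odd_false [Fintype F] {p : ℕ} [hp : Fact p.Prime] [CharP F p] (hodd : Odd p) (hm : 2 ≤ m)
    (hq : 3 ≤ Nat.card F) (hmq : Nat.card F = 3 → 3 ≤ m) (hH : SmallIdx H) (hne : H ≠ ⊤) :
    False := by
  classical
  obtain ⟨w, hw⟩ : ∃ w : Fin m ⊕ Fin m → F, w ≠ 0 :=
    ⟨Pi.single (Sum.inl ⟨0, by omega⟩) 1, by simp⟩
  obtain ⟨u, h⟩ := exists_form_eq_one hw
  have hV : tC H w ≠ ⊤ := fun e => not_full hq hH hne hw (full_iff_index.2 e)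
  obtain ⟨ψ, hψ, hψV⟩ := exists_functional (p := p) hV
  set B := bS H w u ψ with hB
  set Q := Nat.card (comp w u) with hQ
  set q := Nat.card F with hq'
  have hQq : q ^ 2 ≤ Q := sq_le_card_comp hm h
  have hQ0 : 0 < Q := Nat.card_pos
  -- `uS ≤ B`
  have hUB : ∀ a ∈ uS H w u, a ∈ B := by
    intro a ha
    refine ⟨ha.1, fun a' ha' => hψV _ (mem_of_two_mul hodd (neg_mem_iff.1 ?_))⟩
    have hc := ha.2.choose_spec
    have hc' := ha'.2.choose_spec
    set c := ha.2.choose
    set c' := ha'.2.choose
    have hk := mul_mem (mul_mem hc' hc) (inv_mem (mul_mem hc hc'))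
    rw [_root_.mul_inv_rev, ← mul_assoc,
      heis_inv (comp_perp ha'.1), heis_inv (comp_perp ha.1),
      heis_mul (comp_perp ha'.1) (comp_perp ha.1),
      heis_mul (comp_perp (add_mem ha'.1 ha.1)) (comp_perp (neg_mem ha'.1)),
      heis_mul (comp_perp (add_mem (add_mem ha'.1 ha.1) (neg_mem ha'.1))) (comp_perp (neg_mem ha.1)),
      show a' + a + -a' + -a = 0 by abel, heis_zero] at hk
    refine (mem_tC H).2 ?_
    convert hk using 2
    simp only [form_neg_left, form_add_right, form_neg_right, form_self, form_swap a a']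
    ring
  have hcard := card_dual H h hψ (p := p)
  obtain ⟨b, hbB, hb0⟩ : ∃ b ∈ B, b ≠ 0 := by
    by_contra hno
    push Not at hno
    have h1 : Nat.card B ≤ 1 := Finite.card_le_one_iff_subsingleton.2
      ⟨fun x y => Subtype.ext ((hno x x.2).trans (hno y y.2).symm)⟩
    have h2 : Nat.card (uS H w u) ≤ 1 := Finite.card_le_one_iff_subsingleton.2
      ⟨fun x y => Subtype.ext ((hno x (hUB x x.2)).trans (hno y (hUB y y.2)).symm)⟩
    have := Nat.mul_le_mul h1 h2
    rw [hcard] at this
    nlinarith
  -- counting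
  have hlt : jdx H w u * (Nat.card B - 1) < 2 * (Q - 1) := by
    by_contra hge
    push Not at hge
    have hridx := ridx_eq H h hψ (p := p)
    have hj : 2 * Q - 1 ≤ jdx H w u * Nat.card B := by
      have hj0 : 1 ≤ jdx H w u := by
        have := jdx_mul H w u
        rcases Nat.eq_zero_or_pos (jdx H w u) with e | e
        · rw [e, zero_mul] at this; exact absurd this.symm Nat.card_pos.ne'
        · exact e
      obtain ⟨k, hk⟩ := Nat.exists_eq_succ_of_ne_zero (Nat.card_pos (α := B)).ne'
      rw [hk] at hge ⊢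
      simp only [Nat.succ_sub_one] at hge
      rw [Nat.mul_succ]; omega
    have h1 := ridx_mul_le H hw
    have hsc : 0 < Nat.card (scalars H w) := Nat.card_pos
    have hS : H.index * (q - 1) < q ^ 2 * Q - 1 := by
      rw [hQ, ← card_comp_mul (by omega) h]; exact hH
    have key : (tC H w).index * (2 * Q - 1) * (q - 1) * (q - 1) <
        (q ^ 2 * Q - 1) * Nat.card (scalars H w) := by
      refine lt_of_le_of_lt ?_ (Nat.mul_lt_mul_of_pos_right hS hsc)
      rw [mul_right_comm H.index]
      refine Nat.mul_le_mul_right _ (le_trans (Nat.mul_le_mul_right _ ?_) h1)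
      rw [hridx, mul_assoc]
      exact Nat.mul_le_mul_left _ hj
    obtain ⟨n, hn⟩ : ∃ n, q = n + 1 := ⟨q - 1, by omega⟩
    by_cases hb : tC H w = ⊥
    · rw [hb, AddSubgroup.index_bot] at key
      have h2 := card_scalars_le_units H w
      have key' : q * (2 * Q - 1) * (q - 1) < q ^ 2 * Q - 1 :=
        Nat.lt_of_mul_lt_mul_right (lt_of_lt_of_le key (Nat.mul_le_mul_left _ h2))
      obtain ⟨Q', hQ'⟩ : ∃ Q', Q = Q' + 1 := ⟨Q - 1, by omega⟩
      rw [show 2 * Q - 1 = 2 * Q' + 1 by omega, show q - 1 = n by omega, hQ', hn] at key'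
      have : 2 ≤ n := by omega
      have : n ≤ Q' := by nlinarith
      have h9 : (n + 1) * ((2 * Q' + 1) * n) < (n + 1) * ((n + 1) * (Q' + 1)) := by
        rw [← mul_assoc, ← mul_assoc, ← sq]
        exact lt_of_lt_of_le key' (Nat.sub_le _ _)
      have h10 := Nat.lt_of_mul_lt_mul_left h9
      have h11 : 2 * Q' ≤ n * Q' := Nat.mul_le_mul_right _ (by omega)
      linarith
    · set r := Nat.card (mult (tC H w)) with hr
      have h2 : Nat.card (scalars H w) ≤ 2 * (r - 1) := card_scalars_le
      have r1 := mult_two (V := tC H w)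
      have r2 := card_mult_le hb
      have r3 := card_mult_le_index hV
      rw [← hr] at r1 r2 r3
      have r4 : r * r ≤ q := by
        rw [hq', ← AddSubgroup.index_mul_card (tC H w)]
        exact Nat.mul_le_mul r3 r2
      have key' : r * (2 * Q - 1) * (q - 1) * (q - 1) < q ^ 2 * Q * (2 * (r - 1)) :=
        calc r * (2 * Q - 1) * (q - 1) * (q - 1)
            ≤ (tC H w).index * (2 * Q - 1) * (q - 1) * (q - 1) :=
              Nat.mul_le_mul_right _ (Nat.mul_le_mul_right _ (Nat.mul_le_mul_right _ r3))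
          _ < (q ^ 2 * Q - 1) * Nat.card (scalars H w) := key
          _ ≤ q ^ 2 * Q * (2 * (r - 1)) := Nat.mul_le_mul (Nat.sub_le _ _) h2
      obtain ⟨Q', hQ'⟩ : ∃ Q', Q = Q' + 1 := ⟨Q - 1, by omega⟩
      obtain ⟨r', hr'⟩ : ∃ r', r = r' + 2 := ⟨r - 2, by omega⟩
      have hq2r : 2 * r ≤ q := le_trans (Nat.mul_le_mul_right r r1) r4
      rw [show 2 * Q - 1 = 2 * Q' + 1 by omega, show q - 1 = n by omega,
        show r - 1 = r' + 1 by omega, hQ', hr', hn] at key'
      rw [hr', hn] at hq2r
      have h12 := Nat.mul_le_mul_right (n + 1) hq2r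
      have h13 : (r' + 1) * (n + 1) ^ 2 + (r' + 2) ≤ (r' + 2) * (n * n) := by linarith
      have h14 := Nat.mul_le_mul_left (2 * (Q' + 1)) h13
      have h15 : n * n ≤ 2 * (Q' + 1) := by
        have : (n + 1) ^ 2 ≤ Q' + 1 := by rw [← hn, ← hQ']; exact hQq
        linarith
      have h16 := Nat.mul_le_mul_left (r' + 2) h15
      linarith
  have hblk : ∀ x ∈ B, x ≠ 0 → ∀ l ∈ levi w u, l • x ∈ B → l ∈ piG H w u :=
    fun x hx hx0 => (blocks H h ψ hx hx0 hlt).1
  have hN : negComp w u h ∈ piG H w u :=
    hblk b hbB hb0 _ (negComp_mem h) (by rw [negComp_apply h hbB.1]; exact neg_mem hbB)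
  have h2 : (2 : F) ≠ 0 := by
    intro e
    have := (CharP.cast_eq_zero_iff F p 2).1 (by exact_mod_cast e)
    rcases (Nat.dvd_prime Nat.prime_two).1 this with e1 | e1
    · exact hp.1.one_lt.ne' e1
    · rw [e1] at hodd; exact Nat.not_odd_iff_even.2 even_two hodd
  obtain ⟨e, he, hNH⟩ := exists_neg hodd h2 h hN
  set H' := H.map (MulAut.conj (heis w e 0)).toMonoidHom with hH'
  -- the induced elements
  have hπ : (∀ l ∈ levi w u, (∃ s : F, l • b = s • b) → l ∈ piG H w u) ∧
      (q = 3 → 3 ≤ m ∧ ∀ l ∈ levi w u, l ∈ piG H w u) := by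
    by_cases hind : ∃ x ∈ B, ∀ s : F, x ≠ s • b
    · obtain ⟨x, hx, hxb⟩ := hind
      have hall : ∀ l ∈ levi w u, l ∈ piG H w u := fun l hl =>
        hblk b hbB hb0 l hl (bS_eq_top H hblk h hbB hx hb0 hxb (levi_maps hl hbB.1))
      exact ⟨fun l hl _ => hall l hl, fun e => ⟨hmq e, hall⟩⟩
    · push Not at hind
      choose s hs using hind
      have hBq : Nat.card B ≤ q := by
        refine Nat.card_le_card_of_injective (fun x : B => s x x.2) fun x y e => Subtype.ext ?_
        rw [hs x x.2, hs y y.2]
        exact congrArg (· • b) e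
      have hUq : Nat.card (uS H w u) ≤ Nat.card B :=
        Nat.card_le_card_of_injective (fun a : uS H w u => (⟨a.1, hUB a a.2⟩ : B))
          fun x y e => Subtype.ext (congrArg (fun z : B => z.1) e)
      have hQ2 : Q ≤ q * Nat.card B := by
        rw [hQ, ← hcard, mul_comm]; exact Nat.mul_le_mul (hUq.trans hBq) le_rfl
      have hBeq : Nat.card B = q := le_antisymm hBq (by nlinarith)
      have hline : ∀ r : F, r • b ∈ B := by
        intro r
        obtain ⟨x, hx⟩ := (Nat.bijective_iff_injective_and_card (fun x : B => s x x.2)).2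
          ⟨fun x y e => Subtype.ext (by rw [hs x x.2, hs y y.2]; exact congrArg (· • b) e), hBeq⟩ |>.2 r
        rw [← show s x x.2 = r from hx, ← hs x x.2]
        exact x.2
      refine ⟨fun l hl ⟨r, hr⟩ => hblk b hbB hb0 l hl (hr ▸ hline r), fun e => ?_⟩
      exfalso
      have h3 := hmq e
      have : q ^ 4 ≤ Q := by rw [hQ, card_comp h]; exact Nat.pow_le_pow_right (by omega) (by omega)
      rw [e] at this hQ2 hBeq
      norm_num at this
      omega
  refine not_full hq (small_map hH _) ?_ hb0 (full_of_line hodd h hNH hbB.1 hb0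
    (fun l hl hs => piG_conj_heis H he 0 (hπ.1 l hl hs))
    fun e' => ⟨(hπ.2 e').1, fun l hl => piG_conj_heis H he 0 ((hπ.2 e').2 l hl)⟩)
  intro e'
  exact hne (Subgroup.map_injective (MulAut.conj (heis w e 0)).injective
    (e'.trans (Subgroup.map_top_of_surjective _ (MulAut.conj (heis w e 0)).surjective).symm))

end Cfsg.Agent.MinIndexSpOdd
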