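import Mathlib
import Cfsg.Prelude.Def_Classical
import Cfsg.Agent.Lib.MinIndexSpOdd
import Cfsg.Agent.Lib.MinIndexSpEvenMain

/-!
The minimal index of proper subgroups of `Sp_2m(q)` and `PSp_2m(q)` for `q ≥ 3`, `(m, q) ≠ (2, 3)`.
-/

set_option autoImplicit false

open Matrix Cfsg Cfsg.Agent.SymplecticBasic Cfsg.Agent.SymplecticSimple Cfsg.Agent.MinIndexSpHeis
  Cfsg.Agent.MinIndexSpCount

namespace Cfsg.Agent.MinIndexSpMain

variable {F : Type*} [Field F] [Fintype F] {m : ℕ}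

/-- A proper subgroup of `Sp_2m(q)` has index at least `(q^(2m) - 1)/(q - 1)`. -/
theorem not_small (hm : 2 ≤ m) (hq : 3 ≤ Nat.card F) (hexc : ¬ (m = 2 ∧ Nat.card F = 3))
    {H : Subgroup (symplecticGroup (Fin m) F)} (hne : H ≠ ⊤) : ¬ SmallIdx H := by
  intro hH
  obtain ⟨p, hp⟩ := CharP.exists F
  have : Fact p.Prime := ⟨CharP.char_is_prime F p⟩
  rcases Nat.Prime.eq_two_or_odd' (this.out) with rfl | hodd
  · have hq4 : 4 ≤ Nat.card F := by
      have h0 := FiniteField.cast_card_eq_zero F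
      rw [← Nat.card_eq_fintype_card, CharP.cast_eq_zero_iff F 2] at h0
      omega
    exact MinIndexSpEvenMain.even_false hm hq4 hH hne
  · exact MinIndexSpOdd.odd_false hodd hm hq
      (fun e => by by_contra hlt; exact hexc ⟨by omega, e⟩) hH hne

theorem le_index (hm : 2 ≤ m) {q : ℕ} (hF : Fintype.card F = q) (hq : 3 ≤ q)
    (hexc : ¬ (m = 2 ∧ q = 3)) (K : Subgroup (PSp m F)) (hK : K ≠ ⊤) :
    (q ^ (2 * m) - 1) / (q - 1) ≤ K.index := by
  have hF' : Nat.card F = q := by rw [Nat.card_eq_fintype_card, hF]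
  set π := QuotientGroup.mk' (Subgroup.center (symplecticGroup (Fin m) F))
  have hne : K.comap π ≠ ⊤ := by
    intro e
    apply hK
    rw [← Subgroup.map_comap_eq_self_of_surjective (QuotientGroup.mk'_surjective _) K, e,
      Subgroup.map_top_of_surjective _ (QuotientGroup.mk'_surjective _)]
  have h := not_small hm (by rw [hF']; exact hq) (by rw [hF']; exact hexc) hne
  unfold SmallIdx at h
  rw [hF', Subgroup.index_comap_of_surjective _ (QuotientGroup.mk'_surjective _), not_lt] at h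
  exact Nat.div_le_of_le_mul (h.trans (le_of_eq (Nat.mul_comm _ _)))

/-- The stabilizer of a line. -/
def lineStab (w : Fin m ⊕ Fin m → F) (hw : w ≠ 0) : Subgroup (symplecticGroup (Fin m) F) where
  carrier := {g | ∃ s : F, g • w = s • w}
  one_mem' := ⟨1, by rw [one_smul, one_smul]⟩
  mul_mem' := by
    rintro a b ⟨s, hs⟩ ⟨t, ht⟩
    exact ⟨t * s, by rw [mul_smul, ht, scalar_smul, hs, smul_smul]⟩
  inv_mem' := by
    rintro a ⟨s, hs⟩
    have hs0 : s ≠ 0 := fun e => smul_ne_zero' a hw (by rw [hs, e, zero_smul])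
    exact ⟨s⁻¹, by rw [inv_smul_eq_iff, scalar_smul, hs, smul_smul, inv_mul_cancel₀ hs0, one_smul]⟩

theorem index_lineStab (w : Fin m ⊕ Fin m → F) (hw : w ≠ 0) :
    (Nat.card F - 1) * (lineStab w hw).index = Nat.card F ^ (2 * m) - 1 := by
  have hle : MulAction.stabilizer (symplecticGroup (Fin m) F) w ≤ lineStab w hw :=
    fun g hg => ⟨1, by rw [one_smul]; exact hg⟩
  rw [← card_nonzero (F := F) (m := m), ← orbit_eq_nonzero hw, Nat.card_coe_set_eq, ← MulAction.index_stabilizer,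
    ← Subgroup.relIndex_mul_index hle]
  congr 1
  rw [← Nat.card_units]
  show _ = ((MulAction.stabilizer (symplecticGroup (Fin m) F) w).subgroupOf (lineStab w hw)).index
  rw [show (MulAction.stabilizer (symplecticGroup (Fin m) F) w).subgroupOf (lineStab w hw) =
    MulAction.stabilizer (lineStab w hw) w from rfl, MulAction.index_stabilizer,
    ← Nat.card_coe_set_eq]
  refine Nat.card_eq_of_bijective
    (fun s : Fˣ => (⟨(s : F) • w, ?_⟩ : MulAction.orbit (lineStab w hw) w))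
    ⟨fun a b e => Units.ext (smul_left_injective F hw (congrArg Subtype.val e)), fun x => ?_⟩
  · obtain ⟨g, hg⟩ := exists_smul_eq hw (smul_ne_zero s.ne_zero hw)
    exact ⟨⟨g, s, hg⟩, hg⟩
  · obtain ⟨⟨g, s, hs⟩, hg⟩ := x.2
    have hs0 : s ≠ 0 := fun e => smul_ne_zero' g hw (by rw [hs, e, zero_smul])
    exact ⟨Units.mk0 s hs0, Subtype.ext (hs.symm.trans hg)⟩

theorem exists_index (hm : 2 ≤ m) {q : ℕ} (hF : Fintype.card F = q) (hq : 2 ≤ q) :
    ∃ K : Subgroup (PSp m F), K.index = (q ^ (2 * m) - 1) / (q - 1) := by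
  have hF' : Nat.card F = q := by rw [Nat.card_eq_fintype_card, hF]
  obtain ⟨w, hw⟩ : ∃ w : Fin m ⊕ Fin m → F, w ≠ 0 :=
    ⟨Pi.single (Sum.inl ⟨0, by omega⟩) 1, by simp⟩
  have hc : Subgroup.center (symplecticGroup (Fin m) F) ≤ lineStab w hw := fun g hg => by
    obtain ⟨a, ha⟩ := center_scalar (by omega) hg
    exact ⟨a, ha w⟩
  refine ⟨(lineStab w hw).map (QuotientGroup.mk' _), ?_⟩
  rw [Subgroup.index_map_eq _ (QuotientGroup.mk'_surjective _)
    (by rw [QuotientGroup.ker_mk']; exact hc)]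
  have h := index_lineStab w hw
  rw [hF'] at h
  rw [← h, Nat.mul_div_cancel_left _ (by omega)]

end Cfsg.Agent.MinIndexSpMain
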