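import Mathlib
import Cfsg.Agent.Lib.MinIndexSpHeis
import Cfsg.Agent.Lib.SymplecticIsotropic
import Cfsg.Agent.Lib.MinIndexOrthFamilies29

/-!
The minimal index of `Sp_2m(2)`, `m ≥ 3`: a subgroup of index below `2^(m-1)(2^m-1)` is everything.
The orbits of the radical of the centraliser of a transvection on the cosets are counted.
-/

set_option autoImplicit false
set_option linter.unusedSectionVars false

open Matrix Cfsg Cfsg.Agent.SymplecticBasic Cfsg.Agent.SymplecticSimple Cfsg.Agent.MinIndexSpHeis
open Cfsg.Agent.SymplecticIsotropic (bil bil_nondeg bil_apply finrank_space)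

namespace Cfsg.Agent.MinIndexSpTwo29

variable {F : Type*} [Field F] [Fintype F]

/-! ### The field with two elements -/

theorem eq01 (hF : Fintype.card F = 2) (c : F) : c = 0 ∨ c = 1 := by
  classical
  have h : (Finset.univ : Finset F) = {0, 1} :=
    (Finset.eq_of_subset_of_card_le (Finset.subset_univ _)
      (by rw [Finset.card_pair zero_ne_one, Finset.card_univ, hF])).symm
  have hc := Finset.mem_univ c
  rw [h] at hc
  simpa using hc

theorem charTwo (hF : Fintype.card F = 2) : CharP F 2 := charP_of_card_eq_prime hF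

/-! ### The quadratic form and its translates -/

variable {k : ℕ}

theorem quad_add [CharP F 2] (a b : Fin k ⊕ Fin k → F) :
    quadFormPlus k F (a + b) = quadFormPlus k F a + quadFormPlus k F b + sympForm k F a b := by
  rw [form_eq_sum]
  simp only [quadFormPlus, ← Finset.sum_add_distrib]
  refine Finset.sum_congr rfl fun i _ => ?_
  simp only [Pi.add_apply, CharTwo.sub_eq_add]
  ring

theorem quad_zero : quadFormPlus k F 0 = 0 := by simp [quadFormPlus]

theorem form_comm [CharP F 2] (a b : Fin k ⊕ Fin k → F) :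
    sympForm k F a b = sympForm k F b a := by rw [form_swap b a, CharTwo.neg_eq]

/-- A functional is the form with a vector. -/
theorem exists_form_vec (l : (Fin k ⊕ Fin k → F) →ₗ[F] F) :
    ∃ b, ∀ x, l x = sympForm k F b x := by
  refine ⟨Sum.elim (fun i => -l (Pi.single (Sum.inr i) 1)) (fun i => l (Pi.single (Sum.inl i) 1)),
    fun x => ?_⟩
  set b : Fin k ⊕ Fin k → F :=
    Sum.elim (fun i => -l (Pi.single (Sum.inr i) 1)) (fun i => l (Pi.single (Sum.inl i) 1)) with hb
  have h : l = formLin b := by
    refine LinearMap.pi_ext' fun i => LinearMap.ext_ring ?_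
    rcases i with i | i
    · simp [hb, form_single_inl_right]
    · simp [hb, form_single_inr_right]
  exact LinearMap.congr_fun h x

/-- A map with polar form `f` is a translate of the standard form. -/
theorem exists_translate (hF : Fintype.card F = 2) (φ : (Fin k ⊕ Fin k → F) → F)
    (hφ : ∀ a b, φ (a + b) = φ a + φ b + sympForm k F a b) :
    ∃ c, ∀ x, φ x = quadFormPlus k F x + sympForm k F c x := by
  haveI := charTwo hF
  have h0 : φ 0 = 0 := by
    have h := hφ 0 0
    rw [add_zero, form_zero_left, add_zero] at h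
    exact (left_eq_add.1 h)
  let l : (Fin k ⊕ Fin k → F) →ₗ[F] F :=
    { toFun := fun x => φ x + quadFormPlus k F x
      map_add' := fun a b => by
        rw [hφ, quad_add]
        linear_combination (CharTwo.add_self_eq_zero (sympForm k F a b))
      map_smul' := fun s x => by
        rcases eq01 hF s with rfl | rfl <;> simp [h0, quad_zero] }
  obtain ⟨c, hc⟩ := exists_form_vec l
  refine ⟨c, fun x => ?_⟩
  rw [← hc x]
  show φ x = quadFormPlus k F x + (φ x + quadFormPlus k F x)
  linear_combination -(CharTwo.add_self_eq_zero (quadFormPlus k F x))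

/-- A transvection moves one translate to another. -/
theorem translate_transv [CharP F 2] (hF : Fintype.card F = 2) (c v x : Fin k ⊕ Fin k → F)
    (hv : quadFormPlus k F v + sympForm k F c v = 0) :
    quadFormPlus k F (transv v (1 : F) • x) + sympForm k F c (transv v (1 : F) • x) =
      quadFormPlus k F x + sympForm k F (c + v) x := by
  rw [transv_smul, one_mul, quad_add, form_add_right, form_add_left, form_smul_right,
    form_smul_right, form_comm v x]
  rcases eq01 hF (sympForm k F x v) with h | h <;> rw [h]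
  · simp [quad_zero]
  · rw [one_smul]
    linear_combination hv

/-- Zeros of a translate. -/
theorem card_zero_translate [CharP F 2] (c : Fin k ⊕ Fin k → F) :
    Nat.card {x // quadFormPlus k F x + sympForm k F c x = 0} =
      Nat.card {x : Fin k ⊕ Fin k → F // quadFormPlus k F x = quadFormPlus k F c} := by
  refine Nat.card_congr ((Equiv.addRight c).subtypeEquiv fun x => ?_)
  show _ ↔ quadFormPlus k F (x + c) = _
  rw [quad_add, form_comm x c]
  constructor
  · intro h; linear_combination h
  · intro h; linear_combination h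

theorem card_level (hF : Fintype.card F = 2) (hk : 1 ≤ k) :
    Nat.card {x : Fin k ⊕ Fin k → F // quadFormPlus k F x = 0} =
        (2 ^ k - 1) * (2 ^ (k - 1) + 1) + 1 ∧
      Nat.card {x : Fin k ⊕ Fin k → F // quadFormPlus k F x = 1} = 2 ^ (k - 1) * (2 ^ k - 1) := by
  obtain ⟨h0, h1⟩ := MinIndexOrthFamilies29.zeros_plus hF hk
  have e : ∀ a : F, Nat.card {x : Fin k ⊕ Fin k → F // quadFormPlus k F x = a} =
      Nat.card {v // OrthUnitaryQuad.withBase k (OrthUnitaryForms.qfNil F) v = a} := fun a =>
    (Nat.card_congr ((OrthUnitaryForms.eqPlus (F := F) k).toEquiv.subtypeEquiv fun v => by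
      show _ ↔ quadFormPlus k F (OrthUnitaryForms.eqPlus k v) = a
      rw [OrthUnitaryForms.eqPlus_isometry])).symm
  rw [e, e, h1 1 one_ne_zero]
  refine ⟨?_, rfl⟩
  have hpos : 0 < Nat.card {v // OrthUnitaryQuad.withBase k (OrthUnitaryForms.qfNil F) v = 0} :=
    Nat.card_pos_iff.2 ⟨⟨⟨0, QuadraticMap.map_zero _⟩⟩, inferInstance⟩
  omega

theorem level_ge (hF : Fintype.card F = 2) (hk : 1 ≤ k) (c : Fin k ⊕ Fin k → F) :
    2 ^ (k - 1) * (2 ^ k - 1) ≤
      Nat.card {x : Fin k ⊕ Fin k → F // quadFormPlus k F x = quadFormPlus k F c} := by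
  obtain ⟨h0, h1⟩ := card_level hF hk
  rcases eq01 hF (quadFormPlus k F c) with h | h <;> rw [h]
  · rw [h0, mul_comm]
    exact le_trans (Nat.mul_le_mul_left _ (Nat.le_add_right _ 1)) (Nat.le_add_right _ _)
  · rw [h1]

/-! ### Invariant classes of non-zero vectors are everything -/

theorem forall_of_transv (hF : Fintype.card F = 2) (P : (Fin k ⊕ Fin k → F) → Prop)
    (hP : ∀ v b : Fin k ⊕ Fin k → F, P b → P (transv v (1 : F) • b)) {b₀ : Fin k ⊕ Fin k → F} (hb₀ : b₀ ≠ 0)
    (h₀ : P b₀) {b : Fin k ⊕ Fin k → F} (hb : b ≠ 0) : P b := by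
  haveI := charTwo hF
  let N : Subgroup (symplecticGroup (Fin k) F) :=
    { carrier := {g | ∀ x, P (g • x) ↔ P x}
      one_mem' := fun x => by rw [one_smul]
      mul_mem' := fun {g h} hg hh x => by rw [mul_smul]; exact (hg _).trans (hh x)
      inv_mem' := fun {g} hg x => by rw [← hg (g⁻¹ • x), smul_inv_smul] }
  have hN : N = ⊤ := eq_top_of_transv fun v c => by
    rcases eq01 hF c with rfl | rfl
    · rw [transv_zero]; exact N.one_mem
    · intro x
      refine ⟨fun h => ?_, hP v x⟩
      have := hP v _ h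
      rwa [← mul_smul, transv_add, CharTwo.add_self_eq_zero, transv_zero, one_smul] at this
  obtain ⟨g, hg⟩ := exists_smul_eq hb₀ hb
  rw [← hg]
  exact ((hN ▸ Subgroup.mem_top g : g ∈ N) b₀).2 h₀

theorem exists_perp {w : Fin k ⊕ Fin k → F} (hk : 2 ≤ k) :
    ∃ a, sympForm k F w a = 0 ∧ ∀ s : F, a ≠ s • w := by
  by_contra hc
  push Not at hc
  have h1 : LinearMap.ker (formLin w) ≤ Submodule.span F {w} := fun a ha =>
    Submodule.mem_span_singleton.2 ((hc a ha).imp fun s e => e.symm)
  have h2 := Submodule.finrank_mono h1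
  have h3 := LinearMap.finrank_range_add_finrank_ker (formLin w)
  have h4 := Submodule.finrank_le (LinearMap.range (formLin w))
  have h5 : Module.finrank F (Submodule.span F {w}) ≤ 1 := by
    classical
    have := finrank_span_finset_le_card (R := F) ({w} : Finset (Fin k ⊕ Fin k → F))
    rw [Finset.coe_singleton, Finset.card_singleton] at this
    exact this
  rw [Module.finrank_self] at h4
  rw [finrank_space] at h3
  omega

/-! ### The radical at the first coordinate pair -/

section Radical

variable {n : ℕ}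

/-- The complement of the first pair. -/
def ext : (Fin n ⊕ Fin n → F) →ₗ[F] (Fin (n + 1) ⊕ Fin (n + 1) → F) where
  toFun a := Sum.elim (Fin.cases 0 fun i => a (Sum.inl i)) (Fin.cases 0 fun i => a (Sum.inr i))
  map_add' a b := by
    funext x
    rcases x with i | i <;> refine Fin.cases ?_ (fun j => ?_) i <;> simp
  map_smul' s a := by
    funext x
    rcases x with i | i <;> refine Fin.cases ?_ (fun j => ?_) i <;> simp

/-- The first basis vector. -/
def wv : Fin (n + 1) ⊕ Fin (n + 1) → F := Pi.single (Sum.inl 0) 1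

theorem wv_ne : (wv : Fin (n + 1) ⊕ Fin (n + 1) → F) ≠ 0 := by simp [wv]

theorem form_ext (a b : Fin n ⊕ Fin n → F) :
    sympForm (n + 1) F (ext a) (ext b) = sympForm n F a b := by
  rw [form_eq_sum, form_eq_sum, Fin.sum_univ_succ]
  simp [ext]

theorem ext_perp (a : Fin n ⊕ Fin n → F) : sympForm (n + 1) F (ext a) wv = 0 := by
  simp [wv, form_single_inl_right, ext]

theorem exists_ext {x : Fin (n + 1) ⊕ Fin (n + 1) → F} (hx : sympForm (n + 1) F x wv = 0) :
    ∃ (s : F) (a : Fin n ⊕ Fin n → F), x = ext a + s • wv := by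
  rw [wv, form_single_inl_right] at hx
  refine ⟨x (Sum.inl 0), Sum.elim (fun i => x (Sum.inl i.succ)) (fun i => x (Sum.inr i.succ)), ?_⟩
  funext z
  rcases z with i | i <;> refine Fin.cases ?_ (fun j => ?_) i <;>
    simp [ext, wv, hx, Fin.succ_ne_zero]

/-- Elements of the radical. -/
def rho (a : Fin n ⊕ Fin n → F) (c : F) : symplecticGroup (Fin (n + 1)) F := heis wv (ext a) c

theorem rho_mul (a b : Fin n ⊕ Fin n → F) (c d : F) :
    rho a c * rho b d = rho (a + b) (c + d + sympForm n F b a) := by
  rw [rho, rho, heis_mul (ext_perp a) (ext_perp b), form_ext, ← map_add, rho]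

theorem rho_zero : rho (n := n) (0 : Fin n ⊕ Fin n → F) 1 = transv wv 1 := by
  rw [rho, map_zero, heis_zero]

theorem rho_one : rho (n := n) (0 : Fin n ⊕ Fin n → F) (0 : F) = 1 := by
  rw [rho, map_zero, heis_zero, transv_zero]

theorem rho_comm [CharP F 2] (a b : Fin n ⊕ Fin n → F) (c d : F) :
    rho a c * rho b d = rho b d * rho a c := by
  rw [rho_mul, rho_mul, add_comm a b, add_comm c d, form_comm a b]

/-- Lifts of transvections. -/
def lift (v : Fin n ⊕ Fin n → F) : symplecticGroup (Fin (n + 1)) F := transv (ext v) 1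

theorem lift_conj (v a : Fin n ⊕ Fin n → F) (c : F) :
    lift v * rho a c * (lift v)⁻¹ = rho (transv v (1 : F) • a) c := by
  rw [rho, heis_conj, rho, lift, transv_smul, transv_smul,
    form_eq_zero_comm.1 (ext_perp v), mul_zero, zero_smul, add_zero, transv_smul, map_add,
    map_smul, form_ext]

variable {Ω : Type*} [MulAction (symplecticGroup (Fin (n + 1)) F) Ω]

theorem smul_lift (v : Fin n ⊕ Fin n → F) (a : Fin n ⊕ Fin n → F) (c : F) (x : Ω) :
    rho (transv v (1 : F) • a) c • lift v • x = lift v • rho a c • x := by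
  rw [← lift_conj, smul_smul, inv_mul_cancel_right, mul_smul]

/-- The projection of the point stabiliser in the radical. -/
def Aset (hF : Fintype.card F = 2) (x : Ω) : Submodule F (Fin n ⊕ Fin n → F) where
  carrier := {a | ∃ c : F, rho a c • x = x}
  zero_mem' := ⟨0, by rw [rho_one, one_smul]⟩
  add_mem' {a b} := by
    rintro ⟨c, hc⟩ ⟨d, hd⟩
    exact ⟨_, by rw [← rho_mul, mul_smul, hd, hc]⟩
  smul_mem' s a := by
    rintro ⟨c, hc⟩
    rcases eq01 hF s with rfl | rfl
    · exact ⟨0, by rw [zero_smul, rho_one, one_smul]⟩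
    · exact ⟨c, by rw [one_smul, hc]⟩

variable (hF : Fintype.card F = 2)

theorem Aset_smul (x : Ω) (b : Fin n ⊕ Fin n → F) (d : F) :
    Aset (n := n) hF (rho b d • x) = Aset (n := n) hF x := by
  haveI := charTwo hF
  ext a
  refine exists_congr fun c => ?_
  rw [← mul_smul, rho_comm, mul_smul, smul_left_cancel_iff]

/-- A lifted transvection on the invariant. -/
theorem Aset_lift (v : Fin n ⊕ Fin n → F) (x : Ω) :
    Aset (n := n) hF (lift v • x) =
      (Aset (n := n) hF x).map (Matrix.mulVecLin (transv v (1 : F)).1) := by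
  haveI := charTwo hF
  ext a
  constructor
  · rintro ⟨c, hc⟩
    refine ⟨transv v (1 : F) • a, ⟨c, ?_⟩, ?_⟩
    · apply MulAction.injective (lift v)
      dsimp only
      rw [← smul_lift, ← mul_smul (transv v (1 : F)), transv_add, CharTwo.add_self_eq_zero,
        transv_zero, one_smul, hc]
    · show transv v (1 : F) • transv v (1 : F) • a = a
      rw [← mul_smul, transv_add, CharTwo.add_self_eq_zero, transv_zero, one_smul]
  · rintro ⟨b, ⟨c, hc⟩, rfl⟩
    exact ⟨c, by
      show rho (transv v (1 : F) • b) c • lift v • x = _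
      rw [smul_lift, hc]⟩

/-- Distinct cosets of the invariant give distinct points. -/
theorem card_fibre_ge [Finite Ω] (x : Ω) :
    Nat.card ((Fin n ⊕ Fin n → F) ⧸ Aset (n := n) hF x) ≤ Nat.card {y : Ω // Aset (n := n) hF y = Aset (n := n) hF x} := by
  haveI := charTwo hF
  refine Nat.card_le_card_of_injective
    (fun q => ⟨rho q.out 0 • x, Aset_smul hF x _ _⟩) fun q r e => ?_
  have e' : rho q.out 0 • x = rho r.out 0 • x := congrArg Subtype.val e
  rw [← Submodule.Quotient.mk_out q, ← Submodule.Quotient.mk_out r, Submodule.Quotient.eq]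
  refine ⟨_, show rho (q.out - r.out) (0 + 0 + sympForm n F q.out r.out) • x = x from ?_⟩
  rw [sub_eq_add_neg, show -r.out = r.out from funext fun i => CharTwo.neg_eq _, add_comm q.out,
    ← rho_mul, mul_smul, e', ← mul_smul, rho_mul, add_zero, form_self, add_zero,
    show r.out + r.out = 0 from funext fun i => CharTwo.add_self_eq_zero _, rho_one, one_smul]

/-- Points with trivial invariant moved by the central transvection. -/
theorem card_of_free [Finite Ω] {x : Ω} (hA : Aset (n := n) hF x = ⊥) (hx : transv (wv (F := F) (n := n)) (1 : F) • x ≠ x) :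
    2 ^ n * (2 ^ (n + 1) - 1) ≤ Nat.card Ω := by
  haveI := charTwo hF
  have h := Nat.card_le_card_of_injective
    (fun p : (Fin n ⊕ Fin n → F) × F => rho p.1 p.2 • x) (fun p q e => ?_)
  · rw [Nat.card_prod, Module.natCard_eq_pow_finrank (K := F), finrank_space,
      Nat.card_eq_fintype_card, hF] at h
    refine le_trans ?_ h
    calc 2 ^ n * (2 ^ (n + 1) - 1) ≤ 2 ^ n * 2 ^ (n + 1) :=
          Nat.mul_le_mul_left _ (Nat.sub_le _ _)
      _ = 2 ^ (2 * n) * 2 := by ring
  · have e' : rho p.1 p.2 • x = rho q.1 q.2 • x := e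
    have h2 : rho (q.1 + p.1) (q.2 + p.2 + sympForm n F p.1 q.1) • x = x := by
      rw [← rho_mul, mul_smul, e', ← mul_smul, rho_mul, form_self, add_zero,
        show q.1 + q.1 = 0 from funext fun i => CharTwo.add_self_eq_zero _,
        CharTwo.add_self_eq_zero q.2, rho_one, one_smul]
    have h1 : q.1 + p.1 ∈ Aset (n := n) hF x := ⟨_, h2⟩
    rw [hA, Submodule.mem_bot] at h1
    have hpq : q.1 = p.1 := funext fun i => CharTwo.add_eq_zero.1 (congrFun h1 i)
    rw [h1, hpq, form_self, add_zero] at h2
    rcases eq01 hF (q.2 + p.2) with h3 | h3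
    · exact Prod.ext hpq.symm (CharTwo.add_eq_zero.1 h3).symm
    · rw [h3, rho_zero] at h2
      exact absurd h2 hx

/-- One point with a proper non-trivial invariant. -/
theorem card_of_mid [Finite Ω] (hn : 2 ≤ n) {x₀ : Ω} (h0 : Aset (n := n) hF x₀ ≠ ⊥)
    (h1 : Aset (n := n) hF x₀ ≠ ⊤) : 2 ^ n * (2 ^ (n + 1) - 1) ≤ Nat.card Ω := by
  classical
  haveI := charTwo hF
  cases nonempty_fintype Ω
  set d := Module.finrank F (Aset (n := n) hF x₀) with hd
  let 𝒜 : Finset (Submodule F (Fin n ⊕ Fin n → F)) :=
    (Finset.univ.image (Aset (n := n) (Ω := Ω) hF)).filter fun A => Module.finrank F A = d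
  have hmem : Aset (n := n) hF x₀ ∈ 𝒜 := by simp [𝒜, hd]
  have hdim : ∀ A ∈ 𝒜, Module.finrank F A = d := fun A hA => (Finset.mem_filter.1 hA).2
  have hclosed : ∀ v, ∀ A ∈ 𝒜, A.map (Matrix.mulVecLin (transv v (1 : F)).1) ∈ 𝒜 := by
    intro v A hA
    obtain ⟨hA1, hA2⟩ := Finset.mem_filter.1 hA
    obtain ⟨x, -, rfl⟩ := Finset.mem_image.1 hA1
    refine Finset.mem_filter.2 ⟨Finset.mem_image.2 ⟨lift v • x, Finset.mem_univ _,
      Aset_lift hF v x⟩, ?_⟩
    rw [← hA2]
    refine (Submodule.equivMapOfInjective _ (fun a b e => ?_) _).finrank_eq.symm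
    exact MulAction.injective (transv v (1 : F)) e
  have hd0 : 1 ≤ d := by
    rw [hd, Nat.one_le_iff_ne_zero, Ne, Submodule.finrank_eq_zero]
    exact h0
  have hd1 : d < 2 * n := by
    rw [hd, ← finrank_space (F := F) (m := n)]
    exact Submodule.finrank_lt h1
  set e := 2 * n - d with he
  have hq : ∀ A ∈ 𝒜, Nat.card ((Fin n ⊕ Fin n → F) ⧸ A) = 2 ^ e := fun A hA => by
    rw [Module.natCard_eq_pow_finrank (K := F), Nat.card_eq_fintype_card, hF,
      Submodule.finrank_quotient, finrank_space, hdim A hA]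
  have horth : ∀ A ∈ 𝒜, Module.finrank F ((bil (F := F) (m := n)).orthogonal A) = e :=
    fun A hA => by
      rw [LinearMap.BilinForm.finrank_orthogonal bil_nondeg, finrank_space, hdim A hA]
  -- points
  have hk : 𝒜.card * 2 ^ e ≤ Nat.card Ω := by
    rw [Nat.card_eq_fintype_card, ← Finset.card_univ, ← smul_eq_mul]
    refine le_trans ?_ (Finset.card_le_card
      (s := Finset.univ.filter fun y : Ω => Aset (n := n) hF y ∈ 𝒜) (Finset.subset_univ _))
    rw [Finset.card_eq_sum_card_fiberwise (f := Aset (n := n) (Ω := Ω) hF) (t := 𝒜)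
      (s := Finset.univ.filter fun y : Ω => Aset (n := n) hF y ∈ 𝒜)
      (fun y hy => (Finset.mem_filter.1 hy).2)]
    refine Finset.card_nsmul_le_sum _ _ _ fun A hA => ?_
    obtain ⟨x, -, rfl⟩ := Finset.mem_image.1 (Finset.mem_filter.1 hA).1
    rw [← hq _ hA]
    refine (card_fibre_ge hF x).trans (le_of_eq ?_)
    rw [Nat.card_eq_fintype_card, Fintype.card_subtype, Finset.filter_filter]
    congr 1
    ext y
    simp only [Finset.mem_filter, Finset.mem_univ, true_and, iff_and_self]
    exact fun h => h ▸ hA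
  have hB : 2 ^ n * (2 ^ (n + 1) - 1) + 2 ≤ 2 * 2 ^ (2 * n) := by
    rw [Nat.mul_sub, mul_one, ← pow_add, show n + (n + 1) = 2 * n + 1 by omega, pow_succ]
    have : 2 ^ 1 ≤ 2 ^ n := Nat.pow_le_pow_right (by omega) (by omega)
    have : 2 ^ n ≤ 2 ^ (2 * n) := Nat.pow_le_pow_right (by omega) (by omega)
    omega
  have hW : Fintype.card (Fin n ⊕ Fin n → F) = 2 ^ (2 * n) := by
    rw [Fintype.card_fun, hF, Fintype.card_sum, Fintype.card_fin, two_mul]
  have horth_map : ∀ v A b, b ∈ (bil (F := F) (m := n)).orthogonal A →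
      transv v (1 : F) • b ∈
        (bil (F := F) (m := n)).orthogonal (A.map (Matrix.mulVecLin (transv v (1 : F)).1)) := by
    intro v A b hb
    rw [LinearMap.BilinForm.mem_orthogonal_iff] at hb ⊢
    rintro _ ⟨a, ha, rfl⟩
    have h := hb a ha
    rw [bil_apply] at h ⊢
    show sympForm n F (transv v (1 : F) • a) (transv v (1 : F) • b) = 0
    rw [form_map, h]
  rcases Nat.lt_or_ge d 2 with hd2 | hd2
  · -- lines
    have hd' : d = 1 := by omega
    obtain ⟨a₀, ha₀, ha₀0⟩ := Submodule.exists_mem_ne_zero_of_ne_bot h0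
    have hcov : ∀ a : Fin n ⊕ Fin n → F, a ≠ 0 → ∃ A ∈ 𝒜, a ∈ A := fun a ha =>
      forall_of_transv hF (fun a => ∃ A ∈ 𝒜, a ∈ A)
        (fun v a ⟨A, hA, haA⟩ => ⟨_, hclosed v A hA, a, haA, rfl⟩) ha₀0 ⟨_, hmem, ha₀⟩ ha
    choose g hg hga using hcov
    have hN : 2 ^ (2 * n) - 1 ≤ 𝒜.card := by
      rw [← hW, ← Fintype.card_coe, ← Fintype.card_subtype_eq (0 : Fin n ⊕ Fin n → F),
        ← Fintype.card_subtype_compl]
      refine Fintype.card_le_of_injective (fun a => ⟨g a.1 a.2, hg a.1 a.2⟩) fun a b e => ?_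
      have e' : g a.1 a.2 = g b.1 b.2 := congrArg Subtype.val e
      have hsp : g a.1 a.2 = Submodule.span F {(a.1)} := by
        refine (Submodule.eq_of_le_of_finrank_eq ?_ ?_).symm
        · rw [Submodule.span_singleton_le_iff_mem]; exact hga _ _
        · rw [finrank_span_singleton a.2, hdim _ (hg _ _), hd']
      have hb : b.1 ∈ g a.1 a.2 := e' ▸ hga _ _
      rw [hsp, Submodule.mem_span_singleton] at hb
      obtain ⟨s, hs⟩ := hb
      rcases eq01 hF s with rfl | rfl
      · exact absurd (by rw [← hs, zero_smul]) b.2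
      · exact Subtype.ext (by rw [← hs, one_smul])
    have h2 : 2 ^ 1 ≤ 2 ^ e := Nat.pow_le_pow_right (by omega) (by omega)
    have := Nat.mul_le_mul hN h2
    omega
  -- covering by the orthogonal spaces
  have hcard : ∀ A ∈ 𝒜, ((Finset.univ.filter fun b : Fin n ⊕ Fin n → F =>
      b ≠ 0 ∧ b ∈ (bil (F := F) (m := n)).orthogonal A)).card = 2 ^ e - 1 := fun A hA => by
    rw [show (Finset.univ.filter fun b : Fin n ⊕ Fin n → F =>
        b ≠ 0 ∧ b ∈ (bil (F := F) (m := n)).orthogonal A) =
      (Finset.univ.filter fun b => b ∈ (bil (F := F) (m := n)).orthogonal A).erase 0 by ext b; simp,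
      Finset.card_erase_of_mem (by simp), ← Fintype.card_subtype, ← Nat.card_eq_fintype_card,
      show Nat.card {b // b ∈ (bil (F := F) (m := n)).orthogonal A} =
        Nat.card ((bil (F := F) (m := n)).orthogonal A) from rfl,
      Module.natCard_eq_pow_finrank (K := F), Nat.card_eq_fintype_card, hF, horth A hA]
  have hdeg : ∀ r, (∀ b : Fin n ⊕ Fin n → F, b ≠ 0 →
      r ≤ (𝒜.filter fun A => b ∈ (bil (F := F) (m := n)).orthogonal A).card) →
      r * (2 ^ (2 * n) - 1) ≤ 𝒜.card * (2 ^ e - 1) := by
    intro r hr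
    rw [← smul_eq_mul (a := 𝒜.card), ← Finset.sum_const]
    refine le_trans ?_ (le_of_eq (Finset.sum_congr rfl hcard))
    simp only [Finset.card_filter]
    rw [Finset.sum_comm, ← Finset.add_sum_erase _ _ (Finset.mem_univ (0 : Fin n ⊕ Fin n → F))]
    refine le_trans ?_ (Nat.le_add_left _ _)
    rw [mul_comm, ← hW, ← Finset.card_univ, ← Finset.card_erase_of_mem (Finset.mem_univ
      (0 : Fin n ⊕ Fin n → F)), ← smul_eq_mul]
    refine Finset.card_nsmul_le_sum _ _ _ fun b hb => ?_
    have hb0 := Finset.ne_of_mem_erase hb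
    refine (hr b hb0).trans (le_of_eq ?_)
    rw [Finset.card_filter]
    exact Finset.sum_congr rfl fun A _ => by simp [hb0]
  obtain ⟨b₀, hb₀, hb₀0⟩ := Submodule.exists_mem_ne_zero_of_ne_bot
    (p := (bil (F := F) (m := n)).orthogonal (Aset (n := n) hF x₀)) (fun h => by
      have := horth _ hmem
      rw [h, finrank_bot] at this
      omega)
  have hcov : ∀ b : Fin n ⊕ Fin n → F, b ≠ 0 →
      ∃ A ∈ 𝒜, b ∈ (bil (F := F) (m := n)).orthogonal A := fun b hb =>
    forall_of_transv hF (fun b => ∃ A ∈ 𝒜, b ∈ (bil (F := F) (m := n)).orthogonal A)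
      (fun v b ⟨A, hA, hbA⟩ => ⟨_, hclosed v A hA, horth_map v A b hbA⟩) hb₀0 ⟨_, hmem, hb₀⟩ hb
  rcases Nat.lt_or_ge e 2 with he2 | he2
  · have hdeg1 := hdeg 1 fun b hb => by
      obtain ⟨A, hA, hbA⟩ := hcov b hb
      exact Finset.card_pos.2 ⟨A, Finset.mem_filter.2 ⟨hA, hbA⟩⟩
    rw [show e = 1 by omega] at hdeg1 hk
    norm_num at hdeg1
    omega
  have hdeg2 := hdeg 2 fun b hb => by
    obtain ⟨A, hA, hbA⟩ := hcov b hb
    suffices h : ∃ v, sympForm n F v b = 0 ∧ A.map (Matrix.mulVecLin (transv v (1 : F)).1) ≠ A by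
      obtain ⟨v, hv, hne⟩ := h
      refine Finset.one_lt_card.2 ⟨_, Finset.mem_filter.2 ⟨hclosed v A hA, ?_⟩, A,
        Finset.mem_filter.2 ⟨hA, hbA⟩, hne⟩
      have := horth_map v A b hbA
      rwa [transv_smul, form_eq_zero_comm.1 hv, mul_zero, zero_smul, add_zero] at this
    by_contra! hc
    have hsplit : ∀ v, sympForm n F v b = 0 →
        v ∈ A ∨ v ∈ (bil (F := F) (m := n)).orthogonal A := by
      intro v hv
      by_cases h : ∀ a ∈ A, sympForm n F a v = 0
      · right
        rw [LinearMap.BilinForm.mem_orthogonal_iff]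
        intro a ha
        rw [bil_apply, h a ha]
      · push Not at h
        obtain ⟨a, ha, hav⟩ := h
        left
        have h1 : transv v (1 : F) • a ∈ A := by
          rw [← hc v hv]; exact ⟨a, ha, rfl⟩
        rw [transv_smul, one_mul, (eq01 hF _).resolve_left hav, one_smul] at h1
        simpa using A.sub_mem h1 ha
    set P := LinearMap.ker (formLin b)
    have hP : P ≤ A ∨ P ≤ (bil (F := F) (m := n)).orthogonal A := by
      by_contra! hcon
      obtain ⟨hcA, hcB⟩ := hcon
      obtain ⟨p, hp, hpA⟩ := SetLike.not_le_iff_exists.1 hcA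
      obtain ⟨r, hr, hrB⟩ := SetLike.not_le_iff_exists.1 hcB
      have hp' := (hsplit p (form_eq_zero_comm.1 hp)).resolve_left hpA
      have hr' := (hsplit r (form_eq_zero_comm.1 hr)).resolve_right hrB
      rcases hsplit (p + r) (form_eq_zero_comm.1 (P.add_mem hp hr)) with h | h
      · exact hpA (by simpa using A.sub_mem h hr')
      · exact hrB (by simpa using Submodule.sub_mem _ h hp')
    have h2 := LinearMap.finrank_range_add_finrank_ker (formLin b)
    have h3 := Submodule.finrank_le (LinearMap.range (formLin b))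
    rw [Module.finrank_self] at h3
    rw [finrank_space] at h2
    rcases hP with h | h
    · have := Submodule.finrank_mono h
      rw [hdim A hA] at this
      have hP2 : Module.finrank F P = Module.finrank F (LinearMap.ker (formLin b)) := rfl
      omega
    · have := Submodule.finrank_mono h
      rw [horth A hA] at this
      have hP2 : Module.finrank F P = Module.finrank F (LinearMap.ker (formLin b)) := rfl
      omega
  have : 1 ≤ 2 ^ e := Nat.one_le_two_pow
  rw [Nat.mul_sub, mul_one] at hdeg2
  rw [Nat.mul_sub, mul_one] at hdeg2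
  have : 1 ≤ 𝒜.card := Finset.card_pos.2 ⟨_, hmem⟩
  omega

/-- A point with trivial invariant fixed by the central transvection, and one moved by it. -/
theorem card_of_mixed [Finite Ω] (hn : 1 ≤ n) {x y : Ω} (hA : Aset (n := n) hF x = ⊥)
    (hy : Aset (n := n) hF y = ⊤) (hzy : transv (wv (F := F) (n := n)) (1 : F) • y ≠ y) :
    2 ^ n * (2 ^ (n + 1) - 1) ≤ Nat.card Ω := by
  classical
  haveI := charTwo hF
  cases nonempty_fintype Ω
  have huniq : ∀ {a : Fin n ⊕ Fin n → F} {c d : F} (z : Ω),
      transv (wv (F := F) (n := n)) (1 : F) • z ≠ z → rho a c • z = z →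
      rho a d • z = z → c = d := by
    intro a c d z hz h1 h2
    have h3 : rho (a + a) (c + d + sympForm n F a a) • z = z := by
      rw [← rho_mul, mul_smul, h2, h1]
    rw [form_self, add_zero, show a + a = 0 from funext fun i => CharTwo.add_self_eq_zero _] at h3
    rcases eq01 hF (c + d) with h | h
    · exact CharTwo.add_eq_zero.1 h
    · rw [h, rho_zero] at h3; exact absurd h3 hz
  choose φ hφ using fun a => (show a ∈ Aset (n := n) hF y from hy ▸ Submodule.mem_top)
  obtain ⟨c, hc⟩ := exists_translate hF φ fun a b => huniq y hzy (hφ _) (by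
    rw [form_comm a b, ← rho_mul, mul_smul, hφ b, hφ a])
  set z := transv (wv (F := F) (n := n)) (1 : F) with hz
  -- the translated points
  let y' : {d // quadFormPlus n F d = quadFormPlus n F c} → Ω := fun d => lift (c + d.1) • y
  have hφ' : ∀ d a, rho a (quadFormPlus n F a + sympForm n F d.1 a) • y' d = y' d := by
    intro d a
    have hv : quadFormPlus n F (c + d.1) + sympForm n F c (c + d.1) = 0 := by
      rw [quad_add, form_add_right, form_self, d.2]
      linear_combination (CharTwo.add_self_eq_zero (quadFormPlus n F c)) +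
        (CharTwo.add_self_eq_zero (sympForm n F c d.1))
    have h := translate_transv hF c (c + d.1) a hv
    rw [← add_assoc, show c + c = 0 from funext fun i => CharTwo.add_self_eq_zero _, zero_add,
      ← hc] at h
    show rho a _ • lift (c + d.1) • y = lift (c + d.1) • y
    conv_lhs => arg 1; arg 1; rw [show a = transv (c + d.1) (1 : F) • transv (c + d.1) (1 : F) • a by
      rw [← mul_smul, transv_add, CharTwo.add_self_eq_zero, transv_zero, one_smul]]
    rw [smul_lift, ← h, hφ]
  have hzc : ∀ v, z * lift v = lift v * z := fun v => by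
    have h : lift v * z * (lift v)⁻¹ = z := by
      have h1 := lift_conj v (0 : Fin n ⊕ Fin n → F) (1 : F)
      rw [rho_zero, smul_def, Matrix.mulVec_zero, rho_zero] at h1
      exact h1
    exact (mul_inv_eq_iff_eq_mul.1 h).symm
  have hy' : ∀ d, z • y' d ≠ y' d := fun d h => by
    rw [← mul_smul, hzc, mul_smul] at h
    exact hzy (MulAction.injective _ h)
  have hA' : ∀ d, Aset (n := n) hF (y' d) = ⊤ := fun d =>
    Submodule.eq_top_iff'.2 fun a => ⟨_, hφ' d a⟩
  -- all the points
  let f : ((Fin n ⊕ Fin n → F) ⧸ Aset (n := n) hF x) ⊕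
      ({d // quadFormPlus n F d = quadFormPlus n F c} × F) → Ω :=
    Sum.elim (fun q => rho q.out 0 • x) (fun p => rho (0 : Fin n ⊕ Fin n → F) p.2 • y' p.1)
  have hf : Function.Injective f := by
    have hR : ∀ p : {d // quadFormPlus n F d = quadFormPlus n F c} × F, Aset (n := n) hF (rho (0 : Fin n ⊕ Fin n → F) p.2 • y' p.1) = ⊤ := fun p => by rw [Aset_smul, hA']
    have hne : (⊥ : Submodule F (Fin n ⊕ Fin n → F)) ≠ ⊤ := fun h => by
      have := congrArg (fun S : Submodule F (Fin n ⊕ Fin n → F) => Module.finrank F S) h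
      simp only [finrank_bot, finrank_top, finrank_space] at this
      omega
    refine Function.Injective.sumElim ?_ ?_ fun q p e => hne ?_
    · intro q r e
      rw [← Submodule.Quotient.mk_out q, ← Submodule.Quotient.mk_out r, Submodule.Quotient.eq]
      refine ⟨sympForm n F q.out r.out, ?_⟩
      have e' : rho q.out 0 • x = rho r.out 0 • x := e
      rw [sub_eq_add_neg, show -r.out = r.out from funext fun i => CharTwo.neg_eq _,
        add_comm q.out, show sympForm n F q.out r.out = (0 : F) + 0 + sympForm n F q.out r.out by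
          simp,
        ← rho_mul, mul_smul, e', ← mul_smul, rho_mul, add_zero, form_self, add_zero,
        show r.out + r.out = 0 from funext fun i => CharTwo.add_self_eq_zero _, rho_one, one_smul]
    · rintro ⟨d, s⟩ ⟨d', s'⟩ e
      have e' : rho (0 : Fin n ⊕ Fin n → F) s • y' d = rho (0 : Fin n ⊕ Fin n → F) s' • y' d' := e
      have hd : d = d' := by
        apply Subtype.ext
        have hfix : ∀ d s a, rho a (quadFormPlus n F a + sympForm n F d.1 a) • rho (0 : Fin n ⊕ Fin n → F) s • y' d =
            rho (0 : Fin n ⊕ Fin n → F) s • y' d := fun d s a => by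
          rw [← mul_smul, rho_comm, mul_smul, hφ']
        have hmv : z • rho (0 : Fin n ⊕ Fin n → F) s • y' d ≠ rho (0 : Fin n ⊕ Fin n → F) s • y' d := by
          rw [← mul_smul, hz, ← rho_zero, rho_comm, mul_smul, rho_zero]
          exact fun h => hy' d (MulAction.injective _ h)
        by_contra hne'
        have hsub : d.1 - d'.1 = 0 := form_nondeg fun a => by
          rw [form_sub_left, sub_eq_zero]
          have h := huniq _ hmv (hfix d s a) (e' ▸ hfix d' s' a)
          linear_combination h
        exact hne' (sub_eq_zero.1 hsub)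
      subst hd
      rcases eq01 hF s with rfl | rfl <;> rcases eq01 hF s' with rfl | rfl
      · rfl
      · rw [rho_zero, rho_one, one_smul] at e'
        exact absurd e'.symm (hy' d)
      · rw [rho_zero, rho_one, one_smul] at e'
        exact absurd e' (hy' d)
      · rfl
    · have := congrArg (Aset (n := n) hF) e
      rw [Aset_smul, hA, hR p] at this
      exact this
  have h := Nat.card_le_card_of_injective f hf
  rw [Nat.card_sum, Nat.card_prod, Module.natCard_eq_pow_finrank (K := F),
    Submodule.finrank_quotient, hA, finrank_bot, tsub_zero, finrank_space,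
    Nat.card_eq_fintype_card (α := F), hF] at h
  have h1 := level_ge hF hn c
  have e1 : 2 * (2 ^ (n - 1) * (2 ^ n - 1)) = 2 ^ n * (2 ^ n - 1) := by
    rw [← mul_assoc, ← pow_succ', Nat.sub_add_cancel hn]
  have e2 : 2 ^ n * (2 ^ (n + 1) - 1) = 2 ^ (2 * n) + 2 ^ n * (2 ^ n - 1) := by
    rw [two_mul n, pow_add 2 n n, ← mul_add, pow_succ]
    congr 1
    have := Nat.one_le_two_pow (n := n)
    omega
  omega

end Radical

/-! ### All orbits of the radicals of size at most two -/

section Small

variable {m : ℕ} {H : Subgroup (symplecticGroup (Fin m) F)}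

/-- If every radical has point stabilisers covering the quotient, the action is trivial. -/
theorem false_of_all_top (hF : Fintype.card F = 2) (hm : 3 ≤ m) (hH : H ≠ ⊤)
    (hP : ∀ (x : symplecticGroup (Fin m) F ⧸ H) (w a : Fin m ⊕ Fin m → F), w ≠ 0 →
      sympForm m F a w = 0 → ∃ c, heis w a c • x = x) : False := by
  classical
  haveI := charTwo hF
  let x : symplecticGroup (Fin m) F ⧸ H := QuotientGroup.mk 1
  let L : (Fin m ⊕ Fin m → F) → Prop := fun v => transv v (1 : F) • x = x
  have L0 : L 0 := by show transv 0 (1 : F) • x = x; rw [transv_vec_zero, one_smul]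
  have hfull : ∀ {w a}, w ≠ 0 → sympForm m F a w = 0 → L w → ∀ c, heis w a c • x = x := by
    intro w a hw ha hLw c
    obtain ⟨c₀, hc₀⟩ := hP x w a hw ha
    have e : heis w a c = heis w a c₀ * transv w (c - c₀) := by
      rw [← heis_zero, heis_mul ha (by simp), add_zero, form_zero_left, add_zero,
        add_sub_cancel]
    rw [e, mul_smul]
    rcases eq01 hF (c - c₀) with h | h <;> rw [h]
    · rw [transv_zero, one_smul, hc₀]
    · rw [show transv w (1 : F) • x = x from hLw, hc₀]
  have Linv : ∀ {g : symplecticGroup (Fin m) F} {v}, g • x = x → L v → L (g • v) := by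
    intro g v hg hv
    show transv (g • v) (1 : F) • x = x
    rw [← transv_conj, mul_smul, mul_smul, inv_smul_eq_iff.2 hg.symm,
      show transv v (1 : F) • x = x from hv, hg]
  have Ladd : ∀ {u v}, L u → L v → L (u + v) := by
    intro u v hu hv
    by_cases hu0 : u = 0
    · simpa [hu0] using hv
    rcases eq01 hF (sympForm m F u v) with h | h
    · have hfix := hfull hu0 (form_eq_zero_comm.1 h) hu 1
      rw [heis, sub_self, transv_zero, mul_one, mul_smul, CharTwo.neg_eq,
        show transv v (1 : F) • x = x from hv] at hfix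
      exact hfix
    · have := Linv hv hu
      rwa [transv_smul, one_mul, h, one_smul] at this
  have Lsmul : ∀ (s : F) {v}, L v → L (s • v) := by
    intro s v hv
    rcases eq01 hF s with rfl | rfl
    · rwa [zero_smul]
    · rwa [one_smul]
  have hnotall : ¬ ∀ v, L v := by
    intro hall
    apply hH
    have hst : MulAction.stabilizer (symplecticGroup (Fin m) F) x = ⊤ :=
      eq_top_of_transv fun v c => by
        rcases eq01 hF c with rfl | rfl
        · rw [transv_zero]; exact one_mem _
        · exact hall v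
    refine eq_top_iff.2 fun g _ => ?_
    have hg : g ∈ MulAction.stabilizer (symplecticGroup (Fin m) F) x :=
      hst ▸ Subgroup.mem_top g
    have h1 : (QuotientGroup.mk (g * 1) : symplecticGroup (Fin m) F ⧸ H) = QuotientGroup.mk 1 := hg
    rw [mul_one, QuotientGroup.eq, mul_one] at h1
    exact inv_mem_iff.1 h1
  have Liso : ∀ {u v}, L u → L v → sympForm m F u v = 0 := by
    intro y w hy hw
    rcases eq01 hF (sympForm m F y w) with h | h
    · exact h
    exfalso
    have hw0 : w ≠ 0 := fun e => by simp [e] at h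
    have hperp : ∀ a, sympForm m F a w = 0 → L a := by
      intro a ha
      have h1 := Linv (hfull hw0 ha hw 0) hy
      rw [heis_smul ha, h, one_smul, zero_mul, add_zero] at h1
      have h2 := Ladd (Ladd h1 hy) (Lsmul (sympForm m F y a) hw)
      have e : y + a + sympForm m F y a • w + y + sympForm m F y a • w = a := funext fun i => by
        simp only [Pi.add_apply]
        linear_combination (CharTwo.add_self_eq_zero (y i)) +
          (CharTwo.add_self_eq_zero ((sympForm m F y a • w) i))
      rwa [e] at h2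
    refine hnotall fun v => ?_
    have h1 := Ladd (hperp (v + sympForm m F v w • y) (by
      rw [form_add_left, form_smul_left, h, mul_one, CharTwo.add_self_eq_zero]))
      (Lsmul (sympForm m F v w) hy)
    rwa [add_assoc, show sympForm m F v w • y + sympForm m F v w • y = 0 from
      funext fun i => CharTwo.add_self_eq_zero _, add_zero] at h1
  obtain ⟨w₀, hw₀⟩ := not_forall.1 hnotall
  have hw₀0 : w₀ ≠ 0 := fun e => hw₀ (e ▸ L0)
  have Lzero : ∀ y, L y → y = 0 := by
    intro y hy
    rcases eq01 hF (sympForm m F y w₀) with h | h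
    · by_contra hy0
      obtain ⟨a, ha, hya⟩ := exists_perp_ne hw₀0 (v := y) fun s e => by
        rcases eq01 hF s with rfl | rfl
        · exact hy0 (by rw [e, zero_smul])
        · exact hw₀ (by rw [← one_smul F w₀, ← e]; exact hy)
      obtain ⟨c, hc⟩ := hP x w₀ a hw₀0 (form_eq_zero_comm.1 ha)
      have h1 := Linv hc hy
      rw [heis_smul (form_eq_zero_comm.1 ha), h, zero_smul, add_zero, mul_zero, add_zero,
        (eq01 hF _).resolve_left hya, one_smul] at h1
      have h2 := Ladd h1 hy
      rw [add_right_comm, show y + y = 0 from funext fun i => CharTwo.add_self_eq_zero _,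
        zero_add] at h2
      exact hw₀ h2
    · exfalso
      have hperp : ∀ a, sympForm m F a w₀ = 0 → ∃ s : F, L (a + s • w₀) := by
        intro a ha
        obtain ⟨c, hc⟩ := hP x w₀ a hw₀0 ha
        have h1 := Linv hc hy
        rw [heis_smul ha, h, one_smul, mul_one] at h1
        refine ⟨sympForm m F y a + c, ?_⟩
        have h2 := Ladd h1 hy
        rwa [show y + a + (sympForm m F y a + c) • w₀ + y = a + (sympForm m F y a + c) • w₀ from
          funext fun i => by
            simp only [Pi.add_apply]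
            linear_combination (CharTwo.add_self_eq_zero (y i))] at h2
      obtain ⟨a, ha, hane⟩ := exists_perp (F := F) (w := w₀) (show 2 ≤ m by omega)
      obtain ⟨b, hb, hab⟩ := exists_perp_ne hw₀0 hane
      obtain ⟨s, hs⟩ := hperp a (form_eq_zero_comm.1 ha)
      obtain ⟨t, ht⟩ := hperp b (form_eq_zero_comm.1 hb)
      have h0 := Liso hs ht
      rw [form_add_left, form_add_right, form_add_right, form_smul_left, form_smul_left,
        form_smul_right, form_smul_right, form_self, hb, form_eq_zero_comm.1 ha] at h0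
      exact hab (by simpa using h0)
  -- exactly one element over each line fixes the point
  have huniq : ∀ {w a c d}, w ≠ 0 → sympForm m F a w = 0 → heis w a c • x = x →
      heis w a d • x = x → c = d := by
    intro w a c d hw ha h1 h2
    have h3 : heis w (a + a) (c + d + sympForm m F a a) • x = x := by
      rw [← heis_mul ha ha, mul_smul, h2, h1]
    rw [form_self, add_zero, show a + a = 0 from funext fun i => CharTwo.add_self_eq_zero _,
      heis_zero] at h3
    rcases eq01 hF (c + d) with h | h
    · exact CharTwo.add_eq_zero.1 h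
    · rw [h] at h3; exact absurd (Lzero w h3) hw
  have hsymm : ∀ {w a c}, w ≠ 0 → a ≠ 0 → sympForm m F a w = 0 → heis w a c • x = x →
      heis a w c • x = x := by
    intro w a c hw ha0 ha hc
    have ha' : sympForm m F w a = 0 := form_eq_zero_comm.1 ha
    obtain ⟨d, hd⟩ := hP x a w ha0 ha'
    have e0 : heis w a (0 : F) = heis a w 0 := ext_smul fun v => by
      rw [heis_smul ha, heis_smul ha']
      simp only [zero_mul, add_zero]
      abel
    rcases eq01 hF c with rfl | rfl
    · rw [← e0]; exact hc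
    · rcases eq01 hF d with rfl | rfl
      · rw [← e0] at hd
        exact absurd (huniq hw ha hd hc) zero_ne_one
      · exact hd
  have hadd : ∀ {w a b c d}, sympForm m F a w = 0 → sympForm m F b w = 0 → heis w a c • x = x →
      heis w b d • x = x → heis w (a + b) (c + d + sympForm m F b a) • x = x := by
    intro w a b c d ha hb hc hd
    rw [← heis_mul ha hb, mul_smul, hd, hc]
  -- two ways of expanding
  set i₀ : Fin m := ⟨0, by omega⟩ with hi₀
  set i₁ : Fin m := ⟨1, by omega⟩ with hi₁
  set i₂ : Fin m := ⟨2, by omega⟩ with hi₂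
  have h01 : i₀ ≠ i₁ := by simp [hi₀, hi₁]
  have h02 : i₀ ≠ i₂ := by simp [hi₀, hi₂]
  have h12 : i₁ ≠ i₂ := by simp [hi₁, hi₂]
  set u : Fin m ⊕ Fin m → F := Pi.single (Sum.inl i₀) 1 with hu
  set u' : Fin m ⊕ Fin m → F := Pi.single (Sum.inr i₀) 1 with hu'
  set v : Fin m ⊕ Fin m → F := Pi.single (Sum.inl i₁) 1 with hv
  set v' : Fin m ⊕ Fin m → F := Pi.single (Sum.inl i₂) 1 with hv'
  have fu : sympForm m F u' u = 1 := by simp [hu, hu', form_single_inl_right]
  have fv : sympForm m F v' v = 0 := by simp [hv, hv', form_single_inl_right]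
  have p1 : sympForm m F u v = 0 := by simp [hu, hv, form_single_inl_right]
  have p2 : sympForm m F u' v = 0 := by simp [hu', hv, form_single_inl_right, h01.symm]
  have p3 : sympForm m F u v' = 0 := by simp [hu, hv', form_single_inl_right]
  have p4 : sympForm m F u' v' = 0 := by simp [hu', hv', form_single_inl_right, h02.symm]
  have q1 := form_eq_zero_comm.1 p1
  have q2 := form_eq_zero_comm.1 p2
  have q3 := form_eq_zero_comm.1 p3
  have q4 := form_eq_zero_comm.1 p4
  have nu : u ≠ 0 := by simp [hu]
  have nu' : u' ≠ 0 := by simp [hu']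
  have nv : v ≠ 0 := by simp [hv]
  have nv' : v' ≠ 0 := by simp [hv']
  have nuu : u + u' ≠ 0 := fun e => by
    have := congrFun e (Sum.inl i₀)
    simp [hu, hu'] at this
  have nvv : v + v' ≠ 0 := fun e => by
    have := congrFun e (Sum.inl i₁)
    simp [hv, hv', h12] at this
  obtain ⟨c₁, hc₁⟩ := hP x v u nv p1
  obtain ⟨c₂, hc₂⟩ := hP x v u' nv p2
  obtain ⟨c₃, hc₃⟩ := hP x v' u nv' p3
  obtain ⟨c₄, hc₄⟩ := hP x v' u' nv' p4
  have q12 : sympForm m F v (u + u') = 0 := by rw [form_add_right, q1, q2, add_zero]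
  have q34 : sympForm m F v' (u + u') = 0 := by rw [form_add_right, q3, q4, add_zero]
  have r1 : sympForm m F (u + u') v = 0 := form_eq_zero_comm.1 q12
  have r2 : sympForm m F (u + u') v' = 0 := form_eq_zero_comm.1 q34
  have hA1 := hadd p1 p2 hc₁ hc₂
  have hA2 := hadd p3 p4 hc₃ hc₄
  have hA := hadd q12 q34 (hsymm nv nuu r1 hA1) (hsymm nv' nuu r2 hA2)
  have hB1 := hadd q1 q3 (hsymm nv nu p1 hc₁) (hsymm nv' nu p3 hc₃)
  have hB2 := hadd q2 q4 (hsymm nv nu' p2 hc₂) (hsymm nv' nu' p4 hc₄)
  have r3 : sympForm m F (v + v') u = 0 := by rw [form_add_left, q1, q3, add_zero]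
  have r4 : sympForm m F (v + v') u' = 0 := by rw [form_add_left, q2, q4, add_zero]
  have r5 := form_eq_zero_comm.1 r3
  have r6 := form_eq_zero_comm.1 r4
  have hB := hsymm nvv nuu (by rw [form_add_left, r5, r6, add_zero])
    (hadd r5 r6 (hsymm nu nvv r3 hB1) (hsymm nu' nvv r4 hB2))
  have h := huniq nuu (by rw [form_add_left, q12, q34, add_zero]) hA hB
  rw [fu, fv] at h
  exact one_ne_zero (α := F) (by linear_combination h)

end Small

/-! ### The bound -/

theorem lower (hF : Fintype.card F = 2) (m : ℕ) (hm : 3 ≤ m)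
    (H : Subgroup (symplecticGroup (Fin m) F)) (hH : H ≠ ⊤) :
    2 ^ (m - 1) * (2 ^ m - 1) ≤ H.index := by
  classical
  obtain ⟨n, rfl⟩ : ∃ n, m = n + 1 := ⟨m - 1, by omega⟩
  rw [Nat.add_sub_cancel, Subgroup.index]
  set Ω := symplecticGroup (Fin (n + 1)) F ⧸ H
  haveI := charTwo hF
  by_cases hmid : ∃ x : Ω, Aset (n := n) hF x ≠ ⊥ ∧ Aset (n := n) hF x ≠ ⊤
  · obtain ⟨x, h0, h1⟩ := hmid
    exact card_of_mid hF (by omega) h0 h1
  push Not at hmid
  by_cases hbot : ∃ x : Ω, Aset (n := n) hF x = ⊥
  · obtain ⟨x, hx⟩ := hbot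
    by_cases hzx : transv (wv (F := F) (n := n)) (1 : F) • x = x
    swap
    · exact card_of_free hF hx hzx
    by_cases hmove : ∃ y : Ω, transv (wv (F := F) (n := n)) (1 : F) • y ≠ y
    · obtain ⟨y, hy⟩ := hmove
      by_cases hy0 : Aset (n := n) hF y = ⊥
      · exact card_of_free hF hy0 hy
      · exact card_of_mixed hF (by omega) hx (hmid y hy0) hy
    · push Not at hmove
      exfalso
      apply hH
      have hall : ∀ (v : Fin (n + 1) ⊕ Fin (n + 1) → F) (y : Ω), transv v (1 : F) • y = y := by
        intro v y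
        by_cases hv : v = 0
        · rw [hv, transv_vec_zero, one_smul]
        obtain ⟨g, hg⟩ := exists_smul_eq (wv_ne (F := F) (n := n)) hv
        rw [← hg, ← transv_conj, mul_smul, mul_smul, hmove, smul_inv_smul]
      have hst : MulAction.stabilizer (symplecticGroup (Fin (n + 1)) F)
          (QuotientGroup.mk 1 : Ω) = ⊤ :=
        eq_top_of_transv fun v c => by
          rcases eq01 hF c with rfl | rfl
          · rw [transv_zero]; exact one_mem _
          · exact hall v _
      refine eq_top_iff.2 fun g _ => ?_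
      have hg : g ∈ MulAction.stabilizer (symplecticGroup (Fin (n + 1)) F)
          (QuotientGroup.mk 1 : Ω) := hst ▸ Subgroup.mem_top g
      have h1 : (QuotientGroup.mk (g * 1) : Ω) = QuotientGroup.mk 1 := hg
      rw [mul_one, QuotientGroup.eq, mul_one] at h1
      exact inv_mem_iff.1 h1
  · exfalso
    refine false_of_all_top hF hm hH fun x w a hw ha => ?_
    obtain ⟨g, hg⟩ := exists_smul_eq (wv_ne (F := F) (n := n)) hw
    have ha' : sympForm (n + 1) F (g⁻¹ • a) wv = 0 := by
      rw [← form_map g, smul_inv_smul, hg, ha]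
    obtain ⟨s, b, hb⟩ := exists_ext ha'
    have htop : Aset (n := n) hF (g⁻¹ • x) = ⊤ :=
      hmid _ fun h => hbot ⟨_, h⟩
    obtain ⟨c, hc⟩ : b ∈ Aset (n := n) hF (g⁻¹ • x) := htop ▸ Submodule.mem_top
    refine ⟨c, ?_⟩
    have e : heis w a c = g * rho b c * g⁻¹ := by
      rw [rho, heis_conj, hg]
      conv_lhs => rw [← smul_inv_smul g a, hb]
      have e2 : heis wv (ext b + s • wv) c = heis wv (ext b) c := by
        rw [heis_shift (ext_perp b), CharTwo.two_eq_zero, zero_mul, add_zero]
      have := congrArg (fun k => g * k * g⁻¹) e2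
      simp only [heis_conj, hg] at this
      exact this
    rw [e, mul_smul, mul_smul, hc, smul_inv_smul]

/-- Stabiliser of a minus type translate of the standard form. -/
theorem exists_index (hF : Fintype.card F = 2) (m : ℕ) (hm : 1 ≤ m) :
    ∃ S : Subgroup (symplecticGroup (Fin m) F),
      Subgroup.center (symplecticGroup (Fin m) F) ≤ S ∧
        S.index = 2 ^ (m - 1) * (2 ^ m - 1) := by
  classical
  haveI := charTwo hF
  obtain ⟨h0, h1⟩ := card_level hF hm
  have hpos : 0 < Nat.card {x : Fin m ⊕ Fin m → F // quadFormPlus m F x = 1} := by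
    rw [h1]
    have : 2 ^ 1 ≤ 2 ^ m := Nat.pow_le_pow_right (by omega) hm
    exact Nat.mul_pos (Nat.two_pow_pos _) (by omega)
  obtain ⟨⟨b₀, hb₀⟩⟩ := (Nat.card_pos_iff.1 hpos).1
  let Q₁ : (Fin m ⊕ Fin m → F) → F := fun x => quadFormPlus m F x + sympForm m F b₀ x
  have hQ₁ : ∀ a b, Q₁ (a + b) = Q₁ a + Q₁ b + sympForm m F a b := fun a b => by
    simp only [Q₁, quad_add, form_add_right]; ring
  let S : Subgroup (symplecticGroup (Fin m) F) :=
    { carrier := {g | ∀ x, Q₁ (g • x) = Q₁ x}
      one_mem' := fun x => by rw [one_smul]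
      mul_mem' := fun {g h} hg hh x => by rw [mul_smul, hg, hh]
      inv_mem' := fun {g} hg x => by rw [← hg (g⁻¹ • x), smul_inv_smul] }
  refine ⟨S, fun g hg => ?_, ?_⟩
  · obtain ⟨a, ha, hs⟩ := (SymplecticSimple.mem_center_iff hm).1 hg
    intro x
    have : a = 1 := by
      rcases eq01 hF a with rfl | rfl
      · simp at ha
      · rfl
    rw [hs, this, one_smul]
  rw [Subgroup.index, ← h1]
  have hψ : ∀ g : symplecticGroup (Fin m) F, ∃ b,
      ∀ x, Q₁ (g⁻¹ • x) = quadFormPlus m F x + sympForm m F b x := fun g =>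
    exists_translate hF _ fun a b => by rw [add_smul', hQ₁, form_map]
  choose ψ hψ using hψ
  have hψ1 : ∀ g, quadFormPlus m F (ψ g) = 1 := by
    intro g
    rcases eq01 hF (quadFormPlus m F (ψ g)) with h | h
    · exfalso
      have e : Nat.card {x // Q₁ x = 0} =
          Nat.card {x // quadFormPlus m F x + sympForm m F (ψ g) x = 0} :=
        Nat.card_congr ((MulAction.toPerm g).subtypeEquiv fun x => by
          show _ ↔ quadFormPlus m F (g • x) + sympForm m F (ψ g) (g • x) = 0
          rw [← hψ, inv_smul_smul])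
      rw [card_zero_translate, card_zero_translate, h, hb₀, h0, h1] at e
      have hp : 2 ^ m = 2 * 2 ^ (m - 1) := by rw [← pow_succ', Nat.sub_add_cancel hm]
      have : 1 ≤ 2 ^ (m - 1) := Nat.one_le_two_pow
      rw [mul_add, mul_one, mul_comm (2 ^ (m - 1))] at e
      omega
    · exact h
  let f : symplecticGroup (Fin m) F ⧸ S → {x : Fin m ⊕ Fin m → F // quadFormPlus m F x = 1} :=
    fun q => ⟨ψ q.out, hψ1 _⟩
  have hsame : ∀ g h, ψ g = ψ h → h⁻¹ * g ∈ S := by
    intro g h e x
    rw [mul_smul, hψ h, ← e, ← hψ g, inv_smul_smul]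
  refine Nat.card_congr (Equiv.ofBijective f ⟨fun q r e => ?_, fun d => ?_⟩)
  · rw [← QuotientGroup.out_eq' q, ← QuotientGroup.out_eq' r]
    exact (QuotientGroup.eq.2 (hsame _ _ (congrArg Subtype.val e))).symm
  · set v := b₀ + d.1 with hv
    have hv0 : quadFormPlus m F v + sympForm m F b₀ v = 0 := by
      rw [hv, quad_add, form_add_right, form_self, hb₀, d.2]
      linear_combination (CharTwo.add_self_eq_zero (1 : F)) +
        (CharTwo.add_self_eq_zero (sympForm m F b₀ d.1))
    refine ⟨QuotientGroup.mk (transv v (1 : F)), Subtype.ext ?_⟩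
    set r := (QuotientGroup.mk (transv v (1 : F)) : symplecticGroup (Fin m) F ⧸ S).out with hr
    have hmem : (transv v (1 : F))⁻¹ * r ∈ S := QuotientGroup.eq.1 (QuotientGroup.out_eq' _).symm
    show ψ r = d.1
    refine sub_eq_zero.1 (form_nondeg fun x => ?_)
    rw [form_sub_left, sub_eq_zero]
    have h2 := hψ r x
    have h3 := hmem (r⁻¹ • x)
    rw [mul_smul, smul_inv_smul, transv_inv, CharTwo.neg_eq, h2] at h3
    have h4 := translate_transv hF b₀ v x hv0
    rw [hv, ← add_assoc, show b₀ + b₀ = 0 from funext fun i => CharTwo.add_self_eq_zero _,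
      zero_add] at h4
    linear_combination h4.symm.trans h3 |>.symm

theorem main (hF : Fintype.card F = 2) (m : ℕ) (hm : 3 ≤ m) :
    (∀ H : Subgroup (Cfsg.PSp m F), H ≠ ⊤ → 2 ^ (m - 1) * (2 ^ m - 1) ≤ H.index) ∧
      (∃ H : Subgroup (Cfsg.PSp m F), H.index = 2 ^ (m - 1) * (2 ^ m - 1)) := by
  set π := QuotientGroup.mk' (Subgroup.center (symplecticGroup (Fin m) F)) with hπ
  have hs : Function.Surjective π := QuotientGroup.mk'_surjective _
  refine ⟨fun H hH => ?_, ?_⟩
  · rw [← Subgroup.index_comap_of_surjective H hs]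
    exact lower hF m hm _ fun h => hH (Subgroup.comap_injective hs (h.trans (Subgroup.comap_top π).symm))
  · obtain ⟨S, hS, hi⟩ := exists_index hF m (by omega)
    exact ⟨S.map π, by rw [Subgroup.index_map_eq S hs (by rw [hπ, QuotientGroup.ker_mk']; exact hS), hi]⟩

end Cfsg.Agent.MinIndexSpTwo29
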