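import Mathlib
import Cfsg.Agent.Lib.MinIndexUnit19Geo
import Cfsg.Agent.Lib.MinIndexUnit19Count

/-!
In dimension four a closed subgroup of index `q ^ 2` is the perpendicular of a point: otherwise
some totally isotropic plane would avoid it.
-/

set_option autoImplicit false

namespace Cfsg.Agent.MinIndexUnit19

open Cfsg Cfsg.Agent.OrthUnitaryHerm Cfsg.Agent.OrthUnitaryTransvection
  Cfsg.Agent.SUMinDegree32Geom

variable {F : Type*} [Field F] [Fintype F] {q n : ℕ}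
variable {W : Submodule F (Fin n → F)} {S : AddSubgroup (Fin n → F)}

local notation "⟪" x ", " y "⟫" => hermForm n F q x y

variable (hF : Fintype.card F = q ^ 2)
include hF

/-- Two vectors spanning a set of the same size span it. -/
theorem exists_comb_of_card {X : Submodule F (Fin n → F)} (hX : Nat.card X = q ^ 4)
    {x y : Fin n → F} (hx : x ∈ X) (hy : y ∈ X) (hx0 : x ≠ 0) (hind : ∀ c : F, y ≠ c • x)
    {z : Fin n → F} (hz : z ∈ X) : ∃ a b : F, z = a • x + b • y := by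
  let φ : F × F → X := fun p => ⟨p.1 • x + p.2 • y, X.add_mem (X.smul_mem _ hx) (X.smul_mem _ hy)⟩
  have hinj : Function.Injective φ := by
    rintro ⟨a, b⟩ ⟨a', b'⟩ h
    have h' : a • x + b • y = a' • x + b' • y := congrArg Subtype.val h
    have hb : b = b' := by
      by_contra hne
      refine hind ((a' - a) / (b - b')) ?_
      rw [div_eq_inv_mul, ← smul_smul, sub_smul, eq_inv_smul_iff₀ (sub_ne_zero.2 hne), sub_smul]
      rw [← sub_eq_zero] at h' ⊢
      rw [← h']; abel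
    subst hb
    exact Prod.ext (smul_left_injective F hx0 (add_right_cancel h')) rfl
  obtain ⟨⟨a, b⟩, h⟩ := (hinj.bijective_of_nat_card_le (by
    rw [hX, Nat.card_prod, Nat.card_eq_fintype_card, hF, ← pow_add])).2 ⟨z, hz⟩
  exact ⟨a, b, (congrArg Subtype.val h).symm⟩

/-- Closed subgroups of index `q ^ 2` in dimension four. -/
theorem plane_case (hW : Nondeg q W) (hd : Module.finrank F W = 4)
    (hS : ∀ s ∈ S, s ∈ W) (hcl : ClosedS hF S) (hidx : Nat.card S * q ^ 2 = Nat.card W) :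
    ∃ u ∈ W, u ≠ 0 ∧ ∀ s ∈ S, ⟪s, u⟫ = 0 := by
  classical
  by_contra hcon
  push Not at hcon
  have hq := two_le_q hF
  have hcW : Nat.card W = q ^ 8 := by rw [card_submodule hF, hd]
  obtain ⟨ψ, hψ, -⟩ := exists_char hF (P := (⊥ : AddSubgroup (fixedSet hF))) (fun h => by
    have := congrArg (fun P : AddSubgroup (fixedSet hF) => Nat.card P) h
    simp only [AddSubgroup.card_bot, AddSubgroup.card_top, card_fixedSet hF] at this
    omega)
  set A := annS hF W S ψ with hAdef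
  have hA : Nat.card A = q ^ 2 := by
    have h1 := card_mul_annS hF hW hS hψ
    rw [← hidx] at h1
    exact Nat.eq_of_mul_eq_mul_left Nat.card_pos h1
  -- a line of `W` inside `A` annihilates `S`
  have hlineA : ∀ u ∈ W, u ≠ 0 → ¬∀ a : F, a • u ∈ A := by
    intro u hu hu0 hall
    obtain ⟨s, hs, hne⟩ := hcon u hu hu0
    obtain ⟨r, hr⟩ := AddChar.ne_zero_iff.1 hψ
    obtain ⟨y₀, hy₀⟩ := exists_trace hF (one_pow q : (1 : F) ^ q = 1)
    obtain ⟨a, ha⟩ : ∃ a : F, a ^ q * ⟪s, u⟫ = c0 hF * (r : F) * y₀ :=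
      ⟨((c0 hF * (r : F) * y₀) / ⟪s, u⟫) ^ q, by rw [pow_q_q hF, div_mul_cancel₀ _ hne]⟩
    refine hr ?_
    rw [← (hall a).2 s hs]
    congr 1
    refine Subtype.ext ?_
    show (r : F) = (⟪s, a • u⟫ - ⟪a • u, s⟫) / c0 hF
    have ha' : a * ⟪u, s⟫ = (c0 hF * (r : F) * y₀) ^ q := by
      rw [← ha, mul_pow, pow_q_q hF, ← herm_conj hF]
    rw [herm_smul_right, herm_smul_left, ha, ha', eq_div_iff (c0_ne hF), mul_pow, mul_pow, r.2,
      show c0 hF ^ q = -c0 hF by linear_combination c0_skew hF]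
    linear_combination (-(c0 hF * (r : F))) * hy₀
  obtain ⟨w₁, hw₁A, hw₁0⟩ : ∃ w ∈ A, w ≠ 0 := by
    by_contra! h
    have hb : A = ⊥ := (AddSubgroup.eq_bot_iff_forall _).2 h
    rw [hb, AddSubgroup.card_bot] at hA
    have := Nat.pow_le_pow_left hq 2
    omega
  obtain ⟨w₂, hw₂A, hw₂⟩ : ∃ w ∈ A, ∀ c : F, w ≠ c • w₁ := by
    by_contra! h
    refine hlineA w₁ hw₁A.1 hw₁0 fun a => ?_
    choose c hc using h
    have hinj : Function.Injective (fun x : A => c x x.2) := fun x y hxy => Subtype.ext (by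
      rw [hc x x.2, hc y y.2]; exact congrArg (· • w₁) hxy)
    obtain ⟨x, hx⟩ := (hinj.bijective_of_nat_card_le (by
      rw [Nat.card_eq_fintype_card (α := F), hF, hA])).2 a
    have hx' : (x : Fin n → F) = a • w₁ := by rw [← hx]; exact hc x x.2
    rw [← hx']; exact x.2
  set X := W ⊓ LinearMap.ker (hermL q w₁) ⊓ LinearMap.ker (hermL q w₂) with hXdef
  have hXmem : ∀ x, x ∈ X ↔ x ∈ W ∧ ⟪x, w₁⟫ = 0 ∧ ⟪x, w₂⟫ = 0 := by
    intro x; simp [hXdef, hermL_apply, and_assoc]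
  have hX : Nat.card X = q ^ 4 := by
    have h1 := card_preimage_mul _ (ipPair_surjective hF hW hw₁A.1 hw₂A.1 hw₁0 hw₂) {(0, 0)}
    rw [Nat.card_unique (α := ({((0 : F), (0 : F))} : Set (F × F))), mul_one, Nat.card_prod,
      Nat.card_eq_fintype_card (α := F), hF, ← pow_add, hcW] at h1
    refine Eq.trans (Nat.card_congr ?_)
      (Nat.eq_of_mul_eq_mul_right (Nat.pow_pos (by omega)) (h1.trans (pow_add q 4 4)))
    exact
      { toFun := fun x => ⟨⟨x.1, ((hXmem _).1 x.2).1⟩,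
          Prod.ext ((hXmem _).1 x.2).2.1 ((hXmem _).1 x.2).2.2⟩
        invFun := fun w => ⟨(w.1 : Fin n → F), (hXmem _).2
          ⟨w.1.2, congrArg Prod.fst w.2, congrArg Prod.snd w.2⟩⟩
        left_inv := fun _ => rfl
        right_inv := fun _ => rfl }
  -- full vectors lie in `X`
  have hfull : ∀ v ∈ W, (∀ a : F, a • v ∈ S) → v ∈ X := by
    intro v hv hall
    have key : ∀ w ∈ A, ⟪v, w⟫ = 0 := by
      intro w hw
      by_contra hne
      obtain ⟨r, hr⟩ := AddChar.ne_zero_iff.1 hψ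
      obtain ⟨y₀, hy₀⟩ := exists_trace hF (one_pow q : (1 : F) ^ q = 1)
      obtain ⟨a, ha⟩ : ∃ a : F, a * ⟪v, w⟫ = c0 hF * (r : F) * y₀ :=
        ⟨_, div_mul_cancel₀ _ hne⟩
      refine hr ?_
      rw [← hw.2 _ (hall a)]
      congr 1
      refine Subtype.ext ?_
      show (r : F) = (⟪a • v, w⟫ - ⟪w, a • v⟫) / c0 hF
      have ha' : a ^ q * ⟪w, v⟫ = (c0 hF * (r : F) * y₀) ^ q := by
        rw [← ha, mul_pow, ← herm_conj hF]
      rw [herm_smul_right, herm_smul_left, ha, ha', eq_div_iff (c0_ne hF), mul_pow, mul_pow, r.2,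
        show c0 hF ^ q = -c0 hF by linear_combination c0_skew hF]
      linear_combination (-(c0 hF * (r : F))) * hy₀
    exact (hXmem v).2 ⟨hv, key w₁ hw₁A, key w₂ hw₂A⟩
  -- vectors of partial lines
  set Pset : Set (Fin n → F) := {v | v ∈ W ∧ ⟪v, v⟫ = 0 ∧ v ≠ 0 ∧
    (∃ a : F, a ≠ 0 ∧ a • v ∈ S) ∧ ∃ a : F, a • v ∉ S} with hPset
  have hPA : ∀ v ∈ Pset, ∃ b : F, b ≠ 0 ∧ ∀ r : F, r ^ q = r → (r / b) • v ∈ A := by
    rintro v ⟨hv, hvv, hv0, ⟨x, hx0, hxS⟩, a, ha⟩
    obtain ⟨b, hb⟩ := exists_fixLine hF (hcl _ hxS (herm_smul_smul_zero hvv _ _))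
      (a := a / x) (by rwa [smul_smul, div_mul_cancel₀ _ hx0])
    have hb0 : b ≠ 0 := by
      intro hb0
      obtain ⟨s, hs, hne⟩ := hcon (x • v) (W.smul_mem _ hv) (smul_ne_zero hx0 hv0)
      obtain ⟨r, -, hr⟩ := hb s hs
      exact hne (by rw [hr, hb0, zero_mul])
    refine ⟨b ^ q / x, div_ne_zero (pow_ne_zero _ hb0) hx0, fun r hr =>
      ⟨W.smul_mem _ hv, fun s hs => ?_⟩⟩
    obtain ⟨r', hr', hsr⟩ := hb s hs
    rw [herm_smul_right] at hsr
    have h0 : bf hF ((r / (b ^ q / x)) • v) s = 0 := by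
      refine Subtype.ext ?_
      show (⟪s, (r / (b ^ q / x)) • v⟫ - ⟪(r / (b ^ q / x)) • v, s⟫) / c0 hF = 0
      have h1 : ⟪s, (r / (b ^ q / x)) • v⟫ = r * r' := by
        rw [herm_smul_right, div_pow, div_pow, hr, pow_q_q hF, div_div_eq_mul_div, div_mul_eq_mul_div,
          mul_assoc, hsr]
        field_simp
      have h2 : ⟪(r / (b ^ q / x)) • v, s⟫ = r * r' := by
        rw [herm_conj hF s, h1, mul_pow, hr, hr']
      rw [h1, h2, sub_self, zero_div]
    rw [h0, AddChar.map_zero_eq_one]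
  have hq1 : 1 ≤ q ^ 2 := Nat.one_le_pow _ _ (by omega)
  have hunits : Nat.card {a : F // a ≠ 0} = q ^ 2 - 1 := by
    rw [Nat.card_eq_fintype_card, Fintype.card_subtype_compl, Fintype.card_subtype_eq, hF]
  have hPcard : Nat.card Pset ≤ (q + 1) * (q ^ 2 - 1) := by
    choose! b hb0 hb using hPA
    have h1 : Nat.card (Pset × {r : fixedSet hF // r ≠ 0}) ≤
        Nat.card ({w : A // w ≠ 0} × {a : F // a ≠ 0}) := by
      have hne : ∀ (v : Pset) (r : {r : fixedSet hF // r ≠ 0}),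
          ((r.1 : F) / b v.1) • v.1 ≠ 0 := fun v r =>
        smul_ne_zero (div_ne_zero (fun h => r.2 (Subtype.ext h)) (hb0 _ v.2)) v.2.2.2.1
      refine Nat.card_le_card_of_injective (fun p => (⟨⟨_, hb _ p.1.2 _ p.2.1.2⟩,
        fun h => hne p.1 p.2 (congrArg Subtype.val h)⟩,
        ⟨(p.2.1 : F) / b p.1.1, div_ne_zero (fun h => p.2.2 (Subtype.ext h)) (hb0 _ p.1.2)⟩)) ?_
      rintro ⟨v, r⟩ ⟨v', r'⟩ h
      have ha : (r.1 : F) / b v.1 = (r'.1 : F) / b v'.1 := congrArg (fun z => z.2.1) h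
      have hv : ((r.1 : F) / b v.1) • v.1 = ((r'.1 : F) / b v'.1) • v'.1 :=
        congrArg (fun z => (z.1.1 : Fin n → F)) h
      rw [ha] at hv
      obtain rfl : v = v' := Subtype.ext (smul_right_injective _
        (div_ne_zero (fun h => r'.2 (Subtype.ext h)) (hb0 _ v'.2)) hv)
      obtain rfl : r = r' := Subtype.ext (Subtype.ext (by
        rwa [div_left_inj' (hb0 _ v.2)] at ha))
      rfl
    have := Fintype.ofFinite A
    rw [Nat.card_prod, Nat.card_prod, hunits,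
      Nat.card_eq_fintype_card (α := {r : fixedSet hF // r ≠ 0}), Fintype.card_subtype_compl,
      Fintype.card_subtype_eq, ← Nat.card_eq_fintype_card, card_fixedSet hF,
      Nat.card_eq_fintype_card (α := {w : A // w ≠ 0}), Fintype.card_subtype_compl,
      Fintype.card_subtype_eq, ← Nat.card_eq_fintype_card, hA] at h1
    refine Nat.le_of_mul_le_mul_right (h1.trans (le_of_eq ?_)) (show 0 < q - 1 by omega)
    have : q ^ 2 - 1 = (q + 1) * (q - 1) := by
      rw [← Nat.sq_sub_sq, one_pow]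
    rw [this]; ring
  -- a hyperbolic basis whose plane absorbs `X` when that is totally isotropic
  obtain ⟨e₁, f₁, e₂, f₂, hP₁, hP₂, hbad⟩ : ∃ e₁ f₁ e₂ f₂, HP q W e₁ f₁ ∧
      HP q (pairPerp q W e₁ f₁) e₂ f₂ ∧
      ∃ T : Set (Fin n → F), Nat.card T ≤ (q + 1) * (q ^ 2 - 1) ∧ ∀ v ∈ X, ⟪v, v⟫ = 0 → v ≠ 0 →
        v ∈ T ∨ ∃ a b : F, v = a • e₁ + b • e₂ := by
    by_cases hTI : ∀ x ∈ X, ∀ y ∈ X, ⟪x, y⟫ = 0
    · obtain ⟨x, hx, hx0⟩ : ∃ x ∈ X, x ≠ 0 := by
        by_contra! h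
        have hb : X = ⊥ := (Submodule.eq_bot_iff _).2 h
        rw [hb, Nat.card_unique] at hX
        have := Nat.pow_le_pow_left hq 4
        omega
      obtain ⟨f₁, hP₁⟩ := HP.exists_of_iso hF hW ((hXmem x).1 hx).1 hx0 (hTI x hx x hx)
      obtain ⟨y, hy, hyind⟩ : ∃ y ∈ X, ∀ c : F, y ≠ c • x := by
        by_contra! h
        choose c hc using h
        have hinj : Function.Injective (fun z : X => c z z.2) := fun z z' hzz => Subtype.ext (by
          rw [hc z z.2, hc z' z'.2]; exact congrArg (· • x) hzz)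
        have := Nat.card_le_card_of_injective _ hinj
        rw [hX, Nat.card_eq_fintype_card, hF] at this
        have := Nat.pow_lt_pow_right (show 1 < q by omega) (show 2 < 4 by omega)
        omega
      set e₂ := y - ⟪y, f₁⟫ • x with he₂
      have he₂X : e₂ ∈ X := X.sub_mem hy (X.smul_mem _ hx)
      have he₂m : e₂ ∈ pairPerp q W x f₁ := mem_pairPerp.2 ⟨((hXmem _).1 he₂X).1,
        hTI _ he₂X x hx, by rw [he₂, herm_sub_left, herm_smul_left, hP₁.ef, mul_one, sub_self]⟩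
      have he₂0 : e₂ ≠ 0 := fun h => hyind _ (sub_eq_zero.1 h)
      obtain ⟨f₂, hP₂⟩ :=
        HP.exists_of_iso hF (hP₁.nondeg hF hW) he₂m he₂0 (hTI _ he₂X _ he₂X)
      refine ⟨x, f₁, e₂, f₂, hP₁, hP₂, ∅, by simp, fun v hv _ _ => Or.inr ?_⟩
      obtain ⟨a, b, h⟩ := exists_comb_of_card hF hX hx hy hx0 hyind hv
      refine ⟨a + b * ⟪y, f₁⟫, b, ?_⟩
      rw [h, he₂]
      module
    · obtain ⟨x, hxW, hx0, hx⟩ := exists_iso_in hF hW (by omega)
      obtain ⟨f₁, hP₁⟩ := HP.exists_of_iso hF hW hxW hx0 hx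
      obtain ⟨y, hyW, hy0, hy⟩ := exists_iso_in hF (hP₁.nondeg hF hW)
        (by have := hP₁.finrank hF; omega)
      obtain ⟨f₂, hP₂⟩ := HP.exists_of_iso hF (hP₁.nondeg hF hW) hyW hy0 hy
      refine ⟨x, f₁, y, f₂, hP₁, hP₂, {v | v ∈ X ∧ ⟪v, v⟫ = 0 ∧ v ≠ 0}, ?_,
        fun v hv hvv hv0 => Or.inl ⟨hv, hvv, hv0⟩⟩
      by_cases htwo : ∃ a ∈ X, ∃ b ∈ X, ⟪a, a⟫ = 0 ∧ ⟪b, b⟫ = 0 ∧ a ≠ 0 ∧ ∀ c : F, b ≠ c • a
      · obtain ⟨a, haX, b, hbX, haa, hbb, ha0, hind⟩ := htwo
        have hab : ⟪a, b⟫ ≠ 0 := by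
          intro hab
          apply hTI
          intro u hu v hv
          obtain ⟨c₁, d₁, rfl⟩ := exists_comb_of_card hF hX haX hbX ha0 hind hu
          obtain ⟨c₂, d₂, rfl⟩ := exists_comb_of_card hF hX haX hbX ha0 hind hv
          simp only [herm_add_left, herm_add_right hF, herm_smul_left, herm_smul_right, haa, hbb,
            hab, herm_skew_zero hF hab, mul_zero, add_zero]
        have key : ∀ v : {v : Fin n → F // v ∈ X ∧ ⟪v, v⟫ = 0 ∧ v ≠ 0}, ∃ c d : F,
            v.1 = c • a + d • b ∧ c * d ^ q * ⟪a, b⟫ + (c * d ^ q * ⟪a, b⟫) ^ q = 0 := by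
          rintro ⟨v, hv, hvv, -⟩
          obtain ⟨c, d, h⟩ := exists_comb_of_card hF hX haX hbX ha0 hind hv
          refine ⟨c, d, h, ?_⟩
          rw [h] at hvv
          simp only [herm_add_left, herm_add_right hF, herm_smul_left, herm_smul_right, haa, hbb,
            mul_zero, add_zero, zero_add] at hvv
          rw [mul_pow, mul_pow, pow_q_q hF, ← herm_conj hF a b]
          linear_combination hvv
        choose c d hcd htr using key
        let enc : {v : Fin n → F // v ∈ X ∧ ⟪v, v⟫ = 0 ∧ v ≠ 0} →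
            {c : F // c ≠ 0} ⊕ ({d : F // d ≠ 0} × fixedSet hF) := fun v =>
          if h : d v = 0 then Sum.inl ⟨c v, fun h0 => v.2.2.2 (by
            rw [hcd v, h, h0, zero_smul, zero_smul, add_zero])⟩
          else Sum.inr (⟨d v, h⟩, ⟨c v * d v ^ q * ⟪a, b⟫ / c0 hF, (mem_fixedSet hF).2 (by
            rw [div_pow, show c0 hF ^ q = -c0 hF by linear_combination c0_skew hF, div_neg,
              ← neg_div]
            congr 1
            linear_combination -htr v)⟩)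
        have henc : Function.Injective enc := by
          intro v w hvw
          apply Subtype.ext
          rw [hcd v, hcd w]
          by_cases h : d v = 0 <;> by_cases h' : d w = 0 <;> simp only [enc, dif_pos, dif_neg, h, h',
            not_false_iff, reduceCtorEq] at hvw
          · rw [h, h', show c v = c w from congrArg Subtype.val (Sum.inl_injective hvw)]
          · obtain ⟨h1, h2⟩ := Prod.ext_iff.1 (Sum.inr_injective hvw)
            have hd' : d v = d w := congrArg Subtype.val h1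
            have h3 : c v * d v ^ q * ⟪a, b⟫ / c0 hF = c w * d w ^ q * ⟪a, b⟫ / c0 hF :=
              congrArg Subtype.val h2
            rw [div_left_inj' (c0_ne hF), hd'] at h3
            rw [hd', mul_right_cancel₀ (pow_ne_zero q h') (mul_right_cancel₀ hab h3)]
        refine (Nat.card_le_card_of_injective enc henc).trans ?_
        rw [Nat.card_sum, Nat.card_prod, hunits, card_fixedSet hF]
        exact le_of_eq (by ring)
      · push Not at htwo
        rcases Set.eq_empty_or_nonempty {v : Fin n → F | v ∈ X ∧ ⟪v, v⟫ = 0 ∧ v ≠ 0} with h | h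
        · simp [h]
        · obtain ⟨v, hvX, hvv, hv0⟩ := h
          have hk : ∀ w : {v : Fin n → F // v ∈ X ∧ ⟪v, v⟫ = 0 ∧ v ≠ 0},
              ∃ c : {c : F // c ≠ 0}, w.1 = c.1 • v := fun w => by
            obtain ⟨c, hc⟩ := htwo v hvX w.1 w.2.1 hvv w.2.2.1 hv0
            exact ⟨⟨c, fun h0 => w.2.2.2 (by rw [hc, h0, zero_smul])⟩, hc⟩
          choose c hc using hk
          refine (Nat.card_le_card_of_injective c fun w w' hww => Subtype.ext ?_).trans ?_
          · rw [hc w, hc w', hww]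
          · rw [hunits]
            exact Nat.le_mul_of_pos_left _ (by omega)
  obtain ⟨T, hT, hTX⟩ := hbad
  -- planes
  let PL := fixedSet hF × F × fixedSet hF
  let p₁ : PL → (Fin n → F) := fun π => f₁ + (c0 hF * (π.1 : F)) • e₁ + π.2.1 • e₂
  let p₂ : PL → (Fin n → F) := fun π => f₂ - π.2.1 ^ q • e₁ + (c0 hF * (π.2.2 : F)) • e₂
  have h12 : ⟪e₂, e₁⟫ = 0 ∧ ⟪e₂, f₁⟫ = 0 ∧ ⟪f₂, e₁⟫ = 0 ∧ ⟪f₂, f₁⟫ = 0 :=
    ⟨perp_e hP₂.eW, perp_f hP₂.eW, perp_e hP₂.fW, perp_f hP₂.fW⟩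
  obtain ⟨he21, he2f1, hf21, hf2f1⟩ := h12
  have h21 : ⟪e₁, e₂⟫ = 0 ∧ ⟪f₁, e₂⟫ = 0 ∧ ⟪e₁, f₂⟫ = 0 ∧ ⟪f₁, f₂⟫ = 0 :=
    ⟨e_perp hF hP₂.eW, f_perp hF hP₂.eW, e_perp hF hP₂.fW, f_perp hF hP₂.fW⟩
  obtain ⟨he12, hf1e2, he1f2, hf1f2⟩ := h21
  have hiso : ∀ (π : PL) (x y : F), ⟪x • p₁ π + y • p₂ π, x • p₁ π + y • p₂ π⟫ = 0 := by
    intro π x y
    have h1 := c0_mul_skew hF π.1.2
    have h2 := c0_mul_skew hF π.2.2.2
    simp only [p₁, p₂, herm_add_left, herm_add_right hF, herm_sub_left, herm_sub_right hF,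
      herm_smul_left, herm_smul_right, hP₁.ee, hP₁.ff, hP₁.ef, hP₁.fe, hP₂.ee, hP₂.ff, hP₂.ef,
      hP₂.fe, he21, he2f1, hf21, hf2f1, he12, hf1e2, he1f2, hf1f2, pow_q_q hF]
    linear_combination (x * x ^ q) * h1 + (y * y ^ q) * h2
  have hpW : ∀ (π : PL) (x y : F), x • p₁ π + y • p₂ π ∈ W := fun π x y => by
    refine W.add_mem (W.smul_mem _ ?_) (W.smul_mem _ ?_)
    · exact W.add_mem (W.add_mem hP₁.fW (W.smul_mem _ hP₁.eW))
        (W.smul_mem _ (pairPerp_le hP₂.eW))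
    · exact W.add_mem (W.sub_mem (pairPerp_le hP₂.fW) (W.smul_mem _ hP₁.eW))
        (W.smul_mem _ (pairPerp_le hP₂.eW))
  have hcoord : ∀ (π : PL) (x y : F), ⟪x • p₁ π + y • p₂ π, e₁⟫ = x ∧
      ⟪x • p₁ π + y • p₂ π, e₂⟫ = y ∧
      ⟪x • p₁ π + y • p₂ π, f₁⟫ = x * (c0 hF * (π.1 : F)) - y * π.2.1 ^ q ∧
      ⟪x • p₁ π + y • p₂ π, f₂⟫ = x * π.2.1 + y * (c0 hF * (π.2.2 : F)) := by
    intro π x y
    refine ⟨?_, ?_, ?_, ?_⟩ <;>
      simp only [p₁, p₂, herm_add_left, herm_sub_left, herm_smul_left, hP₁.ee, hP₁.ff, hP₁.ef,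
        hP₁.fe, hP₂.ee, hP₂.ff, hP₂.ef, hP₂.fe, he21, he2f1, hf21, hf2f1, he12, hf1e2, he1f2,
        hf1f2] <;> ring
  -- each plane meets `S`
  have hmeet : ∀ π : PL, ∃ x y : F, (x ≠ 0 ∨ y ≠ 0) ∧ x • p₁ π + y • p₂ π ∈ S := by
    intro π
    by_contra! hno
    let φ : (F × F) × S → W := fun z => ⟨z.1.1 • p₁ π + z.1.2 • p₂ π + (z.2 : Fin n → F),
      W.add_mem (hpW π _ _) (hS _ z.2.2)⟩
    have hinj : Function.Injective φ := by
      rintro ⟨⟨x, y⟩, s⟩ ⟨⟨x', y'⟩, s'⟩ h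
      have h' : x • p₁ π + y • p₂ π + (s : Fin n → F) = x' • p₁ π + y' • p₂ π + s' :=
        congrArg Subtype.val h
      have hmem : (x - x') • p₁ π + (y - y') • p₂ π ∈ S := by
        have := S.sub_mem s'.2 s.2
        convert this using 1
        rw [← sub_eq_zero] at h' ⊢
        rw [← h']; module
      have hxy : x = x' ∧ y = y' := by
        by_contra hne
        refine hno (x - x') (y - y') ?_ hmem
        rw [sub_ne_zero, sub_ne_zero]
        tauto
      obtain ⟨rfl, rfl⟩ := hxy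
      exact Prod.ext rfl (Subtype.ext (add_left_cancel h'))
    have := Nat.card_le_card_of_injective φ hinj
    rw [Nat.card_prod, Nat.card_prod, Nat.card_eq_fintype_card (α := F), hF, ← hidx] at this
    have h4 : q ^ 2 < q ^ 2 * q ^ 2 := by
      have := Nat.pow_le_pow_left hq 2
      nlinarith
    nlinarith [Nat.card_pos (α := S)]
  -- double counting
  let Bad : Set (Fin n → F) := {v | (v ∈ Pset ∨ v ∈ T) ∧ (⟪v, e₁⟫ ≠ 0 ∨ ⟪v, e₂⟫ ≠ 0)}
  let I := {z : PL × Bad // ∃ x y : F, x • p₁ z.1 + y • p₂ z.1 = (z.2 : Fin n → F)}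
  have hlow : q ^ 4 * (q ^ 2 - 1) ≤ Nat.card I := by
    have hsel : ∀ π : PL, ∃ x y : F, ∀ a : {a : F // a ≠ 0},
        a.1 • (x • p₁ π + y • p₂ π) ∈ Bad ∧ x • p₁ π + y • p₂ π ≠ 0 := by
      intro π
      obtain ⟨x, y, hxy, hmem⟩ := hmeet π
      refine ⟨x, y, fun a => ?_⟩
      obtain ⟨c1, c2, -, -⟩ := hcoord π x y
      have hne : x • p₁ π + y • p₂ π ≠ 0 := fun h0 => by
        rw [h0, herm_zero_left] at c1 c2
        rcases hxy with h | h
        · exact h c1.symm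
        · exact h c2.symm
      refine ⟨⟨?_, ?_⟩, hne⟩
      · by_cases hall : ∀ b : F, b • (x • p₁ π + y • p₂ π) ∈ S
        · have hX' : a.1 • (x • p₁ π + y • p₂ π) ∈ X :=
            X.smul_mem _ (hfull _ (hpW π x y) hall)
          rcases hTX _ hX' (herm_smul_smul_zero (hiso π x y) _ _) (smul_ne_zero a.2 hne) with h | h
          · exact Or.inr h
          · exfalso
            obtain ⟨c, d, hcd⟩ := h
            have g1 := congrArg (fun v => ⟪v, e₁⟫) hcd
            have g2 := congrArg (fun v => ⟪v, e₂⟫) hcd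
            simp only [herm_smul_left, c1, c2, herm_add_left, hP₁.ee, hP₂.ee, he21, he12,
              mul_zero, add_zero] at g1 g2
            rcases hxy with h | h
            · exact h ((mul_eq_zero.1 g1).resolve_left a.2)
            · exact h ((mul_eq_zero.1 g2).resolve_left a.2)
        · push Not at hall
          obtain ⟨b, hb⟩ := hall
          refine Or.inl ⟨W.smul_mem _ (hpW π x y), herm_smul_smul_zero (hiso π x y) _ _,
            smul_ne_zero a.2 hne, ⟨a.1⁻¹, inv_ne_zero a.2, ?_⟩, ⟨b / a.1, ?_⟩⟩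
          · rw [smul_smul, inv_mul_cancel₀ a.2, one_smul]; exact hmem
          · rwa [smul_smul, div_mul_cancel₀ _ a.2]
      · rw [herm_smul_left, herm_smul_left, c1, c2]
        rcases hxy with h | h
        · exact Or.inl (mul_ne_zero a.2 h)
        · exact Or.inr (mul_ne_zero a.2 h)
    choose X₁ Y₁ hXY using hsel
    refine le_trans (le_of_eq ?_) (Nat.card_le_card_of_injective
      (fun z : PL × {a : F // a ≠ 0} => (⟨(z.1, ⟨_, (hXY z.1 z.2).1⟩), z.2.1 * X₁ z.1, z.2.1 * Y₁ z.1,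
        by rw [mul_smul, mul_smul, ← smul_add]⟩ : I)) ?_)
    · simp only [PL, Nat.card_prod, card_fixedSet hF, Nat.card_eq_fintype_card (α := F), hF, hunits]
      ring
    · rintro ⟨π, a⟩ ⟨π', a'⟩ h
      obtain rfl : π = π' := congrArg (fun z : I => z.1.1) h
      have h' : a.1 • (X₁ π • p₁ π + Y₁ π • p₂ π) = a'.1 • (X₁ π • p₁ π + Y₁ π • p₂ π) :=
        congrArg (fun z : I => (z.1.2 : Fin n → F)) h
      exact Prod.ext rfl (Subtype.ext (smul_left_injective F (hXY π a).2 h'))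
  have hup : Nat.card I ≤ Nat.card Bad * q := by
    have hx : ∀ z : I, ∃ x y : F, x • p₁ z.1.1 + y • p₂ z.1.1 = (z.1.2 : Fin n → F) := fun z => z.2
    refine le_trans (Nat.card_le_card_of_injective (β := Bad × fixedSet hF) (fun z =>
      (z.1.2, if ⟪(z.1.2 : Fin n → F), e₁⟫ = 0 then z.1.1.1 else z.1.1.2.2)) ?_)
      (le_of_eq (by rw [Nat.card_prod, card_fixedSet hF]))
    rintro z z' h
    obtain ⟨x, y, hxy⟩ := hx z
    obtain ⟨x', y', hxy'⟩ := hx z'
    obtain ⟨h1, h2⟩ := Prod.ext_iff.1 h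
    have hv : (z.1.2 : Fin n → F) = z'.1.2 := congrArg Subtype.val h1
    obtain ⟨⟨⟨a, b, d⟩, v⟩, hz⟩ := z
    obtain ⟨⟨⟨a', b', d'⟩, v'⟩, hz'⟩ := z'
    simp only at h1 h2 hxy hxy' hv
    obtain ⟨c1, c2, c3, c4⟩ := hcoord (a, b, d) x y
    obtain ⟨c1', c2', c3', c4'⟩ := hcoord (a', b', d') x' y'
    rw [hxy] at c1 c2 c3 c4
    rw [hxy', ← hv] at c1' c2' c3' c4'
    obtain rfl : x = x' := c1.symm.trans c1'
    obtain rfl : y = y' := c2.symm.trans c2'
    have e3 := c3.symm.trans c3'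
    have e4 := c4.symm.trans c4'
    simp only at e3 e4
    rw [← hv] at h2
    by_cases hx0 : x = 0
    · rw [c1, if_pos hx0, if_pos hx0] at h2
      subst h2
      have hy0 : y ≠ 0 := by
        rcases v.2.2 with h | h
        · exact absurd (c1.trans hx0) h
        · rwa [c2] at h
      subst hx0
      have hb : b ^ q = b' ^ q := mul_left_cancel₀ hy0 (by linear_combination -e3)
      obtain rfl : b = b' := by rw [← pow_q_q hF b, hb, pow_q_q hF]
      obtain rfl : d = d' := Subtype.ext (mul_left_cancel₀ (c0_ne hF)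
        (mul_left_cancel₀ hy0 (by linear_combination e4)))
      subst h1
      rfl
    · rw [c1, if_neg hx0, if_neg hx0] at h2
      subst h2
      obtain rfl : b = b' := mul_left_cancel₀ hx0 (by linear_combination e4)
      obtain rfl : a = a' := Subtype.ext (mul_left_cancel₀ (c0_ne hF)
        (mul_left_cancel₀ hx0 (by linear_combination e3)))
      subst h1
      rfl
  have hBad : Nat.card Bad ≤ 2 * ((q + 1) * (q ^ 2 - 1)) := by
    refine le_trans (Nat.card_mono (Set.toFinite (Pset ∪ T)) fun v hv => hv.1) ?_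
    rw [Nat.card_coe_set_eq]
    refine (Set.ncard_union_le _ _).trans ?_
    rw [← Nat.card_coe_set_eq, ← Nat.card_coe_set_eq, two_mul]
    exact Nat.add_le_add hPcard hT
  have hfinal := hlow.trans (hup.trans (Nat.mul_le_mul_right _ hBad))
  have hpos : 0 < q ^ 2 - 1 := by have := Nat.pow_le_pow_left hq 2; omega
  have h3 : q ^ 4 ≤ 2 * (q + 1) * q :=
    Nat.le_of_mul_le_mul_right (hfinal.trans (le_of_eq (by ring))) hpos
  have h4 := Nat.pow_le_pow_left hq 2
  nlinarith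

end Cfsg.Agent.MinIndexUnit19
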