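import Mathlib
import Cfsg.Agent.Lib.MinIndexUnit19Plane
import Cfsg.Agent.Lib.MinIndexUnit19Trans

/-!
The bound for closed subgroups in dimension four.
-/

set_option autoImplicit false

namespace Cfsg.Agent.MinIndexUnit19

open Cfsg Cfsg.Agent.OrthUnitaryHerm Cfsg.Agent.OrthUnitaryTransvection
  Cfsg.Agent.SUMinDegree32Geom

variable {F : Type*} [Field F] [Fintype F] {q n : ℕ}
variable {W : Submodule F (Fin n → F)} {S : AddSubgroup (Fin n → F)}

local notation "⟪" x ", " y "⟫" => hermForm n F q x y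

omit [Fintype F] in
theorem mem_map_scaleHom {a : F} {g : SU n F q} {T : AddSubgroup (Fin n → F)} {x : Fin n → F} :
    x ∈ T.map (scaleHom a g) ↔ ∃ s ∈ T, a • act g s = x := Iff.rfl

variable (hF : Fintype.card F = q ^ 2)
include hF

/-- The fixed field multipliers preserving `S`. -/
noncomputable def stabField (S : AddSubgroup (Fin n → F)) : Subfield F where
  carrier := {a | a ^ q = a ∧ ∀ s ∈ S, a • s ∈ S}
  mul_mem' := fun {a b} ha hb => ⟨by rw [mul_pow, ha.1, hb.1],
    fun s hs => by rw [mul_smul]; exact ha.2 _ (hb.2 s hs)⟩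
  one_mem' := ⟨one_pow q, fun s hs => by rwa [one_smul]⟩
  add_mem' := fun {a b} ha hb => ⟨by rw [add_pow_q hF, ha.1, hb.1],
    fun s hs => by rw [add_smul]; exact S.add_mem (ha.2 s hs) (hb.2 s hs)⟩
  zero_mem' := ⟨zero_pow_q hF, fun s _ => by rw [zero_smul]; exact S.zero_mem⟩
  neg_mem' := fun {a} ha => ⟨by rw [neg_pow_q hF, ha.1],
    fun s hs => by rw [neg_smul]; exact S.neg_mem (ha.2 s hs)⟩
  inv_mem' := fun a ha => ⟨by rw [inv_pow, ha.1], fun s hs => by
    rcases eq_or_ne a 0 with rfl | ha0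
    · rw [inv_zero, zero_smul]; exact S.zero_mem
    have hinj : Function.Injective (fun x : S => (⟨a • (x : Fin n → F), ha.2 _ x.2⟩ : S)) :=
      fun x y hxy => Subtype.ext (smul_right_injective _ ha0 (congrArg Subtype.val hxy))
    obtain ⟨x, hx⟩ := (Finite.injective_iff_surjective.1 hinj) ⟨s, hs⟩
    have hx' : a • (x : Fin n → F) = s := congrArg Subtype.val hx
    rw [← hx', inv_smul_smul₀ ha0]
    exact x.2⟩

theorem mem_stabField {a : F} :
    a ∈ stabField hF S ↔ a ^ q = a ∧ ∀ s ∈ S, a • s ∈ S := Iff.rfl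

/-- Many images of a subgroup which few fixed scalars preserve. -/
theorem card_imgsT_ge {B : ℕ} (hW : Nondeg q W) (hd : 3 ≤ Module.finrank F W) (h : Small hF W B)
    (hS : ∀ s ∈ S, s ∈ W) (hbot : S ≠ ⊥) (hproper : ∃ x ∈ W, x ∉ S) :
    B * (q - 1) ≤ Nat.card (imgsT hF W S) * (Nat.card (stabField hF S) - 1) := by
  classical
  have hq := two_le_q hF
  let Φ := {a : fixedSet hF // a ≠ 0}
  let cls : AddSubgroup (Fin n → F) → Set (AddSubgroup (Fin n → F)) := fun T =>
    Set.range fun a : Φ => T.map (scaleHom (a.1 : F) (1 : SU n F q))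
  have hdiv : ∀ {T : AddSubgroup (Fin n → F)} {a : F}, a ≠ 0 → ∀ {x : Fin n → F},
      (x ∈ T.map (scaleHom a (1 : SU n F q)) ↔ a⁻¹ • x ∈ T) := by
    intro T a ha x
    rw [mem_map_scaleHom]
    simp only [act_one]
    exact ⟨fun ⟨s, hs, hsx⟩ => by rw [← hsx, inv_smul_smul₀ ha]; exact hs,
      fun hx => ⟨_, hx, smul_inv_smul₀ ha x⟩⟩
  have hΦ : ∀ a : Φ, (a.1 : F) ≠ 0 := fun a h0 => a.2 (Subtype.ext h0)
  -- the classes
  set A : Set (Set (AddSubgroup (Fin n → F))) := Set.range fun g : GS q W =>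
    cls (imgS (g : SU n F q) S) with hAdef
  have hsurjΦ : ∀ a b : Φ, ∃ c : Φ, (c.1 : F) = (a.1 : F) * b.1 := fun a b =>
    ⟨⟨⟨(a.1 : F) * b.1, (mem_fixedSet hF).2 (by rw [mul_pow, a.1.2, b.1.2])⟩,
      fun h0 => mul_ne_zero (hΦ a) (hΦ b) (congrArg Subtype.val h0)⟩, rfl⟩
  -- the classes number at least `B`
  have hA : B ≤ Nat.card A := by
    by_contra hlt
    push Not at hlt
    obtain ⟨x, hx, hxS⟩ := hproper
    refine hxS (mem_of_rootInv hF hW hd hS hbot (fun u huW hu => ?_) x hx)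
    refine (invAt_iff hF hu S).2 fun r => ?_
    have hcls : ∀ (g : SU n F q) T, (fun T' => imgS g T') '' cls T = cls (imgS g T) := by
      intro g T
      rw [← Set.range_comp]
      refine congrArg Set.range (funext fun a => ?_)
      ext y
      simp only [Function.comp_apply, mem_imgS, mem_map_scaleHom, act_one]
      constructor
      · rintro ⟨z, ⟨s, hs, rfl⟩, rfl⟩
        exact ⟨_, ⟨s, hs, rfl⟩, (act_smul g _ s).symm⟩
      · rintro ⟨z, ⟨s, hs, rfl⟩, rfl⟩
        exact ⟨_, ⟨s, hs, rfl⟩, act_smul g _ s⟩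
    have hfix := small_orbit hF h
      (fun (g : GS q W) Y => (fun T => imgS (g : SU n F q) T) '' Y)
      (fun Y => by simp [imgS_one]) (fun g k Y => by
        rw [Set.image_image]
        exact Set.image_congr fun T _ => imgS_mul (g : SU n F q) (k : SU n F q) T)
      (cls S) (by
        refine lt_of_eq_of_lt ?_ hlt
        rw [hAdef]
        refine congrArg (fun s : Set (Set (AddSubgroup (Fin n → F))) => Nat.card s)
          (congrArg Set.range (funext fun g => hcls _ _))) huW hu r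
    rw [hcls, Tg_coe] at hfix
    have hmem : imgS (T hF u hu r) S ∈ cls S := by
      rw [← hfix]
      exact ⟨⟨⟨1, (mem_fixedSet hF).2 (one_pow q)⟩, fun h0 => one_ne_zero (congrArg Subtype.val h0)⟩,
        by ext y; rw [mem_map_scaleHom]; simp [act_one]⟩
    obtain ⟨a, ha⟩ := hmem
    have ha0 := hΦ a
    -- `g` maps `S` to `a • S`
    have hga : ∀ s ∈ S, (a.1 : F)⁻¹ • act (T hF u hu r) s ∈ S := fun s hs => by
      rw [← hdiv ha0, show S.map (scaleHom (a.1 : F) (1 : SU n F q)) = imgS (T hF u hu r) S from ha]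
      exact mem_imgS.2 ⟨s, hs, rfl⟩
    obtain ⟨p, hp⟩ := CharP.exists F
    have hpP : p.Prime := CharP.char_is_prime F p
    have hiter : ∀ k : ℕ, ∀ s ∈ S, ((a.1 : F)⁻¹) ^ k • act (T hF u hu r ^ k) s ∈ S := by
      intro k
      induction k with
      | zero => intro s hs; rwa [pow_zero, pow_zero, one_smul, act_one]
      | succ k ih =>
        intro s hs
        have h1 := hga _ (ih s hs)
        rwa [act_smul, smul_smul, ← pow_succ', ← act_mul, ← pow_succ'] at h1
    have hpow : ∀ k : ℕ, T hF u hu r ^ k = T hF u hu (k • r) := by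
      intro k
      induction k with
      | zero => rw [pow_zero, zero_smul, T_zero]
      | succ k ih => rw [pow_succ, ih, ← T_add, succ_nsmul]
    have hp0 : p • r = 0 := Subtype.ext (by simp)
    have hK : ((a.1 : F)⁻¹) ^ p ∈ stabField hF S := by
      refine (mem_stabField hF).2 ⟨by rw [← pow_mul, mul_comm, pow_mul, inv_pow, a.1.2], ?_⟩
      intro s hs
      have := hiter p s hs
      rwa [hpow, hp0, T_zero, act_one] at this
    obtain ⟨e, he⟩ : ∃ e, q = p * e := by
      obtain ⟨p', e, hp', he, hq'⟩ : ∃ p' e, p'.Prime ∧ 0 < e ∧ q = p' ^ e := by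
        obtain ⟨j, hj⟩ : ∃ j : ℕ+, p.Prime ∧ Fintype.card F = p ^ (j : ℕ) := FiniteField.card F p
        rw [hF] at hj
        have hdvd : q ∣ p ^ (j : ℕ) := hj.2 ▸ dvd_pow_self q two_ne_zero
        obtain ⟨e, -, he⟩ := (Nat.dvd_prime_pow hpP).1 hdvd
        refine ⟨p, e, hpP, Nat.pos_of_ne_zero fun h0 => ?_, he⟩
        subst h0
        rw [pow_zero] at he
        omega
      have : p' = p := by
        have hd1 : p' ∣ q ^ 2 := hq' ▸ dvd_pow (dvd_pow_self p' (by omega)) two_ne_zero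
        obtain ⟨j, hj⟩ : ∃ j : ℕ+, p.Prime ∧ Fintype.card F = p ^ (j : ℕ) := FiniteField.card F p
        rw [← hF, hj.2] at hd1
        exact (Nat.prime_dvd_prime_iff_eq hp' hpP).1 (hp'.dvd_of_dvd_pow hd1)
      subst this
      exact ⟨p' ^ (e - 1), by rw [← pow_succ', Nat.sub_add_cancel he]; exact hq'⟩
    have hK' : (a.1 : F)⁻¹ ∈ stabField hF S := by
      have h1 := (stabField hF S).pow_mem hK e
      rwa [← pow_mul, ← he, inv_pow, a.1.2] at h1
    intro s hs
    have h1 := ((mem_stabField hF).1 ((stabField hF S).inv_mem hK')).2 _ (hga s hs)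
    rwa [inv_inv, smul_inv_smul₀ ha0] at h1
  -- each class is large
  set K := Nat.card (stabField hF S) with hK
  have hclass : ∀ g : GS q W, q - 1 ≤ Nat.card (cls (imgS (g : SU n F q) S)) * (K - 1) := by
    intro g
    have hc : Fintype.card Φ = q - 1 := by
      have := card_fixedSet hF
      rw [Nat.card_eq_fintype_card] at this
      rw [Fintype.card_subtype_compl, Fintype.card_subtype_eq, this]
    rw [← hc, mul_comm, Nat.card_coe_set_eq, Set.ncard_eq_toFinset_card', Set.toFinset_range]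
    refine Finset.card_le_mul_card_image _ _ fun Y hY => ?_
    obtain ⟨a₁, -, ha₁⟩ := Finset.mem_image.1 hY
    have h0 : K - 1 = Nat.card {c : stabField hF S // c ≠ 0} := by
      have := Fintype.ofFinite (stabField hF S)
      rw [Nat.card_eq_fintype_card, Fintype.card_subtype_compl, Fintype.card_subtype_eq, hK,
        Nat.card_eq_fintype_card]
    rw [h0, ← Fintype.card_coe, ← Nat.card_eq_fintype_card]
    have hmem : ∀ a : Φ, (imgS (g : SU n F q) S).map (scaleHom (q := q) (a.1 : F) 1) = Y →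
        (a.1 : F) / a₁.1 ∈ stabField hF S := by
      intro a ha
      refine (mem_stabField hF).2 ⟨by rw [div_pow, a.1.2, a₁.1.2], fun s hs => ?_⟩
      have h1 : (a.1 : F) • act (g : SU n F q) s ∈ Y := by
        rw [← ha, mem_map_scaleHom]
        exact ⟨_, mem_imgS.2 ⟨s, hs, rfl⟩, by rw [act_one]⟩
      rw [← ha₁, hdiv (hΦ a₁), smul_smul, ← act_smul] at h1
      obtain ⟨s', hs', he⟩ := mem_imgS.1 h1
      have : s' = ((a₁.1 : F)⁻¹ * a.1) • s := by
        rw [← act_inv_act (g : SU n F q) s', he, act_inv_act]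
      rw [div_eq_inv_mul, ← this]
      exact hs'
    refine Nat.card_le_card_of_injective (fun a => ⟨⟨_, hmem a.1 (Finset.mem_filter.1 a.2).2⟩,
      fun h0 => div_ne_zero (hΦ a.1) (hΦ a₁) (congrArg Subtype.val h0)⟩) fun a b hab => ?_
    have h1 : (a.1.1 : F) / a₁.1 = (b.1.1 : F) / a₁.1 :=
      congrArg (fun z => ((z.1 : stabField hF S) : F)) hab
    exact Subtype.ext (Subtype.ext (Subtype.ext ((div_left_inj' (hΦ a₁)).1 h1)))
  -- combine
  obtain ⟨c, hc, hckey⟩ : ∃ c, q - 1 ≤ c * (K - 1) ∧ ∀ Y ∈ A, c ≤ Nat.card Y := by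
    have hne : A.Nonempty := ⟨_, ⟨1, rfl⟩⟩
    have hex : ∃ Y ∈ A, ∀ Y' ∈ A, Nat.card Y ≤ Nat.card Y' :=
      Set.exists_min_image A (fun Y : Set (AddSubgroup (Fin n → F)) => Nat.card Y)
        (Set.finite_range _) hne
    obtain ⟨Y, ⟨g, rfl⟩, hmin⟩ := hex
    exact ⟨_, hclass g, hmin⟩
  have hclscls : ∀ (g : GS q W) Z, Z ∈ cls (imgS (g : SU n F q) S) →
      cls Z = cls (imgS (g : SU n F q) S) := by
    intro g Z hZ
    obtain ⟨a, rfl⟩ := hZ
    have hcomp : ∀ b c : Φ, (c.1 : F) = (b.1 : F) * a.1 →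
        ((imgS (g : SU n F q) S).map (scaleHom (q := q) (a.1 : F) 1)).map (scaleHom (q := q) (b.1 : F) 1) =
          (imgS (g : SU n F q) S).map (scaleHom (q := q) (c.1 : F) 1) := by
      intro b c hc
      ext x
      simp only [mem_map_scaleHom, act_one, hc, mul_smul]
      exact ⟨fun ⟨y, ⟨s, hs, hy⟩, hx⟩ => ⟨s, hs, by rw [hy, hx]⟩,
        fun ⟨s, hs, hx⟩ => ⟨_, ⟨s, hs, rfl⟩, hx⟩⟩
    refine Set.ext fun Y => ⟨fun ⟨b, hb⟩ => ?_, fun ⟨c, hc⟩ => ?_⟩
    · obtain ⟨c, hc⟩ := hsurjΦ b a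
      exact ⟨c, by rw [← hb]; exact (hcomp b c hc).symm⟩
    · refine ⟨⟨⟨(c.1 : F) / a.1, (mem_fixedSet hF).2 (by rw [div_pow, c.1.2, a.1.2])⟩,
        fun h0 => div_ne_zero (hΦ c) (hΦ a) (congrArg Subtype.val h0)⟩, ?_⟩
      rw [← hc]
      exact hcomp _ c (div_mul_cancel₀ _ (hΦ a)).symm
  have hclsT : ∀ (g : GS q W) Z, Z ∈ cls (imgS (g : SU n F q) S) → Z ∈ imgsT hF W S := by
    rintro g Z ⟨a, rfl⟩
    refine ⟨(g, a), ?_⟩
    ext x
    simp only [mem_map_scaleHom, mem_imgS, act_one]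
    exact ⟨fun ⟨s, hs, hx⟩ => ⟨_, ⟨s, hs, rfl⟩, hx⟩, fun ⟨z, ⟨s, hs, hz⟩, hx⟩ => ⟨s, hs, by rw [hz, hx]⟩⟩
  rcases Nat.eq_zero_or_pos c with rfl | hc0
  · omega
  have : Finite (AddSubgroup (Fin n → F)) := inferInstance
  have hkey := card_mul_le_of_fibres (imgsT hF W S) cls A hc0 (by
    rintro Y ⟨g, rfl⟩
    refine (hckey _ ⟨g, rfl⟩).trans (Nat.card_mono (Set.toFinite _) fun Z hZ => ?_)
    exact ⟨hclsT g Z hZ, hclscls g Z hZ⟩)
  calc B * (q - 1) ≤ Nat.card A * (c * (K - 1)) := Nat.mul_le_mul hA hc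
    _ = (Nat.card A * c) * (K - 1) := by ring
    _ ≤ _ := Nat.mul_le_mul_right _ hkey

/-- The perpendicular subgroups of a point have many images. -/
theorem card_imgsT_perp {X : ℕ} (hW : Nondeg q W) (hd : Module.finrank F W = 4)
    (hX1 : X ≤ isoN q 4) (hX2 : X * (q ^ 2 - 1) + vecN q 4 ≤ q ^ 8)
    {u : Fin n → F} (hu : u ∈ W) (hu0 : u ≠ 0)
    (hS : ∀ x, x ∈ S ↔ x ∈ W ∧ ⟪x, u⟫ = 0) : X ≤ Nat.card (imgsT hF W S) := by
  classical
  have hq := two_le_q hF
  have hpos : 0 < q ^ 2 - 1 := by have := Nat.pow_le_pow_left hq 2; omega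
  refine Nat.le_of_mul_le_mul_right (c := q ^ 2 - 1) ?_ hpos
  let V : Set (Fin n → F) := {v | ∃ (g : GS q W) (a : F), a ≠ 0 ∧ v = a • act (g : SU n F q) u}
  have hV : Nat.card V ≤ Nat.card (imgsT hF W S) * (q ^ 2 - 1) := by
    choose g a ha hva using fun v : V => v.2
    have himg : ∀ (g : GS q W), imgS (g : SU n F q) S ∈ imgsT hF W S := fun g =>
      ⟨(g, ⟨⟨1, (mem_fixedSet hF).2 (one_pow q)⟩, fun h0 => one_ne_zero (congrArg Subtype.val h0)⟩),
        by ext x; simp only [mem_map_scaleHom, mem_imgS, one_smul]⟩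
    have hperp : ∀ (g : GS q W) x, x ∈ W →
        (x ∈ imgS (g : SU n F q) S ↔ ⟪x, act (g : SU n F q) u⟫ = 0) := by
      intro g x hxW
      rw [mem_imgS]
      constructor
      · rintro ⟨s, hs, rfl⟩; rw [herm_act]; exact ((hS s).1 hs).2
      · intro hx
        refine ⟨act (g : SU n F q)⁻¹ x, (hS _).2 ⟨?_, ?_⟩, act_act_inv _ _⟩
        · rw [← InvMemClass.coe_inv]; exact act_mem hF hW (g⁻¹).2 hxW
        · rw [← herm_act (g : SU n F q), act_act_inv]; exact hx
    have hprop : ∀ v w : V, imgS (g v : SU n F q) S = imgS (g w : SU n F q) S →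
        ∃ c : F, (w : Fin n → F) = c • (v : Fin n → F) := by
      intro v w hvw
      by_contra! hind
      have hg0 : act (g v : SU n F q) u ≠ 0 := fun h => hu0 (by
        have := congrArg (act (g v : SU n F q)⁻¹) h
        rwa [act_inv_act, show act (g v : SU n F q)⁻¹ (0 : Fin n → F) = 0 from
          map_zero (actHom _)] at this)
      obtain ⟨⟨z, hz⟩, hzz⟩ := ipPair_surjective hF hW (u := act (g v : SU n F q) u)
        (v := act (g w : SU n F q) u) (act_mem hF hW (g v).2 hu) (act_mem hF hW (g w).2 hu) hg0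
        (fun c hc => hind (a w * c / a v) (by
          rw [hva w, hc, hva v, smul_smul, smul_smul, div_mul_cancel₀ _ (ha v)])) (0, 1)
      obtain ⟨hz1, hz2⟩ := Prod.ext_iff.1 hzz
      have := (hperp (g v) z hz).2 hz1
      rw [hvw] at this
      exact one_ne_zero (hz2.symm.trans ((hperp (g w) z hz).1 this))
    have := Fintype.ofFinite V
    have := Fintype.ofFinite (imgsT hF W S)
    rw [Nat.card_eq_fintype_card, Nat.card_eq_fintype_card, mul_comm,
      ← Finset.card_univ (α := V), ← Finset.card_univ (α := imgsT hF W S)]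
    refine (Finset.card_le_mul_card_image (f := fun v : V =>
      (⟨_, himg (g v)⟩ : imgsT hF W S)) Finset.univ (q ^ 2 - 1) fun Y hY => ?_).trans
      (Nat.mul_le_mul_left _ (Finset.card_le_univ _))
    obtain ⟨v₀, -, hv₀⟩ := Finset.mem_image.1 hY
    rw [← Fintype.card_coe, ← hF, ← Fintype.card_units, ← Nat.card_eq_fintype_card,
      ← Nat.card_eq_fintype_card]
    have hc : ∀ v : {v : V // v ∈ Finset.univ.filter fun v : V =>
        (⟨_, himg (g v)⟩ : imgsT hF W S) = Y}, ∃ c : Fˣ,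
          (v.1 : Fin n → F) = (c : F) • (v₀ : Fin n → F) := fun v => by
      have he := (Finset.mem_filter.1 v.2).2
      obtain ⟨c, hc⟩ := hprop v₀ v.1 (congrArg Subtype.val (hv₀.trans he.symm))
      refine ⟨Units.mk0 c fun h0 => ?_, hc⟩
      have hv := hva v.1
      rw [hc, h0, zero_smul] at hv
      rcases smul_eq_zero.1 hv.symm with h | h
      · exact ha _ h
      · refine hu0 ?_
        have := congrArg (act (g v.1 : SU n F q)⁻¹) h
        rwa [act_inv_act, show act (g v.1 : SU n F q)⁻¹ (0 : Fin n → F) = 0 from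
          map_zero (actHom _)] at this
    choose c hc using hc
    refine Nat.card_le_card_of_injective c fun v w hvw => Subtype.ext (Subtype.ext ?_)
    rw [hc v, hc w, hvw]
  refine le_trans ?_ hV
  have hI := card_isoVec hF 4 W hW hd
  by_cases huu : ⟪u, u⟫ = 0
  · -- every isotropic vector
    let z : {x : Fin n → F // x ∈ W ∧ ⟪x, x⟫ = 0} := ⟨0, W.zero_mem, herm_zero_left 0⟩
    have hL : Nat.card {x : {x : Fin n → F // x ∈ W ∧ ⟪x, x⟫ = 0} // x ≠ z} =
        (q ^ 2 - 1) * isoN q 4 := by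
      rw [Nat.card_eq_fintype_card, Fintype.card_subtype_compl, Fintype.card_subtype_eq,
        ← Nat.card_eq_fintype_card, hI, vecN_eq (by omega)]
      omega
    refine le_trans (Nat.mul_le_mul_right _ hX1) ?_
    rw [mul_comm, ← hL]
    refine Nat.card_le_card_of_injective (fun x => (⟨x.1.1, ?_⟩ : V))
      fun x y h => Subtype.ext (Subtype.ext (congrArg Subtype.val h :))
    obtain ⟨g, a, ha, hg⟩ := exists_move_in hF hW hu x.1.2.1 hu0
      (fun h0 => x.2 (Subtype.ext h0)) huu x.1.2.2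
    exact ⟨g, a⁻¹, inv_ne_zero ha, by rw [hg, inv_smul_smul₀ ha]⟩
  · -- every anisotropic vector
    have hnorm : ∀ v ∈ W, ⟪v, v⟫ ≠ 0 → ∃ c : F, c ≠ 0 ∧ ⟪c • v, c • v⟫ = 1 := by
      intro v _ hvv
      obtain ⟨c, hc⟩ := exists_norm_eq hF (a := (⟪v, v⟫)⁻¹) (by rw [inv_pow, herm_self_pow hF])
      refine ⟨c, fun h => ?_, ?_⟩
      · rw [h, zero_pow (by omega)] at hc; exact inv_ne_zero hvv hc.symm
      · rw [herm_smul_left, herm_smul_right, ← mul_assoc, ← pow_succ', hc, inv_mul_cancel₀ hvv]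
    obtain ⟨c₀, hc₀, hu1⟩ := hnorm u hu huu
    have hL : X * (q ^ 2 - 1) ≤ Nat.card {x : W // ⟪(x : Fin n → F), (x : Fin n → F)⟫ ≠ 0} := by
      have := Fintype.ofFinite W
      rw [Nat.card_eq_fintype_card, Fintype.card_subtype_compl, ← Nat.card_eq_fintype_card,
        card_submodule hF W, hd, ← Nat.card_eq_fintype_card,
        Nat.card_congr (Equiv.subtypeSubtypeEquivSubtypeInter (fun x => x ∈ W) fun x => ⟪x, x⟫ = 0),
        hI]
      rw [show q ^ 8 = q ^ (2 * 4) from rfl] at hX2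
      omega
    refine hL.trans (Nat.card_le_card_of_injective (fun x => (⟨x.1.1, ?_⟩ : V))
      fun x y h => Subtype.ext (Subtype.ext (congrArg Subtype.val h :)))
    obtain ⟨c, hc, hx1⟩ := hnorm _ x.1.2 x.2
    obtain ⟨g, hg⟩ := exists_move_norm_one hF hW (by omega) (W.smul_mem c₀ hu)
      (W.smul_mem c x.1.2) hu1 hx1
    refine ⟨g, c⁻¹ * c₀, mul_ne_zero (inv_ne_zero hc) hc₀, ?_⟩
    rw [mul_smul, ← act_smul, hg, inv_smul_smul₀ hc]

/-- The bound for closed subgroups in dimension four. -/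
theorem geo_four {B X : ℕ} (hW : Nondeg q W) (hd : Module.finrank F W = 4) (h : Small hF W B)
    (hXB : X ≤ q * B) (hXW : q ^ 2 * X ≤ q ^ 8) (hX1 : X ≤ isoN q 4)
    (hX2 : X * (q ^ 2 - 1) + vecN q 4 ≤ q ^ 8) : Geo hF W X := by
  classical
  intro S hS hproper hcl
  have hq := two_le_q hF
  have hcW : Nat.card W = q ^ 8 := by rw [card_submodule hF, hd]
  have hidx := index_ge hF hW (by omega) hS hproper hcl
  by_cases hbot : S = ⊥
  · subst hbot
    rw [AddSubgroup.card_bot, mul_one, hcW]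
    refine hXW.trans (Nat.le_mul_of_pos_right _ (Nat.card_pos_iff.2
      ⟨⟨⟨_, (1, ⟨⟨1, (mem_fixedSet hF).2 (one_pow q)⟩, fun h => one_ne_zero
        (congrArg Subtype.val h)⟩), rfl⟩⟩, Set.finite_range _⟩))
  by_cases h3 : q ^ 3 * Nat.card S ≤ Nat.card W
  · by_cases hfew : Nat.card (Set.range fun g : GS q W => imgS (g : SU n F q) S) < B
    · obtain ⟨x, hx, hxS⟩ := hproper
      exact absurd (mem_of_rootInv hF hW (by omega) hS hbot
        (fun u huW hu => invAt_of_few hF h hfew huW hu) x hx) hxS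
    push Not at hfew
    calc q ^ 2 * X * Nat.card S ≤ q ^ 2 * (q * B) * Nat.card S :=
          Nat.mul_le_mul_right _ (Nat.mul_le_mul_left _ hXB)
      _ = (q ^ 3 * Nat.card S) * B := by ring
      _ ≤ _ := Nat.mul_le_mul h3 (hfew.trans (card_range_imgS_le hF S))
  by_cases h2 : Nat.card S * q ^ 2 = Nat.card W
  · obtain ⟨u, hu, hu0, hperp⟩ := plane_case hF hW hd hS hcl h2
    have hmem : ∀ x, x ∈ S ↔ x ∈ W ∧ ⟪x, u⟫ = 0 := by
      intro x
      refine ⟨fun hx => ⟨hS x hx, hperp x hx⟩, fun ⟨hxW, hxu⟩ => ?_⟩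
      have h1 := card_preimage_mul _ (ipHom_surjective hF hW hu hu0) {(0 : F)}
      rw [Nat.card_eq_fintype_card (α := F), hF, Nat.card_unique (α := ({(0 : F)} : Set F)),
        mul_one, ← h2] at h1
      have hb : Function.Bijective (fun s : S => (⟨⟨(s : Fin n → F), hS _ s.2⟩, hperp _ s.2⟩ :
          {w : W // ipHom (q := q) W u w ∈ ({0} : Set F)})) :=
        (show Function.Injective _ from fun a b hab => Subtype.ext
          (congrArg (fun z : {w : W // ipHom (q := q) W u w ∈ ({0} : Set F)} => ((z.1 : W) : Fin n → F)) hab :)).bijective_of_nat_card_le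
          (Nat.eq_of_mul_eq_mul_right (Nat.pow_pos (by omega)) h1).le
      obtain ⟨s, hs⟩ := hb.2 ⟨⟨x, hxW⟩, hxu⟩
      have : (s : Fin n → F) = x := congrArg
        (fun z : {w : W // ipHom (q := q) W u w ∈ ({0} : Set F)} => ((z.1 : W) : Fin n → F)) hs
      rw [← this]; exact s.2
    have himg := card_imgsT_perp hF hW hd hX1 hX2 hu hu0 hmem
    calc q ^ 2 * X * Nat.card S = (Nat.card S * q ^ 2) * X := by ring
      _ ≤ _ := by rw [h2]; exact Nat.mul_le_mul_left _ himg
  -- the multiplier field is small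
  set K := stabField hF S with hK
  let S' : Submodule K (Fin n → F) :=
    { carrier := S
      add_mem' := fun ha hb => S.add_mem ha hb
      zero_mem' := S.zero_mem
      smul_mem' := fun a s hs => ((mem_stabField hF).1 a.2).2 s hs }
  set r := Nat.card K with hr
  have hS' : Nat.card S = r ^ Module.finrank K S' :=
    (Nat.card_congr (Equiv.setCongr rfl)).trans (Module.natCard_eq_pow_finrank (K := K) (V := S'))
  let Φ : Submodule K F :=
    { carrier := {x | x ^ q = x}
      add_mem' := fun {a b} ha hb => by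
        show (a + b) ^ q = a + b
        rw [add_pow_q hF, ha, hb]
      zero_mem' := zero_pow_q hF
      smul_mem' := fun c x hx => by
        show ((c : F) * x) ^ q = (c : F) * x
        rw [mul_pow, ((mem_stabField hF).1 c.2).1, hx] }
  have hqr : q = r ^ Module.finrank K Φ :=
    (card_fixedSet hF).symm.trans ((Nat.card_congr (Equiv.setCongr rfl)).trans
      (Module.natCard_eq_pow_finrank (K := K) (V := Φ)))
  set a := Module.finrank K Φ
  set c := Module.finrank K S'
  have hr2 : 2 ≤ r := by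
    have : Nontrivial K := inferInstance
    exact Finite.one_lt_card
  rw [hcW] at hidx h3 h2 ⊢
  have hq8 : q ^ 8 = r ^ (8 * a) := by rw [hqr, ← pow_mul, mul_comm]
  rw [hS', hqr] at hidx h3 h2
  rw [← pow_mul, ← pow_add, ← pow_mul] at hidx
  rw [← pow_mul, ← pow_add, ← pow_mul] at h3
  rw [← pow_mul, ← pow_add, ← pow_mul] at h2
  have e1 : a * 2 + c ≤ a * 8 := (Nat.pow_le_pow_iff_right hr2).1 hidx
  have e2 : ¬a * 3 + c ≤ a * 8 := fun h => h3 ((Nat.pow_le_pow_iff_right hr2).2 h)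
  have e3 : c + a * 2 ≠ a * 8 := fun h => h2 (by rw [h])
  have ha2 : 2 ≤ a := by omega
  obtain ⟨d, hd1, hd8⟩ : ∃ d, a * 2 + 1 ≤ d ∧ c + d = a * 8 := ⟨a * 8 - c, by omega, by omega⟩
  have himg := card_imgsT_ge hF hW (by omega) h hS hbot hproper
  rw [← hK, ← hr] at himg
  have hjc : q ^ 2 * r * r ^ c ≤ q ^ 8 := by
    rw [hqr, ← pow_mul, ← pow_succ, ← pow_add, ← pow_mul]
    exact Nat.pow_le_pow_right (by omega) (by omega)
  have h2r : 2 * r ≤ q + 1 := by
    have hrr : r * r ≤ q := by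
      rw [hqr, ← sq]
      exact Nat.pow_le_pow_right (by omega) ha2
    nlinarith
  have hfac : q * (r - 1) ≤ r * (q - 1) := by
    obtain ⟨r', hr'⟩ : ∃ r', r = r' + 1 := ⟨r - 1, by omega⟩
    rw [hr'] at h2r ⊢
    obtain ⟨q', hq'⟩ : ∃ q', q = q' + 1 := ⟨q - 1, by omega⟩
    rw [hq'] at h2r ⊢
    simp only [Nat.add_sub_cancel]
    have hle : r' ≤ q' := by omega
    rw [add_mul, add_mul, one_mul, one_mul, mul_comm r' q']
    omega
  refine Nat.le_of_mul_le_mul_right (c := r - 1) ?_ (by omega)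
  calc q ^ 2 * X * Nat.card S * (r - 1)
      ≤ q ^ 2 * (q * B) * Nat.card S * (r - 1) :=
        Nat.mul_le_mul_right _ (Nat.mul_le_mul_right _ (Nat.mul_le_mul_left _ hXB))
    _ = q ^ 2 * B * Nat.card S * (q * (r - 1)) := by ring
    _ ≤ q ^ 2 * B * Nat.card S * (r * (q - 1)) := Nat.mul_le_mul_left _ hfac
    _ = (q ^ 2 * r * r ^ c) * (B * (q - 1)) := by rw [hS']; ring
    _ ≤ q ^ 8 * (Nat.card (imgsT hF W S) * (r - 1)) := Nat.mul_le_mul hjc himg
    _ = _ := by ring

end Cfsg.Agent.MinIndexUnit19
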