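import Mathlib
import Cfsg.Agent.Lib.MinIndexUnit19Step3
import Cfsg.Agent.Lib.MinIndexUnit19Six

/-!
The induction over the even dimensions.
-/

set_option autoImplicit false

namespace Cfsg.Agent.MinIndexUnit19

open Cfsg Cfsg.Agent.OrthUnitaryHerm Cfsg.Agent.OrthUnitaryTransvection
  Cfsg.Agent.SUMinDegree32Geom

variable {F : Type*} [Field F] [Fintype F] {q n : ℕ}
variable (hF : Fintype.card F = q ^ 2)
include hF

/-- The bound in dimension four, for every subspace. -/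
def BaseFour (q n : ℕ) (hF : Fintype.card F = q ^ 2) : Prop :=
  ∀ W : Submodule F (Fin n → F), Nondeg q W → Module.finrank F W = 4 →
    Small hF W ((q + 1) * (q ^ 3 + 1))

omit [Field F] [Fintype F] hF in
theorem isoN_four (q : ℕ) : isoN q 4 = (q ^ 2 + 1) * (q ^ 3 + 1) := by
  simp only [isoN]
  ring

omit [Field F] [Fintype F] hF in
theorem isoN_six (q : ℕ) :
    isoN q 6 = 1 + q ^ 2 * ((q ^ 2 + 1) * (q ^ 3 + 1)) + q ^ 9 := by
  rw [show isoN q 6 = 1 + q ^ 2 * isoN q 4 + q ^ 9 from rfl, isoN_four]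

omit [Field F] [Fintype F] hF in
theorem isoN_bounds {q : ℕ} (hq : 2 ≤ q) : ∀ j : ℕ,
    q ^ (4 * j + 5) ≤ isoN q (2 * j + 4) ∧ isoN q (2 * j + 4) ≤ 2 * q ^ (4 * j + 5)
  | 0 => by
    show q ^ 5 ≤ isoN q 4 ∧ isoN q 4 ≤ 2 * q ^ 5
    have h2 : 2 ^ 2 ≤ q ^ 2 := Nat.pow_le_pow_left hq 2
    have h3 : 2 ^ 3 ≤ q ^ 3 := Nat.pow_le_pow_left hq 3
    have h32 : q ^ 3 = q * q ^ 2 := by ring
    rw [isoN_four, show (q ^ 2 + 1) * (q ^ 3 + 1) = q ^ 2 * q ^ 3 + q ^ 2 + q ^ 3 + 1 by ring,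
      show q ^ 5 = q ^ 2 * q ^ 3 by ring]
    constructor
    · omega
    · nlinarith
  | j + 1 => by
    obtain ⟨h1, h2⟩ := isoN_bounds hq j
    have e : isoN q (2 * (j + 1) + 4) = 1 + q ^ 2 * isoN q (2 * j + 4) + q ^ (4 * (j + 1) + 5) := by
      rw [show 2 * (j + 1) + 4 = (2 * j + 4) + 2 by ring, isoN_succ_succ]
      ring_nf
    have e2 : q ^ (4 * (j + 1) + 5) = q ^ 2 * (q ^ 2 * q ^ (4 * j + 5)) := by ring
    have hq2 : 2 ^ 2 ≤ q ^ 2 := Nat.pow_le_pow_left hq 2
    have hq4 : 2 ≤ q ^ (4 * j + 5) := le_trans hq (Nat.le_self_pow (by omega) q)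
    refine ⟨by omega, ?_⟩
    rw [e, e2]
    have := Nat.mul_le_mul_left (q ^ 2) h2
    nlinarith

/-- The even dimensions from six on, for three or more elements in the fixed field. -/
theorem small_even (h4 : BaseFour q n hF) (hq : 3 ≤ q) : ∀ (j : ℕ)
    (W : Submodule F (Fin n → F)), Nondeg q W → Module.finrank F W = 2 * j + 6 →
    Small hF W (isoN q (2 * j + 6))
  | 0, W, hW, hd => by
    have hq3 : 3 ^ 3 ≤ q ^ 3 := Nat.pow_le_pow_left hq 3
    refine step hF (m := 4) (B := (q + 1) * (q ^ 3 + 1)) (X := isoN q 4)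
      ⟨hW, hd, le_rfl, fun e f hP => h4 _ (hP.nondeg hF hW) (by have := hP.finrank hF; omega),
        fun e f hP => ?_, Or.inl (by nlinarith), ?_, ?_, ?_, Or.inr ⟨?_, rfl⟩⟩
    · have hv : vecN q 4 = 1 + (q ^ 2 - 1) * isoN q 4 := vecN_eq (by omega) 4
      have hd' : Module.finrank F (pairPerp q W e f) = 4 := by
        have := hP.finrank hF; omega
      refine geo_four hF (hP.nondeg hF hW) hd' (h4 _ (hP.nondeg hF hW) hd') ?_ ?_ le_rfl ?_
      · rw [isoN_four, ← mul_assoc]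
        exact Nat.mul_le_mul_right _ (by nlinarith)
      · rw [isoN_four]
        have h7 : 2 * q ^ 7 ≤ q ^ 8 := by
          rw [show q ^ 8 = q * q ^ 7 by ring]
          exact Nat.mul_le_mul_right _ (by omega)
        have h54 : q ^ 5 + q ^ 4 + q ^ 2 ≤ q ^ 7 := by
          have e7 : q ^ 7 = q ^ 2 * q ^ 5 := by ring
          have h45 : q ^ 4 ≤ q ^ 5 := Nat.pow_le_pow_right (by omega) (by omega)
          have h25 : q ^ 2 ≤ q ^ 5 := Nat.pow_le_pow_right (by omega) (by omega)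
          have : 9 ≤ q ^ 2 := Nat.pow_le_pow_left hq 2
          nlinarith
        rw [show q ^ 2 * ((q ^ 2 + 1) * (q ^ 3 + 1)) = q ^ 7 + q ^ 5 + q ^ 4 + q ^ 2 by ring]
        omega
      · rw [hv, isoN_four]
        obtain ⟨t, ht⟩ : ∃ t, q ^ 2 = t + 1 := ⟨q ^ 2 - 1, by have := Nat.pow_pos (n := 2) (show 0 < q by omega); omega⟩
        rw [ht, Nat.add_sub_cancel]
        have h74 : 3 * q ^ 7 ≤ q ^ 8 := by
          rw [show q ^ 8 = q * q ^ 7 by ring]
          exact Nat.mul_le_mul_right _ hq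
        have h47 : 27 * q ^ 4 ≤ q ^ 7 := by
          rw [show q ^ 7 = q ^ 3 * q ^ 4 by ring]
          exact Nat.mul_le_mul_right _ hq3
        have h24 : q ^ 2 ≤ q ^ 4 := Nat.pow_le_pow_right (by omega) (by omega)
        have e : t * (t + 2) + 1 = q ^ 4 := by
          rw [show q ^ 4 = (q ^ 2) ^ 2 by ring, ht]; ring
        nlinarith
    · show isoN q 6 ≤ _
      rw [isoN_six, show (q + 1) * (q ^ 3 + 1) * q ^ (4 + 1) = q ^ 9 + q ^ 8 + q ^ 6 + q ^ 5 by ring,
        show 1 + q ^ 2 * ((q ^ 2 + 1) * (q ^ 3 + 1)) + q ^ 9 =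
          1 + q ^ 7 + q ^ 5 + q ^ 4 + q ^ 2 + q ^ 9 by ring]
      have h87 : 3 * q ^ 7 ≤ q ^ 8 := by
        rw [show q ^ 8 = q * q ^ 7 by ring]
        exact Nat.mul_le_mul_right _ hq
      have h47 : 27 * q ^ 4 ≤ q ^ 7 := by
        rw [show q ^ 7 = q ^ 3 * q ^ 4 by ring]
        exact Nat.mul_le_mul_right _ hq3
      have h24 : q ^ 2 ≤ q ^ 4 := Nat.pow_le_pow_right (by omega) (by omega)
      have h1 : 1 ≤ q ^ 6 := Nat.pow_pos (by omega)
      omega
    iterate 2
      show isoN q 6 ≤ _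
      rw [isoN_six, show 1 + q ^ 2 * ((q ^ 2 + 1) * (q ^ 3 + 1)) + q ^ 9 =
          1 + q ^ 7 + q ^ 5 + q ^ 4 + q ^ 2 + q ^ 9 by ring]
      have h87 : 3 * q ^ 7 ≤ q ^ 8 := by
        rw [show q ^ 8 = q * q ^ 7 by ring]
        exact Nat.mul_le_mul_right _ hq
      have h57 : q ^ 5 ≤ q ^ 7 := Nat.pow_le_pow_right (by omega) (by omega)
      have h47 : 27 * q ^ 4 ≤ q ^ 7 := by
        rw [show q ^ 7 = q ^ 3 * q ^ 4 by ring]
        exact Nat.mul_le_mul_right _ hq3
      have h24 : q ^ 2 ≤ q ^ 4 := Nat.pow_le_pow_right (by omega) (by omega)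
      have h89 : q ^ 8 ≤ q ^ 9 := Nat.pow_le_pow_right (by omega) (by omega)
      simp only [Nat.reduceMul, Nat.reduceAdd]
      have h1 : 1 ≤ q ^ 4 := Nat.pow_pos (by omega)
      have eA : (q + 1) * q ^ 8 = q ^ 9 + q ^ 8 := by ring
      omega
    show isoN q 6 = _
    rw [isoN_six, isoN_four, show 2 * 4 + 1 = 9 from rfl]
    ring
  | j + 1, W, hW, hd => by
    have ih := small_even h4 hq j
    set m := 2 * j + 6 with hm
    obtain ⟨hlo, hhi⟩ := isoN_bounds (q := q) (by omega) (j + 1)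
    rw [show 2 * (j + 1) + 4 = m by omega] at hlo hhi
    have hC : isoN q (2 * (j + 1) + 6) = 1 + q ^ 2 * isoN q m + q ^ (2 * m + 1) := by
      rw [show 2 * (j + 1) + 6 = m + 2 by omega, isoN_succ_succ]
    have hp : q ^ (2 * m + 1) = q ^ 4 * q ^ (4 * (j + 1) + 5) := by
      rw [← pow_add]; congr 1; omega
    have hp2 : q ^ (2 * m) = q ^ 3 * q ^ (4 * (j + 1) + 5) := by
      rw [← pow_add]; congr 1; omega
    have hbig : q ^ 6 ≤ q ^ (m + 1) := Nat.pow_le_pow_right (by omega) (by omega)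
    have hq4 : 2 ≤ q ^ (4 * (j + 1) + 5) := le_trans (by omega) (Nat.le_self_pow (by omega) q)
    have hqP : q < q ^ (4 * (j + 1) + 5) := by
      calc q = q ^ 1 := (pow_one q).symm
        _ < _ := Nat.pow_lt_pow_right (by omega) (by omega)
    have hq2 : 3 ^ 2 ≤ q ^ 2 := Nat.pow_le_pow_left hq 2
    have hmul := Nat.mul_le_mul_left (q ^ 2) hhi
    refine step hF (m := m) (B := isoN q m) (X := isoN q m)
      ⟨hW, by omega, by omega, fun e f hP => ?_, fun e f hP => ?_, Or.inl (by omega), ?_, ?_, ?_,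
        Or.inr ⟨by rw [hC]; omega, by rw [show 2 * (j + 1) + 6 = m + 2 by omega]⟩⟩
    · exact ih _ (hP.nondeg hF hW) (by have := hP.finrank hF; omega)
    · have hd' : Module.finrank F (pairPerp q W e f) = m := by have := hP.finrank hF; omega
      refine geo_basic hF (hP.nondeg hF hW) (by omega) (ih _ (hP.nondeg hF hW) hd') ?_
      rw [card_submodule hF, hd', hp2]
      nlinarith [Nat.mul_le_mul_right (q ^ (4 * (j + 1) + 5)) (show 2 * q ^ 2 ≤ q ^ 3 by nlinarith)]
    · rw [hC, hp]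
      have h1 : q ^ (4 * (j + 1) + 5) * q ^ 6 ≤ isoN q m * q ^ (m + 1) := Nat.mul_le_mul hlo hbig
      have h2 : 2 * q ^ 4 ≤ q ^ 6 := by
        rw [show q ^ 6 = q ^ 2 * q ^ 4 by ring]
        exact Nat.mul_le_mul_right _ (by omega)
      have h24 : 9 * q ^ 2 ≤ q ^ 4 := by
        rw [show q ^ 4 = q ^ 2 * q ^ 2 by ring]
        exact Nat.mul_le_mul_right _ hq2
      nlinarith
    · rw [hC, hp, hp2]
      have h32 : 3 * q ^ 2 ≤ q ^ 3 := by
        rw [show q ^ 3 = q * q ^ 2 by ring]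
        exact Nat.mul_le_mul_right _ hq
      nlinarith
    · rw [hC, hp]
      have h24 : 9 * q ^ 2 ≤ q ^ 4 := by
        rw [show q ^ 4 = q ^ 2 * q ^ 2 by ring]
        exact Nat.mul_le_mul_right _ hq2
      nlinarith

omit [Field F] [Fintype F] hF in
/-- The number of anisotropic points over the field with four elements, in even dimension. -/
def anisTwo : ℕ → ℕ
  | 0 => 0
  | 1 => 0
  | m + 2 => 4 * anisTwo m + 2 ^ (2 * m + 1)

omit [Field F] [Fintype F] hF in
theorem three_mul_anisTwo : ∀ j : ℕ,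
    3 * anisTwo (2 * j + 2) + 2 ^ (2 * j + 1) = 2 ^ (4 * j + 3)
  | 0 => rfl
  | j + 1 => by
    have ih := three_mul_anisTwo j
    rw [show 2 * (j + 1) + 2 = (2 * j + 2) + 2 by ring, anisTwo,
      show 2 * (2 * j + 2) + 1 = 4 * j + 5 by ring,
      show 2 * (j + 1) + 1 = (2 * j + 1) + 2 by ring, show 4 * (j + 1) + 3 = (4 * j + 3) + 4 by ring,
      show 4 * j + 5 = (4 * j + 3) + 2 by ring]
    simp only [pow_add] at ih ⊢
    omega

omit [Field F] [Fintype F] hF in
theorem anisTwo_eq {m : ℕ} (hm : Even m) (h2 : 2 ≤ m) :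
    anisTwo m = 2 ^ (m - 1) * (2 ^ m - 1) / 3 := by
  obtain ⟨k, rfl⟩ := hm
  obtain ⟨j, rfl⟩ : ∃ j, k = j + 1 := ⟨k - 1, by omega⟩
  have h := three_mul_anisTwo j
  rw [show j + 1 + (j + 1) = 2 * j + 2 by ring, show 2 * j + 2 - 1 = 2 * j + 1 by omega]
  symm
  apply Nat.div_eq_of_eq_mul_right (by norm_num)
  rw [Nat.mul_sub, mul_one, ← pow_add, show 2 * j + 1 + (2 * j + 2) = 4 * j + 3 by ring]
  omega

/-- The even dimensions from six on, over the field with four elements. -/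
theorem small_two (h4 : BaseFour q n hF) (hq : q = 2) : ∀ (j : ℕ)
    (W : Submodule F (Fin n → F)), Nondeg q W → Module.finrank F W = 2 * j + 6 →
    Small hF W (anisTwo (2 * j + 6)) := by
  subst hq
  intro j
  induction j with
  | zero =>
    intro W hW hd
    have e6 : anisTwo 6 = 672 := rfl
    refine step hF (m := 4) (B := 27) (X := 40)
      ⟨hW, hd, le_rfl, fun e f hP => h4 _ (hP.nondeg hF hW) (by have := hP.finrank hF; omega),
        fun e f hP => ?_, Or.inr rfl, ?_, ?_, ?_, Or.inl ?_⟩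
    · have hd' : Module.finrank F (pairPerp 2 W e f) = 4 := by
        have := hP.finrank hF; omega
      refine geo_four hF (hP.nondeg hF hW) hd' (h4 _ (hP.nondeg hF hW) hd') ?_ ?_ ?_ ?_
      · norm_num
      · norm_num
      · show 40 ≤ isoN 2 4
        rw [isoN_four]; norm_num
      · rw [vecN_eq (by norm_num), isoN_four]; norm_num
    all_goals
      show anisTwo 6 ≤ _
      rw [e6]
      norm_num
  | succ j ih =>
    intro W hW hd
    set m := 2 * j + 6 with hm
    have h := three_mul_anisTwo (j + 2)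
    rw [show 2 * (j + 2) + 2 = m by omega] at h
    have hC : anisTwo (2 * (j + 1) + 6) = 4 * anisTwo m + 2 ^ (2 * m + 1) := by
      rw [show 2 * (j + 1) + 6 = m + 2 by omega, anisTwo]
    have hA : 2 ^ (2 * m + 1) = 4 * 2 ^ (4 * (j + 2) + 3) := by
      rw [show 2 * m + 1 = 2 + (4 * (j + 2) + 3) by omega, pow_add]; norm_num
    have hB : 2 ^ (2 * m) = 2 * 2 ^ (4 * (j + 2) + 3) := by
      rw [show 2 * m = 1 + (4 * (j + 2) + 3) by omega, pow_add]; norm_num
    have hsm : 32 * 2 ^ (2 * (j + 2) + 1) ≤ 2 ^ (4 * (j + 2) + 3) := by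
      rw [show (32 : ℕ) = 2 ^ 5 by norm_num, ← pow_add]
      exact Nat.pow_le_pow_right (by norm_num) (by omega)
    have hpos : 32 ≤ 2 ^ (2 * (j + 2) + 1) := by
      rw [show (32 : ℕ) = 2 ^ 5 by norm_num]
      exact Nat.pow_le_pow_right (by norm_num) (by omega)
    have hm1 : 128 ≤ 2 ^ (m + 1) := by
      rw [show (128 : ℕ) = 2 ^ 7 by norm_num]
      exact Nat.pow_le_pow_right (by norm_num) (by omega)
    refine step hF (m := m) (B := anisTwo m) (X := anisTwo m)
      ⟨hW, by omega, by omega, fun e f hP => ?_, fun e f hP => ?_, Or.inr rfl, ?_, ?_, ?_,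
        Or.inl ?_⟩
    · exact ih _ (hP.nondeg hF hW) (by have := hP.finrank hF; omega)
    · have hd' : Module.finrank F (pairPerp 2 W e f) = m := by have := hP.finrank hF; omega
      refine geo_basic hF (hP.nondeg hF hW) (by omega) (ih _ (hP.nondeg hF hW) hd') ?_
      rw [card_submodule hF, hd', hB]
      norm_num
      omega
    all_goals rw [hC, hA]
    · have := Nat.mul_le_mul_left (anisTwo m) hm1
      omega
    · rw [hB]; omega
    · omega
    · norm_num
      omega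

end Cfsg.Agent.MinIndexUnit19
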