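import Mathlib
import Cfsg.Agent.Lib.MinIndexUnit19Step

/-!
An isotropic subgroup of a plane has at least `q + 1` images.
-/

set_option autoImplicit false

namespace Cfsg.Agent.MinIndexUnit19

open Cfsg Cfsg.Agent.OrthUnitaryHerm Cfsg.Agent.OrthUnitaryTransvection
  Cfsg.Agent.SUMinDegree32Geom

variable {F : Type*} [Field F] [Fintype F] {q n : ℕ}
variable {W : Submodule F (Fin n → F)} {S : AddSubgroup (Fin n → F)} {e f : Fin n → F}

local notation "⟪" x ", " y "⟫" => hermForm n F q x y

theorem perm_three_fixed : ∀ (a : Equiv.Perm (Fin 3)) (i : Fin 3),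
    a * (a * a) = 1 → a i = i → a = 1 := by decide

theorem perm_three_two : ∀ (a b : Equiv.Perm (Fin 3)),
    a * (a * a) = 1 → b * (b * b) = 1 → a ≠ 1 → b ≠ 1 → a = b ∨ a = b * b := by decide

omit [Fintype F] in
theorem scaleHom_apply (a : F) (g : SU n F q) (x : Fin n → F) :
    scaleHom a g x = a • act g x := rfl

/-- The images of a subgroup under the group of `W` and the squares of the scalars of norm one. -/
def imgsN (q : ℕ) (W : Submodule F (Fin n → F)) (S : AddSubgroup (Fin n → F)) :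
    Set (AddSubgroup (Fin n → F)) :=
  {T | ∃ (g : GS q W) (t : F), t ^ (q + 1) = 1 ∧
    T = S.map (scaleHom (t ^ q * t ^ q) (g : SU n F q))}

variable (hF : Fintype.card F = q ^ 2)
include hF

theorem imgS_mem_imgsN (g : GS q W) : imgS (g : SU n F q) S ∈ imgsN q W S := by
  refine ⟨g, 1, one_pow _, ?_⟩
  ext x
  simp only [mem_imgS, AddSubgroup.mem_map]
  refine exists_congr fun s => and_congr_right fun _ => ?_
  show _ ↔ ((1 : F) ^ q * 1 ^ q) • act (g : SU n F q) s = x
  rw [one_pow, one_mul, one_smul]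

/-- Root elements at every isotropic vector give invariance under every root element. -/
theorem invAt_of_stab (hP : HP q W e f)
    (H : ∀ v ∈ W, ⟪v, v⟫ = 0 → v ≠ 0 → ∃ r : fixedSet hF, r ≠ 0 ∧
      ∀ s ∈ S, (c0 hF * (r : F) * ⟪s, v⟫) • v ∈ S) : InvAt hF S e := by
  classical
  have hc := c0_ne hF
  obtain ⟨r₀, hr₀, he'⟩ := H e hP.eW hP.ee hP.e_ne
  have hfne : f ≠ 0 := fun h => by
    have := hP.fe
    rw [h, herm_zero_left] at this
    exact zero_ne_one this
  obtain ⟨s₀, hs₀, hf'⟩ := H f hP.fW hP.ff hfne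
  have hr₀' : (r₀ : F) ≠ 0 := fun h => hr₀ (Subtype.ext h)
  have hs₀' : (s₀ : F) ≠ 0 := fun h => hs₀ (Subtype.ext h)
  set ρ := c0 hF * (r₀ : F) with hρ
  set σ := c0 hF * (s₀ : F) with hσ
  set A := ρ * σ with hA
  have hA0 : A ≠ 0 := mul_ne_zero (mul_ne_zero hc hr₀') (mul_ne_zero hc hs₀')
  have hK : ∀ x ∈ S, (A * ⟪x, f⟫) • e ∈ S := by
    intro x hx
    have := he' _ (hf' x hx)
    rw [herm_smul_left, hP.fe, mul_one] at this
    rwa [hA, mul_assoc]
  have hK2 : ∀ x ∈ S, (A * ⟪x, e⟫) • f ∈ S := by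
    intro x hx
    have := hf' _ (he' x hx)
    rw [herm_smul_left, hP.ef, mul_one] at this
    rwa [hA, mul_comm ρ, mul_assoc]
  let K : Set F := {π | ∀ x ∈ S, (π * ⟪x, f⟫) • e ∈ S}
  have hmul : ∀ π ∈ K, ∀ π' ∈ K, π * π' ∈ K := by
    intro π hπ π' hπ' x hx
    have := hπ _ (hπ' x hx)
    rw [herm_smul_left, hP.ef, mul_one] at this
    rwa [mul_assoc]
  have hpow : ∀ π ∈ K, ∀ k : ℕ, π ^ (k + 1) ∈ K := by
    intro π hπ k
    induction k with
    | zero => rwa [pow_one]
    | succ k ih => rw [pow_succ]; exact hmul _ ih _ hπ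
  intro a s hs
  rcases eq_or_ne a 0 with rfl | ha
  · rw [AddSubgroup.coe_zero, mul_zero, zero_mul, zero_smul]; exact S.zero_mem
  set z := (c0 hF * (a : F)) • e + f with hz
  have hzz : ⟪z, z⟫ = 0 := by
    rw [hz]
    simp only [herm_add_left, herm_add_right hF, herm_smul_left, herm_smul_right, hP.ee, hP.ff,
      hP.ef, hP.fe]
    linear_combination c0_mul_skew hF a.2
  have hxz : ∀ x : Fin n → F, ⟪x, z⟫ = -(c0 hF * (a : F)) * ⟪x, e⟫ + ⟪x, f⟫ := by
    intro x
    rw [hz, herm_add_right hF, herm_smul_right, mul_pow, c0_pow hF, a.2, neg_mul]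
  have hez : ⟪e, z⟫ = 1 := by rw [hxz, hP.ee, hP.ef, mul_zero, zero_add]
  have hze : ⟪z, e⟫ = 1 := by
    rw [hz, herm_add_left, herm_smul_left, hP.ee, hP.fe, mul_zero, zero_add]
  have hzf : ⟪z, f⟫ = c0 hF * (a : F) := by
    rw [hz, herm_add_left, herm_smul_left, hP.ef, hP.ff, mul_one, add_zero]
  obtain ⟨u, hu, hz'⟩ := H z (W.add_mem (W.smul_mem _ hP.eW) hP.fW) hzz fun h => by
    rw [h, herm_zero_left] at hze
    exact zero_ne_one hze
  have hu' : (u : F) ≠ 0 := fun h => hu (Subtype.ext h)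
  have ha' : (a : F) ≠ 0 := fun h => ha (Subtype.ext h)
  -- two elements of `K` with quotient `a / r₀`
  set X := ρ * (A * (c0 hF * (u : F) * A)) with hX
  set Y := A * (c0 hF * (a : F)) * (c0 hF * (u : F) * A) with hY
  have hXK : X ∈ K := by
    intro x hx
    have h1 := hK2 _ (hz' _ (hK x hx))
    rw [herm_smul_left, hze, mul_one, herm_smul_left, hez, mul_one] at h1
    have h2 := he' _ h1
    rw [herm_smul_left, hP.fe, mul_one] at h2
    convert h2 using 2
    rw [hX]; ring
  have hYK : Y ∈ K := by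
    intro x hx
    have h1 := hK _ (hz' _ (hK x hx))
    rw [herm_smul_left, hzf, herm_smul_left, hez, mul_one] at h1
    convert h1 using 2
    rw [hY]; ring
  have hX0 : X ≠ 0 :=
    mul_ne_zero (mul_ne_zero hc hr₀') (mul_ne_zero hA0 (mul_ne_zero (mul_ne_zero hc hu') hA0))
  have hq4 : 4 ≤ q ^ 2 := by
    have := Nat.pow_le_pow_left (two_le_q hF) 2
    omega
  have hinv : Y * X⁻¹ ∈ K := by
    have h1 : X ^ (q ^ 2 - 2) * X = 1 := by
      rw [← pow_succ, show q ^ 2 - 2 + 1 = Fintype.card F - 1 by rw [hF]; omega]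
      exact FiniteField.pow_card_sub_one_eq_one X hX0
    rw [show X⁻¹ = X ^ (q ^ 2 - 2) from inv_eq_of_mul_eq_one_left h1,
      show q ^ 2 - 2 = q ^ 2 - 3 + 1 by omega]
    exact hmul _ hYK _ (hpow _ hXK _)
  have h3 := hinv _ (he' s hs)
  rw [herm_smul_left, hP.ef, mul_one, ← mul_assoc] at h3
  have hkey : Y * X⁻¹ * ρ = c0 hF * (a : F) := by
    rw [hY, hX, hρ, hA, hρ, hσ]
    field_simp
  rwa [hkey] at h3

/-- Invariance gives fixed images. -/
theorem imgS_eq_self {g : SU n F q} (h : ∀ s ∈ S, act g s ∈ S) : imgS g S = S := by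
  have hinj : Function.Injective (fun s : S => (⟨act g s, h _ s.2⟩ : S)) := fun x y hxy =>
    Subtype.ext (by
      have := congrArg (fun z : S => act g⁻¹ (z : Fin n → F)) hxy
      simpa [act_inv_act] using this)
  refine le_antisymm ?_ fun x hx => ?_
  · rintro x hx
    obtain ⟨s, hs, rfl⟩ := mem_imgS.1 hx
    exact h s hs
  · obtain ⟨s, hs⟩ := (Finite.injective_iff_surjective.1 hinj) ⟨x, hx⟩
    exact mem_imgS.2 ⟨s, s.2, congrArg Subtype.val hs⟩

/-- A vector without stabilising root elements gives `q` images. -/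
theorem q_le_card_range {v : Fin n → F} (hvW : v ∈ W) (hv : ⟪v, v⟫ = 0)
    (hno : ∀ r : fixedSet hF, r ≠ 0 → imgS (T hF v hv r) S ≠ S) :
    q ≤ Nat.card (Set.range fun g : GS q W => imgS (g : SU n F q) S) := by
  have hmem : ∀ r : fixedSet hF, imgS (T hF v hv r) S ∈
      Set.range fun g : GS q W => imgS (g : SU n F q) S := fun r => ⟨Tg hF hvW hv r, rfl⟩
  refine (card_fixedSet hF).ge.trans
    (Nat.card_le_card_of_injective (fun r => ⟨_, hmem r⟩) fun a b hab => ?_)
  by_contra hne
  refine hno (-b + a) (fun h0 => hne (neg_add_eq_zero.1 h0).symm) ?_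
  have h1 : imgS (T hF v hv a) S = imgS (T hF v hv b) S := congrArg Subtype.val hab
  rw [T_add, imgS_mul, h1, ← imgS_mul, ← T_add, neg_add_cancel, T_zero, imgS_one]

/-- The plane over three fixed elements with exactly three images. -/
theorem three_false (hW : Nondeg q W) (hd : Module.finrank F W = 2) (hq : q = 3)
    (hS : ∀ s ∈ S, s ∈ W)
    (hc : Nat.card (Set.range fun g : GS q W => imgS (g : SU n F q) S) = 3)
    {v : Fin n → F} (hvW : v ∈ W) (hv : ⟪v, v⟫ = 0) (hv0 : v ≠ 0)
    (hno : ∀ r : fixedSet hF, r ≠ 0 → imgS (T hF v hv r) S ≠ S) : False := by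
  classical
  obtain ⟨f, hP⟩ := HP.exists_of_iso hF hW hvW hv0 hv
  set X := Set.range fun g : GS q W => imgS (g : SU n F q) S with hX
  let I : MulAction (GS q W) X :=
    { smul := fun g z => ⟨imgS (g : SU n F q) z.1, by
        obtain ⟨k, hk⟩ := z.2
        exact ⟨g * k, by
          show imgS ((g * k : GS q W) : SU n F q) S = imgS (g : SU n F q) z.1
          rw [Subgroup.coe_mul, imgS_mul, show imgS (k : SU n F q) S = z.1 from hk]⟩⟩
      one_smul := fun z => Subtype.ext (imgS_one _)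
      mul_smul := fun g k z => Subtype.ext (imgS_mul _ _ _) }
  have hFX : Finite X := Nat.finite_of_card_ne_zero (by omega)
  let ε : X ≃ Fin 3 := Finite.equivFinOfCardEq hc
  let φ : GS q W →* Equiv.Perm (Fin 3) :=
    ε.permCongrHom.toMonoidHom.comp (MulAction.toPermHom (GS q W) X)
  let S₀ : X := ⟨S, 1, imgS_one S⟩
  have hφ : ∀ g : GS q W, φ g = 1 → imgS (g : SU n F q) S = S := by
    intro g hg
    have h1 := congrArg (fun σ : Equiv.Perm (Fin 3) => σ (ε S₀)) hg
    have h2 : g • S₀ = S₀ := by simpa [φ, Equiv.permCongrHom] using h1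
    exact congrArg Subtype.val h2
  have hφ' : ∀ g : GS q W, imgS (g : SU n F q) S = S → φ g (ε S₀) = ε S₀ := by
    intro g hg
    have h2 : g • S₀ = S₀ := Subtype.ext hg
    simpa [φ, Equiv.permCongrHom] using congrArg ε h2
  have h3 : (3 : F) = 0 := by
    have h := FiniteField.cast_card_eq_zero F
    rw [hF, hq] at h
    push_cast at h
    exact mul_self_eq_zero.1 (by linear_combination h)
  have htri : ∀ r : fixedSet hF, r + (r + r) = 0 := fun r => Subtype.ext (by
    show (r : F) + ((r : F) + r) = 0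
    linear_combination (r : F) * h3)
  have hc2 : c0 hF * c0 hF = -1 := by
    have h : c0 hF ^ (3 : ℕ) = -c0 hF := (congrArg (c0 hF ^ ·) hq.symm).trans (c0_pow hF)
    exact mul_right_cancel₀ (c0_ne hF) (by linear_combination h)
  have hTadd : ∀ {w : Fin n → F} (hwW : w ∈ W) (hw : ⟪w, w⟫ = 0) (r s : fixedSet hF),
      Tg hF hwW hw (r + s) = Tg hF hwW hw r * Tg hF hwW hw s := fun hwW hw r s =>
    Subtype.ext (T_add hF _ hw r s)
  have hcube : ∀ {w : Fin n → F} (hwW : w ∈ W) (hw : ⟪w, w⟫ = 0) (r : fixedSet hF),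
      φ (Tg hF hwW hw r) * (φ (Tg hF hwW hw r) * φ (Tg hF hwW hw r)) = 1 := by
    intro w hwW hw r
    rw [← map_mul, ← map_mul, ← hTadd, ← hTadd, htri,
      show Tg hF hwW hw 0 = 1 from Subtype.ext (T_zero hF w hw), map_one]
  have hne1 : ∀ r : fixedSet hF, r ≠ 0 → φ (Tg hF hvW hv r) ≠ 1 := fun r hr h => hno r hr (hφ _ h)
  obtain ⟨w, a, ha, hw⟩ := exists_move_in hF hW hP.fW hvW (fun h => by
    have := hP.fe; rw [h, herm_zero_left] at this; exact zero_ne_one this) hv0 hP.ff hv
  have hf1 : ∀ r : fixedSet hF, r ≠ 0 → imgS (T hF f hP.ff r) S ≠ S := by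
    intro r hr h
    have h1 : φ (Tg hF hP.fW hP.ff r) = 1 :=
      perm_three_fixed _ _ (hcube hP.fW hP.ff r) (hφ' _ h)
    have hν : (a ^ q * a * (r : F)) ^ q = a ^ q * a * (r : F) := by
      rw [mul_pow, mul_pow, pow_q_q hF, r.2]; ring
    set s : fixedSet hF := ⟨a ^ q * a * (r : F), (mem_fixedSet hF).2 hν⟩
    have hconj : w * Tg hF hP.fW hP.ff r * w⁻¹ = Tg hF hvW hv s := Subtype.ext (by
      show (w : SU n F q) * T hF f hP.ff r * (w : SU n F q)⁻¹ = T hF v hv s
      rw [conj_T hF, T_congr hF _ (herm_smul_smul_zero hv _ _) hw]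
      exact T_smul hF hv _ r s rfl)
    refine hne1 s (fun h0 => ?_) ?_
    · have h0' : a ^ q * a * (r : F) = 0 := congrArg Subtype.val h0
      exact mul_ne_zero (mul_ne_zero (pow_ne_zero _ ha) ha) (fun h => hr (Subtype.ext h)) h0'
    · rw [← hconj, map_mul, map_mul, h1, mul_one, ← map_mul, mul_inv_cancel, map_one]
  let o : fixedSet hF := ⟨1, (mem_fixedSet hF).2 (one_pow q)⟩
  have ho : o ≠ 0 := fun h => one_ne_zero (congrArg Subtype.val h)
  have hρ1 : φ (Tg hF hP.fW hP.ff o) ≠ 1 := fun h => hf1 o ho (hφ _ h)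
  obtain ⟨η, hη, hπ⟩ : ∃ η : fixedSet hF, ((η : F) = 1 ∨ (η : F) = -1) ∧
      φ (Tg hF hvW hv o) = φ (Tg hF hP.fW hP.ff η) := by
    rcases perm_three_two _ _ (hcube hvW hv o) (hcube hP.fW hP.ff o) (hne1 o ho) hρ1 with h | h
    · exact ⟨o, Or.inl rfl, h⟩
    · refine ⟨o + o, Or.inr ?_, by rw [h, hTadd, map_mul]⟩
      show (1 : F) + 1 = -1
      linear_combination h3
  have hw' : ∀ s ∈ S, act (T hF v hv o * (T hF f hP.ff η * T hF v hv o)) s ∈ S := by
    have h : φ (Tg hF hvW hv o * (Tg hF hP.fW hP.ff η * Tg hF hvW hv o)) = 1 := by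
      rw [map_mul, map_mul, ← hπ]
      exact hcube hvW hv o
    intro s hs
    rw [← hφ _ h]
    exact mem_imgS.2 ⟨s, hs, rfl⟩
  have hg' : ∀ s ∈ S, act (T hF v hv o * T hF f hP.ff (-η)) s ∈ S := by
    have h : φ (Tg hF hvW hv o * Tg hF hP.fW hP.ff (-η)) = 1 := by
      rw [map_mul, hπ, ← map_mul, ← hTadd, add_neg_cancel,
        show Tg hF hP.fW hP.ff 0 = 1 from Subtype.ext (T_zero hF f hP.ff), map_one]
    intro s hs
    rw [← hφ _ h]
    exact mem_imgS.2 ⟨s, hs, rfl⟩
  have hbot : pairPerp q W v f = ⊥ := Submodule.finrank_eq_zero.1 (by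
    have := hP.finrank hF; omega)
  have hx : ∀ x ∈ S, x = ⟪x, f⟫ • v + ⟪x, v⟫ • f := by
    intro x hx
    have := hP.decomp (hS x hx)
    rwa [hbot, Submodule.mem_bot, sub_sub, sub_eq_zero] at this
  have hwv : ∀ x ∈ S, act (T hF v hv o * (T hF f hP.ff η * T hF v hv o)) x =
      ((⟪x, f⟫ + c0 hF * ⟪x, v⟫) * (1 - (η : F)) + c0 hF * ⟪x, v⟫) • v +
        (⟪x, v⟫ * (1 - (η : F)) + c0 hF * (η : F) * ⟪x, f⟫) • f := by
    intro x hxS
    conv_lhs => rw [hx x hxS]
    simp only [act_mul, T_act, herm_add_left, herm_smul_left, hv, hP.ff, hP.ef, hP.fe]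
    match_scalars
    · show _ = _
      simp only [o]
      linear_combination ((η : F) * ⟪x, f⟫ + c0 hF * (η : F) * ⟪x, v⟫) * hc2
    · simp only [o]
      linear_combination (η : F) * ⟪x, v⟫ * hc2
  rcases hη with hη | hη
  · -- the projection to the first line
    have hproj : ∀ x ∈ S, ⟪x, f⟫ • v ∈ S := by
      intro x hxS
      have e1 := hwv x hxS
      have hgx := hg' x hxS
      have hwx := hw' x hxS
      have e2 : act (T hF v hv o * T hF f hP.ff (-η)) x =
          (2 * ⟪x, f⟫ + c0 hF * ⟪x, v⟫) • v + (⟪x, v⟫ - c0 hF * ⟪x, f⟫) • f := by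
        conv_lhs => rw [hx x hxS]
        simp only [act_mul, T_act, herm_add_left, herm_smul_left, hv, hP.ff, hP.ef, hP.fe,
          AddSubgroup.coe_neg, hη, o]
        match_scalars
        · linear_combination (-⟪x, f⟫) * hc2
        · ring
      have hm := hw' _ (S.add_mem hwx hgx)
      rw [hwv _ (S.add_mem hwx hgx)] at hm
      have h5 := S.sub_mem hgx hm
      rw [e2] at h5
      simp only [e1, e2, herm_add_left, herm_smul_left, hv, hP.ff, hP.ef, hP.fe, hη, sub_self,
        mul_zero, zero_add, mul_one, add_zero] at h5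
      convert S.neg_mem h5 using 1
      match_scalars
      · linear_combination (⟪x, f⟫) * h3
      · linear_combination (-2 * ⟪x, v⟫) * hc2 + (⟪x, v⟫ - c0 hF * ⟪x, f⟫) * h3
    refine hno o ho (imgS_eq_self hF fun x hxS => ?_)
    have h := hproj _ (hw' x hxS)
    rw [hwv x hxS] at h
    simp only [herm_add_left, herm_smul_left, hP.ff, hP.ef, hη, sub_self, mul_zero, zero_add,
      mul_one, add_zero] at h
    rw [T_act]
    convert S.add_mem hxS h using 1
    simp only [o, mul_one]
  · refine hf1 o ho (imgS_eq_self hF fun x hxS => ?_)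
    rw [T_act]
    have h := S.add_mem (hw' x hxS) hxS
    rw [hwv x hxS, hη] at h
    have h' := S.sub_mem hxS h
    convert h' using 1
    have hd' := hx x hxS
    generalize ⟪x, f⟫ = y at hd' ⊢
    generalize ⟪x, v⟫ = z at hd' ⊢
    subst hd'
    simp only [o]
    match_scalars
    · linear_combination (y + c0 hF * z) * h3
    · linear_combination z * h3

/-- An isotropic nonzero subgroup of a plane has at least `q + 1` images. -/
theorem card_imgsN_ge (hW : Nondeg q W) (hd : Module.finrank F W = 2)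
    {P : AddSubgroup (fixedSet hF)} (hP : P ≠ ⊤) (hS : ∀ s ∈ S, s ∈ W) (hI : Isot hF P S)
    (hS0 : S ≠ ⊥) : q + 1 ≤ Nat.card (imgsN q W S) := by
  classical
  have hq := two_le_q hF
  by_contra! hlt
  have hsub : (Set.range fun g : GS q W => imgS (g : SU n F q) S) ⊆ imgsN q W S := by
    rintro _ ⟨g, rfl⟩
    exact imgS_mem_imgsN hF g
  have hle := Nat.card_mono (Set.toFinite _) hsub
  obtain ⟨s₀, hs₀, hs₀0⟩ : ∃ s ∈ S, s ≠ 0 := by
    by_contra! h
    exact hS0 ((AddSubgroup.eq_bot_iff_forall _).2 h)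
  have hcS : Nat.card S ≤ q ^ 2 := by
    have h := hI.card_sq_le hF hW hP hS
    rw [card_submodule hF, hd, mul_comm, pow_mul] at h
    exact (Nat.pow_le_pow_iff_left two_ne_zero).1 (by rwa [← pow_mul, mul_comm, pow_mul])
  by_cases hst : ∀ v ∈ W, ∀ hv : ⟪v, v⟫ = 0, v ≠ 0 →
      ∃ r : fixedSet hF, r ≠ 0 ∧ imgS (T hF v hv r) S = S
  · -- invariant at two vectors
    have H : ∀ v ∈ W, ⟪v, v⟫ = 0 → v ≠ 0 → ∃ r : fixedSet hF, r ≠ 0 ∧
        ∀ s ∈ S, (c0 hF * (r : F) * ⟪s, v⟫) • v ∈ S := by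
      intro v hvW hv hv0
      obtain ⟨r, hr, h⟩ := hst v hvW hv hv0
      refine ⟨r, hr, fun s hs => ?_⟩
      have : act (T hF v hv r) s ∈ S := by
        have h' : act (T hF v hv r) s ∈ imgS (T hF v hv r) S := mem_imgS.2 ⟨s, hs, rfl⟩
        rwa [h] at h'
      rw [T_act] at this
      simpa using S.sub_mem this hs
    obtain ⟨e, heW, he0, he⟩ := exists_iso_in hF hW (by omega)
    obtain ⟨f, hPf⟩ := HP.exists_of_iso hF hW heW he0 he
    obtain ⟨a, ha, hreal⟩ := real_of_inv_two hF hd hPf hS hS0 (invAt_of_stab hF hPf H)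
      (invAt_of_stab hF (⟨hPf.fW, hPf.eW, hPf.ff, hPf.ee, hPf.fe, hPf.ef⟩ : HP q W f e) H)
    let φ : fixedSet hF × fixedSet hF → S := fun p =>
      ⟨_, hreal p.1 p.2 p.1.2 p.2.2⟩
    have hφ : Function.Bijective φ := by
      refine Function.Injective.bijective_of_nat_card_le (fun p p' h => ?_)
        (by rw [Nat.card_prod, card_fixedSet hF, ← sq]; exact hcS)
      have h' : a • ((p.1 : F) • e + (c0 hF * (p.2 : F)) • f) =
          a • ((p'.1 : F) • e + (c0 hF * (p'.2 : F)) • f) := congrArg Subtype.val h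
      have h'' := smul_right_injective _ ha h'
      have h1 := congrArg (fun x => ⟪x, f⟫) h''
      have h2 := congrArg (fun x => ⟪x, e⟫) h''
      simp only [herm_add_left, herm_smul_left, hPf.ee, hPf.ff, hPf.ef, hPf.fe, mul_zero,
        mul_one, zero_add, add_zero] at h1 h2
      exact Prod.ext (Subtype.ext h1) (Subtype.ext (mul_left_cancel₀ (c0_ne hF) h2))
    have hone : ∀ r : F, r ^ q = r → a • (r • e) ∈ S := fun r hr => by
      simpa using hreal r 0 hr (zero_pow_q hF)
    by_cases h2 : (2 : F) = 0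
    · -- `q + 1` scalar images
      have hchar : ∀ x y : F, x * x = y * y → x = y := fun x y h =>
        sub_eq_zero.1 (mul_self_eq_zero.1 (by linear_combination h + (y * y - x * y) * h2))
      have hmem : ∀ t : {x : Fˣ // x ^ (q + 1) = 1},
          S.map (scaleHom ((t.1 : F) ^ q * (t.1 : F) ^ q) ((1 : GS q W) : SU n F q)) ∈
            imgsN q W S := fun t =>
        ⟨1, (t.1 : F), by rw [← Units.val_pow_eq_pow_val, t.2, Units.val_one], rfl⟩
      have hge : q + 1 ≤ Nat.card (imgsN q W S) := by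
        refine (card_normOne hF).ge.trans (Nat.card_le_card_of_injective
          (fun t => ⟨_, hmem t⟩) fun t t' htt => Subtype.ext (Units.ext ?_))
        have htt' := congrArg Subtype.val htt
        simp only at htt'
        have h1 := hone 1 (one_pow q)
        rw [one_smul] at h1
        have h3 : ((t.1 : F) ^ q * (t.1 : F) ^ q) • (a • e) ∈
            S.map (scaleHom ((t'.1 : F) ^ q * (t'.1 : F) ^ q) ((1 : GS q W) : SU n F q)) := by
          rw [← htt', AddSubgroup.mem_map]
          exact ⟨a • e, h1, by rw [scaleHom_apply, Subgroup.coe_one, act_one]⟩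
        obtain ⟨x, hxS, hx⟩ := AddSubgroup.mem_map.1 h3
        obtain ⟨⟨r, u⟩, hru⟩ := hφ.2 ⟨x, hxS⟩
        have hx' : x = a • ((r : F) • e + (c0 hF * (u : F)) • f) :=
          (congrArg Subtype.val hru).symm
        have hx'' : ((t'.1 : F) ^ q * (t'.1 : F) ^ q) • x =
            ((t.1 : F) ^ q * (t.1 : F) ^ q) • (a • e) := by
          rw [← hx, scaleHom_apply, Subgroup.coe_one, act_one]
        have h4 := congrArg (fun y => ⟪y, f⟫) hx''
        simp only [hx', herm_add_left, herm_smul_left, hPf.ff, hPf.ef, mul_zero, mul_one,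
          add_zero] at h4
        have h5 : (t'.1 : F) ^ q * (t'.1 : F) ^ q * (r : F) = (t.1 : F) ^ q * (t.1 : F) ^ q :=
          mul_right_cancel₀ ha (by linear_combination h4)
        have hN : ∀ z : {x : Fˣ // x ^ (q + 1) = 1}, (z.1 : F) ^ q * (z.1 : F) = 1 := fun z => by
          rw [← pow_succ, ← Units.val_pow_eq_pow_val, z.2, Units.val_one]
        have h6 : (r : F) = 1 := by
          refine hchar _ _ ?_
          have h7 := congrArg (fun y => y * y ^ q) h5
          simp only [mul_pow, pow_q_q hF, show (r : F) ^ q = r from r.2] at h7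
          linear_combination h7 -
            (r : F) * r * ((t'.1 : F) ^ q * (t'.1 : F) + 1) * hN t' +
            ((t.1 : F) ^ q * (t.1 : F) + 1) * hN t
        rw [h6, mul_one] at h5
        have h8 := hchar _ _ h5.symm
        calc (t.1 : F) = ((t.1 : F) ^ q) ^ q := (pow_q_q hF _).symm
          _ = ((t'.1 : F) ^ q) ^ q := by rw [h8]
          _ = (t'.1 : F) := pow_q_q hF _
      omega
    · -- the pairing of the two sides is onto
      refine hP ((AddSubgroup.eq_top_iff' P).2 fun w => ?_)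
      have hN : (a ^ q * a) ^ q = a ^ q * a := by rw [mul_pow, pow_q_q hF, mul_comm]
      have hN0 : 2 * (a ^ q * a) ≠ 0 := mul_ne_zero h2 (mul_ne_zero (pow_ne_zero _ ha) ha)
      set r : F := (w : F) / (2 * (a ^ q * a)) with hr
      have hrq : r ^ q = r := by
        rw [hr, div_pow, w.2, mul_pow, hN, show (2 : F) ^ q = 2 by
          rw [← one_add_one_eq_two, add_pow_q hF, one_pow]]
      have hm := hI _ (hone r hrq) _ (hreal 0 1 (zero_pow_q hF) (one_pow q))
      convert hm using 1
      refine Subtype.ext ?_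
      show (w : F) = (⟪a • ((0 : F) • e + (c0 hF * 1) • f), a • r • e⟫ -
        ⟪a • r • e, a • ((0 : F) • e + (c0 hF * 1) • f)⟫) / c0 hF
      simp only [zero_smul, zero_add, mul_one, herm_smul_left, herm_smul_right, hPf.ef, hPf.fe,
        hrq, c0_pow hF]
      rw [eq_div_iff (c0_ne hF), hr]
      field_simp
      ring
  · -- a root group without stabiliser
    push Not at hst
    obtain ⟨v, hvW, hv, hv0, hno⟩ := hst
    have hge := q_le_card_range hF hvW hv hno
    have hXc : Nat.card (Set.range fun g : GS q W => imgS (g : SU n F q) S) = q := by omega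
    by_cases hq3 : q = 3
    · exact three_false hF hW hd hq3 hS (hXc.trans hq3) hvW hv hv0 hno
    have heq : (Set.range fun g : GS q W => imgS (g : SU n F q) S) = imgsN q W S :=
      Set.eq_of_subset_of_ncard_le hsub (by
        rw [← Nat.card_coe_set_eq, ← Nat.card_coe_set_eq]; omega) (Set.toFinite _)
    set X := Set.range fun g : GS q W => imgS (g : SU n F q) S with hX
    -- the scalars of norm one act on the images
    have hsc : ∀ (t : F), t ^ (q + 1) = 1 → ∀ Y : X,
        Y.1.map (scaleHom (t ^ q * t ^ q) ((1 : GS q W) : SU n F q)) ∈ X := by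
      rintro t ht ⟨Y, g, rfl⟩
      refine (Set.ext_iff.1 heq _).2 ⟨g, t, ht, ?_⟩
      ext x
      simp only [AddSubgroup.mem_map, mem_imgS]
      constructor
      · rintro ⟨y, ⟨s, hs, rfl⟩, rfl⟩
        exact ⟨s, hs, by simp only [scaleHom_apply, Subgroup.coe_one, act_one]⟩
      · rintro ⟨s, hs, rfl⟩
        exact ⟨_, ⟨s, hs, rfl⟩,
          by simp only [scaleHom_apply, Subgroup.coe_one, act_one]⟩
    let sc : {x : Fˣ // x ^ (q + 1) = 1} → X → X := fun t Y =>
      ⟨_, hsc (t.1 : F) (by rw [← Units.val_pow_eq_pow_val, t.2, Units.val_one]) Y⟩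
    have hsc_mem : ∀ t Y x, x ∈ (sc t Y).1 ↔
        ∃ y ∈ Y.1, ((t.1 : F) ^ q * (t.1 : F) ^ q) • y = x := by
      intro t Y x
      refine exists_congr fun y => and_congr_right fun _ => ?_
      rw [scaleHom_apply, Subgroup.coe_one, act_one]
    have hfix : ∀ t : {x : Fˣ // x ^ (q + 1) = 1}, ∀ Y : X, sc t Y = Y := by
      -- a permutation commuting with a transitive group
      let G : Subgroup Fˣ := (powMonoidHom (q + 1) : Fˣ →* Fˣ).ker
      let J : MulAction G X :=
        { smul := fun t Y => sc ⟨t.1, t.2⟩ Y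
          one_smul := fun Y => Subtype.ext (by
            ext x
            show x ∈ (sc _ Y).1 ↔ _
            rw [hsc_mem]
            simp)
          mul_smul := fun t t' Y => Subtype.ext (by
            ext x
            show x ∈ (sc _ Y).1 ↔ x ∈ (sc _ (sc _ Y)).1
            rw [hsc_mem, hsc_mem]
            simp only [hsc_mem, Subgroup.coe_mul, Units.val_mul, mul_pow]
            constructor
            · rintro ⟨y, hy, rfl⟩
              exact ⟨_, ⟨y, hy, rfl⟩, by rw [smul_smul]; congr 1; ring⟩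
            · rintro ⟨z, ⟨y, hy, rfl⟩, rfl⟩
              exact ⟨y, hy, by rw [smul_smul]; congr 1; ring⟩) }
      have hcomm : ∀ (t : G) (g : GS q W) (Y Z : X), Z.1 = imgS (g : SU n F q) Y.1 →
          (t • Z).1 = imgS (g : SU n F q) (t • Y).1 := by
        intro t g Y Z hZ
        ext x
        show x ∈ (sc _ Z).1 ↔ _
        rw [hsc_mem, hZ, mem_imgS]
        constructor
        · rintro ⟨z, hz, rfl⟩
          obtain ⟨y, hy, rfl⟩ := mem_imgS.1 hz
          exact ⟨_, (hsc_mem _ _ _).2 ⟨y, hy, rfl⟩, act_smul _ _ _⟩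
        · rintro ⟨y', hy', rfl⟩
          obtain ⟨y, hy, rfl⟩ := (hsc_mem _ _ _).1 hy'
          exact ⟨_, mem_imgS.2 ⟨y, hy, rfl⟩, (act_smul _ _ _).symm⟩
      let S₀ : X := ⟨S, 1, imgS_one S⟩
      have hstab : ∀ Y : X, MulAction.stabilizer G Y = MulAction.stabilizer G S₀ := by
        rintro ⟨Y, g, rfl⟩
        ext t
        rw [MulAction.mem_stabilizer_iff, MulAction.mem_stabilizer_iff]
        have h := hcomm t g S₀ ⟨_, g, rfl⟩ rfl
        constructor
        · intro ht
          rw [ht] at h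
          refine Subtype.ext ?_
          have h' := congrArg (imgS ((g : SU n F q)⁻¹)) h
          rw [← imgS_mul, ← imgS_mul, inv_mul_cancel, imgS_one, imgS_one] at h'
          exact h'.symm
        · intro ht
          rw [ht] at h
          exact Subtype.ext h
      have hGc : Nat.card G = q + 1 := (Nat.card_congr (Equiv.subtypeEquivRight fun x => by
        rw [MonoidHom.mem_ker, powMonoidHom_apply])).trans (card_normOne hF)
      set d := (MulAction.stabilizer G S₀).index with hdd
      have hd1 : d ∣ q + 1 := hGc ▸ Subgroup.index_dvd_card _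
      have hd2 : d ∣ q := by
        rw [← hXc, Nat.card_congr (MulAction.selfEquivSigmaOrbits G X)]
        have := Fintype.ofFinite (MulAction.orbitRel.Quotient G X)
        rw [Nat.card_sigma]
        refine Finset.dvd_sum fun i _ => dvd_of_eq ?_
        rw [hdd, ← hstab i.out, MulAction.index_stabilizer, Nat.card_coe_set_eq]
      have hd1' : d = 1 := Nat.dvd_one.1 ((Nat.dvd_add_right hd2).1 hd1)
      intro t Y
      have htop : MulAction.stabilizer G Y = ⊤ := by
        rw [hstab Y]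
        exact Subgroup.index_eq_one.1 hd1'
      have : (⟨t.1, t.2⟩ : G) ∈ MulAction.stabilizer G Y := htop ▸ Subgroup.mem_top _
      exact this
    have hsmul : ∀ (a : F), ∀ s ∈ S, a • s ∈ S := by
      refine smul_mem_of_normOne hF hq3 fun t ht s hs => ?_
      have ht0 : t ≠ 0 := fun h => by simp [h] at ht
      have h := hfix ⟨Units.mk0 t ht0, Units.ext (by simpa using ht)⟩ ⟨S, 1, imgS_one S⟩
      have h' := congrArg Subtype.val h
      have h'' := (hsc_mem ⟨Units.mk0 t ht0, Units.ext (by simpa using ht)⟩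
        ⟨S, 1, imgS_one S⟩ _).2 ⟨s, hs, rfl⟩
      rw [h'] at h''
      exact h''
    -- so it is an isotropic line
    have hs₀s : ⟪s₀, s₀⟫ = 0 := by
      by_contra h0
      refine hP ((AddSubgroup.eq_top_iff' P).2 fun w => ?_)
      obtain ⟨b, hb⟩ := exists_trace hF (one_pow q : (1 : F) ^ q = 1)
      set c : F := c0 hF * (w : F) / ⟪s₀, s₀⟫ with hc
      have hcq : c ^ q = -c := by
        rw [hc, div_pow, mul_pow, c0_pow hF, w.2, herm_self_pow hF]; ring
      convert hI _ hs₀ _ (hsmul (c * b) _ hs₀) using 1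
      refine Subtype.ext ?_
      show (w : F) = (⟪(c * b) • s₀, s₀⟫ - ⟪s₀, (c * b) • s₀⟫) / c0 hF
      rw [herm_smul_left, herm_smul_right, mul_pow, hcq, eq_div_iff (c0_ne hF)]
      have : c * ⟪s₀, s₀⟫ = c0 hF * (w : F) := by rw [hc, div_mul_cancel₀ _ h0]
      linear_combination (-1 : F) * this - c * ⟪s₀, s₀⟫ * hb
    obtain ⟨f, hPf⟩ := HP.exists_of_iso hF hW (hS _ hs₀) hs₀0 hs₀s
    let φ : F → S := fun b => ⟨b • s₀, hsmul b _ hs₀⟩
    have hφ : Function.Bijective φ := by
      refine Function.Injective.bijective_of_nat_card_le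
        (fun b b' h => smul_left_injective F hs₀0 (congrArg Subtype.val h)) ?_
      rw [Nat.card_eq_fintype_card (α := F), hF]
      exact hcS
    have hline : ∀ x ∈ S, ∃ b : F, x = b • s₀ := fun x hx => by
      obtain ⟨b, hb⟩ := hφ.2 ⟨x, hx⟩
      exact ⟨b, (congrArg Subtype.val hb).symm⟩
    have hno' : ∀ r : fixedSet hF, r ≠ 0 → imgS (T hF f hPf.ff r) S ≠ S := by
      intro r hr h
      have : act (T hF f hPf.ff r) s₀ ∈ S := by
        have h' : act (T hF f hPf.ff r) s₀ ∈ imgS (T hF f hPf.ff r) S :=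
          mem_imgS.2 ⟨s₀, hs₀, rfl⟩
        rwa [h] at h'
      obtain ⟨b, hb⟩ := hline _ this
      have h2 := congrArg (fun x => ⟪x, s₀⟫) hb
      simp only [T_act, herm_add_left, herm_smul_left, hs₀s, hPf.fe, hPf.ef, mul_zero, mul_one,
        zero_add] at h2
      exact mul_ne_zero (c0_ne hF) (fun h => hr (Subtype.ext h)) h2
    -- one more image
    obtain ⟨g, b, hb, hg⟩ := exists_move_in hF hW (hS _ hs₀) hPf.fW hs₀0 (fun h => by
      have := hPf.fe; rw [h, herm_zero_left] at this; exact zero_ne_one this) hs₀s hPf.ff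
    have hmem : ∀ r : fixedSet hF, imgS (T hF f hPf.ff r) S ∈ X := fun r =>
      ⟨Tg hF hPf.fW hPf.ff r, rfl⟩
    let ψ : Option (fixedSet hF) → X := fun o => o.elim ⟨_, g, rfl⟩ fun r => ⟨_, hmem r⟩
    have hfg : ∀ r : fixedSet hF, imgS (g : SU n F q) S ≠ imgS (T hF f hPf.ff r) S := by
      intro r h
      have h1 : act (g : SU n F q) s₀ ∈ imgS (T hF f hPf.ff r) S := h ▸ mem_imgS.2 ⟨s₀, hs₀, rfl⟩
      obtain ⟨x, hx, hxe⟩ := mem_imgS.1 h1
      obtain ⟨c, rfl⟩ := hline x hx
      rw [hg, T_act] at hxe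
      have h2 := congrArg (fun x => ⟪x, f⟫) hxe
      simp only [herm_add_left, herm_smul_left, hPf.ff, hPf.ef, mul_zero, mul_one, add_zero] at h2
      rw [h2, zero_smul, herm_zero_left, mul_zero, zero_smul, add_zero] at hxe
      exact smul_ne_zero hb (fun h0 => by
        have := hPf.fe; rw [h0, herm_zero_left] at this; exact zero_ne_one this) hxe.symm
    have hψ : Function.Injective ψ := by
      rintro (_ | r) (_ | r') h
      · rfl
      · exact absurd (congrArg Subtype.val h) (hfg r')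
      · exact absurd (congrArg Subtype.val h).symm (hfg r)
      · refine congrArg some ?_
        by_contra hne
        refine hno' (-r' + r) (fun h0 => hne (neg_add_eq_zero.1 h0).symm) ?_
        have h1 : imgS (T hF f hPf.ff r) S = imgS (T hF f hPf.ff r') S := congrArg Subtype.val h
        rw [T_add, imgS_mul, h1, ← imgS_mul, ← T_add, neg_add_cancel, T_zero, imgS_one]
    have h1 := Nat.card_le_card_of_injective ψ hψ
    rw [Finite.card_option, card_fixedSet hF] at h1
    omega

end Cfsg.Agent.MinIndexUnit19
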