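import Mathlib
import Cfsg.Agent.Lib.MinIndexUnit19Step3
import Cfsg.Agent.Lib.MinIndexUnit19FourImg

/-!
Small actions in dimension four: the orbits of a Heisenberg group.
-/

set_option autoImplicit false

namespace Cfsg.Agent.MinIndexUnit19

open Cfsg Cfsg.Agent.OrthUnitaryHerm Cfsg.Agent.OrthUnitaryTransvection
  Cfsg.Agent.SUMinDegree32Geom

variable {F : Type*} [Field F] [Fintype F] {q n : ℕ}
variable {W : Submodule F (Fin n → F)} {e f : Fin n → F}

local notation "⟪" x ", " y "⟫" => hermForm n F q x y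

theorem four_arith {q j N : ℕ} (hq : 2 ≤ q) (h : q + 1 ≤ j * N) :
    (q + 1) * (q ^ 3 + 1) ≤ N * ((q + 1) * q ^ 2 * j) := by
  calc (q + 1) * (q ^ 3 + 1) ≤ (q + 1) * ((q + 1) * q ^ 2) := by
        refine Nat.mul_le_mul_left _ ?_
        have : 1 ≤ q ^ 2 := Nat.pow_pos (by omega)
        rw [show (q + 1) * q ^ 2 = q ^ 3 + q ^ 2 by ring]
        omega
    _ ≤ (j * N) * ((q + 1) * q ^ 2) := Nat.mul_le_mul_right _ h
    _ = _ := by ring

variable (hF : Fintype.card F = q ^ 2)
include hF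

variable {M : Type*} [MulAction (GS q W) M]

theorem dim_two (hd : Module.finrank F W = 4) (hP : HP q W e f) :
    Module.finrank F (pairPerp q W e f) = 2 := by
  have := hP.finrank hF; omega

theorem card_perp_four (hd : Module.finrank F W = 4) (hP : HP q W e f) :
    Nat.card (pairPerp q W e f) = q ^ 4 := by
  rw [card_submodule hF, dim_two hF hd hP]

theorem orbit_four (hd : Module.finrank F W = 4) (hP : HP q W e f) (α : M) :
    Nat.card (MulAction.orbit (Qg hF hP) α) * Nat.card (SS hF hP α) =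
      q ^ 4 * (PP hF hP.eW hP.ee α).index := by
  have h1 := card_orbit_mul hF hP α
  have h2 := AddSubgroup.card_mul_index (PP hF hP.eW hP.ee α)
  rw [card_fixedSet hF] at h2
  rw [card_perp_four hF hd hP] at h1
  refine Nat.eq_of_mul_eq_mul_right (m := Nat.card (PP hF hP.eW hP.ee α)) Nat.card_pos ?_
  rw [mul_assoc, h1, mul_assoc, mul_comm (AddSubgroup.index _), h2]

theorem card_SS_four (hW : Nondeg q W) (hd : Module.finrank F W = 4) (hP : HP q W e f) {α : M}
    (hP' : PP hF hP.eW hP.ee α ≠ ⊤) : Nat.card (SS hF hP α) ≤ q ^ 2 := by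
  have h := (isot_SS hF hP α).card_sq_le hF (hP.nondeg hF hW) hP' (SS_le hF hP α)
  rw [card_perp_four hF hd hP, show q ^ 4 = (q ^ 2) ^ 2 by ring] at h
  exact (Nat.pow_le_pow_iff_left two_ne_zero).1 h

/-- The scalar of norm one on the second pair. -/
theorem exists_tau_norm_one (hP : HP q W e f) {e' f' : Fin n → F}
    (hP' : HP q (pairPerp q W e f) e' f') (hd : Module.finrank F W = 4) {t : F}
    (ht : t ^ (q + 1) = 1) :
    ∃ τ : GS q W, act (τ : SU n F q) e = t • e ∧
      ∀ w ∈ pairPerp q W e f, act (τ : SU n F q) w = t ^ q • w := by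
  have ht0 : t ≠ 0 := fun h => by simp [h] at ht
  have ht' : t ^ q * t = 1 := by rw [← pow_succ, ht]
  obtain ⟨τ, hτ⟩ := exists_tau_two hF hP hP' ht0
  refine ⟨τ, ?_, fun w hw => ?_⟩
  · rw [hτ, hP.ef, hP.ee, e_perp hF hP'.eW, e_perp hF hP'.fW]
    module
  · have hbot : pairPerp q (pairPerp q W e f) e' f' = ⊥ := Submodule.finrank_eq_zero.1 (by
      have := hP'.finrank hF
      have := dim_two hF hd hP
      omega)
    have hk := hP'.decomp hw
    rw [hbot, Submodule.mem_bot, sub_sub, sub_eq_zero] at hk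
    have h1 : t⁻¹ = t ^ q := inv_eq_of_mul_eq_one_left ht'
    have h2 : (t⁻¹ ^ q)⁻¹ = t ^ q := by rw [inv_pow, inv_inv]
    rw [hτ, perp_e hw, perp_f hw, h2, h1]
    generalize ⟪w, f'⟫ = a at hk ⊢
    generalize ⟪w, e'⟫ = b at hk ⊢
    subst hk
    module

/-- Every image of the parameters of a point belongs to a point. -/
theorem reach (hW : Nondeg q W) (hd : Module.finrank F W = 4) (hP : HP q W e f) (α : M)
    {Y : AddSubgroup (Fin n → F)} (hY : Y ∈ imgsN q (pairPerp q W e f) (SS hF hP α)) :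
    ∃ β : M, PP hF hP.eW hP.ee β = PP hF hP.eW hP.ee α ∧ SS hF hP β = Y := by
  obtain ⟨g, t, ht, rfl⟩ := hY
  obtain ⟨e', he'W, he'0, he'⟩ := exists_iso_in hF (hP.nondeg hF hW)
    (by rw [dim_two hF hd hP])
  obtain ⟨f', hP'⟩ := HP.exists_of_iso hF (hP.nondeg hF hW) he'W he'0 he'
  obtain ⟨τ, hτe, hτW⟩ := exists_tau_norm_one hF hP hP' hd ht
  have ht0 : t ≠ 0 := fun h => by simp [h] at ht
  refine ⟨τ • (levi g • α), ?_, ?_⟩
  · rw [PP_smul hF hP.eW hP.ee ht0 hτe, PP_levi hF hP g]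
    ext x
    rw [mem_scaleP]
    constructor
    · rintro ⟨r, hr, h⟩
      rw [show r = x from Subtype.ext (by
        rw [← h]
        show (r : F) = t ^ q * t * r
        rw [← pow_succ, ht, one_mul])] at hr
      exact hr
    · exact fun h => ⟨x, h, by show t ^ q * t * (x : F) = x; rw [← pow_succ, ht, one_mul]⟩
  · ext s
    rw [SS_smul hF hP ht0 hτe (fun w hw => by
      rw [hτW w hw]; exact Submodule.smul_mem _ _ hw) (levi g • α), AddSubgroup.mem_map,
      SS_levi hF hW hP g α]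
    constructor
    · rintro ⟨s', hs', rfl⟩
      obtain ⟨x, hx, rfl⟩ := mem_imgS.1 hs'
      refine ⟨x, hx, ?_⟩
      rw [hτW _ (act_mem hF (hP.nondeg hF hW) g.2 (SS_le hF hP α x hx)), smul_smul,
        scaleHom_apply]
    · rintro ⟨x, hx, rfl⟩
      refine ⟨_, mem_imgS.2 ⟨x, hx, rfl⟩, ?_⟩
      rw [hτW _ (act_mem hF (hP.nondeg hF hW) g.2 (SS_le hF hP α x hx)), smul_smul,
        scaleHom_apply]

theorem card_imgN_eq {g : GS q W} {t : F} (ht : t ^ (q + 1) = 1)
    (S : AddSubgroup (Fin n → F)) :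
    Nat.card (S.map (scaleHom (t ^ q * t ^ q) (g : SU n F q))) = Nat.card S := by
  have ht0 : t ≠ 0 := fun h => by simp [h] at ht
  refine (Nat.card_congr (S.equivMapOfInjective _ fun u v huv => ?_).toEquiv).symm
  have h : act (g : SU n F q) u = act (g : SU n F q) v :=
    smul_right_injective _ (mul_ne_zero (pow_ne_zero _ ht0) (pow_ne_zero _ ht0)) huv
  rw [← act_inv_act (g : SU n F q) u, h, act_inv_act]

/-- The points of a class and the images of the parameters. -/
theorem images_mul_le [Finite M] (hW : Nondeg q W) (hd : Module.finrank F W = 4)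
    (hP : HP q W e f) (α : M) {c : ℕ} (hc : 0 < c)
    (hmv : PP hF hP.eW hP.ee α ≠ ⊤) (hS : SS hF hP α ≠ ⊥) (s : Set M)
    (h : ∀ β : M, PP hF hP.eW hP.ee β = PP hF hP.eW hP.ee α →
      SS hF hP β ∈ imgsN q (pairPerp q W e f) (SS hF hP α) →
      c ≤ Nat.card {x : M | x ∈ s ∧ SS hF hP x = SS hF hP β}) :
    (q + 1) * c ≤ Nat.card s := by
  have h1 := card_imgsN_ge hF (hP.nondeg hF hW) (dim_two hF hd hP) hmv (SS_le hF hP α)
    (isot_SS hF hP α) hS
  refine (Nat.mul_le_mul_right _ h1).trans (card_mul_le_of_fibres s (SS hF hP) _ hc ?_)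
  intro Y hY
  obtain ⟨β, hβ1, rfl⟩ := reach hF hW hd hP α hY
  exact h β hβ1 hY

theorem card_orbit_le_fibre [Finite M] (hP : HP q W e f) (β : M) (s : Set M)
    (hs : ∀ γ ∈ MulAction.orbit (Qg hF hP) β, γ ∈ s) :
    Nat.card (MulAction.orbit (Qg hF hP) β) ≤
      Nat.card {x : M | x ∈ s ∧ SS hF hP x = SS hF hP β} := by
  refine Nat.card_mono (Set.toFinite _) fun γ hγ => ⟨hs γ hγ, ?_⟩
  obtain ⟨ξ, rfl⟩ := hγ
  exact SS_orbit hF hP ξ.2 β

theorem PP_of_mem_orbit (hP : HP q W e f) {β γ : M}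
    (h : γ ∈ MulAction.orbit (Qg hF hP) β) :
    PP hF hP.eW hP.ee γ = PP hF hP.eW hP.ee β := by
  obtain ⟨ξ, rfl⟩ := h
  exact PP_orbit hF hP ξ.2 β

theorem class_four [Finite M] (hW : Nondeg q W) (hd : Module.finrank F W = 4)
    (hP : HP q W e f) (α : M) (hmv : PP hF hP.eW hP.ee α ≠ ⊤) :
    SS hF hP α = ⊥ ∨ (q + 1) * q ^ 2 * (PP hF hP.eW hP.ee α).index ≤
      Nat.card {β : M // PP hF hP.eW hP.ee β = PP hF hP.eW hP.ee α} := by
  refine or_iff_not_imp_left.2 fun hS => ?_
  have hq := two_le_q hF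
  rw [mul_assoc]
  refine (images_mul_le hF hW hd hP α (c := q ^ 2 * (PP hF hP.eW hP.ee α).index)
    (Nat.mul_pos (Nat.pow_pos (by omega))
      (Nat.pos_of_ne_zero AddSubgroup.index_ne_zero_of_finite)) hmv hS
    {β | PP hF hP.eW hP.ee β = PP hF hP.eW hP.ee α} fun β hβ _ => ?_).trans_eq rfl
  refine le_trans ?_ (card_orbit_le_fibre hF hP β _ fun γ hγ =>
    (PP_of_mem_orbit hF hP hγ).trans hβ)
  have h1 := orbit_four hF hd hP β
  have h2 : Nat.card (SS hF hP β) ≤ q ^ 2 := card_SS_four hF hW hd hP (by rw [hβ]; exact hmv)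
  rw [hβ, show q ^ 4 = q ^ 2 * q ^ 2 by ring] at h1
  refine Nat.le_of_mul_le_mul_right (c := q ^ 2) ?_ (Nat.pow_pos (by omega))
  calc q ^ 2 * (PP hF hP.eW hP.ee α).index * q ^ 2
      = q ^ 2 * q ^ 2 * (PP hF hP.eW hP.ee α).index := by ring
    _ = _ := h1.symm
    _ ≤ _ := Nat.mul_le_mul_left _ h2

/-- A moved point: trivial root stabiliser and a maximal set of parameters. -/
theorem moved_four [Finite M] (hW : Nondeg q W) (hd : Module.finrank F W = 4)
    (hk : Nat.card M < (q + 1) * (q ^ 3 + 1)) (hP : HP q W e f) (α : M)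
    (hmv : PP hF hP.eW hP.ee α ≠ ⊤) :
    PP hF hP.eW hP.ee α = ⊥ ∧ SS hF hP α ≠ ⊥ ∧ Nat.card (SS hF hP α) = q ^ 2 ∧
      Nat.card (MulAction.orbit (Qg hF hP) α) = q ^ 3 := by
  classical
  have hq := two_le_q hF
  have h23 : 2 * q ^ 2 ≤ q ^ 3 := by
    rw [show q ^ 3 = q * q ^ 2 by ring]; exact Nat.mul_le_mul_right _ hq
  have hq5 : (q + 1) * (q ^ 3 + 1) ≤ q ^ 5 := by
    have h35 : 4 * q ^ 3 ≤ q ^ 5 := by
      rw [show q ^ 5 = q ^ 2 * q ^ 3 by ring]
      exact Nat.mul_le_mul_right _ (Nat.pow_le_pow_left hq 2)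
    have h45 : 2 * q ^ 4 ≤ q ^ 5 := by
      rw [show q ^ 5 = q * q ^ 4 by ring]; exact Nat.mul_le_mul_right _ hq
    have h12 : 4 ≤ q ^ 2 := Nat.pow_le_pow_left hq 2
    have hqq : q ≤ q ^ 2 := Nat.le_self_pow two_ne_zero q
    rw [show (q + 1) * (q ^ 3 + 1) = q ^ 4 + q ^ 3 + q + 1 by ring]
    omega
  have hne' : pairPerp q W e f ≠ ⊥ := fun h => by
    have := dim_two hF hd hP
    rw [h, finrank_bot] at this
    omega
  set P := PP hF hP.eW hP.ee α with hPdef
  have hPbot : P = ⊥ := by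
    by_contra hne
    let T := Set.range fun a : {a : fixedSet hF // a ≠ 0} => scaleP hF a.1 P
    have hidx0 : 0 < P.index := Nat.pos_of_ne_zero AddSubgroup.index_ne_zero_of_finite
    have key := card_mul_le_of_fibres (Set.univ : Set M) (PP hF hP.eW hP.ee) T
      (c := (q + 1) * q ^ 2 * P.index)
      (Nat.mul_pos (Nat.mul_pos (by omega) (Nat.pow_pos (by omega))) hidx0) (by
      rintro Y ⟨⟨a, ha⟩, rfl⟩
      obtain ⟨t, ht⟩ := exists_norm_eq hF a.2
      rw [pow_succ] at ht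
      have ht0 : t ≠ 0 := fun h0 => ha (Subtype.ext (by rw [← ht, h0, mul_zero]; rfl))
      obtain ⟨g, hg⟩ := exists_scale hF hW hP hne' ht0
      have hPg : PP hF hP.eW hP.ee (g • α) = scaleP hF a P := by
        rw [PP_smul hF hP.eW hP.ee ht0 hg α]
        congr 1
        exact Subtype.ext ht
      have hidx : (scaleP hF a P).index = P.index := by
        have h1 := AddSubgroup.card_mul_index (scaleP hF a P)
        have h2 := AddSubgroup.card_mul_index P
        rw [card_scaleP hF ha] at h1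
        exact Nat.eq_of_mul_eq_mul_left Nat.card_pos (h1.trans h2.symm)
      have hne2 : PP hF hP.eW hP.ee (g • α) ≠ ⊤ := by
        intro htop
        rw [hPg] at htop
        rw [htop, AddSubgroup.index_top] at hidx
        exact hmv (AddSubgroup.index_eq_one.1 hidx.symm)
      have hb : (q + 1) * q ^ 2 * P.index ≤
          Nat.card {β : M // PP hF hP.eW hP.ee β = scaleP hF a P} := by
        rcases class_four hF hW hd hP (g • α) hne2 with h | h
        · -- a single orbit is large enough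
          have h1 := orbit_four hF hd hP (g • α)
          rw [h, AddSubgroup.card_bot, mul_one, hPg, hidx] at h1
          calc (q + 1) * q ^ 2 * P.index ≤ q ^ 4 * P.index := by
                refine Nat.mul_le_mul_right _ ?_
                rw [show q ^ 4 = q ^ 2 * q ^ 2 by ring]
                refine Nat.mul_le_mul_right _ ?_
                rw [sq]
                have := Nat.mul_le_mul_right q hq
                omega
            _ = _ := h1.symm
            _ ≤ _ := by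
              refine Nat.card_le_card_of_injective
                (fun β : MulAction.orbit (Qg hF hP) (g • α) =>
                  (⟨(β : M), (PP_of_mem_orbit hF hP β.2).trans hPg⟩ :
                    {β : M // PP hF hP.eW hP.ee β = scaleP hF a P}))
                fun a b hab => Subtype.ext (congrArg Subtype.val hab :)
        · rwa [hPg, hidx] at h
      refine hb.trans (le_of_eq (Nat.card_congr (Equiv.subtypeEquivRight fun β => ?_)))
      simp)
    rw [Nat.card_univ] at key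
    have h2 : q + 1 ≤ P.index * Nat.card T := succ_le_index_mul_scaleP hF hne hmv
    have := (four_arith hq h2).trans key
    omega
  have hidx : P.index = q := by rw [hPbot, AddSubgroup.index_bot, card_fixedSet hF]
  have hS : SS hF hP α ≠ ⊥ := by
    intro hbot
    have h1 := orbit_four hF hd hP α
    rw [hbot, AddSubgroup.card_bot, mul_one, ← hPdef, hidx, show q ^ 4 * q = q ^ 5 by ring] at h1
    have : Nat.card (MulAction.orbit (Qg hF hP) α) ≤ Nat.card M := Finite.card_subtype_le _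
    omega
  have h1 := orbit_four hF hd hP α
  rw [← hPdef, hidx, show q ^ 4 * q = q ^ 5 by ring] at h1
  set o := Nat.card (MulAction.orbit (Qg hF hP) α) with ho
  have ho0 : 0 < o := by
    have : Nonempty (MulAction.orbit (Qg hF hP) α) := ⟨⟨α, MulAction.mem_orbit_self α⟩⟩
    exact Nat.card_pos
  have hle : Nat.card (SS hF hP α) ≤ q ^ 2 := card_SS_four hF hW hd hP hmv
  have hcl : (q + 1) * o ≤ Nat.card M := by
    refine (images_mul_le hF hW hd hP α ho0 hmv hS Set.univ fun β hβ hY => ?_).trans_eq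
      Nat.card_univ
    refine le_trans (le_of_eq ?_) (card_orbit_le_fibre hF hP β _ fun _ _ => Set.mem_univ _)
    obtain ⟨g, t, ht, hY⟩ := hY
    have h2 := orbit_four hF hd hP β
    rw [hβ, ← hPdef, hidx, show q ^ 4 * q = q ^ 5 by ring, hY, card_imgN_eq hF ht, ← h1] at h2
    exact (Nat.eq_of_mul_eq_mul_right Nat.card_pos h2).symm
  have heq : Nat.card (SS hF hP α) = q ^ 2 := by
    refine le_antisymm hle ?_
    by_contra! hlt
    have h3 : o ≤ q ^ 3 + q := by
      by_contra! h4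
      have h5 : (q + 1) * (q ^ 3 + 1) ≤ (q + 1) * o := Nat.mul_le_mul_left _ (by omega)
      omega
    obtain ⟨p, hp⟩ : ∃ p, q ^ 2 = p + 1 := ⟨q ^ 2 - 1, by omega⟩
    have h4 : o * Nat.card (SS hF hP α) ≤ (q ^ 3 + q) * p := Nat.mul_le_mul h3 (by omega)
    have h5 : (q ^ 3 + q) * p + q = q ^ 5 := by
      have : q ^ 5 = q ^ 3 * q ^ 2 := by ring
      have h6 : q ^ 3 = q * q ^ 2 := by ring
      rw [this, h6, hp]
      ring
    omega
  refine ⟨hPbot, hS, heq, ?_⟩
  rw [heq] at h1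
  exact Nat.eq_of_mul_eq_mul_right (Nat.pow_pos (n := 2) (by omega)) (h1.trans (by ring))

/-- The points with a given set of parameters form one orbit. -/
theorem orbit_unique [Finite M] (hW : Nondeg q W) (hd : Module.finrank F W = 4)
    (hk : Nat.card M < (q + 1) * (q ^ 3 + 1)) (hP : HP q W e f) {α β : M}
    (hα : PP hF hP.eW hP.ee α ≠ ⊤) (hβ : PP hF hP.eW hP.ee β ≠ ⊤)
    (h : SS hF hP β = SS hF hP α) : β ∈ MulAction.orbit (Qg hF hP) α := by
  classical
  by_contra hne
  have hq := two_le_q hF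
  obtain ⟨hPα, hSα, -, -⟩ := moved_four hF hW hd hk hP α hα
  obtain ⟨-, -, -, hoβ⟩ := moved_four hF hW hd hk hP β hβ
  let s : Set M := (MulAction.orbit (Qg hF hP) β)ᶜ
  have key : (q + 1) * q ^ 3 ≤ Nat.card s := by
    refine images_mul_le hF hW hd hP α (Nat.pow_pos (by omega)) hα hSα s fun γ hγ _ => ?_
    have hγ' : PP hF hP.eW hP.ee γ ≠ ⊤ := by rw [hγ]; exact hα
    by_cases hc : γ ∈ MulAction.orbit (Qg hF hP) β
    · -- use the orbit of `α` instead
      obtain ⟨ξ, hξ⟩ := hc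
      have hS : SS hF hP γ = SS hF hP α := by rw [← hξ, ← h]; exact SS_orbit hF hP ξ.2 β
      rw [hS]
      refine (moved_four hF hW hd hk hP α hα).2.2.2.ge.trans
        (card_orbit_le_fibre hF hP α s fun x hx hx' => hne ?_)
      rw [← MulAction.orbit_eq_iff.2 hx, MulAction.orbit_eq_iff.2 hx']
      exact MulAction.mem_orbit_self β
    · refine (moved_four hF hW hd hk hP γ hγ').2.2.2.ge.trans
        (card_orbit_le_fibre hF hP γ s fun x hx hx' => hc ?_)
      rw [← MulAction.orbit_eq_iff.2 hx', MulAction.orbit_eq_iff.2 hx]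
      exact MulAction.mem_orbit_self γ
  have hsum : Nat.card (MulAction.orbit (Qg hF hP) β) + Nat.card s = Nat.card M := by
    rw [Nat.card_coe_set_eq, Nat.card_coe_set_eq, Set.ncard_add_ncard_compl]
  rw [hoβ] at hsum
  have h1 : (q + 1) * (q ^ 3 + 1) = (q + 1) * q ^ 3 + q + 1 := by ring
  have : q + 1 ≤ q ^ 3 := by
    have := Nat.pow_le_pow_left hq 2
    have h3 : q ^ 3 = q * q ^ 2 := by ring
    have := Nat.mul_le_mul_left q this
    omega
  omega

/-- No point is fixed by a root group. -/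
theorem all_moved [Finite M] [MulAction.IsPretransitive (GS q W) M] (hW : Nondeg q W)
    (hd : Module.finrank F W = 4) (hk : Nat.card M < (q + 1) * (q ^ 3 + 1))
    (hno : ¬RootsFix hF W M) (heW : e ∈ W) (he : ⟪e, e⟫ = 0) (he0 : e ≠ 0) (α : M) :
    PP hF heW he α ≠ ⊤ := by
  classical
  intro hfix
  obtain ⟨f, hP⟩ := HP.exists_of_iso hF hW heW he0 he
  obtain ⟨β, hβ⟩ : ∃ β : M, ¬ZFix hF heW he β := by
    by_contra! hall
    refine hno (rootsFix_of_point hF hW (α := α) fun v hvW hv hv0 => ?_)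
    by_contra hnv
    have hc := card_zfix_eq hF (M := M) hW heW he he0 hvW hv hv0
    rw [Nat.card_congr (Equiv.subtypeUnivEquiv hall)] at hc
    have hlt : Nat.card {β : M // ZFix hF hvW hv β} < Nat.card M :=
      Finite.card_subtype_lt (x := α) hnv
    omega
  have hβ' : PP hF hP.eW hP.ee β ≠ ⊤ := fun h => hβ ((zfix_iff hF).2 h)
  obtain ⟨-, hSβ, -, -⟩ := moved_four hF hW hd hk hP β hβ'
  have hq := two_le_q hF
  let s : Set M := {γ | ¬ZFix hF heW he γ}
  have key : (q + 1) * q ^ 3 ≤ Nat.card s := by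
    refine images_mul_le hF hW hd hP β (Nat.pow_pos (by omega)) hβ' hSβ s fun γ hγ _ => ?_
    have hγ' : PP hF hP.eW hP.ee γ ≠ ⊤ := by rw [hγ]; exact hβ'
    refine (moved_four hF hW hd hk hP γ hγ').2.2.2.ge.trans
      (card_orbit_le_fibre hF hP γ s fun x hx => ?_)
    show ¬ZFix hF heW he x
    rw [zfix_iff, PP_of_mem_orbit hF hP hx]
    exact hγ'
  set fc := Nat.card {γ : M // ZFix hF heW he γ} with hfc
  have hsum : fc + Nat.card s = Nat.card M := by
    rw [hfc, show Nat.card {γ : M // ZFix hF heW he γ} = Nat.card {γ | ZFix hF heW he γ} from rfl,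
      show s = {γ | ZFix hF heW he γ}ᶜ from rfl, Nat.card_coe_set_eq, Nat.card_coe_set_eq,
      Set.ncard_add_ncard_compl]
  have hpos : 0 < fc := Nat.card_pos_iff.2 ⟨⟨⟨α, (zfix_iff hF).2 hfix⟩⟩, inferInstance⟩
  obtain ⟨-, t, ht⟩ := averaging hF (M := M) hW hd heW he he0
  rw [← hfc, show isoN q 4 = (q ^ 2 + 1) * (q ^ 3 + 1) by simp only [isoN]; ring] at ht
  have ht0 : 0 < t := by
    refine Nat.pos_of_ne_zero fun h => ?_
    rw [h, mul_zero] at ht
    exact (Nat.mul_pos (Nat.mul_pos (Nat.succ_pos _) (Nat.succ_pos _)) hpos).ne ht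
  set k := Nat.card M with hkdef
  obtain ⟨d, hd0, hd'⟩ : ∃ d, 0 < d ∧ k + d = (q + 1) * (q ^ 3 + 1) :=
    ⟨(q + 1) * (q ^ 3 + 1) - k, by omega, by omega⟩
  have hB : (q + 1) * (q ^ 3 + 1) = (q + 1) * q ^ 3 + q + 1 := by ring
  have hdf : d + fc ≤ q + 1 := by omega
  have hdvd : q ^ 3 + 1 ∣ d * t := by
    have h1 : (q + 1) * (q ^ 3 + 1) * t = d * t + (q ^ 2 + 1) * (q ^ 3 + 1) * fc := by
      rw [← ht, ← hd']; ring
    have h2 : q ^ 3 + 1 ∣ d * t + (q ^ 2 + 1) * (q ^ 3 + 1) * fc :=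
      h1 ▸ dvd_mul_of_dvd_left (dvd_mul_left _ _) t
    exact (Nat.dvd_add_left (dvd_mul_of_dvd_left (dvd_mul_left _ _) fc)).1 h2
  have h1 : q ^ 3 + 1 ≤ d * t := Nat.le_of_dvd (Nat.mul_pos hd0 ht0) hdvd
  have h2 : (q + 1) * q ^ 3 * t ≤ (q ^ 2 + 1) * (q ^ 3 + 1) * fc := by
    rw [← ht]; exact Nat.mul_le_mul_right _ (by omega)
  have h3 : (q + 1) * q ^ 3 ≤ (q ^ 2 + 1) * (fc * d) := by
    refine Nat.le_of_mul_le_mul_left ?_ (show 0 < q ^ 3 + 1 from Nat.succ_pos _)
    calc (q ^ 3 + 1) * ((q + 1) * q ^ 3) ≤ d * t * ((q + 1) * q ^ 3) := Nat.mul_le_mul_right _ h1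
      _ = (q + 1) * q ^ 3 * t * d := by ring
      _ ≤ (q ^ 2 + 1) * (q ^ 3 + 1) * fc * d := Nat.mul_le_mul_right _ h2
      _ = _ := by ring
  have h4 : 4 * (fc * d) ≤ (q + 1) * (q + 1) := by
    refine le_trans ?_ (Nat.mul_le_mul hdf hdf)
    zify
    nlinarith [sq_nonneg ((d : ℤ) - fc)]
  nlinarith [Nat.mul_le_mul_left (q ^ 2 + 1) h4, Nat.pow_le_pow_left hq 2,
    Nat.mul_le_mul_right (q ^ 2) hq]

end Cfsg.Agent.MinIndexUnit19
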