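import Mathlib
import Cfsg.Agent.Lib.MinIndexUnit19FourCount

/-!
Small actions in dimension four with no fixed points: one orbit and a torus element.
-/

set_option autoImplicit false

namespace Cfsg.Agent.MinIndexUnit19

open Cfsg Cfsg.Agent.OrthUnitaryHerm Cfsg.Agent.OrthUnitaryTransvection
  Cfsg.Agent.SUMinDegree32Geom
open scoped Matrix

variable {F : Type*} [Field F] [Fintype F] {q n : ℕ}
variable {W : Submodule F (Fin n → F)} {e f e' : Fin n → F}

local notation "⟪" x ", " y "⟫" => hermForm n F q x y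

variable (hF : Fintype.card F = q ^ 2)
include hF

/-- The hypotheses of the base of the induction. -/
structure FourHyp (W : Submodule F (Fin n → F)) (M : Type*) [MulAction (GS q W) M] : Prop where
  nondeg : Nondeg q W
  dim : Module.finrank F W = 4
  small : Nat.card M < (q + 1) * (q ^ 3 + 1)
  trans : MulAction.IsPretransitive (GS q W) M
  nofix : ¬RootsFix hF W M

variable {M : Type*} [MulAction (GS q W) M] [Finite M]

theorem FourHyp.moved (H : FourHyp hF W M) (heW : e ∈ W) (he : ⟪e, e⟫ = 0) (he0 : e ≠ 0) (α : M) :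
    PP hF heW he α ≠ ⊤ := by
  have := H.trans
  exact all_moved hF H.nondeg H.dim H.small H.nofix heW he he0 α

theorem FourHyp.four (H : FourHyp hF W M) (hP : HP q W e f) (α : M) :
    PP hF hP.eW hP.ee α = ⊥ ∧ SS hF hP α ≠ ⊥ ∧ Nat.card (SS hF hP α) = q ^ 2 ∧
      Nat.card (MulAction.orbit (Qg hF hP) α) = q ^ 3 :=
  moved_four hF H.nondeg H.dim H.small hP α (H.moved hF hP.eW hP.ee hP.e_ne α)

/-- Root elements fix nothing. -/
theorem FourHyp.no_fix (H : FourHyp hF W M) (heW : e ∈ W) (he : ⟪e, e⟫ = 0) (he0 : e ≠ 0)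
    {r : fixedSet hF} {α : M} (h : Tg hF heW he r • α = α) : r = 0 := by
  obtain ⟨f, hP⟩ := HP.exists_of_iso hF H.nondeg heW he0 he
  have hr : r ∈ PP hF hP.eW hP.ee α := h
  rwa [(H.four hF hP α).1, AddSubgroup.mem_bot] at hr

theorem FourHyp.bf_zero (H : FourHyp hF W M) (hP : HP q W e f) (α : M) {w w' : Fin n → F}
    (hw : w ∈ SS hF hP α) (hw' : w' ∈ SS hF hP α) : bf hF w w' = 0 := by
  have := isot_SS hF hP α w hw w' hw'
  rwa [(H.four hF hP α).1, AddSubgroup.mem_bot] at this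

theorem bf_smul_left (r : fixedSet hF) (w w' : Fin n → F) :
    (bf hF ((r : F) • w) w' : F) = (r : F) * (bf hF w w' : F) := by
  show (⟪w', (r : F) • w⟫ - ⟪(r : F) • w, w'⟫) / c0 hF =
    (r : F) * ((⟪w', w⟫ - ⟪w, w'⟫) / c0 hF)
  rw [herm_smul_left, herm_smul_right, show (r : F) ^ q = r from r.2]
  ring

/-- The parameters form a space over the fixed field. -/
theorem FourHyp.smul_mem (H : FourHyp hF W M) (hP : HP q W e f) (α : M) (r : fixedSet hF)
    {s : Fin n → F} (hs : s ∈ SS hF hP α) : (r : F) • s ∈ SS hF hP α := by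
  set S := SS hF hP α with hS
  let m : (Fin n → F) →+ (Fin n → F) := DistribSMul.toAddMonoidHom (Fin n → F) (r : F)
  let T := S ⊔ S.map m
  have hmem : ∀ x ∈ T, ∃ a ∈ S, ∃ b ∈ S, a + (r : F) • b = x := by
    intro x hx
    obtain ⟨a, ha, c, hc, hac⟩ := AddSubgroup.mem_sup.1 hx
    obtain ⟨b, hb, rfl⟩ := AddSubgroup.mem_map.1 hc
    exact ⟨a, ha, b, hb, hac⟩
  have hT : Isot hF (⊥ : AddSubgroup (fixedSet hF)) T := by
    intro x hx y hy
    obtain ⟨a, ha, b, hb, rfl⟩ := hmem x hx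
    obtain ⟨c, hc, d, hd, rfl⟩ := hmem y hy
    rw [AddSubgroup.mem_bot]
    have z : ∀ u v : Fin n → F, u ∈ S → v ∈ S → (bf hF u v : F) = 0 := fun u v hu hv => by
      rw [H.bf_zero hF hP α hu hv, AddSubgroup.coe_zero]
    refine Subtype.ext ?_
    simp only [bf_add_left, bf_add_right, AddSubgroup.coe_add, bf_smul_left, AddSubgroup.coe_zero]
    rw [bf_neg_comm hF ((r : F) • d) a, bf_neg_comm hF ((r : F) • d) b, AddSubgroup.coe_neg,
      AddSubgroup.coe_neg, bf_smul_left, bf_smul_left, z a c ha hc, z d a hd ha, z b c hb hc,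
      z d b hd hb]
    ring
  have hTW : ∀ x ∈ T, x ∈ pairPerp q W e f := by
    intro x hx
    obtain ⟨a, ha, b, hb, rfl⟩ := hmem x hx
    exact Submodule.add_mem _ (SS_le hF hP α a ha)
      (Submodule.smul_mem _ _ (SS_le hF hP α b hb))
  have hbt : (⊥ : AddSubgroup (fixedSet hF)) ≠ ⊤ := by
    have h := H.moved hF hP.eW hP.ee hP.e_ne α
    rwa [(H.four hF hP α).1] at h
  have hcT : Nat.card T ≤ q ^ 2 := by
    have h := hT.card_sq_le hF (hP.nondeg hF H.nondeg) hbt hTW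
    rw [card_perp_four hF H.dim hP, show q ^ 4 = (q ^ 2) ^ 2 by ring] at h
    exact (Nat.pow_le_pow_iff_left two_ne_zero).1 h
  let ι : S → T := fun x => ⟨(x : Fin n → F), AddSubgroup.mem_sup_left x.2⟩
  have hι : Function.Injective ι := fun a b h =>
    Subtype.ext (congrArg (fun z : T => (z : Fin n → F)) h :)
  have hb : Function.Bijective ι :=
    hι.bijective_of_nat_card_le (by rw [hS, (H.four hF hP α).2.2.1]; exact hcT)
  obtain ⟨x, hx⟩ := hb.2 ⟨(r : F) • s,
    AddSubgroup.mem_sup_right (AddSubgroup.mem_map.2 ⟨s, hs, rfl⟩)⟩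
  have : (x : Fin n → F) = (r : F) • s := congrArg Subtype.val hx
  exact this ▸ x.2

/-- A singular combination gives a fixed point of a root element. -/
theorem FourHyp.singular_false (H : FourHyp hF W M) (hP : HP q W e f)
    (he'W : e' ∈ pairPerp q W e f) (he'0 : e' ≠ 0) (he' : ⟪e', e'⟫ = 0) {β : M}
    {o m : fixedSet hF} (ho : (o : F) = 1)
    (h1 : Tg hF (pairPerp_le he'W) he' o • β = Tg hF hP.eW hP.ee m • β)
    {u : F} (hN : u ^ q * u = -(m : F))
    {h0 : (0 : F) + 0 ^ q + ⟪(c0 hF * u ^ q) • e', (c0 hF * u ^ q) • e'⟫ = 0}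
    (h2 : Qel hF hP (Submodule.smul_mem _ (c0 hF * u ^ q) he'W) h0 • β = β) : False := by
  set x := u • e + e' with hx
  have hee' : ⟪e, e'⟫ = 0 := e_perp hF he'W
  have hxW : x ∈ W := W.add_mem (W.smul_mem _ hP.eW) (pairPerp_le he'W)
  have hxx : ⟪x, x⟫ = 0 := by
    rw [hx]
    simp only [herm_add_left, herm_add_right hF, herm_smul_left, herm_smul_right, hP.ee, he',
      hee', perp_e he'W]
    ring
  have hx0 : x ≠ 0 := by
    intro h
    have h' := congrArg (fun y => ⟪y, f⟫) h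
    simp only [hx, herm_add_left, herm_smul_left, hP.ef, perp_f he'W, herm_zero_left, mul_one,
      add_zero] at h'
    rw [hx, h', zero_smul, zero_add] at h
    exact he'0 h
  have hc : c0 hF ^ q = -c0 hF := c0_pow hF
  have key : Tg hF hxW hxx o = Tg hF hP.eW hP.ee (-m) *
      (Tg hF (pairPerp_le he'W) he' o *
        Qel hF hP (Submodule.smul_mem _ (c0 hF * u ^ q) he'W) h0) := Subtype.ext (by
    apply su_ext
    intro y
    simp only [Qel, Eg_coe, Subgroup.coe_mul, Tg_coe, act_mul, eich_act, T_act, herm_add_left,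
      herm_add_right hF, herm_smul_left, herm_smul_right, hP.ee, he', hee', perp_e he'W, hx,
      AddSubgroup.coe_neg, ho, mul_pow, hc, pow_q_q hF]
    match_scalars
    · ring
    · linear_combination (c0 hF * ⟪y, e⟫) * hN
    · ring)
  have hfix : Tg hF hxW hxx o • β = β := by
    rw [key, mul_smul, mul_smul, h2, h1, ← mul_smul,
      show Tg hF hP.eW hP.ee (-m) * Tg hF hP.eW hP.ee m = 1 from Subtype.ext (by
        show T hF e hP.ee (-m) * T hF e hP.ee m = 1
        rw [← T_add, neg_add_cancel, T_zero]), one_smul]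
  have := H.no_fix hF hxW hxx hx0 hfix
  rw [this, AddSubgroup.coe_zero] at ho
  exact zero_ne_one ho

/-- The points centred by a torus element within one orbit. -/
theorem FourHyp.centred (H : FourHyp hF W M) (hP : HP q W e f) (β₀ : M) (τ : GS q W) {t : F}
    (ht : t ≠ 0) (hτe : act (τ : SU n F q) e = t • e)
    (hτW : ∀ w ∈ pairPerp q W e f, act (τ : SU n F q) w ∈ pairPerp q W e f)
    (hfree : ∀ w ∈ pairPerp q W e f, t ^ q • act (τ : SU n F q) w = w → w = 0)
    (hinv : ∀ s ∈ SS hF hP β₀, t ^ q • act (τ : SU n F q) s ∈ SS hF hP β₀) :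
    ∃ β : M, SS hF hP β = SS hF hP β₀ ∧ (∃ r, τ • β = Tg hF hP.eW hP.ee r • β) ∧
      ∀ γ : M, SS hF hP γ = SS hF hP β₀ → (∃ r, τ • γ = Tg hF hP.eW hP.ee r • γ) →
        ∃ r, γ = Tg hF hP.eW hP.ee r • β := by
  set S := SS hF hP β₀ with hS
  let L : S → S := fun s => ⟨_, hinv _ s.2⟩
  have hL : Function.Injective L := fun a b h => Subtype.ext (by
    have h' : t ^ q • act (τ : SU n F q) a = t ^ q • act (τ : SU n F q) b :=
      congrArg Subtype.val h
    have h'' := smul_right_injective _ (pow_ne_zero _ ht) h'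
    simpa [act_inv_act] using congrArg (act (τ : SU n F q)⁻¹) h'')
  have hSτ : SS hF hP (τ • β₀) = S := by
    ext s
    rw [SS_smul hF hP ht hτe hτW]
    refine ⟨fun ⟨s', hs', he⟩ => he ▸ hinv s' hs', fun hs => ?_⟩
    obtain ⟨x, hx⟩ := (Finite.injective_iff_surjective.1 hL) ⟨s, hs⟩
    exact ⟨x, x.2, congrArg Subtype.val hx⟩
  obtain ⟨ξ, hξ⟩ := orbit_unique hF H.nondeg H.dim H.small hP
    (H.moved hF hP.eW hP.ee hP.e_ne β₀) (H.moved hF hP.eW hP.ee hP.e_ne (τ • β₀)) hSτ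
  obtain ⟨w₀, μ₀, hw₀, hμ₀, hξ'⟩ := exists_Qel hF hP ξ.2
  have h₀ : Qel hF hP hw₀ hμ₀ • β₀ = τ • β₀ := by rw [← hξ']; exact hξ
  let D : pairPerp q W e f → pairPerp q W e f := fun w =>
    ⟨(w : Fin n → F) - t ^ q • act (τ : SU n F q) (w : Fin n → F),
      Submodule.sub_mem _ w.2 (Submodule.smul_mem _ _ (hτW _ w.2))⟩
  have hD : Function.Injective D := fun a b h => by
    have h' : (a : Fin n → F) - t ^ q • act (τ : SU n F q) a =
        (b : Fin n → F) - t ^ q • act (τ : SU n F q) b := congrArg Subtype.val h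
    refine Subtype.ext (sub_eq_zero.1 (hfree _ (Submodule.sub_mem _ a.2 b.2) ?_))
    rw [act_sub, smul_sub]
    exact sub_eq_sub_iff_sub_eq_sub.1 h' |>.symm
  obtain ⟨⟨v, hv⟩, hDv⟩ := (Finite.injective_iff_surjective.1 hD) ⟨w₀, hw₀⟩
  have hv' : v - t ^ q • act (τ : SU n F q) v = w₀ := congrArg Subtype.val hDv
  obtain ⟨ν, hν⟩ := exists_mu hF v
  have hcomb : τ • (Qel hF hP hv hν • β₀) =
      Qel hF hP (Submodule.smul_mem _ (t ^ q) (hτW v hv)) (cond_conj (g := τ) hF hν) •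
        (Qel hF hP hw₀ hμ₀ • β₀) := by
    rw [h₀, ← conj_Qel hF hP hτe hτW hv hν, mul_smul, mul_smul, inv_smul_smul]
  obtain ⟨hm, hmul⟩ := Qel_mul hF hP (Submodule.smul_mem _ (t ^ q) (hτW v hv))
    (cond_conj (g := τ) hF hν) hw₀ hμ₀
  rw [← mul_smul (Qel hF hP _ _) (Qel hF hP hw₀ hμ₀), hmul] at hcomb
  set μ' := t ^ q * t * ν + μ₀ - ⟪w₀, t ^ q • act (τ : SU n F q) v⟫ with hμ'
  have hvw : t ^ q • act (τ : SU n F q) v + w₀ = v := by rw [← hv']; abel
  obtain ⟨r, hr⟩ := exists_eq_c0_mul hF (c := μ' - ν) (by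
    rw [hvw] at hm
    rw [sub_pow_q hF]
    linear_combination hm - hν)
  obtain ⟨h1, t1⟩ := Tg_eq_Qel hF hP r
  obtain ⟨h2, hTQ⟩ := Qel_mul hF hP (Submodule.zero_mem _) h1 hv hν
  set β := Qel hF hP hv hν • β₀ with hβdef
  have hβr : τ • β = Tg hF hP.eW hP.ee r • β := by
    rw [hcomb, t1, hβdef, ← mul_smul, hTQ]
    congr 1
    refine Qel_congr hF hP _ _ _ _ (by rw [hvw, zero_add]) ?_
    rw [herm_zero_right hF, sub_zero, ← hr]
    ring
  have hSβ : SS hF hP β = S := SS_orbit hF hP (Qel_mem hF hP hv hν) β₀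
  refine ⟨β, hSβ, ⟨r, hβr⟩, ?_⟩
  clear_value β
  clear hβdef
  rintro γ hSγ ⟨r', hr'⟩
  obtain ⟨η, hη⟩ := orbit_unique hF H.nondeg H.dim H.small hP
    (H.moved hF hP.eW hP.ee hP.e_ne β) (H.moved hF hP.eW hP.ee hP.e_ne γ) (hSγ.trans hSβ.symm)
  obtain ⟨u, κ, hu, hκ, hη'⟩ := exists_Qel hF hP η.2
  have hγ : Qel hF hP hu hκ • β = γ := by rw [← hη']; exact hη
  have hτu : τ • γ = Qel hF hP (Submodule.smul_mem _ (t ^ q) (hτW u hu))
      (cond_conj (g := τ) hF hκ) • (Tg hF hP.eW hP.ee r • β) := by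
    rw [← hγ, ← hβr, ← conj_Qel hF hP hτe hτW hu hκ, mul_smul, mul_smul, inv_smul_smul]
  obtain ⟨h1', t1'⟩ := Tg_eq_Qel hF hP r'
  rw [hr', ← hγ, t1', t1, ← mul_smul, ← mul_smul] at hτu
  obtain ⟨hA, eA⟩ := Qel_mul hF hP (Submodule.zero_mem _) h1' hu hκ
  obtain ⟨hB, eB⟩ := Qel_mul hF hP (Submodule.smul_mem _ (t ^ q) (hτW u hu))
    (cond_conj (g := τ) hF hκ) (Submodule.zero_mem _) h1
  rw [eA, eB] at hτu
  obtain ⟨w, μ, hw, hμ, hwe⟩ := exists_Qel hF hP
    ((Qg hF hP).mul_mem ((Qg hF hP).inv_mem (Qel_mem hF hP _ hB)) (Qel_mem hF hP _ hA))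
  have hwS : w ∈ S := by
    rw [← hSβ]
    exact ⟨hw, μ, hμ, by rw [← hwe, mul_smul, hτu, inv_smul_smul]⟩
  rw [inv_mul_eq_iff_eq_mul] at hwe
  obtain ⟨hC, eC⟩ := Qel_mul hF hP (Submodule.add_mem _ (Submodule.smul_mem _ (t ^ q) (hτW u hu))
    (Submodule.zero_mem _)) hB hw hμ
  rw [eC] at hwe
  obtain ⟨e1, -⟩ := Qel_inj hF hP hwe
  rw [zero_add, add_zero] at e1
  -- `u` is a parameter of `β`
  have huS : u ∈ S := by
    let DS : S → S := fun s => ⟨(s : Fin n → F) - t ^ q • act (τ : SU n F q) (s : Fin n → F),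
      S.sub_mem s.2 (hinv _ s.2)⟩
    have hDS : Function.Injective DS := fun a b h => by
      have h' : D ⟨a, SS_le hF hP β₀ _ a.2⟩ = D ⟨b, SS_le hF hP β₀ _ b.2⟩ :=
        Subtype.ext (congrArg Subtype.val h :)
      exact Subtype.ext (congrArg Subtype.val (hD h') :)
    obtain ⟨s, hs⟩ := (Finite.injective_iff_surjective.1 hDS) ⟨w, hwS⟩
    have hs' : (s : Fin n → F) - t ^ q • act (τ : SU n F q) (s : Fin n → F) = w :=
      congrArg Subtype.val hs
    have hh : D ⟨u, hu⟩ = D ⟨s, SS_le hF hP β₀ _ s.2⟩ := Subtype.ext (by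
      show u - t ^ q • act (τ : SU n F q) u = (s : Fin n → F) - _
      rw [hs', sub_eq_iff_eq_add, add_comm]
      exact e1)
    have : u = (s : Fin n → F) := congrArg Subtype.val (hD hh)
    exact this ▸ s.2
  rw [← hSβ] at huS
  obtain ⟨_, ν', hν', hfix⟩ := huS
  obtain ⟨s, hs⟩ := exists_eq_c0_mul hF (c := κ - ν') (by
    rw [sub_pow_q hF]; linear_combination hκ - hν')
  obtain ⟨h4, t4⟩ := Tg_eq_Qel hF hP s
  obtain ⟨h5, m5⟩ := Qel_mul hF hP (Submodule.zero_mem _) h4 hu hν'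
  refine ⟨s, ?_⟩
  rw [← hγ]
  conv_rhs => rw [← hfix, ← mul_smul, t4, m5]
  congr 1
  refine Qel_congr hF hP _ _ _ _ (zero_add u).symm ?_
  rw [herm_zero_right hF, sub_zero, ← hs]
  ring

/-- A Levi element commuting with the torus element translates the centred points. -/
theorem FourHyp.translate (H : FourHyp hF W M) (hP : HP q W e f) {τ : GS q W}
    {g : GS q (pairPerp q W e f)} {S : AddSubgroup (Fin n → F)} {β : M}
    (hSβ : SS hF hP β = S) (hgS : ∀ s ∈ S, act (g : SU n F q) s ∈ S)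
    (hcomm : τ * levi g = levi g * τ)
    (hβ : ∃ r, τ • β = Tg hF hP.eW hP.ee r • β)
    (huniq : ∀ γ : M, SS hF hP γ = S → (∃ r, τ • γ = Tg hF hP.eW hP.ee r • γ) →
      ∃ r, γ = Tg hF hP.eW hP.ee r • β) :
    ∃ r, levi g • β = Tg hF hP.eW hP.ee r • β := by
  obtain ⟨r, hr⟩ := hβ
  refine huniq _ ?_ ⟨r, ?_⟩
  · rw [SS_levi hF H.nondeg hP g β, hSβ, imgS_eq_self hF hgS]
  · have c2 : Tg hF hP.eW hP.ee r * levi g = levi g * Tg hF hP.eW hP.ee r :=
      Subtype.ext (commute_T hF hP.ee (fix_pair hF hP g.2).1 r).symm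
    rw [← mul_smul, hcomm, mul_smul, hr, ← mul_smul, ← c2, mul_smul]

omit [Finite M] in
theorem levi_tau_comm (hP : HP q W e f) (a : fixedSet hF) (ha : a ≠ 0)
    (g : GS q (pairPerp q W e f)) : tau hF hP a ha * levi g = levi g * tau hF hP a ha :=
  Subtype.ext (su_ext fun x => by
    simp only [Subgroup.coe_mul, act_mul]
    obtain ⟨he, hf⟩ := fix_pair hF hP g.2
    show pairMat q e f (a : F) *ᵥ act (g : SU n F q) x =
      act (g : SU n F q) (pairMat q e f (a : F) *ᵥ x)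
    rw [pairMat_mulVec, pairMat_mulVec, act_add, act_add, act_smul, act_smul, he, hf]
    have e1 := herm_act (g : SU n F q) x e
    have e2 := herm_act (g : SU n F q) x f
    rw [he] at e1
    rw [hf] at e2
    rw [e1, e2])

omit [Finite M] in
theorem levi_Tg_comm (hP : HP q W e f) (r : fixedSet hF) (g : GS q (pairPerp q W e f)) :
    Tg hF hP.eW hP.ee r * levi g = levi g * Tg hF hP.eW hP.ee r :=
  Subtype.ext (commute_T hF hP.ee (fix_pair hF hP g.2).1 r).symm

end Cfsg.Agent.MinIndexUnit19
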