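import Mathlib
import Cfsg.Agent.Lib.MinIndexUnit19FourOrbit
import Cfsg.Agent.Lib.MinIndexUnit19Chain

/-!
Small actions in dimension four: the end of the argument.
-/

set_option autoImplicit false

namespace Cfsg.Agent.MinIndexUnit19

open Cfsg Cfsg.Agent.OrthUnitaryHerm Cfsg.Agent.OrthUnitaryTransvection
  Cfsg.Agent.SUMinDegree32Geom
open scoped Matrix

variable {F : Type*} [Field F] [Fintype F] {q n : ℕ}
variable {W : Submodule F (Fin n → F)} {e f e' f' : Fin n → F}

local notation "⟪" x ", " y "⟫" => hermForm n F q x y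

variable (hF : Fintype.card F = q ^ 2)
include hF

variable {M : Type*} [MulAction (GS q W) M] [Finite M]

omit [Finite M] in
/-- The images over the points of the action. -/
theorem levi_maps (hW : Nondeg q W) (hP : HP q W e f) (g : GS q (pairPerp q W e f))
    {S : AddSubgroup (Fin n → F)} (hS : S ∈ Set.range fun γ : M => SS hF hP γ) :
    imgS (g : SU n F q) S ∈ Set.range fun γ : M => SS hF hP γ := by
  obtain ⟨γ, rfl⟩ := hS
  exact ⟨levi g • γ, SS_levi hF hW hP g γ⟩

/-- Some set of parameters is invariant under a given root group. -/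
theorem FourHyp.exists_invariant (H : FourHyp hF W M) (hP : HP q W e f)
    (he'W : e' ∈ pairPerp q W e f) (he' : ⟪e', e'⟫ = 0) :
    ∃ α : M, ∀ r : fixedSet hF, ∀ s ∈ SS hF hP α, act (T hF e' he' r) s ∈ SS hF hP α := by
  classical
  have hq := two_le_q hF
  obtain ⟨α₀⟩ : Nonempty M := by
    by_contra h
    exact H.nofix fun v hvW hv r α => absurd ⟨α⟩ h
  set Y := Set.range fun γ : M => SS hF hP γ with hY
  have hle : Nat.card Y * q ^ 3 ≤ Nat.card M := by
    refine (card_mul_le_of_fibres (Set.univ : Set M) (SS hF hP) Y (Nat.pow_pos (by omega)) ?_).trans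
      (le_of_eq Nat.card_univ)
    rintro _ ⟨γ, rfl⟩
    exact (H.four hF hP γ).2.2.2.ge.trans (card_orbit_le_fibre hF hP γ _ fun _ _ => Set.mem_univ _)
  have hge : q + 1 ≤ Nat.card Y := by
    refine (card_imgsN_ge hF (hP.nondeg hF H.nondeg) (dim_two hF H.dim hP)
      (H.moved hF hP.eW hP.ee hP.e_ne α₀) (SS_le hF hP α₀) (isot_SS hF hP α₀)
      (H.four hF hP α₀).2.1).trans (Nat.card_mono (Set.toFinite _) fun S hS => ?_)
    obtain ⟨β, -, hβ⟩ := reach hF H.nondeg H.dim hP α₀ hS
    exact ⟨β, hβ⟩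
  have hYc : Nat.card Y = q + 1 := by
    refine le_antisymm ?_ hge
    by_contra! h
    have h1 : (q + 2) * q ^ 3 ≤ Nat.card M := (Nat.mul_le_mul_right _ h).trans hle
    have h2 : (q + 1) * (q ^ 3 + 1) = (q + 1) * q ^ 3 + q + 1 := by ring
    have h3 : (q + 2) * q ^ 3 = (q + 1) * q ^ 3 + q ^ 3 := by ring
    have h4 : q + 1 ≤ q ^ 3 := by
      have := Nat.pow_le_pow_right (show 1 ≤ q by omega) (show 2 ≤ 3 by norm_num)
      have := Nat.mul_le_mul_right q hq
      have := sq q
      omega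
    have := H.small
    omega
  obtain ⟨p, hp⟩ := CharP.exists F
  have hpP : p.Prime := CharP.char_is_prime F p
  have := Fact.mk hpP
  obtain ⟨j, -, hj⟩ := FiniteField.card F p
  rw [hF] at hj
  obtain ⟨k, -, hk⟩ := (Nat.dvd_prime_pow hpP).1
    (show q ∣ p ^ (j : ℕ) from hj ▸ dvd_pow_self q two_ne_zero)
  let I : MulAction (Multiplicative (fixedSet hF)) Y :=
    { smul := fun r S => ⟨imgS (T hF e' he' r.toAdd) S.1,
        levi_maps hF H.nondeg hP (Tg hF he'W he' r.toAdd) S.2⟩
      one_smul := fun S => Subtype.ext (by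
        show imgS (T hF e' he' 0) S.1 = S.1
        rw [T_zero, imgS_one])
      mul_smul := fun r s S => Subtype.ext (by
        show imgS (T hF e' he' (r.toAdd + s.toAdd)) S.1 =
          imgS (T hF e' he' r.toAdd) (imgS (T hF e' he' s.toAdd) S.1)
        rw [T_add, imgS_mul]) }
  have hG : IsPGroup p (Multiplicative (fixedSet hF)) :=
    IsPGroup.of_card (n := k) ((show Nat.card (Multiplicative (fixedSet hF)) =
      Nat.card (fixedSet hF) from rfl).trans ((card_fixedSet hF).trans hk))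
  obtain ⟨⟨S, α, hS⟩, hfix⟩ := hG.nonempty_fixed_point_of_prime_not_dvd_card Y (by
    rw [hYc, hk]
    intro hd
    rcases Nat.eq_zero_or_pos k with rfl | hk0
    · rw [pow_zero] at hk; omega
    · exact hpP.not_dvd_one ((Nat.dvd_add_right (dvd_pow_self p hk0.ne')).1 hd))
  refine ⟨α, fun r s hs => ?_⟩
  have h1 : imgS (T hF e' he' r) S = S := congrArg Subtype.val (hfix (Multiplicative.ofAdd r))
  have hS' : SS hF hP α = S := hS
  rw [hS'] at hs ⊢
  have h2 : act (T hF e' he' r) s ∈ imgS (T hF e' he' r) S := mem_imgS.2 ⟨s, hs, rfl⟩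
  rwa [h1] at h2

/-- A vanishing pairing with the invariant line. -/
theorem FourHyp.two_norm (H : FourHyp hF W M) (hP : HP q W e f) (he'W : e' ∈ pairPerp q W e f)
    (he' : ⟪e', e'⟫ = 0) {α : M}
    (hinv : ∀ r : fixedSet hF, ∀ s ∈ SS hF hP α, act (T hF e' he' r) s ∈ SS hF hP α)
    {s : Fin n → F} (hs : s ∈ SS hF hP α) :
    (c0 hF * ⟪s, e'⟫) • e' ∈ SS hF hP α ∧ 2 * (⟪s, e'⟫ * ⟪s, e'⟫ ^ q) = 0 := by
  let o : fixedSet hF := ⟨1, (mem_fixedSet hF).2 (one_pow q)⟩
  have h : (c0 hF * ⟪s, e'⟫) • e' ∈ SS hF hP α := by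
    have h1 := (SS hF hP α).sub_mem (hinv o s hs) hs
    rw [T_act, add_sub_cancel_left] at h1
    convert h1 using 2
    simp only [o, mul_one]
  refine ⟨h, ?_⟩
  have hb := congrArg Subtype.val (H.bf_zero hF hP α hs h)
  have hc := c0_mul_bf hF s ((c0 hF * ⟪s, e'⟫) • e')
  rw [hb, AddSubgroup.coe_zero, mul_zero, herm_smul_left, herm_smul_right, herm_conj hF s e',
    mul_pow, c0_pow hF] at hc
  refine mul_left_cancel₀ (c0_ne hF) ?_
  rw [mul_zero]
  linear_combination -hc

/-- In characteristic two every parameter is isotropic. -/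
theorem FourHyp.iso_char_two (H : FourHyp hF W M) (hP : HP q W e f) (h2 : (2 : F) = 0) {α : M}
    {s : Fin n → F} (hs : s ∈ SS hF hP α) : ⟪s, s⟫ = 0 := by
  obtain ⟨hw, μ, hμ, hfix⟩ := hs
  obtain ⟨h, hm⟩ := Qel_mul hF hP hw hμ hw hμ
  have hs2 : s + s = 0 := by
    rw [← two_smul F, h2, zero_smul]
  obtain ⟨r, hr⟩ := exists_eq_c0_mul hF (c := μ + μ - ⟪s, s⟫) (by
    have h' := h
    rw [hs2, herm_zero_left, add_zero] at h'
    exact h')
  obtain ⟨h4, t4⟩ := Tg_eq_Qel hF hP r
  have hfix2 : Tg hF hP.eW hP.ee r • α = α := by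
    rw [t4, ← Qel_congr hF hP (Submodule.add_mem _ hw hw) h (Submodule.zero_mem _) h4 hs2 hr,
      ← hm, mul_smul, hfix, hfix]
  rw [H.no_fix hF hP.eW hP.ee hP.e_ne hfix2, AddSubgroup.coe_zero, mul_zero] at hr
  linear_combination -hr + μ * h2

/-- The two coordinates of a parameter are parameters. -/
theorem FourHyp.coords (H : FourHyp hF W M) (hP : HP q W e f)
    (hP' : HP q (pairPerp q W e f) e' f') {α : M}
    (hinv : ∀ r : fixedSet hF, ∀ s ∈ SS hF hP α, act (T hF e' hP'.ee r) s ∈ SS hF hP α)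
    {s : Fin n → F} (hs : s ∈ SS hF hP α) :
    ⟪s, f'⟫ • e' ∈ SS hF hP α ∧ ⟪s, e'⟫ • f' ∈ SS hF hP α := by
  have hbot : pairPerp q (pairPerp q W e f) e' f' = ⊥ := Submodule.finrank_eq_zero.1 (by
    have := hP'.finrank hF
    have := dim_two hF H.dim hP
    omega)
  have hx : s = ⟪s, f'⟫ • e' + ⟪s, e'⟫ • f' := by
    have := hP'.decomp (SS_le hF hP α s hs)
    rwa [hbot, Submodule.mem_bot, sub_sub, sub_eq_zero] at this
  obtain ⟨hb, h2η⟩ := H.two_norm hF hP hP'.eW hP'.ee hinv hs
  have h1 : ⟪s, f'⟫ • e' ∈ SS hF hP α := by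
    by_cases hη : ⟪s, e'⟫ = 0
    · rw [hη, zero_smul, add_zero] at hx
      exact hx ▸ hs
    · have h2 : (2 : F) = 0 :=
        (mul_eq_zero.1 h2η).resolve_right (mul_ne_zero hη (pow_ne_zero _ hη))
      have hss := H.iso_char_two hF hP h2 hs
      have hz : ⟪s, f'⟫ * ⟪s, e'⟫ ^ q + ⟪s, e'⟫ * ⟪s, f'⟫ ^ q = 0 := by
        have h := congrArg (fun x => ⟪x, s⟫) hx
        simp only [herm_add_left, herm_smul_left, hss] at h
        rw [herm_conj hF s f', herm_conj hF s e'] at h
        exact h.symm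
      obtain ⟨ρ, hρ⟩ := exists_eq_c0_mul hF (c := ⟪s, f'⟫ / ⟪s, e'⟫) (by
        rw [div_pow, div_add_div _ _ hη (pow_ne_zero _ hη), hz, zero_div])
      have := H.smul_mem hF hP α ρ hb
      rw [smul_smul] at this
      convert this using 2
      rw [div_eq_iff hη] at hρ
      rw [hρ]; ring
  refine ⟨h1, ?_⟩
  have := (SS hF hP α).sub_mem hs h1
  rwa [show s - ⟪s, f'⟫ • e' = ⟪s, e'⟫ • f' from sub_eq_iff_eq_add'.2 hx] at this

/-- Parameters perpendicular to the line fill it. -/
theorem FourHyp.line_of_perp (H : FourHyp hF W M) (hP : HP q W e f)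
    (hP' : HP q (pairPerp q W e f) e' f') {α : M}
    (hperp : ∀ s ∈ SS hF hP α, ⟪s, e'⟫ = 0) : ∀ a : F, a • e' ∈ SS hF hP α := by
  have hbot : pairPerp q (pairPerp q W e f) e' f' = ⊥ := Submodule.finrank_eq_zero.1 (by
    have := hP'.finrank hF
    have := dim_two hF H.dim hP
    omega)
  have hform : ∀ s : SS hF hP α, (s : Fin n → F) = ⟪(s : Fin n → F), f'⟫ • e' := fun s => by
    have := hP'.decomp (SS_le hF hP α s s.2)
    rwa [hbot, Submodule.mem_bot, hperp s s.2, zero_smul, sub_zero, sub_eq_zero] at this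
  have hi : Function.Injective (fun s : SS hF hP α => ⟪(s : Fin n → F), f'⟫) := fun a b h =>
    Subtype.ext (by rw [hform a, hform b, show ⟪(a : Fin n → F), f'⟫ = _ from h])
  have hb := hi.bijective_of_nat_card_le
    (by rw [Nat.card_eq_fintype_card (α := F), hF, (H.four hF hP α).2.2.1])
  intro a
  obtain ⟨s, hs⟩ := hb.2 a
  have hs' : ⟪(s : Fin n → F), f'⟫ = a := hs
  rw [← hs', ← hform s]
  exact s.2

/-- At least four fixed elements. -/
theorem FourHyp.big_false (H : FourHyp hF W M) (hP : HP q W e f)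
    (hP' : HP q (pairPerp q W e f) e' f') {α : M}
    (hinv : ∀ r : fixedSet hF, ∀ s ∈ SS hF hP α, act (T hF e' hP'.ee r) s ∈ SS hF hP α)
    (hq : 4 ≤ q) : False := by
  classical
  have := Fintype.ofFinite (fixedSet hF)
  obtain ⟨d, hd0, hd2⟩ : ∃ d : fixedSet hF, d ≠ 0 ∧ (d : F) * d ≠ 1 := by
    by_contra! hall
    have hsub : (Finset.univ : Finset (fixedSet hF)).image (fun x : fixedSet hF => (x : F)) ⊆
        {0, 1, -1} := by
      intro x hx
      obtain ⟨d, -, rfl⟩ := Finset.mem_image.1 hx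
      simp only [Finset.mem_insert, Finset.mem_singleton]
      by_cases hd : d = 0
      · exact Or.inl (by rw [hd]; rfl)
      · exact Or.inr (mul_self_eq_one_iff.1 (hall d hd))
    have h1 := (Finset.card_le_card hsub).trans Finset.card_le_three
    rw [Finset.card_image_of_injective _ Subtype.val_injective, Finset.card_univ,
      ← Nat.card_eq_fintype_card, card_fixedSet hF] at h1
    omega
  have hdq : (d : F) ^ q = d := d.2
  have hd' : (d : F) ≠ 0 := fun h => hd0 (Subtype.ext h)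
  have hd1 : (d : F) ≠ 1 := fun h => hd2 (by rw [h, one_mul])
  set τ := tau hF hP d hd0 with hτ
  obtain ⟨β, hSβ, hβ, huniq⟩ := H.centred hF hP α τ hd' (tau_e hF hP d hd0)
    (fun w hw => by rw [tau_perp hF hP d hd0 hw]; exact hw)
    (fun w hw h => by
      rw [tau_perp hF hP d hd0 hw, hdq] at h
      by_contra hw0
      refine hd1 (sub_eq_zero.1 ((smul_eq_zero.1 ?_).resolve_right hw0))
      rw [sub_smul, one_smul, h, sub_self])
    (fun s hs => by
      rw [tau_perp hF hP d hd0 (SS_le hF hP α s hs), hdq]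
      exact H.smul_mem hF hP α d hs)
  set h : GS q (pairPerp q W e f) := tau hF hP' d hd0 with hh
  let o : fixedSet hF := ⟨1, (mem_fixedSet hF).2 (one_pow q)⟩
  set u := Tg hF hP'.eW hP'.ee o with hu
  obtain ⟨a, ha⟩ := H.translate hF hP hSβ (g := h) (fun s hs => by
    obtain ⟨h1, h2⟩ := H.coords hF hP hP' hinv hs
    show pairMat q e' f' (d : F) *ᵥ s ∈ SS hF hP α
    rw [pairMat_mulVec, mul_smul, mul_smul]
    refine (SS hF hP α).add_mem ((SS hF hP α).add_mem hs ?_) ?_
    · rw [sub_smul, one_smul]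
      exact (SS hF hP α).sub_mem (H.smul_mem hF hP α d h1) h1
    · rw [sub_smul, one_smul, hdq]
      refine (SS hF hP α).sub_mem ?_ h2
      exact H.smul_mem hF hP α ⟨(d : F)⁻¹, (mem_fixedSet hF).2 (by rw [inv_pow, hdq])⟩ h2)
    (levi_tau_comm hF hP d hd0 h) hβ huniq
  obtain ⟨b, hb⟩ := H.translate hF hP hSβ (g := u) (hinv o) (levi_tau_comm hF hP d hd0 u) hβ huniq
  set Z := Tg hF hP.eW hP.ee with hZ
  have hZadd : ∀ r s, Z (r + s) = Z r * Z s := fun r s => Subtype.ext (T_add hF e hP.ee r s)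
  have hZcomm : ∀ (r : fixedSet hF) (g : GS q (pairPerp q W e f)) (γ : M),
      levi g • Z r • γ = Z r • levi g • γ := fun r g γ => by
    rw [← mul_smul, ← levi_Tg_comm hF hP r g, mul_smul]
  have hinv' : (levi h)⁻¹ • β = Z (-a) • β := by
    rw [inv_smul_eq_iff, hZcomm, ha, ← mul_smul, ← hZadd, neg_add_cancel,
      show Z 0 = 1 from Subtype.ext (T_zero hF e hP.ee), one_smul]
  have hconj : (levi h * levi u * (levi h)⁻¹) • β = levi u • β := by
    rw [mul_smul, mul_smul, hinv', hZcomm, hb, hZcomm, hZcomm, ha, ← mul_smul, ← mul_smul,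
      ← hZadd, ← hZadd]
    congr 2
    abel
  set s : fixedSet hF := ⟨(d : F) * d, (mem_fixedSet hF).2 (by rw [mul_pow, hdq])⟩ with hs
  have hTs : levi h * levi u * (levi h)⁻¹ = Tg hF (pairPerp_le hP'.eW) hP'.ee s :=
    Subtype.ext (by
      show (h : SU n F q) * T hF e' hP'.ee o * (h : SU n F q)⁻¹ = T hF e' hP'.ee s
      rw [conj_T hF, T_congr hF _ (herm_smul_smul_zero hP'.ee _ _) (tau_e hF hP' d hd0)]
      exact T_smul hF hP'.ee _ o s (by simp [hs, o, hdq]))
  rw [hTs] at hconj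
  have hTu : levi u = Tg hF (pairPerp_le hP'.eW) hP'.ee o := rfl
  rw [hTu] at hconj
  have hsplit : Tg hF (pairPerp_le hP'.eW) hP'.ee s =
      Tg hF (pairPerp_le hP'.eW) hP'.ee o * Tg hF (pairPerp_le hP'.eW) hP'.ee (-o + s) :=
    Subtype.ext (by
      show T hF e' hP'.ee s = T hF e' hP'.ee o * T hF e' hP'.ee (-o + s)
      rw [← T_add, add_neg_cancel_left])
  rw [hsplit, mul_smul] at hconj
  have h0 := H.no_fix hF (pairPerp_le hP'.eW) hP'.ee hP'.e_ne (smul_left_cancel _ hconj)
  exact hd2 (by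
    have := congrArg Subtype.val (neg_add_eq_zero.1 h0)
    simpa [hs, o] using this.symm)

/-- Three fixed elements. -/
theorem FourHyp.three_case (H : FourHyp hF W M) (hP : HP q W e f)
    (hP' : HP q (pairPerp q W e f) e' f') {α : M}
    (hinv : ∀ r : fixedSet hF, ∀ s ∈ SS hF hP α, act (T hF e' hP'.ee r) s ∈ SS hF hP α)
    (hq : q = 3) : False := by
  have h3 : (3 : F) = 0 := by
    have h := FiniteField.cast_card_eq_zero F
    rw [hF, hq] at h
    push_cast at h
    exact mul_self_eq_zero.1 (by linear_combination h)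
  have h2 : (2 : F) ≠ 0 := fun h => one_ne_zero (α := F) (by linear_combination h3 - h)
  have hline := H.line_of_perp hF hP hP' (α := α) fun s hs => by
    by_contra hη
    exact h2 ((mul_eq_zero.1 (H.two_norm hF hP hP'.eW hP'.ee hinv hs).2).resolve_right
      (mul_ne_zero hη (pow_ne_zero _ hη)))
  let o : fixedSet hF := ⟨1, (mem_fixedSet hF).2 (one_pow q)⟩
  let d : fixedSet hF := -o
  have hd : (d : F) = -1 := rfl
  have hd0 : d ≠ 0 := fun h => one_ne_zero (α := F) (by
    have := congrArg Subtype.val h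
    rw [hd, AddSubgroup.coe_zero] at this
    linear_combination -this)
  obtain ⟨β, hSβ, ⟨r, hr⟩, huniq⟩ := H.centred hF hP α (tau hF hP d hd0) (t := (d : F))
    (fun h => hd0 (Subtype.ext h)) (tau_e hF hP d hd0)
    (fun w hw => by rw [tau_perp hF hP d hd0 hw]; exact hw)
    (fun w hw h => by
      rw [tau_perp hF hP d hd0 hw, show (d : F) ^ q = d from d.2, hd] at h
      by_contra hw0
      refine h2 ((smul_eq_zero.1 (?_ : (2 : F) • w = 0)).resolve_right hw0)
      rw [two_smul]
      nth_rewrite 1 [← h]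
      module)
    (fun s hs => by
      rw [tau_perp hF hP d hd0 (SS_le hF hP α s hs), show (d : F) ^ q = d from d.2]
      exact H.smul_mem hF hP α d hs)
  obtain ⟨m, hm⟩ := H.translate hF hP hSβ (g := Tg hF hP'.eW hP'.ee o) (hinv o)
    (levi_tau_comm hF hP d hd0 _) ⟨r, hr⟩ huniq
  have hmq : (-(m : F)) ^ q = -(m : F) := by rw [neg_pow_q hF, show (m : F) ^ q = m from m.2]
  obtain ⟨u, hu⟩ := exists_norm_eq hF hmq
  rw [pow_succ] at hu
  have hmem : (c0 hF * u ^ q) • e' ∈ SS hF hP β := by rw [hSβ]; exact hline _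
  obtain ⟨hw, μ, hμ, hfix⟩ := hmem
  set a := (c0 hF * u ^ q) • e' with ha
  have haa : ⟪a, a⟫ = 0 := herm_smul_smul_zero hP'.ee _ _
  -- the torus element shows that `μ` vanishes
  have hμ0 : μ = 0 := by
    set τ := tau hF hP d hd0
    have hτW : ∀ w ∈ pairPerp q W e f, act (τ : SU n F q) w ∈ pairPerp q W e f := fun w hw => by
      rw [tau_perp hF hP d hd0 hw]; exact hw
    have hc := conj_Qel hF hP (tau_e hF hP d hd0) hτW hw hμ
    have h1 : Qel hF hP (Submodule.smul_mem _ ((d : F) ^ q) (hτW _ hw))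
        (cond_conj (g := τ) hF hμ) • (τ • β) = τ • β := by
      rw [← hc, mul_smul, mul_smul, inv_smul_smul, hfix]
    obtain ⟨hr', tr⟩ := Tg_eq_Qel hF hP r
    have hcm : Qel hF hP (Submodule.smul_mem _ ((d : F) ^ q) (hτW _ hw))
        (cond_conj (g := τ) hF hμ) * Tg hF hP.eW hP.ee r = Tg hF hP.eW hP.ee r *
          Qel hF hP (Submodule.smul_mem _ ((d : F) ^ q) (hτW _ hw))
            (cond_conj (g := τ) hF hμ) :=
      Subtype.ext (commute_T hF hP.ee (eich_self hF e _ _ hP.ee
        (perp_e (Submodule.smul_mem _ ((d : F) ^ q) (hτW _ hw))) (cond_conj (g := τ) hF hμ)) r)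
    rw [hr, ← mul_smul, hcm, mul_smul, smul_left_cancel_iff] at h1
    obtain ⟨h', hmul⟩ := Qel_mul hF hP hw hμ (Submodule.smul_mem _ ((d : F) ^ q) (hτW _ hw))
      (cond_conj (g := τ) hF hμ)
    have hwa : a + (d : F) ^ q • act (τ : SU n F q) a = 0 := by
      rw [tau_perp hF hP d hd0 hw, show (d : F) ^ q = d from d.2, hd]
      module
    have hhw : ⟪(d : F) ^ q • act (τ : SU n F q) a, a⟫ = 0 := by
      rw [tau_perp hF hP d hd0 hw, herm_smul_left, haa, mul_zero]
    obtain ⟨s, hs⟩ := exists_eq_c0_mul hF (c := μ + (d : F) ^ q * d * μ -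
      ⟪(d : F) ^ q • act (τ : SU n F q) a, a⟫) (by
        have h'' := h'
        rw [hwa, herm_zero_left, add_zero] at h''
        exact h'')
    obtain ⟨h4, t4⟩ := Tg_eq_Qel hF hP s
    have hfix2 : Tg hF hP.eW hP.ee s • β = β := by
      rw [t4, ← Qel_congr hF hP (Submodule.add_mem _ hw (Submodule.smul_mem _ _ (hτW _ hw))) h'
        (Submodule.zero_mem _) h4 hwa hs, ← hmul, mul_smul, h1, hfix]
    rw [H.no_fix hF hP.eW hP.ee hP.e_ne hfix2, AddSubgroup.coe_zero, mul_zero, hhw,
      show (d : F) ^ q = d from d.2, hd] at hs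
    exact mul_left_cancel₀ h2 (by linear_combination hs)
  subst hμ0
  exact H.singular_false hF hP hP'.eW hP'.e_ne hP'.ee (o := o) rfl hm hu (h0 := hμ) hfix

omit [Finite M] in
theorem mul_pow_two {ω : F} (h : ω ^ 2 + ω + 1 = 0) : ω ^ 3 = 1 := by
  linear_combination (ω - 1) * h

/-- A line of parameters over four elements. -/
theorem FourHyp.line_two (H : FourHyp hF W M) (hq : q = 2) (hP : HP q W e f) {α : M}
    (he'W : e' ∈ pairPerp q W e f) (he'0 : e' ≠ 0) (he' : ⟪e', e'⟫ = 0)
    (hline : ∀ a : F, a • e' ∈ SS hF hP α) : False := by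
  subst hq
  have h2 : (2 : F) = 0 := by
    have h := FiniteField.cast_card_eq_zero F
    rw [hF] at h
    push_cast at h
    exact mul_self_eq_zero.1 (by linear_combination h)
  obtain ⟨ω, hω⟩ := exists_trace hF (one_pow 2 : (1 : F) ^ 2 = 1)
  have hω2 : ω ^ 2 + ω + 1 = 0 := by linear_combination hω + h2
  have hω3 := mul_pow_two hF hω2
  have hω1 : ω - 1 ≠ 0 := fun h => one_ne_zero (α := F) (by
    linear_combination hω2 - (ω + 2) * h - h2)
  have hω0 : ω ≠ 0 := fun h => one_ne_zero (α := F) (by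
    linear_combination hω2 - (ω + 1) * h)
  have hω4 : ω ^ 2 * ω ^ 2 = ω := by linear_combination ω * hω3
  have hc0 : c0 hF = 1 := mul_right_cancel₀ (c0_ne hF) (by
    linear_combination c0_skew hF - (c0 hF) * h2)
  obtain ⟨f', hP'⟩ := HP.exists_of_iso hF (hP.nondeg hF H.nondeg) he'W he'0 he'
  obtain ⟨τ, hτe, hτW⟩ := exists_tau_norm_one hF hP hP' H.dim (t := ω) hω3
  have hS : ∀ s ∈ SS hF hP α, ∃ a : F, s = a • e' := by
    intro s hs
    have hi : Function.Injective (fun a : F => (⟨a • e', hline a⟩ : SS hF hP α)) := fun a b h =>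
      smul_left_injective F he'0 (congrArg Subtype.val h)
    obtain ⟨a, ha⟩ := (hi.bijective_of_nat_card_le (by
      rw [(H.four hF hP α).2.2.1, Nat.card_eq_fintype_card, hF])).2 ⟨s, hs⟩
    exact ⟨a, (congrArg Subtype.val ha).symm⟩
  obtain ⟨β, hSβ, hβ, huniq⟩ := H.centred hF hP α τ hω0 hτe
    (fun w hw => by rw [hτW w hw]; exact Submodule.smul_mem _ _ hw)
    (fun w hw h => by
      rw [hτW w hw, smul_smul, hω4] at h
      by_contra hw0
      refine hω1 ((smul_eq_zero.1 ?_).resolve_right hw0)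
      rw [sub_smul, one_smul, h, sub_self])
    (fun s hs => by
      obtain ⟨a, rfl⟩ := hS s hs
      rw [hτW _ (Submodule.smul_mem _ _ he'W), smul_smul, smul_smul]
      exact hline _)
  let o : fixedSet hF := ⟨1, (mem_fixedSet hF).2 (one_pow 2)⟩
  obtain ⟨m, hm⟩ := H.translate hF hP hSβ (g := Tg hF he'W he' o) (fun s hs => by
      obtain ⟨a, rfl⟩ := hS s hs
      show act (T hF e' he' o) (a • e') ∈ SS hF hP α
      rw [T_act, herm_smul_left, he', mul_zero, mul_zero, zero_smul, add_zero]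
      exact hline a)
    (by
      have h : τ * Tg hF (pairPerp_le he'W) he' o * τ⁻¹ = Tg hF (pairPerp_le he'W) he' o :=
        Subtype.ext (by
          show (τ : SU n F 2) * T hF e' he' o * (τ : SU n F 2)⁻¹ = T hF e' he' o
          rw [conj_T hF, T_congr hF _ (herm_smul_smul_zero he' _ _) (hτW e' he'W)]
          exact T_smul hF he' _ o o (by
            show (1 : F) = (ω ^ 2) ^ 2 * ω ^ 2 * 1
            linear_combination (-(ω ^ 3 + 1)) * hω3))
      exact mul_inv_eq_iff_eq_mul.1 h)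
    hβ huniq
  have hm1 : (m : F) = 1 := by
    rcases eq_or_ne (m : F) 0 with h | h
    · have hm0 : m = 0 := Subtype.ext h
      rw [hm0, show Tg hF hP.eW hP.ee 0 = 1 from Subtype.ext (T_zero hF e hP.ee), one_smul] at hm
      exact absurd (congrArg Subtype.val (H.no_fix hF (pairPerp_le he'W) he' he'0 hm))
        (one_ne_zero (α := F))
    · exact mul_right_cancel₀ h (by rw [one_mul, ← sq]; exact m.2)
  -- a parameter whose element fixes `β`
  obtain ⟨a, ha, hw, hμ, hfix⟩ : ∃ a : F, a ≠ 0 ∧ ∃ (hw : a • e' ∈ pairPerp 2 W e f)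
      (hμ : (0 : F) + 0 ^ 2 + hermForm n F 2 (a • e') (a • e') = 0),
      Qel hF hP hw hμ • β = β := by
    have hget : ∀ a : F, ∃ (μ : F) (hμ : μ + μ ^ 2 + hermForm n F 2 (a • e') (a • e') = 0),
        (μ = 0 ∨ μ = 1) ∧
        Qel hF hP (Submodule.smul_mem _ a he'W) hμ • β = β := by
      intro a
      obtain ⟨hw, μ, hμ, hfix⟩ : a • e' ∈ SS hF hP β := by rw [hSβ]; exact hline a
      refine ⟨μ, hμ, ?_, hfix⟩
      have h := hμ
      rw [herm_smul_smul_zero he', add_zero] at h
      rcases eq_or_ne μ 0 with h0 | h0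
      · exact Or.inl h0
      · exact Or.inr (mul_left_cancel₀ h0 (by linear_combination h - μ * h2))
    obtain ⟨μ₁, h1, c1, f1⟩ := hget 1
    obtain ⟨μ₂, h2', c2, f2⟩ := hget ω
    rcases c1 with rfl | rfl
    · exact ⟨1, one_ne_zero, _, h1, f1⟩
    rcases c2 with rfl | rfl
    · exact ⟨ω, hω0, _, h2', f2⟩
    refine ⟨1 + ω, fun h => hω1 (by linear_combination h - h2), Submodule.smul_mem _ _ he'W,
      by rw [herm_smul_smul_zero he']; ring, ?_⟩
    obtain ⟨h, hm⟩ := Qel_mul hF hP (Submodule.smul_mem _ (1 : F) he'W) h1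
      (Submodule.smul_mem _ ω he'W) h2'
    rw [← Qel_congr hF hP (Submodule.add_mem _ (Submodule.smul_mem _ (1 : F) he'W)
      (Submodule.smul_mem _ ω he'W)) h _ _ (add_smul 1 ω e').symm ?_, ← hm, mul_smul, f2, f1]
    rw [herm_smul_smul_zero he', sub_zero]
    linear_combination h2
  have ha3 : a ^ 3 = 1 := by
    have h := FiniteField.pow_card_sub_one_eq_one a ha
    rwa [hF] at h
  have hau : (c0 hF * (a ^ 2) ^ 2) • e' = a • e' := by
    rw [hc0, one_mul]
    congr 1
    linear_combination a * ha3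
  refine H.singular_false hF hP he'W he'0 he' (o := o) rfl hm (u := a ^ 2) ?_ (h0 := ?_) ?_
  · rw [hm1]; linear_combination (a ^ 3 + 1) * ha3 + h2
  · rw [hau]; exact hμ
  · exact (Qel_congr hF hP _ _ hw hμ hau rfl).symm ▸ hfix

/-- Two fixed elements. -/
theorem FourHyp.two_case (H : FourHyp hF W M) (hP : HP q W e f)
    (hP' : HP q (pairPerp q W e f) e' f') {α : M}
    (hinv : ∀ r : fixedSet hF, ∀ s ∈ SS hF hP α, act (T hF e' hP'.ee r) s ∈ SS hF hP α)
    (hq : q = 2) : False := by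
  subst hq
  by_cases hperp : ∀ s ∈ SS hF hP α, hermForm n F 2 s e' = 0
  · exact H.line_two hF rfl hP hP'.eW hP'.e_ne hP'.ee (H.line_of_perp hF hP hP' hperp)
  push Not at hperp
  obtain ⟨s, hs, hη⟩ := hperp
  have h2 : (2 : F) = 0 := by
    have h := FiniteField.cast_card_eq_zero F
    rw [hF] at h
    push_cast at h
    exact mul_self_eq_zero.1 (by linear_combination h)
  obtain ⟨ω, hω⟩ := exists_trace hF (one_pow 2 : (1 : F) ^ 2 = 1)
  have hω2 : ω ^ 2 + ω + 1 = 0 := by linear_combination hω + h2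
  have hω3 := mul_pow_two hF hω2
  have hc0 : c0 hF = 1 := mul_right_cancel₀ (c0_ne hF) (by
    linear_combination c0_skew hF - (c0 hF) * h2)
  set η := hermForm n F 2 s e' with hηdef
  have hη3 : η ^ 3 = 1 := by
    have h := FiniteField.pow_card_sub_one_eq_one η hη
    rwa [hF] at h
  set a := η • e' with hadef
  set b := η • f' with hbdef
  have haS : a ∈ SS hF hP α := by
    have h := (H.two_norm hF hP hP'.eW hP'.ee hinv hs).1
    rwa [hc0, one_mul] at h
  have hbS : b ∈ SS hF hP α := (H.coords hF hP hP' hinv hs).2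
  have hPab : HP 2 (pairPerp 2 W e f) a b := by
    refine ⟨Submodule.smul_mem _ _ hP'.eW, Submodule.smul_mem _ _ hP'.fW,
      herm_smul_smul_zero hP'.ee _ _, herm_smul_smul_zero hP'.ff _ _, ?_, ?_⟩
    · rw [hadef, hbdef, herm_smul_left, herm_smul_right, hP'.ef]; linear_combination hη3
    · rw [hadef, hbdef, herm_smul_left, herm_smul_right, hP'.fe]; linear_combination hη3
  clear_value a b
  let o : fixedSet hF := ⟨1, (mem_fixedSet hF).2 (one_pow 2)⟩
  -- both root groups preserve the parameters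
  have hpres : ∀ v (hv : hermForm n F 2 v v = 0), v ∈ SS hF hP α →
      ∀ x ∈ SS hF hP α, act (T hF v hv o) x ∈ SS hF hP α := by
    intro v hv hvS x hx
    rw [T_act]
    refine (SS hF hP α).add_mem hx ?_
    have hb := c0_mul_bf hF x v
    rw [H.bf_zero hF hP α hx hvS, AddSubgroup.coe_zero, mul_zero, herm_conj hF x v] at hb
    exact H.smul_mem hF hP α ⟨c0 hF * (o : F) * hermForm n F 2 x v, (mem_fixedSet hF).2 (by
      rw [show (o : F) = 1 from rfl, hc0, one_mul, one_mul]
      linear_combination -hb)⟩ hvS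
  set g : GS 2 (pairPerp 2 W e f) := Tg hF hPab.eW hPab.ee o with hg
  set g' : GS 2 (pairPerp 2 W e f) := Tg hF hPab.fW hPab.ff o with hg'
  set τ := levi g * levi g' with hτ
  have hbot : pairPerp 2 (pairPerp 2 W e f) a b = ⊥ := Submodule.finrank_eq_zero.1 (by
    have := hPab.finrank hF
    have := dim_two hF H.dim hP
    omega)
  have hτW : ∀ w ∈ pairPerp 2 W e f, act (τ : SU n F 2) w ∈ pairPerp 2 W e f := fun w hw => by
    rw [hτ, Subgroup.coe_mul, act_mul]
    exact levi_perp hF H.nondeg hP g (levi_perp hF H.nondeg hP g' hw)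
  obtain ⟨β, hSβ, ⟨r, hr⟩, huniq⟩ := H.centred hF hP α τ (t := 1) one_ne_zero
    (by rw [hτ, Subgroup.coe_mul, act_mul, levi_e hF hP g', one_smul, levi_e hF hP g, one_smul])
    hτW
    (fun w hw h => by
      rw [one_pow, one_smul] at h
      have hk := hPab.decomp hw
      rw [hbot, Submodule.mem_bot, sub_sub, sub_eq_zero] at hk
      have h' : act (T hF a hPab.ee o) (act (T hF b hPab.ff o) w) = w := by
        rw [← act_mul]; exact h
      have ea := congrArg (fun x => hermForm n F 2 x b) h'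
      have eb := congrArg (fun x => hermForm n F 2 x a) h'
      simp only [T_act, herm_add_left, herm_smul_left, hPab.ee, hPab.ff, hPab.ef, hPab.fe, hc0,
        o] at ea eb
      have e1 : hermForm n F 2 w b = 0 := by linear_combination eb
      have e2 : hermForm n F 2 w a = 0 := by linear_combination ea - e1
      rw [hk, e1, e2, zero_smul, zero_smul, add_zero])
    (fun x hx => by
      rw [one_pow, one_smul, hτ, Subgroup.coe_mul, act_mul]
      exact hpres a hPab.ee haS _ (hpres b hPab.ff hbS x hx))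
  have hsq : ∀ {v : Fin n → F} (hvW : v ∈ pairPerp 2 W e f) (hv : hermForm n F 2 v v = 0),
      (levi (Tg hF hvW hv o) : GS 2 W) * levi (Tg hF hvW hv o) = 1 := fun hvW hv => Subtype.ext (by
    show T hF _ hv o * T hF _ hv o = 1
    rw [← T_add, show o + o = 0 from Subtype.ext (by
      show (1 : F) + 1 = 0
      linear_combination h2), T_zero])
  have hinv2 : τ * levi g = levi g * τ⁻¹ := by
    rw [hτ, mul_inv_rev, inv_eq_of_mul_eq_one_left (hsq hPab.eW hPab.ee),
      inv_eq_of_mul_eq_one_left (hsq hPab.fW hPab.ff), mul_assoc]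
  have hτe1 : ∀ z : fixedSet hF, τ * Tg hF hP.eW hP.ee z = Tg hF hP.eW hP.ee z * τ := fun z => by
    rw [hτ, mul_assoc, ← levi_Tg_comm hF hP z g', ← mul_assoc, ← levi_Tg_comm hF hP z g, mul_assoc]
  obtain ⟨m, hm⟩ := huniq (levi g • β) (by
      rw [SS_levi hF H.nondeg hP g β, hSβ,
        imgS_eq_self hF (g := (g : SU n F 2)) (fun x hx => hpres a hPab.ee haS x hx)])
    ⟨-r, by
      have hri : τ⁻¹ • β = Tg hF hP.eW hP.ee (-r) • β := by
        rw [inv_smul_eq_iff, ← mul_smul, hτe1, mul_smul, hr, ← mul_smul,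
          show Tg hF hP.eW hP.ee (-r) * Tg hF hP.eW hP.ee r = 1 from Subtype.ext (by
            show T hF e hP.ee (-r) * T hF e hP.ee r = 1
            rw [← T_add, neg_add_cancel, T_zero]), one_smul]
      rw [← mul_smul, hinv2, mul_smul, hri, ← mul_smul, ← levi_Tg_comm hF hP (-r) g, mul_smul]⟩
  have hm' : Tg hF (pairPerp_le hPab.eW) hPab.ee o • β = Tg hF hP.eW hP.ee m • β := hm
  have hm1 : (m : F) = 1 := by
    rcases eq_or_ne (m : F) 0 with h | h
    · rw [show m = 0 from Subtype.ext h,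
        show Tg hF hP.eW hP.ee 0 = 1 from Subtype.ext (T_zero hF e hP.ee), one_smul] at hm'
      exact absurd (congrArg Subtype.val (H.no_fix hF (pairPerp_le hPab.eW) hPab.ee hPab.e_ne hm'))
        (one_ne_zero (α := F))
    · exact mul_right_cancel₀ h (by rw [one_mul, ← sq]; exact m.2)
  obtain ⟨hw, μ, hμ, hfix⟩ : a ∈ SS hF hP β := by rw [hSβ]; exact haS
  have hμ01 : μ = 0 ∨ μ = 1 := by
    have h := hμ
    rw [hPab.ee, add_zero] at h
    rcases eq_or_ne μ 0 with h0 | h0
    · exact Or.inl h0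
    · exact Or.inr (mul_left_cancel₀ h0 (by linear_combination h - μ * h2))
  rcases hμ01 with rfl | rfl
  · have hu : (c0 hF * (1 : F) ^ 2) • a = a := by rw [hc0, one_pow, one_mul, one_smul]
    refine H.singular_false hF hP hPab.eW hPab.e_ne hPab.ee (o := o) rfl hm' (u := 1) ?_ (h0 := ?_) ?_
    · rw [hm1]; linear_combination h2
    · rw [hu]; exact hμ
    · exact (Qel_congr hF hP _ _ hw hμ hu rfl).symm ▸ hfix
  -- read the two elements at another isotropic vector
  set x := e + ω • a with hx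
  have hea : hermForm n F 2 e a = 0 := e_perp hF hPab.eW
  have hPx : HP 2 W x f := by
    refine ⟨W.add_mem hP.eW (W.smul_mem _ (pairPerp_le hPab.eW)), hP.fW, ?_, hP.ff, ?_, ?_⟩
    · rw [hx]
      simp only [herm_add_left, herm_add_right hF, herm_smul_left, herm_smul_right, hP.ee, hea,
        hPab.ee, perp_e hPab.eW]
      ring
    · rw [hx, herm_add_left, herm_smul_left, hP.ef, perp_f hPab.eW, mul_zero, add_zero]
    · rw [hx, herm_add_right hF, herm_smul_right, hP.fe, f_perp hF hPab.eW, mul_zero, add_zero]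
  have haX : a ∈ pairPerp 2 W x f := by
    refine mem_pairPerp.2 ⟨pairPerp_le hPab.eW, ?_, perp_f hPab.eW⟩
    rw [hx, herm_add_right hF, herm_smul_right, perp_e hPab.eW, hPab.ee, mul_zero, add_zero]
  have hcond : ∀ c : F, (1 : F) + 1 ^ 2 + hermForm n F 2 (c • a) (c • a) = 0 := fun c => by
    rw [herm_smul_smul_zero hPab.ee]; linear_combination h2
  have key1 : Qel hF hPx (Submodule.smul_mem _ ω haX) (hcond ω) =
      Tg hF hP.eW hP.ee o * Tg hF (pairPerp_le hPab.eW) hPab.ee o := Subtype.ext (by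
    apply su_ext
    intro y
    simp only [Qel, Eg_coe, Subgroup.coe_mul, Tg_coe, act_mul, eich_act, T_act, herm_add_left,
      herm_add_right hF, herm_smul_left, herm_smul_right, hP.ee, perp_e hPab.eW, hc0, hx, o]
    match_scalars
    · ring
    · linear_combination (hermForm n F 2 y e * ω) * h2 +
        hermForm n F 2 y a * hω3
    · ring)
  have key2 : Qel hF hPx (Submodule.smul_mem _ (ω ^ 2) haX) (hcond (ω ^ 2)) =
      Qel hF hP hw hμ := Subtype.ext (by
    apply su_ext
    intro y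
    simp only [Qel, Eg_coe, eich_act, herm_add_right hF, herm_smul_right, hx]
    match_scalars
    · ring
    · linear_combination (hermForm n F 2 y e + hermForm n F 2 y a * ω ^ 3) * hω2 +
        (-hermForm n F 2 y e - hermForm n F 2 y a * ω ^ 5) * h2
    · linear_combination hermForm n F 2 y a * hω2 - (ω * hermForm n F 2 y a) * hω3 -
        (ω * hermForm n F 2 y a) * h2)
  have h1 : ω • a ∈ SS hF hPx β := ⟨Submodule.smul_mem _ ω haX, 1, hcond ω, by
    rw [key1, mul_smul, hm', ← mul_smul, show Tg hF hP.eW hP.ee o * Tg hF hP.eW hP.ee m = 1 from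
      Subtype.ext (by
        show T hF e hP.ee o * T hF e hP.ee m = 1
        rw [← T_add, show o + m = 0 from Subtype.ext (by
          show (1 : F) + (m : F) = 0
          rw [hm1]; linear_combination h2), T_zero]), one_smul]⟩
  have h2' : (ω ^ 2) • a ∈ SS hF hPx β := ⟨Submodule.smul_mem _ (ω ^ 2) haX, 1, hcond (ω ^ 2), by
    rw [key2, hfix]⟩
  refine H.line_two hF rfl hPx haX hPab.e_ne hPab.ee (α := β) fun c => ?_
  rcases eq_or_ne c 0 with rfl | hc
  · rw [zero_smul]; exact (SS hF hPx β).zero_mem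
  have hc3 : c ^ 3 = 1 := by
    have h := FiniteField.pow_card_sub_one_eq_one c hc
    rwa [hF] at h
  have hprod : (c - 1) * ((c - ω) * (c - ω ^ 2)) = 0 := by
    linear_combination hc3 + (c - c ^ 2) * hω2 + (c - 1) * hω3
  rcases mul_eq_zero.1 hprod with h | h
  · rw [sub_eq_zero.1 h, one_smul, show a = ω • a + (ω ^ 2) • a by
      rw [← add_smul, show ω + ω ^ 2 = 1 by linear_combination hω2 - h2, one_smul]]
    exact (SS hF hPx β).add_mem h1 h2'
  · rcases mul_eq_zero.1 h with h | h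
    · rw [sub_eq_zero.1 h]; exact h1
    · rw [sub_eq_zero.1 h]; exact h2'

omit [Finite M] in
/-- The base of the induction: dimension four. -/
theorem small_four : BaseFour q n hF := by
  intro W hW hd
  refine small_of_transitive hF fun M _ _ htrans hk => ?_
  by_contra hno
  have H : FourHyp hF W M := ⟨hW, hd, hk, htrans, hno⟩
  obtain ⟨e, heW, he0, he⟩ := exists_iso_in hF hW (by omega)
  obtain ⟨f, hP⟩ := HP.exists_of_iso hF hW heW he0 he
  obtain ⟨e', he'W, he'0, he'⟩ := exists_iso_in hF (hP.nondeg hF hW) (by rw [dim_two hF hd hP])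
  obtain ⟨f', hP'⟩ := HP.exists_of_iso hF (hP.nondeg hF hW) he'W he'0 he'
  obtain ⟨α, hinv⟩ := H.exists_invariant hF hP he'W he'
  have hq := two_le_q hF
  rcases Nat.lt_or_ge q 4 with h | h
  · rcases (show q = 2 ∨ q = 3 by omega) with h2 | h3
    · exact H.two_case hF hP hP' hinv h2
    · exact H.three_case hF hP hP' hinv h3
  · exact H.big_false hF hP hP' hinv h

end Cfsg.Agent.MinIndexUnit19
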