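import Mathlib
import Cfsg.Prelude.Def_LocalStructure
import Cfsg.Prelude.Def_Transfer
import Cfsg.Agent.Lib.CoprimeAction

/-!
Minimal non-p-closed groups and irreducible actions of elements of order p.
-/

namespace Cfsg.Agent.MinNonPClosed71

open Polynomial

variable {G : Type*} [Group G] [Finite G]

theorem end_mul_apply {M : Type*} [AddZeroClass M] (f g : AddMonoid.End M) (a : M) :
    (f * g) a = f (g a) := rfl

/-- An element of order `p` acting irreducibly and nontrivially on an elementary abelian `q`-group: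
the order of that group is `q` to the order of `q` modulo `p`. -/
theorem card_eq_pow_orderOf {p q : ℕ} [Fact p.Prime] (hq : q.Prime) (hpq : q ≠ p)
    (A : Subgroup G) (hA : Cfsg.IsElementaryAbelian q A) (x : G)
    (hx : ∀ a ∈ A, x * a * x⁻¹ ∈ A) (hxp : ∀ a ∈ A, x ^ p * a = a * x ^ p)
    (hne : ∃ a ∈ A, x * a ≠ a * x)
    (hirr : ∀ B : Subgroup G, B ≤ A → (∀ b ∈ B, x * b * x⁻¹ ∈ B) → B = ⊥ ∨ B = A) :
    Nat.card A = q ^ orderOf (q : ZMod p) := by
  classical
  have hp : p.Prime := Fact.out
  haveI := Fact.mk hq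
  haveI := hA.1
  letI : CommGroup A := { (inferInstance : Group A) with mul_comm := hA.1.is_comm.comm }
  -- the endomorphism induced by `x`
  let T : AddMonoid.End (Additive A) := MonoidHom.toAdditive
    { toFun := fun a : A => (⟨x * a * x⁻¹, hx a a.2⟩ : A)
      map_one' := Subtype.ext (by simp)
      map_mul' := fun a b => Subtype.ext (by simp [mul_assoc]) }
  have hTapp : ∀ a : A, ((Additive.toMul (T (Additive.ofMul a)) : A) : G) = x * a * x⁻¹ := fun a => rfl
  have hTpow : ∀ (n : ℕ) (a : A),
      ((Additive.toMul ((T ^ n) (Additive.ofMul a)) : A) : G) = x ^ n * a * (x ^ n)⁻¹ := by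
    intro n
    induction n with
    | zero => intro a; simp
    | succ n ih =>
      intro a
      rw [pow_succ', pow_succ', end_mul_apply]
      show ((Additive.toMul (T (Additive.ofMul (Additive.toMul ((T ^ n) (Additive.ofMul a))))) : A) : G) = _
      rw [hTapp, ih]
      group
  have hTp : T ^ p = 1 := by
    refine AddMonoidHom.ext fun a => ?_
    apply Additive.toMul.injective
    apply Subtype.ext
    show ((Additive.toMul ((T ^ p) (Additive.ofMul (Additive.toMul a))) : A) : G) = _
    rw [hTpow, hxp _ (Additive.toMul a).2, mul_inv_cancel_right]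
    rfl
  set n := orderOf (q : ZMod p) with hn
  have hq0 : (q : ZMod p) ≠ 0 := by
    rw [Ne, ZMod.natCast_eq_zero_iff]
    exact fun h => hpq ((Nat.prime_dvd_prime_iff_eq hp hq).mp h).symm
  have hTq : T ^ (q ^ n) = T := by
    have h1 : ((q ^ n : ℕ) : ZMod p) = ((1 : ℕ) : ZMod p) := by
      rw [Nat.cast_pow, hn, pow_orderOf_eq_one, Nat.cast_one]
    rw [ZMod.natCast_eq_natCast_iff'] at h1
    have h2 : q ^ n % p = 1 := by rw [h1, Nat.mod_eq_of_lt hp.one_lt]
    rw [← Nat.div_add_mod (q ^ n) p, h2, pow_succ, pow_mul, hTp, one_pow, one_mul]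
  -- the commutative ring generated by `T`
  let ev : Polynomial ℤ →+* AddMonoid.End (Additive A) :=
    Polynomial.eval₂RingHom' (Int.castRingHom (AddMonoid.End (Additive A))) T
      (fun z => Int.cast_commute z T)
  let R : Subring (AddMonoid.End (Additive A)) := ev.range
  have hevX : ev Polynomial.X = T := by simp [ev]
  have hTR : T ∈ R := ⟨Polynomial.X, hevX⟩
  letI : CommRing R :=
    { (inferInstance : Ring R) with
      mul_comm := by
        rintro ⟨_, f, rfl⟩ ⟨_, g, rfl⟩
        exact Subtype.ext (by simp [← map_mul, mul_comm]) }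
  obtain ⟨a0, ha0, ha0x⟩ := hne
  have ha01 : (⟨a0, ha0⟩ : A) ≠ 1 := by
    intro h
    have h' : a0 = 1 := congrArg Subtype.val h
    simp [h'] at ha0x
  have : Nontrivial A := ⟨⟨⟨a0, ha0⟩, 1, ha01⟩⟩
  have : Finite (AddMonoid.End (Additive A)) :=
    Finite.of_injective (fun f : AddMonoid.End (Additive A) => (f : Additive A → Additive A))
      (fun f g h => AddMonoidHom.ext (congrFun h))
  have hcomm : ∀ r : R, T * (r : AddMonoid.End (Additive A)) = r * T := fun r =>
    congrArg Subtype.val (mul_comm (⟨T, hTR⟩ : R) r)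
  -- kernels and images are invariant
  have hker : ∀ r : R, (r : AddMonoid.End (Additive A)) = 0 ∨ Function.Injective (r : AddMonoid.End (Additive A)) := by
    intro r
    let f : Additive A →+ Additive A := (r : AddMonoid.End (Additive A))
    let K : Subgroup A := (AddSubgroup.toSubgroup' f.ker)
    have hK : ∀ b : A, b ∈ K ↔ f (Additive.ofMul b) = 0 := fun b => Iff.rfl
    have hinv : ∀ b ∈ K.map A.subtype, x * b * x⁻¹ ∈ K.map A.subtype := by
      rintro _ ⟨b, hb, rfl⟩
      refine ⟨Additive.toMul (T (Additive.ofMul b)), ?_, hTapp b⟩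
      refine (hK _).mpr ?_
      show f (T (Additive.ofMul b)) = 0
      have h := DFunLike.congr_fun (hcomm r) (Additive.ofMul b)
      rw [end_mul_apply, end_mul_apply] at h
      show (r : AddMonoid.End (Additive A)) (T (Additive.ofMul b)) = 0
      rw [← h, show (r : AddMonoid.End (Additive A)) (Additive.ofMul b) = 0 from (hK b).mp hb, map_zero]
    rcases hirr _ (Subgroup.map_subtype_le K) hinv with h | h
    · right
      show Function.Injective f
      rw [injective_iff_map_eq_zero]
      intro a ha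
      have h1 : ((Additive.toMul a : A) : G) ∈ K.map A.subtype := ⟨Additive.toMul a, ha, rfl⟩
      rw [h, Subgroup.mem_bot] at h1
      exact Additive.toMul.injective (Subtype.ext h1)
    · left
      refine AddMonoidHom.ext fun a => ?_
      have h1 : ((Additive.toMul a : A) : G) ∈ K.map A.subtype := by rw [h]; exact (Additive.toMul a).2
      obtain ⟨b, hb, hbe⟩ := h1
      obtain rfl : b = Additive.toMul a := Subtype.ext hbe
      exact hb
  have hone : (1 : R) ≠ 0 := fun h => ha01 <| by
    have h1 := DFunLike.congr_fun (congrArg Subtype.val h) (Additive.ofMul (⟨a0, ha0⟩ : A))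
    simpa using congrArg Additive.toMul h1
  have : Nontrivial R := ⟨⟨1, 0, hone⟩⟩
  have : NoZeroDivisors R := ⟨fun {r s} h => by
    rcases hker r with hr | hr
    · exact Or.inl (Subtype.ext hr)
    · refine Or.inr (Subtype.ext (AddMonoidHom.ext fun a => hr ?_))
      have h1 := DFunLike.congr_fun (congrArg Subtype.val h) a
      rw [Subring.coe_mul, end_mul_apply] at h1
      exact h1.trans (map_zero _).symm⟩
  have : IsDomain R := NoZeroDivisors.to_isDomain R
  have : Finite R := Subtype.finite
  haveI : Fintype R := Fintype.ofFinite R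
  have hchar : CharP R q := by
    refine (CharP.charP_iff_prime_eq_zero hq).mpr (Subtype.ext ?_)
    rw [Subring.coe_natCast]
    refine AddMonoidHom.ext fun a => ?_
    show (q • a : Additive A) = 0
    apply Additive.toMul.injective
    rw [toMul_nsmul]
    exact Subtype.ext (hA.2 _ (Additive.toMul a).2)
  have hfix : ∀ r : R, r ^ q ^ n = r := by
    rintro ⟨_, f, rfl⟩
    let φ : Polynomial ℤ →+* R := ev.rangeRestrict
    have : (iterateFrobenius R q n).comp φ = φ := by
      refine Polynomial.ringHom_ext (fun z => ?_) ?_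
      · simp
      · show (φ Polynomial.X) ^ q ^ n = φ Polynomial.X
        refine Subtype.ext ?_
        rw [Subring.coe_pow]
        show (ev Polynomial.X) ^ q ^ n = ev Polynomial.X
        rw [hevX, hTq]
    exact DFunLike.congr_fun this f
  have hp1 : 1 < q ^ n :=
    Nat.one_lt_pow (orderOf_pos_iff.mpr ⟨p - 1, by have := hp.two_le; omega, by
      simp [Function.IsPeriodicPt, Function.IsFixedPt, ZMod.pow_card_sub_one_eq_one hq0]⟩).ne' hq.one_lt
  have hcardR : Nat.card R ≤ q ^ n := by
    rw [Nat.card_eq_fintype_card, ← Finset.card_univ]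
    have h := Polynomial.card_le_degree_of_subset_roots (R := R)
      (p := Polynomial.X ^ q ^ n - Polynomial.X) (Z := Finset.univ) (fun r _ => by
        refine (Polynomial.mem_roots (Polynomial.Monic.ne_zero (Polynomial.monic_X_pow_sub (by
          rw [Polynomial.degree_X]; exact_mod_cast hp1)))).mpr ?_
        simp [hfix r])
    refine h.trans (le_of_eq ?_)
    rw [Polynomial.natDegree_sub_eq_left_of_natDegree_lt] <;> simp [hp1]
  -- the orbit map is surjective
  let v : Additive A := Additive.ofMul ⟨a0, ha0⟩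
  have hsurj : Function.Surjective (fun r : R => (r : AddMonoid.End (Additive A)) v) := by
    let o : R →+ Additive A :=
      { toFun := fun r => (r : AddMonoid.End (Additive A)) v
        map_zero' := rfl
        map_add' := fun _ _ => rfl }
    let B : Subgroup A := AddSubgroup.toSubgroup' o.range
    have hinv : ∀ b ∈ B.map A.subtype, x * b * x⁻¹ ∈ B.map A.subtype := by
      rintro _ ⟨b, ⟨r, hr⟩, rfl⟩
      refine ⟨Additive.toMul (T (Additive.ofMul b)), ⟨⟨T, hTR⟩ * r, ?_⟩, hTapp b⟩
      show (((⟨T, hTR⟩ * r : R)) : AddMonoid.End (Additive A)) v = T (Additive.ofMul b)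
      rw [Subring.coe_mul, end_mul_apply]
      exact congrArg T hr
    have ha0B : a0 ∈ B.map A.subtype := ⟨⟨a0, ha0⟩, ⟨1, rfl⟩, rfl⟩
    rcases hirr _ (Subgroup.map_subtype_le B) hinv with h | h
    · rw [h, Subgroup.mem_bot] at ha0B
      exact absurd (Subtype.ext ha0B) ha01
    · intro a
      have h1 : ((Additive.toMul a : A) : G) ∈ B.map A.subtype := by rw [h]; exact (Additive.toMul a).2
      obtain ⟨b, ⟨r, hr⟩, hbe⟩ := h1
      obtain rfl : b = Additive.toMul a := Subtype.ext hbe
      exact ⟨r, hr⟩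
  have hle : Nat.card A ≤ q ^ n := (Nat.card_le_card_of_surjective _ hsurj).trans hcardR
  -- fixed-point count
  obtain ⟨d, hd⟩ : ∃ d, Nat.card A = q ^ d :=
    (IsPGroup.iff_card.mp (fun a => ⟨1, Subtype.ext (by simpa using hA.2 a a.2)⟩))
  have hd1 : 1 ≤ d := by
    rcases Nat.eq_zero_or_pos d with rfl | h
    · rw [pow_zero] at hd
      exact absurd hd (Finite.one_lt_card (α := A)).ne'
    · exact h
  have hmod : ((q : ZMod p)) ^ d = 1 := by
    let σ : Equiv.Perm A :=
      { toFun := fun a => ⟨x * a * x⁻¹, hx a a.2⟩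
        invFun := fun a => Additive.toMul ((T ^ (p - 1)) (Additive.ofMul a))
        left_inv := fun a => Subtype.ext (by
          rw [hTpow]
          show x ^ (p - 1) * (x * a * x⁻¹) * (x ^ (p - 1))⁻¹ = a
          have := hxp _ a.2
          rw [← pow_sub_one_mul hp.ne_zero x] at this
          calc x ^ (p - 1) * (x * a * x⁻¹) * (x ^ (p - 1))⁻¹
              = (x ^ (p - 1) * x * a) * (x ^ (p - 1) * x)⁻¹ := by group
            _ = (a * (x ^ (p - 1) * x)) * (x ^ (p - 1) * x)⁻¹ := by rw [this]
            _ = _ := by group)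
        right_inv := fun a => Subtype.ext (by
          show x * ((Additive.toMul ((T ^ (p - 1)) (Additive.ofMul a)) : A) : G) * x⁻¹ = a
          rw [hTpow]
          have := hxp _ a.2
          rw [← mul_pow_sub_one hp.ne_zero x] at this
          calc x * (x ^ (p - 1) * a * (x ^ (p - 1))⁻¹) * x⁻¹
              = (x * x ^ (p - 1) * a) * (x * x ^ (p - 1))⁻¹ := by group
            _ = (a * (x * x ^ (p - 1))) * (x * x ^ (p - 1))⁻¹ := by rw [this]
            _ = _ := by group) }
    have hσ : σ ^ p = 1 := by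
      have hk : ∀ (k : ℕ) (a : A), ((σ ^ k) a : G) = x ^ k * a * (x ^ k)⁻¹ := by
        intro k
        induction k with
        | zero => intro a; simp
        | succ k ih =>
          intro a
          rw [pow_succ', Equiv.Perm.mul_apply]
          show x * ((σ ^ k) a : G) * x⁻¹ = _
          rw [ih, pow_succ']
          group
      refine Equiv.ext fun a => Subtype.ext ?_
      rw [hk, hxp _ a.2, mul_inv_cancel_right]
      rfl
    haveI : Fintype A := Fintype.ofFinite A
    have hfixed : ∀ a : A, σ a = a → a = 1 := by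
      intro a ha
      let B : Subgroup G := A ⊓ Subgroup.centralizer ({x} : Set G)
      have hxB : ∀ b ∈ B, x * b * x⁻¹ ∈ B := by
        rintro b ⟨hb1, hb2⟩
        rw [← Subgroup.mem_centralizer_singleton_iff.mp hb2, mul_inv_cancel_right]
        exact ⟨hb1, hb2⟩
      rcases hirr B inf_le_left hxB with h | h
      · have h1 : x * a * x⁻¹ = a := congrArg Subtype.val ha
        have : (a : G) ∈ B := ⟨a.2, Subgroup.mem_centralizer_singleton_iff.mpr (mul_inv_eq_iff_eq_mul.mp h1).symm⟩
        rw [h, Subgroup.mem_bot] at this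
        exact Subtype.ext this
      · have : a0 ∈ B := h.symm ▸ ha0
        exact absurd (Subgroup.mem_centralizer_singleton_iff.mp this.2).symm ha0x
    have h := Equiv.Perm.card_compl_support_modEq (p := p) (n := 1) (by simpa using hσ)
    have hs : σ.supportᶜ = {1} := by
      ext a
      simp only [Finset.mem_compl, Equiv.Perm.mem_support, not_not, Finset.mem_singleton]
      refine ⟨hfixed a, ?_⟩
      rintro rfl
      exact Subtype.ext (by simp [σ])
    rw [hs, Finset.card_singleton, ← Nat.card_eq_fintype_card, hd, ← ZMod.natCast_eq_natCast_iff,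
      Nat.cast_one, Nat.cast_pow] at h
    exact h.symm
  have hnd : n ∣ d := orderOf_dvd_of_pow_eq_one hmod
  have hdn : d ≤ n := (Nat.pow_le_pow_iff_right hq.one_lt).mp (hd ▸ hle)
  rw [hd, le_antisymm hdn (Nat.le_of_dvd hd1 hnd)]

/-- A minimal normal `p'`-subgroup supplemented by an element of order `p` which centralizes each of
its proper invariant subgroups is elementary abelian of order `q` to the order of `q` modulo `p`. -/
theorem structure_of_minimal {p : ℕ} [Fact p.Prime] (N : Subgroup G) [N.Normal] (hN : N ≠ ⊥)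
    (hmin : ∀ B : Subgroup G, B.Normal → B ≤ N → B = ⊥ ∨ B = N)
    (x : G) (hx : orderOf x = p) (hpN : ¬ p ∣ Nat.card N) (htop : N ⊔ Subgroup.zpowers x = ⊤)
    (hnc : x ∉ Subgroup.centralizer (N : Set G))
    (hprop : ∀ B : Subgroup G, B ≤ N → B ≠ N → (∀ b ∈ B, x * b * x⁻¹ ∈ B) →
      x ∈ Subgroup.centralizer (B : Set G)) :
    ∃ q : ℕ, q.Prime ∧ q ≠ p ∧ Nat.card G = p * q ^ orderOf (q : ZMod p) ∧
      ∃ A : Subgroup G, A.Normal ∧ Nat.card ↥A = q ^ orderOf (q : ZMod p) ∧ Cfsg.IsElementaryAbelian q A ∧
        ∀ B : Subgroup G, B.Normal → B ≤ A → B = ⊥ ∨ B = A := by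
  classical
  have hp : p.Prime := Fact.out
  set P := Subgroup.zpowers x with hP
  have hPc : Nat.card P = p := by rw [hP, Nat.card_zpowers, hx]
  have hcop : (Nat.card P).Coprime (Nat.card N) := by
    rw [hPc]; exact hp.coprime_iff_not_dvd.mpr hpN
  have hPN : P ≤ Subgroup.normalizer (N : Set G) := by
    rw [Subgroup.normalizer_eq_top_iff.mpr (inferInstance : N.Normal)]; exact le_top
  -- some invariant Sylow subgroup is the whole of `N`
  obtain ⟨q, hq, Q, hQN⟩ : ∃ q : ℕ, q.Prime ∧ ∃ Q : Subgroup G, IsPGroup q Q ∧ Q = N := by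
    by_contra hcon
    push Not at hcon
    apply hnc
    have hle : Nat.card N ∣ Nat.card ↥(N ⊓ Subgroup.centralizer ({x} : Set G)) := by
      refine (Nat.factorization_le_iff_dvd Nat.card_pos.ne' Nat.card_pos.ne').mp fun q => ?_
      by_cases hq : q.Prime
      swap
      · simp [Nat.factorization_eq_zero_of_not_prime _ hq]
      haveI := Fact.mk hq
      obtain ⟨Q, hQ⟩ := CoprimeAction.exists_invariant_sylow hPN hcop
        (Or.inl (CoprimeAction.isSolvable_zpowers x)) q
      set Q' := (Q : Subgroup N).map N.subtype with hQ'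
      have hne : Q' ≠ N := hcon q hq Q' (Q.isPGroup'.map _)
      have hxQ : ∀ b ∈ Q', x * b * x⁻¹ ∈ Q' := fun b hb =>
        CoprimeAction.conj_mem (hQ (Subgroup.mem_zpowers x)) hb
      have hle : Q' ≤ N ⊓ Subgroup.centralizer ({x} : Set G) := le_inf (Subgroup.map_subtype_le _)
        fun b hb => Subgroup.mem_centralizer_singleton_iff.mpr
          (Subgroup.mem_centralizer_iff.mp (hprop Q' (Subgroup.map_subtype_le _) hne hxQ) b hb)
      have hd := Subgroup.card_dvd_of_le hle
      rw [CoprimeAction.card_map_sylow Q] at hd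
      exact (hq.pow_dvd_iff_le_factorization Nat.card_pos.ne').mp hd
    have he : N ⊓ Subgroup.centralizer ({x} : Set G) = N :=
      Subgroup.eq_of_le_of_card_ge inf_le_left (Nat.le_of_dvd Nat.card_pos hle)
    exact Subgroup.mem_centralizer_iff.mpr fun b hb =>
      Subgroup.mem_centralizer_singleton_iff.mp (he.symm.le hb).2
  obtain ⟨hQp, rfl⟩ := hQN
  haveI := Fact.mk hq
  haveI : Nontrivial Q := (Subgroup.nontrivial_iff_ne_bot _).mpr hN
  have hqN : q ∣ Nat.card Q := hQp.card_eq_or_dvd.resolve_left (Finite.one_lt_card (α := Q)).ne'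
  have hqp : q ≠ p := fun h => hpN (h ▸ hqN)
  -- the centre is everything
  have hab : IsMulCommutative Q := by
    have hZ : ((Subgroup.center Q).map Q.subtype).Normal := by
      refine ⟨fun y hy g => ?_⟩
      obtain ⟨z, hz, rfl⟩ := hy
      refine ⟨⟨g * z * g⁻¹, Subgroup.Normal.conj_mem inferInstance _ z.2 g⟩, ?_, rfl⟩
      refine Subgroup.mem_center_iff.mpr fun w => Subtype.ext ?_
      have hw : g⁻¹ * (w : G) * g ∈ Q := by
        simpa using Subgroup.Normal.conj_mem (inferInstance : Q.Normal) _ w.2 g⁻¹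
      have h1 : g⁻¹ * (w : G) * g * z = z * (g⁻¹ * w * g) :=
        congrArg Subtype.val (Subgroup.mem_center_iff.mp hz ⟨_, hw⟩)
      show (w : G) * (g * z * g⁻¹) = g * z * g⁻¹ * w
      calc (w : G) * (g * z * g⁻¹) = g * (g⁻¹ * w * g * z) * g⁻¹ := by group
        _ = g * (z * (g⁻¹ * w * g)) * g⁻¹ := by rw [h1]
        _ = _ := by group
    rcases hmin _ hZ (Subgroup.map_subtype_le _) with h | h
    · haveI := hQp.center_nontrivial
      rw [Subgroup.map_eq_bot_iff_of_injective _ Q.subtype_injective] at h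
      exact absurd h ((Subgroup.nontrivial_iff_ne_bot _).mp inferInstance)
    · refine ⟨⟨fun a b => ?_⟩⟩
      have hb : (b : G) ∈ (Subgroup.center Q).map Q.subtype := h.symm.le b.2
      obtain ⟨z, hz, hze⟩ := hb
      obtain rfl : z = b := Subtype.ext hze
      exact Subgroup.mem_center_iff.mp hz a
  have hexp : ∀ a ∈ Q, a ^ q = 1 := by
    let W : Subgroup G :=
      { carrier := {a | a ∈ Q ∧ a ^ q = 1}
        one_mem' := ⟨one_mem _, one_pow _⟩
        mul_mem' := fun {a b} ha hb => ⟨mul_mem ha.1 hb.1, by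
          have hc : Commute a b := congrArg Subtype.val (hab.is_comm.comm ⟨a, ha.1⟩ ⟨b, hb.1⟩)
          rw [hc.mul_pow, ha.2, hb.2, one_mul]⟩
        inv_mem' := fun {a} ha => ⟨inv_mem ha.1, by rw [inv_pow, ha.2, inv_one]⟩ }
    have hW : W.Normal := ⟨fun a ha g => ⟨Subgroup.Normal.conj_mem inferInstance a ha.1 g, by
      rw [conj_pow, ha.2]; group⟩⟩
    rcases hmin W hW (fun a ha => ha.1) with h | h
    · obtain ⟨z, hz⟩ := exists_prime_orderOf_dvd_card' (G := Q) q hqN
      have : (z : G) ∈ W := ⟨z.2, by rw [← SubgroupClass.coe_pow, ← hz, pow_orderOf_eq_one]; rfl⟩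
      rw [h, Subgroup.mem_bot] at this
      rw [show z = 1 from Subtype.ext this, orderOf_one] at hz
      exact absurd hz hq.one_lt.ne
    · intro a ha
      exact (h.symm.le ha).2
  have hel : Cfsg.IsElementaryAbelian q Q := ⟨hab, hexp⟩
  have hirr : ∀ B : Subgroup G, B ≤ Q → (∀ b ∈ B, x * b * x⁻¹ ∈ B) → B = ⊥ ∨ B = Q := by
    intro B hB hxB
    refine hmin B ?_ hB
    refine Subgroup.normalizer_eq_top_iff.mp (top_le_iff.mp (htop.symm.le.trans (sup_le ?_ ?_)))
    · refine le_trans ?_ (Subgroup.centralizer_le_normalizer _)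
      intro a ha
      exact Subgroup.mem_centralizer_iff.mpr fun b hb =>
        congrArg Subtype.val (hab.is_comm.comm ⟨b, hB hb⟩ ⟨a, ha⟩)
    · rw [Subgroup.zpowers_le]
      exact Subgroup.mem_normalizer_fintype hxB
  have hcard := card_eq_pow_orderOf hq hqp Q hel x
    (fun a ha => Subgroup.Normal.conj_mem inferInstance a ha x)
    (fun a _ => by rw [show x ^ p = 1 from hx ▸ pow_orderOf_eq_one x, one_mul, mul_one])
    (by
      by_contra h
      push Not at h
      exact hnc (Subgroup.mem_centralizer_iff.mpr fun b hb => (h b hb).symm)) hirr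
  refine ⟨q, hq, hqp, ?_, Q, inferInstance, hcard, hel, hmin⟩
  have hdisj : Q ⊓ P = ⊥ := by
    refine (Subgroup.disjoint_of_coprime_natCard ?_).eq_bot
    exact hcop.symm
  have h1 := Subgroup.relIndex_mul_relIndex ⊥ Q (Q ⊔ P) bot_le le_sup_left
  rw [Subgroup.relIndex_bot_left, Subgroup.relIndex_bot_left, Subgroup.relIndex_sup_left,
    ← Subgroup.inf_relIndex_right, hdisj, Subgroup.relIndex_bot_left, htop, Subgroup.card_top, hPc] at h1
  rw [← h1, ← hcard, mul_comm]

end Cfsg.Agent.MinNonPClosed71
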