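import Cfsg.Agent.Lib.TransferAlperin

/-!
Groups in which a prime `p` divides the order of every proper subgroup whose order is divisible by
`q` and is not a power of `q`: coprime actions on `q`-subgroups and the `q`-nilpotent case.
-/

namespace Cfsg.Agent.MixedTwoPrimes89

open Subgroup

universe u

variable {G : Type u} [Group G]

/-- The hypothesis on mixed subgroups. -/
def Mixed (p q : ℕ) (G : Type u) [Group G] : Prop :=
  ∀ H : Subgroup G, H ≠ ⊤ → ¬ IsPGroup q H → q ∣ Nat.card H → p ∣ Nat.card H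

theorem primes_of_dvd_pow_mul {p q r a b : ℕ} (hp : p.Prime) (hq : q.Prime) (hr : r.Prime)
    (h : r ∣ p ^ a * q ^ b) : r = p ∨ r = q := by
  rcases hr.dvd_mul.mp h with h | h
  · exact Or.inl ((Nat.prime_dvd_prime_iff_eq hr hp).mp (hr.dvd_of_dvd_pow h))
  · exact Or.inr ((Nat.prime_dvd_prime_iff_eq hr hq).mp (hr.dvd_of_dvd_pow h))

/-- A group whose order has no prime divisor except `p` is a `p`-group. -/
theorem isPGroup_of_primes {p : ℕ} [hp : Fact p.Prime] (H : Subgroup G) [Finite G]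
    (h : ∀ r : ℕ, r.Prime → r ∣ Nat.card H → r = p) : IsPGroup p H := by
  refine IsPGroup.of_card (n := (Nat.card H).primeFactorsList.length) ?_
  exact Nat.eq_prime_pow_of_unique_prime_dvd Nat.card_pos.ne' (fun hd hdvd => h _ hd hdvd)

/-- The order of the join with a normalising subgroup divides the product. -/
theorem card_sup_dvd (T Z : Subgroup G) [Finite G] (h : Z ≤ normalizer (T : Set G)) :
    Nat.card (T ⊔ Z : Subgroup G) ∣ Nat.card T * Nat.card Z := by
  have hTN : T ≤ normalizer (T : Set G) := le_normalizer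
  set N := normalizer (T : Set G)
  have hsup : T ⊔ Z ≤ N := sup_le hTN h
  have hn : (T.subgroupOf N).Normal := normal_in_normalizer
  have h1 : T.relIndex (T ⊔ Z) = T.relIndex Z := by
    rw [← relIndex_subgroupOf hsup, ← relIndex_subgroupOf h, subgroupOf_sup hTN h]
    exact relIndex_sup_left _ _
  have h2 : Nat.card (T ⊔ Z : Subgroup G) = Nat.card T * T.relIndex Z := by
    rw [← h1, ← relIndex_bot_left T, ← relIndex_bot_left (T ⊔ Z),
      relIndex_mul_relIndex ⊥ T (T ⊔ Z) bot_le le_sup_left]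
  rw [h2]
  exact Nat.mul_dvd_mul_left _ (relIndex_dvd_card T Z)

theorem conj_pow_apply {x : G} {N : Subgroup G} (hx : x ∈ normalizer (N : Set G)) {t : G}
    (ht : t ∈ N) (n : ℕ) : x ^ n * t * (x ^ n)⁻¹ ∈ N :=
  ((normalizer (N : Set G)).pow_mem hx n |> mem_normalizer_iff.mp) t |>.mp ht

variable [Finite G]

/-- A `p`-element moving a `q`-subgroup: either `p` is small, or the action is transitive and fixed
point free on a `q`-subgroup of maximal order. -/
theorem moved_bound {p q : ℕ} [hp : Fact p.Prime] [hq : Fact q.Prime] (hpq : p ≠ q)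
    {T : Subgroup G} (hT : IsPGroup q T) {x : G} (hxp : ∃ k, orderOf x = p ^ k)
    (hxN : x ∈ normalizer (T : Set G)) (hxC : x ∉ centralizer (T : Set G))
    (hlarge : q ^ (Nat.card G).factorization q - 1 ≤ p) :
    p = q ^ (Nat.card G).factorization q - 1 ∧ Nat.card T = q ^ (Nat.card G).factorization q ∧
      (∀ t ∈ T, x * t * x⁻¹ = t → t = 1) ∧
      (∀ s ∈ T, ∀ t ∈ T, s ≠ 1 → t ≠ 1 → ∃ n : ℕ, x ^ n * s * (x ^ n)⁻¹ = t) := by
  classical
  set v := (Nat.card G).factorization q
  have hZN : zpowers x ≤ normalizer (T : Set G) := zpowers_le.mpr hxN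
  let φ : zpowers x →* MulAut T := T.normalizerMonoidHom.comp (Subgroup.inclusion hZN)
  let _ : MulAction (zpowers x) T := MulAction.compHom T φ
  have hact : ∀ (g : zpowers x) (t : T), ((g • t : T) : G) = (g : G) * t * (g : G)⁻¹ := fun _ _ => rfl
  obtain ⟨k, hk⟩ := hxp
  have hZ : IsPGroup p (zpowers x) := IsPGroup.of_card (n := k) (by rw [Nat.card_zpowers, hk])
  obtain ⟨b, hb⟩ := IsPGroup.iff_card.mp hT
  have hbv : b ≤ v := by
    refine (Nat.Prime.pow_dvd_iff_le_factorization hq.out Nat.card_pos.ne').mp ?_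
    rw [← hb]; exact card_subgroup_dvd_card T
  let F : Subgroup T := (φ ⟨x, mem_zpowers x⟩).toMonoidHom.eqLocus (MonoidHom.id T)
  have hmemF : ∀ t : T, t ∈ F ↔ x * (t : G) * x⁻¹ = t := by
    intro t
    constructor
    · intro h
      exact congrArg Subtype.val h
    · intro h
      exact Subtype.ext h
  have hfix : ∀ t : T, t ∈ MulAction.fixedPoints (zpowers x) T ↔ t ∈ F := by
    intro t
    rw [hmemF]
    constructor
    · intro h
      exact congrArg Subtype.val (h ⟨x, mem_zpowers x⟩)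
    · intro h ⟨g, hg⟩
      apply Subtype.ext
      rw [hact]
      have hc : x ∈ centralizer ({(t : G)} : Set G) := by
        rw [mem_centralizer_singleton_iff]
        exact (mul_inv_eq_iff_eq_mul.mp h).trans rfl
      have := (zpowers_le.mpr hc) hg
      rw [mem_centralizer_singleton_iff] at this
      rw [this, mul_inv_cancel_right]
  have hFcard : Nat.card (MulAction.fixedPoints (zpowers x) T) = Nat.card F :=
    Nat.card_congr (Equiv.subtypeEquivRight hfix)
  obtain ⟨d, hd⟩ := IsPGroup.iff_card.mp (hT.to_subgroup F)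
  have hFne : F ≠ ⊤ := by
    intro h
    apply hxC
    rw [mem_centralizer_iff]
    intro t ht
    have h1 := (hmemF ⟨t, ht⟩).mp (h ▸ mem_top _)
    exact ((mul_inv_eq_iff_eq_mul.mp h1)).symm
  have hdb : d < b := by
    have hlt : Nat.card F < Nat.card T := by
      rcases (Subgroup.card_le_card_group F).lt_or_eq with h | h
      · exact h
      · exact absurd (eq_top_of_card_eq F h) hFne
    rw [hd, hb] at hlt
    exact (Nat.pow_lt_pow_iff_right hq.out.one_lt).mp hlt
  have hmod := hZ.card_modEq_card_fixedPoints T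
  rw [hFcard, hd, hb] at hmod
  have hdvd : p ∣ q ^ (b - d) - 1 := by
    have h1 : p ∣ q ^ b - q ^ d :=
      (Nat.modEq_iff_dvd' (Nat.pow_le_pow_right hq.out.pos hdb.le)).mp hmod.symm
    have h2 : q ^ b - q ^ d = q ^ d * (q ^ (b - d) - 1) := by
      rw [Nat.mul_sub, mul_one, ← pow_add, Nat.add_sub_cancel' hdb.le]
    rw [h2] at h1
    rcases hp.out.dvd_mul.mp h1 with h | h
    · exact absurd ((Nat.prime_dvd_prime_iff_eq hp.out hq.out).mp (hp.out.dvd_of_dvd_pow h)) hpq
    · exact h
  have hpos : 0 < q ^ (b - d) - 1 := by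
    have : 1 < q ^ (b - d) := Nat.one_lt_pow (by omega) hq.out.one_lt
    omega
  have hle := Nat.le_of_dvd hpos hdvd
  have hbd : q ^ (b - d) ≤ q ^ v := Nat.pow_le_pow_right hq.out.pos (by omega)
  have heq : p = q ^ v - 1 ∧ q ^ (b - d) = q ^ v := by omega
  have hbd' : b - d = v := Nat.pow_right_injective hq.out.two_le heq.2
  have hd0 : d = 0 := by omega
  have hbv' : b = v := by omega
  have hFbot : F = ⊥ := Subgroup.eq_bot_of_card_eq F (by rw [hd, hd0, pow_zero])
  have hfree : ∀ t ∈ T, x * t * x⁻¹ = t → t = 1 := by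
    intro t ht h
    have h1 := (hmemF ⟨t, ht⟩).mpr h
    rw [hFbot, mem_bot] at h1
    exact congrArg Subtype.val h1
  refine ⟨heq.1, by rw [hb, hbv'], hfree, ?_⟩
  intro s hs t ht hs1 ht1
  have horb : MulAction.orbit (zpowers x) (⟨s, hs⟩ : T) = {u : T | u ≠ 1} := by
    have hsub : MulAction.orbit (zpowers x) (⟨s, hs⟩ : T) ⊆ {u : T | u ≠ 1} := by
      rintro u ⟨g, rfl⟩ h
      apply hs1
      have h2 : (g : G) * s * (g : G)⁻¹ = 1 := by
        rw [← hact g ⟨s, hs⟩]; exact congrArg Subtype.val h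
      exact conj_eq_one_iff.mp h2
    refine Set.eq_of_subset_of_ncard_le hsub ?_ (Set.toFinite _)
    obtain ⟨n, hn⟩ := hZ.card_orbit (⟨s, hs⟩ : T)
    have hn0 : n ≠ 0 := by
      intro h0
      rw [h0, pow_zero] at hn
      apply hs1
      have hsub1 := (Nat.card_eq_one_iff_unique.mp hn).1
      exact hfree s hs (congrArg Subtype.val (congrArg Subtype.val
        (hsub1.elim ⟨(⟨x, mem_zpowers x⟩ : zpowers x) • (⟨s, hs⟩ : T), MulAction.mem_orbit _ _⟩
          ⟨⟨s, hs⟩, MulAction.mem_orbit_self _⟩)))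
    have h2 : {u : T | u ≠ 1}.ncard = Nat.card T - 1 := by
      have : {u : T | u ≠ 1} = ({1} : Set T)ᶜ := rfl
      rw [this, Set.ncard_compl, Set.ncard_singleton]
    rw [h2, hb, hbv', ← Nat.card_coe_set_eq, hn, ← heq.1]
    exact Nat.le_self_pow hn0 p
  have ht' : (⟨t, ht⟩ : T) ∈ MulAction.orbit (zpowers x) (⟨s, hs⟩ : T) := by
    rw [horb]
    intro h
    exact ht1 (congrArg Subtype.val h)
  obtain ⟨⟨g, hg⟩, hgt⟩ := ht'
  obtain ⟨n, rfl⟩ : ∃ n : ℕ, x ^ n = g :=
    (isOfFinOrder_of_finite x).mem_powers_iff_mem_zpowers.mpr hg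
  exact ⟨n, by rw [← hact ⟨x ^ n, hg⟩ ⟨s, hs⟩]; exact congrArg Subtype.val hgt⟩

/-- No element of a third prime order normalises a nontrivial `q`-subgroup, and no nontrivial
`q`-element normalises a nontrivial subgroup of order prime to `p` and `q`. -/
theorem no_coprime_mixed {p q : ℕ} [hp : Fact p.Prime] [hq : Fact q.Prime]
    (hmix : Mixed p q G) (hpG : p ∣ Nat.card G) {T Z : Subgroup G}
    (hZ : Z ≤ normalizer (T : Set G)) (hT : ¬ p ∣ Nat.card T) (hZp : ¬ p ∣ Nat.card Z)
    (hqd : q ∣ Nat.card T ∨ q ∣ Nat.card Z)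
    (hnq : ¬ IsPGroup q T ∨ ¬ IsPGroup q Z) : False := by
  set H := T ⊔ Z
  have hnp : ¬ p ∣ Nat.card H := fun h => by
    rcases hp.out.dvd_mul.mp (h.trans (card_sup_dvd T Z hZ)) with h | h
    · exact hT h
    · exact hZp h
  by_cases hH : H = ⊤
  · exact hnp (by rw [hH, card_top]; exact hpG)
  · refine hnp (hmix H hH (fun h => ?_) ?_)
    · rcases hnq with h' | h'
      · exact h' (h.to_le le_sup_left)
      · exact h' (h.to_le le_sup_right)
    · rcases hqd with h | h
      · exact h.trans (card_dvd_of_le le_sup_left)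
      · exact h.trans (card_dvd_of_le le_sup_right)

/-- Subgroups normalising a nontrivial `q`-subgroup only involve `p` and `q`. -/
theorem normalizer_primes {p q : ℕ} [hp : Fact p.Prime] [hq : Fact q.Prime] (hpq : p ≠ q)
    (hmix : Mixed p q G) (hpG : p ∣ Nat.card G) {T : Subgroup G} (hT : IsPGroup q T) (hT1 : T ≠ ⊥)
    {r : ℕ} (hr : r.Prime) (hrd : r ∣ Nat.card (normalizer (T : Set G))) : r = p ∨ r = q := by
  by_contra hcon
  push Not at hcon
  have := Fact.mk hr
  obtain ⟨x, hx⟩ := exists_prime_orderOf_dvd_card' r hrd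
  obtain ⟨b, hb⟩ := IsPGroup.iff_card.mp hT
  have hb0 : b ≠ 0 := by
    intro h0
    exact hT1 (Subgroup.eq_bot_of_card_eq T (by rw [hb, h0, pow_zero]))
  refine no_coprime_mixed hmix hpG (T := T) (Z := zpowers (x : G)) (zpowers_le.mpr x.2) ?_ ?_
    (Or.inl (by rw [hb]; exact dvd_pow_self q hb0)) (Or.inr ?_)
  · rw [hb]
    exact fun h => hpq ((Nat.prime_dvd_prime_iff_eq hp.out hq.out).mp (hp.out.dvd_of_dvd_pow h))
  · rw [Nat.card_zpowers, orderOf_coe, hx]
    exact fun h => hcon.1 ((Nat.prime_dvd_prime_iff_eq hp.out hr).mp h).symm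
  · intro h
    obtain ⟨c, hc⟩ := IsPGroup.iff_card.mp h
    rw [Nat.card_zpowers, orderOf_coe, hx] at hc
    exact hcon.2 ((Nat.prime_dvd_prime_iff_eq hr hq.out).mp (hr.dvd_of_dvd_pow (dvd_of_eq hc)))

/-- A group with a normal subgroup of index a nontrivial power of `q` and order prime to `q`
satisfies the conclusion. -/
theorem primes_of_normal_complement {p q : ℕ} [hp : Fact p.Prime] [hq : Fact q.Prime] (hpq : p ≠ q)
    (hmix : Mixed p q G) (hpG : p ∣ Nat.card G) (hqG : q ∣ Nat.card G) (K : Subgroup G) [K.Normal]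
    {b : ℕ} (hK : K.index = q ^ b) (hqK : ¬ q ∣ Nat.card K)
    {r : ℕ} (hr : r.Prime) (hrd : r ∣ Nat.card G) : r = p ∨ r = q := by
  by_contra hcon
  push Not at hcon
  have := Fact.mk hr
  have hb0 : b ≠ 0 := by
    intro h0
    rw [h0, pow_zero, index_eq_one] at hK
    exact hqK (by rw [hK, card_top]; exact hqG)
  have hrK : r ∣ Nat.card K := by
    rw [← K.card_mul_index, hK] at hrd
    rcases hr.dvd_mul.mp hrd with h | h
    · exact h
    · exact absurd ((Nat.prime_dvd_prime_iff_eq hr hq.out).mp (hr.dvd_of_dvd_pow h)) hcon.2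
  let R : Sylow r K := default
  have htop := Sylow.normalizer_sup_eq_top R
  set R' : Subgroup G := (R : Subgroup K).map K.subtype
  set N := normalizer (R' : Set G)
  have hqN : q ∣ Nat.card N := by
    have h1 : K.index = K.relIndex N := by
      rw [← relIndex_top_right, ← htop, relIndex_sup_right]
    refine (dvd_pow_self q hb0).trans ?_
    rw [← hK, h1]
    exact relIndex_dvd_card K N
  obtain ⟨y, hy⟩ := exists_prime_orderOf_dvd_card' q hqN
  obtain ⟨j, hj⟩ := IsPGroup.iff_card.mp (R.2.map K.subtype)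
  have hR' : Nat.card R' = r ^ j := hj
  have hj0 : j ≠ 0 := by
    intro h0
    have h1 : Nat.card (R : Subgroup K) = 1 := by
      rw [← Subgroup.card_map_of_injective (f := K.subtype) K.subtype_injective]
      rw [show Nat.card ((R : Subgroup K).map K.subtype) = r ^ j from hR', h0, pow_zero]
    rw [R.card_eq_multiplicity] at h1
    exact (hr.factorization_pos_of_dvd Nat.card_pos.ne' hrK).ne'
      ((Nat.pow_eq_one.mp h1).resolve_left hr.ne_one)
  refine no_coprime_mixed hmix hpG (T := R') (Z := zpowers (y : G)) (zpowers_le.mpr y.2) ?_ ?_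
    (Or.inr (by rw [Nat.card_zpowers, orderOf_coe, hy])) (Or.inl ?_)
  · rw [hR']
    exact fun h => hcon.1 ((Nat.prime_dvd_prime_iff_eq hp.out hr).mp (hp.out.dvd_of_dvd_pow h)).symm
  · rw [Nat.card_zpowers, orderOf_coe, hy]
    exact fun h => hpq ((Nat.prime_dvd_prime_iff_eq hp.out hq.out).mp h)
  · intro h
    obtain ⟨c, hc⟩ := IsPGroup.iff_card.mp h
    rw [hR'] at hc
    exact hcon.2 ((Nat.prime_dvd_prime_iff_eq hr hq.out).mp
      (hr.dvd_of_dvd_pow (hc ▸ dvd_pow_self r hj0)))

/-- Without a moving `p`-element the conclusion holds. -/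
theorem primes_of_no_moved {p q : ℕ} [hp : Fact p.Prime] [hq : Fact q.Prime] (hpq : p ≠ q)
    (hmix : Mixed p q G) (hpG : p ∣ Nat.card G) (hqG : q ∣ Nat.card G)
    (hno : ∀ (T : Subgroup G) (x : G), IsPGroup q T → (∃ k, orderOf x = p ^ k) →
      x ∈ normalizer (T : Set G) → x ∈ centralizer (T : Set G))
    {r : ℕ} (hr : r.Prime) (hrd : r ∣ Nat.card G) : r = p ∨ r = q := by
  let Q : Sylow q G := default
  have hnc : Cfsg.HasNormalPComplement q G := by
    refine TransferAlperin.hasNormalPComplement_of_tame Q ?_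
    intro T hTQ _ _ _ _ g hg hgc
    by_cases hT1 : T = ⊥
    · subst hT1
      rw [mem_centralizer_iff]
      intro t ht
      rw [SetLike.mem_coe, mem_bot] at ht
      subst ht
      simp
    · have hTp : IsPGroup q T := Q.2.to_le hTQ
      refine hno T g hTp ?_ hg
      refine ⟨(orderOf g).primeFactorsList.length, ?_⟩
      refine Nat.eq_prime_pow_of_unique_prime_dvd (orderOf_pos g).ne' (fun {d} hd hdvd => ?_)
      have hdN : d ∣ Nat.card (normalizer (T : Set G)) := by
        refine hdvd.trans ?_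
        rw [← orderOf_mk g hg]
        exact orderOf_dvd_natCard _
      rcases normalizer_primes hpq hmix hpG hTp hT1 hd hdN with h | h
      · exact h
      · exact absurd (hgc.symm.eq_one_of_dvd (h ▸ hdvd) : q = 1) hq.out.ne_one
  obtain ⟨P, N, hN, hc⟩ := hnc
  obtain ⟨b, hb⟩ := IsPGroup.iff_card.mp P.2
  refine primes_of_normal_complement hpq hmix hpG hqG N (b := b) ?_ ?_ hr hrd
  · rw [hc.symm.index_eq_card, hb]
  · rw [← hc.index_eq_card]
    exact P.not_dvd_index

end Cfsg.Agent.MixedTwoPrimes89
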