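import Cfsg.Agent.Lib.MixedTwoPrimesFriendship89

/-!
The case in which every `p`-element centralising an involution of `Q` centralises `Q`: a count of
involutions gives a contradiction.
-/

namespace Cfsg.Agent.MixedTwoPrimes89

open Subgroup
open scoped Pointwise

universe u

variable {G : Type u} [Group G] [Finite G] {p v : ℕ} {Q : Subgroup G} {x : G} (S : Setup p v Q x)
  (hB : ∀ t ∈ Q, t ≠ 1 → ∀ e : G, (∃ k, orderOf e = p ^ k) → t * e = e * t →
    ∀ s ∈ Q, s * e = e * s)

omit [Finite G] in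
theorem conj_orderOf (g y : G) : orderOf (g⁻¹ * y * g) = orderOf y := by
  have h : g⁻¹ * y * g = MulAut.conj g⁻¹ y := by simp [MulAut.conj_apply]
  rw [h, MulEquiv.orderOf_eq]

omit [Finite G] in
theorem smul_mem_iff [Finite G] [Fact p.Prime] (g : G) (P : Sylow p G) (a : G) :
    a ∈ ((g • P : Sylow p G) : Subgroup G) ↔ g⁻¹ * a * g ∈ (P : Subgroup G) := by
  rw [Sylow.coe_subgroup_smul]
  constructor
  · rintro ⟨d, hd, rfl⟩
    simp only [MulDistribMulAction.toMonoidEnd_apply, MulDistribMulAction.toMonoidHom_apply,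
      MulAut.smul_def, MulAut.conj_apply]
    rw [show g⁻¹ * (g * d * g⁻¹) * g = d by group]
    exact hd
  · intro h
    refine ⟨_, h, ?_⟩
    simp only [MulDistribMulAction.toMonoidEnd_apply, MulDistribMulAction.toMonoidHom_apply,
      MulAut.smul_def, MulAut.conj_apply]
    group

include S

theorem pelem_mem {H : Subgroup G} (hH : IsPGroup p H) {g : G} (hg : g ∈ H) :
    ∃ k, orderOf g = p ^ k := by
  have := Fact.mk S.hp
  obtain ⟨k, hk⟩ := IsPGroup.iff_orderOf.mp hH ⟨g, hg⟩
  exact ⟨k, by rw [← hk, orderOf_mk]⟩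

theorem eq_one_of_sq {g : G} (hg : ∃ k, orderOf g = p ^ k) (h2 : g * g = 1) : g = 1 := by
  obtain ⟨l, -, hl⟩ := (Nat.dvd_prime_pow Nat.prime_two).mp
    (orderOf_dvd_of_pow_eq_one (show g ^ (2 ^ 1) = 1 by rw [pow_one, pow_two]; exact h2))
  exact eq_one_of_p_two S hg ⟨l, hl⟩

theorem inv_sq {i : G} (hi : orderOf i = 2) : i * i = 1 := by
  rw [← pow_two, ← hi]; exact pow_orderOf_eq_one i

/-- The centraliser of a nontrivial `p`-element centralising `Q` normalises `Q`. -/
theorem claimN {c : G} (hc : ∃ k, orderOf c = p ^ k) (hc1 : c ≠ 1) (hcQ : ∀ a ∈ Q, a * c = c * a) :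
    (∀ g, g * c = c * g → g ∈ normalizer (Q : Set G)) ∧
      ∃ P : Sylow p G, c ∈ (P : Subgroup G) ∧ x ∈ (P : Subgroup G) := by
  have := Fact.mk S.hp
  have := Fact.mk Nat.prime_two
  have hCQ : centralizer (Q : Set G) ≠ ⊤ := by
    intro h
    obtain ⟨t, ht, ht1⟩ := exists_third S
    have h1 := mem_centralizer_iff.mp (h ▸ mem_top x) t ht
    exact ht1 (S.free t ht (by rw [← h1, mul_inv_cancel_right]))
  have hQC : Q ≤ centralizer (Q : Set G) := fun a ha =>
    mem_centralizer_iff.mpr fun b hb => commQ S hb ha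
  obtain ⟨O, hO, hOC, -, -, hpmem⟩ := two_split S hCQ hQC (fun g hg _ _ => hg)
  have hcO : c ∈ O := hpmem c (mem_centralizer_iff.mpr fun a ha => hcQ a ha) hc
  have hxN : zpowers x ≤ normalizer (O : Set G) := by
    rw [zpowers_le, mem_normalizer_iff_conj_le]
    intro d hd
    refine hpmem _ (mem_centralizer_iff.mpr fun a ha => ?_) ?_
    · have ha' : x⁻¹ * a * x ∈ Q := by
        have := conj_mem_normalizer (inv_mem S.x_norm) ha
        rwa [inv_inv] at this
      have h1 := mem_centralizer_iff.mp (hOC hd) _ ha'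
      calc a * (x * d * x⁻¹) = x * ((x⁻¹ * a * x) * d) * x⁻¹ := by group
        _ = x * d * x⁻¹ * a := by rw [h1]; group
    · obtain ⟨k, hk⟩ := pelem_mem S hO hd
      exact ⟨k, by rw [← MulAut.conj_apply, MulEquiv.orderOf_eq, hk]⟩
  obtain ⟨k, hk⟩ := S.x_p
  have hsup : IsPGroup p (zpowers x ⊔ O : Subgroup G) :=
    (IsPGroup.of_card (n := k) (by rw [Nat.card_zpowers, hk])).to_sup_of_normal_right' hO hxN
  obtain ⟨P, hP⟩ := hsup.exists_le_sylow
  have hxP : x ∈ (P : Subgroup G) := hP (le_sup_left (α := Subgroup G) (mem_zpowers x))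
  have hcP : c ∈ (P : Subgroup G) := hP (le_sup_right (α := Subgroup G) hcO)
  refine ⟨?_, P, hcP, hxP⟩
  set H := centralizer ({c} : Set G) with hHdef
  have hH : H ≠ ⊤ := centralizer_ne_top S hc1
  have hPH : (P : Subgroup G) ≤ H := fun g hg =>
    mem_centralizer_singleton_iff.mpr (comm_of_pgroup S P.2 hg hcP)
  have hQH : Q ≤ H := fun a ha => mem_centralizer_singleton_iff.mpr (hcQ a ha)
  obtain ⟨a, b, hav, hcard⟩ := card_split S hH (two_dvd_of_le S hQH)
  let P' : Sylow p H := P.subtype hPH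
  have hP' : ((P' : Subgroup H) : Subgroup H) = (P : Subgroup G).subgroupOf H := P.coe_subtype hPH
  let Q₀ : Sylow 2 G := Sylow.ofCard Q (by rw [S.card_Q, S.card_fac])
  let Q' : Sylow 2 H := Q₀.subtype hQH
  have hQ' : ((Q' : Subgroup H) : Subgroup H) = Q.subgroupOf H := Q₀.coe_subtype hQH
  have hidxP : (P' : Subgroup H).index ∣ 2 ^ a := by
    have h1 : (P' : Subgroup H).index ∣ 2 ^ a * p ^ b := hcard ▸ (P' : Subgroup H).index_dvd_card
    exact ((Nat.Coprime.pow_left b ((Nat.Prime.coprime_iff_not_dvd S.hp).mpr P'.not_dvd_index)).symm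
      |> fun h => h.dvd_of_dvd_mul_right h1)
  have hn : Nat.card (Sylow p H) ∣ 2 ^ a := (Sylow.card_dvd_index P').trans hidxP
  obtain ⟨e, he, hne⟩ := (Nat.dvd_prime_pow Nat.prime_two).mp hn
  have hpd : p ∣ 2 ^ e - 1 := by
    have h := card_sylow_modEq_one p H
    rw [hne] at h
    exact (Nat.modEq_iff_dvd' Nat.one_le_two_pow).mp h.symm
  have he' : e = 0 ∨ e = v := by
    by_contra hh
    push Not at hh
    have h1 : 2 ^ e - 1 < p := by
      have h2 : 2 ^ e < 2 ^ v := Nat.pow_lt_pow_right (by norm_num) (by omega)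
      have := S.p_eq
      have := Nat.one_le_two_pow (n := e)
      omega
    have h3 : 0 < 2 ^ e - 1 := by
      have : 1 < 2 ^ e := Nat.one_lt_pow hh.1 (by norm_num)
      omega
    exact absurd (Nat.le_of_dvd h3 hpd) (by omega)
  rcases he' with h0 | hev
  · exfalso
    have hN1 : (normalizer ((P' : Subgroup H) : Set H)) = ⊤ := by
      rw [← index_eq_one]
      exact P'.card_eq_index_normalizer.symm.trans (by rw [hne, h0, pow_zero])
    have hQN : Q ≤ normalizer ((P : Subgroup G) : Set G) := by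
      intro q hq
      rw [mem_normalizer_iff_conj_le]
      intro d hd
      have h1 : (⟨d, hPH hd⟩ : H) ∈ (P' : Subgroup H) := by rw [hP']; exact hd
      have h2 := (mem_normalizer_iff.mp (hN1 ▸ mem_top (⟨q, hQH hq⟩ : H)) ⟨d, hPH hd⟩).mp h1
      rw [hP'] at h2
      exact h2
    obtain ⟨t, ht, ht1⟩ := exists_third S
    have h1 := mem_centralizer_iff.mp (centralizes_of_common S P hQN hxP S.x_norm) t ht
    exact ht1 (S.free t ht (by rw [← h1, mul_inv_cancel_right]))
  · have hva : a = v := by omega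
    have hQcard : Nat.card (Q' : Subgroup H) = 2 ^ v := by
      rw [hQ', Nat.card_congr (subgroupOfEquivOfLe hQH).toEquiv, S.card_Q]
    have hle : (P' : Subgroup H) ≤ normalizer ((P' : Subgroup H) : Set H) := le_normalizer
    have hNi : (normalizer ((P' : Subgroup H) : Set H)).index = 2 ^ v := by
      exact P'.card_eq_index_normalizer.symm.trans (by rw [hne, hev])
    have hrel : (P' : Subgroup H).index = 2 ^ v := by
      have h1 : 2 ^ v ∣ (P' : Subgroup H).index := hNi ▸ index_dvd_of_le hle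
      exact Nat.dvd_antisymm (hva ▸ hidxP) h1
    have hNP : normalizer ((P' : Subgroup H) : Set H) = (P' : Subgroup H) := by
      refine (eq_of_le_of_card_ge hle ?_).symm
      have h1 := (P' : Subgroup H).card_mul_index
      have h2 := (normalizer ((P' : Subgroup H) : Set H)).card_mul_index
      rw [hrel] at h1
      rw [hNi] at h2
      exact (Nat.eq_of_mul_eq_mul_right (by positivity) (h2.trans h1.symm)).le
    have hN : normalizer ((P' : Subgroup H) : Set H) ≤ centralizer ((P' : Subgroup H) : Set H) := by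
      rw [hNP]
      intro g hg
      rw [mem_centralizer_iff]
      intro d hd
      rw [SetLike.mem_coe, hP'] at hd
      rw [hP'] at hg
      exact Subtype.ext (comm_of_pgroup S P.2 hd hg)
    obtain ⟨K, hKn, hKc⟩ : ∃ K : Subgroup H, K.Normal ∧ IsComplement' K (P' : Subgroup H) :=
      ⟨_, MonoidHom.normal_ker _, MonoidHom.ker_transferSylow_isComplement' P' hN⟩
    have hKcard : Nat.card K = 2 ^ v := by rw [← hKc.index_eq_card, hrel]
    have hKeq : K = (Q' : Subgroup H) := by
      have hK2 : IsPGroup 2 K := IsPGroup.of_card hKcard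
      obtain ⟨Q'', hQ''⟩ := hK2.exists_le_sylow
      have h1 : K = (Q'' : Subgroup H) := eq_of_le_of_card_ge hQ'' (by
        rw [hKcard, ← hQcard, Sylow.card_eq_multiplicity, Sylow.card_eq_multiplicity])
      have hn' : (Q'' : Subgroup H).Normal := h1 ▸ hKn
      have := Q''.unique_of_normal hn'
      rw [h1, Subsingleton.elim Q'' Q']
    intro g hg
    rw [mem_normalizer_iff_conj_le]
    intro q hq
    have hgH : g ∈ H := mem_centralizer_singleton_iff.mpr hg
    have h1 : (⟨q, hQH hq⟩ : H) ∈ K := by rw [hKeq, hQ']; exact hq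
    have h2 := hKn.conj_mem _ h1 ⟨g, hgH⟩
    rw [hKeq, hQ'] at h2
    exact h2

include hB

/-- An element inverted by an involution is centralised by no involution. -/
theorem no_centralised {y i z : G} (hy : ∃ k, orderOf y = p ^ k) (hy1 : y ≠ 1) (hi : orderOf i = 2)
    (hiy : i * y * i⁻¹ = y⁻¹) (hz : orderOf z = 2) (hzy : z * y = y * z) : False := by
  have := Fact.mk Nat.prime_two
  obtain ⟨t, ht, ht1⟩ := exists_third S
  obtain ⟨h, hh⟩ := inv_conj S hz ht ht1
  set y' := h⁻¹ * y * h with hy'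
  set i' := h⁻¹ * i * h with hi'
  have hy'p : ∃ k, orderOf y' = p ^ k := by rw [hy', conj_orderOf]; exact hy
  have hy'1 : y' ≠ 1 := fun e => hy1 (by
    calc y = h * y' * h⁻¹ := by rw [hy']; group
      _ = 1 := by rw [e]; group)
  have hty : t * y' = y' * t := by
    calc t * y' = h⁻¹ * ((h * t * h⁻¹) * y) * h := by rw [hy']; group
      _ = h⁻¹ * (y * (h * t * h⁻¹)) * h := by rw [← hh, hzy]
      _ = y' * t := by rw [hy']; group
  have hQy : ∀ a ∈ Q, a * y' = y' * a := hB t ht ht1 y' hy'p hty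
  obtain ⟨hN, -⟩ := claimN S hy'p hy'1 hQy
  have hi2 : orderOf i' = 2 := by rw [hi', conj_orderOf, hi]
  have hinv : i' * y' * i'⁻¹ = y'⁻¹ := by
    calc i' * y' * i'⁻¹ = h⁻¹ * (i * y * i⁻¹) * h := by rw [hi', hy']; group
      _ = y'⁻¹ := by rw [hiy, hy']; group
  have hiN : i' ∈ normalizer (Q : Set G) := by
    rw [mem_normalizer_iff_conj_le]
    intro q hq
    refine two_mem_of_normalizes S ?_ (hN _ ?_)
    · by_cases hq1 : q = 1
      · exact ⟨0, by rw [hq1, mul_one, mul_inv_cancel, orderOf_one, pow_zero]⟩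
      · exact ⟨1, by rw [← MulAut.conj_apply, MulEquiv.orderOf_eq, orderOf_Q S hq hq1, pow_one]⟩
    · have h1 : q * y'⁻¹ = y'⁻¹ * q := (Commute.inv_right (hQy q hq))
      have h2 : i'⁻¹ * y' * i' = y'⁻¹ := by
        have : i'⁻¹ = i' := inv_eq_of_mul_eq_one_right (inv_sq S hi2)
        rw [this]; rw [this] at hinv; exact hinv
      calc i' * q * i'⁻¹ * y' = i' * (q * (i'⁻¹ * y' * i')) * i'⁻¹ := by group
        _ = i' * (y'⁻¹ * q) * i'⁻¹ := by rw [h2, h1]
        _ = (i' * y'⁻¹ * i'⁻¹) * (i' * q * i'⁻¹) := by group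
        _ = y' * (i' * q * i'⁻¹) := by rw [← conj_inv, hinv, inv_inv]
  have hiQ : i' ∈ Q := two_mem_of_normalizes S ⟨1, by rw [hi2, pow_one]⟩ hiN
  apply hy'1
  refine eq_one_of_sq S hy'p ?_
  rw [hQy i' hiQ, mul_inv_cancel_right] at hinv
  nth_rw 1 [hinv]
  exact inv_mul_cancel y'

/-- An inverted element lies in a single Sylow subgroup, its centraliser, which is normalised by
the inverting involution. -/
theorem strong {y i : G} (hy : ∃ k, orderOf y = p ^ k) (hy1 : y ≠ 1) (hi : orderOf i = 2)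
    (hiy : i * y * i⁻¹ = y⁻¹) :
    ∃ P : Sylow p G, (P : Subgroup G) = centralizer ({y} : Set G) ∧
      i ∈ normalizer ((P : Subgroup G) : Set G) ∧ ∀ R : Sylow p G, y ∈ (R : Subgroup G) → R = P := by
  have := Fact.mk S.hp
  have := Fact.mk Nat.prime_two
  obtain ⟨k, hk⟩ := hy
  have hZ : IsPGroup p (zpowers y) := IsPGroup.of_card (n := k) (by rw [Nat.card_zpowers, hk])
  have hiN : i ∈ normalizer ((zpowers y : Subgroup G) : Set G) := by
    rw [mem_normalizer_iff_conj_le]
    intro c hc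
    obtain ⟨m, rfl⟩ := mem_zpowers_iff.mp hc
    rw [← conj_zpow, hiy]
    exact zpow_mem (inv_mem (mem_zpowers y)) m
  set K := normalizer ((zpowers y : Subgroup G) : Set G)
  have hK : K ≠ ⊤ := normalizer_ne_top S hZ (zpowers_ne_bot.mpr hy1)
  have h2K : 2 ∣ Nat.card K := by
    rw [← hi, ← orderOf_mk i hiN]; exact orderOf_dvd_natCard _
  have hCK : centralizer ({y} : Set G) ≤ K := by
    intro g hg
    rw [mem_normalizer_iff_conj_le]
    intro c hc
    obtain ⟨m, rfl⟩ := mem_zpowers_iff.mp hc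
    rw [← conj_zpow, mem_centralizer_singleton_iff.mp hg, mul_inv_cancel_right]
    exact zpow_mem (mem_zpowers y) m
  have hCp : IsPGroup p (centralizer ({y} : Set G)) := by
    refine isPGroup_of_primes _ fun r hr hrd => ?_
    rcases S.small K hK h2K r hr (hrd.trans (card_dvd_of_le hCK)) with h | h
    · exact h
    · subst h
      obtain ⟨z, hz⟩ := exists_prime_orderOf_dvd_card' 2 hrd
      exact (no_centralised S hB ⟨k, hk⟩ hy1 hi hiy (z := z) (by rw [orderOf_coe, hz])
        (mem_centralizer_singleton_iff.mp z.2)).elim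
  have hall : ∀ R : Sylow p G, y ∈ (R : Subgroup G) → (R : Subgroup G) = centralizer ({y} : Set G) :=
    fun R hR => (R.3 hCp fun g hg =>
      mem_centralizer_singleton_iff.mpr (comm_of_pgroup S R.2 hg hR)).symm
  obtain ⟨P, hP⟩ := hZ.exists_le_sylow
  have hP' := hall P (hP (mem_zpowers y))
  refine ⟨P, hP', ?_, fun R hR => Sylow.ext ((hall R hR).trans hP'.symm)⟩
  rw [hP', mem_normalizer_iff_conj_le]
  intro g hg
  rw [mem_centralizer_singleton_iff] at hg ⊢
  have hiy' : i * y⁻¹ * i⁻¹ = y := by rw [← conj_inv, hiy, inv_inv]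
  calc i * g * i⁻¹ * y = i * g * i⁻¹ * (i * y⁻¹ * i⁻¹) := by rw [hiy']
    _ = i * (g * y⁻¹) * i⁻¹ := by group
    _ = i * (y⁻¹ * g) * i⁻¹ := by rw [(Commute.inv_right hg).eq]
    _ = (i * y⁻¹ * i⁻¹) * (i * g * i⁻¹) := by group
    _ = y * (i * g * i⁻¹) := by rw [hiy']

theorem exists_noncommuting : ∃ i j : G, orderOf i = 2 ∧ orderOf j = 2 ∧ i * j ≠ j * i := by
  by_contra hc
  push Not at hc
  set N := closure {i : G | orderOf i = 2}
  have hN : N.Normal := ⟨fun n hn g => by
    induction hn using closure_induction with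
    | mem i hi => exact subset_closure (show orderOf (g * i * g⁻¹) = 2 by
        rw [← MulAut.conj_apply, MulEquiv.orderOf_eq]; exact hi)
    | one => simp
    | mul a b _ _ iha ihb =>
      rw [show g * (a * b) * g⁻¹ = (g * a * g⁻¹) * (g * b * g⁻¹) by group]
      exact mul_mem iha ihb
    | inv a _ iha =>
      rw [show g * a⁻¹ * g⁻¹ = (g * a * g⁻¹)⁻¹ by group]
      exact inv_mem iha⟩
  obtain ⟨t, ht, ht1⟩ := exists_third S
  rcases S.simple N hN with h | h
  · exact ht1 (by
      have : t ∈ N := subset_closure (orderOf_Q S ht ht1)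
      rwa [h, mem_bot] at this)
  · apply centralizer_ne_top S ht1
    rw [eq_top_iff, ← h]
    show closure _ ≤ _
    rw [closure_le]
    intro i hi
    exact mem_centralizer_singleton_iff.mpr (hc i t hi (orderOf_Q S ht ht1))

/-- No nontrivial `p`-element centralises `Q`. -/
theorem central_trivial {c : G} (hc : ∃ k, orderOf c = p ^ k) (hcQ : ∀ a ∈ Q, a * c = c * a) :
    c = 1 := by
  have := Fact.mk S.hp
  have := Fact.mk Nat.prime_two
  by_contra hc1
  obtain ⟨hN, P₀, hcP, hxP⟩ := claimN S hc hc1 hcQ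
  obtain ⟨t, ht, ht1⟩ := exists_third S
  have hnone : ∀ i : G, orderOf i = 2 → i ∈ normalizer ((P₀ : Subgroup G) : Set G) → False := by
    intro i hi hiN
    have hii := inv_sq S hi
    have hinv : i * c * i⁻¹ = c⁻¹ := by
      by_contra hne
      have hb : i * c * i⁻¹ ∈ (P₀ : Subgroup G) := conj_mem_normalizer hiN hcP
      set d := c * (i * c * i⁻¹) with hd
      have hdP : d ∈ (P₀ : Subgroup G) := mul_mem hcP hb
      have hd1 : d ≠ 1 := fun h => hne (eq_inv_of_mul_eq_one_right h)
      have hid : i * d = d * i := by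
        calc i * d = (i * c * i⁻¹) * (i * (i * c * i⁻¹)) := by rw [hd]; group
          _ = (i * c * i⁻¹) * ((i * i) * c * i⁻¹) := by group
          _ = ((i * c * i⁻¹) * c) * i⁻¹ := by rw [hii]; group
          _ = d * i := by
            rw [comm_of_pgroup S P₀.2 hb hcP, ← hd, inv_eq_of_mul_eq_one_right hii]
      obtain ⟨h, hh⟩ := inv_conj S hi ht ht1
      set d' := h⁻¹ * d * h with hd'
      have hd'p : ∃ k, orderOf d' = p ^ k := by rw [hd', conj_orderOf]; exact pelem_mem S P₀.2 hdP
      have hd'1 : d' ≠ 1 := fun e => hd1 (by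
        calc d = h * d' * h⁻¹ := by rw [hd']; group
          _ = 1 := by rw [e]; group)
      have htd : t * d' = d' * t := by
        calc t * d' = h⁻¹ * ((h * t * h⁻¹) * d) * h := by rw [hd']; group
          _ = h⁻¹ * (d * (h * t * h⁻¹)) * h := by rw [← hh, hid]
          _ = d' * t := by rw [hd']; group
      obtain ⟨hN', -⟩ := claimN S hd'p hd'1 (hB t ht ht1 d' hd'p htd)
      have hcomm : ∀ g ∈ (P₀ : Subgroup G), g * i = i * g := by
        intro g hg
        have h1 : (h⁻¹ * g * h) ∈ normalizer (Q : Set G) := hN' _ (by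
          calc h⁻¹ * g * h * d' = h⁻¹ * (g * d) * h := by rw [hd']; group
            _ = d' * (h⁻¹ * g * h) := by rw [comm_of_pgroup S P₀.2 hg hdP, hd']; group)
        have h2 : g * i * g⁻¹ * i⁻¹ ∈ (P₀ : Subgroup G) := by
          rw [show g * i * g⁻¹ * i⁻¹ = g * (i * g⁻¹ * i⁻¹) by group]
          exact mul_mem hg (conj_mem_normalizer hiN (inv_mem hg))
        have h3 : h⁻¹ * (g * i * g⁻¹ * i⁻¹) * h ∈ Q := by
          rw [show h⁻¹ * (g * i * g⁻¹ * i⁻¹) * h =
            ((h⁻¹ * g * h) * (h⁻¹ * i * h) * (h⁻¹ * g * h)⁻¹) * (h⁻¹ * i * h)⁻¹ by group]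
          have hti : h⁻¹ * i * h = t := by rw [hh]; group
          rw [hti]
          exact mul_mem (conj_mem_normalizer h1 ht) (inv_mem ht)
        have h4 : h⁻¹ * (g * i * g⁻¹ * i⁻¹) * h = 1 := by
          refine eq_one_of_p_two S ?_ ?_
          · rw [conj_orderOf]; exact pelem_mem S P₀.2 h2
          · obtain ⟨k, hk⟩ := IsPGroup.iff_orderOf.mp (isPGroup_Q S) ⟨_, h3⟩
            exact ⟨k, by rw [← hk, orderOf_mk]⟩
        calc g * i = h * (h⁻¹ * (g * i * g⁻¹ * i⁻¹) * h) * h⁻¹ * (i * g) := by group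
          _ = i * g := by rw [h4]; group
      have hiQ : i ∈ Q :=
        two_mem_of_normalizes S ⟨1, by rw [hi, pow_one]⟩ (hN i (hcomm c hcP).symm)
      have hi1 : i = 1 := S.free i hiQ (by rw [hcomm x hxP, mul_inv_cancel_right])
      rw [hi1, orderOf_one] at hi
      omega
    exact no_centralised S hB hc hc1 hi hinv (orderOf_Q S ht ht1) (hcQ t ht)
  obtain ⟨i, j, hi, hj, hne⟩ := exists_noncommuting S hB
  obtain ⟨hy1, hy, hiy, -⟩ := square_of_pair S hi hj hne
  obtain ⟨P, -, hiP, -⟩ := strong S hB hy hy1 hi hiy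
  obtain ⟨g, hg⟩ := MulAction.exists_smul_eq G P₀ P
  refine hnone (g⁻¹ * i * g) (by rw [conj_orderOf, hi]) ?_
  rw [mem_normalizer_iff_conj_le]
  intro d hd
  have h1 : g * d * g⁻¹ ∈ (P : Subgroup G) := by
    rw [← hg, smul_mem_iff]
    rw [show g⁻¹ * (g * d * g⁻¹) * g = d by group]
    exact hd
  have h2 := conj_mem_normalizer hiP h1
  rw [← hg, smul_mem_iff] at h2
  rw [show g⁻¹ * i * g * d * (g⁻¹ * i * g)⁻¹ = g⁻¹ * (i * (g * d * g⁻¹) * i⁻¹) * g by group]
  exact h2

theorem eq_one_of_commute {i e : G} (hi : orderOf i = 2) (he : ∃ k, orderOf e = p ^ k)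
    (hie : i * e = e * i) : e = 1 := by
  obtain ⟨t, ht, ht1⟩ := exists_third S
  obtain ⟨h, hh⟩ := inv_conj S hi ht ht1
  have hp' : ∃ k, orderOf (h⁻¹ * e * h) = p ^ k := by rw [conj_orderOf]; exact he
  have htd : t * (h⁻¹ * e * h) = (h⁻¹ * e * h) * t := by
    calc t * (h⁻¹ * e * h) = h⁻¹ * ((h * t * h⁻¹) * e) * h := by group
      _ = h⁻¹ * (e * (h * t * h⁻¹)) * h := by rw [← hh, hie]
      _ = (h⁻¹ * e * h) * t := by group
  have h1 := central_trivial S hB hp' (hB t ht ht1 _ hp' htd)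
  calc e = h * (h⁻¹ * e * h) * h⁻¹ := by group
    _ = 1 := by rw [h1]; group

theorem centralizer_eq_Q {t : G} (ht : t ∈ Q) (ht1 : t ≠ 1) : centralizer ({t} : Set G) = Q := by
  have hK : Q ≤ centralizer ({t} : Set G) := fun a ha =>
    mem_centralizer_singleton_iff.mpr (commQ S ha ht)
  obtain ⟨O, hO, hOK, -, hsplit, -⟩ := two_split S (centralizer_ne_top S ht1) hK (by
    intro g hg hgp hgN
    exact fix_central S hgp hgN ht ht1 (mem_centralizer_singleton_iff.mp hg))
  refine le_antisymm ?_ hK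
  intro g hg
  obtain ⟨o, ho, a, ha, rfl⟩ := hsplit g hg
  have : o = 1 := eq_one_of_commute S hB (orderOf_Q S ht ht1) (pelem_mem S hO ho)
    (mem_centralizer_singleton_iff.mp (hOK ho)).symm
  rw [this, one_mul]
  exact ha

theorem invert_all {i : G} (hi : orderOf i = 2) {P : Sylow p G}
    (hiP : i ∈ normalizer ((P : Subgroup G) : Set G)) {a : G} (ha : a ∈ (P : Subgroup G)) :
    i * a * i⁻¹ = a⁻¹ := by
  have hii := inv_sq S hi
  have hb : i * a * i⁻¹ ∈ (P : Subgroup G) := conj_mem_normalizer hiP ha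
  refine eq_inv_of_mul_eq_one_right (eq_one_of_commute S hB hi (pelem_mem S P.2 (mul_mem ha hb)) ?_)
  calc i * (a * (i * a * i⁻¹)) = (i * a * i⁻¹) * ((i * i) * a * i⁻¹) := by group
    _ = ((i * a * i⁻¹) * a) * i⁻¹ := by rw [hii]; group
    _ = (a * (i * a * i⁻¹)) * i := by
      rw [comm_of_pgroup S P.2 hb ha, inv_eq_of_mul_eq_one_right hii]

theorem central_false : False := by
  classical
  have := Fact.mk S.hp
  have := Fact.mk Nat.prime_two
  let V := {g : G // orderOf g = 2}
  let ι : V → Type u := fun i =>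
    {P : Sylow p G // (i : G) ∈ normalizer ((P : Subgroup G) : Set G)}
  obtain ⟨t, ht, ht1⟩ := exists_third S
  let t₀ : V := ⟨t, orderOf_Q S ht ht1⟩
  obtain ⟨i₁, j₁, hi₁, hj₁, hne₁⟩ := exists_noncommuting S hB
  obtain ⟨hy₁, hyp₁, hiy₁, -⟩ := square_of_pair S hi₁ hj₁ hne₁
  obtain ⟨P₁, -, hP₁, -⟩ := strong S hB hyp₁ hy₁ hi₁ hiy₁
  -- conjugation preserves incidence
  have hinc : ∀ (g i : G) (P : Sylow p G), i ∈ normalizer ((P : Subgroup G) : Set G) →
      g * i * g⁻¹ ∈ normalizer (((g • P : Sylow p G) : Subgroup G) : Set G) := by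
    intro g i P hi
    rw [mem_normalizer_iff_conj_le]
    intro c hc
    rw [smul_mem_iff] at hc ⊢
    rw [show g⁻¹ * (g * i * g⁻¹ * c * (g * i * g⁻¹)⁻¹) * g = i * (g⁻¹ * c * g) * i⁻¹ by group]
    exact conj_mem_normalizer hi hc
  have hmall : ∀ i : V, Nat.card (ι i) = Nat.card (ι t₀) := by
    intro i
    obtain ⟨g, hg⟩ := inv_conj S i.2 ht ht1
    refine Nat.card_congr ((MulAction.toPerm g⁻¹ : Equiv.Perm (Sylow p G)).subtypeEquiv fun P => ?_)
    show (i : G) ∈ _ ↔ t ∈ _
    constructor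
    · intro h
      have := hinc g⁻¹ i P h
      rwa [hg, show g⁻¹ * (g * t * g⁻¹) * g⁻¹⁻¹ = t by group] at this
    · intro h
      have := hinc g t _ h
      simp only [MulAction.toPerm_apply, smul_inv_smul] at this
      rwa [← hg] at this
  set m := Nat.card (ι t₀)
  set N := Nat.card V
  set q := 2 ^ v
  set s := Nat.card (P₁ : Subgroup G)
  have hPcard : ∀ P : Sylow p G, Nat.card (P : Subgroup G) = s := fun P => by
    rw [P.card_eq_multiplicity]; exact P₁.card_eq_multiplicity.symm
  have hm1 : 1 ≤ m := by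
    rw [← hmall ⟨i₁, hi₁⟩]
    have : Nonempty (ι ⟨i₁, hi₁⟩) := ⟨⟨P₁, hP₁⟩⟩
    exact Nat.card_pos
  -- involutions normalising a Sylow subgroup
  have hinvcount : ∀ P : Sylow p G,
      Nat.card {i : V // (i : G) ∈ normalizer ((P : Subgroup G) : Set G)} = s := by
    intro P
    obtain ⟨g, rfl⟩ := MulAction.exists_smul_eq G P₁ P
    set P := g • P₁
    have hi₀ := hinc g i₁ P₁ hP₁
    set i₀ := g * i₁ * g⁻¹
    have hi₀2 : orderOf i₀ = 2 := by
      show orderOf (g * i₁ * g⁻¹) = 2
      rw [← MulAut.conj_apply, MulEquiv.orderOf_eq, hi₁]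
    have hii := inv_sq S hi₀2
    have hinv : i₀⁻¹ = i₀ := inv_eq_of_mul_eq_one_right hii
    have hfwd : ∀ a : (P : Subgroup G), orderOf (i₀ * a) = 2 ∧
        i₀ * a ∈ normalizer ((P : Subgroup G) : Set G) := by
      intro a
      refine ⟨orderOf_eq_prime ?_ ?_, mul_mem hi₀ (le_normalizer a.2)⟩
      · rw [pow_two]
        calc i₀ * a * (i₀ * a) = (i₀ * a * i₀⁻¹) * (i₀ * i₀) * a := by group
          _ = 1 := by rw [invert_all S hB hi₀2 hi₀ a.2, hii]; group
      · intro h
        have h1 : i₀ ∈ (P : Subgroup G) := by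
          rw [eq_inv_of_mul_eq_one_left h]; exact inv_mem a.2
        have h2 := eq_one_of_p_two S (pelem_mem S P.2 h1) ⟨1, by rw [hi₀2, pow_one]⟩
        rw [h2, orderOf_one] at hi₀2
        omega
    let f : ↥(P : Subgroup G) → {i : V // (i : G) ∈ normalizer ((P : Subgroup G) : Set G)} :=
      fun a => ⟨⟨i₀ * a, (hfwd a).1⟩, (hfwd a).2⟩
    have hf : Function.Bijective f := by
      constructor
      · intro a b h
        exact Subtype.ext (mul_left_cancel (congrArg (fun i => ((i.1 : V) : G)) h))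
      · rintro ⟨⟨z, hz⟩, hzN⟩
        have hmem : i₀ * z ∈ (P : Subgroup G) := by
          have hne : (P : Subgroup G) ≠ ⊥ := P.ne_bot_of_dvd_card S.hpG
          obtain ⟨y, hy, hy1⟩ := exists_ne_one_of_ne_bot' hne
          obtain ⟨R, hRC, -, huniq⟩ :=
            strong S hB (pelem_mem S P.2 hy) hy1 hi₀2 (invert_all S hB hi₀2 hi₀ hy)
          rw [huniq P hy, hRC, mem_centralizer_singleton_iff]
          have h1 := invert_all S hB hz hzN hy
          have h2 := invert_all S hB hi₀2 hi₀ (inv_mem hy)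
          rw [inv_inv] at h2
          calc i₀ * z * y = i₀ * (z * y * z⁻¹) * z := by group
            _ = (i₀ * y⁻¹ * i₀⁻¹) * (i₀ * z) := by rw [h1]; group
            _ = y * (i₀ * z) := by rw [h2]
        refine ⟨⟨_, hmem⟩, Subtype.ext (Subtype.ext ?_)⟩
        show i₀ * (i₀ * z) = z
        rw [← mul_assoc, hii, one_mul]
    exact (Nat.card_eq_of_bijective f hf).symm.trans (hPcard P)
  -- double counting
  let _ := Fintype.ofFinite V
  let _ := Fintype.ofFinite (Sylow p G)
  have hdouble : Nat.card (Sylow p G) * s = N * m := by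
    let e : (Σ P : Sylow p G, {i : V // (i : G) ∈ normalizer ((P : Subgroup G) : Set G)}) ≃
        Σ i : V, ι i :=
      { toFun := fun a => ⟨a.2.1, a.1, a.2.2⟩
        invFun := fun a => ⟨a.2.1, a.1, a.2.2⟩
        left_inv := fun a => rfl
        right_inv := fun a => rfl }
    have h := Nat.card_congr e
    rw [Nat.card_sigma, Nat.card_sigma, Finset.sum_congr rfl (fun P _ => hinvcount P),
      Finset.sum_congr rfl (fun i _ => hmall i), Finset.sum_const, Finset.sum_const, smul_eq_mul,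
      smul_eq_mul, Finset.card_univ, Finset.card_univ, ← Nat.card_eq_fintype_card,
      ← Nat.card_eq_fintype_card] at h
    exact h
  -- the class of involutions
  have hGN : Nat.card G = N * q := by
    have h1 : Nat.card (ConjAct G) = Nat.card G := Nat.card_congr ConjAct.ofConjAct.toEquiv
    have hdef : ∀ g : G, ConjAct.toConjAct g • t = g * t * g⁻¹ := fun g => by
      rw [ConjAct.smul_def, ConjAct.ofConjAct_toConjAct]
    let F : G → V := fun g => ⟨g * t * g⁻¹, by
      rw [← MulAut.conj_apply, MulEquiv.orderOf_eq, orderOf_Q S ht ht1]⟩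
    have hC := centralizer_eq_Q S hB ht ht1
    let F' : G ⧸ Q → V := Quotient.lift F (fun a b hab => by
      apply Subtype.ext
      show a * t * a⁻¹ = b * t * b⁻¹
      have h2 : a⁻¹ * b ∈ Q := QuotientGroup.leftRel_apply.mp hab
      rw [← hC, mem_centralizer_singleton_iff] at h2
      calc a * t * a⁻¹ = a * (t * (a⁻¹ * b)) * b⁻¹ := by group
        _ = b * t * b⁻¹ := by rw [← h2]; group)
    have hF : Function.Bijective F' := by
      constructor
      · intro a b
        induction a using QuotientGroup.induction_on with | H a => ?_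
        induction b using QuotientGroup.induction_on with | H b => ?_
        intro h
        rw [QuotientGroup.eq, ← hC, mem_centralizer_singleton_iff]
        have h2 : a * t * a⁻¹ = b * t * b⁻¹ := congrArg Subtype.val h
        calc a⁻¹ * b * t = a⁻¹ * (b * t * b⁻¹) * b := by group
          _ = t * (a⁻¹ * b) := by rw [← h2]; group
      · intro i
        obtain ⟨g, hg⟩ := inv_conj S i.2 ht ht1
        exact ⟨(g : G ⧸ Q), Subtype.ext hg.symm⟩
    rw [show N = Nat.card (G ⧸ Q) from (Nat.card_eq_of_bijective F' hF).symm,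
      show q = Nat.card Q from S.card_Q.symm, ← card_eq_card_quotient_mul_card_subgroup]
  -- the partition at `t`
  have hN : N = (q - 1) + m * (s - 1) := by
    have hC := centralizer_eq_Q S hB ht ht1
    have h1 : Nat.card {j : V // (j : G) * t = t * j} = q - 1 := by
      have : Nat.card {j : V // (j : G) * t = t * j} = Nat.card {a : Q // a ≠ 1} := by
        refine Nat.card_congr
          { toFun := fun j => ⟨⟨j.1.1, hC ▸ mem_centralizer_singleton_iff.mpr j.2⟩, fun h => by
              have := j.1.2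
              rw [show (j.1.1) = 1 from congrArg Subtype.val h, orderOf_one] at this
              omega⟩
            invFun := fun a => ⟨⟨a.1.1, orderOf_Q S a.1.2 (fun h => a.2 (Subtype.ext h))⟩,
              commQ S a.1.2 ht⟩
            left_inv := fun j => rfl
            right_inv := fun a => rfl }
      rw [this]
      have h2 : Nat.card {a : Q // a ≠ 1} = Nat.card Q - 1 := by
        have h3 : {a : Q | a ≠ 1} = ({1} : Set Q)ᶜ := rfl
        rw [show Nat.card {a : Q // a ≠ 1} = {a : Q | a ≠ 1}.ncard from Nat.card_coe_set_eq _, h3,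
          Set.ncard_compl, Set.ncard_singleton]
      rw [h2, S.card_Q]
    have hfwd : ∀ (P : ι t₀) (a : {a : (P.1 : Subgroup G) // a ≠ 1}),
        orderOf (t * (a.1 : G)) = 2 ∧ ¬ (t * (a.1 : G)) * t = t * (t * (a.1 : G)) := by
      intro P a
      have hta := invert_all S hB (orderOf_Q S ht ht1) P.2 a.1.2
      constructor
      · refine orderOf_eq_prime ?_ ?_
        · rw [pow_two]
          calc t * (a.1 : G) * (t * a.1) = (t * a.1 * t⁻¹) * (t * t) * a.1 := by group
            _ = 1 := by rw [hta, sq_eq_one S ht]; group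
        · intro h
          have h2 : (a.1 : G) ∈ Q := by rw [eq_inv_of_mul_eq_one_right h]; exact inv_mem ht
          exact a.2 (Subtype.ext (p_inter_Q S P.1.2 a.1.2 h2))
      · intro h
        have h2 : (a.1 : G) * t = t * a.1 := by
          apply mul_left_cancel (a := t)
          rw [← mul_assoc, ← mul_assoc, h, ← mul_assoc]
        apply a.2
        apply Subtype.ext
        exact eq_one_of_commute S hB (orderOf_Q S ht ht1) (pelem_mem S P.1.2 a.1.2) h2.symm
    let F : (Σ P : ι t₀, {a : (P.1 : Subgroup G) // a ≠ 1}) → {j : V // ¬ (j : G) * t = t * j} :=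
      fun z => ⟨⟨t * (z.2.1 : G), (hfwd z.1 z.2).1⟩, (hfwd z.1 z.2).2⟩
    have hF : Function.Bijective F := by
      constructor
      · rintro ⟨⟨P, hP⟩, ⟨⟨a, ha⟩, ha1⟩⟩ ⟨⟨P', hP'⟩, ⟨⟨b, hb⟩, hb1⟩⟩ h
        have hab : a = b := mul_left_cancel (congrArg (fun j => ((j.1 : V) : G)) h)
        subst hab
        have ha1' : a ≠ 1 := fun h => ha1 (Subtype.ext h)
        obtain ⟨R, -, -, huniq⟩ := strong S hB (pelem_mem S P.2 ha) ha1' (orderOf_Q S ht ht1)
          (invert_all S hB (orderOf_Q S ht ht1) hP ha)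
        have : P = P' := (huniq P ha).trans (huniq P' hb).symm
        subst this
        rfl
      · rintro ⟨⟨j, hj⟩, hne⟩
        obtain ⟨hy1, hy, hiy, -⟩ := square_of_pair S (orderOf_Q S ht ht1) hj (fun h => hne h.symm)
        obtain ⟨R, hRC, hRN, -⟩ := strong S hB hy hy1 (orderOf_Q S ht ht1) hiy
        have hmem : t * j ∈ (R : Subgroup G) := by
          rw [hRC, mem_centralizer_singleton_iff]
          exact ((Commute.refl (t * j)).pow_right 2).eq
        have hne1 : (⟨t * j, hmem⟩ : (R : Subgroup G)) ≠ 1 := fun h => hy1 (by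
          rw [show t * j = 1 from congrArg Subtype.val h, one_pow])
        refine ⟨⟨⟨R, hRN⟩, ⟨⟨t * j, hmem⟩, hne1⟩⟩, Subtype.ext (Subtype.ext ?_)⟩
        show t * (t * j) = j
        rw [← mul_assoc, sq_eq_one S ht, one_mul]
    let _ := Fintype.ofFinite (ι t₀)
    have h2 : Nat.card {j : V // ¬ (j : G) * t = t * j} = m * (s - 1) := by
      rw [← Nat.card_eq_of_bijective F hF, Nat.card_sigma]
      rw [Finset.sum_congr rfl (fun P _ => show Nat.card {a : (P.1 : Subgroup G) // a ≠ 1} = s - 1 by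
        have h3 : {a : (P.1 : Subgroup G) | a ≠ 1} = ({1} : Set (P.1 : Subgroup G))ᶜ := rfl
        rw [show Nat.card {a : (P.1 : Subgroup G) // a ≠ 1} = {a : (P.1 : Subgroup G) | a ≠ 1}.ncard
          from Nat.card_coe_set_eq _, h3, Set.ncard_compl, Set.ncard_singleton, hPcard]),
        Finset.sum_const, smul_eq_mul, Finset.card_univ, ← Nat.card_eq_fintype_card]
    rw [← h1, ← h2, ← Nat.card_sum]
    exact Nat.card_congr (Equiv.sumCompl _).symm
  -- arithmetic
  obtain ⟨b, hb⟩ : s ∣ Nat.card (normalizer ((P₁ : Subgroup G) : Set G)) :=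
    card_dvd_of_le le_normalizer
  have h2b : 2 ∣ b := by
    have h1 : 2 ∣ s * b := by
      rw [← hb, ← hi₁, ← orderOf_mk i₁ hP₁]; exact orderOf_dvd_natCard _
    obtain ⟨k, hk⟩ := IsPGroup.iff_card.mp P₁.2
    refine (Nat.Coprime.dvd_of_dvd_mul_left ?_ h1)
    rw [show s = p ^ k from hk]
    exact Nat.Coprime.pow_right _ ((Nat.coprime_primes Nat.prime_two S.hp).mpr (Ne.symm S.p_ne))
  have hmb : q = m * b := by
    have h1 : Nat.card G = Nat.card (Sylow p G) * (s * b) := by
      rw [P₁.card_eq_index_normalizer, ← hb, mul_comm]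
      exact ((normalizer ((P₁ : Subgroup G) : Set G)).card_mul_index).symm
    rw [hGN, ← mul_assoc, hdouble, mul_assoc] at h1
    have hNpos : 0 < N := by
      have : Nonempty V := ⟨t₀⟩
      exact Nat.card_pos
    exact Nat.eq_of_mul_eq_mul_left hNpos h1
  have hsN : s ∣ N := by
    obtain ⟨k, hk⟩ := IsPGroup.iff_card.mp P₁.2
    have h1 : s ∣ N * q := hGN ▸ card_subgroup_dvd_card _
    refine Nat.Coprime.dvd_of_dvd_mul_right ?_ h1
    rw [show s = p ^ k from hk]
    exact ((coprime_two_p S v k)).symm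
  have hps : p ≤ s := by
    obtain ⟨k, hk⟩ := IsPGroup.iff_card.mp P₁.2
    have hk0 : k ≠ 0 := fun h0 =>
      P₁.ne_bot_of_dvd_card S.hpG (Subgroup.eq_bot_of_card_eq _ (by rw [hk, h0, pow_zero]))
    rw [show s = p ^ k from hk]
    exact Nat.le_self_pow hk0 p
  have hpq := S.p_eq
  have h4 : 4 ≤ q := (one_lt_four S).trans_eq S.card_Q
  have hb0 : 2 ≤ b := Nat.le_of_dvd (Nat.pos_of_ne_zero fun h => by
    rw [h, mul_zero] at hmb; omega) h2b
  have hm2 : m * 2 ≤ q := hmb ▸ Nat.mul_le_mul_left m hb0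
  have hms : m * (s - 1) + m = m * s := by
    rw [← Nat.mul_succ]; congr 1; omega
  have h5 : N = (p - m) + m * s := by omega
  rw [h5] at hsN
  have h6 : s ∣ p - m := (Nat.dvd_add_left (dvd_mul_left s m)).mp hsN
  have h7 := Nat.le_of_dvd (by omega) h6
  omega

end Cfsg.Agent.MixedTwoPrimes89
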