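import Cfsg.Agent.Lib.MixedTwoPrimesMoved89
import Mathlib.LinearAlgebra.Matrix.Charpoly.FiniteField

/-!
There is no regular friendship graph of degree at least three; hence the moved case is impossible.
-/

namespace Cfsg.Agent.MixedTwoPrimes89

open Subgroup
open scoped Pointwise

universe u

/-- No finite regular friendship graph has degree at least `3`. -/
theorem no_regular_friendship {V : Type*} [Finite V] [Nonempty V] (R : V → V → Prop)
    (hsymm : ∀ i j, R i j → R j i) (hirr : ∀ i, ¬ R i i) (k : ℕ) (hk : 3 ≤ k)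
    (hreg : ∀ i, Nat.card {j // R i j} = k)
    (huniq : ∀ i j, i ≠ j → ∃! z, R i z ∧ R j z) : False := by
  classical
  let _ := Fintype.ofFinite V
  obtain ⟨l, hl, hld⟩ := Nat.exists_prime_and_dvd (n := k - 1) (by omega)
  have := Fact.mk hl
  have hk1 : (k : ZMod l) = 1 := by
    have h : ((k - 1 : ℕ) : ZMod l) = 0 := (CharP.cast_eq_zero_iff (ZMod l) l _).mpr hld
    rw [Nat.cast_sub (by omega), Nat.cast_one, sub_eq_zero] at h
    exact h
  let A : Matrix V V (ZMod l) := fun i j => if R i j then 1 else 0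
  let J : Matrix V V (ZMod l) := fun _ _ => 1
  have hrow : ∀ i, ∑ z, (if R i z then (1 : ZMod l) else 0) = 1 := by
    intro i
    rw [Finset.sum_boole, ← Fintype.card_subtype, ← Nat.card_eq_fintype_card, hreg i, hk1]
  have hAA : A * A = J := by
    ext i j
    rw [Matrix.mul_apply]
    show ∑ z, (if R i z then (1 : ZMod l) else 0) * (if R z j then (1 : ZMod l) else 0) = 1
    by_cases hij : i = j
    · subst hij
      refine Eq.trans (Finset.sum_congr rfl fun z _ => ?_) (hrow i)
      by_cases h : R i z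
      · simp [h, hsymm i z h]
      · simp [h]
    · obtain ⟨z, ⟨hz1, hz2⟩, hz⟩ := huniq i j hij
      rw [Finset.sum_eq_single z]
      · simp [hz1, hsymm j z hz2]
      · intro b _ hb
        by_cases h1 : R i b
        · have h2 : ¬ R b j := fun h2 => hb (hz b ⟨h1, hsymm b j h2⟩)
          simp [h2]
        · simp [h1]
      · simp
  have hAJ : A * J = J := by
    ext i j
    rw [Matrix.mul_apply]
    show ∑ z, (if R i z then (1 : ZMod l) else 0) * 1 = 1
    simp only [mul_one]
    exact hrow i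
  have hpow : ∀ n : ℕ, A ^ (n + 2) = J := by
    intro n
    induction n with
    | zero => rw [pow_two, hAA]
    | succ n ih => rw [pow_succ', ih, hAJ]
  have hN : (Fintype.card V : ZMod l) = 1 := by
    obtain ⟨i⟩ := ‹Nonempty V›
    have h : (J * J) i i = 1 := by
      have : J * J = J := by
        calc J * J = A * A * J := by rw [hAA]
          _ = A * (A * J) := Matrix.mul_assoc A A J
          _ = J := by rw [hAJ, hAJ]
      rw [this]
    rw [Matrix.mul_apply] at h
    simpa [J] using h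
  have htr0 : A.trace = 0 := by
    refine Finset.sum_eq_zero fun i _ => ?_
    show (if R i i then (1 : ZMod l) else 0) = 0
    simp [hirr i]
  obtain ⟨n, hn⟩ : ∃ n, l = n + 2 := ⟨l - 2, by have := hl.two_le; omega⟩
  have h := ZMod.trace_pow_card A
  rw [htr0, zero_pow hl.ne_zero, show A ^ l = A ^ (n + 2) from congrArg (A ^ ·) hn, hpow n] at h
  have hJ : J.trace = (Fintype.card V : ZMod l) := by
    simp [Matrix.trace, Matrix.diag, J]
  rw [hJ, hN] at h
  exact one_ne_zero h

variable {G : Type u} [Group G] [Finite G] {p v : ℕ} {Q : Subgroup G} {x : G} (S : Setup p v Q x)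
include S

variable {t : G} {P : Sylow p G}

theorem no_order_four {j : G} : orderOf j ≠ 4 := by
  intro hj
  obtain ⟨g, hg⟩ := two_elem_conj S (j := j) ⟨2, by rw [hj]; norm_num⟩
  have h := sq_eq_one S hg
  have hj2 : j ^ 2 = 1 := by
    calc j ^ 2 = g * ((g⁻¹ * j * g) * (g⁻¹ * j * g)) * g⁻¹ := by rw [pow_two]; group
      _ = 1 := by rw [h]; group
  have := orderOf_dvd_of_pow_eq_one hj2
  rw [hj] at this
  norm_num at this

/-- The product of two noncommuting involutions squares to a nontrivial `p`-element inverted by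
both. -/
theorem square_of_pair {i j : G} (hi : orderOf i = 2) (hj : orderOf j = 2)
    (hne : i * j ≠ j * i) :
    (i * j) ^ 2 ≠ 1 ∧ (∃ k, orderOf ((i * j) ^ 2) = p ^ k) ∧
      i * (i * j) ^ 2 * i⁻¹ = ((i * j) ^ 2)⁻¹ ∧ j * (i * j) ^ 2 * j⁻¹ = ((i * j) ^ 2)⁻¹ := by
  have := Fact.mk S.hp
  have := Fact.mk Nat.prime_two
  have hii : i⁻¹ = i := inv_eq_of_mul_eq_one_right (by rw [← pow_two, ← hi]; exact pow_orderOf_eq_one i)
  have hjj : j⁻¹ = j := inv_eq_of_mul_eq_one_right (by rw [← pow_two, ← hj]; exact pow_orderOf_eq_one j)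
  set y := (i * j) ^ 2
  have hy1 : y ≠ 1 := by
    intro h
    apply hne
    calc i * j = (i * j)⁻¹ := by
          refine (inv_eq_of_mul_eq_one_right ?_).symm
          rw [← pow_two]; exact h
      _ = j * i := by rw [mul_inv_rev, hii, hjj]
  have hinvi : i * (i * j) * i⁻¹ = (i * j)⁻¹ := by
    calc i * (i * j) * i⁻¹ = (i * i) * j * i⁻¹ := by group
      _ = j * i := by rw [show i * i = 1 by rw [← pow_two, ← hi]; exact pow_orderOf_eq_one i, one_mul, hii]
      _ = (i * j)⁻¹ := by rw [mul_inv_rev, hii, hjj]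
  have hinvj : j * (i * j) * j⁻¹ = (i * j)⁻¹ := by
    calc j * (i * j) * j⁻¹ = j * i := by group
      _ = (i * j)⁻¹ := by rw [mul_inv_rev, hii, hjj]
  have hiy : i * y * i⁻¹ = y⁻¹ := by
    show i * (i * j) ^ 2 * i⁻¹ = ((i * j) ^ 2)⁻¹
    rw [← conj_pow, hinvi, inv_pow]
  refine ⟨hy1, ?_, hiy, by
    show j * (i * j) ^ 2 * j⁻¹ = ((i * j) ^ 2)⁻¹
    rw [← conj_pow, hinvj, inv_pow]⟩
  refine ⟨(orderOf y).primeFactorsList.length,
    Nat.eq_prime_pow_of_unique_prime_dvd (orderOf_pos y).ne' (fun {r} hr hrd => ?_)⟩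
  by_contra hrp
  by_cases hr2 : r = 2
  · subst hr2
    have h4 : 4 ∣ orderOf (i * j) := by
      have h1 : orderOf y = orderOf (i * j) / Nat.gcd (orderOf (i * j)) 2 := orderOf_pow _
      have h2 : 2 ∣ orderOf (i * j) := hrd.trans (orderOf_pow_dvd 2)
      rw [Nat.gcd_eq_right h2] at h1
      rw [h1] at hrd
      obtain ⟨c, hc⟩ := h2
      rw [hc, Nat.mul_div_cancel_left _ (by norm_num)] at hrd
      rw [hc]
      exact Nat.mul_dvd_mul_left 2 hrd
    obtain ⟨c, hc⟩ := h4
    exact no_order_four S (j := (i * j) ^ c) (by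
      rw [orderOf_pow, hc, Nat.gcd_eq_right (Dvd.intro_left 4 rfl),
        Nat.mul_div_cancel _ (Nat.pos_of_ne_zero fun h0 => by
          have := orderOf_pos (i * j); rw [hc, h0] at this; simp at this)])
  · have := Fact.mk hr
    have hord : orderOf (y ^ (orderOf y / r)) = r :=
      orderOf_pow_orderOf_div (orderOf_pos y).ne' hrd
    set w := y ^ (orderOf y / r)
    have hiw : i * w * i⁻¹ = w⁻¹ := by
      show i * y ^ (orderOf y / r) * i⁻¹ = (y ^ (orderOf y / r))⁻¹
      rw [← conj_pow, hiy, inv_pow]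
    refine no_coprime_mixed S.hmix S.hpG (T := zpowers w) (Z := zpowers i) ?_ ?_ ?_
      (Or.inr (by rw [Nat.card_zpowers, hi])) (Or.inl ?_)
    · rw [zpowers_le, mem_normalizer_iff_conj_le]
      intro c hc
      obtain ⟨k, rfl⟩ := mem_zpowers_iff.mp hc
      rw [← conj_zpow, hiw]
      exact zpow_mem (inv_mem (mem_zpowers w)) k
    · rw [Nat.card_zpowers, hord]
      exact fun h => hrp ((Nat.prime_dvd_prime_iff_eq S.hp hr).mp h).symm
    · rw [Nat.card_zpowers, hi]
      exact fun h => S.p_ne ((Nat.prime_dvd_prime_iff_eq S.hp Nat.prime_two).mp h)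
    · intro h
      obtain ⟨c, hc⟩ := IsPGroup.iff_card.mp h
      rw [Nat.card_zpowers, hord] at hc
      exact hr2 ((Nat.prime_dvd_prime_iff_eq hr Nat.prime_two).mp (hr.dvd_of_dvd_pow (dvd_of_eq hc)))

/-- Two commuting involutions centralising `t` have product `t`. -/
theorem Attached.pair (hA : Attached (Q := Q) t P) {j z : G} (hj : orderOf j = 2)
    (hz : orderOf z = 2) (hjt : j * t = t * j) (hzt : z * t = t * z) (hjz : j * z = z * j)
    (hj1 : j ≠ t) (hz1 : z ≠ t) (hne : j ≠ z) : z = t * j := by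
  have := Fact.mk S.hp
  have := Fact.mk Nat.prime_two
  have sq : ∀ {g : G}, orderOf g = 2 → g * g = 1 := fun h => by
    rw [← pow_two, ← h]; exact pow_orderOf_eq_one _
  have hpel : ∀ {a : G}, a ∈ (P : Subgroup G) → a * a = 1 → a = 1 := by
    intro a ha h2
    obtain ⟨k, hk⟩ := IsPGroup.iff_orderOf.mp P.2 ⟨a, ha⟩
    rw [orderOf_mk] at hk
    refine eq_one_of_p_two S ⟨k, hk⟩ ?_
    obtain ⟨l, -, hl⟩ := (Nat.dvd_prime_pow Nat.prime_two).mp
      (orderOf_dvd_of_pow_eq_one (show a ^ (2 ^ 1) = 1 by rw [pow_one, pow_two]; exact h2))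
    exact ⟨l, hl⟩
  have hb : ∀ {g : G}, orderOf g = 2 → g ≠ t → g * t = t * g →
      ∃ a ∈ (P : Subgroup G), ∃ b ∈ Q, b ≠ 1 ∧ b ≠ t ∧ g = a * b := by
    intro g hg hgt hc
    obtain ⟨a, ha, b, hb, rfl⟩ := hA.ct g hc
    refine ⟨a, ha, b, hb, ?_, ?_, rfl⟩
    · intro h
      subst h
      rw [mul_one] at hg
      have := hpel ha (sq hg)
      rw [this, orderOf_one] at hg
      omega
    · intro h
      subst h
      apply hgt
      have h2 : a * a = 1 := by
        have := sq hg
        calc a * a = (a * b) * (a * b) := by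
              rw [show (a * b) * (a * b) = a * (b * a) * b by group, hA.cent a ha,
                show a * (a * b) * b = a * a * (b * b) by group, sq_eq_one S hA.memQ, mul_one]
          _ = 1 := this
      rw [hpel ha h2, one_mul]
  obtain ⟨a, ha, b, hbQ, hb1, hbt, rfl⟩ := hb hj hj1 hjt
  obtain ⟨a', ha', b', hb'Q, hb'1, hb't, rfl⟩ := hb hz hz1 hzt
  have hbinv : ∀ c ∈ (P : Subgroup G), b * c = c⁻¹ * b := by
    intro c hc
    rw [← hA.inv b hbQ hb1 hbt c hc]; group
  have hprod : (a * b) * (a' * b') = (a * a'⁻¹) * (b * b') := by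
    calc (a * b) * (a' * b') = a * (b * a') * b' := by group
      _ = (a * a'⁻¹) * (b * b') := by rw [hbinv a' ha']; group
  have hsq : ((a * b) * (a' * b')) * ((a * b) * (a' * b')) = 1 := by
    calc ((a * b) * (a' * b')) * ((a * b) * (a' * b'))
        = ((a * b) * (a' * b')) * ((a' * b') * (a * b)) := by rw [hjz]
      _ = (a * b) * ((a' * b') * (a' * b')) * (a * b) := by group
      _ = 1 := by rw [sq hz, mul_one, sq hj]
  have hc : a * a'⁻¹ ∈ (P : Subgroup G) := mul_mem ha (inv_mem ha')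
  rcases hA.four b hbQ hb1 hbt b' hb'Q hb'1 hb't with h | h
  · subst h
    rw [sq_eq_one S hbQ, mul_one] at hprod
    rw [hprod] at hsq
    exact absurd (by rw [eq_of_mul_inv_eq_one (hpel hc hsq)]) hne
  · subst h
    rw [← mul_assoc b b t, sq_eq_one S hbQ, one_mul] at hprod
    rw [hprod] at hsq
    have h2 : (a * a'⁻¹) * (a * a'⁻¹) = 1 := by
      calc (a * a'⁻¹) * (a * a'⁻¹) = (a * a'⁻¹) * ((t * t) * (a * a'⁻¹)) := by
            rw [sq_eq_one S hA.memQ, one_mul]
        _ = (a * a'⁻¹) * t * (t * (a * a'⁻¹)) := by group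
        _ = (a * a'⁻¹) * t * ((a * a'⁻¹) * t) := by rw [hA.cent _ hc]
        _ = 1 := hsq
    have haa : a = a' := eq_of_mul_inv_eq_one (hpel hc h2)
    subst haa
    calc a * (b * t) = a * (t * b) := by rw [commQ S hbQ hA.memQ]
      _ = (a * t) * b := (mul_assoc _ _ _).symm
      _ = t * (a * b) := by rw [← hA.cent a ha, mul_assoc]

theorem moved_false {t e s : G} (ht : t ∈ Q) (ht1 : t ≠ 1) (hs : s ∈ Q)
    (he : ∃ k, orderOf e = p ^ k) (hte : t * e = e * t) (hse : s * e ≠ e * s) : False := by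
  classical
  have := Fact.mk S.hp
  have := Fact.mk Nat.prime_two
  obtain ⟨P, hA⟩ := exists_attached S ht ht1 hs he hte hse
  let V := {g : G // orderOf g = 2}
  let R : V → V → Prop := fun i j => i ≠ j ∧ (i : G) * j = j * i
  have hsymm : ∀ i j, R i j → R j i := fun i j h => ⟨h.1.symm, h.2.symm⟩
  let t₀ : V := ⟨t, orderOf_Q S ht ht1⟩
  have : Nonempty V := ⟨t₀⟩
  let κ : G → V ≃ V := fun g => (MulAut.conj g).toEquiv.subtypeEquiv fun a => by
    show orderOf a = 2 ↔ orderOf ((MulAut.conj g) a) = 2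
    rw [MulEquiv.orderOf_eq]
  have hκ : ∀ g (i : V), ((κ g i : V) : G) = g * i * g⁻¹ := fun g i => rfl
  have hκR : ∀ g i j, R i j ↔ R (κ g i) (κ g j) := by
    intro g i j
    simp only [R, hκ, ne_eq, (κ g).injective.eq_iff]
    refine and_congr_right fun _ => ?_
    constructor
    · intro h
      calc g * (i : G) * g⁻¹ * (g * j * g⁻¹) = g * ((i : G) * j) * g⁻¹ := by group
        _ = g * j * g⁻¹ * (g * i * g⁻¹) := by rw [h]; group
    · intro h
      calc (i : G) * j = g⁻¹ * (g * (i : G) * g⁻¹ * (g * j * g⁻¹)) * g := by group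
        _ = (j : G) * i := by rw [h]; group
  have htrans : ∀ i : V, ∃ g, κ g t₀ = i := fun i => by
    obtain ⟨g, hg⟩ := inv_conj S i.2 ht ht1
    exact ⟨g, Subtype.ext ((hκ g t₀).trans hg.symm)⟩
  have hreg : ∀ i, Nat.card {j // R i j} = Nat.card {j // R t₀ j} := by
    intro i
    obtain ⟨g, rfl⟩ := htrans i
    exact (Nat.card_congr ((κ g).subtypeEquiv fun j => hκR g t₀ j)).symm
  have sq : ∀ i : V, (i : G) * i = 1 := fun i =>
    (pow_two (i : G)).symm.trans ((congrArg ((i : G) ^ ·) i.2).symm.trans (pow_orderOf_eq_one _))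
  obtain ⟨u, hu, hu1, hut⟩ := exists_other S t
  have he1 : e ≠ 1 := fun h => hse (by rw [h, one_mul, mul_one])
  obtain ⟨a, ha, ha1⟩ : ∃ a ∈ (P : Subgroup G), a ≠ 1 := by
    by_contra hc
    push Not at hc
    exact (P.ne_bot_of_dvd_card S.hpG) ((eq_bot_iff_forall _).mpr hc)
  have hk : 3 ≤ Nat.card {j // R t₀ j} := by
    have h1 : t * u ≠ 1 := fun h => hut (by
      rw [← inv_eq_self S ht]; exact eq_inv_of_mul_eq_one_right h)
    have hau : orderOf (a * u) = 2 := by
      refine orderOf_eq_prime ?_ ?_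
      · rw [pow_two]
        calc a * u * (a * u) = a * (u * a * u⁻¹) * (u * u) := by group
          _ = 1 := by rw [hA.inv u hu hu1 hut a ha, sq_eq_one S hu]; group
      · intro h
        exact hu1 (p_inter_Q S P.2
          (by rw [eq_inv_of_mul_eq_one_right h]; exact inv_mem ha) hu)
    have hact : (a * u) * t = t * (a * u) := by
      rw [← mul_assoc, hA.cent a ha, mul_assoc, commQ S hu ht, ← mul_assoc]
    have hne : a * u ≠ t := fun h => ha1 (p_inter_Q S P.2 ha (by
      rw [eq_mul_inv_of_mul_eq h]; exact mul_mem ht (inv_mem hu)))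
    let f : Fin 3 → {j // R t₀ j} := ![
      ⟨⟨u, orderOf_Q S hu hu1⟩, fun h => hut (congrArg Subtype.val h).symm, commQ S ht hu⟩,
      ⟨⟨t * u, orderOf_Q S (mul_mem ht hu) h1⟩,
        fun h => hu1 (mul_eq_left.mp (congrArg Subtype.val h).symm), commQ S ht (mul_mem ht hu)⟩,
      ⟨⟨a * u, hau⟩, fun h => hne (congrArg Subtype.val h).symm, hact.symm⟩]
    have hf : Function.Injective f := by
      have e01 : u ≠ t * u := fun h => ht1 (right_eq_mul.mp h)
      have e02 : u ≠ a * u := fun h => ha1 (right_eq_mul.mp h)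
      have e12 : t * u ≠ a * u := fun h => ht1 (p_inter_Q S P.2 ((mul_right_cancel h) ▸ ha) ht)
      intro i j hij
      have h := congrArg (fun j : {j // R t₀ j} => ((j : V) : G)) hij
      fin_cases i <;> fin_cases j
      all_goals first
        | rfl
        | exact absurd h e01
        | exact absurd h.symm e01
        | exact absurd h e02
        | exact absurd h.symm e02
        | exact absurd h e12
        | exact absurd h.symm e12
    have := Nat.card_le_card_of_injective f hf
    rwa [Nat.card_fin] at this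
  refine no_regular_friendship R hsymm (fun i h => h.1 rfl) _ hk hreg ?_
  intro i j hij
  by_cases hc : (i : G) * j = j * i
  · have hij1 : (i : G) * j ≠ 1 := fun h => hij (Subtype.ext (by
      have := eq_inv_of_mul_eq_one_left h
      rwa [inv_eq_of_mul_eq_one_right (sq j)] at this))
    have hord : orderOf ((i : G) * j) = 2 := by
      refine orderOf_eq_prime ?_ hij1
      rw [pow_two]
      calc (i : G) * j * (i * j) = i * j * (j * i) := by rw [hc]
        _ = i * ((j : G) * j) * i := by group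
        _ = 1 := by rw [sq j, mul_one, sq i]
    refine ⟨⟨_, hord⟩, ⟨⟨?_, ?_⟩, ⟨?_, ?_⟩⟩, ?_⟩
    · intro h
      have := congrArg Subtype.val h
      simp only at this
      have hj1 : (j : G) = 1 := mul_eq_left.mp this.symm
      have := j.2
      rw [hj1, orderOf_one] at this
      omega
    · show (i : G) * (i * j) = i * j * i
      rw [mul_assoc, ← hc]
    · intro h
      have := congrArg Subtype.val h
      simp only at this
      have hi1 : (i : G) = 1 := mul_eq_right.mp this.symm
      have := i.2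
      rw [hi1, orderOf_one] at this
      omega
    · show (j : G) * (i * j) = i * j * j
      rw [← mul_assoc, ← hc]
    · rintro z ⟨⟨hz1, hz2⟩, hz3, hz4⟩
      obtain ⟨g, hg⟩ := htrans i
      have hgj : R (κ g t₀) j := hg.symm ▸ ⟨hij, hc⟩
      have hgz : R (κ g t₀) z := hg.symm ▸ ⟨hz1, hz2⟩
      obtain ⟨j', rfl⟩ := (κ g).surjective j
      obtain ⟨z', rfl⟩ := (κ g).surjective z
      have rj := (hκR g t₀ j').mpr hgj
      have rz := (hκR g t₀ z').mpr hgz
      have rjz := (hκR g j' z').mpr ⟨hz3, hz4⟩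
      have := hA.pair S j'.2 z'.2 rj.2.symm rz.2.symm rjz.2
        (fun h => rj.1 (Subtype.ext h.symm)) (fun h => rz.1 (Subtype.ext h.symm))
        (fun h => rjz.1 (Subtype.ext h))
      apply Subtype.ext
      show g * (z' : G) * g⁻¹ = (i : G) * (g * j' * g⁻¹)
      rw [← hg, hκ, this]
      show g * (t * j') * g⁻¹ = g * t * g⁻¹ * (g * j' * g⁻¹)
      group
  · obtain ⟨hy1, ⟨k, hy⟩, hiy, hjy⟩ := square_of_pair S i.2 j.2 hc
    set y := ((i : G) * j) ^ 2
    have hZ : IsPGroup p (zpowers y) := IsPGroup.of_card (n := k) (by rw [Nat.card_zpowers, hy])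
    obtain ⟨P', hP'⟩ := hZ.exists_le_sylow
    obtain ⟨g, hg⟩ := MulAction.exists_smul_eq G P P'
    have hy0 : g⁻¹ * y * g ∈ (P : Subgroup G) := by
      have h1 : y ∈ ((g • P : Sylow p G) : Subgroup G) := by
        rw [hg]; exact hP' (mem_zpowers y)
      rw [Sylow.coe_subgroup_smul] at h1
      obtain ⟨d, hd, hdy⟩ := h1
      have : d = g⁻¹ * y * g := by
        rw [← hdy]
        simp only [MulDistribMulAction.toMonoidEnd_apply, MulDistribMulAction.toMonoidHom_apply,
          MulAut.smul_def, MulAut.conj_apply]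
        group
      exact this ▸ hd
    have hy01 : g⁻¹ * y * g ≠ 1 := fun h => hy1 (by
      calc y = g * (g⁻¹ * y * g) * g⁻¹ := by group
        _ = 1 := by rw [h]; group)
    have hcom : ∀ m : G, (m * y * m⁻¹ = y⁻¹ ∨ m * y * m⁻¹ = y) →
        m * (g * t * g⁻¹) = (g * t * g⁻¹) * m := by
      intro m hm
      have hmem : g⁻¹ * m * g ∈ normalizer ((zpowers (g⁻¹ * y * g) : Subgroup G) : Set G) := by
        rw [mem_normalizer_iff_conj_le]
        intro c hcm
        obtain ⟨n, rfl⟩ := mem_zpowers_iff.mp hcm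
        rw [← conj_zpow, show g⁻¹ * m * g * (g⁻¹ * y * g) * (g⁻¹ * m * g)⁻¹ =
          g⁻¹ * (m * y * m⁻¹) * g by group]
        rcases hm with hm | hm
        · rw [hm, show g⁻¹ * y⁻¹ * g = (g⁻¹ * y * g)⁻¹ by group]
          exact zpow_mem (inv_mem (mem_zpowers _)) n
        · rw [hm]
          exact zpow_mem (mem_zpowers _) n
      have := hA.nz _ hy0 hy01 _ hmem
      calc m * (g * t * g⁻¹) = g * ((g⁻¹ * m * g) * t) * g⁻¹ := by group
        _ = g * (t * (g⁻¹ * m * g)) * g⁻¹ := by rw [this]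
        _ = (g * t * g⁻¹) * m := by group
    have hmovey : ∀ m : V, m * y * (m : G)⁻¹ = y⁻¹ → m ≠ κ g t₀ := by
      intro m hm h
      have hmy : (m : G) * y * (m : G)⁻¹ = y := by
        rw [h, hκ]
        show g * t * g⁻¹ * y * (g * t * g⁻¹)⁻¹ = y
        calc g * t * g⁻¹ * y * (g * t * g⁻¹)⁻¹ = g * (t * (g⁻¹ * y * g)) * t⁻¹ * g⁻¹ := by group
          _ = y := by rw [hA.cent _ hy0]; group
      rw [hm] at hmy
      apply hy1
      obtain ⟨l, hl⟩ := (⟨k, hy⟩ : ∃ k, orderOf y = p ^ k)
      refine eq_one_of_p_two S ⟨l, hl⟩ ?_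
      obtain ⟨c, -, hc'⟩ := (Nat.dvd_prime_pow Nat.prime_two).mp
        (orderOf_dvd_of_pow_eq_one (show y ^ (2 ^ 1) = 1 by
          rw [pow_one, pow_two]; nth_rw 1 [← hmy]; exact inv_mul_cancel y))
      exact ⟨c, hc'⟩
    refine ⟨κ g t₀, ⟨⟨hmovey i hiy, ?_⟩, ⟨hmovey j hjy, ?_⟩⟩, ?_⟩
    · exact hcom i (Or.inl hiy)
    · exact hcom j (Or.inl hjy)
    · rintro z ⟨⟨-, hz2⟩, -, hz4⟩
      have hzy : (z : G) * y * (z : G)⁻¹ = y := by
        have h1 : Commute (z : G) ((i : G) * j) := (Commute.mul_right hz2.symm hz4.symm)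
        rw [(h1.pow_right 2).eq, mul_inv_cancel_right]
      have hzc := hcom z (Or.inr hzy)
      by_contra hzne
      -- pull back to the centraliser of `t`
      obtain ⟨a', ha', b, hb, hzab⟩ := hA.ct (g⁻¹ * z * g) (by
        calc g⁻¹ * z * g * t = g⁻¹ * ((z : G) * (g * t * g⁻¹)) * g := by group
          _ = t * (g⁻¹ * z * g) := by rw [hzc]; group)
      have hzy' : (g⁻¹ * z * g) * (g⁻¹ * y * g) * (g⁻¹ * z * g)⁻¹ = g⁻¹ * y * g := by
        calc _ = g⁻¹ * ((z : G) * y * (z : G)⁻¹) * g := by group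
          _ = g⁻¹ * y * g := by rw [hzy]
      by_cases hbt : b = 1 ∨ b = t
      · have hord : (a' * b) * (a' * b) = 1 := by
          rw [← hzab]
          calc g⁻¹ * z * g * (g⁻¹ * z * g) = g⁻¹ * ((z : G) * z) * g := by group
            _ = 1 := by rw [sq z]; group
        have hab : b * a' = a' * b := by
          rcases hbt with rfl | rfl
          · rw [one_mul, mul_one]
          · exact hA.cent a' ha'
        have haa : a' * a' = 1 := by
          calc a' * a' = a' * a' * (b * b) := by rw [sq_eq_one S hb, mul_one]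
            _ = a' * (a' * b) * b := by group
            _ = a' * (b * a') * b := by rw [hab]
            _ = (a' * b) * (a' * b) := by group
            _ = 1 := hord
        have ha'1 : a' = 1 := by
          obtain ⟨l, hl⟩ := IsPGroup.iff_orderOf.mp P.2 ⟨a', ha'⟩
          rw [orderOf_mk] at hl
          refine eq_one_of_p_two S ⟨l, hl⟩ ?_
          obtain ⟨c, -, hc'⟩ := (Nat.dvd_prime_pow Nat.prime_two).mp
            (orderOf_dvd_of_pow_eq_one (show a' ^ (2 ^ 1) = 1 by rw [pow_one, pow_two]; exact haa))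
          exact ⟨c, hc'⟩
        rw [ha'1, one_mul] at hzab
        rcases hbt with rfl | rfl
        · have := z.2
          have hz1 : (z : G) = 1 := by
            calc (z : G) = g * (g⁻¹ * z * g) * g⁻¹ := by group
              _ = 1 := by rw [hzab]; group
          rw [hz1, orderOf_one] at this
          omega
        · apply hzne
          apply Subtype.ext
          show (z : G) = g * b * g⁻¹
          rw [← hzab]; group
      · push Not at hbt
        rw [hzab] at hzy'
        have h2 : a' * (g⁻¹ * y * g)⁻¹ * a'⁻¹ = g⁻¹ * y * g := by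
          refine Eq.trans ?_ hzy'
          rw [← hA.inv b hb hbt.1 hbt.2 _ hy0]; group
        rw [comm_of_pgroup S P.2 ha' (inv_mem hy0), mul_inv_cancel_right] at h2
        apply hy01
        obtain ⟨l, hl⟩ := IsPGroup.iff_orderOf.mp P.2 ⟨_, hy0⟩
        rw [orderOf_mk] at hl
        refine eq_one_of_p_two S ⟨l, hl⟩ ?_
        obtain ⟨c, -, hc'⟩ := (Nat.dvd_prime_pow Nat.prime_two).mp
          (orderOf_dvd_of_pow_eq_one (show (g⁻¹ * y * g) ^ (2 ^ 1) = 1 by
            rw [pow_one, pow_two]; nth_rw 1 [← h2]; exact inv_mul_cancel _))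
        exact ⟨c, hc'⟩

end Cfsg.Agent.MixedTwoPrimes89
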