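import Cfsg.Agent.Lib.MixedTwoPrimesCentral89
import Mathlib.GroupTheory.SchurZassenhaus

/-!
A group in which a large prime `p` divides all mixed proper subgroups involves only `p` and `q`.
-/

namespace Cfsg.Agent.MixedTwoPrimes89

open Subgroup

universe u

/-- The hypothesis on the size of `p`. -/
def Large (p q : ℕ) (G : Type u) [Group G] : Prop :=
  q ^ (Nat.card G).factorization q - 1 < p ∨
    (p = q ^ (Nat.card G).factorization q - 1 ∧ ∀ P : Sylow p G, IsMulCommutative P)

theorem Large.le {p q : ℕ} {G : Type u} [Group G] (h : Large p q G) :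
    q ^ (Nat.card G).factorization q - 1 ≤ p := by
  rcases h with h | ⟨h, -⟩ <;> omega

theorem mixed_subgroup {p q : ℕ} {G : Type u} [Group G] [Finite G] (hm : Mixed p q G)
    (H : Subgroup G) : Mixed p q H := by
  intro K hK hnq hqd
  have hinj := H.subtype_injective
  rw [← card_map_of_injective (f := H.subtype) hinj] at hqd ⊢
  refine hm _ ?_ ?_ hqd
  · intro h
    apply hK
    rw [eq_top_iff]
    intro k _
    obtain ⟨k', hk', hkk⟩ : (k : G) ∈ K.map H.subtype := h ▸ mem_top _
    exact (hinj hkk) ▸ hk'
  · intro h
    exact hnq (h.of_injective ((equivMapOfInjective K H.subtype hinj).toMonoidHom)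
      (equivMapOfInjective K H.subtype hinj).injective)

theorem large_subgroup {p q : ℕ} {G : Type u} [Group G] [Finite G] (hq : q.Prime) [Fact p.Prime]
    (hl : Large p q G) (H : Subgroup G) : Large p q H := by
  have hle : q ^ (Nat.card H).factorization q ≤ q ^ (Nat.card G).factorization q :=
    Nat.pow_le_pow_right hq.pos
      ((Nat.factorization_le_iff_dvd Nat.card_pos.ne' Nat.card_pos.ne').mpr
        (card_subgroup_dvd_card H) q)
  rcases hl with h | ⟨h, hc⟩
  · exact Or.inl (by omega)
  · rcases hle.lt_or_eq with h' | h'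
    · have := Nat.one_le_pow ((Nat.card H).factorization q) q hq.pos
      exact Or.inl (by omega)
    · refine Or.inr ⟨by rw [h']; exact h, fun P => ⟨⟨fun a b => ?_⟩⟩⟩
      obtain ⟨R, hR⟩ := (P.2.map H.subtype).exists_le_sylow
      have := (hc R).is_comm.comm ⟨((a : H) : G), hR ⟨a, a.2, rfl⟩⟩ ⟨((b : H) : G), hR ⟨b, b.2, rfl⟩⟩
      exact Subtype.ext (Subtype.ext (congrArg Subtype.val this :))

theorem main {p q : ℕ} (hp : p.Prime) (hq : q.Prime) (hpq : p ≠ q) (hp2 : p ≠ 2) :
    ∀ (n : ℕ) (G : Type u) [Group G] [Finite G], Nat.card G = n → p ∣ Nat.card G → q ∣ Nat.card G →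
      Mixed p q G → Large p q G → ∀ r : ℕ, r.Prime → r ∣ Nat.card G → r = p ∨ r = q := by
  intro n
  induction n using Nat.strong_induction_on with
  | _ n ih =>
    intro G _ _ hn hpG hqG hmix hlarge r hr hrd
    by_contra hcon
    have := Fact.mk hp
    have := Fact.mk hq
    by_cases hno : ∀ (T : Subgroup G) (x : G), IsPGroup q T → (∃ k, orderOf x = p ^ k) →
        x ∈ normalizer (T : Set G) → x ∈ centralizer (T : Set G)
    · exact hcon (primes_of_no_moved hpq hmix hpG hqG hno hr hrd)
    push Not at hno
    obtain ⟨Q, x, hQ, hxp, hxN, hxC⟩ := hno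
    obtain ⟨heq, hQc, hfree, htrans⟩ := moved_bound hpq hQ hxp hxN hxC hlarge.le
    set v := (Nat.card G).factorization q with hv
    have hcomm : ∀ P : Sylow p G, IsMulCommutative P := by
      rcases hlarge with h | ⟨-, h⟩
      · rw [← hv] at h; omega
      · exact h
    have hq2 : q = 2 := by
      by_contra hq2
      have hev : Even (q ^ v - 1) := by
        have ho : Odd (q ^ v) := (hq.odd_of_ne_two hq2).pow
        exact Nat.Odd.sub_odd ho odd_one
      rw [← heq] at hev
      exact hp2 (hp.even_iff.mp hev)
    subst hq2
    have hv1 : 1 ≤ 2 ^ v := Nat.one_le_two_pow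
    have hv2 : 2 ≤ v := by
      by_contra h
      have : 2 ^ v ≤ 2 ^ 1 := Nat.pow_le_pow_right (by norm_num) (by omega)
      have := hp.two_le
      omega
    have hQbot : Q ≠ ⊥ := fun h => by
      rw [h, card_bot] at hQc
      have := hp.two_le
      omega
    have hsmall : ∀ H : Subgroup G, H ≠ ⊤ → 2 ∣ Nat.card H → ∀ r : ℕ, r.Prime → r ∣ Nat.card H →
        r = p ∨ r = 2 := by
      intro H hH h2 r' hr' hrd'
      by_cases hpH : p ∣ Nat.card H
      · have hlt : Nat.card H < n := by
          rw [← hn]
          rcases (Subgroup.card_le_card_group H).lt_or_eq with h | h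
          · exact h
          · exact absurd (eq_top_of_card_eq H h) hH
        exact ih _ hlt H rfl hpH h2 (mixed_subgroup hmix H) (large_subgroup hq hlarge H) r' hr' hrd'
      · have h2g : IsPGroup 2 H := by
          by_contra h
          exact hpH (hmix H hH h h2)
        obtain ⟨k, hk⟩ := IsPGroup.iff_card.mp h2g
        exact Or.inr ((Nat.prime_dvd_prime_iff_eq hr' Nat.prime_two).mp
          (hr'.dvd_of_dvd_pow (hk ▸ hrd')))
    let Q₀ : Sylow 2 G := Sylow.ofCard Q hQc
    have hsimple : ∀ N : Subgroup G, N.Normal → N = ⊥ ∨ N = ⊤ := by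
      intro N hN
      by_contra hcon'
      push Not at hcon'
      obtain ⟨hNb, hNt⟩ := hcon'
      by_cases h2N : 2 ∣ Nat.card N
      · obtain ⟨z, hz⟩ := exists_prime_orderOf_dvd_card' 2 h2N
        have hz2 : orderOf (z : G) = 2 := by rw [orderOf_coe, hz]
        have hzT : IsPGroup 2 (zpowers (z : G)) :=
          IsPGroup.of_card (n := 1) (by rw [Nat.card_zpowers, hz2, pow_one])
        obtain ⟨T', hT'⟩ := hzT.exists_le_sylow
        obtain ⟨g, hg⟩ := MulAction.exists_smul_eq G T' Q₀
        have hzQ : g * z * g⁻¹ ∈ Q := by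
          have h : g * (z : G) * g⁻¹ ∈ ((g • T' : Sylow 2 G) : Subgroup G) :=
            (smul_mem_iff g T' _).mpr (by
              rw [show g⁻¹ * (g * (z : G) * g⁻¹) * g = z by group]; exact hT' (mem_zpowers _))
          rwa [hg] at h
        have hz1 : g * (z : G) * g⁻¹ ≠ 1 := fun h => by
          rw [conj_eq_one_iff.mp h, orderOf_one] at hz2; omega
        have hQN : Q ≤ N := by
          intro a ha
          by_cases ha1 : a = 1
          · rw [ha1]; exact one_mem N
          obtain ⟨k, hk⟩ := htrans _ hzQ a ha hz1 ha1
          rw [← hk]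
          exact hN.conj_mem _ (hN.conj_mem _ z.2 g) _
        let R : Sylow 2 N := Q₀.subtype hQN
        have htop := Sylow.normalizer_sup_eq_top R
        have hR : (R : Subgroup N).map N.subtype = Q := by
          rw [show (R : Subgroup N) = Q.subgroupOf N from Q₀.coe_subtype hQN, subgroupOf_map_subtype,
            inf_eq_left.mpr hQN]
        rw [hR] at htop
        have hrN : r ∣ Nat.card (normalizer (Q : Set G)) * Nat.card N := by
          refine hrd.trans ?_
          rw [← card_top (G := G), ← htop, sup_comm, mul_comm]
          exact card_sup_dvd N (normalizer (Q : Set G)) (by rw [normalizer_eq_top_iff.mpr hN]; exact le_top)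
        rcases hr.dvd_mul.mp hrN with h | h
        · exact hcon (normalizer_primes hpq hmix hpG hQ hQbot hr h)
        · exact hcon (hsmall N hNt h2N r hr h)
      · have hsupne : N ⊔ Q ≠ ⊤ := by
          intro h
          refine hcon (primes_of_normal_complement hpq hmix hpG hqG N (b := v) ?_ h2N hr hrd)
          have h1 : N.index = N.relIndex Q := by
            rw [← relIndex_top_right, ← h, sup_comm, relIndex_sup_right]
          rw [h1, ← hQc]
          refine Nat.dvd_antisymm (relIndex_dvd_card N Q) ?_
          rw [← inf_relIndex_right]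
          have hbot : N ⊓ Q = ⊥ := by
            refine Subgroup.eq_bot_of_card_eq _ ?_
            obtain ⟨k, hk⟩ := IsPGroup.iff_card.mp (hQ.to_le (inf_le_right : N ⊓ Q ≤ Q))
            rcases Nat.eq_zero_or_pos k with hk0 | hk0
            · rw [hk, hk0, pow_zero]
            · exact absurd (((dvd_pow_self 2 hk0.ne').trans (dvd_of_eq hk.symm)).trans
                (card_dvd_of_le inf_le_left)) h2N
          rw [hbot, relIndex_bot_left]
        have hQd : 2 ∣ Nat.card (N ⊔ Q : Subgroup G) := by
          refine dvd_trans ?_ (card_dvd_of_le (le_sup_right : Q ≤ N ⊔ Q))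
          rw [hQc]; exact dvd_pow_self 2 (by omega)
        have hNp : IsPGroup p N := isPGroup_of_primes N fun r' hr' hrd' => by
          rcases hsmall (N ⊔ Q) hsupne hQd r' hr' (hrd'.trans (card_dvd_of_le le_sup_left)) with h | h
          · exact h
          · exact absurd (h ▸ hrd') h2N
        obtain ⟨k, hk⟩ := IsPGroup.iff_card.mp hNp
        have hidx : r ∣ N.index := by
          rw [← N.card_mul_index] at hrd
          rcases hr.dvd_mul.mp hrd with h | h
          · exact absurd (Or.inl ((Nat.prime_dvd_prime_iff_eq hr hp).mp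
              (hr.dvd_of_dvd_pow (hk ▸ h)))) hcon
          · exact h
        have h2i : 2 ∣ N.index := by
          have h := hqG
          rw [← N.card_mul_index] at h
          exact (Nat.prime_two.dvd_mul.mp h).resolve_left h2N
        by_cases hpi : p ∣ N.index
        · -- the quotient satisfies the hypotheses
          have hcardq : Nat.card (G ⧸ N) = N.index := rfl
          have hlt : Nat.card (G ⧸ N) < n := by
            rw [hcardq, ← hn, ← N.card_mul_index]
            refine lt_mul_of_one_lt_left (Nat.pos_of_ne_zero N.index_ne_zero_of_finite) ?_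
            exact Finite.one_lt_card_iff_nontrivial.mpr (N.nontrivial_iff_ne_bot.mpr hNb)
          have hmixq : Mixed p 2 (G ⧸ N) := by
            intro H hH hn2 h2H
            obtain ⟨s, hs, hs2⟩ : ∃ s : ℕ, s.Prime ∧ s ∣ Nat.card H ∧ s ≠ 2 := by
              by_contra hc
              push Not at hc
              exact hn2 (IsPGroup.of_card
                (Nat.eq_prime_pow_of_unique_prime_dvd Nat.card_pos.ne' (fun hd hdd => hc _ hd hdd)))
            have hpre : H.comap (QuotientGroup.mk' N) ≠ ⊤ := fun h => hH (by
              rw [← map_comap_eq_self_of_surjective (QuotientGroup.mk'_surjective N) H, h,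
                map_top_of_surjective _ (QuotientGroup.mk'_surjective N)])
            have hdvd : Nat.card H ∣ Nat.card (H.comap (QuotientGroup.mk' N)) := by
              have := Subgroup.card_map_dvd (H.comap (QuotientGroup.mk' N)) (QuotientGroup.mk' N)
              rwa [map_comap_eq_self_of_surjective (QuotientGroup.mk'_surjective N) H] at this
            rcases hsmall _ hpre (h2H.trans hdvd) s hs (hs2.1.trans hdvd) with h | h
            · exact h ▸ hs2.1
            · exact absurd h hs2.2
          have hlq : Large p 2 (G ⧸ N) := by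
            have hle : 2 ^ (Nat.card (G ⧸ N)).factorization 2 ≤ 2 ^ v :=
              Nat.pow_le_pow_right (by norm_num)
                ((Nat.factorization_le_iff_dvd Nat.card_pos.ne' Nat.card_pos.ne').mpr
                  (N.card_quotient_dvd_card) 2)
            rcases hle.lt_or_eq with h | h
            · have := Nat.one_le_two_pow (n := (Nat.card (G ⧸ N)).factorization 2)
              exact Or.inl (by omega)
            · refine Or.inr ⟨by omega, fun P => ⟨⟨fun a b => ?_⟩⟩⟩
              let P₁ : Sylow p G := default
              obtain ⟨g, hg⟩ := MulAction.exists_smul_eq (G ⧸ N)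
                (P₁.mapSurjective (QuotientGroup.mk'_surjective N)) P
              have hmem : ∀ c : (P : Subgroup (G ⧸ N)), ∃ d ∈ (P₁ : Subgroup G),
                  g⁻¹ * c * g = QuotientGroup.mk' N d := by
                intro c
                have hc := (SetLike.ext_iff.mp (congrArg Sylow.toSubgroup hg) (c : G ⧸ N)).mpr c.2
                have hc' := (smul_mem_iff g _ (c : G ⧸ N)).mp hc
                obtain ⟨d, hd, hdc⟩ := hc'
                exact ⟨d, hd, hdc.symm⟩
              obtain ⟨d, hd, hda⟩ := hmem a
              obtain ⟨e, he, heb⟩ := hmem b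
              have hde : d * e = e * d :=
                congrArg Subtype.val ((hcomm P₁).is_comm.comm ⟨d, hd⟩ ⟨e, he⟩)
              apply Subtype.ext
              have h1 : (g⁻¹ * (a : G ⧸ N) * g) * (g⁻¹ * b * g) = (g⁻¹ * b * g) * (g⁻¹ * a * g) := by
                rw [hda, heb, ← map_mul, ← map_mul, hde]
              calc (a : G ⧸ N) * b = g * ((g⁻¹ * a * g) * (g⁻¹ * b * g)) * g⁻¹ := by group
                _ = b * a := by rw [h1]; group
          exact hcon (ih _ hlt (G ⧸ N) rfl (hcardq ▸ hpi) (hcardq ▸ h2i) hmixq hlq r hr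
            (hcardq ▸ hidx))
        · have hcop : (Nat.card N).Coprime N.index := by
            rw [hk]
            exact Nat.Coprime.pow_left k ((Nat.Prime.coprime_iff_not_dvd hp).mpr hpi)
          obtain ⟨K, hK⟩ := exists_right_complement'_of_coprime hcop
          have hKc : Nat.card K = N.index := hK.symm.index_eq_card.symm
          refine hpi (hKc ▸ hmix K ?_ ?_ (hKc.symm ▸ h2i))
          · intro h
            rw [h] at hKc
            rw [card_top, ← N.card_mul_index] at hKc
            have h1 : Nat.card N = 1 :=
              Nat.eq_of_mul_eq_mul_right (Nat.pos_of_ne_zero N.index_ne_zero_of_finite)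
                (hKc.trans (one_mul _).symm)
            exact hNb (Subgroup.eq_bot_of_card_eq N h1)
          · intro h
            obtain ⟨j, hj⟩ := IsPGroup.iff_card.mp h
            exact hcon (Or.inr ((Nat.prime_dvd_prime_iff_eq hr Nat.prime_two).mp
              (hr.dvd_of_dvd_pow (hj ▸ hKc ▸ hidx))))
    have S : Setup p v Q x := ⟨hp, hp2, by omega, hv2, hmix, hpG, hv.symm, hQc, hxp, hxN, hfree,
      htrans, hcomm, hsmall, hsimple⟩
    by_cases hB : ∀ t ∈ Q, t ≠ 1 → ∀ e : G, (∃ k, orderOf e = p ^ k) → t * e = e * t →
        ∀ s ∈ Q, s * e = e * s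
    · exact central_false S hB
    · push Not at hB
      obtain ⟨t, ht, ht1, e, he, hte, s, hs, hse⟩ := hB
      exact moved_false S ht ht1 hs he hte hse

end Cfsg.Agent.MixedTwoPrimes89
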