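import Cfsg.Agent.Lib.MixedTwoPrimesSetup89

/-!
The case in which some `p`-element centralising an involution of `Q` does not centralise `Q`:
the involutions would form a regular friendship graph.
-/

namespace Cfsg.Agent.MixedTwoPrimes89

open Subgroup
open scoped Pointwise

universe u

variable {G : Type u} [Group G] [Finite G] {p v : ℕ} {Q : Subgroup G} {x : G} (S : Setup p v Q x)
include S

theorem mem_P_of_normalizes (P : Sylow p G) {g : G} (hg : ∃ k, orderOf g = p ^ k)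
    (hgN : g ∈ normalizer ((P : Subgroup G) : Set G)) : g ∈ (P : Subgroup G) := by
  have := Fact.mk S.hp
  obtain ⟨k, hk⟩ := hg
  have hZ : IsPGroup p (zpowers g) := IsPGroup.of_card (n := k) (by rw [Nat.card_zpowers, hk])
  have hsup : IsPGroup p ((P : Subgroup G) ⊔ zpowers g : Subgroup G) := by
    rw [sup_comm]
    exact hZ.to_sup_of_normal_right' P.2 (zpowers_le.mpr hgN)
  rw [← P.3 hsup le_sup_left]
  exact le_sup_right (α := Subgroup G) (mem_zpowers g)

theorem centralizes_of_common (P : Sylow p G) (hQP : Q ≤ normalizer ((P : Subgroup G) : Set G))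
    {g : G} (hgP : g ∈ (P : Subgroup G)) (hgN : g ∈ normalizer (Q : Set G)) :
    g ∈ centralizer (Q : Set G) := by
  rw [mem_centralizer_iff]
  intro a ha
  have h1 : a * g * a⁻¹ * g⁻¹ ∈ (P : Subgroup G) :=
    mul_mem (conj_mem_normalizer (hQP ha) hgP) (inv_mem hgP)
  have h2 : a * g * a⁻¹ * g⁻¹ ∈ Q := by
    rw [show a * g * a⁻¹ * g⁻¹ = a * (g * a⁻¹ * g⁻¹) by group]
    exact mul_mem ha (conj_mem_normalizer hgN (inv_mem ha))
  have h := p_inter_Q S P.2 h1 h2
  calc a * g = (a * g * a⁻¹ * g⁻¹) * (g * a) := by group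
    _ = g * a := by rw [h, one_mul]

theorem sylow_normalizer_split (P : Sylow p G) (hQP : Q ≤ normalizer ((P : Subgroup G) : Set G))
    {g : G} (hg : g ∈ normalizer ((P : Subgroup G) : Set G)) :
    ∃ a ∈ (P : Subgroup G), ∃ b ∈ Q, g = a * b := by
  have := Fact.mk S.hp
  have hne : (P : Subgroup G) ≠ ⊥ := P.ne_bot_of_dvd_card S.hpG
  obtain ⟨O, hO, hOK, -, hsplit, -⟩ := two_split S (normalizer_ne_top S P.2 hne) hQP
    (fun k hk hkp hkN => centralizes_of_common S P hQP (mem_P_of_normalizes S P hkp hk) hkN)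
  obtain ⟨o, ho, b, hb, rfl⟩ := hsplit g hg
  obtain ⟨k, hk⟩ := IsPGroup.iff_orderOf.mp hO ⟨o, ho⟩
  exact ⟨o, mem_P_of_normalizes S P ⟨k, by rw [← hk, orderOf_mk]⟩ (hOK ho), b, hb, rfl⟩

open scoped IsMulCommutative in
/-- `Q` has no nontrivial fixed point on a Sylow `p`-subgroup it normalises. -/
theorem no_fixed (P : Sylow p G) (hQP : Q ≤ normalizer ((P : Subgroup G) : Set G))
    {c : G} (hc : c ∈ (P : Subgroup G)) (hfix : ∀ a ∈ Q, a * c = c * a) : c = 1 := by
  have := Fact.mk S.hp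
  have hcomm : IsMulCommutative (P : Subgroup G) := S.comm P
  by_contra hc1
  have hN : ∀ n ∈ normalizer ((P : Subgroup G) : Set G), n * c = c * n := by
    intro n hn
    obtain ⟨a, ha, b, hb, rfl⟩ := sylow_normalizer_split S P hQP hn
    calc a * b * c = a * (b * c) := mul_assoc _ _ _
      _ = a * (c * b) := by rw [hfix b hb]
      _ = a * c * b := (mul_assoc _ _ _).symm
      _ = c * a * b := by rw [comm_of_pgroup S P.2 ha hc]
      _ = c * (a * b) := mul_assoc _ _ _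
  have key : ∀ (k : ℕ) (g₀ : G), g₀⁻¹ * c ^ k * g₀ ∈ (P : Subgroup G) →
      g₀⁻¹ * c ^ k * g₀ = c ^ k := by
    intro k g₀ h
    obtain ⟨n, hn, hh⟩ := P.conj_eq_normalizer_conj_of_mem (c ^ k) g₀ (pow_mem hc k) h
    rw [hh]
    have hnc : Commute n (c ^ k) := Commute.pow_right (hN n hn) k
    calc n⁻¹ * c ^ k * n = n⁻¹ * (c ^ k * n) := mul_assoc _ _ _
      _ = n⁻¹ * (n * c ^ k) := by rw [hnc.eq]
      _ = c ^ k := by group
  let f : G →* (P : Subgroup G) := MonoidHom.transfer (MonoidHom.id (P : Subgroup G))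
  have hfc := MonoidHom.transfer_eq_pow (MonoidHom.id (P : Subgroup G)) c key
  rcases S.simple f.ker (MonoidHom.normal_ker f) with h | h
  · have hinj : Function.Injective f := (f.ker_eq_bot_iff).mp h
    apply not_comm S
    intro a b
    apply hinj
    rw [map_mul, map_mul]
    exact comm_of_pgroup S P.2 (f a).2 (f b).2 |> fun e => Subtype.ext e
  · have h1 : f c = 1 := by
      rw [← MonoidHom.mem_ker, h]; exact mem_top c
    rw [show f c = _ from hfc, MonoidHom.id_apply] at h1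
    have h2 : c ^ (P : Subgroup G).index = 1 := congrArg Subtype.val h1
    obtain ⟨k, hk⟩ := IsPGroup.iff_orderOf.mp P.2 ⟨c, hc⟩
    rw [orderOf_mk] at hk
    have h3 : Nat.Coprime ((P : Subgroup G).index) (orderOf c) := by
      rw [hk]
      exact Nat.Coprime.pow_right _ ((Nat.Prime.coprime_iff_not_dvd S.hp).mpr P.not_dvd_index).symm
    exact hc1 ((mem_bot).mp (mem_of_pow_coprime ⊥ (by rw [mem_bot]; exact h2) h3))

/-- A `p`-subgroup normalised by `Q`, centralised by an involution of `Q` but not by `Q`, lies in a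
unique Sylow `p`-subgroup, and this is normalised by `Q`. -/
theorem key_unique {E : Subgroup G} (hE : IsPGroup p E) (hQE : Q ≤ normalizer (E : Set G)) {t : G}
    (ht : t ∈ Q) (ht1 : t ≠ 1) (hcent : ∀ e ∈ E, t * e = e * t) {s : G} (hs : s ∈ Q)
    (hmove : ∃ e ∈ E, s * e ≠ e * s) :
    ∃ P : Sylow p G, E ≤ (P : Subgroup G) ∧ Q ≤ normalizer ((P : Subgroup G) : Set G) ∧
      (∀ R : Sylow p G, E ≤ (R : Subgroup G) → R = P) ∧
      (∀ g ∈ normalizer (E : Set G), ∃ a ∈ (P : Subgroup G), ∃ b ∈ Q, g = a * b) := by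
  have := Fact.mk S.hp
  obtain ⟨e, he, hse⟩ := hmove
  have hs1 : s ≠ 1 := fun h => hse (by rw [h, one_mul, mul_one])
  have hE1 : E ≠ ⊥ := by
    intro h
    rw [h, mem_bot] at he
    exact hse (by rw [he, one_mul, mul_one])
  obtain ⟨O, hO, hOK, hKO, hsplit, hpmem⟩ := two_split S (normalizer_ne_top S hE hE1) hQE (by
    intro g hg hgp hgN
    by_contra hC
    apply hse
    obtain ⟨k, hk⟩ := hgp
    have hsup : IsPGroup p (zpowers g ⊔ E : Subgroup G) :=
      (IsPGroup.of_card (n := k) (by rw [Nat.card_zpowers, hk])).to_sup_of_normal_right' hE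
        (zpowers_le.mpr hg)
    obtain ⟨n, hn⟩ := moved_trans S ⟨k, hk⟩ hgN hC ht hs ht1 hs1
    have hge : g ^ n * e = e * g ^ n :=
      comm_of_pgroup S hsup (le_sup_left (α := Subgroup G) (pow_mem (mem_zpowers g) n))
        (le_sup_right (α := Subgroup G) he)
    have hgi : (g ^ n)⁻¹ * e = e * (g ^ n)⁻¹ := (Commute.inv_left hge)
    rw [← hn]
    calc g ^ n * t * (g ^ n)⁻¹ * e = g ^ n * t * ((g ^ n)⁻¹ * e) := by group
      _ = g ^ n * (t * e) * (g ^ n)⁻¹ := by rw [hgi]; group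
      _ = (g ^ n * e) * t * (g ^ n)⁻¹ := by rw [hcent e he]; group
      _ = e * (g ^ n * t * (g ^ n)⁻¹) := by rw [hge]; group)
  have hall : ∀ R : Sylow p G, E ≤ (R : Subgroup G) → O = (R : Subgroup G) := by
    intro R hR
    refine R.3 hO fun g hg => hpmem g ?_ ?_
    · rw [mem_normalizer_iff_conj_le]
      intro c hc
      rw [comm_of_pgroup S R.2 hg (hR hc), mul_inv_cancel_right]
      exact hc
    · obtain ⟨k, hk⟩ := IsPGroup.iff_orderOf.mp R.2 ⟨g, hg⟩
      exact ⟨k, by rw [← hk, orderOf_mk]⟩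
  obtain ⟨P, hP⟩ := hE.exists_le_sylow
  have hOP := hall P hP
  refine ⟨P, hP, ?_, fun R hR => Sylow.ext ((hall R hR).symm.trans hOP), ?_⟩
  · rw [← hOP]; exact hQE.trans hKO
  · intro g hg
    rw [← hOP]
    exact hsplit g hg

/-- `u` centralises some nontrivial element of `P`. -/
def CA (P : Sylow p G) (u : G) : Prop := ∃ c ∈ (P : Subgroup G), c ≠ 1 ∧ u * c = c * u

/-- An involution of `Q` determines the Sylow subgroup in which it has fixed points, and that
subgroup contains all `p`-elements commuting with it. -/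
theorem fixed_unique {u : G} (hu : u ∈ Q) (hu1 : u ≠ 1) {P : Sylow p G}
    (hQP : Q ≤ normalizer ((P : Subgroup G) : Set G)) (hP : CA P u) :
    (∀ g : G, (∃ k, orderOf g = p ^ k) → u * g = g * u → g ∈ (P : Subgroup G)) ∧
      (∀ P' : Sylow p G, Q ≤ normalizer ((P' : Subgroup G) : Set G) → CA P' u → P' = P) := by
  have := Fact.mk S.hp
  have hK : Q ≤ centralizer ({u} : Set G) := fun a ha =>
    mem_centralizer_singleton_iff.mpr (commQ S ha hu)
  obtain ⟨O, hO, hOK, hKO, -, hpmem⟩ := two_split S (centralizer_ne_top S hu1) hK (by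
    intro g hg hgp hgN
    exact fix_central S hgp hgN hu hu1 (mem_centralizer_singleton_iff.mp hg))
  have main : ∀ R : Sylow p G, Q ≤ normalizer ((R : Subgroup G) : Set G) → CA R u →
      O ≤ (R : Subgroup G) ∧ ∃ e ∈ O, ∃ s ∈ Q, s * e ≠ e * s := by
    intro R hQR hR
    obtain ⟨c, hc, hc1, huc⟩ := hR
    set E := (R : Subgroup G) ⊓ centralizer ({u} : Set G) with hEdef
    have hEp : IsPGroup p E := R.2.to_le inf_le_left
    have hQE : Q ≤ normalizer (E : Set G) := by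
      intro a ha
      rw [mem_normalizer_iff_conj_le]
      intro d hd
      refine mem_inf.mpr ⟨conj_mem_normalizer (hQR ha) (mem_inf.mp hd).1, ?_⟩
      exact mul_mem (mul_mem (hK ha) (mem_inf.mp hd).2) (inv_mem (hK ha))
    have hcE : c ∈ E := mem_inf.mpr ⟨hc, mem_centralizer_singleton_iff.mpr huc.symm⟩
    have hex : ∃ s ∈ Q, s * c ≠ c * s := by
      by_contra hn
      push Not at hn
      exact hc1 (no_fixed S R hQR hc hn)
    obtain ⟨s, hs, hsc⟩ := hex
    obtain ⟨P0, -, -, hP0, -⟩ := key_unique S hEp hQE hu hu1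
      (fun e he => (mem_centralizer_singleton_iff.mp (mem_inf.mp he).2).symm) hs ⟨c, hcE, hsc⟩
    have hEO : E ≤ O := by
      intro d hd
      obtain ⟨k, hk⟩ := IsPGroup.iff_orderOf.mp hEp ⟨d, hd⟩
      exact hpmem d (mem_inf.mp hd).2 ⟨k, by rw [← hk, orderOf_mk]⟩
    obtain ⟨R', hR'⟩ := hO.exists_le_sylow
    have : R' = R := (hP0 R' (hEO.trans hR')).trans (hP0 R inf_le_left).symm
    exact ⟨this ▸ hR', c, hEO hcE, s, hs, hsc⟩
  obtain ⟨hOP, e, he, s, hs, hse⟩ := main P hQP hP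
  refine ⟨fun g hg hug => hOP (hpmem g (mem_centralizer_singleton_iff.mpr hug.symm) hg), ?_⟩
  intro P' hQP' hP'
  obtain ⟨P0, -, -, hP0, -⟩ := key_unique S hO (hK.trans hKO) hu hu1
    (fun e he => (mem_centralizer_singleton_iff.mp (hOK he)).symm) hs ⟨e, he, hse⟩
  rw [hP0 P hOP, hP0 P' (main P' hQP' hP').1]

theorem fixed_only_one {P : Sylow p G} (hQP : Q ≤ normalizer ((P : Subgroup G) : Set G)) {t u : G}
    (ht : t ∈ Q) (ht1 : t ≠ 1) (hu : u ∈ Q) (hu1 : u ≠ 1) (hPt : CA P t) (hPu : CA P u) : u = t := by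
  have := Fact.mk S.hp
  obtain ⟨n, hn⟩ := S.trans t ht u hu ht1 hu1
  set y := x ^ n
  have hyN : y ∈ normalizer (Q : Set G) := pow_mem S.x_norm n
  have hP' : Q ≤ normalizer (((y • P : Sylow p G) : Subgroup G) : Set G) := by
    intro a ha
    rw [Sylow.coe_subgroup_smul, mem_normalizer_iff_conj_le]
    rintro _ ⟨d, hd, rfl⟩
    refine ⟨(y⁻¹ * a * y) * d * (y⁻¹ * a * y)⁻¹, conj_mem_normalizer (hQP ?_) hd, ?_⟩
    · have := conj_mem_normalizer (inv_mem hyN) ha
      rwa [inv_inv] at this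
    · simp only [MulDistribMulAction.toMonoidEnd_apply, MulDistribMulAction.toMonoidHom_apply,
        MulAut.smul_def, MulAut.conj_apply]
      group
  have hCA : CA (y • P) u := by
    obtain ⟨c, hc, hc1, htc⟩ := hPt
    refine ⟨y * c * y⁻¹, ?_, fun h => hc1 (conj_eq_one_iff.mp h), ?_⟩
    · rw [Sylow.coe_subgroup_smul]
      exact ⟨c, hc, rfl⟩
    · rw [← hn]
      calc y * t * y⁻¹ * (y * c * y⁻¹) = y * (t * c) * y⁻¹ := by group
        _ = y * c * y⁻¹ * (y * t * y⁻¹) := by rw [htc]; group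
  have heq := (fixed_unique S hu hu1 hQP hPu).2 (y • P) hP' hCA
  have hyP : y ∈ normalizer ((P : Subgroup G) : Set G) := Sylow.smul_eq_iff_mem_normalizer.mp heq
  have hyp : ∃ k, orderOf y = p ^ k := by
    obtain ⟨k, hk⟩ := S.x_p
    obtain ⟨j, -, hj⟩ := (Nat.dvd_prime_pow S.hp).mp (hk ▸ orderOf_pow_dvd (x := x) n)
    exact ⟨j, hj⟩
  have hC := centralizes_of_common S P hQP (mem_P_of_normalizes S P hyp hyP) hyN
  rw [← hn, ← mem_centralizer_iff.mp hC t ht, mul_inv_cancel_right]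

/-- The structure of the Sylow subgroup belonging to `t`. -/
structure Attached (t : G) (P : Sylow p G) : Prop where
  memQ : t ∈ Q
  ne_one : t ≠ 1
  norm : Q ≤ normalizer ((P : Subgroup G) : Set G)
  cent : ∀ a ∈ (P : Subgroup G), t * a = a * t
  inv : ∀ s ∈ Q, s ≠ 1 → s ≠ t → ∀ a ∈ (P : Subgroup G), s * a * s⁻¹ = a⁻¹
  four : ∀ s ∈ Q, s ≠ 1 → s ≠ t → ∀ b ∈ Q, b ≠ 1 → b ≠ t → b = s ∨ b = s * t
  ct : ∀ g, g * t = t * g → ∃ a ∈ (P : Subgroup G), ∃ b ∈ Q, g = a * b
  nz : ∀ y ∈ (P : Subgroup G), y ≠ 1 → ∀ g ∈ normalizer ((zpowers y : Subgroup G) : Set G),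
    g * t = t * g

theorem exists_attached {t e s : G} (ht : t ∈ Q) (ht1 : t ≠ 1) (hs : s ∈ Q)
    (he : ∃ k, orderOf e = p ^ k) (hte : t * e = e * t) (hse : s * e ≠ e * s) :
    ∃ P : Sylow p G, Attached (Q := Q) t P := by
  have := Fact.mk S.hp
  have hK : Q ≤ centralizer ({t} : Set G) := fun a ha =>
    mem_centralizer_singleton_iff.mpr (commQ S ha ht)
  obtain ⟨O, hO, hOK, hKO, hsplit, hpmem⟩ := two_split S (centralizer_ne_top S ht1) hK (by
    intro g hg hgp hgN
    exact fix_central S hgp hgN ht ht1 (mem_centralizer_singleton_iff.mp hg))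
  have heO : e ∈ O := hpmem e (mem_centralizer_singleton_iff.mpr hte.symm) he
  obtain ⟨P, hOP, hQP, -, -⟩ := key_unique S hO (hK.trans hKO) ht ht1
    (fun d hd => (mem_centralizer_singleton_iff.mp (hOK hd)).symm) hs ⟨e, heO, hse⟩
  have he1 : e ≠ 1 := fun h => hse (by rw [h, one_mul, mul_one])
  have hPt : CA P t := ⟨e, hOP heO, he1, hte⟩
  have hinv : ∀ u ∈ Q, u ≠ 1 → u ≠ t → ∀ a ∈ (P : Subgroup G), u * a * u⁻¹ = a⁻¹ := by
    intro u hu hu1 hut a ha
    have hb : u * a * u⁻¹ ∈ (P : Subgroup G) := conj_mem_normalizer (hQP hu) ha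
    have h1 : u * (a * (u * a * u⁻¹)) = (a * (u * a * u⁻¹)) * u := by
      calc u * (a * (u * a * u⁻¹)) = (u * a * u⁻¹) * (u * (u * a * u⁻¹)) := by group
        _ = (u * a * u⁻¹) * ((u * u) * a * u⁻¹) := by group
        _ = (u * a * u⁻¹) * (a * u⁻¹) := by rw [sq_eq_one S hu, one_mul]
        _ = ((u * a * u⁻¹) * a) * u⁻¹ := by group
        _ = (a * (u * a * u⁻¹)) * u := by rw [comm_of_pgroup S P.2 hb ha, inv_eq_self S hu]
    by_contra hne
    apply hut
    refine fixed_only_one S hQP ht ht1 hu hu1 hPt ⟨_, mul_mem ha hb, ?_, h1⟩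
    intro h
    exact hne (eq_inv_of_mul_eq_one_right h)
  have hPne : ∃ a ∈ (P : Subgroup G), a ≠ 1 := ⟨e, hOP heO, he1⟩
  have two_inv : ∀ u ∈ Q, u ≠ 1 → u ≠ t → ∀ w ∈ Q, w ≠ 1 → w ≠ t →
      ∀ a ∈ (P : Subgroup G), (u * w) * a = a * (u * w) := by
    intro u hu hu1 hut w hw hw1 hwt a ha
    have h1 := hinv w hw hw1 hwt a ha
    calc u * w * a = (u * (w * a * w⁻¹) * u⁻¹) * (u * w) := by group
      _ = a * (u * w) := by rw [h1, hinv u hu hu1 hut a⁻¹ (inv_mem ha), inv_inv]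
  have hfour : ∀ u ∈ Q, u ≠ 1 → u ≠ t → ∀ b ∈ Q, b ≠ 1 → b ≠ t → b = u ∨ b = u * t := by
    intro u hu hu1 hut b hb hb1 hbt
    by_cases hbu : b = u
    · exact Or.inl hbu
    right
    have hne : u * b ≠ 1 := fun h => hbu (by
      rw [← inv_eq_self S hu]; exact eq_inv_of_mul_eq_one_right h)
    obtain ⟨a, ha, ha1⟩ := hPne
    have := fixed_only_one S hQP ht ht1 (mul_mem hu hb) hne hPt
      ⟨a, ha, ha1, two_inv u hu hu1 hut b hb hb1 hbt a ha⟩
    calc b = (u * u) * b := by rw [sq_eq_one S hu, one_mul]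
      _ = u * t := by rw [mul_assoc, this]
  have hcentP : ∀ a ∈ (P : Subgroup G), t * a = a * t := by
    obtain ⟨u, hu, hu1, hut⟩ := exists_other S t
    have h1 : t * u ≠ 1 := fun h => hut (by
      rw [← inv_eq_self S ht]; exact eq_inv_of_mul_eq_one_right h)
    have h2 : t * u ≠ t := fun h => hu1 (mul_eq_left.mp h)
    intro a ha
    have h3 := two_inv (t * u) (mul_mem ht hu) h1 h2 u hu hu1 hut a ha
    rwa [mul_assoc t u u, sq_eq_one S hu, mul_one] at h3
  have hct : ∀ g, g * t = t * g → ∃ a ∈ (P : Subgroup G), ∃ b ∈ Q, g = a * b := by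
    intro g hg
    obtain ⟨o, ho, b, hb, h⟩ := hsplit g (mem_centralizer_singleton_iff.mpr hg)
    exact ⟨o, hOP ho, b, hb, h⟩
  refine ⟨P, ⟨ht, ht1, hQP, hcentP, hinv, hfour, hct, ?_⟩⟩
  intro y hy hy1 g hg
  have hZQ : Q ≤ normalizer ((zpowers y : Subgroup G) : Set G) := by
    intro b hb
    rw [mem_normalizer_iff_conj_le]
    intro c hc
    obtain ⟨k, rfl⟩ := mem_zpowers_iff.mp hc
    rw [← conj_zpow]
    by_cases hb1 : b = 1
    · subst hb1; simpa using zpow_mem (mem_zpowers y) k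
    by_cases hbt : b = t
    · subst hbt
      rw [hcentP y hy, mul_inv_cancel_right]
      exact zpow_mem (mem_zpowers y) k
    · rw [hinv b hb hb1 hbt y hy]
      exact zpow_mem (inv_mem (mem_zpowers y)) k
  obtain ⟨u, hu, hu1, hut⟩ := exists_other S t
  have hmove : u * y ≠ y * u := by
    intro h
    exact hut (fixed_only_one S hQP ht ht1 hu hu1 hPt ⟨y, hy, hy1, h⟩)
  obtain ⟨P', hyP', -, huniq, hsp⟩ := key_unique S (E := zpowers y)
    (P.2.to_le (zpowers_le.mpr hy)) hZQ ht ht1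
    (fun d hd => hcentP d (zpowers_le.mpr hy hd)) hu ⟨y, mem_zpowers y, hmove⟩
  have hPP : P = P' := huniq P (zpowers_le.mpr hy)
  obtain ⟨a, ha, b, hb, rfl⟩ := hsp g hg
  rw [← hPP] at ha
  calc a * b * t = a * (b * t) := mul_assoc _ _ _
    _ = (a * t) * b := by rw [commQ S hb ht, ← mul_assoc]
    _ = t * (a * b) := by rw [← hcentP a ha, mul_assoc]

end Cfsg.Agent.MixedTwoPrimes89
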