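import Cfsg.Agent.Lib.MixedTwoPrimesBase89

/-!
The extremal situation `p = 2 ^ v - 1` with a transitively permuted Sylow `2`-subgroup.
-/

namespace Cfsg.Agent.MixedTwoPrimes89

open Subgroup
open scoped Pointwise

universe u

variable {G : Type u} [Group G]

/-- The data of a minimal counterexample in the extremal case. -/
structure Setup (p v : ℕ) (Q : Subgroup G) (x : G) : Prop where
  hp : p.Prime
  p_ne : p ≠ 2
  p_eq : p + 1 = 2 ^ v
  v_two : 2 ≤ v
  hmix : Mixed p 2 G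
  hpG : p ∣ Nat.card G
  card_fac : (Nat.card G).factorization 2 = v
  card_Q : Nat.card Q = 2 ^ v
  x_p : ∃ k, orderOf x = p ^ k
  x_norm : x ∈ normalizer (Q : Set G)
  free : ∀ t ∈ Q, x * t * x⁻¹ = t → t = 1
  trans : ∀ s ∈ Q, ∀ t ∈ Q, s ≠ 1 → t ≠ 1 → ∃ n : ℕ, x ^ n * s * (x ^ n)⁻¹ = t
  comm : ∀ P : Sylow p G, IsMulCommutative P
  small : ∀ H : Subgroup G, H ≠ ⊤ → 2 ∣ Nat.card H → ∀ r : ℕ, r.Prime → r ∣ Nat.card H →
    r = p ∨ r = 2
  simple : ∀ N : Subgroup G, N.Normal → N = ⊥ ∨ N = ⊤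

theorem mem_of_pow_coprime {g : G} {n : ℕ} (H : Subgroup G) (h : g ^ n ∈ H)
    (hc : n.Coprime (orderOf g)) : g ∈ H :=
  zpowers_le.mpr h (mem_zpowers_pow_iff.mpr hc)

theorem conj_mem_normalizer {x a : G} {N : Subgroup G} (hx : x ∈ normalizer (N : Set G))
    (ha : a ∈ N) : x * a * x⁻¹ ∈ N :=
  (mem_normalizer_iff.mp hx a).mp ha

theorem exists_ne_one_of_ne_bot' {H : Subgroup G} (h : H ≠ ⊥) : ∃ t, t ∈ H ∧ t ≠ 1 := by
  by_contra hc
  push Not at hc
  exact h ((eq_bot_iff_forall H).mpr hc)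

theorem mem_normalizer_iff_conj_le [Finite G] {g : G} {H : Subgroup G} :
    g ∈ normalizer (H : Set G) ↔ ∀ c ∈ H, g * c * g⁻¹ ∈ H := by
  constructor
  · exact fun h c hc => conj_mem_normalizer h hc
  · intro h
    rw [mem_normalizer_iff]
    intro c
    refine ⟨h c, fun hc => ?_⟩
    let f : H → H := fun d => ⟨g * d * g⁻¹, h d d.2⟩
    have hf : Function.Injective f := by
      intro d e hde
      have := congrArg Subtype.val hde
      exact Subtype.ext (mul_left_cancel (mul_right_cancel this))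
    obtain ⟨d, hd⟩ := (Finite.injective_iff_surjective.mp hf) ⟨g * c * g⁻¹, hc⟩
    have := congrArg Subtype.val hd
    have hdc : (d : G) = c := mul_left_cancel (mul_right_cancel this)
    exact hdc ▸ d.2

variable [Finite G] {p v : ℕ} {Q : Subgroup G} {x : G} (S : Setup p v Q x)
include S

theorem isPGroup_Q : IsPGroup 2 Q := IsPGroup.of_card (n := v) S.card_Q

theorem one_lt_four : 4 ≤ Nat.card Q := by
  rw [S.card_Q]
  calc 4 = 2 ^ 2 := by norm_num
    _ ≤ 2 ^ v := Nat.pow_le_pow_right (by norm_num) S.v_two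

theorem two_dvd_Q : 2 ∣ Nat.card Q := by
  rw [S.card_Q]; exact dvd_pow_self 2 (by have := S.v_two; omega)

theorem two_dvd_of_le {H : Subgroup G} (h : Q ≤ H) : 2 ∣ Nat.card H :=
  (two_dvd_Q S).trans (card_dvd_of_le h)

theorem sq_eq_one {a : G} (ha : a ∈ Q) : a * a = 1 := by
  have := Fact.mk Nat.prime_two
  by_cases ha1 : a = 1
  · rw [ha1, one_mul]
  obtain ⟨b, hb⟩ := exists_prime_orderOf_dvd_card' 2 (two_dvd_Q S)
  have hb' : orderOf (b : G) = 2 := by rw [orderOf_coe, hb]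
  have hb1 : (b : G) ≠ 1 := fun h => by rw [h, orderOf_one] at hb'; omega
  obtain ⟨n, hn⟩ := S.trans b b.2 a ha hb1 ha1
  have hbb : (b : G) * b = 1 := by
    rw [← pow_two, ← hb']; exact pow_orderOf_eq_one _
  calc a * a = (x ^ n * b * (x ^ n)⁻¹) * (x ^ n * b * (x ^ n)⁻¹) := by rw [hn]
    _ = x ^ n * ((b : G) * b) * (x ^ n)⁻¹ := by group
    _ = 1 := by rw [hbb]; group

theorem inv_eq_self {a : G} (ha : a ∈ Q) : a⁻¹ = a :=
  inv_eq_of_mul_eq_one_right (sq_eq_one S ha)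

theorem orderOf_Q {a : G} (ha : a ∈ Q) (h1 : a ≠ 1) : orderOf a = 2 := by
  have := Fact.mk Nat.prime_two
  exact orderOf_eq_prime (by rw [pow_two]; exact sq_eq_one S ha) h1

theorem commQ {a b : G} (ha : a ∈ Q) (hb : b ∈ Q) : a * b = b * a := by
  have := inv_eq_self S (mul_mem ha hb)
  rw [mul_inv_rev, inv_eq_self S ha, inv_eq_self S hb] at this
  exact this.symm

theorem exists_third : ∃ t ∈ Q, t ≠ 1 := by
  have hne : Q ≠ ⊥ := fun h => by
    have := one_lt_four S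
    rw [h, card_bot] at this
    omega
  obtain ⟨t, ht, ht1⟩ := exists_ne_one_of_ne_bot' hne
  exact ⟨t, ht, ht1⟩

theorem exists_other (t : G) : ∃ s ∈ Q, s ≠ 1 ∧ s ≠ t := by
  by_contra hc
  push Not at hc
  have hsub : (Q : Set G) ⊆ {1, t} := by
    intro s hs
    by_cases h1 : s = 1
    · exact Or.inl h1
    · exact Or.inr (hc s hs h1)
  have := Set.ncard_le_ncard hsub (Set.toFinite _)
  have h2 : ({1, t} : Set G).ncard ≤ 2 := Set.ncard_insert_le _ _ |>.trans (by rw [Set.ncard_singleton])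
  rw [← Nat.card_coe_set_eq] at this
  have := one_lt_four S
  simp only [SetLike.coe_sort_coe] at *
  omega

theorem not_p_dvd_two_pow (n : ℕ) : ¬ p ∣ 2 ^ n :=
  fun h => S.p_ne ((Nat.prime_dvd_prime_iff_eq S.hp Nat.prime_two).mp (S.hp.dvd_of_dvd_pow h))

theorem coprime_two_p (a b : ℕ) : (2 ^ a).Coprime (p ^ b) :=
  ((Nat.coprime_primes Nat.prime_two S.hp).mpr (Ne.symm S.p_ne)).pow a b

theorem eq_one_of_p_two {g : G} (h1 : ∃ k, orderOf g = p ^ k) (h2 : ∃ k, orderOf g = 2 ^ k) :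
    g = 1 := by
  obtain ⟨a, ha⟩ := h1
  obtain ⟨b, hb⟩ := h2
  have h := coprime_two_p S b a
  rw [← ha, ← hb, Nat.coprime_self] at h
  exact orderOf_eq_one_iff.mp h

theorem p_inter_Q {P : Subgroup G} (hP : IsPGroup p P) {g : G} (hgP : g ∈ P) (hgQ : g ∈ Q) :
    g = 1 := by
  have := Fact.mk S.hp
  have := Fact.mk Nat.prime_two
  refine eq_one_of_p_two S ?_ ?_
  · obtain ⟨k, hk⟩ := IsPGroup.iff_orderOf.mp hP ⟨g, hgP⟩
    exact ⟨k, by rw [← hk, orderOf_mk]⟩
  · obtain ⟨k, hk⟩ := IsPGroup.iff_orderOf.mp (isPGroup_Q S) ⟨g, hgQ⟩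
    exact ⟨k, by rw [← hk, orderOf_mk]⟩

theorem two_group_max {T : Subgroup G} (hT : IsPGroup 2 T) (h : Q ≤ T) : T = Q := by
  have := Fact.mk Nat.prime_two
  obtain ⟨n, hn⟩ := IsPGroup.iff_card.mp hT
  have hnv : n ≤ v := by
    rw [← S.card_fac]
    refine (Nat.Prime.pow_dvd_iff_le_factorization Nat.prime_two Nat.card_pos.ne').mp ?_
    rw [← hn]; exact card_subgroup_dvd_card T
  exact (eq_of_le_of_card_ge h (by rw [hn, S.card_Q]; exact Nat.pow_le_pow_right (by norm_num) hnv)).symm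

theorem two_mem_of_normalizes {g : G} (hg : ∃ k, orderOf g = 2 ^ k)
    (hgN : g ∈ normalizer (Q : Set G)) : g ∈ Q := by
  have := Fact.mk Nat.prime_two
  obtain ⟨k, hk⟩ := hg
  have hZ : IsPGroup 2 (zpowers g) := IsPGroup.of_card (n := k) (by rw [Nat.card_zpowers, hk])
  have hsup : IsPGroup 2 (Q ⊔ zpowers g : Subgroup G) := by
    rw [sup_comm]
    exact hZ.to_sup_of_normal_right' (isPGroup_Q S) (zpowers_le.mpr hgN)
  rw [← two_group_max S hsup le_sup_left]
  exact le_sup_right (α := Subgroup G) (mem_zpowers g)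

theorem sylow_conj {T : Subgroup G} (hT : IsPGroup 2 T) :
    ∃ g : G, ∀ a ∈ T, g⁻¹ * a * g ∈ Q := by
  have := Fact.mk Nat.prime_two
  obtain ⟨T', hT'⟩ := hT.exists_le_sylow
  let Q' : Sylow 2 G := Sylow.ofCard Q (by rw [S.card_Q, S.card_fac])
  obtain ⟨g, hg⟩ := MulAction.exists_smul_eq G T' Q'
  refine ⟨g⁻¹, fun a ha => ?_⟩
  have h1 : (MulAut.conj g • (T' : Subgroup G)) = Q := by
    have := congrArg Sylow.toSubgroup hg
    rwa [Sylow.coe_subgroup_smul] at this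
  rw [← h1]
  exact ⟨a, hT' ha, by simp [MulAut.conj_apply]⟩

theorem two_elem_conj {j : G} (hj : ∃ k, orderOf j = 2 ^ k) : ∃ g : G, g⁻¹ * j * g ∈ Q := by
  have := Fact.mk Nat.prime_two
  obtain ⟨k, hk⟩ := hj
  obtain ⟨g, hg⟩ := sylow_conj S (T := zpowers j)
    (IsPGroup.of_card (n := k) (by rw [Nat.card_zpowers, hk]))
  exact ⟨g, hg j (mem_zpowers j)⟩

theorem inv_conj {j t : G} (hj : orderOf j = 2) (ht : t ∈ Q) (ht1 : t ≠ 1) :
    ∃ g : G, j = g * t * g⁻¹ := by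
  obtain ⟨g, hg⟩ := two_elem_conj S (j := j) ⟨1, by rw [hj, pow_one]⟩
  have h1 : g⁻¹ * j * g ≠ 1 := by
    intro h
    have : j = 1 := by
      calc j = g * (g⁻¹ * j * g) * g⁻¹ := by group
        _ = 1 := by rw [h]; group
    rw [this, orderOf_one] at hj
    omega
  obtain ⟨n, hn⟩ := S.trans t ht _ hg ht1 h1
  refine ⟨g * x ^ n, ?_⟩
  calc j = g * (g⁻¹ * j * g) * g⁻¹ := by group
    _ = g * x ^ n * t * (g * x ^ n)⁻¹ := by rw [← hn]; group

/-- A `p`-element normalising `Q` and centralising an involution of `Q` centralises `Q`. -/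
theorem fix_central {g : G} (hg : ∃ k, orderOf g = p ^ k) (hgN : g ∈ normalizer (Q : Set G))
    {a : G} (ha : a ∈ Q) (ha1 : a ≠ 1) (hga : g * a = a * g) : g ∈ centralizer (Q : Set G) := by
  have := Fact.mk S.hp
  have := Fact.mk Nat.prime_two
  by_contra hC
  have h := moved_bound S.p_ne (isPGroup_Q S) hg hgN hC
    (by rw [S.card_fac]; have := S.p_eq; omega)
  exact ha1 (h.2.2.1 a ha (by rw [hga, mul_inv_cancel_right]))

theorem moved_trans {g : G} (hg : ∃ k, orderOf g = p ^ k) (hgN : g ∈ normalizer (Q : Set G))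
    (hC : g ∉ centralizer (Q : Set G)) {s t : G} (hs : s ∈ Q) (ht : t ∈ Q) (hs1 : s ≠ 1)
    (ht1 : t ≠ 1) : ∃ n : ℕ, g ^ n * s * (g ^ n)⁻¹ = t := by
  have := Fact.mk S.hp
  have := Fact.mk Nat.prime_two
  have h := moved_bound S.p_ne (isPGroup_Q S) hg hgN hC
    (by rw [S.card_fac]; have := S.p_eq; omega)
  exact h.2.2.2 s hs t ht hs1 ht1

theorem comm_of_pgroup {T : Subgroup G} (hT : IsPGroup p T) {a b : G} (ha : a ∈ T) (hb : b ∈ T) :
    a * b = b * a := by
  obtain ⟨P, hP⟩ := hT.exists_le_sylow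
  exact congrArg Subtype.val ((S.comm P).is_comm.comm ⟨a, hP ha⟩ ⟨b, hP hb⟩)

theorem Q_ne_top : Q ≠ ⊤ := by
  intro h
  have := S.hpG
  rw [← card_top (G := G), ← h, S.card_Q] at this
  exact not_p_dvd_two_pow S v this

theorem not_comm : ¬ ∀ a b : G, a * b = b * a := by
  intro h
  have hn : Q.Normal := ⟨fun a ha g => by rw [h g a, mul_inv_cancel_right]; exact ha⟩
  rcases S.simple Q hn with h1 | h1
  · obtain ⟨t, ht, ht1⟩ := exists_third S
    rw [h1, mem_bot] at ht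
    exact ht1 ht
  · exact Q_ne_top S h1

theorem centralizer_ne_top {c : G} (hc : c ≠ 1) : centralizer ({c} : Set G) ≠ ⊤ := by
  intro h
  have hcz : c ∈ center G := mem_center_iff.mpr fun g =>
    mem_centralizer_singleton_iff.mp (h ▸ mem_top g)
  rcases S.simple (center G) inferInstance with h1 | h1
  · rw [h1, mem_bot] at hcz
    exact hc hcz
  · exact not_comm S fun a b => mem_center_iff.mp (h1 ▸ mem_top b) a

theorem normalizer_ne_top {E : Subgroup G} (hE : IsPGroup p E) (hE1 : E ≠ ⊥) :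
    normalizer (E : Set G) ≠ ⊤ := by
  intro h
  rcases S.simple E (normalizer_eq_top_iff.mp h) with h1 | h1
  · exact hE1 h1
  · obtain ⟨t, ht, ht1⟩ := exists_third S
    exact ht1 (p_inter_Q S hE (h1 ▸ mem_top t) ht)

theorem card_split {H : Subgroup G} (hH : H ≠ ⊤) (h2 : 2 ∣ Nat.card H) :
    ∃ a b : ℕ, a ≤ v ∧ Nat.card H = 2 ^ a * p ^ b := by
  set n := Nat.card H with hn
  have hn0 : n ≠ 0 := Nat.card_pos.ne'
  refine ⟨n.factorization 2, (n / 2 ^ n.factorization 2).primeFactorsList.length, ?_, ?_⟩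
  · rw [← S.card_fac]
    exact (Nat.factorization_le_iff_dvd hn0 Nat.card_pos.ne').mpr (card_subgroup_dvd_card H) 2
  · have h := Nat.ordProj_mul_ordCompl_eq_self n 2
    have hu : n / 2 ^ n.factorization 2 = p ^ (n / 2 ^ n.factorization 2).primeFactorsList.length := by
      refine Nat.eq_prime_pow_of_unique_prime_dvd (Nat.ordCompl_pos 2 hn0).ne' (fun {d} hd hdd => ?_)
      rcases S.small H hH h2 d hd (hdd.trans (Nat.ordCompl_dvd n 2)) with h' | h'
      · exact h'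
      · exact absurd (h' ▸ hdd) (Nat.not_dvd_ordCompl Nat.prime_two hn0)
    rw [← hu, h]

/-- A proper subgroup containing `Q` in which no `p`-element moves `Q` is `2`-nilpotent. -/
theorem two_split {K : Subgroup G} (hK : K ≠ ⊤) (hQK : Q ≤ K)
    (hfix : ∀ g ∈ K, (∃ k, orderOf g = p ^ k) → g ∈ normalizer (Q : Set G) →
      g ∈ centralizer (Q : Set G)) :
    ∃ O : Subgroup G, IsPGroup p O ∧ O ≤ K ∧ K ≤ normalizer (O : Set G) ∧
      (∀ g ∈ K, ∃ o ∈ O, ∃ a ∈ Q, g = o * a) ∧ (∀ g ∈ K, (∃ k, orderOf g = p ^ k) → g ∈ O) := by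
  have := Fact.mk S.hp
  have := Fact.mk Nat.prime_two
  obtain ⟨a, b, hav, hcard⟩ := card_split S hK (two_dvd_of_le S hQK)
  have hNC : ∀ g ∈ K, g ∈ normalizer (Q : Set G) → g ∈ centralizer (Q : Set G) := by
    intro g hgK hgN
    have hord : orderOf g ∣ 2 ^ a * p ^ b := by
      rw [← hcard, ← orderOf_mk g hgK]; exact orderOf_dvd_natCard _
    have h1 : g ^ (2 ^ a) ∈ centralizer (Q : Set G) := by
      refine hfix _ (pow_mem hgK _) ?_ (pow_mem hgN _)
      obtain ⟨k, -, hk⟩ := (Nat.dvd_prime_pow S.hp).mp (show orderOf (g ^ (2 ^ a)) ∣ p ^ b by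
        apply orderOf_dvd_of_pow_eq_one
        rw [← pow_mul]
        exact orderOf_dvd_iff_pow_eq_one.mp hord)
      exact ⟨k, hk⟩
    have h2 : g ^ (p ^ b) ∈ centralizer (Q : Set G) := by
      have hmem : g ^ (p ^ b) ∈ Q := by
        refine two_mem_of_normalizes S ?_ (pow_mem hgN _)
        obtain ⟨k, -, hk⟩ := (Nat.dvd_prime_pow Nat.prime_two).mp
          (show orderOf (g ^ (p ^ b)) ∣ 2 ^ a by
            apply orderOf_dvd_of_pow_eq_one
            rw [← pow_mul, mul_comm]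
            exact orderOf_dvd_iff_pow_eq_one.mp hord)
        exact ⟨k, hk⟩
      rw [mem_centralizer_iff]
      exact fun c hc => commQ S hc hmem
    have hbz := Nat.gcd_eq_gcd_ab (2 ^ a) (p ^ b)
    rw [(coprime_two_p S a b)] at hbz
    have hg : g = (g ^ (2 ^ a)) ^ Nat.gcdA (2 ^ a) (p ^ b) * (g ^ (p ^ b)) ^ Nat.gcdB (2 ^ a) (p ^ b) := by
      rw [← zpow_natCast g (2 ^ a), ← zpow_natCast g (p ^ b), ← zpow_mul, ← zpow_mul, ← zpow_add,
        ← hbz]
      simp
    rw [hg]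
    exact mul_mem (zpow_mem h1 _) (zpow_mem h2 _)
  have hva : a = v := by
    have h1 : 2 ^ v ∣ 2 ^ a * p ^ b := by rw [← hcard, ← S.card_Q]; exact card_dvd_of_le hQK
    exact le_antisymm hav ((Nat.pow_dvd_pow_iff_le_right (by norm_num)).mp
      ((coprime_two_p S v b).dvd_of_dvd_mul_right h1))
  have hidx : ¬ 2 ∣ (Q.subgroupOf K).index := by
    have h := (Q.subgroupOf K).card_mul_index
    rw [Nat.card_congr (subgroupOfEquivOfLe hQK).toEquiv, S.card_Q, hcard, hva] at h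
    rw [Nat.eq_of_mul_eq_mul_left (by positivity) h]
    intro h2
    exact S.p_ne ((Nat.prime_dvd_prime_iff_eq Nat.prime_two S.hp).mp
      (Nat.prime_two.dvd_of_dvd_pow h2)).symm
  let Q' : Sylow 2 K := ((isPGroup_Q S).comap_subtype).toSylow hidx
  have hQ' : (Q' : Subgroup K) = Q.subgroupOf K := rfl
  have hN : normalizer ((Q' : Subgroup K) : Set K) ≤ centralizer ((Q' : Subgroup K) : Set K) := by
    intro g hg
    have hg' : (g : G) ∈ normalizer (Q : Set G) := by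
      refine mem_normalizer_iff_conj_le.mpr ?_
      intro c hc
      exact (mem_normalizer_iff.mp hg ⟨c, hQK hc⟩).mp hc
    have hgC := hNC g g.2 hg'
    rw [mem_centralizer_iff]
    intro c hc
    exact Subtype.ext (mem_centralizer_iff.mp hgC c hc)
  obtain ⟨R, hn, hc⟩ : ∃ R : Subgroup K, R.Normal ∧ IsComplement' R (Q' : Subgroup K) :=
    ⟨_, MonoidHom.normal_ker _, MonoidHom.ker_transferSylow_isComplement' Q' hN⟩
  have hRidx : R.index = 2 ^ v := by
    rw [hc.symm.index_eq_card, hQ', Nat.card_congr (subgroupOfEquivOfLe hQK).toEquiv, S.card_Q]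
  have hRcard : Nat.card R ∣ p ^ b := by
    refine Dvd.intro_left 1 ?_
    have h := R.card_mul_index
    rw [hRidx, hcard, hva, mul_comm (2 ^ v)] at h
    rw [one_mul]
    exact Nat.eq_of_mul_eq_mul_right (by positivity) h
  refine ⟨R.map K.subtype, ?_, map_subtype_le R, ?_, ?_, ?_⟩
  · obtain ⟨k, -, hk⟩ := (Nat.dvd_prime_pow S.hp).mp hRcard
    exact (IsPGroup.of_card hk).map K.subtype
  · intro g hg
    refine mem_normalizer_iff_conj_le.mpr ?_
    rintro _ ⟨c, hc', rfl⟩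
    exact ⟨⟨g, hg⟩ * c * ⟨g, hg⟩⁻¹, hn.conj_mem c hc' ⟨g, hg⟩, rfl⟩
  · intro g hg
    obtain ⟨⟨o, c⟩, hoc, -⟩ := hc.existsUnique ⟨g, hg⟩
    exact ⟨((o : K) : G), ⟨o, o.2, rfl⟩, ((c : K) : G), c.2, (congrArg Subtype.val hoc).symm⟩
  · intro g hg hgp
    obtain ⟨k, hk⟩ := hgp
    refine ⟨⟨g, hg⟩, ?_, rfl⟩
    have hmem : (⟨g, hg⟩ : K) ^ (2 ^ v) ∈ R := by
      rw [← hRidx]; exact R.pow_index_mem _
    refine mem_of_pow_coprime R hmem ?_
    rw [orderOf_mk, hk]
    exact coprime_two_p S v k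

end Cfsg.Agent.MixedTwoPrimes89
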