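import Mathlib
import Cfsg.Agent.Lib.Model648

/-!
Pairs of involutions in the model group.
-/

set_option autoImplicit false
set_option maxRecDepth 100000

open scoped ComplexConjugate
open Cfsg.Agent.Model108 (om val emul econj)

namespace Cfsg.Agent.Model648Pairs

open Cfsg.Agent.Model648

lemma pair_E : ∀ r : Fin 4, ∀ i k : Fin 2,
    (∑ p ∈ Finset.univ.filter (fun m : M648 => cls m = tcls i),
      ∑ q ∈ Finset.univ.filter (fun m : M648 => cls m = tcls k), tab (four r) (cls (p * q))) =
      int4 (pairT r i k) := by
  decide +kernel

end Cfsg.Agent.Model648Pairs
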