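import Mathlib

/-!
Fixed points of a 2-subgroup on a module in characteristic 2 on which a normal abelian subgroup of odd
order has no fixed points: counting via the supports in the eigen-decomposition over an algebraically
closed field.
-/

set_option autoImplicit false

namespace Cfsg.Agent.ModuleSupports56

open Matrix

abbrev K2 := AlgebraicClosure (ZMod 2)

/-- A 2-group fixes a non-zero vector of any non-zero invariant subspace in characteristic 2. -/
theorem exists_fixed {A W : Type*} [Group A] [Finite A] (hA : IsPGroup 2 A) [AddCommGroup W]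
    [Module (ZMod 2) W] (T : A →* W →ₗ[ZMod 2] W) (U : Submodule (ZMod 2) W)
    (hU : ∀ a, ∀ w ∈ U, T a w ∈ U) (hne : U ≠ ⊥) : ∃ w ∈ U, w ≠ 0 ∧ ∀ a, T a w = w := by
  classical
  obtain ⟨u, hu, hu0⟩ := Submodule.exists_mem_ne_zero_of_ne_bot hne
  let O : Set W := Set.range fun a => T a u
  let Z := Submodule.span (ZMod 2) O
  haveI : Finite O := Set.finite_range _
  haveI : Module.Finite (ZMod 2) Z := Module.Finite.span_of_finite (ZMod 2) (Set.finite_range _)
  haveI : Finite Z := Module.finite_of_finite (ZMod 2)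
  have hZ : ∀ a, ∀ w ∈ Z, T a w ∈ Z := by
    intro a w hw
    have : (T a) w ∈ Z.map (T a) := ⟨w, hw, rfl⟩
    refine (show Z.map (T a) ≤ Z from ?_) this
    rw [Submodule.map_span]
    refine Submodule.span_le.2 ?_
    rintro _ ⟨_, ⟨b, rfl⟩, rfl⟩
    exact Submodule.subset_span ⟨a * b, by simp⟩
  letI : MulAction A Z :=
    { smul := fun a z => ⟨T a z, hZ a z z.2⟩
      one_smul := fun z => Subtype.ext (by show T 1 (z : W) = z; rw [map_one]; rfl)
      mul_smul := fun a b z => Subtype.ext (by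
        show T (a * b) (z : W) = T a (T b z); rw [map_mul]; rfl) }
  haveI : Fact (Nat.Prime 2) := ⟨Nat.prime_two⟩
  have huZ : u ∈ Z := Submodule.subset_span ⟨1, by simp⟩
  have hdvd : 2 ∣ Nat.card Z := by
    haveI : Nontrivial Z := ⟨⟨⟨u, huZ⟩, 0, fun h => hu0 (congrArg Subtype.val h)⟩⟩
    rw [Module.natCard_eq_pow_finrank (K := ZMod 2), Nat.card_zmod]
    exact dvd_pow_self 2 Module.finrank_pos.ne'
  obtain ⟨z, hz, hz0⟩ := hA.exists_fixed_point_of_prime_dvd_card_of_fixed_point (α := Z) hdvd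
    (a := 0) (fun a => Subtype.ext (map_zero (T a)))
  refine ⟨z, (Submodule.span_le.2 ?_) z.2, fun h => hz0 (Subtype.ext h.symm),
    fun a => congrArg Subtype.val (hz a)⟩
  rintro _ ⟨a, rfl⟩
  exact hU a u hu

variable {S : Type*} [Group S] [Finite S] {ι : Type*} [Fintype ι] [DecidableEq ι]
  (R : S →* Matrix ι ι (ZMod 2)) (N : Subgroup S)

/-- The extended action. -/
noncomputable def RK : S →* Matrix ι ι K2 := ((algebraMap (ZMod 2) K2).mapMatrix.toMonoidHom).comp R

omit [Finite S] in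
theorem comp_RK (φ : K2 →ₗ[ZMod 2] ZMod 2) (s : S) (w : ι → K2) :
    φ ∘ (RK R s *ᵥ w) = R s *ᵥ (φ ∘ w) := by
  funext i
  simp only [Function.comp_apply, Matrix.mulVec, dotProduct, map_sum, RK, MonoidHom.comp_apply]
  refine Finset.sum_congr rfl fun j _ => ?_
  show φ (algebraMap (ZMod 2) K2 (R s i j) * w j) = _
  rw [← Algebra.smul_def, map_smul, smul_eq_mul]

omit [Finite S] in
theorem RK_apply_map (s : S) (u : ι → ZMod 2) :
    RK R s *ᵥ (algebraMap (ZMod 2) K2 ∘ u) = algebraMap (ZMod 2) K2 ∘ (R s *ᵥ u) := by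
  funext i
  simp only [Function.comp_apply, Matrix.mulVec, dotProduct, map_sum, map_mul, RK,
    MonoidHom.comp_apply]
  rfl

/-- The fixed space of a subgroup. -/
def fixF (A : Subgroup S) : Submodule (ZMod 2) (ι → ZMod 2) where
  carrier := {u | ∀ a ∈ A, R a *ᵥ u = u}
  zero_mem' := fun a _ => Matrix.mulVec_zero _
  add_mem' := fun {x y} hx hy a ha => by rw [Matrix.mulVec_add, hx a ha, hy a ha]
  smul_mem' := fun c {x} hx a ha => by rw [Matrix.mulVec_smul, hx a ha]

/-- The fixed space over the algebraic closure is spanned by the fixed vectors over the prime field. -/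
theorem mem_span_fix (A : Subgroup S) {w : ι → K2} (hw : ∀ a ∈ A, RK R a *ᵥ w = w) :
    w ∈ Submodule.span K2 ((fun u : ι → ZMod 2 => algebraMap (ZMod 2) K2 ∘ u) '' fixF R A) := by
  classical
  let b := Module.Free.chooseBasis (ZMod 2) K2
  let s := Finset.univ.biUnion fun i => (b.repr (w i)).support
  have hsum : w = ∑ j ∈ s, b j • (algebraMap (ZMod 2) K2 ∘ ((b.coord j) ∘ w)) := by
    funext i
    simp only [Finset.sum_apply, Pi.smul_apply, Function.comp_apply, smul_eq_mul,
      Module.Basis.coord_apply]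
    conv_lhs => rw [← b.linearCombination_repr (w i)]
    rw [Finsupp.linearCombination_apply, Finsupp.sum_of_support_subset _
      (Finset.subset_biUnion_of_mem (fun i => (b.repr (w i)).support) (Finset.mem_univ i)) _
      (fun j _ => by rw [zero_smul])]
    exact Finset.sum_congr rfl fun j _ => by rw [Algebra.smul_def, mul_comm]
  rw [hsum]
  refine Submodule.sum_mem _ fun j _ => Submodule.smul_mem _ _ (Submodule.subset_span ⟨_, ?_, rfl⟩)
  intro a ha
  rw [← comp_RK, hw a ha]

variable [N.Normal]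

/-- Twist a character of `N` by conjugation. -/
noncomputable def tw (h : S) (l : N →* K2ˣ) : N →* K2ˣ :=
  l.comp (MulAut.conjNormal h⁻¹).toMonoidHom

omit [Finite S] in
theorem tw_apply (h : S) (l : N →* K2ˣ) (a : N) : tw N h l a = l (MulAut.conjNormal h⁻¹ a) := rfl

omit [Finite S] in
theorem tw_one (l : N →* K2ˣ) : tw N 1 l = l := MonoidHom.ext fun a => by
  simp [tw_apply]

omit [Finite S] in
theorem tw_mul (g h : S) (l : N →* K2ˣ) : tw N (g * h) l = tw N g (tw N h l) :=
  MonoidHom.ext fun a => by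
    simp [tw_apply, map_mul]

variable [Fintype N]

/-- The eigen-projection. -/
noncomputable def proj (l : N →* K2ˣ) (w : ι → K2) : ι → K2 :=
  (Fintype.card N : K2)⁻¹ • ∑ a : N, ((l a)⁻¹ : K2ˣ).val • (RK R a *ᵥ w)

omit [Finite S] in
theorem proj_smul (l : N →* K2ˣ) (c : K2) (w : ι → K2) : proj R N l (c • w) = c • proj R N l w := by
  simp only [proj, Matrix.mulVec_smul, Finset.smul_sum, smul_smul]
  exact Finset.sum_congr rfl fun a _ => by congr 1; ring

omit [Finite S] in
theorem proj_add (l : N →* K2ˣ) (v w : ι → K2) :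
    proj R N l (v + w) = proj R N l v + proj R N l w := by
  simp only [proj, Matrix.mulVec_add, smul_add, Finset.sum_add_distrib]

omit [Finite S] in
theorem proj_zero (l : N →* K2ˣ) : proj R N l 0 = 0 := by
  simp [proj]

omit [Finite S] in
/-- Equivariance. -/
theorem proj_tw (h : S) (l : N →* K2ˣ) (w : ι → K2) :
    proj R N (tw N h l) (RK R h *ᵥ w) = RK R h *ᵥ proj R N l w := by
  simp only [proj, Matrix.mulVec_smul, Matrix.mulVec_sum]
  congr 1
  refine Fintype.sum_equiv (MulAut.conjNormal h⁻¹ : MulAut N).toEquiv _ _ fun a => ?_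
  rw [tw_apply, Matrix.mulVec_mulVec, Matrix.mulVec_mulVec, ← map_mul, ← map_mul]
  congr 3
  simp [mul_assoc]

omit [Finite S] in
theorem RK_proj (l : N →* K2ˣ) (b : N) (w : ι → K2) :
    RK R b *ᵥ proj R N l w = (l b).val • proj R N l w := by
  simp only [proj, Matrix.mulVec_smul, Matrix.mulVec_sum, Finset.smul_sum, smul_smul]
  refine Fintype.sum_equiv (Equiv.mulLeft b) _ _ fun a => ?_
  rw [Matrix.mulVec_mulVec, ← map_mul, Equiv.coe_mulLeft, Subgroup.coe_mul, map_mul l, mul_inv,
    Units.val_mul]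
  congr 1
  rw [mul_comm ((l b).val) _, mul_assoc, mul_assoc, mul_comm ((l a)⁻¹).val, ← mul_assoc ((l b)⁻¹).val,
    Units.inv_mul, one_mul]

theorem eq_zero_of_proj (hc : ∀ a b : N, a * b = b * a) (hodd : Odd (Fintype.card N))
    {w : ι → K2} (h : ∀ l, proj R N l w = 0) : w = 0 := by
  classical
  letI : CommGroup N := { (inferInstance : Group N) with mul_comm := hc }
  have hn : (Fintype.card N : K2) ≠ 0 := fun h => by
    rw [CharP.cast_eq_zero_iff K2 2] at h
    exact hodd.not_two_dvd_nat h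
  haveI : NeZero (Monoid.exponent N : K2) := ⟨fun h => by
    rw [CharP.cast_eq_zero_iff K2 2] at h
    exact hodd.not_two_dvd_nat (h.trans Group.exponent_dvd_card)⟩
  haveI : HasEnoughRootsOfUnity K2 (Monoid.exponent N) := inferInstance
  haveI : Finite (N →* K2ˣ) :=
    Finite.of_equiv _ (CommGroup.monoidHom_mulEquiv_of_hasEnoughRootsOfUnity N K2).some.symm.toEquiv
  haveI : Fintype (N →* K2ˣ) := Fintype.ofFinite _
  have horth : ∀ a : N, ∑ l : N →* K2ˣ, ((l a)⁻¹ : K2ˣ).val =
      if a = 1 then (Fintype.card N : K2) else 0 := by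
    intro a
    by_cases ha : a = 1
    · subst ha
      have : Fintype.card (N →* K2ˣ) = Fintype.card N := by
        rw [← Nat.card_eq_fintype_card, ← Nat.card_eq_fintype_card,
          CommGroup.card_monoidHom_of_hasEnoughRootsOfUnity]
      simp [this]
    · rw [if_neg ha]
      obtain ⟨l0, hl0⟩ := CommGroup.exists_apply_ne_one_of_hasEnoughRootsOfUnity N K2 ha
      have h1 : ((l0 a)⁻¹ : K2ˣ).val * ∑ l : N →* K2ˣ, ((l a)⁻¹ : K2ˣ).val =
          ∑ l : N →* K2ˣ, ((l a)⁻¹ : K2ˣ).val := by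
        rw [Finset.mul_sum]
        refine Fintype.sum_equiv (Equiv.mulLeft l0) _ _ fun l => ?_
        simp [mul_comm]
      have h2 : (((l0 a)⁻¹ : K2ˣ).val - 1) * ∑ l : N →* K2ˣ, ((l a)⁻¹ : K2ˣ).val = 0 := by
        rw [sub_mul, one_mul, h1, sub_self]
      refine (mul_eq_zero.1 h2).resolve_left (sub_ne_zero.2 fun h3 => hl0 ?_)
      exact inv_eq_one.1 (Units.val_eq_one.1 h3)
  have h0 : ∑ l : N →* K2ˣ, proj R N l w = 0 := Finset.sum_eq_zero fun l _ => h l
  simp only [proj, ← Finset.smul_sum] at h0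
  rw [Finset.sum_comm] at h0
  simp only [← Finset.sum_smul, horth, ite_smul, zero_smul, Finset.sum_ite_eq', Finset.mem_univ,
    if_true, smul_smul, inv_mul_cancel₀ hn, one_smul, OneMemClass.coe_one, map_one,
    Matrix.one_mulVec] at h0
  exact h0

theorem proj_proj (hodd : Odd (Fintype.card N)) (l m : N →* K2ˣ) (w : ι → K2) :
    proj R N m (proj R N l w) ≠ 0 → m = l := by
  classical
  intro h
  by_contra hne
  refine h ?_
  let f : N →* K2 := (Units.coeHom K2).comp (m⁻¹ * l)
  have hf : f ≠ 1 := fun h1 => hne (by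
    refine MonoidHom.ext fun a => Units.ext ?_
    have h2 := DFunLike.congr_fun h1 a
    simp only [f, MonoidHom.comp_apply, MonoidHom.mul_apply, MonoidHom.inv_apply, Units.coeHom_apply,
      Units.val_mul, MonoidHom.one_apply] at h2
    exact (Units.inv_mul_eq_one.1 h2))
  have hs := sum_hom_units_eq_zero f hf
  show (Fintype.card N : K2)⁻¹ • ∑ a : N, ((m a)⁻¹ : K2ˣ).val • (RK R a *ᵥ proj R N l w) = 0
  simp only [RK_proj, smul_smul, ← Finset.sum_smul]
  have : ∑ a : N, ((m a)⁻¹ : K2ˣ).val * (l a).val = ∑ a : N, f a :=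
    Finset.sum_congr rfl fun a _ => by simp [f]
  rw [this, hs]; simp

/-- Main statement, in coordinates. -/
theorem fixed_bound (hc : ∀ a b : N, a * b = b * a) (hodd : Odd (Fintype.card N))
    (hfix : ∀ u : ι → ZMod 2, (∀ a : N, R a *ᵥ u = u) → u = 0) [Nonempty ι]
    (A : Subgroup S) (hA : IsPGroup 2 A) (g : S) (q : ℕ) (hq : q.Prime) (hq2 : q ≠ 2)
    (hg : g ^ q = 1) (hgN : ∀ l : N →* K2ˣ, tw N g l = l → l = 1) :
    2 ≤ Module.finrank (ZMod 2) (fixF R A) ∧
      (Module.finrank (ZMod 2) (fixF R A) = 2 → ∃ u ∈ fixF R A, R g *ᵥ u ∉ fixF R A) := by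
  classical
  haveI : Fact q.Prime := ⟨hq⟩
  haveI : Fact (Nat.Prime 2) := ⟨Nat.prime_two⟩
  letI : CommGroup N := { (inferInstance : Group N) with mul_comm := hc }
  haveI : Finite (N →* K2ˣ) := by
    haveI : NeZero (Monoid.exponent N : K2) := ⟨fun h => by
      rw [CharP.cast_eq_zero_iff K2 2] at h
      exact hodd.not_two_dvd_nat (h.trans Group.exponent_dvd_card)⟩
    exact Finite.of_equiv _ (CommGroup.monoidHom_mulEquiv_of_hasEnoughRootsOfUnity N K2).some.symm.toEquiv
  letI : MulAction S (N →* K2ˣ) :=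
    { smul := tw N, one_smul := tw_one N, mul_smul := tw_mul N }
  let supp : (ι → K2) → Set (N →* K2ˣ) := fun w => {l | proj R N l w ≠ 0}
  have hsupp : ∀ (h : S) w l, tw N h l ∈ supp (RK R h *ᵥ w) ↔ l ∈ supp w := by
    intro h w l
    simp only [supp, Set.mem_setOf_eq, proj_tw]
    refine not_congr ⟨fun h0 => ?_, fun h0 => by rw [h0, Matrix.mulVec_zero]⟩
    have := congrArg (fun v => RK R h⁻¹ *ᵥ v) h0
    simpa [Matrix.mulVec_mulVec, ← map_mul] using this
  let L : Set (N →* K2ˣ) := {l | ∃ w, l ∈ supp w}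
  have hLinv : ∀ (h : S), ∀ l ∈ L, h • l ∈ L := fun h l ⟨w, hw⟩ => ⟨_, (hsupp h w l).2 hw⟩
  have hone : (1 : N →* K2ˣ) ∉ L := by
    rintro ⟨w, hw⟩
    refine hw ?_
    have hv : ∀ a : N, RK R a *ᵥ proj R N 1 w = proj R N 1 w := fun a => by
      rw [RK_proj]; simp
    funext i
    apply (Module.forall_dual_apply_eq_zero_iff (ZMod 2) _).1
    intro φ
    exact congrFun (hfix (φ ∘ proj R N 1 w) fun a => by rw [← comp_RK, hv a]) i
  have hgfix : ∀ l ∈ L, g • l ≠ l := fun l hl he => hone (hgN l he ▸ hl)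
  -- a subgroup of order q
  have hQ : IsPGroup q (Subgroup.zpowers g) := by
    obtain ⟨m, -, hm⟩ := (Nat.dvd_prime_pow hq (m := 1)).1
      (orderOf_dvd_of_pow_eq_one (x := g) (n := q ^ 1) (by rwa [pow_one]))
    exact IsPGroup.of_card (n := m) (by rw [Nat.card_zpowers, hm])
  have hdiv : ∀ O : Set (N →* K2ˣ), O ⊆ L → (∀ l ∈ O, g • l ∈ O) → q ∣ Nat.card O := by
    intro O hOL hO
    have himg : (g • ·) '' O = O := (Set.Finite.eq_of_subset_of_card_le (Set.toFinite O)
      (fun x ⟨l, hl, e⟩ => e ▸ hO l hl) (Nat.card_image_of_injective (MulAction.injective g) O).ge)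
    let Os : SubMulAction (Subgroup.zpowers g) (N →* K2ˣ) :=
      { carrier := O
        smul_mem' := by
          rintro ⟨_, k, rfl⟩ l hl
          have hz : ∀ k : ℤ, ∀ l ∈ O, g ^ k • l ∈ O := by
            intro k
            induction k using Int.induction_on with
            | zero => intro l hl; simpa using hl
            | succ k ih => intro l hl; rw [_root_.zpow_add_one, mul_smul]; exact ih _ (hO l hl)
            | pred k ih =>
              intro l hl
              rw [_root_.zpow_sub_one, mul_smul]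
              obtain ⟨l', hl', e⟩ := himg.symm ▸ hl
              exact ih _ (by rw [← e, inv_smul_smul]; exact hl')
          exact hz k l hl }
    have h := hQ.card_modEq_card_fixedPoints Os
    haveI : IsEmpty (MulAction.fixedPoints (Subgroup.zpowers g) Os) := ⟨fun ⟨⟨l, hl⟩, hf⟩ =>
      hgfix l (hOL hl) (congrArg Subtype.val (hf ⟨g, Subgroup.mem_zpowers g⟩))⟩
    rw [Nat.card_of_isEmpty (α := MulAction.fixedPoints (Subgroup.zpowers g) Os),
      Nat.modEq_zero_iff_dvd] at h
    exact h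
  -- fixed vectors supported on the orbits
  have horb : ∀ l ∈ L, ∃ v : ι → K2, (∀ a ∈ A, RK R a *ᵥ v = v) ∧ supp v = MulAction.orbit A l := by
    intro l ⟨w, hw⟩
    let T : A →* (ι → K2) →ₗ[ZMod 2] (ι → K2) :=
      { toFun := fun a => (Matrix.mulVecLin (RK R (a : S))).restrictScalars (ZMod 2)
        map_one' := by ext v; simp
        map_mul' := fun a b => by ext v; simp [Matrix.mulVec_mulVec] }
    let U : Submodule (ZMod 2) (ι → K2) :=
      { carrier := {v | supp v ⊆ MulAction.orbit A l}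
        zero_mem' := fun m hm => absurd (proj_zero R N m) hm
        add_mem' := fun {x y} hx hy m hm => by
          by_contra h
          apply hm
          rw [proj_add, not_not.1 fun h' => h (hx h'), not_not.1 fun h' => h (hy h'), add_zero]
        smul_mem' := fun c {x} hx m hm => hx fun h' => hm (by
          rw [← algebraMap_smul K2 c x, proj_smul, h', smul_zero]) }
    have hUne : U ≠ ⊥ := fun h => hw (by
      have hm : proj R N l w ∈ U := fun m hm => by
        rw [proj_proj R N hodd l m w hm]; exact MulAction.mem_orbit_self l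
      rw [h, Submodule.mem_bot] at hm
      exact hm)
    obtain ⟨v, hvU, hv0, hvf⟩ := exists_fixed hA T U (fun a v hv m hm => by
      have e : tw N (a : S) ((a : S)⁻¹ • m) = m := smul_inv_smul (a : S) m
      have h1 : (a : S)⁻¹ • m ∈ supp v := (hsupp a v _).1 (e.symm ▸ hm)
      have h2 := MulAction.mem_orbit_of_mem_orbit a (hv h1)
      rwa [Subgroup.smul_def, smul_inv_smul] at h2) hUne
    refine ⟨v, fun a ha => hvf ⟨a, ha⟩, Set.Subset.antisymm hvU ?_⟩
    obtain ⟨m, hm⟩ : ∃ m, m ∈ supp v := by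
      by_contra! h
      exact hv0 (eq_zero_of_proj R N hc hodd fun m => not_not.1 (h m))
    rw [← MulAction.orbit_eq_iff.2 (hvU hm)]
    rintro _ ⟨a, rfl⟩
    have := (hsupp a v m).2 hm
    rwa [show RK R (a : S) *ᵥ v = v from hvf a] at this
  obtain ⟨l1, hl1⟩ : L.Nonempty := by
    by_contra! h
    have hw : (fun _ => (1 : K2)) = (0 : ι → K2) := eq_zero_of_proj R N hc hodd fun l => by
      by_contra hl
      exact (h ▸ (⟨_, hl⟩ : l ∈ L) : l ∈ (∅ : Set _))
    exact one_ne_zero (congrFun hw (Classical.arbitrary ι))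
  set O1 := MulAction.orbit A l1 with hO1
  have hO1L : O1 ⊆ L := by rintro _ ⟨a, rfl⟩; exact hLinv _ _ hl1
  obtain ⟨k1, hk1⟩ := hA.card_orbit l1
  have hnot : ¬ q ∣ Nat.card O1 := fun hd => by
    rw [hk1] at hd
    exact hq2 ((Nat.prime_dvd_prime_iff_eq hq Nat.prime_two).1 (hq.dvd_of_dvd_pow hd))
  obtain ⟨l2, hl2, hl2'⟩ : ∃ l2 ∈ L, l2 ∉ O1 := by
    by_contra! h
    exact hnot (hdiv O1 hO1L fun l hl => h _ (hLinv g l (hO1L hl)))
  set O2 := MulAction.orbit A l2 with hO2
  have hdisj : ∀ m, m ∈ O1 → m ∈ O2 → False := fun m h1 h2 => hl2' (by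
    rw [hO1, ← MulAction.orbit_eq_iff.2 h1, MulAction.orbit_eq_iff.2 h2]
    exact MulAction.mem_orbit_self l2)
  obtain ⟨v1, hv1, hs1⟩ := horb l1 hl1
  obtain ⟨v2, hv2, hs2⟩ := horb l2 hl2
  replace hs1 : supp v1 = O1 := hs1
  replace hs2 : supp v2 = O2 := hs2
  have hli : LinearIndependent K2 ![v1, v2] := by
    rw [LinearIndependent.pair_iff]
    intro s t hst
    constructor
    · by_contra hs
      have h := congrArg (proj R N l1) hst
      have h2 : proj R N l1 v2 = 0 := not_not.1 fun h' =>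
        hdisj l1 (MulAction.mem_orbit_self _) (hs2 ▸ (h' : l1 ∈ supp v2))
      rw [proj_add, proj_smul, proj_smul, proj_zero, h2, smul_zero, add_zero, smul_eq_zero] at h
      exact (h.resolve_left hs |> (hs1.symm ▸ MulAction.mem_orbit_self l1 : l1 ∈ supp v1))
    · by_contra ht
      have h := congrArg (proj R N l2) hst
      have h2 : proj R N l2 v1 = 0 := not_not.1 fun h' =>
        hdisj l2 (hs1 ▸ (h' : l2 ∈ supp v1)) (MulAction.mem_orbit_self _)
      rw [proj_add, proj_smul, proj_smul, proj_zero, h2, smul_zero, zero_add, smul_eq_zero] at h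
      exact (h.resolve_left ht |> (hs2.symm ▸ MulAction.mem_orbit_self l2 : l2 ∈ supp v2))
  let F0 := fixF R A
  let b0 := Module.finBasis (ZMod 2) F0
  let W0 := Submodule.span K2 (Set.range fun i => algebraMap (ZMod 2) K2 ∘ (b0 i : ι → ZMod 2))
  have hW0 : ∀ v : ι → K2, (∀ a ∈ A, RK R a *ᵥ v = v) → v ∈ W0 := by
    intro v hv
    refine (Submodule.span_le.2 ?_) (mem_span_fix R A hv)
    rintro _ ⟨u, hu, rfl⟩
    let T : F0 →ₗ[ZMod 2] (ι → K2) :=
      ((Algebra.linearMap (ZMod 2) K2).compLeft ι).comp F0.subtype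
    show T ⟨u, hu⟩ ∈ W0
    rw [← b0.sum_repr ⟨u, hu⟩, map_sum]
    refine Submodule.sum_mem _ fun i _ => ?_
    rw [map_smul, ← algebraMap_smul K2]
    exact Submodule.smul_mem _ _ (Submodule.subset_span ⟨i, rfl⟩)
  have hrk : Module.finrank K2 W0 ≤ Module.finrank (ZMod 2) F0 :=
    (finrank_range_le_card (R := K2) fun i => algebraMap (ZMod 2) K2 ∘ (b0 i : ι → ZMod 2)).trans
      (Fintype.card_fin _).le
  set P := Submodule.span K2 (Set.range ![v1, v2]) with hP
  have hP2 : Module.finrank K2 P = 2 := by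
    rw [finrank_span_eq_card hli]; rfl
  have hPW : P ≤ W0 := Submodule.span_le.2 (by
    rintro _ ⟨i, rfl⟩
    fin_cases i
    · exact hW0 _ hv1
    · exact hW0 _ hv2)
  have hle := Submodule.finrank_mono hPW
  change 2 ≤ Module.finrank (ZMod 2) F0 ∧ _
  refine ⟨by omega, fun h2 => ?_⟩
  by_contra! hinv
  have heq : P = W0 := Submodule.eq_of_le_of_finrank_le hPW (by
    change Module.finrank (ZMod 2) F0 = 2 at h2; omega)
  have hgW : ∀ v ∈ W0, RK R g *ᵥ v ∈ W0 := by
    intro v hv
    have hm : W0.map (Matrix.mulVecLin (RK R g)) ≤ W0 := by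
      rw [Submodule.map_span]
      refine Submodule.span_le.2 ?_
      rintro _ ⟨_, ⟨i, rfl⟩, rfl⟩
      rw [Matrix.mulVecLin_apply, RK_apply_map]
      refine hW0 _ fun a ha => ?_
      rw [RK_apply_map, hinv (b0 i : ι → ZMod 2) (b0 i).2 a ha]
    exact hm ⟨v, hv, rfl⟩
  have hkey : ∀ v, supp v = O1 ∨ supp v = O2 → v ∈ W0 →
      supp (RK R g *ᵥ v) = O1 ∨ supp (RK R g *ᵥ v) = O2 ∨ supp (RK R g *ᵥ v) = O1 ∪ O2 := by
    intro v hsv hv
    have hm := hgW v hv
    rw [← heq, hP, Matrix.range_cons_cons_empty, Submodule.mem_span_pair] at hm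
    obtain ⟨a, b, hab⟩ := hm
    have hs : ∀ m, m ∈ supp (RK R g *ᵥ v) ↔ (a ≠ 0 ∧ m ∈ O1) ∨ (b ≠ 0 ∧ m ∈ O2) := by
      intro m
      have e1 : ∀ m, proj R N m v1 ≠ 0 ↔ m ∈ O1 := fun m => by rw [← hs1]; rfl
      have e2 : ∀ m, proj R N m v2 ≠ 0 ↔ m ∈ O2 := fun m => by rw [← hs2]; rfl
      show proj R N m (RK R g *ᵥ v) ≠ 0 ↔ _
      rw [← hab, proj_add, proj_smul, proj_smul]
      by_cases h1 : m ∈ O1
      · have h2' : proj R N m v2 = 0 := not_not.1 fun h => hdisj m h1 ((e2 m).1 h)
        have := (e1 m).2 h1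
        have h2n : m ∉ O2 := fun h => hdisj m h1 h
        simp [h2', h1, h2n, this]
      · have h1' : proj R N m v1 = 0 := not_not.1 fun h => h1 ((e1 m).1 h)
        by_cases h2 : m ∈ O2
        · have := (e2 m).2 h2
          simp [h1', h1, h2, this]
        · have h2' : proj R N m v2 = 0 := not_not.1 fun h => h2 ((e2 m).1 h)
          simp [h1', h1, h2, h2']
    obtain ⟨m, hm'⟩ : (supp v).Nonempty := by
      rcases hsv with h | h <;> rw [h] <;> exact MulAction.nonempty_orbit _
    have hex := (hs _).1 ((hsupp g v m).2 hm')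
    by_cases ha : a = 0
    · have hb : b ≠ 0 := by rcases hex with h | h; exact absurd ha h.1; exact h.1
      exact Or.inr (Or.inl (Set.ext fun x => by simp [hs, ha, hb]))
    by_cases hb : b = 0
    · exact Or.inl (Set.ext fun x => by simp [hs, ha, hb])
    · exact Or.inr (Or.inr (Set.ext fun x => by simp [hs, ha, hb]))
  have himg : ∀ v, supp (RK R g *ᵥ v) = (g • ·) '' supp v := by
    intro v
    ext m
    constructor
    · intro hm
      refine ⟨g⁻¹ • m, (hsupp g v _).1 ?_, smul_inv_smul g m⟩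
      rwa [show tw N g (g⁻¹ • m) = m from smul_inv_smul g m]
    · rintro ⟨x, hx, rfl⟩
      exact (hsupp g v x).2 hx
  have hcardU : Nat.card (O1 ∪ O2 : Set _) = Nat.card O1 + Nat.card O2 := by
    rw [Nat.card_coe_set_eq, Nat.card_coe_set_eq, Nat.card_coe_set_eq]
    exact Set.ncard_union_eq (Set.disjoint_left.2 fun m => hdisj m)
  have hpos : ∀ l : N →* K2ˣ, 0 < Nat.card (MulAction.orbit A l) := fun l => by
    haveI : Nonempty (MulAction.orbit A l) := ⟨⟨l, MulAction.mem_orbit_self l⟩⟩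
    haveI : Finite (MulAction.orbit A l) := Subtype.finite
    exact Nat.card_pos
  have hinj : ∀ s : Set (N →* K2ˣ), Nat.card ((g • ·) '' s) = Nat.card s := fun s =>
    Nat.card_image_of_injective (MulAction.injective g) s
  have e1 := himg v1
  have e2 := himg v2
  rw [hs1] at e1
  rw [hs2] at e2
  have hd1 : ¬ (g • ·) '' O1 = O1 := fun h =>
    hnot (hdiv O1 hO1L fun l hl => h ▸ ⟨l, hl, rfl⟩)
  have hU1 : ¬ (g • ·) '' O1 = O1 ∪ O2 := fun h => by
    have := hinj O1; rw [h, hcardU] at this; have : 0 < Nat.card O2 := hpos l2; omega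
  have hU2 : ¬ (g • ·) '' O2 = O1 ∪ O2 := fun h => by
    have := hinj O2; rw [h, hcardU] at this; have : 0 < Nat.card O1 := hpos l1; omega
  have h12 : (g • ·) '' O1 = O2 := by
    rcases hkey v1 (Or.inl hs1) (hW0 _ hv1) with h | h | h <;> rw [e1] at h
    exacts [absurd h hd1, h, absurd h hU1]
  have h21 : (g • ·) '' O2 = O1 := by
    rcases hkey v2 (Or.inr hs2) (hW0 _ hv2) with h | h | h <;> rw [e2] at h
    · exact h
    · have := (MulAction.injective g).image_injective (h.trans h12.symm)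
      exact absurd this fun he => hl2' (he ▸ MulAction.mem_orbit_self l2)
    · exact absurd h hU2
  have hodd' : ∀ k : ℕ, (g ^ (2 * k + 1) • ·) '' O1 = O2 := by
    intro k
    induction k with
    | zero => simpa using h12
    | succ k ih =>
      have : (fun x : N →* K2ˣ => g ^ (2 * (k + 1) + 1) • x) = ((g • ·) ∘ (g • ·)) ∘ (g ^ (2 * k + 1) • ·) := by
        funext x
        simp only [Function.comp_apply, ← mul_smul]
        congr 1
        rw [← pow_succ', ← pow_succ']; rfl
      rw [this, Set.image_comp, ih, Set.image_comp, h21, h12]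
  obtain ⟨k, hk⟩ := hq.odd_of_ne_two hq2
  have := hodd' k
  rw [← hk, hg] at this
  simp only [one_smul, Set.image_id'] at this
  exact hl2' (this ▸ MulAction.mem_orbit_self l2)

end Cfsg.Agent.ModuleSupports56
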