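import Mathlib

/-!
A monomial representation of a `p`-group on `p * p` points with a nonzero transfer value is onto a
Sylow `p`-subgroup of the symmetric group on `p ^ 2` letters.
-/

set_option autoImplicit false

namespace Cfsg.Agent.MonomialWreath89

universe u v

/-- An invariant group of functions on a transitive `p`-set with a member of nonzero sum is everything. -/
theorem eq_top_of_sum_ne_zero {G : Type u} [Group G] {p : ℕ} [hp : Fact p.Prime]
    (hG : IsPGroup p G) {Q : Type v} [MulAction G Q] [Fintype Q] [MulAction.IsPretransitive G Q]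
    (B : AddSubgroup (Q → ZMod p)) (hinv : ∀ g : G, ∀ b ∈ B, (fun q => b (g • q)) ∈ B)
    {b₀ : Q → ZMod p} (hb₀ : b₀ ∈ B) (hs : ∑ q, b₀ q ≠ 0) : B = ⊤ := by
  classical
  by_contra hB
  let W : AddSubgroup (Q → ZMod p) :=
    { carrier := {a | ∀ b ∈ B, ∑ q, a q * b q = 0}
      zero_mem' := fun b _ => by simp
      add_mem' := fun {a a'} ha ha' b hb => by
        simp only [Pi.add_apply, add_mul, Finset.sum_add_distrib, ha b hb, ha' b hb, add_zero]
      neg_mem' := fun {a} ha b hb => by
        simp only [Pi.neg_apply, neg_mul, Finset.sum_neg_distrib, ha b hb, neg_zero] }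
  have hW : W ≠ ⊥ := by
    have hB' : B.toZModSubmodule p < ⊤ := lt_top_iff_ne_top.mpr fun h => hB <| by
      ext x
      exact ⟨fun _ => trivial, fun _ => (SetLike.ext_iff.mp h x).mpr trivial⟩
    obtain ⟨φ, hφ, hker⟩ := Submodule.exists_le_ker_of_lt_top _ hB'
    intro hW0
    have hmem : (fun q => φ (Pi.single q 1)) ∈ W := fun b hb => by
      have h1 : φ b = 0 := hker hb
      rw [← h1]
      conv_rhs => rw [← Finset.univ_sum_single b, map_sum]
      refine Finset.sum_congr rfl fun q _ => ?_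
      rw [mul_comm, ← smul_eq_mul, ← map_smul]
      congr 1
      ext i
      by_cases h : i = q <;> simp [Pi.single_apply, h]
    rw [hW0, AddSubgroup.mem_bot] at hmem
    refine hφ (LinearMap.ext fun b => ?_)
    rw [← Finset.univ_sum_single b, map_sum, LinearMap.zero_apply]
    refine Finset.sum_eq_zero fun q _ => ?_
    rw [show (Pi.single q (b q) : Q → ZMod p) = b q • Pi.single q 1 by
      ext i; by_cases h : i = q <;> simp [Pi.single_apply, h], map_smul,
      show φ (Pi.single q 1) = 0 from congrFun hmem q, smul_zero]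
  letI : MulAction G W :=
    { smul := fun g a => ⟨fun q => (a : Q → ZMod p) (g⁻¹ • q), fun b hb => by
        rw [← Equiv.sum_comp (MulAction.toPerm g) (fun q => (a : Q → ZMod p) (g⁻¹ • q) * b q)]
        simp only [MulAction.toPerm_apply, inv_smul_smul]
        exact a.2 _ (hinv g b hb)⟩
      one_smul := fun a => Subtype.ext (funext fun q => by
        show (a : Q → ZMod p) ((1 : G)⁻¹ • q) = _
        rw [inv_one, one_smul])
      mul_smul := fun g h a => Subtype.ext (funext fun q => by
        show (a : Q → ZMod p) ((g * h)⁻¹ • q) = (a : Q → ZMod p) (h⁻¹ • g⁻¹ • q)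
        rw [mul_inv_rev, mul_smul]) }
  have hdvd : p ∣ Nat.card W := by
    have h1 : Nat.card W ∣ Nat.card (Q → ZMod p) := AddSubgroup.card_addSubgroup_dvd_card W
    rw [Nat.card_fun, Nat.card_zmod] at h1
    obtain ⟨j, -, hj⟩ := (Nat.dvd_prime_pow hp.out).mp h1
    rcases j.eq_zero_or_pos with rfl | hj0
    · exact absurd (AddSubgroup.eq_bot_of_card_eq W (by rw [hj, pow_zero])) hW
    · exact hj ▸ dvd_pow_self p hj0.ne'
  obtain ⟨a, ha, hne⟩ := hG.exists_fixed_point_of_prime_dvd_card_of_fixed_point W hdvd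
    (a := 0) (fun g => Subtype.ext rfl)
  apply hne
  obtain ⟨q₀, -, -⟩ := Finset.exists_ne_zero_of_sum_ne_zero hs
  have hconst : ∀ q, (a : Q → ZMod p) q = (a : Q → ZMod p) q₀ := fun q => by
    obtain ⟨g, rfl⟩ := MulAction.exists_smul_eq G q₀ q
    have h2 := congrFun (congrArg Subtype.val (ha g⁻¹)) q₀
    change (a : Q → ZMod p) (g⁻¹⁻¹ • q₀) = (a : Q → ZMod p) q₀ at h2
    rwa [inv_inv] at h2
  have h3 := a.2 b₀ hb₀
  simp only [hconst, ← Finset.mul_sum] at h3
  refine Subtype.ext (funext fun q => ?_)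
  rw [hconst q]
  exact ((mul_eq_zero.mp h3).resolve_right hs).symm

theorem card_sylow_perm {p : ℕ} [hp : Fact p.Prime] (W : Sylow p (Equiv.Perm (Fin (p ^ 2)))) :
    Nat.card (W : Subgroup (Equiv.Perm (Fin (p ^ 2)))) = p ^ (p + 1) := by
  rw [Sylow.card_eq_multiplicity, Nat.card_perm, Nat.card_fin,
    ← Nat.multiplicity_eq_factorization hp.out (p ^ 2).factorial_ne_zero,
    Nat.Prime.multiplicity_factorial_pow hp.out]
  simp [Finset.sum_range_succ, add_comm]

/-- Surjection onto `C_p ≀ C_p`. -/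
theorem exists_surjective {G : Type u} [Group G] [Finite G] {p : ℕ} [hp : Fact p.Prime]
    (hG : IsPGroup p G) {Q : Type v} [MulAction G Q] [Fintype Q] [MulAction.IsPretransitive G Q]
    (hQ : Nat.card Q = p) (c : G → Q → ZMod p)
    (hc : ∀ g h q, c (g * h) q = c g (h • q) + c h q)
    {m : G} (hm : ∀ q : Q, m • q = q) (hs : ∑ q, c m q ≠ 0) :
    ∃ (W : Sylow p (Equiv.Perm (Fin (p ^ 2))))
      (f : G →* (W : Subgroup (Equiv.Perm (Fin (p ^ 2))))), Function.Surjective f := by
  classical
  have hc1 : ∀ q, c 1 q = 0 := fun q => by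
    have := hc 1 1 q
    rwa [one_mul, one_smul, left_eq_add] at this
  let e : Q × ZMod p ≃ Fin (p ^ 2) :=
    Finite.equivFinOfCardEq (by rw [Nat.card_prod, hQ, Nat.card_zmod, sq])
  letI : MulAction G (Q × ZMod p) :=
    { smul := fun g x => (g • x.1, c g x.1 + x.2)
      one_smul := fun x => Prod.ext (one_smul G x.1) (by
        show c 1 x.1 + x.2 = x.2
        rw [hc1, zero_add])
      mul_smul := fun g h x => Prod.ext (mul_smul g h x.1) (by
        show c (g * h) x.1 + x.2 = c g (h • x.1) + (c h x.1 + x.2)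
        rw [hc, add_assoc]) }
  have hsmul : ∀ (g : G) (x : Q × ZMod p), g • x = (g • x.1, c g x.1 + x.2) := fun _ _ => rfl
  let φ : G →* Equiv.Perm (Fin (p ^ 2)) :=
    e.permCongrHom.toMonoidHom.comp (MulAction.toPermHom G (Q × ZMod p))
  have hφ : ∀ g x, φ g (e x) = e (g • x) := fun g x => by
    show e.permCongr (MulAction.toPerm g) (e x) = e (g • x)
    rw [Equiv.permCongr_apply, Equiv.symm_apply_apply]
    rfl
  let K : Subgroup G :=
    { carrier := {g | ∀ q : Q, g • q = q}
      one_mem' := fun q => one_smul G q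
      mul_mem' := fun {g h} hg hh q => by rw [mul_smul, hh, hg]
      inv_mem' := fun {g} hg q => by conv_lhs => rw [← hg q, inv_smul_smul] }
  let B : AddSubgroup (Q → ZMod p) :=
    { carrier := {b | ∃ g ∈ K, c g = b}
      zero_mem' := ⟨1, K.one_mem, funext hc1⟩
      add_mem' := by
        rintro _ _ ⟨g, hg, rfl⟩ ⟨h, hh, rfl⟩
        exact ⟨g * h, K.mul_mem hg hh, funext fun q => by rw [hc, hh q]; rfl⟩
      neg_mem' := by
        rintro _ ⟨g, hg, rfl⟩
        refine ⟨g⁻¹, K.inv_mem hg, funext fun q => ?_⟩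
        have := hc g⁻¹ g q
        rw [inv_mul_cancel, hc1, hg q] at this
        exact eq_neg_of_add_eq_zero_left this.symm }
  have hB : B = ⊤ := by
    refine eq_top_of_sum_ne_zero hG B ?_ (b₀ := c m) ⟨m, hm, rfl⟩ hs
    rintro g _ ⟨k, hk, rfl⟩
    refine ⟨g⁻¹ * k * g, fun q => by rw [mul_smul, mul_smul, hk, inv_smul_smul],
      funext fun q => ?_⟩
    have h0 := hc g⁻¹ g q
    rw [inv_mul_cancel, hc1] at h0
    rw [hc, hc, hk]
    linear_combination -h0
  have hH : p ^ p ≤ Nat.card (K.map φ) := by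
    have h0 : Nat.card (Q → ZMod p) = p ^ p := by rw [Nat.card_fun, hQ, Nat.card_zmod]
    rw [← h0]
    have hall : ∀ b : Q → ZMod p, ∃ g ∈ K, c g = b := fun b => by
      have : b ∈ B := hB ▸ AddSubgroup.mem_top b
      exact this
    choose g hgK hgc using hall
    refine Nat.card_le_card_of_injective (fun b => (⟨φ (g b), g b, hgK b, rfl⟩ : K.map φ)) ?_
    intro b b' h
    have h' : φ (g b) = φ (g b') := congrArg Subtype.val h
    funext q
    have h1 := congrArg (fun σ : Equiv.Perm (Fin (p ^ 2)) => σ (e (q, 0))) h'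
    simp only [hφ] at h1
    have h2 := congrArg Prod.snd (e.injective h1)
    simpa [hsmul, hgc] using h2
  obtain ⟨g₁, hg₁⟩ : ∃ g₁, g₁ ∉ K := by
    by_contra h
    push Not at h
    have hsub : Subsingleton Q := ⟨fun q q' => by
      obtain ⟨g, rfl⟩ := MulAction.exists_smul_eq G q q'
      exact (h g q).symm⟩
    have := Finite.card_le_one_iff_subsingleton.mpr hsub
    rw [hQ] at this
    exact absurd this hp.out.one_lt.not_ge
  have hnot : φ g₁ ∉ K.map φ := by
    rintro ⟨k, hk, hke⟩
    refine hg₁ fun q => ?_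
    have h1 := congrArg (fun σ : Equiv.Perm (Fin (p ^ 2)) => σ (e (q, 0))) hke
    simp only [hφ] at h1
    have h2 := congrArg Prod.fst (e.injective h1)
    simp only [hsmul] at h2
    rw [← h2, hk q]
  have hR : IsPGroup p φ.range := hG.of_surjective φ.rangeRestrict φ.rangeRestrict_surjective
  have hle : K.map φ ≤ φ.range := Subgroup.map_le_range _ _
  have hcard : p ^ (p + 1) ≤ Nat.card φ.range := by
    have h1 := ((K.map φ).subgroupOf φ.range).card_mul_index
    rw [Nat.card_congr (Subgroup.subgroupOfEquivOfLe hle).toEquiv] at h1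
    obtain ⟨j, hj⟩ := IsPGroup.iff_card.mp hR
    obtain ⟨i, -, hi⟩ := (Nat.dvd_prime_pow hp.out).mp
      (hj ▸ Dvd.intro_left _ h1 :
        ((K.map φ).subgroupOf φ.range).index ∣ p ^ j)
    have hi0 : i ≠ 0 := by
      rintro rfl
      rw [pow_zero, Subgroup.index_eq_one, Subgroup.subgroupOf_eq_top] at hi
      exact hnot (hi ⟨g₁, rfl⟩)
    calc p ^ (p + 1) = p ^ p * p := pow_succ p p
      _ ≤ Nat.card (K.map φ) * ((K.map φ).subgroupOf φ.range).index :=
        Nat.mul_le_mul hH (hi ▸ Nat.le_self_pow hi0 p)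
      _ = Nat.card φ.range := h1
  obtain ⟨W, hW⟩ := hR.exists_le_sylow
  have heq : φ.range = (W : Subgroup (Equiv.Perm (Fin (p ^ 2)))) :=
    Subgroup.eq_of_le_of_card_ge hW (by rw [card_sylow_perm]; exact hcard)
  refine ⟨W, (Subgroup.inclusion hW).comp φ.rangeRestrict, fun w => ?_⟩
  obtain ⟨g, hg⟩ : (w : Equiv.Perm (Fin (p ^ 2))) ∈ φ.range := heq.symm ▸ w.2
  exact ⟨g, Subtype.ext hg⟩

end Cfsg.Agent.MonomialWreath89
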