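import Mathlib
import Cfsg.Prelude.Def_Solvable
import Cfsg.Prelude.Def_Transfer

namespace Cfsg.Agent.SingularOrtho

variable {G : Type*} [Group G]

theorem mem_zp [Finite G] {x y : G} (hxx : x * x = 1) :
    y ∈ Subgroup.zpowers x ↔ y = 1 ∨ y = x := by
  constructor
  · intro h
    obtain ⟨k, rfl⟩ : ∃ k : ℕ, x ^ k = y := by
      exact Submonoid.mem_powers_iff _ _ |>.1 (mem_powers_iff_mem_zpowers.2 h)
    induction k with
    | zero => left; simp
    | succ k ih =>
      rcases ih ⟨k, by simp⟩ with h | h <;> rw [pow_succ, h]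
      · right; simp
      · left; exact hxx
  · rintro (rfl | rfl)
    · exact one_mem _
    · exact Subgroup.mem_zpowers _

/-- `R` behaves elementwise as an extraspecial 2-group with centre generated by `x`, containing its
centralizer. -/
structure Ext (R : Subgroup G) (x : G) : Prop where
  sq : x * x = 1
  ne : x ≠ 1
  mem : x ∈ R
  fix : ∀ r ∈ R, r * x = x * r
  comm : ∀ a ∈ R, ∀ b ∈ R, a * b * a⁻¹ * b⁻¹ = 1 ∨ a * b * a⁻¹ * b⁻¹ = x
  square : ∀ a ∈ R, a * a = 1 ∨ a * a = x
  centre : ∀ a ∈ R, (∀ b ∈ R, a * b = b * a) → a = 1 ∨ a = x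
  cent : ∀ c : G, (∀ r ∈ R, c * r = r * c) → c ∈ R

theorem Ext.conj_eq {R : Subgroup G} {x a b : G} (h : Ext R x) (ha : a ∈ R) (hb : b ∈ R)
    (hne : a * b ≠ b * a) : a * b * a⁻¹ = x * b := by
  rcases h.comm a ha b hb with e | e
  · exact absurd (mul_inv_eq_iff_eq_mul.1 (mul_inv_eq_one.1 e)) hne
  · exact mul_inv_eq_iff_eq_mul.1 e

/-- Double centralizer lemma. -/
theorem Ext.dc [Finite G] {R : Subgroup G} {x : G} (h : Ext R x) (S : Finset G)
    (hS : ∀ s ∈ S, s ∈ R) : ∀ y ∈ R, y ∉ Subgroup.closure (insert x (S : Set G)) →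
      ∃ g ∈ R, (∀ s ∈ S, g * s = s * g) ∧ g * y ≠ y * g := by
  classical
  induction S using Finset.induction_on with
  | empty =>
    intro y hy hny
    by_contra hcon
    push Not at hcon
    rcases h.centre y hy (fun b hb => (hcon b hb (by simp)).symm) with e | e
    · exact hny (e ▸ one_mem _)
    · exact hny (e ▸ Subgroup.subset_closure (Set.mem_insert _ _))
  | @insert a s has ih =>
    intro y hy hny
    have haR : a ∈ R := hS a (Finset.mem_insert_self _ _)
    have ih' := ih fun t ht => hS t (Finset.mem_insert_of_mem ht)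
    have hsub : Subgroup.closure (insert x (s : Set G)) ≤
        Subgroup.closure (insert x ((insert a s : Finset G) : Set G)) := by
      apply Subgroup.closure_mono
      rw [Finset.coe_insert]
      exact Set.insert_subset_insert (Set.subset_insert _ _)
    have hamem : a ∈ Subgroup.closure (insert x ((insert a s : Finset G) : Set G)) :=
      Subgroup.subset_closure (Set.mem_insert_of_mem _ (Finset.mem_insert_self _ _))
    obtain ⟨g, hg, hgs, hgy⟩ := ih' y hy fun hm => hny (hsub hm)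
    by_cases hga : g * a = a * g
    · exact ⟨g, hg, fun t ht => by
        rcases Finset.mem_insert.1 ht with rfl | ht
        · exact hga
        · exact hgs t ht, hgy⟩
    obtain ⟨k, hk, hks, hky⟩ := ih' (a * y) (R.mul_mem haR hy) fun hm => hny (by
      have := Subgroup.mul_mem _ (Subgroup.inv_mem _ hamem) (hsub hm)
      simpa using this)
    by_cases hka : k * a = a * k
    · refine ⟨k, hk, fun t ht => ?_, fun e => hky ?_⟩
      · rcases Finset.mem_insert.1 ht with rfl | ht
        · exact hka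
        · exact hks t ht
      · rw [← mul_assoc, hka, mul_assoc, e, mul_assoc]
    by_cases hkyy : k * y = y * k
    · refine ⟨g * k, R.mul_mem hg hk, fun t ht => ?_, fun e => hgy ?_⟩
      · rcases Finset.mem_insert.1 ht with rfl | ht
        · have e1 := h.conj_eq hg haR hga
          have e2 := h.conj_eq hk haR hka
          apply mul_inv_eq_iff_eq_mul.1
          calc g * k * t * (g * k)⁻¹ = g * (k * t * k⁻¹) * g⁻¹ := by group
            _ = (g * x * g⁻¹) * (g * t * g⁻¹) := by rw [e2]; group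
            _ = (x * x) * t := by rw [h.fix g hg, mul_inv_cancel_right, e1, mul_assoc]
            _ = t := by rw [h.sq, one_mul]
        · rw [mul_assoc, hks t ht, ← mul_assoc, hgs t ht, mul_assoc]
      · have : g * y * k = y * g * k := by
          rw [mul_assoc, ← hkyy, ← mul_assoc, e, mul_assoc]
        exact mul_right_cancel this
    · exfalso
      apply hky
      have e1 := h.conj_eq hk haR hka
      have e2 := h.conj_eq hk hy hkyy
      apply mul_inv_eq_iff_eq_mul.1
      calc k * (a * y) * k⁻¹ = (k * a * k⁻¹) * (k * y * k⁻¹) := by group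
        _ = x * (a * x) * y := by rw [e1, e2]; group
        _ = a * y := by rw [h.fix a haR, ← mul_assoc x, h.sq, one_mul]

theorem Ext.dc_set [Finite G] {R : Subgroup G} {x y : G} (h : Ext R x) (S : Set G)
    (hS : S ⊆ (R : Set G)) (hy : y ∈ R) (hny : y ∉ Subgroup.closure (insert x S)) :
    ∃ g ∈ R, (∀ s ∈ S, g * s = s * g) ∧ g * y ≠ y * g := by
  obtain ⟨g, hg, hgs, hgy⟩ := h.dc S.toFinite.toFinset
    (fun s hs => hS ((Set.Finite.mem_toFinset _).1 hs)) y hy (by rwa [Set.Finite.coe_toFinset])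
  exact ⟨g, hg, fun s hs => hgs s ((Set.Finite.mem_toFinset _).2 hs), hgy⟩

/-- `N` is a normal `2`-subgroup of the centralizer of `x`. -/
def NormTwo (x : G) (N : Subgroup G) : Prop :=
  N ≤ Subgroup.centralizer ({x} : Set G) ∧
    (∀ c : G, c * x = x * c → ∀ n ∈ N, c * n * c⁻¹ ∈ N) ∧ IsPGroup 2 N

theorem isPGroup_core {H : Type*} [Group H] [Finite H] (p : ℕ) [Fact p.Prime] :
    IsPGroup p (Cfsg.pCore p H) := by
  rw [Cfsg.pCore, sSup_eq_iSup']
  classical
  have : Fintype {N : Subgroup H | N.Normal ∧ IsPGroup p N} := Fintype.ofFinite _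
  rw [← Finset.sup_univ_eq_iSup]
  refine (Finset.sup_induction (p := fun K : Subgroup H => K.Normal ∧ IsPGroup p K)
    ⟨inferInstance, IsPGroup.of_bot⟩ ?_ fun K _ => K.2).2
  rintro A ⟨hA, hA'⟩ B ⟨hB, hB'⟩
  exact ⟨Subgroup.sup_normal A B, hA'.to_sup_of_normal_right hB'⟩

theorem core_normal {H : Type*} [Group H] (p : ℕ) : (Cfsg.pCore p H).Normal :=
  Subgroup.sSup_normal {N : Subgroup H | N.Normal ∧ IsPGroup p N} fun _ hN => hN.1

theorem mem_cent {x c : G} : c ∈ Subgroup.centralizer ({x} : Set G) ↔ c * x = x * c := by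
  rw [Subgroup.mem_centralizer_singleton_iff]

/-- The core of the centralizer as a subgroup of the whole group. -/
theorem normTwo_core [Finite G] (x : G) :
    NormTwo x ((Cfsg.pCore 2 ↥(Subgroup.centralizer ({x} : Set G))).map
      (Subgroup.centralizer ({x} : Set G)).subtype) ∧
    ∀ N, NormTwo x N → N ≤ (Cfsg.pCore 2 ↥(Subgroup.centralizer ({x} : Set G))).map
      (Subgroup.centralizer ({x} : Set G)).subtype := by
  constructor
  · refine ⟨Subgroup.map_subtype_le _, ?_, (isPGroup_core 2).map _⟩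
    rintro c hc _ ⟨n, hn, rfl⟩
    exact ⟨⟨c, mem_cent.2 hc⟩ * n * (⟨c, mem_cent.2 hc⟩)⁻¹,
      (core_normal 2).conj_mem n hn _, by simp⟩
  · rintro N ⟨hN, hnorm, hp⟩ n hn
    refine ⟨⟨n, hN hn⟩, ?_, rfl⟩
    have hNn : (N.subgroupOf (Subgroup.centralizer ({x} : Set G))).Normal :=
      ⟨fun m hm c => hnorm c (mem_cent.1 c.2) m hm⟩
    have hp' : IsPGroup 2 (N.subgroupOf (Subgroup.centralizer ({x} : Set G))) :=
      hp.comap_of_injective _ (Subgroup.subtype_injective _)
    exact (le_sSup ⟨hNn, hp'⟩ : N.subgroupOf _ ≤ Cfsg.pCore 2 _) hn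

section Setting

variable [Finite G] {Q : G → Subgroup G}
variable (hQ : ∀ x : G, Q x = (Cfsg.pCore 2 ↥(Subgroup.centralizer ({x} : Set G))).map
  (Subgroup.centralizer ({x} : Set G)).subtype)

include hQ

theorem core_spec (x : G) : NormTwo x (Q x) ∧ ∀ N, NormTwo x N → N ≤ Q x := by
  rw [hQ x]; exact normTwo_core x

theorem conj_mem_core {x y : G} (g : G) (hy : y ∈ Q x) : g * y * g⁻¹ ∈ Q (g * x * g⁻¹) := by
  obtain ⟨⟨hle, hn, hp⟩, -⟩ := core_spec hQ x
  refine (core_spec hQ (g * x * g⁻¹)).2 ((Q x).map (MulAut.conj g).toMonoidHom) ⟨?_, ?_, hp.map _⟩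
    ⟨y, hy, rfl⟩
  · rintro _ ⟨m, hm, rfl⟩
    rw [mem_cent]
    show g * m * g⁻¹ * (g * x * g⁻¹) = g * x * g⁻¹ * (g * m * g⁻¹)
    calc _ = g * (m * x) * g⁻¹ := by group
      _ = g * (x * m) * g⁻¹ := by rw [mem_cent.1 (hle hm)]
      _ = _ := by group
  · rintro c hc _ ⟨m, hm, rfl⟩
    refine ⟨(g⁻¹ * c * g) * m * (g⁻¹ * c * g)⁻¹, hn _ ?_ m hm, ?_⟩
    · calc g⁻¹ * c * g * x = g⁻¹ * (c * (g * x * g⁻¹)) * g := by group
        _ = g⁻¹ * ((g * x * g⁻¹) * c) * g := by rw [hc]
        _ = x * (g⁻¹ * c * g) := by group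
    · show g * _ * g⁻¹ = c * (g * m * g⁻¹) * c⁻¹
      group

theorem mem_core_iff {x y : G} (g : G) : g * y * g⁻¹ ∈ Q (g * x * g⁻¹) ↔ y ∈ Q x := by
  refine ⟨fun h => ?_, conj_mem_core hQ g⟩
  have e := conj_mem_core hQ g⁻¹ h
  simpa [mul_assoc] using e

theorem ext_conj {z : G} (hz : orderOf z = 2) (hE : Cfsg.IsExtraspecial 2 ↥(Q z))
    (hC : Subgroup.centralizer ((Q z : Subgroup G) : Set G) ≤ Q z) (g : G) :
    Ext (Q (g * z * g⁻¹)) (g * z * g⁻¹) := by
  have hzz : z * z = 1 := by rw [← pow_two, ← hz]; exact pow_orderOf_eq_one z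
  have hz1 : z ≠ 1 := fun h => by rw [h, orderOf_one] at hz; exact absurd hz (by decide)
  have hle := (core_spec hQ z).1.1
  have hzQ : z ∈ Q z := hC fun r hr => mem_cent.1 (hle hr)
  have hzc : (⟨z, hzQ⟩ : Q z) ∈ Subgroup.center ↥(Q z) :=
    Subgroup.mem_center_iff.2 fun r => Subtype.ext (mem_cent.1 (hle r.2))
  have hcentre : ∀ a : Q z, a ∈ Subgroup.center ↥(Q z) → (a : G) = 1 ∨ (a : G) = z := by
    intro a ha
    by_contra hcon
    push Not at hcon
    have hc := hE.2
    rw [Nat.card_eq_two_iff' (⟨⟨z, hzQ⟩, hzc⟩ : Subgroup.center ↥(Q z))] at hc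
    obtain ⟨w, -, huniq⟩ := hc
    have e1 := huniq ⟨a, ha⟩ (fun e => hcon.2 (congrArg (fun t => ((t.1 : Q z) : G)) e))
    have e2 := huniq 1 (fun e => hz1 (congrArg (fun t => ((t.1 : Q z) : G)) e).symm)
    exact hcon.1 (congrArg (fun t => ((t.1 : Q z) : G)) (e1.trans e2.symm))
  have base : Ext (Q z) z := by
    have hcomm : ∀ a ∈ Q z, ∀ b ∈ Q z, a * b * a⁻¹ * b⁻¹ = 1 ∨ a * b * a⁻¹ * b⁻¹ = z := by
      intro a ha b hb
      have := hcentre ⟨a * b * a⁻¹ * b⁻¹,
        (Q z).mul_mem ((Q z).mul_mem ((Q z).mul_mem ha hb) ((Q z).inv_mem ha)) ((Q z).inv_mem hb)⟩ (by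
          rw [← hE.1.2.2]
          exact Subgroup.commutator_mem_commutator (g₁ := (⟨a, ha⟩ : Q z)) (g₂ := ⟨b, hb⟩)
            (Subgroup.mem_top _) (Subgroup.mem_top _))
      exact this
    refine ⟨hzz, hz1, hzQ, fun r hr => mem_cent.1 (hle hr), hcomm, ?_, ?_, ?_⟩
    · intro a ha
      refine hcentre ⟨a * a, (Q z).mul_mem ha ha⟩ (Subgroup.mem_center_iff.2 ?_)
      rintro ⟨b, hb⟩
      apply Subtype.ext
      show b * (a * a) = a * a * b
      by_cases hab : a * b = b * a
      · rw [← mul_assoc, ← hab, mul_assoc, ← hab, mul_assoc]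
      · obtain e | e := hcomm a ha b hb
        · exact absurd (mul_inv_eq_iff_eq_mul.1 (mul_inv_eq_one.1 e)) hab
        have e' : a * b = z * b * a := mul_inv_eq_iff_eq_mul.1 (mul_inv_eq_iff_eq_mul.1 e)
        symm
        calc a * a * b = a * (a * b) := mul_assoc _ _ _
          _ = (a * z) * b * a := by rw [e']; group
          _ = z * (a * b) * a := by rw [mem_cent.1 (hle ha)]; group
          _ = (z * z) * b * (a * a) := by rw [e']; group
          _ = b * (a * a) := by rw [hzz, one_mul]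
    · intro a ha hall
      exact hcentre ⟨a, ha⟩
        (Subgroup.mem_center_iff.2 fun r => Subtype.ext (hall r r.2).symm)
    · intro c hc
      exact hC fun r hr => (hc r hr).symm
  have pull : ∀ r ∈ Q (g * z * g⁻¹), g⁻¹ * r * g ∈ Q z := by
    intro r hr
    have := (mem_core_iff hQ (x := z) (y := g⁻¹ * r * g) g).1
    exact this (by simpa [mul_assoc] using hr)
  have push : ∀ {a b : G}, g⁻¹ * a * g = b → a = g * b * g⁻¹ := by
    rintro a b rfl; group
  refine ⟨?_, ?_, conj_mem_core hQ g base.mem, ?_, ?_, ?_, ?_, ?_⟩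
  · calc g * z * g⁻¹ * (g * z * g⁻¹) = g * (z * z) * g⁻¹ := by group
      _ = 1 := by rw [hzz]; group
  · simpa [mul_inv_eq_one] using hz1
  · intro r hr
    exact mem_cent.1 ((core_spec hQ _).1.1 hr)
  · intro a ha b hb
    rcases base.comm _ (pull a ha) _ (pull b hb) with e | e
    · left
      have : g⁻¹ * (a * b * a⁻¹ * b⁻¹) * g = 1 := by rw [← e]; group
      rw [push this]; group
    · right
      have : g⁻¹ * (a * b * a⁻¹ * b⁻¹) * g = z := by rw [← e]; group
      exact push this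
  · intro a ha
    rcases base.square _ (pull a ha) with e | e
    · left
      have : g⁻¹ * (a * a) * g = 1 := by rw [← e]; group
      rw [push this]; group
    · right
      have : g⁻¹ * (a * a) * g = z := by rw [← e]; group
      exact push this
  · intro a ha hall
    rcases base.centre _ (pull a ha) (fun b hb => by
        calc g⁻¹ * a * g * b = g⁻¹ * (a * (g * b * g⁻¹)) * g := by group
          _ = g⁻¹ * ((g * b * g⁻¹) * a) * g := by rw [hall _ (conj_mem_core hQ g hb)]
          _ = b * (g⁻¹ * a * g) := by group) with e | e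
    · left; rw [push e]; group
    · exact Or.inr (push e)
  · intro c hc
    have := conj_mem_core hQ g (base.cent (g⁻¹ * c * g) fun r hr => by
        calc g⁻¹ * c * g * r = g⁻¹ * (c * (g * r * g⁻¹)) * g := by group
          _ = g⁻¹ * ((g * r * g⁻¹) * c) * g := by rw [hc _ (conj_mem_core hQ g hr)]
          _ = r * (g⁻¹ * c * g) := by group)
    simpa [mul_assoc] using this

/-- If `Q z` has an abelian centralizer of `x`, then the centralizer of `z` is a 2-group. -/
theorem small_case {z x : G} (he : Ext (Q z) z) (hx : x ∈ Q z) (hxz : x ≠ z) (hx1 : x ≠ 1)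
    (hxx : x * x = 1)
    (hab : ∀ a ∈ Q z, ∀ b ∈ Q z, a * x = x * a → b * x = x * b → a * b = b * a) :
    ∀ c : G, c * z = z * c → c ∈ Q z := by
  have hxc : ¬ ∀ b ∈ Q z, x * b = b * x := fun h => by
    rcases he.centre x hx h with e | e
    · exact hx1 e
    · exact hxz e
  push Not at hxc
  obtain ⟨q, hq, hqx⟩ := hxc
  have hqx' : q * x * q⁻¹ = z * x := he.conj_eq hq hx (Ne.symm hqx)
  -- the centralizer of `x` in `Q z` is `{1,z,x,zx}`
  have hfour : ∀ a ∈ Q z, a * x = x * a → ∃ e ∈ Subgroup.zpowers z, a = e ∨ a = e * x := by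
    intro a ha hax
    by_contra hcon
    push Not at hcon
    have hzx : z * x = x * z := (he.fix x hx).symm
    have hnot : a ∉ Subgroup.closure (insert z ({x} : Set G)) := by
      intro hm
      suffices h : ∀ b ∈ Subgroup.closure (insert z ({x} : Set G)),
          ∃ e ∈ Subgroup.zpowers z, b = e ∨ b = e * x by
        obtain ⟨e, he', h'⟩ := h a hm
        rcases h' with h' | h'
        · exact (hcon e he').1 h'
        · exact (hcon e he').2 h'
      intro b hb
      have hc : ∀ e ∈ Subgroup.zpowers z, x * e = e * x := by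
        intro e he'
        rcases (mem_zp he.sq).1 he' with rfl | rfl
        · simp
        · exact hzx.symm
      induction hb using Subgroup.closure_induction with
      | mem b hb =>
        rcases hb with rfl | rfl
        · exact ⟨_, Subgroup.mem_zpowers _, Or.inl rfl⟩
        · exact ⟨1, one_mem _, Or.inr (one_mul _).symm⟩
      | one => exact ⟨1, one_mem _, Or.inl rfl⟩
      | mul b b' _ _ ih ih' =>
        obtain ⟨e, he', h⟩ := ih
        obtain ⟨e', he'', h'⟩ := ih'
        rcases h with rfl | rfl <;> rcases h' with rfl | rfl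
        · exact ⟨_, mul_mem he' he'', Or.inl rfl⟩
        · exact ⟨_, mul_mem he' he'', Or.inr (mul_assoc _ _ _).symm⟩
        · exact ⟨_, mul_mem he' he'', Or.inr (by rw [mul_assoc, hc _ he'', mul_assoc])⟩
        · exact ⟨_, mul_mem he' he'', Or.inl (by
            rw [mul_assoc, ← mul_assoc x, hc _ he'', mul_assoc, hxx, mul_one])⟩
      | inv b _ ih =>
        obtain ⟨e, he', h⟩ := ih
        rcases h with rfl | rfl
        · exact ⟨_, inv_mem he', Or.inl rfl⟩
        · refine ⟨_, inv_mem he', Or.inr ?_⟩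
          rw [mul_inv_rev, inv_eq_of_mul_eq_one_left hxx, hc _ (inv_mem he')]
    obtain ⟨g, hg, hgs, hga⟩ := he.dc_set {x} (by simpa using hx) ha hnot
    exact hga (hab g hg a ha (hgs x rfl) hax)
  -- everything is in one of four cosets of the centre
  have hcos : ∀ a ∈ Q z, ∃ e ∈ Subgroup.zpowers z,
      a = e ∨ a = e * x ∨ a = e * q ∨ a = e * (q * x) := by
    intro a ha
    by_cases hax : a * x = x * a
    · obtain ⟨e, he', h⟩ := hfour a ha hax
      exact ⟨e, he', h.imp_right Or.inl⟩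
    · have h1 : q⁻¹ * a * x = x * (q⁻¹ * a) := by
        apply mul_inv_eq_iff_eq_mul.1
        calc q⁻¹ * a * x * (q⁻¹ * a)⁻¹ = q⁻¹ * (a * x * a⁻¹) * q := by group
          _ = q⁻¹ * (q * x * q⁻¹) * q := by rw [he.conj_eq ha hx hax, hqx']
          _ = x := by group
      obtain ⟨e, he', h⟩ := hfour _ ((Q z).mul_mem ((Q z).inv_mem hq) ha) h1
      have hqe : q * e = e * q := by
        rcases (mem_zp he.sq).1 he' with rfl | rfl
        · simp
        · exact he.fix q hq
      refine ⟨e, he', Or.inr (Or.inr ?_)⟩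
      rcases h with h | h
      · left
        rw [← hqe, ← h]; group
      · right
        rw [← mul_assoc, ← hqe, mul_assoc, ← h]; group
  -- squares of outer cosets differ
  have hsq : (q * x) * (q * x) = (q * q) * z := by
    have h2 : q * x = z * x * q := mul_inv_eq_iff_eq_mul.1 hqx'
    calc (q * x) * (q * x) = q * (x * (q * x)) := by group
      _ = q * ((x * z) * x * q) := by rw [h2]; group
      _ = (q * z) * ((x * x) * q) := by rw [he.fix x hx]; group
      _ = q * q * z := by rw [hxx, one_mul, mul_assoc, ← he.fix q hq, mul_assoc]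
  have hzQ := (core_spec hQ z).1
  -- the square of an element of the centralizer induces an inner automorphism
  have key : ∀ c : G, c * z = z * c → c * c ∈ Q z := by
    intro c hc
    have hcz : c * z * c⁻¹ = z := by rw [hc, mul_inv_cancel_right]
    have hce : ∀ e ∈ Subgroup.zpowers z, c * e * c⁻¹ = e := by
      intro e he'
      rcases (mem_zp he.sq).1 he' with rfl | rfl
      · simp
      · exact hcz
    have hzz' : ∀ e ∈ Subgroup.zpowers z, e * e = 1 := by
      intro e he'
      rcases (mem_zp he.sq).1 he' with rfl | rfl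
      · simp
      · exact he.sq
    have hcomme : ∀ e ∈ Subgroup.zpowers z, ∀ a ∈ Q z, a * e = e * a := by
      intro e he' a ha
      rcases (mem_zp he.sq).1 he' with rfl | rfl
      · simp
      · exact he.fix a ha
    have hsqe : ∀ e ∈ Subgroup.zpowers z, ∀ a ∈ Q z, e * a * (e * a) = a * a := by
      intro e he' a ha
      calc e * a * (e * a) = e * (a * e) * a := by group
        _ = (e * e) * (a * a) := by rw [hcomme e he' a ha]; group
        _ = a * a := by rw [hzz' e he', one_mul]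
    -- conjugation by `c` squared fixes each coset
    have hx' : ∃ e ∈ Subgroup.zpowers z, c * c * x * (c * c)⁻¹ = e * x := by
      have hm := hzQ.2.1 c hc x hx
      have hs : c * x * c⁻¹ * (c * x * c⁻¹) = 1 := by
        calc c * x * c⁻¹ * (c * x * c⁻¹) = c * (x * x) * c⁻¹ := by group
          _ = 1 := by rw [hxx]; group
      obtain ⟨e, he', h⟩ := hcos _ hm
      rcases h with h | h | h | h
      · exfalso
        have h2 : c * x * c⁻¹ = c * e * c⁻¹ := by rw [hce e he']; exact h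
        have hxe : x = e := mul_left_cancel (mul_right_cancel h2)
        rcases (mem_zp he.sq).1 he' with e1 | e1
        · exact hx1 (hxe.trans e1)
        · exact hxz (hxe.trans e1)
      · refine ⟨e * e, mul_mem he' he', ?_⟩
        calc c * c * x * (c * c)⁻¹ = c * (c * x * c⁻¹) * c⁻¹ := by group
          _ = c * (e * x) * c⁻¹ := by rw [h]
          _ = (c * e * c⁻¹) * (c * x * c⁻¹) := by group
          _ = e * e * x := by rw [hce e he', h, mul_assoc]
      all_goals
        obtain ⟨q', hq', hq'q, hsq', h⟩ :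
            ∃ q' ∈ Q z, (q' = q ∨ q' = q * x) ∧ q' * q' = 1 ∧ c * x * c⁻¹ = e * q' := by
          first
            | exact ⟨q, hq, Or.inl rfl, by rw [← hsqe e he' q hq, ← h]; exact hs, h⟩
            | exact ⟨q * x, (Q z).mul_mem hq hx, Or.inr rfl,
                by rw [← hsqe e he' _ ((Q z).mul_mem hq hx), ← h]; exact hs, h⟩
        have hm2 := hzQ.2.1 c hc q' hq'
        have hs2 : c * q' * c⁻¹ * (c * q' * c⁻¹) = 1 := by
          calc c * q' * c⁻¹ * (c * q' * c⁻¹) = c * (q' * q') * c⁻¹ := by group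
            _ = 1 := by rw [hsq']; group
        obtain ⟨e', he'', h'⟩ := hcos _ hm2
        have hne : ∀ f ∈ Subgroup.zpowers z, c * q' * c⁻¹ ≠ f * q' := by
          intro f hf hEq
          have h3 : c * q' * c⁻¹ = c * (f * e * x) * c⁻¹ := by
            calc c * q' * c⁻¹ = f * q' := hEq
              _ = (f * e) * (e * q') := by
                  rw [show (f * e) * (e * q') = f * (e * e) * q' by group, hzz' e he', mul_one]
              _ = c * (f * e) * c⁻¹ * (c * x * c⁻¹) := by
                  rw [h, hce _ (mul_mem hf he')]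
              _ = c * (f * e * x) * c⁻¹ := by group
          have h4 : q' = (f * e) * x := mul_left_cancel (mul_right_cancel h3)
          apply hqx
          have hfe : f * e * x * x = x * (f * e * x) := by
            rw [← mul_assoc x, hcomme _ (mul_mem hf he') x hx]
          rcases hq'q with rfl | rfl
          · rw [h4, hfe]
          · have h5 : q = f * e := mul_right_cancel h4
            rw [h5, hcomme _ (mul_mem hf he') x hx]
        rcases h' with h' | h' | h' | h'
        · exfalso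
          have h2 : c * q' * c⁻¹ = c * e' * c⁻¹ := by rw [hce e' he'']; exact h'
          have hxe : q' = e' := mul_left_cancel (mul_right_cancel h2)
          apply hqx
          have hfx : x * e' = e' * x := hcomme e' he'' x hx
          rcases hq'q with rfl | rfl
          · rw [hxe, hfx]
          · have h5 : q = e' * x := by rw [← hxe, mul_assoc, hxx, mul_one]
            rw [h5, ← mul_assoc x, hfx]
        · refine ⟨e * e', mul_mem he' he'', ?_⟩
          calc c * c * x * (c * c)⁻¹ = c * (c * x * c⁻¹) * c⁻¹ := by group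
            _ = (c * e * c⁻¹) * (c * q' * c⁻¹) := by rw [h]; group
            _ = e * e' * x := by rw [hce e he', h', mul_assoc]
        all_goals
          exfalso
          rcases hq'q with rfl | rfl
          · first
              | exact hne e' he'' h'
              | (rw [h', hsqe e' he'' _ ((Q z).mul_mem hq hx), hsq, hsq', one_mul] at hs2
                 exact he.ne hs2)
          · first
              | exact hne e' he'' h'
              | (rw [h', hsqe e' he'' _ hq] at hs2
                 rw [hsq, hs2, one_mul] at hsq'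
                 exact he.ne hsq')
    obtain ⟨e₁, he₁, hxe⟩ := hx'
    have hq2 : ∃ e ∈ Subgroup.zpowers z, c * c * q * (c * c)⁻¹ = e * q := by
      have hcc : c * c * z = z * (c * c) := by rw [mul_assoc, hc, ← mul_assoc, hc, mul_assoc]
      have hm := hzQ.2.1 _ hcc q hq
      have hs : c * c * q * (c * c)⁻¹ * (c * c * q * (c * c)⁻¹) = q * q := by
        have hqq : q * q = 1 ∨ q * q = z := he.square q hq
        calc _ = c * (c * (q * q) * c⁻¹) * c⁻¹ := by group
          _ = q * q := by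
            rcases hqq with e | e <;> rw [e]
            · group
            · rw [hcz, hcz]
      obtain ⟨e, he', h⟩ := hcos _ hm
      rcases h with h | h | h | h
      · exfalso
        apply hqx
        have hcec : c * c * e * (c * c)⁻¹ = e := by
          calc c * c * e * (c * c)⁻¹ = c * (c * e * c⁻¹) * c⁻¹ := by group
            _ = e := by rw [hce e he', hce e he']
        have h2 : q = e := mul_left_cancel (mul_right_cancel (h.trans hcec.symm))
        rw [h2, hcomme e he' x hx]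
      · exfalso
        apply hqx
        have h3 : c * c * (e * e₁ * x) * (c * c)⁻¹ = e * x := by
          calc c * c * (e * e₁ * x) * (c * c)⁻¹
              = c * (c * (e * e₁) * c⁻¹) * c⁻¹ * (c * c * x * (c * c)⁻¹) := by group
            _ = e * x := by
              rw [hce _ (mul_mem he' he₁), hce _ (mul_mem he' he₁), hxe, mul_assoc,
                ← mul_assoc e₁, hzz' e₁ he₁, one_mul]
        have h2 : q = e * e₁ * x := mul_left_cancel (mul_right_cancel (h.trans h3.symm))
        rw [h2, ← mul_assoc x, hcomme _ (mul_mem he' he₁) x hx]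
      · exact ⟨e, he', h⟩
      · exfalso
        rw [h, hsqe e he' _ ((Q z).mul_mem hq hx), hsq] at hs
        exact he.ne (mul_eq_left.1 hs)
    obtain ⟨e₂, he₂, hqe⟩ := hq2
    -- an inner element with the same effect
    have hzf : ∀ e ∈ Subgroup.zpowers z, e = 1 ∨ e = z := fun e h => (mem_zp he.sq).1 h
    obtain ⟨p, hp, hpx, hpq⟩ : ∃ p ∈ Q z, p * x * p⁻¹ = e₁ * x ∧ p * q * p⁻¹ = e₂ * q := by
      have hqq : q * q * q⁻¹ = q := by group
      have hxq : x * q * x⁻¹ = z * q := he.conj_eq hx hq hqx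
      rcases hzf e₁ he₁ with h1 | h1 <;> rcases hzf e₂ he₂ with h2 | h2 <;> rw [h1, h2]
      · exact ⟨1, one_mem _, by simp, by simp⟩
      · exact ⟨x, hx, by simp, hxq⟩
      · exact ⟨q, hq, hqx', by group⟩
      · refine ⟨q * x, (Q z).mul_mem hq hx, ?_, ?_⟩
        · calc q * x * x * (q * x)⁻¹ = q * x * q⁻¹ := by group
            _ = z * x := hqx'
        · calc q * x * q * (q * x)⁻¹ = q * (x * q * x⁻¹) * q⁻¹ := by group
            _ = (q * z) := by rw [hxq]; group
            _ = z * q := he.fix q hq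
    have hfix : ∀ r ∈ Q z, (p⁻¹ * (c * c)) * r = r * (p⁻¹ * (c * c)) := by
      have hfx : (p⁻¹ * (c * c)) * x = x * (p⁻¹ * (c * c)) := by
        apply mul_inv_eq_iff_eq_mul.1
        calc p⁻¹ * (c * c) * x * (p⁻¹ * (c * c))⁻¹ = p⁻¹ * (c * c * x * (c * c)⁻¹) * p := by group
          _ = p⁻¹ * (p * x * p⁻¹) * p := by rw [hxe, hpx]
          _ = x := by group
      have hfq : (p⁻¹ * (c * c)) * q = q * (p⁻¹ * (c * c)) := by
        apply mul_inv_eq_iff_eq_mul.1
        calc p⁻¹ * (c * c) * q * (p⁻¹ * (c * c))⁻¹ = p⁻¹ * (c * c * q * (c * c)⁻¹) * p := by group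
          _ = p⁻¹ * (p * q * p⁻¹) * p := by rw [hqe, hpq]
          _ = q := by group
      have hfe : ∀ e ∈ Subgroup.zpowers z, (p⁻¹ * (c * c)) * e = e * (p⁻¹ * (c * c)) := by
        intro e he'
        have h1 : c * e = e * c := mul_inv_eq_iff_eq_mul.1 (hce e he')
        rw [mul_assoc, mul_assoc c, h1, ← mul_assoc c, h1, ← mul_assoc, ← mul_assoc,
          hcomme e he' _ ((Q z).inv_mem hp)]
        group
      intro r hr
      obtain ⟨e, he', h⟩ := hcos r hr
      have C1 : Commute (p⁻¹ * (c * c)) e := hfe e he'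
      rcases h with h | h | h | h <;> rw [h]
      · exact C1
      · exact C1.mul_right hfx
      · exact C1.mul_right hfq
      · exact C1.mul_right (Commute.mul_right hfq hfx)
    have := (Q z).mul_mem hp (he.cent _ hfix)
    simpa using this
  intro c hc
  refine (core_spec hQ z).2 (Subgroup.centralizer ({z} : Set G)) ⟨le_rfl, ?_, ?_⟩ (mem_cent.2 hc)
  · intro d hd n hn
    exact Subgroup.mul_mem _ (Subgroup.mul_mem _ (mem_cent.2 hd) hn)
      (Subgroup.inv_mem _ (mem_cent.2 hd))
  · rintro ⟨d, hd⟩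
    obtain ⟨k, hk⟩ := hzQ.2.2 ⟨d * d, key d (mem_cent.1 hd)⟩
    refine ⟨k + 1, Subtype.ext ?_⟩
    have h3 := congrArg Subtype.val hk
    rw [SubmonoidClass.coe_pow, OneMemClass.coe_one] at h3
    rw [SubmonoidClass.coe_pow, OneMemClass.coe_one, pow_succ', pow_mul, pow_two]
    exact h3

/-- Orthogonality of singular elements is symmetric. -/
theorem symm {z : G} (hz : orderOf z = 2) (hE : Cfsg.IsExtraspecial 2 ↥(Q z))
    (hC : Subgroup.centralizer ((Q z : Subgroup G) : Set G) ≤ Q z) (g : G)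
    (hxQ : g * z * g⁻¹ ∈ Q z) : z ∈ Q (g * z * g⁻¹) := by
  have he : Ext (Q z) z := by simpa using ext_conj hQ hz hE hC 1
  have hr := ext_conj hQ hz hE hC g
  by_cases hxz : g * z * g⁻¹ = z
  · rw [hxz]; exact he.mem
  by_cases hA : ∀ a ∈ Q z, ∀ b ∈ Q z, a * (g * z * g⁻¹) = (g * z * g⁻¹) * a →
      b * (g * z * g⁻¹) = (g * z * g⁻¹) * b → a * b = b * a
  · have h2 := small_case hQ he hxQ hxz hr.ne hr.sq hA (g⁻¹ * z * g) ?_
    · have h3 := conj_mem_core hQ g h2
      have e : g * (g⁻¹ * z * g) * g⁻¹ = z := by group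
      rw [e] at h3
      exact h3
    · have := he.fix _ hxQ
      calc g⁻¹ * z * g * z = g⁻¹ * (z * (g * z * g⁻¹)) * g := by group
        _ = g⁻¹ * ((g * z * g⁻¹) * z) * g := by rw [this]
        _ = z * (g⁻¹ * z * g) := by group
  set x := g * z * g⁻¹ with hxdef
  clear_value x
  push Not at hA
  obtain ⟨a₁, ha₁, a₂, ha₂, hc₁, hc₂, hne⟩ := hA
  have hxc : x * z = z * x := he.fix x hxQ
  by_contra hzR
  have hxn := (core_spec hQ x).1.2.1
  have hzn := (core_spec hQ z).1.2.1
  -- `[A, B] ≤ ⟨x⟩`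
  have hAB : ∀ a ∈ Q z, a * x = x * a → ∀ b ∈ Q x, b * z = z * b →
      a * b * a⁻¹ * b⁻¹ = 1 ∨ a * b * a⁻¹ * b⁻¹ = x := by
    intro a ha hax b hb hbz
    have hwR : a * b * a⁻¹ * b⁻¹ ∈ Q x := (Q x).mul_mem (hxn a hax b hb) ((Q x).inv_mem hb)
    have hwQ : a * b * a⁻¹ * b⁻¹ ∈ Q z := by
      have := (Q z).mul_mem ha (hzn b hbz a⁻¹ ((Q z).inv_mem ha))
      simpa [mul_assoc] using this
    generalize a * b * a⁻¹ * b⁻¹ = w at hwR hwQ
    have hcen : ∀ y ∈ Q z, y * x = x * y → y * w = w * y := by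
      intro y hy hyx
      rcases he.comm y hy w hwQ with e | e
      · exact mul_inv_eq_iff_eq_mul.1 (mul_inv_eq_one.1 e)
      · exfalso
        exact hzR (e ▸ (Q x).mul_mem (hxn y hyx w hwR) ((Q x).inv_mem hwR))
    by_contra hcon
    have hnot : w ∉ Subgroup.closure (insert z ({x} : Set G)) := by
      intro hm
      have : ∀ v ∈ Subgroup.closure (insert z ({x} : Set G)),
          ∃ e ∈ Subgroup.zpowers x, v = e ∨ v = z * e := by
        intro v hv
        have hc : ∀ e ∈ Subgroup.zpowers x, z * e = e * z := by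
          intro e he'
          rcases (mem_zp hr.sq).1 he' with rfl | rfl
          · simp
          · exact hxc.symm
        induction hv using Subgroup.closure_induction with
        | mem v hv =>
          rcases hv with rfl | rfl
          · exact ⟨1, one_mem _, Or.inr (mul_one _).symm⟩
          · exact ⟨_, Subgroup.mem_zpowers _, Or.inl rfl⟩
        | one => exact ⟨1, one_mem _, Or.inl rfl⟩
        | mul v v' _ _ ih ih' =>
          obtain ⟨e, he', h⟩ := ih
          obtain ⟨e', he'', h'⟩ := ih'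
          rcases h with rfl | rfl <;> rcases h' with rfl | rfl
          · exact ⟨_, mul_mem he' he'', Or.inl rfl⟩
          · exact ⟨_, mul_mem he' he'', Or.inr (by rw [← mul_assoc, ← hc _ he', mul_assoc])⟩
          · exact ⟨_, mul_mem he' he'', Or.inr (mul_assoc _ _ _)⟩
          · exact ⟨_, mul_mem he' he'', Or.inl (by
              rw [mul_assoc, ← mul_assoc e, ← hc _ he', mul_assoc z e, ← mul_assoc z z, he.sq, one_mul])⟩
        | inv v _ ih =>
          obtain ⟨e, he', h⟩ := ih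
          rcases h with rfl | rfl
          · exact ⟨_, inv_mem he', Or.inl rfl⟩
          · refine ⟨_, inv_mem he', Or.inr ?_⟩
            rw [mul_inv_rev, inv_eq_of_mul_eq_one_left he.sq, hc _ (inv_mem he')]
      obtain ⟨e, he', h | h⟩ := this w hm
      · exact hcon (h ▸ (mem_zp hr.sq).1 he')
      · apply hzR
        have he'' : e ∈ Q x := Subgroup.zpowers_le.2 hr.mem he'
        have := (Q x).mul_mem hwR ((Q x).inv_mem he'')
        rwa [h, mul_inv_cancel_right] at this
    obtain ⟨y, hy, hys, hyw⟩ := he.dc_set {x} (by simpa using hxQ) hwQ hnot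
    exact hyw (hcen y hy (hys x rfl))
  -- case 1
  by_cases hs : ∃ s ∈ Q x, s * z * s⁻¹ = z * x
  · obtain ⟨s, hs, hsz⟩ := hs
    obtain ⟨q, hq, hqx⟩ : ∃ q ∈ Q z, q * x ≠ x * q := by
      by_contra hcon
      push Not at hcon
      rcases he.centre x hxQ (fun b hb => (hcon b hb).symm) with e | e
      · exact hr.ne e
      · exact hxz e
    have hq1 : q * x * q⁻¹ = z * x := he.conj_eq hq hxQ hqx
    have hq2 : q * z * q⁻¹ = z := by rw [he.fix q hq, mul_inv_cancel_right]
    have hs2 : s * x * s⁻¹ = x := by rw [hr.fix s hs, mul_inv_cancel_right]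
    have gx : (q * s * q) * x * (q * s * q)⁻¹ = z := by
      calc (q * s * q) * x * (q * s * q)⁻¹ = q * (s * (q * x * q⁻¹) * s⁻¹) * q⁻¹ := by group
        _ = q * ((s * z * s⁻¹) * (s * x * s⁻¹)) * q⁻¹ := by rw [hq1]; group
        _ = q * z * q⁻¹ := by rw [hsz, hs2, mul_assoc z x x, hr.sq, mul_one]
        _ = z := hq2
    have gz : (q * s * q) * z * (q * s * q)⁻¹ = x := by
      calc (q * s * q) * z * (q * s * q)⁻¹ = q * (s * (q * z * q⁻¹) * s⁻¹) * q⁻¹ := by group
        _ = q * (z * x) * q⁻¹ := by rw [hq2, hsz]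
        _ = (q * z * q⁻¹) * (q * x * q⁻¹) := by group
        _ = x := by rw [hq1, hq2, ← mul_assoc, he.sq, one_mul]
    have := conj_mem_core hQ (q * s * q) hxQ
    rw [gx, gz] at this
    exact hzR this
  -- case 2
  push Not at hs
  have hzr : ∀ r ∈ Q x, z * r * z⁻¹ ∈ Q x := fun r h => hxn z hxc.symm r h
  have zinv : z⁻¹ = z := inv_eq_of_mul_eq_one_left he.sq
  have hS : ∀ r ∈ Q x, z * r * z⁻¹ * r⁻¹ = x → False := by
    intro r hr' e
    apply hs r hr'
    have h1 : z * r = x * r * z := mul_inv_eq_iff_eq_mul.1 (mul_inv_eq_iff_eq_mul.1 e)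
    calc r * z * r⁻¹ = x⁻¹ * (x * r * z) * r⁻¹ := by group
      _ = x⁻¹ * z := by rw [← h1]; group
      _ = z * x := by rw [inv_eq_of_mul_eq_one_left hr.sq, hxc]
  -- the elements centralizing `B` lie in `B`
  have hB : ∀ y ∈ Q x, (∀ b ∈ Q x, b * z = z * b → y * b = b * y) → y * z = z * y := by
    intro y hy hyB
    set I : Set G := {w | ∃ r ∈ Q x, z * r * z⁻¹ * r⁻¹ = w}
    have hI : I ⊆ (Q x : Set G) := by
      rintro _ ⟨r, hr', rfl⟩; exact (Q x).mul_mem (hzr r hr') ((Q x).inv_mem hr')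
    by_cases hmem : y ∈ Subgroup.closure (insert x I)
    · have hle : Subgroup.closure (insert x I) ≤ Subgroup.centralizer ({z} : Set G) := by
        rw [Subgroup.closure_le, Set.insert_subset_iff]
        refine ⟨mem_cent.2 hxc, ?_⟩
        rintro _ ⟨r, hr', rfl⟩
        rw [SetLike.mem_coe, mem_cent]
        set w := z * r * z⁻¹ * r⁻¹ with hw
        have hwR : w ∈ Q x := (Q x).mul_mem (hzr r hr') ((Q x).inv_mem hr')
        have hwz : z * w * z⁻¹ = w⁻¹ := by
          rw [hw, zinv]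
          calc z * (z * r * z * r⁻¹) * z = (z * z) * r * z * r⁻¹ * z := by group
            _ = r * z⁻¹ * r⁻¹ * z⁻¹ := by rw [he.sq, one_mul, zinv]
            _ = (z * r * z * r⁻¹)⁻¹ := by group
        rcases hr.square w hwR with e | e
        · have : w⁻¹ = w := inv_eq_of_mul_eq_one_left e
          rw [this] at hwz
          exact (mul_inv_eq_iff_eq_mul.1 hwz).symm
        · exfalso
          apply hS w⁻¹ ((Q x).inv_mem hwR)
          calc z * w⁻¹ * z⁻¹ * w⁻¹⁻¹ = (z * w * z⁻¹)⁻¹ * w := by group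
            _ = x := by rw [hwz, inv_inv, e]
      exact mem_cent.1 (hle hmem)
    · exfalso
      obtain ⟨u, hu, huI, huy⟩ := hr.dc_set I hI hy hmem
      -- `u` commutes with all `[z, r]`, so `[z, u]` is central
      have hcen : ∀ r ∈ Q x, (z * u * z⁻¹ * u⁻¹) * r = r * (z * u * z⁻¹ * u⁻¹) := by
        intro r hr'
        have key : ∀ r ∈ Q x, (z * u * z⁻¹) * r * (z * u * z⁻¹)⁻¹ = u * r * u⁻¹ := by
          intro r hr'
          have h1 := huI _ ⟨z⁻¹ * r * z, by simpa [zinv] using hzr r hr', rfl⟩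
          have h2 : z * (z⁻¹ * r * z) * z⁻¹ = r := by group
          rw [h2] at h1
          rcases hr.comm u hu (z⁻¹ * r * z) (by simpa [zinv] using hzr r hr') with e | e
          all_goals
            have h3 : u * (z⁻¹ * r * z) * u⁻¹ = _ := mul_inv_eq_iff_eq_mul.1 e
            have h4 : u * r * u⁻¹ * (u * (z⁻¹ * r * z) * u⁻¹)⁻¹ = r * (z⁻¹ * r * z)⁻¹ := by
              calc _ = u * (r * (z⁻¹ * r * z)⁻¹) * u⁻¹ := by group
                _ = _ := by rw [h1, mul_inv_cancel_right]
            rw [h3] at h4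
            have h5 : z * (u * (z⁻¹ * r * z) * u⁻¹) * z⁻¹ = z * u * z⁻¹ * r * (z * u * z⁻¹)⁻¹ := by
              group
            rw [h3] at h5
            rw [← h5]
            have h6 := mul_inv_eq_iff_eq_mul.1 h4
            rw [h6]
          · group
          · calc z * (x * (z⁻¹ * r * z)) * z⁻¹ = (z * x) * z⁻¹ * r := by group
              _ = x * r := by rw [← hxc, mul_inv_cancel_right]
              _ = r * (z⁻¹ * r * z)⁻¹ * (x * (z⁻¹ * r * z)) := by
                  rw [mul_assoc r, ← hr.fix (z⁻¹ * r * z) (by simpa [zinv] using hzr r hr'),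
                    inv_mul_cancel_left]
                  exact (hr.fix r hr').symm
        have h7 := key (u⁻¹ * r * u) ((Q x).mul_mem ((Q x).mul_mem ((Q x).inv_mem hu) hr') hu)
        apply mul_inv_eq_iff_eq_mul.1
        calc z * u * z⁻¹ * u⁻¹ * r * (z * u * z⁻¹ * u⁻¹)⁻¹
            = z * u * z⁻¹ * (u⁻¹ * r * u) * (z * u * z⁻¹)⁻¹ := by group
          _ = u * (u⁻¹ * r * u) * u⁻¹ := h7
          _ = r := by group
      rcases hr.centre _ ((Q x).mul_mem (hzr u hu) ((Q x).inv_mem hu)) hcen with e | e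
      · have : u * z = z * u := (mul_inv_eq_iff_eq_mul.1 (mul_inv_eq_one.1 e)).symm
        exact huy (hyB u hu this).symm
      · exact hS u hu e
  -- `A` moves elements of `R` inside `B`
  have hmove : ∀ a ∈ Q z, a * x = x * a → ∀ r ∈ Q x,
      ∃ w ∈ Q x, w * z = z * w ∧ a * r * a⁻¹ = r * w := by
    intro a ha hax r hr'
    have har := hxn a hax r hr'
    refine ⟨r⁻¹ * (a * r * a⁻¹), (Q x).mul_mem ((Q x).inv_mem hr') har,
      hB _ ((Q x).mul_mem ((Q x).inv_mem hr') har) ?_, by group⟩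
    intro b hb hbz
    have hab : ∀ v ∈ Q x, (a * r * a⁻¹) * b * (a * r * a⁻¹)⁻¹ = v → r * b * r⁻¹ = v := by
      rintro v - rfl
      obtain ⟨e, he', hae⟩ : ∃ e ∈ Subgroup.zpowers x, a * b * a⁻¹ = e * b :=
        ⟨_, (mem_zp hr.sq).2 (hAB a ha hax b hb hbz), by group⟩
      obtain ⟨f, hf, hrf⟩ : ∃ f ∈ Subgroup.zpowers x, r * b * r⁻¹ = f * b :=
        ⟨_, (mem_zp hr.sq).2 (hr.comm r hr' b hb), by group⟩
      have hco : ∀ f ∈ Subgroup.zpowers x, ∀ y : G, y * x = x * y → y * f = f * y := by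
        intro f hf y hy
        rcases (mem_zp hr.sq).1 hf with rfl | rfl
        · simp
        · exact hy
      have h1 : a * (r * b * r⁻¹) * a⁻¹ = (a * r * a⁻¹) * (a * b * a⁻¹) * (a * r * a⁻¹)⁻¹ := by
        group
      rw [hrf, hae] at h1
      have h2 : a * (f * b) * a⁻¹ = e * (f * b) := by
        calc a * (f * b) * a⁻¹ = (a * f) * b * a⁻¹ := by group
          _ = f * (a * b * a⁻¹) := by rw [hco f hf a hax]; group
          _ = (f * e) * b := by rw [hae]; group
          _ = e * (f * b) := by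
              rw [← mul_assoc, (hco f hf e (hco e he' x rfl).symm).symm]
      have h3 : a * r * a⁻¹ * (e * b) * (a * r * a⁻¹)⁻¹ =
          e * (a * r * a⁻¹ * b * (a * r * a⁻¹)⁻¹) := by
        rw [← mul_assoc (a * r * a⁻¹) e b, hco e he' _ (hr.fix _ har)]
        group
      rw [h2, h3] at h1
      rw [hrf]
      exact mul_left_cancel h1
    have h := hab _ ((Q x).mul_mem ((Q x).mul_mem har hb) ((Q x).inv_mem har)) rfl
    apply mul_inv_eq_iff_eq_mul.1
    calc r⁻¹ * (a * r * a⁻¹) * b * (r⁻¹ * (a * r * a⁻¹))⁻¹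
        = r⁻¹ * (a * r * a⁻¹ * b * (a * r * a⁻¹)⁻¹) * r := by group
      _ = r⁻¹ * (r * b * r⁻¹) * r := by rw [← h]
      _ = b := by group
  -- hence `z` centralizes `R`
  apply hzR
  apply hr.cent
  intro r hr'
  obtain ⟨w₁, hw₁, hw₁z, e₁⟩ := hmove a₁ ha₁ hc₁ r hr'
  obtain ⟨w₂, hw₂, hw₂z, e₂⟩ := hmove a₂ ha₂ hc₂ r hr'
  have hzp : ∀ f ∈ Subgroup.zpowers x, f ∈ Q x ∧ z * f * z⁻¹ = f := by
    intro f hf
    rcases (mem_zp hr.sq).1 hf with rfl | rfl
    · exact ⟨one_mem _, by simp⟩
    · exact ⟨hr.mem, by rw [← hxc, mul_inv_cancel_right]⟩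
  obtain ⟨f₁, hf₁, g₁⟩ : ∃ f ∈ Subgroup.zpowers x, a₁ * w₂ * a₁⁻¹ = f * w₂ :=
    ⟨_, (mem_zp hr.sq).2 (hAB a₁ ha₁ hc₁ w₂ hw₂ hw₂z), by group⟩
  obtain ⟨f₂, hf₂, g₂⟩ : ∃ f ∈ Subgroup.zpowers x, a₂ * w₁ * a₂⁻¹ = f * w₁ :=
    ⟨_, (mem_zp hr.sq).2 (hAB a₂ ha₂ hc₂ w₁ hw₁ hw₁z), by group⟩
  obtain ⟨f₃, hf₃, g₃⟩ : ∃ f ∈ Subgroup.zpowers x, w₁ * f₁ * w₂ = f * (w₂ * f₂ * w₁) := by
    refine ⟨w₁ * f₁ * w₂ * (w₂ * f₂ * w₁)⁻¹, ?_, by group⟩
    have h1 : w₁ * f₁ = f₁ * w₁ := by
      rcases (mem_zp hr.sq).1 hf₁ with rfl | rfl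
      · simp
      · exact hr.fix _ hw₁
    have h2 : w₂ * f₂ = f₂ * w₂ := by
      rcases (mem_zp hr.sq).1 hf₂ with rfl | rfl
      · simp
      · exact hr.fix _ hw₂
    rw [h1, h2]
    have h3 : f₁ * w₁ * w₂ * (f₂ * w₂ * w₁)⁻¹ = f₁ * (w₁ * w₂ * w₁⁻¹ * w₂⁻¹) * f₂⁻¹ := by group
    rw [h3]
    exact mul_mem (mul_mem hf₁ ((mem_zp hr.sq).2 (hr.comm _ hw₁ _ hw₂))) (inv_mem hf₂)
  -- the commutator of `a₁, a₂` is `z`
  have hz12 : a₁ * a₂ = z * a₂ * a₁ :=
    mul_inv_eq_iff_eq_mul.1 (he.conj_eq ha₁ ha₂ hne)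
  have l : (a₁ * a₂) * r * (a₁ * a₂)⁻¹ = r * (w₁ * f₁ * w₂) := by
    calc (a₁ * a₂) * r * (a₁ * a₂)⁻¹ = a₁ * (a₂ * r * a₂⁻¹) * a₁⁻¹ := by group
      _ = (a₁ * r * a₁⁻¹) * (a₁ * w₂ * a₁⁻¹) := by rw [e₂]; group
      _ = r * (w₁ * f₁ * w₂) := by rw [e₁, g₁]; group
  have m : (a₂ * a₁) * r * (a₂ * a₁)⁻¹ = r * (w₂ * f₂ * w₁) := by
    calc (a₂ * a₁) * r * (a₂ * a₁)⁻¹ = a₂ * (a₁ * r * a₁⁻¹) * a₂⁻¹ := by group
      _ = (a₂ * r * a₂⁻¹) * (a₂ * w₁ * a₂⁻¹) := by rw [e₁]; group
      _ = r * (w₂ * f₂ * w₁) := by rw [e₂, g₂]; group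
  have hzr' : z * (r * (w₂ * f₂ * w₁)) * z⁻¹ = r * (f₃ * (w₂ * f₂ * w₁)) := by
    rw [← g₃, ← l, ← m, hz12]; group
  have hzW : z * (w₂ * f₂ * w₁) = (w₂ * f₂ * w₁) * z := by
    have hf : Commute z f₂ := mul_inv_eq_iff_eq_mul.1 (hzp f₂ hf₂).2
    exact ((Commute.symm hw₂z).mul_right hf).mul_right (Commute.symm hw₁z)
  have hfin : z * r * z⁻¹ = r * f₃ := by
    have h1 : z * (r * (w₂ * f₂ * w₁)) * z⁻¹ = z * r * z⁻¹ * (w₂ * f₂ * w₁) := by
      calc _ = z * r * z⁻¹ * (z * (w₂ * f₂ * w₁)) * z⁻¹ := by group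
        _ = _ := by rw [hzW]; group
    rw [h1, ← mul_assoc r] at hzr'
    exact mul_right_cancel hzr'
  rcases (mem_zp hr.sq).1 hf₃ with e | e
  · rw [e, mul_one] at hfin
    exact mul_inv_eq_iff_eq_mul.1 hfin
  · exfalso
    rw [e] at hfin
    refine hS r hr' ?_
    rw [hfin, hr.fix r hr', mul_inv_cancel_right]

end Setting

end Cfsg.Agent.SingularOrtho

namespace Cfsg.Agent.SingularOrtho

variable {G : Type*} [Group G] [Finite G] {Q : G → Subgroup G}

/-- The data of a singular subgroup. -/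
structure Singular (Q : G → Subgroup G) (U : Subgroup G) : Prop where
  two : ∀ u ∈ U, u * u = 1
  ext : ∀ u ∈ U, u ≠ 1 → Ext (Q u) u
  ortho : ∀ u ∈ U, ∀ v ∈ U, u ≠ 1 → v ∈ Q u
  equiv : ∀ g x y : G, y ∈ Q x → g * y * g⁻¹ ∈ Q (g * x * g⁻¹)

theorem singular_of (hQ : ∀ x : G, Q x = (Cfsg.pCore 2 ↥(Subgroup.centralizer ({x} : Set G))).map
      (Subgroup.centralizer ({x} : Set G)).subtype)
    {z : G} (hz : orderOf z = 2) (hE : Cfsg.IsExtraspecial 2 ↥(Q z))
    (hC : Subgroup.centralizer ((Q z : Subgroup G) : Set G) ≤ Q z)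
    (U : Subgroup G) (hU2 : ∀ u ∈ U, u * u = 1)
    (hS : ∀ u ∈ U, u ≠ 1 → ∃ g : G, g * z * g⁻¹ = u)
    (hO : ∀ u ∈ U, ∀ v ∈ U, u ≠ 1 → v ≠ 1 → v ∈ Q u) : Singular Q U :=
  ⟨hU2, fun u hu h1 => by obtain ⟨g, rfl⟩ := hS u hu h1; exact ext_conj hQ hz hE hC g,
    fun u hu v hv h1 => by
      by_cases hv1 : v = 1
      · exact hv1 ▸ one_mem _
      · exact hO u hu v hv h1 hv1,
    fun g _ _ h => conj_mem_core hQ g h⟩

theorem Singular.conj_mem {U : Subgroup G} (h : Singular Q U) {u v g : G} (hu : u ∈ U) (h1 : u ≠ 1)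
    (hv : v ∈ U) (hg : g ∈ Q u) : g * v * g⁻¹ ∈ U := by
  by_cases hgv : g * v = v * g
  · rw [hgv, mul_inv_cancel_right]; exact hv
  · rw [(h.ext u hu h1).conj_eq hg (h.ortho u hu v hv h1) hgv]
    exact U.mul_mem hu hv

theorem Singular.le_normalizer {U : Subgroup G} (h : Singular Q U) :
    (⨆ u ∈ ((U : Set G) \ {1}), Q u) ≤ Subgroup.normalizer (U : Set G) := by
  refine iSup_le fun u => iSup_le fun hu g hg => ?_
  rw [Subgroup.mem_normalizer_iff]
  refine fun v => ⟨fun hv => h.conj_mem hu.1 hu.2 hv hg, fun hv => ?_⟩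
  have := h.conj_mem hu.1 hu.2 hv ((Q u).inv_mem hg)
  simpa [mul_assoc] using this

/-- An element of some `Q u` centralizing `S` and moving `w` to `v`. -/
theorem Singular.transvection {U : Subgroup G} (h : Singular Q U) {v w : G} (hv : v ∈ U) (hw : w ∈ U)
    (hne : v ≠ w) (F : Subgroup G) (hF : F ≤ U) (hvF : v ∉ F) (hwF : w ∉ F) :
    ∃ u ∈ ((U : Set G) \ {1}), ∃ g ∈ Q u, (∀ f ∈ F, g * f = f * g) ∧ g * w * g⁻¹ = v := by
  have hu : v * w ∈ U := U.mul_mem hv hw
  have hu1 : v * w ≠ 1 := fun e => hne (by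
    rw [mul_eq_one_iff_eq_inv] at e
    rw [e, inv_eq_of_mul_eq_one_left (h.two w hw)])
  have hx := h.ext _ hu hu1
  have hnot : w ∉ Subgroup.closure (insert (v * w) (F : Set G)) := by
    intro hm
    have : ∀ y ∈ Subgroup.closure (insert (v * w) (F : Set G)), y ∈ F ∨ v * w * y ∈ F := by
      intro y hy
      have hc : ∀ f ∈ U, v * w * f = f * (v * w) := by
        intro f hf
        have h1 := h.two _ (U.mul_mem hu hf)
        calc v * w * f = (v * w * f)⁻¹ := (inv_eq_of_mul_eq_one_left h1).symm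
          _ = f⁻¹ * (v * w)⁻¹ := mul_inv_rev _ _
          _ = f * (v * w) := by
              rw [inv_eq_of_mul_eq_one_left (h.two f hf), inv_eq_of_mul_eq_one_left (h.two _ hu)]
      induction hy using Subgroup.closure_induction with
      | mem y hy =>
        rcases hy with rfl | hy
        · exact Or.inr (by rw [h.two _ hu]; exact one_mem _)
        · exact Or.inl hy
      | one => exact Or.inl (one_mem _)
      | mul a b _ _ iha ihb =>
        rcases iha with ha | ha <;> rcases ihb with hb | hb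
        · exact Or.inl (F.mul_mem ha hb)
        · refine Or.inr ?_
          rw [← mul_assoc, hc a (hF ha), mul_assoc]
          exact F.mul_mem ha hb
        · refine Or.inr ?_
          rw [← mul_assoc]; exact F.mul_mem ha hb
        · refine Or.inl ?_
          have := F.mul_mem ha hb
          have ha' : a ∈ U := by
            have := U.mul_mem (U.inv_mem hu) (hF ha)
            simpa [mul_assoc] using this
          rwa [show v * w * a * (v * w * b) = (v * w) * (a * (v * w)) * b by group, ← hc a ha',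
            ← mul_assoc, h.two _ hu, one_mul] at this
      | inv a _ iha =>
        rcases iha with ha | ha
        · exact Or.inl (F.inv_mem ha)
        · refine Or.inr ?_
          have := F.inv_mem ha
          have ha' : a⁻¹ ∈ U := by
            have := U.mul_mem (U.inv_mem (hF ha)) hu
            simpa [mul_assoc] using this
          rwa [mul_inv_rev, inv_eq_of_mul_eq_one_left (h.two _ hu), ← hc _ ha'] at this
    rcases this w hm with e | e
    · exact hwF e
    · rw [mul_assoc, h.two w hw, mul_one] at e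
      exact hvF e
  obtain ⟨g, hg, hgs, hgw⟩ := hx.dc_set (F : Set G)
    (fun f hf => h.ortho _ hu f (hF hf) hu1) (h.ortho _ hu w hw hu1) hnot
  refine ⟨v * w, ⟨hu, hu1⟩, g, hg, hgs, ?_⟩
  rw [hx.conj_eq hg (h.ortho _ hu w hw hu1) hgw, mul_assoc, h.two w hw, mul_one]

/-- `LU` induces the full automorphism group of `U`. -/
theorem Singular.induces_aut {U : Subgroup G} (h : Singular Q U) :
    ∀ φ : ↥U ≃* ↥U, ∃ g ∈ (⨆ u ∈ ((U : Set G) \ {1}), Q u),
      ∀ u : ↥U, g * (u : G) * g⁻¹ = ((φ u : ↥U) : G) := by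
  suffices ∀ n, ∀ φ : ↥U ≃* ↥U, {u : ↥U | φ u ≠ u}.ncard ≤ n →
      ∃ g ∈ (⨆ u ∈ ((U : Set G) \ {1}), Q u), ∀ u : ↥U, g * (u : G) * g⁻¹ = ((φ u : ↥U) : G) from
    fun φ => this _ φ le_rfl
  intro n
  induction n with
  | zero =>
    intro φ hφ
    refine ⟨1, one_mem _, fun u => ?_⟩
    have : {u : ↥U | φ u ≠ u} = ∅ := (Set.ncard_eq_zero (Set.toFinite _)).1 (Nat.le_zero.1 hφ)
    have hu : φ u = u := by
      by_contra hne
      exact (Set.ext_iff.1 this u).1 hne
    rw [hu]; group
  | succ n ih =>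
    intro φ hφ
    by_cases hfix : ∀ u, φ u = u
    · exact ⟨1, one_mem _, fun u => by rw [hfix u]; group⟩
    push Not at hfix
    obtain ⟨v, hv⟩ := hfix
    set F : Subgroup G := ((φ.toMonoidHom).eqLocus (MonoidHom.id _)).map U.subtype with hFdef
    have hmem : ∀ u : ↥U, (u : G) ∈ F ↔ φ u = u := by
      intro u
      constructor
      · rintro ⟨u', hu', e⟩
        obtain rfl : u' = u := Subtype.ext e
        exact hu'
      · exact fun e => ⟨u, e, rfl⟩
    obtain ⟨u, hu, g, hg, hgF, hgw⟩ := h.transvection v.2 (φ v).2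
      (fun e => hv (Subtype.ext e.symm)) F (Subgroup.map_subtype_le _) (fun e => hv ((hmem v).1 e))
      (fun e => hv (φ.injective ((hmem (φ v)).1 e)))
    have hgL : g ∈ (⨆ u ∈ ((U : Set G) \ {1}), Q u) :=
      Subgroup.mem_iSup_of_mem u (Subgroup.mem_iSup_of_mem hu hg)
    have hgN := h.le_normalizer hgL
    rw [Subgroup.mem_normalizer_iff] at hgN
    let τ : ↥U ≃* ↥U :=
      { toFun := fun a => ⟨g * a * g⁻¹, (hgN a).1 a.2⟩
        invFun := fun a => ⟨g⁻¹ * a * g, (hgN _).2 (by simp [mul_assoc])⟩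
        left_inv := fun a => Subtype.ext (by simp [mul_assoc])
        right_inv := fun a => Subtype.ext (by simp [mul_assoc])
        map_mul' := fun a b => Subtype.ext (by simp [mul_assoc]) }
    have hlt : {a : ↥U | (φ.trans τ) a ≠ a}.ncard ≤ n := by
      have hssub : {a : ↥U | (φ.trans τ) a ≠ a} ⊂ {a : ↥U | φ a ≠ a} := by
        rw [Set.ssubset_iff_of_subset]
        · exact ⟨v, hv, fun hne => hne (Subtype.ext hgw)⟩
        · intro a ha e
          apply ha
          refine Subtype.ext ?_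
          show g * (φ a : G) * g⁻¹ = a
          rw [e, hgF _ ((hmem a).2 e), mul_inv_cancel_right]
      have := Set.ncard_lt_ncard hssub (Set.toFinite _)
      omega
    obtain ⟨k, hk, hkφ⟩ := ih (φ.trans τ) hlt
    refine ⟨g⁻¹ * k, Subgroup.mul_mem _ (Subgroup.inv_mem _ hgL) hk, fun a => ?_⟩
    calc g⁻¹ * k * (a : G) * (g⁻¹ * k)⁻¹ = g⁻¹ * (k * a * k⁻¹) * g := by group
      _ = g⁻¹ * (g * (φ a : G) * g⁻¹) * g := by rw [hkφ a]; rfl
      _ = (φ a : G) := by group

theorem Singular.commutator {U : Subgroup G} (h : Singular Q U) {g x : G}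
    (hg : g ∈ ⨆ u ∈ ((U : Set G) \ {1}), Q u) (hx : x ∈ ⨅ u ∈ ((U : Set G) \ {1}), Q u) :
    g * x * g⁻¹ * x⁻¹ ∈ U := by
  have step : g ∈ Subgroup.normalizer (U : Set G) ∧
      ∀ x ∈ ⨅ u ∈ ((U : Set G) \ {1}), Q u, g * x * g⁻¹ * x⁻¹ ∈ U := by
    refine Subgroup.iSup_induction (S := fun u => ⨆ _ : u ∈ ((U : Set G) \ {1}), Q u)
      (C := fun g => g ∈ Subgroup.normalizer (U : Set G) ∧
        ∀ x ∈ ⨅ u ∈ ((U : Set G) \ {1}), Q u, g * x * g⁻¹ * x⁻¹ ∈ U) hg ?_
      ⟨one_mem _, fun x _ => by simp⟩ ?_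
    · intro u g hg
      by_cases hu : u ∈ ((U : Set G) \ {1})
      · rw [iSup_pos hu] at hg
        refine ⟨h.le_normalizer (Subgroup.mem_iSup_of_mem u (Subgroup.mem_iSup_of_mem hu hg)),
          fun x hx => ?_⟩
        have hxu : x ∈ Q u := by
          rw [Subgroup.mem_iInf] at hx
          have := hx u
          rwa [iInf_pos hu] at this
        rcases (h.ext u hu.1 hu.2).comm g hg x hxu with e | e <;> rw [e]
        · exact one_mem _
        · exact hu.1
      · rw [iSup_neg hu, Subgroup.mem_bot] at hg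
        subst hg
        exact ⟨one_mem _, fun x _ => by simp⟩
    · rintro a b ⟨ha, ha'⟩ ⟨hb, hb'⟩
      refine ⟨mul_mem ha hb, fun x hx => ?_⟩
      have h1 := (Subgroup.mem_normalizer_iff.1 ha _).1 (hb' x hx)
      have := U.mul_mem h1 (ha' x hx)
      simpa [mul_assoc] using this
  exact step.2 x hx

theorem Singular.trans_coset {U : Subgroup G} (h : Singular Q U) {x v : G} (hU : U ≠ ⊥)
    (hx : x ∈ ⨅ u ∈ ((U : Set G) \ {1}), Q u) (hxU : x ∉ U) (hv : v ∈ U) :
    ∃ g ∈ (⨆ u ∈ ((U : Set G) \ {1}), Q u) ⊓ Subgroup.centralizer (U : Set G),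
      g * x * g⁻¹ = x * v := by
  by_cases hv1 : v = 1
  · exact ⟨1, one_mem _, by simp [hv1]⟩
  have hxv : x ∈ Q v := by
    rw [Subgroup.mem_iInf] at hx
    have := hx v
    rwa [iInf_pos (show v ∈ ((U : Set G) \ {1}) from ⟨hv, hv1⟩)] at this
  have hx' := h.ext v hv hv1
  have hnot : x ∉ Subgroup.closure (insert v (U : Set G)) := by
    rw [Set.insert_eq_of_mem (show v ∈ (U : Set G) from hv), Subgroup.closure_eq]
    exact hxU
  obtain ⟨g, hg, hgU, hgx⟩ := hx'.dc_set (U : Set G) (fun f hf => h.ortho v hv f hf hv1) hxv hnot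
  refine ⟨g, ⟨Subgroup.mem_iSup_of_mem v (Subgroup.mem_iSup_of_mem ⟨hv, hv1⟩ hg),
    fun f hf => (hgU f hf).symm⟩, ?_⟩
  rw [hx'.conj_eq hg hxv hgx, hx'.fix x hxv]

theorem Singular.inf_generated {U : Subgroup G} (h : Singular Q U) (T : Set G)
    (hT : Subgroup.closure T = U) (hT1 : (1 : G) ∉ T) :
    (⨅ u ∈ ((U : Set G) \ {1}), Q u) = ⨅ t ∈ T, Q t := by
  have hTU : ∀ t ∈ T, t ∈ U := fun t ht => hT ▸ Subgroup.subset_closure ht
  refine le_antisymm ?_ fun y hy => ?_
  · refine le_iInf fun t => le_iInf fun ht => iInf_le_of_le t (iInf_le _ ?_)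
    exact ⟨hTU t ht, fun e => hT1 (e ▸ ht)⟩
  simp only [Subgroup.mem_iInf] at hy
  simp only [Subgroup.mem_iInf]
  suffices ∀ u ∈ U, u ≠ 1 → y ∈ Q u from fun u hu => this u hu.1 hu.2
  intro u hu
  rw [← hT] at hu
  induction hu using Subgroup.closure_induction with
  | mem t ht => exact fun _ => hy t ht
  | one => exact fun h1 => absurd rfl h1
  | mul a b ha hb iha ihb =>
    intro hab
    rw [hT] at ha hb
    by_cases ha1 : a = 1
    · subst ha1; rw [one_mul] at hab ⊢; exact ihb hab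
    by_cases hb1 : b = 1
    · subst hb1; rw [mul_one] at hab ⊢; exact iha hab
    have hbe := h.ext b hb hb1
    have haQ := h.ortho b hb a ha hb1
    obtain ⟨q, hq, hqa⟩ : ∃ q ∈ Q b, q * a ≠ a * q := by
      by_contra hcon
      push Not at hcon
      rcases hbe.centre a haQ (fun r hr => (hcon r hr).symm) with e | e
      · exact ha1 e
      · exact hab (by rw [e]; exact h.two b hb)
    have e1 : q * a * q⁻¹ = a * b := by rw [hbe.conj_eq hq haQ hqa, hbe.fix a haQ]
    have h1 : q * y * q⁻¹ ∈ Q (a * b) := e1 ▸ h.equiv q a y (iha ha1)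
    by_cases hqy : q * y = y * q
    · rwa [hqy, mul_inv_cancel_right] at h1
    · rw [hbe.conj_eq hq (ihb hb1) hqy] at h1
      have h2 := (Q (a * b)).mul_mem (h.ortho _ (U.mul_mem ha hb) b hb hab) h1
      rwa [← mul_assoc, h.two b hb, one_mul] at h2
  | inv a ha iha =>
    intro h1
    rw [hT] at ha
    rw [inv_eq_of_mul_eq_one_left (h.two a ha)] at h1 ⊢
    exact iha h1

end Cfsg.Agent.SingularOrtho
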