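import Cfsg.Agent.Lib.MonsterSquare
import Cfsg.Agent.Lib.LeechCo2
import Cfsg.Agent.Lib.CharTwoLocal
import Cfsg.Agent.Lib.SingularOrtho

/-!
The centralizer of an involution of `Q` outside the class of `z`, modulo that involution, is of
Baby Monster type.
-/

set_option autoImplicit false
set_option linter.style.haveILetI false

namespace Cfsg.Agent.MonsterLocal

open Cfsg Cfsg.Agent.LargeExtraspecial
open Cfsg.Agent.GolayBasic Cfsg.Agent.LeechBasic Cfsg.Agent.LeechAut Cfsg.Agent.LeechIndex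
open Cfsg.Agent.LeechStab

theorem leechU_eq : Spor.leechU = LeechStab.vecP :=
  Subtype.ext (funext fun j => by rw [coe_vecP]; rfl)

/-- A codeword meeting the octad of `octVec` in two points. -/
def flipWord : CodeSupp :=
  ⟨mset 12222476, (mset_mem_supports (by norm_num)).2 (by decide +kernel)⟩

theorem flip_facts :
    sqNorm (octVec : GolayPt → ℤ) = 32 ∧ (16 : ℤ) ∣ dotInt (octVec : GolayPt → ℤ) (frame none) ∧
    sqNorm (LeechFrame.P (pt 17) (pt 23) : GolayPt → ℤ) = 32 ∧
    ∀ i : GolayPt, (if i ∈ flipWord.1 then -(octVec : GolayPt → ℤ) i else (octVec : GolayPt → ℤ) i) -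
      ((octVec + LeechFrame.P (pt 17) (pt 23) : leechLattice) : GolayPt → ℤ) i =
      2 * (-(LeechFrame.P (pt 17) (pt 23) : GolayPt → ℤ) i) := by
  refine ⟨?_, ?_, ?_, ?_⟩ <;> decide +kernel

variable {G : Type*} [Group G] [Finite G] {z : G}
  {Q : Subgroup (Subgroup.centralizer ({z} : Set G))} [Q.Normal]
  {e : (Subgroup.centralizer ({z} : Set G)) ⧸ Q ≃* Spor.Co1}
  {ψ : leechLattice → Q ⧸ Subgroup.center Q}

theorem card_comap_phi (e : (Subgroup.centralizer ({z} : Set G)) ⧸ Q ≃* Spor.Co1)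
    (E : Subgroup ((Subgroup.centralizer ({z} : Set G)) ⧸ Q)) :
    Nat.card (E.comap (phi e)) = 2 * Nat.card E := by
  haveI := LeechOrder.finite_Co0
  set A := E.comap (phi e) with hA
  rw [Subgroup.card_eq_card_quotient_mul_card_subgroup ((phi e).ker.subgroupOf A),
    Nat.card_congr (Subgroup.subgroupOfEquivOfLe (Subgroup.ker_le_comap (phi e) E)).toEquiv,
    ker_phi, card_center, mul_comm]
  congr 1
  have hr : ((phi e).comp A.subtype).range = E := by
    rw [MonoidHom.range_comp, Subgroup.range_subtype, hA,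
      Subgroup.map_comap_eq_self_of_surjective (phi_surjective e)]
  refine (Nat.card_congr ((QuotientGroup.quotientMulEquivOfEq ?_).trans
    (QuotientGroup.quotientKerEquivRange ((phi e).comp A.subtype))).toEquiv).trans (by rw [hr])
  rw [← ker_phi e]; rfl

namespace Setup

variable (S : Setup Q e ψ)
include S

/-- Changing the identification by a lattice automorphism. -/
theorem twist (g : Co0) :
    Setup Q (e.trans (MulAut.conj (QuotientGroup.mk g : Spor.Co1))) (fun v => ψ (g⁻¹ • v)) := by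
  obtain ⟨hadd, hsurj, hker, hequiv⟩ := S.iso
  have hsm : ∀ (a : Co0) (v w : leechLattice), a • (v + w) = a • v + a • w := fun a v w => a.2.1 v w
  refine ⟨S.lh, S.card, ⟨fun v w => by simp only [hsm, hadd], fun q => ?_, fun v => ?_, ?_⟩, S.nwc⟩
  · obtain ⟨v, hv⟩ := hsurj q
    exact ⟨g • v, by simp only [inv_smul_smul, hv]⟩
  · simp only [hker]
    constructor
    · rintro ⟨w, hw⟩
      exact ⟨g • w, by rw [← hsm, ← hw, smul_inv_smul]⟩
    · rintro ⟨w, hw⟩
      exact ⟨g⁻¹ • w, by rw [hw, hsm]⟩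
  · intro h a ha v q hq
    have := hequiv h (g⁻¹ * a * g) (by
      rw [MulEquiv.trans_apply, MulAut.conj_apply] at ha
      rw [QuotientGroup.mk_mul, QuotientGroup.mk_mul, QuotientGroup.mk_inv, ha]
      group) (g⁻¹ • v) q hq
    rwa [← mul_smul, mul_inv_cancel_right, mul_smul] at this

/-- An element of `C(t)` moving `z` inside `Q`. -/
theorem exists_move {t : Q} (ht : ψ Spor.leechU = QuotientGroup.mk t)
    (htz : ¬ IsConj z ((t : Subgroup.centralizer ({z} : Set G)) : G)) :
    ∃ m : G, m * ((t : Subgroup.centralizer ({z} : Set G)) : G) =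
        ((t : Subgroup.centralizer ({z} : Set G)) : G) * m ∧
      m * z * m⁻¹ ∈ Q.map (Subgroup.centralizer ({z} : Set G)).subtype ∧ m * z * m⁻¹ ≠ z ∧
      m * z * m⁻¹ ≠ z * ((t : Subgroup.centralizer ({z} : Set G)) : G) := by
  haveI := LeechOrder.finite_Co0
  obtain ⟨hoct, hdot, hP, hrel⟩ := flip_facts
  obtain ⟨a, ha⟩ := QuotientGroup.mk_surjective (ψ (frame none))
  have hfn : sqNorm (frame none : GolayPt → ℤ) = 64 := sqNorm_frame none
  obtain ⟨hca, hane⟩ := S.conj_of_64 hfn ha.symm
  obtain ⟨g, hg⟩ := isConj_iff.mp hca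
  obtain ⟨-, -, hEX, hEn, -, hE11, -⟩ := S.core hg hane rfl rfl
  have haz := S.ne_central (by rw [hfn]; norm_num) hfn.le ha.symm
  set s := ((a : Subgroup.centralizer ({z} : Set G)) : G) with hs
  set Qg := Q.map (Subgroup.centralizer ({z} : Set G)).subtype with hQg
  set R := Qg.map (MulAut.conj g).toMonoidHom with hR
  set E := ((R ⊓ Subgroup.centralizer ({z} : Set G)).subgroupOf
    (Subgroup.centralizer ({z} : Set G))).map (QuotientGroup.mk' Q) with hE
  have hR' : LHyp R s := by
    have := S.lh.map_conj g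
    rwa [hg] at this
  have hzR : z ∈ R := S.lh.z_mem_conj (g := g) (by rw [hg]; exact S.coe_mem a) (by rw [hg]; exact hane)
    (by rw [S.card]; norm_num)
  -- the sign change
  set A := E.comap (phi e) with hA
  have hXc := S.comap_X ha.symm haz
  rw [classStab_frame] at hXc
  have hAle : A ≤ mono := hXc ▸ Subgroup.comap_mono hEX
  have hAn : ∀ x ∈ mono, ∀ y ∈ A, x * y * x⁻¹ ∈ A := by
    intro x hx y hy
    rw [← hXc] at hx
    show phi e (x * y * x⁻¹) ∈ E
    rw [map_mul, map_mul, map_inv]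
    exact hEn _ hx _ hy
  have hA12 : Nat.card A = 2 ^ 12 := by
    rw [hA, card_comap_phi, hE11]; norm_num
  choose f hf using fun x : A => cross_signs (IsPGroup.of_card (p := 2) (n := 12) hA12) hAle hAn x.1 x.2
  have hfinj : Function.Injective f := fun x y h =>
    Subtype.ext ((hf x).trans ((congrArg signElt h).trans (hf y).symm))
  obtain ⟨x, hx⟩ := ((Nat.bijective_iff_injective_and_card f).mpr ⟨hfinj, by
    rw [hA12, card_codeSupp]; norm_num⟩).2 flipWord
  obtain ⟨r, hr, hre⟩ := (show phi e (signElt flipWord) ∈ E by rw [← hx, ← hf x]; exact x.2)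
  have hrR : (r : G) ∈ R := hr.1
  -- the commutator
  obtain ⟨b, hb⟩ := QuotientGroup.mk_surjective (ψ octVec)
  have hbs : ((b : Subgroup.centralizer ({z} : Set G)) : G) * s =
      s * (b : Subgroup.centralizer ({z} : Set G)) :=
    congrArg (fun q : Q => ((q : Subgroup.centralizer ({z} : Set G)) : G))
      ((S.comm_iff hb.symm ha.symm).mpr hdot)
  let rb : Q := ⟨r * b * r⁻¹, (inferInstance : Q.Normal).conj_mem _ b.2 r⟩
  have hrb : ψ (signElt flipWord • octVec) = QuotientGroup.mk rb :=
    S.iso.2.2.2 r (signElt flipWord) (by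
      show _ = e (QuotientGroup.mk' Q r)
      rw [hre]; exact (e.apply_symm_apply _).symm) octVec b hb.symm
  have hc : ψ (LeechFrame.P (pt 17) (pt 23)) = QuotientGroup.mk (b⁻¹ * rb) := by
    have h1 : ψ (signElt flipWord • octVec) = ψ (octVec + LeechFrame.P (pt 17) (pt 23)) := by
      refine S.psi_eq.mpr (mem_twiceLeech.mpr
        ⟨-(LeechFrame.P (pt 17) (pt 23) : GolayPt → ℤ), neg_mem (LeechFrame.P (pt 17) (pt 23)).2, ?_⟩)
      funext i
      rw [Pi.sub_apply, LeechCo2.signElt_apply, hrel i, Pi.smul_apply, nsmul_eq_mul]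
      rfl
    rw [hrb, S.iso.1, ← hb] at h1
    rw [QuotientGroup.mk_mul, QuotientGroup.mk_inv, h1, inv_mul_cancel_left]
  set c := b⁻¹ * rb with hcd
  set t' := ((c : Subgroup.centralizer ({z} : Set G)) : G) with ht'
  have ht'R : t' ∈ R := by
    have e1 : t' = (((b : Subgroup.centralizer ({z} : Set G)) : G)⁻¹ * (r : G) *
        ((b : Subgroup.centralizer ({z} : Set G)) : G)⁻¹⁻¹) * (r : G)⁻¹ := by
      simp only [ht', hcd, rb, Subgroup.coe_mul, Subgroup.coe_inv, inv_inv]
      group
    rw [e1]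
    refine R.mul_mem (hR'.norm _ ?_ _ hrR) (R.inv_mem hrR)
    exact (show Commute _ s from hbs).inv_left.eq
  have ht'0 := S.ne_central (by rw [hP]; norm_num) (by rw [hP]; norm_num) hc
  have ht'z : ¬ IsConj z t' := by
    intro h
    obtain ⟨v, hv, hvc⟩ := S.class64 h ht'0.2
    have hd := S.psi_eq.mp (hc.trans hvc.symm)
    rcases LeechMod2.congr_short v.2 hd (by rw [hP]; norm_num) (by omega) with e1 | e1 | e1
    · rw [e1] at hP; omega
    · rw [e1, LeechCo2.sqNorm_neg'] at hP; omega
    · omega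
  have hst : t' ≠ s := fun h => ht'z (h ▸ isConj_iff.mpr ⟨g, hg⟩)
  -- the mover
  obtain ⟨q, hq, hqt, hqz⟩ : ∃ q ∈ R, q * t' = t' * q ∧ ¬ q * z = z * q := by
    by_contra hno
    push Not at hno
    have hsi : s⁻¹ = s := inv_eq_of_mul_eq_one_right hR'.zz
    rcases hR'.toExt.double_centralizer ht'R hzR hno with h | h | h | h
    · exact S.lh.ne_one h
    · exact hane h.symm
    · have e1 : t' = z := by rw [← inv_inv t', ← h, S.lh.toExt.inv_z]
      exact ht'z (e1.symm ▸ IsConj.refl z)
    · -- `t' = z s`, a conjugate of `z`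
      obtain ⟨p, hp, ep⟩ := S.lh.partner s (S.coe_mem a) haz.1 haz.2
      refine ht'z (isConj_iff.mpr ⟨p * g, ?_⟩)
      have e1 : t' = z * s := by
        rw [← S.lh.toExt.inv_z, h, mul_inv_rev, inv_inv, hsi, mul_assoc, hR'.zz, mul_one]
      calc p * g * z * (p * g)⁻¹ = p * (g * z * g⁻¹) * p⁻¹ := by group
        _ = t' := by rw [hg, ep, e1]
  have hqz' : q * z * q⁻¹ = s * z := (hR'.toExt.not_comm_iff hzR hq).mp hqz
  obtain ⟨k, hk⟩ : ∃ k : Co0, k • LeechFrame.P (pt 17) (pt 23) = Spor.leechU :=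
    LeechOrbit.exists_smul_eq (N := 32) (Or.inl rfl) (by exact_mod_cast hP)
      (by rw [leechU_eq]; exact_mod_cast sqNorm_vecP)
  have htne := S.ne_central (v := Spor.leechU) (by rw [leechU_eq, sqNorm_vecP]; norm_num)
    (by rw [leechU_eq, sqNorm_vecP]; norm_num) ht
  obtain ⟨h, -, hh⟩ := S.exists_conj hc (g := k) (by rw [hk]; exact ht) htne
  set t₀ := ((t : Subgroup.centralizer ({z} : Set G)) : G)
  have hhz : (h : G) * z = z * h := Subgroup.mem_centralizer_singleton_iff.mp h.2
  refine ⟨(h : G) * q * (h : G)⁻¹, ?_, ?_⟩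
  · rw [← hh]
    calc (h : G) * q * (h : G)⁻¹ * ((h : G) * t' * (h : G)⁻¹) = (h : G) * (q * t') * (h : G)⁻¹ := by group
      _ = (h : G) * (t' * q) * (h : G)⁻¹ := by rw [hqt]
      _ = _ := by simp only [ht']; group
  have e1 : (h : G) * q * (h : G)⁻¹ * z * ((h : G) * q * (h : G)⁻¹)⁻¹ = z * ((h : G) * s * (h : G)⁻¹) := by
    have hz' : (h : G)⁻¹ * z * h = z := by rw [mul_assoc, ← hhz, inv_mul_cancel_left]
    calc (h : G) * q * (h : G)⁻¹ * z * ((h : G) * q * (h : G)⁻¹)⁻¹
        = (h : G) * (q * ((h : G)⁻¹ * z * h) * q⁻¹) * (h : G)⁻¹ := by group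
      _ = (h : G) * (s * z) * (h : G)⁻¹ := by rw [hz', hqz']
      _ = (h : G) * (z * s) * (h : G)⁻¹ := by rw [S.lh.comm s (S.coe_mem a)]
      _ = z * ((h : G) * s * (h : G)⁻¹) := by rw [← mul_assoc (h : G) z s, hhz]; group
  refine ⟨?_, ?_, ?_⟩
  · rw [e1]
    exact Qg.mul_mem S.lh.mem (S.lh.norm _ hhz _ (S.coe_mem a))
  · rw [e1]
    intro e2
    exact haz.1 (conj_eq_one_iff.mp (mul_eq_left.mp e2))
  · rw [e1]
    intro e2
    refine htz (isConj_iff.mpr ⟨(h : G) * g, ?_⟩)
    rw [← mul_left_cancel e2, ← hg]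
    group

/-- The structure of `C(t)` modulo `t`. -/
theorem baby {t : G} {tQ : Q} (htc : ((tQ : Subgroup.centralizer ({z} : Set G)) : G) = t)
    (hu : ψ Spor.leechU = QuotientGroup.mk tQ) (htz : ¬ IsConj z t)
    [hn : ((Subgroup.zpowers t).subgroupOf (Subgroup.centralizer ({t} : Set G))).Normal] :
    IsOfBabyMonsterType (↥(Subgroup.centralizer ({t} : Set G)) ⧸
      (Subgroup.zpowers t).subgroupOf (Subgroup.centralizer ({t} : Set G))) := by
  haveI := LeechOrder.finite_Co0
  set Qg := Q.map (Subgroup.centralizer ({z} : Set G)).subtype with hQg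
  set T := Subgroup.centralizer ({t} : Set G) with hT
  set K := Subgroup.centralizer ({z} : Set G) ⊓ T with hK
  have hnU : sqNorm (Spor.leechU : GolayPt → ℤ) = 32 := by rw [leechU_eq]; exact sqNorm_vecP
  obtain ⟨ht1, htnz⟩ : t ≠ 1 ∧ t ≠ z :=
    htc ▸ S.ne_central (by rw [hnU]; norm_num) (by rw [hnU]; norm_num) hu
  have htQ : t ∈ Qg := htc ▸ S.coe_mem tQ
  have htt : t * t = 1 :=
    htc ▸ congrArg (fun q : Q => ((q : Subgroup.centralizer ({z} : Set G)) : G)) (S.sq32 hnU hu)
  have hti : t⁻¹ = t := inv_eq_of_mul_eq_one_right htt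
  have htz' : t * z = z * t := S.lh.comm t htQ
  have hzK : z ∈ K := ⟨Subgroup.mem_centralizer_singleton_iff.mpr rfl,
    Subgroup.mem_centralizer_singleton_iff.mpr htz'.symm⟩
  let π := QuotientGroup.mk' ((Subgroup.zpowers t).subgroupOf T)
  have hπ : ∀ x y : T, π x = π y ↔ (y : G) = x ∨ (y : G) = x * t := by
    intro x y
    rw [QuotientGroup.mk'_apply, QuotientGroup.mk'_apply, QuotientGroup.eq, Subgroup.mem_subgroupOf,
      SingularOrtho.mem_zp htt, Subgroup.coe_mul, Subgroup.coe_inv, inv_mul_eq_iff_eq_mul,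
      inv_mul_eq_iff_eq_mul, mul_one]
  set zb : T ⧸ (Subgroup.zpowers t).subgroupOf T := π ⟨z, hzK.2⟩ with hzb
  set D := Subgroup.centralizer ({zb} : Set (T ⧸ (Subgroup.zpowers t).subgroupOf T)) with hD
  have hKD : ∀ k : K, π ⟨(k : G), k.2.2⟩ ∈ D := fun k => by
    refine Subgroup.mem_centralizer_singleton_iff.mpr ?_
    rw [hzb, ← map_mul, ← map_mul]
    exact congrArg π (Subtype.ext (Subgroup.mem_centralizer_singleton_iff.mp k.2.1))
  let f : K →* D := (π.comp (Subgroup.inclusion inf_le_right)).codRestrict D hKD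
  have hfeq : ∀ x y : K, f x = f y ↔ (y : G) = x ∨ (y : G) = x * t := fun x y =>
    ⟨fun h => (hπ _ _).mp (congrArg Subtype.val h), fun h => Subtype.ext ((hπ _ _).mpr h)⟩
  have hfsurj : Function.Surjective f := by
    rintro ⟨d, hd⟩
    obtain ⟨x, rfl⟩ := QuotientGroup.mk'_surjective _ d
    have h1 := Subgroup.mem_centralizer_singleton_iff.mp hd
    rw [hzb, ← map_mul, ← map_mul, hπ] at h1
    simp only [Subgroup.coe_mul] at h1
    refine ⟨⟨x, Subgroup.mem_centralizer_singleton_iff.mpr ?_, x.2⟩, rfl⟩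
    rcases h1 with h1 | h1
    · exact h1.symm
    · exfalso
      obtain ⟨q, hq, eq⟩ := S.lh.partner t htQ ht1 htnz
      refine htz (isConj_iff.mpr ⟨q⁻¹ * ((x : T) : G)⁻¹, ?_⟩)
      have hzx : ((x : T) : G)⁻¹ * z * ((x : T) : G) = z * t := by
        rw [mul_assoc, h1, ← mul_assoc, ← mul_assoc, inv_mul_cancel, one_mul]
      calc q⁻¹ * ((x : T) : G)⁻¹ * z * (q⁻¹ * ((x : T) : G)⁻¹)⁻¹
          = q⁻¹ * (((x : T) : G)⁻¹ * z * ((x : T) : G)) * q := by group
        _ = t := by rw [hzx, ← eq]; group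
  -- the subgroups
  set S₀ := Qg.subgroupOf K with hS₀
  have hQC : ∀ q ∈ Qg, q ∈ Subgroup.centralizer ({z} : Set G) := fun q hq =>
    Subgroup.mem_centralizer_singleton_iff.mpr (S.lh.comm q hq)
  haveI hS₀n : S₀.Normal := ⟨fun q hq k =>
    S.lh.norm (k : G) (Subgroup.mem_centralizer_singleton_iff.mp k.2.1) (q : G) hq⟩
  set Q' := S₀.map f with hQ'
  haveI hQ'n : Q'.Normal := hS₀n.map f hfsurj
  have hkerf : f.ker ≤ S₀ := fun x hx => by
    rw [MonoidHom.mem_ker, ← map_one f, hfeq] at hx
    show (x : G) ∈ Qg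
    simp only [Subgroup.coe_one] at hx
    rcases hx with hx | hx
    · rw [← hx]; exact one_mem _
    · have : (x : G) = t := by
        rw [← mul_one (x : G), ← htt, ← mul_assoc, ← hx, one_mul]
      rw [this]; exact htQ
  have hcomap : Q'.comap f = S₀ := by
    rw [hQ', Subgroup.comap_map_eq]
    exact sup_eq_left.mpr hkerf
  -- the quotient
  let ρ : K →* (Subgroup.centralizer ({z} : Set G)) ⧸ Q :=
    (QuotientGroup.mk' Q).comp (Subgroup.inclusion inf_le_left)
  have hρk : ρ.ker = S₀ := by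
    ext x
    rw [MonoidHom.mem_ker]
    constructor
    · intro h
      exact ⟨_, (QuotientGroup.eq_one_iff _).mp h, rfl⟩
    · rintro ⟨c, hc, hcx⟩
      refine (QuotientGroup.eq_one_iff _).mpr ?_
      rwa [show Subgroup.inclusion inf_le_left x = c from Subtype.ext hcx.symm]
  let incl : Spor.Co2 →* Co0 := Subgroup.inclusion inf_le_left
  let θ : Spor.Co2 →* (Subgroup.centralizer ({z} : Set G)) ⧸ Q := (phi e).comp incl
  have hfix : ∀ g : Spor.Co2, incl g • Spor.leechU = Spor.leechU := fun g => g.2.2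
  have hθinj : Function.Injective θ := by
    rw [← MonoidHom.ker_eq_bot_iff, eq_bot_iff]
    intro g hg
    have h1 : incl g ∈ (phi e).ker := hg
    rw [ker_phi] at h1
    rcases center_eq h1 with h2 | h2
    · exact Subgroup.mem_bot.mpr (Subgroup.inclusion_injective _ (h2.trans (map_one incl).symm))
    · exact absurd ((hfix g).symm.trans (by rw [h2, negAut_smul]))
        (ne_neg (by rw [hnU]; norm_num))
  have hθiso : ∀ (g : Spor.Co2) (k : K), θ g = ρ k →
      (QuotientGroup.mk (incl g) : Spor.Co1) = e (QuotientGroup.mk (Subgroup.inclusion inf_le_left k)) := by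
    intro g k h
    show _ = e (ρ k)
    rw [← h]; exact (e.apply_symm_apply _).symm
  have hrange : ρ.range = θ.range := by
    apply le_antisymm
    · rintro _ ⟨k, rfl⟩
      obtain ⟨g, hg⟩ := phi_surjective e (ρ k)
      have hgc : g ∈ classStab Spor.leechU := by
        rw [← S.comap_X hu ⟨htc ▸ ht1, htc ▸ htnz⟩, Subgroup.mem_comap, hg]
        exact ⟨Subgroup.inclusion inf_le_left k, ⟨k.2.1, by rw [htc]; exact k.2.2⟩, rfl⟩
      rcases smul_eq_or_neg (by rw [hnU]; norm_num) hgc with h1 | h1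
      · exact ⟨⟨g.1, g.2, h1⟩, hg⟩
      · have h2 : (negAut * g) • Spor.leechU = Spor.leechU := by
          rw [mul_smul, h1, negAut_smul, neg_neg]
        refine ⟨⟨(negAut * g).1, (negAut * g).2, h2⟩, ?_⟩
        show phi e (negAut * g) = _
        rw [map_mul, show phi e negAut = 1 from by
          rw [← MonoidHom.mem_ker, ker_phi]; exact negAut_mem_center, one_mul, hg]
    · rintro _ ⟨g, rfl⟩
      obtain ⟨h, hh, hs⟩ := S.exists_conj (v := Spor.leechU) (g := incl g) hu
        (by rw [hfix]; exact hu) ⟨htc ▸ ht1, htc ▸ htnz⟩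
      refine ⟨⟨h, h.2, Subgroup.mem_centralizer_singleton_iff.mpr ?_⟩, hh⟩
      rw [htc] at hs
      exact mul_inv_eq_iff_eq_mul.mp hs
  let f2 : K →* D ⧸ Q' := (QuotientGroup.mk' Q').comp f
  have hf2s : Function.Surjective f2 := (QuotientGroup.mk'_surjective Q').comp hfsurj
  have hf2k : f2.ker = ρ.ker := by
    rw [← MonoidHom.comap_ker, QuotientGroup.ker_mk', hcomap, hρk]
  let e' : D ⧸ Q' ≃* Spor.Co2 :=
    (((QuotientGroup.quotientKerEquivOfSurjective f2 hf2s).symm.trans
      (QuotientGroup.quotientMulEquivOfEq hf2k)).trans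
      (QuotientGroup.quotientKerEquivRange ρ)).trans
      ((MulEquiv.subgroupCongr hrange).trans (MonoidHom.ofInjective hθinj).symm)
  have he' : ∀ k : K, θ (e' (f2 k)) = ρ k := by
    intro k
    have h1 : (QuotientGroup.quotientKerEquivOfSurjective f2 hf2s).symm (f2 k) = QuotientGroup.mk k := by
      rw [MulEquiv.symm_apply_eq]; rfl
    simp only [e', MulEquiv.trans_apply, h1]
    rw [MonoidHom.apply_ofInjective_symm]
    rfl
  -- perpendicular vectors
  have hperp : ∀ {w : leechLattice} {a : Q}, ψ w = QuotientGroup.mk a →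
      (w ∈ leechPerpU ↔ ((a : Subgroup.centralizer ({z} : Set G)) : G) * t =
        t * ((a : Subgroup.centralizer ({z} : Set G)) : G)) := by
    intro w a ha
    rw [← htc]
    exact (S.comm_iff ha hu).symm.trans
      ⟨fun h => congrArg (fun q : Q => ((q : Subgroup.centralizer ({z} : Set G)) : G)) h,
        fun h => Subtype.ext (Subtype.ext h)⟩
  -- centralizer of `Q'`
  have hCQ : Subgroup.centralizer (Q' : Set D) ≤ Q' := by
    intro d hd
    obtain ⟨k, rfl⟩ := hfsurj d
    refine ⟨k, ?_, rfl⟩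
    rw [← hρk, SetLike.mem_coe, MonoidHom.mem_ker, ← he' k]
    have hg1 : incl (e' (f2 k)) = 1 := by
      refine LeechCo2.eq_one_of_perp (by rw [← leechU_eq]; exact hfix _) fun w hw => ?_
      obtain ⟨b, hb⟩ := QuotientGroup.mk_surjective (ψ w)
      have hbt := (hperp hb.symm).mp (show w ∈ leechPerpU by rw [← leechU_eq] at hw; exact hw)
      let bK : K := ⟨(b : Subgroup.centralizer ({z} : Set G)), (b : Subgroup.centralizer ({z} : Set G)).2,
        Subgroup.mem_centralizer_singleton_iff.mpr hbt⟩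
      have hc : f (bK * k) = f (k * bK) := by
        rw [map_mul, map_mul]
        exact Subgroup.mem_centralizer_iff.mp hd _ ⟨bK, S.coe_mem b, rfl⟩
      rw [hfeq] at hc
      have hg := S.iso.2.2.2 (Subgroup.inclusion inf_le_left k) (incl (e' (f2 k)))
        (hθiso _ k (he' k)) w b hb.symm
      have hbT : ((b : Subgroup.centralizer ({z} : Set G)) : G) * t =
          t * ((b : Subgroup.centralizer ({z} : Set G)) : G) := hbt
      rcases hc with hc | hc <;> simp only [Subgroup.coe_mul] at hc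
      · refine Or.inl (S.psi_eq.mp ?_)
        rw [hg, ← hb, S.mk_eq]
        exact Or.inl (mul_inv_eq_iff_eq_mul.mpr hc)
      · refine Or.inr (S.psi_eq.mp ?_)
        rw [hg, S.iso.1, ← leechU_eq, hu, ← hb, ← QuotientGroup.mk_mul, S.mk_eq]
        refine Or.inl (mul_inv_eq_iff_eq_mul.mpr ?_)
        show (k : G) * ((b : Subgroup.centralizer ({z} : Set G)) : G) = _
        rw [hc]
        show ((b : Subgroup.centralizer ({z} : Set G)) : G) * k * t = _ * ((tQ : _) : G) * k
        rw [htc, mul_assoc, mul_assoc, Subgroup.mem_centralizer_singleton_iff.mp k.2.2]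
    show (phi e) (incl (e' (f2 k))) = 1
    rw [hg1, map_one]
  -- the 2-core
  have hp : IsPGroup 2 Q' :=
    (S.lh.toExt.isPGroup.comap_of_injective K.subtype Subtype.coe_injective).map f
  have hO2 : pCore 2 D = Q' := by
    refine le_antisymm ?_ (HallCore.le_pCore hp)
    intro d hd
    set h2 : D →* Spor.Co2 := e'.toMonoidHom.comp (QuotientGroup.mk' Q') with hh2
    have hh2s : Function.Surjective h2 := e'.surjective.comp (QuotientGroup.mk'_surjective _)
    haveI : ((pCore 2 D).map h2).Normal := (inferInstance : (pCore 2 D).Normal).map h2 hh2s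
    have hbot := LeechCo2.stab_small (A := ((pCore 2 D).map h2).map incl)
      (((HallCore.isPGroup_pCore 2 D).map h2).map incl) (by
        rintro _ ⟨g, -, rfl⟩
        rw [MulAction.mem_stabilizer_iff, ← leechU_eq]
        exact hfix g) (by
        rintro g hg _ ⟨a, ha, rfl⟩
        let g' : Spor.Co2 := ⟨g.1, g.2, by
          rw [MulAction.mem_stabilizer_iff, ← leechU_eq] at hg
          exact hg⟩
        exact ⟨g' * a * g'⁻¹, (inferInstance : ((pCore 2 D).map h2).Normal).conj_mem a ha g', by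
          rw [map_mul, map_mul, map_inv]; rfl⟩)
    have h3 : incl (h2 d) ∈ ((pCore 2 D).map h2).map incl := ⟨_, ⟨d, hd, rfl⟩, rfl⟩
    rw [hbot, Subgroup.mem_bot] at h3
    have h4 : h2 d = 1 := Subgroup.inclusion_injective _ (h3.trans (map_one incl).symm)
    exact (QuotientGroup.eq_one_iff d).mp (e'.map_eq_one_iff.mp h4)
  have hF : generalizedFittingSubgroup D = Q' := by
    rw [CharTwoLocal.gen_eq_of_charTwo (show IsOfCharacteristicTwo D from by
      show Subgroup.centralizer (pCore 2 D : Set D) ≤ pCore 2 D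
      rw [hO2]; exact hCQ), hO2]
  -- extraspecial
  let zK : K := ⟨z, hzK⟩
  let tK : K := ⟨t, hQC t htQ, Subgroup.mem_centralizer_singleton_iff.mpr rfl⟩
  have hft : f tK = 1 := by
    rw [← map_one f, hfeq]; exact Or.inr htt.symm
  have hext : Ext Q' (f zK) := by
    refine ⟨⟨zK, S.lh.mem, rfl⟩, ?_, ?_, ?_, ?_, ?_, ?_⟩
    · intro h
      rw [← map_one f, hfeq] at h
      rcases h with h | h
      · exact S.lh.ne_one (by simpa [zK] using h.symm)
      · simp only [Subgroup.coe_one, zK] at h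
        exact htnz (by
          calc t = 1 * t := (one_mul t).symm
            _ = z * t * t := by rw [← h]
            _ = z := by rw [mul_assoc, htt, mul_one])
    · rw [← map_mul, show zK * zK = 1 from Subtype.ext S.lh.zz, map_one]
    · rintro _ ⟨q, hq, rfl⟩
      rw [← map_mul, ← map_mul]
      exact congrArg f (Subtype.ext (S.lh.comm (q : G) hq))
    · rintro _ ⟨q, hq, rfl⟩
      rw [← map_mul, ← map_one f]
      exact (S.lh.sq (q : G) hq).imp (fun h => congrArg f (Subtype.ext h))
        fun h => congrArg f (Subtype.ext h)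
    · rintro _ ⟨q, hq, rfl⟩ _ ⟨r, hr, rfl⟩
      rw [← map_inv, ← map_mul, ← map_mul, ← map_mul]
      exact (S.lh.conj (q : G) hq (r : G) hr).imp (fun h => congrArg f (Subtype.ext h))
        fun h => congrArg f (Subtype.ext h)
    · rintro _ ⟨q, hq, rfl⟩ h1 h2
      by_contra hno
      push Not at hno
      have hc : ∀ s ∈ Qg, s * t = t * s → s * (q : G) = (q : G) * s := by
        intro s hs hst
        by_contra hne
        refine hno (f ⟨s, hQC s hs, Subgroup.mem_centralizer_singleton_iff.mpr hst⟩) ⟨_, hs, rfl⟩ ?_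
        rw [← map_inv, ← map_mul, ← map_mul, ← map_mul]
        exact congrArg f (Subtype.ext ((S.lh.toExt.not_comm_iff hq hs).mp hne))
      rcases S.lh.toExt.double_centralizer htQ hq hc with h | h | h | h
      · exact h1 (by rw [show q = 1 from Subtype.ext h, map_one])
      · exact h2 (by rw [show q = zK from Subtype.ext h])
      · exact h1 (by rw [show q = tK from Subtype.ext (h.trans hti), hft])
      · refine h2 ?_
        rw [show q = zK * tK from Subtype.ext (h.trans (by rw [hti]; rfl)), map_mul, hft, mul_one]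
  obtain ⟨a, ha⟩ := QuotientGroup.mk_surjective (ψ (frame none))
  have hat := (hperp ha.symm).mp (show (16 : ℤ) ∣ dotInt (frame none : GolayPt → ℤ) Spor.vecU by
    decide +kernel)
  let aK : K := ⟨(a : Subgroup.centralizer ({z} : Set G)), (a : Subgroup.centralizer ({z} : Set G)).2,
    Subgroup.mem_centralizer_singleton_iff.mpr hat⟩
  obtain ⟨hac, hanz⟩ := S.conj_of_64 (sqNorm_frame none) ha.symm
  have ha1 := (S.ne_central (by rw [sqNorm_frame]; norm_num) (sqNorm_frame none).le ha.symm).1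
  have hEQ : IsExtraspecial 2 Q' := by
    refine hext.isExtraspecial (x := f aK) ⟨aK, S.coe_mem a, rfl⟩ ?_ ?_
    · intro h
      rw [← map_one f, hfeq] at h
      simp only [Subgroup.coe_one, aK] at h
      rcases h with h | h
      · exact ha1 h.symm
      · exact htz (by rwa [show t = ((a : Subgroup.centralizer ({z} : Set G)) : G) from by
          calc t = 1 * t := (one_mul t).symm
            _ = ((a : Subgroup.centralizer ({z} : Set G)) : G) * t * t := by rw [← h]
            _ = _ := by rw [mul_assoc, htt, mul_one]])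
    · intro h
      rw [hfeq] at h
      simp only [aK, zK] at h
      rcases h with h | h
      · exact hanz h.symm
      · obtain ⟨q, hq, eq⟩ := S.lh.partner t htQ ht1 htnz
        refine htz (hac.trans (isConj_iff.mpr ⟨q⁻¹, ?_⟩))
        have haz : ((a : Subgroup.centralizer ({z} : Set G)) : G) = z * t := by
          calc ((a : Subgroup.centralizer ({z} : Set G)) : G)
              = ((a : Subgroup.centralizer ({z} : Set G)) : G) * t * t := by rw [mul_assoc, htt, mul_one]
            _ = z * t := by rw [← h]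
        rw [haz, ← eq]; group
  -- the order
  have h24 : Nat.card S₀ = 2 ^ 24 := by
    obtain ⟨q, hq, eq⟩ := S.lh.partner t htQ ht1 htnz
    have h1 := LeechStab.card_pm (H := Qg) (K := Qg ⊓ T) inf_le_left (t := q⁻¹) (Qg.inv_mem hq)
      (fun hq' => (S.lh.toExt.not_comm_iff htQ hq).mpr eq (Subgroup.mem_centralizer_singleton_iff.mp
        (show q ∈ T from inv_mem_iff.mp hq'.2))) fun y hy => by
      by_cases hyt : y * t = t * y
      · exact Or.inl ⟨hy, Subgroup.mem_centralizer_singleton_iff.mpr hyt⟩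
      · refine Or.inr ⟨Qg.mul_mem (Qg.inv_mem (Qg.inv_mem hq)) hy,
          Subgroup.mem_centralizer_singleton_iff.mpr ?_⟩
        rw [inv_inv]
        exact mul_inv_eq_iff_eq_mul.mp (S.lh.toExt.mul_fix hq eq ((S.lh.toExt.not_comm_iff htQ hy).mp hyt))
    have h2 : Qg ⊓ K = Qg ⊓ T := le_antisymm (fun x hx => ⟨hx.1, hx.2.2⟩)
      fun x hx => ⟨hx.1, hQC x hx.1, hx.2⟩
    rw [S.card] at h1
    rw [hS₀, ← Subgroup.inf_subgroupOf_right,
      Nat.card_congr (Subgroup.subgroupOfEquivOfLe inf_le_right).toEquiv, h2]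
    omega
  have hQ'card : Nat.card Q' = 2 ^ (2 * 11 + 1) := by
    set g := f.comp S₀.subtype with hg
    have hr : g.range = Q' := by rw [hg, MonoidHom.range_comp, Subgroup.range_subtype]
    have hk : (g.ker.map S₀.subtype).map K.subtype = Subgroup.zpowers t := by
      ext x
      constructor
      · rintro ⟨_, ⟨y, hy, rfl⟩, rfl⟩
        have hy' : f (S₀.subtype y) = f 1 := hy.trans (map_one f).symm
        rw [hfeq] at hy'
        rw [SingularOrtho.mem_zp htt]
        simp only [Subgroup.coe_one] at hy'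
        rcases hy' with h | h
        · exact Or.inl h.symm
        · refine Or.inr ?_
          show (((y : S₀) : K) : G) = t
          rw [← mul_one (((y : S₀) : K) : G), ← htt, ← mul_assoc]
          exact (congrArg (· * t) h.symm).trans (one_mul t)
      · intro hx
        rcases (SingularOrtho.mem_zp htt).mp hx with rfl | rfl
        · exact one_mem _
        · exact ⟨tK, ⟨⟨tK, htQ⟩, hft, rfl⟩, rfl⟩
    have h2 : Nat.card g.ker = 2 := by
      rw [Nat.card_congr (Subgroup.equivMapOfInjective g.ker _ S₀.subtype_injective).toEquiv,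
        Nat.card_congr (Subgroup.equivMapOfInjective _ _ K.subtype_injective).toEquiv, hk,
        Nat.card_zpowers]
      exact orderOf_eq_prime (by rw [pow_two, htt]) ht1
    have h3 := Subgroup.card_eq_card_quotient_mul_card_subgroup g.ker
    rw [Nat.card_congr (QuotientGroup.quotientKerEquivRange g).toEquiv, hr, h2, h24] at h3
    omega
  -- `z` is not weakly closed
  obtain ⟨m, hmt, hmQ, hmz, hmzt⟩ := S.exists_move hu (htc.symm ▸ htz)
  rw [htc] at hmt hmzt
  let mT : T := ⟨m, Subgroup.mem_centralizer_singleton_iff.mpr hmt⟩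
  let mK : K := ⟨m * z * m⁻¹, hQC _ hmQ,
    T.mul_mem (T.mul_mem mT.2 hzK.2) (T.inv_mem mT.2)⟩
  have hmb : (f mK : T ⧸ (Subgroup.zpowers t).subgroupOf T) = π mT * zb * (π mT)⁻¹ := by
    rw [hzb, ← map_inv, ← map_mul, ← map_mul]; rfl
  -- the identification
  have lift_unique : ∀ {w w' : leechLattice} {a a' : Q} {k k' : K}, ψ w = QuotientGroup.mk a →
      ψ w' = QuotientGroup.mk a' → (k : G) = (a : Subgroup.centralizer ({z} : Set G)) →
      (k' : G) = (a' : Subgroup.centralizer ({z} : Set G)) → ψ w = ψ w' →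
      f k = f k' ∨ f k = f zK * f k' := by
    intro w w' a a' k k' h1 h2 hk hk' he
    rw [h1, h2, S.mk_eq, ← hk, ← hk'] at he
    exact he.imp (fun h => congrArg f (Subtype.ext h)) fun h => by
      rw [← map_mul]; exact congrArg f (Subtype.ext h)
  have hmk : ∀ q q' : Q', (QuotientGroup.mk q : Q' ⧸ Subgroup.center Q') = QuotientGroup.mk q' ↔
      (q : D) = q' ∨ (q : D) = f zK * q' := by
    intro q q'
    have hzc : (⟨f zK, hext.mem⟩ : Q') ∈ Subgroup.center Q' :=
      Subgroup.mem_center_iff.mpr fun y => Subtype.ext (hext.comm y y.2)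
    constructor
    · intro h
      rw [eq_comm, QuotientGroup.eq] at h
      rcases hext.central (q'⁻¹ * q).2
          (fun y hy => congrArg Subtype.val (Subgroup.mem_center_iff.mp h ⟨y, hy⟩)) with h1 | h1
      · exact Or.inl (inv_mul_eq_one.mp h1).symm
      · refine Or.inr ?_
        rw [← hext.comm _ q'.2]
        exact inv_mul_eq_iff_eq_mul.mp h1
    · rintro (h | h)
      · rw [Subtype.ext h]
      · rw [show q = ⟨f zK, hext.mem⟩ * q' from Subtype.ext h, QuotientGroup.mk_mul,
          (QuotientGroup.eq_one_iff _).mpr hzc, one_mul]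
  have hlift : ∀ x : leechPerpU, ∃ (a : Q) (k : K),
      ψ (x : leechLattice) = QuotientGroup.mk a ∧ (k : G) = (a : Subgroup.centralizer ({z} : Set G)) := by
    intro x
    obtain ⟨a, ha⟩ := QuotientGroup.mk_surjective (ψ (x : leechLattice))
    exact ⟨a, ⟨(a : Subgroup.centralizer ({z} : Set G)), (a : Subgroup.centralizer ({z} : Set G)).2,
      Subgroup.mem_centralizer_singleton_iff.mpr ((hperp ha.symm).mp x.2)⟩, ha.symm, rfl⟩
  choose la lk hla hlk using hlift
  have hkQ : ∀ {k : K} {a : Q}, (k : G) = (a : Subgroup.centralizer ({z} : Set G)) → f k ∈ Q' :=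
    fun {k a} h => ⟨k, show (k : G) ∈ Qg by rw [h]; exact S.coe_mem a, rfl⟩
  let ψ' : leechPerpU → Q' ⧸ Subgroup.center Q' := fun x => QuotientGroup.mk ⟨f (lk x), hkQ (hlk x)⟩
  have key : ∀ (x : leechPerpU) {a : Q} {k : K} (hk : (k : G) = (a : Subgroup.centralizer ({z} : Set G))),
      ψ (x : leechLattice) = QuotientGroup.mk a → ψ' x = QuotientGroup.mk ⟨f k, hkQ hk⟩ :=
    fun x a k hk ha => (hmk _ _).mpr (lift_unique (hla x) ha (hlk x) hk rfl)
  refine ⟨zb, Q', hQ'n, ⟨?_, hF, hEQ, hQ'card, π mT, ⟨hmb ▸ (f mK).2, ?_⟩, ?_⟩, e', ψ', ?_, ?_, ?_, ?_⟩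
  · refine orderOf_eq_prime ?_ fun h => hext.ne_one (Subtype.ext h)
    have h := congrArg Subtype.val hext.zz
    rw [pow_two]; exact h
  · have h : f mK ∈ Q' := ⟨mK, hmQ, rfl⟩
    convert h using 1
    exact Subtype.ext hmb.symm
  · rw [← hmb]
    intro h
    have h' : f mK = f zK := Subtype.ext h
    rw [hfeq] at h'
    rcases h' with h1 | h1
    · exact hmz h1.symm
    · refine hmzt ?_
      calc m * z * m⁻¹ = m * z * m⁻¹ * t * t := by rw [mul_assoc _ t t, htt, mul_one]
        _ = z * t := by rw [← show z = m * z * m⁻¹ * t from h1]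
  · intro x y
    rw [key (x + y) (a := la x * la y) (k := lk x * lk y)
      (by rw [Subgroup.coe_mul, hlk, hlk]; rfl) (by rw [AddSubgroup.coe_add, S.iso.1, hla, hla]; rfl)]
    show _ = QuotientGroup.mk _ * QuotientGroup.mk _
    rw [← QuotientGroup.mk_mul]
    exact congrArg QuotientGroup.mk (Subtype.ext (map_mul f _ _))
  · intro q
    obtain ⟨⟨_, k, hk, rfl⟩, rfl⟩ := QuotientGroup.mk_surjective q
    obtain ⟨c, hc, hck⟩ : (k : G) ∈ Qg := hk
    obtain ⟨w, hw⟩ := S.iso.2.1 (QuotientGroup.mk (⟨c, hc⟩ : Q))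
    have hct : (c : G) * t = t * c := by
      have : (c : G) = k := hck
      rw [this]; exact Subgroup.mem_centralizer_singleton_iff.mp k.2.2
    exact ⟨⟨w, (hperp hw).mpr hct⟩, key _ (a := ⟨c, hc⟩) hck.symm hw⟩
  · intro x
    have h1 : ψ' x = 1 ↔ f (lk x) = 1 ∨ f (lk x) = f zK := by
      show QuotientGroup.mk _ = _ ↔ _
      rw [← QuotientGroup.mk_one, hmk]
      simp
    have hp0 : (0 : leechLattice) ∈ leechPerpU := leechPerpU.zero_mem
    have hpu : Spor.leechU ∈ leechPerpU := (hperp hu).mpr (by rw [htc])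
    have e0 : ψ' ⟨0, hp0⟩ = 1 := by
      rw [key ⟨0, hp0⟩ (a := 1) (k := 1) rfl S.psi_zero, ← QuotientGroup.mk_one]
      exact congrArg QuotientGroup.mk (Subtype.ext (map_one f))
    have eu : ψ' ⟨Spor.leechU, hpu⟩ = 1 := by
      rw [key ⟨Spor.leechU, hpu⟩ (a := tQ) (k := tK) htc.symm hu, ← QuotientGroup.mk_one]
      exact congrArg QuotientGroup.mk (Subtype.ext hft)
    constructor
    · intro hx
      have h2 : (((lk x : K) : G) = 1 ∨ ((lk x : K) : G) = t) ∨
          (((lk x : K) : G) = z ∨ ((lk x : K) : G) = z * t) := by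
        rcases h1.mp hx with h | h
        · refine Or.inl ?_
          rw [← map_one f, eq_comm, hfeq] at h
          simpa using h
        · refine Or.inr ?_
          rw [eq_comm, hfeq] at h
          exact h
      have hcase : ψ (x : leechLattice) = ψ 0 ∨ ψ (x : leechLattice) = ψ Spor.leechU := by
        rw [hla x, S.psi_zero, hu]
        simp only [S.mk_eq, ← hlk x, htc, Subgroup.coe_one, mul_one]
        rcases h2 with (h | h) | (h | h)
        exacts [Or.inl (Or.inl h), Or.inr (Or.inl h), Or.inl (Or.inr h), Or.inr (Or.inr h)]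
      rcases hcase with h | h
      · left
        obtain ⟨u, hu', e1⟩ := mem_twiceLeech.mp (S.psi_eq.mp h)
        exact ⟨⟨u, hu'⟩, Subtype.ext (by
          rw [AddSubgroup.coe_zero, sub_zero] at e1
          rw [e1, AddSubgroup.coe_add, two_nsmul])⟩
      · right
        obtain ⟨u, hu', e1⟩ := mem_twiceLeech.mp (S.psi_eq.mp h)
        exact ⟨⟨u, hu'⟩, Subtype.ext (by
          rw [AddSubgroup.coe_add, AddSubgroup.coe_add, ← two_nsmul, ← e1, add_sub_cancel])⟩
    · intro h
      have hcase : ψ (x : leechLattice) = ψ 0 ∨ ψ (x : leechLattice) = ψ Spor.leechU := by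
        rcases h with ⟨w, hw⟩ | ⟨w, hw⟩
        · left
          rw [S.psi_zero]
          exact (S.iso.2.2.1 _).mpr ⟨w, hw⟩
        · right
          rw [hw, S.iso.1, (S.iso.2.2.1 (w + w)).mpr ⟨w, rfl⟩, mul_one]
      rcases hcase with h | h
      · rw [key x (a := 1) (k := 1) rfl (h.trans S.psi_zero), ← key ⟨0, hp0⟩ (a := 1) (k := 1) rfl S.psi_zero]
        exact e0
      · rw [key x (a := tQ) (k := tK) htc.symm (h.trans hu),
          ← key ⟨Spor.leechU, hpu⟩ (a := tQ) (k := tK) htc.symm hu]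
        exact eu
  · intro d g hdg x y hxy q hq
    obtain ⟨k, rfl⟩ := hfsurj d
    obtain ⟨_, k₁, hk₁, rfl⟩ := q
    obtain ⟨c, hc, hck⟩ : (k₁ : G) ∈ Qg := hk₁
    have hg : θ g = ρ k := by rw [← hdg]; exact he' k
    obtain ⟨j, hj⟩ : ∃ a : Q, ψ (x : leechLattice) = QuotientGroup.mk a := ⟨_, hla x⟩
    have hxq : ψ' x = QuotientGroup.mk ⟨f k₁, ⟨k₁, by show (k₁ : G) ∈ Qg; exact hck ▸ ⟨c, hc, rfl⟩, rfl⟩⟩ := hq
    -- conjugate the chosen lift
    have himg := S.iso.2.2.2 (Subgroup.inclusion inf_le_left k) (incl g) (hθiso g k hg) x (la x) (hla x)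
    have hy : incl g • (x : leechLattice) = (y : leechLattice) := hxy
    rw [hy] at himg
    rw [key y (k := k * lk x * k⁻¹)
      (by simp only [Subgroup.coe_mul, Subgroup.coe_inv, hlk x]; rfl) himg, hmk]
    rcases (hmk _ _).mp hxq with h | h
    · left
      show f (k * lk x * k⁻¹) = f k * f k₁ * (f k)⁻¹
      rw [map_mul, map_mul, map_inv]
      exact congrArg (fun w => f k * w * (f k)⁻¹) h
    · right
      show f (k * lk x * k⁻¹) = f zK * (f k * f k₁ * (f k)⁻¹)
      have hcomm : f k * f zK = f zK * f k := by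
        rw [← map_mul, ← map_mul]
        exact congrArg f (Subtype.ext (Subgroup.mem_centralizer_singleton_iff.mp k.2.1))
      rw [map_mul, map_mul, map_inv, show f (lk x) = f zK * f k₁ from h, ← mul_assoc (f k), hcomm]
      group

end Setup

end Cfsg.Agent.MonsterLocal
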