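import Cfsg.Agent.Lib.MonsterFischer17Setup
import Cfsg.Agent.Lib.Fi24Apply65
import Cfsg.Agent.Lib.Fi24Derived17
import Cfsg.Prelude.Def_Spor_Fi24

/-!
The normalizer of a 3-central subgroup of order 3 in a group of Monster type, given the centralizers of
noncentral involutions in groups of large Fischer type and the class of the presented Fi24.
-/

set_option autoImplicit false
set_option linter.style.haveILetI false

namespace Cfsg.Agent.MonsterFischer17

open Cfsg

universe u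

theorem class_m24 {X : Type u} [Group X] [Finite X] (G₀ : Subgroup X) (hidx : G₀.index = 2) (z : ↥G₀)
    (Q : Subgroup (Subgroup.centralizer ({z} : Set ↥G₀))) [Q.Normal] (hF : Cfsg.IsOfLargeFischerTypeAt z Q)
    (hFX : (Cfsg.generalizedFittingSubgroup ↥(Subgroup.centralizer ({(z : X)} : Set X))).map (Subgroup.subtype _) =
      ((Q.map (Subgroup.subtype _)).map G₀.subtype))
    (h50 : LargeFischerIndexTwo28Main.Aut22 ↥G₀) :
    ∃ E : Set X, Cfsg.IsThreeTranspositionClass E ∧ Cfsg.IsPrimitiveUnderConj E ∧ Cfsg.IsOfTypeM24 X E := by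
  obtain ⟨d, hd2, hd0, -, ⟨t, htY⟩, ht2, hq, ⟨hn, ⟨E, hEc, hE22⟩, -⟩, hnwc, hcls, h23, hswap, hperm, hcent⟩ :=
    LargeFischerIndexTwo28Main.main_data G₀ hidx z Q hF hFX h50
  haveI := hn
  have hprim := Fi23Iso95.primitive (Fi23Setup94.full_of_quotient ht2 hq hEc hE22 hnwc)
  have hgrp : Cfsg.IsThreeTranspositionGroup
      (conjugatesOf (⟨t, htY⟩ : ↥(G₀ ⊓ Subgroup.centralizer ({d} : Set X)))) :=
    ⟨hcls.1, fun g x hx => IsConj.trans hx (isConj_iff.mpr ⟨g, rfl⟩), hcls.2.2⟩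
  have S : Fi24Base65.Set24 G₀ d t :=
    { index2 := hidx
      dnot := hd0
      dsq := by rw [← pow_two, ← hd2, pow_orderOf_eq_one]
      tY := htY
      ctx := ThreeTransM23Cent59.ctx_all hgrp hprim h23
      swap := hswap
      perm := hperm
      cent := hcent }
  obtain ⟨dd, hdd⟩ := ThreeTransFi23Triality74.exists_data74
  have h3t := S.threeTranspositionSet hdd
  have hgen := S.closure_top
  refine ⟨conjugatesOf d, ⟨h3t, ⟨d, IsConj.refl d, rfl⟩, hgen⟩, S.primitive hdd, ?_⟩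
  obtain ⟨q23, h3, h2⟩ := S.local_data
  exact FischerM24Step94.isOfTypeM24_of_cores
    (ThreeTransRel.tsys_of_group ⟨h3t, fun g x hx => S.D_conj hx g, hgen⟩) (S.primitive hdd) (IsConj.refl d) h3t q23
    S.center_bot h3 h2

theorem normalizer_main {G : Type u} [Group G] [Finite G] (z : G) (Q : Subgroup (Subgroup.centralizer ({z} : Set G))) [Q.Normal] (hM : Cfsg.IsOfMonsterType z Q) (s : G) (hsQ : ∃ hsc : s ∈ Subgroup.centralizer ({z} : Set G), (⟨s, hsc⟩ : Subgroup.centralizer ({z} : Set G)) ∈ Q) (hs : IsConj z s) (hs1 : s ≠ z) (Y : Subgroup G) (hY : Y ≤ Subgroup.centralizer ({z, s} : Set G)) (hY3 : Nat.card Y = 3) (hc : ∃ P : Sylow 3 ↥(Subgroup.centralizer ({z, s} : Set G)), Y.subgroupOf (Subgroup.centralizer ({z, s} : Set G)) ≤ (Subgroup.center ↥(P : Subgroup ↥(Subgroup.centralizer ({z, s} : Set G)))).map (P : Subgroup ↥(Subgroup.centralizer ({z, s} : Set G))).subtype) [hn : (Y.subgroupOf (Subgroup.centralizer (Y : Set G))).Normal] [hn'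 : (Y.subgroupOf (Subgroup.normalizer (Y : Set G))).Normal]
    (h50 : ∀ (H : Type u) [Group H] [Finite H], LargeFischerIndexTwo28Main.Aut22 H)
    (hfin : Finite Cfsg.Spor.Fi24) {F : Set Cfsg.Spor.Fi24} (hF1 : Cfsg.IsThreeTranspositionClass F)
    (hF2 : Cfsg.IsPrimitiveUnderConj F) (hF3 : Cfsg.IsOfTypeM24 Cfsg.Spor.Fi24 F) :
    Cfsg.IsQuasisimple ↥(Subgroup.centralizer (Y : Set G)) ∧ Cfsg.Spor.IsoFi24' (↥(Subgroup.centralizer (Y : Set G)) ⧸ Y.subgroupOf (Subgroup.centralizer (Y : Set G))) ∧ ∃ E : Set (↥(Subgroup.normalizer (Y : Set G)) ⧸ Y.subgroupOf (Subgroup.normalizer (Y : Set G))), Cfsg.IsThreeTranspositionClass E ∧ Cfsg.IsOfTypeM24 _ E := by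
  haveI := hfin
  obtain ⟨e, ψ, a, y, m, S, hy, hy3, hya, haz, hmy, hmQ, hmz, hYy⟩ :=
    exists_data z Q hM s hsQ hs hs1 Y hY hY3 hc
  obtain ⟨G₀, z₀, Q₀, hQ₀, hidx, hL, hFX, ⟨ι⟩⟩ := outer S hy hy3 hya haz hmy hmQ hmz hYy
  haveI := hQ₀
  obtain ⟨E, hE1, hE2, hE3⟩ := class_m24 G₀ hidx z₀ Q₀ hL hFX (h50 ↥G₀)
  have hcomm := Fi24Derived17.eq_commutator hE1 hidx
  have hG₀ : IsSimpleGroup ↥G₀ := hcomm.symm ▸ Fi24Derived17.simple hE1 hE2 hE3
  obtain ⟨i⟩ := Fi24Derived17.iso_commutator hE1 hE2 hE3 hF1 hF2 hF3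
  refine ⟨?_, ⟨(ι.trans (MulEquiv.subgroupCongr hcomm)).trans i⟩, E, hE1, hE3⟩
  set T₀ := Subgroup.centralizer (Y : Set G)
  set K := Y.subgroupOf T₀
  haveI hsimple : IsSimpleGroup (↥T₀ ⧸ K) := by
    haveI : Nontrivial (↥T₀ ⧸ K) := ι.toEquiv.nontrivial
    exact IsSimpleGroup.isSimpleGroup_of_surjective ι.symm.toMonoidHom ι.symm.surjective
  have hna : ¬ ∀ u v : ↥G₀, u * v = v * u := by
    intro h
    letI : CommGroup ↥G₀ := { (inferInstance : Group ↥G₀) with mul_comm := h }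
    haveI : IsSimpleGroup ↥G₀ := hG₀
    have hp := IsSimpleGroup.prime_card (α := ↥G₀)
    have h13 : 2 ^ 13 ∣ Nat.card ↥G₀ := by
      rw [show 2 ^ 13 = Nat.card Q₀ from hL.1.2.2.2.1.symm]
      exact (Subgroup.card_subgroup_dvd_card Q₀).trans (Subgroup.card_subgroup_dvd_card _)
    rcases (Nat.dvd_prime hp).mp h13 with h1 | h1
    · norm_num at h1
    · rw [← h1] at hp
      exact (by norm_num : ¬ Nat.Prime (2 ^ 13)) hp
  have hzbot : Subgroup.center (↥T₀ ⧸ K) = ⊥ :=
    (Subgroup.Normal.eq_bot_or_eq_top inferInstance).resolve_right fun h => hna fun u v => by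
      have := congrArg ι (Subgroup.mem_center_iff.mp (h ▸ Subgroup.mem_top (ι.symm v)) (ι.symm u))
      simpa using this
  have hKc : K ≤ Subgroup.center ↥T₀ := fun x hx => Subgroup.mem_center_iff.mpr fun g =>
    Subtype.ext (Subgroup.mem_centralizer_iff.mp g.2 (x : G) hx).symm
  have hcentre : Subgroup.center ↥T₀ = K := by
    refine le_antisymm (fun x hx => ?_) hKc
    have h1 : (QuotientGroup.mk x : ↥T₀ ⧸ K) ∈ Subgroup.center (↥T₀ ⧸ K) := by
      refine Subgroup.mem_center_iff.mpr fun g => ?_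
      obtain ⟨g, rfl⟩ := QuotientGroup.mk_surjective g
      rw [← QuotientGroup.mk_mul, ← QuotientGroup.mk_mul, Subgroup.mem_center_iff.mp hx g]
    rw [hzbot, Subgroup.mem_bot, QuotientGroup.eq_one_iff] at h1
    exact h1
  have hperf : commutator (↥T₀ ⧸ K) = ⊤ :=
    (Subgroup.Normal.eq_bot_or_eq_top (by infer_instance)).resolve_left fun h => hna fun u v => by
      have h1 := Subgroup.commutator_mem_commutator (Subgroup.mem_top (ι.symm u)) (Subgroup.mem_top (ι.symm v))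
      rw [← commutator_def, h, Subgroup.mem_bot, commutatorElement_eq_one_iff_mul_comm] at h1
      simpa using congrArg ι h1
  refine ⟨⟨?_⟩, ?_⟩
  · have hyT : (y : G) ∈ T₀ := by
      rw [Subgroup.mem_centralizer_iff, hYy]
      rintro _ ⟨k, rfl⟩
      exact ((Commute.refl (y : G)).zpow_left k).eq
    have hK : K ≤ commutator ↥T₀ := by
      intro x hx
      obtain ⟨k, hk⟩ := Subgroup.mem_zpowers_iff.mp (hYy ▸ (Subgroup.mem_subgroupOf.mp hx))
      rw [show x = (⟨y, hyT⟩ : ↥T₀) ^ k from Subtype.ext (hk.symm.trans (SubgroupClass.coe_zpow _ k).symm)]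
      exact zpow_mem (mem_commutator S hy hy3 hYy hyT) k
    have h1 : (commutator ↥T₀).map (QuotientGroup.mk' K) = ⊤ := by
      rw [commutator_def, Subgroup.map_commutator,
        Subgroup.map_top_of_surjective _ (QuotientGroup.mk'_surjective K), ← commutator_def, hperf]
    rw [← Subgroup.comap_map_eq_self (f := QuotientGroup.mk' K) (H := commutator ↥T₀)
      (by rw [QuotientGroup.ker_mk']; exact hK), h1, Subgroup.comap_top]
  · haveI : Nontrivial (↥T₀ ⧸ Subgroup.center ↥T₀) :=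
      (QuotientGroup.quotientMulEquivOfEq hcentre).toEquiv.nontrivial
    exact IsSimpleGroup.isSimpleGroup_of_surjective (QuotientGroup.quotientMulEquivOfEq hcentre.symm).toMonoidHom
      (QuotientGroup.quotientMulEquivOfEq hcentre.symm).surjective

end Cfsg.Agent.MonsterFischer17
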