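import Cfsg.Agent.S5450
import Cfsg.Agent.Lib.MonsterFischer17Normalizer

/-!
The centralizers of noncentral involutions feed the normalizer of the 3-central subgroup in a group of
Monster type.
-/

set_option autoImplicit false
set_option linter.style.haveILetI false

namespace Cfsg.Agent.MonsterFischer17

universe u

theorem aut22 (H : Type u) [Group H] [Finite H] : LargeFischerIndexTwo28Main.Aut22 H := by
  intro z Q _ hF t ht ht2 htz
  haveI hn : ((Subgroup.zpowers t).subgroupOf (Subgroup.centralizer ({t} : Set H))).Normal := by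
    refine ⟨fun n hn g => ?_⟩
    obtain ⟨k, hk⟩ := Subgroup.mem_zpowers_iff.1 (Subgroup.mem_subgroupOf.1 hn)
    have hc : Commute (g : H) (n : H) :=
      hk ▸ Commute.zpow_right (Subgroup.mem_centralizer_singleton_iff.mp g.2) k
    rw [Subgroup.mem_subgroupOf, Subgroup.coe_mul, Subgroup.coe_mul, Subgroup.coe_inv, hc.eq,
      mul_inv_cancel_right, ← hk]
    exact Subgroup.zpow_mem_zpowers t k
  obtain ⟨h1, h2, h3, h4⟩ := S5450.result z Q hF t ht ht2 htz _ rfl
  exact ⟨_, h1, h2, h3, fun {_} => h4⟩

end Cfsg.Agent.MonsterFischer17
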