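import Cfsg.Agent.Lib.MonsterBaby
import Cfsg.Agent.Lib.LeechFischer17Sylow

/-!
Groups of Monster type: an element of order 3 central in a Sylow 3-subgroup of the joint centralizer
of `z` and a conjugate `s` in `Q` lies over the permutation `u`.
-/

set_option autoImplicit false
set_option linter.style.haveILetI false

namespace Cfsg.Agent.MonsterFischer17

open Cfsg Cfsg.Agent.LargeExtraspecial Cfsg.Agent.LargeExtraspecialPair Cfsg.Agent.MonsterLocal
open Cfsg.Agent.LeechBasic Cfsg.Agent.LeechAut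
open Cfsg.Agent.LeechFischer17 (uC uC_pow uC_ne_one syl syl_le_mono card_syl uC_mem_syl center_syl)
open Cfsg.Agent.LeechStab (mono)

theorem card_mono : Nat.card mono = 4096 * 244823040 := by
  rw [← LeechMonomial.card_mapsStd]
  exact Nat.card_congr (Equiv.subtypeEquivRight fun g => LeechOrder.mem_stabilizer_stdL)

theorem not_three_dvd : ¬ 3 ∣ 8855 := by norm_num

theorem v_three (j : ℕ) : (2 ^ j * (3 ^ 3 * 8855)).factorization 3 = 3 := by
  rw [Nat.factorization_mul (by positivity) (by norm_num), Nat.factorization_mul (by norm_num) (by norm_num),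
    Nat.factorization_pow, Nat.factorization_pow, Finsupp.add_apply, Finsupp.add_apply, Finsupp.smul_apply,
    Finsupp.smul_apply, Nat.Prime.factorization_self Nat.prime_three,
    Nat.factorization_eq_zero_of_not_dvd (show ¬ 3 ∣ 2 by norm_num),
    Nat.factorization_eq_zero_of_not_dvd not_three_dvd]
  simp

theorem eq_pow_uC {g : Co0} (hg : g ∈ Subgroup.zpowers uC) : g = 1 ∨ g = uC ∨ g = uC⁻¹ := by
  classical
  haveI := LeechOrder.finite_Co0
  rw [mem_zpowers_iff_mem_range_orderOf, orderOf_eq_prime uC_pow uC_ne_one] at hg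
  simp only [Finset.mem_image, Finset.mem_range] at hg
  obtain ⟨k, hk, rfl⟩ := hg
  interval_cases k
  · exact Or.inl (pow_zero _)
  · exact Or.inr (Or.inl (pow_one _))
  · refine Or.inr (Or.inr (eq_inv_of_mul_eq_one_left ?_))
    rw [← pow_succ, uC_pow]

variable {G : Type*} [Group G] [Finite G] {z : G}
  {Q : Subgroup (Subgroup.centralizer ({z} : Set G))} [Q.Normal]
  {e : (Subgroup.centralizer ({z} : Set G)) ⧸ Q ≃* Spor.Co1}
  {ψ : leechLattice → Q ⧸ Subgroup.center Q}

/-- After an automorphism of the lattice, the given conjugate of `z` lies over the frame class. -/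
theorem exists_frame_setup (S : Setup Q e ψ) {a : Q}
    (hz : IsConj z ((a : Subgroup.centralizer ({z} : Set G)) : G))
    (hne : ((a : Subgroup.centralizer ({z} : Set G)) : G) ≠ z) :
    ∃ (e' : (Subgroup.centralizer ({z} : Set G)) ⧸ Q ≃* Spor.Co1) (ψ' : leechLattice → Q ⧸ Subgroup.center Q),
      Setup Q e' ψ' ∧ ψ' (frame none) = QuotientGroup.mk a := by
  obtain ⟨v, hv, hva⟩ := S.class64 hz hne
  obtain ⟨g, hg⟩ := LeechOrbit.exists_smul_eq (N := 64) (Or.inr (Or.inr rfl)) (v := v) (w := frame none)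
    (by exact_mod_cast hv) (by exact_mod_cast sqNorm_frame none)
  exact ⟨_, _, S.twist g, by show ψ (g⁻¹ • frame none) = _; rw [← hg, inv_smul_smul, hva]⟩

/-- A monomial automorphism keeps the class of the frame. -/
theorem twist_frame (S : Setup Q e ψ) {σ : Co0} (hσ : σ ∈ mono) :
    ψ (σ⁻¹ • frame none) = ψ (frame none) := by
  rw [S.psi_eq, ← LeechStab.mem_classStab, LeechStab.classStab_frame]
  exact inv_mem hσ

theorem ne_one_of_conj {a : Q} (hz : IsConj z ((a : Subgroup.centralizer ({z} : Set G)) : G))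
    (S : Setup Q e ψ) : ((a : Subgroup.centralizer ({z} : Set G)) : G) ≠ 1 := by
  obtain ⟨g, hg⟩ := isConj_iff.mp hz
  intro h
  exact S.lh.ne_one (conj_eq_one_iff.mp (hg.trans h))

variable {a : Q}

/-- The group `X` over the joint centralizer. -/
noncomputable def Xa (a : Q) : Subgroup ((Subgroup.centralizer ({z} : Set G)) ⧸ Q) :=
  ((Subgroup.centralizer ({z} : Set G) ⊓
    Subgroup.centralizer ({((a : Subgroup.centralizer ({z} : Set G)) : G)} : Set G)).subgroupOf
    (Subgroup.centralizer ({z} : Set G))).map (QuotientGroup.mk' Q)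

theorem comap_Xa (S : Setup Q e ψ) (ha : ψ (frame none) = QuotientGroup.mk a)
    (haz : ((a : Subgroup.centralizer ({z} : Set G)) : G) ≠ 1 ∧
      ((a : Subgroup.centralizer ({z} : Set G)) : G) ≠ z) : (Xa a).comap (phi e) = mono := by
  rw [Xa, S.comap_X ha haz, LeechStab.classStab_frame]

theorem card_Xa (S : Setup Q e ψ) (ha : ψ (frame none) = QuotientGroup.mk a)
    (haz : ((a : Subgroup.centralizer ({z} : Set G)) : G) ≠ 1 ∧
      ((a : Subgroup.centralizer ({z} : Set G)) : G) ≠ z) : Nat.card (Xa a) = 2 ^ 21 * (3 ^ 3 * 8855) := by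
  have h := card_comap_phi e (Xa a)
  rw [comap_Xa S ha haz, card_mono] at h
  norm_num at h ⊢
  omega

theorem card_L (S : Setup Q e ψ) (ha : ψ (frame none) = QuotientGroup.mk a)
    (haz : ((a : Subgroup.centralizer ({z} : Set G)) : G) ≠ 1 ∧
      ((a : Subgroup.centralizer ({z} : Set G)) : G) ≠ z) :
    (Nat.card ↥(Subgroup.centralizer ({z} : Set G) ⊓
      Subgroup.centralizer ({((a : Subgroup.centralizer ({z} : Set G)) : G)} : Set G))).factorization 3 = 3 := by
  set L := (Subgroup.centralizer ({z} : Set G)) ⊓ Subgroup.centralizer ({((a : (Subgroup.centralizer ({z} : Set G))) : G)} : Set G) with hL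
  let f : L →* (Subgroup.centralizer ({z} : Set G)) ⧸ Q := (QuotientGroup.mk' Q).comp (Subgroup.inclusion inf_le_left)
  have hr : f.range = Xa a := by
    ext x
    constructor
    · rintro ⟨l, rfl⟩
      exact ⟨Subgroup.inclusion inf_le_left l, l.2, rfl⟩
    · rintro ⟨c, hc, rfl⟩
      exact ⟨⟨(c : G), hc⟩, rfl⟩
  have hk : ∃ j, Nat.card f.ker = 2 ^ j := by
    haveI : Fact (Nat.Prime 2) := ⟨Nat.prime_two⟩
    refine IsPGroup.iff_card.mp fun x => ⟨2, Subtype.ext (Subtype.ext ?_)⟩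
    have : (((x : L) : G)) ∈ Q.map (Subgroup.centralizer ({z} : Set G)).subtype := ⟨_, (QuotientGroup.eq_one_iff _).mp x.2, rfl⟩
    exact S.lh.toExt.pow_four this
  obtain ⟨j, hj⟩ := hk
  have h := Subgroup.card_eq_card_quotient_mul_card_subgroup f.ker
  rw [Nat.card_congr (QuotientGroup.quotientKerEquivRange f).toEquiv, hr, card_Xa S ha haz, hj] at h
  rw [h, show 2 ^ 21 * (3 ^ 3 * 8855) * 2 ^ j = 2 ^ (21 + j) * (3 ^ 3 * 8855) by rw [pow_add]; ring, v_three]

theorem injOn_Q (S : Setup Q e ψ) {P : Subgroup G} (hP : Nat.card P = 27) {x : G} (hx : x ∈ P)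
    (hxQ : x ∈ Q.map (Subgroup.centralizer ({z} : Set G)).subtype) : x = 1 := by
  have h4 : orderOf x ∣ 4 := orderOf_dvd_of_pow_eq_one (S.lh.toExt.pow_four hxQ)
  have h27 : orderOf x ∣ 27 := by
    rw [← hP, show x = ((⟨x, hx⟩ : P) : G) from rfl, Subgroup.orderOf_coe]
    exact orderOf_dvd_natCard _
  exact orderOf_eq_one_iff.mp (Nat.dvd_one.mp (show orderOf x ∣ 1 from (Nat.dvd_gcd h4 h27).trans (by norm_num)))

/-- A central element of order 3 of a Sylow 3-subgroup lies over a conjugate of `u` or of `u⁻¹`, and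
generates the centre. -/
theorem three_central (S : Setup Q e ψ) (ha : ψ (frame none) = QuotientGroup.mk a)
    (haz : ((a : Subgroup.centralizer ({z} : Set G)) : G) ≠ 1 ∧
      ((a : Subgroup.centralizer ({z} : Set G)) : G) ≠ z)
    {P : Subgroup G} (hPL : P ≤ Subgroup.centralizer ({z} : Set G) ⊓
      Subgroup.centralizer ({((a : Subgroup.centralizer ({z} : Set G)) : G)} : Set G))
    (hP : Nat.card P = 27) {y : Subgroup.centralizer ({z} : Set G)} (hy : (y : G) ∈ P) (hy1 : (y : G) ≠ 1)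
    (hyc : ∀ p ∈ P, p * (y : G) = (y : G) * p) :
    (∃ σ ∈ mono, QuotientGroup.mk y = phi e (σ * uC * σ⁻¹) ∨ QuotientGroup.mk y⁻¹ = phi e (σ * uC * σ⁻¹)) ∧
      ∀ x ∈ P, (∀ p ∈ P, p * x = x * p) → x ∈ Subgroup.zpowers (y : G) := by
  haveI : Fact (Nat.Prime 3) := ⟨Nat.prime_three⟩
  haveI := LeechOrder.finite_Co0
  have hPC : P ≤ (Subgroup.centralizer ({z} : Set G)) := hPL.trans inf_le_left
  let ι : P →* (Subgroup.centralizer ({z} : Set G)) ⧸ Q := (QuotientGroup.mk' Q).comp (Subgroup.inclusion hPC)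
  have hιinj : Function.Injective ι := by
    rw [← MonoidHom.ker_eq_bot_iff, eq_bot_iff]
    intro p hp
    exact Subgroup.mem_bot.mpr (Subtype.ext
      (injOn_Q S hP p.2 ⟨_, (QuotientGroup.eq_one_iff _).mp hp, rfl⟩))
  have hιX : ι.range ≤ Xa a := by
    rintro _ ⟨p, rfl⟩
    exact ⟨Subgroup.inclusion hPC p, hPL p.2, rfl⟩
  have hsinj : ∀ g ∈ syl, phi e g = 1 → g = 1 := by
    intro g hg h
    have h1 : g ∈ (phi e).ker := h
    rw [ker_phi] at h1
    rcases center_eq h1 with h2 | h2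
    · exact h2
    · exfalso
      have h27 : orderOf g ∣ 27 := by
        rw [← card_syl, show g = ((⟨g, hg⟩ : syl) : Co0) from rfl, Subgroup.orderOf_coe]
        exact orderOf_dvd_natCard _
      have h2' : orderOf g ∣ 2 := by
        refine orderOf_dvd_of_pow_eq_one (ext_frame fun i => ?_)
        rw [h2, pow_two, mul_smul, negAut_smul, negAut_smul, neg_neg, one_smul]
      exact negAut_ne_one (h2 ▸ orderOf_eq_one_iff.mp
        (Nat.dvd_one.mp (show orderOf g ∣ 1 from (Nat.dvd_gcd h2' h27).trans (by norm_num))))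
  let κ : syl →* (Subgroup.centralizer ({z} : Set G)) ⧸ Q := (phi e).comp syl.subtype
  have hκinj : Function.Injective κ := by
    rw [← MonoidHom.ker_eq_bot_iff, eq_bot_iff]
    intro g hg
    exact Subgroup.mem_bot.mpr (Subtype.ext (hsinj g g.2 hg))
  have hκX : κ.range ≤ Xa a := by
    rintro _ ⟨g, rfl⟩
    have := (comap_Xa S ha haz).symm ▸ syl_le_mono g.2
    exact this
  have hfac : (Nat.card (Xa a)).factorization 3 = 3 := by rw [card_Xa S ha haz, v_three]
  let A : Sylow 3 (Xa a) := Sylow.ofCard (ι.range.subgroupOf (Xa a)) (by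
    rw [hfac, Nat.card_congr (Subgroup.subgroupOfEquivOfLe hιX).toEquiv,
      ← Nat.card_congr (MonoidHom.ofInjective hιinj).toEquiv, hP]
    norm_num)
  let B : Sylow 3 (Xa a) := Sylow.ofCard (κ.range.subgroupOf (Xa a)) (by
    rw [hfac, Nat.card_congr (Subgroup.subgroupOfEquivOfLe hκX).toEquiv,
      ← Nat.card_congr (MonoidHom.ofInjective hκinj).toEquiv, card_syl]
    norm_num)
  obtain ⟨⟨x, hx⟩, hxAB⟩ := MulAction.exists_smul_eq (Xa a) A B
  obtain ⟨τ, rfl⟩ := phi_surjective e x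
  have hτ : τ ∈ mono := by rw [← comap_Xa S ha haz]; exact hx
  have hAB : ∀ g : Xa a, g ∈ (B : Subgroup (Xa a)) ↔
      (⟨phi e τ, hx⟩ : Xa a)⁻¹ * g * ⟨phi e τ, hx⟩ ∈ (A : Subgroup (Xa a)) := by
    intro g
    rw [← hxAB, Sylow.coe_subgroup_smul, Subgroup.mem_pointwise_smul_iff_inv_smul_mem, ← map_inv,
      MulAut.smul_def, MulAut.conj_apply, inv_inv]
  have fwd : ∀ p : P, ∃ g ∈ syl, phi e g = phi e τ * ι p * (phi e τ)⁻¹ := by
    intro p
    let w : Xa a := ⟨phi e τ * ι p * (phi e τ)⁻¹,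
      (Xa a).mul_mem ((Xa a).mul_mem hx (hιX ⟨p, rfl⟩)) ((Xa a).inv_mem hx)⟩
    have hw : w ∈ (B : Subgroup (Xa a)) := by
      rw [hAB]
      refine ⟨p, ?_⟩
      show ι p = (phi e τ)⁻¹ * (phi e τ * ι p * (phi e τ)⁻¹) * phi e τ
      group
    obtain ⟨g, hg⟩ : (w : (Subgroup.centralizer ({z} : Set G)) ⧸ Q) ∈ κ.range := hw
    exact ⟨g, g.2, hg⟩
  have bwd : ∀ g ∈ syl, ∃ p : P, phi e g = phi e τ * ι p * (phi e τ)⁻¹ := by
    intro g hg
    have h1 : (⟨phi e g, hκX ⟨⟨g, hg⟩, rfl⟩⟩ : Xa a) ∈ (B : Subgroup (Xa a)) := ⟨⟨g, hg⟩, rfl⟩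
    rw [hAB] at h1
    obtain ⟨p, hp⟩ := h1
    refine ⟨p, ?_⟩
    have hp' : ι p = (phi e τ)⁻¹ * phi e g * phi e τ := hp
    rw [hp']; group
  have central : ∀ x : P, (∀ p ∈ P, p * (x : G) = (x : G) * p) → ∃ g ∈ Subgroup.zpowers uC,
      phi e g = phi e τ * ι x * (phi e τ)⁻¹ := by
    intro x hc
    obtain ⟨g, hg, hgx⟩ := fwd x
    refine ⟨g, center_syl hg fun h hh => ?_, hgx⟩
    obtain ⟨p, hp⟩ := bwd h hh
    have h1 : ι (x * p) = ι (p * x) := congrArg ι (Subtype.ext (hc p p.2).symm)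
    have h2 : phi e (g * h) = phi e (h * g) := by
      rw [map_mul, map_mul, hgx, hp]
      calc phi e τ * ι x * (phi e τ)⁻¹ * (phi e τ * ι p * (phi e τ)⁻¹)
          = phi e τ * (ι x * ι p) * (phi e τ)⁻¹ := by group
        _ = phi e τ * (ι p * ι x) * (phi e τ)⁻¹ := by rw [← map_mul, ← map_mul, h1]
        _ = _ := by group
    refine mul_inv_eq_one.mp (hsinj _ (mul_mem (mul_mem hg hh) (inv_mem (mul_mem hh hg))) ?_)
    rw [map_mul, h2, map_inv, mul_inv_cancel]
  obtain ⟨g, hg, hgy⟩ := central ⟨y, hy⟩ hyc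
  have hιy : ι ⟨y, hy⟩ = QuotientGroup.mk y := rfl
  have hg1 : g ≠ 1 := by
    intro h
    rw [h, map_one, eq_comm, conj_eq_one_iff, ← map_one ι] at hgy
    exact hy1 (congrArg Subtype.val (hιinj hgy))
  have hcase : g = uC ∨ g = uC⁻¹ := (eq_pow_uC hg).resolve_left hg1
  constructor
  · refine ⟨τ⁻¹, inv_mem hτ, ?_⟩
    have e1 : ∀ w, phi e (τ⁻¹ * w * τ⁻¹⁻¹) = (phi e τ)⁻¹ * phi e w * phi e τ := fun w => by
      rw [inv_inv, map_mul, map_mul, map_inv]
    rw [hιy] at hgy
    rcases hcase with rfl | rfl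
    · left; rw [e1, hgy]; group
    · right
      rw [e1, show phi e uC = (phi e uC⁻¹)⁻¹ by rw [map_inv, inv_inv], hgy, QuotientGroup.mk_inv]
      group
  · intro x hxP hxc
    obtain ⟨g', hg', hgx⟩ := central ⟨x, hxP⟩ hxc
    obtain ⟨k, hk⟩ : ∃ k : ℤ, g ^ k = g' := by
      obtain ⟨k, rfl⟩ := hg'
      rcases hcase with rfl | rfl
      · exact ⟨k, rfl⟩
      · exact ⟨-k, by simp⟩
    refine ⟨k, ?_⟩
    have h1 : ι (⟨y, hy⟩ ^ k) = ι ⟨x, hxP⟩ := by
      have h2 := congrArg (phi e) hk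
      rw [map_zpow, hgy, hgx, conj_zpow, ← map_zpow] at h2
      exact mul_left_cancel (mul_right_cancel h2)
    exact congrArg Subtype.val (hιinj h1)

end Cfsg.Agent.MonsterFischer17
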