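import Cfsg.Agent.Lib.MonsterFischer17
import Cfsg.Agent.Lib.LeechFischer17Norm

/-!
The normalizer of an element of order 3 over `u` induces on the centralizer modulo that element an
extension of index 2 in which the centralizer of the central involution has no larger generalized Fitting
subgroup; the element of order 3 is a commutator modulo the extraspecial group.
-/

set_option autoImplicit false
set_option linter.style.haveILetI false

open scoped Pointwise commutatorElement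

namespace Cfsg.Agent.MonsterFischer17

open Cfsg Cfsg.Agent.LargeExtraspecial Cfsg.Agent.MonsterLocal
open Cfsg.Agent.LeechBasic Cfsg.Agent.LeechAut Cfsg.Agent.LeechIndex
open Cfsg.Agent.LeechFischer17

variable {G : Type*} [Group G] [Finite G] {z : G}
  {Q : Subgroup (Subgroup.centralizer ({z} : Set G))} [Q.Normal]
  {e : (Subgroup.centralizer ({z} : Set G)) ⧸ Q ≃* Spor.Co1}
  {ψ : leechLattice → Q ⧸ Subgroup.center Q}

/-- The element of order 3 lies in the derived subgroup of its centralizer. -/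
theorem mem_commutator (S : Setup Q e ψ) {y : Subgroup.centralizer ({z} : Set G)}
    (hy : QuotientGroup.mk y = phi e uC) (hy3 : (y : G) ^ 3 = 1) {Y : Subgroup G}
    (hYy : Y = Subgroup.zpowers (y : G)) (hyT : (y : G) ∈ Subgroup.centralizer (Y : Set G)) :
    (⟨y, hyT⟩ : ↥(Subgroup.centralizer (Y : Set G))) ∈ commutator ↥(Subgroup.centralizer (Y : Set G)) := by
  obtain ⟨a, b, hab⟩ := uC_comm
  have hlift : ∀ g : W, ∃ k : ↥(Subgroup.centralizer (Y : Set G)),
      ∃ hk : (k : G) ∈ Subgroup.centralizer ({z} : Set G),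
        QuotientGroup.mk (⟨k, hk⟩ : Subgroup.centralizer ({z} : Set G)) = phi e (g : Co0) := by
    intro g
    obtain ⟨n, hn1, hn2⟩ := exists_lift_conj S hy hy3 (g := (g : Co0)) (y₁ := y) hy3
      (by rw [hy, mem_W.mp g.2, mul_inv_cancel_right])
    refine ⟨⟨n, ?_⟩, n.2, hn1⟩
    rw [Subgroup.mem_centralizer_iff, hYy]
    rintro _ ⟨k, rfl⟩
    exact ((Commute.zpow_left (show Commute (y : G) n from
      (mul_inv_eq_iff_eq_mul.mp (congrArg Subtype.val hn2)).symm) k)).eq
  obtain ⟨ka, ha, ea⟩ := hlift a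
  obtain ⟨kb, hb, eb⟩ := hlift b
  let kc : Subgroup.centralizer ({z} : Set G) :=
    ⁅(⟨ka, ha⟩ : Subgroup.centralizer ({z} : Set G)), (⟨kb, hb⟩ : Subgroup.centralizer ({z} : Set G))⁆
  have hkc : QuotientGroup.mk' Q kc = QuotientGroup.mk' Q y := by
    rw [show QuotientGroup.mk' Q kc = ⁅phi e (a : Co0), phi e (b : Co0)⁆ by
      rw [map_commutatorElement]; exact congrArg₂ _ ea eb, ← map_commutatorElement,
      show ⁅(a : Co0), (b : Co0)⁆ = uC from hab, QuotientGroup.mk'_apply, hy]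
  set q := (kc⁻¹ * y : Subgroup.centralizer ({z} : Set G)) with hq
  have hqQ : (q : G) ∈ Q.map (Subgroup.centralizer ({z} : Set G)).subtype :=
    ⟨q, (QuotientGroup.eq_one_iff q).mp (show QuotientGroup.mk' Q q = 1 by
      rw [hq, map_mul, map_inv, hkc, inv_mul_cancel]), rfl⟩
  have hk : (kc : G) = (y : G) * (q : G)⁻¹ := by
    rw [hq]; simp [Subgroup.coe_mul, mul_assoc]
  have hkT : ((⁅ka, kb⁆ : ↥(Subgroup.centralizer (Y : Set G))) : G) = (kc : G) := rfl
  have hqy : Commute (y : G) (q : G)⁻¹ := by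
    have h1 : (q : G)⁻¹ = (y : G)⁻¹ * (kc : G) := by rw [hk, inv_mul_cancel_left]
    rw [h1]
    refine (Commute.refl (y : G)).inv_right.mul_right ?_
    rw [← hkT]
    exact Subgroup.mem_centralizer_iff.mp (⁅ka, kb⁆ : ↥(Subgroup.centralizer (Y : Set G))).2 y
      (hYy ▸ Subgroup.mem_zpowers _)
  have hpow : (⁅ka, kb⁆ : ↥(Subgroup.centralizer (Y : Set G))) ^ 4 = ⟨y, hyT⟩ := by
    refine Subtype.ext ?_
    rw [SubgroupClass.coe_pow, hkT, hk, hqy.mul_pow, inv_pow, S.lh.toExt.pow_four hqQ, inv_one, mul_one,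
      pow_succ, hy3, one_mul]
  rw [← hpow]
  exact pow_mem (Subgroup.commutator_mem_commutator (Subgroup.mem_top _) (Subgroup.mem_top _)) 4

set_option maxHeartbeats 1600000 in
/-- The extension of index 2. -/
theorem outer (S : Setup Q e ψ) {a : Q}
    {y : Subgroup.centralizer ({z} : Set G)} (hy : QuotientGroup.mk y = phi e uC)
    (hy3 : (y : G) ^ 3 = 1)
    (hya : (y : G) * ((a : Subgroup.centralizer ({z} : Set G)) : G) =
      ((a : Subgroup.centralizer ({z} : Set G)) : G) * (y : G))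
    (haz : ((a : Subgroup.centralizer ({z} : Set G)) : G) ≠ 1 ∧
      ((a : Subgroup.centralizer ({z} : Set G)) : G) ≠ z)
    {m : G} (hmy : m * (y : G) = (y : G) * m)
    (hmQ : m * z * m⁻¹ ∈ Q.map (Subgroup.centralizer ({z} : Set G)).subtype) (hmz : m * z * m⁻¹ ≠ z)
    {Y : Subgroup G} (hYy : Y = Subgroup.zpowers (y : G))
    [hn : (Y.subgroupOf (Subgroup.centralizer (Y : Set G))).Normal]
    [hn' : (Y.subgroupOf (Subgroup.normalizer (Y : Set G))).Normal] :
    ∃ (G₀ : Subgroup (↥(Subgroup.normalizer (Y : Set G)) ⧸ Y.subgroupOf (Subgroup.normalizer (Y : Set G))))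
      (z₀ : ↥G₀) (Q₀ : Subgroup (Subgroup.centralizer ({z₀} : Set ↥G₀))) (_ : Q₀.Normal),
      G₀.index = 2 ∧ IsOfLargeFischerTypeAt z₀ Q₀ ∧
      (generalizedFittingSubgroup ↥(Subgroup.centralizer
          ({(z₀ : ↥(Subgroup.normalizer (Y : Set G)) ⧸ Y.subgroupOf (Subgroup.normalizer (Y : Set G)))} :
            Set (↥(Subgroup.normalizer (Y : Set G)) ⧸ Y.subgroupOf (Subgroup.normalizer (Y : Set G)))))).map
          (Subgroup.subtype _) = (Q₀.map (Subgroup.subtype _)).map G₀.subtype ∧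
      Nonempty (↥(Subgroup.centralizer (Y : Set G)) ⧸ Y.subgroupOf (Subgroup.centralizer (Y : Set G)) ≃* ↥G₀) := by
  haveI := LeechOrder.finite_Co0
  set Qg := Q.map (Subgroup.centralizer ({z} : Set G)).subtype with hQg
  have memT : ∀ x : G, x ∈ Subgroup.centralizer (Y : Set G) ↔ x * (y : G) = (y : G) * x := by
    intro x
    rw [Subgroup.mem_centralizer_iff]
    constructor
    · exact fun h => (h _ (hYy ▸ Subgroup.mem_zpowers _)).symm
    · intro h w hw
      rw [hYy] at hw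
      obtain ⟨k, rfl⟩ := hw
      exact ((Commute.zpow_right (show Commute x (y : G) from h) k)).eq.symm
  have hyY : ∀ x ∈ Y, x = 1 ∨ x = (y : G) ∨ x = (y : G)⁻¹ := by
    intro x hx
    rw [hYy] at hx
    obtain ⟨k, rfl⟩ := hx
    show (y : G) ^ k = 1 ∨ (y : G) ^ k = (y : G) ∨ (y : G) ^ k = (y : G)⁻¹
    have hy3z : (y : G) ^ (3 : ℤ) = 1 := by rw [show (3 : ℤ) = ((3 : ℕ) : ℤ) from rfl, zpow_natCast, hy3]
    rw [← Int.emod_add_mul_ediv k 3, zpow_add, zpow_mul, hy3z, one_zpow, mul_one]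
    have : k % 3 = 0 ∨ k % 3 = 1 ∨ k % 3 = 2 := by omega
    rcases this with h | h | h <;> rw [h]
    · exact Or.inl (zpow_zero _)
    · exact Or.inr (Or.inl (zpow_one _))
    · exact Or.inr (Or.inr (eq_inv_of_mul_eq_one_left (by
        rw [← zpow_add_one]; exact hy3z)))
  have hYmem : ∀ x ∈ Y, ∃ k : ℤ, (y : G) ^ k = x := fun x hx => Subgroup.mem_zpowers_iff.mp (hYy ▸ hx)
  have hy3Y : ∀ x ∈ Y, x ^ 3 = 1 := by
    intro x hx
    rcases hyY x hx with rfl | rfl | rfl
    · exact one_pow 3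
    · exact hy3
    · rw [inv_pow, hy3, inv_one]
  have hYQ : ∀ x ∈ Y, x ∈ Qg → x = 1 := fun x hx hxQ =>
    orderOf_eq_one_iff.mp (Nat.dvd_one.mp ((Nat.dvd_gcd (orderOf_dvd_of_pow_eq_one (hy3Y x hx))
      (orderOf_dvd_of_pow_eq_one (S.lh.toExt.pow_four hxQ))).trans (by norm_num)))
  have hyz : (y : G) * z = z * (y : G) := Subgroup.mem_centralizer_singleton_iff.mp y.2
  have hzT : z ∈ Subgroup.centralizer (Y : Set G) := (memT z).mpr hyz.symm
  have hy1 : QuotientGroup.mk' Q y ≠ 1 := by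
    intro h1
    rw [QuotientGroup.mk'_apply, hy] at h1
    have h2 : uC ∈ (phi e).ker := h1
    rw [ker_phi] at h2
    rcases center_eq h2 with h3 | h3
    · exact uC_ne_one h3
    · have h4 := congrArg (fun g : Co0 => g • frame none) h3
      simp only [uC_smul_frame, negAut_smul] at h4
      exact LeechStab.ne_neg (by rw [sqNorm_frame]; norm_num) h4
  have hy1G : (y : G) ≠ 1 := fun h => hy1 (by rw [show y = 1 from Subtype.ext h, map_one])
  have hy2 : (y : G) * (y : G) ≠ 1 := fun h => hy1G (by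
    calc (y : G) = (y : G) ^ 3 * ((y : G) * (y : G))⁻¹ := by rw [pow_three]; group
      _ = 1 := by rw [hy3, h, inv_one, one_mul])
  -- the normalizer
  have hle : Subgroup.centralizer (Y : Set G) ≤ Subgroup.normalizer (Y : Set G) :=
    Subgroup.centralizer_le_normalizer _
  have hnorm : ∀ x ∈ Subgroup.normalizer (Y : Set G),
      x * (y : G) * x⁻¹ = (y : G) ∨ x * (y : G) * x⁻¹ = (y : G)⁻¹ := by
    intro x hx
    have h := (Subgroup.mem_normalizer_iff.mp hx (y : G)).mp (hYy ▸ Subgroup.mem_zpowers _)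
    rcases hyY _ h with h1 | h1 | h1
    · exact absurd (conj_eq_one_iff.mp h1) hy1G
    · exact Or.inl h1
    · exact Or.inr h1
  let ι : ↥(Subgroup.centralizer (Y : Set G)) →*
      ↥(Subgroup.normalizer (Y : Set G)) ⧸ Y.subgroupOf (Subgroup.normalizer (Y : Set G)) :=
    (QuotientGroup.mk' _).comp (Subgroup.inclusion hle)
  have hιeq : ∀ x w, ι x = ι w ↔ (x : G)⁻¹ * (w : G) ∈ Y := by
    intro x w
    show QuotientGroup.mk (Subgroup.inclusion hle x) = QuotientGroup.mk (Subgroup.inclusion hle w) ↔ _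
    rw [QuotientGroup.eq, Subgroup.mem_subgroupOf]
    rfl
  let G₀ := ι.range
  let π := ι.rangeRestrict
  obtain ⟨Q₀, hQ₀n, hF, hQ₀⟩ := large_at S hy hy3 hya haz hmy hmQ hmz hYy π
    ι.rangeRestrict_surjective (fun x w => ⟨fun h => (hιeq x w).mp (congrArg Subtype.val h),
      fun h => Subtype.ext ((hιeq x w).mpr h)⟩) hzT
  -- an element inverting `y`
  obtain ⟨n₁, -, hn1y⟩ := exists_lift_conj S hy hy3 (g := tauC) (y₁ := y⁻¹)
    (by rw [Subgroup.coe_inv, inv_pow, hy3, inv_one])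
    (by rw [tauC_conj, map_inv, ← hy, QuotientGroup.mk_inv])
  have hn1 : (n₁ : G) * (y : G) * (n₁ : G)⁻¹ = (y : G)⁻¹ := congrArg Subtype.val hn1y
  have hn1N : (n₁ : G) ∈ Subgroup.normalizer (Y : Set G) := by
    refine Subgroup.mem_normalizer_fintype fun x hx => ?_
    obtain ⟨k, rfl⟩ := (hYy ▸ hx : x ∈ Subgroup.zpowers (y : G))
    show (n₁ : G) * (y : G) ^ k * (n₁ : G)⁻¹ ∈ Y
    rw [← conj_zpow, hn1, hYy]
    exact zpow_mem (inv_mem (Subgroup.mem_zpowers _)) k
  have hmemG₀ : ∀ (b : ↥(Subgroup.normalizer (Y : Set G))),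
      QuotientGroup.mk b ∈ G₀ ↔ (b : G) ∈ Subgroup.centralizer (Y : Set G) := by
    intro b
    constructor
    · rintro ⟨t, ht⟩
      have h : (t : G)⁻¹ * (b : G) ∈ Y := by
        have := QuotientGroup.eq.mp (show QuotientGroup.mk (Subgroup.inclusion hle t) = QuotientGroup.mk b from ht)
        exact this
      have h2 : (t : G)⁻¹ * (b : G) ∈ Subgroup.centralizer (Y : Set G) := by
        rw [memT]
        obtain ⟨k, hk⟩ := hYmem _ h
        rw [← hk]
        exact ((Commute.refl (y : G)).zpow_left k).eq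
      simpa using mul_mem t.2 h2
    · exact fun h => ⟨⟨b, h⟩, rfl⟩
  have hidx : G₀.index = 2 := by
    rw [Subgroup.index_eq_two_iff]
    refine ⟨QuotientGroup.mk ⟨n₁, hn1N⟩, fun b => ?_⟩
    obtain ⟨b, rfl⟩ := QuotientGroup.mk_surjective b
    rw [← QuotientGroup.mk_mul, hmemG₀, hmemG₀, memT, memT]
    have key : (b : G) * (n₁ : G) * (y : G) * ((b : G) * (n₁ : G))⁻¹ = ((b : G) * (y : G) * (b : G)⁻¹)⁻¹ := by
      calc _ = (b : G) * ((n₁ : G) * (y : G) * (n₁ : G)⁻¹) * (b : G)⁻¹ := by group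
        _ = _ := by rw [hn1]; group
    have hinv : (y : G)⁻¹ ≠ (y : G) := fun h => hy2 (by
      calc (y : G) * (y : G) = (y : G) * (y : G)⁻¹ := by rw [h]
        _ = 1 := mul_inv_cancel _)
    rcases hnorm b b.2 with h | h
    · refine Or.inr ⟨mul_inv_eq_iff_eq_mul.mp h, fun h' => hinv ?_⟩
      rw [Subgroup.coe_mul] at h'
      rw [← h, ← key]
      exact (mul_inv_eq_iff_eq_mul.mpr h').trans h.symm
    · refine Or.inl ⟨?_, fun h' => hinv ?_⟩
      · rw [Subgroup.coe_mul]
        refine mul_inv_eq_iff_eq_mul.mp ?_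
        rw [key, h, inv_inv]
      · rw [← h]; exact mul_inv_eq_iff_eq_mul.mpr h'
  -- lifts of the centralizer of the image of `z`
  set X := ↥(Subgroup.normalizer (Y : Set G)) ⧸ Y.subgroupOf (Subgroup.normalizer (Y : Set G))
  set zX : X := ((π ⟨z, hzT⟩ : ↥G₀) : X) with hzX
  set C := Subgroup.centralizer ({zX} : Set X) with hC
  have hzXeq : zX = QuotientGroup.mk ⟨z, hle hzT⟩ := rfl
  have hliftC : ∀ c ∈ C, ∃ b : ↥(Subgroup.normalizer (Y : Set G)),
      QuotientGroup.mk b = c ∧ (b : G) ∈ Subgroup.centralizer ({z} : Set G) := by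
    intro c hc
    obtain ⟨b, rfl⟩ := QuotientGroup.mk_surjective c
    refine ⟨b, rfl, Subgroup.mem_centralizer_singleton_iff.mpr ?_⟩
    have h1 := Subgroup.mem_centralizer_singleton_iff.mp hc
    rw [hzXeq, ← QuotientGroup.mk_mul, ← QuotientGroup.mk_mul, QuotientGroup.eq, Subgroup.mem_subgroupOf] at h1
    simp only [Subgroup.coe_mul, Subgroup.coe_inv] at h1
    set w := ((b : G) * z)⁻¹ * (z * (b : G)) with hw
    have hw3 := hy3Y w h1
    have hwz : w * z = z * w := by
      have h2 := (memT z).mp hzT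
      rw [hYy] at h1
      obtain ⟨k, hk⟩ := h1
      rw [← hk]
      exact ((Commute.zpow_right (show Commute z (y : G) from h2) k)).eq.symm
    have e1 : (b : G)⁻¹ * z * (b : G) = z * w := by rw [hw]; group
    have e2 : (z * w) * (z * w) = 1 := by
      rw [← e1]
      calc (b : G)⁻¹ * z * b * ((b : G)⁻¹ * z * b) = (b : G)⁻¹ * (z * z) * b := by group
        _ = 1 := by rw [S.lh.zz]; group
    have e3 : w * w = 1 := by
      rw [← e2]
      calc w * w = (z * z) * (w * w) := by rw [S.lh.zz, one_mul]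
        _ = z * (z * w) * w := by group
        _ = z * (w * z) * w := by rw [hwz]
        _ = z * w * (z * w) := by group
    have hw1 : w = 1 := by
      calc w = (w * w) * w := by rw [e3, one_mul]
        _ = w ^ 3 := by rw [pow_succ, pow_two]
        _ = 1 := hw3
    rw [hw1, mul_one] at e1
    calc (b : G) * z = (b : G) * ((b : G)⁻¹ * z * (b : G)) := by rw [e1]
      _ = z * b := by group
  have hQC : ∀ q ∈ Qg, q ∈ Subgroup.centralizer ({z} : Set G) := fun q hq =>
    Subgroup.mem_centralizer_singleton_iff.mpr (S.lh.comm q hq)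
  -- the candidate
  set P : Subgroup ↥C := ((Q₀.map (Subgroup.subtype _)).map G₀.subtype).subgroupOf C with hP
  have hPmem : ∀ c : ↥C, c ∈ P ↔ ∃ q : ↥(Subgroup.centralizer (Y : Set G)), (q : G) ∈ Qg ∧ ι q = (c : X) := by
    intro c
    rw [hP, Subgroup.mem_subgroupOf]
    constructor
    · rintro ⟨w, hw, hwc⟩
      obtain ⟨q, hq, rfl⟩ := (hQ₀ w).mp hw
      exact ⟨q, hq, hwc⟩
    · rintro ⟨q, hq, hqc⟩
      exact ⟨π q, (hQ₀ _).mpr ⟨q, hq, rfl⟩, hqc⟩
  have hPC : (Q₀.map (Subgroup.subtype _)).map G₀.subtype ≤ C := by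
    rintro _ ⟨_, ⟨w, -, rfl⟩, rfl⟩
    exact Subgroup.mem_centralizer_singleton_iff.mpr
      (congrArg Subtype.val (Subgroup.mem_centralizer_singleton_iff.mp w.2))
  haveI hPn : P.Normal := ⟨fun p hp c => by
    obtain ⟨q, hq, hqp⟩ := (hPmem p).mp hp
    obtain ⟨b, hb, hbz⟩ := hliftC c c.2
    have hT : (b : G) * (q : G) * (b : G)⁻¹ ∈ Subgroup.centralizer (Y : Set G) := by
      refine (memT _).mpr (mul_inv_eq_iff_eq_mul.mp ?_)
      have hqy : (q : G) * (y : G) * (q : G)⁻¹ = (y : G) := mul_inv_eq_iff_eq_mul.mpr ((memT _).mp q.2)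
      have hbi := hnorm _ (inv_mem b.2)
      rw [inv_inv] at hbi
      calc (b : G) * q * (b : G)⁻¹ * (y : G) * ((b : G) * q * (b : G)⁻¹)⁻¹
          = (b : G) * ((q : G) * ((b : G)⁻¹ * (y : G) * b) * (q : G)⁻¹) * (b : G)⁻¹ := by group
        _ = (b : G) * ((b : G)⁻¹ * (y : G) * b) * (b : G)⁻¹ := by
          rcases hbi with h | h <;> rw [h]
          · rw [hqy]
          · rw [← conj_inv, hqy]
        _ = (y : G) := by group
    refine (hPmem _).mpr ⟨⟨_, hT⟩,
      S.lh.norm (b : G) (Subgroup.mem_centralizer_singleton_iff.mp hbz) (q : G) hq, ?_⟩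
    rw [Subgroup.coe_mul, Subgroup.coe_mul, Subgroup.coe_inv, ← hqp, ← hb]
    rfl⟩
  -- no element outside acts like one inside
  have hout : ∀ (c : ↥C), (c : X) ∉ G₀ → ∃ (b : ↥(Subgroup.normalizer (Y : Set G))) (g : Co0) (σ : Equiv.Perm (Fin 112))
      (hb : (b : G) ∈ Subgroup.centralizer ({z} : Set G)), QuotientGroup.mk b = (c : X) ∧
      QuotientGroup.mk (⟨b, hb⟩ : Subgroup.centralizer ({z} : Set G)) = phi e g ∧
      (∀ k, g • frameSet k = frameSet (σ k)) ∧ σ ∉ wHom.range := by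
    intro c hc
    obtain ⟨b, hb, hbz⟩ := hliftC c c.2
    have hby : (b : G) * (y : G) * (b : G)⁻¹ = (y : G)⁻¹ := by
      refine (hnorm b b.2).resolve_left fun h => hc ?_
      rw [← hb, hmemG₀, memT]
      exact mul_inv_eq_iff_eq_mul.mp h
    obtain ⟨g, hg⟩ := phi_surjective e (QuotientGroup.mk (⟨b, hbz⟩ : Subgroup.centralizer ({z} : Set G)))
    have hgu : g * uC * g⁻¹ = uC⁻¹ := by
      have h1 : phi e (g * uC * g⁻¹) = phi e uC⁻¹ := by
        rw [map_mul, map_mul, map_inv, map_inv, hg, ← hy, ← QuotientGroup.mk_mul, ← QuotientGroup.mk_inv,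
          ← QuotientGroup.mk_mul, ← QuotientGroup.mk_inv]
        exact congrArg QuotientGroup.mk (Subtype.ext hby)
      have h2 : (g * uC * g⁻¹) * uC ∈ (phi e).ker := by
        rw [MonoidHom.mem_ker, map_mul, h1, ← map_mul, inv_mul_cancel, map_one]
      rw [ker_phi] at h2
      rcases center_eq h2 with h3 | h3
      · exact eq_inv_of_mul_eq_one_left h3
      · exfalso
        have h4 : g * uC * g⁻¹ = negAut * uC⁻¹ := by rw [← h3]; group
        have h5 : (g * uC * g⁻¹) ^ 3 = 1 := by rw [conj_pow, uC_pow, mul_one, mul_inv_cancel]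
        rw [h4, (show Commute negAut uC⁻¹ from (Subgroup.mem_center_iff.mp negAut_mem_center uC⁻¹).symm).mul_pow,
          inv_pow, uC_pow, inv_one, mul_one] at h5
        refine negAut_ne_one ?_
        have h6 : negAut * negAut = 1 := ext_frame fun i => by
          rw [mul_smul, negAut_smul, negAut_smul, neg_neg, one_smul]
        calc negAut = negAut * (negAut * negAut) := by rw [h6, mul_one]
          _ = negAut ^ 3 := by rw [pow_succ, pow_two, mul_assoc]
          _ = 1 := h5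
    have hw : tauC⁻¹ * g ∈ W := by
      rw [mem_W]
      refine mul_inv_eq_iff_eq_mul.mp ?_
      have ht : tauC * uC * tauC⁻¹ = uC⁻¹ := tauC_conj
      calc tauC⁻¹ * g * uC * (tauC⁻¹ * g)⁻¹ = tauC⁻¹ * (g * uC * g⁻¹) * tauC := by group
        _ = tauC⁻¹ * (tauC * uC * tauC⁻¹) * tauC := by rw [hgu, ht]
        _ = uC := by group
    refine ⟨b, g, tauσ * wHom ⟨_, hw⟩, hbz, hb, hg.symm, fun k => ?_, fun h => tauσ_not_mem ?_⟩
    · rw [Equiv.Perm.mul_apply, ← tauC_frame, ← wHom_frame ⟨_, hw⟩, ← mul_smul]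
      show g • frameSet k = (tauC * (tauC⁻¹ * g)) • frameSet k
      rw [mul_inv_cancel_left]
    · simpa using mul_mem h (inv_mem (⟨⟨_, hw⟩, rfl⟩ : wHom ⟨_, hw⟩ ∈ wHom.range))
  have hFg : generalizedFittingSubgroup ↥(Subgroup.centralizer ({π ⟨z, hzT⟩} : Set ↥G₀)) = Q₀ := hF.1.2.1
  have hinside : ∀ (c : ↥C) (hc : (c : X) ∈ G₀),
      (⟨c, hc⟩ : ↥G₀) ∈ Subgroup.centralizer ({π ⟨z, hzT⟩} : Set ↥G₀) := fun c hc =>
    Subgroup.mem_centralizer_singleton_iff.mpr (Subtype.ext (Subgroup.mem_centralizer_singleton_iff.mp c.2))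
  have hcent : Subgroup.centralizer (P : Set ↥C) ≤ P := by
    intro c hc
    by_cases hc0 : (c : X) ∈ G₀
    · set d : ↥(Subgroup.centralizer ({π ⟨z, hzT⟩} : Set ↥G₀)) := ⟨⟨c, hc0⟩, hinside c hc0⟩ with hd
      have hdQ : d ∈ Q₀ := by
        rw [← hFg]
        refine ComponentsFitting.centralizer_gen_le (Subgroup.mem_centralizer_iff.mpr fun q hq => ?_)
        rw [SetLike.mem_coe, hFg] at hq
        have hqC : ((q : ↥G₀) : X) ∈ C := hPC ⟨_, ⟨q, hq, rfl⟩, rfl⟩
        have := Subgroup.mem_centralizer_iff.mp hc ⟨_, hqC⟩ (show (⟨_, hqC⟩ : ↥C) ∈ P from ⟨_, ⟨q, hq, rfl⟩, rfl⟩)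
        exact Subtype.ext (Subtype.ext (congrArg (fun x : ↥C => (x : X)) this :))
      exact ⟨_, ⟨d, hdQ, rfl⟩, rfl⟩
    · exfalso
      obtain ⟨b, g, σ, hbz, hb, hg, hσ, hσn⟩ := hout c hc0
      have hcongr : ∀ cl : Fin 4096,
          (((g • rvL cl : leechLattice) : GolayPt → ℤ)) - (rvL cl : GolayPt → ℤ) ∈ twiceLeech := by
        intro cl
        obtain ⟨q, hq⟩ := QuotientGroup.mk_surjective (ψ (rvL cl))
        have hqT : ((q : Subgroup.centralizer ({z} : Set G)) : G) ∈ Subgroup.centralizer (Y : Set G) := by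
          rw [memT]
          refine (comm_of_comm_mod S hyz hy3 ?_).symm
          have h1 := S.iso.2.2.2 y uC (by rw [hy]; exact (e.apply_symm_apply _).symm) (rvL cl) q hq.symm
          rw [uC_smul_rvL, hq.symm, S.mk_eq] at h1
          rcases h1 with h1 | h1
          · exact Or.inl h1.symm
          · refine Or.inr ?_
            have h1' : ((q : Subgroup.centralizer ({z} : Set G)) : G) =
              z * ((y : G) * ((q : Subgroup.centralizer ({z} : Set G)) : G) * (y : G)⁻¹) := h1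
            conv_rhs => rw [h1', S.lh.toExt.z_mul_z_mul]
        rw [← S.psi_eq, S.iso.2.2.2 ⟨b, hbz⟩ g (by rw [hg]; exact (e.apply_symm_apply _).symm) (rvL cl) q hq.symm,
          hq.symm, S.mk_eq]
        left
        set qq : ↥(Subgroup.centralizer (Y : Set G)) :=
          ⟨((q : Subgroup.centralizer ({z} : Set G)) : G), hqT⟩
        have hqC : (ι qq : X) ∈ C := hPC ⟨π qq, (hQ₀ _).mpr ⟨qq, S.coe_mem q, rfl⟩, rfl⟩
        have h1 := congrArg Subtype.val (Subgroup.mem_centralizer_iff.mp hc ⟨_, hqC⟩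
          (show (⟨_, hqC⟩ : ↥C) ∈ P from (hPmem _).mpr ⟨qq, S.coe_mem q, rfl⟩))
        rw [Subgroup.coe_mul, Subgroup.coe_mul, ← hb] at h1
        have h2 : QuotientGroup.mk (b * Subgroup.inclusion hle qq * b⁻¹) =
            (QuotientGroup.mk (Subgroup.inclusion hle qq) : X) := by
          rw [QuotientGroup.mk_mul, QuotientGroup.mk_mul, QuotientGroup.mk_inv]
          exact (eq_mul_inv_iff_mul_eq.mpr h1).symm
        rw [QuotientGroup.eq, Subgroup.mem_subgroupOf] at h2
        exact inv_mul_eq_one.mp (hYQ _ h2 (Qg.mul_mem (Qg.inv_mem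
          (S.lh.norm (b : G) (Subgroup.mem_centralizer_singleton_iff.mp hbz) _ (S.coe_mem q))) (S.coe_mem q)))
      refine hσn (?_ : σ ∈ wHom.range)
      rw [show σ = 1 from Equiv.ext fun k => frameSet_injective ((hσ k).symm.trans (frame_fix_of_congr hcongr k))]
      exact one_mem _
  have hp2 : IsPGroup 2 P := by
    refine IsPGroup.of_card (n := 13) ?_
    rw [hP, Nat.card_congr (Subgroup.subgroupOfEquivOfLe hPC).toEquiv,
      ← Nat.card_congr (Subgroup.equivMapOfInjective _ _ (Subgroup.subtype_injective _)).toEquiv,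
      ← Nat.card_congr (Subgroup.equivMapOfInjective _ _ (Subgroup.subtype_injective _)).toEquiv, hF.1.2.2.2.1]
  have hO : pCore 2 ↥C = P := by
    refine le_antisymm ?_ (HallCore.le_pCore hp2)
    haveI : (pCore 2 ↥C).Normal := inferInstance
    have hOin : ∀ (c : ↥C), c ∈ pCore 2 ↥C → ∀ hc0 : (c : X) ∈ G₀, c ∈ P := by
      intro c hc hc0
      let j : ↥(Subgroup.centralizer ({π ⟨z, hzT⟩} : Set ↥G₀)) →* ↥C :=
        (G₀.subtype.comp (Subgroup.subtype _)).codRestrict C fun d => Subgroup.mem_centralizer_singleton_iff.mpr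
          (congrArg Subtype.val (Subgroup.mem_centralizer_singleton_iff.mp d.2))
      have hj : Function.Injective j := fun a b h => Subtype.ext (Subtype.ext (congrArg (fun x : ↥C => (x : X)) h))
      have h1 : (pCore 2 ↥C).comap j ≤ Q₀ := by
        rw [← hFg]
        refine (HallCore.le_pCore ((HallCore.isPGroup_pCore 2 ↥C).comap_of_injective j hj)).trans ?_
        exact (ComponentsFitting.pCore_le_fitting Nat.prime_two).trans ComponentsFitting.fitting_le_gen
      exact ⟨_, ⟨⟨⟨c, hc0⟩, hinside c hc0⟩, h1 (show _ ∈ pCore 2 ↥C from hc), rfl⟩, rfl⟩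
    intro c hc
    by_cases hc0 : (c : X) ∈ G₀
    · exact hOin c hc hc0
    exfalso
    obtain ⟨b, g, σ, hbz, hb, hg, hσ, hσn⟩ := hout c hc0
    have hcomm : ∀ τ ∈ wHom.range, τ * σ = σ * τ := by
      rintro _ ⟨h, rfl⟩
      obtain ⟨k, hk1, hk2⟩ := exists_lift_conj S hy hy3 (g := (h : Co0)) (y₁ := y) hy3
        (by rw [hy, mem_W.mp h.2, mul_inv_cancel_right])
      have hkT : (k : G) ∈ Subgroup.centralizer (Y : Set G) :=
        (memT _).mpr (mul_inv_eq_iff_eq_mul.mp (congrArg Subtype.val hk2))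
      have hkC : ι ⟨k, hkT⟩ ∈ C := Subgroup.mem_centralizer_singleton_iff.mpr (by
        show ι ⟨k, hkT⟩ * ι ⟨z, hzT⟩ = ι ⟨z, hzT⟩ * ι ⟨k, hkT⟩
        rw [← map_mul, ← map_mul]
        exact congrArg ι (Subtype.ext (Subgroup.mem_centralizer_singleton_iff.mp k.2)))
      set c' : ↥C := ⟨_, hkC⟩
      have hd : c * c' * c⁻¹ * c'⁻¹ ∈ pCore 2 ↥C := by
        rw [mul_assoc c, mul_assoc c]
        exact mul_mem hc ((inferInstance : (pCore 2 ↥C).Normal).conj_mem _ (inv_mem hc) c')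
      have hdG : ((c * c' * c⁻¹ * c'⁻¹ : ↥C) : X) ∈ G₀ :=
        G₀.mul_mem ((Subgroup.normal_of_index_eq_two hidx).conj_mem _ ⟨_, rfl⟩ _) (G₀.inv_mem ⟨_, rfl⟩)
      obtain ⟨q, hq, hqe⟩ := (hPmem _).mp (hOin _ hd hdG)
      have h2 : (q : G)⁻¹ * ((b : G) * (k : G) * (b : G)⁻¹ * (k : G)⁻¹) ∈ Y := by
        have h3 : QuotientGroup.mk (Subgroup.inclusion hle q) = (QuotientGroup.mk
            (b * Subgroup.inclusion hle ⟨k, hkT⟩ * b⁻¹ * (Subgroup.inclusion hle ⟨k, hkT⟩)⁻¹) : X) := by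
          refine hqe.trans ?_
          simp only [Subgroup.coe_mul, Subgroup.coe_inv, QuotientGroup.mk_mul, QuotientGroup.mk_inv]
          rw [hb]
          rfl
        rw [QuotientGroup.eq, Subgroup.mem_subgroupOf] at h3
        exact h3
      obtain ⟨i, hi⟩ := hYmem _ h2
      let bC : Subgroup.centralizer ({z} : Set G) := ⟨b, hbz⟩
      have h4 : bC * k * bC⁻¹ * k⁻¹ = ⟨(q : G), hQC _ hq⟩ * y ^ i := by
        refine Subtype.ext ?_
        simp only [Subgroup.coe_mul, Subgroup.coe_inv, SubgroupClass.coe_zpow]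
        show _ = (q : G) * (y : G) ^ i
        rw [show (y : G) ^ i = _ from hi]
        show (b : G) * (k : G) * (b : G)⁻¹ * (k : G)⁻¹ = _
        group
      have h5 : phi e (g * (h : Co0) * g⁻¹ * (h : Co0)⁻¹) = phi e (uC ^ i) := by
        simp only [map_mul, map_inv, map_zpow, ← hg, ← hk1, ← hy]
        show QuotientGroup.mk' Q bC * QuotientGroup.mk' Q k * (QuotientGroup.mk' Q bC)⁻¹ * (QuotientGroup.mk' Q k)⁻¹ =
          QuotientGroup.mk' Q y ^ i
        rw [← map_inv, ← map_inv, ← map_mul, ← map_mul, ← map_mul, h4, map_mul, map_zpow]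
        have : QuotientGroup.mk' Q ⟨(q : G), hQC _ hq⟩ = 1 := by
          obtain ⟨w, hw, hwq⟩ := hq
          rw [show (⟨(q : G), hQC _ ⟨w, hw, hwq⟩⟩ : Subgroup.centralizer ({z} : Set G)) = w from
              Subtype.ext hwq.symm]
          exact (QuotientGroup.eq_one_iff _).mpr hw
        rw [this, one_mul]
      set x := g * (h : Co0) * g⁻¹ * (h : Co0)⁻¹ with hx
      have hxf : ∀ k, x • frameSet k = frameSet k := by
        have h6 : x * (uC ^ i)⁻¹ ∈ (phi e).ker := by
          rw [MonoidHom.mem_ker, map_mul, map_inv, h5, mul_inv_cancel]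
        rw [ker_phi] at h6
        have hu : ∀ k, uC ^ i • frameSet k = frameSet k := fun k =>
          zpow_mem (show uC ∈ MulAction.stabilizer Co0 (frameSet k) from uC_frame k) i
        intro k
        rw [show x = x * (uC ^ i)⁻¹ * uC ^ i by group, mul_smul, hu]
        rcases center_eq h6 with h7 | h7 <;> rw [h7]
        · exact one_smul _ _
        · exact neg_frame k
      refine Equiv.ext fun k => frameSet_injective ?_
      rw [Equiv.Perm.mul_apply, Equiv.Perm.mul_apply, ← wHom_frame, ← hσ, ← hσ, ← wHom_frame, ← mul_smul, ← mul_smul,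
        show g * (h : Co0) = x * ((h : Co0) * g) by rw [hx]; group, mul_smul x, mul_smul (h : Co0), hσ k,
        wHom_frame, hxf]
    refine hσn ?_
    rw [eq_one_of_comm hcomm]
    exact one_mem _
  refine ⟨G₀, π ⟨z, hzT⟩, Q₀, hQ₀n, hidx, hF, ?_, ⟨?_⟩⟩
  · show (generalizedFittingSubgroup ↥C).map C.subtype = _
    rw [CharTwoLocal.gen_eq_of_charTwo (show IsOfCharacteristicTwo ↥C from by
      show Subgroup.centralizer (pCore 2 ↥C : Set ↥C) ≤ pCore 2 ↥C
      rw [hO]; exact hcent), hO, hP, Subgroup.map_subgroupOf_eq_of_le hPC]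
  · refine (QuotientGroup.quotientMulEquivOfEq ?_).trans (QuotientGroup.quotientKerEquivRange ι)
    ext x
    rw [MonoidHom.mem_ker, ← map_one ι, hιeq, Subgroup.mem_subgroupOf, Subgroup.coe_one, mul_one,
      Subgroup.inv_mem_iff]

end Cfsg.Agent.MonsterFischer17
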