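import Cfsg.Agent.Lib.MonsterSevenLattice71
import Cfsg.Agent.Lib.MonsterBaby

/-!
For groups of Monster type: an element of order seven lying over the standard automorphism, its
centralisers in `Q` and in the centraliser of `z`.
-/

set_option autoImplicit false
set_option linter.style.haveILetI false
set_option linter.unusedSectionVars false

namespace Cfsg.Agent.MonsterSeven71

open Cfsg Cfsg.Agent.LargeExtraspecial Cfsg.Agent.MonsterLocal
open Cfsg.Agent.GolayBasic Cfsg.Agent.LeechBasic Cfsg.Agent.LeechAut Cfsg.Agent.LeechIndex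
open Cfsg.Agent.LeechStab Cfsg.Agent.MonsterSevenLattice71

/-- Two elements of prime order `p` are conjugate up to powers when `p ^ 2` does not divide the order. -/
theorem conj_of_prime {H : Type*} [Group H] [Finite H] (K : Subgroup H) {p : ℕ} [hp : Fact p.Prime]
    {a b : H} (ha : a ∈ K) (hb : b ∈ K) (hap : orderOf a = p) (hbp : orderOf b = p)
    (hK : ¬ p ^ 2 ∣ Nat.card K) : ∃ k ∈ K, ∃ j : ℕ, k * a * k⁻¹ = b ^ j := by
  have hfac : (Nat.card K).factorization p = 1 := by
    have h1 : p ∣ Nat.card K := hap ▸ (Subgroup.orderOf_mk a ha ▸ orderOf_dvd_natCard (⟨a, ha⟩ : K))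
    have h2 := (Nat.Prime.pow_dvd_iff_le_factorization hp.out Nat.card_pos.ne').not.mp hK
    have h3 := (Nat.Prime.dvd_iff_one_le_factorization hp.out Nat.card_pos.ne').mp h1
    omega
  have hc : ∀ c : K, orderOf (c : H) = p → Nat.card (Subgroup.zpowers c) = p ^ (Nat.card K).factorization p :=
    fun c hc => by rw [Nat.card_zpowers, ← Subgroup.orderOf_coe, hc, hfac, pow_one]
  obtain ⟨k, hk⟩ := MulAction.exists_smul_eq K
    (Sylow.ofCard _ (hc ⟨a, ha⟩ hap)) (Sylow.ofCard _ (hc ⟨b, hb⟩ hbp))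
  have hmem : k * ⟨a, ha⟩ * k⁻¹ ∈ Subgroup.zpowers (⟨b, hb⟩ : K) := by
    have h1 : k * ⟨a, ha⟩ * k⁻¹ ∈ ((k • Sylow.ofCard _ (hc ⟨a, ha⟩ hap) : Sylow p K) : Subgroup K) := by
      rw [Sylow.coe_subgroup_smul]
      exact ⟨⟨a, ha⟩, Subgroup.mem_zpowers _, rfl⟩
    rw [hk] at h1
    exact h1
  obtain ⟨j, hj⟩ := (isOfFinOrder_of_finite _).mem_powers_iff_mem_zpowers.mpr hmem
  exact ⟨k, k.2, j, (congrArg (fun c : K => (c : H)) hj).symm⟩

theorem eight_dvd (v w : leechLattice) : (8 : ℤ) ∣ dotInt (v : GolayPt → ℤ) w := eight_dvd_dot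

theorem b0_fix_sum (w : leechLattice) :
    b0 • (w + b0 • w + b0 ^ 2 • w + b0 ^ 3 • w + b0 ^ 4 • w + b0 ^ 5 • w + b0 ^ 6 • w) =
      w + b0 • w + b0 ^ 2 • w + b0 ^ 3 • w + b0 ^ 4 • w + b0 ^ 5 • w + b0 ^ 6 • w := by
  simp only [smul_add_vec, ← mul_smul, ← pow_succ', ← pow_two, Nat.reduceAdd, b0_pow_seven, one_smul]
  abel

variable {G : Type*} [Group G] [Finite G] {z : G}
  {Q : Subgroup (Subgroup.centralizer ({z} : Set G))} [Q.Normal]
  {e : (Subgroup.centralizer ({z} : Set G)) ⧸ Q ≃* Spor.Co1}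
  {ψ : leechLattice → Q ⧸ Subgroup.center Q}

/-- `x` is an element of order seven lying over `b0`. -/
structure Std (e : (Subgroup.centralizer ({z} : Set G)) ⧸ Q ≃* Spor.Co1) (x : G) : Prop where
  ord : orderOf x = 7
  hz : x ∈ Subgroup.centralizer ({z} : Set G)
  img : (QuotientGroup.mk ⟨x, hz⟩ : (Subgroup.centralizer ({z} : Set G)) ⧸ Q) = phi e b0

theorem phi_eq (e : (Subgroup.centralizer ({z} : Set G)) ⧸ Q ≃* Spor.Co1) {g h : Co0}
    (H : phi e g = phi e h) : g = h ∨ g = negAut * h := by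
  have h1 : g * h⁻¹ ∈ Subgroup.center Co0 := by
    rw [← ker_phi e, MonoidHom.mem_ker, map_mul, map_inv, H, mul_inv_cancel]
  rcases center_eq h1 with h2 | h2
  · exact Or.inl (mul_inv_eq_one.mp h2)
  · exact Or.inr (mul_inv_eq_iff_eq_mul.mp h2)

theorem phi_neg (e : (Subgroup.centralizer ({z} : Set G)) ⧸ Q ≃* Spor.Co1) : phi e negAut = 1 := by
  rw [← MonoidHom.mem_ker, ker_phi]; exact negAut_mem_center

/-- An automorphism of odd prime order is determined by its image. -/
theorem phi_eq_seven (e : (Subgroup.centralizer ({z} : Set G)) ⧸ Q ≃* Spor.Co1) {g h : Co0}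
    (hg : g ^ 7 = 1) (hh : h ^ 7 = 1) (H : phi e g = phi e h) : g = h := by
  rcases phi_eq e H with h1 | h1
  · exact h1
  exfalso
  have hc : Commute negAut h := (Subgroup.mem_center_iff.mp negAut_mem_center h).symm
  have h2 : (negAut * h) ^ 7 = negAut := by
    rw [hc.mul_pow, hh, mul_one, pow_succ, show (6 : ℕ) = 2 * 3 from rfl, pow_mul, pow_two,
      LeechCoOneSimple.negAut_sq, one_pow, one_mul]
  rw [← h1, hg] at h2
  exact negAut_ne_one h2.symm

theorem lift_iff {g : G} (hg : g ∈ Subgroup.centralizer ({z} : Set G)) {γ : Co0}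
    (h : (QuotientGroup.mk ⟨g, hg⟩ : (Subgroup.centralizer ({z} : Set G)) ⧸ Q) = phi e γ) :
    (QuotientGroup.mk γ : Spor.Co1) = e (QuotientGroup.mk ⟨g, hg⟩) := by
  rw [h]; exact (e.apply_symm_apply _).symm

namespace Std

variable (S : Setup Q e ψ) {x : G} (X : Std e x)
include S X

theorem cz : x * z = z * x := Subgroup.mem_centralizer_singleton_iff.mp X.hz

theorem pow_seven : x ^ 7 = 1 := X.ord ▸ pow_orderOf_eq_one x

/-- Lifts of fixed vectors commute with `x`. -/
theorem lift_comm {v : leechLattice} (hv : b0 • v = v) {q : Q} (hq : ψ v = QuotientGroup.mk q) :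
    Commute x (q : Subgroup.centralizer ({z} : Set G)).1 := by
  have h := S.iso.2.2.2 ⟨x, X.hz⟩ b0 (lift_iff X.hz X.img) v q hq
  rw [hv, hq, S.mk_eq] at h
  set u := ((q : Subgroup.centralizer ({z} : Set G)) : G) with hu
  simp only [Subgroup.coe_mul, Subgroup.coe_inv] at h
  rcases h with h | h
  · exact (mul_inv_eq_iff_eq_mul.mp h.symm)
  · exfalso
    have hzu : z * (z * u) = u := S.lh.toExt.z_mul_z_mul u
    have hstep : x * u * x⁻¹ = z * u := by
      calc x * u * x⁻¹ = z * (z * (x * u * x⁻¹)) := (S.lh.toExt.z_mul_z_mul _).symm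
        _ = z * u := by rw [← h]
    have hiter : ∀ n : ℕ, x ^ n * u * (x ^ n)⁻¹ = z ^ n * u := by
      intro n
      induction n with
      | zero => simp
      | succ n ih =>
        have hxzn : x * z ^ n = z ^ n * x := ((show Commute x z from cz S X).pow_right n).eq
        calc x ^ (n + 1) * u * (x ^ (n + 1))⁻¹ = x * (x ^ n * u * (x ^ n)⁻¹) * x⁻¹ := by
              rw [pow_succ']; group
          _ = (x * z ^ n) * u * x⁻¹ := by rw [ih]; group
          _ = z ^ n * (x * u * x⁻¹) := by rw [hxzn]; group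
          _ = z ^ (n + 1) * u := by rw [hstep, pow_succ]; group
    have h7 := hiter 7
    rw [pow_seven S X, pow_succ, show (6 : ℕ) = 2 * 3 from rfl, pow_mul, pow_two, S.lh.zz] at h7
    simp only [one_mul, inv_one, mul_one, one_pow] at h7
    exact S.lh.toExt.z_mul_ne u h7.symm

/-- A preimage in the automorphism group of an element normalising `⟨x⟩`. -/
theorem exists_lift {g : G} (hg : g ∈ Subgroup.centralizer ({z} : Set G)) {j : ℕ}
    (h : g * x = x ^ j * g) :
    ∃ γ : Co0, (QuotientGroup.mk ⟨g, hg⟩ : (Subgroup.centralizer ({z} : Set G)) ⧸ Q) = phi e γ ∧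
      γ * b0 = b0 ^ j * γ := by
  obtain ⟨γ, hγ⟩ := phi_surjective e (QuotientGroup.mk ⟨g, hg⟩)
  refine ⟨γ, hγ.symm, ?_⟩
  have h1 : phi e (γ * b0 * γ⁻¹) = phi e (b0 ^ j) := by
    rw [map_mul, map_mul, map_inv, map_pow, hγ, ← X.img, ← QuotientGroup.mk_inv, ← QuotientGroup.mk_mul,
      ← QuotientGroup.mk_mul, ← QuotientGroup.mk_pow]
    congr 1
    refine Subtype.ext ?_
    show g * x * g⁻¹ = x ^ j
    rw [h, mul_inv_cancel_right]
  refine mul_inv_eq_iff_eq_mul.mp (phi_eq_seven e ?_ ?_ h1)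
  · rw [conj_pow, b0_pow_seven, mul_one, mul_inv_cancel]
  · rw [← pow_mul, mul_comm, pow_mul, b0_pow_seven, one_pow]

/-- Centralising lifts of `v` means stabilising the class of `v`. -/
theorem mem_classStab {g : G} {hg : g ∈ Subgroup.centralizer ({z} : Set G)} {γ : Co0}
    (hγ : (QuotientGroup.mk ⟨g, hg⟩ : (Subgroup.centralizer ({z} : Set G)) ⧸ Q) = phi e γ)
    {v : leechLattice} {q : Q} (hq : ψ v = QuotientGroup.mk q)
    (hc : Commute g (q : Subgroup.centralizer ({z} : Set G)).1) : γ ∈ classStab v := by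
  rw [LeechStab.mem_classStab, ← S.psi_eq, S.iso.2.2.2 ⟨g, hg⟩ γ (lift_iff hg hγ) v q hq, hq, S.mk_eq]
  exact Or.inl (mul_inv_eq_iff_eq_mul.mpr hc.eq)

/-- The centre of the centraliser of `x` in `Q`. -/
theorem centre_R {q : G} (hq : q ∈ Q.map (Subgroup.centralizer ({z} : Set G)).subtype) (hxq : Commute x q)
    (hc : ∀ r ∈ Q.map (Subgroup.centralizer ({z} : Set G)).subtype, Commute x r → Commute q r) :
    q = 1 ∨ q = z := by
  obtain ⟨qc, hqc, rfl⟩ := hq
  refine S.lh.central ⟨qc, hqc, rfl⟩ ?_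
  rintro _ ⟨yc, hyc, rfl⟩
  obtain ⟨v, hv⟩ := S.iso.2.1 (QuotientGroup.mk ⟨qc, hqc⟩)
  obtain ⟨w, hw⟩ := S.iso.2.1 (QuotientGroup.mk ⟨yc, hyc⟩)
  have hbv : b0 ∈ classStab v := mem_classStab S X (hg := X.hz) X.img hv hxq
  have hmod : ∀ n : ℕ, (16 : ℤ) ∣
      dotInt (v : GolayPt → ℤ) (b0 ^ n • w : leechLattice) - dotInt (v : GolayPt → ℤ) w := by
    intro n
    obtain ⟨u, hu, eu⟩ := mem_twiceLeech.mp (LeechStab.mem_classStab.mp (pow_mem hbv n))
    have h1 := dotInt_smul (b0 ^ n) v w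
    have e1 : ((b0 ^ n • v : leechLattice) : GolayPt → ℤ) = (v : GolayPt → ℤ) + (u + u) := by
      rw [← two_nsmul, ← eu]; abel
    rw [e1, dotInt_add_left, dotInt_add_left] at h1
    obtain ⟨c, hc⟩ := eight_dvd ⟨u, hu⟩ (b0 ^ n • w)
    simp only at hc
    rw [hc] at h1
    exact ⟨-c, by rw [← h1]; ring⟩
  set s := w + b0 • w + b0 ^ 2 • w + b0 ^ 3 • w + b0 ^ 4 • w + b0 ^ 5 • w + b0 ^ 6 • w with hs
  obtain ⟨r, hr⟩ := QuotientGroup.mk_surjective (ψ s)
  have hxr := lift_comm S X (b0_fix_sum w) hr.symm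
  have hqr : (⟨qc, hqc⟩ : Q) * r = r * ⟨qc, hqc⟩ :=
    Subtype.ext (Subtype.ext (hc _ (S.coe_mem r) hxr).eq)
  have hd := (S.comm_iff hv hr.symm).mp hqr
  have hm := hmod 1
  rw [pow_one] at hm
  have hw16 : (16 : ℤ) ∣ dotInt (v : GolayPt → ℤ) w := by
    have h2 := hmod 2
    have h3 := hmod 3
    have h4 := hmod 4
    have h5 := hmod 5
    have h6 := hmod 6
    rw [hs] at hd
    simp only [AddSubgroup.coe_add, dotInt_comm (v : GolayPt → ℤ), dotInt_add_left] at hd
    simp only [dotInt_comm (v : GolayPt → ℤ)] at hm h2 h3 h4 h5 h6 ⊢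
    omega
  exact (congrArg (fun q : Q => ((q : Subgroup.centralizer ({z} : Set G)) : G))
    ((S.comm_iff hv hw.symm.symm).mpr hw16)).symm

/-- The centraliser in `C(z)` of `x` and of the centraliser of `x` in `Q`. -/
theorem cent_R {g : G} (hg : g * z = z * g) (hxg : Commute g x)
    (hc : ∀ r ∈ Q.map (Subgroup.centralizer ({z} : Set G)).subtype, Commute x r → Commute g r) :
    ∃ k : ℕ, g = x ^ k ∨ g = z * x ^ k := by
  have hgC : g ∈ Subgroup.centralizer ({z} : Set G) := Subgroup.mem_centralizer_singleton_iff.mpr hg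
  obtain ⟨γ, hγ, hγb⟩ := exists_lift S X hgC (j := 1) (by rw [pow_one]; exact hxg.eq)
  rw [pow_one] at hγb
  have hst : ∀ j, γ ∈ classStab (sv j) := fun j => by
    obtain ⟨q, hq⟩ := QuotientGroup.mk_surjective (ψ (sv j))
    exact mem_classStab S X hγ hq.symm (hc _ (S.coe_mem q) (lift_comm S X (b0_sv j) hq.symm))
  obtain ⟨k, hk⟩ := cent_case hst hγb
  have hphi : (QuotientGroup.mk ⟨g, hgC⟩ : (Subgroup.centralizer ({z} : Set G)) ⧸ Q) =
      QuotientGroup.mk (⟨x, X.hz⟩ ^ k) := by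
    rw [QuotientGroup.mk_pow, X.img, ← map_pow, hγ]
    rcases hk with rfl | rfl
    · rfl
    · rw [map_mul, phi_neg, one_mul]
  have hq : g * (x ^ k)⁻¹ ∈ Q.map (Subgroup.centralizer ({z} : Set G)).subtype := by
    refine ⟨⟨g, hgC⟩ * (⟨x, X.hz⟩ ^ k)⁻¹, ?_, rfl⟩
    show _ ∈ Q
    rw [← QuotientGroup.eq_one_iff, QuotientGroup.mk_mul, QuotientGroup.mk_inv, hphi, mul_inv_cancel]
  refine ⟨k, (centre_R S X hq ?_ ?_).imp mul_inv_eq_one.mp mul_inv_eq_iff_eq_mul.mp⟩
  · exact (hxg.symm.mul_right ((Commute.refl x).pow_right k).inv_right)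
  · intro r hr hxr
    exact (hc r hr hxr).mul_left ((hxr.pow_left k).inv_left)

/-- A subgroup of even order normalised by the centraliser of `x` contains `z`. -/
theorem even_normal {N : Subgroup G} (hNx : ∀ n ∈ N, Commute n x)
    (hN : ∀ g, Commute g x → ∀ n ∈ N, g * n * g⁻¹ ∈ N) (hev : 2 ∣ Nat.card N) : z ∈ N := by
  have hxz : Commute z x := (cz S X).symm
  let σ : Equiv.Perm N :=
    { toFun := fun n => ⟨z * n * z⁻¹, hN z hxz n n.2⟩
      invFun := fun n => ⟨z * n * z⁻¹, hN z hxz n n.2⟩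
      left_inv := fun n => Subtype.ext (by
        show z * (z * n * z⁻¹) * z⁻¹ = n
        calc z * (z * n * z⁻¹) * z⁻¹ = (z * z) * n * (z * z)⁻¹ := by group
          _ = n := by rw [S.lh.zz]; group)
      right_inv := fun n => Subtype.ext (by
        show z * (z * n * z⁻¹) * z⁻¹ = n
        calc z * (z * n * z⁻¹) * z⁻¹ = (z * z) * n * (z * z)⁻¹ := by group
          _ = n := by rw [S.lh.zz]; group) }
  obtain ⟨u, huN, hu2, hu1, huz⟩ : ∃ u ∈ N, u * u = 1 ∧ u ≠ 1 ∧ u * z = z * u := by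
    classical
    letI := Fintype.ofFinite N
    have hσ2 : σ ^ 2 = 1 := Equiv.ext fun n => by
      rw [pow_two, Equiv.Perm.mul_apply, Equiv.Perm.one_apply]; exact σ.left_inv n
    haveI := Fact.mk Nat.prime_two
    have h1 := Equiv.Perm.card_compl_support_modEq (p := 2) (n := 1) (σ := σ) (by rwa [pow_one])
    let F : Subgroup N := (Subgroup.centralizer ({z} : Set G)).subgroupOf N
    have hF : Nat.card F = σ.supportᶜ.card := by
      rw [← Fintype.card_coe, ← Nat.card_eq_fintype_card]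
      refine Nat.card_congr (Equiv.subtypeEquivRight fun n => ?_)
      rw [Finset.mem_compl, Equiv.Perm.notMem_support, Subgroup.mem_subgroupOf,
        Subgroup.mem_centralizer_singleton_iff]
      constructor
      · intro h; exact Subtype.ext (mul_inv_eq_iff_eq_mul.mpr h.symm)
      · intro h; exact (mul_inv_eq_iff_eq_mul.mp (congrArg Subtype.val h)).symm
    rw [← hF, ← Nat.card_eq_fintype_card] at h1
    have hd : 2 ∣ Nat.card F := by
      rw [Nat.ModEq] at h1
      omega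
    obtain ⟨u, hu⟩ := exists_prime_orderOf_dvd_card' 2 hd
    refine ⟨((u : N) : G), (u : N).2, ?_, ?_, Subgroup.mem_centralizer_singleton_iff.mp u.2⟩
    · have := pow_orderOf_eq_one u
      rw [hu, pow_two] at this
      exact congrArg (fun a : F => ((a : N) : G)) this
    · intro h
      have h' : u = 1 := Subtype.ext (Subtype.ext h)
      rw [h', orderOf_one] at hu
      norm_num at hu
  by_cases hR : ∀ r ∈ Q.map (Subgroup.centralizer ({z} : Set G)).subtype, Commute x r → Commute u r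
  · obtain ⟨k, hk | hk⟩ := cent_R S X huz (hNx u huN) hR
    · exfalso
      have h7 : u ^ 7 = 1 := by rw [hk, ← pow_mul, mul_comm, pow_mul, pow_seven S X, one_pow]
      rw [pow_succ, show (6 : ℕ) = 2 * 3 from rfl, pow_mul, pow_two, hu2, one_pow, one_mul] at h7
      exact hu1 h7
    · have h7 : u ^ 7 = z := by
        rw [hk, (show Commute z (x ^ k) from hxz.pow_right k).mul_pow, ← pow_mul, mul_comm k, pow_mul,
          pow_seven S X, one_pow, mul_one, pow_succ, show (6 : ℕ) = 2 * 3 from rfl, pow_mul, pow_two,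
          S.lh.zz, one_pow, one_mul]
      rw [← h7]
      exact pow_mem huN 7
  · push Not at hR
    obtain ⟨r, hr, hxr, hne⟩ := hR
    set c := r * u * r⁻¹ * u⁻¹ with hc
    have hcN : c ∈ N := mul_mem (hN r hxr.symm u huN) (inv_mem huN)
    have hcQ : c ∈ Q.map (Subgroup.centralizer ({z} : Set G)).subtype := by
      rw [show c = r * (u * r⁻¹ * u⁻¹) by rw [hc]; group]
      exact mul_mem hr (S.lh.norm u huz _ (inv_mem hr))
    have hc1 : c ≠ 1 := fun h => hne (mul_inv_eq_iff_eq_mul.mp (mul_inv_eq_one.mp h)).symm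
    by_cases hcz : c = z
    · rw [← hcz]; exact hcN
    obtain ⟨r', hr', hxr', hne'⟩ : ∃ r' ∈ Q.map (Subgroup.centralizer ({z} : Set G)).subtype,
        Commute x r' ∧ ¬ Commute c r' := by
      by_contra hno
      push Not at hno
      exact (centre_R S X hcQ (hNx c hcN).symm hno).elim hc1 hcz
    have e1 : r' * c * r'⁻¹ = z * c := by
      rcases S.lh.conj r' hr' c hcQ with h | h
      · exact absurd (mul_inv_eq_iff_eq_mul.mp h).symm hne'
      · exact h
    have := mul_mem (hN r' hxr'.symm c hcN) (inv_mem hcN)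
    rwa [e1, mul_inv_cancel_right] at this

/-- A normalised subgroup of odd order meets `C(z)` in powers of `x`. -/
theorem odd_normal {N : Subgroup G} (hNx : ∀ n ∈ N, Commute n x)
    (hN : ∀ g, Commute g x → ∀ n ∈ N, g * n * g⁻¹ ∈ N) (hodd : ¬ 2 ∣ Nat.card N) {w : G} (hw : w ∈ N)
    (hwz : w * z = z * w) : w ∈ Subgroup.zpowers x := by
  have hoN : Odd (Nat.card N) := Nat.not_even_iff_odd.mp fun h => hodd h.two_dvd
  obtain ⟨k, hk | hk⟩ := cent_R S X hwz (hNx w hw) (fun r hr hxr => by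
    have hcQ : r * w * r⁻¹ * w⁻¹ ∈ Q.map (Subgroup.centralizer ({z} : Set G)).subtype := by
      rw [show r * w * r⁻¹ * w⁻¹ = r * (w * r⁻¹ * w⁻¹) by group]
      exact mul_mem hr (S.lh.norm w hwz _ (inv_mem hr))
    have hc1 := S.lh.toExt.eq_one_of_mem_odd hoN (x := r * w * r⁻¹ * w⁻¹)
      (mul_mem (hN r hxr.symm w hw) (inv_mem hw)) hcQ
    exact (mul_inv_eq_iff_eq_mul.mp (mul_inv_eq_one.mp hc1)).symm)
  · rw [hk]; exact Subgroup.npow_mem_zpowers x k
  · exfalso
    have h7 : w ^ 7 = z := by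
      rw [hk, (show Commute z (x ^ k) from (show Commute x z from cz S X).symm.pow_right k).mul_pow,
        ← pow_mul, mul_comm k, pow_mul, pow_seven S X, one_pow, mul_one, pow_succ,
        show (6 : ℕ) = 2 * 3 from rfl, pow_mul, pow_two, S.lh.zz, one_pow, one_mul]
    exact S.lh.ne_one (S.lh.toExt.eq_one_of_mem_odd hoN (x := z) (h7 ▸ pow_mem hw 7) S.lh.mem)

/-- Lifts of the five vectors. -/
theorem exists_conjugates : ∃ y : Fin 5 → Q, (∀ k, ψ (wv k) = QuotientGroup.mk (y k)) ∧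
    (∀ k, Commute x ((y k : Subgroup.centralizer ({z} : Set G)) : G)) ∧
    (∀ k, IsConj z ((y k : Subgroup.centralizer ({z} : Set G)) : G) ∧
      ((y k : Subgroup.centralizer ({z} : Set G)) : G) ≠ z) ∧
    ¬ Commute ((y 0 : Subgroup.centralizer ({z} : Set G)) : G) ((y 3 : Subgroup.centralizer ({z} : Set G)) : G) := by
  choose y hy using fun k => QuotientGroup.mk_surjective (ψ (wv k))
  refine ⟨y, fun k => (hy k).symm, fun k => lift_comm S X (b0_wv k) (hy k).symm,
    fun k => S.conj_of_64 (wv_facts.1 k) (hy k).symm, fun h => wv_facts.2 ?_⟩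
  exact (S.comm_iff (hy 0).symm (hy 3).symm).mp (Subtype.ext (Subtype.ext h.eq))

/-- Nothing in `C(z)` inverting `x` centralises the five lifts. -/
theorem no_invert {g : G} (hg : g * z = z * g) (hgx : g * x = x⁻¹ * g) {y : Fin 5 → Q}
    (hy : ∀ k, ψ (wv k) = QuotientGroup.mk (y k))
    (hgy : ∀ k, Commute g ((y k : Subgroup.centralizer ({z} : Set G)) : G)) : False := by
  have hinv : x⁻¹ = x ^ 6 := inv_eq_of_mul_eq_one_right (by rw [← pow_succ']; exact pow_seven S X)
  rw [hinv] at hgx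
  have hgC : g ∈ Subgroup.centralizer ({z} : Set G) := Subgroup.mem_centralizer_singleton_iff.mpr hg
  obtain ⟨γ, hγ, hγb⟩ := exists_lift S X hgC hgx
  exact invert_case (fun j => mem_classStab_sv (fun k => mem_classStab S X hγ (hy k) (hgy k)) j) hγb

end Std

end Cfsg.Agent.MonsterSeven71
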