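import Cfsg.Agent.Lib.MonsterFive72

/-!
Groups of Monster type: an element of order 5 of the joint centralizer of `z` and a conjugate `s` in `Q`
has a power over a monomial conjugate of `u`.
-/

set_option autoImplicit false
set_option linter.style.haveILetI false

namespace Cfsg.Agent.MonsterFive72

open Cfsg Cfsg.Agent.LargeExtraspecial Cfsg.Agent.MonsterLocal
open Cfsg.Agent.LeechBasic Cfsg.Agent.LeechAut
open Cfsg.Agent.LeechFive72
open Cfsg.Agent.MonsterFischer17 (Xa comap_Xa card_Xa)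
open Cfsg.Agent.LeechStab (mono)

theorem v_five (j : ℕ) : (2 ^ j * (3 ^ 3 * 8855)).factorization 5 = 1 := by
  have h5 : Nat.Prime 5 := by norm_num
  rw [show 3 ^ 3 * 8855 = 5 * 47817 by norm_num, Nat.factorization_mul (by positivity) (by norm_num),
    Nat.factorization_mul (by norm_num) (by norm_num), Nat.factorization_pow, Finsupp.add_apply,
    Finsupp.add_apply, Finsupp.smul_apply, Nat.Prime.factorization_self h5,
    Nat.factorization_eq_zero_of_not_dvd (show ¬ 5 ∣ 2 by norm_num),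
    Nat.factorization_eq_zero_of_not_dvd (show ¬ 5 ∣ 47817 by norm_num)]
  simp

variable {G : Type*} [Group G] [Finite G] {z : G}
  {Q : Subgroup (Subgroup.centralizer ({z} : Set G))} [Q.Normal]
  {e : (Subgroup.centralizer ({z} : Set G)) ⧸ Q ≃* Spor.Co1}
  {ψ : leechLattice → Q ⧸ Subgroup.center Q} {a : Q}

theorem card_L (S : Setup Q e ψ) (ha : ψ (frame none) = QuotientGroup.mk a)
    (haz : ((a : Subgroup.centralizer ({z} : Set G)) : G) ≠ 1 ∧
      ((a : Subgroup.centralizer ({z} : Set G)) : G) ≠ z) :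
    (Nat.card ↥(Subgroup.centralizer ({z} : Set G) ⊓
      Subgroup.centralizer ({((a : Subgroup.centralizer ({z} : Set G)) : G)} : Set G))).factorization 5 = 1 := by
  set L := (Subgroup.centralizer ({z} : Set G)) ⊓
    Subgroup.centralizer ({((a : (Subgroup.centralizer ({z} : Set G))) : G)} : Set G) with hL
  let f : L →* (Subgroup.centralizer ({z} : Set G)) ⧸ Q :=
    (QuotientGroup.mk' Q).comp (Subgroup.inclusion inf_le_left)
  have hr : f.range = Xa a := by
    ext x
    constructor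
    · rintro ⟨l, rfl⟩
      exact ⟨Subgroup.inclusion inf_le_left l, l.2, rfl⟩
    · rintro ⟨c, hc, rfl⟩
      exact ⟨⟨(c : G), hc⟩, rfl⟩
  have hk : ∃ j, Nat.card f.ker = 2 ^ j := by
    haveI : Fact (Nat.Prime 2) := ⟨Nat.prime_two⟩
    refine IsPGroup.iff_card.mp fun x => ⟨2, Subtype.ext (Subtype.ext ?_)⟩
    have : (((x : L) : G)) ∈ Q.map (Subgroup.centralizer ({z} : Set G)).subtype :=
      ⟨_, (QuotientGroup.eq_one_iff _).mp x.2, rfl⟩
    exact S.lh.toExt.pow_four this
  obtain ⟨j, hj⟩ := hk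
  have h := Subgroup.card_eq_card_quotient_mul_card_subgroup f.ker
  rw [Nat.card_congr (QuotientGroup.quotientKerEquivRange f).toEquiv, hr, card_Xa S ha haz, hj] at h
  rw [h, show 2 ^ 21 * (3 ^ 3 * 8855) * 2 ^ j = 2 ^ (21 + j) * (3 ^ 3 * 8855) by rw [pow_add]; ring, v_five]

/-- A power of an element of order 5 of the joint centralizer lies over a monomial conjugate of `u`. -/
theorem five_over (S : Setup Q e ψ) (ha : ψ (frame none) = QuotientGroup.mk a)
    (haz : ((a : Subgroup.centralizer ({z} : Set G)) : G) ≠ 1 ∧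
      ((a : Subgroup.centralizer ({z} : Set G)) : G) ≠ z)
    {y : Subgroup.centralizer ({z} : Set G)} (hy5 : orderOf (y : G) = 5)
    (hya : (y : G) * ((a : Subgroup.centralizer ({z} : Set G)) : G) =
      ((a : Subgroup.centralizer ({z} : Set G)) : G) * (y : G)) :
    ∃ τ ∈ mono, ∃ i : ℕ, ¬ 5 ∣ i ∧ QuotientGroup.mk (y ^ i) = phi e (τ⁻¹ * uC * τ) := by
  haveI : Fact (Nat.Prime 5) := ⟨by norm_num⟩
  haveI := LeechOrder.finite_Co0
  have hyX : QuotientGroup.mk y ∈ Xa a :=
    ⟨y, ⟨y.2, Subgroup.mem_centralizer_singleton_iff.mpr hya⟩, rfl⟩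
  have huX : phi e uC ∈ Xa a := by
    have := uC_mem_mono
    rwa [← comap_Xa S ha haz] at this
  have hyord : orderOf (QuotientGroup.mk y : (Subgroup.centralizer ({z} : Set G)) ⧸ Q) = 5 := by
    have hy' : y ^ 5 = 1 := Subtype.ext (hy5 ▸ pow_orderOf_eq_one (y : G))
    refine orderOf_eq_prime (by rw [← QuotientGroup.mk_pow, hy', QuotientGroup.mk_one]) fun h => ?_
    have h4 : (y : G) ^ 4 = 1 := S.lh.toExt.pow_four ⟨y, (QuotientGroup.eq_one_iff _).mp h, rfl⟩
    have := orderOf_dvd_of_pow_eq_one h4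
    rw [hy5] at this
    norm_num at this
  have huord : orderOf (phi e uC) = 5 :=
    orderOf_eq_prime (by rw [← map_pow, uC_pow, map_one]) (phi_uC_ne_one e)
  have hX : ¬ 5 ^ 2 ∣ Nat.card (Xa a) := by rw [card_Xa S ha haz]; norm_num
  obtain ⟨k, hk, j, hj⟩ := MonsterSeven71.conj_of_prime (Xa a) hyX huX hyord huord hX
  obtain ⟨τ, rfl⟩ := phi_surjective e k
  have hτ : τ ∈ mono := by rw [← comap_Xa S ha haz]; exact hk
  have hj5 : ¬ 5 ∣ j := by
    rintro ⟨t, rfl⟩
    rw [pow_mul, ← huord, pow_orderOf_eq_one, one_pow, conj_eq_one_iff] at hj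
    rw [hj, orderOf_one] at hyord
    norm_num at hyord
  obtain ⟨i, hi⟩ : ∃ i, j * i % 5 = 1 := by
    have hr : j % 5 = 1 ∨ j % 5 = 2 ∨ j % 5 = 3 ∨ j % 5 = 4 := by omega
    rcases hr with h | h | h | h
    · exact ⟨1, by omega⟩
    · exact ⟨3, by omega⟩
    · exact ⟨2, by omega⟩
    · exact ⟨4, by omega⟩
  refine ⟨τ, hτ, i, fun ⟨t, ht⟩ => ?_, ?_⟩
  · subst ht
    rw [← mul_assoc, mul_comm j 5, mul_assoc, Nat.mul_mod_right] at hi
    norm_num at hi
  have h1 : phi e τ * QuotientGroup.mk (y ^ i) * (phi e τ)⁻¹ = phi e uC := by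
    rw [QuotientGroup.mk_pow, ← conj_pow, hj, ← pow_mul, ← pow_mod_orderOf, huord, hi, pow_one]
  rw [map_mul, map_mul, map_inv, ← h1]
  group

end Cfsg.Agent.MonsterFive72
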