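import Cfsg.Agent.Lib.MonsterSevenStd71
import Cfsg.Agent.Lib.CoprimeGen
import Cfsg.Agent.Lib.GenFittingStructure

/-!
For groups of Monster type: the centraliser of an element of order seven centralising `z` and a conjugate
of `z` in `Q` has a layer containing the conjugates of `z` in `Q` fixed by it; an inverting involution is
therefore outer on the layer; the automizer has order six.
-/

set_option autoImplicit false
set_option linter.style.haveILetI false
set_option linter.unusedSectionVars false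

open scoped symmDiff

namespace Cfsg.Agent.MonsterSeven71

open Cfsg Cfsg.Agent.LargeExtraspecial Cfsg.Agent.LargeExtraspecialPair Cfsg.Agent.MonsterLocal
open Cfsg.Agent.GolayBasic Cfsg.Agent.LeechBasic Cfsg.Agent.LeechAut Cfsg.Agent.LeechIndex
open Cfsg.Agent.LeechStab Cfsg.Agent.MonsterSevenLattice71

theorem mono_card_not_dvd : ¬ 7 ^ 2 ∣ Nat.card mono := by
  rw [LeechOrder.card_stabilizer_stdL]; norm_num

theorem centralizer_zpowers_eq {G : Type*} [Group G] (x g : G) :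
    g ∈ Subgroup.centralizer ((Subgroup.zpowers x : Subgroup G) : Set G) ↔ Commute g x := by
  rw [Subgroup.mem_centralizer_iff]
  constructor
  · intro h; exact (h x (Subgroup.mem_zpowers x)).symm
  · rintro h _ ⟨n, rfl⟩; exact ((h.symm).zpow_left n).eq

variable {G : Type*} [Group G] [Finite G] {z : G}
  {Q : Subgroup (Subgroup.centralizer ({z} : Set G))} [Q.Normal]
  {e : (Subgroup.centralizer ({z} : Set G)) ⧸ Q ≃* Spor.Co1}
  {ψ : leechLattice → Q ⧸ Subgroup.center Q}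

/-- `x` has order seven and centralises `z` and another conjugate of it in `Q`. -/
structure Axis (Q : Subgroup (Subgroup.centralizer ({z} : Set G))) (x : G) : Prop where
  ord : orderOf x = 7
  cz : x * z = z * x
  conj : ∃ s ∈ Q.map (Subgroup.centralizer ({z} : Set G)).subtype, IsConj z s ∧ s ≠ z ∧ x * s = s * x

theorem not_mem_of_seven (S : Setup Q e ψ) {g : G} (hg : orderOf g = 7) :
    g ∉ Q.map (Subgroup.centralizer ({z} : Set G)).subtype := by
  intro h
  have h4 := orderOf_dvd_of_pow_eq_one (S.lh.toExt.pow_four h)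
  rw [hg] at h4
  norm_num at h4

theorem mk_ne_one (S : Setup Q e ψ) {g : G} (hg : orderOf g = 7)
    (hz : g ∈ Subgroup.centralizer ({z} : Set G)) :
    (QuotientGroup.mk ⟨g, hz⟩ : (Subgroup.centralizer ({z} : Set G)) ⧸ Q) ≠ 1 := fun h =>
  not_mem_of_seven S hg ⟨⟨g, hz⟩, (QuotientGroup.eq_one_iff _).mp h, rfl⟩

/-- Move `x` over the standard automorphism. -/
theorem Axis.exists_std (S : Setup Q e ψ) {x : G} (A : Axis Q x) :
    ∃ (e' : (Subgroup.centralizer ({z} : Set G)) ⧸ Q ≃* Spor.Co1)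
      (ψ' : leechLattice → Q ⧸ Subgroup.center Q) (x₀ : G),
      Setup Q e' ψ' ∧ Std e' x₀ ∧ Subgroup.zpowers x₀ = Subgroup.zpowers x ∧
      ∃ m : Co0, e' = e.trans (MulAut.conj (QuotientGroup.mk m : Spor.Co1)) := by
  haveI := LeechOrder.finite_Co0
  haveI := Fact.mk (show (7 : ℕ).Prime by norm_num)
  obtain ⟨s, ⟨sc, hsc, rfl⟩, hs, hsz, hxs⟩ := A.conj
  obtain ⟨v, hv, hva⟩ := S.class64 (a := ⟨sc, hsc⟩) hs hsz
  obtain ⟨k, hk⟩ : ∃ k : Co0, k • frame none = v :=
    LeechOrbit.exists_smul_eq (N := 64) (Or.inr (Or.inr rfl)) (by exact_mod_cast sqNorm_frame none)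
      (by exact_mod_cast hv)
  set e₁ := e.trans (MulAut.conj (QuotientGroup.mk k⁻¹ : Spor.Co1)) with he₁
  have S₁ := S.twist k⁻¹
  have ha₁ : (fun v => ψ ((k⁻¹)⁻¹ • v)) (frame none) = QuotientGroup.mk (⟨sc, hsc⟩ : Q) := by
    simp only [inv_inv, hk, hva]
  have hsne := S.ne_central (by rw [hv]; norm_num) hv.le hva
  have hX := S₁.comap_X (a := ⟨sc, hsc⟩) ha₁ hsne
  rw [classStab_frame] at hX
  have hxC : x ∈ Subgroup.centralizer ({z} : Set G) := Subgroup.mem_centralizer_singleton_iff.mpr A.cz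
  set xb : (Subgroup.centralizer ({z} : Set G)) ⧸ Q := QuotientGroup.mk ⟨x, hxC⟩ with hxb
  have hxb1 : xb ≠ 1 := mk_ne_one S A.ord hxC
  have hxb7 : xb ^ 7 = 1 := by
    rw [hxb, ← QuotientGroup.mk_pow, ← QuotientGroup.mk_one]
    congr 1
    exact Subtype.ext (show x ^ 7 = 1 from A.ord ▸ pow_orderOf_eq_one x)
  obtain ⟨β, hβ⟩ := phi_surjective e₁ xb
  have hβm : β ∈ mono := by
    rw [← hX, Subgroup.mem_comap, hβ]
    refine ⟨⟨x, hxC⟩, ⟨hxC, Subgroup.mem_centralizer_singleton_iff.mpr ?_⟩, rfl⟩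
    exact hxs
  have h7 : (β ^ 8) ^ 7 = 1 := by
    have hcen : β ^ 7 = 1 ∨ β ^ 7 = negAut := center_eq (by
      rw [← ker_phi e₁, MonoidHom.mem_ker, map_pow, hβ, hxb7])
    rw [← pow_mul, mul_comm, pow_mul, show (8 : ℕ) = 2 * 4 from rfl, pow_mul, pow_two]
    rcases hcen with h | h <;> simp [h, LeechCoOneSimple.negAut_sq]
  have hphi8 : phi e₁ (β ^ 8) = xb := by rw [map_pow, hβ, pow_succ, hxb7, one_mul]
  have hord : orderOf (β ^ 8) = 7 := orderOf_eq_prime h7 (fun h => hxb1 (by rw [← hphi8, h, map_one]))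
  obtain ⟨m, -, j, hj⟩ := conj_of_prime (mono : Subgroup Co0) (pow_mem hβm 8) b0_mem hord orderOf_b0
    mono_card_not_dvd
  have S₂ := S₁.twist m
  have hx2 : phi (e₁.trans (MulAut.conj (QuotientGroup.mk m : Spor.Co1))) (b0 ^ j) = xb := by
    rw [← hj, ← hphi8]
    show e₁.symm ((MulAut.conj (QuotientGroup.mk m : Spor.Co1)).symm (QuotientGroup.mk (m * β ^ 8 * m⁻¹))) =
      e₁.symm (QuotientGroup.mk (β ^ 8))
    rw [MulAut.conj_symm_apply, QuotientGroup.mk_mul, QuotientGroup.mk_mul, QuotientGroup.mk_inv]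
    group
  have hj7 : j % 7 ≠ 0 := fun h => hxb1 (by
    rw [← hx2, pow_eq_pow_mod j b0_pow_seven, h, pow_zero, map_one])
  obtain ⟨i, hi, hij⟩ : ∃ i, i % 7 ≠ 0 ∧ j * i % 7 = 1 := by
    have hlt := Nat.mod_lt j (show 0 < 7 by norm_num)
    have h : ∀ r < 7, r ≠ 0 → ∃ i < 7, i % 7 ≠ 0 ∧ r * i % 7 = 1 := by decide
    obtain ⟨i, -, hi, hri⟩ := h _ hlt hj7
    exact ⟨i, hi, by rw [← Nat.mod_mul_mod]; exact hri⟩
  refine ⟨_, _, x ^ i, S₂, ⟨?_, pow_mem hxC i, ?_⟩, ?_, m * k⁻¹, ?_⟩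
  · have hcop : Nat.Coprime (orderOf x) i := by
      rw [A.ord, Nat.Prime.coprime_iff_not_dvd (by norm_num)]
      omega
    rw [Nat.Coprime.orderOf_pow hcop, A.ord]
  · show (QuotientGroup.mk (⟨x, hxC⟩ ^ i) : (Subgroup.centralizer ({z} : Set G)) ⧸ Q) = _
    rw [QuotientGroup.mk_pow, ← hxb, ← hx2, ← map_pow, ← pow_mul, pow_eq_pow_mod (j * i) b0_pow_seven,
      hij, pow_one]
  · refine le_antisymm (Subgroup.zpowers_le.mpr (Subgroup.npow_mem_zpowers x i)) (Subgroup.zpowers_le.mpr ?_)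
    refine ⟨(j : ℤ), ?_⟩
    show (x ^ i) ^ (j : ℤ) = x
    rw [zpow_natCast, ← pow_mul, ← pow_mod_orderOf, A.ord, mul_comm, hij, pow_one]
  · refine MulEquiv.ext fun q => ?_
    simp only [he₁, MulEquiv.trans_apply, MulAut.conj_apply, QuotientGroup.mk_mul]
    group

theorem commute_iff {x x₀ : G} (h : Subgroup.zpowers x₀ = Subgroup.zpowers x) (g : G) :
    Commute g x₀ ↔ Commute g x := by
  rw [← centralizer_zpowers_eq, ← centralizer_zpowers_eq, h]

theorem commute_iff' {x x₀ : G} (h : Subgroup.zpowers x₀ = Subgroup.zpowers x) (g : G) :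
    Commute x₀ g ↔ Commute x g :=
  ⟨fun H => ((commute_iff h g).mp H.symm).symm, fun H => ((commute_iff h g).mpr H.symm).symm⟩

theorem Axis.even (S : Setup Q e ψ) {x : G} (A : Axis Q x) {N : Subgroup G} (hNx : ∀ n ∈ N, Commute n x)
    (hN : ∀ g, Commute g x → ∀ n ∈ N, g * n * g⁻¹ ∈ N) (hev : 2 ∣ Nat.card N) : z ∈ N := by
  obtain ⟨e', ψ', x₀, S', X, hz, -⟩ := A.exists_std S
  exact Std.even_normal S' X (fun n hn => (commute_iff hz n).mpr (hNx n hn))
    (fun g hg => hN g ((commute_iff hz g).mp hg)) hev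

theorem Axis.odd (S : Setup Q e ψ) {x : G} (A : Axis Q x) {N : Subgroup G} (hNx : ∀ n ∈ N, Commute n x)
    (hN : ∀ g, Commute g x → ∀ n ∈ N, g * n * g⁻¹ ∈ N) (hodd : ¬ 2 ∣ Nat.card N) {w : G} (hw : w ∈ N)
    (hwz : w * z = z * w) : w ∈ Subgroup.zpowers x := by
  obtain ⟨e', ψ', x₀, S', X, hz, -⟩ := A.exists_std S
  exact hz ▸ Std.odd_normal S' X (fun n hn => (commute_iff hz n).mpr (hNx n hn))
    (fun g hg => hN g ((commute_iff hz g).mp hg)) hodd hw hwz

theorem Axis.transport (S : Setup Q e ψ) {x : G} (A : Axis Q x) {g : G}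
    (hy : g * z * g⁻¹ ∈ Q.map (Subgroup.centralizer ({z} : Set G)).subtype) (hne : g * z * g⁻¹ ≠ z)
    (hxy : Commute x (g * z * g⁻¹)) : Axis Q (g⁻¹ * x * g) := by
  refine ⟨?_, ?_, g⁻¹ * z * g, ?_, isConj_iff.mpr ⟨g⁻¹, by rw [inv_inv]⟩, ?_, ?_⟩
  · rw [← A.ord]
    exact ((MulAut.conj g⁻¹).orderOf_eq x).symm.trans (congrArg orderOf (by simp)) |>.symm
  · calc g⁻¹ * x * g * z = g⁻¹ * (x * (g * z * g⁻¹)) * g := by group
      _ = g⁻¹ * (g * z * g⁻¹ * x) * g := by rw [hxy.eq]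
      _ = z * (g⁻¹ * x * g) := by group
  · obtain ⟨q, hq, hqz⟩ := S.lh.z_mem_conj (g := g) hy hne (by rw [S.card]; norm_num)
    have : g⁻¹ * z * g = q := by
      rw [← hqz]; simp only [MulEquiv.coe_toMonoidHom, MulAut.conj_apply]; group
    rwa [this]
  · intro h
    apply hne
    calc g * z * g⁻¹ = g * (g⁻¹ * z * g) * g⁻¹ := by rw [h]
      _ = z := by group
  · calc g⁻¹ * x * g * (g⁻¹ * z * g) = g⁻¹ * (x * z) * g := by group
      _ = g⁻¹ * (z * x) * g := by rw [A.cz]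
      _ = g⁻¹ * z * g * (g⁻¹ * x * g) := by group

theorem conj_subgroup {x g : G} {N : Subgroup G} (hNx : ∀ n ∈ N, Commute n x)
    (hN : ∀ a, Commute a x → ∀ n ∈ N, a * n * a⁻¹ ∈ N) :
    (∀ n ∈ N.map (MulAut.conj g⁻¹).toMonoidHom, Commute n (g⁻¹ * x * g)) ∧
    (∀ a, Commute a (g⁻¹ * x * g) → ∀ n ∈ N.map (MulAut.conj g⁻¹).toMonoidHom,
      a * n * a⁻¹ ∈ N.map (MulAut.conj g⁻¹).toMonoidHom) ∧
    Nat.card ↥(N.map (MulAut.conj g⁻¹).toMonoidHom) = Nat.card N := by
  refine ⟨?_, ?_, (Nat.card_congr (Subgroup.equivMapOfInjective N _ (MulAut.conj g⁻¹).injective).toEquiv).symm⟩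
  · rintro _ ⟨n, hn, rfl⟩
    have := (hNx n hn).map (MulAut.conj g⁻¹).toMonoidHom
    simpa using this
  · rintro a ha _ ⟨n, hn, rfl⟩
    refine ⟨g * a * g⁻¹ * n * (g * a * g⁻¹)⁻¹, hN _ ?_ n hn, ?_⟩
    · have := ha.map (MulAut.conj g).toMonoidHom
      simpa [mul_assoc] using this
    · simp only [MulEquiv.coe_toMonoidHom, MulAut.conj_apply, inv_inv]
      group

/-- Every conjugate of `z` in `Q` fixed by `x` lies in an even normalised subgroup. -/
theorem Axis.even' (S : Setup Q e ψ) {x : G} (A : Axis Q x) {N : Subgroup G} (hNx : ∀ n ∈ N, Commute n x)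
    (hN : ∀ g, Commute g x → ∀ n ∈ N, g * n * g⁻¹ ∈ N) (hev : 2 ∣ Nat.card N) {y : G}
    (hy : y ∈ Q.map (Subgroup.centralizer ({z} : Set G)).subtype) (hyc : IsConj z y) (hxy : Commute x y) :
    y ∈ N := by
  by_cases hne : y = z
  · rw [hne]; exact A.even S hNx hN hev
  obtain ⟨g, rfl⟩ := isConj_iff.mp hyc
  obtain ⟨h1, h2, h3⟩ := conj_subgroup (g := g) hNx hN
  obtain ⟨n, hn, hnz⟩ := (A.transport S hy hne hxy).even S h1 h2 (h3 ▸ hev)
  have : g * z * g⁻¹ = n := by
    rw [← hnz]; simp only [MulEquiv.coe_toMonoidHom, MulAut.conj_apply]; group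
  rwa [this]

theorem Axis.odd' (S : Setup Q e ψ) {x : G} (A : Axis Q x) {N : Subgroup G} (hNx : ∀ n ∈ N, Commute n x)
    (hN : ∀ g, Commute g x → ∀ n ∈ N, g * n * g⁻¹ ∈ N) (hodd : ¬ 2 ∣ Nat.card N) {y w : G}
    (hy : y ∈ Q.map (Subgroup.centralizer ({z} : Set G)).subtype) (hyc : IsConj z y) (hxy : Commute x y)
    (hw : w ∈ N) (hwy : w * y = y * w) : w ∈ Subgroup.zpowers x := by
  by_cases hne : y = z
  · exact A.odd S hNx hN hodd hw (hne ▸ hwy)
  obtain ⟨g, rfl⟩ := isConj_iff.mp hyc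
  obtain ⟨h1, h2, h3⟩ := conj_subgroup (g := g) hNx hN
  have h4 := (A.transport S hy hne hxy).odd S h1 h2 (h3 ▸ hodd) ⟨w, hw, rfl⟩ (by
    simp only [MulEquiv.coe_toMonoidHom, MulAut.conj_apply, inv_inv]
    calc g⁻¹ * w * g * z = g⁻¹ * (w * (g * z * g⁻¹)) * g := by group
      _ = g⁻¹ * (g * z * g⁻¹ * w) * g := by rw [hwy]
      _ = z * (g⁻¹ * w * g) := by group)
  obtain ⟨n, hn⟩ := h4
  refine ⟨n, ?_⟩
  simp only [MulEquiv.coe_toMonoidHom, MulAut.conj_apply, inv_inv] at hn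
  show x ^ n = w
  have h5 : (MulAut.conj g⁻¹) (x ^ n) = g⁻¹ * w * g := by
    rw [map_zpow, MulAut.conj_apply, inv_inv]; exact hn
  rw [MulAut.conj_apply, inv_inv] at h5
  calc x ^ n = g * (g⁻¹ * x ^ n * g) * g⁻¹ := by group
    _ = w := by rw [h5]; group

variable (S : Setup Q e ψ) {x : G} (A : Axis Q x)
include S A

/-- The five conjugates of `z`, in the centraliser of `x`. -/
theorem Axis.exists_five : ∃ y : Fin 5 → G, (∀ k, y k ∈ Q.map (Subgroup.centralizer ({z} : Set G)).subtype) ∧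
    (∀ k, IsConj z (y k) ∧ y k ≠ z ∧ Commute x (y k)) ∧ ¬ Commute (y 0) (y 3) ∧
    ∀ g : G, g * z = z * g → g * x = x⁻¹ * g → (∀ k, Commute g (y k)) → False := by
  obtain ⟨e', ψ', x₀, S', X, hz, -⟩ := A.exists_std S
  obtain ⟨y, hy, hxy, hyc, hne⟩ := Std.exists_conjugates S' X
  refine ⟨fun k => ((y k : Subgroup.centralizer ({z} : Set G)) : G), fun k => S'.coe_mem (y k),
    fun k => ⟨(hyc k).1, (hyc k).2, (commute_iff' hz _).mp (hxy k)⟩, hne, fun g hg hgx hgy => ?_⟩
  refine Std.no_invert S' X hg ?_ hy hgy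
  obtain ⟨n, hn⟩ : x₀ ∈ Subgroup.zpowers x := hz ▸ Subgroup.mem_zpowers x₀
  rw [← show x ^ n = x₀ from hn]
  have h1 : SemiconjBy g x x⁻¹ := hgx
  have h2 := h1.zpow_right n
  rwa [inv_zpow] at h2

/-- An odd normal subgroup of the centraliser of `x` lies in `⟨x⟩`. -/
theorem Axis.odd_le {N : Subgroup G} (hNx : ∀ n ∈ N, Commute n x)
    (hN : ∀ g, Commute g x → ∀ n ∈ N, g * n * g⁻¹ ∈ N) (hodd : ¬ 2 ∣ Nat.card N) :
    N ≤ Subgroup.zpowers x := by
  haveI := Fact.mk Nat.prime_two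
  obtain ⟨s, hsQ, hs, hsz, hxs⟩ := A.conj
  have hss : s * s = 1 := by
    obtain ⟨g, rfl⟩ := isConj_iff.mp hs
    calc g * z * g⁻¹ * (g * z * g⁻¹) = g * (z * z) * g⁻¹ := by group
      _ = 1 := by rw [S.lh.zz]; group
  have hzs : Commute z s := (S.lh.comm s hsQ).symm
  have hnorm : ∀ a, Commute a x → a ∈ Subgroup.normalizer (N : Set G) := fun a ha => by
    rw [Subgroup.mem_normalizer_iff]
    refine fun n => ⟨hN a ha n, fun hn => ?_⟩
    have := hN a⁻¹ ha.inv_left _ hn
    simpa [mul_assoc] using this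
  refine CoprimeGen.le_of_pair_centralizers (p := 2) (a := s) (b := z) (H := Subgroup.zpowers x)
    ⟨hzs.symm, by rw [pow_two]; exact hss, by rw [pow_two]; exact S.lh.zz, S.lh.ne_one, ?_,
      hnorm s (show Commute x s from hxs).symm, hnorm z (show Commute x z from A.cz).symm⟩ hodd ?_
  · intro h
    rcases S.lh.toExt.eq_of_mem_zpowers h with h | h
    · rw [h, isConj_one_left] at hs
      exact S.lh.ne_one hs
    · exact hsz h
  · rintro a ha ha1 w ⟨hwN, hwa⟩
    have hwa' : w * a = a * w := Subgroup.mem_centralizer_singleton_iff.mp hwa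
    obtain ⟨m, n, rfl⟩ := CoprimeGen.mem_pairSubgroup_iff.mp ha
    have h2 : ∀ (b : G), b * b = 1 → ∀ i : ℤ, b ^ i = 1 ∨ b ^ i = b := fun b hb i => by
      rcases Int.even_or_odd i with ⟨c, rfl⟩ | ⟨c, rfl⟩
      · left; rw [← two_mul, zpow_mul, zpow_two, hb, one_zpow]
      · right; rw [zpow_add, zpow_mul, zpow_two, hb, one_zpow, zpow_one, one_mul]
    rcases h2 s hss m with e1 | e1 <;> rcases h2 z S.lh.zz n with e2 | e2 <;>
      rw [e1, e2] at hwa' ha1 <;> (try simp only [one_mul, mul_one] at hwa' ha1)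
    · exact absurd rfl ha1
    · exact A.odd S hNx hN hodd hwN hwa'
    · exact A.odd' S hNx hN hodd hsQ hs hxs hwN hwa'
    · have hsz' : s * z ∈ Q.map (Subgroup.centralizer ({z} : Set G)).subtype := mul_mem hsQ S.lh.mem
      have hs1 : s ≠ 1 := fun h => S.lh.ne_one (by rw [h, isConj_one_left] at hs; exact hs)
      obtain ⟨q, hq, hqs⟩ := S.lh.partner s hsQ hs1 hsz
      refine A.odd' S hNx hN hodd hsz' ?_ ((show Commute x s from hxs).mul_right A.cz) hwN hwa'
      exact hs.trans (isConj_iff.mpr ⟨q, by rw [hqs]; exact hzs.eq⟩)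

/-- The layer of the centraliser of `x` contains `z` and its conjugates in `Q` centralised by `x`. -/
theorem Axis.layer_mem {y : G} (hy : y ∈ Q.map (Subgroup.centralizer ({z} : Set G)).subtype)
    (hyc : IsConj z y) (hxy : Commute x y) (X : Subgroup G) (hX : ∀ g, g ∈ X ↔ Commute g x) :
    y ∈ (layer X).map X.subtype := by
  have aux : ∀ (N : Subgroup X), N.Normal → (∀ n ∈ N.map X.subtype, Commute n x) ∧
      (∀ g, Commute g x → ∀ n ∈ N.map X.subtype, g * n * g⁻¹ ∈ N.map X.subtype) ∧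
      Nat.card ↥(N.map X.subtype) = Nat.card N := fun N hN => by
    refine ⟨?_, ?_, (Nat.card_congr (Subgroup.equivMapOfInjective N _ X.subtype_injective).toEquiv).symm⟩
    · rintro _ ⟨n, -, rfl⟩; exact (hX n).mp n.2
    · rintro g hg _ ⟨n, hn, rfl⟩
      exact ⟨⟨g, (hX g).mpr hg⟩ * n * ⟨g, (hX g).mpr hg⟩⁻¹, hN.conj_mem n hn _, rfl⟩
  have hodd_le : ∀ (N : Subgroup X), N.Normal → ¬ 2 ∣ Nat.card N → ∀ n ∈ N, (n : G) ∈ Subgroup.zpowers x := by
    intro N hN hodd n hn
    obtain ⟨h1, h2, h3⟩ := aux N hN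
    exact A.odd_le S h1 h2 (by rwa [h3]) ⟨n, hn, rfl⟩
  have hcentral : ∀ (n : X), (n : G) ∈ Subgroup.zpowers x → n ∈ Subgroup.center X := by
    intro n hn
    refine Subgroup.mem_center_iff.mpr fun g => Subtype.ext ?_
    obtain ⟨k, hk⟩ := hn
    show (g : G) * n = n * g
    rw [← show x ^ k = (n : G) from hk]
    exact (((hX g).mp g.2).zpow_right k).eq
  obtain ⟨h1, h2, h3⟩ := aux (layer X) inferInstance
  refine A.even' S h1 h2 ?_ hy hyc hxy
  rw [h3]
  by_contra hodd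
  have hbot : layer X = ⊥ := by
    rw [eq_bot_iff, ← ComponentsBasic.layer_perfect (G := X), Subgroup.commutator_le]
    intro a ha b hb
    have := Subgroup.mem_center_iff.mp (hcentral a (hodd_le _ inferInstance hodd a ha)) b
    rw [Subgroup.mem_bot, commutatorElement_eq_one_iff_mul_comm]
    exact this.symm
  have hC := ComponentsFitting.centralizer_fitting_le_of_layer_eq_bot hbot
  -- the Fitting subgroup is odd
  have hFodd : ¬ 2 ∣ Nat.card (fittingSubgroup X) := by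
    intro hev
    haveI := Fact.mk Nat.prime_two
    haveI : (fittingSubgroup X).Normal := inferInstance
    obtain ⟨P⟩ := (inferInstance : Nonempty (Sylow 2 (fittingSubgroup X)))
    haveI : (P : Subgroup (fittingSubgroup X)).Normal := inferInstance
    haveI : (P : Subgroup (fittingSubgroup X)).Characteristic := P.characteristic_of_normal inferInstance
    set P' := (P : Subgroup (fittingSubgroup X)).map (fittingSubgroup X).subtype with hP'
    haveI : P'.Normal := inferInstance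
    set Z := (Subgroup.center P').map P'.subtype with hZ
    haveI : Z.Normal := inferInstance
    have hP2 : IsPGroup 2 P' := P.2.map _
    have hPne : Nontrivial P' := by
      rw [Subgroup.nontrivial_iff_ne_bot, Ne, hP', Subgroup.map_eq_bot_iff_of_injective _
        (fittingSubgroup X).subtype_injective]
      exact P.ne_bot_of_dvd_card hev
    haveI := hP2.center_nontrivial
    have hZev : 2 ∣ Nat.card Z := by
      rw [hZ, ← Nat.card_congr (Subgroup.equivMapOfInjective _ _ P'.subtype_injective).toEquiv]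
      obtain ⟨n, hn0, hn⟩ := (hP2.to_subgroup (Subgroup.center P')).nontrivial_iff_card.mp inferInstance
      exact hn ▸ dvd_pow_self 2 hn0.ne'
    obtain ⟨k1, k2, k3⟩ := aux Z inferInstance
    obtain ⟨y', hy'Q, hy', hnc, -⟩ := A.exists_five S
    have hin : ∀ k, y' k ∈ Z.map X.subtype := fun k =>
      A.even' S k1 k2 (k3.symm ▸ hZev) (hy'Q k) (hy' k).1 (hy' k).2.2
    obtain ⟨_, ⟨a, ha, rfl⟩, ea⟩ := hin 0
    obtain ⟨_, ⟨b, hb, rfl⟩, eb⟩ := hin 3
    apply hnc
    rw [← ea, ← eb]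
    exact congrArg (fun c : P' => (((c : X)) : G)) (Subgroup.mem_center_iff.mp hb a)
  -- so it is central
  have hzX : z ∈ X := (hX z).mpr (show Commute x z from A.cz).symm
  have hzF : (⟨z, hzX⟩ : X) ∈ fittingSubgroup X := hC (by
    rw [Subgroup.mem_centralizer_iff]
    intro f hf
    exact (Subgroup.mem_center_iff.mp (hcentral f (hodd_le _ inferInstance hFodd f hf)) _).symm)
  have h1 := hodd_le _ inferInstance hFodd _ hzF
  have h7 : orderOf z ∣ 7 := by
    rw [← A.ord, ← Nat.card_zpowers x]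
    exact Subgroup.orderOf_mk z h1 ▸ orderOf_dvd_natCard (⟨z, h1⟩ : Subgroup.zpowers x)
  rw [S.lh.toExt.orderOf_z] at h7
  norm_num at h7

/-- An element inverting `x` does not act as an inner automorphism on the layer. -/
theorem Axis.outer (X : Subgroup G) (hX : ∀ g, g ∈ X ↔ Commute g x) {t : G} (ht : t * x = x⁻¹ * t) :
    ¬ ∃ l ∈ (layer X).map X.subtype, ∀ a ∈ (layer X).map X.subtype, t * a * t⁻¹ = l * a * l⁻¹ := by
  rintro ⟨l, hl, hla⟩
  obtain ⟨y, hyQ, hy, -, hno⟩ := A.exists_five S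
  have hlx : Commute l x := by
    obtain ⟨l, -, rfl⟩ := hl
    exact (hX l).mp l.2
  have hfix : ∀ a ∈ (layer X).map X.subtype, Commute (l⁻¹ * t) a := fun a ha => by
    show l⁻¹ * t * a = a * (l⁻¹ * t)
    calc l⁻¹ * t * a = l⁻¹ * (t * a * t⁻¹) * t := by group
      _ = l⁻¹ * (l * a * l⁻¹) * t := by rw [hla a ha]
      _ = a * (l⁻¹ * t) := by group
  refine hno (l⁻¹ * t) (hfix z (A.layer_mem S S.lh.mem (IsConj.refl z) A.cz X hX)).eq ?_
    fun k => hfix _ (A.layer_mem S (hyQ k) (hy k).1 (hy k).2.2 X hX)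
  calc l⁻¹ * t * x = l⁻¹ * x⁻¹ * t := by rw [mul_assoc, ht, mul_assoc]
    _ = x⁻¹ * (l⁻¹ * t) := by rw [hlx.inv_inv.eq, mul_assoc]

omit A

/-- Some preimage of a sign change is an involution. -/
theorem exists_sign_involution (c : CodeSupp) (hc : c.1 ≠ ∅ ∧ c.1 ≠ Finset.univ) :
    ∃ (r : G) (hr : r ∈ Subgroup.centralizer ({z} : Set G)), r * r = 1 ∧
      (QuotientGroup.mk ⟨r, hr⟩ : (Subgroup.centralizer ({z} : Set G)) ⧸ Q) = phi e (signElt c) := by
  haveI := LeechOrder.finite_Co0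
  obtain ⟨a, ha⟩ := QuotientGroup.mk_surjective (ψ (frame none))
  have hfn : sqNorm (frame none : GolayPt → ℤ) = 64 := sqNorm_frame none
  obtain ⟨hca, hane⟩ := S.conj_of_64 hfn ha.symm
  obtain ⟨g, hg⟩ := isConj_iff.mp hca
  obtain ⟨-, hI13, hEX, hEn, -, hE11, -⟩ := S.core hg hane rfl rfl
  have haz := S.ne_central (by rw [hfn]; norm_num) hfn.le ha.symm
  set s := ((a : Subgroup.centralizer ({z} : Set G)) : G) with hs
  set Qg := Q.map (Subgroup.centralizer ({z} : Set G)).subtype with hQg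
  set R := Qg.map (MulAut.conj g).toMonoidHom with hR
  set E := ((R ⊓ Subgroup.centralizer ({z} : Set G)).subgroupOf
    (Subgroup.centralizer ({z} : Set G))).map (QuotientGroup.mk' Q) with hE
  have P : Pair Qg R z s := by
    have := pair_of_conj S.lh (g := g) (by rw [hg]; exact S.coe_mem a) (by rw [hg]; exact hane)
      (by rw [S.card]; norm_num)
    rwa [hg] at this
  set A := E.comap (phi e) with hA
  have hXc := S.comap_X ha.symm haz
  rw [classStab_frame] at hXc
  have hAle : A ≤ mono := hXc ▸ Subgroup.comap_mono hEX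
  have hAn : ∀ x ∈ mono, ∀ y ∈ A, x * y * x⁻¹ ∈ A := by
    intro x hx y hy
    rw [← hXc] at hx
    show phi e (x * y * x⁻¹) ∈ E
    rw [map_mul, map_mul, map_inv]
    exact hEn _ hx _ hy
  have hA12 : Nat.card A = 2 ^ 12 := by
    rw [hA, card_comap_phi, hE11]; norm_num
  choose f hf using fun x : A => cross_signs (IsPGroup.of_card (p := 2) (n := 12) hA12) hAle hAn x.1 x.2
  have hfinj : Function.Injective f := fun x y h =>
    Subtype.ext ((hf x).trans ((congrArg signElt h).trans (hf y).symm))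
  obtain ⟨u, hu⟩ := ((Nat.bijective_iff_injective_and_card f).mpr ⟨hfinj, by
    rw [hA12, card_codeSupp]; norm_num⟩).2 c
  obtain ⟨r, hr, hre⟩ := (show phi e (signElt c) ∈ E by rw [← hu, ← hf u]; exact u.2)
  have hrR : (r : G) ∈ R := hr.1
  have hnotQ : (r : G) ∉ Qg := by
    rintro ⟨q, hq, hqr⟩
    have hq1 : r ∈ Q := by rw [← Subtype.ext (a1 := q) (a2 := r) hqr]; exact hq
    rw [QuotientGroup.mk'_apply, (QuotientGroup.eq_one_iff r).mpr hq1] at hre
    rcases center_eq (ker_phi e ▸ MonoidHom.mem_ker.mpr hre.symm) with h | h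
    · rw [← monomial_one] at h
      exact hc.1 (LeechMonomial.monomial_injective _ _ _ _ h).2
    · exact hc.2 (LeechMonomial.monomial_injective (one_mem _) (one_mem _) c.2 univ_mem_supports h).2
  rcases P.h'.sq (r : G) hrR with h1 | h1
  · exact ⟨r, r.2, h1, hre⟩
  obtain ⟨i, hi, hne⟩ : ∃ i ∈ Qg ⊓ R, ¬ Commute (r : G) i := by
    by_contra hno
    push Not at hno
    set I := Qg ⊓ R with hI
    have hle : I ⊔ Subgroup.zpowers (r : G) ≤ R := sup_le inf_le_right (Subgroup.zpowers_le.mpr hrR)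
    have hcent : I ⊔ Subgroup.zpowers (r : G) ≤
        Subgroup.centralizer ((I ⊔ Subgroup.zpowers (r : G) : Subgroup G) : Set G) := by
      have hI' : ∀ b ∈ I ⊔ Subgroup.zpowers (r : G), (∀ i ∈ I, Commute b i) ∧ Commute b (r : G) := by
        intro b hb
        rw [Subgroup.sup_eq_closure] at hb
        refine Subgroup.closure_induction (fun c hc => ?_) ⟨fun i _ => Commute.one_left i, Commute.one_left _⟩
          (fun p q _ _ hp hq => ⟨fun i hi => (hp.1 i hi).mul_left (hq.1 i hi), hp.2.mul_left hq.2⟩)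
          (fun p _ hp => ⟨fun i hi => (hp.1 i hi).inv_left, hp.2.inv_left⟩) hb
        rcases hc with hc | ⟨n, rfl⟩
        · exact ⟨fun i hi => P.E_comm hc hi, (hno c hc).symm⟩
        · exact ⟨fun i hi => (hno i hi).zpow_left n, (Commute.refl _).zpow_left n⟩
      refine sup_le (fun i hi => ?_) (Subgroup.zpowers_le.mpr ?_) <;> rw [Subgroup.mem_centralizer_iff] <;>
        intro b hb
      exacts [((hI' b hb).1 i hi).eq, (hI' b hb).2.eq]
    have hbound := abelian_bound P.h'.toExt (A := I ⊔ Subgroup.zpowers (r : G)) hle fun a ha b hb =>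
      (Subgroup.mem_centralizer_iff.mp (hcent hb) a ha)
    have hR25 : Nat.card R = 2 ^ 25 := by
      rw [← S.card]
      exact (Nat.card_congr (Subgroup.equivMapOfInjective Qg _ (MulAut.conj g).injective).toEquiv).symm
    rw [hR25] at hbound
    have hsmall : Nat.card ↥(I ⊔ Subgroup.zpowers (r : G)) ≤ Nat.card I := by
      rw [hI13]
      nlinarith
    have heq := Subgroup.eq_of_le_of_card_ge le_sup_left hsmall
    exact hnotQ (heq ▸ Subgroup.mem_sup_right (Subgroup.mem_zpowers (r : G)) : (r : G) ∈ I).1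
  have hii : i * i = 1 := P.E_sq hi
  have his : i * s = s * i := P.h'.comm i hi.2
  have hri : (r : G) * i * (r : G)⁻¹ = s * i :=
    (P.h'.conj _ hrR i hi.2).resolve_left (fun h => hne (mul_inv_eq_iff_eq_mul.mp h))
  refine ⟨(r : G) * i, mul_mem r.2 (Subgroup.mem_centralizer_singleton_iff.mpr (S.lh.comm i hi.1)), ?_, ?_⟩
  · calc (r : G) * i * ((r : G) * i) = ((r : G) * i * (r : G)⁻¹) * ((r : G) * r) * i := by group
      _ = s * (i * s) * i := by rw [hri, h1]; group
      _ = (s * s) * (i * i) := by rw [his]; group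
      _ = 1 := by rw [P.h'.zz, hii, one_mul]
  · obtain ⟨q, hq, hqi⟩ := hi.1
    have : (⟨(r : G) * i, mul_mem r.2 (Subgroup.mem_centralizer_singleton_iff.mpr (S.lh.comm i hi.1))⟩ :
        Subgroup.centralizer ({z} : Set G)) = r * q := Subtype.ext (show (r : G) * i = (r : G) * (q : G) by rw [show (q : G) = i from hqi])
    rw [this, QuotientGroup.mk_mul, (QuotientGroup.eq_one_iff q).mpr hq, mul_one, ← hre]
    rfl

omit S

/-- Correcting inside `Q⟨x⟩`. -/
theorem exists_adjust (S : Setup Q e ψ) {x : G} (X : Std e x) {a : G}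
    (ha : a ∈ Subgroup.centralizer ({z} : Set G)) (hao : orderOf a = 7) {n : ℕ}
    (hn : (QuotientGroup.mk ⟨a, ha⟩ : (Subgroup.centralizer ({z} : Set G)) ⧸ Q) = phi e b0 ^ n) :
    ∃ (k : G) (hk : k ∈ Subgroup.centralizer ({z} : Set G)),
      (QuotientGroup.mk ⟨k, hk⟩ : (Subgroup.centralizer ({z} : Set G)) ⧸ Q) ∈ Subgroup.zpowers (phi e b0) ∧
      k * a * k⁻¹ = x ^ n := by
  haveI := Fact.mk (show (7 : ℕ).Prime by norm_num)
  set K := (Subgroup.zpowers (phi e b0)).comap (QuotientGroup.mk' Q) with hK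
  have hord : orderOf (phi e b0) = 7 := orderOf_eq_prime
    (by rw [← map_pow, b0_pow_seven, map_one]) (fun h => mk_ne_one S X.ord X.hz (X.img.trans h))
  have hcard : Nat.card K = Nat.card Q * 7 := by
    rw [← hord, ← Nat.card_zpowers, ← Subgroup.card_mul_index (Q.subgroupOf K)]
    congr 1
    · refine Nat.card_congr (Subgroup.subgroupOfEquivOfLe ?_).toEquiv
      intro q hq
      show QuotientGroup.mk' Q q ∈ Subgroup.zpowers (phi e b0)
      rw [QuotientGroup.mk'_apply, (QuotientGroup.eq_one_iff q).mpr hq]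
      exact one_mem _
    · show Q.relIndex K = _
      conv_lhs => rw [← QuotientGroup.ker_mk' Q, ← MonoidHom.comap_bot, hK, Subgroup.relIndex_comap,
        Subgroup.map_comap_eq_self_of_surjective (QuotientGroup.mk'_surjective Q), Subgroup.relIndex_bot_left]
  obtain ⟨k, hk, j, hj⟩ := conj_of_prime K (p := 7) (a := ⟨a, ha⟩) (b := ⟨x, X.hz⟩)
    (show QuotientGroup.mk' Q ⟨a, ha⟩ ∈ _ by rw [QuotientGroup.mk'_apply, hn]; exact Subgroup.npow_mem_zpowers _ n)
    (show QuotientGroup.mk' Q ⟨x, X.hz⟩ ∈ _ by rw [QuotientGroup.mk'_apply, X.img]; exact Subgroup.mem_zpowers _)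
    (by rw [Subgroup.orderOf_mk]; exact hao) (by rw [Subgroup.orderOf_mk]; exact X.ord) (by
      have hQ : Nat.card Q = 2 ^ 25 := by
        rw [Nat.card_congr (Subgroup.equivMapOfInjective Q _ (Subgroup.subtype_injective _)).toEquiv, S.card]
      rw [hcard, hQ]; norm_num)
  refine ⟨(k : G), k.2, hk, ?_⟩
  have h1 := congrArg (QuotientGroup.mk' Q) hj
  simp only [map_mul, map_inv, map_pow, QuotientGroup.mk'_apply, hn, X.img] at h1
  obtain ⟨i, hi⟩ : (QuotientGroup.mk' Q k) ∈ Subgroup.zpowers (phi e b0) := hk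
  simp only [QuotientGroup.mk'_apply] at hi
  rw [← hi, (((Commute.refl (phi e b0)).zpow_left i).pow_right n).eq, mul_inv_cancel_right,
    pow_eq_pow_iff_modEq, hord] at h1
  have h2 : x ^ j = x ^ n := pow_eq_pow_iff_modEq.mpr (X.ord ▸ h1.symm)
  rw [← h2]
  exact congrArg Subtype.val hj

/-- An element inducing the squaring automorphism. -/
theorem exists_square (S : Setup Q e ψ) {x : G} (X : Std e x) :
    ∃ h : G, h * x * h⁻¹ = x ^ 2 := by
  obtain ⟨g, hg⟩ := QuotientGroup.mk_surjective (phi e (LeechNormalizers.permElt _ t3_good))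
  obtain ⟨k, -, -, hk⟩ := exists_adjust S X (a := (g : G) * x * (g : G)⁻¹) (mul_mem (mul_mem g.2 X.hz) (inv_mem g.2))
    (by rw [← X.ord]; exact ((MulAut.conj (g : G)).orderOf_eq x)) (n := 2) (by
      show (QuotientGroup.mk (g * ⟨x, X.hz⟩ * g⁻¹) : (Subgroup.centralizer ({z} : Set G)) ⧸ Q) = _
      rw [QuotientGroup.mk_mul, QuotientGroup.mk_mul, QuotientGroup.mk_inv, hg, X.img, ← map_mul, t3_conj,
        map_mul, map_pow, mul_inv_cancel_right])
  exact ⟨k * g, by rw [← hk]; group⟩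

/-- An involution inverting `x`. -/
theorem exists_involution (S : Setup Q e ψ) {x : G} (X : Std e x) :
    ∃ t : G, orderOf t = 2 ∧ t * x * t⁻¹ = x⁻¹ := by
  haveI := Fact.mk (show (7 : ℕ).Prime by norm_num)
  obtain ⟨r, hr, hrr, hre⟩ := exists_sign_involution S dodC dodC_ne
  obtain ⟨k, hk⟩ := exists_inverting
  obtain ⟨h, hh⟩ := QuotientGroup.mk_surjective (phi e k)
  set i : Subgroup.centralizer ({z} : Set G) := h * ⟨r, hr⟩ * h⁻¹ with hi
  have hii : i * i = 1 := by
    rw [hi, show h * ⟨r, hr⟩ * h⁻¹ * (h * ⟨r, hr⟩ * h⁻¹) = h * (⟨r, hr⟩ * ⟨r, hr⟩) * h⁻¹ by group,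
      show (⟨r, hr⟩ : Subgroup.centralizer ({z} : Set G)) * ⟨r, hr⟩ = 1 from Subtype.ext hrr, mul_one,
      mul_inv_cancel]
  set γ := k * signElt dodC * k⁻¹ with hγ
  have himg : (QuotientGroup.mk i : (Subgroup.centralizer ({z} : Set G)) ⧸ Q) = phi e γ := by
    rw [hi, QuotientGroup.mk_mul, QuotientGroup.mk_mul, QuotientGroup.mk_inv, hh, hre, ← map_inv, ← map_mul,
      ← map_mul]
  have hxC : (⟨x, X.hz⟩ : Subgroup.centralizer ({z} : Set G)) ^ 7 = 1 :=
    Subtype.ext (show x ^ 7 = 1 from X.ord ▸ pow_orderOf_eq_one x)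
  set a := i * ⟨x, X.hz⟩ * i * (⟨x, X.hz⟩ : Subgroup.centralizer ({z} : Set G))⁻¹ with ha
  have hia : i * a * i⁻¹ = a⁻¹ := by
    have hinv : i⁻¹ = i := inv_eq_of_mul_eq_one_right hii
    calc i * a * i⁻¹ = (i * i) * ⟨x, X.hz⟩ * i * ⟨x, X.hz⟩⁻¹ * i⁻¹ := by rw [ha]; group
      _ = ⟨x, X.hz⟩ * i⁻¹ * ⟨x, X.hz⟩⁻¹ * i⁻¹ := by rw [hii, hinv]; group
      _ = a⁻¹ := by rw [ha]; group
  have haimg : (QuotientGroup.mk a : (Subgroup.centralizer ({z} : Set G)) ⧸ Q) = phi e b0 ^ 5 := by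
    have hgi : phi e γ * phi e γ = 1 := by rw [← himg, ← QuotientGroup.mk_mul, hii, QuotientGroup.mk_one]
    have hbi : (phi e b0)⁻¹ = phi e b0 ^ 6 := inv_eq_of_mul_eq_one_right (by
      rw [← pow_succ', ← map_pow, b0_pow_seven, map_one])
    rw [ha, QuotientGroup.mk_mul, QuotientGroup.mk_mul, QuotientGroup.mk_mul, QuotientGroup.mk_inv, himg, X.img,
      ← map_mul (phi e) γ, show γ * b0 = b0 ^ 6 * γ from hk, map_mul, map_pow, mul_assoc (phi e b0 ^ 6), hgi,
      mul_one, hbi, ← pow_add, pow_eq_pow_iff_modEq]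
    have hord : orderOf (phi e b0) ∣ 7 := orderOf_dvd_of_pow_eq_one (by rw [← map_pow, b0_pow_seven, map_one])
    exact (show 6 + 6 ≡ 5 [MOD 7] by decide).of_dvd hord
  have hpow : ∀ w : (Subgroup.centralizer ({z} : Set G)) ⧸ Q, w ^ 7 = 1 → ∀ n, w ^ n = w ^ (n % 7) :=
    fun w hw n => pow_eq_pow_mod n hw
  have hb7 : phi e b0 ^ 7 = 1 := by rw [← map_pow, b0_pow_seven, map_one]
  -- the element of order seven
  have ha7Q : a ^ 7 ∈ Q := by
    rw [← QuotientGroup.eq_one_iff, QuotientGroup.mk_pow, haimg, ← pow_mul, mul_comm, pow_mul, hb7, one_pow]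
  have hQ4 : (a ^ 7) ^ 4 = 1 := Subtype.ext (by
    rw [SubmonoidClass.coe_pow]
    exact S.lh.toExt.pow_four ⟨_, ha7Q, rfl⟩)
  set b := a ^ 4 with hb
  have hbimg : (QuotientGroup.mk b : (Subgroup.centralizer ({z} : Set G)) ⧸ Q) = phi e b0 ^ 6 := by
    rw [hb, QuotientGroup.mk_pow, haimg, ← pow_mul, hpow _ hb7]
  have hbo : orderOf (b : G) = 7 := by
    rw [Subgroup.orderOf_coe]
    refine orderOf_eq_prime (by rw [hb, ← pow_mul, mul_comm, pow_mul]; exact hQ4) fun h => ?_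
    rw [h, QuotientGroup.mk_one] at hbimg
    have : orderOf (phi e b0) ∣ 6 := orderOf_dvd_of_pow_eq_one hbimg.symm
    rw [orderOf_eq_prime hb7 (fun h => mk_ne_one S X.ord X.hz (X.img.trans h))] at this
    norm_num at this
  obtain ⟨c, -, -, hc⟩ := exists_adjust S X b.2 hbo hbimg
  have hib : (i : G) * (b : G) * (i : G)⁻¹ = (b : G)⁻¹ := by
    have : i * b * i⁻¹ = b⁻¹ := by rw [hb, ← conj_pow, hia, inv_pow]
    exact congrArg Subtype.val this
  refine ⟨c * i * c⁻¹, orderOf_eq_prime ?_ ?_, ?_⟩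
  · rw [pow_two]
    calc c * (i : G) * c⁻¹ * (c * i * c⁻¹) = c * ((i : G) * (i : G)) * c⁻¹ := by group
      _ = 1 := by rw [show (i : G) * (i : G) = 1 from congrArg Subtype.val hii]; group
  · intro h
    have hi1 : (i : G) = 1 := conj_eq_one_iff.mp h
    rw [hi1, one_mul, inv_one, mul_one] at hib
    have h2 : (b : G) ^ 2 = 1 := by rw [pow_two]; exact mul_eq_one_iff_eq_inv.mpr hib
    have := orderOf_dvd_of_pow_eq_one h2
    rw [hbo] at this
    norm_num at this
  · have h6 : x ^ 6 = x⁻¹ := (inv_eq_of_mul_eq_one_right (by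
      rw [← pow_succ']; exact Std.pow_seven S X)).symm
    rw [h6] at hc
    have hx : x = c * (b : G)⁻¹ * c⁻¹ := by rw [← inv_inv x, ← hc]; group
    calc c * (i : G) * c⁻¹ * x * (c * (i : G) * c⁻¹)⁻¹ = c * ((i : G) * (b : G) * (i : G)⁻¹)⁻¹ * c⁻¹ := by
          rw [hx]; group
      _ = x⁻¹ := by rw [hib, inv_inv, ← hc]

/-- The automizer has order six. -/
theorem index_six (S : Setup Q e ψ) {x : G} (X : Std e x) :
    (Subgroup.centralizer ((Subgroup.zpowers x : Subgroup G) : Set G)).relIndex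
      (Subgroup.normalizer ((Subgroup.zpowers x : Subgroup G) : Set G)) = 6 := by
  haveI := Fact.mk (show (7 : ℕ).Prime by norm_num)
  set B := Subgroup.zpowers x with hB
  rw [Subgroup.relIndex, ← Subgroup.normalizerMonoidHom_ker, Subgroup.index_ker]
  have hB7 : Nat.card B = 7 := by rw [hB, Nat.card_zpowers, X.ord]
  haveI : IsCyclic B := inferInstanceAs (IsCyclic (Subgroup.zpowers x))
  have hM : Nat.card (MulAut B) = 6 := by
    rw [IsCyclic.card_mulAut, hB7, Nat.totient_prime (by norm_num)]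
  haveI : Finite (MulAut B) := Nat.finite_of_card_ne_zero (by rw [hM]; norm_num)
  refine Nat.dvd_antisymm (hM ▸ Subgroup.card_subgroup_dvd_card _) ?_
  have mem : ∀ (h : G) (n : ℕ), h * x * h⁻¹ = x ^ n → n % 7 ≠ 0 → h ∈ Subgroup.normalizer (B : Set G) := by
    intro h n hn hn0
    have hcop : Nat.Coprime (orderOf x) n := by
      rw [X.ord, Nat.Prime.coprime_iff_not_dvd (by norm_num)]; omega
    have hmap : B.map (MulAut.conj h).toMonoidHom = B := by
      rw [hB, MonoidHom.map_zpowers, MulEquiv.coe_toMonoidHom, MulAut.conj_apply, hn]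
      refine Subgroup.eq_of_le_of_card_ge (Subgroup.zpowers_le.mpr (Subgroup.npow_mem_zpowers x n)) ?_
      rw [Nat.card_zpowers, Nat.card_zpowers, Nat.Coprime.orderOf_pow hcop]
    rw [Subgroup.mem_normalizer_iff]
    intro b
    have h2 : h * b * h⁻¹ = MulAut.conj h b := rfl
    conv_rhs => rw [h2, ← hmap]
    exact (Subgroup.mem_map_iff_mem (MulAut.conj h).injective).symm
  obtain ⟨h, hh⟩ := exists_square S X
  obtain ⟨t, ht2, ht⟩ := exists_involution S X
  have hxi : x⁻¹ = x ^ 6 := inv_eq_of_mul_eq_one_right (by rw [← pow_succ']; exact Std.pow_seven S X)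
  have key : ∀ (g : G) (hg : g ∈ Subgroup.normalizer (B : Set G)) (n : ℕ), g * x * g⁻¹ = x ^ n →
      ∀ m, ((B.normalizerMonoidHom ⟨g, hg⟩) ^ m) ⟨x, Subgroup.mem_zpowers x⟩ =
        (⟨x, Subgroup.mem_zpowers x⟩ : B) ^ (n ^ m) := by
    intro g hg n hn m
    induction m with
    | zero => simp
    | succ m ih =>
      rw [pow_succ', MulAut.mul_apply, ih, map_pow, pow_succ, mul_comm (n ^ m) n, pow_mul]
      congr 1
      exact Subtype.ext hn
  have ne : ∀ (g : G) (hg : g ∈ Subgroup.normalizer (B : Set G)) (n m : ℕ), g * x * g⁻¹ = x ^ n →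
      n ^ m % 7 ≠ 1 → (B.normalizerMonoidHom ⟨g, hg⟩) ^ m ≠ 1 := by
    intro g hg n m hn hne h1
    have := key g hg n hn m
    rw [h1, MulAut.one_apply] at this
    have h2 : x ^ 1 = x ^ (n ^ m) := by rw [pow_one]; exact congrArg Subtype.val this
    rw [pow_eq_pow_iff_modEq, X.ord] at h2
    exact hne h2.symm
  have one : ∀ (g : G) (hg : g ∈ Subgroup.normalizer (B : Set G)) (n m : ℕ), g * x * g⁻¹ = x ^ n →
      n ^ m % 7 = 1 → (B.normalizerMonoidHom ⟨g, hg⟩) ^ m = 1 := by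
    intro g hg n m hn he
    refine MulEquiv.ext fun b => ?_
    obtain ⟨_, j, rfl⟩ := b
    have hb : (⟨x ^ j, j, rfl⟩ : B) = (⟨x, Subgroup.mem_zpowers x⟩ : B) ^ j := Subtype.ext (by simp)
    rw [hb, map_zpow, key g hg n hn m, MulAut.one_apply]
    congr 1
    refine Subtype.ext ?_
    rw [SubmonoidClass.coe_pow, ← pow_mod_orderOf, X.ord, he, pow_one]
  have h3 := orderOf_dvd_natCard (⟨_, MonoidHom.mem_range.mpr
    ⟨⟨h, mem h 2 hh (by norm_num)⟩, rfl⟩⟩ : B.normalizerMonoidHom.range)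
  have h2' := orderOf_dvd_natCard (⟨_, MonoidHom.mem_range.mpr
    ⟨⟨t, mem t 6 (ht.trans hxi) (by norm_num)⟩, rfl⟩⟩ : B.normalizerMonoidHom.range)
  rw [Subgroup.orderOf_mk] at h3 h2'
  haveI := Fact.mk Nat.prime_two
  haveI := Fact.mk Nat.prime_three
  rw [orderOf_eq_prime (one _ _ 2 3 hh (by norm_num)) (fun h1 => ne _ _ 2 1 hh (by norm_num) (by rw [pow_one]; exact h1))]
    at h3
  rw [orderOf_eq_prime (one _ _ 6 2 (ht.trans hxi) (by norm_num))
    (fun h1 => ne _ _ 6 1 (ht.trans hxi) (by norm_num) (by rw [pow_one]; exact h1))] at h2'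
  exact Nat.Coprime.mul_dvd_of_dvd_of_dvd (by norm_num) h2' h3

/-- The exponent of seven in the centraliser of `z` and a conjugate of it in `Q`. -/
theorem factorization_seven (S : Setup Q e ψ) {a : Q}
    (hs : IsConj z ((a : Subgroup.centralizer ({z} : Set G)) : G))
    (hne : ((a : Subgroup.centralizer ({z} : Set G)) : G) ≠ z) :
    (Nat.card ↥(Subgroup.centralizer ({z, ((a : Subgroup.centralizer ({z} : Set G)) : G)} : Set G))).factorization 7
      = 1 := by
  haveI := LeechOrder.finite_Co0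
  obtain ⟨v, hv, hva⟩ := S.class64 hs hne
  obtain ⟨k, hk⟩ : ∃ k : Co0, k • frame none = v :=
    LeechOrbit.exists_smul_eq (N := 64) (Or.inr (Or.inr rfl)) (by exact_mod_cast sqNorm_frame none)
      (by exact_mod_cast hv)
  have S₁ := S.twist k⁻¹
  have ha₁ : (fun v => ψ ((k⁻¹)⁻¹ • v)) (frame none) = QuotientGroup.mk a := by
    simp only [inv_inv, hk, hva]
  have hX := S₁.comap_X (a := a) ha₁ (S.ne_central (by rw [hv]; norm_num) hv.le hva)
  rw [classStab_frame] at hX
  set D := (Subgroup.centralizer ({z} : Set G) ⊓ Subgroup.centralizer ({((a : Subgroup.centralizer ({z} : Set G)) : G)} : Set G)).subgroupOf (Subgroup.centralizer ({z} : Set G)) with hD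
  have hcardD : Nat.card ↥(Subgroup.centralizer ({z, ((a : Subgroup.centralizer ({z} : Set G)) : G)} : Set G)) = Nat.card D := by
    rw [Nat.card_congr (Subgroup.subgroupOfEquivOfLe inf_le_left).toEquiv]
    congr 2
    ext g
    simp only [Subgroup.mem_inf, Subgroup.mem_centralizer_iff, Set.mem_insert_iff, Set.mem_singleton_iff,
      forall_eq_or_imp, forall_eq]
  set f : D →* (Subgroup.centralizer ({z} : Set G)) ⧸ Q := (QuotientGroup.mk' Q).comp D.subtype
  have hrange : 2 * Nat.card f.range = Nat.card mono := by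
    rw [← hX, card_comap_phi, MonoidHom.range_comp, Subgroup.range_subtype]
  have hker : Nat.card f.ker ∣ 2 ^ 25 := by
    have hQ : Nat.card Q = 2 ^ 25 := by
      rw [Nat.card_congr (Subgroup.equivMapOfInjective Q _ (Subgroup.subtype_injective _)).toEquiv, S.card]
    rw [← hQ, Nat.card_congr (Subgroup.equivMapOfInjective f.ker _ D.subtype_injective).toEquiv]
    refine Subgroup.card_dvd_of_le ?_
    rintro _ ⟨d, hd, rfl⟩
    exact (QuotientGroup.eq_one_iff _).mp (MonoidHom.mem_ker.mp hd)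
  obtain ⟨i, -, hi⟩ := (Nat.dvd_prime_pow Nat.prime_two).mp hker
  have hr : Nat.card f.range = 2048 * 244823040 := by
    rw [LeechOrder.card_stabilizer_stdL] at hrange
    omega
  rw [hcardD, Subgroup.card_eq_card_quotient_mul_card_subgroup f.ker,
    Nat.card_congr (QuotientGroup.quotientKerEquivRange f).toEquiv, hr, hi,
    show 2048 * 244823040 * 2 ^ i = 7 * (2 ^ i * (2048 * 34974720)) by ring,
    Nat.factorization_mul (by norm_num) (by positivity), Finsupp.add_apply,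
    Nat.Prime.factorization_self (by norm_num), Nat.factorization_eq_zero_of_not_dvd]
  intro hd
  rcases (Nat.Prime.dvd_mul (by norm_num)).mp hd with h | h
  · have := (Nat.prime_dvd_prime_iff_eq (by norm_num) Nat.prime_two).mp (Nat.Prime.dvd_of_dvd_pow (by norm_num) h)
    norm_num at this
  · norm_num at h

end Cfsg.Agent.MonsterSeven71
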