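import Cfsg.Agent.Lib.MonsterHeldLattice71
import Cfsg.Agent.Lib.MonsterSevenLayer71
import Cfsg.Agent.Lib.GenFittingStructure
import Cfsg.Agent.Lib.A8SubgroupsStructure

/-!
For groups of Monster type, the centraliser of a subgroup of order seven centralising `z` and a conjugate
of `z` in `Q`, modulo that subgroup, is of Held type.
-/

set_option autoImplicit false
set_option linter.style.haveILetI false
set_option linter.unusedSectionVars false

namespace Cfsg.Agent.MonsterSeven71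

open Cfsg Cfsg.Agent.LargeExtraspecial Cfsg.Agent.MonsterLocal
open Cfsg.Agent.GolayBasic Cfsg.Agent.LeechBasic Cfsg.Agent.LeechAut Cfsg.Agent.LeechIndex
open Cfsg.Agent.LeechStab Cfsg.Agent.MonsterSevenLattice71 Cfsg.Agent.MonsterHeldLattice71

theorem sl32_simple : IsSimpleGroup (Matrix.SpecialLinearGroup (Fin 3) (ZMod 2)) := by
  haveI : Fact (Nat.Prime 2) := ⟨Nat.prime_two⟩
  have hcen : Subgroup.center (Matrix.SpecialLinearGroup (Fin 3) (ZMod 2)) = ⊥ := by
    rw [← Subgroup.card_eq_one, PSLCard.card_center_SL, Nat.card_zmod]; rfl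
  haveI : IsSimpleGroup (Matrix.ProjectiveSpecialLinearGroup (Fin 3) (ZMod 2)) :=
    PSLSimple.isSimpleGroup_PSL_fin' (by norm_num) (by norm_num)
  exact ((QuotientGroup.quotientMulEquivOfEq hcen).trans QuotientGroup.quotientBot).symm.isSimpleGroup

theorem sl32_not_nilpotent : ¬ Group.IsNilpotent (Matrix.SpecialLinearGroup (Fin 3) (ZMod 2)) := by
  intro h
  haveI := sl32_simple
  have hcomm := (IsSimpleGroup.comm_iff_isSolvable (G := Matrix.SpecialLinearGroup (Fin 3) (ZMod 2))).mpr inferInstance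
  let a : Matrix.SpecialLinearGroup (Fin 3) (ZMod 2) := ⟨!![1, 1, 0; 0, 1, 0; 0, 0, 1], by decide⟩
  let b : Matrix.SpecialLinearGroup (Fin 3) (ZMod 2) := ⟨!![1, 0, 0; 1, 1, 0; 0, 0, 1], by decide⟩
  have h2 := congrArg (fun A : Matrix.SpecialLinearGroup (Fin 3) (ZMod 2) => (A : Matrix (Fin 3) (Fin 3) (ZMod 2)))
    (hcomm a b)
  simp only [Matrix.SpecialLinearGroup.coe_mul, a, b] at h2
  revert h2
  decide

theorem b0_acts : Acts b0 1 := fun a => by
  rw [Matrix.one_mulVec]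
  show Cg (b0 • cmb (emb a)) _
  rw [b0_cmb]; exact Cg.refl _

theorem neg_acts : Acts negAut 1 := fun a => by
  rw [Matrix.one_mulVec, negAut_smul, Cg, AddSubgroup.coe_neg]
  exact mem_twiceLeech.mpr ⟨-(cl a : GolayPt → ℤ), neg_mem (cl a).2, by rw [two_nsmul]; abel⟩

theorem negAut_mem_C0 : negAut ∈ C0 :=
  mem_C0.mpr (Subgroup.mem_center_iff.mp negAut_mem_center b0).symm

theorem b0_mem_C0 : b0 ∈ C0 := mem_C0.mpr rfl

theorem rep3_neg : rep3 ⟨negAut, negAut_mem_C0⟩ = 1 := Subtype.ext (rep3_eq negAut_mem_C0 neg_acts)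

theorem rep3_b0 : rep3 ⟨b0, b0_mem_C0⟩ = 1 := Subtype.ext (rep3_eq b0_mem_C0 b0_acts)

theorem sing_card : Fintype.card ({c : Fin 6 → ZMod 2 // Sing c} × Bool) = 28 := by decide +kernel

theorem sing_wv : Sing (Pi.single 0 1 : Fin 6 → ZMod 2) := by decide

theorem exists_auto_lattice {j : ℕ} (hj : j % 7 ≠ 0) : ∃ γ : Co0, γ * b0 = b0 ^ j * γ := by
  have ht : ∀ (a b : ℕ) (g h : Co0), g * b0 = b0 ^ a * g → h * b0 = b0 ^ b * h →
      g * h * b0 = b0 ^ (a * b) * (g * h) := fun a b g h hg hh => by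
    have h1 : SemiconjBy g (b0 ^ b) ((b0 ^ a) ^ b) := (show SemiconjBy g b0 (b0 ^ a) from hg).pow_right b
    rw [← pow_mul] at h1
    exact (h1.mul_left (show SemiconjBy h b0 (b0 ^ b) from hh)).eq
  set t := LeechNormalizers.permElt _ t3_good
  have t2 : t * b0 = b0 ^ 2 * t := t3_conj
  have h6 : gam * b0 = b0 ^ 6 * gam := gam_b0
  have hlt := Nat.mod_lt j (show 0 < 7 by norm_num)
  rw [show b0 ^ j = b0 ^ (j % 7) from pow_eq_pow_mod j b0_pow_seven]
  generalize j % 7 = r at *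
  interval_cases r
  · exact absurd rfl hj
  · exact ⟨1, by simp⟩
  · exact ⟨t, t2⟩
  · exact ⟨gam * (t * t), by rw [ht _ _ _ _ h6 (ht _ _ _ _ t2 t2), pow_eq_pow_mod (6 * (2 * 2)) b0_pow_seven]⟩
  · exact ⟨t * t, ht _ _ _ _ t2 t2⟩
  · exact ⟨gam * t, by rw [ht _ _ _ _ h6 t2, pow_eq_pow_mod (6 * 2) b0_pow_seven]⟩
  · exact ⟨gam, h6⟩

theorem rep3_mul {g h : Co0} (hg : g ∈ C0) (hh : h ∈ C0) (hgh : g * h ∈ C0) :
    rep3 ⟨g * h, hgh⟩ = rep3 ⟨g, hg⟩ * rep3 ⟨h, hh⟩ :=
  (congrArg rep3 (Subtype.ext rfl : (⟨g * h, hgh⟩ : C0) = ⟨g, hg⟩ * ⟨h, hh⟩)).trans (map_mul rep3 _ _)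

theorem rep3_b0_pow (k : ℕ) (h : b0 ^ k ∈ C0) : rep3 ⟨b0 ^ k, h⟩ = 1 := by
  have e : (⟨b0 ^ k, h⟩ : C0) = (⟨b0, b0_mem_C0⟩ : C0) ^ k := Subtype.ext (by simp)
  rw [e, map_pow, rep3_b0, one_pow]

variable {G : Type*} [Group G] [Finite G] {z : G}
  {Q : Subgroup (Subgroup.centralizer ({z} : Set G))} [Q.Normal]
  {e : (Subgroup.centralizer ({z} : Set G)) ⧸ Q ≃* Spor.Co1}
  {ψ : leechLattice → Q ⧸ Subgroup.center Q}

variable (S : Setup Q e ψ) {x : G} (X : Std e x)
include S X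

/-- Every automorphism of `⟨x⟩` is induced inside `C(z)`. -/
theorem exists_auto {j : ℕ} (hj : j % 7 ≠ 0) : ∃ n : G, n * z = z * n ∧ n * x * n⁻¹ = x ^ j := by
  obtain ⟨γ, hγ⟩ := exists_auto_lattice hj
  obtain ⟨g, hg⟩ := QuotientGroup.mk_surjective (phi e γ)
  obtain ⟨k, hkC, -, hk⟩ := exists_adjust S X (a := (g : G) * x * (g : G)⁻¹) (mul_mem (mul_mem g.2 X.hz) (inv_mem g.2))
    (by rw [← X.ord]; exact ((MulAut.conj (g : G)).orderOf_eq x)) (n := j) (by
      show (QuotientGroup.mk (g * ⟨x, X.hz⟩ * g⁻¹) : (Subgroup.centralizer ({z} : Set G)) ⧸ Q) = _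
      rw [QuotientGroup.mk_mul, QuotientGroup.mk_mul, QuotientGroup.mk_inv, hg, X.img, ← map_mul, hγ,
        map_mul, map_pow, mul_inv_cancel_right])
  exact ⟨k * g, Subgroup.mem_centralizer_singleton_iff.mp (mul_mem hkC g.2), by rw [← hk]; group⟩

/-- Every element centralising `b0` has a lift centralising `x`, up to powers of `b0`. -/
theorem exists_cent_lift {γ : Co0} (hγ : γ * b0 = b0 * γ) :
    ∃ (y : G) (hy : y ∈ Subgroup.centralizer ({z} : Set G)) (i : ℕ), Commute y x ∧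
      (QuotientGroup.mk ⟨y, hy⟩ : (Subgroup.centralizer ({z} : Set G)) ⧸ Q) = phi e (b0 ^ i * γ) := by
  obtain ⟨g, hg⟩ := QuotientGroup.mk_surjective (phi e γ)
  obtain ⟨k, hkC, hkm, hk⟩ := exists_adjust S X (a := (g : G) * x * (g : G)⁻¹) (mul_mem (mul_mem g.2 X.hz) (inv_mem g.2))
    (by rw [← X.ord]; exact ((MulAut.conj (g : G)).orderOf_eq x)) (n := 1) (by
      show (QuotientGroup.mk (g * ⟨x, X.hz⟩ * g⁻¹) : (Subgroup.centralizer ({z} : Set G)) ⧸ Q) = _
      rw [QuotientGroup.mk_mul, QuotientGroup.mk_mul, QuotientGroup.mk_inv, hg, X.img, ← map_mul, hγ,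
        map_mul, pow_one, mul_inv_cancel_right])
  have hfin : IsOfFinOrder (phi e b0) := isOfFinOrder_iff_pow_eq_one.mpr
    ⟨7, by norm_num, by rw [← map_pow, b0_pow_seven, map_one]⟩
  obtain ⟨i, hi⟩ := hfin.mem_powers_iff_mem_zpowers.mpr hkm
  refine ⟨k * g, mul_mem hkC g.2, i, ?_, ?_⟩
  · rw [pow_one] at hk
    show k * g * x = x * (k * g)
    calc k * g * x = (k * ((g : G) * x * (g : G)⁻¹) * k⁻¹) * (k * g) := by group
      _ = x * (k * g) := by rw [hk]
  · show (QuotientGroup.mk (⟨k, hkC⟩ * g) : (Subgroup.centralizer ({z} : Set G)) ⧸ Q) = _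
    rw [QuotientGroup.mk_mul, hg, map_mul, map_pow, ← show phi e b0 ^ i = _ from hi]

omit X in
theorem mk_surj_lift (c : Fin 6 → ZMod 2) : ψ (cmb c) = QuotientGroup.mk ((ψ (cmb c)).out) :=
  (QuotientGroup.out_eq' _).symm

/-- The centraliser of `x` in `Q`, by classes. -/
theorem R_classes {r : Q} : Commute x ((r : Subgroup.centralizer ({z} : Set G)) : G) ↔
    ∃ c, ψ (cmb c) = QuotientGroup.mk r := by
  constructor
  · intro h
    obtain ⟨v, hv⟩ := S.iso.2.1 (QuotientGroup.mk r)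
    have hb := Std.mem_classStab S X (hg := X.hz) X.img hv h
    -- replace `v` by a fixed vector
    set w := v + b0 • v + b0 ^ 2 • v + b0 ^ 3 • v + b0 ^ 4 • v + b0 ^ 5 • v + b0 ^ 6 • v with hw
    obtain ⟨c, hc⟩ := exists_cmb (b0_fix_sum v)
    refine ⟨c, (S.psi_eq.mpr ?_).trans hv⟩
    have hn : ∀ n : ℕ, Cg (b0 ^ n • v) v := fun n => LeechStab.mem_classStab.mp (pow_mem hb n)
    have h1 : Cg w (v + v + v + v + v + v + v) :=
      ((((((Cg.refl v).add (by simpa using hn 1)).add (hn 2)).add (hn 3)).add (hn 4)).add (hn 5)).add (hn 6)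
    have h2 : Cg (v + v + v + v + v + v + v) v :=
      mem_twiceLeech.mpr ⟨((v + v + v : leechLattice) : GolayPt → ℤ), Subtype.coe_prop _, by
        simp only [AddSubgroup.coe_add, two_nsmul]; abel⟩
    exact ((h1.trans h2).symm.trans hc).symm
  · rintro ⟨c, hc⟩
    exact Std.lift_comm S X (b0_cmb c) hc

/-- `C_Q(x)` has order `2^7`. -/
theorem card_R : Nat.card ↥(Q.map (Subgroup.centralizer ({z} : Set G)).subtype ⊓
    Subgroup.centralizer ({x} : Set G)) = 2 ^ 7 := by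
  set Qg := Q.map (Subgroup.centralizer ({z} : Set G)).subtype with hQg
  let f : (Fin 6 → ZMod 2) × Bool → ↥(Qg ⊓ Subgroup.centralizer ({x} : Set G)) := fun p =>
    ⟨((ψ (cmb p.1)).out : Subgroup.centralizer ({z} : Set G)).1 * (if p.2 then z else 1), by
      have hx := (R_classes S X (r := (ψ (cmb p.1)).out)).mpr ⟨p.1, mk_surj_lift S p.1⟩
      have hz : Commute x (if p.2 then z else 1) := by
        split_ifs
        exacts [Std.cz S X, Commute.one_right x]
      refine ⟨mul_mem (S.coe_mem _) ?_, Subgroup.mem_centralizer_singleton_iff.mpr (hx.mul_right hz).symm⟩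
      split_ifs
      exacts [S.lh.mem, one_mem _]⟩
  have hf : Function.Bijective f := by
    constructor
    · rintro ⟨a, i⟩ ⟨b, j⟩ h
      have h' := congrArg Subtype.val h
      simp only [f] at h'
      have hz1 : ∀ (u : G), u ∈ Qg → u * z = z * u := fun u hu => S.lh.comm u hu
      have hab : a = b := cmb_inj (S.psi_eq.mp (by
        rw [mk_surj_lift S a, mk_surj_lift S b, S.mk_eq]
        have hu := hz1 _ (S.coe_mem (ψ (cmb b)).out)
        cases i <;> cases j <;> simp only [Bool.false_eq_true, if_false, if_true, mul_one] at h'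
        · exact Or.inl h'
        · exact Or.inr (h'.trans hu)
        · refine Or.inr ?_
          rw [← h', ← mul_assoc, ← hz1 _ (S.coe_mem (ψ (cmb a)).out), mul_assoc, S.lh.zz, mul_one]
        · exact Or.inl (mul_right_cancel h')))
      subst hab
      refine Prod.ext rfl ?_
      cases i <;> cases j <;> simp only [Bool.false_eq_true, if_false, if_true] at h' ⊢
      · exact absurd (mul_left_cancel h') (Ne.symm S.lh.ne_one)
      · exact absurd (mul_left_cancel h') S.lh.ne_one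
    · rintro ⟨_, ⟨q, hq, rfl⟩, hx⟩
      obtain ⟨c, hc⟩ := (R_classes S X (r := ⟨q, hq⟩)).mp (Subgroup.mem_centralizer_singleton_iff.mp hx).symm
      rcases (S.mk_eq ⟨q, hq⟩ (ψ (cmb c)).out).mp (by rw [← hc]; exact mk_surj_lift S c) with h | h
      · exact ⟨(c, false), Subtype.ext (by simpa [f] using h.symm)⟩
      · refine ⟨(c, true), Subtype.ext ?_⟩
        show _ * (if true = true then z else 1) = (q : G)
        rw [if_pos rfl, S.lh.comm _ (S.coe_mem _)]
        exact h.symm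
  rw [← Nat.card_eq_of_bijective f hf, Nat.card_prod, Nat.card_fun, Nat.card_zmod, Nat.card_fin,
    Nat.card_eq_fintype_card, Fintype.card_bool]
  norm_num

/-- An element of `C_Q(x)` conjugate to `z` is so by an element centralising `x`. -/
theorem exists_conj_cent (A : Axis Q x) {r : G}
    (hr : r ∈ Q.map (Subgroup.centralizer ({z} : Set G)).subtype) (hrx : Commute x r) (hrz : IsConj z r) :
    ∃ g : G, Commute g x ∧ g * z * g⁻¹ = r := by
  by_cases hne : r = z
  · exact ⟨1, Commute.one_left x, by rw [hne]; group⟩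
  obtain ⟨g, rfl⟩ := isConj_iff.mp hrz
  obtain ⟨e₂, ψ₂, x₂, S₂, X₂, hz₂, m, rfl⟩ := (A.transport S hr hne hrx).exists_std S
  obtain ⟨mm, hmm⟩ := QuotientGroup.mk_surjective (phi e m)
  obtain ⟨k, hkC, -, hk⟩ := exists_adjust S X (a := (mm : G) * x₂ * (mm : G)⁻¹)
    (mul_mem (mul_mem mm.2 X₂.hz) (inv_mem mm.2)) (by rw [← X₂.ord]; exact ((MulAut.conj (mm : G)).orderOf_eq x₂))
    (n := 1) (by
      show (QuotientGroup.mk (mm * ⟨x₂, X₂.hz⟩ * mm⁻¹) : (Subgroup.centralizer ({z} : Set G)) ⧸ Q) = _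
      have h2 : phi (e.trans (MulAut.conj (QuotientGroup.mk m : Spor.Co1))) b0 = phi e (m⁻¹ * b0 * m) := by
        show e.symm ((MulAut.conj (QuotientGroup.mk m : Spor.Co1)).symm (QuotientGroup.mk b0)) =
          e.symm (QuotientGroup.mk (m⁻¹ * b0 * m))
        rw [MulAut.conj_symm_apply, QuotientGroup.mk_mul, QuotientGroup.mk_mul, QuotientGroup.mk_inv]
      rw [QuotientGroup.mk_mul, QuotientGroup.mk_mul, QuotientGroup.mk_inv, hmm, X₂.img, h2, pow_one, ← map_inv,
        ← map_mul, ← map_mul]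
      congr 1
      group)
  rw [pow_one] at hk
  set c := k * (mm : G) with hc
  have hcz : c * z = z * c := Subgroup.mem_centralizer_singleton_iff.mp (mul_mem hkC mm.2)
  set g' := g * c⁻¹ with hg'
  have hg'z : g' * z * g'⁻¹ = g * z * g⁻¹ := by
    have : c⁻¹ * z * c = z := by rw [mul_assoc, ← hcz, inv_mul_cancel_left]
    calc g' * z * g'⁻¹ = g * (c⁻¹ * z * c) * g⁻¹ := by rw [hg']; group
      _ = _ := by rw [this]
  obtain ⟨i, hi⟩ : x₂ ∈ Subgroup.zpowers (g⁻¹ * x * g) := hz₂ ▸ Subgroup.mem_zpowers x₂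
  have hg'x : g' * x * g'⁻¹ = x ^ i := by
    have h1 : c * x₂ * c⁻¹ = x := by rw [← hk, hc]; group
    have h2 : x₂ = g⁻¹ * x ^ i * g := by
      rw [← show (g⁻¹ * x * g) ^ i = x₂ from hi,
        show g⁻¹ * x * g = MulAut.conj g⁻¹ x by simp, ← map_zpow]
      simp
    calc g' * x * g'⁻¹ = g * (c⁻¹ * x * c) * g⁻¹ := by rw [hg']; group
      _ = g * x₂ * g⁻¹ := by congr 2; rw [← h1]; group
      _ = x ^ i := by rw [h2]; group
  obtain ⟨j, hj⟩ := (isOfFinOrder_of_finite x).mem_powers_iff_mem_zpowers.mpr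
    (⟨i, rfl⟩ : x ^ i ∈ Subgroup.zpowers x)
  rw [← show x ^ j = x ^ i from hj] at hg'x
  have hj7 : j % 7 ≠ 0 := fun h => by
    rw [← pow_mod_orderOf, X.ord, h, pow_zero, conj_eq_one_iff] at hg'x
    have := X.ord
    rw [hg'x, orderOf_one] at this
    norm_num at this
  obtain ⟨n, hnz, hnx⟩ := exists_auto S X hj7
  refine ⟨g' * n⁻¹, ?_, ?_⟩
  · have h1 : Commute (g' * n⁻¹) (x ^ j) := by
      show g' * n⁻¹ * x ^ j = x ^ j * (g' * n⁻¹)
      calc g' * n⁻¹ * x ^ j = (g' * x * g'⁻¹) * g' * n⁻¹ := by rw [← hnx]; group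
        _ = x ^ j * (g' * n⁻¹) := by rw [hg'x]; group
    have hcop : Nat.Coprime (orderOf x) j := by
      rw [X.ord, Nat.Prime.coprime_iff_not_dvd (by norm_num)]; omega
    obtain ⟨l, hl⟩ := exists_pow_eq_self_of_coprime hcop.symm
    exact hl ▸ h1.pow_right l
  · have : n⁻¹ * z * n = z := by rw [mul_assoc, ← hnz, inv_mul_cancel_left]
    calc g' * n⁻¹ * z * (g' * n⁻¹)⁻¹ = g' * (n⁻¹ * z * n) * g'⁻¹ := by group
      _ = _ := by rw [this, hg'z]

/-- The action of `C(x) ∩ C(z)` on the plane. -/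
theorem exists_plane_hom {C : Subgroup G} (hC : ∀ g, g ∈ C ↔ Commute g x) :
    ∃ χ : ↥(C ⊓ Subgroup.centralizer ({z} : Set G)) →* Matrix.SpecialLinearGroup (Fin 3) (ZMod 2),
      Function.Surjective χ ∧ ∀ y, χ y = 1 ↔ ∃ k : ℕ,
        (y : G) * (x ^ k)⁻¹ ∈ Q.map (Subgroup.centralizer ({z} : Set G)).subtype := by
  set Y := C ⊓ Subgroup.centralizer ({z} : Set G) with hY
  set Qg := Q.map (Subgroup.centralizer ({z} : Set G)).subtype with hQg
  -- the action on the plane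
  have hYC : ∀ y : Y, (y : G) ∈ Subgroup.centralizer ({z} : Set G) := fun y => y.2.2
  choose γ hγ hγb using fun y : Y => Std.exists_lift S X (hYC y) (j := 1)
    (by rw [pow_one]; exact ((hC _).mp y.2.1).eq)
  have hγC : ∀ y, γ y ∈ C0 := fun y => mem_C0.mpr (by simpa using hγb y)
  let χ₀ : Y → Matrix.SpecialLinearGroup (Fin 3) (ZMod 2) := fun y => rep3 ⟨γ y, hγC y⟩
  have huniq : ∀ (y : Y) (δ : Co0) (hδ : δ ∈ C0), (QuotientGroup.mk ⟨y, hYC y⟩ :
      (Subgroup.centralizer ({z} : Set G)) ⧸ Q) = phi e δ → χ₀ y = rep3 ⟨δ, hδ⟩ := by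
    intro y δ hδ h
    rcases phi_eq e ((hγ y).symm.trans h) with h1 | h1
    · exact congrArg rep3 (Subtype.ext h1)
    · show rep3 ⟨γ y, hγC y⟩ = _
      rw [show (⟨γ y, hγC y⟩ : C0) = ⟨negAut * δ, mul_mem negAut_mem_C0 hδ⟩ from Subtype.ext h1,
        rep3_mul negAut_mem_C0 hδ, rep3_neg, one_mul]
  let χ : Y →* Matrix.SpecialLinearGroup (Fin 3) (ZMod 2) := MonoidHom.mk' χ₀ fun a b => by
    rw [huniq (a * b) (γ a * γ b) (mul_mem (hγC a) (hγC b)) (by
      rw [map_mul, ← hγ a, ← hγ b, ← QuotientGroup.mk_mul]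
      exact congrArg QuotientGroup.mk (Subtype.ext (Subgroup.coe_mul _ _ _)))]
    exact rep3_mul _ _ _
  have hχs : Function.Surjective χ := by
    intro M
    obtain ⟨⟨δ, hδ⟩, rfl⟩ := rep3_surjective M
    obtain ⟨y, hy, i, hyx, hyi⟩ := exists_cent_lift S X (mem_C0.mp hδ)
    refine ⟨⟨y, (hC y).mpr hyx, hy⟩, ?_⟩
    show χ₀ _ = _
    rw [huniq _ (b0 ^ i * δ) (mul_mem (pow_mem b0_mem_C0 i) hδ) hyi]
    rw [rep3_mul (pow_mem b0_mem_C0 i) hδ, rep3_b0_pow, one_mul]
  have hχone : ∀ y : Y, χ y = 1 ↔ ∃ k : ℕ, (y : G) * (x ^ k)⁻¹ ∈ Qg := by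
    intro y
    constructor
    · intro h
      obtain ⟨k, hk⟩ := rep3_ker h
      refine ⟨k, ⟨⟨y, hYC y⟩ * (⟨x, X.hz⟩ ^ k)⁻¹, ?_, rfl⟩⟩
      show _ ∈ Q
      rw [← QuotientGroup.eq_one_iff, QuotientGroup.mk_mul, QuotientGroup.mk_inv, QuotientGroup.mk_pow, X.img,
        hγ y, ← map_pow, mul_inv_eq_one]
      rcases hk with hk | hk <;> simp only at hk <;> rw [hk]
      rw [map_mul, phi_neg, one_mul]
    · rintro ⟨k, ⟨q, hq, hqe⟩⟩
      show χ₀ y = 1
      rw [huniq y (b0 ^ k) (pow_mem b0_mem_C0 k) ?_]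
      · exact rep3_b0_pow k _
      · have : (⟨y, hYC y⟩ : Subgroup.centralizer ({z} : Set G)) = q * ⟨x, X.hz⟩ ^ k :=
          Subtype.ext (show (y : G) = (q : G) * x ^ k by
            rw [show (q : G) = (y : G) * (x ^ k)⁻¹ from hqe, inv_mul_cancel_right])
        rw [this, QuotientGroup.mk_mul, (QuotientGroup.eq_one_iff q).mpr hq, one_mul, QuotientGroup.mk_pow, X.img,
          map_pow]
  exact ⟨χ, hχs, hχone⟩

set_option maxHeartbeats 1000000 in
/-- Modulo `⟨x⟩` the centraliser of `x` is of Held type. -/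
theorem held (A : Axis Q x) (C B : Subgroup G) (hC : ∀ g, g ∈ C ↔ Commute g x) (hB : B = Subgroup.zpowers x)
    [hn : (B.subgroupOf C).Normal] : IsOfHeldType (C ⧸ B.subgroupOf C) := by
  haveI := sl32_simple
  haveI : Fact (Nat.Prime 2) := ⟨Nat.prime_two⟩
  set Qg := Q.map (Subgroup.centralizer ({z} : Set G)).subtype with hQg
  have hzx : Commute z x := (Std.cz S X : Commute x z).symm
  have hx7 : x ^ 7 = 1 := Std.pow_seven S X
  let π : C →* C ⧸ B.subgroupOf C := QuotientGroup.mk' (B.subgroupOf C)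
  set zb : C ⧸ B.subgroupOf C := π ⟨z, (hC z).mpr hzx⟩ with hzb
  set D := Subgroup.centralizer ({zb} : Set (C ⧸ B.subgroupOf C)) with hD
  set Y := C ⊓ Subgroup.centralizer ({z} : Set G) with hY
  have hπ : ∀ a b : C, π a = π b ↔ (a : G)⁻¹ * b ∈ Subgroup.zpowers x := fun a b => by
    rw [QuotientGroup.mk'_apply, QuotientGroup.mk'_apply, QuotientGroup.eq, Subgroup.mem_subgroupOf, hB]
    rfl
  -- an involution times a power of `x`
  have hcancel : ∀ a b : G, a * a = 1 → Commute a x → b * b = 1 → Commute b x →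
      a⁻¹ * b ∈ Subgroup.zpowers x → a = b := by
    intro a b ha hax hb hbx hab
    obtain ⟨n, hn⟩ := hab
    have hba : b = a * x ^ n := by rw [show x ^ n = a⁻¹ * b from hn, mul_inv_cancel_left]
    have h2 : x ^ (n * 2) = 1 := by
      have h3 : (a * x ^ n) * (a * x ^ n) = 1 := hba ▸ hb
      calc x ^ (n * 2) = (a * a) * x ^ n * x ^ n := by rw [ha, one_mul, ← zpow_add]; congr 1; ring
        _ = a * (a * x ^ n) * x ^ n := by group
        _ = a * (x ^ n * a) * x ^ n := by rw [(hax.zpow_right n).eq]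
        _ = 1 := by rw [← h3]; group
    have h7 : (7 : ℤ) ∣ n * 2 := by
      have := orderOf_dvd_iff_zpow_eq_one.mpr h2
      rwa [X.ord] at this
    have h7' : (7 : ℤ) ∣ n := (Int.Prime.dvd_mul' (by norm_num) h7).resolve_right (by norm_num)
    have : x ^ n = 1 := orderOf_dvd_iff_zpow_eq_one.mp (by rw [X.ord]; exact h7')
    rw [hba, this, mul_one]
  -- `Y` onto `D`
  have hYD : ∀ y : Y, π ⟨y, y.2.1⟩ ∈ D := fun y => by
    refine Subgroup.mem_centralizer_singleton_iff.mpr ?_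
    rw [hzb, ← map_mul, ← map_mul]
    exact congrArg π (Subtype.ext (Subgroup.mem_centralizer_singleton_iff.mp y.2.2))
  let f : Y →* D := (π.comp (Subgroup.inclusion inf_le_left)).codRestrict D hYD
  have hfs : Function.Surjective f := by
    rintro ⟨d, hd⟩
    obtain ⟨g, rfl⟩ := QuotientGroup.mk'_surjective (B.subgroupOf C) d
    have h := Subgroup.mem_centralizer_singleton_iff.mp hd
    have h1 : (g : G) * z * (g : G)⁻¹ = z := by
      have hc : π (g * ⟨z, (hC z).mpr hzx⟩ * g⁻¹) = zb := by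
        rw [map_mul, map_mul, map_inv, h, mul_inv_cancel_right]
      refine hcancel _ _ ?_ ((((hC _).mp g.2).mul_left hzx).mul_left ((hC _).mp g.2).inv_left) S.lh.zz hzx ?_
      · calc (g : G) * z * (g : G)⁻¹ * ((g : G) * z * (g : G)⁻¹) = (g : G) * (z * z) * (g : G)⁻¹ := by group
          _ = 1 := by rw [S.lh.zz]; group
      · exact (hπ _ ⟨z, (hC z).mpr hzx⟩).mp hc
    exact ⟨⟨g, g.2, Subgroup.mem_centralizer_singleton_iff.mpr (mul_inv_eq_iff_eq_mul.mp h1)⟩, rfl⟩
  have hfone : ∀ y : Y, f y = 1 ↔ (y : G) ∈ Subgroup.zpowers x := fun y => by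
    rw [← OneMemClass.coe_eq_one, show ((f y : D) : C ⧸ B.subgroupOf C) = π ⟨y, y.2.1⟩ from rfl,
      ← map_one π, eq_comm, hπ]
    simp
  obtain ⟨χ, hχs, hχone⟩ := exists_plane_hom S X hC
  -- the extraspecial subgroup
  set R := Qg ⊓ Subgroup.centralizer ({x} : Set G) with hR
  have hRY : R ≤ Y := fun r hr => ⟨(hC r).mpr (Subgroup.mem_centralizer_singleton_iff.mp hr.2),
    Subgroup.mem_centralizer_singleton_iff.mpr (S.lh.comm r hr.1)⟩
  have hRB : ∀ r ∈ R, r ∈ Subgroup.zpowers x → r = 1 := by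
    rintro r hr ⟨n, rfl⟩
    have h4 := S.lh.toExt.pow_four hr.1
    have h7 : (x ^ n) ^ 7 = 1 := by
      rw [← zpow_natCast, ← zpow_mul, mul_comm, zpow_mul, zpow_natCast, hx7, one_zpow]
    calc x ^ n = ((x ^ n) ^ 4) ^ 2 * ((x ^ n) ^ 7)⁻¹ := by group
      _ = 1 := by rw [h4, h7]; simp
  set Rb := (R.subgroupOf Y).map f with hRb
  have hfR : ∀ (r : G) (hr : r ∈ R), f ⟨r, hRY hr⟩ ∈ Rb := fun r hr =>
    Subgroup.mem_map_of_mem f (show (⟨r, hRY hr⟩ : Y) ∈ R.subgroupOf Y from hr)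
  have hfinj : ∀ a b : Y, (a : G) ∈ R → (b : G) ∈ R → f a = f b → a = b := fun a b ha hb h => by
    have h1 : f (a * b⁻¹) = 1 := by rw [map_mul, map_inv, h, mul_inv_cancel]
    exact Subtype.ext (mul_inv_eq_one.mp (hRB _ (mul_mem ha (inv_mem hb)) ((hfone _).mp h1)))
  haveI hRn : (R.subgroupOf Y).Normal := ⟨fun r hr y => by
    refine ⟨S.lh.norm (y : G) (Subgroup.mem_centralizer_singleton_iff.mp y.2.2) _ hr.1, ?_⟩
    have hy : (y : G) ∈ Subgroup.centralizer ({x} : Set G) :=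
      Subgroup.mem_centralizer_singleton_iff.mpr ((hC _).mp y.2.1).eq
    exact Subgroup.mul_mem _ (Subgroup.mul_mem _ hy hr.2) (Subgroup.inv_mem _ hy)⟩
  haveI hRbn : Rb.Normal := hRn.map f hfs
  -- the quotient
  let χ' : D →* Matrix.SpecialLinearGroup (Fin 3) (ZMod 2) :=
    f.liftOfSurjective hfs ⟨χ, fun y hy => by
      obtain ⟨k, hk⟩ := (isOfFinOrder_of_finite x).mem_powers_iff_mem_zpowers.mpr ((hfone y).mp hy)
      exact (hχone y).mpr ⟨k, by rw [← show x ^ k = (y : G) from hk, mul_inv_cancel]; exact one_mem _⟩⟩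
  have hχ' : ∀ y, χ' (f y) = χ y := fun y => MonoidHom.liftOfRightInverse_comp_apply f _ _ _ y
  have hχ's : Function.Surjective χ' := fun M => by
    obtain ⟨y, hy⟩ := hχs M; exact ⟨f y, (hχ' y).trans hy⟩
  have hker : χ'.ker = Rb := by
    ext d
    obtain ⟨y, rfl⟩ := hfs d
    rw [MonoidHom.mem_ker, hχ', hχone]
    constructor
    · rintro ⟨k, hk⟩
      have hyx : Commute (y : G) x := (hC _).mp y.2.1
      have hr : (y : G) * (x ^ k)⁻¹ ∈ R :=
        ⟨hk, Subgroup.mem_centralizer_singleton_iff.mpr ((hyx.mul_left ((Commute.refl x).pow_left k).inv_left)).eq⟩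
      refine ⟨⟨_, hRY hr⟩, hr, ?_⟩
      have hxk : f (⟨x ^ k, (hC _).mpr ((Commute.refl x).pow_left k), pow_mem X.hz k⟩ : Y) = 1 :=
        (hfone _).mpr (Subgroup.npow_mem_zpowers x k)
      have hy : y = (⟨(y : G) * (x ^ k)⁻¹, hRY hr⟩ : Y) *
        ⟨x ^ k, (hC _).mpr ((Commute.refl x).pow_left k), pow_mem X.hz k⟩ :=
          Subtype.ext (inv_mul_cancel_right _ _).symm
      conv_rhs => rw [hy, map_mul, hxk, mul_one]
    · rintro ⟨r, hr, hre⟩
      have h1 : f (r⁻¹ * y) = 1 := by rw [map_mul, map_inv, hre, inv_mul_cancel]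
      obtain ⟨k, hk⟩ := (isOfFinOrder_of_finite x).mem_powers_iff_mem_zpowers.mpr ((hfone _).mp h1)
      refine ⟨k, ?_⟩
      rw [show x ^ k = ((r⁻¹ * y : Y) : G) from hk]
      rw [show (y : G) * (((r⁻¹ * y : Y) : G))⁻¹ = (r : G) by simp]
      exact hr.1
  have hzR : z ∈ R := ⟨S.lh.mem, Subgroup.mem_centralizer_singleton_iff.mpr hzx.eq⟩
  set zd : D := f ⟨z, hRY hzR⟩ with hzd
  -- `Rb` is extraspecial
  have hExt : Ext Rb zd := by
    refine ⟨hfR z hzR, fun h => S.lh.ne_one (congrArg Subtype.val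
      (hfinj ⟨z, hRY hzR⟩ 1 hzR (one_mem _) (by rw [map_one]; exact h))), ?_, ?_, ?_, ?_, ?_⟩
    · rw [hzd, ← map_mul, ← map_one f]; exact congrArg f (Subtype.ext S.lh.zz)
    · rintro _ ⟨r, hr, rfl⟩
      rw [hzd, ← map_mul, ← map_mul]; exact congrArg f (Subtype.ext (S.lh.comm _ hr.1))
    · rintro _ ⟨r, hr, rfl⟩
      rw [hzd, ← map_mul, ← map_one f]
      exact (S.lh.sq _ hr.1).imp (fun h => congrArg f (Subtype.ext h)) (fun h => congrArg f (Subtype.ext h))
    · rintro _ ⟨a, ha, rfl⟩ _ ⟨b, hb, rfl⟩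
      rw [hzd, ← map_inv, ← map_mul, ← map_mul, ← map_mul]
      exact (S.lh.conj _ ha.1 _ hb.1).imp (fun h => congrArg f (Subtype.ext h)) (fun h => congrArg f (Subtype.ext h))
    · rintro _ ⟨a, ha, rfl⟩ h1 hz1
      have hax : Commute x (a : G) := (Subgroup.mem_centralizer_singleton_iff.mp ha.2).symm
      obtain ⟨r, hr, hxr, hne⟩ : ∃ r ∈ Qg, Commute x r ∧ ¬ Commute (a : G) r := by
        by_contra hno
        push Not at hno
        rcases Std.centre_R S X ha.1 hax hno with h | h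
        · exact h1 (by rw [show a = 1 from Subtype.ext h, map_one])
        · exact hz1 (congrArg f (Subtype.ext h))
      have hrR : r ∈ R := ⟨hr, Subgroup.mem_centralizer_singleton_iff.mpr hxr.symm.eq⟩
      refine ⟨f ⟨r, hRY hrR⟩, hfR r hrR, ?_⟩
      rw [hzd, ← map_inv, ← map_mul, ← map_mul, ← map_mul]
      refine congrArg f (Subtype.ext ?_)
      exact (S.lh.conj r hr _ ha.1).resolve_left fun h => hne (mul_inv_eq_iff_eq_mul.mp h).symm
  have hRcard : Nat.card Rb = 2 ^ 7 := by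
    rw [← card_R S X]
    refine (Nat.card_eq_of_bijective (fun r : R => (⟨f ⟨r, hRY r.2⟩, hfR r r.2⟩ : Rb)) ⟨?_, ?_⟩).symm
    · intro a b h
      have h2 := hfinj ⟨a, hRY a.2⟩ ⟨b, hRY b.2⟩ a.2 b.2 (congrArg Subtype.val h)
      exact Subtype.ext (congrArg (fun q : Y => (q : G)) h2)
    · rintro ⟨_, r, hr, rfl⟩; exact ⟨⟨r, hr⟩, rfl⟩
  obtain ⟨w, hw⟩ := QuotientGroup.mk_surjective (ψ (cmb (Pi.single 0 1)))
  have hconj64 : ∀ (c : Fin 6 → ZMod 2) (r : Q), Sing c → ψ (cmb c) = QuotientGroup.mk r →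
      IsConj z ((r : Subgroup.centralizer ({z} : Set G)) : G) ∧
        ((r : Subgroup.centralizer ({z} : Set G)) : G) ≠ z := by
    intro c r hc hr
    have hne : c ≠ 0 := fun h => not_sing_zero (h ▸ hc)
    obtain ⟨v, -, hv, hiff⟩ := exists_rep hne
    exact S.conj_of_64 (hiff.mpr hc) ((S.psi_eq.mpr hv).trans hr)
  obtain ⟨hwz, hwne⟩ := hconj64 _ w sing_wv hw.symm
  have hwx : Commute x ((w : Subgroup.centralizer ({z} : Set G)) : G) := (R_classes S X).mpr ⟨_, hw.symm⟩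
  have hwR : ((w : Subgroup.centralizer ({z} : Set G)) : G) ∈ R :=
    ⟨S.coe_mem w, Subgroup.mem_centralizer_singleton_iff.mpr hwx.symm.eq⟩
  -- conjugacy
  have hzdv : ((zd : D) : C ⧸ B.subgroupOf C) = zb := rfl
  have hconj : ∀ (r : G) (hr : r ∈ R), IsConj zb ((f ⟨r, hRY hr⟩ : D) : C ⧸ B.subgroupOf C) ↔ IsConj z r := by
    intro r hr
    constructor
    · intro h
      obtain ⟨d, hd⟩ := isConj_iff.mp h
      obtain ⟨g, rfl⟩ := QuotientGroup.mk'_surjective (B.subgroupOf C) d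
      have h2 : π (g * ⟨z, (hC z).mpr hzx⟩ * g⁻¹) = π ⟨r, (hRY hr).1⟩ := by
        rw [map_mul, map_mul, map_inv]; exact hd
      refine isConj_iff.mpr ⟨g, hcancel _ _ ?_ ((((hC _).mp g.2).mul_left hzx).mul_left ((hC _).mp g.2).inv_left)
        ?_ (Subgroup.mem_centralizer_singleton_iff.mp hr.2) ((hπ _ _).mp h2)⟩
      · calc (g : G) * z * (g : G)⁻¹ * ((g : G) * z * (g : G)⁻¹) = (g : G) * (z * z) * (g : G)⁻¹ := by group
          _ = 1 := by rw [S.lh.zz]; group
      · rcases S.lh.sq r hr.1 with hsq | hsq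
        · exact hsq
        exfalso
        have h3 := congrArg (fun a => a * a) h2
        simp only [← map_mul] at h3
        have hl : g * ⟨z, (hC z).mpr hzx⟩ * g⁻¹ * (g * ⟨z, (hC z).mpr hzx⟩ * g⁻¹) = 1 := by
          refine Subtype.ext ?_
          show (g : G) * z * (g : G)⁻¹ * ((g : G) * z * (g : G)⁻¹) = 1
          calc (g : G) * z * (g : G)⁻¹ * ((g : G) * z * (g : G)⁻¹) = (g : G) * (z * z) * (g : G)⁻¹ := by group
            _ = 1 := by rw [S.lh.zz]; group
        rw [hl] at h3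
        have h4 := (hπ _ _).mp h3
        simp only [Subgroup.coe_one, inv_one, one_mul, Subgroup.coe_mul, hsq] at h4
        exact S.lh.ne_one (hRB z hzR h4)
    · intro h
      obtain ⟨g, hgx, hg⟩ := exists_conj_cent S X A hr.1 (Subgroup.mem_centralizer_singleton_iff.mp hr.2).symm h
      refine isConj_iff.mpr ⟨π ⟨g, (hC g).mpr hgx⟩, ?_⟩
      rw [hzb, ← map_inv, ← map_mul, ← map_mul]
      exact congrArg π (Subtype.ext hg)
  refine ⟨zb, Rb, hRbn, ⟨?_, ?_, ?_, hRcard, ?_⟩, ⟨(QuotientGroup.quotientMulEquivOfEq hker.symm).trans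
    (QuotientGroup.quotientKerEquivOfSurjective χ' hχ's)⟩, ?_⟩
  · refine orderOf_eq_prime ?_ fun h => hExt.ne_one (Subtype.ext h)
    rw [pow_two, ← hzdv, ← Subgroup.coe_mul, hExt.zz, Subgroup.coe_one]
  · -- the generalised Fitting subgroup
    have hnilR : Group.IsNilpotent Rb := hExt.isPGroup.isNilpotent
    have hleF : Rb ≤ fittingSubgroup D := le_sSup ⟨hRbn, hnilR⟩
    have hcentR : ∀ d : D, (∀ r ∈ Rb, d * r = r * d) → d = 1 ∨ d = zd := by
      intro d hd
      obtain ⟨y, rfl⟩ := hfs d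
      obtain ⟨k, hk⟩ := Std.cent_R S X (g := (y : G)) (Subgroup.mem_centralizer_singleton_iff.mp y.2.2)
        ((hC _).mp y.2.1) (fun r hr hxr => by
          have hrR : r ∈ R := ⟨hr, Subgroup.mem_centralizer_singleton_iff.mpr hxr.symm.eq⟩
          have hconjR : (y : G) * r * (y : G)⁻¹ ∈ R := hRn.conj_mem ⟨r, hRY hrR⟩ hrR y
          have h := hd _ (hfR r hrR)
          have h2 : f (y * ⟨r, hRY hrR⟩ * y⁻¹) = f ⟨r, hRY hrR⟩ := by
            rw [map_mul, map_mul, map_inv, h, mul_inv_cancel_right]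
          exact mul_inv_eq_iff_eq_mul.mp (congrArg Subtype.val (hfinj _ _ hconjR hrR h2)))
      have hxk : f (⟨x ^ k, (hC _).mpr ((Commute.refl x).pow_left k), pow_mem X.hz k⟩ : Y) = 1 :=
        (hfone _).mpr (Subgroup.npow_mem_zpowers x k)
      rcases hk with hk | hk
      · left
        rw [show y = ⟨x ^ k, (hC _).mpr ((Commute.refl x).pow_left k), pow_mem X.hz k⟩ from Subtype.ext hk, hxk]
      · right
        rw [show y = (⟨z, hRY hzR⟩ : Y) * ⟨x ^ k, (hC _).mpr ((Commute.refl x).pow_left k), pow_mem X.hz k⟩ from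
          Subtype.ext hk, map_mul, hxk, mul_one]
    have hlayer : layer D = ⊥ := by
      have hle : ∀ a ∈ layer D, a = 1 ∨ a = zd := fun a ha => hcentR a fun r hr =>
        ((Subgroup.mem_centralizer_iff.mp (ComponentsFitting.layer_le_centralizer_fitting ha)) r (hleF hr)).symm
      rw [eq_bot_iff, ← ComponentsBasic.layer_perfect (G := D), Subgroup.commutator_le]
      intro a ha b hb
      rw [Subgroup.mem_bot, commutatorElement_eq_one_iff_mul_comm]
      rcases hle a ha with rfl | rfl <;> rcases hle b hb with rfl | rfl <;> simp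
    rw [generalizedFittingSubgroup, hlayer, bot_sup_eq]
    refine le_antisymm ?_ hleF
    have hM : ((fittingSubgroup D).map χ').Normal := (inferInstance : (fittingSubgroup D).Normal).map χ' hχ's
    rcases hM.eq_bot_or_eq_top with h | h
    · rwa [← hker, ← Subgroup.map_eq_bot_iff]
    · exfalso
      have hnil : Group.IsNilpotent ((fittingSubgroup D).map χ') :=
        Group.nilpotent_of_surjective _ (χ'.subgroupMap_surjective (fittingSubgroup D))
      rw [h] at hnil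
      exact sl32_not_nilpotent (Group.nilpotent_of_surjective (Subgroup.topEquiv :
        (⊤ : Subgroup (Matrix.SpecialLinearGroup (Fin 3) (ZMod 2))) ≃* _).toMonoidHom Subgroup.topEquiv.surjective)
  · refine hExt.isExtraspecial (hfR _ hwR) (fun h => ?_) (fun h => ?_)
    · have := hfinj ⟨_, hRY hwR⟩ 1 hwR (one_mem _) (by rw [map_one]; exact h)
      have h1 : ((w : Subgroup.centralizer ({z} : Set G)) : G) = 1 := congrArg Subtype.val this
      rw [h1, isConj_one_left] at hwz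
      exact S.lh.ne_one hwz
    · exact hwne (congrArg Subtype.val (hfinj ⟨_, hRY hwR⟩ ⟨z, hRY hzR⟩ hwR hzR h))
  · obtain ⟨d, hd⟩ := isConj_iff.mp ((hconj _ hwR).mpr hwz)
    refine ⟨d, ⟨?_, ?_⟩, ?_⟩
    · rw [hd]; exact (f ⟨_, hRY hwR⟩).2
    · have : (⟨d * zb * d⁻¹, by rw [hd]; exact (f ⟨_, hRY hwR⟩).2⟩ : D) = f ⟨_, hRY hwR⟩ := Subtype.ext hd
      rw [this]; exact hfR _ hwR
    · intro h
      exact hwne (congrArg Subtype.val (hfinj ⟨_, hRY hwR⟩ ⟨z, hRY hzR⟩ hwR hzR (Subtype.ext (hd.symm.trans h))))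
  · -- twenty-nine conjugates
    have hQmk : ∀ p : {c : Fin 6 → ZMod 2 // Sing c} × Bool,
        ∃ r : Q, ψ (cmb p.1.1) = QuotientGroup.mk r ∧ ((r : Subgroup.centralizer ({z} : Set G)) : G) =
          ((ψ (cmb p.1.1)).out : Subgroup.centralizer ({z} : Set G)).1 * (if p.2 then z else 1) := by
      intro p
      have hzC : z ∈ Subgroup.centralizer ({z} : Set G) := Subgroup.mem_centralizer_singleton_iff.mpr rfl
      obtain ⟨zq, hzq, hzqe⟩ := S.lh.mem
      refine ⟨(ψ (cmb p.1.1)).out * (if p.2 then ⟨zq, hzq⟩ else 1), ?_, ?_⟩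
      · refine (mk_surj_lift S p.1.1).trans ((S.mk_eq _ _).mpr ?_)
        split_ifs
        · refine Or.inr ?_
          simp only [Subgroup.coe_mul]
          rw [show (zq : G) = z from hzqe, ← mul_assoc, ← S.lh.comm _ (S.coe_mem _), mul_assoc, S.lh.zz, mul_one]
        · left; simp
      · split_ifs
        · simp only [Subgroup.coe_mul, show (zq : G) = z from hzqe]
        · simp
    choose rr hrr hrv using hQmk
    have hrR : ∀ p, ((rr p : Subgroup.centralizer ({z} : Set G)) : G) ∈ R := fun p =>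
      ⟨S.coe_mem _, Subgroup.mem_centralizer_singleton_iff.mpr
        ((R_classes S X).mpr ⟨_, hrr p⟩ : Commute x _).symm.eq⟩
    let F : Option ({c : Fin 6 → ZMod 2 // Sing c} × Bool) → D :=
      fun o => o.elim zd fun p => f ⟨_, hRY (hrR p)⟩
    have hinj : Function.Injective F := by
      intro a b hab
      rcases a with - | a <;> rcases b with - | b
      · rfl
      · exact absurd (congrArg Subtype.val (hfinj _ _ hzR (hrR b) hab)).symm
          ((hconj64 _ _ b.1.2 (hrr b)).2)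
      · exact absurd (congrArg Subtype.val (hfinj _ _ (hrR a) hzR hab)) ((hconj64 _ _ a.1.2 (hrr a)).2)
      · have h := congrArg Subtype.val (hfinj _ _ (hrR a) (hrR b) hab)
        have hc : a.1.1 = b.1.1 := cmb_inj (S.psi_eq.mp (by
          rw [hrr a, hrr b, S.mk_eq]; exact Or.inl h))
        have h' : ((rr a : Subgroup.centralizer ({z} : Set G)) : G) = (rr b : Subgroup.centralizer ({z} : Set G)) := h
        rw [hrv, hrv, hc] at h'
        have hb2 : a.2 = b.2 := by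
          have h3 := mul_left_cancel h'
          revert h3
          cases a.2 <;> cases b.2 <;> simp [S.lh.ne_one, Ne.symm S.lh.ne_one]
        exact congrArg some (Prod.ext (Subtype.ext hc) hb2)
    have hrange : {d : D | d ∈ Rb ∧ IsConj zb (d : C ⧸ B.subgroupOf C)} = Set.range F := by
      ext d
      constructor
      · rintro ⟨⟨r, hr, rfl⟩, hd⟩
        have hrc : IsConj z (r : G) := (hconj _ hr).mp hd
        by_cases hrz : (r : G) = z
        · exact ⟨none, congrArg f (Subtype.ext hrz.symm)⟩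
        obtain ⟨qc, hq, hqr⟩ := hr.1
        obtain ⟨c, hc⟩ := (R_classes S X (r := ⟨qc, hq⟩)).mp
          (show Commute x (qc : G) from
            (show (qc : G) = r from hqr) ▸ (Subgroup.mem_centralizer_singleton_iff.mp hr.2).symm)
        obtain ⟨v, hv, hvq⟩ := S.class64 (a := ⟨qc, hq⟩) ((show (qc : G) = r from hqr).symm ▸ hrc)
          ((show (qc : G) = r from hqr).symm ▸ hrz)
        have hs : Sing c := sing_of_cg hv (S.psi_eq.mp (hvq.trans hc.symm))
        have hqr' : (qc : G) = (r : G) := hqr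
        rcases (S.mk_eq ⟨qc, hq⟩ (ψ (cmb c)).out).mp (by rw [← hc]; exact mk_surj_lift S c) with h | h
        · refine ⟨some (⟨c, hs⟩, false), congrArg f (Subtype.ext ?_)⟩
          show ((rr (⟨c, hs⟩, false) : Subgroup.centralizer ({z} : Set G)) : G) = r
          rw [hrv, ← hqr']; simpa using h.symm
        · refine ⟨some (⟨c, hs⟩, true), congrArg f (Subtype.ext ?_)⟩
          show ((rr (⟨c, hs⟩, true) : Subgroup.centralizer ({z} : Set G)) : G) = r
          rw [hrv, ← hqr', if_pos rfl, S.lh.comm _ (S.coe_mem _)]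
          exact h.symm
      · rintro ⟨o, rfl⟩
        rcases o with - | p
        · exact ⟨hfR z hzR, IsConj.refl _⟩
        · exact ⟨hfR _ (hrR p), (hconj _ (hrR p)).mpr (hconj64 _ _ p.1.2 (hrr p)).1⟩
    rw [hrange, Set.ncard_range_of_injective hinj, Nat.card_eq_fintype_card, Fintype.card_option, sing_card]

end Cfsg.Agent.MonsterSeven71
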