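import Cfsg.Agent.Lib.MonsterSevenData71
import Cfsg.Agent.Lib.LeechCent11
import Cfsg.Agent.Lib.LeechCoOneSimple
import Cfsg.Prelude.Def_MonsterType

/-!
An automorphism of order seven of the lattice with three fixed points: only its own powers centralise it and
fix six short fixed vectors, nothing inverting it does, and a conjugate of a sign change inverts it.
-/

set_option autoImplicit false
set_option linter.style.haveILetI false

open scoped Pointwise symmDiff

namespace Cfsg.Agent.MonsterSevenLattice71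

open Cfsg Cfsg.Agent.GolayBasic Cfsg.Agent.LeechBasic Cfsg.Agent.LeechAut Cfsg.Agent.LeechXi
open Cfsg.Agent.LeechCert Cfsg.Agent.LeechOutTool Cfsg.Agent.LeechStab Cfsg.Agent.LeechIndex
open Cfsg.Agent.MonsterSevenData71
open Cfsg.Agent.GolayPerm (good valid pmask pimg permOf permOf_mem_M24 permOf_apply valid_of_good pfun
  smul_mset smul_mem_supports)
open Cfsg.Agent.LeechMonomial (monomial_injective)
open Cfsg.Agent.LeechNormalizers (permElt coe_permElt_smul mem_mono_of_frame)
open Cfsg.Agent.LeechCent11 (El_perm El_append' El_wNeg)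

/-! ### Vectors -/

/-- A multiple of an indicator. -/
def ind (l : List ℕ) (a : ℤ) : GolayPt → ℤ := fun p => if idx p ∈ l then a else 0

/-- The six short vectors. -/
def svF : Fin 6 → GolayPt → ℤ :=
  ![ind [23, 11] 4, ind [23, 15] 4, ind [11, 15] 4,
    ind [23, 0, 20, 1, 14, 13, 12, 7] 2, ind [11, 2, 17, 21, 6, 19, 10, 22] 2,
    ind [15, 3, 5, 18, 16, 9, 4, 8] 2]

theorem svF_facts : ∀ j, isL (svF j) = true ∧ sqNorm (svF j) = 32 := by decide +kernel

/-- The six short vectors, in the lattice. -/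
def sv (j : Fin 6) : leechLattice := ⟨svF j, isL_iff.mp (svF_facts j).1⟩

theorem sqNorm_sv (j : Fin 6) : sqNorm (sv j : GolayPt → ℤ) = 32 := (svF_facts j).2

/-- Five vectors of norm 64. -/
def wv : Fin 5 → leechLattice :=
  ![sv 0 + sv 5, sv 1 + sv 4, sv 3 + sv 4, sv 3 + sv 5, sv 0 + sv 1 - sv 2]

theorem wv_facts : (∀ k, sqNorm (wv k : GolayPt → ℤ) = 64) ∧
    ¬ (16 : ℤ) ∣ dotInt (wv 0 : GolayPt → ℤ) (wv 3) := by
  decide +kernel

/-- The short vectors modulo two, in terms of the five. -/
def combos : Fin 6 → List (Fin 5) := ![[0, 2, 4], [1, 3, 4], [0, 1, 2, 3, 4], [2, 3, 4], [3, 4], [2, 4]]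

theorem combo_facts : ∀ j : Fin 6,
    (∀ p, (svF j p - (((combos j).map wv).sum : leechLattice).1 p) % 2 = 0) ∧
    isL (fun p => (svF j p - (((combos j).map wv).sum : leechLattice).1 p) / 2) = true := by
  decide +kernel

theorem frame_eq : (wv 4 : GolayPt → ℤ) = (frame none : GolayPt → ℤ) := by
  funext p; revert p; decide +kernel

/-! ### The element of order seven -/

theorem q7_good : good q7 = true := by decide +kernel

/-- The element of order seven. -/
noncomputable def b0 : Co0 := permElt q7 q7_good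

theorem coe_q7 : (⇑(permOf q7) : GolayPt → GolayPt) = pfun q7 :=
  funext (permOf_apply (valid_of_good q7_good))

theorem q7_pow_apply (n : ℕ) (p : GolayPt) : (permOf q7 ^ n) p = (pfun q7)^[n] p := by
  rw [Equiv.Perm.coe_pow, coe_q7]

theorem q7_pow_seven : permOf q7 ^ 7 = 1 := by
  refine Equiv.ext fun p => ?_
  rw [q7_pow_apply, Equiv.Perm.one_apply]
  revert p
  decide +kernel

theorem b0_pow_seven : b0 ^ 7 = 1 := by
  rw [b0, permElt, ← map_pow]
  rw [show (⟨permOf q7, permOf_mem_M24 q7_good⟩ : M24) ^ 7 = 1 from Subtype.ext q7_pow_seven, map_one]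

theorem b0_ne_one : b0 ≠ 1 := by
  intro h
  have h1 : (⟨permOf q7, permOf_mem_M24 q7_good⟩ : M24) = 1 :=
    permHom_injective (h.trans (map_one permHom).symm)
  have h2 := congrArg (fun σ : M24 => (σ : Equiv.Perm GolayPt) (pt 0)) h1
  simp only [Subgroup.coe_one, Equiv.Perm.one_apply, permOf_apply (valid_of_good q7_good)] at h2
  revert h2
  decide +kernel

theorem orderOf_b0 : orderOf b0 = 7 :=
  haveI := Fact.mk (show (7 : ℕ).Prime by norm_num)
  orderOf_eq_prime b0_pow_seven b0_ne_one

theorem b0_smul_eq {v : leechLattice} (h : ∀ p, (v : GolayPt → ℤ) (pfun q7 p) = (v : GolayPt → ℤ) p) :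
    b0 • v = v := by
  refine Subtype.ext (funext fun q => ?_)
  obtain ⟨p, rfl⟩ := (permOf q7).surjective q
  rw [b0, coe_permElt_smul, permOf_apply (valid_of_good q7_good), h]

theorem b0_sv (j : Fin 6) : b0 • sv j = sv j :=
  b0_smul_eq (by revert j; decide +kernel)

theorem b0_wv (k : Fin 5) : b0 • wv k = wv k :=
  b0_smul_eq (by revert k; decide +kernel)

theorem b0_frame : b0 • frame none = frame none := by
  rw [← Subtype.ext frame_eq]; exact b0_wv 4

theorem b0_mem : b0 ∈ mono := mem_mono_of_frame (Or.inl b0_frame)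

/-! ### Permutations centralising or inverting it and preserving the short vectors -/

/-- A candidate permutation. -/
def cand (e k0 k1 k2 : ℕ) : ℕ :=
  horner ((List.range 24).map fun i =>
    (((List.range 3).findSome? fun j =>
      if (cyc.getD j []).contains i then
        some ((cyc.getD j []).getD ((e * (cyc.getD j []).idxOf i + [k0, k1, k2].getD j 0) % 7) 0)
      else none).getD i))

/-- What is checked of a candidate. -/
def candOK (e k0 k1 k2 : ℕ) : Bool :=
  valid (cand e k0 k1 k2) &&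
    (fix3.all fun f => pimg (cand e k0 k1 k2) f == f) &&
    ((List.range 3).all fun j => (List.range 7).all fun m =>
      pimg (cand e k0 k1 k2) ((cyc.getD j []).getD m 0) ==
        (cyc.getD j []).getD ((e * m + [k0, k1, k2].getD j 0) % 7) 0) &&
    (basisRows.all fun b => decide (pmask (cand e k0 k1 k2) b < 2 ^ 24)) &&
    (good (cand e k0 k1 k2) == (e == 1 && k0 == k1 && k1 == k2))

theorem candOK_all : ([1, 6].all fun e => (List.range 7).all fun k0 => (List.range 7).all fun k1 =>
    (List.range 7).all fun k2 => candOK e k0 k1 k2) = true := by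
  decide +kernel

theorem cover : ∀ p : GolayPt, (∃ f ∈ fix3, p = pt f) ∨
    ∃ j < 3, ∃ m < 7, p = pt ((cyc.getD j []).getD m 0) := by
  decide +kernel

theorem idx_cyc : (∀ f ∈ fix3, f < 24 ∧ pfun q7 (pt f) = pt f) ∧
    ∀ j < 3, ∀ m < 7, (cyc.getD j []).getD m 0 < 24 ∧ ∀ a < 7,
      (pfun q7)^[a] (pt ((cyc.getD j []).getD m 0)) = pt ((cyc.getD j []).getD ((a + m) % 7) 0) := by
  decide +kernel

theorem sig_fix : ∀ f ∈ fix3, ∀ q, (∀ j, svF j q = svF j (pt f)) → q = pt f := by
  decide +kernel

theorem sig_cyc : ∀ i < 3, ∀ q, (∀ j, svF j q = svF j (pt ((cyc.getD i []).getD 0 0))) →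
    ∃ k < 7, q = pt ((cyc.getD i []).getD k 0) := by
  decide +kernel

theorem svF_nonneg : ∀ p j, 0 ≤ svF j p := by decide +kernel

theorem svF_cover : ∀ p, ∃ j, svF j p ≠ 0 := by decide +kernel

/-- An element normalising `⟨b0⟩` that fixes the six vectors is a power of `b0`. -/
theorem perm_case {e : ℕ} (he : e = 1 ∨ e = 6) {g : Co0} (hfix : ∀ j, g • sv j = sv j)
    (hconj : g * b0 = b0 ^ e * g) : e = 1 ∧ ∃ k : ℕ, g = b0 ^ k := by
  have hframe : g • frame none = frame none := by
    rw [← Subtype.ext frame_eq]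
    show g • (sv 0 + sv 1 - sv 2) = sv 0 + sv 1 - sv 2
    rw [smul_sub_vec, smul_add_vec, hfix, hfix, hfix]
  obtain ⟨σ, hσ, c, hc, rfl⟩ := mem_mono.mp (mem_mono_of_frame (Or.inl hframe))
  -- the values
  have hval : ∀ j p, svF j (σ p) = if σ p ∈ c then -svF j p else svF j p := by
    intro j p
    have := congrFun (congrArg Subtype.val (hfix j)) (σ p)
    rw [coe_monomial_smul] at this
    simp only [signedPerm, Equiv.symm_apply_apply] at this
    exact this.symm
  have hc0 : c = ∅ := by
    refine Finset.eq_empty_of_forall_notMem fun q hq => ?_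
    obtain ⟨p, rfl⟩ := σ.surjective q
    obtain ⟨j, hj⟩ := svF_cover p
    have := hval j p
    rw [if_pos hq] at this
    have := svF_nonneg p j
    have := svF_nonneg (σ p) j
    omega
  subst hc0
  have hsig : ∀ p j, svF j (σ p) = svF j p := fun p j => by
    rw [hval j p, if_neg (Finset.notMem_empty _)]
  -- the permutation
  have hbe : b0 ^ e = monomial (permOf q7 ^ e) (pow_mem (permOf_mem_M24 q7_good) e) ∅ empty_mem_supports := by
    rw [b0, permElt, ← map_pow]; rfl
  have hs : SemiconjBy σ (permOf q7) (permOf q7 ^ e) := by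
    rw [hbe, show b0 = monomial (permOf q7) (permOf_mem_M24 q7_good) ∅ empty_mem_supports from rfl,
      monomial_mul, monomial_mul] at hconj
    exact (monomial_injective _ _ _ _ hconj).1
  have hk : ∀ i, i < 3 → ∃ k < 7, σ (pt ((cyc.getD i []).getD 0 0)) = pt ((cyc.getD i []).getD k 0) :=
    fun i hi => sig_cyc i hi _ (hsig _)
  obtain ⟨k0, hk0, e0⟩ := hk 0 (by norm_num)
  obtain ⟨k1, hk1, e1⟩ := hk 1 (by norm_num)
  obtain ⟨k2, hk2, e2⟩ := hk 2 (by norm_num)
  have horb : ∀ j < 3, ∀ m < 7, σ (pt ((cyc.getD j []).getD m 0)) =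
      pt ((cyc.getD j []).getD ((e * m + [k0, k1, k2].getD j 0) % 7) 0) := by
    intro j hj m hm
    have hkj : [k0, k1, k2].getD j 0 < 7 ∧ σ (pt ((cyc.getD j []).getD 0 0)) =
        pt ((cyc.getD j []).getD ([k0, k1, k2].getD j 0) 0) := by
      interval_cases j
      exacts [⟨hk0, e0⟩, ⟨hk1, e1⟩, ⟨hk2, e2⟩]
    have h0 := ((idx_cyc.2 j hj 0 (by norm_num)).2 m hm)
    rw [Nat.add_zero, Nat.mod_eq_of_lt hm] at h0
    have h1 := congrArg (fun τ : Equiv.Perm GolayPt => τ (pt ((cyc.getD j []).getD 0 0))) (hs.pow_right m).eq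
    simp only [Equiv.Perm.mul_apply, q7_pow_apply, ← pow_mul] at h1
    rw [h0, hkj.2, ← q7_pow_apply, pow_eq_pow_mod (e * m) q7_pow_seven, q7_pow_apply] at h1
    rw [h1, (idx_cyc.2 j hj _ hkj.1).2 _ (Nat.mod_lt _ (by norm_num)), Nat.mod_add_mod]
  have hfixp : ∀ f ∈ fix3, σ (pt f) = pt f := fun f hf => sig_fix f hf _ (hsig _)
  have hok := candOK_all
  simp only [List.all_eq_true, List.mem_range] at hok
  have hok := hok e (by rcases he with rfl | rfl <;> simp) k0 hk0 k1 hk1 k2 hk2
  simp only [candOK, Bool.and_eq_true, List.all_eq_true, List.mem_range, decide_eq_true_eq,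
    beq_iff_eq] at hok
  obtain ⟨⟨⟨⟨hv, hf⟩, hm'⟩, hlt⟩, hgood⟩ := hok
  have heq : σ = permOf (cand e k0 k1 k2) := by
    refine Equiv.ext fun p => ?_
    rw [permOf_apply hv, pfun]
    rcases cover p with ⟨f, hf', rfl⟩ | ⟨j, hj, m, hm, rfl⟩
    · rw [hfixp f hf', idx_pt (idx_cyc.1 f hf').1, hf f hf']
    · rw [horb j hj m hm, idx_pt (idx_cyc.2 j hj m hm).1, hm' j hj m hm]
  have hg : good (cand e k0 k1 k2) = true := by
    simp only [good, Bool.and_eq_true, List.all_eq_true]
    refine ⟨hv, fun b hb => ?_⟩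
    have hbl : b < 2 ^ 24 := (by decide : ∀ b ∈ basisRows, b < 2 ^ 24) b hb
    have hbc : inCode b = true := (by decide +kernel : ∀ b ∈ basisRows, inCode b = true) b hb
    have := smul_mem_supports (heq ▸ hσ) ((mset_mem_supports hbl).2 hbc)
    rw [smul_mset hv, mset_mem_supports (hlt b hb)] at this
    exact this
  rw [hg, eq_comm] at hgood
  simp only [Bool.and_eq_true, beq_iff_eq] at hgood
  obtain ⟨⟨rfl, rfl⟩, rfl⟩ := hgood
  refine ⟨rfl, k0, ?_⟩
  have hpow : σ = permOf q7 ^ k0 := by
    refine Equiv.ext fun p => ?_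
    rw [q7_pow_apply]
    rcases cover p with ⟨f, hf', rfl⟩ | ⟨j, hj, m, hm, rfl⟩
    · rw [hfixp f hf', Function.iterate_fixed (idx_cyc.1 f hf').2]
    · rw [horb j hj m hm, (idx_cyc.2 j hj m hm).2 k0 hk0, one_mul]
      interval_cases j <;> simp [Nat.add_comm]
  rw [b0, permElt, ← map_pow]
  exact monomial_congr hσ (pow_mem (permOf_mem_M24 q7_good) k0) hc empty_mem_supports hpow rfl

theorem dot_facts : dotInt (svF 0) (svF 1) ≠ 0 ∧ dotInt (svF 0) (svF 2) ≠ 0 ∧ dotInt (svF 0) (svF 3) ≠ 0 ∧
    dotInt (svF 0) (svF 4) ≠ 0 ∧ dotInt (svF 1) (svF 5) ≠ 0 := by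
  decide +kernel

/-- An automorphism fixing the classes of the six vectors fixes or negates all of them. -/
theorem fix_or_neg {g : Co0} (h : ∀ j, g ∈ classStab (sv j)) :
    (∀ j, g • sv j = sv j) ∨ ∀ j, (negAut * g) • sv j = sv j := by
  have hpm : ∀ j, g • sv j = sv j ∨ g • sv j = -sv j := fun j =>
    smul_eq_or_neg (by rw [sqNorm_sv]; norm_num) (h j)
  have link : ∀ i j, dotInt (svF i) (svF j) ≠ 0 →
      (g • sv i = sv i → g • sv j = sv j) ∧ (g • sv i = -sv i → g • sv j = -sv j) := by
    intro i j hne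
    have hd := dotInt_smul g (sv i) (sv j)
    constructor <;> intro hi <;> rcases hpm j with hj | hj <;> first | exact hj | (exfalso; apply hne)
    · rw [hi, hj, AddSubgroup.coe_neg, dotInt_comm, dotInt_neg_left, dotInt_comm] at hd
      show dotInt (sv i : GolayPt → ℤ) (sv j) = 0
      omega
    · rw [hi, hj, AddSubgroup.coe_neg, dotInt_neg_left] at hd
      show dotInt (sv i : GolayPt → ℤ) (sv j) = 0
      omega
  obtain ⟨d1, d2, d3, d4, d5⟩ := dot_facts
  rcases hpm 0 with h0 | h0
  · left
    have h1 := (link 0 1 d1).1 h0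
    intro j
    fin_cases j
    exacts [h0, h1, (link 0 2 d2).1 h0, (link 0 3 d3).1 h0, (link 0 4 d4).1 h0, (link 1 5 d5).1 h1]
  · right
    have h1 := (link 0 1 d1).2 h0
    intro j
    rw [mul_smul, negAut_smul]
    fin_cases j <;> first
      | (show -(g • sv 0) = sv 0; rw [h0, neg_neg])
      | (show -(g • sv 1) = sv 1; rw [h1, neg_neg])
      | (show -(g • sv 2) = sv 2; rw [(link 0 2 d2).2 h0, neg_neg])
      | (show -(g • sv 3) = sv 3; rw [(link 0 3 d3).2 h0, neg_neg])
      | (show -(g • sv 4) = sv 4; rw [(link 0 4 d4).2 h0, neg_neg])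
      | (show -(g • sv 5) = sv 5; rw [(link 1 5 d5).2 h1, neg_neg])

/-- The centraliser of `b0` acts faithfully, up to `b0` and the centre, on the classes of the six vectors. -/
theorem cent_case {g : Co0} (h : ∀ j, g ∈ classStab (sv j)) (hc : g * b0 = b0 * g) :
    ∃ k : ℕ, g = b0 ^ k ∨ g = negAut * b0 ^ k := by
  rcases fix_or_neg h with hf | hf
  · obtain ⟨-, k, hk⟩ := perm_case (Or.inl rfl) hf (by rwa [pow_one])
    exact ⟨k, Or.inl hk⟩
  · obtain ⟨-, k, hk⟩ := perm_case (Or.inl rfl) hf (by
      rw [pow_one, mul_assoc, hc, ← mul_assoc, ← Subgroup.mem_center_iff.mp negAut_mem_center b0, mul_assoc])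
    refine ⟨k, Or.inr ?_⟩
    rw [← hk, ← mul_assoc, show negAut * negAut = 1 from Cfsg.Agent.LeechCoOneSimple.negAut_sq, one_mul]

/-- No automorphism inverting `b0` fixes the classes of the six vectors. -/
theorem invert_case {g : Co0} (h : ∀ j, g ∈ classStab (sv j)) (hc : g * b0 = b0 ^ 6 * g) : False := by
  rcases fix_or_neg h with hf | hf
  · exact absurd (perm_case (Or.inr rfl) hf hc).1 (by norm_num)
  · exact absurd (perm_case (Or.inr rfl) hf (by
      rw [mul_assoc, hc, ← mul_assoc, ← Subgroup.mem_center_iff.mp negAut_mem_center (b0 ^ 6), mul_assoc])).1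
      (by norm_num)

theorem mem_classStab_sv {g : Co0} (h : ∀ k, g ∈ classStab (wv k)) (j : Fin 6) : g ∈ classStab (sv j) := by
  let S : AddSubgroup leechLattice :=
    { carrier := {v | ((g • v : leechLattice) : GolayPt → ℤ) - (v : GolayPt → ℤ) ∈ twiceLeech}
      zero_mem' := by simp [smul_zero_vec]
      add_mem' := fun {a b} ha hb => by
        simp only [Set.mem_setOf_eq, smul_add_vec, AddSubgroup.coe_add] at *
        convert add_mem ha hb using 1
        abel
      neg_mem' := fun {a} ha => by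
        simp only [Set.mem_setOf_eq, smul_neg_vec, AddSubgroup.coe_neg] at *
        convert neg_mem ha using 1
        abel }
  set u : leechLattice := ((combos j).map wv).sum with hu
  have h1 : u ∈ S := AddSubgroup.list_sum_mem _ fun x hx => by
    obtain ⟨k, -, rfl⟩ := List.mem_map.mp hx
    exact mem_classStab.mp (h k)
  obtain ⟨h2, h3⟩ := combo_facts j
  have hdiff : ((sv j - u : leechLattice) : GolayPt → ℤ) ∈ twiceLeech := by
    refine mem_twiceLeech.mpr ⟨_, isL_iff.mp h3, funext fun p => ?_⟩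
    have := h2 p
    rw [AddSubgroup.coe_sub, Pi.sub_apply, Pi.smul_apply, nsmul_eq_mul]
    rw [← hu] at this
    show svF j p - (u : GolayPt → ℤ) p = ((2 : ℕ) : ℤ) * ((svF j p - (u : GolayPt → ℤ) p) / 2)
    push_cast
    omega
  have h4 : sv j - u ∈ S := by
    show _ - _ ∈ twiceLeech
    refine sub_mem ?_ hdiff
    obtain ⟨w, hw, e⟩ := mem_twiceLeech.mp hdiff
    refine mem_twiceLeech.mpr ⟨(g • (⟨w, hw⟩ : leechLattice) : leechLattice), Subtype.coe_prop _, ?_⟩
    rw [show sv j - u = (⟨w, hw⟩ : leechLattice) + ⟨w, hw⟩ from Subtype.ext (by rw [e, two_nsmul]; rfl),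
      smul_add_vec, AddSubgroup.coe_add, two_nsmul]
  rw [mem_classStab]
  have h5 : sv j - u + u ∈ S := add_mem h4 h1
  rw [sub_add_cancel] at h5
  exact h5

/-! ### Elements acting -/

theorem t3_good : good t3 = true := by decide +kernel

/-- It squares `b0`. -/
theorem t3_conj : permElt t3 t3_good * b0 = b0 ^ 2 * permElt t3 t3_good := by
  have e : permOf t3 * permOf q7 = permOf q7 ^ 2 * permOf t3 := by
    refine Equiv.ext fun p => ?_
    simp only [Equiv.Perm.mul_apply, q7_pow_apply, permOf_apply (valid_of_good t3_good), coe_q7]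
    revert p
    decide +kernel
  rw [b0, permElt, permElt, ← map_pow, ← map_mul, ← map_mul]
  exact congrArg permHom (Subtype.ext e)

theorem El_wQ7 : El wQ7 = b0 := El_perm (by decide +kernel)

theorem dod_mem : mset dod ∈ CodeSupp := (mset_mem_supports (by norm_num [dod])).2 (by decide +kernel)

/-- The dodecad sign change. -/
def dodC : CodeSupp := ⟨mset dod, dod_mem⟩

theorem dodC_ne : dodC.1 ≠ ∅ ∧ dodC.1 ≠ Finset.univ := by
  constructor <;> intro h <;>
    · have := congrArg Finset.card h
      rw [show dodC.1 = mset dod from rfl, card_mset] at this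
      simp only [Finset.card_empty, card_univ_pt] at this
      revert this
      decide +kernel

theorem El_wEps : El wEps = signElt dodC := by
  rw [El_mono (P := 984818244535754528103549039458486304) (m := dod) (by decide +kernel)
    (permOf_mem_M24 (by decide +kernel)) dod_mem]
  refine monomial_congr _ _ _ _ (Equiv.ext fun p => ?_) rfl
  rw [permOf_apply (by decide +kernel), Equiv.Perm.one_apply]
  revert p
  decide +kernel

/-- A conjugate of the sign change inverting `b0`. -/
theorem exists_inverting : ∃ k : Co0,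
    k * signElt dodC * k⁻¹ * b0 = b0 ^ 6 * (k * signElt dodC * k⁻¹) := by
  refine ⟨El wK, ?_⟩
  rw [← El_wEps]
  have hinv : El wK * El wKi = 1 := by rw [El_append' (c := []) (by decide +kernel), El_nil]
  rw [← eq_inv_of_mul_eq_one_right hinv]
  have h6 : El (rep 6 wQ7) = b0 ^ 6 := by
    rw [rep, El_replicate (by decide +kernel), El_wQ7]
  have hg : El (wKi ++ wEps ++ wK) = El wK * El wEps * El wKi := by
    rw [El_append (by decide +kernel) (by decide +kernel), El_append (by decide +kernel) (by decide +kernel),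
      mul_assoc]
  rw [← hg, ← h6, ← El_wQ7, El_append' (c := wQ7 ++ (wKi ++ wEps ++ wK)) (by decide +kernel),
    El_append' (c := wQ7 ++ (wKi ++ wEps ++ wK)) (by decide +kernel)]

end Cfsg.Agent.MonsterSevenLattice71
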