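import Cfsg.Agent.Lib.MonsterLocal

/-!
For groups of Monster type the square map on `Q` is half the norm of the lattice classes modulo 2:
lifts of classes of norm 32 and 64 are involutions, those of norm 48 square to `z`; commutators are
given by inner products.
-/

set_option autoImplicit false
set_option linter.style.haveILetI false

namespace Cfsg.Agent.MonsterLocal

open Cfsg Cfsg.Agent.LargeExtraspecial
open Cfsg.Agent.GolayBasic Cfsg.Agent.LeechBasic Cfsg.Agent.LeechAut Cfsg.Agent.LeechIndex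

/-- Twice the indicator of a fixed octad. -/
def octVec : leechLattice :=
  ⟨fun p => if (13062145 : ℕ).testBit (idx p) then 2 else 0, mem_leechLattice.mpr
    ⟨by decide +kernel, by decide +kernel, mem_golayCode.mpr (by decide +kernel)⟩⟩

/-- A relation between norm 32 vectors modulo twice the lattice. -/
def vecA : leechLattice := LeechFrame.P (pt 0) (pt 12)
def vecB : leechLattice := LeechFrame.P (pt 14) (pt 16)
def vecC : leechLattice := LeechFrame.P (pt 17) (pt 1)
def vecY : leechLattice := LeechFrame.M (pt 1) (pt 18) - LeechFrame.P (pt 22) (pt 23)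

theorem relation :
    sqNorm (vecA : GolayPt → ℤ) = 32 ∧ sqNorm (vecB : GolayPt → ℤ) = 32 ∧
    sqNorm (vecC : GolayPt → ℤ) = 32 ∧ sqNorm ((vecA + vecB : leechLattice) : GolayPt → ℤ) = 64 ∧
    sqNorm ((vecA + vecC : leechLattice) : GolayPt → ℤ) = 64 ∧
    sqNorm ((vecB + vecC : leechLattice) : GolayPt → ℤ) = 64 ∧ sqNorm (vecY : GolayPt → ℤ) = 64 ∧
    ∀ p : GolayPt, ((vecA + vecB + vecC : leechLattice) : GolayPt → ℤ) p - (vecY : GolayPt → ℤ) p =
      2 * (octVec : GolayPt → ℤ) p := by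
  refine ⟨?_, ?_, ?_, ?_, ?_, ?_, ?_, ?_⟩ <;> decide +kernel

theorem eight_dvd_dot {v w : leechLattice} : (8 : ℤ) ∣ dotInt (v : GolayPt → ℤ) w := by
  have h := sqNorm_add (v : GolayPt → ℤ) w
  have h1 := sixteen_dvd_sqNorm (mem_leechLattice.mp (add_mem v.2 w.2))
  have h2 := sixteen_dvd_sqNorm (mem_leechLattice.mp v.2)
  have h3 := sixteen_dvd_sqNorm (mem_leechLattice.mp w.2)
  omega

theorem norm_mod {x y : leechLattice} (h : (x : GolayPt → ℤ) - y ∈ twiceLeech) :
    (32 : ℤ) ∣ sqNorm (x : GolayPt → ℤ) - sqNorm (y : GolayPt → ℤ) := by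
  obtain ⟨u, hu, e⟩ := mem_twiceLeech.mp h
  have ex : (x : GolayPt → ℤ) = y + (u + u) := by rw [← two_nsmul, ← e]; abel
  have h1 := sqNorm_add (y : GolayPt → ℤ) (u + u)
  have h2 := sqNorm_add u u
  have h3 := eight_dvd_dot (v := y) (w := ⟨u, hu⟩)
  have h4 : dotInt (y : GolayPt → ℤ) (u + u) = 2 * dotInt (y : GolayPt → ℤ) u := by
    rw [dotInt_comm, dotInt_add_left, dotInt_comm]; ring
  have h5 : dotInt u u = sqNorm u := Finset.sum_congr rfl fun i _ => (sq (u i)).symm
  have h6 := sixteen_dvd_sqNorm (mem_leechLattice.mp hu)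
  rw [← ex, h4, h2, h5] at h1
  simp only at h3
  omega

theorem center_half {G : Type*} [Group G] [Finite G] {z : G} {Qg : Subgroup G} (h : Ext Qg z) {w : G} (hw : w ∈ Qg) (hw2 : w * w = z) :
    Nat.card Qg ≤ 4 * {u : G | u ∈ Qg ∧ u * u = z}.ncard := by
  have hw1 : w ≠ 1 := fun e1 => h.ne_one (by rw [← hw2, e1, mul_one])
  have hwz : w ≠ z := fun e1 => h.ne_one (by rw [← hw2, e1, h.zz])
  obtain ⟨q, hq, eq⟩ := h.partner w hw hw1 hwz
  set K := Qg ⊓ Subgroup.centralizer ({w} : Set G) with hK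
  have h1 : Nat.card Qg = 2 * Nat.card K := by
    refine LeechStab.card_pm inf_le_left hq (fun hq' => ?_) fun y hy => ?_
    · exact (h.not_comm_iff hw hq).mpr eq (Subgroup.mem_centralizer_singleton_iff.mp hq'.2)
    · by_cases hyw : y * w = w * y
      · exact Or.inl ⟨hy, Subgroup.mem_centralizer_singleton_iff.mpr hyw⟩
      · refine Or.inr ⟨Qg.mul_mem (Qg.inv_mem hq) hy, Subgroup.mem_centralizer_singleton_iff.mpr ?_⟩
        have eq' : q⁻¹ * w * q⁻¹⁻¹ = z * w := by
          refine (h.not_comm_iff hw (Qg.inv_mem hq)).mp fun e1 => (h.not_comm_iff hw hq).mpr eq ?_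
          simpa using (show Commute q⁻¹ w from e1).inv_left.eq
        exact mul_inv_eq_iff_eq_mul.mp (h.mul_fix (Qg.inv_mem hq) eq' ((h.not_comm_iff hw hy).mp hyw))
  have h2 : Nat.card K ≤ Nat.card ({u : G | u ∈ Qg ∧ u * u = z} × Bool) := by
    classical
    refine Nat.card_le_card_of_injective (fun y : K => if hy : (y : G) * y = z then
      (⟨⟨y, y.2.1, hy⟩, true⟩) else (⟨⟨w * y, Qg.mul_mem hw y.2.1, ?_⟩, false⟩)) ?_
    · have hc : (y : G) * w = w * y := Subgroup.mem_centralizer_singleton_iff.mp y.2.2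
      have h3 : (y : G) * y = 1 := (h.sq y y.2.1).resolve_right hy
      calc w * (y : G) * (w * y) = w * ((y : G) * w) * y := by group
        _ = (w * w) * ((y : G) * y) := by rw [hc]; group
        _ = z := by rw [hw2, h3, mul_one]
    · intro a b hab
      dsimp only at hab
      split_ifs at hab <;> simp_all
      all_goals exact Subtype.ext (by simpa using hab)
  rw [Nat.card_prod, Nat.card_coe_set_eq, Nat.card_eq_fintype_card (α := Bool), Fintype.card_bool] at h2
  omega

variable {G : Type*} [Group G] [Finite G] {z : G}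
  {Q : Subgroup (Subgroup.centralizer ({z} : Set G))} [Q.Normal]
  {e : (Subgroup.centralizer ({z} : Set G)) ⧸ Q ≃* Spor.Co1}
  {ψ : leechLattice → Q ⧸ Subgroup.center Q}

namespace Setup

variable (S : Setup Q e ψ)
include S

theorem psi_zero : ψ 0 = QuotientGroup.mk (1 : Q) := (S.iso.2.2.1 0).mpr ⟨0, (add_zero 0).symm⟩

/-- A lift of a non-trivial short class is not central. -/
theorem ne_central {v : leechLattice} (h0 : 0 < sqNorm (v : GolayPt → ℤ))
    (h64 : sqNorm (v : GolayPt → ℤ) ≤ 64) {x : Q} (hx : ψ v = QuotientGroup.mk x) :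
    ((x : Subgroup.centralizer ({z} : Set G)) : G) ≠ 1 ∧
      ((x : Subgroup.centralizer ({z} : Set G)) : G) ≠ z := by
  have hnot : ¬ ψ v = QuotientGroup.mk (1 : Q) := fun e1 => by
    rw [← S.psi_zero, S.psi_eq, AddSubgroup.coe_zero, sub_zero] at e1
    rw [LeechMod2.eq_zero_of_mem_twice e1 h64] at h0
    simp [sqNorm] at h0
  rw [hx, S.mk_eq] at hnot
  simpa using hnot

theorem exists_short_class (x : Q) (h1 : ((x : Subgroup.centralizer ({z} : Set G)) : G) ≠ 1)
    (hz : ((x : Subgroup.centralizer ({z} : Set G)) : G) ≠ z) :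
    ∃ v : leechLattice, (sqNorm (v : GolayPt → ℤ) = 32 ∨ sqNorm (v : GolayPt → ℤ) = 48 ∨
      sqNorm (v : GolayPt → ℤ) = 64) ∧ ψ v = QuotientGroup.mk x := by
  obtain ⟨v₀, hv₀⟩ := S.iso.2.1 (QuotientGroup.mk x)
  obtain ⟨v, hvn, hv⟩ := LeechStab.exists_short v₀ (fun h0 => by
    have h : ψ v₀ = ψ 0 := S.psi_eq.mpr (by simpa using h0)
    rw [hv₀, S.psi_zero, S.mk_eq] at h
    simp only [Subgroup.coe_one, mul_one] at h
    exact h.elim h1 hz)
  exact ⟨v, hvn, (S.psi_eq.mpr hv).symm.trans hv₀⟩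

/-- Squares are constant on each of the three orbits. -/
theorem sq_transfer {v w : leechLattice} {N : ℕ} (hN : N = 32 ∨ N = 48 ∨ N = 64)
    (hv : sqNorm (v : GolayPt → ℤ) = N) (hw : sqNorm (w : GolayPt → ℤ) = N) {x y : Q}
    (hx : ψ v = QuotientGroup.mk x) (hy : ψ w = QuotientGroup.mk y) (h : x * x = 1) : y * y = 1 := by
  obtain ⟨k, rfl⟩ := LeechOrbit.exists_smul_eq hN (v := v) (w := w) hv hw
  have hb := S.ne_central (by rcases hN with rfl | rfl | rfl <;> rw [hw] <;> norm_num)
    (by rcases hN with rfl | rfl | rfl <;> rw [hw] <;> norm_num) hy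
  obtain ⟨c, -, hc⟩ := S.exists_conj hx hy hb
  refine Subtype.ext (Subtype.ext ?_)
  simp only [Subgroup.coe_mul, ← hc, Subgroup.coe_one]
  calc (c : G) * ((x : Subgroup.centralizer ({z} : Set G)) : G) * (c : G)⁻¹ *
        ((c : G) * ((x : Subgroup.centralizer ({z} : Set G)) : G) * (c : G)⁻¹)
      = (c : G) * (((x : Subgroup.centralizer ({z} : Set G)) : G) *
          ((x : Subgroup.centralizer ({z} : Set G)) : G)) * (c : G)⁻¹ := by group
    _ = 1 := by
      rw [show ((x : Subgroup.centralizer ({z} : Set G)) : G) *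
        ((x : Subgroup.centralizer ({z} : Set G)) : G) = 1 from
          congrArg (fun q : Q => ((q : Subgroup.centralizer ({z} : Set G)) : G)) h]
      group

/-- Classes of norm 64 consist of conjugates of `z`. -/
theorem conj_of_64 {v : leechLattice} (hv : sqNorm (v : GolayPt → ℤ) = 64) {x : Q}
    (hx : ψ v = QuotientGroup.mk x) :
    IsConj z ((x : Subgroup.centralizer ({z} : Set G)) : G) ∧
      ((x : Subgroup.centralizer ({z} : Set G)) : G) ≠ z := by
  obtain ⟨g, ⟨c, hc, hcs⟩, hgz⟩ := S.nwc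
  have hcs' : (c : G) = g * z * g⁻¹ := hcs
  have hconj : IsConj z ((⟨c, hc⟩ : Q) : G) := isConj_iff.mpr ⟨g, hcs'.symm⟩
  have hne : ((⟨c, hc⟩ : Q) : G) ≠ z := fun e1 => hgz (hcs'.symm.trans e1)
  obtain ⟨u, hu, hua⟩ := S.class64 hconj hne
  obtain ⟨k, rfl⟩ := LeechOrbit.exists_smul_eq (N := 64) (Or.inr (Or.inr rfl))
    (v := u) (w := v) (by exact_mod_cast hu) (by exact_mod_cast hv)
  have hb := S.ne_central (by rw [hv]; norm_num) hv.le hx
  obtain ⟨h, -, hh⟩ := S.exists_conj hua hx hb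
  exact ⟨hconj.trans (isConj_iff.mpr ⟨h, hh⟩), hb.2⟩

theorem sq64 {v : leechLattice} (hv : sqNorm (v : GolayPt → ℤ) = 64) {x : Q}
    (hx : ψ v = QuotientGroup.mk x) : x * x = 1 := by
  obtain ⟨g, hg⟩ := isConj_iff.mp (S.conj_of_64 hv hx).1
  refine Subtype.ext (Subtype.ext ?_)
  simp only [Subgroup.coe_mul, ← hg, Subgroup.coe_one]
  calc g * z * g⁻¹ * (g * z * g⁻¹) = g * (z * z) * g⁻¹ := by group
    _ = 1 := by rw [S.lh.zz]; group

theorem sq48 {v : leechLattice} (hv : sqNorm (v : GolayPt → ℤ) = 48) {x : Q}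
    (hx : ψ v = QuotientGroup.mk x) : ¬ x * x = 1 := by
  intro hxx
  have hall : ∀ u ∈ Q.map (Subgroup.centralizer ({z} : Set G)).subtype, u * u = z →
      ∃ p : {v : leechLattice // sqNorm (v : GolayPt → ℤ) = 32} × Bool,
        (((ψ p.1).out : Q) : Subgroup.centralizer ({z} : Set G)).1 * (if p.2 then z else 1) = u := by
    rintro _ ⟨c, hc, rfl⟩ hcc
    have hn1 : ((⟨c, hc⟩ : Q) : G) ≠ 1 := fun e1 => S.lh.ne_one (by
      rw [← hcc]; show (c : G) * c = 1; rw [show (c : G) = 1 from e1, one_mul])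
    have hnz : ((⟨c, hc⟩ : Q) : G) ≠ z := fun e1 => S.lh.ne_one (by
      rw [← hcc]; show (c : G) * c = 1; rw [show (c : G) = z from e1, S.lh.zz])
    have hne1 : ¬ (⟨c, hc⟩ : Q) * ⟨c, hc⟩ = 1 := fun e1 => S.lh.ne_one (by
      rw [← hcc]; exact congrArg (fun q : Q => ((q : Subgroup.centralizer ({z} : Set G)) : G)) e1)
    obtain ⟨u, hu, hua⟩ := S.exists_short_class ⟨c, hc⟩ hn1 hnz
    rcases hu with hu | hu | hu
    · have e2 : (QuotientGroup.mk (ψ u).out : Q ⧸ Subgroup.center Q) = QuotientGroup.mk ⟨c, hc⟩ := by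
        rw [QuotientGroup.out_eq', hua]
      rcases (S.mk_eq _ _).mp e2 with e3 | e3
      · exact ⟨⟨⟨u, hu⟩, false⟩, by simpa using e3⟩
      · refine ⟨⟨⟨u, hu⟩, true⟩, ?_⟩
        simp only [if_true, e3]
        show z * (c : G) * z = c
        rw [mul_assoc, S.lh.comm (c : G) ⟨c, hc, rfl⟩, ← mul_assoc, S.lh.zz, one_mul]
    · exact absurd (S.sq_transfer (N := 48) (Or.inr (Or.inl rfl)) (by exact_mod_cast hv)
        (by exact_mod_cast hu) hx hua hxx) hne1
    · exact absurd (S.sq64 hu hua) hne1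
  obtain ⟨g, hg, hgz⟩ := S.nwc
  obtain ⟨w, hw, -, hw2⟩ := S.lh.toExt.exists_sqrt hg (S.lh.map_conj g).ne_one hgz
    (by rw [S.card]; norm_num)
  have h1 := center_half S.lh.toExt hw hw2
  rw [S.card] at h1
  have hcard32 : Nat.card {v : leechLattice // sqNorm (v : GolayPt → ℤ) = 32} = 196560 := by
    rw [← LeechCount.count_32, ← LeechCount.ncard_norm 32 (by norm_num), ← Nat.card_coe_set_eq]
    exact Nat.card_congr ⟨fun v => ⟨v.1.1, v.1.2, by exact_mod_cast v.2⟩,
      fun v => ⟨⟨v.1, v.2.1⟩, by exact_mod_cast v.2.2⟩, fun _ => rfl, fun _ => rfl⟩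
  haveI : Finite {v : leechLattice // sqNorm (v : GolayPt → ℤ) = 32} :=
    Nat.finite_of_card_ne_zero (by rw [hcard32]; norm_num)
  have h2 : {u : G | u ∈ Q.map (Subgroup.centralizer ({z} : Set G)).subtype ∧ u * u = z}.ncard ≤
      Nat.card ({v : leechLattice // sqNorm (v : GolayPt → ℤ) = 32} × Bool) := by
    rw [← Nat.card_coe_set_eq]
    choose f hf using fun u : {u : G | u ∈ Q.map (Subgroup.centralizer ({z} : Set G)).subtype ∧
      u * u = z} => hall u.1 u.2.1 u.2.2
    refine Nat.card_le_card_of_injective f fun a b hab => Subtype.ext ?_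
    rw [← hf a, ← hf b, hab]
  rw [Nat.card_prod, hcard32, Nat.card_eq_fintype_card (α := Bool), Fintype.card_bool] at h2
  omega

theorem sq32 {v : leechLattice} (hv : sqNorm (v : GolayPt → ℤ) = 32) {x : Q}
    (hx : ψ v = QuotientGroup.mk x) : x * x = 1 := by
  obtain ⟨ha, hb, hc, hab, hac, hbc, hy, hrel⟩ := relation
  by_contra hne
  obtain ⟨a, hA⟩ := QuotientGroup.mk_surjective (ψ vecA)
  obtain ⟨b, hB⟩ := QuotientGroup.mk_surjective (ψ vecB)
  obtain ⟨c, hC⟩ := QuotientGroup.mk_surjective (ψ vecC)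
  have hadd := S.iso.1
  have key : ∀ (u : leechLattice), sqNorm (u : GolayPt → ℤ) = 32 → ∀ q : Q,
      ψ u = QuotientGroup.mk q →
      ((q : Subgroup.centralizer ({z} : Set G)) : G) * (q : Subgroup.centralizer ({z} : Set G)) = z := by
    intro u hu q hq
    refine (S.lh.sq _ (S.coe_mem q)).resolve_left fun e1 => hne ?_
    exact S.sq_transfer (N := 32) (Or.inl rfl) (by exact_mod_cast hu) (by exact_mod_cast hv) hq hx
      (Subtype.ext (Subtype.ext e1))
  have eab := congrArg (fun q : Q => ((q : Subgroup.centralizer ({z} : Set G)) : G))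
    (S.sq64 hab (x := a * b) (by rw [hadd, ← hA, ← hB]; rfl))
  have eac := congrArg (fun q : Q => ((q : Subgroup.centralizer ({z} : Set G)) : G))
    (S.sq64 hac (x := a * c) (by rw [hadd, ← hA, ← hC]; rfl))
  have ebc := congrArg (fun q : Q => ((q : Subgroup.centralizer ({z} : Set G)) : G))
    (S.sq64 hbc (x := b * c) (by rw [hadd, ← hB, ← hC]; rfl))
  have eabc := congrArg (fun q : Q => ((q : Subgroup.centralizer ({z} : Set G)) : G))
    (S.sq64 hy (x := a * b * c) (by
      rw [show ψ vecY = ψ (vecA + vecB + vecC) from (S.psi_eq.mpr (mem_twiceLeech.mpr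
        ⟨octVec, octVec.2, funext fun p => by
          rw [Pi.sub_apply, hrel p, Pi.smul_apply, nsmul_eq_mul]; rfl⟩)).symm,
        hadd, hadd, ← hA, ← hB, ← hC]; rfl))
  simp only [Subgroup.coe_mul, Subgroup.coe_one] at eab eac ebc eabc
  set A := ((a : Subgroup.centralizer ({z} : Set G)) : G)
  set B := ((b : Subgroup.centralizer ({z} : Set G)) : G)
  set C := ((c : Subgroup.centralizer ({z} : Set G)) : G)
  have ea : A * A = z := key _ ha a hA.symm
  have eb : B * B = z := key _ hb b hB.symm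
  have ec : C * C = z := key _ hc c hC.symm
  have hcomm : ∀ {p r : G}, p ∈ Q.map (Subgroup.centralizer ({z} : Set G)).subtype → p * p = z →
      r * r = z → p * r * (p * r) = 1 → r * p = p * r := by
    intro p r hp h1 h2 h3
    have hzp : z * p = p * z := (S.lh.comm p hp).symm
    calc r * p = p⁻¹ * (p * r * (p * r)) * r⁻¹ := by group
      _ = p⁻¹ * r⁻¹ := by rw [h3]; group
      _ = (p⁻¹ * z) * (z * r⁻¹) := by rw [mul_assoc, ← mul_assoc z, S.lh.zz, one_mul]
      _ = (p⁻¹ * (p * p)) * ((r * r) * r⁻¹) := by rw [h1, h2]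
      _ = p * r := by group
  have c1 := hcomm (S.coe_mem a) ea eb eab
  have c2 := hcomm (S.coe_mem a) ea ec eac
  have c3 := hcomm (S.coe_mem b) eb ec ebc
  apply S.lh.ne_one
  calc z = (z * z) * z := by rw [S.lh.zz, one_mul]
    _ = A * A * (B * B) * (C * C) := by rw [ea, eb, ec]
    _ = A * B * C * (A * B * C) := by
      have d1 : Commute A B := c1.symm
      have d2 : Commute A C := c2.symm
      have d3 : Commute B C := c3.symm
      rw [← pow_two, ← pow_two, ← pow_two, ← pow_two, (d2.mul_left d3).mul_pow, d1.mul_pow]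
    _ = 1 := eabc

/-- The square map is the norm modulo 32. -/
theorem sq_iff {v : leechLattice} {x : Q} (hx : ψ v = QuotientGroup.mk x) :
    x * x = 1 ↔ (32 : ℤ) ∣ sqNorm (v : GolayPt → ℤ) := by
  have hval : ((x : Subgroup.centralizer ({z} : Set G)) : G) = 1 ∨
      ((x : Subgroup.centralizer ({z} : Set G)) : G) = z ∨
      (((x : Subgroup.centralizer ({z} : Set G)) : G) ≠ 1 ∧
        ((x : Subgroup.centralizer ({z} : Set G)) : G) ≠ z) := by tauto
  have htriv : (((x : Subgroup.centralizer ({z} : Set G)) : G) = 1 ∨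
      ((x : Subgroup.centralizer ({z} : Set G)) : G) = z) →
      (x * x = 1 ↔ (32 : ℤ) ∣ sqNorm (v : GolayPt → ℤ)) := by
    intro h
    have h1 : x * x = 1 := Subtype.ext (Subtype.ext (by
      show ((x : Subgroup.centralizer ({z} : Set G)) : G) * (x : Subgroup.centralizer ({z} : Set G)) = 1
      rcases h with h | h <;> simp [h, S.lh.zz]))
    have h2 : ψ v = ψ 0 := by rw [hx, S.psi_zero, S.mk_eq]; simpa using h
    have h3 := norm_mod (S.psi_eq.mp h2)
    simp only [h1, true_iff]
    simpa [sqNorm] using h3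
  rcases hval with h | h | ⟨h1, hz⟩
  · exact htriv (Or.inl h)
  · exact htriv (Or.inr h)
  · obtain ⟨u, hu, hua⟩ := S.exists_short_class x h1 hz
    have hmod := norm_mod (S.psi_eq.mp (hua.trans hx.symm))
    rcases hu with hu | hu | hu <;> rw [hu] at hmod
    · simp only [S.sq32 hu hua, true_iff]; omega
    · simp only [S.sq48 hu hua, false_iff]; omega
    · simp only [S.sq64 hu hua, true_iff]; omega

/-- Commutation is given by the inner product. -/
theorem comm_iff {v w : leechLattice} {x y : Q} (hx : ψ v = QuotientGroup.mk x)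
    (hy : ψ w = QuotientGroup.mk y) :
    x * y = y * x ↔ (16 : ℤ) ∣ dotInt (v : GolayPt → ℤ) w := by
  have h1 := S.sq_iff hx
  have h2 := S.sq_iff hy
  have h3 := S.sq_iff (v := v + w) (x := x * y) (by rw [S.iso.1, hx, hy]; rfl)
  rw [AddSubgroup.coe_add, sqNorm_add] at h3
  have hv := sixteen_dvd_sqNorm (mem_leechLattice.mp v.2)
  have hw := sixteen_dvd_sqNorm (mem_leechLattice.mp w.2)
  have hd := eight_dvd_dot (v := v) (w := w)
  set a := ((x : Subgroup.centralizer ({z} : Set G)) : G) with ha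
  set b := ((y : Subgroup.centralizer ({z} : Set G)) : G) with hb
  have hq : ∀ q : Q, q = 1 ↔ ((q : Subgroup.centralizer ({z} : Set G)) : G) = 1 := fun q =>
    ⟨fun h => by rw [h]; rfl, fun h => Subtype.ext (Subtype.ext h)⟩
  have e0 : x * y = y * x ↔ a * b = b * a :=
    ⟨fun h => congrArg (fun q : Q => ((q : Subgroup.centralizer ({z} : Set G)) : G)) h,
      fun h => Subtype.ext (Subtype.ext h)⟩
  rw [hq, Subgroup.coe_mul, Subgroup.coe_mul] at h1 h2
  rw [hq] at h3
  simp only [Subgroup.coe_mul] at h3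
  rw [← ha] at h1
  rw [← hb] at h2
  rw [← ha, ← hb] at h3
  rw [e0]
  have hza : z * a = a * z := (S.lh.comm a (S.coe_mem x)).symm
  by_cases hc : a * b = b * a
  · have e : a * b * (a * b) = (a * a) * (b * b) := by
      calc a * b * (a * b) = a * (b * a) * b := by group
        _ = _ := by rw [← hc]; group
    rw [e] at h3
    simp only [hc, true_iff]
    rcases S.lh.sq a (S.coe_mem x) with e1 | e1 <;> rcases S.lh.sq b (S.coe_mem y) with e2 | e2 <;>
      simp [e1, e2, S.lh.zz, S.lh.ne_one] at h1 h2 h3 <;> omega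
  · have e' : b * a * b⁻¹ = z * a :=
      (S.lh.toExt.not_comm_iff (S.coe_mem x) (S.coe_mem y)).mp (fun h => hc h.symm)
    have e : a * b * (a * b) = z * ((a * a) * (b * b)) := by
      calc a * b * (a * b) = a * (b * a * b⁻¹) * (b * b) := by group
        _ = (a * z) * a * (b * b) := by rw [e']; group
        _ = _ := by rw [← hza]; group
    rw [e] at h3
    simp only [hc, false_iff]
    rcases S.lh.sq a (S.coe_mem x) with e1 | e1 <;> rcases S.lh.sq b (S.coe_mem y) with e2 | e2 <;>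
      simp [e1, e2, S.lh.zz, S.lh.ne_one] at h1 h2 h3 <;> omega

/-- An involution of `Q` not conjugate to `z` lies over a class of norm 32. -/
theorem class32 {x : Q} (h2 : orderOf ((x : Subgroup.centralizer ({z} : Set G)) : G) = 2)
    (hz : ¬ IsConj z ((x : Subgroup.centralizer ({z} : Set G)) : G)) :
    ∃ v : leechLattice, sqNorm (v : GolayPt → ℤ) = 32 ∧ ψ v = QuotientGroup.mk x := by
  obtain ⟨v, hv, hvx⟩ := S.exists_short_class x (fun h => by rw [h, orderOf_one] at h2; norm_num at h2)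
    fun h => hz (by rw [h])
  rcases hv with hv | hv | hv
  · exact ⟨v, hv, hvx⟩
  · refine absurd (Subtype.ext (Subtype.ext ?_)) (S.sq48 hv hvx)
    have h3 := pow_orderOf_eq_one ((x : Subgroup.centralizer ({z} : Set G)) : G)
    rw [h2, pow_two] at h3
    exact h3
  · exact absurd (S.conj_of_64 hv hvx).1 hz

end Setup

end Cfsg.Agent.MonsterLocal
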