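import Cfsg.Agent.Lib.MonsterHeldData71
import Cfsg.Agent.Lib.MonsterSevenLattice71
import Cfsg.Agent.Lib.PSLSimple
import Cfsg.Agent.Lib.LeechCo2
import Cfsg.Agent.Lib.MonsterSquare
import Cfsg.Agent.Lib.LargeExtraspecialAffineInst

/-!
The fixed classes of the automorphism of order seven: sixty-four of them, fourteen of norm 64 in two
planes, and the homomorphism of its centraliser onto the linear group of one plane.
-/

set_option autoImplicit false
set_option linter.style.haveILetI false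

open scoped Pointwise symmDiff Matrix

namespace Cfsg.Agent.MonsterHeldLattice71

open Cfsg Cfsg.Agent.GolayBasic Cfsg.Agent.LeechBasic Cfsg.Agent.LeechAut Cfsg.Agent.LeechXi
open Cfsg.Agent.LeechCert Cfsg.Agent.LeechOutTool Cfsg.Agent.LeechStab Cfsg.Agent.LeechIndex
open Cfsg.Agent.LeechOrbit (vec)
open Cfsg.Agent.MonsterSevenData71 Cfsg.Agent.MonsterSevenLattice71
open Cfsg.Agent.LeechMonomial (monomial_injective)
open Cfsg.Agent.LeechNormalizers (permElt mem_mono_of_frame)
open Cfsg.Agent.GolayPerm (good valid pmask pimg permOf permOf_mem_M24 permOf_apply valid_of_good pfun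
  smul_mset smul_mem_supports pts mem_pts)
open Cfsg.Agent.LeechCent11 (El_perm El_append')

abbrev Z2 : Type := ZMod 2

/-! ### Congruence modulo twice the lattice -/

/-- Congruence modulo twice the lattice. -/
def Cg (v w : leechLattice) : Prop := (v : GolayPt → ℤ) - (w : GolayPt → ℤ) ∈ twiceLeech

theorem cg_iff_psi {v w : leechLattice} : Cg v w ↔ (v : GolayPt → ℤ) - (w : GolayPt → ℤ) ∈ twiceLeech :=
  Iff.rfl

theorem Cg.refl (v : leechLattice) : Cg v v := by rw [Cg, sub_self]; exact zero_mem _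

theorem Cg.symm {v w : leechLattice} (h : Cg v w) : Cg w v := by
  rw [Cg, ← neg_sub]; exact neg_mem h

theorem Cg.trans {u v w : leechLattice} (h : Cg u v) (h' : Cg v w) : Cg u w := by
  have := add_mem h h'
  rwa [sub_add_sub_cancel] at this

theorem Cg.smul (g : Co0) {v w : leechLattice} (h : Cg v w) : Cg (g • v) (g • w) :=
  LeechOrder.twiceLeech_smul g h

theorem Cg.add {u v u' v' : leechLattice} (h : Cg u u') (h' : Cg v v') : Cg (u + v) (u' + v') := by
  have := add_mem h h'
  rwa [Cg, AddSubgroup.coe_add, AddSubgroup.coe_add, add_sub_add_comm]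

/-- A checkable form. -/
def cgB (x : GolayPt → ℤ) : Bool := (pts.all fun i => x (pt i) % 2 == 0) && isL (fun p => x p / 2)

theorem of_cgB {v w : leechLattice} (h : cgB (fun p => (v : GolayPt → ℤ) p - (w : GolayPt → ℤ) p) = true) :
    Cg v w := by
  simp only [cgB, Bool.and_eq_true, List.all_eq_true, beq_iff_eq] at h
  refine mem_twiceLeech.mpr ⟨_, isL_iff.mp h.2, funext fun p => ?_⟩
  have := h.1 (idx p) (mem_pts.2 (idx_lt p))
  rw [pt_idx] at this
  rw [Pi.smul_apply, Pi.sub_apply, nsmul_eq_mul]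
  push_cast
  omega

/-! ### The fixed classes -/

/-- An odd short vector. -/
def odd : leechLattice := ⟨oddVec, oddVec_mem⟩

/-- A basis of the fixed classes. -/
def wb : Fin 6 → leechLattice := ![wv 0, wv 1, wv 2, wv 3, wv 4, sv 0 - sv 1 + odd]

theorem b0_odd : b0 • odd = odd := b0_smul_eq (by decide +kernel)

theorem b0_wb (k : Fin 6) : b0 • wb k = wb k := b0_smul_eq (by revert k; decide +kernel)

/-- The class with given coordinates. -/
def cmb (c : Fin 6 → Z2) : leechLattice := ∑ i, ((c i).val : ℤ) • wb i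

theorem b0_cmb (c : Fin 6 → Z2) : b0 • cmb c = cmb c := by
  have := map_sum (toHom b0) (fun i => ((c i).val : ℤ) • wb i) Finset.univ
  rw [toHom_apply] at this
  rw [cmb, this]
  exact Finset.sum_congr rfl fun i _ => by rw [map_zsmul, toHom_apply, b0_wb]

theorem cmb_add (a b : Fin 6 → Z2) : Cg (cmb (a + b)) (cmb a + cmb b) := by
  simp only [Cg, cmb, ← Finset.sum_add_distrib, AddSubgroup.val_finsetSum, AddSubgroup.coe_add,
    ← Finset.sum_sub_distrib]
  refine AddSubgroup.sum_mem _ fun i _ => ?_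
  rw [Pi.add_apply]
  rcases LeechFrame.z2 (a i) with e1 | e1 <;> rcases LeechFrame.z2 (b i) with e2 | e2 <;> rw [e1, e2]
  all_goals simp only [show ((1 : Z2) + 1).val = 0 from rfl, add_zero, zero_add, ZMod.val_zero, ZMod.val_one,
    Nat.cast_zero, Nat.cast_one, zero_smul, one_smul, ZeroMemClass.coe_zero]
  all_goals first
    | (rw [sub_self]; exact zero_mem _)
    | exact mem_twiceLeech.mpr ⟨-(wb i : GolayPt → ℤ), neg_mem (wb i).2, by rw [two_nsmul]; abel⟩

/-- Number of a coordinate vector. -/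
def num (c : Fin 6 → Z2) : ℕ := ∑ i, (c i).val * 2 ^ (i : ℕ)

theorem reps_facts : ∀ c : Fin 6 → Z2, c ≠ 0 → isL (vec (reps.getD (num c - 1) 0)) = true ∧
    (sqNorm (vec (reps.getD (num c - 1) 0)) = 32 ∨ sqNorm (vec (reps.getD (num c - 1) 0)) = 48 ∨
      sqNorm (vec (reps.getD (num c - 1) 0)) = 64) ∧
    cgB (fun p => vec (reps.getD (num c - 1) 0) p - (cmb c : GolayPt → ℤ) p) = true := by
  decide +kernel

/-- Whether a class has norm 64. -/
def Sing (c : Fin 6 → Z2) : Prop := num c ∈ [1, 2, 3, 4, 8, 12, 16, 17, 18, 19, 32, 36, 40, 44]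

instance (c : Fin 6 → Z2) : Decidable (Sing c) := by unfold Sing; infer_instance

theorem sing_facts : ∀ c : Fin 6 → Z2, c ≠ 0 → (sqNorm (vec (reps.getD (num c - 1) 0)) = 64 ↔ Sing c) := by
  decide +kernel

theorem exists_rep {c : Fin 6 → Z2} (hc : c ≠ 0) : ∃ v : leechLattice,
    (sqNorm (v : GolayPt → ℤ) = 32 ∨ sqNorm (v : GolayPt → ℤ) = 48 ∨ sqNorm (v : GolayPt → ℤ) = 64) ∧
    Cg v (cmb c) ∧ (sqNorm (v : GolayPt → ℤ) = 64 ↔ Sing c) := by
  obtain ⟨h1, h2, h3⟩ := reps_facts c hc
  exact ⟨⟨_, isL_iff.mp h1⟩, h2, of_cgB h3, sing_facts c hc⟩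

theorem not_sing_zero : ¬ Sing 0 := by decide

theorem cmb_zero : cmb 0 = 0 := by simp [cmb]

theorem eq_zero_of_cg {c : Fin 6 → Z2} (h : Cg (cmb c) 0) : c = 0 := by
  by_contra hc
  obtain ⟨v, hn, hv, -⟩ := exists_rep hc
  have h0 := hv.trans h
  rw [Cg, ZeroMemClass.coe_zero, sub_zero] at h0
  rw [LeechMod2.eq_zero_of_mem_twice h0 (by omega)] at hn
  simp [sqNorm] at hn

theorem cmb_inj {a b : Fin 6 → Z2} (h : Cg (cmb a) (cmb b)) : a = b := by
  have hz : a + b = 0 := eq_zero_of_cg <| ((cmb_add a b).trans (h.add (Cg.refl _))).trans <| by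
    rw [Cg, AddSubgroup.coe_add, ZeroMemClass.coe_zero, sub_zero]
    exact mem_twiceLeech.mpr ⟨_, (cmb b).2, (two_nsmul _).symm⟩
  funext i
  have := congrFun hz i
  simp only [Pi.add_apply, Pi.zero_apply] at this
  revert this
  generalize a i = p
  generalize b i = q
  revert p q
  decide

/-- The number of fixed classes. -/
theorem exists_cmb {v : leechLattice} (hv : b0 • v = v) : ∃ c, Cg v (cmb c) := by
  classical
  let F : AddSubgroup leechLattice :=
    { carrier := {v | b0 • v = v}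
      zero_mem' := smul_zero_vec b0
      add_mem' := fun {a b} ha hb => by
        show b0 • (a + b) = a + b
        rw [smul_add_vec, show b0 • a = a from ha, show b0 • b = b from hb]
      neg_mem' := fun {a} ha => by
        show b0 • (-a) = -a
        rw [smul_neg_vec, show b0 • a = a from ha] }
  -- coordinates
  let pt6 : Fin 6 → GolayPt := ![pt 23, pt 11, pt 15, pt 0, pt 2, pt 3]
  let ρ : F →+ (Fin 6 → ℤ) :=
    AddMonoidHom.mk' (fun v i => ((v : leechLattice) : GolayPt → ℤ) (pt6 i)) fun a b => rfl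
  have hρ : Function.Injective ρ := by
    refine (injective_iff_map_eq_zero ρ).mpr fun a ha => Subtype.ext (Subtype.ext (funext fun p => ?_))
    have hshift : ∀ n p, ((a : leechLattice) : GolayPt → ℤ) ((pfun q7)^[n] p) = (a : leechLattice).1 p := by
      intro n
      induction n with
      | zero => intro p; rfl
      | succ n ih =>
        intro p
        rw [Function.iterate_succ_apply, ih]
        have h1 := congrFun (congrArg Subtype.val (show b0 • (a : leechLattice) = a from a.2)) (permOf q7 p)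
        rw [b0, LeechNormalizers.coe_permElt_smul, permOf_apply (valid_of_good q7_good)] at h1
        exact h1.symm
    obtain ⟨i, n, -, rfl⟩ : ∃ i : Fin 6, ∃ n < 7, p = (pfun q7)^[n] (pt6 i) := by
      revert p; decide +kernel
    rw [hshift]
    exact congrFun ha i
  set F' := ρ.range with hF'
  let dbl : (Fin 6 → ℤ) →+ (Fin 6 → ℤ) := AddMonoidHom.mk' (fun x => x + x) fun a b => by abel
  have hdbl : Function.Injective dbl := fun a b h => funext fun i => by
    have := congrFun h i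
    simp only [dbl, AddMonoidHom.mk'_apply, Pi.add_apply] at this
    omega
  let m2 : (Fin 6 → ℤ) →+ (Fin 6 → Z2) :=
    AddMonoidHom.mk' (fun x i => (x i : Z2)) fun a b => funext fun i => by simp
  have hm2 : Function.Surjective m2 := fun y => ⟨fun i => ((y i).val : ℤ), funext fun i => by simp [m2]⟩
  have hker : dbl.range = m2.ker := by
    ext x
    constructor
    · rintro ⟨u, rfl⟩
      funext i
      simp [dbl, m2, ← two_mul, show (2 : Z2) = 0 from rfl]
    · intro hx
      refine ⟨fun i => x i / 2, funext fun i => ?_⟩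
      have := (ZMod.intCast_zmod_eq_zero_iff_dvd (x i) 2).mp (congrFun hx i)
      show x i / 2 + x i / 2 = x i
      omega
  have h64 : dbl.range.index = 64 := by
    rw [hker, AddSubgroup.index_ker, AddMonoidHom.range_eq_top.mpr hm2, AddSubgroup.card_top,
      Nat.card_eq_fintype_card]
    rfl
  have hfin : F'.index ≠ 0 := by
    let t8 : (Fin 6 → ℤ) →+ (Fin 6 → ZMod 8) :=
      AddMonoidHom.mk' (fun x i => (x i : ZMod 8)) fun a b => funext fun i => by simp
    have hle : t8.ker ≤ F' := by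
      intro x hx
      have hx' : ∀ i, (8 : ℤ) ∣ x i := fun i =>
        (ZMod.intCast_zmod_eq_zero_iff_dvd (x i) 8).mp (congrFun hx i)
      let e : Fin 6 → leechLattice :=
        ![frame (pt 23), frame (pt 11), frame (pt 15),
          frame (pt 0) + frame (pt 20) + frame (pt 1) + frame (pt 14) + frame (pt 13) + frame (pt 12) + frame (pt 7),
          frame (pt 2) + frame (pt 17) + frame (pt 21) + frame (pt 6) + frame (pt 19) + frame (pt 10) + frame (pt 22),
          frame (pt 3) + frame (pt 5) + frame (pt 18) + frame (pt 16) + frame (pt 9) + frame (pt 4) + frame (pt 8)]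
      have he : ∀ i, ∀ p, (e i : GolayPt → ℤ) (pfun q7 p) = (e i : GolayPt → ℤ) p := by decide +kernel
      have hev : ∀ i j, (e i : GolayPt → ℤ) (pt6 j) = if i = j then 8 else 0 := by decide +kernel
      refine ⟨∑ i, (x i / 8) • (⟨e i, b0_smul_eq (he i)⟩ : F), funext fun j => ?_⟩
      rw [map_sum, Finset.sum_apply, Finset.sum_eq_single j]
      · rw [map_zsmul, Pi.smul_apply, smul_eq_mul]
        show x j / 8 * (e j : GolayPt → ℤ) (pt6 j) = x j
        rw [hev, if_pos rfl, Int.ediv_mul_cancel (hx' j)]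
      · intro i _ hij
        rw [map_zsmul, Pi.smul_apply, smul_eq_mul]
        show x i / 8 * (e i : GolayPt → ℤ) (pt6 j) = 0
        rw [hev, if_neg hij, mul_zero]
      · simp
    refine ne_zero_of_dvd_ne_zero ?_ (AddSubgroup.index_dvd_of_le hle)
    rw [AddSubgroup.index_ker]
    exact Nat.card_pos.ne'
  have hrel : (F'.map dbl).relIndex F' = 64 := by
    have hle : F'.map dbl ≤ F' := by
      rintro _ ⟨u, hu, rfl⟩; exact add_mem hu hu
    have h1 := AddSubgroup.relIndex_mul_index hle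
    rw [AddSubgroup.index_map_of_injective _ hdbl, h64, mul_comm F'.index] at h1
    exact Nat.eq_of_mul_eq_mul_right (Nat.pos_of_ne_zero hfin) h1
  -- classes as a quotient of `F / 2F`
  set A := twiceLeech.addSubgroupOf leechLattice with hA
  let f : F →+ leechLattice ⧸ A := (QuotientAddGroup.mk' A).comp F.subtype
  have hfk : (F'.map dbl).comap ρ ≤ f.ker := by
    rintro a ⟨_, ⟨u, rfl⟩, hu⟩
    have hau : a = u + u := hρ (by rw [map_add]; exact hu.symm)
    subst hau
    rw [AddMonoidHom.mem_ker]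
    show QuotientAddGroup.mk' A ((u : leechLattice) + u) = 0
    rw [QuotientAddGroup.mk'_apply, QuotientAddGroup.eq_zero_iff]
    exact mem_twiceLeech.mpr ⟨_, (u : leechLattice).2, (two_nsmul _).symm⟩
  have hidx : ((F'.map dbl).comap ρ).index = 64 := by
    rw [AddSubgroup.index_comap]; exact hrel
  have hrange : Nat.card f.range ≤ 64 := by
    rw [← AddSubgroup.index_ker]
    exact Nat.le_of_dvd (by norm_num) (hidx ▸ AddSubgroup.index_dvd_of_le hfk)
  haveI : Finite f.range := by
    refine Nat.finite_of_card_ne_zero ?_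
    rw [← AddSubgroup.index_ker]
    exact ne_zero_of_dvd_ne_zero (by rw [hidx]; norm_num) (AddSubgroup.index_dvd_of_le hfk)
  let q : (Fin 6 → Z2) → f.range := fun c => ⟨f ⟨cmb c, b0_cmb c⟩, ⟨⟨cmb c, b0_cmb c⟩, rfl⟩⟩
  have hinj : Function.Injective q := fun a b h => cmb_inj (by
    have := QuotientAddGroup.eq.mp (congrArg Subtype.val h)
    rw [hA, AddSubgroup.mem_addSubgroupOf] at this
    exact (show Cg (cmb b) (cmb a) by rw [Cg, sub_eq_neg_add]; simpa using this).symm)
  have hbij := hinj.bijective_of_nat_card_le (by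
    rw [Nat.card_fun, Nat.card_zmod, Nat.card_fin]; exact hrange)
  obtain ⟨c, hc⟩ := hbij.2 ⟨f ⟨v, hv⟩, ⟨⟨v, hv⟩, rfl⟩⟩
  refine ⟨c, ?_⟩
  have := QuotientAddGroup.eq.mp (congrArg Subtype.val hc)
  rw [hA, AddSubgroup.mem_addSubgroupOf] at this
  rw [Cg, sub_eq_neg_add]
  simpa using this

/-- A fixed class containing a vector of norm 64. -/
theorem sing_of_cg {c : Fin 6 → Z2} {v : leechLattice} (hv : sqNorm (v : GolayPt → ℤ) = 64) (h : Cg v (cmb c)) :
    Sing c := by
  by_cases hc : c = 0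
  · exfalso
    subst hc
    rw [cmb_zero, Cg, ZeroMemClass.coe_zero, sub_zero] at h
    rw [LeechMod2.eq_zero_of_mem_twice h hv.le] at hv
    simp [sqNorm] at hv
  obtain ⟨u, hu, hcg, hiff⟩ := exists_rep hc
  apply hiff.mp
  rcases LeechMod2.congr_short u.2 (h.trans hcg.symm) (by omega) (by omega) with e | e | e
  · rw [← e]; exact hv
  · rw [e, LeechCo2.sqNorm_neg'] at hv; exact hv
  · omega

/-- The coordinates of the plane of the frame class. -/
def emb (a : Fin 3 → Z2) : Fin 6 → Z2 := ![a 0, a 1, 0, 0, a 2, 0]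

theorem emb_add : ∀ a b, emb (a + b) = emb a + emb b := by decide +kernel

theorem emb_inj : Function.Injective emb := by decide +kernel

/-- Classes of the plane. -/
def cl (a : Fin 3 → Z2) : leechLattice := cmb (emb a)

theorem cl_add (a b : Fin 3 → Z2) : Cg (cl (a + b)) (cl a + cl b) := by
  rw [cl, emb_add]; exact cmb_add _ _

theorem cl_inj {a b : Fin 3 → Z2} (h : Cg (cl a) (cl b)) : a = b := emb_inj (cmb_inj h)

theorem cl_zero : cl 0 = 0 := by rw [cl, show emb 0 = 0 from by decide, cmb_zero]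

theorem cl_frame : cl ![0, 0, 1] = frame none := Subtype.ext (funext fun p => by revert p; decide +kernel)

/-! ### The plane is invariant -/

/-- The involution inverting `b0`. -/
noncomputable def gam : Co0 := El (wKi ++ wEps ++ wK)

theorem gam_b0 : gam * b0 = b0 ^ 6 * gam := by
  have h6 : El (rep 6 wQ7) = b0 ^ 6 := by
    rw [rep, El_replicate (by decide +kernel), El_wQ7]
  rw [gam, ← h6, ← El_wQ7, El_append' (c := wQ7 ++ (wKi ++ wEps ++ wK)) (by decide +kernel),
    El_append' (c := wQ7 ++ (wKi ++ wEps ++ wK)) (by decide +kernel)]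

/-- A candidate permutation normalising `⟨b0⟩`. -/
def cand2 (e m0 m1 m2 k1 k2 : ℕ) : ℕ :=
  horner ((List.range 24).map fun i =>
    (((List.range 3).findSome? fun j =>
      if (cyc.getD j []).contains i then
        some ((cyc.getD ([m0, m1, m2].getD j 0) []).getD
          ((e * (cyc.getD j []).idxOf i + [0, k1, k2].getD j 0) % 7) 0)
      else if fix3.getD j 24 == i then some (fix3.getD ([m0, m1, m2].getD j 0) 24)
      else none).getD i))

/-- The images of the points fixed by an element normalising `b0` are fixed. -/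
theorem fixed_points : ∀ p : GolayPt, pfun q7 p = p → ∃ f ∈ fix3, p = pt f := by decide +kernel

theorem octad_pairs : ∀ i < 3, ∀ j < 3,
    mset (2 ^ fix3.getD i 0 + ((cyc.getD j []).map (2 ^ ·)).sum) ∈ CodeSupp → i = j := by
  intro i hi j hj h
  have h2 : ∀ i < 3, ∀ j < 3, (2 ^ fix3.getD i 0 + ((cyc.getD j []).map (2 ^ ·)).sum) < 2 ^ 24 ∧
      (inCode (2 ^ fix3.getD i 0 + ((cyc.getD j []).map (2 ^ ·)).sum) = true → i = j) := by decide +kernel
  exact (h2 i hi j hj).2 ((mset_mem_supports (h2 i hi j hj).1).1 h)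

/-- What is checked of a candidate. -/
def cand2OK (m0 m1 m2 k1 k2 : ℕ) : Bool :=
  !(valid (cand2 6 m0 m1 m2 k1 k2)) ||
  (((List.range 3).all fun j => (List.range 7).all fun m =>
      pimg (cand2 6 m0 m1 m2 k1 k2) ((cyc.getD j []).getD m 0) ==
        (cyc.getD ([m0, m1, m2].getD j 0) []).getD ((6 * m + [0, k1, k2].getD j 0) % 7) 0) &&
    ((List.range 3).all fun j =>
      pimg (cand2 6 m0 m1 m2 k1 k2) (fix3.getD j 0) == fix3.getD ([m0, m1, m2].getD j 0) 0) &&
    (basisRows.all fun b => decide (pmask (cand2 6 m0 m1 m2 k1 k2) b < 2 ^ 24)) &&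
    !(good (cand2 6 m0 m1 m2 k1 k2)))

theorem cand2OK_all : ((List.range 3).all fun m0 => (List.range 3).all fun m1 => (List.range 3).all fun m2 =>
    (List.range 7).all fun k1 => (List.range 7).all fun k2 =>
      decide (m0 = m1 ∨ m0 = m2 ∨ m1 = m2) || (valid (cand2 6 m0 m1 m2 k1 k2) && cand2OK m0 m1 m2 k1 k2)) =
        true := by
  decide +kernel

theorem orbit_fix : ∀ i < 3, (pfun q7) (pt ((cyc.getD i []).getD 0 0)) ≠ pt ((cyc.getD i []).getD 0 0) := by
  decide +kernel

theorem iter_point : ∀ i < 3, ∀ m < 7, ∀ a < 7,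
    (pfun q7)^[a] (pt ((cyc.getD i []).getD m 0)) = pt ((cyc.getD i []).getD ((a + m) % 7) 0) :=
  fun i hi m hm => (idx_cyc.2 i hi m hm).2

/-- No monomial element inverts `b0`. -/
theorem no_mono_invert {g : Co0} (hg : g ∈ mono) (h : g * b0 = b0 ^ 6 * g) : False := by
  obtain ⟨σ, hσ, c, hc, rfl⟩ := mem_mono.mp hg
  have hs : SemiconjBy σ (permOf q7) (permOf q7 ^ 6) := by
    have hbe : b0 ^ 6 = monomial (permOf q7 ^ 6) (pow_mem (permOf_mem_M24 q7_good) 6) ∅ empty_mem_supports := by
      rw [b0, permElt, ← map_pow]; rfl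
    rw [hbe, show b0 = monomial (permOf q7) (permOf_mem_M24 q7_good) ∅ empty_mem_supports from rfl,
      monomial_mul, monomial_mul] at h
    exact (monomial_injective _ _ _ _ h).1
  -- compose with a power so that the first orbit representative maps to one
  have hfix : ∀ {τ : Equiv.Perm GolayPt}, SemiconjBy τ (permOf q7) (permOf q7 ^ 6) →
      ∀ p, pfun q7 p = p → pfun q7 (τ p) = τ p := by
    intro τ hτ p hp
    have h1 := (hτ.pow_right 6).eq
    rw [← pow_mul, pow_eq_pow_mod (6 * 6) q7_pow_seven, pow_one] at h1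
    have h2 := congrArg (fun f : Equiv.Perm GolayPt => f p) h1
    simp only [Equiv.Perm.mul_apply, q7_pow_apply, coe_q7, Function.iterate_fixed hp] at h2
    exact h2.symm
  have hmov : ∀ {τ : Equiv.Perm GolayPt}, SemiconjBy τ (permOf q7) (permOf q7 ^ 6) → ∀ i < 3,
      ∃ m < 3, ∃ k < 7, τ (pt ((cyc.getD i []).getD 0 0)) = pt ((cyc.getD m []).getD k 0) := by
    intro τ hτ i hi
    rcases cover (τ (pt ((cyc.getD i []).getD 0 0))) with ⟨f, hf, e⟩ | h
    · exfalso
      have h1 := congrArg (fun π : Equiv.Perm GolayPt => π (pt ((cyc.getD i []).getD 0 0))) hτ.eq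
      simp only [Equiv.Perm.mul_apply, q7_pow_apply, coe_q7] at h1
      rw [e, Function.iterate_fixed (idx_cyc.1 f hf).2, ← e] at h1
      exact orbit_fix i hi (τ.injective h1)
    · exact h
  obtain ⟨a, ha, b, hb, e0⟩ := hmov hs 0 (by norm_num)
  set τ := permOf q7 ^ (7 - b) * σ with hτd
  have hτ : SemiconjBy τ (permOf q7) (permOf q7 ^ 6) :=
    (SemiconjBy.mul_left ((Commute.refl (permOf q7)).pow_pow (7 - b) 6) hs)
  have hτM : τ ∈ M24 := mul_mem (pow_mem (permOf_mem_M24 q7_good) _) hσ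
  have hτ0 : τ (pt ((cyc.getD 0 []).getD 0 0)) = pt ((cyc.getD a []).getD 0 0) := by
    rw [hτd, Equiv.Perm.mul_apply, e0, pow_eq_pow_mod (7 - b) q7_pow_seven, q7_pow_apply,
      iter_point a ha b hb _ (Nat.mod_lt _ (by norm_num))]
    congr 2
    omega
  obtain ⟨m1, hm1, k1, hk1, e1⟩ := hmov hτ 1 (by norm_num)
  obtain ⟨m2, hm2, k2, hk2, e2⟩ := hmov hτ 2 (by norm_num)
  have horb : ∀ j < 3, ∀ m < 7, τ (pt ((cyc.getD j []).getD m 0)) =
      pt ((cyc.getD ([a, m1, m2].getD j 0) []).getD ((6 * m + [0, k1, k2].getD j 0) % 7) 0) := by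
    intro j hj m hm
    have hkj : [a, m1, m2].getD j 0 < 3 ∧ [0, k1, k2].getD j 0 < 7 ∧ τ (pt ((cyc.getD j []).getD 0 0)) =
        pt ((cyc.getD ([a, m1, m2].getD j 0) []).getD ([0, k1, k2].getD j 0) 0) := by
      interval_cases j
      exacts [⟨ha, by norm_num, hτ0⟩, ⟨hm1, hk1, e1⟩, ⟨hm2, hk2, e2⟩]
    have h0 := iter_point j hj 0 (by norm_num) m hm
    rw [Nat.add_zero, Nat.mod_eq_of_lt hm] at h0
    have h1 := congrArg (fun π : Equiv.Perm GolayPt => π (pt ((cyc.getD j []).getD 0 0))) (hτ.pow_right m).eq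
    simp only [Equiv.Perm.mul_apply, q7_pow_apply, ← pow_mul] at h1
    rw [h0, hkj.2.2, ← q7_pow_apply, pow_eq_pow_mod (6 * m) q7_pow_seven, q7_pow_apply] at h1
    rw [h1, iter_point _ hkj.1 _ hkj.2.1 _ (Nat.mod_lt _ (by norm_num)), Nat.mod_add_mod]
  -- the orbits are distinct
  have hdist : ¬ (a = m1 ∨ a = m2 ∨ m1 = m2) := by
    have key : ∀ i < 3, ∀ j < 3, [a, m1, m2].getD i 0 = [a, m1, m2].getD j 0 → i = j := by
      intro i hi j hj hij
      have hk : [0, k1, k2].getD j 0 < 7 := by interval_cases j <;> simp [hk1, hk2]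
      have hk' : [0, k1, k2].getD i 0 < 7 := by interval_cases i <;> simp [hk1, hk2]
      have h1 := horb i hi ((([0, k1, k2].getD i 0) + 7 - [0, k1, k2].getD j 0) % 7) (Nat.mod_lt _ (by norm_num))
      have h2 := horb j hj 0 (by norm_num)
      rw [hij] at h1
      rw [show (6 * 0 + [0, k1, k2].getD j 0) % 7 = [0, k1, k2].getD j 0 by omega] at h2
      rw [show (6 * (([0, k1, k2].getD i 0 + 7 - [0, k1, k2].getD j 0) % 7) + [0, k1, k2].getD i 0) % 7 =
        [0, k1, k2].getD j 0 by omega, ← h2] at h1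
      have h3 := τ.injective h1
      have hinj : ∀ i < 3, ∀ j < 3, ∀ m < 7,
          pt ((cyc.getD i []).getD m 0) = pt ((cyc.getD j []).getD 0 0) → i = j := by decide +kernel
      exact hinj i hi j hj _ (Nat.mod_lt _ (by norm_num)) h3
    rintro (h | h | h)
    · exact absurd (key 0 (by norm_num) 1 (by norm_num) h) (by norm_num)
    · exact absurd (key 0 (by norm_num) 2 (by norm_num) h) (by norm_num)
    · exact absurd (key 1 (by norm_num) 2 (by norm_num) h) (by norm_num)
  -- the fixed points follow the orbits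
  have hfixpt : ∀ j < 3, τ (pt (fix3.getD j 0)) = pt (fix3.getD ([a, m1, m2].getD j 0) 0) := by
    intro j hj
    have hf : fix3.getD j 0 ∈ fix3 := by interval_cases j <;> simp [fix3]
    obtain ⟨f, hf', e⟩ := fixed_points _ (hfix hτ _ (idx_cyc.1 _ hf).2)
    obtain ⟨i, hi, rfl⟩ : ∃ i < 3, f = fix3.getD i 0 := (by decide : ∀ f ∈ fix3, ∃ i < 3, f = fix3.getD i 0) f hf'
    rw [e]
    have hoct : ∀ j < 3, mset (2 ^ fix3.getD j 0 + ((cyc.getD j []).map (2 ^ ·)).sum) ∈ CodeSupp := by
      have h2 : ∀ j < 3, (2 ^ fix3.getD j 0 + ((cyc.getD j []).map (2 ^ ·)).sum) < 2 ^ 24 ∧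
          inCode (2 ^ fix3.getD j 0 + ((cyc.getD j []).map (2 ^ ·)).sum) = true := by decide +kernel
      exact fun j hj => (mset_mem_supports (h2 j hj).1).2 (h2 j hj).2
    have hmj : [a, m1, m2].getD j 0 < 3 := by interval_cases j <;> simp [ha, hm1, hm2]
    have himg : τ • mset (2 ^ fix3.getD j 0 + ((cyc.getD j []).map (2 ^ ·)).sum) =
        mset (2 ^ fix3.getD i 0 + ((cyc.getD ([a, m1, m2].getD j 0) []).map (2 ^ ·)).sum) := by
      have hdesc : ∀ i < 3, ∀ j < 3, mset (2 ^ fix3.getD i 0 + ((cyc.getD j []).map (2 ^ ·)).sum) =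
          insert (pt (fix3.getD i 0)) ((Finset.range 7).image fun m => pt ((cyc.getD j []).getD m 0)) := by
        decide +kernel
      rw [hdesc j hj j hj, hdesc i hi _ hmj, Finset.smul_finset_insert, Equiv.Perm.smul_def, e]
      congr 1
      refine Finset.eq_of_subset_of_card_le (fun q hq => ?_) ?_
      · obtain ⟨_, hq', rfl⟩ := Finset.mem_smul_finset.mp hq
        obtain ⟨m, hm, rfl⟩ := Finset.mem_image.mp hq'
        rw [Equiv.Perm.smul_def, horb j hj m (Finset.mem_range.mp hm)]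
        exact Finset.mem_image.mpr ⟨_, Finset.mem_range.mpr (Nat.mod_lt _ (by norm_num)), rfl⟩
      · rw [Finset.card_smul_finset]
        have hc7 : ∀ j < 3, ((Finset.range 7).image fun m => pt ((cyc.getD j []).getD m 0)).card = 7 := by
          decide +kernel
        rw [hc7 j hj, hc7 _ hmj]
    rw [octad_pairs i hi _ hmj (himg ▸ smul_mem_supports hτM (hoct j hj))]
  have hok := cand2OK_all
  simp only [List.all_eq_true, List.mem_range, Bool.or_eq_true, decide_eq_true_eq, Bool.and_eq_true] at hok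
  obtain ⟨hv, hok⟩ := (hok a ha m1 hm1 m2 hm2 k1 hk1 k2 hk2).resolve_left hdist
  simp only [cand2OK, hv, Bool.not_true, Bool.false_or, Bool.and_eq_true, List.all_eq_true, List.mem_range,
    decide_eq_true_eq, beq_iff_eq, Bool.not_eq_true'] at hok
  obtain ⟨⟨⟨hm', hf'⟩, hlt⟩, hbad⟩ := hok
  have heq : τ = permOf (cand2 6 a m1 m2 k1 k2) := by
    refine Equiv.ext fun p => ?_
    rw [permOf_apply hv, pfun]
    rcases cover p with ⟨f, hf, rfl⟩ | ⟨j, hj, m, hm, rfl⟩
    · obtain ⟨j, hj, rfl⟩ : ∃ i < 3, f = fix3.getD i 0 := (by decide : ∀ f ∈ fix3, ∃ i < 3, f = fix3.getD i 0) f hf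
      rw [hfixpt j hj, idx_pt (idx_cyc.1 _ hf).1, hf' j hj]
    · rw [horb j hj m hm, idx_pt (idx_cyc.2 j hj m hm).1, hm' j hj m hm]
  have hgood : good (cand2 6 a m1 m2 k1 k2) = true := by
    simp only [good, Bool.and_eq_true, List.all_eq_true]
    refine ⟨hv, fun b hb => ?_⟩
    have hbl : b < 2 ^ 24 := (by decide : ∀ b ∈ basisRows, b < 2 ^ 24) b hb
    have hbc : inCode b = true := (by decide +kernel : ∀ b ∈ basisRows, inCode b = true) b hb
    have := smul_mem_supports (heq ▸ hτM) ((mset_mem_supports hbl).2 hbc)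
    rw [smul_mset hv, mset_mem_supports (hlt b hb)] at this
    exact this
  rw [hgood] at hbad
  exact Bool.noConfusion hbad

/-! ### The action on the plane -/

/-- The centraliser of `b0`. -/
abbrev C0 : Subgroup Co0 := Subgroup.centralizer ({b0} : Set Co0)

theorem mem_C0 {g : Co0} : g ∈ C0 ↔ g * b0 = b0 * g := Subgroup.mem_centralizer_singleton_iff

theorem fixed_smul {g : Co0} (hg : g * b0 = b0 * g) {v : leechLattice} (hv : b0 • v = v) :
    b0 • (g • v) = g • v := by rw [← mul_smul, ← hg, mul_smul, hv]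

theorem pa_good : good pa = true := by decide +kernel
theorem pb_good : good pb = true := by decide +kernel
theorem oct0_mem : mset oct0 ∈ CodeSupp := (mset_mem_supports (by norm_num [oct0])).2 (by decide +kernel)

noncomputable def gPa : Co0 := El wPa
noncomputable def gPb : Co0 := El wPb
noncomputable def gS0 : Co0 := El wS0
noncomputable def gCa : Co0 := gam * gPa * gam

theorem comm_of_eqOK {w : List Step} (h : eqOK (wQ7 ++ w) (w ++ wQ7) = true) : El w ∈ C0 := by
  rw [mem_C0, ← El_wQ7]; exact LeechCent11.El_rel h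

theorem gens_mem : gPa ∈ C0 ∧ gPb ∈ C0 ∧ gS0 ∈ C0 ∧ gCa ∈ C0 := by
  have hpa : gPa ∈ C0 := comm_of_eqOK (by decide +kernel)
  refine ⟨hpa, comm_of_eqOK (by decide +kernel), comm_of_eqOK (by decide +kernel), mem_C0.mpr ?_⟩
  have hg6 : gam * b0 ^ 6 = b0 * gam := by
    have h : SemiconjBy gam b0 (b0 ^ 6) := gam_b0
    have := (h.pow_right 6).eq
    rwa [← pow_mul, pow_eq_pow_mod (6 * 6) b0_pow_seven, pow_one] at this
  have hp6 : gPa * b0 ^ 6 = b0 ^ 6 * gPa := ((show Commute gPa b0 from mem_C0.mp hpa).pow_right 6).eq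
  calc gam * gPa * gam * b0 = gam * (gPa * b0 ^ 6) * gam := by rw [mul_assoc, gam_b0]; group
    _ = (gam * b0 ^ 6) * gPa * gam := by rw [hp6]; group
    _ = b0 * (gam * gPa * gam) := by rw [hg6]; group

/-- Check the image of a vector under a word. -/
noncomputable def imgB (w : List Step) (n : ℕ) (v : GolayPt → ℤ) : Bool :=
  cgB (fun p => vec (applyWord w n) p - v p)

theorem of_imgB {w : List Step} (hw : wordValid w = true) {u v : leechLattice} {n : ℕ}
    (hn : sqNorm (u : GolayPt → ℤ) ≤ 80) (hu : (u : GolayPt → ℤ) = vec n)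
    (h : imgB w n (v : GolayPt → ℤ) = true) : Cg (El w • u) v := by
  apply of_cgB
  rw [El_smul hw u n hn hu]
  exact h

/-- Three vectors of norm 64 representing the basis of the plane. -/
def bcode : Fin 3 → ℕ := ![reps.getD 0 0, reps.getD 1 0, reps.getD 15 0]

theorem bcode_facts : ∀ i : Fin 3, isL (vec (bcode i)) = true ∧ sqNorm (vec (bcode i)) = 64 ∧
    cgB (fun p => vec (bcode i) p - (cl (Pi.single i 1) : GolayPt → ℤ) p) = true := by decide +kernel

/-- `g` acts on the plane as the matrix `M`. -/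
def Acts (g : Co0) (M : Matrix (Fin 3) (Fin 3) Z2) : Prop := ∀ a, Cg (g • cl a) (cl (M *ᵥ a))

theorem acts_of_basis {g : Co0} {M : Matrix (Fin 3) (Fin 3) Z2}
    (h : ∀ i, Cg (g • cl (Pi.single i 1)) (cl (fun j => M j i))) : Acts g M := by
  have h0 : Cg (g • cl 0) (cl (M *ᵥ 0)) := by
    rw [Matrix.mulVec_zero, cl_zero, smul_zero_vec]; exact Cg.refl _
  have hadd : ∀ a b, Cg (g • cl a) (cl (M *ᵥ a)) → Cg (g • cl b) (cl (M *ᵥ b)) →
      Cg (g • cl (a + b)) (cl (M *ᵥ (a + b))) := by
    intro a b ha hb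
    refine ((cl_add a b).smul g).trans ?_
    rw [smul_add_vec, Matrix.mulVec_add]
    exact (ha.add hb).trans (cl_add _ _).symm
  intro a
  rw [← Finset.univ_sum_single a]
  refine Finset.sum_induction _ (fun a => Cg (g • cl a) (cl (M *ᵥ a))) hadd h0 fun i _ => ?_
  rcases LeechFrame.z2 (a i) with e | e <;> rw [e]
  · rw [Pi.single_zero]; exact h0
  · convert h i using 2
    rw [Matrix.mulVec_single_one]; rfl

theorem acts_word {w : List Step} {M : Matrix (Fin 3) (Fin 3) Z2} (hw : wordValid w = true)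
    (h : ∀ i, imgB w (bcode i) (cl (fun j => M j i) : GolayPt → ℤ) = true) : Acts (El w) M :=
  acts_of_basis fun i => by
    obtain ⟨h1, h2, h3⟩ := bcode_facts i
    exact ((of_cgB (v := ⟨_, isL_iff.mp h1⟩) h3).smul (El w)).symm.trans
      (of_imgB hw (u := ⟨_, isL_iff.mp h1⟩) (n := bcode i) (by show sqNorm (vec (bcode i)) ≤ 80; rw [h2]; norm_num)
        rfl (h i))

theorem Acts.mul {g h : Co0} {M N : Matrix (Fin 3) (Fin 3) Z2} (hg : Acts g M) (hh : Acts h N) :
    Acts (g * h) (M * N) := fun a => by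
  rw [mul_smul, ← Matrix.mulVec_mulVec]
  exact ((hh a).smul g).trans (hg _)

def mPa : Matrix (Fin 3) (Fin 3) Z2 := !![0, 1, 0; 1, 0, 0; 0, 0, 1]
def mPb : Matrix (Fin 3) (Fin 3) Z2 := !![1, 1, 0; 1, 0, 0; 0, 0, 1]
def mS0 : Matrix (Fin 3) (Fin 3) Z2 := !![1, 0, 0; 0, 1, 0; 1, 1, 1]
def mCa : Matrix (Fin 3) (Fin 3) Z2 := !![1, 0, 1; 0, 1, 0; 0, 0, 1]

theorem acts_pa : Acts gPa mPa := acts_word (by decide +kernel) (by decide +kernel)
theorem acts_pb : Acts gPb mPb := acts_word (by decide +kernel) (by decide +kernel)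
theorem acts_s0 : Acts gS0 mS0 := acts_word (by decide +kernel) (by decide +kernel)

theorem acts_ca : Acts gCa mCa := by
  have hg : gCa = El ((wKi ++ wEps ++ wK) ++ wPa ++ (wKi ++ wEps ++ wK)) := by
    rw [El_append (a := (wKi ++ wEps ++ wK) ++ wPa) (b := wKi ++ wEps ++ wK) (by decide +kernel) (by decide +kernel),
      El_append (a := wKi ++ wEps ++ wK) (b := wPa) (by decide +kernel) (by decide +kernel),
      gCa, gam, gPa, mul_assoc]
  rw [hg]
  exact acts_word (by decide +kernel) (by decide +kernel)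

/-- Every nonzero class of the plane is an image of the frame class. -/
theorem exists_mover {a : Fin 3 → Z2} (ha : a ≠ 0) : ∃ u ∈ C0, Cg (u • frame none) (cl a) := by
  obtain ⟨hpa, hpb, hs0, hca⟩ := gens_mem
  have key : ∀ (u : Co0) (M : Matrix (Fin 3) (Fin 3) Z2), u ∈ C0 → Acts u M → M *ᵥ ![0, 0, 1] = a →
      ∃ u ∈ C0, Cg (u • frame none) (cl a) := fun u M hu hA e => ⟨u, hu, by rw [← cl_frame, ← e]; exact hA _⟩
  have h1 : Acts (1 : Co0) 1 := fun a => by rw [one_smul, Matrix.one_mulVec]; exact Cg.refl _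
  have cases : ∀ a : Fin 3 → Z2, a ≠ 0 → a = ![0, 0, 1] ∨ a = ![1, 0, 1] ∨ a = ![0, 1, 1] ∨ a = ![1, 1, 1] ∨
      a = ![1, 0, 0] ∨ a = ![0, 1, 0] ∨ a = ![1, 1, 0] := by decide +kernel
  rcases cases a ha with rfl | rfl | rfl | rfl | rfl | rfl | rfl
  · exact key 1 1 (one_mem _) h1 (by decide +kernel)
  · exact key _ _ hca acts_ca (by decide +kernel)
  · exact key _ _ (mul_mem hpa hca) (acts_pa.mul acts_ca) (by decide +kernel)
  · exact key _ _ (mul_mem hpb hca) (acts_pb.mul acts_ca) (by decide +kernel)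
  · exact key _ _ (mul_mem hs0 hca) (acts_s0.mul acts_ca) (by decide +kernel)
  · exact key _ _ (mul_mem (mul_mem hs0 hpa) hca) ((acts_s0.mul acts_pa).mul acts_ca) (by decide +kernel)
  · exact key _ _ (mul_mem (mul_mem hpb hs0) hca) ((acts_pb.mul acts_s0).mul acts_ca) (by decide +kernel)

theorem gam_code : wordValid (wKi ++ wEps ++ wK) = true := by decide +kernel

/-- The other plane is the image of the first. -/
theorem exists_other {c : Fin 6 → Z2} (hs : Sing c) :
    (∃ a, a ≠ 0 ∧ c = emb a) ∨ ∃ a, a ≠ 0 ∧ Cg (gam • cl a) (cmb c) := by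
  have h : ∀ c : Fin 6 → Z2, Sing c → (∃ a, a ≠ 0 ∧ c = emb a) ∨ ∃ a : Fin 3 → Z2, a ≠ 0 ∧
      imgB (wKi ++ wEps ++ wK) (reps.getD (num (emb a) - 1) 0) (cmb c : GolayPt → ℤ) = true := by
    decide +kernel
  rcases h c hs with h | ⟨a, ha, himg⟩
  · exact Or.inl h
  refine Or.inr ⟨a, ha, ?_⟩
  have hne : emb a ≠ 0 := fun e => ha (emb_inj (e.trans (by decide)))
  obtain ⟨h1, h2, h3⟩ := reps_facts _ hne
  exact ((of_cgB (v := ⟨_, isL_iff.mp h1⟩) h3).smul gam).symm.trans
    (of_imgB gam_code (u := ⟨_, isL_iff.mp h1⟩) (by show sqNorm (vec _) ≤ 80; omega) rfl himg)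

theorem frame_invariant {g : Co0} (hg : g * b0 = b0 * g) : ∃ a, Cg (g • frame none) (cl a) := by
  obtain ⟨c, hc⟩ := exists_cmb (fixed_smul hg b0_frame)
  have hs := sing_of_cg (by rw [sqNorm_smul, sqNorm_frame]) hc
  rcases exists_other hs with ⟨a, -, rfl⟩ | ⟨a, ha, ha'⟩
  · exact ⟨a, hc⟩
  exfalso
  obtain ⟨u, hu, hu'⟩ := exists_mover ha
  have h1 : Cg ((gam * u) • frame none) (g • frame none) := by
    rw [mul_smul]; exact ((hu'.smul gam).trans ha').trans hc.symm
  have h2 : (gam * u)⁻¹ * g ∈ mono := by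
    rw [← classStab_frame]
    have := h1.symm.smul (gam * u)⁻¹
    rw [inv_smul_smul, ← mul_smul] at this
    exact this
  refine no_mono_invert h2 ?_
  have hgu : SemiconjBy (gam * u) b0 (b0 ^ 6) :=
    SemiconjBy.mul_left (show SemiconjBy gam b0 (b0 ^ 6) from gam_b0) (mem_C0.mp hu)
  have hinv : SemiconjBy (gam * u)⁻¹ (b0 ^ 6) b0 := hgu.inv_symm_left
  have hinv' : SemiconjBy (gam * u)⁻¹ b0 (b0 ^ 6) := by
    have := hinv.pow_right 6
    rwa [← pow_mul, pow_eq_pow_mod (6 * 6) b0_pow_seven, pow_one] at this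
  exact (SemiconjBy.mul_left hinv' (show SemiconjBy g b0 b0 from hg)).eq

theorem plane_invariant {g : Co0} (hg : g * b0 = b0 * g) (a : Fin 3 → Z2) :
    ∃ b, Cg (g • cl a) (cl b) := by
  by_cases ha : a = 0
  · exact ⟨0, by rw [ha, cl_zero, smul_zero_vec]; exact Cg.refl _⟩
  obtain ⟨u, hu, hu'⟩ := exists_mover ha
  obtain ⟨b, hb⟩ := frame_invariant (g := g * u) (mem_C0.mp (mul_mem (mem_C0.mpr hg) hu))
  exact ⟨b, (hu'.smul g).symm.trans (by rwa [← mul_smul])⟩

/-- The linear map induced on the plane. -/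
noncomputable def actFun (g : C0) : (Fin 3 → Z2) →+ (Fin 3 → Z2) :=
  AddMonoidHom.mk' (fun a => (plane_invariant (mem_C0.mp g.2) a).choose) fun a b => by
    have h := (plane_invariant (mem_C0.mp g.2) (a + b)).choose_spec
    have h1 := (plane_invariant (mem_C0.mp g.2) a).choose_spec
    have h2 := (plane_invariant (mem_C0.mp g.2) b).choose_spec
    refine cl_inj (h.symm.trans (((cl_add a b).smul g.1).trans ?_))
    rw [smul_add_vec]
    exact (h1.add h2).trans (cl_add _ _).symm

/-- The matrix of the action on the plane. -/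
noncomputable def actMat (g : C0) : Matrix (Fin 3) (Fin 3) Z2 :=
  LinearMap.toMatrix' ((actFun g).toZModLinearMap 2)

theorem acts_actMat (g : C0) : Acts g.1 (actMat g) := fun a => by
  rw [actMat, LinearMap.toMatrix'_mulVec]
  exact (plane_invariant (mem_C0.mp g.2) a).choose_spec

theorem acts_unique {g : Co0} {M N : Matrix (Fin 3) (Fin 3) Z2} (hM : Acts g M) (hN : Acts g N) : M = N :=
  Matrix.ext_iff_mulVec.mpr fun a => cl_inj ((hM a).symm.trans (hN a))

theorem actMat_mul (g h : C0) : actMat (g * h) = actMat g * actMat h :=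
  acts_unique (acts_actMat (g * h)) ((acts_actMat g).mul (acts_actMat h))

theorem actMat_one : actMat 1 = 1 :=
  acts_unique (acts_actMat 1) fun a => by
    rw [Subgroup.coe_one, one_smul, Matrix.one_mulVec]; exact Cg.refl _

/-- The action on the plane. -/
noncomputable def rep3 : C0 →* Matrix.SpecialLinearGroup (Fin 3) Z2 :=
  MonoidHom.mk' (fun g => ⟨actMat g, LargeExtraspecialAffine.det_eq_one (N := actMat g⁻¹)
    (by rw [← actMat_mul, mul_inv_cancel, actMat_one])⟩) fun g h => Subtype.ext (actMat_mul g h)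

theorem rep3_eq {g : Co0} (hg : g ∈ C0) {M : Matrix (Fin 3) (Fin 3) Z2} (h : Acts g M) :
    ((rep3 ⟨g, hg⟩ : Matrix.SpecialLinearGroup (Fin 3) Z2) : Matrix (Fin 3) (Fin 3) Z2) = M :=
  acts_unique (acts_actMat ⟨g, hg⟩) h

theorem rep3_surjective : Function.Surjective rep3 := by
  rw [← MonoidHom.range_eq_top]
  refine PSLSimple.eq_top_of_transvection_mem _ fun i j hij c => ?_
  rcases LeechFrame.z2 c with rfl | rfl
  · convert one_mem rep3.range
    exact Subtype.ext (by rw [Matrix.SpecialLinearGroup.transvection_coe]; simp)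
  obtain ⟨hpa, hpb, hs0, hca⟩ := gens_mem
  have hmem : ∀ (g : Co0) (hg : g ∈ C0) (M : Matrix (Fin 3) (Fin 3) Z2), Acts g M →
      1 + Matrix.single i j (1 : Z2) = M → Matrix.SpecialLinearGroup.transvection hij 1 ∈ rep3.range := by
    intro g hg M hA e
    refine ⟨⟨g, hg⟩, Subtype.ext ?_⟩
    rw [rep3_eq hg hA, Matrix.SpecialLinearGroup.transvection_coe]
    exact e.symm
  fin_cases i <;> fin_cases j <;> first | exact absurd rfl hij | skip
  · exact hmem _ (mul_mem hpb hpa) _ (acts_pb.mul acts_pa) (by decide +kernel)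
  · exact hmem _ hca _ acts_ca (by decide +kernel)
  · exact hmem _ (mul_mem hpa hpb) _ (acts_pa.mul acts_pb) (by decide +kernel)
  · exact hmem _ (mul_mem (mul_mem hpa hca) hpa) _ ((acts_pa.mul acts_ca).mul acts_pa) (by decide +kernel)
  · exact hmem _ (mul_mem (mul_mem (mul_mem hpb hs0) hpb) hpb) _ (((acts_pb.mul acts_s0).mul acts_pb).mul acts_pb)
      (by decide +kernel)
  · exact hmem _ (mul_mem (mul_mem (mul_mem hpb hpb) hs0) hpb) _ (((acts_pb.mul acts_pb).mul acts_s0).mul acts_pb)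
      (by decide +kernel)

/-- Parity of the product with a basis vector of the plane. -/
def par (c : Fin 6 → Z2) (i : Fin 3) : Bool :=
  dotInt (cmb c : GolayPt → ℤ) (cl (Pi.single i 1) : GolayPt → ℤ) % 16 == 0

theorem par_facts : ∀ k : Fin 6, k = 2 ∨ k = 3 → ∀ c : Fin 6 → Z2, Sing c →
    (∀ i, par c i = par (Pi.single k 1) i) → c = Pi.single k 1 := by
  decide +kernel

theorem wb_cmb : ∀ k : Fin 6, cgB (fun p => (wb k : GolayPt → ℤ) p - (cmb (Pi.single k 1) : GolayPt → ℤ) p) = true := by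
  decide +kernel

theorem plane_basis : ∀ a : Fin 3, ∀ k : Fin 5, (k = 0 ∧ a = 0) ∨ (k = 1 ∧ a = 1) ∨ (k = 4 ∧ a = 2) →
    cgB (fun p => (wv k : GolayPt → ℤ) p - (cl (Pi.single a 1) : GolayPt → ℤ) p) = true := by
  decide +kernel

theorem dot_cg {u v w : leechLattice} (h : Cg u v) :
    (16 : ℤ) ∣ dotInt (u : GolayPt → ℤ) w - dotInt (v : GolayPt → ℤ) w := by
  obtain ⟨d, hd, e⟩ := mem_twiceLeech.mp h
  have e1 : (u : GolayPt → ℤ) = v + (d + d) := by rw [← two_nsmul, ← e]; abel
  obtain ⟨c, hc⟩ := MonsterLocal.eight_dvd_dot (v := ⟨d, hd⟩) (w := w)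
  simp only at hc
  rw [e1, dotInt_add_left, dotInt_add_left, hc]
  exact ⟨c, by ring⟩

/-- The kernel of the action on the plane. -/
theorem rep3_ker {g : C0} (h : rep3 g = 1) : ∃ k : ℕ, (g : Co0) = b0 ^ k ∨ (g : Co0) = negAut * b0 ^ k := by
  have hA : Acts g.1 1 := by
    have := acts_actMat g
    rwa [show actMat g = 1 from congrArg Subtype.val h] at this
  have hpl : ∀ a, Cg (g.1 • cl a) (cl a) := fun a => by simpa using hA a
  refine cent_case (fun j => mem_classStab_sv (fun k => ?_) j) (mem_C0.mp g.2)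
  show Cg (g.1 • wv k) (wv k)
  have hplane : ∀ a : Fin 3, (k = 0 ∧ a = 0) ∨ (k = 1 ∧ a = 1) ∨ (k = 4 ∧ a = 2) → Cg (g.1 • wv k) (wv k) :=
    fun a ha => ((of_cgB (plane_basis a k ha)).smul g.1).trans
      ((hpl _).trans (of_cgB (plane_basis a k ha)).symm)
  have hother : ∀ j : Fin 6, j = 2 ∨ j = 3 → wb j = wv k → Cg (g.1 • wv k) (wv k) := by
    intro j hj hjk
    obtain ⟨c, hc⟩ := exists_cmb (fixed_smul (mem_C0.mp g.2) (b0_wb j))
    have hn : sqNorm (wb j : GolayPt → ℤ) = 64 := by rw [hjk]; exact wv_facts.1 k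
    have hcs : c = Pi.single j 1 := par_facts j hj c (sing_of_cg (by rw [sqNorm_smul, hn]) hc) fun i => by
      have h1 := dot_cg (w := cl (Pi.single i 1)) hc
      have h2 := dot_cg (w := cl (Pi.single i 1)) (of_cgB (wb_cmb j))
      have h3 := dot_cg (w := g.1 • wb j) (hpl (Pi.single i 1))
      rw [dotInt_smul, dotInt_comm (cl (Pi.single i 1) : GolayPt → ℤ),
        dotInt_comm (cl (Pi.single i 1) : GolayPt → ℤ)] at h3
      simp only [par]
      rw [Bool.eq_iff_iff, beq_iff_eq, beq_iff_eq]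
      omega
    rw [hcs] at hc
    rw [← hjk]
    exact hc.trans (of_cgB (wb_cmb j)).symm
  fin_cases k
  · exact hplane 0 (by decide)
  · exact hplane 1 (by decide)
  · exact hother 2 (by decide) rfl
  · exact hother 3 (by decide) rfl
  · exact hplane 2 (by decide)

end Cfsg.Agent.MonsterHeldLattice71
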