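import Cfsg.Agent.Lib.LeechStab
import Cfsg.Agent.Lib.LargeExtraspecialPair
import Cfsg.Agent.Lib.LargeExtraspecialSetting

/-!
The centralizer of a conjugate `s ≠ z` of `z` inside `C(z)` for groups of Monster type: `s` lies over
a class of lattice vectors of norm 64, `Q ∩ Q^g` has order `2^13` and the image of `Q^g ∩ C(z)` is
the group of sign changes.
-/

set_option autoImplicit false
set_option linter.style.haveILetI false

namespace Cfsg.Agent.MonsterLocal

open Cfsg Cfsg.Agent.LargeExtraspecial Cfsg.Agent.LargeExtraspecialPair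
open Cfsg.Agent.GolayBasic Cfsg.Agent.LeechBasic Cfsg.Agent.LeechAut Cfsg.Agent.LeechIndex
open scoped symmDiff

/-! ### Abelian subgroups of extraspecial groups -/

section Count

variable {G : Type*} [Group G] [Finite G] {Q : Subgroup G} {z : G}

open scoped Classical in
/-- The sign of commuting. -/
noncomputable def sgn (a b : G) : ℤ := if a * b = b * a then 1 else -1

theorem sgn_comm (a b : G) : sgn a b = sgn b a := by
  classical
  simp only [sgn, eq_comm]

theorem comm_mul_iff_not (h : Ext Q z) {x y b : G} (hx : x ∈ Q) (hb : b ∈ Q) (hy : y ∈ Q)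
    (hne : y * x ≠ x * y) : (b * y) * x = x * (b * y) ↔ ¬ b * x = x * b := by
  constructor
  · intro e e'
    apply hne
    apply mul_left_cancel (a := b)
    rw [← mul_assoc, e, ← mul_assoc, ← e', mul_assoc]
  · intro hbx
    exact mul_inv_eq_iff_eq_mul.mp
      (h.mul_fix hb ((h.not_comm_iff hx hb).mp hbx) ((h.not_comm_iff hx hy).mp hne))

theorem sum_sgn_zero (h : Ext Q z) {B : Subgroup G} [Fintype B] (hB : B ≤ Q) {x y : G} (hx : x ∈ Q)
    (hy : y ∈ B) (hne : y * x ≠ x * y) : ∑ b : B, sgn (b : G) x = 0 := by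
  classical
  have e : ∑ b : B, sgn (b : G) x = ∑ b : B, -sgn (b : G) x := by
    refine Fintype.sum_equiv (Equiv.mulRight (⟨y, hy⟩ : B)) _ _ fun b => ?_
    simp only [Equiv.coe_mulRight, Subgroup.coe_mul, sgn, comm_mul_iff_not h hx (hB b.2) (hB hy) hne]
    split_ifs <;> simp
  rw [Finset.sum_neg_distrib] at e
  omega

/-- An abelian subgroup `A` of `Q` has `|A|^2 ≤ 2 |Q|`. -/
theorem abelian_bound (h : Ext Q z) {A : Subgroup G} (hA : A ≤ Q)
    (hcomm : ∀ a ∈ A, ∀ b ∈ A, a * b = b * a) : Nat.card A * Nat.card A ≤ 2 * Nat.card Q := by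
  classical
  letI := Fintype.ofFinite G
  have hrow : ∀ q : Q, (if (q : G) ∈ A then (Fintype.card A : ℤ) else 0) ≤
      ∑ a : A, sgn (q : G) (a : G) := by
    intro q
    by_cases hc : ∀ a ∈ A, a * (q : G) = (q : G) * a
    · rw [Finset.sum_congr rfl (g := fun _ => (1 : ℤ)) fun a _ => by rw [sgn, if_pos (hc a a.2).symm],
        Finset.sum_const, Finset.card_univ, nsmul_one]
      split_ifs <;> simp
    · push Not at hc
      obtain ⟨a, ha, hne⟩ := hc
      rw [if_neg (fun hq => hne (hcomm a ha q hq)), Finset.sum_congr rfl fun a _ => sgn_comm _ _,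
        sum_sgn_zero h hA q.2 ha hne]
  have hcol : ∀ a : A, ∑ q : Q, sgn (q : G) (a : G) ≤
      if (a : G) = 1 ∨ (a : G) = z then (Fintype.card Q : ℤ) else 0 := by
    intro a
    split_ifs with ha
    · refine (Finset.sum_le_sum (g := fun _ => (1 : ℤ)) fun q _ => ?_).trans ?_
      · rw [sgn]; split_ifs <;> simp
      · simp
    · obtain ⟨h1, h2⟩ := not_or.mp ha
      obtain ⟨y, hy, e⟩ := h.partner a (hA a.2) h1 h2
      exact (sum_sgn_zero h le_rfl (hA a.2) hy ((h.not_comm_iff (hA a.2) hy).mpr e)).le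
  have h1 := Finset.sum_le_sum (s := Finset.univ) fun q (_ : q ∈ Finset.univ) => hrow q
  rw [Finset.sum_comm] at h1
  have h2 := h1.trans (Finset.sum_le_sum fun a _ => hcol a)
  rw [← Finset.sum_filter, ← Finset.sum_filter, Finset.sum_const, Finset.sum_const] at h2
  have c1 : (Finset.univ.filter fun q : Q => (q : G) ∈ A).card = Fintype.card A := by
    rw [← Fintype.card_subtype]
    exact Fintype.card_congr
      ⟨fun q => ⟨_, q.2⟩, fun a => ⟨⟨a, hA a.2⟩, a.2⟩, fun _ => rfl, fun _ => rfl⟩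
  have c2 : (Finset.univ.filter fun a : A => (a : G) = 1 ∨ (a : G) = z).card ≤ 2 := by
    have hsub : (Finset.univ.filter fun a : A => (a : G) = 1 ∨ (a : G) = z).map
        (Function.Embedding.subtype _) ⊆ {1, z} := by
      intro g hg
      obtain ⟨a, ha, rfl⟩ := Finset.mem_map.mp hg
      simpa using (Finset.mem_filter.mp ha).2
    have := (Finset.card_le_card hsub).trans Finset.card_le_two
    rwa [Finset.card_map] at this
  rw [c1, nsmul_eq_mul, nsmul_eq_mul] at h2
  have h3 : Fintype.card A * Fintype.card A ≤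
      (Finset.univ.filter fun a : A => (a : G) = 1 ∨ (a : G) = z).card * Fintype.card Q := by
    exact_mod_cast h2
  rw [Nat.card_eq_fintype_card, Nat.card_eq_fintype_card]
  exact h3.trans (Nat.mul_le_mul_right _ c2)

end Count

/-! ### The setting -/

variable {G : Type*} [Group G] [Finite G] {z : G}
  {Q : Subgroup (Subgroup.centralizer ({z} : Set G))} [Q.Normal]

/-- What is used of the hypothesis. -/
structure Setup (Q : Subgroup (Subgroup.centralizer ({z} : Set G))) [Q.Normal]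
    (e : (Subgroup.centralizer ({z} : Set G)) ⧸ Q ≃* Spor.Co1)
    (ψ : leechLattice → Q ⧸ Subgroup.center Q) : Prop where
  lh : LHyp (Q.map (Subgroup.centralizer ({z} : Set G)).subtype) z
  card : Nat.card (Q.map (Subgroup.centralizer ({z} : Set G)).subtype) = 2 ^ 25
  iso : IsLeechModTwoIso Q e ψ
  nwc : ∃ g : G, g * z * g⁻¹ ∈ Q.map (Subgroup.centralizer ({z} : Set G)).subtype ∧ g * z * g⁻¹ ≠ z

theorem setup_of {e : (Subgroup.centralizer ({z} : Set G)) ⧸ Q ≃* Spor.Co1}
    {ψ : leechLattice → Q ⧸ Subgroup.center Q} (hM : IsOfMonsterType z Q)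
    (hψ : IsLeechModTwoIso Q e ψ) : Setup Q e ψ := by
  obtain ⟨⟨hz, hF, hQ, hcard, g, ⟨hq, hqQ⟩, hne⟩, -⟩ := hM
  refine ⟨(LargeExtraspecialSetting.lhyp_of_fitting hz Q hF hQ).1, ?_, hψ, g, ⟨_, hqQ, rfl⟩, hne⟩
  rw [← Nat.card_congr (Subgroup.equivMapOfInjective Q _ (Subgroup.subtype_injective _)).toEquiv, hcard]

variable {e : (Subgroup.centralizer ({z} : Set G)) ⧸ Q ≃* Spor.Co1}
  {ψ : leechLattice → Q ⧸ Subgroup.center Q}

/-- `Co0` onto `C / Q`. -/
def phi (e : (Subgroup.centralizer ({z} : Set G)) ⧸ Q ≃* Spor.Co1) :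
    Co0 →* (Subgroup.centralizer ({z} : Set G)) ⧸ Q :=
  e.symm.toMonoidHom.comp (QuotientGroup.mk' (Subgroup.center Co0))

theorem phi_surjective (e : (Subgroup.centralizer ({z} : Set G)) ⧸ Q ≃* Spor.Co1) :
    Function.Surjective (phi e) :=
  e.symm.surjective.comp (QuotientGroup.mk'_surjective _)

theorem ker_phi (e : (Subgroup.centralizer ({z} : Set G)) ⧸ Q ≃* Spor.Co1) :
    (phi e).ker = Subgroup.center Co0 := by
  ext g
  rw [MonoidHom.mem_ker, ← QuotientGroup.eq_one_iff]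
  exact e.symm.map_eq_one_iff

namespace Setup

variable (S : Setup Q e ψ)
include S

theorem coe_mem (x : Q) :
    ((x : Subgroup.centralizer ({z} : Set G)) : G) ∈ Q.map (Subgroup.centralizer ({z} : Set G)).subtype :=
  ⟨x, x.2, rfl⟩

theorem mk_eq (x y : Q) : (QuotientGroup.mk x : Q ⧸ Subgroup.center Q) = QuotientGroup.mk y ↔
    ((x : Subgroup.centralizer ({z} : Set G)) : G) = (y : Subgroup.centralizer ({z} : Set G)) ∨
    ((x : Subgroup.centralizer ({z} : Set G)) : G) = z * (y : Subgroup.centralizer ({z} : Set G)) := by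
  rw [QuotientGroup.eq]
  set a := ((x : Subgroup.centralizer ({z} : Set G)) : G)
  set b := ((y : Subgroup.centralizer ({z} : Set G)) : G)
  constructor
  · intro hc
    rcases S.lh.central (S.coe_mem (x⁻¹ * y)) (fun w hw => by
        obtain ⟨w, hwQ, rfl⟩ := hw
        exact congrArg (fun q : Q => ((q : Subgroup.centralizer ({z} : Set G)) : G))
          (Subgroup.mem_center_iff.mp hc ⟨w, hwQ⟩)) with h | h
    · exact Or.inl (inv_mul_eq_one.mp h)
    · right
      have hb : b = a * z := inv_mul_eq_iff_eq_mul.mp h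
      rw [hb, ← mul_assoc, ← S.lh.comm a (S.coe_mem x), mul_assoc, S.lh.zz, mul_one]
  · intro h
    refine Subgroup.mem_center_iff.mpr fun w => Subtype.ext (Subtype.ext ?_)
    show _ * (a⁻¹ * b) = a⁻¹ * b * _
    rcases h with h | h
    · rw [h]; simp
    · rw [h, mul_inv_rev, mul_assoc, S.lh.toExt.inv_z,
        show z * b = b * z from (S.lh.comm b (S.coe_mem y)).symm, inv_mul_cancel_left]
      exact S.lh.comm _ (S.coe_mem w)

theorem psi_eq {v w : leechLattice} :
    ψ v = ψ w ↔ (v : GolayPt → ℤ) - (w : GolayPt → ℤ) ∈ twiceLeech := by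
  obtain ⟨hadd, -, hker, -⟩ := S.iso
  have e1 : ψ v = ψ (v - w) * ψ w := by rw [← hadd, sub_add_cancel]
  rw [e1, mul_eq_right, hker, mem_twiceLeech]
  constructor
  · rintro ⟨u, hu⟩
    exact ⟨u, u.2, by rw [← AddSubgroup.coe_sub, hu, AddSubgroup.coe_add, two_nsmul]⟩
  · rintro ⟨u, hu, h⟩
    exact ⟨⟨u, hu⟩, Subtype.ext (by rw [AddSubgroup.coe_sub, h, AddSubgroup.coe_add, two_nsmul])⟩

/-- Lifting a lattice automorphism that carries the class of `a` to that of `b`. -/
theorem exists_conj {v : leechLattice} {a b : Q} (ha : ψ v = QuotientGroup.mk a) {g : Co0}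
    (hb : ψ (g • v) = QuotientGroup.mk b)
    (hbz : ((b : Subgroup.centralizer ({z} : Set G)) : G) ≠ 1 ∧
      ((b : Subgroup.centralizer ({z} : Set G)) : G) ≠ z) :
    ∃ h : Subgroup.centralizer ({z} : Set G), QuotientGroup.mk h = phi e g ∧
      (h : G) * (a : Subgroup.centralizer ({z} : Set G)) * (h : G)⁻¹ =
        ((b : Subgroup.centralizer ({z} : Set G)) : G) := by
  obtain ⟨h, hh⟩ := QuotientGroup.mk_surjective (phi e g)
  have := S.iso.2.2.2 h g (by rw [hh]; exact (e.apply_symm_apply _).symm) v a ha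
  rw [hb, eq_comm, S.mk_eq] at this
  rcases this with hs | hs
  · exact ⟨h, hh, hs⟩
  obtain ⟨q, ⟨qc, hqc, rfl⟩, eq⟩ := S.lh.partner _ (S.coe_mem b) hbz.1 hbz.2
  refine ⟨qc * h, ?_, ?_⟩
  · rw [QuotientGroup.mk_mul, (QuotientGroup.eq_one_iff qc).mpr hqc, one_mul, hh]
  · have hs' : (h : G) * (a : Subgroup.centralizer ({z} : Set G)) * (h : G)⁻¹ =
        z * ((b : Subgroup.centralizer ({z} : Set G)) : G) := hs
    simp only [Subgroup.coe_mul, Subgroup.coe_subtype] at eq ⊢
    calc (qc : G) * h * (a : Subgroup.centralizer ({z} : Set G)) * ((qc : G) * h)⁻¹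
        = (qc : G) * ((h : G) * (a : Subgroup.centralizer ({z} : Set G)) * (h : G)⁻¹) * (qc : G)⁻¹ := by
          group
      _ = ((qc : G) * z) * ((b : Subgroup.centralizer ({z} : Set G)) : G) * (qc : G)⁻¹ := by
          rw [hs']; group
      _ = z * ((qc : G) * ((b : Subgroup.centralizer ({z} : Set G)) : G) * (qc : G)⁻¹) := by
          rw [S.lh.comm (qc : G) ⟨qc, hqc, rfl⟩]; group
      _ = _ := by rw [eq, S.lh.toExt.z_mul_z_mul]

/-- The centralizer of `s` in `C` lies over the stabilizer of the class of `s`. -/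
theorem comap_X {v : leechLattice} {a : Q} (ha : ψ v = QuotientGroup.mk a)
    (haz : ((a : Subgroup.centralizer ({z} : Set G)) : G) ≠ 1 ∧
      ((a : Subgroup.centralizer ({z} : Set G)) : G) ≠ z) :
    (((Subgroup.centralizer ({z} : Set G) ⊓
        Subgroup.centralizer ({((a : Subgroup.centralizer ({z} : Set G)) : G)} : Set G)).subgroupOf
        (Subgroup.centralizer ({z} : Set G))).map (QuotientGroup.mk' Q)).comap (phi e) =
      LeechStab.classStab v := by
  ext g
  rw [Subgroup.mem_comap, LeechStab.mem_classStab, ← S.psi_eq]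
  constructor
  · rintro ⟨h, hh, eh⟩
    have := S.iso.2.2.2 h g (by
      show _ = e (QuotientGroup.mk' Q h)
      rw [eh]; exact (e.apply_symm_apply _).symm)
      v a ha
    rw [this, ha, S.mk_eq]
    exact Or.inl (mul_inv_eq_iff_eq_mul.mpr (Subgroup.mem_centralizer_singleton_iff.mp hh.2))
  · intro hg
    obtain ⟨h, hh, hs⟩ := S.exists_conj (g := g) ha (hg.trans ha) haz
    exact ⟨h, ⟨h.2, Subgroup.mem_centralizer_singleton_iff.mpr (mul_inv_eq_iff_eq_mul.mp hs)⟩, hh⟩

/-- The main local fact. -/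
theorem core {a : Q} {g : G} (hg : g * z * g⁻¹ = ((a : Subgroup.centralizer ({z} : Set G)) : G))
    (hne : ((a : Subgroup.centralizer ({z} : Set G)) : G) ≠ z) {X E : Subgroup _}
    (hX : X = ((Subgroup.centralizer ({z} : Set G) ⊓
        Subgroup.centralizer ({((a : Subgroup.centralizer ({z} : Set G)) : G)} : Set G)).subgroupOf
        (Subgroup.centralizer ({z} : Set G))).map (QuotientGroup.mk' Q))
    (hE : E = (((Q.map (Subgroup.centralizer ({z} : Set G)).subtype).map (MulAut.conj g).toMonoidHom ⊓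
        Subgroup.centralizer ({z} : Set G)).subgroupOf
        (Subgroup.centralizer ({z} : Set G))).map (QuotientGroup.mk' Q)) :
    (∃ v : leechLattice, sqNorm (v : GolayPt → ℤ) = 64 ∧ ψ v = QuotientGroup.mk a) ∧
    Nat.card ↥(Q.map (Subgroup.centralizer ({z} : Set G)).subtype ⊓
      (Q.map (Subgroup.centralizer ({z} : Set G)).subtype).map (MulAut.conj g).toMonoidHom) = 2 ^ 13 ∧
    E ≤ X ∧ (∀ x ∈ X, ∀ y ∈ E, x * y * x⁻¹ ∈ E) ∧ IsElementaryAbelian 2 E ∧ Nat.card E = 2 ^ 11 ∧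
    ∃ K : Subgroup ((Subgroup.centralizer ({z} : Set G)) ⧸ Q),
      K ≤ X ∧ E ⊓ K = ⊥ ∧ E ⊔ K = X ∧ Nonempty (K ≃* M24) := by
  haveI := LeechOrder.finite_Co0
  set Qg := Q.map (Subgroup.centralizer ({z} : Set G)).subtype with hQg
  set s := ((a : Subgroup.centralizer ({z} : Set G)) : G) with hs
  set R := Qg.map (MulAut.conj g).toMonoidHom with hR
  have P : Pair Qg R z s := by
    have := pair_of_conj S.lh (g := g) (by rw [hg]; exact S.coe_mem a) (by rw [hg]; exact hne)
      (by rw [S.card]; norm_num)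
    rwa [hg] at this
  have haz : s ≠ 1 ∧ s ≠ z := ⟨P.h'.ne_one, hne⟩
  -- the class
  obtain ⟨v₀, hv₀⟩ := S.iso.2.1 (QuotientGroup.mk a)
  obtain ⟨v, hvn, hv⟩ := LeechStab.exists_short v₀ (fun h0 => by
    have h1 : ψ v₀ = ψ 0 := S.psi_eq.mpr (by simpa using h0)
    have h2 : ψ 0 = QuotientGroup.mk (1 : Q) :=
      (S.iso.2.2.1 0).mpr ⟨0, (add_zero 0).symm⟩
    rw [hv₀, h2, S.mk_eq] at h1
    simp only [Subgroup.coe_one, mul_one] at h1
    rcases h1 with h1 | h1
    exacts [haz.1 h1, haz.2 h1])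
  have ha : ψ v = QuotientGroup.mk a := (S.psi_eq.mpr hv).symm.trans hv₀
  have hXc : X.comap (phi e) = LeechStab.classStab v := hX ▸ S.comap_X ha haz
  -- the orders
  have hR25 : Nat.card R = 2 ^ 25 := by
    rw [← S.card]
    exact (Nat.card_congr (Subgroup.equivMapOfInjective Qg _ (MulAut.conj g).injective).toEquiv).symm
  have h24 : Nat.card P.C' = 2 ^ 24 := by
    obtain ⟨-, q, hq, eq⟩ := P.exists_q
    have := LeechStab.card_pm (H := R) (K := P.C') inf_le_left (t := q⁻¹) (inv_mem hq) (fun h1 => by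
        have h2 := (P.mem_C'.mp (inv_mem h1)).2
        rw [inv_inv] at h2
        rw [mul_inv_eq_iff_eq_mul.mpr h2] at eq
        exact P.h'.ne_one (mul_eq_left.mp eq.symm)) (fun y hy => by
        rw [inv_inv]; exact P.C'_index hq eq hy)
    rw [hR25] at this
    omega
  -- the image
  let f : P.C' →* (Subgroup.centralizer ({z} : Set G)) ⧸ Q :=
    (QuotientGroup.mk' Q).comp (Subgroup.inclusion inf_le_right)
  have hfr : f.range = E := by
    ext y
    rw [hE]
    constructor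
    · rintro ⟨x, rfl⟩
      exact ⟨Subgroup.inclusion inf_le_right x, x.2, rfl⟩
    · rintro ⟨x, hx, rfl⟩
      exact ⟨⟨x, hx⟩, rfl⟩
  have hfk : f.ker.map P.C'.subtype = Qg ⊓ R := by
    ext x
    constructor
    · rintro ⟨y, hy, rfl⟩
      refine ⟨?_, y.2.1⟩
      exact ⟨_, (QuotientGroup.eq_one_iff _).mp hy, rfl⟩
    · rintro ⟨⟨c, hc, rfl⟩, hxR⟩
      exact ⟨⟨(c : G), hxR, c.2⟩, (QuotientGroup.eq_one_iff (N := Q) c).mpr hc, rfl⟩
  have hmul : Nat.card E * Nat.card ↥(Qg ⊓ R) = 2 ^ 24 := by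
    rw [← h24, Subgroup.card_eq_card_quotient_mul_card_subgroup f.ker,
      Nat.card_congr (QuotientGroup.quotientKerEquivRange f).toEquiv, hfr,
      Nat.card_congr (Subgroup.equivMapOfInjective f.ker _ P.C'.subtype_injective).toEquiv, hfk]
  have hI : Nat.card ↥(Qg ⊓ R) ≤ 2 ^ 13 := by
    have := abelian_bound S.lh.toExt (A := Qg ⊓ R) inf_le_left fun a ha b hb => P.E_comm ha hb
    rw [S.card] at this
    nlinarith
  -- the preimage
  set A := E.comap (phi e) with hA
  have hAE : A.map (phi e) = E := Subgroup.map_comap_eq_self_of_surjective (phi_surjective e) E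
  have hEX : E ≤ X := by
    rw [hE, hX]
    refine Subgroup.map_mono fun x hx => ⟨x.2, ?_⟩
    exact Subgroup.mem_centralizer_singleton_iff.mpr (P.h'.comm x hx.1)
  have hEn : ∀ x ∈ X, ∀ y ∈ E, x * y * x⁻¹ ∈ E := by
    rw [hE, hX]
    rintro _ ⟨x, hx, rfl⟩ _ ⟨y, hy, rfl⟩
    refine ⟨x * y * x⁻¹, ⟨?_, ?_⟩, by rw [map_mul, map_mul, map_inv]⟩
    · exact P.h'.norm x (Subgroup.mem_centralizer_singleton_iff.mp hx.2) y hy.1
    · exact (x * y * x⁻¹).2
  have hAle : A ≤ LeechStab.classStab v := hXc ▸ Subgroup.comap_mono hEX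
  have hAn : ∀ x ∈ LeechStab.classStab v, ∀ y ∈ A, x * y * x⁻¹ ∈ A := by
    intro x hx y hy
    rw [← hXc] at hx
    show phi e (x * y * x⁻¹) ∈ E
    rw [map_mul, map_mul, map_inv]
    exact hEn _ hx _ hy
  have hcardA : Nat.card A = 2 * Nat.card E := by
    rw [Subgroup.card_eq_card_quotient_mul_card_subgroup ((phi e).ker.subgroupOf A),
      Nat.card_congr (Subgroup.subgroupOfEquivOfLe (Subgroup.ker_le_comap (phi e) E)).toEquiv,
      ker_phi, card_center, mul_comm]
    congr 1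
    have hr : ((phi e).comp A.subtype).range = E := by
      rw [MonoidHom.range_comp, Subgroup.range_subtype, hAE]
    refine (Nat.card_congr ((QuotientGroup.quotientMulEquivOfEq ?_).trans
      (QuotientGroup.quotientKerEquivRange ((phi e).comp A.subtype))).toEquiv).trans (by rw [hr])
    rw [← ker_phi e]; rfl
  obtain ⟨k, -, hk⟩ := (Nat.dvd_prime_pow Nat.prime_two).mp (Dvd.intro _ hmul)
  have hA2 : IsPGroup 2 A := IsPGroup.of_card (n := k + 1) (by rw [hcardA, hk, pow_succ, mul_comm])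
  have hEbig : 2 ^ 11 ≤ Nat.card E := by nlinarith
  have h64 : sqNorm (v : GolayPt → ℤ) = 64 := by
    rcases hvn with h | h | h
    · have := LeechStab.small32 h hA2 hAle hAn; omega
    · have := LeechStab.small48 h hA2 hAle; omega
    · exact h
  obtain ⟨hAle12, hstruct⟩ := LeechStab.cross64 h64 hA2 hAle hAn
  have hE11 : Nat.card E = 2 ^ 11 := by omega
  have hI13 : Nat.card ↥(Qg ⊓ R) = 2 ^ 13 := by
    rw [hE11] at hmul
    omega
  obtain ⟨hsq, hab, K, hK, hsup, hinf, ⟨i⟩⟩ := hstruct (by omega)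
  refine ⟨⟨v, h64, ha⟩, hI13, hEX, hEn, ⟨⟨⟨?_⟩⟩, ?_⟩, hE11, K.map (phi e), ?_, ?_, ?_, ⟨?_⟩⟩
  · rintro ⟨x, hx⟩ ⟨y, hy⟩
    rw [← hAE] at hx hy
    obtain ⟨b, hb, rfl⟩ := hx
    obtain ⟨c, hc, rfl⟩ := hy
    exact Subtype.ext (by simp only [Subgroup.coe_mul, ← map_mul, hab b hb c hc])
  · intro x hx
    rw [← hAE] at hx
    obtain ⟨b, hb, rfl⟩ := hx
    rw [pow_two, ← map_mul, hsq b hb, map_one]
  · exact Subgroup.map_le_iff_le_comap.mpr (hXc ▸ hK)
  · rw [eq_bot_iff]
    rintro _ ⟨hy, x, hx, rfl⟩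
    have hx1 : x ∈ A ⊓ K := ⟨hy, hx⟩
    rw [hinf, Subgroup.mem_bot] at hx1
    rw [Subgroup.mem_bot, hx1, map_one]
  · rw [← hAE, ← Subgroup.map_sup, hsup, ← hXc,
      Subgroup.map_comap_eq_self_of_surjective (phi_surjective e)]
  · refine ((MulEquiv.ofBijective ((phi e).subgroupMap K) ⟨?_, (phi e).subgroupMap_surjective K⟩).symm.trans i)
    rw [← MonoidHom.ker_eq_bot_iff, eq_bot_iff]
    intro x hx
    have h1 : phi e (x : Co0) = 1 := congrArg Subtype.val hx
    have hx1 : (x : Co0) ∈ A ⊓ K := ⟨show phi e (x : Co0) ∈ E by rw [h1]; exact one_mem E, x.2⟩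
    rw [hinf, Subgroup.mem_bot] at hx1
    exact Subgroup.mem_bot.mpr (Subtype.ext hx1)

theorem class64 {a : Q} (hz : IsConj z ((a : Subgroup.centralizer ({z} : Set G)) : G))
    (hne : ((a : Subgroup.centralizer ({z} : Set G)) : G) ≠ z) :
    ∃ v : leechLattice, sqNorm (v : GolayPt → ℤ) = 64 ∧ ψ v = QuotientGroup.mk a := by
  obtain ⟨g, hg⟩ := isConj_iff.mp hz
  exact (S.core hg hne rfl rfl).1

end Setup

end Cfsg.Agent.MonsterLocal
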