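import Cfsg.Agent.Lib.MonsterOdd69
import Cfsg.Agent.Lib.MonsterBaby
import Cfsg.Agent.S5406

/-!
Putting a subgroup of prime order of `C(z, s)` in standard position, and the element of its
centralizer moving `z`.
-/

set_option autoImplicit false
set_option linter.style.haveILetI false

namespace Cfsg.Agent.MonsterOdd69

open Cfsg Cfsg.Agent.LargeExtraspecial Cfsg.Agent.LargeExtraspecialPair Cfsg.Agent.MonsterLocal
open Cfsg.Agent.GolayBasic Cfsg.Agent.LeechBasic Cfsg.Agent.LeechAut Cfsg.Agent.LeechIndex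
open Cfsg.Agent.LeechStab (classStab mono classStab_frame mem_classStab)

variable {G : Type*} [Group G] [Finite G] {z : G}
  {Q : Subgroup (Subgroup.centralizer ({z} : Set G))} [Q.Normal]
  {e : (Subgroup.centralizer ({z} : Set G)) ⧸ Q ≃* Spor.Co1}
  {ψ : leechLattice → Q ⧸ Subgroup.center Q}

theorem mem_pair {z s x : G} : x ∈ Subgroup.centralizer ({z, s} : Set G) ↔ x * z = z * x ∧ x * s = s * x := by
  rw [Subgroup.mem_centralizer_iff]
  simp only [Set.mem_insert_iff, Set.mem_singleton_iff, forall_eq_or_imp, forall_eq]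
  exact ⟨fun h => ⟨h.1.symm, h.2.symm⟩, fun h => ⟨h.1.symm, h.2.symm⟩⟩

/-- A conjugate of `z` in `Q` may be assumed to lie over the class of the frame vector. -/
theorem exists_frame_setup (hM : IsOfMonsterType z Q) {s : G}
    (hsQ : ∃ hsc : s ∈ Subgroup.centralizer ({z} : Set G), (⟨s, hsc⟩ : Subgroup.centralizer ({z} : Set G)) ∈ Q)
    (hs : IsConj z s) (hs1 : s ≠ z) :
    ∃ (e : (Subgroup.centralizer ({z} : Set G)) ⧸ Q ≃* Spor.Co1) (ψ : leechLattice → Q ⧸ Subgroup.center Q)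
      (a : Q), Setup Q e ψ ∧ ((a : Subgroup.centralizer ({z} : Set G)) : G) = s ∧
        ψ (frame none) = QuotientGroup.mk a := by
  obtain ⟨-, e, ψ, hψ⟩ := id hM
  have S := setup_of hM hψ
  obtain ⟨hsc, hsq⟩ := hsQ
  obtain ⟨v, hv, hva⟩ := S.class64 (a := ⟨⟨s, hsc⟩, hsq⟩) hs hs1
  obtain ⟨g, hg⟩ := LeechOrbit.exists_smul_eq (N := 64) (Or.inr (Or.inr rfl))
    (v := v) (w := frame none) (by exact_mod_cast hv) (by exact_mod_cast sqNorm_frame none)
  exact ⟨_, _, ⟨⟨s, hsc⟩, hsq⟩, S.twist g, rfl, by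
    show ψ (g⁻¹ • frame none) = _
    rw [← hg, inv_smul_smul]; exact hva⟩

/-- The image of `C(z, s)` in `C / Q`. -/
def imgX (Q : Subgroup (Subgroup.centralizer ({z} : Set G))) [Q.Normal] (s : G) :
    Subgroup ((Subgroup.centralizer ({z} : Set G)) ⧸ Q) :=
  ((Subgroup.centralizer ({z} : Set G) ⊓ Subgroup.centralizer ({s} : Set G)).subgroupOf
    (Subgroup.centralizer ({z} : Set G))).map (QuotientGroup.mk' Q)

theorem comap_imgX (S : Setup Q e ψ) {a : Q} {s : G}
    (ha : ((a : Subgroup.centralizer ({z} : Set G)) : G) = s)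
    (hψ : ψ (frame none) = QuotientGroup.mk a) : (imgX Q s).comap (phi e) = mono := by
  subst ha
  rw [← classStab_frame]
  exact S.comap_X hψ (S.ne_central (by rw [sqNorm_frame]; norm_num) (sqNorm_frame none).le hψ)

theorem card_imgX (S : Setup Q e ψ) {a : Q} {s : G}
    (ha : ((a : Subgroup.centralizer ({z} : Set G)) : G) = s)
    (hψ : ψ (frame none) = QuotientGroup.mk a) : Nat.card (imgX Q s) = 2048 * 244823040 := by
  have h := card_comap_phi e (imgX Q s)
  rw [comap_imgX S ha hψ, LeechOrder.card_stabilizer_stdL] at h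
  omega

/-- The order of `C(z, s)` up to a power of two. -/
theorem card_pair (S : Setup Q e ψ) {a : Q} {s : G}
    (ha : ((a : Subgroup.centralizer ({z} : Set G)) : G) = s)
    (hψ : ψ (frame none) = QuotientGroup.mk a) :
    ∃ k : ℕ, Nat.card ↥(Subgroup.centralizer ({z, s} : Set G)) = 2 ^ k * 244823040 := by
  set L := Subgroup.centralizer ({z, s} : Set G) with hL
  have hLz : L ≤ Subgroup.centralizer ({z} : Set G) := fun x hx =>
    Subgroup.mem_centralizer_singleton_iff.mpr (mem_pair.mp hx).1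
  let ρ : L →* (Subgroup.centralizer ({z} : Set G)) ⧸ Q :=
    (QuotientGroup.mk' Q).comp (Subgroup.inclusion hLz)
  have hr : ρ.range = imgX Q s := by
    ext y
    constructor
    · rintro ⟨x, rfl⟩
      exact ⟨Subgroup.inclusion hLz x, ⟨hLz x.2, Subgroup.mem_centralizer_singleton_iff.mpr
        (mem_pair.mp x.2).2⟩, rfl⟩
    · rintro ⟨x, hx, rfl⟩
      exact ⟨⟨x, mem_pair.mpr ⟨Subgroup.mem_centralizer_singleton_iff.mp x.2,
        Subgroup.mem_centralizer_singleton_iff.mp hx.2⟩⟩, rfl⟩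
  have hk : Nat.card ρ.ker ∣ 2 ^ 25 := by
    rw [← S.card, Nat.card_congr (Subgroup.equivMapOfInjective ρ.ker _ L.subtype_injective).toEquiv]
    refine Subgroup.card_dvd_of_le ?_
    rintro _ ⟨x, hx, rfl⟩
    exact ⟨_, (QuotientGroup.eq_one_iff _).mp hx, rfl⟩
  obtain ⟨j, -, hj⟩ := (Nat.dvd_prime_pow Nat.prime_two).mp hk
  refine ⟨11 + j, ?_⟩
  rw [Subgroup.card_eq_card_quotient_mul_card_subgroup ρ.ker,
    Nat.card_congr (QuotientGroup.quotientKerEquivRange ρ).toEquiv, hr, card_imgX S ha hψ, hj, pow_add]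
  ring

/-- A Sylow subgroup of prime order is conjugate to the given one. -/
theorem exists_conj_sylow {H : Type*} [Group H] [Finite H] {p : ℕ} [Fact p.Prime] {A B L : Subgroup H}
    (hA : A ≤ L) (hB : B ≤ L) (hAc : Nat.card A = p) (hBc : Nat.card B = p) (hp : ¬ p ^ 2 ∣ Nat.card L) :
    ∃ l ∈ L, A.map (MulAut.conj l).toMonoidHom = B := by
  have hfac : (Nat.card L).factorization p = 1 := by
    have h0 : p ∣ Nat.card L := hAc ▸ Subgroup.card_dvd_of_le hA
    have hne : Nat.card L ≠ 0 := Nat.card_pos.ne'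
    have h1 := (Nat.Prime.pow_dvd_iff_le_factorization Fact.out hne (k := 1)).mp (by simpa using h0)
    by_contra h2
    exact hp ((Nat.Prime.pow_dvd_iff_le_factorization Fact.out hne).mpr (by omega))
  let mk (X : Subgroup H) (hX : X ≤ L) (hc : Nat.card X = p) : Sylow p L :=
    Sylow.ofCard (X.subgroupOf L) (by
      rw [Nat.card_congr (Subgroup.subgroupOfEquivOfLe hX).toEquiv, hc, hfac, pow_one])
  obtain ⟨l, hl⟩ := MulAction.exists_smul_eq L (mk A hA hAc) (mk B hB hBc)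
  refine ⟨l, l.2, ?_⟩
  have h := congrArg (fun P : Sylow p L => (P : Subgroup L).map L.subtype) hl
  simp only [Sylow.coe_subgroup_smul, mk, Sylow.coe_ofCard] at h
  rw [Subgroup.map_subgroupOf_eq_of_le hB] at h
  rw [← h]
  ext y
  constructor
  · rintro ⟨x, hx, rfl⟩
    exact ⟨_, Subgroup.smul_mem_pointwise_smul ⟨x, hA hx⟩ (MulAut.conj l) _ hx, rfl⟩
  · rintro ⟨y', hy', rfl⟩
    obtain ⟨x, hx, rfl⟩ := Subgroup.mem_smul_pointwise_iff_exists _ _ _ |>.mp hy'
    exact ⟨x, hx, rfl⟩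

/-- Standard position of the subgroup of order `p`. -/
theorem exists_aligned (S : Setup Q e ψ) {a : Q} {s : G}
    (ha : ((a : Subgroup.centralizer ({z} : Set G)) : G) = s)
    (hψ : ψ (frame none) = QuotientGroup.mk a) {p : ℕ} [Fact p.Prime] (hp2 : p ≠ 2)
    (hp : p ∣ 244823040) (hpp : ¬ p ^ 2 ∣ 244823040)
    {u : Co0} (hu : orderOf u = p) (huf : u ∈ mono)
    {B : Subgroup G} (hB : B ≤ Subgroup.centralizer ({z, s} : Set G))
    (hBp : Nat.card B = p ^ (Nat.card ↥(Subgroup.centralizer ({z, s} : Set G))).factorization p) :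
    ∃ (e' : (Subgroup.centralizer ({z} : Set G)) ⧸ Q ≃* Spor.Co1) (ψ' : leechLattice → Q ⧸ Subgroup.center Q)
      (bC : Subgroup.centralizer ({z} : Set G)), Setup Q e' ψ' ∧ ψ' (frame none) = QuotientGroup.mk a ∧
        Subgroup.zpowers (bC : G) = B ∧ orderOf (bC : G) = p ∧ QuotientGroup.mk bC = phi e' u := by
  haveI := LeechOrder.finite_Co0
  have hpr : p.Prime := Fact.out
  obtain ⟨j, hj⟩ := card_pair S ha hψ
  have hfp : ∀ n : ℕ, p ∣ 2 ^ n → False := fun n h =>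
    hp2 ((Nat.prime_dvd_prime_iff_eq hpr Nat.prime_two).mp (hpr.dvd_of_dvd_pow h))
  have hfac : (Nat.card ↥(Subgroup.centralizer ({z, s} : Set G))).factorization p = 1 := by
    rw [hj, Nat.factorization_mul (by positivity) (by norm_num), Finsupp.add_apply,
      Nat.factorization_eq_zero_of_not_dvd (hfp j)]
    have h1 := (hpr.pow_dvd_iff_le_factorization (k := 1) (by norm_num : (244823040 : ℕ) ≠ 0)).mp (by simpa using hp)
    have h2 : ¬ 2 ≤ Nat.factorization 244823040 p := fun h =>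
      hpp ((hpr.pow_dvd_iff_le_factorization (by norm_num)).mpr h)
    omega
  rw [hfac, pow_one] at hBp
  obtain ⟨b, hb⟩ : ∃ b, B = Subgroup.zpowers b := by
    haveI : IsCyclic B := isCyclic_of_prime_card hBp
    obtain ⟨g, hg⟩ := Subgroup.isCyclic_iff_exists_zpowers_eq_top B |>.mp inferInstance
    exact ⟨g, hg.symm⟩
  have hbp : orderOf b = p := by rw [← Nat.card_zpowers, ← hb, hBp]
  have hbB : b ∈ B := hb ▸ Subgroup.mem_zpowers b
  have hbz : b ∈ Subgroup.centralizer ({z} : Set G) :=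
    Subgroup.mem_centralizer_singleton_iff.mpr (mem_pair.mp (hB hbB)).1
  set b0 : (Subgroup.centralizer ({z} : Set G)) ⧸ Q := QuotientGroup.mk ⟨b, hbz⟩ with hb0
  have hb0o : orderOf b0 = p := by
    refine orderOf_eq_prime ?_ ?_
    · rw [hb0, ← QuotientGroup.mk_pow, show (⟨b, hbz⟩ : Subgroup.centralizer ({z} : Set G)) ^ p = 1 from
        Subtype.ext (by simp [← hbp, pow_orderOf_eq_one]), QuotientGroup.mk_one]
    · intro h
      have hbQ := (QuotientGroup.eq_one_iff _).mp h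
      have h1 : orderOf b ∣ 2 ^ 25 := by
        rw [← S.card]
        exact Subgroup.orderOf_dvd_natCard _ ⟨_, hbQ, rfl⟩
      exact hfp _ (hbp ▸ h1)
  have huo : orderOf (phi e u) = p := by
    refine orderOf_eq_prime (by rw [← map_pow, ← hu, pow_orderOf_eq_one, map_one]) fun h => ?_
    rw [← MonoidHom.mem_ker, ker_phi] at h
    have h1 : orderOf u ∣ Nat.card (Subgroup.center Co0) := Subgroup.orderOf_dvd_natCard _ h
    rw [LeechAut.card_center, hu] at h1
    exact hfp 1 (by simpa using h1)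
  have hbX : Subgroup.zpowers b0 ≤ imgX Q s := by
    rw [Subgroup.zpowers_le]
    exact ⟨_, ⟨hbz, Subgroup.mem_centralizer_singleton_iff.mpr (mem_pair.mp (hB hbB)).2⟩, rfl⟩
  have huX : Subgroup.zpowers (phi e u) ≤ imgX Q s := by
    rw [Subgroup.zpowers_le, ← Subgroup.mem_comap, comap_imgX S ha hψ]
    exact huf
  have hpX : ¬ p ^ 2 ∣ Nat.card (imgX Q s) := by
    rw [card_imgX S ha hψ]
    exact fun h => hpp ((Nat.Coprime.dvd_mul_left (Nat.Coprime.pow_left 2
      (show Nat.Coprime p (2 ^ 11) from Nat.Coprime.pow_right 11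
        ((Nat.coprime_primes hpr Nat.prime_two).mpr hp2)))).mp h)
  obtain ⟨x, hx, hxB⟩ := exists_conj_sylow hbX huX (by rw [Nat.card_zpowers, hb0o])
    (by rw [Nat.card_zpowers, huo]) hpX
  obtain ⟨i, hi⟩ : ∃ i : ℤ, x * b0 ^ i * x⁻¹ = phi e u := by
    have h : phi e u ∈ (Subgroup.zpowers b0).map (MulAut.conj x).toMonoidHom := hxB ▸ Subgroup.mem_zpowers _
    obtain ⟨y, hy, hyu⟩ := h
    obtain ⟨i, rfl⟩ := Subgroup.mem_zpowers_iff.mp hy
    exact ⟨i, hyu⟩
  obtain ⟨k, rfl⟩ := phi_surjective e x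
  have hk : k ∈ classStab (frame none) := by
    rw [classStab_frame, ← comap_imgX S ha hψ]; exact hx
  set bC : Subgroup.centralizer ({z} : Set G) := ⟨b, hbz⟩ ^ i with hbC
  have hne : (bC : G) ≠ 1 := by
    intro h
    have : b0 ^ i = 1 := by
      rw [hb0, ← QuotientGroup.mk_zpow, ← hbC, show bC = 1 from Subtype.ext h, QuotientGroup.mk_one]
    rw [this, mul_one, mul_inv_cancel] at hi
    rw [← hi, orderOf_one] at huo
    exact hpr.ne_one huo.symm
  have hbCB : (bC : G) ∈ B := by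
    rw [hbC, Subgroup.coe_zpow]
    exact B.zpow_mem hbB i
  have hbo : orderOf (bC : G) = p :=
    ((Nat.dvd_prime hpr).mp (hBp ▸ Subgroup.orderOf_dvd_natCard B hbCB)).resolve_left
      (fun h => hne (orderOf_eq_one_iff.mp h))
  refine ⟨_, _, bC, S.twist k, ?_, ?_, hbo, ?_⟩
  · show ψ (k⁻¹ • frame none) = _
    rw [← hψ]
    exact S.psi_eq.mpr (mem_classStab.mp (inv_mem hk))
  · exact Subgroup.eq_of_le_of_card_ge (Subgroup.zpowers_le.mpr hbCB) (by rw [Nat.card_zpowers, hbo, hBp])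
  · apply (e.trans (MulAut.conj (QuotientGroup.mk k : Spor.Co1))).injective
    show MulAut.conj (QuotientGroup.mk k : Spor.Co1) (e (QuotientGroup.mk bC)) = _
    rw [phi, MonoidHom.comp_apply, MulEquiv.coe_toMonoidHom, MulEquiv.apply_symm_apply]
    have h1 := congrArg e hi
    simp only [phi, map_mul, map_inv, map_zpow, MonoidHom.comp_apply, MulEquiv.coe_toMonoidHom,
      MulEquiv.apply_symm_apply] at h1
    rw [MulAut.conj_apply, hbC, QuotientGroup.mk_zpow, map_zpow]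
    simpa [hb0] using h1

/-- The element of `C(B)` moving `z` inside `Q`. -/
theorem exists_move (hM : IsOfMonsterType z Q) (S : Setup Q e ψ) {s : G}
    (hsQ : ∃ hsc : s ∈ Subgroup.centralizer ({z} : Set G), (⟨s, hsc⟩ : Subgroup.centralizer ({z} : Set G)) ∈ Q)
    (hs : IsConj z s) (hs1 : s ≠ z) {p : ℕ} [Fact p.Prime]
    (hpp : ¬ p ^ 2 ∣ Nat.card ↥(Subgroup.centralizer ({z, s} : Set G)))
    {B : Subgroup G} {b : G} (hb : Subgroup.zpowers b = B) (hbp : orderOf b = p)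
    (hB : B ≤ Subgroup.centralizer ({z, s} : Set G)) (k : ℕ) (hk : ¬ 3 ∣ k)
    (haut : ∀ r : ℕ, ∃ l ∈ Subgroup.centralizer ({z, s} : Set G),
      ¬ p ∣ r → l * b * l⁻¹ = b ^ r ^ k) :
    ∃ m ∈ Subgroup.centralizer (B : Set G),
      m * z * m⁻¹ ∈ Q.map (Subgroup.centralizer ({z} : Set G)).subtype ∧ m * z * m⁻¹ ≠ z := by
  set Qg := Q.map (Subgroup.centralizer ({z} : Set G)).subtype with hQg
  set L := Subgroup.centralizer ({z, s} : Set G) with hL
  obtain ⟨g, hg⟩ := isConj_iff.mp hs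
  obtain ⟨hsc, hsq⟩ := hsQ
  have hsQg : s ∈ Qg := ⟨_, hsq, rfl⟩
  have P := pair_of_conj S.lh (g := g) (by rw [hg]; exact hsQg) (by rw [hg]; exact hs1)
    (by rw [S.card]; norm_num)
  obtain ⟨t, htQ, ht⟩ := P.zQ'
  have htz : t = g⁻¹ * z * g := by
    rw [← ht]; simp [mul_assoc]
  have htne : t ≠ z := by
    intro h
    rw [h] at ht
    simp only [MulEquiv.coe_toMonoidHom, MulAut.conj_apply] at ht
    exact hs1 (hg.symm.trans ht)
  have htc : IsConj z t := isConj_iff.mpr ⟨g⁻¹, by rw [inv_inv, htz]⟩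
  obtain ⟨c, hc, hct⟩ := Cfsg.Agent.S5406.result z Q hM s t ⟨hsc, hsq⟩
    (by obtain ⟨a, ha, rfl⟩ := htQ; exact ⟨a.2, ha⟩) hs htc hs1 htne
  have hs1' : s ≠ 1 := by rw [← hg]; simp [S.lh.ne_one]
  obtain ⟨q, hqQ, hq⟩ := S.lh.partner s hsQg hs1' hs1
  have hqz : q * z = z * q := S.lh.comm q hqQ
  have hcz := Subgroup.mem_centralizer_singleton_iff.mp hc
  have hsz : s * z = z * s := S.lh.comm s hsQg
  set τ := g * c * q with hτ
  have h1 : τ * z * τ⁻¹ = s := by
    calc τ * z * τ⁻¹ = g * c * (q * z * q⁻¹) * c⁻¹ * g⁻¹ := by rw [hτ]; group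
      _ = g * c * z * c⁻¹ * g⁻¹ := by rw [hqz, mul_inv_cancel_right]
      _ = g * (c * z * c⁻¹) * g⁻¹ := by group
      _ = s := by rw [hcz, mul_inv_cancel_right, hg]
  have h2 : τ * s * τ⁻¹ = s * z := by
    calc τ * s * τ⁻¹ = g * c * (q * s * q⁻¹) * c⁻¹ * g⁻¹ := by rw [hτ]; group
      _ = g * (c * z * c⁻¹) * (c * s * c⁻¹) * g⁻¹ := by rw [hq]; group
      _ = (g * z * g⁻¹) * (g * t * g⁻¹) := by rw [hcz, mul_inv_cancel_right, hct]; group
      _ = s * z := by rw [hg, htz]; group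
  have hnorm : ∀ l ∈ L, τ * l * τ⁻¹ ∈ L := by
    intro l hl
    obtain ⟨ha, hb'⟩ := mem_pair.mp hl
    have e1 : (τ * l * τ⁻¹) * s = s * (τ * l * τ⁻¹) := by
      rw [← h1]
      calc τ * l * τ⁻¹ * (τ * z * τ⁻¹) = τ * (l * z) * τ⁻¹ := by group
        _ = _ := by rw [ha]; group
    have e2 : (τ * l * τ⁻¹) * (s * z) = (s * z) * (τ * l * τ⁻¹) := by
      rw [← h2]
      calc τ * l * τ⁻¹ * (τ * s * τ⁻¹) = τ * (l * s) * τ⁻¹ := by group
        _ = _ := by rw [hb']; group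
    refine mem_pair.mpr ⟨?_, e1⟩
    have hz' : z = s⁻¹ * (s * z) := by group
    rw [hz']
    exact ((show Commute (τ * l * τ⁻¹) s from e1).inv_right.mul_right e2).eq
  have hBc : Nat.card B = p := by rw [← hb, Nat.card_zpowers, hbp]
  obtain ⟨l, hl, hlB⟩ := exists_conj_sylow (A := B.map (MulAut.conj τ).toMonoidHom) (B := B) (L := L)
    (by rintro _ ⟨x, hx, rfl⟩; exact hnorm x (hB hx)) hB
    (by rw [← hBc]; exact (Nat.card_congr (Subgroup.equivMapOfInjective B _ (MulAut.conj τ).injective).toEquiv).symm)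
    hBc hpp
  set σ := l * τ with hσ
  obtain ⟨hlz, hls⟩ := mem_pair.mp hl
  have g1 : σ * z * σ⁻¹ = s := by
    calc σ * z * σ⁻¹ = l * (τ * z * τ⁻¹) * l⁻¹ := by rw [hσ]; group
      _ = s := by rw [h1, hls, mul_inv_cancel_right]
  have g2 : σ * s * σ⁻¹ = s * z := by
    calc σ * s * σ⁻¹ = l * (τ * s * τ⁻¹) * l⁻¹ := by rw [hσ]; group
      _ = s * z := by
        rw [h2, ← mul_assoc, hls, mul_assoc s l z, hlz, ← mul_assoc, mul_inv_cancel_right]
  have hss : s * s = 1 := by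
    rw [← hg]
    calc g * z * g⁻¹ * (g * z * g⁻¹) = g * (z * z) * g⁻¹ := by group
      _ = 1 := by rw [S.lh.zz]; group
  have g3 : σ * (s * z) * σ⁻¹ = z := by
    calc σ * (s * z) * σ⁻¹ = (σ * s * σ⁻¹) * (σ * z * σ⁻¹) := by group
      _ = s * (s * z) := by rw [g1, g2, mul_assoc, hsz.symm]
      _ = z := by rw [← mul_assoc, hss, one_mul]
  have hcyc : ∀ n : ℕ, σ ^ n * z * (σ ^ n)⁻¹ = [z, s, s * z].getD (n % 3) 1 := by
    intro n
    induction n with
    | zero => simp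
    | succ n ih =>
      have e : σ ^ (n + 1) * z * (σ ^ (n + 1))⁻¹ = σ * (σ ^ n * z * (σ ^ n)⁻¹) * σ⁻¹ := by
        rw [pow_succ']; group
      rw [e, ih]
      rcases (show n % 3 = 0 ∨ n % 3 = 1 ∨ n % 3 = 2 by omega) with h | h | h
      · rw [h, show (n + 1) % 3 = 1 by omega]; exact g1
      · rw [h, show (n + 1) % 3 = 2 by omega]; exact g2
      · rw [h, show (n + 1) % 3 = 0 by omega]; exact g3
  have hσb : σ * b * σ⁻¹ ∈ B := by
    rw [← hlB]
    exact ⟨τ * b * τ⁻¹, ⟨b, hb ▸ Subgroup.mem_zpowers b, rfl⟩, by simp [σ, mul_assoc]⟩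
  rw [← hb] at hσb
  obtain ⟨r, hr⟩ : ∃ r : ℕ, σ * b * σ⁻¹ = b ^ r := by
    obtain ⟨r, hr⟩ := mem_powers_iff_mem_zpowers.2 hσb
    exact ⟨r, hr.symm⟩
  have hrp : ¬ p ∣ r := by
    intro h
    obtain ⟨d, rfl⟩ := h
    rw [pow_mul, ← hbp, pow_orderOf_eq_one, one_pow, conj_eq_one_iff] at hr
    rw [hr, orderOf_one] at hbp
    exact (Fact.out : p.Prime).ne_one hbp.symm
  have hpow : ∀ n : ℕ, σ ^ n * b * (σ ^ n)⁻¹ = b ^ r ^ n := by
    intro n
    induction n with
    | zero => simp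
    | succ n ih =>
      calc σ ^ (n + 1) * b * (σ ^ (n + 1))⁻¹ = σ * (σ ^ n * b * (σ ^ n)⁻¹) * σ⁻¹ := by rw [pow_succ']; group
        _ = (σ * b * σ⁻¹) ^ r ^ n := by rw [ih, conj_pow]
        _ = b ^ r ^ (n + 1) := by rw [hr, ← pow_mul, pow_succ']
  obtain ⟨l', hl', hl'b⟩ := haut r
  obtain ⟨hz', hs'⟩ := mem_pair.mp hl'
  set m := l'⁻¹ * σ ^ k with hm
  have hmb : m * b * m⁻¹ = b := by
    calc m * b * m⁻¹ = l'⁻¹ * (σ ^ k * b * (σ ^ k)⁻¹) * l' := by rw [hm]; group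
      _ = b := by rw [hpow, ← hl'b hrp]; group
  have hmz : m * z * m⁻¹ = [z, s, s * z].getD (k % 3) 1 := by
    calc m * z * m⁻¹ = l'⁻¹ * (σ ^ k * z * (σ ^ k)⁻¹) * l' := by rw [hm]; group
      _ = _ := by
        rw [hcyc]
        have hx : ∀ x : G, l' * x = x * l' → l'⁻¹ * x * l' = x := fun x hx => by
          rw [mul_assoc, ← hx, inv_mul_cancel_left]
        rcases (show k % 3 = 1 ∨ k % 3 = 2 by omega) with h | h <;> rw [h]
        · exact hx s hs'
        · exact hx (s * z) (by rw [← mul_assoc, hs', mul_assoc, hz', mul_assoc])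
  refine ⟨m, ?_, ?_⟩
  · rw [← hb]
    refine Subgroup.mem_centralizer_iff.mpr fun y hy => ?_
    obtain ⟨i, rfl⟩ := Subgroup.mem_zpowers_iff.mp hy
    exact (Commute.zpow_left (show Commute b m from (mul_inv_eq_iff_eq_mul.mp hmb).symm) i).eq
  · rw [hmz]
    rcases (show k % 3 = 1 ∨ k % 3 = 2 by omega) with h | h <;> rw [h]
    · exact ⟨hsQg, hs1⟩
    · exact ⟨Qg.mul_mem hsQg S.lh.mem, fun h' => hs1' (mul_eq_right.mp h')⟩

end Cfsg.Agent.MonsterOdd69
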