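import Cfsg.Agent.Lib.LeechOutTool

/-!
Data: an element of order seven of the Mathieu group with three fixed points, its centraliser, and a
conjugate of a sign change inverting it.
-/

set_option autoImplicit false

namespace Cfsg.Agent.MonsterSevenData71

open Cfsg.Agent.LeechCert

/-- the element of order seven -/
def q7 : ℕ := 958223843737233911666252877786170836

/-- a permutation squaring it -/
def t3 : ℕ := 984348007618805891534632804414571936

/-- its orbits of length seven, as cycles -/
def cyc : List (List ℕ) := [[0, 20, 1, 14, 13, 12, 7], [2, 17, 21, 6, 19, 10, 22], [3, 5, 18, 16, 9, 4, 8]]

/-- the points it fixes -/
def fix3 : List ℕ := [23, 11, 15]

/-- the dodecad -/
def dod : ℕ := 129431

def wK : List Step :=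
  [some (778370033226427365199021204115173715, 13267995,
    [(70, true), (90, true), (40, false), (45, true), (15, true), (75, false), (30, false), (50, false), (20, false), (100, false), (5, true), (25, false), (10, true), (80, true), (65, true), (60, false), (35, false), (85, true), (115, false), (0, true), (105, false), (55, false), (95, true), (110, true)]),
   none,
   some (45727609153801335329870221074345664, 10182605,
    [(0, true), (115, false), (65, true), (110, true), (90, false), (60, false), (80, true), (105, true), (100, true), (20, true), (35, true), (10, true), (40, true), (75, false), (55, true), (45, false), (85, true), (30, true), (25, false), (15, true), (50, true), (70, false), (5, false), (95, true)]),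
   none,
   some (682995742564195970451725362223460373, 0,
    [(5, false), (80, false), (20, false), (85, false), (100, false), (105, false), (40, false), (45, false), (25, false), (65, false), (15, false), (75, false), (10, false), (35, false), (110, false), (90, false), (115, false), (60, false), (70, false), (55, false), (95, false), (0, false), (30, false), (50, false)]),
   some (984818244535754528103549039458486304, 3200870,
    [(0, false), (5, true), (10, true), (15, false), (20, false), (25, true), (30, true), (35, false), (40, true), (45, true), (50, true), (55, false), (60, true), (65, false), (70, true), (75, true), (80, false), (85, false), (90, false), (95, false), (100, true), (105, true), (110, false), (115, false)])]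

def wKi : List Step :=
  [some (984818244535754528103549039458486304, 3200870,
    [(0, false), (5, true), (10, true), (15, false), (20, false), (25, true), (30, true), (35, false), (40, true), (45, true), (50, true), (55, false), (60, true), (65, false), (70, true), (75, true), (80, false), (85, false), (90, false), (95, false), (100, true), (105, true), (110, false), (115, false)]),
   some (423196732910786230009920496438120961, 0,
    [(105, false), (0, false), (60, false), (50, false), (10, false), (40, false), (110, false), (65, false), (30, false), (35, false), (115, false), (95, false), (85, false), (45, false), (90, false), (55, false), (5, false), (15, false), (75, false), (100, false), (20, false), (25, false), (70, false), (80, false)]),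
   none,
   some (791107905971795059232909932901381856, 8072669,
    [(0, true), (110, false), (55, true), (95, true), (45, true), (90, false), (85, true), (50, true), (60, true), (75, false), (100, true), (70, true), (25, false), (10, true), (105, false), (65, false), (30, true), (80, true), (20, false), (115, true), (40, true), (35, true), (15, true), (5, false)]),
   none,
   some (938980519993263541252108980988453454, 5202447,
    [(95, true), (50, true), (60, true), (20, true), (40, false), (55, false), (30, false), (80, false), (10, false), (15, true), (35, false), (105, false), (75, false), (70, true), (0, true), (25, false), (65, true), (85, true), (5, true), (110, true), (45, false), (100, false), (115, true), (90, false)])]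

def wEps : List Step :=
  [some (984818244535754528103549039458486304, 129431,
    [(0, true), (5, true), (10, true), (15, false), (20, true), (25, false), (30, false), (35, true), (40, true), (45, false), (50, false), (55, true), (60, true), (65, true), (70, true), (75, true), (80, true), (85, false), (90, false), (95, false), (100, false), (105, false), (110, false), (115, false)])]

def wQ7 : List Step :=
  [some (958223843737233911666252877786170836, 0,
    [(35, false), (100, false), (110, false), (40, false), (45, false), (15, false), (105, false), (60, false), (20, false), (80, false), (95, false), (55, false), (65, false), (70, false), (5, false), (75, false), (90, false), (10, false), (25, false), (30, false), (0, false), (85, false), (50, false), (115, false)])]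

end Cfsg.Agent.MonsterSevenData71
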