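import Cfsg.Agent.Lib.MonsterThompson17Local
import Cfsg.Agent.Lib.MonsterFischer17
import Cfsg.Agent.Lib.LeechThompson17Model

/-!
The centralizer of an element of order 3 over the fixed-point-free `u`, modulo the group it generates, is of Thompson
type.
-/

set_option autoImplicit false
set_option linter.style.haveILetI false

namespace Cfsg.Agent.MonsterThompson17

open Cfsg Cfsg.Agent.LargeExtraspecial Cfsg.Agent.MonsterLocal
open Cfsg.Agent.LeechBasic Cfsg.Agent.LeechAut Cfsg.Agent.LeechIndex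
open Cfsg.Agent.LeechThompson17
open Cfsg.Agent.LeechFischer17 (smul_twice two_nsmul_mem)
open Cfsg.Agent.MonsterFischer17 (comm_of_comm_mod)

theorem actHom_ker_cases {g : W} (hg : g ∈ actHom.ker) :
    ∃ (i : Fin 2) (j : Fin 3), (g : Co0) = negAut ^ (i : ℕ) * uC ^ (j : ℕ) := by
  haveI := LeechOrder.finite_Co0
  have hbij : Function.Bijective (fun q : Fin 2 × Fin 3 => (⟨kerElt q, kerElt_mem q⟩ : actHom.ker)) := by
    refine (Nat.bijective_iff_injective_and_card _).mpr
      ⟨fun a b h => kerElt_injective (congrArg Subtype.val h), ?_⟩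
    rw [card_actHom_ker, Nat.card_prod, Nat.card_fin, Nat.card_fin]
  obtain ⟨⟨i, j⟩, h⟩ := hbij.2 ⟨g, hg⟩
  refine ⟨i, j, ?_⟩
  have h' := congrArg (fun x : actHom.ker => ((x : W) : Co0)) h
  simp only [kerElt, Subgroup.coe_mul, SubgroupClass.coe_pow] at h'
  exact h'.symm

variable {G : Type*} [Group G] [Finite G] {z : G}
  {Q : Subgroup (Subgroup.centralizer ({z} : Set G))} [Q.Normal]
  {e : (Subgroup.centralizer ({z} : Set G)) ⧸ Q ≃* Spor.Co1}
  {ψ : leechLattice → Q ⧸ Subgroup.center Q}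

set_option maxHeartbeats 1600000 in
/-- The structure of the centralizer modulo the subgroup of order 3. -/
theorem thompson (S : Setup Q e ψ) {a : Q}
    {y : Subgroup.centralizer ({z} : Set G)} (hy : QuotientGroup.mk y = phi e uC)
    (hy3 : (y : G) ^ 3 = 1)
    (hya : (y : G) * ((a : Subgroup.centralizer ({z} : Set G)) : G) =
      ((a : Subgroup.centralizer ({z} : Set G)) : G) * (y : G))
    (haz : ((a : Subgroup.centralizer ({z} : Set G)) : G) ≠ 1 ∧
      ((a : Subgroup.centralizer ({z} : Set G)) : G) ≠ z)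
    {m : G} (hmy : m * (y : G) = (y : G) * m)
    (hmQ : m * z * m⁻¹ ∈ Q.map (Subgroup.centralizer ({z} : Set G)).subtype) (hmz : m * z * m⁻¹ ≠ z)
    {Y : Subgroup G} (hYy : Y = Subgroup.zpowers (y : G))
    [hn : (Y.subgroupOf (Subgroup.centralizer (Y : Set G))).Normal] :
    IsOfThompsonType (↥(Subgroup.centralizer (Y : Set G)) ⧸
      Y.subgroupOf (Subgroup.centralizer (Y : Set G))) := by
  haveI := LeechOrder.finite_Co0
  set Qg := Q.map (Subgroup.centralizer ({z} : Set G)).subtype with hQg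
  set T₀ := Subgroup.centralizer (Y : Set G) with hT
  set K := Subgroup.centralizer ({z} : Set G) ⊓ T₀ with hK
  have memT : ∀ x : G, x ∈ T₀ ↔ x * (y : G) = (y : G) * x := by
    intro x
    rw [hT, Subgroup.mem_centralizer_iff]
    constructor
    · exact fun h => (h _ (hYy ▸ Subgroup.mem_zpowers _)).symm
    · intro h w hw
      rw [hYy] at hw
      obtain ⟨k, rfl⟩ := hw
      exact ((Commute.zpow_right (show Commute x (y : G) from h) k)).eq.symm
  have hyz : (y : G) * z = z * (y : G) := Subgroup.mem_centralizer_singleton_iff.mp y.2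
  have hQC : ∀ q ∈ Qg, q ∈ Subgroup.centralizer ({z} : Set G) := fun q hq =>
    Subgroup.mem_centralizer_singleton_iff.mpr (S.lh.comm q hq)
  have hzT : z ∈ T₀ := (memT z).mpr hyz.symm
  have hzK : z ∈ K := ⟨Subgroup.mem_centralizer_singleton_iff.mpr rfl, hzT⟩
  have hyT : (y : G) ∈ T₀ := (memT _).mpr rfl
  have hyY : ∀ x ∈ Y, x ^ 3 = 1 := by
    intro x hx
    rw [hYy] at hx
    obtain ⟨k, rfl⟩ := hx
    rw [← zpow_natCast, ← zpow_mul, mul_comm, zpow_mul, zpow_natCast, hy3, one_zpow]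
  have hYQ : ∀ x ∈ Y, x ∈ Qg → x = 1 := by
    intro x hx hxQ
    exact orderOf_eq_one_iff.mp (Nat.dvd_one.mp ((Nat.dvd_gcd (orderOf_dvd_of_pow_eq_one (hyY x hx))
      (orderOf_dvd_of_pow_eq_one (S.lh.toExt.pow_four hxQ))).trans (by norm_num)))
  -- the element over `u` and the classes it fixes
  have heu : (QuotientGroup.mk uC : Spor.Co1) = e (QuotientGroup.mk y) := by
    rw [hy]; exact (e.apply_symm_apply _).symm
  have hiso : ∀ {h : Subgroup.centralizer ({z} : Set G)} {g : Co0}, QuotientGroup.mk h = phi e g →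
      ∀ (v : leechLattice) (q : Q), ψ v = QuotientGroup.mk q →
      ψ (g • v) = QuotientGroup.mk ⟨h * q * h⁻¹, (inferInstance : Q.Normal).conj_mem _ q.2 h⟩ :=
    fun {h g} hg => S.iso.2.2.2 h g (by rw [hg]; exact (e.apply_symm_apply _).symm)
  have hclass : ∀ {w : leechLattice} {b : Q}, ψ w = QuotientGroup.mk b →
      (((uC • w : leechLattice) : GolayPt → ℤ) - (w : GolayPt → ℤ) ∈ twiceLeech ↔
        ((b : Subgroup.centralizer ({z} : Set G)) : G) ∈ T₀) := by
    intro w b hb
    rw [← S.psi_eq, hiso hy w b hb, hb, S.mk_eq, memT]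
    constructor
    · intro h
      exact (comm_of_comm_mod S hyz hy3 h).symm
    · intro h
      exact Or.inl (mul_inv_eq_iff_eq_mul.mpr h.symm)
  have hlift : ∀ c : Fin 256, ∃ b : Q, ψ (cb c) = QuotientGroup.mk b ∧
      ((b : Subgroup.centralizer ({z} : Set G)) : G) ∈ T₀ := by
    intro c
    obtain ⟨b, hb⟩ := QuotientGroup.mk_surjective (ψ (cb c))
    refine ⟨b, hb.symm, (hclass hb.symm).mp ?_⟩
    rw [uC_smul_cb, sub_self]
    exact zero_mem _
  choose lift hliftψ hliftT using hlift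
  -- the quotient
  let π := QuotientGroup.mk' (Y.subgroupOf T₀)
  have hπ : ∀ x w : T₀, π x = π w ↔ (x : G)⁻¹ * (w : G) ∈ Y := by
    intro x w
    rw [QuotientGroup.mk'_apply, QuotientGroup.mk'_apply, QuotientGroup.eq, Subgroup.mem_subgroupOf,
      Subgroup.coe_mul, Subgroup.coe_inv]
  set zb : T₀ ⧸ Y.subgroupOf T₀ := π ⟨z, hzT⟩ with hzb
  set D := Subgroup.centralizer ({zb} : Set (T₀ ⧸ Y.subgroupOf T₀)) with hD
  have hKD : ∀ k : K, π ⟨(k : G), k.2.2⟩ ∈ D := fun k => by
    refine Subgroup.mem_centralizer_singleton_iff.mpr ?_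
    rw [hzb, ← map_mul, ← map_mul]
    exact congrArg π (Subtype.ext (Subgroup.mem_centralizer_singleton_iff.mp k.2.1))
  let f : K →* D := (π.comp (Subgroup.inclusion inf_le_right)).codRestrict D hKD
  have hfeq : ∀ x w : K, f x = f w ↔ (x : G)⁻¹ * (w : G) ∈ Y := fun x w =>
    ⟨fun h => (hπ _ _).mp (congrArg Subtype.val h), fun h => Subtype.ext ((hπ _ _).mpr h)⟩
  have hfsurj : Function.Surjective f := by
    rintro ⟨d, hd⟩
    obtain ⟨x, rfl⟩ := QuotientGroup.mk'_surjective _ d
    have h1 := Subgroup.mem_centralizer_singleton_iff.mp hd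
    rw [hzb, ← map_mul, ← map_mul, hπ, Subgroup.coe_mul, Subgroup.coe_mul] at h1
    refine ⟨⟨x, Subgroup.mem_centralizer_singleton_iff.mpr ?_, x.2⟩, rfl⟩
    set w := ((x : G) * z)⁻¹ * (z * (x : G)) with hw
    have hw3 := hyY w h1
    have hwz : w * z = z * w := by
      have h2 := (memT z).mp hzT
      rw [hYy] at h1
      obtain ⟨k, hk⟩ := h1
      rw [← hk]
      exact ((Commute.zpow_right (show Commute z (y : G) from h2) k)).eq.symm
    have e1 : (x : G)⁻¹ * z * (x : G) = z * w := by rw [hw]; group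
    have e2 : (z * w) * (z * w) = 1 := by
      rw [← e1]
      calc (x : G)⁻¹ * z * x * ((x : G)⁻¹ * z * x) = (x : G)⁻¹ * (z * z) * x := by group
        _ = 1 := by rw [S.lh.zz]; group
    have e3 : w * w = 1 := by
      rw [← e2]
      calc w * w = (z * z) * (w * w) := by rw [S.lh.zz, one_mul]
        _ = z * (z * w) * w := by group
        _ = z * (w * z) * w := by rw [hwz]
        _ = z * w * (z * w) := by group
    have hw1 : w = 1 := by
      calc w = (w * w) * w := by rw [e3, one_mul]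
        _ = w ^ 3 := by rw [pow_succ, pow_two]
        _ = 1 := hw3
    rw [hw1, mul_one] at e1
    calc (x : G) * z = (x : G) * ((x : G)⁻¹ * z * x) := by rw [e1]
      _ = z * x := by group
  -- the subgroups
  set S₀ := Qg.subgroupOf K with hS₀
  haveI hS₀n : S₀.Normal := ⟨fun q hq k =>
    S.lh.norm (k : G) (Subgroup.mem_centralizer_singleton_iff.mp k.2.1) (q : G) hq⟩
  set Q' := S₀.map f with hQ'
  haveI hQ'n : Q'.Normal := hS₀n.map f hfsurj
  have hfinj : ∀ x w : K, x ∈ S₀ → w ∈ S₀ → f x = f w → x = w := by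
    intro x w hx hw h
    exact Subtype.ext (inv_mul_eq_one.mp (hYQ _ ((hfeq x w).mp h) (Qg.mul_mem (Qg.inv_mem hx) hw)))
  -- onto the centraliser in `Co0`
  let ρ : K →* (Subgroup.centralizer ({z} : Set G)) ⧸ Q :=
    (QuotientGroup.mk' Q).comp (Subgroup.inclusion inf_le_left)
  have hρW : ∀ k : K, ρ k ∈ W.map (phi e) := by
    intro k
    obtain ⟨g, hg⟩ := phi_surjective e (ρ k)
    refine ⟨g, ?_, hg⟩
    have hcomm : phi e (g * uC) = phi e (uC * g) := by
      rw [map_mul, map_mul, hg, ← hy]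
      show QuotientGroup.mk _ * QuotientGroup.mk _ = QuotientGroup.mk _ * QuotientGroup.mk _
      rw [← QuotientGroup.mk_mul, ← QuotientGroup.mk_mul]
      exact congrArg QuotientGroup.mk (Subtype.ext ((memT _).mp k.2.2))
    have h1 : (g * uC) * (uC * g)⁻¹ ∈ (phi e).ker := by
      rw [MonoidHom.mem_ker, map_mul, hcomm, map_inv, mul_inv_cancel]
    rw [ker_phi] at h1
    rcases center_eq h1 with h2 | h2
    · exact mem_W.mpr (mul_inv_eq_one.mp h2)
    · exfalso
      have h3 : g * uC * g⁻¹ = negAut * uC := by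
        rw [← h2]; group
      have h4 : (g * uC * g⁻¹) ^ 3 = 1 := by rw [conj_pow, uC_pow, mul_one, mul_inv_cancel]
      rw [h3, (show Commute negAut uC from (Subgroup.mem_center_iff.mp negAut_mem_center uC).symm).mul_pow,
        uC_pow, mul_one] at h4
      refine negAut_ne_one ?_
      have h5 : negAut * negAut = 1 := ext_frame fun i => by rw [mul_smul, negAut_smul, negAut_smul, neg_neg, one_smul]
      calc negAut = negAut * (negAut * negAut) := by rw [h5, mul_one]
        _ = negAut ^ 3 := by rw [pow_succ, pow_two, mul_assoc]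
        _ = 1 := h4
  let φr : W →* W.map (phi e) := (phi e).subgroupMap W
  have hφrs : Function.Surjective φr := MonoidHom.subgroupMap_surjective _ _
  let η := QuotientGroup.mk' actHom.ker
  have hφrk : φr.ker ≤ η.ker := by
    intro g hg
    have h1 : (g : Co0) ∈ (phi e).ker := congrArg Subtype.val hg
    rw [ker_phi] at h1
    rw [QuotientGroup.ker_mk']
    rcases center_eq h1 with h2 | h2
    · rw [show g = 1 from Subtype.ext h2]; exact one_mem _
    · rw [show g = negW from Subtype.ext h2]; exact negW_ker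
  let β : W.map (phi e) →* W ⧸ actHom.ker := φr.liftOfSurjective hφrs ⟨η, hφrk⟩
  have hβ : ∀ g : W, β (φr g) = η g := fun g =>
    MonoidHom.liftOfRightInverse_comp_apply φr _ _ ⟨η, hφrk⟩ g
  let κ : K →* W ⧸ actHom.ker := β.comp (ρ.codRestrict (W.map (phi e)) hρW)
  have hκ : ∀ (k : K) (g : W), ρ k = phi e (g : Co0) → κ k = η g := by
    intro k g h
    rw [← hβ g]
    exact congrArg β (Subtype.ext h)
  have hρsurj : ∀ g : W, ∃ k : K, ρ k = phi e (g : Co0) := by
    intro g
    haveI : Fact (Nat.Prime 3) := ⟨Nat.prime_three⟩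
    obtain ⟨h, hh⟩ := QuotientGroup.mk_surjective (phi e (g : Co0))
    -- two subgroups of order 3 over the same one
    set H := (Subgroup.zpowers (QuotientGroup.mk' Q y)).comap (QuotientGroup.mk' Q) with hH
    have hy1 : QuotientGroup.mk' Q y ≠ 1 := by
      rw [QuotientGroup.mk'_apply, hy]
      exact phi_ne_one uC_pow uC_ne_one
    have hy3' : y ^ 3 = 1 := Subtype.ext hy3
    have ho : orderOf (QuotientGroup.mk' Q y) = 3 :=
      orderOf_eq_prime (by rw [← map_pow, hy3', map_one]) hy1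
    have hoy : orderOf y = 3 := orderOf_eq_prime hy3' (fun h => hy1 (by rw [h, map_one]))
    have hcardH : (Nat.card H).factorization 3 = 1 := by
      rw [hH, ← HallCore.card_comap_mk', Nat.card_zpowers, ho,
        Nat.card_congr (Subgroup.equivMapOfInjective Q _ (Subgroup.subtype_injective _)).toEquiv, S.card,
        Nat.factorization_mul (by norm_num) (by positivity), Finsupp.add_apply, Nat.factorization_pow,
        Finsupp.smul_apply, Nat.Prime.factorization_self Nat.prime_three,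
        Nat.factorization_eq_zero_of_not_dvd (show ¬ 3 ∣ 2 by norm_num)]
      simp
    have hyH : y ∈ H := Subgroup.mem_zpowers _
    set y' := h * y * h⁻¹ with hy'
    have hy'm : QuotientGroup.mk' Q y' = QuotientGroup.mk' Q y := by
      rw [hy', map_mul, map_mul, map_inv, QuotientGroup.mk'_apply, QuotientGroup.mk'_apply, hh, hy,
        ← map_inv, ← map_mul, ← map_mul, mem_W.mp g.2, mul_inv_cancel_right]
    have hy'H : y' ∈ H := by rw [hH, Subgroup.mem_comap, hy'm]; exact Subgroup.mem_zpowers _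
    have hoy' : orderOf y' = 3 := by
      refine orderOf_eq_prime (by rw [hy', conj_pow, hy3', mul_one, mul_inv_cancel]) fun h1 => hy1 ?_
      rw [← hy'm, h1, map_one]
    let A : Sylow 3 H := Sylow.ofCard ((Subgroup.zpowers y).subgroupOf H) (by
      rw [hcardH, Nat.card_congr (Subgroup.subgroupOfEquivOfLe (Subgroup.zpowers_le.mpr hyH)).toEquiv,
        Nat.card_zpowers, hoy, pow_one])
    let B : Sylow 3 H := Sylow.ofCard ((Subgroup.zpowers y').subgroupOf H) (by
      rw [hcardH, Nat.card_congr (Subgroup.subgroupOfEquivOfLe (Subgroup.zpowers_le.mpr hy'H)).toEquiv,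
        Nat.card_zpowers, hoy', pow_one])
    obtain ⟨⟨x, hx⟩, hxA⟩ := MulAction.exists_smul_eq H B A
    obtain ⟨i, hi⟩ := Subgroup.mem_zpowers_iff.mp (show QuotientGroup.mk' Q x ∈ _ from hx)
    set q := (y ^ i)⁻¹ * x with hqdef
    have hqQ : QuotientGroup.mk' Q q = 1 := by
      rw [hqdef, map_mul, map_inv, map_zpow, hi, inv_mul_cancel]
    have hconj : x * y' * x⁻¹ ∈ Subgroup.zpowers y := by
      have h1 : (⟨x, hx⟩ : H) * ⟨y', hy'H⟩ * (⟨x, hx⟩ : H)⁻¹ ∈ (A : Subgroup H) := by
        rw [← hxA, Sylow.coe_subgroup_smul, Subgroup.mem_pointwise_smul_iff_inv_smul_mem, ← map_inv,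
          MulAut.smul_def, MulAut.conj_apply, inv_inv]
        have e1 : (⟨x, hx⟩ : H)⁻¹ * ((⟨x, hx⟩ : H) * ⟨y', hy'H⟩ * (⟨x, hx⟩ : H)⁻¹) * ⟨x, hx⟩ =
            (⟨y', hy'H⟩ : H) := by group
        rw [e1]
        exact Subgroup.mem_zpowers y'
      exact h1
    have hq2 : q * y' * q⁻¹ = y := by
      have h1 : q * y' * q⁻¹ ∈ Subgroup.zpowers y := by
        have e1 : q * y' * q⁻¹ = (y ^ i)⁻¹ * (x * y' * x⁻¹) * y ^ i := by rw [hqdef]; group
        rw [e1]
        exact mul_mem (mul_mem (inv_mem (zpow_mem (Subgroup.mem_zpowers _) i)) hconj)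
          (zpow_mem (Subgroup.mem_zpowers _) i)
      obtain ⟨k, hk⟩ := Subgroup.mem_zpowers_iff.mp h1
      rw [← hk]
      have h2 := congrArg (QuotientGroup.mk' Q) hk
      rw [map_mul, map_mul, map_inv, hqQ, hy'm, map_zpow, one_mul, inv_one, mul_one] at h2
      have h3 : (QuotientGroup.mk' Q y) ^ k = (QuotientGroup.mk' Q y) ^ (1 : ℤ) := h2.trans (zpow_one _).symm
      rw [zpow_eq_zpow_iff_modEq, ho, ← hoy] at h3
      exact (zpow_eq_zpow_iff_modEq.mpr h3).trans (zpow_one y)
    refine ⟨⟨(q * h : Subgroup.centralizer ({z} : Set G)), (q * h).2, (memT _).mpr ?_⟩, ?_⟩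
    · have h1 : q * h * y = y * (q * h) := by
        calc q * h * y = (q * y' * q⁻¹) * (q * h) := by rw [hy']; group
          _ = _ := by rw [hq2]
      exact congrArg Subtype.val h1
    · show QuotientGroup.mk' Q (q * h) = _
      rw [map_mul, hqQ, one_mul, QuotientGroup.mk'_apply, hh]
  have hκsurj : Function.Surjective κ := fun c => by
    obtain ⟨g, rfl⟩ := QuotientGroup.mk'_surjective _ c
    obtain ⟨k, hk⟩ := hρsurj g
    exact ⟨k, hκ k g hk⟩
  let yK : K := ⟨y, y.2, hyT⟩
  have hκy : κ yK = 1 := by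
    rw [hκ yK ⟨uC, uC_mem_W⟩ hy]
    exact (QuotientGroup.eq_one_iff _).mpr (show uW ∈ _ from uW_ker)
  have hfk : f.ker ≤ κ.ker := by
    intro k hk
    rw [MonoidHom.mem_ker, ← map_one f, hfeq] at hk
    have h1 : (k : G) ∈ Y := by simpa using Y.inv_mem hk
    rw [hYy] at h1
    obtain ⟨n, hn⟩ := h1
    have h2 : k = yK ^ n := Subtype.ext (hn.symm.trans (SubgroupClass.coe_zpow yK n).symm)
    rw [MonoidHom.mem_ker, h2, map_zpow, hκy, one_zpow]
  let Φ : D →* W ⧸ actHom.ker := f.liftOfSurjective hfsurj ⟨κ, hfk⟩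
  have hΦ : ∀ k : K, Φ (f k) = κ k := fun k => MonoidHom.liftOfRightInverse_comp_apply f _ _ ⟨κ, hfk⟩ k
  have hΦsurj : Function.Surjective Φ := fun c => by
    obtain ⟨k, rfl⟩ := hκsurj c
    exact ⟨f k, hΦ k⟩
  have hker : Φ.ker = Q' := by
    refine le_antisymm ?_ ?_
    · intro d hd
      obtain ⟨k, rfl⟩ := hfsurj d
      rw [MonoidHom.mem_ker, hΦ] at hd
      obtain ⟨g, hg⟩ : ∃ g : W, ρ k = phi e (g : Co0) := by
        obtain ⟨g, hg, h⟩ := hρW k
        exact ⟨⟨g, hg⟩, h.symm⟩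
      rw [hκ k g hg] at hd
      obtain ⟨i, j, hij⟩ := actHom_ker_cases ((QuotientGroup.eq_one_iff g).mp hd)
      have hneg : phi e negAut = 1 := by rw [← MonoidHom.mem_ker, ker_phi]; exact negAut_mem_center
      have h1 : ρ (yK ^ (j : ℕ)) = ρ k := by
        rw [hg, hij, map_mul, map_pow, map_pow, map_pow, hneg, one_pow, one_mul]
        exact congrArg (· ^ (j : ℕ)) hy
      have h2 : (yK ^ (j : ℕ))⁻¹ * k ∈ ρ.ker := by
        rw [MonoidHom.mem_ker, map_mul, map_inv, h1, inv_mul_cancel]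
      refine ⟨(yK ^ (j : ℕ))⁻¹ * k, ⟨_, (QuotientGroup.eq_one_iff _).mp h2, rfl⟩, ?_⟩
      rw [map_mul, map_inv, map_pow, show f yK = 1 from by
        rw [← map_one f, hfeq, hYy]
        rw [Subgroup.coe_one, mul_one]
        exact inv_mem (Subgroup.mem_zpowers (y : G)), one_pow, inv_one, one_mul]
    · rintro _ ⟨q, hq, rfl⟩
      rw [MonoidHom.mem_ker, hΦ, hκ q 1 ?_, map_one]
      obtain ⟨c, hc, hcq⟩ := hq
      rw [Subgroup.coe_one, map_one]
      exact (QuotientGroup.eq_one_iff _).mpr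
        ((show Subgroup.inclusion inf_le_left q = c from Subtype.ext hcq.symm) ▸ hc)
  -- extraspecial
  let zK : K := ⟨z, hzK⟩
  let aK : K := ⟨(a : Subgroup.centralizer ({z} : Set G)), (a : Subgroup.centralizer ({z} : Set G)).2,
    (memT _).mpr hya.symm⟩
  have hext : Ext Q' (f zK) := by
    refine ⟨⟨zK, S.lh.mem, rfl⟩, ?_, ?_, ?_, ?_, ?_, ?_⟩
    · intro h
      have h1 := hfinj zK 1 S.lh.mem (one_mem _) (h.trans (map_one f).symm)
      exact S.lh.ne_one (congrArg Subtype.val h1)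
    · rw [← map_mul, show zK * zK = 1 from Subtype.ext S.lh.zz, map_one]
    · rintro _ ⟨q, hq, rfl⟩
      rw [← map_mul, ← map_mul]
      exact congrArg f (Subtype.ext (S.lh.comm (q : G) hq))
    · rintro _ ⟨q, hq, rfl⟩
      rw [← map_mul, ← map_one f]
      exact (S.lh.sq (q : G) hq).imp (fun h => congrArg f (Subtype.ext h))
        fun h => congrArg f (Subtype.ext h)
    · rintro _ ⟨q, hq, rfl⟩ _ ⟨r, hr, rfl⟩
      rw [← map_inv, ← map_mul, ← map_mul, ← map_mul]
      exact (S.lh.conj (q : G) hq (r : G) hr).imp (fun h => congrArg f (Subtype.ext h))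
        fun h => congrArg f (Subtype.ext h)
    · rintro _ ⟨q, hq, rfl⟩ h1 h2
      obtain ⟨r, hr, er⟩ := S.lh.partner (q : G) hq
        (fun h => h1 (by rw [show q = 1 from Subtype.ext h, map_one]))
        (fun h => h2 (by rw [show q = zK from Subtype.ext h]))
      set Yc : G → G := fun w => (y : G) * w * (y : G)⁻¹ with hYc
      have hYQg : ∀ w ∈ Qg, Yc w ∈ Qg := fun w hw => S.lh.norm _ hyz w hw
      have hz' : (y : G) * z * (y : G)⁻¹ = z := mul_inv_eq_iff_eq_mul.mpr hyz
      have hqy : (y : G) * (q : G) * (y : G)⁻¹ = q := mul_inv_eq_iff_eq_mul.mpr ((memT _).mp q.2.2).symm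
      have hYe : ∀ w, w * (q : G) * w⁻¹ = z * q → Yc w * (q : G) * (Yc w)⁻¹ = z * q := by
        intro w hw
        calc Yc w * (q : G) * (Yc w)⁻¹
            = (y : G) * (w * ((y : G)⁻¹ * q * y) * w⁻¹) * (y : G)⁻¹ := by rw [hYc]; group
          _ = (y : G) * (z * q) * (y : G)⁻¹ := by
            rw [show (y : G)⁻¹ * q * y = q by
              rw [mul_assoc, (memT _).mp q.2.2, inv_mul_cancel_left], hw]
          _ = ((y : G) * z * (y : G)⁻¹) * ((y : G) * q * (y : G)⁻¹) := by group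
          _ = z * q := by rw [hz', hqy]
      have hr1 := hYe r er
      have hr2 := hYe _ hr1
      set r' := r * Yc r * Yc (Yc r) with hr'
      have hr'Q : r' ∈ Qg := Qg.mul_mem (Qg.mul_mem hr (hYQg r hr)) (hYQg _ (hYQg r hr))
      have hr'q : r' * (q : G) * r'⁻¹ = z * q := by
        have e1 := S.lh.toExt.mul_fix hr er hr1
        calc r' * (q : G) * r'⁻¹
            = (r * Yc r) * (Yc (Yc r) * q * (Yc (Yc r))⁻¹) * (r * Yc r)⁻¹ := by rw [hr']; group
          _ = (r * Yc r) * (z * q) * (r * Yc r)⁻¹ := by rw [hr2]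
          _ = ((r * Yc r) * z) * (r * Yc r)⁻¹ * ((r * Yc r) * q * (r * Yc r)⁻¹) := by group
          _ = z * q := by
            rw [S.lh.comm _ (Qg.mul_mem hr (hYQg r hr)), mul_inv_cancel_right, e1]
      have hY3 : Yc (Yc (Yc r)) = r := by
        calc Yc (Yc (Yc r)) = (y : G) ^ 3 * r * ((y : G) ^ 3)⁻¹ := by rw [hYc, pow_three]; group
          _ = r := by rw [hy3, one_mul, inv_one, mul_one]
      have hr'y : (y : G) * r' * (y : G)⁻¹ = r⁻¹ * r' * r⁻¹⁻¹ := by
        calc (y : G) * r' * (y : G)⁻¹ = Yc r * Yc (Yc r) * Yc (Yc (Yc r)) := by rw [hr', hYc]; group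
          _ = Yc r * Yc (Yc r) * r := by rw [hY3]
          _ = _ := by rw [hr']; group
      have hr'c := comm_of_comm_mod S hyz hy3 (hr'y ▸ S.lh.conj _ (Qg.inv_mem hr) r' hr'Q)
      refine ⟨f ⟨r', hQC r' hr'Q, (memT _).mpr hr'c.symm⟩, ⟨_, hr'Q, rfl⟩, ?_⟩
      rw [← map_inv, ← map_mul, ← map_mul, ← map_mul]
      exact congrArg f (Subtype.ext hr'q)
  have hEQ : IsExtraspecial 2 Q' := by
    refine hext.isExtraspecial (x := f aK) ⟨aK, S.coe_mem a, rfl⟩ ?_ ?_
    · intro h
      exact haz.1 (congrArg Subtype.val (hfinj aK 1 (S.coe_mem a) (one_mem _) (h.trans (map_one f).symm)))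
    · intro h
      exact haz.2 (congrArg Subtype.val (hfinj aK zK (S.coe_mem a) S.lh.mem h))
  -- the order
  have hS₀card : Nat.card S₀ = 2 ^ 9 := by
    have hinS : ∀ (c : Fin 256) (i : Fin 2),
        z ^ (i : ℕ) * ((lift c : Subgroup.centralizer ({z} : Set G)) : G) ∈ Qg ∧
          z ^ (i : ℕ) * ((lift c : Subgroup.centralizer ({z} : Set G)) : G) ∈ K := fun c i => by
      have h1 : z ^ (i : ℕ) * ((lift c : Subgroup.centralizer ({z} : Set G)) : G) ∈ Qg :=
        Qg.mul_mem (Qg.pow_mem S.lh.mem _) (S.coe_mem _)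
      exact ⟨h1, hQC _ h1, T₀.mul_mem (T₀.pow_mem hzT _) (hliftT c)⟩
    have hb : Function.Bijective (fun p : Fin 256 × Fin 2 => (⟨⟨_, (hinS p.1 p.2).2⟩, (hinS p.1 p.2).1⟩ : S₀)) := by
      constructor
      · rintro ⟨c, i⟩ ⟨c', i'⟩ h
        have h' : z ^ (i : ℕ) * ((lift c : Subgroup.centralizer ({z} : Set G)) : G) =
            z ^ (i' : ℕ) * ((lift c' : Subgroup.centralizer ({z} : Set G)) : G) :=
          congrArg (fun w : S₀ => ((w : K) : G)) h
        obtain rfl : c = c' := by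
          refine Fin.ext (comb_inj c.2 c'.2 (S.psi_eq.mp ?_ : (cb c : GolayPt → ℤ) - cb c' ∈ twiceLeech))
          rw [hliftψ, hliftψ, S.mk_eq]
          obtain ⟨i, hi⟩ := i
          obtain ⟨i', hi'⟩ := i'
          interval_cases i <;> interval_cases i' <;> simp only [pow_zero, pow_one, one_mul] at h'
          · exact Or.inl h'
          · exact Or.inr h'
          · exact Or.inr (by rw [← h', S.lh.toExt.z_mul_z_mul])
          · exact Or.inl (mul_left_cancel h')
        have h2 := mul_right_cancel h'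
        obtain ⟨i, hi⟩ := i
        obtain ⟨i', hi'⟩ := i'
        interval_cases i <;> interval_cases i'
        · rfl
        · exact absurd (by simpa using h2.symm) S.lh.ne_one
        · exact absurd (by simpa using h2) S.lh.ne_one
        · rfl
      · rintro ⟨⟨x, hx⟩, hxQ⟩
        obtain ⟨b, hbQ, rfl⟩ : x ∈ Qg := hxQ
        obtain ⟨w, hw⟩ := S.iso.2.1 (QuotientGroup.mk (⟨b, hbQ⟩ : Q))
        have h1 := (hclass hw).mpr hx.2
        have h2 := smul_twice uC h1
        have hfix : uC • tr w = tr w := by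
          have h3 : uC • uC • uC • w = w := by
            rw [← mul_smul, ← mul_smul, ← pow_two, ← pow_succ, uC_pow, one_smul]
          rw [tr, smul_add_vec, smul_add_vec, h3]
          abel
        obtain ⟨c, hc⟩ := exists_class hfix
        have hwc : ψ w = ψ (cb c) := by
          rw [S.psi_eq]
          have h3 := sub_mem hc (add_mem (add_mem h2 (add_mem h1 h1)) (two_nsmul_mem w.2))
          convert h3 using 1
          simp only [tr, AddSubgroup.coe_add, two_nsmul]
          abel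
        rw [hw, hliftψ, S.mk_eq] at hwc
        rcases hwc with h | h
        · exact ⟨(c, 0), Subtype.ext (Subtype.ext (by
            show z ^ (0 : ℕ) * _ = _
            rw [pow_zero, one_mul]; exact h.symm))⟩
        · exact ⟨(c, 1), Subtype.ext (Subtype.ext (by
            show z ^ (1 : ℕ) * _ = _
            rw [pow_one]; exact h.symm))⟩
    rw [← Nat.card_congr (Equiv.ofBijective _ hb), Nat.card_prod, Nat.card_fin, Nat.card_fin]
    norm_num
  have hQ'card : Nat.card Q' = 2 ^ 9 := by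
    rw [← hS₀card]
    refine (Nat.card_eq_of_bijective (fun q : S₀ => (⟨f q, q, q.2, rfl⟩ : Q'))
      ⟨fun q r h => Subtype.ext (hfinj _ _ q.2 r.2 (congrArg Subtype.val h)), ?_⟩).symm
    rintro ⟨_, q, hq, rfl⟩
    exact ⟨⟨q, hq⟩, rfl⟩
  have hp : IsPGroup 2 Q' := IsPGroup.of_card hQ'card
  -- centralizer of `Q'`
  have hCQ : Subgroup.centralizer (Q' : Set D) ≤ Q' := by
    intro d hd
    obtain ⟨k, rfl⟩ := hfsurj d
    obtain ⟨g, hgW, hg⟩ := hρW k
    have hker' : (⟨g, hgW⟩ : W) ∈ actHom.ker := by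
      refine MonoidHom.mem_ker.mpr (Equiv.ext fun c => ?_)
      rw [actHom_apply, Equiv.Perm.one_apply]
      refine img_eq (S.psi_eq.mp ?_)
      have hb := hliftψ c
      rw [hiso (h := Subgroup.inclusion inf_le_left k) (g := g) hg.symm (cb c) (lift c) hb, hb, S.mk_eq]
      left
      set q : K := ⟨((lift c : Subgroup.centralizer ({z} : Set G)) : G), hQC _ (S.coe_mem _), hliftT c⟩
      have hq : q ∈ S₀ := S.coe_mem _
      have hc := Subgroup.mem_centralizer_iff.mp hd (f q) ⟨q, hq, rfl⟩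
      have h1 : f (k * q * k⁻¹) = f q := by rw [map_mul, map_mul, map_inv, ← hc, mul_inv_cancel_right]
      have h2 := hfinj _ _ (hS₀n.conj_mem q hq k) hq h1
      exact congrArg (fun w : K => (w : G)) h2
    rw [← hker, MonoidHom.mem_ker, hΦ, hκ k ⟨g, hgW⟩ hg.symm]
    exact (QuotientGroup.eq_one_iff _).mpr hker'
  -- the 2-core
  have hO2 : pCore 2 D = Q' := by
    refine le_antisymm ?_ (HallCore.le_pCore hp)
    haveI hPn : ((pCore 2 D).map Φ).Normal := (inferInstance : (pCore 2 D).Normal).map Φ hΦsurj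
    have hPeq := two_core_trivial _ ((HallCore.isPGroup_pCore 2 D).map Φ)
    intro d hd
    rw [← hker, MonoidHom.mem_ker]
    have h1 : Φ d ∈ (pCore 2 D).map Φ := ⟨d, hd, rfl⟩
    rwa [hPeq, Subgroup.mem_bot] at h1
  have hF : generalizedFittingSubgroup D = Q' := by
    rw [CharTwoLocal.gen_eq_of_charTwo (show IsOfCharacteristicTwo D from by
      show Subgroup.centralizer (pCore 2 D : Set D) ≤ pCore 2 D
      rw [hO2]; exact hCQ), hO2]
  -- not weakly closed
  have hmT : m ∈ T₀ := (memT m).mpr hmy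
  let mzK : K := ⟨m * z * m⁻¹, hQC _ hmQ, T₀.mul_mem (T₀.mul_mem hmT hzT) (T₀.inv_mem hmT)⟩
  have hmb : (f mzK : T₀ ⧸ Y.subgroupOf T₀) = π ⟨m, hmT⟩ * zb * (π ⟨m, hmT⟩)⁻¹ := by
    rw [hzb, ← map_inv, ← map_mul, ← map_mul]; rfl
  have hnwc : π ⟨m, hmT⟩ * zb * (π ⟨m, hmT⟩)⁻¹ ≠ zb := by
    intro h
    rw [← hmb] at h
    have h1 : f mzK = f zK := Subtype.ext h
    exact hmz (congrArg Subtype.val (hfinj mzK zK hmQ S.lh.mem h1))
  -- the alternating group
  refine ⟨zb, Q', hQ'n, ⟨orderOf_eq_prime ?_ ?_, hF, hEQ, hQ'card,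
    π ⟨m, hmT⟩, ⟨hmb ▸ (f mzK).2, mzK, hmQ, Subtype.ext hmb⟩, hnwc⟩,
    ⟨((QuotientGroup.quotientMulEquivOfEq hker.symm).trans
      (QuotientGroup.quotientKerEquivOfSurjective Φ hΦsurj)).trans quotEquiv⟩⟩
  · rw [hzb, ← map_pow, pow_two, show (⟨z, hzT⟩ : T₀) * ⟨z, hzT⟩ = 1 from Subtype.ext S.lh.zz, map_one]
  · intro h
    have h1 : f zK = 1 := Subtype.ext h
    exact S.lh.ne_one (congrArg Subtype.val (hfinj zK 1 S.lh.mem (one_mem _) (h1.trans (map_one f).symm)))

end Cfsg.Agent.MonsterThompson17
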