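import Cfsg.Agent.Lib.MonsterFischer17Local
import Cfsg.Agent.Lib.LeechThompson17Perm

/-!
Groups of Monster type: an element of order 3 of the joint centralizer of `z` and a conjugate `s` in `Q`
lies over a conjugate of the fixed-point-free `u`, unless it is central in a Sylow 3-subgroup.
-/

set_option autoImplicit false
set_option linter.style.haveILetI false

namespace Cfsg.Agent.MonsterThompson17

open Cfsg Cfsg.Agent.GolayBasic Cfsg.Agent.LargeExtraspecial Cfsg.Agent.MonsterLocal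
open Cfsg.Agent.LeechBasic Cfsg.Agent.LeechAut
open Cfsg.Agent.LeechStab (mono monomial_mem permHom permHom_injective)
open Cfsg.Agent.GolayPerm (pts mem_pts pimg good permOf permOf_mem_M24 permOf_apply valid_of_good pfun)
open Cfsg.Agent.MonsterFischer17 (Xa comap_Xa card_Xa card_L v_three)

/-- Elements of order 3 with the same image, for a kernel of 2-power order, are conjugate under the kernel. -/
theorem exists_conj_of_map_eq {L X : Type*} [Group L] [Finite L] [Group X] (f : L →* X)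
    (hk : ∃ j, Nat.card f.ker = 2 ^ j) {x y : L} (hx : x ^ 3 = 1) (hy : y ^ 3 = 1) (hne : f x ≠ 1)
    (h : f x = f y) : ∃ k ∈ f.ker, k * y * k⁻¹ = x := by
  haveI : Fact (Nat.Prime 3) := ⟨Nat.prime_three⟩
  obtain ⟨j, hj⟩ := hk
  set H := (Subgroup.zpowers (f x)).comap f with hH
  have hox : orderOf x = 3 := orderOf_eq_prime hx fun h1 => hne (by rw [h1, map_one])
  have hoy : orderOf y = 3 := orderOf_eq_prime hy fun h1 => hne (by rw [h, h1, map_one])
  have ho : orderOf (f x) = 3 := orderOf_eq_prime (by rw [← map_pow, hx, map_one]) hne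
  let g := f.subgroupComap (Subgroup.zpowers (f x))
  have hgs : Function.Surjective g := by
    rintro ⟨_, n, rfl⟩
    exact ⟨⟨x ^ n, by rw [Subgroup.mem_comap, map_zpow]; exact ⟨n, rfl⟩⟩, Subtype.ext (map_zpow f x n)⟩
  have hgk : g.ker = f.ker.subgroupOf H := by
    ext w
    rw [MonoidHom.mem_ker, Subgroup.mem_subgroupOf, MonoidHom.mem_ker, Subtype.ext_iff]
    rfl
  have hkH : f.ker ≤ H := Subgroup.ker_le_comap f _
  have hcardH : (Nat.card H).factorization 3 = 1 := by
    rw [hH, Subgroup.card_eq_card_quotient_mul_card_subgroup g.ker,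
      Nat.card_congr (QuotientGroup.quotientKerEquivOfSurjective g hgs).toEquiv, Nat.card_zpowers, ho, hgk,
      Nat.card_congr (Subgroup.subgroupOfEquivOfLe hkH).toEquiv, hj, Nat.factorization_mul (by norm_num)
      (by positivity), Finsupp.add_apply, Nat.factorization_pow, Finsupp.smul_apply,
      Nat.Prime.factorization_self Nat.prime_three,
      Nat.factorization_eq_zero_of_not_dvd (show ¬ 3 ∣ 2 by norm_num)]
    simp
  have hxH : x ∈ H := Subgroup.mem_zpowers _
  have hyH : y ∈ H := by rw [hH, Subgroup.mem_comap, ← h]; exact Subgroup.mem_zpowers _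
  let A : Sylow 3 H := Sylow.ofCard ((Subgroup.zpowers x).subgroupOf H) (by
    rw [hcardH, Nat.card_congr (Subgroup.subgroupOfEquivOfLe (Subgroup.zpowers_le.mpr hxH)).toEquiv,
      Nat.card_zpowers, hox, pow_one])
  let B : Sylow 3 H := Sylow.ofCard ((Subgroup.zpowers y).subgroupOf H) (by
    rw [hcardH, Nat.card_congr (Subgroup.subgroupOfEquivOfLe (Subgroup.zpowers_le.mpr hyH)).toEquiv,
      Nat.card_zpowers, hoy, pow_one])
  obtain ⟨⟨c, hc⟩, hcA⟩ := MulAction.exists_smul_eq H B A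
  obtain ⟨i, hi⟩ := Subgroup.mem_zpowers_iff.mp (show f c ∈ Subgroup.zpowers (f x) from hc)
  have hq : f ((x ^ i)⁻¹ * c) = 1 := by rw [map_mul, map_inv, map_zpow, hi, inv_mul_cancel]
  have hconj : c * y * c⁻¹ ∈ Subgroup.zpowers x := by
    have h1 : (⟨c, hc⟩ : H) * ⟨y, hyH⟩ * (⟨c, hc⟩ : H)⁻¹ ∈ (A : Subgroup H) := by
      rw [← hcA, Sylow.coe_subgroup_smul, Subgroup.mem_pointwise_smul_iff_inv_smul_mem, ← map_inv,
        MulAut.smul_def, MulAut.conj_apply, inv_inv]
      have e1 : (⟨c, hc⟩ : H)⁻¹ * ((⟨c, hc⟩ : H) * ⟨y, hyH⟩ * (⟨c, hc⟩ : H)⁻¹) * ⟨c, hc⟩ =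
          (⟨y, hyH⟩ : H) := by group
      rw [e1]
      exact Subgroup.mem_zpowers y
    exact h1
  refine ⟨(x ^ i)⁻¹ * c, hq, ?_⟩
  have h1 : (x ^ i)⁻¹ * c * y * ((x ^ i)⁻¹ * c)⁻¹ ∈ Subgroup.zpowers x := by
    rw [show (x ^ i)⁻¹ * c * y * ((x ^ i)⁻¹ * c)⁻¹ = (x ^ i)⁻¹ * (c * y * c⁻¹) * x ^ i by group]
    exact mul_mem (mul_mem (inv_mem (zpow_mem (Subgroup.mem_zpowers _) i)) hconj)
      (zpow_mem (Subgroup.mem_zpowers _) i)
  obtain ⟨k, hk⟩ := Subgroup.mem_zpowers_iff.mp h1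
  rw [← hk]
  have h2 := congrArg f hk
  rw [map_zpow, map_mul, map_mul, map_inv, hq, ← h, one_mul, inv_one, mul_one] at h2
  have h3 : (f x) ^ k = (f x) ^ (1 : ℤ) := h2.trans (zpow_one _).symm
  rw [zpow_eq_zpow_iff_modEq, ho, ← hox] at h3
  exact (zpow_eq_zpow_iff_modEq.mpr h3).trans (zpow_one x)

/-! ### The permutations -/

/-- `T` conjugates `P` to `R`. -/
def conjOK (T P R : ℕ) : Bool := pts.all fun i => Nat.beq (pimg T (pimg P i)) (pimg R (pimg T i))

/-- The checks on the table. -/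
theorem wit_ok : (LeechFischer17.sylList == LeechThompson17.sylWit.map (fun w => w.1) &&
    LeechThompson17.sylWit.all (fun w => good w.2.1 &&
      ((w.2.2 == 0 && w.1 == LeechFischer17.idP) || (w.2.2 == 1 && conjOK w.2.1 w.1 LeechFischer17.uP) ||
        conjOK w.2.1 w.1 LeechThompson17.uP)) &&
    LeechFischer17.sylList.all (fun P => conjOK LeechFischer17.uP P P)) = true := by
  decide +kernel

theorem permOf_conj {T P R : ℕ} (hT : good T = true) (hP : good P = true) (hR : good R = true)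
    (h : conjOK T P R = true) : permOf T * permOf P = permOf R * permOf T := by
  simp only [conjOK, List.all_eq_true, Nat.beq_eq] at h
  ext p : 1
  have hT' := valid_of_good hT
  rw [Equiv.Perm.mul_apply, Equiv.Perm.mul_apply, permOf_apply hT', permOf_apply (valid_of_good hP),
    permOf_apply (valid_of_good hR), permOf_apply hT', pfun, pfun, pfun, pfun,
    idx_pt (GolayPerm.pimg_lt (valid_of_good hP) (idx_lt p)), idx_pt (GolayPerm.pimg_lt hT' (idx_lt p)),
    h _ (mem_pts.2 (idx_lt p))]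

/-- Each element of the subgroup of order 27 is trivial or conjugate to one of the two permutations. -/
theorem syl_cases {g : Co0} (hg : g ∈ LeechFischer17.syl) :
    g = 1 ∨ (∃ t ∈ mono, t * g * t⁻¹ = LeechFischer17.uC) ∨ (∃ t ∈ mono, t * g * t⁻¹ = LeechThompson17.uC) := by
  obtain ⟨σ, ⟨P, hP, hσ⟩, rfl⟩ := hg
  have h := wit_ok
  simp only [Bool.and_eq_true, Bool.or_eq_true, List.all_eq_true, beq_iff_eq] at h
  obtain ⟨⟨hlist, hw⟩, -⟩ := h
  obtain ⟨w, hwm, rfl⟩ := List.mem_map.mp (hlist ▸ hP)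
  obtain ⟨hT, hc⟩ := hw w hwm
  have hgP := LeechFischer17.syl_good hP
  let τ : M24 := ⟨permOf w.2.1, permOf_mem_M24 hT⟩
  have key : ∀ {R : ℕ} (hR : good R = true), conjOK w.2.1 w.1 R = true →
      permHom τ * permHom σ * (permHom τ)⁻¹ = permHom ⟨permOf R, permOf_mem_M24 hR⟩ := by
    intro R hR hc
    rw [← map_mul, mul_inv_eq_iff_eq_mul, ← map_mul]
    refine congrArg permHom (Subtype.ext ?_)
    rw [Subgroup.coe_mul, Subgroup.coe_mul, hσ]
    exact permOf_conj hT hgP hR hc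
  have hτ : permHom τ ∈ mono := monomial_mem τ.2 empty_mem_supports
  rcases hc with (⟨-, e⟩ | ⟨-, hc⟩) | hc
  · exact Or.inl (by rw [show σ = 1 from Subtype.ext (by rw [hσ, e]; exact LeechFischer17.permOf_id), map_one])
  · exact Or.inr (Or.inl ⟨_, hτ, (key LeechFischer17.uP_good hc).trans LeechFischer17.uC_eq_permHom.symm⟩)
  · exact Or.inr (Or.inr ⟨_, hτ, (key LeechThompson17.uP_good hc).trans LeechThompson17.uC_eq_monomial.symm⟩)

/-- The first permutation is central in the subgroup of order 27. -/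
theorem syl_comm {g : Co0} (hg : g ∈ LeechFischer17.syl) : g * LeechFischer17.uC = LeechFischer17.uC * g := by
  obtain ⟨σ, ⟨P, hP, hσ⟩, rfl⟩ := hg
  have h := wit_ok
  simp only [Bool.and_eq_true, List.all_eq_true] at h
  rw [LeechFischer17.uC_eq_permHom, ← map_mul, ← map_mul]
  refine congrArg permHom (Subtype.ext ?_)
  rw [Subgroup.coe_mul, Subgroup.coe_mul, hσ]
  exact (permOf_conj LeechFischer17.uP_good (LeechFischer17.syl_good hP) (LeechFischer17.syl_good hP) (h.2 P hP)).symm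

/-! ### The joint centralizer -/

variable {G : Type*} [Group G] [Finite G] {z : G}
  {Q : Subgroup (Subgroup.centralizer ({z} : Set G))} [Q.Normal]
  {e : (Subgroup.centralizer ({z} : Set G)) ⧸ Q ≃* Spor.Co1}
  {ψ : leechLattice → Q ⧸ Subgroup.center Q}

/-- The joint centralizer. -/
noncomputable def La (a : Q) : Subgroup G :=
  Subgroup.centralizer ({z} : Set G) ⊓
    Subgroup.centralizer ({((a : Subgroup.centralizer ({z} : Set G)) : G)} : Set G)

/-- Modulo `Q`. -/
noncomputable def fL (a : Q) : La a →* (Subgroup.centralizer ({z} : Set G)) ⧸ Q :=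
  (QuotientGroup.mk' Q).comp (Subgroup.inclusion inf_le_left)

variable {a : Q}

theorem fL_range : (fL a).range = Xa a := by
  ext x
  constructor
  · rintro ⟨l, rfl⟩
    exact ⟨Subgroup.inclusion inf_le_left l, l.2, rfl⟩
  · rintro ⟨c, hc, rfl⟩
    exact ⟨⟨(c : G), hc⟩, rfl⟩

theorem fL_ker (S : Setup Q e ψ) : ∃ j, Nat.card (fL a).ker = 2 ^ j := by
  haveI : Fact (Nat.Prime 2) := ⟨Nat.prime_two⟩
  refine IsPGroup.iff_card.mp fun x => ⟨2, Subtype.ext (Subtype.ext ?_)⟩
  have : (((x : La a) : G)) ∈ Q.map (Subgroup.centralizer ({z} : Set G)).subtype :=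
    ⟨_, (QuotientGroup.eq_one_iff _).mp x.2, rfl⟩
  exact S.lh.toExt.pow_four this

theorem exists_lift (S : Setup Q e ψ) (ha : ψ (frame none) = QuotientGroup.mk a)
    (haz : ((a : Subgroup.centralizer ({z} : Set G)) : G) ≠ 1 ∧
      ((a : Subgroup.centralizer ({z} : Set G)) : G) ≠ z) {t : Co0} (ht : t ∈ mono) :
    ∃ l : La a, fL a l = phi e t := by
  have : phi e t ∈ (fL a).range := by
    rw [fL_range]
    have h := (comap_Xa S ha haz).symm ▸ ht
    exact h
  exact this

theorem phi_ne_one {g : Co0} (hg : g ^ 3 = 1) (hg1 : g ≠ 1) : phi e g ≠ 1 := by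
  intro h
  have h1 : g ∈ (phi e).ker := h
  rw [ker_phi] at h1
  rcases center_eq h1 with h2 | h2
  · exact hg1 h2
  · rw [h2] at hg
    refine negAut_ne_one ?_
    have h5 : negAut * negAut = 1 := ext_frame fun i => by
      rw [mul_smul, negAut_smul, negAut_smul, neg_neg, one_smul]
    calc negAut = negAut * (negAut * negAut) := by rw [h5, mul_one]
      _ = negAut ^ 3 := by rw [pow_succ, pow_two, mul_assoc]
      _ = 1 := hg

/-- An element of order 3 lies over a conjugate of `u`, or is central in a Sylow 3-subgroup. -/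
theorem classify (S : Setup Q e ψ) (ha : ψ (frame none) = QuotientGroup.mk a)
    (haz : ((a : Subgroup.centralizer ({z} : Set G)) : G) ≠ 1 ∧
      ((a : Subgroup.centralizer ({z} : Set G)) : G) ≠ z) {y : La a} (hy : y ^ 3 = 1) (hy1 : y ≠ 1) :
    (∃ t ∈ mono, fL a y = phi e (t * LeechThompson17.uC * t⁻¹)) ∨
      ∃ P : Sylow 3 (La a), y ∈ P ∧ ∀ p ∈ P, p * y = y * p := by
  haveI : Fact (Nat.Prime 3) := ⟨Nat.prime_three⟩
  haveI := LeechOrder.finite_Co0
  have hoy : orderOf y = 3 := orderOf_eq_prime hy hy1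
  obtain ⟨P, hP⟩ := (IsPGroup.of_card (p := 3) (n := 1)
    (show Nat.card (Subgroup.zpowers y) = 3 ^ 1 by rw [Nat.card_zpowers, hoy, pow_one])).exists_le_sylow
  have hyP : y ∈ P := hP (Subgroup.mem_zpowers y)
  have hPcard : Nat.card P = 27 := by
    rw [P.card_eq_multiplicity]
    have := card_L S ha haz
    rw [show (Nat.card (La a)).factorization 3 = 3 from this]
    norm_num
  obtain ⟨j, hj⟩ := fL_ker S (a := a)
  let ι : P →* (Subgroup.centralizer ({z} : Set G)) ⧸ Q := (fL a).comp (P : Subgroup (La a)).subtype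
  have hιinj : Function.Injective ι := by
    rw [← MonoidHom.ker_eq_bot_iff, eq_bot_iff]
    intro p hp
    refine Subgroup.mem_bot.mpr (orderOf_eq_one_iff.mp ?_)
    have h1 : orderOf p ∣ 27 := hPcard ▸ orderOf_dvd_natCard p
    have h2 : orderOf p ∣ 2 ^ j := by
      rw [← Subgroup.orderOf_coe, ← hj,
        show (p : La a) = ((⟨(p : La a), hp⟩ : (fL a).ker) : La a) from rfl, Subgroup.orderOf_coe]
      exact orderOf_dvd_natCard _
    exact Nat.eq_one_of_dvd_coprimes (Nat.Coprime.pow 3 j (show Nat.Coprime 3 2 by norm_num))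
      (show orderOf p ∣ 3 ^ 3 from h1) h2
  have hιX : ι.range ≤ Xa a := by
    rintro _ ⟨p, rfl⟩
    rw [← fL_range]
    exact ⟨p, rfl⟩
  let κ : LeechFischer17.syl →* (Subgroup.centralizer ({z} : Set G)) ⧸ Q := (phi e).comp LeechFischer17.syl.subtype
  have hκinj : Function.Injective κ := by
    rw [← MonoidHom.ker_eq_bot_iff, eq_bot_iff]
    intro g hg
    refine Subgroup.mem_bot.mpr (Subtype.ext ?_)
    have h1 : (g : Co0) ∈ (phi e).ker := hg
    rw [ker_phi] at h1
    rcases center_eq h1 with h2 | h2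
    · exact h2
    · exfalso
      have h27 : (g : Co0) ^ 27 = 1 := by
        have := pow_card_eq_one' (G := LeechFischer17.syl) (x := g)
        rw [LeechFischer17.card_syl] at this
        exact congrArg Subtype.val this
      rw [h2] at h27
      have h5 : negAut ^ 2 = 1 := ext_frame fun i => by
        rw [pow_two, mul_smul, negAut_smul, negAut_smul, neg_neg, one_smul]
      exact negAut_ne_one (by rwa [show 27 = 2 * 13 + 1 from rfl, pow_succ, pow_mul, h5, one_pow, one_mul] at h27)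
  have hκX : κ.range ≤ Xa a := by
    rintro _ ⟨g, rfl⟩
    have := (comap_Xa S ha haz).symm ▸ LeechFischer17.syl_le_mono g.2
    exact this
  have hfac : (Nat.card (Xa a)).factorization 3 = 3 := by rw [card_Xa S ha haz, v_three]
  let A : Sylow 3 (Xa a) := Sylow.ofCard (ι.range.subgroupOf (Xa a)) (by
    rw [hfac, Nat.card_congr (Subgroup.subgroupOfEquivOfLe hιX).toEquiv,
      ← Nat.card_congr (MonoidHom.ofInjective hιinj).toEquiv]
    exact hPcard.trans (by norm_num))
  let B : Sylow 3 (Xa a) := Sylow.ofCard (κ.range.subgroupOf (Xa a)) (by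
    rw [hfac, Nat.card_congr (Subgroup.subgroupOfEquivOfLe hκX).toEquiv,
      ← Nat.card_congr (MonoidHom.ofInjective hκinj).toEquiv, LeechFischer17.card_syl]
    norm_num)
  obtain ⟨⟨x, hx⟩, hxAB⟩ := MulAction.exists_smul_eq (Xa a) A B
  obtain ⟨τ, rfl⟩ := phi_surjective e x
  have hτ : τ ∈ mono := by rw [← comap_Xa S ha haz]; exact hx
  have hAB : ∀ g : Xa a, g ∈ (B : Subgroup (Xa a)) ↔
      (⟨phi e τ, hx⟩ : Xa a)⁻¹ * g * ⟨phi e τ, hx⟩ ∈ (A : Subgroup (Xa a)) := by
    intro g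
    rw [← hxAB, Sylow.coe_subgroup_smul, Subgroup.mem_pointwise_smul_iff_inv_smul_mem, ← map_inv,
      MulAut.smul_def, MulAut.conj_apply, inv_inv]
  have fwd : ∀ p : P, ∃ g ∈ LeechFischer17.syl, phi e g = phi e τ * ι p * (phi e τ)⁻¹ := by
    intro p
    let w : Xa a := ⟨phi e τ * ι p * (phi e τ)⁻¹,
      (Xa a).mul_mem ((Xa a).mul_mem hx (hιX ⟨p, rfl⟩)) ((Xa a).inv_mem hx)⟩
    have hw : w ∈ (B : Subgroup (Xa a)) := by
      rw [hAB]
      refine ⟨p, ?_⟩
      show ι p = (phi e τ)⁻¹ * (phi e τ * ι p * (phi e τ)⁻¹) * phi e τ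
      group
    obtain ⟨g, hg⟩ : (w : (Subgroup.centralizer ({z} : Set G)) ⧸ Q) ∈ κ.range := hw
    exact ⟨g, g.2, hg⟩
  obtain ⟨g, hg, hgy⟩ := fwd ⟨y, hyP⟩
  have hιy : ι ⟨y, hyP⟩ = fL a y := rfl
  have hy' : fL a y = phi e (τ⁻¹ * g * τ) := by
    rw [map_mul, map_mul, map_inv, hgy, hιy]
    group
  rcases syl_cases hg with h1 | ⟨t, ht, ht'⟩ | ⟨t, ht, ht'⟩
  · exfalso
    rw [h1, mul_one, inv_mul_cancel, map_one, ← hιy, ← map_one ι] at hy'
    exact hy1 (congrArg Subtype.val (hιinj hy'))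
  · right
    -- the central element over `u`
    have hu : LeechFischer17.uC ∈ LeechFischer17.syl := LeechFischer17.uC_mem_syl
    obtain ⟨p₀, hp₀⟩ : ∃ p : P, phi e LeechFischer17.uC = phi e τ * ι p * (phi e τ)⁻¹ := by
      have h1 : (⟨phi e LeechFischer17.uC, hκX ⟨⟨_, hu⟩, rfl⟩⟩ : Xa a) ∈ (B : Subgroup (Xa a)) := ⟨⟨_, hu⟩, rfl⟩
      rw [hAB] at h1
      obtain ⟨p, hp⟩ := h1
      refine ⟨p, ?_⟩
      have hp' : ι p = (phi e τ)⁻¹ * phi e LeechFischer17.uC * phi e τ := hp
      rw [hp']; group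
    have hcen : ∀ p : P, p * p₀ = p₀ * p := by
      intro p
      obtain ⟨h, hh, hhp⟩ := fwd p
      refine hιinj ?_
      rw [map_mul, map_mul]
      have := congrArg (phi e) (syl_comm hh)
      rw [map_mul, map_mul, hhp, hp₀] at this
      refine mul_left_cancel (a := phi e τ) (mul_right_cancel (b := (phi e τ)⁻¹) ?_)
      calc phi e τ * (ι p * ι p₀) * (phi e τ)⁻¹
          = phi e τ * ι p * (phi e τ)⁻¹ * (phi e τ * ι p₀ * (phi e τ)⁻¹) := by group
        _ = _ := by rw [this]; group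
    have hp3 : p₀ ^ 3 = 1 := hιinj (by
      rw [map_pow, map_one, show ι p₀ = (phi e τ)⁻¹ * phi e LeechFischer17.uC * phi e τ by rw [hp₀]; group,
        ← map_inv, ← map_mul, ← map_mul, ← map_pow]
      have : (τ⁻¹ * LeechFischer17.uC * τ) ^ 3 = 1 := by
        conv_lhs => rw [show τ⁻¹ * LeechFischer17.uC * τ = τ⁻¹ * LeechFischer17.uC * τ⁻¹⁻¹ by rw [inv_inv]]
        rw [conj_pow, LeechFischer17.uC_pow, mul_one, mul_inv_cancel]
      rw [this, map_one])
    obtain ⟨l, hl⟩ := exists_lift S ha haz (mul_mem (mul_mem (inv_mem hτ) (inv_mem ht)) hτ)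
    set x₀ := l * (p₀ : La a) * l⁻¹ with hx₀
    have hfx : fL a x₀ = fL a y := by
      rw [hy', show g = t⁻¹ * LeechFischer17.uC * t by rw [← ht']; group, hx₀, map_mul, map_mul, map_inv, hl,
        show fL a (p₀ : La a) = ι p₀ from rfl,
        show ι p₀ = (phi e τ)⁻¹ * phi e LeechFischer17.uC * phi e τ by rw [hp₀]; group]
      simp only [map_mul, map_inv]
      group
    have hx3 : x₀ ^ 3 = 1 := by
      rw [hx₀, conj_pow, show (p₀ : La a) ^ 3 = 1 from congrArg Subtype.val hp3, mul_one, mul_inv_cancel]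
    have hne : fL a x₀ ≠ 1 := by
      rw [hfx, ← hιy, ← map_one ι]
      exact fun h => hy1 (congrArg Subtype.val (hιinj h))
    obtain ⟨k, -, hk⟩ := exists_conj_of_map_eq (fL a) (fL_ker S) hx3 hy hne hfx
    have hyc : y = k⁻¹ * l * (p₀ : La a) * (k⁻¹ * l)⁻¹ := by
      calc y = k⁻¹ * (k * y * k⁻¹) * k := by group
        _ = _ := by rw [hk, hx₀]; group
    refine ⟨(k⁻¹ * l) • P, ?_, fun q hq => ?_⟩
    · rw [hyc, ← SetLike.mem_coe, ← Sylow.coe_coe, Sylow.coe_subgroup_smul]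
      exact Subgroup.smul_mem_pointwise_smul _ (MulAut.conj (k⁻¹ * l)) _ p₀.2
    · rw [← SetLike.mem_coe, ← Sylow.coe_coe, Sylow.coe_subgroup_smul, SetLike.mem_coe,
        Subgroup.mem_pointwise_smul_iff_inv_smul_mem, ← map_inv, MulAut.smul_def, MulAut.conj_apply, inv_inv] at hq
      have h := congrArg Subtype.val (hcen ⟨_, hq⟩)
      rw [Subgroup.coe_mul, Subgroup.coe_mul] at h
      rw [hyc]
      calc q * (k⁻¹ * l * (p₀ : La a) * (k⁻¹ * l)⁻¹)
          = k⁻¹ * l * ((k⁻¹ * l)⁻¹ * q * (k⁻¹ * l) * (p₀ : La a)) * (k⁻¹ * l)⁻¹ := by group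
        _ = k⁻¹ * l * ((p₀ : La a) * ((k⁻¹ * l)⁻¹ * q * (k⁻¹ * l))) * (k⁻¹ * l)⁻¹ := by rw [h]
        _ = _ := by group
  · left
    refine ⟨τ⁻¹ * t⁻¹, mul_mem (inv_mem hτ) (inv_mem ht), ?_⟩
    rw [hy', ← ht']
    exact congrArg (phi e) (by group)

end Cfsg.Agent.MonsterThompson17
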