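import Mathlib
import Cfsg.Prelude.Def_Characters
import Cfsg.Prelude.Def_Blocks
import Cfsg.Agent.Lib.CharBasic
import Cfsg.Agent.Lib.CharBasicOrth
import Cfsg.Agent.Lib.CharBasicDecomp
import Cfsg.Agent.Lib.CharBasicLinear
import Cfsg.Agent.Lib.CharBasicInt
import Cfsg.Agent.Lib.CharAverage
import Cfsg.Agent.Lib.CoprimeAction
import Cfsg.Agent.Lib.CoprimeGen

/-!
Groups with `χ (x y) = χ x χ y` on pairs of elements of prime power orders for different primes
(helper56): the nonlinear characters then live on a single prime.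
-/

set_option autoImplicit false

namespace Cfsg.Agent.MultCharPairs56

open scoped ComplexConjugate commutatorElement Pointwise
open Cfsg.Agent.CharBasic Cfsg.Agent.CharBasicOrth Cfsg.Agent.CharAverage

universe u

variable {G : Type u} [Group G] [Finite G]

/-- The hypothesis on all irreducible characters. -/
def Mult (G : Type u) [Group G] : Prop :=
  ∀ (x y : G) (χ : Cfsg.IrrCharacter G), x ≠ 1 → y ≠ 1 →
    (∃ p q a b : ℕ, p.Prime ∧ q.Prime ∧ p ≠ q ∧ orderOf x = p ^ a ∧ orderOf y = q ^ b) →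
    (χ : G → ℂ) (x * y) = (χ : G → ℂ) x * (χ : G → ℂ) y

/-- `χ` is nonzero at some nontrivial `r`-element. -/
def Live (χ : Cfsg.IrrCharacter G) (r : ℕ) : Prop :=
  ∃ (x : G) (k : ℕ), x ≠ 1 ∧ orderOf x = r ^ k ∧ (χ : G → ℂ) x ≠ 0

theorem card_centralizer_eq (g : G) :
    (Nat.card (Subgroup.centralizer ({g} : Set G)) : ℝ) = ((commutator G).index : ℝ) +
      ∑ χ ∈ Finset.univ.filter (fun χ : Cfsg.IrrCharacter G => (χ : G → ℂ) 1 ≠ 1),
        Complex.normSq ((χ : G → ℂ) g) := by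
  classical
  have h1 := sum_irr_mul_conj g g
  rw [if_pos (IsConj.refl g)] at h1
  have h2 : ∑ χ : Cfsg.IrrCharacter G, Complex.normSq ((χ : G → ℂ) g) =
      (Nat.card (Subgroup.centralizer ({g} : Set G)) : ℝ) := by
    apply Complex.ofReal_injective
    rw [Complex.ofReal_natCast, ← h1, Complex.ofReal_sum]
    exact Finset.sum_congr rfl fun χ _ => (Complex.mul_conj _).symm
  rw [← h2, ← Finset.sum_filter_add_sum_filter_not Finset.univ
    (fun χ : Cfsg.IrrCharacter G => (χ : G → ℂ) 1 = 1)]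
  congr 1
  rw [Finset.sum_congr rfl (g := fun _ => (1 : ℝ)) fun χ hχ => ?_, Finset.sum_const, nsmul_one,
    ← CharBasicLinear.card_linear (G := G), Nat.card_eq_fintype_card, Fintype.card_subtype]
  obtain ⟨lam, hlam⟩ := CharBasicLinear.exists_hom_of_apply_one_eq_one (irr_isCharacter χ)
    (Finset.mem_filter.1 hχ).2
  rw [hlam, Complex.normSq_eq_norm_sq]
  simp only [CharBasicDecomp.norm_linear, one_pow]

theorem index_le_centralizer (g : G) :
    (commutator G).index ≤ Nat.card (Subgroup.centralizer ({g} : Set G)) := by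
  have h := card_centralizer_eq g
  have : (0 : ℝ) ≤ ∑ χ ∈ Finset.univ.filter (fun χ : Cfsg.IrrCharacter G => (χ : G → ℂ) 1 ≠ 1),
      Complex.normSq ((χ : G → ℂ) g) := Finset.sum_nonneg fun _ _ => Complex.normSq_nonneg _
  exact_mod_cast (by linarith : ((commutator G).index : ℝ) ≤
    (Nat.card (Subgroup.centralizer ({g} : Set G)) : ℝ))

theorem centralizer_eq_of_vanish {g : G}
    (h : ∀ χ : Cfsg.IrrCharacter G, (χ : G → ℂ) 1 ≠ 1 → (χ : G → ℂ) g = 0) :
    Nat.card (Subgroup.centralizer ({g} : Set G)) = (commutator G).index := by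
  have h1 := card_centralizer_eq g
  rw [Finset.sum_eq_zero (fun χ hχ => by rw [h χ (Finset.mem_filter.1 hχ).2, map_zero]),
    add_zero] at h1
  exact_mod_cast h1

theorem vanish_of_centralizer_le {g : G}
    (h : Nat.card (Subgroup.centralizer ({g} : Set G)) ≤ (commutator G).index)
    (χ : Cfsg.IrrCharacter G) (hχ : (χ : G → ℂ) 1 ≠ 1) : (χ : G → ℂ) g = 0 := by
  have h1 := card_centralizer_eq g
  rw [le_antisymm h (index_le_centralizer g)] at h1
  have h2 := (Finset.sum_eq_zero_iff_of_nonneg fun (χ : Cfsg.IrrCharacter G) _ =>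
    Complex.normSq_nonneg ((χ : G → ℂ) g)).1 (by linarith :
      ∑ χ ∈ Finset.univ.filter (fun χ : Cfsg.IrrCharacter G => (χ : G → ℂ) 1 ≠ 1),
        Complex.normSq ((χ : G → ℂ) g) = 0)
  exact Complex.normSq_eq_zero.1 (h2 χ (Finset.mem_filter.2 ⟨Finset.mem_univ _, hχ⟩))

theorem degree_sq_lt_card (χ : Cfsg.IrrCharacter G) (hχ : (χ : G → ℂ) 1 ≠ 1) :
    Cfsg.charDegree (χ : G → ℂ) ^ 2 < Nat.card G := by
  have h1 := card_centralizer_eq (1 : G)
  have hc : Nat.card (Subgroup.centralizer ({1} : Set G)) = Nat.card G := by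
    rw [Subgroup.centralizer_eq_top_iff_subset.2 (by simp), Subgroup.card_top]
  rw [hc] at h1
  have h2 : Complex.normSq ((χ : G → ℂ) 1) ≤
      ∑ ψ ∈ Finset.univ.filter (fun ψ : Cfsg.IrrCharacter G => (ψ : G → ℂ) 1 ≠ 1),
        Complex.normSq ((ψ : G → ℂ) 1) :=
    Finset.single_le_sum (f := fun ψ : Cfsg.IrrCharacter G => Complex.normSq ((ψ : G → ℂ) 1))
      (fun _ _ => Complex.normSq_nonneg _) (Finset.mem_filter.2 ⟨Finset.mem_univ _, hχ⟩)
  rw [irr_apply_one χ, Complex.normSq_natCast] at h2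
  have h3 : 0 < ((commutator G).index : ℝ) := by
    exact_mod_cast Nat.pos_of_ne_zero Subgroup.index_ne_zero_of_finite
  have h4 : ((Cfsg.charDegree (χ : G → ℂ) ^ 2 : ℕ) : ℝ) < (Nat.card G : ℝ) := by
    push_cast
    nlinarith
  exact_mod_cast h4

theorem mul_eq_zero_of_mult (hM : Mult G) (χ : Cfsg.IrrCharacter G) (hχ : (χ : G → ℂ) 1 ≠ 1)
    {x y : G} (hx : x ≠ 1) (hy : y ≠ 1) {p q a b : ℕ} (hp : p.Prime) (hq : q.Prime) (hpq : p ≠ q)
    (hxo : orderOf x = p ^ a) (hyo : orderOf y = q ^ b) :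
    (χ : G → ℂ) x * (χ : G → ℂ) y = 0 := by
  have := Fintype.ofFinite G
  have h1 := sum_conj_mul χ x y
  have hterm : ∀ c : G, (χ : G → ℂ) (c * x * c⁻¹ * y) = (χ : G → ℂ) x * (χ : G → ℂ) y := by
    intro c
    rw [hM (c * x * c⁻¹) y χ (by simpa using hx) hy ⟨p, q, a, b, hp, hq, hpq, ?_, hyo⟩,
      irr_conj_apply]
    rw [← hxo]
    exact orderOf_injective (MulAut.conj c).toMonoidHom (MulAut.conj c).injective x
  simp only [hterm, Finset.sum_const, Finset.card_univ, nsmul_eq_mul,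
    ← Nat.card_eq_fintype_card] at h1
  have hG : (Nat.card G : ℂ) ≠ 0 := Nat.cast_ne_zero.2 Nat.card_pos.ne'
  have h0 := irr_one_ne_zero χ
  rw [eq_div_iff h0] at h1
  have : (Nat.card G : ℂ) * ((χ : G → ℂ) x * (χ : G → ℂ) y) * ((χ : G → ℂ) 1 - 1) = 0 := by
    linear_combination h1
  rcases mul_eq_zero.1 this with h2 | h2
  · exact (mul_eq_zero.1 h2).resolve_left hG
  · exact absurd (sub_eq_zero.1 h2) hχ

theorem live_unique (hM : Mult G) (χ : Cfsg.IrrCharacter G) (hχ : (χ : G → ℂ) 1 ≠ 1) {r s : ℕ}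
    (hr : r.Prime) (hs : s.Prime) (h1 : Live χ r) (h2 : Live χ s) : r = s := by
  by_contra hne
  obtain ⟨x, a, hx, hxo, hxv⟩ := h1
  obtain ⟨y, b, hy, hyo, hyv⟩ := h2
  exact mul_ne_zero hxv hyv (mul_eq_zero_of_mult hM χ hχ hx hy hr hs hne hxo hyo)

theorem pow_dvd_degree {r : ℕ} (hr : r.Prime) (χ : Cfsg.IrrCharacter G) (h : ¬ Live χ r) :
    r ^ (Nat.card G).factorization r ∣ Cfsg.charDegree (χ : G → ℂ) := by
  classical
  have := Fact.mk hr
  obtain ⟨R⟩ := (inferInstance : Nonempty (Sylow r G))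
  have := Fintype.ofFinite (R : Subgroup G)
  rw [← R.card_eq_multiplicity]
  obtain ⟨m, hm⟩ := classInner_isCharacter
    (isCharacter_comap (R : Subgroup G).subtype (irr_isCharacter χ))
    (CharBasicDecomp.isCharacter_one (G := (R : Subgroup G)))
  rw [Cfsg.classInner, Finset.sum_eq_single 1 ?_ (by simp)] at hm
  · refine ⟨m, ?_⟩
    have hR : (Nat.card (R : Subgroup G) : ℂ) ≠ 0 := Nat.cast_ne_zero.2 Nat.card_pos.ne'
    simp only [Function.comp_apply, map_one, mul_one, irr_apply_one χ] at hm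
    rw [inv_mul_eq_iff_eq_mul₀ hR] at hm
    exact_mod_cast hm
  · intro x _ hx
    obtain ⟨k, hk⟩ := R.isPGroup' x
    obtain ⟨j, _, hj⟩ := (Nat.dvd_prime_pow hr).1 (orderOf_dvd_of_pow_eq_one hk)
    have : (χ : G → ℂ) (x : G) = 0 := by
      by_contra hne
      exact h ⟨x, j, fun e => hx (Subtype.ext e), by rw [Subgroup.orderOf_coe, hj], hne⟩
    simp [this]

theorem lt_of_live (hM : Mult G) (χ : Cfsg.IrrCharacter G) (hχ : (χ : G → ℂ) 1 ≠ 1) {p : ℕ}
    (hp : p.Prime) (hl : Live χ p) :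
    Nat.card G / p ^ (Nat.card G).factorization p < p ^ (Nat.card G).factorization p := by
  set n := Nat.card G with hn
  set C := n / p ^ n.factorization p with hC
  have hn0 : n ≠ 0 := Nat.card_pos.ne'
  have hdvd : C ∣ Cfsg.charDegree (χ : G → ℂ) := by
    refine (Nat.dvd_iff_prime_pow_dvd_dvd _ _).mpr fun s k hs hd => ?_
    rcases Nat.eq_zero_or_pos k with rfl | hk
    · simp
    have hne : s ≠ p := fun e => by
      subst e
      exact Nat.not_dvd_ordCompl hs hn0 ((dvd_pow_self s hk.ne').trans hd)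
    refine dvd_trans ?_ (pow_dvd_degree hs χ fun hls => hne (live_unique hM χ hχ hs hp hls hl))
    exact Nat.pow_dvd_pow s ((hs.pow_dvd_iff_le_factorization hn0).1
      (hd.trans (Nat.ordCompl_dvd n p)))
  have h2 := Nat.le_of_dvd (irr_degree_pos χ) hdvd
  have h3 := degree_sq_lt_card χ hχ
  have h4 : p ^ n.factorization p * C = n := Nat.ordProj_mul_ordCompl_eq_self n p
  rw [← hn, ← h4] at h3
  by_contra h5
  push Not at h5
  nlinarith [Nat.mul_le_mul h2 h2, Nat.mul_le_mul_right C h5]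

theorem live_same (hM : Mult G) {χ ψ : Cfsg.IrrCharacter G} (hχ : (χ : G → ℂ) 1 ≠ 1)
    (hψ : (ψ : G → ℂ) 1 ≠ 1) {p r : ℕ} (hp : p.Prime) (hr : r.Prime) (hlp : Live χ p)
    (hlr : Live ψ r) : p = r := by
  by_contra hne
  have h1 := lt_of_live hM χ hχ hp hlp
  have h2 := lt_of_live hM ψ hψ hr hlr
  set n := Nat.card G
  have hn0 : n ≠ 0 := Nat.card_pos.ne'
  have key : ∀ a b : ℕ, a.Prime → b.Prime → a ≠ b →
      b ^ n.factorization b ≤ n / a ^ n.factorization a := by
    intro a b ha hb hab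
    refine Nat.le_of_dvd (Nat.ordCompl_pos a hn0) ?_
    refine (Nat.Coprime.pow (n.factorization b) (n.factorization a) ((Nat.coprime_primes hb ha).2 (Ne.symm hab))).dvd_of_dvd_mul_left ?_
    rw [Nat.ordProj_mul_ordCompl_eq_self n a]
    exact Nat.ordProj_dvd n b
  have h3 := key p r hp hr hne
  have h4 := key r p hr hp (Ne.symm hne)
  omega

theorem exists_live {r : ℕ} (hr : r.Prime) (hdvd : r ∣ Nat.card (commutator G)) :
    ∃ χ : Cfsg.IrrCharacter G, (χ : G → ℂ) 1 ≠ 1 ∧ Live χ r := by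
  by_contra hcon
  push Not at hcon
  have := Fact.mk hr
  obtain ⟨R⟩ := (inferInstance : Nonempty (Sylow r G))
  have hR1 : (R : Subgroup G) ≠ ⊥ :=
    R.ne_bot_of_dvd_card (hdvd.trans (Subgroup.card_subgroup_dvd_card _))
  have : Nontrivial (R : Subgroup G) := (Subgroup.nontrivial_iff_ne_bot _).2 hR1
  have := R.isPGroup'.center_nontrivial
  obtain ⟨z, hz⟩ := exists_ne (1 : Subgroup.center (R : Subgroup G))
  obtain ⟨k, hk⟩ := R.isPGroup' (z : (R : Subgroup G))
  obtain ⟨j, _, hj⟩ := (Nat.dvd_prime_pow hr).1 (orderOf_dvd_of_pow_eq_one hk)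
  have hcard := centralizer_eq_of_vanish (g := ((z : (R : Subgroup G)) : G)) fun χ hχ => by
    by_contra hne
    refine hcon χ hχ ⟨_, j, ?_, by rw [Subgroup.orderOf_coe, hj], hne⟩
    exact fun e => hz (Subtype.ext (Subtype.ext e))
  have hle : (R : Subgroup G) ≤ Subgroup.centralizer ({((z : (R : Subgroup G)) : G)} : Set G) :=
    fun x hx => Subgroup.mem_centralizer_singleton_iff.2
      (congrArg Subtype.val (Subgroup.mem_center_iff.1 z.2 ⟨x, hx⟩))
  have h1 := Subgroup.card_dvd_of_le hle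
  rw [hcard, R.card_eq_multiplicity] at h1
  have h2 : r ^ ((Nat.card G).factorization r + 1) ∣ Nat.card G := by
    rw [← Subgroup.card_mul_index (commutator G), pow_succ', Subgroup.card_mul_index]
    conv_rhs => rw [← Subgroup.card_mul_index (commutator G)]
    exact Nat.mul_dvd_mul hdvd h1
  exact Nat.pow_succ_factorization_not_dvd Nat.card_pos.ne' hr h2

/-- There is a prime `p` carrying the derived group and all the live characters. -/
theorem exists_prime (hM : Mult G) (hna : ¬ IsMulCommutative G) :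
    ∃ p : ℕ, p.Prime ∧ IsPGroup p (commutator G) ∧
      ∀ s : ℕ, s.Prime → s ≠ p → ∀ x : G, x ≠ 1 → ∀ k, orderOf x = s ^ k →
        Nat.card (Subgroup.centralizer ({x} : Set G)) = (commutator G).index := by
  have hne : commutator G ≠ ⊥ := fun h => hna ⟨⟨fun a b => by
    rw [← commutatorElement_eq_one_iff_mul_comm, ← Subgroup.mem_bot, ← h, commutator_def]
    exact Subgroup.commutator_mem_commutator (Subgroup.mem_top a) (Subgroup.mem_top b)⟩⟩
  obtain ⟨p, hp, hpd⟩ := Nat.exists_prime_and_dvd (n := Nat.card (commutator G))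
    (fun h => hne (Subgroup.card_eq_one.1 h))
  obtain ⟨χ, hχ, hlχ⟩ := exists_live hp hpd
  refine ⟨p, hp, IsPGroup.of_card (n := (Nat.card (commutator G)).primeFactorsList.length)
    (Nat.eq_prime_pow_of_unique_prime_dvd Nat.card_pos.ne' fun {d} hd hdd => ?_), ?_⟩
  · obtain ⟨ψ, hψ, hlψ⟩ := exists_live hd hdd
    exact (live_same hM hχ hψ hp hd hlχ hlψ).symm
  · intro s hs hsp x hx k hk
    refine centralizer_eq_of_vanish fun ψ hψ => ?_
    by_contra hne
    exact hsp (live_same hM hχ hψ hp hs hlχ ⟨x, k, hx, hk, hne⟩).symm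

theorem card_of_factorisation {P A : Subgroup G} (hPn : P.Normal) (hd : P ⊓ A = ⊥)
    (hs : A ⊔ P = ⊤) {W : Subgroup G} (hA : A ≤ W) :
    Nat.card W = Nat.card (P ⊓ W : Subgroup G) * Nat.card A := by
  have := hPn
  let f : (P ⊓ W : Subgroup G) × A → W := fun x => ⟨x.1.1 * x.2.1, mul_mem x.1.2.2 (hA x.2.2)⟩
  rw [← Nat.card_prod]
  refine (Nat.card_congr (Equiv.ofBijective f ⟨?_, ?_⟩)).symm
  · rintro ⟨⟨x, hx⟩, ⟨a, ha⟩⟩ ⟨⟨x', hx'⟩, ⟨a', ha'⟩⟩ h
    have h' : x * a = x' * a' := congrArg Subtype.val h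
    have h2 : x'⁻¹ * x = a' * a⁻¹ := by
      rw [eq_mul_inv_iff_mul_eq, mul_assoc, h', inv_mul_cancel_left]
    have h3 : x'⁻¹ * x ∈ P ⊓ A := Subgroup.mem_inf.2 ⟨mul_mem (inv_mem (Subgroup.mem_inf.1 hx').1) (Subgroup.mem_inf.1 hx).1, by
      show x'⁻¹ * x ∈ A
      rw [h2]; exact mul_mem ha' (inv_mem ha)⟩
    rw [hd, Subgroup.mem_bot, inv_mul_eq_one] at h3
    subst h3
    simp only [mul_right_inj] at h'
    subst h'
    rfl
  · intro w
    have hw : (w : G) ∈ P ⊔ A := by rw [sup_comm, hs]; exact Subgroup.mem_top _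
    obtain ⟨x, hx, a, ha, hxa⟩ := Subgroup.mem_sup_of_normal_left.1 hw
    have hxW : x ∈ W := by
      rw [show x = (w : G) * a⁻¹ by rw [← hxa, mul_inv_cancel_right]]
      exact mul_mem w.2 (inv_mem (hA ha))
    exact ⟨⟨⟨x, hx, hxW⟩, ⟨a, ha⟩⟩, Subtype.ext hxa⟩

theorem forward (hM : Mult G) (hna : ¬ IsMulCommutative G)
    (hnp : ¬ ∃ p : ℕ, p.Prime ∧ IsPGroup p G) :
    ∃ (p : ℕ) (_ : Fact p.Prime) (P : Sylow p G) (A : Subgroup G), (P : Subgroup G).Normal ∧
      IsCyclic ↥A ∧ A ≠ ⊥ ∧ (Nat.card ↥A).Coprime p ∧ A ⊔ (P : Subgroup G) = ⊤ ∧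
      IsMulCommutative ↥((P : Subgroup G) ⊓ Subgroup.centralizer (A : Set G)) ∧
      (⁅A, (P : Subgroup G)⁆).Normal ∧
      ((P : Subgroup G) ⊓ Subgroup.centralizer (A : Set G)) ⊔ ⁅A, (P : Subgroup G)⁆ = (P : Subgroup G) ∧
      ((P : Subgroup G) ⊓ Subgroup.centralizer (A : Set G)) ⊓ ⁅A, (P : Subgroup G)⁆ = ⊥ ∧
      ∀ a ∈ A, a ≠ 1 → ∀ d ∈ ⁅A, (P : Subgroup G)⁆, a * d = d * a → d = 1 := by
  obtain ⟨p, hp, hGp, hvan⟩ := exists_prime hM hna
  have := Fact.mk hp
  obtain ⟨P⟩ := (inferInstance : Nonempty (Sylow p G))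
  have hGP : commutator G ≤ (P : Subgroup G) := by
    obtain ⟨Q, hQ⟩ := hGp.exists_le_sylow
    obtain ⟨g, hg⟩ := MulAction.exists_smul_eq G Q P
    rw [← hg]
    intro x hx
    have h1 : g⁻¹ * x * g ∈ Q := hQ (by
      have := (inferInstance : (commutator G).Normal).conj_mem x hx g⁻¹
      simpa using this)
    show x ∈ MulAut.conj g • (Q : Subgroup G)
    rw [Subgroup.mem_pointwise_smul_iff_inv_smul_mem]
    show (MulAut.conj g)⁻¹ • x ∈ Q
    simpa [MulAut.smul_def, mul_assoc] using h1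
  have hPn : (P : Subgroup G).Normal := ⟨fun x hx g => by
    have h1 : g * x * g⁻¹ * x⁻¹ ∈ (P : Subgroup G) := hGP (by
      rw [commutator_def]
      exact Subgroup.commutator_mem_commutator (Subgroup.mem_top g) (Subgroup.mem_top x))
    simpa using mul_mem h1 hx⟩
  have hcopP : (Nat.card (P : Subgroup G)).Coprime (P : Subgroup G).index :=
    P.card_coprime_index
  obtain ⟨A, hA⟩ := Subgroup.exists_right_complement'_of_coprime hcopP
  have hd : (P : Subgroup G) ⊓ A = ⊥ := hA.disjoint.eq_bot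
  have hs : A ⊔ (P : Subgroup G) = ⊤ := by rw [sup_comm]; exact hA.sup_eq_top
  have hAidx : Nat.card A = (P : Subgroup G).index := (Subgroup.IsComplement'.index_eq_card hA.symm).symm
  have hAp : (Nat.card A).Coprime p := by
    rw [hAidx, Nat.coprime_comm, hp.coprime_iff_not_dvd]
    exact P.not_dvd_index
  have hAc : ∀ a ∈ A, ∀ b ∈ A, a * b = b * a := by
    intro a ha b hb
    rw [← commutatorElement_eq_one_iff_mul_comm, ← Subgroup.mem_bot, ← hd]
    refine Subgroup.mem_inf.2 ⟨hGP ?_, mul_mem (mul_mem (mul_mem ha hb) (inv_mem ha)) (inv_mem hb)⟩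
    rw [commutator_def]
    exact Subgroup.commutator_mem_commutator (Subgroup.mem_top a) (Subgroup.mem_top b)
  have hA1 : A ≠ ⊥ := fun h => hnp ⟨p, hp, P.isPGroup'.of_surjective (P : Subgroup G).subtype
    fun x => ⟨⟨x, by
      have : (P : Subgroup G) = ⊤ := by rw [← hs, h, bot_sup_eq]
      rw [this]; exact Subgroup.mem_top x⟩, rfl⟩⟩
  set C := (P : Subgroup G) ⊓ Subgroup.centralizer (A : Set G) with hC
  set D := ⁅A, (P : Subgroup G)⁆ with hD
  have hDG : D ≤ commutator G := by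
    rw [commutator_def]; exact Subgroup.commutator_mono le_top le_top
  have hAP : A ≤ Subgroup.normalizer ((P : Subgroup G) : Set G) := by
    rw [Subgroup.normalizer_eq_top_iff.2 hPn]; exact le_top
  have hcopAP : (Nat.card A).Coprime (Nat.card (P : Subgroup G)) := by
    rw [hAidx]; exact hcopP.symm
  have hCD : C ⊔ D = (P : Subgroup G) := by
    have hsolA : Group.IsSolvable A :=
      Group.isSolvable_of_comm (G := A) fun a b => Subtype.ext (hAc a a.2 b b.2)
    have h1 := CoprimeAction.commutator_sup_centralizer_eq hAP hcopAP (Or.inl hsolA)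
    rw [sup_comm, hD, Subgroup.commutator_comm]
    exact h1
  have hcent : ∀ a ∈ A, (orderOf a).Prime →
      Nat.card ((P : Subgroup G) ⊓ Subgroup.centralizer ({a} : Set G) : Subgroup G) *
        Nat.card (commutator G) = Nat.card (P : Subgroup G) := by
    intro a ha hap
    have hne : orderOf a ≠ p := fun e => by
      have h1 : p ∣ Nat.card A := e ▸ Subgroup.orderOf_dvd_natCard _ ha
      exact hp.one_lt.ne' (Nat.eq_one_of_dvd_coprimes hAp h1 dvd_rfl)
    have h1 := hvan _ hap hne a (fun e => hap.ne_one (by rw [e, orderOf_one])) 1 (pow_one _).symm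
    rw [card_of_factorisation hPn hd hs (fun b hb =>
      Subgroup.mem_centralizer_singleton_iff.2 (hAc b hb a ha))] at h1
    apply Nat.eq_of_mul_eq_mul_right (Nat.card_pos (α := A))
    rw [mul_right_comm, h1, mul_comm _ (Nat.card (commutator G)), Subgroup.card_mul_index, mul_comm]
    exact (Subgroup.IsComplement'.card_mul hA.symm).symm
  have hcle : ∀ a ∈ A, C ≤ (P : Subgroup G) ⊓ Subgroup.centralizer ({a} : Set G) := fun a ha x hx =>
    ⟨hx.1, Subgroup.mem_centralizer_singleton_iff.2 (hx.2 a ha).symm⟩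
  obtain ⟨a₀, ha₀, ha₀p⟩ : ∃ a ∈ A, (orderOf a).Prime := by
    obtain ⟨q, hq, hqd⟩ := Nat.exists_prime_and_dvd (n := Nat.card A)
      (fun h => hA1 (Subgroup.card_eq_one.1 h))
    have := Fact.mk hq
    obtain ⟨b, hb⟩ := exists_prime_orderOf_dvd_card' q hqd
    exact ⟨b, b.2, by rw [Subgroup.orderOf_coe, hb]; exact hq⟩
  -- orders of `C` and `D`
  have hDn' : (D.subgroupOf (P : Subgroup G)).Normal := by
    have h1 : (P : Subgroup G) ≤ Subgroup.normalizer (D : Set G) :=
      Subgroup.normalizer_commutator_ge_right A (P : Subgroup G)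
    exact Subgroup.normal_subgroupOf_of_le_normalizer h1
  have hcardP : Nat.card (P : Subgroup G) * Nat.card (C ⊓ D : Subgroup G) = Nat.card C * Nat.card D := by
    have h1 : D ≤ (P : Subgroup G) := hCD ▸ le_sup_right
    have h2 : D.relIndex (P : Subgroup G) = D.relIndex C := by
      have h3 := Subgroup.relIndex_sup_right (C.subgroupOf (P : Subgroup G))
        (D.subgroupOf (P : Subgroup G))
      rwa [← Subgroup.subgroupOf_sup (hCD ▸ le_sup_left) h1, hCD,
        Subgroup.relIndex_subgroupOf le_rfl, Subgroup.relIndex_subgroupOf (hCD ▸ le_sup_left)] at h3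
    have h4 : Nat.card D * D.relIndex (P : Subgroup G) = Nat.card (P : Subgroup G) := by
      rw [← Subgroup.card_mul_index (D.subgroupOf (P : Subgroup G)),
        Nat.card_congr (Subgroup.subgroupOfEquivOfLe h1).toEquiv]
      rfl
    have h5 : Nat.card (C ⊓ D : Subgroup G) * D.relIndex C = Nat.card C := by
      rw [← Subgroup.inf_relIndex_left, ← Subgroup.card_mul_index ((C ⊓ D).subgroupOf C),
        Nat.card_congr (Subgroup.subgroupOfEquivOfLe (inf_le_left : C ⊓ D ≤ C)).toEquiv]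
      rfl
    rw [← h4, ← h5, h2]; ring
  have key : ∀ a ∈ A, (orderOf a).Prime →
      (P : Subgroup G) ⊓ Subgroup.centralizer ({a} : Set G) = C ∧ C ⊓ D = ⊥ ∧ D = commutator G := by
    intro a ha hap
    have h1 := hcent a ha hap
    have h2 := Subgroup.card_le_of_le (hcle a ha)
    have h3 := Subgroup.card_le_of_le hDG
    have h4 : Nat.card C * Nat.card D ≤ Nat.card C * Nat.card (commutator G) :=
      Nat.mul_le_mul_left _ h3
    have h5 : Nat.card C * Nat.card (commutator G) ≤ Nat.card (P : Subgroup G) :=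
      h1 ▸ Nat.mul_le_mul_right _ h2
    have hpos : 0 < Nat.card (C ⊓ D : Subgroup G) := Nat.card_pos
    have hP : 0 < Nat.card (P : Subgroup G) := Nat.card_pos
    have h6 : Nat.card (C ⊓ D : Subgroup G) = 1 := by nlinarith
    rw [h6, mul_one] at hcardP
    have h7 : Nat.card C * Nat.card (commutator G) = Nat.card (P : Subgroup G) := by omega
    refine ⟨(Subgroup.eq_of_le_of_card_ge (hcle a ha) (le_of_eq ?_)).symm,
      Subgroup.card_eq_one.1 h6, Subgroup.eq_of_le_of_card_ge hDG (le_of_eq ?_)⟩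
    · exact Nat.eq_of_mul_eq_mul_right Nat.card_pos (h1.trans h7.symm)
    · exact Nat.eq_of_mul_eq_mul_left Nat.card_pos (h7.trans hcardP)
  obtain ⟨-, hCDbot, hDeq⟩ := key a₀ ha₀ ha₀p
  have hDP : D ≤ (P : Subgroup G) := hCD ▸ le_sup_right
  have hfpf : ∀ a ∈ A, a ≠ 1 → ∀ d ∈ D, a * d = d * a → d = 1 := by
    intro a ha ha1 d hd' hcomm
    obtain ⟨q, hq, hqd⟩ := Nat.exists_prime_and_dvd (n := orderOf a)
      (fun h => ha1 (orderOf_eq_one_iff.1 h))
    have ho : orderOf (a ^ (orderOf a / q)) = q :=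
      orderOf_pow_orderOf_div (orderOf_pos a).ne' hqd
    have h1 := (key _ (pow_mem ha _) (by rw [ho]; exact hq)).1
    have h2 : d ∈ C := h1 ▸ ⟨hDP hd', Subgroup.mem_centralizer_singleton_iff.2
      (((show Commute a d from hcomm).pow_left _).eq).symm⟩
    rw [← Subgroup.mem_bot, ← hCDbot]
    exact ⟨h2, hd'⟩
  have hAm : IsMulCommutative A := ⟨⟨fun a b => Subtype.ext (hAc a a.2 b b.2)⟩⟩
  have hcyc : IsCyclic A := by
    by_contra hcyc
    have hne : D ≠ ⊥ := fun h => hna ⟨⟨fun a b => by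
      rw [← commutatorElement_eq_one_iff_mul_comm, ← Subgroup.mem_bot, ← h, hDeq, commutator_def]
      exact Subgroup.commutator_mem_commutator (Subgroup.mem_top a) (Subgroup.mem_top b)⟩⟩
    refine hne (eq_bot_iff.2 (CoprimeGen.le_of_centralizers (A := A) hcyc ?_ ?_ ?_))
    · exact Subgroup.normalizer_commutator_ge_left A (P : Subgroup G)
    · exact hcopAP.coprime_dvd_right (Subgroup.card_dvd_of_le hDP)
    · intro a ha ha1 d hd'
      rw [Subgroup.mem_bot]
      exact hfpf a ha ha1 d hd'.1 (Subgroup.mem_centralizer_singleton_iff.1 hd'.2).symm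
  refine ⟨p, ⟨hp⟩, P, A, hPn, hcyc, hA1, hAp, hs, ⟨⟨fun x y => Subtype.ext ?_⟩⟩, ?_, hCD, hCDbot, hfpf⟩
  · show (x : G) * y = y * x
    rw [← commutatorElement_eq_one_iff_mul_comm, ← Subgroup.mem_bot, ← hCDbot]
    refine Subgroup.mem_inf.2 ⟨mul_mem (mul_mem (mul_mem x.2 y.2) (inv_mem x.2)) (inv_mem y.2), ?_⟩
    rw [hDeq, commutator_def]
    exact Subgroup.commutator_mem_commutator (Subgroup.mem_top _) (Subgroup.mem_top _)
  · rw [show ⁅A, (P : Subgroup G)⁆ = commutator G from hDeq]; infer_instance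

theorem linear_mul {χ : Cfsg.IrrCharacter G} (hχ : (χ : G → ℂ) 1 = 1) (x y : G) :
    (χ : G → ℂ) (x * y) = (χ : G → ℂ) x * (χ : G → ℂ) y := by
  obtain ⟨lam, hlam⟩ := CharBasicLinear.exists_hom_of_apply_one_eq_one (irr_isCharacter χ) hχ
  simp only [hlam, map_mul, Units.val_mul]

theorem eq_of_orderOf {p q b : ℕ} (hp : p.Prime) (hq : q.Prime) {y : G} (hy : y ≠ 1)
    (hyo : orderOf y = q ^ b) {H : Subgroup G} (hH : IsPGroup p H) (hyH : y ∈ H) : q = p := by
  obtain ⟨k, hk⟩ := hH ⟨y, hyH⟩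
  have h1 : orderOf y ∣ p ^ k := orderOf_dvd_of_pow_eq_one (congrArg Subtype.val hk)
  rw [hyo] at h1
  rcases Nat.eq_zero_or_pos b with rfl | hb
  · exact absurd (orderOf_eq_one_iff.1 (by rw [hyo, pow_zero])) hy
  · exact (Nat.prime_dvd_prime_iff_eq hq hp).1 (hq.dvd_of_dvd_pow ((dvd_pow_self q hb.ne').trans h1))

theorem backward (p : ℕ) [Fact p.Prime] (P : Sylow p G) (A : Subgroup G)
    (hPn : (P : Subgroup G).Normal) (hcyc : IsCyclic ↥A) (hAp : (Nat.card ↥A).Coprime p)
    (hs : A ⊔ (P : Subgroup G) = ⊤)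
    (hCc : IsMulCommutative ↥((P : Subgroup G) ⊓ Subgroup.centralizer (A : Set G)))
    (hDn : (⁅A, (P : Subgroup G)⁆).Normal)
    (hCD : ((P : Subgroup G) ⊓ Subgroup.centralizer (A : Set G)) ⊔ ⁅A, (P : Subgroup G)⁆ = (P : Subgroup G))
    (hbot : ((P : Subgroup G) ⊓ Subgroup.centralizer (A : Set G)) ⊓ ⁅A, (P : Subgroup G)⁆ = ⊥)
    (hfpf : ∀ a ∈ A, a ≠ 1 → ∀ d ∈ ⁅A, (P : Subgroup G)⁆, a * d = d * a → d = 1) : Mult G := by
  have hp : p.Prime := Fact.out
  set C := (P : Subgroup G) ⊓ Subgroup.centralizer (A : Set G) with hC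
  set D := ⁅A, (P : Subgroup G)⁆ with hD
  have := hDn
  have hd : (P : Subgroup G) ⊓ A = ⊥ := by
    rw [eq_bot_iff]
    rintro x ⟨hx, hxA⟩
    rw [Subgroup.mem_bot, ← orderOf_eq_one_iff]
    obtain ⟨k, hk⟩ := P.isPGroup' ⟨x, hx⟩
    exact Nat.eq_one_of_dvd_coprimes (hAp.pow_right k) (Subgroup.orderOf_dvd_natCard _ hxA)
      (orderOf_dvd_of_pow_eq_one (congrArg Subtype.val hk))
  obtain ⟨a₁, ha₁⟩ := hcyc.exists_generator
  have hAc : ∀ a ∈ A, ∀ b ∈ A, a * b = b * a := fun a ha b hb => by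
    obtain ⟨i, hi⟩ := ha₁ ⟨a, ha⟩
    obtain ⟨j, hj⟩ := ha₁ ⟨b, hb⟩
    have e1 : (a₁ : G) ^ i = a := congrArg Subtype.val hi
    have e2 : (a₁ : G) ^ j = b := congrArg Subtype.val hj
    rw [← e1, ← e2, ← zpow_add, ← zpow_add, add_comm]
  -- `G' ≤ D`
  have hGD : commutator G ≤ D := by
    have key : (⊤ : Subgroup G).map (QuotientGroup.mk' D) ≤
        (A ⊔ C).map (QuotientGroup.mk' D) := by
      rw [← hs, ← hCD, ← sup_assoc, Subgroup.map_sup, show D.map (QuotientGroup.mk' D) = ⊥ from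
        (Subgroup.map_eq_bot_iff _).2 (QuotientGroup.ker_mk' D).ge, sup_bot_eq]
    have hcomm : ∀ u ∈ A ⊔ C, ∀ v ∈ A ⊔ C, u * v = v * u := by
      have h1 : A ⊔ C ≤ Subgroup.centralizer ((A ⊔ C : Subgroup G) : Set G) := by
        refine sup_le ?_ ?_ <;> rw [← Subgroup.le_centralizer_iff] <;> refine sup_le ?_ ?_
        · exact fun a ha b hb => hAc b hb a ha
        · exact fun c hc a ha => hc.2 a ha
        · exact fun a ha c hc => (hc.2 a ha).symm
        · exact fun c hc c' hc' => congrArg Subtype.val (hCc.is_comm.comm ⟨c', hc'⟩ ⟨c, hc⟩)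
      exact fun u hu v hv => (h1 hv u hu)
    rw [commutator_def, Subgroup.commutator_le]
    intro g _ h _
    obtain ⟨u, hu, hug⟩ := key ⟨g, Subgroup.mem_top g, rfl⟩
    obtain ⟨v, hv, hvh⟩ := key ⟨h, Subgroup.mem_top h, rfl⟩
    rw [← QuotientGroup.ker_mk' D, MonoidHom.mem_ker, map_commutatorElement, ← hug, ← hvh,
      ← map_commutatorElement, commutatorElement_eq_one_iff_mul_comm.2 (hcomm u hu v hv), map_one]
  have hDP : D ≤ (P : Subgroup G) := hCD ▸ le_sup_right
  have hidx : Nat.card C * Nat.card A ≤ (commutator G).index := by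
    refine le_trans ?_ (Nat.le_of_dvd (Nat.pos_of_ne_zero Subgroup.index_ne_zero_of_finite)
      (Subgroup.index_dvd_of_le hGD))
    let f : C × A → G ⧸ D := fun x => QuotientGroup.mk ((x.1 : G) * (x.2 : G))
    rw [Subgroup.index_eq_card, ← Nat.card_prod]
    refine Nat.card_le_card_of_injective f ?_
    rintro ⟨⟨c, hc⟩, ⟨a, ha⟩⟩ ⟨⟨c', hc'⟩, ⟨a', ha'⟩⟩ h
    have h1 : (c * a)⁻¹ * (c' * a') ∈ D := QuotientGroup.eq.1 h
    have hca : c * a = a * c := (hc.2 a ha).symm
    have h2 : a⁻¹ * a' ∈ (P : Subgroup G) := by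
      have h3 : (c * a)⁻¹ * (c' * a') = c⁻¹ * c' * (a⁻¹ * a') := by
        have hc2 : Commute a⁻¹ (c⁻¹ * c') :=
          ((show Commute a c from hca.symm).inv_right.mul_right (hc'.2 a ha)).inv_left
        rw [show (c * a)⁻¹ * (c' * a') = a⁻¹ * (c⁻¹ * c') * a' by group, hc2.eq]; group
      have h4 := hDP h1
      rw [h3] at h4
      simpa [mul_assoc] using mul_mem (mul_mem (inv_mem (Subgroup.mem_inf.1 hc').1) (Subgroup.mem_inf.1 hc).1) h4
    have h5 : a⁻¹ * a' ∈ (P : Subgroup G) ⊓ A := Subgroup.mem_inf.2 ⟨h2, mul_mem (inv_mem ha) ha'⟩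
    rw [hd, Subgroup.mem_bot, inv_mul_eq_one] at h5
    subst h5
    have h6 : c⁻¹ * c' ∈ C ⊓ D := by
      refine Subgroup.mem_inf.2 ⟨mul_mem (inv_mem hc) hc', ?_⟩
      have h7 := hDn.conj_mem _ h1 a
      have h8 : a * ((c * a)⁻¹ * (c' * a)) * a⁻¹ = c⁻¹ * c' := by group
      rwa [h8] at h7
    rw [hbot, Subgroup.mem_bot, inv_mul_eq_one] at h6
    subst h6
    rfl
  have hvanish : ∀ g : G, g ∉ (P : Subgroup G) → ∀ χ : Cfsg.IrrCharacter G,
      (χ : G → ℂ) 1 ≠ 1 → (χ : G → ℂ) g = 0 := by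
    intro g hg χ hχ
    refine vanish_of_centralizer_le ?_ χ hχ
    -- an element of prime order `q ≠ p` among the powers of `g`
    obtain ⟨q, hq, hqp, hqd⟩ : ∃ q : ℕ, q.Prime ∧ q ≠ p ∧ q ∣ orderOf g := by
      by_contra hcon
      push Not at hcon
      apply hg
      have h1 : IsPGroup p (Subgroup.zpowers g) :=
        IsPGroup.of_card (n := (orderOf g).primeFactorsList.length) (by
          rw [Nat.card_zpowers]
          refine Nat.eq_prime_pow_of_unique_prime_dvd (orderOf_pos g).ne' fun {d} hd' hdd => ?_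
          by_contra hne
          exact hcon d hd' hne hdd)
      obtain ⟨Q, hQ⟩ := h1.exists_le_sylow
      have : Subsingleton (Sylow p G) := by
        have := Sylow.unique_of_normal P hPn
        infer_instance
      rw [Subsingleton.elim Q P] at hQ
      exact hQ (Subgroup.mem_zpowers g)
    have := Fact.mk hq
    set g' := g ^ (orderOf g / q) with hg'
    have ho : orderOf g' = q := orderOf_pow_orderOf_div (orderOf_pos g).ne' hqd
    refine le_trans (Subgroup.card_le_of_le fun x hx => ?_ :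
      _ ≤ Nat.card (Subgroup.centralizer ({g'} : Set G))) ?_
    · rw [Subgroup.mem_centralizer_singleton_iff] at hx ⊢
      exact (show Commute x g from hx).pow_right _
    -- conjugate it into `A`
    obtain ⟨Q, hQ⟩ := (show IsPGroup q (Subgroup.zpowers g') from
      IsPGroup.of_card (n := 1) (by rw [Nat.card_zpowers, ho, pow_one])).exists_le_sylow
    obtain ⟨S⟩ := (inferInstance : Nonempty (Sylow q A))
    have hcompl : Subgroup.IsComplement' (P : Subgroup G) A :=
      Subgroup.isComplement'_of_disjoint_and_mul_eq_univ (disjoint_iff.2 hd) (by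
        rw [← Subgroup.normal_mul, sup_comm, hs]; rfl)
    have hScard : Nat.card ((S : Subgroup A).map A.subtype) = q ^ (Nat.card G).factorization q := by
      rw [Subgroup.card_map_of_injective A.subtype_injective, S.card_eq_multiplicity,
        ← hcompl.card_mul, Nat.factorization_mul Nat.card_pos.ne' Nat.card_pos.ne']
      congr 1
      obtain ⟨k, hk⟩ := IsPGroup.iff_card.1 P.isPGroup'
      rw [Finsupp.add_apply, hk, Nat.Prime.factorization_pow hp, Finsupp.single_eq_of_ne hqp,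
        zero_add]
    obtain ⟨c, hc⟩ := MulAction.exists_smul_eq G Q (Sylow.ofCard _ hScard)
    have hgA : c * g' * c⁻¹ ∈ A := by
      have h1 : MulAut.conj c • g' ∈ MulAut.conj c • (Q : Subgroup G) :=
        Subgroup.smul_mem_pointwise_smul _ _ _ (hQ (Subgroup.mem_zpowers g'))
      rw [← Sylow.coe_subgroup_smul, hc, Sylow.coe_ofCard] at h1
      exact Subgroup.map_subtype_le _ h1
    set a := c * g' * c⁻¹
    have ha1 : a ≠ 1 := by
      intro e
      have : g' = 1 := by simpa [a] using e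
      rw [this, orderOf_one] at ho
      exact hq.ne_one ho.symm
    have hcard : Nat.card (Subgroup.centralizer ({g'} : Set G)) =
        Nat.card (Subgroup.centralizer ({a} : Set G)) := by
      have h1 : Subgroup.centralizer ({a} : Set G) =
          (Subgroup.centralizer ({g'} : Set G)).map (MulAut.conj c).toMonoidHom := by
        ext x
        rw [Subgroup.mem_map_equiv, Subgroup.mem_centralizer_singleton_iff,
          Subgroup.mem_centralizer_singleton_iff]
        simp only [a, MulAut.conj_symm_apply]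
        constructor
        · intro h
          calc c⁻¹ * x * c * g' = c⁻¹ * (x * (c * g' * c⁻¹)) * c := by group
            _ = c⁻¹ * (c * g' * c⁻¹ * x) * c := by rw [h]
            _ = g' * (c⁻¹ * x * c) := by group
        · intro h
          calc x * (c * g' * c⁻¹) = c * (c⁻¹ * x * c * g') * c⁻¹ := by group
            _ = c * (g' * (c⁻¹ * x * c)) * c⁻¹ := by rw [h]
            _ = c * g' * c⁻¹ * x := by group
      rw [h1, Subgroup.card_map_of_injective (MulAut.conj c).injective]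
    rw [hcard, card_of_factorisation hPn hd hs
      (fun b hb => Subgroup.mem_centralizer_singleton_iff.2 (hAc b hb a hgA))]
    refine le_trans (Nat.mul_le_mul_right _ (Subgroup.card_le_of_le fun x hx => ?_)) hidx
    have hxP : x ∈ C ⊔ D := by rw [hCD]; exact hx.1
    obtain ⟨u, hu, d, hd', rfl⟩ := Subgroup.mem_sup_of_normal_right.1 hxP
    have hdc : a * d = d * a := by
      have h1 := Subgroup.mem_centralizer_singleton_iff.1 hx.2
      have h2 : Commute a u := (hu.2 a hgA)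
      calc a * d = u⁻¹ * (a * (u * d)) := by rw [← mul_assoc a, h2.eq]; group
        _ = u⁻¹ * (u * d * a) := by rw [h1]
        _ = d * a := by group
    rw [hfpf a hgA ha1 d hd' hdc, mul_one]
    exact hu
  intro x y χ hx hy ⟨r, s, i, j, hr, hsP, hrs, hxo, hyo⟩
  by_cases hχ : (χ : G → ℂ) 1 = 1
  · exact linear_mul hχ x y
  by_cases hxP : x ∈ (P : Subgroup G)
  · by_cases hyP : y ∈ (P : Subgroup G)
    · exact absurd ((eq_of_orderOf hp hr hx hxo P.isPGroup' hxP).trans
        (eq_of_orderOf hp hsP hy hyo P.isPGroup' hyP).symm) hrs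
    · rw [hvanish (x * y) (fun h => hyP (by simpa using mul_mem (inv_mem hxP) h)) χ hχ,
        hvanish y hyP χ hχ, mul_zero]
  · rw [hvanish x hxP χ hχ, zero_mul]
    refine hvanish (x * y) (fun h => hxP ?_) χ hχ
    have h1 : (QuotientGroup.mk' (P : Subgroup G) x) * QuotientGroup.mk' (P : Subgroup G) y = 1 := by
      rw [← map_mul, QuotientGroup.mk'_apply, QuotientGroup.eq_one_iff]; exact h
    have h2 := orderOf_map_dvd (QuotientGroup.mk' (P : Subgroup G)) x
    have h3 := orderOf_map_dvd (QuotientGroup.mk' (P : Subgroup G)) y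
    rw [eq_inv_of_mul_eq_one_left h1, orderOf_inv, hxo] at h2
    rw [hyo] at h3
    have h4 := Nat.eq_one_of_dvd_coprimes (Nat.Coprime.pow i j ((Nat.coprime_primes hr hsP).2 hrs)) h2 h3
    rw [orderOf_eq_one_iff] at h4
    rw [h4, mul_one] at h1
    exact (QuotientGroup.eq_one_iff x).1 h1

theorem main : Mult G ↔ ((∃ p : ℕ, p.Prime ∧ IsPGroup p G) ∨ IsMulCommutative G ∨
    ∃ (p : ℕ) (_ : Fact p.Prime) (P : Sylow p G) (A : Subgroup G), (P : Subgroup G).Normal ∧
      IsCyclic ↥A ∧ A ≠ ⊥ ∧ (Nat.card ↥A).Coprime p ∧ A ⊔ (P : Subgroup G) = ⊤ ∧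
      IsMulCommutative ↥((P : Subgroup G) ⊓ Subgroup.centralizer (A : Set G)) ∧
      (⁅A, (P : Subgroup G)⁆).Normal ∧
      ((P : Subgroup G) ⊓ Subgroup.centralizer (A : Set G)) ⊔ ⁅A, (P : Subgroup G)⁆ = (P : Subgroup G) ∧
      ((P : Subgroup G) ⊓ Subgroup.centralizer (A : Set G)) ⊓ ⁅A, (P : Subgroup G)⁆ = ⊥ ∧
      ∀ a ∈ A, a ≠ 1 → ∀ d ∈ ⁅A, (P : Subgroup G)⁆, a * d = d * a → d = 1) := by
  constructor
  · intro h
    by_cases h1 : ∃ p : ℕ, p.Prime ∧ IsPGroup p G
    · exact Or.inl h1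
    by_cases h2 : IsMulCommutative G
    · exact Or.inr (Or.inl h2)
    exact Or.inr (Or.inr (forward h h2 h1))
  · rintro (⟨p, hp, hG⟩ | hG | ⟨p, hF, P, A, hPn, hcyc, -, hAp, hs, hCc, hDn, hCD, hbot, hfpf⟩)
    · intro x y χ hx hy ⟨r, s, i, j, hr, hs, hrs, hxo, hyo⟩
      exact absurd ((eq_of_orderOf hp hr hx hxo (hG.to_subgroup ⊤) (Subgroup.mem_top x)).trans
        (eq_of_orderOf hp hs hy hyo (hG.to_subgroup ⊤) (Subgroup.mem_top y)).symm) hrs
    · intro x y χ _ _ _
      exact linear_mul (CharBasicLinear.apply_one_eq_one_of_comm hG.is_comm.comm χ.2) x y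
    · exact backward p P A hPn hcyc hAp hs hCc hDn hCD hbot hfpf

end Cfsg.Agent.MultCharPairs56
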