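import Mathlib
import Cfsg.Prelude.Def_KGroupFacts

/-!
A finite group has trivial multiplier when every central extension of it with kernel closed
under square roots has a section.
-/

set_option autoImplicit false
set_option linter.style.haveILetI false

namespace Cfsg.Agent.MultiplierDivisible41

open Subgroup
open scoped commutatorElement

theorem comm_left {Q : Type*} [Group Q] {c : Q} (hc : ∀ g, g * c = c * g) (a b : Q) :
    ⁅c * a, b⁆ = ⁅a, b⁆ := by
  rw [commutatorElement_def, commutatorElement_def]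
  calc c * a * b * (c * a)⁻¹ * b⁻¹ = c * (a * b * a⁻¹) * c⁻¹ * b⁻¹ := by group
    _ = a * b * a⁻¹ * c * c⁻¹ * b⁻¹ := by rw [← hc]
    _ = a * b * a⁻¹ * b⁻¹ := by group

theorem ker_eq_bot {G : Type} [Group G]
    (h : ∀ (P : Type) [Group P] (π : P →* G), Function.Surjective π → π.ker ≤ center P →
      (∀ z ∈ π.ker, ∃ w ∈ π.ker, w * w = z) → ∃ φ : G →* P, ∀ k, π (φ k) = k)
    {Γ : Type} [Group Γ] [Finite Γ] (σ : Γ →* G) (hσ : Cfsg.IsStemExtension σ) : σ.ker = ⊥ := by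
  classical
  letI : CommGroup σ.ker :=
    { (inferInstance : Group σ.ker) with
      mul_comm := fun a b => Subtype.ext (mem_center_iff.1 (hσ.2.1 b.2) a) }
  rw [Subgroup.eq_bot_iff_forall]
  intro z hz
  by_contra hne
  haveI : NeZero (Monoid.exponent σ.ker) := ⟨Monoid.exponent_ne_zero_of_finite⟩
  obtain ⟨χ, hχ⟩ := CommGroup.exists_apply_ne_one_of_hasEnoughRootsOfUnity σ.ker ℂ
    (a := (⟨z, hz⟩ : σ.ker)) (fun e => hne (congrArg Subtype.val e))
  let ι : σ.ker →* Γ × ℂˣ := (σ.ker.subtype).prod χ⁻¹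
  have hcent : ι.range ≤ center (Γ × ℂˣ) := by
    rintro _ ⟨w, rfl⟩
    rw [Subgroup.mem_center_iff]
    intro q
    exact Prod.ext (mem_center_iff.1 (hσ.2.1 w.2) q.1) (mul_comm _ _)
  haveI : ι.range.Normal := ⟨fun a ha g => by
    rw [mem_center_iff.1 (hcent ha) g, mul_inv_cancel_right]; exact ha⟩
  let π : (Γ × ℂˣ) ⧸ ι.range →* G :=
    QuotientGroup.lift ι.range (σ.comp (MonoidHom.fst _ _)) (by rintro _ ⟨w, rfl⟩; exact w.2)
  have hker : ∀ q ∈ π.ker, ∃ c : ℂˣ, q = QuotientGroup.mk (1, c) := by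
    intro q hq
    obtain ⟨⟨g, c⟩, rfl⟩ := QuotientGroup.mk_surjective q
    have hg : σ g = 1 := hq
    refine ⟨χ ⟨g, hg⟩ * c, (QuotientGroup.eq).2 ⟨(⟨g, hg⟩ : σ.ker)⁻¹, ?_⟩⟩
    refine Prod.ext ?_ ?_
    · simp [ι]
    · simp [ι, mul_comm, mul_left_comm]
  have hc : π.ker ≤ center _ := by
    intro q hq
    obtain ⟨c, rfl⟩ := hker q hq
    rw [mem_center_iff]
    intro r
    obtain ⟨⟨g, d⟩, rfl⟩ := QuotientGroup.mk_surjective r
    rw [← QuotientGroup.mk_mul, ← QuotientGroup.mk_mul]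
    simp [mul_comm]
  obtain ⟨φ, hφ⟩ := h _ π (fun k => (hσ.1 k).elim fun g hg => ⟨QuotientGroup.mk (g, 1), hg⟩) hc
    (fun q hq => by
      obtain ⟨c, rfl⟩ := hker q hq
      obtain ⟨d, hd⟩ := IsAlgClosed.exists_pow_nat_eq (c : ℂ) (n := 2) (by norm_num)
      have hd0 : d ≠ 0 := fun e => c.ne_zero (by rw [← hd, e]; simp)
      refine ⟨QuotientGroup.mk (1, Units.mk0 d hd0), map_one σ, ?_⟩
      rw [← QuotientGroup.mk_mul]
      congr 1
      exact Prod.ext (mul_one 1) (Units.ext (by simpa [pow_two] using hd)))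
  have hcomm : commutator ((Γ × ℂˣ) ⧸ ι.range) ≤ φ.range := by
    rw [_root_.commutator_def, Subgroup.commutator_le]
    intro x _ y _
    have key : ∀ p, ∃ c ∈ π.ker, p = c * φ (π p) := fun p =>
      ⟨p * (φ (π p))⁻¹, by rw [MonoidHom.mem_ker, map_mul, map_inv, hφ, mul_inv_cancel],
        by rw [inv_mul_cancel_right]⟩
    obtain ⟨c, hc1, hx⟩ := key x
    obtain ⟨d, hd1, hy⟩ := key y
    have hc' := mem_center_iff.1 (hc hc1)
    have hd' := mem_center_iff.1 (hc hd1)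
    refine ⟨⁅π x, π y⁆, ?_⟩
    rw [map_commutatorElement]
    conv_rhs => rw [hx, hy]
    rw [comm_left hc', ← commutatorElement_inv (d * φ (π y)), comm_left hd', commutatorElement_inv]
  have hmem : ((QuotientGroup.mk (z, 1)) : (Γ × ℂˣ) ⧸ ι.range) ∈ commutator _ := by
    have := Subgroup.mem_map_of_mem
      ((QuotientGroup.mk' ι.range).comp (MonoidHom.inl Γ ℂˣ)) (hσ.2.2 hz)
    rw [_root_.commutator_def, Subgroup.map_commutator] at this
    rw [_root_.commutator_def]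
    exact Subgroup.commutator_mono le_top le_top this
  obtain ⟨k, hk⟩ := hcomm hmem
  have hk1 : k = 1 := by
    rw [← hφ k, hk]
    exact MonoidHom.mem_ker.1 hz
  rw [hk1, map_one] at hk
  obtain ⟨w, hw⟩ := (QuotientGroup.eq_one_iff _).1 hk.symm
  obtain ⟨h1, h2⟩ := Prod.mk.injEq _ _ _ _ ▸ hw
  apply hχ
  have hwz : w = ⟨z, hz⟩ := Subtype.ext h1
  rw [← hwz]
  exact inv_eq_one.1 h2

/-- The criterion. -/
theorem trivial_of_sections {G : Type} [Group G] [Finite G]
    (h : ∀ (P : Type) [Group P] (π : P →* G), Function.Surjective π → π.ker ≤ center P →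
      (∀ z ∈ π.ker, ∃ w ∈ π.ker, w * w = z) → ∃ φ : G →* P, ∀ k, π (φ k) = k) :
    Cfsg.HasCyclicSchurMultiplier G 1 := by
  constructor
  · refine ⟨G, inferInstance, inferInstance, MonoidHom.id G, ⟨fun x => ⟨x, rfl⟩, ?_, ?_⟩, ?_⟩
    · rw [MonoidHom.ker_id]; exact bot_le
    · rw [MonoidHom.ker_id]; exact bot_le
    · haveI : Subsingleton (MonoidHom.id G).ker := by rw [MonoidHom.ker_id]; infer_instance
      haveI : Unique (MonoidHom.id G).ker := uniqueOfSubsingleton 1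
      haveI : Unique (Multiplicative (ZMod 1)) := uniqueOfSubsingleton 1
      exact ⟨MulEquiv.ofUnique⟩
  · intro Γ _ _ σ hσ
    haveI : Subsingleton σ.ker := by rw [ker_eq_bot h σ hσ]; infer_instance
    exact ⟨1, fun x => ⟨1, Subsingleton.elim _ _⟩⟩

end Cfsg.Agent.MultiplierDivisible41
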