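import Cfsg.Agent.Lib.MultiplierSuzWords46

/-!
Lifts of the generators of the presented group Suz to a central extension: which relators hold
exactly after normalisation.
-/

set_option autoImplicit false
set_option maxRecDepth 100000
set_option synthInstance.maxSize 2000
set_option linter.style.haveILetI false

namespace Cfsg.Agent.MultiplierSuzBase46

open Cfsg.Agent.CosetCertCore Cfsg.Agent.CosetCertTable Cfsg.Agent.CosetCertPres Cfsg.Agent.CosetCertOrder
open Cfsg.Agent.CosetCertSuzSimple (good invol)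

/-! ### Central extensions -/

section

variable {P : Type} [Group P] {π : P →* PS.Grp} (hc : π.ker ≤ Subgroup.center P)
include hc

theorem cen {z : P} (hz : π z = 1) (g : P) : g * z = z * g := Subgroup.mem_center_iff.1 (hc hz) g

theorem commute_eq {x y y' : P} (h : Commute x y) (e : π y = π y') : Commute x y' := by
  obtain ⟨z, hz, rfl⟩ : ∃ z, π z = 1 ∧ y' = y * z :=
    ⟨y⁻¹ * y', by rw [map_mul, map_inv, e, inv_mul_cancel], by group⟩
  exact h.mul_right (cen hc hz x)

theorem commute_conj {x y k : P} (h : Commute x y) (hk : Commute (π k) (π x)) :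
    Commute x (k⁻¹ * y * k) := by
  obtain ⟨z, hz, e⟩ : ∃ z, π z = 1 ∧ k * x * k⁻¹ = x * z :=
    ⟨x⁻¹ * (k * x * k⁻¹), by simp only [map_mul, map_inv]; rw [hk.eq]; group, by group⟩
  show x * (k⁻¹ * y * k) = k⁻¹ * y * k * x
  calc x * (k⁻¹ * y * k) = k⁻¹ * (k * x * k⁻¹) * y * k := by group
    _ = k⁻¹ * (x * (z * y)) * k := by rw [e]; group
    _ = k⁻¹ * (x * y * z) * k := by rw [← cen hc hz y]; group
    _ = k⁻¹ * (y * x * z) * k := by rw [h.eq]
    _ = k⁻¹ * y * (k * x * k⁻¹) * k := by rw [e]; group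
    _ = k⁻¹ * y * k * x := by group

/-- An involution commuting modulo the kernel with two involutions commutes with the square of
their product. -/
theorem commute_sq {x p q : P} (hp : p * p = 1) (hq : q * q = 1)
    (h1 : Commute (π x) (π p)) (h2 : Commute (π x) (π q)) : Commute x ((p * q) ^ 2) := by
  have key : ∀ r : P, r * r = 1 → Commute (π x) (π r) →
      ∃ s, π s = 1 ∧ s * s = 1 ∧ x * r * x⁻¹ = r * s := by
    intro r hr hxr
    have hs : π (r⁻¹ * (x * r * x⁻¹)) = 1 := by
      simp only [map_mul, map_inv]; rw [hxr.eq]; group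
    refine ⟨r⁻¹ * (x * r * x⁻¹), hs, ?_, by group⟩
    have e : r * (r⁻¹ * (x * r * x⁻¹)) * (r * (r⁻¹ * (x * r * x⁻¹))) = 1 := by
      rw [mul_inv_cancel_left]
      calc x * r * x⁻¹ * (x * r * x⁻¹) = x * (r * r) * x⁻¹ := by group
        _ = 1 := by rw [hr]; group
    generalize r⁻¹ * (x * r * x⁻¹) = s at hs e ⊢
    calc s * s = r * r * (s * s) := by rw [hr, one_mul]
      _ = r * (r * s) * s := by group
      _ = r * (s * r) * s := by rw [cen hc hs r]
      _ = 1 := by rw [← e]; group
  obtain ⟨s, hs, hs2, es⟩ := key p hp h1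
  obtain ⟨t, ht, ht2, et⟩ := key q hq h2
  have h3 : x * (p * q) * x⁻¹ = p * q * (s * t) := by
    calc x * (p * q) * x⁻¹ = x * p * x⁻¹ * (x * q * x⁻¹) := by group
      _ = p * (s * q) * t := by rw [es, et]; group
      _ = p * (q * s) * t := by rw [cen hc hs q]
      _ = p * q * (s * t) := by group
  have hst : π (s * t) = 1 := by rw [map_mul, hs, ht, one_mul]
  have hst2 : s * t * (s * t) = 1 := by
    calc s * t * (s * t) = s * (t * s) * t := by group
      _ = s * s * (t * t) := by rw [← cen hc ht s]; group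
      _ = 1 := by rw [hs2, ht2, one_mul]
  show x * (p * q) ^ 2 = (p * q) ^ 2 * x
  rw [pow_two]
  generalize p * q = m at h3 ⊢
  generalize s * t = n at h3 hst hst2
  calc x * (m * m) = x * m * x⁻¹ * (x * m * x⁻¹) * x := by group
    _ = m * (n * m) * n * x := by rw [h3]; group
    _ = m * (m * n) * n * x := by rw [cen hc hst m]
    _ = m * m * (n * n) * x := by group
    _ = m * m * x := by rw [hst2, mul_one]

/-- An involution above a generator which is joined to `u` by an odd edge. -/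
theorem exists_next {u : P} {x y k : Nat} (hu : π u = PS.gg x) (hu2 : u * u = 1)
    (hs : Function.Surjective π) (h : (PS.gg x * PS.gg y) ^ (2 * k + 1) = 1) :
    ∃ u', π u' = PS.gg y ∧ u' * u' = 1 ∧ (u * u') ^ (2 * k + 1) = 1 := by
  obtain ⟨v, hv⟩ := hs (PS.gg y)
  set u' := (u * v) ^ k * u * ((u * v) ^ k)⁻¹ with hdef
  have flip : ∀ (G : Type) [Group G] (a b : G), a * a = 1 → b * b = 1 →
      (a * b) ^ (2 * k + 1) = 1 → (a * b) ^ k * a * ((a * b) ^ k)⁻¹ = b := by
    intro G _ a b ha hb hab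
    have hconj : a * (a * b) * a⁻¹ = (a * b)⁻¹ := by
      rw [mul_inv_rev, inv_eq_of_mul_eq_one_right hb, inv_eq_of_mul_eq_one_right ha,
        ← mul_assoc a a b, ha, one_mul]
    have hk : a * ((a * b) ^ k)⁻¹ = (a * b) ^ k * a := by
      have := (conj_pow : (a * (a * b) * a⁻¹) ^ k = _)
      rw [hconj, inv_pow] at this
      rw [this, inv_eq_of_mul_eq_one_right ha, ← mul_assoc, ← mul_assoc, ha, one_mul]
    calc (a * b) ^ k * a * ((a * b) ^ k)⁻¹ = (a * b) ^ k * ((a * b) ^ k * a) := by rw [mul_assoc, hk]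
      _ = (a * b) ^ (2 * k + 1) * (a * b)⁻¹ * a := by rw [pow_succ, two_mul, pow_add]; group
      _ = b := by rw [hab, one_mul, mul_inv_rev, mul_assoc, inv_mul_cancel, mul_one,
          inv_eq_of_mul_eq_one_right hb]
  have hπ : π u' = PS.gg y := by
    simp only [hdef, map_mul, map_inv, map_pow, hu, hv]
    exact flip _ _ _ (invol x) (invol y) h
  have hsq : u' * u' = 1 := by
    calc u' * u' = (u * v) ^ k * (u * u) * ((u * v) ^ k)⁻¹ := by rw [hdef]; group
      _ = 1 := by rw [hu2]; group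
  refine ⟨u', hπ, hsq, ?_⟩
  obtain ⟨z, hz, hvz⟩ : ∃ z, π z = 1 ∧ v = u' * z :=
    ⟨u'⁻¹ * v, by rw [map_mul, map_inv, hπ, hv, inv_mul_cancel], by group⟩
  have hzc : ∀ g, Commute g z := fun g => cen hc hz g
  have key : u' = (u * u') ^ k * u * ((u * u') ^ k)⁻¹ := by
    conv_lhs => rw [hdef, hvz, ← mul_assoc, (hzc (u * u')).mul_pow]
    rw [mul_assoc ((u * u') ^ k) (z ^ k) u, ((hzc u).pow_right k).symm.eq]
    group
  have hu' : u'⁻¹ = u' := inv_eq_of_mul_eq_one_right hsq
  have hi : u⁻¹ = u := inv_eq_of_mul_eq_one_right hu2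
  generalize hX : u * u' = X at key ⊢
  have hXe : u' = u * X := by rw [← hX, ← mul_assoc, hu2, one_mul]
  have hconj : u * X * u⁻¹ = X⁻¹ := by
    rw [← hX, mul_inv_rev, hu', hi, ← mul_assoc, hu2, one_mul]
  have hk : u * (X ^ k)⁻¹ = X ^ k * u := by
    have := (conj_pow : (u * X * u⁻¹) ^ k = _)
    rw [hconj, inv_pow] at this
    rw [this, hi, ← mul_assoc, ← mul_assoc, hu2, one_mul]
  have : u' = X ^ (2 * k) * u := by
    calc u' = X ^ k * (u * (X ^ k)⁻¹) := by rw [← mul_assoc]; exact key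
      _ = X ^ k * (X ^ k * u) := by rw [hk]
      _ = X ^ (2 * k) * u := by rw [two_mul, pow_add, mul_assoc]
  have hX2 : u' * u = X ^ (2 * k) := by rw [this, mul_assoc, hu2, mul_one]
  rw [pow_succ, ← hX2, ← hX]
  calc u' * u * (u * u') = u' * (u * u) * u' := by group
    _ = 1 := by rw [hu2, mul_one, hsq]

end

end Cfsg.Agent.MultiplierSuzBase46
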