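import Cfsg.Agent.Lib.MultiplierSuzUpper46

/-!
The kernel of a finite stem extension of the presented Suz is cyclic of order dividing 6.
-/

set_option autoImplicit false
set_option linter.style.haveILetI false

namespace Cfsg.Agent.MultiplierSuzBound46

open Subgroup

/-- The kernel is generated by one element of order dividing 6. -/
theorem exists_generator {Γ : Type} [Group Γ] [Finite Γ] (σ : Γ →* Cfsg.Spor.Suz)
    (hσ : Cfsg.IsStemExtension σ) : ∃ g : σ.ker, g ^ 6 = 1 ∧ zpowers g = ⊤ := by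
  classical
  letI : CommGroup σ.ker :=
    { (inferInstance : Group σ.ker) with
      mul_comm := fun a b => Subtype.ext (mem_center_iff.1 (hσ.2.1 b.2) a) }
  haveI : NeZero (Monoid.exponent σ.ker) := ⟨Monoid.exponent_ne_zero_of_finite⟩
  let ev : σ.ker →* ((σ.ker →* ℂˣ) → ℂˣ) := MonoidHom.pi fun χ => χ⁻¹
  let ι : σ.ker →* Γ × ((σ.ker →* ℂˣ) → ℂˣ) := (σ.ker.subtype).prod ev
  have hcent : ι.range ≤ center _ := by
    rintro _ ⟨w, rfl⟩
    rw [Subgroup.mem_center_iff]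
    intro q
    exact Prod.ext (mem_center_iff.1 (hσ.2.1 w.2) q.1) (mul_comm _ _)
  haveI : ι.range.Normal := ⟨fun a ha g => by
    rw [mem_center_iff.1 (hcent ha) g, mul_inv_cancel_right]; exact ha⟩
  let π : (Γ × ((σ.ker →* ℂˣ) → ℂˣ)) ⧸ ι.range →* Cfsg.Spor.Suz :=
    QuotientGroup.lift ι.range (σ.comp (MonoidHom.fst _ _)) (by rintro _ ⟨w, rfl⟩; exact w.2)
  have hker : ∀ q ∈ π.ker, ∃ c, q = QuotientGroup.mk (1, c) := by
    intro q hq
    obtain ⟨⟨g, c⟩, rfl⟩ := QuotientGroup.mk_surjective q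
    have hg : σ g = 1 := hq
    refine ⟨(ev ⟨g, hg⟩)⁻¹ * c, (QuotientGroup.eq).2 ⟨(⟨g, hg⟩ : σ.ker)⁻¹, ?_⟩⟩
    refine Prod.ext ?_ ?_
    · simp [ι]
    · simp [ι, mul_comm, mul_left_comm]
  have hc : π.ker ≤ center _ := by
    intro q hq
    obtain ⟨c, rfl⟩ := hker q hq
    rw [mem_center_iff]
    intro r
    obtain ⟨⟨g, d⟩, rfl⟩ := QuotientGroup.mk_surjective r
    rw [← QuotientGroup.mk_mul, ← QuotientGroup.mk_mul]
    simp [mul_comm]
  have hs : Function.Surjective π :=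
    fun k => (hσ.1 k).elim fun g hg => ⟨QuotientGroup.mk (g, 1), hg⟩
  have hr : ∀ z ∈ π.ker, ∃ w ∈ π.ker, w * w = z := by
    intro q hq
    obtain ⟨c, rfl⟩ := hker q hq
    have hroot : ∀ χ, ∃ d : ℂˣ, d * d = c χ := fun χ => by
      obtain ⟨d, hd⟩ := IsAlgClosed.exists_pow_nat_eq (c χ : ℂ) (n := 2) (by norm_num)
      have hd0 : d ≠ 0 := fun e => (c χ).ne_zero (by rw [← hd, e]; simp)
      exact ⟨Units.mk0 d hd0, Units.ext (by simpa [pow_two] using hd)⟩
    choose d hd using hroot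
    refine ⟨QuotientGroup.mk (1, d), map_one σ, ?_⟩
    rw [← QuotientGroup.mk_mul]
    congr 1
    exact Prod.ext (mul_one 1) (funext hd)
  obtain ⟨y, hy, hgen⟩ := MultiplierSuzUpper46.exists_gen π hs hc hr
  let emb : σ.ker →* (Γ × ((σ.ker →* ℂˣ) → ℂˣ)) ⧸ ι.range :=
    (QuotientGroup.mk' ι.range).comp ((MonoidHom.inl _ _).comp σ.ker.subtype)
  have hinj : Function.Injective emb := by
    rw [injective_iff_map_eq_one]
    intro m hm
    obtain ⟨w, hw⟩ := (QuotientGroup.eq_one_iff _).1 hm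
    obtain ⟨h1, h2⟩ := Prod.mk.injEq _ _ _ _ ▸ hw
    have hwm : w = m := Subtype.ext h1
    subst hwm
    by_contra hne
    obtain ⟨χ, hχ⟩ := CommGroup.exists_apply_ne_one_of_hasEnoughRootsOfUnity σ.ker ℂ (a := w) hne
    exact hχ (inv_eq_one.1 (congrFun h2 χ))
  have hmem : ∀ m : σ.ker, emb m ∈ zpowers y := fun m => by
    refine hgen _ m.2 ?_
    have := Subgroup.mem_map_of_mem
      ((QuotientGroup.mk' ι.range).comp (MonoidHom.inl Γ ((σ.ker →* ℂˣ) → ℂˣ))) (hσ.2.2 m.2)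
    rw [_root_.commutator_def, Subgroup.map_commutator] at this
    rw [_root_.commutator_def]
    exact Subgroup.commutator_mono le_top le_top this
  let f : σ.ker →* zpowers y := emb.codRestrict (zpowers y) hmem
  have hfi : Function.Injective f := fun a b h => hinj (congrArg Subtype.val h)
  haveI : IsCyclic σ.ker := isCyclic_of_injective f hfi
  obtain ⟨g, hg⟩ := IsCyclic.exists_generator (α := σ.ker)
  refine ⟨g, hinj ?_, eq_top_iff.2 fun x _ => hg x⟩
  obtain ⟨k, hk⟩ := hmem g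
  rw [map_one, map_pow, ← show y ^ k = emb g from hk, ← zpow_natCast, ← zpow_mul,
    mul_comm, zpow_mul, show (((6 : ℕ) : ℤ)) = (6 : ℕ) from rfl, zpow_natCast, hy, one_zpow]

/-- The kernel is an image of the cyclic group of order 6. -/
theorem exists_surjective {Γ : Type} [Group Γ] [Finite Γ] (σ : Γ →* Cfsg.Spor.Suz)
    (hσ : Cfsg.IsStemExtension σ) :
    ∃ π : Multiplicative (ZMod 6) →* σ.ker, Function.Surjective π := by
  obtain ⟨g, hg, htop⟩ := exists_generator σ hσ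
  let z : ℤ →+ Additive σ.ker := zmultiplesHom _ (Additive.ofMul g)
  have hz : z (6 : ℕ) = 0 := by
    show ((6 : ℕ) : ℤ) • Additive.ofMul g = 0
    rw [natCast_zsmul, ← ofMul_pow, hg, ofMul_one]
  refine ⟨(ZMod.lift 6 ⟨z, hz⟩).toMultiplicativeLeft, fun x => ?_⟩
  obtain ⟨k, hk⟩ := Subgroup.mem_zpowers_iff.1 (htop ▸ Subgroup.mem_top x)
  refine ⟨Multiplicative.ofAdd (k : ZMod 6), ?_⟩
  show Additive.toMul ((ZMod.lift 6 ⟨z, hz⟩) (k : ZMod 6)) = x
  rw [ZMod.lift_coe]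
  exact hk

end Cfsg.Agent.MultiplierSuzBound46
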