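import Cfsg.Agent.Lib.LeechSuzCoverCheck46
import Cfsg.Agent.Lib.CosetCertRestrict
import Cfsg.Prelude.Def_KGroupFacts

/-!
A sixfold stem cover of Suz inside the automorphism group of the rank-24 lattice.
-/

set_option autoImplicit false
set_option maxRecDepth 100000
set_option linter.style.haveILetI false

namespace Cfsg.Agent.MultiplierSuzCover46

open Cfsg Cfsg.Agent.CosetCertCore Cfsg.Agent.CosetCertPres
open Cfsg.Agent.LeechBasic Cfsg.Agent.LeechAut
open Cfsg.Agent.LeechCert Cfsg.Agent.LeechOutTool Cfsg.Agent.LeechSuzCoverData46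
open Cfsg.Agent.LeechSuzCoverCheck46

/-- The presentation. -/
abbrev PS : Pres := CosetCertSuzGData.pres

/-- The element of order 6. -/
noncomputable def z0 : Co0 := El wZ

/-- The word of a generator. -/
def wd (x : Nat) : List Step := if x < 7 then W.getD x [] else wA

theorem wd_mem (x : Nat) : wd x ∈ W := by
  unfold wd
  split
  · rename_i h
    rw [List.getD_eq_getElem _ _ (show x < W.length from h)]
    exact List.getElem_mem _
  · exact List.mem_cons_self ..

theorem z_pow (n : ℕ) : El (rep n wZ) = z0 ^ n := El_replicate valid_z n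

theorem z0_six : z0 ^ 6 = 1 := by rw [← z_pow, El_eq z_six, El_nil]

theorem orderOf_z0 : orderOf z0 = 6 := by
  rw [orderOf_eq_iff (by norm_num)]
  refine ⟨z0_six, fun k hk hk0 h => ?_⟩
  have := List.all_eq_true.mp z_ne k (List.mem_range.2 hk)
  simp only [Bool.or_eq_true, Nat.beq_eq] at this
  rcases this with h0 | h0
  · omega
  · exact El_ne h0 (by rw [z_pow, h, El_nil])

theorem comm_z0 {w : List Step} (hw : w ∈ W) : El w * z0 = z0 * El w := by
  have := El_eq (List.all_eq_true.mp commutes w hw)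
  rw [El_append (valid w hw) valid_z, El_append valid_z (valid w hw)] at this
  exact this.symm

/-- The centraliser of the element of order 6. -/
abbrev C : Subgroup Co0 := Subgroup.centralizer {z0}

/-- The element of order 6 in its centraliser. -/
noncomputable def z : C := ⟨z0, Subgroup.mem_centralizer_singleton_iff.2 rfl⟩

/-- The lifts. -/
noncomputable def t (x : Nat) : C :=
  ⟨El (wd x), Subgroup.mem_centralizer_singleton_iff.2 (comm_z0 (wd_mem x))⟩

theorem z_central (c : C) : c * z = z * c :=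
  Subtype.ext (Subgroup.mem_centralizer_singleton_iff.1 c.2)

instance : (Subgroup.zpowers z).Normal := ⟨fun a ha g => by
  obtain ⟨k, rfl⟩ := Subgroup.mem_zpowers_iff.1 ha
  rw [((show Commute g z from z_central g).zpow_right k).eq, mul_inv_cancel_right]
  exact ha⟩

theorem ev_reverse {G : Type} [Monoid G] (g : List G) (r : List Nat) :
    ev g r.reverse = (r.map fun i => g.getD i 1).prod := by
  induction r with
  | nil => rfl
  | cons i r ih =>
    have key : ∀ l : List Nat, ev g (l ++ [i]) = g.getD i 1 * ev g l := by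
      intro l
      induction l with
      | nil => show ev g [] * g.getD i 1 = g.getD i 1 * ev g []; simp [ev]
      | cons j l ih2 =>
        show ev g (l ++ [i]) * g.getD j 1 = g.getD i 1 * (ev g l * g.getD j 1)
        rw [ih2, mul_assoc]
    rw [List.reverse_cons, key, ih, List.map_cons, List.prod_cons]

theorem val_t {r : List Nat} (hr : ∀ i ∈ r, i < 7) :
    ((val t r : C) : Co0) = El (expand W r.reverse) := by
  rw [El_expand valid, ev_reverse, val, ← Subgroup.coe_subtype, map_list_prod, List.map_map]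
  congr 1
  refine List.map_congr_left fun i hi => ?_
  show El (wd i) = (W.map El).getD i 1
  have hi' : i < W.length := hr i hi
  rw [wd, if_pos (hr i hi), List.getD_eq_getElem (W.map El) 1 (by simpa using hi'), List.getElem_map,
    List.getD_eq_getElem W [] hi']

theorem value {r : List Nat} {k : Nat} (h : (r, k) ∈ values) : val t r = z ^ k := by
  refine Subtype.ext ?_
  rw [val_t (values_lt _ h), El_eq (List.all_eq_true.mp values_ok _ h), z_pow]
  rfl

/-- The generators in the quotient. -/
noncomputable def tq (x : Nat) : C ⧸ Subgroup.zpowers z := QuotientGroup.mk (t x)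

theorem tq_word : ∀ w ∈ PS.relWords, val tq w = 1 := by
  intro w hw
  obtain ⟨⟨r, k⟩, hp, hr⟩ := List.mem_map.1 (values_cover w hw)
  subst hr
  have : val tq r = QuotientGroup.mk' _ (val t r) := by
    unfold val; rw [map_list_prod, List.map_map]; rfl
  rw [this, value hp, QuotientGroup.mk'_apply, QuotientGroup.eq_one_iff]
  exact ⟨k, zpow_natCast z k⟩

theorem tq_sq (x : Nat) : tq x * tq x = 1 := by
  have key : ∀ i < 7, tq i * tq i = 1 := fun i hi => by
    have := tq_word [i, i] ((show ∀ i < 7, [i, i] ∈ PS.relWords by decide +kernel) i hi)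
    simpa [val] using this
  rcases lt_or_ge x 7 with h | h
  · exact key x h
  · have e : t x = t 0 := Subtype.ext (show El (wd x) = El (wd 0) by
      rw [show wd x = wd 0 by unfold wd; rw [if_neg (by omega)]; rfl])
    rw [tq, e]
    exact key 0 (by omega)

/-- The homomorphism from Suz. -/
noncomputable def ψ : PS.Grp →* C ⧸ Subgroup.zpowers z :=
  PresentedGroup.toGroup
    (CosetCertRestrict.lift_rels CosetCertSuzSimple.good (by decide +kernel) tq tq_sq tq_word (by decide +kernel))

theorem ψ_gen {x : Nat} (hx : x < 7) : ψ (PS.gg x) = tq x := by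
  rw [ψ, Pres.gg, PresentedGroup.toGroup.of]
  congr 1
  exact (show ∀ y < 7, PS.gens.idxOf (PS.gen y) = y by decide +kernel) x hx

theorem ψ_injective : Function.Injective ψ := by
  haveI := CosetCertSuzSimple.simple
  rw [← MonoidHom.ker_eq_bot_iff]
  refine (MonoidHom.normal_ker ψ).eq_bot_or_eq_top.resolve_right fun h => ?_
  have h0 : ψ (PS.gg 0) = 1 := by
    rw [← MonoidHom.mem_ker, h]; exact Subgroup.mem_top _
  rw [ψ_gen (by omega), tq, QuotientGroup.eq_one_iff] at h0
  haveI : Finite Co0 := LeechOrder.finite_Co0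
  obtain ⟨k, hk⟩ := (mem_powers_iff_mem_zpowers).2 h0
  have hk' : z0 ^ (k % 6) = El wA := by
    have e : z0 ^ k = El (wd 0) := congrArg Subtype.val hk
    rwa [← Nat.mod_add_div k 6, pow_add, pow_mul, z0_six, one_pow, mul_one] at e
  exact El_ne (List.all_eq_true.mp LeechSuzCoverCheck46.a_ne (k % 6)
    (List.mem_range.2 (Nat.mod_lt _ (by norm_num)))) (by rw [z_pow, hk'])

/-- The cover. -/
noncomputable abbrev Γ : Subgroup C := Subgroup.comap (QuotientGroup.mk' (Subgroup.zpowers z)) ψ.range

theorem z_mem : z ∈ Γ := ⟨1, by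
  rw [map_one]; exact ((QuotientGroup.eq_one_iff z).2 (Subgroup.mem_zpowers z)).symm⟩

/-- The element of order 6 in the cover. -/
noncomputable def zΓ : Γ := ⟨z, z_mem⟩

theorem t_mem {x : Nat} (hx : x < 7) : t x ∈ Γ := ⟨PS.gg x, ψ_gen hx⟩

/-- The map onto Suz. -/
noncomputable def σ : Γ →* PS.Grp :=
  (MonoidHom.ofInjective ψ_injective).symm.toMonoidHom.comp
    (((QuotientGroup.mk' (Subgroup.zpowers z)).comp Γ.subtype).codRestrict ψ.range fun g => g.2)

theorem σ_spec (g : Γ) : ψ (σ g) = QuotientGroup.mk' _ (g : C) :=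
  congrArg Subtype.val ((MonoidHom.ofInjective ψ_injective).apply_symm_apply _)

theorem σ_surjective : Function.Surjective σ := by
  intro s
  obtain ⟨c, hc⟩ := QuotientGroup.mk'_surjective (Subgroup.zpowers z) (ψ s)
  exact ⟨⟨c, s, hc.symm⟩, ψ_injective (by rw [σ_spec]; exact hc)⟩

theorem mem_ker {g : Γ} : g ∈ σ.ker ↔ g ∈ Subgroup.zpowers zΓ := by
  rw [MonoidHom.mem_ker, ← ψ_injective.eq_iff, σ_spec, map_one, QuotientGroup.mk'_apply,
    QuotientGroup.eq_one_iff, Subgroup.mem_zpowers_iff, Subgroup.mem_zpowers_iff]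
  constructor
  · rintro ⟨k, hk⟩; exact ⟨k, Subtype.ext (by rw [SubgroupClass.coe_zpow]; exact hk)⟩
  · rintro ⟨k, hk⟩; exact ⟨k, by rw [← hk, SubgroupClass.coe_zpow]; rfl⟩

theorem orderOf_zΓ : orderOf zΓ = 6 := by
  rw [← Subgroup.orderOf_coe, ← Subgroup.orderOf_coe]; exact orderOf_z0

/-- The lifts in the cover. -/
noncomputable def tΓ (x : Nat) : Γ := if h : x < 7 then ⟨t x, t_mem h⟩ else 1

theorem valueΓ {r : List Nat} {k : Nat} (h : (r, k) ∈ values) : val tΓ r = zΓ ^ k := by
  refine Subtype.ext ?_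
  rw [show ((zΓ ^ k : Γ) : C) = z ^ k from SubgroupClass.coe_pow _ k, ← value h]
  unfold val
  rw [← Subgroup.coe_subtype, map_list_prod, List.map_map]
  congr 1
  refine List.map_congr_left fun i hi => ?_
  show ((tΓ i : Γ) : C) = t i
  rw [tΓ, dif_pos (values_lt _ h i hi)]

theorem abelian_core {A : Type*} [CommGroup A] {a b c f g τ : A} (ha : a * a = 1) (hb : b * b = 1)
    (hc : c * c = 1) (hf : f * f = 1) (hg : g * g = 1) (hab : (a * b) ^ 5 = 1) (hbf : (b * f) ^ 3 = 1)
    (hbg : (b * g) ^ 3 = 1) (hbc : (b * c) ^ 3 = τ ^ 3) (hafg : a * (f * g) ^ 2 = τ ^ 3)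
    (habcf : (a * b * c * f) ^ 5 = 1) (hV : (b * f * g) ^ 5 = τ) : τ = 1 := by
  have od : ∀ (y : A) (n : ℕ), y * y = 1 → y ^ (2 * n + 1) = y := fun y n hy => by
    rw [pow_succ, pow_mul, pow_two, hy, one_pow, one_mul]
  have sq2 : ∀ y w : A, y * y = 1 → w * w = 1 → y * w * (y * w) = 1 := fun y w hy hw => by
    rw [mul_mul_mul_comm, hy, hw, one_mul]
  have eq1 : ∀ y w : A, w * w = 1 → y * w = 1 → y = w := fun y w hw h => by
    rw [mul_eq_one_iff_eq_inv.1 h, inv_eq_of_mul_eq_one_right hw]
  have e0 : a = b := eq1 _ _ hb (by rw [← od _ 2 (sq2 _ _ ha hb)]; exact hab)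
  have e5 : f = b := (eq1 _ _ hf (by rw [← od _ 1 (sq2 _ _ hb hf)]; exact hbf)).symm
  have e6 : g = b := (eq1 _ _ hg (by rw [← od _ 1 (sq2 _ _ hb hg)]; exact hbg)).symm
  have h3 : τ ^ 3 = b := by rw [← hafg, e0, e5, e6, hb, one_pow, mul_one]
  have e2 : c = 1 := by
    have : b * c = b := by rw [← od _ 1 (sq2 _ _ hb hc)]; exact hbc.trans h3
    rwa [mul_eq_left] at this
  have b1 : b = 1 := by
    have := habcf
    rw [e0, e2, e5, mul_one, hb, one_mul, od b 2 hb] at this
    exact this
  rw [← hV, e5, e6, b1, one_mul, one_mul, one_pow]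

theorem z_commutator : zΓ ∈ commutator Γ := by
  rw [← Abelianization.ker_of Γ, MonoidHom.mem_ker]
  let x : Nat → Abelianization Γ := fun i => Abelianization.of (tΓ i)
  have hv : ∀ (r : List Nat) (k : Nat), (r, k) ∈ values → val x r = Abelianization.of zΓ ^ k := by
    intro r k h
    have := congrArg (Abelianization.of (G := Γ)) (valueΓ h)
    rw [map_pow, val, map_list_prod, List.map_map] at this
    exact this
  have sq : ∀ i, ([i, i], 0) ∈ values → x i * x i = 1 := fun i h => by
    have := hv _ _ h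
    rwa [val_cons, val_cons, val_nil, mul_one, pow_zero] at this
  have pair : ∀ i j n k, ((List.replicate n [i, j]).flatten, k) ∈ values →
      (x i * x j) ^ n = Abelianization.of zΓ ^ k := fun i j n k h => by
    have := hv _ _ h
    rwa [val_replicate, val_cons, val_cons, val_nil, mul_one] at this
  refine abelian_core (a := x 0) (b := x 1) (c := x 2) (f := x 5) (g := x 6)
    (sq 0 (by decide +kernel)) (sq 1 (by decide +kernel)) (sq 2 (by decide +kernel))
    (sq 5 (by decide +kernel)) (sq 6 (by decide +kernel))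
    ((pair 0 1 5 0 (by decide +kernel)).trans (pow_zero _)) ((pair 1 5 3 0 (by decide +kernel)).trans (pow_zero _))
    ((pair 1 6 3 0 (by decide +kernel)).trans (pow_zero _)) (pair 1 2 3 3 (by decide +kernel)) ?_ ?_ ?_
  · have := hv [0, 6, 5, 6, 5] 3 (by decide +kernel)
    simp only [val_cons, val_nil, mul_one] at this
    rw [← this, pow_two, mul_comm (x 5) (x 6), mul_assoc]
  · have := hv (List.replicate 5 [0, 1, 2, 5]).flatten 0 (by decide +kernel)
    rw [val_replicate, pow_zero] at this
    simpa only [val_cons, val_nil, mul_one, ← mul_assoc] using this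
  · have := hv (List.replicate 5 [1, 5, 6]).flatten 1 (by decide +kernel)
    rw [val_replicate, pow_one] at this
    simpa only [val_cons, val_nil, mul_one, ← mul_assoc] using this

/-- The cover is a stem extension with kernel cyclic of order 6. -/
theorem exists_cover : ∃ (Γ' : Type) (_ : Group Γ') (_ : Finite Γ') (σ' : Γ' →* Cfsg.Spor.Suz),
    IsStemExtension σ' ∧ Nonempty (σ'.ker ≃* Multiplicative (ZMod 6)) := by
  haveI : Finite Co0 := LeechOrder.finite_Co0
  have hker : σ.ker = Subgroup.zpowers zΓ := Subgroup.ext fun g => mem_ker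
  have h1 : Subgroup.zpowers zΓ ≤ Subgroup.center Γ :=
    Subgroup.zpowers_le.2 (Subgroup.mem_center_iff.2 fun g => Subtype.ext (z_central (g : C)))
  have h2 : Subgroup.zpowers zΓ ≤ commutator Γ := Subgroup.zpowers_le.2 z_commutator
  have e : Nat.card (Subgroup.zpowers zΓ) = 6 := by rw [Nat.card_zpowers, orderOf_zΓ]
  exact ⟨Γ, inferInstance, inferInstance, σ, ⟨σ_surjective, hker.le.trans h1, hker.le.trans h2⟩,
    ⟨(MulEquiv.subgroupCongr hker).trans (mulEquivOfCyclicCardEq (e.trans (Nat.card_zmod 6).symm))⟩⟩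

end Cfsg.Agent.MultiplierSuzCover46
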