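import Cfsg.Agent.Lib.MultiplierSuzBase46

/-!
Normalised lifts of the generators of Suz in a central extension: all relators except three hold.
-/

set_option autoImplicit false
set_option maxRecDepth 100000
set_option synthInstance.maxSize 2000

namespace Cfsg.Agent.MultiplierSuzLifts46

open Cfsg.Agent.CosetCertCore Cfsg.Agent.CosetCertTable Cfsg.Agent.CosetCertPres Cfsg.Agent.CosetCertOrder
open Cfsg.Agent.CosetCertSuzSimple (good invol)
open Cfsg.Agent.MultiplierSuzBase46

theorem dflt_eq {x : Nat} (hx : 7 ≤ x) : PS.gg x = PS.gg 0 := by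
  unfold Pres.gg Pres.gen
  rw [List.getD_eq_default PS.gens PS.dflt hx]
  rfl

theorem gg_pow {i j n : Nat} (h : (List.replicate n [i, j]).flatten ∈ PS.relWords) :
    (PS.gg i * PS.gg j) ^ n = 1 := by
  have := val_relWords good h
  rw [val_replicate] at this
  simpa [val] using this

theorem gg_pow' {i j n : Nat} (h : (List.replicate n [j, i]).flatten ∈ PS.relWords) :
    (PS.gg i * PS.gg j) ^ n = 1 := by
  rw [← inv_eq_one, ← inv_pow, mul_inv_rev, inv_of_sq _ invol, inv_of_sq _ invol]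
  exact gg_pow h

/-- A pair of generators commuting in Suz. -/
def comp (i j : Nat) : Bool :=
  decide ([i, j, i, j] ∈ PS.relWords) || decide ([j, i, j, i] ∈ PS.relWords)

theorem comm_of_comp {i j : Nat} (h : comp i j = true) : Commute (PS.gg i) (PS.gg j) := by
  simp only [comp, Bool.or_eq_true, decide_eq_true_eq] at h
  exact pair_comm h

theorem comm_ab_ac {i j k : Nat} (h1 : comp i k = true) (h2 : comp j k = true) :
    Commute (PS.gg i * PS.gg j) (PS.gg k) :=
  (comm_of_comp h1).mul_left (comm_of_comp h2)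

theorem braid3 {G : Type} [Group G] {x y : G} (hx : x * x = 1) (hy : y * y = 1) (h : (x * y) ^ 3 = 1) :
    (y * x)⁻¹ * x * (y * x) = y := by
  calc (y * x)⁻¹ * x * (y * x) = x⁻¹ * y⁻¹ * x * y * x := by group
    _ = x * y * x * y * x := by rw [inv_eq_of_mul_eq_one_right hx, inv_eq_of_mul_eq_one_right hy]
    _ = (x * y) ^ 3 * y⁻¹ := by simp [pow_succ, mul_assoc]
    _ = y := by rw [h, one_mul, inv_eq_of_mul_eq_one_right hy]

theorem braid5 {G : Type} [Group G] {x y : G} (hx : x * x = 1) (hy : y * y = 1) (h : (x * y) ^ 5 = 1) :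
    (y * x * (y * x))⁻¹ * x * (y * x * (y * x)) = y := by
  calc (y * x * (y * x))⁻¹ * x * (y * x * (y * x))
      = x⁻¹ * y⁻¹ * x⁻¹ * y⁻¹ * x * y * x * y * x := by group
    _ = x * y * x * y * x * y * x * y * x := by
        rw [inv_eq_of_mul_eq_one_right hx, inv_eq_of_mul_eq_one_right hy]
    _ = (x * y) ^ 5 * y⁻¹ := by simp [pow_succ, mul_assoc]
    _ = y := by rw [h, one_mul, inv_eq_of_mul_eq_one_right hy]

section

variable {P : Type} [Group P] {π : P →* PS.Grp}

/-- Lifts of the seven generators with exact odd edges. -/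
structure Pre (π : P →* PS.Grp) (u : Nat → P) : Prop where
  map : ∀ x, π (u x) = PS.gg x
  sq : ∀ x, u x * u x = 1
  ab : (u 0 * u 1) ^ 5 = 1
  bc : (u 1 * u 2) ^ 3 = 1
  bf : (u 1 * u 5) ^ 3 = 1
  bg : (u 1 * u 6) ^ 3 = 1
  de : (u 3 * u 4) ^ 3 = 1

variable {u : Nat → P}

theorem Pre.map_val (hu : Pre π u) (w : List Nat) : π (val u w) = val PS.gg w := by
  unfold val
  rw [map_list_prod, List.map_map]
  exact congrArg List.prod (List.map_congr_left fun x _ => hu.map x)

variable (hs : Function.Surjective π) (hc : π.ker ≤ Subgroup.center P)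
  (hr : ∀ z ∈ π.ker, ∃ w ∈ π.ker, w * w = z)

include hs hc hr in
theorem exists_root (x : Nat) : ∃ t, π t = PS.gg x ∧ t * t = 1 := by
  obtain ⟨v, hv⟩ := hs (PS.gg x)
  obtain ⟨l, hl, hll⟩ := hr (v * v)⁻¹ (by
    rw [MonoidHom.mem_ker, map_inv, map_mul, hv, invol, inv_one])
  refine ⟨v * l, by rw [map_mul, hv, MonoidHom.mem_ker.1 hl, mul_one], ?_⟩
  calc v * l * (v * l) = v * (l * v) * l := by group
    _ = v * v * (l * l) := by rw [← cen hc hl v]; group
    _ = 1 := by rw [hll, mul_inv_cancel]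

include hs hc hr in
theorem exists_pre : ∃ u, Pre π u := by
  obtain ⟨b, hb, hb2⟩ := exists_root hs hc hr 1
  obtain ⟨d, hd, hd2⟩ := exists_root hs hc hr 3
  obtain ⟨a, ha, ha2, hab⟩ := exists_next hc hb hb2 hs (y := 0) (k := 2) (gg_pow' (by decide +kernel))
  obtain ⟨c, hc', hc2, hbc⟩ := exists_next hc hb hb2 hs (y := 2) (k := 1) (gg_pow (by decide +kernel))
  obtain ⟨f, hf, hf2, hbf⟩ := exists_next hc hb hb2 hs (y := 5) (k := 1) (gg_pow (by decide +kernel))
  obtain ⟨g, hg, hg2, hbg⟩ := exists_next hc hb hb2 hs (y := 6) (k := 1) (gg_pow (by decide +kernel))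
  obtain ⟨e, he, he2, hde⟩ := exists_next hc hd hd2 hs (y := 4) (k := 1) (gg_pow (by decide +kernel))
  refine ⟨fun x => [a, b, c, d, e, f, g].getD x a, fun x => ?_, fun x => ?_, ?_, hbc, hbf, hbg, hde⟩
  · rcases lt_or_ge x 7 with hx | hx
    · interval_cases x <;> assumption
    · simp only [List.getD_eq_default _ _ (show [a, b, c, d, e, f, g].length ≤ x by simpa)]
      rw [ha, dflt_eq hx]
  · rcases lt_or_ge x 7 with hx | hx
    · interval_cases x <;> assumption
    · simp only [List.getD_eq_default _ _ (show [a, b, c, d, e, f, g].length ≤ x by simpa)]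
      exact ha2
  · show (a * b) ^ 5 = 1
    rw [← inv_eq_one, ← inv_pow, mul_inv_rev, inv_eq_of_mul_eq_one_right ha2,
      inv_eq_of_mul_eq_one_right hb2]
    exact hab

theorem Pre.eq_cd (hu : Pre π u) : π (u 0) = π ((u 2 * u 3) ^ 4) := by
  have h := val_relWords good (show [0, 3, 2, 3, 2, 3, 2, 3, 2] ∈ PS.relWords by decide +kernel)
  rw [show ([0, 3, 2, 3, 2, 3, 2, 3, 2] : List Nat) = [0] ++ (List.replicate 4 [2, 3]).flatten.reverse
    by decide, val_append, val_reverse _ invol, val_replicate, mul_inv_eq_one] at h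
  simpa [val, map_pow, map_mul, hu.map] using h

theorem Pre.eq_fg (hu : Pre π u) : π (u 0) = π ((u 5 * u 6) ^ 2) := by
  have h := val_relWords good (show [0, 6, 5, 6, 5] ∈ PS.relWords by decide +kernel)
  rw [show ([0, 6, 5, 6, 5] : List Nat) = [0] ++ (List.replicate 2 [5, 6]).flatten.reverse
    by decide, val_append, val_reverse _ invol, val_replicate, mul_inv_eq_one] at h
  simpa [val, map_pow, map_mul, hu.map] using h

include hc

theorem a_comm_of_fg (hu : Pre π u) {x : Nat} (h5 : comp x 5 = true) (h6 : comp x 6 = true) :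
    Commute (u x) (u 0) :=
  commute_eq hc (commute_sq hc (hu.sq 5) (hu.sq 6) (by rw [hu.map, hu.map]; exact comm_of_comp h5)
    (by rw [hu.map, hu.map]; exact comm_of_comp h6)) hu.eq_fg.symm

theorem a_comm_of_cd (hu : Pre π u) {x : Nat} (h2 : comp x 2 = true) (h3 : comp x 3 = true) :
    Commute (u x) (u 0) := by
  have h := commute_sq hc (hu.sq 2) (hu.sq 3)
    (show Commute (π (u x)) (π (u 2)) by rw [hu.map, hu.map]; exact comm_of_comp h2)
    (show Commute (π (u x)) (π (u 3)) by rw [hu.map, hu.map]; exact comm_of_comp h3)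
  refine commute_eq hc (h.pow_right 2) ?_
  rw [hu.eq_cd, ← pow_mul]

theorem fg4 (hu : Pre π u) : (u 5 * u 6) ^ 4 = 1 := by
  have h : Commute (u 6) ((u 5 * u 6) ^ 2) :=
    commute_eq hc (a_comm_of_cd hc hu (by decide +kernel) (by decide +kernel)) hu.eq_fg
  have h2 : u 6 * (u 5 * u 6) ^ 2 * (u 6)⁻¹ = (u 5 * u 6) ^ 2 := by rw [h.eq]; group
  have h3 : u 6 * (u 5 * u 6) ^ 2 * (u 6)⁻¹ = ((u 5 * u 6) ^ 2)⁻¹ := by
    rw [← inv_pow, mul_inv_rev, inv_of_sq u hu.sq, inv_of_sq u hu.sq, pow_two, pow_two]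
    simp [mul_assoc, hu.sq]
  rw [show (4 : ℕ) = 2 + 2 from rfl, pow_add]
  exact mul_eq_one_iff_eq_inv.2 (h2.symm.trans h3)

end

/-- Normalised lifts. -/
structure Lifts {P : Type} [Group P] (π : P →* PS.Grp) (u : Nat → P) : Prop extends Pre π u where
  afg : u 0 = (u 5 * u 6) ^ 2

section

variable {P : Type} [Group P] {π : P →* PS.Grp} (hs : Function.Surjective π)
  (hc : π.ker ≤ Subgroup.center P) (hr : ∀ z ∈ π.ker, ∃ w ∈ π.ker, w * w = z)

include hs hc hr in
theorem exists_lifts : ∃ u, Lifts π u := by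
  obtain ⟨u, hu⟩ := exists_pre hs hc hr
  obtain ⟨z, hz, e⟩ : ∃ z, π z = 1 ∧ (u 5 * u 6) ^ 2 = u 0 * z :=
    ⟨(u 0)⁻¹ * (u 5 * u 6) ^ 2, by rw [map_mul, map_inv, ← hu.eq_fg, inv_mul_cancel], by group⟩
  have hzc : ∀ g, Commute g z := fun g => cen hc hz g
  have hz2 : z * z = 1 := by
    calc z * z = u 0 * u 0 * (z * z) := by rw [hu.sq, one_mul]
      _ = u 0 * (u 0 * z) * z := by group
      _ = u 0 * (z * u 0) * z := by rw [(hzc (u 0)).eq]
      _ = u 0 * z * (u 0 * z) := by group
      _ = (u 5 * u 6) ^ 4 := by rw [← e, ← pow_add]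
      _ = 1 := fg4 hc hu
  let s : Nat → P := fun x => if x = 3 ∨ x = 4 then 1 else z
  have hs1 : ∀ x, π (s x) = 1 := fun x => by
    show π (if x = 3 ∨ x = 4 then 1 else z) = 1
    split <;> simp [hz]
  have hs2 : ∀ x, s x * s x = 1 := fun x => by
    show (if x = 3 ∨ x = 4 then 1 else z) * (if x = 3 ∨ x = 4 then 1 else z) = 1
    split <;> simp [hz2]
  have hmul : ∀ x y, s x = s y → u x * s x * (u y * s y) = u x * u y := by
    intro x y hxy
    calc u x * s x * (u y * s y) = u x * (s x * u y) * s y := by group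
      _ = u x * u y * (s x * s y) := by rw [← cen hc (hs1 x) (u y)]; group
      _ = u x * u y := by rw [hxy, hs2, mul_one]
  refine ⟨fun x => u x * s x, ⟨fun x => ?_, fun x => ?_, ?_, ?_, ?_, ?_, ?_⟩, ?_⟩
  · rw [map_mul, hu.map, hs1, mul_one]
  · rw [hmul x x rfl, hu.sq]
  · rw [hmul 0 1 rfl, hu.ab]
  · rw [hmul 1 2 rfl, hu.bc]
  · rw [hmul 1 5 rfl, hu.bf]
  · rw [hmul 1 6 rfl, hu.bg]
  · rw [hmul 3 4 rfl, hu.de]
  · show u 0 * z = (u 5 * s 5 * (u 6 * s 6)) ^ 2
    rw [hmul 5 6 rfl, e]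

variable {u : Nat → P} (hu : Lifts π u)
include hc hu

theorem ac : Commute (u 2) (u 0) := a_comm_of_fg hc hu.toPre (by decide +kernel) (by decide +kernel)

theorem ad : Commute (u 3) (u 0) := a_comm_of_fg hc hu.toPre (by decide +kernel) (by decide +kernel)

theorem ae : Commute (u 4) (u 0) := a_comm_of_fg hc hu.toPre (by decide +kernel) (by decide +kernel)

theorem af : Commute (u 5) (u 0) := a_comm_of_cd hc hu.toPre (by decide +kernel) (by decide +kernel)

theorem ag : Commute (u 6) (u 0) := a_comm_of_cd hc hu.toPre (by decide +kernel) (by decide +kernel)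

theorem b_comm {x : Nat} (h0 : comp x 0 = true) (h1 : comp x 1 = true) (h : Commute (u x) (u 0)) :
    Commute (u x) (u 1) := by
  have := commute_conj hc h (k := u 1 * u 0 * (u 1 * u 0)) (by
    simp only [map_mul, hu.map]
    have hba := ((comm_of_comp h1).mul_right (comm_of_comp h0))
    exact (hba.mul_right hba).symm)
  rwa [braid5 (hu.sq 0) (hu.sq 1) hu.ab] at this

theorem step_comm {x y : Nat} (hb : (u 1 * u y) ^ 3 = 1) (h1 : comp x 1 = true) (hy : comp x y = true)
    (h : Commute (u x) (u 1)) : Commute (u x) (u y) := by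
  have := commute_conj hc h (k := u y * u 1) (by
    simp only [map_mul, hu.map]
    exact ((comm_of_comp hy).mul_right (comm_of_comp h1)).symm)
  rwa [braid3 (hu.sq 1) (hu.sq y) hb] at this

theorem bd : Commute (u 3) (u 1) := b_comm hc hu (by decide +kernel) (by decide +kernel) (ad hc hu)

theorem be : Commute (u 4) (u 1) := b_comm hc hu (by decide +kernel) (by decide +kernel) (ae hc hu)

theorem ce : Commute (u 4) (u 2) :=
  step_comm hc hu hu.bc (by decide +kernel) (by decide +kernel) (be hc hu)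

theorem df : Commute (u 3) (u 5) :=
  step_comm hc hu hu.bf (by decide +kernel) (by decide +kernel) (bd hc hu)

theorem dg : Commute (u 3) (u 6) :=
  step_comm hc hu hu.bg (by decide +kernel) (by decide +kernel) (bd hc hu)

theorem ef : Commute (u 4) (u 5) :=
  step_comm hc hu hu.bf (by decide +kernel) (by decide +kernel) (be hc hu)

theorem eg : Commute (u 4) (u 6) :=
  step_comm hc hu hu.bg (by decide +kernel) (by decide +kernel) (be hc hu)

theorem c_comm_witness {x : Nat} {h : List Nat} (hh : Commute (val PS.gg h) (val PS.gg [2]))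
    (hx : val PS.gg ([4] ++ h.reverse ++ [4] ++ h ++ [x]) = 1) : Commute (u 2) (u x) := by
  have hce : Commute (u 2) (u 4) := (ce hc hu).symm
  have h1 := hce.mul_right (commute_conj hc hce (k := val u h) (by
    rw [hu.map_val, hu.map]; simpa [val] using hh))
  refine commute_eq hc h1 ?_
  rw [val_append] at hx
  simp only [val_append, val_reverse _ invol, val_cons, val_nil, mul_one] at hx
  rw [mul_eq_one_iff_eq_inv, inv_of_sq _ invol] at hx
  simp only [map_mul, map_inv, hu.map, hu.map_val]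
  rw [← hx]
  simp [mul_assoc]

theorem cf : Commute (u 2) (u 5) := c_comm_witness hc hu hF_comm hF_split

theorem cg : Commute (u 2) (u 6) := c_comm_witness hc hu hG_comm hG_split

theorem acd : u 0 = (u 2 * u 3) ^ 4 := by
  have hk : ∀ p ∈ factors, Commute (u 0) ((val u p.1)⁻¹ * u p.2 * val u p.1) := by
    intro p hp
    have h3 : Commute (u 0) (u 3) := (ad hc hu).symm
    have h4 : Commute (u 0) (u 4) := (ae hc hu).symm
    have k0 : Commute (π (val u [])) (π (u 0)) := by simp [val]
    have k1 : Commute (π (val u kOne)) (π (u 0)) := by rw [hu.map_val, hu.map]; simpa [val] using kOne_comm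
    have k2 : Commute (π (val u kTwo)) (π (u 0)) := by rw [hu.map_val, hu.map]; simpa [val] using kTwo_comm
    simp only [factors, List.mem_cons, List.not_mem_nil, or_false] at hp
    rcases hp with rfl | rfl | rfl | rfl | rfl | rfl | rfl | rfl
    exacts [commute_conj hc h3 k1, commute_conj hc h4 k2, commute_conj hc h3 k0, commute_conj hc h3 k2,
      commute_conj hc h3 k1, commute_conj hc h4 k2, commute_conj hc h4 k0, commute_conj hc h3 k1]
  have hW : ∀ l : List (List Nat × Nat), (∀ p ∈ l, Commute (u 0) ((val u p.1)⁻¹ * u p.2 * val u p.1)) →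
      Commute (u 0) (val u (l.map fun p => p.1.reverse ++ [p.2] ++ p.1).flatten) := by
    intro l
    induction l with
    | nil => intro _; simp [val]
    | cons p l ih =>
      intro hl
      rw [List.map_cons, List.flatten_cons, val_append]
      refine Commute.mul_right ?_ (ih fun q hq => hl q (List.mem_cons_of_mem _ hq))
      rw [val_append, val_append, val_reverse u hu.sq]
      simpa [val, mul_assoc] using hl p (List.mem_cons_self ..)
  have hH : Commute (u 0) (val u factorWord) := hW factors hk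
  set H := val u factorWord with hHdef
  have conj : ∀ (r : P) (w : List Nat) (y : Nat), r * r = 1 → r = val u w →
      val PS.gg (factorWord.reverse ++ w ++ factorWord ++ [y]) = 1 →
      ∃ z, π z = 1 ∧ z * z = 1 ∧ H⁻¹ * r * H = u y * z := by
    intro r w y hr2 hrw hcar
    have hπ : π ((u y)⁻¹ * (H⁻¹ * r * H)) = 1 := by
      simp only [val_append, val_reverse _ invol, val_cons, val_nil, mul_one] at hcar
      rw [mul_eq_one_iff_eq_inv, inv_of_sq _ invol] at hcar
      simp only [map_mul, map_inv, hu.map, hHdef, hrw, hu.map_val]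
      rw [hcar, inv_mul_cancel]
    refine ⟨_, hπ, ?_, (mul_inv_cancel_left _ _).symm⟩
    have e : u y * ((u y)⁻¹ * (H⁻¹ * r * H)) * (u y * ((u y)⁻¹ * (H⁻¹ * r * H))) = 1 := by
      rw [mul_inv_cancel_left]
      calc H⁻¹ * r * H * (H⁻¹ * r * H) = H⁻¹ * (r * r) * H := by group
        _ = 1 := by rw [hr2]; group
    generalize (u y)⁻¹ * (H⁻¹ * r * H) = s at hπ e ⊢
    calc s * s = u y * u y * (s * s) := by rw [hu.sq, one_mul]
      _ = u y * (u y * s) * s := by group
      _ = u y * (s * u y) * s := by rw [cen hc hπ (u y)]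
      _ = 1 := by rw [← e]; group
  obtain ⟨z1, hz1, hz1', e1⟩ := conj (u 2) [2] 5 (hu.sq 2) (by simp [val]) carry_c
  obtain ⟨z2, hz2, hz2', e2⟩ := conj (u 3 * u 2 * u 3) [3, 2, 3] 6 (by
    calc u 3 * u 2 * u 3 * (u 3 * u 2 * u 3) = u 3 * u 2 * (u 3 * u 3) * u 2 * u 3 := by group
      _ = 1 := by simp [mul_assoc, hu.sq]) (by simp [val, mul_assoc]) carry_dcd
  have h4 : H⁻¹ * (u 2 * u 3) ^ 4 * H = u 0 := by
    rw [hu.afg]
    calc H⁻¹ * (u 2 * u 3) ^ 4 * H
        = H⁻¹ * u 2 * H * (H⁻¹ * (u 3 * u 2 * u 3) * H) *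
            (H⁻¹ * u 2 * H * (H⁻¹ * (u 3 * u 2 * u 3) * H)) := by
          rw [show (4 : ℕ) = 2 * 2 from rfl, pow_mul, pow_two, pow_two]; group
      _ = u 5 * (z1 * u 6) * z2 * (u 5 * (z1 * u 6) * z2) := by rw [e1, e2]; group
      _ = u 5 * u 6 * (z1 * z2) * (u 5 * u 6) * (z1 * z2) := by rw [← cen hc hz1 (u 6)]; group
      _ = u 5 * u 6 * ((z1 * z2) * (u 5 * u 6)) * (z1 * z2) := by group
      _ = u 5 * u 6 * ((u 5 * u 6) * (z1 * z2)) * (z1 * z2) := by
          rw [cen hc (show π (z1 * z2) = 1 by rw [map_mul, hz1, hz2, one_mul]) (u 5 * u 6)]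
      _ = (u 5 * u 6) ^ 2 * (z1 * (z2 * z1) * z2) := by rw [pow_two]; group
      _ = (u 5 * u 6) ^ 2 * (z1 * z1 * (z2 * z2)) := by rw [cen hc hz1 z2]; group
      _ = _ := by rw [hz1', hz2', mul_one, mul_one]
  calc u 0 = H * u 0 * H⁻¹ := by rw [← hH.eq]; group
    _ = H * (H⁻¹ * (u 2 * u 3) ^ 4 * H) * H⁻¹ := by rw [h4]
    _ = _ := by group

omit hc in
theorem afg_word : val u [0, 6, 5, 6, 5] = 1 := by
  rw [show ([0, 6, 5, 6, 5] : List Nat) = [0] ++ (List.replicate 2 [5, 6]).flatten.reverse by decide,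
    val_append, val_reverse u hu.sq, val_replicate, mul_inv_eq_one]
  simpa [val] using hu.afg

theorem acd_word : val u [0, 3, 2, 3, 2, 3, 2, 3, 2] = 1 := by
  rw [show ([0, 3, 2, 3, 2, 3, 2, 3, 2] : List Nat) = [0] ++ (List.replicate 4 [2, 3]).flatten.reverse
    by decide, val_append, val_reverse u hu.sq, val_replicate, mul_inv_eq_one]
  simpa [val] using acd hc hu

theorem cd8 : (u 2 * u 3) ^ 8 = 1 := by
  rw [show (8 : ℕ) = 4 + 4 from rfl, pow_add, ← acd hc hu, hu.sq]

end

/-- The odd relator. -/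
abbrev wV : List Nat := (List.replicate 5 [1, 5, 6]).flatten

/-- The relator on abcf. -/
abbrev wZ : List Nat := (List.replicate 5 [0, 1, 2, 5]).flatten

/-- The relator on bcde. -/
abbrev wW : List Nat := (List.replicate 3 ((List.replicate 5 [1, 2, 3, 2, 3]).flatten ++ [4])).flatten

/-- The commuting pairs. -/
abbrev commPairs : List (Nat × Nat) :=
  [(0, 2), (0, 3), (0, 4), (0, 5), (0, 6), (1, 3), (1, 4), (2, 4), (2, 5), (2, 6), (3, 5), (3, 6), (4, 5), (4, 6)]

/-- The relators which always hold exactly. -/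
abbrev exact : List (List Nat) :=
  ((List.range 7).map fun i => [i, i]) ++ (commPairs.map fun p => [p.1, p.2, p.1, p.2]) ++
    [(List.replicate 5 [0, 1]).flatten, (List.replicate 3 [1, 2]).flatten, (List.replicate 3 [1, 5]).flatten,
      (List.replicate 3 [1, 6]).flatten, (List.replicate 3 [3, 4]).flatten, (List.replicate 8 [2, 3]).flatten,
      (List.replicate 4 [5, 6]).flatten, [0, 3, 2, 3, 2, 3, 2, 3, 2], [0, 6, 5, 6, 5]]

theorem relWords_cases : ∀ w ∈ PS.relWords, w ∈ exact ∨ w = wV ∨ w = wZ ∨ w = wW := by decide +kernel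

theorem exact_one {P : Type} [Group P] {π : P →* PS.Grp} (hc : π.ker ≤ Subgroup.center P)
    {u : Nat → P} (hu : Lifts π u) : ∀ w ∈ exact, val u w = 1 := by
  have sqc : ∀ a b : P, a * a = 1 → b * b = 1 → Commute a b → a * (b * (a * b)) = 1 := by
    intro a b ha hb h
    calc a * (b * (a * b)) = a * (b * a) * b := by group
      _ = a * a * (b * b) := by rw [h.symm.eq]; group
      _ = 1 := by rw [ha, hb, one_mul]
  intro w hw
  rcases List.mem_append.mp hw with hw | hw
  rcases List.mem_append.mp hw with hw | hw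
  · obtain ⟨i, -, rfl⟩ := List.mem_map.mp hw
    simp [val, hu.sq]
  · obtain ⟨⟨i, j⟩, hp, rfl⟩ := List.mem_map.mp hw
    simp only [val_cons, val_nil, mul_one]
    refine sqc _ _ (hu.sq i) (hu.sq j) ?_
    simp only [List.mem_cons, Prod.mk.injEq, List.not_mem_nil, or_false] at hp
    rcases hp with h | h | h | h | h | h | h | h | h | h | h | h | h | h <;> obtain ⟨rfl, rfl⟩ := h
    exacts [(ac hc hu).symm, (ad hc hu).symm, (ae hc hu).symm, (af hc hu).symm, (ag hc hu).symm,
      (bd hc hu).symm, (be hc hu).symm, (ce hc hu).symm, cf hc hu, cg hc hu, df hc hu, dg hc hu,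
      ef hc hu, eg hc hu]
  · simp only [List.mem_cons, List.not_mem_nil, or_false] at hw
    have hp : ∀ i j n, (u i * u j) ^ n = 1 → val u (List.replicate n [i, j]).flatten = 1 := by
      intro i j n h
      rw [val_replicate]
      simpa [val] using h
    rcases hw with rfl | rfl | rfl | rfl | rfl | rfl | rfl | rfl | rfl
    exacts [hp _ _ _ hu.ab, hp _ _ _ hu.bc, hp _ _ _ hu.bf, hp _ _ _ hu.bg, hp _ _ _ hu.de,
      hp _ _ _ (cd8 hc hu), hp _ _ _ (fg4 hc hu.toPre), acd_word hc hu, afg_word hu]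

end Cfsg.Agent.MultiplierSuzLifts46
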