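import Cfsg.Agent.Lib.MultiplierSuzLifts46
import Cfsg.Agent.Lib.CosetCertRestrict
import Cfsg.Agent.Lib.CosetCertSuzMA46
import Cfsg.Agent.Lib.CosetCertSuzMB46
import Cfsg.Agent.Lib.CosetCertSuzMC46
import Cfsg.Agent.Lib.CosetCertSuzMD46
import Cfsg.Agent.Lib.MultiplierDivisible41

/-!
In a central extension of the presented Suz with kernel closed under square roots, the kernel meets
the commutator subgroup in a cyclic group of order dividing 6.
-/

set_option autoImplicit false
set_option maxRecDepth 100000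
set_option synthInstance.maxSize 2000
set_option linter.style.haveILetI false

namespace Cfsg.Agent.MultiplierSuzUpper46

open Cfsg.Agent.CosetCertCore Cfsg.Agent.CosetCertTable Cfsg.Agent.CosetCertPres Cfsg.Agent.CosetCertOrder
open Cfsg.Agent.CosetCertSuzSimple (good invol)
open Cfsg.Agent.MultiplierSuzBase46 Cfsg.Agent.MultiplierSuzLifts46
open scoped commutatorElement

/-- The word saying that a word commutes with a letter. -/
abbrev centralWord (w : List Nat) (x : Nat) : List Nat := w ++ [x] ++ w.reverse ++ [x]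

section

variable {P : Type} [Group P] {π : P →* PS.Grp} (hc : π.ker ≤ Subgroup.center P)
  {u : Nat → P} (hu : Lifts π u)
include hc hu

omit hc in
theorem ker_word {w : List Nat} (hw : w ∈ PS.relWords) : π (val u w) = 1 := by
  rw [hu.map_val]
  exact val_relWords good hw

theorem central_one {w : List Nat} (hw : w ∈ PS.relWords) (x : Nat) : val u (centralWord w x) = 1 := by
  rw [val_append, val_append, val_append, val_reverse u hu.sq]
  simp only [val_cons, val_nil, mul_one]
  calc val u w * u x * (val u w)⁻¹ * u x = u x * val u w * (val u w)⁻¹ * u x := by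
        rw [← cen hc (ker_word hu hw)]
    _ = 1 := by rw [mul_inv_cancel_right, hu.sq]

theorem z_sq : val u wZ * val u wZ = 1 := by
  have hk := ker_word hu (show wZ ∈ PS.relWords by decide +kernel)
  have hac : u 0 * u 2 = u 2 * u 0 := (ac hc hu).symm.eq
  have haf : u 0 * u 5 = u 5 * u 0 := (af hc hu).symm.eq
  have hcf : u 2 * u 5 = u 5 * u 2 := (cf hc hu).eq
  rw [val_replicate] at hk ⊢
  set A := val u [0, 1, 2, 5] with hA
  have hAv : A = u 0 * u 1 * u 2 * u 5 := by simp [hA, val, mul_assoc]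
  have e : A⁻¹ = u 0 * u 1 * u 0 * A * (u 0 * u 1 * u 0)⁻¹ := by
    rw [hAv]
    simp only [mul_inv_rev, inv_of_sq u hu.sq]
    calc u 5 * (u 2 * (u 1 * u 0)) = u 0 * u 0 * (u 5 * u 2) * (u 1 * u 0) := by
          rw [hu.sq, one_mul]; group
      _ = u 0 * (u 0 * u 2) * u 5 * (u 1 * u 0) := by rw [← hcf]; group
      _ = u 0 * u 2 * (u 0 * u 5) * (u 1 * u 0) := by
          rw [show u 0 * (u 0 * u 2) = u 0 * (u 2 * u 0) from congrArg _ hac]; group
      _ = u 0 * u 2 * u 5 * u 0 * (u 1 * u 0) := by rw [haf]; group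
      _ = u 0 * (u 1 * (u 0 * u 0) * u 1) * u 2 * u 5 * (u 0 * (u 1 * u 0)) := by
          rw [hu.sq 0, mul_one, hu.sq, mul_one]; group
      _ = _ := by group
  have h5 : (A ^ 5)⁻¹ = A ^ 5 := by
    rw [← inv_pow, e, conj_pow, cen hc hk, mul_inv_cancel_right]
  exact mul_eq_one_iff_eq_inv.2 h5.symm

theorem v_cube : val u wV ^ 3 = 1 := by
  have hrels : ∀ r ∈ CosetCertSuzMA46Data.cert.rels, val u (r.map (ren [0, 1, 5, 6])) = 1 := by
    intro r hr
    rcases (show ∀ r ∈ CosetCertSuzMA46Data.cert.rels, r.map (ren [0, 1, 5, 6]) ∈ exact ∨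
        ∃ x ∈ List.range 7, r.map (ren [0, 1, 5, 6]) = centralWord wV x by decide +kernel) r hr with h | ⟨x, -, h⟩
    · exact exact_one hc hu _ h
    · rw [h]; exact central_one hc hu (by decide +kernel) x
  have h := word_eq_one u hu.sq CosetCertSuzMA46.closed (σ := [0, 1, 5, 6]) (by simp) hrels
    (by decide +kernel) (List.replicate 15 [1, 2, 3]).flatten (by decide +kernel) (by decide +kernel)
  rw [show (List.replicate 15 [1, 2, 3]).flatten.map (ren [0, 1, 5, 6]) = (List.replicate 3 wV).flatten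
    by decide, val_replicate] at h
  exact h

/-- Relators which hold in the quotient. -/
abbrev exact' : List (List Nat) := exact ++ [wV, wZ]

variable (hV : val u wV = 1) (hZ : val u wZ = 1)
include hV hZ

theorem exact'_one : ∀ w ∈ exact', val u w = 1 := by
  intro w hw
  rcases List.mem_append.mp hw with h | h
  · exact exact_one hc hu w h
  · simp only [List.mem_cons, List.not_mem_nil, or_false] at h
    rcases h with rfl | rfl
    exacts [hV, hZ]

theorem rels_of {C : Cert} {σ : List Nat}
    (h : (C.rels.all fun r => decide (r.map (ren σ) ∈ exact')) = true) :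
    ∀ r ∈ C.rels, val u (r.map (ren σ)) = 1 := fun r hr => by
  simp only [List.all_eq_true, decide_eq_true_eq] at h
  exact exact'_one hc hu hV hZ _ (h r hr)

omit hc hu hV hZ in
theorem sgens_of {C : Cert} {σ τ : List Nat}
    (h : C.sgens.map (List.map (ren σ)) = τ.map fun i => [i]) :
    ∀ w ∈ C.sgens, val u (w.map (ren σ)) ∈ span u τ := by
  intro w hw
  have h1 : w.map (ren σ) ∈ τ.map fun i => [i] := h ▸ List.mem_map_of_mem hw
  obtain ⟨i, hi, hiw⟩ := List.mem_map.mp h1
  rw [← hiw, val_cons, val_nil, mul_one]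
  exact Subgroup.subset_closure ⟨i, hi, rfl⟩

theorem bound : Finite (span u [0, 1, 2, 3, 5]) ∧ Nat.card (span u [0, 1, 2, 3, 5]) ≤ 120960 := by
  have h4 := span_card_le u hu.sq CosetCertSuzS4.closed (σ := [0, 1]) (by decide +kernel) (by simp)
    (rels_of hc hu hV hZ (by decide +kernel)) (τ := []) (by decide +kernel) (sgens_of (by decide +kernel))
    (span_nil_card _)
  have h3 := span_card_le u hu.sq CosetCertSuzS3.closed (σ := [0, 1, 2, 3]) (by decide +kernel) (by simp)
    (rels_of hc hu hV hZ (by decide +kernel)) (τ := [0, 1]) (by decide +kernel) (sgens_of (by decide +kernel)) h4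
  have h2 := span_card_le u hu.sq CosetCertSuzMB46.closed (σ := [0, 1, 2, 3, 5]) (by decide +kernel) (by simp)
    (rels_of hc hu hV hZ (by decide +kernel)) (τ := [0, 1, 2, 3]) (by decide +kernel) (sgens_of (by decide +kernel)) h3
  exact ⟨h2.1, h2.2.trans_eq (by decide +kernel)⟩

omit hc hu hV hZ in
theorem lower : 120960 ≤ Nat.card (span PS.gg [0, 1, 2, 3, 5]) := by
  haveI := CosetCertSuzSimple.upper.1
  have h1 := span_card_le PS.gg invol CosetCertSuzMC46.closed (σ := [0, 1, 2, 3, 4, 5]) (by decide +kernel) (by simp)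
    (CosetCertSuzSimple.rels_of [] (by simp) (by decide +kernel)) (τ := [0, 1, 2, 3, 5]) (by decide +kernel)
    (CosetCertSuzSimple.sgens_of (by decide +kernel)) ⟨inferInstance, le_refl _⟩
  have h0 := span_card_le PS.gg invol (Closed.ofEnumerated CosetCertSuzG.enumerated) (σ := [0, 1, 2, 3, 4, 5, 6])
    (by decide +kernel) (by simp) (CosetCertSuzSimple.rels_of [] (by simp) (by decide +kernel))
    (τ := [0, 1, 2, 3, 4, 5]) (by decide +kernel) (CosetCertSuzSimple.sgens_of (by decide +kernel))
    ⟨inferInstance, le_refl _⟩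
  have ht : Nat.card PS.Grp ≤ _ := (card_le_of_span_all good h0).2
  rw [CosetCertSuzSimple.card_and_faithful.1,
    show CosetCertSuzGData.table.N = 1782 by decide +kernel] at ht
  have h1' := h1.2
  rw [show CosetCertSuzMC46Data.table.N = 2080 by decide +kernel] at h1'
  omega

omit hc hV hZ in
theorem map_span (τ : List Nat) : (span u τ).map π = span PS.gg τ := by
  rw [span, MonoidHom.map_closure, span]
  congr 1
  ext y
  constructor
  · rintro ⟨_, ⟨i, hi, rfl⟩, rfl⟩; exact ⟨i, hi, hu.map i⟩
  · rintro ⟨i, hi, rfl⟩; exact ⟨u i, ⟨i, hi, rfl⟩, hu.map i⟩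

theorem w_sq : val u wW * val u wW = 1 := by
  have hrels : ∀ r ∈ CosetCertSuzMD46Data.cert.rels, val u (r.map (ren [0, 1, 2, 3, 4, 5])) = 1 := by
    intro r hr
    rcases (show ∀ r ∈ CosetCertSuzMD46Data.cert.rels, r.map (ren [0, 1, 2, 3, 4, 5]) ∈ exact' ∨
        ∃ x ∈ List.range 7, r.map (ren [0, 1, 2, 3, 4, 5]) = centralWord wW x by decide +kernel) r hr with h | ⟨x, -, h⟩
    · exact exact'_one hc hu hV hZ _ h
    · rw [h]; exact central_one hc hu (by decide +kernel) x
  set S := span u [0, 1, 2, 3, 4, 5]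
  have hmem : val u (wW ++ wW) ∈ span u [0, 1, 2, 3, 5] := by
    have h := val_mem_of_run CosetCertSuzMD46.closed (fun x => u (ren [0, 1, 2, 3, 4, 5] x))
      (span u [0, 1, 2, 3, 5]) (fun x => hu.sq _)
      (fun r hr => by
        have := hrels r hr
        unfold val at this ⊢
        rwa [List.map_map] at this)
      (fun r hr => by
        have := sgens_of (u := u) (C := CosetCertSuzMD46Data.cert) (σ := [0, 1, 2, 3, 4, 5])
          (τ := [0, 1, 2, 3, 5]) (by decide +kernel) r hr
        unfold val at this ⊢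
        rwa [List.map_map] at this)
      (wW ++ wW) (by decide +kernel) (by decide +kernel)
    have e : val u ((wW ++ wW).map (ren [0, 1, 2, 3, 4, 5])) =
        val (fun x => u (ren [0, 1, 2, 3, 4, 5] x)) (wW ++ wW) := by
      unfold val; rw [List.map_map]; rfl
    rw [← e, show (wW ++ wW).map (ren [0, 1, 2, 3, 4, 5]) = wW ++ wW by decide +kernel] at h
    exact h
  rw [← val_append]
  set z := val u (wW ++ wW)
  have hzk : π z = 1 := by
    show π (val u (wW ++ wW)) = 1
    rw [val_append, map_mul, ker_word hu (by decide +kernel), one_mul]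
  obtain ⟨hfin, hK⟩ := bound hc hu hV hZ
  haveI := hfin
  let f : span u [0, 1, 2, 3, 5] →* PS.Grp := π.comp (span u [0, 1, 2, 3, 5]).subtype
  have hrange : f.range = span PS.gg [0, 1, 2, 3, 5] := by
    rw [MonoidHom.range_comp, Subgroup.range_subtype, map_span hu]
  have hk : Nat.card f.ker = 1 := by
    have h := Subgroup.card_mul_index f.ker
    rw [Subgroup.index_ker, hrange] at h
    have := lower
    have hp : 0 < Nat.card f.ker := Nat.card_pos
    by_contra hne
    have h2 : 2 ≤ Nat.card f.ker := by omega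
    have := Nat.mul_le_mul h2 this
    omega
  have hz : (⟨z, hmem⟩ : span u [0, 1, 2, 3, 5]) ∈ f.ker := hzk
  rw [Subgroup.card_eq_one.1 hk, Subgroup.mem_bot] at hz
  exact congrArg Subtype.val hz

omit hu hV hZ in
theorem val_twist {s : Nat → P} {ω : P} (hω : π ω = 1) (n : Nat → Nat) (hs : ∀ x, s x = ω ^ n x) :
    ∀ r : List Nat, val (fun x => u x * s x) r = val u r * ω ^ (r.map n).sum
  | [] => by simp [val]
  | x :: r => by
    rw [val_cons, val_cons, val_twist hω n hs r, hs, List.map_cons, List.sum_cons, pow_add]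
    calc u x * ω ^ n x * (val u r * ω ^ (r.map n).sum) = u x * (ω ^ n x * val u r) * ω ^ (r.map n).sum := by group
      _ = u x * (val u r * ω ^ n x) * ω ^ (r.map n).sum := by
          rw [cen hc (show π (ω ^ n x) = 1 by rw [map_pow, hω, one_pow]) (val u r)]
      _ = _ := by group

/-- The extension splits. -/
theorem exists_section : ∃ φ : PS.Grp →* P, ∀ k, π (φ k) = k := by
  set ω := val u wW with hωdef
  have hω : π ω = 1 := ker_word hu (by decide +kernel)
  have hω2 : ω ^ 2 = 1 := by rw [pow_two]; exact w_sq hc hu hV hZ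
  let n : Nat → Nat := fun x => if x = 3 ∨ x = 4 then 1 else 0
  let s : Nat → P := fun x => ω ^ n x
  have hev : ∀ k, k % 2 = 0 → ω ^ k = 1 := fun k hk => by
    rw [← Nat.div_add_mod k 2, hk, add_zero, pow_mul, hω2, one_pow]
  have hsq : ∀ x, u x * s x * (u x * s x) = 1 := fun x => by
    have := val_twist (u := u) hc hω (s := s) n (fun _ => rfl) [x, x]
    simp only [val_cons, val_nil, mul_one, hu.sq, one_mul] at this
    rw [this, hev _ (by simp; omega)]
  have hone : ∀ r ∈ PS.relWords, val (fun x => u x * s x) r = 1 := by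
    intro r hr
    rw [val_twist (u := u) hc hω n (fun _ => rfl)]
    rcases (show ∀ r ∈ PS.relWords, (r ∈ exact' ∧ (r.map fun x => if x = 3 ∨ x = 4 then 1 else 0).sum % 2 = 0) ∨
        (r = wW ∧ (r.map fun x => if x = 3 ∨ x = 4 then 1 else 0).sum % 2 = 1) by decide +kernel) r hr with
      ⟨h, he⟩ | ⟨rfl, he⟩
    · rw [exact'_one hc hu hV hZ r h, one_mul, hev _ he]
    · rw [← hωdef, ← pow_succ']
      exact hev _ (by show ((wW.map n).sum + 1) % 2 = 0; simp only [n]; omega)
  let φ : PS.Grp →* P := PresentedGroup.toGroup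
    (CosetCertRestrict.lift_rels good (by decide +kernel) (fun x => u x * s x) hsq hone (by decide +kernel))
  refine ⟨φ, fun k => DFunLike.congr_fun (f := π.comp φ) (g := MonoidHom.id _) ?_ k⟩
  refine PresentedGroup.ext fun a => ?_
  show π (φ (PresentedGroup.of a)) = PresentedGroup.of a
  rw [show φ (PresentedGroup.of a) = u (PS.gens.idxOf a) * s (PS.gens.idxOf a) from PresentedGroup.toGroup.of _,
    map_mul, hu.map, show π (s (PS.gens.idxOf a)) = 1 by show π (ω ^ _) = 1; rw [map_pow, hω, one_pow],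
    mul_one, Pres.gg, gen_idxOf good]

end

/-- The kernel meets the commutator subgroup in a subgroup of a cyclic group of order dividing 6. -/
theorem exists_gen {P : Type} [Group P] (π : P →* PS.Grp) (hs : Function.Surjective π)
    (hc : π.ker ≤ Subgroup.center P) (hr : ∀ z ∈ π.ker, ∃ w ∈ π.ker, w * w = z) :
    ∃ y : P, y ^ 6 = 1 ∧ ∀ z ∈ π.ker, z ∈ commutator P → z ∈ Subgroup.zpowers y := by
  obtain ⟨u, hu⟩ := exists_lifts hs hc hr
  set v := val u wV with hv
  set z4 := val u wZ with hz4
  have kv : π v = 1 := ker_word hu (by decide +kernel)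
  have kz : π z4 = 1 := ker_word hu (by decide +kernel)
  have hv3 : v ^ 3 = 1 := v_cube hc hu
  have hz2 : z4 ^ 2 = 1 := by rw [pow_two]; exact z_sq hc hu
  have hcm : Commute v z4 := cen hc kz v
  set y := v * z4 with hy
  have ky : π y = 1 := by rw [map_mul, kv, kz, one_mul]
  have hyk : Subgroup.zpowers y ≤ π.ker := Subgroup.zpowers_le.2 ky
  have y4 : y ^ 4 = v := by
    rw [hy, hcm.mul_pow, show (4 : ℕ) = 3 + 1 from rfl, pow_succ, hv3, one_mul,
      show (3 + 1 : ℕ) = 2 * 2 from rfl, pow_mul, hz2, one_pow, mul_one]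
  have y3 : y ^ 3 = z4 := by
    rw [hy, hcm.mul_pow, hv3, one_mul, show (3 : ℕ) = 2 + 1 from rfl, pow_succ, hz2, one_mul]
  refine ⟨y, ?_, fun z hz hzc => ?_⟩
  · rw [show (6 : ℕ) = 3 * 2 from rfl, pow_mul, y3, hz2]
  haveI : (Subgroup.zpowers y).Normal := ⟨fun a ha g => by
    rw [cen hc (hyk ha) g, mul_inv_cancel_right]; exact ha⟩
  let q : P →* P ⧸ Subgroup.zpowers y := QuotientGroup.mk' _
  let π' : P ⧸ Subgroup.zpowers y →* PS.Grp := QuotientGroup.lift _ π hyk
  have hc' : π'.ker ≤ Subgroup.center _ := by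
    intro a ha
    obtain ⟨p, rfl⟩ := QuotientGroup.mk'_surjective _ a
    rw [Subgroup.mem_center_iff]
    intro b
    obtain ⟨r, rfl⟩ := QuotientGroup.mk'_surjective _ b
    rw [← map_mul, ← map_mul, cen hc (show π p = 1 from ha) r]
  have qmap : ∀ a b : P, q (a * b) = q a * q b := map_mul q
  have qpow : ∀ (a : P) (k : Nat), q (a ^ k) = q a ^ k := map_pow q
  have qone : ∀ a ∈ Subgroup.zpowers y, q a = 1 := fun a ha => (QuotientGroup.eq_one_iff a).2 ha
  have qval : ∀ w, val (fun x => q (u x)) w = q (val u w) := fun w => by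
    unfold val; rw [map_list_prod, List.map_map]; rfl
  have hu' : Lifts π' (fun x => q (u x)) :=
    { map := fun x => hu.map x
      sq := fun x => by rw [← qmap, hu.sq, map_one]
      ab := by rw [← qmap, ← qpow, hu.ab, map_one]
      bc := by rw [← qmap, ← qpow, hu.bc, map_one]
      bf := by rw [← qmap, ← qpow, hu.bf, map_one]
      bg := by rw [← qmap, ← qpow, hu.bg, map_one]
      de := by rw [← qmap, ← qpow, hu.de, map_one]
      afg := by rw [← qmap, ← qpow, ← hu.afg] }
  obtain ⟨φ, hφ⟩ := exists_section hc' hu'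
    (by rw [qval]; exact qone _ ⟨((4 : ℕ) : ℤ), (zpow_natCast y 4).trans y4⟩)
    (by rw [qval]; exact qone _ ⟨((3 : ℕ) : ℤ), (zpow_natCast y 3).trans y3⟩)
  have key : ∀ a, ∃ c ∈ π'.ker, a = c * φ (π' a) := fun a =>
    ⟨a * (φ (π' a))⁻¹, by rw [MonoidHom.mem_ker, map_mul, map_inv, hφ, mul_inv_cancel],
      by rw [inv_mul_cancel_right]⟩
  have hcomm : (commutator P).map q ≤ φ.range := by
    rw [_root_.commutator_def, Subgroup.map_commutator, Subgroup.commutator_le]
    intro a _ b _
    obtain ⟨c, hc1, ha⟩ := key a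
    obtain ⟨d, hd1, hb⟩ := key b
    have hcc := Subgroup.mem_center_iff.1 (hc' hc1)
    have hdc := Subgroup.mem_center_iff.1 (hc' hd1)
    refine ⟨⁅π' a, π' b⁆, ?_⟩
    rw [map_commutatorElement]
    conv_rhs => rw [ha, hb]
    rw [MultiplierDivisible41.comm_left hcc, ← commutatorElement_inv (d * φ (π' b)),
      MultiplierDivisible41.comm_left hdc, commutatorElement_inv]
  obtain ⟨k, hk⟩ := hcomm (Subgroup.mem_map_of_mem q hzc)
  have hk1 : k = 1 := by rw [← hφ k, hk]; exact hz
  rw [hk1, map_one] at hk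
  exact (QuotientGroup.eq_one_iff z).1 hk.symm

end Cfsg.Agent.MultiplierSuzUpper46
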