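import Cfsg.Agent.Lib.CosetCertSuzSimple

/-!
Word identities in the presented group Suz used for its multiplier.
-/

set_option autoImplicit false
set_option maxRecDepth 100000
set_option synthInstance.maxSize 2000
set_option linter.style.haveILetI false

namespace Cfsg.Agent.MultiplierSuzBase46

open Cfsg.Agent.CosetCertCore Cfsg.Agent.CosetCertTable Cfsg.Agent.CosetCertPres Cfsg.Agent.CosetCertOrder
open Cfsg.Agent.CosetCertSuzSimple (good invol)

/-- The presentation. -/
abbrev PS : Pres := CosetCertSuzGData.pres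

/-- A word acting trivially on the 1782 cosets is trivial. -/
theorem word_one {w : List Nat} (hl : ∀ x ∈ w, x < 7)
    (h : allFrom (fun i => Nat.beq (CosetCertSuzGData.table.run w i) i) CosetCertSuzGData.table.N 0 = true) :
    val PS.gg w = 1 := by
  apply CosetCertSuzSimple.card_and_faithful.2
  rw [map_one, rho_val CosetCertSuzG.enumerated (fun x hx => (show 7 = CosetCertSuzGData.table.NG by decide +kernel) ▸ hl x hx),
    ← inv_eq_one]
  ext i
  rw [← Equiv.Perm.smul_def, ← act_eq _ (perm_sq CosetCertSuzG.enumerated.table),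
    act_perm CosetCertSuzG.enumerated.table w (fun x hx => (show 7 = CosetCertSuzGData.table.NG by decide +kernel) ▸ hl x hx),
    Nat.beq_eq.mp ((allFrom_iff _ _ _).mp h i (Nat.zero_le _) (by have := i.2; omega))]
  rfl

theorem comm_word {a b : List Nat} (hl : ∀ x ∈ a ++ b, x < 7)
    (h : allFrom (fun i => Nat.beq (CosetCertSuzGData.table.run (a ++ b ++ (b ++ a).reverse) i) i)
      CosetCertSuzGData.table.N 0 = true) : Commute (val PS.gg a) (val PS.gg b) := by
  have := word_one (w := a ++ b ++ (b ++ a).reverse) (fun x hx => by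
    simp only [List.mem_append, List.mem_reverse] at hx hl
    exact hl x (by tauto)) h
  rw [val_append, val_append, val_reverse _ invol, val_append, mul_inv_eq_one] at this
  exact this

/-- A conjugator centralising c, exchanging e into a product with f. -/
def hF : List Nat := [1, 2, 3, 2, 1, 0, 5, 1, 3, 2, 3, 1, 2, 1, 3, 2, 3, 1, 2, 1, 3, 4, 1, 3, 2, 3, 1, 2, 1, 3, 2, 3, 1, 2, 1, 3, 0, 5, 1, 2, 3, 2, 1]

/-- A conjugator centralising c, exchanging e into a product with g. -/
def hG : List Nat := [1, 2, 3, 2, 1, 0, 6, 1, 3, 2, 3, 1, 2, 1, 3, 2, 3, 1, 2, 1, 3, 4, 1, 3, 2, 3, 1, 2, 1, 3, 2, 3, 1, 2, 1, 3, 0, 6, 1, 2, 3, 2, 1]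

/-- A word centralising a. -/
def kOne : List Nat := [1, 5, 2, 6, 0, 1, 5, 0, 1, 0, 1, 0, 5, 1, 0, 6, 2, 5, 1, 0, 1, 5, 2, 6, 0, 1, 5, 0, 1]

/-- A word centralising a. -/
def kTwo : List Nat := [4, 1, 4, 2, 3, 5, 2, 6, 1, 0, 1, 6, 2, 5, 3, 2, 4, 1, 4, 0, 4, 1, 4, 2, 3, 5, 2, 6, 1]

/-- Factors of an element of the centraliser of a carrying (c, dcd) to (f, g). -/
def factors : List (List Nat × Nat) := [(kOne, 3), (kTwo, 4), ([], 3), (kTwo, 3), (kOne, 3), (kTwo, 4), ([], 4), (kOne, 3)]

theorem hF_comm : Commute (val PS.gg hF) (val PS.gg [2]) :=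
  comm_word (by decide +kernel) (by decide +kernel)

theorem hG_comm : Commute (val PS.gg hG) (val PS.gg [2]) :=
  comm_word (by decide +kernel) (by decide +kernel)

theorem hF_split : val PS.gg ([4] ++ hF.reverse ++ [4] ++ hF ++ [5]) = 1 :=
  word_one (by decide +kernel) (by decide +kernel)

theorem hG_split : val PS.gg ([4] ++ hG.reverse ++ [4] ++ hG ++ [6]) = 1 :=
  word_one (by decide +kernel) (by decide +kernel)

theorem kOne_comm : Commute (val PS.gg kOne) (val PS.gg [0]) :=
  comm_word (by decide +kernel) (by decide +kernel)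

theorem kTwo_comm : Commute (val PS.gg kTwo) (val PS.gg [0]) :=
  comm_word (by decide +kernel) (by decide +kernel)

/-- The word of the factors. -/
def factorWord : List Nat := (factors.map fun p => p.1.reverse ++ [p.2] ++ p.1).flatten

theorem carry_c : val PS.gg (factorWord.reverse ++ [2] ++ factorWord ++ [5]) = 1 :=
  word_one (by decide +kernel) (by decide +kernel)

theorem carry_dcd : val PS.gg (factorWord.reverse ++ [3, 2, 3] ++ factorWord ++ [6]) = 1 :=
  word_one (by decide +kernel) (by decide +kernel)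

/-- Generators commuting with each other. -/
theorem pair_comm {i j : Nat} (h : [i, j, i, j] ∈ PS.relWords ∨ [j, i, j, i] ∈ PS.relWords) :
    Commute (PS.gg i) (PS.gg j) := by
  have key : ∀ i j, [i, j, i, j] ∈ PS.relWords → Commute (PS.gg i) (PS.gg j) := by
    intro i j h
    have := val_relWords good h
    simp only [val_cons, val_nil, mul_one] at this
    have e : (PS.gg i * PS.gg j)⁻¹ = PS.gg i * PS.gg j := inv_eq_of_mul_eq_one_right (by rw [← this, mul_assoc])
    rw [mul_inv_rev, inv_of_sq _ invol, inv_of_sq _ invol] at e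
    exact e.symm
  rcases h with h | h
  exacts [key i j h, (key j i h).symm]

end Cfsg.Agent.MultiplierSuzBase46
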