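import Cfsg.Agent.Lib.PSLSimple
import Cfsg.Agent.Lib.PSLCard

/-!
A linear group `G` containing `L ≅ SL₂(q)` acting naturally, whose Sylow `p`-subgroups normalise `L`:
a Sylow subgroup is root group extended by field automorphisms, two conjugate root lines meet trivially
unless `q = 4` and a field involution is present, and then `L` is normal.
-/

set_option autoImplicit false
set_option linter.all false

namespace Cfsg.Agent.NaturalOvergroup35

open Matrix
open scoped MatrixGroups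

variable {G : Type*} [Group G] [Finite G] {W : Type*} [AddCommGroup W] [DistribMulAction G W]
variable {F : Type*} [Field F] [Fintype F]

/-- The data of a natural module. -/
structure Nat2 (G W F : Type*) [Group G] [AddCommGroup W] [DistribMulAction G W] [Field F] [Fintype F] where
  L : Subgroup G
  ρ : ↥L ≃* SL(2, F)
  ψ : W ≃+ (Fin 2 → F)
  equiv : ∀ (l : ↥L) (w : W), ψ ((l : G) • w) = (ρ l : Matrix (Fin 2) (Fin 2) F) *ᵥ ψ w
  faithful : ∀ g : G, (∀ w : W, g • w = w) → g = 1

namespace Nat2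

variable (N : Nat2 G W F)

/-- A matrix of determinant one. -/
def mat (a b c d : F) (h : a * d - b * c = 1) : SL(2, F) :=
  ⟨!![a, b; c, d], by rw [Matrix.det_fin_two_of]; exact h⟩

@[simp] theorem mat_apply (a b c d : F) (h : a * d - b * c = 1) :
    (mat a b c d h : Matrix (Fin 2) (Fin 2) F) = !![a, b; c, d] := rfl

/-- The vector with coordinates `(x, y)`. -/
def vec (x y : F) : W := N.ψ.symm ![x, y]

theorem coord0 (x y : F) : N.ψ (N.vec x y) 0 = x := by simp [vec]

theorem coord1 (x y : F) : N.ψ (N.vec x y) 1 = y := by simp [vec]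

theorem vec_coords (w : W) : N.vec (N.ψ w 0) (N.ψ w 1) = w := by
  apply N.ψ.injective
  funext i
  fin_cases i <;> simp [vec]

theorem vec_add (x y x' y' : F) : N.vec x y + N.vec x' y' = N.vec (x + x') (y + y') := by
  apply N.ψ.injective
  funext i
  fin_cases i <;> simp [vec]

theorem vec_inj {x y x' y' : F} (h : N.vec x y = N.vec x' y') : x = x' ∧ y = y' :=
  ⟨by simpa [vec] using congrArg (fun w => N.ψ w 0) h, by simpa [vec] using congrArg (fun w => N.ψ w 1) h⟩

theorem vec_zero : N.vec 0 0 = 0 := by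
  apply N.ψ.injective
  funext i
  fin_cases i <;> simp [vec]

theorem coe_mulVec (M : SL(2, F)) (x y : F) :
    (M : Matrix (Fin 2) (Fin 2) F) *ᵥ ![x, y] = ![M 0 0 * x + M 0 1 * y, M 1 0 * x + M 1 1 * y] := by
  funext i
  fin_cases i <;> simp [Matrix.mulVec, dotProduct, Fin.sum_univ_two]

theorem smul_vec (l : ↥N.L) (x y : F) :
    (l : G) • N.vec x y = N.vec (N.ρ l 0 0 * x + N.ρ l 0 1 * y) (N.ρ l 1 0 * x + N.ρ l 1 1 * y) := by
  apply N.ψ.injective
  rw [N.equiv, vec, AddEquiv.apply_symm_apply, coe_mulVec, vec, AddEquiv.apply_symm_apply]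

/-- The fixed line. -/
def C : AddSubgroup W where
  carrier := {w | N.ψ w 1 = 0}
  zero_mem' := by simp
  add_mem' := fun {a b} (ha : N.ψ a 1 = 0) (hb : N.ψ b 1 = 0) => by simp [ha, hb]
  neg_mem' := fun {a} (ha : N.ψ a 1 = 0) => by simp [ha]

theorem mem_C {w : W} : w ∈ N.C ↔ N.ψ w 1 = 0 := Iff.rfl

theorem vec_mem_C {x y : F} : N.vec x y ∈ N.C ↔ y = 0 := by rw [mem_C, coord1]

theorem C_eq {w : W} (hw : w ∈ N.C) : w = N.vec (N.ψ w 0) 0 := by
  conv_lhs => rw [← N.vec_coords w, (mem_C N).mp hw]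

/-- The root element. -/
noncomputable def u (a : F) : G :=
  (N.ρ.symm (SpecialLinearGroup.transvection (show (0 : Fin 2) ≠ 1 by decide) a) : G)

theorem u_mem_L (a : F) : N.u a ∈ N.L := SetLike.coe_mem _

theorem u_vec (a x y : F) : N.u a • N.vec x y = N.vec (x + a * y) y := by
  rw [u, N.smul_vec, MulEquiv.apply_symm_apply]
  simp [SpecialLinearGroup.transvection_coe, Matrix.single_apply]

theorem u_smul (a : F) (w : W) : N.u a • w = w + N.vec (a * N.ψ w 1) 0 := by
  conv_lhs => rw [← N.vec_coords w, N.u_vec]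
  conv_rhs => rw [← N.vec_coords w, N.vec_add, N.coord1]
  rw [add_zero]

include N in
theorem ext_smul {g g' : G} (h : ∀ w : W, g • w = g' • w) : g = g' :=
  inv_mul_eq_one.mp (N.faithful _ fun w => by rw [mul_smul, ← h, inv_smul_smul])

theorem u_add (a b : F) : N.u (a + b) = N.u a * N.u b := N.ext_smul fun w => by
  rw [mul_smul, N.u_smul b, N.u_smul a, N.u_smul (a + b), map_add]
  simp only [Pi.add_apply, N.coord1, add_zero]
  rw [add_assoc, N.vec_add, add_zero, ← add_mul, add_comm b a]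

theorem u_zero : N.u 0 = 1 := N.ext_smul fun w => by
  rw [N.u_smul, zero_mul, N.vec_zero, add_zero, one_smul]

theorem u_inj {a b : F} (h : N.u a = N.u b) : a = b := by
  have := congrArg (fun g : G => g • N.vec 0 1) h
  simp only [u_vec, zero_add, mul_one] at this
  exact (N.vec_inj this).1

/-- The root group as a homomorphism. -/
noncomputable def uHom : Multiplicative F →* G where
  toFun a := N.u (Multiplicative.toAdd a)
  map_one' := N.u_zero
  map_mul' a b := N.u_add _ _

/-- The root group. -/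
noncomputable def A : Subgroup G := N.uHom.range

theorem mem_A {g : G} : g ∈ N.A ↔ ∃ a : F, N.u a = g :=
  ⟨fun ⟨a, ha⟩ => ⟨Multiplicative.toAdd a, ha⟩, fun ⟨a, ha⟩ => ⟨Multiplicative.ofAdd a, ha⟩⟩

theorem card_A : Nat.card N.A = Fintype.card F := by
  rw [← Nat.card_eq_fintype_card]
  exact (Nat.card_congr (MonoidHom.ofInjective (f := N.uHom) fun a b h =>
    Multiplicative.toAdd.injective (N.u_inj h)).toEquiv).symm

theorem A_le_L : N.A ≤ N.L := fun g hg => by
  obtain ⟨a, rfl⟩ := (mem_A N).mp hg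
  exact N.u_mem_L a

theorem A_fix_C {a : G} (ha : a ∈ N.A) {w : W} (hw : w ∈ N.C) : a • w = w := by
  obtain ⟨a, rfl⟩ := (mem_A N).mp ha
  rw [N.u_smul, (mem_C N).mp hw, mul_zero, N.vec_zero, add_zero]

theorem A_quad {a : G} (ha : a ∈ N.A) (w : W) : a • w - w ∈ N.C := by
  obtain ⟨a, rfl⟩ := (mem_A N).mp ha
  rw [N.u_smul, add_sub_cancel_left, vec_mem_C]

theorem fix_elem {a : G} (ha : a ∈ N.A) (ha1 : a ≠ 1) {w : W} (hw : a • w = w) : w ∈ N.C := by
  obtain ⟨a, rfl⟩ := (mem_A N).mp ha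
  rw [N.u_smul, add_eq_left, ← N.vec_zero] at hw
  rcases mul_eq_zero.mp (N.vec_inj hw).1 with h0 | h0
  · exact absurd (h0.symm ▸ N.u_zero) ha1
  · exact h0

theorem L_fix_C {l : G} (hl : l ∈ N.L) (h : ∀ x : F, l • N.vec x 0 = N.vec x 0) : l ∈ N.A := by
  have h1 := h 1
  rw [show l = ((⟨l, hl⟩ : ↥N.L) : G) from rfl, N.smul_vec] at h1
  obtain ⟨h00, h10⟩ := N.vec_inj h1
  simp only [mul_one, mul_zero, add_zero] at h00 h10
  have hdet := (N.ρ ⟨l, hl⟩).prop
  rw [Matrix.det_fin_two, h00, h10, one_mul, mul_zero, sub_zero] at hdet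
  refine (mem_A N).mpr ⟨N.ρ ⟨l, hl⟩ 0 1, N.ext_smul fun w => ?_⟩
  conv_rhs => rw [← N.vec_coords w, show l = ((⟨l, hl⟩ : ↥N.L) : G) from rfl, N.smul_vec]
  rw [N.u_smul]
  conv_lhs => arg 1; rw [← N.vec_coords w]
  rw [N.vec_add, h00, h10, hdet]
  simp

/-- The stabiliser of the line. -/
def X : Subgroup G where
  carrier := {g | ∀ w : W, g • w ∈ N.C ↔ w ∈ N.C}
  one_mem' := fun w => by rw [one_smul]
  mul_mem' := fun {a b} ha hb w => by rw [mul_smul, ha, hb]
  inv_mem' := fun {a} ha w => by rw [← ha (a⁻¹ • w), smul_inv_smul]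

theorem A_le_X : N.A ≤ N.X := fun a ha w => by
  constructor
  · intro h
    have := N.C.sub_mem h (N.A_quad ha w)
    rwa [sub_sub_cancel] at this
  · intro h
    rw [N.A_fix_C ha h]
    exact h

theorem mem_X_of_maps [Finite W] {g : G} (h : ∀ w ∈ N.C, g • w ∈ N.C) : g ∈ N.X := by
  intro w
  refine ⟨fun hw => ?_, h w⟩
  let f : N.C → N.C := fun v => ⟨g • (v : W), h v v.2⟩
  have hf : Function.Injective f := fun a b hab => Subtype.ext (MulAction.injective g (congrArg Subtype.val hab))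
  obtain ⟨v, hv⟩ := (Finite.injective_iff_surjective.mp hf) ⟨g • w, hw⟩
  exact MulAction.injective g (congrArg Subtype.val hv) ▸ v.2

/-- The action on the line. -/
def al (g : G) (x : F) : F := N.ψ (g • N.vec x 0) 0

/-- The action on the quotient by the line. -/
def be (g : G) (y : F) : F := N.ψ (g • N.vec 0 y) 1

/-- The field part of an element of the line stabiliser. -/
def tau (g : G) (x : F) : F := N.al g x / N.al g 1

theorem smul_line {g : G} (hg : g ∈ N.X) (x : F) : g • N.vec x 0 = N.vec (N.al g x) 0 :=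
  N.C_eq ((hg _).mpr (N.vec_mem_C.mpr rfl))

theorem al_mul {g : G} (k : G) (hk : k ∈ N.X) (x : F) : N.al (g * k) x = N.al g (N.al k x) := by
  rw [al, mul_smul, N.smul_line hk]
  rfl

theorem al_add (g : G) (x y : F) : N.al g (x + y) = N.al g x + N.al g y := by
  have : N.vec (x + y) 0 = N.vec x 0 + N.vec y 0 := by rw [vec_add, add_zero]
  rw [al, this, smul_add, map_add]
  rfl

theorem al_zero (g : G) : N.al g 0 = 0 := by simp [al, vec_zero]

theorem al_inj {g : G} (hg : g ∈ N.X) {x y : F} (h : N.al g x = N.al g y) : x = y := by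
  have := N.smul_line hg x
  rw [h, ← N.smul_line hg y] at this
  exact (N.vec_inj (MulAction.injective g this)).1

theorem al_one_ne {g : G} (hg : g ∈ N.X) : N.al g 1 ≠ 0 := fun h =>
  one_ne_zero (N.al_inj hg (h.trans (N.al_zero g).symm))

variable {p : ℕ} [hp : Fact p.Prime]

section Semilinear

variable {t : G} (hL : t ∈ Subgroup.normalizer (N.L : Set G)) (hX : t ∈ N.X)
include hL hX

theorem conj_u (a : F) : ∃ b : F, N.u b = t * N.u a * t⁻¹ := by
  refine (mem_A N).mp (N.L_fix_C ((Subgroup.mem_normalizer_iff.mp hL _).mp (N.u_mem_L a)) fun x => ?_)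
  have h1 : t⁻¹ • N.vec x 0 ∈ N.C := (N.X.inv_mem hX _).mpr (N.vec_mem_C.mpr rfl)
  rw [mul_smul, mul_smul, N.A_fix_C ((mem_A N).mpr ⟨a, rfl⟩) h1, smul_inv_smul]

theorem al_be {a b : F} (hab : N.u b = t * N.u a * t⁻¹) (y : F) :
    N.al t (a * y) = b * N.be t y := by
  have h1 : N.u b • t • N.vec 0 y = t • N.u a • N.vec 0 y := by
    rw [hab, mul_smul, mul_smul, inv_smul_smul]
  rw [N.u_smul, N.u_smul a, smul_add, N.coord1, add_right_inj] at h1
  rw [N.smul_line hX] at h1
  exact (N.vec_inj h1).1.symm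

theorem tau_mul (x y : F) : N.tau t (x * y) = N.tau t x * N.tau t y := by
  obtain ⟨b, hb⟩ := N.conj_u hL hX x
  obtain ⟨c, hc⟩ := N.conj_u hL hX 1
  have h1 := N.al_be hL hX hb y
  have h2 := N.al_be hL hX hc y
  have h3 := N.al_be hL hX hb 1
  have h4 := N.al_be hL hX hc 1
  rw [mul_one] at h3 h4
  rw [one_mul] at h2
  have hne := N.al_one_ne hX
  rw [tau, tau, tau, h1, h3, h2, h4]
  rw [h4] at hne
  field_simp

theorem tau_one : N.tau t 1 = 1 := div_self (N.al_one_ne hX)

theorem tau_add (x y : F) : N.tau t (x + y) = N.tau t x + N.tau t y := by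
  rw [tau, N.al_add, add_div]
  rfl

theorem tau_inj {x y : F} (h : N.tau t x = N.tau t y) : x = y :=
  N.al_inj hX ((div_left_inj' (N.al_one_ne hX)).mp h)

/-- The field automorphism. -/
noncomputable def tauAut : F ≃+* F :=
  RingEquiv.ofBijective
    ({ toFun := N.tau t
       map_one' := N.tau_one hL hX
       map_mul' := N.tau_mul hL hX
       map_zero' := by simp [tau, al_zero]
       map_add' := N.tau_add hL hX } : F →+* F)
    (Finite.injective_iff_bijective.mp fun _ _ => N.tau_inj hL hX)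

theorem al_eq (x : F) : N.al t x = N.al t 1 * N.tau t x :=
  (mul_div_cancel₀ _ (N.al_one_ne hX)).symm

end Semilinear

theorem tau_comp {s t : G} (hsL : s ∈ Subgroup.normalizer (N.L : Set G)) (hs : s ∈ N.X)
    (htL : t ∈ Subgroup.normalizer (N.L : Set G)) (ht : t ∈ N.X) (x : F) :
    N.tau (s * t) x = N.tau s (N.tau t x) := by
  have h1 := N.al_one_ne hs
  have h2 : N.al (s * t) 1 ≠ 0 := N.al_one_ne (N.X.mul_mem hs ht)
  rw [tau, N.al_mul t ht, N.al_mul t ht, N.al_eq hsL hs (N.al t x), N.al_eq hsL hs (N.al t 1)]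
  rw [mul_div_mul_left _ _ h1, N.al_eq htL ht x, N.tau_mul hsL hs]
  rw [mul_comm, mul_div_assoc, div_self, mul_one]
  exact fun h0 => N.al_one_ne ht (N.tau_inj hsL hs (h0.trans (by simp [tau, al_zero])))

theorem eq_one_of_pow [CharP F p] {e : F} {k : ℕ} (h : e ^ p ^ k = 1) : e = 1 := by
  haveI : ExpChar F p := ExpChar.prime hp.out
  exact iterateFrobenius_inj F p k (by simpa [iterateFrobenius_def] using h)

/-- A `p`-element normalising `L` and the line with trivial field part is a root element. -/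
theorem mem_A_of_tau [Finite W] [CharP F p] {t : G} (hL : t ∈ Subgroup.normalizer (N.L : Set G))
    (hX : t ∈ N.X) {k : ℕ} (hk : t ^ p ^ k = 1) (ht : ∀ x, N.tau t x = x) : t ∈ N.A := by
  have hal : ∀ x, N.al t x = N.al t 1 * x := fun x => by rw [N.al_eq hL hX x, ht]
  have hal1 : N.al t 1 = 1 := by
    have h1 : ∀ n : ℕ, t ^ n • N.vec 1 0 = N.vec (N.al t 1 ^ n) 0 := by
      intro n
      induction n with
      | zero => simp
      | succ n ih => rw [pow_succ', mul_smul, ih, N.smul_line hX, hal, pow_succ']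
    have := h1 (p ^ k)
    rw [hk, one_smul] at this
    exact eq_one_of_pow (p := p) (N.vec_inj this).1.symm
  obtain ⟨c, hc⟩ := N.conj_u hL hX 1
  have hbe : ∀ y, N.be t y = N.be t 1 * y := by
    intro y
    have h1 := N.al_be hL hX hc y
    have h2 := N.al_be hL hX hc 1
    rw [one_mul, hal, hal1, one_mul] at h1
    rw [one_mul, hal1] at h2
    calc N.be t y = (c * N.be t 1) * N.be t y := by rw [← h2, one_mul]
      _ = N.be t 1 * (c * N.be t y) := by ring
      _ = _ := by rw [← h1]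
  set φ : F → F := fun y => N.ψ (t • N.vec 0 y) 0 with hφ
  have htv : ∀ x y, t • N.vec x y = N.vec (x + φ y) (N.be t 1 * y) := by
    intro x y
    have e : N.vec x y = N.vec x 0 + N.vec 0 y := by rw [vec_add]; simp
    rw [e, smul_add, N.smul_line hX, hal, hal1, one_mul, ← N.vec_coords (t • N.vec 0 y), N.vec_add,
      zero_add]
    show N.vec _ (N.be t y) = _
    rw [hbe]
  have hbe1 : N.be t 1 = 1 := by
    have h1 : ∀ n : ℕ, N.ψ (t ^ n • N.vec 0 1) 1 = N.be t 1 ^ n := by
      intro n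
      induction n with
      | zero => simp [coord1]
      | succ n ih =>
        rw [pow_succ', mul_smul, ← N.vec_coords (t ^ n • N.vec 0 1), htv, coord1, ih, pow_succ']
    have := h1 (p ^ k)
    rw [hk, one_smul, coord1] at this
    exact eq_one_of_pow (p := p) this.symm
  simp only [hbe1, one_mul] at htv
  have hlin : ∀ x, φ x = φ 1 * x := by
    set s : ↥N.L := N.ρ.symm (mat 0 (-1) 1 0 (by ring)) with hs
    have hsv : ∀ x y, (s : G) • N.vec x y = N.vec (-y) x := fun x y => by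
      rw [N.smul_vec, hs, MulEquiv.apply_symm_apply]
      simp
    set m : ↥N.L := ⟨t * s * t⁻¹, (Subgroup.mem_normalizer_iff.mp hL _).mp s.2⟩
    have hm : ∀ x, (m : G) • N.vec x 0 = N.vec (φ x) x := by
      intro x
      show (t * (s : G) * t⁻¹) • _ = _
      have e : t⁻¹ • N.vec x 0 = N.vec x 0 := by
        rw [inv_smul_eq_iff, N.smul_line hX, hal, hal1, one_mul]
      rw [mul_smul, mul_smul, e, hsv, htv, neg_zero, zero_add]
    intro x
    have h1 := hm x
    have h2 := hm 1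
    rw [N.smul_vec] at h1 h2
    rw [← (N.vec_inj h1).1, ← (N.vec_inj h2).1]
    ring
  refine (mem_A N).mpr ⟨φ 1, N.ext_smul fun w => ?_⟩
  conv_rhs => rw [← N.vec_coords w, htv]
  rw [N.u_smul]
  conv_lhs => arg 1; rw [← N.vec_coords w]
  rw [N.vec_add, hlin (N.ψ w 1)]
  simp

theorem not_dvd_index_A [CharP F p] : ¬ p ∣ (N.A.subgroupOf N.L).index := by
  have h1 := (N.A.subgroupOf N.L).card_mul_index
  rw [Nat.card_congr (Subgroup.subgroupOfEquivOfLe N.A_le_L).toEquiv, N.card_A,
    Nat.card_congr N.ρ.toEquiv, Cfsg.Agent.PSLCard.card_SL2, Nat.card_eq_fintype_card] at h1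
  rw [Nat.eq_of_mul_eq_mul_left Fintype.card_pos h1]
  intro hdvd
  obtain ⟨n, -, hn⟩ := FiniteField.card F p
  have h2 : p ∣ Fintype.card F ^ 2 := by rw [hn, ← pow_mul]; exact dvd_pow_self p (by simp)
  have h3 : 1 ≤ Fintype.card F ^ 2 := Nat.one_le_pow _ _ Fintype.card_pos
  have h4 := Nat.dvd_sub h2 hdvd
  rw [Nat.sub_sub_self h3] at h4
  exact hp.out.not_dvd_one h4

theorem isPGroup_A [CharP F p] : IsPGroup p N.A := by
  obtain ⟨n, -, hn⟩ := FiniteField.card F p
  exact IsPGroup.of_card (N.card_A.trans hn)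

theorem exists_T [CharP F p]
    (hSyl : ∀ S : Sylow p ↥(Subgroup.normalizer (N.L : Set G)), ∀ P : Sylow p G, Nat.card S = Nat.card P) :
    ∃ T : Sylow p G, N.A ≤ T ∧ (T : Subgroup G) ≤ Subgroup.normalizer (N.L : Set G) ∧
      (T : Subgroup G) ≤ N.X := by
  set Nn := Subgroup.normalizer (N.L : Set G)
  have hAN : N.A ≤ Nn := N.A_le_L.trans Subgroup.le_normalizer
  obtain ⟨S, hS⟩ := ((N.isPGroup_A (p := p)).comap_subtype (K := Nn)).exists_le_sylow
  set T0 := (S : Subgroup ↥Nn).map Nn.subtype with hT0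
  obtain ⟨T, hT⟩ := (show IsPGroup p T0 from S.isPGroup'.map _).exists_le_sylow
  have hcard : Nat.card T0 = Nat.card (T : Subgroup G) := by
    rw [hT0, Subgroup.card_map_of_injective Nn.subtype_injective]
    exact hSyl S T
  have hTT : T0 = (T : Subgroup G) := Subgroup.eq_of_le_of_card_ge hT hcard.ge
  have hAT : N.A ≤ (T : Subgroup G) := fun a ha => hT ⟨⟨a, hAN ha⟩, hS (Subgroup.mem_subgroupOf.mpr ha), rfl⟩
  have hTN : (T : Subgroup G) ≤ Nn := hTT ▸ Subgroup.map_subtype_le _
  refine ⟨T, hAT, hTN, fun t ht => ?_⟩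
  -- `T ∩ L = A`
  have hTL : ∀ l ∈ (T : Subgroup G), l ∈ N.L → l ∈ N.A := by
    intro l hlT hlL
    let P : Sylow p ↥N.L := ((N.isPGroup_A (p := p)).comap_subtype).toSylow N.not_dvd_index_A
    have h1 : (T : Subgroup G).subgroupOf N.L = (P : Subgroup ↥N.L) :=
      P.is_maximal' T.isPGroup'.comap_subtype fun x hx => hAT hx
    have h2 : (⟨l, hlL⟩ : ↥N.L) ∈ (T : Subgroup G).subgroupOf N.L := hlT
    rw [h1] at h2
    exact h2
  intro w
  have key : ∀ g ∈ (T : Subgroup G), ∀ v ∈ N.C, g • v ∈ N.C := by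
    intro g hg v hv
    obtain ⟨a, ha, ha1⟩ : ∃ a ∈ N.A, a ≠ 1 :=
      ⟨N.u 1, (mem_A N).mpr ⟨1, rfl⟩, fun he => one_ne_zero (N.u_inj (he.trans N.u_zero.symm))⟩
    refine N.fix_elem ha ha1 ?_
    have h1 : g⁻¹ * a * g ∈ N.A := hTL _ ((T : Subgroup G).mul_mem ((T : Subgroup G).mul_mem
      ((T : Subgroup G).inv_mem hg) (hAT ha)) hg)
      ((Subgroup.mem_normalizer_iff''.mp (hTN hg) a).mp (N.A_le_L ha))
    conv_rhs => rw [← N.A_fix_C h1 hv]
    rw [← mul_smul, ← mul_smul]
    congr 1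
    group
  refine ⟨fun hw => ?_, key t ht w⟩
  have := key t⁻¹ ((T : Subgroup G).inv_mem ht) _ hw
  rwa [inv_smul_smul] at this

section WithT

variable [Finite W] [CharP F p] (T : Sylow p G) (hAT : N.A ≤ T)
  (hTN : (T : Subgroup G) ≤ Subgroup.normalizer (N.L : Set G)) (hTX : (T : Subgroup G) ≤ N.X)
include hAT hTN hTX

omit hAT in
theorem tau_ker {t : G} (ht : t ∈ (T : Subgroup G)) (h : ∀ x, N.tau t x = x) : t ∈ N.A := by
  obtain ⟨k, hk⟩ := T.isPGroup' ⟨t, ht⟩
  exact N.mem_A_of_tau (p := p) (hTN ht) (hTX ht) (k := k)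
    (by simpa [Subtype.ext_iff] using hk) h

/-- The root group is normal in the stabiliser of its line. -/
theorem conj_A {x : G} (hx : x ∈ N.X) {a : G} (ha : a ∈ N.A) : x * a * x⁻¹ ∈ N.A := by
  set St : Subgroup G :=
    { carrier := {g | (∀ w ∈ N.C, g • w = w) ∧ ∀ w : W, g • w - w ∈ N.C}
      one_mem' := ⟨fun w _ => one_smul _ w, fun w => by rw [one_smul, sub_self]; exact zero_mem _⟩
      mul_mem' := fun {a b} ha hb => ⟨fun c hc => by rw [mul_smul, hb.1 c hc, ha.1 c hc], fun w => by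
        rw [mul_smul, ← sub_add_sub_cancel _ (b • w) w]
        exact add_mem (ha.2 _) (hb.2 w)⟩
      inv_mem' := fun {a} ha => ⟨fun c hc => by
        conv_lhs => rw [← ha.1 c hc]
        rw [inv_smul_smul], fun w => by
        have := neg_mem (ha.2 (a⁻¹ • w))
        rwa [smul_inv_smul, neg_sub] at this⟩ } with hSt
  have hp' : IsPGroup p St := by
    rintro ⟨g, hg⟩
    refine ⟨1, Subtype.ext (N.faithful _ fun w => ?_)⟩
    have : ∀ n : ℕ, g ^ n • w = w + n • (g • w - w) := by
      intro n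
      induction n with
      | zero => simp
      | succ n ih =>
        rw [pow_succ', mul_smul, ih, smul_add, hg.1 _ (AddSubgroup.nsmul_mem _ (hg.2 w) n), succ_nsmul]
        abel
    rw [pow_one, Subgroup.coe_pow, this, add_eq_left]
    apply N.ψ.injective
    rw [map_nsmul, map_zero]
    funext i
    simp [CharP.cast_eq_zero F p]
  have hnorm : ∀ g ∈ (T : Subgroup G), ∀ s ∈ St, g * s * g⁻¹ ∈ St := by
    intro g hg s hs
    refine ⟨fun w hw => ?_, fun w => ?_⟩
    · rw [mul_smul, mul_smul, hs.1 _ ((N.X.inv_mem (hTX hg) _).mpr hw), smul_inv_smul]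
    · have := (hTX hg _).mpr (hs.2 (g⁻¹ • w))
      rwa [smul_sub, smul_inv_smul, ← mul_smul, ← mul_smul] at this
  have hTnorm : (T : Subgroup G) ≤ Subgroup.normalizer (St : Set G) := by
    intro g hg
    rw [Subgroup.mem_normalizer_iff]
    intro s
    refine ⟨hnorm g hg s, fun hs => ?_⟩
    have := hnorm g⁻¹ ((T : Subgroup G).inv_mem hg) _ hs
    simpa [mul_assoc] using this
  have hsup : IsPGroup p (St ⊔ (T : Subgroup G) : Subgroup G) :=
    IsPGroup.to_sup_of_normal_left' hp' T.isPGroup' hTnorm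
  have hStT : St ≤ (T : Subgroup G) := (le_sup_left).trans (T.is_maximal' hsup le_sup_right).le
  have hStA : ∀ g ∈ St, g ∈ N.A := fun g hg => N.tau_ker T hTN hTX (hStT hg) fun y => by
    have : ∀ z, N.al g z = z := fun z => by
      rw [al, hg.1 _ (N.vec_mem_C.mpr rfl), coord0]
    rw [tau, this, this, div_one]
  refine hStA _ ⟨fun w hw => ?_, fun w => ?_⟩
  · rw [mul_smul, mul_smul, N.A_fix_C ha ((N.X.inv_mem hx _).mpr hw), smul_inv_smul]
  · have := (hx _).mpr (N.A_quad ha (x⁻¹ • w))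
    rwa [smul_sub, smul_inv_smul, ← mul_smul, ← mul_smul] at this

/-- A conjugate of a root element in the stabiliser of the line lies in the root group, unless `q = 4`
and there is a field involution. -/
theorem ti (hexc : ¬ (Fintype.card F = 4 ∧ p = 2 ∧ ¬ (T : Subgroup G) ≤ N.A)) {a g : G}
    (ha : a ∈ N.A) (ha1 : a ≠ 1) (hag : g⁻¹ * a * g ∈ N.X) : g ∈ N.X := by
  classical
  -- move into `T`
  obtain ⟨P, hP⟩ := (show IsPGroup p ((Subgroup.zpowers (g⁻¹ * a * g)).subgroupOf N.X) from by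
    refine IsPGroup.comap_subtype ?_
    have h1 : IsPGroup p (N.A.map (MulAut.conj g⁻¹).toMonoidHom) := (N.isPGroup_A (p := p)).map _
    exact h1.to_le (by rw [Subgroup.zpowers_le]; exact ⟨a, ha, by simp⟩)).exists_le_sylow
  obtain ⟨x, hx⟩ := MulAction.exists_smul_eq ↥N.X P (T.subtype hTX)
  set t := (x : G) * (g⁻¹ * a * g) * (x : G)⁻¹ with htdef
  set h := (x : G) * g⁻¹ with hhdef
  have ht : t = h * a * h⁻¹ := by rw [htdef, hhdef]; group
  have htT : t ∈ (T : Subgroup G) := by
    have h1 : MulAut.conj x • (⟨g⁻¹ * a * g, hag⟩ : ↥N.X) ∈ ((x • P : Sylow p ↥N.X) : Subgroup ↥N.X) := by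
      rw [Sylow.coe_subgroup_smul]
      exact Subgroup.smul_mem_pointwise_smul _ _ _ (hP (Subgroup.mem_zpowers _))
    rw [hx] at h1
    exact h1
  suffices hh : h ∈ N.X by
    have := N.X.mul_mem (N.X.inv_mem hh) x.2
    rw [hhdef, _root_.mul_inv_rev, inv_inv, mul_assoc, inv_mul_cancel, mul_one] at this
    exact this
  by_cases htA : t ∈ N.A
  · have ht1 : t ≠ 1 := by
      rw [ht]
      simpa using ha1
    refine N.mem_X_of_maps fun w hw => N.fix_elem htA ht1 ?_
    rw [ht, mul_smul, mul_smul, inv_smul_smul, N.A_fix_C ha hw]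
  exfalso
  have hquad : ∀ w : W, t • (t • w - w) = t • w - w := by
    intro w
    have h1 := N.A_fix_C ha (N.A_quad ha (h⁻¹ • w))
    have e : t • w - w = h • (a • h⁻¹ • w - h⁻¹ • w) := by
      rw [ht, smul_sub, mul_smul, mul_smul, smul_inv_smul]
    rw [e, ht, mul_smul, mul_smul, inv_smul_smul, h1]
  have htL := hTN htT
  have htX := hTX htT
  set e := N.al t 1 with he
  have hq : ∀ x, N.al t (N.al t x - x) = N.al t x - x := by
    intro x
    have h1 := hquad (N.vec x 0)
    rw [N.smul_line htX] at h1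
    have e2 : N.vec (N.al t x) 0 - N.vec x 0 = N.vec (N.al t x - x) 0 := by
      rw [sub_eq_iff_eq_add, N.vec_add, sub_add_cancel, add_zero]
    rw [e2, N.smul_line htX] at h1
    exact (N.vec_inj h1).1
  -- a nonzero fixed scalar
  obtain ⟨k, hk0, hk⟩ : ∃ k : F, k ≠ 0 ∧ N.al t k = k := by
    by_cases h0 : ∀ x, N.al t x = x
    · exact ⟨1, one_ne_zero, h0 1⟩
    · push Not at h0
      obtain ⟨x, hx⟩ := h0
      exact ⟨N.al t x - x, sub_ne_zero.mpr hx, hq x⟩
  have htau : ∀ x, N.al t (x * k) = N.tau t x * k := by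
    intro x
    have h1 := N.al_eq htL htX k
    rw [hk] at h1
    rw [N.al_eq htL htX (x * k), N.tau_mul htL htX]
    conv_rhs => rw [h1]
    ring
  have htq : ∀ x, N.tau t (N.tau t x - x) = N.tau t x - x := by
    intro x
    refine mul_right_cancel₀ hk0 ?_
    rw [← htau, sub_mul, ← htau]
    exact hq _
  set σ := N.tauAut htL htX with hσ
  have hσv : ∀ x, σ x = N.tau t x := fun x => rfl
  rcases hp.out.eq_two_or_odd' with rfl | hodd
  swap
  · -- odd characteristic: a quadratic field automorphism is trivial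
    refine htA (N.tau_ker T hTN hTX htT fun x => ?_)
    have h2 : (2 : F) ≠ 0 := by
      rw [show (2 : F) = ((2 : ℕ) : F) by norm_num]
      intro h0
      have := (CharP.cast_eq_zero_iff F p 2).mp h0
      have hp2 := (Nat.prime_dvd_prime_iff_eq hp.out Nat.prime_two).mp this
      rw [hp2] at hodd
      exact absurd hodd (by decide)
    have hD : ∀ x, σ (σ x - x) = σ x - x := htq
    have hσ2 : ∀ x, σ (σ x) = 2 * σ x - x := fun x => by
      have := hD x
      rw [map_sub] at this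
      linear_combination this
    have h3 := hσ2 (x * x)
    simp only [map_mul, hσ2] at h3
    have h4 : (2 : F) * ((σ x - x) * (σ x - x)) = 0 := by linear_combination h3
    have h5 := mul_self_eq_zero.mp ((mul_eq_zero.mp h4).resolve_left h2)
    exact sub_eq_zero.mp h5
  -- characteristic two
  have hinv : t * t = 1 := by
    refine N.faithful _ fun w => ?_
    have h1 := hquad w
    rw [smul_sub, sub_eq_iff_eq_add] at h1
    rw [mul_smul, h1]
    have e2 : ∀ v : W, v + v = 0 := fun v => by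
      apply N.ψ.injective
      funext i
      simp [CharTwo.add_self_eq_zero]
    rw [show t • w - w + t • w = (t • w + t • w) - w by abel, e2, zero_sub, neg_eq_iff_add_eq_zero, e2]
  have hfix : ∀ w : W, t • w = w → ∀ b : G, b * t = t * b → t • (b • w) = b • w := fun w hw b hb => by
    rw [← mul_smul, ← hb, mul_smul, hw]
  -- root elements commuting with `t`
  set Z : Subgroup G := Subgroup.centralizer ({t} : Set G) with hZ
  set A0 := N.A ⊓ Z with hA0
  have hA0X : A0.map (MulAut.conj h⁻¹).toMonoidHom ≤ N.X := by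
    rintro _ ⟨b, hb, rfl⟩
    refine N.mem_X_of_maps fun w hw => N.fix_elem ha ha1 ?_
    have hcomm : b * t = t * b := (Subgroup.mem_centralizer_iff.mp hb.2 t rfl).symm
    have h1 : t • h • w = h • w := by rw [ht, mul_smul, mul_smul, inv_smul_smul, N.A_fix_C ha hw]
    have h2 := hfix _ h1 b hcomm
    show a • ((h⁻¹ * b * h⁻¹⁻¹) • w) = (h⁻¹ * b * h⁻¹⁻¹) • w
    rw [inv_inv, mul_smul, mul_smul]
    apply MulAction.injective h
    simp only [smul_inv_smul]
    calc h • a • h⁻¹ • b • h • w = t • b • h • w := by simp only [ht, mul_smul]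
      _ = b • h • w := h2
  obtain ⟨P₀, hP₀⟩ := (show IsPGroup 2 ((A0.map (MulAut.conj h⁻¹).toMonoidHom).subgroupOf N.X) from
    (((N.isPGroup_A (p := 2)).to_le inf_le_left).map _).comap_subtype).exists_le_sylow
  obtain ⟨y, hy⟩ := MulAction.exists_smul_eq ↥N.X P₀ (T.subtype hTX)
  have hmv : ∀ b ∈ A0, (y : G) * (h⁻¹ * b * h) * (y : G)⁻¹ ∈ (T : Subgroup G) := by
    intro b hb
    have hbX : h⁻¹ * b * h ∈ N.X := hA0X ⟨b, hb, by simp⟩
    have h1 : MulAut.conj y • (⟨_, hbX⟩ : ↥N.X) ∈ ((y • P₀ : Sylow 2 ↥N.X) : Subgroup ↥N.X) := by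
      rw [Sylow.coe_subgroup_smul]
      exact Subgroup.smul_mem_pointwise_smul _ _ _ (hP₀ (Subgroup.mem_subgroupOf.mpr ⟨b, hb, by simp⟩))
    rw [hy] at h1
    exact h1
  let mv : ↥A0 →* G := ((MulAut.conj ((y : G) * h⁻¹)).toMonoidHom).comp A0.subtype
  have hmvv : ∀ b : ↥A0, mv b = (y : G) * (h⁻¹ * b * h) * (y : G)⁻¹ := fun b => by
    simp [mv, mul_assoc]
  have hmvT : ∀ b : ↥A0, mv b ∈ (T : Subgroup G) := fun b => by rw [hmvv]; exact hmv b b.2
  letI : Algebra (ZMod 2) F := ZMod.algebra F 2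
  let Ψ : ↥A0 →* Gal(F/ZMod 2) :=
    { toFun := fun b => AlgEquiv.ofRingEquiv (f := N.tauAut (hTN (hmvT b)) (hTX (hmvT b)))
        (fun r => RingHom.congr_fun (RingHom.ext_zmod ((N.tauAut (hTN (hmvT b)) (hTX (hmvT b))).toRingHom.comp
          (algebraMap (ZMod 2) F)) (algebraMap (ZMod 2) F)) r)
      map_one' := AlgEquiv.ext fun x => by
        show N.tau (mv 1) x = x
        rw [map_one]
        simp [tau, al, coord0]
      map_mul' := fun b c => AlgEquiv.ext fun x => by
        show N.tau (mv (b * c)) x = N.tau (mv b) (N.tau (mv c) x)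
        rw [map_mul]
        exact N.tau_comp (hTN (hmvT b)) (hTX (hmvT b)) (hTN (hmvT c)) (hTX (hmvT c)) x }
  have hΨ : Function.Injective Ψ := by
    rw [injective_iff_map_eq_one]
    intro b hb
    by_contra hb1
    have hA : mv b ∈ N.A := N.tau_ker T hTN hTX (hmvT b) fun x => AlgEquiv.congr_fun hb x
    rw [hmvv] at hA
    have hA' := N.conj_A T hAT hTN hTX (N.X.inv_mem y.2) hA
    have hA'' : h⁻¹ * (b : G) * h ∈ N.A := by simpa [mul_assoc] using hA'
    -- `t` would fix the line pointwise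
    have hhX : h ∈ N.X := N.mem_X_of_maps fun w hw => N.fix_elem b.2.1 (fun h0 => hb1 (Subtype.ext h0)) (by
      have := N.A_fix_C hA'' hw
      rw [mul_smul, mul_smul, inv_smul_eq_iff] at this
      exact this)
    exact htA (ht ▸ N.conj_A T hAT hTN hTX hhX ha)
  -- `|F| ≤ |A₀|²`
  obtain ⟨c, hc⟩ : ∃ c : F → F, ∀ x, N.u (c x) = t * N.u x * t⁻¹ :=
    ⟨fun x => (N.conj_u htL htX x).choose, fun x => (N.conj_u htL htX x).choose_spec⟩
  have hcadd : ∀ x z, c (x + z) = c x + c z := fun x z => N.u_inj (by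
    rw [hc, N.u_add, N.u_add, hc, hc]; group)
  let δ : F →+ F :=
    { toFun := fun x => c x + x
      map_zero' := by
        have := hcadd 0 0
        rw [add_zero] at this
        rw [add_eq_left.mp this.symm, add_zero]
      map_add' := fun x z => by rw [hcadd]; ring }
  have hcc : ∀ x, c (c x) = x := fun x => N.u_inj (by
    rw [hc, hc]
    calc t * (t * N.u x * t⁻¹) * t⁻¹ = (t * t) * N.u x * (t * t)⁻¹ := by group
      _ = N.u x := by rw [hinv]; group)
  have hrange : δ.range ≤ δ.ker := by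
    rintro _ ⟨x, rfl⟩
    show c (c x + x) + (c x + x) = 0
    rw [hcadd, hcc, add_comm x (c x), CharTwo.add_self_eq_zero]
  have hsq : Fintype.card F ≤ Nat.card δ.ker * Nat.card δ.ker := by
    rw [← Nat.card_eq_fintype_card, ← δ.ker.card_mul_index, AddSubgroup.index_ker]
    exact Nat.mul_le_mul_left _ (AddSubgroup.card_le_of_le hrange)
  have hkA0 : Nat.card δ.ker ≤ Nat.card A0 := by
    refine Nat.card_le_card_of_injective (fun x => (⟨N.u (x : F), (mem_A N).mpr ⟨x, rfl⟩, ?_⟩ : A0))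
      fun x z hxz => Subtype.ext (N.u_inj (congrArg (fun b : ↥A0 => (b : G)) hxz))
    have hx : c (x : F) = x := CharTwo.add_eq_zero.mp x.2
    show N.u (x : F) ∈ Subgroup.centralizer ({t} : Set G)
    rw [Subgroup.mem_centralizer_iff]
    rintro s rfl
    have := hc (x : F)
    rw [hx] at this
    exact eq_mul_inv_iff_mul_eq.mp this |>.symm
  have hA02 : Nat.card A0 ≤ 2 := by
    refine (Nat.card_le_card_of_injective (fun b => (⟨Ψ b, ?_⟩ : {σ : Gal(F/ZMod 2) // σ ^ 2 = 1}))
      fun b b' hb => hΨ (congrArg Subtype.val hb)).trans ?_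
    · rw [← map_pow]
      have : b ^ 2 = 1 := by
        obtain ⟨z, hz⟩ := (mem_A N).mp b.2.1
        refine Subtype.ext ?_
        rw [Subgroup.coe_pow, pow_two, ← hz, ← N.u_add, CharTwo.add_self_eq_zero, N.u_zero]
        rfl
      rw [this, map_one]
    · rw [Nat.card_eq_fintype_card, Fintype.card_subtype]
      exact IsCyclic.card_pow_eq_one_le (by norm_num)
  have hq4 : Fintype.card F ≤ 4 := hsq.trans (Nat.mul_le_mul (hkA0.trans hA02) (hkA0.trans hA02))
  obtain ⟨n, hn0, hn⟩ := FiniteField.card F 2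
  have hn2 : (n : ℕ) ≤ 2 := by
    rw [hn] at hq4
    exact (Nat.pow_le_pow_iff_right (by norm_num)).mp (show 2 ^ (n : ℕ) ≤ 2 ^ 2 from hq4)
  rcases (show (n : ℕ) = 1 ∨ (n : ℕ) = 2 by have := n.pos; omega) with h1 | h1
  · refine htA (N.tau_ker T hTN hTX htT fun x => ?_)
    have h2 : Fintype.card F = 2 := by rw [hn, h1, pow_one]
    obtain rfl | rfl : x = 0 ∨ x = 1 := by
      by_contra hne
      push Not at hne
      have h3 : ({0, 1, x} : Finset F).card ≤ 2 := h2 ▸ Finset.card_le_univ _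
      rw [Finset.card_insert_of_notMem, Finset.card_insert_of_notMem, Finset.card_singleton] at h3
      · omega
      · simp [hne.2.symm]
      · simp [hne.1.symm]
    · simp [tau, al_zero]
    · exact N.tau_one htL htX
  · exact hexc ⟨by rw [hn, h1]; norm_num, rfl, fun hle => htA (hle htT)⟩

end WithT

/-- With trivially intersecting root groups `L` is normal. -/
theorem normal_of_ti [Finite W] (hti : ∀ a g : G, a ∈ N.A → a ≠ 1 → g⁻¹ * a * g ∈ N.X → g ∈ N.X)
    (hAX : ∀ x ∈ N.X, ∀ a ∈ N.A, x * a * x⁻¹ ∈ N.A) : N.L.Normal := by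
  classical
  haveI := Fintype.ofFinite G
  let cA : G → Subgroup G := fun g => N.A.map (MulAut.conj g).toMonoidHom
  let fx : Subgroup G → W → Prop := fun Q w => ∀ q ∈ Q, q • w = w
  have hfxconj : ∀ (g : G) (w : W), fx (cA g) w ↔ g⁻¹ • w ∈ N.C := by
    intro g w
    constructor
    · intro h
      refine N.fix_elem ((mem_A N).mpr ⟨1, rfl⟩) (fun he => one_ne_zero (N.u_inj (he.trans N.u_zero.symm))) ?_
      apply MulAction.injective g
      have := h (g * N.u 1 * g⁻¹) ⟨N.u 1, (mem_A N).mpr ⟨1, rfl⟩, rfl⟩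
      rw [mul_smul, mul_smul] at this
      simp only [smul_inv_smul]
      exact this
    · rintro h _ ⟨a, ha, rfl⟩
      show (g * a * g⁻¹) • w = w
      rw [mul_smul, mul_smul, N.A_fix_C ha h, smul_inv_smul]
  have hout : ∀ g : G, g ∉ N.X → ∀ a ∈ N.A, a ≠ 1 → g⁻¹ * a * g ∉ N.X := fun g hg a ha ha1 h =>
    hg (hti a g ha ha1 h)
  -- two lines meet trivially
  have disj : ∀ g : G, g ∉ N.X → ∀ v ∈ N.C, g⁻¹ • v ∈ N.C → v = 0 := by
    intro g hg v hv hvg
    by_contra hv0
    set K := N.A ⊔ cA g with hK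
    have hvK : fx K v := by
      intro q hq
      refine (sup_le (c := MulAction.stabilizer G v) (fun a ha => N.A_fix_C ha hv) ?_) hq
      exact fun b hb => (hfxconj g v).mpr hvg b hb
    have houtK : ∀ z : G, z ∉ N.X → ∃ x ∈ cA z, x ∉ N.X := fun z hz => by
      refine ⟨z * N.u 1 * z⁻¹, ⟨N.u 1, (mem_A N).mpr ⟨1, rfl⟩, rfl⟩, ?_⟩
      have := hout z⁻¹ (fun h => hz (by simpa using N.X.inv_mem h)) (N.u 1) ((mem_A N).mpr ⟨1, rfl⟩)
        (fun he => one_ne_zero (N.u_inj (he.trans N.u_zero.symm)))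
      rwa [inv_inv] at this
    obtain ⟨b, hb, hbX⟩ := houtK g hg
    obtain ⟨y, hy, hmin⟩ := Finset.exists_min_image (Finset.univ.filter fun x => x ∈ K ∧ x ∉ N.X)
      (fun x => Nat.card ↥(N.A ⊔ cA x)) ⟨b, by simp [Subgroup.mem_sup_right hb, hbX, hK]⟩
    simp only [Finset.mem_filter, Finset.mem_univ, true_and] at hy hmin
    set Q := N.A ⊔ cA y with hQ
    have hconjle : ∀ (R : Subgroup G) (x : G), N.A ≤ R → x ∈ R → cA x ≤ R := by
      rintro R x hA hx _ ⟨a, ha, rfl⟩
      exact R.mul_mem (R.mul_mem hx (hA ha)) (R.inv_mem hx)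
    have hQK : Q ≤ K := sup_le le_sup_left (hconjle K y le_sup_left hy.1)
    obtain ⟨z, hz, hzX⟩ := houtK y hy.2
    have hzQ : z ∈ Q := Subgroup.mem_sup_right hz
    -- `d` on the other line
    obtain ⟨c, hc, hzc⟩ : ∃ c ∈ N.C, z • c ∉ N.C := by
      by_contra hh
      push Not at hh
      exact hzX (N.mem_X_of_maps hh)
    set d := z • c with hd
    let f : F → ↥N.C := fun x => ⟨N.u x • d - d, N.A_quad ((mem_A N).mpr ⟨x, rfl⟩) d⟩
    have hf : Function.Injective f := by
      intro x x' h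
      have h1 : N.u x • d = N.u x' • d := sub_left_inj.mp (congrArg Subtype.val h)
      rw [N.u_smul, N.u_smul, add_right_inj] at h1
      exact mul_right_cancel₀ hzc (N.vec_inj h1).1
    have hcardC : Nat.card N.C ≤ Nat.card F :=
      Nat.card_le_card_of_injective (fun w : N.C => N.ψ (w : W) 0) fun w w' h => Subtype.ext (by
        rw [N.C_eq w.2, N.C_eq w'.2]
        exact congrArg (fun s => N.vec s 0) h)
    obtain ⟨x, hx⟩ := (hf.bijective_of_nat_card_le hcardC).2 ⟨v, hv⟩
    have hxv : N.u x • d - d = v := congrArg Subtype.val hx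
    have hx1 : N.u x ≠ 1 := fun h0 => hv0 (by rw [← hxv, h0, one_smul, sub_self])
    -- the element carrying `c` to `c + v`
    set g' := z⁻¹ * N.u x * z with hg'
    have hg'X : g' ∉ N.X := hout z hzX _ ((mem_A N).mpr ⟨x, rfl⟩) hx1
    have hg'Q : g' ∈ Q := Q.mul_mem (Q.mul_mem (Q.inv_mem hzQ) (Subgroup.mem_sup_left ((mem_A N).mpr ⟨x, rfl⟩))) hzQ
    have hQ' : N.A ⊔ cA g' = Q := Subgroup.eq_of_le_of_card_ge
      (sup_le le_sup_left (hconjle Q g' le_sup_left hg'Q)) (hmin g' ⟨hQK hg'Q, hg'X⟩)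
    have hvQ : ∀ q ∈ Q, q • v = v := fun q hq => hvK q (hQK hq)
    have hg'c : g' • c = c + v := by
      rw [hg', mul_smul, mul_smul, ← hd, eq_add_of_sub_eq' hxv, smul_add, hvQ _ (Q.inv_mem hzQ), hd,
        inv_smul_smul]
    have hcfix : ∀ q ∈ cA g', q • c = c := by
      intro q hq
      have h1 := (hfxconj g' (g' • c)).mpr (by rw [inv_smul_smul]; exact hc) q hq
      rw [hg'c, smul_add, hvQ q (hQ'.le (Subgroup.mem_sup_right hq))] at h1
      exact add_right_cancel h1
    have hcQ : Q ≤ MulAction.stabilizer G c :=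
      hQ'.ge.trans (sup_le (fun a ha => N.A_fix_C ha hc) hcfix)
    exact hzc (by rw [hd, show z • c = c from hcQ hzQ]; exact hc)
  -- all root groups lie in `L`
  have hconjL : ∀ g : G, ∀ a ∈ N.A, g * a * g⁻¹ ∈ N.L := by
    intro g a ha
    set v := g • N.vec 1 0 with hv
    obtain ⟨l, hl⟩ : ∃ l : ↥N.L, (l : G) • N.vec 1 0 = v := by
      set x := N.ψ v 0 with hx
      set y := N.ψ v 1 with hy
      by_cases h0 : x = 0
      · have hy0 : y ≠ 0 := by
          intro hy0
          have : v = 0 := by rw [← N.vec_coords v, ← hx, ← hy, h0, hy0, N.vec_zero]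
          rw [hv, smul_eq_zero_iff_eq, ← N.vec_zero] at this
          exact one_ne_zero (N.vec_inj this).1
        refine ⟨N.ρ.symm (mat 0 (-y⁻¹) y 0 (by field_simp; ring)), ?_⟩
        rw [N.smul_vec, MulEquiv.apply_symm_apply, ← N.vec_coords v, ← hx, ← hy, h0]
        simp
      · refine ⟨N.ρ.symm (mat x 0 y x⁻¹ (by field_simp; ring)), ?_⟩
        rw [N.smul_vec, MulEquiv.apply_symm_apply, ← N.vec_coords v, ← hx, ← hy]
        simp
    have hlg : (l : G)⁻¹ * g ∈ N.X := by
      by_contra hne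
      have := disj ((l : G)⁻¹ * g) hne (N.vec 1 0) (N.vec_mem_C.mpr rfl) (by
        rw [_root_.mul_inv_rev, inv_inv, mul_smul, hl, hv, inv_smul_smul]
        exact N.vec_mem_C.mpr rfl)
      rw [← N.vec_zero] at this
      exact one_ne_zero (N.vec_inj this).1
    have h1 := hAX _ hlg a ha
    have h2 : g * a * g⁻¹ = (l : G) * ((l : G)⁻¹ * g * a * ((l : G)⁻¹ * g)⁻¹) * (l : G)⁻¹ := by group
    rw [h2]
    exact N.L.mul_mem (N.L.mul_mem l.2 (N.A_le_L h1)) (N.L.inv_mem l.2)
  constructor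
  intro n hn g
  -- `L` is generated by root groups
  let R : Subgroup G := Subgroup.closure {y | ∃ (g : G) (a : G), a ∈ N.A ∧ y = g * a * g⁻¹}
  have hR : N.L ≤ R := by
    intro l hl
    suffices hh : (R.subgroupOf N.L).map N.ρ.toMonoidHom = ⊤ by
      obtain ⟨m, hm, hme⟩ := hh.ge (Subgroup.mem_top (N.ρ ⟨l, hl⟩))
      have : m = ⟨l, hl⟩ := N.ρ.injective hme
      rw [this] at hm
      exact hm
    refine Cfsg.Agent.PSLSimple.eq_top_of_transvection_mem _ fun i j hij c => ?_
    refine ⟨N.ρ.symm (SpecialLinearGroup.transvection hij c), ?_, N.ρ.apply_symm_apply _⟩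
    fin_cases i <;> fin_cases j <;> first | exact absurd rfl hij | skip
    · exact Subgroup.subset_closure ⟨1, N.u c, (mem_A N).mpr ⟨c, rfl⟩, by simp [u]⟩
    · set s : ↥N.L := N.ρ.symm (mat 0 (-1) 1 0 (by ring)) with hs
      refine Subgroup.subset_closure ⟨s, N.u (-c), (mem_A N).mpr ⟨-c, rfl⟩, N.ext_smul fun w => ?_⟩
      have e : N.u (-c) = ((⟨N.u (-c), N.u_mem_L _⟩ : ↥N.L) : G) := rfl
      rw [Subgroup.coe_subtype, e, ← Subgroup.coe_inv, ← Subgroup.coe_mul, ← Subgroup.coe_mul, ← N.vec_coords w,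
        N.smul_vec, N.smul_vec, map_mul, map_mul, map_inv, hs, MulEquiv.apply_symm_apply, MulEquiv.apply_symm_apply]
      have hu : N.ρ ⟨N.u (-c), N.u_mem_L _⟩ =
          SpecialLinearGroup.transvection (show (0 : Fin 2) ≠ 1 by decide) (-c) :=
        N.ρ.apply_symm_apply _
      rw [hu]
      simp [SpecialLinearGroup.transvection_coe, Matrix.single_apply, Matrix.adjugate_fin_two, Matrix.vecMul,
        dotProduct, Fin.sum_univ_two, Matrix.mul_apply]
  refine (Subgroup.closure_le _).mpr ?_ ((show R.Normal from ?_).conj_mem n (hR hn) g)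
  · rintro _ ⟨g, a, ha, rfl⟩
    exact hconjL g a ha
  · refine Subgroup.Normal.mk fun m hm k => ?_
    refine Subgroup.closure_induction (p := fun m _ => k * m * k⁻¹ ∈ R) ?_ (by simp [one_mem]) ?_ ?_ hm
    · rintro _ ⟨g, a, ha, rfl⟩
      exact Subgroup.subset_closure ⟨k * g, a, ha, by group⟩
    · intro a b _ _ h1 h2
      have := R.mul_mem h1 h2
      simpa [mul_assoc] using this
    · intro a _ h1
      have := R.inv_mem h1
      simpa [mul_assoc] using this

end Nat2

end Cfsg.Agent.NaturalOvergroup35
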