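import Cfsg.Agent.Lib.NaturalOvergroup35
import Cfsg.Agent.Lib.AltEightOvergroup35
import Cfsg.Agent.S0256

/-!
The case `q = 4`: with a field involution, `G` sits in `GL₄(2) ≅ A₈` and is `A₇` unless `L` is normal.
-/

set_option autoImplicit false
set_option linter.all false

namespace Cfsg.Agent.NaturalOvergroup35

open Matrix
open scoped MatrixGroups

variable {G : Type*} [Group G] [Finite G] {W : Type*} [AddCommGroup W] [DistribMulAction G W]
variable {F : Type*} [Field F] [Fintype F]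

/-- Additive automorphisms of `𝔽₂⁴` as matrices. -/
noncomputable def autHom : (AddMonoid.End (Fin 4 → ZMod 2))ˣ →* SL(4, ZMod 2) where
  toFun f :=
    ⟨LinearMap.toMatrix' (((f : AddMonoid.End (Fin 4 → ZMod 2)) : (Fin 4 → ZMod 2) →+ (Fin 4 → ZMod 2)).toZModLinearMap 2), by
      have h2 : LinearMap.toMatrix' (((f : AddMonoid.End (Fin 4 → ZMod 2)) : (Fin 4 → ZMod 2) →+ (Fin 4 → ZMod 2)).toZModLinearMap 2) *
          LinearMap.toMatrix' ((((f⁻¹ : (AddMonoid.End (Fin 4 → ZMod 2))ˣ) : AddMonoid.End (Fin 4 → ZMod 2)) : (Fin 4 → ZMod 2) →+ (Fin 4 → ZMod 2)).toZModLinearMap 2) = 1 := by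
        rw [← LinearMap.toMatrix'_comp, ← LinearMap.toMatrix'_id]
        congr 1
        exact LinearMap.ext fun v => DFunLike.congr_fun f.mul_inv v
      have h3 := congrArg Matrix.det h2
      rw [Matrix.det_mul, Matrix.det_one] at h3
      have h4 : ∀ d e : ZMod 2, d * e = 1 → d = 1 := by decide
      exact h4 _ _ h3⟩
  map_one' := Subtype.ext (by
    show LinearMap.toMatrix' _ = 1
    rw [← LinearMap.toMatrix'_id]
    congr 1)
  map_mul' f g := Subtype.ext (by
    show LinearMap.toMatrix' _ = LinearMap.toMatrix' _ * LinearMap.toMatrix' _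
    rw [← LinearMap.toMatrix'_comp]
    congr 1)

theorem autHom_injective : Function.Injective autHom := by
  intro f g h
  have h1 := LinearMap.toMatrix'.injective (congrArg Subtype.val h)
  exact Units.ext (AddMonoidHom.ext fun v => LinearMap.congr_fun h1 v)

namespace Nat2

variable (N : Nat2 G W F)

theorem card_T_le [Finite W] [CharP F 2] (T : Sylow 2 G) (hAT : N.A ≤ T)
    (hTN : (T : Subgroup G) ≤ Subgroup.normalizer (N.L : Set G)) (hTX : (T : Subgroup G) ≤ N.X)
    (hq : Fintype.card F = 4) : Nat.card (T : Subgroup G) ≤ 8 := by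
  classical
  haveI := Fintype.ofFinite G
  obtain ⟨ω, hω0, hω1⟩ : ∃ ω : F, ω ≠ 0 ∧ ω ≠ 1 := by
    by_contra hh
    push Not at hh
    have : (Finset.univ : Finset F) ⊆ {0, 1} := fun x _ => by
      by_cases hx : x = 0
      · simp [hx]
      · simp [hh x hx]
    have := (Finset.card_le_card this).trans Finset.card_le_two
    rw [Finset.card_univ, hq] at this
    omega
  haveI : Fintype ↥(T : Subgroup G) := Fintype.ofFinite _
  let Tset : Finset ↥(T : Subgroup G) := Finset.univ
  have hmem : ∀ t : ↥(T : Subgroup G), N.tau t ω ∈ (Finset.univ.erase (0 : F)).erase 1 := by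
    intro t
    simp only [Finset.mem_erase, Finset.mem_univ, and_true]
    refine ⟨fun h => hω1 (N.tau_inj (hTN t.2) (hTX t.2) (h.trans (N.tau_one (hTN t.2) (hTX t.2)).symm)), fun h => hω0 (N.tau_inj (hTN t.2) (hTX t.2) (h.trans ?_))⟩
    simp [tau, al_zero]
  have hext : ∀ t : ↥(T : Subgroup G), N.tau t ω = ω → ∀ x, N.tau t x = x := by
    intro t ht x
    have h0 : N.tau (t : G) 0 = 0 := by simp [tau, al_zero]
    have h1 : N.tau (t : G) 1 = 1 := N.tau_one (hTN t.2) (hTX t.2)
    have hall : x ∈ ({0, 1, ω, ω + 1} : Finset F) := by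
      have : ({0, 1, ω, ω + 1} : Finset F) = Finset.univ := by
        refine Finset.eq_univ_of_card _ ?_
        rw [hq, Finset.card_insert_of_notMem, Finset.card_insert_of_notMem, Finset.card_insert_of_notMem,
          Finset.card_singleton]
        · simp
        · simp [Ne.symm hω1, hω0]
        · simp only [Finset.mem_insert, Finset.mem_singleton, zero_ne_one, false_or, not_or]
          exact ⟨Ne.symm hω0, fun h => hω1 (CharTwo.add_eq_zero.mp h.symm)⟩
      rw [this]
      exact Finset.mem_univ x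
    simp only [Finset.mem_insert, Finset.mem_singleton] at hall
    rcases hall with rfl | rfl | rfl | rfl
    · exact h0
    · exact h1
    · exact ht
    · rw [N.tau_add (hTN t.2) (hTX t.2), ht, h1]

  have hfib : ∀ b ∈ (Finset.univ.erase (0 : F)).erase 1,
      (Tset.filter fun t : ↥(T : Subgroup G) => N.tau (t : G) ω = b).card ≤ 4 := by
    intro b _
    rcases (Tset.filter fun t : ↥(T : Subgroup G) => N.tau (t : G) ω = b).eq_empty_or_nonempty with he | ⟨s, hs⟩
    · simp [he]
    rw [Finset.mem_filter] at hs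
    calc (Tset.filter fun t : ↥(T : Subgroup G) => N.tau (t : G) ω = b).card
        ≤ (Finset.univ.image fun a : N.A => (⟨(s : G) * a, (T : Subgroup G).mul_mem s.2 (hAT a.2)⟩ : ↥(T : Subgroup G))).card := by
          refine Finset.card_le_card fun t ht => ?_
          rw [Finset.mem_filter] at ht
          have hd : N.tau ((s⁻¹ * t : ↥(T : Subgroup G)) : G) ω = ω := by
            rw [Subgroup.coe_mul, N.tau_comp (hTN (s⁻¹).2) (hTX (s⁻¹).2) (hTN t.2) (hTX t.2), ht.2, ← hs.2,
              ← N.tau_comp (hTN (s⁻¹).2) (hTX (s⁻¹).2) (hTN s.2) (hTX s.2), ← Subgroup.coe_mul,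
              inv_mul_cancel]
            simp [tau, al, coord0]
          refine Finset.mem_image.mpr ⟨⟨_, N.tau_ker T hTN hTX (s⁻¹ * t).2 (hext _ hd)⟩,
            Finset.mem_univ _, Subtype.ext ?_⟩
          show (s : G) * ((s : G)⁻¹ * t) = t
          rw [mul_inv_cancel_left]
      _ ≤ Fintype.card N.A := Finset.card_image_le
      _ = 4 := by rw [← Nat.card_eq_fintype_card, N.card_A, hq]
  have := Finset.card_le_mul_card_image_of_maps_to (f := fun t : ↥(T : Subgroup G) => N.tau t ω)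
    (s := Tset) (fun t _ => hmem t) 4 hfib
  rw [Finset.card_erase_of_mem (by simp), Finset.card_erase_of_mem (Finset.mem_univ _), Finset.card_univ,
    Finset.card_univ, hq, ← Nat.card_eq_fintype_card] at this
  exact this

/-- The exceptional case. -/
theorem four [Finite W] [CharP F 2] (T : Sylow 2 G) (hAT : N.A ≤ T)
    (hTN : (T : Subgroup G) ≤ Subgroup.normalizer (N.L : Set G)) (hTX : (T : Subgroup G) ≤ N.X)
    (hq : Fintype.card F = 4) (hTA : ¬ (T : Subgroup G) ≤ N.A) :
    N.L.Normal ∨ Nonempty (G ≃* alternatingGroup (Fin 7)) := by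
  classical
  letI : Algebra (ZMod 2) F := ZMod.algebra F 2
  haveI : Fact (Nat.Prime 2) := ⟨Nat.prime_two⟩
  have hrank : Module.finrank (ZMod 2) (Fin 2 → F) = 4 := by
    have h1 := Module.card_eq_pow_finrank (K := ZMod 2) (V := Fin 2 → F)
    rw [ZMod.card, Fintype.card_fun, hq, Fintype.card_fin] at h1
    exact (Nat.pow_right_injective (le_refl 2) (h1.symm.trans (by norm_num : (4 : ℕ) ^ 2 = 2 ^ 4)))
  let η : W ≃+ (Fin 4 → ZMod 2) :=
    N.ψ.trans (Module.finBasisOfFinrankEq (ZMod 2) (Fin 2 → F) hrank).equivFun.toAddEquiv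
  let cg₀ : AddMonoid.End W →* AddMonoid.End (Fin 4 → ZMod 2) :=
    { toFun := fun f => η.toAddMonoidHom.comp ((f : W →+ W).comp η.symm.toAddMonoidHom)
      map_one' := AddMonoidHom.ext fun v => η.apply_symm_apply v
      map_mul' := fun f g => AddMonoidHom.ext fun v => by
        show η (f (g (η.symm v))) = η (f (η.symm (η (g (η.symm v)))))
        rw [η.symm_apply_apply] }
  have hcg : Function.Injective (Units.map cg₀) := by
    intro f g h
    refine Units.ext (AddMonoidHom.ext fun w => η.injective ?_)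
    have h1 : η ((f : AddMonoid.End W) (η.symm (η w))) = η ((g : AddMonoid.End W) (η.symm (η w))) :=
      DFunLike.congr_fun (congrArg Units.val h) (η w)
    rwa [η.symm_apply_apply] at h1
  obtain ⟨e8⟩ := Cfsg.Agent.S0256.equiv_sl
  let Θ : (AddMonoid.End W)ˣ →* Equiv.Perm (Fin 8) :=
    (alternatingGroup (Fin 8)).subtype.comp (e8.symm.toMonoidHom.comp (autHom.comp (Units.map cg₀)))
  have hΘ : Function.Injective Θ :=
    Subtype.val_injective.comp (e8.symm.injective.comp (autHom_injective.comp hcg))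
  let φ : G →* Equiv.Perm (Fin 8) := Θ.comp (DistribMulAction.toAddMonoidEnd G W).toHomUnits
  have hφ : Function.Injective φ := by
    intro g k h
    exact N.ext_smul fun w => DFunLike.congr_fun (congrArg Units.val (hΘ h)) w
  obtain ⟨ω, hω3, hω1⟩ : ∃ ω : F, ω ^ 3 = 1 ∧ ω ≠ 1 := by
    obtain ⟨ω, hω0, hω1⟩ : ∃ ω : F, ω ≠ 0 ∧ ω ≠ 1 := by
      by_contra hh
      push Not at hh
      have : (Finset.univ : Finset F) ⊆ {0, 1} := fun x _ => by
        by_cases hx : x = 0
        · simp [hx]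
        · simp [hh x hx]
      have := (Finset.card_le_card this).trans Finset.card_le_two
      rw [Finset.card_univ, hq] at this
      omega
    refine ⟨ω, ?_, hω1⟩
    have := FiniteField.pow_card_sub_one_eq_one ω hω0
    rwa [hq] at this
  have hω0 : ω ≠ 0 := fun h => by rw [h, zero_pow (by norm_num)] at hω3; exact zero_ne_one hω3
  let mk : F → AddMonoid.End W := fun a =>
    N.ψ.symm.toAddMonoidHom.comp ((DistribSMul.toAddMonoidHom (Fin 2 → F) a).comp N.ψ.toAddMonoidHom)
  have hmk : ∀ a b, a * b = 1 → mk a * mk b = 1 := fun a b hab => AddMonoidHom.ext fun w => by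
    show N.ψ.symm (a • N.ψ (N.ψ.symm (b • N.ψ w))) = w
    rw [N.ψ.apply_symm_apply, smul_smul, hab, one_smul, N.ψ.symm_apply_apply]
  let sc : (AddMonoid.End W)ˣ :=
    ⟨mk ω, mk ω⁻¹, hmk _ _ (mul_inv_cancel₀ hω0), hmk _ _ (inv_mul_cancel₀ hω0)⟩
  have hsc : ∀ w, N.ψ ((sc : AddMonoid.End W) w) = ω • N.ψ w := fun w => N.ψ.apply_symm_apply _
  have hsc3 : sc ^ 3 = 1 := by
    refine Units.ext (AddMonoidHom.ext fun w => N.ψ.injective ?_)
    show N.ψ ((sc : AddMonoid.End W) ((sc : AddMonoid.End W) ((sc : AddMonoid.End W) w))) = N.ψ w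
    rw [hsc, hsc, hsc, smul_smul, smul_smul, show ω * ω * ω = ω ^ 3 by ring, hω3, one_smul]
  have hsc1 : sc ≠ 1 := by
    intro h
    have h1 := hsc (N.vec 1 0)
    rw [h, Units.val_one, show (1 : AddMonoid.End W) (N.vec 1 0) = N.vec 1 0 from rfl] at h1
    have h2 := congrFun h1 0
    simp [coord0] at h2
    exact hω1 h2.symm
  have hscL : ∀ l ∈ N.L, φ l * Θ sc = Θ sc * φ l := by
    intro l hl
    show Θ _ * Θ sc = Θ sc * Θ _
    rw [← map_mul, ← map_mul]
    congr 1
    refine Units.ext (AddMonoidHom.ext fun w => N.ψ.injective ?_)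
    show N.ψ (l • (sc : AddMonoid.End W) w) = N.ψ ((sc : AddMonoid.End W) (l • w))
    rw [hsc, show l = ((⟨l, hl⟩ : ↥N.L) : G) from rfl, N.equiv, N.equiv, hsc, Matrix.mulVec_smul]
  have hT8 := N.card_T_le T hAT hTN hTX hq
  have h16 : ¬ 16 ∣ Nat.card φ.range := by
    rw [← Nat.card_congr (MonoidHom.ofInjective hφ).toEquiv]
    intro h
    have h1 : (2 : ℕ) ^ 4 ∣ Nat.card (T : Subgroup G) := T.pow_dvd_card_of_pow_dvd_card (by norm_num; exact h)
    have := Nat.le_of_dvd Nat.card_pos h1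
    omega
  obtain ⟨t, htT, htA⟩ := SetLike.not_le_iff_exists.mp hTA
  have hcardL : Nat.card N.L = 60 := by
    rw [Nat.card_congr N.ρ.toEquiv, Cfsg.Agent.PSLCard.card_SL2, Nat.card_eq_fintype_card, hq]
    norm_num
  have htL : t ∉ N.L := by
    intro htL
    have hTL : IsPGroup 2 ((T : Subgroup G) ⊓ N.L : Subgroup G) := T.isPGroup'.to_inf_left
    obtain ⟨k, hk⟩ := hTL.exists_card_eq
    have hlt : Nat.card N.A < Nat.card ((T : Subgroup G) ⊓ N.L : Subgroup G) := by
      refine lt_of_le_of_ne (Subgroup.card_le_of_le (le_inf hAT N.A_le_L)) fun he => htA ?_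
      exact (Subgroup.eq_of_le_of_card_ge (le_inf hAT N.A_le_L) he.ge).ge ⟨htT, htL⟩
    have hdvd := Subgroup.card_dvd_of_le (inf_le_right : (T : Subgroup G) ⊓ N.L ≤ N.L)
    rw [hk, N.card_A, hq] at hlt
    rw [hk, hcardL] at hdvd
    have hk3 : 3 ≤ k := by
      by_contra hh
      have : 2 ^ k ≤ 2 ^ 2 := Nat.pow_le_pow_right (by norm_num) (by omega)
      omega
    have h8 : 2 ^ 3 ∣ 60 := (pow_dvd_pow 2 hk3).trans hdvd
    norm_num at h8
  set Hh := φ.range with hHh
  set L' := N.L.map φ with hL'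
  have hgen : ∀ K : Subgroup (Equiv.Perm (Fin 8)), (∀ g ∈ L', g * g = 1 → g ∈ K) → L' ≤ K := by
    intro K hK
    have key : ∀ l : ↥N.L, φ l ∈ K := by
      suffices hh : ((K.comap φ).subgroupOf N.L).map N.ρ.toMonoidHom = ⊤ by
        intro l
        obtain ⟨m, hm, hme⟩ := hh.ge (Subgroup.mem_top (N.ρ l))
        rw [show m = l from N.ρ.injective hme] at hm
        exact hm
      refine Cfsg.Agent.PSLSimple.eq_top_of_transvection_mem _ fun i j hij c => ?_
      refine ⟨N.ρ.symm (SpecialLinearGroup.transvection hij c), ?_, N.ρ.apply_symm_apply _⟩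
      show φ _ ∈ K
      refine hK _ ⟨_, SetLike.coe_mem _, rfl⟩ ?_
      rw [← map_mul, ← map_one φ, Subgroup.coe_subtype, ← Subgroup.coe_mul, ← OneMemClass.coe_one N.L, ← map_mul]
      congr 2
      rw [← map_one N.ρ.symm]
      congr 1
      refine Subtype.ext ?_
      show (SpecialLinearGroup.transvection hij c : Matrix (Fin 2) (Fin 2) F) *
          (SpecialLinearGroup.transvection hij c : Matrix (Fin 2) (Fin 2) F) = 1
      rw [SpecialLinearGroup.transvection_coe]
      rw [mul_add, add_mul, add_mul, one_mul, mul_one, one_mul, Matrix.single_mul_single_of_ne (h := hij.symm),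
        add_zero, add_assoc]
      rw [← Matrix.single_add, CharTwo.add_self_eq_zero, Matrix.single_zero, add_zero]
    rintro _ ⟨l, hl, rfl⟩
    exact key ⟨l, hl⟩
  have htN : ∀ g ∈ L', φ t * g * (φ t)⁻¹ ∈ L' := by
    rintro _ ⟨l, hl, rfl⟩
    exact ⟨t * l * t⁻¹, (Subgroup.mem_normalizer_iff.mp (hTN htT) l).mp hl, by simp⟩
  rcases AltEightOvergroup35.classify (H := Hh) (L := L')
    (by rintro _ ⟨g, rfl⟩; exact SetLike.coe_mem _) (Subgroup.map_le_range φ N.L)
    ((Subgroup.card_map_of_injective hφ).trans hcardL) hgen (c := Θ sc)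
    (Equiv.Perm.mem_alternatingGroup.mp (SetLike.coe_mem _))
    (by rw [← map_pow, hsc3, map_one]) (fun h => hsc1 (hΘ (h.trans (map_one Θ).symm)))
    (by rintro _ ⟨l, hl, rfl⟩; exact hscL l hl) h16 ⟨t, rfl⟩ htN
    (fun h => htL (by
      obtain ⟨l, hl, he⟩ := h
      exact hφ he ▸ hl)) with h | ⟨⟨e⟩⟩
  · refine Or.inl ⟨fun n hn g => ?_⟩
    obtain ⟨l, hl, he⟩ := h (φ g) ⟨g, rfl⟩ (φ n) ⟨n, hn, rfl⟩
    rw [← map_inv, ← map_mul, ← map_mul] at he
    exact hφ he ▸ hl
  · exact Or.inr ⟨(MonoidHom.ofInjective hφ).trans e⟩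

end Nat2

end Cfsg.Agent.NaturalOvergroup35
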