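import Mathlib
import Cfsg.Prelude.Def_LocalEven
import Cfsg.Agent.Lib.QdStructure56

/-! Natural SL(2)-modules inside a group: normalised coordinates adapted to a Sylow subgroup. -/

set_option autoImplicit false
set_option linter.all false

namespace Cfsg.Agent.NaturalSL2Mod56

open Matrix
open scoped MatrixGroups Pointwise
open Cfsg.Agent.PSL2Elements

variable {G : Type*} [Group G] {F : Type*} [Field F]

/-- Coordinates on a faithful natural module in which `T` is the upper unitriangular group. -/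
structure Coord (F : Type*) [Field F] (V L T : Subgroup G) where
  e : ↥L ≃* SL(2, F)
  ψ : Additive ↥V ≃+ (Fin 2 → F)
  mem : ∀ (l : ↥L) (v : ↥V), (l : G) * (v : G) * (l : G)⁻¹ ∈ V
  equiv : ∀ (l : ↥L) (v : ↥V),
    ψ (Additive.ofMul ⟨(l : G) * (v : G) * (l : G)⁻¹, mem l v⟩) = (e l).1 *ᵥ ψ (Additive.ofMul v)
  T_le : T ≤ L
  mem_T : ∀ l : ↥L, (l : G) ∈ T ↔ e l ∈ PSL2Sylow.uSub F

theorem exists_coord [Finite G] [Finite F] {p : ℕ} [Fact p.Prime] [CharP F p] {V L : Subgroup G}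
    (hnat : Cfsg.IsNaturalSL2Module F V L) (hf : L ⊓ Subgroup.centralizer (V : Set G) = ⊥)
    (S : Sylow p ↥L) : Nonempty (Coord F V L ((S : Subgroup ↥L).map L.subtype)) := by
  obtain ⟨hLV, ρ, ψ, hρ, hker, heq⟩ := hnat
  have hinj : Function.Injective ρ := by
    rw [← MonoidHom.ker_eq_bot_iff, hker, Subgroup.subgroupOf_eq_bot, disjoint_iff, inf_comm]
    exact hf
  let e₀ : ↥L ≃* SL(2, F) := MulEquiv.ofBijective ρ ⟨hinj, hρ⟩
  obtain ⟨A, hA⟩ := PSL2Sylow.sylow_eq_conj p (S.mapSurjective (f := e₀.toMonoidHom) e₀.surjective)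
  have hA' : (S : Subgroup ↥L).map e₀.toMonoidHom = MulAut.conj A • PSL2Sylow.uSub F := hA
  have hmem : ∀ (l : ↥L) (v : ↥V), (l : G) * (v : G) * (l : G)⁻¹ ∈ V := fun l v =>
    (Subgroup.mem_normalizer_iff.mp (hLV l.2) v).mp v.2
  let lin : (Fin 2 → F) ≃+ (Fin 2 → F) :=
    { toFun := fun v => (A⁻¹).1 *ᵥ v
      invFun := fun v => A.1 *ᵥ v
      left_inv := fun v => by
        show A.1 *ᵥ ((A⁻¹).1 *ᵥ v) = v
        rw [Matrix.mulVec_mulVec, ← QdStructure56.coeMul, mul_inv_cancel, QdStructure56.coeOne, Matrix.one_mulVec]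
      right_inv := fun v => by
        show (A⁻¹).1 *ᵥ (A.1 *ᵥ v) = v
        rw [Matrix.mulVec_mulVec, ← QdStructure56.coeMul, inv_mul_cancel, QdStructure56.coeOne, Matrix.one_mulVec]
      map_add' := fun v w => Matrix.mulVec_add _ v w }
  refine ⟨{ e := e₀.trans (MulAut.conj A⁻¹), ψ := ψ.trans lin, mem := hmem, equiv := fun l v => ?_,
            T_le := Subgroup.map_subtype_le _, mem_T := fun l => ?_ }⟩
  · obtain ⟨w, hw, hwψ⟩ := heq l v
    rw [show (⟨(l : G) * (v : G) * (l : G)⁻¹, hmem l v⟩ : ↥V) = w from Subtype.ext hw.symm]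
    show (A⁻¹).1 *ᵥ ψ (Additive.ofMul w) = (A⁻¹ * ρ l * A⁻¹⁻¹).1 *ᵥ ((A⁻¹).1 *ᵥ ψ (Additive.ofMul v))
    rw [hwψ, Matrix.mulVec_mulVec, Matrix.mulVec_mulVec, ← QdStructure56.coeMul, ← QdStructure56.coeMul,
      inv_mul_cancel_right]
  · show _ ↔ A⁻¹ * e₀ l * A⁻¹⁻¹ ∈ PSL2Sylow.uSub F
    have h1 : (l : G) ∈ (S : Subgroup ↥L).map L.subtype ↔ e₀ l ∈ (S : Subgroup ↥L).map e₀.toMonoidHom :=
      (Subgroup.mem_map_iff_mem L.subtype_injective).trans (Subgroup.mem_map_iff_mem e₀.injective).symm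
    rw [h1, hA', Subgroup.mem_pointwise_smul_iff_inv_smul_mem, ← map_inv]
    simp [MulAut.smul_def]

variable {V L T : Subgroup G}

/-- Coordinates of an element of `V`. -/
def Coord.co (c : Coord F V L T) {v : G} (hv : v ∈ V) : Fin 2 → F := c.ψ (Additive.ofMul ⟨v, hv⟩)

theorem Coord.co_mul (c : Coord F V L T) {v w : G} (hv : v ∈ V) (hw : w ∈ V) (h : v * w ∈ V) :
    c.co h = c.co hv + c.co hw := by
  show c.ψ (Additive.ofMul (⟨v, hv⟩ * ⟨w, hw⟩)) = _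
  rw [ofMul_mul, map_add]
  rfl

theorem Coord.co_inv (c : Coord F V L T) {v : G} (hv : v ∈ V) : c.co (V.inv_mem hv) = -c.co hv := by
  show c.ψ (Additive.ofMul (⟨v, hv⟩⁻¹ : ↥V)) = _
  rw [ofMul_inv, map_neg]
  rfl

theorem Coord.co_inj (c : Coord F V L T) {v w : G} (hv : v ∈ V) (hw : w ∈ V) (h : c.co hv = c.co hw) :
    v = w := congrArg (fun a : Additive ↥V => ((Additive.toMul a : ↥V) : G)) (c.ψ.injective h)

theorem Coord.co_surj (c : Coord F V L T) (x : Fin 2 → F) : ∃ (v : G) (hv : v ∈ V), c.co hv = x :=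
  ⟨_, (Additive.toMul (c.ψ.symm x)).2, by simp [Coord.co]⟩

theorem Coord.co_conj (c : Coord F V L T) (l : ↥L) {v : G} (hv : v ∈ V)
    (h : (l : G) * v * (l : G)⁻¹ ∈ V) : c.co h = (c.e l).1 *ᵥ c.co hv := c.equiv l ⟨v, hv⟩

theorem Coord.fix_iff (c : Coord F V L T) (l : ↥L) {v : G} (hv : v ∈ V) :
    (l : G) * v = v * (l : G) ↔ (c.e l).1 *ᵥ c.co hv = c.co hv := by
  have h := c.mem l ⟨v, hv⟩
  rw [← c.co_conj l hv h]
  constructor
  · intro he
    congr 1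
    simp [he]
  · intro he
    exact mul_inv_eq_iff_eq_mul.mp (c.co_inj h hv he)

theorem u_mulVec (x : F) (v : Fin 2 → F) : (u x).1 *ᵥ v = ![v 0 + x * v 1, v 1] := by
  funext i
  fin_cases i <;> simp [u, Matrix.mulVec, dotProduct, Fin.sum_univ_two]

theorem Coord.fix_u_iff (c : Coord F V L T) (l : ↥L) {x : F} (hx : c.e l = u x) {v : G} (hv : v ∈ V) :
    (l : G) * v = v * (l : G) ↔ x = 0 ∨ c.co hv 1 = 0 := by
  rw [c.fix_iff l hv, hx, u_mulVec, funext_iff, Fin.forall_fin_two]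
  simp

/-- The fixed points of `T`. -/
theorem Coord.mem_fixed_iff (c : Coord F V L T) {v : G} :
    v ∈ V ⊓ Subgroup.centralizer (T : Set G) ↔ ∃ hv : v ∈ V, c.co hv 1 = 0 := by
  rw [Subgroup.mem_inf, Subgroup.mem_centralizer_iff]
  constructor
  · rintro ⟨hv, h⟩
    refine ⟨hv, ?_⟩
    have hl : ((c.e.symm (u (1 : F))) : G) ∈ T := by
      rw [c.mem_T, MulEquiv.apply_symm_apply]
      exact PSL2Sylow.mem_uSub.mpr ⟨1, rfl⟩
    exact ((c.fix_u_iff (x := 1) _ (MulEquiv.apply_symm_apply _ _) hv).mp (h _ hl)).resolve_left one_ne_zero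
  · rintro ⟨hv, h⟩
    refine ⟨hv, fun t ht => ?_⟩
    obtain ⟨x, hx⟩ := PSL2Sylow.mem_uSub.mp ((c.mem_T ⟨t, c.T_le ht⟩).mp ht)
    exact (c.fix_u_iff ⟨t, c.T_le ht⟩ hx hv).mpr (Or.inr h)

end Cfsg.Agent.NaturalSL2Mod56
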