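import Cfsg.Agent.Lib.BrauerPairs81Local
import Cfsg.Agent.Lib.BrauerBlocksOrth
import Cfsg.Agent.Lib.BrauerPairs81Nilpotent
import Cfsg.Agent.Lib.BrauerPairs81Induced

/-!
Blocks of a group whose idempotents live on a normal subgroup of it, and nilpotency of blocks
under extensions by `p`-groups.
-/

namespace Cfsg.Agent.NilpotentExtension78

open Cfsg Cfsg.Agent.BlockTheoryLocalRing Cfsg.Agent.BlockTheoryCentre
open Cfsg.Agent.BlockTheoryIdem Cfsg.Agent.BlockTheoryBrauer
open Cfsg.Agent.BrauerPairs81Base Cfsg.Agent.BrauerPairs81Pairs Cfsg.Agent.BrauerPairs81Conj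
open Cfsg.Agent.BrauerPairs81Local

attribute [local instance] Classical.propDecidable

set_option linter.unusedSectionVars false

variable {p : ℕ} {M : Ideal AlgInt} {G : Type*} [Group G] [Fintype G]

/-- Vanishing outside `L`. -/
def Supp (L : Subgroup G) (z : MonoidAlgebra ℂ G) : Prop := ∀ x, x ∉ L → z.coeff x = 0

theorem supp_eb (L : Subgroup G) (g : Set (IrrCharacter L)) : Supp L (eb L g) :=
  fun _ hx => coeff_eb_of_notMem L g hx

theorem incl_res {L : Subgroup G} {z : MonoidAlgebra ℂ G} (hz : Supp L z) :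
    incl L (res L z) = z := by
  refine MonoidAlgebra.ext ?_
  ext x
  by_cases hx : x ∈ L
  · rw [show x = ((⟨x, hx⟩ : L) : G) from rfl, coeff_incl_coe, coeff_res]
  · rw [coeff_incl_of_notMem L _ hx, hz x hx]

theorem cjA_eq_map (u : G) (z : MonoidAlgebra ℂ G) :
    cjA u z = MonoidAlgebra.mapDomainRingHom ℂ (MulAut.conj u).toMonoidHom z := by
  refine MonoidAlgebra.ext ?_
  ext x
  rw [coeff_cjA]
  have e : x = (MulAut.conj u) (u⁻¹ * x * u) := by simp [MulAut.conj_apply, mul_assoc]
  conv_rhs => rw [e]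
  exact (Finsupp.mapDomain_apply (MulAut.conj u).injective _ _).symm

theorem cjA_map_mul (u : G) (z w : MonoidAlgebra ℂ G) : cjA u (z * w) = cjA u z * cjA u w := by
  simp only [cjA_eq_map, map_mul]

theorem cjA_map_sum {ι : Type*} (u : G) (s : Finset ι) (f : ι → MonoidAlgebra ℂ G) :
    cjA u (∑ i ∈ s, f i) = ∑ i ∈ s, cjA u (f i) := by
  simp only [cjA_eq_map, map_sum]

theorem omega_idem_dichotomy {K : Type*} [Group K] [Fintype K] {z : MonoidAlgebra ℂ K}
    (hz : IsCen z) (hzz : z * z = z) (θ : IrrCharacter K) :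
    omega (θ : K → ℂ) z = 0 ∨ omega (θ : K → ℂ) z = 1 := by
  have h := omega_mul θ hz (w := z)
  rw [hzz] at h
  rcases eq_or_ne (omega (θ : K → ℂ) z) 0 with h0 | h0
  · exact Or.inl h0
  · exact Or.inr (by
      refine mul_left_cancel₀ h0 ?_
      rw [mul_one]; exact h.symm)

/-- A central integral idempotent has constant central character on a block. -/
theorem omega_idem_eq {K : Type*} [Group K] [Fintype K] (hM : IsPModular p M)
    {z : MonoidAlgebra ℂ K} (hz : IsCen z) (hzi : IsInt M z) (hzz : z * z = z)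
    {g : Set (IrrCharacter K)} (hg : IsPBlock M g) {θ η : IrrCharacter K} (hθ : θ ∈ g)
    (hη : η ∈ g) : omega (θ : K → ℂ) z = omega (η : K → ℂ) z := by
  have h := omega_sub_mem hM (sameBlock_of_mem hM hg hθ hη) hz hzi
  rcases omega_idem_dichotomy hz hzz θ with h1 | h1 <;>
    rcases omega_idem_dichotomy hz hzz η with h2 | h2
  · rw [h1, h2]
  · rw [h1, h2, zero_sub] at h
    exact absurd (by simpa using ideal_neg h) (one_not_ideal hM)
  · rw [h1, h2, sub_zero] at h
    exact absurd h (one_not_ideal hM)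
  · rw [h1, h2]

theorem idem_mul_dichotomy {K : Type*} [Group K] [Fintype K] (hM : IsPModular p M)
    {z : MonoidAlgebra ℂ K} (hz : IsCen z) (hzi : IsInt M z) (hzz : z * z = z)
    {g : Set (IrrCharacter K)} (hg : IsPBlock M g) :
    z * idem g = idem g ∨ z * idem g = 0 := by
  obtain ⟨θ, hθ⟩ := block_nonempty hM hg
  rcases omega_idem_dichotomy hz hzz θ with h | h
  · refine Or.inr (ext_omega (hz.mul (isCen_idem g)) isCen_zero fun η => ?_)
    rw [omega_mul η hz, omega_idem, map_zero]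
    split_ifs with hη
    · rw [omega_idem_eq hM hz hzi hzz hg hη hθ, h, zero_mul]
    · rw [mul_zero]
  · refine Or.inl (ext_omega (hz.mul (isCen_idem g)) (isCen_idem g) fun η => ?_)
    rw [omega_mul η hz, omega_idem]
    split_ifs with hη
    · rw [omega_idem_eq hM hz hzi hzz hg hη hθ, h, one_mul]
    · rw [mul_zero]

theorem idem_ne_zero {K : Type*} [Group K] [Fintype K] (hM : IsPModular p M)
    {g : Set (IrrCharacter K)} (hg : IsPBlock M g) : idem g ≠ (0 : MonoidAlgebra ℂ K) := by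
  intro h
  obtain ⟨θ, hθ⟩ := block_nonempty hM hg
  have h1 := omega_idem g θ
  rw [h, map_zero, if_pos hθ] at h1
  exact zero_ne_one h1

theorem eb_ne_zero (hM : IsPModular p M) {L : Subgroup G} {g : Set (IrrCharacter L)}
    (hg : IsPBlock M g) : eb L g ≠ 0 := by
  intro h
  exact idem_ne_zero hM hg (by rw [← res_eb L g, h, map_zero])

/-! ### A subgroup carrying all block idempotents -/

section Pair

variable {H L : Subgroup G}

/-- `g` lies below `e`. -/
def Below (H L : Subgroup G) (e : Set (IrrCharacter H)) (g : Set (IrrCharacter L)) : Prop :=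
  eb H e * eb L g = eb L g

/-- All block idempotents of `H` vanish outside `L`, a normal subgroup of `H`. -/
structure Carrier (M : Ideal AlgInt) (H L : Subgroup G) : Prop where
  le : L ≤ H
  normal : H ≤ Subgroup.normalizer (L : Set G)
  supp : ∀ e : Set (IrrCharacter H), IsPBlock M e → Supp L (eb H e)

variable (hM : IsPModular p M) (hC : Carrier M H L)

include hC in
theorem res_eb_props {e : Set (IrrCharacter H)} (he : IsPBlock M e) :
    IsCen (res L (eb H e)) ∧ res L (eb H e) * res L (eb H e) = res L (eb H e) := by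
  refine ⟨isCen_res_of_invBy (invBy_mono hC.le (invBy_eb_self H e)), ?_⟩
  rw [← res_mul_of_supported L (hC.supp e he), eb_sq]

include hC in
theorem mul_eb_eq {e : Set (IrrCharacter H)} (he : IsPBlock M e) (g : Set (IrrCharacter L)) :
    eb H e * eb L g = incl L (res L (eb H e) * idem g) := by
  conv_lhs => rw [← incl_res (hC.supp e he), eb_eq_incl L g, ← map_mul]

include hM hC in
theorem below_or_zero {e : Set (IrrCharacter H)} (he : IsPBlock M e)
    {g : Set (IrrCharacter L)} (hg : IsPBlock M g) :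
    Below H L e g ∨ eb H e * eb L g = 0 := by
  obtain ⟨hc, hq⟩ := res_eb_props hC he
  rcases idem_mul_dichotomy hM hc (isInt_res L (isInt_eb hM he)) hq hg with h | h
  · exact Or.inl (by rw [Below, mul_eb_eq hC he, h, eb_eq_incl])
  · exact Or.inr (by rw [mul_eb_eq hC he, h, map_zero])

include hM hC in
theorem exists_above {g : Set (IrrCharacter L)} (hg : IsPBlock M g) :
    ∃ e : Set (IrrCharacter H), IsPBlock M e ∧ Below H L e g := by
  by_contra h
  push Not at h
  refine eb_ne_zero hM hg ?_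
  conv_lhs => rw [← one_mul (eb L g), ← sum_eb hM H, Finset.sum_mul]
  refine Finset.sum_eq_zero fun e he => ?_
  have hb := mem_blockSet.mp he
  exact (below_or_zero hM hC hb hg).resolve_left (h e hb)

include hM hC in
theorem exists_below {e : Set (IrrCharacter H)} (he : IsPBlock M e) :
    ∃ g : Set (IrrCharacter L), IsPBlock M g ∧ Below H L e g := by
  by_contra h
  push Not at h
  refine eb_ne_zero hM he ?_
  conv_lhs => rw [← mul_one (eb H e), ← sum_eb hM L, Finset.mul_sum]
  refine Finset.sum_eq_zero fun g hg => ?_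
  have hb := mem_blockSet.mp hg
  exact (below_or_zero hM hC he hb).resolve_left (h g hb)

include hM in
theorem above_unique {e e' : Set (IrrCharacter H)} (he : IsPBlock M e) (he' : IsPBlock M e')
    {g : Set (IrrCharacter L)} (hg : IsPBlock M g) (h : Below H L e g) (h' : Below H L e' g) :
    e = e' := by
  by_contra hne
  refine eb_ne_zero hM hg ?_
  unfold Below at h h'
  rw [← h, ← h', ← mul_assoc, eb_mul_of_ne hM he he' hne, zero_mul]

include hM hC in
/-- Central characters of a central element living on `L` agree along `Below`. -/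
theorem transfer {e : Set (IrrCharacter H)} (he : IsPBlock M e) {g : Set (IrrCharacter L)}
    (h : Below H L e g) {ξ : IrrCharacter H} (hξ : ξ ∈ e) {η : IrrCharacter L} (hη : η ∈ g)
    {Z : MonoidAlgebra ℂ G} (hZ : InvBy H Z) (hZi : IsInt M Z)
    (hZs : ∀ x ∈ H, x ∉ L → Z.coeff x = 0) :
    MemLocalIdeal M (omega (η : L → ℂ) (res L Z) - omega (ξ : H → ℂ) (res H Z)) := by
  set c := omega (ξ : H → ℂ) (res H Z) with hcdef
  have hzc : IsCen (res H Z) := isCen_res_of_invBy hZ
  have hcR : MemLocalRing M c := omega_mem_localRing hM ξ hzc (isInt_res H hZi)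
  set y := res H Z * idem e - c • idem e with hydef
  have hyc : IsCen y := (hzc.mul (isCen_idem e)).sub ((isCen_idem e).smul c)
  have hyi : IsInt M y := IsInt.sub hM (IsInt.mul hM (isInt_res H hZi) (isInt_idem hM he))
    (IsInt.smul hM hcR (isInt_idem hM he))
  obtain ⟨n, hn⟩ := exists_small_pow hM hyc hyi fun χ => by
    rw [hydef, map_sub, map_smul, omega_mul χ hzc, omega_idem]
    split_ifs with hχ
    · have := omega_sub_mem hM (sameBlock_of_mem hM he hχ hξ) hzc (isInt_res H hZi)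
      rw [mul_one, smul_eq_mul, mul_one]
      exact this
    · simp only [mul_zero, smul_zero, sub_zero]
      exact ideal_zero hM
  have hye : ∀ x, x ∉ L → (incl H y).coeff x = 0 := by
    intro x hx
    by_cases hxH : x ∈ H
    · have h1 : Supp L (incl H (res H Z) * eb H e) := by
        have hs : Supp L (incl H (res H Z)) := fun z hz => by
          by_cases hzH : z ∈ H
          · rw [show z = ((⟨z, hzH⟩ : H) : G) from rfl, coeff_incl_coe, coeff_res]
            exact hZs z hzH hz
          · exact coeff_incl_of_notMem H _ hzH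
        intro z hz
        rw [← incl_res hs, ← incl_res (hC.supp e he), ← map_mul]
        exact coeff_incl_of_notMem L _ hz
      rw [hydef, map_sub, map_mul, ← eb_eq_incl,
        show incl H (c • idem e) = c • eb H e by
          rw [eb_eq_incl]; exact MonoidAlgebra.mapDomain_smul _ _ _]
      simp [h1 x hx, hC.supp e he x hx]
    · exact coeff_incl_of_notMem H _ hxH
  have hpow : ∀ m : ℕ, res L (incl H (y ^ m)) = res L (incl H y) ^ m := by
    intro m
    induction m with
    | zero => rw [pow_zero, map_one, pow_zero, res_one]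
    | succ m ih => rw [pow_succ', map_mul, res_mul_of_supported L hye, ih, pow_succ']
  have hwc : IsCen (res L (incl H y)) := by
    refine isCen_res_of_invBy (invBy_mono hC.le fun u hu x => ?_)
    by_cases hx : x ∈ H
    · have h1 := coeff_incl_coe H y (⟨u, hu⟩ * ⟨x, hx⟩ * (⟨u, hu⟩ : H)⁻¹)
      simp only [Subgroup.coe_mul, Subgroup.coe_inv] at h1
      rw [h1, coeff_incl_coe H y ⟨x, hx⟩]
      exact hyc ⟨x, hx⟩ ⟨u, hu⟩
    · rw [coeff_incl_of_notMem H y hx, coeff_incl_of_notMem H y]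
      intro h
      exact hx (by simpa [mul_assoc] using H.mul_mem (H.mul_mem (H.inv_mem hu) h) hu)
  have hsm : Small M (res L (incl H y) ^ n) := by
    rw [← hpow]
    intro l
    rw [coeff_res, show (l : G) = ((⟨(l : G), hC.le l.2⟩ : H) : G) from rfl, coeff_incl_coe]
    exact hn _
  have h1 : MemLocalIdeal M (omega (η : L → ℂ) (res L (incl H y))) :=
    ideal_of_pow_ideal hM (omega_mem_localRing hM η hwc (isInt_res L (isInt_incl H hM hyi)))
      (omega_pow η hwc n ▸ omega_ideal_of_small hM η (IsCen.pow hwc n) hsm)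
  have heq : res L (incl H y) = res L Z * res L (eb H e) - c • res L (eb H e) := by
    have e1 : res L (incl H y) = res L (incl H (res H Z) * eb H e) - c • res L (eb H e) := by
      rw [hydef, map_sub, map_mul, ← eb_eq_incl, map_sub,
        show incl H (c • idem e) = c • eb H e by
          rw [eb_eq_incl]; exact MonoidAlgebra.mapDomain_smul _ _ _, map_smul]
    have e2 : res L (incl H (res H Z)) = res L Z := by
      refine MonoidAlgebra.ext ?_
      ext l
      rw [coeff_res, coeff_res, show (l : G) = ((⟨(l : G), hC.le l.2⟩ : H) : G) from rfl,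
        coeff_incl_coe, coeff_res]
    rw [e1, res_mul_of_supported L (fun z hz => ?_), e2]
    by_cases hzH : z ∈ H
    · rw [show z = ((⟨z, hzH⟩ : H) : G) from rfl, coeff_incl_coe, coeff_res]
      exact hZs z hzH hz
    · exact coeff_incl_of_notMem H _ hzH
  have hone : omega (η : L → ℂ) (res L (eb H e)) = 1 := by
    have h2 := congrArg (fun w => omega (η : L → ℂ) (res L w)) h
    simp only [res_mul_of_supported L (hC.supp e he), res_eb,
      omega_mul η (res_eb_props hC he).1, omega_idem, if_pos hη, mul_one] at h2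
    exact h2
  rw [heq, map_sub, map_smul, omega_mul η (isCen_res_of_invBy (invBy_mono hC.le hZ)), hone,
    mul_one, smul_eq_mul, mul_one] at h1
  exact h1

include hC in
theorem conj_block {u : G} (hu : u ∈ H) {g : Set (IrrCharacter L)} (hg : IsPBlock M g) :
    ∃ g' : Set (IrrCharacter L), IsPBlock M g' ∧ cjA u (eb L g) = eb L g' :=
  ⟨_, isPBlock_push _ hg, cjA_eb (conj_mem_iff_of_normalizer (hC.normal hu)) g⟩

include hM hC in
/-- The blocks below one block are conjugate. -/
theorem conj_of_below {e : Set (IrrCharacter H)} (he : IsPBlock M e)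
    {g g' : Set (IrrCharacter L)} (hg : IsPBlock M g) (hg' : IsPBlock M g')
    (h : Below H L e g) (h' : Below H L e g') : ∃ u ∈ H, cjA u (eb L g) = eb L g' := by
  set O : Finset (MonoidAlgebra ℂ G) :=
    Finset.image (fun u : H => cjA (u : G) (eb L g)) Finset.univ with hO
  have hOb : ∀ X ∈ O, ∃ g1 : Set (IrrCharacter L), IsPBlock M g1 ∧ X = eb L g1 := by
    intro X hX
    obtain ⟨u, -, rfl⟩ := Finset.mem_image.mp hX
    exact conj_block hC u.2 hg
  have hOe : ∀ X ∈ O, eb H e * X = X := by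
    intro X hX
    obtain ⟨u, -, rfl⟩ := Finset.mem_image.mp hX
    conv_lhs => rw [← invBy_iff.mp (invBy_eb_self H e) u u.2]
    rw [← cjA_map_mul, h]
  set T := ∑ X ∈ O, X with hT
  have hTH : InvBy H T := by
    refine invBy_iff.mpr fun u hu => ?_
    rw [hT, cjA_map_sum]
    refine Finset.sum_nbij (fun X => cjA u X) ?_ ?_ ?_ fun _ _ => rfl
    · intro X hX
      obtain ⟨v, -, rfl⟩ := Finset.mem_image.mp hX
      exact Finset.mem_image.mpr ⟨⟨u, hu⟩ * v, Finset.mem_univ _, cjA_mul u v _⟩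
    · intro X _ Y _ hXY
      have := congrArg (cjA u⁻¹) hXY
      simpa only [← cjA_mul, inv_mul_cancel, cjA_one] using this
    · intro X hX
      obtain ⟨v, -, rfl⟩ := Finset.mem_image.mp hX
      refine ⟨cjA ((((⟨u, hu⟩ : H))⁻¹ * v : H) : G) (eb L g),
        Finset.mem_image.mpr ⟨_, Finset.mem_univ _, rfl⟩, ?_⟩
      simp only [← cjA_mul]
      congr 1
      simp
  have hTX : ∀ X ∈ O, T * X = X := by
    intro X hX
    obtain ⟨g1, hg1, rfl⟩ := hOb X hX
    rw [hT, Finset.sum_mul, Finset.sum_eq_single_of_mem _ hX, eb_sq]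
    intro Y hY hne
    obtain ⟨g2, hg2, rfl⟩ := hOb Y hY
    exact eb_mul_of_ne hM hg2 hg1 fun h2 => hne (h2 ▸ rfl)
  have hTs : Supp L T := fun x hx => by
    rw [hT, MonoidAlgebra.coeff_sum, Finset.sum_apply']
    refine Finset.sum_eq_zero fun X hX => ?_
    obtain ⟨g1, -, rfl⟩ := hOb X hX
    exact supp_eb L g1 x hx
  have hTsH : Supp H T := fun x hx => hTs x fun h => hx (hC.le h)
  have hTT : T * T = T := by
    conv_lhs => arg 2; rw [hT]
    rw [Finset.mul_sum]
    exact Finset.sum_congr rfl hTX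
  have heT : eb H e * T = T := by
    rw [hT, Finset.mul_sum]
    exact Finset.sum_congr rfl hOe
  have hTi : IsInt M T := fun x => by
    rw [hT, MonoidAlgebra.coeff_sum, Finset.sum_apply']
    refine (localRing hM).sum_mem fun X hX => ?_
    obtain ⟨g1, hg1, rfl⟩ := hOb X hX
    exact isInt_eb hM hg1 x
  have hmul : idem e * res H T = res H T := by
    rw [← res_eb H e, ← res_mul_of_supported H (supp_eb H e), heT]
  have hgO : eb L g ∈ O := Finset.mem_image.mpr ⟨1, Finset.mem_univ _, by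
    rw [OneMemClass.coe_one, cjA_one]⟩
  have hTe : T = eb H e := by
    rcases idem_mul_dichotomy hM (isCen_res_of_invBy hTH) (isInt_res H hTi)
      (by rw [← res_mul_of_supported H hTsH, hTT]) he with h1 | h1
    · rw [← incl_res hTsH, eb_eq_incl]
      congr 1
      rw [← hmul, (isCen_idem e).comm, h1]
    · exfalso
      refine eb_ne_zero hM hg ?_
      have h0 : res H T = 0 := by rw [← hmul, (isCen_idem e).comm, h1]
      rw [← hTX _ hgO, ← incl_res hTsH, h0, map_zero, zero_mul]
  by_contra hno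
  push Not at hno
  refine eb_ne_zero hM hg' ?_
  unfold Below at h'
  rw [← h', ← hTe, hT, Finset.sum_mul]
  refine Finset.sum_eq_zero fun X hX => ?_
  obtain ⟨u, -, rfl⟩ := Finset.mem_image.mp hX
  obtain ⟨g1, hg1, hX1⟩ := conj_block hC u.2 hg
  rw [hX1]
  exact eb_mul_of_ne hM hg1 hg' fun h2 => hno u u.2 (by rw [hX1, h2])

end Pair

/-! ### Subgroups of `p`-power index -/

section Index

variable [Fact p.Prime] {N : Subgroup G} [N.Normal]

theorem mem_of_regular (hN : ∃ k, N.index = p ^ k) {x : G} (hx : ¬ p ∣ orderOf x) : x ∈ N := by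
  obtain ⟨k, hk⟩ := hN
  have h1 : orderOf (x : G ⧸ N) ∣ p ^ k := hk ▸ (Subgroup.index_eq_card N ▸ orderOf_dvd_natCard _)
  have h2 : orderOf (x : G ⧸ N) ∣ orderOf x := orderOf_map_dvd (QuotientGroup.mk' N) x
  have h3 : orderOf (x : G ⧸ N) = 1 := Nat.eq_one_of_dvd_coprimes
    (((Fact.out : p.Prime).coprime_iff_not_dvd.mpr hx).pow_left k) h1 h2
  exact (QuotientGroup.eq_one_iff x).mp (orderOf_eq_one_iff.mp h3)

theorem pow_mem_of_index (hN : ∃ k, N.index = p ^ k) (x : G) : ∃ k, x ^ p ^ k ∈ N := by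
  obtain ⟨k, hk⟩ := hN
  exact ⟨k, hk ▸ N.pow_index_mem x⟩

theorem carrier (hM : IsPModular p M) (hN : ∃ k, N.index = p ^ k) (Q : Subgroup G) :
    Carrier M (Cen Q) (Cen Q ⊓ N) := by
  refine ⟨inf_le_left, fun u hu => Subgroup.mem_normalizer_iff.mpr fun x => ?_, fun e he x hx => ?_⟩
  · simp only [Subgroup.mem_inf]
    refine and_congr (Subgroup.mem_normalizer_iff.mp (Subgroup.le_normalizer hu) x) ?_
    exact ⟨fun h => ‹N.Normal›.conj_mem x h u, fun h => by
      simpa [mul_assoc] using ‹N.Normal›.conj_mem _ h u⁻¹⟩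
  · by_cases hxQ : x ∈ Cen Q
    · have hxN : x ∉ N := fun h => hx ⟨hxQ, h⟩
      rw [show x = ((⟨x, hxQ⟩ : Cen Q) : G) from rfl, coeff_eb_coe]
      refine BrauerBlocksOrth.blockCoeff_eq_zero hM he ?_
      by_contra h
      exact hxN (mem_of_regular hN (by rwa [← Subgroup.orderOf_coe] at h))
    · exact coeff_eb_of_notMem _ _ hxQ

/-- The centraliser in `N` of a subgroup of `N`, seen in `G`. -/
noncomputable def cenN (N : Subgroup G) (R : Subgroup N) :
    Cen R ≃* ↥(Cen (R.map N.subtype) ⊓ N) where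
  toFun x := ⟨((x : N) : G), Subgroup.mem_centralizer_iff.mpr (fun _ ha => by
    obtain ⟨a, ha, rfl⟩ := ha
    exact congrArg N.subtype (Subgroup.mem_centralizer_iff.mp x.2 a ha)), (x : N).2⟩
  invFun y := ⟨⟨y, y.2.2⟩, Subgroup.mem_centralizer_iff.mpr fun a ha => Subtype.ext
    (Subgroup.mem_centralizer_iff.mp y.2.1 _ (Subgroup.mem_map_of_mem N.subtype ha))⟩
  left_inv _ := rfl
  right_inv _ := rfl
  map_mul' _ _ := rfl

theorem coe_cenN (R : Subgroup N) (x : Cen R) : (cenN N R x : G) = ((x : N) : G) := rfl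

theorem eb_cenN (R : Subgroup N) (g : Set (IrrCharacter (Cen R))) :
    eb (Cen (R.map N.subtype) ⊓ N) (pushSet (cenN N R) g) = incl N (eb (Cen R) g) := by
  refine MonoidAlgebra.ext ?_
  ext x
  by_cases hx : x ∈ Cen (R.map N.subtype) ⊓ N
  · obtain ⟨y, hy⟩ := (cenN N R).surjective ⟨x, hx⟩
    rw [show x = ((y : N) : G) from (congrArg Subtype.val hy).symm, coeff_incl_coe,
      coeff_eb_coe, ← coe_cenN R y, coeff_eb_coe, blockCoeff_push]
  · rw [coeff_eb_of_notMem _ _ hx]
    by_cases hxN : x ∈ N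
    · rw [show x = ((⟨x, hxN⟩ : N) : G) from rfl, coeff_incl_coe]
      refine (coeff_eb_of_notMem _ _ fun h => hx ?_).symm
      have := (cenN N R ⟨⟨x, hxN⟩, h⟩).2
      exact this
    · rw [coeff_incl_of_notMem _ _ hxN]

theorem omega_cenN (R : Subgroup N) (z : MonoidAlgebra ℂ N) (ξ : IrrCharacter (Cen R)) :
    omega (pushChar (cenN N R) ξ : ↥(Cen (R.map N.subtype) ⊓ N) → ℂ)
      (res (Cen (R.map N.subtype) ⊓ N) (incl N z)) = phi R z ξ := by
  rw [phi, omega_apply, omega_apply, chiSum_apply, chiSum_apply,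
    ← Equiv.sum_comp (cenN N R).toEquiv]
  have h1 : (pushChar (cenN N R) ξ : ↥(Cen (R.map N.subtype) ⊓ N) → ℂ) 1 =
      (ξ : Cen R → ℂ) 1 := by
    rw [← map_one (cenN N R), pushChar_apply]
  rw [h1]
  congr 1
  refine Finset.sum_congr rfl fun k _ => ?_
  simp only [MulEquiv.toEquiv_eq_coe, MulEquiv.coe_toEquiv]
  rw [pushChar_apply, coeff_res, coeff_res, coe_cenN, coeff_incl_coe]

theorem cjA_incl_normal (x : N) (z : MonoidAlgebra ℂ N) :
    cjA (x : G) (incl N z) = incl N (cjA x z) := by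
  refine MonoidAlgebra.ext ?_
  ext y
  rw [coeff_cjA]
  by_cases hy : y ∈ N
  · rw [show y = ((⟨y, hy⟩ : N) : G) from rfl, coeff_incl_coe, coeff_cjA]
    exact coeff_incl_coe N z (x⁻¹ * ⟨y, hy⟩ * x)
  · rw [coeff_incl_of_notMem N _ hy, coeff_incl_of_notMem]
    intro h
    exact hy (by simpa [mul_assoc] using ‹N.Normal›.conj_mem _ h x)

variable {c : Set (IrrCharacter N)} {B : Set (IrrCharacter G)}

theorem idem_eq_incl (hBc : ∀ g : G, blockCoeff B g = subgroupBlockCoeff N c g) :
    idem B = incl N (idem c) := by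
  rw [← eb_eq_incl]
  refine MonoidAlgebra.ext ?_
  ext x
  exact hBc x

/-- Pairs of `c` and `B` correspond along `Below`. -/
theorem occ_iff (hM : IsPModular p M) (hN : ∃ k, N.index = p ^ k) (hc : IsPBlock M c)
    (hB : IsPBlock M B) (hBc : ∀ g : G, blockCoeff B g = subgroupBlockCoeff N c g)
    {R : Subgroup N} {g : Set (IrrCharacter (Cen R))} (hg : IsPBlock M g)
    {e : Set (IrrCharacter (Cen (R.map N.subtype)))} (he : IsPBlock M e)
    (hbel : Below (Cen (R.map N.subtype)) (Cen (R.map N.subtype) ⊓ N) e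
      (pushSet (cenN N R) g)) :
    Occ M (R.map N.subtype) e (idem B) ↔ Occ M R g (idem c) := by
  have key : ∀ ξ ∈ e, ∀ η ∈ g,
      MemLocalIdeal M (phi R (idem c) η - phi (R.map N.subtype) (idem B) ξ) := by
    intro ξ hξ η hη
    have h := transfer hM (carrier hM hN _) he hbel hξ (η := pushChar (cenN N R) η) ⟨η, hη, rfl⟩
      (IsCen.invBy (isCen_idem B) _) (isInt_idem hM hB) fun x hxH hx => by
        rw [idem_eq_incl hBc]
        exact coeff_incl_of_notMem N _ fun hxN => hx ⟨hxH, hxN⟩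
    rw [idem_eq_incl hBc, omega_cenN, ← idem_eq_incl hBc] at h
    exact h
  obtain ⟨ξ0, hξ0⟩ := block_nonempty hM he
  obtain ⟨η0, hη0⟩ := block_nonempty hM hg
  refine ⟨fun h η hη => ?_, fun h ξ hξ => ?_⟩
  · refine cast (congrArg (MemLocalIdeal M) ?_) (ideal_add hM (key ξ0 hξ0 η hη) (h ξ0 hξ0))
    ring
  · refine cast (congrArg (MemLocalIdeal M) ?_) (ideal_sub hM (h η0 hη0) (key ξ hξ η0 hη0))
    ring

theorem nilpotent_down (hM : IsPModular p M) (hN : ∃ k, N.index = p ^ k) (hc : IsPBlock M c)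
    (hBc : ∀ g : G, blockCoeff B g = subgroupBlockCoeff N c g) (hnil : IsNilpotentBlock p M B) :
    IsNilpotentBlock p M c := by
  refine ⟨hc, fun R g hRg x hxR hst hreg => ?_⟩
  obtain ⟨⟨hRp, hg⟩, -, hocc⟩ := isBrauerPairOf_iff.mp hRg
  set Q := R.map N.subtype with hQ
  obtain ⟨e, he, hbel⟩ := exists_above hM (carrier hM hN Q)
    (isPBlock_push (cenN N R) hg)
  have hpair : IsBrauerPairOf p M B Q e := isBrauerPairOf_iff.mpr
    ⟨⟨hRp.map _, he⟩, hnil.1, (occ_iff hM hN hc hnil.1 hBc hg he hbel).mpr hocc⟩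
  have hu : (x : G) ∈ Subgroup.normalizer (Q : Set G) := by
    refine Subgroup.mem_normalizer_iff.mpr fun a => ⟨?_, ?_⟩
    · rintro ⟨b, hb, rfl⟩
      exact ⟨x * b * x⁻¹, (Subgroup.mem_normalizer_iff.mp hxR b).mp hb, rfl⟩
    · rintro ⟨b, hb, hba⟩
      refine ⟨x⁻¹ * b * x, ?_, ?_⟩
      · refine (Subgroup.mem_normalizer_iff.mp hxR _).mpr ?_
        rw [show x * (x⁻¹ * b * x) * x⁻¹ = b by group]
        exact hb
      · simp only [map_mul, map_inv]
        rw [hba]
        simp [mul_assoc]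
  have hconj := cjA_eb (conj_mem_iff_of_normalizer (normalizer_le_normalizer_cen hu)) e
  set e' := pushSet (conjEquiv (x : G) (Cen Q) (Cen Q)
    (conj_mem_iff_of_normalizer (normalizer_le_normalizer_cen hu))) e
  have hfix : cjA (x : G) (eb (Cen Q ⊓ N) (pushSet (cenN N R) g)) =
      eb (Cen Q ⊓ N) (pushSet (cenN N R) g) := by
    rw [eb_cenN, cjA_incl_normal, (stabilizes_iff.mp hst).2]
  have hee : e' = e := above_unique hM (isPBlock_push _ he) he (isPBlock_push (cenN N R) hg) (by
    unfold Below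
    rw [← hconj, ← hfix, ← cjA_map_mul, hbel, hfix]) hbel
  have hstG : StabilizesBlock (Cen Q) e (x : G) :=
    stabilizes_iff.mpr ⟨normalizer_le_normalizer_cen hu, by rw [hconj, hee]⟩
  have hxQ := hnil.2 Q e hpair x hu hstG (by
    have h1 : ¬ p ∣ orderOf x := hreg
    rw [← Subgroup.orderOf_coe] at h1
    exact h1)
  exact Subgroup.mem_centralizer_iff.mpr fun a ha => Subtype.ext
    (Subgroup.mem_centralizer_iff.mp hxQ _ (Subgroup.mem_map_of_mem N.subtype ha))

/-- A `p`-regular element fixing a block of the centraliser fixes a block below it. -/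
theorem exists_fixed_below (hM : IsPModular p M) (hN : ∃ k, N.index = p ^ k) {Q : Subgroup G}
    {f : Set (IrrCharacter (Cen Q))} (hf : IsPBlock M f) {x : G} (hxN : x ∈ N)
    (hxQ : x ∈ Subgroup.normalizer (Q : Set G)) (hxf : cjA x (eb (Cen Q) f) = eb (Cen Q) f)
    (hxr : ¬ p ∣ orderOf x) :
    ∃ g : Set (IrrCharacter ↥(Cen Q ⊓ N)), IsPBlock M g ∧ Below (Cen Q) (Cen Q ⊓ N) f g ∧
      cjA x (eb (Cen Q ⊓ N) g) = eb (Cen Q ⊓ N) g := by
  have hC := carrier hM hN Q
  set L := Cen Q ⊓ N with hL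
  obtain ⟨g, hg, hbel⟩ := exists_below hM hC hf
  refine ⟨g, hg, hbel, ?_⟩
  set E := eb L g with hE
  have hxL : x ∈ Subgroup.normalizer (L : Set G) := Subgroup.mem_normalizer_iff.mpr fun a => by
    simp only [hL, Subgroup.mem_inf]
    refine and_congr (Subgroup.mem_normalizer_iff.mp (normalizer_le_normalizer_cen hxQ) a) ?_
    exact ⟨fun h => ‹N.Normal›.conj_mem a h x, fun h => by
      simpa [mul_assoc] using ‹N.Normal›.conj_mem _ h x⁻¹⟩
  obtain ⟨g', hg', hE'⟩ : ∃ g', IsPBlock M g' ∧ cjA x E = eb L g' := by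
    rw [hE]
    exact ⟨_, isPBlock_push _ hg, cjA_eb (conj_mem_iff_of_normalizer hxL) g⟩
  have hbel' : Below (Cen Q) L f g' := by
    unfold Below
    rw [← hE', ← hxf, ← cjA_map_mul, hbel]
  obtain ⟨y, hy, hyE⟩ := conj_of_below hM hC hf hg hg' hbel hbel'
  rw [← hE'] at hyE
  have hcomm : ∀ k ∈ Cen Q, cjA (x * k) E = cjA k (cjA x E) := by
    intro k hk
    set c0 := k⁻¹ * x * k * x⁻¹ with hc0
    have hc0L : c0 ∈ L := by
      refine ⟨?_, ?_⟩
      · have h1 := (Subgroup.mem_normalizer_iff.mp (normalizer_le_normalizer_cen hxQ) k).mp hk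
        have := (Cen Q).mul_mem ((Cen Q).inv_mem hk) h1
        show c0 ∈ Cen Q
        simpa only [hc0, mul_assoc] using this
      · have h1 := ‹N.Normal›.conj_mem x hxN k⁻¹
        rw [inv_inv] at h1
        show c0 ∈ N
        simpa only [hc0] using N.mul_mem h1 (N.inv_mem hxN)
    rw [show x * k = k * (c0 * x) by simp only [hc0]; group, cjA_mul, cjA_mul, hE',
      invBy_iff.mp (invBy_eb_self L g') c0 hc0L]
  have hpow : ∀ i : ℕ, cjA (x ^ i) E = cjA (y ^ i) E := by
    intro i
    induction i with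
    | zero => rw [pow_zero, pow_zero]
    | succ i ih =>
      rw [pow_succ', cjA_mul, ih, ← cjA_mul, hcomm _ ((Cen Q).pow_mem hy i), ← hyE, ← cjA_mul,
        ← pow_succ]
  let F : Subgroup G :=
    { carrier := {z | cjA z E = E}
      one_mem' := cjA_one E
      mul_mem' := fun {a b} ha hb => by
        show cjA (a * b) E = E
        rw [cjA_mul, show cjA b E = E from hb, show cjA a E = E from ha]
      inv_mem' := fun {a} ha => by
        show cjA a⁻¹ E = E
        conv_lhs => rw [← (show cjA a E = E from ha), ← cjA_mul, inv_mul_cancel, cjA_one] }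
  obtain ⟨k, hk⟩ := pow_mem_of_index hN y
  have h1 : y ^ p ^ k ∈ F :=
    invBy_iff.mp (invBy_eb_self L g) _ ⟨(Cen Q).pow_mem hy _, hk⟩
  have h2 : y ^ orderOf x ∈ F := by
    show cjA (y ^ orderOf x) E = E
    rw [← hpow, pow_orderOf_eq_one, cjA_one]
  have hcop : IsCoprime ((p ^ k : ℕ) : ℤ) (orderOf x : ℤ) := Int.isCoprime_iff_nat_coprime.mpr
    (by simpa using ((Fact.out : p.Prime).coprime_iff_not_dvd.mpr hxr).pow_left k)
  obtain ⟨a, b, hab⟩ := hcop
  have hyF : y ∈ F := by
    have hmem := F.mul_mem (F.zpow_mem h1 a) (F.zpow_mem h2 b)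
    rwa [← zpow_natCast, ← zpow_mul, ← zpow_natCast y (orderOf x), ← zpow_mul, ← zpow_add,
      mul_comm _ a, mul_comm _ b, hab, zpow_one] at hmem
  rw [← hyE]
  exact hyF

theorem nilpotent_up (hM : IsPModular p M) (hN : ∃ k, N.index = p ^ k) (hB : IsPBlock M B)
    (hBc : ∀ g : G, blockCoeff B g = subgroupBlockCoeff N c g) (hnil : IsNilpotentBlock p M c) :
    IsNilpotentBlock p M B := by
  refine ⟨hB, fun Q e hQe x hxQ hst hreg => ?_⟩
  have hxN : x ∈ N := mem_of_regular hN hreg
  obtain ⟨⟨Q0, f⟩, h0, hle⟩ := ple_exists hM (c := ⟨Q, e⟩) hQe.1 (Q := Q ⊓ N) inf_le_left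
  change Q0 = Q ⊓ N at h0
  have hfp : IsBrauerPairOf p M B Q0 f := isBrauerPairOf_down hM hle hQe
  have hfix : cP x ⟨Q, e⟩ = ⟨Q, e⟩ := cP_eq_self_iff_stabilizes.mpr ⟨hxQ, hst⟩
  have hx0 : x ∈ Subgroup.normalizer (Q0 : Set G) := by
    refine Subgroup.mem_normalizer_iff.mpr fun a => ?_
    simp only [h0, Subgroup.mem_inf]
    refine and_congr (Subgroup.mem_normalizer_iff.mp hxQ a) ?_
    exact ⟨fun h => ‹N.Normal›.conj_mem a h x, fun h => by
      simpa [mul_assoc] using ‹N.Normal›.conj_mem _ h x⁻¹⟩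
  have hfix0 : cP x ⟨Q0, f⟩ = ⟨Q0, f⟩ := by
    have h1 := ple_cP (p := p) (M := M) x hle
    rw [hfix] at h1
    exact ple_unique hM (c := ⟨Q, e⟩) hQe.1 h1 hle (cjS_of_normalizer hx0)
  have hxf := (cP_eq_self_iff.mp hfix0).2
  obtain ⟨g, hg, hbel, hgx⟩ := exists_fixed_below hM hN hfp.1.2 hxN hx0 hxf hreg
  obtain ⟨R, rfl⟩ : ∃ R : Subgroup N, R.map N.subtype = Q0 :=
    ⟨Q0.subgroupOf N, Subgroup.map_subgroupOf_eq_of_le (h0 ▸ inf_le_right)⟩
  obtain ⟨g0, hg0, rfl⟩ : ∃ g0, IsPBlock M g0 ∧ pushSet (cenN N R) g0 = g := by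
    refine ⟨pushSet (cenN N R).symm g, isPBlock_push _ hg, ?_⟩
    rw [pushSet, pushSet, Set.image_image]
    refine Eq.trans (Set.image_congr fun ξ _ => ?_) (Set.image_id g)
    refine Subtype.ext (funext fun y => ?_)
    obtain ⟨z, rfl⟩ := (cenN N R).surjective y
    rw [pushChar_apply, id]
    conv_lhs => rw [← (cenN N R).symm_apply_apply z, pushChar_apply]
  have hRp : IsPGroup p R :=
    hfp.1.1.of_equiv (R.equivMapOfInjective _ (Subgroup.subtype_injective N)).symm
  have hpairc : IsBrauerPairOf p M c R g0 := isBrauerPairOf_iff.mpr ⟨⟨hRp, hg0⟩, hnil.1,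
    (occ_iff hM hN hnil.1 hB hBc hg0 hfp.1.2 hbel).mp (isBrauerPairOf_iff.mp hfp).2.2⟩
  have hxR : (⟨x, hxN⟩ : N) ∈ Subgroup.normalizer (R : Set N) := by
    refine Subgroup.mem_normalizer_iff.mpr fun a => ?_
    have h1 := Subgroup.mem_normalizer_iff.mp hx0 (a : G)
    rw [← Subgroup.mem_map_iff_mem (Subgroup.subtype_injective N)]
    rw [← Subgroup.mem_map_iff_mem (Subgroup.subtype_injective N) (K := R)
      (x := ⟨x, hxN⟩ * a * ⟨x, hxN⟩⁻¹)]
    exact h1
  have hstc : StabilizesBlock (Cen R) g0 (⟨x, hxN⟩ : N) := by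
    refine stabilizes_iff.mpr ⟨normalizer_le_normalizer_cen hxR, ?_⟩
    apply BrauerPairs81Induced.incl_injective N
    rw [← cjA_incl_normal, ← eb_cenN]
    exact hgx
  have hxC := hnil.2 R g0 hpairc _ hxR hstc (by
    show ¬ p ∣ orderOf (⟨x, hxN⟩ : N)
    rw [← Subgroup.orderOf_coe]
    exact hreg)
  rw [Subgroup.mem_centralizer_iff]
  intro q hq
  set a := x * q * x⁻¹ * q⁻¹ with ha
  have haQ : a ∈ R.map N.subtype := by
    rw [h0, ha]
    refine ⟨Q.mul_mem ((Subgroup.mem_normalizer_iff.mp hxQ q).mp hq) (Q.inv_mem hq), ?_⟩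
    have h1 := N.mul_mem hxN (‹N.Normal›.conj_mem _ (N.inv_mem hxN) q)
    show x * q * x⁻¹ * q⁻¹ ∈ N
    simpa only [mul_assoc] using h1
  have hxa : x * a = a * x := by
    obtain ⟨b, hb, hba⟩ := haQ
    rw [← hba]
    exact (congrArg N.subtype (Subgroup.mem_centralizer_iff.mp hxC b hb)).symm
  have hxq : x * q = a * q * x := by rw [ha]; group
  have hind : ∀ i : ℕ, x ^ i * q = a ^ i * q * x ^ i := by
    intro i
    induction i with
    | zero => simp
    | succ i ih =>
      calc x ^ (i + 1) * q = x * (x ^ i * q) := by rw [pow_succ', mul_assoc]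
        _ = (x * a ^ i) * (q * x ^ i) := by rw [ih]; group
        _ = a ^ i * (x * q) * x ^ i := by rw [(Commute.pow_right hxa i).eq]; group
        _ = a ^ (i + 1) * q * x ^ (i + 1) := by rw [hxq]; simp only [pow_succ, pow_succ' x]; group
  have h1 := hind (orderOf x)
  rw [pow_orderOf_eq_one, one_mul, mul_one, right_eq_mul] at h1
  have h2 : orderOf a ∣ orderOf x := orderOf_dvd_of_pow_eq_one h1
  obtain ⟨k, hk⟩ := hfp.1.1.exists_orderOf_eq_pow ⟨a, haQ⟩
  rw [Subgroup.orderOf_mk] at hk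
  have h3 : orderOf a = 1 := Nat.eq_one_of_dvd_coprimes
    (((Fact.out : p.Prime).coprime_iff_not_dvd.mpr hreg).pow_left k) hk.dvd h2
  have h4 : a = 1 := orderOf_eq_one_iff.mp h3
  rw [hxq, h4, one_mul]

end Index

end Cfsg.Agent.NilpotentExtension78
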