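import Mathlib

/-!
Arithmetic of the bound for nilpotent permutation groups.
-/

set_option autoImplicit false

namespace Cfsg.Agent.NilpotentPermArith

open Nat

/-- The `2`-adic valuation of `n!`. -/
def V (n : ℕ) : ℕ := padicValNat 2 n.factorial

/-- The order of a Sylow `2`-subgroup of the symmetric group. -/
def B (n : ℕ) : ℕ := 2 ^ V n

theorem B_pos (n : ℕ) : 0 < B n := Nat.two_pow_pos _

theorem V_rec (n : ℕ) : V n = n / 2 + V (n / 2) := by
  have h := Nat.div_add_mod n 2
  show padicValNat 2 n.factorial = n / 2 + padicValNat 2 (n / 2).factorial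
  conv_lhs => rw [← h]
  rw [padicValNat_factorial_mul_add _ (Nat.mod_lt n two_pos), padicValNat_factorial_mul, add_comm]

theorem V_rec2 (n : ℕ) : V n = n / 2 + n / 4 + V (n / 4) := by
  rw [V_rec n, V_rec (n / 2), Nat.div_div_eq_div_mul, add_assoc]

theorem V_zero : V 0 = 0 := by simp [V]

theorem V_one : V 1 = 0 := by simp [V]

theorem V_mono {a b : ℕ} (h : a ≤ b) : V a ≤ V b := by
  induction b using Nat.strong_induction_on generalizing a with
  | _ b ih =>
    rcases Nat.eq_zero_or_pos b with rfl | hb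
    · rw [Nat.le_zero.1 h]
    · rw [V_rec a, V_rec b]
      exact Nat.add_le_add (Nat.div_le_div_right h)
        (ih _ (Nat.div_lt_self hb one_lt_two) (Nat.div_le_div_right h))

theorem V_gain {a b : ℕ} (h : a ≤ b) : V a + ((b / 2 + b / 4) - (a / 2 + a / 4)) ≤ V b := by
  rw [V_rec2 a, V_rec2 b]
  have := V_mono (Nat.div_le_div_right (c := 4) h)
  omega

theorem V_add (a b : ℕ) : V a + V b ≤ V (a + b) := by
  obtain ⟨n, hn⟩ : ∃ n, a + b = n := ⟨_, rfl⟩
  induction n using Nat.strong_induction_on generalizing a b with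
  | _ n ih =>
    rcases Nat.eq_zero_or_pos n with rfl | h0
    · obtain ⟨rfl, rfl⟩ : a = 0 ∧ b = 0 := by omega
      simp [V_zero]
    · rw [V_rec a, V_rec b, V_rec (a + b)]
      have h1 := ih (a / 2 + b / 2) (by omega) _ _ rfl
      have h2 := V_mono (show a / 2 + b / 2 ≤ (a + b) / 2 by omega)
      omega

theorem V_add_odd {a b : ℕ} (ha : a % 2 = 1) (hb : b % 2 = 1) : V a + V b + 1 ≤ V (a + b) := by
  rw [V_rec a, V_rec b, V_rec (a + b)]
  have h1 := V_add (a / 2) (b / 2)
  have h2 := V_mono (show a / 2 + b / 2 ≤ (a + b) / 2 by omega)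
  omega

theorem V_carry {a b : ℕ} (ha : a % 4 ≠ 0) (hb : b % 4 = 3) : V a + V b + 1 ≤ V (a + b) := by
  by_cases h : a % 2 = 1
  · exact V_add_odd h (by omega)
  · rw [V_rec a, V_rec b, V_rec (a + b)]
    have h1 := V_add_odd (show a / 2 % 2 = 1 by omega) (show b / 2 % 2 = 1 by omega)
    rw [show (a + b) / 2 = a / 2 + b / 2 by omega]
    omega

theorem B_mono {a b : ℕ} (h : a ≤ b) : B a ≤ B b := Nat.pow_le_pow_right two_pos (V_mono h)

theorem B_of_gain {a b c : ℕ} (h : V a + c ≤ V b) : 2 ^ c * B a ≤ B b := by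
  rw [B, B, ← pow_add]
  exact Nat.pow_le_pow_right two_pos (by omega)

theorem B_mul (a b : ℕ) : B a * B b ≤ B (a + b) := by
  rw [B, B, B, ← pow_add]
  exact Nat.pow_le_pow_right two_pos (V_add a b)

theorem B_carry {a b : ℕ} (ha : a % 4 ≠ 0) (hb : b % 4 = 3) : 2 * (B a * B b) ≤ B (a + b) := by
  rw [B, B, B, ← pow_add, ← pow_succ']
  exact Nat.pow_le_pow_right two_pos (V_carry ha hb)

theorem V_values : V 0 = 0 ∧ V 1 = 0 ∧ V 2 = 1 ∧ V 3 = 1 ∧ V 4 = 3 ∧ V 5 = 3 ∧ V 6 = 4 ∧ V 7 = 4 ∧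
    V 8 = 7 ∧ V 9 = 7 ∧ V 10 = 8 ∧ V 11 = 8 ∧ V 12 = 10 ∧ V 13 = 10 ∧ V 14 = 11 ∧ V 15 = 11 ∧
    V 18 = 16 ∧ V 25 = 22 ∧ V 27 = 23 := by
  have h0 := V_zero
  have h1 := V_one
  have h2 : V 2 = 1 := by rw [V_rec, h1]
  have h3 : V 3 = 1 := by rw [V_rec, h1]
  have h4 : V 4 = 3 := by rw [V_rec, h2]
  have h5 : V 5 = 3 := by rw [V_rec, h2]
  have h6 : V 6 = 4 := by rw [V_rec, h3]
  have h7 : V 7 = 4 := by rw [V_rec, h3]
  have h8 : V 8 = 7 := by rw [V_rec, h4]
  have h9 : V 9 = 7 := by rw [V_rec, h4]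
  have h12 : V 12 = 10 := by rw [V_rec, h6]
  have h13 : V 13 = 10 := by rw [V_rec, h6]
  exact ⟨h0, h1, h2, h3, h4, h5, h6, h7, h8, h9, by rw [V_rec, h5], by rw [V_rec, h5], h12, h13,
    by rw [V_rec, h7], by rw [V_rec, h7], by rw [V_rec, h9], by rw [V_rec, h12],
    by rw [V_rec, h13]⟩

theorem B_double (n : ℕ) : B (2 * n) = 2 ^ n * B n := by
  rw [B, B, ← pow_add, V_rec, show 2 * n / 2 = n by omega]

/-! ### The bound for transitive groups -/

/-- The exponent of `p` allowed in a transitive nilpotent group of degree `m`. -/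
def E (m p : ℕ) : ℕ := padicValNat p (p ^ padicValNat p m).factorial

/-- The bound on the order of a transitive nilpotent group of degree `m`. -/
def T (m : ℕ) : ℕ := ∏ p ∈ m.primeFactors, p ^ E m p

theorem E_zero {m p : ℕ} (h : padicValNat p m = 0) : E m p = 0 := by
  simp [E, h]

theorem le_T {d m : ℕ} (hd : d ≠ 0) (hm : m ≠ 0)
    (h : ∀ p, p.Prime → d.factorization p ≤ E m p) : d ≤ T m := by
  calc d = ∏ p ∈ d.primeFactors, p ^ d.factorization p :=
        (Nat.factorization_prod_pow_eq_self hd).symm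
    _ ≤ ∏ p ∈ d.primeFactors, p ^ E m p :=
        Finset.prod_le_prod' fun p hp =>
          Nat.pow_le_pow_right (Nat.prime_of_mem_primeFactors hp).pos
            (h p (Nat.prime_of_mem_primeFactors hp))
    _ ≤ T m := by
        refine Finset.prod_le_prod_of_subset_of_one_le' (fun p hp => ?_) fun p hp _ =>
          Nat.one_le_pow _ _ (Nat.prime_of_mem_primeFactors hp).pos
        have hpp := Nat.prime_of_mem_primeFactors hp
        rw [Nat.mem_primeFactors]
        refine ⟨hpp, by_contra fun hdvd => ?_, hm⟩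
        have h1 := h p hpp
        rw [E_zero (padicValNat.eq_zero_of_not_dvd hdvd)] at h1
        have h2 := hpp.factorization_pos_of_dvd hd (Nat.dvd_of_mem_primeFactors hp)
        omega

theorem T_mul {a b : ℕ} (ha : a ≠ 0) (hb : b ≠ 0) (h : a.Coprime b) : T (a * b) = T a * T b := by
  rw [T, Nat.primeFactors_mul ha hb, Finset.prod_union h.disjoint_primeFactors]
  have key : ∀ c d : ℕ, c ≠ 0 → d ≠ 0 → c.Coprime d → ∀ p ∈ c.primeFactors, E (c * d) p = E c p := by
    intro c d hc hd hcd p hp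
    have hpp := Nat.prime_of_mem_primeFactors hp
    have := Fact.mk hpp
    rw [E, E, padicValNat.mul hc hd, padicValNat.eq_zero_of_not_dvd (n := d), add_zero]
    intro hpd
    exact hpp.one_lt.ne' (Nat.eq_one_of_dvd_coprimes hcd (Nat.dvd_of_mem_primeFactors hp) hpd)
  congr 1
  · exact Finset.prod_congr rfl fun p hp => by rw [key a b ha hb h p hp]
  · exact Finset.prod_congr rfl fun p hp => by rw [mul_comm a b, key b a hb ha h.symm p hp]

theorem T_prime_pow {p k : ℕ} (hp : p.Prime) :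
    T (p ^ k) = p ^ padicValNat p (p ^ k).factorial := by
  have := Fact.mk hp
  rcases Nat.eq_zero_or_pos k with rfl | hk
  · simp [T]
  · rw [T, Nat.primeFactors_prime_pow hk.ne' hp, Finset.prod_singleton, E, padicValNat.prime_pow]

theorem T_step {p k : ℕ} (hp : p.Prime) : T (p ^ (k + 1)) = T (p ^ k) * p ^ p ^ k := by
  have := Fact.mk hp
  rw [T_prime_pow hp, T_prime_pow hp, pow_succ', padicValNat_factorial_mul, pow_add]

theorem T_two_pow (k : ℕ) : T (2 ^ k) = B (2 ^ k) := T_prime_pow Nat.prime_two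

theorem two_mul_succ_le {h : ℕ} (hh : 3 ≤ h) : 2 * h + 1 ≤ 2 ^ h := by
  induction h, hh using Nat.le_induction with
  | base => norm_num
  | succ h hh ih => rw [pow_succ]; omega

theorem step_large {p : ℕ} (hp : p % 2 = 1) (h7 : 7 ≤ p) (x : ℕ) : p ^ x * B x ≤ B (p * x) := by
  obtain ⟨h, rfl⟩ : ∃ h, p = 2 * h + 1 := ⟨p / 2, by omega⟩
  calc (2 * h + 1) ^ x * B x ≤ (2 ^ h) ^ x * B x :=
        Nat.mul_le_mul_right _ (Nat.pow_le_pow_left (two_mul_succ_le (by omega)) x)
    _ ≤ B (2 * (h * x)) * B x := by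
        refine Nat.mul_le_mul_right _ ?_
        rw [B_double, ← pow_mul]
        exact Nat.le_mul_of_pos_right _ (B_pos _)
    _ ≤ B (2 * (h * x) + x) := B_mul _ _
    _ = B ((2 * h + 1) * x) := by ring_nf

theorem step_five (x : ℕ) : 5 ^ x * B x ≤ B (5 * x) := by
  calc 5 ^ x * B x ≤ 8 ^ x * B x := Nat.mul_le_mul_right _ (Nat.pow_le_pow_left (by norm_num) x)
    _ ≤ B (2 * (2 * x)) * B x := by
        refine Nat.mul_le_mul_right _ ?_
        rw [B_double, B_double, ← mul_assoc, ← pow_add]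
        calc 8 ^ x = 2 ^ (2 * x + x) := by rw [show 2 * x + x = 3 * x by ring, pow_mul]; norm_num
          _ ≤ _ := Nat.le_mul_of_pos_right _ (B_pos _)
    _ ≤ B (2 * (2 * x) + x) := B_mul _ _
    _ = B (5 * x) := by ring_nf

theorem step_three {x : ℕ} (hx : 9 ≤ x) : 3 ^ x * B x ≤ B (3 * x) := by
  have hV : 3 * x ≤ 5 * V x := by
    have := V_rec2 x
    omega
  have h1 : 3 ^ x ≤ 2 ^ (x + V x) := by
    refine (Nat.pow_le_pow_iff_left (show 5 ≠ 0 by norm_num)).1 ?_
    calc (3 ^ x) ^ 5 = 243 ^ x := by rw [← pow_mul, mul_comm, pow_mul]; norm_num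
      _ ≤ 256 ^ x := Nat.pow_le_pow_left (by norm_num) x
      _ = 2 ^ (8 * x) := by rw [pow_mul]; norm_num
      _ ≤ 2 ^ ((x + V x) * 5) := Nat.pow_le_pow_right two_pos (by omega)
      _ = _ := by rw [pow_mul]
  calc 3 ^ x * B x ≤ 2 ^ (x + V x) * B x := Nat.mul_le_mul_right _ h1
    _ = B (2 * x) * B x := by rw [pow_add, B_double]; rfl
    _ ≤ B (2 * x + x) := B_mul _ _
    _ = B (3 * x) := by ring_nf

theorem strict_prime_pow {p k : ℕ} (hp : p.Prime) (hk : 1 ≤ k) (h2 : p ≠ 2)
    (h3 : p ^ k ≠ 3) (h5 : p ^ k ≠ 5) (h9 : p ^ k ≠ 9) : 2 * T (p ^ k) ≤ B (p ^ k) := by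
  have hodd : p % 2 = 1 := Nat.odd_iff.1 (hp.odd_of_ne_two h2)
  obtain ⟨h0, h1, -⟩ := V_values
  have key : ∀ b, (∀ j, b ≤ j → p ^ p ^ j * B (p ^ j) ≤ B (p * p ^ j)) →
      2 * T (p ^ b) ≤ B (p ^ b) → ∀ j, b ≤ j → 2 * T (p ^ j) ≤ B (p ^ j) := by
    intro b hs hb j hj
    induction j, hj using Nat.le_induction with
    | base => exact hb
    | succ j hj ih =>
      rw [T_step hp, pow_succ' p j]
      calc 2 * (T (p ^ j) * p ^ p ^ j) = (2 * T (p ^ j)) * p ^ p ^ j := by ring
        _ ≤ B (p ^ j) * p ^ p ^ j := Nat.mul_le_mul_right _ ih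
        _ ≤ _ := by rw [mul_comm]; exact hs j hj
  have hT1 : T p = p := by
    have := T_step (k := 0) hp
    simpa [T] using this
  obtain ⟨-, -, -, -, -, -, -, -, -, -, -, -, -, -, -, -, -, h25, h27⟩ := V_values
  rcases (show p = 3 ∨ p = 5 ∨ 7 ≤ p by
    have := hp.two_le
    rcases (show p = 4 ∨ p = 6 ∨ p = 3 ∨ p = 5 ∨ 7 ≤ p by omega) with h | h | h
    · subst h; norm_num at hp
    · subst h; norm_num at hp
    · exact h) with rfl | rfl | h7
  · have hk3 : 3 ≤ k := by
      by_contra hc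
      interval_cases k
      · exact h3 (by norm_num)
      · exact h9 (by norm_num)
    refine key 3 (fun j hj => step_three ?_) ?_ k hk3
    · calc 9 ≤ 3 ^ 3 := by norm_num
        _ ≤ 3 ^ j := Nat.pow_le_pow_right (by norm_num) hj
    · rw [T_step hp, T_step hp, T_step hp, B, show (3 : ℕ) ^ 3 = 27 by norm_num, h27]
      simp [T]
  · have hk2 : 2 ≤ k := by
      by_contra hc
      interval_cases k
      exact h5 (by norm_num)
    refine key 2 (fun j _ => step_five _) ?_ k hk2
    rw [T_step hp, T_step hp, B, show (5 : ℕ) ^ 2 = 25 by norm_num, h25]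
    simp [T]
  · refine key 1 (fun j _ => step_large hodd h7 _) ?_ k hk
    rw [pow_one, hT1]
    calc 2 * p ≤ 2 * 2 ^ (p / 2) := by
          have := two_mul_succ_le (show 3 ≤ p / 2 by omega); omega
      _ = 2 ^ (p / 2 + 1) := by rw [pow_succ, mul_comm]
      _ ≤ B p := by
          refine Nat.pow_le_pow_right two_pos ?_
          have := V_rec p
          have := V_mono (show 2 ≤ p / 2 by omega)
          obtain ⟨-, -, hv2, -⟩ := V_values
          omega

/-- The bound for transitive groups. -/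
theorem T_bound (m : ℕ) : 2 ≤ m → (m ≠ 3 → T m ≤ B m) ∧
    ((∀ k, m ≠ 2 ^ k) → m ≠ 3 → m ≠ 5 → m ≠ 9 → 2 * T m ≤ B m) := by
  induction m using Nat.recOnPrimeCoprime with
  | zero => intro h; omega
  | prime_pow p k hp =>
    intro hm
    have hk : 1 ≤ k := by
      rcases Nat.eq_zero_or_pos k with rfl | hk
      · simp at hm
      · exact hk
    by_cases h2 : p = 2
    · subst h2
      exact ⟨fun _ => (T_two_pow k).le, fun h => absurd rfl (h k)⟩
    refine ⟨fun h3 => ?_, fun _ h3 h5 h9 => strict_prime_pow hp hk h2 h3 h5 h9⟩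
    obtain ⟨-, -, -, -, -, hv5, -, -, -, hv9, -⟩ := V_values
    by_cases h5 : p ^ k = 5
    · have h := T_step (k := 0) Nat.prime_five
      simp [T] at h
      rw [h5, show T 5 = 5 by simp [T, Nat.prime_five.primeFactors] at h ⊢; exact h, B, hv5]
      norm_num
    by_cases h9 : p ^ k = 9
    · have h1 := T_step (k := 0) Nat.prime_three
      have h := T_step (k := 1) Nat.prime_three
      rw [h1, show T (3 ^ 0) = 1 by simp [T]] at h
      rw [h9, show T 9 = 81 by simpa using h, B, hv9]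
      norm_num
    have := strict_prime_pow hp hk h2 h3 h5 h9
    omega
  | coprime a b ha hb hab iha ihb =>
    intro _
    suffices h : 2 * T (a * b) ≤ B (a * b) by
      exact ⟨fun _ => by omega, fun _ _ _ _ => h⟩
    rw [T_mul (by omega) (by omega) hab]
    have hT3 : T 3 = 3 := by
      have h := T_step (k := 0) Nat.prime_three
      simpa [T] using h
    have three : ∀ c : ℕ, 2 ≤ c → c ≠ 3 → T c ≤ B c → 2 * (3 * T c) ≤ B (3 * c) := by
      intro c hc hc3 hTc
      have hg : V c + 3 ≤ V (3 * c) := by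
        by_cases h : c = 2
        · subst h
          obtain ⟨-, -, hv2, -, -, -, hv6, -⟩ := V_values
          rw [hv2, show 3 * 2 = 6 by norm_num, hv6]
        · have := V_gain (show c ≤ 3 * c by omega)
          omega
      calc 2 * (3 * T c) ≤ 2 ^ 3 * B c := by norm_num; omega
        _ ≤ B (3 * c) := B_of_gain hg
    by_cases ha3 : a = 3
    · subst ha3
      have hb3 : b ≠ 3 := by rintro rfl; norm_num at hab
      rw [hT3]
      exact three b hb hb3 ((ihb hb).1 hb3)
    by_cases hb3 : b = 3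
    · subst hb3
      rw [hT3, mul_comm a 3, mul_comm (T a) 3]
      exact three a ha ha3 ((iha ha).1 ha3)
    have h22 : a + b + 2 ≤ a * b := by
      rcases (show a = 2 ∨ 3 ≤ a by omega) with rfl | ha'
      · have : b ≠ 2 := by rintro rfl; norm_num at hab
        omega
      · rcases (show b = 2 ∨ 3 ≤ b by omega) with rfl | hb'
        · have : a ≠ 2 := by omega
          omega
        · nlinarith
    calc 2 * (T a * T b) ≤ 2 * (B a * B b) :=
          Nat.mul_le_mul_left 2 (Nat.mul_le_mul ((iha ha).1 ha3) ((ihb hb).1 hb3))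
      _ ≤ 2 ^ 1 * B (a + b) := by rw [pow_one]; exact Nat.mul_le_mul_left 2 (B_mul a b)
      _ ≤ B (a + b + 2) := by
          refine B_of_gain ?_
          rw [V_rec (a + b), V_rec (a + b + 2)]
          have := V_mono (show (a + b) / 2 ≤ (a + b + 2) / 2 by omega)
          omega
      _ ≤ B (a * b) := B_mono h22

/-! ### The bounds -/

/-- The maximal order of a nilpotent subgroup of the symmetric group. -/
def G (n : ℕ) : ℕ := if n % 4 = 3 then 3 * B (n - 3) else B n

/-- Twice the maximal order of a nilpotent subgroup of the alternating group. -/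
def K (n : ℕ) : ℕ :=
  if n ≤ 1 then 2 else if n = 3 then 6 else if n = 5 then 10 else if n = 6 then 18
  else if n = 9 then 162 else G n

theorem B_three {n : ℕ} (h : n % 4 = 3) : B n = 2 * B (n - 3) := by
  rw [B, B, ← pow_succ']
  congr 1
  rw [V_rec2 n, V_rec2 (n - 3), show (n - 3) / 4 = n / 4 by omega]
  omega

theorem B_le_G (n : ℕ) : B n ≤ G n := by
  rw [G]
  split_ifs with h
  · rw [B_three h]; omega
  · exact le_rfl

theorem G_le_K (n : ℕ) : G n ≤ K n := by
  obtain ⟨h0, h1, h2, h3, h4, h5, h6, h7, h8, h9, -⟩ := V_values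
  rw [K]
  split_ifs with a b c d e
  · interval_cases n <;> simp [G, B, h0, h1]
  all_goals first
    | exact le_rfl
    | (subst_vars; norm_num [G, B, h0, h5, h6, h9])

theorem B_le_K (n : ℕ) : B n ≤ K n := (B_le_G n).trans (G_le_K n)

theorem mul_G {X m r : ℕ} (hX : X ≤ B m) : X * G r ≤ G (m + r) := by
  by_cases hr : r % 4 = 3
  · rw [show G r = 3 * B (r - 3) from if_pos hr]
    by_cases hn : (m + r) % 4 = 3
    · rw [show G (m + r) = 3 * B (m + r - 3) from if_pos hn, show m + r - 3 = m + (r - 3) by omega]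
      calc X * (3 * B (r - 3)) = 3 * (X * B (r - 3)) := by ring
        _ ≤ 3 * (B m * B (r - 3)) := by
            exact Nat.mul_le_mul_left 3 (Nat.mul_le_mul_right _ hX)
        _ ≤ _ := Nat.mul_le_mul_left 3 (B_mul _ _)
    · rw [show G (m + r) = B (m + r) from if_neg hn]
      calc X * (3 * B (r - 3)) ≤ B m * (3 * B (r - 3)) := Nat.mul_le_mul_right _ hX
        _ ≤ 2 * (B m * B r) := by rw [B_three hr]; nlinarith [Nat.zero_le (B m * B (r - 3))]
        _ ≤ _ := B_carry (by omega) hr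
  · rw [show G r = B r from if_neg hr]
    exact ((Nat.mul_le_mul_right _ hX).trans (B_mul m r)).trans (B_le_G _)

theorem T_three : T 3 = 3 := by
  have h := T_step (k := 0) Nat.prime_three
  simpa [T] using h

theorem T_one : T 1 = 1 := by simp [T]

theorem T_mul_G {m : ℕ} (hm : 1 ≤ m) (r : ℕ) : T m * G r ≤ G (m + r) := by
  rcases (show m = 1 ∨ 2 ≤ m by omega) with rfl | h2
  · refine mul_G ?_
    rw [T_one]; exact B_pos 1
  by_cases h3 : m = 3
  · subst h3
    rw [T_three]
    by_cases hr : r % 4 = 3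
    · rw [show G r = 3 * B (r - 3) from if_pos hr]
      refine le_trans ?_ (B_le_G _)
      calc 3 * (3 * B (r - 3)) ≤ 2 ^ 4 * B (r - 3) := by norm_num; omega
        _ ≤ _ := B_of_gain (by have := V_gain (show r - 3 ≤ 3 + r by omega); omega)
    · rw [show G r = B r from if_neg hr]
      by_cases hn : (3 + r) % 4 = 3
      · rw [show G (3 + r) = 3 * B (3 + r - 3) from if_pos hn, Nat.add_sub_cancel_left]
      · rw [show G (3 + r) = B (3 + r) from if_neg hn]
        calc 3 * B r ≤ 2 ^ 2 * B r := by norm_num; omega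
          _ ≤ _ := B_of_gain (by have := V_gain (show r ≤ 3 + r by omega); omega)
  exact mul_G ((T_bound m h2).1 h3)

theorem two_T_mul_G {m : ℕ} (h2 : 2 ≤ m) (hp : ∀ k, m ≠ 2 ^ k) (h3 : m ≠ 3) (h5 : m ≠ 5)
    (h9 : m ≠ 9) (r : ℕ) : 2 * T m * G r ≤ K (m + r) :=
  (mul_G ((T_bound m h2).2 hp h3 h5 h9)).trans (G_le_K _)

theorem T_mul_K {m : ℕ} (hm : m = 3 ∨ m = 5 ∨ m = 9) (r : ℕ) : T m * K r ≤ K (m + r) := by
  obtain ⟨h0, h1, h2, h3, h4, h5, h6, h7, h8, h9, h10, h11, h12, h13, h14, h15, h18, -⟩ :=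
    V_values
  have hT5 : T 5 = 5 := by
    have h := T_step (k := 0) Nat.prime_five
    simpa [T] using h
  have hT9 : T 9 = 81 := by
    have h1 := T_step (k := 0) Nat.prime_three
    have h := T_step (k := 1) Nat.prime_three
    rw [h1, show T (3 ^ 0) = 1 by simp [T]] at h
    simpa using h
  by_cases hr : r = 0 ∨ r = 1 ∨ r = 3 ∨ r = 5 ∨ r = 6 ∨ r = 9
  · rcases hm with rfl | rfl | rfl <;> rcases hr with rfl | rfl | rfl | rfl | rfl | rfl <;>
      norm_num [K, G, B, T_three, hT5, hT9, h0, h1, h4, h6, h7, h8, h10, h11, h12, h14, h15, h18]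
  have hK : K r = G r := by
    rw [K, if_neg (by omega), if_neg (by omega), if_neg (by omega), if_neg (by omega),
      if_neg (by omega)]
  rw [hK]
  refine le_trans ?_ (G_le_K _)
  by_cases hr4 : r % 4 = 3
  · rw [show G r = 3 * B (r - 3) from if_pos hr4]
    refine le_trans ?_ (B_le_G _)
    rcases hm with rfl | rfl | rfl
    · rw [T_three]
      calc 3 * (3 * B (r - 3)) ≤ 2 ^ 4 * B (r - 3) := by norm_num; omega
        _ ≤ _ := B_of_gain (by have := V_gain (show r - 3 ≤ 3 + r by omega); omega)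
    · rw [hT5]
      calc 5 * (3 * B (r - 3)) ≤ 2 ^ 4 * B (r - 3) := by norm_num; omega
        _ ≤ _ := B_of_gain (by have := V_gain (show r - 3 ≤ 5 + r by omega); omega)
    · rw [hT9]
      calc 81 * (3 * B (r - 3)) ≤ 2 ^ 8 * B (r - 3) := by norm_num; omega
        _ ≤ _ := B_of_gain (by have := V_gain (show r - 3 ≤ 9 + r by omega); omega)
  rw [show G r = B r from if_neg hr4]
  by_cases hn : (m + r) % 4 = 3
  · rw [show G (m + r) = 3 * B (m + r - 3) from if_pos hn]
    rcases hm with rfl | rfl | rfl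
    · rw [T_three, Nat.add_sub_cancel_left]
    · rw [hT5]
      calc 5 * B r ≤ 3 * (2 ^ 2 * B r) := by norm_num; omega
        _ ≤ _ := Nat.mul_le_mul_left 3 (B_of_gain (by
              have := V_gain (show r ≤ 5 + r - 3 by omega); omega))
    · rw [hT9]
      calc 81 * B r ≤ 3 * (2 ^ 5 * B r) := by norm_num; omega
        _ ≤ _ := Nat.mul_le_mul_left 3 (B_of_gain (by
              have := V_gain (show r ≤ 9 + r - 3 by omega); omega))
  · rw [show G (m + r) = B (m + r) from if_neg hn]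
    rcases hm with rfl | rfl | rfl
    · rw [T_three]
      calc 3 * B r ≤ 2 ^ 2 * B r := by norm_num; omega
        _ ≤ _ := B_of_gain (by have := V_gain (show r ≤ 3 + r by omega); omega)
    · rw [hT5]
      calc 5 * B r ≤ 2 ^ 3 * B r := by norm_num; omega
        _ ≤ _ := B_of_gain (by have := V_gain (show r ≤ 5 + r by omega); omega)
    · rw [hT9]
      calc 81 * B r ≤ 2 ^ 7 * B r := by norm_num; omega
        _ ≤ _ := B_of_gain (by
              rw [V_rec2 r, V_rec2 (9 + r), V_rec (r / 4), V_rec ((9 + r) / 4)]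
              have := V_mono (show r / 4 / 2 ≤ (9 + r) / 4 / 2 by omega)
              omega)

end Cfsg.Agent.NilpotentPermArith
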