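import Cfsg.Agent.Lib.NilpotentPermArith
import Cfsg.Agent.Lib.HallNilpotentConj

/-!
The order of a nilpotent permutation group is bounded by that of a Sylow `2`-subgroup, up to one
factor `3`.
-/

set_option autoImplicit false

namespace Cfsg.Agent.NilpotentPermBound

open Equiv Equiv.Perm
open Cfsg.Agent.NilpotentPermArith

variable {α : Type} [Fintype α] [DecidableEq α]

/-- The Sylow subgroups of a transitive nilpotent group act faithfully on their orbits. -/
theorem transitive_factorization (H : Subgroup (Perm α)) [Group.IsNilpotent H]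
    (ht : ∀ a b : α, ∃ g ∈ H, g a = b) (a : α) {p : ℕ} (hp : p.Prime) :
    (Nat.card H).factorization p ≤ E (Fintype.card α) p := by
  classical
  have := Fact.mk hp
  have : MulAction.IsPretransitive H α :=
    ⟨fun x y => by obtain ⟨g, hg, h⟩ := ht x y; exact ⟨⟨g, hg⟩, h⟩⟩
  obtain ⟨P⟩ : Nonempty (Sylow p H) := inferInstance
  have : (P : Subgroup H).Normal := inferInstance
  have hblk := MulAction.IsBlock.orbit_of_normal (G := H) (N := (P : Subgroup H)) a
  obtain ⟨i, hi⟩ := P.2.card_orbit a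
  have hdvd := hblk.ncard_dvd_card ⟨a, MulAction.mem_orbit_self a⟩
  rw [← Nat.card_coe_set_eq, hi, Nat.card_eq_fintype_card] at hdvd
  have hinj : Function.Injective
      (MulAction.toPermHom (P : Subgroup H) (MulAction.orbit (P : Subgroup H) a)) := by
    rw [injective_iff_map_eq_one]
    intro g hg
    obtain ⟨C, hC⟩ := Subgroup.exists_left_complement'_of_coprime (N := (P : Subgroup H))
      P.card_coprime_index
    refine Subtype.ext (Subtype.ext (Equiv.ext fun w => ?_))
    obtain ⟨k, hk⟩ := MulAction.exists_smul_eq H a w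
    obtain ⟨⟨⟨t, htC⟩, ⟨s, hsP⟩⟩, hts⟩ := hC.2 k
    simp only at hts
    have hfix : (g : H) • s • a = s • a :=
      congrArg Subtype.val (congrArg (fun σ : Perm (MulAction.orbit (P : Subgroup H) a) =>
        σ ⟨(⟨s, hsP⟩ : (P : Subgroup H)) • a, MulAction.mem_orbit _ _⟩) hg)
    obtain ⟨j, hj⟩ := IsPGroup.iff_orderOf.1 P.2 g
    have hcop : (orderOf (g : H)).Coprime (orderOf t) := by
      rw [Subgroup.orderOf_coe, hj]
      refine Nat.Coprime.pow_left j (hp.coprime_iff_not_dvd.2 fun h => P.not_dvd_index ?_)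
      rw [hC.index_eq_card]
      exact h.trans (Subgroup.orderOf_dvd_natCard _ htC)
    have hcomm := HallNilpotentConj.commute_of_coprime_orderOf H _ _ hcop
    show (g : H) • w = w
    rw [← hk, ← hts, mul_smul, ← mul_smul (g : H), hcomm.eq, mul_smul, hfix]
  have h1 := Subgroup.card_dvd_of_injective _ hinj
  rw [Nat.card_perm, hi] at h1
  rw [P.card_eq_multiplicity] at h1
  have hile : i ≤ padicValNat p (Fintype.card α) := by
    refine (padicValNat_dvd_iff_le ?_).1 hdvd
    exact (Fintype.card_pos_iff.2 ⟨a⟩).ne'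
  refine (padicValNat_dvd_iff_le (Nat.factorial_ne_zero _)).1 (h1.trans ?_)
  exact Nat.factorial_dvd_factorial (Nat.pow_le_pow_right hp.pos hile)

theorem transitive_card (H : Subgroup (Perm α)) [Group.IsNilpotent H]
    (ht : ∀ a b : α, ∃ g ∈ H, g a = b) (a : α) : Nat.card H ≤ T (Fintype.card α) :=
  le_T Nat.card_pos.ne' (Fintype.card_pos_iff.2 ⟨a⟩).ne'
    fun _ hp => transitive_factorization H ht a hp

theorem prime_dvd_degree (H : Subgroup (Perm α)) [Group.IsNilpotent H]
    (ht : ∀ a b : α, ∃ g ∈ H, g a = b) (a : α) {p : ℕ} (hp : p.Prime) (hd : p ∣ Nat.card H) :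
    p ∣ Fintype.card α := by
  by_contra hn
  have h1 := transitive_factorization H ht a hp
  rw [E_zero (padicValNat.eq_zero_of_not_dvd hn)] at h1
  have := hp.factorization_pos_of_dvd Nat.card_pos.ne' hd
  omega

theorem sign_one_of_odd (H : Subgroup (Perm α)) [Group.IsNilpotent H]
    (ht : ∀ a b : α, ∃ g ∈ H, g a = b) (a : α) (hodd : Odd (Fintype.card α)) {g : Perm α}
    (hg : g ∈ H) : sign g = 1 := by
  have h2 : Odd (Nat.card H) := by
    rw [← Nat.not_even_iff_odd]
    intro he
    exact (Nat.not_even_iff_odd.2 hodd)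
      (even_iff_two_dvd.2 (prime_dvd_degree H ht a Nat.prime_two (even_iff_two_dvd.1 he)))
  have h := congrArg (fun x : H => sign (x : Perm α)) (pow_card_eq_one' (x := (⟨g, hg⟩ : H)))
  simp only [SubmonoidClass.coe_pow, map_pow, OneMemClass.coe_one, map_one] at h
  rcases Int.units_eq_one_or (sign g) with h1 | h1
  · exact h1
  · rw [h1, h2.neg_one_pow] at h
    exact absurd h (by decide)

/-- Restriction to an invariant set. -/
def restr (N : Subgroup (Perm α)) (q : α → Prop) (hq : ∀ g ∈ N, ∀ w, q (g w) ↔ q w) :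
    N →* Perm {w // q w} where
  toFun g := (g : Perm α).subtypePerm fun w => hq g g.2 w
  map_one' := Equiv.ext fun _ => rfl
  map_mul' _ _ := Equiv.ext fun _ => rfl

omit [Fintype α] [DecidableEq α] in
theorem restr_apply (N : Subgroup (Perm α)) (q : α → Prop) (hq : ∀ g ∈ N, ∀ w, q (g w) ↔ q w)
    (g : N) (w : {w // q w}) : (restr N q hq g w : α) = (g : Perm α) w := rfl

theorem nilpotent_range {H : Type*} [Group H] [Group.IsNilpotent H] {K : Type*} [Group K]
    (f : H →* K) : Group.IsNilpotent f.range :=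
  Group.nilpotent_of_surjective f.rangeRestrict f.rangeRestrict_surjective

/-- Splitting off an orbit. -/
theorem exists_split (N : Subgroup (Perm α)) [Group.IsNilpotent N] (a : α) :
    ∃ (m : ℕ) (β : Type) (_ : Fintype β) (_ : DecidableEq β) (M : Subgroup (Perm β)),
      1 ≤ m ∧ m + Fintype.card β = Fintype.card α ∧ Group.IsNilpotent M ∧
      Nat.card N ≤ T m * Nat.card M ∧
      (Odd m → (∀ g ∈ N, sign g = 1) → ∀ g ∈ M, sign g = 1) ∧
      (∀ p : ℕ, p.Prime → (∃ x ∈ N, x ^ p = 1 ∧ x a ≠ a) → p ∣ m) := by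
  classical
  let q : α → Prop := fun w => w ∈ MulAction.orbit N a
  have hq : ∀ g ∈ N, ∀ w, q (g w) ↔ q w := fun g hg w =>
    ⟨fun ⟨k, hk⟩ => ⟨(⟨g, hg⟩ : N)⁻¹ * k, by
      show ((⟨g, hg⟩ : N)⁻¹ * k) • a = w
      have hk' : k • a = (⟨g, hg⟩ : N) • w := hk
      rw [mul_smul, hk', inv_smul_smul]⟩,
    fun ⟨k, hk⟩ => ⟨(⟨g, hg⟩ : N) * k, by
      show ((⟨g, hg⟩ : N) * k) • a = g w
      have hk' : k • a = w := hk
      rw [mul_smul, hk']; rfl⟩⟩
  have hq' : ∀ g ∈ N, ∀ w, ¬ q (g w) ↔ ¬ q w := fun g hg w => not_congr (hq g hg w)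
  set ρ := restr N q hq with hρ
  set σ := restr N (fun w => ¬ q w) hq' with hσ
  have hnX : Group.IsNilpotent ρ.range := nilpotent_range ρ
  have hnY : Group.IsNilpotent σ.range := nilpotent_range σ
  have a₀ : {w // q w} := ⟨a, MulAction.mem_orbit_self a⟩
  have htr : ∀ x y : {w // q w}, ∃ g ∈ ρ.range, g x = y := by
    rintro ⟨x, k, hk⟩ ⟨y, l, hl⟩
    refine ⟨ρ (l * k⁻¹), ⟨_, rfl⟩, Subtype.ext ?_⟩
    rw [hρ, restr_apply]
    show (l * k⁻¹) • x = y
    rw [← hk, ← hl]
    show (l * k⁻¹) • k • a = l • a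
    rw [← mul_smul, inv_mul_cancel_right]
  refine ⟨Fintype.card {w // q w}, {w // ¬ q w}, inferInstance, inferInstance, σ.range,
    Fintype.card_pos_iff.2 ⟨a₀⟩, ?_, hnY, ?_, ?_, ?_⟩
  · rw [Fintype.card_subtype_compl]
    have := Fintype.card_subtype_le q
    omega
  · refine le_trans ?_ (Nat.mul_le_mul_right _ (transitive_card ρ.range htr a₀))
    rw [← Nat.card_prod]
    refine Nat.card_le_card_of_injective (ρ.rangeRestrict.prod σ.rangeRestrict) fun g h e => ?_
    refine Subtype.ext (Equiv.ext fun w => ?_)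
    by_cases hw : q w
    · exact congrArg (fun z : ρ.range × σ.range => (((z.1 : Perm {w // q w}) ⟨w, hw⟩) : α)) e
    · exact congrArg (fun z : ρ.range × σ.range => (((z.2 : Perm {w // ¬ q w}) ⟨w, hw⟩) : α)) e
  · rintro hodd hs _ ⟨g, rfl⟩
    have e : (g : Perm α) = (ρ g).subtypeCongr (σ g) := by
      refine Equiv.ext fun w => ?_
      by_cases hw : q w
      · rw [Perm.subtypeCongr.left_apply _ _ hw]; rfl
      · rw [Perm.subtypeCongr.right_apply _ _ hw]; rfl
    have h := hs _ g.2
    rw [e, sign_subtypeCongr, sign_one_of_odd ρ.range htr a₀ hodd ⟨g, rfl⟩, one_mul] at h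
    exact h
  · rintro p hp ⟨x, hx, hxp, hxa⟩
    refine prime_dvd_degree ρ.range htr a₀ hp ?_
    have h1 : orderOf (⟨ρ ⟨x, hx⟩, ⟨_, rfl⟩⟩ : ρ.range) = p := by
      refine (orderOf_eq_prime_iff (hp := ⟨hp⟩)).2 ⟨Subtype.ext ?_, ?_⟩
      · show ρ ⟨x, hx⟩ ^ p = 1
        rw [← map_pow, show (⟨x, hx⟩ : N) ^ p = 1 from Subtype.ext hxp, map_one]
      · intro h
        exact hxa (congrArg (fun z : ρ.range =>
          (((z : Perm {w // q w}) ⟨a, MulAction.mem_orbit_self a⟩) : α)) h)
    exact h1 ▸ orderOf_dvd_natCard _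

theorem card_le_one (h : Fintype.card α ≤ 1) (N : Subgroup (Perm α)) : Nat.card N ≤ 1 := by
  have : Subsingleton α := Fintype.card_le_one_iff_subsingleton.1 h
  exact Finite.card_le_one_iff_subsingleton.2 inferInstance

/-- The bounds for nilpotent subgroups of symmetric and alternating groups. -/
theorem bounds (n : ℕ) : ∀ (α : Type) [Fintype α] [DecidableEq α], Fintype.card α = n →
    ∀ N : Subgroup (Perm α), Group.IsNilpotent N →
      Nat.card N ≤ NilpotentPermArith.G n ∧ ((∀ g ∈ N, sign g = 1) → 2 * Nat.card N ≤ K n) := by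
  induction n using Nat.strong_induction_on with
  | _ n ih =>
  intro α _ _ hcard N hN
  classical
  by_cases hn : n ≤ 1
  · have h1 := card_le_one (hcard ▸ hn) N
    refine ⟨h1.trans ((B_pos n).trans_le (B_le_G n)), fun _ => ?_⟩
    rw [K, if_pos hn]
    omega
  have : Nontrivial α := Fintype.one_lt_card_iff_nontrivial.1 (by omega)
  refine ⟨?_, fun hsign => ?_⟩
  · obtain ⟨a⟩ : Nonempty α := inferInstance
    obtain ⟨m, β, _, _, M, hm, hmn, hM, hle, -, -⟩ := exists_split N a
    have h := (ih _ (by omega) β rfl M hM).1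
    rw [← hcard, ← hmn]
    exact (hle.trans (Nat.mul_le_mul_left _ h)).trans (T_mul_G hm _)
  rcases Nat.eq_two_pow_or_exists_odd_prime_and_dvd (Nat.card N) with ⟨k, hk⟩ | ⟨p, hp, hpd, hodd⟩
  · refine le_trans ?_ (B_le_K n)
    have hle : N ≤ alternatingGroup α := fun g hg => mem_alternatingGroup.2 (hsign g hg)
    have hdvd := Subgroup.card_dvd_of_le hle
    have h2 := Nat.mul_dvd_mul_left 2 hdvd
    rw [two_mul_nat_card_alternatingGroup, Nat.card_perm, Nat.card_eq_fintype_card (α := α), hcard, hk,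
      ← pow_succ'] at h2
    rw [hk, ← pow_succ']
    exact Nat.pow_le_pow_right two_pos ((padicValNat_dvd_iff_le (Nat.factorial_ne_zero n)).1 h2)
  · have := Fact.mk hp
    obtain ⟨x, hx⟩ := exists_prime_orderOf_dvd_card' p hpd
    have hxp : (x : Perm α) ^ p = 1 := by
      rw [← hx]; exact_mod_cast congrArg Subtype.val (pow_orderOf_eq_one x)
    obtain ⟨a, ha⟩ : ∃ a, (x : Perm α) a ≠ a := by
      by_contra! h
      have : x = 1 := Subtype.ext (Equiv.ext h)
      rw [this, orderOf_one] at hx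
      exact hp.one_lt.ne hx
    obtain ⟨m, β, _, _, M, hm, hmn, hM, hle, hpar, hdiv⟩ := exists_split N a
    have hih := ih _ (by omega) β rfl M hM
    have hpm := hdiv p hp ⟨x, x.2, hxp, ha⟩
    have hp2 : p ≠ 2 := by rintro rfl; exact absurd hodd (by decide)
    have hpow : ∀ k, m ≠ 2 ^ k := fun k h =>
      hp2 ((Nat.prime_dvd_prime_iff_eq hp Nat.prime_two).1 (hp.dvd_of_dvd_pow (h ▸ hpm)))
    rw [← hcard, ← hmn]
    by_cases hsmall : m = 3 ∨ m = 5 ∨ m = 9
    · have hodd' : Odd m := by rcases hsmall with rfl | rfl | rfl <;> decide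
      calc 2 * Nat.card N ≤ T m * (2 * Nat.card M) := by
            rw [← mul_assoc, mul_comm (T m) 2, mul_assoc]
            exact Nat.mul_le_mul_left 2 hle
        _ ≤ T m * K (Fintype.card β) := Nat.mul_le_mul_left _ (hih.2 (hpar hodd' hsign))
        _ ≤ _ := T_mul_K hsmall _
    · push Not at hsmall
      have hm2 : 2 ≤ m := by
        have := hpow 0
        simp at this; omega
      calc 2 * Nat.card N ≤ 2 * T m * NilpotentPermArith.G (Fintype.card β) := by
            rw [mul_assoc]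
            exact Nat.mul_le_mul_left 2 (hle.trans (Nat.mul_le_mul_left _ hih.1))
        _ ≤ _ := two_T_mul_G hm2 hpow hsmall.1 hsmall.2.1 hsmall.2.2 _

end Cfsg.Agent.NilpotentPermBound
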