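import Cfsg.Agent.Lib.NilpotentPermBound

/-!
Nilpotent permutation groups of maximal order in degree `≡ 3 (mod 4)`.
-/

set_option autoImplicit false

namespace Cfsg.Agent.NilpotentPermConj

open Equiv Equiv.Perm
open Cfsg.Agent.NilpotentPermArith

/-- Nilpotent subgroups of order `3 * 2 ^ a` are conjugate if their elements of order `3` are
conjugate and `2 ^ a` is the `2`-part of the centralizer of these elements. -/
theorem conj_of_centralizer {G : Type*} [Group G] [Finite G] {N₁ N₂ : Subgroup G}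
    (hN₁ : Group.IsNilpotent N₁) (hN₂ : Group.IsNilpotent N₂) {a : ℕ}
    (h₁ : Nat.card N₁ = 3 * 2 ^ a) (h₂ : Nat.card N₂ = 3 * 2 ^ a) {z₁ z₂ g : G} (hz₁ : z₁ ∈ N₁)
    (hz₂ : z₂ ∈ N₂) (ho₁ : orderOf z₁ = 3) (ho₂ : orderOf z₂ = 3) (hg : g * z₁ * g⁻¹ = z₂)
    (hC : (Nat.card (Subgroup.centralizer ({z₂} : Set G))).factorization 2 = a) :
    ∃ h : G, N₂ = N₁.map (MulAut.conj h).toMonoidHom := by
  have key : ∀ (N : Subgroup G), Group.IsNilpotent N → Nat.card N = 3 * 2 ^ a → ∀ z ∈ N,
      orderOf z = 3 → ∃ Q : Subgroup G, Q ≤ N ∧ Nat.card Q = 2 ^ a ∧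
        Q ≤ Subgroup.centralizer ({z} : Set G) ∧ Subgroup.zpowers z ⊔ Q = N := by
    intro N hN hcard z hz ho
    obtain ⟨P⟩ : Nonempty (Sylow 2 N) := inferInstance
    have hP : Nat.card (P : Subgroup N) = 2 ^ a := by
      rw [P.card_eq_multiplicity, hcard, Nat.factorization_mul (by norm_num) (by positivity),
        Finsupp.add_apply, Nat.Prime.factorization_pow Nat.prime_two, Finsupp.single_eq_same,
        Nat.factorization_eq_zero_of_not_dvd (by norm_num), zero_add]
    set Q := (P : Subgroup N).map N.subtype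
    have hQle : Q ≤ N := Subgroup.map_subtype_le _
    have hQcard : Nat.card Q = 2 ^ a := by
      rw [Subgroup.card_map_of_injective N.subtype_injective, hP]
    refine ⟨Q, hQle, hQcard, fun x hx => Subgroup.mem_centralizer_singleton_iff.2 ?_, ?_⟩
    · obtain ⟨w, hw, rfl⟩ := hx
      have hcop : (orderOf w).Coprime (orderOf (⟨z, hz⟩ : N)) := by
        obtain ⟨j, hj⟩ := IsPGroup.iff_orderOf.1 P.2 ⟨w, hw⟩
        rw [Subgroup.orderOf_mk] at hj
        rw [hj, Subgroup.orderOf_mk, ho]
        exact Nat.Coprime.pow_left j (by norm_num)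
      exact congrArg Subtype.val (HallNilpotentConj.commute_of_coprime_orderOf N _ _ hcop).eq
    · refine Subgroup.eq_of_le_of_card_ge (sup_le (Subgroup.zpowers_le.2 hz) hQle) ?_
      rw [hcard]
      refine Nat.le_of_dvd Nat.card_pos (Nat.Coprime.mul_dvd_of_dvd_of_dvd ?_ ?_ ?_)
      · exact Nat.Coprime.pow_right a (by norm_num)
      · rw [← ho, ← Nat.card_zpowers]
        exact Subgroup.card_dvd_of_le le_sup_left
      · rw [← hQcard]
        exact Subgroup.card_dvd_of_le le_sup_right
  obtain ⟨Q₁, hQ₁, hc₁, hC₁, he₁⟩ := key N₁ hN₁ h₁ z₁ hz₁ ho₁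
  obtain ⟨Q₂, hQ₂, hc₂, hC₂, he₂⟩ := key N₂ hN₂ h₂ z₂ hz₂ ho₂
  set C := Subgroup.centralizer ({z₂} : Set G)
  have hC₁' : Q₁.map (MulAut.conj g).toMonoidHom ≤ C := by
    rintro _ ⟨x, hx, rfl⟩
    rw [Subgroup.mem_centralizer_singleton_iff]
    show g * x * g⁻¹ * z₂ = z₂ * (g * x * g⁻¹)
    rw [← hg, conj_mul, conj_mul, Subgroup.mem_centralizer_singleton_iff.1 (hC₁ hx)]
  let S₁ : Sylow 2 C := Sylow.ofCard ((Q₁.map (MulAut.conj g).toMonoidHom).subgroupOf C) (by
    rw [Nat.card_congr (Subgroup.subgroupOfEquivOfLe hC₁').toEquiv,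
      Subgroup.card_map_of_injective (MulAut.conj g).injective, hc₁, hC])
  let S₂ : Sylow 2 C := Sylow.ofCard (Q₂.subgroupOf C) (by
    rw [Nat.card_congr (Subgroup.subgroupOfEquivOfLe hC₂).toEquiv, hc₂, hC])
  obtain ⟨c, hc⟩ := MulAction.exists_smul_eq C S₁ S₂
  have hcz : (c : G) * z₂ * (c : G)⁻¹ = z₂ := by
    rw [mul_inv_eq_iff_eq_mul]
    exact Subgroup.mem_centralizer_singleton_iff.1 c.2
  refine ⟨c * g, (Subgroup.eq_of_le_of_card_ge ?_ ?_).symm⟩
  · rw [← he₁, Subgroup.map_sup, sup_le_iff, MonoidHom.map_zpowers, Subgroup.zpowers_le]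
    constructor
    · show (c : G) * g * z₁ * ((c : G) * g)⁻¹ ∈ N₂
      rw [show (c : G) * g * z₁ * ((c : G) * g)⁻¹ = (c : G) * (g * z₁ * g⁻¹) * (c : G)⁻¹ by group,
        hg, hcz]
      exact hz₂
    · rintro _ ⟨x, hx, rfl⟩
      have hx' : g * x * g⁻¹ ∈ Q₁.map (MulAut.conj g).toMonoidHom := ⟨x, hx, rfl⟩
      have h := Subgroup.mem_map_of_mem (MulAut.conj c).toMonoidHom
        (show (⟨g * x * g⁻¹, hC₁' hx'⟩ : C) ∈ (S₁ : Subgroup C) from hx')
      have h' : c * ⟨g * x * g⁻¹, hC₁' hx'⟩ * c⁻¹ ∈ (S₂ : Subgroup C) := by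
        rw [← hc]; exact h
      refine hQ₂ ?_
      show (c : G) * g * x * ((c : G) * g)⁻¹ ∈ Q₂
      rw [show (c : G) * g * x * ((c : G) * g)⁻¹ = (c : G) * (g * x * g⁻¹) * (c : G)⁻¹ by group]
      exact h'
  · rw [Subgroup.card_map_of_injective (MulAut.conj _).injective, h₁, h₂]

variable {α : Type} [Fintype α] [DecidableEq α]

theorem factorization_factorial (n : ℕ) : n.factorial.factorization 2 = V n :=
  Nat.factorization_def _ Nat.prime_two

theorem k_eq_one {n k : ℕ} (hn : n % 4 = 3) (hk : 1 ≤ k) (h3 : 3 * k ≤ n)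
    (h : V (n - 3) ≤ V (n - 3 * k) + V k + 1) : k = 1 := by
  by_contra hne
  obtain ⟨-, -, h2, h3', -⟩ := V_values
  rcases (show k = 2 ∨ k = 3 ∨ 4 ≤ k by omega) with rfl | rfl | h4
  · have := V_gain (show n - 3 * 2 ≤ n - 3 by omega)
    omega
  · have := V_gain (show n - 3 * 3 ≤ n - 3 by omega)
    omega
  · have h1 := V_add (3 * k - 3) (n - 3 * k)
    rw [show 3 * k - 3 + (n - 3 * k) = n - 3 by omega] at h1
    have h2 := V_gain (show k ≤ 3 * k - 3 by omega)
    omega

/-- An element of order `3` centralized by a large `2`-group is a `3`-cycle. -/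
theorem isThreeCycle_of_centralizer (hn : Fintype.card α % 4 = 3) {z : Perm α} (hz : orderOf z = 3)
    {d : ℕ} (hd : 2 ^ d ∣ Nat.card (Subgroup.centralizer ({z} : Set (Perm α))))
    (hd' : V (Fintype.card α - 3) ≤ d + 1) : z.IsThreeCycle := by
  obtain ⟨j, hj⟩ := cycleType_prime_order (σ := z) (hz ▸ Nat.prime_three)
  rw [hz] at hj
  have hsum : 3 * (j + 1) ≤ Fintype.card α := by
    have h := Finset.card_le_univ z.support
    rw [← sum_cycleType, hj, Multiset.sum_replicate, smul_eq_mul] at h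
    omega
  rw [nat_card_centralizer, hj, Multiset.sum_replicate, Multiset.prod_replicate, smul_eq_mul,
    Multiset.toFinset_replicate, if_neg (Nat.succ_ne_zero j), Finset.prod_singleton,
    Multiset.count_replicate_self] at hd
  have h1 := (Nat.Prime.pow_dvd_iff_le_factorization Nat.prime_two (by positivity)).1 hd
  rw [Nat.factorization_mul (by positivity) (by positivity), Finsupp.add_apply,
    Nat.factorization_mul (by positivity) (by positivity), Finsupp.add_apply,
    Nat.factorization_pow, Finsupp.smul_apply, Nat.factorization_eq_zero_of_not_dvd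
      (show ¬ 2 ∣ 3 by norm_num), smul_zero, add_zero, factorization_factorial,
    factorization_factorial, mul_comm (j + 1) 3] at h1
  have := k_eq_one hn (show 1 ≤ j + 1 by omega) hsum (by omega)
  rw [IsThreeCycle, hj, this, Multiset.replicate_one]

theorem centralizer_three {z : Perm α} (hz : z.IsThreeCycle) :
    (Nat.card (Subgroup.centralizer ({z} : Set (Perm α)))).factorization 2 =
      V (Fintype.card α - 3) := by
  rw [nat_card_centralizer, hz.cycleType, Multiset.sum_singleton, Multiset.prod_singleton,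
    Multiset.toFinset_singleton, Finset.prod_singleton, Multiset.count_singleton_self,
    Nat.factorial_one, mul_one, Nat.factorization_mul (by positivity) (by norm_num),
    Finsupp.add_apply, Nat.factorization_eq_zero_of_not_dvd (show ¬ 2 ∣ 3 by norm_num), add_zero,
    factorization_factorial]

theorem exists_odd_commute (hn : 5 ≤ Fintype.card α) {z : Perm α} (hz : z.IsThreeCycle) :
    ∃ τ : Perm α, sign τ = -1 ∧ τ * z = z * τ := by
  obtain ⟨u, hu, v, hv, huv⟩ := Finset.one_lt_card.1 (show 1 < z.supportᶜ.card by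
    rw [Finset.card_compl, hz.card_support]; omega)
  refine ⟨Equiv.swap u v, sign_swap huv, ?_⟩
  rw [Finset.mem_compl, notMem_support] at hu hv
  rw [Equiv.mul_swap_eq_swap_mul, hu, hv]

theorem centralizer_three_alt (hn : 5 ≤ Fintype.card α) {z : alternatingGroup α}
    (hz : (z : Perm α).IsThreeCycle) :
    (Nat.card (Subgroup.centralizer ({z} : Set (alternatingGroup α)))).factorization 2 + 1 =
      V (Fintype.card α - 3) := by
  rw [← centralizer_three hz]
  set C := Subgroup.centralizer ({(z : Perm α)} : Set (Perm α))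
  let f : C →* ℤˣ := (sign : Perm α →* ℤˣ).comp C.subtype
  have hsurj : Function.Surjective f := by
    intro u
    obtain ⟨τ, hτ, hτz⟩ := exists_odd_commute hn hz
    rcases Int.units_eq_one_or u with rfl | rfl
    · exact ⟨1, map_one f⟩
    · exact ⟨⟨τ, Subgroup.mem_centralizer_singleton_iff.2 hτz⟩, hτ⟩
  have e : Subgroup.centralizer ({z} : Set (alternatingGroup α)) ≃ f.ker :=
    { toFun := fun x => ⟨⟨((x : alternatingGroup α) : Perm α),
          Subgroup.mem_centralizer_singleton_iff.2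
            (congrArg Subtype.val (Subgroup.mem_centralizer_singleton_iff.1 x.2))⟩,
        mem_alternatingGroup.1 (x : alternatingGroup α).2⟩
      invFun := fun x => ⟨⟨((x : C) : Perm α), mem_alternatingGroup.2 x.2⟩,
        Subgroup.mem_centralizer_singleton_iff.2
          (Subtype.ext (Subgroup.mem_centralizer_singleton_iff.1 (x : C).2))⟩
      left_inv := fun _ => rfl
      right_inv := fun _ => rfl }
  rw [Nat.card_congr e, ← f.ker.card_mul_index, Subgroup.index_ker,
    MonoidHom.range_eq_top.2 hsurj, Subgroup.card_top,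
    show Nat.card ℤˣ = 2 by rw [Nat.card_eq_fintype_card]; rfl,
    Nat.factorization_mul Nat.card_pos.ne' two_ne_zero, Finsupp.add_apply,
    Nat.Prime.factorization_self Nat.prime_two]

theorem exists_three {N : Subgroup (Perm α)} {k : ℕ} (h : Nat.card N = 3 * k) :
    ∃ z ∈ N, orderOf z = 3 := by
  have : Fact (Nat.Prime 3) := ⟨Nat.prime_three⟩
  obtain ⟨z, hz⟩ := exists_prime_orderOf_dvd_card' 3 (h ▸ dvd_mul_right 3 k)
  exact ⟨z, z.2, (Subgroup.orderOf_coe z).trans hz⟩

theorem two_pow_dvd_centralizer {N : Subgroup (Perm α)} (hN : Group.IsNilpotent N) {d : ℕ}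
    (h : Nat.card N = 3 * 2 ^ d) {z : Perm α} (hz : z ∈ N) (ho : orderOf z = 3) :
    2 ^ d ∣ Nat.card (Subgroup.centralizer ({z} : Set (Perm α))) := by
  obtain ⟨P⟩ : Nonempty (Sylow 2 N) := inferInstance
  have hle : (P : Subgroup N).map N.subtype ≤ Subgroup.centralizer ({z} : Set (Perm α)) := by
    rintro _ ⟨w, hw, rfl⟩
    refine Subgroup.mem_centralizer_singleton_iff.2 ?_
    have hcop : (orderOf w).Coprime (orderOf (⟨z, hz⟩ : N)) := by
      obtain ⟨j, hj⟩ := IsPGroup.iff_orderOf.1 P.2 ⟨w, hw⟩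
      rw [Subgroup.orderOf_mk] at hj
      rw [hj, Subgroup.orderOf_mk, ho]
      exact Nat.Coprime.pow_left j (by norm_num)
    exact congrArg Subtype.val (HallNilpotentConj.commute_of_coprime_orderOf N _ _ hcop).eq
  refine dvd_trans ?_ (Subgroup.card_dvd_of_le hle)
  rw [Subgroup.card_map_of_injective N.subtype_injective]
  exact P.pow_dvd_card_of_pow_dvd_card (h ▸ dvd_mul_left _ 3)

/-- The extremal subgroup as the image of a homomorphism. -/
theorem exists_hom (n : ℕ) (hn : 3 ≤ n) : ∃ φ : Perm (Fin (n - 3)) × Multiplicative (ZMod 3) →*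
    Perm (Fin n), Function.Injective φ ∧ ∀ x, sign (φ x) = sign x.1 := by
  let e : Fin (n - 3) ⊕ ZMod 3 ≃ Fin n := Fintype.equivFinOfCardEq (by
    rw [Fintype.card_sum, Fintype.card_fin, ZMod.card]; omega)
  let c : Multiplicative (ZMod 3) →* Perm (ZMod 3) :=
    { toFun := fun a => Equiv.addLeft a.toAdd
      map_one' := Equiv.ext fun w => by simp
      map_mul' := fun a b => Equiv.ext fun w => by simp [add_assoc] }
  refine ⟨e.permCongrHom.toMonoidHom.comp ((sumCongrHom _ _).comp ((MonoidHom.id _).prodMap c)),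
    ?_, fun x => ?_⟩
  · refine e.permCongrHom.injective.comp (sumCongrHom_injective.comp ?_)
    rintro ⟨a, b⟩ ⟨a', b'⟩ h
    have h1 : a = a' := congrArg Prod.fst h
    have h2 := congrArg (fun y : Perm (Fin (n - 3)) × Perm (ZMod 3) => y.2 0) h
    simp [c] at h2
    rw [h1, h2]
  · show sign (e.permCongr (Equiv.sumCongr x.1 (c x.2))) = _
    rw [sign_permCongr, sign_sumCongr]
    have hc : c x.2 ^ 3 = 1 := by
      rw [← map_pow, show x.2 ^ 3 = 1 from ?_, map_one]
      refine Multiplicative.toAdd.injective ?_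
      rw [toAdd_pow, toAdd_one]
      generalize Multiplicative.toAdd x.2 = w
      revert w
      decide
    have h := congrArg sign hc
    rw [map_pow, map_one] at h
    rcases Int.units_eq_one_or (sign (c x.2)) with h1 | h1
    · rw [h1, mul_one]
    · rw [h1] at h; exact absurd h (by decide)

end Cfsg.Agent.NilpotentPermConj
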