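import Mathlib

/-!
# Arithmetic for simple groups of order `9 * 2 ^ a * q ^ b`

Consecutive divisors prime to three of such an order, the orders of the two-dimensional projective
linear groups that can occur, and the absence of elements of order six in the alternating group of
degree six.
-/

set_option autoImplicit false

namespace Cfsg.Agent.NineArith7

open Finset

theorem odd_part_unique {x y u v : ℕ} (hu : Odd u) (hv : Odd v) (h : 2 ^ x * u = 2 ^ y * v) :
    u = v := by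
  have key : ∀ {x y u v : ℕ}, Odd u → 2 ^ x * u = 2 ^ y * v → u ∣ v := fun {x y u v} hu h =>
    Nat.Coprime.dvd_of_dvd_mul_left ((Nat.coprime_two_right.2 hu).pow_right y) (h ▸ dvd_mul_left u _)
  exact Nat.dvd_antisymm (key hu h) (key hv h.symm)

theorem odd_dvd_two_pow {u i : ℕ} (hu : Odd u) (h : u ∣ 2 ^ i) : u = 1 :=
  Nat.eq_one_of_dvd_coprimes ((Nat.coprime_two_right.2 hu).pow_right i) dvd_rfl h

theorem sum_pow_mod_two {x : ℤ} (hx : Odd x) (n : ℕ) :
    (∑ j ∈ range n, x ^ j) % 2 = (n : ℤ) % 2 := by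
  induction n with
  | zero => simp
  | succ k ih =>
    have h1 : x ^ k % 2 = 1 := Int.odd_iff.1 hx.pow
    rw [sum_range_succ, Int.add_emod, ih, h1]
    omega

theorem pow_consec {q k i : ℕ} (hq : q.Prime) (hq2 : q ≠ 2) (hq3 : q ≠ 3) (hk : 1 ≤ k)
    (h : q ^ k + 1 = 2 ^ i ∨ q ^ k = 2 ^ i + 1) : k = 1 := by
  have hodd : Odd q := hq.odd_of_ne_two hq2
  have hq5 : 5 ≤ q := by
    have h2 := hq.two_le
    have h4 : q ≠ 4 := fun e => by rw [e] at hq; norm_num at hq
    omega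
  rcases Nat.even_or_odd k with ⟨m, hm⟩ | hko
  · exfalso
    have hm1 : 1 ≤ m := by omega
    set s := q ^ m with hs
    have hsodd : Odd s := hodd.pow
    have hs5 : 5 ≤ s := hq5.trans (by rw [hs]; exact Nat.le_self_pow (by omega) q)
    have hk' : q ^ k = s * s := by rw [hm, pow_add]
    rw [hk'] at h
    obtain ⟨r, hr⟩ := hsodd
    rcases h with h | h
    · have hi : 2 ≤ i := by
        by_contra hlt
        have : 2 ^ i ≤ 2 ^ 1 := Nat.pow_le_pow_right (by norm_num) (by omega)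
        nlinarith
      have h4 : 4 ∣ 2 ^ i := by
        have := pow_dvd_pow 2 hi
        simpa using this
      rw [← h, hr] at h4
      have : (2 * r + 1) * (2 * r + 1) + 1 = 4 * (r * r + r) + 2 := by ring
      omega
    · have hprod : (2 * r) * (2 * r + 2) = 2 ^ i := by
        rw [hr] at h
        have : (2 * r) * (2 * r + 2) + 1 = (2 * r + 1) * (2 * r + 1) := by ring
        omega
      obtain ⟨x, -, hx⟩ := (Nat.dvd_prime_pow Nat.prime_two).1 (Dvd.intro _ hprod)
      obtain ⟨y, -, hy⟩ := (Nat.dvd_prime_pow Nat.prime_two).1 (Dvd.intro_left _ hprod)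
      have hx2 : 2 ≤ x := by
        by_contra hlt
        have : 2 ^ x ≤ 2 ^ 1 := Nat.pow_le_pow_right (by norm_num) (by omega)
        omega
      have hy2 : 2 ≤ y := by
        by_contra hlt
        have : 2 ^ y ≤ 2 ^ 1 := Nat.pow_le_pow_right (by norm_num) (by omega)
        omega
      have h4x : 2 ^ 2 ∣ 2 ^ x := pow_dvd_pow 2 hx2
      have h4y : 2 ^ 2 ∣ 2 ^ y := pow_dvd_pow 2 hy2
      omega
  · by_contra hne
    have hk3 : 2 ≤ k := by omega
    have hlt : q < q ^ k := lt_of_eq_of_lt (pow_one q).symm (Nat.pow_lt_pow_right hq.one_lt hk3)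
    rcases h with h | h
    · set T : ℤ := ∑ j ∈ range k, (-(q : ℤ)) ^ j with hT
      have hTodd : Odd T := by
        rw [hT, Int.odd_iff, sum_pow_mod_two ((Int.odd_coe_nat q).2 hodd).neg k]
        have := Nat.odd_iff.1 hko
        omega
      have hmul : T * ((q : ℤ) + 1) = (q : ℤ) ^ k + 1 := by
        have h1 := geom_sum_mul (-(q : ℤ)) k
        rw [hko.neg_pow] at h1
        linear_combination -h1
      have hnat : T.natAbs * (q + 1) = 2 ^ i := by
        rw [← h]
        have h2 := congrArg Int.natAbs hmul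
        rw [Int.natAbs_mul] at h2
        exact_mod_cast h2
      have h1 := odd_dvd_two_pow (Int.natAbs_odd.2 hTodd) (Dvd.intro _ hnat)
      rw [h1, one_mul, ← h] at hnat
      omega
    · set S := ∑ j ∈ range k, q ^ j with hS
      have hSodd : Odd S := by
        rw [hS, Finset.odd_sum_iff_odd_card_odd, Finset.filter_true_of_mem fun j _ => hodd.pow,
          card_range]
        exact hko
      have hmul : S * (q - 1) = 2 ^ i := by
        have hh : ((S * (q - 1) : ℕ) : ℤ) = (q : ℤ) ^ k - 1 := by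
          rw [hS]
          push_cast [Nat.cast_sub hq.one_le]
          exact geom_sum_mul (q : ℤ) k
        have h' : ((q ^ k : ℕ) : ℤ) = ((2 ^ i + 1 : ℕ) : ℤ) := by rw [h]
        push_cast at h'
        rw [h'] at hh
        push_cast at hh
        have : ((S * (q - 1) : ℕ) : ℤ) = ((2 ^ i : ℕ) : ℤ) := by push_cast; linarith
        exact_mod_cast this
      have h1 := odd_dvd_two_pow hSodd (Dvd.intro _ hmul)
      rw [h1, one_mul] at hmul
      omega

/-- Consecutive divisors prime to three. -/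
theorem degrees {q a b d e : ℕ} (hq : q.Prime) (hq2 : q ≠ 2) (hq3 : q ≠ 3) (hd : 2 ≤ d)
    (he : 2 ≤ e) (hd3 : ¬ 3 ∣ d) (he3 : ¬ 3 ∣ e) (hdn : d ∣ 9 * 2 ^ a * q ^ b)
    (hen : e ∣ 9 * 2 ^ a * q ^ b) (hcons : d + 1 = e ∨ e + 1 = d) :
    ∃ i, i ≤ a ∧ 1 ≤ b ∧ (q = 2 ^ i + 1 ∨ q + 1 = 2 ^ i) ∧
      ((d = 2 ^ i ∧ e = q) ∨ (d = q ∧ e = 2 ^ i)) := by
  wlog hde : Even d generalizing d e with H
  · have hee : Even e := by
      rw [Nat.even_iff] at hde ⊢
      omega
    obtain ⟨i, h1, h2, h3, h4⟩ := H he hd he3 hd3 hen hdn hcons.symm hee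
    exact ⟨i, h1, h2, h3, h4.symm.imp And.symm And.symm⟩
  have form : ∀ {c : ℕ}, ¬ 3 ∣ c → c ∣ 9 * 2 ^ a * q ^ b →
      ∃ i j, i ≤ a ∧ j ≤ b ∧ c = 2 ^ i * q ^ j := by
    intro c hc hcn
    have hco : Nat.Coprime c 9 := by
      have := ((Nat.Prime.coprime_iff_not_dvd Nat.prime_three).2 hc).symm.pow_right 2
      simpa using this
    rw [mul_assoc] at hcn
    obtain ⟨u, v, hu, hv, rfl⟩ := Nat.dvd_mul.1 (hco.dvd_of_dvd_mul_left hcn)
    obtain ⟨i, hi, rfl⟩ := (Nat.dvd_prime_pow Nat.prime_two).1 hu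
    obtain ⟨j, hj, rfl⟩ := (Nat.dvd_prime_pow hq).1 hv
    exact ⟨i, j, hi, hj, rfl⟩
  obtain ⟨i, j, hi, hj, hdij⟩ := form hd3 hdn
  obtain ⟨i', k, -, hk, heij⟩ := form he3 hen
  have hd2 : d % 2 = 0 := Nat.even_iff.1 hde
  have hi' : i' = 0 := by
    by_contra h0
    have : 2 ∣ e := heij ▸ Dvd.dvd.mul_right (dvd_pow_self 2 h0) _
    omega
  subst hi'
  rw [pow_zero, one_mul] at heij
  have hk1 : 1 ≤ k := by
    by_contra h0
    rw [show k = 0 by omega, pow_zero] at heij
    omega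
  have hj0 : j = 0 := by
    by_contra h0
    have h1 : q ∣ d := hdij ▸ Dvd.dvd.mul_left (dvd_pow_self q h0) _
    have h2 : q ∣ e := heij ▸ dvd_pow_self q (by omega)
    rcases hcons with h | h
    · exact hq.not_dvd_one ((Nat.dvd_add_right h1).1 (h ▸ h2))
    · exact hq.not_dvd_one ((Nat.dvd_add_right h2).1 (h ▸ h1))
  rw [hj0, pow_zero, mul_one] at hdij
  have hqk : q ^ k + 1 = 2 ^ i ∨ q ^ k = 2 ^ i + 1 := by
    rw [← hdij, ← heij]; omega
  obtain rfl := pow_consec hq hq2 hq3 hk1 hqk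
  rw [pow_one] at heij hqk
  exact ⟨i, hi, hk, hqk.symm.imp id id, Or.inl ⟨hdij, heij⟩⟩

theorem two_pow_ne_ten (x : ℕ) : 2 ^ x ≠ 10 := by
  intro h
  have : 5 ∣ 2 ^ x := h ▸ by norm_num
  have := (Nat.prime_five).dvd_of_dvd_pow this
  omega

/-- The order of `PSL(2, q)` for a Fermat or Mersenne prime. -/
theorem psl_odd {m a q : ℕ} (hq : 11 ≤ q) (hm : q = 2 ^ m + 1 ∨ q = 2 ^ m - 1)
    (h : q * (q ^ 2 - 1) = 2 * (q * 2 ^ a * 9)) : q = 17 ∧ a = 4 := by
  have h' : q ^ 2 - 1 = 2 ^ (a + 1) * 9 := by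
    have : q * (q ^ 2 - 1) = q * (2 ^ (a + 1) * 9) := by rw [h, pow_succ]; ring
    exact Nat.eq_of_mul_eq_mul_left (by omega) this
  obtain ⟨n, rfl⟩ : ∃ n, m = n + 2 := ⟨m - 2, by
    by_contra hlt
    have : m < 2 := by omega
    interval_cases m <;> norm_num at hm <;> omega⟩
  rw [show n + 2 = (n + 1) + 1 from rfl, pow_succ 2 (n + 1)] at hm
  rcases hm with rfl | rfl
  · have h1 : (2 ^ (n + 1) * 2 + 1) ^ 2 = 2 ^ (n + 3) * (2 * 2 ^ n + 1) + 1 := by
      rw [pow_succ, pow_succ, pow_succ]; ring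
    rw [h1, Nat.add_sub_cancel] at h'
    have h2 := odd_part_unique (u := 2 * 2 ^ n + 1) (v := 9) ⟨_, rfl⟩ ⟨4, rfl⟩ h'
    have hn : n = 2 := Nat.pow_right_injective (le_refl 2) (show 2 ^ n = 2 ^ 2 by omega)
    subst hn
    refine ⟨by norm_num, ?_⟩
    have h3 : 2 ^ 5 = 2 ^ (a + 1) := by norm_num at h'; omega
    have := Nat.pow_right_injective (le_refl 2) h3
    omega
  · exfalso
    obtain ⟨w, hw⟩ : ∃ w, 2 * 2 ^ n = w + 1 :=
      ⟨2 * 2 ^ n - 1, by have := Nat.two_pow_pos n; omega⟩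
    have hw' : 2 ^ (n + 1) = w + 1 := by rw [pow_succ, mul_comm]; exact hw
    have hwodd : Odd w := by
      rcases Nat.even_or_odd w with ⟨r, hr⟩ | ho
      · omega
      · exact ho
    have h1 : (2 ^ (n + 1) * 2 - 1) ^ 2 = 2 ^ (n + 3) * w + 1 := by
      rw [show 2 ^ (n + 3) = 2 ^ (n + 1) * 4 by ring, hw',
        show (w + 1) * 2 - 1 = 2 * w + 1 by omega]
      ring
    rw [h1, Nat.add_sub_cancel] at h'
    have h2 := odd_part_unique hwodd ⟨4, rfl⟩ h'
    exact two_pow_ne_ten (n + 1) (by omega)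

/-- The order of `PSL(2, 2 ^ m)` with `2 ^ m + 1` prime. -/
theorem psl_even {m a q : ℕ} (hq : 11 ≤ q) (hm : q = 2 ^ m + 1)
    (h : 2 ^ m * ((2 ^ m) ^ 2 - 1) = q * 2 ^ a * 9) : False := by
  subst hm
  obtain ⟨w, hw⟩ : ∃ w, 2 ^ m = w + 1 := ⟨2 ^ m - 1, by have := Nat.two_pow_pos m; omega⟩
  have hm1 : m ≠ 0 := by rintro rfl; norm_num at hq
  have hwodd : Odd w := by
    have : Even (2 ^ m) := Nat.even_pow.2 ⟨even_two, hm1⟩
    rw [hw, Nat.even_add_one, Nat.not_even_iff_odd] at this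
    exact this
  have h1 : (2 ^ m) ^ 2 = (2 ^ m + 1) * w + 1 := by rw [hw]; ring
  rw [h1, Nat.add_sub_cancel] at h
  have h2 : 2 ^ m * w = 2 ^ a * 9 :=
    Nat.eq_of_mul_eq_mul_left (show 0 < 2 ^ m + 1 by omega) (by linarith)
  exact two_pow_ne_ten m (by have := odd_part_unique hwodd ⟨4, rfl⟩ h2; omega)

theorem two_pow_mod_seven (a : ℕ) :
    2 ^ a % 7 = if a % 3 = 0 then 1 else if a % 3 = 1 then 2 else 4 := by
  induction a with
  | zero => rfl
  | succ n ih =>
    rw [pow_succ, Nat.mul_mod, ih]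
    rcases (show n % 3 = 0 ∨ n % 3 = 1 ∨ n % 3 = 2 by omega) with e | e | e <;>
      simp [e, Nat.add_mod]

/-- The index of the centralizer of a Sylow `7`-subgroup in its normalizer. -/
theorem seven_index {a e n : ℕ} (he : e ∣ 6) (he1 : e ≠ 1) (h : e * n = 9 * 2 ^ a)
    (hn : n % 7 = 1) : e = 2 ∧ 3 ∣ a := by
  have hm := two_pow_mod_seven a
  have he6 := Nat.le_of_dvd (by norm_num) he
  interval_cases e
  all_goals first | (exfalso; omega) | skip
  · refine ⟨rfl, ?_⟩
    split_ifs at hm <;> omega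
  · split_ifs at hm <;> omega
  · split_ifs at hm <;> omega

/-- The alternating group of degree six has no element of order six. -/
theorem orderOf_ne_six (g : alternatingGroup (Fin 6)) : orderOf g ≠ 6 := by
  intro h
  rw [← Subgroup.orderOf_coe] at h
  set σ := (g : Equiv.Perm (Fin 6)) with hσ
  have hsign : Equiv.Perm.sign σ = 1 := Equiv.Perm.mem_alternatingGroup.1 g.2
  rw [Equiv.Perm.sign_of_cycleType] at hsign
  have hsum : σ.cycleType.sum ≤ 6 := by
    rw [Equiv.Perm.sum_cycleType]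
    exact (Finset.card_le_univ _).trans_eq (Fintype.card_fin 6)
  have hlcm : σ.cycleType.lcm = 6 := (Equiv.Perm.lcm_cycleType σ).trans h
  have hmem : ∀ n ∈ σ.cycleType, 2 ≤ n ∧ n ∣ 6 := fun n hn =>
    ⟨Equiv.Perm.two_le_of_mem_cycleType hn, hlcm ▸ Multiset.dvd_lcm hn⟩
  generalize σ.cycleType = M at hsign hsum hlcm hmem
  by_cases h6 : 6 ∈ M
  · obtain ⟨M', rfl⟩ := Multiset.exists_cons_of_mem h6
    rw [Multiset.sum_cons] at hsum
    have h0 : M' = 0 := Multiset.eq_zero_of_forall_notMem fun n hn => by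
      have := (hmem n (Multiset.mem_cons_of_mem hn)).1
      have := Multiset.le_sum_of_mem hn
      omega
    subst h0
    simp [pow_succ] at hsign
  have h23 : ∀ n ∈ M, n = 2 ∨ n = 3 := fun n hn => by
    obtain ⟨h2, hdvd⟩ := hmem n hn
    have hle := Nat.le_of_dvd (by norm_num) hdvd
    have hne : n ≠ 6 := fun e => h6 (e ▸ hn)
    interval_cases n <;> omega
  have h2 : 2 ∈ M := by
    by_contra hno
    have : M.lcm ∣ 3 := Multiset.lcm_dvd.2 fun n hn => by
      rcases h23 n hn with rfl | rfl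
      · exact absurd hn hno
      · exact dvd_rfl
    rw [hlcm] at this
    norm_num at this
  have h3 : 3 ∈ M := by
    by_contra hno
    have : M.lcm ∣ 2 := Multiset.lcm_dvd.2 fun n hn => by
      rcases h23 n hn with rfl | rfl
      · exact dvd_rfl
      · exact absurd hn hno
    rw [hlcm] at this
    norm_num at this
  obtain ⟨M₁, rfl⟩ := Multiset.exists_cons_of_mem h2
  have h3' : 3 ∈ M₁ := (Multiset.mem_cons.1 h3).resolve_left (by norm_num)
  obtain ⟨M₂, rfl⟩ := Multiset.exists_cons_of_mem h3'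
  rw [Multiset.sum_cons, Multiset.sum_cons] at hsum
  have h0 : M₂ = 0 := Multiset.eq_zero_of_forall_notMem fun n hn => by
    have := (hmem n (Multiset.mem_cons_of_mem (Multiset.mem_cons_of_mem hn))).1
    have := Multiset.le_sum_of_mem hn
    omega
  subst h0
  simp [pow_succ] at hsign

end Cfsg.Agent.NineArith7
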