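import Mathlib
import Cfsg.Agent.Lib.BlockTheoryCentre

/-!
# Automorphisms induced on a Sylow `3`-subgroup of order nine in a simple group

If a simple group has at least three classes of non-trivial `3`-elements and a Sylow `3`-subgroup
`R` of order nine, then the normalizer induces either the inversion on `R`, or a four group of
diagonal automorphisms of `R = A × B`.
-/

set_option autoImplicit false
set_option linter.unusedSectionVars false
set_option linter.deprecated false
set_option linter.style.haveILetI false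

attribute [local instance] Classical.propDecidable

namespace Cfsg.Agent.NineCases7

open Subgroup

universe u

variable {G : Type u} [Group G]

/-- `n` centralizes `A`. -/
def Fix (n : G) (A : Subgroup G) : Prop := ∀ a ∈ A, n * a * n⁻¹ = a

/-- `n` inverts `A`. -/
def Inv' (n : G) (A : Subgroup G) : Prop := ∀ a ∈ A, n * a * n⁻¹ = a⁻¹

/-- The normalizer induces exactly the inversion. -/
structure Inversion (R : Subgroup G) : Prop where
  act : ∀ n ∈ normalizer (R : Set G), Fix n R ∨ Inv' n R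
  exists_inv : ∃ n ∈ normalizer (R : Set G), Inv' n R

/-- The normalizer induces a four group of diagonal automorphisms. -/
structure Split (R A B : Subgroup G) : Prop where
  leA : A ≤ R
  leB : B ≤ R
  cardA : Nat.card A = 3
  cardB : Nat.card B = 3
  inf : A ⊓ B = ⊥
  act : ∀ n ∈ normalizer (R : Set G), (Fix n A ∨ Inv' n A) ∧ (Fix n B ∨ Inv' n B)
  reflA : ∃ n ∈ normalizer (R : Set G), Fix n A ∧ Inv' n B
  reflB : ∃ n ∈ normalizer (R : Set G), Inv' n A ∧ Fix n B

theorem Split.symm {R A B : Subgroup G} (h : Split R A B) : Split R B A :=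
  ⟨h.leB, h.leA, h.cardB, h.cardA, inf_comm B A ▸ h.inf, fun n hn => (h.act n hn).symm,
    h.reflB.imp fun _ e => ⟨e.1, e.2.2, e.2.1⟩, h.reflA.imp fun _ e => ⟨e.1, e.2.2, e.2.1⟩⟩

/-- A group with three elements. -/
theorem three {Q : Type*} [Group Q] (h : Nat.card Q = 3) {w : Q} (hw : w ≠ 1) (z : Q) :
    z = 1 ∨ z = w ∨ z = w⁻¹ := by
  haveI : Finite Q := Nat.finite_of_card_ne_zero (by omega)
  have hw3 : orderOf w = 3 := by
    have h1 : orderOf w ∣ 3 := h ▸ orderOf_dvd_natCard w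
    rcases (Nat.dvd_prime Nat.prime_three).1 h1 with e | e
    · exact absurd (orderOf_eq_one_iff.1 e) hw
    · exact e
  have htop : zpowers w = ⊤ := eq_top_of_card_eq _ (by rw [Nat.card_zpowers, hw3, h])
  have hz : z ∈ zpowers w := htop ▸ mem_top z
  obtain ⟨k, hk⟩ := mem_zpowers_iff.1 hz
  rw [← zpow_mod_orderOf, hw3] at hk
  have h0 : 0 ≤ k % ((3 : ℕ) : ℤ) := Int.emod_nonneg _ (by norm_num)
  have h2 : k % ((3 : ℕ) : ℤ) < 3 := Int.emod_lt_of_pos _ (by norm_num)
  interval_cases hm : k % ((3 : ℕ) : ℤ)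
  · exact Or.inl (by rw [← hk, zpow_zero])
  · exact Or.inr (Or.inl (by rw [← hk, zpow_one]))
  · refine Or.inr (Or.inr ?_)
    rw [← hk]
    refine eq_inv_of_mul_eq_one_left ?_
    rw [← zpow_add_one, show ((2 : ℤ) + 1) = ((orderOf w : ℕ) : ℤ) by rw [hw3]; norm_num,
      zpow_natCast, pow_orderOf_eq_one]

/-- An automorphism of a group of order three is trivial or the inversion. -/
theorem fix_or_inv {A : Subgroup G} (hA : Nat.card A = 3) {n : G}
    (hn : ∀ a ∈ A, n * a * n⁻¹ ∈ A) : Fix n A ∨ Inv' n A := by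
  haveI : Finite A := Nat.finite_of_card_ne_zero (by omega)
  obtain ⟨w, hw⟩ : ∃ w : A, w ≠ 1 := by
    haveI : Nontrivial A := Finite.one_lt_card_iff_nontrivial.1 (by omega)
    exact exists_ne 1
  have hw' : (w : G) ≠ 1 := fun e => hw (Subtype.ext e)
  have hall : ∀ z : A, (z : G) = 1 ∨ (z : G) = w ∨ (z : G) = (w : G)⁻¹ := fun z => by
    rcases three hA hw z with rfl | rfl | rfl
    · exact Or.inl rfl
    · exact Or.inr (Or.inl rfl)
    · exact Or.inr (Or.inr rfl)
  rcases hall ⟨n * w * n⁻¹, hn w w.2⟩ with h | h | h <;> simp only at h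
  · exact absurd (conj_eq_one_iff.1 h) hw'
  · refine Or.inl fun a ha => ?_
    rcases hall ⟨a, ha⟩ with e | e | e <;> simp only at e <;> subst e
    · simp
    · exact h
    · rw [← conj_inv, h]
  · refine Or.inr fun a ha => ?_
    rcases hall ⟨a, ha⟩ with e | e | e <;> simp only at e <;> subst e
    · simp
    · exact h
    · rw [← conj_inv, h]

variable [Finite G] (R : Sylow 3 G)

theorem comm_of_card (h9 : Nat.card (R : Subgroup G) = 9) :
    ∀ a ∈ (R : Subgroup G), ∀ b ∈ (R : Subgroup G), a * b = b * a := by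
  haveI : Fact (Nat.Prime 3) := ⟨Nat.prime_three⟩
  intro a ha b hb
  exact congrArg Subtype.val
    (IsPGroup.commutative_of_card_eq_prime_sq (G := ↥(R : Subgroup G)) (p := 3) h9 ⟨a, ha⟩ ⟨b, hb⟩)

/-- A simple non-abelian group has no non-trivial homomorphism to a commutative group. -/
theorem hom_trivial [IsSimpleGroup G] (hG : ¬ IsMulCommutative G) {A : Type*} [CommGroup A]
    (f : G →* A) (g : G) : f g = 1 := by
  rcases f.normal_ker.eq_bot_or_eq_top with h | h
  · exact absurd ⟨⟨fun a b => (MonoidHom.ker_eq_bot_iff f).1 h (by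
      rw [map_mul, map_mul, mul_comm])⟩⟩ hG
  · exact MonoidHom.mem_ker.1 (h ▸ Subgroup.mem_top g)

/-- No non-identity element of `R` is fixed by the whole normalizer. -/
theorem not_fixed [IsSimpleGroup G] (hG : ¬ IsMulCommutative G)
    (h9 : Nat.card (R : Subgroup G) = 9) {x : G} (hx : x ∈ (R : Subgroup G)) (hx1 : x ≠ 1) :
    ∃ n ∈ normalizer ((R : Subgroup G) : Set G), n * x * n⁻¹ ≠ x := by
  haveI : Fact (Nat.Prime 3) := ⟨Nat.prime_three⟩
  by_contra hcon
  push Not at hcon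
  letI : CommGroup (R : Subgroup G) :=
    { (inferInstance : Group (R : Subgroup G)) with
      mul_comm := fun a b => Subtype.ext (comm_of_card R h9 a a.2 b b.2) }
  haveI : IsMulCommutative (R : Subgroup G) := ⟨⟨mul_comm⟩⟩
  have key : ∀ (k : ℕ) (g₀ : G), g₀⁻¹ * x ^ k * g₀ ∈ (R : Subgroup G) →
      g₀⁻¹ * x ^ k * g₀ = x ^ k := by
    intro k g₀ hk
    obtain ⟨n, hn, he⟩ :=
      R.conj_eq_normalizer_conj_of_mem (x ^ k) g₀ (pow_mem hx k) hk
    rw [he]
    have h1 := hcon n⁻¹ (inv_mem hn)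
    rw [inv_inv] at h1
    calc n⁻¹ * x ^ k * n = (n⁻¹ * x * n) ^ k := by
          rw [show n⁻¹ * x * n = n⁻¹ * x * (n⁻¹)⁻¹ by rw [inv_inv], conj_pow, inv_inv]
      _ = x ^ k := by rw [h1]
  have h1 := MonoidHom.transfer_eq_pow (MonoidHom.id (R : Subgroup G)) x key
  rw [hom_trivial hG (MonoidHom.transfer (MonoidHom.id (R : Subgroup G))) x] at h1
  have h2 : x ^ (R : Subgroup G).index = 1 := (congrArg Subtype.val h1).symm
  have h3 := orderOf_dvd_of_pow_eq_one h2
  have h4 : orderOf x ∣ Nat.card (R : Subgroup G) := Subgroup.orderOf_dvd_natCard _ hx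
  exact hx1 (orderOf_eq_one_iff.1 (Nat.eq_one_of_dvd_coprimes R.card_coprime_index h4 h3))

section Aut

/-- The automorphisms induced by the normalizer. -/
noncomputable abbrev autR : Subgroup (MulAut (R : Subgroup G)) :=
  (R : Subgroup G).normalizerMonoidHom.range

theorem not_three_dvd_card (h9 : Nat.card (R : Subgroup G) = 9) :
    ¬ 3 ∣ Nat.card (autR R) := by
  intro h3
  haveI : Fact (Nat.Prime 3) := ⟨Nat.prime_three⟩
  set f := (R : Subgroup G).normalizerMonoidHom with hf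
  have h1 : Nat.card f.range * Nat.card f.ker =
      Nat.card (normalizer ((R : Subgroup G) : Set G)) := by
    rw [← Nat.card_congr (QuotientGroup.quotientKerEquivRange f).toEquiv, mul_comm,
      ← Subgroup.index_eq_card, Subgroup.card_mul_index]
  have h2 : 9 ∣ Nat.card f.ker := by
    have hle : (R : Subgroup G).subgroupOf (normalizer ((R : Subgroup G) : Set G)) ≤ f.ker := by
      rw [hf, normalizerMonoidHom_ker]
      intro y hy
      rw [mem_subgroupOf, mem_centralizer_iff]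
      exact fun b hb => comm_of_card R h9 b hb _ hy
    refine dvd_trans ?_ (Subgroup.card_dvd_of_le hle)
    rw [Nat.card_congr (Subgroup.subgroupOfEquivOfLe Subgroup.le_normalizer).toEquiv, h9]
  have h4 : 27 ∣ Nat.card G := by
    refine dvd_trans ?_ (Subgroup.card_subgroup_dvd_card (normalizer ((R : Subgroup G) : Set G)))
    rw [← h1, show 27 = 3 * 9 by norm_num]
    exact Nat.mul_dvd_mul h3 h2
  rw [← Subgroup.card_mul_index (R : Subgroup G), h9, show 27 = 9 * 3 by norm_num] at h4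
  exact R.not_dvd_index (Nat.dvd_of_mul_dvd_mul_left (by norm_num) h4)

variable {R}

/-- The fixed subgroup. -/
def fixedBy' (σ : MulAut (R : Subgroup G)) : Subgroup (R : Subgroup G) :=
  MonoidHom.eqLocus σ.toMonoidHom (MonoidHom.id _)

theorem mem_fixedBy' {σ : MulAut (R : Subgroup G)} {y : (R : Subgroup G)} :
    y ∈ fixedBy' σ ↔ σ y = y := Iff.rfl

theorem card_fixed (h9 : Nat.card (R : Subgroup G) = 9) {σ : MulAut (R : Subgroup G)}
    (hσ : σ ≠ 1) : Nat.card (fixedBy' σ) = 1 ∨ Nat.card (fixedBy' σ) = 3 := by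
  have h := Subgroup.card_subgroup_dvd_card (fixedBy' σ)
  rw [h9, show 9 = 3 ^ 2 by norm_num, Nat.dvd_prime_pow Nat.prime_three] at h
  obtain ⟨j, hj, hc⟩ := h
  interval_cases j
  · exact Or.inl hc
  · exact Or.inr hc
  · exfalso
    refine hσ (MulEquiv.ext fun y => ?_)
    have htop : fixedBy' σ = ⊤ := eq_top_of_card_eq _ (by rw [hc, h9]; norm_num)
    show σ y = y
    exact mem_fixedBy'.1 (htop ▸ Subgroup.mem_top y)

theorem card_autR (h9 : Nat.card (R : Subgroup G) = 9) {r : ℕ} (hr : r.Prime)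
    (hdvd : r ∣ Nat.card (autR R)) : r = 2 := by
  haveI := Fact.mk hr
  obtain ⟨σ, hσ⟩ := exists_prime_orderOf_dvd_card' r hdvd
  set τ : MulAut (R : Subgroup G) := (σ : MulAut (R : Subgroup G)) with hτ
  have hτo : orderOf τ = r := (Subgroup.orderOf_coe σ).trans hσ
  have hτ1 : τ ≠ 1 := fun e => hr.ne_one (by rw [← hτo, e, orderOf_one])
  have hpg : IsPGroup r (Subgroup.zpowers τ) :=
    IsPGroup.of_card (n := 1) (by rw [Nat.card_zpowers, hτo, pow_one])
  have hmod := hpg.card_modEq_card_fixedPoints (R : Subgroup G)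
  have hset : Nat.card (MulAction.fixedPoints (Subgroup.zpowers τ) (R : Subgroup G)) =
      Nat.card (fixedBy' τ) := by
    refine Nat.card_congr (Equiv.subtypeEquivRight fun y => ⟨fun h => ?_, fun h => ?_⟩)
    · exact h ⟨τ, Subgroup.mem_zpowers τ⟩
    · rintro ⟨π, hπ⟩
      have hle : Subgroup.zpowers τ ≤ MulAction.stabilizer (MulAut (R : Subgroup G)) y :=
        Subgroup.zpowers_le.2 (MulAction.mem_stabilizer_iff.2 h)
      exact MulAction.mem_stabilizer_iff.1 (hle hπ)
  rw [hset, h9] at hmod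
  have hdiv := (Nat.modEq_iff_dvd' (by rcases card_fixed h9 hτ1 with e | e <;> omega)).1 hmod.symm
  rcases card_fixed h9 hτ1 with e | e <;> rw [e] at hdiv <;> norm_num at hdiv
  · exact (Nat.prime_dvd_prime_iff_eq hr Nat.prime_two).1
      (hr.dvd_of_dvd_pow (n := 3) (by norm_num; exact hdiv))
  · rcases (Nat.Prime.dvd_mul hr).1 (show r ∣ 2 * 3 by norm_num; exact hdiv) with h | h
    · exact (Nat.prime_dvd_prime_iff_eq hr Nat.prime_two).1 h
    · have := (Nat.prime_dvd_prime_iff_eq hr Nat.prime_three).1 h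
      subst this
      exact absurd hdvd (not_three_dvd_card R h9)

theorem isPGroup_autR (h9 : Nat.card (R : Subgroup G) = 9) :
    ∃ k, Nat.card (autR R) = 2 ^ k :=
  ⟨_, Nat.eq_prime_pow_of_unique_prime_dvd Nat.card_pos.ne' fun {_} hd he => card_autR h9 hd he⟩

theorem eq_one_of_trivial_quot (h9 : Nat.card (R : Subgroup G) = 9)
    {ρ : MulAut (R : Subgroup G)} (hρ : ρ ∈ autR R)
    (hy : ∀ y, ρ (ρ y * y⁻¹) = ρ y * y⁻¹ ∧ (ρ y * y⁻¹) ^ 3 = 1) : ρ = 1 := by
  have hpow : ∀ (k : ℕ) (y : (R : Subgroup G)), (ρ ^ k) y = (ρ y * y⁻¹) ^ k * y := by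
    intro k
    induction k with
    | zero => intro y; simp
    | succ k ih =>
      intro y
      rw [pow_succ', MulAut.mul_apply, ih, map_mul, map_pow, (hy y).1, pow_succ, mul_assoc,
        inv_mul_cancel_right]
  have h3 : orderOf ρ ∣ 3 := orderOf_dvd_of_pow_eq_one (MulEquiv.ext fun y => by
    rw [hpow, (hy y).2, one_mul]; rfl)
  have h4 : orderOf ρ ∣ Nat.card (autR R) := Subgroup.orderOf_dvd_natCard _ hρ
  rcases (Nat.dvd_prime Nat.prime_three).1 h3 with e | e
  · exact orderOf_eq_one_iff.1 e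
  · rw [e] at h4
    exact absurd h4 (not_three_dvd_card R h9)

/-- An automorphism fixing a non-trivial element. -/
theorem stab_data (h9 : Nat.card (R : Subgroup G) = 9) {σ τ : MulAut (R : Subgroup G)}
    (hσ : σ ∈ autR R) (hτ : τ ∈ autR R) (hσ1 : σ ≠ 1) (hτ1 : τ ≠ 1) {x : (R : Subgroup G)}
    (hx : x ≠ 1) (hσx : σ x = x) (hτx : τ x = x) :
    τ = σ ∧ σ * σ = 1 ∧ fixedBy' σ = Subgroup.zpowers x := by
  letI : CommGroup (R : Subgroup G) :=
    { (inferInstance : Group (R : Subgroup G)) with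
      mul_comm := fun a b => Subtype.ext (comm_of_card R h9 a a.2 b b.2) }
  have hdata : ∀ ρ : MulAut (R : Subgroup G), ρ ≠ 1 → ρ x = x →
      fixedBy' ρ = Subgroup.zpowers x ∧ orderOf x = 3 := by
    intro ρ hρ hρx
    have hle : Subgroup.zpowers x ≤ fixedBy' ρ := Subgroup.zpowers_le.2 hρx
    have hd := Subgroup.card_dvd_of_le hle
    have hc : Nat.card (fixedBy' ρ) = 3 := (card_fixed h9 hρ).resolve_left fun e => by
      rw [e, Nat.card_zpowers] at hd
      exact hx (orderOf_eq_one_iff.1 (Nat.dvd_one.1 hd))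
    rw [hc, Nat.card_zpowers] at hd
    have ho : orderOf x = 3 :=
      ((Nat.dvd_prime Nat.prime_three).1 hd).resolve_left fun e => hx (orderOf_eq_one_iff.1 e)
    exact ⟨(Subgroup.eq_of_le_of_card_ge hle (by rw [hc, Nat.card_zpowers, ho])).symm, ho⟩
  obtain ⟨hF, ho⟩ := hdata σ hσ1 hσx
  set F := Subgroup.zpowers x with hFdef
  have hFfix : ∀ ρ : MulAut (R : Subgroup G), ρ x = x → ∀ f ∈ F, ρ f = f := by
    intro ρ hρx f hf
    obtain ⟨k, rfl⟩ := Subgroup.mem_zpowers_iff.1 hf
    rw [map_zpow, hρx]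
  have hF3 : ∀ f ∈ F, f ^ 3 = 1 := by
    intro f hf
    have := pow_card_eq_one' (x := (⟨f, hf⟩ : F))
    rw [Nat.card_zpowers, ho] at this
    exact congrArg Subtype.val this
  have hquot : Nat.card ((R : Subgroup G) ⧸ F) = 3 := by
    have := Subgroup.card_mul_index F
    rw [Nat.card_zpowers, ho, Subgroup.index_eq_card, h9] at this
    omega
  have hinv : ∀ ρ ∈ autR R, ρ ≠ 1 → ρ x = x → ∀ y, ρ y * y ∈ F := by
    intro ρ hρ hρ1 hρx y
    by_cases hy : y ∈ F
    · exact F.mul_mem (by rw [hFfix ρ hρx y hy]; exact hy) hy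
    have hw : (QuotientGroup.mk y : (R : Subgroup G) ⧸ F) ≠ 1 := fun e =>
      hy ((QuotientGroup.eq_one_iff y).1 e)
    rcases three hquot hw (QuotientGroup.mk (ρ y)) with e | e | e
    · exfalso
      have h1 : ρ y ∈ F := (QuotientGroup.eq_one_iff _).1 e
      exact hy ((ρ.injective (hFfix ρ hρx _ h1)) ▸ h1)
    · exfalso
      refine hρ1 (eq_one_of_trivial_quot h9 hρ fun z => ?_)
      suffices hz : ρ z * z⁻¹ ∈ F from ⟨hFfix ρ hρx _ hz, hF3 _ hz⟩
      have h1 : ρ y * y⁻¹ ∈ F := by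
        rw [← QuotientGroup.eq_one_iff, QuotientGroup.mk_mul, QuotientGroup.mk_inv, e,
          mul_inv_cancel]
      rcases three hquot hw (QuotientGroup.mk z) with ez | ez | ez
      · have h2 : z ∈ F := (QuotientGroup.eq_one_iff _).1 ez
        rw [hFfix ρ hρx z h2, mul_inv_cancel]; exact F.one_mem
      · obtain ⟨f, hf, rfl⟩ : ∃ f ∈ F, y * f = z :=
          ⟨y⁻¹ * z, QuotientGroup.eq.1 ez.symm, mul_inv_cancel_left y z⟩
        rw [map_mul, hFfix ρ hρx f hf, mul_inv, mul_mul_mul_comm, mul_inv_cancel, mul_one]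
        exact h1
      · rw [← QuotientGroup.mk_inv] at ez
        obtain ⟨f, hf, rfl⟩ : ∃ f ∈ F, y⁻¹ * f = z :=
          ⟨(y⁻¹)⁻¹ * z, QuotientGroup.eq.1 ez.symm, mul_inv_cancel_left y⁻¹ z⟩
        rw [map_mul, map_inv, hFfix ρ hρx f hf, mul_inv, inv_inv, mul_mul_mul_comm,
          mul_inv_cancel, mul_one]
        have := F.inv_mem h1
        rwa [mul_inv, inv_inv] at this
    · rw [← QuotientGroup.eq_one_iff, QuotientGroup.mk_mul, e, inv_mul_cancel]
  have hprod : ∀ ρ π : MulAut (R : Subgroup G), ρ ∈ autR R → π ∈ autR R → ρ ≠ 1 → π ≠ 1 →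
      ρ x = x → π x = x → ρ * π = 1 := by
    intro ρ π hρ hπ hρ1 hπ1 hρx hπx
    refine eq_one_of_trivial_quot h9 (mul_mem hρ hπ) fun y => ?_
    suffices hz : (ρ * π) y * y⁻¹ ∈ F from
      ⟨hFfix _ (by rw [MulAut.mul_apply, hπx, hρx]) _ hz, hF3 _ hz⟩
    have h1 := hinv π hπ hπ1 hπx y
    have h2 := hinv ρ hρ hρ1 hρx (π y)
    rw [MulAut.mul_apply]
    have h3 : ρ (π y) * y⁻¹ = (ρ (π y) * π y) * (π y * y)⁻¹ := by
      rw [mul_inv_rev]
      calc ρ (π y) * y⁻¹ = ρ (π y) * (π y * (π y)⁻¹) * y⁻¹ := by rw [mul_inv_cancel, mul_one]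
        _ = ρ (π y) * π y * (y⁻¹ * (π y)⁻¹) := by
            rw [mul_comm y⁻¹ (π y)⁻¹]; simp only [mul_assoc]
    rw [h3]
    exact F.mul_mem h2 (F.inv_mem h1)
  have hσσ := hprod σ σ hσ hσ hσ1 hσ1 hσx hσx
  have hτσ := hprod τ σ hτ hσ hτ1 hσ1 hτx hσx
  exact ⟨mul_right_cancel (hτσ.trans hσσ.symm), hσσ, hF⟩

/-- The two possibilities. -/
theorem cases [IsSimpleGroup G] (hG : ¬ IsMulCommutative G)
    (h9 : Nat.card (R : Subgroup G) = 9) {u v w : (R : Subgroup G)} (hu : u ≠ 1) (hv : v ≠ 1)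
    (hw : w ≠ 1) (huv : ¬ IsConj (u : G) v) (huw : ¬ IsConj (u : G) w)
    (hvw : ¬ IsConj (v : G) w) :
    Inversion (R : Subgroup G) ∨ ∃ A B, Split (R : Subgroup G) A B := by
  set N := normalizer ((R : Subgroup G) : Set G) with hN
  set f := (R : Subgroup G).normalizerMonoidHom with hf
  have hfval : ∀ (n : N) (y : (R : Subgroup G)), ((f n y : (R : Subgroup G)) : G) = n * y * (n : G)⁻¹ :=
    fun _ _ => rfl
  obtain ⟨k, hk⟩ := isPGroup_autR h9 (R := R)
  haveI : Fintype (autR R) := Fintype.ofFinite _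
  haveI : Fintype (R : Subgroup G) := Fintype.ofFinite _
  -- orbits
  let orb : ↥(R : Subgroup G) → Finset ↥(R : Subgroup G) := fun y =>
    Finset.univ.image fun σ : autR R => (σ : MulAut (R : Subgroup G)) y
  have horb1 : ∀ y, y ≠ 1 → orb y ⊆ Finset.univ.erase 1 := by
    intro y hy z hz
    obtain ⟨σ, -, rfl⟩ := Finset.mem_image.1 hz
    exact Finset.mem_erase.2 ⟨fun e => hy (by simpa using e), Finset.mem_univ _⟩
  have horbconj : ∀ y z, z ∈ orb y → IsConj (y : G) z := by
    intro y z hz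
    obtain ⟨⟨σ, n, rfl⟩, -, rfl⟩ := Finset.mem_image.1 hz
    exact isConj_iff.2 ⟨n, (hfval n y).symm⟩
  have hdisj : ∀ y z : (R : Subgroup G), ¬ IsConj (y : G) z → Disjoint (orb y) (orb z) := by
    intro y z hyz
    rw [Finset.disjoint_left]
    exact fun t ht ht' => hyz ((horbconj y t ht).trans (horbconj z t ht').symm)
  have hsum : (orb u).card + (orb v).card + (orb w).card ≤ 8 := by
    rw [← Finset.card_union_of_disjoint (hdisj u v huv),
      ← Finset.card_union_of_disjoint (Finset.disjoint_union_left.2 ⟨hdisj u w huw, hdisj v w hvw⟩)]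
    refine (Finset.card_le_card (Finset.union_subset (Finset.union_subset (horb1 u hu) (horb1 v hv))
      (horb1 w hw))).trans ?_
    rw [Finset.card_erase_of_mem (Finset.mem_univ _), Finset.card_univ, ← Nat.card_eq_fintype_card,
      h9]
  have hfib : ∀ y : (R : Subgroup G), y ≠ 1 → Fintype.card (autR R) ≤ 2 * (orb y).card := by
    intro y hy
    rw [← Finset.card_univ]
    refine Finset.card_le_mul_card_image _ 2 fun z _ => ?_
    by_contra hlt
    obtain ⟨a, ha, b, hb, c, hc, hab, hac, hbc⟩ := Finset.two_lt_card.1 (not_le.1 hlt)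
    simp only [Finset.mem_filter, Finset.mem_univ, true_and] at ha hb hc
    have hfix : ∀ d : autR R, (d : MulAut (R : Subgroup G)) y = z →
        ((a⁻¹ * d : autR R) : MulAut (R : Subgroup G)) y = y := by
      intro d hd
      rw [Subgroup.coe_mul, MulAut.mul_apply, hd, ← ha, InvMemClass.coe_inv]
      exact MulEquiv.symm_apply_apply _ _
    have hne : ∀ d : autR R, a ≠ d → ((a⁻¹ * d : autR R) : MulAut (R : Subgroup G)) ≠ 1 :=
      fun d hd e => hd (inv_mul_eq_one.1 (Subtype.ext (p := (· ∈ autR R)) e))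
    have := (stab_data h9 (a⁻¹ * b).2 (a⁻¹ * c).2 (hne b hab) (hne c hac) hy (hfix b hb)
      (hfix c hc)).1
    exact hbc (mul_left_cancel (Subtype.ext this)).symm
  have hk2 : k ≤ 2 := by
    by_contra hgt
    have h8 : 2 ^ 3 ≤ 2 ^ k := Nat.pow_le_pow_right (by norm_num) (by omega)
    have h1 := hfib u hu; have h2 := hfib v hv; have h3 := hfib w hw
    rw [← Nat.card_eq_fintype_card, hk] at h1 h2 h3
    omega
  interval_cases k
  · -- trivial action
    exfalso
    obtain ⟨n, hn, hne⟩ := not_fixed R hG h9 u.2 (fun e => hu (Subtype.ext e))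
    apply hne
    have h1 : f ⟨n, hn⟩ = 1 := by
      haveI : Subsingleton (autR R) := (Nat.card_eq_one_iff_unique.1 (hk.trans (pow_zero 2))).1
      exact congrArg Subtype.val
        (Subsingleton.elim (⟨f ⟨n, hn⟩, _, rfl⟩ : autR R) (1 : autR R))
    rw [← hfval ⟨n, hn⟩ u, h1]; rfl
  · -- inversion
    obtain ⟨σ, hσ1⟩ : ∃ σ : autR R, σ ≠ 1 := by
      haveI : Nontrivial (autR R) := Finite.one_lt_card_iff_nontrivial.1 (by rw [hk]; norm_num)
      exact exists_ne 1
    have htwo : ∀ ρ : autR R, ρ = 1 ∨ ρ = σ := by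
      intro ρ
      by_contra hcon
      push Not at hcon
      have : ({1, σ, ρ} : Finset (autR R)).card ≤ 2 := by
        refine (Finset.card_le_univ _).trans ?_
        rw [← Nat.card_eq_fintype_card, hk]; norm_num
      rw [Finset.card_insert_of_notMem (by simp [hσ1.symm, hcon.1.symm]),
        Finset.card_pair hcon.2.symm] at this
      omega
    have hσ1' : (σ : MulAut (R : Subgroup G)) ≠ 1 := fun e => hσ1 (Subtype.ext e)
    have hfree : ∀ x, (σ : MulAut (R : Subgroup G)) x = x → x = 1 := by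
      intro x hσx
      by_contra hx
      obtain ⟨n, hn, hne⟩ := not_fixed R hG h9 x.2 (fun e => hx (Subtype.ext e))
      apply hne
      rw [← hfval ⟨n, hn⟩ x]
      rcases htwo ⟨f ⟨n, hn⟩, _, rfl⟩ with h1 | h1
      · rw [show f ⟨n, hn⟩ = 1 from congrArg Subtype.val h1]; rfl
      · rw [show f ⟨n, hn⟩ = σ from congrArg Subtype.val h1, hσx]
    have hσσ : (σ : MulAut (R : Subgroup G)) * σ = 1 := by
      rcases htwo (σ * σ) with h | h
      · exact congrArg Subtype.val h
      · exact absurd (mul_eq_left.1 h) hσ1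
    have hinv : ∀ y, (σ : MulAut (R : Subgroup G)) y = y⁻¹ := by
      intro y
      refine eq_inv_of_mul_eq_one_left (hfree _ ?_)
      rw [map_mul, ← MulAut.mul_apply, hσσ]
      exact Subtype.ext (comm_of_card R h9 _ y.2 _ ((σ : MulAut (R : Subgroup G)) y).2)
    refine Or.inl ⟨fun n hn => ?_, ?_⟩
    · rcases htwo ⟨f ⟨n, hn⟩, _, rfl⟩ with h | h
      · left
        intro a ha
        rw [← hfval ⟨n, hn⟩ ⟨a, ha⟩, show f ⟨n, hn⟩ = 1 from congrArg Subtype.val h]
        rfl
      · right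
        intro a ha
        rw [← hfval ⟨n, hn⟩ ⟨a, ha⟩, show f ⟨n, hn⟩ = σ from congrArg Subtype.val h, hinv]
        rfl
    · obtain ⟨τ, n, hτ⟩ := σ
      refine ⟨n, n.2, fun a ha => ?_⟩
      rw [← hfval n ⟨a, ha⟩, hτ]
      exact congrArg Subtype.val (hinv ⟨a, ha⟩)
  · -- four group
    right
    haveI : Fact (Nat.Prime 2) := ⟨Nat.prime_two⟩
    have hcomm : ∀ a b : autR R, a * b = b * a :=
      IsPGroup.commutative_of_card_eq_prime_sq (p := 2) hk
    obtain ⟨x, σ, hx, hσ, hσ1, hσx⟩ : ∃ (x : (R : Subgroup G)) (σ : MulAut (R : Subgroup G)),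
        x ≠ 1 ∧ σ ∈ autR R ∧ σ ≠ 1 ∧ σ x = x := by
      by_contra hcon
      push Not at hcon
      have hfull : ∀ y, y ≠ 1 → (orb y).card = 4 := by
        intro y hy
        rw [Finset.card_image_of_injective _ fun a b hab => ?_, Finset.card_univ,
          ← Nat.card_eq_fintype_card, hk]
        · norm_num
        by_contra hne
        refine hcon y _ hy (a⁻¹ * b).2 (fun e => hne (inv_mul_eq_one.1 (Subtype.ext e))) ?_
        rw [Subgroup.coe_mul, MulAut.mul_apply, ← hab, InvMemClass.coe_inv]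
        exact MulEquiv.symm_apply_apply _ _
      rw [hfull u hu, hfull v hv, hfull w hw] at hsum
      omega
    obtain ⟨-, hσσ, hF⟩ := stab_data h9 hσ hσ hσ1 hσ1 hx hσx hσx
    letI : CommGroup (R : Subgroup G) :=
      { (inferInstance : Group (R : Subgroup G)) with
        mul_comm := fun a b => Subtype.ext (comm_of_card R h9 a a.2 b b.2) }
    let B' : Subgroup (R : Subgroup G) :=
      MonoidHom.eqLocus σ.toMonoidHom (invMonoidHom : (R : Subgroup G) →* (R : Subgroup G))
    have hB' : ∀ {y}, y ∈ B' ↔ σ y = y⁻¹ := Iff.rfl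
    have hsq : ∀ y : (R : Subgroup G), y * y = 1 → y = 1 := by
      intro y hy
      have h1 : orderOf y ∣ 2 := orderOf_dvd_of_pow_eq_one (by rw [pow_two, hy])
      have h2 : orderOf y ∣ 9 := h9 ▸ orderOf_dvd_natCard y
      exact orderOf_eq_one_iff.1 (Nat.eq_one_of_dvd_coprimes (by norm_num) h1 h2)
    have hinf' : fixedBy' σ ⊓ B' = ⊥ := by
      rw [eq_bot_iff]
      intro y hy
      have h1 := mem_fixedBy'.1 hy.1
      have h2 := hB'.1 hy.2
      rw [h1] at h2
      exact Subgroup.mem_bot.2 (hsq y (mul_eq_one_iff_eq_inv.2 h2))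
    have hcF : Nat.card (fixedBy' σ) = 3 := (card_fixed h9 hσ1).resolve_left fun e => by
      have h1 : x ∈ fixedBy' σ := mem_fixedBy'.2 hσx
      rw [Subgroup.card_eq_one.1 e, Subgroup.mem_bot] at h1
      exact hx h1
    have hcB : Nat.card B' = 3 := by
      have hσ2 : ∀ y, σ (σ y) = y := fun y => by rw [← MulAut.mul_apply, hσσ]; rfl
      have hb : Function.Bijective (fun z : fixedBy' σ × B' => (z.1 : (R : Subgroup G)) * z.2) := by
        refine ⟨fun z z' h => ?_, fun y => ?_⟩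
        · simp only at h
          have h2 : (z'.1 : (R : Subgroup G))⁻¹ * z.1 = z'.2 * (z.2 : (R : Subgroup G))⁻¹ := by
            rw [eq_mul_inv_iff_mul_eq, mul_assoc, h, inv_mul_cancel_left]
          have h3 : (z'.1 : (R : Subgroup G))⁻¹ * z.1 ∈ fixedBy' σ ⊓ B' :=
            ⟨(fixedBy' σ).mul_mem ((fixedBy' σ).inv_mem z'.1.2) z.1.2,
              by rw [h2]; exact B'.mul_mem z'.2.2 (B'.inv_mem z.2.2)⟩
          rw [hinf', Subgroup.mem_bot] at h3
          have h4 := inv_mul_eq_one.1 h3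
          rw [h4, mul_left_cancel_iff] at h
          exact Prod.ext (Subtype.ext h4.symm) (Subtype.ext h)
        · refine ⟨(⟨(y * σ y) ^ 5, mem_fixedBy'.2 ?_⟩, ⟨(y * (σ y)⁻¹) ^ 5, hB'.2 ?_⟩), ?_⟩
          · rw [map_pow, map_mul, hσ2, mul_comm]
          · rw [map_pow, map_mul, map_inv, hσ2, ← inv_pow, mul_inv, inv_inv, mul_comm]
          · simp only
            rw [← mul_pow, mul_mul_mul_comm, mul_inv_cancel, mul_one, ← pow_two, ← pow_mul]
            have h10 : y ^ 9 = 1 := h9 ▸ pow_card_eq_one'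
            rw [show 2 * 5 = 9 + 1 by norm_num, pow_add, h10, one_mul, pow_one]
      have := Nat.card_congr (Equiv.ofBijective _ hb)
      rw [Nat.card_prod, hcF, h9] at this
      omega
    let A := (fixedBy' σ).map (R : Subgroup G).subtype
    let B := B'.map (R : Subgroup G).subtype
    have hA3 : Nat.card A = 3 :=
      (Nat.card_congr ((fixedBy' σ).equivMapOfInjective _
        (Subgroup.subtype_injective _)).toEquiv).symm.trans hcF
    have hB3 : Nat.card B = 3 :=
      (Nat.card_congr (B'.equivMapOfInjective _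
        (Subgroup.subtype_injective _)).toEquiv).symm.trans hcB
    have hpres : ∀ n : N, ∀ y, (σ y = y → σ (f n y) = f n y) ∧ (σ y = y⁻¹ → σ (f n y) = (f n y)⁻¹) := by
      intro n y
      have hc := congrArg Subtype.val (hcomm ⟨f n, n, rfl⟩ ⟨σ, hσ⟩)
      have hc' : σ (f n y) = f n (σ y) := by
        rw [← MulAut.mul_apply, ← MulAut.mul_apply]
        exact (DFunLike.congr_fun hc y).symm
      exact ⟨fun h => by rw [hc', h], fun h => by rw [hc', h, map_inv]⟩
    have hact : ∀ n ∈ N, (Fix n A ∨ Inv' n A) ∧ (Fix n B ∨ Inv' n B) := by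
      intro n hn
      refine ⟨fix_or_inv hA3 ?_, fix_or_inv hB3 ?_⟩
      · rintro a ⟨y, hy, rfl⟩
        exact ⟨f ⟨n, hn⟩ y, mem_fixedBy'.2 ((hpres ⟨n, hn⟩ y).1 (mem_fixedBy'.1 hy)),
          hfval ⟨n, hn⟩ y⟩
      · rintro a ⟨y, hy, rfl⟩
        exact ⟨f ⟨n, hn⟩ y, hB'.2 ((hpres ⟨n, hn⟩ y).2 (hB'.1 hy)), hfval ⟨n, hn⟩ y⟩
    obtain ⟨sn, hsn⟩ := hσ
    have hsA : Fix (sn : G) A := by
      rintro a ⟨y, hy, rfl⟩
      show (sn : G) * y * (sn : G)⁻¹ = y
      rw [← hfval sn y, hsn, mem_fixedBy'.1 hy]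
    have hsB : Inv' (sn : G) B := by
      rintro a ⟨y, hy, rfl⟩
      show (sn : G) * y * (sn : G)⁻¹ = (y : G)⁻¹
      rw [← hfval sn y, hsn, hB'.1 hy]
      rfl
    have hinf : A ⊓ B = ⊥ := by
      rw [← Subgroup.map_inf _ _ _ (Subgroup.subtype_injective _), hinf', Subgroup.map_bot]
    refine ⟨A, B, Subgroup.map_subtype_le _, Subgroup.map_subtype_le _, hA3, hB3, hinf,
      hact, ⟨sn, sn.2, hsA, hsB⟩, ?_⟩
    -- the second reflection
    obtain ⟨τ, hτ1, hτσ⟩ : ∃ τ : autR R, τ ≠ 1 ∧ (τ : MulAut (R : Subgroup G)) ≠ σ := by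
      by_contra hcon
      push Not at hcon
      have h4 : Fintype.card (autR R) ≤ 2 := by
        rw [← Finset.card_univ]
        refine (Finset.card_le_card (t := {1, ⟨σ, sn, hsn⟩}) fun t _ => ?_).trans Finset.card_le_two
        rcases em (t = 1) with h | h
        · simp [h]
        · exact Finset.mem_insert_of_mem (Finset.mem_singleton.2 (Subtype.ext (hcon t h)))
      rw [← Nat.card_eq_fintype_card, hk] at h4
      norm_num at h4
    obtain ⟨τ', tn, htn⟩ := τ
    have htx : Inv' (tn : G) A := (hact tn tn.2).1.resolve_left fun hfix => by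
      refine hτσ (stab_data h9 ⟨sn, hsn⟩ ⟨tn, htn⟩ hσ1 (fun e => hτ1 (Subtype.ext e)) hx hσx ?_).1
      refine Subtype.ext ?_
      rw [← htn, hfval]
      exact hfix x ⟨x, mem_fixedBy'.2 hσx, rfl⟩
    rcases (hact tn tn.2).2 with hB | hB
    · exact ⟨tn, tn.2, htx, hB⟩
    · refine ⟨(tn : G) * sn, mul_mem tn.2 sn.2, fun a ha => ?_, fun b hb => ?_⟩
      · rw [show (tn : G) * sn * a * ((tn : G) * sn)⁻¹ = tn * (sn * a * (sn : G)⁻¹) * (tn : G)⁻¹ by
          group, hsA a ha, htx a ha]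
      · rw [show (tn : G) * sn * b * ((tn : G) * sn)⁻¹ = tn * (sn * b * (sn : G)⁻¹) * (tn : G)⁻¹ by
          group, hsB b hb, hB _ (B.inv_mem hb), inv_inv]

end Aut

end Cfsg.Agent.NineCases7
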