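import Cfsg.Agent.Lib.NineWeights7
import Cfsg.Agent.Lib.GaloisChar80
import Cfsg.Agent.Lib.DihedralStar68
import Cfsg.Agent.Lib.BrauerTuan7Blocks
import Cfsg.Agent.Lib.ZStarCount
import Mathlib.GroupTheory.FiniteAbelian.Duality
import Mathlib.RingTheory.RootsOfUnity.AlgebraicallyClosed
import Mathlib.Analysis.Complex.Polynomial.Basic

/-!
# Two characters attached to a Sylow `3`-subgroup of order nine

For a simple group whose normalizer of a Sylow `3`-subgroup of order nine induces the inversion or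
a four group, lifting a rational function on the Sylow subgroup gives two rational irreducible
characters `χ`, `ψ` of degrees prime to `3` with `1 ± χ ± ψ` vanishing on `3`-regular elements.
-/

set_option autoImplicit false
set_option linter.unusedSectionVars false
set_option linter.style.haveILetI false

open scoped ComplexConjugate
open Finset

attribute [local instance] Classical.propDecidable

namespace Cfsg.Agent.NinePair7

open Cfsg Cfsg.Agent.CharBasic Cfsg.Agent.CharBasicOrth Cfsg.Agent.CharBasicDecomp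
open Cfsg.Agent.NineCases7 Cfsg.Agent.SylowLift7 Cfsg.Agent.NineWeights7

universe u

section Hom

variable {M N : Type*} [MulOneClass M] [CommGroup N]

theorem hom_inv_ne_one {ω : M →* N} (h : ω ≠ 1) : ω⁻¹ ≠ 1 := fun e =>
  h (MonoidHom.ext fun x => inv_eq_one.1 (DFunLike.congr_fun e x))

theorem hom_inv_inv (ω : M →* N) : ω⁻¹⁻¹ = ω := MonoidHom.ext fun x => inv_inv (ω x)

theorem hom_mul_eq_one_iff {ω π : M →* N} : ω * π = 1 ↔ ω = π⁻¹ :=
  ⟨fun h => MonoidHom.ext fun x => mul_eq_one_iff_eq_inv.1 (DFunLike.congr_fun h x),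
    fun h => MonoidHom.ext fun x => mul_eq_one_iff_eq_inv.2 (DFunLike.congr_fun h x)⟩

end Hom

variable {G : Type u} [Group G] [Fintype G]

/-- The degree of an irreducible character. -/
noncomputable def dg (χ : IrrCharacter G) : ℕ :=
  (CharBasicInt.exists_apply_one_dvd_card χ.2).choose

theorem dg_pos (χ : IrrCharacter G) : 0 < dg χ :=
  (CharBasicInt.exists_apply_one_dvd_card χ.2).choose_spec.1

theorem apply_one (χ : IrrCharacter G) : (χ : G → ℂ) 1 = (dg χ : ℂ) :=
  (CharBasicInt.exists_apply_one_dvd_card χ.2).choose_spec.2.1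

theorem dg_dvd (χ : IrrCharacter G) : dg χ ∣ Nat.card G :=
  (CharBasicInt.exists_apply_one_dvd_card χ.2).choose_spec.2.2

/-- The trivial character. -/
noncomputable def triv : IrrCharacter G := ⟨fun _ => 1, isIrrCharacter_one⟩

theorem dg_triv : dg (triv : IrrCharacter G) = 1 := by
  have h : (1 : ℂ) = (dg (triv : IrrCharacter G) : ℂ) := apply_one (triv : IrrCharacter G)
  exact_mod_cast h.symm

theorem two_le_dg [IsSimpleGroup G] (hG : ¬ IsMulCommutative G) {χ : IrrCharacter G}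
    (h : χ ≠ triv) : 2 ≤ dg χ := by
  by_contra hc
  have h0 := dg_pos χ
  refine h (Subtype.ext (DihedralStar68.linear_eq_one hG χ ?_))
  rw [apply_one, show dg χ = 1 by omega, Nat.cast_one]

theorem one_add_ne [IsSimpleGroup G] (hG : ¬ IsMulCommutative G) {χ : IrrCharacter G}
    (h : χ ≠ triv) {c : ℤ} (hc : c = 1 ∨ c = -1) : 1 + c * (dg χ : ℤ) ≠ 0 := by
  have := two_le_dg hG h
  rcases hc with rfl | rfl <;> omega

/-- Coefficient functions of shape `1 ± χ ± ψ` of degree zero. -/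
structure Shape (c : IrrCharacter G → ℤ) (a b : IrrCharacter G) : Prop where
  triv_eq : c triv = 1
  ne : a ≠ b
  ne_a : a ≠ triv
  ne_b : b ≠ triv
  unit_a : c a = 1 ∨ c a = -1
  unit_b : c b = 1 ∨ c b = -1
  other : ∀ χ, χ ≠ triv → χ ≠ a → χ ≠ b → c χ = 0
  deg : 1 + c a * (dg a : ℤ) + c b * (dg b : ℤ) = 0

theorem Shape.swap {c : IrrCharacter G → ℤ} {a b : IrrCharacter G} (h : Shape c a b) :
    Shape c b a :=
  ⟨h.triv_eq, h.ne.symm, h.ne_b, h.ne_a, h.unit_b, h.unit_a,
    fun χ h1 h2 h3 => h.other χ h1 h3 h2, by linarith [h.deg]⟩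

theorem Shape.sum_eq {c : IrrCharacter G → ℤ} {a b : IrrCharacter G} (h : Shape c a b)
    {M : Type*} [AddCommMonoid M] (f : IrrCharacter G → M) (hf : ∀ χ, c χ = 0 → f χ = 0) :
    ∑ χ, f χ = f triv + f a + f b := by
  rw [← Finset.sum_subset (s₁ := ({triv, a, b} : Finset (IrrCharacter G))) (Finset.subset_univ _)
    fun χ _ hχ => ?_]
  · rw [Finset.sum_insert (by simp [h.ne_a.symm, h.ne_b.symm]), Finset.sum_pair h.ne, add_assoc]
  · simp only [Finset.mem_insert, Finset.mem_singleton, not_or] at hχ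
    exact hf χ (h.other χ hχ.1 hχ.2.1 hχ.2.2)

theorem Shape.mem {c : IrrCharacter G → ℤ} {a b χ : IrrCharacter G} (h : Shape c a b)
    (hχ : χ ≠ triv) (hc : c χ ≠ 0) : χ = a ∨ χ = b := by
  by_contra hcon
  push Not at hcon
  exact hc (h.other χ hχ hcon.1 hcon.2)

/-- A virtual character of norm three and degree zero containing the trivial character once. -/
theorem exists_shape [IsSimpleGroup G] (_hG : ¬ IsMulCommutative G) {θ : G → ℂ}
    (hθ : IsGeneralizedCharacter G θ) (h1 : classInner θ (fun _ => 1) = 1)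
    (h3 : classInner θ θ = 3) (h0 : θ 1 = 0) :
    ∃ (c : IrrCharacter G → ℤ) (a b : IrrCharacter G), Shape c a b ∧
      (∀ χ : IrrCharacter G, classInner θ (χ : G → ℂ) = c χ) ∧
      θ = ∑ χ : IrrCharacter G, (c χ : ℂ) • (χ : G → ℂ) := by
  obtain ⟨c, hc, hsum⟩ := exists_int_coeff hθ
  have hct : c triv = 1 := by
    have := hc triv
    rw [show ((triv : IrrCharacter G) : G → ℂ) = fun _ => (1 : ℂ) from rfl, h1] at this
    exact_mod_cast this.symm
  have hnorm : ∑ χ, c χ * c χ = 3 := by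
    have hh : classInner θ θ = ∑ χ : IrrCharacter G, ((c χ : ℂ) * (c χ : ℂ)) := by
      conv_lhs => arg 2; rw [hsum]
      rw [CharInduced.inner_sum_right]
      refine Finset.sum_congr rfl fun χ _ => ?_
      rw [CharInduced.inner_smul_right, hc χ]
      simp
    rw [h3] at hh
    exact_mod_cast hh.symm
  rw [← Finset.add_sum_erase _ _ (Finset.mem_univ triv), hct] at hnorm
  set S := (Finset.univ.erase (triv : IrrCharacter G)).filter fun χ => c χ ≠ 0 with hS
  have hunit : ∀ χ ∈ S, c χ = 1 ∨ c χ = -1 := by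
    intro χ hχ
    obtain ⟨hm, -⟩ := Finset.mem_filter.1 hχ
    have h := Finset.single_le_sum (f := fun χ => c χ * c χ) (fun χ _ => mul_self_nonneg _) hm
    have h2 : c χ * c χ ≤ 2 := by linarith [h, hnorm]
    have : -1 ≤ c χ ∧ c χ ≤ 1 := ⟨by nlinarith, by nlinarith⟩
    have hne := (Finset.mem_filter.1 hχ).2
    omega
  have hcard : S.card = 2 := by
    have h : ∑ χ ∈ (Finset.univ.erase (triv : IrrCharacter G)), c χ * c χ = (S.card : ℤ) := by
      rw [← Finset.sum_filter_of_ne (p := fun χ => c χ ≠ 0) (fun χ _ hh h0 => hh (by simp [h0])),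
        ← hS, Finset.sum_congr rfl (g := fun _ => (1 : ℤ)) (fun χ hχ => by
          rcases hunit χ hχ with e | e <;> simp [e])]
      simp
    rw [h] at hnorm
    omega
  obtain ⟨a, b, hab, hSab⟩ := Finset.card_eq_two.1 hcard
  have hmem : ∀ χ, χ ∈ S ↔ χ = a ∨ χ = b := fun χ => by simp [hSab]
  have hne : ∀ χ, χ ∈ S → χ ≠ triv := fun χ hχ =>
    Finset.ne_of_mem_erase (Finset.mem_filter.1 hχ).1
  have hsh : ∀ χ, χ ≠ triv → χ ≠ a → χ ≠ b → c χ = 0 := by
    intro χ h2 h3 h4
    by_contra h5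
    exact ((hmem χ).1 (Finset.mem_filter.2 ⟨Finset.mem_erase.2 ⟨h2, Finset.mem_univ _⟩, h5⟩)).elim h3 h4
  refine ⟨c, a, b, ⟨hct, hab, hne a ((hmem a).2 (Or.inl rfl)), hne b ((hmem b).2 (Or.inr rfl)),
    hunit a ((hmem a).2 (Or.inl rfl)), hunit b ((hmem b).2 (Or.inr rfl)), hsh, ?_⟩, hc, hsum⟩
  have h := congrFun hsum 1
  rw [h0, Finset.sum_apply] at h
  rw [← Finset.sum_subset (s₁ := ({triv, a, b} : Finset (IrrCharacter G))) (Finset.subset_univ _)
    fun χ _ hχ => ?_] at h
  · rw [Finset.sum_insert (by simp [(hne a ((hmem a).2 (Or.inl rfl))).symm,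
      (hne b ((hmem b).2 (Or.inr rfl))).symm]), Finset.sum_pair hab] at h
    simp only [Pi.smul_apply, smul_eq_mul, apply_one, hct, dg_triv] at h
    have h' : ((1 + (c a * (dg a : ℤ) + c b * (dg b : ℤ)) : ℤ) : ℂ) = 0 := by
      push_cast
      push_cast at h
      linear_combination -h
    rw [add_assoc]
    exact_mod_cast h'
  · simp only [Finset.mem_insert, Finset.mem_singleton, not_or] at hχ
    simp [hsh χ hχ.1 hχ.2.1 hχ.2.2]

/-- The two characters are rational valued if the virtual character is. -/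
theorem Shape.invariant {c : IrrCharacter G → ℤ} {a b : IrrCharacter G} (h : Shape c a b)
    {θ : G → ℂ} (hc : ∀ χ : IrrCharacter G, classInner θ (χ : G → ℂ) = c χ) {k : ℕ}
    (hk : k.Coprime (Nat.card G)) (hθ : ∀ g, θ (g ^ k) = θ g) :
    (∀ g, (a : G → ℂ) (g ^ k) = (a : G → ℂ) g) ∧ ∀ g, (b : G → ℂ) (g ^ k) = (b : G → ℂ) g := by
  have key : ∀ {x y : IrrCharacter G}, Shape c x y → ∀ g, (x : G → ℂ) (g ^ k) = (x : G → ℂ) g := by
    intro x y h g
    have htw : c (GaloisChar80.twist hk x) = c x := by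
      have h1 : classInner θ ((GaloisChar80.twist hk x : IrrCharacter G) : G → ℂ) =
          classInner θ (x : G → ℂ) := by
        simp only [classInner, GaloisChar80.twist_apply]
        congr 1
        rw [← Equiv.sum_comp (GaloisChar80.powPerm hk) fun g => θ g * conj ((x : G → ℂ) g)]
        refine Finset.sum_congr rfl fun g _ => ?_
        rw [GaloisChar80.powPerm_apply, hθ]
      rw [hc, hc] at h1
      exact_mod_cast h1
    have hne : GaloisChar80.twist hk x ≠ triv := fun e =>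
      h.ne_a (GaloisChar80.twist_injective hk (e.trans (Subtype.ext (funext fun _ => rfl))))
    rcases h.mem hne (by rw [htw]; rcases h.unit_a with e | e <;> rw [e] <;> decide) with e | e
    · exact congrFun (congrArg Subtype.val e) g
    · exfalso
      have hd : (dg y : ℤ) = dg x := by
        have h1 := congrFun (congrArg Subtype.val e) 1
        rw [GaloisChar80.twist_apply, one_pow, apply_one, apply_one] at h1
        exact_mod_cast h1.symm
      have hcy : c y = c x := e ▸ htw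
      have hdeg := h.deg
      rw [hd, hcy] at hdeg
      rcases h.unit_a with u | u <;> rw [u] at hdeg <;> omega
  exact ⟨key h, key h.swap⟩

variable [Fact (Nat.Prime 3)] {R : Sylow 3 G}

theorem index_not_dvd : ¬ 3 ∣ (R : Subgroup G).index := R.not_dvd_index

theorem real_of_invariant {χ : IrrCharacter G}
    (h : ∀ k : ℕ, k.Coprime (Nat.card G) → ∀ g, (χ : G → ℂ) (g ^ k) = (χ : G → ℂ) g) (g : G) :
    conj ((χ : G → ℂ) g) = (χ : G → ℂ) g := by
  have hpos : 0 < Nat.card G := Nat.card_pos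
  rw [← isCharacter_inv (isCharacter_of_isIrrCharacter χ.2)]
  have hinv : g⁻¹ = g ^ (Nat.card G - 1) := by
    refine inv_eq_of_mul_eq_one_right ?_
    rw [← pow_succ', Nat.sub_add_cancel hpos, pow_card_eq_one']
  rw [hinv]
  refine h _ ?_ g
  rw [Nat.coprime_comm, Nat.coprime_self_sub_right (by omega)]
  exact Nat.coprime_one_right _

/-! ### Functions on `R` -/

theorem sum_hom [Fintype (R : Subgroup G)] (h9 : Nat.card (R : Subgroup G) = 9)
    (ω : ↥(R : Subgroup G) →* ℂˣ) :
    ∑ x : (R : Subgroup G), (ω x : ℂ) = if ω = 1 then 9 else 0 := by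
  split_ifs with h
  · subst h
    simp [← Nat.card_eq_fintype_card, h9]
  · exact sum_hom_units_eq_zero ((Units.coeHom ℂ).comp ω) fun e => h (MonoidHom.ext fun x =>
      Units.ext (by simpa using DFunLike.congr_fun e x))

/-- The function `2 - ω - ω⁻¹`. -/
noncomputable def fw (ω : ↥(R : Subgroup G) →* ℂˣ) (x : (R : Subgroup G)) : ℂ :=
  2 - ((ω x : ℂ) + ((ω x)⁻¹ : ℂˣ))

theorem fw_one (ω : ↥(R : Subgroup G) →* ℂˣ) : fw ω 1 = 0 := by
  rw [fw, map_one, inv_one, Units.val_one]; norm_num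

theorem isGeneralizedCharacter_fw (ω : ↥(R : Subgroup G) →* ℂˣ) :
    IsGeneralizedCharacter (R : Subgroup G) (fw ω) := by
  have h2 := isGeneralizedCharacter_zsmul
    (isGeneralizedCharacter_of_isCharacter (isCharacter_one (G := ↥(R : Subgroup G)))) 2
  have h := isGeneralizedCharacter_sub h2 (isGeneralizedCharacter_add
    (isGeneralizedCharacter_of_isCharacter (isCharacter_linear ω))
    (isGeneralizedCharacter_of_isCharacter
      (isCharacter_linear (ω⁻¹ : ↥(R : Subgroup G) →* ℂˣ))))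
  convert h using 1
  funext x
  simp [fw]

theorem fw_inv (ω : ↥(R : Subgroup G) →* ℂˣ) (x : (R : Subgroup G)) : fw ω x⁻¹ = fw ω x := by
  rw [fw, fw, map_inv, inv_inv, add_comm]

theorem conj_fw (ω : ↥(R : Subgroup G) →* ℂˣ) (x : (R : Subgroup G)) :
    conj (fw ω x) = fw ω x := by
  have h : conj (ω x : ℂ) = (((ω x)⁻¹ : ℂˣ) : ℂ) := by
    rw [Units.val_inv_eq_inv_val, Complex.inv_eq_conj (norm_linear ω x)]
  have h' : conj (((ω x)⁻¹ : ℂˣ) : ℂ) = (ω x : ℂ) := by rw [← h, Complex.conj_conj]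
  rw [fw, map_sub, map_add, h, h', map_ofNat, add_comm]

/-! ### The inversion -/

section Inversion

variable [Fintype (R : Subgroup G)] (h9 : Nat.card (R : Subgroup G) = 9)
  (hI : Inversion (R : Subgroup G))

include h9 hI

theorem stable_fw (ω : ↥(R : Subgroup G) →* ℂˣ) : Stable R (fw ω) := by
  intro x y h
  rcases (inversion_isConj_iff h9 hI x y).1 h with rfl | rfl
  · rfl
  · rw [fw_inv]

theorem inner_inv {φ φ' : ↥(R : Subgroup G) → ℂ} (hφ : Stable R φ) (hφ' : Stable R φ')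
    (h1 : φ 1 = 0) :
    classInner (lift R φ) (lift R φ') = (1 / 18) * ∑ x, φ x * conj (φ' x) := by
  rw [classInner_lift R hφ hφ', Finset.mul_sum]
  refine Finset.sum_congr rfl fun x _ => ?_
  rcases eq_or_ne x 1 with rfl | hx
  · rw [h1]; ring
  · rw [weight_inversion h9 hI hx]; ring

theorem stable_one : Stable R fun _ => (1 : ℂ) := fun _ _ _ => rfl

theorem lift_one : lift R (fun _ => (1 : ℂ)) = fun _ : G => (1 : ℂ) := by
  funext g
  obtain ⟨y, hy⟩ := exists_isConj_mem R (orderOf_pp R g)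
  exact lift_apply (stable_one h9 hI) y hy

theorem inner_fw_one {ω : ↥(R : Subgroup G) →* ℂˣ} (hω : ω ≠ 1) :
    classInner (lift R (fw ω)) (fun _ => 1) = 1 := by
  rw [← lift_one h9 hI, inner_inv h9 hI (stable_fw h9 hI ω) (stable_one h9 hI) (fw_one ω)]
  simp only [map_one, mul_one, fw]
  rw [Finset.sum_sub_distrib, Finset.sum_add_distrib, sum_hom h9 ω, if_neg hω]
  have h := sum_hom h9 ω⁻¹
  rw [if_neg (hom_inv_ne_one hω)] at h
  simp only [MonoidHom.inv_apply] at h
  rw [h, Finset.sum_const, Finset.card_univ, ← Nat.card_eq_fintype_card, h9]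
  norm_num

theorem inner_fw {ω π : ↥(R : Subgroup G) →* ℂˣ} (hω : ω ≠ 1) (hπ : π ≠ 1) :
    classInner (lift R (fw ω)) (lift R (fw π)) =
      2 + (if ω = π then 1 else 0) + (if ω = π⁻¹ then 1 else 0) := by
  rw [inner_inv h9 hI (stable_fw h9 hI ω) (stable_fw h9 hI π) (fw_one ω)]
  simp only [conj_fw]
  have hexp : ∀ x, fw ω x * fw π x = 4 - 2 * (ω x : ℂ) - 2 * ((ω⁻¹) x : ℂˣ)
      - 2 * (π x : ℂ) - 2 * ((π⁻¹) x : ℂˣ) + ((ω * π) x : ℂˣ) + ((ω * π⁻¹) x : ℂˣ)
      + ((ω⁻¹ * π) x : ℂˣ) + ((ω⁻¹ * π⁻¹) x : ℂˣ) := by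
    intro x
    simp only [fw, MonoidHom.inv_apply, MonoidHom.mul_apply, Units.val_mul]
    ring
  simp only [hexp, Finset.sum_add_distrib, Finset.sum_sub_distrib, ← Finset.mul_sum, sum_hom h9,
    if_neg hω, if_neg hπ, if_neg (hom_inv_ne_one hω), if_neg (hom_inv_ne_one hπ), Finset.sum_const,
    Finset.card_univ]
  rw [← Nat.card_eq_fintype_card, h9]
  have e1 : (ω * π = 1) ↔ ω = π⁻¹ := hom_mul_eq_one_iff
  have e2 : (ω * π⁻¹ = 1) ↔ ω = π := by rw [hom_mul_eq_one_iff, hom_inv_inv]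
  have e3 : (ω⁻¹ * π = 1) ↔ ω = π := by
    rw [hom_mul_eq_one_iff]
    exact ⟨fun e => by rw [← hom_inv_inv ω, e, hom_inv_inv], fun e => by rw [e]⟩
  have e4 : (ω⁻¹ * π⁻¹ = 1) ↔ ω = π⁻¹ := by
    rw [hom_mul_eq_one_iff, hom_inv_inv]
    exact ⟨fun e => by rw [← e, hom_inv_inv], fun e => by rw [e, hom_inv_inv]⟩
  simp only [e1, e2, e3, e4]
  split_ifs <;> norm_num

theorem three_regular (hG : ¬ IsMulCommutative G) [IsSimpleGroup G] :
    ∃ (c : IrrCharacter G → ℤ) (a b : IrrCharacter G) (θ : G → ℂ), Shape c a b ∧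
      (∀ χ : IrrCharacter G, classInner θ (χ : G → ℂ) = c χ) ∧
      θ = ∑ χ : IrrCharacter G, (c χ : ℂ) • (χ : G → ℂ) ∧
      (∀ k : ℕ, k.Coprime (Nat.card G) → ∀ g, θ (g ^ k) = θ g) ∧
      (∀ g, pp R g = 1 → θ g = 0) ∧ ¬ 3 ∣ dg a ∧ ¬ 3 ∣ dg b := by
  haveI : IsMulCommutative (R : Subgroup G) := ⟨⟨fun a b => Subtype.ext (comm' h9 a b)⟩⟩
  letI : CommGroup (R : Subgroup G) :=
    { (inferInstance : Group (R : Subgroup G)) with
      mul_comm := fun a b => Subtype.ext (comm' h9 a b) }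
  haveI : NeZero (Monoid.exponent ↥(R : Subgroup G)) := ⟨Monoid.exponent_ne_zero_of_finite⟩
  have hcard : Nat.card (↥(R : Subgroup G) →* ℂˣ) = 9 :=
    (CommGroup.card_monoidHom_of_hasEnoughRootsOfUnity ↥(R : Subgroup G) ℂ).trans h9
  haveI : Finite (↥(R : Subgroup G) →* ℂˣ) := Nat.finite_of_card_ne_zero (by omega)
  haveI : Fintype (↥(R : Subgroup G) →* ℂˣ) := Fintype.ofFinite _
  set Ω := (Finset.univ.erase (1 : ↥(R : Subgroup G) →* ℂˣ)) with hΩ
  have hΩ8 : Ω.card = 8 := by
    rw [hΩ, Finset.card_erase_of_mem (Finset.mem_univ _), Finset.card_univ,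
      ← Nat.card_eq_fintype_card, hcard]
  have hΩne : ∀ ω ∈ Ω, ω ≠ 1 := fun ω hω => Finset.ne_of_mem_erase hω
  -- the shapes
  have hex : ∀ ω : ↥(R : Subgroup G) →* ℂˣ, ∃ (c : IrrCharacter G → ℤ) (a b : IrrCharacter G),
      ω ≠ 1 → (Shape c a b ∧ (∀ χ : IrrCharacter G, classInner (lift R (fw ω)) (χ : G → ℂ) = c χ) ∧
        lift R (fw ω) = ∑ χ : IrrCharacter G, (c χ : ℂ) • (χ : G → ℂ)) := by
    intro ω
    by_cases hω : ω = 1
    · exact ⟨0, triv, triv, fun h => absurd hω h⟩
    obtain ⟨c, a, b, h⟩ := exists_shape hG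
      (isGeneralizedCharacter_lift (stable_fw h9 hI ω) (isGeneralizedCharacter_fw ω))
      (inner_fw_one h9 hI hω)
      (by rw [inner_fw h9 hI hω hω, if_pos rfl, if_neg fun e => ?_]
          · norm_num
          · have h2 : ω * ω = 1 := hom_mul_eq_one_iff.2 e
            have h3 : orderOf ω ∣ 2 := orderOf_dvd_of_pow_eq_one (by rw [pow_two, h2])
            have h4 : orderOf ω ∣ 9 := hcard ▸ orderOf_dvd_natCard ω
            exact hω (orderOf_eq_one_iff.1 (Nat.eq_one_of_dvd_coprimes (by norm_num) h3 h4)))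
      (by rw [show (1 : G) = ((1 : (R : Subgroup G)) : G) from rfl,
            lift_coe (stable_fw h9 hI ω), fw_one])
    exact ⟨c, a, b, fun _ => h⟩
  choose c fa fb hfab using hex
  -- inner products
  have hinner : ∀ ω π, ω ≠ 1 → π ≠ 1 → ω ≠ π → ω ≠ π⁻¹ →
      ∑ χ ∈ Finset.univ.erase (triv : IrrCharacter G), c ω χ * c π χ = 1 := by
    intro ω π hω hπ h1 h2
    have h := inner_fw h9 hI hω hπ
    rw [if_neg h1, if_neg h2] at h
    conv_lhs at h => arg 2; rw [(hfab π hπ).2.2]
    rw [CharInduced.inner_sum_right] at h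
    simp only [CharInduced.inner_smul_right, (hfab ω hω).2.1, map_intCast] at h
    rw [← Finset.add_sum_erase _ _ (Finset.mem_univ triv), (hfab ω hω).1.triv_eq,
      (hfab π hπ).1.triv_eq] at h
    have h' : (((1 : ℤ) * 1 + ∑ χ ∈ Finset.univ.erase (triv : IrrCharacter G), c π χ * c ω χ : ℤ) : ℂ) =
        ((2 : ℤ) : ℂ) := by push_cast; linear_combination h
    have h'' := Int.cast_injective h'
    rw [Finset.sum_congr rfl fun χ _ => mul_comm (c π χ) (c ω χ)] at h''
    linarith
  have common : ∀ ω π, ω ≠ 1 → π ≠ 1 → ω ≠ π → ω ≠ π⁻¹ →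
      ∃ x, x ≠ triv ∧ c ω x ≠ 0 ∧ c π x = c ω x ∧ ∀ y, y ≠ triv → y ≠ x → c ω y = 0 ∨ c π y = 0 := by
    intro ω π hω hπ h1 h2
    have h := hinner ω π hω hπ h1 h2
    have hs := (hfab ω hω).1
    rw [← Finset.sum_subset (s₁ := ({fa ω, fb ω} : Finset (IrrCharacter G))) (fun y hy => by
      simp only [Finset.mem_insert, Finset.mem_singleton] at hy
      rcases hy with rfl | rfl <;> simp [hs.ne_a, hs.ne_b]) (fun y hy hy' => by
      simp only [Finset.mem_insert, Finset.mem_singleton, not_or] at hy'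
      rw [hs.other y (Finset.ne_of_mem_erase hy) hy'.1 hy'.2, zero_mul]), Finset.sum_pair hs.ne] at h
    have bound : ∀ y, y ≠ triv → c π y = 0 ∨ c π y = 1 ∨ c π y = -1 := by
      intro y hy
      by_cases h0 : c π y = 0
      · exact Or.inl h0
      rcases (hfab π hπ).1.mem hy h0 with rfl | rfl
      · exact Or.inr (hfab π hπ).1.unit_a
      · exact Or.inr (hfab π hπ).1.unit_b
    have hoth : ∀ y, y ≠ triv → y ≠ fa ω → y ≠ fb ω → c ω y = 0 := hs.other
    rcases bound _ hs.ne_a with pa | pa | pa <;> rcases bound _ hs.ne_b with pb | pb | pb <;>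
      rcases hs.unit_a with ua | ua <;> rcases hs.unit_b with ub | ub <;>
      rw [ua, ub, pa, pb] at h <;> norm_num at h <;>
      first
      | (refine ⟨fa ω, hs.ne_a, by rw [ua]; decide, by rw [ua, pa], fun y hy hya => ?_⟩
         by_cases hyb : y = fb ω
         · exact Or.inr (hyb ▸ pb)
         · exact Or.inl (hoth y hy hya hyb))
      | (refine ⟨fb ω, hs.ne_b, by rw [ub]; decide, by rw [ub, pb], fun y hy hyb => ?_⟩
         by_cases hya : y = fa ω
         · exact Or.inr (hya ▸ pa)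
         · exact Or.inl (hoth y hy hya hyb))
  -- an element of order three
  obtain ⟨ω, hω3⟩ := exists_prime_orderOf_dvd_card' (G := ↥(R : Subgroup G) →* ℂˣ) 3
    (by rw [hcard]; norm_num)
  have hω1 : ω ≠ 1 := fun e => by rw [e, orderOf_one] at hω3; norm_num at hω3
  have hsω := (hfab ω hω1).1
  have hωω : ω ≠ ω⁻¹ := fun e => by
    have h2 : orderOf ω ∣ 2 := orderOf_dvd_of_pow_eq_one
      (by rw [pow_two, hom_mul_eq_one_iff.2 e])
    rw [hω3] at h2
    norm_num at h2
  set O := Ω.filter fun π => π ≠ ω ∧ π ≠ ω⁻¹ with hO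
  have hOmem : ∀ π ∈ O, π ≠ 1 ∧ ω ≠ π ∧ ω ≠ π⁻¹ := fun π hπ => by
    obtain ⟨h1, h2, h3⟩ := Finset.mem_filter.1 hπ
    exact ⟨hΩne π h1, Ne.symm h2, fun e => h3 (by rw [e, hom_inv_inv])⟩
  have key : ∀ π π' x x', π ∈ O → π' ∈ O → x ≠ triv → c ω x ≠ 0 → c π x = c ω x →
      (∀ y, y ≠ triv → y ≠ x → c ω y = 0 ∨ c π y = 0) →
      x' ≠ triv → c ω x' ≠ 0 → c π' x' = c ω x' →
      (∀ y, y ≠ triv → y ≠ x' → c ω y = 0 ∨ c π' y = 0) → x = x' := by
    intro π π' x x' hπ hπ' hxt hx hxπ hxu hx't hx' hx'π hx'u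
    by_contra hne
    obtain ⟨hp1, -, -⟩ := hOmem π hπ
    obtain ⟨hp1', -, -⟩ := hOmem π' hπ'
    have hπ0 : c π x' = 0 := (hxu x' hx't (Ne.symm hne)).resolve_left hx'
    have hπ'0 : c π' x = 0 := (hx'u x hxt hne).resolve_left hx
    by_cases he : c π = c π'
    · exact hx (by rw [← hxπ, he, hπ'0])
    have hneq : π ≠ π' := fun e => he (by rw [e])
    have hneq' : π ≠ π'⁻¹ := by
      intro e
      apply he
      funext χ
      have h1 := (hfab π hp1).2.1 χ
      have h2 := (hfab π' hp1').2.1 χ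
      rw [show fw π = fw π' from funext fun z => by
        rw [fw, fw, e, MonoidHom.inv_apply, inv_inv, add_comm]] at h1
      exact_mod_cast h1.symm.trans h2
    obtain ⟨y, hyt, hy, hyπ, -⟩ := common π π' hp1 hp1' hneq hneq'
    have hy' : c π' y ≠ 0 := by rw [hyπ]; exact hy
    have hyx : y ≠ x := fun e => hy' (e ▸ hπ'0)
    have hyx' : y ≠ x' := fun e => hy (e ▸ hπ0)
    -- the degrees
    have hkey : ∀ (σ : ↥(R : Subgroup G) →* ℂˣ) (z z' : IrrCharacter G), σ ≠ 1 → z ≠ triv →
        z' ≠ triv → z ≠ z' → c σ z ≠ 0 → c σ z' ≠ 0 →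
        1 + c σ z * (dg z : ℤ) + c σ z' * (dg z' : ℤ) = 0 := by
      intro σ z z' hσ hz hz' hzz h1 h2
      have hs := (hfab σ hσ).1
      rcases hs.mem hz h1 with rfl | rfl <;> rcases hs.mem hz' h2 with rfl | rfl
      · exact absurd rfl hzz
      · exact hs.deg
      · exact hs.swap.deg
      · exact absurd rfl hzz
    have e0 := hkey ω x x' hω1 hxt hx't hne hx hx'
    have e1 := hkey π x y hp1 hxt hyt hyx.symm (by rw [hxπ]; exact hx) hy
    have e2 := hkey π' x' y hp1' hx't hyt hyx'.symm (by rw [hx'π]; exact hx') hy'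
    rw [hxπ] at e1
    rw [hx'π, hyπ] at e2
    omega
  obtain ⟨π₀, hπ₀⟩ : O.Nonempty := by
    by_contra h
    rw [Finset.not_nonempty_iff_eq_empty] at h
    have hsub : Ω ⊆ {ω, ω⁻¹} := by
      intro π hπ
      by_contra hc
      simp only [Finset.mem_insert, Finset.mem_singleton, not_or] at hc
      have : π ∈ O := Finset.mem_filter.2 ⟨hπ, hc⟩
      simp [h] at this
    have := (Finset.card_le_card hsub).trans Finset.card_le_two
    omega
  obtain ⟨hp₀, h0ne, h0ne'⟩ := hOmem π₀ hπ₀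
  obtain ⟨x, hxt, hx, hxπ, hxu⟩ := common ω π₀ hω1 hp₀ h0ne h0ne'
  obtain ⟨x', hx't, hx', hxx', hsh⟩ : ∃ x', x' ≠ triv ∧ c ω x' ≠ 0 ∧ x ≠ x' ∧ Shape (c ω) x x' := by
    rcases hsω.mem hxt hx with rfl | rfl
    · exact ⟨fb ω, hsω.ne_b, by rcases hsω.unit_b with e | e <;> rw [e] <;> decide, hsω.ne, hsω⟩
    · exact ⟨fa ω, hsω.ne_a, by rcases hsω.unit_a with e | e <;> rw [e] <;> decide, hsω.ne.symm,
        hsω.swap⟩
  have hall : ∀ π ∈ O, c π x = c ω x ∧ c π x' = 0 := by
    intro π hπ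
    obtain ⟨hp, hn, hn'⟩ := hOmem π hπ
    obtain ⟨z, hzt, hz, hzπ, hzu⟩ := common ω π hω1 hp hn hn'
    obtain rfl := key π₀ π x z hπ₀ hπ hxt hx hxπ hxu hzt hz hzπ hzu
    exact ⟨hzπ, (hzu x' hx't hxx'.symm).resolve_left hx'⟩
  have hinvc : c ω⁻¹ = c ω := by
    funext χ
    have h1 := (hfab ω hω1).2.1 χ
    have h2 := (hfab ω⁻¹ (hom_inv_ne_one hω1)).2.1 χ
    rw [show fw ω⁻¹ = fw ω from funext fun z => by
      rw [fw, fw, MonoidHom.inv_apply, inv_inv, add_comm]] at h2
    exact_mod_cast h2.symm.trans h1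
  have hsplit : ∀ χ, ∑ π ∈ Ω, c π χ = 2 * c ω χ + ∑ π ∈ O, c π χ := by
    intro χ
    rw [← Finset.sum_filter_add_sum_filter_not Ω (fun π => π ≠ ω ∧ π ≠ ω⁻¹), ← hO, add_comm]
    congr 1
    rw [show Ω.filter (fun π => ¬ (π ≠ ω ∧ π ≠ ω⁻¹)) = {ω, ω⁻¹} from ?_, Finset.sum_pair hωω,
      hinvc]
    · ring
    · ext π
      simp only [Finset.mem_filter, Finset.mem_insert, Finset.mem_singleton, hΩ, Finset.mem_erase,
        Finset.mem_univ, and_true]
      constructor
      · rintro ⟨-, h⟩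
        by_contra hc
        push Not at hc
        exact h hc
      · rintro (rfl | rfl)
        · exact ⟨hω1, fun h => h.1 rfl⟩
        · exact ⟨hom_inv_ne_one hω1, fun h => h.2 rfl⟩
  have hO6 : O.card = 6 := by
    have h := Finset.card_filter_add_card_filter_not (s := Ω) fun π => π ≠ ω ∧ π ≠ ω⁻¹
    rw [← hO, hΩ8, show Ω.filter (fun π => ¬ (π ≠ ω ∧ π ≠ ω⁻¹)) = {ω, ω⁻¹} from ?_,
      Finset.card_pair hωω] at h
    · omega
    · ext π
      simp only [Finset.mem_filter, Finset.mem_insert, Finset.mem_singleton, hΩ, Finset.mem_erase,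
        Finset.mem_univ, and_true]
      constructor
      · rintro ⟨-, h⟩
        by_contra hc
        push Not at hc
        exact h hc
      · rintro (rfl | rfl)
        · exact ⟨hω1, fun h => h.1 rfl⟩
        · exact ⟨hom_inv_ne_one hω1, fun h => h.2 rfl⟩
  -- the regular sum
  have hΩsum : ∀ y : (R : Subgroup G), ∑ π ∈ Ω, fw π y = if y = 1 then 0 else 18 := by
    intro y
    split_ifs with hy
    · subst hy; simp [fw_one]
    · obtain ⟨φ, hφ⟩ := CommGroup.exists_apply_ne_one_of_hasEnoughRootsOfUnity ↥(R : Subgroup G) ℂ hy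
      have hfull : ∑ π : ↥(R : Subgroup G) →* ℂˣ, (π y : ℂ) = 0 := by
        set T := ∑ π : ↥(R : Subgroup G) →* ℂˣ, (π y : ℂ) with hT
        have : (φ y : ℂ) * T = T := by
          rw [hT, Finset.mul_sum]
          exact Fintype.sum_equiv (Equiv.mulLeft φ) _ _ fun π => by simp
        have hne : (φ y : ℂ) ≠ 1 := fun e => hφ (Units.ext (by simpa using e))
        have : ((φ y : ℂ) - 1) * T = 0 := by rw [sub_mul, this, one_mul, sub_self]
        exact (mul_eq_zero.1 this).resolve_left (sub_ne_zero.2 hne)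
      have hfull' : ∑ π : ↥(R : Subgroup G) →* ℂˣ, (((π y)⁻¹ : ℂˣ) : ℂ) = 0 := by
        rw [← hfull]
        exact Fintype.sum_equiv (Equiv.inv _) _ _ fun π => by simp
      rw [hΩ, Finset.sum_erase _ (by simp [fw]; norm_num)]
      simp only [fw]
      rw [Finset.sum_sub_distrib, Finset.sum_add_distrib, hfull, hfull', Finset.sum_const,
        Finset.card_univ, ← Nat.card_eq_fintype_card, hcard]
      norm_num
  have hreg : ∀ χ : IrrCharacter G, χ ≠ triv → (∀ g, conj ((χ : G → ℂ) g) = (χ : G → ℂ) g) →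
      (Nat.card G : ℂ) * (∑ π ∈ Ω, (c π χ : ℂ)) =
        -18 * ∑ g : G, (if pp R g = 1 then (1 : ℂ) else 0) * (χ : G → ℂ) g := by
    intro χ hχ hreal
    have hsum0 : ∑ g : G, (χ : G → ℂ) g = 0 := by
      have h := card_mul_classInner (χ : G → ℂ) ((triv : IrrCharacter G) : G → ℂ)
      rw [classInner_irr_ne χ.2 (triv : IrrCharacter G).2 fun e => hχ (Subtype.ext e), mul_zero] at h
      simpa [triv] using h.symm
    have hl : ∀ g : G, ∑ π ∈ Ω, lift R (fw π) g = if pp R g = 1 then 0 else 18 := by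
      intro g
      obtain ⟨y, hy⟩ := exists_isConj_mem R (orderOf_pp R g)
      simp only [fun π => lift_apply (stable_fw h9 hI π) y hy, hΩsum]
      by_cases h1 : pp R g = 1
      · have hy1 : y = 1 := Subtype.ext (by
          rw [h1] at hy
          rw [OneMemClass.coe_one]
          exact isConj_one_left.1 hy.symm)
        rw [if_pos hy1, if_pos h1]
      · rw [if_neg h1, if_neg]
        rintro rfl
        exact h1 (by simpa using hy)
    calc (Nat.card G : ℂ) * (∑ π ∈ Ω, (c π χ : ℂ))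
        = ∑ π ∈ Ω, ∑ g : G, lift R (fw π) g * (χ : G → ℂ) g := by
          rw [Finset.mul_sum]
          refine Finset.sum_congr rfl fun π hπ => ?_
          rw [← (hfab π (hΩne π hπ)).2.1 χ, card_mul_classInner]
          simp only [hreal]
      _ = ∑ g : G, (if pp R g = 1 then 0 else (18 : ℂ)) * (χ : G → ℂ) g := by
          rw [Finset.sum_comm]
          simp only [← Finset.sum_mul, hl]
      _ = ∑ g : G, ((18 : ℂ) * (χ : G → ℂ) g -
            18 * ((if pp R g = 1 then (1 : ℂ) else 0) * (χ : G → ℂ) g)) := by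
          refine Finset.sum_congr rfl fun g _ => ?_
          split_ifs <;> ring
      _ = _ := by rw [Finset.sum_sub_distrib, ← Finset.mul_sum, ← Finset.mul_sum, hsum0]; ring
  -- rationality
  have hrat : ∀ k : ℕ, k.Coprime (Nat.card G) → ∀ g, lift R (fw ω) (g ^ k) = lift R (fw ω) g := by
    intro k hk g
    refine lift_pow (stable_fw h9 hI ω) g fun y => ?_
    have h3 : (ω y) ^ 3 = 1 := by
      rw [← MonoidHom.pow_apply, orderOf_dvd_iff_pow_eq_one.1 hω3.dvd, MonoidHom.one_apply]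
    have hk3 : ¬ 3 ∣ k := by
      intro h
      have h3G : 3 ∣ Nat.card G :=
        (show 3 ∣ Nat.card (R : Subgroup G) by rw [h9]; norm_num).trans
          (Subgroup.card_subgroup_dvd_card _)
      exact Nat.not_coprime_of_dvd_of_dvd (by norm_num) h h3G hk
    rw [fw, fw, map_pow, pow_eq_pow_mod k h3]
    rcases (show k % 3 = 1 ∨ k % 3 = 2 by omega) with e | e <;> rw [e]
    · rw [pow_one]
    · have : (ω y) ^ 2 = (ω y)⁻¹ := eq_inv_of_mul_eq_one_left (by rw [← pow_succ, h3])
      rw [this, inv_inv, add_comm]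
  refine ⟨c ω, x, x', lift R (fw ω), hsh, (hfab ω hω1).2.1, (hfab ω hω1).2.2, hrat,
    fun g hg => by rw [lift_regular (stable_fw h9 hI ω) hg, fw_one], ?_⟩
  have hreal : ∀ g, conj ((x : G → ℂ) g) = (x : G → ℂ) g ∧ conj ((x' : G → ℂ) g) = (x' : G → ℂ) g :=
    fun g => ⟨real_of_invariant (fun k hk => (hsh.invariant (hfab ω hω1).2.1 hk (hrat k hk)).1) g,
      real_of_invariant (fun k hk => (hsh.invariant (hfab ω hω1).2.1 hk (hrat k hk)).2) g⟩
  have hsx : ∑ π ∈ Ω, c π x = 8 * c ω x := by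
    rw [hsplit, Finset.sum_congr rfl fun π hπ => (hall π hπ).1, Finset.sum_const, hO6, nsmul_eq_mul]
    ring
  have hsx' : ∑ π ∈ Ω, c π x' = 2 * c ω x' := by
    rw [hsplit, Finset.sum_congr rfl fun π hπ => (hall π hπ).2, Finset.sum_const_zero, add_zero]
  have hfinal : ∀ χ : IrrCharacter G, χ ≠ triv → (∀ g, conj ((χ : G → ℂ) g) = (χ : G → ℂ) g) →
      ¬ (3 : ℤ) ∣ ∑ π ∈ Ω, c π χ → ¬ 3 ∣ dg χ := by
    intro χ hχ hreal hs h3d
    have hcl : IsClassFunction G fun g => if pp R g = 1 then (1 : ℂ) else 0 := by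
      intro g d
      simp [pp_conj]
    have hint := isIntegral_sum_div χ hcl fun g => by
      split_ifs
      · exact isIntegral_one
      · exact isIntegral_zero
    have h := hreg χ hχ hreal
    rw [apply_one] at hint
    set W := ∑ g : G, (if pp R g = 1 then (1 : ℂ) else 0) * (χ : G → ℂ) g with hW
    have hd0 : (dg χ : ℂ) ≠ 0 := Nat.cast_ne_zero.2 (dg_pos χ).ne'
    have hG9 : (Nat.card G : ℂ) = 9 * (R : Subgroup G).index := by
      rw [card_mul_index' R, h9]; push_cast; rfl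
    obtain ⟨m, hm⟩ := BrauerTuan7.int_dvd_of_eq_mul (q := dg χ) (b := 1) (dg_pos χ).ne'
      (z := ((R : Subgroup G).index : ℤ) * ∑ π ∈ Ω, c π χ)
      (w := ⟨-2 * (W / (dg χ : ℂ)), by
        have h2 : IsIntegral ℤ (-2 : ℂ) := by simpa using (isIntegral_algebraMap (R := ℤ) (A := ℂ) (x := -2))
        exact h2.mul hint⟩)
      (by
        push_cast
        rw [pow_one]
        field_simp
        rw [hG9] at h
        linear_combination (1 / 9 : ℂ) * h)
    rw [pow_one] at hm
    have h3 : (3 : ℤ) ∣ ((R : Subgroup G).index : ℤ) * ∑ π ∈ Ω, c π χ := by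
      rw [hm]; exact Dvd.dvd.mul_right (by exact_mod_cast h3d) _
    rcases Int.prime_three.dvd_mul.1 h3 with e | e
    · exact index_not_dvd (R := R) (by exact_mod_cast e)
    · exact hs e
  refine ⟨hfinal x hxt (fun g => (hreal g).1) ?_, hfinal x' hx't (fun g => (hreal g).2) ?_⟩
  · rw [hsx]
    rcases hsh.unit_a with e | e <;> rw [e] <;> norm_num
  · rw [hsx']
    rcases hsh.unit_b with e | e <;> rw [e] <;> norm_num

end Inversion

/-! ### The four group -/

section Split

variable [Fintype (R : Subgroup G)] {A B : Subgroup G} (h9 : Nat.card (R : Subgroup G) = 9)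
  (hS : Split (R : Subgroup G) A B)

/-- Three times the indicator of `R ∖ B`. -/
noncomputable def fS (B : Subgroup G) (x : (R : Subgroup G)) : ℂ := if (x : G) ∈ B then 0 else 3

include h9 hS

theorem stable_fS : Stable R (fS B) := by
  intro x y h
  simp only [fS, (split_mem_iff h9 hS h).2]

theorem exists_hom_fS : ∃ ω : ↥(R : Subgroup G) →* ℂˣ, fw ω = fS B := by
  letI : CommGroup (R : Subgroup G) :=
    { (inferInstance : Group (R : Subgroup G)) with
      mul_comm := fun a b => Subtype.ext (comm' h9 a b) }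
  set B' := B.subgroupOf (R : Subgroup G) with hB'
  have hcB : Nat.card B' = 3 :=
    (Nat.card_congr (Subgroup.subgroupOfEquivOfLe hS.leB).toEquiv).trans hS.cardB
  have hq : Nat.card (↥(R : Subgroup G) ⧸ B') = 3 := by
    have := B'.card_mul_index
    rw [hcB, Subgroup.index_eq_card, h9] at this
    omega
  haveI : NeZero (Monoid.exponent (↥(R : Subgroup G) ⧸ B')) :=
    ⟨Monoid.exponent_ne_zero_of_finite⟩
  obtain ⟨w, hw⟩ : ∃ w : ↥(R : Subgroup G) ⧸ B', w ≠ 1 := by
    haveI : Nontrivial (↥(R : Subgroup G) ⧸ B') :=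
      Finite.one_lt_card_iff_nontrivial.1 (by omega)
    exact exists_ne 1
  obtain ⟨φ, hφ⟩ :=
    CommGroup.exists_apply_ne_one_of_hasEnoughRootsOfUnity (↥(R : Subgroup G) ⧸ B') ℂ hw
  refine ⟨φ.comp (QuotientGroup.mk' B'), funext fun x => ?_⟩
  have hne : ∀ z, z ≠ 1 → φ z ≠ 1 := by
    intro z hz
    rcases three hq hw z with rfl | rfl | rfl
    · exact absurd rfl hz
    · exact hφ
    · rw [map_inv]; exact inv_ne_one.2 hφ
  by_cases hx : (x : G) ∈ B
  · have h1 : QuotientGroup.mk' B' x = 1 := (QuotientGroup.eq_one_iff x).2 hx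
    rw [fS, if_pos hx, fw, MonoidHom.comp_apply, h1, map_one, inv_one, Units.val_one]
    norm_num
  · rw [fS, if_neg hx, fw, MonoidHom.comp_apply]
    set u : ℂˣ := φ (QuotientGroup.mk' B' x) with hu
    have hu1 : u ≠ 1 := hne _ fun e => hx ((QuotientGroup.eq_one_iff x).1 e)
    have hx3 : (QuotientGroup.mk' B' x) ^ 3 = 1 := by
      have h := pow_card_eq_one' (x := QuotientGroup.mk' B' x)
      rwa [hq] at h
    have hu3 : u ^ 3 = 1 := by rw [hu, ← map_pow, hx3, map_one]
    have hu1' : (u : ℂ) ≠ 1 := fun e => hu1 (Units.ext e)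
    have h3 : (u : ℂ) ^ 3 = 1 := by rw [← Units.val_pow_eq_pow_val, hu3, Units.val_one]
    have hs : (u : ℂ) ^ 2 + u + 1 = 0 := by
      have : ((u : ℂ) - 1) * ((u : ℂ) ^ 2 + u + 1) = 0 := by linear_combination h3
      exact (mul_eq_zero.1 this).resolve_left (sub_ne_zero.2 hu1')
    have hinv : ((u⁻¹ : ℂˣ) : ℂ) = (u : ℂ) ^ 2 := by
      rw [← Units.val_pow_eq_pow_val, inv_eq_of_mul_eq_one_right (b := u ^ 2) (by rw [← pow_succ', hu3])]
    rw [hinv]
    linear_combination -hs

theorem split_regular (hG : ¬ IsMulCommutative G) [IsSimpleGroup G] :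
    ∃ (c : IrrCharacter G → ℤ) (a b : IrrCharacter G) (θ : G → ℂ), Shape c a b ∧
      (∀ χ : IrrCharacter G, classInner θ (χ : G → ℂ) = c χ) ∧
      θ = ∑ χ : IrrCharacter G, (c χ : ℂ) • (χ : G → ℂ) ∧
      (∀ k : ℕ, k.Coprime (Nat.card G) → ∀ g, θ (g ^ k) = θ g) ∧
      (∀ g, pp R g = 1 → θ g = 0) ∧ ¬ 3 ∣ dg a ∧ ¬ 3 ∣ dg b := by
  have hfB := stable_fS h9 hS
  have hfA : Stable R (fS A) := stable_fS h9 hS.symm
  obtain ⟨ω, hω⟩ := exists_hom_fS h9 hS
  obtain ⟨π, hπ⟩ := exists_hom_fS h9 hS.symm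
  set θ := lift R (fS B) with hθ
  have hgθ : IsGeneralizedCharacter G θ :=
    isGeneralizedCharacter_lift hfB (hω ▸ isGeneralizedCharacter_fw ω)
  set F := lift R (fun x => fS B x * fS A x) with hF
  have hFst : Stable R fun x => fS B x * fS A x := fun x y h => by simp only [hfB x y h, hfA x y h]
  have hgF : IsGeneralizedCharacter G F := by
    refine isGeneralizedCharacter_lift hFst ?_
    exact isGeneralizedCharacter_mul (hω ▸ isGeneralizedCharacter_fw ω)
      (hπ ▸ isGeneralizedCharacter_fw π)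
  have hone : Stable R fun _ => (1 : ℂ) := fun _ _ _ => rfl
  have hlift1 : lift R (fun _ => (1 : ℂ)) = fun _ : G => (1 : ℂ) := by
    funext g
    obtain ⟨y, hy⟩ := exists_isConj_mem R (orderOf_pp R g)
    exact lift_apply hone y hy
  have hnB : ∀ z : (R : Subgroup G), (z : G) ∈ A → z ≠ 1 → (z : G) ∉ B := by
    intro z hA hz hB
    have : (z : G) ∈ A ⊓ B := ⟨hA, hB⟩
    rw [hS.inf, Subgroup.mem_bot] at this
    exact hz (Subtype.ext this)
  have hnA : ∀ z : (R : Subgroup G), (z : G) ∈ B → z ≠ 1 → (z : G) ∉ A :=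
    fun z hB hz hA => hnB z hA hz hB
  -- sums against the weights
  have hsums : ∀ (φ : ↥(R : Subgroup G) → ℂ) (vA vB vM : ℂ), φ 1 = 0 →
      (∀ z : (R : Subgroup G), (z : G) ∈ A → z ≠ 1 → φ z = vA) →
      (∀ z : (R : Subgroup G), (z : G) ∈ B → z ≠ 1 → φ z = vB) →
      (∀ z : (R : Subgroup G), (z : G) ∉ A → (z : G) ∉ B → φ z = vM) →
      ∑ z, φ z * weight R z = 2 * vA / 9 + 2 * vB / 9 + vM / 9 := by
    intro φ vA vB vM h0 hA hB hM
    rw [sum_pattern h9 hS (v0 := 0) (vA := vA / 9) (vB := vB / 9) (vM := vM / 36)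
      (by rw [h0, zero_mul])
      (fun z hz hz1 => by rw [hA z hz hz1, weight_axis h9 hS hz hz1]; ring)
      (fun z hz hz1 => by rw [hB z hz hz1, weight_axis h9 hS.symm hz hz1]; ring)
      (fun z hzA hzB => by rw [hM z hzA hzB, weight_mixed h9 hS hzA hzB]; ring)]
    ring
  have v1 : (fS B (1 : (R : Subgroup G)) : ℂ) = 0 := if_pos B.one_mem
  have hvA : ∀ z : (R : Subgroup G), (z : G) ∈ A → z ≠ 1 → fS B z = 3 ∧ fS A z = 0 :=
    fun z hz hz1 => ⟨if_neg (hnB z hz hz1), if_pos hz⟩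
  have hvB : ∀ z : (R : Subgroup G), (z : G) ∈ B → z ≠ 1 → fS B z = 0 ∧ fS A z = 3 :=
    fun z hz hz1 => ⟨if_pos hz, if_neg (hnA z hz hz1)⟩
  have hvM : ∀ z : (R : Subgroup G), (z : G) ∉ A → (z : G) ∉ B → fS B z = 3 ∧ fS A z = 3 :=
    fun z hzA hzB => ⟨if_neg hzB, if_neg hzA⟩
  have conj3 : conj (3 : ℂ) = 3 := map_ofNat _ 3
  have hθ1 : classInner θ (fun _ => 1) = 1 := by
    rw [hθ, ← hlift1, classInner_lift R hfB hone, hsums _ 3 0 3 (by rw [v1, zero_mul])
      (fun z h h' => by rw [(hvA z h h').1, map_one, mul_one])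
      (fun z h h' => by rw [(hvB z h h').1, zero_mul])
      (fun z h h' => by rw [(hvM z h h').1, map_one, mul_one])]
    norm_num
  have hθ3 : classInner θ θ = 3 := by
    rw [hθ, classInner_lift R hfB hfB, hsums _ 9 0 9 (by rw [v1, zero_mul])
      (fun z h h' => by rw [(hvA z h h').1, conj3]; norm_num)
      (fun z h h' => by rw [(hvB z h h').1, zero_mul])
      (fun z h h' => by rw [(hvM z h h').1, conj3]; norm_num)]
    norm_num
  obtain ⟨c, a, b, hsh, hc, hsum⟩ := exists_shape hG hgθ hθ1 hθ3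
    (by rw [hθ, show (1 : G) = ((1 : (R : Subgroup G)) : G) from rfl, lift_coe hfB, v1])
  have hF1 : classInner F (fun _ => 1) = 1 := by
    rw [hF, ← hlift1, classInner_lift R hFst hone, hsums _ 0 0 9 (by simp [v1])
      (fun z h h' => by rw [(hvA z h h').2]; simp)
      (fun z h h' => by rw [(hvB z h h').1]; simp)
      (fun z h h' => by rw [(hvM z h h').1, (hvM z h h').2, map_one]; norm_num)]
    norm_num
  have hF9 : classInner F F = 9 := by
    rw [hF, classInner_lift R hFst hFst, hsums _ 0 0 81 (by simp [v1])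
      (fun z h h' => by rw [(hvA z h h').2]; simp)
      (fun z h h' => by rw [(hvB z h h').1]; simp)
      (fun z h h' => by rw [(hvM z h h').1, (hvM z h h').2, map_mul, conj3]; norm_num)]
    norm_num
  obtain ⟨e, he, hesum⟩ := exists_int_coeff hgF
  have het : e triv = 1 := by
    have := he triv
    rw [show ((triv : IrrCharacter G) : G → ℂ) = fun _ => (1 : ℂ) from rfl, hF1] at this
    exact_mod_cast this.symm
  have hebound : ∀ χ, χ ≠ triv → e χ * e χ ≤ 8 := by
    have h9' : classInner F F = ∑ χ : IrrCharacter G, ((e χ : ℂ) * (e χ : ℂ)) := by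
      conv_lhs => arg 2; rw [hesum]
      rw [CharInduced.inner_sum_right]
      refine Finset.sum_congr rfl fun χ _ => ?_
      rw [CharInduced.inner_smul_right, he χ]
      simp
    rw [hF9] at h9'
    have hh : ∑ χ, e χ * e χ = 9 := by exact_mod_cast h9'.symm
    intro χ hχ
    rw [← Finset.add_sum_erase _ _ (Finset.mem_univ triv), het] at hh
    have := Finset.single_le_sum (f := fun χ => e χ * e χ) (fun χ _ => mul_self_nonneg _)
      (Finset.mem_erase.2 ⟨hχ, Finset.mem_univ χ⟩)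
    linarith
  have hrat : ∀ k : ℕ, k.Coprime (Nat.card G) → ∀ g, θ (g ^ k) = θ g := by
    intro k hk g
    refine lift_pow hfB g fun y => ?_
    have hko : (Nat.card (R : Subgroup G)).Coprime k :=
      (hk.coprime_dvd_right (Subgroup.card_subgroup_dvd_card _)).symm
    have hiff : ((y ^ k : (R : Subgroup G)) : G) ∈ B ↔ (y : G) ∈ B := by
      refine ⟨fun h => ?_, fun h => by rw [SubgroupClass.coe_pow]; exact pow_mem h k⟩
      obtain ⟨m, hm⟩ := exists_pow_eq_self_of_coprime (x := y) (n := k)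
        (hko.symm.coprime_dvd_right (orderOf_dvd_natCard y))
      rw [← hm, SubgroupClass.coe_pow]
      exact pow_mem h m
    simp only [fS, hiff]
  refine ⟨c, a, b, θ, hsh, hc, hsum, hrat,
    fun g hg => by rw [hθ, lift_regular hfB hg, v1], ?_⟩
  obtain ⟨M, hM⟩ := ZStarCount.exists_isPModular 3 Nat.prime_three
  -- both characters are in the principal block
  have hB0 : a ∈ principalBlock M G ∧ b ∈ principalBlock M G := by
    set Bk := principalBlock M G with hBk
    have hPB : IsPBlock M Bk := BlockPrincipal81.isPBlock_principal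
    have hsing : ∀ g : G, θ g ≠ 0 → 3 ∣ orderOf g := by
      intro g hg
      by_contra hnd
      apply hg
      have hdvd : orderOf g ∣ (R : Subgroup G).index := by
        refine Nat.Coprime.dvd_of_dvd_mul_left ?_ ((orderOf_dvd_natCard g).trans (card_mul_index' R).dvd)
        rw [h9, show 9 = 3 ^ 2 by norm_num]
        exact Nat.Coprime.pow_right _ ((Nat.Prime.coprime_iff_not_dvd Nat.prime_three).2 hnd).symm
      rw [hθ, lift_regular hfB (pp_eq_one R hdvd), v1]
    have hzero : ∑ χ : IrrCharacter G,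
        (if χ ∈ Bk then (c χ : ℂ) * (dg χ : ℂ) else 0) = 0 := by
      calc ∑ χ : IrrCharacter G, (if χ ∈ Bk then (c χ : ℂ) * (dg χ : ℂ) else 0)
          = ∑ χ : IrrCharacter G, ∑ g : G, (Nat.card G : ℂ)⁻¹ * (θ g *
              (if χ ∈ Bk then (χ : G → ℂ) 1 * conj ((χ : G → ℂ) g) else 0)) := by
            refine Finset.sum_congr rfl fun χ _ => ?_
            split_ifs
            · rw [← hc χ, classInner, Finset.mul_sum, Finset.sum_mul]
              exact Finset.sum_congr rfl fun g _ => by rw [apply_one]; ring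
            · simp
        _ = 0 := by
            rw [Finset.sum_comm]
            refine Finset.sum_eq_zero fun g _ => ?_
            rw [← Finset.mul_sum, ← Finset.mul_sum]
            by_cases hg : θ g = 0
            · rw [hg, zero_mul, mul_zero]
            · rw [BlockTheoryIdem.weak_orthogonality hM hPB (by rw [orderOf_one]; norm_num)
                (hsing g hg), mul_zero, mul_zero]
    have htm : (triv : IrrCharacter G) ∈ Bk := BlockPrincipal81.oneChar_mem hM
    rw [hsh.sum_eq _ (fun χ h => by simp [h])] at hzero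
    rw [if_pos htm, hsh.triv_eq, dg_triv] at hzero
    have na := one_add_ne hG hsh.ne_a hsh.unit_a
    have nb := one_add_ne hG hsh.ne_b hsh.unit_b
    by_cases h1 : a ∈ Bk <;> by_cases h2 : b ∈ Bk
    · exact ⟨h1, h2⟩
    all_goals exfalso
    · rw [if_pos h1, if_neg h2] at hzero
      refine na ?_
      have : ((1 + c a * (dg a : ℤ) : ℤ) : ℂ) = 0 := by
        push_cast; push_cast at hzero; linear_combination hzero
      exact_mod_cast this
    · rw [if_neg h1, if_pos h2] at hzero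
      refine nb ?_
      have : ((1 + c b * (dg b : ℤ) : ℤ) : ℂ) = 0 := by
        push_cast; push_cast at hzero; linear_combination hzero
      exact_mod_cast this
    · rw [if_neg h1, if_neg h2] at hzero
      norm_num at hzero
  -- the congruence
  set ind : ↥(R : Subgroup G) → ℂ := fun z => if (z : G) ∉ A ∧ (z : G) ∉ B then 1 else 0 with hind
  have hindst : Stable R ind := fun x y h => by
    simp only [hind, (split_mem_iff h9 hS h).1, (split_mem_iff h9 hS h).2]
  set H := lift R ind with hH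
  have hHint : ∀ g, IsIntegral ℤ (H g) := by
    intro g
    obtain ⟨y, hy⟩ := exists_isConj_mem R (orderOf_pp R g)
    rw [hH, lift_apply hindst y hy]
    simp only [hind]
    split_ifs
    · exact isIntegral_one
    · exact isIntegral_zero
  have hFH : ∀ g, F g = 9 * H g := by
    intro g
    obtain ⟨y, hy⟩ := exists_isConj_mem R (orderOf_pp R g)
    rw [hF, hH, lift_apply hFst y hy, lift_apply hindst y hy]
    simp only [hind]
    by_cases hA : (y : G) ∈ A
    · simp [hA, fS]
    · by_cases hB : (y : G) ∈ B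
      · simp [hB, fS]
      · simp [hA, hB, fS]; norm_num
  have hG9 : (Nat.card G : ℂ) = 9 * (R : Subgroup G).index := by
    rw [card_mul_index' R, h9]; push_cast; rfl
  have hHsum : ∑ g : G, H g = ((R : Subgroup G).index : ℂ) := by
    have h : classInner H (fun _ => 1) = 1 / 9 := by
      rw [hH, ← hlift1, classInner_lift R hindst hone, hsums _ 0 0 1
        (by simp [hind, A.one_mem]) (fun z h h' => by simp [hind, h])
        (fun z h h' => by simp [hind, h]) (fun z h h' => by simp [hind, h, h'])]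
      norm_num
    have h' := card_mul_classInner H (fun _ : G => (1 : ℂ))
    rw [h, hG9] at h'
    simp only [map_one, mul_one] at h'
    linear_combination -h'
  have hfinal : ∀ χ : IrrCharacter G, χ ≠ triv → χ ∈ principalBlock M G →
      (∀ g, conj ((χ : G → ℂ) g) = (χ : G → ℂ) g) → ¬ 3 ∣ dg χ := by
    intro χ hχ hχB hreal h3d
    have hz : ∑ g : G, H g * (χ : G → ℂ) g = ((R : Subgroup G).index : ℂ) * e χ := by
      have h' := card_mul_classInner F (χ : G → ℂ)
      simp only [he χ, hreal, hFH, mul_assoc, ← Finset.mul_sum, hG9] at h'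
      linear_combination (-1 / 9 : ℂ) * h'
    have hcl : IsClassFunction G H := isClassFunction_lift hindst
    have hint := isIntegral_sum_div χ hcl hHint
    have hcong := sum_div_sub_mem hM hχB hcl hHint
    rw [hz, apply_one] at hint
    rw [hz, apply_one, hHsum] at hcong
    have hd0 : (dg χ : ℂ) ≠ 0 := Nat.cast_ne_zero.2 (dg_pos χ).ne'
    obtain ⟨z, hzd⟩ := BrauerTuan7.int_dvd_of_eq_mul (q := dg χ) (b := 1) (dg_pos χ).ne'
      (z := ((R : Subgroup G).index : ℤ) * e χ) (w := ⟨_, hint⟩)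
      (by push_cast; rw [pow_one]; field_simp)
    rw [pow_one] at hzd
    have hzC : ((R : Subgroup G).index : ℂ) * e χ / (dg χ : ℂ) = (z : ℂ) := by
      rw [div_eq_iff hd0]
      have := congrArg (fun t : ℤ => (t : ℂ)) hzd
      push_cast at this
      rw [this, mul_comm]
    rw [hzC] at hcong
    have h3e : (3 : ℤ) ∣ e χ := by
      have : (3 : ℤ) ∣ ((R : Subgroup G).index : ℤ) * e χ :=
        hzd ▸ Dvd.dvd.mul_right (by exact_mod_cast h3d) z
      rcases Int.prime_three.dvd_mul.1 this with h | h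
      · exact absurd (by exact_mod_cast h) (index_not_dvd (R := R))
      · exact h
    have he0 : e χ = 0 := by
      obtain ⟨t, ht⟩ := h3e
      have hb := hebound χ hχ
      rw [ht] at hb ⊢
      have h4 : t * t = 0 := by nlinarith
      rcases mul_eq_zero.1 h4 with rfl | rfl <;> ring
    have hz0 : z = 0 := by
      rw [he0, mul_zero] at hzd
      exact (mul_eq_zero.1 hzd.symm).resolve_left (Int.natCast_ne_zero.2 (dg_pos χ).ne')
    rw [hz0, Int.cast_zero, zero_sub] at hcong
    have := BlockTheoryLocalRing.ideal_neg hcong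
    rw [neg_neg, BlockTheoryLocalRing.natCast_mem_iff hM] at this
    exact index_not_dvd (R := R) this
  have hinv := fun k (hk : Nat.Coprime k (Nat.card G)) => hsh.invariant hc hk (hrat k hk)
  exact ⟨hfinal a hsh.ne_a hB0.1 (real_of_invariant fun k hk => (hinv k hk).1),
    hfinal b hsh.ne_b hB0.2 (real_of_invariant fun k hk => (hinv k hk).2)⟩

end Split

/-- The outcome: two rational characters of degrees prime to three. -/
structure Pair (R : Sylow 3 G) (a b : IrrCharacter G) (ca cb : ℤ) : Prop where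
  ne_a : a ≠ triv
  ne_b : b ≠ triv
  unit_a : ca = 1 ∨ ca = -1
  unit_b : cb = 1 ∨ cb = -1
  deg : 1 + ca * (dg a : ℤ) + cb * (dg b : ℤ) = 0
  cop_a : ¬ 3 ∣ dg a
  cop_b : ¬ 3 ∣ dg b
  inv_a : ∀ k : ℕ, k.Coprime (Nat.card G) → ∀ g, (a : G → ℂ) (g ^ k) = (a : G → ℂ) g
  inv_b : ∀ k : ℕ, k.Coprime (Nat.card G) → ∀ g, (b : G → ℂ) (g ^ k) = (b : G → ℂ) g
  regular : ∀ g, pp R g = 1 → 1 + (ca : ℂ) * (a : G → ℂ) g + (cb : ℂ) * (b : G → ℂ) g = 0

theorem exists_pair [IsSimpleGroup G] (hG : ¬ IsMulCommutative G)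
    (h9 : Nat.card (R : Subgroup G) = 9)
    (hcase : Inversion (R : Subgroup G) ∨ ∃ A B, Split (R : Subgroup G) A B) :
    ∃ a b ca cb, Pair R a b ca cb := by
  haveI : Fintype (R : Subgroup G) := Fintype.ofFinite _
  have hex : ∃ (c : IrrCharacter G → ℤ) (a b : IrrCharacter G) (θ : G → ℂ), Shape c a b ∧
      (∀ χ : IrrCharacter G, classInner θ (χ : G → ℂ) = c χ) ∧
      θ = ∑ χ : IrrCharacter G, (c χ : ℂ) • (χ : G → ℂ) ∧
      (∀ k : ℕ, k.Coprime (Nat.card G) → ∀ g, θ (g ^ k) = θ g) ∧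
      (∀ g, pp R g = 1 → θ g = 0) ∧ ¬ 3 ∣ dg a ∧ ¬ 3 ∣ dg b := by
    rcases hcase with h | ⟨A, B, h⟩
    · exact three_regular h9 h hG
    · exact split_regular h9 h hG
  obtain ⟨c, a, b, θ, hsh, hc, hsum, hrat, hreg, hca, hcb⟩ := hex
  refine ⟨a, b, c a, c b, hsh.ne_a, hsh.ne_b, hsh.unit_a, hsh.unit_b, hsh.deg, hca, hcb,
    fun k hk => (hsh.invariant hc hk (hrat k hk)).1, fun k hk => (hsh.invariant hc hk (hrat k hk)).2,
    fun g hg => ?_⟩
  have h := hreg g hg
  rw [hsum, Finset.sum_apply, hsh.sum_eq _ (fun χ hχ => by simp [hχ])] at h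
  simp only [Pi.smul_apply, smul_eq_mul, hsh.triv_eq, Int.cast_one, one_mul] at h
  exact h

end Cfsg.Agent.NinePair7
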