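import Mathlib

/-!
# The symmetric group of degree six on the four-dimensional symplectic space over two elements

The tensor product with the natural module of the symmetric group of degree three, and finite
facts about centralisers of a pure tensor.
-/

set_option autoImplicit false
set_option maxRecDepth 100000
set_option synthInstance.maxSize 2000
set_option synthInstance.maxHeartbeats 200000

namespace Cfsg.Agent.SixSymplModel31

/-- The space. -/
abbrev W4 := ZMod 2 × ZMod 2 × ZMod 2 × ZMod 2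

/-- The symplectic form. -/
def β (x y : W4) : ZMod 2 := x.1 * y.2.1 + x.2.1 * y.1 + x.2.2.1 * y.2.2.2 + x.2.2.2 * y.2.2.1

/-- Basis vectors. -/
def e1 : W4 := (1, 0, 0, 0)
/-- Basis vectors. -/
def f1 : W4 := (0, 1, 0, 0)
/-- Basis vectors. -/
def e2 : W4 := (0, 0, 1, 0)
/-- Basis vectors. -/
def f2 : W4 := (0, 0, 0, 1)

/-- The pairs through the point `0`. -/
def pt : Fin 6 → W4 :=
  ![0, (1, 0, 0, 0), (0, 1, 0, 0), (1, 1, 1, 1), (1, 1, 0, 1), (1, 1, 1, 0)]

/-- The vector of a pair of points. -/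
def pr (p : Fin 6 × Fin 6) : W4 := pt p.1 + pt p.2

/-- The combination of four vectors. -/
def comb (a b c d x : W4) : W4 := x.1 • a + x.2.1 • b + x.2.2.1 • c + x.2.2.2 • d

/-- The action. -/
def act (σ : Equiv.Perm (Fin 6)) (x : W4) : W4 :=
  comb (pr (σ 0, σ 1)) (pr (σ 0, σ 2)) (pr (σ 3, σ 4)) (pr (σ 3, σ 5)) x

theorem two_eq (a : ZMod 2) : a = 0 ∨ a = 1 := by revert a; decide

theorem add_self (x : W4) : x + x = 0 := by revert x; decide

theorem β_add_left (x x' y : W4) : β (x + x') y = β x y + β x' y := by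
  simp only [β, Prod.fst_add, Prod.snd_add]; ring

theorem β_add_right (x y y' : W4) : β x (y + y') = β x y + β x y' := by
  simp only [β, Prod.fst_add, Prod.snd_add]; ring

theorem β_zero_left (y : W4) : β 0 y = 0 := by simp [β]

theorem β_zero_right (x : W4) : β x 0 = 0 := by simp [β]

theorem β_comm (x y : W4) : β x y = β y x := by simp only [β]; ring

theorem β_self (x : W4) : β x x = 0 := by revert x; decide +kernel

theorem β_nondeg : ∀ x : W4, β x e1 = 0 → β x f1 = 0 → β x e2 = 0 → β x f2 = 0 → x = 0 := by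
  decide +kernel

theorem β_pr : ∀ a b c d : Fin 6, β (pr (a, b)) (pr (c, d)) =
    (if a = c then 1 else 0) + (if a = d then 1 else 0) + (if b = c then 1 else 0)
      + (if b = d then 1 else 0) := by decide +kernel

theorem expand : ∀ x : W4, x = comb e1 f1 e2 f2 x := by decide +kernel

theorem comb_add (a b c d x y : W4) : comb a b c d (x + y) = comb a b c d x + comb a b c d y := by
  simp only [comb, Prod.fst_add, Prod.snd_add, add_smul]; abel

theorem act_add (σ : Equiv.Perm (Fin 6)) (x y : W4) : act σ (x + y) = act σ x + act σ y :=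
  comb_add _ _ _ _ x y

/-- The action as a homomorphism. -/
def actHom (σ : Equiv.Perm (Fin 6)) : W4 →+ W4 := AddMonoidHom.mk' (act σ) (act_add σ)

theorem act_zero (σ : Equiv.Perm (Fin 6)) : act σ 0 = 0 := (actHom σ).map_zero

theorem map_comb (L : W4 →+ W4) (a b c d x : W4) :
    L (comb a b c d x) = comb (L a) (L b) (L c) (L d) x := by
  have h : ∀ (s : ZMod 2) (v : W4), L (s • v) = s • L v := by
    intro s v
    rcases two_eq s with rfl | rfl <;> simp
  simp only [comb, map_add, h]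

theorem sum_pt (σ : Equiv.Perm (Fin 6)) :
    pt (σ 0) + pt (σ 1) + pt (σ 2) + pt (σ 3) + pt (σ 4) + pt (σ 5) = 0 := by
  have h : ∑ i, pt (σ i) = ∑ i, pt i := Equiv.sum_comp σ pt
  rw [Fin.sum_univ_six, Fin.sum_univ_six] at h
  rw [h]
  decide

theorem act_zero_pair (σ : Equiv.Perm (Fin 6)) :
    ∀ i, act σ (pt 0 + pt i) = pt (σ 0) + pt (σ i) := by
  have b : act σ (pt 0 + pt 1) = pt (σ 0) + pt (σ 1) ∧ act σ (pt 0 + pt 2) = pt (σ 0) + pt (σ 2) ∧
      act σ (pt 3 + pt 4) = pt (σ 3) + pt (σ 4) ∧ act σ (pt 3 + pt 5) = pt (σ 3) + pt (σ 5) := by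
    rw [show pt 0 + pt 1 = e1 by decide, show pt 0 + pt 2 = f1 by decide,
      show pt 3 + pt 4 = e2 by decide, show pt 3 + pt 5 = f2 by decide]
    refine ⟨?_, ?_, ?_, ?_⟩ <;> simp [act, comb, pr, e1, f1, e2, f2]
  obtain ⟨b1, b2, b3, b4⟩ := b
  have hs := sum_pt σ
  have h3 : act σ (pt 0 + pt 3) = pt (σ 0) + pt (σ 3) := by
    rw [show pt 0 + pt 3 = (pt 0 + pt 1) + (pt 0 + pt 2) + (pt 3 + pt 4) + (pt 3 + pt 5) by decide,
      act_add, act_add, act_add, b1, b2, b3, b4]
    linear_combination (norm := module) hs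
  intro i
  fin_cases i
  · show act σ (pt 0 + pt 0) = pt (σ 0) + pt (σ 0)
    rw [add_self, add_self, act_zero]
  · exact b1
  · exact b2
  · exact h3
  · show act σ (pt 0 + pt 4) = _
    rw [show pt 0 + pt 4 = (pt 0 + pt 3) + (pt 3 + pt 4) by decide, act_add, h3, b3]
    show _ = pt (σ 0) + pt (σ 4)
    rw [add_assoc, ← add_assoc (pt (σ 3)), add_self, zero_add]
  · show act σ (pt 0 + pt 5) = _
    rw [show pt 0 + pt 5 = (pt 0 + pt 3) + (pt 3 + pt 5) by decide, act_add, h3, b4]
    show _ = pt (σ 0) + pt (σ 5)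
    rw [add_assoc, ← add_assoc (pt (σ 3)), add_self, zero_add]

theorem act_pair (σ : Equiv.Perm (Fin 6)) (i j : Fin 6) : act σ (pr (i, j)) = pr (σ i, σ j) := by
  have e : ∀ a b c : W4, (c + a) + (c + b) = a + b := fun a b c => by
    rw [add_add_add_comm, add_self, zero_add]
  show act σ (pt i + pt j) = pt (σ i) + pt (σ j)
  rw [← e (pt i) (pt j) (pt 0), act_add, act_zero_pair, act_zero_pair, e]

theorem act_one (x : W4) : act 1 x = x := by
  rw [show act 1 x = comb e1 f1 e2 f2 x by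
    simp only [act, Equiv.Perm.one_apply]; congr 1]
  exact (expand x).symm

theorem act_mul (σ τ : Equiv.Perm (Fin 6)) (x : W4) : act (σ * τ) x = act σ (act τ x) := by
  show _ = actHom σ (act τ x)
  conv_rhs => rw [act, map_comb]
  simp only [actHom, AddMonoidHom.mk'_apply]
  rw [act_pair, act_pair, act_pair, act_pair]
  rfl

theorem act_inj (σ : Equiv.Perm (Fin 6)) {x y : W4} (h : act σ x = act σ y) : x = y := by
  have := congrArg (act σ⁻¹) h
  rwa [← act_mul, ← act_mul, inv_mul_cancel, act_one, act_one] at this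

theorem β_act (σ : Equiv.Perm (Fin 6)) (x y : W4) : β (act σ x) (act σ y) = β x y := by
  have hp : ∀ a b c d : Fin 6, β (pr (σ a, σ b)) (pr (σ c, σ d)) = β (pr (a, b)) (pr (c, d)) :=
    fun a b c d => by rw [β_pr, β_pr]; simp [σ.injective.eq_iff]
  have hsm : ∀ (s : ZMod 2) (a b : W4), β (s • a) b = s * β a b := fun s a b => by
    simp only [β, Prod.smul_fst, Prod.smul_snd, smul_eq_mul]; ring
  have hsm' : ∀ (s : ZMod 2) (a b : W4), β a (s • b) = s * β a b := fun s a b => by
    simp only [β, Prod.smul_fst, Prod.smul_snd, smul_eq_mul]; ring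
  have hb : e1 = pr (0, 1) ∧ f1 = pr (0, 2) ∧ e2 = pr (3, 4) ∧ f2 = pr (3, 5) := by decide
  conv_rhs => rw [expand x, expand y]
  simp only [act, comb, β_add_left, β_add_right, hsm, hsm', hb.1, hb.2.1, hb.2.2.1, hb.2.2.2, hp]

theorem act_trivial : ∀ σ : Equiv.Perm (Fin 6), act σ e1 = e1 → act σ f1 = f1 → act σ e2 = e2 →
    act σ f2 = f2 → σ = 1 := by decide +kernel

/-- All vectors. -/
def vecs : List W4 :=
  [0, 1].flatMap fun a => [0, 1].flatMap fun b => [0, 1].flatMap fun c =>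
    [0, 1].map fun d => (a, b, c, d)

theorem mem_vecs : ∀ x : W4, x ∈ vecs := by decide +kernel

/-- The images of the basis under symplectic maps. -/
def bases : List (W4 × W4 × W4 × W4) :=
  vecs.flatMap fun a => (vecs.filter fun b => β a b = 1).flatMap fun b =>
    ((vecs.filter fun c => β a c = 0 && β b c = 0)).flatMap fun c =>
      ((vecs.filter fun d => β a d = 0 && β b d = 0 && β c d = 1)).map fun d => (a, b, c, d)

theorem length_bases : bases.length = 720 := by decide +kernel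

/-! ### The tensor product -/

/-- The two-dimensional module. -/
def nat3 (i : Fin 3) : ZMod 2 × ZMod 2 := ![(1, 0), (0, 1), (1, 1)] i

/-- The transposition fixing the point `0`. -/
def t3 : Equiv.Perm (Fin 3) := Equiv.swap 1 2

/-- The three-cycle. -/
def c3 : Equiv.Perm (Fin 3) := Equiv.swap 0 1 * Equiv.swap 1 2

/-- The pairs. -/
abbrev P36 := Equiv.Perm (Fin 3) × Equiv.Perm (Fin 6)

/-- The action on the tensor product, in coordinates. -/
def actT (p : P36) (v : W4 × W4) : W4 × W4 :=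
  ((nat3 (p.1 0)).1 • act p.2 v.1 + (nat3 (p.1 1)).1 • act p.2 v.2,
    (nat3 (p.1 0)).2 • act p.2 v.1 + (nat3 (p.1 1)).2 • act p.2 v.2)

/-- The polar form. -/
def BT (v w : W4 × W4) : ZMod 2 := β v.1 w.2 + β w.1 v.2

/-- Even permutations. -/
def Even6 (σ : Equiv.Perm (Fin 6)) : Prop := Equiv.Perm.sign σ = 1

instance (σ : Equiv.Perm (Fin 6)) : Decidable (Even6 σ) :=
  inferInstanceAs (Decidable (Equiv.Perm.sign σ = 1))

/-- The kernel of the stabiliser of `w` on `w^⊥ / w`. -/
def K6 (w : W4) (σ : Equiv.Perm (Fin 6)) : Prop :=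
  act σ w = w ∧ ∀ a ∈ vecs, β a w = 0 → act σ a + a = 0 ∨ act σ a + a = w

instance (w : W4) (σ : Equiv.Perm (Fin 6)) : Decidable (K6 w σ) :=
  inferInstanceAs (Decidable (_ ∧ _))

theorem K6_map (g : Equiv.Perm (Fin 6)) {w : W4} {σ : Equiv.Perm (Fin 6)} (h : K6 w σ) :
    K6 (act g w) (g * σ * g⁻¹) := by
  have e : ∀ x, act (g * σ * g⁻¹) (act g x) = act g (act σ x) := fun x => by
    rw [← act_mul, ← act_mul, inv_mul_cancel_right]
  refine ⟨by rw [e, h.1], fun a _ ha => ?_⟩
  obtain ⟨b, rfl⟩ : ∃ b, act g b = a := ⟨act g⁻¹ a, by rw [← act_mul, mul_inv_cancel, act_one]⟩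
  rw [β_act] at ha
  rw [e, ← act_add]
  rcases h.2 b (mem_vecs b) ha with e' | e' <;> rw [e']
  · exact Or.inl (act_zero g)
  · exact Or.inr rfl

/-- The subgroup `E` modulo the centre. -/
def InE (w : W4) (v : W4 × W4) : Prop := β v.1 w = 0 ∧ (v.2 = 0 ∨ v.2 = w)

instance (w : W4) (v : W4 × W4) : Decidable (InE w v) :=
  inferInstanceAs (Decidable (_ ∧ _))

theorem InE_map (g : Equiv.Perm (Fin 6)) {w : W4} {v : W4 × W4} (h : InE w v) :
    InE (act g w) (act g v.1, act g v.2) := by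
  refine ⟨by rw [β_act]; exact h.1, ?_⟩
  rcases h.2 with e | e <;> simp only [e]
  · exact Or.inl (act_zero g)
  · exact Or.inr trivial

/-- The transvection at `e1`. -/
def cw : Equiv.Perm (Fin 6) := Equiv.swap 0 1

/-- The kernel at `e1`, as a list. -/
def kerList : List (Equiv.Perm (Fin 6)) :=
  [1, Equiv.swap 2 3 * Equiv.swap 4 5, Equiv.swap 2 4 * Equiv.swap 3 5,
    Equiv.swap 2 5 * Equiv.swap 3 4, cw, cw * (Equiv.swap 2 3 * Equiv.swap 4 5),
    cw * (Equiv.swap 2 4 * Equiv.swap 3 5), cw * (Equiv.swap 2 5 * Equiv.swap 3 4)]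

/-- The even part of the kernel. -/
def evenKer : List (Equiv.Perm (Fin 6)) :=
  [1, Equiv.swap 2 3 * Equiv.swap 4 5, Equiv.swap 2 4 * Equiv.swap 3 5,
    Equiv.swap 2 5 * Equiv.swap 3 4]

/-- Elements of the stabiliser. -/
def stabList : List (Equiv.Perm (Fin 6)) :=
  [1, Equiv.swap 3 4 * Equiv.swap 4 5, Equiv.swap 4 5 * Equiv.swap 3 4,
    Equiv.swap 2 3 * Equiv.swap 3 4, Equiv.swap 0 1 * Equiv.swap 2 3]

theorem mem_kerList : ∀ σ : Equiv.Perm (Fin 6), K6 e1 σ → σ ∈ kerList := by decide +kernel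

theorem kerList_K6 : ∀ σ ∈ kerList, K6 e1 σ ∧ σ * σ = 1 := by decide +kernel

theorem evenKer_spec : ∀ σ ∈ kerList, (Even6 σ ↔ σ ∈ evenKer) := by decide +kernel

theorem stabList_spec : ∀ g ∈ stabList, act g e1 = e1 ∧ Even6 g := by decide +kernel

theorem kernel_of_commute : ∀ σ : Equiv.Perm (Fin 6), act σ e1 = e1 → σ * σ = 1 →
    (∀ g ∈ stabList, σ * (g * σ * g⁻¹) = g * σ * g⁻¹ * σ) → σ ∈ kerList := by decide +kernel

theorem kernel_product : ∀ σ ∈ kerList, σ ≠ 1 → σ ≠ cw →
    ∀ d ∈ evenKer, d ≠ 1 →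
      ∃ g ∈ stabList, ∃ g' ∈ stabList, d = g * σ * g⁻¹ * (g' * σ * g'⁻¹) := by decide +kernel

theorem E_covered : ∀ v : W4 × W4, InE e1 v → ∃ d ∈ evenKer,
    ∃ a ∈ vecs, ∃ b ∈ vecs, β b e1 = 0 ∧
      ((act d a + a, act d b + b) = v ∨ (act d a + a, act d b + b) = v + (e1, 0)) := by
  decide +kernel

theorem card_E : (Finset.univ.filter fun v : W4 × W4 => InE e1 v).card = 16 := by decide +kernel

theorem transitive : ∀ w : W4, w ≠ 0 → ∃ g : Equiv.Perm (Fin 6), Even6 g ∧ act g e1 = w := by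
  decide +kernel

theorem E_inter : ∀ w : W4, β e1 w = 0 → w ≠ 0 → w ≠ e1 →
    (Finset.univ.filter fun v : W4 × W4 => InE e1 v ∧ InE w v).card = 4 := by decide +kernel

/-- The pairs allowed at `w`. -/
def KT (w : W4) (p : P36) : Prop := (p.1 = 1 ∨ p.1 = t3) ∧ K6 w p.2

instance (w : W4) (p : P36) : Decidable (KT w p) := inferInstanceAs (Decidable (_ ∧ _))

/-- The pairs allowed at `e1`, as a list. -/
def kerPairs : List P36 := (kerList.map fun σ => ((1, σ) : P36)) ++ kerList.map fun σ => (t3, σ)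

theorem K_inter : ∀ w ∈ vecs, β e1 w = 0 → w ≠ 0 → w ≠ e1 →
    ((kerPairs.filter fun p => decide (K6 w p.2)).length ≤ 4) ∧
      ((evenKer.flatMap fun d =>
        (kerPairs.filter fun p => decide (K6 w p.2)).map fun p => ((1, d) : P36) * p).dedup.length
          = 16) := by decide +kernel

theorem fix_pure {τ : Equiv.Perm (Fin 3)} {σ : Equiv.Perm (Fin 6)}
    (h : ∀ a : W4, actT (τ, σ) (a, 0) = (a, 0)) : (τ = 1 ∨ τ = t3) ∧ σ = 1 := by
  have h' : ∀ a, (nat3 (τ 0)).1 • act σ a = a ∧ (nat3 (τ 0)).2 • act σ a = 0 := fun a => by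
    have := h a
    simpa [actT, act_zero] using this
  have h0 : (nat3 (τ 0)).1 = 1 := by
    rcases two_eq (nat3 (τ 0)).1 with e | e
    · have := (h' e1).1
      rw [e, zero_smul] at this
      exact absurd this (by decide)
    · exact e
  have hσ : ∀ a, act σ a = a := fun a => by simpa [h0] using (h' a).1
  have h1 : (nat3 (τ 0)).2 = 0 := by
    rcases two_eq (nat3 (τ 0)).2 with e | e
    · exact e
    · have := (h' e1).2
      rw [e, one_smul, hσ] at this
      exact absurd this (by decide)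
  refine ⟨?_, act_trivial σ (hσ _) (hσ _) (hσ _) (hσ _)⟩
  revert h0 h1
  clear h h'
  revert τ
  decide +kernel

end Cfsg.Agent.SixSymplModel31
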