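import Mathlib
import Cfsg.Agent.Lib.SixSymplModel31

/-!
# Orthogonal spaces of dimension eight over two elements with an action of `S₃ × H`, `A₆ ≤ H ≤ S₆`

The hypotheses, the fixed points of elements of order five, and invariant quadratic forms in
dimension four.
-/

set_option autoImplicit false

namespace Cfsg.Agent.SixModule31

open Cfsg.Agent.SixSymplModel31

/-- A five-cycle. -/
def σ5 : Equiv.Perm (Fin 6) :=
  Equiv.swap 0 1 * Equiv.swap 1 2 * Equiv.swap 2 3 * Equiv.swap 3 4

theorem σ5_spec : Even6 σ5 ∧ σ5 ^ 5 = 1 ∧ σ5 ≠ 1 := by decide +kernel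

theorem mem_alt {σ : Equiv.Perm (Fin 6)} : σ ∈ alternatingGroup (Fin 6) ↔ Even6 σ :=
  Equiv.Perm.mem_alternatingGroup

theorem card_alt : Nat.card (alternatingGroup (Fin 6)) = 360 := by
  rw [nat_card_alternatingGroup, Nat.card_fin]; rfl

/-- The data. -/
structure Mod (V : Type*) [AddCommGroup V] where
  /-- The quadratic form. -/
  q : V → ZMod 2
  /-- The polar form. -/
  B : V → V → ZMod 2
  /-- The image in the symmetric group of degree six. -/
  H : Subgroup (Equiv.Perm (Fin 6))
  /-- The action. -/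
  act : P36 → V →+ V
  q_add : ∀ a b, q (a + b) = q a + q b + B a b
  B_left : ∀ a a' b, B (a + a') b = B a b + B a' b
  B_comm : ∀ a b, B a b = B b a
  nondeg : ∀ a, (∀ b, B a b = 0) → a = 0
  two : ∀ a : V, a + a = 0
  card : Nat.card V = 256
  even_mem : ∀ σ, Even6 σ → σ ∈ H
  act_one : ∀ v, act 1 v = v
  act_mul : ∀ p p' : P36, p.2 ∈ H → p'.2 ∈ H → ∀ v, act (p * p') v = act p (act p' v)
  act_q : ∀ p : P36, p.2 ∈ H → ∀ v, q (act p v) = q v
  faithful : ∀ p : P36, p.2 ∈ H → Odd (orderOf p) → (∀ v, act p v = v) → p = 1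

section General

variable {V : Type*} [AddCommGroup V]

/-- The fixed points of an element of order dividing five on a finite invariant subgroup. -/
theorem fixed_modEq [Finite V] (S : AddSubgroup V) (L : V →+ V) (hS : ∀ v ∈ S, L v ∈ S)
    (h5 : ∀ v ∈ S, L (L (L (L (L v)))) = v) :
    Nat.card ↥(S ⊓ (L - AddMonoidHom.id V).ker) ≡ Nat.card S [MOD 5] := by
  haveI : Fact (Nat.Prime 5) := ⟨by decide⟩
  let σ : Equiv.Perm S :=
    { toFun := fun v => ⟨L v, hS v v.2⟩
      invFun := fun v => ⟨L (L (L (L v))), hS _ (hS _ (hS _ (hS _ v.2)))⟩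
      left_inv := fun v => Subtype.ext (h5 v v.2)
      right_inv := fun v => Subtype.ext (h5 v v.2) }
  have hσ : σ ^ 5 = 1 := Equiv.ext fun v => Subtype.ext (h5 v v.2)
  have hp : IsPGroup 5 (Subgroup.zpowers σ) := by
    rintro ⟨_, n, rfl⟩
    refine ⟨1, Subtype.ext ?_⟩
    show (σ ^ n) ^ 5 ^ 1 = 1
    rw [pow_one, ← zpow_natCast, ← zpow_mul, mul_comm, zpow_mul, zpow_natCast, hσ, one_zpow]
  have h1 := hp.card_modEq_card_fixedPoints (α := S)
  refine (Nat.ModEq.trans ?_ h1.symm)
  apply Eq.subst (motive := fun n => Nat.card ↥(S ⊓ (L - AddMonoidHom.id V).ker) ≡ n [MOD 5]) _ rfl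
  refine Nat.card_congr
    { toFun := fun v => ⟨⟨v.1, v.2.1⟩, ?_⟩
      invFun := fun v => ⟨v.1.1, v.1.2, ?_⟩
      left_inv := fun v => rfl
      right_inv := fun v => rfl }
  · rintro ⟨_, n, rfl⟩
    have hv : σ • (⟨v.1, v.2.1⟩ : S) = ⟨v.1, v.2.1⟩ := Subtype.ext (sub_eq_zero.mp v.2.2)
    exact MulAction.mem_stabilizer_iff.mp (zpow_mem (show σ ∈ MulAction.stabilizer _ _ from
      MulAction.mem_stabilizer_iff.mpr hv) n)
  · have := congrArg Subtype.val (v.2 ⟨σ, Subgroup.mem_zpowers σ⟩)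
    exact sub_eq_zero.mpr this

theorem card_dvd_pow [Finite V] (hV : Nat.card V = 256) (S : AddSubgroup V) :
    ∃ j ≤ 8, Nat.card S = 2 ^ j := by
  have h := S.card_addSubgroup_dvd_card
  rw [hV, show 256 = 2 ^ 8 from rfl] at h
  exact (Nat.dvd_prime_pow Nat.prime_two).mp h

/-- An element of order dividing five fixes a small subgroup, given enough fixed points. -/
theorem five_small [Finite V] (hV : Nat.card V = 256) (S : AddSubgroup V) (L : V →+ V)
    (hS : ∀ v ∈ S, L v ∈ S) (h5 : ∀ v ∈ S, L (L (L (L (L v)))) = v)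
    (h : Nat.card S ≤ 8 ∨ (Nat.card S ≤ 16 ∧ ∃ v ∈ S, v ≠ 0 ∧ L v = v) ∨
      (Nat.card S ≤ 32 ∧ 3 ≤ Nat.card ↥(S ⊓ (L - AddMonoidHom.id V).ker))) :
    ∀ v ∈ S, L v = v := by
  have h1 := fixed_modEq S L hS h5
  have hle : S ⊓ (L - AddMonoidHom.id V).ker ≤ S := inf_le_left
  obtain ⟨a, -, ha⟩ := card_dvd_pow hV S
  obtain ⟨b, -, hb⟩ := card_dvd_pow hV (S ⊓ (L - AddMonoidHom.id V).ker)
  have hba : b ≤ a := (Nat.pow_le_pow_iff_right (le_refl 2)).mp
    (hb ▸ ha ▸ Nat.le_of_dvd Nat.card_pos (AddSubgroup.card_dvd_of_le hle))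
  have ha5 : a ≤ 5 := (Nat.pow_le_pow_iff_right (le_refl 2)).mp (ha ▸ by
    rcases h with h | ⟨h, -⟩ | ⟨h, -⟩ <;> omega)
  have key : Nat.card ↥(S ⊓ (L - AddMonoidHom.id V).ker) = Nat.card S := by
    rw [ha, hb] at h1 ⊢
    rcases h with h | ⟨h, v, hv, hv0, hLv⟩ | ⟨h, h3⟩
    · rw [ha] at h
      interval_cases a <;> interval_cases b <;> simp_all [Nat.ModEq]
    · rw [ha] at h
      have h2 : 2 ≤ 2 ^ b := by
        rw [← hb]
        exact Finite.one_lt_card_iff_nontrivial.mpr
          ⟨⟨⟨v, hv, sub_eq_zero.mpr hLv⟩, 0, fun e => hv0 (congrArg Subtype.val e)⟩⟩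
      interval_cases a <;> interval_cases b <;> simp_all [Nat.ModEq]
    · rw [ha] at h
      rw [hb] at h3
      interval_cases a <;> interval_cases b <;> simp_all [Nat.ModEq]
  intro v hv
  have heq := AddSubgroup.eq_of_le_of_card_ge hle key.ge
  rw [← heq] at hv
  exact sub_eq_zero.mp hv.2

/-- A five-element with fixed points only `0` on a subgroup of order 16 of the type considered. -/
theorem fixed_sixteen [Finite V] (hV : Nat.card V = 256) (S : AddSubgroup V) (L : V →+ V)
    (hS : ∀ v ∈ S, L v ∈ S) (h5 : ∀ v ∈ S, L (L (L (L (L v)))) = v) (hc : Nat.card S = 16)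
    (hne : ∃ v ∈ S, L v ≠ v) : ∀ v ∈ S, L v = v → v = 0 := by
  intro v hv hLv
  by_contra hv0
  obtain ⟨w, hw, hw'⟩ := hne
  exact hw' (five_small hV S L hS h5 (Or.inr (Or.inl ⟨hc.le, v, hv, hv0, hLv⟩)) w hw)

end General

namespace Mod

variable {V : Type*} [AddCommGroup V] [Finite V] (M : Mod V)

include M in
theorem eq_of {a b : V} (h : a + b = 0) : a = b := by
  calc a = a + (b + b) := by rw [M.two b, add_zero]
    _ = (a + b) + b := by abel
    _ = b := by rw [h, zero_add]

theorem B_right (a b b' : V) : M.B a (b + b') = M.B a b + M.B a b' := by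
  rw [M.B_comm a, M.B_left, M.B_comm b, M.B_comm b']

theorem B_zero_left (b : V) : M.B 0 b = 0 := by
  have h := M.B_left 0 0 b
  rw [add_zero] at h
  exact left_eq_add.mp h

theorem B_zero_right (a : V) : M.B a 0 = 0 := by rw [M.B_comm, M.B_zero_left]

theorem q_zero : M.q 0 = 0 := by
  have h := M.q_add 0 0
  rw [add_zero, M.B_zero_left, add_zero] at h
  exact left_eq_add.mp h

theorem B_self (a : V) : M.B a a = 0 := by
  have h := M.q_add a a
  rw [M.two, M.q_zero] at h
  revert h
  generalize M.q a = i; generalize M.B a a = j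
  revert i j; decide

theorem act_B {p : P36} (hp : p.2 ∈ M.H) (a b : V) : M.B (M.act p a) (M.act p b) = M.B a b := by
  have h := M.q_add (M.act p a) (M.act p b)
  rw [← map_add, M.act_q p hp, M.act_q p hp, M.act_q p hp, M.q_add] at h
  exact (add_left_cancel h).symm

theorem one_mem (τ : Equiv.Perm (Fin 3)) : ((τ, 1) : P36).2 ∈ M.H := M.H.one_mem

/-- The action of `(τ, 1)` commutes with that of `(1, σ)`. -/
theorem act_comm (τ : Equiv.Perm (Fin 3)) {σ : Equiv.Perm (Fin 6)} (hσ : σ ∈ M.H) (v : V) :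
    M.act (τ, 1) (M.act (1, σ) v) = M.act (1, σ) (M.act (τ, 1) v) := by
  rw [← M.act_mul _ _ (M.one_mem τ) hσ, ← M.act_mul _ _ hσ (M.one_mem τ), Prod.mk_mul_mk,
    Prod.mk_mul_mk]
  simp

theorem act_pair (τ τ' : Equiv.Perm (Fin 3)) (v : V) :
    M.act (τ * τ', 1) v = M.act (τ, 1) (M.act (τ', 1) v) := by
  rw [← M.act_mul _ _ (M.one_mem τ) (M.one_mem τ'), Prod.mk_mul_mk, mul_one]

theorem act_sigma_mul {σ σ' : Equiv.Perm (Fin 6)} (h : σ ∈ M.H) (h' : σ' ∈ M.H) (v : V) :
    M.act (1, σ * σ') v = M.act (1, σ) (M.act (1, σ') v) := by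
  rw [← M.act_mul _ _ h h', Prod.mk_mul_mk, mul_one]

theorem act_five (v : V) :
    M.act (1, σ5) (M.act (1, σ5) (M.act (1, σ5) (M.act (1, σ5) (M.act (1, σ5) v)))) = v := by
  have h := M.even_mem _ σ5_spec.1
  rw [← M.act_sigma_mul h h, ← M.act_sigma_mul (mul_mem h h) h,
    ← M.act_sigma_mul (mul_mem (mul_mem h h) h) h,
    ← M.act_sigma_mul (mul_mem (mul_mem (mul_mem h h) h) h) h,
    show σ5 * σ5 * σ5 * σ5 * σ5 = σ5 ^ 5 by simp only [pow_succ, pow_zero, one_mul],
    σ5_spec.2.1]
  exact M.act_one v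

theorem five_moves : ∃ v, M.act (1, σ5) v ≠ v := by
  by_contra h
  push Not at h
  have h1 : ((1, σ5) : P36) = 1 := M.faithful _ (M.even_mem _ σ5_spec.1) (by
    have hd : orderOf ((1, σ5) : P36) ∣ 5 := by
      refine orderOf_dvd_of_pow_eq_one ?_
      rw [Prod.pow_mk, one_pow, σ5_spec.2.1]
      rfl
    rcases (Nat.dvd_prime (by decide : Nat.Prime 5)).mp hd with e | e <;> rw [e] <;> decide) h
  exact σ5_spec.2.2 (congrArg Prod.snd h1)

/-- The involution from the first factor. -/
def t : V →+ V := M.act (t3, 1)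

/-- The element of order three from the first factor. -/
def w : V →+ V := M.act (c3, 1)

/-- A trivial element in the kernel of a set of even elements forces triviality. -/
theorem eq_one_of_fix {S : Set V} (hS : ∀ σ, Even6 σ → ∀ v ∈ S, M.act (1, σ) v ∈ S)
    (h5 : ∃ v ∈ S, M.act (1, σ5) v ≠ v) {h : Equiv.Perm (Fin 6)} (hh : h ∈ M.H)
    (hfix : ∀ v ∈ S, M.act (1, h) v = v) : h = 1 := by
  let K : Subgroup ↥(alternatingGroup (Fin 6)) :=
    { carrier := {g | ∀ v ∈ S, M.act (1, (g : Equiv.Perm (Fin 6))) v = v}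
      one_mem' := fun v _ => M.act_one v
      mul_mem' := fun {a b} ha hb v hv => by
        rw [Subgroup.coe_mul, M.act_sigma_mul (M.even_mem _ (mem_alt.mp a.2))
          (M.even_mem _ (mem_alt.mp b.2)), hb v hv, ha v hv]
      inv_mem' := fun {a} ha v hv => by
        have e := congrArg (M.act (1, ((a⁻¹ : alternatingGroup (Fin 6)) : Equiv.Perm (Fin 6))))
          (ha v hv)
        rw [← M.act_sigma_mul (M.even_mem _ (mem_alt.mp a⁻¹.2)) (M.even_mem _ (mem_alt.mp a.2)),
          Subgroup.coe_inv, inv_mul_cancel] at e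
        rw [Subgroup.coe_inv, ← e]
        exact M.act_one v }
  have hK : K.Normal := ⟨fun a ha g v hv => by
    have hg := mem_alt.mp g.2
    have hgi : Even6 (g : Equiv.Perm (Fin 6))⁻¹ := by
      rw [← Subgroup.coe_inv]; exact mem_alt.mp g⁻¹.2
    simp only [Subgroup.coe_mul, Subgroup.coe_inv]
    have haH := M.even_mem _ (mem_alt.mp a.2)
    rw [M.act_sigma_mul (mul_mem (M.even_mem _ hg) haH) (M.even_mem _ hgi),
      M.act_sigma_mul (M.even_mem _ hg) haH, ha _ (hS _ hgi v hv),
      ← M.act_sigma_mul (M.even_mem _ hg) (M.even_mem _ hgi), mul_inv_cancel]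
    exact M.act_one v⟩
  haveI := alternatingGroup.isSimpleGroup (α := Fin 6) (by simp)
  have hbot : K = ⊥ := by
    refine (IsSimpleGroup.eq_bot_or_eq_top_of_normal K hK).resolve_right fun ht => ?_
    obtain ⟨v, hv, hv'⟩ := h5
    exact hv' ((ht ▸ Subgroup.mem_top _ : (⟨σ5, mem_alt.mpr σ5_spec.1⟩ :
      alternatingGroup (Fin 6)) ∈ K) v hv)
  have hcomm : ∀ g, Even6 g → h * g = g * h := by
    intro g hg
    have hgi : Even6 g⁻¹ := by
      show Equiv.Perm.sign g⁻¹ = 1
      rw [map_inv, (hg : Equiv.Perm.sign g = 1), inv_one]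
    have he : Even6 (h * g * h⁻¹ * g⁻¹) := by
      show Equiv.Perm.sign (h * g * h⁻¹ * g⁻¹) = 1
      rw [map_mul, map_mul, map_mul, map_inv, map_inv, (hg : Equiv.Perm.sign g = 1)]
      simp
    have hm : (⟨_, mem_alt.mpr he⟩ : alternatingGroup (Fin 6)) ∈ K := by
      intro v hv
      have hgH := M.even_mem _ hg
      have hgiH := M.even_mem _ hgi
      show M.act (1, h * g * h⁻¹ * g⁻¹) v = v
      have hinv : M.act (1, h⁻¹) (M.act (1, g⁻¹) v) = M.act (1, g⁻¹) v := by
        conv_lhs => rw [← hfix _ (hS _ hgi v hv)]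
        rw [← M.act_sigma_mul (inv_mem hh) hh, inv_mul_cancel]
        exact M.act_one _
      rw [M.act_sigma_mul (mul_mem (mul_mem hh hgH) (inv_mem hh)) hgiH,
        M.act_sigma_mul (mul_mem hh hgH) (inv_mem hh), hinv, M.act_sigma_mul hh hgH,
        ← M.act_sigma_mul hgH hgiH, mul_inv_cancel]
      rw [show M.act (1, 1) v = v from M.act_one v]
      exact hfix v hv
    rw [hbot, Subgroup.mem_bot] at hm
    have := congrArg Subtype.val hm
    exact mul_inv_eq_iff_eq_mul.mp (mul_inv_eq_one.mp this)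
  have hc := hcomm (Equiv.swap 0 1 * Equiv.swap 1 2) (by decide)
  have hc' := hcomm (Equiv.swap 1 2 * Equiv.swap 2 3) (by decide)
  have hc'' := hcomm (Equiv.swap 3 4 * Equiv.swap 4 5) (by decide)
  revert hc hc' hc''
  clear hfix hh hcomm
  revert h
  decide +kernel

/-- No invariant nondegenerate quadratic form on a four-dimensional module. -/
theorem no_form (S : AddSubgroup V) (hc : Nat.card S = 16)
    (hS : ∀ σ, Even6 σ → ∀ v ∈ S, M.act (1, σ) v ∈ S) (h5 : ∃ v ∈ S, M.act (1, σ5) v ≠ v)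
    (f : V → ZMod 2) (hf : ∀ σ, Even6 σ → ∀ v ∈ S, f (M.act (1, σ) v) = f v)
    (hadd : ∀ a ∈ S, ∀ b ∈ S, f (a + b) = f a + f b + M.B a b)
    (hnd : ∀ a ∈ S, (∀ b ∈ S, M.B a b = 0) → a = 0) : False := by
  classical
  haveI : Fintype V := Fintype.ofFinite V
  haveI : Fact (Nat.Prime 5) := ⟨by decide⟩
  have hfix0 := fixed_sixteen M.card S (M.act (1, σ5)) (hS _ σ5_spec.1)
    (fun v _ => M.act_five v) hc h5
  -- a class with exactly five elements
  let cls : ZMod 2 → Finset V := fun i => Finset.univ.filter fun v => v ∈ S ∧ v ≠ 0 ∧ f v = i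
  have hinv : ∀ i σ, Even6 σ → ∀ v ∈ cls i, M.act (1, σ) v ∈ cls i := by
    intro i σ hσ v hv
    simp only [cls, Finset.mem_filter, Finset.mem_univ, true_and] at hv ⊢
    refine ⟨hS σ hσ v hv.1, fun e => hv.2.1 ?_, by rw [hf σ hσ v hv.1]; exact hv.2.2⟩
    have hH := M.even_mem _ hσ
    have := congrArg (M.act (1, σ⁻¹)) e
    rwa [map_zero, ← M.act_sigma_mul (inv_mem hH) hH, inv_mul_cancel,
      show M.act (1, 1) v = v from M.act_one v] at this
  have perm : ∀ i, ∃ Φ : ↥(alternatingGroup (Fin 6)) →* Equiv.Perm ↥(cls i),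
      ∀ g v, ((Φ g v : ↥(cls i)) : V) = M.act (1, (g : Equiv.Perm (Fin 6))) v := by
    intro i
    letI : MulAction ↥(alternatingGroup (Fin 6)) ↥(cls i) :=
      { smul := fun g v => ⟨M.act (1, (g : Equiv.Perm (Fin 6))) v, hinv i _ (mem_alt.mp g.2) v v.2⟩
        one_smul := fun v => Subtype.ext (M.act_one v)
        mul_smul := fun g g' v => Subtype.ext (M.act_sigma_mul
          (M.even_mem _ (mem_alt.mp g.2)) (M.even_mem _ (mem_alt.mp g'.2)) v) }
    exact ⟨MulAction.toPermHom _ _, fun g v => rfl⟩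
  let g5 : alternatingGroup (Fin 6) := ⟨σ5, mem_alt.mpr σ5_spec.1⟩
  have hnofix : ∀ i, ∀ v ∈ cls i, M.act (1, σ5) v ≠ v := by
    intro i v hv e
    simp only [cls, Finset.mem_filter, Finset.mem_univ, true_and] at hv
    exact hv.2.1 (hfix0 v hv.1 e)
  have h5dvd : ∀ i, 5 ∣ (cls i).card := by
    intro i
    obtain ⟨Φ, hΦ⟩ := perm i
    have hp : IsPGroup 5 (Subgroup.zpowers (Φ g5)) := by
      rintro ⟨_, n, rfl⟩
      refine ⟨1, Subtype.ext ?_⟩
      show (Φ g5 ^ n) ^ 5 ^ 1 = 1
      have hg : Φ g5 ^ 5 = 1 := by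
        rw [← map_pow, show g5 ^ 5 = 1 from Subtype.ext σ5_spec.2.1, map_one]
      rw [pow_one, ← zpow_natCast, ← zpow_mul, mul_comm, zpow_mul, zpow_natCast, hg, one_zpow]
    have h1 := hp.card_modEq_card_fixedPoints (α := ↥(cls i))
    have h0 : IsEmpty (MulAction.fixedPoints (Subgroup.zpowers (Φ g5)) ↥(cls i)) := by
      refine ⟨fun v => hnofix i _ v.1.2 ?_⟩
      have := congrArg Subtype.val (v.2 ⟨_, Subgroup.mem_zpowers _⟩)
      exact (hΦ g5 v.1).symm.trans this
    rw [Nat.card_eq_zero.mpr (Or.inl h0), Nat.card_eq_finsetCard] at h1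
    exact Nat.modEq_zero_iff_dvd.mp h1
  have hsum : (cls 0).card + (cls 1).card = 15 := by
    rw [← Finset.card_union_of_disjoint]
    · have : cls 0 ∪ cls 1 = (Finset.univ.filter fun v => v ∈ S).erase 0 := by
        ext v
        simp only [cls, Finset.mem_union, Finset.mem_filter, Finset.mem_univ, true_and,
          Finset.mem_erase]
        constructor
        · rintro (⟨a, b, -⟩ | ⟨a, b, -⟩) <;> exact ⟨b, a⟩
        · rintro ⟨b, a⟩
          rcases SixSymplModel31.two_eq (f v) with e | e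
          exacts [Or.inl ⟨a, b, e⟩, Or.inr ⟨a, b, e⟩]
      rw [this, Finset.card_erase_of_mem (by simp [zero_mem]), ← Fintype.card_subtype,
        ← Nat.card_eq_fintype_card, show Nat.card {v // v ∈ S} = 16 from hc]
    · refine Finset.disjoint_left.mpr fun v h0 h1 => ?_
      simp only [cls, Finset.mem_filter] at h0 h1
      rw [h0.2.2.2] at h1
      exact zero_ne_one h1.2.2.2
  -- some class has five elements
  obtain ⟨i, hi⟩ : ∃ i, (cls i).card = 5 := by
    obtain ⟨a, ha⟩ := h5dvd 0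
    obtain ⟨b, hb⟩ := h5dvd 1
    have hab : a = 1 ∨ b = 1 ∨ a = 0 ∨ b = 0 := by omega
    rcases hab with rfl | rfl | rfl | rfl
    · exact ⟨0, by omega⟩
    · exact ⟨1, by omega⟩
    all_goals exfalso
    · -- `f = 1` off zero
      have hone : ∀ v ∈ S, v ≠ 0 → f v = 1 := fun v hv hv0 =>
        (SixSymplModel31.two_eq (f v)).resolve_left fun e => by
          have hm : v ∈ cls 0 := by simp [cls, hv, hv0, e]
          rw [Finset.card_eq_zero.mp (by omega : (cls 0).card = 0)] at hm
          exact absurd hm (Finset.notMem_empty v)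
      obtain ⟨v, hv, hv'⟩ := h5
      have hv0 : v ≠ 0 := fun e => hv' (by rw [e, map_zero])
      set u := M.act (1, σ5) v with hu
      have huS : u ∈ S := hS _ σ5_spec.1 v hv
      have hvu : ∀ b ∈ S, b ≠ 0 → b ≠ v → M.B v b = 1 := by
        intro b hb hb0 hbv
        have h := hadd v hv b hb
        rw [hone v hv hv0, hone b hb hb0,
          hone _ (add_mem hv hb) fun e => hbv (M.eq_of e).symm] at h
        revert h; generalize M.B v b = j; revert j; decide
      have hu0 : u ≠ 0 := by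
        intro e
        have := M.act_five v
        rw [← hu, e, map_zero, map_zero, map_zero, map_zero] at this
        exact hv0 this.symm
      -- a third vector gives a contradiction with linearity
      obtain ⟨b, hb, hb0, hbv, hbu, hbs⟩ : ∃ b ∈ S, b ≠ 0 ∧ b ≠ v ∧ b ≠ u ∧ b ≠ v + u := by
        by_contra hno
        push Not at hno
        have hsub : (Finset.univ.filter fun x => x ∈ S) ⊆ {0, v, u, v + u} := by
          intro x hx
          simp only [Finset.mem_filter, Finset.mem_univ, true_and] at hx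
          by_cases a1 : x = 0
          · simp [a1]
          by_cases a2 : x = v
          · simp [a2]
          by_cases a3 : x = u
          · simp [a3]
          simp [hno x hx a1 a2 a3]
        have h1 := Finset.card_le_card hsub
        rw [← Fintype.card_subtype, ← Nat.card_eq_fintype_card,
          show Nat.card {x // x ∈ S} = 16 from hc] at h1
        have h2 := (Finset.card_insert_le (0 : V) ({v, u, v + u} : Finset V))
        have h3 := Finset.card_le_three (a := v) (b := u) (c := v + u)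
        omega
      have e1 := hvu b hb hb0 hbv
      have e2 := hvu u huS hu0 hv'
      have e3 := hvu (b + u) (add_mem hb huS) (fun e => hbu (M.eq_of e))
        (fun e => hbs (by rw [← e, add_assoc, M.two, add_zero]))
      rw [M.B_right, e1, e2] at e3
      exact absurd e3 (by decide)
    · -- `f = 0` on `S`
      have hz : ∀ v ∈ S, f v = 0 := by
        intro v hv
        by_cases hv0 : v = 0
        · subst hv0
          have h := hadd 0 hv 0 hv
          rw [add_zero, M.B_zero_left, add_zero] at h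
          exact left_eq_add.mp h
        refine (SixSymplModel31.two_eq (f v)).resolve_right fun e => ?_
        have hm : v ∈ cls 1 := by simp [cls, hv, hv0, e]
        rw [Finset.card_eq_zero.mp (by omega : (cls 1).card = 0)] at hm
        exact absurd hm (Finset.notMem_empty v)
      obtain ⟨v, hv, hv'⟩ := h5
      refine hv' ?_
      rw [hnd v hv fun b hb => by
        have h := hadd v hv b hb
        rwa [hz _ (add_mem hv hb), hz v hv, hz b hb, zero_add, zero_add, eq_comm] at h, map_zero]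
  -- the alternating group embeds in the symmetric group on that class
  obtain ⟨Φ, hΦ⟩ := perm i
  haveI := alternatingGroup.isSimpleGroup (α := Fin 6) (by simp)
  rcases IsSimpleGroup.eq_bot_or_eq_top_of_normal Φ.ker inferInstance with hk | hk
  · have h1 := Nat.card_le_card_of_injective Φ ((MonoidHom.ker_eq_bot_iff Φ).mp hk)
    rw [card_alt, Nat.card_perm, Nat.card_eq_finsetCard, hi] at h1
    exact absurd h1 (by decide)
  · obtain ⟨v, hv⟩ := Finset.card_pos.mp (by omega : 0 < (cls i).card)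
    refine hnofix i v hv ?_
    have := hΦ g5 ⟨v, hv⟩
    rw [show Φ g5 = 1 from MonoidHom.mem_ker.mp (hk ▸ Subgroup.mem_top g5)] at this
    exact this.symm

end Mod

end Cfsg.Agent.SixModule31
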