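import Mathlib
import Cfsg.Agent.Lib.LargeExtraspecial
import Cfsg.Agent.Lib.LargeExtraspecialAct
import Cfsg.Agent.Lib.SixModuleBasic31

/-!
# An involution centraliser `2^{1+8}.(S₃ × H)`

Coordinates on the extraspecial kernel, lifts of elements of odd order and normalisers of the
distinguished subgroup of order three.
-/

set_option autoImplicit false
set_option linter.style.haveILetI false

namespace Cfsg.Agent.NineSetup31

open Subgroup Cfsg.Agent.LargeExtraspecial Cfsg.Agent.LargeExtraspecialAct Cfsg.Agent.SixSymplModel31 Cfsg.Agent.SixModule31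

/-- The coordinate space. -/
abbrev V8 := Fin 8 → ZMod 2

variable {G : Type*} [Group G]

/-- The hypotheses. -/
structure Ctx (Q : Subgroup G) (z : G) where
  h : LHyp Q z
  cardQ : Nat.card Q = 512
  /-- The second factor. -/
  H : Subgroup (Equiv.Perm (Fin 6))
  even_mem : ∀ σ, Even6 σ → σ ∈ H
  /-- The map onto the quotient. -/
  π : ↥(centralizer ({z} : Set G)) →* P36
  ker : ∀ m, π m = 1 ↔ (m : G) ∈ Q
  mem_H : ∀ m, (π m).2 ∈ H
  surj : ∀ τ, ∀ σ ∈ H, ∃ m, π m = (τ, σ)

/-- Powers of an involution with exponent modulo two. -/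
def zp (z : G) (i : ZMod 2) : G := if i = 1 then z else 1

theorem zp_zero (z : G) : zp z 0 = 1 := if_neg (by decide)

theorem zp_one (z : G) : zp z 1 = z := if_pos rfl

theorem zp_add {z : G} (hz : z * z = 1) (i j : ZMod 2) : zp z (i + j) = zp z i * zp z j := by
  rcases two_eq i with rfl | rfl <;> rcases two_eq j with rfl | rfl <;>
    simp [zp_zero, zp_one, hz, show (1 : ZMod 2) + 1 = 0 from rfl]

theorem zp_inj {z : G} (hz : z ≠ 1) {i j : ZMod 2} (h : zp z i = zp z j) : i = j := by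
  rcases two_eq i with rfl | rfl <;> rcases two_eq j with rfl | rfl <;>
    simp [zp_zero, zp_one, hz, hz.symm] at h ⊢

/-- A group of order 256 and exponent two in coordinates. -/
theorem elem256 (H : Type*) [Group H] [Finite H] (he : ∀ a : H, a * a = 1) (hc : Nat.card H = 256) :
    ∃ ν : H → V8, Function.Bijective ν ∧ ∀ a b, ν (a * b) = ν a + ν b := by
  letI : CommGroup H :=
    { (inferInstance : Group H) with
      mul_comm := fun a b => by
        have hi : ∀ a : H, a⁻¹ = a := fun a => inv_eq_of_mul_eq_one_right (he a)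
        calc a * b = (a * b)⁻¹ := (hi _).symm
          _ = b * a := by rw [mul_inv_rev, hi, hi] }
  letI : Module (ZMod 2) (Additive H) :=
    AddCommGroup.zmodModule fun a => by rw [two_nsmul]; exact he a.toMul
  haveI : Module.Finite (ZMod 2) (Additive H) := Module.Finite.of_finite
  have hr : Module.finrank (ZMod 2) (Additive H) = 8 := by
    have h := Module.natCard_eq_pow_finrank (K := ZMod 2) (V := Additive H)
    rw [Nat.card_congr Additive.toMul, hc, Nat.card_zmod] at h
    exact (Nat.pow_right_injective (le_refl 2) (show 2 ^ 8 = _ from h)).symm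
  let e := (Module.finBasisOfFinrankEq (ZMod 2) (Additive H) hr).equivFun
  exact ⟨fun a => e (Additive.ofMul a), e.bijective.comp Additive.ofMul.bijective,
    fun a b => by simp only [ofMul_mul, map_add]⟩

theorem v8_two (a : V8) : a + a = 0 := funext fun i => CharTwo.add_self_eq_zero (a i)

/-- Coordinates. -/
structure Co {Q : Subgroup G} {z : G} (X : Ctx Q z) where
  /-- The map. -/
  ν : G → V8
  /-- The module. -/
  M : SixModule31.Mod V8
  hH : M.H = X.H
  add : ∀ a ∈ Q, ∀ b ∈ Q, ν (a * b) = ν a + ν b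
  surj : ∀ v, ∃ a ∈ Q, ν a = v
  kerν : ∀ a ∈ Q, ν a = 0 ↔ a = 1 ∨ a = z
  sq : ∀ a ∈ Q, a * a = zp z (M.q (ν a))
  conj : ∀ a ∈ Q, ∀ b ∈ Q, a * b * a⁻¹ = zp z (M.B (ν a) (ν b)) * b
  act : ∀ (m : ↥(centralizer ({z} : Set G))), ∀ a ∈ Q,
    ν ((m : G) * a * (m : G)⁻¹) = M.act (X.π m) (ν a)

namespace Ctx

variable [Finite G] {Q : Subgroup G} {z : G} (X : Ctx Q z)
include X

theorem Q_le : Q ≤ centralizer ({z} : Set G) := fun a ha =>
  mem_centralizer_singleton_iff.mpr (X.h.comm a ha)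

theorem norm (m : ↥(centralizer ({z} : Set G))) {a : G} (ha : a ∈ Q) :
    (m : G) * a * (m : G)⁻¹ ∈ Q :=
  X.h.norm m (mem_centralizer_singleton_iff.mp m.2) a ha

theorem pow_mem {m : ↥(centralizer ({z} : Set G))} {n : ℕ} (hn : (X.π m) ^ n = 1) :
    (m : G) ^ (4 * n) = 1 := by
  have hq : ((m ^ n : ↥(centralizer ({z} : Set G))) : G) ∈ Q := (X.ker _).mp (by rw [map_pow, hn])
  rw [mul_comm, pow_mul]
  exact X.h.pow_four (by simpa using hq)

/-- Lifts of elements of odd order. -/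
theorem lift_odd {p : P36} (hp : p.2 ∈ X.H) {n : ℕ} (hn : Odd n) (hpn : p ^ n = 1)
    (m : ↥(centralizer ({z} : Set G))) (hm : X.π m = p) :
    ∃ j : ℕ, X.π (m ^ j) = p ∧ ((m : G) ^ j) ^ n = 1 := by
  have hco : Nat.Coprime 4 n := (Nat.coprime_two_left.mpr hn).pow_left 2
  obtain ⟨j, h1, h2⟩ := Nat.chineseRemainder hco 0 1
  refine ⟨j, ?_, ?_⟩
  · rw [map_pow, hm]
    rcases eq_or_ne n 1 with rfl | hn1
    · rw [pow_one] at hpn
      rw [hpn, one_pow]
    conv_lhs => rw [← Nat.mod_add_div j n]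
    rw [pow_add, pow_mul, hpn, one_pow, mul_one, show j % n = 1 by
      rw [h2]; exact Nat.one_mod_eq_one.mpr hn1, pow_one]
  · obtain ⟨k, rfl⟩ := Nat.modEq_zero_iff_dvd.mp h1
    rw [← pow_mul, show 4 * k * n = (4 * n) * k by ring, pow_mul, X.pow_mem (by rw [hm]; exact hpn),
      one_pow]

theorem cent_trivial {b : G} (hbz : b * z = z * b) {n : ℕ} (hn : Odd n) (hbn : b ^ n = 1)
    (hfix : ∀ y ∈ Q, b * y * b⁻¹ = y ∨ b * y * b⁻¹ = z * y) : b ∈ Q := by
  rcases X.h.cent b fun y hy => fix_of_fix_mod X.h.toExt hn hbn hbz (hfix y hy) with e | e <;> rw [e]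
  exacts [Q.one_mem, X.h.mem]

theorem exists_co : Nonempty (Co X) := by
  classical
  let Z : Subgroup ↥Q := (zpowers z).subgroupOf Q
  have hZ : ∀ a : ↥Q, a ∈ Z ↔ (a : G) = 1 ∨ (a : G) = z := by
    intro a
    refine ⟨fun h => X.h.eq_of_mem_zpowers h, fun h => ?_⟩
    show (a : G) ∈ zpowers z
    rcases h with e | e <;> rw [e]
    exacts [one_mem _, mem_zpowers z]
  haveI : Z.Normal := ⟨fun a ha g => by
    have e : g * a * g⁻¹ = a := Subtype.ext (by
      simp only [coe_mul, coe_inv]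
      have hc : (g : G) * a = a * g := by
        rcases (hZ a).mp ha with e | e <;> rw [e]
        · simp
        · exact X.h.comm g g.2
      rw [hc, mul_inv_cancel_right])
    rw [e]; exact ha⟩
  have hq : ∀ a : ↥Q ⧸ Z, a * a = 1 := by
    intro a
    induction a using QuotientGroup.induction_on with
    | _ a =>
      rw [← QuotientGroup.mk_mul, QuotientGroup.eq_one_iff, hZ]
      exact X.h.sq a a.2
  have hcard : Nat.card (↥Q ⧸ Z) = 256 := by
    have h := Subgroup.card_eq_card_quotient_mul_card_subgroup Z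
    rw [Nat.card_congr (Subgroup.subgroupOfEquivOfLe (zpowers_le.mpr X.h.mem)).toEquiv,
      Nat.card_zpowers, X.h.orderOf_z, X.cardQ] at h
    omega
  obtain ⟨ν₀, hbij, hadd⟩ := elem256 _ hq hcard
  let ν : G → V8 := fun a => if h : a ∈ Q then ν₀ (QuotientGroup.mk ⟨a, h⟩) else 0
  have hν : ∀ (a : G) (h : a ∈ Q), ν a = ν₀ (QuotientGroup.mk ⟨a, h⟩) := fun a h => dif_pos h
  have hzero : ν₀ 1 = 0 := by
    have := hadd 1 1
    rw [mul_one] at this
    exact left_eq_add.mp this
  have add : ∀ a ∈ Q, ∀ b ∈ Q, ν (a * b) = ν a + ν b := by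
    intro a ha b hb
    rw [hν a ha, hν b hb, hν _ (Q.mul_mem ha hb), ← hadd]
    rfl
  have kerν : ∀ a ∈ Q, ν a = 0 ↔ a = 1 ∨ a = z := by
    intro a ha
    rw [hν a ha, ← hzero, hbij.1.eq_iff, QuotientGroup.eq_one_iff, hZ]
  have surj : ∀ v, ∃ a ∈ Q, ν a = v := by
    intro w
    obtain ⟨b, rfl⟩ := hbij.2 w
    induction b using QuotientGroup.induction_on with
    | _ b => exact ⟨b, b.2, hν _ b.2⟩
  have ν_inv : ∀ a ∈ Q, ν a⁻¹ = ν a := by
    intro a ha
    have h := add _ (Q.inv_mem ha) a ha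
    rw [inv_mul_cancel, (kerν 1 Q.one_mem).mpr (Or.inl rfl)] at h
    rw [← add_left_inj (ν a), ← h, v8_two]
  have same : ∀ a ∈ Q, ∀ b ∈ Q, ν a = ν b → a = b ∨ a = z * b := by
    intro a ha b hb e
    have h := (kerν _ (Q.mul_mem ha (Q.inv_mem hb))).mp (by
      rw [add a ha _ (Q.inv_mem hb), ν_inv b hb, e, v8_two])
    exact h.imp mul_inv_eq_one.mp (fun e' => mul_inv_eq_iff_eq_mul.mp e')
  choose s hs1 hs2 using surj
  have hz2 : ∀ i : ZMod 2, ∀ a ∈ Q, Commute (zp z i) a := by
    intro i a ha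
    rcases two_eq i with rfl | rfl
    · rw [zp_zero]; exact Commute.one_left a
    · rw [zp_one]; exact (X.h.comm a ha).symm
  let q : V8 → ZMod 2 := fun w => if s w * s w = z then 1 else 0
  have hsq : ∀ a ∈ Q, a * a = zp z (q (ν a)) := by
    intro a ha
    have e : a * a = s (ν a) * s (ν a) := by
      rcases same a ha _ (hs1 _) (hs2 _).symm with e | e <;> conv_lhs => rw [e]
      rw [(show Commute (s (ν a)) z from X.h.comm _ (hs1 _)).mul_mul_mul_comm, X.h.zz,
        one_mul]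
    simp only [q]
    rw [e]
    rcases X.h.sq _ (hs1 (ν a)) with e' | e' <;> rw [e']
    · rw [if_neg (Ne.symm X.h.ne_one), zp_zero]
    · rw [if_pos rfl, zp_one]
  let B : V8 → V8 → ZMod 2 := fun u w => q (u + w) + q u + q w
  have hconj : ∀ a ∈ Q, ∀ b ∈ Q, a * b * a⁻¹ = zp z (B (ν a) (ν b)) * b := by
    intro a ha b hb
    obtain ⟨c, hc⟩ : ∃ c, a * b * a⁻¹ = zp z c * b := by
      rcases X.h.conj a ha b hb with e | e
      · exact ⟨0, by rw [zp_zero, one_mul]; exact e⟩
      · exact ⟨1, by rw [zp_one]; exact e⟩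
    have e2 : a * b * (a * b) = zp z (c + q (ν a) + q (ν b)) := by
      calc a * b * (a * b) = (a * b * a⁻¹) * (a * a) * b := by group
        _ = zp z c * b * zp z (q (ν a)) * b := by rw [hc, hsq a ha]
        _ = zp z c * zp z (q (ν a)) * (b * b) := by
          rw [mul_assoc (zp z c) b, ← (hz2 _ b hb).eq]; group
        _ = _ := by rw [hsq b hb, zp_add X.h.zz, zp_add X.h.zz]
    have e1 := hsq _ (Q.mul_mem ha hb)
    rw [add a ha b hb, e2] at e1
    have e3 := zp_inj X.h.ne_one e1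
    rw [hc]
    congr 2
    simp only [B, ← e3]
    generalize q (ν a) = i
    generalize q (ν b) = j
    clear e1 e2 e3 hc
    revert c i j
    decide
  have hBl : ∀ u u' w, B (u + u') w = B u w + B u' w := by
    intro u u' w
    obtain ⟨a, ha, rfl⟩ : ∃ a ∈ Q, ν a = u := ⟨s u, hs1 u, hs2 u⟩
    obtain ⟨a', ha', rfl⟩ : ∃ a ∈ Q, ν a = u' := ⟨s u', hs1 u', hs2 u'⟩
    obtain ⟨b, hb, rfl⟩ : ∃ a ∈ Q, ν a = w := ⟨s w, hs1 w, hs2 w⟩
    have e1 := hconj _ (Q.mul_mem ha ha') b hb
    rw [add a ha a' ha'] at e1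
    apply zp_inj X.h.ne_one
    apply mul_right_cancel (b := b)
    rw [← e1, zp_add X.h.zz]
    calc a * a' * b * (a * a')⁻¹ = a * (a' * b * a'⁻¹) * a⁻¹ := by group
      _ = a * zp z (B (ν a') (ν b)) * b * a⁻¹ := by rw [hconj a' ha' b hb]; group
      _ = zp z (B (ν a') (ν b)) * (a * b * a⁻¹) := by rw [← (hz2 _ a ha).eq]; group
      _ = zp z (B (ν a) (ν b)) * zp z (B (ν a') (ν b)) * b := by
        rw [hconj a ha b hb, ← mul_assoc, (hz2 _ _ (show zp z (B (ν a) (ν b)) ∈ Q by
          unfold zp; split_ifs <;> [exact X.h.mem; exact Q.one_mem])).eq]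
  -- the action
  let T : P36 → V8 → V8 := fun p v =>
    if hh : ∃ m, X.π m = p then ν ((hh.choose : G) * s v * (hh.choose : G)⁻¹) else v
  have hT : ∀ (m : ↥(centralizer ({z} : Set G))) (a : G), a ∈ Q →
      ν ((m : G) * a * (m : G)⁻¹) = T (X.π m) (ν a) := by
    intro m a ha
    have hh : ∃ m', X.π m' = X.π m := ⟨m, rfl⟩
    simp only [T, dif_pos hh]
    set m' := hh.choose with hm'
    have hq : ((m'⁻¹ * m : ↥(centralizer ({z} : Set G))) : G) ∈ Q :=
      (X.ker _).mp (by rw [map_mul, map_inv, hh.choose_spec, inv_mul_cancel])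
    set r : G := ((m'⁻¹ * m : ↥(centralizer ({z} : Set G))) : G) with hr
    have e : (m : G) * a * (m : G)⁻¹ = (m' : G) * (r * a * r⁻¹) * (m' : G)⁻¹ := by
      rw [hr, coe_mul, coe_inv]; group
    have hsame : ∀ x ∈ Q, ∀ y ∈ Q, ν x = ν y →
        ν ((m' : G) * x * (m' : G)⁻¹) = ν ((m' : G) * y * (m' : G)⁻¹) := by
      intro x hx y hy exy
      rcases same x hx y hy exy with rfl | rfl
      · rfl
      · have hmz : Commute (m' : G) z := mem_centralizer_singleton_iff.mp m'.2
        rw [show (m' : G) * (z * y) * (m' : G)⁻¹ = z * ((m' : G) * y * (m' : G)⁻¹) by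
          rw [← mul_assoc, hmz.eq]; group, add z X.h.mem _ (X.norm m' hy),
          (kerν z X.h.mem).mpr (Or.inr rfl), zero_add]
    rw [e]
    refine hsame _ (Q.mul_mem (Q.mul_mem hq ha) (Q.inv_mem hq)) _ (hs1 _) ?_
    rw [hs2, add _ (Q.mul_mem hq ha) _ (Q.inv_mem hq), add r hq a ha, ν_inv r hq, add_right_comm,
      v8_two, zero_add]
  have hTadd : ∀ p v w, T p (v + w) = T p v + T p w := by
    intro p v w
    by_cases hh : ∃ m, X.π m = p
    · obtain ⟨m, rfl⟩ := hh
      rw [← hs2 v, ← hs2 w, ← add _ (hs1 v) _ (hs1 w), ← hT m _ (Q.mul_mem (hs1 v) (hs1 w)),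
        ← hT m _ (hs1 v), ← hT m _ (hs1 w), ← add _ (X.norm m (hs1 v)) _ (X.norm m (hs1 w))]
      congr 1
      group
    · simp only [T, dif_neg hh]
  let act : P36 → V8 →+ V8 := fun p => AddMonoidHom.mk' (T p) (hTadd p)
  have hex : ∀ p : P36, p.2 ∈ X.H → ∃ m, X.π m = p := fun p hp => X.surj p.1 p.2 hp
  let M : SixModule31.Mod V8 :=
    { q := q, B := B, H := X.H, act := act
      q_add := fun a b => by
        simp only [B]
        generalize q (a + b) = i; generalize q a = j; generalize q b = k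
        revert i j k; decide
      B_left := hBl
      B_comm := fun a b => by simp only [B, add_comm a b]; ring
      nondeg := fun u hu => by
        obtain ⟨a, ha, rfl⟩ : ∃ a ∈ Q, ν a = u := ⟨s u, hs1 u, hs2 u⟩
        refine (kerν a ha).mpr (X.h.central ha fun y hy => ?_)
        have e := hconj a ha y hy
        rw [hu, zp_zero, one_mul] at e
        exact (mul_inv_eq_iff_eq_mul.mp e).symm
      two := v8_two
      card := by
        rw [Nat.card_eq_fintype_card, Fintype.card_fun, ZMod.card, Fintype.card_fin]; rfl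
      even_mem := X.even_mem
      act_one := fun v => by
        show T 1 v = v
        have := hT 1 (s v) (hs1 v)
        rw [map_one, hs2, OneMemClass.coe_one, one_mul, inv_one, mul_one, hs2] at this
        exact this.symm
      act_mul := fun p p' hp hp' v => by
        obtain ⟨m, rfl⟩ := hex p hp
        obtain ⟨m', rfl⟩ := hex p' hp'
        show T (X.π m * X.π m') v = T (X.π m) (T (X.π m') v)
        rw [← map_mul, ← hs2 v, ← hT _ _ (hs1 v), ← hT _ _ (hs1 v), ← hT m _ (X.norm m' (hs1 v))]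
        congr 1
        rw [coe_mul]; group
      act_q := fun p hp v => by
        obtain ⟨m, rfl⟩ := hex p hp
        show q (T (X.π m) v) = q v
        rw [← hs2 v, ← hT _ _ (hs1 v)]
        apply zp_inj X.h.ne_one
        rw [← hsq _ (X.norm m (hs1 v)), ← hsq _ (hs1 v)]
        rw [show (m : G) * s v * (m : G)⁻¹ * ((m : G) * s v * (m : G)⁻¹) =
          (m : G) * (s v * s v) * (m : G)⁻¹ by group]
        have hmz : Commute (m : G) z := mem_centralizer_singleton_iff.mp m.2
        rcases X.h.sq _ (hs1 v) with e | e <;> rw [e]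
        · group
        · rw [hmz.eq, mul_inv_cancel_right]
      faithful := fun p hp hodd hfix => by
        obtain ⟨m₀, hm₀⟩ := hex p hp
        obtain ⟨j, hj, hjn⟩ := X.lift_odd hp hodd (pow_orderOf_eq_one p) m₀ hm₀
        rw [← hj, X.ker]
        refine X.cent_trivial (mem_centralizer_singleton_iff.mp (m₀ ^ j).2) hodd
          (by rw [coe_pow]; exact hjn) fun y hy => ?_
        refine same _ (X.norm _ hy) y hy ?_
        rw [hT _ y hy, hj]
        exact hfix _ }
  exact ⟨{ ν := ν, M := M, hH := rfl, add := add, surj := fun v => ⟨s v, hs1 v, hs2 v⟩,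
           kerν := kerν, sq := hsq, conj := hconj, act := fun m a ha => hT m a ha }⟩

/-- The distinguished element of order three. -/
theorem exists_three : ∃ ω : ↥(centralizer ({z} : Set G)), X.π ω = (c3, 1) ∧ (ω : G) ^ 3 = 1 := by
  obtain ⟨m, hm⟩ := X.surj c3 1 X.H.one_mem
  obtain ⟨j, hj, hjn⟩ := X.lift_odd (p := (c3, 1)) X.H.one_mem (n := 3) (by decide) (by decide) m hm
  exact ⟨m ^ j, hj, by rw [coe_pow]; exact hjn⟩

theorem three_normal : ∀ τ : Equiv.Perm (Fin 3),
    τ * c3 * τ⁻¹ = if Equiv.Perm.sign τ = 1 then c3 else c3⁻¹ := by decide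

/-- Lifts normalising the subgroup of order three. -/
theorem exists_norm {ω : ↥(centralizer ({z} : Set G))} (hω : X.π ω = (c3, 1))
    (hω3 : (ω : G) ^ 3 = 1) (τ : Equiv.Perm (Fin 3)) {σ : Equiv.Perm (Fin 6)} (hσ : σ ∈ X.H) :
    ∃ m : ↥(centralizer ({z} : Set G)), X.π m = (τ, σ) ∧
      (m : G) * ω * (m : G)⁻¹ = if Equiv.Perm.sign τ = 1 then (ω : G) else (ω : G)⁻¹ := by
  haveI : Fact (Nat.Prime 3) := ⟨Nat.prime_three⟩
  let L : Subgroup ↥(centralizer ({z} : Set G)) := (zpowers ((c3, 1) : P36)).comap X.π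
  haveI hLn : L.Normal := by
    have hn : ((zpowers ((c3, 1) : P36))).Normal := by
      refine ⟨fun a ha g => ?_⟩
      obtain ⟨k, rfl⟩ := mem_zpowers_iff.mp ha
      rw [← conj_zpow]
      refine Subgroup.zpow_mem _ ?_ k
      have e : g * (c3, 1) * g⁻¹ = (g.1 * c3 * g.1⁻¹, 1) := by ext <;> simp
      rw [e, X.three_normal]
      split_ifs
      · exact mem_zpowers _
      · rw [show ((c3⁻¹, 1) : P36) = (c3, 1)⁻¹ by ext <;> simp]
        exact Subgroup.inv_mem _ (mem_zpowers _)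
    exact hn.comap X.π
  have hcardL : Nat.card L = 1536 := by
    have h1 := Subgroup.card_eq_card_quotient_mul_card_subgroup ((X.π.ker).subgroupOf L)
    have hk : Nat.card ((X.π.ker).subgroupOf L) = 512 := by
      rw [Nat.card_congr (Subgroup.subgroupOfEquivOfLe (H := X.π.ker) (K := L) (fun m hm => by
        rw [Subgroup.mem_comap, MonoidHom.mem_ker.mp hm]; exact one_mem _)).toEquiv, ← X.cardQ]
      exact Nat.card_congr
        { toFun := fun m => ⟨(m.1 : G), (X.ker _).mp (MonoidHom.mem_ker.mp m.2)⟩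
          invFun := fun a => ⟨⟨a.1, X.Q_le a.2⟩, MonoidHom.mem_ker.mpr ((X.ker _).mpr a.2)⟩
          left_inv := fun _ => rfl
          right_inv := fun _ => rfl }
    have hq : Nat.card (↥L ⧸ (X.π.ker).subgroupOf L) = 3 := by
      rw [show (X.π.ker).subgroupOf L = (X.π.comp L.subtype).ker from rfl,
        Nat.card_congr (QuotientGroup.quotientKerEquivRange (X.π.comp L.subtype)).toEquiv,
        show (X.π.comp L.subtype).range = zpowers ((c3, 1) : P36) from le_antisymm
          (by rintro _ ⟨m, rfl⟩; exact m.2)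
          (zpowers_le.mpr ⟨⟨ω, by rw [Subgroup.mem_comap, hω]; exact mem_zpowers _⟩, hω⟩),
        Nat.card_zpowers]
      exact orderOf_eq_prime (by decide) (by decide)
    rw [h1, hk, hq]
  have hωL : ω ∈ L := by rw [Subgroup.mem_comap, hω]; exact mem_zpowers _
  have hω1 : ω ≠ 1 := fun e => by rw [e, map_one] at hω; exact absurd hω (by decide)
  have hord : orderOf (⟨ω, hωL⟩ : L) = 3 :=
    orderOf_eq_prime (Subtype.ext (Subtype.ext (by simpa using hω3))) fun e =>
      hω1 (congrArg Subtype.val e)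
  have hP : Nat.card (zpowers (⟨ω, hωL⟩ : L)) = 3 ^ (Nat.card L).factorization 3 := by
    rw [Nat.card_zpowers, hord, hcardL, show (1536 : ℕ) = 3 * 2 ^ 9 from rfl,
      Nat.factorization_mul (by norm_num) (by norm_num), Finsupp.add_apply,
      Nat.Prime.factorization_self Nat.prime_three, Nat.Prime.factorization_pow Nat.prime_two]
    simp
  let P : Sylow 3 L := Sylow.ofCard _ hP
  have htop := Sylow.normalizer_sup_eq_top P
  obtain ⟨m₀, hm₀⟩ := X.surj τ σ hσ
  have hm : m₀ ∈ normalizer (((P : Subgroup L).map L.subtype : Subgroup _) : Set _) ⊔ L :=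
    htop ▸ mem_top m₀
  obtain ⟨n, hn, l, hl, hnl⟩ := Subgroup.mem_sup_of_normal_right.mp hm
  have hPmap : (P : Subgroup L).map L.subtype = zpowers ω := by
    show (zpowers (⟨ω, hωL⟩ : L)).map L.subtype = _
    rw [MonoidHom.map_zpowers]; rfl
  rw [hPmap] at hn
  obtain ⟨k, hk⟩ := mem_zpowers_iff.mp (show X.π l ∈ zpowers ((c3, 1) : P36) from hl)
  refine ⟨n * ω ^ k, ?_, ?_⟩
  · rw [map_mul, map_zpow, hω, hk, ← map_mul, hnl, hm₀]
  · have hnω : n * ω * n⁻¹ ∈ zpowers ω := (mem_normalizer_iff.mp hn ω).mp (mem_zpowers ω)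
    have e : (n * ω ^ k) * ω * (n * ω ^ k)⁻¹ = n * ω * n⁻¹ := by group
    have hπn : X.π (n * ω * n⁻¹) = (if Equiv.Perm.sign τ = 1 then c3 else c3⁻¹, 1) := by
      rw [← e, map_mul, map_mul, map_inv, map_mul, map_zpow, hω, hk, ← map_mul, hnl, hm₀]
      ext1
      · exact X.three_normal τ
      · simp
    have hpow : ∀ w ∈ zpowers ω, w = 1 ∨ w = ω ∨ w = ω⁻¹ := by
      intro w hw
      obtain ⟨i, rfl⟩ := mem_zpowers_iff.mp hw
      have h3 : ω ^ (3 : ℤ) = 1 := Subtype.ext (by simpa [zpow_ofNat] using hω3)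
      rw [← Int.emod_add_mul_ediv i 3, zpow_add, zpow_mul, h3, one_zpow, mul_one]
      have h0 := Int.emod_nonneg i (show (3 : ℤ) ≠ 0 by norm_num)
      have h1 := Int.emod_lt_of_pos i (show (0 : ℤ) < 3 by norm_num)
      interval_cases hr : i % 3
      · exact Or.inl (zpow_zero ω)
      · exact Or.inr (Or.inl (zpow_one ω))
      · refine Or.inr (Or.inr (eq_inv_of_mul_eq_one_left ?_))
        rw [← zpow_add_one]; exact h3
    have hgoal : n * ω * n⁻¹ = if Equiv.Perm.sign τ = 1 then ω else ω⁻¹ := by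
      rcases hpow _ hnω with w | w | w <;> rw [w] at hπn ⊢
      · rw [map_one] at hπn
        split_ifs at hπn <;> exact absurd hπn (by decide)
      · rw [hω] at hπn
        split_ifs at hπn ⊢
        · rfl
        · exact absurd hπn (by decide)
      · rw [map_inv, hω] at hπn
        split_ifs at hπn ⊢
        · exact absurd hπn (by decide)
        · rfl
    have hg := congrArg Subtype.val (e.trans hgoal)
    rw [apply_ite Subtype.val] at hg
    simpa using hg

end Ctx

namespace Co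

variable [Finite G] {Q : Subgroup G} {z : G} {X : Ctx Q z} (K : Co X)
include K

theorem ν_one : K.ν 1 = 0 := (K.kerν 1 Q.one_mem).mpr (Or.inl rfl)

theorem ν_z : K.ν z = 0 := (K.kerν z X.h.mem).mpr (Or.inr rfl)

theorem ν_inv {a : G} (ha : a ∈ Q) : K.ν a⁻¹ = K.ν a := by
  have h := K.add _ (Q.inv_mem ha) a ha
  rw [inv_mul_cancel, K.ν_one] at h
  rw [← add_left_inj (K.ν a), ← h, v8_two]

theorem same {a b : G} (ha : a ∈ Q) (hb : b ∈ Q) (e : K.ν a = K.ν b) : a = b ∨ a = z * b := by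
  have h := (K.kerν _ (Q.mul_mem ha (Q.inv_mem hb))).mp (by
    rw [K.add a ha _ (Q.inv_mem hb), K.ν_inv hb, e, v8_two])
  exact h.imp mul_inv_eq_one.mp (fun e' => mul_inv_eq_iff_eq_mul.mp e')

theorem comm_iff {a b : G} (ha : a ∈ Q) (hb : b ∈ Q) :
    a * b = b * a ↔ K.M.B (K.ν a) (K.ν b) = 0 := by
  rw [← mul_inv_eq_iff_eq_mul (b := a), K.conj a ha b hb]
  constructor
  · intro e
    refine zp_inj X.h.ne_one ?_
    rw [zp_zero]
    exact mul_eq_right.mp e
  · intro e
    rw [e, zp_zero, one_mul]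

/-- The preimage of an additive subgroup. -/
def pre (S : AddSubgroup V8) : Subgroup G where
  carrier := {a | a ∈ Q ∧ K.ν a ∈ S}
  one_mem' := ⟨Q.one_mem, by rw [K.ν_one]; exact S.zero_mem⟩
  mul_mem' := fun {a b} ha hb =>
    ⟨Q.mul_mem ha.1 hb.1, by rw [K.add a ha.1 b hb.1]; exact S.add_mem ha.2 hb.2⟩
  inv_mem' := fun {a} ha => ⟨Q.inv_mem ha.1, by rw [K.ν_inv ha.1]; exact ha.2⟩

/-- An abelian subgroup of `Q` has order at most 32. -/
theorem abelian_le (S : Subgroup G) (hS : S ≤ Q) (hab : ∀ a ∈ S, ∀ b ∈ S, a * b = b * a) :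
    Nat.card S ≤ 32 := by
  classical
  let T : AddSubgroup V8 :=
    { carrier := {v | ∃ a ∈ S, K.ν a = v}
      zero_mem' := ⟨1, S.one_mem, K.ν_one⟩
      add_mem' := by
        rintro _ _ ⟨a, ha, rfl⟩ ⟨b, hb, rfl⟩
        exact ⟨a * b, S.mul_mem ha hb, K.add a (hS ha) b (hS hb)⟩
      neg_mem' := by
        rintro _ ⟨a, ha, rfl⟩
        exact ⟨a, ha, (neg_eq_of_add_eq_zero_left (v8_two _)).symm⟩ }
  have hiso : ∀ u ∈ T, ∀ v ∈ T, K.M.B u v = 0 := by
    rintro _ ⟨a, ha, rfl⟩ _ ⟨b, hb, rfl⟩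
    exact (K.comm_iff (hS ha) (hS hb)).mp (hab a ha b hb)
  let P : AddSubgroup V8 :=
    { carrier := {v | ∀ t ∈ T, K.M.B v t = 0}
      zero_mem' := fun t _ => K.M.B_zero_left t
      add_mem' := fun {a b} ha hb t ht => by rw [K.M.B_left, ha t ht, hb t ht, add_zero]
      neg_mem' := fun {a} ha => by rw [neg_eq_of_add_eq_zero_left (v8_two a)]; exact ha }
  have hTP : T ≤ P := fun u hu t ht => hiso u hu t ht
  letI : Module (ZMod 2) (V8 ⧸ P) := AddCommGroup.zmodModule fun a => by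
    induction a using QuotientAddGroup.induction_on with
    | _ v => rw [two_nsmul, ← QuotientAddGroup.mk_add, v8_two]; rfl
  haveI : Module.Finite (ZMod 2) (V8 ⧸ P) := Module.Finite.of_finite
  haveI : Finite ((V8 ⧸ P) →ₗ[ZMod 2] ZMod 2) := Finite.of_injective _ DFunLike.coe_injective
  let Φ : T → ((V8 ⧸ P) →ₗ[ZMod 2] ZMod 2) := fun t =>
    (QuotientAddGroup.lift P (AddMonoidHom.mk' (fun v => K.M.B v t) fun a b => K.M.B_left a b t)
      (fun v hv => hv t t.2)).toZModLinearMap 2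
  have hinj : Function.Injective Φ := by
    intro t t' e
    refine Subtype.ext (K.M.eq_of (K.M.nondeg _ fun v => ?_))
    have h := LinearMap.congr_fun e (v : V8 ⧸ P)
    change K.M.B v t = K.M.B v t' at h
    rw [K.M.B_comm, K.M.B_right, h, CharTwo.add_self_eq_zero]
  have h1 := Nat.card_le_card_of_injective Φ hinj
  rw [Module.natCard_eq_pow_finrank (K := ZMod 2) (V := (V8 ⧸ P) →ₗ[ZMod 2] ZMod 2),
    Subspace.dual_finrank_eq, ← Module.natCard_eq_pow_finrank] at h1
  have h2 := AddSubgroup.card_eq_card_quotient_mul_card_addSubgroup P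
  rw [K.M.card] at h2
  have h3 : Nat.card T ≤ Nat.card P :=
    Nat.le_of_dvd Nat.card_pos (AddSubgroup.card_dvd_of_le hTP)
  have h4 : Nat.card T ≤ 16 := by nlinarith
  have h5 : Nat.card S ≤ 2 * Nat.card T := by
    choose f hf1 hf2 using fun t : T => (t.2 : ∃ a ∈ S, K.ν a = t)
    refine (Nat.card_le_card_of_surjective
      (fun p : Bool × T => (⟨if p.1 ∧ z ∈ S then z * f p.2 else f p.2, by
        split_ifs with h
        · exact S.mul_mem h.2 (hf1 _)
        · exact hf1 _⟩ : S)) ?_).trans (by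
      rw [Nat.card_prod, Nat.card_eq_fintype_card, Fintype.card_bool])
    rintro ⟨a, ha⟩
    rcases K.same (hS ha) (hS (hf1 ⟨_, a, ha, rfl⟩)) (hf2 ⟨_, a, ha, rfl⟩).symm with e | e
    · exact ⟨(false, ⟨_, a, ha, rfl⟩), Subtype.ext (by simp [← e])⟩
    · have hz : z ∈ S := by
        have := S.mul_mem ha (S.inv_mem (hf1 ⟨_, a, ha, rfl⟩))
        conv at this => arg 2; arg 1; rw [e]
        rwa [mul_inv_cancel_right] at this
      exact ⟨(true, ⟨_, a, ha, rfl⟩), Subtype.ext (by simp [hz, ← e])⟩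
  omega

end Co

end Cfsg.Agent.NineSetup31
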