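import Mathlib
import Cfsg.Agent.Lib.SixModuleBasic31

/-!
# The two shapes of the module

Either the space is the tensor product of the natural modules, or the element of order three of
the first factor has a fixed space of order 64.
-/

set_option autoImplicit false

namespace Cfsg.Agent.SixModule31

open Cfsg.Agent.SixSymplModel31

/-- The action of the first factor on pairs. -/
def actL (τ : Equiv.Perm (Fin 3)) (u : W4 × W4) : W4 × W4 :=
  ((nat3 (τ 0)).1 • u.1 + (nat3 (τ 1)).1 • u.2, (nat3 (τ 0)).2 • u.1 + (nat3 (τ 1)).2 • u.2)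

theorem actT_eq (τ : Equiv.Perm (Fin 3)) (σ : Equiv.Perm (Fin 6)) (u : W4 × W4) :
    actT (τ, σ) u = actL τ (act σ u.1, act σ u.2) := rfl

theorem perm3_cases : ∀ τ : Equiv.Perm (Fin 3),
    τ ∈ [1, c3, c3 * c3, t3, c3 * t3, c3 * (c3 * t3)] := by decide +kernel

theorem actL_one (u : W4 × W4) : actL 1 u = u := by
  obtain ⟨a, b⟩ := u
  simp [actL, nat3]

theorem actL_c3 (a b : W4) : actL c3 (a, b) = (b, a + b) := by
  simp [actL, nat3, c3, Equiv.swap_apply_def]

theorem actL_t3 (a b : W4) : actL t3 (a, b) = (a + b, b) := by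
  simp [actL, nat3, t3, Equiv.swap_apply_def]

theorem actL_rest (a b : W4) : actL (c3 * c3) (a, b) = (a + b, a) ∧
    actL (c3 * t3) (a, b) = (b, a) ∧ actL (c3 * (c3 * t3)) (a, b) = (a, a + b) := by
  refine ⟨?_, ?_, ?_⟩ <;> simp [actL, nat3, c3, t3, Equiv.swap_apply_def]

theorem c3_pow : c3 * c3 * c3 = 1 ∧ t3 * t3 = 1 ∧ t3 * c3 = c3 * c3 * t3 ∧ c3 ≠ 1 ∧ c3 ^ 3 = 1 := by
  decide

namespace Mod

variable {V : Type*} [AddCommGroup V] [Finite V] (M : Mod V)

theorem w_cube (v : V) : M.w (M.w (M.w v)) = v := by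
  rw [w, ← M.act_pair, ← M.act_pair, c3_pow.1]
  exact M.act_one v

theorem t_t (v : V) : M.t (M.t v) = v := by
  rw [t, ← M.act_pair, c3_pow.2.1]
  exact M.act_one v

theorem t_w (v : V) : M.t (M.w v) = M.w (M.w (M.t v)) := by
  rw [t, w, ← M.act_pair, c3_pow.2.2.1, M.act_pair, M.act_pair]

theorem w_comm {σ : Equiv.Perm (Fin 6)} (hσ : σ ∈ M.H) (v : V) :
    M.w (M.act (1, σ) v) = M.act (1, σ) (M.w v) := M.act_comm c3 hσ v

theorem t_comm {σ : Equiv.Perm (Fin 6)} (hσ : σ ∈ M.H) (v : V) :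
    M.t (M.act (1, σ) v) = M.act (1, σ) (M.t v) := M.act_comm t3 hσ v

theorem act_split (τ : Equiv.Perm (Fin 3)) {σ : Equiv.Perm (Fin 6)} (hσ : σ ∈ M.H) (v : V) :
    M.act (τ, σ) v = M.act (τ, 1) (M.act (1, σ) v) := by
  rw [← M.act_mul _ _ (M.one_mem τ) hσ, Prod.mk_mul_mk, mul_one, one_mul]

theorem w_q (a : V) : M.q (M.w a) = M.q a := M.act_q (c3, 1) (M.one_mem c3) a

theorem w_B (a b : V) : M.B (M.w a) (M.w b) = M.B a b := M.act_B (M.one_mem c3) a b

theorem t_B (a b : V) : M.B (M.t a) (M.t b) = M.B a b := M.act_B (M.one_mem t3) a b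

include M in
theorem add_left_self (a b : V) : a + (a + b) = b := by rw [← add_assoc, M.two, zero_add]

/-- The fixed space of the element of order three. -/
def C : AddSubgroup V := (M.w - AddMonoidHom.id V).ker

/-- The sum of the three powers. -/
def e : V →+ V := AddMonoidHom.id V + M.w + M.w.comp M.w

/-- The commutator space of the element of order three. -/
def X : AddSubgroup V := M.e.ker

/-- The fixed space of the involution. -/
def U : AddSubgroup V := (M.t - AddMonoidHom.id V).ker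

theorem mem_C {v : V} : v ∈ M.C ↔ M.w v = v := by simp [C, sub_eq_zero]

theorem mem_U {v : V} : v ∈ M.U ↔ M.t v = v := by simp [U, sub_eq_zero]

theorem mem_X {v : V} : v ∈ M.X ↔ v + M.w v + M.w (M.w v) = 0 := by simp [X, e]

theorem e_mem (v : V) : M.e v ∈ M.C := by
  rw [mem_C]
  simp only [e, AddMonoidHom.add_apply, AddMonoidHom.id_apply, AddMonoidHom.comp_apply, map_add,
    M.w_cube]
  abel

theorem e_C {c : V} (hc : c ∈ M.C) : M.e c = c := by
  have h := M.mem_C.mp hc
  simp only [e, AddMonoidHom.add_apply, AddMonoidHom.id_apply, AddMonoidHom.comp_apply, h]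
  rw [M.two, zero_add]

theorem sub_mem_X (v : V) : v + M.e v ∈ M.X := by
  rw [X, AddMonoidHom.mem_ker, map_add, M.e_C (M.e_mem v), M.two]

theorem card_CX : Nat.card M.C * Nat.card M.X = 256 := by
  have h1 := AddSubgroup.card_eq_card_quotient_mul_card_addSubgroup M.e.ker
  rw [M.card, Nat.card_congr (QuotientAddGroup.quotientKerEquivRange M.e).toEquiv] at h1
  rw [show M.C = M.e.range from le_antisymm (fun c hc => ⟨c, M.e_C hc⟩)
    (by rintro _ ⟨v, rfl⟩; exact M.e_mem v)]
  exact h1.symm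

theorem act_C {p : P36} (hp : p.2 ∈ M.H) (hcomm : ∀ v, M.w (M.act p v) = M.act p (M.w v)) {v : V}
    (hv : v ∈ M.C) : M.act p v ∈ M.C := by
  rw [mem_C, hcomm, M.mem_C.mp hv]

theorem sigma_C {σ : Equiv.Perm (Fin 6)} (hσ : σ ∈ M.H) {v : V} (hv : v ∈ M.C) :
    M.act (1, σ) v ∈ M.C := by rw [mem_C, M.w_comm hσ, M.mem_C.mp hv]

theorem sigma_X {σ : Equiv.Perm (Fin 6)} (hσ : σ ∈ M.H) {v : V} (hv : v ∈ M.X) :
    M.act (1, σ) v ∈ M.X := by
  rw [mem_X, M.w_comm hσ, M.w_comm hσ, ← map_add, ← map_add, M.mem_X.mp hv, map_zero]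

theorem sigma_U {σ : Equiv.Perm (Fin 6)} (hσ : σ ∈ M.H) {v : V} (hv : v ∈ M.U) :
    M.act (1, σ) v ∈ M.U := by rw [mem_U, M.t_comm hσ, M.mem_U.mp hv]

theorem t_C {v : V} (hv : v ∈ M.C) : M.t v ∈ M.C := by
  have h : M.w (M.t v) = M.t (M.w (M.w v)) := by
    rw [M.t_w, M.t_w, M.w_cube]
  rw [mem_C, h, M.mem_C.mp hv, M.mem_C.mp hv]

theorem t_X {v : V} (hv : v ∈ M.X) : M.t v ∈ M.X := by
  have h := congrArg M.t (M.mem_X.mp hv)
  rw [map_zero, map_add, map_add, M.t_w, M.t_w, M.t_w, M.w_cube] at h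
  rw [mem_X, ← h]
  abel

theorem w_X {v : V} (hv : v ∈ M.X) : M.w v ∈ M.X := by
  have h := congrArg M.w (M.mem_X.mp hv)
  rw [map_zero, map_add, map_add] at h
  exact M.mem_X.mpr h

theorem disjoint_CX {v : V} (h1 : v ∈ M.C) (h2 : v ∈ M.X) : v = 0 := by
  have h := M.e_C h1
  rw [X, AddMonoidHom.mem_ker] at h2
  exact h.symm.trans h2

theorem B_CX {c x : V} (hc : c ∈ M.C) (hx : x ∈ M.X) : M.B c x = 0 := by
  -- `x = y + w y`
  have hy : x = M.w x + M.w (M.w x) := M.eq_of (by rw [← add_assoc]; exact M.mem_X.mp hx)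
  rw [hy, M.B_right]
  conv_lhs => arg 2; rw [← M.mem_C.mp hc, M.w_B]
  rw [CharTwo.add_self_eq_zero]

theorem C_nondeg {a : V} (ha : a ∈ M.C) (h : ∀ b ∈ M.C, M.B a b = 0) : a = 0 := by
  refine M.nondeg a fun v => ?_
  have hv : v = M.e v + (v + M.e v) := by rw [add_comm v, M.add_left_self]
  rw [hv, M.B_right, h _ (M.e_mem v), M.B_CX ha (M.sub_mem_X v), add_zero]

/-- The fixed points of the involution in the commutator space. -/
def N : AddSubgroup V := M.X ⊓ M.U

theorem split_X {x : V} (hx : x ∈ M.X) : x + M.t x ∈ M.N ∧ x + M.w (x + M.t x) ∈ M.N := by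
  have ht := M.t_X hx
  have hm : x + M.t x ∈ M.N := ⟨add_mem hx ht, by
    refine M.mem_U.mpr ?_; rw [map_add, M.t_t, add_comm]⟩
  refine ⟨hm, add_mem hx (M.w_X hm.1), ?_⟩
  refine M.mem_U.mpr ?_
  rw [map_add, M.t_w, M.mem_U.mp hm.2]
  have e1 : M.w (M.w (x + M.t x)) = (x + M.t x) + M.w (x + M.t x) := by
    refine M.eq_of ?_
    rw [add_comm, M.mem_X.mp hm.1]
  rw [e1, ← add_assoc, show M.t x + (x + M.t x) = x by
    rw [add_comm x, M.add_left_self]]

theorem N_wN {a b : V} (ha : a ∈ M.N) (hb : b ∈ M.N) (h : a + M.w b = 0) : a = 0 ∧ b = 0 := by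
  have e1 : a = M.w b := M.eq_of h
  have e2 : M.w (M.w b) = M.w b := by
    rw [← M.mem_U.mp hb.2, ← M.t_w, ← e1, M.mem_U.mp ha.2, e1, M.mem_U.mp hb.2]
  have e3 : M.w b = b := by
    have := congrArg M.w (congrArg M.w e2)
    rwa [M.w_cube, M.w_cube] at this
  have hb0 : b = 0 := M.disjoint_CX (M.mem_C.mpr e3) hb.1
  exact ⟨by rw [e1, hb0, map_zero], hb0⟩

theorem card_X : Nat.card M.X = Nat.card M.N * Nat.card M.N := by
  rw [← Nat.card_prod]
  refine (Nat.card_congr (Equiv.ofBijective (fun p : M.N × M.N =>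
    (⟨(p.1 : V) + M.w p.2, add_mem p.1.2.1 (M.w_X p.2.2.1)⟩ : M.X)) ⟨?_, ?_⟩)).symm
  · rintro ⟨a, b⟩ ⟨a', b'⟩ e
    have e' : (a : V) + M.w b = a' + M.w b' := congrArg Subtype.val e
    obtain ⟨h1, h2⟩ := M.N_wN (add_mem a.2 a'.2) (add_mem b.2 b'.2) (by
      rw [map_add, add_add_add_comm, e', M.two])
    exact Prod.ext (Subtype.ext (M.eq_of h1)) (Subtype.ext (M.eq_of h2))
  · rintro ⟨x, hx⟩
    obtain ⟨h1, h2⟩ := M.split_X hx
    exact ⟨(⟨_, h2⟩, ⟨_, h1⟩), Subtype.ext (by
      show x + M.w (x + M.t x) + M.w (x + M.t x) = x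
      rw [add_assoc, M.two, add_zero])⟩

theorem X_fixed {σ : Equiv.Perm (Fin 6)} (hσ : σ ∈ M.H) (h : ∀ v ∈ M.N, M.act (1, σ) v = v)
    {x : V} (hx : x ∈ M.X) : M.act (1, σ) x = x := by
  obtain ⟨h1, h2⟩ := M.split_X hx
  have hx' : x = (x + M.w (x + M.t x)) + M.w (x + M.t x) := by rw [add_assoc, M.two, add_zero]
  rw [hx', map_add, h _ h2, ← M.w_comm hσ, h _ h1]

theorem five_C (hX : ∀ x ∈ M.X, M.act (1, σ5) x = x) : ∃ c ∈ M.C, M.act (1, σ5) c ≠ c := by
  by_contra h
  push Not at h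
  obtain ⟨v, hv⟩ := M.five_moves
  apply hv
  have e : v = M.e v + (v + M.e v) := by rw [add_comm v, M.add_left_self]
  rw [e, map_add, h _ (M.e_mem v), hX _ (M.sub_mem_X v)]

theorem N_small_fixed (h : Nat.card M.N ≤ 8) : ∀ v ∈ M.N, M.act (1, σ5) v = v :=
  five_small M.card M.N _ (fun _ hv => ⟨M.sigma_X (M.even_mem _ σ5_spec.1) hv.1,
    M.sigma_U (M.even_mem _ σ5_spec.1) hv.2⟩) (fun v _ => M.act_five v) (Or.inl h)

theorem dichotomy : (Nat.card M.N = 16 ∧ ∀ v, v ∈ M.X) ∨ (Nat.card M.N = 2 ∧ Nat.card M.C = 64) := by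
  have hCX := M.card_CX
  obtain ⟨j, -, hj⟩ := card_dvd_pow M.card M.N
  rw [M.card_X, hj, ← pow_add] at hCX
  have hj4 : j ≤ 4 := by
    by_contra hlt
    have : 2 ^ (5 + 5) ≤ 2 ^ (j + j) := Nat.pow_le_pow_right (by norm_num) (by omega)
    have h2 : 1 ≤ Nat.card M.C := Nat.card_pos
    have h3 := Nat.le_mul_of_pos_left (2 ^ (j + j)) h2
    omega
  have hσ5 := M.even_mem _ σ5_spec.1
  interval_cases j
  · -- trivial three-element
    exfalso
    have hc : Nat.card M.C = 256 := by simpa using hCX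
    have htop : M.C = ⊤ := AddSubgroup.eq_top_of_card_eq _ (hc.trans M.card.symm)
    have h1 := M.faithful (c3, 1) (M.one_mem c3) (by
      have hd : orderOf ((c3, 1) : P36) ∣ 3 := by
        refine orderOf_dvd_of_pow_eq_one ?_
        rw [Prod.pow_mk, one_pow, c3_pow.2.2.2.2]
        rfl
      rcases (Nat.dvd_prime Nat.prime_three).mp hd with e | e <;> rw [e] <;> decide)
      (fun v => M.mem_C.mp (htop ▸ AddSubgroup.mem_top v))
    exact c3_pow.2.2.2.1 (congrArg Prod.fst h1)
  · exact Or.inr ⟨by simpa using hj, by omega⟩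
  · exfalso
    have hX := fun x hx => M.X_fixed hσ5 (M.N_small_fixed (by rw [hj]; norm_num)) (x := x) hx
    refine M.no_form M.C (by omega) (fun σ hσ v hv => M.sigma_C (M.even_mem _ hσ) hv)
      (M.five_C hX) M.q (fun σ hσ v _ => M.act_q _ (M.even_mem _ hσ) v) (fun a _ b _ => M.q_add a b)
      (fun a ha h => M.C_nondeg ha h)
  · exfalso
    have hX := fun x hx => M.X_fixed hσ5 (M.N_small_fixed (by rw [hj]; norm_num)) (x := x) hx
    obtain ⟨c, hc, hc'⟩ := M.five_C hX
    exact hc' (five_small M.card M.C _ (fun _ hv => M.sigma_C hσ5 hv) (fun v _ => M.act_five v)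
      (Or.inl (by omega)) c hc)
  · refine Or.inl ⟨by simpa using hj, fun v => ?_⟩
    have hc : Nat.card M.C = 1 := by omega
    have := (AddSubgroup.card_eq_one.mp hc).le (M.e_mem v)
    exact AddMonoidHom.mem_ker.mpr (AddSubgroup.mem_bot.mp this)

theorem five_U : ∃ u ∈ M.U, M.act (1, σ5) u ≠ u := by
  by_contra h
  push Not at h
  obtain ⟨v, hv⟩ := M.five_moves
  apply hv
  set k := M.act (1, σ5) with hk
  have hσ5 := M.even_mem _ σ5_spec.1
  have hf : k v + v ∈ M.U := by
    rw [mem_U]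
    have h1 : k (v + M.t v) = v + M.t v := h _ (by rw [mem_U, map_add, M.t_t, add_comm])
    rw [map_add, hk, ← M.t_comm hσ5, ← hk] at h1
    refine M.eq_of ?_
    rw [map_add]
    calc M.t (k v) + M.t v + (k v + v) = (k v + M.t (k v)) + (v + M.t v) := by abel
      _ = 0 := by rw [h1, M.two]
  set u := k v + v with hu
  have hkv : k v = v + u := by rw [hu, add_comm (k v), M.add_left_self]
  have h5 := M.act_five v
  rw [← hk, hkv, map_add, hkv, h u hf, add_assoc, M.two, add_zero, hkv, map_add, hkv, h u hf,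
    add_assoc, M.two, add_zero, hkv] at h5
  rw [hkv]
  exact h5

theorem U_trivial {σ : Equiv.Perm (Fin 6)} (hσ : σ ∈ M.H)
    (hfix : ∀ u ∈ M.U, M.act (1, σ) u = u) : σ = 1 :=
  M.eq_one_of_fix (S := (M.U : Set V)) (fun g hg _ hv => M.sigma_U (M.even_mem _ hg) hv) M.five_U
    hσ hfix

/-! ### The tensor case -/

theorem linear_rep (L : V →+ ZMod 2) (S : AddSubgroup V) (hS : ∀ a ∈ S, (∀ b ∈ S, M.B a b = 0) → a = 0) :
    ∃ c ∈ S, ∀ b ∈ S, L b = M.B b c := by
  classical
  letI : Module (ZMod 2) S := AddCommGroup.zmodModule fun a => by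
    rw [two_nsmul]; exact Subtype.ext (M.two a)
  haveI : Module.Finite (ZMod 2) S := Module.Finite.of_finite
  let Φ : S → (S →ₗ[ZMod 2] ZMod 2) := fun c =>
    (AddMonoidHom.mk' (fun b : S => M.B b c) fun a b => M.B_left a b c).toZModLinearMap 2
  have hinj : Function.Injective Φ := by
    intro c c' e
    refine Subtype.ext (M.eq_of (hS _ (add_mem c.2 c'.2) fun b hb => ?_))
    have h := LinearMap.congr_fun e ⟨b, hb⟩
    change M.B b c = M.B b c' at h
    rw [M.B_left, M.B_comm c, M.B_comm c', h, CharTwo.add_self_eq_zero]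
  have hcard : Nat.card (S →ₗ[ZMod 2] ZMod 2) ≤ Nat.card S := by
    rw [Module.natCard_eq_pow_finrank (K := ZMod 2) (V := S →ₗ[ZMod 2] ZMod 2),
      Module.natCard_eq_pow_finrank (K := ZMod 2) (V := S), Subspace.dual_finrank_eq]
  haveI : Finite (S →ₗ[ZMod 2] ZMod 2) := Finite.of_injective _ DFunLike.coe_injective
  obtain ⟨c, hc⟩ := (Function.Injective.bijective_of_nat_card_le hinj hcard).2
    ((L.comp S.subtype).toZModLinearMap 2)
  exact ⟨c, c.2, fun b hb => (LinearMap.congr_fun hc ⟨b, hb⟩).symm⟩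

section Tensor

variable (hN : Nat.card M.N = 16) (hX : ∀ v, v ∈ M.X)
include hN hX

theorem mem_N_iff {v : V} : v ∈ M.N ↔ M.t v = v :=
  ⟨fun h => M.mem_U.mp h.2, fun h => ⟨hX v, M.mem_U.mpr h⟩⟩

theorem N_image {n : V} (hn : n ∈ M.N) : M.w n + M.t (M.w n) = n := by
  rw [M.t_w, M.mem_U.mp hn.2]
  refine M.eq_of ?_
  rw [add_comm, ← add_assoc]
  exact M.mem_X.mp hn.1

theorem B_NN {a b : V} (ha : a ∈ M.N) (hb : b ∈ M.N) : M.B a b = 0 := by
  have h := M.t_B a (M.w b)
  rw [M.mem_U.mp ha.2] at h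
  rw [← M.N_image hN hX hb, M.B_right, h, CharTwo.add_self_eq_zero]

theorem q_N {n : V} (hn : n ∈ M.N) : M.q n = 0 := by
  by_contra hne
  let S : AddSubgroup V :=
    { carrier := {v | v ∈ M.N ∧ M.q v = 0}
      zero_mem' := ⟨zero_mem _, M.q_zero⟩
      add_mem' := fun {a b} ha hb =>
        ⟨add_mem ha.1 hb.1, by rw [M.q_add, ha.2, hb.2, M.B_NN hN hX ha.1 hb.1]; rfl⟩
      neg_mem' := fun {a} ha => by
        rw [show -a = a from neg_eq_of_add_eq_zero_left (M.two a)]; exact ha }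
  have hle : S ≤ M.N := fun v hv => hv.1
  have hlt : Nat.card S < 16 := by
    rw [← hN]
    refine lt_of_le_of_ne (Nat.le_of_dvd Nat.card_pos (AddSubgroup.card_dvd_of_le hle)) fun e => ?_
    have := AddSubgroup.eq_of_le_of_card_ge hle e.ge
    exact hne ((this ▸ hn : n ∈ S)).2
  have hσ5 := M.even_mem _ σ5_spec.1
  obtain ⟨j, -, hj⟩ := card_dvd_pow M.card S
  have h8 : Nat.card S ≤ 8 := by
    rw [hj] at hlt ⊢
    have : j < 4 := by
      by_contra hh
      have := Nat.pow_le_pow_right (show 2 > 0 by norm_num) (Nat.not_lt.mp hh)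
      omega
    interval_cases j <;> norm_num
  have hfixS := five_small M.card S (M.act (1, σ5))
    (fun v hv => ⟨⟨M.sigma_X hσ5 hv.1.1, M.sigma_U hσ5 hv.1.2⟩, by rw [M.act_q _ hσ5]; exact hv.2⟩)
    (fun v _ => M.act_five v) (Or.inl h8)
  obtain ⟨u, hu, hu'⟩ := M.five_U
  have huN := (M.mem_N_iff hN hX).mpr (M.mem_U.mp hu)
  have hku : M.act (1, σ5) u + u ∈ S := by
    refine ⟨add_mem ⟨hX _, M.sigma_U hσ5 hu⟩ huN, ?_⟩
    rw [M.q_add, M.act_q _ hσ5, M.B_NN hN hX ⟨hX _, M.sigma_U hσ5 hu⟩ huN, add_zero,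
      CharTwo.add_self_eq_zero]
  set k := M.act (1, σ5) with hk
  set s := k u + u with hs
  have hks : k s = s := hfixS s hku
  have hku' : k u = u + s := by rw [hs, add_comm (k u), M.add_left_self]
  have h5 := M.act_five u
  rw [← hk, hku', map_add, hku', hks, add_assoc, M.two, add_zero, hku', map_add, hku', hks,
    add_assoc, M.two, add_zero, hku'] at h5
  exact hu' (hku'.trans h5)

theorem exists_frame : ∃ f : W4 →+ V, (∀ a, f a ∈ M.N) ∧ Function.Injective f ∧
    (∀ v ∈ M.N, ∃ a, f a = v) ∧ ∀ a b, M.B (f a) (M.w (f b)) = β a b := by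
  classical
  have hadd : ∀ a a' b, M.B (a + a') (M.w b) = M.B a (M.w b) + M.B a' (M.w b) :=
    fun a a' b => M.B_left a a' _
  have hadd' : ∀ a b b', M.B a (M.w (b + b')) = M.B a (M.w b) + M.B a (M.w b') := fun a b b' => by
    rw [map_add, M.B_right]
  have halt : ∀ a ∈ M.N, M.B a (M.w a) = 0 := fun a ha => by
    have h1 := M.q_add a (M.w a)
    have e : a + M.w a = M.w (M.w a) := M.eq_of (M.mem_X.mp ha.1)
    rw [e, M.w_q, M.w_q, M.q_N hN hX ha] at h1
    revert h1
    generalize M.B a (M.w a) = i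
    revert i; decide
  have hsym : ∀ a ∈ M.N, ∀ b ∈ M.N, M.B b (M.w a) = M.B a (M.w b) := fun a ha b hb => by
    have h := halt _ (add_mem ha hb)
    rw [hadd, hadd', hadd', halt a ha, halt b hb, zero_add, add_zero] at h
    revert h
    generalize M.B b (M.w a) = i; generalize M.B a (M.w b) = j
    revert i j; decide
  have hnd : ∀ a ∈ M.N, (∀ b ∈ M.N, M.B a (M.w b) = 0) → a = 0 := fun a ha h => by
    refine M.nondeg a fun v => ?_
    obtain ⟨h1, h2⟩ := M.split_X (hX v)
    have hv : v = (v + M.w (v + M.t v)) + M.w (v + M.t v) := by rw [add_assoc, M.two, add_zero]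
    rw [hv, M.B_right, M.B_NN hN hX ha h2, h _ h1, add_zero]
  have big : ∀ l : List V, l.length < 16 → ∃ v ∈ M.N, v ∉ l := by
    intro l hl
    by_contra h
    push Not at h
    haveI : Fintype V := Fintype.ofFinite V
    have h1 : (M.N : Set V).ncard ≤ l.toFinset.card := by
      rw [← Set.ncard_coe_finset]
      exact Set.ncard_le_ncard (fun v hv => by simpa using h v hv) (Set.toFinite _)
    rw [← Nat.card_coe_set_eq, SetLike.coe_sort_coe, hN] at h1
    have := l.toFinset_card_le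
    omega
  obtain ⟨a1, ha1, hne1⟩ := big [0] (by simp)
  obtain ⟨b1, hb1, hab⟩ : ∃ b ∈ M.N, M.B a1 (M.w b) = 1 := by
    by_contra h
    push Not at h
    exact hne1 (by simp [hnd a1 ha1 fun b hb => (SixSymplModel31.two_eq _).resolve_right (h b hb)])
  let pr' : V → V := fun v => v + (if M.B v (M.w b1) = 1 then a1 else 0) +
    (if M.B v (M.w a1) = 1 then b1 else 0)
  have hpr : ∀ v ∈ M.N, pr' v ∈ M.N ∧ M.B (pr' v) (M.w a1) = 0 ∧ M.B (pr' v) (M.w b1) = 0 := by
    intro v hv
    have hba : M.B b1 (M.w a1) = 1 := by rw [hsym a1 ha1 b1 hb1, hab]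
    refine ⟨add_mem (add_mem hv (by split_ifs <;> [exact ha1; exact zero_mem _]))
      (by split_ifs <;> [exact hb1; exact zero_mem _]), ?_, ?_⟩
    · rcases SixSymplModel31.two_eq (M.B v (M.w a1)) with e | e <;> rcases SixSymplModel31.two_eq (M.B v (M.w b1)) with e' | e' <;>
        simp [pr', e, e', hadd, halt a1 ha1, hba, M.B_zero_left, CharTwo.add_self_eq_zero]
    · rcases SixSymplModel31.two_eq (M.B v (M.w a1)) with e | e <;> rcases SixSymplModel31.two_eq (M.B v (M.w b1)) with e' | e' <;>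
        simp [pr', e, e', hadd, halt b1 hb1, hab, M.B_zero_left, CharTwo.add_self_eq_zero]
  obtain ⟨v0, hv0, hne2⟩ := big [0, a1, b1, a1 + b1] (by simp)
  have hwN : pr' v0 ≠ 0 := by
    simp only [List.mem_cons, List.not_mem_nil, or_false, not_or] at hne2
    intro e
    simp only [pr'] at e
    split_ifs at e <;> try simp only [add_zero] at e
    · exact hne2.2.2.2 (M.eq_of (by rw [← add_assoc]; exact e))
    · exact hne2.2.1 (M.eq_of e)
    · exact hne2.2.2.1 (M.eq_of e)
    · exact hne2.1 e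
  obtain ⟨ha2, p1, p2⟩ := hpr v0 hv0
  set a2 := pr' v0 with ha2def
  obtain ⟨v1, hv1, hv1'⟩ : ∃ b ∈ M.N, M.B a2 (M.w b) = 1 := by
    by_contra h
    push Not at h
    exact hwN (hnd a2 ha2 fun b hb => (SixSymplModel31.two_eq _).resolve_right (h b hb))
  obtain ⟨hb2, q1, q2⟩ := hpr v1 hv1
  set b2 := pr' v1 with hb2def
  have hab2 : M.B a2 (M.w b2) = 1 := by
    rw [hb2def]
    simp only [pr']
    rw [hadd', hadd', hv1']
    split_ifs <;> simp [p1, p2, M.B_zero_right]
  have hs : ∀ (s : ZMod 2) (v : V), v ∈ M.N → (if s = 1 then v else 0) ∈ M.N := fun s v hv => by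
    split_ifs <;> [exact hv; exact zero_mem _]
  let sm : V → ZMod 2 → V := fun v s => if s = 1 then v else 0
  have sm_add : ∀ v s s', sm v (s + s') = sm v s + sm v s' := fun v s s' => by
    rcases SixSymplModel31.two_eq s with rfl | rfl <;> rcases SixSymplModel31.two_eq s' with rfl | rfl <;>
      simp [sm, M.two, show (1 : ZMod 2) + 1 = 0 from rfl]
  let f : W4 →+ V := AddMonoidHom.mk'
    (fun x => sm a1 x.1 + sm b1 x.2.1 + sm a2 x.2.2.1 + sm b2 x.2.2.2) fun x y => by
      simp only [Prod.fst_add, Prod.snd_add, sm_add]; abel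
  have hf : ∀ x, f x ∈ M.N := fun x =>
    add_mem (add_mem (add_mem (hs _ _ ha1) (hs _ _ hb1)) (hs _ _ ha2)) (hs _ _ hb2)
  have smB : ∀ v s u, M.B (sm v s) (M.w u) = s * M.B v (M.w u) := fun v s u => by
    rcases SixSymplModel31.two_eq s with rfl | rfl <;> simp [sm, M.B_zero_left]
  have smB' : ∀ v s u, M.B u (M.w (sm v s)) = s * M.B u (M.w v) := fun v s u => by
    rcases SixSymplModel31.two_eq s with rfl | rfl <;> simp [sm, M.B_zero_right]
  have r1 := hsym a1 ha1 b1 hb1
  have r2 := hsym a2 ha2 a1 ha1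
  have r3 := hsym a2 ha2 b1 hb1
  have r4 := hsym b2 hb2 a1 ha1
  have r5 := hsym b2 hb2 b1 hb1
  have r6 := hsym a2 ha2 b2 hb2
  rw [hab] at r1
  rw [p1] at r2
  rw [p2] at r3
  rw [q1] at r4
  rw [q2] at r5
  rw [hab2] at r6
  have hform : ∀ x y, M.B (f x) (M.w (f y)) = β x y := by
    intro x y
    simp only [f, AddMonoidHom.mk'_apply, hadd, hadd', smB, smB', halt a1 ha1, halt b1 hb1,
      halt a2 ha2, halt b2 hb2, hab, hab2, p1, p2, q1, q2, r1, r2, r3, r4, r5, r6, β]
    ring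
  have hinj : Function.Injective f := by
    refine (injective_iff_map_eq_zero f).mpr fun x hx => ?_
    refine β_nondeg x ?_ ?_ ?_ ?_ <;> rw [← hform, hx, M.B_zero_left]
  refine ⟨f, hf, hinj, ?_, hform⟩
  have hb : Function.Bijective (fun x => (⟨f x, hf x⟩ : M.N)) := by
    refine (Nat.bijective_iff_injective_and_card _).mpr
      ⟨fun x y e => hinj (congrArg Subtype.val e), ?_⟩
    rw [hN, Nat.card_eq_fintype_card]
    decide
  intro v hv
  obtain ⟨a, ha⟩ := hb.2 ⟨v, hv⟩
  exact ⟨a, congrArg Subtype.val ha⟩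

theorem exists_act (L : W4 →+ W4) (hL : ∀ x y, β (L x) (L y) = β x y) :
    ∃ σ, ∀ x, L x = SixSymplModel31.act σ x := by
  classical
  clear hX hN
  have hmem : ∀ K : W4 →+ W4, (∀ x y, β (K x) (K y) = β x y) → (K e1, K f1, K e2, K f2) ∈ bases := by
    intro K hK
    simp only [bases, List.mem_flatMap, List.mem_filter, List.mem_map]
    refine ⟨K e1, mem_vecs _, K f1, ⟨mem_vecs _, ?_⟩, K e2, ⟨mem_vecs _, ?_⟩, K f2,
      ⟨mem_vecs _, ?_⟩, rfl⟩ <;> simp only [hK] <;> decide
  let F : Equiv.Perm (Fin 6) → W4 × W4 × W4 × W4 := fun σ => (SixSymplModel31.act σ e1, SixSymplModel31.act σ f1, SixSymplModel31.act σ e2, SixSymplModel31.act σ f2)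
  have hF : Function.Injective F := by
    intro σ τ e
    simp only [F, Prod.mk.injEq] at e
    refine inv_mul_eq_one.mp (SixSymplModel31.act_trivial _ ?_ ?_ ?_ ?_) |>.symm
    all_goals rw [SixSymplModel31.act_mul]
    · rw [e.1, ← SixSymplModel31.act_mul, inv_mul_cancel, SixSymplModel31.act_one]
    · rw [e.2.1, ← SixSymplModel31.act_mul, inv_mul_cancel, SixSymplModel31.act_one]
    · rw [e.2.2.1, ← SixSymplModel31.act_mul, inv_mul_cancel, SixSymplModel31.act_one]
    · rw [e.2.2.2, ← SixSymplModel31.act_mul, inv_mul_cancel, SixSymplModel31.act_one]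
  have hsub : Finset.univ.image F ⊆ bases.toFinset := by
    intro u hu
    obtain ⟨σ, -, rfl⟩ := Finset.mem_image.mp hu
    exact List.mem_toFinset.mpr (hmem (actHom σ) (β_act σ))
  have heq := Finset.eq_of_subset_of_card_le hsub (by
    rw [Finset.card_image_of_injective _ hF, Finset.card_univ, Fintype.card_perm,
      Fintype.card_fin]
    exact (List.toFinset_card_le _).trans (by rw [length_bases]; rfl))
  obtain ⟨σ, -, hσ⟩ := Finset.mem_image.mp (heq ▸ List.mem_toFinset.mpr (hmem L hL) :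
    (L e1, L f1, L e2, L f2) ∈ Finset.univ.image F)
  simp only [F, Prod.mk.injEq] at hσ
  refine ⟨σ, fun x => ?_⟩
  rw [expand x, map_comb, show SixSymplModel31.act σ (comb e1 f1 e2 f2 x) = _ from map_comb (actHom σ) _ _ _ _ _]
  simp only [actHom, AddMonoidHom.mk'_apply, hσ]

/-- The tensor coordinates. -/
theorem tensor : ∃ (ν : V ≃+ W4 × W4) (ρ : M.H →* Equiv.Perm (Fin 6)),
    Function.Injective ρ ∧ (∀ σ, Even6 σ → ∃ h : M.H, ρ h = σ ∧ Even6 (h : Equiv.Perm (Fin 6))) ∧
      (∀ (τ : Equiv.Perm (Fin 3)) (h : M.H) (v : V),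
        ν (M.act (τ, (h : Equiv.Perm (Fin 6))) v) = actT (τ, ρ h) (ν v)) ∧
      ∀ v, M.q v = β (ν v).1 (ν v).2 := by
  classical
  obtain ⟨f, hf, hinj, hsurj, hform⟩ := M.exists_frame hN hX
  let g : W4 × W4 →+ V := AddMonoidHom.mk' (fun u => f u.1 + M.w (f u.2)) fun u u' => by
    simp only [Prod.fst_add, Prod.snd_add, map_add]; abel
  have hg : Function.Bijective g := by
    constructor
    · refine (injective_iff_map_eq_zero g).mpr fun u hu => ?_
      obtain ⟨h1, h2⟩ := M.N_wN (hf u.1) (hf u.2) hu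
      exact Prod.ext (hinj (h1.trans (map_zero f).symm)) (hinj (h2.trans (map_zero f).symm))
    · intro v
      obtain ⟨h1, h2⟩ := M.split_X (hX v)
      obtain ⟨m, hm⟩ := hsurj _ h1
      obtain ⟨n, hn⟩ := hsurj _ h2
      refine ⟨(n, m), ?_⟩
      show f n + M.w (f m) = v
      rw [hn, hm, add_assoc, M.two, add_zero]
  let ν : V ≃+ W4 × W4 := (AddEquiv.ofBijective g hg).symm
  have hν : ∀ u, ν (g u) = u := fun u => (AddEquiv.ofBijective g hg).symm_apply_apply u
  have ex : ∀ h : M.H, ∃ σ, ∀ a, M.act (1, (h : Equiv.Perm (Fin 6))) (f a) = f (SixSymplModel31.act σ a) := by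
    intro h
    have hmem : ∀ a, M.act (1, (h : Equiv.Perm (Fin 6))) (f a) ∈ M.N := fun a =>
      ⟨hX _, M.sigma_U h.2 (hf a).2⟩
    choose L hL using fun a => hsurj _ (hmem a)
    have hLa : ∀ a b, L (a + b) = L a + L b := fun a b =>
      hinj (by rw [hL, map_add, map_add, map_add, hL, hL])
    obtain ⟨σ, hσ⟩ := exists_act M hN hX (AddMonoidHom.mk' L hLa) fun a b => by
      simp only [AddMonoidHom.mk'_apply]
      rw [← hform, ← hform, hL, hL, M.w_comm h.2, M.act_B (p := (1, _)) h.2]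
    exact ⟨σ, fun a => by rw [← hL]; exact congrArg f (hσ a)⟩
  choose ρ₀ hρ₀ using ex
  have uniq : ∀ {σ τ : Equiv.Perm (Fin 6)}, (∀ a, SixSymplModel31.act σ a = SixSymplModel31.act τ a) → σ = τ := by
    intro σ τ h
    refine (inv_mul_eq_one.mp (SixSymplModel31.act_trivial _ ?_ ?_ ?_ ?_)).symm <;>
      rw [SixSymplModel31.act_mul, h, ← SixSymplModel31.act_mul, inv_mul_cancel, SixSymplModel31.act_one]
  let ρ : M.H →* Equiv.Perm (Fin 6) :=
    { toFun := ρ₀
      map_one' := uniq fun a => hinj (by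
        rw [← hρ₀, SixSymplModel31.act_one, OneMemClass.coe_one]; exact M.act_one _)
      map_mul' := fun h h' => uniq fun a => hinj (by
        rw [← hρ₀, Subgroup.coe_mul, M.act_sigma_mul h.2 h'.2, hρ₀, hρ₀, SixSymplModel31.act_mul]) }
  have hρ : ∀ (h : M.H) (a : W4), M.act (1, (h : Equiv.Perm (Fin 6))) (f a) = f (SixSymplModel31.act (ρ h) a) := hρ₀
  have hinjρ : Function.Injective ρ := by
    refine (injective_iff_map_eq_one ρ).mpr fun h e => ?_
    refine Subtype.ext (M.U_trivial h.2 fun u hu => ?_)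
    obtain ⟨a, rfl⟩ := hsurj u ((M.mem_N_iff hN hX).mpr (M.mem_U.mp hu))
    rw [hρ, e, SixSymplModel31.act_one]
  refine ⟨ν, ρ, hinjρ, ?_, ?_, ?_⟩
  · let A : Subgroup (Equiv.Perm (Fin 6)) := ((alternatingGroup (Fin 6)).subgroupOf M.H).map ρ
    have hA : A = alternatingGroup (Fin 6) := by
      apply Equiv.Perm.eq_alternatingGroup_of_index_eq_two
      have h1 : Nat.card A = 360 := by
        rw [Subgroup.card_map_of_injective hinjρ, Nat.card_congr (Subgroup.subgroupOfEquivOfLe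
          (fun σ hσ => M.even_mem σ (mem_alt.mp hσ))).toEquiv, card_alt]
      have h2 := A.card_mul_index
      rw [h1, Nat.card_perm, Nat.card_fin, show Nat.factorial 6 = 720 from rfl] at h2
      omega
    intro σ hσ
    have hm : σ ∈ A := hA ▸ mem_alt.mpr hσ
    obtain ⟨h, hh, rfl⟩ := hm
    exact ⟨h, rfl, mem_alt.mp hh⟩
  · intro τ h v
    obtain ⟨⟨a, b⟩, rfl⟩ := hg.2 v
    rw [hν, M.act_split τ h.2, actT_eq,
      show M.act (1, (h : Equiv.Perm (Fin 6))) (g (a, b)) = g (SixSymplModel31.act (ρ h) a, SixSymplModel31.act (ρ h) b) by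
        show M.act (1, (h : Equiv.Perm (Fin 6))) (f a + M.w (f b)) = _
        rw [map_add, ← M.w_comm h.2, hρ, hρ]
        rfl]
    generalize SixSymplModel31.act (ρ h) a = a'
    generalize SixSymplModel31.act (ρ h) b = b'
    have hc : ∀ x y, M.act (c3, 1) (g (x, y)) = g (y, x + y) := fun x y => by
      show M.w (f x + M.w (f y)) = f y + M.w (f (x + y))
      rw [map_add, map_add, map_add, show M.w (M.w (f y)) = f y + M.w (f y) from
        M.eq_of (by rw [add_comm]; exact M.mem_X.mp (hf y).1)]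
      abel
    have ht : ∀ x y, M.act (t3, 1) (g (x, y)) = g (x + y, y) := fun x y => by
      show M.t (f x + M.w (f y)) = f (x + y) + M.w (f y)
      rw [map_add, M.mem_U.mp (hf x).2, M.t_w, M.mem_U.mp (hf y).2, map_add,
        show M.w (M.w (f y)) = f y + M.w (f y) from
          M.eq_of (by rw [add_comm]; exact M.mem_X.mp (hf y).1)]
      abel
    have hτ := perm3_cases τ
    obtain ⟨r1, r2, r3⟩ := actL_rest a' b'
    simp only [List.mem_cons, List.not_mem_nil, or_false] at hτ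
    rcases hτ with rfl | rfl | rfl | rfl | rfl | rfl
    · rw [show M.act (1, 1) (g (a', b')) = g (a', b') from M.act_one _, hν, actL_one]
    · rw [hc, hν, actL_c3]
    · rw [M.act_pair, hc, hc, hν, r1, show b' + (a' + b') = a' by
        rw [add_comm a', ← add_assoc, add_self, zero_add]]
    · rw [ht, hν, actL_t3]
    · rw [M.act_pair, ht, hc, hν, r2, show a' + b' + b' = a' by rw [add_assoc, add_self, add_zero]]
    · rw [M.act_pair, M.act_pair, ht, hc, hc, hν, r3]
      simp only [add_assoc, add_self, add_zero]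
      rw [show b' + a' = a' + b' from add_comm _ _]
  · intro v
    obtain ⟨⟨a, b⟩, rfl⟩ := hg.2 v
    rw [hν]
    show M.q (f a + M.w (f b)) = _
    rw [M.q_add, M.q_N hN hX (hf a), show M.q (M.w (f b)) = M.q (f b) from M.act_q _ (M.one_mem c3) _,
      M.q_N hN hX (hf b), hform, zero_add, zero_add]

end Tensor

/-! ### The case of a fixed space of order 64 -/

section Small

variable (hN : Nat.card M.N = 2) (hC : Nat.card M.C = 64)
include hN hC

/-- The nonzero fixed vector of the involution in the commutator space. -/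
theorem exists_a0 : ∃ a0 ∈ M.N, a0 ≠ 0 ∧ (∀ n ∈ M.N, n = 0 ∨ n = a0) ∧ M.q a0 = 1 := by
  classical
  obtain ⟨⟨a, ha⟩, hne⟩ := @exists_ne M.N (Finite.one_lt_card_iff_nontrivial.mp (by omega)) 0
  have ha0 : a ≠ 0 := fun e => hne (Subtype.ext e)
  have hall : ∀ n ∈ M.N, n = 0 ∨ n = a := by
    intro n hn
    by_contra h
    rw [not_or] at h
    have h1 : ({(⟨n, hn⟩ : M.N), ⟨a, ha⟩, 0} : Set M.N).ncard ≤ 2 := by
      rw [← hN, ← Set.ncard_univ]
      exact Set.ncard_le_ncard (Set.subset_univ _) (Set.toFinite _)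
    rw [Set.ncard_insert_of_notMem (by simp [h.1, h.2, Subtype.ext_iff]) (Set.toFinite _),
      Set.ncard_pair hne] at h1
    omega
  refine ⟨a, ha, ha0, hall, ?_⟩
  by_contra hq
  have hq0 : M.q a = 0 := (SixSymplModel31.two_eq _).resolve_right hq
  have hw : M.w (M.w a) = a + M.w a := M.eq_of (by rw [add_comm]; exact M.mem_X.mp ha.1)
  have hB : M.B a (M.w a) = 0 := by
    have h := M.q_add a (M.w a)
    rw [← hw, M.w_q, M.w_q, hq0] at h
    simpa using h.symm
  refine ha0 (M.nondeg a fun v => ?_)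
  have hv : v = M.e v + (v + M.e v) := by rw [add_comm v, M.add_left_self]
  obtain ⟨h1, h2⟩ := M.split_X (M.sub_mem_X v)
  have hx : v + M.e v = (v + M.e v + M.w (v + M.e v + M.t (v + M.e v))) +
      M.w (v + M.e v + M.t (v + M.e v)) := by rw [add_assoc, M.two, add_zero]
  have key : ∀ m ∈ M.N, ∀ n ∈ M.N, M.B a (m + M.w n) = 0 := by
    intro m hm n hn
    rcases hall m hm with rfl | rfl <;> rcases hall n hn with rfl | rfl <;>
      simp [M.B_right, M.B_zero_right, M.B_self, hB]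
  rw [hv, M.B_right, M.B_comm a (M.e v), M.B_CX (M.e_mem v) ha.1, zero_add, hx]
  exact key _ h2 _ h1

theorem X_trivial {σ : Equiv.Perm (Fin 6)} (hσ : σ ∈ M.H) {x : V} (hx : x ∈ M.X) :
    M.act (1, σ) x = x := by
  refine M.X_fixed hσ (fun n hn => ?_) hx
  obtain ⟨a, ha, ha0, hall, -⟩ := M.exists_a0 hN hC
  rcases hall n hn with rfl | rfl
  · exact map_zero _
  rcases hall _ ⟨M.sigma_X hσ hn.1, M.sigma_U hσ hn.2⟩ with e | e
  · exfalso
    apply ha0
    have := congrArg (M.act (1, σ⁻¹)) e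
    rwa [map_zero, ← M.act_sigma_mul (inv_mem hσ) hσ, inv_mul_cancel,
      show M.act (1, 1) n = n from M.act_one n] at this
  · exact e

/-- The involution is trivial or a transvection on the fixed space. -/
theorem t_shape : (∀ c ∈ M.C, M.t c = c) ∨ ∃ v ∈ M.C, M.q v = 1 ∧ M.t v = v ∧
    (∀ σ ∈ M.H, M.act (1, σ) v = v) ∧
    (∀ c ∈ M.C, M.B c v = 0 → M.t c = c) ∧ (∀ c ∈ M.C, M.B c v = 1 → M.t c = c + v) ∧
    ∀ u ∈ M.C, M.t u = u → M.act (1, σ5) u = u → u = 0 ∨ u = v := by
  classical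
  let d : M.C →+ V := AddMonoidHom.mk' (fun c => (c : V) + M.t c) fun a b => by
    simp only [AddSubgroup.coe_add, map_add]; abel
  have hd : Nat.card d.range * Nat.card d.ker = 64 := by
    rw [← hC, ← Nat.card_congr (QuotientAddGroup.quotientKerEquivRange d).toEquiv,
      ← AddSubgroup.card_eq_card_quotient_mul_card_addSubgroup]
  let C' : AddSubgroup V := M.C ⊓ M.U
  have hker : Nat.card C' = Nat.card d.ker := by
    refine Nat.card_congr
      { toFun := fun u => ⟨⟨u, u.2.1⟩, by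
          show (u : V) + M.t u = 0
          rw [M.mem_U.mp u.2.2, M.two]⟩
        invFun := fun c => ⟨(c.1 : V), c.1.2, M.mem_U.mpr (M.eq_of (by
          rw [add_comm]; exact c.2))⟩
        left_inv := fun _ => rfl
        right_inv := fun _ => rfl }
  have hrange : d.range ≤ C' := by
    rintro _ ⟨c, rfl⟩
    exact ⟨add_mem c.2 (M.t_C c.2), by
      refine M.mem_U.mpr ?_
      show M.t ((c : V) + M.t c) = _
      rw [map_add, M.t_t, add_comm]
      rfl⟩
  have hσ5 := M.even_mem _ σ5_spec.1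
  have hmapd : ∀ {σ}, σ ∈ M.H → ∀ u ∈ d.range, M.act (1, σ) u ∈ d.range := by
    rintro σ hσ _ ⟨c, rfl⟩
    refine ⟨⟨_, M.sigma_C hσ c.2⟩, ?_⟩
    show M.act (1, σ) (c : V) + M.t (M.act (1, σ) c) = _
    rw [M.t_comm hσ, ← map_add]
    rfl
  have hle : Nat.card d.range ≤ Nat.card d.ker :=
    hker ▸ Nat.le_of_dvd Nat.card_pos (AddSubgroup.card_dvd_of_le hrange)
  have hsmall : Nat.card d.range ≤ 8 := by nlinarith
  have hfixd := five_small M.card d.range (M.act (1, σ5)) (hmapd hσ5) (fun v _ => M.act_five v)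
    (Or.inl hsmall)
  -- a fixed subgroup of `C'` forces triviality
  have hno : ¬ ∀ u ∈ C', M.act (1, σ5) u = u := by
    intro h
    obtain ⟨c, hc, hc'⟩ := M.five_C (fun x hx => M.X_trivial hN hC hσ5 hx)
    apply hc'
    set k := M.act (1, σ5) with hk
    have hfix : k c + c ∈ C' := by
      refine ⟨add_mem (M.sigma_C hσ5 hc) hc, M.mem_U.mpr ?_⟩
      have h1 : k (c + M.t c) = c + M.t c := hfixd _ ⟨⟨c, hc⟩, rfl⟩
      rw [map_add, hk, ← M.t_comm hσ5, ← hk] at h1
      refine M.eq_of ?_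
      rw [map_add]
      calc M.t (k c) + M.t c + (k c + c) = (k c + M.t (k c)) + (c + M.t c) := by abel
        _ = 0 := by rw [h1, M.two]
    set u := k c + c with hu
    have hkc : k c = c + u := by rw [hu, add_comm (k c), M.add_left_self]
    have h5 := M.act_five c
    rw [← hk, hkc, map_add, hkc, h u hfix, add_assoc, M.two, add_zero, hkc, map_add, hkc,
      h u hfix, add_assoc, M.two, add_zero, hkc] at h5
    exact hkc.trans h5
  obtain ⟨j, -, hj⟩ := card_dvd_pow M.card d.range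
  rw [hj] at hd hle hsmall
  have hj3 : j ≤ 3 := by
    by_contra h
    have := Nat.pow_le_pow_right (show 2 > 0 by norm_num) (Nat.not_le.mp h)
    omega
  rcases Nat.lt_or_ge j 2 with hj1 | hj1
  · rcases Nat.eq_zero_or_pos j with rfl | hjp
    · left
      intro c hc
      have h0 : d ⟨c, hc⟩ ∈ (⊥ : AddSubgroup V) := by
        rw [← AddSubgroup.card_eq_one.mp (show Nat.card d.range = 1 by rw [hj]; rfl)]
        exact ⟨_, rfl⟩
      exact (M.eq_of (AddSubgroup.mem_bot.mp h0)).symm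
    right
    obtain rfl : j = 1 := by omega
    obtain ⟨⟨v, hv⟩, hvne⟩ := @exists_ne d.range (Finite.one_lt_card_iff_nontrivial.mp (by omega)) 0
    have hv0 : v ≠ 0 := fun e => hvne (Subtype.ext e)
    have hr : ∀ u ∈ d.range, u = 0 ∨ u = v := by
      intro u hu
      by_contra h
      rw [not_or] at h
      have h1 : ({(⟨u, hu⟩ : d.range), ⟨v, hv⟩, 0} : Set d.range).ncard ≤ 2 := by
        rw [show (2 : ℕ) = Nat.card d.range by rw [hj]; rfl, ← Set.ncard_univ]
        exact Set.ncard_le_ncard (Set.subset_univ _) (Set.toFinite _)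
      rw [Set.ncard_insert_of_notMem (by simp [h.1, h.2, Subtype.ext_iff]) (Set.toFinite _),
        Set.ncard_pair hvne] at h1
      omega
    have hvC := (hrange hv).1
    have htv := M.mem_U.mp (hrange hv).2
    have hdich : ∀ c ∈ M.C, M.t c = c ∨ M.t c = c + v := by
      intro c hc
      rcases hr _ ⟨⟨c, hc⟩, rfl⟩ with e | e
      · exact Or.inl (M.eq_of e).symm
      · refine Or.inr ?_
        rw [← e]
        exact (M.add_left_self c (M.t c)).symm
    obtain ⟨⟨c0, hc0⟩, hc0v⟩ : ∃ c, d c = v := id hv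
    have ht0 : M.t c0 = c0 + v := by
      rcases hdich c0 hc0 with e | e
      · exfalso
        apply hv0
        rw [← hc0v]
        show c0 + M.t c0 = 0
        rw [e, M.two]
      · exact e
    have perp : ∀ c ∈ M.C, M.t c = c → M.B c v = 0 := by
      intro c hc e
      have h := M.t_B c c0
      rw [e, ht0, M.B_right] at h
      exact add_left_cancel (h.trans (add_zero _).symm)
    have hBc0 : M.B c0 v = 1 := by
      refine (SixSymplModel31.two_eq _).resolve_left fun h0 => hv0 (M.C_nondeg hvC fun b hb => ?_)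
      rw [M.B_comm]
      rcases hdich b hb with e | e
      · exact perp b hb e
      · have hb' : M.t (b + c0) = b + c0 := by
          rw [map_add, e, ht0, add_add_add_comm, M.two, add_zero]
        have := perp _ (add_mem hb hc0) hb'
        rwa [M.B_left, h0, add_zero] at this
    have moved : ∀ c ∈ M.C, M.t c = c + v → M.B c v = 1 := by
      intro c hc e
      have hb' : M.t (c + c0) = c + c0 := by
        rw [map_add, e, ht0, add_add_add_comm, M.two, add_zero]
      have := perp _ (add_mem hc hc0) hb'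
      rw [M.B_left, hBc0] at this
      revert this; generalize M.B c v = i; revert i; decide
    refine ⟨v, hvC, ?_, htv, ?_, ?_, ?_, ?_⟩
    · have h := M.act_q (t3, 1) (M.one_mem t3) c0
      change M.q (M.t c0) = M.q c0 at h
      rw [ht0, M.q_add, hBc0] at h
      revert h; generalize M.q c0 = i; generalize M.q v = j; revert i j; decide
    · intro σ hσ
      refine (hr _ (hmapd hσ v hv)).resolve_left fun e => hv0 ?_
      have := congrArg (M.act (1, σ⁻¹)) e
      rwa [map_zero, ← M.act_sigma_mul (inv_mem hσ) hσ, inv_mul_cancel,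
        show M.act (1, 1) v = v from M.act_one v] at this
    · intro c hc h0
      refine (hdich c hc).resolve_right fun e => ?_
      rw [moved c hc e] at h0
      exact one_ne_zero h0
    · intro c hc h1
      refine (hdich c hc).resolve_left fun e => ?_
      rw [perp c hc e] at h1
      exact zero_ne_one h1
    · intro u hu htu hku
      by_contra hne
      rw [not_or] at hne
      apply hno
      have hC' : Nat.card C' = 32 := by rw [hker]; omega
      refine five_small M.card C' (M.act (1, σ5))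
        (fun w hw => ⟨M.sigma_C hσ5 hw.1, M.sigma_U hσ5 hw.2⟩) (fun w _ => M.act_five w)
        (Or.inr (Or.inr ⟨hC'.le, ?_⟩))
      have h3 : ({0, v, u} : Set V).ncard = 3 := by
        rw [Set.ncard_insert_of_notMem (by simp [hv0.symm, (Ne.symm hne.1)]) (Set.toFinite _),
          Set.ncard_pair (Ne.symm hne.2)]
      refine h3.ge.trans ?_
      rw [← Nat.card_coe_set_eq]
      refine Nat.card_mono (Set.toFinite _) ?_
      rintro w (rfl | rfl | rfl)
      · exact zero_mem _
      · exact ⟨⟨hvC, M.mem_U.mpr htv⟩, sub_eq_zero.mpr (hfixd _ hv)⟩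
      · exact ⟨⟨hu, M.mem_U.mpr htu⟩, sub_eq_zero.mpr hku⟩
  · exfalso
    apply hno
    obtain ⟨⟨v, hv⟩, hvne⟩ := @exists_ne d.range (Finite.one_lt_card_iff_nontrivial.mp (by
      have := Nat.pow_le_pow_right (show 2 > 0 by norm_num) hj1
      omega)) 0
    refine five_small M.card C' (M.act (1, σ5))
      (fun w hw => ⟨M.sigma_C hσ5 hw.1, M.sigma_U hσ5 hw.2⟩) (fun w _ => M.act_five w)
      (Or.inr (Or.inl ⟨?_, v, hrange hv, fun e => hvne (Subtype.ext e), hfixd v hv⟩))
    have := Nat.pow_le_pow_right (show 2 > 0 by norm_num) hj1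
    rw [hker]
    nlinarith

end Small

end Mod

end Cfsg.Agent.SixModule31
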