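import Mathlib
import Cfsg.Agent.Lib.TransferFixed

/-!
# The transfer of an element of order dividing four with a commuting 2-group

Orbits moved by the commuting 2-group cancel.
-/

set_option autoImplicit false
set_option linter.style.haveILetI false

namespace Cfsg.Agent.TwoStepTransfer31

open Subgroup MulAction Cfsg.Agent.TransferFixed

variable {G : Type*} [Group G] [Finite G] {H : Subgroup G} {A : Type*} [CommGroup A]

open scoped Classical in
theorem transfer_eq (hA : ∀ a : A, a * a = 1) (φ : H →* A) {x : G} (hx4 : x ^ 4 = 1) (hxH : x ∈ H)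
    (R : Subgroup G) (hR : IsPGroup 2 R) (hRx : ∀ r ∈ R, r * x = x * r) (hRH : R ≤ H)
    (h1 : ∀ g, g ∉ H → ∀ h : g⁻¹ * x * g ∈ H, (∀ r ∈ R, g⁻¹ * r * g ∈ H) → φ ⟨_, h⟩ = 1)
    (h2 : ∀ g, g⁻¹ * x * g ∉ H → ∀ h : g⁻¹ * x ^ 2 * g ∈ H,
      (∀ r ∈ R, g⁻¹ * r * g ∈ H ∨ g⁻¹ * (x⁻¹ * r) * g ∈ H) → φ ⟨_, h⟩ = 1) :
    MonoidHom.transfer φ x = φ ⟨x, hxH⟩ := by
  haveI : Fintype (G ⧸ H) := Fintype.ofFinite _
  haveI : Fintype (Quotient (orbitRel (zpowers x) (G ⧸ H))) := Fintype.ofFinite _
  rw [MonoidHom.transfer_eq_prod_quotient_orbitRel_zpowers_quot]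
  let per : G ⧸ H → ℕ := fun q => Function.minimalPeriod (x • ·) q
  have hmem : ∀ q : G ⧸ H, q.out⁻¹ * x ^ per q * q.out ∈ H := fun q =>
    QuotientGroup.out_conj_pow_minimalPeriod_mem H x q
  let Fq : G ⧸ H → A := fun q => φ ⟨_, hmem q⟩
  have hfix_iff : ∀ (c : G) (g : G), c • ((g : G) : G ⧸ H) = (g : G ⧸ H) ↔ g⁻¹ * c * g ∈ H := by
    intro c g
    refine ⟨fun h => ?_, fun h => smul_eq_of_mem h⟩
    have h2 := QuotientGroup.eq.mp (h : ((c * g : G) : G ⧸ H) = _).symm
    simpa [mul_assoc] using h2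
  have hFc : ∀ c, Commute c x → ∀ q, Fq (c • q) = Fq q := by
    intro c hc q
    have hper : per (c • q) = per q := by
      refine Function.minimalPeriod_eq_minimalPeriod_iff.mpr fun n => ?_
      simp only [Function.IsPeriodicPt, Function.IsFixedPt, smul_iterate, ← mul_smul,
        ← (hc.pow_right n).eq]
      rw [mul_smul]
      exact ⟨fun e => MulAction.injective c e, fun e => by rw [e]⟩
    have hcoset : (c * q.out)⁻¹ * (c • q).out ∈ H := by
      rw [← QuotientGroup.eq, QuotientGroup.out_eq']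
      show ((c * q.out : G) : G ⧸ H) = c • q
      conv_rhs => rw [← QuotientGroup.out_eq' q]
      rfl
    have he : (c * q.out)⁻¹ * x ^ per q * (c * q.out) = q.out⁻¹ * x ^ per q * q.out := by
      calc (c * q.out)⁻¹ * x ^ per q * (c * q.out) = q.out⁻¹ * (c⁻¹ * (x ^ per q * c)) * q.out := by
            group
        _ = _ := by rw [← (hc.pow_right _).eq, inv_mul_cancel_left]
    have hm' : (c • q).out⁻¹ * x ^ per q * (c • q).out ∈ H := hper ▸ hmem (c • q)
    calc Fq (c • q) = φ ⟨_, hm'⟩ := by simp only [Fq, hper]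
      _ = φ ⟨_, (he ▸ hmem q : (c * q.out)⁻¹ * x ^ per q * (c * q.out) ∈ H)⟩ :=
        value_eq_of_coset φ _ hm' hcoset
      _ = Fq q := congrArg φ (Subtype.ext he)
  -- the action on the orbits
  have hmap : ∀ (r : R) (q q' : G ⧸ H), orbitRel (zpowers x) (G ⧸ H) q q' →
      orbitRel (zpowers x) (G ⧸ H) ((r : G) • q) ((r : G) • q') := by
    intro r q q' h
    obtain ⟨⟨w, n, rfl⟩, rfl⟩ := h
    refine ⟨⟨x ^ n, n, rfl⟩, ?_⟩
    show x ^ n • ((r : G) • q') = (r : G) • (x ^ n • q')
    rw [← mul_smul, ← mul_smul, ((show Commute (r : G) x from hRx r r.2).zpow_right n).eq]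
  letI : MulAction R (Quotient (orbitRel (zpowers x) (G ⧸ H))) :=
    { smul := fun r => Quotient.map (fun q => (r : G) • q) (hmap r)
      one_smul := fun ω => Quotient.inductionOn ω fun q => by
        show Quotient.mk _ ((1 : G) • q) = _
        rw [one_smul]
      mul_smul := fun r r' ω => Quotient.inductionOn ω fun q => by
        show Quotient.mk _ (((r * r' : R) : G) • q) = Quotient.mk _ ((r : G) • ((r' : G) • q))
        rw [coe_mul, mul_smul] }
  let F : Quotient (orbitRel (zpowers x) (G ⧸ H)) → A := fun ω => Fq ω.out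
  have hF : ∀ q, F (Quotient.mk _ q) = Fq q := by
    intro q
    obtain ⟨⟨w, n, rfl⟩, hn⟩ := Quotient.exact (Quotient.out_eq (Quotient.mk
      (orbitRel (zpowers x) (G ⧸ H)) q))
    show Fq _ = _
    rw [← hn]
    exact hFc _ ((Commute.refl x).zpow_left n) q
  show ∏ ω, F ω = _
  rw [prod_eq_prod_fixed (S := R) F fun ω hω => by
    have hconst : ∀ b ∈ Finset.univ.filter (· ∈ orbit R ω), F b = F ω := by
      intro b hb
      obtain ⟨r, rfl⟩ := (Finset.mem_filter.mp hb).2
      induction ω using Quotient.inductionOn with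
      | _ q =>
        show F (Quotient.mk _ ((r : G) • q)) = _
        rw [hF, hF, hFc _ (hRx r r.2)]
    rw [Finset.prod_congr rfl hconst, Finset.prod_const]
    obtain ⟨k, hk⟩ := hR.card_orbit ω
    have hk2 : (Finset.univ.filter (· ∈ orbit R ω)).card = 2 ^ k := by
      rw [← hk, Nat.card_eq_fintype_card, ← Set.toFinset_card]
      congr 1
      ext b
      simp
    rw [hk2]
    rcases k with _ | k
    · exfalso
      apply hω
      intro r
      have h1 : Nat.card (orbit R ω) = 1 := hk
      exact congrArg Subtype.val ((Nat.card_eq_one_iff_unique.mp h1).1.elim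
        (⟨r • ω, mem_orbit ω r⟩ : orbit R ω) ⟨ω, mem_orbit_self ω⟩)
    · rw [pow_succ', pow_mul, pow_two, hA, one_pow]]
  set ω0 : Quotient (orbitRel (zpowers x) (G ⧸ H)) := Quotient.mk _ ((1 : G) : G ⧸ H) with hω0
  have hxfix : x • ((1 : G) : G ⧸ H) = (1 : G) := (hfix_iff x 1).mpr (by simpa using hxH)
  have hper1 : ∀ q : G ⧸ H, x • q = q → per q = 1 := fun q h =>
    Function.minimalPeriod_eq_one_iff_isFixedPt.mpr h
  rw [Finset.prod_eq_single ω0]
  · rw [hω0, hF]
    have hm : (1 : G)⁻¹ * x * 1 ∈ H := by simpa using hxH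
    have hb := hper1 _ hxfix
    calc Fq ((1 : G) : G ⧸ H) = φ ⟨_, (mem_of_smul_eq hxfix)⟩ := by
          simp only [Fq, hb, pow_one]
      _ = φ ⟨_, hm⟩ := value_eq_of_coset φ hm _ (by
          rw [← QuotientGroup.eq, QuotientGroup.out_eq'])
      _ = φ ⟨x, hxH⟩ := congrArg φ (Subtype.ext (by simp))
  · intro ω hω hne
    have hfix : ∀ r : R, r • ω = ω := (Finset.mem_filter.mp hω).2
    induction ω using Quotient.inductionOn with
    | _ q =>
      rw [hF]
      obtain ⟨g, rfl⟩ := QuotientGroup.mk_surjective q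
      have hrel : ∀ r ∈ R, ∃ n : ℤ, x ^ n • ((g : G) : G ⧸ H) = r • ((g : G) : G ⧸ H) := by
        intro r hr
        obtain ⟨⟨w, n, rfl⟩, hn⟩ := Quotient.exact (hfix ⟨r, hr⟩)
        exact ⟨n, hn⟩
      set m := per (g : G ⧸ H) with hm
      have hd : m ∣ 4 := by
        refine Function.IsPeriodicPt.minimalPeriod_dvd ?_
        rw [Function.IsPeriodicPt, Function.IsFixedPt, smul_iterate]
        change x ^ 4 • _ = _
        rw [hx4, one_smul]
      have hval : ∀ hh : g⁻¹ * x ^ m * g ∈ H, Fq (g : G ⧸ H) = φ ⟨_, hh⟩ := fun hh =>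
        value_eq_of_coset φ hh _ (by rw [← QuotientGroup.eq, QuotientGroup.out_eq'])
      have hh : g⁻¹ * x ^ m * g ∈ H := (hfix_iff _ _).mp (by
        have := Function.isPeriodicPt_minimalPeriod (x • ·) ((g : G) : G ⧸ H)
        rwa [Function.IsPeriodicPt, Function.IsFixedPt, smul_iterate] at this)
      rw [hval hh]
      have hle := Nat.le_of_dvd (by norm_num) hd
      have hm3 : m = 1 ∨ m = 2 ∨ m = 4 := by
        obtain ⟨i, hi, e⟩ := (Nat.dvd_prime_pow Nat.prime_two).mp (show m ∣ 2 ^ 2 from hd)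
        rw [e]
        interval_cases i <;> simp
      rcases hm3 with e | e | e
      · have hh' : g⁻¹ * x * g ∈ H := by simpa [e] using hh
        have hxg := (hfix_iff x g).mpr hh'
        have key := h1 g (fun hg => hne (by
          rw [hω0]
          refine congrArg (Quotient.mk _) (QuotientGroup.eq.mpr ?_)
          simpa using H.inv_mem hg)) hh' fun r hr => by
            obtain ⟨n, hn⟩ := hrel r hr
            refine (hfix_iff r g).mp (hn.symm.trans ?_)
            exact mem_stabilizer_iff.mp (zpow_mem (mem_stabilizer_iff.mpr hxg) n)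
        exact (congrArg φ (Subtype.ext (show g⁻¹ * x ^ m * g = g⁻¹ * x * g by rw [e, pow_one]))).trans key
      · have hh' : g⁻¹ * x ^ 2 * g ∈ H := by simpa [e] using hh
        have hxg : g⁻¹ * x * g ∉ H := fun hc => by
          have := hper1 _ ((hfix_iff x g).mpr hc)
          rw [← hm, e] at this
          omega
        have hsq : x ^ (2 : ℤ) ∈ stabilizer G ((g : G) : G ⧸ H) := by
          rw [mem_stabilizer_iff, zpow_ofNat]
          exact (hfix_iff _ _).mpr hh'
        have key := h2 g hxg hh' fun r hr => by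
          obtain ⟨n, hn⟩ := hrel r hr
          rcases Int.even_or_odd' n with ⟨k, rfl | rfl⟩
          · left
            refine (hfix_iff r g).mp (hn.symm.trans ?_)
            rw [zpow_mul]
            exact mem_stabilizer_iff.mp (zpow_mem hsq k)
          · right
            refine (hfix_iff _ g).mp ?_
            rw [mul_smul, ← hn, ← mul_smul, ← zpow_neg_one, ← zpow_add,
              show (-1 : ℤ) + (2 * k + 1) = 2 * k by ring, zpow_mul]
            exact mem_stabilizer_iff.mp (zpow_mem hsq k)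
        exact (congrArg φ (Subtype.ext (show g⁻¹ * x ^ m * g = g⁻¹ * x ^ 2 * g by rw [e]))).trans key
      · have : (⟨_, hh⟩ : H) = 1 := Subtype.ext (by simp [e, hx4])
        rw [this, map_one]
  · intro hn
    exfalso
    refine hn (Finset.mem_filter.mpr ⟨Finset.mem_univ _, fun r => ?_⟩)
    show Quotient.mk _ ((r : G) • ((1 : G) : G ⧸ H)) = _
    rw [(hfix_iff _ _).mpr (by simpa using hRH r.2)]

end Cfsg.Agent.TwoStepTransfer31
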