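import Mathlib
import Cfsg.Agent.Lib.NineSetup31
import Cfsg.Agent.Lib.SixModuleCases31
import Cfsg.Agent.Lib.TwoStepTransfer31

/-!
# The sign character of the centraliser and its transfer
-/

set_option autoImplicit false
set_option linter.style.haveILetI false

namespace Cfsg.Agent.NineSetup31

open Subgroup Cfsg.Agent.LargeExtraspecial Cfsg.Agent.SixSymplModel31 Cfsg.Agent.SixModule31

variable {G : Type*} [Group G] [Finite G] {Q : Subgroup G} {z : G}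

theorem perm3_comm_t3 : ∀ τ : Equiv.Perm (Fin 3), τ * t3 = t3 * τ → τ = 1 ∨ τ = t3 := by decide

namespace Ctx

variable (X : Ctx Q z)
include X

omit [Finite G] in
theorem mem_cent {a : G} : a ∈ centralizer ({z} : Set G) ↔ a * z = z * a :=
  mem_centralizer_singleton_iff

/-- The sign of the first factor. -/
def sgn : ↥(centralizer ({z} : Set G)) →* ℤˣ :=
  Equiv.Perm.sign.comp ((MonoidHom.fst _ _).comp X.π)

theorem sgn_Q {a : G} (ha : a ∈ Q) : X.sgn ⟨a, X.Q_le ha⟩ = 1 := by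
  show Equiv.Perm.sign (X.π ⟨a, X.Q_le ha⟩).1 = 1
  rw [(X.ker ⟨a, X.Q_le ha⟩).mpr ha]
  exact map_one _

theorem conj_comm {g w : G} :
    g⁻¹ * w * g ∈ centralizer ({z} : Set G) ↔ w * (g * z * g⁻¹) = g * z * g⁻¹ * w := by
  rw [X.mem_cent]
  constructor <;> intro e
  · calc w * (g * z * g⁻¹) = g * (g⁻¹ * w * g * z) * g⁻¹ := by group
      _ = g * (z * (g⁻¹ * w * g)) * g⁻¹ := by rw [e]
      _ = g * z * g⁻¹ * w := by group
  · calc g⁻¹ * w * g * z = g⁻¹ * (w * (g * z * g⁻¹)) * g := by group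
      _ = g⁻¹ * (g * z * g⁻¹ * w) * g := by rw [e]
      _ = z * (g⁻¹ * w * g) := by group

/-- The value at the conjugate centre, as an element of the centraliser. -/
theorem val_eq_one_of_comm {g a b : G} (hz : g⁻¹ * z * g ∈ centralizer ({z} : Set G))
    (ha : g⁻¹ * a * g ∈ centralizer ({z} : Set G)) (hb : g⁻¹ * b * g ∈ centralizer ({z} : Set G))
    (e : a * b * a⁻¹ = z * b) : X.sgn ⟨_, hz⟩ = 1 := by
  have e2 : (⟨_, hz⟩ : ↥(centralizer ({z} : Set G))) =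
      ⟨_, ha⟩ * ⟨_, hb⟩ * (⟨_, ha⟩)⁻¹ * (⟨_, hb⟩)⁻¹ := by
    apply Subtype.ext
    simp only [coe_mul, coe_inv]
    calc g⁻¹ * z * g = g⁻¹ * (a * b * a⁻¹ * b⁻¹) * g := by rw [e, mul_inv_cancel_right]
      _ = _ := by group
  rw [e2, map_mul, map_mul, map_mul, map_inv, map_inv, mul_inv_cancel_comm, mul_inv_cancel]

theorem val_center {g : G} (h : g⁻¹ * (g * z * g⁻¹) * g ∈ centralizer ({z} : Set G)) :
    X.sgn ⟨_, h⟩ = 1 := by
  have e : (⟨_, h⟩ : ↥(centralizer ({z} : Set G))) = ⟨z, X.Q_le X.h.mem⟩ := Subtype.ext (by group)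
  rw [e]
  exact X.sgn_Q X.h.mem

/-- The transfer contradiction. -/
theorem contradiction_of_transfer (hG : ∀ f : G →* ℤˣ, f = 1) {x : G}
    (hxH : x ∈ centralizer ({z} : Set G)) (hπ : X.π ⟨x, hxH⟩ = (t3, 1))
    (hx2 : x ^ 2 = 1 ∨ x ^ 2 = z)
    (h1 : ∀ g, g * z * g⁻¹ ≠ z → g * z * g⁻¹ * z = z * (g * z * g⁻¹) →
      (∀ r ∈ Q ⊓ centralizer ({x} : Set G), r * (g * z * g⁻¹) = g * z * g⁻¹ * r) →
      ∀ h : g⁻¹ * x * g ∈ centralizer ({z} : Set G), X.sgn ⟨_, h⟩ = 1)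
    (h2 : ∀ g, x ^ 2 = z → x * (g * z * g⁻¹) ≠ g * z * g⁻¹ * x →
      z * (g * z * g⁻¹) = g * z * g⁻¹ * z →
      (∀ r ∈ Q ⊓ centralizer ({x} : Set G), r * (g * z * g⁻¹) = g * z * g⁻¹ * r ∨
        x⁻¹ * r * (g * z * g⁻¹) = g * z * g⁻¹ * (x⁻¹ * r)) →
      ∀ h : g⁻¹ * z * g ∈ centralizer ({z} : Set G), X.sgn ⟨_, h⟩ = 1) : False := by
  have hx4 : x ^ 4 = 1 := by
    rw [show 4 = 2 * 2 from rfl, pow_mul]
    rcases hx2 with e | e <;> rw [e]
    · exact one_pow 2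
    · rw [pow_two, X.h.zz]
  have hmain := TwoStepTransfer31.transfer_eq (A := ℤˣ) Int.units_mul_self X.sgn hx4 hxH
    (Q ⊓ centralizer ({x} : Set G)) ((Ext.isPGroup X.h.toExt).to_le inf_le_left)
    (fun r hr => mem_centralizer_singleton_iff.mp hr.2) (inf_le_left.trans X.Q_le) ?_ ?_
  · rw [hG (MonoidHom.transfer X.sgn), MonoidHom.one_apply] at hmain
    have : X.sgn ⟨x, hxH⟩ = -1 := by
      show Equiv.Perm.sign (X.π ⟨x, hxH⟩).1 = -1
      rw [hπ]
      decide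
    rw [this] at hmain
    exact absurd hmain (by decide)
  · intro g hg h hR
    have hxy := X.conj_comm.mp h
    have hzR : z ∈ Q ⊓ centralizer ({x} : Set G) :=
      ⟨X.h.mem, mem_centralizer_singleton_iff.mpr (X.mem_cent.mp hxH).symm⟩
    refine h1 g (fun e => hg (X.mem_cent.mpr ?_)) (X.conj_comm.mp (hR z hzR)).symm
      (fun r hr => X.conj_comm.mp (hR r hr)) h
    exact mul_inv_eq_iff_eq_mul.mp e
  · intro g hg h hR
    rcases hx2 with e | e
    · have : (⟨_, h⟩ : ↥(centralizer ({z} : Set G))) = 1 := Subtype.ext (by simp [e])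
      rw [this, map_one]
    · have h' : g⁻¹ * z * g ∈ centralizer ({z} : Set G) := e ▸ h
      have := h2 g e (fun hc => hg (X.conj_comm.mpr hc)) (X.conj_comm.mp h')
        (fun r hr => (hR r hr).imp X.conj_comm.mp X.conj_comm.mp) h'
      rw [show (⟨_, h⟩ : ↥(centralizer ({z} : Set G))) = ⟨_, h'⟩ from Subtype.ext (show g⁻¹ * x ^ 2 * g = g⁻¹ * z * g by rw [e])]
      exact this

/-- If a conjugate of `z` has `z` in its extraspecial group, it lies in `Q`. -/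
theorem mem_of_z_mem {g : G} (hne : g * z * g⁻¹ ≠ z)
    (h : z ∈ Q.map (MulAut.conj g).toMonoidHom) : g * z * g⁻¹ ∈ Q := by
  obtain ⟨a, ha, e⟩ := h
  have ea : g⁻¹ * z * g = a := by
    have e' : g * a * g⁻¹ = z := e
    calc g⁻¹ * z * g = g⁻¹ * (g * a * g⁻¹) * g := by rw [e']
      _ = a := by group
  have h1 := X.h.z_mem_conj (g := g⁻¹) (by rw [inv_inv, ea]; exact ha) (fun e' => hne (by
    calc g * z * g⁻¹ = g * (g⁻¹ * z * g⁻¹⁻¹) * g⁻¹ := by rw [e']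
      _ = z := by group)) (by rw [X.cardQ]; norm_num)
  obtain ⟨b, hb, eb⟩ := h1
  have eb' : g⁻¹ * b * g⁻¹⁻¹ = z := eb
  have : g * z * g⁻¹ = b := by
    calc g * z * g⁻¹ = g * (g⁻¹ * b * g⁻¹⁻¹) * g⁻¹ := by rw [eb']
      _ = b := by group
  rw [this]; exact hb

end Ctx

namespace Co

variable {X : Ctx Q z} (K : Co X)
include K

theorem mem_H_one : ∀ τ : Equiv.Perm (Fin 3), ((τ, 1) : P36).2 ∈ K.M.H := fun _ => K.M.H.one_mem

theorem conj_cases {m : G} (hm : m * z = z * m) {a : G} (ha : a ∈ Q)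
    (e : K.M.act (X.π ⟨m, X.mem_cent.mpr hm⟩) (K.ν a) = K.ν a) :
    m * a = a * m ∨ m * a * m⁻¹ = z * a := by
  have h1 := K.act ⟨m, X.mem_cent.mpr hm⟩ a ha
  rw [e] at h1
  exact (K.same (X.norm ⟨m, X.mem_cent.mpr hm⟩ ha) ha h1).imp mul_inv_eq_iff_eq_mul.mp id

/-- A lift of the transposition with square in the centre inverts lifts of suitable vectors. -/
theorem not_comm {x : G} (hxH : x ∈ centralizer ({z} : Set G)) (hπ : X.π ⟨x, hxH⟩ = (t3, 1))
    (hx2 : x ^ 2 = 1 ∨ x ^ 2 = z) {a b : V8} (ha : K.M.t a = a) (hb : K.M.t b = a + b)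
    (hq : K.M.q a = 1) {a' : G} (ha' : a' ∈ Q) (ea : K.ν a' = a) : x * a' ≠ a' * x := by
  intro hc
  obtain ⟨b', hb', eb⟩ := K.surj b
  have hxz := X.mem_cent.mp hxH
  have h1 := K.act ⟨x, hxH⟩ b' hb'
  rw [hπ] at h1
  change K.ν (x * b' * x⁻¹) = K.M.t (K.ν b') at h1
  rw [eb, hb] at h1
  have hb1 : x * b' * x⁻¹ ∈ Q := X.norm ⟨x, hxH⟩ hb'
  have hzc : ∀ c ∈ Q, Commute z c := fun c hc' => (X.h.comm c hc').symm
  have hsq : x ^ 2 * b' = b' * x ^ 2 := by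
    rcases hx2 with e | e <;> rw [e]
    · simp
    · exact (hzc b' hb').eq
  have e2 : x * (x * b' * x⁻¹) * x⁻¹ = b' := by
    calc x * (x * b' * x⁻¹) * x⁻¹ = x ^ 2 * b' * (x ^ 2)⁻¹ := by rw [pow_two]; group
      _ = b' := by rw [hsq, mul_inv_cancel_right]
  have haa : a' * a' = z := by rw [K.sq a' ha', ea, hq, zp_one]
  rcases K.same hb1 (Q.mul_mem ha' hb') (by rw [h1, K.add a' ha' b' hb', ea, eb]) with e | e
  all_goals
    rw [e] at e2
  · have e3 : x * (a' * b') * x⁻¹ = a' * (x * b' * x⁻¹) := by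
      calc x * (a' * b') * x⁻¹ = (x * a') * b' * x⁻¹ := by group
        _ = _ := by rw [hc]; group
    rw [e3, e, ← mul_assoc, haa] at e2
    exact X.h.ne_one (mul_eq_right.mp e2)
  · have e3 : x * (z * (a' * b')) * x⁻¹ = z * (a' * (x * b' * x⁻¹)) := by
      calc x * (z * (a' * b')) * x⁻¹ = (x * z) * a' * b' * x⁻¹ := by group
        _ = z * ((x * a') * b' * x⁻¹) := by rw [hxz]; group
        _ = _ := by rw [hc]; group
    rw [e3, e, ← mul_assoc a', (hzc a' ha').symm.eq, mul_assoc, ← mul_assoc a', haa, ← mul_assoc,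
      ← mul_assoc, X.h.zz, one_mul] at e2
    exact X.h.ne_one (mul_eq_right.mp e2)

/-- The commutation pattern of `x` on the lifts of its fixed space. -/
theorem x_pattern {x : G} (hxH : x ∈ centralizer ({z} : Set G)) (hπ : X.π ⟨x, hxH⟩ = (t3, 1))
    {a b : G} (ha : a ∈ Q) (hb : b ∈ Q) (ea : K.ν a ∈ K.M.U) (eb : K.ν b ∈ K.M.U)
    (hna : x * a ≠ a * x) (hnb : x * b ≠ b * x) : x * (a * b) = a * b * x := by
  have hxz := X.mem_cent.mp hxH
  have h : ∀ c ∈ Q, K.ν c ∈ K.M.U → x * c ≠ c * x → x * c * x⁻¹ = z * c := fun c hc ec hne =>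
    (K.conj_cases hxz hc (by rw [hπ]; exact K.M.mem_U.mp ec)).resolve_left hne
  apply mul_inv_eq_iff_eq_mul.mp
  calc x * (a * b) * x⁻¹ = (x * a * x⁻¹) * (x * b * x⁻¹) := by group
    _ = z * a * (z * b) := by rw [h a ha ea hna, h b hb eb hnb]
    _ = a * b := by
      rw [(show Commute a z from X.h.comm a ha).mul_mul_mul_comm, X.h.zz, one_mul]

theorem A_image {x : G} (hxH : x ∈ centralizer ({z} : Set G)) (hπ : X.π ⟨x, hxH⟩ = (t3, 1))
    {a : G} (ha : a ∈ Q ⊓ centralizer ({x} : Set G)) : K.ν a ∈ K.M.U := by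
  obtain ⟨haQ, hax⟩ := ha
  have h1 := K.act ⟨x, hxH⟩ a haQ
  rw [hπ] at h1
  refine K.M.mem_U.mpr ?_
  rw [show K.M.t (K.ν a) = K.M.act (t3, 1) (K.ν a) from rfl, ← h1]
  show K.ν (x * a * x⁻¹) = _
  rw [← mem_centralizer_singleton_iff.mp hax, mul_inv_cancel_right]

end Co

end Cfsg.Agent.NineSetup31
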