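import Mathlib
import Cfsg.Agent.Lib.NineTransfer31

/-!
# The case in which the element of order three fixes a subgroup of order 128
-/

set_option autoImplicit false
set_option linter.style.haveILetI false
set_option maxRecDepth 100000

namespace Cfsg.Agent.NineSetup31

open Subgroup Cfsg.Agent.LargeExtraspecial Cfsg.Agent.LargeExtraspecialAct
  Cfsg.Agent.SixSymplModel31 Cfsg.Agent.SixModule31

variable {G : Type*} [Group G] [Finite G] {Q : Subgroup G} {z : G} {X : Ctx Q z}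

/-- Generators of the even permutations. -/
def gens6 : List (Equiv.Perm (Fin 6)) :=
  [Equiv.swap 0 1 * Equiv.swap 1 2, Equiv.swap 1 2 * Equiv.swap 2 3, Equiv.swap 2 3 * Equiv.swap 3 4,
    Equiv.swap 3 4 * Equiv.swap 4 5, σ5]

theorem gens6_even : ∀ g ∈ gens6, Even6 g := by decide +kernel

theorem no_involution : ∀ h : Equiv.Perm (Fin 6), h * h = 1 →
    (∀ g ∈ gens6, h * (g * h * g⁻¹) = g * h * g⁻¹ * h) → h = 1 := by decide +kernel

namespace Co

variable (K : Co X)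
include K

theorem lift_perp {S : AddSubgroup V8} {w : V8} (hw : ∀ s ∈ S, K.M.B w s = 0) {a b : G} (ha : a ∈ Q)
    (hb : b ∈ Q) (ea : K.ν a = w) (eb : K.ν b ∈ S) : a * b = b * a :=
  (K.comm_iff ha hb).mpr (by rw [ea]; exact hw _ eb)

theorem act_fix_e {p : P36} {u : V8} (hcomm : ∀ v, K.M.w (K.M.act p v) = K.M.act p (K.M.w v))
    (hfix : K.M.act p u = u) : K.M.act p (K.M.e u) = K.M.e u := by
  show K.M.act p (u + K.M.w u + K.M.w (K.M.w u)) = u + K.M.w u + K.M.w (K.M.w u)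
  rw [map_add, map_add, ← hcomm, ← hcomm, ← hcomm, hfix]

theorem t_e (u : V8) : K.M.t (K.M.e u) = K.M.e (K.M.t u) := by
  show K.M.t (u + K.M.w u + K.M.w (K.M.w u)) =
    K.M.t u + K.M.w (K.M.t u) + K.M.w (K.M.w (K.M.t u))
  rw [map_add, map_add, K.M.t_w, K.M.t_w, K.M.t_w, K.M.w_cube]
  abel

theorem U_split {u : V8} (hu : u ∈ K.M.U) :
    K.M.t (K.M.e u) = K.M.e u ∧ u + K.M.e u ∈ K.M.N := by
  have h1 : K.M.t (K.M.e u) = K.M.e u := by rw [K.t_e, K.M.mem_U.mp hu]
  exact ⟨h1, K.M.sub_mem_X u, K.M.mem_U.mpr (by rw [map_add, h1, K.M.mem_U.mp hu])⟩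

end Co

/-- The properties of the transvection centre. -/
def Good (K : Co X) (v : V8) : Prop :=
  v ∈ K.M.C ∧ K.M.q v = 1 ∧ K.M.t v = v ∧ (∀ σ ∈ K.M.H, K.M.act (1, σ) v = v) ∧
    ∃ c ∈ K.M.C, K.M.t c = c + v

section Small

variable (K : Co X) {a0 : V8} (hN : Nat.card K.M.N = 2) (hC : Nat.card K.M.C = 64)
include hN hC

theorem U_cases (ha0 : ∀ n ∈ K.M.N, n = 0 ∨ n = a0) {u : V8} (hu : u ∈ K.M.U) :
    u = K.M.e u ∨ u = K.M.e u + a0 := by
  rcases ha0 _ (K.U_split hu).2 with e | e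
  · exact Or.inl (K.M.eq_of e)
  · exact Or.inr (by rw [← e, add_comm u, K.M.add_left_self])

theorem sigma_a0 (ha : a0 ∈ K.M.N) {σ : Equiv.Perm (Fin 6)} (hσ : σ ∈ K.M.H) :
    K.M.act (1, σ) a0 = a0 := K.M.X_trivial hN hC hσ ha.1

/-- No conjugate of `z` in `Q` lies over a vector `a0 + v` fixed by the second factor. -/
theorem no_fusion (ha : a0 ∈ K.M.N) (ha0 : a0 ≠ 0) {v : V8} (hvC : v ∈ K.M.C) (htv : K.M.t v = v)
    (hv : ∀ σ ∈ K.M.H, K.M.act (1, σ) v = v) {g : G} (hgQ : g * z * g⁻¹ ∈ Q)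
    (hν : K.ν (g * z * g⁻¹) = a0 + v) : False := by
  classical
  set s := g * z * g⁻¹ with hs
  have hsz : s ≠ z := fun e => by
    rw [e, K.ν_z] at hν
    have e' : a0 = v := K.M.eq_of hν.symm
    exact ha0 (K.M.disjoint_CX (e' ▸ hvC) ha.1)
  have h32 : 32 ≤ Nat.card Q := by rw [X.cardQ]; norm_num
  set Q' := Q.map (MulAut.conj g).toMonoidHom with hQ'
  have h' : LHyp Q' s := X.h.map_conj g
  have hzQ' : z ∈ Q' := X.h.z_mem_conj hgQ hsz h32
  obtain ⟨q0, hq0, eq0⟩ := h'.partner z hzQ' X.h.ne_one (fun e => hsz e.symm)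
  let S : Subgroup G := Q' ⊓ centralizer ({z} : Set G)
  have hS : 256 ≤ Nat.card S := by
    have hc : Nat.card Q' = 512 := by
      rw [hQ', Subgroup.card_map_of_injective (MulAut.conj g).injective, X.cardQ]
    refine Nat.le_of_mul_le_mul_left ?_ (show 0 < 2 by norm_num)
    rw [show 2 * 256 = 512 from rfl, ← hc]
    refine (Nat.card_le_card_of_surjective (fun p : Bool × S =>
      (⟨if p.1 then q0 * p.2 else p.2, by
        split_ifs
        · exact Q'.mul_mem hq0 p.2.2.1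
        · exact p.2.2.1⟩ : Q')) ?_).trans (by rw [Nat.card_prod, Nat.card_eq_fintype_card,
          Fintype.card_bool])
    rintro ⟨b, hb⟩
    by_cases hbz : b * z = z * b
    · exact ⟨(false, ⟨b, hb, mem_centralizer_singleton_iff.mpr hbz⟩), rfl⟩
    · have hm := Q'.mul_mem (Q'.inv_mem hq0) hb
      refine ⟨(true, ⟨q0⁻¹ * b, hm, mem_centralizer_singleton_iff.mpr ?_⟩),
        Subtype.ext (by simp)⟩
      have e1 := (h'.toExt.not_comm_iff hzQ' hb).mp hbz
      apply mul_inv_eq_iff_eq_mul.mp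
      calc q0⁻¹ * b * z * (q0⁻¹ * b)⁻¹ = q0⁻¹ * (b * z * b⁻¹) * q0 := by group
        _ = q0⁻¹ * (q0 * z * q0⁻¹) * q0 := by rw [e1, eq0]
        _ = z := by group
  have hSz : ∀ m ∈ S, m ∈ centralizer ({z} : Set G) := fun m hm => hm.2
  let φ : S →* P36 := X.π.comp (Subgroup.inclusion fun m hm => hSz m hm)
  have hker : Nat.card φ.ker ≤ 32 := by
    let T : Subgroup G := φ.ker.map S.subtype
    have hT : Nat.card T = Nat.card φ.ker := Subgroup.card_map_of_injective S.subtype_injective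
    rw [← hT]
    have hTQ : ∀ m ∈ T, m ∈ Q ∧ m ∈ S := by
      rintro _ ⟨⟨m, hm⟩, hk, rfl⟩
      exact ⟨(X.ker _).mp hk, hm⟩
    refine K.abelian_le T (fun m hm => (hTQ m hm).1) fun a ha b hb => ?_
    obtain ⟨haQ, haS⟩ := hTQ a ha
    obtain ⟨hbQ, hbS⟩ := hTQ b hb
    rcases X.h.conj a haQ b hbQ with e | e
    · exact mul_inv_eq_iff_eq_mul.mp e
    · rcases h'.conj a haS.1 b hbS.1 with e' | e'
      · exact mul_inv_eq_iff_eq_mul.mp e'
      · exact absurd (mul_right_cancel (e'.symm.trans e)) hsz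
  have hrange : Nat.card φ.range ≤ 2 := by
    have hpm : ∀ m : S, φ m * φ m = 1 ∧
        (∀ g' ∈ gens6, (φ m).2 * (g' * (φ m).2 * g'⁻¹) = g' * (φ m).2 * g'⁻¹ * (φ m).2) ∧
        K.M.act (φ m) (a0 + v) = a0 + v := by
      intro m
      have hms := h'.comm m m.2.1
      have hfix : K.M.act (φ m) (a0 + v) = a0 + v := by
        have h1 := K.act ⟨(m : G), hSz m m.2⟩ s hgQ
        rw [hν] at h1
        rw [show φ m = X.π ⟨(m : G), hSz m m.2⟩ from rfl, ← h1]
        show K.ν ((m : G) * s * (m : G)⁻¹) = _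
        rw [hms, mul_inv_cancel_right, hν]
      refine ⟨?_, ?_, hfix⟩
      · rw [← map_mul]
        show X.π _ = 1
        rw [X.ker]
        rcases h'.sq m m.2.1 with e | e
        · show (m : G) * m ∈ Q; rw [e]; exact Q.one_mem
        · show (m : G) * m ∈ Q; rw [e]; exact hgQ
      · intro g' hg'
        obtain ⟨n0, hn0⟩ := X.surj 1 g' (X.even_mem g' (gens6_even g' hg'))
        -- adjust the lift to fix `s`
        have hfixn : K.ν ((n0 : G) * s * (n0 : G)⁻¹) = K.ν s := by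
          rw [K.act n0 s hgQ, hn0, hν, map_add,
            sigma_a0 K hN hC ha (K.hH ▸ X.even_mem g' (gens6_even g' hg')),
            hv g' (K.hH ▸ X.even_mem g' (gens6_even g' hg'))]
        obtain ⟨qs, hqs, eqs⟩ := X.h.partner s hgQ (h'.ne_one) hsz
        obtain ⟨n, hn, hns⟩ : ∃ n : ↥(centralizer ({z} : Set G)), X.π n = (1, g') ∧
            (n : G) * s * (n : G)⁻¹ = s := by
          rcases K.same (X.norm n0 hgQ) hgQ hfixn with e | e
          · exact ⟨n0, hn0, e⟩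
          · refine ⟨⟨qs, X.Q_le hqs⟩ * n0, by rw [map_mul, (X.ker _).mpr hqs, one_mul, hn0], ?_⟩
            show qs * (n0 : G) * s * (qs * (n0 : G))⁻¹ = s
            calc qs * (n0 : G) * s * (qs * (n0 : G))⁻¹ = qs * ((n0 : G) * s * (n0 : G)⁻¹) * qs⁻¹ := by
                  group
              _ = z * (qs * s * qs⁻¹) := by
                  rw [e, ← mul_assoc, X.h.comm qs hqs]; group
              _ = s := by rw [eqs, X.h.z_mul_z_mul]
        have hnz := mem_centralizer_singleton_iff.mp n.2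
        have hnQ' : (n : G) * m * (n : G)⁻¹ ∈ S :=
          ⟨h'.norm n (mul_inv_eq_iff_eq_mul.mp hns) m m.2.1,
            mem_centralizer_singleton_iff.mpr (((show Commute (n : G) z from hnz).mul_left
              (mem_centralizer_singleton_iff.mp m.2.2)).mul_left
              (show Commute (n : G) z from hnz).inv_left).eq⟩
        have e1 : φ ⟨_, hnQ'⟩ = (1, g') * φ m * (1, g')⁻¹ := by
          rw [← hn, show φ m = X.π ⟨(m : G), hSz m m.2⟩ from rfl, ← map_inv, ← map_mul, ← map_mul]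
          rfl
        have e2 : φ m * φ ⟨_, hnQ'⟩ = φ ⟨_, hnQ'⟩ * φ m := by
          have hab : φ (m * ⟨_, hnQ'⟩ * m⁻¹ * (⟨_, hnQ'⟩ : S)⁻¹) = 1 := by
            show X.π _ = 1
            rw [X.ker]
            show (m : G) * ((n : G) * m * (n : G)⁻¹) * (m : G)⁻¹ * ((n : G) * m * (n : G)⁻¹)⁻¹ ∈ Q
            rcases h'.conj m m.2.1 _ hnQ'.1 with e | e <;> rw [e]
            · rw [mul_inv_cancel]; exact Q.one_mem
            · rw [mul_inv_cancel_right]; exact hgQ
          rw [map_mul, map_mul, map_mul, map_inv, map_inv] at hab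
          exact mul_inv_eq_iff_eq_mul.mp (mul_inv_eq_one.mp hab)
        rw [e1] at e2
        simpa using congrArg Prod.snd e2
    have hsub : ∀ p ∈ φ.range, p = 1 ∨ p = (t3, 1) := by
      rintro _ ⟨m, rfl⟩
      obtain ⟨h1, h2, h3⟩ := hpm m
      have hh : (φ m).2 = 1 := no_involution _ (congrArg Prod.snd h1) h2
      have hτ : (φ m).1 * (φ m).1 = 1 := congrArg Prod.fst h1
      have he : φ m = ((φ m).1, 1) := Prod.ext rfl hh
      rw [he] at h3 ⊢
      generalize (φ m).1 = τ at hτ h3 ⊢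
      have hcase : τ = 1 ∨ τ = t3 ∨ τ = c3 * t3 ∨ τ = c3 * (c3 * t3) := by
        revert hτ
        clear h3 he
        revert τ
        decide
      rcases hcase with rfl | rfl | rfl | rfl
      · exact Or.inl rfl
      · exact Or.inr rfl
      all_goals
        exfalso
        have hwC := K.M.mem_C.mp hvC
        apply ha0
      · have e : K.M.w a0 + v = a0 + v := by
          rw [K.M.act_pair] at h3
          change K.M.w (K.M.t (a0 + v)) = a0 + v at h3
          rwa [map_add, K.M.mem_U.mp ha.2, htv, map_add, hwC] at h3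
        exact K.M.disjoint_CX (K.M.mem_C.mpr (add_right_cancel e)) ha.1
      · have e : K.M.w (K.M.w a0) + v = a0 + v := by
          rw [K.M.act_pair, K.M.act_pair] at h3
          change K.M.w (K.M.w (K.M.t (a0 + v))) = a0 + v at h3
          rwa [map_add, K.M.mem_U.mp ha.2, htv, map_add, hwC, map_add, hwC] at h3
        have e' := congrArg K.M.w (add_right_cancel e)
        rw [K.M.w_cube] at e'
        exact K.M.disjoint_CX (K.M.mem_C.mpr e'.symm) ha.1
    refine (Nat.card_le_card_of_surjective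
      (fun b : Bool => if hb : (if b then ((t3, 1) : P36) else 1) ∈ φ.range then
        (⟨_, hb⟩ : φ.range) else 1) ?_).trans (by rw [Nat.card_eq_fintype_card, Fintype.card_bool])
    rintro ⟨p, hp⟩
    rcases hsub p hp with rfl | rfl
    · exact ⟨false, by simp⟩
    · exact ⟨true, by simp [hp]⟩
  have h1 := Subgroup.card_eq_card_quotient_mul_card_subgroup φ.ker
  rw [Nat.card_congr (QuotientGroup.quotientKerEquivRange φ).toEquiv] at h1
  nlinarith

/-- The lift of the transposition and the centre of its centraliser in `Q`. -/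
theorem exists_x (ha : a0 ∈ K.M.N) (hall : ∀ n ∈ K.M.N, n = 0 ∨ n = a0) (hqa : K.M.q a0 = 1) :
    ∃ (x : G) (hxH : x ∈ centralizer ({z} : Set G)) (v : V8),
      X.π ⟨x, hxH⟩ = (t3, 1) ∧ (x ^ 2 = 1 ∨ x ^ 2 = z) ∧
      (∀ u ∈ K.M.U, ∃ r ∈ Q ⊓ centralizer ({x} : Set G), K.ν r = u ∨ K.ν r = u + a0) ∧
      (∀ a ∈ Q ⊓ centralizer ({x} : Set G), (∀ r ∈ Q ⊓ centralizer ({x} : Set G), r * a = a * r) →
          a = 1 ∨ a = z ∨ (Good K v ∧ K.ν a = a0 + v)) ∧
      64 ≤ Nat.card K.M.U := by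
  classical
  obtain ⟨ω, hω, hω3⟩ := X.exists_three
  have hta : K.M.t a0 = a0 := K.M.mem_U.mp ha.2
  have hshape := K.M.t_shape hN hC
  -- lifts of `C` commute with `ω`, and conversely
  have hC_iff : ∀ a ∈ Q, ((ω : G) * a = a * ω ↔ K.ν a ∈ K.M.C) := by
    intro a haQ
    have hωz := mem_centralizer_singleton_iff.mp ω.2
    have h1 := K.act ω a haQ
    rw [hω] at h1
    refine ⟨fun e => ?_, fun e => ?_⟩
    · rw [e, mul_inv_cancel_right] at h1
      exact K.M.mem_C.mpr h1.symm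
    · refine fix_of_fix_mod X.h.toExt (n := 3) (by decide) hω3 hωz ?_
      exact K.same (X.norm ω haQ) haQ (h1.trans (K.M.mem_C.mp e))
  obtain ⟨x0, hx0π, hx0ω⟩ := X.exists_norm hω hω3 t3 X.H.one_mem
  rw [if_neg (by decide)] at hx0ω
  have hx0z := mem_centralizer_singleton_iff.mp x0.2
  have hx0Q : (x0 : G) * x0 ∈ Q := by
    refine (X.ker (x0 * x0)).mp ?_
    rw [map_mul, hx0π]
    decide
  have hsqC : ∀ x : G, x * ω * x⁻¹ = (ω : G)⁻¹ → x * x * ω = ω * (x * x) := by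
    intro x hx
    apply mul_inv_eq_iff_eq_mul.mp
    calc x * x * ω * (x * x)⁻¹ = x * (x * ω * x⁻¹) * x⁻¹ := by group
      _ = x * (ω : G)⁻¹ * x⁻¹ := by rw [hx]
      _ = (x * ω * x⁻¹)⁻¹ := by group
      _ = ω := by rw [hx, inv_inv]
  -- adjust the lift
  have hadj : ∀ c ∈ Q, K.ν c ∈ K.M.C → ∃ hm : (x0 : G) * c ∈ centralizer ({z} : Set G),
      X.π ⟨_, hm⟩ = (t3, 1) ∧ (x0 : G) * c * ω * ((x0 : G) * c)⁻¹ = (ω : G)⁻¹ := by
    intro c hc hcC
    refine ⟨mul_mem x0.2 (X.Q_le hc), ?_, ?_⟩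
    · rw [show (⟨_, mul_mem x0.2 (X.Q_le hc)⟩ : ↥(centralizer ({z} : Set G))) =
        x0 * ⟨c, X.Q_le hc⟩ from rfl, map_mul, (X.ker ⟨c, X.Q_le hc⟩).mpr hc, mul_one, hx0π]
    · calc (x0 : G) * c * ω * ((x0 : G) * c)⁻¹ = (x0 : G) * (c * ω) * c⁻¹ * (x0 : G)⁻¹ := by group
        _ = (x0 : G) * ω * (x0 : G)⁻¹ := by rw [← (hC_iff c hc).mpr hcC]; group
        _ = _ := hx0ω
  have hcardU : ∀ (f : V8 →+ ZMod 2), (∀ c ∈ K.M.C, f c = 0 → K.M.t c = c) →
      64 ≤ Nat.card K.M.U := by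
    intro f hf
    let S : AddSubgroup V8 := K.M.C ⊓ f.ker
    have hmem : ∀ c : S, ∀ n : K.M.N, (c : V8) + n ∈ K.M.U := fun c n =>
      add_mem (K.M.mem_U.mpr (hf c c.2.1 c.2.2)) n.2.2
    have hS : 32 ≤ Nat.card S := by
      let g' : K.M.C →+ ZMod 2 := f.comp K.M.C.subtype
      have h1 := AddSubgroup.card_eq_card_quotient_mul_card_addSubgroup g'.ker
      rw [hC, Nat.card_congr (QuotientAddGroup.quotientKerEquivRange g').toEquiv] at h1
      have h2 : Nat.card g'.range ≤ 2 := by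
        refine (Nat.card_le_card_of_injective _ Subtype.val_injective).trans ?_
        simp
      have h3 : Nat.card S = Nat.card g'.ker := Nat.card_congr
        { toFun := fun c => ⟨⟨c, c.2.1⟩, c.2.2⟩
          invFun := fun c => ⟨c.1.1, c.1.2, c.2⟩
          left_inv := fun _ => rfl
          right_inv := fun _ => rfl }
      rw [h3]
      nlinarith
    calc 64 ≤ Nat.card S * Nat.card K.M.N := by rw [hN]; omega
      _ = Nat.card (S × K.M.N) := (Nat.card_prod _ _).symm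
      _ ≤ _ := Nat.card_le_card_of_injective (fun p => (⟨_, hmem p.1 p.2⟩ : K.M.U)) (by
        rintro ⟨c, n⟩ ⟨c', n'⟩ e
        have e' : (c : V8) + n = c' + n' := congrArg Subtype.val e
        have e2 := congrArg K.M.e e'
        rw [map_add, map_add, K.M.e_C c.2.1, K.M.e_C c'.2.1,
          AddMonoidHom.mem_ker.mp n.2.1, AddMonoidHom.mem_ker.mp n'.2.1, add_zero, add_zero] at e2
        rw [e2] at e'
        exact Prod.ext (Subtype.ext e2) (Subtype.ext (add_left_cancel e')))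
  obtain ⟨a0', ha0', ea0'⟩ := K.surj a0
  have htb : K.M.t (K.M.w a0) = a0 + K.M.w a0 := by
    rw [K.M.t_w, hta]
    refine K.M.eq_of ?_
    rw [add_comm]
    exact K.M.mem_X.mp ha.1
  have hxC : ∀ (x : G) (hxH : x ∈ centralizer ({z} : Set G)), X.π ⟨x, hxH⟩ = (t3, 1) →
      (x ^ 2 = 1 ∨ x ^ 2 = z) →
      ∀ u ∈ K.M.U, ∃ r ∈ Q ⊓ centralizer ({x} : Set G),
        K.ν r = u ∨ K.ν r = u + a0 := by
    intro x hxH hπ hx2 u hu
    obtain ⟨b, hb, eb⟩ := K.surj u
    by_cases hbx : x * b = b * x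
    · exact ⟨b, ⟨hb, mem_centralizer_singleton_iff.mpr hbx.symm⟩, Or.inl eb⟩
    · refine ⟨b * a0', ⟨Q.mul_mem hb ha0', mem_centralizer_singleton_iff.mpr ?_⟩, Or.inr ?_⟩
      · exact (K.x_pattern hxH hπ hb ha0' (eb.symm ▸ hu) (ea0'.symm ▸ ha.2) hbx
          (K.not_comm hxH hπ hx2 hta htb hqa ha0' ea0')).symm
      · rw [K.add b hb a0' ha0', eb, ea0']
  rcases hshape with htriv | ⟨v, hvC, hqv, htv, hv, hfix, hmove, hu5⟩
  · -- trivial action
    have hbit : ∀ c ∈ Q, K.ν c ∈ K.M.C →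
        (x0 : G) * c * (x0 : G)⁻¹ = zp z (if (x0 : G) * c * (x0 : G)⁻¹ = c then 0 else 1) * c := by
      intro c hc hcC
      rcases K.conj_cases hx0z hc (by rw [show X.π ⟨(x0 : G), _⟩ = (t3, 1) from hx0π]
                                      exact htriv _ hcC) with e | e
      · rw [if_pos (by rw [e, mul_inv_cancel_right]), zp_zero, one_mul, e, mul_inv_cancel_right]
      · rw [if_neg (fun e' => X.h.z_mul_ne c (e.symm.trans e')), zp_one, e]
    choose s hs1 hs2 using K.surj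
    let Lf : V8 → ZMod 2 := fun u =>
      if (x0 : G) * s (K.M.e u) * (x0 : G)⁻¹ = s (K.M.e u) then 0 else 1
    have hLf : ∀ c ∈ Q, K.ν c ∈ K.M.C → (x0 : G) * c * (x0 : G)⁻¹ = zp z (Lf (K.ν c)) * c := by
      intro c hc hcC
      have e1 : K.M.e (K.ν c) = K.ν c := K.M.e_C hcC
      have e2 := hbit _ (hs1 (K.ν c)) (by rw [hs2]; exact hcC)
      simp only [Lf, e1]
      rcases K.same hc (hs1 _) (hs2 _).symm with e | e
      · rw [← e]
        exact hbit c hc hcC
      · generalize s (K.ν c) = s' at e e2 ⊢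
        subst e
        generalize (if (x0 : G) * s' * (x0 : G)⁻¹ = s' then (0 : ZMod 2) else 1) = i at e2 ⊢
        calc (x0 : G) * (z * s') * (x0 : G)⁻¹ = z * ((x0 : G) * s' * (x0 : G)⁻¹) := by
              rw [← mul_assoc (x0 : G), hx0z]; group
          _ = _ := by
              rw [e2]
              rcases two_eq i with w | w <;> rw [w] <;> simp [zp_zero, zp_one]
    have hLadd : ∀ u w, Lf (u + w) = Lf u + Lf w := by
      intro u w
      have hu := K.M.e_mem u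
      have hw := K.M.e_mem w
      have hLe : ∀ u, Lf (K.M.e u) = Lf u := fun u => by
        simp only [Lf, K.M.e_C (K.M.e_mem u)]
      rw [← hLe, ← hLe u, ← hLe w, map_add]
      have h1 := hLf _ (Q.mul_mem (hs1 (K.M.e u)) (hs1 (K.M.e w)))
        (by rw [K.add _ (hs1 _) _ (hs1 _), hs2, hs2]; exact add_mem hu hw)
      rw [K.add _ (hs1 _) _ (hs1 _), hs2, hs2] at h1
      apply zp_inj X.h.ne_one
      apply mul_right_cancel (b := s (K.M.e u) * s (K.M.e w))
      rw [← h1, zp_add X.h.zz]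
      have h2 := hLf _ (hs1 (K.M.e u)) (by rw [hs2]; exact hu)
      have h3 := hLf _ (hs1 (K.M.e w)) (by rw [hs2]; exact hw)
      rw [hs2] at h2 h3
      calc (x0 : G) * (s (K.M.e u) * s (K.M.e w)) * (x0 : G)⁻¹ =
          ((x0 : G) * s (K.M.e u) * (x0 : G)⁻¹) * ((x0 : G) * s (K.M.e w) * (x0 : G)⁻¹) := by group
        _ = _ := by
          rw [h2, h3]
          refine Commute.mul_mul_mul_comm ?_ _ _
          rcases two_eq (Lf (K.M.e w)) with e | e <;> rw [e]
          · rw [zp_zero]; exact Commute.one_right _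
          · rw [zp_one]; exact X.h.comm _ (hs1 _)
    obtain ⟨c0, hc0, hc0'⟩ := K.M.linear_rep (AddMonoidHom.mk' Lf hLadd) K.M.C
      fun a ha h => K.M.C_nondeg ha h
    obtain ⟨hm, hπ, hxω⟩ := hadj _ (hs1 c0) (by rw [hs2]; exact hc0)
    have hcomm : ∀ c ∈ Q, K.ν c ∈ K.M.C → (x0 : G) * s c0 * c = c * ((x0 : G) * s c0) := by
      intro c hc hcC
      apply mul_inv_eq_iff_eq_mul.mp
      calc (x0 : G) * s c0 * c * ((x0 : G) * s c0)⁻¹ =
          (x0 : G) * (s c0 * c * (s c0)⁻¹) * (x0 : G)⁻¹ := by group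
        _ = (x0 : G) * (zp z (K.M.B c0 (K.ν c)) * c) * (x0 : G)⁻¹ := by
            rw [K.conj _ (hs1 c0) c hc, hs2]
        _ = zp z (K.M.B c0 (K.ν c)) * ((x0 : G) * c * (x0 : G)⁻¹) := by
            rcases two_eq (K.M.B c0 (K.ν c)) with e | e <;> rw [e]
            · simp [zp_zero]
            · rw [zp_one, ← mul_assoc (x0 : G), hx0z]; group
        _ = c := by
            rw [hLf c hc hcC, ← mul_assoc, ← zp_add X.h.zz,
              show Lf (K.ν c) = K.M.B (K.ν c) c0 from hc0' _ hcC, K.M.B_comm c0,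
              CharTwo.add_self_eq_zero, zp_zero, one_mul]
    have hsqQ : (x0 : G) * s c0 * ((x0 : G) * s c0) ∈ Q :=
      (X.ker (⟨_, hm⟩ * ⟨_, hm⟩)).mp (by rw [map_mul, hπ]; decide)
    have hsqC' : K.ν ((x0 : G) * s c0 * ((x0 : G) * s c0)) ∈ K.M.C :=
      (hC_iff _ hsqQ).mp (hsqC _ hxω).symm
    have hx2 : ((x0 : G) * s c0) ^ 2 = 1 ∨ ((x0 : G) * s c0) ^ 2 = z := by
      rw [pow_two]
      refine (K.kerν _ hsqQ).mp (K.M.C_nondeg hsqC' fun b hb => ?_)
      rw [← hs2 b]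
      refine (K.comm_iff hsqQ (hs1 b)).mp ?_
      have h1 : Commute ((x0 : G) * s c0) (s b) := hcomm _ (hs1 b) (by rw [hs2]; exact hb)
      exact (h1.mul_left h1).eq
    refine ⟨_, hm, 0, hπ, hx2, hxC _ hm hπ hx2, fun a haA hall' => ?_,
      hcardU 0 fun c hc _ => htriv c hc⟩
    have haU := K.A_image hm hπ haA
    have haC : K.ν a ∈ K.M.C := by
      rcases U_cases K hN hC hall haU with e | e
      · exact e.symm ▸ K.M.e_mem _
      · exfalso
        have hb : (x0 : G) * s c0 * s (K.M.e (K.ν a)) = s (K.M.e (K.ν a)) * ((x0 : G) * s c0) :=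
          hcomm _ (hs1 _) (by rw [hs2]; exact K.M.e_mem _)
        have hab : s (K.M.e (K.ν a)) * a ∈ Q := Q.mul_mem (hs1 _) haA.1
        refine K.not_comm hm hπ hx2 hta htb hqa hab ?_ ?_
        · rw [K.add _ (hs1 _) a haA.1, hs2]
          conv_lhs => arg 2; rw [e]
          rw [K.M.add_left_self]
        · exact ((show Commute ((x0 : G) * s c0) (s (K.M.e (K.ν a))) from hb).mul_right
            (mem_centralizer_singleton_iff.mp haA.2).symm).eq
    refine Or.imp id Or.inl ((K.kerν a haA.1).mp (K.M.C_nondeg haC fun b hb => ?_))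
    rw [← hs2 b]
    exact (K.comm_iff haA.1 (hs1 b)).mp (hall' (s b) ⟨hs1 b,
      mem_centralizer_singleton_iff.mpr (hcomm _ (hs1 b) (by rw [hs2]; exact hb)).symm⟩).symm
  · -- transvection
    have hB0 : ∀ c ∈ K.M.C, K.M.t c = c + v ∨ K.M.t c = c := fun c hc => by
      rcases two_eq (K.M.B c v) with e | e
      exacts [Or.inr (hfix c hc e), Or.inl (hmove c hc e)]
    obtain ⟨c1, hc1, hBc1⟩ : ∃ c ∈ K.M.C, K.M.B c v = 1 := by
      by_contra h
      push Not at h
      have : v = 0 := K.M.C_nondeg hvC fun b hb => by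
        rw [K.M.B_comm]; exact (two_eq _).resolve_right (h b hb)
      rw [this, K.M.q_zero] at hqv
      exact zero_ne_one hqv
    set u := K.ν ((x0 : G) * x0) with hu
    have huC : u ∈ K.M.C := (hC_iff _ hx0Q).mp (hsqC _ hx0ω).symm
    have htu : K.M.t u = u := by
      have h1 := K.act x0 _ hx0Q
      rw [hx0π, show (x0 : G) * ((x0 : G) * x0) * (x0 : G)⁻¹ = (x0 : G) * x0 by group] at h1
      exact h1.symm
    have hσ5 : σ5 ∈ X.H := X.even_mem _ σ5_spec.1
    have hσ5' : σ5 ∈ K.M.H := K.hH ▸ hσ5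
    obtain ⟨n, hnπ, hnω⟩ := X.exists_norm hω hω3 1 hσ5
    rw [if_pos (map_one _)] at hnω
    have hk : K.M.act (1, σ5) u = u ∨ K.M.act (1, σ5) u = u + v := by
      set c' : G := (x0 : G)⁻¹ * ((n : G) * x0 * (n : G)⁻¹) with hc'
      have hc'Q : c' ∈ Q := by
        refine (X.ker (x0⁻¹ * (n * x0 * n⁻¹))).mp ?_
        rw [map_mul, map_mul, map_mul, map_inv, map_inv, hx0π, hnπ]
        ext1 <;> simp
      have hc'C : K.ν c' ∈ K.M.C := by
        refine (hC_iff c' hc'Q).mp ?_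
        have e1 : (n : G) * x0 * (n : G)⁻¹ * ω * ((n : G) * x0 * (n : G)⁻¹)⁻¹ = (ω : G)⁻¹ := by
          calc (n : G) * x0 * (n : G)⁻¹ * ω * ((n : G) * x0 * (n : G)⁻¹)⁻¹ =
              (n : G) * ((x0 : G) * ((n : G)⁻¹ * ((n : G) * ω * (n : G)⁻¹) * n) * (x0 : G)⁻¹) *
                (n : G)⁻¹ := by rw [hnω]; group
            _ = (n : G) * ((x0 : G) * ω * (x0 : G)⁻¹) * (n : G)⁻¹ := by group
            _ = ((n : G) * ω * (n : G)⁻¹)⁻¹ := by rw [hx0ω]; group
            _ = _ := by rw [hnω]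
        refine (mul_inv_eq_iff_eq_mul.mp ?_).symm
        calc c' * ω * c'⁻¹ = (x0 : G)⁻¹ * ((n : G) * x0 * (n : G)⁻¹ * ω *
              ((n : G) * x0 * (n : G)⁻¹)⁻¹) * x0 := by rw [hc']; group
          _ = (x0 : G)⁻¹ * ((x0 : G) * ω * (x0 : G)⁻¹) * x0 := by rw [e1, hx0ω]
          _ = ω := by group
      have h1 := K.act n _ hx0Q
      rw [hnπ] at h1
      have e2 : (n : G) * ((x0 : G) * x0) * (n : G)⁻¹ =
          (x0 : G) * x0 * ((x0 : G)⁻¹ * c' * x0) * c' := by rw [hc']; group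
      have h2 : K.ν ((x0 : G)⁻¹ * c' * x0) = K.M.t (K.ν c') := by
        show _ = K.M.act (t3, 1) _
        have h3 := K.act x0⁻¹ c' hc'Q
        rw [map_inv, hx0π, show ((t3, 1) : P36)⁻¹ = (t3, 1) by decide] at h3
        simpa using h3
      have hq1 : (x0 : G)⁻¹ * c' * x0 ∈ Q := by
        simpa using X.norm x0⁻¹ hc'Q
      rw [e2, K.add _ (Q.mul_mem hx0Q hq1) _ hc'Q, K.add _ hx0Q _ hq1, h2] at h1
      rcases hB0 _ hc'C with e | e <;> rw [e, ← hu] at h1
      · right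
        rw [← h1, add_assoc, add_right_comm (K.ν c'), v8_two, zero_add]
      · left
        rw [← h1, add_assoc, v8_two, add_zero]
    have hu0v : u = 0 ∨ u = v := by
      refine hu5 u huC htu (hk.resolve_right fun e => ?_)
      have hk5 := K.M.act_five u
      rw [e, map_add, e, hv σ5 hσ5', add_assoc, v8_two, add_zero, e, map_add, e, hv σ5 hσ5',
        add_assoc, v8_two, add_zero, e] at hk5
      have : v = 0 := by
        rw [← K.M.add_left_self u v, hk5, v8_two]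
      rw [this, K.M.q_zero] at hqv
      exact zero_ne_one hqv
    obtain ⟨c, hcQ, hcC, hct⟩ : ∃ c ∈ Q, K.ν c ∈ K.M.C ∧
        u + (K.ν c + K.M.t (K.ν c)) = 0 := by
      rcases hu0v with e | e
      · exact ⟨1, Q.one_mem, by rw [K.ν_one]; exact zero_mem _, by
          rw [K.ν_one, map_zero, e]; simp⟩
      · obtain ⟨c, hc, ec⟩ := K.surj c1
        exact ⟨c, hc, by rw [ec]; exact hc1, by
          rw [ec, hmove c1 hc1 hBc1, K.M.add_left_self, e, v8_two]⟩
    obtain ⟨hm, hπ, hxω⟩ := hadj c hcQ hcC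
    have hq2 : (x0 : G)⁻¹ * c * x0 ∈ Q := by simpa using X.norm x0⁻¹ hcQ
    have hx2 : ((x0 : G) * c) ^ 2 = 1 ∨ ((x0 : G) * c) ^ 2 = z := by
      rw [pow_two, show (x0 : G) * c * ((x0 : G) * c) = (x0 : G) * x0 * ((x0 : G)⁻¹ * c * x0) * c
        by group]
      refine (K.kerν _ (Q.mul_mem (Q.mul_mem hx0Q hq2) hcQ)).mp ?_
      have h2 : K.ν ((x0 : G)⁻¹ * c * x0) = K.M.t (K.ν c) := by
        show _ = K.M.act (t3, 1) _
        have h3 := K.act x0⁻¹ c hcQ
        rw [map_inv, hx0π, show ((t3, 1) : P36)⁻¹ = (t3, 1) by decide] at h3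
        simpa using h3
      rw [K.add _ (Q.mul_mem hx0Q hq2) _ hcQ, K.add _ hx0Q _ hq2, h2, ← hu, add_assoc,
        add_comm (K.M.t (K.ν c)), hct]
    have htc1 : K.M.t c1 = v + c1 := by rw [hmove c1 hc1 hBc1, add_comm]
    refine ⟨_, hm, v, hπ, hx2, hxC _ hm hπ hx2,
      fun a haA hall' => ?_,
      hcardU (AddMonoidHom.mk' (fun w => K.M.B w v) fun w w' => K.M.B_left w w' v)
        fun c hc e => hfix c hc e⟩
    have haU := K.A_image hm hπ haA
    obtain ⟨va, hva, eva⟩ := K.surj v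
    have hnv := K.not_comm hm hπ hx2 htv htc1 hqv hva eva
    have hperp : ∀ w ∈ K.M.U, K.M.B (K.ν a) w = 0 := by
      have hb : ∀ b ∈ Q, K.ν b ∈ K.M.U → (x0 : G) * c * b = b * ((x0 : G) * c) →
          K.M.B (K.ν a) (K.ν b) = 0 := fun b hb _ hbx =>
        (K.comm_iff haA.1 hb).mp (hall' b ⟨hb, mem_centralizer_singleton_iff.mpr hbx.symm⟩).symm
      have ha0z : K.M.B (K.ν a) a0 = 0 := by
        rcases U_cases K hN hC hall haU with e | e <;> rw [e]
        · exact K.M.B_CX (K.M.e_mem _) ha.1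
        · rw [K.M.B_left, K.M.B_CX (K.M.e_mem _) ha.1, K.M.B_self, add_zero]
      intro w hw
      obtain ⟨r, hr, e | e⟩ := hxC _ hm hπ hx2 w hw
      · rw [← e]; exact hb r hr.1 (e.symm ▸ hw) (mem_centralizer_singleton_iff.mp hr.2).symm
      · have h1 := hb r hr.1 (e.symm ▸ add_mem hw ha.2) (mem_centralizer_singleton_iff.mp hr.2).symm
        rwa [e, K.M.B_right, ha0z, add_zero] at h1
    have hev : K.M.e (K.ν a) = 0 ∨ K.M.e (K.ν a) = v := by
      set c2 := K.M.e (K.ν a) with hc2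
      have hc2C := K.M.e_mem (K.ν a)
      have hp : ∀ w ∈ K.M.C, K.M.B w v = 0 → K.M.B c2 w = 0 := by
        intro w hw hw0
        have h1 := hperp w (K.M.mem_U.mpr (hfix w hw hw0))
        rcases U_cases K hN hC hall haU with e | e
        · rwa [hc2, ← e]
        · rw [e, K.M.B_left, K.M.B_comm a0, K.M.B_CX hw ha.1, add_zero] at h1
          exact h1
      have fin : ∀ d ∈ K.M.C, (∀ w ∈ K.M.C, K.M.B w v = 0 → K.M.B d w = 0) → K.M.B d c1 = 0 →
          d = 0 := by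
        intro d hd h1 h2
        refine K.M.C_nondeg hd fun w hw => ?_
        rcases two_eq (K.M.B w v) with e | e
        · exact h1 w hw e
        · have := h1 (w + c1) (add_mem hw hc1) (by
            rw [K.M.B_left, e, hBc1, CharTwo.add_self_eq_zero])
          rwa [K.M.B_right, h2, add_zero] at this
      rcases two_eq (K.M.B c2 c1) with e | e
      · exact Or.inl (fin c2 hc2C hp e)
      · refine Or.inr (K.M.eq_of (fin (c2 + v) (add_mem hc2C hvC) (fun w hw hw0 => ?_) ?_))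
        · rw [K.M.B_left, hp w hw hw0, K.M.B_comm v, hw0, add_zero]
        · rw [K.M.B_left, e, K.M.B_comm v, hBc1, CharTwo.add_self_eq_zero]
    obtain ⟨ae, hae, eae⟩ := K.surj a0
    rcases hev with e | e <;> rcases U_cases K hN hC hall haU with e' | e' <;> rw [e] at e'
    · exact (K.kerν a haA.1).mp e' |>.imp id Or.inl
    · exfalso
      rw [zero_add] at e'
      exact K.not_comm hm hπ hx2 hta htb hqa haA.1 e' (mem_centralizer_singleton_iff.mp haA.2).symm
    · exfalso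
      exact K.not_comm hm hπ hx2 htv htc1 hqv haA.1 e' (mem_centralizer_singleton_iff.mp haA.2).symm
    · exact Or.inr (Or.inr ⟨⟨hvC, hqv, htv, hv, c1, hc1, hmove c1 hc1 hBc1⟩, by rw [e', add_comm]⟩)

/-- A conjugate of `z` is not over `a0 + v` after dividing by the lift of the transposition. -/
theorem not_over (ha : a0 ∈ K.M.N) (ha0 : a0 ≠ 0) {x g : G} {v : V8}
    (hxH : x ∈ centralizer ({z} : Set G)) (hπ : X.π ⟨x, hxH⟩ = (t3, 1))
    (hx2 : x ^ 2 = 1 ∨ x ^ 2 = z) (hA64 : 64 ≤ Nat.card ↥(Q ⊓ centralizer ({x} : Set G)))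
    (hZ : ∀ a ∈ Q ⊓ centralizer ({x} : Set G),
      (∀ r ∈ Q ⊓ centralizer ({x} : Set G), r * a = a * r) →
        a = 1 ∨ a = z ∨ (Good K v ∧ K.ν a = a0 + v))
    (hgood : Good K v) (hyne : g * z * g⁻¹ ≠ z) (hxy : x * (g * z * g⁻¹) = g * z * g⁻¹ * x)
    (hyA : ∀ r ∈ Q ⊓ centralizer ({x} : Set G), r * (g * z * g⁻¹) = g * z * g⁻¹ * r)
    (huQ : x⁻¹ * (g * z * g⁻¹) ∈ Q) (hux : x⁻¹ * (g * z * g⁻¹) * x = x * (x⁻¹ * (g * z * g⁻¹))) :
    K.ν (x⁻¹ * (g * z * g⁻¹)) ≠ a0 + v := by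
  classical
  intro hν
  obtain ⟨hvC, hqv, htv, hv, c1, hc1, htc1⟩ := hgood
  set y := g * z * g⁻¹ with hy
  set A := Q ⊓ centralizer ({x} : Set G) with hAdef
  set u := x⁻¹ * y with hu
  have hxz := X.mem_cent.mp hxH
  have hyw : y = x * u := by rw [hu, mul_inv_cancel_left]
  have h' : LHyp (Q.map (MulAut.conj g).toMonoidHom) y := X.h.map_conj g
  have hyQ : y ∉ Q := fun e => by
    have e1 : x ∈ Q := by
      have := Q.mul_mem e (Q.inv_mem huQ)
      rwa [hu, mul_inv_rev, inv_inv, mul_inv_cancel_left] at this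
    have := (X.ker ⟨x, hxH⟩).mpr e1
    rw [hπ] at this
    exact absurd (congrArg Prod.fst this) (by decide)
  have hzQy : z ∉ Q.map (MulAut.conj g).toMonoidHom := fun e => hyQ (X.mem_of_z_mem hyne e)
  have htb : K.M.t (K.M.w a0) = a0 + K.M.w a0 := by
    rw [K.M.t_w, K.M.mem_U.mp ha.2]
    refine K.M.eq_of ?_
    rw [add_comm]
    exact K.M.mem_X.mp ha.1
  have hqa : K.M.q a0 = 1 := by
    obtain ⟨a, haN, hane, hall, hq⟩ := K.M.exists_a0 hN hC
    rcases hall a0 ha with e | e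
    · exact absurd e ha0
    · rw [e]; exact hq
  have huu : u * u = 1 := by
    rw [K.sq u huQ, hν, K.M.q_add, hqa, hqv, K.M.B_comm, K.M.B_CX hvC ha.1]
    exact zp_zero z
  -- the four elements over `x` and `x u` are conjugate in `Q`
  obtain ⟨a', ha'Q, ea'⟩ := K.surj a0
  have hna' := K.not_comm hxH hπ hx2 (K.M.mem_U.mp ha.2) htb hqa ha'Q ea'
  have hflip : a' * x * a'⁻¹ = z * x := by
    have e1 : x * a' * x⁻¹ = z * a' := (K.conj_cases hxz ha'Q (by
      rw [hπ, ea']; exact K.M.mem_U.mp ha.2)).resolve_left hna'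
    have e2 : x * a' = z * a' * x := mul_inv_eq_iff_eq_mul.mp e1
    apply mul_inv_eq_iff_eq_mul.mpr
    calc a' * x = z * (z * a' * x) := by rw [← mul_assoc, ← mul_assoc, X.h.zz, one_mul]
      _ = z * x * a' := by rw [← e2, mul_assoc]
  have hflipu : a' * y * a'⁻¹ = z * y := by
    have hcu : a' * u * a'⁻¹ = u := mul_inv_eq_iff_eq_mul.mpr ((K.comm_iff ha'Q huQ).mpr (by
      rw [ea', hν, K.M.B_right, K.M.B_self, K.M.B_comm, K.M.B_CX hvC ha.1, add_zero]))
    calc a' * y * a'⁻¹ = (a' * x * a'⁻¹) * (a' * u * a'⁻¹) := by rw [hyw]; group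
      _ = _ := by rw [hflip, hcu, hyw, mul_assoc]
  obtain ⟨r, hrQ, er⟩ := K.surj (K.M.w a0 + c1)
  have hrx : r * x * r⁻¹ = y ∨ r * x * r⁻¹ = z * y := by
    have hx' : x⁻¹ * r * x ∈ Q := by simpa using X.norm (⟨x, hxH⟩⁻¹) hrQ
    have h1 : K.ν (x⁻¹ * r * x) = K.M.t (K.ν r) := by
      show _ = K.M.act (t3, 1) _
      have := K.act (⟨x, hxH⟩⁻¹) r hrQ
      rw [map_inv, hπ, show ((t3, 1) : P36)⁻¹ = (t3, 1) by decide] at this
      simpa using this
    have h2 : K.ν (x⁻¹ * r * x * r⁻¹) = a0 + v := by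
      rw [K.add _ hx' _ (Q.inv_mem hrQ), K.ν_inv hrQ, h1, er, map_add, htb, htc1]
      calc a0 + K.M.w a0 + (c1 + v) + (K.M.w a0 + c1) =
          a0 + v + ((K.M.w a0 + K.M.w a0) + (c1 + c1)) := by abel
        _ = _ := by rw [v8_two, v8_two, add_zero, add_zero]
    have e3 : r * x * r⁻¹ = x * (x⁻¹ * r * x * r⁻¹) := by group
    rw [e3, hyw]
    rcases K.same (Q.mul_mem hx' (Q.inv_mem hrQ)) huQ (h2.trans hν.symm) with e | e <;> rw [e]
    · exact Or.inl rfl
    · exact Or.inr (by rw [← mul_assoc, hxz, mul_assoc])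
  have hzy : ∀ w, w = z * y → ∃ k, w = k * z * k⁻¹ := fun w e =>
    ⟨a' * g, by rw [e, ← hflipu, hy]; group⟩
  have hx_conj : ∃ k, x = k * z * k⁻¹ := by
    rcases hrx with e | e
    · exact ⟨r⁻¹ * g, by rw [show x = r⁻¹ * (r * x * r⁻¹) * r by group, e, hy]; group⟩
    · obtain ⟨k, hk⟩ := hzy _ e
      exact ⟨r⁻¹ * k, by rw [show x = r⁻¹ * (r * x * r⁻¹) * r by group, hk]; group⟩
  have hzx_conj : ∃ k, z * x = k * z * k⁻¹ := by
    obtain ⟨k, hk⟩ := hx_conj
    exact ⟨a' * k, by rw [← hflip, hk]; group⟩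
  let ψ : A →* P36 := X.π.comp
    (((MulAut.conj g⁻¹).toMonoidHom.comp A.subtype).codRestrict (centralizer ({z} : Set G))
      fun m => by simpa using X.conj_comm.mpr (hyA m m.2))
  have hψ : Function.Injective ψ := by
    refine (injective_iff_map_eq_one ψ).mpr fun m hm => ?_
    have hmQ : g⁻¹ * m * g ∈ Q := by simpa [ψ] using (X.ker _).mp hm
    have hmy : (m : G) ∈ Q.map (MulAut.conj g).toMonoidHom :=
      ⟨_, hmQ, show g * (g⁻¹ * m * g) * g⁻¹ = m by group⟩
    have hcent : ∀ r ∈ A, r * (m : G) = m * r := by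
      intro r hr
      have h1 := h'.norm r (hyA r hr) m hmy
      rcases X.h.conj r hr.1 m m.2.1 with e | e
      · exact mul_inv_eq_iff_eq_mul.mp e
      · refine absurd ?_ hzQy
        have := Subgroup.mul_mem _ h1 (Subgroup.inv_mem _ hmy)
        rwa [e, mul_inv_cancel_right] at this
    rcases hZ m m.2 hcent with e | e | ⟨-, e⟩
    · exact Subtype.ext e
    · exact absurd (e ▸ hmy) hzQy
    exfalso
    obtain ⟨q, hq, eq⟩ := h'.partner (m : G) hmy (fun e1 => by
      rw [e1, K.ν_one] at e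
      exact ha0 (K.M.disjoint_CX (K.M.eq_of e.symm ▸ hvC) ha.1)) (fun e1 => hyQ (e1 ▸ m.2.1))
    obtain ⟨k, hk⟩ : ∃ k, y * (m : G) = k * z * k⁻¹ := by
      rw [hyw, mul_assoc]
      rcases K.same m.2.1 huQ (e.trans hν.symm) with e' | e' <;> rw [e']
      · rw [huu, mul_one]; exact hx_conj
      · obtain ⟨k, hk⟩ := hzx_conj
        exact ⟨k, by rw [← mul_assoc u, X.h.comm u huQ, mul_assoc z, huu, mul_one, hxz, hk]⟩
    have hm' : (m : G) = q⁻¹ * k * z * (q⁻¹ * k)⁻¹ := by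
      rw [show (m : G) = q⁻¹ * (q * m * q⁻¹) * q by group, eq, hk]; group
    exact no_fusion K hN hC ha ha0 hvC htv hv (g := q⁻¹ * k) (hm' ▸ m.2.1) (hm' ▸ e)
  have h1 := Subgroup.card_dvd_of_injective ψ hψ
  obtain ⟨n, hn⟩ := IsPGroup.iff_card.mp ((Ext.isPGroup X.h.toExt).to_le (inf_le_left : A ≤ Q))
  rw [hn] at h1 hA64
  have hn6 : 6 ≤ n := by
    by_contra hlt
    have := Nat.pow_le_pow_right (show 2 > 0 by norm_num) (Nat.le_of_lt_succ (Nat.not_le.mp hlt))
    omega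
  have h2 := (pow_dvd_pow 2 hn6).trans h1
  rw [Nat.card_prod, Nat.card_perm, Nat.card_perm, Nat.card_fin, Nat.card_fin] at h2
  exact absurd h2 (by decide)

omit hN hC in
/-- Bounded centre forces noncommuting elements in every subgroup of index at most two. -/
theorem exists_noncomm (X : Ctx Q z) {A : Subgroup G} (hA : A ≤ Q) (h64 : 64 ≤ Nat.card A) {e0 : G}
    (hZ : ∀ a ∈ A, (∀ r ∈ A, r * a = a * r) → a = 1 ∨ a = z ∨ a = e0 ∨ a = z * e0)
    {A0 : Subgroup G} (hle : A0 ≤ A) (hidx : ∀ a ∈ A, ∀ b ∈ A, a ∉ A0 → b ∉ A0 → a⁻¹ * b ∈ A0) :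
    ∃ a ∈ A0, ∃ b ∈ A0, a * b * a⁻¹ = z * b := by
  classical
  by_contra h
  have hab : ∀ a ∈ A0, ∀ b ∈ A0, a * b = b * a := fun a ha b hb =>
    (X.h.conj a (hA (hle ha)) b (hA (hle hb))).elim mul_inv_eq_iff_eq_mul.mp
      fun e => absurd ⟨a, ha, b, hb, e⟩ h
  let Z : Subgroup G := A ⊓ centralizer (A : Set G)
  have hZ4 : Nat.card Z ≤ 4 := by
    refine (Nat.card_mono (Set.toFinite ({1, z, e0, z * e0} : Set G)) ?_).trans ?_
    · intro a ha
      simpa using hZ a ha.1 fun r hr => mem_centralizer_iff.mp ha.2 r hr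
    · rw [Nat.card_coe_set_eq]
      refine (Set.ncard_insert_le _ _).trans ?_
      refine (Nat.add_le_add_right (Set.ncard_insert_le _ _) 1).trans ?_
      refine (Nat.add_le_add_right (Nat.add_le_add_right (Set.ncard_insert_le _ _) 1) 1).trans ?_
      rw [Set.ncard_singleton]
  have key : ∀ (S T : Subgroup G) (a : G), a ∈ S → T ≤ S →
      (∀ b ∈ S, b ∈ T ∨ a⁻¹ * b ∈ T) → Nat.card S ≤ 2 * Nat.card T := by
    intro S T a ha hTS hb
    refine (Nat.card_le_card_of_surjective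
      (fun p : Bool × T => (⟨if p.1 then a * p.2 else p.2, by
        split_ifs
        · exact S.mul_mem ha (hTS p.2.2)
        · exact hTS p.2.2⟩ : S)) ?_).trans (by
      rw [Nat.card_prod, Nat.card_eq_fintype_card, Fintype.card_bool])
    rintro ⟨b, hb'⟩
    rcases hb b hb' with hh | hh
    · exact ⟨(false, ⟨b, hh⟩), Subtype.ext (by simp)⟩
    · exact ⟨(true, ⟨_, hh⟩), Subtype.ext (by simp)⟩
  by_cases hall : ∀ a ∈ A, a ∈ A0
  · have : A ≤ Z := fun a ha => ⟨ha, mem_centralizer_iff.mpr fun r hr => hab r (hall r hr) a (hall a ha)⟩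
    have := Subgroup.card_le_of_le this
    omega
  push Not at hall
  obtain ⟨a, ha, ha0⟩ := hall
  have h1 := key A A0 a ha hle fun b hb => or_iff_not_imp_left.mpr fun hb0 => hidx a ha b hb ha0 hb0
  have hcent : ∀ c ∈ A0, a * c = c * a → c ∈ Z := fun c hc e =>
    ⟨hle hc, mem_centralizer_iff.mpr fun r hr => by
      by_cases hr0 : r ∈ A0
      · exact hab r hr0 c hc
      · have e1 := hab _ (hidx a ha r hr ha0 hr0) c hc
        calc r * c = a * (a⁻¹ * r * c) := by group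
          _ = (a * c) * (a⁻¹ * r) := by rw [e1]; group
          _ = c * r := by rw [e]; group⟩
  by_cases hcc : ∀ c ∈ A0, a * c = c * a
  · have := Subgroup.card_le_of_le fun c hc => hcent c hc (hcc c hc)
    omega
  push Not at hcc
  obtain ⟨c0, hc0, hne⟩ := hcc
  have hz : ∀ c ∈ A0, a * c ≠ c * a → a * c * a⁻¹ = z * c := fun c hc e =>
    (X.h.conj a (hA ha) c (hA (hle hc))).resolve_left fun e' => e (mul_inv_eq_iff_eq_mul.mp e')
  have h2 := key A0 (Z ⊓ A0) c0 hc0 inf_le_right fun b hb => by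
    by_cases e : a * b = b * a
    · exact Or.inl ⟨hcent b hb e, hb⟩
    · have hm := A0.mul_mem (A0.inv_mem hc0) hb
      refine Or.inr ⟨hcent _ hm (mul_inv_eq_iff_eq_mul.mp ?_), hm⟩
      calc a * (c0⁻¹ * b) * a⁻¹ = (a * c0 * a⁻¹)⁻¹ * (a * b * a⁻¹) := by group
        _ = (z * c0)⁻¹ * (z * b) := by rw [hz c0 hc0 hne, hz b hb e]
        _ = c0⁻¹ * b := by group
  have h3 := Subgroup.card_le_of_le (show Z ⊓ A0 ≤ Z from inf_le_left)
  omega

/-- The contradiction in this case. -/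
theorem false_small (hG : ∀ f : G →* ℤˣ, f = 1) : False := by
  classical
  obtain ⟨a0, ha, ha0, hall, hqa⟩ := K.M.exists_a0 hN hC
  obtain ⟨x, hxH, v, hπ, hx2, hlift, hZ, hU64⟩ := exists_x K hN hC ha hall hqa
  set A := Q ⊓ centralizer ({x} : Set G) with hAdef
  have hxz := X.mem_cent.mp hxH
  have hzA : z ∈ A := ⟨X.h.mem, mem_centralizer_singleton_iff.mpr hxz.symm⟩
  have hax : ∀ r ∈ A, r * x = x * r := fun r hr => mem_centralizer_singleton_iff.mp hr.2
  have hA64 : 64 ≤ Nat.card A := by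
    let S : V8 → G := fun u => if h : ∃ r ∈ A, K.ν r = u then h.choose else 1
    have hS : ∀ u, (∃ r ∈ A, K.ν r = u) → S u ∈ A ∧ K.ν (S u) = u := fun u h => by
      simp only [S, dif_pos h]; exact h.choose_spec
    have hS' : ∀ u : K.M.U, ¬ (∃ r ∈ A, K.ν r = u) → ∃ r ∈ A, K.ν r = (u : V8) + a0 := fun u h => by
      obtain ⟨r, hr, e | e⟩ := hlift u u.2
      · exact absurd ⟨r, hr, e⟩ h
      · exact ⟨r, hr, e⟩
    refine hU64.trans (Nat.card_le_card_of_injective (fun u : K.M.U =>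
      if h : ∃ r ∈ A, K.ν r = u then (⟨S u, (hS _ h).1⟩ : A)
      else ⟨z * S ((u : V8) + a0), A.mul_mem hzA (hS _ (hS' u h)).1⟩) ?_)
    have hzν : ∀ r ∈ A, K.ν (z * r) = K.ν r := fun r hr => by
      rw [K.add z X.h.mem r hr.1, K.ν_z, zero_add]
    intro u w e
    simp only at e
    apply Subtype.ext
    split_ifs at e with h1 h2 h2 <;> simp only [Subtype.mk.injEq] at e
    · rw [← (hS _ h1).2, ← (hS _ h2).2, e]
    · exfalso
      have e' := congrArg K.ν e
      rw [(hS _ h1).2, hzν _ (hS _ (hS' w h2)).1, (hS _ (hS' w h2)).2] at e'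
      rw [← e'] at e
      exact X.h.z_mul_ne _ e.symm
    · exfalso
      have e' := congrArg K.ν e
      rw [(hS _ h2).2, hzν _ (hS _ (hS' u h1)).1, (hS _ (hS' u h1)).2] at e'
      rw [e'] at e
      exact X.h.z_mul_ne _ e
    · have e' := congrArg K.ν e
      rw [hzν _ (hS _ (hS' u h1)).1, (hS _ (hS' u h1)).2, hzν _ (hS _ (hS' w h2)).1,
        (hS _ (hS' w h2)).2] at e'
      exact add_right_cancel e'
  obtain ⟨e0, he0Q, he0⟩ := K.surj (a0 + v)
  have hZ' : ∀ a ∈ A, (∀ r ∈ A, r * a = a * r) → a = 1 ∨ a = z ∨ a = e0 ∨ a = z * e0 :=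
    fun a haA h => (hZ a haA h).imp id (Or.imp id fun h' =>
      K.same haA.1 he0Q (h'.2.trans he0.symm))
  have hcomm : ∀ {g : G} {B : Subgroup G}, (∀ r ∈ B, r * (g * z * g⁻¹) = g * z * g⁻¹ * r) →
      B ≤ A → (∀ a ∈ A, ∀ b ∈ A, a ∉ B → b ∉ B → a⁻¹ * b ∈ B) →
      ∀ h : g⁻¹ * z * g ∈ centralizer ({z} : Set G), X.sgn ⟨_, h⟩ = 1 := by
    intro g B hB hle hidx h
    obtain ⟨a, haB, b, hbB, e⟩ := exists_noncomm X inf_le_left hA64 hZ' hle hidx
    exact X.val_eq_one_of_comm h (X.conj_comm.mpr (hB a haB)) (X.conj_comm.mpr (hB b hbB)) e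
  refine X.contradiction_of_transfer hG hxH hπ hx2 ?_ ?_
  · intro g hyne hyz hyA h
    set y := g * z * g⁻¹ with hy
    have hxy : x * y = y * x := X.conj_comm.mp h
    have hycH : y ∈ centralizer ({z} : Set G) := X.mem_cent.mpr hyz
    obtain ⟨τ, σ, hp⟩ : ∃ τ σ, X.π ⟨y, hycH⟩ = (τ, σ) := ⟨_, _, rfl⟩
    have hσ : σ ∈ K.M.H := by
      have := X.mem_H ⟨y, hycH⟩
      rw [hp] at this
      exact K.hH ▸ this
    have hτ : τ = 1 ∨ τ = t3 := by
      have e : X.π (⟨y, hycH⟩ * ⟨x, hxH⟩) = X.π (⟨x, hxH⟩ * ⟨y, hycH⟩) :=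
        congrArg X.π (Subtype.ext hxy.symm)
      rw [map_mul, map_mul, hp, hπ] at e
      exact perm3_comm_t3 τ (congrArg Prod.fst e)
    have hτU : ∀ u ∈ K.M.U, K.M.act (τ, 1) u = u := fun u hu => by
      rcases hτ with rfl | rfl
      · exact K.M.act_one u
      · exact K.M.mem_U.mp hu
    have hσU : ∀ u ∈ K.M.U, K.M.act (1, σ) u = u := by
      intro u hu
      have hs := sigma_a0 K hN hC ha hσ
      obtain ⟨r, hr, hcase⟩ := hlift u hu
      have h1 := K.act ⟨y, hycH⟩ r hr.1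
      rw [show ((⟨y, hycH⟩ : ↥(centralizer ({z} : Set G))) : G) * r * _⁻¹ = r from
        mul_inv_eq_iff_eq_mul.mpr (hyA r hr).symm, hp, K.M.act_split τ hσ] at h1
      rw [hτU _ (K.M.sigma_U hσ (K.A_image hxH hπ hr))] at h1
      rcases hcase with e | e <;> rw [e] at h1
      · exact h1.symm
      · rw [map_add, hs] at h1
        exact (add_right_cancel h1).symm
    obtain rfl : σ = 1 := K.M.U_trivial hσ hσU
    rcases hτ with rfl | rfl
    · exfalso
      have hyQ : y ∈ Q := (X.ker ⟨y, hycH⟩).mp hp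
      rcases hZ y ⟨hyQ, mem_centralizer_singleton_iff.mpr hxy.symm⟩ hyA with e | e | ⟨hgood, e⟩
      · exact X.h.ne_one (conj_eq_one_iff.mp e)
      · exact hyne e
      · exact no_fusion K hN hC ha ha0 hgood.1 hgood.2.2.1 hgood.2.2.2.1 hyQ e
    · set u := x⁻¹ * y with hu
      have huQ : u ∈ Q := (X.ker (⟨x, hxH⟩⁻¹ * ⟨y, hycH⟩)).mp (by
        rw [map_mul, map_inv, hπ, hp, inv_mul_cancel])
      have hux : u * x = x * u := by
        rw [hu, mul_assoc, ← hxy]; group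
      have hucA : ∀ r ∈ A, r * u = u * r := fun r hr =>
        ((show Commute r x from hax r hr).inv_right.mul_right (hyA r hr)).eq
      have hz1 : u = 1 ∨ u = z → X.sgn ⟨g⁻¹ * x * g, h⟩ = 1 := by
        intro huz
        have hgy : g⁻¹ * y * g = z := by rw [hy]; group
        have hyw : y = x * u := by rw [hu, mul_inv_cancel_left]
        rcases huz with e | e <;> rw [e] at hyw
        · rw [show (⟨g⁻¹ * x * g, h⟩ : ↥(centralizer ({z} : Set G))) = ⟨z, X.Q_le X.h.mem⟩ from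
            Subtype.ext (by show g⁻¹ * x * g = z; rw [← hgy, hyw, mul_one])]
          exact X.sgn_Q X.h.mem
        · have hxw : x = y * z := by rw [hyw, mul_assoc, X.h.zz, mul_one]
          have hzz : g⁻¹ * z * g ∈ centralizer ({z} : Set G) := X.conj_comm.mpr (hyA z hzA)
          rw [show (⟨g⁻¹ * x * g, h⟩ : ↥(centralizer ({z} : Set G))) =
              ⟨z, X.Q_le X.h.mem⟩ * ⟨_, hzz⟩ from Subtype.ext (by
              show g⁻¹ * x * g = z * (g⁻¹ * z * g)
              rw [hxw, ← hgy]; group), map_mul, X.sgn_Q X.h.mem, one_mul]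
          exact hcomm (B := A) hyA le_rfl (fun a _ _ _ hn _ => absurd ‹a ∈ A› hn) hzz
      rcases hZ u ⟨huQ, mem_centralizer_singleton_iff.mpr hux⟩ hucA with e | e | ⟨hgood, e⟩
      · exact hz1 (Or.inl e)
      · exact hz1 (Or.inr e)
      · exact absurd e (not_over K hN hC ha ha0 hxH hπ hx2 hA64 hZ hgood hyne hxy hyA huQ hux)
  · intro g _ hxy hzy hA2 h
    set y := g * z * g⁻¹ with hy
    let B : Subgroup G := A ⊓ centralizer ({y} : Set G)
    refine hcomm (B := B) (fun r hr => mem_centralizer_singleton_iff.mp hr.2) inf_le_left ?_ h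
    intro a haA b hbA hna hnb
    have hcase : ∀ r ∈ A, r ∉ B → x⁻¹ * r * y = y * (x⁻¹ * r) := fun r hr hn =>
      (hA2 r hr).resolve_left fun e => hn ⟨hr, mem_centralizer_singleton_iff.mpr e⟩
    refine ⟨A.mul_mem (A.inv_mem haA) hbA, mem_centralizer_singleton_iff.mpr ?_⟩
    have h1 : Commute (x⁻¹ * a) y := hcase a haA hna
    have h2 := h1.inv_left.mul_left (show Commute (x⁻¹ * b) y from hcase b hbA hnb)
    simpa [mul_assoc] using h2.eq

end Small

end Cfsg.Agent.NineSetup31
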