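import Mathlib
import Cfsg.Agent.Lib.NineSmall31

/-!
# Tensor coordinates for a centraliser `2^{1+8}.(S₃ × H)`
-/

set_option autoImplicit false
set_option linter.style.haveILetI false
set_option maxRecDepth 100000
set_option synthInstance.maxSize 2000

namespace Cfsg.Agent.NineSetup31

open Subgroup Cfsg.Agent.LargeExtraspecial Cfsg.Agent.LargeExtraspecialAct
  Cfsg.Agent.SixSymplModel31 Cfsg.Agent.SixModule31

variable {G : Type*} [Group G] [Finite G] {Q : Subgroup G} {z : G}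

theorem gens6_order : ∀ g ∈ gens6, g ^ 3 = 1 ∨ g ^ 5 = 1 := by decide +kernel

/-- A linear form. -/
def dot (c x : W4) : ZMod 2 := x.1 * c.1 + x.2.1 * c.2.1 + x.2.2.1 * c.2.2.1 + x.2.2.2 * c.2.2.2

/-- A quadratic form with polar form `β`. -/
def quad (c x : W4) : ZMod 2 := dot c x + x.1 * x.2.1 + x.2.2.1 * x.2.2.2

theorem no_invariant_linear : ∀ c : W4, (∀ g ∈ gens6, ∀ a ∈ vecs, dot c (act g a) = dot c a) → c = 0 := by
  decide +kernel

theorem no_invariant_quadratic : ∀ c : W4, ∃ g ∈ gens6, ∃ a ∈ vecs, quad c (act g a) ≠ quad c a := by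
  decide +kernel

theorem invariant_linear {L : W4 → ZMod 2} (hadd : ∀ a b, L (a + b) = L a + L b)
    (hinv : ∀ g ∈ gens6, ∀ a, L (act g a) = L a) : ∀ a, L a = 0 := by
  have hsm : ∀ (s : ZMod 2) (a : W4), L (s • a) = s * L a := by
    intro s a
    have h0 : L 0 = 0 := by have := hadd 0 0; rwa [add_zero, left_eq_add] at this
    rcases SixSymplModel31.two_eq s with rfl | rfl <;> simp [h0]
  set c : W4 := (L e1, L f1, L e2, L f2)
  have hL : ∀ a, L a = dot c a := fun a => by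
    conv_lhs => rw [SixSymplModel31.expand a]
    simp only [comb, hadd, hsm, c, dot]
  have hc := no_invariant_linear c fun g hg a _ => by rw [← hL, ← hL, hinv g hg]
  intro a
  rw [hL, hc]
  simp [dot]

theorem no_quadratic {f : W4 → ZMod 2} (hadd : ∀ a b, f (a + b) = f a + f b + β a b)
    (hinv : ∀ g ∈ gens6, ∀ a, f (act g a) = f a) : False := by
  have h0 : f 0 = 0 := by
    have := hadd 0 0
    rwa [add_zero, β_zero_left, add_zero, left_eq_add] at this
  have hsm : ∀ (s : ZMod 2) (a : W4), f (s • a) = s * f a := by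
    intro s a
    rcases SixSymplModel31.two_eq s with rfl | rfl <;> simp [h0]
  set c : W4 := (f e1, f f1, f e2, f f2)
  have hf : ∀ a, f a = quad c a := fun a => by
    conv_lhs => rw [SixSymplModel31.expand a]
    simp only [comb, hadd, hsm, c, quad, dot, β, e1, f1, e2, f2, Prod.smul_fst, Prod.smul_snd,
      Prod.fst_add, Prod.snd_add, smul_eq_mul]
    ring
  obtain ⟨g, hg, a, -, hne⟩ := no_invariant_quadratic c
  exact hne (by rw [← hf, ← hf, hinv g hg])

theorem actT_one' (σ : Equiv.Perm (Fin 6)) (v : W4 × W4) :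
    actT (1, σ) v = (act σ v.1, act σ v.2) := by rw [actT_eq, actL_one]

theorem actT_t3' (v : W4 × W4) : actT (t3, 1) v = (v.1 + v.2, v.2) := by
  rw [actT_eq, act_one, act_one, actL_t3]

theorem actT_c3' (v : W4 × W4) : actT (c3, 1) v = (v.2, v.1 + v.2) := by
  rw [actT_eq, act_one, act_one, actL_c3]

theorem fix_e1 {τ : Equiv.Perm (Fin 3)} {σ : Equiv.Perm (Fin 6)}
    (h : actT (τ, σ) (e1, 0) = (e1, 0)) (hτ : τ * τ = 1) : (τ = 1 ∨ τ = t3) ∧ act σ e1 = e1 := by
  simp only [actT, act_zero, smul_zero, add_zero, Prod.mk.injEq] at h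
  obtain ⟨h1, h2⟩ := h
  have hne : act σ e1 ≠ 0 := fun e => absurd (act_inj σ (e.trans (act_zero σ).symm)) (by decide)
  have h0 : (nat3 (τ 0)).1 = 1 := by
    rcases SixSymplModel31.two_eq (nat3 (τ 0)).1 with e | e
    · rw [e, zero_smul] at h1
      exact absurd h1.symm (by decide)
    · exact e
  have h0' : (nat3 (τ 0)).2 = 0 := by
    rcases SixSymplModel31.two_eq (nat3 (τ 0)).2 with e | e
    · exact e
    · rw [e, one_smul] at h2
      exact absurd h2 hne
  rw [h0, one_smul] at h1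
  refine ⟨?_, h1⟩
  revert h0 h0' hτ
  clear h1 h2
  revert τ
  decide +kernel

/-- Tensor coordinates. -/
structure CoT (X : Ctx Q z) where
  /-- The map. -/
  ν : G → W4 × W4
  /-- The quotient map. -/
  π : ↥(centralizer ({z} : Set G)) →* P36
  fst : ∀ m, (π m).1 = (X.π m).1
  ker : ∀ m, π m = 1 ↔ (m : G) ∈ Q
  snd_one : ∀ m, (X.π m).2 = 1 → (π m).2 = 1
  lift : ∀ σ, Even6 σ → ∃ h ∈ X.H, (∀ m, (X.π m).2 = h → (π m).2 = σ) ∧
    ∀ n : ℕ, σ ^ n = 1 → h ^ n = 1
  add : ∀ a ∈ Q, ∀ b ∈ Q, ν (a * b) = ν a + ν b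
  surj : ∀ v, ∃ a ∈ Q, ν a = v
  kerν : ∀ a ∈ Q, ν a = 0 ↔ a = 1 ∨ a = z
  sq : ∀ a ∈ Q, a * a = zp z (β (ν a).1 (ν a).2)
  conj : ∀ a ∈ Q, ∀ b ∈ Q, a * b * a⁻¹ = zp z (BT (ν a) (ν b)) * b
  act : ∀ (m : ↥(centralizer ({z} : Set G))), ∀ a ∈ Q,
    ν ((m : G) * a * (m : G)⁻¹) = actT (π m) (ν a)

theorem Co.tensor_co {X : Ctx Q z} (K : Co X) (hN : Nat.card K.M.N = 16)
    (hX : ∀ v, v ∈ K.M.X) : Nonempty (CoT X) := by
  classical
  obtain ⟨νT, ρ, hinj, hlift, hact, hq⟩ := K.M.tensor hN hX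
  have hmem : ∀ m, (X.π m).2 ∈ K.M.H := fun m => K.hH.symm ▸ X.mem_H m
  let P : ↥(centralizer ({z} : Set G)) →* K.M.H :=
    ((MonoidHom.snd (Equiv.Perm (Fin 3)) (Equiv.Perm (Fin 6))).comp X.π).codRestrict K.M.H hmem
  let π : ↥(centralizer ({z} : Set G)) →* P36 :=
    ((MonoidHom.fst _ _).comp X.π).prod (ρ.comp P)
  refine ⟨{
    ν := fun a => νT (K.ν a), π := π, fst := fun _ => rfl, ker := ?_, snd_one := ?_, lift := ?_
    add := fun a ha b hb => by rw [K.add a ha b hb, map_add]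
    surj := fun v => by
      obtain ⟨a, ha, e⟩ := K.surj (νT.symm v)
      exact ⟨a, ha, by rw [e, AddEquiv.apply_symm_apply]⟩
    kerν := fun a ha => by rw [← K.kerν a ha, AddEquivClass.map_eq_zero_iff]
    sq := fun a ha => by rw [K.sq a ha, hq]
    conj := fun a ha b hb => by
      rw [K.conj a ha b hb]
      congr 2
      have h := K.M.q_add (K.ν a) (K.ν b)
      rw [hq, hq, hq, map_add, Prod.fst_add, Prod.snd_add, β_add_left, β_add_right, β_add_right] at h
      simp only [BT]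
      revert h
      generalize β (νT (K.ν a)).1 (νT (K.ν a)).2 = i
      generalize β (νT (K.ν a)).1 (νT (K.ν b)).2 = j
      generalize β (νT (K.ν b)).1 (νT (K.ν a)).2 = k
      generalize β (νT (K.ν b)).1 (νT (K.ν b)).2 = l
      generalize K.M.B (K.ν a) (K.ν b) = o
      revert i j k l o
      decide
    act := fun m a ha => by
      rw [K.act m a ha]
      exact hact (X.π m).1 ⟨_, hmem m⟩ (K.ν a) }⟩
  · intro m
    rw [← X.ker]
    constructor
    · intro e
      refine Prod.ext (show (π m).1 = (1 : P36).1 by rw [e]) ?_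
      have e2 : ρ (P m) = 1 := congrArg Prod.snd e
      exact congrArg Subtype.val ((injective_iff_map_eq_one ρ).mp hinj _ e2)
    · intro e
      refine Prod.ext (show (X.π m).1 = (1 : P36).1 by rw [e]) ?_
      show ρ (P m) = 1
      rw [show P m = 1 from Subtype.ext (congrArg Prod.snd e), map_one]
  · intro m e
    show ρ (P m) = 1
    rw [show P m = 1 from Subtype.ext e, map_one]
  · intro σ hσ
    obtain ⟨⟨h, hh⟩, e, -⟩ := hlift σ hσ
    refine ⟨h, K.hH ▸ hh, fun m em => ?_, fun n hn => ?_⟩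
    · show ρ (P m) = σ
      rw [show P m = ⟨h, hh⟩ from Subtype.ext em, e]
    · rw [← e, ← map_pow] at hn
      exact congrArg Subtype.val ((injective_iff_map_eq_one ρ).mp hinj _ hn)

namespace CoT

variable {X : Ctx Q z} (T : CoT X)
include T

theorem ν_one : T.ν 1 = 0 := (T.kerν 1 Q.one_mem).mpr (Or.inl rfl)

theorem ν_z : T.ν z = 0 := (T.kerν z X.h.mem).mpr (Or.inr rfl)

theorem ν_inv {a : G} (ha : a ∈ Q) : T.ν a⁻¹ = T.ν a := by
  have h := T.add _ (Q.inv_mem ha) a ha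
  rw [inv_mul_cancel, T.ν_one] at h
  have e : T.ν a + T.ν a = 0 := Prod.ext (SixSymplModel31.add_self _) (SixSymplModel31.add_self _)
  rw [← add_left_inj (T.ν a), ← h, e]

theorem same {a b : G} (ha : a ∈ Q) (hb : b ∈ Q) (e : T.ν a = T.ν b) : a = b ∨ a = z * b := by
  have h := (T.kerν _ (Q.mul_mem ha (Q.inv_mem hb))).mp (by
    rw [T.add a ha _ (Q.inv_mem hb), T.ν_inv hb, e]
    exact Prod.ext (SixSymplModel31.add_self _) (SixSymplModel31.add_self _))
  exact h.imp mul_inv_eq_one.mp (fun e' => mul_inv_eq_iff_eq_mul.mp e')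

theorem comm_iff {a b : G} (ha : a ∈ Q) (hb : b ∈ Q) :
    a * b = b * a ↔ BT (T.ν a) (T.ν b) = 0 := by
  rw [← mul_inv_eq_iff_eq_mul (b := a), T.conj a ha b hb]
  constructor
  · intro e
    refine zp_inj X.h.ne_one ?_
    rw [zp_zero]
    exact mul_eq_right.mp e
  · intro e
    rw [e, zp_zero, one_mul]

theorem ν_zmul {a : G} (ha : a ∈ Q) : T.ν (z * a) = T.ν a := by
  rw [T.add z X.h.mem a ha, T.ν_z, zero_add]

/-- Elements over the first factor. -/
theorem exists_lift {σ : Equiv.Perm (Fin 6)} (hσ : Even6 σ) :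
    ∃ k : ↥(centralizer ({z} : Set G)), T.π k = (1, σ) := by
  obtain ⟨h, hh, hk, -⟩ := T.lift σ hσ
  obtain ⟨k, e⟩ := X.surj 1 h hh
  refine ⟨k, Prod.ext ?_ (hk k (congrArg Prod.snd e))⟩
  rw [T.fst, e]

/-- A lift fixing an element of `Q` over a fixed vector. -/
theorem exists_lift_fix {σ : Equiv.Perm (Fin 6)} (hσ : Even6 σ) {s : G} (hs : s ∈ Q)
    (hne : s ≠ 1) (hsz : s ≠ z) (hfix : actT (1, σ) (T.ν s) = T.ν s) :
    ∃ k : ↥(centralizer ({z} : Set G)), T.π k = (1, σ) ∧ (k : G) * s * (k : G)⁻¹ = s := by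
  obtain ⟨n0, hn0⟩ := T.exists_lift hσ
  have h1 := T.act n0 s hs
  rw [hn0, hfix] at h1
  rcases T.same (X.norm n0 hs) hs h1 with e | e
  · exact ⟨n0, hn0, e⟩
  · obtain ⟨qs, hqs, eqs⟩ := X.h.partner s hs hne hsz
    refine ⟨⟨qs, X.Q_le hqs⟩ * n0, by rw [map_mul, (T.ker _).mpr hqs, one_mul, hn0], ?_⟩
    show qs * (n0 : G) * s * (qs * (n0 : G))⁻¹ = s
    calc qs * (n0 : G) * s * (qs * (n0 : G))⁻¹ = qs * ((n0 : G) * s * (n0 : G)⁻¹) * qs⁻¹ := by group
      _ = z * (qs * s * qs⁻¹) := by rw [e, ← mul_assoc, X.h.comm qs hqs]; group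
      _ = s := by rw [eqs, X.h.z_mul_z_mul]

end CoT

/-- Membership in a conjugate. -/
theorem mem_conjQ {g r : G} : r ∈ Q.map (MulAut.conj g).toMonoidHom ↔ g⁻¹ * r * g ∈ Q := by
  constructor
  · rintro ⟨a, ha, rfl⟩
    have e : g⁻¹ * (g * a * g⁻¹) * g = a := by group
    show g⁻¹ * (g * a * g⁻¹) * g ∈ Q
    rw [e]; exact ha
  · intro h
    exact ⟨_, h, show g * (g⁻¹ * r * g) * g⁻¹ = r by group⟩

end Cfsg.Agent.NineSetup31
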