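import Mathlib
import Cfsg.Agent.Lib.NineTensorCo31

/-!
# No conjugate of the centre lies over a pure tensor
-/

set_option autoImplicit false
set_option linter.style.haveILetI false
set_option maxRecDepth 100000
set_option synthInstance.maxSize 2000

namespace Cfsg.Agent.NineSetup31

open Subgroup Cfsg.Agent.LargeExtraspecial Cfsg.Agent.LargeExtraspecialAct
  Cfsg.Agent.SixSymplModel31 Cfsg.Agent.SixModule31

variable {G : Type*} [Group G] [Finite G] {Q : Subgroup G} {z : G}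

theorem evenKer_sub : ∀ d ∈ evenKer, d ∈ kerList ∧ Even6 d := by decide +kernel

theorem kerPairs_iff : ∀ (τ : Equiv.Perm (Fin 3)), τ = 1 ∨ τ = t3 →
    ∀ σ ∈ kerList, ((τ, σ) : P36) ∈ kerPairs := by decide +kernel

theorem e2_spec : β e1 e2 = 0 ∧ e2 ≠ 0 ∧ e2 ≠ e1 := by decide

namespace CoT

variable {X : Ctx Q z} (T : CoT X)
include T

/-- The group over which the fusion is analysed. -/
theorem e1_data {g : G} (hsQ : g * z * g⁻¹ ∈ Q) (hν : T.ν (g * z * g⁻¹) = (e1, 0)) :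
    z ∈ Q.map (MulAut.conj g).toMonoidHom ∧
    (∀ r ∈ Q, r ∈ Q.map (MulAut.conj g).toMonoidHom ↔ InE e1 (T.ν r)) ∧
    (∀ m : ↥(centralizer ({z} : Set G)), (m : G) ∈ Q.map (MulAut.conj g).toMonoidHom →
      T.π m ∈ kerPairs) ∧
    (∀ d ∈ evenKer, ∃ m : ↥(centralizer ({z} : Set G)),
      (m : G) ∈ Q.map (MulAut.conj g).toMonoidHom ∧ T.π m = (1, d)) ∧
    ∀ L : List P36, L.Nodup → (∀ p ∈ L, ∃ m : ↥(centralizer ({z} : Set G)),
      (m : G) ∈ Q.map (MulAut.conj g).toMonoidHom ∧ T.π m = p) → L.length ≤ 8 := by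
  classical
  set s := g * z * g⁻¹ with hs
  have hs1 : s ≠ 1 := fun e => X.h.ne_one (conj_eq_one_iff.mp e)
  have hsz : s ≠ z := fun e => by
    rw [e, T.ν_z] at hν
    exact absurd hν (by decide)
  have h32 : 32 ≤ Nat.card Q := by rw [X.cardQ]; norm_num
  set Q' := Q.map (MulAut.conj g).toMonoidHom with hQ'
  have h' : LHyp Q' s := X.h.map_conj g
  have hzQ' : z ∈ Q' := X.h.z_mem_conj hsQ hsz h32
  obtain ⟨q0, hq0, eq0⟩ := h'.partner z hzQ' X.h.ne_one (fun e => hsz e.symm)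
  let S : Subgroup G := Q' ⊓ centralizer ({z} : Set G)
  have hc : Nat.card Q' = 512 := by
    rw [hQ', Subgroup.card_map_of_injective (MulAut.conj g).injective, X.cardQ]
  have hS : Nat.card S = 256 := by
    refine le_antisymm ?_ ?_
    · obtain ⟨k, hk⟩ := Subgroup.card_dvd_of_le (show S ≤ Q' from inf_le_left)
      rw [hc] at hk
      by_contra hlt
      have hk1 : k = 1 := by
        rcases Nat.lt_or_ge k 2 with h | h
        · interval_cases k <;> omega
        · have := Nat.mul_le_mul_left (Nat.card S) h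
          omega
      rw [hk1, mul_one] at hk
      have := Subgroup.eq_of_le_of_card_ge (show S ≤ Q' from inf_le_left) (by rw [hc, hk])
      have hq0z := mem_centralizer_singleton_iff.mp (this ▸ hq0 : q0 ∈ S).2
      rw [mul_inv_eq_iff_eq_mul.mpr hq0z] at eq0
      exact hs1 (right_eq_mul.mp eq0)
    · refine Nat.le_of_mul_le_mul_left ?_ (show 0 < 2 by norm_num)
      rw [show 2 * 256 = 512 from rfl, ← hc]
      refine (Nat.card_le_card_of_surjective (fun p : Bool × S =>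
        (⟨if p.1 then q0 * p.2 else p.2, by
          split_ifs
          · exact Q'.mul_mem hq0 p.2.2.1
          · exact p.2.2.1⟩ : Q')) ?_).trans (by rw [Nat.card_prod, Nat.card_eq_fintype_card,
            Fintype.card_bool])
      rintro ⟨b, hb⟩
      by_cases hbz : b * z = z * b
      · exact ⟨(false, ⟨b, hb, mem_centralizer_singleton_iff.mpr hbz⟩), rfl⟩
      · have hm := Q'.mul_mem (Q'.inv_mem hq0) hb
        refine ⟨(true, ⟨q0⁻¹ * b, hm, mem_centralizer_singleton_iff.mpr ?_⟩),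
          Subtype.ext (by simp)⟩
        have e1 := (h'.toExt.not_comm_iff hzQ' hb).mp hbz
        apply mul_inv_eq_iff_eq_mul.mp
        calc q0⁻¹ * b * z * (q0⁻¹ * b)⁻¹ = q0⁻¹ * (b * z * b⁻¹) * q0 := by group
          _ = q0⁻¹ * (q0 * z * q0⁻¹) * q0 := by rw [e1, eq0]
          _ = z := by group
  have hSz : ∀ m ∈ S, m ∈ centralizer ({z} : Set G) := fun m hm => hm.2
  let φ : S →* P36 := T.π.comp (Subgroup.inclusion fun m hm => hSz m hm)
  have hpm : ∀ m : S, φ m * φ m = 1 ∧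
      (∀ g' ∈ stabList, ∃ m' : S, φ m' = (1, g') * φ m * (1, g')⁻¹ ∧ φ m * φ m' = φ m' * φ m) ∧
      actT (φ m) (e1, 0) = (e1, 0) := by
    intro m
    have hms := h'.comm m m.2.1
    refine ⟨?_, ?_, ?_⟩
    · rw [← map_mul]
      show T.π _ = 1
      rw [T.ker]
      rcases h'.sq m m.2.1 with e | e
      · show (m : G) * m ∈ Q; rw [e]; exact Q.one_mem
      · show (m : G) * m ∈ Q; rw [e]; exact hsQ
    · intro g' hg'
      obtain ⟨hge, hgev⟩ := stabList_spec g' hg'
      obtain ⟨n, hn, hns⟩ := T.exists_lift_fix hgev hsQ hs1 hsz (by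
        rw [hν, actT_one', hge, act_zero])
      have hnz := mem_centralizer_singleton_iff.mp n.2
      have hnQ' : (n : G) * m * (n : G)⁻¹ ∈ S :=
        ⟨h'.norm n (mul_inv_eq_iff_eq_mul.mp hns) m m.2.1,
          mem_centralizer_singleton_iff.mpr (((show Commute (n : G) z from hnz).mul_left
            (mem_centralizer_singleton_iff.mp m.2.2)).mul_left
            (show Commute (n : G) z from hnz).inv_left).eq⟩
      refine ⟨⟨_, hnQ'⟩, ?_, ?_⟩
      · rw [← hn, show φ m = T.π ⟨(m : G), hSz m m.2⟩ from rfl, ← map_inv, ← map_mul, ← map_mul]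
        rfl
      · have hab : φ (m * ⟨_, hnQ'⟩ * m⁻¹ * (⟨_, hnQ'⟩ : S)⁻¹) = 1 := by
          show T.π _ = 1
          rw [T.ker]
          show (m : G) * ((n : G) * m * (n : G)⁻¹) * (m : G)⁻¹ * ((n : G) * m * (n : G)⁻¹)⁻¹ ∈ Q
          rcases h'.conj m m.2.1 _ hnQ'.1 with e | e <;> rw [e]
          · rw [mul_inv_cancel]; exact Q.one_mem
          · rw [mul_inv_cancel_right]; exact hsQ
        rw [map_mul, map_mul, map_mul, map_inv, map_inv] at hab
        exact mul_inv_eq_iff_eq_mul.mp (mul_inv_eq_one.mp hab)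
    · have h1 := T.act ⟨(m : G), hSz m m.2⟩ s hsQ
      rw [show ((⟨(m : G), hSz m m.2⟩ : ↥(centralizer ({z} : Set G))) : G) * s *
        ((⟨(m : G), hSz m m.2⟩ : ↥(centralizer ({z} : Set G))) : G)⁻¹ = s from
          mul_inv_eq_iff_eq_mul.mpr hms, hν] at h1
      exact h1.symm
  have hpairs : ∀ m : S, φ m ∈ kerPairs := by
    intro m
    obtain ⟨h1, h2, h3⟩ := hpm m
    have hτσ := fix_e1 (τ := (φ m).1) (σ := (φ m).2) h3 (congrArg Prod.fst h1)
    refine kerPairs_iff _ hτσ.1 _ (kernel_of_commute _ hτσ.2 (congrArg Prod.snd h1) fun g' hg' => ?_)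
    obtain ⟨m', e1', e2'⟩ := h2 g' hg'
    rw [e1'] at e2'
    exact congrArg Prod.snd e2'
  have hker : Nat.card φ.ker ≤ 32 := by
    let R : Subgroup G := φ.ker.map S.subtype
    have hR : Nat.card R = Nat.card φ.ker := Subgroup.card_map_of_injective S.subtype_injective
    rw [← hR]
    obtain ⟨K⟩ := X.exists_co
    have hRQ : ∀ m ∈ R, m ∈ Q ∧ m ∈ S := by
      rintro _ ⟨⟨m, hm⟩, hk, rfl⟩
      exact ⟨(T.ker _).mp hk, hm⟩
    refine K.abelian_le R (fun m hm => (hRQ m hm).1) fun a ha b hb => ?_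
    obtain ⟨haQ, haS⟩ := hRQ a ha
    obtain ⟨hbQ, hbS⟩ := hRQ b hb
    rcases X.h.conj a haQ b hbQ with e | e
    · exact mul_inv_eq_iff_eq_mul.mp e
    · rcases h'.conj a haS.1 b hbS.1 with e' | e'
      · exact mul_inv_eq_iff_eq_mul.mp e'
      · exact absurd (mul_right_cancel (e'.symm.trans e)) hsz
  have hfact : Nat.card φ.range * Nat.card φ.ker = 256 := by
    rw [← hS, Subgroup.card_eq_card_quotient_mul_card_subgroup φ.ker,
      Nat.card_congr (QuotientGroup.quotientKerEquivRange φ).toEquiv]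
  -- the even part of the kernel
  have heven : ∀ d ∈ evenKer, ∃ m : S, φ m = (1, d) := by
    intro d hd
    by_cases hd1 : d = 1
    · exact ⟨1, by rw [map_one, hd1]; rfl⟩
    obtain ⟨m, hm⟩ : ∃ m : S, (φ m).2 ≠ 1 ∧ (φ m).2 ≠ cw := by
      by_contra h
      push Not at h
      have h4 : Nat.card φ.range ≤ 4 := by
        let l : Fin 4 → P36 := ![(1, 1), (1, cw), (t3, 1), (t3, cw)]
        refine (Nat.card_le_card_of_surjective
          (fun i : Fin 4 => if hi : l i ∈ φ.range then (⟨_, hi⟩ : φ.range) else 1) ?_).trans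
          (Nat.card_fin 4).le
        rintro ⟨_, m, rfl⟩
        obtain ⟨h1, -, h3⟩ := hpm m
        have hτσ := (fix_e1 (τ := (φ m).1) (σ := (φ m).2) h3 (congrArg Prod.fst h1)).1
        obtain ⟨i, hi⟩ : ∃ i, l i = φ m := by
          rcases hτσ with e | e <;> rcases em ((φ m).2 = 1) with e' | e'
          · exact ⟨0, Prod.ext e.symm e'.symm⟩
          · exact ⟨1, Prod.ext e.symm (h m e').symm⟩
          · exact ⟨2, Prod.ext e.symm e'.symm⟩
          · exact ⟨3, Prod.ext e.symm (h m e').symm⟩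
        refine ⟨i, ?_⟩
        simp [hi]
      nlinarith
    obtain ⟨h1, h2, h3⟩ := hpm m
    have hσk : (φ m).2 ∈ kerList := by
      have hτσ := fix_e1 (τ := (φ m).1) (σ := (φ m).2) h3 (congrArg Prod.fst h1)
      refine kernel_of_commute _ hτσ.2 (congrArg Prod.snd h1) fun g' hg' => ?_
      obtain ⟨m', e1', e2'⟩ := h2 g' hg'
      rw [e1'] at e2'
      simpa using congrArg Prod.snd e2'
    obtain ⟨g1, hg1, g2, hg2, hdd⟩ := kernel_product _ hσk hm.1 hm.2 d hd hd1
    obtain ⟨m1, em1, -⟩ := h2 g1 hg1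
    obtain ⟨m2, em2, -⟩ := h2 g2 hg2
    refine ⟨m1 * m2, ?_⟩
    rw [map_mul, em1, em2]
    refine Prod.ext ?_ ?_
    · simpa using congrArg Prod.fst h1
    · simpa using hdd.symm
  -- lifts of `E`
  have hEin : ∀ r ∈ Q, InE e1 (T.ν r) → r ∈ Q' := by
    intro r hr hrE
    obtain ⟨d, hd, a, -, b, -, hb, hab⟩ := E_covered _ hrE
    obtain ⟨m, hm⟩ := heven d hd
    obtain ⟨q, hq, eq⟩ := T.surj (a, b)
    have hqs : q * s = s * q := by
      refine (T.comm_iff hq hsQ).mpr ?_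
      rw [eq, hν]
      simp only [BT]
      rw [β_zero_right, β_comm e1, hb, add_zero]
    have hc1 : (m : G) * q * (m : G)⁻¹ * q⁻¹ ∈ Q :=
      Q.mul_mem (X.norm ⟨(m : G), hSz m m.2⟩ hq) (Q.inv_mem hq)
    have hc2 : (m : G) * q * (m : G)⁻¹ * q⁻¹ ∈ Q' := by
      rw [show (m : G) * q * (m : G)⁻¹ * q⁻¹ = (m : G) * (q * (m : G)⁻¹ * q⁻¹) by group]
      exact Q'.mul_mem m.2.1 (h'.norm q hqs _ (Q'.inv_mem m.2.1))
    have hν' : T.ν ((m : G) * q * (m : G)⁻¹ * q⁻¹) = (SixSymplModel31.act d a + a, SixSymplModel31.act d b + b) := by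
      have h1 := T.act ⟨(m : G), hSz m m.2⟩ q hq
      rw [show T.π ⟨(m : G), hSz m m.2⟩ = φ m from rfl, hm, actT_one', eq] at h1
      rw [T.add _ (X.norm ⟨(m : G), hSz m m.2⟩ hq) _ (Q.inv_mem hq), T.ν_inv hq, eq]
      exact (congrArg (· + (a, b)) h1).trans rfl
    rcases hab with e | e
    · rcases T.same hr hc1 (e.symm.trans hν'.symm) with e' | e' <;> rw [e']
      · exact hc2
      · exact Q'.mul_mem hzQ' hc2
    · have hν'' : T.ν ((m : G) * q * (m : G)⁻¹ * q⁻¹ * s) = T.ν r := by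
        rw [T.add _ hc1 _ hsQ, hν', hν, e, add_assoc]
        rw [show ((e1, 0) : W4 × W4) + (e1, 0) = 0 by decide, add_zero]
      rcases T.same hr (Q.mul_mem hc1 hsQ) hν''.symm with e' | e' <;> rw [e']
      · exact Q'.mul_mem hc2 h'.mem
      · exact Q'.mul_mem hzQ' (Q'.mul_mem hc2 h'.mem)
  have hkerS : ∀ r, r ∈ Q → r ∈ Q' → ∃ hr : r ∈ S, (⟨r, hr⟩ : S) ∈ φ.ker := fun r hr hr' =>
    ⟨⟨hr', X.Q_le hr⟩, MonoidHom.mem_ker.mpr ((T.ker ⟨r, X.Q_le hr⟩).mpr hr)⟩
  choose s' hs'1 hs'2 using T.surj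
  have hcount : ∀ F : Finset (W4 × W4), (∀ v ∈ F, ∃ r ∈ Q, r ∈ Q' ∧ T.ν r = v) →
      2 * F.card ≤ Nat.card φ.ker := by
    intro F hF
    choose r hr1 hr2 hr3 using hF
    have hmem : ∀ p : Bool × F, ∃ hr : (if p.1 then z * r p.2 p.2.2 else r p.2 p.2.2) ∈ S,
        (⟨_, hr⟩ : S) ∈ φ.ker := fun p => by
      split_ifs
      · exact hkerS _ (Q.mul_mem X.h.mem (hr1 _ _)) (Q'.mul_mem hzQ' (hr2 _ _))
      · exact hkerS _ (hr1 _ _) (hr2 _ _)
    choose hm1 hm2 using hmem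
    have := Nat.card_le_card_of_injective (fun p : Bool × F => (⟨⟨_, hm1 p⟩, hm2 p⟩ : φ.ker)) (by
      rintro ⟨b, v⟩ ⟨b', v'⟩ e
      have e' : (if b then z * r v v.2 else r v v.2) = (if b' then z * r v' v'.2 else r v' v'.2) :=
        congrArg (fun x : φ.ker => ((x : S) : G)) e
      have eν := congrArg T.ν e'
      rw [apply_ite T.ν, apply_ite T.ν, T.ν_zmul (hr1 _ _), T.ν_zmul (hr1 _ _), ite_self, ite_self,
        hr3, hr3] at eν
      obtain rfl : v = v' := Subtype.ext eν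
      cases b <;> cases b' <;>
        first
          | rfl
          | exact absurd (by simpa using e' : z = 1) X.h.ne_one
          | exact absurd (by simpa using e'.symm : z = 1) X.h.ne_one)
    rwa [Nat.card_prod, Nat.card_eq_fintype_card, Fintype.card_bool, Nat.card_eq_finsetCard] at this
  have hE32 : 32 ≤ Nat.card φ.ker := by
    have := hcount (Finset.univ.filter fun v : W4 × W4 => InE e1 v) fun v hv =>
      ⟨s' v, hs'1 v, hEin _ (hs'1 v) (by rw [hs'2]; exact (Finset.mem_filter.mp hv).2), hs'2 v⟩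
    rwa [card_E] at this
  refine ⟨hzQ', fun r hr => ⟨fun hr' => ?_, hEin r hr⟩, fun m hm => hpairs ⟨m, hm, m.2⟩,
    fun d hd => ?_, ?_⟩
  · by_contra hn
    have := hcount (insert (T.ν r) (Finset.univ.filter fun v : W4 × W4 => InE e1 v)) fun v hv => by
      rcases Finset.mem_insert.mp hv with e | hv
      · exact ⟨r, hr, hr', e.symm⟩
      · exact ⟨s' v, hs'1 v, hEin _ (hs'1 v) (by rw [hs'2]; exact (Finset.mem_filter.mp hv).2), hs'2 v⟩
    rw [Finset.card_insert_of_notMem (by simp [hn]), card_E] at this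
    omega
  · obtain ⟨m, hm⟩ := heven d hd
    exact ⟨⟨(m : G), hSz m m.2⟩, m.2.1, hm⟩
  · intro L hL hmem
    have h1 : Nat.card φ.range ≤ 8 := by nlinarith
    refine le_trans ?_ h1
    rw [← List.toFinset_card_of_nodup hL, ← Nat.card_eq_finsetCard]
    refine Nat.card_le_card_of_injective (fun p : L.toFinset => (⟨(p : P36), ?_⟩ : φ.range)) ?_
    · obtain ⟨m, hm, e⟩ := hmem p (List.mem_toFinset.mp p.2)
      exact ⟨⟨m, hm, m.2⟩, e⟩
    · intro p q e
      exact Subtype.ext (congrArg Subtype.val e :)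

/-- No conjugate of `z` in `Q` lies over a pure tensor. -/
theorem no_pure {g : G} (hsQ : g * z * g⁻¹ ∈ Q) {w : W4} (hw : w ≠ 0)
    (hν : T.ν (g * z * g⁻¹) = (w, 0)) : False := by
  classical
  -- move to `e1`
  obtain ⟨g₁, hg₁Q, hg₁ν⟩ : ∃ g : G, g * z * g⁻¹ ∈ Q ∧ T.ν (g * z * g⁻¹) = (e1, 0) := by
    obtain ⟨σ, hσ, hσw⟩ := transitive w hw
    obtain ⟨k, hk⟩ := T.exists_lift hσ
    have e : (k⁻¹ : G) * g * z * ((k⁻¹ : G) * g)⁻¹ = ((k⁻¹ : ↥(centralizer ({z} : Set G))) : G) *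
        (g * z * g⁻¹) * ((k⁻¹ : ↥(centralizer ({z} : Set G))) : G)⁻¹ := by
      simp only [coe_inv]; group
    refine ⟨(k⁻¹ : G) * g, by rw [e]; exact X.norm _ hsQ, ?_⟩
    rw [e, T.act _ _ hsQ, map_inv, hk, hν, Prod.inv_mk, inv_one, actT_one', act_zero, ← hσw,
      ← act_mul, inv_mul_cancel, act_one]
  obtain ⟨hz1, hE1, hP1, hev1, hlen1⟩ := T.e1_data hg₁Q hg₁ν
  set s := g₁ * z * g₁⁻¹ with hs
  set Q1 := Q.map (MulAut.conj g₁).toMonoidHom with hQ1
  have h1 : LHyp Q1 s := X.h.map_conj g₁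
  obtain ⟨he12, he20, he21⟩ := e2_spec
  obtain ⟨σ, hσ, hσe⟩ := transitive e2 he20
  obtain ⟨k, hk⟩ := T.exists_lift hσ
  have hkz := mem_centralizer_singleton_iff.mp k.2
  set g₂ := (k : G) * g₁ with hg₂
  set s₂ := g₂ * z * g₂⁻¹ with hs₂
  have hs₂s : s₂ = (k : G) * s * (k : G)⁻¹ := by rw [hs₂, hg₂, hs]; group
  have hs₂Q : s₂ ∈ Q := by rw [hs₂s]; exact X.norm k hg₁Q
  have hs₂ν : T.ν s₂ = (e2, 0) := by
    rw [hs₂s, T.act k s hg₁Q, hk, hg₁ν, actT_one', act_zero, hσe]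
  set Q2 := Q.map (MulAut.conj g₂).toMonoidHom with hQ2
  have h2 : LHyp Q2 s₂ := X.h.map_conj g₂
  have hmem2 : ∀ r : G, r ∈ Q2 ↔ (k : G)⁻¹ * r * k ∈ Q1 := fun r => by
    rw [hQ2, hQ1, mem_conjQ, mem_conjQ, hg₂]
    constructor <;> intro h
    · convert h using 1; group
    · convert h using 1; group
  have hz2 : z ∈ Q2 := (hmem2 z).mpr (by
    rw [show (k : G)⁻¹ * z * k = z by rw [mul_assoc, ← hkz, inv_mul_cancel_left]]; exact hz1)
  have hE2 : ∀ r ∈ Q, r ∈ Q2 ↔ InE e2 (T.ν r) := by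
    intro r hr
    have hr' : (k : G)⁻¹ * r * k ∈ Q := by simpa using X.norm k⁻¹ hr
    have e : T.ν r = (SixSymplModel31.act σ (T.ν ((k : G)⁻¹ * r * k)).1, SixSymplModel31.act σ (T.ν ((k : G)⁻¹ * r * k)).2) := by
      rw [← actT_one', ← hk, ← T.act k _ hr']
      congr 1
      group
    rw [hmem2, hE1 _ hr', e]
    constructor
    · intro h
      have := InE_map σ h
      rwa [hσe] at this
    · intro h
      have := InE_map σ⁻¹ h
      rwa [← hσe, ← act_mul, inv_mul_cancel, act_one, ← act_mul, inv_mul_cancel, act_one, ← act_mul,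
        inv_mul_cancel, act_one] at this
  have hP2 : ∀ m : ↥(centralizer ({z} : Set G)), (m : G) ∈ Q2 → K6 e2 (T.π m).2 := by
    intro m hm
    have h := hP1 (k⁻¹ * m * k) (by simpa using (hmem2 m).mp hm)
    have hK : K6 e1 (T.π (k⁻¹ * m * k)).2 := by
      refine (kerList_K6 _ ?_).1
      rcases List.mem_append.mp h with h | h <;> obtain ⟨c, hc, e⟩ := List.mem_map.mp h <;>
        rw [← e] <;> exact hc
    have := K6_map σ hK
    rw [hσe] at this
    rwa [map_mul, map_mul, map_inv, hk, Prod.snd_mul, Prod.snd_mul, Prod.snd_inv,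
      show σ * (σ⁻¹ * (T.π m).2 * σ) * σ⁻¹ = (T.π m).2 by group] at this
  have hss₂ : s * s₂ = s₂ * s := by
    refine (T.comm_iff hg₁Q hs₂Q).mpr ?_
    rw [hg₁ν, hs₂ν]
    simp [BT, β_zero_right]
  have hs₂Q1 : s₂ ∈ Q1 := (hE1 s₂ hs₂Q).mpr (by
    rw [hs₂ν]; exact ⟨by rw [β_comm]; exact he12, Or.inl rfl⟩)
  have hne1 : s₂ ≠ s := fun e => he21 (by
    have := congrArg T.ν e
    rw [hs₂ν, hg₁ν] at this
    exact congrArg Prod.fst this)
  have hsz : s ≠ z := fun e => by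
    rw [e, T.ν_z] at hg₁ν
    exact absurd hg₁ν (by decide)
  -- an element sending `z` to `s` and fixing `s₂`
  obtain ⟨y2, hy2, hy2z, hy2s⟩ : ∃ y ∈ Q1, y * z * y⁻¹ = s * z ∧ y * s₂ = s₂ * y := by
    obtain ⟨a, ha, ea⟩ := h1.partner z hz1 X.h.ne_one (fun e => hsz e.symm)
    by_cases has : a * s₂ = s₂ * a
    · exact ⟨a, ha, ea, has⟩
    obtain ⟨b, hb, hbz, hbs⟩ : ∃ b ∈ Q1, b * z = z * b ∧ b * s₂ ≠ s₂ * b := by
      by_contra h
      push Not at h
      have has' := (h1.conj a ha s₂ hs₂Q1).resolve_left fun e => has (mul_inv_eq_iff_eq_mul.mp e)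
      have hcz : ∀ c ∈ Q1, Commute c (z * s₂) := by
        intro c hc
        by_cases hcz : c * z = z * c
        · exact (show Commute c z from hcz).mul_right (h c hc hcz)
        · have e1 := (h1.toExt.not_comm_iff hz1 hc).mp hcz
          have hm := Q1.mul_mem (Q1.inv_mem ha) hc
          have hmz : (a⁻¹ * c) * z = z * (a⁻¹ * c) := by
            apply mul_inv_eq_iff_eq_mul.mp
            calc a⁻¹ * c * z * (a⁻¹ * c)⁻¹ = a⁻¹ * (c * z * c⁻¹) * a := by group
              _ = a⁻¹ * (a * z * a⁻¹) * a := by rw [e1, ea]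
              _ = z := by group
          have h3 : Commute (a⁻¹ * c) (z * s₂) :=
            (show Commute (a⁻¹ * c) z from hmz).mul_right (h _ hm hmz)
          have h4 : Commute a (z * s₂) := by
            apply mul_inv_eq_iff_eq_mul.mp
            calc a * (z * s₂) * a⁻¹ = (a * z * a⁻¹) * (a * s₂ * a⁻¹) := by group
              _ = s * z * (s * s₂) := by rw [ea, has']
              _ = z * (s * s) * s₂ := by
                rw [show s * z = z * s from h1.comm z hz1 |>.symm]; group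
              _ = z * s₂ := by rw [h1.zz, mul_one]
          have := h4.mul_left h3
          rwa [mul_inv_cancel_left] at this
      have hmem := Q1.mul_mem hz1 hs₂Q1
      rcases h1.central hmem (fun c hc => (hcz c hc).eq) with e | e
      · have := congrArg T.ν e
        rw [T.ν_zmul hs₂Q, T.ν_one, hs₂ν] at this
        exact he20 (congrArg Prod.fst this)
      · have := congrArg T.ν e
        rw [T.ν_zmul hs₂Q, hg₁ν, hs₂ν] at this
        exact he21 (congrArg Prod.fst this)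
    refine ⟨a * b, Q1.mul_mem ha hb, ?_, mul_inv_eq_iff_eq_mul.mp ?_⟩
    · calc a * b * z * (a * b)⁻¹ = a * (b * z * b⁻¹) * a⁻¹ := by group
        _ = _ := by rw [mul_inv_eq_iff_eq_mul.mpr hbz, ea]
    · have hb' := (h1.conj b hb s₂ hs₂Q1).resolve_left fun e => hbs (mul_inv_eq_iff_eq_mul.mp e)
      have ha' := (h1.conj a ha s₂ hs₂Q1).resolve_left fun e => has (mul_inv_eq_iff_eq_mul.mp e)
      calc a * b * s₂ * (a * b)⁻¹ = a * (b * s₂ * b⁻¹) * a⁻¹ := by group
        _ = (a * s) * s₂ * a⁻¹ := by rw [hb']; group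
        _ = s * (a * s₂ * a⁻¹) := by rw [h1.comm a ha]; group
        _ = s₂ := by rw [ha', h1.z_mul_z_mul]
  obtain ⟨y1, hy1, ey1⟩ := T.surj (0, f1)
  have hy1s : y1 * s * y1⁻¹ = z * s := by
    rw [T.conj y1 hy1 s hg₁Q, ey1, hg₁ν, show BT (0, f1) (e1, 0) = 1 by decide, zp_one]
  have hy1s₂ : y1 * s₂ = s₂ * y1 := by
    refine (T.comm_iff hy1 hs₂Q).mpr ?_
    rw [ey1, hs₂ν]
    decide
  set h := y1⁻¹ * y2 with hh
  have hhz : h * z * h⁻¹ = s := by
    have e1 : y1⁻¹ * z * y1 = z := by rw [mul_assoc, ← X.h.comm y1 hy1, inv_mul_cancel_left]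
    have e2 : y1⁻¹ * s * y1 = z * s := by
      calc y1⁻¹ * s * y1 = y1⁻¹ * (z * z * s) * y1 := by rw [X.h.zz, one_mul]
        _ = (y1⁻¹ * z * y1) * (y1⁻¹ * (z * s) * y1) := by group
        _ = z * (y1⁻¹ * (y1 * s * y1⁻¹) * y1) := by rw [e1, hy1s]
        _ = z * s := by group
    calc h * z * h⁻¹ = y1⁻¹ * (y2 * z * y2⁻¹) * y1 := by rw [hh]; group
      _ = (y1⁻¹ * s * y1) * (y1⁻¹ * z * y1) := by rw [hy2z]; group
      _ = s := by rw [e1, e2, ← X.h.comm s hg₁Q, mul_assoc, X.h.zz, mul_one]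
  have hhs₂ : h * s₂ = s₂ * h :=
    ((show Commute y1 s₂ from hy1s₂).inv_left.mul_left (show Commute y2 s₂ from hy2s)).eq
  have hQh : ∀ r ∈ Q, h * r * h⁻¹ ∈ Q1 := by
    intro r hr
    refine mem_conjQ.mpr ?_
    have hc : (g₁⁻¹ * h) * z = z * (g₁⁻¹ * h) := by
      apply mul_inv_eq_iff_eq_mul.mp
      calc g₁⁻¹ * h * z * (g₁⁻¹ * h)⁻¹ = g₁⁻¹ * (h * z * h⁻¹) * g₁ := by group
        _ = z := by rw [hhz, hs]; group
    have := X.norm ⟨_, X.mem_cent.mpr hc⟩ hr
    convert this using 1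
    group
  -- the triple intersection
  let R : Subgroup G := Q1 ⊓ Q2
  have hRab : ∀ a ∈ R, a * z = z * a := by
    intro a ha
    rcases h1.conj a ha.1 z hz1 with e | e
    · exact mul_inv_eq_iff_eq_mul.mp e
    rcases h2.conj a ha.2 z hz2 with e' | e'
    · exact mul_inv_eq_iff_eq_mul.mp e'
    exact absurd (mul_right_cancel (e'.symm.trans e)) hne1
  let φ : R →* P36 := T.π.comp (Subgroup.inclusion fun a ha => X.mem_cent.mpr (hRab a ha))
  choose s' hs'1 hs'2 using T.surj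
  have hR32 : 32 ≤ Nat.card R := by
    let F := Finset.univ.filter fun v : W4 × W4 => InE e2 v
    have hF : F.card = 16 := by
      rw [← card_E]
      refine Finset.card_bij (fun v _ => (SixSymplModel31.act σ⁻¹ v.1, SixSymplModel31.act σ⁻¹ v.2)) ?_ ?_ ?_
      · intro v hv
        have := InE_map σ⁻¹ (Finset.mem_filter.mp hv).2
        rw [← hσe, ← act_mul σ⁻¹ σ, inv_mul_cancel, act_one] at this
        exact Finset.mem_filter.mpr ⟨Finset.mem_univ _, this⟩
      · intro v _ v' _ e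
        simp only [Prod.mk.injEq] at e
        exact Prod.ext (act_inj _ e.1) (act_inj _ e.2)
      · intro v hv
        refine ⟨(SixSymplModel31.act σ v.1, SixSymplModel31.act σ v.2), Finset.mem_filter.mpr ⟨Finset.mem_univ _, ?_⟩, ?_⟩
        · have := InE_map σ (Finset.mem_filter.mp hv).2
          rwa [hσe] at this
        · simp only [← act_mul, inv_mul_cancel, act_one]
    have hmem : ∀ p : Bool × F, h * (if p.1 then z * s' p.2 else s' p.2) * h⁻¹ ∈ R := by
      rintro ⟨b, v, hv⟩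
      have hin : (if b then z * s' v else s' v) ∈ Q ∧ (if b then z * s' v else s' v) ∈ Q2 := by
        have h' : s' v ∈ Q2 := (hE2 _ (hs'1 v)).mpr (by rw [hs'2]; exact (Finset.mem_filter.mp hv).2)
        cases b
        · exact ⟨hs'1 v, h'⟩
        · exact ⟨Q.mul_mem X.h.mem (hs'1 v), Q2.mul_mem hz2 h'⟩
      exact ⟨hQh _ hin.1, h2.norm h hhs₂ _ hin.2⟩
    have := Nat.card_le_card_of_injective (fun p => (⟨_, hmem p⟩ : R)) (by
      rintro ⟨b, v⟩ ⟨b', v'⟩ e
      have e' : (if b then z * s' v else s' v) = (if b' then z * s' v' else s' v') := by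
        exact mul_left_cancel (mul_right_cancel (congrArg Subtype.val e :))
      have eν := congrArg T.ν e'
      rw [apply_ite T.ν, apply_ite T.ν, T.ν_zmul (hs'1 _), T.ν_zmul (hs'1 _), ite_self, ite_self,
        hs'2, hs'2] at eν
      obtain rfl : v = v' := Subtype.ext eν
      cases b <;> cases b' <;>
        first
          | rfl
          | exact absurd (by simpa using e' : z = 1) X.h.ne_one
          | exact absurd (by simpa using e'.symm : z = 1) X.h.ne_one)
    rwa [Nat.card_prod, Nat.card_eq_fintype_card, Fintype.card_bool, Nat.card_eq_finsetCard, hF] at this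
  have hker : Nat.card φ.ker ≤ 8 := by
    let F := Finset.univ.filter fun v : W4 × W4 => InE e1 v ∧ InE e2 v
    have hF : F.card = 4 := E_inter e2 he12 he20 he21
    refine (Nat.card_le_card_of_surjective (fun p : Bool × F =>
      if hp : (if p.1 then z * s' p.2 else s' p.2) ∈ R ∧ (if p.1 then z * s' p.2 else s' p.2) ∈ Q then
        (⟨⟨_, hp.1⟩, MonoidHom.mem_ker.mpr ((T.ker ⟨_, X.Q_le hp.2⟩).mpr hp.2)⟩ : φ.ker)
      else 1) ?_).trans (by
      rw [Nat.card_prod, Nat.card_eq_fintype_card, Fintype.card_bool, Nat.card_eq_finsetCard, hF])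
    rintro ⟨⟨r, hr⟩, hk'⟩
    have hrQ : r ∈ Q := (T.ker _).mp hk'
    have hvF : T.ν r ∈ F :=
      Finset.mem_filter.mpr ⟨Finset.mem_univ _, (hE1 r hrQ).mp hr.1, (hE2 r hrQ).mp hr.2⟩
    obtain ⟨b, hb⟩ : ∃ b : Bool, (if b then z * s' (T.ν r) else s' (T.ν r)) = r := by
      rcases T.same hrQ (hs'1 _) (hs'2 _).symm with e | e
      · exact ⟨false, by simpa using e.symm⟩
      · exact ⟨true, by simpa using e.symm⟩
    refine ⟨(b, ⟨_, hvF⟩), ?_⟩
    simp only [hb]
    rw [dif_pos ⟨hr, hrQ⟩]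
  have hrange : 4 ≤ Nat.card φ.range := by
    have h' := Subgroup.card_eq_card_quotient_mul_card_subgroup φ.ker
    rw [Nat.card_congr (QuotientGroup.quotientKerEquivRange φ).toEquiv] at h'
    nlinarith
  set L := kerPairs.filter fun p => decide (K6 e2 p.2) with hL
  obtain ⟨hLlen, hLprod⟩ := K_inter e2 (mem_vecs _) he12 he20 he21
  have hsub : (φ.range : Set P36).toFinite.toFinset ⊆ L.toFinset := by
    intro p hp
    obtain ⟨⟨r, hr⟩, rfl⟩ := (Set.Finite.mem_toFinset _).mp hp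
    rw [List.mem_toFinset, hL, List.mem_filter]
    exact ⟨hP1 ⟨r, X.mem_cent.mpr (hRab r hr)⟩ hr.1,
      decide_eq_true (hP2 ⟨r, X.mem_cent.mpr (hRab r hr)⟩ hr.2)⟩
  have heq := Finset.eq_of_subset_of_card_le hsub (by
    rw [← Set.ncard_eq_toFinset_card, ← Nat.card_coe_set_eq]
    exact (L.toFinset_card_le.trans hLlen).trans hrange)
  have hall : ∀ p ∈ L, ∃ r : R, φ r = p := fun p hp => by
    have : p ∈ (φ.range : Set P36).toFinite.toFinset := heq ▸ List.mem_toFinset.mpr hp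
    obtain ⟨r, hr⟩ := (Set.Finite.mem_toFinset (φ.range : Set P36).toFinite).mp this
    exact ⟨r, hr⟩
  have h16 := hlen1 ((evenKer.flatMap fun d => L.map fun p => ((1, d) : P36) * p).dedup)
    (List.nodup_dedup _) ?_
  · rw [hLprod] at h16
    omega
  intro p hp
  rw [List.mem_dedup, List.mem_flatMap] at hp
  obtain ⟨d, hd, hp⟩ := hp
  obtain ⟨p', hp', rfl⟩ := List.mem_map.mp hp
  obtain ⟨r, hr⟩ := hall p' hp'
  obtain ⟨m, hm, em⟩ := hev1 d hd
  exact ⟨m * ⟨(r : G), X.mem_cent.mpr (hRab r r.2)⟩, Q1.mul_mem hm r.2.1, by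
    rw [map_mul, em, ← hr]; rfl⟩

end CoT

end Cfsg.Agent.NineSetup31
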