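import Cfsg.Agent.Lib.NinePair7
import Cfsg.Agent.Lib.NineArith7
import Cfsg.Agent.Lib.NineRat7
import Cfsg.Agent.Lib.PSLCard
import Cfsg.Agent.Lib.Simple360
import Cfsg.Agent.Lib.DihedralBound81
import Cfsg.Agent.S0496
import Cfsg.Agent.S0497
import Cfsg.Agent.S0997
import Cfsg.Agent.S1020

/-!
# The prime `q` for a simple group of order `9 * 2 ^ a * q ^ b` with a pair of rational characters
-/

set_option autoImplicit false
set_option linter.unusedSectionVars false
set_option linter.style.haveILetI false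

open scoped ComplexConjugate
open Finset

attribute [local instance] Classical.propDecidable

namespace Cfsg.Agent.NineQ7

open Cfsg Cfsg.Agent.CharBasic Cfsg.Agent.CharBasicOrth Cfsg.Agent.CharBasicDecomp
open Cfsg.Agent.NinePair7 Cfsg.Agent.NineRat7 Cfsg.Agent.NineCases7 Cfsg.Agent.SylowLift7

universe u

variable {G : Type u} [Group G] [Fintype G] [IsSimpleGroup G] [Fact (Nat.Prime 3)] {R : Sylow 3 G}

theorem pair_swap {a b : IrrCharacter G} {ca cb : ℤ} (h : Pair R a b ca cb) : Pair R b a cb ca :=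
  ⟨h.ne_b, h.ne_a, h.unit_b, h.unit_a, by linarith [h.deg], h.cop_b, h.cop_a, h.inv_b, h.inv_a,
    fun g hg => by linear_combination h.regular g hg⟩

theorem rat_left (hG : ¬ IsMulCommutative G) {a b : IrrCharacter G} {ca cb : ℤ}
    (h : Pair R a b ca cb) : Rat a (dg a) :=
  ⟨NinePair7.apply_one a, two_le_dg hG h.ne_a, h.inv_a⟩

/-- The prime is a Fermat or Mersenne prime with exponent one. -/
theorem exponent (hG : ¬ IsMulCommutative G) {q a b : ℕ} (hq : q.Prime) (hq2 : q ≠ 2) (hq3 : q ≠ 3)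
    (hcard : Nat.card G = 9 * 2 ^ a * q ^ b) {x y : IrrCharacter G} {cx cy : ℤ}
    (h : Pair R x y cx cy) :
    ∃ (i : ℕ) (χ ψ : IrrCharacter G) (c c' : ℤ), Pair R χ ψ c c' ∧ dg χ = q ∧ dg ψ = 2 ^ i ∧
      i ≤ a ∧ b = 1 ∧ (q = 2 ^ i + 1 ∨ q + 1 = 2 ^ i) := by
  have hx := two_le_dg hG h.ne_a
  have hy := two_le_dg hG h.ne_b
  have hcons : dg x + 1 = dg y ∨ dg y + 1 = dg x := by
    have := h.deg
    rcases h.unit_a with u | u <;> rcases h.unit_b with v | v <;> rw [u, v] at this <;> omega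
  obtain ⟨i, hi, hb, hqi, hd⟩ := NineArith7.degrees hq hq2 hq3 hx hy h.cop_a h.cop_b
    (hcard ▸ dg_dvd x) (hcard ▸ dg_dvd y) hcons
  have hq5 : 5 ≤ q := by
    have := hq.two_le
    have h4 : q ≠ 4 := fun e => by rw [e] at hq; norm_num at hq
    omega
  have fin : ∀ {χ ψ : IrrCharacter G} {c c' : ℤ}, Pair R χ ψ c c' → dg χ = q → dg ψ = 2 ^ i →
      ∃ (i : ℕ) (χ ψ : IrrCharacter G) (c c' : ℤ), Pair R χ ψ c c' ∧ dg χ = q ∧ dg ψ = 2 ^ i ∧
        i ≤ a ∧ b = 1 ∧ (q = 2 ^ i + 1 ∨ q + 1 = 2 ^ i) := by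
    intro χ ψ c c' hP hχ hψ
    refine ⟨i, χ, ψ, c, c', hP, hχ, hψ, hi, ?_, hqi⟩
    by_contra hne
    refine (rat_left hG hP).not_sq_dvd hq (by rw [hχ]; omega) ?_
    rw [hcard]
    exact Dvd.dvd.mul_left (pow_dvd_pow q (by omega)) _
  rcases hd with ⟨h1, h2⟩ | ⟨h1, h2⟩
  · exact fin (pair_swap h) h2 h1
  · exact fin h h1 h2

/-- Large primes. -/
theorem large (hG : ¬ IsMulCommutative G) {q a : ℕ} (hq : q.Prime) (h11 : 11 ≤ q)
    (hcard : Nat.card G = 9 * 2 ^ a * q) :
    Nonempty (G ≃* Matrix.ProjectiveSpecialLinearGroup (Fin 2) (ZMod 17)) := by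
  have hcyc : ¬ IsCyclic G := fun h => hG h.isMulCommutative
  rcases S0997.result hcyc q 2 a 9 hq Nat.prime_two (by omega) (by rw [hcard]; ring) (by omega) with
    ⟨m, F, _, _, hF, hm, ⟨e⟩⟩ | ⟨m, F, _, _, hF, hm, -, ⟨e⟩⟩
  · rw [← Nat.card_eq_fintype_card] at hF
    have hcF := PSLCard.card_PSL2_mul (F := F)
    have hodd : Nat.gcd 2 (q - 1) = 2 := by
      refine Nat.gcd_eq_left ?_
      have := hq.odd_of_ne_two (by omega)
      obtain ⟨r, hr⟩ := this
      exact ⟨r, by omega⟩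
    rw [← Nat.card_congr e.toEquiv, hF, hodd, hcard] at hcF
    obtain ⟨rfl, rfl⟩ := NineArith7.psl_odd (m := m) (a := a) h11 hm (by rw [← hcF]; ring)
    haveI : Fact (Nat.Prime 17) := ⟨hq⟩
    exact S1020.result (by rw [hcard]; norm_num) (ZMod.card 17)
  · rw [← Nat.card_eq_fintype_card] at hF
    have hm0 : m ≠ 0 := by rintro rfl; norm_num at hm; omega
    have hcF := PSLCard.card_PSL2_even (F := F) (by rw [hF]; exact Nat.even_pow.2 ⟨even_two, hm0⟩)
    rw [← Nat.card_congr e.toEquiv, hF, hcard] at hcF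
    exact (NineArith7.psl_even h11 hm (by rw [← hcF]; ring)).elim

/-- An element of order six in the normalizer. -/
theorem exists_six_split {A B : Subgroup G} (hS : Split (R : Subgroup G) A B) :
    ∃ g : G, orderOf g = 6 := by
  obtain ⟨n, -, hA, hB⟩ := hS.reflA
  obtain ⟨b, hb⟩ : ∃ b : B, b ≠ 1 := by
    haveI : Nontrivial B := Finite.one_lt_card_iff_nontrivial.1 (by rw [hS.cardB]; norm_num)
    exact exists_ne 1
  obtain ⟨a, ha⟩ : ∃ a : A, a ≠ 1 := by
    haveI : Nontrivial A := Finite.one_lt_card_iff_nontrivial.1 (by rw [hS.cardA]; norm_num)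
    exact exists_ne 1
  have ha3 : orderOf (a : G) = 3 := by
    rw [Subgroup.orderOf_coe]
    exact ((Nat.dvd_prime Nat.prime_three).1 (hS.cardA ▸ orderOf_dvd_natCard a)).resolve_left
      fun e => ha (orderOf_eq_one_iff.1 e)
  have hbne : (b : G) ≠ (b : G)⁻¹ := by
    intro e
    have h1 : b * b = 1 := Subtype.ext (by
      rw [Subgroup.coe_mul, OneMemClass.coe_one]; exact mul_eq_one_iff_eq_inv.2 e)
    have h2 : orderOf b ∣ 2 := orderOf_dvd_of_pow_eq_one (by rw [pow_two, h1])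
    have h3 : orderOf b ∣ 3 := hS.cardB ▸ orderOf_dvd_natCard b
    exact hb (orderOf_eq_one_iff.1 (Nat.eq_one_of_dvd_coprimes (by norm_num) h2 h3))
  have heven : 2 ∣ orderOf n := by
    by_contra h2
    obtain ⟨k, hk⟩ := (Nat.odd_iff.2 (by omega) : Odd (orderOf n))
    have hc2 : Commute (n ^ 2) (b : G) := by
      have h1 : n * (n * b * n⁻¹) * n⁻¹ = (b : G) := by
        rw [hB b b.2, ← conj_inv, hB b b.2, inv_inv]
      exact mul_inv_eq_iff_eq_mul.1 (by rw [pow_two, mul_inv_rev]; simpa [mul_assoc] using h1)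
    have hc : Commute n (b : G) := by
      have := hc2.pow_left (k + 1)
      rwa [← pow_mul, show 2 * (k + 1) = orderOf n + 1 by omega, pow_succ, pow_orderOf_eq_one,
        one_mul] at this
    exact hbne ((mul_inv_eq_iff_eq_mul.2 hc.eq).symm.trans (hB b b.2))
  set t := n ^ (orderOf n / 2) with ht
  have ht2 : orderOf t = 2 := orderOf_pow_orderOf_div (orderOf_pos n).ne' heven
  have hta : Commute t (a : G) :=
    (show Commute n (a : G) from mul_inv_eq_iff_eq_mul.1 (hA a a.2)).pow_left _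
  exact ⟨t * a, by rw [hta.orderOf_mul_eq_mul_orderOf_of_coprime (by rw [ht2, ha3]; norm_num),
    ht2, ha3]⟩

theorem exists_six_inversion (h360 : Nat.card G = 360) (hI : Inversion (R : Subgroup G)) :
    ∃ g : G, orderOf g = 6 := by
  obtain ⟨h9, -, hN⟩ := Simple360.card_sylow h360
  set N := Subgroup.normalizer ((R : Subgroup G) : Set G) with hNdef
  haveI : Fact (Nat.Prime 2) := ⟨Nat.prime_two⟩
  obtain ⟨T, hT⟩ := Sylow.exists_subgroup_card_pow_prime 2 (G := N) (n := 2) (by rw [hN R]; norm_num)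
  replace hT : Nat.card T = 4 := hT
  obtain ⟨t₀, ht₀, hfix⟩ : ∃ t : T, t ≠ 1 ∧ Fix ((t : N) : G) (R : Subgroup G) := by
    by_contra hcon
    push Not at hcon
    have hinv : ∀ t : T, t ≠ 1 → Inv' ((t : N) : G) (R : Subgroup G) := fun t ht =>
      (hI.act _ (t : N).2).resolve_left (hcon t ht)
    haveI := Fintype.ofFinite T
    have hc3 : 1 < (Finset.univ.erase (1 : T)).card := by
      rw [card_erase_of_mem (mem_univ _), card_univ, ← Nat.card_eq_fintype_card, hT]
      norm_num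
    obtain ⟨t₁, h1, t₂, h2, h12⟩ := Finset.one_lt_card.1 hc3
    refine hcon (t₁ * t₂⁻¹) (fun e => h12 (mul_inv_eq_one.1 e)) fun r hr => ?_
    have e2 := hinv t₂ (ne_of_mem_erase h2) r⁻¹ (inv_mem hr)
    rw [inv_inv] at e2
    have e2' : ((t₂ : N) : G)⁻¹ * r * ((t₂ : N) : G) = r⁻¹ := by
      calc ((t₂ : N) : G)⁻¹ * r * ((t₂ : N) : G)
          = ((t₂ : N) : G)⁻¹ * (((t₂ : N) : G) * r⁻¹ * ((t₂ : N) : G)⁻¹) * ((t₂ : N) : G) := by
            rw [e2]
        _ = r⁻¹ := by group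
    simp only [Subgroup.coe_mul, Subgroup.coe_inv, mul_inv_rev, inv_inv]
    calc ((t₁ : N) : G) * ((t₂ : N) : G)⁻¹ * r * (((t₂ : N) : G) * ((t₁ : N) : G)⁻¹)
        = ((t₁ : N) : G) * (((t₂ : N) : G)⁻¹ * r * ((t₂ : N) : G)) * ((t₁ : N) : G)⁻¹ := by group
      _ = r := by rw [e2', hinv t₁ (ne_of_mem_erase h1) r⁻¹ (inv_mem hr), inv_inv]
  set n : G := ((t₀ : N) : G) with hn
  have h2n : 2 ∣ orderOf n := by
    have h4 : orderOf n ∣ 2 ^ 2 := by
      rw [hn, Subgroup.orderOf_coe, Subgroup.orderOf_coe]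
      exact (show Nat.card T = 2 ^ 2 by rw [hT]; norm_num) ▸ orderOf_dvd_natCard t₀
    obtain ⟨j, -, hj⟩ := (Nat.dvd_prime_pow Nat.prime_two).1 h4
    rw [hj]
    refine dvd_pow_self 2 ?_
    rintro rfl
    exact ht₀ (orderOf_eq_one_iff.1 (by
      rw [← Subgroup.orderOf_coe, ← Subgroup.orderOf_coe, ← hn, hj, pow_zero]))
  obtain ⟨a, ha⟩ := exists_prime_orderOf_dvd_card' (G := (R : Subgroup G)) 3
    (by rw [h9 R]; norm_num)
  rw [← Subgroup.orderOf_coe] at ha
  set t := n ^ (orderOf n / 2) with ht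
  have ht2 : orderOf t = 2 := orderOf_pow_orderOf_div (orderOf_pos n).ne' h2n
  have hta : Commute t (a : G) :=
    (show Commute n (a : G) from mul_inv_eq_iff_eq_mul.1 (hfix a a.2)).pow_left _
  exact ⟨t * a, by rw [hta.orderOf_mul_eq_mul_orderOf_of_coprime (by rw [ht2, ha]; norm_num),
    ht2, ha]⟩

/-- The prime five does not occur. -/
theorem five (hG : ¬ IsMulCommutative G)
    (hcase : Inversion (R : Subgroup G) ∨ ∃ A B, Split (R : Subgroup G) A B) {a : ℕ}
    (hcard : Nat.card G = 9 * 2 ^ a * 5) {ψ : IrrCharacter G} (hψ : Rat ψ 4) : False := by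
  have hdvd : (Nat.card G : ℤ) ∣ ∏ z ∈ Finset.Icc (-3 : ℤ) 3, (((4 : ℕ) : ℤ) - z) := by
    refine hψ.card_dvd_prod _ fun g hg => ?_
    obtain ⟨z, hz⟩ := hψ.exists_int g
    obtain ⟨h1, h2⟩ := hψ.abs_le hz
    have h3 := hψ.ne_deg hg hz
    have h4 := hψ.ne_neg_deg hG hg hz
    exact ⟨z, Finset.mem_Icc.2 ⟨by omega, by omega⟩, hz⟩
  rw [show (∏ z ∈ Finset.Icc (-3 : ℤ) 3, (((4 : ℕ) : ℤ) - z)) = ((5040 : ℕ) : ℤ) by decide,
    Int.natCast_dvd_natCast, hcard] at hdvd
  have ha : a ≤ 4 := by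
    by_contra hlt
    have : 2 ^ 5 * 45 ∣ 5040 := by
      refine dvd_trans ?_ hdvd
      rw [show 9 * 2 ^ a * 5 = 2 ^ a * 45 by ring]
      exact Nat.mul_dvd_mul_right (pow_dvd_pow 2 (by omega)) 45
    norm_num at this
  have h720 : Nat.card G ≤ 1092 := by
    rw [hcard]
    have : 2 ^ a ≤ 2 ^ 4 := Nat.pow_le_pow_right (by norm_num) ha
    omega
  have h360 : Nat.card G = 360 := by
    rcases S0496.result hG h720 with e | e | e | e | e | e <;> rw [e] at hcard ⊢ <;>
      first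
      | rfl
      | (exfalso; omega)
  obtain ⟨e⟩ := S0497.result h360
  obtain ⟨g, hg⟩ : ∃ g : G, orderOf g = 6 := by
    rcases hcase with h | ⟨A, B, h⟩
    · exact exists_six_inversion h360 h
    · exact exists_six_split h
  exact NineArith7.orderOf_ne_six (e g) (by rw [MulEquiv.orderOf_eq, hg])

/-! ### The prime seven -/

section Seven

variable (hG : ¬ IsMulCommutative G) {χ ψ : IrrCharacter G} (hχ : Rat χ 7)

include hG hχ

theorem seven_value {u : G} (hu : orderOf u = 7) : (χ : G → ℂ) u = 0 := by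
  rw [hχ.prime_order (by norm_num) (by norm_num) hu]
  simp

theorem seven_two {u y : G} (hu : orderOf u = 7) (hy : orderOf y = 2) (hc : Commute u y) :
    (χ : G → ℂ) y = ((-5 : ℤ) : ℂ) ∧ (χ : G → ℂ) (u * y) = ((2 : ℤ) : ℂ) := by
  set g := u * y with hg
  have hn : orderOf g = 14 := by
    rw [hc.orderOf_mul_eq_mul_orderOf_of_coprime (by rw [hu, hy]; norm_num), hu, hy]
  have h7 : g ^ 7 = y := by
    rw [hg, hc.mul_pow, ← hu, pow_orderOf_eq_one, one_mul, hu, ← pow_mod_orderOf, hy]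
    norm_num
  have h2 : orderOf (g ^ 2) = 7 := by rw [orderOf_pow_of_dvd (by norm_num) (by rw [hn]; norm_num), hn]
  obtain ⟨s, hs⟩ := hχ.exists_int g
  obtain ⟨t, ht⟩ := hχ.exists_int y
  set c : ℕ → ℤ := fun i => if i = 1 then s else if i = 2 then -s else if i = 7 then t - s
    else 7 - t + s with hc
  have hd : (14 : ℕ).divisors = {1, 2, 7, 14} := by decide
  have hc' : ∀ k ∈ (14 : ℕ).divisors, (χ : G → ℂ) (g ^ k) = ((∑ i ∈ k.divisors, c i : ℤ) : ℂ) := by
    intro k hk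
    rw [hd] at hk
    simp only [mem_insert, mem_singleton] at hk
    rcases hk with rfl | rfl | rfl | rfl
    · simp [hc, hs]
    · rw [seven_value hG hχ h2, show (2 : ℕ).divisors = {1, 2} by decide]
      simp [hc]
    · rw [h7, ht, show (7 : ℕ).divisors = {1, 7} by decide]
      simp [hc]
    · rw [← hn, pow_orderOf_eq_one, hχ.deg, hn, hd]
      simp [hc]
  obtain ⟨N₀, e₀⟩ := hχ.mult_eq g hn (one_dvd 14) c hc'
  obtain ⟨N₁, e₁⟩ := hχ.mult_eq g hn (show 2 ∣ 14 by norm_num) c hc'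
  obtain ⟨N₂, e₂⟩ := hχ.mult_eq g hn (show 7 ∣ 14 by norm_num) c hc'
  obtain ⟨N₃, e₃⟩ := hχ.mult_eq g hn dvd_rfl c hc'
  rw [hd] at e₀ e₁ e₂ e₃
  simp [hc] at e₀ e₁ e₂ e₃
  have hy1 : y ≠ 1 := fun e => by rw [e, orderOf_one] at hy; norm_num at hy
  have h4 := hχ.involution hG hy ht
  have hne := hχ.ne_deg hy1 ht
  have hne' := hχ.ne_neg_deg hG hy1 ht
  push_cast at h4 hne hne'
  have : t = -5 ∧ s = 2 := by omega
  rw [ht, hs, this.1, this.2]
  exact ⟨rfl, rfl⟩

theorem seven_three {u y : G} (hu : orderOf u = 7) (hc : Commute u y) : orderOf y ≠ 3 := by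
  intro hy
  set g := u * y with hg
  have hn : orderOf g = 21 := by
    rw [hc.orderOf_mul_eq_mul_orderOf_of_coprime (by rw [hu, hy]; norm_num), hu, hy]
  have h7 : g ^ 7 = y := by
    rw [hg, hc.mul_pow, ← hu, pow_orderOf_eq_one, one_mul, hu, ← pow_mod_orderOf, hy]
    norm_num
  have h3 : orderOf (g ^ 3) = 7 := by rw [orderOf_pow_of_dvd (by norm_num) (by rw [hn]; norm_num), hn]
  obtain ⟨s, hs⟩ := hχ.exists_int g
  obtain ⟨t, ht⟩ := hχ.exists_int y
  set c : ℕ → ℤ := fun i => if i = 1 then s else if i = 3 then -s else if i = 7 then t - s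
    else 7 - t + s with hc
  have hd : (21 : ℕ).divisors = {1, 3, 7, 21} := by decide
  have hc' : ∀ k ∈ (21 : ℕ).divisors, (χ : G → ℂ) (g ^ k) = ((∑ i ∈ k.divisors, c i : ℤ) : ℂ) := by
    intro k hk
    rw [hd] at hk
    simp only [mem_insert, mem_singleton] at hk
    rcases hk with rfl | rfl | rfl | rfl
    · simp [hc, hs]
    · rw [seven_value hG hχ h3, show (3 : ℕ).divisors = {1, 3} by decide]
      simp [hc]
    · rw [h7, ht, show (7 : ℕ).divisors = {1, 7} by decide]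
      simp [hc]
    · rw [← hn, pow_orderOf_eq_one, hχ.deg, hn, hd]
      simp [hc]
  obtain ⟨N₀, e₀⟩ := hχ.mult_eq g hn (one_dvd 21) c hc'
  obtain ⟨N₁, e₁⟩ := hχ.mult_eq g hn (show 3 ∣ 21 by norm_num) c hc'
  obtain ⟨N₂, e₂⟩ := hχ.mult_eq g hn (show 7 ∣ 21 by norm_num) c hc'
  obtain ⟨N₃, e₃⟩ := hχ.mult_eq g hn dvd_rfl c hc'
  rw [hd] at e₀ e₁ e₂ e₃
  simp [hc] at e₀ e₁ e₂ e₃
  have hne := hχ.ne_deg (fun e => by rw [e, orderOf_one] at hy; norm_num at hy) ht
  push_cast at hne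
  omega

theorem seven_four {u y : G} (hu : orderOf u = 7) (hc : Commute u y) : orderOf y ≠ 4 := by
  intro hy
  set g := u * y with hg
  have hn : orderOf g = 28 := by
    rw [hc.orderOf_mul_eq_mul_orderOf_of_coprime (by rw [hu, hy]; norm_num), hu, hy]
  have hy2 : orderOf (y ^ 2) = 2 := by
    rw [orderOf_pow_of_dvd (by norm_num) (by rw [hy]; norm_num), hy]
  have hu2 : orderOf (u ^ 2) = 7 := by
    rw [Nat.Coprime.orderOf_pow (by rw [hu]; norm_num), hu]
  obtain ⟨ht, hs'⟩ := seven_two hG hχ hu2 hy2 (hc.pow_pow 2 2)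
  have h14 : g ^ 14 = y ^ 2 := by
    rw [hg, hc.mul_pow, show (14 : ℕ) = 7 * 2 from rfl, pow_mul, ← hu, pow_orderOf_eq_one,
      one_pow, one_mul, hu, ← pow_mod_orderOf, hy]
  have h4 : orderOf (g ^ 4) = 7 := by rw [orderOf_pow_of_dvd (by norm_num) (by rw [hn]; norm_num), hn]
  have h2 : g ^ 2 = u ^ 2 * y ^ 2 := hc.mul_pow 2
  obtain ⟨s, hs⟩ := hχ.exists_int g
  obtain ⟨A, hA⟩ := hχ.exists_int (g ^ 7)
  set c : ℕ → ℤ := fun i => if i = 1 then s else if i = 2 then 2 - s else if i = 4 then -2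
    else if i = 7 then A - s else if i = 14 then -7 - A + s else 14 with hc
  have hd : (28 : ℕ).divisors = {1, 2, 4, 7, 14, 28} := by decide
  have hc' : ∀ k ∈ (28 : ℕ).divisors, (χ : G → ℂ) (g ^ k) = ((∑ i ∈ k.divisors, c i : ℤ) : ℂ) := by
    intro k hk
    rw [hd] at hk
    simp only [mem_insert, mem_singleton] at hk
    rcases hk with rfl | rfl | rfl | rfl | rfl | rfl
    · simp [hc, hs]
    · rw [h2, hs', show (2 : ℕ).divisors = {1, 2} by decide]
      simp [hc]
    · rw [seven_value hG hχ h4, show (4 : ℕ).divisors = {1, 2, 4} by decide]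
      simp [hc]
      ring
    · rw [hA, show (7 : ℕ).divisors = {1, 7} by decide]
      simp [hc]
    · rw [h14, ht, show (14 : ℕ).divisors = {1, 2, 7, 14} by decide]
      simp [hc]
      ring
    · rw [← hn, pow_orderOf_eq_one, hχ.deg, hn, hd]
      simp [hc]
      ring
  obtain ⟨N, e⟩ := hχ.mult_eq g hn dvd_rfl c hc'
  rw [hd] at e
  simp [hc] at e
  omega

theorem seven (h9 : Nat.card (R : Subgroup G) = 9) (hψ : Rat ψ 8) (hne : ψ ≠ triv)
    (hne' : χ ≠ triv) (hreg : ∀ g, pp R g = 1 → (ψ : G → ℂ) g = 1 + (χ : G → ℂ) g) {a : ℕ}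
    (ha : 3 ≤ a) (hcard : Nat.card G = 9 * 2 ^ a * 7) : a = 3 := by
  haveI : Fact (Nat.Prime 7) := ⟨by norm_num⟩
  haveI : Fact (Nat.Prime 2) := ⟨Nat.prime_two⟩
  obtain ⟨P⟩ : Nonempty (Sylow 7 G) := inferInstance
  have hn7 : Nat.card G = 7 ^ 1 * (9 * 2 ^ a) := by rw [hcard]; ring
  have hm7 : ¬ 7 ∣ 9 * 2 ^ a := by
    intro hd
    rcases (Nat.Prime.dvd_mul (by norm_num)).1 hd with h | h
    · norm_num at h
    · have := (show Nat.Prime 7 by norm_num).dvd_of_dvd_pow h
      norm_num at this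
  have hP : Nat.card (P : Subgroup G) = 7 := by
    rw [SimpleOrder.sylow_card_of_eq hn7 hm7 P, pow_one]
  obtain ⟨u₀, hu₀⟩ := exists_prime_orderOf_dvd_card' (G := (P : Subgroup G)) 7 (dvd_of_eq hP.symm)
  rw [← Subgroup.orderOf_coe] at hu₀
  set u : G := (u₀ : G) with hudef
  set C := Subgroup.centralizer ({u} : Set G) with hC
  have hcomm : ∀ y ∈ C, Commute u y := fun y hy => (Subgroup.mem_centralizer_singleton_iff.1 hy).symm
  have hC3 : ¬ 3 ∣ Nat.card C := by
    intro hd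
    obtain ⟨y, hy⟩ := exists_prime_orderOf_dvd_card' (G := C) 3 hd
    exact seven_three hG hχ hu₀ (hcomm y y.2) (by rw [Subgroup.orderOf_coe, hy])
  have hCd : Nat.card C ∣ 2 ^ a * 7 := by
    have hco : Nat.Coprime (Nat.card C) 9 := by
      have := ((Nat.Prime.coprime_iff_not_dvd Nat.prime_three).2 hC3).symm.pow_right 2
      simpa using this
    refine hco.dvd_of_dvd_mul_left ?_
    rw [← mul_assoc, ← hcard]
    exact C.card_subgroup_dvd_card
  obtain ⟨v, w, hv, hw, hCvw⟩ := Nat.dvd_mul.1 hCd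
  obtain ⟨x, hx, rfl⟩ := (Nat.dvd_prime_pow Nat.prime_two).1 hv
  have hu7 : 7 ∣ Nat.card C :=
    hu₀ ▸ Subgroup.orderOf_dvd_natCard C (Subgroup.mem_centralizer_singleton_iff.2 rfl)
  have hw7 : w = 7 := by
    rcases (Nat.dvd_prime (show Nat.Prime 7 by norm_num)).1 hw with rfl | rfl
    · rw [mul_one] at hCvw
      rw [← hCvw] at hu7
      have := (show Nat.Prime 7 by norm_num).dvd_of_dvd_pow hu7
      norm_num at this
    · rfl
  subst hw7
  -- the two part of the centralizer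
  obtain ⟨T, hT⟩ := Sylow.exists_subgroup_card_pow_prime 2 (G := C) (n := x) (hCvw ▸ dvd_mul_right _ _)
  have hT2 : ∀ y : T, y ≠ 1 → orderOf ((y : C) : G) = 2 := by
    intro y hy
    obtain ⟨j, -, hj⟩ := (Nat.dvd_prime_pow Nat.prime_two).1 (hT ▸ orderOf_dvd_natCard y)
    rw [Subgroup.orderOf_coe, Subgroup.orderOf_coe, hj]
    rcases j with - | - | j
    · exact absurd (orderOf_eq_one_iff.1 (by rw [hj, pow_zero])) hy
    · rfl
    · exfalso
      refine seven_four hG hχ hu₀ ((hcomm _ (y : C).2).pow_right (2 ^ j)) ?_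
      rw [orderOf_pow_of_dvd (pow_ne_zero _ two_ne_zero) ?_, Subgroup.orderOf_coe,
        Subgroup.orderOf_coe, hj, show j + 1 + 1 = 2 + j by omega, pow_add,
        Nat.mul_div_cancel _ (pow_pos two_pos _)]
      · norm_num
      · rw [Subgroup.orderOf_coe, Subgroup.orderOf_coe, hj]
        exact pow_dvd_pow 2 (by omega)
  have hx1 : x ≤ 1 := by
    haveI := Fintype.ofFinite (T.map C.subtype)
    have hTc : Nat.card (T.map C.subtype) = 2 ^ x :=
      (Nat.card_congr (T.equivMapOfInjective _ C.subtype_injective).toEquiv).symm.trans hT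
    obtain ⟨N, hN⟩ := hχ.sum_subgroup (T.map C.subtype)
    rw [← Finset.add_sum_erase _ _ (Finset.mem_univ (1 : T.map C.subtype)), OneMemClass.coe_one,
      hχ.deg, Finset.sum_congr rfl (g := fun _ => ((-5 : ℤ) : ℂ)) (fun y hy => ?_), sum_const,
      card_erase_of_mem (mem_univ _), card_univ, ← Nat.card_eq_fintype_card, hTc, nsmul_eq_mul,
      Nat.cast_sub (Nat.one_le_pow _ _ two_pos)] at hN
    · have hN' : (7 : ℤ) + ((2 : ℤ) ^ x - 1) * (-5) = (2 : ℤ) ^ x * N := by
        refine Int.cast_injective (α := ℂ) ?_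
        push_cast
        push_cast at hN
        linear_combination hN
      by_contra hlt
      have h4 : (4 : ℤ) ≤ (2 : ℤ) ^ x := by
        calc (4 : ℤ) = 2 ^ 2 := by norm_num
          _ ≤ 2 ^ x := pow_le_pow_right₀ (by norm_num) (by omega)
      have hnn : (0 : ℤ) ≤ (2 : ℤ) ^ x * N := by positivity
      linarith
    · obtain ⟨z, hzT, hz⟩ := y.2
      have hz1 : (⟨z, hzT⟩ : T) ≠ 1 := fun e => by
        refine ne_of_mem_erase hy (Subtype.ext ?_)
        rw [← hz, show z = 1 from congrArg Subtype.val e]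
        rfl
      have ho := hT2 ⟨z, hzT⟩ hz1
      rw [← hz]
      exact (seven_two hG hχ hu₀ ho (hcomm _ z.2)).1
  have hindex : (R : Subgroup G).index = 2 ^ a * 7 := by
    have h := (R : Subgroup G).card_mul_index
    rw [h9, hcard, mul_assoc] at h
    exact Nat.eq_of_mul_eq_mul_left (by norm_num) h
  -- the centralizer has order seven
  have hx0 : x = 0 := by
    by_contra hx0
    obtain rfl : x = 1 := by omega
    obtain ⟨y, hy⟩ := exists_prime_orderOf_dvd_card' (G := C) 2 (hCvw ▸ by norm_num)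
    rw [← Subgroup.orderOf_coe] at hy
    obtain ⟨hvy, hvg⟩ := seven_two hG hχ hu₀ hy (hcomm y y.2)
    set g := u * (y : G) with hg
    have hgo : orderOf g = 14 := by
      rw [(hcomm y y.2).orderOf_mul_eq_mul_orderOf_of_coprime (by rw [hu₀, hy]; norm_num), hu₀, hy]
    have hψg : (ψ : G → ℂ) g = 3 := by
      rw [hreg g (pp_eq_one R (by
        rw [hindex, hgo, show 14 = 2 ^ 1 * 7 by norm_num]
        exact Nat.mul_dvd_mul_right (pow_dvd_pow 2 (by omega)) 7)), hvg]
      norm_num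
    have hCg : Nat.card (Subgroup.centralizer ({g} : Set G)) ≤ 14 := by
      have hle : Subgroup.centralizer ({g} : Set G) ≤ C := by
        intro z hz
        have h8 : g ^ 8 = u := by
          rw [hg, (hcomm y y.2).mul_pow, ← pow_mod_orderOf u, hu₀, ← pow_mod_orderOf (y : G), hy]
          norm_num
        rw [hC, Subgroup.mem_centralizer_singleton_iff, ← h8]
        exact ((show Commute z g from Subgroup.mem_centralizer_singleton_iff.1 hz).pow_right 8).eq
      have := Nat.le_of_dvd Nat.card_pos (Subgroup.card_dvd_of_le hle)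
      rw [← hCvw] at this
      exact this.trans (le_of_eq (by norm_num))
    have hsum := sum_irr_mul_conj g g
    rw [if_pos (IsConj.refl g)] at hsum
    have hnorm : ∑ φ : IrrCharacter G, ‖(φ : G → ℂ) g‖ ^ 2 =
        (Nat.card (Subgroup.centralizer ({g} : Set G)) : ℝ) := by
      have : ((∑ φ : IrrCharacter G, ‖(φ : G → ℂ) g‖ ^ 2 : ℝ) : ℂ) =
          (((Nat.card (Subgroup.centralizer ({g} : Set G)) : ℝ)) : ℂ) := by
        rw [Complex.ofReal_sum, Complex.ofReal_natCast, ← hsum]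
        exact Finset.sum_congr rfl fun φ _ => by rw [Complex.mul_conj']; push_cast; rfl
      exact_mod_cast this
    have hcp : χ ≠ ψ := fun e => by
      have := hχ.deg
      rw [e, hψ.deg] at this
      norm_num at this
    have h14 : ∑ φ ∈ ({triv, χ, ψ} : Finset (IrrCharacter G)), ‖(φ : G → ℂ) g‖ ^ 2 = 14 := by
      rw [Finset.sum_insert (by simp [hne.symm, hne'.symm]), Finset.sum_pair hcp, hvg, hψg]
      norm_num [triv]
    have hzero : ∀ φ : IrrCharacter G, φ ∉ ({triv, χ, ψ} : Finset (IrrCharacter G)) →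
        (φ : G → ℂ) g = 0 := by
      intro φ hφ
      have h1 : ∑ φ' ∈ insert φ ({triv, χ, ψ} : Finset (IrrCharacter G)), ‖(φ' : G → ℂ) g‖ ^ 2 ≤
          ∑ φ' : IrrCharacter G, ‖(φ' : G → ℂ) g‖ ^ 2 :=
        Finset.sum_le_sum_of_subset_of_nonneg (Finset.subset_univ _) fun _ _ _ => by positivity
      rw [Finset.sum_insert hφ, h14, hnorm] at h1
      have h2 : (Nat.card (Subgroup.centralizer ({g} : Set G)) : ℝ) ≤ 14 := by exact_mod_cast hCg
      have h3 : ‖(φ : G → ℂ) g‖ ^ 2 = 0 := le_antisymm (by linarith) (by positivity)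
      exact norm_eq_zero.1 (pow_eq_zero_iff two_ne_zero |>.1 h3)
    have horth := sum_irr_mul_conj g 1
    rw [if_neg (fun e => by
      have h0 := isConj_one_right.1 e.symm
      rw [h0, orderOf_one] at hgo
      norm_num at hgo)] at horth
    rw [← Finset.sum_subset (Finset.subset_univ ({triv, χ, ψ} : Finset (IrrCharacter G)))
      (fun φ _ hφ => by rw [hzero φ hφ, zero_mul]),
      Finset.sum_insert (by simp [hne.symm, hne'.symm]), Finset.sum_pair hcp, hvg, hψg, hχ.deg,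
      hψ.deg] at horth
    norm_num [triv, Complex.conj_ofNat] at horth
  subst hx0
  rw [pow_zero, one_mul] at hCvw
  -- the normalizer
  obtain ⟨e, he1, he, hNe, hC7⟩ := SimpleOrder.exists_card_normalizer_eq hG P hP
  have hCP : Nat.card (Subgroup.centralizer ((P : Subgroup G) : Set G)) = 7 := by
    refine le_antisymm ?_ (Nat.le_of_dvd Nat.card_pos hC7)
    exact (Nat.le_of_dvd Nat.card_pos (Subgroup.card_dvd_of_le
      (Subgroup.centralizer_le (Set.singleton_subset_iff.2 u₀.2)))).trans hCvw.symm.le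
  set n := Nat.card (Sylow 7 G) with hn
  have hNn : Nat.card (Subgroup.normalizer ((P : Subgroup G) : Set G)) * n = Nat.card G := by
    rw [hn, P.card_eq_index_normalizer]
    exact Subgroup.card_mul_index _
  rw [← hNe, hCP, hcard] at hNn
  have hen : e * n = 9 * 2 ^ a :=
    Nat.eq_of_mul_eq_mul_left (show 0 < 7 by norm_num) (by linarith)
  have hn1 : n % 7 = 1 := card_sylow_modEq_one 7 G
  obtain ⟨rfl, ha3⟩ := NineArith7.seven_index he (by omega) hen hn1
  by_contra ha'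
  have ha6 : 6 ≤ a := by omega
  -- a central involution of a Sylow 2-subgroup
  obtain ⟨S⟩ : Nonempty (Sylow 2 G) := inferInstance
  have hS : Nat.card (S : Subgroup G) = 2 ^ a :=
    SimpleOrder.sylow_card_of_eq (m := 63) (by rw [hcard]; ring) (by norm_num) S
  haveI : Nontrivial (S : Subgroup G) := Finite.one_lt_card_iff_nontrivial.1 (by
    rw [hS]; exact Nat.one_lt_pow (by omega) (by norm_num))
  haveI := S.isPGroup'.center_nontrivial
  obtain ⟨k, hk0, hk⟩ :=
    (S.isPGroup'.to_subgroup (Subgroup.center (S : Subgroup G))).nontrivial_iff_card.1 inferInstance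
  obtain ⟨w, hw⟩ := exists_prime_orderOf_dvd_card' (G := Subgroup.center (S : Subgroup G)) 2
    (hk ▸ dvd_pow_self 2 (by omega))
  have hw' : orderOf ((w : (S : Subgroup G)) : G) = 2 := by
    rw [Subgroup.orderOf_coe, Subgroup.orderOf_coe, hw]
  have hle : (S : Subgroup G) ≤ Subgroup.centralizer ({((w : (S : Subgroup G)) : G)} : Set G) := by
    intro z hz
    rw [Subgroup.mem_centralizer_singleton_iff]
    exact congrArg Subtype.val (Subgroup.mem_center_iff.1 w.2 ⟨z, hz⟩)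
  have hcw := Nat.le_of_dvd Nat.card_pos (Subgroup.card_dvd_of_le hle)
  rw [hS] at hcw
  refine DihedralBound81.false_of_dihedral_bound hG (p := 7) (by norm_num) P hP
    (by rw [← hNe, hCP]) hCP hw' ?_
  rw [hcard]
  calc 4 * (9 * 2 ^ a * 7) = 7 * (36 * 2 ^ a) := by ring
    _ ≤ 7 * (2 ^ a * 2 ^ a) := by
        have h36 : 36 ≤ 2 ^ a :=
          (show 36 ≤ 2 ^ 6 by norm_num).trans (Nat.pow_le_pow_right (by norm_num) ha6)
        exact Nat.mul_le_mul_left 7 (Nat.mul_le_mul_right _ h36)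
    _ ≤ _ := by
        rw [pow_two]
        exact Nat.mul_le_mul_left 7 (Nat.mul_le_mul hcw hcw)

end Seven

end Cfsg.Agent.NineQ7
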