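import Mathlib
import Cfsg.Agent.Lib.NinePure31

/-!
# The tensor case
-/

set_option autoImplicit false
set_option linter.style.haveILetI false
set_option maxRecDepth 100000
set_option synthInstance.maxSize 2000

namespace Cfsg.Agent.NineSetup31

open Subgroup Cfsg.Agent.LargeExtraspecial Cfsg.Agent.LargeExtraspecialAct
  Cfsg.Agent.SixSymplModel31 Cfsg.Agent.SixModule31

variable {G : Type*} [Group G] [Finite G] {Q : Subgroup G} {z : G}

namespace Ctx

variable (X : Ctx Q z)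
include X

/-- The sign, transported to the centraliser of a conjugate of `z`. -/
def val (g : G) : ↥(centralizer ({g * z * g⁻¹} : Set G)) →* ℤˣ :=
  X.sgn.comp (((MulAut.conj g⁻¹).toMonoidHom.comp
    (centralizer ({g * z * g⁻¹} : Set G)).subtype).codRestrict (centralizer ({z} : Set G))
      fun w => by simpa using X.conj_comm.mpr (mem_centralizer_singleton_iff.mp w.2))

theorem val_eq {g w : G} (hw : w ∈ centralizer ({g * z * g⁻¹} : Set G))
    (h : g⁻¹ * w * g ∈ centralizer ({z} : Set G)) : X.val g ⟨w, hw⟩ = X.sgn ⟨_, h⟩ := by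
  show X.sgn _ = _
  congr 1
  apply Subtype.ext
  simp

end Ctx

namespace CoT

variable {X : Ctx Q z} (T : CoT X)
include T

/-- The lift of the transposition. -/
theorem exists_x : ∃ (x : G) (hxH : x ∈ centralizer ({z} : Set G)),
    X.π ⟨x, hxH⟩ = (t3, 1) ∧ T.π ⟨x, hxH⟩ = (t3, 1) ∧ (x ^ 2 = 1 ∨ x ^ 2 = z) ∧
      (∀ r, r ∈ Q ⊓ centralizer ({x} : Set G) ↔ r ∈ Q ∧ (T.ν r).2 = 0) ∧
      ∀ σ ∈ gens6, ∃ k : ↥(centralizer ({z} : Set G)), T.π k = (1, σ) ∧ (k : G) * x = x * k := by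
  classical
  obtain ⟨ω, hω, hω3⟩ := X.exists_three
  have hωT : T.π ω = (c3, 1) := Prod.ext (by rw [T.fst, hω]) (T.snd_one ω (by rw [hω]))
  have hfix : ∀ a ∈ Q, a * ω = ω * a → a = 1 ∨ a = z := by
    intro a ha e
    have h1 := T.act ω a ha
    rw [← e, mul_inv_cancel_right, hωT, actT_c3'] at h1
    refine (T.kerν a ha).mp ?_
    generalize T.ν a = v at h1 ⊢
    obtain ⟨p, q⟩ := v
    simp only [Prod.mk.injEq] at h1
    obtain ⟨rfl, h2⟩ := h1
    rw [SixSymplModel31.add_self] at h2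
    subst h2
    rfl
  obtain ⟨⟨x, hxH⟩, hπ, hxω⟩ := X.exists_norm hω hω3 t3 X.H.one_mem
  rw [if_neg (by decide)] at hxω
  simp only at hxω
  have hπT : T.π ⟨x, hxH⟩ = (t3, 1) := Prod.ext (by rw [T.fst, hπ]) (T.snd_one _ (by rw [hπ]))
  have hxz := X.mem_cent.mp hxH
  have hx2 : x ^ 2 = 1 ∨ x ^ 2 = z := by
    rw [pow_two]
    refine hfix _ ((X.ker (⟨x, hxH⟩ * ⟨x, hxH⟩)).mp (by rw [map_mul, hπ]; decide)) ?_
    apply mul_inv_eq_iff_eq_mul.mp
    calc x * x * (ω : G) * (x * x)⁻¹ = x * (x * ω * x⁻¹) * x⁻¹ := by group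
      _ = x * (ω : G)⁻¹ * x⁻¹ := by rw [hxω]
      _ = (x * ω * x⁻¹)⁻¹ := by group
      _ = ω := by rw [hxω, inv_inv]
  have hlifts : ∀ σ ∈ gens6, ∃ k : ↥(centralizer ({z} : Set G)),
      T.π k = (1, σ) ∧ (k : G) * x = x * k := by
    intro σ hσ
    obtain ⟨n, hn, hσn⟩ : ∃ n : ℕ, Odd n ∧ σ ^ n = 1 := by
      rcases gens6_order σ hσ with e | e
      exacts [⟨3, by decide, e⟩, ⟨5, by decide, e⟩]
    obtain ⟨h, hh, hsnd, hpow⟩ := T.lift σ (gens6_even σ hσ)
    obtain ⟨k0, hk0, hk0ω⟩ := X.exists_norm hω hω3 1 hh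
    rw [if_pos (map_one _)] at hk0ω
    obtain ⟨j, hj, hjn⟩ := X.lift_odd (p := (1, h)) hh hn
      (by rw [Prod.pow_mk, one_pow, hpow n hσn]; rfl) k0 hk0
    refine ⟨k0 ^ j, Prod.ext (by rw [T.fst, hj]) (hsnd _ (by rw [hj])), ?_⟩
    rw [coe_pow]
    set k := (k0 : G) ^ j with hk
    have hkω : Commute k (ω : G) := (show Commute (k0 : G) ω from mul_inv_eq_iff_eq_mul.mp hk0ω).pow_left j
    have hkz : Commute k z := (show Commute (k0 : G) z from mem_centralizer_singleton_iff.mp k0.2).pow_left j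
    have hkH : k ∈ centralizer ({z} : Set G) := mem_centralizer_singleton_iff.mpr hkz
    have hkπ : X.π ⟨k, hkH⟩ = (1, h) := by
      rw [← hj]; rfl
    have hc : x⁻¹ * (k * x * k⁻¹) ∈ Q := by
      refine (X.ker (⟨x, hxH⟩⁻¹ * (⟨k, hkH⟩ * ⟨x, hxH⟩ * ⟨k, hkH⟩⁻¹))).mp ?_
      rw [map_mul, map_mul, map_mul, map_inv, map_inv, hkπ, hπ]
      ext1 <;> simp
    have hcω : x⁻¹ * (k * x * k⁻¹) * ω = ω * (x⁻¹ * (k * x * k⁻¹)) := by
      apply mul_inv_eq_iff_eq_mul.mp
      have e1 : k⁻¹ * (ω : G) * k = ω := by rw [mul_assoc, ← hkω.eq, inv_mul_cancel_left]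
      calc x⁻¹ * (k * x * k⁻¹) * ω * (x⁻¹ * (k * x * k⁻¹))⁻¹ =
            x⁻¹ * (k * (x * (k⁻¹ * ω * k) * x⁻¹) * k⁻¹) * x := by group
        _ = x⁻¹ * (k * (ω : G)⁻¹ * k⁻¹) * x := by rw [e1, hxω]
        _ = x⁻¹ * (x * ω * x⁻¹) * x := by rw [hkω.inv_right.eq, mul_inv_cancel_right, hxω]
        _ = ω := by group
    rcases hfix _ hc hcω with e | e
    · exact mul_inv_eq_iff_eq_mul.mp (inv_mul_eq_one.mp e).symm
    · exfalso
      have e' : k * x * k⁻¹ = x * z := by rw [← e, mul_inv_cancel_left]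
      have hpk : ∀ i, k ^ i * x * (k ^ i)⁻¹ = x * z ^ i := by
        intro i
        induction i with
        | zero => simp
        | succ i ih =>
          calc k ^ (i + 1) * x * (k ^ (i + 1))⁻¹ = k * (k ^ i * x * (k ^ i)⁻¹) * k⁻¹ := by
                rw [pow_succ']; group
            _ = (k * x * k⁻¹) * (k * z ^ i * k⁻¹) := by rw [ih]; group
            _ = x * z ^ (i + 1) := by
              rw [e', (hkz.pow_right i).eq, mul_inv_cancel_right, pow_succ', mul_assoc]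
      have := hpk n
      rw [hjn, one_mul, inv_one, mul_one] at this
      obtain ⟨m, rfl⟩ := hn
      rw [pow_succ, pow_mul, pow_two, X.h.zz, one_pow, one_mul] at this
      exact X.h.ne_one (mul_eq_left.mp this.symm)
  refine ⟨x, hxH, hπ, hπT, hx2, fun r => ⟨fun hr => ⟨hr.1, ?_⟩, fun hr => ?_⟩, hlifts⟩
  · have h1 := T.act ⟨x, hxH⟩ r hr.1
    rw [hπT, actT_t3'] at h1
    change T.ν (x * r * x⁻¹) = _ at h1
    rw [← mem_centralizer_singleton_iff.mp hr.2, mul_inv_cancel_right] at h1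
    exact left_eq_add.mp (congrArg Prod.fst h1)
  obtain ⟨hrQ, hr2⟩ := hr
  refine ⟨hrQ, mem_centralizer_singleton_iff.mpr ?_⟩
  choose s hs1 hs2 using T.surj
  have hcases : ∀ a ∈ Q, (T.ν a).2 = 0 → x * a * x⁻¹ = a ∨ x * a * x⁻¹ = z * a := by
    intro a ha ha2
    have h1 := T.act ⟨x, hxH⟩ a ha
    rw [hπT, actT_t3', ha2, add_zero] at h1
    exact T.same (X.norm ⟨x, hxH⟩ ha) ha (h1.trans (Prod.ext rfl ha2.symm))
  let L : W4 → ZMod 2 := fun a => if x * s (a, 0) * x⁻¹ = s (a, 0) then 0 else 1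
  have hL : ∀ a ∈ Q, (T.ν a).2 = 0 → x * a * x⁻¹ = zp z (L (T.ν a).1) * a := by
    intro a ha ha2
    have hsame := T.same ha (hs1 ((T.ν a).1, 0)) (by rw [hs2]; exact Prod.ext rfl ha2)
    have hstd : x * s ((T.ν a).1, 0) * x⁻¹ = zp z (L (T.ν a).1) * s ((T.ν a).1, 0) := by
      rcases hcases _ (hs1 ((T.ν a).1, 0)) (by rw [hs2]) with e | e
      · simp only [L, if_pos e, zp_zero, one_mul]; exact e
      · simp only [L]
        rw [if_neg (fun e' => X.h.z_mul_ne _ (e.symm.trans e')), zp_one, e]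
    generalize s ((T.ν a).1, 0) = s' at hsame hstd
    generalize L (T.ν a).1 = i at hstd ⊢
    rcases hsame with rfl | rfl
    · exact hstd
    · calc x * (z * s') * x⁻¹ = z * (x * s' * x⁻¹) := by rw [← mul_assoc x, hxz]; group
        _ = _ := by
          rw [hstd]
          rcases SixSymplModel31.two_eq i with w | w <;> rw [w] <;> simp [zp_zero, zp_one]
  have hLadd : ∀ a b, L (a + b) = L a + L b := by
    intro a b
    have h1 := hL _ (Q.mul_mem (hs1 (a, 0)) (hs1 (b, 0))) (by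
      rw [T.add _ (hs1 _) _ (hs1 _), hs2, hs2]; simp)
    rw [T.add _ (hs1 _) _ (hs1 _), hs2, hs2] at h1
    have h2 := hL _ (hs1 (a, 0)) (by rw [hs2])
    have h3 := hL _ (hs1 (b, 0)) (by rw [hs2])
    rw [hs2] at h2 h3
    simp only [Prod.mk_add_mk] at h1 h2 h3
    apply zp_inj X.h.ne_one
    apply mul_right_cancel (b := s (a, 0) * s (b, 0))
    rw [← h1, zp_add X.h.zz]
    calc x * (s (a, 0) * s (b, 0)) * x⁻¹ = (x * s (a, 0) * x⁻¹) * (x * s (b, 0) * x⁻¹) := by group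
      _ = _ := by
        rw [h2, h3]
        refine Commute.mul_mul_mul_comm ?_ _ _
        rcases SixSymplModel31.two_eq (L b) with e | e <;> rw [e]
        · rw [zp_zero]; exact Commute.one_right _
        · rw [zp_one]; exact X.h.comm _ (hs1 _)
  have hLinv : ∀ g ∈ gens6, ∀ a, L (SixSymplModel31.act g a) = L a := by
    intro g hg a
    obtain ⟨k, hk, hkx⟩ := hlifts g hg
    have hkQ := X.norm k (hs1 (a, 0))
    have hν : T.ν ((k : G) * s (a, 0) * (k : G)⁻¹) = (SixSymplModel31.act g a, 0) := by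
      rw [T.act k _ (hs1 _), hk, hs2, actT_one', act_zero]
    have h1 := hL _ hkQ (by rw [hν])
    rw [hν] at h1
    have h2 := hL _ (hs1 (a, 0)) (by rw [hs2])
    rw [hs2] at h2
    apply zp_inj X.h.ne_one
    apply mul_right_cancel (b := (k : G) * s (a, 0) * (k : G)⁻¹)
    rw [← h1]
    have hkz : Commute (k : G) z := mem_centralizer_singleton_iff.mp k.2
    have hxk : Commute x (k : G) := hkx.symm
    calc x * ((k : G) * s (a, 0) * (k : G)⁻¹) * x⁻¹ =
          (x * k) * s (a, 0) * ((x * k)⁻¹) := by group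
      _ = (k : G) * (x * s (a, 0) * x⁻¹) * (k : G)⁻¹ := by rw [hxk.eq]; group
      _ = _ := by
        rw [h2]
        rcases SixSymplModel31.two_eq (L a) with e | e <;> rw [e]
        · simp [zp_zero]
        · rw [zp_one, ← mul_assoc (k : G), hkz.eq]; group
  have := hL r hrQ hr2
  rw [invariant_linear hLadd hLinv, zp_zero, one_mul] at this
  exact (mul_inv_eq_iff_eq_mul.mp this).symm

/-- The sign vanishes on the elementary group below a conjugate of `z` over the transposition. -/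
theorem val_U {x g : G} (hxH : x ∈ centralizer ({z} : Set G)) (hπT : T.π ⟨x, hxH⟩ = (t3, 1))
    (hU : ∀ r, r ∈ Q ⊓ centralizer ({x} : Set G) ↔ r ∈ Q ∧ (T.ν r).2 = 0)
    (hk : ∀ σ ∈ gens6, ∃ k : ↥(centralizer ({z} : Set G)), T.π k = (1, σ) ∧ (k : G) * x = x * k)
    (hg : g * z * g⁻¹ = x ∨ g * z * g⁻¹ = z * x) {u : G}
    (hu : u ∈ Q ⊓ centralizer ({x} : Set G)) (hw : u ∈ centralizer ({g * z * g⁻¹} : Set G)) :
    X.val g ⟨u, hw⟩ = 1 := by
  classical
  have hxz := X.mem_cent.mp hxH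
  have hin : ∀ w : G, w * z = z * w → w * x = x * w →
      w ∈ centralizer ({g * z * g⁻¹} : Set G) := by
    intro w h1 h2
    refine mem_centralizer_singleton_iff.mpr ?_
    rcases hg with e | e <;> rw [e]
    · exact h2
    · exact ((show Commute w z from h1).mul_right h2).eq
  have hinU : ∀ r ∈ Q ⊓ centralizer ({x} : Set G), r ∈ centralizer ({g * z * g⁻¹} : Set G) :=
    fun r hr => hin r (X.h.comm r hr.1) (mem_centralizer_singleton_iff.mp hr.2)
  have hzU : z ∈ Q ⊓ centralizer ({x} : Set G) := (hU z).mpr ⟨X.h.mem, by rw [T.ν_z]; rfl⟩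
  choose s hs1 hs2 using T.surj
  have hsU : ∀ a, s (a, 0) ∈ Q ⊓ centralizer ({x} : Set G) := fun a =>
    (hU _).mpr ⟨hs1 _, by rw [hs2]⟩
  let ψ : G → ℤˣ := fun w =>
    if h : w ∈ centralizer ({g * z * g⁻¹} : Set G) then X.val g ⟨w, h⟩ else 1
  have hψ : ∀ w (h : w ∈ centralizer ({g * z * g⁻¹} : Set G)), ψ w = X.val g ⟨w, h⟩ :=
    fun w h => dif_pos h
  have hψmul : ∀ a b, a ∈ centralizer ({g * z * g⁻¹} : Set G) →
      b ∈ centralizer ({g * z * g⁻¹} : Set G) → ψ (a * b) = ψ a * ψ b := by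
    intro a b ha hb
    rw [hψ a ha, hψ b hb, hψ _ (mul_mem ha hb), ← map_mul]
    rfl
  have hψk : ∀ σ ∈ gens6, ∀ w, w ∈ centralizer ({g * z * g⁻¹} : Set G) →
      ∃ k : ↥(centralizer ({z} : Set G)), T.π k = (1, σ) ∧ (k : G) * x = x * k ∧
        ψ ((k : G) * w * (k : G)⁻¹) = ψ w := by
    intro σ hσ w hw'
    obtain ⟨k, hkπ, hkx⟩ := hk σ hσ
    refine ⟨k, hkπ, hkx, ?_⟩
    have hkm := hin k (mem_centralizer_singleton_iff.mp k.2) hkx
    rw [hψ _ (mul_mem (mul_mem hkm hw') (inv_mem hkm)), hψ w hw']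
    rw [show (⟨_, mul_mem (mul_mem hkm hw') (inv_mem hkm)⟩ : ↥(centralizer ({g * z * g⁻¹} : Set G))) =
      ⟨_, hkm⟩ * ⟨w, hw'⟩ * (⟨_, hkm⟩)⁻¹ from rfl, map_mul, map_mul, map_inv, mul_inv_cancel_comm]
  let t : ℤˣ → ZMod 2 := fun e => if e = 1 then 0 else 1
  have ht : ∀ e e' : ℤˣ, t (e * e') = t e + t e' := by decide
  have ht0 : ∀ e : ℤˣ, t e = 0 → e = 1 := by decide
  have hψz : ψ z = 1 := by
    by_contra hne
    -- the commutator with `x` gives a quadratic form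
    let f : W4 → ZMod 2 := fun n => t (ψ (x * s (0, n) * x⁻¹ * (s (0, n))⁻¹))
    have hcm : ∀ q ∈ Q, x * q * x⁻¹ * q⁻¹ ∈ Q ⊓ centralizer ({x} : Set G) := fun q hq => by
      refine (hU _).mpr ⟨Q.mul_mem (X.norm ⟨x, hxH⟩ hq) (Q.inv_mem hq), ?_⟩
      rw [T.add _ (X.norm ⟨x, hxH⟩ hq) _ (Q.inv_mem hq), T.ν_inv hq,
        show x * q * x⁻¹ = ((⟨x, hxH⟩ : ↥(centralizer ({z} : Set G))) : G) * q *
          ((⟨x, hxH⟩ : ↥(centralizer ({z} : Set G))) : G)⁻¹ from rfl, T.act _ q hq, hπT, actT_t3']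
      exact SixSymplModel31.add_self _
    have hfq : ∀ q ∈ Q, (T.ν q).1 = 0 → t (ψ (x * q * x⁻¹ * q⁻¹)) = f (T.ν q).2 := by
      intro q hq h0
      have hsame := T.same hq (hs1 (0, (T.ν q).2)) (by rw [hs2]; exact Prod.ext h0 rfl)
      simp only [f]
      generalize s (0, (T.ν q).2) = s' at hsame ⊢
      rcases hsame with rfl | rfl
      · rfl
      · congr 2
        calc x * (z * s') * x⁻¹ * (z * s')⁻¹ = (x * z) * s' * x⁻¹ * s'⁻¹ * z⁻¹ := by group
          _ = z * (x * s' * x⁻¹ * s'⁻¹) * z⁻¹ := by rw [hxz]; group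
          _ = x * s' * x⁻¹ * s'⁻¹ := by
            have hs' : s' ∈ Q := by
              have := Q.mul_mem X.h.mem hq
              rwa [← mul_assoc, X.h.zz, one_mul] at this
            rw [← X.h.comm _ (hcm s' hs').1, mul_inv_cancel_right]
    have hfadd : ∀ a b, f (a + b) = f a + f b + β a b := by
      intro a b
      have e1 := hfq _ (Q.mul_mem (hs1 (0, a)) (hs1 (0, b))) (by
        rw [T.add _ (hs1 _) _ (hs1 _), hs2, hs2]; simp)
      rw [T.add _ (hs1 _) _ (hs1 _), hs2, hs2] at e1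
      simp only [Prod.mk_add_mk] at e1
      rw [← e1]
      set qa := s (0, a)
      set qb := s (0, b)
      have hcb := hcm qb (hs1 _)
      have hca := hcm qa (hs1 _)
      have hcomm := T.conj qa (hs1 _) _ hcb.1
      have hν : T.ν (x * qb * x⁻¹ * qb⁻¹) = (b, 0) := by
        rw [T.add _ (X.norm ⟨x, hxH⟩ (hs1 _)) _ (Q.inv_mem (hs1 _)), T.ν_inv (hs1 _),
          show x * qb * x⁻¹ = ((⟨x, hxH⟩ : ↥(centralizer ({z} : Set G))) : G) * qb *
            ((⟨x, hxH⟩ : ↥(centralizer ({z} : Set G))) : G)⁻¹ from rfl, T.act _ qb (hs1 _), hπT,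
          actT_t3', hs2]
        simp [SixSymplModel31.add_self]
      rw [hν, hs2, show BT (0, a) (b, 0) = β a b by
        simp only [BT, β_zero_left, zero_add]; exact β_comm b a] at hcomm
      rw [show x * (qa * qb) * x⁻¹ * (qa * qb)⁻¹ =
        (x * qa * x⁻¹ * qa⁻¹) * (qa * (x * qb * x⁻¹ * qb⁻¹) * qa⁻¹) by group, hcomm]
      have hzc : ∀ i, zp z i ∈ centralizer ({g * z * g⁻¹} : Set G) := fun i => by
        rcases SixSymplModel31.two_eq i with e | e <;> rw [e]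
        · rw [zp_zero]; exact one_mem _
        · rw [zp_one]; exact hinU z hzU
      rw [hψmul _ _ (hinU _ hca) (mul_mem (hzc _) (hinU _ hcb)), hψmul _ _ (hzc _) (hinU _ hcb),
        ht, ht]
      have hz1 : t (ψ (zp z (β a b))) = β a b := by
        rcases SixSymplModel31.two_eq (β a b) with e | e <;> rw [e]
        · rw [zp_zero, hψ 1 (one_mem _)]
          have : X.val g ⟨1, one_mem _⟩ = 1 := map_one _
          rw [this]; rfl
        · rw [zp_one]
          exact if_neg hne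
      rw [hz1]
      simp only [f]
      abel
    refine no_quadratic hfadd fun σ hσ a => ?_
    obtain ⟨k, hkπ, hkx, he⟩ := hψk σ hσ _ (hinU _ (hcm _ (hs1 (0, a))))
    have hν : T.ν ((k : G) * s (0, a) * (k : G)⁻¹) = (0, SixSymplModel31.act σ a) := by
      rw [T.act k _ (hs1 _), hkπ, hs2, actT_one', act_zero]
    have h1 := hfq _ (X.norm k (hs1 (0, a))) (by rw [hν])
    rw [hν] at h1
    rw [← h1]
    show _ = t (ψ _)
    rw [← he]
    congr 2
    have hxk : Commute x (k : G) := hkx.symm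
    calc x * ((k : G) * s (0, a) * (k : G)⁻¹) * x⁻¹ * ((k : G) * s (0, a) * (k : G)⁻¹)⁻¹ =
          (x * k) * s (0, a) * (x * k)⁻¹ * ((k : G) * s (0, a) * (k : G)⁻¹)⁻¹ := by group
      _ = (k : G) * (x * s (0, a) * x⁻¹ * (s (0, a))⁻¹) * (k : G)⁻¹ := by rw [hxk.eq]; group
  let L : W4 → ZMod 2 := fun a => t (ψ (s (a, 0)))
  have hLU : ∀ r ∈ Q ⊓ centralizer ({x} : Set G), t (ψ r) = L (T.ν r).1 := by
    intro r hr
    have hsame := T.same hr.1 (hs1 ((T.ν r).1, 0)) (by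
      rw [hs2]; exact Prod.ext rfl ((hU r).mp hr).2)
    simp only [L]
    rcases hsame with e | e
    · conv_lhs => rw [e]
    · conv_lhs => rw [e]
      rw [hψmul _ _ (hinU z hzU) (hinU _ (hsU _)), hψz, one_mul]
  have hLadd : ∀ a b, L (a + b) = L a + L b := by
    intro a b
    have h := hLU _ (mul_mem (hsU a) (hsU b))
    rw [T.add _ (hs1 _) _ (hs1 _), hs2, hs2, hψmul _ _ (hinU _ (hsU _)) (hinU _ (hsU _)), ht] at h
    simp only [Prod.mk_add_mk] at h
    exact h.symm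
  have hLinv : ∀ σ ∈ gens6, ∀ a, L (SixSymplModel31.act σ a) = L a := by
    intro σ hσ a
    obtain ⟨k, hkπ, hkx, he⟩ := hψk σ hσ _ (hinU _ (hsU a))
    have hν : T.ν ((k : G) * s (a, 0) * (k : G)⁻¹) = (SixSymplModel31.act σ a, 0) := by
      rw [T.act k _ (hs1 _), hkπ, hs2, actT_one', act_zero]
    have h := hLU _ ((hU _).mpr ⟨X.norm k (hs1 (a, 0)), by rw [hν]⟩)
    rw [hν, he] at h
    exact h.symm
  rw [← hψ u hw]
  apply ht0
  rw [hLU u hu]
  exact invariant_linear hLadd hLinv _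

/-- The contradiction in this case. -/
theorem false_tensor (hG : ∀ f : G →* ℤˣ, f = 1) : False := by
  classical
  obtain ⟨x, hxH, hπ, hπT, hx2, hU, hk⟩ := T.exists_x
  have hxz := X.mem_cent.mp hxH
  have hzU : z ∈ Q ⊓ centralizer ({x} : Set G) := (hU z).mpr ⟨X.h.mem, by rw [T.ν_z]; rfl⟩
  -- elements commuting with the elementary group
  have hcentU : ∀ y, (hy : y * z = z * y) →
      (∀ r ∈ Q ⊓ centralizer ({x} : Set G), r * y = y * r) →
      (y ∈ Q ∧ (T.ν y).2 = 0) ∨ (x⁻¹ * y ∈ Q ∧ (T.ν (x⁻¹ * y)).2 = 0) := by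
    intro y hy hc
    set m : ↥(centralizer ({z} : Set G)) := ⟨y, X.mem_cent.mpr hy⟩
    have hfix : ∀ a : W4, actT ((T.π m).1, (T.π m).2) (a, 0) = (a, 0) := by
      intro a
      obtain ⟨r, hr, er⟩ := T.surj (a, 0)
      have h1 := T.act m r hr
      rw [er, show (m : G) * r * (m : G)⁻¹ = r from
        mul_inv_eq_iff_eq_mul.mpr (hc r ((hU r).mpr ⟨hr, by rw [er]⟩)).symm, er] at h1
      exact h1.symm
    obtain ⟨hτ, hσ⟩ := fix_pure hfix
    have perp : ∀ w ∈ Q, (∀ r ∈ Q ⊓ centralizer ({x} : Set G), r * w = w * r) → (T.ν w).2 = 0 := by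
      intro w hw hcw
      have hb : ∀ a, β a (T.ν w).2 = 0 := fun a => by
        obtain ⟨r, hr, er⟩ := T.surj (a, 0)
        have := (T.comm_iff hr hw).mp (hcw r ((hU r).mpr ⟨hr, by rw [er]⟩))
        rw [er] at this
        simpa [BT, β_zero_right] using this
      exact β_nondeg _ (by rw [β_comm]; exact hb _) (by rw [β_comm]; exact hb _)
        (by rw [β_comm]; exact hb _) (by rw [β_comm]; exact hb _)
    rcases hτ with e | e
    · have hyQ : y ∈ Q := (T.ker m).mp (Prod.ext e hσ)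
      exact Or.inl ⟨hyQ, perp y hyQ hc⟩
    · have hyQ : x⁻¹ * y ∈ Q := (T.ker (⟨x, hxH⟩⁻¹ * m)).mp (by
        rw [map_mul, map_inv, hπT, show T.π m = (t3, 1) from Prod.ext e hσ, inv_mul_cancel])
      refine Or.inr ⟨hyQ, perp _ hyQ fun r hr => ?_⟩
      exact ((show Commute r x from mem_centralizer_singleton_iff.mp hr.2).inv_right.mul_right
        (hc r hr)).eq
  refine X.contradiction_of_transfer hG hxH hπ hx2 ?_ ?_
  · intro g hyne hyz hyA h
    set y := g * z * g⁻¹ with hy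
    rcases hcentU y hyz hyA with ⟨hyQ, hy2⟩ | ⟨huQ, hu2⟩
    · exfalso
      refine T.no_pure hyQ (w := (T.ν y).1) (fun e => ?_) (Prod.ext rfl hy2)
      rcases (T.kerν y hyQ).mp (Prod.ext e hy2) with e' | e'
      · exact X.h.ne_one (conj_eq_one_iff.mp e')
      · exact hyne e'
    set u := x⁻¹ * y with hu
    have hyw : y = x * u := by rw [hu, mul_inv_cancel_left]
    obtain ⟨q, hq, eq⟩ := T.surj (0, (T.ν u).1)
    have hx'Q : x⁻¹ * q * x ∈ Q := by simpa using X.norm (⟨x, hxH⟩⁻¹) hq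
    have hν : T.ν (x⁻¹ * q * x * q⁻¹) = T.ν u := by
      have h1 := T.act (⟨x, hxH⟩⁻¹) q hq
      rw [map_inv, hπT, show ((t3, 1) : P36)⁻¹ = (t3, 1) by decide, actT_t3', eq] at h1
      simp only [coe_inv, inv_inv] at h1
      rw [T.add _ hx'Q _ (Q.inv_mem hq), T.ν_inv hq, h1, eq]
      refine Prod.ext ?_ ?_
      · simp
      · simp [hu2, SixSymplModel31.add_self]
    obtain ⟨x', hx', hxy⟩ : ∃ x', (x' = x ∨ x' = z * x) ∧ y = q * x' * q⁻¹ := by
      rcases T.same huQ (Q.mul_mem hx'Q (Q.inv_mem hq)) hν.symm with e | e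
      · refine ⟨x, Or.inl rfl, ?_⟩
        rw [hyw, e]; group
      · refine ⟨z * x, Or.inr rfl, ?_⟩
        calc y = x * z * (x⁻¹ * q * x * q⁻¹) := by rw [hyw, e]; group
          _ = z * (q * x * q⁻¹) := by rw [hxz]; group
          _ = (z * q) * x * q⁻¹ := by group
          _ = q * (z * x) * q⁻¹ := by rw [← X.h.comm q hq]; group
    set g' := q⁻¹ * g with hg'
    have hg'x : g' * z * g'⁻¹ = x' := by
      rw [show g' * z * g'⁻¹ = q⁻¹ * y * q by rw [hg', hy]; group, hxy]; group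
    have huU : u ∈ Q ⊓ centralizer ({x} : Set G) := (hU u).mpr ⟨huQ, hu2⟩
    have hu'U : q⁻¹ * u⁻¹ * q ∈ Q ⊓ centralizer ({x} : Set G) := by
      refine (hU _).mpr ⟨Q.mul_mem (Q.mul_mem (Q.inv_mem hq) (Q.inv_mem huQ)) hq, ?_⟩
      rw [T.add _ (Q.mul_mem (Q.inv_mem hq) (Q.inv_mem huQ)) _ hq, T.add _ (Q.inv_mem hq) _
        (Q.inv_mem huQ), T.ν_inv hq, T.ν_inv huQ, Prod.snd_add, Prod.snd_add, hu2, add_zero]
      exact SixSymplModel31.add_self _
    have hcx : q⁻¹ * u⁻¹ * q ∈ centralizer ({g' * z * g'⁻¹} : Set G) := by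
      refine mem_centralizer_singleton_iff.mpr ?_
      have h1 : Commute (q⁻¹ * u⁻¹ * q) x := mem_centralizer_singleton_iff.mp hu'U.2
      rw [hg'x]
      rcases hx' with e | e <;> rw [e]
      · exact h1.eq
      · exact ((show Commute _ z from X.h.comm _ hu'U.1).mul_right h1).eq
    have hv := T.val_U hxH hπT hU hk (g := g') (hg'x ▸ hx') hu'U hcx
    have hm : g'⁻¹ * (q⁻¹ * u⁻¹ * q) * g' ∈ centralizer ({z} : Set G) :=
      X.conj_comm.mpr (mem_centralizer_singleton_iff.mp hcx)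
    rw [X.val_eq hcx hm] at hv
    have e : (⟨g⁻¹ * x * g, h⟩ : ↥(centralizer ({z} : Set G))) =
        ⟨z, X.Q_le X.h.mem⟩ * ⟨_, hm⟩ := Subtype.ext (by
      show g⁻¹ * x * g = z * (g'⁻¹ * (q⁻¹ * u⁻¹ * q) * g')
      have hgy : g⁻¹ * y * g = z := by rw [hy]; group
      rw [← hgy, hyw, hg']; group)
    rw [e, map_mul, X.sgn_Q X.h.mem, one_mul]
    exact hv
  · intro g hx2z hxy hzy hA2 h
    set y := g * z * g⁻¹ with hy
    by_cases hall : ∀ r ∈ Q ⊓ centralizer ({x} : Set G), r * y = y * r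
    · exfalso
      apply hxy
      rcases hcentU y hzy.symm hall with ⟨hyQ, hy2⟩ | ⟨huQ, hu2⟩
      · exact (mem_centralizer_singleton_iff.mp ((hU y).mpr ⟨hyQ, hy2⟩).2).symm
      · have hc := (mem_centralizer_singleton_iff.mp ((hU _).mpr ⟨huQ, hu2⟩).2).symm
        have := (show Commute x (x⁻¹ * y) from hc)
        have h' := (Commute.refl x).mul_right this
        rw [mul_inv_cancel_left] at h'
        exact h'.eq
    · push Not at hall
      obtain ⟨r, hr, hne⟩ := hall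
      have hc := (hA2 r hr).resolve_left hne
      have hrr : r * r = 1 := by
        rw [T.sq r hr.1, ((hU r).mp hr).2, β_zero_right, zp_zero]
      have hm : g⁻¹ * (x⁻¹ * r) * g ∈ centralizer ({z} : Set G) := X.conj_comm.mpr hc
      have e : (⟨g⁻¹ * z * g, h⟩ : ↥(centralizer ({z} : Set G))) = ⟨_, hm⟩ * ⟨_, hm⟩ := Subtype.ext (by
        show g⁻¹ * z * g = g⁻¹ * (x⁻¹ * r) * g * (g⁻¹ * (x⁻¹ * r) * g)
        have hrx : Commute r x⁻¹ := (show Commute r x from mem_centralizer_singleton_iff.mp hr.2).inv_right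
        have e1 : x⁻¹ * r * (x⁻¹ * r) = z := by
          rw [hrx.mul_mul_mul_comm, hrr, mul_one, ← mul_inv_rev, ← pow_two, hx2z]
          exact inv_eq_of_mul_eq_one_right X.h.zz
        conv_lhs => rw [← e1]
        group)
      rw [e, map_mul, Int.units_mul_self]

end CoT

end Cfsg.Agent.NineSetup31
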