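import Cfsg.Agent.Lib.SylowLift7
import Cfsg.Agent.Lib.NineCases7

/-!
# Weights of the `3`-sections for a Sylow subgroup of order nine
-/

set_option autoImplicit false
set_option linter.unusedSectionVars false
set_option linter.style.haveILetI false

open scoped ComplexConjugate
open Finset

attribute [local instance] Classical.propDecidable

namespace Cfsg.Agent.NineWeights7

open Cfsg Cfsg.Agent.NineCases7 Cfsg.Agent.SylowLift7

universe u

variable {G : Type u} [Group G] [Finite G] [Fact (Nat.Prime 3)] {R : Sylow 3 G}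

theorem comm' (h9 : Nat.card (R : Subgroup G) = 9) (x y : (R : Subgroup G)) :
    (x : G) * y = y * x := comm_of_card R h9 _ x.2 _ y.2

theorem fusion (h9 : Nat.card (R : Subgroup G) = 9) {x y : (R : Subgroup G)}
    (h : IsConj (x : G) y) :
    ∃ n ∈ Subgroup.normalizer ((R : Subgroup G) : Set G), n * (x : G) * n⁻¹ = y := by
  haveI : IsMulCommutative (R : Subgroup G) := ⟨⟨fun a b => Subtype.ext (comm' h9 a b)⟩⟩
  obtain ⟨c, hc⟩ := isConj_iff.1 h
  obtain ⟨n, hn, he⟩ := R.conj_eq_normalizer_conj_of_mem (x : G) c⁻¹ x.2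
    (by rw [inv_inv, hc]; exact y.2)
  rw [inv_inv, hc] at he
  exact ⟨n⁻¹, inv_mem hn, by rw [inv_inv]; exact he.symm⟩

theorem ne_inv (h9 : Nat.card (R : Subgroup G) = 9) {x : (R : Subgroup G)} (hx : x ≠ 1) :
    (x : G) ≠ (x : G)⁻¹ := by
  intro e
  have h1 : x * x = 1 := Subtype.ext (by
    rw [Subgroup.coe_mul, OneMemClass.coe_one]; exact mul_eq_one_iff_eq_inv.2 e)
  have h2 : orderOf x ∣ 2 := orderOf_dvd_of_pow_eq_one (by rw [pow_two, h1])
  have h3 : orderOf x ∣ 9 := h9 ▸ orderOf_dvd_natCard x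
  exact hx (orderOf_eq_one_iff.1 (Nat.eq_one_of_dvd_coprimes (by norm_num) h2 h3))

theorem fusCard_eq {x : G} (s : Finset (R : Subgroup G))
    (hs : ∀ y : (R : Subgroup G), IsConj x y ↔ y ∈ s) : fusCard R x = s.card := by
  rw [fusCard, Nat.card_congr (Equiv.subtypeEquivRight hs), Nat.card_eq_fintype_card,
    Fintype.card_coe]

theorem le_centralizer (h9 : Nat.card (R : Subgroup G) = 9) (x : (R : Subgroup G)) :
    (R : Subgroup G) ≤ Subgroup.centralizer ({(x : G)} : Set G) :=
  fun y hy => Subgroup.mem_centralizer_singleton_iff.2 (comm' h9 ⟨y, hy⟩ x)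

theorem weight_of_section {x : G} (k : ℕ)
    (h : secCard R x * Nat.card (R : Subgroup G) =
      Nat.card (Subgroup.centralizer ({x} : Set G)))
    (h9 : Nat.card (R : Subgroup G) = 9) (hk : fusCard R x = k) :
    weight R x = 1 / (9 * k) := by
  have hs : (secCard R x : ℂ) ≠ 0 := by
    rw [Nat.cast_ne_zero]
    intro h0
    rw [h0, zero_mul] at h
    exact Nat.card_pos.ne' h.symm
  rw [weight, ← h, h9, hk]
  push_cast
  field_simp

/-! ### The inversion -/

theorem inversion_isConj_iff (h9 : Nat.card (R : Subgroup G) = 9)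
    (hI : Inversion (R : Subgroup G)) (x y : (R : Subgroup G)) :
    IsConj (x : G) y ↔ y = x ∨ y = x⁻¹ := by
  constructor
  · intro h
    obtain ⟨n, hn, he⟩ := fusion h9 h
    rcases hI.act n hn with hf | hf
    · exact Or.inl (Subtype.ext (he.symm.trans (hf _ x.2)))
    · exact Or.inr (Subtype.ext (he.symm.trans (hf _ x.2)))
  · rintro (rfl | rfl)
    · exact IsConj.refl _
    · obtain ⟨n, -, hf⟩ := hI.exists_inv
      exact isConj_iff.2 ⟨n, hf _ x.2⟩

theorem weight_inversion (h9 : Nat.card (R : Subgroup G) = 9) (hI : Inversion (R : Subgroup G))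
    {x : (R : Subgroup G)} (hx : x ≠ 1) : weight R (x : G) = 1 / 18 := by
  rw [weight_of_section 2 ?_ h9 ?_]
  · norm_num
  · refine secCard_mul_of_burnside R (le_centralizer h9 x) (Subgroup.orderOf_dvd_natCard _ x.2) ?_
    intro n hn hc y hy
    have hf : Fix n (R : Subgroup G) := by
      refine (hI.act n hn).resolve_right fun hinv => ne_inv h9 hx ?_
      exact (mul_inv_eq_iff_eq_mul.2 hc).symm.trans (hinv _ x.2)
    exact mul_inv_eq_iff_eq_mul.1 (hf y hy)
  · rw [fusCard_eq {x, x⁻¹} fun y => by simpa using inversion_isConj_iff h9 hI x y,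
      Finset.card_pair]
    exact fun e => ne_inv h9 hx (congrArg Subtype.val e)

/-! ### The four group -/

variable {A B : Subgroup G}

theorem uniq (hS : Split (R : Subgroup G) A B) {a a' b b' : G} (ha : a ∈ A) (ha' : a' ∈ A)
    (hb : b ∈ B) (hb' : b' ∈ B) (h : a * b = a' * b') : a = a' ∧ b = b' := by
  have h1 : a'⁻¹ * a = b' * b⁻¹ := by
    rw [eq_mul_inv_iff_mul_eq, mul_assoc, h, inv_mul_cancel_left]
  have h2 : a'⁻¹ * a ∈ A ⊓ B :=
    ⟨A.mul_mem (A.inv_mem ha') ha, h1 ▸ B.mul_mem hb' (B.inv_mem hb)⟩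
  rw [hS.inf, Subgroup.mem_bot] at h2
  obtain rfl := inv_mul_eq_one.1 h2
  exact ⟨rfl, mul_left_cancel h⟩

/-- The decomposition of `R`. -/
noncomputable def prodMap (hS : Split (R : Subgroup G) A B) (z : A × B) : (R : Subgroup G) :=
  ⟨(z.1 : G) * z.2, (R : Subgroup G).mul_mem (hS.leA z.1.2) (hS.leB z.2.2)⟩

theorem prodMap_bijective (h9 : Nat.card (R : Subgroup G) = 9)
    (hS : Split (R : Subgroup G) A B) : Function.Bijective (prodMap hS) := by
  have hinj : Function.Injective (prodMap hS) := fun z w h => by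
    obtain ⟨e1, e2⟩ := uniq hS z.1.2 w.1.2 z.2.2 w.2.2 (congrArg Subtype.val h)
    exact Prod.ext (Subtype.ext e1) (Subtype.ext e2)
  refine (Nat.bijective_iff_injective_and_card _).2 ⟨hinj, ?_⟩
  rw [Nat.card_prod, hS.cardA, hS.cardB, h9]

theorem exists_prod (h9 : Nat.card (R : Subgroup G) = 9) (hS : Split (R : Subgroup G) A B)
    (x : (R : Subgroup G)) : ∃ a ∈ A, ∃ b ∈ B, (x : G) = a * b := by
  obtain ⟨⟨a, b⟩, h⟩ := (prodMap_bijective h9 hS).2 x
  exact ⟨a, a.2, b, b.2, (congrArg Subtype.val h).symm⟩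

/-- A function on `R` constant on the four kinds of elements. -/
theorem sum_pattern [Fintype (R : Subgroup G)] (h9 : Nat.card (R : Subgroup G) = 9)
    (hS : Split (R : Subgroup G) A B) {φ : ↥(R : Subgroup G) → ℂ} {v0 vA vB vM : ℂ}
    (h0 : φ 1 = v0)
    (hA : ∀ x : (R : Subgroup G), (x : G) ∈ A → x ≠ 1 → φ x = vA)
    (hB : ∀ x : (R : Subgroup G), (x : G) ∈ B → x ≠ 1 → φ x = vB)
    (hM : ∀ x : (R : Subgroup G), (x : G) ∉ A → (x : G) ∉ B → φ x = vM) :
    ∑ x, φ x = v0 + 2 * vA + 2 * vB + 4 * vM := by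
  have : Fintype A := Fintype.ofFinite _
  have : Fintype B := Fintype.ofFinite _
  rw [← Equiv.sum_comp (Equiv.ofBijective _ (prodMap_bijective h9 hS)), Fintype.sum_prod_type]
  have hcA : Fintype.card A = 3 := by rw [← Nat.card_eq_fintype_card, hS.cardA]
  have hcB : Fintype.card B = 3 := by rw [← Nat.card_eq_fintype_card, hS.cardB]
  have hval : ∀ (a : A) (b : B), φ ((Equiv.ofBijective _ (prodMap_bijective h9 hS)) (a, b)) =
      if a = 1 then (if b = 1 then v0 else vB) else (if b = 1 then vA else vM) := by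
    intro a b
    rw [Equiv.ofBijective_apply]
    split_ifs with ha hb hb
    · subst ha; subst hb
      rw [← h0]; congr 1; exact Subtype.ext (by simp [prodMap])
    · subst ha
      refine hB _ (by simp [prodMap]) fun e => hb (Subtype.ext ?_)
      simpa [prodMap] using congrArg Subtype.val e
    · subst hb
      refine hA _ (by simp [prodMap]) fun e => ha (Subtype.ext ?_)
      simpa [prodMap] using congrArg Subtype.val e
    · refine hM _ (fun h => hb ?_) (fun h => ha ?_)
      · obtain ⟨-, e⟩ := uniq hS a.2 h b.2 B.one_mem (by simp [prodMap])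
        exact Subtype.ext e
      · obtain ⟨e, -⟩ := uniq hS a.2 A.one_mem b.2 h (by simp [prodMap])
        exact Subtype.ext e
  simp only [hval]
  rw [← Finset.add_sum_erase _ _ (Finset.mem_univ (1 : A))]
  simp only [if_true]
  rw [Finset.sum_congr rfl fun a ha => Finset.sum_congr rfl fun b _ => if_neg (Finset.ne_of_mem_erase ha),
    Finset.sum_const, Finset.card_erase_of_mem (Finset.mem_univ _), Finset.card_univ, hcA,
    Finset.sum_ite, Finset.sum_ite, Finset.filter_eq', Finset.filter_ne']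
  simp only [Finset.mem_univ, if_true, Finset.sum_const, Finset.card_singleton,
    Finset.card_erase_of_mem, Finset.card_univ, hcB, one_smul]
  norm_num
  ring

theorem act_mem (hS : Split (R : Subgroup G) A B) {n : G}
    (hn : n ∈ Subgroup.normalizer ((R : Subgroup G) : Set G)) :
    (∀ a ∈ A, n * a * n⁻¹ ∈ A) ∧ ∀ b ∈ B, n * b * n⁻¹ ∈ B := by
  refine ⟨fun a ha => ?_, fun b hb => ?_⟩
  · rcases (hS.act n hn).1 with h | h <;> rw [h a ha]
    exacts [ha, A.inv_mem ha]
  · rcases (hS.act n hn).2 with h | h <;> rw [h b hb]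
    exacts [hb, B.inv_mem hb]

theorem fix_eq (h9 : Nat.card (R : Subgroup G) = 9) (hS : Split (R : Subgroup G) A B) {n : G}
    (hn : n ∈ Subgroup.normalizer ((R : Subgroup G) : Set G)) {a : G} (ha : a ∈ A) (ha1 : a ≠ 1)
    (h : n * a * n⁻¹ = a) : Fix n A := by
  refine (hS.act n hn).1.resolve_right fun hi => ne_inv h9 (x := ⟨a, hS.leA ha⟩) ?_ ?_
  · exact fun e => ha1 (congrArg Subtype.val e)
  · exact h.symm.trans (hi a ha)

theorem fix_all (h9 : Nat.card (R : Subgroup G) = 9) (hS : Split (R : Subgroup G) A B) {n : G}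
    (hA : Fix n A) (hB : Fix n B) : ∀ y ∈ (R : Subgroup G), n * y = y * n := by
  intro y hy
  obtain ⟨a, ha, b, hb, he⟩ := exists_prod h9 hS ⟨y, hy⟩
  simp only at he
  subst he
  calc n * (a * b) = (n * a * n⁻¹) * ((n * b * n⁻¹) * n) := by group
    _ = a * b * n := by rw [hA a ha, hB b hb, mul_assoc]

theorem split_mem_iff (h9 : Nat.card (R : Subgroup G) = 9) (hS : Split (R : Subgroup G) A B)
    {x y : (R : Subgroup G)} (h : IsConj (x : G) y) :
    ((x : G) ∈ A ↔ (y : G) ∈ A) ∧ ((x : G) ∈ B ↔ (y : G) ∈ B) := by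
  obtain ⟨n, hn, he⟩ := fusion h9 h
  have h1 := act_mem hS hn
  have h2 := act_mem hS (inv_mem hn)
  have hx : n⁻¹ * (y : G) * (n⁻¹)⁻¹ = x := by rw [← he]; group
  exact ⟨⟨fun m => he ▸ h1.1 _ m, fun m => hx ▸ h2.1 _ m⟩,
    ⟨fun m => he ▸ h1.2 _ m, fun m => hx ▸ h2.2 _ m⟩⟩

theorem weight_mixed (h9 : Nat.card (R : Subgroup G) = 9) (hS : Split (R : Subgroup G) A B)
    {x : (R : Subgroup G)} (hxA : (x : G) ∉ A) (hxB : (x : G) ∉ B) :
    weight R (x : G) = 1 / 36 := by
  obtain ⟨a, ha, b, hb, he⟩ := exists_prod h9 hS x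
  have ha1 : a ≠ 1 := fun e => hxB (by rw [he, e, one_mul]; exact hb)
  have hb1 : b ≠ 1 := fun e => hxA (by rw [he, e, mul_one]; exact ha)
  have hna : a ≠ a⁻¹ := ne_inv h9 (x := ⟨a, hS.leA ha⟩) fun e => ha1 (congrArg Subtype.val e)
  have hnb : b ≠ b⁻¹ := ne_inv h9 (x := ⟨b, hS.leB hb⟩) fun e => hb1 (congrArg Subtype.val e)
  have hpairs : ∀ y : (R : Subgroup G), IsConj (x : G) y ↔
      ((y : G) = a * b ∨ (y : G) = a⁻¹ * b ∨ (y : G) = a * b⁻¹ ∨ (y : G) = a⁻¹ * b⁻¹) := by
    intro y
    constructor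
    · intro h
      obtain ⟨n, hn, hy⟩ := fusion h9 h
      rw [he, show n * (a * b) * n⁻¹ = (n * a * n⁻¹) * (n * b * n⁻¹) by group] at hy
      rcases hS.act n hn with ⟨h1 | h1, h2 | h2⟩ <;> rw [h1 a ha, h2 b hb] at hy <;>
        simp [← hy]
    · obtain ⟨s, -, hs1, hs2⟩ := hS.reflA
      obtain ⟨t, -, ht1, ht2⟩ := hS.reflB
      have hconj : ∀ n : G, IsConj (x : G) ((n * a * n⁻¹) * (n * b * n⁻¹)) := fun n =>
        isConj_iff.2 ⟨n, by rw [he]; group⟩
      rintro (h | h | h | h) <;> rw [h]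
      · rw [← he]
      · have := hconj t; rwa [ht1 a ha, ht2 b hb] at this
      · have := hconj s; rwa [hs1 a ha, hs2 b hb] at this
      · have := hconj (s * t)
        rwa [show s * t * a * (s * t)⁻¹ = s * (t * a * t⁻¹) * s⁻¹ by group,
          show s * t * b * (s * t)⁻¹ = s * (t * b * t⁻¹) * s⁻¹ by group, ht1 a ha, ht2 b hb,
          hs1 _ (A.inv_mem ha), hs2 b hb] at this
  have hfour : fusCard R (x : G) = 4 := by
    rw [fusCard_eq {prodMap hS (⟨a, ha⟩, ⟨b, hb⟩), prodMap hS (⟨a⁻¹, A.inv_mem ha⟩, ⟨b, hb⟩),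
      prodMap hS (⟨a, ha⟩, ⟨b⁻¹, B.inv_mem hb⟩),
      prodMap hS (⟨a⁻¹, A.inv_mem ha⟩, ⟨b⁻¹, B.inv_mem hb⟩)} fun y => ?_]
    · have hinj := (prodMap_bijective h9 hS).1
      rw [Finset.card_insert_of_notMem, Finset.card_insert_of_notMem, Finset.card_pair] <;>
        simp [hinj.eq_iff, hna, hna.symm, hnb]
    · rw [hpairs]
      simp [prodMap, Subtype.ext_iff]
  rw [weight_of_section 4 ?_ h9 hfour]
  · norm_num
  refine secCard_mul_of_burnside R (le_centralizer h9 x) (Subgroup.orderOf_dvd_natCard _ x.2) ?_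
  intro n hn hc
  have hm := act_mem hS hn
  have hcx := mul_inv_eq_iff_eq_mul.2 hc
  rw [he, show n * (a * b) * n⁻¹ = (n * a * n⁻¹) * (n * b * n⁻¹) by group] at hcx
  obtain ⟨e1, e2⟩ := uniq hS (hm.1 a ha) ha (hm.2 b hb) hb hcx
  exact fix_all h9 hS (fix_eq h9 hS hn ha ha1 e1) (fix_eq h9 hS.symm hn hb hb1 e2)


theorem weight_axis (h9 : Nat.card (R : Subgroup G) = 9) (hS : Split (R : Subgroup G) A B)
    {x : (R : Subgroup G)} (hxA : (x : G) ∈ A) (hx : x ≠ 1) : weight R (x : G) = 1 / 9 := by
  have := Fintype.ofFinite G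
  have hx1 : (x : G) ≠ 1 := fun e => hx (Subtype.ext e)
  set C := Subgroup.centralizer ({(x : G)} : Set G) with hC
  have hle : (R : Subgroup G) ≤ C := le_centralizer h9 x
  let Q : Sylow 3 C := R.subtype hle
  have : Fintype C := Fintype.ofFinite _
  have : Fintype (Q : Subgroup C) := Fintype.ofFinite _
  have hQ : ∀ z : C, z ∈ (Q : Subgroup C) ↔ (z : G) ∈ (R : Subgroup G) := fun _ => Iff.rfl
  have hQ9 : Nat.card (Q : Subgroup C) = 9 :=
    (Nat.card_congr (Subgroup.subgroupOfEquivOfLe hle).toEquiv).trans h9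
  -- the parts agree
  have hpp : ∀ g : C, ((pp Q g : C) : G) = pp R (g : G) := by
    intro g
    have h1 : Commute ((pp Q g : C) : G) (((pp Q g)⁻¹ * g : C) : G) := by
      have hc : Commute (pp Q g) ((pp Q g)⁻¹ * g) :=
        ((Commute.refl _).inv_right).mul_right (commute_pp Q g).symm
      exact congrArg Subtype.val hc.eq
    have h2 : (g : G) = ((pp Q g : C) : G) * (((pp Q g)⁻¹ * g : C) : G) := by
      rw [← Subgroup.coe_mul, mul_inv_cancel_left]
    conv_rhs => rw [h2]
    refine (pp_eq R h1 ?_ ?_).symm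
    · rw [Subgroup.orderOf_coe, h9, ← hQ9]; exact orderOf_pp Q g
    · rw [Subgroup.orderOf_coe]
      refine (orderOf_rest Q g).trans ?_
      have : (Q : Subgroup C).index = ((R : Subgroup G).subgroupOf C).index := rfl
      rw [this]
      show (R : Subgroup G).relIndex C ∣ _
      rw [← Subgroup.relIndex_top_right (R : Subgroup G)]
      exact Dvd.intro _ (Subgroup.relIndex_mul_relIndex _ _ _ hle le_top)
  have hxC : (x : G) ∈ C := hle x.2
  set xC : C := ⟨x, hxC⟩ with hxCdef
  have hzc : ∀ z : C, z * xC = xC * z := fun z =>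
    Subtype.ext (Subgroup.mem_centralizer_singleton_iff.1 z.2)
  have hAall : ∀ a ∈ A, ∀ g : G, g ∈ C → g * a = a * g := by
    intro a ha g hg
    have hz : Subgroup.zpowers (x : G) = A := by
      haveI : Finite A := inferInstance
      refine Subgroup.eq_of_le_of_card_ge (Subgroup.zpowers_le.2 hxA) ?_
      rw [Nat.card_zpowers, hS.cardA]
      have h3 : orderOf (x : G) ∣ 3 := (Subgroup.orderOf_dvd_natCard A hxA).trans hS.cardA.dvd
      exact ((Nat.dvd_prime Nat.prime_three).1 h3).elim
        (fun e => absurd (orderOf_eq_one_iff.1 e) hx1) (fun e => e.ge)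
    rw [← hz] at ha
    obtain ⟨k, rfl⟩ := Subgroup.mem_zpowers_iff.1 ha
    exact Commute.zpow_right (Subgroup.mem_centralizer_singleton_iff.1 hg) k
  -- translation by central elements of the axis
  have htrans : ∀ z : C, z ∈ (Q : Subgroup C) → (∀ g : C, g * z = z * g) →
      secCard Q z = secCard Q 1 := by
    intro z hz hc
    refine (Nat.card_congr ((Equiv.mulLeft z).subtypeEquiv fun g => ?_)).symm
    rw [Equiv.coe_mulLeft, pp_mul_of_commute Q (hc g).symm (Subgroup.orderOf_dvd_natCard _ hz)]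
    exact ⟨fun h => by rw [h, mul_one], fun h => mul_left_cancel (h.trans (mul_one z).symm)⟩
  -- weights inside the centralizer
  have hin : ∀ y : (Q : Subgroup C), weight Q (y : C) =
      if ((y : C) : G) ∈ A then (secCard Q 1 : ℂ) / Nat.card C else 1 / 18 := by
    intro y
    split_ifs with hyA
    · have hc : ∀ g : C, g * (y : C) = (y : C) * g := fun g =>
        Subtype.ext (hAall _ hyA g g.2)
      have htop : Subgroup.centralizer ({(y : C)} : Set C) = ⊤ :=
        eq_top_iff.2 fun g _ => Subgroup.mem_centralizer_singleton_iff.2 (hc g)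
      have hfus : fusCard Q (y : C) = 1 := by
        rw [fusCard, Nat.card_eq_one_iff_unique]
        refine ⟨⟨fun a b => ?_⟩, ⟨⟨y, IsConj.refl _⟩⟩⟩
        have hall : ∀ a : {w : (Q : Subgroup C) // IsConj (y : C) w}, (a.1 : C) = y := fun a => by
          obtain ⟨c, hcc⟩ := isConj_iff.1 a.2
          rw [← hcc, hc c, mul_inv_cancel_right]
        exact Subtype.ext (Subtype.ext ((hall a).trans (hall b).symm))
      rw [weight, htop, hfus, htrans _ y.2 hc, Subgroup.card_top, Nat.cast_one, mul_one]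
    · set y' : (R : Subgroup G) := ⟨((y : C) : G), (hQ _).1 y.2⟩ with hy'
      obtain ⟨a, ha, b, hb, he⟩ := exists_prod h9 hS y'
      simp only [hy'] at he
      have hb1 : b ≠ 1 := fun e => hyA (by rw [he, e, mul_one]; exact ha)
      have hnb : b ≠ b⁻¹ := ne_inv h9 (x := ⟨b, hS.leB hb⟩) fun e => hb1 (congrArg Subtype.val e)
      have hCn : ∀ c : C, (c : G) * a * (c : G)⁻¹ = a := fun c =>
        mul_inv_eq_iff_eq_mul.2 (hAall a ha c c.2)
      have hpair : ∀ w : (Q : Subgroup C), IsConj (y : C) w ↔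
          (((w : C) : G) = a * b ∨ ((w : C) : G) = a * b⁻¹) := by
        intro w
        constructor
        · intro h
          obtain ⟨c, hc⟩ := isConj_iff.1 h
          have hcG : (c : G) * ((y : C) : G) * (c : G)⁻¹ = ((w : C) : G) := congrArg Subtype.val hc
          obtain ⟨n, hn, hnw⟩ := fusion h9 (x := y') (y := ⟨_, (hQ _).1 w.2⟩)
            (isConj_iff.2 ⟨c, hcG⟩)
          simp only [hy'] at hnw
          rw [he, show n * (a * b) * n⁻¹ = (n * a * n⁻¹) * (n * b * n⁻¹) by group] at hnw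
          -- the `A`-component is unchanged
          have hm := act_mem hS hn
          rcases (hS.act n hn).1 with hfA | hfA
          · rw [hfA a ha] at hnw
            rcases (hS.act n hn).2 with h2 | h2 <;> rw [h2 b hb] at hnw <;> simp [← hnw]
          · by_cases ha1 : a = 1
            · rcases (hS.act n hn).2 with h2 | h2 <;>
                rw [ha1, hfA 1 A.one_mem, h2 b hb, inv_one] at hnw <;> rw [← hnw, ha1] <;> simp
            · exfalso
              have hdec : ∀ z : G, z ∈ C → z * (a * b) * z⁻¹ = a * (z * b * z⁻¹) := fun z hz => by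
                rw [show z * (a * b) * z⁻¹ = (z * a * z⁻¹) * (z * b * z⁻¹) by group,
                  mul_inv_eq_iff_eq_mul.2 (hAall a ha z hz)]
              have hw' : ((w : C) : G) = a * ((c : G) * b * (c : G)⁻¹) := by
                rw [← hcG, he, hdec c c.2]
              -- compare the cubes
              have hbR : ((c : G) * b * (c : G)⁻¹) ∈ (R : Subgroup G) := by
                have : (c : G) * b * (c : G)⁻¹ = a⁻¹ * ((w : C) : G) := by
                  rw [hw', inv_mul_cancel_left]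
                rw [this]
                exact (R : Subgroup G).mul_mem ((R : Subgroup G).inv_mem (hS.leA ha)) ((hQ _).1 w.2)
              have hbB : ((c : G) * b * (c : G)⁻¹) ∈ B :=
                ((split_mem_iff h9 hS (x := ⟨b, hS.leB hb⟩) (y := ⟨_, hbR⟩)
                  (isConj_iff.2 ⟨c, rfl⟩)).2).1 hb
              rw [hfA a ha, hw'] at hnw
              have := (uniq hS (A.inv_mem ha) ha (hm.2 b hb) hbB hnw).1
              exact ne_inv h9 (x := ⟨a, hS.leA ha⟩) (fun e => ha1 (congrArg Subtype.val e))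
                this.symm
        · obtain ⟨s, -, hs1, hs2⟩ := hS.reflA
          have hsC : s ∈ C := Subgroup.mem_centralizer_singleton_iff.2
            (mul_inv_eq_iff_eq_mul.1 (hs1 _ hxA))
          rintro (h | h)
          · rw [show (w : C) = y from Subtype.ext (h.trans he.symm)]
          · refine isConj_iff.2 ⟨⟨s, hsC⟩, Subtype.ext ?_⟩
            show s * ((y : C) : G) * s⁻¹ = _
            rw [h, he, show s * (a * b) * s⁻¹ = (s * a * s⁻¹) * (s * b * s⁻¹) by group,
              hs1 a ha, hs2 b hb]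
      have hfus : fusCard Q (y : C) = 2 := by
        have hy2 : a * b⁻¹ ∈ (R : Subgroup G) :=
          (R : Subgroup G).mul_mem (hS.leA ha) ((R : Subgroup G).inv_mem (hS.leB hb))
        let y2 : (Q : Subgroup C) := ⟨⟨a * b⁻¹, hle hy2⟩, hy2⟩
        rw [fusCard_eq {y, y2} fun w => ?_, Finset.card_pair]
        · intro e
          refine hnb (mul_left_cancel (a := a) ?_)
          rw [← he]
          exact congrArg (fun t : (Q : Subgroup C) => ((t : C) : G)) e
        · rw [hpair, Finset.mem_insert, Finset.mem_singleton, ← he]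
          constructor
          · rintro (h | h)
            · exact Or.inl (Subtype.ext (Subtype.ext h))
            · exact Or.inr (Subtype.ext (Subtype.ext h))
          · rintro (rfl | rfl)
            · exact Or.inl rfl
            · exact Or.inr rfl
      rw [weight_of_section (R := Q) 2 ?_ hQ9 hfus]
      · norm_num
      refine secCard_mul_of_burnside Q ?_ (Subgroup.orderOf_dvd_natCard _ y.2) ?_
      · intro z hz
        rw [Subgroup.mem_centralizer_singleton_iff]
        exact Subtype.ext (comm' h9 ⟨_, (hQ z).1 hz⟩ ⟨_, (hQ _).1 y.2⟩)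
      intro n hn hc z hz
      have hnR : (n : G) ∈ Subgroup.normalizer ((R : Subgroup G) : Set G) := by
        rw [Subgroup.mem_normalizer_iff] at hn ⊢
        intro w
        constructor
        · intro hw
          exact ((hn ⟨w, hle hw⟩).1 hw :)
        · intro hw
          have hwC : w ∈ C := by
            rw [show w = (n : G)⁻¹ * ((n : G) * w * (n : G)⁻¹) * n by group]
            exact C.mul_mem (C.mul_mem (C.inv_mem n.2) (hle hw)) n.2
          exact ((hn ⟨w, hwC⟩).2 hw :)
      have hfA : Fix (n : G) A := fix_eq h9 hS hnR hxA hx1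
        (mul_inv_eq_iff_eq_mul.2 (Subgroup.mem_centralizer_singleton_iff.1 n.2))
      have hcG := mul_inv_eq_iff_eq_mul.2 (congrArg Subtype.val hc)
      rw [Subgroup.coe_mul, he, show (n : G) * (a * b) * (n : G)⁻¹ =
        ((n : G) * a * (n : G)⁻¹) * ((n : G) * b * (n : G)⁻¹) by group, hfA a ha] at hcG
      have hfB : Fix (n : G) B := fix_eq h9 hS.symm hnR hb hb1 (mul_left_cancel hcG)
      exact Subtype.ext (fix_all h9 hS hfA hfB _ ((hQ z).1 hz))
  -- count
  have htot := sum_weight Q
  simp only [hin] at htot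
  rw [Finset.sum_ite, Finset.sum_const, Finset.sum_const] at htot
  have hcardA : (Finset.univ.filter fun y : (Q : Subgroup C) => ((y : C) : G) ∈ A).card = 3 := by
    rw [← Fintype.card_subtype, ← Nat.card_eq_fintype_card]
    refine Eq.trans ?_ hS.cardA
    exact Nat.card_congr
      { toFun := fun y => ⟨_, y.2⟩
        invFun := fun a => ⟨⟨⟨(a : G), hle (hS.leA a.2)⟩, hS.leA a.2⟩, a.2⟩
        left_inv := fun _ => rfl
        right_inv := fun _ => rfl }
  have hcompl := Finset.card_filter_add_card_filter_not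
    (s := (Finset.univ : Finset (Q : Subgroup C))) fun y => ((y : C) : G) ∈ A
  rw [Finset.card_univ, ← Nat.card_eq_fintype_card, hQ9, hcardA] at hcompl
  rw [hcardA, show (Finset.univ.filter fun y : (Q : Subgroup C) => ¬ ((y : C) : G) ∈ A).card = 6 by
    omega, nsmul_eq_mul, nsmul_eq_mul] at htot
  push_cast at htot
  -- back to `G`
  have hsec : secCard R (x : G) = secCard Q 1 := by
    rw [← htrans xC x.2 hzc]
    refine Nat.card_congr
      { toFun := fun g => ⟨⟨(g : G), Subgroup.mem_centralizer_singleton_iff.2 ?_⟩, ?_⟩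
        invFun := fun g => ⟨(g : C), ?_⟩
        left_inv := fun _ => rfl
        right_inv := fun _ => rfl }
    · have h := (commute_pp R (g : G)).eq
      rwa [g.2] at h
    · exact Subtype.ext ((hpp _).trans g.2)
    · rw [← hpp, g.2]
  have hfus : fusCard R (x : G) = 2 := by
    rw [fusCard_eq {x, x⁻¹} fun y => ?_, Finset.card_pair]
    · exact fun e => ne_inv h9 hx (congrArg Subtype.val e)
    simp only [Finset.mem_insert, Finset.mem_singleton]
    constructor
    · intro h
      obtain ⟨n, hn, hy⟩ := fusion h9 h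
      rcases (hS.act n hn).1 with h1 | h1
      · exact Or.inl (Subtype.ext (hy.symm.trans (h1 _ hxA)))
      · exact Or.inr (Subtype.ext (hy.symm.trans (h1 _ hxA)))
    · rintro (rfl | rfl)
      · exact IsConj.refl _
      · obtain ⟨n, -, h1, -⟩ := hS.reflB
        exact isConj_iff.2 ⟨n, h1 _ hxA⟩
  rw [weight, hsec, hfus]
  push_cast
  rw [← div_div, ← hC]
  linear_combination (1 / 6 : ℂ) * htot

end Cfsg.Agent.NineWeights7
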