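import Mathlib
import Cfsg.Prelude.Def_Transfer
import Cfsg.Agent.Lib.SymplecticType

/-!
2-groups with a non-trivial group of automorphisms of odd order in which no proper invariant normal
subgroup contains a non-cyclic abelian subgroup of order eight.
-/

set_option autoImplicit false
set_option linter.style.haveILetI false

namespace Cfsg.Agent.NoAbelianEight69

open Subgroup PGroupsExtraspecial PGroupsBasic
open scoped commutatorElement

variable {X : Type*} [Group X] [Finite X]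

/-- `Y` contains a non-cyclic abelian subgroup of order eight. -/
def Bad (Y : Subgroup X) : Prop :=
  ∃ A : Subgroup X, A ≤ Y ∧ IsMulCommutative A ∧ ¬ IsCyclic A ∧ Nat.card A = 8

omit [Finite X] in
theorem not_isCyclic_of_exp {A : Subgroup X} (h : ∀ a ∈ A, a ^ 4 = 1) (hc : Nat.card A = 8) :
    ¬ IsCyclic A := fun hcy => by
  obtain ⟨g, hg⟩ := hcy.exists_ofOrder_eq_natCard
  have h1 : g ^ 4 = 1 := Subtype.ext (by rw [SubmonoidClass.coe_pow]; exact h g g.2)
  have := orderOf_dvd_of_pow_eq_one h1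
  rw [hg, hc] at this
  norm_num at this

omit [Finite X] in
theorem exists_double (B : Subgroup X) {y : X} (hy : y ∉ B) (hy2 : y ^ 2 ∈ B)
    (hB : ∀ b ∈ B, b * y = y * b) : ∃ A : Subgroup X, B ≤ A ∧ y ∈ A ∧ Nat.card A = 2 * Nat.card B ∧
      ∀ a ∈ A, ∃ b ∈ B, a = b ∨ a = b * y := by
  have hyy : y * y ∈ B := by rwa [← pow_two]
  let A : Subgroup X :=
    { carrier := {a | ∃ b ∈ B, a = b ∨ a = b * y}
      one_mem' := ⟨1, B.one_mem, Or.inl rfl⟩
      mul_mem' := by
        rintro a a' ⟨b, hb, e | e⟩ ⟨b', hb', e' | e'⟩ <;> rw [e, e']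
        · exact ⟨_, B.mul_mem hb hb', Or.inl rfl⟩
        · exact ⟨_, B.mul_mem hb hb', Or.inr (mul_assoc _ _ _).symm⟩
        · exact ⟨_, B.mul_mem hb hb', Or.inr (by rw [mul_assoc, ← hB b' hb', mul_assoc])⟩
        · refine ⟨b * b' * (y * y), B.mul_mem (B.mul_mem hb hb') hyy, Or.inl ?_⟩
          rw [mul_assoc b y, ← mul_assoc y b', ← hB b' hb']
          group
      inv_mem' := by
        rintro a ⟨b, hb, rfl | rfl⟩
        · exact ⟨_, B.inv_mem hb, Or.inl rfl⟩
        · refine ⟨(y * y)⁻¹ * b⁻¹, B.mul_mem (B.inv_mem hyy) (B.inv_mem hb), Or.inr ?_⟩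
          rw [mul_assoc, hB _ (B.inv_mem hb)]
          group }
  refine ⟨A, fun b hb => ⟨b, hb, Or.inl rfl⟩, ⟨1, B.one_mem, Or.inr (one_mul y).symm⟩, ?_, fun a ha => ha⟩
  have hle : B ≤ A := fun b hb => ⟨b, hb, Or.inl rfl⟩
  have hidx : (B.subgroupOf A).index = 2 := by
    rw [Subgroup.index_eq_two_iff]
    refine ⟨⟨y, ⟨1, B.one_mem, Or.inr (one_mul y).symm⟩⟩, fun ⟨a, ha⟩ => ?_⟩
    simp only [Subgroup.mem_subgroupOf, Subgroup.coe_mul]
    obtain ⟨b, hb, rfl | rfl⟩ := ha
    · exact Or.inr ⟨hb, fun h => hy (by simpa using B.mul_mem (B.inv_mem hb) h)⟩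
    · exact Or.inl ⟨by rw [mul_assoc]; exact B.mul_mem hb hyy,
        fun h => hy (by simpa using B.mul_mem (B.inv_mem hb) h)⟩
  rw [← (B.subgroupOf A).card_mul_index, hidx, Nat.card_congr (subgroupOfEquivOfLe hle).toEquiv, mul_comm]

omit [Finite X] in
theorem bad_of_extend {Y B : Subgroup X} (hBY : B ≤ Y) (hB : Nat.card B = 4)
    (hBc : ∀ a ∈ B, ∀ b ∈ B, a * b = b * a) (hB4 : ∀ b ∈ B, b ^ 4 = 1) {y : X} (hyY : y ∈ Y)
    (hy : y ∉ B) (hy2 : y ^ 2 ∈ B) (hy4 : y ^ 4 = 1) (hc : ∀ b ∈ B, b * y = y * b) : Bad Y := by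
  obtain ⟨A, -, -, hA, hform⟩ := exists_double B hy hy2 hc
  refine ⟨A, fun a ha => ?_, ⟨⟨fun a a' => ?_⟩⟩, not_isCyclic_of_exp (fun a ha => ?_) (by rw [hA, hB]), by rw [hA, hB]⟩
  · obtain ⟨b, hb, rfl | rfl⟩ := hform a ha
    · exact hBY hb
    · exact Y.mul_mem (hBY hb) hyY
  · apply Subtype.ext
    show (a : X) * a' = a' * a
    have key : ∀ x ∈ A, Commute x y ∧ ∀ b ∈ B, Commute x b := fun x hx => by
      obtain ⟨b', hb', rfl | rfl⟩ := hform x hx
      · exact ⟨hc _ hb', fun b hb => hBc _ hb' b hb⟩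
      · exact ⟨Commute.mul_left (hc _ hb') (Commute.refl y),
          fun b hb => Commute.mul_left (hBc _ hb' b hb) (hc b hb).symm⟩
    obtain ⟨b', hb', e | e⟩ := hform a' a'.2 <;> rw [e]
    · exact (key a a.2).2 _ hb'
    · exact ((key a a.2).2 _ hb').mul_right (key a a.2).1
  · obtain ⟨b, hb, rfl | rfl⟩ := hform a ha
    · exact hB4 _ hb
    · rw [Commute.mul_pow (hc b hb), hB4 b hb, hy4, one_mul]

/-- An element of order four generates a subgroup that is `bad` with any further commuting element. -/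
theorem bad_of_four {Y : Subgroup X} {w y : X} (hwY : w ∈ Y) (hw : orderOf w = 4) (hyY : y ∈ Y)
    (hy : y ∉ zpowers w) (hy2 : y ^ 2 ∈ zpowers w) (hy4 : y ^ 4 = 1) (hc : Commute w y) : Bad Y := by
  refine bad_of_extend (zpowers_le.2 hwY) (by rw [Nat.card_zpowers, hw]) ?_ ?_ hyY hy hy2 hy4 ?_
  · rintro a ⟨i, rfl⟩ b ⟨j, rfl⟩; exact zpow_mul_comm w i j
  · rintro a ⟨i, rfl⟩
    show (w ^ i) ^ 4 = 1
    rw [← zpow_natCast, zpow_comm, zpow_natCast, ← hw, pow_orderOf_eq_one, one_zpow]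
  · rintro a ⟨i, rfl⟩; exact (hc.zpow_left i).eq

omit [Finite X] in
theorem Bad.mono {Y Y' : Subgroup X} (h : Y ≤ Y') : Bad Y → Bad Y' := fun ⟨A, hA, r⟩ => ⟨A, hA.trans h, r⟩

/-! ### Automorphisms of odd order -/

theorem pow_fix (a : MulAut X) {x : X} (h : a x = x) : ∀ n : ℕ, (a ^ n) x = x
  | 0 => rfl
  | n + 1 => by rw [pow_succ, MulAut.mul_apply, h, pow_fix a h n]

theorem fix_of_sq {a : MulAut X} (ha : Odd (orderOf a)) {x : X} (h : a (a x) = x) : a x = x := by
  obtain ⟨k, hk⟩ := ha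
  have h1 : (a ^ (2 * k)) x = x := by
    rw [pow_mul]; exact pow_fix (a ^ 2) (by rw [pow_two, MulAut.mul_apply]; exact h) k
  have h2 : (a ^ (2 * k + 1)) x = x := by rw [← hk, pow_orderOf_eq_one]; rfl
  rw [pow_succ', MulAut.mul_apply, h1] at h2
  exact h2

theorem fix_of_stable (h2 : IsPGroup 2 X) {a : MulAut X} (ha : Odd (orderOf a)) {x : X}
    (hd : a (x⁻¹ * a x) = x⁻¹ * a x) : a x = x := by
  set d := x⁻¹ * a x with hddef
  have e : a x = x * d := by rw [hddef, mul_inv_cancel_left]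
  have hn : ∀ n : ℕ, (a ^ n) x = x * d ^ n := by
    intro n
    induction n with
    | zero => simp
    | succ n ih => rw [pow_succ', MulAut.mul_apply, ih, map_mul, e, map_pow, hd, pow_succ', mul_assoc]
  have h1 := hn (orderOf a)
  rw [pow_orderOf_eq_one, MulAut.one_apply, left_eq_mul] at h1
  obtain ⟨k, hk⟩ := IsPGroup.iff_orderOf.1 h2 d
  have := orderOf_dvd_of_pow_eq_one h1
  rw [hk] at this
  have hk0 : k = 0 := by
    by_contra hk0
    exact (Nat.not_even_iff_odd.2 ha) (even_iff_two_dvd.2 ((dvd_pow_self 2 hk0).trans this))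
  rw [e, orderOf_eq_one_iff.1 (by rw [hk, hk0, pow_zero] : orderOf d = 1), mul_one]

theorem fix_cyclic (h2 : IsPGroup 2 X) {a : MulAut X} (ha : Odd (orderOf a)) {C : Subgroup X}
    (hC : IsCyclic C) (hinv : ∀ c ∈ C, a c ∈ C) : ∀ c ∈ C, a c = c := by
  obtain ⟨g, hg⟩ := (Subgroup.isCyclic_iff_exists_zpowers_eq_top C).1 hC
  have hfix : a g = g := by
    obtain ⟨k, hk⟩ := IsPGroup.iff_orderOf.1 h2 g
    obtain ⟨r, hr⟩ := mem_zpowers_iff.1 (show a g ∈ zpowers g from hg.symm ▸ hinv g (hg ▸ mem_zpowers g))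
    have hn : ∀ n : ℕ, (a ^ n) g = g ^ (r ^ n) := by
      intro n
      induction n with
      | zero => simp
      | succ n ih => rw [pow_succ', MulAut.mul_apply, ih, map_zpow, ← hr, ← zpow_mul, pow_succ']
    have h1 := hn (orderOf a)
    rw [pow_orderOf_eq_one, MulAut.one_apply] at h1
    have h3 : ((r : ZMod (orderOf g))) ^ orderOf a = 1 := by
      have h4 : g ^ (r ^ orderOf a) = g ^ (1 : ℤ) := by rw [zpow_one]; exact h1.symm
      rw [PGroupsCyclic.zpow_eq_iff_dvd] at h4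
      have := (ZMod.intCast_eq_intCast_iff_dvd_sub (1 : ℤ) (r ^ orderOf a) (orderOf g)).2 h4
      push_cast at this
      exact this.symm
    haveI : NeZero (orderOf g) := ⟨(orderOf_pos g).ne'⟩
    obtain ⟨u, hu⟩ := IsUnit.of_pow_eq_one h3 (orderOf_pos a).ne'
    have hu1 : u = 1 := by
      refine orderOf_eq_one_iff.1 (Nat.eq_one_of_dvd_coprimes (k := orderOf u) ?_
        (orderOf_dvd_of_pow_eq_one (n := orderOf a) (Units.ext (by rw [Units.val_pow_eq_pow_val, hu, h3, Units.val_one])))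
        (orderOf_dvd_natCard u))
      rw [Nat.card_eq_fintype_card, ZMod.card_units_eq_totient, hk]
      rcases k with _ | k
      · simp
      · rw [Nat.totient_prime_pow_succ Nat.prime_two]
        simpa using (Nat.coprime_two_right.2 ha).pow_right k
    rw [← hr]
    have h5 : ((r : ℤ) : ZMod (orderOf g)) = ((1 : ℤ) : ZMod (orderOf g)) := by
      rw [← hu, hu1]; simp
    conv_rhs => rw [← zpow_one g]
    rw [PGroupsCyclic.zpow_eq_iff_dvd]
    exact (ZMod.intCast_eq_intCast_iff_dvd_sub (1 : ℤ) r (orderOf g)).1 h5.symm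
  intro c hc
  obtain ⟨i, rfl⟩ := mem_zpowers_iff.1 (hg.symm ▸ hc : c ∈ zpowers g)
  rw [map_zpow, hfix]

theorem fix_four {a : MulAut X} (ha : Odd (orderOf a)) {V : Subgroup X} (hV : Nat.card V = 4)
    (hinv : ∀ v ∈ V, a v ∈ V) {z : X} (hzV : z ∈ V) (hz1 : z ≠ 1) (hz2 : z ^ 2 = 1) (hz : a z = z) :
    ∀ v ∈ V, a v = v := by
  classical
  intro v hv
  by_cases hv1 : v = 1
  · rw [hv1, map_one]
  by_cases hvz : v = z
  · rw [hvz, hz]
  have hvz' : v * z ≠ v := fun e => hz1 (mul_eq_left.1 e)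
  have hvz1 : v * z ≠ 1 := fun e => hvz (by
    rw [eq_inv_of_mul_eq_one_left e, inv_eq_of_mul_eq_one_right (by rw [← pow_two, hz2])])
  have hvzz : v * z ≠ z := fun e => hv1 (mul_eq_right.1 e)
  haveI : Fintype V := Fintype.ofFinite _
  have hall : ∀ u ∈ V, u = 1 ∨ u = z ∨ u = v ∨ u = v * z := by
    intro u hu
    have hsub : ({1, z, v, v * z} : Finset X) ⊆ Finset.univ.image (Subtype.val : V → X) := by
      intro s hs
      simp only [Finset.mem_insert, Finset.mem_singleton] at hs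
      rcases hs with rfl | rfl | rfl | rfl <;> simp [V.one_mem, hzV, hv, V.mul_mem hv hzV]
    have heq := Finset.eq_of_subset_of_card_le hsub (by
      rw [Finset.card_image_of_injective _ Subtype.val_injective, Finset.card_univ, ← Nat.card_eq_fintype_card, hV]
      rw [Finset.card_insert_of_notMem (by simp [Ne.symm hz1, Ne.symm hv1, Ne.symm hvz1]),
        Finset.card_insert_of_notMem (by simp [Ne.symm hvz, Ne.symm hvzz]), Finset.card_pair hvz'.symm])
    have : u ∈ ({1, z, v, v * z} : Finset X) := heq ▸ Finset.mem_image.2 ⟨⟨u, hu⟩, Finset.mem_univ _, rfl⟩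
    simpa using this
  rcases hall _ (hinv v hv) with e | e | e | e
  · exact absurd (by simpa using e) hv1
  · exact absurd (a.injective (e.trans hz.symm)) hvz
  · exact e
  · refine fix_of_sq ha ?_
    rw [e, map_mul, e, hz, mul_assoc, ← pow_two, hz2, mul_one]

/-- A `K`-invariant characteristic subgroup. -/
theorem char_inv (Y : Subgroup X) [hY : Y.Characteristic] (a : MulAut X) : ∀ y ∈ Y, a y ∈ Y :=
  fun y hy => (hY.fixed a).ge hy

/-- Only trivial automorphisms fix a normal subgroup and its centraliser pointwise. -/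
theorem eq_one_of_fix (h2 : IsPGroup 2 X) {a : MulAut X} (ha : Odd (orderOf a)) (D : Subgroup X) [D.Normal]
    (hD : ∀ d ∈ D, a d = d) (hC : ∀ c ∈ centralizer (D : Set X), a c = c) : a = 1 := by
  ext x
  refine fix_of_stable h2 ha (hC _ (mem_centralizer_iff.2 fun d hd => ?_))
  have h1 := hD _ (‹D.Normal›.conj_mem d hd x)
  rw [map_mul, map_mul, map_inv, hD d hd] at h1
  calc d * (x⁻¹ * a x) = x⁻¹ * (x * d * x⁻¹) * a x := by group
    _ = x⁻¹ * (a x * d * (a x)⁻¹) * a x := by rw [h1]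
    _ = _ := by group

/-! ### Small extraspecial groups -/

theorem mem_zpowers_two {z g : X} (hz : z ^ 2 = 1) (hg : g ∈ zpowers z) : g = 1 ∨ g = z := by
  obtain ⟨i, rfl⟩ := mem_zpowers_iff.1 hg
  rcases Int.even_or_odd i with ⟨j, rfl⟩ | ⟨j, rfl⟩
  · left; rw [← two_mul, zpow_mul, zpow_ofNat, hz, one_zpow]
  · right; rw [zpow_add_one, zpow_mul, zpow_ofNat, hz, one_zpow, one_mul]

theorem not_comm_of_center {Y : Subgroup X} {z : X} (hcen : ∀ y ∈ Y, (∀ u ∈ Y, u * y = y * u) → y ∈ zpowers z)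
    (hne : ¬ Y ≤ zpowers z) : ∃ u ∈ Y, ∃ v ∈ Y, ⁅u, v⁆ ≠ 1 := by
  by_contra hno
  push Not at hno
  exact hne fun y hy => hcen y hy fun u hu => commutatorElement_eq_one_iff_mul_comm.1 (hno u hu y hy)

theorem card_eq_eight (h2 : IsPGroup 2 X) {Y : Subgroup X} {z : X} (hz : z ∈ center X) (hzo : orderOf z = 2)
    (hzY : z ∈ Y) (hcomm : ∀ u ∈ Y, ∀ v ∈ Y, ⁅u, v⁆ ∈ zpowers z) (hsq : ∀ y ∈ Y, y ^ 2 ∈ zpowers z)
    (hcen : ∀ y ∈ Y, (∀ u ∈ Y, u * y = y * u) → y ∈ zpowers z) (hne : ¬ Y ≤ zpowers z) (hb : ¬ Bad Y) :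
    Nat.card Y = 8 := by
  have hz2 : z ^ 2 = 1 := hzo ▸ pow_orderOf_eq_one z
  have hp4 : ∀ y ∈ Y, y ^ 4 = 1 := fun y hy => by
    rw [pow_mul y 2 2]
    rcases mem_zpowers_two hz2 (hsq y hy) with e | e <;> rw [e]
    · exact one_pow 2
    · exact hz2
  obtain ⟨u, huY, huz⟩ := SetLike.not_le_iff_exists.1 hne
  have hzc : ∀ b ∈ zpowers z, ∀ y : X, b * y = y * b := fun b hb y => by
    obtain ⟨i, rfl⟩ := mem_zpowers_iff.1 hb
    exact (mem_center_iff.1 (Subgroup.zpow_mem _ hz i) y).symm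
  obtain ⟨B, hzB, huB, hB4, hform⟩ := exists_double (zpowers z) huz (hsq u huY) (fun b hb => hzc b hb u)
  rw [Nat.card_zpowers, hzo] at hB4
  have hBY : B ≤ Y := fun b hb => by
    obtain ⟨c, hc, rfl | rfl⟩ := hform b hb
    · exact zpowers_le.2 hzY hc
    · exact Y.mul_mem (zpowers_le.2 hzY hc) huY
  have hBc : ∀ v : X, Commute v u → ∀ b ∈ B, b * v = v * b := fun v hv b hb => by
    obtain ⟨c, hc, rfl | rfl⟩ := hform b hb
    · exact hzc _ hc v
    · exact ((show Commute c v from hzc c hc v).mul_left hv.symm).eq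
  have hCB : ∀ v ∈ Y, Commute v u → v ∈ B := fun v hv hvu => by
    by_contra hvB
    refine hb (bad_of_extend hBY (by rw [hB4]) (fun a ha b hb => ?_) (fun b hb => hp4 b (hBY hb)) hv hvB
      (hzB (hsq v hv)) (hp4 v hv) (hBc v hvu))
    obtain ⟨c, hc, rfl | rfl⟩ := hform a ha
    · exact hzc _ hc b
    · exact ((show Commute c b from hzc c hc b).mul_left (hBc u (Commute.refl u) b hb).symm).eq
  let f : Y →* X := MonoidHom.mk' (fun v => ⁅(v : X), u⁆) fun v w => by
    show ⁅(v : X) * w, u⁆ = ⁅(v : X), u⁆ * ⁅(w : X), u⁆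
    exact commutatorElement_mul_left_of_central (zpowers_le.2 hz (hcomm _ w.2 u huY))
  have hker : Nat.card f.ker ≤ 4 := by
    rw [← Subgroup.card_map_of_injective Y.subtype_injective, show (4 : ℕ) = 2 * 2 from rfl, ← hB4]
    refine Subgroup.card_le_of_le ?_
    rintro _ ⟨v, hv, rfl⟩
    exact hCB v v.2 (commutatorElement_eq_one_iff_mul_comm.1 (MonoidHom.mem_ker.1 hv))
  have hran : Nat.card f.range ≤ 2 := by
    rw [← hzo, ← Nat.card_zpowers]
    refine Subgroup.card_le_of_le ?_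
    rintro _ ⟨v, rfl⟩
    exact hcomm _ v.2 u huY
  have hle : Nat.card Y ≤ 8 := by
    rw [← f.ker.card_mul_index, Subgroup.index_ker]
    calc Nat.card f.ker * Nat.card f.range ≤ 4 * 2 := Nat.mul_le_mul hker hran
      _ = 8 := rfl
  obtain ⟨u', hu', v', hv', hne'⟩ := not_comm_of_center hcen hne
  obtain ⟨k, hk⟩ := (h2.to_subgroup Y).exists_card_eq
  have hk3 : k = 3 := by
    rw [hk] at hle
    have hk3 : k ≤ 3 := (Nat.pow_le_pow_iff_right (by norm_num : 1 < 2)).1 (hle : 2 ^ k ≤ 2 ^ 3)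
    by_contra hne3
    apply hne'
    rw [commutatorElement_eq_one_iff_mul_comm]
    have h2k : Nat.card Y ∣ 2 ^ 2 := hk ▸ pow_dvd_pow 2 (by omega)
    have hcomm2 : ∀ s t : Y, s * t = t * s := by
      by_cases hk2 : k = 2
      · subst hk2
        exact IsPGroup.commutative_of_card_eq_prime_sq (p := 2) hk
      · haveI : IsCyclic Y := by
          rcases (show k = 0 ∨ k = 1 by omega) with rfl | rfl
          · haveI : Subsingleton Y := (Nat.card_eq_one_iff_unique.1 (by simpa using hk)).1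
            exact isCyclic_of_subsingleton
          · exact isCyclic_of_prime_card (p := 2) (by simpa using hk)
        exact fun s t => IsCyclic.commGroup.mul_comm s t
    exact congrArg Subtype.val (hcomm2 ⟨u', hu'⟩ ⟨v', hv'⟩)
  rw [hk, hk3]; rfl

theorem quaternion_squares {Y : Subgroup X} {z : X} (hz : z ∈ center X)
    (hzo : orderOf z = 2) (hzY : z ∈ Y) (h8 : Nat.card Y = 8) (hcomm : ∀ u ∈ Y, ∀ v ∈ Y, ⁅u, v⁆ ∈ zpowers z)
    (hsq : ∀ y ∈ Y, y ^ 2 ∈ zpowers z)
    (hcen : ∀ y ∈ Y, (∀ u ∈ Y, u * y = y * u) → y ∈ zpowers z) {a : MulAut X} (ha : Odd (orderOf a))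
    (hinv : ∀ y ∈ Y, a y ∈ Y) (hz' : a z = z) (hmove : ∃ y ∈ Y, a y ≠ y) :
    ∀ y ∈ Y, y ∉ zpowers z → y ^ 2 = z := by
  classical
  have hz2 : z ^ 2 = 1 := hzo ▸ pow_orderOf_eq_one z
  have hz1 : z ≠ 1 := fun e => by rw [e, orderOf_one] at hzo; norm_num at hzo
  intro y hy hyz
  by_contra hne
  have hy2 : y ^ 2 = 1 := (mem_zpowers_two hz2 (hsq y hy)).resolve_right hne
  obtain ⟨c, hcY, hc⟩ : ∃ c ∈ Y, c ^ 2 = z := by
    by_contra hno
    push Not at hno
    refine hyz (hcen y hy fun u hu => ?_)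
    have hall : ∀ v ∈ Y, v ^ 2 = 1 := fun v hv => (mem_zpowers_two hz2 (hsq v hv)).resolve_right (hno v hv)
    have e : ∀ v ∈ Y, v⁻¹ = v := fun v hv => inv_eq_of_mul_eq_one_right (by rw [← pow_two]; exact hall v hv)
    conv_lhs => rw [← e _ (Y.mul_mem hu hy), mul_inv_rev, e y hy, e u hu]
  have hco : orderOf c = 4 := by
    refine orderOf_eq_prime_pow (p := 2) (n := 1) ?_ ?_
    · rw [pow_one, hc]; exact hz1
    · rw [show 2 ^ (1 + 1) = 2 * 2 from rfl, pow_mul, hc, hz2]
  have hcpow : ∀ i : ℤ, (c ^ i) ^ 2 = z ^ i := fun i => by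
    rw [← zpow_natCast, zpow_comm, zpow_natCast, hc]
  have hyc : y ∉ zpowers c := fun h => by
    obtain ⟨i, rfl⟩ := mem_zpowers_iff.1 h
    rw [hcpow] at hy2
    have : (orderOf z : ℤ) ∣ i := orderOf_dvd_iff_zpow_eq_one.2 hy2
    rw [hzo] at this
    obtain ⟨j, rfl⟩ := this
    refine hyz (mem_zpowers_iff.2 ⟨j, ?_⟩)
    rw [← hc, ← zpow_natCast c 2, ← zpow_mul]
  have hcases : ∀ u ∈ Y, ∃ i : ℤ, u = c ^ i ∨ u = y * c ^ i := by
    haveI : Fintype Y := Fintype.ofFinite _
    have hidx : ((zpowers c).subgroupOf Y).index = 2 := by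
      have h1 := ((zpowers c).subgroupOf Y).card_mul_index
      rw [Nat.card_congr (subgroupOfEquivOfLe (zpowers_le.2 hcY)).toEquiv, Nat.card_zpowers, hco, h8] at h1
      omega
    intro u hu
    have h1 := Subgroup.mul_mem_iff_of_index_two hidx (a := ⟨y, hy⟩⁻¹) (b := ⟨u, hu⟩)
    simp only [Subgroup.mem_subgroupOf, Subgroup.coe_mul, InvMemClass.coe_inv, inv_mem_iff] at h1
    by_cases huc : u ∈ zpowers c
    · obtain ⟨i, rfl⟩ := mem_zpowers_iff.1 huc
      exact ⟨i, Or.inl rfl⟩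
    · obtain ⟨i, hi⟩ := mem_zpowers_iff.1 (h1.2 (iff_of_false hyc huc))
      exact ⟨i, Or.inr (by rw [hi, mul_inv_cancel_left])⟩
  have hyconj : c * y = y * c * z := by
    rcases mem_zpowers_two hz2 (hcomm c hcY y hy) with e | e
    · exfalso
      have hcy := commutatorElement_eq_one_iff_mul_comm.1 e
      have := hcen c hcY fun u hu => by
        obtain ⟨i, rfl | rfl⟩ := hcases u hu
        · exact (Commute.zpow_self c i).eq
        · exact ((show Commute y c from hcy.symm).mul_left (Commute.zpow_self c i)).eq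
      rcases mem_zpowers_two hz2 this with e' | e'
      · rw [e', orderOf_one] at hco; norm_num at hco
      · rw [e', hzo] at hco; norm_num at hco
    · calc c * y = ⁅c, y⁆ * (y * c) := by rw [commutatorElement_def]; group
        _ = _ := by rw [e, (mem_center_iff.1 hz (y * c)).symm]
  have hsq1 : ∀ i : ℤ, (y * c ^ i) ^ 2 = 1 := fun i => by
    have e : c ^ i * y = y * (c * z) ^ i := by
      have : SemiconjBy y (c * z) c := (by rw [← mul_assoc]; exact hyconj.symm : y * (c * z) = c * y)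
      exact (this.zpow_right i).eq.symm
    have hcz : Commute c z := (mem_center_iff.1 hz c)
    rw [pow_two, mul_assoc y, ← mul_assoc (c ^ i) y, e, hcz.mul_zpow]
    calc y * (y * (c ^ i * z ^ i) * c ^ i) = y * y * (c ^ i * (z ^ i * c ^ i)) := by group
      _ = c ^ i * (c ^ i * z ^ i) := by
        rw [← pow_two, hy2, one_mul, ((hcz.zpow_zpow i i).symm).eq]
      _ = 1 := by
        rw [← mul_assoc, ← pow_two (c ^ i), hcpow, ← pow_two, ← zpow_natCast, zpow_comm, zpow_natCast, hz2, one_zpow]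
  have hac : a c = c := by
    have hacz : (a c) ^ 2 = z := by rw [← map_pow, hc, hz']
    obtain ⟨i, e | e⟩ := hcases _ (hinv c hcY)
    · refine fix_of_sq ha ?_
      rw [e, hcpow] at hacz
      rw [e, map_zpow, e, ← zpow_mul]
      have hodd : Odd i := by
        rcases Int.even_or_odd i with ⟨j, rfl⟩ | ho
        · rw [← two_mul, zpow_mul, zpow_ofNat, hz2, one_zpow] at hacz
          exact absurd hacz.symm hz1
        · exact ho
      obtain ⟨j, rfl⟩ := hodd
      conv_rhs => rw [← zpow_one c]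
      rw [PGroupsCyclic.zpow_eq_iff_dvd, hco]
      exact ⟨j * j + j, by push_cast; ring⟩
    · rw [e, hsq1] at hacz
      exact absurd hacz.symm hz1
  have hacn : ∀ i : ℤ, a (c ^ i) = c ^ i := fun i => by rw [map_zpow, hac]
  have hay : a y = y := by
    obtain ⟨i, e | e⟩ := hcases _ (hinv y hy)
    · exact absurd (by rw [← a.injective (e.trans (hacn i).symm) |>.symm]; exact zpow_mem (mem_zpowers c) i) hyc
    · have hn : ∀ n : ℕ, (a ^ n) y = y * c ^ (i * n) := by
        intro n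
        induction n with
        | zero => simp
        | succ n ih =>
          rw [pow_succ', MulAut.mul_apply, ih, map_mul, e, hacn, mul_assoc, ← zpow_add]
          congr 2; push_cast; ring
      have h1 := hn (orderOf a)
      rw [pow_orderOf_eq_one, MulAut.one_apply, left_eq_mul, ← orderOf_dvd_iff_zpow_eq_one, hco] at h1
      obtain ⟨k, hk⟩ := ha
      have h4 : (4 : ℤ) ∣ i := by
        refine Int.dvd_of_dvd_mul_left_of_gcd_one (b := i) (c := (orderOf a : ℤ)) h1 ?_
        rw [hk, show (4 : ℤ) = ((4 : ℕ) : ℤ) from rfl, Int.gcd_natCast_natCast]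
        exact Nat.Coprime.pow_left 2 (Nat.coprime_two_left.2 ⟨k, rfl⟩)
      obtain ⟨j, rfl⟩ := h4
      rw [e, zpow_mul, show c ^ (4 : ℤ) = 1 by rw [zpow_ofNat, ← hco, pow_orderOf_eq_one], one_zpow, mul_one]
  obtain ⟨w, hwY, hw⟩ := hmove
  obtain ⟨i, rfl | rfl⟩ := hcases w hwY
  · exact hw (hacn i)
  · exact hw (by rw [map_mul, hay, hacn])

theorem quaternion_iso {Y : Subgroup X} {z : X} (hzY : z ∈ Y) (hz : z ∈ center X) (hzo : orderOf z = 2)
    (h8 : Nat.card Y = 8) (hcomm : ∀ u ∈ Y, ∀ v ∈ Y, ⁅u, v⁆ ∈ zpowers z)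
    (hcen : ∀ y ∈ Y, (∀ u ∈ Y, u * y = y * u) → y ∈ zpowers z)
    (hq : ∀ y ∈ Y, y ∉ zpowers z → y ^ 2 = z) : Nonempty (Y ≃* QuaternionGroup (2 ^ (0 + 1))) := by
  have hz2 : z ^ 2 = 1 := hzo ▸ pow_orderOf_eq_one z
  have hz1 : z ≠ 1 := fun e => by rw [e, orderOf_one] at hzo; norm_num at hzo
  obtain ⟨c, hc, c', hc', hne⟩ := not_comm_of_center hcen (fun hle => by
    have := Subgroup.card_le_of_le hle
    rw [Nat.card_zpowers, hzo, h8] at this
    omega)
  have hzc : ∀ v ∈ zpowers z, ∀ u : X, Commute v u := fun v hv u =>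
    (mem_center_iff.1 (zpowers_le.2 hz hv) u).symm
  have hcz : c ∉ zpowers z := fun h => hne (commutatorElement_eq_one_iff_mul_comm.2 (hzc c h c').eq)
  have hcz' : c' ∉ zpowers z := fun h => hne (commutatorElement_eq_one_iff_mul_comm.2 (hzc c' h c).symm.eq)
  have hco : orderOf c = 4 := by
    refine orderOf_eq_prime_pow (p := 2) (n := 1) ?_ ?_
    · rw [pow_one, hq c hc hcz]; exact hz1
    · rw [show 2 ^ (1 + 1) = 2 * 2 from rfl, pow_mul, hq c hc hcz, hz2]
  refine PGroupsCyclic.nonempty_mulEquiv_quaternion (N := 2 ^ (0 + 1)) (x := ⟨c, hc⟩) (y := ⟨c', hc'⟩)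
    (by rw [Subgroup.orderOf_mk, hco]; rfl) (fun h => ?_) ?_ ?_ (by rw [h8]; rfl)
  · obtain ⟨i, hi⟩ := mem_zpowers_iff.1 h
    have : c ^ i = c' := by simpa using congrArg Subtype.val hi
    exact hne (commutatorElement_eq_one_iff_mul_comm.2 (by rw [← this]; exact (Commute.self_zpow c i).eq))
  · apply Subtype.ext
    show c' * c * c'⁻¹ = c⁻¹
    have e : ⁅c', c⁆ = z := (mem_zpowers_two hz2 (hcomm _ hc' _ hc)).resolve_left fun e =>
      hne (by rw [← commutatorElement_inv, e, inv_one])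
    have e2 : c⁻¹ = z * c := by
      apply inv_eq_of_mul_eq_one_right
      rw [← mul_assoc, mem_center_iff.1 hz c, mul_assoc, ← pow_two, hq c hc hcz, ← pow_two, hz2]
    rw [e2, ← e, commutatorElement_def]; group
  · apply Subtype.ext
    show c' ^ 2 = c ^ (2 ^ (0 + 1))
    rw [show 2 ^ (0 + 1) = 2 from rfl, hq c hc hcz, hq c' hc' hcz']

/-! ### The structure theorem -/

/-- The invariant subgroup condition. -/
def Minimal (K : Subgroup (MulAut X)) : Prop :=
  ∀ Y : Subgroup X, Y ≠ ⊤ → Y.Normal → (∀ a ∈ K, ∀ y ∈ Y, a y ∈ Y) → ¬ Bad Y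

variable {K : Subgroup (MulAut X)}

theorem odd_orderOf (hK : Odd (Nat.card K)) {a : MulAut X} (ha : a ∈ K) : Odd (orderOf a) :=
  hK.of_dvd_nat (Subgroup.orderOf_dvd_natCard K ha)

theorem exists_outside {B C : Subgroup X} (h2 : IsPGroup 2 X) (h : ¬ C ≤ B) :
    ∃ y ∈ C, y ∉ B ∧ y ^ 2 ∈ B := by
  obtain ⟨x, hx, hxB⟩ := SetLike.not_le_iff_exists.1 h
  obtain ⟨k, hk⟩ := IsPGroup.iff_orderOf.1 h2 x
  classical
  have hex : ∃ j, x ^ 2 ^ j ∈ B := ⟨k, by rw [← hk, pow_orderOf_eq_one]; exact B.one_mem⟩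
  have h0 : Nat.find hex ≠ 0 := fun e => hxB (by
    have := Nat.find_spec hex
    rwa [e, pow_zero, pow_one] at this)
  obtain ⟨j, hj⟩ := Nat.exists_eq_succ_of_ne_zero h0
  refine ⟨x ^ 2 ^ j, pow_mem hx _, Nat.find_min hex (by omega), ?_⟩
  rw [← pow_mul, ← pow_succ, ← Nat.succ_eq_add_one, ← hj]
  exact Nat.find_spec hex

/-- A cyclic characteristic subgroup of order at least four is central. -/
theorem le_center_of_cyclic (h2 : IsPGroup 2 X) (hK : Odd (Nat.card K)) (hne : K ≠ ⊥) (hmin : Minimal K)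
    (D : Subgroup X) [D.Characteristic] (hD : IsCyclic D) (h4 : 4 ≤ Nat.card D) : D ≤ center X := by
  by_contra hnc
  set C := centralizer (D : Set X) with hC
  have hCne : C ≠ ⊤ := fun e => hnc fun d hd => mem_center_iff.2 fun x =>
    (mem_centralizer_iff.1 (show x ∈ C from e ▸ mem_top x) d hd).symm
  have hfixD : ∀ a ∈ K, ∀ d ∈ D, a d = d := fun a ha =>
    fix_cyclic h2 (odd_orderOf hK ha) hD (char_inv D a)
  have hCinv : ∀ a ∈ K, ∀ c ∈ C, a c ∈ C := fun a ha c hc => mem_centralizer_iff.2 fun d hd => by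
    rw [← hfixD a ha d hd, ← map_mul, ← map_mul, mem_centralizer_iff.1 hc d hd]
  have hnb := hmin C hCne inferInstance hCinv
  obtain ⟨g, hg⟩ := (Subgroup.isCyclic_iff_exists_zpowers_eq_top D).1 hD
  obtain ⟨k, hk⟩ := IsPGroup.iff_orderOf.1 h2 g
  have hk2 : 2 ≤ k := by
    rw [← hg, Nat.card_zpowers, hk] at h4
    exact (Nat.pow_le_pow_iff_right (by norm_num : 1 < 2)).1 (h4 : 2 ^ 2 ≤ 2 ^ k)
  set w := g ^ 2 ^ (k - 2) with hw
  have hwo : orderOf w = 4 := by
    rw [hw, orderOf_pow' g (by positivity), hk, Nat.gcd_eq_right (pow_dvd_pow 2 (by omega)),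
      Nat.pow_div (by omega) (by norm_num), show k - (k - 2) = 2 by omega]
  have hwD : w ∈ D := hg ▸ pow_mem (mem_zpowers g) _
  have hwC : w ∈ C := mem_centralizer_iff.2 fun d hd => by
    rw [← hg] at hd
    obtain ⟨i, rfl⟩ := mem_zpowers_iff.1 hd
    exact ((Commute.refl g).zpow_left i).pow_right _ |>.eq
  have hwz : ∀ i : ℤ, (w ^ i) ^ 4 = 1 := fun i => by
    rw [← zpow_natCast, zpow_comm, zpow_natCast, ← hwo, pow_orderOf_eq_one, one_zpow]
  have hsmall : ∀ x ∈ C, x ^ 4 = 1 → x ∈ zpowers w := by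
    intro x hx hx4
    by_contra hxw
    have hcw : ∀ y ∈ C, Commute w y := fun y hy => mem_centralizer_iff.1 hy w hwD
    have key : ∀ y ∈ C, y ∉ zpowers w → y ^ 2 ∈ zpowers w → y ^ 4 = 1 → False := fun y hy h1 h2 h3 =>
      hnb (bad_of_four hwC hwo hy h1 h2 h3 (hcw y hy))
    by_cases hx2 : x ^ 2 ∈ zpowers w
    · exact key x hx hxw hx2 hx4
    · exact key _ (pow_mem hx 2) hx2 (by rw [← pow_mul, hx4]; exact one_mem _)
        (by rw [← pow_mul, show 2 * 4 = 4 * 2 from rfl, pow_mul, hx4, one_pow])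
  have hz2 : orderOf (w ^ 2) = 2 := by rw [orderOf_pow' w two_ne_zero, hwo]; rfl
  have hcyc : IsCyclic C := by
    refine (PGroupsCyclic.isCyclic_or_quaternion (h2.to_subgroup C) fun H H' hH hH' => ?_).resolve_right ?_
    · have key : ∀ H : Subgroup C, Nat.card H = 2 → H = zpowers ⟨w ^ 2, pow_mem hwC 2⟩ := by
        intro H hH
        refine Subgroup.eq_of_le_of_card_ge (fun h hh => ?_) (by rw [Nat.card_zpowers, Subgroup.orderOf_mk, hz2, hH])
        have h1 : h ^ 2 = 1 := orderOf_dvd_iff_pow_eq_one.1 (hH ▸ Subgroup.orderOf_dvd_natCard H hh)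
        have h1' : (h : X) ^ 2 = 1 := congrArg Subtype.val h1
        obtain ⟨i, hi⟩ := mem_zpowers_iff.1 (hsmall h h.2 (by rw [pow_mul (h : X) 2 2, h1', one_pow]))
        rw [← hi, ← zpow_natCast, ← zpow_mul, ← orderOf_dvd_iff_zpow_eq_one, hwo] at h1'
        obtain ⟨j, hj⟩ := h1'
        obtain ⟨l, hl⟩ : (2 : ℤ) ∣ i := ⟨j, by push_cast at hj; omega⟩
        refine mem_zpowers_iff.2 ⟨l, Subtype.ext ?_⟩
        push_cast
        rw [← hi, hl, zpow_mul, zpow_ofNat]
      rw [key H hH, key H' hH']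
    · rintro ⟨-, n, ⟨e⟩⟩
      have hle : Nat.card {q : QuaternionGroup (2 ^ n) // q ^ 4 = 1} ≤ 4 := by
        refine le_trans ?_ (le_of_eq ((Nat.card_zpowers w).trans hwo))
        refine Nat.card_le_card_of_injective (fun q => (⟨((e.symm q.1 : C) : X), hsmall _ (e.symm q.1).2
          (by rw [← SubmonoidClass.coe_pow, ← map_pow, q.2, map_one]; rfl)⟩ : zpowers w)) fun a b hab => ?_
        exact Subtype.ext (e.symm.injective (Subtype.ext (congrArg (fun t : zpowers w => (t : X)) hab)))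
      rcases Nat.eq_zero_or_pos n with rfl | hn
      · have hc4 : Nat.card C = 4 := by
          rw [Nat.card_congr e.toEquiv, Nat.card_eq_fintype_card, QuaternionGroup.card]; rfl
        have hCw : zpowers w = C := Subgroup.eq_of_le_of_card_ge (zpowers_le.2 hwC) (by rw [Nat.card_zpowers, hwo, hc4])
        -- `C` is cyclic, hence fixed by `K`
        have hfix : ∀ a ∈ K, a = 1 := fun a ha => eq_one_of_fix h2 (odd_orderOf hK ha) D (hfixD a ha)
          (fix_cyclic h2 (odd_orderOf hK ha) (hC ▸ hCw ▸ (Subgroup.isCyclic_iff_exists_zpowers_eq_top _).2 ⟨w, rfl⟩) (hCinv a ha))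
        exact hne ((Subgroup.eq_bot_iff_forall K).2 hfix)
      · have h5 : (5 : ℕ) ≤ Nat.card {q : QuaternionGroup (2 ^ n) // q ^ 4 = 1} := by
          have hN : 2 ≤ 2 ^ n := by
            calc 2 = 2 ^ 1 := rfl
              _ ≤ 2 ^ n := Nat.pow_le_pow_right (by norm_num) hn
          haveI : NeZero (2 ^ n) := ⟨by positivity⟩
          let f : Option (Fin 4) → {q : QuaternionGroup (2 ^ n) // q ^ 4 = 1} := fun o => match o with
            | none => ⟨1, one_pow 4⟩
            | some i => ⟨QuaternionGroup.xa ((i : ℕ) : ZMod (2 * 2 ^ n)), by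
                exact orderOf_dvd_iff_pow_eq_one.1 (QuaternionGroup.orderOf_xa ((i : ℕ) : ZMod (2 * 2 ^ n))).dvd⟩
          have hf : Function.Injective f := by
            rintro (_ | i) (_ | j) h
            · rfl
            · simp [f, ← QuaternionGroup.one_def] at h
              exact absurd h (by rw [QuaternionGroup.one_def]; exact fun e => nomatch e)
            · simp [f, ← QuaternionGroup.one_def] at h
              exact absurd h (by rw [QuaternionGroup.one_def]; exact fun e => nomatch e)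
            · simp only [f, Subtype.mk.injEq, QuaternionGroup.xa.injEq] at h
              have := congrArg ZMod.val h
              rw [ZMod.val_natCast, ZMod.val_natCast, Nat.mod_eq_of_lt (by omega), Nat.mod_eq_of_lt (by omega)] at this
              rw [Fin.ext this]
          have := Nat.card_le_card_of_injective f hf
          simpa using this
        omega
  exact hne ((Subgroup.eq_bot_iff_forall K).2 fun a ha => eq_one_of_fix h2 (odd_orderOf hK ha) D (hfixD a ha)
    (fix_cyclic h2 (odd_orderOf hK ha) hcyc (hCinv a ha)))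

/-- The shape `Q₈ ∘ B` with `B` the centre of order four. -/
def QShape (X : Type*) [Group X] : Prop :=
  ∃ Y : Subgroup X, Y.index = 2 ∧ Nonempty (Y ≃* QuaternionGroup (2 ^ (0 + 1))) ∧
    Y ⊔ centralizer (Y : Set X) = ⊤

theorem qform (h2 : IsPGroup 2 X) (hK : Odd (Nat.card K)) (hne : K ≠ ⊥) (hmin : Minimal K)
    (hna : ∃ u v : X, ⁅u, v⁆ ≠ 1) (hB : Nat.card (center X) = 4) {z : X} (hzB : z ∈ center X)
    (hzo : orderOf z = 2) (hfix : ∀ a ∈ K, ∀ b ∈ center X, a b = b) (hsq : ∀ x : X, x ^ 2 ∈ center X)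
    (h4 : ∀ x : X, x ^ 4 = 1) (hcomm : ∀ x y : X, ⁅x, y⁆ ∈ zpowers z) :
    QShape X ∧ Bad (⊤ : Subgroup X) := by
  classical
  set B := center X with hBdef
  have hBc : ∀ b ∈ B, ∀ y : X, b * y = y * b := fun b hb y => (mem_center_iff.1 hb y).symm
  have hbad : ∀ Y : Subgroup X, B ≤ Y → ¬ Y ≤ B → Bad Y := fun Y hBY hYB => by
    obtain ⟨y, hy, hyB⟩ := SetLike.not_le_iff_exists.1 hYB
    exact bad_of_extend hBY hB (fun a ha b _ => hBc a ha b) (fun b _ => h4 b) hy hyB (hsq y) (h4 y)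
      (fun b hb => hBc b hb y)
  have hzz : zpowers z ≤ B := zpowers_le.2 hzB
  set Y : Subgroup X := closure {t | ∃ a ∈ K, ∃ x : X, t = x⁻¹ * a x} with hY
  have hgen : ∀ a ∈ K, ∀ x : X, x⁻¹ * a x ∈ Y := fun a ha x => subset_closure ⟨a, ha, x, rfl⟩
  have hYn : Y.Normal := by
    refine ⟨fun y hy g => ?_⟩
    induction hy using closure_induction with
    | mem t ht =>
      obtain ⟨a, ha, x, rfl⟩ := ht
      have e : g * (x⁻¹ * a x) * g⁻¹ = ((x * g⁻¹)⁻¹ * a (x * g⁻¹)) * ((g⁻¹)⁻¹ * a g⁻¹)⁻¹ := by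
        rw [map_mul]; group
      rw [e]
      exact Y.mul_mem (hgen a ha _) (Y.inv_mem (hgen a ha _))
    | one => simp
    | mul s t _ _ h1 h2 =>
      have e : g * (s * t) * g⁻¹ = (g * s * g⁻¹) * (g * t * g⁻¹) := by group
      rw [e]; exact Y.mul_mem h1 h2
    | inv s _ h1 =>
      have e : g * s⁻¹ * g⁻¹ = (g * s * g⁻¹)⁻¹ := by group
      rw [e]; exact Y.inv_mem h1
  have hYi : ∀ b ∈ K, ∀ y ∈ Y, b y ∈ Y := by
    intro b hb y hy
    induction hy using closure_induction with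
    | mem t ht =>
      obtain ⟨a, ha, x, rfl⟩ := ht
      rw [map_mul, map_inv, show b (a x) = (b * a * b⁻¹) (b x) by
        rw [MulAut.mul_apply, MulAut.mul_apply, MulAut.inv_apply_self]]
      exact hgen _ (K.mul_mem (K.mul_mem hb ha) (K.inv_mem hb)) _
    | one => simp
    | mul s t _ _ h1 h2 => rw [map_mul]; exact Y.mul_mem h1 h2
    | inv s _ h1 => rw [map_inv]; exact Y.inv_mem h1
  -- `Y` is proper
  haveI hzn : (zpowers z).Normal := normal_of_le_center hzz
  have hYtop : Y ≠ ⊤ := by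
    intro htop
    letI : CommGroup (X ⧸ zpowers z) :=
      { (inferInstance : Group (X ⧸ zpowers z)) with
        mul_comm := by
          intro s t
          induction s using QuotientGroup.induction_on with | H x =>
          induction t using QuotientGroup.induction_on with | H y =>
          rw [← QuotientGroup.mk_mul, ← QuotientGroup.mk_mul, QuotientGroup.eq_iff_div_mem]
          have e : x * y / (y * x) = ⁅x, y⁆ := by rw [commutatorElement_def, div_eq_mul_inv]; group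
          rw [e]; exact hcomm x y }
    haveI : Fintype K := Fintype.ofFinite _
    let N : X →* X ⧸ zpowers z :=
      { toFun := fun x => ∏ a : K, QuotientGroup.mk' (zpowers z) ((a : MulAut X) x)
        map_one' := by simp
        map_mul' := fun x y => by simp [Finset.prod_mul_distrib] }
    have hker : Y ≤ N.ker := by
      rw [hY, closure_le]
      rintro _ ⟨a, ha, x, rfl⟩
      rw [SetLike.mem_coe, MonoidHom.mem_ker, map_mul, map_inv, inv_mul_eq_one]
      show _ = ∏ b : K, QuotientGroup.mk' (zpowers z) ((b : MulAut X) (a x))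
      exact (Fintype.prod_equiv (Equiv.mulRight (⟨a, ha⟩ : K))
        (fun b : K => QuotientGroup.mk' (zpowers z) ((b : MulAut X) (a x))) _ fun b => by
          simp [MulAut.mul_apply]).symm
    obtain ⟨b, hb, hbz⟩ : ∃ b ∈ B, b ∉ zpowers z := by
      refine SetLike.not_le_iff_exists.1 fun hle => ?_
      have := Subgroup.card_le_of_le hle
      rw [hB, Nat.card_zpowers, hzo] at this
      omega
    have hNb := MonoidHom.mem_ker.1 (hker (htop ▸ mem_top b))
    have hNb' : N b = (QuotientGroup.mk' (zpowers z) b) ^ Nat.card K := by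
      show ∏ a : K, QuotientGroup.mk' (zpowers z) ((a : MulAut X) b) = _
      rw [Finset.prod_congr rfl (fun a _ => by rw [hfix a a.2 b hb]), Finset.prod_const, Finset.card_univ,
        Nat.card_eq_fintype_card]
    rw [hNb', ← map_pow, QuotientGroup.mk'_apply, QuotientGroup.eq_one_iff] at hNb
    obtain ⟨k, hk⟩ := hK
    rw [hk, pow_succ, pow_mul] at hNb
    refine hbz ?_
    have hb2 : (b ^ 2) ^ k ∈ zpowers z := by
      refine pow_mem ?_ k
      by_contra hb2
      -- then `b` has order four and generates the centre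
      have hb22 : (b ^ 2) ^ 2 = 1 := by rw [← pow_mul]; exact h4 b
      rcases Nat.even_or_odd k with ⟨j, hj⟩ | ⟨j, hj⟩
      · rw [hj, ← two_mul, pow_mul, hb22, one_pow, one_mul] at hNb
        exact hbz hNb
      · rw [hj, pow_succ, pow_mul, hb22, one_pow, one_mul, ← pow_succ] at hNb
        have h3 : b ^ (2 + 1) = b⁻¹ := eq_inv_of_mul_eq_one_left (by rw [← pow_succ]; exact h4 b)
        rw [h3, inv_mem_iff] at hNb
        exact hbz hNb
    simpa using (zpowers z).mul_mem ((zpowers z).inv_mem hb2) hNb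
  have hYB : ¬ Y ≤ B := fun hle => hne ((Subgroup.eq_bot_iff_forall K).2 fun a ha => by
    ext x
    exact fix_of_stable h2 (odd_orderOf hK ha) (hfix a ha _ (hle (hgen a ha x))))
  haveI := hYn
  have hsup : Y ⊔ B = ⊤ := by
    by_contra hne'
    refine hmin (Y ⊔ B) hne' inferInstance (fun a ha => ?_) (hbad _ le_sup_right fun hle => hYB (le_sup_left.trans hle))
    have hle : Y ⊔ B ≤ (Y ⊔ B).comap (a : X ≃* X).toMonoidHom := sup_le
      (fun y hy => mem_sup_left (hYi a ha y hy))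
      (fun b hb => mem_sup_right (show a b ∈ B by rw [hfix a ha b hb]; exact hb))
    exact fun y hy => hle hy
  have hnotBY : ¬ B ≤ Y := fun hle => hYtop (by rw [← hsup, sup_eq_left.2 hle])
  have hcard2 : Nat.card (Y ⊓ B : Subgroup X) ≤ 2 := by
    have h1 : Nat.card (Y ⊓ B : Subgroup X) ∣ 2 ^ 2 := (Subgroup.card_dvd_of_le inf_le_right).trans (by rw [hB]; rfl)
    obtain ⟨i, hi, e⟩ := (Nat.dvd_prime_pow Nat.prime_two).1 h1
    rcases (show i ≤ 1 ∨ i = 2 by omega) with h | rfl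
    · rw [e]; exact (Nat.pow_le_pow_right (by norm_num) h).trans_eq rfl
    · exact absurd (inf_eq_right.1 (Subgroup.eq_of_le_of_card_ge inf_le_right (by rw [e, hB]; rfl))) hnotBY
  have hdec : ∀ x : X, ∃ y ∈ Y, ∃ b ∈ B, x = y * b := fun x => by
    obtain ⟨y, hy, b, hb, e⟩ := mem_sup_of_normal_left.1 (hsup ▸ mem_top x : x ∈ Y ⊔ B)
    exact ⟨y, hy, b, hb, e.symm⟩
  have hzY : z ∈ Y := by
    by_contra hzY
    obtain ⟨u, v, huv⟩ := hna
    obtain ⟨y, hy, b, hb, rfl⟩ := hdec u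
    obtain ⟨y', hy', b', hb', rfl⟩ := hdec v
    have e : ⁅y * b, y' * b'⁆ = ⁅y, y'⁆ := by
      rw [commutatorElement_def, commutatorElement_def]
      calc y * b * (y' * b') * (y * b)⁻¹ * (y' * b')⁻¹ = y * b * y' * (b' * (b⁻¹ * y⁻¹)) * b'⁻¹ * y'⁻¹ := by group
        _ = y * b * y' * ((b⁻¹ * y⁻¹) * b') * b'⁻¹ * y'⁻¹ := by rw [hBc b' hb' (b⁻¹ * y⁻¹)]
        _ = y * (b * y') * b⁻¹ * y⁻¹ * y'⁻¹ := by group
        _ = y * (y' * b) * b⁻¹ * y⁻¹ * y'⁻¹ := by rw [hBc b hb y']
        _ = _ := by group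
    rw [e] at huv
    rcases mem_zpowers_two (hzo ▸ pow_orderOf_eq_one z) (hcomm y y') with e1 | e1
    · exact huv e1
    · apply hzY
      rw [← e1, commutatorElement_def]
      exact Y.mul_mem (Y.mul_mem (Y.mul_mem hy hy') (Y.inv_mem hy)) (Y.inv_mem hy')
  have hYBz : Y ⊓ B = zpowers z := (Subgroup.eq_of_le_of_card_ge (zpowers_le.2 (show z ∈ Y ⊓ B from ⟨hzY, hzB⟩))
    (by rw [Nat.card_zpowers, hzo]; exact hcard2)).symm
  have hYsq : ∀ y ∈ Y, y ^ 2 ∈ zpowers z := fun y hy => hYBz ▸ ⟨pow_mem hy 2, hsq y⟩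
  have hYcen : ∀ y ∈ Y, (∀ u ∈ Y, u * y = y * u) → y ∈ zpowers z := fun y hy hc => hYBz ▸ ⟨hy,
    mem_center_iff.2 fun x => by
      obtain ⟨u, hu, b, hb, rfl⟩ := hdec x
      exact ((show Commute u y from hc u hu).mul_left (hBc b hb y)).eq⟩
  have hYne : ¬ Y ≤ zpowers z := fun hle => hYB (hle.trans hzz)
  have h8 := card_eq_eight h2 hzB hzo hzY (fun u _ v _ => hcomm u v) hYsq hYcen hYne (hmin Y hYtop hYn hYi)
  obtain ⟨a, ha, hmove⟩ : ∃ a ∈ K, ∃ y ∈ Y, a y ≠ y := by
    by_contra hno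
    push Not at hno
    refine hne ((Subgroup.eq_bot_iff_forall K).2 fun a ha => ?_)
    ext x
    obtain ⟨y, hy, b, hb, rfl⟩ := hdec x
    show a (y * b) = y * b
    rw [map_mul, hno a ha y hy, hfix a ha b hb]
  have hquad := quaternion_squares hzB hzo hzY h8 (fun u _ v _ => hcomm u v) hYsq hYcen
    (odd_orderOf hK ha) (hYi a ha) (hfix a ha z hzB) hmove
  refine ⟨⟨Y, ?_, quaternion_iso hzY hzB hzo h8 (fun u _ v _ => hcomm u v) hYcen hquad, ?_⟩,
    hbad ⊤ le_top fun hle => hYB ((le_top : Y ≤ ⊤).trans hle)⟩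
  · rw [← relIndex_top_right, ← hsup, relIndex_sup_left, ← inf_relIndex_right, hYBz]
    have := card_mul_index ((zpowers z).subgroupOf B)
    rw [Nat.card_congr (subgroupOfEquivOfLe hzz).toEquiv, Nat.card_zpowers, hzo, hB] at this
    show ((zpowers z).subgroupOf B).index = 2
    omega
  · rw [eq_top_iff, ← hsup]
    exact sup_le_sup_left (fun b hb => mem_centralizer_iff.2 fun y _ => (hBc b hb y).symm) Y

/-- Special with centre of order four. -/
def Special4 (X : Type*) [Group X] : Prop :=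
  Cfsg.IsSpecial 2 X ∧ Nat.card (center X) = 4

/-- Extraspecial, with its central involution. -/
def Extra (X : Type*) [Group X] : Prop :=
  Cfsg.IsExtraspecial 2 X ∧ ∃ z : X, z ∈ center X ∧ orderOf z = 2 ∧ (∀ x y : X, ⁅x, y⁆ ∈ zpowers z) ∧
    (∀ x : X, x ^ 2 ∈ zpowers z) ∧ center X ≤ zpowers z

theorem pow_two_mul_four {z x y : X} (hz : z ∈ center X) (hz2 : z ^ 2 = 1) (hsq : ∀ g : X, g ^ 2 ∈ center X)
    (hc : ∀ g h : X, ⁅g, h⁆ ∈ zpowers z) : (x * y) ^ 4 = x ^ 4 * y ^ 4 := by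
  have hyx : ⁅y, x⁆ ∈ center X := zpowers_le.2 hz (hc y x)
  have e : (x * y) ^ 2 = x ^ 2 * y ^ 2 * ⁅y, x⁆ := by
    calc (x * y) ^ 2 = x * (y * x) * y := by rw [pow_two]; group
      _ = x * (⁅y, x⁆ * (x * y)) * y := by rw [commutatorElement_def]; group
      _ = x * ((x * y) * ⁅y, x⁆) * y := by rw [(mem_center_iff.1 hyx (x * y)).symm]
      _ = x * (x * y) * (⁅y, x⁆ * y) := by group
      _ = x * (x * y) * (y * ⁅y, x⁆) := by rw [(mem_center_iff.1 hyx y).symm]
      _ = _ := by rw [pow_two, pow_two]; group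
  have h1 : Commute (x ^ 2) (y ^ 2) := mem_center_iff.1 (hsq y) (x ^ 2)
  have h2 : Commute (x ^ 2 * y ^ 2) ⁅y, x⁆ := mem_center_iff.1 hyx _
  have he2 : ⁅y, x⁆ ^ 2 = 1 := by
    rcases mem_zpowers_two hz2 (hc y x) with e | e <;> rw [e]
    · exact one_pow 2
    · exact hz2
  rw [pow_mul (x * y) 2 2, e, h2.mul_pow, h1.mul_pow, he2, mul_one, ← pow_mul, ← pow_mul]

theorem structure_theorem (h2 : IsPGroup 2 X) (hK : Odd (Nat.card K)) (hne : K ≠ ⊥) (hmin : Minimal K) :
    IsMulCommutative X ∨ (Special4 X ∧ Bad (⊤ : Subgroup X)) ∨ Extra X ∨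
      (QShape X ∧ Bad (⊤ : Subgroup X)) := by
  classical
  by_cases hab : IsMulCommutative X
  · exact Or.inl hab
  right
  have hna : ∃ u v : X, ⁅u, v⁆ ≠ 1 := by
    by_contra hno
    push Not at hno
    exact hab ⟨⟨fun a b => commutatorElement_eq_one_iff_mul_comm.1 (hno a b)⟩⟩
  haveI : Nontrivial X := by
    obtain ⟨u, v, h⟩ := hna
    exact ⟨⟨⁅u, v⁆, 1, h⟩⟩
  haveI : Fact (Nat.Prime 2) := ⟨Nat.prime_two⟩
  have hprop : ∀ A : Subgroup X, IsMulCommutative A → A ≠ ⊤ := fun A hA e => hab ⟨⟨fun a b => by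
    subst e
    exact congrArg Subtype.val (hA.is_comm.comm ⟨a, mem_top a⟩ ⟨b, mem_top b⟩)⟩⟩
  by_cases hsymp : ∀ A : Subgroup X, A.Characteristic → IsMulCommutative A → IsCyclic A
  · obtain ⟨z, Z, F, hz, hZchar, hZcyc, hzZ, huniq, hF, hnd, hFp, -, hZR, hCR⟩ :=
      SymplecticType.exists_setup (p := 2) h2 hsymp
    haveI := hZchar
    have hzo : orderOf z = 2 := hz.2
    have hz2 : z ^ 2 = 1 := hzo ▸ pow_orderOf_eq_one z
    have hzc : zpowers z ≤ center X := zpowers_le.2 hz.1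
    have hZc : Z ≤ center X := by
      by_cases h4 : 4 ≤ Nat.card Z
      · exact le_center_of_cyclic h2 hK hne hmin Z hZcyc h4
      · refine le_trans ?_ hzc
        refine (Subgroup.eq_of_le_of_card_ge (zpowers_le.2 hzZ) ?_).ge
        obtain ⟨k, hk⟩ := (h2.to_subgroup Z).exists_card_eq
        rw [Nat.card_zpowers, hzo]
        rw [hk] at h4 ⊢
        have : k ≤ 1 := by
          by_contra hk1
          exact h4 (Nat.pow_le_pow_right (by norm_num : 0 < 2) (by omega : 2 ≤ k))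
        exact (Nat.pow_le_pow_right (by norm_num) this).trans_eq rfl
    have hCF : centralizer (F : Set X) ≤ Z := fun g hg => hCR ⟨hg, mem_centralizer_iff.2 fun c hc =>
      (mem_center_iff.1 (hZc hc) g).symm⟩
    have hcenZ : center X = Z := le_antisymm (fun g hg => hCF (center_le_centralizer _ hg)) hZc
    have hdec : ∀ x : X, ∃ f ∈ F, ∃ c ∈ Z, x = f * c := fun x => by
      obtain ⟨f, hf, hfx⟩ := exists_mul_centralizer hz hF hnd x
      exact ⟨f, hf, _, hCF hfx, (mul_inv_cancel_left f x).symm⟩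
    have hcomm : ∀ x y : X, ⁅x, y⁆ ∈ zpowers z := fun x y => by
      obtain ⟨f, hf, c, hc, rfl⟩ := hdec y
      have e : ⁅x, f * c⁆ = ⁅x, f⁆ := by
        rw [commutatorElement_def, commutatorElement_def]
        calc x * (f * c) * x⁻¹ * (f * c)⁻¹ = x * f * (c * x⁻¹) * c⁻¹ * f⁻¹ := by group
          _ = x * f * (x⁻¹ * c) * c⁻¹ * f⁻¹ := by rw [(mem_center_iff.1 (hZc hc) x⁻¹).symm]
          _ = _ := by group
      rw [e]; exact hF x f hf
    have hsq : ∀ f ∈ F, ∀ c ∈ Z, (f * c) ^ 2 = f ^ 2 * c ^ 2 := fun f _ c hc =>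
      Commute.mul_pow (mem_center_iff.1 (hZc hc) f) 2
    have hsqZ : ∀ x : X, x ^ 2 ∈ center X := fun x => by
      obtain ⟨f, hf, c, hc, rfl⟩ := hdec x
      rw [hsq f hf c hc]
      exact mul_mem (hzc (hFp f hf)) (hZc (pow_mem hc 2))
    obtain ⟨g, hg⟩ := (Subgroup.isCyclic_iff_exists_zpowers_eq_top Z).1 hZcyc
    obtain ⟨n, hn⟩ := IsPGroup.iff_orderOf.1 h2 g
    have hZn : Nat.card Z = 2 ^ n := by rw [← hg, Nat.card_zpowers, hn]
    rcases le_or_gt n 1 with hn1 | hn1
    · refine Or.inr (Or.inl ?_)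
      have hZz : Z = zpowers z := (Subgroup.eq_of_le_of_card_ge (zpowers_le.2 hzZ) (by
        rw [Nat.card_zpowers, hzo, hZn]
        exact (Nat.pow_le_pow_right (by norm_num) hn1).trans_eq rfl)).symm
      have hsqz : ∀ x : X, x ^ 2 ∈ zpowers z := fun x => by rw [← hZz, ← hcenZ]; exact hsqZ x
      exact ⟨SymplecticType.isExtraspecial_of h2 hz hcomm hsqz (hcenZ.trans hZz).le hna,
        z, hz.1, hzo, hcomm, hsqz, (hcenZ.trans hZz).le⟩
    set w := g ^ 2 ^ (n - 2) with hw
    have hwo : orderOf w = 4 := by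
      rw [hw, orderOf_pow' g (by positivity), hn, Nat.gcd_eq_right (pow_dvd_pow 2 (by omega)),
        Nat.pow_div (by omega) (by norm_num), show n - (n - 2) = 2 by omega]
    have hwZ : w ∈ Z := hg ▸ pow_mem (mem_zpowers g) _
    have hw4 : w ^ 4 = 1 := orderOf_dvd_iff_pow_eq_one.1 hwo.dvd
    have hF4 : ∀ f ∈ F, f ^ 4 = 1 := fun f hf => by
      rw [pow_mul f 2 2]
      rcases mem_zpowers_two hz2 (hFp f hf) with e | e <;> rw [e]
      · exact one_pow 2
      · exact hz2
    have hzw : zpowers z ≤ zpowers w := by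
      have hw22 : (w ^ 2) ^ 2 = 1 := by rw [← pow_mul]; exact hw4
      have h1 := (mem_zpowers_two hz2 (huniq _ (pow_mem hwZ 2) hw22)).resolve_left fun e => by
        have := orderOf_dvd_of_pow_eq_one e
        rw [hwo] at this
        norm_num at this
      rw [zpowers_le, ← h1]
      exact pow_mem (mem_zpowers w) 2
    rcases (show n = 2 ∨ 3 ≤ n by omega) with rfl | hn3
    · refine Or.inr (Or.inr (qform h2 hK hne hmin hna (by rw [hcenZ, hZn]; rfl) hz.1 hzo ?_ hsqZ (fun x => ?_) hcomm))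
      · intro a ha
        rw [hcenZ]
        exact fix_cyclic h2 (odd_orderOf hK ha) hZcyc (char_inv Z a)
      · obtain ⟨f, hf, c, hc, rfl⟩ := hdec x
        rw [Commute.mul_pow (mem_center_iff.1 (hZc hc) f), hF4 f hf, one_mul]
        exact orderOf_dvd_iff_pow_eq_one.1 ((Subgroup.orderOf_dvd_natCard Z hc).trans (by rw [hZn]; rfl))
    exfalso
    let U : Subgroup X :=
      { carrier := {x | x ^ 4 = 1}
        one_mem' := one_pow 4
        mul_mem' := fun {x y} hx hy => by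
          show (x * y) ^ 4 = 1
          rw [pow_two_mul_four hz.1 hz2 hsqZ hcomm, hx, hy, one_mul]
        inv_mem' := fun {x} hx => by show x⁻¹ ^ 4 = 1; rw [inv_pow, hx, inv_one] }
    have hUn : U.Normal := ⟨fun x hx y => by
      show (y * x * y⁻¹) ^ 4 = 1
      rw [conj_pow, show x ^ 4 = 1 from hx]; group⟩
    have hUtop : U ≠ ⊤ := fun e => by
      have : g ^ 4 = 1 := show g ∈ U from e ▸ mem_top g
      have h1 := orderOf_dvd_of_pow_eq_one this
      rw [hn, show (4 : ℕ) = 2 ^ 2 from rfl, Nat.pow_dvd_pow_iff_le_right (by norm_num)] at h1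
      omega
    refine hmin U hUtop hUn (fun a _ y hy => ?_) ?_
    · show (a y) ^ 4 = 1
      rw [← map_pow, show y ^ 4 = 1 from hy, map_one]
    obtain ⟨f, hf, hfz⟩ : ∃ f ∈ F, f ∉ zpowers z := by
      refine SetLike.not_le_iff_exists.1 fun hle => ?_
      obtain ⟨u, v, huv⟩ := hna
      obtain ⟨f', hf', c', hc', rfl⟩ := hdec v
      exact huv (commutatorElement_eq_one_iff_mul_comm.2
        (mem_center_iff.1 (mul_mem (hzc (hle hf')) (hZc hc')) u))
    refine bad_of_four (show w ∈ U from hw4) hwo (show f ∈ U from hF4 f hf) (fun hfw => hfz ?_)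
      (hzw (hFp f hf)) (hF4 f hf) (mem_center_iff.1 (hZc hwZ) f).symm
    have hfZ : f ∈ Z := zpowers_le.2 hwZ hfw
    exact hnd.2 ⟨hf, hZR hfZ⟩
  push Not at hsymp
  obtain ⟨A, hAchar, hAc, hAnc⟩ := hsymp
  haveI := hAchar
  let V : Subgroup X :=
    { carrier := {x | x ∈ A ∧ x ^ 2 = 1}
      one_mem' := ⟨one_mem _, one_pow 2⟩
      mul_mem' := fun {x y} hx hy => ⟨mul_mem hx.1 hy.1, by
        rw [Commute.mul_pow (congrArg Subtype.val (hAc.is_comm.comm ⟨x, hx.1⟩ ⟨y, hy.1⟩) : x * y = y * x),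
          hx.2, hy.2, one_mul]⟩
      inv_mem' := fun {x} hx => ⟨inv_mem hx.1, by rw [inv_pow, hx.2, inv_one]⟩ }
  haveI hVchar : V.Characteristic := Subgroup.characteristic_iff_map_le.2 fun φ => by
    rintro _ ⟨x, hx, rfl⟩
    exact ⟨char_inv A φ x hx.1, by
      show (φ x) ^ 2 = 1
      rw [← map_pow, hx.2, map_one]⟩
  have hVc : IsMulCommutative V := ⟨⟨fun x y => Subtype.ext
    (congrArg Subtype.val (hAc.is_comm.comm ⟨x, x.2.1⟩ ⟨y, y.2.1⟩) : (x : X) * y = y * x)⟩⟩
  have hV2 : ∀ v ∈ V, v ^ 2 = 1 := fun v hv => hv.2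
  have hVexp : ∀ v ∈ V, v ^ 4 = 1 := fun v hv => by rw [pow_mul v 2 2, hV2 v hv, one_pow]
  obtain ⟨k, hk⟩ := (h2.to_subgroup V).exists_card_eq
  have hk2 : 2 ≤ k := by
    by_contra hk1
    apply hAnc
    obtain ⟨z, hzA, hz1, hz⟩ : ∃ z ∈ A, z ^ 2 = 1 ∧ ∀ v ∈ A, v ^ 2 = 1 → v ∈ zpowers z := by
      haveI : IsCyclic V := by
        rcases (show k = 0 ∨ k = 1 by omega) with rfl | rfl
        · haveI : Subsingleton V := (Nat.card_eq_one_iff_unique.1 (by simpa using hk)).1
          exact isCyclic_of_subsingleton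
        · exact isCyclic_of_prime_card (p := 2) (by simpa using hk)
      obtain ⟨z, hz⟩ := (Subgroup.isCyclic_iff_exists_zpowers_eq_top V).1 inferInstance
      have hzV : z ∈ V := hz ▸ mem_zpowers z
      exact ⟨z, hzV.1, hzV.2, fun v hv hv2 => hz.symm ▸ (⟨hv, hv2⟩ : v ∈ V)⟩
    exact PGroupsCyclic.isCyclic_subgroup h2 hAc hzA hz
      (Nat.le_of_dvd two_pos (orderOf_dvd_of_pow_eq_one hz1))
  have hVtop : V ≠ ⊤ := hprop V hVc
  have hVcard : Nat.card V = 4 := by
    rw [hk]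
    have : ¬ 3 ≤ k := fun h3 => by
      obtain ⟨W, hW⟩ := Sylow.exists_subgroup_card_pow_prime (G := V) 2 (n := 3) (by rw [hk]; exact pow_dvd_pow 2 h3)
      refine hmin V hVtop inferInstance (fun a _ => char_inv V a)
        ⟨W.map V.subtype, map_subtype_le W, ?_, ?_, ?_⟩
      · exact ⟨⟨fun x y => Subtype.ext
          (congrArg Subtype.val (hVc.is_comm.comm ⟨x, map_subtype_le W x.2⟩ ⟨y, map_subtype_le W y.2⟩) : (x : X) * y = y * x)⟩⟩
      · exact not_isCyclic_of_exp (fun v hv => hVexp v (map_subtype_le W hv))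
          (by rw [Subgroup.card_map_of_injective V.subtype_injective, hW]; rfl)
      · rw [Subgroup.card_map_of_injective V.subtype_injective, hW]; rfl
    rw [show k = 2 by omega]; rfl
  have hVcomm : ∀ a ∈ V, ∀ b ∈ V, a * b = b * a := fun a ha b hb =>
    congrArg Subtype.val (hVc.is_comm.comm ⟨a, ha⟩ ⟨b, hb⟩)
  have hVcen : V ≤ center X := by
    by_contra hnc
    set C := centralizer (V : Set X) with hC
    have hCtop : C ≠ ⊤ := fun e => hnc fun v hv => mem_center_iff.2 fun x =>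
      (mem_centralizer_iff.1 (show x ∈ C from e ▸ mem_top x) v hv).symm
    have hCV : C ≤ V := by
      by_contra hle
      obtain ⟨y, hyC, hyV, hy2⟩ := exists_outside h2 hle
      exact hmin C hCtop inferInstance (fun a _ => char_inv C a) (bad_of_extend
        (fun v hv => mem_centralizer_iff.2 fun u hu => hVcomm u hu v hv) hVcard hVcomm hVexp hyC hyV hy2
        (by rw [pow_mul y 2 2]; exact hV2 _ hy2) (fun b hb => mem_centralizer_iff.1 hyC b hb))
    have hI : V ⊓ center X ≠ ⊥ := PGroupsBasic.inf_center_ne_bot h2 (fun e => by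
      rw [e, Subgroup.card_bot] at hVcard; norm_num at hVcard)
    obtain ⟨z, hzI, hz1⟩ := (V ⊓ center X).bot_or_exists_ne_one.resolve_left hI
    refine hne ((Subgroup.eq_bot_iff_forall K).2 fun a ha => ?_)
    have hzfix : a z = z := by
      by_contra hzne
      -- two different involutions would generate `V`
      apply hnc
      have hle : Nat.card V ≤ Nat.card (V ⊓ center X : Subgroup X) := by
        rw [hVcard]
        obtain ⟨i, hi, e⟩ := (Nat.dvd_prime_pow Nat.prime_two).1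
          (show Nat.card (V ⊓ center X : Subgroup X) ∣ 2 ^ 2 from (Subgroup.card_dvd_of_le inf_le_left).trans (by rw [hVcard]; rfl))
        have h3 : 2 < Nat.card (V ⊓ center X : Subgroup X) := by
          haveI : Fintype (V ⊓ center X : Subgroup X) := Fintype.ofFinite _
          rw [Nat.card_eq_fintype_card]
          exact Fintype.two_lt_card_iff.2 ⟨1, ⟨z, hzI⟩, ⟨a z, (char_inv V a z hzI.1), (char_inv (center X) a z hzI.2)⟩,
            fun e => hz1 (congrArg Subtype.val e).symm, fun e => hz1 (a.injective ((congrArg Subtype.val e).symm.trans (map_one a).symm)),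
            fun e => hzne (congrArg Subtype.val e).symm⟩
        rw [e] at h3 ⊢
        rcases (show i ≤ 1 ∨ i = 2 by omega) with h | rfl
        · have := (Nat.pow_le_pow_right (show 1 ≤ 2 by norm_num) h).trans_eq (rfl : 2 ^ 1 = 2)
          omega
        · norm_num
      exact (Subgroup.eq_of_le_of_card_ge inf_le_left hle).ge.trans inf_le_right
    have hf := fix_four (odd_orderOf hK ha) hVcard (char_inv V a) hzI.1 hz1 (hV2 z hzI.1) hzfix
    exact eq_one_of_fix h2 (odd_orderOf hK ha) V hf fun c hc => hf c (hCV hc)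
  have hcenter : center X = V := by
    refine le_antisymm ?_ hVcen
    by_contra hle
    obtain ⟨y, hyC, hyV, hy2⟩ := exists_outside h2 hle
    exact hmin (center X) (hprop _ inferInstance) inferInstance (fun a _ => char_inv _ a)
      (bad_of_extend hVcen hVcard hVcomm hVexp hyC hyV hy2 (by rw [pow_mul y 2 2]; exact hV2 _ hy2)
        (fun b hb => (mem_center_iff.1 (hVcen hb) y).symm))
  have hfr : frattini X ≤ V := by
    by_contra hle
    obtain ⟨y, hyF, hyV, hy2⟩ := exists_outside h2 (B := V) (C := frattini X ⊔ V) fun h => hle (le_sup_left.trans h)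
    refine hmin (frattini X ⊔ V) (fun e => hVtop ?_) inferInstance (fun a _ => ?_)
      (bad_of_extend le_sup_right hVcard hVcomm hVexp hyF hyV hy2 (by rw [pow_mul y 2 2]; exact hV2 _ hy2)
        (fun b hb => (mem_center_iff.1 (hVcen hb) y).symm))
    · exact frattini_nongenerating (sup_comm V (frattini X) ▸ e)
    · have hle' : frattini X ⊔ V ≤ (frattini X ⊔ V).comap (a : X ≃* X).toMonoidHom := sup_le
        (fun x hx => mem_sup_left (char_inv (frattini X) a x hx)) (fun x hx => mem_sup_right (char_inv V a x hx))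
      exact fun x hx => hle' hx
  have hsq : ∀ x : X, x ^ 2 ∈ frattini X := fun x => PGroupsBasic.pow_mem_frattini h2 x
  have hcf : commutator X ≤ frattini X := PGroupsBasic.commutator_le_frattini h2
  by_cases hcV : commutator X = V
  · refine Or.inl ⟨⟨⟨h2, ?_, ?_⟩, by rw [hcenter, hVcard]⟩, ?_⟩
    · exact le_antisymm (hcenter ▸ hfr) (hcenter ▸ hcV ▸ hcf)
    · rw [hcV, hcenter]
    · obtain ⟨y, -, hy⟩ := SetLike.not_le_iff_exists.1 (fun h => hVtop (top_le_iff.1 h))
      exact bad_of_extend le_top hVcard hVcomm hVexp (mem_top y) hy (hfr (hsq y))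
        (by rw [pow_mul y 2 2]; exact hV2 _ (hfr (hsq y))) (fun b hb => (mem_center_iff.1 (hVcen hb) y).symm)
  refine Or.inr (Or.inr ?_)
  have hcc : Nat.card (commutator X) ∣ 2 ^ 2 :=
    (Subgroup.card_dvd_of_le (hcf.trans hfr)).trans (by rw [hVcard]; rfl)
  obtain ⟨i, hi, hicard⟩ := (Nat.dvd_prime_pow Nat.prime_two).1 hcc
  obtain ⟨u, v, huv⟩ := hna
  have hmem : ∀ x y : X, ⁅x, y⁆ ∈ commutator X := fun x y =>
    commutator_mem_commutator (mem_top x) (mem_top y)
  set z := ⁅u, v⁆ with hzdef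
  have hzV : z ∈ V := hfr (hcf (hmem u v))
  have hzo : orderOf z = 2 := orderOf_eq_prime (hV2 z hzV) huv
  have hi1 : i ≤ 1 := by
    by_contra h
    exact hcV (Subgroup.eq_of_le_of_card_ge (hcf.trans hfr) (by rw [hVcard, hicard, show i = 2 by omega]; rfl))
  have hcz : zpowers z = commutator X := Subgroup.eq_of_le_of_card_ge (zpowers_le.2 (hmem u v)) (by
    rw [Nat.card_zpowers, hzo, hicard]; exact (Nat.pow_le_pow_right (by norm_num) hi1).trans_eq rfl)
  refine qform h2 hK hne hmin ⟨u, v, huv⟩ (by rw [hcenter, hVcard]) (hVcen hzV) hzo ?_ (fun x => ?_) (fun x => ?_)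
    (fun x y => hcz ▸ hmem x y)
  · intro a ha b hb
    refine fix_four (odd_orderOf hK ha) hVcard (char_inv V a) hzV huv (hV2 z hzV) ?_ b (hcenter ▸ hb)
    have h1 : a z ∈ zpowers z := hcz.symm ▸ (show a z ∈ commutator X by rw [hzdef, map_commutatorElement]; exact hmem _ _)
    exact (mem_zpowers_two (hV2 z hzV) h1).resolve_left fun e => huv (by simpa using e)
  · rw [hcenter]; exact hfr (hsq x)
  · rw [pow_mul x 2 2]; exact hV2 _ (hfr (hsq x))

end Cfsg.Agent.NoAbelianEight69
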