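import Mathlib
import Cfsg.Prelude.Def_Transfer
import Cfsg.Agent.Lib.PGroupsBasic
import Cfsg.Agent.Lib.PGroupsCritical

/-!
2-groups without normal elementary abelian subgroups of order 8 under odd automorphisms with
`[X, A] = X`: common facts, and vanishing sums for functions of small degree on elementary abelian
2-groups.
-/

open Subgroup
open scoped commutatorElement

set_option autoImplicit false
set_option linter.unusedSectionVars false

namespace Cfsg.Agent.NoE8Base20

/-! ### Degree of functions -/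

section deg

variable {V : Type*} [Group V]

/-- Difference in direction `a`. -/
def der (a : V) (f : V → ZMod 2) : V → ZMod 2 := fun v => f (v * a) + f v

/-- Functions of degree at most `d`. -/
def Deg : ℕ → (V → ZMod 2) → Prop
  | 0, f => ∀ v w, f v = f w
  | d + 1, f => ∀ a, Deg d (der a f)

theorem deg_succ : ∀ (d : ℕ) (f : V → ZMod 2), Deg d f → Deg (d + 1) f
  | 0, f, h => fun a v w => by
    show f (v * a) + f v = f (w * a) + f w
    rw [h (v * a) (w * a), h v w]
  | d + 1, f, h => fun a => deg_succ d _ (h a)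

theorem deg_mono {d e : ℕ} (hde : d ≤ e) {f : V → ZMod 2} (h : Deg d f) : Deg e f := by
  induction hde with
  | refl => exact h
  | step _ ih => exact deg_succ _ _ ih

theorem deg_const (d : ℕ) (c : ZMod 2) : Deg d (fun _ : V => c) :=
  deg_mono (Nat.zero_le d) fun _ _ => rfl

theorem deg_add : ∀ (d : ℕ) (f g : V → ZMod 2), Deg d f → Deg d g → Deg d (fun v => f v + g v)
  | 0, f, g, hf, hg => fun v w => by show f v + g v = f w + g w; rw [hf v w, hg v w]
  | d + 1, f, g, hf, hg => fun a => by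
    have := deg_add d _ _ (hf a) (hg a)
    convert this using 1
    funext v; simp only [der]; abel

variable (hc : ∀ v w : V, v * w = w * v)
include hc

theorem deg_shift : ∀ (d : ℕ) (f : V → ZMod 2) (b : V), Deg d f → Deg d (fun v => f (v * b))
  | 0, f, b, h => fun v w => h _ _
  | d + 1, f, b, h => fun a => by
    have := deg_shift d _ b (h a)
    convert this using 1
    funext v; simp only [der]; rw [mul_assoc, hc a b, ← mul_assoc]

theorem deg_mul : ∀ (n a b : ℕ) (f g : V → ZMod 2), a + b = n → Deg a f → Deg b g →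
    Deg n (fun v => f v * g v) := by
  intro n
  induction n with
  | zero =>
    intro a b f g h hf hg
    obtain ⟨rfl, rfl⟩ : a = 0 ∧ b = 0 := by omega
    intro v w; show f v * g v = f w * g w; rw [hf v w, hg v w]
  | succ n ih =>
    intro a b f g h hf hg x
    have e : der x (fun v => f v * g v) =
        fun v => der x f v * g (v * x) + f v * der x g v := by
      funext v; simp only [der]
      have : (f v * g (v * x)) + (f v * g (v * x)) = 0 := CharTwo.add_self_eq_zero _
      linear_combination (-1 : ZMod 2) * this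
    rw [e]
    refine deg_add n _ _ ?_ ?_
    · rcases Nat.eq_zero_or_pos a with rfl | ha
      · have : der x f = fun _ => 0 := by
          funext v; simp only [der]; rw [hf (v * x) v]; exact CharTwo.add_self_eq_zero _
        rw [this]; simpa using deg_const (V := V) n 0
      · obtain ⟨a, rfl⟩ : ∃ a', a = a' + 1 := ⟨a - 1, by omega⟩
        exact ih a b _ _ (by omega) (hf x) (deg_shift hc b g x hg)
    · rcases Nat.eq_zero_or_pos b with rfl | hb
      · have : der x g = fun _ => 0 := by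
          funext v; simp only [der]; rw [hg (v * x) v]; exact CharTwo.add_self_eq_zero _
        rw [this]; simpa using deg_const (V := V) n 0
      · obtain ⟨b, rfl⟩ : ∃ b', b = b' + 1 := ⟨b - 1, by omega⟩
        exact ih a b _ _ (by omega) hf (hg x)

/-- A function of degree `d` sums to zero over a subgroup of order above `2 ^ d`. -/
theorem sum_eq_zero [Fintype V] (h2 : ∀ v : V, v * v = 1) :
    ∀ (d : ℕ) (f : V → ZMod 2) (H : Subgroup V) [DecidablePred (· ∈ H)], Deg d f →
      2 ^ d < Nat.card H → ∑ v ∈ Finset.univ.filter (· ∈ H), f v = 0 := by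
  classical
  haveI : Fact (Nat.Prime 2) := ⟨Nat.prime_two⟩
  have hP : IsPGroup 2 V := fun v => ⟨1, by rw [pow_one, pow_two]; exact h2 v⟩
  intro d
  induction d with
  | zero =>
    intro f H _ hf hH
    rw [Finset.sum_congr rfl (fun v _ => hf v 1), Finset.sum_const,
      ← Fintype.card_subtype, ← Nat.card_eq_fintype_card, nsmul_eq_mul]
    obtain ⟨k, hk⟩ := IsPGroup.iff_card.mp (hP.to_subgroup H)
    obtain ⟨k, rfl⟩ : ∃ k', k = k' + 1 := ⟨k - 1, by
      rcases Nat.eq_zero_or_pos k with rfl | h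
      · rw [pow_zero] at hk hH; omega
      · omega⟩
    change ((Nat.card H : ℕ) : ZMod 2) * f 1 = 0
    rw [hk, pow_succ, Nat.cast_mul, show ((2 : ℕ) : ZMod 2) = 0 from ZMod.natCast_self 2, mul_zero,
      zero_mul]
  | succ d ih =>
    intro f H _ hf hH
    obtain ⟨k, hk⟩ := IsPGroup.iff_card.mp (hP.to_subgroup H)
    have hk0 : 1 ≤ k := by
      rcases Nat.eq_zero_or_pos k with rfl | h
      · rw [pow_zero] at hk
        have : 1 ≤ 2 ^ (d + 1) := Nat.one_le_two_pow
        omega
      · exact h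
    obtain ⟨K₀, hK₀⟩ := Sylow.exists_subgroup_card_pow_prime 2 (G := H) (n := k - 1)
      (by rw [hk]; exact pow_dvd_pow 2 (by omega))
    set K := K₀.map H.subtype with hK
    have hKH : K ≤ H := map_subtype_le _
    have hKc : Nat.card K = 2 ^ (k - 1) := by
      rw [hK, Nat.card_congr (K₀.equivMapOfInjective _ H.subtype_injective).toEquiv.symm, hK₀]
    have hidx : K₀.index = 2 := by
      have := K₀.card_mul_index
      rw [hK₀, hk, show (2 : ℕ) ^ k = 2 ^ (k - 1) * 2 by rw [← pow_succ, Nat.sub_add_cancel hk0]] at this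
      exact Nat.eq_of_mul_eq_mul_left (by positivity) this
    obtain ⟨⟨a, haH⟩, ha⟩ := SetLike.exists_not_mem_of_ne_top K₀ (fun e => by
      rw [e, Subgroup.index_top] at hidx; omega) rfl
    have hmemK : ∀ v (hv : v ∈ H), v ∈ K ↔ (⟨v, hv⟩ : H) ∈ K₀ := fun v hv => by
      constructor
      · rintro ⟨⟨w, hw⟩, hw', rfl⟩; exact hw'
      · exact fun h => ⟨⟨v, hv⟩, h, rfl⟩
    have hsplit : ∀ v, v ∈ H → (v * a ∈ K ↔ v ∉ K) := fun v hv => by
      rw [hmemK _ (mul_mem hv haH), hmemK v hv,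
        show (⟨v * a, mul_mem hv haH⟩ : H) = ⟨v, hv⟩ * ⟨a, haH⟩ from rfl,
        mul_mem_iff_of_index_two hidx]
      tauto
    rw [← Finset.sum_filter_add_sum_filter_not _ (· ∈ K), Finset.filter_filter,
      Finset.filter_filter]
    have e1 : (Finset.univ.filter fun v => v ∈ H ∧ v ∈ K) = Finset.univ.filter (· ∈ K) := by
      ext v; simp only [Finset.mem_filter, Finset.mem_univ, true_and]
      exact ⟨fun h => h.2, fun h => ⟨hKH h, h⟩⟩
    have e2 : ∑ v ∈ Finset.univ.filter (fun v => v ∈ H ∧ v ∉ K), f v =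
        ∑ v ∈ Finset.univ.filter (· ∈ K), f (v * a) := by
      have haa : ∀ v : V, v * a * a = v := fun v => by rw [mul_assoc, h2, mul_one]
      refine Finset.sum_nbij' (· * a) (· * a) ?_ ?_ (fun v _ => haa v) (fun v _ => haa v)
        (fun v _ => by rw [haa])
      · intro v hv
        simp only [Finset.coe_filter, Finset.mem_coe, Finset.mem_filter, Finset.mem_univ, true_and, Set.mem_setOf_eq, Set.mem_ofPred_eq] at hv ⊢
        exact (hsplit v hv.1).2 hv.2
      · intro v hv
        simp only [Finset.coe_filter, Finset.mem_coe, Finset.mem_filter, Finset.mem_univ, true_and, Set.mem_setOf_eq, Set.mem_ofPred_eq] at hv ⊢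
        exact ⟨mul_mem (hKH hv) haH, fun e => (hsplit v (hKH hv)).1 e hv⟩
    rw [e1, e2, add_comm, ← Finset.sum_add_distrib]
    refine ih _ K (hf a) ?_
    rw [hKc]
    rw [hk] at hH
    have := (Nat.pow_lt_pow_iff_right (by norm_num : 1 < 2)).mp hH
    exact Nat.pow_lt_pow_right (by norm_num) (by omega)

end deg

/-! ### Common facts -/

variable {X : Type*} [Group X] [Finite X]

/-- The hypotheses. -/
structure Hyp (A : Subgroup (MulAut X)) : Prop where
  hX : IsPGroup 2 X
  hna : ¬ IsMulCommutative X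
  small : ∀ N : Subgroup X, N.Normal → (∀ a ∈ N, ∀ b ∈ N, a * b = b * a) → (∀ a ∈ N, a ^ 2 = 1) →
    Nat.card N ≤ 4
  odd : Odd (Nat.card A)
  gen : closure {g : X | ∃ φ ∈ A, ∃ x : X, g = x⁻¹ * φ x} = ⊤

theorem hyp_of (hX : IsPGroup 2 X) (hna : ¬ IsMulCommutative X)
    (hscn : ¬ ∃ A : Subgroup X, A.Normal ∧ Subgroup.centralizer (A : Set X) = A ∧
      ∃ E : Subgroup X, E ≤ A ∧ Cfsg.IsElementaryAbelian 2 E ∧ Nat.card E = 8)
    (A : Subgroup (MulAut X)) (hA : Odd (Nat.card A))
    (hXA : Subgroup.closure {g : X | ∃ φ ∈ A, ∃ x : X, g = x⁻¹ * φ x} = ⊤) : Hyp A := by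
  haveI : Fact (Nat.Prime 2) := ⟨Nat.prime_two⟩
  refine ⟨hX, hna, fun N hN hc h2 => ?_, hA, hXA⟩
  by_contra hlt
  haveI := hN
  have h8 : 2 ^ 3 ≤ Nat.card N := by
    obtain ⟨k, hk⟩ := IsPGroup.iff_card.mp (hX.to_subgroup N)
    rw [hk] at hlt ⊢
    refine Nat.pow_le_pow_right (by norm_num) ?_
    by_contra h3
    exact hlt (le_trans (Nat.pow_le_pow_right (by norm_num) (show k ≤ 2 by omega)) (by norm_num))
  obtain ⟨E, hE, hEN, hEc⟩ := PGroupsBasic.exists_normal_card_pow hX N 3 h8
  have hNa : IsMulCommutative N := PGroupsBasic.isMulCommutative_of_forall hc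
  obtain ⟨B, hB⟩ := Set.Finite.exists_maximal
    (Set.toFinite {B : Subgroup X | B.Normal ∧ IsMulCommutative B ∧ N ≤ B}) ⟨N, hN, hNa, le_rfl⟩
  haveI := hB.prop.1
  refine hscn ⟨B, hB.prop.1, PGroupsCritical.centralizer_eq_of_maximal hX B hB.prop.2.1
    (fun C hC hCa hBC => le_antisymm (hB.2 ⟨hC, hCa, hB.prop.2.2.trans hBC⟩ hBC) hBC), E,
    hEN.trans hB.prop.2.2, ⟨PGroupsBasic.isMulCommutative_mono hNa hEN, fun a ha => h2 a (hEN ha)⟩,
    by rw [hEc]; norm_num⟩

variable {A : Subgroup (MulAut X)} (h : Hyp A)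
include h

theorem pow_card {φ : MulAut X} (hφ : φ ∈ A) : φ ^ Nat.card A = 1 := by
  have e := pow_card_eq_one' (G := A) (x := ⟨φ, hφ⟩)
  rw [← SubgroupClass.coe_pow (⟨φ, hφ⟩ : A), e]
  rfl

/-- An odd automorphism moving `e` by a fixed involution fixes it. -/
theorem eq_one_of_shift {φ : MulAut X} (hφ : φ ∈ A) {e w : X} (he : φ e = e * w) (hw : φ w = w)
    (hw2 : w ^ 2 = 1) : w = 1 := by
  have hit : ∀ k : ℕ, (φ ^ k) e = e * w ^ k := by
    intro k
    induction k with
    | zero => simp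
    | succ k ih =>
      rw [pow_succ', MulAut.mul_apply, ih, map_mul, map_pow, he, hw, mul_assoc, ← pow_succ']
  have h1 := hit (Nat.card A)
  rw [pow_card h hφ, MulAut.one_apply, left_eq_mul] at h1
  obtain ⟨k, hk⟩ := h.odd
  rw [hk, pow_succ, pow_mul, hw2, one_pow, one_mul] at h1
  exact h1

/-- A normal subgroup fixed pointwise is central. -/
theorem fixed_central {N : Subgroup X} [N.Normal] (hfix : ∀ φ ∈ A, ∀ n ∈ N, φ n = n) :
    N ≤ center X := by
  intro n hn
  suffices hh : closure {g : X | ∃ φ ∈ A, ∃ x : X, g = x⁻¹ * φ x} ≤ centralizer (N : Set X) by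
    rw [h.gen] at hh
    exact mem_center_iff.2 fun g => (mem_centralizer_iff.1 (hh (mem_top g)) n hn).symm
  rw [closure_le]
  rintro _ ⟨φ, hφ, x, rfl⟩
  rw [SetLike.mem_coe, mem_centralizer_iff]
  intro m hm
  have hmem : x * m * x⁻¹ ∈ N := ‹N.Normal›.conj_mem m hm x
  have e := hfix φ hφ _ hmem
  rw [map_mul, map_mul, map_inv, hfix φ hφ m hm, mul_inv_eq_iff_eq_mul] at e
  calc m * (x⁻¹ * φ x) = x⁻¹ * (x * m * x⁻¹ * φ x) := by group
    _ = x⁻¹ * (φ x * m) := by rw [e]
    _ = x⁻¹ * φ x * m := by group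

/-- An element fixed modulo `N` lies in `N`, if `X/N` is abelian. -/
theorem mem_of_fixed {N : Subgroup X} [N.Normal] (hN : commutator X ≤ N) {z : X}
    (hz : ∀ φ ∈ A, z⁻¹ * φ z ∈ N) : z ∈ N := by
  classical
  letI : CommGroup (X ⧸ N) :=
    { (inferInstance : Group (X ⧸ N)) with
      mul_comm := fun a b => by
        obtain ⟨x, rfl⟩ := QuotientGroup.mk_surjective a
        obtain ⟨y, rfl⟩ := QuotientGroup.mk_surjective b
        rw [← QuotientGroup.mk_mul, ← QuotientGroup.mk_mul, QuotientGroup.eq]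
        refine hN ?_
        have e : (x * y)⁻¹ * (y * x) = ⁅y⁻¹, x⁻¹⁆ := by simp [commutatorElement_def, mul_assoc]
        rw [e]
        exact commutator_mem_commutator (mem_top _) (mem_top _) }
  haveI : Fintype A := Fintype.ofFinite _
  let T : X →* X ⧸ N := MonoidHom.mk' (fun x => ∏ φ : A, QuotientGroup.mk ((φ : MulAut X) x))
    fun x y => by simp only [map_mul, QuotientGroup.mk_mul, Finset.prod_mul_distrib]
  have hT : ∀ g, T g = 1 := by
    intro g
    have hle : closure {g : X | ∃ φ ∈ A, ∃ x : X, g = x⁻¹ * φ x} ≤ T.ker := by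
      rw [closure_le]
      rintro _ ⟨ψ, hψ, x, rfl⟩
      show T (x⁻¹ * ψ x) = 1
      rw [map_mul, map_inv, inv_mul_eq_one]
      exact (Equiv.prod_comp (Equiv.mulRight (⟨ψ, hψ⟩ : A))
        fun φ => (QuotientGroup.mk ((φ : MulAut X) x) : X ⧸ N)).symm
    rw [h.gen] at hle
    exact hle (mem_top g)
  have h1 := hT z
  have h2 : T z = (QuotientGroup.mk z : X ⧸ N) ^ Nat.card A := by
    show ∏ φ : A, _ = _
    rw [Finset.prod_congr rfl (fun (φ : A) _ => (QuotientGroup.eq.2 (hz φ φ.2)).symm), Finset.prod_const,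
      Nat.card_eq_fintype_card]
    rfl
  obtain ⟨k, hk⟩ := h.hX z
  have hq : orderOf (QuotientGroup.mk z : X ⧸ N) = 1 := by
    refine Nat.eq_one_of_dvd_coprimes (Nat.Coprime.pow_left k (Nat.coprime_two_left.2 h.odd))
      (orderOf_dvd_of_pow_eq_one ?_) (orderOf_dvd_of_pow_eq_one (h2 ▸ h1))
    rw [← QuotientGroup.mk_pow, hk]; rfl
  rw [orderOf_eq_one_iff, QuotientGroup.eq_one_iff] at hq
  exact hq

/-- Odd automorphisms fixing the involutions of an invariant abelian subgroup fix it. -/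
theorem fix_of_fix_involutions {N : Subgroup X} (hc : ∀ a ∈ N, ∀ b ∈ N, a * b = b * a)
    {φ : MulAut X} (hφ : φ ∈ A) (hinv : ∀ a ∈ N, φ a ∈ N)
    (hfix : ∀ a ∈ N, a ^ 2 = 1 → φ a = a) : ∀ a ∈ N, φ a = a := by
  have key : ∀ j : ℕ, ∀ a ∈ N, a ^ 2 ^ j = 1 → φ a = a := by
    intro j
    induction j with
    | zero => intro a _ ha; rw [pow_zero, pow_one] at ha; rw [ha, map_one]
    | succ j ih =>
      intro a haN ha
      have hsq := ih (a ^ 2) (pow_mem haN 2) (by rw [← pow_mul, ← pow_succ']; exact ha)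
      set w := a⁻¹ * φ a with hw
      have hwN : w ∈ N := mul_mem (inv_mem haN) (hinv a haN)
      have hw2 : w ^ 2 = 1 := by
        rw [hw, (show Commute a⁻¹ (φ a) from hc _ (inv_mem haN) _ (hinv a haN)).mul_pow, inv_pow,
          ← map_pow, hsq, inv_mul_cancel]
      have e : φ a = a * w := by rw [hw, mul_inv_cancel_left]
      rw [e, eq_one_of_shift h hφ e (hfix w hwN hw2) hw2, mul_one]
  intro a ha
  obtain ⟨j, hj⟩ := h.hX a
  exact key j a ha hj

/-- An invariant normal elementary abelian subgroup is central. -/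
theorem elementary_central {E : Subgroup X} [E.Normal] (hc : ∀ a ∈ E, ∀ b ∈ E, a * b = b * a)
    (h2 : ∀ a ∈ E, a ^ 2 = 1) (hinv : ∀ φ ∈ A, ∀ a ∈ E, φ a ∈ E) : E ≤ center X := by
  haveI : Fact (Nat.Prime 2) := ⟨Nat.prime_two⟩
  by_contra hnot
  have h4 := h.small E inferInstance hc h2
  set Z := E ⊓ center X with hZ
  have hEne : E ≠ ⊥ := fun e => hnot (by rw [e]; exact bot_le)
  have hZne : Z ≠ ⊥ := PGroupsBasic.inf_center_ne_bot h.hX hEne
  have hlt : Z < E := lt_of_le_of_ne inf_le_left fun e => hnot (e.ge.trans inf_le_right)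
  obtain ⟨k, hk⟩ := IsPGroup.iff_card.mp (h.hX.to_subgroup Z)
  have hk1 : 2 ≤ Nat.card Z := (Subgroup.one_lt_card_iff_ne_bot Z).2 hZne
  have hdvd : Nat.card Z ∣ Nat.card E := Subgroup.card_dvd_of_le hlt.le
  have hne : Nat.card Z ≠ Nat.card E := fun e =>
    hlt.ne (Subgroup.eq_of_le_of_card_ge hlt.le e.ge)
  have hle := Nat.le_of_dvd Nat.card_pos hdvd
  obtain ⟨m, hm⟩ := hdvd
  have hZ2 : Nat.card Z = 2 ∧ m = 2 := by
    rcases k with _ | _ | k
    · rw [pow_zero] at hk; omega
    · rw [pow_one] at hk; rw [hk] at hm hle hne ⊢; exact ⟨rfl, by omega⟩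
    · rw [hk] at hle hne
      have : 4 ≤ 2 ^ (k + 1 + 1) := by
        rw [pow_succ, pow_succ]
        have := Nat.one_le_two_pow (n := k)
        omega
      omega
  obtain ⟨hZ2, rfl⟩ := hZ2
  have hidx : (Z.subgroupOf E).index = 2 := by
    have := (Z.subgroupOf E).card_mul_index
    rw [Nat.card_congr (subgroupOfEquivOfLe hlt.le).toEquiv, hm] at this
    exact Nat.eq_of_mul_eq_mul_left Nat.card_pos this
  refine hnot (fixed_central h fun φ hφ a ha => ?_)
  have hzfix : ∀ w ∈ Z, φ w = w := by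
    intro w hw
    have hwm : φ w ∈ Z := ⟨hinv φ hφ w hw.1,
      (Subgroup.characteristic_iff_map_le.1 (inferInstance : (center X).Characteristic) φ)
        ⟨w, hw.2, rfl⟩⟩
    obtain ⟨u, v, -, huv⟩ := Nat.card_eq_two_iff.mp hZ2
    have mem : ∀ t : Z, t = u ∨ t = v := fun t => by
      have : t ∈ ({u, v} : Set _) := huv ▸ Set.mem_univ t
      simpa using this
    by_cases hw1 : w = 1
    · rw [hw1, map_one]
    have h1 : (⟨w, hw⟩ : Z) ≠ 1 := fun e => hw1 (congrArg Subtype.val e)
    have h3 : (⟨φ w, hwm⟩ : Z) ≠ 1 := fun e =>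
      hw1 (φ.injective ((congrArg Subtype.val e).trans (map_one φ).symm))
    have : (⟨φ w, hwm⟩ : Z) = ⟨w, hw⟩ := by
      rcases mem 1 with q | q <;> rcases mem ⟨w, hw⟩ with q' | q' <;>
        rcases mem ⟨φ w, hwm⟩ with q'' | q'' <;> grind
    exact congrArg Subtype.val this
  by_cases haZ : a ∈ Z
  · exact hzfix a haZ
  have hφa : φ a ∉ Z := fun e => haZ (by
    have e2 := hzfix _ e
    rwa [φ.injective e2] at e)
  have hw : a⁻¹ * φ a ∈ Z := by
    have := (mul_mem_iff_of_index_two hidx (a := (⟨a⁻¹, inv_mem ha⟩ : E))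
      (b := ⟨φ a, hinv φ hφ a ha⟩)).2
      (iff_of_false (fun e => haZ (inv_mem_iff.1 (mem_subgroupOf.1 e)))
        (fun e => hφa (mem_subgroupOf.1 e)))
    exact mem_subgroupOf.1 this
  have e : φ a = a * (a⁻¹ * φ a) := (mul_inv_cancel_left _ _).symm
  rw [e, eq_one_of_shift h hφ e (hzfix _ hw) (h2 _ hw.1), mul_one]

end Cfsg.Agent.NoE8Base20
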