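import Cfsg.Agent.Lib.NoE8Base20
import Cfsg.Agent.Lib.OrderFourGroups88

/-!
2-groups without normal `E₈` under odd automorphisms with `[X, A] = X`: the critical subgroup, and
the case in which the automorphisms fix the involutions of the centre of a critical subgroup.
-/

open Subgroup
open scoped commutatorElement

set_option autoImplicit false
set_option linter.unusedSectionVars false

namespace Cfsg.Agent.NoE8Central20

open Cfsg.Agent.NoE8Base20

theorem zmod_two_pair : ∀ a b : ZMod 2, a * b = 1 → a = 1 ∧ b = 1 := by decide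

theorem zmod_two_triple : ∀ a b c : ZMod 2, a * b * c = 1 → a = 1 ∧ b = 1 ∧ c = 1 := by decide

variable {X : Type*} [Group X] [Finite X] {A : Subgroup (MulAut X)}

/-- A critical subgroup and the involutions of its centre. -/
structure Crit (A : Subgroup (MulAut X)) where
  H : Subgroup X
  E : Subgroup X
  charH : H.Characteristic
  cle : centralizer (H : Set X) ≤ H
  sq : ∀ a ∈ H, a ^ 2 ∈ centralizer (H : Set X)
  com : ∀ (x a : X), a ∈ H → ⁅x, a⁆ ∈ centralizer (H : Set X)
  mem_E : ∀ a, a ∈ E ↔ a ∈ centralizer (H : Set X) ∧ a ^ 2 = 1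
  central : E ≤ center X
  inv : ∀ φ ∈ A, ∀ a ∈ E, φ a ∈ E
  card : Nat.card E = 2 ∨ Nat.card E = 4

theorem centralizer_comm (K : Crit A) :
    ∀ a ∈ centralizer (K.H : Set X), ∀ b ∈ centralizer (K.H : Set X), a * b = b * a :=
  fun a ha b hb => (mem_centralizer_iff.1 ha b (K.cle hb)).symm

theorem char_inv {N : Subgroup X} (hN : N.Characteristic) (φ : MulAut X) {a : X} (ha : a ∈ N) :
    φ a ∈ N :=
  (Subgroup.characteristic_iff_map_le.1 hN φ) ⟨a, ha, rfl⟩

theorem centralizer_inv {H : Subgroup X} (hH : H.Characteristic) (φ : MulAut X) {a : X}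
    (ha : a ∈ centralizer (H : Set X)) : φ a ∈ centralizer (H : Set X) := by
  rw [mem_centralizer_iff] at ha ⊢
  intro b hb
  have := congrArg φ (ha (φ.symm b) (char_inv hH φ.symm hb))
  simpa using this

theorem exists_crit (h : Hyp A) : Nonempty (Crit A) := by
  haveI : Fact (Nat.Prime 2) := ⟨Nat.prime_two⟩
  obtain ⟨H, hHc, hΦ, hcom, hcle⟩ := PGroupsCritical.exists_critical (p := 2) h.hX
  haveI := hHc
  have hcomm : ∀ a ∈ centralizer (H : Set X), ∀ b ∈ centralizer (H : Set X), a * b = b * a :=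
    fun a ha b hb => (mem_centralizer_iff.1 ha b (hcle hb)).symm
  let E : Subgroup X :=
    { carrier := {a | a ∈ centralizer (H : Set X) ∧ a ^ 2 = 1}
      one_mem' := ⟨one_mem _, one_pow 2⟩
      mul_mem' := fun {a b} ha hb => ⟨mul_mem ha.1 hb.1, by
        rw [(show Commute a b from hcomm a ha.1 b hb.1).mul_pow, ha.2, hb.2, one_mul]⟩
      inv_mem' := fun {a} ha => ⟨inv_mem ha.1, by rw [inv_pow, ha.2, inv_one]⟩ }
  have hCn : (centralizer (H : Set X)).Normal := inferInstance
  haveI : E.Normal := ⟨fun a ha g => ⟨hCn.conj_mem a ha.1 g, by rw [conj_pow, ha.2]; group⟩⟩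
  have hinv : ∀ φ ∈ A, ∀ a ∈ E, φ a ∈ E := fun φ _ a ha =>
    ⟨centralizer_inv hHc φ ha.1, by rw [← map_pow, ha.2, map_one]⟩
  have hEc : ∀ a ∈ E, ∀ b ∈ E, a * b = b * a := fun a ha b hb => hcomm a ha.1 b hb.1
  refine ⟨⟨H, E, hHc, hcle, fun a ha => hΦ ⟨⟨a, ha⟩ ^ 2,
    PGroupsBasic.pow_mem_frattini (h.hX.to_subgroup H) _, rfl⟩, fun x a ha => ?_, fun a => Iff.rfl,
    elementary_central h hEc (fun a ha => ha.2) hinv, hinv, ?_⟩⟩
  · have := hcom (commutator_mem_commutator ha (mem_top x))
    rw [← commutatorElement_inv]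
    exact inv_mem this.2
  · have h4 := h.small E inferInstance hEc fun a ha => ha.2
    obtain ⟨k, hk⟩ := IsPGroup.iff_card.mp (h.hX.to_subgroup E)
    rcases k with _ | _ | _ | k
    · exfalso
      rw [pow_zero, Subgroup.card_eq_one] at hk
      have hCb : centralizer (H : Set X) = ⊥ := by
        by_contra hne
        obtain ⟨a, haC, hao⟩ := PGroupsBasic.exists_orderOf_eq_of_ne_bot
          (h.hX.to_subgroup (centralizer (H : Set X))) hne
        have : a ∈ E := ⟨haC, by rw [← hao]; exact pow_orderOf_eq_one a⟩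
        rw [hk, mem_bot] at this
        rw [this, orderOf_one] at hao
        omega
      by_cases hH : H = ⊥
      · refine h.hna ⟨⟨fun x y => ?_⟩⟩
        have : x ∈ centralizer (H : Set X) := by rw [hH]; simp [mem_centralizer_iff]
        rw [hCb, mem_bot] at this
        simp [this]
      · refine PGroupsBasic.inf_center_ne_bot h.hX hH (eq_bot_iff.2 fun a ha => ?_)
        rw [← hCb]
        exact center_le_centralizer _ ha.2
    · left; rw [hk]; rfl
    · right; rw [hk]; rfl
    · have := Nat.le_trans (Nat.pow_le_pow_right (by norm_num : 1 ≤ 2) (show 3 ≤ k + 1 + 1 + 1 by omega)) (hk ▸ h4)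
      norm_num at this

/-- An involution commuting with everything modulo a central four group lies in it. -/
theorem mem_of_invol (h : Hyp A) {E : Subgroup X} (hE : E ≤ center X) (h2 : ∀ a ∈ E, a ^ 2 = 1)
    (h4 : Nat.card E = 4) {t : X} (ht : t ^ 2 = 1) (hcom : ∀ g : X, ⁅g, t⁆ ∈ E) : t ∈ E := by
  haveI : Fact (Nat.Prime 2) := ⟨Nat.prime_two⟩
  haveI := PGroupsBasic.normal_of_le_center hE
  by_contra htE
  have hEa : IsMulCommutative E := PGroupsBasic.isMulCommutative_of_forall fun a _ b hb =>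
    mem_center_iff.1 (hE hb) a
  have hct : t ∈ centralizer (E : Set X) := mem_centralizer_iff.2 fun a ha =>
    (mem_center_iff.1 (hE ha) t).symm
  have hN := PGroupsCritical.normal_sup_zpowers (A := E) (x := t) hcom
  have hab := PGroupsCritical.isMulCommutative_sup_zpowers hEa hct
  have hsmall := h.small (E ⊔ zpowers t) hN (fun a ha b hb =>
    PGroupsBasic.comm_of_isMulCommutative hab ha hb) (fun a ha => by
      obtain ⟨u, hu, w, hw, rfl⟩ := mem_sup_of_normal_left.1 ha
      obtain ⟨i, rfl⟩ := hw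
      show (u * t ^ i) ^ 2 = 1
      rw [(show Commute u (t ^ i) from (mem_center_iff.1 (hE hu) _).symm).mul_pow, h2 u hu,
        ← zpow_natCast, ← zpow_mul, mul_comm, zpow_mul, zpow_natCast, ht, one_zpow, one_mul])
  have hto : orderOf t = 2 := orderOf_eq_prime ht fun e => htE (e ▸ one_mem E)
  have hlt : E < E ⊔ zpowers t := lt_of_le_of_ne le_sup_left fun e =>
    htE (e ▸ mem_sup_right (mem_zpowers t))
  have h8 := Subgroup.card_le_of_le hlt.le
  have hne : Nat.card E ≠ Nat.card ↥(E ⊔ zpowers t) := fun e =>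
    hlt.ne (Subgroup.eq_of_le_of_card_ge hlt.le e.ge)
  omega

/-- The facts in the fixed case. -/
structure Fixed (A : Subgroup (MulAut X)) (E : Subgroup X) : Prop where
  center_eq : center X = E
  comm_eq : commutator X = E
  frattini_eq : frattini X = E
  sq : ∀ x : X, x ^ 2 ∈ E
  two : ∀ a ∈ E, a ^ 2 = 1
  fix : ∀ φ ∈ A, ∀ a ∈ E, φ a = a
  card : Nat.card E = 2 ∨ Nat.card E = 4

theorem fixed_case (h : Hyp A) (K : Crit A) (hfix : ∀ φ ∈ A, ∀ a ∈ K.E, φ a = a) :
    Fixed A K.E := by
  haveI : Fact (Nat.Prime 2) := ⟨Nat.prime_two⟩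
  haveI := K.charH
  set Z := centralizer (K.H : Set X) with hZ
  have hfixZ : ∀ φ ∈ A, ∀ a ∈ Z, φ a = a := fun φ hφ =>
    fix_of_fix_involutions h (centralizer_comm K) hφ (fun a ha => centralizer_inv K.charH φ ha)
      fun a ha ha2 => hfix φ hφ a ((K.mem_E a).2 ⟨ha, ha2⟩)
  have hZn : Z.Normal := inferInstance
  have hZc : Z ≤ center X := fixed_central h hfixZ
  have hcZ : center X ≤ Z := center_le_centralizer _
  have hcen : ∀ {a : X}, a ∈ Z → ∀ g, Commute g a := fun ha g => mem_center_iff.1 (hZc ha) g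
  have hmul : ∀ (x y : X) {a : X}, a ∈ K.H → ⁅x * y, a⁆ = ⁅x, a⁆ * ⁅y, a⁆ := fun x y a ha => by
    have hyc := hcen (K.com y a ha)
    calc ⁅x * y, a⁆ = x * ⁅y, a⁆ * x⁻¹ * ⁅x, a⁆ := by simp only [commutatorElement_def]; group
      _ = ⁅x, a⁆ * ⁅y, a⁆ := by rw [(hyc x).eq, mul_inv_cancel_right, (hyc ⁅x, a⁆).eq]
  have hsqZ : ∀ x, x ^ 2 ∈ Z := by
    intro x
    rw [hZ, mem_centralizer_iff]
    intro a ha
    have hw := K.com x a ha
    have h1 : ⁅x, a ^ 2⁆ = 1 := commutatorElement_eq_one_iff_mul_comm.2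
      (hcen (K.sq a ha) x).eq
    rw [PGroupsBasic.commutatorElement_pow_right (hZc hw)] at h1
    have h2 : ⁅x ^ 2, a⁆ = 1 := by rw [pow_two, hmul x x ha, ← pow_two, h1]
    exact (commutatorElement_eq_one_iff_mul_comm.1 h2).symm
  have hcomE : ∀ x y : X, ⁅x, y⁆ ∈ K.E := by
    intro x y
    have hxy : ⁅x, y⁆ ∈ Z := by
      rw [hZ, mem_centralizer_iff]
      intro a ha
      let f : X →* Z := MonoidHom.mk' (fun x => ⟨⁅x, a⁆, K.com x a ha⟩)
        fun x y => Subtype.ext (hmul x y ha)
      have : f ⁅x, y⁆ = 1 := by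
        rw [map_commutatorElement, commutatorElement_eq_one_iff_mul_comm]
        exact Subtype.ext (hcen (f y).2 _).eq
      exact (commutatorElement_eq_one_iff_mul_comm.1 (congrArg Subtype.val this)).symm
    refine (K.mem_E _).2 ⟨hxy, ?_⟩
    rw [← PGroupsBasic.commutatorElement_pow_left (hZc hxy),
      commutatorElement_eq_one_iff_mul_comm]
    exact ((hcen (hsqZ x)) y).eq.symm
  have hle : commutator X ≤ K.E := by
    rw [commutator_def, Subgroup.commutator_le]
    exact fun x _ y _ => hcomE x y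
  have hZle : Z ≤ commutator X := fun z hz => mem_of_fixed h le_rfl fun φ hφ => by
    rw [hfixZ φ hφ z hz, inv_mul_cancel]; exact one_mem _
  have hEZ : K.E ≤ Z := fun a ha => ((K.mem_E a).1 ha).1
  have hcenter : center X = K.E :=
    le_antisymm ((hcZ.trans hZle).trans hle) K.central
  haveI : K.E.Normal := PGroupsBasic.normal_of_le_center K.central
  refine ⟨hcenter, le_antisymm hle (hEZ.trans hZle), le_antisymm ?_ ?_,
    fun x => (hZle.trans hle) (hsqZ x), fun a ha => ((K.mem_E a).1 ha).2, hfix, K.card⟩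
  · exact PGroupsBasic.frattini_le_of_elementary_quotient (p := 2) hle
      fun x => (hZle.trans hle) (hsqZ x)
  · exact ((hEZ.trans hZle)).trans (PGroupsBasic.commutator_le_frattini h.hX)

section quad

variable {E : Subgroup X} (F : Fixed A E)

local notation "V" => X ⧸ center X

/-- The squaring map. -/
noncomputable def q (v : X ⧸ center X) : X := v.out ^ 2

/-- The commutator map. -/
noncomputable def cB (v w : X ⧸ center X) : X := ⁅w.out, v.out⁆

include F

theorem com_mem (x y : X) : ⁅x, y⁆ ∈ E :=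
  F.comm_eq ▸ commutator_mem_commutator (mem_top x) (mem_top y)

theorem com_cen (x y : X) : ⁅x, y⁆ ∈ center X := F.center_eq.symm ▸ com_mem F x y

theorem out_eq (x : X) : ∃ e ∈ center X, (QuotientGroup.mk x : X ⧸ center X).out = x * e := by
  refine ⟨x⁻¹ * (QuotientGroup.mk x : X ⧸ center X).out, QuotientGroup.eq.1 ?_,
    (mul_inv_cancel_left _ _).symm⟩
  rw [QuotientGroup.out_eq']

theorem q_mk (x : X) : q (QuotientGroup.mk x : X ⧸ center X) = x ^ 2 := by
  obtain ⟨e, he, e'⟩ := out_eq F x
  rw [q, e', (show Commute x e from mem_center_iff.1 he x).mul_pow,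
    F.two e (F.center_eq ▸ he), mul_one]

theorem cB_mk (x y : X) :
    cB (QuotientGroup.mk x : X ⧸ center X) (QuotientGroup.mk y) = ⁅y, x⁆ := by
  obtain ⟨e, he, e'⟩ := out_eq F x
  obtain ⟨f, hf, f'⟩ := out_eq F y
  have h1 : ⁅f, x⁆ = 1 := commutatorElement_eq_one_iff_mul_comm.2 (mem_center_iff.1 hf x).symm
  have h2 : ⁅y * f, e⁆ = 1 := commutatorElement_eq_one_iff_mul_comm.2 (mem_center_iff.1 he _)
  rw [cB, e', f', PGroupsBasic.commutatorElement_mul_right_of_central (com_cen F _ _), h2,
    mul_one, PGroupsBasic.commutatorElement_mul_left_of_central (com_cen F _ _), h1, mul_one]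

theorem q_mem (v : X ⧸ center X) : q v ∈ E := F.sq _

theorem cB_mem (v w : X ⧸ center X) : cB v w ∈ E := com_mem F _ _

theorem cB_mul_left (u v w : X ⧸ center X) : cB (u * v) w = cB u w * cB v w := by
  obtain ⟨x, rfl⟩ := QuotientGroup.mk_surjective u
  obtain ⟨y, rfl⟩ := QuotientGroup.mk_surjective v
  obtain ⟨z, rfl⟩ := QuotientGroup.mk_surjective w
  rw [← QuotientGroup.mk_mul, cB_mk F, cB_mk F, cB_mk F,
    PGroupsBasic.commutatorElement_mul_right_of_central (com_cen F _ _)]

theorem cB_self (v : X ⧸ center X) : cB v v = 1 := commutatorElement_self _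

theorem cB_symm (v w : X ⧸ center X) : cB w v = cB v w := by
  have h1 := F.two _ (cB_mem F v w)
  rw [pow_two] at h1
  rw [← inv_eq_of_mul_eq_one_right h1, cB, cB, commutatorElement_inv]

theorem cB_mul_right (u v w : X ⧸ center X) : cB u (v * w) = cB u v * cB u w := by
  rw [cB_symm F, cB_mul_left F, cB_symm F v, cB_symm F w]

theorem q_mul (v w : X ⧸ center X) : q (v * w) = q v * q w * cB v w := by
  obtain ⟨x, rfl⟩ := QuotientGroup.mk_surjective v
  obtain ⟨y, rfl⟩ := QuotientGroup.mk_surjective w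
  rw [← QuotientGroup.mk_mul, q_mk F, q_mk F, q_mk F, cB_mk F]
  have hc := mem_center_iff.1 (com_cen F y x)
  calc (x * y) ^ 2 = x * (⁅y, x⁆ * x * y) * y := by
        rw [pow_two, commutatorElement_def]; group
    _ = (x ^ 2 * y ^ 2) * ⁅y, x⁆ := by
        rw [mul_assoc ⁅y, x⁆, ← hc (x * y)]
        rw [show x * (x * y * ⁅y, x⁆) * y = x * x * y * (⁅y, x⁆ * y) by group, ← hc y,
          pow_two, pow_two]
        group

theorem q_one : q (1 : X ⧸ center X) = 1 := by
  rw [← QuotientGroup.mk_one, q_mk F, one_pow]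

theorem sq_one (v : X ⧸ center X) : v * v = 1 := by
  obtain ⟨x, rfl⟩ := QuotientGroup.mk_surjective v
  rw [← QuotientGroup.mk_mul, QuotientGroup.eq_one_iff, ← pow_two, F.center_eq]
  exact F.sq x

theorem comm_V (v w : X ⧸ center X) : v * w = w * v := by
  obtain ⟨x, rfl⟩ := QuotientGroup.mk_surjective v
  obtain ⟨y, rfl⟩ := QuotientGroup.mk_surjective w
  rw [← QuotientGroup.mk_mul, ← QuotientGroup.mk_mul, QuotientGroup.eq]
  have e : (x * y)⁻¹ * (y * x) = ⁅y⁻¹, x⁻¹⁆ := by simp [commutatorElement_def, mul_assoc]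
  rw [e]; exact com_cen F _ _

omit F in
/-- The indicator of `M`. -/
noncomputable def ind (M : Subgroup X) (e : X) : ZMod 2 :=
  @ite _ (e ∈ M) (Classical.propDecidable _) 1 0

omit F in
theorem ind_eq_one {M : Subgroup X} {e : X} : ind M e = 1 ↔ e ∈ M := by
  unfold ind; split_ifs with h <;> simp [h]

omit F in
theorem ind_of_mem {M : Subgroup X} {e : X} (h : e ∈ M) : ind M e = 1 := ind_eq_one.2 h

omit F in
theorem ind_mul {M : Subgroup X} {a b : X} (h : a * b ∈ M ↔ (a ∈ M ↔ b ∈ M)) :
    ind M (a * b) = ind M a + ind M b + 1 := by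
  unfold ind
  by_cases ha : a ∈ M <;> by_cases hb : b ∈ M <;> simp [h, ha, hb] <;> decide

theorem deg_ind_cB {M : Subgroup X}
    (hM : ∀ a ∈ E, ∀ b ∈ E, (a * b ∈ M ↔ (a ∈ M ↔ b ∈ M))) (a : X ⧸ center X) :
    Deg 1 (fun v => ind M (cB v a)) := by
  intro b v w
  simp only [der]
  rw [cB_mul_left F, cB_mul_left F, ind_mul (hM _ (cB_mem F v a) _ (cB_mem F b a)),
    ind_mul (hM _ (cB_mem F w a) _ (cB_mem F b a))]
  have e1 := CharTwo.add_self_eq_zero (ind M (cB v a))
  have e2 := CharTwo.add_self_eq_zero (ind M (cB w a))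
  linear_combination e1 - e2

theorem deg_ind_q {M : Subgroup X}
    (hM : ∀ a ∈ E, ∀ b ∈ E, (a * b ∈ M ↔ (a ∈ M ↔ b ∈ M))) :
    Deg 2 (fun v : X ⧸ center X => ind M (q v)) := by
  intro a
  have e : der a (fun v : X ⧸ center X => ind M (q v)) =
      fun v => ind M (q a) + ind M (cB v a) := by
    funext v
    simp only [der]
    rw [q_mul F, ind_mul (hM _ (mul_mem (q_mem F v) (q_mem F a)) _ (cB_mem F v a)),
      ind_mul (hM _ (q_mem F v) _ (q_mem F a))]
    have e1 := CharTwo.add_self_eq_zero (ind M (q v))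
    have e2 := CharTwo.add_self_eq_zero (1 : ZMod 2)
    linear_combination e1 + e2
  rw [e]
  exact deg_add _ _ _ (deg_const 1 _) (deg_ind_cB F hM a)

theorem exists_one {f : X ⧸ center X → ZMod 2} {d : ℕ} (hf : Deg d f) (h1 : f 1 = 1)
    (hd : 2 ^ d < Nat.card (X ⧸ center X)) : ∃ v, v ≠ 1 ∧ f v = 1 := by
  classical
  haveI : Fintype (X ⧸ center X) := Fintype.ofFinite _
  have := sum_eq_zero (comm_V F) (sq_one F) d f ⊤ hf (by rwa [Subgroup.card_top])
  simp only [Subgroup.mem_top, Finset.filter_true] at this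
  by_contra hno
  push Not at hno
  rw [Finset.sum_eq_single (1 : X ⧸ center X) (fun v _ hv => by
    have h01 : ∀ z : ZMod 2, z ≠ 1 → z = 0 := by decide
    exact h01 _ (hno v hv)) (fun h => absurd (Finset.mem_univ _) h), h1] at this
  exact one_ne_zero this

theorem eq_one_of_cB {v : X ⧸ center X} (h : ∀ w, cB v w = 1) : v = 1 := by
  obtain ⟨x, rfl⟩ := QuotientGroup.mk_surjective v
  rw [QuotientGroup.eq_one_iff, mem_center_iff]
  intro y
  have := h (QuotientGroup.mk y)
  rw [cB_mk F] at this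
  exact commutatorElement_eq_one_iff_mul_comm.1 this

theorem cB_bot (hcB : ∀ v w : X ⧸ center X, cB v w = 1) : E = ⊥ := by
  rw [← F.comm_eq, commutator_def, eq_bot_iff, Subgroup.commutator_le]
  intro x _ y _
  rw [mem_bot]
  have := hcB (QuotientGroup.mk y) (QuotientGroup.mk x)
  rwa [cB_mk F] at this

theorem E_ne_bot : E ≠ ⊥ := fun e => by
  have := F.card
  rw [e, Subgroup.card_bot] at this
  omega

variable (h : Hyp A)
include h

theorem orbit_const (hV : Nat.card (X ⧸ center X) ≤ 8) :
    ∀ v w : X ⧸ center X, v ≠ 1 → w ≠ 1 → q v = q w := by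
  classical
  have hcinv : ∀ (φ : MulAut X) {a : X}, a ∈ center X → φ a ∈ center X := fun φ a ha =>
    char_inv (inferInstance : (center X).Characteristic) φ ha
  letI : SMul A (X ⧸ center X) := ⟨fun φ v => QuotientGroup.mk ((φ : MulAut X) v.out)⟩
  have smk : ∀ (φ : A) (x : X),
      φ • (QuotientGroup.mk x : X ⧸ center X) = QuotientGroup.mk ((φ : MulAut X) x) := by
    intro φ x
    obtain ⟨e, he, e'⟩ := out_eq F x
    show QuotientGroup.mk ((φ : MulAut X) _) = _
    rw [e', map_mul, QuotientGroup.mk_mul,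
      show (QuotientGroup.mk ((φ : MulAut X) e) : X ⧸ center X) = 1 from
        (QuotientGroup.eq_one_iff _).2 (hcinv _ he), mul_one]
  letI : MulAction A (X ⧸ center X) :=
    { one_smul := fun v => by
        obtain ⟨x, rfl⟩ := QuotientGroup.mk_surjective v
        rw [smk]; rfl
      mul_smul := fun φ ψ v => by
        obtain ⟨x, rfl⟩ := QuotientGroup.mk_surjective v
        rw [smk, smk, smk]; rfl }
  have hq : ∀ (φ : A) (v : X ⧸ center X), q (φ • v) = q v := by
    intro φ v
    obtain ⟨x, rfl⟩ := QuotientGroup.mk_surjective v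
    rw [smk, q_mk F, q_mk F, ← map_pow, F.fix _ φ.2 _ (F.sq x)]
  have hfixone : ∀ v : X ⧸ center X, (∀ φ : A, φ • v = v) → v = 1 := by
    intro v hv
    obtain ⟨x, rfl⟩ := QuotientGroup.mk_surjective v
    rw [QuotientGroup.eq_one_iff]
    refine mem_of_fixed h (F.center_eq.symm ▸ F.comm_eq.le) fun φ hφ => QuotientGroup.eq.1 ?_
    have := hv ⟨φ, hφ⟩
    rw [smk] at this
    exact this.symm
  have hone : ∀ φ : A, φ • (1 : X ⧸ center X) = 1 := fun φ => by
    rw [← QuotientGroup.mk_one, smk, map_one]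
  have horb : ∀ v : X ⧸ center X, v ≠ 1 →
      Odd (MulAction.orbit A v).ncard ∧ 3 ≤ (MulAction.orbit A v).ncard ∧
        (1 : X ⧸ center X) ∉ MulAction.orbit A v := by
    intro v hv
    have hodd : Odd (MulAction.orbit A v).ncard := by
      rw [← MulAction.index_stabilizer]
      exact Odd.of_dvd_nat h.odd (Subgroup.index_dvd_card _)
    have h1 : (MulAction.orbit A v).ncard ≠ 1 := fun e => hv (hfixone v fun φ => by
      obtain ⟨a, ha⟩ := Set.ncard_eq_one.1 e
      have e1 : φ • v ∈ MulAction.orbit A v := MulAction.mem_orbit v φ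
      have e2 : v ∈ MulAction.orbit A v := MulAction.mem_orbit_self v
      rw [ha, Set.mem_singleton_iff] at e1 e2
      rw [e1, e2])
    refine ⟨hodd, by obtain ⟨k, hk⟩ := hodd; omega, ?_⟩
    rintro ⟨φ, hφ⟩
    have := congrArg (fun w => φ⁻¹ • w) hφ
    simp only [inv_smul_smul, hone] at this
    exact hv this
  intro v w hv hw
  by_cases hvw : w ∈ MulAction.orbit A v
  · obtain ⟨φ, rfl⟩ := hvw
    exact (hq φ v).symm
  exfalso
  obtain ⟨o1, t1, n1⟩ := horb v hv
  obtain ⟨o2, t2, n2⟩ := horb w hw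
  have hd : Disjoint (MulAction.orbit A v) (MulAction.orbit A w) := by
    rw [Set.disjoint_left]
    intro u hu hu'
    refine hvw ?_
    rw [← MulAction.orbit_eq_iff.2 hu, MulAction.orbit_eq_iff.2 hu']
    exact MulAction.mem_orbit_self w
  by_cases hall : ∀ u : X ⧸ center X, u ≠ 1 → u ∈ MulAction.orbit A v ∪ MulAction.orbit A w
  · have e : MulAction.orbit A v ∪ MulAction.orbit A w = (Set.univ \ {1}) := by
      ext u
      simp only [Set.mem_diff, Set.mem_univ, Set.mem_singleton_iff, true_and]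
      refine ⟨?_, hall u⟩
      rintro (hu | hu) rfl
      · exact n1 hu
      · exact n2 hu
    have hc := congrArg Set.ncard e
    rw [Set.ncard_union_eq hd, Set.ncard_diff (Set.subset_univ _), Set.ncard_univ,
      Set.ncard_singleton] at hc
    obtain ⟨k, hk⟩ := IsPGroup.iff_card.mp (h.hX.to_quotient (center X))
    obtain ⟨a, ha⟩ := o1
    obtain ⟨b, hb⟩ := o2
    rcases Nat.eq_zero_or_pos k with rfl | hk0
    · simp only [pow_zero] at hk; omega
    · obtain ⟨c, hc'⟩ : ∃ c, 2 ^ k = 2 * c :=
        ⟨2 ^ (k - 1), by rw [← pow_succ', Nat.sub_add_cancel hk0]⟩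
      omega
  · push Not at hall
    obtain ⟨u, hu, hu'⟩ := hall
    obtain ⟨o3, t3, n3⟩ := horb u hu
    simp only [Set.mem_union, not_or] at hu'
    have hd3 : Disjoint (MulAction.orbit A v ∪ MulAction.orbit A w) (MulAction.orbit A u) := by
      rw [Set.disjoint_left]
      rintro z (hz | hz) hz'
      · refine hu'.1 ?_
        rw [← MulAction.orbit_eq_iff.2 hz, MulAction.orbit_eq_iff.2 hz']
        exact MulAction.mem_orbit_self u
      · refine hu'.2 ?_
        rw [← MulAction.orbit_eq_iff.2 hz, MulAction.orbit_eq_iff.2 hz']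
        exact MulAction.mem_orbit_self u
    have hc := Set.ncard_le_ncard (Set.subset_univ
      (MulAction.orbit A v ∪ MulAction.orbit A w ∪ MulAction.orbit A u))
    rw [Set.ncard_union_eq hd3, Set.ncard_union_eq hd, Set.ncard_univ] at hc
    omega

theorem card_quot_ne : Nat.card (X ⧸ center X) ≠ 8 := by
  intro h8
  have hc := orbit_const F h h8.le
  refine E_ne_bot F (cB_bot F fun v w => ?_)
  have h2 := sq_one F
  by_cases hv : v = 1
  · subst hv; rw [cB, ← QuotientGroup.mk_one (center X)]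
    have := cB_mk F 1 w.out
    rw [QuotientGroup.out_eq'] at this
    simpa [cB] using this
  by_cases hw : w = 1
  · subst hw; rw [cB_symm F]
    have := cB_mul_left F 1 1 v
    rw [one_mul, left_eq_mul] at this
    exact this
  by_cases hvw : v = w
  · subst hvw; exact cB_self F v
  obtain ⟨u, hu⟩ : ∃ u : X ⧸ center X, u ∉ ({1, v, w, v * w} : Set (X ⧸ center X)) := by
    by_contra hno
    push Not at hno
    have hle := Set.ncard_le_ncard (s := (Set.univ : Set (X ⧸ center X)))
      (t := {1, v, w, v * w}) (fun u _ => hno u)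
    rw [Set.ncard_univ, h8] at hle
    have h4 : ({1, v, w, v * w} : Set (X ⧸ center X)).ncard ≤ 4 := by
      refine (Set.ncard_insert_le _ _).trans ?_
      refine Nat.add_le_add_right ((Set.ncard_insert_le _ _).trans ?_) 1
      refine Nat.add_le_add_right ((Set.ncard_insert_le _ _).trans ?_) 1
      rw [Set.ncard_singleton]
    omega
  simp only [Set.mem_insert_iff, Set.mem_singleton_iff, not_or] at hu
  obtain ⟨hu1, huv, huw, huvw⟩ := hu
  have key : ∀ a b : X ⧸ center X, a ≠ 1 → b ≠ 1 → a ≠ b → cB a b = q v := by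
    intro a b ha hb hab
    have hab1 : a * b ≠ 1 := fun e => hab ((eq_inv_of_mul_eq_one_left e).trans
      (inv_eq_of_mul_eq_one_right (h2 b)))
    have e := q_mul F a b
    rw [hc (a * b) v hab1 hv, hc a v ha hv, hc b v hb hv] at e
    have h22 := F.two _ (q_mem F v)
    rw [pow_two] at h22
    rw [h22, one_mul] at e
    exact e.symm
  have hvw1 : v * w ≠ 1 := fun e => hvw ((eq_inv_of_mul_eq_one_left e).trans
      (inv_eq_of_mul_eq_one_right (h2 w)))
  have e := cB_mul_right F u v w
  rw [key u (v * w) hu1 hvw1 huvw, key u v hu1 hv huv, key u w hu1 hw huw, left_eq_mul] at e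
  rw [key v w hv hw hvw, e]

theorem four_small (hV : Nat.card (X ⧸ center X) ≤ 4) : Nat.card E = 2 ∧ Nat.card (X ⧸ center X) = 4 := by
  classical
  haveI : Fact (Nat.Prime 2) := ⟨Nat.prime_two⟩
  have h2 := sq_one F
  obtain ⟨v, hv⟩ : ∃ v : X ⧸ center X, v ≠ 1 := by
    by_contra hno
    push Not at hno
    exact E_ne_bot F (cB_bot F fun a b => by rw [hno a, ← hno b]; exact cB_self F _)
  obtain ⟨w, hw⟩ : ∃ w : X ⧸ center X, w ≠ 1 ∧ w ≠ v := by
    by_contra hno
    push Not at hno
    have h1 : ∀ b : X ⧸ center X, cB (1 : X ⧸ center X) b = 1 := fun b => by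
      have := cB_mul_left F 1 1 b
      rwa [one_mul, left_eq_mul] at this
    refine E_ne_bot F (cB_bot F fun a b => ?_)
    by_cases ha : a = 1
    · rw [ha]; exact h1 b
    by_cases hb : b = 1
    · rw [hb, cB_symm F]; exact h1 a
    rw [hno a ha, hno b hb]; exact cB_self F v
  have hvw1 : v * w ≠ 1 := fun e => hw.2 ((eq_inv_of_mul_eq_one_right e).trans
    (inv_eq_of_mul_eq_one_right (h2 v)))
  have hset : ({1, v, w, v * w} : Set (X ⧸ center X)).ncard = 4 := by
    have a1 : v ≠ v * w := fun e => hw.1 (left_eq_mul.1 e)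
    have a2 : w ≠ v * w := fun e => hv (right_eq_mul.1 e)
    rw [Set.ncard_insert_of_notMem (by simp [Ne.symm hv, Ne.symm hw.1, Ne.symm hvw1]),
      Set.ncard_insert_of_notMem (by simp [Ne.symm hw.2, a1]), Set.ncard_pair a2]
  have hcard4 : Nat.card (X ⧸ center X) = 4 := by
    have := Set.ncard_le_ncard (Set.subset_univ ({1, v, w, v * w} : Set (X ⧸ center X)))
    rw [Set.ncard_univ, hset] at this
    omega
  refine ⟨?_, hcard4⟩
  have hall : ∀ u : X ⧸ center X, u = 1 ∨ u = v ∨ u = w ∨ u = v * w := by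
    intro u
    have e := Set.eq_of_subset_of_ncard_le (Set.subset_univ
      ({1, v, w, v * w} : Set (X ⧸ center X))) (by rw [Set.ncard_univ, hset, hcard4])
    have := (e.symm ▸ Set.mem_univ u : u ∈ ({1, v, w, v * w} : Set (X ⧸ center X)))
    simpa using this
  have h1 : ∀ b : X ⧸ center X, cB (1 : X ⧸ center X) b = 1 := fun b => by
    have := cB_mul_left F 1 1 b
    rwa [one_mul, left_eq_mul] at this
  have hval : ∀ a b : X ⧸ center X, cB a b ∈ zpowers (cB v w) := by
    intro a b
    have m : cB v w ∈ zpowers (cB v w) := mem_zpowers _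
    have m' : cB w v ∈ zpowers (cB v w) := by rw [cB_symm F v w]; exact m
    rcases hall a with rfl | rfl | rfl | rfl <;> rcases hall b with rfl | rfl | rfl | rfl <;>
      simp [cB_mul_left F, cB_mul_right F, cB_self F, h1, cB_symm F (1 : X ⧸ center X), m, m',
        mul_mem, one_mem]
  have hle : E ≤ zpowers (cB v w) := by
    haveI := PGroupsBasic.normal_of_le_center (H := zpowers (cB v w))
      (zpowers_le.2 (F.center_eq.symm ▸ cB_mem F v w))
    rw [← F.comm_eq, commutator_def, Subgroup.commutator_le]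
    intro x _ y _
    have := hval (QuotientGroup.mk y) (QuotientGroup.mk x)
    rwa [cB_mk F] at this
  have h3 := Subgroup.card_le_of_le hle
  rw [Nat.card_zpowers] at h3
  have h4 : orderOf (cB v w) ≤ 2 :=
    Nat.le_of_dvd (by norm_num) (orderOf_dvd_of_pow_eq_one (F.two _ (cB_mem F v w)))
  rcases F.card with hc | hc <;> omega

theorem no_singular (hE : Nat.card E = 4) (x : X) (hx : x ^ 2 = 1) : x ∈ E :=
  mem_of_invol h (F.center_eq ▸ le_rfl) F.two hE hx fun g => com_mem F g x

theorem four_case (hE : Nat.card E = 4) :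
    Cfsg.IsSpecial 2 X ∧ Nat.card X = 64 ∧ Nat.card {x : X // orderOf x = 2} = 3 ∧
      ∀ x : X, orderOf x = 2 → x ∈ center X := by
  haveI : Fact (Nat.Prime 2) := ⟨Nat.prime_two⟩
  have hinv : ∀ x : X, orderOf x = 2 → x ∈ center X := fun x hx =>
    F.center_eq.symm ▸ no_singular F h hE x (by rw [← hx]; exact pow_orderOf_eq_one x)
  have hV : Nat.card (X ⧸ center X) = 16 := by
    obtain ⟨k, hk⟩ := IsPGroup.iff_card.mp (h.hX.to_quotient (center X))
    by_contra hne
    have h8 := card_quot_ne F h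
    have hle : ¬ Nat.card (X ⧸ center X) ≤ 4 := fun hle => by
      have := (four_small F h hle).1; omega
    have hk5 : 5 ≤ k := by
      by_contra hk5
      have : k = 0 ∨ k = 1 ∨ k = 2 ∨ k = 3 ∨ k = 4 := by omega
      rcases this with rfl | rfl | rfl | rfl | rfl <;> simp at hk <;> omega
    obtain ⟨e1, e2, he1, he2, he12⟩ : ∃ a b, (a ∈ E ∧ a ≠ 1) ∧ (b ∈ E ∧ b ≠ 1) ∧ a ≠ b := by
      obtain ⟨⟨a, ha⟩, ha1⟩ : ∃ a : E, a ≠ 1 := by
        haveI : Nontrivial E := Finite.one_lt_card_iff_nontrivial.1 (by omega)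
        exact exists_ne 1
      obtain ⟨⟨b, hb⟩, hb'⟩ : ∃ b : E, b ∉ ({1, ⟨a, ha⟩} : Set E) := by
        by_contra hno
        push Not at hno
        have := Set.ncard_le_ncard (s := (Set.univ : Set E)) (t := {1, ⟨a, ha⟩}) (fun u _ => hno u)
        rw [Set.ncard_univ, hE, Set.ncard_pair (Ne.symm ha1)] at this
        omega
      simp only [Set.mem_insert_iff, Set.mem_singleton_iff, not_or] at hb'
      exact ⟨a, b, ⟨ha, fun e => ha1 (Subtype.ext e)⟩, ⟨hb, fun e => hb'.1 (Subtype.ext e)⟩,
        fun e => hb'.2 (Subtype.ext e.symm)⟩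
    have hsplit : ∀ e ∈ E, e ≠ 1 → ∀ a ∈ E, ∀ b ∈ E,
        (a * b ∈ zpowers e ↔ (a ∈ zpowers e ↔ b ∈ zpowers e)) := by
      intro e he he1 a ha b hb
      have hidx : ((zpowers e).subgroupOf E).index = 2 := by
        have := ((zpowers e).subgroupOf E).card_mul_index
        rw [Nat.card_congr (subgroupOfEquivOfLe (zpowers_le.2 he)).toEquiv, Nat.card_zpowers,
          orderOf_eq_prime (F.two e he) he1, hE] at this
        omega
      have := mul_mem_iff_of_index_two hidx (a := (⟨a, ha⟩ : E)) (b := ⟨b, hb⟩)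
      simpa [mem_subgroupOf] using this
    have hf := deg_mul (comm_V F) 4 2 2 _ _ rfl (deg_ind_q F (hsplit e1 he1.1 he1.2))
      (deg_ind_q F (hsplit e2 he2.1 he2.2))
    obtain ⟨v, hv, hv1⟩ := exists_one F hf
      (by rw [q_one F, ind_of_mem (one_mem _), ind_of_mem (one_mem _), mul_one])
      (by rw [hk]; exact Nat.pow_lt_pow_right (by norm_num) (by omega))
    have hboth : q v ∈ zpowers e1 ∧ q v ∈ zpowers e2 := by
      obtain ⟨a1, a2⟩ := zmod_two_pair _ _ hv1
      exact ⟨ind_eq_one.1 a1, ind_eq_one.1 a2⟩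
    have hz : ∀ e ∈ E, e ≠ 1 → ∀ u ∈ zpowers e, u = 1 ∨ u = e := by
      intro e he he1 u hu
      obtain ⟨i, rfl⟩ := hu
      rcases Int.even_or_odd' i with ⟨j, rfl | rfl⟩
      · left; show e ^ (2 * j) = 1; rw [zpow_mul, zpow_ofNat, F.two e he, one_zpow]
      · right; show e ^ (2 * j + 1) = e
        rw [zpow_add, zpow_mul, zpow_ofNat, F.two e he, one_zpow, one_mul, zpow_one]
    have hq1 : q v = 1 := by
      rcases hz e1 he1.1 he1.2 _ hboth.1 with p | p
      · exact p
      rcases hz e2 he2.1 he2.2 _ hboth.2 with p' | p'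
      · exact p'
      · exact absurd (p.symm.trans p') he12
    have := no_singular F h hE v.out hq1
    rw [← F.center_eq, ← QuotientGroup.eq_one_iff, QuotientGroup.out_eq'] at this
    exact hv this
  refine ⟨⟨h.hX, F.frattini_eq.trans F.center_eq.symm, F.comm_eq.trans F.center_eq.symm⟩, ?_, ?_,
    hinv⟩
  · rw [Subgroup.card_eq_card_quotient_mul_card_subgroup (center X), hV, F.center_eq, hE]
  · have e : {x : X | orderOf x = 2} = (E : Set X) \ {1} := by
      ext x
      simp only [Set.mem_setOf_eq, Set.mem_diff, SetLike.mem_coe, Set.mem_singleton_iff]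
      constructor
      · intro hx
        exact ⟨F.center_eq ▸ hinv x hx, fun e => by rw [e, orderOf_one] at hx; omega⟩
      · rintro ⟨hx, hx1⟩
        exact orderOf_eq_prime (F.two x hx) hx1
    have hc := congrArg Set.ncard e
    rw [Set.ncard_diff (by simp), Set.ncard_singleton, ← Nat.card_coe_set_eq,
      ← Nat.card_coe_set_eq] at hc
    rw [show Nat.card ↥(E : Set X) = Nat.card E from rfl, hE] at hc
    exact hc

theorem two_case (hE : Nat.card E = 2) :
    Nonempty (X ≃* QuaternionGroup 2) ∨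
      (Cfsg.IsExtraspecial 2 X ∧ Nat.card X = 32 ∧ Nat.card {x : X // orderOf x = 2} = 11) := by
  classical
  haveI : Fact (Nat.Prime 2) := ⟨Nat.prime_two⟩
  have h2 := sq_one F
  obtain ⟨k, hk⟩ := IsPGroup.iff_card.mp (h.hX.to_quotient (center X))
  obtain ⟨z, hzE, hz1, hzall⟩ : ∃ z ∈ E, z ≠ 1 ∧ ∀ e ∈ E, e = 1 ∨ e = z := by
    obtain ⟨u, v, -, huv⟩ := Nat.card_eq_two_iff.mp hE
    obtain ⟨z, hz⟩ : ∃ z : E, z ≠ 1 := by
      haveI : Nontrivial E := Finite.one_lt_card_iff_nontrivial.1 (by omega)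
      exact exists_ne 1
    refine ⟨z, z.2, fun e => hz (Subtype.ext e), fun e he => ?_⟩
    have mem : ∀ t : E, t = u ∨ t = v := fun t => by
      have : t ∈ ({u, v} : Set _) := huv ▸ Set.mem_univ t
      simpa using this
    by_cases he1 : e = 1
    · exact Or.inl he1
    refine Or.inr ?_
    have h1 : (⟨e, he⟩ : E) ≠ 1 := fun q => he1 (congrArg Subtype.val q)
    have : (⟨e, he⟩ : E) = z := by
      rcases mem 1 with q | q <;> rcases mem ⟨e, he⟩ with q' | q' <;>
        rcases mem z with q'' | q'' <;> grind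
    exact congrArg Subtype.val this
  have hzz : z * z = 1 := by rw [← pow_two]; exact F.two z hzE
  have hsplit : ∀ a ∈ E, ∀ b ∈ E, (a * b ∈ (⊥ : Subgroup X) ↔
      (a ∈ (⊥ : Subgroup X) ↔ b ∈ (⊥ : Subgroup X))) := by
    intro a ha b hb
    rcases hzall a ha with rfl | rfl <;> rcases hzall b hb with rfl | rfl <;>
      simp [hz1, hzz]
  have hb1 : ∀ {e : X}, ind (⊥ : Subgroup X) e = 1 ↔ e = 1 := fun {e} => by
    rw [ind_eq_one, mem_bot]
  have h1B : ∀ b : X ⧸ center X, cB (1 : X ⧸ center X) b = 1 := fun b => by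
    have := cB_mul_left F 1 1 b
    rwa [one_mul, left_eq_mul] at this
  have hpartner : ∀ v : X ⧸ center X, v ≠ 1 → ∃ u, cB v u = z := by
    intro v hv
    by_contra hno
    push Not at hno
    exact hv (eq_one_of_cB F fun u => (hzall _ (cB_mem F v u)).resolve_right (hno u))
  -- a singular pair orthogonal to each other gives a normal elementary abelian group
  have htot : ∀ v u : X ⧸ center X, q v = 1 → q u = 1 → cB v u = 1 → v ≠ 1 → u ≠ 1 → u = v := by
    intro v u hv hu hvu hv1 hu1
    by_contra hne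
    set a := v.out
    set b := u.out
    have ha : a ^ 2 = 1 := hv
    have hb : b ^ 2 = 1 := hu
    have hab : a * b = b * a := (commutatorElement_eq_one_iff_mul_comm.1 hvu).symm
    have hEa : IsMulCommutative E := PGroupsBasic.isMulCommutative_of_forall fun x _ y hy =>
      mem_center_iff.1 (F.center_eq.symm ▸ hy) x
    haveI : E.Normal := PGroupsBasic.normal_of_le_center F.center_eq.ge
    set N := E ⊔ zpowers a ⊔ zpowers b with hN
    haveI : N.Normal := PGroupsBasic.normal_of_commutator_le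
      (F.comm_eq.le.trans (le_sup_left.trans le_sup_left))
    have hel : Cfsg.IsElementaryAbelian 2 N := by
      refine PGroupsBasic.isElementaryAbelian_sup (PGroupsBasic.isElementaryAbelian_sup
        ⟨hEa, F.two⟩ (PGroupsBasic.isElementaryAbelian_zpowers ha) ?_)
        (PGroupsBasic.isElementaryAbelian_zpowers hb) ?_
      · rintro x hx y ⟨i, rfl⟩
        exact mem_center_iff.1 (F.center_eq.symm ▸ hx) _
      · intro x hx y hy
        obtain ⟨e, he, s, hs, rfl⟩ := mem_sup_of_normal_left.1 hx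
        obtain ⟨i, rfl⟩ := hs
        obtain ⟨j, rfl⟩ := hy
        exact ((show Commute e (b ^ j) from
          (mem_center_iff.1 (F.center_eq.symm ▸ he) _).symm).mul_left
            ((show Commute a b from hab).zpow_zpow i j)).eq.symm
    have hsm := h.small N inferInstance
      (fun x hx y hy => PGroupsBasic.comm_of_isMulCommutative hel.1 hx hy) hel.2
    have hmk : ∀ x ∈ E, (QuotientGroup.mk x : X ⧸ center X) = 1 := fun x hx =>
      (QuotientGroup.eq_one_iff x).2 (F.center_eq.symm ▸ hx)
    have hcle : center X ≤ N := F.center_eq.le.trans (le_sup_left.trans le_sup_left)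
    have hcN : Nat.card (center X) * Nat.card ↥(N.map (QuotientGroup.mk' (center X))) =
        Nat.card N := by
      have e1 := Subgroup.card_mul_index ((center X).subgroupOf N)
      rw [Nat.card_congr (subgroupOfEquivOfLe hcle).toEquiv] at e1
      rw [← e1]; congr 1
      have e2 := Subgroup.relIndex_ker (K := N) (QuotientGroup.mk' (center X))
      rw [QuotientGroup.ker_mk'] at e2
      exact e2.symm
    have h4 : ({1, v, u, v * u} : Set (X ⧸ center X)).ncard = 4 := by
      have a1 : v ≠ v * u := fun e => hu1 (left_eq_mul.1 e)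
      have a2 : u ≠ v * u := fun e => hv1 (right_eq_mul.1 e)
      have a3 : v * u ≠ 1 := fun e => hne ((eq_inv_of_mul_eq_one_right e).trans
        (inv_eq_of_mul_eq_one_right (h2 v)))
      rw [Set.ncard_insert_of_notMem (by simp [Ne.symm hv1, Ne.symm hu1, Ne.symm a3]),
        Set.ncard_insert_of_notMem (by simp [Ne.symm hne, a1]), Set.ncard_pair a2]
    have hsub : ({1, v, u, v * u} : Set (X ⧸ center X)) ⊆
        ↑(N.map (QuotientGroup.mk' (center X))) := by
      have hva : v ∈ N.map (QuotientGroup.mk' (center X)) :=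
        ⟨a, mem_sup_left (mem_sup_right (mem_zpowers a)), QuotientGroup.out_eq' v⟩
      have hub : u ∈ N.map (QuotientGroup.mk' (center X)) :=
        ⟨b, mem_sup_right (mem_zpowers b), QuotientGroup.out_eq' u⟩
      intro x hx
      simp only [Set.mem_insert_iff, Set.mem_singleton_iff] at hx
      rcases hx with rfl | rfl | rfl | rfl
      exacts [one_mem _, hva, hub, mul_mem hva hub]
    have h5 := Set.ncard_le_ncard hsub
    rw [h4, ← Nat.card_coe_set_eq] at h5
    change 4 ≤ Nat.card ↥(N.map (QuotientGroup.mk' (center X))) at h5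
    have hc2 : Nat.card (center X) = 2 := by rw [F.center_eq, hE]
    rw [hc2] at hcN
    omega
  have hk24 : k = 2 ∨ k = 4 := by
    by_contra hno
    have h8 := card_quot_ne F h
    have hk5 : 5 ≤ k := by
      by_contra hk5
      have : k = 0 ∨ k = 1 ∨ k = 3 := by omega
      rcases this with rfl | rfl | rfl
      · have := (four_small F h (by rw [hk]; norm_num)).2; rw [hk] at this; norm_num at this
      · have := (four_small F h (by rw [hk]; norm_num)).2; rw [hk] at this; norm_num at this
      · exact h8 (by rw [hk]; norm_num)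
    obtain ⟨v, hv, hvq⟩ := exists_one F (deg_ind_q F hsplit) (hb1.2 (q_one F))
      (by rw [hk]; exact Nat.pow_lt_pow_right (by norm_num) (by omega))
    obtain ⟨u, hu⟩ := hpartner v hv
    have hf := deg_mul (comm_V F) 4 3 1 _ _ rfl
      (deg_mul (comm_V F) 3 2 1 _ _ rfl (deg_ind_q F hsplit) (deg_ind_cB F hsplit v))
      (deg_ind_cB F hsplit u)
    obtain ⟨w, hw, hw1⟩ := exists_one F hf
      (by rw [hb1.2 (q_one F), hb1.2 (h1B v), hb1.2 (h1B u), mul_one, mul_one])
      (by rw [hk]; exact Nat.pow_lt_pow_right (by norm_num) (by omega))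
    obtain ⟨a1, a2, a3⟩ := zmod_two_triple _ _ _ hw1
    have hwv : w = v := htot v w (hb1.1 hvq) (hb1.1 a1)
      (by rw [cB_symm F]; exact hb1.1 a2) hv hw
    rw [hwv] at a3
    exact hz1 (hu ▸ hb1.1 a3)
  rcases hk24 with rfl | rfl
  · -- order eight
    left
    have hV : Nat.card (X ⧸ center X) = 4 := by rw [hk]; norm_num
    have hc := orbit_const F h (by omega)
    have hX8 : Nat.card X = 8 := by
      rw [Subgroup.card_eq_card_quotient_mul_card_subgroup (center X), hV, F.center_eq, hE]
    obtain ⟨x, y, hxy⟩ : ∃ x y : X, x * y ≠ y * x := by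
      by_contra hno
      push Not at hno
      exact h.hna ⟨⟨hno⟩⟩
    set v := (QuotientGroup.mk x : X ⧸ center X)
    set w := (QuotientGroup.mk y : X ⧸ center X)
    have hcb : cB v w = ⁅y, x⁆ := cB_mk F x y
    have hne : ⁅y, x⁆ ≠ 1 := fun e => hxy (commutatorElement_eq_one_iff_mul_comm.1 e).symm
    have hcz : ⁅y, x⁆ = z := (hzall _ (com_mem F y x)).resolve_left hne
    have hv : v ≠ 1 := fun e => hne (by rw [← hcb, e]; exact h1B w)
    have hw : w ≠ 1 := fun e => hne (by rw [← hcb, e, cB_symm F]; exact h1B v)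
    have hvw : v * w ≠ 1 := fun e => hne (by
      rw [← hcb, show w = v from (eq_inv_of_mul_eq_one_right e).trans
        (inv_eq_of_mul_eq_one_right (h2 v))]
      exact cB_self F v)
    have e := q_mul F v w
    rw [hc (v * w) v hvw hv, hc w v hw hv, hcb, hcz] at e
    have hqv : q v = z := by
      rcases hzall _ (q_mem F v) with p | p
      · rw [p, one_mul, one_mul] at e; exact absurd e.symm hz1
      · exact p
    have hqw : q w = z := by rw [hc w v hw hv, hqv]
    rw [q_mk F] at hqv hqw
    obtain ⟨f⟩ := OrderFourGroups88.quaternion_of_squares (a := x) (b := y) (E := ⊤)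
      (mem_top x) (mem_top y) (by rw [Subgroup.card_top, hX8]) (by rw [F.comm_eq, hE]) hxy
      (hqv.trans hcz.symm) (hqw.trans hcz.symm)
    exact ⟨Subgroup.topEquiv.symm.trans f⟩
  · -- order thirty-two
    right
    have hV : Nat.card (X ⧸ center X) = 16 := by rw [hk]; norm_num
    refine ⟨⟨⟨h.hX, F.frattini_eq.trans F.center_eq.symm, F.comm_eq.trans F.center_eq.symm⟩,
      by rw [F.center_eq, hE]⟩, by
        rw [Subgroup.card_eq_card_quotient_mul_card_subgroup (center X), hV, F.center_eq, hE], ?_⟩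
    obtain ⟨v, hv, hvq'⟩ := exists_one F (deg_ind_q F hsplit) (hb1.2 (q_one F))
      (by rw [hV]; norm_num)
    have hvq := hb1.1 hvq'
    obtain ⟨w₀, hw₀⟩ := hpartner v hv
    obtain ⟨w, hwq, hvw⟩ : ∃ w, q w = 1 ∧ cB v w = z := by
      rcases hzall _ (q_mem F w₀) with p | p
      · exact ⟨w₀, p, hw₀⟩
      · refine ⟨w₀ * v, ?_, by rw [cB_mul_right F, hw₀, cB_self F, mul_one]⟩
        rw [q_mul F, p, hvq, cB_symm F, hw₀, mul_one, hzz]
    let U := {a : X ⧸ center X // cB v a = 1 ∧ cB w a = 1}
    haveI : Fintype (X ⧸ center X) := Fintype.ofFinite _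
    let g : U × Bool × Bool → X ⧸ center X := fun p =>
      p.1.1 * (if p.2.1 then v else 1) * (if p.2.2 then w else 1)
    have hv1 : cB v 1 = 1 := by rw [cB_symm F]; exact h1B v
    have hw1 : cB w 1 = 1 := by rw [cB_symm F]; exact h1B w
    have hwv : cB w v = z := by rw [cB_symm F]; exact hvw
    have hgv : ∀ p, cB v (g p) = if p.2.2 then z else 1 := by
      rintro ⟨⟨a, ha, ha'⟩, c, d⟩
      show cB v (a * (if c then v else 1) * (if d then w else 1)) = if d then z else 1
      rw [cB_mul_right F, cB_mul_right F, ha]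
      cases c <;> cases d <;> simp [hv1, hvw, cB_self F]
    have hgw : ∀ p, cB w (g p) = if p.2.1 then z else 1 := by
      rintro ⟨⟨a, ha, ha'⟩, c, d⟩
      show cB w (a * (if c then v else 1) * (if d then w else 1)) = if c then z else 1
      rw [cB_mul_right F, cB_mul_right F, ha']
      cases c <;> cases d <;> simp [hw1, hwv, cB_self F]
    have hinj : Function.Injective g := by
      intro p p' e
      have e1 := (hgv p).symm.trans ((congrArg (cB v) e).trans (hgv p'))
      have e2 := (hgw p).symm.trans ((congrArg (cB w) e).trans (hgw p'))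
      obtain ⟨a, c, d⟩ := p
      obtain ⟨a', c', d'⟩ := p'
      have hd : d = d' := by
        cases d <;> cases d' <;> first | rfl | (exfalso; revert e1; simp [hz1, Ne.symm hz1])
      have hc : c = c' := by
        cases c <;> cases c' <;> first | rfl | (exfalso; revert e2; simp [hz1, Ne.symm hz1])
      subst hd hc
      simp only [g, mul_left_inj] at e
      rw [Subtype.ext e]
    have hsurj : Function.Surjective g := by
      intro x
      obtain ⟨c, hc⟩ : ∃ c : Bool, cB w x = if c then z else 1 := by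
        rcases hzall _ (cB_mem F w x) with p | p
        · exact ⟨false, by simp [p]⟩
        · exact ⟨true, by simp [p]⟩
      obtain ⟨d, hd⟩ : ∃ d : Bool, cB v x = if d then z else 1 := by
        rcases hzall _ (cB_mem F v x) with p | p
        · exact ⟨false, by simp [p]⟩
        · exact ⟨true, by simp [p]⟩
      refine ⟨(⟨x * (if c then v else 1) * (if d then w else 1), ?_, ?_⟩, c, d), ?_⟩
      · cases c <;> cases d <;> simp_all [cB_mul_right F, cB_self F, hv1]
      · cases c <;> cases d <;> simp_all [cB_mul_right F, cB_self F, hw1]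
      · cases c <;> cases d <;> simp [g, h2, mul_assoc]
    have hUc : Nat.card U = 4 := by
      have := Nat.card_eq_of_bijective g ⟨hinj, hsurj⟩
      rw [Nat.card_prod, Nat.card_prod, hV, Nat.card_eq_fintype_card (α := Bool),
        Fintype.card_bool] at this
      omega
    let u1 : U := ⟨1, hv1, hw1⟩
    have hUq : ∀ a : U, a ≠ u1 → q a.1 = z := by
      rintro ⟨a, ha, ha'⟩ hne
      refine (hzall _ (q_mem F a)).resolve_left fun p => ?_
      have hav : a = v := htot v a hvq p ha hv fun e => hne (Subtype.ext e)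
      rw [hav, hwv] at ha'
      exact hz1 ha'
    have hgq : ∀ p, q (g p) = 1 ↔ (p.1 = u1 ↔ ¬ (p.2.1 = true ∧ p.2.2 = true)) := by
      rintro ⟨a, c, d⟩
      have ha := a.2.1
      have ha' := a.2.2
      rw [cB_symm F] at ha ha'
      by_cases hau : a = u1
      · subst hau
        cases c <;> cases d <;> simp [g, u1, q_mul F, q_one F, hvq, hwq, hvw, h1B, hz1]
      · have hqa := hUq a hau
        cases c <;> cases d <;>
          simp [g, hau, q_mul F, hqa, hvq, hwq, ha, ha', cB_mul_left F, hvw, hzz, hz1]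
    have hzero : {x : X ⧸ center X | q x = 1}.ncard = 6 := by
      haveI : Fintype U := Fintype.ofFinite _
      rw [show {x : X ⧸ center X | q x = 1} = g '' {p | q (g p) = 1} from
        (Set.image_preimage_eq _ hsurj).symm, Set.ncard_image_of_injective _ hinj,
        show {p | q (g p) = 1} = ↑((({u1} : Finset U) ×ˢ
          ({(false, false), (false, true), (true, false)} : Finset (Bool × Bool))) ∪
          ((Finset.univ.erase u1) ×ˢ ({(true, true)} : Finset (Bool × Bool)))) from ?_,
        Set.ncard_coe_finset, Finset.card_union_of_disjoint, Finset.card_product,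
        Finset.card_product, Finset.card_singleton, Finset.card_erase_of_mem (Finset.mem_univ _),
        Finset.card_univ, ← Nat.card_eq_fintype_card, hUc]
      · rfl
      · rw [Finset.disjoint_left]
        rintro ⟨a, c⟩ h1 h2
        simp at h1 h2
        rcases h1 with ⟨e, -⟩ | ⟨e, -⟩ | ⟨e, -⟩ <;> exact h2.1 e h2.2.symm
      · ext ⟨a, c, d⟩
        simp only [Set.mem_setOf_eq, hgq, Finset.coe_union, Finset.coe_product, Set.mem_union,
          Set.mem_prod]
        cases c <;> cases d <;> simp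
    have hinvol : {x : X | x ^ 2 = 1}.ncard = 12 := by
      have hset : {x : X | x ^ 2 = 1} =
          QuotientGroup.mk ⁻¹' {x : X ⧸ center X | q x = 1} := by
        ext x; simp [q_mk F]
      rw [hset, ← Nat.card_coe_set_eq,
        Nat.card_congr (QuotientGroup.preimageMkEquivSubgroupProdSet _ _), Nat.card_prod,
        Nat.card_coe_set_eq, hzero, F.center_eq, hE]
    have hset : {x : X | orderOf x = 2} = {x : X | x ^ 2 = 1} \ {1} := by
      ext x
      simp only [Set.mem_setOf_eq, Set.mem_diff, Set.mem_singleton_iff]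
      exact ⟨fun hx => ⟨by rw [← hx]; exact pow_orderOf_eq_one x,
        fun e => by rw [e, orderOf_one] at hx; omega⟩, fun hx => orderOf_eq_prime hx.1 hx.2⟩
    show Nat.card ↥{x : X | orderOf x = 2} = 11
    rw [Nat.card_coe_set_eq, hset, Set.ncard_diff (by simp), Set.ncard_singleton, hinvol]

end quad

end Cfsg.Agent.NoE8Central20
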