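import Cfsg.Agent.Lib.NoE8Central20
import Cfsg.Agent.Lib.RankTwoTwoGroup20

/-!
2-groups without normal `E₈` under odd automorphisms with `[X, A] = X`: the case in which the
automorphisms move the involutions of the centre of a critical subgroup.  All involutions are then
central and the group is the one special group of order 64.
-/

open Subgroup
open scoped commutatorElement

set_option autoImplicit false
set_option linter.unusedSectionVars false
set_option linter.unusedVariables false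

namespace Cfsg.Agent.NoE8Moving20

open Cfsg.Agent.NoE8Base20 Cfsg.Agent.NoE8Central20

/-! ### Linear maps of the four-group -/

/-- The four-group. -/
abbrev K4 := ZMod 2 × ZMod 2

/-- Linear maps of the four-group, by the images of the basis. -/
abbrev Lin := K4 × K4

/-- Application. -/
def app (M : Lin) (v : K4) : K4 := (if v.1 = 1 then M.1 else 0) + (if v.2 = 1 then M.2 else 0)

/-- The map with given images of the basis. -/
def mat (f : K4 → K4) : Lin := (f (1, 0), f (0, 1))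

/-- The three-cycle. -/
def P (v : K4) : K4 := (v.2, v.1 + v.2)

/-- Its inverse. -/
def Pinv (v : K4) : K4 := (v.1 + v.2, v.1)

/-- Conjugation by the three-cycle. -/
def cj (M : Lin) : Lin := mat fun v => P (app M (Pinv v))

/-- The sum of the three conjugates. -/
def tr (M : Lin) : Lin := M + cj M + cj (cj M)

theorem k4_double : ∀ v : K4, v + v = 0 := by decide
theorem k4_cases : ∀ v : K4, v = 0 ∨ v = (1, 0) ∨ v = (0, 1) ∨ v = (1, 0) + (0, 1) := by decide
theorem lin_double : ∀ M : Lin, M + M = 0 := by decide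
theorem p_pinv : ∀ v, P (Pinv v) = v := by decide
theorem app_zero_vec : ∀ M, app M 0 = 0 := by decide
theorem app_zero : ∀ v, app 0 v = 0 := by decide
theorem app_id : ∀ v, app (mat id) v = v := by decide
theorem app_one_zero : ∀ M, app M (1, 0) = M.1 := by decide
theorem app_zero_one : ∀ M, app M (0, 1) = M.2 := by decide
theorem app_add_vec : ∀ M v w, app M (v + w) = app M v + app M w := by decide
theorem app_add : ∀ M N v, app (M + N) v = app M v + app N v := by decide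
theorem app_ext : ∀ M N, (∀ v, app M v = app N v) → M = N := by decide
theorem tr_add : ∀ M N, tr (M + N) = tr M + tr N := by decide

set_option synthInstance.maxSize 4096 in
set_option synthInstance.maxHeartbeats 400000 in
theorem fixfree_cases : ∀ q, (∀ v, app q v = v → v = 0) → (∀ v, app q v = 0 → v = 0) →
    q = mat P ∨ q = mat (fun v => P (P v)) := by decide

theorem inj_or_tr : ∀ M, M ≠ 0 →
    (∀ v, app M v = 0 → v = 0) ∨ (∀ v, app (tr M) v = 0 → v = 0) := by decide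

theorem idem_cases : ∀ M, (∀ v, app M (app M v) = app M v) →
    (∀ v, app (M + cj M) (app (M + cj M) v) = app (M + cj M) v) → M = 0 ∨ M = mat id := by decide

theorem tr_eq_one : ∀ M M', (∀ v, app M' (app (mat id) v) = app (mat id) (app M v)) →
    tr M' = tr M := by decide

theorem tr_eq_P : ∀ M M', (∀ v, app M' (app (mat P) v) = app (mat P) (app M v)) →
    tr M' = tr M := by decide

theorem tr_eq_PP : ∀ M M',
    (∀ v, app M' (app (mat fun v => P (P v)) v) = app (mat fun v => P (P v)) (app M v)) →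
      tr M' = tr M := by decide

set_option synthInstance.maxSize 4096 in
set_option synthInstance.maxHeartbeats 400000 in
theorem tr_zero_cases : ∀ M M', tr M = 0 → tr M' = 0 → M ≠ 0 → M' ≠ 0 →
    M' = M ∨ M' = cj M ∨ M' = cj (cj M) := by decide

set_option synthInstance.maxSize 4096 in
set_option synthInstance.maxHeartbeats 400000 in
theorem tr_zero_fixed : ∀ M M', tr M = 0 → tr M' = 0 → M ≠ 0 → M' ≠ 0 → M ≠ M' →
    ∀ v, app M v = v → app M' v = v → v = 0 := by decide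

theorem app_mat (f : K4 → K4) (hf : ∀ v w, f (v + w) = f v + f w) : ∀ v, app (mat f) v = f v := by
  have h0 : f 0 = 0 := by
    have := hf 0 0
    rw [add_zero, k4_double] at this
    exact this
  intro v
  rcases k4_cases v with rfl | rfl | rfl | rfl
  · rw [app_zero_vec, h0]
  · rw [app_one_zero]; rfl
  · rw [app_zero_one]; rfl
  · rw [app_add_vec, app_one_zero, app_zero_one, hf]; rfl

variable {X : Type*} [Group X] [Finite X] {A : Subgroup (MulAut X)}

/-! ### The three-cycle on the four-group -/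

theorem four (K : Crit A) (hE : Nat.card K.E = 4) {a b : X} (ha : a ∈ K.E) (hb : b ∈ K.E)
    (ha1 : a ≠ 1) (hb1 : b ≠ 1) (hab : a ≠ b) :
    ∀ x ∈ K.E, x = 1 ∨ x = a ∨ x = b ∨ x = a * b := by
  intro x hx
  have h3 : a * b ≠ 1 := fun e => hab ((eq_inv_of_mul_eq_one_left e).trans
    (inv_eq_of_mul_eq_one_right (by rw [← pow_two]; exact ((K.mem_E b).1 hb).2)))
  have hset : ({1, a, b, a * b} : Set X).ncard = 4 := by
    have a1 : a ≠ a * b := fun e => hb1 (left_eq_mul.1 e)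
    have a2 : b ≠ a * b := fun e => ha1 (right_eq_mul.1 e)
    rw [Set.ncard_insert_of_notMem (by simp [Ne.symm ha1, Ne.symm hb1, Ne.symm h3]),
      Set.ncard_insert_of_notMem (by simp [hab, a1]), Set.ncard_pair a2]
  have hsub : ({1, a, b, a * b} : Set X) ⊆ (K.E : Set X) := by
    intro y hy
    simp only [Set.mem_insert_iff, Set.mem_singleton_iff] at hy
    rcases hy with rfl | rfl | rfl | rfl
    exacts [one_mem _, ha, hb, mul_mem ha hb]
  have hE' : (K.E : Set X).ncard = 4 := by rw [← Nat.card_coe_set_eq]; exact hE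
  have := Set.eq_of_subset_of_ncard_le hsub (by rw [hE', hset])
  have hx' : x ∈ ({1, a, b, a * b} : Set X) := by rw [this]; exact hx
  simpa using hx'

theorem moving_fixfree (h : Hyp A) (K : Crit A) (hE : Nat.card K.E = 4) {φ : MulAut X}
    (hφ : φ ∈ A) {e : X} (he : e ∈ K.E) (hmov : φ e ≠ e) :
    ∀ f ∈ K.E, φ f = f → f = 1 := by
  intro f hf hfix
  by_contra hf1
  have he1 : e ≠ 1 := fun q => hmov (by rw [q, map_one])
  have hfe : f ≠ e := fun q => hmov (q ▸ hfix)
  rcases four K hE hf he hf1 he1 hfe _ (K.inv φ hφ e he) with q | q | q | q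
  · exact he1 (φ.injective (q.trans (map_one φ).symm))
  · exact hfe (φ.injective (hfix.trans q.symm))
  · exact hmov q
  · exact hf1 (eq_one_of_shift h hφ (q.trans (mem_center_iff.1 (K.central hf) e).symm) hfix
      ((K.mem_E f).1 hf).2)

theorem three_cycle (K : Crit A) (hE : Nat.card K.E = 4) {φ : MulAut X} (hφ : φ ∈ A)
    (hfix : ∀ f ∈ K.E, φ f = f → f = 1) {e : X} (he : e ∈ K.E) (he1 : e ≠ 1) :
    φ (φ e) = e * φ e := by
  have h1 := K.inv φ hφ e he
  have hne : e ≠ φ e := fun q => he1 (hfix e he q.symm)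
  have hne1 : φ e ≠ 1 := fun q => he1 (φ.injective (q.trans (map_one φ).symm))
  rcases four K hE he h1 he1 hne1 hne _ (K.inv φ hφ _ h1) with q | q | q | q
  · exact absurd (φ.injective (q.trans (map_one φ).symm)) hne1
  · exfalso
    have h2 : φ (e * φ e) = e * φ e := by
      rw [map_mul, q]; exact mem_center_iff.1 (K.central he) _
    have h3 := hfix _ (mul_mem he h1) h2
    exact hne ((eq_inv_of_mul_eq_one_left h3).trans
      (inv_eq_of_mul_eq_one_right (by rw [← pow_two]; exact ((K.mem_E _).1 h1).2)))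
  · exact absurd (φ.injective q).symm hne
  · exact q

/-- The data of the moving case. -/
structure Frame (A : Subgroup (MulAut X)) where
  h : Hyp A
  K : Crit A
  ψ : MulAut X
  hψ : ψ ∈ A
  three : ∃ k : ℕ, ψ ^ 3 ^ k = 1
  card : Nat.card K.E = 4
  fix : ∀ e ∈ K.E, ψ e = e → e = 1
  e0 : X
  e0_mem : e0 ∈ K.E
  e0_ne : e0 ≠ 1

theorem exists_frame (h : Hyp A) (K : Crit A) {φ : MulAut X} (hφ : φ ∈ A) {e : X} (he : e ∈ K.E)
    (hmov : φ e ≠ e) : Nonempty (Frame A) := by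
  have he1 : e ≠ 1 := fun q => hmov (by rw [q, map_one])
  have hE : Nat.card K.E = 4 := by
    refine K.card.resolve_left fun h2 => hmov ?_
    obtain ⟨u, v, -, huv⟩ := Nat.card_eq_two_iff.mp h2
    have mem : ∀ t : K.E, t = u ∨ t = v := fun t => by
      have : t ∈ ({u, v} : Set _) := huv ▸ Set.mem_univ t
      simpa using this
    have h1 : (⟨e, he⟩ : K.E) ≠ 1 := fun q => he1 (congrArg Subtype.val q)
    have h3 : (⟨φ e, K.inv φ hφ e he⟩ : K.E) ≠ 1 := fun q =>
      he1 (φ.injective ((congrArg Subtype.val q).trans (map_one φ).symm))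
    have : (⟨φ e, K.inv φ hφ e he⟩ : K.E) = ⟨e, he⟩ := by
      rcases mem 1 with q | q <;> rcases mem ⟨e, he⟩ with q' | q' <;>
        rcases mem ⟨φ e, K.inv φ hφ e he⟩ with q'' | q'' <;> grind
    exact congrArg Subtype.val this
  have hfix := moving_fixfree h K hE hφ he hmov
  have hpos : 0 < orderOf φ := by
    have hp := NoE8Base20.pow_card h hφ
    exact (isOfFinOrder_iff_pow_eq_one.2 ⟨_, Nat.card_pos, hp⟩).orderOf_pos
  obtain ⟨k, m, hm, hkm⟩ := Nat.exists_eq_pow_mul_and_not_dvd hpos.ne' 3 (by norm_num)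
  refine ⟨⟨h, K, φ ^ m, pow_mem hφ m, ⟨k, ?_⟩, hE, fun f hf hf' => ?_, e, he, he1⟩⟩
  · rw [← pow_mul, mul_comm, ← hkm]; exact pow_orderOf_eq_one φ
  · by_contra hf1
    have h2 := three_cycle K hE hφ hfix hf hf1
    have h3 : φ (φ (φ f)) = f := by
      rw [h2, map_mul, h2, ← mul_assoc, mem_center_iff.1 (K.central hf) (φ f), mul_assoc,
        ← pow_two, ((K.mem_E _).1 (K.inv φ hφ f hf)).2, mul_one]
    have h3' : ∀ j, (φ ^ (3 * j)) f = f := fun j => by
      rw [pow_mul]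
      exact RankTwoTwoGroup20.pow_three_pow
        (show (φ ^ 3) f = f by simp only [pow_succ, pow_zero, one_mul, MulAut.mul_apply, h3]) j
    rw [← Nat.mod_add_div m 3, pow_add, MulAut.mul_apply, h3'] at hf'
    have hm3 : m % 3 = 1 ∨ m % 3 = 2 := by omega
    rcases hm3 with q | q <;> rw [q] at hf'
    · rw [pow_one] at hf'; exact hf1 (hfix f hf hf')
    · rw [pow_two, MulAut.mul_apply, h2, mul_eq_left] at hf'
      exact hf1 (φ.injective (hf'.trans (map_one φ).symm))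

section frame

variable (F : Frame A)

/-- The identification of the four-group. -/
def ι (v : K4) : X := F.e0 ^ v.1.val * F.ψ F.e0 ^ v.2.val

theorem ι_mem (v : K4) : ι F v ∈ F.K.E :=
  mul_mem (pow_mem F.e0_mem _) (pow_mem (F.K.inv _ F.hψ _ F.e0_mem) _)

theorem e_sq {a : X} (ha : a ∈ F.K.E) : a * a = 1 := by
  rw [← pow_two]; exact ((F.K.mem_E a).1 ha).2

theorem e_cen {a : X} (ha : a ∈ F.K.E) (g : X) : g * a = a * g :=
  mem_center_iff.1 (F.K.central ha) g

theorem e_inv {a : X} (ha : a ∈ F.K.E) : a⁻¹ = a := inv_eq_of_mul_eq_one_right (e_sq F ha)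

theorem ι_zero : ι F 0 = 1 := by simp [ι]

theorem pow_val_add {a : X} (ha : a ∈ F.K.E) (x y : ZMod 2) :
    a ^ (x + y).val = a ^ x.val * a ^ y.val := by
  rw [← pow_add, ZMod.val_add, ← pow_eq_pow_mod _ ((F.K.mem_E a).1 ha).2]

theorem ι_add (v w : K4) : ι F (v + w) = ι F v * ι F w := by
  simp only [ι, Prod.fst_add, Prod.snd_add]
  rw [pow_val_add F F.e0_mem, pow_val_add F (F.K.inv _ F.hψ _ F.e0_mem)]
  exact (show Commute (F.e0 ^ w.1.val) (F.ψ F.e0 ^ v.2.val) from
    (e_cen F (pow_mem F.e0_mem _) _).symm).mul_mul_mul_comm _ _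

theorem ι_one_zero : ι F (1, 0) = F.e0 := by
  simp [ι, show ((1 : ZMod 2).val) = 1 from rfl]

theorem ι_zero_one : ι F (0, 1) = F.ψ F.e0 := by
  simp [ι, show ((1 : ZMod 2).val) = 1 from rfl]

theorem ι_eq_one {v : K4} (hv : ι F v = 1) : v = 0 := by
  rcases k4_cases v with rfl | rfl | rfl | rfl
  · rfl
  · rw [ι_one_zero] at hv; exact absurd hv F.e0_ne
  · rw [ι_zero_one] at hv
    exact absurd (F.ψ.injective (hv.trans (map_one F.ψ).symm)) F.e0_ne
  · rw [ι_add, ι_one_zero, ι_zero_one] at hv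
    refine absurd (F.fix _ F.e0_mem ?_) F.e0_ne
    rw [← inv_eq_of_mul_eq_one_right hv, e_inv F F.e0_mem]

theorem ι_inj {v w : K4} (e : ι F v = ι F w) : v = w := by
  have : ι F (v + w) = 1 := by rw [ι_add, e, e_sq F (ι_mem F w)]
  have h2 := congrArg (· + w) (ι_eq_one F this)
  simpa [add_assoc, k4_double] using h2

theorem ι_surj {a : X} (ha : a ∈ F.K.E) : ∃ v, ι F v = a := by
  have hne : F.e0 ≠ F.ψ F.e0 := fun q => F.e0_ne (F.fix _ F.e0_mem q.symm)
  rcases four F.K F.card F.e0_mem (F.K.inv _ F.hψ _ F.e0_mem) F.e0_ne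
    (fun q => F.e0_ne (F.ψ.injective (q.trans (map_one F.ψ).symm))) hne a ha with q | q | q | q
  · exact ⟨0, by rw [ι_zero, q]⟩
  · exact ⟨(1, 0), by rw [ι_one_zero, q]⟩
  · exact ⟨(0, 1), by rw [ι_zero_one, q]⟩
  · exact ⟨(1, 0) + (0, 1), by rw [ι_add, ι_one_zero, ι_zero_one, q]⟩

/-- The inverse of `ι`. -/
noncomputable def κ (a : X) : K4 := Function.invFun (ι F) a

theorem ι_κ {a : X} (ha : a ∈ F.K.E) : ι F (κ F a) = a := Function.invFun_eq (ι_surj F ha)

theorem ι_psi (v : K4) : F.ψ (ι F v) = ι F (P v) := by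
  have h2 := three_cycle F.K F.card F.hψ F.fix F.e0_mem F.e0_ne
  rcases k4_cases v with rfl | rfl | rfl | rfl
  · rw [ι_zero, map_one, show P 0 = 0 by decide, ι_zero]
  · rw [ι_one_zero, show P (1, 0) = (0, 1) by decide, ι_zero_one]
  · rw [ι_zero_one, h2, show P (0, 1) = (1, 0) + (0, 1) by decide, ι_add, ι_one_zero, ι_zero_one]
  · rw [ι_add, map_mul, ι_one_zero, ι_zero_one, h2, show P ((1, 0) + (0, 1)) = (1, 0) by decide,
      ι_one_zero, ← e_cen F F.e0_mem, ← mul_assoc, e_sq F (F.K.inv _ F.hψ _ F.e0_mem), one_mul]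

/-- The map induced on the four-group. -/
noncomputable def Q (φ : MulAut X) : Lin := mat fun v => κ F (φ (ι F v))

theorem app_Q {φ : MulAut X} (hφ : φ ∈ A) (v : K4) : φ (ι F v) = ι F (app (Q F φ) v) := by
  rw [Q, app_mat, ι_κ F (F.K.inv φ hφ _ (ι_mem F v))]
  intro a b
  refine ι_inj F ?_
  rw [ι_κ F (F.K.inv φ hφ _ (ι_mem F (a + b))), ι_add F (κ F _) (κ F _),
    ι_κ F (F.K.inv φ hφ _ (ι_mem F a)), ι_κ F (F.K.inv φ hφ _ (ι_mem F b)), ι_add, map_mul]

theorem Q_cases {φ : MulAut X} (hφ : φ ∈ A) :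
    Q F φ = mat id ∨ Q F φ = mat P ∨ Q F φ = mat (fun v => P (P v)) := by
  by_cases hall : ∀ a ∈ F.K.E, φ a = a
  · refine Or.inl (app_ext _ _ fun v => ι_inj F ?_)
    rw [← app_Q F hφ, app_id, hall _ (ι_mem F v)]
  push Not at hall
  obtain ⟨a, ha, hmov⟩ := hall
  refine Or.inr (fixfree_cases _ (fun v hv => ι_eq_one F ?_) fun v hv => ι_eq_one F ?_)
  · exact moving_fixfree F.h F.K F.card hφ ha hmov _ (ι_mem F v) (by rw [app_Q F hφ, hv])
  · exact φ.injective (by rw [app_Q F hφ, hv, ι_zero, map_one])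

theorem app_Q_inj {φ : MulAut X} (hφ : φ ∈ A) {v : K4} (hv : app (Q F φ) v = 0) : v = 0 :=
  ι_eq_one F (φ.injective (by rw [app_Q F hφ, hv, ι_zero, map_one]))

/-! ### Facts about the critical subgroup -/

theorem H_normal : F.K.H.Normal := by
  haveI := F.K.charH; infer_instance

theorem E_le_H {a : X} (ha : a ∈ F.K.E) : a ∈ F.K.H := F.K.cle ((F.K.mem_E a).1 ha).1

theorem com_H (x : X) {a : X} (ha : a ∈ F.K.H) : ⁅x, a⁆ ∈ F.K.H := F.K.cle (F.K.com x a ha)

theorem psi_H {a : X} (ha : a ∈ F.K.H) : F.ψ a ∈ F.K.H := char_inv F.K.charH _ ha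

theorem invol_H {t : X} (htH : t ∈ F.K.H) (ht : t ^ 2 = 1) : t ∈ F.K.E := by
  refine mem_of_invol F.h F.K.central (fun a ha => ((F.K.mem_E a).1 ha).2) F.card ht fun g => ?_
  have hw := F.K.com g t htH
  have hc : Commute t ⁅g, t⁆ := mem_centralizer_iff.1 hw t htH
  refine (F.K.mem_E _).2 ⟨hw, ?_⟩
  have e : ⁅g, t ^ 2⁆ = ⁅g, t⁆ ^ 2 := by
    rw [pow_two, pow_two, show ⁅g, t * t⁆ = ⁅g, t⁆ * (t * ⁅g, t⁆ * t⁻¹) by
      simp only [commutatorElement_def]; group, hc.eq, mul_inv_cancel_right]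
  rw [← e, ht, commutatorElement_one_right]

/-- The automorphism of `H`. -/
noncomputable def ψH : MulAut F.K.H :=
  (F.ψ.subgroupMap F.K.H).trans
    (MulEquiv.subgroupCongr (Subgroup.characteristic_iff_map_eq.1 F.K.charH F.ψ))

theorem ψH_coe (x : F.K.H) : ((ψH F x : F.K.H) : X) = F.ψ x := rfl

theorem ψH_pow (j : ℕ) (x : F.K.H) : (((ψH F ^ j) x : F.K.H) : X) = (F.ψ ^ j) x := by
  induction j generalizing x with
  | zero => rfl
  | succ j ih => rw [pow_succ, pow_succ, MulAut.mul_apply, MulAut.mul_apply, ih, ψH_coe]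

/-- The critical subgroup has three central involutions. -/
noncomputable def dataH : RankTwoTwoGroup20.Data F.K.H where
  ψ := ψH F
  hT := F.h.hX.to_subgroup _
  central := fun x hx => mem_center_iff.2 fun g => Subtype.ext
    (e_cen F (invol_H F x.2 (by simpa using congrArg Subtype.val hx)) g)
  card4 := by
    rw [← F.card]
    exact Nat.card_congr
      ⟨fun x => ⟨(x.1 : X), invol_H F x.1.2 (by simpa using congrArg Subtype.val x.2)⟩,
        fun e => ⟨⟨(e : X), E_le_H F e.2⟩, Subtype.ext (((F.K.mem_E _).1 e.2).2)⟩,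
        fun x => rfl, fun e => rfl⟩
  fix := fun x hx hfix => Subtype.ext
    (F.fix _ (invol_H F x.2 (by simpa using congrArg Subtype.val hx))
      (congrArg Subtype.val hfix))
  three := by
    obtain ⟨k, hk⟩ := F.three
    refine ⟨k, MulEquiv.ext fun x => Subtype.ext ?_⟩
    rw [ψH_pow, hk]; rfl

/-! ### The order 64 group -/

set_option synthInstance.maxSize 4096 in
set_option synthInstance.maxHeartbeats 400000 in
theorem rel_table : ∀ p : Fin 4 × Fin 4 × Fin 2 × Fin 2,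
    (RankTwoTwoGroup20.op p (1, 0, 0, 0) = RankTwoTwoGroup20.op (1, 0, 0, 0) p →
      RankTwoTwoGroup20.op p (0, 1, 0, 0) = RankTwoTwoGroup20.op (0, 1, 0, 0) p →
      RankTwoTwoGroup20.op p (0, 0, 1, 0) = RankTwoTwoGroup20.op (0, 0, 1, 0) p →
      RankTwoTwoGroup20.op p (0, 0, 0, 1) = RankTwoTwoGroup20.op (0, 0, 0, 1) p →
      RankTwoTwoGroup20.op p p = (0, 0, 0, 0)) ∧
    RankTwoTwoGroup20.op (RankTwoTwoGroup20.op p p) (RankTwoTwoGroup20.op p p) = (0, 0, 0, 0) := by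
  decide

theorem rel_table_com : ∀ p : Fin 4 × Fin 4 × Fin 2 × Fin 2,
    ∀ g ∈ ([(1, 0, 0, 0), (0, 1, 0, 0), (0, 0, 1, 0), (0, 0, 0, 1)] :
      List (Fin 4 × Fin 4 × Fin 2 × Fin 2)),
    ∃ c ∈ ([(0, 0, 0, 0), (2, 0, 0, 0), (0, 2, 0, 0), (2, 2, 0, 0)] :
      List (Fin 4 × Fin 4 × Fin 2 × Fin 2)),
    RankTwoTwoGroup20.op c c = (0, 0, 0, 0) ∧
      RankTwoTwoGroup20.op g p = RankTwoTwoGroup20.op c (RankTwoTwoGroup20.op p g) := by
  decide

theorem rel_facts {G : Type*} [Group G] {u v t s : G} (r : RankTwoTwoGroup20.Rel G u v t s)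
    (hcen : ∀ x : G, x ^ 2 = 1 → x ∈ center G) :
    (∀ z ∈ center G, z ^ 2 = 1) ∧ (∀ x : G, (x ^ 2) ^ 2 = 1) ∧
      (∀ x y : G, ⁅x, y⁆ ∈ center G) := by
  have hbij := RankTwoTwoGroup20.nf_bijective r
  have hmul := RankTwoTwoGroup20.nf_mul r
  have h1 : RankTwoTwoGroup20.nf u v t s (0, 0, 0, 0) = 1 := by simp [RankTwoTwoGroup20.nf]
  refine ⟨fun z hz => ?_, fun x => ?_, ?_⟩
  · obtain ⟨p, rfl⟩ := hbij.2 z
    have hc : ∀ q, RankTwoTwoGroup20.op p q = RankTwoTwoGroup20.op q p := fun q => hbij.1 (by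
      rw [← hmul, ← hmul]; exact (mem_center_iff.1 hz _).symm)
    rw [pow_two, hmul, (rel_table p).1 (hc _) (hc _) (hc _) (hc _), h1]
  · obtain ⟨p, rfl⟩ := hbij.2 x
    rw [pow_two, pow_two, hmul, hmul, (rel_table p).2, h1]
  · have hgen : ∀ g ∈ ([(1, 0, 0, 0), (0, 1, 0, 0), (0, 0, 1, 0), (0, 0, 0, 1)] :
        List (Fin 4 × Fin 4 × Fin 2 × Fin 2)),
        (QuotientGroup.mk (RankTwoTwoGroup20.nf u v t s g) : G ⧸ center G) ∈
          center (G ⧸ center G) := by
      intro g hg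
      rw [mem_center_iff]
      intro y
      obtain ⟨y, rfl⟩ := QuotientGroup.mk_surjective y
      obtain ⟨p, rfl⟩ := hbij.2 y
      obtain ⟨c, -, hc2, hc⟩ := rel_table_com p g hg
      have hcc : RankTwoTwoGroup20.nf u v t s c ∈ center G := hcen _ (by
        rw [pow_two, hmul, hc2, h1])
      rw [← QuotientGroup.mk_mul, ← QuotientGroup.mk_mul, hmul, hmul, hc, ← hmul c,
        QuotientGroup.mk_mul, (QuotientGroup.eq_one_iff _).2 hcc, one_mul]
    have hall : ∀ x : G, (QuotientGroup.mk x : G ⧸ center G) ∈ center (G ⧸ center G) := by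
      intro x
      obtain ⟨i, j, k, l, rfl⟩ := r.surj x
      have hu := hgen (1, 0, 0, 0) (by simp)
      have hv := hgen (0, 1, 0, 0) (by simp)
      have ht := hgen (0, 0, 1, 0) (by simp)
      have hs := hgen (0, 0, 0, 1) (by simp)
      simp only [RankTwoTwoGroup20.nf, Fin.val_zero, Fin.val_one, pow_zero, pow_one, one_mul,
        mul_one] at hu hv ht hs
      simp only [QuotientGroup.mk_mul, QuotientGroup.mk_pow]
      exact mul_mem (mul_mem (mul_mem (pow_mem hu _) (pow_mem hv _)) (pow_mem ht _)) (pow_mem hs _)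
    intro x y
    rw [← QuotientGroup.eq_one_iff, ← QuotientGroup.mk'_apply, map_commutatorElement,
      commutatorElement_eq_one_iff_mul_comm]
    exact (mem_center_iff.1 (hall x) _).symm

/-! ### The abelian critical subgroup -/

/-- `H` is homocyclic of exponent `2 ^ n`. -/
structure Homo (F : Frame A) (n : ℕ) : Prop where
  two : 2 ≤ n
  comm : ∀ a ∈ F.K.H, ∀ b ∈ F.K.H, a * b = b * a
  exp : ∀ a ∈ F.K.H, a ^ 2 ^ n = 1
  root : ∀ j ≤ n, ∀ a ∈ F.K.H, a ^ 2 ^ j = 1 → ∃ b ∈ F.K.H, a = b ^ 2 ^ (n - j)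

theorem zmod_exp {n : ℕ} (x : ZMod (2 ^ n)) : 2 ^ n • x = 0 := by
  rw [nsmul_eq_mul, ZMod.natCast_self, zero_mul]

theorem zmod_root {n j : ℕ} (hj : j ≤ n) (x : ZMod (2 ^ n)) (hx : 2 ^ j • x = 0) :
    ∃ y : ZMod (2 ^ n), x = 2 ^ (n - j) • y := by
  haveI : NeZero (2 ^ n) := ⟨by positivity⟩
  have h1 : ((2 ^ j * x.val : ℕ) : ZMod (2 ^ n)) = 0 := by
    rw [Nat.cast_mul, ZMod.natCast_zmod_val, ← nsmul_eq_mul, hx]
  rw [ZMod.natCast_eq_zero_iff] at h1
  have h2 : 2 ^ (n - j) ∣ x.val := (Nat.mul_dvd_mul_iff_left (Nat.two_pow_pos j)).1 (by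
    rwa [← pow_add, Nat.add_sub_cancel' hj])
  refine ⟨((x.val / 2 ^ (n - j) : ℕ) : ZMod (2 ^ n)), ?_⟩
  rw [nsmul_eq_mul, ← Nat.cast_mul, Nat.mul_div_cancel' h2, ZMod.natCast_zmod_val]

theorem homo_of_iso {n : ℕ} (hn : 2 ≤ n)
    (e : F.K.H ≃* Multiplicative (ZMod (2 ^ n) × ZMod (2 ^ n))) : Homo F n := by
  refine ⟨hn, fun a ha b hb => ?_, fun a ha => ?_, fun j hj a ha hpow => ?_⟩
  · exact congrArg Subtype.val
      (e.injective (by rw [map_mul, map_mul, mul_comm]) : (⟨a, ha⟩ : F.K.H) * ⟨b, hb⟩ = ⟨b, hb⟩ * ⟨a, ha⟩)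
  · refine congrArg Subtype.val (e.injective ?_ : (⟨a, ha⟩ : F.K.H) ^ 2 ^ n = 1)
    rw [map_pow, map_one]
    apply Multiplicative.toAdd.injective
    rw [toAdd_pow, toAdd_one]
    exact Prod.ext (zmod_exp _) (zmod_exp _)
  · have h0 : 2 ^ j • (e ⟨a, ha⟩).toAdd = 0 := by
      rw [← toAdd_pow, ← map_pow,
        show (⟨a, ha⟩ : F.K.H) ^ 2 ^ j = 1 from Subtype.ext hpow, map_one, toAdd_one]
    obtain ⟨y, hy⟩ := zmod_root hj _ (by simpa using congrArg Prod.fst h0)
    obtain ⟨z, hz⟩ := zmod_root hj _ (by simpa using congrArg Prod.snd h0)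
    refine ⟨_, (e.symm (Multiplicative.ofAdd (y, z))).2, ?_⟩
    refine congrArg Subtype.val (e.injective ?_ :
      (⟨a, ha⟩ : F.K.H) = e.symm (Multiplicative.ofAdd (y, z)) ^ 2 ^ (n - j))
    rw [map_pow, e.apply_symm_apply]
    apply Multiplicative.toAdd.injective
    rw [toAdd_pow, toAdd_ofAdd]
    exact Prod.ext (by simpa using hy) (by simpa using hz)

section homo

variable {F} {n : ℕ} (hH : Homo F n)
include hH

theorem self_cen {x : X} (hx : ∀ a ∈ F.K.H, ⁅x, a⁆ = 1) : x ∈ F.K.H :=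
  F.K.cle (mem_centralizer_iff.2 fun a ha =>
    (commutatorElement_eq_one_iff_mul_comm.1 (hx a ha)).symm)

theorem br_mul_right (x : X) {a b : X} (ha : a ∈ F.K.H) (hb : b ∈ F.K.H) :
    ⁅x, a * b⁆ = ⁅x, a⁆ * ⁅x, b⁆ := by
  rw [show ⁅x, a * b⁆ = ⁅x, a⁆ * (a * ⁅x, b⁆ * a⁻¹) by simp only [commutatorElement_def]; group,
    hH.comm a ha _ (com_H F x hb), mul_inv_cancel_right]

theorem br_pow (x : X) {a : X} (ha : a ∈ F.K.H) : ∀ k : ℕ, ⁅x, a ^ k⁆ = ⁅x, a⁆ ^ k
  | 0 => by simp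
  | k + 1 => by rw [pow_succ, br_mul_right hH x (pow_mem ha k) ha, br_pow x ha k, pow_succ]

theorem br_mul_left (x y : X) {a : X} (ha : a ∈ F.K.H) :
    ⁅x * y, a⁆ = ⁅x, ⁅y, a⁆⁆ * ⁅y, a⁆ * ⁅x, a⁆ := by
  simp only [commutatorElement_def]; group

/-- Level `m` is acted on into the involutions. -/
def Ok (m : ℕ) (x : X) : Prop := ∀ a ∈ F.K.H, a ^ 2 ^ (m + 1) = 1 → ⁅x, a⁆ ∈ F.K.E

theorem ok_one (x : X) : Ok (F := F) 1 x := fun a ha ha4 => by
  have h2 : a ^ 2 ∈ F.K.E := invol_H F (pow_mem ha 2) (by rw [← pow_mul]; simpa using ha4)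
  refine invol_H F (com_H F x ha) ?_
  rw [← br_pow hH x ha, commutatorElement_eq_one_iff_mul_comm]
  exact e_cen F h2 x

theorem exists_root {m : ℕ} (hm : m < n) (v : K4) :
    ∃ a, a ∈ F.K.H ∧ a ^ 2 ^ m = ι F v := by
  obtain ⟨b, hb, hbv⟩ := hH.root 1 (by have := hH.two; omega) _ (E_le_H F (ι_mem F v))
    (by rw [pow_one]; exact ((F.K.mem_E _).1 (ι_mem F v)).2)
  refine ⟨b ^ 2 ^ (n - 1 - m), pow_mem hb _, ?_⟩
  rw [← pow_mul, ← pow_add, show n - 1 - m + m = n - 1 by omega, hbv]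

theorem root_bound {m : ℕ} {a : X} {v : K4} (hav : a ^ 2 ^ m = ι F v) :
    a ^ 2 ^ (m + 1) = 1 := by
  rw [pow_succ, pow_mul, hav, pow_two, e_sq F (ι_mem F v)]

theorem ok_kernel {m : ℕ} (hm : m < n) {x : X} (hx : Ok (F := F) m x) {a : X} (ha : a ∈ F.K.H)
    (hk : a ^ 2 ^ m = 1) : ⁅x, a⁆ = 1 := by
  obtain ⟨b, hb, hab⟩ := hH.root m hm.le a ha hk
  set c := b ^ 2 ^ (n - m - 1) with hc
  have hca : c ^ 2 = a := by
    rw [hab, hc, ← pow_mul, ← pow_succ, show n - m - 1 + 1 = n - m by omega]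
  have hcH : c ∈ F.K.H := pow_mem hb _
  rw [← hca, br_pow hH x hcH, pow_two,
    e_sq F (hx c hcH (by rw [pow_succ', pow_mul, hca, hk]))]

omit hH in
/-- The map of the four-group given by `x` at level `m`. -/
noncomputable def M (F : Frame A) (m : ℕ) (x : X) : Lin :=
  mat fun v => κ F ⁅x, Classical.epsilon fun a => a ∈ F.K.H ∧ a ^ 2 ^ m = ι F v⁆

theorem M_spec {m : ℕ} (hm : m < n) {x : X} (hx : Ok (F := F) m x) {a : X} {v : K4}
    (ha : a ∈ F.K.H) (hav : a ^ 2 ^ m = ι F v) : ⁅x, a⁆ = ι F (app (M F m x) v) := by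
  set root : K4 → X := fun v => Classical.epsilon fun a => a ∈ F.K.H ∧ a ^ 2 ^ m = ι F v
  have hr : ∀ v, root v ∈ F.K.H ∧ root v ^ 2 ^ m = ι F v := fun v =>
    Classical.epsilon_spec (exists_root hH hm v)
  have hval : ∀ v, ∀ b ∈ F.K.H, b ^ 2 ^ m = ι F v → ⁅x, b⁆ = ⁅x, root v⁆ := by
    intro v b hb hbv
    have hk : (b * (root v)⁻¹) ^ 2 ^ m = 1 := by
      rw [(show Commute b (root v)⁻¹ from hH.comm _ hb _ (inv_mem (hr v).1)).mul_pow, inv_pow, hbv,
        (hr v).2, mul_inv_cancel]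
    have := ok_kernel hH hm hx (mul_mem hb (inv_mem (hr v).1)) hk
    calc ⁅x, b⁆ = ⁅x, b * (root v)⁻¹ * root v⁆ := by rw [inv_mul_cancel_right]
      _ = _ := by rw [br_mul_right hH x (mul_mem hb (inv_mem (hr v).1)) (hr v).1, this, one_mul]
  have hmem : ∀ v, ⁅x, root v⁆ ∈ F.K.E := fun v => hx _ (hr v).1 (root_bound hH (hr v).2)
  rw [hval v a ha hav, M, app_mat]
  · exact (ι_κ F (hmem v)).symm
  intro v w
  refine ι_inj F ?_
  show ι F (κ F ⁅x, root (v + w)⁆) = ι F (κ F ⁅x, root v⁆ + κ F ⁅x, root w⁆)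
  rw [ι_add, ι_κ F (hmem _), ι_κ F (hmem _), ι_κ F (hmem _),
    ← hval (v + w) (root v * root w) (mul_mem (hr v).1 (hr w).1) (by
      rw [(show Commute (root v) (root w) from hH.comm _ (hr v).1 _ (hr w).1).mul_pow, (hr v).2,
        (hr w).2, ι_add]), br_mul_right hH x (hr v).1 (hr w).1]

theorem M_eq_of {m : ℕ} (hm : m < n) {x : X} (hx : Ok (F := F) m x) {N : Lin}
    (hN : ∀ a v, a ∈ F.K.H → a ^ 2 ^ m = ι F v → ⁅x, a⁆ = ι F (app N v)) : M F m x = N := by
  refine app_ext _ _ fun v => ι_inj F ?_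
  obtain ⟨a, ha, hav⟩ := exists_root hH hm v
  rw [← M_spec hH hm hx ha hav, hN a v ha hav]

theorem M_zero {m : ℕ} (hm : m < n) {x : X} (hx : Ok (F := F) m x) (h0 : M F m x = 0) {a : X}
    (ha : a ∈ F.K.H) (ha2 : a ^ 2 ^ (m + 1) = 1) : ⁅x, a⁆ = 1 := by
  have hE : a ^ 2 ^ m ∈ F.K.E := invol_H F (pow_mem ha _) (by rw [← pow_mul, ← pow_succ]; exact ha2)
  obtain ⟨v, hv⟩ := ι_surj F hE
  rw [M_spec hH hm hx ha hv.symm, h0, app_zero, ι_zero]

theorem ok_mul {m : ℕ} {x y : X} (hx : Ok (F := F) m x) (hy : Ok (F := F) m y) :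
    Ok (F := F) m (x * y) := fun a ha ha2 => by
  rw [br_mul_left hH x y ha, commutatorElement_eq_one_iff_mul_comm.2 (e_cen F (hy a ha ha2) x),
    one_mul]
  exact mul_mem (hy a ha ha2) (hx a ha ha2)

theorem M_mul {m : ℕ} (hm : m < n) {x y : X} (hx : Ok (F := F) m x) (hy : Ok (F := F) m y) :
    M F m (x * y) = M F m x + M F m y := by
  refine M_eq_of hH hm (ok_mul hH hx hy) fun a v ha hav => ?_
  have hye := hy a ha (root_bound hH hav)
  rw [br_mul_left hH x y ha, commutatorElement_eq_one_iff_mul_comm.2 (e_cen F hye x), one_mul,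
    M_spec hH hm hx ha hav, M_spec hH hm hy ha hav, ← ι_add, ← app_add, add_comm (M F m y)]

theorem M_one {m : ℕ} (hm : m < n) : M F m 1 = 0 := by
  refine M_eq_of hH hm (fun a ha _ => by rw [commutatorElement_one_left]; exact one_mem _)
    fun a v ha hav => ?_
  rw [app_zero, ι_zero, commutatorElement_one_left]

theorem M_conj {m : ℕ} (hm : m < n) {φ : MulAut X} (hφ : φ ∈ A) {x : X} (hx : Ok (F := F) m x) :
    Ok (F := F) m (φ x) ∧
      ∀ v, app (M F m (φ x)) (app (Q F φ) v) = app (Q F φ) (app (M F m x) v) := by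
  have hok : Ok (F := F) m (φ x) := fun a ha ha2 => by
    have ha' : φ.symm a ∈ F.K.H := char_inv F.K.charH _ ha
    have := hx _ ha' (by rw [← map_pow, ha2, map_one])
    have := F.K.inv φ hφ _ this
    rwa [map_commutatorElement, φ.apply_symm_apply] at this
  refine ⟨hok, fun v => ι_inj F ?_⟩
  obtain ⟨a, ha, hav⟩ := exists_root hH hm v
  rw [← M_spec hH hm hok (char_inv F.K.charH φ ha) (by rw [← map_pow, hav, app_Q F hφ]),
    ← app_Q F hφ, ← M_spec hH hm hx ha hav, map_commutatorElement]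

theorem M_psi {m : ℕ} (hm : m < n) {x : X} (hx : Ok (F := F) m x) :
    Ok (F := F) m (F.ψ x) ∧ M F m (F.ψ x) = cj (M F m x) := by
  obtain ⟨hok, he⟩ := M_conj hH hm F.hψ hx
  refine ⟨hok, app_ext _ _ fun v => ?_⟩
  have hQ : ∀ w, app (Q F F.ψ) w = P w := fun w => ι_inj F (by rw [← app_Q F F.hψ, ι_psi])
  have := he (Pinv v)
  rw [hQ, hQ, p_pinv] at this
  rw [this, cj, app_mat]
  intro a b
  have e1 : ∀ a b, Pinv (a + b) = Pinv a + Pinv b := by decide
  have e2 : ∀ a b, P (a + b) = P a + P b := by decide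
  rw [e1, app_add_vec, e2]

/-- The top layer is trivial. -/
theorem top_layer (h3 : 3 ≤ n) {x : X} (hx : Ok (F := F) (n - 1) x) : x ∈ F.K.H := by
  have hm : n - 1 < n := by omega
  have hn1 : n - 1 + 1 = n := by omega
  have hall : ∀ a ∈ F.K.H, a ^ 2 ^ (n - 1 + 1) = 1 := fun a ha => by rw [hn1]; exact hH.exp a ha
  by_contra hxH
  have hM : M F (n - 1) x ≠ 0 := fun e =>
    hxH (self_cen hH fun a ha => M_zero hH hm hx e ha (hall a ha))
  obtain ⟨t, ht, htinj⟩ : ∃ t, Ok (F := F) (n - 1) t ∧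
      ∀ v, app (M F (n - 1) t) v = 0 → v = 0 := by
    rcases inj_or_tr _ hM with q | q
    · exact ⟨x, hx, q⟩
    obtain ⟨h1, e1⟩ := M_psi hH hm hx
    obtain ⟨h2, e2⟩ := M_psi hH hm h1
    refine ⟨x * F.ψ x * F.ψ (F.ψ x), ok_mul hH (ok_mul hH hx h1) h2, ?_⟩
    rw [M_mul hH hm (ok_mul hH hx h1) h2, M_mul hH hm hx h1, e2, e1]
    exact q
  have htH : t ∉ F.K.H := fun htH => by
    obtain ⟨a, ha, hav⟩ := exists_root hH hm (1, 0)
    have := M_spec hH hm ht ha hav
    rw [commutatorElement_eq_one_iff_mul_comm.2 (hH.comm t htH a ha)] at this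
    exact absurd (htinj _ (ι_eq_one F this.symm)) (by decide)
  have hδ : ∀ a ∈ F.K.H, ⁅t, a⁆ ∈ F.K.E := fun a ha => ht a ha (hall a ha)
  have hsqroot : ∀ a ∈ F.K.H, ⁅t, a⁆ = 1 → ∃ b ∈ F.K.H, a = b ^ 2 := by
    intro a ha e
    obtain ⟨v, hv⟩ := ι_surj F (invol_H F (pow_mem ha _) (by
      rw [← pow_mul, ← pow_succ]; exact hall a ha : (a ^ 2 ^ (n - 1)) ^ 2 = 1))
    rw [M_spec hH hm ht ha hv.symm] at e
    rw [htinj _ (ι_eq_one F e), ι_zero] at hv
    obtain ⟨b, hb, hab⟩ := hH.root (n - 1) (by omega) a ha hv.symm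
    exact ⟨b, hb, by rw [hab, show n - (n - 1) = 1 by omega, pow_one]⟩
  -- the square of `t`
  have htt : t ^ 2 ∈ F.K.H := self_cen hH fun a ha => by
    rw [pow_two, br_mul_left hH t t ha,
      commutatorElement_eq_one_iff_mul_comm.2 (e_cen F (hδ a ha) t), one_mul, e_sq F (hδ a ha)]
  obtain ⟨b, hb, htb⟩ := hsqroot _ htt (commutatorElement_eq_one_iff_mul_comm.2
    ((Commute.refl t).pow_right 2).eq)
  -- an involution in the coset
  have hdb : ⁅t, b⁆ ^ 2 ^ 1 = 1 := by rw [pow_one]; exact ((F.K.mem_E _).1 (hδ b hb)).2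
  obtain ⟨c, hc, hbc⟩ := hH.root 1 (by omega) _ (E_le_H F (hδ b hb)) hdb
  set a := b⁻¹ * c ^ 2 ^ (n - 2) with ha_def
  have haH : a ∈ F.K.H := mul_mem (inv_mem hb) (pow_mem hc _)
  have hda : ⁅t, a⁆ = ⁅t, b⁆ := by
    have h1 : ⁅t, b⁻¹⁆ = ⁅t, b⁆ := by
      have h2 := br_mul_right hH t (inv_mem hb) hb
      rw [inv_mul_cancel, commutatorElement_one_right] at h2
      rw [eq_inv_of_mul_eq_one_left h2.symm, e_inv F (hδ b hb)]
    rw [br_mul_right hH t (inv_mem hb) (pow_mem hc _), h1, br_pow hH t hc,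
      show n - 2 = n - 3 + 1 by omega, pow_succ', pow_mul, pow_two, e_sq F (hδ c hc), one_pow,
      mul_one]
  have hconj : ∀ a ∈ F.K.H, t * a * (t * a) = t ^ 2 * (a ^ 2 * ⁅t, a⁆) := by
    intro a ha
    have e : a * t = t * (a * ⁅t, a⁆) := by
      have e1 : ⁅t, a⁆ * (a * t) = t * a := by simp only [commutatorElement_def]; group
      calc a * t = ⁅t, a⁆ * (⁅t, a⁆ * (a * t)) := by
            rw [← mul_assoc, e_sq F (hδ a ha), one_mul]
        _ = ⁅t, a⁆ * (t * a) := by rw [e1]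
        _ = t * (a * ⁅t, a⁆) := by rw [← e_cen F (hδ a ha) (t * a), mul_assoc]
    calc t * a * (t * a) = t * (a * t) * a := by group
      _ = t * (t * (a * ⁅t, a⁆)) * a := by rw [e]
      _ = t ^ 2 * (a * (⁅t, a⁆ * a)) := by rw [pow_two]; group
      _ = _ := by rw [← e_cen F (hδ a ha) a, pow_two a]; group
  have hinv : (t * a) ^ 2 = 1 := by
    rw [pow_two, hconj a haH, hda, htb, ha_def,
      (show Commute b⁻¹ (c ^ 2 ^ (n - 2)) from hH.comm _ (inv_mem hb) _ (pow_mem hc _)).mul_pow,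
      ← pow_mul, ← pow_succ, show n - 2 + 1 = n - 1 by omega, ← hbc, mul_assoc, e_sq F (hδ b hb),
      mul_one, inv_pow, mul_inv_cancel]
  set t' := t * a with ht'
  have ht'H : t' ∉ F.K.H := fun e => htH (by
    simpa [ht'] using mul_mem e (inv_mem haH))
  have hd' : ∀ y ∈ F.K.H, ⁅t', y⁆ = ⁅t, y⁆ := fun y hy => by
    rw [ht', br_mul_left hH t a hy, commutatorElement_eq_one_iff_mul_comm.2 (hH.comm a haH y hy),
      commutatorElement_one_right, one_mul, one_mul]
  refine ht'H (E_le_H F (mem_of_invol F.h F.K.central (fun a ha => ((F.K.mem_E a).1 ha).2) F.card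
    hinv fun g => ?_))
  set w := ⁅g, t'⁆ with hw
  haveI := H_normal F
  have hwH : w ∈ F.K.H := self_cen hH fun y hy => by
    have hy' : g⁻¹ * y * g ∈ F.K.H := by
      have := (H_normal F).conj_mem y hy g⁻¹
      simpa using this
    have e1 : ⁅t', g⁻¹ * y * g⁆ = ⁅t', y⁆ := by
      rw [hd' _ hy', hd' _ hy, show g⁻¹ * y * g = ⁅g⁻¹, y⁆ * y by
        simp only [commutatorElement_def]; group, br_mul_right hH t (com_H F _ hy) hy]
      have hk : ⁅g⁻¹, y⁆ ^ 2 ^ (n - 1) = 1 := by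
        rw [← br_pow hH _ hy, commutatorElement_eq_one_iff_mul_comm]
        exact e_cen F (invol_H F (pow_mem hy _) (by rw [← pow_mul, ← pow_succ]; exact hall y hy)) _
      rw [ok_kernel hH hm ht (com_H F _ hy) hk, one_mul]
    have e2 : ⁅g * t' * g⁻¹, y⁆ = ⁅t', y⁆ := by
      rw [show ⁅g * t' * g⁻¹, y⁆ = g * ⁅t', g⁻¹ * y * g⁆ * g⁻¹ by
        simp only [commutatorElement_def]; group, e1, hd' y hy, e_cen F (hδ y hy) g,
        mul_inv_cancel_right]
    have ht'i : t'⁻¹ = t' := inv_eq_of_mul_eq_one_right (by rw [← pow_two]; exact hinv)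
    have e4 : w = g * t' * g⁻¹ * t' := by rw [hw, commutatorElement_def, ht'i]
    have hE' : ⁅t', y⁆ ∈ F.K.E := hd' y hy ▸ hδ y hy
    rw [e4, br_mul_left hH _ _ hy,
      commutatorElement_eq_one_iff_mul_comm.2 (e_cen F hE' _), one_mul, e2, e_sq F hE']
  have hwt : w * t' * (w * t') = 1 := by
    rw [hw, show ⁅g, t'⁆ * t' = g * t' * g⁻¹ by simp only [commutatorElement_def]; group,
      show g * t' * g⁻¹ * (g * t' * g⁻¹) = g * (t' * t') * g⁻¹ by group, ← pow_two, hinv]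
    group
  have hwc : w * (⁅t', w⁆ * w) = 1 := by
    have ht'i : t'⁻¹ = t' := inv_eq_of_mul_eq_one_right (by rw [← pow_two]; exact hinv)
    rw [← hwt]
    simp only [commutatorElement_def, ht'i]; group
  rw [hd' w hwH, ← mul_assoc, e_cen F (hδ w hwH) w, mul_assoc, ← pow_two] at hwc
  have hw2 : w ^ 2 = ⁅t, w⁆ := by
    rw [← inv_eq_of_mul_eq_one_right hwc, e_inv F (hδ w hwH)]
  have hw4 : w ^ 2 ^ (n - 1) = 1 := by
    rw [show 2 ^ (n - 1) = 2 * (2 * 2 ^ (n - 3)) by
      rw [← pow_succ', ← pow_succ']; congr 1; omega, pow_mul, hw2, pow_mul, pow_two,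
      e_sq F (hδ w hwH), one_pow]
  rw [ok_kernel hH hm ht hwH hw4] at hw2
  exact invol_H F hwH hw2

theorem sq_bracket (x : X) {a : X} (ha : a ∈ F.K.H) :
    ⁅x ^ 2, a⁆ = ⁅x, ⁅x, a⁆⁆ * ⁅x, a⁆ ^ 2 := by
  rw [pow_two, br_mul_left hH x x ha, pow_two, mul_assoc]

/-- The kernel of the action on the second layer. -/
theorem descend (h3 : 3 ≤ n) : ∀ d : ℕ, ∀ j : ℕ, 2 ≤ j → j + d = n - 1 → ∀ x : X,
    (∀ a ∈ F.K.H, ⁅x, a⁆ ^ 2 ^ (n - j) = 1) → x ∈ F.K.H := by
  intro d
  induction d with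
  | zero =>
    intro j hj hjd x hx
    refine top_layer hH h3 fun a ha _ => invol_H F (com_H F x ha) ?_
    have := hx a ha
    rwa [show n - j = 1 by omega, pow_one] at this
  | succ d ih =>
    intro j hj hjd x hx
    have hxb : ∀ a ∈ F.K.H, ∃ b ∈ F.K.H, ⁅x, ⁅x, a⁆⁆ = ⁅x, b⁆ ^ 2 ^ j := by
      intro a ha
      obtain ⟨b, hb, e⟩ := hH.root (n - j) (by omega) _ (com_H F x ha) (hx a ha)
      exact ⟨b, hb, by rw [e, br_pow hH x hb, show n - (n - j) = j by omega]⟩
    have hsq : x ^ 2 ∈ F.K.H := ih (j + 1) (by omega) (by omega) _ fun a ha => by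
      obtain ⟨b, hb, e⟩ := hxb a ha
      rw [sq_bracket hH x ha, (show Commute ⁅x, ⁅x, a⁆⁆ (⁅x, a⁆ ^ 2) from
        hH.comm _ (com_H F _ (com_H F x ha)) _ (pow_mem (com_H F x ha) 2)).mul_pow, e, ← pow_mul,
        ← pow_mul, ← pow_succ', ← pow_add, show n - (j + 1) + 1 = n - j by omega, hx a ha,
        mul_one, show j + (n - (j + 1)) = n - j + (j - 1) by omega, pow_add, pow_mul, hx b hb,
        one_pow]
    refine ih (j + 1) (by omega) (by omega) x fun a ha => ?_
    obtain ⟨b, hb, e⟩ := hxb a ha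
    have h1 : ⁅x ^ 2, a⁆ = 1 := commutatorElement_eq_one_iff_mul_comm.2 (hH.comm _ hsq a ha)
    rw [sq_bracket hH x ha, e] at h1
    rw [show n - (j + 1) = n - j - 2 + 1 by omega, pow_succ', pow_mul,
      ← inv_eq_of_mul_eq_one_right h1, inv_pow, ← pow_mul, ← pow_add,
      show j + (n - j - 2) = n - j + (j - 2) by omega, pow_add, pow_mul, hx b hb, one_pow, inv_one]

theorem ker_M {x : X} (h0 : M F 1 x = 0) : x ∈ F.K.H := by
  have hn := hH.two
  rcases (show n = 2 ∨ 3 ≤ n by omega) with rfl | h3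
  · exact self_cen hH fun a ha => M_zero hH (by omega) (ok_one hH x) h0 ha (hH.exp a ha)
  · refine descend hH h3 (n - 3) 2 le_rfl (by omega) x fun a ha => ?_
    rw [← br_pow hH x ha]
    refine M_zero hH (by omega) (ok_one hH x) h0 (pow_mem ha _) ?_
    rw [← pow_mul, ← pow_add, show n - 2 + (1 + 1) = n by omega]
    exact hH.exp a ha

theorem M1_mul (x y : X) : M F 1 (x * y) = M F 1 x + M F 1 y :=
  M_mul hH (by have := hH.two; omega) (ok_one hH x) (ok_one hH y)

theorem M1_inv (x : X) : M F 1 x⁻¹ = M F 1 x := by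
  have h1 := M1_mul hH x⁻¹ x
  rw [inv_mul_cancel, M_one hH (by have := hH.two; omega)] at h1
  have h2 := congrArg (· + M F 1 x) h1
  simpa [add_assoc, lin_double] using h2.symm

theorem not_three_le (h3 : 3 ≤ n) : False := by
  have hm : 1 < n := by omega
  have hidem : ∀ x v, app (M F 1 x) (app (M F 1 x) v) = app (M F 1 x) v := by
    intro x v
    have hxx : x ^ 2 ∈ F.K.H := ker_M hH (by rw [pow_two, M1_mul hH, lin_double])
    obtain ⟨a, ha, hav⟩ := exists_root hH (show 2 < n by omega) v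
    have h1 : ⁅x ^ 2, a⁆ = 1 := commutatorElement_eq_one_iff_mul_comm.2 (hH.comm _ hxx a ha)
    rw [sq_bracket hH x ha] at h1
    have e1 : ⁅x, a⁆ ^ 2 = ι F (app (M F 1 x) v) := by
      rw [← br_pow hH x ha]
      exact M_spec hH hm (ok_one hH x) (pow_mem ha 2) (by rw [← pow_mul]; exact hav)
    rw [e1, M_spec hH hm (ok_one hH x) (com_H F x ha) (by rw [pow_one]; exact e1), ← ι_add] at h1
    have := congrArg (· + app (M F 1 x) v) (ι_eq_one F h1)
    simpa [add_assoc, k4_double] using this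
  have hcases : ∀ x, M F 1 x = 0 ∨ M F 1 x = mat id := fun x => by
    obtain ⟨-, e⟩ := M_psi hH hm (ok_one hH x)
    have := hidem (x * F.ψ x)
    rw [M1_mul hH, e] at this
    exact idem_cases _ (hidem x) this
  have hfixM : ∀ φ ∈ A, ∀ x, M F 1 (φ x) = M F 1 x := by
    intro φ hφ x
    have he := (M_conj hH hm hφ (ok_one hH x)).2 (1, 0)
    rcases hcases x with q | q <;> rcases hcases (φ x) with q' | q' <;> rw [q, q'] at he ⊢
    · rw [app_id, app_zero, app_zero_vec] at he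
      exact absurd (app_Q_inj F hφ he) (by decide)
    · rw [app_zero, app_id] at he
      exact absurd (app_Q_inj F hφ he.symm) (by decide)
  have hle : closure {g : X | ∃ φ ∈ A, ∃ x : X, g = x⁻¹ * φ x} ≤ F.K.H := by
    rw [closure_le]
    rintro _ ⟨φ, hφ, x, rfl⟩
    refine ker_M hH ?_
    rw [M1_mul hH, M1_inv hH, hfixM φ hφ x, lin_double]
  rw [F.h.gen] at hle
  exact F.h.hna ⟨⟨fun x y => hH.comm x (hle (mem_top x)) y (hle (mem_top y))⟩⟩

theorem invol_two (h2 : n = 2) {t : X} (ht : t ^ 2 = 1) : t ∈ F.K.E := by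
  subst h2
  have hm : 1 < 2 := by omega
  have htr : ∀ x, tr (M F 1 x) = 0 := by
    have hK : closure {g : X | ∃ φ ∈ A, ∃ x : X, g = x⁻¹ * φ x} ≤
        ({ carrier := {x | tr (M F 1 x) = 0}
           one_mem' := by show tr (M F 1 1) = 0; rw [M_one hH hm]; decide
           mul_mem' := fun {a b} (ha : tr _ = 0) (hb : tr _ = 0) => by
             show tr (M F 1 (a * b)) = 0; rw [M1_mul hH, tr_add, ha, hb, add_zero]
           inv_mem' := fun {a} (ha : tr _ = 0) => by
             show tr (M F 1 a⁻¹) = 0; rw [M1_inv hH, ha] } : Subgroup X) := by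
      rw [closure_le]
      rintro _ ⟨φ, hφ, x, rfl⟩
      show tr (M F 1 (x⁻¹ * φ x)) = 0
      have he := (M_conj hH hm hφ (ok_one hH x)).2
      have : tr (M F 1 (φ x)) = tr (M F 1 x) := by
        rcases Q_cases F hφ with q | q | q <;> rw [q] at he
        exacts [tr_eq_one _ _ he, tr_eq_P _ _ he, tr_eq_PP _ _ he]
      rw [M1_mul hH, tr_add, M1_inv hH, this, lin_double]
    intro x
    rw [F.h.gen] at hK
    exact hK (mem_top x)
  by_contra htE
  have htH : t ∉ F.K.H := fun e => htE (invol_H F e ht)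
  have hMt : M F 1 t ≠ 0 := fun e => htH (ker_M hH e)
  have hHE : ∀ a ∈ F.K.H, ∀ x : X, ⁅x, a⁆ ∈ F.K.E := fun a ha x => ok_one hH x a ha (hH.exp a ha)
  have hkey : ∀ t w : X, t ^ 2 = 1 → w ∈ F.K.H → (w * t) ^ 2 = 1 → ∀ v, w ^ 2 = ι F v →
      app (M F 1 t) v = v := by
    intro t w ht hw hwt v hv
    have ht'i : t⁻¹ = t := inv_eq_of_mul_eq_one_right (by rw [← pow_two]; exact ht)
    have e : w * (⁅t, w⁆ * w) = 1 := by
      rw [← hwt, pow_two]
      simp only [commutatorElement_def, ht'i]; group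
    rw [← mul_assoc, e_cen F (hHE w hw t) w, mul_assoc, ← pow_two, hv,
      M_spec hH hm (ok_one hH t) hw (by rw [pow_one]; exact hv), ← ι_add] at e
    have := congrArg (· + v) (ι_eq_one F e)
    simpa [add_assoc, k4_double] using this
  have hpair : ∀ a ∈ F.K.H, ∀ y : X, ⁅y, t⁆ ∈ F.K.E → ⁅a * y, t⁆ ∈ F.K.E := by
    intro a ha y hy
    rw [show ⁅a * y, t⁆ = a * ⁅y, t⁆ * a⁻¹ * ⁅a, t⁆ by simp only [commutatorElement_def]; group,
      e_cen F hy a, mul_inv_cancel_right, ← commutatorElement_inv t a]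
    exact mul_mem hy (inv_mem (hHE a ha t))
  have hinvol : ∀ y : X, y ^ 2 = 1 → y ∉ F.K.H → ⁅y, t⁆ ∈ F.K.E := by
    intro y hy hyH
    have hy' : y⁻¹ = y := inv_eq_of_mul_eq_one_right (by rw [← pow_two]; exact hy)
    by_cases hMM : M F 1 t = M F 1 y
    · have hb : y * t⁻¹ ∈ F.K.H := ker_M hH (by rw [M1_mul hH, M1_inv hH, hMM, lin_double])
      have := hpair _ hb t (by rw [commutatorElement_self]; exact one_mem _)
      rwa [inv_mul_cancel_right] at this
    set w := ⁅y, t⁆ with hw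
    have hwH : w ∈ F.K.H := ker_M hH (by
      rw [hw, commutatorElement_def, M1_mul hH, M1_mul hH, M1_mul hH, M1_inv hH, M1_inv hH]
      exact (show ∀ a b : Lin, a + b + a + b = 0 by decide) _ _)
    obtain ⟨v, hv⟩ := ι_surj F (invol_H F (pow_mem hwH 2) (by
      rw [← pow_mul]; exact hH.exp w hwH))
    have h1 := hkey t w ht hwH (by
      rw [hw, show ⁅y, t⁆ * t = y * t * y⁻¹ by simp only [commutatorElement_def]; group, conj_pow,
        ht]; group) v hv.symm
    have h2 := hkey y w⁻¹ hy (inv_mem hwH) (by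
      rw [hw, commutatorElement_inv, show ⁅t, y⁆ * y = t * y * t⁻¹ by
        simp only [commutatorElement_def]; group, conj_pow, hy]; group) v
      (by rw [inv_pow, ← hv, e_inv F (ι_mem F v)])
    have := tr_zero_fixed _ _ (htr t) (htr y) hMt (fun e => hyH (ker_M hH e)) hMM v h1 h2
    rw [this, ι_zero] at hv
    exact invol_H F hwH hv.symm
  refine htE (mem_of_invol F.h F.K.central (fun a ha => ((F.K.mem_E a).1 ha).2) F.card ht
    fun g => ?_)
  by_cases hMg : M F 1 g = 0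
  · rw [← commutatorElement_inv]; exact inv_mem (hHE g (ker_M hH hMg) t)
  obtain ⟨y, hy, hyH, hMy⟩ : ∃ y, y ^ 2 = 1 ∧ y ∉ F.K.H ∧ M F 1 y = M F 1 g := by
    obtain ⟨-, e1⟩ := M_psi hH hm (ok_one hH t)
    obtain ⟨-, e2⟩ := M_psi hH hm (ok_one hH (F.ψ t))
    have hout : ∀ z, F.ψ z ∈ F.K.H → z ∈ F.K.H := fun z hz => by
      have := char_inv F.K.charH F.ψ.symm hz
      rwa [F.ψ.symm_apply_apply] at this
    rcases tr_zero_cases _ _ (htr t) (htr g) hMt hMg with q | q | q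
    · exact ⟨t, ht, htH, q.symm⟩
    · exact ⟨F.ψ t, by rw [← map_pow, ht, map_one], fun e => htH (hout _ e), e1.trans q.symm⟩
    · exact ⟨F.ψ (F.ψ t), by rw [← map_pow, ← map_pow, ht, map_one, map_one],
        fun e => htH (hout _ (hout _ e)), e2.trans ((congrArg cj e1).trans q.symm)⟩
  have hb : g * y⁻¹ ∈ F.K.H := ker_M hH (by rw [M1_mul hH, M1_inv hH, hMy, lin_double])
  have := hpair _ hb y (hinvol y hy hyH)
  rwa [inv_mul_cancel_right] at this

end homo

/-- All involutions lie in the four-group. -/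
theorem invol {t : X} (ht : t ^ 2 = 1) : t ∈ F.K.E := by
  rcases RankTwoTwoGroup20.structure_thm (dataH F) with ⟨n, hn, ⟨e⟩⟩ | ⟨u, v, t', s, r⟩
  · rcases (show n = 1 ∨ n = 2 ∨ 3 ≤ n by omega) with rfl | rfl | h3
    · exfalso
      have hle : F.K.H ≤ center X := fun a ha => F.K.central (invol_H F ha (by
        refine congrArg Subtype.val (e.injective ?_ : (⟨a, ha⟩ : F.K.H) ^ 2 = 1)
        rw [map_pow, map_one]
        apply Multiplicative.toAdd.injective
        rw [toAdd_pow, toAdd_one]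
        exact (show ∀ z : ZMod (2 ^ 1) × ZMod (2 ^ 1), (2 : ℕ) • z = 0 by decide) _))
      have hall : ∀ x : X, x ∈ center X := fun x => hle (F.K.cle (mem_centralizer_iff.2 fun a ha =>
        (mem_center_iff.1 (hle ha) x).symm))
      exact F.h.hna ⟨⟨fun x y => mem_center_iff.1 (hall y) x⟩⟩
    · exact invol_two (homo_of_iso F le_rfl e) rfl ht
    · exact (not_three_le (homo_of_iso F (by omega) e) h3).elim
  · have hf := rel_facts r (dataH F).central
    have hZE : ∀ a ∈ centralizer (F.K.H : Set X), a ∈ F.K.E := fun a ha => by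
      refine (F.K.mem_E a).2 ⟨ha, ?_⟩
      exact congrArg Subtype.val (hf.1 ⟨a, F.K.cle ha⟩ (mem_center_iff.2 fun g => Subtype.ext
        (mem_centralizer_iff.1 ha g g.2)))
    have hhom : ∀ (x y : X) {a : X}, a ∈ F.K.H → ⁅x * y, a⁆ = ⁅x, a⁆ * ⁅y, a⁆ := by
      intro x y a ha
      have hy := hZE _ (F.K.com y a ha)
      rw [show ⁅x * y, a⁆ = x * ⁅y, a⁆ * x⁻¹ * ⁅x, a⁆ by simp only [commutatorElement_def]; group,
        e_cen F hy x, mul_inv_cancel_right, e_cen F hy ⁅x, a⁆]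
    refine mem_of_invol F.h F.K.central (fun a ha => ((F.K.mem_E a).1 ha).2) F.card ht
      fun g => hZE _ (mem_centralizer_iff.2 fun a ha => ?_)
    let f : X →* F.K.E := MonoidHom.mk' (fun x => ⟨⁅x, a⁆, hZE _ (F.K.com x a ha)⟩)
      fun x y => Subtype.ext (hhom x y ha)
    have : f ⁅g, t⁆ = 1 := by
      rw [map_commutatorElement, commutatorElement_eq_one_iff_mul_comm]
      exact Subtype.ext (e_cen F (f t).2 _)
    exact (commutatorElement_eq_one_iff_mul_comm.1 (congrArg Subtype.val this)).symm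

/-- The whole group has three central involutions. -/
noncomputable def dataX : RankTwoTwoGroup20.Data X where
  ψ := F.ψ
  hT := F.h.hX
  central := fun x hx => F.K.central (invol F hx)
  card4 := by
    rw [← F.card]
    exact Nat.card_congr (Equiv.subtypeEquivRight fun x =>
      ⟨invol F, fun hx => ((F.K.mem_E x).1 hx).2⟩)
  fix := fun x hx hfix => F.fix x (invol F hx) hfix
  three := F.three

include F in
theorem moving_case :
    Cfsg.IsSpecial 2 X ∧ Nat.card X = 64 ∧ Nat.card {x : X // orderOf x = 2} = 3 ∧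
      ∀ x : X, orderOf x = 2 → x ∈ center X := by
  haveI : Fact (Nat.Prime 2) := ⟨Nat.prime_two⟩
  rcases RankTwoTwoGroup20.structure_thm (dataX F) with ⟨n, hn, ⟨e⟩⟩ | ⟨u, v, t, s, r⟩
  · exact (F.h.hna ⟨⟨fun x y => e.injective (by rw [map_mul, map_mul, mul_comm])⟩⟩).elim
  have hf := rel_facts r (dataX F).central
  have hinv : ∀ x : X, orderOf x = 2 → x ∈ center X := fun x hx =>
    F.K.central (invol F (by rw [← hx]; exact pow_orderOf_eq_one x))
  have hcenter : center X = F.K.E :=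
    le_antisymm (fun z hz => invol F (hf.1 z hz)) F.K.central
  have hsq : ∀ x : X, x ^ 2 ∈ F.K.E := fun x => invol F (hf.2.1 x)
  have hle : commutator X ≤ F.K.E := by
    rw [commutator_def, Subgroup.commutator_le]
    exact fun x _ y _ => hcenter ▸ hf.2.2 x y
  have hcomm : commutator X = F.K.E := by
    refine le_antisymm hle fun a ha => ?_
    obtain ⟨c, hc, hc1⟩ : ∃ c ∈ commutator X, c ≠ 1 := by
      by_contra hno
      push Not at hno
      exact F.h.hna ⟨⟨fun x y => commutatorElement_eq_one_iff_mul_comm.1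
        (hno _ (commutator_mem_commutator (mem_top x) (mem_top y)))⟩⟩
    have hψc : F.ψ c ∈ commutator X :=
      char_inv (inferInstance : (commutator X).Characteristic) _ hc
    rcases four F.K F.card (hle hc) (hle hψc) hc1
      (fun q => hc1 (F.ψ.injective (q.trans (map_one F.ψ).symm)))
      (fun q => hc1 (F.fix c (hle hc) q.symm)) a ha with q | q | q | q <;> rw [q]
    exacts [one_mem _, hc, hψc, mul_mem hc hψc]
  haveI : F.K.E.Normal := PGroupsBasic.normal_of_le_center F.K.central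
  have hfrat : frattini X = F.K.E := le_antisymm
    (PGroupsBasic.frattini_le_of_elementary_quotient (p := 2) hle hsq)
    (hcomm.ge.trans (PGroupsBasic.commutator_le_frattini F.h.hX))
  refine ⟨⟨F.h.hX, hfrat.trans hcenter.symm, hcomm.trans hcenter.symm⟩, r.card, ?_, hinv⟩
  have e : {x : X | orderOf x = 2} = (F.K.E : Set X) \ {1} := by
    ext x
    simp only [Set.mem_setOf_eq, Set.mem_diff, SetLike.mem_coe, Set.mem_singleton_iff]
    constructor
    · intro hx
      exact ⟨hcenter ▸ hinv x hx, fun e => by rw [e, orderOf_one] at hx; omega⟩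
    · rintro ⟨hx, hx1⟩
      exact orderOf_eq_prime ((F.K.mem_E x).1 hx).2 hx1
  have hc := congrArg Set.ncard e
  rw [Set.ncard_diff (by simp), Set.ncard_singleton, ← Nat.card_coe_set_eq,
    ← Nat.card_coe_set_eq] at hc
  rw [show Nat.card ↥(F.K.E : Set X) = Nat.card F.K.E from rfl, F.card] at hc
  exact hc

end frame

end Cfsg.Agent.NoE8Moving20
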