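import Mathlib
import Cfsg.Agent.Lib.NonDiv9Tools
import Cfsg.Agent.Lib.CharInducedCorr
import Cfsg.Agent.Lib.CoprimeAction
import Cfsg.Agent.Lib.FrobeniusNilpotent
import Cfsg.Agent.S4456
import Cfsg.Agent.S4811

/-!
The kernel of a Frobenius factor in a group without divisibility among the degrees: the data,
the centralizing lemma and the Hall subgroup `M`.
-/

set_option autoImplicit false
open Cfsg

namespace Cfsg.Agent.NonDiv9

open Cfsg.Agent.CharBasic Cfsg.Agent.CharBasicOrth Cfsg.Agent.CharBasicDecomp Cfsg.Agent.CharBasicLinear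
open Cfsg.Agent.CharInduced
open scoped commutatorElement

universe u

variable {G : Type u} [Group G]

/-- The hypotheses on the kernel of the Frobenius factor. -/
structure Ctx (Γ : Subgroup (MulAut G)) (q f : ℕ) : Prop where
  inner : ∀ g : G, MulAut.conj g ∈ Γ
  powf : ∀ α ∈ Γ, ∃ n : G, α ^ f = MulAut.conj n
  prime : q.Prime
  copfq : f.Coprime q
  deg : ∀ χ : G → ℂ, IsIrrCharacter G χ → ∀ d : ℕ, χ 1 = d → d ≠ 1 → q ∣ d ∧ f.Coprime d
  nd : ∀ χ ψ : G → ℂ, IsIrrCharacter G χ → IsIrrCharacter G ψ → ∀ a b : ℕ, χ 1 = a → ψ 1 = b →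
    a ≠ 1 → b ≠ 1 → a ∣ b → a = b
  inv : ∀ χ : G → ℂ, IsIrrCharacter G χ → χ 1 ≠ 1 → ∀ α ∈ Γ, ∀ g : G, χ (α g) = χ g

/-- A function on a subgroup has no linear character above it. -/
def NL {A : Subgroup G} [Fintype A] (θ : A → ℂ) : Prop :=
  ∀ χ : G → ℂ, IsIrrCharacter G χ → classInner (fun a : A => χ a) θ ≠ 0 → χ 1 ≠ 1

theorem NL.of_ne_on_commutator [Fintype G] {A : Subgroup G} [A.Normal] [Fintype A] {θ : A → ℂ}
    (hθ : IsIrrCharacter A θ) {a : A} (ha : (a : G) ∈ commutator G) (hne : θ a ≠ θ 1) : NL θ := by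
  intro χ hχ hc h1
  obtain ⟨l, rfl⟩ := exists_hom_of_apply_one_eq_one (isCharacter_of_isIrrCharacter hχ) h1
  have hl : (l.comp A.subtype) a = 1 := Abelianization.commutator_subset_ker l ha
  have e : θ = fun x : A => ((l.comp A.subtype) x : ℂ) := by
    by_contra hh
    exact hc (classInner_irr_ne (isIrrCharacter_linear (l.comp A.subtype)) hθ (Ne.symm hh))
  exact hne (by simp only [e]; rw [hl, map_one])

theorem twist_sep [Finite G] (A T : Subgroup G) (hGA : commutator G ≤ A) {x : T} (hx : (x : G) ∉ A) :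
    ∃ μ : T →* ℂˣ, (∀ a : T, (a : G) ∈ A → μ a = 1) ∧ μ x ≠ 1 := by
  haveI : A.Normal := Subgroup.Normal.of_commutator_le _ hGA
  obtain ⟨lam, h1, h2⟩ := S4811.sep (A.subgroupOf T)
    (fun a b => hGA (Subgroup.commutator_mem_commutator (Subgroup.mem_top (a : G)) (Subgroup.mem_top (b : G))))
    (n := x) hx
  exact ⟨lam, fun a ha => h1 a ha, h2⟩

variable {Γ : Subgroup (MulAut G)} {q f : ℕ}

/-- Every automorphism in `Γ` fixes `θ` after an inner correction. -/
theorem exists_fix [Fintype G] (h : Ctx Γ q f) (A : Subgroup G) [A.Normal] [Fintype A]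
    (hAΓ : ∀ α ∈ Γ, ∀ a ∈ A, α a ∈ A) {θ : A → ℂ} (hθ : IsIrrCharacter A θ) (hnl : NL θ)
    {α : MulAut G} (hα : α ∈ Γ) : ∃ n : G, Fix (α * MulAut.conj n) θ := by
  obtain ⟨χ, hχ, hc⟩ := H74ThreeDeg.exists_over A hθ
  let αA : A →* A :=
    { toFun := fun a => ⟨α a, hAΓ α hα a a.2⟩
      map_one' := Subtype.ext (map_one α)
      map_mul' := fun a b => Subtype.ext (map_mul α _ _) }
  have hbij : Function.Bijective αA := Finite.injective_iff_bijective.1
    fun a b e => Subtype.ext (α.injective (congrArg Subtype.val e))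
  have hφ : IsIrrCharacter A (θ ∘ αA) := isIrrCharacter_comap αA hbij.2 hθ
  have hc' : classInner (fun a : A => χ a) (θ ∘ αA) ≠ 0 := by
    have e : (fun a : A => χ a) = (fun a : A => χ a) ∘ αA := funext fun a => (h.inv χ hχ (hnl χ hχ hc) α hα a).symm
    rw [e]
    have := classInner_congr_equiv (G := A) (MulEquiv.ofBijective αA hbij) (fun a : A => χ a) θ
    exact this.trans_ne hc
  obtain ⟨g, hg⟩ := exists_conj_eq A hχ hθ hφ hc hc'
  refine ⟨g⁻¹, fun a b e => ?_⟩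
  have hm : g⁻¹ * (a : G) * g⁻¹⁻¹ ∈ A := ‹A.Normal›.conj_mem a a.2 _
  have h1 := (congrFun hg ⟨_, hm⟩).symm
  have e1 : αA ⟨_, hm⟩ = b := Subtype.ext e.symm
  rw [Function.comp_apply, e1] at h1
  exact h1.trans (congrArg θ (Subtype.ext (by group)))

/-- The stabilizer of a character of `A` is centralized by `Γ` modulo `A`. -/
theorem central [Fintype G] (h : Ctx Γ q f) (A T : Subgroup G) [A.Normal] [Fintype A]
    (hGA : commutator G ≤ A) (hAT : A ≤ T) (hAΓ : ∀ α ∈ Γ, ∀ a ∈ A, α a ∈ A)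
    {θ : A → ℂ} (hθ : IsIrrCharacter A θ) (hnl : NL θ)
    (hT : ∀ β ∈ Γ, Fix β θ → ∀ t ∈ T, β t ∈ T)
    {ψ : T → ℂ} (hψ : IsIrrCharacter T ψ) (hres : ∀ a : A, ψ ⟨a, hAT a.2⟩ = θ a)
    (hfix : ∀ n : G, n ∈ inertia A θ → ∀ t s : T, (s : G) = n * t * n⁻¹ → ψ s = ψ t)
    {α : MulAut G} (hα : α ∈ Γ) {t : G} (ht : t ∈ T) : α t * t⁻¹ ∈ A := by
  classical
  haveI : T.Normal := Subgroup.Normal.of_commutator_le _ (hGA.trans hAT)
  have := Fintype.ofFinite T
  obtain ⟨n, hn⟩ := exists_fix h A hAΓ hθ hnl hα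
  set β := α * MulAut.conj n with hβdef
  have hβ : β ∈ Γ := mul_mem hα (h.inner n)
  let e0 : T →* T :=
    { toFun := fun x => ⟨β x, hT β hβ hn x x.2⟩
      map_one' := Subtype.ext (map_one β)
      map_mul' := fun a b => Subtype.ext (map_mul β _ _) }
  have hbij : Function.Bijective e0 := Finite.injective_iff_bijective.1
    fun a b e => Subtype.ext (β.injective (congrArg Subtype.val e))
  let e : T ≃* T := MulEquiv.ofBijective e0 hbij
  have main : ∀ μ : T →* ℂˣ, (∀ a : T, (a : G) ∈ A → μ a = 1) →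
      ∀ x : T, ψ (e0 x) * (μ (e0 x) : ℂ) = ψ x * (μ x : ℂ) := by
    intro μ hμ
    have hξ : IsIrrCharacter T (fun x => ψ x * (μ x : ℂ)) := isIrrCharacter_mul_linear hψ μ
    have hξres : (fun a : A => (fun x : T => ψ x * (μ x : ℂ)) ⟨a, hAT a.2⟩) = θ := funext fun a => by
      show ψ ⟨a, hAT a.2⟩ * _ = _
      rw [hμ ⟨a, hAT a.2⟩ a.2, Units.val_one, mul_one, hres a]
    obtain ⟨χ, hχ, hc⟩ := H74ThreeDeg.exists_over T hξ
    have hcA : classInner (fun a : A => χ a) θ ≠ 0 :=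
      classInner_res_trans A T hAT (isCharacter_of_isIrrCharacter hχ) hξ hc hθ
        (by rw [hξres, classInner_irr_self hθ]; exact one_ne_zero)
    have hφ : IsIrrCharacter T ((fun x => ψ x * (μ x : ℂ)) ∘ e0) := isIrrCharacter_comap e0 hbij.2 hξ
    have hc' : classInner (fun x : T => χ x) ((fun x => ψ x * (μ x : ℂ)) ∘ e0) ≠ 0 := by
      have e' : (fun x : T => χ x) = (fun x : T => χ x) ∘ e0 :=
        funext fun x => (h.inv χ hχ (hnl χ hχ hcA) β hβ x).symm
      rw [e']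
      exact (classInner_congr_equiv (G := T) e (fun x : T => χ x) _).trans_ne hc
    obtain ⟨g, hg⟩ := exists_conj_eq T hχ hξ hφ hc hc'
    have hgA : g ∈ inertia A θ := by
      rw [mem_inertia_iff]
      intro a
      have h1 := congrFun hg ⟨a, hAT a.2⟩
      have hga : g * (a : G) * g⁻¹ ∈ A := ‹A.Normal›.conj_mem a a.2 g
      have h2 : ψ (⟨g * a * g⁻¹, hAT hga⟩ : T) * (μ ⟨g * a * g⁻¹, hAT hga⟩ : ℂ) =
          ψ (e0 ⟨a, hAT a.2⟩) * (μ (e0 ⟨a, hAT a.2⟩) : ℂ) := h1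
      rw [hμ _ hga, hμ (e0 ⟨a, hAT a.2⟩) (hAΓ β hβ a a.2), Units.val_one, mul_one, mul_one] at h2
      have h3 := hres ⟨_, hga⟩
      have h4 := hres ⟨β a, hAΓ β hβ a a.2⟩
      rw [← h3]
      exact h2.trans (h4.trans (hn a _ rfl))
    intro x
    have h1 := congrFun hg x
    refine h1.symm.trans ?_
    have hgx : g * (x : G) * g⁻¹ ∈ T := ‹T.Normal›.conj_mem x x.2 g
    have hμeq : μ ⟨g * x * g⁻¹, hgx⟩ = μ x := by
      rw [← mul_inv_eq_one, ← map_inv, ← map_mul]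
      exact hμ _ (by
        have : g * (x : G) * g⁻¹ * (x : G)⁻¹ = ⁅g, (x : G)⁆ := (commutatorElement_def _ _).symm
        show g * (x : G) * g⁻¹ * (x : G)⁻¹ ∈ A
        rw [this]
        exact hGA (Subgroup.commutator_mem_commutator (Subgroup.mem_top _) (Subgroup.mem_top _)))
    show ψ ⟨g * x * g⁻¹, hgx⟩ * (μ ⟨g * x * g⁻¹, hgx⟩ : ℂ) = _
    rw [hμeq, hfix g hgA x ⟨_, hgx⟩ rfl]
  have h0 : ∀ x : T, ψ (e0 x) = ψ x := fun x => by
    simpa using main 1 (fun _ _ => rfl) x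
  have h1 : ∀ x : T, (β x : G) * (x : G)⁻¹ ∈ A := by
    intro x
    by_contra hx
    obtain ⟨μ, hμ, hμx⟩ := twist_sep A T hGA (x := e0 x * x⁻¹) hx
    refine hμx ?_
    have hinj := twist_injective A T hAT hψ hθ hres (μ.comp e0) μ
      (fun a ha => hμ _ (hAΓ β hβ a ha)) hμ (fun y => by
        have := main μ hμ y
        rw [h0] at this
        exact this)
    rw [map_mul, map_inv, mul_inv_eq_one]
    exact DFunLike.congr_fun hinj x
  have hx := h1 ⟨n⁻¹ * t * n, by simpa using ‹T.Normal›.conj_mem t ht n⁻¹⟩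
  have e2 : β (n⁻¹ * t * n) = α t := by
    rw [hβdef, MulAut.mul_apply, MulAut.conj_apply]
    congr 1; group
  rw [e2] at hx
  have hc : (n⁻¹ * t * n) * t⁻¹ ∈ A := by
    have : n⁻¹ * t * n * t⁻¹ = ⁅n⁻¹, t⁆ := by rw [commutatorElement_def]; group
    rw [this]
    exact hGA (Subgroup.commutator_mem_commutator (Subgroup.mem_top _) (Subgroup.mem_top _))
  have := A.mul_mem hx hc
  rwa [mul_assoc, ← mul_assoc (n⁻¹ * t * n)⁻¹, inv_mul_cancel, one_mul] at this

end Cfsg.Agent.NonDiv9
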