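import Mathlib
import Cfsg.Agent.Lib.NonDiv9Basic

/-!
The kernel of the Frobenius factor: the quotient by the Hall subgroup is abelian and an element
of order `q` acts fixed point freely on the derived group.
-/

set_option autoImplicit false
open Cfsg

namespace Cfsg.Agent.NonDiv9

open Cfsg.Agent.CharBasic Cfsg.Agent.CharBasicOrth Cfsg.Agent.CharBasicDecomp Cfsg.Agent.CharBasicLinear
open Cfsg.Agent.CharInduced
open scoped commutatorElement

universe u

variable {G : Type u} [Group G] {Γ : Subgroup (MulAut G)} {q f : ℕ}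

theorem exists_separating [Finite G] {c : G} (hc : c ≠ 1) :
    ∃ χ : IrrCharacter G, (χ : G → ℂ) c ≠ (χ : G → ℂ) 1 := by
  classical
  have := Fintype.ofFinite G
  by_contra hh
  push Not at hh
  let F : G → ℂ := fun g => if g = 1 then 1 else 0
  have hF : IsClassFunction G F := fun g x => by simp [F, conj_eq_one_iff]
  have h1 := congrFun (eq_sum_classInner hF) c
  have h2 := congrFun (eq_sum_classInner hF) 1
  simp only [Finset.sum_apply, Pi.smul_apply] at h1 h2
  simp only [hh] at h1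
  rw [← h2] at h1
  simp [F, hc] at h1

theorem commutator_le_of_comm_quotient {M : Subgroup G} [M.Normal]
    (h : ∀ a b : G ⧸ M, a * b = b * a) : commutator G ≤ M := by
  rw [_root_.commutator_def, Subgroup.commutator_le]
  intro a _ b _
  rw [← QuotientGroup.eq_one_iff, ← QuotientGroup.mk'_apply, map_commutatorElement,
    commutatorElement_eq_one_iff_mul_comm]
  exact h _ _

theorem pow_gcd_of {A : Type*} [Monoid A] (x : A) {a b : ℕ} (hab : a.Coprime b) (ha : x ^ a = 1)
    (hb : x ^ b = 1) : x = 1 :=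
  orderOf_eq_one_iff.1 (Nat.eq_one_of_dvd_coprimes hab (orderOf_dvd_of_pow_eq_one ha) (orderOf_dvd_of_pow_eq_one hb))

theorem mul_inv_mem_comm {A : Subgroup G} (hGA : commutator G ≤ A) (a b : G) : ⁅a, b⁆ ∈ A :=
  hGA (Subgroup.commutator_mem_commutator (Subgroup.mem_top a) (Subgroup.mem_top b))

/-- The quotient by the Hall subgroup is abelian. -/
theorem quotient_comm [Fintype G] (h : Ctx Γ q f) (M : Subgroup G) [M.Normal] {j : ℕ}
    (hj : M.index = q ^ j) (hMq : (Nat.card M).Coprime q)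
    (hna : ∃ x ∈ M, ∃ y ∈ M, x * y ≠ y * x) : commutator G ≤ M := by
  classical
  refine commutator_le_of_comm_quotient ?_
  by_contra hQ
  have := Fintype.ofFinite (G ⧸ M)
  obtain ⟨β0, hβ0⟩ : ∃ β0 : IrrCharacter (G ⧸ M), (β0 : G ⧸ M → ℂ) 1 ≠ 1 := by
    by_contra hh
    push Not at hh
    exact hQ (comm_of_forall_apply_one hh)
  obtain ⟨b, -, hb⟩ := isIrrCharacter_apply_one β0.2
  obtain ⟨b', -, hb', hbd⟩ := CharBasicInt.exists_apply_one_dvd_card β0.2
  obtain rfl : b = b' := by exact_mod_cast hb.symm.trans hb'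
  have hqj : Nat.card (G ⧸ M) = q ^ j := hj
  obtain ⟨i, -, rfl⟩ := (Nat.dvd_prime_pow h.prime).1 (hqj ▸ hbd)
  have hi : q ^ i ≠ 1 := fun e => hβ0 (by rw [hb, e, Nat.cast_one])
  set π := QuotientGroup.mk' M with hπ
  have hβ : IsIrrCharacter G ((β0 : G ⧸ M → ℂ) ∘ π) :=
    isIrrCharacter_comap π (QuotientGroup.mk'_surjective M) β0.2
  -- a nonlinear character of `M`
  have := Fintype.ofFinite M
  obtain ⟨θ, hθ1⟩ : ∃ θ : IrrCharacter M, (θ : M → ℂ) 1 ≠ 1 := by
    by_contra hh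
    push Not at hh
    obtain ⟨x, hx, y, hy, hxy⟩ := hna
    exact hxy (congrArg Subtype.val (comm_of_forall_apply_one hh ⟨x, hx⟩ ⟨y, hy⟩))
  obtain ⟨d, -, hd, hdM⟩ := CharBasicInt.exists_apply_one_dvd_card θ.2
  have hd1 : d ≠ 1 := fun e => hθ1 (by rw [hd, e, Nat.cast_one])
  set T := inertia M (θ : M → ℂ) with hTdef
  have := Fintype.ofFinite T
  have hMT : M ≤ T := le_inertia M (isClassFunction_irr θ.2)
  have hrel : M.relIndex T ∣ q ^ j := hj ▸ Subgroup.relIndex_dvd_index_of_normal M T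
  obtain ⟨ψ, hψ, hres, -⟩ := exists_ext M T hMT θ.2 hd le_rfl (by
    refine Nat.Coprime.coprime_dvd_left hrel ?_
    refine Nat.Coprime.pow_left _ ?_
    exact Nat.Coprime.symm (Nat.Coprime.mul_left
      (hMq.coprime_dvd_left (GlaubermanCyclic.detOrder_dvd_card (isCharacter_of_isIrrCharacter θ.2)))
      (hMq.coprime_dvd_left hdM)))
  set Tb := T.map π with hTb
  have := Fintype.ofFinite Tb
  obtain ⟨δ0, hδ0, hδne⟩ := H74ThreeDeg.exists_const
    (isCharacter_res Tb (isCharacter_of_isIrrCharacter β0.2))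
    (by simpa using isIrrCharacter_apply_one_ne_zero β0.2)
  obtain ⟨k, -, hk, hkd⟩ := CharBasicInt.exists_apply_one_dvd_card hδ0
  have hcomap : Tb.comap π = T := by
    rw [hTb, Subgroup.comap_map_eq, QuotientGroup.ker_mk', sup_eq_left.2 hMT]
  have hidx : Tb.index = T.index := by
    rw [← hcomap, Subgroup.index_comap_of_surjective _ (QuotientGroup.mk'_surjective M)]
  have hle : q ^ i ≤ T.index * k := by
    obtain ⟨s, hs⟩ : ∃ s : ℕ, classInner (fun x : Tb => (β0 : G ⧸ M → ℂ) x) δ0 = s :=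
      coeff_nat (isCharacter_res Tb (isCharacter_of_isIrrCharacter β0.2)) hδ0
    have hcI := isCharacter_ind Tb (isCharacter_of_isIrrCharacter hδ0)
    have hne : classInner (indFun Tb δ0) (β0 : G ⧸ M → ℂ) ≠ 0 := by
      rw [inner_ind_left Tb _ (isClassFunction_irr β0.2), ← CharInduced.inner_conj_symm]
      simpa using hδne
    obtain ⟨m, hm⟩ := isCharacter_apply_one (isCharacter_sub_constituent hcI β0.2 hne)
    rw [Pi.sub_apply, ind_one_apply, hk, hb, hidx, sub_eq_iff_eq_add] at hm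
    have : T.index * k = m + q ^ i := by exact_mod_cast hm
    omega
  let πT : T →* Tb := π.subgroupMap T
  have hπT : Function.Surjective πT := π.subgroupMap_surjective T
  have hδ : IsIrrCharacter T (δ0 ∘ πT) := isIrrCharacter_comap πT hπT hδ0
  have hδ1 : (δ0 ∘ πT) (1 : T) = (k : ℂ) := by rw [Function.comp_apply, map_one, hk]
  have hδM : ∀ a : M.subgroupOf T, (δ0 ∘ πT) a = (δ0 ∘ πT) 1 := fun a => by
    rw [Function.comp_apply, Function.comp_apply]
    congr 1
    rw [map_one]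
    exact Subtype.ext ((QuotientGroup.eq_one_iff _).2 a.2)
  have := Fintype.ofFinite (M.subgroupOf T)
  have hξ : IsIrrCharacter T ((δ0 ∘ πT) * ψ) := ((CharGallagher.bijOn_one (M.subgroupOf T)
    (isIrrCharacter_toSubgroupOf M T hMT θ.2) hψ (fun a => by
      rw [toSubgroupOf_eq_comp M T hMT]
      exact hres (Subgroup.subgroupOfEquivOfLe hMT a))).mapsTo (x := δ0 ∘ πT) ⟨hδ, hδM⟩).1
  have hξM : (fun a : M => ((δ0 ∘ πT) * ψ) ⟨a, hMT a.2⟩) = (k : ℂ) • (θ : M → ℂ) := funext fun a => by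
    rw [Pi.mul_apply, hres a, hδM ⟨⟨a, hMT a.2⟩, a.2⟩, hδ1, Pi.smul_apply, smul_eq_mul]
  have hX := ind_inertia_irr M T hMT θ.2 (fun g => Iff.rfl) hξ (by
    rw [hξM, classInner_smul_left, classInner_irr_self θ.2, mul_one]
    exact_mod_cast fun e : k = 0 => isIrrCharacter_apply_one_ne_zero hδ0 (by rw [hk, e, Nat.cast_zero]))
  have hX1 : indFun T ((δ0 ∘ πT) * ψ) 1 = ((T.index * k * d : ℕ) : ℂ) := by
    rw [ind_one_apply, Pi.mul_apply, hδ1, show ψ 1 = (d : ℂ) from (hres 1).trans hd, Nat.cast_mul,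
      Nat.cast_mul, mul_assoc]
  obtain ⟨l, -, hl⟩ : ∃ l ≤ j + j, T.index * k = q ^ l := by
    refine (Nat.dvd_prime_pow h.prime).1 (pow_add q j j ▸ Nat.mul_dvd_mul ?_ ?_)
    · exact hj ▸ Subgroup.index_dvd_of_le hMT
    · exact hkd.trans (hqj ▸ Subgroup.card_subgroup_dvd_card Tb)
  have hil : i ≤ l := (Nat.pow_le_pow_iff_right h.prime.one_lt).1 (hl ▸ hle)
  have := h.nd _ _ hβ hX (q ^ i) (T.index * k * d)
    (by rw [Function.comp_apply, map_one, hb]) hX1 hi
    (fun e => hd1 (Nat.eq_one_of_mul_eq_one_left e))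
    (hl ▸ (pow_dvd_pow q hil).mul_right d)
  refine hd1 (Nat.eq_one_of_dvd_coprimes (hMq.symm.pow_left i) ?_ hdM)
  exact this ▸ dvd_mul_left d _

/-- An element of order `q` acting without fixed points on the derived group. -/
theorem exists_fpf [Fintype G] (h : Ctx Γ q f) (M : Subgroup G) [M.Normal] {j : ℕ}
    (hj : M.index = q ^ j) (hMq : (Nat.card M).Coprime q) (hGM : commutator G ≤ M)
    (K : Subgroup G) [K.Normal] {k : ℕ} (hK : K.index = q ^ k)
    (hmove : ∃ α ∈ Γ, ∃ x : G, α x * x⁻¹ ∉ K) :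
    ∃ r : G, r ^ q = 1 ∧ (∃ α ∈ Γ, α r * r⁻¹ ∉ M) ∧ ∀ l ∈ commutator G, r * l = l * r → l = 1 := by
  classical
  have := Fintype.ofFinite M
  have hq := h.prime
  -- `M ≤ K` and `M` is invariant
  have hmemM : ∀ x : G, x ∈ M ↔ (orderOf x).Coprime q := fun x => by
    refine ⟨fun hx => ?_, fun hx => ?_⟩
    · have h1 : orderOf (⟨x, hx⟩ : M) ∣ Nat.card M := orderOf_dvd_natCard _
      rw [Subgroup.orderOf_mk] at h1
      exact hMq.coprime_dvd_left h1
    · refine (QuotientGroup.eq_one_iff x).1 (orderOf_eq_one_iff.1 ?_)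
      refine Nat.eq_one_of_dvd_coprimes (hx.pow_right j) (orderOf_map_dvd (QuotientGroup.mk' M) x) ?_
      exact hj ▸ orderOf_dvd_natCard (x : G ⧸ M)
  have hMΓ : ∀ α ∈ Γ, ∀ a ∈ M, α a ∈ M := fun α _ a ha =>
    (hmemM _).2 (by rw [MulEquiv.orderOf_eq]; exact (hmemM a).1 ha)
  have hMK : M ≤ K := fun x hx => by
    refine (QuotientGroup.eq_one_iff x).1 (orderOf_eq_one_iff.1 ?_)
    refine Nat.eq_one_of_dvd_coprimes (((hmemM x).1 hx).pow_right k) (orderOf_map_dvd (QuotientGroup.mk' K) x) ?_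
    exact hK ▸ orderOf_dvd_natCard (x : G ⧸ K)
  set π := QuotientGroup.mk' M with hπ
  let _ : CommGroup (G ⧸ M) := { (inferInstance : Group (G ⧸ M)) with
    mul_comm := fun a b => by
      induction a using QuotientGroup.induction_on with
      | H a =>
        induction b using QuotientGroup.induction_on with
        | H b =>
          rw [← commutatorElement_eq_one_iff_mul_comm, ← QuotientGroup.mk'_apply,
            ← QuotientGroup.mk'_apply, ← map_commutatorElement]
          exact (QuotientGroup.eq_one_iff _).2 (mul_inv_mem_comm hGM a b) }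
  have hπM : ∀ x : G, π x = 1 ↔ x ∈ M := fun x => QuotientGroup.eq_one_iff x
  -- an element with `q`-th power in `M` that is moved
  obtain ⟨y, hy, α0, hα0, hy0⟩ : ∃ y : G, y ^ q ∈ M ∧ ∃ α ∈ Γ, α y * y⁻¹ ∉ M := by
    by_contra hh
    push Not at hh
    obtain ⟨α, hα, x, hx⟩ := hmove
    refine hx (hMK ?_)
    have key : ∀ (i : ℕ) (x : G), x ^ q ^ i ∈ M → ∀ α ∈ Γ, α x * x⁻¹ ∈ M := by
      intro i
      induction i with
      | zero =>
        intro x hx α hα
        rw [pow_zero, pow_one] at hx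
        exact mul_mem (hMΓ α hα x hx) (inv_mem hx)
      | succ i ih =>
        intro x hx α hα
        show α x * x⁻¹ ∈ M
        obtain ⟨z, hz⟩ : ∃ z, z = α x * x⁻¹ := ⟨_, rfl⟩
        rw [← hz]
        have hzq : π z ^ q = 1 := by
          have h1 := (hπM _).2 (ih (x ^ q) (by rw [← pow_mul, ← pow_succ']; exact hx) α hα)
          rw [map_mul, map_inv, map_pow, map_pow] at h1
          rw [hz, map_mul, map_inv, mul_pow, inv_pow, ← map_pow, ← map_pow, map_pow, map_pow]
          exact h1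
        have hzfix : ∀ β ∈ Γ, π (β z) = π z := fun β hβ => by
          have h1 := (hπM _).2 (hh z ((hπM _).1 (by rw [map_pow]; exact hzq)) β hβ)
          rwa [map_mul, map_inv, mul_inv_eq_one] at h1
        have hpow : ∀ m : ℕ, π ((α ^ m) x) = π z ^ m * π x := by
          intro m
          induction m with
          | zero => simp
          | succ m ihm =>
            have h1 : π ((α ^ m) x * (z ^ m * x)⁻¹) = 1 := by
              rw [map_mul, map_inv, map_mul, map_pow, ihm, mul_inv_cancel]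
            have h2 := (hπM _).2 (hMΓ α hα _ ((hπM _).1 h1))
            simp only [map_mul, map_inv, map_pow] at h2
            rw [mul_inv_eq_one] at h2
            rw [pow_succ', MulAut.mul_apply, h2, hzfix α hα, show α x = z * x by rw [hz, inv_mul_cancel_right],
              map_mul, pow_succ, mul_assoc]
        obtain ⟨n, hn⟩ := h.powf α hα
        have hf : π z ^ f = 1 := by
          have h1 := hpow f
          rw [hn, MulAut.conj_apply, map_mul, map_mul, map_inv, mul_comm (π n), mul_inv_cancel_right] at h1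
          exact (mul_eq_right.1 h1.symm)
        exact (hπM z).1 (pow_gcd_of (π z) h.copfq hf hzq)
    exact key j x (by
      refine (hπM _).1 ?_
      rw [map_pow, ← hj]
      exact pow_card_eq_one') α hα
  set r := y ^ Nat.card M with hr
  have hrq : r ^ q = 1 := by
    rw [hr, ← pow_mul, mul_comm, pow_mul]
    have := pow_card_eq_one' (G := M) (x := ⟨y ^ q, hy⟩)
    exact congrArg Subtype.val this
  have hr0 : α0 r * r⁻¹ ∉ M := by
    intro hh
    refine hy0 ((hπM _).1 ?_)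
    have h1 : π (α0 y * y⁻¹) ^ Nat.card M = 1 := by
      rw [← (hπM _).2 hh, hr, map_pow, map_mul, map_mul, map_inv, map_inv, map_pow, map_pow, mul_pow, inv_pow]
    have h2 : π (α0 y * y⁻¹) ^ q = 1 := by
      rw [map_mul, map_inv, mul_pow, inv_pow, ← map_pow, ← map_pow, ← map_pow,
        (hπM _).2 (hMΓ α0 hα0 _ hy), (hπM _).2 hy, inv_one, mul_one]
    exact pow_gcd_of _ hMq h1 h2
  refine ⟨r, hrq, ⟨α0, hα0, hr0⟩, fun l hl hlr => ?_⟩
  -- characters fixed by `r`
  set L := commutator G with hL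
  set C : Subgroup G := M ⊓ Subgroup.centralizer ({r} : Set G) with hC
  have := Fintype.ofFinite C
  have hord : orderOf r ∣ q := orderOf_dvd_of_pow_eq_one hrq
  have hcopM : (Nat.card M).Coprime (orderOf r) := hMq.coprime_dvd_right hord
  have htriv : ∀ θ : IrrCharacter M,
      (∀ g : M, (θ : M → ℂ) ⟨r * g * r⁻¹, ‹M.Normal›.conj_mem g g.2 r⟩ = (θ : M → ℂ) g) →
      ∀ a : M, (a : G) ∈ L → (θ : M → ℂ) a = (θ : M → ℂ) 1 := by
    intro θ hfix a ha
    by_contra hne
    obtain ⟨d, -, hd, hdM⟩ := CharBasicInt.exists_apply_one_dvd_card θ.2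
    set T := inertia M (θ : M → ℂ) with hTdef
    have := Fintype.ofFinite T
    have hMT : M ≤ T := le_inertia M (isClassFunction_irr θ.2)
    obtain ⟨ψ, hψ, hres, -⟩ := exists_ext M T hMT θ.2 hd le_rfl (by
      refine Nat.Coprime.coprime_dvd_left (hj ▸ Subgroup.relIndex_dvd_index_of_normal M T) ?_
      refine Nat.Coprime.pow_left _ (Nat.Coprime.symm (Nat.Coprime.mul_left
        (hMq.coprime_dvd_left (GlaubermanCyclic.detOrder_dvd_card (isCharacter_of_isIrrCharacter θ.2)))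
        (hMq.coprime_dvd_left hdM))))
    refine hr0 (central h M T hGM hMT hMΓ θ.2 (NL.of_ne_on_commutator θ.2 ha hne) ?_ hψ hres ?_ hα0
      ((mem_inertia_iff M).2 hfix))
    · intro β hβ hβθ t ht
      rw [hTdef, mem_inertia_iff] at ht ⊢
      intro b
      have hb : β.symm b ∈ M := (hmemM _).2 (by rw [MulEquiv.orderOf_eq]; exact (hmemM b).1 b.2)
      set b' : M := ⟨β.symm b, hb⟩
      have hc : t * (b' : G) * t⁻¹ ∈ M := ‹M.Normal›.conj_mem b' b'.2 t
      rw [hβθ ⟨_, hc⟩ ⟨β t * b * (β t)⁻¹, ‹M.Normal›.conj_mem b b.2 _⟩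
        (by simp [b', map_mul, map_inv]), ht b', hβθ b' b (by simp [b'])]
    · intro n hn t s hs
      rw [show s = (⟨n, hn⟩ : T) * t * (⟨n, hn⟩ : T)⁻¹ from Subtype.ext hs]
      exact isClassFunction_irr hψ _ _
  have hcover : ∀ m : M, ∃ c : C, (c : G)⁻¹ * m ∈ L := by
    intro m
    have hLM : L ≤ M := hGM
    haveI : L.Normal := inferInstance
    obtain ⟨c, hc, hcm⟩ := CoprimeAction.exists_fixed_mem_coset_zpowers (a := r) (D := L)
      (by simp [Subgroup.normalizer_eq_top])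
      ((hcopM.coprime_dvd_left (Subgroup.card_dvd_of_le hLM)).symm) (m : G)
      (by
        rw [show (m : G)⁻¹ * r * m * r⁻¹ = ⁅(m : G)⁻¹, r⁆ by rw [commutatorElement_def]; group]
        exact mul_inv_mem_comm le_rfl _ _)
    refine ⟨⟨c, ⟨?_, Subgroup.mem_centralizer_singleton_iff.2 hc.symm⟩⟩, ?_⟩
    · have := mul_mem m.2 (hLM hcm)
      rwa [mul_inv_cancel_left] at this
    · have := inv_mem hcm
      rwa [mul_inv_rev, inv_inv] at this
  let Fx := {θ : IrrCharacter M //
    ∀ g : M, (θ : M → ℂ) ⟨r * g * r⁻¹, ‹M.Normal›.conj_mem g g.2 r⟩ = (θ : M → ℂ) g}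
  have hlin : ∀ θ : Fx, ∃ μ : M →* ℂˣ, ((θ.1 : IrrCharacter M) : M → ℂ) = (fun a => (μ a : ℂ)) ∧
      ∀ a : M, (a : G) ∈ L → μ a = 1 := by
    intro θ
    have h1 : ((θ.1 : IrrCharacter M) : M → ℂ) 1 = 1 := apply_one_of_comm_ker θ.1.2 fun a b =>
      htriv θ.1 θ.2 ⁅a, b⁆ (mul_inv_mem_comm le_rfl (a : G) (b : G))
    obtain ⟨μ, hμ⟩ := exists_hom_of_apply_one_eq_one (isCharacter_of_isIrrCharacter θ.1.2) h1
    refine ⟨μ, hμ, fun a ha => Units.ext ?_⟩
    have := htriv θ.1 θ.2 a ha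
    rw [hμ] at this
    simpa using this
  choose μ hμ hμL using hlin
  by_contra hl1
  have hlC : l ∈ C := ⟨hGM hl, Subgroup.mem_centralizer_singleton_iff.2 hlr.symm⟩
  let F : Fx → IrrCharacter C := fun θ =>
    ⟨_, isIrrCharacter_linear ((μ θ).comp (Subgroup.inclusion (inf_le_left : C ≤ M)))⟩
  have hFl : ∀ θ : Fx, (F θ : C → ℂ) ⟨l, hlC⟩ = (F θ : C → ℂ) 1 := fun θ => by
    show ((μ θ) _ : ℂ) = ((μ θ) _ : ℂ)
    rw [hμL θ _ (show ((Subgroup.inclusion (inf_le_left : C ≤ M) ⟨l, hlC⟩ : M) : G) ∈ L from hl),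
      map_one, map_one]
  have hF : Function.Injective F := by
    intro θ θ' e
    refine Subtype.ext (Subtype.ext (funext fun m => ?_))
    obtain ⟨c, hc⟩ := hcover m
    have e1 := congrFun (congrArg Subtype.val e) c
    change ((μ θ) _ : ℂ) = ((μ θ') _ : ℂ) at e1
    set c' : M := Subgroup.inclusion (inf_le_left : C ≤ M) c
    have hm : m = c' * (c'⁻¹ * m) := (mul_inv_cancel_left _ _).symm
    rw [hμ θ, hμ θ']
    show ((μ θ) m : ℂ) = ((μ θ') m : ℂ)
    rw [hm, map_mul (μ θ) c' (c'⁻¹ * m), map_mul (μ θ') c' (c'⁻¹ * m), hμL θ (c'⁻¹ * m) hc,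
      hμL θ' (c'⁻¹ * m) hc, mul_one, mul_one]
    exact e1
  obtain ⟨χ, hχ⟩ := exists_separating (c := (⟨l, hlC⟩ : C)) (fun e => hl1 (congrArg Subtype.val e))
  haveI : Finite (IrrCharacter C) := finite_irrCharacter
  have hcard : Nat.card Fx = Nat.card (IrrCharacter C) :=
    GlaubermanCyclic.card_invariant (G := M) hcopM hC
  obtain ⟨θ, hθ⟩ := (hF.bijective_of_nat_card_le hcard.ge).2 χ
  exact hχ (hθ ▸ hFl θ)

end Cfsg.Agent.NonDiv9
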