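import Mathlib
import Cfsg.Agent.Lib.NonDiv9Hall

/-!
All nontrivial linear characters of the derived group have one stabilizer.
-/

set_option autoImplicit false
open Cfsg

namespace Cfsg.Agent.NonDiv9

open Cfsg.Agent.CharBasic Cfsg.Agent.CharBasicOrth Cfsg.Agent.CharBasicDecomp Cfsg.Agent.CharBasicLinear
open Cfsg.Agent.CharInduced
open scoped commutatorElement

universe u

variable {G : Type u} [Group G] {Γ : Subgroup (MulAut G)} {q f : ℕ}

/-- A linear character as a complex function. -/
def lc {A : Subgroup G} (lam : A →* ℂˣ) : A → ℂ := fun a => (lam a : ℂ)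

theorem mem_inertia_lc {A : Subgroup G} [A.Normal] {lam : A →* ℂˣ} {x : G} :
    x ∈ inertia A (lc lam) ↔ ∀ a : A, lam (MulAut.conjNormal x a) = lam a := by
  rw [mem_inertia_iff]
  refine forall_congr' fun a => ?_
  rw [show MulAut.conjNormal x a = (⟨x * a * x⁻¹, ‹A.Normal›.conj_mem a a.2 x⟩ : A) from
    Subtype.ext (MulAut.conjNormal_apply x a)]
  exact ⟨fun e => Units.ext e, fun e => congrArg Units.val e⟩

theorem fix_lc {A : Subgroup G} {lam : A →* ℂˣ} {α : MulAut G} :
    Fix α (lc lam) ↔ ∀ a b : A, (b : G) = α a → lam b = lam a :=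
  ⟨fun h a b e => Units.ext (h a b e), fun h a b e => congrArg Units.val (h a b e)⟩

theorem commutator_invariant (α : MulAut G) {x : G} (hx : x ∈ commutator G) : α x ∈ commutator G :=
  (Subgroup.characteristic_iff_map_le.1 inferInstance α) ⟨x, hx, rfl⟩

theorem nl_linear [Fintype G] (lam : (commutator G) →* ℂˣ) [Fintype (commutator G)] (hlam : lam ≠ 1) :
    NL (lc lam) := by
  obtain ⟨a, ha⟩ : ∃ a, lam a ≠ 1 := by
    by_contra hh; push Not at hh; exact hlam (MonoidHom.ext hh)
  refine NL.of_ne_on_commutator (isIrrCharacter_linear lam) a.2 fun e => ha (Units.ext ?_)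
  simpa [lc] using e

/-- The data on one nontrivial linear character of the derived group. -/
theorem linear_data [Fintype G] (h : Ctx Γ q f) {r : G}
    (hcover : ∀ g : G, ∃ b, r * b = b * r ∧ g * b⁻¹ ∈ commutator G)
    (hfree : ∀ l ∈ commutator G, r * l = l * r → l = 1)
    [Fintype (commutator G)] (lam : (commutator G) →* ℂˣ) (hlam : lam ≠ 1) :
    r ∉ inertia (commutator G) (lc lam) ∧
    (∀ χ : G → ℂ, IsIrrCharacter G χ → classInner (fun a : commutator G => χ a) (lc lam) ≠ 0 →
      χ 1 = ((inertia (commutator G) (lc lam)).index : ℂ)) ∧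
    (∀ α ∈ Γ, ∀ t ∈ inertia (commutator G) (lc lam), α t * t⁻¹ ∈ commutator G) := by
  classical
  have hθ : IsIrrCharacter (commutator G) (lc lam) := isIrrCharacter_linear lam
  set T := inertia (commutator G) (lc lam) with hT
  have := Fintype.ofFinite T
  have hLT : (commutator G) ≤ T := le_inertia (commutator G) (isClassFunction_irr hθ)
  have hfixT : ∀ x ∈ T, ∀ a : (commutator G), lam (MulAut.conjNormal x a) = lam a := fun x hx => mem_inertia_lc.1 hx
  refine ⟨fun hr => hlam (MonoidHom.ext fun a => ?_), ?_⟩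
  · let m : (commutator G) → (commutator G) := fun a => MulAut.conjNormal r a * a⁻¹
    have hm : Function.Injective m := by
      intro a b e
      have e1 : MulAut.conjNormal r (b⁻¹ * a) = b⁻¹ * a := by
        have e2 : MulAut.conjNormal r a * a⁻¹ = MulAut.conjNormal r b * b⁻¹ := e
        rw [map_mul, map_inv, inv_mul_eq_iff_eq_mul, ← mul_assoc, ← e2, inv_mul_cancel_right]
      have e3 := hfree _ (b⁻¹ * a).2 (mul_inv_eq_iff_eq_mul.1 ((MulAut.conjNormal_apply r _).symm.trans (congrArg Subtype.val e1)))
      exact (inv_mul_eq_one.1 (Subtype.ext e3)).symm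
    obtain ⟨b, rfl⟩ := (Finite.injective_iff_surjective.1 hm) a
    show lam (MulAut.conjNormal r b * b⁻¹) = 1
    rw [map_mul, map_inv, hfixT r hr b, mul_inv_cancel]
  -- the extension of `lam`
  choose β hβ hβL using hcover
  have hβu : ∀ g b : G, r * b = b * r → g * b⁻¹ ∈ (commutator G) → β g = b := by
    intro g b hb hgb
    have h1 : β g * b⁻¹ ∈ (commutator G) := by
      have := mul_mem (inv_mem (hβL g)) hgb
      rwa [mul_inv_rev, inv_inv, mul_assoc, inv_mul_cancel_left] at this
    have h2 : r * b⁻¹ = b⁻¹ * r := (Commute.inv_right (show Commute r b from hb)).eq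
    exact mul_inv_eq_one.1 (hfree _ h1 (by rw [← mul_assoc, hβ g, mul_assoc, h2, ← mul_assoc]))
  have hβmul : ∀ g g' : G, β (g * g') = β g * β g' := fun g g' => hβu _ _
    (by rw [← mul_assoc, hβ, mul_assoc, hβ, ← mul_assoc]) (by
      have h1 : g * g' * (β g * β g')⁻¹ = g * (g' * (β g')⁻¹) * g⁻¹ * (g * (β g)⁻¹) := by group
      rw [h1]
      exact mul_mem ((inferInstance : (commutator G).Normal).conj_mem _ (hβL g') g) (hβL g))
  let lh : T →* ℂˣ :=
    { toFun := fun t => lam ⟨(t : G) * (β t)⁻¹, hβL t⟩
      map_one' := by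
        have h1 : β 1 = 1 := hβu 1 1 (by simp) (by simp [one_mem])
        rw [← map_one lam]
        exact congrArg lam (Subtype.ext (by simp [h1]))
      map_mul' := fun t s => by
        have hβT : β (t : G) ∈ T := by
          have h2 := mul_mem (inv_mem (hLT (hβL (t : G)))) t.2
          rwa [mul_inv_rev, inv_inv, inv_mul_cancel_right] at h2
        rw [← hfixT _ hβT ⟨(s : G) * (β s)⁻¹, hβL s⟩, ← map_mul]
        exact congrArg lam (Subtype.ext (by
          simp only [Subgroup.coe_mul, MulAut.conjNormal_apply, hβmul]; group)) }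
  have hlh : ∀ a : (commutator G), lh ⟨a, hLT a.2⟩ = lam a := fun a => by
    have h1 : β (a : G) = 1 := hβu _ 1 (by simp) (by simp)
    exact congrArg lam (Subtype.ext (by simp [h1]))
  have hψ : IsIrrCharacter T (fun t => (lh t : ℂ)) := isIrrCharacter_linear lh
  have hres : ∀ a : (commutator G), (fun t : T => (lh t : ℂ)) ⟨a, hLT a.2⟩ = lc lam a := fun a => congrArg Units.val (hlh a)
  refine ⟨fun χ hχ hc => ?_, fun α hα t ht => ?_⟩
  · obtain ⟨ξ, hξ, hind, hξres⟩ := CharInduced.exists_inertia_constituent (commutator G) T hLT hθ (fun g => Iff.rfl) hχ hc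
    have := Fintype.ofFinite ((commutator G).subgroupOf T)
    obtain ⟨δ, ⟨hδ, hδL⟩, rfl⟩ := (CharGallagher.bijOn_one ((commutator G).subgroupOf T)
      (isIrrCharacter_toSubgroupOf (commutator G) T hLT hθ) hψ (fun a => by
        rw [toSubgroupOf_eq_comp (commutator G) T hLT]
        exact hres (Subgroup.subgroupOfEquivOfLe hLT a))).surjOn ⟨hξ, by
      rw [toSubgroupOf_eq_comp (commutator G) T hLT]
      have := classInner_congr_equiv (G := (commutator G)) (Subgroup.subgroupOfEquivOfLe hLT) (fun n : (commutator G) => ξ ⟨n, hLT n.2⟩) (lc lam)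
      exact this.trans_ne (hξres ▸ hc)⟩
    have hδ1 : δ 1 = 1 := apply_one_of_comm_ker hδ fun a b =>
      hδL ⟨⁅a, b⁆, mul_inv_mem_comm le_rfl (a : G) (b : G)⟩
    rw [← hind, ind_one_apply]; simp only [Pi.mul_apply]; rw [hδ1, one_mul, map_one, Units.val_one, mul_one]
  · refine central h (commutator G) T le_rfl hLT (fun α _ a ha => commutator_invariant α ha) hθ (nl_linear lam hlam)
      ?_ hψ hres ?_ hα ht
    · intro γ hγ hγfix x hx
      rw [hT, mem_inertia_iff] at hx ⊢
      intro b
      have hb : γ.symm b ∈ (commutator G) := commutator_invariant γ.symm b.2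
      set b' : (commutator G) := ⟨γ.symm b, hb⟩
      have hc : x * (b' : G) * x⁻¹ ∈ (commutator G) := (inferInstance : (commutator G).Normal).conj_mem b' b'.2 x
      rw [hγfix ⟨_, hc⟩ ⟨γ x * b * (γ x)⁻¹, (inferInstance : (commutator G).Normal).conj_mem b b.2 _⟩
        (by simp [b', map_mul, map_inv]), hx b', hγfix b' b (by simp [b'])]
    · intro n hn t s hs
      rw [show s = (⟨n, hn⟩ : T) * t * (⟨n, hn⟩ : T)⁻¹ from Subtype.ext hs]
      exact isClassFunction_irr hψ _ _

/-- All nontrivial linear characters have the same stabilizer. -/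
theorem linear_stab [Fintype G] (h : Ctx Γ q f) {r : G}
    (hcover : ∀ g : G, ∃ b, r * b = b * r ∧ g * b⁻¹ ∈ commutator G)
    (hfree : ∀ l ∈ commutator G, r * l = l * r → l = 1)
    [Fintype (commutator G)] (lam mu : (commutator G) →* ℂˣ) (hlam : lam ≠ 1) (hmu : mu ≠ 1) :
    inertia (commutator G) (lc lam) = inertia (commutator G) (lc mu) := by
  classical
  have D := fun (nu : (commutator G) →* ℂˣ) hn => linear_data h hcover hfree nu hn
  have anti : ∀ a b : (commutator G) →* ℂˣ, a ≠ 1 → b ≠ 1 →
      inertia (commutator G) (lc a) ≤ inertia (commutator G) (lc b) → inertia (commutator G) (lc a) = inertia (commutator G) (lc b) := by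
    intro a b ha hb hle
    obtain ⟨χ, hχ, hc⟩ := H74ThreeDeg.exists_over (commutator G) (θ := lc a) (isIrrCharacter_linear a)
    obtain ⟨ψ, hψ, hd⟩ := H74ThreeDeg.exists_over (commutator G) (θ := lc b) (isIrrCharacter_linear b)
    have hne : ∀ c : (commutator G) →* ℂˣ, c ≠ 1 → (inertia (commutator G) (lc c)).index ≠ 1 := fun c hc e =>
      (D c hc).1 (Subgroup.index_eq_one.1 e ▸ Subgroup.mem_top r)
    have := h.nd _ _ hψ hχ _ _ ((D b hb).2.1 ψ hψ hd) ((D a ha).2.1 χ hχ hc) (hne b hb) (hne a ha)
      (Subgroup.index_dvd_of_le hle)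
    refine le_antisymm hle fun x hx => ?_
    have h1 := Subgroup.relIndex_mul_index hle
    rw [this] at h1
    exact Subgroup.relIndex_eq_one.1 (mul_left_eq_self₀.1 h1 |>.resolve_right (Subgroup.index_ne_zero_of_finite)) hx
  by_cases hprod : lam * mu = 1
  · have hm : ∀ a, mu a = (lam a)⁻¹ := fun a =>
      eq_inv_of_mul_eq_one_right (DFunLike.congr_fun hprod a)
    ext x
    rw [mem_inertia_lc, mem_inertia_lc]
    exact forall_congr' fun a => by rw [hm, hm, inv_inj]
  have hle : ∀ a b : (commutator G) →* ℂˣ, a ≠ 1 → b ≠ 1 → a * b ≠ 1 → inertia (commutator G) (lc a) ≤ inertia (commutator G) (lc b) := by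
    intro a b ha hb hab
    by_contra hne
    have hsub : inertia (commutator G) (lc (a * b)) ≤ inertia (commutator G) (lc a) ⊓ inertia (commutator G) (lc b) := by
      intro x hx
      have hab' := mem_inertia_lc.1 hx
      set η : (commutator G) →* ℂˣ := a.comp (MulAut.conjNormal x).toMonoidHom * a⁻¹ with hη
      have hη1 : ∀ l : (commutator G), η l = a (MulAut.conjNormal x l) * (a l)⁻¹ := fun l => rfl
      have hη2 : ∀ l : (commutator G), η l = (b (MulAut.conjNormal x l))⁻¹ * b l := fun l => by
        have := hab' l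
        rw [MonoidHom.mul_apply, MonoidHom.mul_apply] at this
        rw [hη1, eq_inv_mul_iff_mul_eq, mul_comm (b _), mul_right_comm, this, mul_right_comm,
          mul_inv_cancel, one_mul]
      by_cases hη0 : η = 1
      · refine ⟨mem_inertia_lc.2 fun l => ?_, mem_inertia_lc.2 fun l => ?_⟩
        · have := hη1 l
          rw [hη0, MonoidHom.one_apply, eq_comm, mul_inv_eq_one] at this
          exact this
        · have := hη2 l
          rw [hη0, MonoidHom.one_apply, eq_comm, inv_mul_eq_one] at this
          exact this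
      exfalso
      -- `η` is fixed by both stabilizers
      have hcl : ∀ (c : (commutator G) →* ℂˣ) (y : G), y ∈ inertia (commutator G) (lc c) → ∀ l : (commutator G),
          c (MulAut.conjNormal x (MulAut.conjNormal y l)) = c (MulAut.conjNormal x l) := by
        intro c y hy l
        have hk : ⁅x, y⁆ ∈ inertia (commutator G) (lc c) := le_inertia (commutator G) (isClassFunction_irr (isIrrCharacter_linear c))
          (mul_inv_mem_comm le_rfl x y)
        have e : MulAut.conjNormal x (MulAut.conjNormal y l) =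
            MulAut.conjNormal (⁅x, y⁆ * y) (MulAut.conjNormal x l) := by
          rw [← MulAut.mul_apply, ← map_mul, ← MulAut.mul_apply, ← map_mul]
          congr 2
          rw [commutatorElement_def]; group
        rw [e]
        exact mem_inertia_lc.1 (mul_mem hk hy) _
      have h1 : inertia (commutator G) (lc a) ≤ inertia (commutator G) (lc η) := fun y hy => mem_inertia_lc.2 fun l => by
        rw [hη1, hη1, hcl a y hy l, mem_inertia_lc.1 hy l]
      have h2 : inertia (commutator G) (lc b) ≤ inertia (commutator G) (lc η) := fun y hy => mem_inertia_lc.2 fun l => by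
        rw [hη2, hη2, hcl b y hy l, mem_inertia_lc.1 hy l]
      exact hne ((anti a η ha hη0 h1).trans (anti b η hb hη0 h2).symm).le
    exact hne (((anti _ _ hab ha (hsub.trans inf_le_left)).symm.le.trans hsub).trans inf_le_right)
  exact le_antisymm (hle lam mu hlam hmu hprod) (hle mu lam hmu hlam (mul_comm lam mu ▸ hprod))

end Cfsg.Agent.NonDiv9
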