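import Mathlib
import Cfsg.Agent.Lib.NonDiv9Linear

/-!
Tools for a chief factor below the derived group of the kernel: a central series step, orbit
counting on linear characters, and the characters over a character of the chief factor.
-/

set_option autoImplicit false
open Cfsg

namespace Cfsg.Agent.NonDiv9

open Cfsg.Agent.CharBasic Cfsg.Agent.CharBasicOrth Cfsg.Agent.CharBasicDecomp Cfsg.Agent.CharBasicLinear
open Cfsg.Agent.CharInduced
open scoped commutatorElement

universe u

variable {G : Type u} [Group G]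

theorem subgroupOf_commutator (L : Subgroup G) : (⁅L, L⁆ : Subgroup G).subgroupOf L = commutator L := by
  rw [← Subgroup.map_subtype_commutator, Subgroup.subgroupOf,
    Subgroup.comap_map_eq_self_of_injective L.subtype_injective]

theorem eq_one_on_commutator {L : Subgroup G} (ν : L →* ℂˣ) {a : L}
    (ha : (a : G) ∈ (⁅L, L⁆ : Subgroup G)) : ν a = 1 := by
  have h : a ∈ commutator L := subgroupOf_commutator L ▸ Subgroup.mem_subgroupOf.2 ha
  exact Abelianization.commutator_subset_ker ν h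

theorem mem_commutator_of_linear [Finite G] {L : Subgroup G} {a : L}
    (h : ∀ ν : L →* ℂˣ, ν a = 1) : (a : G) ∈ (⁅L, L⁆ : Subgroup G) := by
  by_contra hn
  haveI : ((⁅L, L⁆ : Subgroup G).subgroupOf L).Normal := by rw [subgroupOf_commutator]; infer_instance
  obtain ⟨ν, -, hν⟩ := S4811.sep ((⁅L, L⁆ : Subgroup G).subgroupOf L)
    (fun x y => Subgroup.mem_subgroupOf.2 (Subgroup.commutator_mem_commutator x.2 y.2)) (n := a) hn
  exact hν (h ν)

theorem isLinear_pgroup {A : Type*} [Group A] [Finite A] {p : ℕ} [Fact p.Prime]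
    (P : Subgroup (A →* ℂˣ)) (h : ∀ a ∈ P, a ^ p = 1) : ∃ k, Nat.card P = p ^ k :=
  haveI : Finite (A →* ℂˣ) := Finite.of_equiv _ (CharBasicLinear.linearEquiv A).symm
  IsPGroup.iff_card.1 fun x => ⟨1, Subtype.ext (by rw [pow_one, Subgroup.coe_pow]; exact h x x.2)⟩

/-- A normal subgroup which is its own commutator with a nilpotent group, modulo `Z`, lies in `Z`. -/
theorem le_of_le_commutator_sup {L E Z : Subgroup G} [Z.Normal] [Group.IsNilpotent L] (hEL : E ≤ L)
    (h : E ≤ ⁅E, L⁆ ⊔ Z) : E ≤ Z := by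
  have hn : ∀ n, E ≤ L.lowerCentralSeries n ⊔ Z := by
    intro n
    induction n with
    | zero =>
      exact hEL.trans le_sup_left
    | succ n ih =>
      refine h.trans (sup_le ?_ le_sup_right)
      refine Subgroup.commutator_le.2 fun a ha l hl => ?_
      obtain ⟨s, hs, z, hz, rfl⟩ := Subgroup.mem_sup_of_normal_right.1 (ih ha)
      rw [show ⁅s * z, l⁆ = s * ⁅z, l⁆ * s⁻¹ * ⁅s, l⁆ by simp only [commutatorElement_def]; group]
      refine mul_mem (Subgroup.mem_sup_right (‹Z.Normal›.conj_mem _ ?_ s)) (Subgroup.mem_sup_left ?_)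
      · rw [commutatorElement_def, mul_assoc, mul_assoc, ← mul_assoc l]
        exact mul_mem hz (‹Z.Normal›.conj_mem _ (inv_mem hz) l)
      · exact Subgroup.commutator_mem_commutator hs hl
  obtain ⟨n, hn'⟩ := (Subgroup.isNilpotent_iff_lowerCentralSeries L).1 ‹Group.IsNilpotent L›
  have := hn n
  rwa [hn', bot_sup_eq] at this

/-- Orbit counting on a group of linear characters. -/
theorem index_dvd_card_sub_one [Finite G] (A : Subgroup G) [A.Normal] (P : Subgroup (A →* ℂˣ))
    (hP : ∀ (g : G), ∀ ν ∈ P, ν.comp (MulAut.conjNormal g).toMonoidHom ∈ P) (S : Subgroup G)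
    (hS : ∀ ν ∈ P, ν ≠ 1 → inertia A (lc ν) = S) : S.index ∣ Nat.card P - 1 := by
  classical
  haveI : Finite (A →* ℂˣ) := Finite.of_equiv _ (CharBasicLinear.linearEquiv A).symm
  let X := {x : P // x ≠ 1}
  letI : MulAction G X :=
    { smul := fun t x => ⟨⟨(x.1 : A →* ℂˣ).comp (MulAut.conjNormal t⁻¹).toMonoidHom, hP _ _ x.1.2⟩,
        fun h => x.2 (Subtype.ext (MonoidHom.ext fun m => by
          have h' := DFunLike.congr_fun (congrArg Subtype.val h) (MulAut.conjNormal t m)
          simp only [MonoidHom.comp_apply, MulEquiv.coe_toMonoidHom] at h'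
          rw [← MulAut.mul_apply, ← map_mul, inv_mul_cancel, map_one] at h'
          exact h'))⟩
      one_smul := fun x => Subtype.ext (Subtype.ext (MonoidHom.ext fun m => by
        show (x.1 : A →* ℂˣ) (MulAut.conjNormal (1 : G)⁻¹ m) = _
        rw [inv_one, map_one, MulAut.one_apply]))
      mul_smul := fun s t x => Subtype.ext (Subtype.ext (MonoidHom.ext fun m => by
        show (x.1 : A →* ℂˣ) (MulAut.conjNormal (s * t)⁻¹ m) =
          (x.1 : A →* ℂˣ) (MulAut.conjNormal t⁻¹ (MulAut.conjNormal s⁻¹ m))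
        rw [mul_inv_rev, map_mul, MulAut.mul_apply])) }
  have hstab : ∀ x : X, MulAction.stabilizer G x = S := fun x => by
    rw [← hS _ x.1.2 (fun h => x.2 (Subtype.ext h))]
    refine Subgroup.ext fun t => ?_
    rw [← inv_mem_iff (x := t) (H := inertia A (lc (x.1 : A →* ℂˣ))), mem_inertia_lc, MulAction.mem_stabilizer_iff]
    constructor
    · intro h a
      exact DFunLike.congr_fun (congrArg (fun y : X => (y.1 : A →* ℂˣ)) h) a
    · intro h
      exact Subtype.ext (Subtype.ext (MonoidHom.ext h))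
  have h1 := index_dvd_card (X := X) S hstab
  have hcard : Nat.card X = Nat.card P - 1 := by
    have := Fintype.ofFinite P
    rw [Nat.card_eq_fintype_card, Nat.card_eq_fintype_card, Fintype.card_subtype_compl,
      Fintype.card_subtype_eq]
  rwa [hcard] at h1

variable {L E : Subgroup G}

/-- The pairing given by a character of `E ⊇ [L, L]`. -/
def pair (hLE : ∀ x ∈ L, ∀ y ∈ L, ⁅x, y⁆ ∈ E) (c : E →* ℂˣ) (x y : L) : ℂˣ :=
  c ⟨⁅(x : G), (y : G)⁆, hLE x x.2 y y.2⟩

section

variable (hLE : ∀ x ∈ L, ∀ y ∈ L, ⁅x, y⁆ ∈ E) (c : E →* ℂˣ)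

theorem pair_mul_left (hc : ∀ l ∈ L, ∀ a b : E, (b : G) = l * a * l⁻¹ → c b = c a) (x x' y : L) :
    pair hLE c (x * x') y = pair hLE c x' y * pair hLE c x y := by
  have hm : (x : G) * ⁅(x' : G), (y : G)⁆ * (x : G)⁻¹ ∈ E := by
    have e : (x : G) * ⁅(x' : G), (y : G)⁆ * (x : G)⁻¹ = ⁅(x : G) * x', (y : G)⁆ * ⁅(x : G), (y : G)⁆⁻¹ := by
      simp only [commutatorElement_def]; group
    rw [e]
    exact mul_mem (hLE _ (mul_mem x.2 x'.2) _ y.2) (inv_mem (hLE _ x.2 _ y.2))
  show c _ = c _ * c _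
  rw [← hc x x.2 ⟨⁅(x' : G), (y : G)⁆, hLE x' x'.2 y y.2⟩ ⟨_, hm⟩ rfl, ← map_mul]
  exact congrArg c (Subtype.ext (by simp only [Subgroup.coe_mul, commutatorElement_def]; group))

theorem pair_mul_right (hc : ∀ l ∈ L, ∀ a b : E, (b : G) = l * a * l⁻¹ → c b = c a) (x y y' : L) :
    pair hLE c x (y * y') = pair hLE c x y * pair hLE c x y' := by
  have hm : (y : G) * ⁅(x : G), (y' : G)⁆ * (y : G)⁻¹ ∈ E := by
    have e : (y : G) * ⁅(x : G), (y' : G)⁆ * (y : G)⁻¹ = ⁅(x : G), (y : G)⁆⁻¹ * ⁅(x : G), (y : G) * y'⁆ := by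
      simp only [commutatorElement_def]; group
    rw [e]
    exact mul_mem (inv_mem (hLE _ x.2 _ y.2)) (hLE _ x.2 _ (mul_mem y.2 y'.2))
  show c _ = c _ * c _
  rw [← hc y y.2 ⟨⁅(x : G), (y' : G)⁆, hLE x x.2 y' y'.2⟩ ⟨_, hm⟩ rfl, ← map_mul]
  exact congrArg c (Subtype.ext (by simp only [Subgroup.coe_mul, commutatorElement_def]; group))

theorem pair_one_left (y : L) : pair hLE c 1 y = 1 := by
  show c _ = 1
  rw [← map_one c]
  exact congrArg c (Subtype.ext (by simp))

theorem pair_one_right (x : L) : pair hLE c x 1 = 1 := by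
  show c _ = 1
  rw [← map_one c]
  exact congrArg c (Subtype.ext (by simp))

end

/-- A character over a central linear character of `E`. -/
theorem exists_over_central [Fintype L] (hEL : E ≤ L) [(E.subgroupOf L).Normal] (c : E →* ℂˣ)
    (hc : ∀ l ∈ L, ∀ a b : E, (b : G) = l * a * l⁻¹ → c b = c a) :
    ∃ φ : L → ℂ, IsIrrCharacter L φ ∧ ∀ e : E, φ ⟨e, hEL e.2⟩ = φ 1 * (c e : ℂ) := by
  classical
  have := Fintype.ofFinite (E.subgroupOf L)
  let ι := Subgroup.subgroupOfEquivOfLe hEL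
  let c' : (E.subgroupOf L) →* ℂˣ := c.comp ι.toMonoidHom
  obtain ⟨φ, hφ, hne⟩ := H74ThreeDeg.exists_over (E.subgroupOf L) (θ := lc c') (isIrrCharacter_linear c')
  refine ⟨φ, hφ, fun e => ?_⟩
  have horb : orbitFin (E.subgroupOf L) (lc c') = {lc c'} := by
    refine Finset.eq_singleton_iff_unique_mem.2 ⟨self_mem_orbitFin _ _, fun ψ hψ => ?_⟩
    obtain ⟨l, rfl⟩ := (mem_orbitFin _).1 hψ
    exact funext fun n => congrArg Units.val (hc l l.2 (ι n) _ rfl)
  have h1 := clifford (E.subgroupOf L) hφ (θ := lc c') (isIrrCharacter_linear c') hne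
  rw [horb, Finset.sum_singleton] at h1
  have h0 := congrFun h1 1
  have he := congrFun h1 ⟨⟨e, hEL e.2⟩, e.2⟩
  simp only [Pi.smul_apply, smul_eq_mul, lc, map_one, Units.val_one, mul_one, OneMemClass.coe_one] at h0 he
  rw [he, h0]
  rfl

end Cfsg.Agent.NonDiv9
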