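import Mathlib
import Cfsg.Agent.Lib.NonDiv9Class

/-!
If the pairing on the derived group has a radical larger than `[L, L]`, some nonlinear degree
is a proper multiple of the common degree.
-/

set_option autoImplicit false
open Cfsg

namespace Cfsg.Agent.NonDiv9

open Cfsg.Agent.CharBasic Cfsg.Agent.CharBasicOrth Cfsg.Agent.CharBasicDecomp Cfsg.Agent.CharBasicLinear
open Cfsg.Agent.CharInduced
open scoped commutatorElement

universe u

variable {G : Type u} [Group G] {Γ : Subgroup (MulAut G)} {q f : ℕ}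

/-- Elements outside the common stabilizer fix no nontrivial character on an invariant section. -/
theorem eq_one_on_of_moved [Finite G] (L : Subgroup G) [L.Normal] (S : Subgroup G)
    (hS : ∀ lam : L →* ℂˣ, lam ≠ 1 → inertia L (lc lam) = S) {a : G} (ha : a ∉ S)
    (R : Set L) (hR : ∀ x ∈ R, MulAut.conjNormal a x ∈ R) (η : L →* ℂˣ)
    (h : ∀ x ∈ R, η (MulAut.conjNormal a x) = η x) : ∀ x ∈ R, η x = 1 := by
  haveI : Finite (L →* ℂˣ) := Finite.of_equiv _ (CharBasicLinear.linearEquiv L).symm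
  let Ψ : (L →* ℂˣ) → (L →* ℂˣ) := fun ν => ν.comp (MulAut.conjNormal a).toMonoidHom * ν⁻¹
  have hΨ : Function.Injective Ψ := by
    intro ν μ e
    by_contra hne
    refine ha ((hS (ν * μ⁻¹) (fun h' => hne (mul_inv_eq_one.1 h'))) ▸ mem_inertia_lc.2 fun x => ?_)
    have e1 := DFunLike.congr_fun e x
    simp only [Ψ, MonoidHom.mul_apply, MonoidHom.comp_apply, MonoidHom.inv_apply,
      MulEquiv.coe_toMonoidHom] at e1 ⊢
    rw [mul_inv_eq_iff_eq_mul, mul_right_comm] at e1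
    rw [e1, mul_assoc (μ _), mul_inv_cancel_comm]
  let P := {ν : L →* ℂˣ // ∀ x ∈ R, ν x = 1}
  let ΨP : P → P := fun ν => ⟨Ψ ν.1, fun x hx => by
    simp only [Ψ, MonoidHom.mul_apply, MonoidHom.comp_apply, MonoidHom.inv_apply,
      MulEquiv.coe_toMonoidHom, ν.2 x hx, ν.2 _ (hR x hx), inv_one, mul_one]⟩
  have hP : Function.Injective ΨP := fun ν μ e => Subtype.ext (hΨ (congrArg Subtype.val e))
  obtain ⟨ν, hν⟩ := (Finite.injective_iff_surjective.1 hP) ⟨Ψ η, fun x hx => by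
    simp only [Ψ, MonoidHom.mul_apply, MonoidHom.comp_apply, MonoidHom.inv_apply,
      MulEquiv.coe_toMonoidHom, h x hx, mul_inv_cancel]⟩
  intro x hx
  rw [← hΨ (congrArg Subtype.val hν)]
  exact ν.2 x hx

/-- The radical case. -/
theorem false_of_radical [Fintype G] (h : Ctx Γ q f) (L : Subgroup G) [L.Normal] [Fintype L]
    (hGL : commutator G ≤ L) (S : Subgroup G) (hS : ∀ lam : L →* ℂˣ, lam ≠ 1 → inertia L (lc lam) = S)
    (hSdeg : ∃ χ : G → ℂ, IsIrrCharacter G χ ∧ χ 1 = (S.index : ℂ)) (hS1 : S.index ≠ 1)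
    (E : Subgroup G) [E.Normal] (hE : E = ⁅L, L⁆) (c : E →* ℂˣ) (hc1 : c ≠ 1)
    (hcL : ∀ l ∈ L, ∀ a b : E, (b : G) = l * a * l⁻¹ → c b = c a)
    (hLE : ∀ x ∈ L, ∀ y ∈ L, ⁅x, y⁆ ∈ E)
    (x : L) (hx : (x : G) ∉ E) (hrad : ∀ y : L, pair hLE c x y = 1) : False := by
  classical
  have hEL : E ≤ L := hE ▸ Subgroup.commutator_le_self L
  obtain ⟨φ, hφ, hφE⟩ := exists_over_central hEL c hcL
  obtain ⟨d, -, hd⟩ := isIrrCharacter_apply_one hφ
  have hd0 : φ 1 ≠ 0 := isIrrCharacter_apply_one_ne_zero hφ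
  have hd1 : d ≠ 1 := by
    intro e
    obtain ⟨μ, hμ⟩ := exists_hom_of_apply_one_eq_one (isCharacter_of_isIrrCharacter hφ) (by rw [hd, e, Nat.cast_one])
    refine hc1 (MonoidHom.ext fun a => Units.ext ?_)
    have h1 := hφE a
    rw [hμ] at h1
    simp only [map_one, Units.val_one, one_mul] at h1
    rw [← h1, eq_one_on_commutator μ (a := ⟨a, hEL a.2⟩) (hE ▸ a.2)]
    simp
  -- the radical
  set R : Set L := {y | ∀ z : L, pair hLE c y z = 1} with hRdef
  have hne0 : ∀ y ∈ R, φ y ≠ 0 := fun y hy => ne_zero_of_comm_ker hφ fun z => by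
    have h1 := hφE ⟨⁅(y : G), (z : G)⁆, hLE y y.2 z z.2⟩
    rw [show c ⟨⁅(y : G), (z : G)⁆, hLE y y.2 z z.2⟩ = 1 from hy z, Units.val_one, mul_one] at h1
    exact h1
  -- characters `φ * ν` whose stabilizer is not in `S`
  have key : ∀ ν : L →* ℂˣ, ∃ a : G, a ∉ S ∧ a ∈ inertia L (fun y => φ y * (ν y : ℂ)) ∧
      ∀ y ∈ R, MulAut.conjNormal a y ∈ R := by
    intro ν
    set ξ : L → ℂ := fun y => φ y * (ν y : ℂ) with hξdef
    have hξ : IsIrrCharacter L ξ := isIrrCharacter_mul_linear hφ ν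
    have hξE : ∀ e : E, ξ ⟨e, hEL e.2⟩ = φ 1 * (c e : ℂ) := fun e => by
      show φ _ * _ = _
      rw [eq_one_on_commutator ν (a := ⟨e, hEL e.2⟩) (hE ▸ e.2), Units.val_one, mul_one, hφE e]
    have hξ1 : ξ 1 = (d : ℂ) := by simp [hξdef, hd]
    obtain ⟨a, haT, haS⟩ : ∃ a, a ∈ inertia L ξ ∧ a ∉ S := by
      by_contra hh
      push Not at hh
      obtain ⟨χ, hχ, hne⟩ := H74ThreeDeg.exists_over L hξ
      obtain ⟨m, hm⟩ := classInner_isCharacter (isCharacter_res L (isCharacter_of_isIrrCharacter hχ))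
        (isCharacter_of_isIrrCharacter hξ)
      have h1 := CharCliffordCorr.apply_one_eq L hχ hξ hne
      rw [hm, hξ1] at h1
      obtain ⟨k, hk⟩ := Subgroup.index_dvd_of_le (show inertia L ξ ≤ S from hh)
      rw [hk] at h1
      obtain ⟨χ0, hχ0, hχ01⟩ := hSdeg
      have hm0 : m ≠ 0 := fun e => hne (by rw [hm, e, Nat.cast_zero])
      have h2 : χ 1 = ((m * (S.index * k) * d : ℕ) : ℂ) := by rw [h1]; push_cast; ring
      have hnd := h.nd χ0 χ hχ0 hχ _ _ hχ01 h2 hS1 (fun e => hd1 (Nat.eq_one_of_mul_eq_one_left e))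
        ⟨m * k * d, by ring⟩
      have hS0 : S.index ≠ 0 := Subgroup.index_ne_zero_of_finite
      have h3 : S.index * (m * k * d) = S.index * 1 := by rw [mul_one]; conv_rhs => rw [hnd]
                                                          ring
      exact hd1 (Nat.eq_one_of_mul_eq_one_left (Nat.eq_of_mul_eq_mul_left (Nat.pos_of_ne_zero hS0) h3))
    refine ⟨a, haS, haT, fun y hy z => ?_⟩
    have hcfix : ∀ u v : E, (v : G) = a * u * a⁻¹ → c v = c u := fun u v e => by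
      have hv : a * (u : G) * a⁻¹ ∈ L := ‹L.Normal›.conj_mem u (hEL u.2) a
      have h1 := (mem_inertia_iff L).1 haT ⟨u, hEL u.2⟩
      rw [hξE u] at h1
      have h2 : ξ ⟨a * (u : G) * a⁻¹, hv⟩ = φ 1 * (c v : ℂ) :=
        (congrArg ξ (Subtype.ext e.symm)).trans (hξE v)
      exact Units.ext (mul_left_cancel₀ hd0 (h2.symm.trans h1))
    set z' : L := (MulAut.conjNormal a).symm z with hz'
    have hz : MulAut.conjNormal a z' = z := (MulAut.conjNormal a).apply_symm_apply z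
    rw [← hz, ← hy z']
    exact hcfix _ _ (by
      show ⁅((MulAut.conjNormal a y : L) : G), ((MulAut.conjNormal a z' : L) : G)⁆ = _
      rw [MulAut.conjNormal_apply, MulAut.conjNormal_apply]
      simp only [commutatorElement_def]; group)
  obtain ⟨ν, hν⟩ : ∃ ν : L →* ℂˣ, ν x ≠ 1 := by
    by_contra hh
    push Not at hh
    exact hx (hE ▸ mem_commutator_of_linear hh)
  obtain ⟨a, haS, ha, haR⟩ := key 1
  obtain ⟨b, hbS, hb, hbR⟩ := key ν
  have ha' : ∀ y : L, φ (MulAut.conjNormal a y) = φ y := fun y => by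
    have h1 := (mem_inertia_iff L).1 ha y
    simp only [MonoidHom.one_apply, Units.val_one, mul_one] at h1
    exact (congrArg φ (Subtype.ext (MulAut.conjNormal_apply a y))).trans h1
  have hb' : ∀ y : L, φ (MulAut.conjNormal b y) * (ν (MulAut.conjNormal b y) : ℂ) = φ y * (ν y : ℂ) := fun y => by
    have h1 := (mem_inertia_iff L).1 hb y
    rw [show MulAut.conjNormal b y = (⟨b * y * b⁻¹, ‹L.Normal›.conj_mem y y.2 b⟩ : L) from
      Subtype.ext (MulAut.conjNormal_apply b y)]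
    exact h1
  set η : L →* ℂˣ := ν * (ν.comp (MulAut.conjNormal b).toMonoidHom)⁻¹ with hη
  have hη1 : ∀ y : L, φ (MulAut.conjNormal b y) = φ y * (η y : ℂ) := fun y => by
    have h1 := hb' y
    have h2 : (η y : ℂ) = (ν y : ℂ) * (ν (MulAut.conjNormal b y) : ℂ)⁻¹ := by simp [hη]
    rw [h2, ← mul_assoc, ← h1, mul_inv_cancel_right₀ (Units.ne_zero _)]
  have hηa : ∀ y ∈ R, η (MulAut.conjNormal a y) = η y := fun y hy => by
    refine Units.ext (mul_left_cancel₀ (hne0 y hy) ?_)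
    rw [← hη1 y]
    conv_lhs => rw [← ha' y, ← hη1]
    set ℓ : L := ⟨⁅b, a⁆, hGL (Subgroup.commutator_mem_commutator (Subgroup.mem_top _) (Subgroup.mem_top _))⟩
    have e : MulAut.conjNormal b (MulAut.conjNormal a y) =
        ℓ * MulAut.conjNormal a (MulAut.conjNormal b y) * ℓ⁻¹ := Subtype.ext (by
      simp only [Subgroup.coe_mul, Subgroup.coe_inv, MulAut.conjNormal_apply, ℓ, commutatorElement_def]; group)
    rw [e, isClassFunction_irr hφ, ha']
  have hη0 := eq_one_on_of_moved L S hS haS R haR η hηa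
  have hν0 : ∀ y ∈ R, ν (MulAut.conjNormal b y) = ν y := fun y hy => by
    have := hη0 y hy
    rw [hη, MonoidHom.mul_apply, MonoidHom.inv_apply, mul_inv_eq_one] at this
    exact this.symm
  exact hν (eq_one_on_of_moved L S hS hbS R hbR ν hν0 x hrad)

end Cfsg.Agent.NonDiv9
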