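import Mathlib
import Cfsg.Agent.Lib.NonDiv9Case

/-!
A chief factor `E / L₀` below the derived group of the kernel, and the character over a
nondegenerate pairing.
-/

set_option autoImplicit false
open Cfsg

namespace Cfsg.Agent.NonDiv9

open Cfsg.Agent.CharBasic Cfsg.Agent.CharBasicOrth Cfsg.Agent.CharBasicDecomp Cfsg.Agent.CharBasicLinear
open Cfsg.Agent.CharInduced
open scoped commutatorElement ComplexConjugate

universe u

variable {G : Type u} [Group G] {Γ : Subgroup (MulAut G)} {q f : ℕ}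

theorem map_commutator_invariant {L : Subgroup G} (hLΓ : ∀ α ∈ Γ, ∀ l ∈ L, α l ∈ L) {α : MulAut G}
    (hα : α ∈ Γ) {e : G} (he : e ∈ (⁅L, L⁆ : Subgroup G)) : α e ∈ (⁅L, L⁆ : Subgroup G) := by
  have h : (⁅L, L⁆ : Subgroup G) ≤ (⁅L, L⁆ : Subgroup G).comap α.toMonoidHom :=
    Subgroup.commutator_le.2 fun a ha b hb => by
      show α ⁅a, b⁆ ∈ (⁅L, L⁆ : Subgroup G)
      rw [map_commutatorElement]
      exact Subgroup.commutator_mem_commutator (hLΓ α hα a ha) (hLΓ α hα b hb)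
  exact h he

/-- The chief factor data. -/
structure Chief (Γ : Subgroup (MulAut G)) (L E L0 : Subgroup G) : Prop where
  eq : E = ⁅L, L⁆
  inv : ∀ α ∈ Γ, ∀ e ∈ E, α e ∈ E
  le : L0 ≤ E
  ne : L0 ≠ E
  normal : L0.Normal
  inv0 : ∀ α ∈ Γ, ∀ e ∈ L0, α e ∈ L0
  max : ∀ H : Subgroup G, (∀ α ∈ Γ, ∀ e ∈ H, α e ∈ H) → L0 ≤ H → H ≤ E → H = L0 ∨ H = E
  cent : ∀ l ∈ L, ∀ e ∈ E, ⁅l, e⁆ ∈ L0

theorem exists_chief [Finite G] (hinner : ∀ g : G, MulAut.conj g ∈ Γ) (L : Subgroup G)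
    (hLΓ : ∀ α ∈ Γ, ∀ l ∈ L, α l ∈ L) [Group.IsNilpotent L] (hne : (⁅L, L⁆ : Subgroup G) ≠ ⊥) :
    ∃ E L0 : Subgroup G, Chief Γ L E L0 := by
  classical
  have := Fintype.ofFinite G
  obtain ⟨E, hE⟩ : ∃ E : Subgroup G, E = ⁅L, L⁆ := ⟨_, rfl⟩
  have hEinv : ∀ α ∈ Γ, ∀ e ∈ E, α e ∈ E := fun α hα e he => hE ▸ map_commutator_invariant hLΓ hα (hE ▸ he)
  obtain ⟨L0, hL0, hmax⟩ := Finset.exists_max_image
    (Finset.univ.filter fun H : Subgroup G => H ≤ E ∧ H ≠ E ∧ ∀ α ∈ Γ, ∀ e ∈ H, α e ∈ H)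
    (fun H => Nat.card H) ⟨⊥, by
      simp only [Finset.mem_filter, Finset.mem_univ, true_and]
      exact ⟨bot_le, fun h => hne (hE ▸ h.symm), fun α _ e he => by simp [Subgroup.mem_bot.1 he]⟩⟩
  obtain ⟨h0le, h0ne, h0inv⟩ := (Finset.mem_filter.1 hL0).2
  have h0n : L0.Normal := ⟨fun e he g => h0inv _ (hinner g) e he⟩
  have hmax' : ∀ H : Subgroup G, (∀ α ∈ Γ, ∀ e ∈ H, α e ∈ H) → L0 ≤ H → H ≤ E → H = L0 ∨ H = E :=
    fun H hH h1 h2 => (em (H = E)).symm.imp_left fun hne' => (Subgroup.eq_of_le_of_card_ge h1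
      (hmax H (Finset.mem_filter.2 ⟨Finset.mem_univ _, h2, hne', hH⟩))).symm
  refine ⟨E, L0, hE, hEinv, h0le, h0ne, h0n, h0inv, hmax', fun l hl e he => ?_⟩
  have hEL : E ≤ L := hE ▸ Subgroup.commutator_le_self L
  let Z : Subgroup G := (⁅E, L⁆ : Subgroup G) ⊔ L0
  have hZinv : ∀ α ∈ Γ, ∀ z ∈ Z, α z ∈ Z := fun α hα z hz => by
    have h : Z ≤ Z.comap α.toMonoidHom := sup_le (Subgroup.commutator_le.2 fun a ha b hb => by
      show α ⁅a, b⁆ ∈ Z
      rw [map_commutatorElement]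
      exact Subgroup.mem_sup_left (Subgroup.commutator_mem_commutator (hEinv α hα a ha) (hLΓ α hα b hb)))
      (fun x hx => Subgroup.mem_sup_right (h0inv α hα x hx))
    exact h hz
  have hEn : E.Normal := ⟨fun e he g => hEinv _ (hinner g) e he⟩
  have hZle : Z ≤ E := sup_le (Subgroup.commutator_le.2 fun a ha b _ => by
    rw [commutatorElement_def, mul_assoc, mul_assoc, ← mul_assoc b]
    exact mul_mem ha (hEn.conj_mem _ (inv_mem ha) b)) h0le
  rcases hmax' Z hZinv le_sup_right hZle with h | h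
  · have h1 : ⁅e, l⁆ ∈ Z := Subgroup.mem_sup_left (Subgroup.commutator_mem_commutator he hl)
    rw [h] at h1
    rw [← commutatorElement_inv]
    exact inv_mem h1
  · exact absurd (le_antisymm h0le (le_of_le_commutator_sup hEL h.ge)) h0ne

variable {L E L0 : Subgroup G}

/-- Characters of `E` trivial on `L₀`. -/
def chars (E L0 : Subgroup G) : Subgroup (E →* ℂˣ) where
  carrier := {c | ∀ e : E, (e : G) ∈ L0 → c e = 1}
  one_mem' := fun _ _ => rfl
  mul_mem' := fun {a b} ha hb e he => by rw [MonoidHom.mul_apply, ha e he, hb e he, one_mul]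
  inv_mem' := fun {a} ha e he => by rw [MonoidHom.inv_apply, ha e he, inv_one]

theorem Chief.fixed_by_L [E.Normal] (hC : Chief Γ L E L0) {c : E →* ℂˣ} (hc : c ∈ chars E L0) :
    ∀ l ∈ L, ∀ a b : E, (b : G) = l * a * l⁻¹ → c b = c a := by
  intro l hl a b e
  rw [← mul_inv_eq_one, ← map_inv, ← map_mul]
  refine hc _ ?_
  rw [Subgroup.coe_mul, Subgroup.coe_inv, e, ← commutatorElement_def]
  exact hC.cent l hl a a.2

theorem Chief.mem_of_forall (hC : Chief Γ L E L0) {c : E →* ℂˣ} (hc : c ∈ chars E L0) (hc1 : c ≠ 1)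
    {e : E} (he : ∀ α (hα : α ∈ Γ), c ⟨α e, hC.inv α hα e e.2⟩ = 1) : (e : G) ∈ L0 := by
  let H : Subgroup G :=
    { carrier := {x | ∃ hx : x ∈ E, ∀ α (hα : α ∈ Γ), c ⟨α x, hC.inv α hα x hx⟩ = 1}
      one_mem' := ⟨one_mem E, fun α hα => by
        rw [show (⟨α 1, hC.inv α hα 1 (one_mem E)⟩ : E) = 1 from Subtype.ext (map_one α), map_one]⟩
      mul_mem' := fun {a b} ⟨ha, ha'⟩ ⟨hb, hb'⟩ => ⟨mul_mem ha hb, fun α hα => by
        rw [show (⟨α (a * b), hC.inv α hα _ (mul_mem ha hb)⟩ : E) =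
          ⟨α a, hC.inv α hα a ha⟩ * ⟨α b, hC.inv α hα b hb⟩ from Subtype.ext (map_mul α a b),
          map_mul, ha' α hα, hb' α hα, one_mul]⟩
      inv_mem' := fun {a} ⟨ha, ha'⟩ => ⟨inv_mem ha, fun α hα => by
        rw [show (⟨α a⁻¹, hC.inv α hα _ (inv_mem ha)⟩ : E) = (⟨α a, hC.inv α hα a ha⟩ : E)⁻¹ from
          Subtype.ext (map_inv α a), map_inv, ha' α hα, inv_one]⟩ }
  rcases hC.max H (fun β hβ x hxx => ⟨hC.inv β hβ x hxx.choose, fun α hα => hxx.choose_spec (α * β) (mul_mem hα hβ)⟩)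
    (fun x hx => ⟨hC.le hx, fun α hα => hc _ (hC.inv0 α hα x hx)⟩) (fun x hx => hx.1) with h | h
  · exact h ▸ (show (e : G) ∈ H from ⟨e.2, he⟩)
  · refine absurd (MonoidHom.ext fun x => ?_) hc1
    have hxH : (x : G) ∈ H := by rw [h]; exact x.2
    simpa using hxH.choose_spec 1 (one_mem Γ)

/-- A nontrivial character of the chief factor of prime order. -/
theorem Chief.exists_char [Finite G] [E.Normal] (hC : Chief Γ L E L0) :
    ∃ p : ℕ, p.Prime ∧ ∃ c ∈ chars E L0, c ≠ 1 ∧ ∀ e : E, (e : G) ^ p ∈ L0 := by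
  classical
  haveI := hC.normal
  have hEL : E ≤ L := hC.eq ▸ Subgroup.commutator_le_self L
  obtain ⟨e0, he0, he0'⟩ := SetLike.exists_of_lt (lt_of_le_of_ne hC.le hC.ne)
  obtain ⟨c0, hc0, hc0e⟩ := S4811.sep (L0.subgroupOf E)
    (fun a b => hC.cent a (hEL a.2) b b.2) (n := ⟨e0, he0⟩) he0'
  haveI : Finite (E →* ℂˣ) := Finite.of_equiv _ (CharBasicLinear.linearEquiv E).symm
  have hne : orderOf c0 ≠ 1 := fun h => hc0e (by rw [orderOf_eq_one_iff.1 h]; rfl)
  set p := (orderOf c0).minFac with hp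
  have hpp : p.Prime := Nat.minFac_prime hne
  have hdvd : p ∣ orderOf c0 := Nat.minFac_dvd _
  have hc0m : c0 ∈ chars E L0 := fun e he => hc0 e he
  have hord : orderOf (c0 ^ (orderOf c0 / p)) = p := by
    rw [orderOf_pow_of_dvd (Nat.div_pos (Nat.minFac_le (orderOf_pos c0)) hpp.pos).ne'
      (Nat.div_dvd_of_dvd hdvd), Nat.div_div_self hdvd (orderOf_pos c0).ne']
  have hc1m : c0 ^ (orderOf c0 / p) ∈ chars E L0 := pow_mem hc0m _
  have hc1ne : c0 ^ (orderOf c0 / p) ≠ 1 := fun h => hpp.ne_one (by rw [← hord, h, orderOf_one])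
  refine ⟨p, hpp, _, hc1m, hc1ne, fun e => ?_⟩
  refine hC.mem_of_forall hc1m hc1ne (e := ⟨(e : G) ^ p, pow_mem e.2 p⟩) fun α hα => ?_
  rw [show (⟨α ((e : G) ^ p), hC.inv α hα _ (pow_mem e.2 p)⟩ : E) = (⟨α e, hC.inv α hα e e.2⟩ : E) ^ p from
    Subtype.ext (by simp), map_pow, ← MonoidHom.pow_apply]
  have h1 : (c0 ^ (orderOf c0 / p)) ^ p = 1 := by
    have := pow_orderOf_eq_one (c0 ^ (orderOf c0 / p))
    rwa [hord] at this
  rw [h1, MonoidHom.one_apply]

/-- The common stabilizer fixes the characters of the chief factor. -/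
theorem le_inertia_chief [Finite G] [L.Normal] [E.Normal] (hC : Chief Γ L E L0) {S : Subgroup G}
    (hS : ∀ lam : L →* ℂˣ, lam ≠ 1 → inertia L (lc lam) = S)
    {c : E →* ℂˣ} (hc : c ∈ chars E L0) : S ≤ inertia E (lc c) := by
  classical
  have hEL : E ≤ L := hC.eq ▸ Subgroup.commutator_le_self L
  intro x hx
  rw [mem_inertia_lc]
  have hfix : ∀ (nu : L →* ℂˣ) (l : L), nu (MulAut.conjNormal x l * l⁻¹) = 1 := fun nu l => by
    by_cases hnu : nu = 1
    · rw [hnu]; rfl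
    · rw [map_mul, map_inv, mem_inertia_lc.1 ((hS nu hnu).symm ▸ hx) l, mul_inv_cancel]
  have hmove : ∀ l : L, ((MulAut.conjNormal x l * l⁻¹ : L) : G) ∈ E := fun l =>
    hC.eq ▸ mem_commutator_of_linear (fun nu => hfix nu l)
  have hsub : E ≤ (MonoidHom.eqLocus (c.comp (MulAut.conjNormal x).toMonoidHom) c).map E.subtype := by
    intro e0 he0
    rw [hC.eq] at he0
    revert he0 e0
    show (⁅L, L⁆ : Subgroup G) ≤ _
    refine Subgroup.commutator_le.2 fun a ha b hb => ?_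
    have hab : ⁅a, b⁆ ∈ E := hC.eq ▸ Subgroup.commutator_mem_commutator ha hb
    refine ⟨⟨_, hab⟩, ?_, rfl⟩
    show c (MulAut.conjNormal x ⟨⁅a, b⁆, hab⟩) = c ⟨⁅a, b⁆, hab⟩
    obtain ⟨ea, hea, hxa⟩ : ∃ ea : G, ea ∈ E ∧ x * a * x⁻¹ = ea * a := ⟨_, hmove ⟨a, ha⟩, by
      simp [MulAut.conjNormal_apply]⟩
    obtain ⟨eb, heb, hxb⟩ : ∃ eb : G, eb ∈ E ∧ x * b * x⁻¹ = eb * b := ⟨_, hmove ⟨b, hb⟩, by
      simp [MulAut.conjNormal_apply]⟩
    haveI := hC.normal
    rw [← mul_inv_eq_one, ← map_inv, ← map_mul]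
    refine hc _ ?_
    rw [Subgroup.coe_mul, Subgroup.coe_inv, MulAut.conjNormal_apply,
      show x * ⁅a, b⁆ * x⁻¹ = ⁅x * a * x⁻¹, x * b * x⁻¹⁆ by simp only [commutatorElement_def]; group,
      hxa, hxb]
    rw [← QuotientGroup.eq_one_iff, ← QuotientGroup.mk'_apply, map_mul, map_inv, mul_inv_eq_one,
      map_commutatorElement, map_commutatorElement, map_mul, map_mul]
    have hcm : ∀ e ∈ E, ∀ l ∈ L, Commute (QuotientGroup.mk' L0 e) (QuotientGroup.mk' L0 l) :=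
      fun e he l hl => Commute.symm (commutatorElement_eq_one_iff_mul_comm.1
        (by rw [← map_commutatorElement]; exact (QuotientGroup.eq_one_iff _).2 (hC.cent l hl e he)))
    set A := QuotientGroup.mk' L0 a
    set B := QuotientGroup.mk' L0 b
    set P := QuotientGroup.mk' L0 ea
    set R := QuotientGroup.mk' L0 eb
    have h1 : Commute P A := hcm ea hea a ha
    have h2 : Commute P B := hcm ea hea b hb
    have h3 : Commute P R := hcm ea hea eb (hEL heb)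
    have h4 : Commute R A := hcm eb heb a ha
    have h5 : Commute R B := hcm eb heb b hb
    calc ⁅P * A, R * B⁆ = P * (A * (R * B) * A⁻¹) * P⁻¹ * (R * B)⁻¹ := by
          simp only [commutatorElement_def]; group
      _ = (A * (R * B) * A⁻¹) * (R * B)⁻¹ := by
          rw [((h1.mul_right (h3.mul_right h2)).mul_right h1.inv_right).eq, mul_inv_cancel_right]
      _ = R * (A * B * A⁻¹) * (R * B)⁻¹ := by
          rw [← mul_assoc A R B, h4.symm.eq]; group
      _ = (A * B * A⁻¹) * R * (R * B)⁻¹ := by rw [((h4.mul_right h5).mul_right h4.inv_right).eq]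
      _ = ⁅A, B⁆ := by
          rw [h5.eq, mul_inv_rev, commutatorElement_def, mul_assoc _ R, mul_inv_cancel_left]
  intro a
  obtain ⟨a', ha', e⟩ := hsub a.2
  obtain rfl : a' = a := Subtype.ext e
  exact ha'

/-- All characters of the chief factor have one stabilizer, invariant under `Γ`. -/
theorem Chief.stab [Fintype G] (h : Ctx Γ q f) [E.Normal] (hC : Chief Γ L E L0)
    (hGL : commutator G ≤ L) (hLG : L ≤ commutator G) {c c' : E →* ℂˣ} (hc : c ∈ chars E L0) (hc1 : c ≠ 1)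
    (hc' : c' ∈ chars E L0) :
    inertia E (lc c) ≤ inertia E (lc c') ∧ ∀ α ∈ Γ, ∀ t ∈ inertia E (lc c), α t ∈ inertia E (lc c) := by
  classical
  haveI := hC.normal
  have := Fintype.ofFinite E
  have hEL : E ≤ L := hC.eq ▸ Subgroup.commutator_le_self L
  have hLT : L ≤ inertia E (lc c) := fun l hl => mem_inertia_lc.2 fun a =>
    hC.fixed_by_L hc l hl a _ (MulAut.conjNormal_apply l a)
  have hTn : (inertia E (lc c)).Normal := Subgroup.Normal.of_commutator_le _ (hGL.trans hLT)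
  have hnl : NL (lc c) := by
    obtain ⟨a, ha⟩ : ∃ a, c a ≠ 1 := by
      by_contra hh; push Not at hh; exact hc1 (MonoidHom.ext hh)
    exact NL.of_ne_on_commutator (isIrrCharacter_linear c) (hLG (hEL a.2))
      fun e => ha (Units.ext (by simpa [lc] using e))
  have hTinv : ∀ α ∈ Γ, ∀ t ∈ inertia E (lc c), α t ∈ inertia E (lc c) := by
    intro α hα t ht
    obtain ⟨n, hn⟩ := exists_fix h E hC.inv (θ := lc c) (isIrrCharacter_linear c) hnl hα
    set β := α * MulAut.conj n with hβ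
    have hβΓ : β ∈ Γ := mul_mem hα (h.inner n)
    have hu : n⁻¹ * t * n ∈ inertia E (lc c) := by simpa using hTn.conj_mem t ht n⁻¹
    have e : β (n⁻¹ * t * n) = α t := by
      rw [hβ, MulAut.mul_apply, MulAut.conj_apply]; congr 1; group
    rw [← e, mem_inertia_lc]
    intro b
    set u := n⁻¹ * t * n
    have hb : β.symm b ∈ E := hC.inv _ (inv_mem hβΓ) b b.2
    set b' : E := ⟨β.symm b, hb⟩
    rw [fix_lc.1 hn (MulAut.conjNormal u b') (MulAut.conjNormal (β u) b)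
        (by simp [b', MulAut.conjNormal_apply, map_mul, map_inv]),
      mem_inertia_lc.1 hu b', fix_lc.1 hn b' b (by simp [b'])]
  refine ⟨fun t ht => mem_inertia_lc.2 fun a => ?_, hTinv⟩
  rw [← mul_inv_eq_one, ← map_inv, ← map_mul]
  refine hc' _ (hC.mem_of_forall hc hc1 fun α hα => ?_)
  have h1 := mem_inertia_lc.1 (hTinv α hα t ht) ⟨α a, hC.inv α hα a a.2⟩
  rw [← mul_inv_eq_one, ← map_inv, ← map_mul] at h1
  refine (congrArg c (Subtype.ext ?_)).trans h1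
  simp [MulAut.conjNormal_apply, map_mul, map_inv]

/-- The values of a character over a nondegenerate pairing. -/
theorem values_of_nondeg [Fintype G] [Fintype L] (hEL : E ≤ L) {φ : L → ℂ} (hφ : IsIrrCharacter L φ)
    {c : E →* ℂˣ} (hφE : ∀ e : E, φ ⟨e, hEL e.2⟩ = φ 1 * (c e : ℂ))
    (hnorm : ∀ e : E, ‖(c e : ℂ)‖ = 1) (hLE : ∀ x ∈ L, ∀ y ∈ L, ⁅x, y⁆ ∈ E)
    (hnd : ∀ x : L, (x : G) ∉ E → ∃ y : L, pair hLE c x y ≠ 1) :
    (∀ x : L, (x : G) ∉ E → φ x = 0) ∧ φ 1 * φ 1 = (E.relIndex L : ℂ) := by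
  classical
  have hzero : ∀ x : L, (x : G) ∉ E → φ x = 0 := by
    intro x hx
    obtain ⟨y, hy⟩ := hnd x hx
    by_contra h0
    refine hy (Units.ext ?_)
    have hm := hLE x x.2 y y.2
    have h1 := mul_apply_of_scalar hφ (z := (⟨⁅(x : G), (y : G)⁆, hEL hm⟩ : L))
      (hnorm ⟨_, hm⟩) (hφE ⟨_, hm⟩) (y * x * y⁻¹)
    rw [show (⟨⁅(x : G), (y : G)⁆, hEL hm⟩ : L) * (y * x * y⁻¹) = x from
      Subtype.ext (by simp [commutatorElement_def]; group), isClassFunction_irr hφ] at h1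
    exact (mul_eq_right₀ h0).1 h1.symm
  refine ⟨hzero, ?_⟩
  obtain ⟨d, -, hd⟩ := isIrrCharacter_apply_one hφ
  have hsum := card_mul_classInner φ φ
  rw [classInner_irr_self hφ, mul_one] at hsum
  have hterm : ∀ e : E, φ ⟨e, hEL e.2⟩ * conj (φ ⟨e, hEL e.2⟩) = φ 1 * φ 1 := fun e => by
    rw [hφE e, map_mul, hd, map_natCast, mul_mul_mul_comm, Complex.mul_conj, Complex.normSq_eq_norm_sq,
      hnorm, one_pow, Complex.ofReal_one, mul_one]
  rw [← Finset.sum_subset (Finset.subset_univ (Finset.univ.filter fun x : L => (x : G) ∈ E))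
      (fun x _ hx => by rw [hzero x (by simpa using hx), zero_mul])] at hsum
  have := Fintype.ofFinite E
  have hbij : ∑ x ∈ Finset.univ.filter (fun x : L => (x : G) ∈ E), φ x * conj (φ x) =
      ∑ e : E, φ 1 * φ 1 := by
    refine Finset.sum_bij' (fun x hx => ⟨(x : G), (Finset.mem_filter.1 hx).2⟩) (fun e _ => ⟨e, hEL e.2⟩)
      (fun _ _ => Finset.mem_univ _) (fun e _ => Finset.mem_filter.2 ⟨Finset.mem_univ _, e.2⟩)
      (fun _ _ => rfl) (fun _ _ => rfl) (fun x hx => ?_)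
    exact hterm ⟨(x : G), (Finset.mem_filter.1 hx).2⟩
  rw [hbij, Finset.sum_const, Finset.card_univ, nsmul_eq_mul, ← Nat.card_eq_fintype_card] at hsum
  have hc : Nat.card L = E.relIndex L * Nat.card E := by
    rw [← Subgroup.relIndex_bot_left, ← Subgroup.relIndex_mul_relIndex ⊥ E L bot_le hEL,
      Subgroup.relIndex_bot_left, mul_comm]
  rw [hc, Nat.cast_mul, mul_comm (E.relIndex L : ℂ)] at hsum
  exact (mul_left_cancel₀ (Nat.cast_ne_zero.2 Nat.card_pos.ne') hsum).symm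

end Cfsg.Agent.NonDiv9
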