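import Mathlib
import Cfsg.Agent.Lib.NonDiv9Chief

/-!
The nondegenerate case: the stabilizer of the chief factor is central modulo the derived group,
so its index exceeds the square root of the number of linear characters, which is impossible.
-/

set_option autoImplicit false
open Cfsg

namespace Cfsg.Agent.NonDiv9

open Cfsg.Agent.CharBasic Cfsg.Agent.CharBasicOrth Cfsg.Agent.CharBasicDecomp Cfsg.Agent.CharBasicLinear
open Cfsg.Agent.CharInduced
open scoped commutatorElement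

universe u

variable {G : Type u} [Group G] {Γ : Subgroup (MulAut G)} {q f : ℕ}

/-- Right correction by a central element commutes with powers modulo `L`. -/
theorem pow_mul_conj {L : Subgroup G} [L.Normal] (hLΓ : ∀ α ∈ Γ, ∀ l ∈ L, α l ∈ L) {β : MulAut G}
    (hβ : β ∈ Γ) {z : G} (hz : ∀ α ∈ Γ, α z * z⁻¹ ∈ L) :
    ∀ i : ℕ, ∃ l ∈ L, (β * MulAut.conj z) ^ i = β ^ i * MulAut.conj (z ^ i * l) := by
  intro i
  induction i with
  | zero => exact ⟨1, one_mem L, by simp⟩
  | succ i ih =>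
    obtain ⟨l, hl, hpow⟩ := ih
    set π := QuotientGroup.mk' L with hπ
    have hπL : ∀ x, π x = 1 ↔ x ∈ L := fun x => QuotientGroup.eq_one_iff x
    refine ⟨(z ^ (i + 1))⁻¹ * (β.symm (z ^ i * l) * z), ?_, ?_⟩
    · have h1 : π (β.symm z) = π z := by
        have := (hπL _).2 (hz _ (inv_mem hβ))
        rwa [map_mul, map_inv, mul_inv_eq_one] at this
      have h2 : π (β.symm l) = 1 := (hπL _).2 (hLΓ _ (inv_mem hβ) l hl)
      rw [← hπL]
      simp only [map_mul, map_inv, map_pow, h1, h2, mul_one, ← pow_succ, inv_mul_cancel]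
    · rw [pow_succ, hpow, mul_inv_cancel_left, pow_succ]
      ext y
      simp only [MulAut.mul_apply, MulAut.conj_apply]
      congr 1
      simp only [map_mul, map_inv, MulEquiv.apply_symm_apply, mul_inv_rev]
      group

/-- Elements of the chief stabilizer are centralized by `Γ` modulo the derived group. -/
theorem central_of_nondeg [Fintype G] (h : Ctx Γ q f) {L E L0 : Subgroup G} [L.Normal] [E.Normal]
    (hC : Chief Γ L E L0) (hGL : commutator G ≤ L) (hLG : L ≤ commutator G)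
    (hLΓ : ∀ α ∈ Γ, ∀ l ∈ L, α l ∈ L) {p : ℕ} [Fact p.Prime] {c : E →* ℂˣ} (hc : c ∈ chars E L0)
    (hc1 : c ≠ 1) (hexp : ∀ x : L, ((x : G) ^ p) ∈ E) (hexp0 : ∀ e : E, ((e : G) ^ p) ∈ L0)
    (hLE : ∀ x ∈ L, ∀ y ∈ L, ⁅x, y⁆ ∈ E)
    (hnd : ∀ x : L, (x : G) ∉ E → ∃ y : L, pair hLE c x y ≠ 1) {n : ℕ} (hn : E.relIndex L = p ^ n)
    {S : Subgroup G} (hLS : L ≤ S) (hpS : p.Coprime S.index) (hScent : ∀ α ∈ Γ, ∀ s ∈ S, α s * s⁻¹ ∈ L)
    {z : G} (hz : z ∈ inertia E (lc c)) {α : MulAut G} (hα : α ∈ Γ) : α z * z⁻¹ ∈ L := by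
  classical
  haveI := hC.normal
  have := Fintype.ofFinite L
  have hEL : E ≤ L := hC.eq ▸ Subgroup.commutator_le_self L
  set T := inertia E (lc c) with hT
  have hLT : L ≤ T := fun l hl => mem_inertia_lc.2 fun a => hC.fixed_by_L hc l hl a _ (MulAut.conjNormal_apply l a)
  have hTinv := (hC.stab h hGL hLG hc hc1 hc).2
  have hnorm : ∀ e : E, ‖(c e : ℂ)‖ = 1 := fun e => by
    haveI : Finite E := inferInstance
    have h1 : ((c e : ℂ)) ^ Nat.card E = 1 := by
      rw [← Units.val_pow_eq_pow_val, ← map_pow, pow_card_eq_one', map_one, Units.val_one]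
    exact Complex.norm_eq_one_of_pow_eq_one h1 Nat.card_pos.ne'
  obtain ⟨φ, hφ, hφE⟩ := exists_over_central hEL c (hC.fixed_by_L hc)
  obtain ⟨hφ0, hφsq⟩ := values_of_nondeg hEL hφ hφE hnorm hLE hnd
  obtain ⟨d, -, hd⟩ := isIrrCharacter_apply_one hφ
  have hd0 : φ 1 ≠ 0 := isIrrCharacter_apply_one_ne_zero hφ
  -- the same inertia
  have hTφ : T ≤ inertia L φ := by
    intro t ht
    rw [mem_inertia_iff]
    intro x
    by_cases hx : (x : G) ∈ E
    · have hx' : t * (x : G) * t⁻¹ ∈ E := ‹E.Normal›.conj_mem _ hx t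
      have e1 : φ ⟨t * x * t⁻¹, ‹L.Normal›.conj_mem x x.2 t⟩ = φ 1 * (c ⟨_, hx'⟩ : ℂ) := hφE ⟨_, hx'⟩
      have e2 : φ x = φ 1 * (c ⟨x, hx⟩ : ℂ) := hφE ⟨x, hx⟩
      rw [e1, e2]
      refine congrArg (fun u : ℂˣ => φ 1 * (u : ℂ)) ?_
      refine (congrArg c (Subtype.ext ?_)).trans (mem_inertia_lc.1 ht ⟨x, hx⟩)
      simp [MulAut.conjNormal_apply]
    · rw [hφ0 x hx, hφ0 _ (fun hh => hx (by
        have := ‹E.Normal›.conj_mem _ hh t⁻¹
        simpa [mul_assoc] using this))]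
  set π := QuotientGroup.mk' L with hπ
  have hπL : ∀ x, π x = 1 ↔ x ∈ L := fun x => QuotientGroup.eq_one_iff x
  let _ : CommGroup (G ⧸ L) := { (inferInstance : Group (G ⧸ L)) with
    mul_comm := fun a b => by
      induction a using QuotientGroup.induction_on with
      | H a =>
        induction b using QuotientGroup.induction_on with
        | H b =>
          rw [← commutatorElement_eq_one_iff_mul_comm, ← QuotientGroup.mk'_apply,
            ← QuotientGroup.mk'_apply, ← map_commutatorElement]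
          exact (QuotientGroup.eq_one_iff _).2 (mul_inv_mem_comm hGL a b) }
  let H : Subgroup G :=
    { carrier := {t | t ∈ T ∧ ∃ m : ℕ, p.Coprime m ∧ π t ^ m = 1}
      one_mem' := ⟨one_mem T, 1, Nat.coprime_one_right p, by simp⟩
      mul_mem' := fun {a b} ⟨ha, m, hm, ha'⟩ ⟨hb, m', hm', hb'⟩ => ⟨mul_mem ha hb, m * m', hm.mul_right hm', by
        rw [map_mul, mul_pow, pow_mul, ha', mul_comm m, pow_mul, hb', one_pow, one_pow, one_mul]⟩
      inv_mem' := fun {a} ⟨ha, m, hm, ha'⟩ => ⟨inv_mem ha, m, hm, by rw [map_inv, inv_pow, ha', inv_one]⟩ }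
  have hLH : L ≤ H := fun l hl => ⟨hLT hl, 1, Nat.coprime_one_right p, by rw [pow_one]; exact (hπL l).2 hl⟩
  haveI hHn : H.Normal := Subgroup.Normal.of_commutator_le _ (hGL.trans hLH)
  have := Fintype.ofFinite H
  have hHT : H ≤ T := fun x hx => hx.1
  have hrel : p.Coprime (L.relIndex H) := by
    rw [(Fact.out : p.Prime).coprime_iff_not_dvd]
    intro hdvd
    obtain ⟨x, hx⟩ := exists_prime_orderOf_dvd_card' (G := H ⧸ L.subgroupOf H) p hdvd
    obtain ⟨⟨x, hxT, m, hm, hxm⟩, rfl⟩ := QuotientGroup.mk'_surjective (L.subgroupOf H) x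
    have hdm : p ∣ m := by
      rw [← hx, orderOf_dvd_iff_pow_eq_one, ← map_pow]
      refine (QuotientGroup.eq_one_iff _).2 ?_
      rw [Subgroup.mem_subgroupOf]
      simpa using (hπL _).1 (by rw [map_pow]; exact hxm : π (x ^ m) = 1)
    exact (Fact.out : p.Prime).ne_one (Nat.eq_one_of_dvd_coprimes hm dvd_rfl hdm)
  -- the determinantal order
  have hdet : Cfsg.detOrder φ ∣ p * p := by
    obtain ⟨k, ρ, hρ, hρφ⟩ := hφ
    rw [Cfsg.detOrder, orderOf_dvd_iff_pow_eq_one]
    funext x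
    obtain ⟨δ, hδ⟩ := CharDet73.exists_det (isCharacter_of_rep ρ)
    rw [Pi.pow_apply, ← hρφ, ← hδ, ← Units.val_pow_eq_pow_val, ← map_pow, hδ, CharDet73.detChar_rep]
    have hmem : (((x ^ (p * p) : L) : G)) ∈ L0 := by
      rw [Subgroup.coe_pow, pow_mul]
      exact hexp0 ⟨_, hexp x⟩
    have h1 : φ (x ^ (p * p)) = φ 1 := by
      have h2 := hφE ⟨_, hC.le hmem⟩
      rw [hc ⟨_, hC.le hmem⟩ hmem, Units.val_one, mul_one] at h2
      exact h2
    rw [← hρφ] at h1
    rw [(mem_charKer_rep ρ).1 h1, map_one]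
    rfl
  have hdp : d ∣ p ^ n := by
    refine ⟨d, ?_⟩
    rw [hd, hn] at hφsq
    exact_mod_cast hφsq.symm
  obtain ⟨ψ, hψ, hres, huniq⟩ := exists_ext L H hLH hφ hd (hHT.trans hTφ) (by
    refine Nat.Coprime.coprime_dvd_right (Nat.mul_dvd_mul hdet hdp) ?_
    exact (Nat.Coprime.mul_left (Nat.Coprime.mul_left hrel hrel) (hrel.pow_left n)).symm)
  have hnl : NL φ := by
    obtain ⟨a, ha⟩ : ∃ a, c a ≠ 1 := by
      by_contra hh; push Not at hh; exact hc1 (MonoidHom.ext hh)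
    refine NL.of_ne_on_commutator hφ (a := ⟨a, hEL a.2⟩) (hLG (hEL a.2)) fun e => ha (Units.ext ?_)
    rw [hφE a] at e
    exact (mul_eq_left₀ hd0).1 e
  have hcent : ∀ t ∈ H, α t * t⁻¹ ∈ L := fun t ht => by
    refine central h L H hGL hLH hLΓ hφ hnl ?_ hψ hres ?_ hα ht
    · rintro β hβ - s ⟨hs, m, hm, hsm⟩
      refine ⟨hTinv β hβ s hs, m, hm, ?_⟩
      rw [← map_pow, hπL, ← map_pow]
      exact hLΓ β hβ _ ((hπL _).1 (by rw [map_pow]; exact hsm))
    · intro m hm t s hst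
      let e : H ≃* H := MulAut.conjNormal m
      have he : ∀ a : L, ψ (e ⟨a, hLH a.2⟩) = φ a := fun a => by
        have h1 := (mem_inertia_iff L).1 hm a
        rw [← h1, ← hres]
        exact congrArg ψ (Subtype.ext (MulAut.conjNormal_apply m _))
      rw [show s = e t from Subtype.ext (hst.trans (MulAut.conjNormal_apply m t).symm)]
      exact huniq e he t
  -- split off the `p`-part
  obtain ⟨a, m, hm, ham⟩ := Nat.exists_eq_pow_mul_and_not_dvd (orderOf_pos (π z)).ne' p (Fact.out : p.Prime).ne_one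
  have hzH : z ^ p ^ a ∈ H := ⟨pow_mem hz _, m, (Fact.out : p.Prime).coprime_iff_not_dvd.2 hm, by
    rw [map_pow, ← pow_mul, ← ham, pow_orderOf_eq_one]⟩
  have hzS : z ^ S.index ∈ S := by
    haveI : S.Normal := Subgroup.Normal.of_commutator_le _ (hGL.trans hLS)
    exact Subgroup.pow_index_mem S z
  have k1 := (hπL _).2 (hcent _ hzH)
  have k2 := (hπL _).2 (hScent α hα _ hzS)
  rw [map_mul, map_inv, map_pow, map_pow, map_pow, ← inv_pow, ← mul_pow, ← map_inv, ← map_mul] at k1 k2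
  exact (hπL _).1 (pow_gcd_of _ (hpS.pow_left a) k1 k2)

/-- The nondegenerate case is impossible. -/
theorem false_of_nondeg [Fintype G] (h : Ctx Γ q f) {L E L0 : Subgroup G} [L.Normal] [E.Normal]
    (hC : Chief Γ L E L0) (hGL : commutator G ≤ L) (hLG : L ≤ commutator G)
    (hLΓ : ∀ α ∈ Γ, ∀ l ∈ L, α l ∈ L) {p : ℕ} (hp : p.Prime) {c0 : E →* ℂˣ} (hc0 : c0 ∈ chars E L0)
    (hc01 : c0 ≠ 1) (hexp0 : ∀ e : E, ((e : G) ^ p) ∈ L0)
    (hLE : ∀ x ∈ L, ∀ y ∈ L, ⁅x, y⁆ ∈ E)
    (hnd : ∀ c ∈ chars E L0, c ≠ 1 → ∀ x : L, (x : G) ∉ E → ∃ y : L, pair hLE c x y ≠ 1)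
    {S : Subgroup G} (hS : ∀ lam : L →* ℂˣ, lam ≠ 1 → inertia L (lc lam) = S) (hLS : L ≤ S)
    (hScop : f.Coprime S.index) (hScent : ∀ α ∈ Γ, ∀ s ∈ S, α s * s⁻¹ ∈ L)
    {r : G} (hrq : r ^ q = 1) {α0 : MulAut G} (hα0 : α0 ∈ Γ) (hr0 : α0 r * r⁻¹ ∉ L) : False := by
  classical
  haveI := Fact.mk hp
  haveI := hC.normal
  have := Fintype.ofFinite L
  have hEL : E ≤ L := hC.eq ▸ Subgroup.commutator_le_self L
  haveI : Finite (L →* ℂˣ) := Finite.of_equiv _ (CharBasicLinear.linearEquiv L).symm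
  haveI : Finite (E →* ℂˣ) := Finite.of_equiv _ (CharBasicLinear.linearEquiv E).symm
  have hLne : ∃ x : L, (x : G) ∉ E := by
    by_contra hh
    push Not at hh
    have hEeq : E = L := le_antisymm hEL fun x hx => hh ⟨x, hx⟩
    refine hC.ne (le_antisymm hC.le fun x hx => hC.mem_of_forall hc0 hc01 (e := ⟨x, hx⟩) fun α hα => ?_)
    have hx' : α x ∈ (⁅L, L⁆ : Subgroup G) := hC.eq ▸ hC.inv α hα x hx
    have key : (⁅L, L⁆ : Subgroup G) ≤ L0 := Subgroup.commutator_le.2 fun a ha b hb =>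
      hC.cent a ha b (hEeq.symm ▸ hb)
    exact hc0 _ (key hx')
  obtain ⟨x1, hx1⟩ := hLne
  -- exponents
  have hexp : ∀ x : L, ((x : G) ^ p) ∈ E := by
    intro x
    by_contra hh
    obtain ⟨y, hy⟩ := hnd c0 hc0 hc01 (x ^ p) (by simpa using hh)
    refine hy ?_
    have hpow : ∀ k : ℕ, pair hLE c0 (x ^ k) y = pair hLE c0 x y ^ k := by
      intro k
      induction k with
      | zero => rw [pow_zero, pow_zero]; exact pair_one_left hLE c0 y
      | succ k ih => rw [pow_succ, pair_mul_left hLE c0 (hC.fixed_by_L hc0), ih, ← pow_succ']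
    rw [hpow, pair, ← map_pow]
    exact hc0 _ (by rw [Subgroup.coe_pow]; exact hexp0 ⟨_, _⟩)
  have hTop : ∀ ν : L →* ℂˣ, ν ∈ (⊤ : Subgroup (L →* ℂˣ)) → ν ^ p = 1 := fun ν _ => MonoidHom.ext fun x => by
    rw [MonoidHom.pow_apply, ← map_pow, MonoidHom.one_apply]
    exact eq_one_on_commutator ν (hC.eq ▸ (by simpa using hexp x))
  obtain ⟨n, hn⟩ := isLinear_pgroup (⊤ : Subgroup (L →* ℂˣ)) hTop
  obtain ⟨e, he⟩ := isLinear_pgroup (chars E L0) fun c hc => MonoidHom.ext fun x => by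
    rw [MonoidHom.pow_apply, ← map_pow, MonoidHom.one_apply]
    exact hc _ (by rw [Subgroup.coe_pow]; exact hexp0 x)
  have hcardV : Nat.card (L →* ℂˣ) = p ^ n := by rw [← hn]; exact (Nat.card_congr Subgroup.topEquiv.toEquiv).symm
  have hrelEL : E.relIndex L = p ^ n := by
    rw [← hcardV, card_hom_units, ← subgroupOf_commutator, ← hC.eq]
    rfl
  -- `|X| < |V|`
  have hlt : p ^ e < p ^ n := by
    rw [← he, ← hcardV]
    let Φ : chars E L0 → (L →* ℂˣ) := fun c =>
      { toFun := fun y => pair hLE (c : E →* ℂˣ) x1 y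
        map_one' := pair_one_right hLE _ x1
        map_mul' := fun y y' => pair_mul_right hLE _ (hC.fixed_by_L c.2) x1 y y' }
    have hΦ : Function.Injective Φ := by
      intro a b eab
      by_contra hne
      have hne' : (a : E →* ℂˣ) * (b : E →* ℂˣ)⁻¹ ≠ 1 := fun h' => hne (Subtype.ext (mul_inv_eq_one.1 h'))
      obtain ⟨y, hy⟩ := hnd _ (mul_mem a.2 (inv_mem b.2)) hne' x1 hx1
      refine hy ?_
      have h1 : pair hLE (a : E →* ℂˣ) x1 y = pair hLE (b : E →* ℂˣ) x1 y := DFunLike.congr_fun eab y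
      rw [pair, MonoidHom.mul_apply, MonoidHom.inv_apply, mul_inv_eq_one]
      exact h1
    refine lt_of_le_of_ne (Nat.card_le_card_of_injective Φ hΦ) fun heq => hx1 ?_
    have hsurj := (hΦ.bijective_of_nat_card_le heq.ge).2
    refine hC.eq ▸ mem_commutator_of_linear fun ν => ?_
    obtain ⟨c, rfl⟩ := hsurj ν
    show c.1 _ = 1
    rw [← map_one c.1]
    exact congrArg c.1 (Subtype.ext (by simp))
  have hV1 : 2 ≤ p ^ n := by
    have := Nat.one_le_pow e p hp.pos
    omega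
  have hn0 : n ≠ 0 := fun h' => by rw [h', pow_zero] at hV1; omega
  have hSdvd : S.index ∣ p ^ n - 1 := by
    have := index_dvd_card_sub_one L (⊤ : Subgroup (L →* ℂˣ)) (fun _ _ _ => Subgroup.mem_top _) S
      fun ν _ hν => hS ν hν
    rwa [hn] at this
  have hpS : p.Coprime S.index := by
    rw [hp.coprime_iff_not_dvd]
    intro hd
    have h1 := Nat.dvd_sub (dvd_pow_self p hn0) (hd.trans hSdvd)
    rw [Nat.sub_sub_self (Nat.one_le_pow n p hp.pos)] at h1
    exact hp.not_dvd_one h1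
  set T := inertia E (lc c0) with hT
  have hST : S ≤ T := le_inertia_chief hC hS hc0
  have hTall : ∀ c ∈ chars E L0, c ≠ 1 → inertia E (lc c) = T := fun c hc hc1 =>
    le_antisymm (hC.stab h hGL hLG hc hc1 hc0).1 (hC.stab h hGL hLG hc0 hc01 hc).1
  have hTdvd : T.index ∣ p ^ e - 1 := by
    rw [← he]
    refine index_dvd_card_sub_one E (chars E L0) (fun g c hc x hx => hc _ ?_) T hTall
    show ((MulAut.conjNormal g x : E) : G) ∈ L0
    rw [MulAut.conjNormal_apply]; exact hC.normal.conj_mem _ hx g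
  have hTdvd' : T.index ∣ p ^ n - 1 := (Subgroup.index_dvd_of_le hST).trans hSdvd
  have he0 : 0 < e := by
    rcases Nat.eq_zero_or_pos e with rfl | he0
    · rw [pow_zero, Nat.card_eq_one_iff_unique] at he
      haveI := he.1
      exact absurd (congrArg Subtype.val (Subsingleton.elim (⟨c0, hc0⟩ : chars E L0) 1)) hc01
    · exact he0
  refine gcd_false hp.two_le he0 ((Nat.pow_lt_pow_iff_right hp.one_lt).1 hlt) hTdvd' hTdvd ?_
  by_contra hsmall
  push Not at hsmall
  haveI : T.Normal := Subgroup.Normal.of_commutator_le _ ((hGL.trans hLS).trans hST)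
  haveI : S.Normal := Subgroup.Normal.of_commutator_le _ (hGL.trans hLS)
  have hcentT : ∀ z ∈ T, ∀ α ∈ Γ, α z * z⁻¹ ∈ L := fun z hz α hα =>
    central_of_nondeg h hC hGL hLG hLΓ hc0 hc01 hexp hexp0 hLE (hnd c0 hc0 hc01) hrelEL hLS hpS hScent hz hα
  -- the correctors
  have hnl : ∀ lam : L →* ℂˣ, lam ≠ 1 → NL (lc lam) := fun lam hlam => by
    obtain ⟨a, ha⟩ : ∃ a, lam a ≠ 1 := by
      by_contra hh; push Not at hh; exact hlam (MonoidHom.ext hh)
    exact NL.of_ne_on_commutator (isIrrCharacter_linear lam) (hLG a.2) fun e => ha (Units.ext (by simpa [lc] using e))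
  have hcorr : ∀ lam : L →* ℂˣ, lam ≠ 1 → ∃ m : G, Fix (α0 * MulAut.conj m) (lc lam) := fun lam hlam =>
    exists_fix h L hLΓ (θ := lc lam) (isIrrCharacter_linear lam) (hnl lam hlam) hα0
  have hrep : ∀ t : G ⧸ T, ∃ m : G, QuotientGroup.mk' T m = t ∧
      ∀ m' : G, QuotientGroup.mk' T m' = t → ∀ lam : L →* ℂˣ, lam ≠ 1 →
        Fix (α0 * MulAut.conj m') (lc lam) →
          ∃ mu : L →* ℂˣ, mu ≠ 1 ∧ Fix (α0 * MulAut.conj m) (lc mu) := by
    intro t
    by_cases hex : ∃ m : G, QuotientGroup.mk' T m = t ∧ ∃ mu : L →* ℂˣ, mu ≠ 1 ∧ Fix (α0 * MulAut.conj m) (lc mu)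
    · obtain ⟨m, hm, hm'⟩ := hex
      exact ⟨m, hm, fun _ _ _ _ _ => hm'⟩
    · obtain ⟨m, hm⟩ := QuotientGroup.mk'_surjective T t
      exact ⟨m, hm, fun m' hm' lam hlam hfix => absurd ⟨m', hm', lam, hlam, hfix⟩ hex⟩
  choose rep hrep1 hrep2 using hrep
  have hFixeq : ∀ (β β' : MulAut G) (lam : L →* ℂˣ), (∀ a ∈ L, β a ∈ L) → Fix β (lc lam) →
      Fix β' (lc lam) → ∀ x : G, β' = β * MulAut.conj x → x ∈ inertia L (lc lam) := by
    intro β β' lam hβL hβ hβ' x hx
    rw [mem_inertia_lc]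
    intro a
    have hb : β (x * a * x⁻¹) ∈ L := hβL _ (‹L.Normal›.conj_mem a a.2 x)
    have e1 := fix_lc.1 hβ (MulAut.conjNormal x a) ⟨_, hb⟩ (by simp [MulAut.conjNormal_apply])
    have e2 := fix_lc.1 hβ' a ⟨_, hb⟩ (by rw [hx, MulAut.mul_apply, MulAut.conj_apply])
    exact e1.symm.trans e2
  have hβΓ : ∀ m : G, α0 * MulAut.conj m ∈ Γ := fun m => mul_mem hα0 (h.inner m)
  have hβmul : ∀ m m' : G, α0 * MulAut.conj m' = α0 * MulAut.conj m * MulAut.conj (m⁻¹ * m') := fun m m' => by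
    rw [mul_assoc, ← map_mul, mul_inv_cancel_left]
  -- two correctors in one coset
  have hsame : ∀ (m m' : G) (lam mu : L →* ℂˣ), lam ≠ 1 → mu ≠ 1 → m⁻¹ * m' ∈ T →
      Fix (α0 * MulAut.conj m) (lc lam) → Fix (α0 * MulAut.conj m') (lc mu) → m⁻¹ * m' ∈ S := by
    intro m m' lam mu hlam hmu hz hm hm'
    set z := m⁻¹ * m' with hzd
    set β := α0 * MulAut.conj m with hβ
    have hfixpow : ∀ (γ : MulAut G), γ ∈ Γ → ∀ ν : L →* ℂˣ, Fix γ (lc ν) → ∀ i : ℕ, Fix (γ ^ i) (lc ν) := by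
      intro γ hγ ν hν i
      induction i with
      | zero => exact fun a b e => congrArg (lc ν) (Subtype.ext (by simpa using e))
      | succ i ih =>
        rw [pow_succ]
        exact ih.mul (fun a ha => hLΓ γ hγ a ha) hν
    obtain ⟨g1, hg1⟩ := h.powf β (hβΓ m)
    obtain ⟨g2, hg2⟩ := h.powf (α0 * MulAut.conj m') (hβΓ m')
    have hg1S : g1 ∈ S := by
      have := hfixpow β (hβΓ m) lam hm f
      rw [hg1, fix_conj_iff, hS lam hlam] at this
      exact this
    have hg2S : g2 ∈ S := by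
      have := hfixpow _ (hβΓ m') mu hm' f
      rw [hg2, fix_conj_iff, hS mu hmu] at this
      exact this
    obtain ⟨l, hl, hpow⟩ := pow_mul_conj hLΓ (hβΓ m) (z := z) (hcentT z hz) f
    rw [← hβmul, hg2, hg1, ← map_mul] at hpow
    have hin : g2⁻¹ * (g1 * (z ^ f * l)) ∈ inertia L (lc lam) := by
      rw [← fix_conj_iff, map_mul, ← hpow, ← map_mul, inv_mul_cancel, map_one]
      exact fun a b e => congrArg (lc lam) (Subtype.ext (by simpa using e))
    rw [hS lam hlam] at hin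
    have h1 := mul_mem (mul_mem (inv_mem hg1S) (mul_mem hg2S hin)) (hLS (inv_mem hl))
    rw [show g1⁻¹ * (g2 * (g2⁻¹ * (g1 * (z ^ f * l)))) * l⁻¹ = z ^ f by group] at h1
    have h2 : (QuotientGroup.mk' S z) ^ f = 1 := by rw [← map_pow]; exact (QuotientGroup.eq_one_iff _).2 h1
    have h3 : (QuotientGroup.mk' S z) ^ S.index = 1 := pow_card_eq_one'
    exact (QuotientGroup.eq_one_iff z).1 (pow_gcd_of _ hScop h2 h3)
  -- the fixed groups
  let F : G ⧸ T → Subgroup (L →* ℂˣ) := fun t =>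
    { carrier := {lam | Fix (α0 * MulAut.conj (rep t)) (lc lam)}
      one_mem' := fun _ _ _ => rfl
      mul_mem' := fun {a b} ha hb => fix_lc.2 fun x y e => by
        rw [MonoidHom.mul_apply, MonoidHom.mul_apply, fix_lc.1 ha x y e, fix_lc.1 hb x y e]
      inv_mem' := fun {a} ha => fix_lc.2 fun x y e => by
        rw [MonoidHom.inv_apply, MonoidHom.inv_apply, fix_lc.1 ha x y e] }
  have := Fintype.ofFinite (G ⧸ T)
  have hpairF : ∀ t t', t ≠ t' → ∀ lam, lam ∈ F t → lam ∈ F t' → lam = 1 := by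
    intro t t' hne lam h1 h2
    by_contra hlam
    have hx := hFixeq _ _ lam (hLΓ _ (hβΓ _)) h1 h2 _ (hβmul (rep t) (rep t'))
    rw [hS lam hlam] at hx
    exact hne (by rw [← hrep1 t, ← hrep1 t']; exact QuotientGroup.eq.2 (hST hx))
  refine cover_false (p ^ n) hV1 (fun t => Nat.card (F t)) (fun t => Nat.card_pos) ?_ ?_ ?_ ?_
  · intro t t' hne
    rw [← hcardV, ← Nat.card_prod]
    refine Nat.card_le_card_of_injective (fun x : F t × F t' => (x.1 : L →* ℂˣ) * x.2) ?_
    rintro ⟨a, b⟩ ⟨a', b'⟩ e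
    have e' : (a : L →* ℂˣ) * b = a' * b' := e
    have h1 : (a'⁻¹ : L →* ℂˣ) * a = b' * (b : L →* ℂˣ)⁻¹ :=
      eq_mul_inv_of_mul_eq (G := L →* ℂˣ) ((mul_assoc (a' : L →* ℂˣ)⁻¹ (a : L →* ℂˣ) (b : L →* ℂˣ)).trans ((congrArg (fun u => (a' : L →* ℂˣ)⁻¹ * u) e').trans (inv_mul_cancel_left (a' : L →* ℂˣ) _)))
    have h2 := hpairF t t' hne _ ((F t).mul_mem ((F t).inv_mem a'.2) a.2)
      (h1 ▸ (F t').mul_mem b'.2 ((F t').inv_mem b.2))
    have ha : a = a' := Subtype.ext (inv_mul_eq_one.1 h2).symm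
    subst ha
    exact Prod.ext rfl (Subtype.ext (mul_left_cancel e'))
  · intro t
    rw [← hcardV]
    refine lt_of_le_of_ne (Subgroup.card_le_card_group (F t)) fun heq => hr0 ?_
    have htop := Subgroup.eq_top_of_card_eq _ heq
    set β := α0 * MulAut.conj (rep t) with hβ
    have hall : ∀ lam : L →* ℂˣ, Fix β (lc lam) := fun lam => (htop ▸ Subgroup.mem_top lam : lam ∈ F t)
    set π := QuotientGroup.mk' L with hπ
    have hπL : ∀ x, π x = 1 ↔ x ∈ L := fun x => QuotientGroup.eq_one_iff x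
    have hw : β r * r⁻¹ ∈ S := by
      have hV : Nontrivial (L →* ℂˣ) := Finite.one_lt_card_iff_nontrivial.1 (by rw [hcardV]; omega)
      obtain ⟨lam, hlam⟩ := exists_ne (1 : L →* ℂˣ)
      rw [← hS lam hlam, mem_inertia_lc]
      intro a
      set y : L := (MulAut.conjNormal r).symm a with hy
      have hay : MulAut.conjNormal r y = a := (MulAut.conjNormal r).apply_symm_apply a
      have hb : β.symm y ∈ L := hLΓ _ (inv_mem (hβΓ _)) y y.2
      set u : L := ⟨β.symm y, hb⟩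
      have k1 := fix_lc.1 (hall lam) (MulAut.conjNormal r u) (MulAut.conjNormal (β r) y)
        (by simp [u, MulAut.conjNormal_apply, map_mul, map_inv])
      have k2 := fix_lc.1 (hall (lam.comp (MulAut.conjNormal r).toMonoidHom)) u y (by simp [u])
      simp only [MonoidHom.comp_apply, MulEquiv.coe_toMonoidHom] at k2
      rw [map_mul, MulAut.mul_apply, show MulAut.conjNormal r⁻¹ a = y by rw [map_inv]; rfl, k1, ← k2, hay]
    have hmod : π (β r) = π (α0 r) := by
      rw [← mul_inv_eq_one, ← map_inv, ← map_mul, hπL, hβ, MulAut.mul_apply, MulAut.conj_apply, ← map_inv α0,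
        ← map_mul α0]
      exact hLΓ _ hα0 _ (by
        rw [← commutatorElement_def]
        exact hGL (Subgroup.commutator_mem_commutator (Subgroup.mem_top _) (Subgroup.mem_top _)))
    set z := α0 r * r⁻¹ with hz
    have hzS : z ∈ S := by
      have h1 : z * (β r * r⁻¹)⁻¹ ∈ L := by
        rw [← hπL, map_mul, map_inv, map_mul, map_mul, map_inv, hmod, mul_inv_cancel]
      have := mul_mem (hLS h1) hw
      rwa [inv_mul_cancel_right] at this
    have hzq : π z ^ q = 1 := by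
      rw [hz, map_mul, map_inv]
      have hc : Commute (π (α0 r)) (π r)⁻¹ := by
        refine Commute.inv_right (commutatorElement_eq_one_iff_mul_comm.1 ?_)
        rw [← map_commutatorElement, hπL]
        exact mul_inv_mem_comm hGL _ _
      rw [hc.mul_pow, inv_pow, ← map_pow, ← map_pow, ← map_pow, hrq, map_one, map_one, inv_one, mul_one]
    have hzfix : π (α0 z) = π z := by
      have := (hπL _).2 (hScent α0 hα0 z hzS)
      rwa [map_mul, map_inv, mul_inv_eq_one] at this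
    have hpow : ∀ i : ℕ, π ((α0 ^ i) r) = π z ^ i * π r := by
      intro i
      induction i with
      | zero => simp
      | succ i ih =>
        have h1 : π ((α0 ^ i) r * (z ^ i * r)⁻¹) = 1 := by
          rw [map_mul, map_inv, map_mul, map_pow, ih, mul_inv_cancel]
        have h2 := (hπL _).2 (hLΓ α0 hα0 _ ((hπL _).1 h1))
        simp only [map_mul, map_inv, map_pow] at h2
        rw [mul_inv_eq_one] at h2
        have h3 : π (α0 r) = π z * π r := by rw [← map_mul, hz, inv_mul_cancel_right]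
        rw [pow_succ', MulAut.mul_apply, h2, hzfix, h3, pow_succ, mul_assoc]
    obtain ⟨g, hg⟩ := h.powf α0 hα0
    have hf : π z ^ f = 1 := by
      have h1 := hpow f
      rw [hg, MulAut.conj_apply] at h1
      have h2 : π (g * r * g⁻¹) = π r := by
        rw [← mul_inv_eq_one, ← map_inv, ← map_mul, hπL, ← commutatorElement_def]
        exact mul_inv_mem_comm hGL _ _
      rw [h2] at h1
      exact mul_eq_right.1 h1.symm
    exact (hπL z).1 (pow_gcd_of _ h.copfq hf hzq)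
  · -- covering
    let T' : {lam : L →* ℂˣ // lam ≠ 1} → Σ t : G ⧸ T, {mu : F t // mu ≠ 1} := fun lam =>
      let m := (hcorr lam.1 lam.2).choose
      ⟨QuotientGroup.mk' T m, ⟨⟨lam.1, by
        have hm := (hcorr lam.1 lam.2).choose_spec
        obtain ⟨mu, hmu, hmufix⟩ := hrep2 _ m rfl lam.1 lam.2 hm
        set ρ := rep (QuotientGroup.mk' T m) with hρ
        have hzT : ρ⁻¹ * m ∈ T := QuotientGroup.eq.1 (hρ ▸ hrep1 (QuotientGroup.mk' T m))
        have hzS := hsame ρ m mu lam.1 hmu lam.2 hzT hmufix hm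
        rw [← hS lam.1 lam.2, ← fix_conj_iff] at hzS
        have hinv : Fix (MulAut.conj (ρ⁻¹ * m))⁻¹ (lc lam.1) := by
          rw [← map_inv, fix_conj_iff]
          exact inv_mem (fix_conj_iff.1 hzS)
        have := hm.mul (β := (MulAut.conj (ρ⁻¹ * m))⁻¹)
          (fun a ha => by rw [← map_inv, MulAut.conj_apply]; exact ‹L.Normal›.conj_mem a ha _) hinv
        rw [hβmul ρ m, mul_inv_cancel_right] at this
        exact this⟩, fun h' => lam.2 (congrArg Subtype.val h')⟩⟩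
    have hT' : Function.Injective T' := fun a b e => Subtype.ext
      (congrArg (fun s : Σ t : G ⧸ T, {mu : F t // mu ≠ 1} => ((s.2.1 : F s.1) : L →* ℂˣ)) e)
    have hle := Nat.card_le_card_of_injective T' hT'
    have hsub : ∀ (α : Type u) [Finite α] (a : α), Nat.card {x : α // x ≠ a} = Nat.card α - 1 := by
      intro α _ a
      have := Fintype.ofFinite α
      rw [Nat.card_eq_fintype_card, Nat.card_eq_fintype_card, Fintype.card_subtype_compl, Fintype.card_subtype_eq]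
    rw [hsub, hcardV, Nat.card_sigma] at hle
    refine hle.trans (Finset.sum_le_sum fun t _ => ?_)
    exact (hsub _ _).le
  · rw [← Nat.card_eq_fintype_card]
    exact hsmall

end Cfsg.Agent.NonDiv9
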