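import Mathlib
import Cfsg.Agent.S4456
import Cfsg.Agent.Lib.FrobeniusNilpotent
import Cfsg.Agent.Lib.CoprimeAction
import Cfsg.Agent.Lib.NonDiv9Case
import Cfsg.Agent.Lib.NonDiv9Nondeg

/-!
The kernel group: all nonlinear irreducible characters have the same degree.
-/

set_option autoImplicit false
open Cfsg

namespace Cfsg.Agent.NonDiv9

open Cfsg.Agent.CharBasic Cfsg.Agent.CharBasicOrth Cfsg.Agent.CharBasicDecomp Cfsg.Agent.CharBasicLinear
open Cfsg.Agent.CharInduced
open scoped commutatorElement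

universe u

variable {G : Type u} [Group G] {Γ : Subgroup (MulAut G)} {q f : ℕ}

theorem exists_fixed_mod_commutator [Finite G] {M : Subgroup G} (hq : q.Prime) (hMq : (Nat.card M).Coprime q)
    (hGM : commutator G ≤ M) {r : G} (hrq : r ^ q = 1) (g : G) :
    ∃ b, r * b = b * r ∧ g * b⁻¹ ∈ commutator G := by
  obtain ⟨c, hc, hck⟩ := CoprimeAction.exists_fixed_mem_coset_zpowers (a := r) (D := commutator G)
    (by rw [Subgroup.normalizer_eq_top]; exact Subgroup.mem_top r)
    (Nat.Coprime.coprime_dvd_left (orderOf_dvd_of_pow_eq_one hrq)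
      (hMq.coprime_dvd_left (Subgroup.card_dvd_of_le hGM)).symm) g (by
    have h := Subgroup.commutator_mem_commutator (Subgroup.mem_top g⁻¹) (Subgroup.mem_top r)
    rw [commutatorElement_def, inv_inv] at h
    exact h)
  refine ⟨c, hc, ?_⟩
  have h := (inferInstance : (commutator G).Normal).conj_mem _ (inv_mem hck) c
  simpa [mul_assoc] using h

/-- All nonlinear degrees of the kernel group agree. -/
theorem kernel_degrees [Fintype G] (h : Ctx Γ q f) (K : Subgroup G) [K.Normal] {k : ℕ}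
    (hK : K.index = q ^ k) (hmove : ∃ α ∈ Γ, ∃ x : G, α x * x⁻¹ ∉ K)
    {χ ψ : G → ℂ} (hχ : IsIrrCharacter G χ) (hψ : IsIrrCharacter G ψ) (hχ1 : χ 1 ≠ 1) (hψ1 : ψ 1 ≠ 1) :
    χ 1 = ψ 1 := by
  classical
  obtain ⟨M, hMn, hMq, j, hj⟩ := S4456.result q h.prime fun x hx =>
    (h.deg _ x.2 _ (CharAverage.irr_apply_one x) hx).1
  have := Fintype.ofFinite M
  by_cases hna : ∃ x ∈ M, ∃ y ∈ M, x * y ≠ y * x
  swap
  · push Not at hna
    have hpow : ∀ x : G → ℂ, IsIrrCharacter G x → ∃ i : ℕ, x 1 = ((q ^ i : ℕ) : ℂ) := by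
      intro x hx
      obtain ⟨θ, hθ, hne⟩ := exists_constituent (isCharacter_res M (isCharacter_of_isIrrCharacter hx))
        (fun h' => isIrrCharacter_apply_one_ne_zero hx (by simpa using congrFun h' 1))
      obtain ⟨m, d, hd, hxd, hm⟩ := CharProjDegree.degree_dvd M hx hθ hne
      have hd1 := apply_one_eq_one_of_comm (fun a b => Subtype.ext (hna a a.2 b b.2)) hθ
      rw [hd, Nat.cast_eq_one] at hd1
      obtain ⟨i, -, rfl⟩ := (Nat.dvd_prime_pow h.prime).1 (hj ▸ hm)
      exact ⟨i, by rw [hxd, hd1, one_mul]⟩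
    obtain ⟨a, ha⟩ := hpow χ hχ
    obtain ⟨b, hb⟩ := hpow ψ hψ
    have hz : ∀ i : ℕ, ((q ^ i : ℕ) : ℂ) ≠ 1 → q ^ i ≠ 1 := fun i hi e => hi (by rw [e, Nat.cast_one])
    rcases le_total a b with hab | hab
    · rw [ha, hb, h.nd χ ψ hχ hψ _ _ ha hb (hz a (ha ▸ hχ1)) (hz b (hb ▸ hψ1)) (pow_dvd_pow q hab)]
    · rw [ha, hb, h.nd ψ χ hψ hχ _ _ hb ha (hz b (hb ▸ hψ1)) (hz a (ha ▸ hχ1)) (pow_dvd_pow q hab)]
  have hGM := quotient_comm h M hj hMq hna
  obtain ⟨r, hrq, ⟨α0, hα0, hr0⟩, hfree⟩ := exists_fpf h M hj hMq hGM K hK hmove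
  have hcover := exists_fixed_mod_commutator h.prime hMq hGM hrq
  have := Fintype.ofFinite (commutator G)
  haveI : Group.IsNilpotent (commutator G) :=
    FrobeniusNilpotent.isNilpotent_of_fpf (MulAut.conjNormal r) (fun x hx => Subtype.ext (hfree x x.2 (by
      have e := congrArg Subtype.val hx
      rw [MulAut.conjNormal_apply] at e
      exact mul_inv_eq_iff_eq_mul.1 e))) q h.prime (by rw [← map_pow, hrq, map_one])
  by_cases hL0 : commutator G = ⊥
  · refine absurd (apply_one_eq_one_of_comm (fun a b => commutatorElement_eq_one_iff_mul_comm.1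
      (Subgroup.mem_bot.1 ?_)) hχ) hχ1
    rw [← hL0]
    exact Subgroup.commutator_mem_commutator (Subgroup.mem_top a) (Subgroup.mem_top b)
  obtain ⟨lam0, hlam0⟩ : ∃ lam : commutator G →* ℂˣ, lam ≠ 1 := by
    by_contra hh
    push Not at hh
    refine hL0 (eq_bot_iff.2 (le_of_le_commutator_sup (L := commutator G) le_rfl fun a ha => ?_))
    exact Subgroup.mem_sup_left (mem_commutator_of_linear (a := ⟨a, ha⟩) fun ν => by rw [hh ν]; rfl)
  obtain ⟨S, hSdef⟩ : ∃ S, inertia (commutator G) (lc lam0) = S := ⟨_, rfl⟩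
  have hS : ∀ lam : commutator G →* ℂˣ, lam ≠ 1 → inertia (commutator G) (lc lam) = S := fun lam hlam =>
    (linear_stab h hcover hfree lam lam0 hlam hlam0).trans hSdef
  obtain ⟨-, hdeg0, hcent0⟩ := linear_data h hcover hfree lam0 hlam0
  rw [hSdef] at hdeg0 hcent0
  obtain ⟨χ0, hχ0, hc0⟩ := H74ThreeDeg.exists_over (commutator G) (isIrrCharacter_linear lam0)
  have hχ0S := hdeg0 χ0 hχ0 hc0
  have hS1 : S.index ≠ 1 := fun e => nl_linear lam0 hlam0 χ0 hχ0 hc0 (by rw [hχ0S, e, Nat.cast_one])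
  have hScop := (h.deg χ0 hχ0 _ hχ0S hS1).2
  have hLS : commutator G ≤ S := hSdef ▸ le_inertia _ (isClassFunction_irr (isIrrCharacter_linear lam0))
  have hLΓ : ∀ α ∈ Γ, ∀ l ∈ commutator G, α l ∈ commutator G := fun α _ l hl => commutator_invariant α hl
  by_cases hE : (⁅commutator G, commutator G⁆ : Subgroup G) = ⊥
  · have hdeg : ∀ x : G → ℂ, IsIrrCharacter G x → x 1 ≠ 1 → x 1 = (S.index : ℂ) := by
      intro x hx hx1
      obtain ⟨θ, hθ, hne⟩ := exists_constituent (isCharacter_res (commutator G) (isCharacter_of_isIrrCharacter hx))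
        (fun h' => isIrrCharacter_apply_one_ne_zero hx (by simpa using congrFun h' 1))
      have hθ1 := apply_one_eq_one_of_comm (fun a b : commutator G => Subtype.ext
        (commutatorElement_eq_one_iff_mul_comm.1 (Subgroup.mem_bot.1
          (hE ▸ Subgroup.commutator_mem_commutator a.2 b.2)))) hθ
      obtain ⟨lam, rfl⟩ := exists_hom_of_apply_one_eq_one (isCharacter_of_isIrrCharacter hθ) hθ1
      by_cases hlam : lam = 1
      · subst hlam
        refine absurd (apply_one_of_comm_ker hx fun a b => ?_) hx1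
        have hc := clifford (commutator G) hx hθ hne
        have hv : ∀ φ ∈ orbitFin (commutator G) (fun _ : commutator G => ((1 : ℂˣ) : ℂ)),
            ∀ u : commutator G, φ u = 1 := by
          intro φ hφ u
          obtain ⟨g, rfl⟩ := (mem_orbitFin _).1 hφ
          simp [conjFun]
        have hval : ∀ u : commutator G, x u = x (1 : G) := fun u => by
          have h1 := congrFun hc u
          have h2 := congrFun hc 1
          simp only [Pi.smul_apply, Finset.sum_apply, MonoidHom.one_apply] at h1 h2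
          rw [Finset.sum_congr rfl fun φ hφ => hv φ hφ u] at h1
          rw [Finset.sum_congr rfl fun φ hφ => hv φ hφ 1] at h2
          exact h1.trans h2.symm
        exact hval ⟨_, Subgroup.commutator_mem_commutator (Subgroup.mem_top a) (Subgroup.mem_top b)⟩
      · rw [(linear_data h hcover hfree lam hlam).2.1 x hx hne, hS lam hlam]
    rw [hdeg χ hχ hχ1, hdeg ψ hψ hψ1]
  exfalso
  obtain ⟨E, L0, hC⟩ := exists_chief h.inner (commutator G) hLΓ hE
  haveI : E.Normal := hC.eq ▸ inferInstance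
  obtain ⟨p, hp, c0, hcc, hcc1, hexp0⟩ := hC.exists_char
  have hLE : ∀ x ∈ commutator G, ∀ y ∈ commutator G, ⁅x, y⁆ ∈ E := fun x hx y hy =>
    hC.eq.symm ▸ Subgroup.commutator_mem_commutator hx hy
  by_cases hrad : ∃ c ∈ chars E L0, c ≠ 1 ∧ ∃ x : commutator G, (x : G) ∉ E ∧ ∀ y, pair hLE c x y = 1
  · obtain ⟨c, hc, hc1, x, hx, hy⟩ := hrad
    exact false_of_radical h (commutator G) le_rfl S hS ⟨χ0, hχ0, hχ0S⟩ hS1 E hC.eq c hc1
      (hC.fixed_by_L hc) hLE x hx hy
  push Not at hrad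
  exact false_of_nondeg h hC le_rfl le_rfl hLΓ hp hcc hcc1 hexp0 hLE hrad hS hLS hScop hcent0 hrq hα0
    fun hr => hr0 (hGM hr)

end Cfsg.Agent.NonDiv9
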