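import Mathlib
import Cfsg.Agent.S4811
import Cfsg.Agent.Lib.H74ThreeDegFrob
import Cfsg.Agent.Lib.NonDiv9Class

/-!
The Frobenius top factor: the kernel factor is a `q`-group, and twisting induces degrees.
-/

set_option autoImplicit false
open Cfsg

namespace Cfsg.Agent.NonDiv9

open Cfsg.Agent.CharBasic Cfsg.Agent.CharBasicOrth Cfsg.Agent.CharBasicDecomp Cfsg.Agent.CharBasicLinear
open Cfsg.Agent.CharInduced Cfsg.Agent.H74ThreeDeg
open scoped commutatorElement

universe u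

variable {G : Type u} [Group G]

/-- The minimal abelian section is a `q`-group. -/
theorem relIndex_prime_pow [Finite G] (N K : Subgroup G) [N.Normal] [K.Normal] (hKN : K < N)
    (hmin : ∀ R : Subgroup G, R.Normal → K ≤ R → R ≤ N → R = K ∨ R = N)
    (hcomm : ∀ a ∈ N, ∀ b ∈ N, ⁅a, b⁆ ∈ K) :
    ∃ q : ℕ, q.Prime ∧ (∀ x ∈ N, x ^ q ∈ K) ∧ ∃ j, K.relIndex N = q ^ j := by
  classical
  set q := (K.relIndex N).minFac with hqd
  have hq : q.Prime := Nat.minFac_prime fun h => hKN.not_ge (Subgroup.relIndex_eq_one.1 h)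
  haveI := Fact.mk hq
  set π := QuotientGroup.mk' K with hπ
  have hπK : ∀ x, π x = 1 ↔ x ∈ K := fun x => QuotientGroup.eq_one_iff x
  let R : Subgroup G :=
    { carrier := {x | x ∈ N ∧ π x ^ q = 1}
      one_mem' := ⟨one_mem N, by simp⟩
      mul_mem' := fun {a b} ⟨ha, ha'⟩ ⟨hb, hb'⟩ => ⟨mul_mem ha hb, by
        have hc : Commute (π a) (π b) := commutatorElement_eq_one_iff_mul_comm.1 (by
          rw [← map_commutatorElement, hπK]; exact hcomm a ha b hb)
        rw [map_mul, hc.mul_pow, ha', hb', one_mul]⟩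
      inv_mem' := fun {a} ⟨ha, ha'⟩ => ⟨inv_mem ha, by rw [map_inv, inv_pow, ha', inv_one]⟩ }
  have hRn : R.Normal := ⟨fun x ⟨hx, hx'⟩ g => ⟨‹N.Normal›.conj_mem x hx g, by
    rw [map_mul, map_mul, map_inv, conj_pow, hx', mul_one, mul_inv_cancel]⟩⟩
  rcases hmin R hRn (fun x hx => ⟨hKN.le hx, by rw [(hπK x).2 hx, one_pow]⟩) (fun x hx => hx.1) with h | h
  · exfalso
    obtain ⟨y, hy⟩ := exists_prime_orderOf_dvd_card' (G := N ⧸ K.subgroupOf N) q (Nat.minFac_dvd _)
    obtain ⟨x, rfl⟩ := QuotientGroup.mk'_surjective (K.subgroupOf N) y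
    have h1 : (QuotientGroup.mk' (K.subgroupOf N) x) ^ q = 1 := by
      rw [← hy, pow_orderOf_eq_one]
    rw [← map_pow, QuotientGroup.mk'_apply, QuotientGroup.eq_one_iff, Subgroup.mem_subgroupOf,
      Subgroup.coe_pow, ← hπK, map_pow] at h1
    have h2 : (x : G) ∈ K := h ▸ (show (x : G) ∈ R from ⟨x.2, h1⟩)
    rw [show QuotientGroup.mk' (K.subgroupOf N) x = 1 from (QuotientGroup.eq_one_iff x).2 h2, orderOf_one] at hy
    exact hq.ne_one hy.symm
  · have hpow : ∀ x ∈ N, x ^ q ∈ K := fun x hx => by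
      have hx' : x ∈ R := h.symm ▸ hx
      rw [← hπK, map_pow]
      exact hx'.2
    refine ⟨q, hq, hpow, ?_⟩
    have hP : IsPGroup q (N ⧸ K.subgroupOf N) := fun y => ⟨1, by
      obtain ⟨x, rfl⟩ := QuotientGroup.mk'_surjective (K.subgroupOf N) y
      rw [pow_one, ← map_pow, QuotientGroup.mk'_apply, QuotientGroup.eq_one_iff, Subgroup.mem_subgroupOf,
        Subgroup.coe_pow]
      exact hpow x x.2⟩
    exact IsPGroup.iff_card.1 hP

/-- The index of the kernel is prime to `q`; a character of `q'`-degree has a twist inducing irreducibly. -/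
theorem frobenius_twist [Finite G] (N K : Subgroup G) [N.Normal] [K.Normal] (hKN : K < N)
    (hmin : ∀ R : Subgroup G, R.Normal → K ≤ R → R ≤ N → R = K ∨ R = N)
    (hcomm : ∀ a ∈ N, ∀ b ∈ N, ⁅a, b⁆ ∈ K) (hGN : ∀ a b : G, ⁅a, b⁆ ∈ N)
    (hfpf : ∀ x : G, x ∉ N → ∃ n ∈ N, ⁅x, n⁆ ∉ K)
    {q : ℕ} (hq : q.Prime) (hpow : ∀ x ∈ N, x ^ q ∈ K) :
    N.index.Coprime q ∧ ∀ (θ : N → ℂ) (d : ℕ), IsIrrCharacter N θ → θ 1 = (d : ℂ) → ¬ q ∣ d →
      N.index * d ∈ Cfsg.charDegrees G := by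
  classical
  have := Fintype.ofFinite G
  have := Fintype.ofFinite N
  haveI := Fact.mk hq
  haveI : Finite (N →* ℂˣ) := Finite.of_equiv _ (CharBasicLinear.linearEquiv N).symm
  let A : Subgroup (N →* ℂˣ) :=
    { carrier := {lam | ∀ k : N, (k : G) ∈ K → lam k = 1}
      one_mem' := fun _ _ => rfl
      mul_mem' := fun {u v} hu hv k hk => by rw [MonoidHom.mul_apply, hu k hk, hv k hk, one_mul]
      inv_mem' := fun {u} hu k hk => by rw [MonoidHom.inv_apply, hu k hk, inv_one] }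
  have hexp : ∀ ν ∈ A, ν ^ q = 1 := fun ν hν => MonoidHom.ext fun x => by
    rw [MonoidHom.pow_apply, ← map_pow, MonoidHom.one_apply]
    exact hν _ (by rw [Subgroup.coe_pow]; exact hpow x x.2)
  obtain ⟨i, hi⟩ := isLinear_pgroup A hexp
  have hstab : ∀ ν ∈ A, ν ≠ 1 → ∀ t : G, linConj N t ν = ν → t ∈ N := fun ν hν hν1 t ht =>
    stab_eq N K hKN hmin hcomm hGN hfpf ν hν hν1 ht
  have hinert : ∀ ν ∈ A, ν ≠ 1 → inertia N (lc ν) = N := fun ν hν hν1 => by
    refine le_antisymm (fun t ht => hstab ν hν hν1 t (MonoidHom.ext fun m => ?_))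
      (le_inertia N (isClassFunction_irr (isIrrCharacter_linear ν)))
    rw [linConj_apply]
    exact mem_inertia_lc.1 ht m
  have hdvd : N.index ∣ Nat.card A - 1 := index_dvd_card_sub_one N A (fun g ν hν k hk => hν _ (by
    show ((MulAut.conjNormal g k : N) : G) ∈ K
    rw [MulAut.conjNormal_apply]; exact ‹K.Normal›.conj_mem _ hk g)) N hinert
  obtain ⟨n, hn, hnK⟩ := SetLike.exists_of_lt hKN
  obtain ⟨lam0, hlam0, hlam0n⟩ := S4811.sep (K.subgroupOf N) (fun u v => hcomm u u.2 v v.2) (n := ⟨n, hn⟩) hnK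
  have hA0 : lam0 ∈ A := fun k hk => hlam0 k hk
  have hne0 : lam0 ≠ 1 := fun h => hlam0n (by rw [h]; rfl)
  have hA2 : 2 ≤ Nat.card A := by
    haveI : Nontrivial A := ⟨⟨⟨lam0, hA0⟩, 1, fun h => hne0 (congrArg Subtype.val h)⟩⟩
    exact Finite.one_lt_card
  have hcop : N.index.Coprime q := by
    refine Nat.Coprime.symm (hq.coprime_iff_not_dvd.2 fun hd => ?_)
    have hi0 : i ≠ 0 := by rintro rfl; rw [hi, pow_zero] at hA2; omega
    have h1 := Nat.dvd_sub (dvd_pow_self q hi0) (hd.trans (hi ▸ hdvd))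
    rw [Nat.sub_sub_self (Nat.one_le_pow i q hq.pos)] at h1
    exact hq.not_dvd_one h1
  refine ⟨hcop, fun θ d hθ hd hqd => ?_⟩
  have hU : ∀ ν : N →* ℂˣ, ν ∈ A → (∀ m : N, θ m * (ν m : ℂ) = θ m) → ν = 1 := by
    intro ν hν hfix
    by_contra hne1
    have hker : ν.ker.index ≠ 1 := fun h => hne1 (MonoidHom.ext fun m =>
      MonoidHom.mem_ker.1 ((Subgroup.index_eq_one.1 h) ▸ Subgroup.mem_top m))
    set s := ν.ker.index.minFac with hsd
    have hs : s.Prime := Nat.minFac_prime hker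
    have hsq : s ∣ Nat.card A := by
      haveI := Fact.mk hs
      obtain ⟨⟨_, m, rfl⟩, hy⟩ := exists_prime_orderOf_dvd_card' (G := ν.range) s
        (by rw [← Subgroup.index_ker]; exact Nat.minFac_dvd _)
      rw [← Subgroup.orderOf_coe] at hy
      have h2 : orderOf (⟨ν, hν⟩ : A) ∣ Nat.card A := orderOf_dvd_natCard _
      rw [Subgroup.orderOf_mk] at h2
      refine dvd_trans ?_ h2
      have h3 : orderOf (ν m) ∣ orderOf ν := orderOf_map_dvd (MonoidHom.eval m : (N →* ℂˣ) →* ℂˣ) ν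
      exact hy ▸ h3
    have hsq' : s = q := (Nat.prime_dvd_prime_iff_eq hs hq).1 (hs.dvd_of_dvd_pow (hi ▸ hsq))
    refine hqd (hsq' ▸ S4811.prime_dvd_of_vanish ν.ker hθ hd (fun m hm => ?_) hs (Nat.minFac_dvd _))
    by_contra h0
    exact hm (MonoidHom.mem_ker.2 (Units.ext (mul_left_cancel₀ h0
      (by rw [Units.val_one, mul_one]; exact hfix m))))
  obtain ⟨lam, hl, hlT⟩ : ∃ lam ∈ A, inertia N (fun m => θ m * (lam m : ℂ)) = N := by
    by_contra hh
    push Not at hh
    have hex : ∀ x : A, ∃ t : G, t ∈ inertia N (fun m => θ m * ((x : N →* ℂˣ) m : ℂ)) ∧ t ∉ N := by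
      intro x
      by_contra h'
      push Not at h'
      exact hh _ x.2 (le_antisymm h'
        (le_inertia N (isClassFunction_irr (isIrrCharacter_mul_linear hθ _))))
    choose T hT hTN using hex
    have hAc : ∀ (t : G) (lam : N →* ℂˣ), lam ∈ A → linConj N t lam ∈ A := fun t lam hl k hk => hl _ (by
      show ((MulAut.conjNormal t k : N) : G) ∈ K
      rw [MulAut.conjNormal_apply]; exact ‹K.Normal›.conj_mem _ hk t)
    let F : A → {c : G ⧸ N // c ≠ 1} := fun x =>
      ⟨((T x : G) : G ⧸ N), fun h => hTN x ((QuotientGroup.eq_one_iff _).1 h)⟩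
    have hF : Function.Injective F := by
      intro x y hxy
      have hxy' : ((T y : G) : G ⧸ N) = ((T x : G) : G ⧸ N) := (congrArg Subtype.val hxy).symm
      have hmem : T x ∈ inertia N (fun m => θ m * ((y : N →* ℂˣ) m : ℂ)) := by
        rw [show T x = T y * ((T y)⁻¹ * T x) by group]
        exact Subgroup.mul_mem _ (hT y)
          (le_inertia N (isClassFunction_irr (isIrrCharacter_mul_linear hθ _))
            (QuotientGroup.eq.1 hxy'))
      set t := T x with ht
      have hν1 := hU ((x : N →* ℂˣ) * (linConj N t (x : N →* ℂˣ))⁻¹ * linConj N t (y : N →* ℂˣ) *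
          (y : N →* ℂˣ)⁻¹) (A.mul_mem (A.mul_mem (A.mul_mem x.2 (A.inv_mem (hAc _ _ x.2)))
          (hAc _ _ y.2)) (A.inv_mem y.2)) (fun m => by
        have h1 := (mem_inertia_iff N).1 (hT x) m
        have h2 := (mem_inertia_iff N).1 hmem m
        rw [← ht] at h1
        simp only [MonoidHom.mul_apply, MonoidHom.inv_apply, linConj_apply, Units.val_mul,
          Units.val_inv_eq_inv_val]
        rw [show MulAut.conjNormal t m = (⟨t * m * t⁻¹, ‹N.Normal›.conj_mem (m : G) m.2 t⟩ : N) from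
          Subtype.ext (MulAut.conjNormal_apply t m)]
        generalize (⟨t * m * t⁻¹, _⟩ : N) = c at h1 h2 ⊢
        field_simp
        linear_combination ((y : N →* ℂˣ) c : ℂ) * (-h1) + ((x : N →* ℂˣ) c : ℂ) * h2)
      have hfix : linConj N t ((y : N →* ℂˣ) * (x : N →* ℂˣ)⁻¹) = (y : N →* ℂˣ) * (x : N →* ℂˣ)⁻¹ := by
        refine MonoidHom.ext fun m => ?_
        have h := DFunLike.congr_fun hν1 m
        simp only [MonoidHom.mul_apply, MonoidHom.inv_apply, linConj_apply, MonoidHom.one_apply] at h ⊢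
        rw [mul_inv_eq_one] at h
        rw [← h]
        apply mul_right_cancel (b := ((x : N →* ℂˣ) m))
        rw [mul_assoc, mul_assoc, mul_assoc, inv_mul_cancel, mul_one, mul_comm ((x : N →* ℂˣ) m) ]
        ac_rfl
      by_contra hne
      refine hTN x (hstab _ (A.mul_mem y.2 (A.inv_mem x.2)) (fun h => hne ?_) t hfix)
      rw [mul_inv_eq_one] at h
      exact Subtype.ext h.symm
    have hle := Nat.card_le_card_of_injective F hF
    have hC : Nat.card {c : G ⧸ N // c ≠ 1} = N.index - 1 := by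
      have := Fintype.ofFinite (G ⧸ N)
      rw [Nat.card_eq_fintype_card, Fintype.card_subtype_compl, Fintype.card_subtype_eq,
        ← Nat.card_eq_fintype_card, show Nat.card (G ⧸ N) = N.index from rfl]
    rw [hC] at hle
    have := Nat.le_of_dvd (by omega : 0 < Nat.card A - 1) hdvd
    omega
  have hφ : IsIrrCharacter N (fun m => θ m * (lam m : ℂ)) := isIrrCharacter_mul_linear hθ lam
  have h1 : IsIrrCharacter G (indFun N (fun m => θ m * (lam m : ℂ))) := isIrrCharacter_iff.2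
    ⟨isCharacter_ind N (isCharacter_of_isIrrCharacter hφ), by
      rw [classInner_ind_self N hφ, hlT, div_self (Nat.cast_ne_zero.2 Nat.card_pos.ne')]⟩
  refine ⟨⟨_, h1⟩, S4466.charDegree_eq ?_⟩
  show indFun N (fun m => θ m * (lam m : ℂ)) 1 = _
  rw [ind_one_apply, map_one, Units.val_one, mul_one, hd, Nat.cast_mul]

end Cfsg.Agent.NonDiv9
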