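import Mathlib
import Cfsg.Prelude.Def_FusionSystem
import Cfsg.Prelude.Def_CaseTheorems
import Cfsg.Agent.Lib.FusionSysBasic

/-!
Vocabulary for saturated fusion systems over groups of sectional rank three (S5181, S5182,
S5189): a set `𝔈` of essential subgroups of index `p` with no common nontrivial invariant
subgroup.
-/

set_option autoImplicit false

namespace Cfsg.Agent.Rank3

open Cfsg.FusionSystem Cfsg.Agent.FusionSysBasic

universe u

variable {Ω : Type u} [Group Ω] {S : Subgroup Ω}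

/-- The central elements of order dividing `p` of `P`, as a subgroup of the ambient group. -/
def OmZ (p : ℕ) (P : Subgroup Ω) : Subgroup Ω where
  carrier := {x | x ∈ P ∧ x ^ p = 1 ∧ ∀ y ∈ P, x * y = y * x}
  one_mem' := ⟨P.one_mem, one_pow p, fun y _ => (Commute.one_left y).eq⟩
  mul_mem' {a b} ha hb := ⟨P.mul_mem ha.1 hb.1, by
      rw [(show Commute a b from ha.2.2 b hb.1).mul_pow, ha.2.1, hb.2.1, one_mul],
    fun y hy => (Commute.mul_left (ha.2.2 y hy) (hb.2.2 y hy)).eq⟩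
  inv_mem' {a} ha := ⟨P.inv_mem ha.1, by rw [inv_pow, ha.2.1, inv_one],
    fun y hy => ((show Commute a y from ha.2.2 y hy).inv_left).eq⟩

theorem mem_omZ {p : ℕ} {P : Subgroup Ω} {x : Ω} :
    x ∈ OmZ p P ↔ x ∈ P ∧ x ^ p = 1 ∧ ∀ y ∈ P, x * y = y * x := Iff.rfl

theorem omZ_le {p : ℕ} {P : Subgroup Ω} : OmZ p P ≤ P := fun _ h => h.1

/-- `K` is mapped into itself by every member of `A`. -/
def InvBy {E : Subgroup Ω} (A : Subgroup (MulAut E)) (K : Subgroup Ω) : Prop :=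
  ∀ α ∈ A, ∀ x ∈ K, afun α x ∈ K

/-- `K` is invariant under the automorphisms the system induces on `E`. -/
def Inv (F : FusionSystem S) (E K : Subgroup Ω) : Prop := InvBy (F.autGroup E) K

/-- The subgroup of `Aut_F(E)` generated by its elements of `p`-power order. -/
def opp (F : FusionSystem S) (p : ℕ) (E : Subgroup Ω) : Subgroup (MulAut E) :=
  Subgroup.closure {α | α ∈ F.autGroup E ∧ ∃ k : ℕ, orderOf α = p ^ k}

theorem opp_le (F : FusionSystem S) (p : ℕ) (E : Subgroup Ω) : opp F p E ≤ F.autGroup E :=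
  (Subgroup.closure_le _).mpr fun _ h => h.1

/-- An essential subgroup of index `p`. -/
structure Max (F : FusionSystem S) (p : ℕ) (E : Subgroup Ω) : Prop where
  ess : F.IsEssential p E
  card_eq : Nat.card S = p * Nat.card E
  normal : ∀ g ∈ S, ∀ x ∈ E, cj g x ∈ E

/-- A natural plane of the central elements of order `p` of `E`. -/
structure Plane (F : FusionSystem S) (p : ℕ) (E U : Subgroup Ω) : Prop where
  le : U ≤ OmZ p E
  card : Nat.card U = p ^ 2
  inv : Inv F E U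
  moved : ∀ x ∈ S, x ∉ E → ∃ u ∈ U, cj x u ≠ u
  irred : ∀ L : Subgroup Ω, L ≤ U → InvBy (opp F p E) L → L = ⊥ ∨ L = U
  neg : ∃ j ∈ opp F p E, (∃ k : ℕ, orderOf j = 2 ^ k) ∧ ∀ u ∈ U, afun j u = u⁻¹

/-- A module of order `p ^ 3` on which the elements outside `E` act with a single Jordan block. -/
structure Cubic (F : FusionSystem S) (p : ℕ) (E V : Subgroup Ω) : Prop where
  le : V ≤ OmZ p E
  card : Nat.card V = p ^ 3
  inv : Inv F E V
  notQuad : ∀ x ∈ S, x ∉ E → ∃ v ∈ V, cj x (cj x v * v⁻¹) ≠ cj x v * v⁻¹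

/-- The standing hypotheses: maximal essentials without common invariant subgroup. -/
structure Ctx (F : FusionSystem S) (p : ℕ) (𝔈 : Set (Subgroup Ω)) : Prop where
  hp : Odd p
  hS : IsPGroup p S
  hF : F.IsSaturated p
  rk : Cfsg.SectionalPRankLE p 3 S
  ne : S ≠ ⊥
  max : ∀ E ∈ 𝔈, Max F p E
  aut : ∀ E ∈ 𝔈, ∀ α ∈ F.autGroup S, im E (afun α) ∈ 𝔈
  free : ∀ K : Subgroup Ω, K ≤ S → Inv F S K → (∀ E ∈ 𝔈, K ≤ E ∧ Inv F E K) → K = ⊥

/-- The configuration of `Sp₄(p)`: `S` is a Sylow `p`-subgroup of it, and `𝔈` contains an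
elementary abelian and an extraspecial subgroup of order `p ^ 3`. -/
def Concl (S : Subgroup Ω) (p : ℕ) [Fact p.Prime] (𝔈 : Set (Subgroup Ω)) : Prop :=
  (∃ P : Sylow p ↥(Matrix.symplecticGroup (Fin 2) (ZMod p)),
      Nonempty (↥S ≃* ↥(P : Subgroup ↥(Matrix.symplecticGroup (Fin 2) (ZMod p))))) ∧
    ∃ A ∈ 𝔈, ∃ B ∈ 𝔈, Cfsg.IsExtraspecial p ↥B ∧ Nat.card B = p ^ 3 ∧ (∀ x ∈ B, x ^ p = 1) ∧
      Cfsg.IsElementaryAbelian p A ∧ Nat.card A = p ^ 3

end Cfsg.Agent.Rank3
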