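import Mathlib

/-!
Transvections in groups of linear maps of a space of dimension at most three over `ZMod p`:
a strongly embedded subgroup bounds the Sylow subgroup, and a group with Sylow subgroups of order
`p` generated by transvections has a natural plane.
-/

set_option autoImplicit false
set_option linter.style.haveILetI false

namespace Cfsg.Agent.Rank3Tv34

variable {p : ℕ} [Fact p.Prime] {W : Type*} [AddCommGroup W] [Module (ZMod p) W]
  {G : Type*} [Group G] {ρ : G →* (W ≃ₗ[ZMod p] W)}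

/-- `g` acts as the transvection with centre `P` and functional `φ`. -/
structure Tv (ρ : G →* (W ≃ₗ[ZMod p] W)) (g : G) (P : W) (φ : W →ₗ[ZMod p] ZMod p) : Prop where
  cne : P ≠ 0
  fne : φ ≠ 0
  ker : φ P = 0
  eqn : ∀ x, ρ g x = x + φ x • P

theorem rho_mul (g h : G) (x : W) : ρ (g * h) x = ρ g (ρ h x) := by
  rw [map_mul]; rfl

theorem rho_one (x : W) : ρ 1 x = x := by
  rw [map_one]; rfl

theorem rho_inv_apply (g : G) (x : W) : ρ g⁻¹ (ρ g x) = x := by
  rw [← rho_mul, inv_mul_cancel, rho_one]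

theorem rho_apply_inv (g : G) (x : W) : ρ g (ρ g⁻¹ x) = x := by
  rw [← rho_mul, mul_inv_cancel, rho_one]

theorem eq_of_rho (hρ : Function.Injective ρ) {g h : G} (e : ∀ x, ρ g x = ρ h x) : g = h :=
  hρ (LinearEquiv.ext e)

namespace Tv

variable {g g' : G} {P P' : W} {φ φ' : W →ₗ[ZMod p] ZMod p}

theorem ne_one (h : Tv ρ g P φ) : g ≠ 1 := by
  rintro rfl
  refine h.fne (LinearMap.ext fun x => ?_)
  have hx := h.eqn x
  rw [rho_one, left_eq_add, smul_eq_zero] at hx
  simpa using hx.resolve_right h.cne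

theorem fix (h : Tv ρ g P φ) {x : W} (hx : φ x = 0) : ρ g x = x := by
  rw [h.eqn, hx, zero_smul, add_zero]

theorem pow_apply (h : Tv ρ g P φ) (n : ℕ) (x : W) :
    ρ (g ^ n) x = x + ((n : ZMod p) * φ x) • P := by
  induction n with
  | zero => simp
  | succ n ih =>
    rw [pow_succ', rho_mul, ih, h.eqn, map_add, map_smul, h.ker]
    push_cast
    simp only [smul_zero, add_zero, add_mul, one_mul, add_smul, add_assoc]

theorem inv_apply (h : Tv ρ g P φ) (x : W) : ρ g⁻¹ x = x - φ x • P := by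
  have e : ρ g (x - φ x • P) = x := by
    rw [map_sub, map_smul, h.fix h.ker, h.eqn, add_sub_cancel_right]
  conv_lhs => rw [← e]
  rw [rho_inv_apply]

theorem pow_p (hρ : Function.Injective ρ) (h : Tv ρ g P φ) : g ^ p = 1 :=
  eq_of_rho hρ fun x => by
    rw [h.pow_apply, ZMod.natCast_self, zero_mul, zero_smul, add_zero, rho_one]

theorem order (hρ : Function.Injective ρ) (h : Tv ρ g P φ) : orderOf g = p :=
  orderOf_eq_prime (h.pow_p hρ) h.ne_one

theorem conj (h : Tv ρ g P φ) (k : G) :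
    Tv ρ (k * g * k⁻¹) (ρ k P) (φ.comp (ρ k⁻¹).toLinearMap) where
  cne e := h.cne (by simpa using e)
  fne e := h.fne (LinearMap.ext fun x => by
    have := LinearMap.congr_fun e (ρ k x)
    simpa [rho_inv_apply] using this)
  ker := by simp [h.ker]
  eqn x := by
    rw [rho_mul, rho_mul, h.eqn, map_add, map_smul, rho_apply_inv]
    rfl

theorem commute (hρ : Function.Injective ρ) (h : Tv ρ g P φ) (h' : Tv ρ g' P' φ')
    (h1 : φ P' = 0) (h2 : φ' P = 0) : Commute g g' :=
  eq_of_rho hρ fun x => by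
    simp only [rho_mul, h.eqn, h'.eqn, map_add, map_smul, h1, h2, smul_zero, add_zero]
    abel

/-- The commutator of two incident transvections. -/
theorem commutator (hρ : Function.Injective ρ) (h : Tv ρ g P φ) (h' : Tv ρ g' P' φ')
    (h1 : φ P' = 0) (h2 : φ' P ≠ 0) :
    ∃ z, Tv ρ z P' (φ' P • φ) ∧ Commute z g ∧ Commute z g' := by
  have hker : (φ' P • φ) P' = 0 := by simp [h1]
  have hz : Tv ρ ((g * g')⁻¹ * (g' * g)) P' (φ' P • φ) := by
    refine ⟨h'.cne, fun e => h.fne (LinearMap.ext fun x => ?_), hker, fun x => ?_⟩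
    · have := LinearMap.congr_fun e x
      simpa [h2] using this
    · have e : ρ (g * g') (x + (φ' P • φ) x • P') = ρ (g' * g) x := by
        simp only [rho_mul, h.eqn, h'.eqn, map_add, map_smul, h1, h'.ker, LinearMap.smul_apply,
          smul_eq_mul]
        module
      rw [rho_mul, ← e, rho_inv_apply]
  exact ⟨_, hz, hz.commute hρ h (by simp [h.ker]) h1, hz.commute hρ h' hker h'.ker⟩

/-- Two incident transvections centralise a common element of order `p`. -/
theorem common (hρ : Function.Injective ρ) (h : Tv ρ g P φ) (h' : Tv ρ g' P' φ')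
    (h1 : φ P' = 0 ∨ φ' P = 0) :
    ∃ z : G, z ≠ 1 ∧ z ^ p = 1 ∧ Commute z g ∧ Commute z g' := by
  by_cases hb : φ P' = 0 ∧ φ' P = 0
  · exact ⟨g, h.ne_one, h.pow_p hρ, Commute.refl g, h.commute hρ h' hb.1 hb.2⟩
  rcases h1 with h1 | h1
  · obtain ⟨z, hz, hc, hc'⟩ := h.commutator hρ h' h1 fun e => hb ⟨h1, e⟩
    exact ⟨z, hz.ne_one, hz.pow_p hρ, hc, hc'⟩
  · obtain ⟨z, hz, hc, hc'⟩ := h'.commutator hρ h h1 fun e => hb ⟨e, h1⟩
    exact ⟨z, hz.ne_one, hz.pow_p hρ, hc', hc⟩

theorem centre_mem_span (h : Tv ρ g P φ) (h' : Tv ρ g' P' φ') (n : ℕ) (e : g' = g ^ n) :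
    P' ∈ (ZMod p ∙ P) := by
  obtain ⟨x, hx⟩ := (DFunLike.ne_iff (f := φ') (g := 0)).1 h'.fne
  have hh := h'.eqn x
  rw [e, h.pow_apply, add_right_inj] at hh
  rw [LinearMap.zero_apply] at hx
  have : P' = ((φ' x)⁻¹ * ((n : ZMod p) * φ x)) • P := by
    rw [mul_smul, hh, inv_smul_smul₀ hx]
  exact Submodule.mem_span_singleton.2 ⟨_, this.symm⟩

end Tv

/-! ### Fixed vectors -/

theorem exists_fixed_mod [Finite W] {T : Subgroup G} (hT : IsPGroup p T)
    (S : Submodule (ZMod p) W) (hS : ∀ g ∈ T, ∀ x ∈ S, ρ g x ∈ S) (hne : S ≠ ⊤) :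
    ∃ x ∉ S, ∀ g ∈ T, ρ g x - x ∈ S := by
  letI : MulAction T (W ⧸ S) :=
    { smul := fun g q => Submodule.mapQ S S (ρ g).toLinearMap (fun x hx => hS g g.2 x hx) q
      one_smul := fun q => by
        obtain ⟨x, rfl⟩ := Submodule.Quotient.mk_surjective S q
        show Submodule.Quotient.mk (ρ ((1 : T) : G) x) = _
        rw [Subgroup.coe_one, rho_one]
      mul_smul := fun g h q => by
        obtain ⟨x, rfl⟩ := Submodule.Quotient.mk_surjective S q
        show Submodule.Quotient.mk (ρ ((g * h : T) : G) x) =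
          Submodule.Quotient.mk (ρ (g : G) (ρ (h : G) x))
        rw [Subgroup.coe_mul, rho_mul] }
  haveI : FiniteDimensional (ZMod p) W := Module.Finite.of_finite
  haveI : Nontrivial (W ⧸ S) := Submodule.Quotient.nontrivial_iff.2 hne
  have hpos : 0 < Module.finrank (ZMod p) (W ⧸ S) := Module.finrank_pos
  have hdvd : p ∣ Nat.card (W ⧸ S) := by
    rw [Module.natCard_eq_pow_finrank (K := ZMod p), Nat.card_zmod]
    exact dvd_pow_self p hpos.ne'
  haveI : Finite (W ⧸ S) := Finite.of_surjective _ (Submodule.Quotient.mk_surjective S)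
  have h0 : (0 : W ⧸ S) ∈ MulAction.fixedPoints T (W ⧸ S) := fun g =>
    map_zero (Submodule.mapQ S S (ρ g).toLinearMap (fun x hx => hS g g.2 x hx))
  obtain ⟨b, hb, hb0⟩ := hT.exists_fixed_point_of_prime_dvd_card_of_fixed_point (W ⧸ S) hdvd h0
  obtain ⟨x, rfl⟩ := Submodule.Quotient.mk_surjective S b
  refine ⟨x, fun hx => hb0 ((Submodule.Quotient.mk_eq_zero S).2 hx).symm, fun g hg => ?_⟩
  exact (Submodule.Quotient.eq S).1 (hb ⟨g, hg⟩)

/-! ### The Sylow subgroup under a strongly embedded subgroup -/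

/-- The key property of a strongly embedded subgroup. -/
def Tight (p : ℕ) (M : Subgroup G) : Prop :=
  ∀ y ∈ M, y ≠ 1 → (∃ k, y ^ p ^ k = 1) → ∀ g, g * y * g⁻¹ ∈ M → g ∈ M

omit [Fact p.Prime] in
theorem Tight.centralizes {M : Subgroup G} (hM : Tight p M) {y z : G} (hy : y ∈ M) (hy1 : y ≠ 1)
    (hyp : y ^ p = 1) (hc : Commute z y) : z ∈ M :=
  hM y hy hy1 ⟨1, by rwa [pow_one]⟩ z (by rwa [hc.eq, mul_inv_cancel_right])

theorem card_le_three [Finite W] (hd : Module.finrank (ZMod p) W = 3)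
    (hρ : Function.Injective ρ) {M : Subgroup G} (hne : M ≠ ⊤) (hM : Tight p M)
    {T : Subgroup G} (hT : IsPGroup p T) (hTM : T ≤ M) : Nat.card T ≤ p := by
  haveI : FiniteDimensional (ZMod p) W := Module.Finite.of_finite
  haveI : Finite G := Finite.of_injective (fun g x => ρ g x)
    fun g h e => hρ (LinearEquiv.ext (congrFun e))
  by_contra hlarge
  have hnotle : ∀ L : Submodule (ZMod p) W, Module.finrank (ZMod p) L ≤ 2 → L ≠ ⊤ := by
    rintro L hL rfl
    rw [finrank_top, hd] at hL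
    omega
  -- an invariant flag
  obtain ⟨P, hP, hPfix⟩ := exists_fixed_mod (ρ := ρ) hT ⊥ (fun g _ x hx => by
    rw [Submodule.mem_bot] at hx; rw [hx, map_zero]; exact Submodule.zero_mem _)
    (hnotle _ (by simp))
  rw [Submodule.mem_bot] at hP
  replace hPfix : ∀ g ∈ T, ρ g P = P := fun g hg =>
    sub_eq_zero.1 ((Submodule.mem_bot _).1 (hPfix g hg))
  obtain ⟨Q, hQ, hQfix⟩ := exists_fixed_mod (ρ := ρ) hT (ZMod p ∙ P) (fun g hg x hx => by
    obtain ⟨c, rfl⟩ := Submodule.mem_span_singleton.1 hx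
    rw [map_smul, hPfix g hg]; exact hx)
    (hnotle _ (by rw [finrank_span_singleton hP]; norm_num))
  have hsp : Module.finrank (ZMod p) ↥(Submodule.span (ZMod p) (Set.range ![P, Q])) ≤ 2 :=
    (finrank_range_le_card ![P, Q]).trans (by simp)
  obtain ⟨R, hR, hRfix⟩ := exists_fixed_mod (ρ := ρ) hT (Submodule.span (ZMod p) (Set.range ![P, Q]))
    (fun g hg x hx => by
      obtain ⟨c, rfl⟩ := (Submodule.mem_span_range_iff_exists_fun _).1 hx
      rw [map_sum]
      refine Submodule.sum_mem _ fun i _ => ?_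
      rw [map_smul]
      refine Submodule.smul_mem _ _ ?_
      fin_cases i
      · show ρ g P ∈ _
        rw [hPfix g hg]; exact Submodule.subset_span ⟨0, rfl⟩
      · show ρ g Q ∈ _
        obtain ⟨a, ha⟩ := Submodule.mem_span_singleton.1 (hQfix g hg)
        rw [show ρ g Q = Q + a • P by rw [ha]; abel]
        exact Submodule.add_mem _ (Submodule.subset_span ⟨1, rfl⟩)
          (Submodule.smul_mem _ _ (Submodule.subset_span ⟨0, rfl⟩)))
    (hnotle _ hsp)
  have hli : LinearIndependent (ZMod p) ![P, Q, R] := by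
    rw [Fintype.linearIndependent_iff]
    intro c hc
    simp only [Fin.sum_univ_three, Matrix.cons_val] at hc
    have h2 : c 2 = 0 := by
      by_contra h
      refine hR ?_
      rw [← Submodule.smul_mem_iff _ h,
        show c 2 • R = -(c 0 • P) + -(c 1 • Q) by linear_combination (norm := module) hc]
      exact Submodule.add_mem _
        (Submodule.neg_mem _ (Submodule.smul_mem _ _ (Submodule.subset_span ⟨0, rfl⟩)))
        (Submodule.neg_mem _ (Submodule.smul_mem _ _ (Submodule.subset_span ⟨1, rfl⟩)))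
    have h1 : c 1 = 0 := by
      by_contra h
      refine hQ ?_
      rw [← Submodule.smul_mem_iff _ h,
        show c 1 • Q = -(c 0 • P) by rw [h2, zero_smul, add_zero] at hc; exact eq_neg_of_add_eq_zero_right hc]
      exact Submodule.neg_mem _ (Submodule.smul_mem _ _ (Submodule.mem_span_singleton_self P))
    have h0 : c 0 = 0 := by
      rw [h1, h2, zero_smul, zero_smul, add_zero, add_zero, smul_eq_zero] at hc
      exact hc.resolve_right hP
    intro i; fin_cases i <;> assumption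
  let B := basisOfLinearIndependentOfCardEqFinrank hli (by rw [Fintype.card_fin, hd])
  have hBi : ∀ i, B i = ![P, Q, R] i := fun i => by simp [B]
  have hB0 : B 0 = P := hBi 0
  have hB1 : B 1 = Q := hBi 1
  have hB2 : B 2 = R := hBi 2
  let x0 := B.coord 0
  let x1 := B.coord 1
  let x2 := B.coord 2
  have hexp : ∀ x, x = x0 x • P + x1 x • Q + x2 x • R := fun x => by
    have := (B.sum_repr x).symm
    rwa [Fin.sum_univ_three, hB0, hB1, hB2] at this
  have hcoord : x0 P = 1 ∧ x1 P = 0 ∧ x2 P = 0 ∧ x0 Q = 0 ∧ x1 Q = 1 ∧ x2 Q = 0 ∧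
      x1 R = 0 ∧ x2 R = 1 := by
    rw [← hB0, ← hB1, ← hB2]
    simp [x0, x1, x2, Module.Basis.coord_apply]
  obtain ⟨h0P, h1P, h2P, h0Q, h1Q, h2Q, h1R, h2R⟩ := hcoord
  let a : G → ZMod p := fun g => x0 (ρ g Q)
  let b : G → ZMod p := fun g => x1 (ρ g R)
  let c : G → ZMod p := fun g => x0 (ρ g R)
  have hgQ : ∀ g ∈ T, ρ g Q = Q + a g • P := fun g hg => by
    obtain ⟨k, hk⟩ := Submodule.mem_span_singleton.1 (hQfix g hg)
    have e : ρ g Q = Q + k • P := by rw [hk]; abel
    rw [show a g = k by simp [a, e, h0P, h0Q]]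
    exact e
  have hgR : ∀ g ∈ T, ρ g R = R + b g • Q + c g • P := fun g hg => by
    obtain ⟨k, hk⟩ := (Submodule.mem_span_range_iff_exists_fun _).1 (hRfix g hg)
    rw [Fin.sum_univ_two] at hk
    simp only [Matrix.cons_val_zero, Matrix.cons_val_one] at hk
    have e2 : x2 (ρ g R) = 1 := by
      have := congrArg x2 hk
      simp only [map_add, map_smul, map_sub, h2P, h2Q, h2R, smul_zero, add_zero] at this
      exact (sub_eq_zero.1 this.symm)
    conv_lhs => rw [hexp (ρ g R)]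
    rw [e2, one_smul]
    abel
  have happ : ∀ g ∈ T, ∀ x,
      ρ g x = (x0 x + a g * x1 x + c g * x2 x) • P + (x1 x + b g * x2 x) • Q + x2 x • R := by
    intro g hg x
    conv_lhs => rw [hexp x]
    simp only [map_add, map_smul, hPfix g hg, hgQ g hg, hgR g hg]
    module
  have ha : ∀ g ∈ T, ∀ h ∈ T, a (g * h) = a g + a h := fun g hg h hh => by
    show x0 (ρ (g * h) Q) = _
    rw [rho_mul, hgQ h hh, map_add, map_smul, hgQ g hg, hPfix g hg]
    simp only [map_add, map_smul, h0P, h0Q, smul_eq_mul]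
    ring
  have hb : ∀ g ∈ T, ∀ h ∈ T, b (g * h) = b g + b h := fun g hg h hh => by
    show x1 (ρ (g * h) R) = _
    rw [rho_mul, hgR h hh]
    simp only [map_add, map_smul]
    rw [hgR g hg, hgQ g hg, hPfix g hg]
    simp only [map_add, map_smul, h1P, h1Q, h1R, smul_eq_mul]
    ring
  -- a transvection of the flag
  obtain ⟨t, htT, P₁, φ, ht, hTP, hTf⟩ : ∃ t ∈ T, ∃ P₁ φ, Tv ρ t P₁ φ ∧
      (∀ h ∈ T, ρ h P₁ = P₁) ∧ ∀ h ∈ T, ∀ x, φ (ρ h x) = φ x := by
    by_cases hk : ∃ g ∈ T, g ≠ 1 ∧ a g = 0 ∧ b g = 0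
    · obtain ⟨g, hg, hg1, ha0, hb0⟩ := hk
      have heq : ∀ x, ρ g x = x + x2 x • (c g • P) := fun x => by
        conv_rhs => rw [hexp x]
        rw [happ g hg x, ha0, hb0]
        simp only [map_add, map_smul, h2P, h2Q, h2R]
        module
      have hc0 : c g ≠ 0 := fun e => hg1 (eq_of_rho hρ fun x => by
        rw [heq, e, zero_smul, smul_zero, add_zero, rho_one])
      refine ⟨g, hg, c g • P, x2, ⟨smul_ne_zero hc0 hP, fun e => ?_, by simp [h2P], heq⟩,
        fun h hh => by rw [map_smul, hPfix h hh], fun h hh x => ?_⟩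
      · rw [e] at h2R; simp at h2R
      · rw [happ h hh x]; simp [h2P, h2Q, h2R]
    · push Not at hk
      exfalso
      let f : T → ZMod p × ZMod p := fun g => (a g, b g)
      have hf : Function.Injective f := fun g h e => by
        simp only [f, Prod.mk.injEq] at e
        by_contra hne'
        have hm := T.mul_mem (T.inv_mem g.2) h.2
        have h1 : a ((g : G)⁻¹ * h) = 0 := by
          have := ha g g.2 _ hm
          rw [mul_inv_cancel_left, e.1] at this
          exact left_eq_add.1 this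
        have h2 : b ((g : G)⁻¹ * h) = 0 := by
          have := hb g g.2 _ hm
          rw [mul_inv_cancel_left, e.2] at this
          exact left_eq_add.1 this
        exact hk _ hm (fun e' => hne' (Subtype.ext (inv_mul_eq_one.1 e'))) h1 h2
      have hsurj : Function.Surjective f := by
        refine (hf.bijective_of_nat_card_le ?_).2
        obtain ⟨n, hn⟩ := IsPGroup.iff_card.1 hT
        have hp := (Fact.out : p.Prime)
        rw [Nat.card_prod, Nat.card_zmod, ← sq, hn]
        rw [hn, not_le] at hlarge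
        refine Nat.pow_le_pow_right hp.pos ?_
        have := (Nat.pow_lt_pow_iff_right hp.one_lt).1 (by rwa [pow_one] : p ^ 1 < p ^ n)
        omega
      obtain ⟨g, hg⟩ := hsurj (1, 0)
      obtain ⟨h, hh⟩ := hsurj (0, 1)
      simp only [f, Prod.mk.injEq] at hg hh
      have hcomm : g * h = h * g := hf (by
        simp only [f, Subgroup.coe_mul, ha _ g.2 _ h.2, ha _ h.2 _ g.2, hb _ g.2 _ h.2,
          hb _ h.2 _ g.2, Prod.mk.injEq]
        exact ⟨add_comm _ _, add_comm _ _⟩)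
      have e := congrArg (fun k : T => x0 (ρ (k : G) R)) hcomm
      simp only [Subgroup.coe_mul, rho_mul, hgR _ g.2, hgR _ h.2, hgQ _ g.2, hgQ _ h.2,
        hPfix _ g.2, hPfix _ h.2, map_add, map_smul, h0P, h0Q, hg.1, hg.2, hh.1, hh.2,
        smul_eq_mul] at e
      have : (1 : ZMod p) = 0 := by linear_combination e
      exact one_ne_zero this
  have htM := hTM htT
  -- a transvection outside `M`
  obtain ⟨g₀, hg₀⟩ : ∃ g, g * t * g⁻¹ ∉ M := by
    by_contra h
    push Not at h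
    exact hne (eq_top_iff.2 fun g _ =>
      hM t htM ht.ne_one ⟨1, by rw [pow_one]; exact ht.pow_p hρ⟩ g (h g))
  have ht' := ht.conj g₀
  set t' := g₀ * t * g₀⁻¹
  set P₂ := ρ g₀ P₁
  set φ' := φ.comp (ρ g₀⁻¹).toLinearMap
  have hopp : φ P₂ ≠ 0 ∧ φ' P₁ ≠ 0 := by
    rw [← not_or]
    intro hinc
    obtain ⟨z, hz1, hzp, hzt, hzt'⟩ := ht.common hρ ht' hinc
    exact hg₀ (hM.centralizes (hM.centralizes htM ht.ne_one (ht.pow_p hρ) hzt) hz1 hzp hzt'.symm)
  obtain ⟨u, hu, hut⟩ : ∃ u ∈ T, u ∉ Subgroup.zpowers t := by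
    by_contra h
    push Not at h
    exact hlarge ((Subgroup.card_le_of_le h).trans_eq ((Nat.card_zpowers t).trans (ht.order hρ)))
  set v := ρ u⁻¹ P₂
  have hv : φ v = φ P₂ := hTf _ (T.inv_mem hu) P₂
  set n := (φ' v / (φ P₂ * φ' P₁)).val
  have hn : (n : ZMod p) = φ' v / (φ P₂ * φ' P₁) := ZMod.natCast_zmod_val _
  set w := u * t ^ n
  have hwT : w ∈ T := T.mul_mem hu (T.pow_mem htT n)
  have hw1 : w ≠ 1 := fun e => hut (by
    rw [show u = (t ^ n)⁻¹ from eq_inv_of_mul_eq_one_left e]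
    exact inv_mem (Subgroup.npow_mem_zpowers t n))
  have hinv : ∀ x, ρ (t ^ n)⁻¹ x = x - ((n : ZMod p) * φ x) • P₁ := fun x => by
    have e : ρ (t ^ n) (x - ((n : ZMod p) * φ x) • P₁) = x := by
      rw [map_sub, map_smul, ht.pow_apply, ht.pow_apply, ht.ker, mul_zero, zero_smul, add_zero,
        add_sub_cancel_right]
    conv_lhs => rw [← e]
    rw [rho_inv_apply]
  have hzero : φ' (ρ w⁻¹ P₂) = 0 := by
    rw [mul_inv_rev, rho_mul, show ρ u⁻¹ P₂ = v from rfl, hinv, map_sub, map_smul, hn, hv,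
      smul_eq_mul]
    field_simp [hopp.1, hopp.2]
    ring
  obtain ⟨z, hz1, hzp, hzw, hzt'⟩ := (ht'.conj w).common hρ ht' (Or.inl hzero)
  -- transport to `M` by `g₀`
  have key : ∀ y : G, g₀⁻¹ * (g₀ * y * g₀⁻¹) * g₀ = y := fun y => by group
  have hc0 : ∀ y y' : G, Commute y y' → Commute (g₀⁻¹ * y * g₀) (g₀⁻¹ * y' * g₀) := by
    intro y y' hc
    have := hc.map (MulAut.conj g₀⁻¹).toMonoidHom
    simpa using this
  set z' := g₀⁻¹ * z * g₀
  have hz'M : z' ∈ M := by
    refine hM.centralizes htM ht.ne_one (ht.pow_p hρ) ?_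
    have := hc0 _ _ hzt'
    rwa [key] at this
  have hz'1 : z' ≠ 1 := fun e => hz1 (by
    have := congrArg (fun y => g₀ * y * g₀⁻¹) e
    simpa [z', mul_assoc] using this)
  have hz'p : z' ^ p = 1 := by
    rw [show z' = g₀⁻¹ * z * g₀⁻¹⁻¹ by rw [inv_inv], conj_pow, hzp]; group
  have h3 := hM.centralizes hz'M hz'1 hz'p (hc0 _ _ hzw).symm
  have h4 : g₀⁻¹ * w * g₀ ∈ M := by
    refine hM t htM ht.ne_one ⟨1, by rw [pow_one]; exact ht.pow_p hρ⟩ _ ?_
    convert h3 using 1
    simp only [t']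
    group
  have h5 : g₀⁻¹ ∈ M := by
    obtain ⟨k, hk⟩ := hT ⟨w, hwT⟩
    exact hM w (hTM hwT) hw1 ⟨k, by simpa [Subtype.ext_iff] using hk⟩ _ (by rwa [inv_inv])
  exact hg₀ (M.mul_mem (M.mul_mem (by simpa using M.inv_mem h5) htM) h5)

/-- A strongly embedded subgroup of a group of linear maps of dimension at most three has Sylow
subgroups of order at most `p`. -/
theorem card_le [Finite W] (hd : Module.finrank (ZMod p) W ≤ 3)
    (hρ : Function.Injective ρ) {M : Subgroup G} (hne : M ≠ ⊤) (hM : Tight p M)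
    {T : Subgroup G} (hT : IsPGroup p T) (hTM : T ≤ M) : Nat.card T ≤ p := by
  haveI : FiniteDimensional (ZMod p) W := Module.Finite.of_finite
  let k := 3 - Module.finrank (ZMod p) W
  let ρ' : G →* ((W × (Fin k → ZMod p)) ≃ₗ[ZMod p] (W × (Fin k → ZMod p))) :=
    { toFun := fun g => (ρ g).prodCongr (LinearEquiv.refl _ _)
      map_one' := LinearEquiv.ext fun x => by simp
      map_mul' := fun g h => LinearEquiv.ext fun x => by simp }
  refine card_le_three (ρ := ρ') ?_ (fun g h e => hρ (LinearEquiv.ext fun x => ?_)) hne hM hT hTM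
  · rw [Module.finrank_prod, Module.finrank_pi, Fintype.card_fin]
    omega
  · exact congrArg Prod.fst (LinearEquiv.congr_fun e (x, 0))

/-! ### The natural plane -/

/-- Commuting elements of order `p` generate the same subgroup. -/
def SylOne (p : ℕ) (G : Type*) [Group G] : Prop :=
  ∀ a b : G, a ^ p = 1 → a ≠ 1 → b ^ p = 1 → b ≠ 1 → Commute a b → b ∈ Subgroup.zpowers a

/-- Incident transvections have the same centre. -/
theorem centre_mem_of_incident [Finite G] (hρ : Function.Injective ρ) (hsyl : SylOne p G)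
    {g g' : G} {P P' : W} {φ φ' : W →ₗ[ZMod p] ZMod p} (h : Tv ρ g P φ) (h' : Tv ρ g' P' φ')
    (hinc : φ P' = 0 ∨ φ' P = 0) : ∃ n : ℕ, g' = g ^ n := by
  obtain ⟨z, hz1, hzp, hc, hc'⟩ := h.common hρ h' hinc
  have h1 := hsyl g z (h.pow_p hρ) h.ne_one hzp hz1 hc.symm
  have h2 := hsyl z g' hzp hz1 (h'.pow_p hρ) h'.ne_one hc'
  have h3 : g' ∈ Subgroup.zpowers g := (Subgroup.zpowers_le.2 h1) h2
  obtain ⟨n, hn⟩ := (isOfFinOrder_of_finite g).mem_powers_iff_mem_zpowers.2 h3
  exact ⟨n, hn.symm⟩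

/-- A group with Sylow subgroups of order `p` generated by transvections that moves the axis of
one of them has a natural plane spanned by two centres. -/
theorem exists_opposite [Finite G] (hρ : Function.Injective ρ) (hsyl : SylOne p G)
    {t : G} {P : W} {φ : W →ₗ[ZMod p] ZMod p} (ht : Tv ρ t P φ)
    (hmove : ¬ ∀ (g : G) (x : W), φ x = 0 → φ (ρ g x) = 0) :
    ∃ g₀ : G, φ (ρ g₀ P) ≠ 0 ∧ φ (ρ g₀⁻¹ P) ≠ 0 ∧
      ∀ g, ρ g P ∈ Submodule.span (ZMod p) (Set.range ![P, ρ g₀ P]) := by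
  have hnot : ∀ g, ρ g P ∉ (ZMod p ∙ P) → φ (ρ g P) ≠ 0 ∧ φ (ρ g⁻¹ P) ≠ 0 := by
    intro g hg
    rw [← not_or]
    intro hinc
    obtain ⟨n, hn⟩ := centre_mem_of_incident hρ hsyl ht (ht.conj g) hinc
    exact hg (ht.centre_mem_span (ht.conj g) n hn)
  obtain ⟨g₀, hg₀⟩ : ∃ g, ρ g P ∉ (ZMod p ∙ P) := by
    by_contra hall
    push Not at hall
    refine hmove fun g x hx => ?_
    have hs : ∀ k : G, φ (ρ k P) = 0 := fun k => by
      obtain ⟨c, hc⟩ := Submodule.mem_span_singleton.1 (hall k)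
      rw [← hc, map_smul, ht.ker, smul_zero]
    have h' := ht.conj g⁻¹
    obtain ⟨n, hn⟩ := centre_mem_of_incident hρ hsyl ht h' (Or.inl (hs g⁻¹))
    have e := h'.eqn x
    rw [hn, ht.pow_apply, hx, mul_zero, zero_smul, add_zero] at e
    simp only [LinearMap.comp_apply, inv_inv, LinearEquiv.coe_coe, left_eq_add,
      smul_eq_zero, h'.cne, or_false] at e
    exact e
  obtain ⟨ha, hb⟩ := hnot g₀ hg₀
  refine ⟨g₀, ha, hb, fun g => ?_⟩
  set P' := ρ g₀ P
  set φ' := φ.comp (ρ g₀⁻¹).toLinearMap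
  have ht' : Tv ρ _ P' φ' := ht.conj g₀
  have hU : ∀ s : W, s ∈ Submodule.span (ZMod p) (Set.range ![P, P']) →
      (ZMod p ∙ s) ≤ Submodule.span (ZMod p) (Set.range ![P, P']) := fun s hs =>
    (Submodule.span_singleton_le_iff_mem _ _).2 hs
  set Q := ρ g P
  have hw := ht.conj g
  by_cases hQ : φ' Q = 0
  · obtain ⟨n, hn⟩ := centre_mem_of_incident hρ hsyl ht' hw (Or.inl hQ)
    exact hU P' (Submodule.subset_span ⟨1, rfl⟩) (ht'.centre_mem_span hw n hn)
  · set c := (φ Q / (φ' Q * φ P')).val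
    have hc : (c : ZMod p) = φ Q / (φ' Q * φ P') := ZMod.natCast_zmod_val _
    set k := (g₀ * t * g₀⁻¹) ^ c
    have hs := ht.conj k
    have hkinv : ρ k⁻¹ Q = Q - ((c : ZMod p) * φ' Q) • P' := by
      have e : ρ k (Q - ((c : ZMod p) * φ' Q) • P') = Q := by
        rw [map_sub, map_smul, ht'.pow_apply, ht'.pow_apply, ht'.ker, mul_zero, zero_smul,
          add_zero, add_sub_cancel_right]
      conv_lhs => rw [← e]
      rw [rho_inv_apply]
    have hzero : (φ.comp (ρ k⁻¹).toLinearMap) Q = 0 := by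
      show φ (ρ k⁻¹ Q) = 0
      rw [hkinv, map_sub, map_smul, hc, smul_eq_mul]
      field_simp
      ring
    obtain ⟨n, hn⟩ := centre_mem_of_incident hρ hsyl hs hw (Or.inl hzero)
    refine hU (ρ k P) ?_ (hs.centre_mem_span hw n hn)
    rw [ht'.pow_apply]
    exact Submodule.add_mem _ (Submodule.subset_span ⟨0, rfl⟩)
      (Submodule.smul_mem _ _ (Submodule.subset_span ⟨1, rfl⟩))

/-- Two opposite transvections give an element inverting their plane. -/
theorem exists_neg {t t' : G} {P P' : W} {φ φ' : W →ₗ[ZMod p] ZMod p} (ht : Tv ρ t P φ)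
    (ht' : Tv ρ t' P' φ') (ha : φ P' ≠ 0) (hb : φ' P ≠ 0) :
    ∃ j ∈ Subgroup.closure {t, t'}, ∀ x ∈ Submodule.span (ZMod p) (Set.range ![P, P']),
      ρ j x = -x := by
  set m := ((φ P')⁻¹).val
  set n := (-(φ' P)⁻¹).val
  set x := t ^ m
  set y := t' ^ n
  have hx1 : ρ x P = P := by rw [ht.pow_apply, ht.ker, mul_zero, zero_smul, add_zero]
  have hx2 : ρ x P' = P' + P := by
    rw [ht.pow_apply, ZMod.natCast_zmod_val, inv_mul_cancel₀ ha, one_smul]
  have hy2 : ρ y P' = P' := by rw [ht'.pow_apply, ht'.ker, mul_zero, zero_smul, add_zero]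
  have hy1 : ρ y P = P - P' := by
    rw [ht'.pow_apply, ZMod.natCast_zmod_val, neg_mul, inv_mul_cancel₀ hb, neg_smul, one_smul,
      sub_eq_add_neg]
  set w := x * y * x
  have hwP : ρ w P = -P' := by
    rw [rho_mul, rho_mul, hx1, hy1, map_sub, hx1, hx2]
    abel
  have hwP' : ρ w P' = P := by
    rw [rho_mul, rho_mul, hx2, map_add, hy2, hy1, add_sub_cancel, hx1]
  refine ⟨w * w, ?_, fun v hv => ?_⟩
  · have hxm : x ∈ Subgroup.closure {t, t'} := pow_mem (Subgroup.subset_closure (by simp)) m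
    have hym : y ∈ Subgroup.closure {t, t'} := pow_mem (Subgroup.subset_closure (by simp)) n
    exact mul_mem (mul_mem (mul_mem hxm hym) hxm) (mul_mem (mul_mem hxm hym) hxm)
  · obtain ⟨c, rfl⟩ := (Submodule.mem_span_range_iff_exists_fun _).1 hv
    simp only [Fin.sum_univ_two, Matrix.cons_val_zero, Matrix.cons_val_one, map_add, map_smul,
      rho_mul, hwP, hwP', map_neg, neg_add, smul_neg]

end Cfsg.Agent.Rank3Tv34
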