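import Mathlib
import Cfsg.Agent.Lib.Rank3Def34
import Cfsg.Agent.Lib.Rank3Tv34
import Cfsg.Agent.Lib.FusionEssential88
import Cfsg.Agent.Lib.LocPEmb56

/-!
The linear layer for fusion systems of sectional rank three: `N_S(E)` has order `p |E|` for an
essential `E`, and an essential subgroup of index `p` moving `Ω₁(Z(S))` has a natural plane or a
cubic module inside `Ω₁(Z(E))`.
-/

set_option autoImplicit false
set_option linter.style.haveILetI false

namespace Cfsg.Agent.Rank3

open scoped commutatorElement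
open Cfsg Cfsg.FusionSystem Cfsg.Agent.FusionSysBasic Cfsg.Agent.FusionSysSaturated
  Cfsg.Agent.FusionSysAlperin Cfsg.Agent.Rank3Tv34

universe u

/-- An automorphism of a group of exponent `p` as a linear map. -/
def linHom (p : ℕ) {H : Type u} [CommGroup H] [Module (ZMod p) (Additive H)] :
    MulAut H →* (Additive H ≃ₗ[ZMod p] Additive H) where
  toFun α :=
    { MulEquiv.toAdditive α with
      map_smul' := fun c x => ZMod.map_smul (MulEquiv.toAdditive α).toAddMonoidHom c x }
  map_one' := LinearEquiv.ext fun _ => rfl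
  map_mul' _ _ := LinearEquiv.ext fun _ => rfl

theorem linHom_apply (p : ℕ) {H : Type u} [CommGroup H] [Module (ZMod p) (Additive H)]
    (α : MulAut H) (x : H) : linHom p α (Additive.ofMul x) = Additive.ofMul (α x) := rfl

/-- The automorphism of the quotient by a characteristic subgroup. -/
def quotHom {H : Type u} [Group H] (N : Subgroup H) [N.Normal] [hN : N.Characteristic] :
    MulAut H →* MulAut (H ⧸ N) where
  toFun α := QuotientGroup.congr N N α (Subgroup.characteristic_iff_map_eq.1 hN α)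
  map_one' := MulEquiv.ext fun x => by
    obtain ⟨y, rfl⟩ := QuotientGroup.mk_surjective x
    rfl
  map_mul' a b := MulEquiv.ext fun x => by
    obtain ⟨y, rfl⟩ := QuotientGroup.mk_surjective x
    rfl

variable {Ω : Type u} [Group Ω] {S : Subgroup Ω}

/-- An elementary abelian section of `S` has order at most `p ^ k`. -/
theorem card_section_le {p k : ℕ} (rk : Cfsg.SectionalPRankLE p k S) {E : Subgroup Ω} (hE : E ≤ S)
    (N : Subgroup E) [N.Normal] (hc : ∀ x y : E ⧸ N, x * y = y * x)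
    (hp : ∀ x : E ⧸ N, x ^ p = 1) : Nat.card (E ⧸ N) ≤ p ^ k := by
  let e : E.subgroupOf S ≃* E := Subgroup.subgroupOfEquivOfLe hE
  let N' : Subgroup (E.subgroupOf S) := N.comap e.toMonoidHom
  let f : (E.subgroupOf S ⧸ N') ≃* E ⧸ N :=
    QuotientGroup.congr N' N e (Subgroup.map_comap_eq_self_of_surjective e.surjective N)
  have h := rk (E.subgroupOf S) N' ⊤ ⟨⟨fun x y => Subtype.ext (f.injective (by
    simp only [Subgroup.coe_mul, map_mul]; exact hc _ _))⟩⟩
    fun a _ => f.injective (by rw [map_pow, map_one]; exact hp _)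
  rwa [Subgroup.card_top, Nat.card_congr f.toEquiv] at h

theorem card_centralizerIn_mul [Finite S] {F : FusionSystem S} {E : Subgroup Ω}
    (hc : F.IsCentric E) :
    Nat.card (Inn E) * Nat.card (centralizerIn S E) = Nat.card E := by
  have h1 : Nat.card (centralizerIn S E) = Nat.card (Subgroup.center E) := by
    refine (Nat.card_congr
      ⟨fun z => ⟨⟨(z : Ω), hc.2 E (isConj_refl hc.1) z.2⟩, Subgroup.mem_center_iff.2 fun y =>
        Subtype.ext ?_⟩,
      fun z => ⟨((z : E) : Ω), mem_centralizerIn.2 ⟨hc.1 (z : E).2, fun x hx => ?_⟩⟩,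
      fun z => rfl, fun z => rfl⟩)
    · have := (mem_centralizerIn.1 z.2).2 y y.2
      rw [cj_apply, mul_inv_eq_iff_eq_mul] at this
      exact this.symm
    · have := congrArg Subtype.val (Subgroup.mem_center_iff.1 z.2 ⟨x, hx⟩)
      simp only [Subgroup.coe_mul] at this
      rw [cj_apply, ← this, mul_inv_cancel_right]
  rw [h1, show Nat.card (Inn E) = Nat.card (MulAut.conj : E →* MulAut E).range from rfl,
    ← Nat.card_congr (QuotientGroup.quotientKerEquivRange (MulAut.conj : E →* MulAut E)).toEquiv]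
  have hk : (MulAut.conj : E →* MulAut E).ker = Subgroup.center E := by
    ext g
    rw [MonoidHom.mem_ker, Subgroup.mem_center_iff]
    refine ⟨fun h y => ?_, fun h => MulEquiv.ext fun y => ?_⟩
    · have e : g * y * g⁻¹ = y := by rw [← MulAut.conj_apply, h, MulAut.one_apply]
      rw [mul_inv_eq_iff_eq_mul] at e
      exact e.symm
    · rw [MulAut.conj_apply, ← h y, mul_inv_cancel_right, MulAut.one_apply]
  rw [← hk, ← Subgroup.card_eq_card_quotient_mul_card_subgroup]

/-- **F1.** An essential subgroup has index `p` in its normalizer. -/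
theorem card_normalizerIn [Finite S] {p : ℕ} [Fact p.Prime] {F : FusionSystem S}
    (_hp : Odd p) (hS : IsPGroup p S) (hF : F.IsSaturated p) (rk : Cfsg.SectionalPRankLE p 3 S)
    {E : Subgroup Ω} (hE : F.IsEssential p E) :
    Nat.card (normalizerIn S E) = p * Nat.card E := by
  classical
  have hES := hE.1.1
  haveI := finite_of_le hES
  haveI := finite_autGroup (F := F) E
  have hEp : IsPGroup p E := hS.to_le hES
  set A := F.autGroup E
  obtain ⟨hn, Y, hY⟩ := hE.2.2
  haveI := hn
  set I := (Inn E).subgroupOf A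
  -- the module `E / Φ(E)`
  have hcomm : ∀ x y : E ⧸ frattini E, x * y = y * x := by
    intro x y
    obtain ⟨a, rfl⟩ := QuotientGroup.mk_surjective x
    obtain ⟨b, rfl⟩ := QuotientGroup.mk_surjective y
    rw [← QuotientGroup.mk_mul, ← QuotientGroup.mk_mul, QuotientGroup.eq]
    refine PGroupsBasic.commutator_le_frattini hEp ?_
    rw [show (a * b)⁻¹ * (b * a) = ⁅b⁻¹, a⁻¹⁆ by rw [commutatorElement_def]; group]
    exact Subgroup.commutator_mem_commutator (Subgroup.mem_top _) (Subgroup.mem_top _)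
  have hexp : ∀ x : E ⧸ frattini E, x ^ p = 1 := by
    intro x
    obtain ⟨a, rfl⟩ := QuotientGroup.mk_surjective x
    rw [← QuotientGroup.mk_pow, QuotientGroup.eq_one_iff]
    exact PGroupsBasic.pow_mem_frattini hEp a
  letI : CommGroup (E ⧸ frattini E) :=
    { (inferInstance : Group (E ⧸ frattini E)) with mul_comm := hcomm }
  haveI : Module (ZMod p) (Additive (E ⧸ frattini E)) :=
    AddCommGroup.zmodModule fun x => by
      apply Additive.toMul.injective
      rw [toMul_nsmul]
      exact hexp x.toMul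
  haveI : FiniteDimensional (ZMod p) (Additive (E ⧸ frattini E)) := Module.Finite.of_finite
  have hd : Module.finrank (ZMod p) (Additive (E ⧸ frattini E)) ≤ 3 := by
    have h1 : Nat.card (Additive (E ⧸ frattini E)) ≤ p ^ 3 := card_section_le rk hES _ hcomm hexp
    rw [Module.natCard_eq_pow_finrank (K := ZMod p), Nat.card_zmod] at h1
    exact (Nat.pow_le_pow_iff_right (Fact.out : p.Prime).one_lt).1 h1
  let ρ₀ : A →* (Additive (E ⧸ frattini E) ≃ₗ[ZMod p] Additive (E ⧸ frattini E)) :=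
    (linHom p).comp ((quotHom (frattini E)).comp A.subtype)
  have hρ₀ : ∀ (α : A) (y : E), ρ₀ α (Additive.ofMul (y : E ⧸ frattini E)) =
      Additive.ofMul ((((α : MulAut E) y : E)) : E ⧸ frattini E) := fun _ _ => rfl
  have hker : ρ₀.ker = I := by
    ext α
    rw [MonoidHom.mem_ker, Subgroup.mem_subgroupOf]
    constructor
    · intro h
      refine FusionEssential88.mem_inn_of_trivial hS hE α.2 fun y => ?_
      have := hρ₀ α y
      rw [h] at this
      exact QuotientGroup.eq.1 (Additive.ofMul.injective this)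
    · rintro ⟨g, hg⟩
      refine LinearEquiv.ext fun x => ?_
      obtain ⟨y, rfl⟩ := Additive.ofMul.surjective x
      obtain ⟨y, rfl⟩ := QuotientGroup.mk_surjective y
      rw [hρ₀, ← hg, MulAut.conj_apply, QuotientGroup.mk_mul, QuotientGroup.mk_mul,
        QuotientGroup.mk_inv, hcomm (g : E ⧸ frattini E), mul_inv_cancel_right]
      rfl
  let ρ := QuotientGroup.lift I ρ₀ hker.ge
  have hρ : Function.Injective ρ := by
    rw [← MonoidHom.ker_eq_bot_iff, eq_bot_iff]
    intro x hx
    obtain ⟨a, rfl⟩ := QuotientGroup.mk_surjective x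
    rw [Subgroup.mem_bot, QuotientGroup.eq_one_iff, ← hker]
    exact hx
  -- the strongly embedded subgroup
  obtain ⟨⟨P, hP1, hPY⟩, hnorm⟩ := LocPEmb56.normalizers_le hY
  have hmeets : StrongPEmb.Meets p Y := by
    refine LocPEmb56.meets_of_normalizers ?_ hnorm
    obtain ⟨x, hx, hx1⟩ := StrongPEmb.exists_mem_ne_one hP1
    exact StrongPEmb.dvd_card_of_mem hx1 (hPY hx) P.isPGroup' hx
  have hM : Tight p Y := by
    intro y hy hy1 hyp g hg
    by_contra hgY
    obtain ⟨k, hk⟩ := hyp
    refine hmeets g hgY ?_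
    refine StrongPEmb.dvd_card_of_mem (x := g * y * g⁻¹) (fun e => hy1 (conj_eq_one_iff.1 e))
      (P := (Subgroup.zpowers (g * y * g⁻¹))) ?_ ?_ (Subgroup.mem_zpowers _)
    · exact ⟨hg, y, hy, rfl⟩
    · rintro ⟨_, i, rfl⟩
      refine ⟨k, Subtype.ext ?_⟩
      show ((g * y * g⁻¹) ^ i) ^ p ^ k = 1
      rw [← zpow_natCast, ← zpow_mul, mul_comm, zpow_mul, zpow_natCast, conj_pow, hk, mul_one,
        mul_inv_cancel, one_zpow]
  have hcardP : Nat.card P ≤ p :=
    Rank3Tv34.card_le hd hρ (Cfsg.Agent.PEmbCore.isStronglyPEmbedded_iff.1 hY).2.1 hM P.isPGroup' hPY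
  -- `Aut_S(E)` has order at most `p |Inn E|`
  obtain ⟨T₀, hT₀⟩ := (fullyAutomized_of_fullyNormalized hS hF hE.2.1).2
  set T := T₀.mapSurjective (QuotientGroup.mk'_surjective I)
  have hIT : I ≤ (T₀ : Subgroup A) := by
    rw [hT₀]
    exact fun a ha => inn_le_autInducedBy hES ha
  have hTcard : Nat.card T ≤ p := by
    rwa [Sylow.card_eq_multiplicity, ← Sylow.card_eq_multiplicity P]
  have h1 : Nat.card (T₀ : Subgroup A) ≤ p * Nat.card I := by
    have h2 := (I.subgroupOf (T₀ : Subgroup A)).card_mul_index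
    rw [Nat.card_congr (Subgroup.subgroupOfEquivOfLe hIT).toEquiv] at h2
    rw [← h2, mul_comm p]
    refine Nat.mul_le_mul_left _ ?_
    have h3 := Subgroup.relIndex_ker (T₀ : Subgroup A) (QuotientGroup.mk' I)
    rw [QuotientGroup.ker_mk'] at h3
    show I.relIndex (T₀ : Subgroup A) ≤ p
    rw [h3, ← Sylow.coe_mapSurjective (QuotientGroup.mk'_surjective I)]
    exact hTcard
  have h2 : Nat.card (T₀ : Subgroup A) = Nat.card (autInducedBy S E) := by
    rw [hT₀]
    exact Nat.card_congr (Subgroup.subgroupOfEquivOfLe (autInducedBy_le hES)).toEquiv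
  have h3 : Nat.card I = Nat.card (Inn E) :=
    Nat.card_congr (Subgroup.subgroupOfEquivOfLe (inn_le_autGroup hES)).toEquiv
  rw [h2, h3] at h1
  have hle : Nat.card (normalizerIn S E) ≤ p * Nat.card E := by
    rw [FusionSysBasic.card_normalizerIn, ← card_centralizerIn_mul hE.1, ← mul_assoc]
    exact Nat.mul_le_mul_right _ h1
  have hlt := normalizerIn_gt hS (essential_lt hS hF hE)
  obtain ⟨a, ha⟩ := IsPGroup.iff_card.1 hEp
  haveI := finite_normalizerIn (S := S) E
  obtain ⟨b, hb⟩ : ∃ b, Nat.card (normalizerIn S E) = p ^ b :=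
    IsPGroup.iff_card.1 (hS.to_le inf_le_left)
  have hp1 := (Fact.out : p.Prime).one_lt
  rw [ha, ← pow_succ'] at hle ⊢
  rw [hb] at hle hlt ⊢
  rw [ha] at hlt
  have := (Nat.pow_lt_pow_iff_right hp1).1 hlt
  have := (Nat.pow_le_pow_iff_right hp1).1 hle
  rw [show b = a + 1 by omega]

theorem omZ_invariant {p : ℕ} {P : Subgroup Ω} (α : MulAut P) {x : Ω} (hx : x ∈ OmZ p P) :
    afun α x ∈ OmZ p P := by
  obtain ⟨hP, hp, hc⟩ := hx
  refine ⟨afun_mem α hP, ?_, fun y hy => ?_⟩
  · have h := congrArg (fun z : P => ((α z : P) : Ω)) (Subtype.ext hp : (⟨x, hP⟩ : P) ^ p = 1)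
    simp only [map_pow, map_one, Subgroup.coe_pow, Subgroup.coe_one] at h
    rw [afun_apply α hP]
    exact h
  · have hy' := afun_mem α⁻¹ hy
    conv_lhs => rw [← afun_apply_inv α hy, ← FusionSysNormal.afun_map_mul α hP hy', hc _ hy',
      FusionSysNormal.afun_map_mul α hy' hP, afun_apply_inv α hy]

theorem omZ_le_of_centric [Finite S] {p : ℕ} {F : FusionSystem S} {E : Subgroup Ω}
    (hc : F.IsCentric E) : OmZ p S ≤ OmZ p E := fun x ⟨hxS, hxp, hxc⟩ =>
  ⟨hc.2 E (isConj_refl hc.1) (mem_centralizerIn.2 ⟨hxS, fun y hy => by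
    rw [cj_apply, hxc y (hc.1 hy), mul_inv_cancel_right]⟩), hxp, fun y hy => hxc y (hc.1 hy)⟩

/-- **PL.** A maximal essential subgroup moving `Ω₁(Z(S))` has a natural plane or a cubic
module. -/
theorem plane_or_cubic [Finite S] {p : ℕ} [Fact p.Prime] {F : FusionSystem S}
    (_hp : Odd p) (hS : IsPGroup p S) (hF : F.IsSaturated p) (rk : Cfsg.SectionalPRankLE p 3 S)
    {E : Subgroup Ω} (hE : Max F p E) (hmove : ¬ Inv F E (OmZ p S)) :
    (∃ U, Plane F p E U) ∨ ∃ V, Cubic F p E V := by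
  classical
  have hp := (Fact.out : p.Prime)
  have hES := hE.ess.1.1
  haveI := finite_of_le hES
  haveI := finite_autGroup (F := F) E
  set A := F.autGroup E
  set V : Subgroup Ω := Subgroup.closure {y | ∃ α ∈ A, ∃ z ∈ OmZ p S, afun α z = y}
  have hzE : OmZ p S ≤ OmZ p E := omZ_le_of_centric hE.ess.1
  have hzV : OmZ p S ≤ V := fun z hz =>
    Subgroup.subset_closure ⟨1, one_mem _, z, hz, afun_one (hzE hz).1⟩
  have hVO : V ≤ OmZ p E := (Subgroup.closure_le _).2 (by
    rintro _ ⟨α, -, z, hz, rfl⟩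
    exact omZ_invariant α (hzE hz))
  have hVE : V ≤ E := hVO.trans omZ_le
  have hVS : V ≤ S := hVE.trans hES
  haveI := finite_of_le hVS
  have hVinv : Inv F E V := by
    intro β hβ x hx
    induction hx using Subgroup.closure_induction with
    | mem y hy =>
      obtain ⟨α, hα, z, hz, rfl⟩ := hy
      exact Subgroup.subset_closure ⟨β * α, mul_mem hβ hα, z, hz, afun_mul β α (hzE hz).1⟩
    | one => rw [afun_apply β E.one_mem]; simp [show (⟨1, E.one_mem⟩ : E) = 1 from rfl]
    | mul a b ha hb iha ihb =>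
      rw [FusionSysNormal.afun_map_mul β (hVE ha) (hVE hb)]
      exact mul_mem iha ihb
    | inv a ha iha =>
      rw [show afun β a⁻¹ = (afun β a)⁻¹ from by
        rw [afun_apply β (E.inv_mem (hVE ha)), afun_apply β (hVE ha)]
        exact congrArg Subtype.val (map_inv β (⟨a, hVE ha⟩ : E))]
      exact inv_mem iha
  have hcomm : ∀ a b : V, a * b = b * a := fun a b =>
    Subtype.ext ((hVO a.2).2.2 b (hVE b.2))
  have hexp : ∀ a : V, a ^ p = 1 := fun a => Subtype.ext ((hVO a.2).2.1)
  have hVcard : Nat.card V ≤ p ^ 3 := by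
    rw [← Nat.card_congr (QuotientGroup.quotientBot (G := V)).toEquiv]
    refine card_section_le rk hVS ⊥ (fun x y => ?_) fun x => ?_
    · apply (QuotientGroup.quotientBot (G := V)).injective
      rw [map_mul, map_mul, hcomm]
    · apply (QuotientGroup.quotientBot (G := V)).injective
      rw [map_pow, map_one, hexp]
  letI : CommGroup V := { (inferInstance : Group V) with mul_comm := hcomm }
  haveI : Module (ZMod p) (Additive V) :=
    AddCommGroup.zmodModule fun x => by
      apply Additive.toMul.injective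
      rw [toMul_nsmul]
      exact hexp x.toMul
  haveI : FiniteDimensional (ZMod p) (Additive V) := Module.Finite.of_finite
  set n := Module.finrank (ZMod p) (Additive V)
  have hVn : Nat.card V = p ^ n := by
    rw [show Nat.card V = Nat.card (Additive V) from rfl, Module.natCard_eq_pow_finrank (K := ZMod p),
      Nat.card_zmod]
  have hn3 : n ≤ 3 := (Nat.pow_le_pow_iff_right hp.one_lt).1 (hVn ▸ hVcard)
  let vΩ : Additive V → Ω := fun w => ((Additive.toMul w : V) : Ω)
  have hvmem : ∀ w, vΩ w ∈ V := fun w => (Additive.toMul w : V).2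
  have hvadd : ∀ a b, vΩ (a + b) = vΩ a * vΩ b := fun _ _ => rfl
  have hvsub : ∀ a b, vΩ (a - b) = vΩ a * (vΩ b)⁻¹ := fun a b => by
    rw [← div_eq_mul_inv]; rfl
  have hvinj : Function.Injective vΩ := fun a b h => Additive.toMul.injective (Subtype.ext h)
  -- the representation
  let r : A →* MulAut V :=
    { toFun := fun α =>
        { toFun := fun v => ⟨afun (α : MulAut E) v, hVinv α α.2 v v.2⟩
          invFun := fun v => ⟨afun (α : MulAut E)⁻¹ v, hVinv _ (inv_mem α.2) v v.2⟩
          left_inv := fun v => Subtype.ext (afun_inv_apply _ (hVE v.2))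
          right_inv := fun v => Subtype.ext (afun_apply_inv _ (hVE v.2))
          map_mul' := fun a b =>
            Subtype.ext (FusionSysNormal.afun_map_mul _ (hVE a.2) (hVE b.2)) }
      map_one' := MulEquiv.ext fun v => Subtype.ext (afun_one (hVE v.2))
      map_mul' := fun a b => MulEquiv.ext fun v => Subtype.ext (afun_mul _ _ (hVE v.2)) }
  let ρA : A →* (Additive V ≃ₗ[ZMod p] Additive V) := (linHom p).comp r
  let G := ρA.range
  let π : A →* G := ρA.rangeRestrict
  let ρ : G →* (Additive V ≃ₗ[ZMod p] Additive V) := G.subtype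
  have hρ : Function.Injective ρ := G.subtype_injective
  have hπ : ∀ (α : A) w, vΩ (ρ (π α) w) = afun (α : MulAut E) (vΩ w) := fun _ _ => rfl
  haveI : Finite G := Finite.of_surjective π ρA.rangeRestrict_surjective
  -- conjugation by elements of `S`
  have hnorm : S ≤ S ⊓ Subgroup.normalizer (E : Set Ω) :=
    le_inf le_rfl fun g hg => mem_normalizer_of_cj_le hES fun x hx => hE.normal g hg x hx
  have hrange : ∀ g : ↥(S ⊓ Subgroup.normalizer (E : Set Ω)), nHom S E g ∈ A := fun g =>
    autInducedBy_le hES (autInducedBy_eq_range S E ▸ ⟨g, rfl⟩)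
  let χ : S →* A := ((nHom S E).codRestrict A hrange).comp (Subgroup.inclusion hnorm)
  have hχ : ∀ (s : S) w, vΩ (ρ (π (χ s)) w) = cj (s : Ω) (vΩ w) := fun s w => by
    rw [hπ]; exact afun_nHom _ (hVE (hvmem w))
  let χG : S →* G := π.comp χ
  have hEker : E.subgroupOf S ≤ χG.ker := fun s hs => by
    refine MonoidHom.mem_ker.2 (eq_of_rho hρ fun w => hvinj ?_)
    rw [rho_one, show χG s = π (χ s) from rfl, hχ]
    have := (hVO (hvmem w)).2.2 s hs
    rw [cj_apply, ← this, mul_inv_cancel_right]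
  have hfix : ∀ v ∈ V, (∀ s : S, cj (s : Ω) v = v) → v ∈ OmZ p S := fun v hv h =>
    ⟨hVS hv, (hVO hv).2.1, fun y hy => by
      have := h ⟨y, hy⟩
      rw [cj_apply, mul_inv_eq_iff_eq_mul] at this
      exact this.symm⟩
  have hidx : (E.subgroupOf S).index = p := by
    have h := (E.subgroupOf S).card_mul_index
    rw [Nat.card_congr (Subgroup.subgroupOfEquivOfLe hES).toEquiv, hE.card_eq, mul_comm p] at h
    exact Nat.eq_of_mul_eq_mul_left Nat.card_pos h
  have hkne : χG.ker.index ≠ 1 := by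
    intro h
    rw [Subgroup.index_eq_one] at h
    have hVz : V ≤ OmZ p S := fun v hv => hfix v hv fun s => by
      have h1 : χG s = 1 := MonoidHom.mem_ker.1 (h ▸ Subgroup.mem_top s)
      have h2 := hχ s (Additive.ofMul ⟨v, hv⟩)
      rw [show π (χ s) = χG s from rfl, h1, rho_one] at h2
      exact h2.symm
    exact hmove fun α hα x hx => hVz (hVinv α hα x (hzV hx))
  have hkidx : χG.ker.index = p :=
    ((Nat.dvd_prime hp).1 ((Subgroup.index_dvd_of_le hEker).trans hidx.dvd)).resolve_left hkne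
  have hkerE : χG.ker = E.subgroupOf S := (Subgroup.eq_of_le_of_card_ge hEker (by
    have h1 := χG.ker.card_mul_index
    have h2 := (E.subgroupOf S).card_mul_index
    rw [hkidx] at h1
    rw [hidx] at h2
    exact (Nat.eq_of_mul_eq_mul_right hp.pos (h1.trans h2.symm)).le)).symm
  have hmovedE : ∀ x ∈ S, x ∉ E → ∀ s : S, (s : Ω) = x → χG s ≠ 1 := by
    rintro x - hxE s rfl h
    have : s ∈ E.subgroupOf S := hkerE ▸ h
    exact hxE this
  have hrcard : Nat.card χG.range = p := by rw [← Subgroup.index_ker, hkidx]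
  -- the Sylow subgroups of `G` have order `p`
  obtain ⟨T₀, hT₀⟩ := (fullyAutomized_of_fullyNormalized hS hF hE.ess.2.1).2
  have hTG : ((T₀.mapSurjective (f := π) ρA.rangeRestrict_surjective : Sylow p G) : Subgroup G) =
      χG.range := by
    rw [Sylow.coe_mapSurjective, hT₀, MonoidHom.range_comp]
    congr 1
    ext a
    rw [Subgroup.mem_subgroupOf, autInducedBy_eq_range, MonoidHom.mem_range, MonoidHom.mem_range]
    constructor
    · rintro ⟨g, hg⟩
      exact ⟨⟨g, g.2.1⟩, Subtype.ext hg⟩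
    · rintro ⟨s, hs⟩
      exact ⟨Subgroup.inclusion hnorm s, congrArg Subtype.val hs⟩
  have hsylcard : ∀ Q : Sylow p G, Nat.card (Q : Subgroup G) = p := fun Q => by
    rw [Sylow.card_eq_multiplicity,
      ← Sylow.card_eq_multiplicity (T₀.mapSurjective (f := π) ρA.rangeRestrict_surjective), hTG,
      hrcard]
  have hsyl : SylOne p G := by
    intro a b ha ha1 hb hb1 hab
    have hoa := orderOf_eq_prime ha ha1
    have hob := orderOf_eq_prime hb hb1
    have hcomm' : ∀ (x : Subgroup.zpowers a) (y : Subgroup.zpowers b),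
        Commute ((Subgroup.zpowers a).subtype x) ((Subgroup.zpowers b).subtype y) := by
      rintro ⟨_, i, rfl⟩ ⟨_, j, rfl⟩
      exact hab.zpow_zpow i j
    let m := MonoidHom.noncommCoprod (Subgroup.zpowers a).subtype (Subgroup.zpowers b).subtype hcomm'
    have hm : IsPGroup p m.range :=
      (IsPGroup.of_card (n := 2) (by
        rw [Nat.card_prod, Nat.card_zpowers, Nat.card_zpowers, hoa, hob, sq])).of_surjective
        m.rangeRestrict m.rangeRestrict_surjective
    obtain ⟨Q, hQ⟩ := hm.exists_le_sylow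
    have haQ : Subgroup.zpowers a ≤ (Q : Subgroup G) := Subgroup.zpowers_le.2
      (hQ ⟨(⟨a, Subgroup.mem_zpowers a⟩, 1), by simp [m]⟩)
    have hbQ : b ∈ (Q : Subgroup G) := hQ ⟨(1, ⟨b, Subgroup.mem_zpowers b⟩), by simp [m]⟩
    rwa [Subgroup.eq_of_le_of_card_ge haQ (by rw [hsylcard, Nat.card_zpowers, hoa])]
  by_cases hcub : ∀ x ∈ S, x ∉ E → ∃ v ∈ V, cj x (cj x v * v⁻¹) ≠ cj x v * v⁻¹
  · -- the cubic case
    refine Or.inr ⟨V, hVO, ?_, hVinv, hcub⟩
    obtain ⟨x, hxS, hxE⟩ := SetLike.exists_of_lt (essential_lt hS hF hE.ess)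
    obtain ⟨v, hv, hne⟩ := hcub x hxS hxE
    set g := χG ⟨x, hxS⟩
    let N : Additive V →ₗ[ZMod p] Additive V := (ρ g).toLinearMap - LinearMap.id
    have hN : ∀ w, N w = ρ g w - w := fun _ => rfl
    have hgv : ∀ w, vΩ (ρ g w) = cj x (vΩ w) := hχ ⟨x, hxS⟩
    set w₀ : Additive V := Additive.ofMul ⟨v, hv⟩
    have hNN : N (N w₀) ≠ 0 := by
      rw [hN (N w₀), sub_ne_zero]
      intro e
      refine hne ?_
      have := congrArg vΩ e
      rwa [hgv, hN, hvsub, hgv] at this
    have hnil : ∀ W' : Submodule (ZMod p) (Additive V), W' ≠ ⊥ → Submodule.map N W' ≤ W' →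
        Submodule.map N W' ≠ W' := by
      intro W' hW' _ heq
      apply hW'
      have hNp : (N : Module.End (ZMod p) (Additive V)) ^ p = 0 := by
        have h1 : ((ρ g).toLinearMap : Module.End (ZMod p) (Additive V)) ^ p = 1 := by
          have hgp : g ^ p = 1 := by
            obtain ⟨c, hc⟩ : ∃ c : χG.range, (c : G) = g := ⟨⟨g, ⟨_, rfl⟩⟩, rfl⟩
            have h := pow_card_eq_one' (x := c)
            rw [hrcard] at h
            rw [← hc, ← SubgroupClass.coe_pow, h, Subgroup.coe_one]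
          refine LinearMap.ext fun w => ?_
          have hpow : ∀ i : ℕ, (((ρ g).toLinearMap : Module.End (ZMod p) (Additive V)) ^ i) w =
              ρ (g ^ i) w := by
            intro i
            induction i with
            | zero => simp
            | succ i ih =>
              rw [pow_succ', pow_succ', Module.End.mul_apply, ih, rho_mul]
              rfl
          rw [hpow, hgp, rho_one]
          rfl
        have h3 : ((ρ g).toLinearMap : Module.End (ZMod p) (Additive V)) = N + 1 := by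
          ext w; simp [hN]
        rw [h3] at h1
        haveI : CharP (Module.End (ZMod p) (Additive V)) p := by
          haveI : Nontrivial (Module.End (ZMod p) (Additive V)) :=
            ⟨⟨N, 0, fun e => hNN (by rw [e]; simp)⟩⟩
          exact charP_of_injective_algebraMap
            (algebraMap (ZMod p) (Module.End (ZMod p) (Additive V))).injective p
        rw [add_pow_char_of_commute (p := p) (Commute.one_right N), one_pow, add_eq_right] at h1
        exact h1
      have hk : ∀ i : ℕ, Submodule.map ((N : Module.End (ZMod p) (Additive V)) ^ i) W' = W' := by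
        intro i
        induction i with
        | zero => rw [pow_zero, Module.End.one_eq_id, Submodule.map_id]
        | succ i ih =>
          rw [pow_succ', Module.End.mul_eq_comp, Submodule.map_comp, ih, heq]
      rw [← hk p, hNp, Submodule.map_zero]
    set R₁ := LinearMap.range N
    set R₂ := Submodule.map N R₁
    have hR1 : R₂ ≤ R₁ := by rintro _ ⟨y, -, rfl⟩; exact ⟨y, rfl⟩
    have hR2 : R₂ ≠ ⊥ := fun e => hNN (by
      have h : N (N w₀) ∈ R₂ := ⟨N w₀, ⟨w₀, rfl⟩, rfl⟩
      rwa [e, Submodule.mem_bot] at h)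
    have hR1' : R₁ ≠ ⊥ := fun e => hR2 (eq_bot_iff.2 (e ▸ hR1))
    have hlt1 : R₂ < R₁ := lt_of_le_of_ne hR1 (hnil R₁ hR1' hR1)
    have hlt2 : R₁ < ⊤ := lt_of_le_of_ne le_top fun e => hnil ⊤
      (fun e' => hR1' (eq_bot_iff.2 (e' ▸ le_top))) le_top (by rw [Submodule.map_top]; exact e)
    have hf1 := Submodule.finrank_lt_finrank_of_lt hlt1
    have hf2 := Submodule.finrank_lt_finrank_of_lt hlt2
    have hf3 : 0 < Module.finrank (ZMod p) R₂ := by
      rw [Nat.pos_iff_ne_zero, ne_eq, Submodule.finrank_eq_zero]; exact hR2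
    rw [finrank_top] at hf2
    rw [hVn, show n = 3 by omega]
  -- the transvection case
  push Not at hcub
  obtain ⟨x₀, hx₀S, hx₀E, hquad⟩ := hcub
  set s₀ : S := ⟨x₀, hx₀S⟩
  set t := χG s₀
  have ht1 : t ≠ 1 := hmovedE x₀ hx₀S hx₀E s₀ rfl
  let N : Additive V →ₗ[ZMod p] Additive V := (ρ t).toLinearMap - LinearMap.id
  have hN : ∀ w, N w = ρ t w - w := fun _ => rfl
  have hgv : ∀ w, vΩ (ρ t w) = cj x₀ (vΩ w) := hχ s₀
  have hNN : ∀ w, N (N w) = 0 := fun w => by
    rw [hN (N w), sub_eq_zero]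
    apply hvinj
    rw [hgv, hN, hvsub, hgv]
    exact hquad _ (hvmem w)
  obtain ⟨w₀, hw₀⟩ : ∃ w, N w ≠ 0 := by
    by_contra h
    push Not at h
    exact ht1 (eq_of_rho hρ fun w => by rw [rho_one, ← sub_eq_zero, ← hN, h])
  set P := N w₀
  have hrank : Module.finrank (ZMod p) (LinearMap.range N) ≤ 1 := by
    have h1 : LinearMap.range N ≤ LinearMap.ker N := by rintro _ ⟨y, rfl⟩; exact hNN y
    have h2 := Submodule.finrank_mono h1
    have h3 := LinearMap.finrank_range_add_finrank_ker N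
    omega
  have hspan : LinearMap.range N = ZMod p ∙ P :=
    (Submodule.eq_of_le_of_finrank_le
      ((Submodule.span_singleton_le_iff_mem _ _).2 (LinearMap.mem_range_self N w₀))
      (by rwa [finrank_span_singleton hw₀])).symm
  obtain ⟨ψ, hψ⟩ : ∃ ψ : Additive V →ₗ[ZMod p] ZMod p, ψ P = 1 := by
    obtain ⟨ψ, hψ⟩ : ∃ ψ : Module.Dual (ZMod p) (Additive V), ψ P ≠ 0 := by
      by_contra h
      push Not at h
      exact hw₀ ((Module.forall_dual_apply_eq_zero_iff (ZMod p) P).1 h)
    exact ⟨(ψ P)⁻¹ • ψ, by simp [hψ]⟩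
  set φ := ψ.comp N
  have hφN : ∀ w, N w = φ w • P := fun w => by
    obtain ⟨c, hc⟩ := Submodule.mem_span_singleton.1 (hspan ▸ LinearMap.mem_range_self N w)
    rw [LinearMap.comp_apply, ← hc, map_smul, hψ, smul_eq_mul, mul_one]
  have ht : Tv ρ t P φ := by
    refine ⟨hw₀, fun e => ?_, ?_, fun w => ?_⟩
    · have : φ w₀ = 1 := hψ
      rw [e] at this
      exact one_ne_zero this.symm
    · show ψ (N P) = 0
      rw [hNN, map_zero]
    · rw [← hφN, hN]; abel
  have hpow : ∀ s : S, ∃ k : ℕ, χG s = t ^ k := by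
    intro s
    have h1 : Subgroup.zpowers t = χG.range := Subgroup.eq_of_le_of_card_ge
      (Subgroup.zpowers_le.2 ⟨s₀, rfl⟩) (by rw [hrcard, Nat.card_zpowers, ht.order hρ])
    obtain ⟨k, hk⟩ := (isOfFinOrder_of_finite t).mem_powers_iff_mem_zpowers.2
      (h1.ge ⟨s, rfl⟩)
    exact ⟨k, hk.symm⟩
  have hmove' : ¬ ∀ (g : G) (w : Additive V), φ w = 0 → φ (ρ g w) = 0 := by
    intro h
    refine hmove fun α hα z hz => ?_
    set w : Additive V := Additive.ofMul ⟨z, hzV hz⟩
    have hw : φ w = 0 := by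
      have h1 : ρ t w = w := hvinj (by
        rw [hgv]
        show cj x₀ z = z
        rw [cj_apply, ← hz.2.2 x₀ hx₀S, mul_inv_cancel_right])
      show ψ (N w) = 0
      rw [hN, h1, sub_self, map_zero]
    refine hfix _ (hVinv α hα z (hzV hz)) fun s => ?_
    obtain ⟨k, hk⟩ := hpow s
    have h2 := hχ s (ρ (π ⟨α, hα⟩) w)
    rw [show π (χ s) = χG s from rfl, hk, ht.pow_apply, h _ w hw, mul_zero, zero_smul, add_zero,
      hπ] at h2
    exact h2.symm
  obtain ⟨g₀, ha, hb, hcl⟩ := exists_opposite hρ hsyl ht hmove'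
  set P' := ρ g₀ P
  set t' := g₀ * t * g₀⁻¹
  have ht' : Tv ρ t' P' _ := ht.conj g₀
  set U' := Submodule.span (ZMod p) (Set.range ![P, P'])
  have hP0 : P ∈ U' := Submodule.subset_span ⟨0, rfl⟩
  have hP1 : P' ∈ U' := Submodule.subset_span ⟨1, rfl⟩
  have hli : LinearIndependent (ZMod p) ![P, P'] := by
    rw [Fintype.linearIndependent_iff]
    intro c hc
    simp only [Fin.sum_univ_two, Matrix.cons_val_zero, Matrix.cons_val_one] at hc
    have h1 : c 1 = 0 := by
      have := congrArg φ hc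
      simp only [map_add, map_smul, ht.ker, map_zero, smul_eq_mul, mul_zero, zero_add,
        mul_eq_zero, ha, or_false] at this
      exact this
    rw [h1, zero_smul, add_zero, smul_eq_zero] at hc
    intro i; fin_cases i
    · exact hc.resolve_right hw₀
    · exact h1
  have hU2 : Module.finrank (ZMod p) U' = 2 := by
    rw [finrank_span_eq_card hli, Fintype.card_fin]
  set U : Subgroup Ω := (AddSubgroup.toSubgroup' U'.toAddSubgroup).map V.subtype
  have hmemU : ∀ u, u ∈ U ↔ ∃ w ∈ U', vΩ w = u := fun u =>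
    ⟨fun ⟨v, hv, hvu⟩ => ⟨Additive.ofMul v, hv, hvu⟩,
      fun ⟨w, hw, hwu⟩ => ⟨Additive.toMul w, hw, hwu⟩⟩
  have hUV : U ≤ V := Subgroup.map_subtype_le _
  -- elements of `opp` inducing `t` and `t'`
  obtain ⟨β, hβ⟩ := ρA.rangeRestrict_surjective g₀
  set α₀ := χ s₀
  set α₁ := β * α₀ * β⁻¹
  have hα₁π : π α₁ = t' := by
    rw [map_mul, map_mul, map_inv, show π β = g₀ from hβ]; rfl
  have hα₀k : ∃ k : ℕ, α₀ ^ p ^ k = 1 := by
    obtain ⟨k, hk⟩ := hS s₀
    exact ⟨k, by rw [← map_pow, hk, map_one]⟩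
  have hord : ∀ α : A, (∃ k : ℕ, α ^ p ^ k = 1) → (α : MulAut E) ∈ opp F p E := by
    rintro α ⟨k, hk⟩
    obtain ⟨j, -, hj⟩ := (Nat.dvd_prime_pow hp).1 (orderOf_dvd_of_pow_eq_one hk)
    exact Subgroup.subset_closure ⟨α.2, j, by rw [Subgroup.orderOf_coe, hj]⟩
  have hα₁k : ∃ k : ℕ, α₁ ^ p ^ k = 1 := by
    obtain ⟨k, hk⟩ := hα₀k
    exact ⟨k, by rw [conj_pow, hk, mul_one, mul_inv_cancel]⟩
  refine Or.inl ⟨U, fun u hu => hVO (hUV hu), ?_, ?_, ?_, ?_, ?_⟩
  · rw [Nat.card_congr (Subgroup.equivMapOfInjective _ _ V.subtype_injective).toEquiv.symm,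
      show Nat.card (AddSubgroup.toSubgroup' U'.toAddSubgroup) = Nat.card U' from rfl,
      Module.natCard_eq_pow_finrank (K := ZMod p), Nat.card_zmod, hU2]
  · intro α hα u hu
    obtain ⟨w, hw, rfl⟩ := (hmemU u).1 hu
    refine (hmemU _).2 ⟨_, ?_, hπ ⟨α, hα⟩ w⟩
    obtain ⟨c, rfl⟩ := (Submodule.mem_span_range_iff_exists_fun _).1 hw
    rw [Fin.sum_univ_two, map_add, map_smul, map_smul]
    refine Submodule.add_mem _ (Submodule.smul_mem _ _ (hcl _)) (Submodule.smul_mem _ _ ?_)
    show ρ _ (ρ g₀ P) ∈ U'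
    rw [← rho_mul]
    exact hcl _
  · intro x hxS hxE
    refine ⟨vΩ P', (hmemU _).2 ⟨P', hP1, rfl⟩, fun h => ?_⟩
    obtain ⟨k, hk⟩ := hpow ⟨x, hxS⟩
    have h2 := hχ ⟨x, hxS⟩ P'
    rw [show π (χ ⟨x, hxS⟩) = χG ⟨x, hxS⟩ from rfl, hk, ht.pow_apply, h] at h2
    have h3 := hvinj h2
    rw [add_eq_left, smul_eq_zero, mul_eq_zero, or_iff_left hw₀, or_iff_left ha] at h3
    refine hmovedE x hxS hxE ⟨x, hxS⟩ rfl (hk.trans ?_)
    obtain ⟨j, rfl⟩ := (CharP.cast_eq_zero_iff (ZMod p) p k).1 h3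
    rw [pow_mul, ht.pow_p hρ, one_pow]
  · intro L hLU hLinv
    let L' : Submodule (ZMod p) (Additive V) :=
      AddSubgroup.toZModSubmodule p (Subgroup.toAddSubgroup (L.comap V.subtype))
    have hmemL : ∀ w, w ∈ L' ↔ vΩ w ∈ L := fun _ => Iff.rfl
    have hst : ∀ α : A, (∃ k : ℕ, α ^ p ^ k = 1) → ∀ w ∈ L', ρ (π α) w ∈ L' := fun α hα w hw => by
      rw [hmemL, hπ]
      exact hLinv _ (hord α hα) _ ((hmemL w).1 hw)
    by_cases hbot : ∀ u ∈ L, u = 1
    · exact Or.inl ((Subgroup.eq_bot_iff_forall L).2 hbot)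
    push Not at hbot
    obtain ⟨u, huL, hu1⟩ := hbot
    obtain ⟨w, hwU, rfl⟩ := (hmemU u).1 (hLU huL)
    have hw0 : w ≠ 0 := fun e => hu1 (e ▸ rfl)
    have hPL : P ∈ L' := by
      by_cases hw : φ w = 0
      · obtain ⟨c, hc⟩ := (Submodule.mem_span_range_iff_exists_fun _).1 hwU
        simp only [Fin.sum_univ_two, Matrix.cons_val_zero, Matrix.cons_val_one] at hc
        have hc1 : c 1 = 0 := by
          have := congrArg φ hc
          simp only [map_add, map_smul, ht.ker, hw, smul_eq_mul, mul_zero, zero_add,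
            mul_eq_zero, ha, or_false] at this
          exact this
        rw [hc1, zero_smul, add_zero] at hc
        have hc0 : c 0 ≠ 0 := fun e => hw0 (by rw [← hc, e, zero_smul])
        rw [← Submodule.smul_mem_iff _ hc0, hc]
        exact (hmemL w).2 huL
      · have h1 := Submodule.sub_mem _ (hst α₀ hα₀k w ((hmemL w).2 huL)) ((hmemL w).2 huL)
        rw [show π α₀ = t from rfl, ht.eqn, add_sub_cancel_left] at h1
        exact (Submodule.smul_mem_iff _ hw).1 h1
    have hP'L : P' ∈ L' := by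
      have h1 := Submodule.sub_mem _ (hst α₁ hα₁k P hPL) hPL
      rw [hα₁π, ht'.eqn, add_sub_cancel_left] at h1
      exact (Submodule.smul_mem_iff _ (by simpa using hb)).1 h1
    refine Or.inr (le_antisymm hLU fun u hu => ?_)
    obtain ⟨v, hv, rfl⟩ := (hmemU u).1 hu
    obtain ⟨c, rfl⟩ := (Submodule.mem_span_range_iff_exists_fun _).1 hv
    rw [← hmemL, Fin.sum_univ_two]
    exact Submodule.add_mem _ (Submodule.smul_mem _ _ hPL) (Submodule.smul_mem _ _ hP'L)
  · obtain ⟨j, hj, hjU⟩ := exists_neg ht ht' ha (by simpa using hb)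
    obtain ⟨j₀, hj₀, hj₀π⟩ : ∃ j₀ : A, (j₀ : MulAut E) ∈ opp F p E ∧ π j₀ = j := by
      have h1 : Subgroup.closure {t, t'} ≤ ((opp F p E).subgroupOf A).map π := by
        rw [Subgroup.closure_le]
        rintro g (rfl | rfl)
        · exact ⟨α₀, hord α₀ hα₀k, rfl⟩
        · exact ⟨α₁, hord α₁ hα₁k, hα₁π⟩
      obtain ⟨a, ha', rfl⟩ := h1 hj
      exact ⟨a, ha', rfl⟩
    set N₀ := orderOf (j₀ : MulAut E)
    have hN0 : N₀ ≠ 0 := (orderOf_pos _).ne'
    set m := N₀ / 2 ^ N₀.factorization 2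
    have hodd : ¬ 2 ∣ m := Nat.not_dvd_ordCompl Nat.prime_two hN0
    obtain ⟨i, hi⟩ : ∃ i, m = 2 * i + 1 := ⟨m / 2, by omega⟩
    refine ⟨(j₀ : MulAut E) ^ m, pow_mem hj₀ m, ⟨N₀.factorization 2, ?_⟩, fun u hu => ?_⟩
    · rw [orderOf_pow, Nat.gcd_eq_right (Nat.ordCompl_dvd N₀ 2)]
      exact Nat.div_div_self (Nat.ordProj_dvd N₀ 2) hN0
    · obtain ⟨w, hw, rfl⟩ := (hmemU u).1 hu
      have h2 : ∀ k : ℕ, ρ (j ^ (2 * k)) w = w := by
        intro k
        induction k with
        | zero => rw [mul_zero, pow_zero, rho_one]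
        | succ k ih =>
          rw [Nat.mul_succ, pow_add, rho_mul, sq, rho_mul, hjU w hw, map_neg, hjU w hw, neg_neg, ih]
      have h3 : ρ (π (j₀ ^ m)) w = -w := by
        rw [map_pow, hj₀π, hi, pow_succ', rho_mul, h2, hjU w hw]
      have h4 := hπ (j₀ ^ m) w
      rw [h3, SubgroupClass.coe_pow] at h4
      rw [← h4]
      rfl

end Cfsg.Agent.Rank3
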