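import Cfsg.Agent.Lib.Rank3CaseB34TwoTools
import Cfsg.Agent.Lib.Rank3Linear34
import Cfsg.Agent.Lib.ComponentsCores
import Cfsg.Agent.Lib.FusionSysNormalizer

/-!
Tools for S5180: an essential subgroup `E` with its normalizer, the group `O^{p'}(Aut_F(E))`, and
the ways in which it fails to be a `p`-group.
-/

set_option autoImplicit false
set_option linter.unusedSectionVars false
set_option linter.style.haveILetI false

namespace Cfsg.Agent.NormalR3

open Cfsg Cfsg.FusionSystem Cfsg.Agent.FusionSysBasic Cfsg.Agent.FusionSysSaturated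
  Cfsg.Agent.FusionSysNormal Cfsg.Agent.FusionSysAlperin Cfsg.Agent.Rank3 Cfsg.Agent.Rank3.CaseB2

universe u

variable {Ω : Type u} [Group Ω] {S : Subgroup Ω} {F : FusionSystem S} {p : ℕ} {E : Subgroup Ω}

/-- Conjugation on `E` by the elements of its normalizer in `S`, as automorphisms. -/
def cN (S E : Subgroup Ω) : ↥(normalizerIn S E) →* MulAut E := nHom S E

theorem afun_cN (n : ↥(normalizerIn S E)) {y : Ω} (hy : y ∈ E) :
    afun (cN S E n) y = cj (n : Ω) y :=
  afun_nHom (K := S) (P := E) n hy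

/-- The image of the Frattini subgroup of `E`. -/
def frE (E : Subgroup Ω) : Subgroup Ω := (frattini ↥E).map E.subtype

theorem frE_le : frE E ≤ E := Subgroup.map_subtype_le _

theorem mem_frE {y : Ω} (hy : y ∈ E) : y ∈ frE E ↔ (⟨y, hy⟩ : E) ∈ frattini ↥E := by
  constructor
  · rintro ⟨w, hw, e⟩
    have e' : w = ⟨y, hy⟩ := Subtype.ext e
    rw [← e']
    exact hw
  · exact fun h => ⟨_, h, rfl⟩

theorem afun_mem_frE (α : MulAut E) {y : Ω} (hy : y ∈ frE E) : afun α y ∈ frE E := by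
  have hyE := frE_le hy
  rw [mem_frE (afun_mem α hyE)]
  have h := (mem_frE hyE).1 hy
  have hc := Subgroup.characteristic_iff_comap_eq.1
    (inferInstance : (frattini ↥E).Characteristic) α
  have e : (⟨afun α y, afun_mem α hyE⟩ : E) = α ⟨y, hyE⟩ := Subtype.ext (afun_apply α hyE)
  rw [e]
  rw [← hc] at h
  exact h

theorem cj_mem_frE {n y : Ω} (hn : n ∈ normalizerIn S E) (hy : y ∈ frE E) : cj n y ∈ frE E := by
  have h := afun_mem_frE (cN S E ⟨n, hn⟩) hy
  rwa [afun_cN _ (frE_le hy)] at h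

theorem br_mem_frE [Finite S] [Fact p.Prime] (hS : IsPGroup p S) (hES : E ≤ S) {a b : Ω}
    (ha : a ∈ E) (hb : b ∈ E) : br a b ∈ frE E := by
  haveI := finite_of_le hES
  exact ⟨⟨a, ha⟩ * ⟨b, hb⟩ * (⟨a, ha⟩ : E)⁻¹ * (⟨b, hb⟩ : E)⁻¹,
    PGroupsBasic.commutator_le_frattini (hS.to_le hES)
      (Subgroup.commutator_mem_commutator (Subgroup.mem_top (⟨a, ha⟩ : E))
        (Subgroup.mem_top (⟨b, hb⟩ : E))), rfl⟩

theorem pow_mem_frE [Finite S] [Fact p.Prime] (hS : IsPGroup p S) (hES : E ≤ S) {a : Ω}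
    (ha : a ∈ E) : a ^ p ∈ frE E := by
  haveI := finite_of_le hES
  exact ⟨⟨a, ha⟩ ^ p, PGroupsBasic.pow_mem_frattini (hS.to_le hES) _, rfl⟩

/-- Essential subgroups in systems of sectional rank at most three. -/
structure Hyp (F : FusionSystem S) (p : ℕ) (E : Subgroup Ω) : Prop where
  hp5 : 5 ≤ p
  hS : IsPGroup p S
  hF : F.IsSaturated p
  rk : Cfsg.SectionalPRankLE p 3 S
  ess : F.IsEssential p E

namespace Hyp

variable [Finite S] [Fact p.Prime] (h : Hyp F p E)
include h

theorem le : E ≤ S := h.ess.1.1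

theorem odd : Odd p := (Fact.out : p.Prime).odd_of_ne_two (by have := h.hp5; omega)

theorem le_N : E ≤ normalizerIn S E := le_normalizerIn h.le

theorem card_N : Nat.card (normalizerIn S E) = p * Nat.card E :=
  card_normalizerIn h.odd h.hS h.hF h.rk h.ess

theorem exists_x : ∃ x ∈ normalizerIn S E, x ∉ E := by
  by_contra hc
  push Not at hc
  haveI := finite_of_le h.le
  have h1 : Nat.card (normalizerIn S E) ≤ Nat.card E := Subgroup.card_le_of_le hc
  rw [h.card_N] at h1
  have h2 : 0 < Nat.card E := Nat.card_pos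
  have := (Fact.out : p.Prime).two_le
  nlinarith

theorem eq_top_of_mem {T : Subgroup Ω} (hT : T ≤ normalizerIn S E) (hET : E ≤ T) {x : Ω}
    (hxT : x ∈ T) (hx : x ∉ E) : T = normalizerIn S E := by
  refine eq_of_le_of_card_ge (S := S) inf_le_left hT ?_
  rw [h.card_N]
  exact mul_card_le_of_lt h.hS (hT.trans inf_le_left) (lt_of_le_not_ge hET fun e => hx (e hxT))

theorem exists_eq_mul {x : Ω} (hx : x ∈ normalizerIn S E) (hxE : x ∉ E) {y : Ω}
    (hy : y ∈ normalizerIn S E) : ∃ e ∈ E, ∃ k : ℤ, y = e * x ^ k := by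
  have hle : E ⊔ Subgroup.zpowers x ≤ normalizerIn S E :=
    sup_le h.le_N (Subgroup.zpowers_le.2 hx)
  rw [← h.eq_top_of_mem hle le_sup_left (Subgroup.mem_sup_right (Subgroup.mem_zpowers x)) hxE,
    ← SetLike.mem_coe, Subgroup.coe_mul_of_right_le_normalizer_left _ _
      (Subgroup.zpowers_le.2 hx.2)] at hy
  obtain ⟨e, he, z, ⟨k, rfl⟩, rfl⟩ := Set.mem_mul.mp hy
  exact ⟨e, he, k, rfl⟩

theorem pow_mem {y : Ω} (hy : y ∈ normalizerIn S E) : y ^ p ∈ E := by
  let M : Subgroup ↥(normalizerIn S E) := E.subgroupOf (normalizerIn S E)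
  haveI : M.Normal := ⟨fun a ha g => by
    have := cj_mem_of_normalizer g.2.2 ha
    simpa [M, Subgroup.mem_subgroupOf, cj_apply] using this⟩
  have hidx : M.index = p := by
    have h1 := M.card_mul_index
    rw [Nat.card_congr (Subgroup.subgroupOfEquivOfLe h.le_N).toEquiv, h.card_N, mul_comm p] at h1
    haveI := finite_of_le h.le
    exact Nat.eq_of_mul_eq_mul_left Nat.card_pos h1
  have h2 := Subgroup.pow_index_mem M ⟨y, hy⟩
  rw [hidx] at h2
  exact h2

theorem mem_of_centralizes {g : Ω} (hg : g ∈ S) (hc : ∀ y ∈ E, g * y = y * g) : g ∈ E := by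
  refine centralizerIn_le_of_centric h.ess.1 (mem_centralizerIn.mpr ⟨hg, fun y hy => ?_⟩)
  rw [cj_apply, hc y hy, mul_inv_cancel_right]

theorem cN_mem (n : ↥(normalizerIn S E)) : cN S E n ∈ F.autGroup E :=
  autInducedBy_le h.le ((autInducedBy_eq_range S E).ge ⟨n, rfl⟩)

theorem cN_opp (n : ↥(normalizerIn S E)) : cN S E n ∈ opp F p E := by
  refine Subgroup.subset_closure ⟨h.cN_mem n, ?_⟩
  haveI : Finite (F.autGroup E) := finite_autGroup E
  obtain ⟨k, hk⟩ := IsPGroup.iff_orderOf.mp (isPGroup_autInducedBy h.hS E)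
    ⟨_, (autInducedBy_eq_range S E).ge ⟨n, rfl⟩⟩
  exact ⟨k, by rwa [Subgroup.orderOf_mk] at hk⟩

theorem cN_mem_inn {n : ↥(normalizerIn S E)} (hn : cN S E n ∈ Inn E) : (n : Ω) ∈ E :=
  mem_of_nHom_mem_inn h.le (centralizerIn_le_of_centric h.ess.1) n hn

theorem finite_opp : Finite (opp F p E) := by
  haveI : Finite (F.autGroup E) := finite_autGroup E
  exact Finite.of_injective _ (Subgroup.inclusion_injective (opp_le F p E))

theorem autInducedBy_le_opp : autInducedBy S E ≤ opp F p E := by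
  rw [autInducedBy_eq_range]
  rintro _ ⟨n, rfl⟩
  exact h.cN_opp n

theorem sylIn_opp : SylIn p (autInducedBy S E) (opp F p E) := by
  haveI := finite_autGroup (F := F) E
  haveI := h.finite_opp
  have h0 := autInducedBy_le_opp h
  rw [sylIn_iff_card h0]
  obtain ⟨-, P0, hP0⟩ := fullyAutomized_of_fullyNormalized h.hS h.hF h.ess.2.1
  have h1 : Nat.card (autInducedBy S E) = p ^ (Nat.card (F.autGroup E)).factorization p :=
    (sylIn_iff_card (autInducedBy_le h.le)).1 ⟨P0, hP0⟩
  refine le_antisymm (FusionSysNormalizer.sylIn_le_pow (isPGroup_autInducedBy h.hS E) h0) ?_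
  rw [h1]
  exact Nat.pow_le_pow_right (Fact.out : p.Prime).pos
    ((Nat.factorization_le_iff_dvd Nat.card_pos.ne' Nat.card_pos.ne').2
      (Subgroup.card_dvd_of_le (opp_le F p E)) p)

/-- `O^{p'}(Aut_F(E))` lies in every subgroup it normalises that contains `Aut_S(E)`. -/
theorem opp_le' (T : Subgroup (MulAut E)) (hn : ∀ a ∈ opp F p E, ∀ m ∈ T, a * m * a⁻¹ ∈ T)
    (hT : ∀ n : ↥(normalizerIn S E), cN S E n ∈ T) : opp F p E ≤ T := by
  haveI := h.finite_opp
  refine (Subgroup.closure_le _).mpr ?_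
  rintro α ⟨hα, k, hk⟩
  have hαo : α ∈ opp F p E := Subgroup.subset_closure ⟨hα, k, hk⟩
  obtain ⟨a, ha, hak⟩ := sylIn_absorb h.sylIn_opp
    (IsPGroup.of_card (n := k) (by rw [Nat.card_zpowers, hk]))
    (Subgroup.zpowers_le.2 hαo : Subgroup.zpowers α ≤ opp F p E)
  have h1 := hak α (Subgroup.mem_zpowers α)
  rw [autInducedBy_eq_range] at h1
  obtain ⟨n, hn'⟩ := h1
  have h2 := hn a⁻¹ (inv_mem ha) _ (hT n)
  rwa [show cN S E n = a * α * a⁻¹ from hn', inv_inv,
    show a⁻¹ * (a * α * a⁻¹) * a = α by group] at h2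

/-- Normal `p`-subgroups of `O^{p'}(Aut_F(E))` consist of inner automorphisms. -/
theorem le_inn {R : Subgroup (MulAut E)} (hR : R ≤ opp F p E) (hp : IsPGroup p R)
    (hn : ∀ a ∈ opp F p E, ∀ m ∈ R, a * m * a⁻¹ ∈ R) : R ≤ Inn E := by
  haveI := finite_autGroup (F := F) E
  set A := F.autGroup E
  let O : Subgroup A := (opp F p E).subgroupOf A
  haveI hOn : O.Normal := ⟨fun m hm a => by
    have hle : (opp F p E).map (MulAut.conj (a : MulAut E)).toMonoidHom ≤ opp F p E := by
      rw [Rank3.opp, MonoidHom.map_closure]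
      refine Subgroup.closure_mono ?_
      rintro _ ⟨b, ⟨hb, k, hk⟩, rfl⟩
      exact ⟨mul_mem (mul_mem a.2 hb) (inv_mem a.2), k,
        (MulAut.conj (a : MulAut E)).orderOf_eq b ▸ hk⟩
    exact hle ⟨(m : MulAut E), hm, rfl⟩⟩
  let R' : Subgroup O := (R.subgroupOf A).subgroupOf O
  haveI : R'.Normal := ⟨fun m hm a => hn _ a.2 _ hm⟩
  have hR'p : IsPGroup p R' := by
    refine IsPGroup.of_injective hp
      ({ toFun := fun m => (⟨(((m : O) : A) : MulAut E), m.2⟩ : R), map_one' := rfl,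
         map_mul' := fun _ _ => rfl } : R' →* R) ?_
    intro a b e
    exact Subtype.ext (Subtype.ext (Subtype.ext (congrArg (fun r : R => (r : MulAut E)) e)))
  intro m hm
  haveI : ((pCore p O).map O.subtype).Normal := ConjAct.normal_of_characteristic_of_normal
  have hcore : (pCore p O).map O.subtype ≤ pCore p A :=
    Cfsg.Agent.ComponentsCores.le_pCore'
      ((Cfsg.Agent.ComponentsCores.isPGroup_pCore p).map O.subtype)
  rw [← (radical_of_essential h.hS h.ess).2]
  exact ⟨_, hcore ⟨⟨⟨m, opp_le F p E (hR hm)⟩, hR hm⟩,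
    Cfsg.Agent.ComponentsCores.le_pCore' hR'p hm, rfl⟩, rfl⟩

/-- `O^{p'}(Aut_F(E))` has nontrivial elements of order prime to `p`. -/
theorem kill (hall : ∀ j ∈ opp F p E, (orderOf j).Coprime p → j = 1) : False := by
  haveI := h.finite_opp
  have hp : IsPGroup p (opp F p E) := by
    rw [IsPGroup.iff_orderOf]
    intro α
    refine ⟨(orderOf α).factorization p, ?_⟩
    have h0 : orderOf α ≠ 0 := (orderOf_pos α).ne'
    have h1 : ((α : MulAut E) ^ p ^ (orderOf α).factorization p) = 1 := by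
      refine hall _ ((opp F p E).pow_mem α.2 _) ?_
      rw [← SubgroupClass.coe_pow, Subgroup.orderOf_coe, orderOf_pow, Nat.gcd_eq_right (Nat.ordProj_dvd _ p)]
      exact (Nat.coprime_ordCompl (Fact.out : p.Prime) h0).symm
    refine (Nat.dvd_antisymm ?_ (Nat.ordProj_dvd _ p))
    exact orderOf_dvd_of_pow_eq_one (Subtype.ext (by rw [SubgroupClass.coe_pow, h1]; rfl))
  obtain ⟨x, hx, hxE⟩ := h.exists_x
  have := h.le_inn le_rfl hp (fun a ha m hm => mul_mem (mul_mem ha hm) (inv_mem ha))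
    (h.cN_opp ⟨x, hx⟩)
  exact hxE (h.cN_mem_inn this)

/-- An element of order prime to `p` centralising `K` and `⟨y, K⟩/K` fixes `y`. -/
theorem fixed_of_step {K : Subgroup Ω} (hKE : K ≤ E) {j : MulAut E} (hj : (orderOf j).Coprime p)
    (hfix : ∀ k ∈ K, afun j k = k) {y : Ω} (hy : y ∈ E) (hy' : y⁻¹ * afun j y ∈ K) :
    afun j y = y := by
  have h1 := coprime_step (A := K) (B := ⊥) h.le h.hS hKE
    (fun a _ b hb => by rw [Subgroup.mem_bot] at hb ⊢; rw [hb, cj_apply, mul_one, mul_inv_cancel])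
    hj (fun a ha => by rw [hfix a ha]; exact ha)
    (fun a ha => by
      rw [Subgroup.mem_bot] at ha ⊢
      rw [ha, afun_apply j E.one_mem]
      exact congrArg Subtype.val (map_one j))
    bot_le (fun a ha => by rw [hfix a ha, inv_mul_cancel]; exact one_mem _) hy hy'
  rw [Subgroup.mem_bot, inv_mul_eq_one] at h1
  exact h1.symm

theorem eq_one_of_mod_frE {j : MulAut E} (hj : (orderOf j).Coprime p)
    (hfr : ∀ y ∈ E, y⁻¹ * afun j y ∈ frE E) : j = 1 := by
  haveI := finite_of_le h.le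
  refine FusionEssential88.eq_one_of_coprime_stabilizes (h.hS.to_le h.le) (n := 1)
    (fun i => if i = 0 then frattini ↥E else ⊤) rfl rfl hj fun i hi y _ => ?_
  interval_cases i
  have h1 := hfr (y : Ω) y.2
  rw [afun_apply j y.2, ← Subgroup.coe_inv, ← Subgroup.coe_mul] at h1
  exact (mem_frE (SetLike.coe_mem _)).1 h1

end Hyp

end Cfsg.Agent.NormalR3
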