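import Cfsg.Agent.Lib.NormalR3Raw20

/-!
The frame for S5180: the torus element centralises `Φ(E)` and a complement of its commutator with
`E`, which is then central in `N_S(E)`; it extends to `N_S(E)`.
-/

set_option autoImplicit false
set_option linter.unusedSectionVars false
set_option linter.style.haveILetI false

namespace Cfsg.Agent.NormalR3

open scoped commutatorElement
open Cfsg Cfsg.FusionSystem Cfsg.Agent.FusionSysBasic Cfsg.Agent.FusionSysSaturated
  Cfsg.Agent.FusionSysNormal Cfsg.Agent.FusionSysAlperin Cfsg.Agent.Rank3 Cfsg.Agent.Rank3.CaseB2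

universe u

variable {Ω : Type u} [Group Ω] {S : Subgroup Ω} {F : FusionSystem S} {p : ℕ} {E : Subgroup Ω}

/-- Powers of central elements and double commutators of `N_S(E)`. -/
def deepSet (S E : Subgroup Ω) (p : ℕ) : Set Ω :=
  {w | ∃ k ∈ normalizerIn S E, (∀ n ∈ normalizerIn S E, n * k = k * n) ∧ w = k ^ p} ∪
    {w | ∃ a ∈ normalizerIn S E, ∃ b ∈ normalizerIn S E, ∃ d ∈ normalizerIn S E,
      w = br (br a b) d}

/-- A subgroup containing commutators and `p`-th powers of `K` contains its Frattini subgroup. -/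
theorem frE_le_of [Finite S] [Fact p.Prime] (hS : IsPGroup p S) {K T : Subgroup Ω} (hKS : K ≤ S)
    (hc : ∀ a ∈ K, ∀ b ∈ K, br a b ∈ T) (hp : ∀ a ∈ K, a ^ p ∈ T) : frE K ≤ T := by
  haveI := finite_of_le hKS
  rintro _ ⟨w, hw, rfl⟩
  have hle : frattini ↥K ≤ T.comap K.subtype := by
    rw [PGroupsBasic.frattini_eq_sup (hS.to_le hKS), commutator_eq_closure]
    refine sup_le ((Subgroup.closure_le _).2 ?_) ((Subgroup.closure_le _).2 ?_)
    · rintro _ ⟨a, b, rfl⟩
      exact hc (a : Ω) a.2 (b : Ω) b.2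
    · rintro _ ⟨a, rfl⟩
      exact hp (a : Ω) a.2
  exact hle hw

/-- The frame. -/
structure Frame (F : FusionSystem S) (p : ℕ) (E : Subgroup Ω) (x e z c : Ω) (a : ZMod p) :
    Prop where
  hx : x ∈ normalizerIn S E
  hxE : x ∉ E
  he : e ∈ E
  hz : z ∈ E
  hc : c ∈ E
  z_eq : z = cj x e * e⁻¹
  card : Nat.card E = p ^ 3 * Nat.card (frE E)
  decomp : ∀ y ∈ E, ∃ A B C : ℕ, ∃ f ∈ frE E, y = e ^ A * z ^ B * c ^ C * f
  ep : e ^ p = 1
  zp : z ^ p = 1
  c_cent : ∀ n ∈ normalizerIn S E, n * c = c * n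
  fr_cent : ∀ n ∈ normalizerIn S E, ∀ k ∈ frE E, n * k = k * n
  fr_deep : frE E ≤ Subgroup.closure (deepSet S E p)
  xz : br x z ∈ frE E
  ext : ∃ f, Mor F (normalizerIn S E) f ∧ (∀ n ∈ normalizerIn S E, f n ∈ normalizerIn S E) ∧
    (e ^ (a⁻¹).val)⁻¹ * f e ∈ frE E ∧ (z ^ a.val)⁻¹ * f z ∈ frE E ∧ c⁻¹ * f c ∈ frE E ∧
    (x ^ (a ^ 2).val)⁻¹ * f x ∈ E ∧ ∀ k ∈ frE E, f k = k
  a0 : a ≠ 0
  a2 : a ^ 2 ≠ 1
  a3 : a ^ 3 ≠ 1
  a5 : a ^ 5 ≠ 1

theorem commute_closure_set {T : Set Ω} {w : Ω} (hw : ∀ t ∈ T, w * t = t * w) :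
    ∀ t ∈ Subgroup.closure T, w * t = t * w := fun t ht => by
  have hle : Subgroup.closure T ≤ Subgroup.centralizer {w} :=
    (Subgroup.closure_le _).2 fun t ht => Subgroup.mem_centralizer_iff.2 fun g hg => by
      rw [Set.mem_singleton_iff.1 hg]; exact hw t ht
  exact Subgroup.mem_centralizer_iff.1 (hle ht) w (Set.mem_singleton w)

theorem Hyp.exists_frame [Finite S] [Fact p.Prime] (h : Hyp F p E)
    (hnn : ¬ S ≤ Subgroup.normalizer (E : Set Ω)) (hrk : (frattini ↥E).index = p ^ 3) :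
    ∃ x e z c a, Frame F p E x e z c a := by
  classical
  obtain ⟨x, e, z, c, j, a, hR⟩ := h.exists_raw hnn hrk
  refine ⟨x, e, z, c, a, ?_⟩
  have hp := (Fact.out : p.Prime)
  have hes := h.le
  set Fr := frE E
  set N := normalizerIn S E
  have hFrE : Fr ≤ E := frE_le
  -- the fixed elements
  set K₂ := fixOf j
  have hK₂E : K₂ ≤ E := fun k hk => hk.1
  have hFrK : Fr ≤ K₂ := fun f hf => ⟨hFrE hf, hR.fix f hf⟩
  have hcK : c ∈ K₂ := ⟨hR.hc, h.fixed_of_step hFrE hR.jc hR.fix hR.hc hR.jfc⟩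
  set wset : Set Ω := {w | ∃ y ∈ E, w = y⁻¹ * afun j y}
  set L := Subgroup.closure wset
  have hwE : ∀ w ∈ wset, w ∈ E := by
    rintro _ ⟨y, hy, rfl⟩; exact E.mul_mem (E.inv_mem hy) (afun_mem j hy)
  have hLE : L ≤ E := (Subgroup.closure_le _).2 hwE
  have hwK : ∀ w ∈ wset, ∀ k ∈ K₂, k * w = w * k := by
    rintro _ ⟨y, hy, rfl⟩ k hk
    have h1 : br k y ∈ Fr := br_mem_frE h.hS h.le hk.1 hy
    have h2 : afun j (br k y) = br k (afun j y) := by rw [afun_br j hk.1 hy, hk.2]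
    rw [hR.fix _ h1] at h2
    obtain ⟨w, hw⟩ : ∃ w, afun j y = y * w := ⟨_, (mul_inv_cancel_left y _).symm⟩
    rw [hw, br_mul_right, left_eq_mul] at h2
    have h3 : br k w = 1 := by
      have := congrArg (fun t => y⁻¹ * t * y) h2
      simpa [mul_assoc] using this
    rw [hw, inv_mul_cancel_left]
    exact br_eq_one.1 h3
  have hLK : ∀ l ∈ L, ∀ k ∈ K₂, l * k = k * l := fun l hl k hk =>
    (commute_closure_set (fun w hw => hwK w hw k hk) l hl).symm
  have heL : e ∈ L := by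
    obtain ⟨y, hy, i, hi⟩ := hR.e_form
    rw [hi]; exact L.pow_mem (Subgroup.subset_closure ⟨y, hy, rfl⟩) i
  have hFrn : ∀ u ∈ E, ∀ f ∈ Fr, cj u f ∈ Fr := fun u hu f hf => cj_mem_frE (h.le_N hu) hf
  have hzJ : z ∈ L ⊔ K₂ := by
    set w := z⁻¹ * afun j z
    have hw : w ∈ L := Subgroup.subset_closure ⟨z, hR.hz, rfl⟩
    have hwz : z ^ (a.val : ℤ) * z⁻¹ ∈ L ⊔ K₂ := by
      have e2 : z ^ a.val * z⁻¹ = z⁻¹ * z ^ a.val := by group
      have e3 : w = z⁻¹ * z ^ a.val * ((z ^ a.val)⁻¹ * afun j z) := by simp only [w]; group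
      rw [zpow_natCast, e2, show z⁻¹ * z ^ a.val = w * ((z ^ a.val)⁻¹ * afun j z)⁻¹ by
        rw [e3, mul_inv_cancel_right]]
      exact (L ⊔ K₂).mul_mem (Subgroup.mem_sup_left hw)
        (inv_mem (Subgroup.mem_sup_right (hFrK hR.jz)))
    have hzp : z ^ (p : ℤ) ∈ L ⊔ K₂ := by
      rw [zpow_natCast]
      exact Subgroup.mem_sup_right (hFrK (pow_mem_frE h.hS h.le hR.hz))
    rw [← zpow_sub_one] at hwz
    have hcop : IsCoprime ((a.val : ℤ) - 1) (p : ℤ) := by
      refine ((Nat.prime_iff_prime_int.1 hp).coprime_iff_not_dvd.2 fun hd => ?_).symm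
      rw [← ZMod.intCast_zmod_eq_zero_iff_dvd, Int.cast_sub, Int.cast_natCast,
        ZMod.natCast_zmod_val, Int.cast_one, sub_eq_zero] at hd
      exact hR.a2 (by rw [hd, one_pow])
    obtain ⟨r, s, hrs⟩ := hcop
    rw [← zpow_one z, ← hrs, zpow_add, mul_comm r, mul_comm s, zpow_mul, zpow_mul]
    exact (L ⊔ K₂).mul_mem ((L ⊔ K₂).zpow_mem hwz r) ((L ⊔ K₂).zpow_mem hzp s)
  have hElk : ∀ y ∈ E, ∃ l ∈ L, ∃ k ∈ K₂, y = l * k := by
    intro y hy
    refine mem_join_of_commute hLK ?_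
    obtain ⟨A, B, C, f, hf, rfl⟩ := hR.decomp y hy
    exact mul_mem (mul_mem (mul_mem (_root_.pow_mem (Subgroup.mem_sup_left heL) A) (_root_.pow_mem hzJ B))
      (_root_.pow_mem (Subgroup.mem_sup_right hcK) C)) (Subgroup.mem_sup_right (hFrK hf))
  have hFrL : ∀ f ∈ Fr, ∀ l ∈ L, l * f = f * l := fun f hf l hl => hLK l hl f (hFrK hf)
  have hbrFr : ∀ u ∈ E, ∀ v ∈ E, br u v ∈ Fr := fun u hu v hv => br_mem_frE h.hS h.le hu hv
  -- `L` has exponent `p`
  have hwp : ∀ w ∈ wset, w ^ p = 1 := by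
    rintro _ ⟨y, hy, rfl⟩
    obtain ⟨l, hl, k, hk, rfl⟩ := hElk y hy
    have hlE := hLE hl
    have hjk : afun j (l * k) = afun j l * k := by rw [afun_map_mul j hlE hk.1, hk.2]
    set w := l⁻¹ * afun j l
    have hw : w ∈ L := Subgroup.subset_closure ⟨l, hlE, rfl⟩
    have e1 : (l * k)⁻¹ * afun j (l * k) = w := by
      rw [hjk, show (l * k)⁻¹ * (afun j l * k) = k⁻¹ * w * k by simp only [w]; group,
        mul_assoc, hLK w hw k hk, inv_mul_cancel_left]
    rw [e1]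
    have hwE := hLE hw
    have hb : br w l ∈ Fr := hbrFr w hwE l hlE
    have hb1 : br w l ^ p = 1 := by
      rw [← br_pow_left (hFrL _ hb w hw)]
      exact br_eq_one.2 (hFrL _ (pow_mem_frE h.hS h.le hwE) l hl).symm
    have hpm := pow_prime_mul hp h.odd l w (hFrL _ hb l hl).symm (hFrL _ hb w hw).symm hb1
    rw [show l * w = afun j l from mul_inv_cancel_left _ _, ← afun_pow j hlE,
      hR.fix _ (pow_mem_frE h.hS h.le hlE)] at hpm
    exact left_eq_mul.1 hpm
  have hLp : ∀ l ∈ L, l ^ p = 1 := by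
    intro l hl
    induction hl using Subgroup.closure_induction with
    | mem w hw => exact hwp w hw
    | one => exact one_pow p
    | mul u v hu hv ihu ihv =>
      have hb : br v u ∈ Fr := hbrFr v (hLE hv) u (hLE hu)
      have hb1 : br v u ^ p = 1 := by
        rw [← br_pow_left (hFrL _ hb v hv), ihv, br_one_left]
      rw [pow_prime_mul hp h.odd u v (hFrL _ hb u hu).symm (hFrL _ hb v hv).symm hb1, ihu, ihv,
        one_mul]
    | inv u _ ihu => rw [inv_pow, ihu, inv_one]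
  -- `K₂` is abelian
  have hK₂S : K₂ ≤ S := hK₂E.trans hes
  haveI := finite_of_le hK₂S
  set M := Subgroup.closure ({c} ∪ ((L ⊓ K₂ : Subgroup Ω) : Set Ω))
  have hMK : M ≤ K₂ := (Subgroup.closure_le _).2
    (Set.union_subset (Set.singleton_subset_iff.2 hcK) fun y hy => hy.2)
  have hbrlk : ∀ u ∈ E, ∀ v ∈ E, ∃ l ∈ L, ∃ l' ∈ L, ∃ k ∈ K₂, ∃ k' ∈ K₂,
      u = l * k ∧ v = l' * k' ∧ br u v = br l l' * br k k' := by
    intro u hu v hv
    obtain ⟨l, hl, k, hk, rfl⟩ := hElk u hu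
    obtain ⟨l', hl', k', hk', rfl⟩ := hElk v hv
    refine ⟨l, hl, l', hl', k, hk, k', hk', rfl, rfl, ?_⟩
    have e1 : br k (l' * k') = br k k' := by
      rw [br_mul_right, br_eq_one.2 (hLK l' hl' k hk).symm, one_mul,
        show l' * br k k' * l'⁻¹ = br k k' by
          rw [hFrL _ (hbrFr k hk.1 k' hk'.1) l' hl', mul_inv_cancel_right]]
    have e2 : br l (l' * k') = br l l' := by
      rw [br_mul_right, br_eq_one.2 (hLK l hl k' hk'), mul_one, mul_inv_cancel, mul_one]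
    have hb := hFrK (hbrFr k hk.1 k' hk'.1)
    rw [br_mul_left, e1, e2, show l * br k k' * l⁻¹ = br k k' by
      rw [hLK l hl _ hb, mul_inv_cancel_right]]
    exact (hLK (br l l') (L.mul_mem (L.mul_mem (L.mul_mem hl hl') (L.inv_mem hl)) (L.inv_mem hl'))
      _ hb).symm
  have hFrM : Fr ≤ (L ⊓ K₂) ⊔ frE K₂ := by
    refine frE_le_of h.hS h.le (fun u hu v hv => ?_) fun u hu => ?_
    · obtain ⟨l, hl, l', hl', k, hk, k', hk', -, -, hb⟩ := hbrlk u hu v hv
      rw [hb]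
      refine mul_mem (Subgroup.mem_sup_left ⟨?_, hFrK (hbrFr l (hLE hl) l' (hLE hl'))⟩)
        (Subgroup.mem_sup_right (br_mem_frE h.hS hK₂S hk hk'))
      exact L.mul_mem (L.mul_mem (L.mul_mem hl hl') (L.inv_mem hl)) (L.inv_mem hl')
    · obtain ⟨l, hl, k, hk, rfl⟩ := hElk u hu
      rw [(show Commute l k from hLK l hl k hk).mul_pow, hLp l hl, one_mul]
      exact Subgroup.mem_sup_right (pow_mem_frE h.hS hK₂S hk)
  have hMeq : M = K₂ := by
    have key : M.subgroupOf K₂ ⊔ frattini ↥K₂ = ⊤ := by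
      refine eq_top_iff.2 fun k _ => ?_
      obtain ⟨C, f, hf, hk⟩ := hR.fixed (k : Ω) k.2.1 k.2.2
      have hmem : (k : Ω) ∈ M ⊔ frE K₂ := by
        rw [hk]
        have hle : (L ⊓ K₂) ⊔ frE K₂ ≤ M ⊔ frE K₂ :=
          sup_le_sup_right (show L ⊓ K₂ ≤ M from fun y hy => Subgroup.subset_closure
            (show y ∈ ({c} : Set Ω) ∪ ((L ⊓ K₂ : Subgroup Ω) : Set Ω) from Or.inr hy)) _
        have hcM : c ∈ M ⊔ frE K₂ :=
          Subgroup.mem_sup_left (Subgroup.subset_closure (Or.inl rfl))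
        exact mul_mem (_root_.pow_mem hcM C) (hle (hFrM hf))
      have h2 : M ⊔ frE K₂ = ((M.subgroupOf K₂) ⊔ frattini ↥K₂).map K₂.subtype := by
        rw [Subgroup.map_sup, Subgroup.map_subgroupOf_eq_of_le hMK]; rfl
      rw [h2] at hmem
      obtain ⟨k', hk', he⟩ := hmem
      rwa [← Subtype.ext he]
    have h3 := frattini_nongenerating key
    exact le_antisymm hMK fun k hk => by
      have : (⟨k, hk⟩ : K₂) ∈ M.subgroupOf K₂ := h3 ▸ Subgroup.mem_top _
      exact this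
  have hK₂c : ∀ k ∈ K₂, ∀ k' ∈ K₂, k * k' = k' * k := by
    rw [← hMeq]
    refine commute_closure fun u hu v hv => ?_
    rcases hu with rfl | hu <;> rcases hv with rfl | hv
    · rfl
    · exact (hLK v hv.1 u hcK).symm
    · exact hLK u hu.1 v hcK
    · exact hLK u hu.1 v hv.2
  have hEK : ∀ u ∈ E, ∀ k ∈ K₂, u * k = k * u := by
    intro u hu k hk
    obtain ⟨l, hl, k', hk', rfl⟩ := hElk u hu
    rw [mul_assoc, hK₂c k' hk' k hk, ← mul_assoc, hLK l hl k hk, mul_assoc]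
  -- `K₂` is central in `N`
  obtain ⟨e₁, he₁, hjx⟩ := hR.jx
  have hcjx : ∀ k ∈ K₂, cj x k ∈ K₂ := by
    intro k hk
    obtain ⟨C, f, hf, rfl⟩ := hR.fixed k hk.1 hk.2
    rw [cj_mul', show cj x (c ^ C) = (cj x c) ^ C from map_pow (MulAut.conj x) c C,
      show cj x c = c * (c⁻¹ * cj x c) by group]
    exact mul_mem (_root_.pow_mem (mul_mem hcK (hFrK hR.xc)) C) (hFrK (cj_mem_frE hR.hx hf))
  let Cn : Subgroup Ω := Subgroup.centralizer (K₂ : Set Ω)
  have hEC : ∀ u ∈ E, u ∈ Cn := fun u hu => Subgroup.mem_centralizer_iff.2 fun k hk =>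
    (hEK u hu k hk).symm
  set m := (a ^ 2).val
  have hxm : x⁻¹ * x ^ m ∈ Cn := by
    rw [Subgroup.mem_centralizer_iff]
    intro k hk
    have h1 := hjx k hk.1
    rw [(hcjx k hk).2, hk.2, ← cj_cj, show cj e₁ k = k by
      rw [cj_apply, hEK e₁ he₁ k hk, mul_inv_cancel_right]] at h1
    have h2 : cj (x⁻¹ * x ^ m) k = k := by rw [← cj_cj, ← h1, cj_inv_cj]
    rw [cj_apply, mul_inv_eq_iff_eq_mul] at h2
    exact h2.symm
  have hxC : x ∈ Cn := by
    have h1 : x ^ ((m : ℤ) - 1) ∈ Cn := by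
      rw [zpow_sub_one, zpow_natCast]
      rwa [(Commute.pow_self x m).inv_right.eq]
    have h2 : x ^ (p : ℤ) ∈ Cn := by rw [zpow_natCast]; exact hEC _ (h.pow_mem hR.hx)
    have hcop : IsCoprime ((m : ℤ) - 1) (p : ℤ) := by
      refine ((Nat.prime_iff_prime_int.1 hp).coprime_iff_not_dvd.2 fun hd => ?_).symm
      rw [← ZMod.intCast_zmod_eq_zero_iff_dvd, Int.cast_sub, Int.cast_natCast,
        ZMod.natCast_zmod_val, Int.cast_one, sub_eq_zero] at hd
      exact hR.a2 hd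
    obtain ⟨r, s, hrs⟩ := hcop
    rw [← zpow_one x, ← hrs, zpow_add, mul_comm r, mul_comm s, zpow_mul, zpow_mul]
    exact Cn.mul_mem (Cn.zpow_mem h1 r) (Cn.zpow_mem h2 s)
  have hNC : ∀ n ∈ N, ∀ k ∈ K₂, n * k = k * n := by
    intro n hn k hk
    obtain ⟨u, hu, i, rfl⟩ := h.exists_eq_mul hR.hx hR.hxE hn
    exact (Subgroup.mem_centralizer_iff.1 (Cn.mul_mem (hEC u hu) (Cn.zpow_mem hxC i)) k hk).symm
  -- powers
  have hep : e ^ p = 1 := hLp e heL
  have hbrc : ∀ u ∈ E, ∀ v ∈ E, ∀ w ∈ E, br u v * w = w * br u v := fun u hu v hv w hw =>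
    (hEK w hw _ (hFrK (hbrFr u hu v hv))).symm
  have hzp : z ^ p = 1 := by
    have hb1 : br e z ^ p = 1 := by
      rw [← br_pow_left (hbrc e hR.he z hR.hz e hR.he).symm, hep, br_one_left]
    have hpm := pow_prime_mul hp h.odd z e (hbrc e hR.he z hR.hz z hR.hz)
      (hbrc e hR.he z hR.hz e hR.he) hb1
    rw [hR.z_eq, inv_mul_cancel_right, ← hR.z_eq, hep, mul_one,
      show cj x e ^ p = cj x (e ^ p) from (map_pow (MulAut.conj x) e p).symm, hep,
      cj_apply, mul_one, mul_inv_cancel] at hpm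
    exact hpm.symm
  -- `Φ(E)` is generated by powers of central elements and double commutators
  have hfd : Fr ≤ Subgroup.closure (deepSet S E p) := by
    refine frE_le_of h.hS h.le (fun u hu v hv => ?_) fun u hu => ?_
    · set D := Subgroup.closure (deepSet S E p) ⊓ Fr
      have hDn : ∀ k ∈ Subgroup.closure ({e, z, c} ∪ (Fr : Set Ω)), ∀ y ∈ D, cj k y ∈ D := by
        intro k hk y hy
        have hkE : k ∈ E := (Subgroup.closure_le E).2 (by
          rintro t ((rfl | rfl | rfl) | ht)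
          · exact hR.he
          · exact hR.hz
          · exact hR.hc
          · exact hFrE ht) hk
        rw [cj_apply, hEK k hkE y (hFrK hy.2), mul_inv_cancel_right]
        exact hy
      have hez : br e z ∈ D := by
        refine ⟨?_, hbrFr e hR.he z hR.hz⟩
        have h1 : br (br x e) e ∈ deepSet S E p :=
          Or.inr ⟨x, hR.hx, e, h.le_N hR.he, e, h.le_N hR.he, rfl⟩
        rw [br_eq_cj x e, ← hR.z_eq] at h1
        rw [← br_symm]
        exact (Subgroup.closure _).inv_mem (Subgroup.subset_closure h1)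
      have hcen : ∀ w ∈ ({c} : Set Ω) ∪ (Fr : Set Ω), ∀ t ∈ E, br w t = 1 := by
        rintro w (rfl | hw) t ht
        · exact br_eq_one.2 (hEK t ht _ hcK).symm
        · exact br_eq_one.2 (hEK t ht _ (hFrK hw)).symm
      have hgen := gen_comm (T := ({e, z, c} ∪ (Fr : Set Ω))) hDn (by
        have key : ∀ s ∈ ({e, z, c} ∪ (Fr : Set Ω)), ∀ t ∈ ({e, z, c} ∪ (Fr : Set Ω)),
            br s t ∈ D := by
          have hin : ∀ s ∈ ({e, z, c} ∪ (Fr : Set Ω)), s ∈ E := by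
            rintro t ((rfl | rfl | rfl) | ht)
            · exact hR.he
            · exact hR.hz
            · exact hR.hc
            · exact hFrE ht
          rintro s hs t ht
          have hsE := hin s hs
          have htE := hin t ht
          rcases hs with (rfl | rfl | rfl) | hs <;> rcases ht with (rfl | rfl | rfl) | ht <;>
            first
            | exact hez
            | exact br_comm_mem hez
            | (rw [br_self]; exact one_mem _)
            | (rw [hcen _ (Or.inl rfl) _ htE]; exact one_mem _)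
            | (rw [hcen _ (Or.inr hs) _ htE]; exact one_mem _)
            | (refine br_comm_mem ?_; rw [hcen _ (Or.inl rfl) _ hsE]; exact one_mem _)
            | (refine br_comm_mem ?_; rw [hcen _ (Or.inr ht) _ hsE]; exact one_mem _)
        exact key)
      have hall : ∀ y ∈ E, y ∈ Subgroup.closure ({e, z, c} ∪ (Fr : Set Ω)) := by
        intro y hy
        obtain ⟨A, B, C, f, hf, rfl⟩ := hR.decomp y hy
        have h1 : ∀ t ∈ ({e, z, c} ∪ (Fr : Set Ω)),
            t ∈ Subgroup.closure ({e, z, c} ∪ (Fr : Set Ω)) := fun t ht => Subgroup.subset_closure ht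
        exact mul_mem (mul_mem (mul_mem (_root_.pow_mem (h1 e (Or.inl (Or.inl rfl))) A)
          (_root_.pow_mem (h1 z (Or.inl (Or.inr (Or.inl rfl)))) B))
          (_root_.pow_mem (h1 c (Or.inl (Or.inr (Or.inr rfl)))) C))
          (h1 f (Or.inr hf))
      exact (hgen u (hall u hu) v (hall v hv)).1
    · obtain ⟨l, hl, k, hk, rfl⟩ := hElk u hu
      rw [(show Commute l k from hLK l hl k hk).mul_pow, hLp l hl, one_mul]
      exact Subgroup.subset_closure (Or.inl ⟨k, h.le_N hk.1, fun n hn => hNC n hn k hk, rfl⟩)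
  -- extension
  let T : Subgroup Ω :=
    { carrier := {g | g ∈ N ∧ ∃ g' ∈ N, ∀ y ∈ E, afun j (cj g y) = cj g' (afun j y)}
      one_mem' := ⟨N.one_mem, 1, N.one_mem, fun y _ => by rw [cj_one, cj_one]⟩
      mul_mem' := fun {u v} ⟨hu, u', hu', heu⟩ ⟨hv, v', hv', hev⟩ =>
        ⟨N.mul_mem hu hv, u' * v', N.mul_mem hu' hv', fun y hy => by
          rw [← cj_cj, heu _ (cj_mem_of_normalizer hv.2 hy), hev y hy, cj_cj]⟩
      inv_mem' := fun {u} ⟨hu, u', hu', heu⟩ => ⟨N.inv_mem hu, u'⁻¹, N.inv_mem hu', fun y hy => by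
        have h1 := heu _ (cj_mem_of_normalizer (N.inv_mem hu).2 hy)
        rw [cj_cj_inv] at h1
        rw [h1, cj_inv_cj]⟩ }
  have hTN : T = N := h.eq_top_of_mem (fun g hg => hg.1)
    (fun g hg => ⟨h.le_N hg, afun j g, h.le_N (afun_mem j hg), fun y hy => afun_cj j hg hy⟩)
    (show x ∈ T from ⟨hR.hx, x ^ m * e₁, N.mul_mem (N.pow_mem hR.hx m) (h.le_N he₁), hjx⟩) hR.hxE
  have hmor : Mor F E (afun j) := (mem_autGroup h.le).1 (opp_le F p E hR.jm)
  obtain ⟨f, hf, hfe⟩ := (receptive_iff.1 (receptive_of_fullyNormalized h.hS h.hF h.ess.2.1)).2 E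
    (afun j) N hmor (im_afun j) inf_le_left inf_le_right (fun g hg => by
      obtain ⟨-, g', hg', he'⟩ := hTN.ge hg
      exact ⟨g', hg'.1, he'⟩)
  rw [sup_eq_right.2 h.le_N] at hf
  have himE : im E f = E := (im_congr hfe).trans (im_afun j)
  have hfN : ∀ n ∈ N, f n ∈ N := fun n hn => mor_normalizer_mem hf h.le himE hn
  refine ⟨hR.hx, hR.hxE, hR.he, hR.hz, hR.hc, hR.z_eq, hR.card, hR.decomp, hep, hzp,
    fun n hn => hNC n hn c hcK, fun n hn k hk => hNC n hn k (hFrK hk), hfd, ?_,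
    ⟨f, hf, hfN, ?_, ?_, ?_, ?_, fun k hk => ?_⟩, hR.a0, hR.a2, hR.a3, hR.a5⟩
  · rw [show br x z = cj z (z⁻¹ * cj x z) by simp only [cj_apply, br]; group]
    exact hFrn z hR.hz _ hR.xz
  · rw [hfe e hR.he]; exact hR.je
  · rw [hfe z hR.hz]; exact hR.jz
  · rw [hfe c hR.hc]; exact hR.jfc
  · have hxm' : x ^ m * e₁ ∈ N := N.mul_mem (N.pow_mem hR.hx m) (h.le_N he₁)
    have h1 : (x ^ m * e₁)⁻¹ * f x ∈ E := by
      refine h.mem_of_centralizes (S.mul_mem (S.inv_mem hxm'.1) (hfN x hR.hx).1) fun y hy => ?_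
      have hy' := afun_mem j⁻¹ hy
      have h2 := hf.map_cj hR.hx (h.le_N hy')
      rw [hfe _ hy', afun_apply_inv j hy, hfe _ (cj_mem_of_normalizer hR.hx.2 hy'), hjx _ hy',
        afun_apply_inv j hy] at h2
      have h3 : cj ((x ^ m * e₁)⁻¹ * f x) y = y := by rw [← cj_cj, ← h2, cj_inv_cj]
      rw [cj_apply, mul_inv_eq_iff_eq_mul] at h3
      exact h3
    rw [show (x ^ m)⁻¹ * f x = e₁ * ((x ^ m * e₁)⁻¹ * f x) by group]
    exact E.mul_mem he₁ h1
  · rw [hfe k (hFrE hk)]; exact hR.fix k hk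

end Cfsg.Agent.NormalR3
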