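import Cfsg.Agent.Lib.NormalR3Base20

/-!
The key step for S5180: for an essential subgroup `E` that is not normal in `S` there is a subgroup
`K ≤ E`, normal in `S` and centralised by the automorphisms in `O^{p'}(Aut_F(E))` of order prime to
`p`, such that an element `x` of `N_S(E)` outside `E` acts quadratically modulo `K`, and these
automorphisms centralise `Φ(E)`.
-/

set_option autoImplicit false
set_option linter.unusedSectionVars false
set_option linter.style.haveILetI false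

namespace Cfsg.Agent.NormalR3

open Cfsg Cfsg.FusionSystem Cfsg.Agent.FusionSysBasic Cfsg.Agent.FusionSysSaturated
  Cfsg.Agent.FusionSysNormal Cfsg.Agent.FusionSysAlperin Cfsg.Agent.Rank3 Cfsg.Agent.Rank3.CaseB2

universe u

variable {Ω : Type u} [Group Ω] {S : Subgroup Ω} {F : FusionSystem S} {p : ℕ} {E : Subgroup Ω}

/-- The elements of `E` mapped into `T` by `α`. -/
def pre (α : MulAut E) (T : Subgroup Ω) : Subgroup Ω :=
  (T.comap (E.subtype.comp α.toMonoidHom)).map E.subtype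

theorem mem_pre' {α : MulAut E} {T : Subgroup Ω} {y : Ω} :
    y ∈ pre α T ↔ y ∈ E ∧ afun α y ∈ T := by
  constructor
  · rintro ⟨w, hw, rfl⟩
    refine ⟨w.2, ?_⟩
    show afun α (w : Ω) ∈ T
    rw [afun_apply α w.2]
    exact hw
  · rintro ⟨hy, hT⟩
    rw [afun_apply α hy] at hT
    exact ⟨⟨y, hy⟩, hT, rfl⟩

/-- The elements of `E` fixed by `α`. -/
def fixOf (α : MulAut E) : Subgroup Ω where
  carrier := {y | y ∈ E ∧ afun α y = y}
  one_mem' := ⟨E.one_mem, by rw [afun_apply α E.one_mem]; exact congrArg Subtype.val (map_one α)⟩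
  mul_mem' {a b} := fun ha hb =>
    ⟨E.mul_mem ha.1 hb.1, by rw [afun_map_mul α ha.1 hb.1, ha.2, hb.2]⟩
  inv_mem' {a} := fun ha => ⟨E.inv_mem ha.1, by
    rw [afun_apply α (E.inv_mem ha.1)]
    have h1 := ha.2
    rw [afun_apply α ha.1] at h1
    conv_rhs => rw [← h1]
    rw [← Subgroup.coe_inv, ← map_inv]
    rfl⟩

theorem mem_fixOf {α : MulAut E} {y : Ω} : y ∈ fixOf α ↔ y ∈ E ∧ afun α y = y := Iff.rfl

theorem afun_inv' (α : MulAut E) {y : Ω} (hy : y ∈ E) : afun α y⁻¹ = (afun α y)⁻¹ := by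
  rw [afun_apply α (E.inv_mem hy), afun_apply α hy, ← Subgroup.coe_inv, ← map_inv]
  rfl

theorem afun_cj (α : MulAut E) {a y : Ω} (ha : a ∈ E) (hy : y ∈ E) :
    afun α (cj a y) = cj (afun α a) (afun α y) := by
  rw [cj_apply, cj_apply, afun_map_mul α (E.mul_mem ha hy) (E.inv_mem ha), afun_map_mul α ha hy,
    afun_inv' α ha]

theorem cj_mul' (g a b : Ω) : cj g (a * b) = cj g a * cj g b := by
  simp only [cj_apply]; group

theorem cj_inv' (g a : Ω) : cj g a⁻¹ = (cj g a)⁻¹ := by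
  simp only [cj_apply]; group

theorem cj_br (g a b : Ω) : cj g (br a b) = br (cj g a) (cj g b) := by
  simp only [cj_apply, br]; group

theorem br_eq_cj (a b : Ω) : br a b = cj a b * b⁻¹ := by simp only [cj_apply, br]

/-- `K` is normal in `S`, invariant under `O^{p'}(Aut_F(E))` and centralised by its elements of
order prime to `p`. -/
structure Lev (F : FusionSystem S) (p : ℕ) (E K : Subgroup Ω) : Prop where
  le : K ≤ E
  normal : ∀ g ∈ S, ∀ k ∈ K, cj g k ∈ K
  inv : InvBy (opp F p E) K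
  fix : ∀ j ∈ opp F p E, (orderOf j).Coprime p → ∀ k ∈ K, afun j k = k

theorem br_mem_of_right {K : Subgroup Ω} (hn : ∀ g ∈ S, ∀ k ∈ K, cj g k ∈ K) {a k : Ω}
    (ha : a ∈ S) (hk : k ∈ K) : br a k ∈ K := by
  rw [br_eq_cj]; exact K.mul_mem (hn a ha k hk) (K.inv_mem hk)

theorem br_mem_of_left {K : Subgroup Ω} (hn : ∀ g ∈ S, ∀ k ∈ K, cj g k ∈ K) {a k : Ω}
    (ha : a ∈ S) (hk : k ∈ K) : br k a ∈ K := by
  rw [← br_symm]; exact K.inv_mem (br_mem_of_right hn ha hk)

theorem br_comm_mem {K : Subgroup Ω} {a b : Ω} (h : br a b ∈ K) : br b a ∈ K := by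
  rw [← br_symm]; exact K.inv_mem h

namespace Hyp

variable [Finite S] [Fact p.Prime] (h : Hyp F p E)
include h

theorem br_mem_mul_left {K : Subgroup Ω} (hn : ∀ g ∈ S, ∀ k ∈ K, cj g k ∈ K) {a b e : Ω}
    (ha : a ∈ S) (h1 : br a e ∈ K) (h2 : br b e ∈ K) : br (a * b) e ∈ K := by
  rw [br_mul_left]
  exact K.mul_mem (hn a ha _ h2) h1

theorem br_mem_inv_left {K : Subgroup Ω} (hn : ∀ g ∈ S, ∀ k ∈ K, cj g k ∈ K) {a e : Ω}
    (ha : a ∈ S) (h1 : br a e ∈ K) : br a⁻¹ e ∈ K := by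
  rw [br_inv_left]
  have := hn a⁻¹ (S.inv_mem ha) _ (K.inv_mem h1)
  rwa [cj_apply, inv_inv] at this

/-- The elements of `E` central of order `p` modulo `K`. -/
def cenMod {K : Subgroup Ω} (hK : Lev F p E K) : Subgroup Ω where
  carrier := {a | a ∈ E ∧ a ^ p ∈ K ∧ ∀ e ∈ E, br a e ∈ K}
  one_mem' := ⟨E.one_mem, by rw [one_pow]; exact K.one_mem,
    fun e _ => by rw [br_one_left]; exact K.one_mem⟩
  mul_mem' {a b} := fun ha hb => by
    refine ⟨E.mul_mem ha.1 hb.1, ?_,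
      fun e he => h.br_mem_mul_left hK.normal (h.le ha.1) (ha.2.2 e he) (hb.2.2 e he)⟩
    have hba : br b a ∈ K := hb.2.2 a ha.1
    have := pow_prime_mul_mod (Fact.out : p.Prime) h.odd (K := E) (N := K)
      (fun k hk y hy => hK.normal k (h.le hk) y hy) ha.1 hb.1
      (br_mem_of_left hK.normal (h.le ha.1) hba) (br_mem_of_left hK.normal (h.le hb.1) hba)
      (K.pow_mem hba p)
    have h2 := K.mul_mem this (K.mul_mem ha.2.1 hb.2.1)
    rwa [inv_mul_cancel_right] at h2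
  inv_mem' {a} := fun ha => ⟨E.inv_mem ha.1, by rw [inv_pow]; exact K.inv_mem ha.2.1,
    fun e he => h.br_mem_inv_left hK.normal (h.le ha.1) (ha.2.2 e he)⟩

theorem mem_cenMod {K : Subgroup Ω} {hK : Lev F p E K} {a : Ω} :
    a ∈ h.cenMod hK ↔ a ∈ E ∧ a ^ p ∈ K ∧ ∀ e ∈ E, br a e ∈ K := Iff.rfl

theorem cenMod_le {K : Subgroup Ω} {hK : Lev F p E K} : h.cenMod hK ≤ E := fun _ ha => ha.1

theorem le_cenMod {K : Subgroup Ω} {hK : Lev F p E K} : K ≤ h.cenMod hK := fun _ hk =>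
  ⟨hK.le hk, K.pow_mem hk p, fun _ he => br_mem_of_left hK.normal (h.le he) hk⟩

theorem cenMod_inv {K : Subgroup Ω} {hK : Lev F p E K} :
    InvBy (opp F p E) (h.cenMod hK) := by
  intro α hα a ha
  refine ⟨afun_mem α ha.1, ?_, fun e he => ?_⟩
  · rw [← afun_pow α ha.1]; exact hK.inv α hα _ ha.2.1
  · have h1 := hK.inv α hα _ (ha.2.2 _ (afun_mem α⁻¹ he))
    rwa [afun_br α ha.1 (afun_mem α⁻¹ he), afun_apply_inv α he] at h1

theorem cenMod_normal {K : Subgroup Ω} {hK : Lev F p E K} {n : Ω} (hn : n ∈ normalizerIn S E)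
    {a : Ω} (ha : a ∈ h.cenMod hK) : cj n a ∈ h.cenMod hK := by
  have := h.cenMod_inv (cN S E ⟨n, hn⟩) (h.cN_opp _) a ha
  rwa [afun_cN _ ha.1] at this

/-- The automorphisms in `O^{p'}(Aut_F(E))` inducing the identity on `X / K`. -/
def stabMod {X K : Subgroup Ω} (hXE : X ≤ E) (hKE : K ≤ E) (hX : InvBy (opp F p E) X)
    (hK : InvBy (opp F p E) K) : Subgroup (MulAut E) where
  carrier := {α | α ∈ opp F p E ∧ ∀ y ∈ X, y⁻¹ * afun α y ∈ K}
  one_mem' := ⟨one_mem _, fun y hy => by rw [afun_one (hXE hy), inv_mul_cancel]; exact K.one_mem⟩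
  mul_mem' {a b} := fun ha hb => ⟨mul_mem ha.1 hb.1, fun y hy => by
    rw [afun_mul _ _ (hXE hy)]
    have := K.mul_mem (hb.2 y hy) (ha.2 _ (hX b hb.1 y hy))
    rwa [mul_assoc, mul_inv_cancel_left] at this⟩
  inv_mem' {a} := fun ha => ⟨inv_mem ha.1, fun y hy => by
    have := K.inv_mem (ha.2 _ (hX a⁻¹ (inv_mem ha.1) y hy))
    rwa [afun_apply_inv a (hXE hy), mul_inv_rev, inv_inv] at this⟩

/-- An invariant section centralised by `N_S(E)` is centralised by `O^{p'}(Aut_F(E))`. -/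
theorem trivial_of_gen {X K : Subgroup Ω} (hXE : X ≤ E) (hKE : K ≤ E)
    (hX : InvBy (opp F p E) X) (hK : InvBy (opp F p E) K)
    (hN : ∀ n ∈ normalizerIn S E, ∀ y ∈ X, y⁻¹ * cj n y ∈ K) :
    ∀ α ∈ opp F p E, ∀ y ∈ X, y⁻¹ * afun α y ∈ K := by
  have := h.opp_le' (stabMod hXE hKE hX hK) (fun a ha m hm => ?_)
    (fun n => ⟨h.cN_opp n, fun y hy => by rw [afun_cN _ (hXE hy)]; exact hN n n.2 y hy⟩)
  · exact fun α hα => (this hα).2
  refine ⟨mul_mem (mul_mem ha hm.1) (inv_mem ha), fun y hy => ?_⟩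
  have hy' := hX a⁻¹ (inv_mem ha) y hy
  have h1 := hK a ha _ (hm.2 _ hy')
  rw [afun_map_mul a (E.inv_mem (hXE hy')) (afun_mem m (hXE hy')), afun_inv' a (hXE hy'),
    afun_apply_inv a (hXE hy)] at h1
  rwa [afun_mul _ _ (hXE hy), afun_mul _ _ (afun_mem a⁻¹ (hXE hy))]

/-- A maximal `Lev` cannot be enlarged by a central element centralised by `O^{p'}(Aut_F(E))`. -/
theorem no_grow {K : Subgroup Ω} (hK : Lev F p E K)
    (hmax : ∀ K', Lev F p E K' → K ≤ K' → K' ≤ K) {z : Ω} (hzE : z ∈ E) (hzK : z ∉ K)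
    (hzS : ∀ g ∈ S, br g z ∈ K) (hα : ∀ α ∈ opp F p E, z⁻¹ * afun α z ∈ K) : False := by
  set K' := K ⊔ Subgroup.zpowers z
  have hzK' : z ∈ K' := Subgroup.mem_sup_right (Subgroup.mem_zpowers z)
  have hKK' : K ≤ K' := le_sup_left
  have hle : K' ≤ E := sup_le hK.le (Subgroup.zpowers_le.2 hzE)
  refine hzK (hmax K' ⟨hle, fun g hg => ?_, fun α hαo => ?_, fun j hjo hj k hk => ?_⟩ hKK' hzK')
  · have h1 : K' ≤ K'.comap (MulAut.conj g).toMonoidHom :=
      sup_le (fun k hk => hKK' (hK.normal g hg k hk)) (Subgroup.zpowers_le.2 (by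
        show cj g z ∈ K'
        rw [show cj g z = br g z * z by rw [br_eq_cj, inv_mul_cancel_right]]
        exact K'.mul_mem (hKK' (hzS g hg)) hzK'))
    exact fun k hk => h1 hk
  · have h1 : K' ≤ pre α K' :=
      sup_le (fun k hk => mem_pre'.2 ⟨hK.le hk, hKK' (hK.inv α hαo k hk)⟩)
        (Subgroup.zpowers_le.2 (mem_pre'.2 ⟨hzE, by
          rw [← mul_inv_cancel_left z (afun α z)]
          exact K'.mul_mem hzK' (hKK' (hα α hαo))⟩))
    exact fun k hk => (mem_pre'.1 (h1 hk)).2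
  · have h1 : K' ≤ fixOf j :=
      sup_le (fun k hk => ⟨hK.le hk, hK.fix j hjo hj k hk⟩)
        (Subgroup.zpowers_le.2
          ⟨hzE, h.fixed_of_step hK.le hj (hK.fix j hjo hj) hzE (hα j hjo)⟩)
    exact (h1 hk).2

omit h in
theorem exists_central_mod (hS : IsPGroup p S) {K : Subgroup Ω} (hKS : K ≤ S)
    (hn : ∀ g ∈ S, ∀ k ∈ K, cj g k ∈ K) (hne : ∃ x ∈ S, x ∉ K) :
    ∃ z ∈ S, z ∉ K ∧ z ^ p ∈ K ∧ ∀ g ∈ S, br g z ∈ K := by
  let K' : Subgroup S := K.subgroupOf S
  haveI : K'.Normal := ⟨fun a ha g => by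
    have := hn (g : Ω) g.2 (a : Ω) ha
    simpa [K', Subgroup.mem_subgroupOf, cj_apply] using this⟩
  obtain ⟨x, hx, hxK⟩ := hne
  haveI : Nontrivial (S ⧸ K') := ⟨⟨(QuotientGroup.mk' K' ⟨x, hx⟩), 1, fun e =>
    hxK ((QuotientGroup.eq_one_iff (N := K') (⟨x, hx⟩ : S)).1 e)⟩⟩
  haveI := (hS.to_quotient K').center_nontrivial
  obtain ⟨k, hk⟩ := IsPGroup.iff_card.1 ((hS.to_quotient K').to_subgroup (Subgroup.center (S ⧸ K')))
  obtain ⟨w, hw⟩ := exists_prime_orderOf_dvd_card' (G := Subgroup.center (S ⧸ K')) p (by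
    rw [hk]
    refine dvd_pow_self p fun h0 => ?_
    have h1 : 1 < Nat.card (Subgroup.center (S ⧸ K')) := Finite.one_lt_card
    rw [hk, h0] at h1
    simp at h1)
  obtain ⟨z, hz⟩ := QuotientGroup.mk'_surjective K' (w : S ⧸ K')
  refine ⟨z, z.2, fun hzK => ?_, ?_, fun g hg => ?_⟩
  · have h1 : (w : S ⧸ K') = 1 := hz ▸ (QuotientGroup.eq_one_iff (N := K') z).2 hzK
    rw [show w = 1 from Subtype.ext h1, orderOf_one] at hw
    exact (Fact.out : p.Prime).one_lt.ne hw
  · have h1 : QuotientGroup.mk' K' (z ^ p) = 1 := by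
      rw [map_pow, hz, ← SubgroupClass.coe_pow, ← hw, pow_orderOf_eq_one]
      rfl
    exact (QuotientGroup.eq_one_iff (N := K') (z ^ p)).1 h1
  · have h1 := Subgroup.mem_center_iff.1 w.2 (QuotientGroup.mk' K' ⟨g, hg⟩)
    rw [← hz, ← map_mul, ← map_mul, ← mul_inv_eq_one, ← map_inv, ← map_mul] at h1
    have h2 := (QuotientGroup.eq_one_iff _).1 h1
    simpa [K', Subgroup.mem_subgroupOf, br, mul_assoc] using h2

theorem kill_of_mod {K : Subgroup Ω} (hK : Lev F p E K)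
    (hgen : ∀ n ∈ normalizerIn S E, ∀ y ∈ E, y⁻¹ * cj n y ∈ frE E ⊔ K) : False := by
  set M := frE E ⊔ K with hM
  have hME : M ≤ E := sup_le frE_le hK.le
  have hMinv : InvBy (opp F p E) M :=
    invBy_sup frE_le hK.le (fun α _ y hy => afun_mem_frE α hy) hK.inv
  have htriv := h.trivial_of_gen le_rfl hME (fun α _ y hy => afun_mem α hy) hMinv hgen
  refine h.kill fun j hjo hj => h.eq_one_of_mod_frE hj fun y hy => ?_
  refine coprime_step (A := M) (B := frE E) h.le h.hS hME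
    (fun a ha b hb => cj_mem_frE (h.le_N (hME ha)) hb) hj (fun a ha => hMinv j hjo a ha)
    (fun a ha => afun_mem_frE j ha) le_sup_left ?_ hy (htriv j hjo y hy)
  intro a ha
  let D : Subgroup Ω :=
    { carrier := {w | w ∈ E ∧ w⁻¹ * afun j w ∈ frE E}
      one_mem' := ⟨E.one_mem, by
        rw [afun_apply j E.one_mem, inv_one, one_mul]
        exact (congrArg Subtype.val (map_one j) : ((j 1 : E) : Ω) = 1) ▸ one_mem _⟩
      mul_mem' := fun {a b} ha hb => ⟨E.mul_mem ha.1 hb.1, by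
        rw [afun_map_mul j ha.1 hb.1, show (a * b)⁻¹ * (afun j a * afun j b) =
          cj b⁻¹ (a⁻¹ * afun j a) * (b⁻¹ * afun j b) by simp only [cj_apply]; group]
        exact mul_mem (cj_mem_frE (h.le_N (E.inv_mem hb.1)) ha.2) hb.2⟩
      inv_mem' := fun {a} ha => ⟨E.inv_mem ha.1, by
        rw [afun_inv' j ha.1, show a⁻¹⁻¹ * (afun j a)⁻¹ = cj a (a⁻¹ * afun j a)⁻¹ by
          simp only [cj_apply]; group]
        exact cj_mem_frE (h.le_N ha.1) (inv_mem ha.2)⟩ }
  have hMD : M ≤ D := sup_le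
    (fun w hw => ⟨frE_le hw, mul_mem (inv_mem hw) (afun_mem_frE j hw)⟩)
    (fun w hw => ⟨hK.le hw, by rw [hK.fix j hjo hj w hw, inv_mul_cancel]; exact one_mem _⟩)
  exact (hMD ha).2

theorem central_mem {K : Subgroup Ω} (hK : Lev F p E K) {z : Ω} (hzS : z ∈ S)
    (hz : ∀ g ∈ S, br g z ∈ K) : z ∈ E := by
  by_contra hzE
  have hzN : z ∈ normalizerIn S E := ⟨hzS, mem_normalizer_of_cj_le h.le fun e he => by
    rw [show cj z e = br z e * e by rw [br_eq_cj, inv_mul_cancel_right]]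
    exact E.mul_mem (hK.le (br_comm_mem (hz e (h.le he)))) he⟩
  set M := frE E ⊔ K with hM
  have hME : M ≤ E := sup_le frE_le hK.le
  have hMinv : InvBy (opp F p E) M :=
    invBy_sup frE_le hK.le (fun α _ y hy => afun_mem_frE α hy) hK.inv
  have hgen : ∀ n ∈ normalizerIn S E, ∀ y ∈ E, y⁻¹ * cj n y ∈ M := by
    intro n hn y hy
    obtain ⟨e, he, k, rfl⟩ := h.exists_eq_mul hzN hzE hn
    have hzk : z ^ k ∈ normalizerIn S E := zpow_mem hzN k
    have h1 : br (z ^ k) y ∈ K := by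
      let T : Subgroup Ω :=
        { carrier := {w | w ∈ S ∧ br w y ∈ K}
          one_mem' := ⟨S.one_mem, by rw [br_one_left]; exact K.one_mem⟩
          mul_mem' := fun {a b} ha hb =>
            ⟨S.mul_mem ha.1 hb.1, h.br_mem_mul_left hK.normal ha.1 ha.2 hb.2⟩
          inv_mem' := fun {a} ha =>
            ⟨S.inv_mem ha.1, h.br_mem_inv_left hK.normal ha.1 ha.2⟩ }
      exact (show z ^ k ∈ T from
        zpow_mem (show z ∈ T from ⟨hzS, br_comm_mem (hz y (h.le hy))⟩) k).2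
    have e1 : y⁻¹ * cj (e * z ^ k) y = cj y⁻¹ (cj e (br (z ^ k) y)) * (y⁻¹ * cj e y) := by
      simp only [cj_apply, br]; group
    rw [e1]
    refine M.mul_mem (Subgroup.mem_sup_right ?_) (Subgroup.mem_sup_left ?_)
    · exact hK.normal _ (S.inv_mem (h.le hy)) _ (hK.normal e (h.le he) _ h1)
    · rw [show y⁻¹ * cj e y = br y⁻¹ e by simp only [cj_apply, br]; group]
      exact br_mem_frE h.hS h.le (E.inv_mem hy) he
  exact h.kill_of_mod hK hgen

theorem key (hnn : ¬ S ≤ Subgroup.normalizer (E : Set Ω)) :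
    ∃ K x, x ∈ normalizerIn S E ∧ x ∉ E ∧ Lev F p E K ∧
      (∀ j ∈ opp F p E, (orderOf j).Coprime p → ∀ a ∈ E, ∀ b ∈ E,
        afun j (br a b) = br a b ∧ afun j (a ^ p) = a ^ p) ∧
      ∀ e ∈ E, br x (br x e) ∈ K := by
  classical
  have hp := (Fact.out : p.Prime)
  -- a maximal level
  obtain ⟨K, hK, hmax⟩ : ∃ K, Lev F p E K ∧ ∀ K', Lev F p E K' → K ≤ K' → K' ≤ K := by
    have hne : Lev F p E ⊥ := ⟨bot_le,
      fun g _ k hk => by
        rw [Subgroup.mem_bot] at hk ⊢; rw [hk, cj_apply, mul_one, mul_inv_cancel],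
      fun α _ k hk => by
        rw [Subgroup.mem_bot] at hk ⊢
        rw [hk, afun_apply α E.one_mem]; exact congrArg Subtype.val (map_one α),
      fun j _ _ k hk => by
        rw [Subgroup.mem_bot] at hk
        rw [hk, afun_apply j E.one_mem]; exact congrArg Subtype.val (map_one j)⟩
    obtain ⟨K, hK, hKm⟩ := Set.exists_max_image {K | Lev F p E K} (fun K => Nat.card K)
      ((finite_le_S (S := S)).subset fun K hK => hK.le.trans h.le) ⟨⊥, hne⟩
    refine ⟨K, hK, fun K' hK' hle => ?_⟩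
    haveI := finite_of_le (hK'.le.trans h.le)
    exact (Subgroup.eq_of_le_of_card_ge hle (hKm K' hK')).ge
  set A := h.cenMod hK
  have hAE : A ≤ E := h.cenMod_le
  have hKA : K ≤ A := h.le_cenMod
  have hKS : K ≤ S := hK.le.trans h.le
  set N := normalizerIn S E
  have hNS : N ≤ S := inf_le_left
  obtain ⟨x₀, hx₀N, hx₀E⟩ := h.exists_x
  obtain ⟨z, hzS, hzK, hzp, hzc⟩ := exists_central_mod h.hS hKS hK.normal
    ⟨x₀, hNS hx₀N, fun hx => hx₀E (hK.le hx)⟩
  have hzE : z ∈ E := h.central_mem hK hzS hzc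
  have hzA : z ∈ A := ⟨hzE, hzp, fun e he => br_comm_mem (hzc e (h.le he))⟩
  -- elements outside `E` move `A / K`
  have hmoves : ∀ x ∈ N, x ∉ E → ∃ a ∈ A, br x a ∉ K := by
    intro x hx hxE
    by_contra hall
    push Not at hall
    refine h.no_grow hK hmax hzE hzK hzc fun α hα =>
      h.trivial_of_gen hAE hK.le h.cenMod_inv hK.inv ?_ α hα z hzA
    intro n hn y hy
    obtain ⟨e, he, k, rfl⟩ := h.exists_eq_mul hx hxE hn
    let T : Subgroup Ω :=
      { carrier := {w | w ∈ S ∧ br w y ∈ K}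
        one_mem' := ⟨S.one_mem, by rw [br_one_left]; exact K.one_mem⟩
        mul_mem' := fun {a b} ha hb =>
          ⟨S.mul_mem ha.1 hb.1, h.br_mem_mul_left hK.normal ha.1 ha.2 hb.2⟩
        inv_mem' := fun {a} ha => ⟨S.inv_mem ha.1, h.br_mem_inv_left hK.normal ha.1 ha.2⟩ }
    have hT : e * x ^ k ∈ T :=
      mul_mem (show e ∈ T from ⟨h.le he, br_comm_mem (hy.2.2 e he)⟩)
        (zpow_mem (show x ∈ T from ⟨hNS hx, hall y hy⟩) k)
    rw [show y⁻¹ * cj (e * x ^ k) y = cj y⁻¹ (br (e * x ^ k) y) by simp only [cj_apply, br]; group]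
    exact hK.normal _ (S.inv_mem (h.le (hAE hy))) _ hT.2
  -- the conjugate
  have hNlt : N < S := lt_of_le_of_ne hNS fun e => hnn fun g hg => by
    rw [← e] at hg; exact hg.2
  obtain ⟨g, hg, hgN, hgn⟩ := lt_normalizerIn h.hS le_rfl hNlt
  have hgiS : g⁻¹ ∈ S := S.inv_mem hg
  have hcjN : ∀ y ∈ N, cj g y ∈ N := fun y hy => cj_mem_of_normalizer hgn hy
  have hcjN' : ∀ y ∈ N, cj g⁻¹ y ∈ N := fun y hy => cj_mem_of_normalizer (inv_mem hgn) hy
  set E₁ : Subgroup Ω := E.comap (MulAut.conj g⁻¹).toMonoidHom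
  have hE₁ : ∀ y, y ∈ E₁ ↔ cj g⁻¹ y ∈ E := fun y => Iff.rfl
  set A₁ : Subgroup Ω := A.comap (MulAut.conj g⁻¹).toMonoidHom
  have hA₁ : ∀ y, y ∈ A₁ ↔ cj g⁻¹ y ∈ A := fun y => Iff.rfl
  have hA₁E₁ : A₁ ≤ E₁ := fun y hy => hAE hy
  have hE₁N : E₁ ≤ N := fun y hy => by
    have := hcjN _ (h.le_N hy)
    rwa [show cj g ((MulAut.conj g⁻¹).toMonoidHom y) = y from cj_cj_inv g y] at this
  have hA₁p : ∀ a ∈ A₁, a ^ p ∈ K := fun a ha => by
    have h1 := hK.normal g hg _ ha.2.1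
    rwa [show ((MulAut.conj g⁻¹).toMonoidHom a) ^ p = cj g⁻¹ (a ^ p) by
      rw [← map_pow]; rfl, cj_cj_inv] at h1
  have hA₁c : ∀ a ∈ A₁, ∀ e ∈ E₁, br a e ∈ K := fun a ha e he => by
    have h1 := hK.normal g hg _ (ha.2.2 _ he)
    rwa [show br ((MulAut.conj g⁻¹).toMonoidHom a) ((MulAut.conj g⁻¹).toMonoidHom e) =
      cj g⁻¹ (br a e) from (cj_br g⁻¹ a e).symm, cj_cj_inv] at h1
  have hA₁n : ∀ n ∈ N, ∀ a ∈ A₁, cj n a ∈ A₁ := fun n hn a ha => by
    rw [hA₁]
    have := h.cenMod_normal (hK := hK) (hcjN' n hn) ha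
    rwa [show cj (cj g⁻¹ n) ((MulAut.conj g⁻¹).toMonoidHom a) = cj g⁻¹ (cj n a) by
      show cj (cj g⁻¹ n) (cj g⁻¹ a) = _
      simp only [cj_apply]; group] at this
  have hAn : ∀ n ∈ N, ∀ a ∈ A, cj n a ∈ A := fun n hn a ha => h.cenMod_normal hn ha
  have hKA₁ : K ≤ A₁ := fun k hk => hKA (hK.normal _ hgiS k hk)
  have hzA₁ : z ∈ A₁ := by
    rw [hA₁, show cj g⁻¹ z = br g⁻¹ z * z by rw [br_eq_cj, inv_mul_cancel_right]]
    exact A.mul_mem (hKA (hzc _ hgiS)) hzA
  have hcardA₁ : Nat.card A₁ = Nat.card A := by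
    refine Nat.card_congr ?_
    exact
      { toFun := fun y => ⟨cj g⁻¹ y, y.2⟩
        invFun := fun y => ⟨cj g y, by rw [hA₁, cj_inv_cj]; exact y.2⟩
        left_inv := fun y => Subtype.ext (cj_cj_inv g y)
        right_inv := fun y => Subtype.ext (cj_inv_cj g y) }
  have hcardE₁ : Nat.card E₁ = Nat.card E := by
    refine Nat.card_congr ?_
    exact
      { toFun := fun y => ⟨cj g⁻¹ y, y.2⟩
        invFun := fun y => ⟨cj g y, by rw [hE₁, cj_inv_cj]; exact y.2⟩
        left_inv := fun y => Subtype.ext (cj_cj_inv g y)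
        right_inv := fun y => Subtype.ext (cj_inv_cj g y) }
  have hmoves₁ : ∀ y ∈ N, y ∉ E₁ → ∃ a ∈ A₁, br y a ∉ K := by
    intro y hy hyE
    obtain ⟨a, ha, hna⟩ := hmoves _ (hcjN' y hy) hyE
    refine ⟨cj g a, by rw [hA₁, cj_inv_cj]; exact ha, fun hm => hna ?_⟩
    have := hK.normal _ hgiS _ hm
    rwa [cj_br, cj_inv_cj] at this
  have hAS : A ≤ S := hAE.trans h.le
  have hA₁S : A₁ ≤ S := (hA₁E₁.trans hE₁N).trans hNS
  haveI := finite_of_le hAS
  haveI := finite_of_le hA₁S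
  haveI := finite_of_le hKS
  have hK0 : 0 < Nat.card K := Nat.card_pos
  -- bound for elementary sections
  have hbound : ∀ T : Set Ω, T ⊆ S → (K : Set Ω) ⊆ T → (∀ a ∈ T, a ^ p ∈ K) →
      (∀ a ∈ T, ∀ b ∈ T, br a b ∈ K) →
      Nat.card (Subgroup.closure T) ≤ p ^ 3 * Nat.card K := by
    intro T hTS hKT hTp hTc
    have hle : Subgroup.closure T ≤ S := (Subgroup.closure_le _).2 hTS
    have hn : ∀ k ∈ Subgroup.closure T, ∀ y ∈ K, cj k y ∈ K := fun k hk => hK.normal k (hle hk)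
    exact section_card h.rk hle (fun k hk => Subgroup.subset_closure (hKT hk)) hn
      (gen_comm hn hTc) (gen_pow hn hTc hTp)
  -- one step
  have hstep : ∀ L : Subgroup Ω, L ≤ S → K ≤ L → z ∈ L → p * Nat.card K ≤ Nat.card L := by
    intro L hLS hKL hzL
    exact mul_card_le_of_lt h.hS hLS (lt_of_le_not_ge hKL fun e => hzK (e hzL))
  -- a section of order `p` containing `z` is central
  have hcentral : ∀ L : Subgroup Ω, L ≤ S → K ≤ L → z ∈ L → Nat.card L ≤ p * Nat.card K →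
      ∀ n ∈ S, ∀ y ∈ L, br n y ∈ K := by
    intro L hLS hKL hzL hLc n hn y hy
    let T : Subgroup Ω :=
      { carrier := {w | w ∈ L ∧ br w n ∈ K}
        one_mem' := ⟨L.one_mem, by rw [br_one_left]; exact K.one_mem⟩
        mul_mem' := fun {a b} ha hb =>
          ⟨L.mul_mem ha.1 hb.1, h.br_mem_mul_left hK.normal (hLS ha.1) ha.2 hb.2⟩
        inv_mem' := fun {a} ha => ⟨L.inv_mem ha.1, h.br_mem_inv_left hK.normal (hLS ha.1) ha.2⟩ }
    have hTL : T ≤ L := fun w hw => hw.1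
    have hTeq : T = L := eq_of_le_of_card_ge hLS hTL (hLc.trans (hstep T (hTL.trans hLS)
      (fun k hk => ⟨hKL hk, br_mem_of_left hK.normal hn hk⟩) ⟨hzL, br_comm_mem (hzc n hn)⟩))
    rw [← hTeq] at hy
    exact br_comm_mem hy.2
  have hAbig : ¬ Nat.card A ≤ p * Nat.card K := by
    intro hc
    obtain ⟨a, ha, hna⟩ := hmoves x₀ hx₀N hx₀E
    exact hna (hcentral A hAS hKA hzA hc x₀ (hNS hx₀N) a ha)
  have hA2 : p ^ 2 * Nat.card K ≤ Nat.card A := by
    have h1 := hstep A hAS hKA hzA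
    obtain ⟨k, hk⟩ := IsPGroup.iff_card.1 (h.hS.to_le hAS)
    obtain ⟨m, hm⟩ := IsPGroup.iff_card.1 (h.hS.to_le hKS)
    rw [hk, hm, ← pow_succ'] at hAbig
    rw [hk, hm, ← pow_add]
    refine Nat.pow_le_pow_right hp.pos ?_
    by_contra hlt
    exact hAbig (Nat.pow_le_pow_right hp.pos (by omega))
  by_cases hII : A₁ ≤ E
  · exfalso
    have hAE₁ : A ≤ E₁ := by
      intro a ha
      by_contra hna
      obtain ⟨b, hb, hnb⟩ := hmoves₁ a (h.le_N (hAE ha)) hna
      exact hnb (ha.2.2 b (hII hb))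
    have hneA : ¬ A ≤ A₁ := by
      intro hle
      obtain ⟨x, hxE₁, hxE⟩ : ∃ x ∈ E₁, x ∉ E := by
        by_contra hc
        push Not at hc
        refine hgN ⟨hg, mem_normalizer_of_cj_le h.le fun e he => hc _ ?_⟩
        rw [hE₁, cj_inv_cj]; exact he
      obtain ⟨a, ha, hna⟩ := hmoves x (hE₁N hxE₁) hxE
      exact hna (br_comm_mem (hA₁c a (hle ha) x hxE₁))
    set L := A ⊓ A₁
    have hLS : L ≤ S := inf_le_left.trans hAS
    have hKL : K ≤ L := le_inf hKA hKA₁
    have hzL : z ∈ L := ⟨hzA, hzA₁⟩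
    have hLA : p * Nat.card L ≤ Nat.card A :=
      mul_card_le_of_lt h.hS hAS (lt_of_le_not_ge inf_le_left fun e => hneA fun a ha => (e ha).2)
    obtain ⟨a₁, ha₁, ha₁A⟩ : ∃ a ∈ A₁, a ∉ A := by
      by_contra hc
      push Not at hc
      exact hneA (Subgroup.eq_of_le_of_card_ge hc hcardA₁.ge).ge
    set W := Subgroup.closure ((A : Set Ω) ∪ {a₁})
    have hTS : ((A : Set Ω) ∪ {a₁}) ⊆ S := Set.union_subset hAS
      (Set.singleton_subset_iff.2 (hA₁S ha₁))
    have hWc : ∀ a ∈ (A : Set Ω) ∪ {a₁}, ∀ b ∈ (A : Set Ω) ∪ {a₁}, br a b ∈ K := by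
      rintro a (ha | rfl) b (hb | rfl)
      · exact ha.2.2 b (hAE hb)
      · exact ha.2.2 _ (hII ha₁)
      · exact br_comm_mem (hb.2.2 _ (hII ha₁))
      · rw [br_self]; exact K.one_mem
    have hWp : ∀ a ∈ (A : Set Ω) ∪ {a₁}, a ^ p ∈ K := by
      rintro a (ha | rfl)
      · exact ha.2.1
      · exact hA₁p _ ha₁
    have hW3 := hbound _ hTS (fun k hk => Or.inl (hKA hk)) hWp hWc
    have hWA : p * Nat.card A ≤ Nat.card W := by
      refine mul_card_le_of_lt h.hS ((Subgroup.closure_le _).2 hTS) (lt_of_le_not_ge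
        (fun a ha => Subgroup.subset_closure (Or.inl ha))
        fun e => ha₁A (e (Subgroup.subset_closure (Or.inr rfl))))
    have hLc : Nat.card L ≤ p * Nat.card K := by
      have h1 : p * (p * Nat.card L) ≤ p ^ 3 * Nat.card K :=
        (Nat.mul_le_mul_left p hLA).trans (hWA.trans hW3)
      refine Nat.le_of_mul_le_mul_left ?_ (Nat.mul_pos hp.pos hp.pos)
      calc p * p * Nat.card L = p * (p * Nat.card L) := by ring
        _ ≤ p ^ 3 * Nat.card K := h1
        _ = p * p * (p * Nat.card K) := by ring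
    have hA2' : Nat.card A ≤ p * Nat.card L := by
      have h1 : p * Nat.card A ≤ p ^ 3 * Nat.card K := hWA.trans hW3
      have h2 := hstep L hLS hKL hzL
      refine Nat.le_of_mul_le_mul_left ?_ hp.pos
      calc p * Nat.card A ≤ p ^ 3 * Nat.card K := h1
        _ = p * (p * (p * Nat.card K)) := by ring
        _ ≤ p * (p * Nat.card L) := by gcongr
    have hcomL : ∀ e ∈ E, ∀ a ∈ A₁, br a e ∈ L := by
      intro e he a ha
      haveI : Finite N := finite_of_le hNS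
      refine br_comm_mem (step_comm (S := N) (p := p) (h.hS.to_le hNS) (hA₁E₁.trans hE₁N)
        inf_le_right (fun n hn b hb => ⟨hAn n hn b hb.1, hA₁n n hn b hb.2⟩) hA₁n
        (hcardA₁ ▸ hA2') e (h.le_N he) a ha)
    have hLinv : InvBy (opp F p E) L := by
      intro α hα y hy
      by_contra hαy
      have hLE : L ≤ E := inf_le_left.trans hAE
      obtain ⟨e, he, hne⟩ : ∃ e ∈ E, br a₁ e ∉ K := by
        by_contra hc
        push Not at hc
        exact ha₁A ⟨hII ha₁, hA₁p _ ha₁, hc⟩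
      have hmeet : ∀ w ∈ L, afun α⁻¹ w ∈ L → w ∈ K := by
        intro w hw hw'
        set D := L ⊓ pre α⁻¹ L
        have hKD : K ≤ D := fun k hk => ⟨hKL hk, mem_pre'.2
          ⟨hK.le hk, hKL (hK.inv _ (inv_mem hα) k hk)⟩⟩
        by_contra hwK
        have hDS : D ≤ S := inf_le_left.trans hLS
        have hD : D = L := eq_of_le_of_card_ge hLS inf_le_left (hLc.trans
          (mul_card_le_of_lt h.hS hDS (lt_of_le_not_ge hKD fun e' =>
            hwK (e' ⟨hw, mem_pre'.2 ⟨hLE hw, hw'⟩⟩))))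
        have hinvL : img α⁻¹ L = L := by
          refine eq_of_le_of_card_ge hLS (fun v hv => ?_) (card_img α⁻¹ hLE).ge
          obtain ⟨v', hv', rfl⟩ := (mem_img hLE).1 hv
          exact (mem_pre'.1 (hD.ge hv').2).2
        obtain ⟨y', hy', he'⟩ := (mem_img hLE).1 (hinvL.ge hy)
        rw [← he', afun_apply_inv α (hLE hy')] at hαy
        exact hαy hy'
      set a₂ := afun α a₁
      have ha₂E : a₂ ∈ E := afun_mem α (hII ha₁)
      have hw : br a₁ a₂ ∈ K := by
        refine hmeet _ (hcomL _ ha₂E _ ha₁) ?_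
        rw [afun_br _ (hII ha₁) ha₂E, afun_inv_apply α (hII ha₁)]
        exact br_comm_mem (hcomL _ (afun_mem _ (hII ha₁)) _ ha₁)
      have ha₂p : a₂ ^ p ∈ K := by
        rw [← afun_pow α (hII ha₁)]; exact hK.inv α hα _ (hA₁p _ ha₁)
      set T := ((A : Set Ω) ∪ {a₁}) ∪ {a₂}
      have hT3 : Nat.card (Subgroup.closure T) ≤ p ^ 3 * Nat.card K := by
        refine hbound T (Set.union_subset hTS (Set.singleton_subset_iff.2 (h.le ha₂E)))
          (fun k hk => Or.inl (Or.inl (hKA hk))) ?_ ?_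
        · rintro a (ha | rfl)
          · exact hWp a ha
          · exact ha₂p
        · have hmix : ∀ a ∈ (A : Set Ω) ∪ {a₁}, br a a₂ ∈ K := by
            rintro a (ha | rfl)
            · exact ha.2.2 _ ha₂E
            · exact hw
          rintro a (ha | rfl) b (hb | rfl)
          · exact hWc a ha b hb
          · exact hmix a ha
          · exact br_comm_mem (hmix b hb)
          · rw [br_self]; exact K.one_mem
      have hW3' : p ^ 3 * Nat.card K ≤ Nat.card W := by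
        refine le_trans ?_ hWA
        calc p ^ 3 * Nat.card K = p * (p ^ 2 * Nat.card K) := by ring
          _ ≤ p * Nat.card A := Nat.mul_le_mul_left p hA2
      have hTle : Subgroup.closure T ≤ S := (Subgroup.closure_le _).2
        (Set.union_subset hTS (Set.singleton_subset_iff.2 (h.le ha₂E)))
      have ha₂W : a₂ ∈ W := by
        have hWT : W = Subgroup.closure T := eq_of_le_of_card_ge hTle
          (Subgroup.closure_mono Set.subset_union_left) (hT3.trans hW3')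
        rw [hWT]; exact Subgroup.subset_closure (Or.inr rfl)
      have hWL : ∀ v ∈ W, ∀ e' ∈ E, br v e' ∈ L := by
        intro v hv e' he'
        have hvE : W ≤ E := (Subgroup.closure_le _).2 (Set.union_subset hAE
          (Set.singleton_subset_iff.2 (hII ha₁)))
        induction hv using Subgroup.closure_induction with
        | mem v hv =>
          rcases hv with hv | rfl
          · exact hKL (hv.2.2 _ he')
          · exact hcomL _ he' _ ha₁
        | one => rw [br_one_left]; exact L.one_mem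
        | mul a b ha _ iha ihb =>
          rw [br_mul_left]
          exact L.mul_mem ⟨hAn a (h.le_N (hvE ha)) _ ihb.1, hA₁n a (h.le_N (hvE ha)) _ ihb.2⟩ iha
        | inv a ha iha =>
          rw [br_inv_left]
          have hm := L.inv_mem iha
          have h1 : cj a⁻¹ (br a e')⁻¹ ∈ L :=
            ⟨hAn _ (h.le_N (E.inv_mem (hvE ha))) _ hm.1,
              hA₁n _ (h.le_N (E.inv_mem (hvE ha))) _ hm.2⟩
          rwa [cj_apply, inv_inv] at h1
      apply hne
      have h1 : afun α (br a₁ e) ∈ K := by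
        refine hmeet _ ?_ ?_
        · rw [afun_br α (hII ha₁) he]; exact hWL _ ha₂W _ (afun_mem α he)
        · rw [afun_inv_apply α]
          · exact hcomL e he _ ha₁
          · exact hLE (hcomL e he _ ha₁)
      have h2 := hK.inv _ (inv_mem hα) _ h1
      rwa [afun_inv_apply α (hLE (hcomL e he _ ha₁))] at h2
    refine h.no_grow hK hmax hzE hzK hzc fun α hα => h.trivial_of_gen (inf_le_left.trans hAE)
      hK.le hLinv hK.inv (fun n hn y hy => ?_) α hα z hzL
    rw [show y⁻¹ * cj n y = cj y⁻¹ (br n y) by simp only [cj_apply, br]; group]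
    exact hK.normal _ (S.inv_mem (hLS hy)) _ (hcentral L hLS hKL hzL hLc n (hNS hn) y hy)
  -- the main case
  obtain ⟨x, hxA₁, hxE⟩ := SetLike.not_le_iff_exists.1 hII
  have hxN : x ∈ N := hE₁N (hA₁E₁ hxA₁)
  have hB : ∀ y ∈ A₁, y ∈ E → y ∈ A := by
    intro y hy hyE
    by_contra hyA
    set T := (A : Set Ω) ∪ {y}
    have hTS : T ⊆ S := Set.union_subset hAS (Set.singleton_subset_iff.2 (h.le hyE))
    have hT3 : Nat.card (Subgroup.closure T) ≤ p ^ 3 * Nat.card K := by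
      refine hbound T hTS (fun k hk => Or.inl (hKA hk)) ?_ ?_
      · rintro a (ha | rfl)
        · exact ha.2.1
        · exact hA₁p _ hy
      · rintro a (ha | rfl) b (hb | rfl)
        · exact ha.2.2 b (hAE hb)
        · exact ha.2.2 _ hyE
        · exact br_comm_mem (hb.2.2 _ hyE)
        · rw [br_self]; exact K.one_mem
    have hTA : p * Nat.card A ≤ Nat.card (Subgroup.closure T) :=
      mul_card_le_of_lt h.hS ((Subgroup.closure_le _).2 hTS) (lt_of_le_not_ge
        (fun a ha => Subgroup.subset_closure (Or.inl ha))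
        fun e => hyA (e (Subgroup.subset_closure (Or.inr rfl))))
    set B := A₁ ⊓ E
    have hBA₁ : p * Nat.card B ≤ Nat.card A₁ :=
      mul_card_le_of_lt h.hS hA₁S (lt_of_le_not_ge inf_le_left fun e => hxE (e hxA₁).2)
    have hBS : B ≤ S := inf_le_left.trans hA₁S
    have hBc : Nat.card B ≤ p * Nat.card K := by
      have h1 : p * (p * Nat.card B) ≤ p ^ 3 * Nat.card K :=
        (Nat.mul_le_mul_left p (hcardA₁ ▸ hBA₁)).trans (hTA.trans hT3)
      refine Nat.le_of_mul_le_mul_left ?_ (Nat.mul_pos hp.pos hp.pos)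
      calc p * p * Nat.card B = p * (p * Nat.card B) := by ring
        _ ≤ p ^ 3 * Nat.card K := h1
        _ = p * p * (p * Nat.card K) := by ring
    have hBA : B ⊓ A = B := eq_of_le_of_card_ge hBS inf_le_left
      (hBc.trans (hstep _ (inf_le_left.trans hBS) (le_inf (le_inf hKA₁ hK.le) hKA)
        ⟨⟨hzA₁, hzE⟩, hzA⟩))
    exact hyA (hBA.ge ⟨hy, hyE⟩).2
  -- congruence modulo `A`
  have hcjA : ∀ a ∈ E, ∀ u v : Ω, u⁻¹ * v ∈ A → (cj a u)⁻¹ * cj a v ∈ A := fun a ha u v huv => by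
    rw [← cj_inv', ← cj_mul']; exact hAn a (h.le_N ha) _ huv
  have htrans : ∀ u v w : Ω, u⁻¹ * v ∈ A → v⁻¹ * w ∈ A → u⁻¹ * w ∈ A := fun u v w h1 h2 => by
    have := A.mul_mem h1 h2
    rwa [mul_assoc, mul_inv_cancel_left] at this
  have hafA : ∀ α ∈ opp F p E, ∀ u ∈ E, ∀ v ∈ E, u⁻¹ * v ∈ A →
      (afun α u)⁻¹ * afun α v ∈ A := fun α hα u hu v hv huv => by
    have := h.cenMod_inv α hα _ huv
    rwa [afun_map_mul α (E.inv_mem hu) hv, afun_inv' α hu] at this
  let T : Subgroup (MulAut E) :=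
    { carrier := {α | α ∈ opp F p E ∧ ∃ e₀ ∈ E, ∀ e ∈ E, (cj e₀ e)⁻¹ * afun α e ∈ A}
      one_mem' := ⟨one_mem _, 1, E.one_mem, fun e he => by
        rw [cj_one, afun_one he, inv_mul_cancel]; exact A.one_mem⟩
      mul_mem' := fun {a b} ⟨hao, ea, hea, ha⟩ ⟨hbo, eb, heb, hb⟩ =>
        ⟨mul_mem hao hbo, ea * eb, E.mul_mem hea heb, fun e he => by
          rw [afun_mul _ _ he, ← cj_cj]
          exact htrans _ _ _ (hcjA ea hea _ _ (hb e he)) (ha _ (afun_mem b he))⟩
      inv_mem' := fun {a} ⟨hao, ea, hea, ha⟩ => ⟨inv_mem hao, ea⁻¹, E.inv_mem hea, fun e he => by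
        have h1 := hcjA ea⁻¹ (E.inv_mem hea) _ _ (ha _ (afun_mem a⁻¹ he))
        rw [afun_apply_inv a he, cj_inv_cj] at h1
        have h2 := A.inv_mem h1
        rwa [mul_inv_rev, inv_inv] at h2⟩ }
  have hopp : opp F p E ≤ T := by
    refine h.opp_le' T (fun a hao m hm => ?_) (fun n => ⟨h.cN_opp n, ?_⟩)
    · obtain ⟨hmo, em, hem, hm'⟩ := hm
      refine ⟨mul_mem (mul_mem hao hmo) (inv_mem hao), afun a em, afun_mem a hem, fun e he => ?_⟩
      have he' := afun_mem a⁻¹ he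
      have h1 := hafA a hao _ (cj_mem_of_normalizer (h.le_N hem).2 he') _ (afun_mem m he')
        (hm' _ he')
      rw [afun_cj a hem he', afun_apply_inv a he] at h1
      rwa [afun_mul _ _ he, afun_mul _ _ he']
    · obtain ⟨e₀, he₀, k, hk⟩ := h.exists_eq_mul hxN hxE n.2
      refine ⟨e₀, he₀, fun e he => ?_⟩
      rw [afun_cN _ he, hk, show cj (e₀ * x ^ k) e = cj e₀ (cj (x ^ k) e) from (cj_cj _ _ _).symm]
      refine hcjA e₀ he₀ _ _ (hB _ ?_ ?_)
      · rw [show e⁻¹ * cj (x ^ k) e = cj e⁻¹ (x ^ k) * (x ^ k)⁻¹ by simp only [cj_apply]; group]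
        exact A₁.mul_mem (hA₁n _ (h.le_N (E.inv_mem he)) _ (zpow_mem hxA₁ k))
          (inv_mem (zpow_mem hxA₁ k))
      · exact E.mul_mem (E.inv_mem he) (cj_mem_of_normalizer (zpow_mem hxN k).2 he)
  have hcop : ∀ j ∈ opp F p E, (orderOf j).Coprime p → ∀ e ∈ E, e⁻¹ * afun j e ∈ A := by
    intro j hjo hj
    obtain ⟨-, e₀, he₀, he⟩ := hopp hjo
    have hn : ∀ n : ℕ, ∀ e ∈ E, (cj (e₀ ^ n) e)⁻¹ * afun (j ^ n) e ∈ A := by
      intro n
      induction n with
      | zero => intro e he; rw [pow_zero, pow_zero, cj_one, afun_one he, inv_mul_cancel]; exact A.one_mem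
      | succ n ih =>
        intro e hee
        rw [pow_succ' e₀, pow_succ' j, afun_mul _ _ hee, ← cj_cj]
        exact htrans _ _ _ (hcjA e₀ he₀ _ _ (ih e hee)) (he _ (afun_mem (j ^ n) hee))
    let C : Subgroup Ω :=
      { carrier := {c | c ∈ E ∧ ∀ e ∈ E, e⁻¹ * cj c e ∈ A}
        one_mem' := ⟨E.one_mem, fun e _ => by rw [cj_one, inv_mul_cancel]; exact A.one_mem⟩
        mul_mem' := fun {a b} ha hb => ⟨E.mul_mem ha.1 hb.1, fun e hee => by
          rw [← cj_cj]
          exact htrans _ _ _ (ha.2 e hee) (hcjA a ha.1 _ _ (hb.2 e hee))⟩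
        inv_mem' := fun {a} ha => ⟨E.inv_mem ha.1, fun e hee => by
          have h1 := hcjA a⁻¹ (E.inv_mem ha.1) _ _ (ha.2 e hee)
          rw [cj_inv_cj] at h1
          have h2 := A.inv_mem h1
          rwa [mul_inv_rev, inv_inv] at h2⟩ }
    have h1 : e₀ ^ orderOf j ∈ C := ⟨E.pow_mem he₀ _, fun e hee => by
      have := hn (orderOf j) e hee
      rw [pow_orderOf_eq_one, afun_one hee] at this
      have h2 := A.inv_mem this
      rwa [mul_inv_rev, inv_inv] at h2⟩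
    obtain ⟨k, hk⟩ := h.hS ⟨e₀, h.le he₀⟩
    have h2 : e₀ ^ p ^ k = 1 := congrArg Subtype.val hk
    obtain ⟨r, t, hrt⟩ := Int.isCoprime_iff_gcd_eq_one.mpr
      (show Int.gcd (orderOf j : ℤ) ((p ^ k : ℕ) : ℤ) = 1 by
        rw [Int.gcd_natCast_natCast]; exact hj.pow_right k)
    have he₀C : e₀ ∈ C := by
      rw [← zpow_one e₀, ← hrt, zpow_add, mul_comm r, mul_comm t, zpow_mul, zpow_mul, zpow_natCast,
        zpow_natCast, h2, one_zpow, mul_one]
      exact C.zpow_mem h1 r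
    exact fun e hee => htrans _ _ _ (he₀C.2 e hee) (he e hee)
  refine ⟨K, x, hxN, hxE, hK, fun j hjo hj a ha b hb => ?_, fun e he => ?_⟩
  · obtain ⟨u, hu, hja⟩ : ∃ u ∈ A, afun j a = a * u :=
      ⟨_, hcop j hjo hj a ha, (mul_inv_cancel_left _ _).symm⟩
    obtain ⟨v, hv, hjb⟩ : ∃ v ∈ A, afun j b = b * v :=
      ⟨_, hcop j hjo hj b hb, (mul_inv_cancel_left _ _).symm⟩
    have hbr : br a b ∈ E :=
      E.mul_mem (E.mul_mem (E.mul_mem ha hb) (E.inv_mem ha)) (E.inv_mem hb)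
    refine ⟨h.fixed_of_step hK.le hj (hK.fix j hjo hj) hbr ?_,
      h.fixed_of_step hK.le hj (hK.fix j hjo hj) (E.pow_mem ha p) ?_⟩
    · rw [afun_br j ha hb, hja, hjb, br_mul_left, br_mul_right a b v,
        show a * br u (b * v) * a⁻¹ = cj a (br u (b * v)) from rfl,
        show b * br a v * b⁻¹ = cj b (br a v) from rfl]
      have k1 := hK.normal a (h.le ha) _ (hu.2.2 _ (E.mul_mem hb (hAE hv)))
      have k2 := hK.normal b (h.le hb) _ (br_comm_mem (hv.2.2 _ ha))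
      have k3 := hK.normal _ (S.inv_mem (h.le hbr)) _ k1
      have e1 : ∀ A B C : Ω, B⁻¹ * (A * (B * C)) = cj B⁻¹ A * C := fun A B C => by
        simp only [cj_apply]; group
      rw [e1]
      exact K.mul_mem k3 k2
    · rw [afun_pow j ha, hja]
      have hua : br u a ∈ K := hu.2.2 a ha
      have h1 := pow_prime_mul_mod hp h.odd (K := E) (N := K)
        (fun k hk y hy => hK.normal k (h.le hk) y hy) ha (hAE hu)
        (br_mem_of_left hK.normal (h.le ha) hua) (br_mem_of_left hK.normal (hAS hu) hua)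
        (K.pow_mem hua p)
      have h2 := hK.normal _ (S.inv_mem (S.pow_mem (h.le ha) p)) _ h1
      have h3 := K.mul_mem h2 hu.2.1
      rwa [show cj (a ^ p)⁻¹ ((a * u) ^ p * (a ^ p * u ^ p)⁻¹) * u ^ p =
        (a ^ p)⁻¹ * (a * u) ^ p by
          rw [cj_apply, inv_inv]
          simp only [mul_inv_rev, mul_assoc, inv_mul_cancel_left]
          simp] at h3
  · have h1 : br x e ∈ A₁ := by
      rw [show br x e = x * cj e x⁻¹ by simp only [cj_apply, br]; group]
      exact A₁.mul_mem hxA₁ (hA₁n e (h.le_N he) _ (inv_mem hxA₁))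
    exact hA₁c x hxA₁ _ (hA₁E₁ h1)

end Hyp

end Cfsg.Agent.NormalR3
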