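import Cfsg.Agent.Lib.Rank3CaseB34Base
import Cfsg.Agent.Lib.Rank3Found34b

/-!
Tools for case B2 of the rank three engine: commutators, one-step sections and quotient layers.
-/

set_option autoImplicit false
set_option linter.unusedSectionVars false

namespace Cfsg.Agent.Rank3.CaseB2

open Cfsg.FusionSystem Cfsg.Agent.FusionSysBasic Cfsg.Agent.FusionSysSaturated
  Cfsg.Agent.FusionSysNormal Cfsg.Agent.FusionSysAlperin Cfsg.Agent.Rank3

universe u

section Group

variable {G : Type*} [Group G]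

/-- The commutator `g h g⁻¹ h⁻¹`. -/
def br (g h : G) : G := g * h * g⁻¹ * h⁻¹

theorem br_mul_left (a b h : G) : br (a * b) h = a * br b h * a⁻¹ * br a h := by
  simp only [br]; group

theorem br_mul_right (g a b : G) : br g (a * b) = br g a * (a * br g b * a⁻¹) := by
  simp only [br]; group

theorem br_inv_left (a h : G) : br a⁻¹ h = a⁻¹ * (br a h)⁻¹ * a := by
  simp only [br]; group

theorem br_inv_right (g a : G) : br g a⁻¹ = a⁻¹ * (br g a)⁻¹ * a := by
  simp only [br]; group

theorem br_symm (a b : G) : (br a b)⁻¹ = br b a := by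
  simp only [br]; group

theorem br_self (a : G) : br a a = 1 := by
  simp only [br]; group

theorem br_eq_one {a b : G} : br a b = 1 ↔ a * b = b * a := by
  rw [br, mul_inv_eq_one, mul_inv_eq_iff_eq_mul]

theorem br_one_left (h : G) : br 1 h = 1 := by simp [br]

theorem br_one_right (g : G) : br g 1 = 1 := by simp [br]

/-- Powers of a product when the commutator is central. -/
theorem mul_pow_class_two (a b : G) (hca : br b a * a = a * br b a)
    (hcb : br b a * b = b * br b a) :
    ∀ n : ℕ, (a * b) ^ n = a ^ n * b ^ n * br b a ^ n.choose 2 := by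
  have hCa : Commute (br b a) a := hca
  have hCb : Commute (br b a) b := hcb
  have hba : b * a = br b a * a * b := by simp only [br]; group
  have hswap : ∀ n : ℕ, b ^ n * a = br b a ^ n * a * b ^ n := by
    intro n
    induction n with
    | zero => simp
    | succ n ih =>
      rw [pow_succ b, mul_assoc (b ^ n), hba, ← mul_assoc (b ^ n), ← mul_assoc (b ^ n),
        ((hCb.symm.pow_left n)).eq, mul_assoc (br b a) (b ^ n) a, ih, ← mul_assoc (br b a),
        ← mul_assoc (br b a), ← pow_succ', mul_assoc _ (b ^ n) b]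
  intro n
  induction n with
  | zero => simp
  | succ n ih =>
    have e1 : br b a ^ n.choose 2 * (a * b) = a * b * br b a ^ n.choose 2 :=
      ((hCa.pow_left _).mul_right (hCb.pow_left _)).eq
    rw [pow_succ, ih, mul_assoc, e1, show (n + 1).choose 2 = n + n.choose 2 by
      rw [Nat.choose_succ_succ, Nat.choose_one_right]]
    calc a ^ n * b ^ n * (a * b * br b a ^ n.choose 2)
        = a ^ n * (b ^ n * a) * b * br b a ^ n.choose 2 := by group
      _ = a ^ n * (br b a ^ n * a * b ^ n) * b * br b a ^ n.choose 2 := by rw [hswap]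
      _ = a ^ n * (br b a ^ n * (a * b ^ (n + 1))) * br b a ^ n.choose 2 := by
          rw [pow_succ b]; group
      _ = a ^ n * ((a * b ^ (n + 1)) * br b a ^ n) * br b a ^ n.choose 2 := by
          rw [((hCa.pow_left n).mul_right ((hCb.pow_pow n (n + 1)))).eq]
      _ = a ^ (n + 1) * b ^ (n + 1) * (br b a ^ n * br b a ^ n.choose 2) := by
          rw [pow_succ a]; group
      _ = _ := by rw [← pow_add]

theorem pow_prime_mul {p : ℕ} (hp : p.Prime) (hodd : Odd p) (a b : G)
    (hca : br b a * a = a * br b a) (hcb : br b a * b = b * br b a) (h1 : br b a ^ p = 1) :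
    (a * b) ^ p = a ^ p * b ^ p := by
  have h2 : 2 < p := by
    rcases hp.two_le.lt_or_eq with h | h
    · exact h
    · subst h; exact absurd hodd (by decide)
  obtain ⟨k, hk⟩ := hp.dvd_choose_self two_ne_zero h2
  rw [mul_pow_class_two a b hca hcb p, hk, pow_mul, h1, one_pow, mul_one]

theorem exists_nat_pow_eq {z w : G} {p : ℕ} (hp : 0 < p) (hz : z ^ p = 1)
    (hw : w ∈ Subgroup.zpowers z) : ∃ n : ℕ, w = z ^ n := by
  obtain ⟨k, rfl⟩ := Subgroup.mem_zpowers_iff.mp hw
  refine ⟨(k % (p : ℤ)).toNat, ?_⟩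
  rw [← zpow_natCast, Int.toNat_of_nonneg (Int.emod_nonneg _ (by exact_mod_cast hp.ne'))]
  exact zpow_eq_zpow_emod' k hz

/-- `(a b) ^ p` modulo a normal subgroup, for a commutator central modulo it. -/
theorem pow_prime_mul_mod {p : ℕ} (hp : p.Prime) (hodd : Odd p) {K N : Subgroup G}
    (hn : ∀ k ∈ K, ∀ y ∈ N, k * y * k⁻¹ ∈ N) {a b : G} (ha : a ∈ K) (hb : b ∈ K)
    (hca : br (br b a) a ∈ N) (hcb : br (br b a) b ∈ N) (h1 : br b a ^ p ∈ N) :
    (a * b) ^ p * (a ^ p * b ^ p)⁻¹ ∈ N := by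
  let N' : Subgroup K := N.subgroupOf K
  haveI : N'.Normal := ⟨fun y hy k => by
    have := hn (k : G) k.2 (y : G) hy
    simpa [N', Subgroup.mem_subgroupOf] using this⟩
  let π := QuotientGroup.mk' N'
  let A : K := ⟨a, ha⟩
  let B : K := ⟨b, hb⟩
  have key : ∀ u v : K, ((u : G) * (v : G)⁻¹ ∈ N) → π u = π v := fun u v h => by
    rw [← mul_inv_eq_one, ← map_inv, ← map_mul]
    exact (QuotientGroup.eq_one_iff _).mpr (by simpa [N', Subgroup.mem_subgroupOf] using h)
  have hbr : π (B * A * B⁻¹ * A⁻¹) = br (π B) (π A) := by simp [br]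
  have e : (π A * π B) ^ p = π A ^ p * π B ^ p := by
    refine pow_prime_mul hp hodd _ _ ?_ ?_ ?_
    · rw [← hbr, ← map_mul, ← map_mul]
      refine key _ _ ?_
      simpa [A, B, br, mul_assoc] using hca
    · rw [← hbr, ← map_mul, ← map_mul]
      refine key _ _ ?_
      simpa [A, B, br, mul_assoc] using hcb
    · rw [← hbr, ← map_pow]
      exact (QuotientGroup.eq_one_iff _).mpr (by
        simpa [N', A, B, br, Subgroup.mem_subgroupOf] using h1)
  rw [← map_mul, ← map_pow, ← map_pow, ← map_pow, ← map_mul, ← mul_inv_eq_one, ← map_inv,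
    ← map_mul] at e
  have h := (QuotientGroup.eq_one_iff _).mp e
  simpa [N', A, B, Subgroup.mem_subgroupOf] using h

theorem mem_join_of_commute {A B : Subgroup G} (hc : ∀ a ∈ A, ∀ b ∈ B, a * b = b * a) {y : G}
    (hy : y ∈ A ⊔ B) : ∃ a ∈ A, ∃ b ∈ B, y = a * b := by
  rw [← SetLike.mem_coe, Subgroup.coe_mul_of_left_le_normalizer_right _ _
    (fun a ha => Subgroup.mem_normalizer_iff.mpr fun b => by
      constructor
      · intro hb; rwa [hc a ha b hb, mul_inv_cancel_right]
      · intro hb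
        have h := hc a ha _ hb
        have : b = a * b * a⁻¹ := by
          calc b = a⁻¹ * (a * b * a⁻¹ * a) := by group
            _ = a⁻¹ * (a * (a * b * a⁻¹)) := by rw [← h]
            _ = a * b * a⁻¹ := by group
        rwa [this])] at hy
  obtain ⟨a, ha, b, hb, rfl⟩ := Set.mem_mul.mp hy
  exact ⟨a, ha, b, hb, rfl⟩

theorem br_pow_right {g h : G} (hc : h * br g h = br g h * h) :
    ∀ n : ℕ, br g (h ^ n) = br g h ^ n := by
  intro n
  induction n with
  | zero => rw [pow_zero, pow_zero, br_one_right]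
  | succ n ih =>
    have hn : h ^ n * br g h = br g h * h ^ n := ((show Commute h (br g h) from hc).pow_left n).eq
    rw [pow_succ, br_mul_right, ih, hn, mul_inv_cancel_right, ← pow_succ]

theorem br_pow_left {g h : G} (hc : g * br g h = br g h * g) :
    ∀ n : ℕ, br (g ^ n) h = br g h ^ n := by
  intro n
  induction n with
  | zero => rw [pow_zero, pow_zero, br_one_left]
  | succ n ih =>
    have hn : g ^ n * br g h = br g h * g ^ n := ((show Commute g (br g h) from hc).pow_left n).eq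
    rw [pow_succ, br_mul_left, ih, hn, mul_inv_cancel_right, ← pow_succ']

theorem card_join_le {A B : Subgroup G} [Finite A] [Finite B]
    (hc : ∀ a ∈ A, ∀ b ∈ B, a * b = b * a) : Nat.card ↥(A ⊔ B) ≤ Nat.card A * Nat.card B := by
  rw [← Nat.card_prod]
  refine Nat.card_le_card_of_surjective
    (fun z : A × B => (⟨(z.1 : G) * z.2,
      mul_mem (Subgroup.mem_sup_left z.1.2) (Subgroup.mem_sup_right z.2.2)⟩ : ↥(A ⊔ B))) ?_
  rintro ⟨y, hy⟩
  obtain ⟨a, ha, b, hb, rfl⟩ := mem_join_of_commute hc hy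
  exact ⟨⟨⟨a, ha⟩, ⟨b, hb⟩⟩, rfl⟩

end Group

variable {Ω : Type u} [Group Ω] {S : Subgroup Ω} {F : FusionSystem S} {p : ℕ}
  [Finite S] [Fact p.Prime]

/-- `S` centralises a normal section of order at most `p`. -/
theorem step_comm (hS : IsPGroup p S) {A B : Subgroup Ω} (hBS : B ≤ S) (hAB : A ≤ B)
    (hA : ∀ g ∈ S, ∀ a ∈ A, cj g a ∈ A) (hB : ∀ g ∈ S, ∀ b ∈ B, cj g b ∈ B)
    (hcard : Nat.card B ≤ p * Nat.card A) : ∀ g ∈ S, ∀ b ∈ B, br g b ∈ A := by
  let A' : Subgroup S := A.subgroupOf S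
  haveI : A'.Normal := ⟨fun a ha g => by
    have := hA (g : Ω) g.2 (a : Ω) ha
    simpa [A', Subgroup.mem_subgroupOf, cj_apply] using this⟩
  haveI : (B.subgroupOf S).Normal := ⟨fun a ha g => by
    have := hB (g : Ω) g.2 (a : Ω) ha
    simpa [Subgroup.mem_subgroupOf, cj_apply] using this⟩
  let D : Subgroup Ω :=
    ((Subgroup.center (S ⧸ A')).comap (QuotientGroup.mk' A') ⊓ B.subgroupOf S).map S.subtype
  have hmemD : ∀ b : S, b ∈ B.subgroupOf S →
      ((b : Ω) ∈ D ↔ QuotientGroup.mk' A' b ∈ Subgroup.center (S ⧸ A')) := by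
    intro b hb
    constructor
    · rintro ⟨c, ⟨hc, -⟩, e⟩
      rwa [Subtype.ext e.symm]
    · exact fun h => ⟨b, ⟨h, hb⟩, rfl⟩
  have hAD : A ≤ D := fun a ha => by
    refine (hmemD ⟨a, hBS (hAB ha)⟩ (hAB ha)).mpr ?_
    rw [QuotientGroup.mk'_apply, (QuotientGroup.eq_one_iff (N := A') _).mpr ha]
    exact one_mem _
  have hDB : D ≤ B := by
    rintro _ ⟨c, ⟨-, hc⟩, rfl⟩
    exact hc
  suffices hBD : B ≤ D by
    intro g hg b hb
    have h := (hmemD ⟨b, hBS hb⟩ hb).mp (hBD hb)
    have h2 := Subgroup.mem_center_iff.mp h (QuotientGroup.mk' A' ⟨g, hg⟩)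
    rw [← map_mul, ← map_mul, ← mul_inv_eq_one, ← map_inv, ← map_mul] at h2
    have h3 := (QuotientGroup.eq_one_iff _).mp h2
    simpa [A', Subgroup.mem_subgroupOf, br, mul_assoc] using h3
  rcases eq_or_ne A B with rfl | hne
  · exact hAD
  have hlt : A < D := by
    refine lt_of_le_not_ge hAD fun hge => hne ?_
    refine le_antisymm hAB fun b hb => ?_
    by_contra hbA
    have hne' : (B.subgroupOf S).map (QuotientGroup.mk' A') ≠ ⊥ := fun e => by
      have h : QuotientGroup.mk' A' ⟨b, hBS hb⟩ ∈ (B.subgroupOf S).map (QuotientGroup.mk' A') :=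
        ⟨_, hb, rfl⟩
      rw [e, Subgroup.mem_bot] at h
      exact hbA ((QuotientGroup.eq_one_iff (N := A') _).mp h)
    haveI : ((B.subgroupOf S).map (QuotientGroup.mk' A')).Normal :=
      Subgroup.Normal.map inferInstance _ (QuotientGroup.mk'_surjective A')
    obtain ⟨w, hw, hw1⟩ := (Subgroup.bot_or_exists_ne_one _).resolve_left
      (PGroupsBasic.inf_center_ne_bot (hS.to_quotient A') hne')
    obtain ⟨⟨c, hc, rfl⟩, hwc⟩ := hw
    refine hw1 ((QuotientGroup.eq_one_iff (N := A') c).mpr ?_)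
    exact hge ((hmemD c hc).mpr hwc)
  have h := eq_of_le_of_card_ge hBS hDB (hcard.trans (mul_card_le_of_lt hS (hDB.trans hBS) hlt))
  exact h.ge

theorem afun_pow {P : Subgroup Ω} (α : MulAut P) {x : Ω} (hx : x ∈ P) (n : ℕ) :
    afun α (x ^ n) = afun α x ^ n := by
  rw [← zpow_natCast, afun_zpow α hx, zpow_natCast]

theorem afun_br {P : Subgroup Ω} (α : MulAut P) {g x : Ω} (hg : g ∈ P) (hx : x ∈ P) :
    afun α (br g x) = br (afun α g) (afun α x) := by
  rw [afun_apply α hg, afun_apply α hx,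
    show br g x = ((⟨g, hg⟩ * ⟨x, hx⟩ * ⟨g, hg⟩⁻¹ * ⟨x, hx⟩⁻¹ : P) : Ω) from rfl, afun_coe]
  simp only [map_mul, map_inv]
  rfl

theorem afun_one_eq {P : Subgroup Ω} (α : MulAut P) : afun α (1 : Ω) = 1 := by
  rw [afun_apply α P.one_mem]
  exact congrArg Subtype.val (map_one α)

theorem afun_inv {P : Subgroup Ω} (α : MulAut P) {x : Ω} (hx : x ∈ P) :
    afun α x⁻¹ = (afun α x)⁻¹ := by
  rw [← zpow_neg_one, afun_zpow α hx, zpow_neg_one]

/-- A subgroup of `E` generated by an invariant set is invariant. -/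
theorem invBy_closure_set {E : Subgroup Ω} {A : Subgroup (MulAut E)} {T : Set Ω}
    (hT : T ⊆ E) (h : ∀ α ∈ A, ∀ x ∈ T, afun α x ∈ Subgroup.closure T) :
    InvBy A (Subgroup.closure T) := by
  intro α hα x hx
  have hle : Subgroup.closure T ≤ E := (Subgroup.closure_le _).mpr hT
  induction hx using Subgroup.closure_induction with
  | mem y hy => exact h α hα y hy
  | one => rw [afun_one_eq]; exact one_mem _
  | mul a b ha hb iha ihb =>
    rw [afun_map_mul α (hle ha) (hle hb)]
    exact mul_mem iha ihb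
  | inv a ha iha =>
    rw [afun_inv α (hle ha)]
    exact inv_mem iha

end Cfsg.Agent.Rank3.CaseB2
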