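import Mathlib
import Cfsg.Agent.Lib.Rank3CaseB34TwoTools

/-!
The weight computation for S5180: in a `p`-group with a Heisenberg-times-cyclic normal subgroup of
index `p` and a torus automorphism there is an elementary abelian subgroup of order `p ^ 4`.
-/

set_option autoImplicit false
set_option linter.unusedSectionVars false
set_option linter.style.haveILetI false

namespace Cfsg.Agent.NormalR3Weights

open Cfsg.Agent.Rank3.CaseB2

variable {Q : Type*} [Group Q] {p : ℕ} [Fact p.Prime]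

theorem pow_cast_eq {y : Q} (hy : y ^ p = 1) {i j : ℕ} (h : (i : ZMod p) = j) : y ^ i = y ^ j := by
  rw [pow_eq_pow_iff_modEq]
  exact ((ZMod.natCast_eq_natCast_iff _ _ _).1 h).of_dvd (orderOf_dvd_of_pow_eq_one hy)

theorem cast_eq_of_pow {y : Q} (hy : y ^ p = 1) (hy1 : y ≠ 1) {i j : ℕ} (h : y ^ i = y ^ j) :
    (i : ZMod p) = j := by
  rw [pow_eq_pow_iff_modEq, orderOf_eq_prime hy hy1] at h
  exact (ZMod.natCast_eq_natCast_iff _ _ _).2 h

theorem cast_zero_of_pow_mem {H : Subgroup Q} {y : Q} (hyp : y ^ p ∈ H) (hy : y ∉ H) {i : ℕ}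
    (h : y ^ i ∈ H) : (i : ZMod p) = 0 := by
  rw [CharP.cast_eq_zero_iff (ZMod p) p]
  by_contra hd
  have hc : Nat.Coprime i p := ((Fact.out : p.Prime).coprime_iff_not_dvd.2 hd).symm
  obtain ⟨r, s, hrs⟩ := Int.isCoprime_iff_gcd_eq_one.mpr
    (show Int.gcd (i : ℤ) (p : ℤ) = 1 by rw [Int.gcd_natCast_natCast]; exact hc)
  apply hy
  rw [← zpow_one y, ← hrs, zpow_add, mul_comm r, mul_comm s, zpow_mul, zpow_mul, zpow_natCast,
    zpow_natCast]
  exact H.mul_mem (H.zpow_mem h r) (H.zpow_mem hyp s)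

theorem conj_pow_iter {G y t : Q} (h : G * y * G⁻¹ = y * t) (ht : G * t * G⁻¹ = t) (n : ℕ) :
    G ^ n * y * (G ^ n)⁻¹ = y * t ^ n := by
  induction n with
  | zero => simp
  | succ n ih =>
    have h2 : G ^ (n + 1) * y * (G ^ (n + 1))⁻¹ = G * (G ^ n * y * (G ^ n)⁻¹) * G⁻¹ := by
      rw [pow_succ']; group
    have h3 : G * t ^ n * G⁻¹ = t ^ n := by rw [← conj_pow, ht]
    calc G ^ (n + 1) * y * (G ^ (n + 1))⁻¹ = (G * y * G⁻¹) * (G * t ^ n * G⁻¹) := by
          rw [h2, ih]; group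
      _ = y * t ^ (n + 1) := by rw [h, h3, mul_assoc, ← pow_succ']

theorem mul_card_le [Finite Q] (hQ : IsPGroup p Q) {A B : Subgroup Q} (h : A < B) :
    p * Nat.card A ≤ Nat.card B := by
  obtain ⟨a, ha⟩ := IsPGroup.iff_card.mp (hQ.to_subgroup A)
  obtain ⟨b, hb⟩ := IsPGroup.iff_card.mp (hQ.to_subgroup B)
  have hlt : Nat.card A < Nat.card B :=
    lt_of_le_of_ne (Subgroup.card_le_of_le h.le) fun e =>
      h.ne (Subgroup.eq_of_le_of_card_ge h.le e.ge)
  rw [ha, hb] at hlt ⊢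
  rw [← pow_succ']
  exact Nat.pow_le_pow_right (Fact.out : p.Prime).pos
    ((Nat.pow_lt_pow_iff_right (Fact.out : p.Prime).one_lt).mp hlt)

theorem commute_closure_set' {T : Set Q} {w : Q} (hw : ∀ t ∈ T, w * t = t * w) :
    ∀ t ∈ Subgroup.closure T, w * t = t * w := fun t ht => by
  have hle : Subgroup.closure T ≤ Subgroup.centralizer {w} :=
    (Subgroup.closure_le _).2 fun t ht => Subgroup.mem_centralizer_iff.2 fun g hg => by
      rw [Set.mem_singleton_iff.1 hg]; exact hw t ht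
  exact Subgroup.mem_centralizer_iff.1 (hle ht) w (Set.mem_singleton w)

theorem commute_closure_pair' {T : Set Q} (hT : ∀ s ∈ T, ∀ t ∈ T, s * t = t * s) :
    ∀ u ∈ Subgroup.closure T, ∀ v ∈ Subgroup.closure T, Commute u v := fun u hu v hv =>
  commute_closure_set' (fun t ht => (commute_closure_set' (hT t ht) u hu).symm) v hv

/-- The configuration in the quotient of `N_S(N)` by `Φ(E)`. -/
structure Cfg (p : ℕ) (τ : Q →* Q) (G X E Z C : Q) (a : ZMod p) : Prop where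
  hE : E ^ p = 1
  hZ : Z ^ p = 1
  hC : C ^ p = 1
  ZX : Commute Z X
  ZE : Commute Z E
  CX : Commute C X
  CE : Commute C E
  CZ : Commute C Z
  bxe : X * E * X⁻¹ * E⁻¹ = Z
  Z1 : Z ≠ 1
  C1 : C ∉ Subgroup.zpowers Z
  X1 : X ∉ Subgroup.closure {E, Z, C}
  E1 : E ∉ Subgroup.closure {X, Z, C}
  Xp : X ^ p ∈ Subgroup.closure {Z, C}
  Gn : G ∉ Subgroup.closure {X, E, Z, C}
  Gp : G ^ p ∈ Subgroup.closure {X, E, Z, C}
  GC : ∃ i : ℕ, G * C * G⁻¹ = C * Z ^ i
  GX : ∃ i d : ℕ, G * X * G⁻¹ = X * (Z ^ i * C ^ d)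
  GE : ∃ k i d : ℕ, (k : ZMod p) ≠ 0 ∧ G * E * G⁻¹ = E * (X ^ k * (Z ^ i * C ^ d))
  τE : τ E = E ^ (a⁻¹).val
  τZ : τ Z = Z ^ a.val
  τC : τ C = C
  τX : ∃ q i d : ℕ, τ X = X ^ (a ^ 2).val * (E ^ q * (Z ^ i * C ^ d))
  τG : ∃ ν : ℕ, ∃ n ∈ Subgroup.closure {X, E, Z, C}, τ G = G ^ ν * n
  a0 : a ≠ 0
  a2 : a ^ 2 ≠ 1
  a3 : a ^ 3 ≠ 1
  a5 : a ^ 5 ≠ 1

namespace Cfg

variable {τ : Q →* Q} {G X E Z C : Q} {a : ZMod p} (h : Cfg p τ G X E Z C a)
include h

theorem mem_D {y : Q} (hy : y ∈ Subgroup.closure {Z, C}) : ∃ i d : ℕ, y = Z ^ i * C ^ d := by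
  have hcomm : ∀ u ∈ Subgroup.zpowers Z, ∀ v ∈ Subgroup.zpowers C, u * v = v * u := by
    rintro _ ⟨i, rfl⟩ _ ⟨j, rfl⟩
    exact (h.CZ.symm.zpow_zpow i j).eq
  have hle : Subgroup.closure {Z, C} ≤ Subgroup.zpowers Z ⊔ Subgroup.zpowers C :=
    (Subgroup.closure_le _).2 (by
      rintro t (rfl | rfl)
      · exact Subgroup.mem_sup_left (Subgroup.mem_zpowers _)
      · exact Subgroup.mem_sup_right (Subgroup.mem_zpowers _))
  obtain ⟨u, ⟨i, rfl⟩, v, ⟨j, rfl⟩, rfl⟩ := mem_join_of_commute hcomm (hle hy)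
  obtain ⟨i', hi'⟩ := exists_nat_pow_eq (p := p) (Fact.out : p.Prime).pos h.hZ
    (w := Z ^ i) (Subgroup.mem_zpowers_iff.2 ⟨i, rfl⟩)
  obtain ⟨j', hj'⟩ := exists_nat_pow_eq (p := p) (Fact.out : p.Prime).pos h.hC
    (w := C ^ j) (Subgroup.mem_zpowers_iff.2 ⟨j, rfl⟩)
  exact ⟨i', j', show Z ^ i * C ^ j = _ by rw [hi', hj']⟩

theorem ZC_indep {i d i' d' : ℕ} (e : Z ^ i * C ^ d = Z ^ i' * C ^ d') :
    (i : ZMod p) = i' ∧ (d : ZMod p) = d' := by
  have hd : (d : ZMod p) = d' := by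
    set m := ((d : ZMod p) - d').val
    have h1 : C ^ m * C ^ d' = C ^ d := by
      rw [← pow_add]; exact pow_cast_eq h.hC (by simp [m])
    have h2 : C ^ m = (Z ^ i)⁻¹ * Z ^ i' := by
      have e2 : C ^ d * (C ^ d')⁻¹ = (Z ^ i)⁻¹ * Z ^ i' := by
        rw [mul_inv_eq_iff_eq_mul, mul_assoc, ← e, inv_mul_cancel_left]
      rw [← e2, ← h1, mul_inv_cancel_right]
    have h4 : C ^ m ∈ Subgroup.zpowers Z := by
      rw [h2]
      exact mul_mem (inv_mem (pow_mem (Subgroup.mem_zpowers Z) i))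
        (pow_mem (Subgroup.mem_zpowers Z) i')
    have hCp : C ^ p ∈ Subgroup.zpowers Z := by rw [h.hC]; exact one_mem _
    have h3 : (m : ZMod p) = 0 := cast_zero_of_pow_mem hCp h.C1 h4
    rwa [ZMod.natCast_zmod_val, sub_eq_zero] at h3
  refine ⟨?_, hd⟩
  rw [pow_cast_eq h.hC hd] at e
  exact cast_eq_of_pow h.hZ h.Z1 (mul_right_cancel e)

theorem exists_elem [Finite Q] (hQ : IsPGroup p Q) (hp5 : 5 ≤ p) :
    ∃ A : Subgroup Q, (∀ u ∈ A, ∀ v ∈ A, u * v = v * u) ∧ (∀ u ∈ A, u ^ p = 1) ∧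
      p ^ 4 ≤ Nat.card A := by
  have hp := (Fact.out : p.Prime)
  set D := Subgroup.closure {Z, C} with hDdef
  have hZD : Z ∈ D := Subgroup.subset_closure (Or.inl rfl)
  have hCD : C ∈ D := Subgroup.subset_closure (Or.inr rfl)
  set Nb := Subgroup.closure {X, E, Z, C} with hNdef
  have hXN : X ∈ Nb := Subgroup.subset_closure (by simp)
  have hEN : E ∈ Nb := Subgroup.subset_closure (by simp)
  have hZN : Z ∈ Nb := Subgroup.subset_closure (by simp)
  have hCN : C ∈ Nb := Subgroup.subset_closure (by simp)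
  have hZc : ∀ y ∈ Nb, Z * y = y * Z :=
    commute_closure_set' (by
      rintro t (rfl | rfl | rfl | rfl)
      exacts [h.ZX.eq, h.ZE.eq, rfl, h.CZ.symm.eq])
  have hCc : ∀ y ∈ Nb, C * y = y * C :=
    commute_closure_set' (by
      rintro t (rfl | rfl | rfl | rfl)
      exacts [h.CX.eq, h.CE.eq, h.CZ.eq, rfl])
  have hDN : ∀ i d : ℕ, Z ^ i * C ^ d ∈ D := fun i d => mul_mem (pow_mem hZD i) (pow_mem hCD d)
  have hDc : ∀ w ∈ D, ∀ y ∈ Nb, Commute w y := by
    intro w hw y hy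
    obtain ⟨i, d, rfl⟩ := h.mem_D hw
    exact Commute.mul_left (Commute.pow_left (hZc y hy) i) (Commute.pow_left (hCc y hy) d)
  have hX1 : X ∉ D := fun e => h.X1 (Subgroup.closure_mono (by
    rintro t (rfl | rfl) <;> simp) e)
  have hD_le : D ≤ Nb := (Subgroup.closure_le _).2 (by rintro t (rfl | rfl) <;> assumption)
  have hEp_ne : ∀ {i : ℕ}, E ^ i ∈ Subgroup.closure {X, Z, C} → (i : ZMod p) = 0 := fun {i} hi =>
    cast_zero_of_pow_mem (by rw [h.hE]; exact one_mem _) h.E1 hi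
  -- coordinates
  have hindep : ∀ {A B : ℕ} {w : Q}, w ∈ D → E ^ A * X ^ B = w →
      (A : ZMod p) = 0 ∧ (B : ZMod p) = 0 := by
    intro A B w hw e
    have hle : D ≤ Subgroup.closure {X, Z, C} := Subgroup.closure_mono (by
      rintro t (rfl | rfl) <;> simp)
    have hA : (A : ZMod p) = 0 := hEp_ne (by
      rw [show E ^ A = w * (X ^ B)⁻¹ by rw [← e, mul_inv_cancel_right]]
      exact mul_mem (hle hw) (inv_mem (pow_mem (Subgroup.subset_closure (by simp)) B)))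
    refine ⟨hA, cast_zero_of_pow_mem (H := D) h.Xp hX1 ?_⟩
    rw [pow_cast_eq h.hE (hA.trans Nat.cast_zero.symm), pow_zero, one_mul] at e
    rwa [e]
  -- `G` on `Z`, `C`
  obtain ⟨iC, hiC⟩ := h.GC
  obtain ⟨iX, dX, hGX⟩ := h.GX
  obtain ⟨k, iE, dE, hk, hGE⟩ := h.GE
  have hwX := hDN iX dX
  have hwE := hDN iE dE
  have hbr : X * E = Z * (E * X) := by
    rw [← h.bxe]; group
  have hGZ : G * Z * G⁻¹ = Z := by
    have e1 : G * Z * G⁻¹ = (G * X * G⁻¹) * (G * E * G⁻¹) * (G * X * G⁻¹)⁻¹ * (G * E * G⁻¹)⁻¹ := by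
      conv_lhs => rw [← h.bxe]
      group
    have hwXN := hD_le hwX
    rw [e1, hGX, hGE]
    have hEX : E * (X ^ k * (Z ^ iE * C ^ dE)) ∈ Nb :=
      mul_mem hEN (mul_mem (pow_mem hXN k) (hD_le hwE))
    have c1 : Commute (Z ^ iX * C ^ dX) (E * (X ^ k * (Z ^ iE * C ^ dE))) := hDc _ hwX _ hEX
    have c2 : Commute (Z ^ iE * C ^ dE) X := hDc _ hwE _ hXN
    have c3 : Commute X (X ^ k * (Z ^ iE * C ^ dE)) :=
      Commute.mul_right (Commute.self_pow X k) c2.symm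
    generalize Z ^ iX * C ^ dX = w at c1
    generalize X ^ k * (Z ^ iE * C ^ dE) = v at c1 c3
    calc X * w * (E * v) * (X * w)⁻¹ * (E * v)⁻¹
        = X * (w * (E * v)) * w⁻¹ * X⁻¹ * (E * v)⁻¹ := by group
      _ = X * E * (v * X⁻¹) * v⁻¹ * E⁻¹ := by rw [c1.eq]; group
      _ = X * E * X⁻¹ * E⁻¹ := by rw [(c3.inv_left).eq.symm]; group
      _ = Z := h.bxe
  obtain ⟨ν, n, hn, hτG⟩ := h.τG
  obtain ⟨qX, iτ, dτ, hτX⟩ := h.τX
  set m := (a ^ 2).val
  have hτconj : ∀ y : Q, τ (G * y * G⁻¹) = G ^ ν * (n * τ y * n⁻¹) * (G ^ ν)⁻¹ := fun y => by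
    rw [map_mul, map_mul, map_inv, hτG]; group
  -- on `E`: `q = 0` and `ν a' = m`
  have hGD : ∀ w ∈ D, G * w * G⁻¹ ∈ D := fun w hw => by
    obtain ⟨i, d, rfl⟩ := h.mem_D hw
    rw [show G * (Z ^ i * C ^ d) * G⁻¹ = (G * Z * G⁻¹) ^ i * (G * C * G⁻¹) ^ d by
      rw [conj_pow, conj_pow]; group, hGZ, hiC]
    exact mul_mem (pow_mem hZD i) (pow_mem (mul_mem hCD (pow_mem hZD iC)) d)
  have hDnorm : ∀ r : ℕ, ∀ w ∈ D, G ^ r * w * (G ^ r)⁻¹ ∈ D := by
    intro r
    induction r with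
    | zero => intro w hw; simpa using hw
    | succ r ih =>
      intro w hw
      rw [show G ^ (r + 1) * w * (G ^ (r + 1))⁻¹ = G * (G ^ r * w * (G ^ r)⁻¹) * G⁻¹ by
        rw [pow_succ']; group]
      exact hGD _ (ih w hw)
  -- conjugation by `G ^ r` modulo `D`
  have hGEr : ∀ r : ℕ, ∃ w ∈ D, G ^ r * E * (G ^ r)⁻¹ = E * X ^ (k * r) * w ∧
      ∃ w' ∈ D, G ^ r * X * (G ^ r)⁻¹ = X * w' := by
    intro r
    induction r with
    | zero => exact ⟨1, one_mem _, by simp, 1, one_mem _, by simp⟩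
    | succ r ih =>
      obtain ⟨w, hw, hwe, w', hw', hwx⟩ := ih
      have e0 : ∀ y : Q, G ^ (r + 1) * y * (G ^ (r + 1))⁻¹ = G * (G ^ r * y * (G ^ r)⁻¹) * G⁻¹ :=
        fun y => by rw [pow_succ']; group
      refine ⟨(Z ^ iE * C ^ dE) * (Z ^ iX * C ^ dX) ^ (k * r) * (G * w * G⁻¹),
        mul_mem (mul_mem hwE (pow_mem hwX _)) (hGD w hw), ?_,
        (Z ^ iX * C ^ dX) * (G * w' * G⁻¹), mul_mem hwX (hGD w' hw'), ?_⟩
      · rw [e0, hwe, show G * (E * X ^ (k * r) * w) * G⁻¹ =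
          (G * E * G⁻¹) * (G * X * G⁻¹) ^ (k * r) * (G * w * G⁻¹) by rw [conj_pow]; group,
          hGE, hGX, (hDc _ hwX X hXN).symm.mul_pow]
        have c1 : Commute (Z ^ iE * C ^ dE) (X ^ (k * r)) := hDc _ hwE _ (pow_mem hXN _)
        rw [show k * (r + 1) = k + k * r by ring, pow_add]
        simp only [mul_assoc]
        rw [← mul_assoc (Z ^ iE) (C ^ dE), ← mul_assoc (Z ^ iE * C ^ dE) (X ^ (k * r)), c1.eq]
        simp only [mul_assoc]
      · rw [e0, hwx, show G * (X * w') * G⁻¹ = (G * X * G⁻¹) * (G * w' * G⁻¹) by group, hGX,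
          mul_assoc]
  obtain ⟨hq0, hνa⟩ : (qX : ZMod p) = 0 ∧ (ν : ZMod p) * a⁻¹ = a ^ 2 := by
    have e := hτconj E
    have hτw : τ (Z ^ iE * C ^ dE) ∈ D := by
      rw [map_mul, map_pow, map_pow, h.τZ, h.τC]
      exact mul_mem (pow_mem (pow_mem hZD _) _) (pow_mem hCD _)
    rw [hGE, map_mul, map_mul, map_pow, h.τE, hτX] at e
    -- the right hand side modulo `D`
    set a' := (a⁻¹).val
    obtain ⟨w1, hw1, hcn⟩ : ∃ w ∈ D, n * E ^ a' * n⁻¹ = E ^ a' * w := by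
      have hle : ∀ y ∈ Nb, ∃ w ∈ D, y * E ^ a' * y⁻¹ = E ^ a' * w := by
        intro y hy
        induction hy using Subgroup.closure_induction with
        | mem t ht =>
          rcases ht with rfl | rfl | rfl | rfl
          · refine ⟨Z ^ a', pow_mem hZD _, ?_⟩
            rw [← conj_pow, show t * E * t⁻¹ = E * Z by
              rw [mul_inv_eq_iff_eq_mul, hbr, ← mul_assoc, h.ZE.eq], h.ZE.symm.mul_pow]
          · exact ⟨1, one_mem _, by rw [(Commute.self_pow t a').eq]; group⟩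
          · exact ⟨1, one_mem _, by rw [(h.ZE.pow_right a').eq]; group⟩
          · exact ⟨1, one_mem _, by rw [(h.CE.pow_right a').eq]; group⟩
        | one => exact ⟨1, one_mem _, by group⟩
        | mul u v hu hv ihu ihv =>
          obtain ⟨wu, hwu, eu⟩ := ihu
          obtain ⟨wv, hwv, ev⟩ := ihv
          refine ⟨wu * wv, mul_mem hwu hwv, ?_⟩
          rw [show u * v * E ^ a' * (u * v)⁻¹ = u * (v * E ^ a' * v⁻¹) * u⁻¹ by group, ev,
            show u * (E ^ a' * wv) * u⁻¹ = (u * E ^ a' * u⁻¹) * (u * wv * u⁻¹) by group, eu,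
            ← (hDc wv hwv u hu).eq, mul_inv_cancel_right, mul_assoc]
        | inv u hu ihu =>
          obtain ⟨wu, hwu, eu⟩ := ihu
          refine ⟨wu⁻¹, inv_mem hwu, ?_⟩
          have c : Commute wu⁻¹ u⁻¹ := hDc _ (inv_mem hwu) _ (inv_mem hu)
          calc u⁻¹ * E ^ a' * u⁻¹⁻¹ = u⁻¹ * (u * E ^ a' * u⁻¹ * wu⁻¹) * u := by
                rw [eu, mul_inv_cancel_right, inv_inv]
            _ = E ^ a' * (u⁻¹ * wu⁻¹ * u) := by group
            _ = E ^ a' * wu⁻¹ := by rw [← c.eq, inv_mul_cancel_right]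
      exact hle n hn
    obtain ⟨w2, hw2, he2, -⟩ := hGEr ν
    have hrhs : G ^ ν * (n * E ^ a' * n⁻¹) * (G ^ ν)⁻¹ =
        (E * X ^ (k * ν) * w2) ^ a' * (G ^ ν * w1 * (G ^ ν)⁻¹) := by
      rw [hcn, ← he2, conj_pow]; group
    rw [hrhs] at e
    set W := G ^ ν * w1 * (G ^ ν)⁻¹
    have hW : W ∈ D := hDnorm ν w1 hw1
    -- compare in `Nb ⧸ D`, read off with the normal form
    have hpow : ∀ (i j r : ℕ), ∃ w ∈ D, (E ^ i * X ^ j) ^ r = E ^ (i * r) * X ^ (j * r) * w := by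
      have hmove : ∀ i j : ℕ, ∃ w ∈ D, X ^ j * E ^ i = E ^ i * X ^ j * w := by
        intro i j
        refine ⟨Z ^ (i * j), pow_mem hZD _, ?_⟩
        have e1 : X * E ^ i * X⁻¹ = E ^ i * Z ^ i := by
          rw [← conj_pow, show X * E * X⁻¹ = E * Z by
            rw [mul_inv_eq_iff_eq_mul, hbr, ← mul_assoc, h.ZE.eq], h.ZE.symm.mul_pow]
        have e2 := conj_pow_iter (G := X) (y := E ^ i) (t := Z ^ i) e1
          (by rw [← (h.ZX.pow_left i).eq, mul_inv_cancel_right]) j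
        rw [mul_inv_eq_iff_eq_mul] at e2
        rw [e2, ← pow_mul, mul_assoc, ((h.ZX.pow_left (i * j)).pow_right j).eq, ← mul_assoc]
      intro i j r
      induction r with
      | zero => exact ⟨1, one_mem _, by simp⟩
      | succ r ih =>
        obtain ⟨w, hw, e1⟩ := ih
        obtain ⟨w', hw', e2⟩ := hmove i (j * r)
        refine ⟨w' * w, mul_mem hw' hw, ?_⟩
        rw [pow_succ, e1]
        have cw : Commute w (E ^ i * X ^ j) := hDc w hw _ (mul_mem (pow_mem hEN i) (pow_mem hXN j))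
        have cw' : Commute w' (X ^ j) := hDc w' hw' _ (pow_mem hXN j)
        calc E ^ (i * r) * X ^ (j * r) * w * (E ^ i * X ^ j)
            = E ^ (i * r) * (X ^ (j * r) * E ^ i) * X ^ j * w := by rw [mul_assoc _ w, cw.eq]; group
          _ = E ^ (i * r) * (E ^ i * X ^ (j * r) * (w' * X ^ j)) * w := by rw [e2]; group
          _ = E ^ (i * (r + 1)) * X ^ (j * (r + 1)) * (w' * w) := by
              rw [cw'.eq, mul_add, mul_add, mul_one, mul_one, pow_add, pow_add]; group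
    have hnf : ∀ (i j : ℕ) {w : Q}, w ∈ D → ∀ r, ∃ w' ∈ D,
        (E ^ i * X ^ j * w) ^ r = E ^ (i * r) * X ^ (j * r) * w' := fun i j w hw r => by
      obtain ⟨w', hw', e1⟩ := hpow i j r
      refine ⟨w' * w ^ r, mul_mem hw' (pow_mem hw r), ?_⟩
      rw [(hDc w hw _ (mul_mem (pow_mem hEN i) (pow_mem hXN j))).symm.mul_pow, e1, mul_assoc]
    obtain ⟨w3, hw3, e3⟩ := hnf 1 (k * ν) hw2 a'
    rw [pow_one] at e3
    -- left hand side
    have hwτ := hDN iτ dτ
    have e4 : X ^ m * (E ^ qX * (Z ^ iτ * C ^ dτ)) =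
        E ^ qX * X ^ m * (Z ^ (qX * m) * (Z ^ iτ * C ^ dτ)) := by
      have e1 : X * E ^ qX * X⁻¹ = E ^ qX * Z ^ qX := by
        rw [← conj_pow, show X * E * X⁻¹ = E * Z by
          rw [mul_inv_eq_iff_eq_mul, hbr, ← mul_assoc, h.ZE.eq], h.ZE.symm.mul_pow]
      have e2 := conj_pow_iter (G := X) (y := E ^ qX) (t := Z ^ qX) e1
        (by rw [← (h.ZX.pow_left qX).eq, mul_inv_cancel_right]) m
      rw [mul_inv_eq_iff_eq_mul, ← pow_mul] at e2
      rw [← mul_assoc, e2, mul_assoc (E ^ qX), ((h.ZX.pow_left (qX * m)).pow_right m).eq]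
      group
    obtain ⟨w4, hw4, e5⟩ := hnf qX m (mul_mem (pow_mem hZD (qX * m)) hwτ) k
    rw [e4, e5, e3, one_mul] at e
    have hmul : E ^ a' * (E ^ (qX * k) * X ^ (m * k) * w4) =
        E ^ (a' + qX * k) * X ^ (m * k) * w4 := by
      rw [pow_add]; group
    have e6 : E ^ (a' + qX * k) * X ^ (m * k) * (w4 * τ (Z ^ iE * C ^ dE)) =
        E ^ a' * X ^ (k * ν * a') * (w3 * W) := by
      rw [← mul_assoc _ w4, ← hmul, ← mul_assoc _ w3, ← e]; simp only [mul_assoc]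
    -- remove `E ^ a'`
    have e7 : E ^ (qX * k) * X ^ (m * k) * (w4 * τ (Z ^ iE * C ^ dE)) =
        X ^ (k * ν * a') * (w3 * W) := by
      have := e6
      rw [pow_add, mul_assoc (E ^ a'), mul_assoc (E ^ a'), mul_assoc (E ^ a')] at this
      rw [mul_assoc]
      exact mul_left_cancel (by simpa only [mul_assoc] using this)
    set mm := (((m * k : ℕ) : ZMod p) - ((k * ν * a' : ℕ) : ZMod p)).val
    set r' := k * ν * a'
    have hXpc : ∀ i j : ℕ, (i : ZMod p) = j → ∃ w ∈ D, X ^ i = X ^ j * w := by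
      intro i j hij
      have key : ∀ i : ℕ, ∃ w ∈ D, X ^ i = X ^ (i % p) * w := fun i =>
        ⟨(X ^ p) ^ (i / p), pow_mem h.Xp _, by rw [← pow_mul, ← pow_add, Nat.mod_add_div]⟩
      obtain ⟨u, hu, eu⟩ := key i
      obtain ⟨v, hv, ev⟩ := key j
      have hmod : i % p = j % p := (ZMod.natCast_eq_natCast_iff' _ _ _).1 hij
      exact ⟨v⁻¹ * u, mul_mem (inv_mem hv) hu, by rw [eu, ev, hmod]; group⟩
    obtain ⟨w5, hw5, e8⟩ := hXpc (m * k) (mm + r') (by simp [mm, r'])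
    rw [e8, pow_add] at e7
    set u := w4 * τ (Z ^ iE * C ^ dE)
    have hu : u ∈ D := mul_mem hw4 hτw
    have c5 : Commute (w5 * u) (X ^ r') := hDc _ (mul_mem hw5 hu) _ (pow_mem hXN _)
    have c6 : Commute (w3 * W) (X ^ r') := hDc _ (mul_mem hw3 hW) _ (pow_mem hXN _)
    have e9 : E ^ (qX * k) * X ^ mm * (w5 * u) * X ^ r' = w3 * W * X ^ r' := by
      rw [c6.eq, ← e7]
      simp only [mul_assoc]
      rw [← mul_assoc w5 u (X ^ r'), c5.eq]
    have e10 := mul_right_cancel e9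
    obtain ⟨hA, hB⟩ := hindep (mul_mem (mul_mem hw3 hW) (inv_mem (mul_mem hw5 hu)))
      (eq_mul_inv_iff_mul_eq.2 e10)
    rw [Nat.cast_mul, mul_eq_zero] at hA
    refine ⟨hA.resolve_right hk, ?_⟩
    rw [ZMod.natCast_zmod_val, sub_eq_zero] at hB
    simp only [r', m, a', Nat.cast_mul, ZMod.natCast_zmod_val] at hB
    have : ((ν : ZMod p) * a⁻¹) * k = a ^ 2 * k := by rw [hB]; ring
    exact mul_right_cancel₀ hk this
  have hν : (ν : ZMod p) = a ^ 3 := by
    have := congrArg (· * a) hνa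
    simp only [mul_assoc, inv_mul_cancel₀ h.a0, mul_one] at this
    rw [this]; ring
  have hτX' : τ X = X ^ m * (Z ^ iτ * C ^ dτ) := by
    rw [hτX, pow_cast_eq h.hE (hq0.trans Nat.cast_zero.symm), pow_zero, one_mul]
  have hwτ := hDN iτ dτ
  have cXτ : Commute (X ^ m) (Z ^ iτ * C ^ dτ) := (hDc _ hwτ _ (pow_mem hXN m)).symm
  have hDp : ∀ w ∈ D, w ^ p = 1 := fun w hw => by
    obtain ⟨i, d, rfl⟩ := h.mem_D hw
    rw [(h.CZ.symm.pow_pow i d).mul_pow, ← pow_mul, ← pow_mul, mul_comm i, mul_comm d, pow_mul,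
      pow_mul, h.hZ, h.hC, one_pow, one_pow, one_mul]
  have ha1 : a ≠ 1 := fun e => h.a2 (by rw [e, one_pow])
  -- `X ^ p = 1`
  have hXp : X ^ p = 1 := by
    obtain ⟨γ, δ, hXpe⟩ := h.mem_D h.Xp
    have e1 := congrArg τ hXpe
    rw [map_pow, hτX', cXτ.mul_pow, hDp _ hwτ, mul_one, ← pow_mul, mul_comm, pow_mul, hXpe,
      map_mul, map_pow, map_pow, h.τZ, h.τC, (h.CZ.symm.pow_pow γ δ).mul_pow, ← pow_mul, ← pow_mul,
      ← pow_mul] at e1
    obtain ⟨e2, e3⟩ := h.ZC_indep e1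
    simp only [m, Nat.cast_mul, ZMod.natCast_zmod_val] at e2 e3
    have hδ : (δ : ZMod p) = 0 := by
      by_contra h0
      exact h.a2 (mul_left_cancel₀ h0 (by rw [e3, mul_one]))
    have hγ : (γ : ZMod p) = 0 := by
      by_contra h0
      refine ha1 (mul_left_cancel₀ h.a0 (mul_left_cancel₀ h0 ?_))
      linear_combination e2
    rw [hXpe, pow_cast_eq h.hZ (hγ.trans Nat.cast_zero.symm),
      pow_cast_eq h.hC (hδ.trans Nat.cast_zero.symm), pow_zero, pow_zero, one_mul]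
  -- `G` centralises `C`
  have hGC : G * C * G⁻¹ = C := by
    have hGZi : G * Z ^ iC * G⁻¹ = Z ^ iC := by rw [← conj_pow, hGZ]
    have e1 := hτconj C
    rw [hiC, map_mul, map_pow, h.τC, h.τZ, show n * C * n⁻¹ = C by
      rw [← hCc n hn, mul_inv_cancel_right], conj_pow_iter hiC hGZi ν,
      mul_right_inj, ← pow_mul, ← pow_mul] at e1
    have e2 := cast_eq_of_pow h.hZ h.Z1 e1
    simp only [Nat.cast_mul, ZMod.natCast_zmod_val, hν] at e2
    have hi : (iC : ZMod p) = 0 := by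
      by_contra h0
      refine h.a2 ?_
      have e3 : a = a ^ 3 := mul_right_cancel₀ h0 (by linear_combination e2)
      apply mul_left_cancel₀ h.a0
      linear_combination -e3
    rw [hiC, pow_cast_eq h.hZ (hi.trans Nat.cast_zero.symm), pow_zero, mul_one]
  have hGDfix : ∀ w ∈ D, G * w * G⁻¹ = w := fun w hw => by
    obtain ⟨i, d, rfl⟩ := h.mem_D hw
    rw [show G * (Z ^ i * C ^ d) * G⁻¹ = (G * Z * G⁻¹) ^ i * (G * C * G⁻¹) ^ d by
      rw [conj_pow, conj_pow]; group, hGZ, hGC]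
  -- the `C`-part of `[G, X]` vanishes
  have hd0 : (dX : ZMod p) = 0 := by
    have e1 := hτconj X
    rw [hGX, map_mul, hτX', map_mul, map_pow, map_pow, h.τZ, h.τC] at e1
    obtain ⟨s, hs⟩ : ∃ s : ℕ, n * (X ^ m * (Z ^ iτ * C ^ dτ)) * n⁻¹ =
        X ^ m * (Z ^ iτ * C ^ dτ) * Z ^ s := by
      have hle : ∀ y ∈ Nb, ∃ s : ℕ, y * X * y⁻¹ = X * Z ^ s := by
        intro y hy
        induction hy using Subgroup.closure_induction with
        | mem t ht =>
          rcases ht with rfl | rfl | rfl | rfl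
          · exact ⟨0, by group⟩
          · refine ⟨(-1 : ZMod p).val, ?_⟩
            have hz1 : Z ^ ((-1 : ZMod p)).val = Z⁻¹ := eq_inv_of_mul_eq_one_left (by
              rw [← pow_succ, ← pow_zero Z]; exact pow_cast_eq h.hZ (by simp))
            rw [hz1, mul_inv_eq_iff_eq_mul, mul_assoc X, (h.ZE.inv_left).eq,
              ← mul_assoc X, hbr, ← mul_assoc, h.ZE.eq, mul_assoc t Z X, h.ZX.eq, ← mul_assoc,
              mul_inv_cancel_right]
          · exact ⟨0, by rw [h.ZX.eq]; group⟩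
          · exact ⟨0, by rw [h.CX.eq]; group⟩
        | one => exact ⟨0, by group⟩
        | mul u v hu hv ihu ihv =>
          obtain ⟨su, eu⟩ := ihu
          obtain ⟨sv, ev⟩ := ihv
          refine ⟨su + sv, ?_⟩
          rw [show u * v * X * (u * v)⁻¹ = u * (v * X * v⁻¹) * u⁻¹ by group, ev,
            show u * (X * Z ^ sv) * u⁻¹ = (u * X * u⁻¹) * (u * Z ^ sv * u⁻¹) by group, eu,
            ← (hDc _ (pow_mem hZD sv) u hu).eq, mul_inv_cancel_right, pow_add, mul_assoc]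
        | inv u hu ihu =>
          obtain ⟨su, eu⟩ := ihu
          refine ⟨(-(su : ZMod p)).val, ?_⟩
          have hz1 : Z ^ ((-(su : ZMod p))).val = (Z ^ su)⁻¹ := eq_inv_of_mul_eq_one_left (by
            rw [← pow_add, ← pow_zero Z]; exact pow_cast_eq h.hZ (by simp))
          rw [hz1]
          have c : Commute (Z ^ su)⁻¹ u⁻¹ := hDc _ (inv_mem (pow_mem hZD su)) _ (inv_mem hu)
          calc u⁻¹ * X * u⁻¹⁻¹ = u⁻¹ * (u * X * u⁻¹ * (Z ^ su)⁻¹) * u := by
                rw [eu, mul_inv_cancel_right, inv_inv]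
            _ = X * (u⁻¹ * (Z ^ su)⁻¹ * u) := by group
            _ = X * (Z ^ su)⁻¹ := by rw [← c.eq, inv_mul_cancel_right]
      obtain ⟨s, hs⟩ := hle n hn
      refine ⟨s * m, ?_⟩
      rw [show n * (X ^ m * (Z ^ iτ * C ^ dτ)) * n⁻¹ =
          (n * X * n⁻¹) ^ m * (n * (Z ^ iτ * C ^ dτ) * n⁻¹) by rw [conj_pow]; group, hs,
        ← (hDc _ hwτ n hn).eq, mul_inv_cancel_right, (h.ZX.symm.pow_right s).mul_pow, ← pow_mul,
        mul_assoc, ((hDc _ (pow_mem hZD (s * m)) _ (hD_le hwτ))).eq, ← mul_assoc]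
    rw [hs] at e1
    have hGfix_r : ∀ w ∈ D, ∀ r : ℕ, G ^ r * w * (G ^ r)⁻¹ = w := fun w hw r => by
      simpa using conj_pow_iter (t := (1 : Q)) (by rw [hGDfix w hw, mul_one]) (by group) r
    rw [show G ^ ν * (X ^ m * (Z ^ iτ * C ^ dτ) * Z ^ s) * (G ^ ν)⁻¹ =
        (G ^ ν * X * (G ^ ν)⁻¹) ^ m * (G ^ ν * (Z ^ iτ * C ^ dτ * Z ^ s) * (G ^ ν)⁻¹) by
      rw [conj_pow]; group, hGfix_r _ (mul_mem hwτ (pow_mem hZD s)) ν,
      conj_pow_iter hGX (hGDfix _ hwX) ν,
      (hDc _ (pow_mem hwX ν) X hXN).symm.mul_pow] at e1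
    have hcz : ∀ i d : ℕ, Commute (Z ^ i) (C ^ d) := fun i d => h.CZ.symm.pow_pow i d
    replace e1 : Z ^ iτ * C ^ dτ * ((Z ^ a.val) ^ iX * C ^ dX) =
        ((Z ^ iX * C ^ dX) ^ ν) ^ m * (Z ^ iτ * C ^ dτ * Z ^ s) :=
      mul_left_cancel (a := X ^ m) (by simpa only [mul_assoc] using e1)
    rw [← pow_mul, ← pow_mul, (hcz iX dX).mul_pow, ← pow_mul, ← pow_mul] at e1
    have el : Z ^ iτ * C ^ dτ * (Z ^ (a.val * iX) * C ^ dX) =
        Z ^ (iτ + a.val * iX) * C ^ (dτ + dX) := by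
      rw [pow_add, pow_add, mul_assoc, ← mul_assoc (C ^ dτ), ← (hcz _ _).eq]; simp only [mul_assoc]
    have er : Z ^ (iX * (ν * m)) * C ^ (dX * (ν * m)) * (Z ^ iτ * C ^ dτ * Z ^ s) =
        Z ^ (iX * (ν * m) + (iτ + s)) * C ^ (dX * (ν * m) + dτ) := by
      rw [mul_assoc (Z ^ iτ), ← (hcz s dτ).eq, ← mul_assoc (Z ^ iτ), ← pow_add,
        mul_assoc (Z ^ (iX * (ν * m))), ← mul_assoc (C ^ (dX * (ν * m))), ← (hcz _ _).eq,
        mul_assoc, ← pow_add, ← mul_assoc, ← pow_add]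
    rw [el, er] at e1
    obtain ⟨-, e2⟩ := h.ZC_indep e1
    simp only [m, Nat.cast_mul, Nat.cast_add, ZMod.natCast_zmod_val, hν] at e2
    by_contra h0
    refine h.a5 (mul_left_cancel₀ h0 ?_)
    linear_combination -e2
  -- adjust `G`
  set G' := G * E ^ iX
  have hEZ : ∀ w ∈ D, Commute w (E ^ iX) := fun w hw => hDc w hw _ (pow_mem hEN _)
  have hG'D : ∀ w ∈ D, Commute G' w := fun w hw =>
    Commute.mul_left (mul_inv_eq_iff_eq_mul.1 (hGDfix w hw)) (hEZ w hw).symm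
  have hG'X : Commute G' X := by
    have e1 : E * X * E⁻¹ = X * Z⁻¹ := by
      have hx : X * E = E * X * Z := by rw [hbr, (h.ZE.mul_right h.ZX).eq]
      rw [mul_inv_eq_iff_eq_mul, mul_assoc X, (h.ZE.inv_left).eq, ← mul_assoc, hx,
        mul_inv_cancel_right]
    have e2 := conj_pow_iter e1 (by rw [← (h.ZE.inv_left).eq, mul_inv_cancel_right]) iX
    have e3 : G' * X * G'⁻¹ = X := by
      rw [show G' * X * G'⁻¹ = G * (E ^ iX * X * (E ^ iX)⁻¹) * G⁻¹ by simp only [G']; group, e2,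
        show G * (X * Z⁻¹ ^ iX) * G⁻¹ = (G * X * G⁻¹) * (G * Z⁻¹ ^ iX * G⁻¹) by group, hGX,
        hGDfix _ (pow_mem (inv_mem hZD) iX), pow_cast_eq h.hC (hd0.trans Nat.cast_zero.symm),
        pow_zero, mul_one, inv_pow, mul_inv_cancel_right]
    exact mul_inv_eq_iff_eq_mul.1 e3
  have hG'n : G' ∉ Nb := fun e => h.Gn (by
    simpa [G'] using Nb.mul_mem e (inv_mem (pow_mem hEN iX)))
  set M₀ := Subgroup.closure {X, Z, C}
  have hM₀N : M₀ ≤ Nb := (Subgroup.closure_le _).2 (by rintro t (rfl | rfl | rfl) <;> assumption)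
  have hG'M : ∀ y ∈ M₀, Commute G' y := fun y hy => commute_closure_set' (by
    rintro t (rfl | rfl | rfl)
    exacts [hG'X.eq, (hG'D _ hZD).eq, (hG'D _ hCD).eq]) y hy
  have hEconj : G' * E * G'⁻¹ = E * (X ^ k * (Z ^ iE * C ^ dE)) := by
    rw [show G' * E * G'⁻¹ = G * (E ^ iX * E * (E ^ iX)⁻¹) * G⁻¹ by simp only [G']; group,
      ← (Commute.self_pow E iX).eq, mul_inv_cancel_right, hGE]
  -- normal form in `Nb`
  have hEnormM : ∀ t ∈ M₀, E * t * E⁻¹ ∈ M₀ := by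
    intro t ht
    induction ht using Subgroup.closure_induction with
    | mem t ht =>
      rcases ht with rfl | rfl | rfl
      · have e1 : E * t * E⁻¹ = t * Z⁻¹ := by
          rw [mul_inv_eq_iff_eq_mul, mul_assoc t, (h.ZE.inv_left).eq, ← mul_assoc t, hbr,
            ← mul_assoc, h.ZE.eq, mul_assoc E Z t, h.ZX.eq, ← mul_assoc, mul_inv_cancel_right]
        rw [e1]
        exact mul_mem (Subgroup.subset_closure (Or.inl rfl))
          (inv_mem (Subgroup.subset_closure (Or.inr (Or.inl rfl))))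
      · rw [← h.ZE.eq, mul_inv_cancel_right]
        exact Subgroup.subset_closure (Or.inr (Or.inl rfl))
      · rw [← h.CE.eq, mul_inv_cancel_right]
        exact Subgroup.subset_closure (Or.inr (Or.inr rfl))
    | one => rw [mul_one, mul_inv_cancel]; exact one_mem _
    | mul u v _ _ ihu ihv =>
      rw [show E * (u * v) * E⁻¹ = (E * u * E⁻¹) * (E * v * E⁻¹) by group]; exact mul_mem ihu ihv
    | inv u _ ihu =>
      rw [show E * u⁻¹ * E⁻¹ = (E * u * E⁻¹)⁻¹ by group]; exact inv_mem ihu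
  have hform : ∀ y ∈ Nb, ∃ i : ℕ, ∃ v ∈ M₀, y = E ^ i * v := by
    intro y hy
    have hle : Nb ≤ M₀ ⊔ Subgroup.zpowers E := (Subgroup.closure_le _).2 (by
      rintro t (rfl | rfl | rfl | rfl)
      · exact Subgroup.mem_sup_left (Subgroup.subset_closure (Or.inl rfl))
      · exact Subgroup.mem_sup_right (Subgroup.mem_zpowers _)
      · exact Subgroup.mem_sup_left (Subgroup.subset_closure (Or.inr (Or.inl rfl)))
      · exact Subgroup.mem_sup_left (Subgroup.subset_closure (Or.inr (Or.inr rfl))))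
    have hy' : y ∈ ((Subgroup.zpowers E ⊔ M₀ : Subgroup Q) : Set Q) := sup_comm M₀ _ ▸ hle hy
    rw [Subgroup.coe_mul_of_left_le_normalizer_right _ _ (Subgroup.zpowers_le.2 ?_)] at hy'
    · obtain ⟨u, hu, v, hv, rfl⟩ := Set.mem_mul.1 hy'
      obtain ⟨i, rfl⟩ := exists_nat_pow_eq (p := p) hp.pos h.hE hu
      exact ⟨i, v, hv, rfl⟩
    · haveI : Finite M₀ := inferInstance
      rw [Subgroup.mem_normalizer_iff]
      intro t
      refine ⟨hEnormM t, fun ht => ?_⟩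
      have hmap : M₀.map (MulAut.conj E).toMonoidHom = M₀ :=
        Subgroup.eq_of_le_of_card_ge (by rintro _ ⟨u, hu, rfl⟩; exact hEnormM u hu)
          (by rw [Subgroup.card_map_of_injective (MulAut.conj E).injective])
      obtain ⟨u, hu, hue⟩ := (SetLike.ext_iff.1 hmap (E * t * E⁻¹)).2 ht
      have : u = t := (MulAut.conj E).injective hue
      rwa [← this]
  -- an element of `Nb` centralised by `G'` lies in `M₀`
  have hcent : ∀ y ∈ Nb, Commute G' y → y ∈ M₀ := by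
    intro y hy hc
    obtain ⟨i, v, hv, rfl⟩ := hform y hy
    have hE' : G' * E ^ i * G'⁻¹ = E ^ i := by
      have h1 : G' * (E ^ i * v) * G'⁻¹ = E ^ i * v := by rw [hc.eq, mul_inv_cancel_right]
      rw [show G' * (E ^ i * v) * G'⁻¹ = (G' * E ^ i * G'⁻¹) * (G' * v * G'⁻¹) by group,
        (hG'M v hv).eq, mul_inv_cancel_right] at h1
      exact mul_right_cancel h1
    rw [← conj_pow, hEconj] at hE'
    obtain ⟨w, hw, he⟩ : ∃ w ∈ D, (E * (X ^ k * (Z ^ iE * C ^ dE))) ^ i = E ^ i * X ^ (k * i) * w := by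
      have : ∀ r : ℕ, ∃ w ∈ D, (E * (X ^ k * (Z ^ iE * C ^ dE))) ^ r = E ^ r * X ^ (k * r) * w := by
        intro r
        induction r with
        | zero => exact ⟨1, one_mem _, by simp⟩
        | succ r ih =>
          obtain ⟨w, hw, e1⟩ := ih
          have e3 : X ^ (k * r) * E = E * X ^ (k * r) * Z ^ (k * r) := by
            have e1 : X * E * X⁻¹ = E * Z := by
              rw [mul_inv_eq_iff_eq_mul, hbr, ← mul_assoc, h.ZE.eq]
            have e2 := conj_pow_iter e1 (by rw [← h.ZX.eq, mul_inv_cancel_right]) (k * r)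
            rw [mul_inv_eq_iff_eq_mul] at e2
            rw [e2, mul_assoc, ((h.ZX.pow_left (k * r)).pow_right (k * r)).eq, ← mul_assoc]
          refine ⟨Z ^ (k * r) * (w * (Z ^ iE * C ^ dE)),
            mul_mem (pow_mem hZD _) (mul_mem hw hwE), ?_⟩
          rw [pow_succ, e1]
          have cw : Commute w (E * X ^ k) := hDc w hw _ (mul_mem hEN (pow_mem hXN k))
          calc E ^ r * X ^ (k * r) * w * (E * (X ^ k * (Z ^ iE * C ^ dE)))
              = E ^ r * (X ^ (k * r) * E) * X ^ k * (w * (Z ^ iE * C ^ dE)) := by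
                rw [← mul_assoc E, mul_assoc _ w, ← mul_assoc w, cw.eq]; group
            _ = E ^ (r + 1) * X ^ (k * r) * (Z ^ (k * r) * X ^ k) * (w * (Z ^ iE * C ^ dE)) := by
                rw [e3, pow_succ]; group
            _ = E ^ (r + 1) * X ^ (k * (r + 1)) * (Z ^ (k * r) * (w * (Z ^ iE * C ^ dE))) := by
                rw [((h.ZX.pow_left (k * r)).pow_right k).eq, mul_add, mul_one, pow_add]; group
      exact this i
    rw [he, mul_assoc, mul_eq_left] at hE'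
    have := cast_zero_of_pow_mem h.Xp hX1 (i := k * i) (by
      rw [eq_inv_of_mul_eq_one_left hE']; exact inv_mem hw)
    rw [Nat.cast_mul, mul_eq_zero] at this
    rw [pow_cast_eq h.hE ((this.resolve_left hk).trans Nat.cast_zero.symm), pow_zero, one_mul]
    exact hv
  have hM₀p : ∀ y ∈ M₀, y ^ p = 1 := by
    intro y hy
    induction hy using Subgroup.closure_induction with
    | mem t ht => rcases ht with rfl | rfl | rfl; exacts [hXp, h.hZ, h.hC]
    | one => exact one_pow p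
    | mul u v hu hv ihu ihv =>
      rw [(commute_closure_pair' (by
        rintro s (rfl | rfl | rfl) t (rfl | rfl | rfl)
        exacts [rfl, h.ZX.symm.eq, h.CX.symm.eq, h.ZX.eq, rfl, h.CZ.symm.eq, h.CX.eq, h.CZ.eq,
          rfl]) u hu v hv).mul_pow, ihu, ihv, one_mul]
    | inv u _ ihu => rw [inv_pow, ihu, inv_one]
  have hM₀c : ∀ u ∈ M₀, ∀ v ∈ M₀, Commute u v := commute_closure_pair' (by
    rintro s (rfl | rfl | rfl) t (rfl | rfl | rfl)
    exacts [rfl, h.ZX.symm.eq, h.CX.symm.eq, h.ZX.eq, rfl, h.CZ.symm.eq, h.CX.eq, h.CZ.eq, rfl])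
  have hXM : X ∈ M₀ := Subgroup.subset_closure (Or.inl rfl)
  have hZM : Z ∈ M₀ := Subgroup.subset_closure (Or.inr (Or.inl rfl))
  have hCM : C ∈ M₀ := Subgroup.subset_closure (Or.inr (Or.inr rfl))
  -- `G` normalises `Nb`
  have hGN : ∀ y ∈ Nb, G * y * G⁻¹ ∈ Nb := by
    intro y hy
    induction hy using Subgroup.closure_induction with
    | mem t ht =>
      rcases ht with rfl | rfl | rfl | rfl
      · rw [hGX]; exact mul_mem hXN (hD_le hwX)
      · rw [hGE]; exact mul_mem hEN (mul_mem (pow_mem hXN k) (hD_le hwE))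
      · rw [hGZ]; exact hZN
      · rw [hGC]; exact hCN
    | one => rw [mul_one, mul_inv_cancel]; exact one_mem _
    | mul u v _ _ ihu ihv =>
      rw [show G * (u * v) * G⁻¹ = (G * u * G⁻¹) * (G * v * G⁻¹) by group]; exact mul_mem ihu ihv
    | inv u _ ihu => rw [show G * u⁻¹ * G⁻¹ = (G * u * G⁻¹)⁻¹ by group]; exact inv_mem ihu
  have hGnorm : ∀ r : ℕ, ∀ y ∈ Nb, G ^ r * y * (G ^ r)⁻¹ ∈ Nb := by
    intro r
    induction r with
    | zero => intro y hy; simpa using hy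
    | succ r ih =>
      intro y hy
      rw [show G ^ (r + 1) * y * (G ^ (r + 1))⁻¹ = G * (G ^ r * y * (G ^ r)⁻¹) * G⁻¹ by
        rw [pow_succ']; group]
      exact hGN _ (ih y hy)
  have hG'pow : ∀ r : ℕ, ∃ y ∈ Nb, G' ^ r = y * G ^ r := by
    intro r
    induction r with
    | zero => exact ⟨1, one_mem _, by simp⟩
    | succ r ih =>
      obtain ⟨y, hy, e1⟩ := ih
      refine ⟨y * (G ^ (r + 1) * E ^ iX * (G ^ (r + 1))⁻¹),
        mul_mem hy (hGnorm _ _ (pow_mem hEN _)), ?_⟩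
      rw [pow_succ, e1]
      simp only [G', pow_succ]
      group
  -- `G' ^ p = 1`
  have hG'p : G' ^ p = 1 := by
    obtain ⟨y, hy, e1⟩ := hG'pow p
    have hmemN : G' ^ p ∈ Nb := by rw [e1]; exact mul_mem hy h.Gp
    have hmem : G' ^ p ∈ M₀ := hcent _ hmemN (Commute.self_pow G' p)
    -- `τ G'` is `G' ^ ν` times an element of `M₀`
    obtain ⟨y2, hy2, e2⟩ := hG'pow ν
    set n' := (G' ^ ν)⁻¹ * τ G'
    have hτG' : τ G' = G' ^ ν * n' := (mul_inv_cancel_left _ _).symm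
    have hn'N : n' ∈ Nb := by
      simp only [n', G', map_mul, map_pow, hτG, h.τE]
      simp only [G'] at e2
      rw [e2, show (y2 * G ^ ν)⁻¹ * (G ^ ν * n * (E ^ (a⁻¹).val) ^ iX) =
        ((G ^ ν)⁻¹ * y2⁻¹ * G ^ ν) * (n * (E ^ (a⁻¹).val) ^ iX) by group]
      refine mul_mem ?_ (mul_mem hn (pow_mem (pow_mem hEN _) _))
      -- inverse conjugation
      haveI : Finite Nb := inferInstance
      have hmap : Nb.map (MulAut.conj (G ^ ν)).toMonoidHom = Nb :=
        Subgroup.eq_of_le_of_card_ge (by rintro _ ⟨u, hu, rfl⟩; exact hGnorm ν u hu)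
          (by rw [Subgroup.card_map_of_injective (MulAut.conj (G ^ ν)).injective])
      obtain ⟨u, hu, hue⟩ := (SetLike.ext_iff.1 hmap y2⁻¹).2 (inv_mem hy2)
      rw [← hue]
      show (G ^ ν)⁻¹ * (G ^ ν * u * (G ^ ν)⁻¹) * G ^ ν ∈ Nb
      rwa [show (G ^ ν)⁻¹ * (G ^ ν * u * (G ^ ν)⁻¹) * G ^ ν = u by group]
    have hτM : τ X ∈ M₀ := by
      rw [hτX']; exact mul_mem (pow_mem hXM m) (mul_mem (pow_mem hZM _) (pow_mem hCM _))
    have hn'X : Commute n' (τ X) := by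
      have c1 : Commute (G' ^ ν) (τ X) := (hG'M _ hτM).pow_left ν
      have c2 : Commute (τ G') (τ X) := hG'X.map τ
      exact c1.inv_left.mul_left c2
    have hn'M : n' ∈ M₀ := by
      obtain ⟨i, v, hv, e3⟩ := hform n' hn'N
      have c : Commute (E ^ i) (τ X) := by
        have c1 : Commute v (τ X) := hM₀c v hv _ hτM
        have := hn'X.mul_left c1.inv_left
        rwa [e3, mul_inv_cancel_right] at this
      have c2 : Commute (E ^ i) (X ^ m) := by
        have c3 : Commute (E ^ i) (Z ^ iτ * C ^ dτ) := (hDc _ hwτ _ (pow_mem hEN i)).symm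
        have := c.mul_right c3.inv_right
        rwa [hτX', mul_inv_cancel_right] at this
      have e4 : X * E ^ i * X⁻¹ = E ^ i * Z ^ i := by
        rw [← conj_pow, show X * E * X⁻¹ = E * Z by
          rw [mul_inv_eq_iff_eq_mul, hbr, ← mul_assoc, h.ZE.eq], h.ZE.symm.mul_pow]
      have e5 := conj_pow_iter e4 (by rw [← (h.ZX.pow_left i).eq, mul_inv_cancel_right]) m
      rw [← c2.eq, mul_inv_cancel_right, left_eq_mul, ← pow_mul, ← pow_zero Z] at e5
      have hi := cast_eq_of_pow h.hZ h.Z1 e5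
      simp only [m, Nat.cast_mul, Nat.cast_zero, ZMod.natCast_zmod_val] at hi
      rw [mul_eq_zero] at hi
      rw [e3, pow_cast_eq h.hE ((hi.resolve_right (pow_ne_zero 2 h.a0)).trans Nat.cast_zero.symm),
        pow_zero, one_mul]
      exact hv
    have e6 : τ (G' ^ p) = (G' ^ p) ^ ν := by
      rw [map_pow, hτG', ((hG'M _ hn'M).pow_left ν).mul_pow, hM₀p _ hn'M, mul_one, ← pow_mul,
        ← pow_mul, mul_comm]
    -- coordinates of `G' ^ p`
    obtain ⟨β, γ, δ, e7⟩ : ∃ β γ δ : ℕ, G' ^ p = X ^ β * (Z ^ γ * C ^ δ) := by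
      have hle : M₀ ≤ Subgroup.zpowers X ⊔ D := (Subgroup.closure_le _).2 (by
        rintro t (rfl | rfl | rfl)
        · exact Subgroup.mem_sup_left (Subgroup.mem_zpowers _)
        · exact Subgroup.mem_sup_right hZD
        · exact Subgroup.mem_sup_right hCD)
      obtain ⟨u, hu, v, hv, e⟩ := mem_join_of_commute (fun u hu v hv =>
        ((hDc v hv u (Subgroup.zpowers_le.2 hXN hu)).symm).eq) (hle hmem)
      obtain ⟨β, rfl⟩ := exists_nat_pow_eq (p := p) hp.pos hXp hu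
      obtain ⟨γ, δ, rfl⟩ := h.mem_D hv
      exact ⟨β, γ, δ, e⟩
    rw [e7, map_mul, map_mul, map_pow, map_pow, map_pow, hτX', h.τZ, h.τC, cXτ.mul_pow,
      (hDc _ (hDN γ δ) _ (pow_mem hXN β)).symm.mul_pow, (h.CZ.symm.pow_pow iτ dτ).mul_pow,
      (h.CZ.symm.pow_pow γ δ).mul_pow] at e6
    simp only [← pow_mul] at e6
    -- the `X` coordinate
    have hw1 : Z ^ (iτ * β) * C ^ (dτ * β) * (Z ^ (a.val * γ) * C ^ δ) ∈ D :=
      mul_mem (hDN _ _) (hDN _ _)
    have hw2 : Z ^ (γ * ν) * C ^ (δ * ν) ∈ D := hDN _ _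
    rw [mul_assoc] at e6
    set r := (((m * β : ℕ) : ZMod p) - ((β * ν : ℕ) : ZMod p)).val
    have hr : X ^ r * X ^ (β * ν) = X ^ (m * β) := by
      rw [← pow_add]; exact pow_cast_eq hXp (by simp [r])
    have e8 : X ^ r ∈ D := by
      have hh : X ^ r = (X ^ (β * ν) * (Z ^ (γ * ν) * C ^ (δ * ν))) *
          (Z ^ (iτ * β) * C ^ (dτ * β) * (Z ^ (a.val * γ) * C ^ δ))⁻¹ * (X ^ (β * ν))⁻¹ := by
        rw [← e6, mul_inv_cancel_right, ← hr, mul_inv_cancel_right]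
      rw [hh, mul_assoc (X ^ (β * ν)), ← (hDc _ (mul_mem hw2 (inv_mem hw1)) _
        (pow_mem hXN (β * ν))).eq, mul_inv_cancel_right]
      exact mul_mem hw2 (inv_mem hw1)
    have hr0 := cast_zero_of_pow_mem (H := D) (by rw [hXp]; exact one_mem _) hX1 e8
    rw [ZMod.natCast_zmod_val, sub_eq_zero] at hr0
    simp only [m, Nat.cast_mul, ZMod.natCast_zmod_val, hν] at hr0
    have hβ : (β : ZMod p) = 0 := by
      by_contra h0
      refine ha1 (mul_left_cancel₀ (pow_ne_zero 2 h.a0) (mul_left_cancel₀ h0 ?_))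
      linear_combination -hr0
    have hz : ∀ t : ℕ, (β * t : ℕ) = (β : ℕ) * t := fun _ => rfl
    have x1 : X ^ (m * β) = 1 := by
      rw [← pow_zero X]; exact pow_cast_eq hXp (by rw [Nat.cast_mul, hβ, mul_zero, Nat.cast_zero])
    have x2 : X ^ (β * ν) = 1 := by
      rw [← pow_zero X]; exact pow_cast_eq hXp (by rw [Nat.cast_mul, hβ, zero_mul, Nat.cast_zero])
    have x3 : Z ^ (iτ * β) = 1 := by
      rw [← pow_zero Z]; exact pow_cast_eq h.hZ (by rw [Nat.cast_mul, hβ, mul_zero, Nat.cast_zero])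
    have x4 : C ^ (dτ * β) = 1 := by
      rw [← pow_zero C]; exact pow_cast_eq h.hC (by rw [Nat.cast_mul, hβ, mul_zero, Nat.cast_zero])
    rw [x1, x2, x3, x4, one_mul, one_mul, one_mul, one_mul] at e6
    obtain ⟨e9, e10⟩ := h.ZC_indep e6
    simp only [Nat.cast_mul, ZMod.natCast_zmod_val, hν] at e9 e10
    have hγ : (γ : ZMod p) = 0 := by
      by_contra h0
      refine h.a2 (mul_left_cancel₀ h.a0 (mul_left_cancel₀ h0 ?_))
      linear_combination -e9
    have hδ : (δ : ZMod p) = 0 := by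
      by_contra h0
      refine h.a3 (mul_left_cancel₀ h0 ?_)
      linear_combination -e10
    rw [e7, pow_cast_eq hXp (hβ.trans Nat.cast_zero.symm),
      pow_cast_eq h.hZ (hγ.trans Nat.cast_zero.symm), pow_cast_eq h.hC (hδ.trans Nat.cast_zero.symm)]
    simp
  -- the elementary abelian subgroup
  refine ⟨Subgroup.closure ({G'} ∪ (M₀ : Set Q)), fun u hu v hv => ?_, fun u hu => ?_, ?_⟩
  · refine commute_closure_pair' ?_ u hu v hv
    rintro s (rfl | hs) t (rfl | ht)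
    · rfl
    · exact (hG'M t ht).eq
    · exact (hG'M s hs).eq.symm
    · exact (hM₀c s hs t ht).eq
  · have hc : ∀ s ∈ ({G'} ∪ (M₀ : Set Q)), ∀ t ∈ ({G'} ∪ (M₀ : Set Q)), s * t = t * s := by
      rintro s (rfl | hs) t (rfl | ht)
      · rfl
      · exact (hG'M t ht).eq
      · exact (hG'M s hs).eq.symm
      · exact (hM₀c s hs t ht).eq
    induction hu using Subgroup.closure_induction with
    | mem t ht => rcases ht with rfl | ht; exacts [hG'p, hM₀p t ht]
    | one => exact one_pow p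
    | mul u v hu hv ihu ihv => rw [(commute_closure_pair' hc u hu v hv).mul_pow, ihu, ihv, one_mul]
    | inv u _ ihu => rw [inv_pow, ihu, inv_one]
  · set A := Subgroup.closure ({G'} ∪ (M₀ : Set Q))
    have hM₀A : M₀ ≤ A := fun y hy => Subgroup.subset_closure (Or.inr hy)
    have h1 : p * Nat.card M₀ ≤ Nat.card A := mul_card_le hQ (lt_of_le_not_ge hM₀A fun e =>
      hG'n (hM₀N (e (Subgroup.subset_closure (Or.inl rfl)))))
    have h2 : p * Nat.card D ≤ Nat.card M₀ := mul_card_le hQ (lt_of_le_not_ge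
      (Subgroup.closure_mono (by rintro t (rfl | rfl) <;> simp)) fun e => hX1 (e hXM))
    have h3 : p * Nat.card (Subgroup.zpowers Z) ≤ Nat.card D := mul_card_le hQ (lt_of_le_not_ge
      (Subgroup.zpowers_le.2 hZD) fun e => h.C1 (e hCD))
    rw [Nat.card_zpowers, orderOf_eq_prime h.hZ h.Z1] at h3
    calc p ^ 4 = p * (p * (p * p)) := by ring
      _ ≤ p * (p * Nat.card D) := by gcongr
      _ ≤ p * Nat.card M₀ := by gcongr
      _ ≤ Nat.card A := h1

end Cfg

end Cfsg.Agent.NormalR3Weights
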