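import Cfsg.Agent.Lib.NormalR3Frame20
import Cfsg.Agent.Lib.NormalR3Weights20

/-!
The layers of `N_S(E)` over `Φ(E)` for S5180, their invariance under the automorphisms of
`N_S(E)` in `F`, and the bound on the normalizers of the conjugates of `N_S(E)`.
-/

set_option autoImplicit false
set_option linter.unusedSectionVars false
set_option linter.style.haveILetI false

namespace Cfsg.Agent.NormalR3

open Cfsg Cfsg.FusionSystem Cfsg.Agent.FusionSysBasic Cfsg.Agent.FusionSysSaturated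
  Cfsg.Agent.FusionSysNormal Cfsg.Agent.FusionSysAlperin Cfsg.Agent.Rank3 Cfsg.Agent.Rank3.CaseB2

universe u

variable {Ω : Type u} [Group Ω] {S : Subgroup Ω} {F : FusionSystem S} {p : ℕ} {E : Subgroup Ω}

section General

theorem cj_mem_sup_zpowers {B : Subgroup Ω} {g y : Ω} (hB : ∀ b ∈ B, cj g b ∈ B)
    (hy : cj g y ∈ B ⊔ Subgroup.zpowers y) :
    ∀ u ∈ B ⊔ Subgroup.zpowers y, cj g u ∈ B ⊔ Subgroup.zpowers y := by
  intro u hu
  have hle : B ⊔ Subgroup.zpowers y ≤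
      (B ⊔ Subgroup.zpowers y).comap (MulAut.conj g).toMonoidHom :=
    sup_le (fun b hb => (Subgroup.mem_sup_left (hB b hb) : cj g b ∈ B ⊔ Subgroup.zpowers y))
      (Subgroup.zpowers_le.2 hy)
  exact hle hu

theorem mem_sup_of_br {B : Subgroup Ω} {g y : Ω} (h : br g y ∈ B) :
    cj g y ∈ B ⊔ Subgroup.zpowers y := by
  rw [show cj g y = br g y * y by rw [br_eq_cj, inv_mul_cancel_right]]
  exact mul_mem (Subgroup.mem_sup_left h) (Subgroup.mem_sup_right (Subgroup.mem_zpowers y))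

theorem mor_pow {P : Subgroup Ω} {f : Ω → Ω} (hf : Mor F P f) {u : Ω} (hu : u ∈ P) (n : ℕ) :
    f (u ^ n) = f u ^ n := by
  induction n with
  | zero => rw [pow_zero, pow_zero, hf.map_one]
  | succ n ih => rw [pow_succ, pow_succ, hf.map_mul (P.pow_mem hu n) hu, ih]

theorem mor_br {P : Subgroup Ω} {f : Ω → Ω} (hf : Mor F P f) {u v : Ω} (hu : u ∈ P) (hv : v ∈ P) :
    f (br u v) = br (f u) (f v) := by
  rw [br_eq_cj, br_eq_cj, cj_apply, cj_apply,
    hf.map_mul (P.mul_mem (P.mul_mem hu hv) (P.inv_mem hu)) (P.inv_mem hv),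
    hf.map_mul (P.mul_mem hu hv) (P.inv_mem hu), hf.map_mul hu hv, hf.map_inv hu, hf.map_inv hv]

theorem pow_mul_mem {B : Subgroup Ω} {m u : Ω} (hu : u ∈ B) (hm : ∀ b ∈ B, cj m⁻¹ b ∈ B) (k : ℕ) :
    (m ^ k)⁻¹ * (m * u) ^ k ∈ B := by
  induction k with
  | zero => simp
  | succ k ih =>
    rw [show (m ^ (k + 1))⁻¹ * (m * u) ^ (k + 1) = cj m⁻¹ ((m ^ k)⁻¹ * (m * u) ^ k) * u by
      rw [pow_succ, pow_succ, cj_apply]; group]
    exact B.mul_mem (hm _ ih) hu

variable [Finite S] [Fact p.Prime]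

theorem exists_ppow (hS : IsPGroup p S) {y : Ω} (hy : y ∈ S) : ∃ k : ℕ, y ^ p ^ k = 1 := by
  obtain ⟨k, hk⟩ := hS ⟨y, hy⟩
  exact ⟨k, congrArg Subtype.val hk⟩

theorem exists_mul_pow (hS : IsPGroup p S) {B : Subgroup Ω} (hBS : B ≤ S) {y u : Ω} (hy : y ∈ S)
    (hn : ∀ b ∈ B, cj y b ∈ B) (hu : u ∈ B ⊔ Subgroup.zpowers y) :
    ∃ b ∈ B, ∃ i : ℕ, u = b * y ^ i := by
  rw [← SetLike.mem_coe, Subgroup.coe_mul_of_right_le_normalizer_left _ _
    (Subgroup.zpowers_le.2 (mem_normalizer_of_cj_le hBS hn))] at hu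
  obtain ⟨b, hb, w, hw, rfl⟩ := Set.mem_mul.mp hu
  obtain ⟨k, hk⟩ := exists_ppow hS hy
  obtain ⟨i, rfl⟩ := exists_nat_pow_eq (p := p ^ k) (pow_pos (Fact.out : p.Prime).pos k) hk hw
  exact ⟨b, hb, i, rfl⟩

theorem card_step (hS : IsPGroup p S) {B : Subgroup Ω} (hBS : B ≤ S) {y : Ω} (hy : y ∈ S)
    (hn : ∀ b ∈ B, cj y b ∈ B) (hyp : y ^ p ∈ B) :
    Nat.card ↥(B ⊔ Subgroup.zpowers y) ≤ p * Nat.card B := by
  haveI := finite_of_le hBS
  have e : Nat.card (B × Fin p) = p * Nat.card B := by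
    rw [Nat.card_prod, Nat.card_fin, mul_comm]
  rw [← e]
  refine Nat.card_le_card_of_surjective
    (fun z : B × Fin p => (⟨(z.1 : Ω) * y ^ (z.2 : ℕ), mul_mem (Subgroup.mem_sup_left z.1.2)
      (_root_.pow_mem (Subgroup.mem_sup_right (Subgroup.mem_zpowers y)) _)⟩ :
      ↥(B ⊔ Subgroup.zpowers y))) ?_
  rintro ⟨u, hu⟩
  obtain ⟨b, hb, i, rfl⟩ := exists_mul_pow hS hBS hy hn hu
  refine ⟨⟨⟨b * (y ^ p) ^ (i / p), B.mul_mem hb (B.pow_mem hyp _)⟩,
    ⟨i % p, Nat.mod_lt _ (Fact.out : p.Prime).pos⟩⟩, Subtype.ext ?_⟩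
  show b * (y ^ p) ^ (i / p) * y ^ (i % p) = b * y ^ i
  rw [mul_assoc, ← pow_mul, ← pow_add, Nat.div_add_mod]

theorem exists_central_mod (hS : IsPGroup p S) {A B : Subgroup Ω} (hBS : B ≤ S) (hlt : A < B)
    (hA : ∀ g ∈ S, ∀ a ∈ A, cj g a ∈ A) (hB : ∀ g ∈ S, ∀ b ∈ B, cj g b ∈ B) :
    ∃ w ∈ B, w ∉ A ∧ ∀ g ∈ S, br g w ∈ A := by
  let A' : Subgroup S := A.subgroupOf S
  haveI : A'.Normal := ⟨fun a ha g => by
    have := hA (g : Ω) g.2 (a : Ω) ha
    simpa [A', Subgroup.mem_subgroupOf, cj_apply] using this⟩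
  haveI : (B.subgroupOf S).Normal := ⟨fun a ha g => by
    have := hB (g : Ω) g.2 (a : Ω) ha
    simpa [Subgroup.mem_subgroupOf, cj_apply] using this⟩
  obtain ⟨b, hb, hbA⟩ := SetLike.exists_of_lt hlt
  have hne' : (B.subgroupOf S).map (QuotientGroup.mk' A') ≠ ⊥ := fun e => by
    have h : QuotientGroup.mk' A' ⟨b, hBS hb⟩ ∈ (B.subgroupOf S).map (QuotientGroup.mk' A') :=
      ⟨_, hb, rfl⟩
    rw [e, Subgroup.mem_bot] at h
    exact hbA ((QuotientGroup.eq_one_iff (N := A') _).mp h)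
  haveI : ((B.subgroupOf S).map (QuotientGroup.mk' A')).Normal :=
    Subgroup.Normal.map inferInstance _ (QuotientGroup.mk'_surjective A')
  obtain ⟨w, hw, hw1⟩ := (Subgroup.bot_or_exists_ne_one _).resolve_left
    (PGroupsBasic.inf_center_ne_bot (hS.to_quotient A') hne')
  obtain ⟨⟨c, hc, rfl⟩, hwc⟩ := hw
  refine ⟨c, hc, fun hcA => hw1 ((QuotientGroup.eq_one_iff (N := A') c).mpr hcA), fun g hg => ?_⟩
  have h2 := Subgroup.mem_center_iff.mp hwc (QuotientGroup.mk' A' ⟨g, hg⟩)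
  rw [← map_mul, ← map_mul, ← mul_inv_eq_one, ← map_inv, ← map_mul] at h2
  have h3 := (QuotientGroup.eq_one_iff _).mp h2
  simpa [A', Subgroup.mem_subgroupOf, br, mul_assoc] using h3

end General

/-- `Φ(E)⟨z⟩`. -/
def dOne (E : Subgroup Ω) (z : Ω) : Subgroup Ω := frE E ⊔ Subgroup.zpowers z

/-- `Φ(E)⟨z, c⟩`. -/
def dTwo (E : Subgroup Ω) (z c : Ω) : Subgroup Ω := dOne E z ⊔ Subgroup.zpowers c

namespace Frame

variable [Finite S] [Fact p.Prime] {x e z c : Ω} {a : ZMod p} (hR : Frame F p E x e z c a)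
  (h : Hyp F p E)
include h hR

theorem fr_le_one : frE E ≤ dOne E z := le_sup_left

theorem z_mem_one : z ∈ dOne E z := Subgroup.mem_sup_right (Subgroup.mem_zpowers z)

theorem one_le_two : dOne E z ≤ dTwo E z c := le_sup_left

theorem c_mem_two : c ∈ dTwo E z c := Subgroup.mem_sup_right (Subgroup.mem_zpowers c)

theorem z_mem_two : z ∈ dTwo E z c := hR.one_le_two h (hR.z_mem_one h)

theorem fr_le_two : frE E ≤ dTwo E z c := (hR.fr_le_one h).trans (hR.one_le_two h)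

theorem one_le_E : dOne E z ≤ E := sup_le frE_le (Subgroup.zpowers_le.2 hR.hz)

theorem two_le_E : dTwo E z c ≤ E := sup_le (hR.one_le_E h) (Subgroup.zpowers_le.2 hR.hc)

theorem two_le_N : dTwo E z c ≤ normalizerIn S E := (hR.two_le_E h).trans h.le_N

theorem br_z {n : Ω} (hn : n ∈ normalizerIn S E) : br n z ∈ frE E := by
  let T : Subgroup Ω :=
    { carrier := {n | n ∈ normalizerIn S E ∧ br n z ∈ frE E}
      one_mem' := ⟨one_mem _, by rw [br_one_left]; exact one_mem _⟩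
      mul_mem' := fun {u v} hu hv => ⟨mul_mem hu.1 hv.1, by
        rw [br_mul_left]
        exact mul_mem (cj_mem_frE hu.1 hv.2) hu.2⟩
      inv_mem' := fun {u} hu => ⟨inv_mem hu.1, by
        have h1 := cj_mem_frE (inv_mem hu.1) (inv_mem hu.2)
        rw [cj_apply, inv_inv] at h1
        rw [br_inv_left]
        exact h1⟩ }
  have hT : T = normalizerIn S E := h.eq_top_of_mem (fun n hn => hn.1)
    (fun u hu => ⟨h.le_N hu, br_mem_frE h.hS h.le hu hR.hz⟩) (x := x) ⟨hR.hx, hR.xz⟩ hR.hxE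
  exact (hT.ge hn).2

theorem cj_one_mem {n : Ω} (hn : n ∈ normalizerIn S E) : ∀ d ∈ dOne E z, cj n d ∈ dOne E z :=
  cj_mem_sup_zpowers (fun _ hb => cj_mem_frE hn hb) (mem_sup_of_br (hR.br_z h hn))

theorem cj_two_mem {n : Ω} (hn : n ∈ normalizerIn S E) : ∀ d ∈ dTwo E z c, cj n d ∈ dTwo E z c :=
  cj_mem_sup_zpowers (hR.cj_one_mem h hn) (by
    rw [cj_apply, hR.c_cent n hn, mul_inv_cancel_right]
    exact Subgroup.mem_sup_right (Subgroup.mem_zpowers c))

theorem br_two {n d : Ω} (hn : n ∈ normalizerIn S E) (hd : d ∈ dTwo E z c) : br n d ∈ frE E := by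
  let T : Subgroup Ω :=
    { carrier := {d | d ∈ E ∧ br n d ∈ frE E}
      one_mem' := ⟨one_mem _, by rw [br_one_right]; exact one_mem _⟩
      mul_mem' := fun {u v} hu hv => ⟨mul_mem hu.1 hv.1, by
        rw [br_mul_right]
        exact mul_mem hu.2 (cj_mem_frE (h.le_N hu.1) hv.2)⟩
      inv_mem' := fun {u} hu => ⟨inv_mem hu.1, by
        have h1 := cj_mem_frE (inv_mem (h.le_N hu.1)) (inv_mem hu.2)
        rw [cj_apply, inv_inv] at h1
        rw [br_inv_right]
        exact h1⟩ }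
  have h1 : dTwo E z c ≤ T := by
    refine sup_le (sup_le (fun k hk => ⟨frE_le hk, ?_⟩) (Subgroup.zpowers_le.2 ⟨hR.hz, hR.br_z h hn⟩))
      (Subgroup.zpowers_le.2 ⟨hR.hc, ?_⟩)
    · rw [br_eq_one.2 (hR.fr_cent n hn k hk)]; exact one_mem _
    · rw [br_eq_one.2 (hR.c_cent n hn)]; exact one_mem _
  exact (h1 hd).2

theorem closure_gen : Subgroup.closure ({x, e, z, c} ∪ (frE E : Set Ω)) = normalizerIn S E := by
  have hE : ∀ y ∈ E, y ∈ Subgroup.closure ({x, e, z, c} ∪ (frE E : Set Ω)) := by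
    intro y hy
    obtain ⟨A, B, C, f, hf, rfl⟩ := hR.decomp y hy
    exact mul_mem (mul_mem (mul_mem (_root_.pow_mem (Subgroup.subset_closure (by simp)) A)
      (_root_.pow_mem (Subgroup.subset_closure (by simp)) B))
      (_root_.pow_mem (Subgroup.subset_closure (by simp)) C))
      (Subgroup.subset_closure (Or.inr hf))
  refine h.eq_top_of_mem ((Subgroup.closure_le _).2 ?_) hE
    (Subgroup.subset_closure (show x ∈ ({x, e, z, c} : Set Ω) ∪ (frE E : Set Ω) by simp)) hR.hxE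
  rintro t ((rfl | rfl | rfl | rfl) | ht)
  exacts [hR.hx, h.le_N hR.he, h.le_N hR.hz, h.le_N hR.hc, h.le_N (frE_le ht)]

theorem br_mem_one {u v : Ω} (hu : u ∈ normalizerIn S E) (hv : v ∈ normalizerIn S E) :
    br u v ∈ dOne E z := by
  rw [← hR.closure_gen h] at hu hv
  refine gen_comm (T := ({x, e, z, c} ∪ (frE E : Set Ω))) ?_ ?_ u hu v hv
  · intro k hk
    rw [hR.closure_gen h] at hk
    exact hR.cj_one_mem h hk
  · have hN : ∀ t ∈ ({x, e, z, c} ∪ (frE E : Set Ω)), t ∈ normalizerIn S E := fun t ht =>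
      (hR.closure_gen h).le (Subgroup.subset_closure ht)
    have hxe : br x e ∈ dOne E z := by
      rw [br_eq_cj, ← hR.z_eq]; exact hR.z_mem_one h
    have hr : ∀ s ∈ ({x, e, z, c} ∪ (frE E : Set Ω)), ∀ t ∈ dTwo E z c, br s t ∈ dOne E z :=
      fun s hs t ht => hR.fr_le_one h (hR.br_two h (hN s hs) ht)
    have htwo : ∀ t ∈ ({z, c} ∪ (frE E : Set Ω)), t ∈ dTwo E z c := by
      rintro t ((rfl | rfl) | ht)
      exacts [hR.z_mem_two h, hR.c_mem_two h, hR.fr_le_two h ht]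
    show ∀ s ∈ ({x, e, z, c} ∪ (frE E : Set Ω)), ∀ t ∈ ({x, e, z, c} ∪ (frE E : Set Ω)),
      br s t ∈ dOne E z
    intro s hs t ht
    have hcase : ∀ r ∈ ({x, e, z, c} ∪ (frE E : Set Ω)), r = x ∨ r = e ∨ r ∈ dTwo E z c := by
      rintro r ((rfl | rfl | hr') | hr')
      exacts [Or.inl rfl, Or.inr (Or.inl rfl), Or.inr (Or.inr (htwo r (Or.inl hr'))),
        Or.inr (Or.inr (htwo r (Or.inr hr')))]
    rcases hcase t ht with rfl | rfl | ht'
    · rcases hcase s hs with rfl | rfl | hs'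
      · rw [br_self]; exact one_mem _
      · exact br_comm_mem hxe
      · exact br_comm_mem (hr t ht s hs')
    · rcases hcase s hs with rfl | rfl | hs'
      · exact hxe
      · rw [br_self]; exact one_mem _
      · exact br_comm_mem (hr t ht s hs')
    · exact hr s hs t ht'

theorem fr_pow {y : Ω} (hy : y ∈ frE E) : y ^ p ∈ frE E := _root_.pow_mem hy p

theorem c_pow : c ^ p ∈ frE E := pow_mem_frE h.hS h.le hR.hc

theorem cards : Nat.card (dOne E z) = p * Nat.card (frE E) ∧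
    Nat.card (dTwo E z c) = p * Nat.card (dOne E z) ∧ Nat.card E = p * Nat.card (dTwo E z c) := by
  have hES := h.le
  haveI := finite_of_le hES
  have hN1 := hR.one_le_E h
  have hN2 := hR.two_le_E h
  have h1 : Nat.card (dOne E z) ≤ p * Nat.card (frE E) :=
    card_step h.hS (frE_le.trans hES) (hES hR.hz) (fun _ hb => cj_mem_frE (h.le_N hR.hz) hb)
      (by rw [hR.zp]; exact one_mem _)
  have h2 : Nat.card (dTwo E z c) ≤ p * Nat.card (dOne E z) :=
    card_step h.hS (hN1.trans hES) (hES hR.hc) (hR.cj_one_mem h (h.le_N hR.hc))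
      (hR.fr_le_one h (hR.c_pow h))
  have h3 : Nat.card E ≤ p * Nat.card (dTwo E z c) := by
    have h4 := card_step h.hS (hN2.trans hES) (hES hR.he) (hR.cj_two_mem h (h.le_N hR.he))
      (show e ^ p ∈ dTwo E z c by rw [hR.ep]; exact one_mem _)
    haveI := finite_of_le ((sup_le hN2 (Subgroup.zpowers_le.2 hR.he)).trans hES)
    refine le_trans (Subgroup.card_le_of_le fun y hy => ?_) h4
    obtain ⟨A, B, C, f, hf, rfl⟩ := hR.decomp y hy
    exact mul_mem (mul_mem (mul_mem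
      (_root_.pow_mem (Subgroup.mem_sup_right (Subgroup.mem_zpowers e)) A)
      (_root_.pow_mem (Subgroup.mem_sup_left (hR.z_mem_two h)) B))
      (_root_.pow_mem (Subgroup.mem_sup_left (hR.c_mem_two h)) C))
      (Subgroup.mem_sup_left (hR.fr_le_two h hf))
  have hc := hR.card
  have hp := (Fact.out : p.Prime).pos
  have e1 : p * Nat.card (dOne E z) ≤ p * (p * Nat.card (frE E)) := by gcongr
  have e2 : p * Nat.card (dTwo E z c) ≤ p * (p * Nat.card (dOne E z)) := by gcongr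
  have e3 : p * (p * Nat.card (dOne E z)) ≤ p * (p * (p * Nat.card (frE E))) := by gcongr
  rw [show p ^ 3 * Nat.card (frE E) = p * (p * (p * Nat.card (frE E))) by ring] at hc
  refine ⟨le_antisymm h1 ?_, le_antisymm h2 ?_, le_antisymm h3 ?_⟩
  · refine Nat.le_of_mul_le_mul_left (Nat.le_of_mul_le_mul_left ?_ hp) hp
    omega
  · refine Nat.le_of_mul_le_mul_left ?_ hp
    omega
  · omega

theorem card_two_N : Nat.card (normalizerIn S E) = p * (p * Nat.card (dTwo E z c)) := by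
  rw [h.card_N, (hR.cards h).2.2]

theorem z_not_mem : z ∉ frE E := fun hz => by
  have he : dOne E z = frE E := sup_eq_left.2 (Subgroup.zpowers_le.2 hz)
  have h1 := (hR.cards h).1
  rw [he] at h1
  haveI := finite_of_le (frE_le.trans h.le)
  have h2 := (Nat.card_pos : 0 < Nat.card (frE E))
  nlinarith [(Fact.out : p.Prime).two_le]

theorem c_not_mem : c ∉ dOne E z := fun hc => by
  have he : dTwo E z c = dOne E z := sup_eq_left.2 (Subgroup.zpowers_le.2 hc)
  have h1 := (hR.cards h).2.1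
  rw [he] at h1
  haveI := finite_of_le ((hR.one_le_E h).trans h.le)
  have h2 := (Nat.card_pos : 0 < Nat.card (dOne E z))
  nlinarith [(Fact.out : p.Prime).two_le]

theorem e_not_mem : e ∉ dTwo E z c := fun he => by
  have hE : E ≤ dTwo E z c := fun y hy => by
    obtain ⟨A, B, C, f, hf, rfl⟩ := hR.decomp y hy
    exact mul_mem (mul_mem (mul_mem (_root_.pow_mem he A) (_root_.pow_mem (hR.z_mem_two h) B))
      (_root_.pow_mem (hR.c_mem_two h) C)) (hR.fr_le_two h hf)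
  have h1 := (hR.cards h).2.2
  rw [le_antisymm (hR.two_le_E h) hE] at h1
  haveI := finite_of_le h.le
  have h2 := (Nat.card_pos : 0 < Nat.card E)
  nlinarith [(Fact.out : p.Prime).two_le]

theorem mem_two_of_br {k : Ω} (hk : k ∈ E) (hb : br x k ∈ frE E) : k ∈ dTwo E z c := by
  obtain ⟨A, B, C, f, hf, rfl⟩ := hR.decomp k hk
  have hD : z ^ B * c ^ C * f ∈ dTwo E z c := mul_mem (mul_mem (_root_.pow_mem (hR.z_mem_two h) B)
    (_root_.pow_mem (hR.c_mem_two h) C)) (hR.fr_le_two h hf)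
  let T : Subgroup Ω :=
    { carrier := {d | d ∈ E ∧ br x d ∈ frE E}
      one_mem' := ⟨one_mem _, by rw [br_one_right]; exact one_mem _⟩
      mul_mem' := fun {u v} hu hv => ⟨mul_mem hu.1 hv.1, by
        rw [br_mul_right]
        exact mul_mem hu.2 (cj_mem_frE (h.le_N hu.1) hv.2)⟩
      inv_mem' := fun {u} hu => ⟨inv_mem hu.1, by
        have h1 := cj_mem_frE (inv_mem (h.le_N hu.1)) (inv_mem hu.2)
        rw [cj_apply, inv_inv] at h1
        rw [br_inv_right]
        exact h1⟩ }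
  have hA : e ^ A ∈ T := by
    have h2 : z ^ B * c ^ C * f ∈ T := ⟨hR.two_le_E h hD, hR.br_two h hR.hx hD⟩
    have h3 : e ^ A * z ^ B * c ^ C * f ∈ T := ⟨hk, hb⟩
    rw [show e ^ A = e ^ A * z ^ B * c ^ C * f * (z ^ B * c ^ C * f)⁻¹ by group]
    exact mul_mem h3 (inv_mem h2)
  have heT : e ∉ T := fun ⟨_, h2⟩ => hR.z_not_mem h (by rwa [br_eq_cj, ← hR.z_eq] at h2)
  have h0 := NormalR3Weights.cast_zero_of_pow_mem (by rw [hR.ep]; exact one_mem _) heT hA
  rw [NormalR3Weights.pow_cast_eq hR.ep (h0.trans Nat.cast_zero.symm), pow_zero, one_mul]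
  exact hD

theorem central_mem_two {k : Ω} (hk : k ∈ normalizerIn S E)
    (hc : ∀ n ∈ normalizerIn S E, n * k = k * n) : k ∈ dTwo E z c := by
  refine hR.mem_two_of_br h (h.mem_of_centralizes hk.1 fun y hy => (hc y (h.le_N hy)).symm) ?_
  rw [br_eq_one.2 (hc x hR.hx)]
  exact one_mem _

theorem pow_mem_two {n : Ω} (hn : n ∈ normalizerIn S E) : n ^ p ∈ dTwo E z c := by
  have hN : ∀ t ∈ ({x, e, z, c} ∪ (frE E : Set Ω)), t ∈ normalizerIn S E := fun t ht =>
    (hR.closure_gen h).le (Subgroup.subset_closure ht)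
  rw [← hR.closure_gen h] at hn
  refine gen_pow (T := ({x, e, z, c} ∪ (frE E : Set Ω))) ?_
    (fun u hu v hv => hR.one_le_two h (hR.br_mem_one h (hN u hu) (hN v hv))) ?_ n hn
  · intro k hk
    rw [hR.closure_gen h] at hk
    exact hR.cj_two_mem h hk
  · rintro t ((rfl | rfl | rfl | rfl) | ht)
    · refine hR.mem_two_of_br h (h.pow_mem hR.hx) ?_
      rw [br_eq_one.2 (Commute.self_pow t p).eq]
      exact one_mem _
    · rw [hR.ep]; exact one_mem _
    · rw [hR.zp]; exact one_mem _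
    · exact hR.fr_le_two h (hR.c_pow h)
    · exact hR.fr_le_two h (hR.fr_pow h ht)

theorem deep_le : Subgroup.closure (deepSet S E p) ≤ frE E := by
  rw [Subgroup.closure_le]
  rintro w (⟨k, hk, hkc, rfl⟩ | ⟨u, hu, v, hv, d, hd, rfl⟩)
  · exact pow_mem_frE h.hS h.le (hR.two_le_E h (hR.central_mem_two h hk hkc))
  · exact br_comm_mem (hR.br_two h hd (hR.one_le_two h (hR.br_mem_one h hu hv)))

theorem mor_fr {φ : Ω → Ω} (hφ : Mor F (normalizerIn S E) φ)
    (hN : ∀ n ∈ normalizerIn S E, φ n ∈ normalizerIn S E) : ∀ k ∈ frE E, φ k ∈ frE E := by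
  intro k hk
  have him := hφ.im_self hN
  have h1 : im (Subgroup.closure (deepSet S E p)) φ ≤ frE E := by
    refine im_le_iff.2 fun y hy => ?_
    induction hy using Subgroup.closure_induction with
    | mem w hw =>
      refine hR.deep_le h (Subgroup.subset_closure ?_)
      rcases hw with ⟨q, hq, hqc, rfl⟩ | ⟨u, hu, v, hv, d, hd, rfl⟩
      · refine Or.inl ⟨φ q, hN q hq, fun n hn => ?_, mor_pow hφ hq p⟩
        rw [← him] at hn
        obtain ⟨m, hm, rfl⟩ := hφ.mem_im.1 hn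
        rw [← hφ.map_mul hm hq, ← hφ.map_mul hq hm, hqc m hm]
      · refine Or.inr ⟨φ u, hN u hu, φ v, hN v hv, φ d, hN d hd, ?_⟩
        have hb : br u v ∈ normalizerIn S E :=
          hR.two_le_N h (hR.one_le_two h (hR.br_mem_one h hu hv))
        rw [mor_br hφ hb hd, mor_br hφ hu hv]
    | one => rw [hφ.map_one]; exact one_mem _
    | mul u v hu hv ihu ihv =>
      rw [hφ.map_mul (h.le_N (frE_le (hR.deep_le h hu))) (h.le_N (frE_le (hR.deep_le h hv)))]
      exact mul_mem ihu ihv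
    | inv u hu ihu =>
      rw [hφ.map_inv (h.le_N (frE_le (hR.deep_le h hu)))]
      exact inv_mem ihu
  exact h1 (apply_mem_im (hR.fr_deep hk))

theorem mor_one {φ : Ω → Ω} (hφ : Mor F (normalizerIn S E) φ)
    (hN : ∀ n ∈ normalizerIn S E, φ n ∈ normalizerIn S E) : ∀ d ∈ dOne E z, φ d ∈ dOne E z := by
  intro d hd
  have hfr := hR.mor_fr h hφ hN
  have h1 : im (dOne E z) φ ≤ dOne E z := by
    refine im_le_iff.2 fun y hy => ?_
    obtain ⟨f, hf, i, rfl⟩ := exists_mul_pow h.hS (frE_le.trans h.le) (h.le hR.hz)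
      (fun _ hb => cj_mem_frE (h.le_N hR.hz) hb) hy
    have hzN := h.le_N hR.hz
    have hφz : φ z = br (φ x) (φ e) := by
      rw [← mor_br hφ hR.hx (h.le_N hR.he), br_eq_cj, ← hR.z_eq]
    rw [hφ.map_mul (h.le_N (frE_le hf)) (_root_.pow_mem hzN i), mor_pow hφ hzN, hφz]
    exact mul_mem (hR.fr_le_one h (hfr f hf))
      (_root_.pow_mem (hR.br_mem_one h (hN x hR.hx) (hN e (h.le_N hR.he))) i)
  exact h1 (apply_mem_im hd)

theorem mor_two {φ : Ω → Ω} (hφ : Mor F (normalizerIn S E) φ)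
    (hN : ∀ n ∈ normalizerIn S E, φ n ∈ normalizerIn S E) : ∀ d ∈ dTwo E z c, φ d ∈ dTwo E z c := by
  intro d hd
  obtain ⟨d₁, hd₁, i, rfl⟩ := exists_mul_pow h.hS ((hR.one_le_E h).trans h.le) (h.le hR.hc)
    (hR.cj_one_mem h (h.le_N hR.hc)) hd
  have hcN := h.le_N hR.hc
  rw [hφ.map_mul (h.le_N (hR.one_le_E h hd₁)) (_root_.pow_mem hcN i), mor_pow hφ hcN]
  refine mul_mem (hR.one_le_two h (hR.mor_one h hφ hN d₁ hd₁))
    (_root_.pow_mem (hR.central_mem_two h (hN c hcN) fun n hn => ?_) i)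
  rw [← hφ.im_self hN] at hn
  obtain ⟨m, hm, rfl⟩ := hφ.mem_im.1 hn
  rw [← hφ.map_mul hm hcN, ← hφ.map_mul hcN hm, hR.c_cent m hm]

/-- The layers of a conjugate of `N_S(E)`. -/
theorem layer {f : Ω → Ω} (hf : Mor F (normalizerIn S E) f) :
    ∃ w ∈ im (normalizerIn S E) f, w ∉ im (dTwo E z c) f ∧
      (∀ s ∈ normalizerIn S (im (normalizerIn S E) f), br s w ∈ im (dTwo E z c) f) ∧
      (∀ s ∈ normalizerIn S (im (normalizerIn S E) f), ∀ y ∈ im (normalizerIn S E) f,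
        br s y ∈ im (dTwo E z c) f ⊔ Subgroup.zpowers w) ∧
      (∀ s ∈ normalizerIn S (im (normalizerIn S E) f), ∀ y ∈ im (dTwo E z c) f,
        cj s y ∈ im (dTwo E z c) f) ∧
      Nat.card ↥(im (dTwo E z c) f ⊔ Subgroup.zpowers w) = p * Nat.card (dTwo E z c) ∧
      (∀ s ∈ normalizerIn S (im (normalizerIn S E) f),
        br s (f e) ∈ im (dTwo E z c) f → s ∈ im (normalizerIn S E) f) ∧
      Nat.card (normalizerIn S (im (normalizerIn S E) f)) ≤ p * Nat.card (normalizerIn S E) := by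
  classical
  have hp := (Fact.out : p.Prime)
  set N := normalizerIn S E
  set D₀ := dTwo E z c
  set Nf := im N f
  set Df := im D₀ f
  set T := normalizerIn S Nf
  have hTS : T ≤ S := inf_le_left
  haveI : Finite T := finite_of_le hTS
  have hT : IsPGroup p T := h.hS.to_le hTS
  have hNS : Nf ≤ S := hf.im_le
  have hNT : Nf ≤ T := le_normalizerIn hNS
  have hDN : Df ≤ Nf := im_mono (hR.two_le_N h)
  obtain ⟨g, hg, hgf, hfg, hgmem⟩ := hf.exists_inv
  -- invariance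
  have hND : ∀ s ∈ T, ∀ y ∈ Df, cj s y ∈ Df := by
    intro s hs y hy
    obtain ⟨d, hd, rfl⟩ := (hf.restrict_to (hR.two_le_N h)).mem_im.1 hy
    have hφ : Mor F N (g ∘ (cj s ∘ f)) :=
      (hf.comp (mor_cj hNS hs.1) fun u hu => apply_mem_im hu).comp hg fun u hu =>
        cj_mem_of_normalizer hs.2 (apply_mem_im hu)
    have hφN : ∀ u ∈ N, (g ∘ (cj s ∘ f)) u ∈ N := fun u hu =>
      hgmem _ (cj_mem_of_normalizer hs.2 (apply_mem_im hu))
    have h1 := hR.mor_two h hφ hφN d hd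
    have h2 : cj s (f d) ∈ Nf := cj_mem_of_normalizer hs.2 (apply_mem_im (hR.two_le_N h hd))
    rw [← hfg _ h2]
    exact apply_mem_im h1
  have hNn : ∀ s ∈ T, ∀ y ∈ Nf, cj s y ∈ Nf := fun s hs y hy => cj_mem_of_normalizer hs.2 hy
  have hcN : Nat.card Nf = p * (p * Nat.card D₀) := by rw [hf.card_im, hR.card_two_N h]
  have hcD : Nat.card Df = Nat.card D₀ := (hf.restrict_to (hR.two_le_N h)).card_im
  haveI := finite_of_le (h.le.trans' (hR.two_le_E h))
  have hD0 : 0 < Nat.card D₀ := Nat.card_pos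
  have hlt : Df < Nf := lt_of_le_not_ge hDN fun hge => by
    have h1 := congrArg (fun K : Subgroup Ω => Nat.card K) (le_antisymm hDN hge)
    simp only [hcD, hcN] at h1
    nlinarith [hp.two_le, Nat.mul_le_mul hp.two_le hp.two_le]
  obtain ⟨w, hw, hwD, hwc⟩ := exists_central_mod hT hNT hlt hND hNn
  set M := Df ⊔ Subgroup.zpowers w
  have hMN : M ≤ Nf := sup_le hDN (Subgroup.zpowers_le.2 hw)
  have hwp : w ^ p ∈ Df := by
    obtain ⟨u, hu, rfl⟩ := hf.mem_im.1 hw
    rw [← mor_pow hf hu]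
    exact apply_mem_im (hR.pow_mem_two h hu)
  have hMc : Nat.card M = p * Nat.card D₀ := by
    rw [← hcD]
    exact le_antisymm (card_step h.hS (hDN.trans hNS) (hNS hw) (hND w (hNT hw)) hwp)
      (mul_card_le_of_lt h.hS (hMN.trans hNS) (lt_of_le_not_ge le_sup_left fun hge =>
        hwD (hge (Subgroup.mem_sup_right (Subgroup.mem_zpowers w)))))
  have hMn : ∀ s ∈ T, ∀ y ∈ M, cj s y ∈ M := fun s hs =>
    cj_mem_sup_zpowers (hND s hs) (mem_sup_of_br (hwc s hs))
  have hcomm : ∀ s ∈ T, ∀ y ∈ Nf, br s y ∈ M :=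
    step_comm hT hNT hMN hMn hNn (by rw [hcN, hMc])
  have hMD : ∀ s ∈ T, ∀ y ∈ M, br s y ∈ Df :=
    step_comm hT (hMN.trans hNT) le_sup_left hND hMn (by rw [hMc, hcD])
  -- the kernel of `s ↦ [s, f e]`
  have heN : f e ∈ Nf := apply_mem_im (h.le_N hR.he)
  have hker : ∀ s ∈ T, br s (f e) ∈ Df → s ∈ Nf := by
    intro s hs hb
    have hfE : Mor F E f := hf.restrict_to h.le_N
    have hsE : s ∈ normalizerIn S (im E f) := by
      refine ⟨hs.1, mem_normalizer_of_cj_le hfE.im_le fun y hy => ?_⟩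
      obtain ⟨v, hv, rfl⟩ := hfE.mem_im.1 hy
      have hle : E ≤ dTwo E z c ⊔ Subgroup.zpowers e := fun y hy => by
        obtain ⟨A, B, C, k, hk, rfl⟩ := hR.decomp y hy
        exact mul_mem (mul_mem (mul_mem
          (_root_.pow_mem (Subgroup.mem_sup_right (Subgroup.mem_zpowers e)) A)
          (_root_.pow_mem (Subgroup.mem_sup_left (hR.z_mem_two h)) B))
          (_root_.pow_mem (Subgroup.mem_sup_left (hR.c_mem_two h)) C))
          (Subgroup.mem_sup_left (hR.fr_le_two h hk))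
      obtain ⟨d, hd, i, rfl⟩ := exists_mul_pow h.hS ((hR.two_le_E h).trans h.le) (h.le hR.he)
        (hR.cj_two_mem h (h.le_N hR.he)) (hle hv)
      rw [hfE.map_mul (hR.two_le_E h hd) (_root_.pow_mem hR.he i), mor_pow hfE hR.he, cj_mul']
      refine mul_mem (im_mono (hR.two_le_E h) (hND s hs _ (apply_mem_im hd))) ?_
      rw [show cj s (f e ^ i) = cj s (f e) ^ i from map_pow (MulAut.conj s) (f e) i,
        show cj s (f e) = br s (f e) * f e by rw [br_eq_cj, inv_mul_cancel_right]]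
      exact _root_.pow_mem (mul_mem (im_mono (hR.two_le_E h) hb) (apply_mem_im hR.he)) i
    have hle : Nf ≤ normalizerIn S (im E f) := im_le_iff.2 fun n hn =>
      mor_normalizer_mem hf h.le rfl hn
    have heq : Nf = normalizerIn S (im E f) := by
      refine eq_of_le_of_card_ge inf_le_left hle ?_
      rw [hf.card_im]
      exact h.ess.2.1.2 _ (isConj_iff.2 ⟨f, hfE, rfl⟩)
    rw [heq]; exact hsE
  refine ⟨w, hw, hwD, hwc, hcomm, hND, hMc, hker, ?_⟩
  -- count
  let D' : Subgroup T := Df.subgroupOf T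
  haveI : D'.Normal := ⟨fun d hd s => by
    have := hND (s : Ω) s.2 (d : Ω) hd
    simpa [D', Subgroup.mem_subgroupOf, cj_apply] using this⟩
  let v : T := ⟨f e, hNT heN⟩
  let π := QuotientGroup.mk' D'
  have hcen : ∀ (s : T) (y : T), (y : Ω) ∈ M → π (s * y * s⁻¹) = π y := by
    intro s y hy
    rw [← mul_inv_eq_one, ← map_inv, ← map_mul, QuotientGroup.mk'_apply, QuotientGroup.eq_one_iff]
    exact hMD s s.2 y hy
  let ψ : T →* T ⧸ D' := MonoidHom.mk' (fun s => π (s * v * s⁻¹ * v⁻¹)) fun s t => by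
    show π (s * t * v * (s * t)⁻¹ * v⁻¹) = π (s * v * s⁻¹ * v⁻¹) * π (t * v * t⁻¹ * v⁻¹)
    have hb : ((t * v * t⁻¹ * v⁻¹ : T) : Ω) ∈ M := hcomm t t.2 (f e) heN
    have hbs : ((s * v * s⁻¹ * v⁻¹ : T) : Ω) ∈ M := hcomm s s.2 (f e) heN
    rw [show s * t * v * (s * t)⁻¹ * v⁻¹ =
      s * (t * v * t⁻¹ * v⁻¹) * s⁻¹ * (s * v * s⁻¹ * v⁻¹) by group, map_mul, hcen _ _ hb]
    have h2 := hcen (t * v * t⁻¹ * v⁻¹) _ hbs
    rw [map_mul, map_mul, map_inv, mul_inv_eq_iff_eq_mul] at h2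
    exact h2
  have hrange : Nat.card ψ.range ≤ p := by
    have h1 : ψ.range ≤ (M.subgroupOf T).map π := by
      rintro _ ⟨s, rfl⟩
      exact ⟨s * v * s⁻¹ * v⁻¹, hcomm s s.2 (f e) heN, rfl⟩
    refine (Subgroup.card_le_of_le h1).trans ?_
    have h2 : Nat.card ((M.subgroupOf T).map π) * Nat.card D' = Nat.card (M.subgroupOf T) := by
      have hk : (π.domRestrict (M.subgroupOf T)).ker = D'.subgroupOf (M.subgroupOf T) := by
        rw [MonoidHom.ker_domRestrict, QuotientGroup.ker_mk']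
      rw [← MonoidHom.domRestrict_range, ← Subgroup.index_ker, hk,
        ← (D'.subgroupOf (M.subgroupOf T)).index_mul_card,
        Nat.card_congr (Subgroup.subgroupOfEquivOfLe (H := D') (K := M.subgroupOf T)
          (fun d hd => Subgroup.mem_sup_left (S := Df) hd)).toEquiv]
    rw [Nat.card_congr (Subgroup.subgroupOfEquivOfLe (hMN.trans hNT)).toEquiv, hMc,
      Nat.card_congr (Subgroup.subgroupOfEquivOfLe (hDN.trans hNT)).toEquiv, hcD] at h2
    exact (Nat.eq_of_mul_eq_mul_right hD0 h2).le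
  have hkerc : Nat.card ψ.ker ≤ Nat.card N := by
    haveI := finite_of_le hNS
    rw [← hf.card_im, ← Nat.card_congr (Subgroup.subgroupOfEquivOfLe hNT).toEquiv]
    refine Subgroup.card_le_of_le fun s hs => hker s s.2 ?_
    exact (QuotientGroup.eq_one_iff (N := D') _).1 (MonoidHom.mem_ker.1 hs)
  rw [← ψ.ker.index_mul_card, Subgroup.index_ker]
  exact Nat.mul_le_mul hrange hkerc

end Frame

end Cfsg.Agent.NormalR3
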