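import Cfsg.Agent.Lib.Rank3Def34
import Cfsg.Agent.Lib.FusionSysSaturated
import Cfsg.Agent.Lib.FusionSysAlperin
import Cfsg.Agent.Lib.FusionSysNormal
import Cfsg.Agent.Lib.FusionSysChain
import Cfsg.Agent.Lib.FusionFrattini88
import Cfsg.Agent.Lib.FusionWeakAlperin

/-!
Foundations for the rank three fusion engine: maximal essential subgroups, images of subgroups
under automorphisms, the Frattini argument and the rank bound.
-/

set_option autoImplicit false
set_option linter.unusedSectionVars false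

namespace Cfsg.Agent.Rank3

open Cfsg.FusionSystem Cfsg.Agent.FusionSysBasic Cfsg.Agent.FusionSysSaturated
  Cfsg.Agent.FusionSysNormal Cfsg.Agent.FusionSysAlperin

universe u

variable {Ω : Type u} [Group Ω] {S : Subgroup Ω} {F : FusionSystem S} {p : ℕ}

/-! ### Images under automorphisms -/

/-- The image of a subgroup of `E` under an automorphism of `E`. -/
def img {E : Subgroup Ω} (α : MulAut E) (K : Subgroup Ω) : Subgroup Ω :=
  ((K.subgroupOf E).map α.toMonoidHom).map E.subtype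

theorem mem_img {E : Subgroup Ω} {α : MulAut E} {K : Subgroup Ω} (hK : K ≤ E) {y : Ω} :
    y ∈ img α K ↔ ∃ x ∈ K, afun α x = y := by
  simp only [img, Subgroup.mem_map, Subgroup.mem_subgroupOf]
  constructor
  · rintro ⟨_, ⟨x, hx, rfl⟩, rfl⟩
    exact ⟨x, hx, afun_coe α x⟩
  · rintro ⟨x, hx, rfl⟩
    exact ⟨α ⟨x, hK hx⟩, ⟨⟨x, hK hx⟩, hx, rfl⟩, (afun_apply α (hK hx)).symm⟩

theorem img_le {E : Subgroup Ω} (α : MulAut E) (K : Subgroup Ω) : img α K ≤ E :=
  Subgroup.map_subtype_le _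

theorem afun_mem_img {E : Subgroup Ω} (α : MulAut E) {K : Subgroup Ω} (hK : K ≤ E) {x : Ω}
    (hx : x ∈ K) : afun α x ∈ img α K :=
  (mem_img hK).mpr ⟨x, hx, rfl⟩

theorem card_img {E : Subgroup Ω} (α : MulAut E) {K : Subgroup Ω} (hK : K ≤ E) :
    Nat.card (img α K) = Nat.card K := by
  rw [img, Subgroup.card_map_of_injective E.subtype_injective,
    Subgroup.card_map_of_injective α.injective]
  exact Nat.card_congr (Subgroup.subgroupOfEquivOfLe hK).toEquiv

theorem img_mono {E : Subgroup Ω} (α : MulAut E) {K L : Subgroup Ω} (h : K ≤ L) :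
    img α K ≤ img α L :=
  Subgroup.map_mono (Subgroup.map_mono (Subgroup.comap_mono h))

theorem img_mul {E : Subgroup Ω} (α β : MulAut E) {K : Subgroup Ω} (hK : K ≤ E) :
    img α (img β K) = img (α * β) K := by
  ext y
  rw [mem_img (img_le β K), mem_img hK]
  constructor
  · rintro ⟨z, hz, rfl⟩
    obtain ⟨x, hx, rfl⟩ := (mem_img hK).mp hz
    exact ⟨x, hx, afun_mul α β (hK hx)⟩
  · rintro ⟨x, hx, rfl⟩
    exact ⟨_, afun_mem_img β hK hx, (afun_mul α β (hK hx)).symm⟩

theorem img_one {E : Subgroup Ω} {K : Subgroup Ω} (hK : K ≤ E) : img (1 : MulAut E) K = K := by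
  ext y
  rw [mem_img hK]
  exact ⟨fun ⟨x, hx, e⟩ => e ▸ (afun_one (hK hx)).symm ▸ hx,
    fun hy => ⟨y, hy, afun_one (hK hy)⟩⟩

theorem img_le_of_invBy {E : Subgroup Ω} {A : Subgroup (MulAut E)} {K : Subgroup Ω}
    (hK : K ≤ E) (h : InvBy A K) {α : MulAut E} (hα : α ∈ A) : img α K ≤ K := fun y hy => by
  obtain ⟨x, hx, rfl⟩ := (mem_img hK).mp hy
  exact h α hα x hx

theorem img_eq_of_invBy {E : Subgroup Ω} {A : Subgroup (MulAut E)} {K : Subgroup Ω}
    (hK : K ≤ E) (h : InvBy A K) {α : MulAut E} (hα : α ∈ A) : img α K = K := by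
  refine le_antisymm (img_le_of_invBy hK h hα) ?_
  have h1 := img_mono α (img_le_of_invBy hK h (inv_mem hα))
  rwa [img_mul _ _ hK, mul_inv_cancel, img_one hK] at h1

theorem InvBy.mono {E : Subgroup Ω} {A B : Subgroup (MulAut E)} {K : Subgroup Ω}
    (h : InvBy A K) (hB : B ≤ A) : InvBy B K :=
  fun α hα => h α (hB hα)

theorem InvBy.inf {E : Subgroup Ω} {A : Subgroup (MulAut E)} {K L : Subgroup Ω}
    (h : InvBy A K) (h' : InvBy A L) : InvBy A (K ⊓ L) :=
  fun α hα x hx => ⟨h α hα x hx.1, h' α hα x hx.2⟩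

theorem invBy_of_img_le {E : Subgroup Ω} {A : Subgroup (MulAut E)} {K : Subgroup Ω} (hK : K ≤ E)
    (h : ∀ α ∈ A, img α K ≤ K) : InvBy A K :=
  fun α hα _ hx => h α hα (afun_mem_img α hK hx)

theorem invBy_sup {E : Subgroup Ω} {A : Subgroup (MulAut E)} {K L : Subgroup Ω} (hK : K ≤ E)
    (hL : L ≤ E) (h : InvBy A K) (h' : InvBy A L) : InvBy A (K ⊔ L) := by
  refine invBy_of_img_le (sup_le hK hL) fun α hα => ?_
  rw [img, Subgroup.subgroupOf_sup hK hL, Subgroup.map_sup, Subgroup.map_sup]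
  exact sup_le_sup (img_le_of_invBy hK h hα) (img_le_of_invBy hL h' hα)

/-- An automorphism group generated by automorphisms mapping `K` into itself leaves `K`
invariant. -/
theorem invBy_closure {E : Subgroup Ω} [Finite E] {T : Set (MulAut E)} {K : Subgroup Ω}
    (hK : K ≤ E) (h : ∀ α ∈ T, ∀ x ∈ K, afun α x ∈ K) : InvBy (Subgroup.closure T) K := by
  haveI : Finite K := Finite.of_injective _ (Subgroup.inclusion_injective hK)
  have key : ∀ α ∈ Subgroup.closure T, img α K = K := by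
    intro α hα
    induction hα using Subgroup.closure_induction with
    | mem β hβ =>
      refine Subgroup.eq_of_le_of_card_ge (fun y hy => ?_) (card_img β hK).ge
      obtain ⟨x, hx, rfl⟩ := (mem_img hK).mp hy
      exact h β hβ x hx
    | one => exact img_one hK
    | mul a b _ _ iha ihb => rw [← img_mul a b hK, ihb, iha]
    | inv a _ iha =>
      conv_lhs => rw [← iha]
      rw [img_mul _ _ hK, inv_mul_cancel, img_one hK]
  exact invBy_of_img_le hK fun α hα => (key α hα).le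

theorem invBy_omZ {E : Subgroup Ω} (A : Subgroup (MulAut E)) : InvBy A (OmZ p E) := by
  rintro α - x ⟨hx, hxp, hxc⟩
  refine ⟨afun_mem α hx, ?_, fun y hy => ?_⟩
  · have h : (⟨x, hx⟩ : E) ^ p = 1 := Subtype.ext hxp
    rw [afun_apply α hx, ← Subgroup.coe_pow, ← map_pow, h, map_one, Subgroup.coe_one]
  · have h : (⟨x, hx⟩ : E) * α⁻¹ ⟨y, hy⟩ = α⁻¹ ⟨y, hy⟩ * ⟨x, hx⟩ :=
      Subtype.ext (hxc _ (α⁻¹ ⟨y, hy⟩).2)
    have h2 := congrArg (fun t => ((α t : E) : Ω)) h
    simpa [afun_apply α hx, map_mul] using h2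

/-! ### Rank -/

/-- An elementary abelian section of `S` has order at most `p ^ 3`. -/
theorem section_card (rk : Cfsg.SectionalPRankLE p 3 S) {K N : Subgroup Ω} (hKS : K ≤ S)
    (hN : N ≤ K) (hn : ∀ k ∈ K, ∀ y ∈ N, cj k y ∈ N)
    (hcomm : ∀ a ∈ K, ∀ b ∈ K, a * b * a⁻¹ * b⁻¹ ∈ N) (hpow : ∀ a ∈ K, a ^ p ∈ N) :
    Nat.card K ≤ p ^ 3 * Nat.card N := by
  let K' : Subgroup S := K.subgroupOf S
  let N' : Subgroup K' := (N.subgroupOf S).subgroupOf K'
  haveI : N'.Normal := ⟨fun y hy k => by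
    have := hn ((k : S) : Ω) k.2 ((y : S) : Ω) hy
    simpa [N', Subgroup.mem_subgroupOf, cj_apply] using this⟩
  have hab : IsMulCommutative (⊤ : Subgroup (K' ⧸ N')) := ⟨⟨fun a b => by
    refine Subtype.ext ?_
    obtain ⟨x, hx⟩ := QuotientGroup.mk_surjective (a : K' ⧸ N')
    obtain ⟨y, hy⟩ := QuotientGroup.mk_surjective (b : K' ⧸ N')
    rw [Subgroup.coe_mul, Subgroup.coe_mul, ← hx, ← hy, ← QuotientGroup.mk_mul,
      ← QuotientGroup.mk_mul, QuotientGroup.eq]
    have := hcomm _ (K.inv_mem (y : K').2) _ (K.inv_mem (x : K').2)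
    simpa [N', Subgroup.mem_subgroupOf, mul_inv_rev, mul_assoc] using this⟩⟩
  have h := rk K' N' ⊤ hab fun a _ => by
    obtain ⟨x, rfl⟩ := QuotientGroup.mk_surjective a
    rw [← QuotientGroup.mk_pow, QuotientGroup.eq_one_iff]
    have := hpow _ (x : K').2
    simpa [N', Subgroup.mem_subgroupOf] using this
  rw [Subgroup.card_top] at h
  have hK : Nat.card K' = Nat.card K := Nat.card_congr (Subgroup.subgroupOfEquivOfLe hKS).toEquiv
  have hNc : Nat.card N' = Nat.card N := by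
    refine (Nat.card_congr (Subgroup.subgroupOfEquivOfLe ?_).toEquiv).trans
      (Nat.card_congr (Subgroup.subgroupOfEquivOfLe (hN.trans hKS)).toEquiv)
    exact fun x hx => hN hx
  rw [← hK, ← hNc, N'.card_eq_card_quotient_mul_card_subgroup]
  exact Nat.mul_le_mul_right _ h

/-- An elementary abelian subgroup of `S` has order at most `p ^ 3`. -/
theorem elem_card_le (rk : Cfsg.SectionalPRankLE p 3 S) {A : Subgroup Ω} (hAS : A ≤ S)
    (hc : ∀ a ∈ A, ∀ b ∈ A, a * b = b * a) (hp : ∀ a ∈ A, a ^ p = 1) :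
    Nat.card A ≤ p ^ 3 := by
  have := section_card rk (N := ⊥) hAS bot_le
    (fun k _ y hy => by rw [Subgroup.mem_bot.mp hy]; simp [cj_apply])
    (fun a ha b hb => by rw [Subgroup.mem_bot, hc a ha b hb]; group)
    (fun a ha => Subgroup.mem_bot.mpr (hp a ha))
  simpa using this

theorem commute_closure {T : Set Ω} (h : ∀ a ∈ T, ∀ b ∈ T, a * b = b * a) :
    ∀ a ∈ Subgroup.closure T, ∀ b ∈ Subgroup.closure T, a * b = b * a := by
  have h1 : Subgroup.closure T ≤ Subgroup.centralizer T :=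
    (Subgroup.closure_le _).mpr fun a ha => Subgroup.mem_centralizer_iff.mpr fun b hb => h b hb a ha
  have h2 : Subgroup.closure T ≤ Subgroup.centralizer (Subgroup.closure T : Set Ω) :=
    (Subgroup.closure_le _).mpr fun a ha => Subgroup.mem_centralizer_iff.mpr fun b hb =>
      (Subgroup.mem_centralizer_iff.mp (h1 hb) a ha).symm
  exact fun a ha b hb => (Subgroup.mem_centralizer_iff.mp (h2 ha) b hb).symm

theorem elem_closure {T : Set Ω} (h : ∀ a ∈ T, ∀ b ∈ T, a * b = b * a)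
    (hp : ∀ a ∈ T, a ^ p = 1) : ∀ a ∈ Subgroup.closure T, a ^ p = 1 := by
  intro a ha
  induction ha using Subgroup.closure_induction with
  | mem a ha => exact hp a ha
  | one => exact one_pow p
  | mul a b ha hb iha ihb =>
    rw [(show Commute a b from commute_closure h a ha b hb).mul_pow, iha, ihb, one_mul]
  | inv a _ iha => rw [inv_pow, iha, inv_one]

/-- An element of order `p` commuting with an elementary abelian subgroup of order `p ^ 3` lies
in it. -/
theorem mem_of_commute [Finite S] [Fact p.Prime] (hS : IsPGroup p S)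
    (rk : Cfsg.SectionalPRankLE p 3 S) {A : Subgroup Ω} (hAS : A ≤ S)
    (hcard : Nat.card A = p ^ 3) (hc : ∀ a ∈ A, ∀ b ∈ A, a * b = b * a)
    (hp : ∀ a ∈ A, a ^ p = 1) {y : Ω} (hy : y ∈ S) (hyp : y ^ p = 1)
    (hyA : ∀ a ∈ A, y * a = a * y) : y ∈ A := by
  have hcT : ∀ a ∈ insert y (A : Set Ω), ∀ b ∈ insert y (A : Set Ω), a * b = b * a := by
    rintro a (rfl | ha) b (rfl | hb)
    · rfl
    · exact hyA b hb
    · exact (hyA a ha).symm
    · exact hc a ha b hb
  have hTS : Subgroup.closure (insert y (A : Set Ω)) ≤ S :=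
    (Subgroup.closure_le _).mpr (Set.insert_subset hy hAS)
  have h := elem_card_le rk hTS (commute_closure hcT)
    (elem_closure hcT (by rintro a (rfl | ha); exacts [hyp, hp a ha]))
  have he := eq_of_le_of_card_ge hTS
    (fun a ha => Subgroup.subset_closure (Set.mem_insert_of_mem _ ha)) (hcard ▸ h)
  rw [he]
  exact Subgroup.subset_closure (Set.mem_insert _ _)

theorem card_mul_le_of_disjoint [Finite S] {A B : Subgroup Ω} (hA : A ≤ S) (hB : B ≤ S)
    (hd : A ⊓ B = ⊥) : Nat.card A * Nat.card B ≤ Nat.card ↥(A ⊔ B) := by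
  haveI := finite_of_le (sup_le hA hB)
  rw [← Nat.card_prod]
  refine Nat.card_le_card_of_injective
    (fun x : A × B => (⟨(x.1 : Ω) * x.2, mul_mem (Subgroup.mem_sup_left x.1.2)
      (Subgroup.mem_sup_right x.2.2)⟩ : ↥(A ⊔ B))) ?_
  rintro ⟨a, b⟩ ⟨a', b'⟩ e
  have e' : (a : Ω) * b = a' * b' := congrArg Subtype.val e
  have hm : (a' : Ω)⁻¹ * a = b' * (b : Ω)⁻¹ := by
    rw [eq_mul_inv_iff_mul_eq, mul_assoc, e', inv_mul_cancel_left]
  have hmem : (a' : Ω)⁻¹ * a ∈ A ⊓ B :=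
    ⟨A.mul_mem (A.inv_mem a'.2) a.2, by rw [hm]; exact B.mul_mem b'.2 (B.inv_mem b.2)⟩
  rw [hd, Subgroup.mem_bot] at hmem
  have ha : (a' : Ω) = a := inv_mul_eq_one.mp hmem
  rw [ha] at e'
  exact Prod.ext (Subtype.ext ha.symm) (Subtype.ext (mul_left_cancel e'))

/-! ### Maximal essential subgroups -/

namespace Max

variable [Finite S] [Fact p.Prime] {E : Subgroup Ω}

theorem le (h : Max F p E) : E ≤ S := h.ess.1.1

theorem le_normalizer (h : Max F p E) : S ≤ Subgroup.normalizer (E : Set Ω) :=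
  fun g hg => mem_normalizer_of_cj_le h.le (h.normal g hg)

theorem fullyNormalized (h : Max F p E) : F.IsFullyNormalized E := h.ess.2.1

theorem finite (h : Max F p E) : Finite E := finite_of_le h.le

theorem mem_of_centralizes (h : Max F p E) {g : Ω} (hg : g ∈ S)
    (hc : ∀ x ∈ E, g * x = x * g) : g ∈ E := by
  refine centralizerIn_le_of_centric h.ess.1 (mem_centralizerIn.mpr ⟨hg, fun x hx => ?_⟩)
  rw [cj_apply, hc x hx, mul_inv_cancel_right]

theorem omZ_le_omZ (h : Max F p E) : OmZ p S ≤ OmZ p E := fun x hx =>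
  ⟨h.mem_of_centralizes hx.1 fun y hy => hx.2.2 y (h.le hy), hx.2.1,
    fun y hy => hx.2.2 y (h.le hy)⟩

theorem sup_zpowers (h : Max F p E) {x : Ω} (hx : x ∈ S) (hxE : x ∉ E) :
    E ⊔ Subgroup.zpowers x = S := by
  have hle : E ⊔ Subgroup.zpowers x ≤ S := sup_le h.le (Subgroup.zpowers_le.mpr hx)
  haveI := finite_of_le hle
  have hlt : E < E ⊔ Subgroup.zpowers x :=
    lt_of_le_not_ge le_sup_left fun e => hxE (e (Subgroup.mem_sup_right (Subgroup.mem_zpowers x)))
  refine eq_of_le_of_card_ge le_rfl hle ?_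
  obtain ⟨k, hk⟩ := Subgroup.card_dvd_of_le hlt.le
  have hdvd : Nat.card ↥(E ⊔ Subgroup.zpowers x) ∣ p * Nat.card E :=
    h.card_eq ▸ Subgroup.card_dvd_of_le hle
  haveI := h.finite
  have hE0 : 0 < Nat.card E := Nat.card_pos
  rw [hk, mul_comm (Nat.card E) k] at hdvd
  rcases (Nat.dvd_prime (Fact.out : p.Prime)).mp
    (Nat.dvd_of_mul_dvd_mul_right hE0 hdvd) with hk1 | hk1
  · exfalso
    exact hlt.ne (Subgroup.eq_of_le_of_card_ge hlt.le (by rw [hk, hk1, mul_one]))
  · rw [hk, hk1, h.card_eq, mul_comm]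

theorem exists_eq_mul (h : Max F p E) {x : Ω} (hx : x ∈ S) (hxE : x ∉ E) {y : Ω} (hy : y ∈ S) :
    ∃ e ∈ E, ∃ k : ℤ, y = e * x ^ k := by
  rw [← h.sup_zpowers hx hxE, ← SetLike.mem_coe, Subgroup.coe_mul_of_right_le_normalizer_left _ _
    (Subgroup.zpowers_le.mpr (h.le_normalizer hx))] at hy
  obtain ⟨e, he, z, ⟨k, rfl⟩, rfl⟩ := Set.mem_mul.mp hy
  exact ⟨e, he, k, rfl⟩

/-- Conjugation by an element of `S`, as an automorphism of `E`. -/
def conjAut (h : Max F p E) {g : Ω} (hg : g ∈ S) : MulAut E :=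
  nHom S E ⟨g, hg, h.le_normalizer hg⟩

theorem afun_conjAut (h : Max F p E) {g : Ω} (hg : g ∈ S) {x : Ω} (hx : x ∈ E) :
    afun (h.conjAut hg) x = cj g x :=
  afun_nHom _ hx

theorem conjAut_mem_autInducedBy (h : Max F p E) {g : Ω} (hg : g ∈ S) :
    h.conjAut hg ∈ autInducedBy S E :=
  (autInducedBy_eq_range S E).ge ⟨_, rfl⟩

theorem conjAut_mem (h : Max F p E) {g : Ω} (hg : g ∈ S) : h.conjAut hg ∈ F.autGroup E :=
  autInducedBy_le h.le (h.conjAut_mem_autInducedBy hg)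

theorem conjAut_mem_opp (h : Max F p E) (hS : IsPGroup p S) {g : Ω} (hg : g ∈ S) :
    h.conjAut hg ∈ opp F p E := by
  refine Subgroup.subset_closure ⟨h.conjAut_mem hg, ?_⟩
  haveI : Finite (F.autGroup E) := finite_autGroup E
  obtain ⟨k, hk⟩ := IsPGroup.iff_orderOf.mp (isPGroup_autInducedBy hS E)
    ⟨_, h.conjAut_mem_autInducedBy hg⟩
  exact ⟨k, by rwa [Subgroup.orderOf_mk] at hk⟩

theorem mem_of_conjAut_inn (h : Max F p E) {g : Ω} (hg : g ∈ S)
    (hi : h.conjAut hg ∈ Inn E) : g ∈ E :=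
  mem_of_nHom_mem_inn h.le (centralizerIn_le_of_centric h.ess.1) ⟨g, hg, h.le_normalizer hg⟩ hi

theorem cj_mem_of_inv (h : Max F p E) {K : Subgroup Ω} (hK : K ≤ E) (hinv : Inv F E K)
    {g : Ω} (hg : g ∈ S) {x : Ω} (hx : x ∈ K) : cj g x ∈ K := by
  rw [← h.afun_conjAut hg (hK hx)]
  exact hinv _ (h.conjAut_mem hg) x hx

theorem opp_conj (h : Max F p E) {a m : MulAut E} (ha : a ∈ F.autGroup E)
    (hm : m ∈ opp F p E) : a * m * a⁻¹ ∈ opp F p E := by
  have hle : (opp F p E).map (MulAut.conj a).toMonoidHom ≤ opp F p E := by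
    rw [opp, MonoidHom.map_closure]
    refine Subgroup.closure_mono ?_
    rintro _ ⟨b, ⟨hb, k, hk⟩, rfl⟩
    exact ⟨mul_mem (mul_mem ha hb) (inv_mem ha), k,
      (MulAut.conj a).orderOf_eq b ▸ hk⟩
  exact hle ⟨m, hm, rfl⟩

/-- The Frattini argument: a subgroup invariant in `S` and under `O^{p'}(Aut_F(E))` is invariant
under `Aut_F(E)`. -/
theorem inv_of_opp (h : Max F p E) (hS : IsPGroup p S) (hF : F.IsSaturated p) {K : Subgroup Ω}
    (hKE : K ≤ E) (hKS : Inv F S K) (hK : InvBy (opp F p E) K) : Inv F E K := by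
  intro α hα x hx
  obtain ⟨β, hβ, m, hm, -, rfl, f, hf, hfe⟩ := FusionFrattini88.frattini_ext hS hF h.fullyNormalized
    (opp F p E) (fun a ha m hm _ => h.opp_conj ha hm) (N := S)
    (le_inf le_rfl h.le_normalizer) (fun g hg => h.conjAut_mem_opp hS hg) hα
  rw [afun_mul _ _ (hKE hx), ← hfe _ (afun_mem m (hKE hx))]
  rw [sup_eq_right.mpr h.le] at hf
  have him : im S f = S := hf.im_self fun y hy => hf.apply_mem hy
  obtain ⟨γ, hγ, hγe⟩ := hf.exists_aut him
  rw [← hγe _ (h.le (afun_mem m (hKE hx)))]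
  exact hKS γ hγ _ (hK m hm x hx)

theorem stabilizer_le_inn (h : Max F p E) (hS : IsPGroup p S) {A : Subgroup (MulAut E)}
    (hA : A ≤ F.autGroup E) (hp : IsPGroup p A)
    (hn : ∀ α ∈ F.autGroup E, ∀ m ∈ A, α * m * α⁻¹ ∈ A) : A ≤ Inn E := by
  intro m hm
  rw [← (radical_of_essential hS h.ess).2]
  refine ⟨⟨m, hA hm⟩, ?_, rfl⟩
  refine (le_sSup (show A.subgroupOf (F.autGroup E) ∈
    {N : Subgroup (F.autGroup E) | N.Normal ∧ IsPGroup p N} from ⟨⟨fun n hn' a => hn a a.2 n hn'⟩,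
      hp.of_equiv (Subgroup.subgroupOfEquivOfLe hA).symm⟩) :
    _ ≤ pCore p (F.autGroup E)) hm

/-- The only automorphisms in `Aut_F(E)` centralising an invariant subgroup `X` and `E / X` are
inner. -/
theorem inn_of_stab (h : Max F p E) (hS : IsPGroup p S) {X : Subgroup Ω} (hX : X ≤ E)
    (hinv : Inv F E X) {α : MulAut E} (hα : α ∈ F.autGroup E)
    (h1 : ∀ x ∈ X, afun α x = x) (h2 : ∀ y ∈ E, y⁻¹ * afun α y ∈ X) : α ∈ Inn E := by
  haveI := h.finite
  let Y : ℕ → Subgroup Ω := fun i => if i = 0 then ⊥ else if i = 1 then X else E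
  have hYP : ∀ i ≤ 2, Y i ≤ E := fun i _ => by
    simp only [Y]; split_ifs <;> first | exact bot_le | exact hX | exact le_rfl
  have hYinv : ∀ a ∈ F.autGroup E, ∀ i ≤ 2, ∀ y ∈ Y i, afun a y ∈ Y i := by
    intro a ha i hi y hy
    interval_cases i
    · simp only [Y, if_true, Subgroup.mem_bot] at hy ⊢
      rw [hy, afun_apply a E.one_mem]
      exact congrArg Subtype.val a.map_one
    · exact hinv a ha y hy
    · exact afun_mem a hy
  refine h.stabilizer_le_inn hS (A := FusionSysChain.stabGroup (F.autGroup E) Y 2 hYP hYinv)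
    (fun a ha => ha.1) (FusionSysChain.isPGroup_stabGroup hS h.le rfl rfl ?_)
    (fun a ha m hm => FusionSysChain.stabGroup_normal ha hm) ⟨hα, ?_⟩
  · intro i hi
    interval_cases i <;> simp [Y, hX]
  · intro i hi y hy
    interval_cases i
    · simp only [Y, if_true, Nat.reduceAdd, one_ne_zero, if_false] at hy ⊢
      rw [h1 y hy, inv_mul_cancel]
      exact one_mem _
    · exact h2 y hy

end Max

end Cfsg.Agent.Rank3
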