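import Mathlib
import Cfsg.Agent.Lib.Rank3Found34
import Cfsg.Agent.Lib.Rank3Linear34
import Cfsg.Agent.Lib.Rank3Tv34

/-!
An element of `O^{p'}(Aut_F(E))` inverting the commutator with `S` on an invariant elementary
section, and its extension to `S`.
-/

set_option autoImplicit false
set_option linter.style.haveILetI false

namespace Cfsg.Agent.Rank3Tv34

variable {p : ℕ} [Fact p.Prime] {W : Type*} [AddCommGroup W] [Module (ZMod p) W]
  {G : Type*} [Group G] {ρ : G →* (W ≃ₗ[ZMod p] W)}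

/-- An element inverting the plane of two opposite transvections and centralising both of them. -/
theorem exists_neg_central (hρ : Function.Injective ρ) {t t' : G} {P P' : W}
    {φ φ' : W →ₗ[ZMod p] ZMod p} (ht : Tv ρ t P φ) (ht' : Tv ρ t' P' φ') (ha : φ P' ≠ 0)
    (hb : φ' P ≠ 0) :
    ∃ j ∈ Subgroup.closure {t, t'},
      (∀ x ∈ Submodule.span (ZMod p) (Set.range ![P, P']), ρ j x = -x) ∧ Commute j t := by
  set m := ((φ P')⁻¹).val
  set n := (-(φ' P)⁻¹).val
  set x := t ^ m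
  set y := t' ^ n
  have hx1 : ρ x P = P := by rw [ht.pow_apply, ht.ker, mul_zero, zero_smul, add_zero]
  have hx2 : ρ x P' = P' + P := by
    rw [ht.pow_apply, ZMod.natCast_zmod_val, inv_mul_cancel₀ ha, one_smul]
  have hy2 : ρ y P' = P' := by rw [ht'.pow_apply, ht'.ker, mul_zero, zero_smul, add_zero]
  have hy1 : ρ y P = P - P' := by
    rw [ht'.pow_apply, ZMod.natCast_zmod_val, neg_mul, inv_mul_cancel₀ hb, neg_smul, one_smul,
      sub_eq_add_neg]
  set w := x * y * x
  have hwP : ρ w P = -P' := by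
    rw [rho_mul, rho_mul, hx1, hy1, map_sub, hx1, hx2]
    abel
  have hwP' : ρ w P' = P := by
    rw [rho_mul, rho_mul, hx2, map_add, hy2, hy1, add_sub_cancel, hx1]
  have hwl : ∀ l, φ l = 0 → φ' l = 0 → ρ w l = l := by
    intro l h1 h2
    have e1 : ρ x l = l := by rw [ht.pow_apply, h1, mul_zero, zero_smul, add_zero]
    have e2 : ρ y l = l := by rw [ht'.pow_apply, h2, mul_zero, zero_smul, add_zero]
    rw [rho_mul, rho_mul, e1, e2, e1]
  have hU : ∀ a b : ZMod p, ρ (w * w) (a • P + b • P') = -(a • P + b • P') := fun a b => by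
    simp only [map_add, map_smul, rho_mul, hwP, hwP', map_neg, neg_add, smul_neg]
  refine ⟨w * w, ?_, fun v hv => ?_, eq_of_rho hρ fun v => ?_⟩
  · have hxm : x ∈ Subgroup.closure {t, t'} := pow_mem (Subgroup.subset_closure (by simp)) m
    have hym : y ∈ Subgroup.closure {t, t'} := pow_mem (Subgroup.subset_closure (by simp)) n
    exact mul_mem (mul_mem (mul_mem hxm hym) hxm) (mul_mem (mul_mem hxm hym) hxm)
  · obtain ⟨c, rfl⟩ := (Submodule.mem_span_range_iff_exists_fun _).1 hv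
    simp only [Fin.sum_univ_two, Matrix.cons_val_zero, Matrix.cons_val_one]
    exact hU _ _
  · obtain ⟨a, b, l, hl1, hl2, rfl⟩ : ∃ a b : ZMod p, ∃ l, φ l = 0 ∧ φ' l = 0 ∧
        v = a • P + b • P' + l := by
      refine ⟨φ' v / φ' P, φ v / φ P', v - ((φ' v / φ' P) • P + (φ v / φ P') • P'), ?_, ?_,
        (add_sub_cancel _ _).symm⟩
      · simp only [map_sub, map_add, map_smul, ht.ker, smul_eq_mul, mul_zero, zero_add]
        rw [div_mul_cancel₀ _ ha, sub_self]
      · simp only [map_sub, map_add, map_smul, ht'.ker, smul_eq_mul, mul_zero, add_zero]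
        rw [div_mul_cancel₀ _ hb, sub_self]
    have hjl : ρ (w * w) l = l := by rw [rho_mul, hwl l hl1 hl2, hwl l hl1 hl2]
    have htl : ρ t l = l := ht.fix hl1
    have htu : ρ t (a • P + b • P') = (a + b * φ P') • P + b • P' := by
      rw [map_add, map_smul, map_smul, ht.fix ht.ker, ht.eqn P']
      module
    have hUl : ∀ a b : ZMod p,
        ρ (w * w) (a • P + b • P' + l) = -(a • P + b • P') + l := fun a b => by
      rw [map_add, hU, hjl]
    rw [rho_mul _ t, rho_mul t, map_add (ρ t) _ l, htu, htl, hUl, hUl, map_add (ρ t) _ l, map_neg,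
      htu, htl]

/-- A nontrivial quadratic element of a space of dimension at most three is a transvection. -/
theorem exists_tv [Finite W] (hd : Module.finrank (ZMod p) W ≤ 3) {t : G}
    (hq : ∀ w, ρ t (ρ t w - w) = ρ t w - w) (hne : ∃ w, ρ t w ≠ w) :
    ∃ P, ∃ φ : W →ₗ[ZMod p] ZMod p, Tv ρ t P φ := by
  haveI : FiniteDimensional (ZMod p) W := Module.Finite.of_finite
  let N : W →ₗ[ZMod p] W := (ρ t).toLinearMap - LinearMap.id
  have hN : ∀ w, N w = ρ t w - w := fun _ => rfl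
  have hNN : ∀ w, N (N w) = 0 := fun w => by rw [hN (N w), sub_eq_zero]; exact hq w
  obtain ⟨w₀, hw₀⟩ := hne
  rw [← sub_ne_zero, ← hN] at hw₀
  set P := N w₀
  have hrank : Module.finrank (ZMod p) (LinearMap.range N) ≤ 1 := by
    have h1 : LinearMap.range N ≤ LinearMap.ker N := by rintro _ ⟨y, rfl⟩; exact hNN y
    have h2 := Submodule.finrank_mono h1
    have h3 := LinearMap.finrank_range_add_finrank_ker N
    omega
  have hspan : LinearMap.range N = ZMod p ∙ P :=
    (Submodule.eq_of_le_of_finrank_le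
      ((Submodule.span_singleton_le_iff_mem _ _).2 (LinearMap.mem_range_self N w₀))
      (by rwa [finrank_span_singleton hw₀])).symm
  obtain ⟨ψ, hψ⟩ : ∃ ψ : W →ₗ[ZMod p] ZMod p, ψ P = 1 := by
    obtain ⟨ψ, hψ⟩ : ∃ ψ : Module.Dual (ZMod p) W, ψ P ≠ 0 := by
      by_contra h
      push Not at h
      exact hw₀ ((Module.forall_dual_apply_eq_zero_iff (ZMod p) P).1 h)
    exact ⟨(ψ P)⁻¹ • ψ, by simp [hψ]⟩
  refine ⟨P, ψ.comp N, hw₀, fun e => ?_, ?_, fun w => ?_⟩
  · have : (ψ.comp N) w₀ = 1 := hψ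
    rw [e] at this
    exact one_ne_zero this.symm
  · show ψ (N P) = 0
    rw [hNN, map_zero]
  · obtain ⟨c, hc⟩ := Submodule.mem_span_singleton.1 (hspan ▸ LinearMap.mem_range_self N w)
    rw [LinearMap.comp_apply, ← hc, map_smul, hψ, smul_eq_mul, mul_one, hc, hN]
    abel

theorem sylOne_of_card {G : Type*} [Group G] [Finite G]
    (hsylcard : ∀ Q : Sylow p G, Nat.card (Q : Subgroup G) = p) : SylOne p G := by
  intro a b ha ha1 hb hb1 hab
  have hoa := orderOf_eq_prime ha ha1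
  have hob := orderOf_eq_prime hb hb1
  have hcomm' : ∀ (x : Subgroup.zpowers a) (y : Subgroup.zpowers b),
      Commute ((Subgroup.zpowers a).subtype x) ((Subgroup.zpowers b).subtype y) := by
    rintro ⟨_, i, rfl⟩ ⟨_, j, rfl⟩
    exact hab.zpow_zpow i j
  let m := MonoidHom.noncommCoprod (Subgroup.zpowers a).subtype (Subgroup.zpowers b).subtype hcomm'
  have hm : IsPGroup p m.range :=
    (IsPGroup.of_card (n := 2) (by
      rw [Nat.card_prod, Nat.card_zpowers, Nat.card_zpowers, hoa, hob, sq])).of_surjective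
      m.rangeRestrict m.rangeRestrict_surjective
  obtain ⟨Q, hQ⟩ := hm.exists_le_sylow
  have haQ : Subgroup.zpowers a ≤ (Q : Subgroup G) := Subgroup.zpowers_le.2
    (hQ ⟨(⟨a, Subgroup.mem_zpowers a⟩, 1), by simp [m]⟩)
  have hbQ : b ∈ (Q : Subgroup G) := hQ ⟨(1, ⟨b, Subgroup.mem_zpowers b⟩), by simp [m]⟩
  rwa [Subgroup.eq_of_le_of_card_ge haQ (by rw [hsylcard, Nat.card_zpowers, hoa])]

end Cfsg.Agent.Rank3Tv34

namespace Cfsg.Agent.Rank3

open Cfsg Cfsg.FusionSystem Cfsg.Agent.FusionSysBasic Cfsg.Agent.FusionSysSaturated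
  Cfsg.Agent.FusionSysAlperin Cfsg.Agent.Rank3Tv34

universe u

variable {Ω : Type u} [Group Ω] {S : Subgroup Ω} [Finite S] {p : ℕ} [Fact p.Prime]
  {F : FusionSystem S} {E : Subgroup Ω}

/-- Conjugation by elements of `S` on a maximal essential subgroup. -/
def Max.cHom (h : Max F p E) : S →* F.autGroup E where
  toFun s := ⟨h.conjAut s.2, h.conjAut_mem s.2⟩
  map_one' := Subtype.ext (afun_ext fun y hy => by
    rw [h.afun_conjAut _ hy]
    exact (cj_one y).trans (afun_one hy).symm)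
  map_mul' a b := Subtype.ext (afun_ext fun y hy => by
    show afun (h.conjAut (a * b).2) y = afun (h.conjAut a.2 * h.conjAut b.2) y
    rw [afun_mul _ _ hy, h.afun_conjAut _ hy, h.afun_conjAut _ (afun_mem _ hy),
      h.afun_conjAut _ hy, cj_cj]
    rfl)

theorem Max.afun_cHom (h : Max F p E) (s : S) {y : Ω} (hy : y ∈ E) :
    afun (h.cHom s : MulAut E) y = cj (s : Ω) y := h.afun_conjAut s.2 hy

theorem Max.cHom_inn (h : Max F p E) (s : S) (hs : (s : Ω) ∈ E) :
    (h.cHom s : MulAut E) ∈ Inn E :=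
  ⟨⟨(s : Ω), hs⟩, afun_ext fun y hy => by rw [h.afun_cHom s hy, afun_apply _ hy]; rfl⟩

theorem Max.cHom_mem_opp (h : Max F p E) (hS : IsPGroup p S) (s : S) :
    (h.cHom s : MulAut E) ∈ opp F p E := h.conjAut_mem_opp hS s.2

/-- An automorphism commuting with `Aut_S(E)` modulo `Inn(E)` extends to `S`, inducing the identity
on `S / E`. -/
theorem Max.exists_ext (h : Max F p E) (hS : IsPGroup p S) (hF : F.IsSaturated p) {j : MulAut E}
    (hj : j ∈ F.autGroup E)
    (hc : ∀ g (hg : g ∈ S), j * h.conjAut hg * j⁻¹ * (h.conjAut hg)⁻¹ ∈ Inn E) :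
    ∃ δ ∈ F.autGroup S, (∀ y ∈ E, afun δ y = afun j y) ∧ ∀ g ∈ S, g⁻¹ * afun δ g ∈ E := by
  have key : ∀ g (hg : g ∈ S), ∃ e ∈ E, ∀ y ∈ E, afun j (cj g y) = cj (g * e) (afun j y) := by
    intro g hg
    obtain ⟨e₀, he₀⟩ := hc g hg
    refine ⟨cj g⁻¹ (e₀ : Ω), h.normal _ (S.inv_mem hg) _ e₀.2, fun y hy => ?_⟩
    have h2 : j * h.conjAut hg = MulAut.conj e₀ * h.conjAut hg * j := by
      rw [he₀]; group
    have h3 : afun (j * h.conjAut hg) y = afun (MulAut.conj e₀ * h.conjAut hg * j) y := by rw [h2]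
    rw [afun_mul _ _ hy, afun_mul _ _ hy, afun_mul _ _ (afun_mem j hy), h.afun_conjAut _ hy,
      h.afun_conjAut _ (afun_mem j hy),
      afun_apply _ (h.normal g hg _ (afun_mem j hy))] at h3
    rw [h3]
    show (e₀ : Ω) * cj g (afun j y) * (e₀ : Ω)⁻¹ = _
    simp only [cj_apply]
    group
  have hrec := receptive_of_fullyNormalized hS hF h.fullyNormalized
  have hmor : Mor F E (afun j) := (mem_autGroup h.le).1 hj
  obtain ⟨f, hf, hfe⟩ := (receptive_iff.1 hrec).2 E (afun j) S hmor (im_afun j) le_rfl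
    h.le_normalizer (fun g hg => by
      obtain ⟨e, he, hge⟩ := key g hg
      exact ⟨g * e, S.mul_mem hg (h.le he), hge⟩)
  rw [sup_eq_right.2 h.le] at hf
  obtain ⟨δ, hδ, hδf⟩ := hf.exists_aut (hf.im_self fun y hy => hf.apply_mem hy)
  refine ⟨δ, hδ, fun y hy => by rw [hδf y (h.le hy), hfe y hy], fun g hg => ?_⟩
  obtain ⟨e, he, hge⟩ := key g hg
  have hfg : f g ∈ S := hf.apply_mem hg
  rw [hδf g hg]
  have hmem : (g * e)⁻¹ * f g ∈ E := by
    refine h.mem_of_centralizes (S.mul_mem (S.inv_mem (S.mul_mem hg (h.le he))) hfg) fun z hz => ?_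
    have hz' := afun_mem j⁻¹ hz
    have h1 := hf.map_cj hg (h.le hz')
    rw [hfe _ hz', hfe _ (h.normal g hg _ hz'), hge _ hz', afun_apply_inv j hz] at h1
    have h2 : cj ((g * e)⁻¹ * f g) z = z := by rw [← cj_cj, ← h1, cj_inv_cj]
    rwa [cj_apply, mul_inv_eq_iff_eq_mul] at h2
  have := E.mul_mem he hmem
  rwa [mul_inv_rev, mul_assoc, mul_inv_cancel_left] at this

/-- **Negation.** On an invariant elementary section of rank at most three on which `S` acts
quadratically with a moved axis, some `2`-element of `O^{p'}(Aut_F(E))` inverts the commutators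
with `S` and commutes with `Aut_S(E)`. -/
theorem Max.exists_neg_aut (h : Max F p E) (hS : IsPGroup p S) (hF : F.IsSaturated p)
    {V : Type u} [CommGroup V] [Finite V] (hexp : ∀ v : V, v ^ p = 1)
    (hV : Nat.card V ≤ p ^ 3) (r : F.autGroup E →* MulAut V)
    (hinn : ∀ α : F.autGroup E, (α : MulAut E) ∈ Inn E → r α = 1) {x : Ω} (hx : x ∈ S)
    (hxE : x ∉ E) (hq : ∀ v, r (h.cHom ⟨x, hx⟩) (r (h.cHom ⟨x, hx⟩) v / v) =
      r (h.cHom ⟨x, hx⟩) v / v)
    (hne : ∃ v, r (h.cHom ⟨x, hx⟩) v ≠ v)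
    (hmove : ∃ (α : F.autGroup E) (v : V), r (h.cHom ⟨x, hx⟩) v = v ∧
      r (h.cHom ⟨x, hx⟩) (r α v) ≠ r α v) :
    ∃ j : F.autGroup E, (j : MulAut E) ∈ opp F p E ∧ (∃ k : ℕ, orderOf (j : MulAut E) = 2 ^ k) ∧
      (∀ v, r j (r (h.cHom ⟨x, hx⟩) v / v) = (r (h.cHom ⟨x, hx⟩) v / v)⁻¹) ∧
      (Nat.card V ≤ p ^ 2 → ∀ v, r j v = v⁻¹) ∧ ∀ s : S, Commute (r j) (r (h.cHom s)) := by
  classical
  have hp := (Fact.out : p.Prime)
  haveI := finite_autGroup (F := F) E
  haveI : Module (ZMod p) (Additive V) :=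
    AddCommGroup.zmodModule fun w => by
      apply Additive.toMul.injective
      rw [toMul_nsmul]
      exact hexp w.toMul
  haveI : FiniteDimensional (ZMod p) (Additive V) := Module.Finite.of_finite
  have hcardV : Nat.card V = p ^ Module.finrank (ZMod p) (Additive V) := by
    rw [show Nat.card V = Nat.card (Additive V) from rfl,
      Module.natCard_eq_pow_finrank (K := ZMod p), Nat.card_zmod]
  have hd : Module.finrank (ZMod p) (Additive V) ≤ 3 :=
    (Nat.pow_le_pow_iff_right hp.one_lt).1 (hcardV ▸ hV)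
  let A := F.autGroup E
  let ρA : A →* (Additive V ≃ₗ[ZMod p] Additive V) := (linHom p).comp r
  let G := ρA.range
  let π : A →* G := ρA.rangeRestrict
  let ρ : G →* (Additive V ≃ₗ[ZMod p] Additive V) := G.subtype
  have hρ : Function.Injective ρ := G.subtype_injective
  have hπ : ∀ (α : A) (v : V), ρ (π α) (Additive.ofMul v) = Additive.ofMul (r α v) := fun _ _ => rfl
  haveI : Finite G := Finite.of_surjective π ρA.rangeRestrict_surjective
  set c := h.cHom ⟨x, hx⟩
  set t := π c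
  obtain ⟨P, φ, ht⟩ : ∃ P, ∃ φ : Additive V →ₗ[ZMod p] ZMod p, Tv ρ t P φ := by
    refine exists_tv hd (fun w => ?_) ?_
    · obtain ⟨v, rfl⟩ := Additive.ofMul.surjective w
      rw [hπ, ← ofMul_div, hπ]
      exact congrArg Additive.ofMul (hq v)
    · obtain ⟨v, hv⟩ := hne
      exact ⟨Additive.ofMul v, fun e => hv (Additive.ofMul.injective e)⟩
  -- the image of `Aut_S(E)` is generated by `t`
  let χ : S →* G := π.comp h.cHom
  have hχE : ∀ s : S, (s : Ω) ∈ E → χ s = 1 := fun s hs => by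
    refine Subtype.ext ?_
    show linHom p (r (h.cHom s)) = 1
    rw [hinn _ (h.cHom_inn s hs), map_one]
  have hrange : χ.range = Subgroup.zpowers t := by
    refine le_antisymm ?_ (Subgroup.zpowers_le.2 ⟨⟨x, hx⟩, rfl⟩)
    rintro _ ⟨s, rfl⟩
    obtain ⟨e, he, k, hk⟩ := h.exists_eq_mul hx hxE s.2
    rw [show s = ⟨e, h.le he⟩ * ⟨x, hx⟩ ^ k from Subtype.ext hk, map_mul, hχE _ he, one_mul,
      map_zpow]
    exact Subgroup.zpow_mem_zpowers t k
  obtain ⟨T₀, hT₀⟩ := (fullyAutomized_of_fullyNormalized hS hF h.fullyNormalized).2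
  have hTG : ((T₀.mapSurjective (f := π) ρA.rangeRestrict_surjective : Sylow p G) : Subgroup G) =
      χ.range := by
    rw [Sylow.coe_mapSurjective, hT₀, MonoidHom.range_comp]
    congr 1
    ext a
    rw [Subgroup.mem_subgroupOf, autInducedBy_eq_range, MonoidHom.mem_range, MonoidHom.mem_range]
    constructor
    · rintro ⟨g, hg⟩
      exact ⟨⟨g, g.2.1⟩, Subtype.ext hg⟩
    · rintro ⟨s, hs⟩
      exact ⟨⟨(s : Ω), s.2, h.le_normalizer s.2⟩, congrArg Subtype.val hs⟩
  have hsylcard : ∀ Q : Sylow p G, Nat.card (Q : Subgroup G) = p := fun Q => by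
    rw [Sylow.card_eq_multiplicity,
      ← Sylow.card_eq_multiplicity (T₀.mapSurjective (f := π) ρA.rangeRestrict_surjective), hTG,
      hrange, Nat.card_zpowers, ht.order hρ]
  have hfix : ∀ w, φ w = 0 ↔ ρ t w = w := fun w => by
    rw [ht.eqn, add_eq_left, smul_eq_zero, or_iff_left ht.cne]
  have hmove' : ¬ ∀ (g : G) (w : Additive V), φ w = 0 → φ (ρ g w) = 0 := by
    obtain ⟨α, v, hv, hne'⟩ := hmove
    intro hall
    refine hne' (Additive.ofMul.injective ?_)
    have := (hfix _).1 (hall (π α) (Additive.ofMul v) ((hfix _).2 (by rw [hπ, hv])))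
    rwa [hπ α, hπ] at this
  obtain ⟨g₀, ha, hb, -⟩ := exists_opposite hρ (sylOne_of_card hsylcard) ht hmove'
  set t' := g₀ * t * g₀⁻¹
  have ht' : Tv ρ t' (ρ g₀ P) _ := ht.conj g₀
  obtain ⟨j₁, hj₁, hjU, hjc⟩ := exists_neg_central hρ ht ht' ha (by simpa using hb)
  obtain ⟨β, hβ⟩ := ρA.rangeRestrict_surjective g₀
  obtain ⟨j₀, hj₀, hj₀π⟩ : ∃ j₀ : A, (j₀ : MulAut E) ∈ opp F p E ∧ π j₀ = j₁ := by
    have h1 : Subgroup.closure {t, t'} ≤ ((opp F p E).subgroupOf A).map π := by
      rw [Subgroup.closure_le]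
      rintro g (rfl | rfl)
      · exact ⟨c, h.cHom_mem_opp hS _, rfl⟩
      · exact ⟨β * c * β⁻¹, h.opp_conj β.2 (h.cHom_mem_opp hS _), by
          rw [map_mul, map_mul, map_inv, show π β = g₀ from hβ]⟩
    obtain ⟨a, ha', rfl⟩ := h1 hj₁
    exact ⟨a, ha', rfl⟩
  set N₀ := orderOf (j₀ : MulAut E)
  haveI := h.finite
  have hN0 : N₀ ≠ 0 := (orderOf_pos _).ne'
  set m := N₀ / 2 ^ N₀.factorization 2
  have hodd : ¬ 2 ∣ m := Nat.not_dvd_ordCompl Nat.prime_two hN0
  obtain ⟨i, hi⟩ : ∃ i, m = 2 * i + 1 := ⟨m / 2, by omega⟩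
  have hneg : ∀ w ∈ Submodule.span (ZMod p) (Set.range ![P, ρ g₀ P]),
      ρ (π (j₀ ^ m)) w = -w := by
    intro w hw
    have h2 : ∀ k : ℕ, ρ (j₁ ^ (2 * k)) w = w := by
      intro k
      induction k with
      | zero => rw [mul_zero, pow_zero, rho_one]
      | succ k ih =>
        rw [Nat.mul_succ, pow_add, rho_mul, sq, rho_mul, hjU w hw, map_neg, hjU w hw, neg_neg, ih]
    rw [map_pow, hj₀π, hi, pow_succ', rho_mul, h2, hjU w hw]
  refine ⟨j₀ ^ m, ?_, ⟨N₀.factorization 2, ?_⟩, fun v => ?_, fun hV2 v => ?_, fun s => ?_⟩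
  · rw [SubgroupClass.coe_pow]; exact pow_mem hj₀ m
  · rw [SubgroupClass.coe_pow, orderOf_pow, Nat.gcd_eq_right (Nat.ordCompl_dvd N₀ 2)]
    exact Nat.div_div_self (Nat.ordProj_dvd N₀ 2) hN0
  · apply Additive.ofMul.injective
    rw [← hπ, ofMul_inv]
    refine hneg _ ?_
    rw [ofMul_div, ← hπ, ht.eqn, add_sub_cancel_left]
    exact Submodule.smul_mem _ _ (Submodule.subset_span ⟨0, rfl⟩)
  · apply Additive.ofMul.injective
    rw [← hπ, ofMul_inv]
    refine hneg _ ?_
    have hli : LinearIndependent (ZMod p) ![P, ρ g₀ P] := by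
      rw [Fintype.linearIndependent_iff]
      intro a hsum
      simp only [Fin.sum_univ_two, Matrix.cons_val_zero, Matrix.cons_val_one] at hsum
      have h1 : a 1 = 0 := by
        have := congrArg φ hsum
        simp only [map_add, map_smul, ht.ker, map_zero, smul_eq_mul, mul_zero, zero_add,
          mul_eq_zero, ha, or_false] at this
        exact this
      rw [h1, zero_smul, add_zero, smul_eq_zero] at hsum
      intro i; fin_cases i
      · exact hsum.resolve_right ht.cne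
      · exact h1
    have htop : Submodule.span (ZMod p) (Set.range ![P, ρ g₀ P]) = ⊤ :=
      Submodule.eq_of_le_of_finrank_le le_top (by
        rw [finrank_top, finrank_span_eq_card hli, Fintype.card_fin]
        exact (Nat.pow_le_pow_iff_right hp.one_lt).1 (hcardV ▸ hV2))
    rw [htop]
    exact Submodule.mem_top
  · have hcomm : Commute (π (j₀ ^ m)) (χ s) := by
      obtain ⟨k, hk⟩ := Subgroup.mem_zpowers_iff.1 (hrange.le ⟨s, rfl⟩)
      rw [map_pow, hj₀π, ← hk]
      exact (hjc.pow_left m).zpow_right k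
    refine MulEquiv.ext fun v => Additive.ofMul.injective ?_
    rw [MulAut.mul_apply, MulAut.mul_apply, ← hπ, ← hπ, ← hπ, ← hπ, ← rho_mul, ← rho_mul]
    exact congrArg (fun g => ρ g (Additive.ofMul v)) hcomm.eq

end Cfsg.Agent.Rank3
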