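import Mathlib
import Cfsg.Agent.Lib.Rank3Tv34
import Cfsg.Agent.Lib.Rank3PairNeg34

/-!
Linear tools for S5180: opposite transvections give a torus element with a natural basis, and an
element acting on a space of dimension three that fixes a line and is quadratic modulo it is
quadratic.
-/

set_option autoImplicit false
set_option linter.style.haveILetI false

namespace Cfsg.Agent.NormalR3Lin20

open Cfsg.Agent.Rank3Tv34

variable {p : ℕ} [Fact p.Prime] {W : Type*} [AddCommGroup W] [Module (ZMod p) W]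
  {G : Type*} [Group G] {ρ : G →* (W ≃ₗ[ZMod p] W)}

/-- A transvection whose cyclic group is not normal moves its axis. -/
theorem moves_axis [Finite G] (hρ : Function.Injective ρ) (hsyl : SylOne p G)
    {t : G} {P : W} {φ : W →ₗ[ZMod p] ZMod p} (ht : Tv ρ t P φ)
    (hn : ¬ (Subgroup.zpowers t).Normal) :
    ¬ ∀ (g : G) (x : W), φ x = 0 → φ (ρ g x) = 0 := by
  intro h
  refine hn ⟨fun n hnm g => ?_⟩
  obtain ⟨i, rfl⟩ := Subgroup.mem_zpowers_iff.1 hnm
  obtain ⟨k, hk⟩ := centre_mem_of_incident hρ hsyl ht (ht.conj g) (Or.inl (h g P ht.ker))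
  rw [← conj_zpow, hk]
  exact Subgroup.zpow_mem _ (pow_mem (Subgroup.mem_zpowers t) k) i

/-- The torus of the plane of two opposite transvections. -/
theorem exists_torus [Finite W] [Finite G] (hρ : Function.Injective ρ) (hsyl : SylOne p G)
    (hd : Module.finrank (ZMod p) W = 3) {t : G} {P : W} {φ : W →ₗ[ZMod p] ZMod p}
    (ht : Tv ρ t P φ) (hn : ¬ (Subgroup.zpowers t).Normal) (a : ZMod p) (ha : a ≠ 0) :
    ∃ e₀ z c : W, ∃ τ : G, Submodule.span (ZMod p) (Set.range ![e₀, z, c]) = ⊤ ∧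
      ρ t e₀ = e₀ + z ∧ ρ t z = z ∧ ρ t c = c ∧
      ρ τ e₀ = a⁻¹ • e₀ ∧ ρ τ z = a • z ∧ ρ τ c = c ∧
      τ * t * τ⁻¹ = t ^ (a ^ 2).val := by
  haveI : FiniteDimensional (ZMod p) W := Module.Finite.of_finite
  obtain ⟨g₀, h1, h2, -⟩ := exists_opposite hρ hsyl ht (moves_axis hρ hsyl ht hn)
  obtain ⟨P', hP'⟩ : ∃ q, q = ρ g₀ P := ⟨_, rfl⟩
  rw [← hP'] at h1
  set t' := g₀ * t * g₀⁻¹
  set φ' : W →ₗ[ZMod p] ZMod p := φ.comp (ρ g₀⁻¹).toLinearMap
  have ht' : Tv ρ t' P' φ' := hP' ▸ ht.conj g₀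
  have hb : φ' P ≠ 0 := h2
  obtain ⟨e₀, he₀⟩ : ∃ e, e = P' := ⟨_, rfl⟩
  obtain ⟨z, hz⟩ : ∃ q, q = φ P' • P := ⟨_, rfl⟩
  have tz : ρ t z = z := by rw [hz, map_smul, ht.fix ht.ker]
  have te : ρ t e₀ = e₀ + z := by rw [he₀, ht.eqn, hz]
  have t'e : ρ t' e₀ = e₀ := by rw [he₀]; exact ht'.fix ht'.ker
  have hzb : φ' z ≠ 0 := by
    rw [hz, map_smul, smul_eq_mul]; exact mul_ne_zero h1 hb
  -- the complement
  obtain ⟨c, hc1, hc2, hc⟩ : ∃ c, φ c = 0 ∧ φ' c = 0 ∧
      c ∉ Submodule.span (ZMod p) (Set.range ![e₀, z]) := by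
    obtain ⟨v, hv⟩ : ∃ v, v ∉ Submodule.span (ZMod p) (Set.range ![e₀, z]) := by
      by_contra h
      push Not at h
      have e : Submodule.span (ZMod p) (Set.range ![e₀, z]) = ⊤ := eq_top_iff.2 fun v _ => h v
      have := finrank_range_le_card (R := ZMod p) ![e₀, z]
      rw [Set.finrank, e, finrank_top, hd, Fintype.card_fin] at this
      omega
    refine ⟨v - ((φ v / φ P') • e₀ + (φ' v / φ' z) • z), ?_, ?_, fun h => hv ?_⟩
    · simp only [map_sub, map_add, map_smul, hz, he₀, ht.ker, smul_eq_mul, mul_zero, add_zero]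
      rw [div_mul_cancel₀ _ h1, sub_self]
    · have h0 : φ' e₀ = 0 := by rw [he₀]; exact ht'.ker
      simp only [map_sub, map_add, map_smul, h0, smul_eq_mul, mul_zero, zero_add]
      rw [div_mul_cancel₀ _ hzb, sub_self]
    · have h3 : (φ v / φ P') • e₀ + (φ' v / φ' z) • z ∈
          Submodule.span (ZMod p) (Set.range ![e₀, z]) :=
        Submodule.add_mem _ (Submodule.smul_mem _ _ (Submodule.subset_span ⟨0, rfl⟩))
          (Submodule.smul_mem _ _ (Submodule.subset_span ⟨1, rfl⟩))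
      simpa using Submodule.add_mem _ h h3
  have hspan : Submodule.span (ZMod p) (Set.range ![e₀, z, c]) = ⊤ := by
    refine LinearIndependent.span_eq_top_of_card_eq_finrank ?_ (by simp [hd])
    rw [Fintype.linearIndependent_iff]
    intro g hg
    simp only [Fin.sum_univ_three, Matrix.cons_val_zero, Matrix.cons_val_one,
      Matrix.cons_val_two, Matrix.tail_cons, Matrix.head_cons] at hg
    have g2 : g 2 = 0 := by
      by_contra g2
      refine hc ?_
      have : g 2 • c = -(g 0 • e₀ + g 1 • z) := eq_neg_of_add_eq_zero_right hg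
      rw [← Submodule.smul_mem_iff _ g2, this]
      exact Submodule.neg_mem _ (Submodule.add_mem _
        (Submodule.smul_mem _ _ (Submodule.subset_span ⟨0, rfl⟩))
        (Submodule.smul_mem _ _ (Submodule.subset_span ⟨1, rfl⟩)))
    rw [g2, zero_smul, add_zero] at hg
    have g0 : g 0 = 0 := by
      have := congrArg φ hg
      simp only [map_add, map_smul, map_zero, hz, ht.ker, he₀, smul_eq_mul, mul_zero, add_zero,
        mul_eq_zero] at this
      exact this.resolve_right h1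
    have g1 : g 1 = 0 := by
      have := congrArg φ' hg
      have h0 : φ' e₀ = 0 := by rw [he₀]; exact ht'.ker
      simp only [map_add, map_smul, map_zero, h0, smul_eq_mul, mul_zero, zero_add,
        mul_eq_zero] at this
      exact this.resolve_right hzb
    intro i
    fin_cases i <;> assumption
  -- powers
  have hu : ∀ k : ZMod p, ρ (t ^ k.val) e₀ = e₀ + k • z ∧ ρ (t ^ k.val) z = z ∧
      ρ (t ^ k.val) c = c := fun k => by
    refine ⟨?_, ?_, ?_⟩
    · rw [ht.pow_apply, ZMod.natCast_zmod_val, hz, smul_smul, he₀]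
    · rw [ht.pow_apply, hz, map_smul, ht.ker, smul_zero, mul_zero, zero_smul, add_zero]
    · rw [ht.pow_apply, hc1, mul_zero, zero_smul, add_zero]
  have hv : ∀ k : ZMod p, ρ (t' ^ (k / φ' z).val) e₀ = e₀ ∧
      ρ (t' ^ (k / φ' z).val) z = z + k • e₀ ∧ ρ (t' ^ (k / φ' z).val) c = c := fun k => by
    refine ⟨?_, ?_, ?_⟩
    · rw [ht'.pow_apply, he₀, ht'.ker, mul_zero, zero_smul, add_zero]
    · rw [ht'.pow_apply, ZMod.natCast_zmod_val, div_mul_cancel₀ _ hzb, he₀]
    · rw [ht'.pow_apply, hc2, mul_zero, zero_smul, add_zero]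
  let w : ZMod p → G := fun k => t ^ k.val * t' ^ ((-k⁻¹) / φ' z).val * t ^ k.val
  have hw : ∀ k : ZMod p, k ≠ 0 → ρ (w k) e₀ = k • z ∧ ρ (w k) z = -(k⁻¹ • e₀) ∧
      ρ (w k) c = c := fun k hk => by
    obtain ⟨u1, u2, u3⟩ := hu k
    obtain ⟨v1, v2, v3⟩ := hv (-k⁻¹)
    refine ⟨?_, ?_, ?_⟩
    · rw [rho_mul, rho_mul, u1, map_add, map_smul, v1, v2, map_add, map_smul, map_add, map_smul, u1,
        u2]
      simp only [smul_add, smul_smul, mul_neg, neg_mul, neg_smul, mul_inv_cancel₀ hk, one_smul]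
      match_scalars <;> field_simp <;> ring
    · rw [rho_mul, rho_mul, u2, v2, map_add, map_smul, u2, u1]
      simp only [smul_add, smul_smul, mul_neg, neg_mul, neg_smul, inv_mul_cancel₀ hk, one_smul]
      abel
    · rw [rho_mul, rho_mul, u3, v3, u3]
  have hm1 : (-1 : ZMod p) ≠ 0 := neg_ne_zero.2 one_ne_zero
  set τ := w a * w (-1)
  have τe : ρ τ e₀ = a⁻¹ • e₀ := by
    rw [rho_mul, (hw _ hm1).1, map_smul, (hw a ha).2.1]; module
  have τz : ρ τ z = a • z := by
    rw [rho_mul, (hw _ hm1).2.1, inv_neg_one, neg_smul, one_smul, neg_neg, (hw a ha).1]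
  have τc : ρ τ c = c := by rw [rho_mul, (hw _ hm1).2.2, (hw a ha).2.2]
  refine ⟨e₀, z, c, τ, hspan, te, tz, ht.fix hc1, τe, τz, τc, ?_⟩
  rw [mul_inv_eq_iff_eq_mul]
  refine hρ (LinearEquiv.toLinearMap_injective (LinearMap.ext_on_range hspan fun i => ?_))
  obtain ⟨u1, u2, u3⟩ := hu (a ^ 2)
  show ρ (τ * t) _ = ρ (t ^ (a ^ 2).val * τ) _
  fin_cases i
  · show ρ (τ * t) e₀ = ρ _ e₀
    rw [rho_mul, te, map_add, τe, τz, rho_mul, τe, map_smul, u1, smul_add, smul_smul, sq,
      ← mul_assoc, inv_mul_cancel₀ ha, one_mul]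
  · show ρ (τ * t) z = ρ _ z
    rw [rho_mul, tz, τz, rho_mul, τz, map_smul, u2]
  · show ρ (τ * t) c = ρ _ c
    rw [rho_mul, ht.fix hc1, τc, rho_mul, τc, u3]

/-- An element of order `p` that is quadratic modulo a fixed line is quadratic. -/
theorem quad_of_fixed_line [Finite W] [Finite G] (hp : p ≠ 2) (hρ : Function.Injective ρ)
    (hsyl : SylOne p G) (hd : Module.finrank (ZMod p) W = 3)
    (hO : ∀ R : Subgroup G, R.Normal → IsPGroup p R → R = ⊥) {t : G} (htp : t ^ p = 1)
    {P₀ : W} (hP₀ : P₀ ≠ 0) (hfix : ∀ g, ρ g P₀ = P₀)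
    (hq : ∀ v, ∃ k : ZMod p, ρ t (ρ t v - v) - (ρ t v - v) = k • P₀) :
    ∀ v, ρ t (ρ t v - v) = ρ t v - v := by
  haveI : FiniteDimensional (ZMod p) W := Module.Finite.of_finite
  rcases eq_or_ne t 1 with rfl | ht1
  · intro v; simp [rho_one]
  set L : Submodule (ZMod p) W := ZMod p ∙ P₀
  have hL : ∀ g, ∀ y ∈ L, ρ g y = y := by
    intro g y hy
    obtain ⟨k, rfl⟩ := Submodule.mem_span_singleton.1 hy
    rw [map_smul, hfix]
  have hLi : ∀ g, L.map (ρ g).toLinearMap = L := fun g => by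
    refine le_antisymm ?_ fun y hy => ⟨y, hy, hL g y hy⟩
    rintro _ ⟨y, hy, rfl⟩
    show ρ g y ∈ L
    rw [hL g y hy]; exact hy
  let ρ' : G →* ((W ⧸ L) ≃ₗ[ZMod p] (W ⧸ L)) :=
    { toFun := fun g => Submodule.Quotient.equiv L L (ρ g) (hLi g)
      map_one' := LinearEquiv.ext fun x => by
        obtain ⟨y, rfl⟩ := Submodule.Quotient.mk_surjective L x
        show Submodule.Quotient.mk (ρ 1 y) = _
        rw [rho_one]
        rfl
      map_mul' := fun g g' => LinearEquiv.ext fun x => by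
        obtain ⟨y, rfl⟩ := Submodule.Quotient.mk_surjective L x
        show Submodule.Quotient.mk (ρ (g * g') y) = _
        rw [rho_mul]
        rfl }
  have hρ'_mk : ∀ g y, ρ' g (Submodule.Quotient.mk y) = Submodule.Quotient.mk (ρ g y) :=
    fun _ _ => rfl
  have hρ' : Function.Injective ρ' := by
    rw [← MonoidHom.ker_eq_bot_iff]
    refine hO _ inferInstance fun g => ⟨1, Subtype.ext (eq_of_rho hρ fun v => ?_)⟩
    have hg : (g : G) ∈ ρ'.ker := g.2
    have hmem : ρ (g : G) v - v ∈ L := by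
      have := hρ'_mk g v
      rw [MonoidHom.mem_ker.1 hg] at this
      exact (Submodule.Quotient.eq L).1 this.symm
    have hpow : ∀ n : ℕ, ρ ((g : G) ^ n) v = v + (n : ZMod p) • (ρ (g : G) v - v) := by
      intro n
      induction n with
      | zero => simp
      | succ n ih =>
        rw [pow_succ', rho_mul, ih, map_add, map_smul, hL g _ hmem]
        push_cast
        module
    show ρ ((g : G) ^ p ^ 1) v = ρ 1 v
    rw [pow_one, hpow, ZMod.natCast_self, zero_smul, add_zero, rho_one]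
  have hd' : Module.finrank (ZMod p) (W ⧸ L) ≤ 3 := by
    have := Submodule.finrank_quotient_le L
    omega
  have hq' : ∀ w, ρ' t (ρ' t w - w) = ρ' t w - w := by
    intro w
    obtain ⟨v, rfl⟩ := Submodule.Quotient.mk_surjective L w
    rw [hρ'_mk, ← Submodule.Quotient.mk_sub, hρ'_mk, Submodule.Quotient.eq]
    obtain ⟨k, hk⟩ := hq v
    rw [hk]
    exact Submodule.smul_mem _ _ (Submodule.mem_span_singleton_self P₀)
  have hne : ∃ w, ρ' t w ≠ w := by
    by_contra h
    push Not at h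
    exact ht1 (eq_of_rho hρ' fun w => by rw [h, rho_one])
  haveI : Finite (W ⧸ L) := Finite.of_surjective _ (Submodule.Quotient.mk_surjective L)
  obtain ⟨P, φ, ht⟩ := exists_tv hd' hq' hne
  have hnn : ¬ (Subgroup.zpowers t).Normal := fun h => ht1 (by
    have := hO _ h ((IsPGroup.of_card (n := 1) (by
      rw [Nat.card_zpowers, orderOf_eq_prime htp ht1, pow_one])))
    rw [Subgroup.zpowers_eq_bot] at this
    exact this)
  obtain ⟨g₀, ha, hb, -⟩ := exists_opposite hρ' hsyl ht (moves_axis hρ' hsyl ht hnn)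
  obtain ⟨j, -, hj, hjt⟩ := exists_neg_central hρ' ht (ht.conj g₀) ha (by simpa using hb)
  -- the plane is the whole quotient
  have hspan : Submodule.span (ZMod p) (Set.range ![P, ρ' g₀ P]) = ⊤ := by
    have hli : LinearIndependent (ZMod p) ![P, ρ' g₀ P] := by
      rw [Fintype.linearIndependent_iff]
      intro c hc
      simp only [Fin.sum_univ_two, Matrix.cons_val_zero, Matrix.cons_val_one] at hc
      have h1 : c 1 = 0 := by
        have := congrArg φ hc
        simp only [map_add, map_smul, ht.ker, map_zero, smul_eq_mul, mul_zero, zero_add,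
          mul_eq_zero, ha, or_false] at this
        exact this
      rw [h1, zero_smul, add_zero, smul_eq_zero] at hc
      intro i; fin_cases i
      · exact hc.resolve_right ht.cne
      · exact h1
    refine hli.span_eq_top_of_card_eq_finrank ?_
    have h1 := L.finrank_quotient_add_finrank
    have h2 : Module.finrank (ZMod p) L = 1 := finrank_span_singleton hP₀
    rw [Fintype.card_fin]; omega
  intro v
  obtain ⟨k, hk⟩ := hq v
  rw [← sub_eq_zero, hk]
  set N : W →ₗ[ZMod p] W := (ρ t).toLinearMap - LinearMap.id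
  have hN : ∀ y, N y = ρ t y - y := fun _ => rfl
  have hjN : ∀ y, ρ j (N y) = N (ρ j y) := fun y => by
    rw [hN, hN, map_sub, ← rho_mul, ← rho_mul, hjt.eq]
  obtain ⟨l, hl, hjv⟩ : ∃ l ∈ L, ρ j v = -v + l := by
    refine ⟨ρ j v + v, ?_, by abel⟩
    have := hj (Submodule.Quotient.mk v) (hspan ▸ Submodule.mem_top)
    rw [hρ'_mk, ← Submodule.Quotient.mk_neg, Submodule.Quotient.eq, sub_neg_eq_add] at this
    exact this
  have hNl : N l = 0 := by rw [hN, hL t l hl, sub_self]
  have e1 : N (N v) = k • P₀ := by rw [hN (N v), hN]; exact hk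
  have e2 : ρ j (N (N v)) = -N (N v) := by
    rw [hjN, hjN, hjv, map_add, map_add, hNl, map_zero, add_zero, map_neg, map_neg]
  rw [e1, map_smul, hfix] at e2
  have h2 : (2 : ZMod p) • (k • P₀) = 0 := by rw [two_smul]; exact eq_neg_iff_add_eq_zero.1 e2
  rcases smul_eq_zero.1 h2 with h | h
  · exfalso
    have h3 : ((2 : ℕ) : ZMod p) = 0 := by exact_mod_cast h
    rw [CharP.cast_eq_zero_iff (ZMod p) p] at h3
    exact hp ((Nat.prime_dvd_prime_iff_eq (Fact.out : p.Prime) Nat.prime_two).1 h3)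
  · exact h

end Cfsg.Agent.NormalR3Lin20
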