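import Cfsg.Agent.Lib.NormalR3Layer20

/-!
S5180: the final contradiction. The automorphism of `N_S(E)` extends to `N_S(N_S(E))`, and the
quotient of the latter by `Φ(E)` contains an elementary abelian subgroup of order `p ^ 4`.
-/

set_option autoImplicit false
set_option linter.unusedSectionVars false
set_option linter.style.haveILetI false

namespace Cfsg.Agent.NormalR3

open Cfsg Cfsg.FusionSystem Cfsg.Agent.FusionSysBasic Cfsg.Agent.FusionSysSaturated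
  Cfsg.Agent.FusionSysNormal Cfsg.Agent.FusionSysAlperin Cfsg.Agent.Rank3 Cfsg.Agent.Rank3.CaseB2

universe u

variable {Ω : Type u} [Group Ω] {S : Subgroup Ω} {F : FusionSystem S} {p : ℕ} {E : Subgroup Ω}

theorem inv_mul_cj_mem {B : Subgroup Ω} {g y : Ω} (hy : ∀ b ∈ B, cj y⁻¹ b ∈ B) (h : br g y ∈ B) :
    y⁻¹ * cj g y ∈ B := by
  have h1 := hy _ h
  rwa [show cj y⁻¹ (br g y) = y⁻¹ * cj g y by simp only [cj_apply, br]; group] at h1

set_option maxHeartbeats 1600000 in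
theorem Hyp.normal [Finite S] [Fact p.Prime] (h : Hyp F p E)
    (hrk : (frattini ↥E).index = p ^ 3) : S ≤ Subgroup.normalizer (E : Set Ω) := by
  classical
  by_contra hnn
  obtain ⟨x, e, z, c, a, hR⟩ := h.exists_frame hnn hrk
  have hp := (Fact.out : p.Prime)
  set N := normalizerIn S E with hNdef
  set D₀ := dTwo E z c with hD₀def
  set Fr := frE E with hFrdef
  have hNS : N ≤ S := inf_le_left
  haveI := finite_of_le hNS
  haveI := finite_of_le h.le
  have hFrE : Fr ≤ E := frE_le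
  have hDE : D₀ ≤ E := hR.two_le_E h
  have hEN : E ≤ N := h.le_N
  have hDN : D₀ ≤ N := hDE.trans hEN
  set S₁ := normalizerIn S N with hS₁def
  have hS₁S : S₁ ≤ S := inf_le_left
  haveI : Finite S₁ := finite_of_le hS₁S
  have hS₁p : IsPGroup p S₁ := h.hS.to_le hS₁S
  have hNS₁ : N ≤ S₁ := le_normalizerIn hNS
  -- the layers of `N`
  have hid : Mor F N (fun y => y) := mor_id hNS
  obtain ⟨w, hw, hwD, hwc, hcomm, hND, hMc, hker, hbound⟩ := hR.layer h hid
  simp only [im_id] at hw hwD hwc hcomm hND hMc hker hbound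
  set M := D₀ ⊔ Subgroup.zpowers w with hMdef
  have hwM : w ∈ M := Subgroup.mem_sup_right (Subgroup.mem_zpowers w)
  have hDM : D₀ ≤ M := le_sup_left
  have hMN : M ≤ N := sup_le hDN (Subgroup.zpowers_le.2 hw)
  have hMn : ∀ s ∈ S₁, ∀ y ∈ M, cj s y ∈ M := fun s hs =>
    cj_mem_sup_zpowers (hND s hs) (mem_sup_of_br (hwc s hs))
  have hNn : ∀ s ∈ S₁, ∀ y ∈ N, cj s y ∈ N := fun s hs y hy => cj_mem_of_normalizer hs.2 hy
  have hMD : ∀ s ∈ S₁, ∀ y ∈ M, br s y ∈ D₀ :=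
    step_comm hS₁p (hMN.trans hNS₁) hDM hND hMn hMc.le
  have hcardN : Nat.card N = p * Nat.card M := by rw [hMc, hR.card_two_N h]
  have hcardE : Nat.card E = Nat.card M := by rw [hMc, (hR.cards h).2.2]
  have hNltS : N < S := lt_of_le_not_ge hNS fun hge => hnn (hge.trans inf_le_right)
  have hcS₁ : Nat.card S₁ = p * Nat.card N := by
    refine le_antisymm hbound (mul_card_le_of_lt h.hS hS₁S (lt_of_le_not_ge hNS₁ fun hge => ?_))
    exact absurd (Subgroup.card_le_of_le hge) (normalizerIn_gt h.hS hNltS).not_ge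
  have hfn : F.IsFullyNormalized N := by
    refine ⟨hNS, fun Q hQ => ?_⟩
    obtain ⟨f, hf, rfl⟩ := isConj_iff.1 hQ
    obtain ⟨-, -, -, -, -, -, -, -, hb⟩ := hR.layer h hf
    exact hb.trans hcS₁.ge
  have hNlt : N < S₁ := lt_of_le_not_ge hNS₁ fun hge => by
    have h1 := Subgroup.card_le_of_le hge
    rw [hcS₁] at h1
    nlinarith [hp.two_le, (Nat.card_pos : 0 < Nat.card N)]
  obtain ⟨g, hg, hgN⟩ := SetLike.exists_of_lt hNlt
  -- `w` is outside `E`
  have hwE : w ∉ E := fun hwE => by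
    have hME : M = E :=
      eq_of_le_of_card_ge h.le (sup_le hDE (Subgroup.zpowers_le.2 hwE)) hcardE.le
    exact hgN ⟨hg.1, mem_normalizer_of_cj_le h.le fun y hy => hME ▸ hMn g hg y (hME.symm ▸ hy)⟩
  -- a representative of `x` in `M`
  have hMEN : M ⊔ E = N := h.eq_top_of_mem (sup_le hMN hEN) le_sup_right
    (Subgroup.mem_sup_left hwM) hwE
  have hENM : E ≤ Subgroup.normalizer (M : Set Ω) := fun y hy =>
    mem_normalizer_of_cj_le (hMN.trans hNS) (hMn y (hNS₁ (hEN hy)))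
  obtain ⟨m, hm, u, hu, hxmu⟩ : ∃ m ∈ M, ∃ u ∈ E, x = m * u := by
    have h1 := hR.hx
    rw [← hNdef, ← hMEN, ← SetLike.mem_coe,
      Subgroup.coe_mul_of_left_le_normalizer_right _ _ ?_] at h1
    · obtain ⟨m, hm, u, hu, e1⟩ := Set.mem_mul.1 h1
      exact ⟨m, hm, u, hu, e1.symm⟩
    · exact fun y hy => (hMN hy).2
  have hmN : m ∈ N := hMN hm
  have hmE : m ∉ E := fun hmE => hR.hxE (hxmu ▸ E.mul_mem hmE hu)
  have hMgen : ∀ y ∈ M, y ∉ D₀ → M = D₀ ⊔ Subgroup.zpowers y := by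
    intro y hy hyD
    refine (eq_of_le_of_card_ge (hMN.trans hNS) (sup_le hDM (Subgroup.zpowers_le.2 hy)) ?_).symm
    rw [hMc]
    exact mul_card_le_of_lt h.hS ((sup_le hDM (Subgroup.zpowers_le.2 hy)).trans (hMN.trans hNS))
      (lt_of_le_not_ge le_sup_left fun hge =>
        hyD (hge (Subgroup.mem_sup_right (Subgroup.mem_zpowers y))))
  set q := br g e with hqdef
  have hqM : q ∈ M := hcomm g hg e (hEN hR.he)
  have hqD : q ∉ D₀ := fun hq => hgN (hker g hg hq)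
  -- `M` is invariant
  have hMinv : ∀ φ : Ω → Ω, Mor F N φ → (∀ n ∈ N, φ n ∈ N) → ∀ y ∈ M, φ y ∈ M := by
    intro φ hφ hφN y hy
    set M' := im M φ
    have hφM := hφ.restrict_to hMN
    have hM'N : M' ≤ N := im_le_iff.2 fun v hv => hφN v (hMN hv)
    have hDM' : D₀ ≤ M' := by
      rw [← (hφ.restrict_to hDN).im_self (hR.mor_two h hφ hφN)]
      exact im_mono hDM
    by_contra hyn
    have hM'M : ¬ M' ≤ M := fun hle => hyn (hle (apply_mem_im hy))
    have hsup : M ⊔ M' = N := by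
      refine eq_of_le_of_card_ge hNS (sup_le hMN hM'N) ?_
      rw [hcardN]
      exact mul_card_le_of_lt h.hS ((sup_le hMN hM'N).trans hNS)
        (lt_of_le_not_ge le_sup_left fun hge => hM'M (le_sup_right.trans hge))
    obtain ⟨m₁, hm₁, v, hv, he⟩ : ∃ m₁ ∈ M, ∃ v ∈ M', e = m₁ * v := by
      have h1 : e ∈ N := hEN hR.he
      rw [← hsup, ← SetLike.mem_coe, Subgroup.coe_mul_of_right_le_normalizer_left _ _ ?_] at h1
      · obtain ⟨m₁, hm₁, v, hv, e1⟩ := Set.mem_mul.1 h1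
        exact ⟨m₁, hm₁, v, hv, e1.symm⟩
      · exact fun v hv => mem_normalizer_of_cj_le (hMN.trans hNS) (hMn v (hNS₁ (hM'N hv)))
    have hinv := M.inv_mem hm₁
    rw [hMgen q hqM hqD] at hinv
    obtain ⟨d, hd, i, hdi⟩ := exists_mul_pow h.hS (hDN.trans hNS) (hNS (hMN hqM))
      (hND q (hNS₁ (hMN hqM))) hinv
    have hpow : ∀ j : ℕ, ∃ d' ∈ D₀, br (g ^ j) e = d' * q ^ j := by
      intro j
      induction j with
      | zero => exact ⟨1, one_mem _, by rw [pow_zero, br_one_left, pow_zero, one_mul]⟩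
      | succ j ih =>
        obtain ⟨d', hd', e1⟩ := ih
        have h2 : br g (d' * q ^ j) ∈ D₀ :=
          hMD g hg _ (M.mul_mem (hDM hd') (_root_.pow_mem hqM j))
        refine ⟨br g (d' * q ^ j) * d', mul_mem h2 hd', ?_⟩
        rw [pow_succ' g, br_mul_left, e1, pow_succ q,
          show g * (d' * q ^ j) * g⁻¹ = br g (d' * q ^ j) * (d' * q ^ j) by simp only [br]; group]
        simp only [mul_assoc, hqdef]
    obtain ⟨d', hd', hs'⟩ := hpow i
    set s := g ^ i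
    have hs : s ∈ S₁ := _root_.pow_mem hg i
    have hse : cj s e ∈ M' := by
      have e2 : q ^ i = d⁻¹ * m₁⁻¹ := by rw [hdi, inv_mul_cancel_left]
      rw [show cj s e = br s e * e by rw [br_eq_cj, inv_mul_cancel_right], hs', e2, he,
        show d' * (d⁻¹ * m₁⁻¹) * (m₁ * v) = d' * d⁻¹ * v by group]
      exact mul_mem (hDM' (mul_mem hd' (inv_mem hd))) hv
    have hEM' : ∀ y ∈ E, cj s y ∈ M' := by
      intro y hy
      have hle : E ≤ M'.comap (MulAut.conj s).toMonoidHom := fun y hy => by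
        obtain ⟨A, B, C, f, hf, rfl⟩ := hR.decomp y hy
        have hD : ∀ t ∈ D₀, t ∈ M'.comap (MulAut.conj s).toMonoidHom := fun t ht =>
          hDM' (hND s hs t ht)
        exact mul_mem (mul_mem (mul_mem (_root_.pow_mem
          (show e ∈ M'.comap (MulAut.conj s).toMonoidHom from hse) A)
          (_root_.pow_mem (hD z (hR.z_mem_two h)) B)) (_root_.pow_mem (hD c (hR.c_mem_two h)) C))
          (hD f (hR.fr_le_two h hf))
      exact hle hy
    have himE : im E (cj s) = M' := by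
      refine eq_of_le_of_card_ge (hM'N.trans hNS) (im_le_iff.2 hEM') ?_
      rw [(mor_cj (F := F) h.le hs.1).card_im, hφM.card_im, hcardE]
    have hconj : F.IsConj E M :=
      isConj_trans (isConj_iff.2 ⟨_, mor_cj h.le hs.1, himE⟩)
        (isConj_symm (isConj_iff.2 ⟨φ, hφM, rfl⟩))
    haveI := finite_normalizerIn (S := S) M
    have h3 : Nat.card S₁ ≤ Nat.card (normalizerIn S M) := Subgroup.card_le_of_le fun t ht =>
      ⟨ht.1, mem_normalizer_of_cj_le (hMN.trans hNS) (hMn t ht)⟩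
    have h4 := h.ess.2.1.2 M hconj
    rw [← hNdef] at h4
    rw [hcS₁] at h3
    nlinarith [hp.two_le, (Nat.card_pos : 0 < Nat.card N)]
  -- the stabiliser of the layers
  set FN := frE N
  have hFND : FN ≤ D₀ := frE_le_of h.hS hNS
    (fun s hs t ht => hR.one_le_two h (hR.br_mem_one h hs ht)) fun s hs => hR.pow_mem_two h hs
  have hOF : dOne E z ≤ FN := by
    refine sup_le (hR.fr_deep.trans ((Subgroup.closure_le _).2 ?_)) (Subgroup.zpowers_le.2 ?_)
    · rintro t (⟨k, hk, -, rfl⟩ | ⟨s, hs, t, ht, d, hd, rfl⟩)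
      · exact pow_mem_frE h.hS hNS hk
      · exact br_mem_frE h.hS hNS (hR.two_le_N h (hR.one_le_two h (hR.br_mem_one h hs ht))) hd
    · rw [hR.z_eq, ← br_eq_cj]
      exact br_mem_frE h.hS hNS hR.hx (hEN hR.he)
  haveI := finite_autGroup (F := F) N
  set AN := F.autGroup N
  let L : ℕ → Subgroup Ω := fun
    | 0 => FN
    | 1 => D₀
    | 2 => M
    | _ => N
  have hLN : ∀ i, L i ≤ N
    | 0 => frE_le
    | 1 => hDN
    | 2 => hMN
    | _ + 3 => le_rfl
  have hLinv : ∀ α ∈ AN, ∀ i, ∀ y ∈ L i, afun α y ∈ L i := by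
    intro α hα i y hy
    have hφ : Mor F N (afun α) := (mem_autGroup hNS).1 hα
    have hφN : ∀ n ∈ N, afun α n ∈ N := fun n hn => afun_mem α hn
    rcases i with _ | _ | _ | i
    · exact afun_mem_frE α hy
    · exact hR.mor_two h hφ hφN y hy
    · exact hMinv _ hφ hφN y hy
    · exact hφN y hy
  have hLn : ∀ s ∈ S₁, ∀ i, ∀ y ∈ L i, cj s y ∈ L i := by
    intro s hs i y hy
    rcases i with _ | _ | _ | i
    · exact cj_mem_frE hs hy
    · exact hND s hs y hy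
    · exact hMn s hs y hy
    · exact hNn s hs y hy
  let U : Subgroup (MulAut N) :=
    { carrier := {α | α ∈ AN ∧ ∀ i < 3, ∀ y ∈ L (i + 1), y⁻¹ * afun α y ∈ L i}
      one_mem' := ⟨one_mem _, fun i _ y hy => by
        rw [afun_one (hLN _ hy), inv_mul_cancel]; exact one_mem _⟩
      mul_mem' := fun {α β} hα hβ => ⟨mul_mem hα.1 hβ.1, fun i hi y hy => by
        rw [afun_mul _ _ (hLN _ hy)]
        have h1 := mul_mem (hβ.2 i hi y hy) (hα.2 i hi _ (hLinv β hβ.1 _ y hy))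
        rwa [mul_assoc, mul_inv_cancel_left] at h1⟩
      inv_mem' := fun {α} hα => ⟨inv_mem hα.1, fun i hi y hy => by
        have h1 := inv_mem (hα.2 i hi _ (hLinv α⁻¹ (inv_mem hα.1) _ y hy))
        rwa [afun_apply_inv α (hLN _ hy), mul_inv_rev, inv_inv] at h1⟩ }
  have hUA : U ≤ AN := fun α hα => hα.1
  haveI : Finite U := Finite.of_injective _ (Subgroup.inclusion_injective hUA)
  have hUp : IsPGroup p U := by
    refine FusionEssential88.isPGroup_of_stabilizes (h.hS.to_le hNS) (n := 3)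
      (fun i => (L i).subgroupOf N) ?_ ?_ fun α hα i hi y hy => ?_
    · exact Subgroup.comap_map_eq_self_of_injective N.subtype_injective _
    · exact Subgroup.subgroupOf_self N
    · have h1 := hα.2 i hi (y : Ω) hy
      rw [afun_apply α y.2] at h1
      exact h1
  have hstepN : ∀ s ∈ S₁, ∀ i < 3, ∀ y ∈ L (i + 1), br s y ∈ L i := by
    intro s hs i hi y hy
    rcases i with _ | _ | _ | i
    · refine step_comm hS₁p (A := FN) (B := D₀) (hDN.trans hNS₁) hFND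
        (fun t ht b hb => cj_mem_frE ht hb) hND ?_ s hs y hy
      rw [(hR.cards h).2.1]
      haveI := finite_of_le ((frE_le (E := N)).trans hNS)
      exact Nat.mul_le_mul_left p (Subgroup.card_le_of_le hOF)
    · exact hMD s hs y hy
    · exact hcomm s hs y hy
    · omega
  have hAU : autInducedBy S N ≤ U := by
    rw [autInducedBy_eq_range]
    rintro _ ⟨s, rfl⟩
    refine ⟨autInducedBy_le hNS ((autInducedBy_eq_range S N).ge ⟨s, rfl⟩), fun i hi y hy => ?_⟩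
    rw [afun_nHom s (hLN _ hy)]
    exact inv_mul_cj_mem (hLn y⁻¹ (inv_mem (hNS₁ (hLN _ hy))) i) (hstepN s s.2 i hi y hy)
  have hU : autInducedBy S N = U := by
    refine Subgroup.eq_of_le_of_card_ge hAU ?_
    obtain ⟨-, P₀, hP₀⟩ := fullyAutomized_of_fullyNormalized h.hS h.hF hfn
    have h1 : Nat.card (autInducedBy S N) = p ^ (Nat.card AN).factorization p :=
      (sylIn_iff_card (autInducedBy_le hNS)).1 ⟨P₀, hP₀⟩
    rw [h1]
    exact FusionSysNormalizer.sylIn_le_pow hUp hUA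
  -- extension to `S₁`
  obtain ⟨f, hf, hfN, hfe, hfz, hfc, hfx, hffix⟩ := hR.ext
  obtain ⟨α, hα, hαf⟩ := hf.exists_aut (hf.im_self hfN)
  obtain ⟨f', hf', hf'f⟩ := (receptive_iff.1 (receptive_of_fullyNormalized h.hS h.hF hfn)).2 N f S₁
    hf (hf.im_self hfN) inf_le_left inf_le_right fun s hs => by
    have hσ : nHom S N ⟨s, hs⟩ ∈ U := hU.le ((autInducedBy_eq_range S N).ge ⟨_, rfl⟩)
    have hc : α * nHom S N ⟨s, hs⟩ * α⁻¹ ∈ U := by
      refine ⟨mul_mem (mul_mem hα hσ.1) (inv_mem hα), fun i hi y hy => ?_⟩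
      have hy' := hLinv α⁻¹ (inv_mem hα) _ y hy
      have h1 := hLinv α hα i _ (hσ.2 i hi _ hy')
      rw [afun_map_mul α (inv_mem (hLN _ hy')) (afun_mem _ (hLN _ hy')),
        afun_inv' α (hLN _ hy'), afun_apply_inv α (hLN _ hy)] at h1
      rwa [afun_mul _ _ (hLN _ hy), afun_mul _ _ (afun_mem α⁻¹ (hLN _ hy))]
    rw [← hU, autInducedBy_eq_range] at hc
    obtain ⟨t, ht⟩ := hc
    refine ⟨t, t.2.1, fun y hy => ?_⟩
    have hcy : cj s y ∈ N := hNn s hs y hy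
    have h1 : afun (α * nHom S N ⟨s, hs⟩ * α⁻¹) (afun α y) = cj (t : Ω) (afun α y) := by
      rw [← ht, afun_nHom _ (afun_mem α hy)]
    rw [afun_mul _ _ (afun_mem α hy), afun_inv_apply α hy, afun_mul _ _ hy,
      afun_nHom _ hy] at h1
    rw [← hαf _ hcy, ← hαf _ hy, h1]
  rw [sup_eq_right.2 hNS₁] at hf'
  have hf'S : ∀ s ∈ S₁, f' s ∈ S₁ := fun s hs =>
    mor_normalizer_mem hf' hNS ((im_congr hf'f).trans (hf.im_self hfN)) hs
  -- the quotient by `Φ(E)`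
  have hauto : ∀ s ∈ S₁, Mor F N (cj s) ∧ ∀ n ∈ N, cj s n ∈ N := fun s hs =>
    ⟨mor_cj hNS hs.1, hNn s hs⟩
  have hFrn : ∀ s ∈ S₁, ∀ k ∈ Fr, cj s k ∈ Fr := fun s hs =>
    hR.mor_fr h (hauto s hs).1 (hauto s hs).2
  have hOn : ∀ s ∈ S₁, ∀ k ∈ dOne E z, cj s k ∈ dOne E z := fun s hs =>
    hR.mor_one h (hauto s hs).1 (hauto s hs).2
  have hOne : ∀ s ∈ S₁, ∀ k ∈ D₀, br s k ∈ dOne E z :=
    step_comm hS₁p (hDN.trans hNS₁) (hR.one_le_two h) hOn hND (hR.cards h).2.1.le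
  let Fr' : Subgroup S₁ := Fr.subgroupOf S₁
  haveI : Fr'.Normal := ⟨fun k hk s => by
    have := hFrn (s : Ω) s.2 (k : Ω) hk
    simpa [Fr', Subgroup.mem_subgroupOf, cj_apply] using this⟩
  let π := QuotientGroup.mk' Fr'
  let fh : S₁ →* S₁ := MonoidHom.mk' (fun s => ⟨f' s, hf'S s s.2⟩)
    fun s t => Subtype.ext (hf'.map_mul s.2 t.2)
  let τ : S₁ ⧸ Fr' →* S₁ ⧸ Fr' := QuotientGroup.map Fr' Fr' fh fun k hk => by
    show f' (k : Ω) ∈ Fr
    rw [hf'f (k : Ω) (hEN (hFrE hk))]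
    exact hR.mor_fr h hf hfN _ hk
  have hτ : ∀ s : S₁, τ (π s) = π (fh s) := fun s => rfl
  have hq1 : ∀ s : S₁, (s : Ω) ∈ Fr → π s = 1 := fun s hs =>
    (QuotientGroup.eq_one_iff (N := Fr') s).2 hs
  have hq1' : ∀ s : S₁, π s = 1 → (s : Ω) ∈ Fr := fun s hs =>
    (QuotientGroup.eq_one_iff (N := Fr') s).1 hs
  have hqeq : ∀ s t : S₁, (s : Ω)⁻¹ * t ∈ Fr → π t = π s := fun s t hst => by
    have h1 := hq1 (s⁻¹ * t) hst
    rw [map_mul, map_inv, inv_mul_eq_one] at h1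
    exact h1.symm
  have hqc : ∀ s t : S₁, br (s : Ω) t ∈ Fr → Commute (π s) (π t) := fun s t hst => by
    have h1 := hq1 (s * t * s⁻¹ * t⁻¹) hst
    rw [map_mul, map_mul, map_mul, map_inv, map_inv, mul_inv_eq_one, mul_inv_eq_iff_eq_mul] at h1
    exact h1
  let gS : S₁ := ⟨g, hg⟩
  let mS : S₁ := ⟨m, hNS₁ hmN⟩
  let eS : S₁ := ⟨e, hNS₁ (hEN hR.he)⟩
  let zS : S₁ := ⟨z, hNS₁ (hEN hR.hz)⟩
  let cS : S₁ := ⟨c, hNS₁ (hEN hR.hc)⟩
  set G := π gS
  set X := π mS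
  set E' := π eS
  set Z := π zS
  set C := π cS
  have hZX : Commute Z X := hqc zS mS (br_comm_mem (hR.br_z h hmN))
  have hZE : Commute Z E' := hqc zS eS (br_comm_mem (hR.br_z h (hEN hR.he)))
  have hCX : Commute C X := hqc cS mS (br_comm_mem (hR.br_two h hmN (hR.c_mem_two h)))
  have hCE : Commute C E' := hqc cS eS (br_comm_mem (hR.br_two h (hEN hR.he) (hR.c_mem_two h)))
  have hCZ : Commute C Z := hqc cS zS (br_comm_mem (hR.br_two h (hEN hR.hz) (hR.c_mem_two h)))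
  have hbme : (z : Ω)⁻¹ * br m e ∈ Fr := by
    have e1 : br x e = z := by rw [br_eq_cj, ← hR.z_eq]
    rw [hxmu, br_mul_left] at e1
    have h1 : cj m (br u e) ∈ Fr := cj_mem_frE hmN (br_mem_frE h.hS h.le hu hR.he)
    have e2 : br m e = (cj m (br u e))⁻¹ * z := by rw [cj_apply, ← e1]; group
    rw [e2, show z⁻¹ * ((cj m (br u e))⁻¹ * z) = (cj z⁻¹ (cj m (br u e)))⁻¹ by
      simp only [cj_apply]; group]
    exact inv_mem (cj_mem_frE (inv_mem (hEN hR.hz)) h1)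
  have hbxe : X * E' * X⁻¹ * E'⁻¹ = Z := by
    have h1 := hqeq zS (mS * eS * mS⁻¹ * eS⁻¹) hbme
    simpa using h1
  have hdecD : ∀ s : S₁, (s : Ω) ∈ D₀ → ∃ i d : ℕ, π s = Z ^ i * C ^ d := by
    intro s hs
    obtain ⟨d₁, hd₁, d, e1⟩ := exists_mul_pow h.hS ((hR.one_le_E h).trans h.le) (h.le hR.hc)
      (hR.cj_one_mem h (hEN hR.hc)) hs
    obtain ⟨k, hk, i, e2⟩ := exists_mul_pow h.hS (hFrE.trans h.le) (h.le hR.hz)
      (fun _ hb => cj_mem_frE (hEN hR.hz) hb) hd₁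
    refine ⟨i, d, ?_⟩
    have hkS : k ∈ S₁ := hNS₁ (hEN (hFrE hk))
    have e3 : s = ⟨k, hkS⟩ * zS ^ i * cS ^ d :=
      Subtype.ext (by rw [e1, e2]; rfl)
    rw [e3, map_mul, map_mul, map_pow, map_pow, hq1 ⟨k, hkS⟩ hk, one_mul]
  have hdecO : ∀ s : S₁, (s : Ω) ∈ dOne E z → ∃ i : ℕ, π s = Z ^ i := by
    intro s hs
    obtain ⟨k, hk, i, e2⟩ := exists_mul_pow h.hS (hFrE.trans h.le) (h.le hR.hz)
      (fun _ hb => cj_mem_frE (hEN hR.hz) hb) hs
    refine ⟨i, ?_⟩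
    have hkS : k ∈ S₁ := hNS₁ (hEN (hFrE hk))
    rw [show s = ⟨k, hkS⟩ * zS ^ i from Subtype.ext (by rw [e2]; rfl), map_mul, map_pow, hq1 ⟨k, hkS⟩ hk,
      one_mul]
  have hdecE : ∀ s : S₁, (s : Ω) ∈ E → ∃ i j d : ℕ, π s = E' ^ i * (Z ^ j * C ^ d) := by
    intro s hs
    obtain ⟨A, B, D, k, hk, e1⟩ := hR.decomp s hs
    refine ⟨A, B, D, ?_⟩
    have hkS : k ∈ S₁ := hNS₁ (hEN (hFrE hk))
    rw [show s = eS ^ A * zS ^ B * cS ^ D * ⟨k, hkS⟩ from Subtype.ext (by rw [e1]; rfl), map_mul,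
      map_mul, map_mul, map_pow, map_pow, map_pow, hq1 ⟨k, hkS⟩ hk, mul_one, mul_assoc]
  have hclo : ∀ {B : Subgroup Ω} {T : Set (S₁ ⧸ Fr')}, Fr ≤ B →
      (∀ t ∈ T, ∃ s : S₁, (s : Ω) ∈ B ∧ π s = t) →
      ∀ s : S₁, π s ∈ Subgroup.closure T → (s : Ω) ∈ B := by
    intro B T hB hT s hs
    have hle : Subgroup.closure T ≤ (B.subgroupOf S₁).map π :=
      (Subgroup.closure_le _).2 fun t ht => by
        obtain ⟨r, hr, rfl⟩ := hT t ht
        exact ⟨r, hr, rfl⟩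
    obtain ⟨r, hr, e1⟩ := hle hs
    have h1 : (r : Ω)⁻¹ * s ∈ Fr := hq1' (r⁻¹ * s) (by rw [map_mul, map_inv, e1, inv_mul_cancel])
    have h2 := B.mul_mem (show (r : Ω) ∈ B from hr) (hB h1)
    rwa [mul_inv_cancel_left] at h2
  have hNcl : ∀ s : S₁, (s : Ω) ∈ N → π s ∈ Subgroup.closure {X, E', Z, C} := by
    let K : Subgroup (S₁ ⧸ Fr') := Subgroup.closure {X, E', Z, C}
    have hXK : X ∈ K := Subgroup.subset_closure (by simp)
    have hEK : E' ∈ K := Subgroup.subset_closure (by simp)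
    have hZK : Z ∈ K := Subgroup.subset_closure (by simp)
    have hCK : C ∈ K := Subgroup.subset_closure (by simp)
    let T := N ⊓ (K.comap π).map S₁.subtype
    have hT : T = N := by
      refine h.eq_top_of_mem inf_le_left (fun y hy => ⟨hEN hy, ⟨y, hNS₁ (hEN hy)⟩, ?_, rfl⟩)
        (x := m) ⟨hmN, mS, hXK, rfl⟩ hmE
      obtain ⟨i, j, d, e1⟩ := hdecE ⟨y, hNS₁ (hEN hy)⟩ hy
      show π _ ∈ K
      rw [e1]
      exact mul_mem (_root_.pow_mem hEK _) (mul_mem (_root_.pow_mem hZK _) (_root_.pow_mem hCK _))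
    intro s hs
    obtain ⟨-, r, hr, e1⟩ := hT.ge hs
    rwa [← Subtype.ext e1]
  have hm2 : (m ^ (a ^ 2).val)⁻¹ * f m ∈ E := by
    have hfE : ∀ y ∈ E, f y ∈ E := by
      intro y hy
      have hfeE : f e ∈ E := by
        rw [← mul_inv_cancel_left (e ^ (a⁻¹).val) (f e)]
        exact mul_mem (_root_.pow_mem hR.he _) (hFrE hfe)
      obtain ⟨d, hd, i, rfl⟩ : ∃ d ∈ D₀, ∃ i : ℕ, y = d * e ^ i := by
        refine exists_mul_pow h.hS (hDE.trans h.le) (h.le hR.he) (hR.cj_two_mem h (hEN hR.he)) ?_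
        obtain ⟨A, B, D, k, hk, rfl⟩ := hR.decomp y hy
        exact mul_mem (mul_mem (mul_mem
          (_root_.pow_mem (Subgroup.mem_sup_right (Subgroup.mem_zpowers e)) A)
          (_root_.pow_mem (Subgroup.mem_sup_left (hR.z_mem_two h)) B))
          (_root_.pow_mem (Subgroup.mem_sup_left (hR.c_mem_two h)) D))
          (Subgroup.mem_sup_left (hR.fr_le_two h hk))
      rw [hf.map_mul (hDN hd) (_root_.pow_mem (hEN hR.he) i), mor_pow hf (hEN hR.he)]
      exact mul_mem (hDE (hR.mor_two h hf hfN d hd)) (_root_.pow_mem hfeE i)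
    set k := (a ^ 2).val
    have h1 : (m ^ k)⁻¹ * (m * u) ^ k ∈ E :=
      pow_mul_mem hu (fun b hb => cj_mem_of_normalizer (inv_mem hmN : m⁻¹ ∈ N).2 hb) k
    have h2 := mul_mem (mul_mem h1 hfx) (inv_mem (hfE u hu))
    rwa [hxmu, hf.map_mul hmN (hEN hu),
      show (m ^ k)⁻¹ * (m * u) ^ k * (((m * u) ^ k)⁻¹ * (f m * f u)) * (f u)⁻¹ = (m ^ k)⁻¹ * f m
        by group] at h2
  have hgp : g ^ p ∈ N := by
    let N' : Subgroup S₁ := N.subgroupOf S₁
    haveI : N'.Normal := ⟨fun n hn s => by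
      have := hNn (s : Ω) s.2 (n : Ω) hn
      simpa [N', Subgroup.mem_subgroupOf, cj_apply] using this⟩
    have hidx : N'.index = p := by
      have h1 := N'.card_mul_index
      rw [Nat.card_congr (Subgroup.subgroupOfEquivOfLe hNS₁).toEquiv, hcS₁, mul_comm p] at h1
      exact Nat.eq_of_mul_eq_mul_left Nat.card_pos h1
    have h2 := N'.pow_index_mem gS
    rwa [hidx] at h2
  have hS₁gen : S₁ = N ⊔ Subgroup.zpowers g := by
    refine (eq_of_le_of_card_ge hS₁S (sup_le hNS₁ (Subgroup.zpowers_le.2 hg)) ?_).symm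
    rw [hcS₁]
    exact mul_card_le_of_lt h.hS ((sup_le hNS₁ (Subgroup.zpowers_le.2 hg)).trans hS₁S)
      (lt_of_le_not_ge le_sup_left fun hge =>
        hgN (hge (Subgroup.mem_sup_right (Subgroup.mem_zpowers g))))
  have cfg : NormalR3Weights.Cfg p τ G X E' Z C a := by
    refine ⟨?_, ?_, ?_, hZX, hZE, hCX, hCE, hCZ, hbxe, ?_, ?_, ?_, ?_, ?_, ?_, ?_, ?_, ?_, ?_, ?_,
      ?_, ?_, ?_, ?_, hR.a0, hR.a2, hR.a3, hR.a5⟩
    · rw [← map_pow, hq1]; show e ^ p ∈ Fr; rw [hR.ep]; exact one_mem _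
    · rw [← map_pow, hq1]; show z ^ p ∈ Fr; rw [hR.zp]; exact one_mem _
    · rw [← map_pow, hq1]; exact hR.c_pow h
    · exact fun hZ => hR.z_not_mem h (hq1' zS hZ)
    · intro hC
      rw [Subgroup.zpowers_eq_closure] at hC
      exact hR.c_not_mem h (hclo (hR.fr_le_one h)
        (fun t ht => ⟨zS, hR.z_mem_one h, ht.symm⟩) cS hC)
    · intro hX
      refine hmE (hclo hFrE (fun t ht => ?_) mS hX)
      rcases ht with rfl | rfl | rfl
      exacts [⟨eS, hR.he, rfl⟩, ⟨zS, hR.hz, rfl⟩, ⟨cS, hR.hc, rfl⟩]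
    · intro hE
      have heM : e ∈ M := hclo ((hR.fr_le_two h).trans hDM) (fun t ht => by
        rcases ht with rfl | rfl | rfl
        exacts [⟨mS, hm, rfl⟩, ⟨zS, hDM (hR.z_mem_two h), rfl⟩, ⟨cS, hDM (hR.c_mem_two h), rfl⟩])
        eS hE
      have hEM : E ≤ M := fun y hy => by
        obtain ⟨A, B, D, k, hk, rfl⟩ := hR.decomp y hy
        exact mul_mem (mul_mem (mul_mem (_root_.pow_mem heM A)
          (_root_.pow_mem (hDM (hR.z_mem_two h)) B)) (_root_.pow_mem (hDM (hR.c_mem_two h)) D))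
          (hDM (hR.fr_le_two h hk))
      exact hwE ((eq_of_le_of_card_ge (hMN.trans hNS) hEM hcardE.ge) ▸ hwM)
    · obtain ⟨i, d, e1⟩ := hdecD (mS ^ p) (hR.pow_mem_two h hmN)
      rw [← map_pow, e1]
      exact mul_mem (_root_.pow_mem (Subgroup.subset_closure (by simp)) _)
        (_root_.pow_mem (Subgroup.subset_closure (by simp)) _)
    · intro hG
      refine hgN (hclo (hFrE.trans hEN) (fun t ht => ?_) gS hG)
      rcases ht with rfl | rfl | rfl | rfl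
      exacts [⟨mS, hmN, rfl⟩, ⟨eS, hEN hR.he, rfl⟩, ⟨zS, hEN hR.hz, rfl⟩, ⟨cS, hEN hR.hc, rfl⟩]
    · rw [← map_pow]; exact hNcl _ hgp
    · obtain ⟨i, hi⟩ := hdecO (gS * cS * gS⁻¹ * cS⁻¹) (hOne g hg c (hR.c_mem_two h))
      refine ⟨i, ?_⟩
      rw [map_mul, map_mul, map_mul, map_inv, map_inv, mul_inv_eq_iff_eq_mul] at hi
      rw [hi, (hCZ.pow_right i).eq]
    · obtain ⟨i, d, hi⟩ := hdecD (gS * mS * gS⁻¹ * mS⁻¹) (hMD g hg m hm)
      refine ⟨i, d, ?_⟩
      rw [map_mul, map_mul, map_mul, map_inv, map_inv, mul_inv_eq_iff_eq_mul] at hi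
      rw [hi, ((hZX.pow_left i).mul_left (hCX.pow_left d)).eq]
    · have hmD : m ∉ D₀ := fun hh => hmE (hDE hh)
      have hq' := hqM
      rw [hMgen m hm hmD] at hq'
      obtain ⟨d₀, hd₀, k, hqe⟩ := exists_mul_pow h.hS (hDN.trans hNS) (hNS hmN)
        (hND m (hNS₁ hmN)) hq'
      obtain ⟨i, d, hi⟩ := hdecD ⟨d₀, hNS₁ (hDN hd₀)⟩ hd₀
      refine ⟨k, k + i, d, fun hk => ?_, ?_⟩
      · have hpk : p ∣ k := (ZMod.natCast_eq_zero_iff k p).1 hk
        obtain ⟨r, rfl⟩ := hpk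
        refine hqD ?_
        rw [hqe, pow_mul]
        exact mul_mem hd₀ (_root_.pow_mem (hR.pow_mem_two h hmN) r)
      · have e1 : gS * eS * gS⁻¹ = ⟨d₀, hNS₁ (hDN hd₀)⟩ * mS ^ k * eS := Subtype.ext (by
          show g * e * g⁻¹ = d₀ * m ^ k * e
          rw [← hqe, hqdef, br]; group)
        have e2 := congrArg π e1
        rw [map_mul, map_mul, map_inv, map_mul, map_mul, map_pow, hi] at e2
        rw [e2]
        have e3 : X * E' * X⁻¹ = E' * Z := by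
          rw [← hZE.eq]; exact eq_mul_of_mul_inv_eq hbxe
        have e4 := NormalR3Weights.conj_pow_iter e3 (by rw [← hZX.eq, mul_inv_cancel_right]) k
        rw [mul_inv_eq_iff_eq_mul] at e4
        have c1 : Commute (Z ^ i * C ^ d) E' := (hZE.pow_left i).mul_left (hCE.pow_left d)
        have c2 : Commute (Z ^ k) (X ^ k) := hZX.pow_pow k k
        have c3 : Commute (Z ^ i * C ^ d) (X ^ k * Z ^ k) :=
          ((hZX.pow_pow i k).mul_left (hCX.pow_pow d k)).mul_right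
            ((Commute.pow_pow_self Z i k).mul_left (hCZ.pow_pow d k))
        calc Z ^ i * C ^ d * X ^ k * E' = Z ^ i * C ^ d * (X ^ k * E') := mul_assoc _ _ _
          _ = Z ^ i * C ^ d * (E' * (X ^ k * Z ^ k)) := by rw [e4, mul_assoc E', c2.eq]
          _ = E' * (Z ^ i * C ^ d * (X ^ k * Z ^ k)) := by rw [← mul_assoc, c1.eq, mul_assoc]
          _ = E' * (X ^ k * (Z ^ (k + i) * C ^ d)) := by
              rw [c3.eq, pow_add]; simp only [mul_assoc]
    · rw [hτ, ← map_pow]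
      refine hqeq _ _ ?_
      show (e ^ (a⁻¹).val)⁻¹ * f' e ∈ Fr
      rw [hf'f e (hEN hR.he)]; exact hfe
    · rw [hτ, ← map_pow]
      refine hqeq _ _ ?_
      show (z ^ a.val)⁻¹ * f' z ∈ Fr
      rw [hf'f z (hEN hR.hz)]; exact hfz
    · rw [hτ]
      refine hqeq _ _ ?_
      show c⁻¹ * f' c ∈ Fr
      rw [hf'f c (hEN hR.hc)]; exact hfc
    · obtain ⟨i, j, d, e1⟩ := hdecE ((mS ^ (a ^ 2).val)⁻¹ * fh mS) (by
        show (m ^ (a ^ 2).val)⁻¹ * f' m ∈ E
        rw [hf'f m hmN]; exact hm2)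
      refine ⟨i, j, d, ?_⟩
      rw [map_mul, map_inv, map_pow, inv_mul_eq_iff_eq_mul] at e1
      rw [hτ, e1]
    · have h1 := hf'S g hg
      rw [hS₁gen] at h1
      obtain ⟨n, hn, ν, e1⟩ := exists_mul_pow h.hS hNS hg.1 (hNn g hg) h1
      have hn' : cj (g ^ ν)⁻¹ n ∈ N := hNn _ (inv_mem (_root_.pow_mem hg ν)) n hn
      refine ⟨ν, π ⟨_, hNS₁ hn'⟩, hNcl _ hn', ?_⟩
      rw [hτ, ← map_pow, ← map_mul]
      refine congrArg π (Subtype.ext ?_)
      show f' g = g ^ ν * cj (g ^ ν)⁻¹ n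
      rw [e1, cj_apply]; group
  obtain ⟨A, hAc, hAp, hAcard⟩ := cfg.exists_elem (hS₁p.to_quotient Fr') h.hp5
  -- pull back
  let A' : Subgroup Ω := (A.comap π).map S₁.subtype
  have hA'S : A' ≤ S := (Subgroup.map_subtype_le _).trans hS₁S
  haveI := finite_of_le hA'S
  have hFrA : Fr ≤ A' := fun k hk => ⟨⟨k, hNS₁ (hEN (hFrE hk))⟩,
    show π _ ∈ A by rw [hq1 _ hk]; exact one_mem _, rfl⟩
  have hsec : Nat.card A' ≤ p ^ 3 * Nat.card Fr := by
    refine section_card h.rk hA'S hFrA ?_ ?_ ?_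
    · rintro _ ⟨r, -, rfl⟩ y hy
      exact hFrn (r : Ω) r.2 y hy
    · rintro _ ⟨r, hr, rfl⟩ _ ⟨t, ht, rfl⟩
      refine hq1' (r * t * r⁻¹ * t⁻¹) ?_
      rw [map_mul, map_mul, map_mul, map_inv, map_inv, hAc _ hr _ ht]
      group
    · rintro _ ⟨r, hr, rfl⟩
      refine hq1' (r ^ p) ?_
      rw [map_pow, hAp _ hr]
  have hinj : Nat.card A * Nat.card Fr ≤ Nat.card A' := by
    rw [← Nat.card_prod]
    refine Nat.card_le_card_of_injective (fun t : A × Fr =>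
      (⟨((t.1 : S₁ ⧸ Fr').out : Ω) * t.2, A'.mul_mem ⟨_, show π _ ∈ A by
        rw [QuotientGroup.mk'_apply, QuotientGroup.out_eq']; exact t.1.2, rfl⟩ (hFrA t.2.2)⟩ : A')) ?_
    rintro ⟨s, k⟩ ⟨t, l⟩ hst
    have e1 : ((s : S₁ ⧸ Fr').out : Ω) * k = ((t : S₁ ⧸ Fr').out : Ω) * l :=
      congrArg Subtype.val hst
    have e2 : ((t : S₁ ⧸ Fr').out : Ω)⁻¹ * (s : S₁ ⧸ Fr').out ∈ Fr := by
      rw [show ((t : S₁ ⧸ Fr').out : Ω)⁻¹ * (s : S₁ ⧸ Fr').out = (l : Ω) * (k : Ω)⁻¹ by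
        rw [eq_mul_inv_iff_mul_eq, mul_assoc, e1, inv_mul_cancel_left]]
      exact mul_mem l.2 (inv_mem k.2)
    have e3 : (s : S₁ ⧸ Fr') = (t : S₁ ⧸ Fr') := by
      have := hqeq _ _ e2
      rwa [QuotientGroup.mk'_apply, QuotientGroup.mk'_apply, QuotientGroup.out_eq',
        QuotientGroup.out_eq'] at this
    rw [Subtype.ext e3] at e1 ⊢
    rw [Subtype.ext (mul_left_cancel e1)]
  haveI := finite_of_le (hFrE.trans h.le)
  have h1 : p ^ 4 * Nat.card Fr ≤ p ^ 3 * Nat.card Fr :=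
    (Nat.mul_le_mul_right _ hAcard).trans (hinj.trans hsec)
  have h2 := Nat.pow_lt_pow_right hp.one_lt (show 3 < 4 by norm_num)
  exact absurd (Nat.le_of_mul_le_mul_right h1 Nat.card_pos) h2.not_ge

end Cfsg.Agent.NormalR3
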