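import Cfsg.Agent.Lib.NormalR3Key20
import Cfsg.Agent.Lib.NormalR3Lin20

/-!
The linear frame for S5180: a basis of `E / Φ(E)` adapted to an element of `N_S(E)` and a torus
element of `O^{p'}(Aut_F(E))` normalising `Aut_S(E)`.
-/

set_option autoImplicit false
set_option linter.unusedSectionVars false
set_option linter.style.haveILetI false

namespace Cfsg.Agent.NormalR3

open scoped commutatorElement
open Cfsg Cfsg.FusionSystem Cfsg.Agent.FusionSysBasic Cfsg.Agent.FusionSysSaturated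
  Cfsg.Agent.FusionSysNormal Cfsg.Agent.FusionSysAlperin Cfsg.Agent.Rank3 Cfsg.Agent.Rank3.CaseB2
  Cfsg.Agent.Rank3Tv34

universe u

variable {Ω : Type u} [Group Ω] {S : Subgroup Ω} {F : FusionSystem S} {p : ℕ} {E : Subgroup Ω}

theorem exists_unit_order (hp : p.Prime) (h5 : 5 ≤ p) :
    ∃ a : ZMod p, a ≠ 0 ∧ a ^ 2 ≠ 1 ∧ a ^ 3 ≠ 1 ∧ a ^ 5 ≠ 1 := by
  haveI := Fact.mk hp
  obtain ⟨u, hu⟩ := IsCyclic.exists_ofOrder_eq_natCard (α := (ZMod p)ˣ)
  rw [Nat.card_eq_fintype_card, ZMod.card_units] at hu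
  have key : ∀ k : ℕ, (u : ZMod p) ^ k = 1 → p - 1 ∣ k := fun k hk => hu ▸
    orderOf_dvd_of_pow_eq_one (Units.ext (by rw [Units.val_pow_eq_pow_val, hk, Units.val_one]))
  refine ⟨u, u.ne_zero, fun e => ?_, fun e => ?_, fun e => ?_⟩
  · have := Nat.le_of_dvd (by norm_num) (key _ e); omega
  · have := Nat.le_of_dvd (by norm_num) (key _ e); omega
  · rcases (Nat.dvd_prime (by norm_num : Nat.Prime 5)).1 (key _ e) with h | h
    · omega
    · have : p = 6 := by omega
      subst this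
      norm_num at hp

/-- The linear data. -/
structure Raw (F : FusionSystem S) (p : ℕ) (E : Subgroup Ω) (x e z c : Ω) (j : MulAut E)
    (a : ZMod p) : Prop where
  hx : x ∈ normalizerIn S E
  hxE : x ∉ E
  he : e ∈ E
  hz : z ∈ E
  hc : c ∈ E
  z_eq : z = cj x e * e⁻¹
  jm : j ∈ opp F p E
  jc : (orderOf j).Coprime p
  fix : ∀ f ∈ frE E, afun j f = f
  e_form : ∃ y ∈ E, ∃ i : ℕ, e = (y⁻¹ * afun j y) ^ i
  card : Nat.card E = p ^ 3 * Nat.card (frE E)
  decomp : ∀ y ∈ E, ∃ A B C : ℕ, ∃ f ∈ frE E, y = e ^ A * z ^ B * c ^ C * f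
  fixed : ∀ y ∈ E, afun j y = y → ∃ C : ℕ, ∃ f ∈ frE E, y = c ^ C * f
  je : (e ^ (a⁻¹).val)⁻¹ * afun j e ∈ frE E
  jz : (z ^ a.val)⁻¹ * afun j z ∈ frE E
  jfc : c⁻¹ * afun j c ∈ frE E
  xz : z⁻¹ * cj x z ∈ frE E
  xc : c⁻¹ * cj x c ∈ frE E
  jx : ∃ e₁ ∈ E, ∀ y ∈ E, afun j (cj x y) = cj (x ^ (a ^ 2).val * e₁) (afun j y)
  a0 : a ≠ 0
  a2 : a ^ 2 ≠ 1
  a3 : a ^ 3 ≠ 1
  a5 : a ^ 5 ≠ 1

theorem Hyp.exists_raw [Finite S] [Fact p.Prime] (h : Hyp F p E)
    (hnn : ¬ S ≤ Subgroup.normalizer (E : Set Ω)) (hrk : (frattini ↥E).index = p ^ 3) :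
    ∃ x e z c j a, Raw F p E x e z c j a := by
  classical
  have hp := (Fact.out : p.Prime)
  obtain ⟨K, x, hxN, hxE, hK, hfix0, hquad⟩ := h.key hnn
  haveI := finite_of_le h.le
  haveI := h.finite_opp
  set N := normalizerIn S E
  have hNS : N ≤ S := inf_le_left
  have hcardE : Nat.card E = p ^ 3 * Nat.card (frE E) := by
    rw [frE, Subgroup.card_map_of_injective E.subtype_injective, ← (frattini ↥E).card_mul_index,
      hrk, mul_comm]
  have hfrfix : ∀ j ∈ opp F p E, (orderOf j).Coprime p → ∀ f ∈ frE E, afun j f = f := by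
    intro j hjo hj f hf
    obtain ⟨w, hw, rfl⟩ := hf
    have hle : frattini ↥E ≤ (fixOf j).comap E.subtype := by
      rw [PGroupsBasic.frattini_eq_sup (h.hS.to_le h.le), commutator_eq_closure]
      refine sup_le ((Subgroup.closure_le _).2 ?_) ((Subgroup.closure_le _).2 ?_)
      · rintro _ ⟨a, b, rfl⟩
        refine ⟨SetLike.coe_mem (⁅a, b⁆ : E), ?_⟩
        exact (hfix0 j hjo hj (a : Ω) a.2 (b : Ω) b.2).1
      · rintro _ ⟨a, rfl⟩
        exact ⟨SetLike.coe_mem (a ^ p : E), (hfix0 j hjo hj (a : Ω) a.2 (a : Ω) a.2).2⟩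
    exact (hle hw).2
  -- `M = Φ(E) K`
  set M := frE E ⊔ K
  have hME : M ≤ E := sup_le frE_le hK.le
  have hMS : M ≤ S := hME.trans h.le
  have hMn : ∀ n ∈ N, ∀ y ∈ M, cj n y ∈ M := fun n hn y hy => by
    have := invBy_sup frE_le hK.le (fun α _ y hy => afun_mem_frE α hy) hK.inv
      (cN S E ⟨n, hn⟩) (h.cN_opp _) y hy
    rwa [afun_cN _ (hME hy)] at this
  have hfn : ∀ n ∈ N, ∀ y ∈ frE E, cj n y ∈ frE E := fun n hn y hy => cj_mem_frE hn hy
  haveI : Finite N := finite_of_le hNS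
  haveI := finite_of_le hMS
  haveI := finite_of_le (frE_le.trans h.le : frE E ≤ S)
  have hM1 : Nat.card M ≤ p * Nat.card (frE E) := by
    by_contra hbig
    refine h.kill_of_mod hK fun n hn y hy => ?_
    obtain ⟨k, hk⟩ := IsPGroup.iff_card.1 (h.hS.to_le hMS)
    obtain ⟨m, hm⟩ := IsPGroup.iff_card.1 (h.hS.to_le (frE_le.trans h.le : frE E ≤ S))
    rw [hk, hm, ← pow_succ'] at hbig
    have hkm : m + 2 ≤ k := by
      by_contra hlt
      exact hbig (Nat.pow_le_pow_right hp.pos (by omega))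
    have hEM : Nat.card E ≤ p * Nat.card M := by
      rw [hcardE, hk, hm, ← pow_add, ← pow_succ']
      exact Nat.pow_le_pow_right hp.pos (by omega)
    have hstep := step_comm (S := N) (p := p) (h.hS.to_le hNS) h.le_N hME hMn
      (fun g hg b hb => cj_mem_of_normalizer hg.2 hb) hEM n hn y hy
    rw [show y⁻¹ * cj n y = cj y⁻¹ (br n y) by simp only [cj_apply, br]; group]
    exact hMn _ (h.le_N (E.inv_mem hy)) _ hstep
  have hMcent : ∀ n ∈ N, ∀ y ∈ M, y⁻¹ * cj n y ∈ frE E := by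
    intro n hn y hy
    have hstep := step_comm (S := N) (p := p) (h.hS.to_le hNS) (hME.trans h.le_N) le_sup_left
      hfn hMn hM1 n hn y hy
    rw [show y⁻¹ * cj n y = cj y⁻¹ (br n y) by simp only [cj_apply, br]; group]
    exact hfn _ (h.le_N (E.inv_mem (hME hy))) _ hstep
  have hMfix := h.trivial_of_gen hME frE_le
    (invBy_sup frE_le hK.le (fun α _ y hy => afun_mem_frE α hy) hK.inv)
    (fun α _ y hy => afun_mem_frE α hy) hMcent
  -- the module
  have hEp : IsPGroup p E := h.hS.to_le h.le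
  have hcomm : ∀ u v : E ⧸ frattini E, u * v = v * u := by
    intro u v
    obtain ⟨a, rfl⟩ := QuotientGroup.mk_surjective u
    obtain ⟨b, rfl⟩ := QuotientGroup.mk_surjective v
    rw [← QuotientGroup.mk_mul, ← QuotientGroup.mk_mul, QuotientGroup.eq]
    refine PGroupsBasic.commutator_le_frattini hEp ?_
    rw [show (a * b)⁻¹ * (b * a) = ⁅b⁻¹, a⁻¹⁆ by rw [commutatorElement_def]; group]
    exact Subgroup.commutator_mem_commutator (Subgroup.mem_top _) (Subgroup.mem_top _)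
  have hexp : ∀ u : E ⧸ frattini E, u ^ p = 1 := by
    intro u
    obtain ⟨a, rfl⟩ := QuotientGroup.mk_surjective u
    rw [← QuotientGroup.mk_pow, QuotientGroup.eq_one_iff]
    exact PGroupsBasic.pow_mem_frattini hEp a
  letI : CommGroup (E ⧸ frattini E) :=
    { (inferInstance : Group (E ⧸ frattini E)) with mul_comm := hcomm }
  haveI : Module (ZMod p) (Additive (E ⧸ frattini E)) :=
    AddCommGroup.zmodModule fun u => by
      apply Additive.toMul.injective
      rw [toMul_nsmul]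
      exact hexp u.toMul
  haveI : FiniteDimensional (ZMod p) (Additive (E ⧸ frattini E)) := Module.Finite.of_finite
  have hd : Module.finrank (ZMod p) (Additive (E ⧸ frattini E)) = 3 := by
    have h1 : Nat.card (Additive (E ⧸ frattini E)) = p ^ 3 := hrk
    rw [Module.natCard_eq_pow_finrank (K := ZMod p), Nat.card_zmod] at h1
    exact Nat.pow_right_injective hp.two_le h1
  let v : E → Additive (E ⧸ frattini E) := fun y => Additive.ofMul (y : E ⧸ frattini E)
  have hvmul : ∀ u w : E, v (u * w) = v u + v w := fun _ _ => rfl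
  have hvinv : ∀ u : E, v u⁻¹ = -v u := fun _ => rfl
  have hvpow : ∀ (u : E) (n : ℕ), v (u ^ n) = (n : ZMod p) • v u := fun u n => by
    rw [Nat.cast_smul_eq_nsmul]; rfl
  have hvsurj : Function.Surjective v := fun w => by
    obtain ⟨y, hy⟩ := QuotientGroup.mk_surjective (Additive.toMul w)
    exact ⟨y, by show Additive.ofMul _ = w; rw [hy]; rfl⟩
  have hveq : ∀ u w : E, v u = v w ↔ ((u : Ω))⁻¹ * (w : Ω) ∈ frE E := fun u w => by
    rw [mem_frE (E.mul_mem (E.inv_mem u.2) w.2)]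
    show Additive.ofMul _ = Additive.ofMul _ ↔ _
    rw [Additive.ofMul.apply_eq_iff_eq, QuotientGroup.eq]
    rfl
  -- the representation
  let ρ₀ : opp F p E →* (Additive (E ⧸ frattini E) ≃ₗ[ZMod p] Additive (E ⧸ frattini E)) :=
    (linHom p).comp ((quotHom (frattini E)).comp (opp F p E).subtype)
  have hρ₀ : ∀ (α : opp F p E) (y : E), ρ₀ α (v y) = v ((α : MulAut E) y) := fun _ _ => rfl
  let G := ρ₀.range
  let π : opp F p E →* G := ρ₀.rangeRestrict
  let ρ : G →* (Additive (E ⧸ frattini E) ≃ₗ[ZMod p] Additive (E ⧸ frattini E)) := G.subtype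
  have hρ : Function.Injective ρ := G.subtype_injective
  have hπ : ∀ (α : opp F p E) (y : E), ρ (π α) (v y) = v ((α : MulAut E) y) := fun _ _ => rfl
  haveI : Finite G := Finite.of_surjective π ρ₀.rangeRestrict_surjective
  have hker : ∀ α : opp F p E, π α = 1 → (α : MulAut E) ∈ Inn E := by
    intro α hα
    refine FusionEssential88.mem_inn_of_trivial h.hS h.ess (opp_le F p E α.2) fun y => ?_
    have h1 := hπ α y
    rw [hα, rho_one] at h1
    exact QuotientGroup.eq.1 (Additive.ofMul.injective h1)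
  have hInnker : ∀ α : opp F p E, (α : MulAut E) ∈ Inn E → π α = 1 := by
    rintro α ⟨g, hg⟩
    refine eq_of_rho hρ fun w => ?_
    obtain ⟨y, rfl⟩ := hvsurj w
    rw [hπ, rho_one, ← hg, MulAut.conj_apply, hvmul, hvmul, hvinv, add_neg_cancel_comm]
  have hO : ∀ R : Subgroup G, R.Normal → IsPGroup p R → R = ⊥ := by
    intro R hRn hRp
    have hker_p : IsPGroup p π.ker := by
      intro α
      obtain ⟨g, hg⟩ := hker α (MonoidHom.mem_ker.1 α.2)
      obtain ⟨k, hk⟩ := hEp g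
      refine ⟨k, Subtype.ext (Subtype.ext ?_)⟩
      show ((α : opp F p E) : MulAut E) ^ p ^ k = 1
      rw [← hg, ← map_pow, hk, map_one]
    have hle : (R.comap π).map (opp F p E).subtype ≤ Inn E := by
      refine h.le_inn (Subgroup.map_subtype_le _)
        ((hRp.comap_of_ker_isPGroup π hker_p).map _) ?_
      rintro b hb _ ⟨m, hm, rfl⟩
      refine ⟨⟨b, hb⟩ * m * ⟨b, hb⟩⁻¹, ?_, rfl⟩
      show π _ ∈ R
      rw [map_mul, map_mul, map_inv]
      exact hRn.conj_mem _ hm _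
    rw [Subgroup.eq_bot_iff_forall]
    intro r hr
    obtain ⟨α, rfl⟩ := ρ₀.rangeRestrict_surjective r
    exact hInnker α (hle ⟨α, hr, rfl⟩)
  set αx : opp F p E := ⟨cN S E ⟨x, hxN⟩, h.cN_opp _⟩
  set t := π αx
  have hcn : ∀ n : N, ∃ k : ℤ, π ⟨cN S E n, h.cN_opp n⟩ = t ^ k := by
    intro n
    obtain ⟨e₀, he₀, k, hk⟩ := h.exists_eq_mul hxN hxE n.2
    refine ⟨k, ?_⟩
    have e1 : (⟨cN S E n, h.cN_opp n⟩ : opp F p E) =
        ⟨cN S E ⟨e₀, h.le_N he₀⟩, h.cN_opp _⟩ * αx ^ k := by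
      refine Subtype.ext ?_
      show cN S E n = cN S E _ * ((αx ^ k : opp F p E) : MulAut E)
      rw [SubgroupClass.coe_zpow, ← map_zpow, ← map_mul]
      exact congrArg _ (Subtype.ext hk)
    rw [e1, map_mul, map_zpow, hInnker _ ⟨⟨e₀, he₀⟩, ?_⟩, one_mul]
    refine afun_ext fun y hy => ?_
    rw [afun_cN _ hy, afun_apply _ hy]
    rfl
  have htp : t ^ p = 1 := by
    rw [← map_pow]
    refine hInnker _ ⟨⟨x ^ p, h.pow_mem hxN⟩, afun_ext fun y hy => ?_⟩
    rw [SubgroupClass.coe_pow, ← map_pow, afun_cN _ hy, afun_apply _ hy]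
    rfl
  have ht1 : t ≠ 1 := fun e => hxE (h.cN_mem_inn (hker _ e))
  have hot := orderOf_eq_prime htp ht1
  have hsyl : SylOne p G := by
    refine sylOne_of_card fun Q => ?_
    obtain ⟨P0, hP0⟩ := h.sylIn_opp
    rw [Sylow.card_eq_multiplicity,
      ← Sylow.card_eq_multiplicity (P0.mapSurjective (f := π) ρ₀.rangeRestrict_surjective)]
    have e1 : ((P0.mapSurjective (f := π) ρ₀.rangeRestrict_surjective : Sylow p G) : Subgroup G) =
        Subgroup.zpowers t := by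
      rw [Sylow.coe_mapSurjective, hP0]
      apply le_antisymm
      · rintro _ ⟨β, hβ, rfl⟩
        change (β : MulAut E) ∈ autInducedBy S E at hβ
        rw [autInducedBy_eq_range] at hβ
        obtain ⟨n, hn⟩ := hβ
        obtain ⟨k, hk⟩ := hcn n
        rw [show β = ⟨cN S E n, h.cN_opp n⟩ from Subtype.ext hn.symm, hk]
        exact Subgroup.zpow_mem _ (Subgroup.mem_zpowers t) k
      · rw [Subgroup.zpowers_le]
        exact ⟨αx, (autInducedBy_eq_range S E).ge ⟨_, rfl⟩, rfl⟩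
    rw [e1, Nat.card_zpowers, hot]
  have htv : ∀ y : E, ρ t (v y) = v ⟨cj x y, cj_mem_of_normalizer hxN.2 y.2⟩ := by
    intro y
    rw [hπ]
    congr 1
  have hbrE : ∀ y : Ω, y ∈ E → br x y ∈ E := fun y hy => by
    rw [br_eq_cj]; exact E.mul_mem (cj_mem_of_normalizer hxN.2 hy) (E.inv_mem hy)
  have hsub : ∀ (y : Ω) (hy : y ∈ E),
      ρ t (v ⟨y, hy⟩) - v ⟨y, hy⟩ = v ⟨br x y, hbrE y hy⟩ := by
    intro y hy
    rw [htv, sub_eq_add_neg, ← hvinv, ← hvmul]
    exact congrArg v (Subtype.ext (br_eq_cj x y).symm)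
  -- quadratic action
  have hqq : ∀ w, ρ t (ρ t w - w) = ρ t w - w := by
    intro w
    by_contra hne
    obtain ⟨y, rfl⟩ := hvsurj w
    have hiter : ∀ (y : Ω) (hy : y ∈ E), ρ t (ρ t (v ⟨y, hy⟩) - v ⟨y, hy⟩) -
        (ρ t (v ⟨y, hy⟩) - v ⟨y, hy⟩) = v ⟨br x (br x y), hbrE _ (hbrE y hy)⟩ := fun y hy => by
      rw [hsub y hy, hsub _ (hbrE y hy)]
    set q : E := ⟨br x (br x (y : Ω)), hbrE _ (hbrE _ y.2)⟩
    have hqM : (q : Ω) ∈ M := Subgroup.mem_sup_right (hquad _ y.2)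
    have hqfr : (q : Ω) ∉ frE E := by
      intro hq
      refine hne (sub_eq_zero.1 ?_)
      rw [hiter _ y.2]
      have : v q = v 1 := (hveq q 1).2 (by rw [Subgroup.coe_one, mul_one]; exact inv_mem hq)
      exact this
    have hP₀ : v q ≠ 0 := fun e => hqfr (by
      have := (hveq q 1).1 e
      rw [Subgroup.coe_one, mul_one] at this
      exact inv_mem_iff.1 this)
    have hMq : M = frE E ⊔ Subgroup.zpowers (q : Ω) := by
      have hle : frE E ⊔ Subgroup.zpowers (q : Ω) ≤ M :=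
        sup_le le_sup_left (Subgroup.zpowers_le.2 hqM)
      exact (eq_of_le_of_card_ge hMS hle (hM1.trans (mul_card_le_of_lt h.hS (hle.trans hMS)
        (lt_of_le_not_ge le_sup_left fun e => hqfr
          (e (Subgroup.mem_sup_right (Subgroup.mem_zpowers _))))))).symm
    refine hne (NormalR3Lin20.quad_of_fixed_line (P₀ := v q) (by have := h.hp5; omega) hρ hsyl hd
      hO htp hP₀ (fun g => ?_) (fun w => ?_) (v y))
    · obtain ⟨β, rfl⟩ := ρ₀.rangeRestrict_surjective g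
      rw [show ρ₀.rangeRestrict β = π β from rfl, hπ]
      refine ((hveq _ _).2 ?_).symm
      have := hMfix _ β.2 _ hqM
      rwa [afun_apply _ q.2] at this
    · obtain ⟨y', rfl⟩ := hvsurj w
      rw [hiter _ y'.2]
      have hq' : (br x (br x (y' : Ω))) ∈ M := Subgroup.mem_sup_right (hquad _ y'.2)
      rw [hMq, ← SetLike.mem_coe, Subgroup.coe_mul_of_right_le_normalizer_left _ _
        (Subgroup.zpowers_le.2 ?_)] at hq'
      · obtain ⟨f, hf, r, ⟨i, rfl⟩, hfr⟩ := Set.mem_mul.1 hq'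
        refine ⟨(i : ZMod p), ?_⟩
        have e1 : v ⟨br x (br x (y' : Ω)), hbrE _ (hbrE _ y'.2)⟩ =
            v (⟨f, frE_le hf⟩ * q ^ i) := congrArg v (Subtype.ext hfr.symm)
        rw [e1, hvmul, show v ⟨f, frE_le hf⟩ = 0 from (hveq _ 1).2
          (by rw [Subgroup.coe_one, mul_one]; exact inv_mem hf), zero_add, Int.cast_smul_eq_zsmul]
        rfl
      · exact mem_normalizer_of_cj_le (frE_le.trans h.le) fun f hf => hfn _ (h.le_N q.2) f hf
  -- transvection and torus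
  obtain ⟨a, ha0, ha2, ha3, ha5⟩ := exists_unit_order hp h.hp5
  have hne : ∃ w, ρ t w ≠ w := by
    by_contra hc
    push Not at hc
    exact ht1 (eq_of_rho hρ fun w => by rw [hc, rho_one])
  obtain ⟨P, φ, htP⟩ := exists_tv hd.le hqq hne
  have hnn' : ¬ (Subgroup.zpowers t).Normal := fun hh => by
    have := hO _ hh (IsPGroup.of_card (n := 1) (by rw [Nat.card_zpowers, hot, pow_one]))
    rw [Subgroup.zpowers_eq_bot] at this
    exact ht1 this
  obtain ⟨eb, zb, cb, τ, hspan, te, tz, tc, τe, τz, τc, τt⟩ :=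
    NormalR3Lin20.exists_torus hρ hsyl hd htP hnn' a ha0
  -- a lift of order prime to `p`
  obtain ⟨β, hβ⟩ := ρ₀.rangeRestrict_surjective τ
  set k := (orderOf β).factorization p
  set j := β ^ p ^ k
  have hjc : (orderOf (j : MulAut E)).Coprime p := by
    rw [Subgroup.orderOf_coe, orderOf_pow, Nat.gcd_eq_right (Nat.ordProj_dvd _ p)]
    exact (Nat.coprime_ordCompl hp (orderOf_pos β).ne').symm
  have hpk : ∀ b : ZMod p, b ^ p ^ k = b := fun b => ZMod.pow_card_pow b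
  have hτpow : ∀ (w : Additive (E ⧸ frattini E)) (b : ZMod p), ρ τ w = b • w →
      ∀ n : ℕ, ρ (τ ^ n) w = b ^ n • w := by
    intro w b hw n
    induction n with
    | zero => rw [pow_zero, rho_one, pow_zero, one_smul]
    | succ n ih => rw [pow_succ', rho_mul, ih, map_smul, hw, smul_smul, pow_succ]
  have hjπ : π j = τ ^ p ^ k := by rw [map_pow]; exact congrArg (· ^ p ^ k) hβ
  have hje : ρ (π j) eb = a⁻¹ • eb := by rw [hjπ, hτpow _ _ τe, hpk]
  have hjz : ρ (π j) zb = a • zb := by rw [hjπ, hτpow _ _ τz, hpk]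
  have hjcb : ρ (π j) cb = cb := by
    rw [hjπ, hτpow cb 1 (by rw [τc, one_smul]), one_pow, one_smul]
  have hjeq : π j = τ := by
    refine hρ (LinearEquiv.toLinearMap_injective (LinearMap.ext_on_range hspan fun i => ?_))
    show ρ (π j) _ = ρ τ _
    fin_cases i
    · exact hje.trans τe.symm
    · exact hjz.trans τz.symm
    · exact hjcb.trans τc.symm
  -- the elements
  obtain ⟨y, hy⟩ := hvsurj eb
  obtain ⟨c, hc⟩ := hvsurj cb
  have ha1 : a⁻¹ - 1 ≠ 0 := by
    rw [sub_ne_zero]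
    intro e
    exact ha2 (by rw [inv_eq_one.1 e, one_pow])
  set i := ((a⁻¹ - 1)⁻¹).val
  obtain ⟨e, heq⟩ : ∃ e : E, e = (y⁻¹ * (j : MulAut E) y) ^ i := ⟨_, rfl⟩
  have hve : v e = eb := by
    rw [heq, hvpow, hvmul, hvinv, ← hπ j y, hy, hje, ← neg_one_smul (ZMod p) eb, ← add_smul, smul_smul,
      ZMod.natCast_zmod_val, neg_add_eq_sub, inv_mul_cancel₀ ha1, one_smul]
  have hzmem : cj x e * (e : Ω)⁻¹ ∈ E :=
    E.mul_mem (cj_mem_of_normalizer hxN.2 e.2) (E.inv_mem e.2)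
  obtain ⟨z, hzeq⟩ : ∃ z : E, z = ⟨_, hzmem⟩ := ⟨_, rfl⟩
  have hvz : v z = zb := by
    have e1 : v z = v ⟨cj x e, cj_mem_of_normalizer hxN.2 e.2⟩ + -v e := by
      rw [hzeq, ← hvinv, ← hvmul]; rfl
    rw [e1, ← htv, hve, te]; abel
  have hafun : ∀ u : E, afun (j : MulAut E) (u : Ω) = ((j : MulAut E) u : E) :=
    fun u => afun_apply _ u.2
  have hdec : ∀ u : E, ∃ A B C : ZMod p, v u = A • eb + B • zb + C • cb := by
    intro u
    have : v u ∈ Submodule.span (ZMod p) (Set.range ![eb, zb, cb]) := hspan ▸ Submodule.mem_top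
    obtain ⟨g, hg⟩ := (Submodule.mem_span_range_iff_exists_fun _).1 this
    exact ⟨g 0, g 1, g 2, by simp [← hg, Fin.sum_univ_three]⟩
  have hli : LinearIndependent (ZMod p) ![eb, zb, cb] :=
    linearIndependent_of_top_le_span_of_card_eq_finrank hspan.ge (by simp [hd])
  refine ⟨x, e, z, c, j, a, hxN, hxE, e.2, z.2, c.2, by rw [hzeq], j.2, hjc, hfrfix _ j.2 hjc,
    ⟨y, y.2, i, by rw [hafun, heq, SubgroupClass.coe_pow]; rfl⟩, hcardE, fun u hu => ?_,
    fun u hu hju => ?_, ?_, ?_, ?_, ?_, ?_, ?_, ha0, ha2, ha3, ha5⟩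
  · obtain ⟨A, B, C, hABC⟩ := hdec ⟨u, hu⟩
    have h1 : v (e ^ A.val * z ^ B.val * c ^ C.val) = v ⟨u, hu⟩ := by
      rw [hABC, hvmul, hvmul, hvpow, hvpow, hvpow, hve, hvz, hc, ZMod.natCast_zmod_val,
        ZMod.natCast_zmod_val, ZMod.natCast_zmod_val]
    exact ⟨A.val, B.val, C.val, _, (hveq _ _).1 h1, (mul_inv_cancel_left _ _).symm⟩
  · obtain ⟨A, B, C, hABC⟩ := hdec ⟨u, hu⟩
    have h2 : ρ (π j) (v ⟨u, hu⟩) = v ⟨u, hu⟩ := by
      rw [hπ]
      congr 1
      exact Subtype.ext ((hafun ⟨u, hu⟩).symm.trans hju)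
    rw [hABC, map_add, map_add, map_smul, map_smul, map_smul, hje, hjz, hjcb, smul_smul,
      smul_smul] at h2
    have h3 : (A * a⁻¹ - A) • eb + (B * a - B) • zb = 0 := by
      rw [sub_smul, sub_smul, ← sub_eq_zero.2 h2]
      abel
    obtain ⟨hA, hB⟩ : A * a⁻¹ - A = 0 ∧ B * a - B = 0 := by
      have := Fintype.linearIndependent_iff.1 hli ![A * a⁻¹ - A, B * a - B, 0]
        (by simp [Fin.sum_univ_three, h3])
      exact ⟨this 0, this 1⟩
    have hA0 : A = 0 := by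
      rw [show A * a⁻¹ - A = A * (a⁻¹ - 1) by ring, mul_eq_zero] at hA
      exact hA.resolve_right ha1
    have hB0 : B = 0 := by
      rw [show B * a - B = B * (a - 1) by ring, mul_eq_zero] at hB
      refine hB.resolve_right fun e' => ha2 ?_
      rw [sub_eq_zero.1 e', one_pow]
    have h4 : v (c ^ C.val) = v ⟨u, hu⟩ := by
      rw [hABC, hA0, hB0, hvpow, hc, ZMod.natCast_zmod_val]; simp
    exact ⟨C.val, _, (hveq _ _).1 h4, (mul_inv_cancel_left _ _).symm⟩
  · rw [hafun, ← SubgroupClass.coe_pow]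
    refine (hveq _ _).1 ?_
    rw [hvpow, hve, ← hπ j e, hve, hje, ZMod.natCast_zmod_val]
  · rw [hafun, ← SubgroupClass.coe_pow]
    refine (hveq _ _).1 ?_
    rw [hvpow, hvz, ← hπ j z, hvz, hjz, ZMod.natCast_zmod_val]
  · rw [hafun]
    refine (hveq _ _).1 ?_
    rw [← hπ j c, hc, hjcb]
  · refine (hveq z ⟨_, cj_mem_of_normalizer hxN.2 z.2⟩).1 ?_
    rw [← htv, hvz, tz]
  · refine (hveq c ⟨_, cj_mem_of_normalizer hxN.2 c.2⟩).1 ?_
    rw [← htv, hc, tc]
  · set m := (a ^ 2).val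
    have h1 : π (j * αx * j⁻¹) = π (αx ^ m) := by
      rw [map_mul, map_mul, map_inv, hjeq, map_pow]; exact τt
    obtain ⟨g, hg⟩ := hker ((αx ^ m)⁻¹ * (j * αx * j⁻¹))
      (by rw [map_mul, map_inv, h1, inv_mul_cancel])
    refine ⟨(g : Ω), g.2, fun u hu => ?_⟩
    have h2 : ((j * αx * j⁻¹ : opp F p E) : MulAut E) =
        ((αx ^ m : opp F p E) : MulAut E) * MulAut.conj g := by
      rw [hg]
      simp only [Subgroup.coe_mul, Subgroup.coe_inv]
      group
    have hju := afun_mem (j : MulAut E) hu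
    have h3 : afun ((j * αx * j⁻¹ : opp F p E) : MulAut E) (afun (j : MulAut E) u) =
        afun (((αx ^ m : opp F p E) : MulAut E) * MulAut.conj g) (afun (j : MulAut E) u) := by
      rw [h2]
    simp only [Subgroup.coe_mul, Subgroup.coe_inv] at h3
    have h4 : afun (MulAut.conj g) (afun (j : MulAut E) u) = cj (g : Ω) (afun (j : MulAut E) u) := by
      rw [afun_apply (MulAut.conj g) hju, MulAut.conj_apply]; rfl
    rw [afun_mul _ _ hju, afun_mul _ _ hju, afun_inv_apply _ hu, afun_mul _ _ hu, h4] at h3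
    rw [show afun (αx : MulAut E) u = cj x u from afun_cN _ hu,
      show ((αx ^ m : opp F p E) : MulAut E) = cN S E (⟨x, hxN⟩ ^ m) by
        rw [SubgroupClass.coe_pow, map_pow],
      afun_cN _ (cj_mem_of_normalizer (h.le_N g.2).2 hju)] at h3
    rw [h3, ← cj_cj]
    rfl

end Cfsg.Agent.NormalR3
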