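import Mathlib
import Cfsg.Agent.Lib.PGL2Orders
import Cfsg.Agent.Lib.PSLCard

/-!
Numbers of elements of a given order in `PGL(2,q)`, `q` odd: `q^2` involutions, `q^2 - 1` elements of
order `p`, and a multiple of `q` for every other order but `1`.
-/

set_option autoImplicit false
set_option linter.style.haveILetI false

namespace Cfsg.Agent.NsePGLStats28

open Matrix Cfsg.Agent.PGL2Orders

/-- In a group with a subgroup of order `p^a` in which no element order is a proper multiple of
`p`, the number of elements of each order other than `1` and `p` is divisible by `p^a`. -/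
theorem dvd_card_orderOf {G : Type*} [Group G] [Finite G] {p : ℕ} (hp : p.Prime) {a : ℕ}
    (U : Subgroup G) (hU : Nat.card U = p ^ a)
    (hiso : ∀ x : G, p ∣ orderOf x → orderOf x = p) {n : ℕ} (hn1 : n ≠ 1) (hnp : n ≠ p) :
    p ^ a ∣ Nat.card {x : G // orderOf x = n} := by
  classical
  let iU : MulAction U {x : G // orderOf x = n} :=
    { smul := fun u x => ⟨(u : G) * x.1 * (u : G)⁻¹, by
        have := (MulAut.conj (u : G)).orderOf_eq x.1
        rw [MulAut.conj_apply] at this
        exact this.trans x.2⟩
      one_smul := fun x => Subtype.ext (by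
        show ((1 : U) : G) * x.1 * ((1 : U) : G)⁻¹ = x.1
        simp)
      mul_smul := fun u v x => Subtype.ext (by
        show ((u * v : U) : G) * x.1 * ((u * v : U) : G)⁻¹ =
          (u : G) * ((v : G) * x.1 * (v : G)⁻¹) * (u : G)⁻¹
        rw [Subgroup.coe_mul]
        group) }
  letI := iU
  have hfree : ∀ x : {x : G // orderOf x = n}, MulAction.stabilizer U x = ⊥ := by
    intro x
    rw [Subgroup.eq_bot_iff_forall]
    intro u hu
    by_contra hu1
    have hcomm : Commute (u : G) x.1 := by
      have e := congrArg Subtype.val (MulAction.mem_stabilizer_iff.1 hu)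
      exact mul_inv_eq_iff_eq_mul.1 e
    have huo : orderOf (u : G) = p := by
      refine hiso _ ?_
      have h1 : orderOf (u : G) ∣ p ^ a := hU ▸ Subgroup.orderOf_dvd_natCard U u.2
      obtain ⟨k, -, hk⟩ := (Nat.dvd_prime_pow hp).1 h1
      rcases k with _ | k
      · exact absurd (Subtype.ext (orderOf_eq_one_iff.1 (by simpa using hk))) hu1
      · rw [hk]; exact dvd_pow_self p k.succ_ne_zero
    have hcop : Nat.Coprime p n := by
      rcases Nat.coprime_or_dvd_of_prime hp n with h | h
      · exact h
      · exact absurd ((hiso x.1 (x.2.symm ▸ h)).symm.trans x.2).symm hnp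
    have hmul := hcomm.orderOf_mul_eq_mul_orderOf_of_coprime (by rw [huo, x.2]; exact hcop)
    rw [huo, x.2] at hmul
    have := hiso ((u : G) * x.1) (by rw [hmul]; exact dvd_mul_right p n)
    rw [hmul] at this
    exact hn1 ((Nat.mul_eq_left hp.ne_zero).1 this)
  rw [Nat.card_congr (MulAction.selfEquivOrbitsQuotientProd hfree), Nat.card_prod, hU]
  exact dvd_mul_left _ _

variable {F : Type*} [Field F] [Fintype F]

local notation "M2" => Matrix (Fin 2) (Fin 2) F
local notation "PG" => GL (Fin 2) F ⧸ Subgroup.center (GL (Fin 2) F)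

omit [Fintype F] in
theorem exists_scalar {A B : GL (Fin 2) F} (h : (QuotientGroup.mk A : PG) = QuotientGroup.mk B) :
    ∃ r : F, (B : M2) = r • (A : M2) := by
  obtain ⟨r, hr⟩ := scalar_of_mem_center (QuotientGroup.eq.1 h)
  refine ⟨r, ?_⟩
  have : (B : M2) = (A : M2) * ((A⁻¹ * B : GL (Fin 2) F) : M2) := by
    rw [← Units.val_mul, mul_inv_cancel_left]
  rw [this, hr, Matrix.mul_smul, mul_one]

omit [Fintype F] in
theorem mk_eq_of_scalar {A B : GL (Fin 2) F} {r : F} (h : (B : M2) = r • (A : M2)) :
    (QuotientGroup.mk A : PG) = QuotientGroup.mk B := by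
  rw [QuotientGroup.eq]
  refine mem_center_of_scalar (r := r) ?_
  rw [Units.val_mul, h, Matrix.mul_smul, ← Units.val_mul, inv_mul_cancel, Units.val_one]

omit [Fintype F] in
theorem mk_ne_one {A : GL (Fin 2) F} (h : ∀ r : F, (A : M2) ≠ r • (1 : M2)) :
    (QuotientGroup.mk A : PG) ≠ 1 := by
  rw [Ne, QuotientGroup.eq_one_iff]
  intro hc
  obtain ⟨r, hr⟩ := scalar_of_mem_center hc
  exact h r hr

theorem hiso (p : ℕ) [Fact p.Prime] [CharP F p] (x : PG) (hx : p ∣ orderOf x) : orderOf x = p := by
  have hp : p.Prime := Fact.out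
  have hpq : p ∣ Fintype.card F := by
    obtain ⟨n, -, hn⟩ := FiniteField.card F p
    rw [hn]; exact dvd_pow_self p n.ne_zero
  have hq : 1 ≤ Fintype.card F := Fintype.card_pos
  rcases pow_cases p x with h | h | h
  · exact ((Nat.dvd_prime hp).1 (orderOf_dvd_of_pow_eq_one h)).resolve_left fun e =>
      hp.one_lt.ne' (Nat.dvd_one.1 (e ▸ hx))
  · exfalso
    have := Nat.dvd_sub hpq (hx.trans (orderOf_dvd_of_pow_eq_one h))
    rw [show Fintype.card F - (Fintype.card F - 1) = 1 by omega] at this
    exact hp.one_lt.ne' (Nat.dvd_one.1 this)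
  · exfalso
    have := Nat.dvd_sub (hx.trans (orderOf_dvd_of_pow_eq_one h)) hpq
    rw [show Fintype.card F + 1 - Fintype.card F = 1 by omega] at this
    exact hp.one_lt.ne' (Nat.dvd_one.1 this)

/-- The number of pairs with `1 + bc ≠ 0`. -/
theorem card_det_pairs :
    Nat.card {v : F × F // 1 + v.1 * v.2 ≠ 0} + Nat.card Fˣ = Nat.card F ^ 2 := by
  classical
  let e : Fˣ ≃ {v : F × F // 1 + v.1 * v.2 = 0} :=
    { toFun := fun b => ⟨((b : F), -((b⁻¹ : Fˣ) : F)), by simp⟩
      invFun := fun v => Units.mk0 v.1.1 fun h => by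
        have := v.2
        rw [h, zero_mul, add_zero] at this
        exact one_ne_zero this
      left_inv := fun b => Units.ext rfl
      right_inv := fun v => Subtype.ext (Prod.ext rfl (by
        have hv := v.2
        have h0 : v.1.1 ≠ 0 := fun h => by
          rw [h, zero_mul, add_zero] at hv
          exact one_ne_zero hv
        show -((Units.mk0 v.1.1 _)⁻¹ : Fˣ).1 = v.1.2
        rw [Units.val_inv_eq_inv_val, Units.val_mk0]
        field_simp
        linear_combination -hv)) }
  rw [Nat.card_congr e, Nat.add_comm, ← Nat.card_sum,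
    Nat.card_congr (Equiv.sumCompl fun v : F × F => 1 + v.1 * v.2 = 0), Nat.card_prod, sq]

theorem card_involutions (p : ℕ) [Fact p.Prime] [CharP F p] (hp2 : p ≠ 2) :
    Nat.card {x : PG // orderOf x = 2} = Nat.card F ^ 2 := by
  classical
  have h2 : (2 : F) ≠ 0 := Ring.two_ne_zero (by rw [ringChar.eq F p]; exact hp2)
  haveI : Fact (Nat.Prime 2) := ⟨Nat.prime_two⟩
  let M : {v : F × F // 1 + v.1 * v.2 ≠ 0} ⊕ Fˣ → M2 := fun s =>
    match s with
    | Sum.inl v => !![1, v.1.1; v.1.2, -1]
    | Sum.inr c => !![0, 1; (c : F), 0]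
  have hdet : ∀ s, (M s).det ≠ 0 := by
    rintro (v | c)
    · simp only [M, Matrix.det_fin_two_of]
      intro h
      exact v.2 (by linear_combination -h)
    · simp [M, Matrix.det_fin_two_of]
  have htr : ∀ s, (M s).trace = 0 := by
    rintro (v | c) <;> simp [M, Matrix.trace_fin_two]
  let A : {v : F × F // 1 + v.1 * v.2 ≠ 0} ⊕ Fˣ → GL (Fin 2) F := fun s =>
    GeneralLinearGroup.mkOfDetNeZero (M s) (hdet s)
  have hA : ∀ s, (A s : M2) = M s := fun s => rfl
  have hord : ∀ s, orderOf (QuotientGroup.mk (A s) : PG) = 2 := by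
    intro s
    refine orderOf_eq_prime ?_ (mk_ne_one fun r hr => ?_)
    · refine mk_pow_eq_one (r := -(M s).det) ?_
      rw [sq, hA, sq_eq, htr, zero_smul, zero_sub, neg_smul]
    · rw [hA] at hr
      have e00 := congrFun (congrFun hr 0) 0
      have e01 := congrFun (congrFun hr 0) 1
      have e11 := congrFun (congrFun hr 1) 1
      rcases s with v | c <;> simp [M] at e00 e01 e11
      exact h2 (by linear_combination e00 - e11)
  let f : {v : F × F // 1 + v.1 * v.2 ≠ 0} ⊕ Fˣ → {x : PG // orderOf x = 2} := fun s =>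
    ⟨QuotientGroup.mk (A s), hord s⟩
  have hf : Function.Bijective f := by
    constructor
    · intro s s' h
      obtain ⟨r, hr⟩ := exists_scalar (congrArg Subtype.val h)
      rw [hA, hA] at hr
      have e00 := congrFun (congrFun hr 0) 0
      have e01 := congrFun (congrFun hr 0) 1
      have e10 := congrFun (congrFun hr 1) 0
      rcases s with v | c <;> rcases s' with w | d <;> simp [M] at e00 e01 e10
      · subst e00
        simp only [one_mul] at e01 e10
        rw [Subtype.ext (Prod.ext e01.symm e10.symm) (a1 := v) (a2 := w)]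
      · subst e00; simp at e01
      · subst e01
        simp only [one_mul] at e10
        rw [Units.ext e10.symm (u := c) (v := d)]
    · rintro ⟨x, hx⟩
      obtain ⟨B, rfl⟩ := QuotientGroup.mk_surjective x
      have hB2 : (QuotientGroup.mk B : PG) ^ 2 = 1 := by
        have := pow_orderOf_eq_one (QuotientGroup.mk B : PG)
        rwa [hx] at this
      rw [← QuotientGroup.mk_pow, QuotientGroup.eq_one_iff] at hB2
      obtain ⟨r, hr⟩ := scalar_of_mem_center hB2
      rw [Units.val_pow_eq_pow_val, sq, sq_eq] at hr
      have ht : (B : M2).trace = 0 := by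
        by_contra ht
        refine (mk_ne_one (A := B) (F := F) fun s hs => ?_) ?_
        · exact absurd hx (by
            rw [(QuotientGroup.eq_one_iff B).2 (mem_center_of_scalar hs), orderOf_one]; norm_num)
        · refine (QuotientGroup.eq_one_iff B).2 (mem_center_of_scalar
            (r := ((B : M2).trace)⁻¹ * (r + (B : M2).det)) ?_)
          rw [mul_smul, add_smul, ← hr, sub_add_cancel, inv_smul_smul₀ ht]
      have h11 : (B : M2) 1 1 = -(B : M2) 0 0 := by
        rw [Matrix.trace_fin_two] at ht; linear_combination ht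
      have hd : (B : M2).det ≠ 0 := (Matrix.GeneralLinearGroup.det B).ne_zero
      rw [Matrix.det_fin_two, h11] at hd
      by_cases ha : (B : M2) 0 0 = 0
      · have hb : (B : M2) 0 1 ≠ 0 := fun h => hd (by rw [ha, h]; ring)
        have hc : (B : M2) 1 0 ≠ 0 := fun h => hd (by rw [ha, h]; ring)
        refine ⟨Sum.inr (Units.mk0 ((B : M2) 1 0 / (B : M2) 0 1) (div_ne_zero hc hb)), Subtype.ext ?_⟩
        refine mk_eq_of_scalar (r := (B : M2) 0 1) ?_
        ext i j
        fin_cases i <;> fin_cases j <;> simp [A, M, ha, h11, GeneralLinearGroup.mkOfDetNeZero]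
        field_simp
      · refine ⟨Sum.inl ⟨((B : M2) 0 1 / (B : M2) 0 0, (B : M2) 1 0 / (B : M2) 0 0), ?_⟩, Subtype.ext ?_⟩
        · intro h
          field_simp at h
          exact hd (by linear_combination -h)
        · refine mk_eq_of_scalar (r := (B : M2) 0 0) ?_
          ext i j
          fin_cases i <;> fin_cases j <;> simp [A, M, h11, GeneralLinearGroup.mkOfDetNeZero] <;> field_simp
  rw [← Nat.card_congr (Equiv.ofBijective f hf), Nat.card_sum, card_det_pairs]

theorem card_order_char (p : ℕ) [Fact p.Prime] [CharP F p] (hp2 : p ≠ 2) :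
    Nat.card {x : PG // orderOf x = p} = Nat.card F ^ 2 - 1 := by
  classical
  have hp : p.Prime := Fact.out
  have h2 : (2 : F) ≠ 0 := Ring.two_ne_zero (by rw [ringChar.eq F p]; exact hp2)
  let N : (Fˣ × F) ⊕ Fˣ → M2 := fun s =>
    match s with
    | Sum.inl v => !![v.2, (v.1 : F); -(v.2 ^ 2) / (v.1 : F), -v.2]
    | Sum.inr c => !![0, 0; (c : F), 0]
  have hN : ∀ s, N s * N s = 0 := by
    rintro (⟨b, a⟩ | c)
    · have hb : (b : F) ≠ 0 := b.ne_zero
      ext i j
      fin_cases i <;> fin_cases j <;> simp [N, Matrix.mul_apply, Fin.sum_univ_two] <;>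
        field_simp <;> ring
    · ext i j
      fin_cases i <;> fin_cases j <;> simp [N, Matrix.mul_apply, Fin.sum_univ_two]
  let A : (Fˣ × F) ⊕ Fˣ → GL (Fin 2) F := fun s =>
    ⟨1 + N s, 1 - N s, by rw [add_mul, mul_sub, mul_sub, hN]; simp,
      by rw [sub_mul, mul_add, mul_add, hN]; simp⟩
  have hA : ∀ s, (A s : M2) = 1 + N s := fun s => rfl
  have hord : ∀ s, orderOf (QuotientGroup.mk (A s) : PG) = p := by
    intro s
    refine orderOf_eq_prime (mk_pow_eq_one (r := 1 ^ p) ?_) (mk_ne_one fun r hr => ?_)
    · refine pow_char_of_sq_zero p _ 1 ?_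
      rw [hA, one_smul, add_sub_cancel_left, sq, hN]
    · rw [hA] at hr
      have e01 := congrFun (congrFun hr 0) 1
      have e10 := congrFun (congrFun hr 1) 0
      rcases s with v | c <;> simp [N] at e01 e10
  let f : (Fˣ × F) ⊕ Fˣ → {x : PG // orderOf x = p} := fun s => ⟨QuotientGroup.mk (A s), hord s⟩
  have hf : Function.Bijective f := by
    constructor
    · intro s s' h
      obtain ⟨r, hr⟩ := exists_scalar (congrArg Subtype.val h)
      rw [hA, hA] at hr
      have htrN : ∀ s, (N s).trace = 0 := by rintro (v | c) <;> simp [N, Matrix.trace_fin_two]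
      have hr1 : r = 1 := by
        have e := congrArg Matrix.trace hr
        rw [Matrix.trace_smul, Matrix.trace_add, Matrix.trace_add, htrN, htrN, Matrix.trace_one,
          Fintype.card_fin, Nat.cast_ofNat, add_zero, smul_eq_mul] at e
        exact mul_right_cancel₀ h2 (e.symm.trans (one_mul _).symm)
      rw [hr1, one_smul, add_right_inj] at hr
      have e00 := congrFun (congrFun hr 0) 0
      have e01 := congrFun (congrFun hr 0) 1
      have e10 := congrFun (congrFun hr 1) 0
      rcases s with ⟨b, a⟩ | c <;> rcases s' with ⟨b', a'⟩ | c' <;> simp [N] at e00 e01 e10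
      · rw [Units.ext e01.symm (u := b) (v := b'), e00]
      · exact absurd e01.symm b.ne_zero
      · rw [Units.ext e10.symm (u := c) (v := c')]
    · rintro ⟨x, hx⟩
      obtain ⟨B, rfl⟩ := QuotientGroup.mk_surjective x
      have hBp : (QuotientGroup.mk B : PG) ^ p = 1 := (by have := pow_orderOf_eq_one (QuotientGroup.mk B : PG); rwa [hx] at this)
      rw [← QuotientGroup.mk_pow, QuotientGroup.eq_one_iff] at hBp
      obtain ⟨r, hr⟩ := scalar_of_mem_center hBp
      rw [Units.val_pow_eq_pow_val] at hr
      obtain ⟨s, rfl⟩ := (bijective_frobenius F p).2 r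
      set K := (B : M2) - s • (1 : M2) with hK
      have hKp : K ^ p = 0 := by
        rw [hK, sub_pow_char_of_commute p ((Commute.one_right _).smul_right s), hr, smul_pow, one_pow,
          frobenius_def, sub_self]
      have hKd : K.det = 0 := by
        have := congrArg Matrix.det hKp
        rw [Matrix.det_pow, Matrix.det_zero] at this
        exact eq_zero_of_pow_eq_zero this
      have hKK : K * K = K.trace • K := by rw [sq_eq, hKd, zero_smul, sub_zero]
      have hKt : K.trace = 0 := by
        by_contra ht
        have hpow : ∀ k, K ^ (k + 1) = K.trace ^ k • K := by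
          intro k
          induction k with
          | zero => simp
          | succ k ih => rw [pow_succ, ih, Matrix.smul_mul, hKK, smul_smul, ← pow_succ]
        rw [show p = p - 1 + 1 by have := hp.one_lt; omega, hpow, smul_eq_zero] at hKp
        have hK0 := hKp.resolve_left (pow_ne_zero _ ht)
        rw [hK0, Matrix.trace_zero] at ht
        exact ht rfl
      have hs : s ≠ 0 := by
        rintro rfl
        rw [hK, zero_smul, sub_zero] at hKd
        exact (Matrix.GeneralLinearGroup.det B).ne_zero hKd
      have h11 : K 1 1 = -K 0 0 := by rw [Matrix.trace_fin_two] at hKt; linear_combination hKt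
      rw [Matrix.det_fin_two, h11] at hKd
      have hB : (B : M2) = s • (1 + s⁻¹ • K) := by
        rw [smul_add, smul_smul, mul_inv_cancel₀ hs, one_smul, hK, add_sub_cancel]
      have hKne : K ≠ 0 := by
        intro h0
        rw [h0, smul_zero, add_zero] at hB
        rw [(QuotientGroup.eq_one_iff B).2 (mem_center_of_scalar hB), orderOf_one] at hx
        exact hp.ne_one hx.symm
      by_cases hb : K 0 1 = 0
      · have ha : K 0 0 = 0 := by
          rw [hb, zero_mul, sub_zero] at hKd
          exact mul_self_eq_zero.1 (neg_eq_zero.1 (by rw [← mul_neg]; exact hKd))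
        have hc : K 1 0 ≠ 0 := fun hc => hKne (by
          ext i j
          fin_cases i <;> fin_cases j <;> simp [ha, hb, hc, h11])
        refine ⟨Sum.inr (Units.mk0 (s⁻¹ * K 1 0) (mul_ne_zero (inv_ne_zero hs) hc)), Subtype.ext ?_⟩
        refine mk_eq_of_scalar (r := s) ?_
        rw [hB]
        simp only [A]
        congr 1
        ext i j
        fin_cases i <;> fin_cases j <;> simp [N, ha, hb, h11]
      · refine ⟨Sum.inl (Units.mk0 (s⁻¹ * K 0 1) (mul_ne_zero (inv_ne_zero hs) hb), s⁻¹ * K 0 0),
          Subtype.ext ?_⟩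
        refine mk_eq_of_scalar (r := s) ?_
        rw [hB]
        simp only [A]
        congr 1
        ext i j
        fin_cases i <;> fin_cases j <;> simp [N, h11]
        field_simp
        first | linear_combination hKd | linear_combination -hKd | linear_combination (-2 : F) * hKd | linear_combination (2 : F) * hKd
  have hu : Nat.card Fˣ = Nat.card F - 1 := Nat.card_units F
  rw [← Nat.card_congr (Equiv.ofBijective f hf), Nat.card_sum, Nat.card_prod, hu]
  obtain ⟨k, hk⟩ : ∃ k, Nat.card F = k + 1 := ⟨Nat.card F - 1, by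
    have : 0 < Nat.card F := Nat.card_pos
    omega⟩
  rw [hk, Nat.add_sub_cancel, show (k + 1) ^ 2 = k * (k + 1) + k + 1 by ring, Nat.add_sub_cancel]

end Cfsg.Agent.NsePGLStats28
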