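import Mathlib
import Cfsg.Agent.Lib.ZassenhausPGLOddDegree
import Cfsg.Agent.Lib.PSLCard

/-!
A sharply triply transitive group in which every element swapping two points is an involution is
`PGL₂` (any degree).
-/

set_option autoImplicit false
set_option linter.style.haveILetI false

open scoped OnePoint

namespace Cfsg.Agent.ZassenhausInverted28

open MulAction Cfsg.Agent.Zassenhaus Cfsg.Agent.ZassenhausPGL

universe u

variable {G : Type u} [Group G] [Finite G] {V : Type u} [AddCommGroup V] [Finite V]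
variable {ρ : G →* Equiv.Perm (OnePoint V)} {H : Subgroup G} {act : H →* AddMonoid.End V}

/-- If every element interchanging `∞` and `0` squares to one, the group is `PGL₂`. -/
theorem pgl_of_swaps (hA : Affine ρ H act) [Nontrivial V]
    (h3 : ∀ a b c : OnePoint V, a ≠ b → a ≠ c → b ≠ c → ∀ a' b' c' : OnePoint V, a' ≠ b' → a' ≠ c' →
      b' ≠ c' → ∃ g, ρ g a = a' ∧ ρ g b = b' ∧ ρ g c = c')
    (hswap : ∀ g, ρ g ∞ = ((0 : V) : OnePoint V) → ρ g ((0 : V) : OnePoint V) = ∞ → g * g = 1) :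
    ∃ (F : Type) (_ : Field F) (_ : Fintype F), Fintype.card F = Nat.card V ∧
      Nonempty (G ≃* Matrix.ProjGenLinGroup (Fin 2) F) := by
  classical
  obtain ⟨e₁, he₁⟩ := _root_.exists_ne (0 : V)
  have hne : ∀ v : V, v ≠ 0 → ((0 : V) : OnePoint V) ≠ (v : OnePoint V) := fun v hv h =>
    hv (OnePoint.coe_injective h).symm
  obtain ⟨t, ht1, ht0, hte⟩ := h3 ∞ ((0 : V) : OnePoint V) e₁ (OnePoint.infty_ne_coe _)
    (OnePoint.infty_ne_coe _) (hne _ he₁) ((0 : V) : OnePoint V) ∞ e₁ (OnePoint.coe_ne_infty _)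
    (hne _ he₁) (OnePoint.infty_ne_coe _)
  have htt := swap_sq hA ht1 ht0 he₁ hte
  have htrans : ∀ v w : V, v ≠ 0 → w ≠ 0 → ∃ h : H, act h v = w := by
    intro v w hv hw
    obtain ⟨g, g1, g0, gv⟩ := h3 ∞ ((0 : V) : OnePoint V) v (OnePoint.infty_ne_coe _)
      (OnePoint.infty_ne_coe _) (hne _ hv) ∞ ((0 : V) : OnePoint V) w (OnePoint.infty_ne_coe _)
      (OnePoint.infty_ne_coe _) (hne _ hw)
    refine ⟨⟨g, (hA.mem g).2 ⟨g1, g0⟩⟩, ?_⟩
    have := hA.lin ⟨g, (hA.mem g).2 ⟨g1, g0⟩⟩ v
    rw [gv] at this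
    exact (OnePoint.coe_injective this).symm
  let τ : H →* H :=
    { toFun := fun h => ⟨t * h * t, swap_mem hA ht1 ht0 he₁ hte h⟩
      map_one' := Subtype.ext (by simp [htt])
      map_mul' := fun a b => Subtype.ext (by
        show t * ((a : G) * b) * t = t * a * t * (t * b * t)
        calc t * ((a : G) * b) * t = t * a * (t * t) * b * t := by rw [htt]; group
          _ = _ := by group) }
  have hτv : ∀ h : H, (τ h : G) = t * h * t := fun _ => rfl
  have hinv : ∀ h : H, τ h = h⁻¹ := fun h => by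
    have hm := (hA.mem (h : G)).1 h.2
    have e := hswap (t * h) (by rw [map_mul, Equiv.Perm.mul_apply, hm.1, ht1])
      (by rw [map_mul, Equiv.Perm.mul_apply, hm.2, ht0])
    refine eq_inv_of_mul_eq_one_left (Subtype.ext ?_)
    show t * (h : G) * t * h = 1
    rw [← e]; group
  have hcomm : ∀ a b : H, a * b = b * a := fun a b => by
    have e := map_mul τ a b
    rw [hinv, hinv, hinv, mul_inv_rev] at e
    have := congrArg (fun x => x⁻¹) e
    simpa using this
  -- the field
  set S : Set (AddMonoid.End V) := Set.range act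
  have hS : ∀ x ∈ S, ∀ y ∈ S, x * y = y * x := by
    rintro _ ⟨h, rfl⟩ _ ⟨k, rfl⟩
    rw [← map_mul, ← map_mul, hcomm]
  have hirr : ∀ W : AddSubgroup V, (∀ h : H, ∀ x ∈ W, act h x ∈ W) → W = ⊥ ∨ W = ⊤ := by
    intro W hW
    by_cases hb : W = ⊥
    · exact Or.inl hb
    obtain ⟨x, hxW, hx⟩ : ∃ x ∈ W, x ≠ 0 := by
      by_contra hc
      push Not at hc
      exact hb ((AddSubgroup.eq_bot_iff_forall _).2 hc)
    refine Or.inr ((AddSubgroup.eq_top_iff' _).2 fun v => ?_)
    by_cases hv : v = 0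
    · rw [hv]; exact W.zero_mem
    obtain ⟨h, rfl⟩ := htrans x v hx hv
    exact hW h x hxW
  letI : CommRing (Subring.closure S) := Subring.closureCommRingOfComm hS
  have hbij : ∀ r ∈ Subring.closure S, r ≠ 0 → Function.Bijective (r : V → V) := fun r hr hr0 =>
    bijective_of_mem_closure S S hS (fun W hW => hirr W fun h x hx => hW _ ⟨h, rfl⟩ x hx) hr hr0
  let ev : Subring.closure S →+ V :=
    { toFun := fun r => (r : AddMonoid.End V) e₁
      map_zero' := rfl
      map_add' := fun _ _ => rfl }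
  have hev : Function.Bijective ev := by
    refine ⟨?_, fun v => ?_⟩
    · rw [injective_iff_map_eq_zero]
      intro r hr
      by_contra hr0
      exact he₁ ((hbij r r.2 (fun h => hr0 (Subtype.ext h))).1
        (hr.trans (map_zero (r : AddMonoid.End V)).symm))
    · by_cases hv : v = 0
      · exact ⟨0, by rw [map_zero, hv]⟩
      · obtain ⟨h, hh⟩ := htrans e₁ v he₁ hv
        exact ⟨⟨act h, Subring.subset_closure ⟨h, rfl⟩⟩, hh⟩
  haveI : Finite (Subring.closure S) := Finite.of_injective _ hev.1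
  haveI : Nontrivial (Subring.closure S) :=
    ⟨⟨0, 1, fun h => he₁ ((congrArg ev h).symm.trans (map_zero ev))⟩⟩
  haveI : NoZeroDivisors (Subring.closure S) := ⟨fun {r s} h => by
    by_contra hc
    push Not at hc
    refine hc.2 (Subtype.ext (AddMonoidHom.ext fun v => ?_))
    exact (hbij r r.2 (fun e => hc.1 (Subtype.ext e))).1
      ((congrArg (fun x : Subring.closure S => (x : AddMonoid.End V) v) h).trans (map_zero _).symm)⟩
  haveI : IsDomain (Subring.closure S) := NoZeroDivisors.to_isDomain _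
  haveI := Fintype.ofFinite (Subring.closure S)
  letI : Field (Subring.closure S) := Fintype.fieldOfDomain _
  let E : Subring.closure S ≃+ V := AddEquiv.ofBijective ev hev
  have hE1 : E 1 = e₁ := rfl
  let χ : H →* Subring.closure S :=
    { toFun := fun h => ⟨act h, Subring.subset_closure ⟨h, rfl⟩⟩
      map_one' := Subtype.ext (map_one act)
      map_mul' := fun h k => Subtype.ext (map_mul act h k) }
  have hχ : ∀ (h : H) (r : Subring.closure S), act h (E r) = E (χ h * r) := fun _ _ => rfl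
  have hχinj : Function.Injective χ := fun h k e => hA.act_injective (congrArg Subtype.val e)
  have hχ0 : ∀ h, χ h ≠ 0 := fun h e => by
    have : χ h * χ h⁻¹ = 1 := by rw [← map_mul, mul_inv_cancel, map_one]
    rw [e, zero_mul] at this
    exact zero_ne_one this
  let Eo : OnePoint (Subring.closure S) ≃ OnePoint V := Equiv.optionCongr E.toEquiv
  have hEi : Eo ∞ = ∞ := rfl
  have hEc : ∀ x : Subring.closure S, Eo x = ((E x : V) : OnePoint V) := fun x => rfl
  let ρ' : G →* Equiv.Perm (OnePoint (Subring.closure S)) :=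
    (Equiv.permCongrHom Eo.symm).toMonoidHom.comp ρ
  have hρ : ∀ g x y, ρ' g x = y ↔ ρ g (Eo x) = Eo y := fun g x y => by
    show Eo.symm (ρ g (Eo x)) = y ↔ _
    exact Eo.symm_apply_eq
  have hiff : ∀ (g : G) (x y : Subring.closure S),
      ρ' g x = y ↔ ρ g ((E x : V) : OnePoint V) = ((E y : V) : OnePoint V) := fun g x y => by
    rw [hρ, hEc, hEc]
  have hh : ∀ (h : H) (x : Subring.closure S), ρ' h x = ((χ h * x : Subring.closure S) : OnePoint _) :=
    fun h x => by rw [hiff, hA.lin, hχ]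
  have hexχ : ∀ x : Subring.closure S, x ≠ 0 → ∃ h, χ h = x := fun x hx => by
    obtain ⟨h, hh⟩ := htrans e₁ (E x) he₁ fun e => hx (E.injective (e.trans (map_zero E).symm))
    rw [← hE1, hχ, mul_one] at hh
    exact ⟨h, E.injective hh⟩
  choose hOf hOfs using hexχ
  let T : Subring.closure S → Subring.closure S := fun x =>
    if hx : x = 0 then 0 else χ (τ (hOf x hx))
  have hT : ∀ h, T (χ h) = χ (τ h) := fun h => by
    show dite _ _ _ = _
    rw [dif_neg (hχ0 h), hχinj (hOfs (χ h) (hχ0 h))]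
  have ht1' : ρ' t ∞ = ((0 : Subring.closure S) : OnePoint _) := by
    rw [hρ, hEi, hEc, map_zero]; exact ht1
  have ht0' : ρ' t ((0 : Subring.closure S) : OnePoint _) = ∞ := by
    rw [hρ, hEi, hEc, map_zero]; exact ht0
  have htT : ∀ x : Subring.closure S, x ≠ 0 → ρ' t x = ((T x : Subring.closure S) : OnePoint _) := by
    intro x hx
    obtain ⟨h, rfl⟩ : ∃ h, χ h = x := ⟨_, hOfs x hx⟩
    rw [hT, hiff, show E (χ h) = act h e₁ by rw [← hE1, hχ, mul_one],
      show E (χ (τ h)) = act (τ h) e₁ by rw [← hE1, hχ, mul_one], ← hA.lin, ← hA.lin, hτv,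
      ← Equiv.Perm.mul_apply, ← map_mul, map_mul ρ (t * h) t, Equiv.Perm.mul_apply (ρ (t * h)), hte]
  have hinvT : ∀ x : Subring.closure S, x ≠ 0 → T x = x⁻¹ := by
    intro x hx
    rw [← hOfs x hx, hT, hinv]
    refine eq_inv_of_mul_eq_one_left ?_
    rw [← map_mul, inv_mul_cancel, map_one]
  have hthree : ∀ a b c : OnePoint (Subring.closure S), a ≠ b → a ≠ c → b ≠ c →
      ∃ g, ρ' g ∞ = a ∧ ρ' g ((0 : Subring.closure S) : OnePoint _) = b ∧
        ρ' g ((1 : Subring.closure S) : OnePoint _) = c := by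
    intro a b c hab hac hbc
    obtain ⟨g, g1, g2, g3⟩ := h3 (Eo ∞) (Eo ((0 : Subring.closure S) : OnePoint _))
      (Eo ((1 : Subring.closure S) : OnePoint _))
      (Eo.injective.ne (OnePoint.infty_ne_coe _))
      (Eo.injective.ne (OnePoint.infty_ne_coe _))
      (Eo.injective.ne fun e => zero_ne_one (OnePoint.coe_injective e))
      (Eo a) (Eo b) (Eo c) (Eo.injective.ne hab) (Eo.injective.ne hac) (Eo.injective.ne hbc)
    exact ⟨g, (hρ _ _ _).2 g1, (hρ _ _ _).2 g2, (hρ _ _ _).2 g3⟩
  have hiso := nonempty_pgl (R := Subring.closure S) ρ'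
    (fun g g' e => hA.inj ((Equiv.permCongrHom Eo.symm).injective e)) ?_ t ht1' ht0'
    (fun x hx => by rw [htT x hx, hinvT x hx]) hthree ?_
  · obtain ⟨iso⟩ := hiso
    obtain ⟨q, hq, n, hn, hqn⟩ := FiniteField.card' (Subring.closure S)
    haveI := Fact.mk hn
    haveI : Fintype (GaloisField q n) := Fintype.ofFinite _
    refine ⟨GaloisField q n, inferInstance, inferInstance, ?_, ⟨iso.trans
      (PSLCard.pglEquivOfCard ?_)⟩⟩
    · rw [← Nat.card_eq_fintype_card, GaloisField.card q n n.ne_zero, ← hqn,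
        ← Nat.card_eq_fintype_card]
      exact Nat.card_congr E.toEquiv
    · rw [GaloisField.card q n n.ne_zero, ← hqn, Nat.card_eq_fintype_card]
  · intro g hg
    obtain ⟨h, v, hv⟩ := hA.stab g ((hρ _ _ _).1 hg)
    refine ⟨χ h, hχ0 h, E.symm v, fun x => ?_⟩
    rw [hiff, hv, hχ, map_add, E.apply_symm_apply]
  · intro c
    obtain ⟨g, g1, g2⟩ := hA.tr (E c)
    exact ⟨g, (hρ _ _ _).2 g1, fun x => by rw [hiff, g2, map_add]⟩

end Cfsg.Agent.ZassenhausInverted28
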