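import Mathlib
import Cfsg.Agent.Lib.NsePGLStats28
import Cfsg.Agent.Lib.ZassenhausInverted28
import Cfsg.Agent.Lib.SharpThree28
import Cfsg.Agent.Lib.FrobeniusCount72

/-!
Recognition of `PGL(2,q)`, `q` odd, by its order and the numbers of elements of each order.
-/

set_option autoImplicit false
set_option linter.style.haveILetI false

open scoped OnePoint

namespace Cfsg.Agent.NsePGLMain28

open MulAction

universe u

section Setup

variable {G : Type u} [Group G] [Finite G] {p a : ℕ}

/-- Splitting a finite type along the fibres of a function. -/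
theorem card_eq_sum {X : Type*} [Finite X] (f : X → ℕ) (s : Finset ℕ) (h : ∀ x, f x ∈ s) :
    Nat.card X = ∑ n ∈ s, Nat.card {x : X // f x = n} := by
  classical
  haveI := Fintype.ofFinite X
  rw [Nat.card_eq_fintype_card, ← Finset.card_univ,
    Finset.card_eq_sum_card_fiberwise (f := f) (t := s) (fun x _ => h x)]
  refine Finset.sum_congr rfl fun n _ => ?_
  rw [Nat.card_eq_fintype_card, Fintype.card_subtype]

theorem card_orders (d : ℕ) :
    Nat.card {g : G // g ^ d = 1} =
      ∑ n ∈ (Nat.card G).divisors.filter (· ∣ d), Nat.card {g : G // orderOf g = n} := by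
  classical
  rw [card_eq_sum (fun g : {g : G // g ^ d = 1} => orderOf g.1)
    ((Nat.card G).divisors.filter (· ∣ d)) (fun g => Finset.mem_filter.2
      ⟨Nat.mem_divisors.2 ⟨orderOf_dvd_natCard g.1, Nat.card_pos.ne'⟩,
        orderOf_dvd_of_pow_eq_one g.2⟩)]
  refine Finset.sum_congr rfl fun n hn => Nat.card_congr
    { toFun := fun g => ⟨g.1.1, g.2⟩
      invFun := fun g => ⟨⟨g.1, orderOf_dvd_iff_pow_eq_one.1 (g.2.symm ▸ (Finset.mem_filter.1 hn).2)⟩, g.2⟩
      left_inv := fun g => Subtype.ext (Subtype.ext rfl)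
      right_inv := fun g => Subtype.ext rfl }

variable (hp : p.Prime) (hp2 : p ≠ 2) (ha : 1 ≤ a) (hq3 : 3 < p ^ a)
  (hcard : Nat.card G = p ^ a * ((p ^ a) ^ 2 - 1))
  (hi2 : Nat.card {g : G // orderOf g = 2} = (p ^ a) ^ 2)
  (hpe : Nat.card {g : G // orderOf g = p} = (p ^ a) ^ 2 - 1)
  (hrest : ∀ n, n ≠ 1 → n ≠ 2 → n ≠ p →
    p ^ a ∣ Nat.card {g : G // orderOf g = n} ∨
      Nat.card {g : G // orderOf g = n} = (p ^ a) ^ 2 - 1)

include hp hp2 ha hq3 hcard hi2 hpe hrest

/-- No element order is a proper multiple of `p`. -/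
theorem isolated (x : G) (hx : p ∣ orderOf x) : orderOf x = p := by
  classical
  set q := p ^ a with hq
  set m := q ^ 2 - 1 with hm
  set N : ℕ → ℕ := fun n => Nat.card {g : G // orderOf g = n} with hN
  have hqdvd : p ∣ q := dvd_pow_self p (by omega)
  have hq4 : q * 4 ≤ q ^ 2 := by rw [pow_two]; exact Nat.mul_le_mul_left q hq3
  have hm1 : m + 1 = q ^ 2 := by rw [hm]; omega
  have hcop : Nat.Coprime q m := by
    have h : Nat.Coprime (q ^ 2) m := by
      rw [← hm1]
      exact Nat.coprime_self_add_left.2 (Nat.coprime_one_left m) |> fun h => by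
        simpa [Nat.add_comm] using h
    exact h.coprime_dvd_left (dvd_pow_self q two_ne_zero)
  have hpm : ¬ p ∣ m := fun h => hp.one_lt.ne'
    (Nat.eq_one_of_dvd_coprimes hcop hqdvd h)
  have hqodd : Odd q := (hp.odd_of_ne_two hp2).pow
  have h2m : 2 ∣ m := by
    obtain ⟨k, hk⟩ := hqodd
    exact ⟨2 * k * k + 2 * k, by rw [hm, hk]; ring_nf; omega⟩
  have h2G : 2 ∣ Nat.card G := hcard ▸ Dvd.dvd.mul_left h2m q
  have hpG : p ∣ Nat.card G := hcard ▸ Dvd.dvd.mul_right hqdvd _
  set D := (Nat.card G).divisors with hD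
  set R := D \ ({1, 2, p} : Finset ℕ) with hR
  have hsub : ({1, 2, p} : Finset ℕ) ⊆ D := by
    intro n hn
    simp only [Finset.mem_insert, Finset.mem_singleton] at hn
    rw [hD, Nat.mem_divisors]
    refine ⟨?_, Nat.card_pos.ne'⟩
    rcases hn with rfl | rfl | rfl
    exacts [one_dvd _, h2G, hpG]
  have hN1 : N 1 = 1 := by
    rw [hN]
    exact Nat.card_eq_one_iff_unique.2
      ⟨⟨fun g h => Subtype.ext ((orderOf_eq_one_iff.1 g.2).trans (orderOf_eq_one_iff.1 h.2).symm)⟩,
        ⟨⟨1, orderOf_one⟩⟩⟩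
  have htot : Nat.card G = ∑ n ∈ R, N n + (1 + q ^ 2 + m) := by
    rw [card_eq_sum (fun g : G => orderOf g) D (fun g =>
      Nat.mem_divisors.2 ⟨orderOf_dvd_natCard g, Nat.card_pos.ne'⟩), hR, ← Finset.sum_sdiff hsub]
    congr 1
    have h1 : (1 : ℕ) ∉ ({2, p} : Finset ℕ) := by simp [hp.ne_one.symm]
    rw [Finset.sum_insert h1, Finset.sum_pair (Ne.symm hp2)]
    show N 1 + (N 2 + N p) = _
    rw [hN1, show N 2 = q ^ 2 from hi2, show N p = m from hpe, add_assoc]
  have hmem : ∀ n ∈ R, n ≠ 1 ∧ n ≠ 2 ∧ n ≠ p := fun n hn => by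
    simp only [hR, Finset.mem_sdiff, Finset.mem_insert, Finset.mem_singleton, not_or] at hn
    exact ⟨hn.2.1, hn.2.2.1, hn.2.2.2⟩
  -- all other counts are divisible by `q`
  set E := R.filter fun n => ¬ q ∣ N n with hE
  have hEm : ∀ n ∈ E, N n = m := fun n hn => by
    obtain ⟨h1, h2⟩ := Finset.mem_filter.1 hn
    obtain ⟨a1, a2, a3⟩ := hmem n h1
    exact (hrest n a1 a2 a3).resolve_left h2
  obtain ⟨K, hK⟩ : q ∣ ∑ n ∈ R.filter (fun n => q ∣ N n), N n :=
    Finset.dvd_sum fun n hn => (Finset.mem_filter.1 hn).2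
  have hsplit : ∑ n ∈ R, N n = q * K + E.card * m := by
    rw [← Finset.sum_filter_add_sum_filter_not R (fun n => q ∣ N n), hK, Finset.sum_congr rfl hEm,
      Finset.sum_const, smul_eq_mul]
  rw [hsplit, hcard] at htot
  have hE0 : E.card = 0 := by
    have hlt : E.card < q := by
      by_contra hc
      have : q * m ≤ E.card * m := Nat.mul_le_mul_right m (by omega)
      omega
    have hd : q ∣ E.card * m := by
      obtain ⟨k, hk⟩ : q ∣ 1 + q ^ 2 + m := ⟨q + q, by rw [mul_add, ← pow_two]; omega⟩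
      have h' : q ∣ q * K + E.card * m + (1 + q ^ 2 + m) := htot ▸ dvd_mul_right q m
      exact (Nat.dvd_add_right (dvd_mul_right q K)).1 ((Nat.dvd_add_left ⟨k, hk⟩).1 h')
    exact Nat.eq_zero_of_dvd_of_lt (hcop.dvd_of_dvd_mul_right hd) hlt
  have hall : ∀ n ∈ R, q ∣ N n := fun n hn => by
    by_contra h
    have : n ∈ E := Finset.mem_filter.2 ⟨hn, h⟩
    rw [Finset.card_eq_zero.1 hE0] at this
    exact absurd this (Finset.notMem_empty n)
  -- elements with `x ^ m = 1`
  set S := R.filter (· ∣ m) with hS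
  obtain ⟨L, hL⟩ : q ∣ ∑ n ∈ S, N n := Finset.dvd_sum fun n hn => hall n (Finset.mem_filter.1 hn).1
  have hcm : Nat.card {g : G // g ^ m = 1} = q * L + (1 + q ^ 2) := by
    rw [card_orders m, ← hL, ← hD]
    have hsplit' : D.filter (· ∣ m) = S ∪ {1, 2} := by
      ext n
      simp only [hS, hR, Finset.mem_filter, Finset.mem_union, Finset.mem_sdiff, Finset.mem_insert,
        Finset.mem_singleton, not_or]
      constructor
      · rintro ⟨h1, h2⟩
        by_cases e1 : n = 1
        · exact Or.inr (Or.inl e1)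
        by_cases e2 : n = 2
        · exact Or.inr (Or.inr e2)
        exact Or.inl ⟨⟨h1, e1, e2, fun e => hpm (e ▸ h2)⟩, h2⟩
      · rintro (⟨⟨h1, -⟩, h2⟩ | rfl | rfl)
        · exact ⟨h1, h2⟩
        · exact ⟨hsub (by simp), one_dvd _⟩
        · exact ⟨hsub (by simp), h2m⟩
    rw [hsplit', Finset.sum_union, Finset.sum_pair (by norm_num : (1 : ℕ) ≠ 2)]
    · show _ + (N 1 + N 2) = _
      rw [hN1, show N 2 = q ^ 2 from hi2]
    · rw [Finset.disjoint_left]
      intro n hn hn'
      obtain ⟨e1, e2, -⟩ := hmem n (Finset.mem_filter.1 hn).1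
      simp only [Finset.mem_insert, Finset.mem_singleton] at hn'
      tauto
  obtain ⟨j, hj⟩ := FrobeniusCount72.dvd_card_pow_eq_one (G := G) m (hcard ▸ dvd_mul_left m q)
  have hle : q * L ≤ q * K := by
    rw [← hL]
    have : ∑ n ∈ S, N n ≤ ∑ n ∈ R, N n :=
      Finset.sum_le_sum_of_subset (Finset.filter_subset _ _)
    rw [hsplit, hE0, zero_mul, add_zero] at this
    exact this
  -- the elements of `p'`-order together with those of order `p` are everything
  have hjq : j = q - 1 := by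
    have h1 : m * j + m ≤ q * m := by
      rw [← hj, hcm]
      rw [hE0, zero_mul, add_zero] at htot
      omega
    have h3 : (j + 1) * m ≤ q * m := by rw [add_mul, one_mul, mul_comm j m]; exact h1
    have h4 : j + 1 ≤ q := Nat.le_of_mul_le_mul_right h3 (by omega)
    have h5 : q ∣ j + 1 := by
      have e : m * (j + 1) = q * (L + (q + q)) := by
        rw [mul_add, mul_one, ← hj, hcm, mul_add, mul_add, ← pow_two]
        omega
      exact hcop.dvd_of_dvd_mul_left ⟨_, e⟩
    have := Nat.le_of_dvd (Nat.succ_pos j) h5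
    omega
  have hunion : ∀ g : G, g ^ m = 1 ∨ orderOf g = p := by
    haveI := Fintype.ofFinite G
    have hdisj : Disjoint (Finset.univ.filter fun g : G => g ^ m = 1)
        (Finset.univ.filter fun g : G => orderOf g = p) := by
      rw [Finset.disjoint_filter]
      intro g _ h1 h2
      exact hpm (h2 ▸ orderOf_dvd_of_pow_eq_one h1)
    have hc : ((Finset.univ.filter fun g : G => g ^ m = 1) ∪
        (Finset.univ.filter fun g : G => orderOf g = p)).card = Fintype.card G := by
      rw [Finset.card_union_of_disjoint hdisj, ← Fintype.card_subtype, ← Fintype.card_subtype,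
        ← Nat.card_eq_fintype_card, ← Nat.card_eq_fintype_card, ← Nat.card_eq_fintype_card, hj, hjq,
        hpe, hcard, Nat.mul_sub, mul_one, Nat.mul_comm m q]
      have : m ≤ q * m := Nat.le_mul_of_pos_left m (by omega)
      omega
    intro g
    have := Finset.eq_univ_of_card _ hc ▸ Finset.mem_univ g
    simpa [Finset.mem_union, Finset.mem_filter] using this
  rcases hunion x with h | h
  · exact absurd (hx.trans (orderOf_dvd_of_pow_eq_one h)) hpm
  · exact h

/-- The elements of order `p` are self-centralizing in a Sylow subgroup, so their number and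
conjugacy class are as large as possible. -/
theorem exists_sharp :
    ∃ (α : Type u) (_ : Fintype α) (_ : DecidableEq α) (W : Subgroup (Equiv.Perm α)),
      Fintype.card α = p ^ a + 1 ∧ MulAction.IsMultiplyPretransitive W α 3 ∧
      (∀ x : Fin 3 ↪ α, MulAction.stabilizer W x = ⊥) ∧ Nonempty (G ≃* W) := by
  classical
  haveI := Fact.mk hp
  have hiso := isolated hp hp2 ha hq3 hcard hi2 hpe hrest
  set q := p ^ a with hq
  set m := q ^ 2 - 1 with hm
  have hq4 : q * 4 ≤ q ^ 2 := by rw [pow_two]; exact Nat.mul_le_mul_left q hq3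
  have hm1 : m + 1 = q ^ 2 := by rw [hm]; omega
  have hpm : Nat.Coprime p m := by
    rw [Nat.Prime.coprime_iff_not_dvd hp]
    intro h
    have h2 : p ∣ q ^ 2 := dvd_pow (dvd_pow_self p (by omega)) two_ne_zero
    rw [← hm1] at h2
    exact hp.one_lt.ne' (Nat.dvd_one.1 ((Nat.dvd_add_right h).1 h2))
  -- Sylow subgroups have order `q`
  have hSyl : ∀ P : Sylow p G, Nat.card P = q := fun P => by
    rw [P.card_eq_multiplicity, hcard, Nat.factorization_mul (by omega) (by omega), Finsupp.add_apply,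
      hq, hp.factorization_pow, Finsupp.single_eq_same,
      Nat.factorization_eq_zero_of_not_dvd ((Nat.Prime.coprime_iff_not_dvd hp).1 hpm), add_zero]
  -- centralizers of elements of order `p` have order `q`
  have hCdvd : ∀ x : G, orderOf x = p → Nat.card (Subgroup.centralizer ({x} : Set G)) ∣ q := by
    intro x hx
    have hC : IsPGroup p (Subgroup.centralizer ({x} : Set G)) := by
      intro y
      have hyx : Commute (y : G) x := Subgroup.mem_centralizer_singleton_iff.1 y.2
      by_cases hy : p ∣ orderOf (y : G)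
      · refine ⟨1, Subtype.ext ?_⟩
        rw [pow_one, SubgroupClass.coe_pow, ← hiso _ hy, pow_orderOf_eq_one]
        rfl
      · refine ⟨0, Subtype.ext ?_⟩
        have hmul := hyx.orderOf_mul_eq_mul_orderOf_of_coprime
          (by rw [hx]; exact ((Nat.Prime.coprime_iff_not_dvd hp).2 hy).symm)
        rw [hx] at hmul
        have h1 := hiso ((y : G) * x) (hmul ▸ dvd_mul_left p _)
        rw [hmul] at h1
        have : orderOf (y : G) = 1 := (Nat.mul_eq_right hp.ne_zero).1 h1
        rw [pow_zero, pow_one]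
        exact orderOf_eq_one_iff.1 this
    obtain ⟨k, hk⟩ := hC.exists_card_eq
    have h1 : Nat.card (Subgroup.centralizer ({x} : Set G)) ∣ q * m :=
      hcard ▸ Subgroup.card_subgroup_dvd_card _
    rw [hk] at h1 ⊢
    exact (Nat.Coprime.pow_left k hpm).dvd_of_dvd_mul_right h1
  have hclass : ∀ x : G, orderOf x = p →
      Nat.card (Subgroup.centralizer ({x} : Set G)) = q ∧
        ∀ y : G, orderOf y = p → ∃ g : G, g * x * g⁻¹ = y := by
    intro x hx
    set C := Subgroup.centralizer ({x} : Set G) with hC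
    let φ : G ⧸ C → {y : G // orderOf y = p} := Quotient.lift
      (fun g => ⟨g * x * g⁻¹, by
        have := (MulAut.conj g).orderOf_eq x
        rw [MulAut.conj_apply] at this
        exact this.trans hx⟩)
      (fun g h e => Subtype.ext (by
        have hc := Subgroup.mem_centralizer_singleton_iff.1 (QuotientGroup.leftRel_apply.1 e)
        show g * x * g⁻¹ = h * x * h⁻¹
        calc g * x * g⁻¹ = g * ((g⁻¹ * h) * x) * (g⁻¹ * h)⁻¹ * g⁻¹ := by rw [hc]; group
          _ = _ := by group))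
    have hinj : Function.Injective φ := by
      rintro ⟨g⟩ ⟨h⟩ e
      have e' : g * x * g⁻¹ = h * x * h⁻¹ := congrArg Subtype.val e
      refine Quotient.sound (QuotientGroup.leftRel_apply.2 (Subgroup.mem_centralizer_singleton_iff.2 ?_))
      calc g⁻¹ * h * x = g⁻¹ * (h * x * h⁻¹) * h := by group
        _ = x * (g⁻¹ * h) := by rw [← e']; group
    have hle : C.index ≤ m := by
      rw [Subgroup.index_eq_card, ← hpe]
      exact Nat.card_le_card_of_injective φ hinj
    have hmul : Nat.card C * C.index = q * m := by rw [C.card_mul_index]; exact hcard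
    have hcle : Nat.card C ≤ q := Nat.le_of_dvd (by omega) (hCdvd x hx)
    have hidx : C.index = m := by
      refine le_antisymm hle ?_
      by_contra hc
      have : Nat.card C * C.index < q * m :=
        Nat.mul_lt_mul_of_le_of_lt hcle (not_le.1 hc) (by omega)
      omega
    refine ⟨Nat.eq_of_mul_eq_mul_right (show 0 < m by omega) (by rw [← hidx] at hmul ⊢; exact hmul),
      fun y hy => ?_⟩
    obtain ⟨⟨g⟩, hg⟩ := ((Nat.bijective_iff_injective_and_card φ).2
      ⟨hinj, by rw [← Subgroup.index_eq_card, hidx, hpe]⟩).2 ⟨y, hy⟩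
    exact ⟨g, congrArg Subtype.val hg⟩
  obtain ⟨P₀⟩ : Nonempty (Sylow p G) := inferInstance
  -- a Sylow subgroup is abelian
  have hpord : ∀ (P : Sylow p G) {x : G}, x ∈ (P : Subgroup G) → x ≠ 1 → orderOf x = p := by
    intro P x hx hx1
    refine hiso x ?_
    have h1 : orderOf x ∣ p ^ a := by
      have := Subgroup.orderOf_dvd_natCard _ hx
      rwa [hSyl P, hq] at this
    obtain ⟨k, -, hk⟩ := (Nat.dvd_prime_pow hp).1 h1
    rcases k with _ | k
    · exact absurd (orderOf_eq_one_iff.1 (by simpa using hk)) hx1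
    · rw [hk]; exact dvd_pow_self p k.succ_ne_zero
  have hab : ∀ P : Sylow p G, ∀ x ∈ (P : Subgroup G), ∀ y ∈ (P : Subgroup G), x * y = y * x := by
    intro P
    haveI : Nontrivial (P : Subgroup G) := Finite.one_lt_card_iff_nontrivial.1 (by
      rw [hSyl P]; omega)
    haveI : Nontrivial (Subgroup.center (P : Subgroup G)) := P.isPGroup'.center_nontrivial
    obtain ⟨⟨⟨z, hzP⟩, hzc⟩, hz⟩ := exists_ne (1 : Subgroup.center (P : Subgroup G))
    have hz1 : z ≠ 1 := fun e => hz (Subtype.ext (Subtype.ext e))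
    have hzp := hpord P hzP hz1
    have hCP : (P : Subgroup G) = Subgroup.centralizer ({z} : Set G) := by
      refine Subgroup.eq_of_le_of_card_ge (fun y hy => Subgroup.mem_centralizer_singleton_iff.2 ?_)
        (by rw [(hclass z hzp).1, hSyl P])
      exact congrArg Subtype.val (Subgroup.mem_center_iff.1 hzc ⟨y, hy⟩)
    obtain ⟨g, hg⟩ := (hclass z hzp).2 z⁻¹ (by rw [orderOf_inv, hzp])
    -- `g` normalises `P` and has even order
    set k := orderOf g with hk
    have hgn : ∀ i : ℕ, (g ^ i) * z * (g ^ i)⁻¹ = z ^ ((-1 : ℤ) ^ i) := by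
      intro i
      induction i with
      | zero => simp
      | succ i ih =>
        rw [pow_succ', pow_succ]
        calc g * g ^ i * z * (g * g ^ i)⁻¹ = g * (g ^ i * z * (g ^ i)⁻¹) * g⁻¹ := by group
          _ = (g * z * g⁻¹) ^ ((-1 : ℤ) ^ i) := by rw [ih, conj_zpow]
          _ = _ := by rw [hg, inv_zpow', ← mul_neg_one]
    have hkeven : Even k := by
      rw [← Nat.not_odd_iff_even]
      intro hodd
      have := hgn k
      rw [hk, pow_orderOf_eq_one, ← hk, hodd.neg_one_pow, one_mul, inv_one, mul_one, zpow_neg_one] at this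
      have hz2 : z ^ 2 = 1 := by rw [pow_two, ← inv_mul_cancel z, ← this]
      have := orderOf_dvd_of_pow_eq_one hz2
      rw [hzp] at this
      exact hp2 ((Nat.prime_dvd_prime_iff_eq hp Nat.prime_two).1 this)
    have hgP : ∀ i : ℕ, ∀ y ∈ (P : Subgroup G), g ^ i * y * (g ^ i)⁻¹ ∈ (P : Subgroup G) := by
      intro i y hy
      rw [hCP, Subgroup.mem_centralizer_singleton_iff] at hy ⊢
      have hconj := hgn i
      rcases Nat.even_or_odd i with he | ho
      · rw [he.neg_one_pow, zpow_one] at hconj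
        calc g ^ i * y * (g ^ i)⁻¹ * z = g ^ i * y * (g ^ i)⁻¹ * (g ^ i * z * (g ^ i)⁻¹) := by rw [hconj]
          _ = g ^ i * (y * z) * (g ^ i)⁻¹ := by group
          _ = g ^ i * (z * y) * (g ^ i)⁻¹ := by rw [hy]
          _ = g ^ i * z * (g ^ i)⁻¹ * (g ^ i * y * (g ^ i)⁻¹) := by group
          _ = _ := by rw [hconj]
      · rw [ho.neg_one_pow, zpow_neg_one] at hconj
        have hz' : z = g ^ i * z⁻¹ * (g ^ i)⁻¹ := by
          rw [show g ^ i * z⁻¹ * (g ^ i)⁻¹ = (g ^ i * z * (g ^ i)⁻¹)⁻¹ by group, hconj, inv_inv]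
        have hy' : y * z⁻¹ = z⁻¹ * y := (show Commute y z from hy).inv_right.eq
        calc g ^ i * y * (g ^ i)⁻¹ * z
            = g ^ i * y * (g ^ i)⁻¹ * (g ^ i * z⁻¹ * (g ^ i)⁻¹) := by rw [← hz']
          _ = g ^ i * (y * z⁻¹) * (g ^ i)⁻¹ := by group
          _ = g ^ i * (z⁻¹ * y) * (g ^ i)⁻¹ := by rw [hy']
          _ = g ^ i * z⁻¹ * (g ^ i)⁻¹ * (g ^ i * y * (g ^ i)⁻¹) := by group
          _ = _ := by rw [← hz']
    set t := g ^ (k / 2) with ht
    have htt : t * t = 1 := by
      obtain ⟨c, hc⟩ := hkeven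
      rw [ht, ← pow_add, show k / 2 + k / 2 = k by omega, hk, pow_orderOf_eq_one]
    have ht1 : t ≠ 1 := fun e => by
      have hpos : 0 < k := orderOf_pos g
      obtain ⟨c, hc⟩ := hkeven
      have := Nat.le_of_dvd (by omega) (orderOf_dvd_of_pow_eq_one e)
      omega
    have hfix : ∀ y ∈ (P : Subgroup G), t * y * t⁻¹ = y → y = 1 := by
      intro y hy e
      by_contra hy1
      have hyp := hpord P hy hy1
      have hmem : t ∈ Subgroup.centralizer ({y} : Set G) :=
        Subgroup.mem_centralizer_singleton_iff.2 (mul_inv_eq_iff_eq_mul.1 e)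
      have hd := (Subgroup.orderOf_dvd_natCard _ hmem).trans (hCdvd y hyp)
      rw [show orderOf t = 2 from orderOf_eq_prime (by rw [pow_two, htt]) ht1] at hd
      exact hp2 ((Nat.prime_dvd_prime_iff_eq Nat.prime_two hp).1 (Nat.prime_two.dvd_of_dvd_pow hd)).symm
    intro x hx y hy
    have hinv : ∀ o ∈ (P : Subgroup G), t * o * t⁻¹ = o⁻¹ := fun o ho =>
      Cfsg.Agent.Zassenhaus.inverts_of_fixed (MulAut.conj t).toMonoidHom
        (fun h => by
          show t * (t * h * t⁻¹) * t⁻¹ = h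
          calc t * (t * h * t⁻¹) * t⁻¹ = (t * t) * h * (t * t)⁻¹ := by group
            _ = h := by rw [htt]; group)
        (fun o ho => hgP (k / 2) o ho) hfix ho
    have e : t * (x * y) * t⁻¹ = (t * x * t⁻¹) * (t * y * t⁻¹) := by group
    rw [hinv x hx, hinv y hy, hinv _ (mul_mem hx hy), ← mul_inv_rev, inv_inj] at e
    exact e
  have hcent : ∀ (P : Sylow p G) {x : G}, x ∈ (P : Subgroup G) → x ≠ 1 →
      Subgroup.centralizer ({x} : Set G) = P := fun P x hx hx1 =>
    (Subgroup.eq_of_le_of_card_ge (fun y hy => Subgroup.mem_centralizer_singleton_iff.2 (hab P y hy x hx))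
      (by rw [(hclass x (hpord P hx hx1)).1, hSyl P])).symm
  -- there are `q + 1` Sylow subgroups
  have hnp : Nat.card (Sylow p G) = q + 1 := by
    let f : (Σ P : Sylow p G, {x : (P : Subgroup G) // x ≠ 1}) → {x : G // orderOf x = p} :=
      fun s => ⟨(s.2.1 : G), hpord s.1 s.2.1.2 fun e => s.2.2 (Subtype.ext e)⟩
    have hbij : Function.Bijective f := by
      constructor
      · rintro ⟨P, ⟨⟨x, hxP⟩, hx⟩⟩ ⟨Q, ⟨⟨y, hyQ⟩, hy⟩⟩ e
        obtain rfl : x = y := congrArg Subtype.val e
        have hPQ : P = Q := Sylow.ext (by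
          rw [← hcent P hxP fun e => hx (Subtype.ext e), ← hcent Q hyQ fun e => hy (Subtype.ext e)])
        subst hPQ
        rfl
      · rintro ⟨x, hx⟩
        obtain ⟨Q, hQ⟩ := (IsPGroup.of_card (n := 1)
          (by rw [Nat.card_zpowers, hx, pow_one] : Nat.card (Subgroup.zpowers x) = p ^ 1)).exists_le_sylow
        refine ⟨⟨Q, ⟨⟨x, hQ (Subgroup.mem_zpowers x)⟩, fun e => ?_⟩⟩, rfl⟩
        have : x = 1 := congrArg Subtype.val e
        rw [this, orderOf_one] at hx
        exact hp.ne_one hx.symm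
    haveI := Fintype.ofFinite (Sylow p G)
    have h := Nat.card_congr (Equiv.ofBijective f hbij)
    rw [Nat.card_sigma, hpe] at h
    have hs : ∀ P : Sylow p G, Nat.card {x : (P : Subgroup G) // x ≠ 1} = q - 1 := fun P => by
      haveI := Fintype.ofFinite (P : Subgroup G)
      rw [Nat.card_eq_fintype_card, Fintype.card_subtype_compl, Fintype.card_subtype_eq,
        ← Nat.card_eq_fintype_card, hSyl P]
    simp only [hs, Finset.sum_const, Finset.card_univ, smul_eq_mul, ← Nat.card_eq_fintype_card] at h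
    refine Nat.eq_of_mul_eq_mul_right (show 0 < q - 1 by omega) (h.trans ?_)
    obtain ⟨r, hr⟩ : ∃ r, q = r + 1 := ⟨q - 1, by omega⟩
    rw [hm, hr, Nat.add_sub_cancel, show (r + 1) ^ 2 = (r + 1 + 1) * r + 1 by ring, Nat.add_sub_cancel]
  -- the action on them
  set α := Sylow p G
  haveI : Fintype α := Fintype.ofFinite α
  have hmemfix : ∀ (Q : α) {x : G}, orderOf x = p → x • Q = Q → x ∈ (Q : Subgroup G) := by
    intro Q x hx hfix
    have hn : x ∈ Subgroup.normalizer ((Q : Subgroup G) : Set G) := Sylow.smul_eq_iff_mem_normalizer.1 hfix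
    have hz : IsPGroup p (Subgroup.zpowers x) :=
      IsPGroup.of_card (n := 1) (by rw [Nat.card_zpowers, hx, pow_one])
    have := hz.inf_normalizer_sylow Q
    exact (this ▸ ⟨Subgroup.mem_zpowers x, hn⟩ : x ∈ Subgroup.zpowers x ⊓ (Q : Subgroup G)).2
  -- a Sylow subgroup is regular on the others
  have hreg : ∀ P Q R : α, Q ≠ P → R ≠ P → ∃! u : (P : Subgroup G), (u : G) • Q = R := by
    intro P Q R hQ hR
    have hfixP : ∀ u : (P : Subgroup G), (u : G) • P = P := fun u =>
      Sylow.smul_eq_iff_mem_normalizer.2 (Subgroup.le_normalizer u.2)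
    let f : ↥(P : Subgroup G) → {S : α // S ≠ P} := fun u =>
      ⟨(u : G) • Q, fun e => hQ ((smul_left_cancel_iff (u : G)).1 (e.trans (hfixP u).symm))⟩
    have hinj : Function.Injective f := by
      intro u v e
      by_contra huv
      have e' : (u : G) • Q = (v : G) • Q := congrArg Subtype.val e
      have hne : (v : G)⁻¹ * u ≠ 1 := fun h => huv (Subtype.ext (inv_mul_eq_one.1 h).symm)
      have hmem : (v : G)⁻¹ * u ∈ (P : Subgroup G) := mul_mem (inv_mem v.2) u.2
      have hQmem := hmemfix Q (hpord P hmem hne) (by rw [mul_smul, e', inv_smul_smul])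
      exact hQ (Sylow.ext (by rw [← hcent Q hQmem hne, hcent P hmem hne]))
    have hbij : Function.Bijective f := (Nat.bijective_iff_injective_and_card f).2 ⟨hinj, by
      rw [hSyl P, Nat.card_eq_fintype_card, Fintype.card_subtype_compl, Fintype.card_subtype_eq,
        ← Nat.card_eq_fintype_card, hnp, Nat.add_sub_cancel]⟩
    obtain ⟨u, hu⟩ := hbij.2 ⟨R, hR⟩
    exact ⟨u, congrArg Subtype.val hu, fun v hv => hbij.1 ((Subtype.ext hv).trans hu.symm)⟩
  have hthree : ∀ g : G, ∀ A B C : α, A ≠ B → B ≠ C → A ≠ C →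
      g • A = A → g • B = B → g • C = C → g = 1 := by
    intro g A B C hAB hBC hAC hA hB hC
    obtain ⟨u, hu, huniq⟩ := hreg A B C hAB.symm hAC.symm
    have hgn : g ∈ Subgroup.normalizer ((A : Subgroup G) : Set G) := Sylow.smul_eq_iff_mem_normalizer.1 hA
    have hmem : g * (u : G) * g⁻¹ ∈ (A : Subgroup G) := (Subgroup.mem_normalizer_iff.1 hgn _).1 u.2
    have e : (⟨_, hmem⟩ : (A : Subgroup G)) = u := huniq _ (by
      show (g * (u : G) * g⁻¹) • B = C
      rw [mul_smul, mul_smul, show g⁻¹ • B = B from inv_smul_eq_iff.2 hB.symm, hu, hC])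
    have hu1 : (u : G) ≠ 1 := fun h => hBC (by rw [← hu, h, one_smul])
    have hgA : g ∈ (A : Subgroup G) := by
      rw [← hcent A u.2 hu1]
      exact Subgroup.mem_centralizer_singleton_iff.2 (mul_inv_eq_iff_eq_mul.1 (congrArg Subtype.val e))
    have := (hreg A B B hAB.symm hAB.symm).unique (y₁ := ⟨g, hgA⟩) (y₂ := 1) hB (one_smul G B)
    exact congrArg Subtype.val this
  -- sharp triple transitivity
  have h3card : 3 ≤ Fintype.card α := by rw [← Nat.card_eq_fintype_card, hnp]; omega
  obtain ⟨x₀⟩ : Nonempty (Fin 3 ↪ α) :=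
    Function.Embedding.nonempty_of_card_le (by rw [Fintype.card_fin]; exact h3card)
  have hstab : ∀ x : Fin 3 ↪ α, ∀ g : G, g • x = x → g = 1 := fun x g hg =>
    hthree g (x 0) (x 1) (x 2) (x.injective.ne (by decide)) (x.injective.ne (by decide))
      (x.injective.ne (by decide)) (DFunLike.congr_fun hg 0) (DFunLike.congr_fun hg 1)
      (DFunLike.congr_fun hg 2)
  have horb : Function.Bijective fun g : G => g • x₀ := by
    refine (Nat.bijective_iff_injective_and_card _).2 ⟨fun g h e => ?_, ?_⟩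
    · refine (inv_mul_eq_one.1 (hstab x₀ (g⁻¹ * h) ?_))
      rw [mul_smul]
      exact inv_smul_eq_iff.2 e.symm
    · rw [hcard, Nat.card_eq_fintype_card, Fintype.card_embedding_eq, Fintype.card_fin,
        ← Nat.card_eq_fintype_card, hnp, Nat.descFactorial_succ, Nat.descFactorial_succ,
        Nat.descFactorial_one, hm]
      obtain ⟨r, hr⟩ : ∃ r, q = r + 1 := ⟨q - 1, by omega⟩
      rw [hr, show r + 1 + 1 - 2 = r by omega, show r + 1 + 1 - 1 = r + 1 by omega,
        show (r + 1) ^ 2 = (r + 1 + 1) * r + 1 by ring, Nat.add_sub_cancel]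
      ring
  let φ : G →* Equiv.Perm α := MulAction.toPermHom G α
  have hφinj : Function.Injective φ := by
    rw [injective_iff_map_eq_one]
    intro g hg
    refine hstab x₀ g (DFunLike.ext _ _ fun i => ?_)
    exact DFunLike.congr_fun hg (x₀ i)
  refine ⟨α, inferInstance, inferInstance, φ.range, by rw [← Nat.card_eq_fintype_card, hnp], ?_, ?_,
    ⟨MonoidHom.ofInjective hφinj⟩⟩
  · refine ⟨fun x y => ?_⟩
    obtain ⟨g, rfl⟩ := horb.2 x
    obtain ⟨h, rfl⟩ := horb.2 y
    refine ⟨⟨φ (h * g⁻¹), _, rfl⟩, DFunLike.ext _ _ fun i => ?_⟩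
    show (h * g⁻¹) • (g • x₀ i) = h • x₀ i
    rw [mul_smul, inv_smul_smul]
  · intro x
    rw [Subgroup.eq_bot_iff_forall]
    rintro ⟨_, g, rfl⟩ hg
    have := hstab x g (DFunLike.ext _ _ fun i =>
      DFunLike.congr_fun (MulAction.mem_stabilizer_iff.1 hg) i)
    subst this
    exact Subtype.ext (map_one φ)

/-- Recognition of `PGL(2,q)`. -/
theorem recognize :
    ∃ (F : Type) (_ : Field F) (_ : Fintype F), Fintype.card F = p ^ a ∧
      Nonempty (G ≃* Matrix.ProjGenLinGroup (Fin 2) F) := by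
  classical
  obtain ⟨α, _, _, W, hα, h3, hsharp, ⟨eW⟩⟩ := exists_sharp hp hp2 ha hq3 hcard hi2 hpe hrest
  obtain ⟨b₁, b₂, hb⟩ := Fintype.exists_pair_of_one_lt_card (by omega : 1 < Fintype.card α)
  obtain ⟨p', f, V, _, _, ρ, act, e, hp', hf, hA, -, -, -, hexp, hVf, hVn, hVH, hmove⟩ :=
    SharpThree28.setup W h3 hsharp (by omega) hb
  have hV : Nat.card V = p ^ a := by omega
  have hpp : p' = p := (Nat.prime_dvd_prime_iff_eq hp' hp).1
    (hp'.dvd_of_dvd_pow ((dvd_pow_self p' (by omega : f ≠ 0)).trans (dvd_of_eq (hVf.symm.trans hV))))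
  subst hpp
  haveI : Nontrivial V := Finite.one_lt_card_iff_nontrivial.1 (by omega)
  haveI : Finite (OnePoint V) := Finite.of_equiv α e.symm
  haveI := Fintype.ofFinite V
  haveI := Fintype.ofFinite (OnePoint V)
  haveI := Fintype.ofFinite W
  obtain ⟨e₁, he₁⟩ := exists_ne (0 : V)
  have hne : ((0 : V) : OnePoint V) ≠ (e₁ : OnePoint V) := fun h => he₁ (OnePoint.coe_injective h).symm
  have h2V : ∀ v : V, v + v = 0 → v = 0 := fun v hv => by
    have h1 : addOrderOf v ∣ 2 := addOrderOf_dvd_of_nsmul_eq_zero (by rw [two_nsmul, hv])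
    have h2 : addOrderOf v ∣ p' := addOrderOf_dvd_of_nsmul_eq_zero (hexp v)
    exact AddMonoid.addOrderOf_eq_one_iff.1
      (Nat.eq_one_of_dvd_coprimes ((Nat.coprime_primes Nat.prime_two hp).2 hp2.symm) h1 h2)
  -- the involution of the two-point stabiliser
  obtain ⟨z₀, z₀i, z₀0, z₀e⟩ := hmove ∞ ((0 : V) : OnePoint V) e₁ (OnePoint.infty_ne_coe _)
    (OnePoint.infty_ne_coe _) hne ∞ ((0 : V) : OnePoint V) (-e₁ : V) (OnePoint.infty_ne_coe _)
    (OnePoint.infty_ne_coe _) (fun h => neg_ne_zero.2 he₁ (OnePoint.coe_injective h).symm)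
  set z := (⟨z₀, (hA.mem z₀).2 ⟨z₀i, z₀0⟩⟩ : Cfsg.Agent.Zassenhaus.two W b₁ b₂) with hzdef
  have hze : act z e₁ = -e₁ := OnePoint.coe_injective ((hA.lin z e₁).symm.trans z₀e)
  have hzz : z * z = 1 := hA.free he₁ (by
    rw [map_mul]
    show act z (act z e₁) = e₁
    rw [hze, map_neg, hze, neg_neg])
  have hz1 : z ≠ 1 := fun h => by
    rw [h, map_one] at hze
    have hze' : e₁ = -e₁ := hze
    exact he₁ (h2V e₁ (eq_neg_iff_add_eq_zero.1 hze'))
  have hact : ∀ h : Cfsg.Agent.Zassenhaus.two W b₁ b₂, h * h = 1 → h ≠ 1 → ∀ x, act h x = -x := by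
    intro h hh hh1 x
    rw [eq_neg_iff_add_eq_zero]
    by_contra hc
    refine hh1 (hA.free hc ?_)
    rw [map_add, show act h (act h x) = act (h * h) x by rw [map_mul]; rfl, hh, map_one]
    exact add_comm _ _
  have huniq : ∀ h : Cfsg.Agent.Zassenhaus.two W b₁ b₂, h * h = 1 → h = 1 ∨ h = z := fun h hh =>
    or_iff_not_imp_left.2 fun h1 => hA.act_injective (AddMonoidHom.ext fun x =>
      (hact h hh h1 x).trans (hact z hzz hz1 x).symm)
  -- involutions fixing `∞`
  have hfixinf : Nat.card {g : W // orderOf g = 2 ∧ ρ g ∞ = ∞} = p' ^ a := by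
    rw [← hV]
    symm
    have hex : ∀ v : V, ∃ g : {g : W // orderOf g = 2 ∧ ρ g ∞ = ∞},
        ρ g.1 ((0 : V) : OnePoint V) = (v : OnePoint V) := by
      intro v
      obtain ⟨u, hu1, hu2⟩ := hA.tr v
      have hact' : ∀ x : V, ρ (u * (z : W)) x = ((-x + v : V) : OnePoint V) := fun x => by
        rw [map_mul, Equiv.Perm.mul_apply, hA.lin, hu2, hact z hzz hz1]
      have hinf : ρ (u * (z : W)) ∞ = ∞ := by
        rw [map_mul, Equiv.Perm.mul_apply, hA.lin_infty, hu1]
      refine ⟨⟨u * (z : W), orderOf_eq_prime ?_ fun e1 => ?_, hinf⟩, by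
        rw [hact', neg_zero, zero_add]⟩
      · apply hA.inj
        rw [pow_two, map_mul, map_one]
        refine Equiv.ext fun x => ?_
        cases x with
        | infty => rw [Equiv.Perm.mul_apply, hinf, hinf]; rfl
        | coe x => rw [Equiv.Perm.mul_apply, hact', hact', Equiv.Perm.one_apply]; congr 1; abel
      · have h0 := hact' 0
        have h1 := hact' e₁
        rw [e1, map_one, Equiv.Perm.one_apply] at h0 h1
        rw [neg_zero, zero_add] at h0
        rw [← OnePoint.coe_injective h0, add_zero] at h1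
        exact he₁ (h2V e₁ (eq_neg_iff_add_eq_zero.1 (OnePoint.coe_injective h1)))
    choose F hF using hex
    refine Nat.card_congr (Equiv.ofBijective F ⟨fun v w hvw => OnePoint.coe_injective (by
      rw [← hF v, ← hF w, hvw]), fun g => ?_⟩)
    obtain ⟨g, hgo, hgi⟩ := g
    obtain ⟨v, hv⟩ : ∃ v : V, ρ g ((0 : V) : OnePoint V) = (v : OnePoint V) := by
      cases h : ρ g ((0 : V) : OnePoint V) with
      | infty => exact absurd ((ρ g).injective (hgi.trans h.symm)) (OnePoint.infty_ne_coe _)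
      | coe v => exact ⟨v, rfl⟩
    refine ⟨v, Subtype.ext ?_⟩
    obtain ⟨hfo, hfi⟩ := (F v).2
    have hfv := hF v
    set f := (F v).1 with hfdef
    have hgg : g * g = 1 := by rw [← pow_two, ← hgo, pow_orderOf_eq_one]
    have hff : f * f = 1 := by rw [← pow_two, ← hfo, pow_orderOf_eq_one]
    have hg1 : g ≠ 1 := fun e => by rw [e, orderOf_one] at hgo; norm_num at hgo
    have hf1 : f ≠ 1 := fun e => by rw [e, orderOf_one] at hfo; norm_num at hfo
    by_cases hv0 : v = 0
    · subst hv0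
      have eg := (huniq ⟨g, (hA.mem g).2 ⟨hgi, hv⟩⟩ (Subtype.ext hgg)).resolve_left
        fun e => hg1 (congrArg Subtype.val e)
      have ef := (huniq ⟨f, (hA.mem f).2 ⟨hfi, hfv⟩⟩ (Subtype.ext hff)).resolve_left
        fun e => hf1 (congrArg Subtype.val e)
      exact (congrArg Subtype.val (ef.trans eg.symm) :)
    · have hgv : ρ g (v : OnePoint V) = ((0 : V) : OnePoint V) := by
        rw [← hv, ← Equiv.Perm.mul_apply, ← map_mul, hgg, map_one, Equiv.Perm.one_apply]
      have hfv' : ρ f (v : OnePoint V) = ((0 : V) : OnePoint V) := by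
        rw [← hfv, ← Equiv.Perm.mul_apply, ← map_mul, hff, map_one, Equiv.Perm.one_apply]
      refine (inv_mul_eq_one.1 (hA.three (g⁻¹ * f) ∞ ((0 : V) : OnePoint V) (v : OnePoint V)
        (OnePoint.infty_ne_coe _) (fun h => hv0 (OnePoint.coe_injective h).symm)
        (OnePoint.infty_ne_coe _) ?_ ?_ ?_)).symm <;>
        rw [map_mul, map_inv, Equiv.Perm.mul_apply, Equiv.Perm.inv_eq_iff_eq]
      · rw [hfi, hgi]
      · rw [hfv, hv]
      · rw [hfv', hgv]
  have hfixall : ∀ c : OnePoint V, Nat.card {g : W // orderOf g = 2 ∧ ρ g c = c} = p' ^ a := by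
    intro c
    rw [← hfixinf]
    haveI : Nontrivial (OnePoint V) := ⟨⟨∞, ((0 : V) : OnePoint V), OnePoint.infty_ne_coe _⟩⟩
    obtain ⟨d, hd⟩ := exists_ne c
    obtain ⟨k, hk, -⟩ := hA.two ∞ ((0 : V) : OnePoint V) c d (OnePoint.infty_ne_coe _) hd.symm
    refine Nat.card_congr ((MulAut.conj k⁻¹).toEquiv.subtypeEquiv fun g => ?_)
    rw [MulEquiv.toEquiv_eq_coe, EquivLike.coe_coe, MulEquiv.orderOf_eq, MulAut.conj_apply, inv_inv,
      map_mul, map_mul, map_inv, Equiv.Perm.mul_apply, Equiv.Perm.mul_apply, hk,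
      Equiv.Perm.inv_eq_iff_eq, hk]
  -- counting moved points
  have hI : Nat.card {g : W // orderOf g = 2} = (p' ^ a) ^ 2 := by
    rw [← hi2]
    exact (Nat.card_congr (eW.toEquiv.subtypeEquiv fun g => by
      rw [MulEquiv.toEquiv_eq_coe, EquivLike.coe_coe, MulEquiv.orderOf_eq])).symm
  have hpts : Fintype.card (OnePoint V) = p' ^ a + 1 := by
    rw [← hV, ← Nat.card_eq_fintype_card]
    exact Finite.card_option
  set I : Finset W := Finset.univ.filter fun g => orderOf g = 2 with hIdef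
  have hIcard : I.card = (p' ^ a) ^ 2 := by
    rw [← hI, Nat.card_eq_fintype_card, Fintype.card_subtype]
  have hmoved : ∀ c : OnePoint V,
      (I.filter fun g => ρ g c ≠ c).card = (p' ^ a) ^ 2 - p' ^ a := by
    intro c
    have h1 := Finset.card_filter_add_card_filter_not (s := I) (fun g => ρ g c = c)
    have h2 : (I.filter fun g => ρ g c = c).card = p' ^ a := by
      rw [hIdef, Finset.filter_filter, ← Fintype.card_subtype, ← Nat.card_eq_fintype_card, hfixall c]
    rw [hIcard, h2] at h1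
    show (I.filter fun g => ¬ ρ g c = c).card = _
    omega
  have hswapcard : ∀ c d : OnePoint V, c ≠ d →
      (Finset.univ.filter fun g : W => ρ g c = d ∧ ρ g d = c).card = p' ^ a - 1 := by
    intro c d hcd
    rw [← Fintype.card_subtype, ← Nat.card_eq_fintype_card, ← hV,
      show Nat.card V - 1 = Nat.card (Cfsg.Agent.Zassenhaus.two W b₁ b₂) by omega]
    obtain ⟨k₁, k₁a, k₁b⟩ := hA.two ∞ ((0 : V) : OnePoint V) c d (OnePoint.infty_ne_coe _) hcd
    obtain ⟨k₂, k₂a, k₂b⟩ := hA.two ∞ ((0 : V) : OnePoint V) d c (OnePoint.infty_ne_coe _) hcd.symm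
    symm
    refine Nat.card_congr
      { toFun := fun h => ⟨k₂ * (h : W) * k₁⁻¹, by
          have hh := (hA.mem (h : W)).1 h.2
          constructor <;>
            rw [map_mul, map_mul, map_inv, Equiv.Perm.mul_apply, Equiv.Perm.mul_apply]
          · rw [← k₁a, Equiv.Perm.inv_def, Equiv.symm_apply_apply, hh.1, k₂a, ← k₁b]
          · rw [← k₁b, Equiv.Perm.inv_def, Equiv.symm_apply_apply, hh.2, k₂b, ← k₁a]⟩
        invFun := fun g => ⟨k₂⁻¹ * g.1 * k₁, by
          refine (hA.mem _).2 ⟨?_, ?_⟩ <;>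
            rw [map_mul, map_mul, map_inv, Equiv.Perm.mul_apply, Equiv.Perm.mul_apply,
              Equiv.Perm.inv_eq_iff_eq]
          · rw [k₁a, g.2.1, k₂a]
          · rw [k₁b, g.2.2, k₂b]⟩
        left_inv := fun h => Subtype.ext (by
          show k₂⁻¹ * (k₂ * (h : W) * k₁⁻¹) * k₁ = h
          group)
        right_inv := fun g => Subtype.ext (by
          show k₂ * (k₂⁻¹ * g.1 * k₁) * k₁⁻¹ = g.1
          group) }
  have hall : ∀ c d : OnePoint V, c ≠ d →
      (Finset.univ.filter fun g : W => ρ g c = d ∧ ρ g d = c) ⊆ I := by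
    have hsub : ∀ c d : OnePoint V, c ≠ d → (I.filter fun g => ρ g c = d) ⊆
        Finset.univ.filter fun g : W => ρ g c = d ∧ ρ g d = c := by
      intro c d _ g hg
      obtain ⟨h1, h2⟩ := Finset.mem_filter.1 hg
      refine Finset.mem_filter.2 ⟨Finset.mem_univ _, h2, ?_⟩
      have h1' : orderOf g = 2 := (Finset.mem_filter.1 h1).2
      rw [← h2, ← Equiv.Perm.mul_apply, ← map_mul, ← pow_two, ← h1', pow_orderOf_eq_one, map_one,
        Equiv.Perm.one_apply]
    intro c d hcd
    have hfib : ∀ c : OnePoint V, (I.filter fun g => ρ g c ≠ c).card =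
        ∑ d ∈ Finset.univ.erase c, (I.filter fun g => ρ g c = d).card := fun c => by
      rw [Finset.card_eq_sum_card_fiberwise (f := fun g => ρ g c) (t := Finset.univ.erase c)
        (fun g hg => by simpa using (Finset.mem_filter.1 hg).2)]
      refine Finset.sum_congr rfl fun d hd => congrArg Finset.card ?_
      have hdc : d ≠ c := (Finset.mem_erase.1 hd).1
      ext g
      simp only [Finset.mem_filter]
      exact ⟨fun h => ⟨h.1.1, h.2⟩, fun h => ⟨⟨h.1, h.2 ▸ hdc⟩, h.2⟩⟩
    have hle : ∀ d ∈ Finset.univ.erase c, (I.filter fun g => ρ g c = d).card ≤ p' ^ a - 1 := fun d hd =>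
      (Finset.card_le_card (hsub c d (Finset.mem_erase.1 hd).1.symm)).trans
        (hswapcard c d (Finset.mem_erase.1 hd).1.symm).le
    have heq : ∑ d ∈ Finset.univ.erase c, (I.filter fun g => ρ g c = d).card =
        ∑ _d ∈ Finset.univ.erase c, (p' ^ a - 1) := by
      rw [← hfib, hmoved, Finset.sum_const, Finset.card_erase_of_mem (Finset.mem_univ c),
        Finset.card_univ, hpts, Nat.add_sub_cancel, smul_eq_mul, Nat.mul_sub, mul_one, pow_two]
    have := (Finset.sum_eq_sum_iff_of_le hle).1 heq d (Finset.mem_erase.2 ⟨hcd.symm, Finset.mem_univ _⟩)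
    rw [← hswapcard c d hcd] at this
    rw [← Finset.eq_of_subset_of_card_le (hsub c d hcd) this.ge]
    exact Finset.filter_subset _ _
  obtain ⟨F, iF, iFt, hF, ⟨iso⟩⟩ := ZassenhausInverted28.pgl_of_swaps hA hmove (fun g g1 g0 => by
    have hg := (Finset.mem_filter.1 (hall ∞ ((0 : V) : OnePoint V) (OnePoint.infty_ne_coe _)
      (Finset.mem_filter.2 ⟨Finset.mem_univ g, g1, g0⟩))).2
    rw [← pow_two, ← hg, pow_orderOf_eq_one])
  exact ⟨F, iF, iFt, hF.trans hV, ⟨eW.trans iso⟩⟩

end Setup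

end Cfsg.Agent.NsePGLMain28
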