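import Cfsg.Agent.Lib.NseSearch29

/-! Data for the searches. -/

set_option autoImplicit false

namespace Cfsg.Agent.NseSearchData29

open NseSearch29

def ev_four : List ℕ := [8]

def cands_four : List ℕ := [1, 2, 3, 4, 5, 6, 8, 10, 12, 15, 16, 20, 24, 30]

def rows_four : List (ℕ × List ℕ × List ℕ) :=
  [(3, [], [8]), (4, [2], [8]), (5, [], [8]), (6, [3, 2], [8]), (8, [4], [8]), (10, [5, 2], [8]), (12, [6, 4], [8]), (15, [5, 3], [8]), (16, [8], [8]), (20, [10, 4], [8]), (24, [12, 8], [8]), (30, [15, 10, 6], [8])]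

def target_four : List (ℕ × ℕ) := [(3, 8), (2, 3), (1, 1)]

theorem chk_four : chk ev_four cands_four rows_four [2, 1] := by
  decide +kernel

theorem go_four :
    go ev_four target_four rows_four [(2, 3), (1, 1)] = true := by
  decide +kernel

def ev_five : List ℕ := [20, 24]

def cands_five : List ℕ := [1, 2, 3, 4, 5, 6, 7, 8, 9, 10, 12, 14, 15, 16, 18, 20, 21, 24, 25, 28, 30, 35, 36, 42, 45, 50, 56, 70, 72, 84, 90]

def rows_five : List (ℕ × List ℕ × List ℕ) :=
  [(3, [], [20, 24]), (4, [2], [20, 24]), (5, [], [20, 24]), (6, [3, 2], [20, 24]), (7, [], [24]), (8, [4], [20, 24]), (9, [3], [24]), (10, [5, 2], [20, 24]), (12, [6, 4], [20, 24]), (14, [7, 2], [24]), (15, [5, 3], [24]), (16, [8], [24]), (18, [9, 6], [24]), (20, [10, 4], [24]), (21, [7, 3], [24]), (24, [12, 8], [24]), (25, [5], [20]), (28, [14, 4], [24]), (30, [15, 10, 6], [24]), (35, [7, 5], [24]), (36, [18, 12], [24]), (42, [21, 14, 6], [24]), (45, [15, 9], [24]), (50, [25, 10], [20]), (56, [28, 8], [24]), (70, [35, 14, 10],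 [24]), (72, [36, 24], [24]), (84, [42, 28, 12], [24]), (90, [45, 30, 18], [24])]

def target_five : List (ℕ × ℕ) := [(5, 24), (3, 20), (2, 15), (1, 1)]

theorem chk_five : chk ev_five cands_five rows_five [2, 1] := by
  decide +kernel

theorem go_five :
    go ev_five target_five rows_five [(2, 15), (1, 1)] = true := by
  decide +kernel

def ev_six : List ℕ := [80, 90, 144]

def cands_six : List ℕ := [1, 2, 3, 4, 5, 6, 7, 8, 9, 10, 12, 14, 15, 16, 18, 20, 21, 24, 25, 27, 28, 30, 32, 35, 36, 40, 42, 45, 48, 50, 54, 56, 60, 63, 70, 72, 75, 84, 90, 100, 105, 108, 112, 126, 135, 140, 144, 150, 168, 180, 200, 210, 216, 252, 270, 300, 315, 432, 504, 540, 630]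

def rows_six : List (ℕ × List ℕ × List ℕ) :=
  [(3, [], [80, 90, 144]), (4, [2], [80, 90, 144]), (5, [], [80, 144]), (6, [3, 2], [80, 90, 144]), (7, [], [90, 144]), (8, [4], [80, 144]), (9, [3], [90, 144]), (10, [5, 2], [80, 144]), (12, [6, 4], [80, 144]), (14, [7, 2], [90, 144]), (15, [5, 3], [80, 144]), (16, [8], [80, 144]), (18, [9, 6], [90, 144]), (20, [10, 4], [80, 144]), (21, [7, 3], [144]), (24, [12, 8], [80, 144]), (25, [5], [80]), (27, [9], [90, 144]), (28, [14, 4], [144]), (30, [15, 10, 6], [80, 144]), (32, [16], [80, 144]), (35, [7, 5], [144]), (36, [18, 12], [144]), (40, [20, 8], [80, 144]), (42, [21, 14, 6], [144]), (45, [15, 9], [144]), (48, [24, 16], [80, 144]), (50, [25, 10], [80]), (54, [27, 18], [90, 144]), (56, [28, 8], [144]), (60, [30, 20, 12], [80, 144]), (63, [21, 9], [144]), (70, [35, 14, 10], [144]), (72, [36, 24], [144]), (75, [25, 15], [80]), (84, [42, 28, 12], [144]), (90, [45, 30, 18], [144]), (100, [50, 20], [80]), (105, [35, 21, 15], [144]), (108, [54, 36], [144]),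 (112, [56, 16], [144]), (126, [63, 42, 18], [144]), (135, [45, 27], [144]), (140, [70, 28, 20], [144]), (144, [72, 48], [144]), (150, [75, 50, 30], [80]), (168, [84, 56, 24], [144]), (180, [90, 60, 36], [144]), (200, [100, 40], [80]), (210, [105, 70, 42, 30], [144]), (216, [108, 72], [144]), (252, [126, 84, 36], [144]), (270, [135, 90, 54], [144]), (300, [150, 100, 60], [80]), (315, [105, 63, 45], [144]), (432, [216, 144], [144]), (504, [252, 168, 72], [144]), (540, [270, 180, 108], [144]), (630, [315, 210, 126, 90], [144])]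

def target_six : List (ℕ × ℕ) := [(5, 144), (4, 90), (3, 80), (2, 45), (1, 1)]

theorem chk_six : chk ev_six cands_six rows_six [2, 1] := by
  decide +kernel

theorem go_six :
    go ev_six target_six rows_six [(2, 45), (1, 1)] = true := by
  decide +kernel

end Cfsg.Agent.NseSearchData29
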