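import Cfsg.Agent.Lib.OrthStemRoot
import Mathlib

/-!
Extension of the canonical root lifts to equivariant additive lifts of all Siegel transformations.
-/

set_option autoImplicit false

namespace Cfsg.Agent.OrthStemLambda

open QuadraticMap
open Cfsg.Agent.OrthUnitaryQuad Cfsg.Agent.OrthUnitaryRefl Cfsg.Agent.OrthUnitaryOmega
open Cfsg.Agent.OrthUnitarySimple
open Cfsg.Agent.OrthStemGeom Cfsg.Agent.OrthStemLifts Cfsg.Agent.OrthStemCanon Cfsg.Agent.OrthStemRoot
open Cfsg.Agent.OrthStemSys
open scoped commutatorElement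

universe uF uV uD

variable {F : Type uF} {V : Type uV} [Field F] [Fintype F] [AddCommGroup V] [Module F V]
  [FiniteDimensional F V] {Q : QuadraticForm F V} {Δ : Type uD} [Group Δ] (E : Ext Q Δ)

include E in
theorem perp_induction {e : V} (he : Q e = 0) {P : V → Prop}
    (hadd : ∀ x y, polar Q e x = 0 → polar Q e y = 0 → P x → P y → P (x + y))
    (hs : ∀ x, polar Q e x = 0 → Q x = 0 → P x) {z : V} (hz : polar Q e z = 0) : P z := by
  have hdim := E.dim
  by_cases he0 : e = 0
  · subst he0
    obtain ⟨a, ha, hQa, ha0⟩ := (nd_top E.nd).exists_singular (by rw [finrank_top]; omega)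
    exact (nd_top E.nd).singular_induction ha hQa ha0 (P := P)
      (fun x _ y _ => hadd x y (polar_zero_left Q x) (polar_zero_left Q y))
      (fun x _ => hs x (polar_zero_left Q x)) Submodule.mem_top
  obtain ⟨f, -, hQf, hef⟩ := (nd_top E.nd).exists_partner Submodule.mem_top he0 he
  obtain ⟨α, β, y, hy, rfl⟩ := exists_split_eq (W := ⊤) Submodule.mem_top Submodule.mem_top he hQf hef
    (Submodule.mem_top (x := z))
  have hee : polar Q e e = 0 := by rw [polar_self_mul, he, mul_zero]
  obtain ⟨-, hey, -⟩ := mem_split.1 hy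
  have hβ : β = 0 := by simpa [polar_add_right, polar_smul_right, hee, hef, hey] using hz
  subst hβ
  rw [zero_smul, add_zero]
  have hαe : polar Q e (α • e) = 0 := by rw [polar_smul_right, hee, smul_zero]
  refine hadd _ _ hαe hey (hs _ hαe (by rw [QuadraticMap.map_smul, he, smul_zero])) ?_
  have hd : Module.finrank F (split Q ⊤ e f) + 2 = Module.finrank F V := by
    have := finrank_split (W := (⊤ : Submodule F V)) Submodule.mem_top Submodule.mem_top he hQf hef
    rwa [finrank_top] at this
  have hn1 := Nd.split (W := ⊤) Submodule.mem_top Submodule.mem_top he hQf hef (nd_top E.nd)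
  obtain ⟨a, ha, hQa, ha0⟩ := hn1.exists_singular (by omega)
  exact hn1.singular_induction ha hQa ha0 (P := P)
    (fun x hx y hy => hadd x y (mem_split.1 hx).2.1 (mem_split.1 hy).2.1)
    (fun x hx => hs x (mem_split.1 hx).2.1) hy

/-- Lifts of the Siegel transformations of one vector commute. -/
theorem comm_rad {e z z' : V} (he : Q e = 0) (hz : polar Q e z = 0) (hz' : polar Q e z' = 0) {δ δ' : Δ}
    (hδ : E.τ δ = S Q e z) (hδ' : E.τ δ' = S Q e z') : Commute δ δ' := by
  refine commute_congr E (a' := L E e z) (b' := L E e z') (by rw [hδ, L_spec]) (by rw [hδ', L_spec]) ?_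
  refine perp_induction E he (P := fun x => Commute (L E e x) (L E e z'))
    (fun x y hx hy c c' => (commute_add E he hx hy c.symm c'.symm).symm) (fun x hx hQx => ?_) hz
  by_cases h : Pair Q e x
  · exact comm_gen_left E h hz'
  · exact commute_congr E (a' := 1) (by rw [L_spec, S_of_not_pair he hQx hx h, map_one]) rfl
      (Commute.one_left _)

omit [Fintype F] [FiniteDimensional F V] in
theorem Frame.scale {u w u' w' : V} {W : Submodule F V} (hf : Frame Q u w u' w' W) {t : F} (ht : t ≠ 0) :
    Frame Q u (t • w) u' (t⁻¹ • w') W :=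
  { nd := hf.nd, rank := hf.rank, hu' := hf.hu'
    hw' := by rw [QuadraticMap.map_smul, hf.hw', smul_zero]
    huu := hf.huu
    hww := by rw [polar_smul_left, polar_smul_right, hf.hww]; simp [ht]
    huw' := by rw [polar_smul_right, hf.huw', smul_zero]
    hwu' := by rw [polar_smul_left, hf.hwu', smul_zero]
    huw'' := by rw [polar_smul_right, hf.huw'', smul_zero]
    perp := fun y hy => ⟨(hf.perp y hy).1, by rw [polar_smul_left, (hf.perp y hy).2.1, smul_zero],
      (hf.perp y hy).2.2.1, by rw [polar_smul_left, (hf.perp y hy).2.2.2, smul_zero]⟩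
    mem := fun y a b c d => by
      rw [polar_smul_left, smul_eq_mul] at b d
      exact hf.mem y a ((mul_eq_zero.1 b).resolve_left ht) c ((mul_eq_zero.1 d).resolve_left (inv_ne_zero ht))
    decomp := fun z a b => by
      rw [polar_smul_left, smul_eq_mul] at b
      obtain ⟨α, β, y, hy, rfl⟩ := hf.decomp z a ((mul_eq_zero.1 b).resolve_left ht)
      exact ⟨α, β * t⁻¹, y, hy, by rw [smul_smul, mul_assoc, inv_mul_cancel₀ ht, mul_one]⟩ }

/-- The lift of `S e y` for `y` orthogonal to two hyperbolic planes. -/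
noncomputable def psi (e a a' y : V) : Δ := ⁅L E a y, L E e a'⁆ * X E e (Q y • a)

section Psi

variable {e a f a' : V} {W : Submodule F V} (h : Pair Q e a) (hf : Frame Q e a f a' W)

include h hf in
theorem bracket_image {y : V} (hy : y ∈ W) :
    E.τ ⁅L E a y, L E e a'⁆ = S Q e (y + (-Q y) • a) := by
  obtain ⟨ye, ya, -, ya'⟩ := hf.perp y hy
  have hae : polar Q a e = 0 := by rw [polar_comm, h.huw]
  have h2 : polar Q e (y + (-Q y) • a) = 0 := by
    rw [polar_add_right, polar_smul_right, ye, h.huw, smul_zero, add_zero]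
  rw [map_commutatorElement, L_spec, L_spec, commutatorElement_def, S_conj,
    S_fix h.hw ya hae (by rw [polar_comm, ye]),
    show (S Q a y).1 a' = a' + (y + (-Q y) • a) by
      rw [S_apply h.hw ya, hf.hww, polar_comm Q y a', ya']; module,
    ← S_mul h.hu hf.huw' h2, S_inv h.hu hf.huw',
    S_mul h.hu hf.huw' h2, S_mul h.hu (by rw [polar_add_right, hf.huw', h2, add_zero])
      (by rw [polar_neg_right, hf.huw', neg_zero])]
  congr 1
  abel

include h hf in
theorem psi_image {y : V} (hy : y ∈ W) : E.τ (psi E e a a' y) = S Q e y := by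
  obtain ⟨ye, -, -, -⟩ := hf.perp y hy
  rw [psi, map_mul, bracket_image E h hf hy, X_image E h.hu (by rw [QuadraticMap.map_smul, h.hw, smul_zero])
    (by rw [polar_smul_right, h.huw, smul_zero]), S_mul h.hu
      (by rw [polar_add_right, polar_smul_right, ye, h.huw, smul_zero, add_zero])
      (by rw [polar_smul_right, h.huw, smul_zero])]
  congr 1
  module

include h hf in
theorem psi_conj {c b y : V} (hc : c ∈ W) (hQc : Q c = 0) (hb : b ∈ W) (hcb : polar Q c b = 0)
    (hy : y ∈ W) :
    L E c b * psi E e a a' y * (L E c b)⁻¹ = psi E e a a' ((S Q c b).1 y) := by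
  have _ := hy
  obtain ⟨ce, ca, -, ca'⟩ := hf.perp c hc
  obtain ⟨be, ba, -, ba'⟩ := hf.perp b hb
  have fe : (S Q c b).1 e = e := S_fix hQc hcb (by rw [polar_comm, ce]) (by rw [polar_comm, be])
  have fa : (S Q c b).1 a = a := S_fix hQc hcb (by rw [polar_comm, ca]) (by rw [polar_comm, ba])
  have fa' : (S Q c b).1 a' = a' := S_fix hQc hcb (by rw [polar_comm, ca']) (by rw [polar_comm, ba'])
  have e1 : L E c b * ⁅L E a y, L E e a'⁆ * (L E c b)⁻¹ = ⁅L E a ((S Q c b).1 y), L E e a'⁆ := by
    rw [conjugate_commutatorElement]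
    refine br_congr E ?_ ?_ <;> simp only [map_mul, map_inv, L_spec, S_conj]
    · rw [fa]
    · rw [fe, fa']
  rw [psi, psi, ← conj_mul, e1, X_conj, L_spec, fe, map_smul, fa, map_orth]

include h hf in
theorem psi_add {y y₁ : V} (hy : y ∈ W) (hy₁ : y₁ ∈ W) :
    psi E e a a' (y + y₁) = psi E e a a' y * psi E e a a' y₁ := by
  obtain ⟨ye, ya, -, ya'⟩ := hf.perp y hy
  obtain ⟨ye₁, ya₁, -, ya₁'⟩ := hf.perp y₁ hy₁
  have hea : ∀ r : F, polar Q e (r • a) = 0 := fun r => by rw [polar_smul_right, h.huw, smul_zero]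
  have hQa : ∀ r : F, Q (r • a) = 0 := fun r => by rw [QuadraticMap.map_smul, h.hw, smul_zero]
  set A := ⁅L E a y, L E e a'⁆ with hA
  set A₁ := ⁅L E a y₁, L E e a'⁆ with hA₁
  have e0 : ⁅L E a (y + y₁), L E e a'⁆ = L E a y * A₁ * (L E a y)⁻¹ * A := by
    rw [br_congr E (a' := L E a y * L E a y₁) (b' := L E e a')
      (by rw [map_mul, L_spec, L_spec, L_spec, S_mul h.hw ya ya₁]) rfl]
    simp only [hA, hA₁, commutatorElement_def]; group
  -- conjugating the second bracket
  have e1 : L E a y * psi E e a a' y₁ * (L E a y)⁻¹ =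
      X E a (polar Q y y₁ • e) * psi E e a a' y₁ := by
    have hb : br E a e y y₁ = ⁅L E a y, psi E e a a' y₁⁆ :=
      br_congr E rfl (by rw [L_spec, psi_image E h hf hy₁])
    have h7 : br E a e y y₁ = X E a (polar Q y y₁ • e) := by
      obtain ⟨z, z', p, q, r, s, t, -⟩ := exists_X E h.symm
      rw [X_smul_eq E h.symm p q r s t]
      exact br_eq E h.symm ya ye ya₁ ye₁ p q (by rw [polar_smul_right, r, smul_zero])
        (by rw [polar_smul_right, s, smul_zero]) (by rw [polar_smul_right, t, smul_eq_mul, mul_one])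
    rw [← h7, hb, commutatorElement_def]; group
  have hae : X E a (polar Q y y₁ • e) = X E e ((-polar Q y y₁) • a) := by
    rw [← X_smul E (polar Q y y₁) a e, X_symm E (u := e) (w := polar Q y y₁ • a)]
    refine inv_eq_of_mul_eq_one_right ?_
    rw [← X_root_add E h, add_neg_cancel, zero_smul, X_not E]
    exact fun h' => one_ne_zero (h'.ind 0 1 (by simp)).2
  have e2 : L E a y * X E e (Q y₁ • a) * (L E a y)⁻¹ = X E e (Q y₁ • a) := by
    rw [X_conj, L_spec, S_fix h.hw ya (by rw [polar_comm, h.huw]) (by rw [polar_comm, ye]), map_smul,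
      S_fix h.hw ya (by rw [polar_self_mul, h.hw, mul_zero]) (by rw [polar_comm, ya])]
  have e3 : L E a y * A₁ * (L E a y)⁻¹ = X E e ((-polar Q y y₁) • a) * A₁ := by
    rw [← hae]
    have := e1
    rw [psi, ← hA₁, ← conj_mul, e2] at this
    rw [← mul_assoc (X E a (polar Q y y₁ • e))] at this
    exact mul_right_cancel this
  rw [psi, e0, e3, psi, psi, ← hA, ← hA₁]
  -- everything lies in the lift of the radical
  have hcX : ∀ (r : F) {δ : Δ} {z : V}, polar Q e z = 0 → E.τ δ = S Q e z → Commute δ (X E e (r • a)) :=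
    fun r δ z hz hδ => comm_rad E h.hu hz (hea r) hδ (X_image E h.hu (hQa r) (hea r))
  have hA_im : E.τ A = S Q e (y + (-Q y) • a) := bracket_image E h hf hy
  have hA₁_im : E.τ A₁ = S Q e (y₁ + (-Q y₁) • a) := bracket_image E h hf hy₁
  have hpA : polar Q e (y + (-Q y) • a) = 0 := by rw [polar_add_right, ye, hea, add_zero]
  have hpA₁ : polar Q e (y₁ + (-Q y₁) • a) = 0 := by rw [polar_add_right, ye₁, hea, add_zero]
  have hQ : Q (y + y₁) = Q y + Q y₁ + polar Q y y₁ := QuadraticMap.map_add (⇑Q) y y₁
  rw [hQ, X_root_add E h, X_root_add E h]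
  have c1 := comm_rad E h.hu hpA₁ hpA hA₁_im hA_im
  set P := X E e ((-polar Q y y₁) • a)
  set q₁ := X E e (Q y • a)
  set q₂ := X E e (Q y₁ • a)
  set P' := X E e (polar Q y y₁ • a)
  have hPP : P * P' = 1 := by
    simp only [P, P']
    rw [← X_root_add E h, neg_add_cancel, zero_smul]
    exact X_not E fun h' => one_ne_zero (h'.ind 0 1 (by simp)).2
  have k1 : Commute (A * A₁) P := (hcX _ hpA hA_im).mul_left (hcX _ hpA₁ hA₁_im)
  have k2 : Commute (q₁ * q₂) P :=
    (hcX _ (hea _) (X_image E h.hu (hQa _) (hea _))).mul_left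
      (hcX _ (hea _) (X_image E h.hu (hQa _) (hea _)))
  have k3 : Commute A₁ q₁ := hcX _ hpA₁ hA₁_im
  calc P * A₁ * A * (q₁ * q₂ * P') = P * (A * A₁) * (q₁ * q₂ * P') := by rw [mul_assoc P A₁ A, c1.eq]
    _ = A * A₁ * (P * (q₁ * q₂)) * P' := by rw [← k1.eq]; simp only [mul_assoc]
    _ = A * A₁ * (q₁ * q₂) * (P * P') := by rw [← k2.eq]; simp only [mul_assoc]
    _ = A * (A₁ * q₁) * q₂ := by rw [hPP, mul_one]; simp only [mul_assoc]
    _ = A * q₁ * (A₁ * q₂) := by rw [k3.eq]; simp only [mul_assoc]

include h hf in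
theorem psi_singular {y : V} (hy : y ∈ W) (hQy : Q y = 0) : psi E e a a' y = X E e y := by
  obtain ⟨ye, ya, -, ya'⟩ := hf.perp y hy
  have hz0 : ∀ u : V, X E u 0 = 1 := fun u => X_not E fun h' => one_ne_zero (h'.ind 0 1 (by simp)).2
  rw [psi, hQy, zero_smul, hz0, mul_one]
  by_cases hy0 : y = 0
  · subst hy0
    rw [hz0, commutatorElement_eq_one_iff_commute]
    exact (commute_one E (r := L E e a') (S_zero a)).symm
  have hp : Pair Q y e := ⟨hQy, h.hu, by rw [polar_comm, ye], fun α β q => by
    have e1 : β = 0 := by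
      simpa [polar_add_right, polar_smul_right, polar_comm Q f e, hf.huu, (hf.perp y hy).2.2.1]
        using congrArg (polar Q f) q
    subst e1
    simp [hy0] at q
    exact ⟨q, rfl⟩⟩
  obtain ⟨z, z', p, q, r, s, t, -⟩ := exists_X E hp
  have hae : polar Q a e = 0 := by rw [polar_comm, h.huw]
  have hneg : polar Q y (-a) = 0 ∧ polar Q e (-a) = 0 :=
    ⟨by rw [polar_neg_right, polar_comm, ya, neg_zero], by rw [polar_neg_right, h.huw, neg_zero]⟩
  have e1 : ⁅L E a y, L E e a'⁆ = br E y e (-a) a' :=
    br_congr E (by rw [L_spec, L_spec, S_symm hQy h.hw (by rw [polar_comm, ya])]) rfl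
  have e2 : br E y e (-a) a' = br E y e z ((-1 : F) • z') :=
    br_eq E hp hneg.1 hneg.2 (by rw [polar_comm, ya']) hf.huw' p q (by rw [polar_smul_right, r, smul_zero])
      (by rw [polar_smul_right, s, smul_zero]) (by rw [polar_neg_left, hf.hww, polar_smul_right, t]; simp)
  have hp' : Pair Q e y := hp.symm
  rw [e1, e2, ← X_smul_eq E hp p q r s t, ← X_smul, X_symm E (u := e) (w := (-1 : F) • y)]
  refine inv_eq_of_mul_eq_one_right ?_
  nth_rewrite 2 [← one_smul F y]
  rw [← X_root_add E hp', neg_add_cancel, zero_smul, hz0]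

end Psi

/-- The lift does not depend on the scaling of the second hyperbolic pair. -/
theorem psi_eq {e a f a' : V} {W : Submodule F V} (h : Pair Q e a) (hf : Frame Q e a f a' W) {t : F}
    (ht : t ≠ 0) {y : V} (hy : y ∈ W) : psi E e (t • a) (t⁻¹ • a') y = psi E e a a' y := by
  have h' := Pair.smul h ht
  have hf' := Frame.scale hf ht
  have hdim := hf.dim E
  obtain ⟨c₀, hc₀, hQc₀, hc₀0⟩ := hf.singular E
  let D : V → Δ := fun x => psi E e (t • a) (t⁻¹ • a') x * (psi E e a a' x)⁻¹
  have hker : ∀ x ∈ W, E.τ (D x) = 1 := fun x hx => by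
    simp only [D]
    rw [map_mul, map_inv, psi_image E h' hf' hx, psi_image E h hf hx, mul_inv_cancel]
  have hD : ∀ x ∈ W, ∀ x₁ ∈ W, D (x + x₁) = D x * D x₁ := fun x hx x₁ hx₁ => by
    have hz := StemBasic.ker_comm E.central (hker x₁ hx₁)
    simp only [D] at hz ⊢
    rw [psi_add E h' hf' hx hx₁, psi_add E h hf hx hx₁, mul_inv_rev]
    rw [show psi E e (t • a) (t⁻¹ • a') x * psi E e (t • a) (t⁻¹ • a') x₁ *
      ((psi E e a a' x₁)⁻¹ * (psi E e a a' x)⁻¹) = psi E e (t • a) (t⁻¹ • a') x *
      ((psi E e (t • a) (t⁻¹ • a') x₁ * (psi E e a a' x₁)⁻¹) * (psi E e a a' x)⁻¹) by group,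
      ← hz (psi E e a a' x)⁻¹, mul_assoc]
  have hD0 : D 0 = 1 := by
    have := hD 0 W.zero_mem 0 W.zero_mem
    rw [add_zero] at this
    exact right_eq_mul.1 this
  have hall : D y = 1 := by
    refine hf.nd.singular_induction hc₀ hQc₀ hc₀0 (P := fun x => D x = 1)
      (fun x hx x₁ hx₁ e1 e2 => by rw [hD x hx x₁ hx₁, e1, e2, mul_one]) ?_ hy
    intro c hc hQc
    by_cases hc0 : c = 0
    · rw [hc0, hD0]
    obtain ⟨c', hc', hQc', hcc⟩ := hf.nd.exists_partner hc hc0 hQc
    have hd := finrank_split hc hc' hQc hQc' hcc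
    have hne : split Q W c c' ≠ ⊥ := fun e => by rw [e, finrank_bot] at hd; omega
    obtain ⟨b, hb, hb0⟩ := Submodule.exists_mem_ne_zero_of_ne_bot hne
    obtain ⟨z, hz, hbz⟩ := (Nd.split hc hc' hQc hQc' hcc hf.nd).exists_ne hb hb0
    obtain ⟨hbW, hcb, -⟩ := mem_split.1 hb
    obtain ⟨hzW, hcz, -⟩ := mem_split.1 hz
    have hg : (S Q c b).1 z = z + (-1 : F) • c := by
      rw [S_apply hQc hcb, hcz, hbz]; module
    have hc1 : (-1 : F) • c ∈ W := W.smul_mem _ hc
    have hinv : D ((S Q c b).1 z) = D z := by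
      simp only [D]
      rw [← psi_conj E h' hf' hc hQc hbW hcb hzW, ← psi_conj E h hf hc hQc hbW hcb hzW, mul_inv_rev,
        mul_inv_rev, inv_inv]
      have hz' := StemBasic.ker_comm E.central (hker z hzW)
      simp only [D] at hz'
      calc L E c b * psi E e (t • a) (t⁻¹ • a') z * (L E c b)⁻¹ *
            (L E c b * ((psi E e a a' z)⁻¹ * (L E c b)⁻¹))
          = L E c b * (psi E e (t • a) (t⁻¹ • a') z * (psi E e a a' z)⁻¹) * (L E c b)⁻¹ := by group
        _ = _ := by rw [hz' (L E c b), mul_inv_cancel_right]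
    rw [hg, hD z hzW _ hc1] at hinv
    have h8 := hD _ hc1 c hc
    rw [show (-1 : F) • c + c = 0 by module, hD0, mul_eq_left.1 hinv, one_mul] at h8
    exact h8.symm
  exact mul_inv_eq_one.1 hall

theorem exists_hom {e : V} (he : Q e = 0) :
    ∃ φ : V → Δ, (∀ z z', polar Q e z = 0 → polar Q e z' = 0 → φ (z + z') = φ z * φ z') ∧
      ∀ z, polar Q e z = 0 → Q z = 0 → φ z = X E e z := by
  by_cases he0 : e = 0
  · refine ⟨fun _ => 1, fun _ _ _ _ => (one_mul 1).symm, fun z _ _ => (X_not E ?_).symm⟩
    intro h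
    exact one_ne_zero (h.ind 1 0 (by simp [he0])).1
  have hdim := E.dim
  obtain ⟨f₀, -, hQf₀, hef₀⟩ := (nd_top E.nd).exists_partner Submodule.mem_top he0 he
  have hd : Module.finrank F (split Q ⊤ e f₀) + 2 = Module.finrank F V := by
    have := finrank_split (W := (⊤ : Submodule F V)) Submodule.mem_top Submodule.mem_top he hQf₀ hef₀
    rwa [finrank_top] at this
  obtain ⟨a, ha, hQa, ha0⟩ := (Nd.split (W := ⊤) Submodule.mem_top Submodule.mem_top he hQf₀ hef₀
    (nd_top E.nd)).exists_singular (by omega)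
  obtain ⟨-, hea, hfa⟩ := mem_split.1 ha
  have h : Pair Q e a := ⟨he, hQa, hea, fun α β q => by
    have e1 : α = 0 := by
      simpa [polar_add_right, polar_smul_right, polar_comm Q f₀ e, hef₀, hfa] using congrArg (polar Q f₀) q
    subst e1
    simp [ha0] at q
    exact ⟨rfl, q⟩⟩
  obtain ⟨f, a', W, hf⟩ := exists_frame' h E.nd
  let yv : V → V := fun z => z - polar Q f z • e - polar Q a' z • a - polar Q a z • a'
  let φ : V → Δ := fun z =>
    X E e (polar Q a' z • a) * X E e (polar Q a z • a') * psi E e a a' (yv z)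
  have hee : polar Q e e = 0 := by rw [polar_self_mul, he, mul_zero]
  have haa : polar Q a a = 0 := by rw [polar_self_mul, hQa, mul_zero]
  have ha'a' : polar Q a' a' = 0 := by rw [polar_self_mul, hf.hw', mul_zero]
  have hff : polar Q f f = 0 := by rw [polar_self_mul, hf.hu', mul_zero]
  have hfe : polar Q f e = 1 := by rw [polar_comm, hf.huu]
  have haf : polar Q a f = 0 := hf.hwu'
  have hfa1 : polar Q f a = 0 := by rw [polar_comm, haf]
  have hae : polar Q a e = 0 := by rw [polar_comm, hea]
  have ha'e : polar Q a' e = 0 := by rw [polar_comm, hf.huw']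
  have ha'a : polar Q a' a = 1 := by rw [polar_comm, hf.hww]
  have hyv : ∀ z, polar Q e z = 0 → yv z ∈ W := fun z hz => by
    refine hf.mem _ ?_ ?_ ?_ ?_ <;>
      simp [yv, polar_sub_right, polar_smul_right, hz, hee, hea, hf.huw', hae, haa, hf.hww, hfe,
        hfa1, hf.huw'', ha'e, ha'a, ha'a']
  have hea' : ∀ r : F, polar Q e (r • a') = 0 := fun r => by rw [polar_smul_right, hf.huw', smul_zero]
  have hearm : ∀ r : F, polar Q e (r • a) = 0 := fun r => by rw [polar_smul_right, hea, smul_zero]
  have hQar : ∀ r : F, Q (r • a) = 0 := fun r => by rw [QuadraticMap.map_smul, hQa, smul_zero]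
  have hQa'r : ∀ r : F, Q (r • a') = 0 := fun r => by rw [QuadraticMap.map_smul, hf.hw', smul_zero]
  have h' : Pair Q e a' := ⟨he, hf.hw', hf.huw', fun α β q => by
    have e1 : β = 0 := by
      simpa [polar_add_right, polar_smul_right, hae, hf.hww] using congrArg (polar Q a) q
    subst e1
    simp [he0] at q
    exact ⟨q, rfl⟩⟩
  have himA : ∀ r, E.τ (X E e (r • a)) = S Q e (r • a) := fun r => X_image E he (hQar r) (hearm r)
  have himA' : ∀ r, E.τ (X E e (r • a')) = S Q e (r • a') := fun r => X_image E he (hQa'r r) (hea' r)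
  refine ⟨φ, fun z z' hz hz' => ?_, fun z hz hQz => ?_⟩
  · have hy : yv (z + z') = yv z + yv z' := by simp only [yv, polar_add_right, add_smul]; abel
    simp only [φ]
    rw [hy, psi_add E h hf (hyv z hz) (hyv z' hz'), polar_add_right, polar_add_right, X_root_add E h,
      X_root_add E h']
    set A := X E e (polar Q a' z • a); set A' := X E e (polar Q a' z' • a)
    set B := X E e (polar Q a z • a'); set B' := X E e (polar Q a z' • a')
    set C := psi E e a a' (yv z); set C' := psi E e a a' (yv z')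
    have c1 : Commute A' B := comm_rad E he (hearm _) (hea' _) (himA _) (himA' _)
    have c2 : Commute C A' := comm_rad E he (hf.perp _ (hyv z hz)).1 (hearm _) (psi_image E h hf (hyv z hz))
      (himA _)
    have c3 : Commute C B' := comm_rad E he (hf.perp _ (hyv z hz)).1 (hea' _) (psi_image E h hf (hyv z hz))
      (himA' _)
    calc A * A' * (B * B') * (C * C') = A * (A' * B) * (B' * C) * C' := by simp only [mul_assoc]
      _ = A * B * (A' * (C * B')) * C' := by rw [c1.eq, c3.eq]; simp only [mul_assoc]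
      _ = A * B * C * (A' * B' * C') := by
          rw [← mul_assoc A' C, ← c2.eq]; simp only [mul_assoc]
  · -- agreement on singular vectors
    simp only [φ]
    have hyz := hyv z hz
    obtain ⟨ye, ya, yf, ya'⟩ := hf.perp _ hyz
    set y := yv z with hydef
    set α := polar Q f z; set β := polar Q a' z; set γ := polar Q a z
    have hz' : z = β • a + γ • a' + y + α • e := by simp only [hydef, yv, α, β, γ]; abel
    have hbc : β * γ + Q y = 0 := by
      have e1 : Q (β • a + γ • a' + y) = 0 := by
        have e2 : β • a + γ • a' + y = z + (-α) • e := by rw [hz']; module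
        rw [e2, QuadraticMap.map_add (⇑Q), hQz, QuadraticMap.map_smul, he, polar_smul_right,
          polar_comm Q z e, hz]
        simp
      simpa [QuadraticMap.map_add (⇑Q), QuadraticMap.map_smul, hQa, hf.hw', polar_smul_left,
        polar_smul_right, polar_add_left, hf.hww, ha'a, ya, ya', add_comm, mul_comm] using e1
    have hrp : polar Q e (β • a + γ • a' + y) = 0 := by
      rw [polar_add_right, polar_add_right, hearm, hea', ye]; simp
    have hrQ : Q (β • a + γ • a' + y) = 0 := by
      simp [QuadraticMap.map_add (⇑Q), QuadraticMap.map_smul, hQa, hf.hw', polar_smul_left,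
        polar_smul_right, polar_add_left, hf.hww, ya, ya']
      linear_combination hbc
    clear_value α β γ y
    conv_rhs => rw [hz', X_shift E he hrp hrQ]
    by_cases hγ : γ = 0
    · rw [hγ, zero_smul, add_zero, X_not E (u := e) (w := (0 : V))
        (fun h'' => one_ne_zero (h''.ind 0 1 (by simp)).2), mul_one]
      have hQy : Q y = 0 := by rw [hγ] at hbc; simpa using hbc
      rw [X_add E he (hQar _) hQy (hearm _) ye (by rw [polar_smul_left, ya, smul_zero]),
        psi_singular E h hf hyz hQy]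
    · have hya1 : polar Q a (γ⁻¹ • y) = 0 := by rw [polar_smul_right, ya, smul_zero]
      have hmove : (S Q a (γ⁻¹ • y)).1 (γ • a') = β • a + γ • a' + y := by
        rw [S_apply hQa hya1, polar_smul_right, hf.hww, polar_smul_left, polar_smul_right,
          polar_comm Q y a', ya', QuadraticMap.map_smul, eq_neg_of_add_eq_zero_right hbc]
        simp only [smul_eq_mul, mul_zero, zero_add, mul_one]
        match_scalars <;> field_simp
      have hfix : (S Q a (γ⁻¹ • y)).1 e = e :=
        S_fix hQa hya1 hae (by rw [polar_smul_left, polar_comm, ye, smul_zero])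
      have hconj := X_conj E (L E a (γ⁻¹ • y)) e (γ • a')
      rw [L_spec, hfix, hmove] at hconj
      have e5 : X E e (β • a + γ • a' + y) =
          ⁅L E a (γ⁻¹ • y), L E e (γ • a')⁆ * X E e (γ • a') := by
        rw [← hconj, br_congr E (a' := L E a (γ⁻¹ • y)) (b' := X E e (γ • a')) rfl
          (by rw [L_spec, himA']), commutatorElement_def]
        group
      have e6 := psi_eq E h hf (inv_ne_zero hγ) hyz
      rw [inv_inv] at e6
      have e7 : ⁅L E a (γ⁻¹ • y), L E e (γ • a')⁆ = psi E e a a' y * X E e (β • a) := by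
        rw [← e6, psi, smul_smul, mul_assoc, ← X_root_add E h,
          show Q y * γ⁻¹ + β = 0 by field_simp; linear_combination hbc, zero_smul,
          X_not E (u := e) (w := (0 : V)) (fun h'' => one_ne_zero (h''.ind 0 1 (by simp)).2), mul_one]
        exact br_congr E (by rw [L_spec, L_spec, S_smul hQa ya]) rfl
      rw [e5, e7]
      have c1 : Commute (X E e (β • a) * X E e (γ • a')) (psi E e a a' y) :=
        (comm_rad E he (hearm _) ye (himA _) (psi_image E h hf hyz)).mul_left
          (comm_rad E he (hea' _) ye (himA' _) (psi_image E h hf hyz))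
      rw [c1.eq, mul_assoc]

open scoped Classical in
/-- The equivariant additive lift. -/
noncomputable def Lam (e z : V) : Δ := if he : Q e = 0 then Classical.choose (exists_hom E he) z else 1

theorem Lam_add {e z z' : V} (he : Q e = 0) (h : polar Q e z = 0) (h' : polar Q e z' = 0) :
    Lam E e (z + z') = Lam E e z * Lam E e z' := by
  simp only [Lam, dif_pos he]
  exact (Classical.choose_spec (exists_hom E he)).1 z z' h h'

theorem Lam_singular {e z : V} (he : Q e = 0) (h : polar Q e z = 0) (hz : Q z = 0) :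
    Lam E e z = X E e z := by
  simp only [Lam, dif_pos he]
  exact (Classical.choose_spec (exists_hom E he)).2 z h hz

theorem Lam_image {e z : V} (he : Q e = 0) (h : polar Q e z = 0) : E.τ (Lam E e z) = S Q e z := by
  refine perp_induction E he (P := fun z => E.τ (Lam E e z) = S Q e z)
    (fun x y hx hy e1 e2 => by rw [Lam_add E he hx hy, map_mul, e1, e2, S_mul he hx hy])
    (fun x hx hQx => by rw [Lam_singular E he hx hQx, X_image E he hQx hx]) h

theorem Lam_conj (δ : Δ) {e z : V} (he : Q e = 0) (h : polar Q e z = 0) :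
    δ * Lam E e z * δ⁻¹ = Lam E ((E.τ δ).1 e) ((E.τ δ).1 z) := by
  have he' : Q ((E.τ δ).1 e) = 0 := by rw [map_orth, he]
  have hp : ∀ x, polar Q e x = 0 → polar Q ((E.τ δ).1 e) ((E.τ δ).1 x) = 0 := fun x hx => by
    rw [polar_orth, hx]
  refine perp_induction E he
    (P := fun z => δ * Lam E e z * δ⁻¹ = Lam E ((E.τ δ).1 e) ((E.τ δ).1 z))
    (fun x y hx hy e1 e2 => ?_) (fun x hx hQx => ?_) h
  · rw [Lam_add E he hx hy, map_add, Lam_add E he' (hp x hx) (hp y hy), ← e1, ← e2]
    group
  · rw [Lam_singular E he hx hQx, Lam_singular E he' (hp x hx) (by rw [map_orth, hQx]), X_conj]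

theorem Lam_smul (t : F) {e z : V} (he : Q e = 0) (h : polar Q e z = 0) :
    Lam E (t • e) z = Lam E e (t • z) := by
  have he' : Q (t • e) = 0 := by rw [QuadraticMap.map_smul, he, smul_zero]
  have hp : ∀ x, polar Q e x = 0 → polar Q (t • e) x = 0 ∧ polar Q e (t • x) = 0 := fun x hx =>
    ⟨by rw [polar_smul_left, hx, smul_zero], by rw [polar_smul_right, hx, smul_zero]⟩
  refine perp_induction E he (P := fun z => Lam E (t • e) z = Lam E e (t • z))
    (fun x y hx hy e1 e2 => ?_) (fun x hx hQx => ?_) h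
  · rw [Lam_add E he' (hp x hx).1 (hp y hy).1, smul_add, Lam_add E he (hp x hx).2 (hp y hy).2, e1, e2]
  · rw [Lam_singular E he' (hp x hx).1 hQx, Lam_singular E he (hp x hx).2
      (by rw [QuadraticMap.map_smul, hQx, smul_zero]), X_smul]

/-- A perfect extension has equivariant additive lifts. -/
noncomputable def sysOf (hperf : commutator Δ = ⊤) : Sys Q Δ where
  σ := E.τ
  Λ := Lam E
  map_Λ _ _ he h := Lam_image E he h
  add _ _ _ he h h' := Lam_add E he h h'
  conj δ _ _ he h := Lam_conj E δ he h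
  smul t _ _ he h := Lam_smul E t he h
  shift t e z he h := by
    have h1 : polar Q e (t • e) = 0 := by rw [polar_smul_right, polar_self_mul, he, mul_zero, smul_zero]
    rw [Lam_add E he h h1, Lam_singular E he h1 (by rw [QuadraticMap.map_smul, he, smul_zero]), X_not E,
      mul_one]
    exact fun h' => by
      simpa using (h'.ind t (-1) (by module)).2
  symm e w he hw h := by
    have hn : polar Q e (-w) = 0 := by rw [polar_neg_right, h, neg_zero]
    rw [Lam_singular E hw (by rw [polar_comm, h]) he,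
      Lam_singular E he hn (by rw [QuadraticMap.map_neg, hw]), X_symm E (u := e) (w := w)]
    refine inv_eq_of_mul_eq_one_right ?_
    rw [← X_add E he hw (by rw [QuadraticMap.map_neg, hw]) h hn
      (by rw [polar_neg_right, polar_self_mul, hw, mul_zero, neg_zero]), add_neg_cancel]
    exact X_not E fun h' => one_ne_zero (h'.ind 0 1 (by simp)).2
  gen := by
    set M := Subgroup.closure {δ | ∃ e z, Q e = 0 ∧ polar Q e z = 0 ∧ δ = Lam E e z}
    have hdim := E.dim
    have hM : ∀ δ, ∃ m ∈ M, E.τ m = E.τ δ := by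
      intro δ
      have h1 : E.τ δ ∈ sGroup Q := by
        rw [← commutator_eq_sGroup E.nd (by omega)]
        have h2 : E.τ δ ∈ (commutator Δ).map E.τ := Subgroup.mem_map_of_mem _ (hperf ▸ Subgroup.mem_top δ)
        rw [_root_.commutator_def, Subgroup.map_commutator] at h2
        rw [_root_.commutator_def]
        exact Subgroup.commutator_mono le_top le_top h2
      have hle : sGroup Q ≤ M.map E.τ := by
        rw [sGroup, Subgroup.closure_le]
        rintro _ ⟨u, w, hu, hw, -, rfl⟩
        exact ⟨Lam E u w, Subgroup.subset_closure ⟨u, w, hu, hw, rfl⟩, by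
          rw [Lam_image E hu hw, S_def hu hw]⟩
      exact hle h1
    rw [eq_top_iff, ← hperf, _root_.commutator_def, Subgroup.commutator_le]
    intro a _ b _
    obtain ⟨a', ha', hae⟩ := hM a
    obtain ⟨b', hb', hbe⟩ := hM b
    rw [br_congr E hae.symm hbe.symm, commutatorElement_def]
    exact mul_mem (mul_mem (mul_mem ha' hb') (inv_mem ha')) (inv_mem hb')

end Cfsg.Agent.OrthStemLambda
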