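import Cfsg.Agent.Lib.OrthStemSpin
import Mathlib

/-!
Lifts of `-1` in the spin group: the square is `(-1) ^ l` in dimension `2 l`.
-/

set_option autoImplicit false

namespace Cfsg.Agent.OrthStemMinusOne

open QuadraticMap
open Cfsg.Agent.OrthUnitaryQuad Cfsg.Agent.OrthUnitaryRefl Cfsg.Agent.OrthUnitaryOmega
open Cfsg.Agent.OrthStemGeom Cfsg.Agent.OrthStemSpin

universe uF uV

variable {F : Type uF} [Field F] [Fintype F] {V : Type uV} [AddCommGroup V] [Module F V]
  [FiniteDimensional F V] {Q : QuadraticForm F V} {M : Type uF} [AddCommGroup M] [Module F M]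
  [Finite M] [Nontrivial M]

/-- The orthogonal complement of a vector inside a subspace. -/
abbrev cut (Q : QuadraticForm F V) (W : Submodule F V) (x : V) : Submodule F V := W ⊓ Perp Q {x}

omit [Fintype F] [FiniteDimensional F V] in
theorem mem_cut {W : Submodule F V} {x v : V} : v ∈ cut Q W x ↔ v ∈ W ∧ polar Q x v = 0 := by
  simp [cut, mem_perp]

omit [Fintype F] [FiniteDimensional F V] in
/-- The orthogonal decomposition along an anisotropic vector. -/
theorem cut_decomp (h2 : (2 : F) ≠ 0) {W : Submodule F V} {x : V} (hx : x ∈ W) (hQx : Q x ≠ 0) {v : V}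
    (hv : v ∈ W) : v - (polar Q x v / (2 * Q x)) • x ∈ cut Q W x :=
  mem_cut.2 ⟨W.sub_mem hv (W.smul_mem _ hx), by
    rw [polar_sub_right, polar_smul_right, polar_self_mul, smul_eq_mul,
      div_mul_cancel₀ _ (mul_ne_zero h2 hQx), sub_self]⟩

omit [Fintype F] [FiniteDimensional F V] in
theorem nd_cut (h2 : (2 : F) ≠ 0) {W : Submodule F V} (hW : Nd Q W) {x : V} (hx : x ∈ W)
    (hQx : Q x ≠ 0) : Nd Q (cut Q W x) := by
  intro v hv h
  refine hW v (mem_cut.1 hv).1 fun y hy => ?_
  have h1 := h _ (cut_decomp h2 hx hQx hy)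
  rwa [polar_sub_right, polar_smul_right, polar_comm Q v x, (mem_cut.1 hv).2, smul_zero, sub_zero] at h1

omit [Fintype F] in
theorem finrank_cut (h2 : (2 : F) ≠ 0) {W : Submodule F V} {x : V} (hx : x ∈ W) (hQx : Q x ≠ 0) :
    Module.finrank F (cut Q W x) + 1 = Module.finrank F W := by
  have hsurj : Function.Surjective ((polarBilin Q x).comp W.subtype) := fun t =>
    ⟨⟨(t / (2 * Q x)) • x, W.smul_mem _ hx⟩, by
      show polar Q x ((t / (2 * Q x)) • x) = t
      rw [polar_smul_right, polar_self_mul, smul_eq_mul, div_mul_cancel₀ _ (mul_ne_zero h2 hQx)]⟩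
  have h := LinearMap.finrank_range_add_finrank_ker ((polarBilin Q x).comp W.subtype)
  have hk : (LinearMap.ker ((polarBilin Q x).comp W.subtype)).map W.subtype = cut Q W x := by
    refine Submodule.ext fun v => ⟨?_, fun hv => ?_⟩
    · rintro ⟨v, hv, rfl⟩
      exact mem_cut.2 ⟨v.2, hv⟩
    · obtain ⟨h1, h2⟩ := mem_cut.1 hv
      exact ⟨⟨v, h1⟩, h2, rfl⟩
  rw [LinearMap.range_eq_top.2 hsurj, finrank_top, Module.finrank_self,
    ← Submodule.finrank_map_subtype_eq W, hk] at h
  omega

/-- `g` is `-1` on `W` and `1` on its orthogonal. -/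
def IsNeg (Q : QuadraticForm F V) (W : Submodule F V) (g : orth Q) : Prop :=
  (∀ w ∈ W, g.1 w = -w) ∧ ∀ v, (∀ w ∈ W, polar Q w v = 0) → g.1 v = v

omit [Fintype F] [FiniteDimensional F V] in
/-- The action of two orthogonal reflections of `W` with complement `W'`. -/
theorem refl_refl {W : Submodule F V} {x y : V} (h2 : (2 : F) ≠ 0) (hx : x ∈ W) (hy : y ∈ W)
    (hQx : Q x ≠ 0) (hQy : Q y ≠ 0) (hxy : polar Q x y = 0) :
    (∀ v, polar Q x v = 0 → polar Q y v = 0 → (refl Q x hQx * refl Q y hQy).1 v = v) ∧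
      (refl Q x hQx * refl Q y hQy).1 x = -x ∧ (refl Q x hQx * refl Q y hQy).1 y = -y ∧
      ∀ v ∈ W, ∃ a b : F, ∃ w ∈ cut Q (cut Q W x) y, v = a • x + b • y + w := by
  have hyx : polar Q y x = 0 := by rw [polar_comm, hxy]
  have hycut : y ∈ cut Q W x := mem_cut.2 ⟨hy, hxy⟩
  have hxx : (Q x)⁻¹ * polar Q x x = 2 := by rw [polar_self_mul]; field_simp
  have hyy : (Q y)⁻¹ * polar Q y y = 2 := by rw [polar_self_mul]; field_simp
  refine ⟨fun v h1 h3 => ?_, ?_, ?_, fun v hv => ?_⟩
  · rw [orth_mul_apply, refl_apply Q y, h3, mul_zero, zero_smul, sub_zero, refl_apply, h1, mul_zero,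
      zero_smul, sub_zero]
  · rw [orth_mul_apply, refl_apply Q y, hyx, mul_zero, zero_smul, sub_zero, refl_apply, hxx]
    module
  · rw [orth_mul_apply, refl_apply Q y, hyy, refl_apply]
    rw [show y - (2 : F) • y = -y by module, polar_neg_right, hxy, neg_zero, mul_zero, zero_smul, sub_zero]
  · have h1 := cut_decomp h2 hx hQx hv
    have h3 := cut_decomp h2 hycut hQy h1
    exact ⟨polar Q x v / (2 * Q x), _, _, h3, by abel⟩

variable (R : Data Q M)

omit [Fintype F] [FiniteDimensional F V] [Finite M] [Nontrivial M] in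
theorem commute_of_fix (z : spin R) {x : V} (h : Moves R z.1 x x) :
    Commute (z.1 : Module.End F M) (R.ρ x) := by
  show _ = _
  conv_rhs => rw [← h]
  simp [mul_assoc]

/-- Lifts of `-1` on a non-degenerate subspace of even dimension. -/
theorem exists_lift : ∀ (k : ℕ) (W : Submodule F V), Nd Q W → Module.finrank F W = 2 * k + 2 →
    (∃ g ∈ commutator (orth Q), IsNeg Q W g) →
    ∃ z : spin R, IsNeg Q W (π R z) ∧
      (z.1 : Module.End F M) * z.1 = ((-1 : F) ^ (k + 1)) • 1 := by
  intro k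
  induction k with
  | zero =>
    intro W hW hd ⟨g, hg, hneg⟩
    obtain ⟨x, hx, hQx1⟩ := OrthStemCover.exists_value (s := (1 : F)) hW (by omega)
    have hQx : Q x ≠ 0 := by rw [hQx1]; exact one_ne_zero
    have hd1 := finrank_cut R.h2 hx hQx
    obtain ⟨y, hy, hy0⟩ := Submodule.exists_mem_ne_zero_of_ne_bot
      (show cut Q W x ≠ ⊥ from fun e => by rw [e, finrank_bot] at hd1; omega)
    obtain ⟨hyW, hxy⟩ := mem_cut.1 hy
    have h1 : Module.finrank F (cut Q W x) = 1 := by omega
    have hQy : Q y ≠ 0 := by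
      intro h
      obtain ⟨u, hu, hyu⟩ := (nd_cut R.h2 hW hx hQx).exists_ne hy hy0
      obtain ⟨c, hc⟩ := (finrank_eq_one_iff_of_nonzero' (⟨y, hy⟩ : cut Q W x)
        (fun e => hy0 (congrArg Subtype.val e))).1 h1 ⟨u, hu⟩
      have hc' : c • y = u := congrArg Subtype.val hc
      rw [← hc', polar_smul_right, polar_self_mul, h] at hyu
      simp at hyu
    have hd2 := finrank_cut R.h2 hy hQy
    have hW2 : cut Q (cut Q W x) y = ⊥ := by
      rw [← Submodule.finrank_eq_zero]; omega
    obtain ⟨hfix, hnx, hny, hdec⟩ := refl_refl R.h2 hx hyW hQx hQy hxy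
    have hg' : g = refl Q x hQx * refl Q y hQy := by
      refine orth_ext fun v => ?_
      set v' := v - (polar Q x v / (2 * Q x)) • x - (polar Q y v / (2 * Q y)) • y with hv'
      have hv : v = (polar Q x v / (2 * Q x)) • x + (polar Q y v / (2 * Q y)) • y + v' := by
        rw [hv']; abel
      have hxv : polar Q x v' = 0 := by
        rw [hv', polar_sub_right, polar_sub_right, polar_smul_right, polar_smul_right, hxy, polar_self_mul,
          smul_eq_mul, div_mul_cancel₀ _ (mul_ne_zero R.h2 hQx)]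
        simp
      have hyv : polar Q y v' = 0 := by
        rw [hv', polar_sub_right, polar_sub_right, polar_smul_right, polar_smul_right, polar_comm Q y x,
          hxy, polar_self_mul, smul_eq_mul, smul_eq_mul, div_mul_cancel₀ _ (mul_ne_zero R.h2 hQy)]
        simp
      have hperp : ∀ w ∈ W, polar Q w v' = 0 := by
        intro w hw
        obtain ⟨a, b, r, hr, rfl⟩ := hdec w hw
        rw [hW2, Submodule.mem_bot] at hr
        simp [hr, polar_add_left, polar_smul_left, hxv, hyv]
      rw [hv]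
      simp only [map_add, map_smul, hneg.1 x hx, hneg.1 y hyW, hnx, hny, hneg.2 v' hperp,
        hfix v' hxv hyv]
    have hsq : IsSquare (Q y) := by
      have : Finite V := Module.finite_of_finite F
      have h := Abelianization.commutator_subset_ker (theta Q) hg
      rw [MonoidHom.mem_ker, hg', map_mul, theta_refl R.h2, theta_refl R.h2, hQx1, if_pos IsSquare.one] at h
      by_contra hns
      rw [if_neg hns, mul_one] at h
      exact absurd h (by decide)
    obtain ⟨s, hs⟩ := hsq
    have hs0 : s ≠ 0 := fun e => hQy (by rw [hs, e, mul_zero])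
    set y' := s⁻¹ • y
    have hQy' : Q x = Q y' := by
      rw [hQx1, QuadraticMap.map_smul, hs, smul_eq_mul]
      field_simp
    have hy'W : y' ∈ W := W.smul_mem _ hyW
    have hxy' : polar Q x y' = 0 := by rw [polar_smul_right, hxy, smul_zero]
    obtain ⟨r, hr, hπ⟩ := exists_pairElem R hQx hQy'
    obtain ⟨hfix', hnx', hny', hdec'⟩ := refl_refl R.h2 hx hy'W hQx (hQy' ▸ hQx) hxy'
    have hd2' := finrank_cut R.h2 (mem_cut.2 ⟨hy'W, hxy'⟩) (hQy' ▸ hQx)
    have hW2' : cut Q (cut Q W x) y' = ⊥ := by rw [← Submodule.finrank_eq_zero]; omega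
    refine ⟨r, ⟨fun w hw => ?_, fun v hv => ?_⟩, ?_⟩
    · obtain ⟨a, b, u, hu, rfl⟩ := hdec' w hw
      rw [hW2', Submodule.mem_bot] at hu
      subst hu
      rw [hπ]
      simp only [map_add, map_smul, map_zero, hnx', hny']
      module
    · rw [hπ]
      exact hfix' v (hv x hx) (hv y' hy'W)
    · have ha : R.ρ y' * R.ρ x = -(R.ρ x * R.ρ y') :=
        eq_neg_of_add_eq_zero_left (by rw [anti, polar_comm, hxy', zero_smul])
      rw [hr, hQx1, inv_one, one_smul, mul_assoc, ← mul_assoc (R.ρ y'), ha, neg_mul, mul_assoc (R.ρ x),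
        R.sq y', ← hQy', hQx1, one_smul, mul_one, mul_neg, R.sq, hQx1]
      simp
  | succ k ih =>
    intro W hW hd ⟨g, hg, hneg⟩
    obtain ⟨x, hx, hQx1⟩ := OrthStemCover.exists_value (s := (1 : F)) hW (by omega)
    have hQx : Q x ≠ 0 := by rw [hQx1]; exact one_ne_zero
    have hd1 := finrank_cut R.h2 hx hQx
    have hW1 := nd_cut R.h2 hW hx hQx
    obtain ⟨y, hy, hQy1⟩ := OrthStemCover.exists_value (s := (1 : F)) hW1 (by omega)
    have hQy : Q y ≠ 0 := by rw [hQy1]; exact one_ne_zero
    obtain ⟨hyW, hxy⟩ := mem_cut.1 hy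
    have hd2 := finrank_cut R.h2 hy hQy
    have hW2 := nd_cut R.h2 hW1 hy hQy
    obtain ⟨r, hr, hπ⟩ := exists_pairElem R (x := x) (y := y) hQx (by rw [hQx1, hQy1])
    obtain ⟨hfix, hnx, hny, hdec⟩ := refl_refl R.h2 hx hyW hQx hQy hxy
    have hW2mem : ∀ u ∈ cut Q (cut Q W x) y, u ∈ W ∧ polar Q x u = 0 ∧ polar Q y u = 0 := fun u hu =>
      ⟨(mem_cut.1 (mem_cut.1 hu).1).1, (mem_cut.1 (mem_cut.1 hu).1).2, (mem_cut.1 hu).2⟩
    have hg' : ∃ g' ∈ commutator (orth Q), IsNeg Q (cut Q (cut Q W x) y) g' := by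
      refine ⟨g * π R r, mul_mem hg (range_π R ▸ ⟨r, rfl⟩), fun u hu => ?_, fun v hv => ?_⟩
      · obtain ⟨h1, h3, h4⟩ := hW2mem u hu
        rw [orth_mul_apply, hπ, hfix u h3 h4, hneg.1 u h1]
      · set v' := v - (polar Q x v / (2 * Q x)) • x - (polar Q y v / (2 * Q y)) • y with hv'
        have hvd : v = (polar Q x v / (2 * Q x)) • x + (polar Q y v / (2 * Q y)) • y + v' := by
          rw [hv']; abel
        have hxv : polar Q x v' = 0 := by
          rw [hv', polar_sub_right, polar_sub_right, polar_smul_right, polar_smul_right, hxy, polar_self_mul,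
            smul_eq_mul, div_mul_cancel₀ _ (mul_ne_zero R.h2 hQx)]
          simp
        have hyv : polar Q y v' = 0 := by
          rw [hv', polar_sub_right, polar_sub_right, polar_smul_right, polar_smul_right, polar_comm Q y x,
            hxy, polar_self_mul, smul_eq_mul, smul_eq_mul, div_mul_cancel₀ _ (mul_ne_zero R.h2 hQy)]
          simp
        have hperp : ∀ w ∈ W, polar Q w v' = 0 := by
          intro w hw
          obtain ⟨a, b, u, hu, rfl⟩ := hdec w hw
          obtain ⟨-, h3, h4⟩ := hW2mem u hu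
          have huv : polar Q u v' = 0 := by
            rw [hv', polar_sub_right, polar_sub_right, polar_smul_right, polar_smul_right, hv u hu,
              polar_comm Q u x, polar_comm Q u y, h3, h4]
            simp
          simp [polar_add_left, polar_smul_left, hxv, hyv, huv]
        rw [orth_mul_apply, hπ, hvd]
        simp only [map_add, map_smul, map_neg, hnx, hny, hneg.1 x hx, hneg.1 y hyW, hneg.2 v' hperp,
          hfix v' hxv hyv, neg_neg]
    obtain ⟨z, hz, hz2⟩ := ih _ hW2 (by omega) hg'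
    have hxperp : ∀ u ∈ cut Q (cut Q W x) y, polar Q u x = 0 ∧ polar Q u y = 0 := fun u hu =>
      ⟨by rw [polar_comm]; exact (hW2mem u hu).2.1, by rw [polar_comm]; exact (hW2mem u hu).2.2⟩
    have hzx : (π R z).1 x = x := hz.2 x fun u hu => (hxperp u hu).1
    have hzy : (π R z).1 y = y := hz.2 y fun u hu => (hxperp u hu).2
    refine ⟨z * r, ⟨fun w hw => ?_, fun v hv => ?_⟩, ?_⟩
    · obtain ⟨a, b, u, hu, rfl⟩ := hdec w hw
      obtain ⟨-, h3, h4⟩ := hW2mem u hu
      rw [map_mul, orth_mul_apply, hπ]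
      simp only [map_add, map_smul, map_neg, hnx, hny, hfix u h3 h4, hzx, hzy, hz.1 u hu]
      module
    · rw [map_mul, orth_mul_apply, hπ, hfix v (hv x hx) (hv y hyW)]
      exact hz.2 v fun u hu => hv u (hW2mem u hu).1
    · have c1 : Commute (z.1 : Module.End F M) (r.1 : Module.End F M) := by
        rw [hr]
        refine Commute.smul_right ?_ _
        refine Commute.mul_right ?_ ?_
        · exact commute_of_fix R z (by
            have := π_moves R z x; rwa [hzx] at this)
        · exact commute_of_fix R z (by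
            have := π_moves R z y; rwa [hzy] at this)
      have hr2 : (r.1 : Module.End F M) * r.1 = -1 := by
        have ha : R.ρ y * R.ρ x = -(R.ρ x * R.ρ y) :=
          eq_neg_of_add_eq_zero_left (by rw [anti, polar_comm, hxy, zero_smul])
        rw [hr, hQx1, inv_one, one_smul, mul_assoc, ← mul_assoc (R.ρ y), ha, neg_mul, mul_assoc (R.ρ x),
          R.sq y, hQy1, one_smul, mul_one, mul_neg, R.sq, hQx1]
        simp
      rw [Subgroup.coe_mul, Units.val_mul, mul_assoc, ← mul_assoc (r.1 : Module.End F M), c1.symm.eq,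
        mul_assoc (z.1 : Module.End F M), ← mul_assoc, hz2, hr2, mul_neg, mul_one, pow_succ _ (k + 1),
        ← neg_smul, mul_neg, mul_one]

end Cfsg.Agent.OrthStemMinusOne
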