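import Cfsg.Agent.Lib.OrthStemEven
import Cfsg.Agent.Lib.OrthStemMinusOne
import Cfsg.Agent.Lib.OrthStemLambda
import Cfsg.Agent.Lib.OrthCharTwo
import Mathlib

/-!
Schur multipliers of the simple orthogonal groups of dimension at least seven.
-/

set_option autoImplicit false

namespace Cfsg.Agent.OrthStemMult

open QuadraticMap
open Cfsg.Agent.OrthUnitaryQuad Cfsg.Agent.OrthUnitaryRefl Cfsg.Agent.OrthUnitaryOmega
open Cfsg.Agent.OrthUnitaryForms Cfsg.Agent.OrthUnitaryStd Cfsg.Agent.OrthUnitaryCentre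
open Cfsg.Agent.OrthStemSys Cfsg.Agent.OrthStemLifts Cfsg.Agent.OrthStemSpinor Cfsg.Agent.OrthStemSpin

open scoped commutatorElement

universe u

variable {F : Type u} [Field F] [Fintype F] {V : Type u} [AddCommGroup V] [Module F V]
  [FiniteDimensional F V] {Q : QuadraticForm F V}

/-- The exclusions of the small cases. -/
def Ok (Q : QuadraticForm F V) : Prop :=
  9 ≤ Module.finrank F V ∨ 4 ≤ Fintype.card F ∨
    (Module.finrank F V = 8 ∧ (Fintype.card F = 3 ∨ NoTot4 Q))

omit [Fintype F] in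
/-- The kernel of a composite of central extensions is central when the top group is perfect. -/
theorem central_comp {Δ Γ G : Type*} [Group Δ] [Group Γ] [Group G] {τ : Δ →* Γ} {ρ : Γ →* G}
    (hperf : commutator Δ = ⊤) (hτ : τ.ker ≤ Subgroup.center Δ) (hρ : ρ.ker ≤ Subgroup.center Γ) :
    (ρ.comp τ).ker ≤ Subgroup.center Δ := by
  intro k hk
  have hk' : τ k ∈ Subgroup.center Γ := hρ hk
  have hz : ∀ δ, ⁅k, δ⁆ ∈ Subgroup.center Δ := fun δ => hτ (by
    rw [MonoidHom.mem_ker, map_commutatorElement, commutatorElement_eq_one_iff_mul_comm]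
    exact (Subgroup.mem_center_iff.1 hk' (τ δ)).symm)
  let φ : Δ →* Subgroup.center Δ := MonoidHom.mk' (fun δ => ⟨⁅k, δ⁆, hz δ⟩) fun a b => Subtype.ext (by
    show ⁅k, a * b⁆ = ⁅k, a⁆ * ⁅k, b⁆
    have e : ⁅k, a * b⁆ = ⁅k, a⁆ * (a * ⁅k, b⁆ * a⁻¹) := by simp only [commutatorElement_def]; group
    rw [e, Subgroup.mem_center_iff.1 (hz b) a, mul_inv_cancel_right])
  have hφ : φ.ker = ⊤ := by
    rw [eq_top_iff, ← hperf, _root_.commutator_def, Subgroup.commutator_le]
    intro a _ b _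
    rw [MonoidHom.mem_ker, map_commutatorElement, commutatorElement_eq_one_iff_mul_comm]
    exact Subtype.ext (Subgroup.mem_center_iff.1 (φ b).2 (φ a : Δ)).symm.symm
  refine Subgroup.mem_center_iff.2 fun δ => ?_
  have h : φ δ = 1 := MonoidHom.mem_ker.1 (hφ ▸ Subgroup.mem_top δ)
  have h' : ⁅k, δ⁆ = 1 := congrArg Subtype.val h
  exact (commutatorElement_eq_one_iff_mul_comm.1 h').symm

/-- Perfect central extensions of the commutator subgroup give systems of lifts. -/
theorem exists_sys (hnd : (polarBilin Q).Nondegenerate) (hd : 7 ≤ Module.finrank F V) (hok : Ok Q)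
    {Δ : Type u} [Group Δ] (κ : Δ →* orth Q) (hc : κ.ker ≤ Subgroup.center Δ)
    (hr : commutator (orth Q) ≤ κ.range) (hperf : commutator Δ = ⊤) :
    ∃ Y : Sys Q Δ, Y.σ = κ :=
  ⟨OrthStemLambda.sysOf
    ({ τ := κ, nd := hnd, dim := hd, central := hc, range := hr, small := hok.imp_right (Or.imp_right Or.inl) } : Ext Q Δ) hperf, rfl⟩

theorem omega_perfect (hnd : (polarBilin Q).Nondegenerate) (hd : 7 ≤ Module.finrank F V) :
    commutator (commutator (orth Q)) = ⊤ := by
  rw [eq_top_iff, ← Subgroup.map_le_map_iff_of_injective (f := (commutator (orth Q)).subtype)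
    Subtype.val_injective, ← MonoidHom.range_eq_map, Subgroup.range_subtype, Subgroup.map_subtype_commutator,
    OrthUnitarySimple.commutator_eq_sGroup hnd (by omega)]
  exact OrthUnitarySimple.sGroup_le_bracket hnd (by omega)

variable {ι : Type} [Fintype ι] [DecidableEq ι] (f : (ι → F) → F) (e : V ≃ₗ[F] (ι → F))
  (h : ∀ x, f (e x) = Q x)

include h in
theorem card_center (hnd : (polarBilin Q).Nondegenerate) (hd : 7 ≤ Module.finrank F V) [Decidable ((2 : F) ≠ 0 ∧ negOne Q ∈ commutator (orth Q))] :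
    Nat.card (Subgroup.center (Omega F f)) =
      if (2 : F) ≠ 0 ∧ negOne Q ∈ commutator (orth Q) then 2 else 1 := by
  have : Finite V := Module.finite_of_finite F
  obtain ⟨a, -, hQa, ha0⟩ := (OrthStemGeom.nd_top hnd).exists_singular (by rw [finrank_top]; omega)
  rw [Nat.card_congr (Subgroup.centerCongr (omegaEquiv Q f e h)).toEquiv,
    card_center_commutator hnd hQa ha0 (by omega)]
  congr

include h in
/-- Characteristic two. -/
theorem multiplier_even (h2 : (2 : F) = 0) (hnd : (polarBilin Q).Nondegenerate)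
    (hd : 7 ≤ Module.finrank F V) (hok : Ok Q) {A : Type} [CommGroup A] [Subsingleton A] :
    Cfsg.HasSchurMultiplier (Cfsg.POmega F f) A := by
  classical
  set ψ := omegaEquiv Q f e h
  have hperf : commutator (Omega F f) = ⊤ := by
    have hh := omega_perfect hnd hd
    rw [← map_commutator_equiv ψ] at hh
    rw [eq_top_iff]
    intro x _
    obtain ⟨y, hy, hxy⟩ : ψ x ∈ (commutator (Omega F f)).map ψ.toMonoidHom := hh ▸ Subgroup.mem_top _
    rwa [← ψ.injective hxy]
  have hz : Subgroup.center (Omega F f) = ⊥ := by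
    rw [← Subgroup.card_eq_one, card_center f e h hnd hd, if_neg fun hh => hh.1 h2]
  have hk : (QuotientGroup.mk' (Subgroup.center (Omega F f))).ker = Subgroup.center (Omega F f) :=
    QuotientGroup.ker_mk' _
  have : Subsingleton (QuotientGroup.mk' (Subgroup.center (Omega F f))).ker := by
    rw [hk, hz]; infer_instance
  refine StemBasic.hasSchurMultiplier_of_cover _ (QuotientGroup.mk'_surjective _) hk.le hperf ?_
    { toFun := fun _ => 1, invFun := fun _ => 1, left_inv := fun _ => Subsingleton.elim _ _,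
      right_inv := fun _ => Subsingleton.elim _ _, map_mul' := fun _ _ => (Subsingleton.elim _ _) }
  intro Δ _ _ τ hτ
  have hΔ := StemBasic.commutator_eq_top_of_stem hτ hperf
  let κ : Δ →* orth Q := (commutator (orth Q)).subtype.comp (ψ.toMonoidHom.comp τ)
  have hker : κ.ker = τ.ker := by
    refine Subgroup.ext fun x => ?_
    rw [MonoidHom.mem_ker, MonoidHom.mem_ker]
    show ((ψ (τ x) : commutator (orth Q)) : orth Q) = 1 ↔ _
    rw [OneMemClass.coe_eq_one, MulEquiv.map_eq_one_iff]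
  obtain ⟨Y, hY⟩ := exists_sys hnd hd hok κ (hker ▸ hτ.2.1) (fun g hg => by
    obtain ⟨x, hx⟩ := hτ.1 (ψ.symm ⟨g, hg⟩)
    exact ⟨x, by show ((ψ (τ x) : commutator (orth Q)) : orth Q) = g; rw [hx, ψ.apply_symm_apply]⟩) hΔ
  rw [← hker, ← hY]
  exact OrthStemEven.ker_eq_bot Y h2 hnd hd

/-- The double cover in odd characteristic. -/
theorem exists_cover (h2 : (2 : F) ≠ 0) (hnd : (polarBilin Q).Nondegenerate)
    (hd : 7 ≤ Module.finrank F V) (hok : Ok Q) (hs : HasSpinor Q) :
    ∃ (Γ : Type u) (_ : Group Γ) (_ : Finite Γ) (ρ : Γ →* commutator (orth Q)) (ζ : Γ),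
      Function.Surjective ρ ∧ ρ.ker ≤ Subgroup.center Γ ∧ commutator Γ = ⊤ ∧
      ζ ≠ 1 ∧ (∀ g, ρ g = 1 ↔ g = 1 ∨ g = ζ) ∧
      (∀ (Δ : Type u) [Group Δ] [Finite Δ] (τ : Δ →* Γ), Cfsg.IsStemExtension τ → τ.ker = ⊥) ∧
      ∀ l, Module.finrank F V = 2 * l → negOne Q ∈ commutator (orth Q) →
        ∃ z, (ρ z : orth Q) = negOne Q ∧ z * z = ζ ^ l := by
  classical
  obtain ⟨M, i1, i2, i3, i4, ρ0, hρ0⟩ := hs
  let R : Data Q M := ⟨h2, hnd, hd, ρ0, hρ0⟩
  obtain ⟨hcases, hcard⟩ := ker_cases R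
  obtain ⟨ζ, hζ, hπζ⟩ := exists_neg_one R
  have hζ1 : ζ ≠ 1 := fun hh => end_neg_one_ne R (by rw [← hζ, hh]; rfl)
  let ρ : spin R →* commutator (orth Q) := (π R).codRestrict _ fun g => range_π R ▸ ⟨g, rfl⟩
  have hρs : Function.Surjective ρ := fun g => by
    obtain ⟨x, hx⟩ : g.1 ∈ (π R).range := (range_π R).symm ▸ g.2
    exact ⟨x, Subtype.ext hx⟩
  have hρ1 : ∀ g, ρ g = 1 ↔ π R g = 1 := fun g =>
    ⟨fun hh => congrArg Subtype.val hh, fun hh => Subtype.ext hh⟩
  have hρc : ρ.ker ≤ Subgroup.center (spin R) := fun g hg =>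
    (sys R).central (MonoidHom.mem_ker.2 ((hρ1 g).1 hg))
  have hone : ∀ g : spin R, ρ g = 1 ↔ g = 1 ∨ g = ζ := by
    intro g
    refine ⟨fun hh => ?_, ?_⟩
    · rcases hcases g ((hρ1 g).1 hh) with h' | h'
      · exact Or.inl (Subtype.ext (Units.ext h'))
      · exact Or.inr (Subtype.ext (Units.ext (h'.trans hζ.symm)))
    · rintro (rfl | rfl)
      · exact map_one ρ
      · exact (hρ1 _).2 hπζ
  refine ⟨spin R, inferInstance, inferInstance, ρ, ζ, hρs, hρc, OrthStemSpin.perfect R, hζ1, hone, ?_, ?_⟩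
  · intro Δ _ _ τ hτ
    have hΔ := StemBasic.commutator_eq_top_of_stem hτ (OrthStemSpin.perfect R)
    let κ : Δ →* orth Q := (π R).comp τ
    obtain ⟨Y, hY⟩ := exists_sys hnd hd hok κ (central_comp hΔ hτ.2.1 (sys R).central)
      (fun g hg => by
        obtain ⟨x, hx⟩ : g ∈ (π R).range := (range_π R).symm ▸ hg
        obtain ⟨y, hy⟩ := hτ.1 x
        exact ⟨y, by show π R (τ y) = g; rw [hy, hx]⟩) hΔ
    have hle : Nat.card κ.ker ≤ 2 := by rw [← hY]; exact OrthStemOdd.card_ker_le_two h2 Y hnd hd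
    rw [Subgroup.eq_bot_iff_forall]
    intro t ht
    by_contra ht1
    obtain ⟨y, hy⟩ := hτ.1 ζ
    have m1 : t ∈ κ.ker := by
      rw [MonoidHom.mem_ker]; show π R (τ t) = 1
      rw [MonoidHom.mem_ker.1 ht, map_one]
    have m2 : y ∈ κ.ker := by
      rw [MonoidHom.mem_ker]; show π R (τ y) = 1
      rw [hy, hπζ]
    let j : Fin 3 → κ.ker := ![1, ⟨t, m1⟩, ⟨y, m2⟩]
    have hj : Function.Injective j := by
      have e1 : y ≠ 1 := fun hh => hζ1 (by rw [← hy, hh, map_one])
      have e2 : t ≠ y := fun hh => hζ1 (by rw [← hy, ← hh]; exact MonoidHom.mem_ker.1 ht)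
      intro a b hab
      fin_cases a <;> fin_cases b <;>
        simp [j, Subtype.ext_iff, eq_comm, ht1, e1, e2, e2.symm] at hab ⊢
    have := Nat.card_le_card_of_injective j hj
    rw [Nat.card_fin] at this
    omega
  · intro l hl hmem
    obtain ⟨z, hz, hz2⟩ := OrthStemMinusOne.exists_lift R (l - 1) ⊤ (OrthStemGeom.nd_top hnd)
      (by rw [finrank_top]; omega)
      ⟨negOne Q, hmem, fun w _ => negOne_apply w, fun v hv => by
        rw [show v = 0 from hnd.1 v fun w => by
          rw [polarBilin_apply_apply, polar_comm]; exact hv w trivial]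
        exact map_zero _⟩
    refine ⟨z, orth_ext fun x => (hz.1 x trivial).trans (negOne_apply x).symm, Subtype.ext (Units.ext ?_)⟩
    rw [show l - 1 + 1 = l by omega] at hz2
    rw [Subgroup.coe_mul, Units.val_mul, hz2, SubgroupClass.coe_pow, Units.val_pow_eq_pow_val, hζ]
    rcases Nat.even_or_odd l with hp | hp
    · rw [hp.neg_one_pow, hp.neg_one_pow, one_smul]
    · rw [hp.neg_one_pow, hp.neg_one_pow, neg_smul, one_smul]

include h in
/-- Odd characteristic, `-1` outside the commutator subgroup. -/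
theorem multiplier_two (h2 : (2 : F) ≠ 0) (hnd : (polarBilin Q).Nondegenerate)
    (hd : 7 ≤ Module.finrank F V) (hok : Ok Q) (hs : HasSpinor Q)
    (hm : negOne Q ∉ commutator (orth Q)) :
    Cfsg.HasCyclicSchurMultiplier (Cfsg.POmega F f) 2 := by
  classical
  obtain ⟨Γ, _, _, ρ, ζ, hρs, hρc, hperf, hζ1, hone, htriv, -⟩ := exists_cover h2 hnd hd hok hs
  set ψ := omegaEquiv Q f e h
  have hz : Subgroup.center (Omega F f) = ⊥ := by
    rw [← Subgroup.card_eq_one, card_center f e h hnd hd, if_neg fun hh => hm hh.2]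
  let σ : Γ →* Cfsg.POmega F f := (QuotientGroup.mk' _).comp (ψ.symm.toMonoidHom.comp ρ)
  have hk : σ.ker = ρ.ker := by
    refine Subgroup.ext fun g => ?_
    rw [MonoidHom.mem_ker, MonoidHom.mem_ker]
    show QuotientGroup.mk' _ (ψ.symm (ρ g)) = 1 ↔ _
    rw [QuotientGroup.mk'_apply, QuotientGroup.eq_one_iff, hz, Subgroup.mem_bot, MulEquiv.map_eq_one_iff]
  have hcard : Nat.card σ.ker = 2 := by
    rw [hk, Nat.card_eq_two_iff]
    refine ⟨⟨1, one_mem _⟩, ⟨ζ, (hone ζ).2 (Or.inr rfl)⟩, fun hh => hζ1 (congrArg Subtype.val hh).symm,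
      Set.eq_univ_of_forall fun g => ?_⟩
    rcases (hone g.1).1 g.2 with hh | hh
    · exact Or.inl (Subtype.ext hh)
    · exact Or.inr (Subtype.ext hh)
  have : Fact (Nat.Prime 2) := ⟨Nat.prime_two⟩
  have : IsCyclic σ.ker := isCyclic_of_prime_card hcard
  exact StemBasic.hasSchurMultiplier_of_cover σ
    ((QuotientGroup.mk'_surjective _).comp (ψ.symm.surjective.comp hρs)) (hk ▸ hρc) hperf htriv
    (mulEquivOfCyclicCardEq (by rw [hcard, Nat.card_congr Multiplicative.toAdd, Nat.card_zmod]))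

include h in
/-- Odd characteristic, `-1` in the commutator subgroup. -/
theorem multiplier_four (h2 : (2 : F) ≠ 0) (hnd : (polarBilin Q).Nondegenerate)
    {l : ℕ} (hl : Module.finrank F V = 2 * l) (hd : 7 ≤ Module.finrank F V) (hok : Ok Q)
    (hs : HasSpinor Q) (hm : negOne Q ∈ commutator (orth Q)) :
    (Odd l → Cfsg.HasCyclicSchurMultiplier (Cfsg.POmega F f) 4) ∧
      (Even l → Cfsg.HasSchurMultiplier (Cfsg.POmega F f) (Multiplicative (ZMod 2 × ZMod 2))) := by
  classical
  obtain ⟨Γ, _, _, ρ, ζ, hρs, hρc, hperf, hζ1, hone, htriv, hlift⟩ := exists_cover h2 hnd hd hok hs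
  obtain ⟨z, hρz, hz2⟩ := hlift l hl hm
  set ψ := omegaEquiv Q f e h
  let σ : Γ →* Cfsg.POmega F f := (QuotientGroup.mk' _).comp (ψ.symm.toMonoidHom.comp ρ)
  have : Finite V := Module.finite_of_finite F
  obtain ⟨a, -, hQa, ha0⟩ := (OrthStemGeom.nd_top hnd).exists_singular (by rw [finrank_top]; omega)
  have hcent : Nat.card (Subgroup.center (commutator (orth Q))) = 2 := by
    rw [card_center_commutator hnd hQa ha0 (by omega), if_pos ⟨h2, hm⟩]
  have hne : negOne Q ≠ 1 := fun hh => by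
    have h' : -a = a := by
      have := congrArg (fun g : orth Q => g.1 a) hh
      simpa [negOne_apply] using this
    have : (2 : F) • a = 0 := by rw [two_smul]; nth_rw 1 [← h']; exact neg_add_cancel a
    exact ha0 ((smul_eq_zero.1 this).resolve_left h2)
  have hzmem : ρ z ∈ Subgroup.center (commutator (orth Q)) := by
    rw [Subgroup.mem_center_iff]
    intro g
    refine Subtype.ext (orth_ext fun x => ?_)
    show (g : orth Q).1 (((ρ z : commutator (orth Q)) : orth Q).1 x) = ((ρ z : commutator (orth Q)) : orth Q).1 ((g : orth Q).1 x)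
    rw [hρz, negOne_apply, negOne_apply, map_neg]
  have hkmem : ∀ g, g ∈ σ.ker ↔ g = 1 ∨ g = ζ ∨ g = z ∨ g = z * ζ := by
    intro g
    have h1 : g ∈ σ.ker ↔ ρ g ∈ Subgroup.center (commutator (orth Q)) := by
      rw [MonoidHom.mem_ker]
      show QuotientGroup.mk' _ (ψ.symm (ρ g)) = 1 ↔ _
      rw [QuotientGroup.mk'_apply, QuotientGroup.eq_one_iff]
      rw [Subgroup.mem_center_iff, Subgroup.mem_center_iff]
      constructor
      · intro hh y
        refine ψ.symm.injective ?_
        rw [map_mul, map_mul]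
        exact hh _
      · intro hh y
        refine ψ.injective ?_
        rw [map_mul, map_mul, ψ.apply_symm_apply]
        exact hh _
    rw [h1]
    constructor
    · intro hh
      by_cases hg1 : ρ g = 1
      · rcases (hone g).1 hg1 with rfl | rfl
        · exact Or.inl rfl
        · exact Or.inr (Or.inl rfl)
      · have hne' : (⟨ρ z, hzmem⟩ : Subgroup.center (commutator (orth Q))) ≠ 1 := fun hh' => hne (by
          rw [← hρz]
          exact congrArg (fun c : Subgroup.center (commutator (orth Q)) => (c.1 : orth Q)) hh')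
        have he := ((Nat.card_eq_two_iff' (1 : Subgroup.center (commutator (orth Q)))).1 hcent).unique
          (y₁ := ⟨ρ g, hh⟩) (fun hh' => hg1 (congrArg Subtype.val hh')) hne'
        have hgz : ρ (z⁻¹ * g) = 1 := by
          have he' : ρ g = ρ z := congrArg Subtype.val he
          rw [map_mul, map_inv, he', inv_mul_cancel]
        rcases (hone _).1 hgz with hh' | hh'
        · exact Or.inr (Or.inr (Or.inl (inv_mul_eq_one.1 hh').symm))
        · exact Or.inr (Or.inr (Or.inr (inv_mul_eq_iff_eq_mul.1 hh')))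
    · rintro (rfl | rfl | rfl | rfl)
      · rw [map_one]; exact one_mem _
      · rw [(hone _).2 (Or.inr rfl)]; exact one_mem _
      · exact hzmem
      · rw [map_mul, (hone ζ).2 (Or.inr rfl), mul_one]; exact hzmem
  have hζρ : ρ ζ = 1 := (hone ζ).2 (Or.inr rfl)
  have hζc : ∀ g, g * ζ = ζ * g := Subgroup.mem_center_iff.1 (hρc hζρ)
  have hzne : z ≠ 1 ∧ z ≠ ζ := ⟨fun hh => hne (by rw [← hρz, hh, map_one]; rfl),
    fun hh => hne (by rw [← hρz, hh, hζρ]; rfl)⟩
  have hζ2 : ζ * ζ = 1 := ((hone _).1 (by rw [map_mul, hζρ, one_mul])).resolve_right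
    fun hh => hζ1 (mul_eq_right.1 hh)
  have hz4 : z * ζ ≠ 1 ∧ z * ζ ≠ ζ ∧ z * ζ ≠ z := by
    refine ⟨fun hh => hzne.2 ?_, fun hh => hzne.1 (mul_eq_right.1 hh), fun hh => hζ1 (mul_eq_left.1 hh)⟩
    rw [mul_eq_one_iff_eq_inv.1 hh, inv_eq_of_mul_eq_one_right hζ2]
  have hcard : Nat.card σ.ker = 4 := by
    let k : Fin 4 → σ.ker := ![⟨1, one_mem _⟩, ⟨ζ, (hkmem ζ).2 (Or.inr (Or.inl rfl))⟩,
      ⟨z, (hkmem z).2 (Or.inr (Or.inr (Or.inl rfl)))⟩, ⟨z * ζ, (hkmem _).2 (Or.inr (Or.inr (Or.inr rfl)))⟩]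
    have hk : Function.Bijective k := by
      refine ⟨fun a b hab => ?_, fun g => ?_⟩
      · fin_cases a <;> fin_cases b <;>
          simp [k, Subtype.ext_iff, hζ1, hζ1.symm, hzne.1, hzne.2, hzne.1.symm, hzne.2.symm, hz4.1, hz4.2.1,
            hz4.2.2, hz4.1.symm, hz4.2.1.symm, hz4.2.2.symm] at hab ⊢
      · rcases (hkmem g.1).1 g.2 with hh | hh | hh | hh
        · exact ⟨0, Subtype.ext hh.symm⟩
        · exact ⟨1, Subtype.ext hh.symm⟩
        · exact ⟨2, Subtype.ext hh.symm⟩
        · exact ⟨3, Subtype.ext hh.symm⟩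
    rw [← Nat.card_eq_of_bijective k hk]; simp
  have hsur : Function.Surjective σ :=
    (QuotientGroup.mk'_surjective _).comp (ψ.symm.surjective.comp hρs)
  have hc : σ.ker ≤ Subgroup.center Γ := by
    intro g hg
    refine central_comp (τ := MonoidHom.id Γ) (ρ := σ) hperf (by simp) ?_ hg
    intro k hk
    -- the lift of a central element of a perfect quotient is central
    refine central_comp (τ := ρ) (ρ := (QuotientGroup.mk' (Subgroup.center (commutator (orth Q))))) hperf hρc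
      (by rw [QuotientGroup.ker_mk']) ?_
    rw [MonoidHom.mem_ker]
    show QuotientGroup.mk' _ (ρ k) = 1
    rw [QuotientGroup.mk'_apply, QuotientGroup.eq_one_iff]
    rcases (hkmem k).1 hk with rfl | rfl | rfl | rfl
    · rw [map_one]; exact one_mem _
    · rw [hζρ]; exact one_mem _
    · exact hzmem
    · rw [map_mul, hζρ, mul_one]; exact hzmem
  refine ⟨fun hodd => ?_, fun heven => ?_⟩
  · have hz2' : z * z = ζ := by
      obtain ⟨j, rfl⟩ := hodd
      rw [hz2, pow_succ, pow_mul, pow_two, hζ2, one_pow, one_mul]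
    have : IsCyclic σ.ker := by
      refine ⟨⟨⟨z, (hkmem z).2 (Or.inr (Or.inr (Or.inl rfl)))⟩, fun g => ?_⟩⟩
      rcases (hkmem g.1).1 g.2 with hh | hh | hh | hh
      · exact ⟨0, Subtype.ext (by simp [hh])⟩
      · exact ⟨(2 : ℕ), Subtype.ext (by
          simp only [zpow_natCast, SubgroupClass.coe_pow]
          rw [hh, pow_two, hz2'])⟩
      · exact ⟨1, Subtype.ext (by simp [hh])⟩
      · exact ⟨(3 : ℕ), Subtype.ext (by
          simp only [zpow_natCast, SubgroupClass.coe_pow]
          rw [hh, pow_succ, pow_two, hz2', hζc z])⟩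
    exact StemBasic.hasSchurMultiplier_of_cover σ hsur hc hperf htriv
      (mulEquivOfCyclicCardEq (by rw [hcard, Nat.card_congr Multiplicative.toAdd, Nat.card_zmod]))
  · have hz2' : z * z = 1 := by
      obtain ⟨j, rfl⟩ := heven
      rw [hz2, ← two_mul, pow_mul, pow_two, hζ2, one_pow]
    have hsq : ∀ g : σ.ker, g * g = 1 := by
      intro g
      refine Subtype.ext ?_
      show g.1 * g.1 = 1
      rcases (hkmem g.1).1 g.2 with hh | hh | hh | hh <;> rw [hh]
      · exact one_mul 1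
      · exact hζ2
      · exact hz2'
      · calc z * ζ * (z * ζ) = z * (ζ * z) * ζ := by group
          _ = z * (z * ζ) * ζ := by rw [hζc z]
          _ = (z * z) * (ζ * ζ) := by group
          _ = 1 := by rw [hz2', hζ2, one_mul]
    have : Nontrivial σ.ker := by
      rw [← Finite.one_lt_card_iff_nontrivial, hcard]; norm_num
    have hexp : Monoid.exponent σ.ker = 2 := by
      refine ((Nat.dvd_prime Nat.prime_two).1
        (Monoid.exponent_dvd_of_forall_pow_eq_one fun g => by rw [pow_two]; exact hsq g)).resolve_left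
        fun hh => ?_
      exact not_subsingleton σ.ker (Monoid.exp_eq_one_iff.1 hh)
    have : IsKleinFour σ.ker := ⟨hcard, hexp⟩
    have hexp' : Monoid.exponent (Multiplicative (ZMod 2 × ZMod 2)) = 2 := by
      refine ((Nat.dvd_prime Nat.prime_two).1 (Monoid.exponent_dvd_of_forall_pow_eq_one (by decide))).resolve_left
        fun hh => ?_
      exact not_subsingleton (Multiplicative (ZMod 2 × ZMod 2)) (Monoid.exp_eq_one_iff.1 hh)
    have : IsKleinFour (Multiplicative (ZMod 2 × ZMod 2)) :=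
      ⟨by simp [Nat.card_congr Multiplicative.toAdd], hexp'⟩
    obtain ⟨ee⟩ := IsKleinFour.nonempty_mulEquiv (G₁ := σ.ker) (G₂ := Multiplicative (ZMod 2 × ZMod 2))
    exact StemBasic.hasSchurMultiplier_of_cover σ hsur hc hperf htriv ee

/-- The minus type of dimension eight has no four dimensional totally singular subspace. -/
theorem noTot4_minus {a b : F} (hab : IsAniso a b) : NoTot4 (withBase 3 (qfBin a b)) := by
  classical
  intro v hli hpol hQv
  set Q₈ := withBase 3 (qfBin a b)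
  set T := Submodule.span F (Set.range v)
  have hT : Module.finrank F T = 4 := by rw [finrank_span_eq_card hli]; simp
  have h1 : ∀ i, ∀ x ∈ T, polar Q₈ (v i) x = 0 := fun i => by
    show T ≤ LinearMap.ker (polarBilin Q₈ (v i))
    rw [Submodule.span_le]
    rintro _ ⟨j, rfl⟩
    exact hpol i j
  have h3 : ∀ y ∈ T, ∀ x ∈ T, polar Q₈ x y = 0 := fun y hy => by
    show T ≤ LinearMap.ker ((polarBilin Q₈).flip y)
    rw [Submodule.span_le]
    rintro _ ⟨j, rfl⟩
    exact h1 j y hy
  have h4 : ∀ x ∈ T, Q₈ x = 0 := fun x hx => by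
    induction hx using Submodule.span_induction with
    | mem x hx => obtain ⟨j, rfl⟩ := hx; exact hQv j
    | zero => exact QuadraticMap.map_zero _
    | add x y hx hy e1 e2 =>
      rw [QuadraticMap.map_add (⇑Q₈), e1, e2, h3 y hy x hx, add_zero, add_zero]
    | smul c x _ e1 => rw [QuadraticMap.map_smul, e1, smul_zero]
  let py : T →ₗ[F] (Fin 3 → F) := LinearMap.pi fun i =>
    ((LinearMap.proj (Sum.inr i)).comp (LinearMap.fst F _ _)).comp T.subtype
  let px : T →ₗ[F] (Fin 3 → F) := LinearMap.pi fun i =>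
    ((LinearMap.proj (Sum.inl i)).comp (LinearMap.fst F _ _)).comp T.subtype
  have hker : ∀ t : T, py t = 0 → (∀ i, t.1.1 (Sum.inr i) = 0) ∧ t.1.2 = 0 := by
    intro t ht
    have hy : ∀ i, t.1.1 (Sum.inr i) = 0 := fun i => congrFun ht i
    refine ⟨hy, eq_zero_of_qfBin hab ?_⟩
    have hq := h4 _ t.2
    rw [← Prod.mk.eta (p := t.1), withBase_apply] at hq
    simpa [quadFormPlus, hy] using hq
  set K := (LinearMap.ker py).map px
  have hK : Module.finrank F K = Module.finrank F (LinearMap.ker py) := by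
    have hinj : Function.Injective (px.comp (LinearMap.ker py).subtype) := by
      rw [injective_iff_map_eq_zero]
      rintro ⟨t, ht⟩ hx
      obtain ⟨hy, hz⟩ := hker t ht
      refine Subtype.ext (Subtype.ext (Prod.ext (funext fun i => ?_) hz))
      rcases i with i | i
      · exact congrFun hx i
      · exact hy i
    rw [← LinearMap.finrank_range_of_inj hinj, LinearMap.range_comp, Submodule.range_subtype]
  have hdot : (LinearMap.range py).map (dotProductEquiv F (Fin 3)).toLinearMap ≤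
      K.dualAnnihilator := by
    rintro _ ⟨_, ⟨s, rfl⟩, rfl⟩
    rw [Submodule.mem_dualAnnihilator]
    rintro _ ⟨t, ht, rfl⟩
    obtain ⟨hy, hz⟩ := hker t ht
    show py s ⬝ᵥ px t = 0
    have hp := h3 s.1 s.2 t.1 t.2
    rw [QuadraticMap.polar, ← Prod.mk.eta (p := t.1 + s.1), ← Prod.mk.eta (p := t.1),
      ← Prod.mk.eta (p := s.1), withBase_apply, withBase_apply, withBase_apply] at hp
    simp [quadFormPlus, Fin.sum_univ_three, hy, hz] at hp
    simp [py, px, dotProduct, Fin.sum_univ_three]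
    linear_combination hp
  have hb1 := Submodule.finrank_mono hdot
  rw [LinearEquiv.finrank_map_eq] at hb1
  have hb2 := Subspace.finrank_add_finrank_dualAnnihilator_eq K
  have hb3 := LinearMap.finrank_range_add_finrank_ker py
  simp at hb2
  omega

/-! ### Arithmetic -/

theorem two_eq_zero_of_even {F : Type u} [Field F] [Fintype F] (hev : Even (Fintype.card F)) : (2 : F) = 0 := by
  by_contra h
  have := OrthUnitaryOmega.card_mod_two h
  rw [Nat.even_iff] at hev
  omega

theorem gcd_four_of_even {q k : ℕ} (hev : Even q) (hk : k ≠ 0) (x : ℕ) (hx : x = q ^ k - 1 ∨ x = q ^ k + 1)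
    (hq : 0 < q := by omega) : Nat.gcd 4 x = 1 := by
  have h2 : Even (q ^ k) := Nat.even_pow.2 ⟨hev, hk⟩
  have hp : 0 < q ^ k := pow_pos hq k
  rw [Nat.even_iff] at h2
  rw [Nat.gcd_rec]
  have : x % 4 = 1 ∨ x % 4 = 3 := by omega
  rcases this with h | h <;> rw [h] <;> rfl

theorem gcd_two_of_even {q k : ℕ} (hev : Even q) (hk : k ≠ 0) (hq : 0 < q := by omega) :
    Nat.gcd 2 (q ^ k - 1) = 1 := by
  have h2 : Even (q ^ k) := Nat.even_pow.2 ⟨hev, hk⟩
  have hp : 0 < q ^ k := pow_pos hq k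
  rw [Nat.even_iff] at h2
  rw [Nat.gcd_rec]
  have : (q ^ k - 1) % 2 = 1 := by omega
  rw [this]; rfl

theorem gcd_two_of_odd {x : ℕ} (h : x % 4 = 1) : Nat.gcd 2 (x - 1) = 2 :=
  Nat.gcd_eq_left (by omega)

theorem pow_even_mod_four {q k : ℕ} (hodd : Odd q) (hk : Even k) : q ^ k % 4 = 1 := by
  obtain ⟨j, rfl⟩ := hk
  rw [← two_mul, pow_mul, Nat.pow_mod]
  have : q ^ 2 % 4 = 1 := by
    rw [Nat.pow_mod]
    rcases Nat.odd_mod_four_iff.1 (Nat.odd_iff.1 hodd) with h | h <;> rw [h]
  rw [this, one_pow, Nat.one_mod]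

theorem gcd_four_sub {q : ℕ} (hodd : Odd q) (k : ℕ) :
    (q ^ k % 4 = 1 → Nat.gcd 4 (q ^ k - 1) = 4) ∧ (¬ q ^ k % 4 = 1 → Nat.gcd 4 (q ^ k - 1) = 2) := by
  have h2 := Nat.odd_iff.1 (hodd.pow (n := k))
  refine ⟨fun h => Nat.gcd_eq_left (by omega), fun h => ?_⟩
  rw [Nat.gcd_rec, show (q ^ k - 1) % 4 = 2 by omega]; rfl

theorem gcd_four_add {q : ℕ} (hodd : Odd q) (k : ℕ) :
    (q ^ k % 4 = 3 → Nat.gcd 4 (q ^ k + 1) = 4) ∧ (¬ q ^ k % 4 = 3 → Nat.gcd 4 (q ^ k + 1) = 2) := by
  have h2 := Nat.odd_iff.1 (hodd.pow (n := k))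
  refine ⟨fun h => Nat.gcd_eq_left (by omega), fun h => ?_⟩
  rw [Nat.gcd_rec, show (q ^ k + 1) % 4 = 2 by omega]; rfl

end Cfsg.Agent.OrthStemMult
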