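import Mathlib
import Cfsg.Agent.Lib.OrthStemMult
import Cfsg.Agent.Lib.SchurMultiplierBasic

/-!
Perfect central extensions of `Ω₇(3)` have a cyclic kernel of order dividing six: one defect of order
three between the lifts of a root element and of a short Siegel transformation, and a kernel of order
at most two once it is divided out.
-/

set_option autoImplicit false

namespace Cfsg.Agent.O73Bound60

open QuadraticMap
open Cfsg.Agent.OrthUnitaryQuad Cfsg.Agent.OrthUnitaryRefl Cfsg.Agent.OrthUnitaryOmega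
open Cfsg.Agent.OrthUnitaryForms Cfsg.Agent.OrthUnitaryCentre
open Cfsg.Agent.OrthStemGeom Cfsg.Agent.OrthStemLifts Cfsg.Agent.OrthStemSys
open scoped commutatorElement

universe u

variable {F : Type u} [Field F] {V : Type u} [AddCommGroup V] [Module F V] {Q : QuadraticForm F V}

/-- The vectors of a frame as one family. -/
def fb (p : Fin 6 → V) (x : V) : Fin 7 → V := ![p 0, p 1, p 2, p 3, p 4, p 5, x]

/-- The Gram matrix of a frame. -/
def Mc (r : F) : Matrix (Fin 7) (Fin 7) F :=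
  !![0, 0, 0, 1, 0, 0, 0; 0, 0, 0, 0, 1, 0, 0; 0, 0, 0, 0, 0, 1, 0; 1, 0, 0, 0, 0, 0, 0;
     0, 1, 0, 0, 0, 0, 0; 0, 0, 1, 0, 0, 0, 0; 0, 0, 0, 0, 0, 0, 2 * r]

theorem polar_fb {p : Fin 6 → V} {x : V} (h : HypFrame Q p x) (i j : Fin 7) :
    polar Q (fb p x i) (fb p x j) = Mc (Q x) i j := by
  have hs : ∀ i, polar Q (p i) (p i) = 0 := fun i => by rw [polar_self_mul, h.hQ, mul_zero]
  have hx : ∀ i, polar Q x (p i) = 0 := fun i => by rw [polar_comm, h.perp]
  fin_cases i <;> fin_cases j <;>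
    simp [fb, Mc, hs, hx, h.perp, h.dual, polar_self_mul]

theorem linearIndependent_fb (h2 : (2 : F) ≠ 0) {p : Fin 6 → V} {x : V} (h : HypFrame Q p x) (hx : Q x ≠ 0) :
    LinearIndependent F (fb p x) := by
  rw [Fintype.linearIndependent_iff]
  intro c hc
  have key : ∀ k, ∑ i, c i * Mc (Q x) k i = 0 := by
    intro k
    have e := congrArg (polarBilin Q (fb p x k)) hc
    rw [map_sum, map_zero] at e
    simpa [polarBilin_apply_apply, polar_smul_right, polar_fb h] using e
  have k0 := key 0; have k1 := key 1; have k2 := key 2; have k3 := key 3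
  have k4 := key 4; have k5 := key 5; have k6 := key 6
  simp [Mc, Fin.sum_univ_seven, h2, hx] at k0 k1 k2 k3 k4 k5 k6
  intro i
  fin_cases i <;> assumption

theorem three_cases [Fintype F] (hF : Fintype.card F = 3) (a : F) : a = 0 ∨ a = 1 ∨ a = -1 := by
  by_cases ha : a = 0
  · exact Or.inl ha
  · exact Or.inr (sq_eq_one_iff.1 (by simpa [hF] using FiniteField.pow_card_sub_one_eq_one a ha))

theorem three_zero [Fintype F] (hF : Fintype.card F = 3) : (3 : F) = 0 := by
  haveI : Fact (Nat.Prime 3) := ⟨Nat.prime_three⟩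
  haveI : CharP F 3 := charP_of_card_eq_prime hF
  simpa using CharP.cast_eq_zero F 3

theorem two_ne [Fintype F] (hF : Fintype.card F = 3) : (2 : F) ≠ 0 := fun e =>
  one_ne_zero (show (1 : F) = 0 by linear_combination three_zero hF - e)

variable [Fintype F] [FiniteDimensional F V]

theorem exists_isometry (hF : Fintype.card F = 3) (hd : Module.finrank F V = 7) {p q : Fin 6 → V} {x y : V}
    (hp : HypFrame Q p x) (hq : HypFrame Q q y) (hx : Q x ≠ 0) (hy : Q y ≠ 0) :
    ∃ g : orth Q, (∀ i, g.1 (p i) = q i) ∧ g.1 x = y := by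
  have h2 := two_ne hF
  let B1 := basisOfLinearIndependentOfCardEqFinrank (linearIndependent_fb h2 hp hx) (by simp [hd])
  let B2 := basisOfLinearIndependentOfCardEqFinrank (linearIndependent_fb h2 hq hy) (by simp [hd])
  have hB1 : ∀ i, B1 i = fb p x i := fun i => by simp [B1]
  have hB2 : ∀ i, B2 i = fb q y i := fun i => by simp [B2]
  -- the discriminant
  have hr : Q x = Q y := by
    let P : Matrix (Fin 7) (Fin 7) F := Matrix.of fun k i => B1.repr (fb q y i) k
    have hsum : ∀ i, fb q y i = ∑ k, P k i • fb p x k := fun i => by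
      conv_lhs => rw [← B1.sum_repr (fb q y i)]
      simp [P, hB1]
    have hM : Mc (Q y) = P.transpose * Mc (Q x) * P := by
      ext i j
      rw [← polar_fb hq, ← polarBilin_apply_apply, hsum i, hsum j]
      simp only [map_sum, map_smul, LinearMap.sum_apply, LinearMap.smul_apply, polarBilin_apply_apply,
        smul_eq_mul, polar_fb hp, Matrix.mul_apply, Matrix.transpose_apply, Finset.sum_mul, Finset.mul_sum]
      refine Finset.sum_congr rfl fun k _ => Finset.sum_congr rfl fun l _ => ?_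
      ring
    have hdiag : ∀ r : F, Mc r = Mc 1 * Matrix.diagonal ![1, 1, 1, 1, 1, 1, r] := fun r => by
      ext i j
      rw [Matrix.mul_diagonal]
      fin_cases i <;> fin_cases j <;> simp [Mc]
    have hdet : ∀ r : F, (Mc r).det = (Mc 1).det * r := fun r => by
      rw [hdiag r, Matrix.det_mul, Matrix.det_diagonal]
      simp [Fin.prod_univ_seven]
    have hsq : Mc (1 : F) * Mc 1 = Matrix.diagonal ![1, 1, 1, 1, 1, 1, (2 : F) * 2] := by
      ext i j
      fin_cases i <;> fin_cases j <;> simp [Mc, Matrix.mul_apply, Fin.sum_univ_seven]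
    have hD : (Mc (1 : F)).det ≠ 0 := by
      intro e
      have := congrArg Matrix.det hsq
      rw [Matrix.det_mul, e, Matrix.det_diagonal] at this
      simp [Fin.prod_univ_seven, h2] at this
    have e := congrArg Matrix.det hM
    rw [Matrix.det_mul, Matrix.det_mul, Matrix.det_transpose, hdet (Q y), hdet (Q x)] at e
    have e' : Q y = P.det * P.det * Q x := mul_left_cancel₀ hD (by rw [e]; ring)
    rcases three_cases hF P.det with h | h | h <;> rw [h] at e'
    · rw [zero_mul, zero_mul] at e'; exact absurd e' hy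
    · rw [e']; ring
    · rw [e']; ring
  let g := B1.equiv B2 (Equiv.refl _)
  have hg : ∀ i, g (fb p x i) = fb q y i := fun i => by
    rw [← hB1, ← hB2]; simp [g]
  have hpol : (polarBilin Q).compl₁₂ (g : V →ₗ[F] V) (g : V →ₗ[F] V) = polarBilin Q :=
    LinearMap.ext_basis B1 B1 fun i j => by
      simp only [LinearMap.compl₁₂_apply, LinearEquiv.coe_coe, polarBilin_apply_apply, hB1, hg]
      rw [polar_fb hp, polar_fb hq, hr]
  have hiso : g ∈ orth Q := fun v => by
    have e := congrArg (fun B : LinearMap.BilinMap F V F => B v v) hpol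
    simp only [LinearMap.compl₁₂_apply, LinearEquiv.coe_coe, polarBilin_apply_apply, polar_self_mul] at e
    exact mul_left_cancel₀ h2 e
  refine ⟨⟨g, hiso⟩, fun i => ?_, hg 6⟩
  fin_cases i
  exacts [hg 0, hg 1, hg 2, hg 3, hg 4, hg 5]

theorem detHom_negOne (hd : Module.finrank F V = 7) : detHom Q (negOne Q) = -1 := by
  apply Units.ext
  show ((LinearEquiv.det (negOne Q).1 : Fˣ) : F) = _
  rw [LinearEquiv.coe_det]
  have : ((negOne Q).1 : V →ₗ[F] V) = (-1 : F) • LinearMap.id := by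
    apply LinearMap.ext
    intro v
    show -v = (-1 : F) • v
    rw [neg_one_smul]
  rw [this, LinearMap.det_smul, LinearMap.det_id, hd]
  norm_num

/-- Every isometry is corrected into the commutator subgroup by a sign change of a frame. -/
theorem exists_fix [Finite V] (hF : Fintype.card F = 3) (hd : Module.finrank F V = 7)
    (hnd : (polarBilin Q).Nondegenerate) {p : Fin 6 → V} {x : V} (hp : HypFrame Q p x) (g : orth Q) :
    ∃ (s t : F) (h : orth Q), (s = 1 ∨ s = -1) ∧ (t = 1 ∨ t = -1) ∧ g * h ∈ commutator (orth Q) ∧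
      h.1 (p 0) = (s * t) • p 0 ∧ h.1 (p 1) = t • p 1 ∧ h.1 (p 2) = t • p 2 ∧ h.1 x = t • x := by
  have h2 := two_ne hF
  have hs : ∀ i, polar Q (p i) (p i) = 0 := fun i => by rw [polar_self_mul, hp.hQ, mul_zero]
  have h03 : polar Q (p 0) (p 3) = 1 := by rw [hp.dual 0 3 (by decide)]; rfl
  have hQ1 : Q (p 0 + p 3) = 1 := by
    rw [QuadraticMap.map_add (⇑Q), hp.hQ, hp.hQ, h03]; ring
  have hQ2 : Q (p 0 - p 3) = -1 := by
    rw [sub_eq_add_neg, QuadraticMap.map_add (⇑Q), QuadraticMap.map_neg, hp.hQ, hp.hQ, polar_neg_right, h03]; ring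
  have n1 : Q (p 0 + p 3) ≠ 0 := by rw [hQ1]; exact one_ne_zero
  have n2 : Q (p 0 - p 3) ≠ 0 := by rw [hQ2]; exact neg_ne_zero.2 one_ne_zero
  set D := refl Q (p 0 + p 3) n1 * refl Q (p 0 - p 3) n2
  have hns : ¬ IsSquare (-1 : F) := by
    rintro ⟨a, ha⟩
    rcases three_cases hF a with h | h | h <;> rw [h] at ha
    · exact one_ne_zero (show (1 : F) = 0 by linear_combination -ha)
    · exact h2 (by linear_combination -ha)
    · exact h2 (by linear_combination -ha)
  have dD : detHom Q D = 1 := by rw [map_mul, detHom_refl, detHom_refl, neg_mul_neg, one_mul]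
  have tD : theta Q D = -1 := by
    rw [map_mul, theta_refl h2, theta_refl h2, hQ1, hQ2, if_pos (IsSquare.one), if_neg hns]; rfl
  have D0 : D.1 (p 0) = -p 0 := by
    have s1 : (refl Q (p 0 - p 3) n2).1 (p 0) = p 3 := by
      rw [refl_apply, hQ2, polar_sub_left, hs, polar_comm Q (p 3) (p 0), h03,
        show ((-1 : F)⁻¹ * (0 - 1)) = 1 by norm_num, one_smul, sub_sub_cancel]
    rw [orth_mul_apply, s1, refl_apply, hQ1, polar_add_left, hs, h03,
      show ((1 : F)⁻¹ * (1 + 0)) = 1 by norm_num, one_smul]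
    abel
  have Dfix : ∀ v, polar Q (p 0) v = 0 → polar Q (p 3) v = 0 → D.1 v = v := fun v a b => by
    rw [orth_mul_apply, refl_apply Q (p 0 - p 3), polar_sub_left, a, b, sub_zero, mul_zero, zero_smul, sub_zero,
      refl_apply, polar_add_left, a, b, add_zero, mul_zero, zero_smul, sub_zero]
  have D1 : D.1 (p 1) = p 1 := Dfix _ (by rw [hp.dual 0 1 (by decide)]; rfl) (by rw [hp.dual 3 1 (by decide)]; rfl)
  have D2 : D.1 (p 2) = p 2 := Dfix _ (by rw [hp.dual 0 2 (by decide)]; rfl) (by rw [hp.dual 3 2 (by decide)]; rfl)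
  have Dx : D.1 x = x := Dfix _ (hp.perp 0) (hp.perp 3)
  have hcrit := (odd_main h2 (isReg_of_nondegenerate hnd)).1
  have hdg : detHom Q g = 1 ∨ detHom Q g = -1 := by
    rcases three_cases hF (detHom Q g : Fˣ).val with h | h | h
    · exact absurd h (detHom Q g).ne_zero
    · exact Or.inl (Units.ext h)
    · exact Or.inr (Units.ext (by rw [h]; rfl))
  have t0 := Int.units_eq_one_or (theta Q (negOne Q))
  have d0 := detHom_negOne (Q := Q) hd
  rcases hdg with hg | hg <;> rcases Int.units_eq_one_or (theta Q g) with hg' | hg'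
  · exact ⟨1, 1, 1, Or.inl rfl, Or.inl rfl, (hcrit _).2 ⟨by simp [hg], by simp [hg']⟩, by simp, by simp, by simp, by simp⟩
  · refine ⟨-1, 1, D, Or.inr rfl, Or.inl rfl, (hcrit _).2 ⟨by simp [hg, dD], by simp [hg', tD]⟩, ?_, ?_, ?_, ?_⟩ <;>
      simp [D0, D1, D2, Dx]
  · rcases t0 with t0 | t0
    · refine ⟨1, -1, negOne Q, Or.inl rfl, Or.inr rfl, (hcrit _).2 ⟨by simp [hg, d0], by simp [hg', t0]⟩, ?_, ?_, ?_, ?_⟩ <;>
        simp [negOne_apply]
    · refine ⟨-1, -1, negOne Q * D, Or.inr rfl, Or.inr rfl,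
        (hcrit _).2 ⟨by simp [hg, d0, dD], by simp [hg', t0, tD]⟩, ?_, ?_, ?_, ?_⟩ <;>
        simp [orth_mul_apply, negOne_apply, D0, D1, D2, Dx]
  · rcases t0 with t0 | t0
    · refine ⟨-1, -1, negOne Q * D, Or.inr rfl, Or.inr rfl,
        (hcrit _).2 ⟨by simp [hg, d0, dD], by simp [hg', t0, tD]⟩, ?_, ?_, ?_, ?_⟩ <;>
        simp [orth_mul_apply, negOne_apply, D0, D1, D2, Dx]
    · refine ⟨1, -1, negOne Q, Or.inl rfl, Or.inr rfl, (hcrit _).2 ⟨by simp [hg, d0], by simp [hg', t0]⟩, ?_, ?_, ?_, ?_⟩ <;>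
        simp [negOne_apply]

variable {Δ : Type u} [Group Δ] {κ : Δ →* orth Q}

theorem frame_commute {p : Fin 6 → V} {x : V} (hp : HypFrame Q p x) :
    Commute (S Q (p 0) (p 1)) (S Q (p 2) x) :=
  commute_of_fix (hp.hQ 2) (hp.perp 2) (by rw [hp.dual 2 0 (by decide)]; rfl)
    (by rw [hp.dual 2 1 (by decide)]; rfl) (by rw [polar_comm, hp.perp]) (by rw [polar_comm, hp.perp])

theorem bracket_rel [Finite V] (hF : Fintype.card F = 3) (hd : Module.finrank F V = 7)
    (hnd : (polarBilin Q).Nondegenerate) (hc : κ.ker ≤ Subgroup.center Δ) (hr : commutator (orth Q) ≤ κ.range)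
    {p q : Fin 6 → V} {x y : V} (hp : HypFrame Q p x) (hq : HypFrame Q q y) (hx : Q x ≠ 0) (hy : Q y ≠ 0)
    {δ δ' ε ε' : Δ} (h1 : κ δ = S Q (p 0) (p 1)) (h2 : κ δ' = S Q (p 2) x)
    (h3 : κ ε = S Q (q 0) (q 1)) (h4 : κ ε' = S Q (q 2) y) : ⁅ε, ε'⁆ ∈ Subgroup.zpowers ⁅δ, δ'⁆ := by
  obtain ⟨g, hg, hgx⟩ := exists_isometry hF hd hp hq hx hy
  obtain ⟨s, t, h, hs, ht, hmem, e0, e1, e2, ex⟩ := exists_fix hF hd hnd hp g
  obtain ⟨k, hk⟩ := hr hmem
  have ht2 : t * t = 1 := by rcases ht with rfl | rfl <;> ring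
  have hs2 : s * s = 1 := by rcases hs with rfl | rfl <;> ring
  have q01 : polar Q (q 0) (q 1) = 0 := by rw [hq.dual 0 1 (by decide)]; rfl
  have ia : κ (k * δ * k⁻¹) = S Q (q 0) (s • q 1) := by
    rw [map_mul, map_mul, map_inv, h1, hk, S_conj, orth_mul_apply, orth_mul_apply, e0, e1, map_smul, map_smul,
      hg, hg, S_smul (hq.hQ 0) (by rw [polar_smul_right, q01, smul_zero]), smul_smul,
      show s * t * t = s by rw [mul_assoc, ht2, mul_one]]
  have ib : κ (k * δ' * k⁻¹) = κ ε' := by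
    rw [map_mul, map_mul, map_inv, h2, hk, S_conj, orth_mul_apply, orth_mul_apply, e2, ex, map_smul, map_smul,
      hg, hgx, S_smul (hq.hQ 2) (by rw [polar_smul_right, hq.perp, smul_zero]), smul_smul, ht2, one_smul, h4]
  have hcm : Commute (κ δ) (κ δ') := by rw [h1, h2]; exact frame_commute hp
  rcases hs with rfl | rfl
  · have := StemPairing.bracket_conj hc k hcm (a' := ε) (b' := ε') (by rw [ia, one_smul, h3]) ib
    rw [this]; exact Subgroup.mem_zpowers _
  · have hinv : κ (k * δ * k⁻¹) = κ ε⁻¹ := by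
      rw [ia, map_inv, h3, neg_one_smul, S_inv (hq.hQ 0) q01]
    have e := StemPairing.bracket_conj hc k hcm (a' := ε⁻¹) (b' := ε') hinv ib
    have hce : Commute (κ ε) (κ ε') := by rw [h3, h4]; exact frame_commute hq
    have := StemPairing.bracket_mul_left (σ := κ) hc (a := ε⁻¹) (a' := ε) (b := ε') hce
    rw [inv_mul_cancel, commutatorElement_one_left, e] at this
    rw [eq_inv_of_mul_eq_one_right this.symm]
    exact inv_mem (Subgroup.mem_zpowers _)

/-- The kernel is cyclic of order dividing six. -/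
theorem upper (hF : Fintype.card F = 3) (hd : Module.finrank F V = 7) (hnd : (polarBilin Q).Nondegenerate)
    [Finite Δ] (hc : κ.ker ≤ Subgroup.center Δ) (hr : commutator (orth Q) ≤ κ.range)
    (hperf : commutator Δ = ⊤) :
    ∃ π : Multiplicative (ZMod 6) →* κ.ker, Function.Surjective π := by
  classical
  haveI : Finite V := Module.finite_of_finite F
  have h2 := two_ne hF
  -- the defect
  obtain ⟨c, hc1, hc3, hall⟩ : ∃ c : Δ, κ c = 1 ∧ c ^ 3 = 1 ∧ ∀ (p : Fin 6 → V) (x : V), HypFrame Q p x →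
      Q x ≠ 0 → ∀ δ δ' : Δ, κ δ = S Q (p 0) (p 1) → κ δ' = S Q (p 2) x → ⁅δ, δ'⁆ ∈ Subgroup.zpowers c := by
    by_cases hex : ∃ (p : Fin 6 → V) (x : V) (δ δ' : Δ), HypFrame Q p x ∧ Q x ≠ 0 ∧
        κ δ = S Q (p 0) (p 1) ∧ κ δ' = S Q (p 2) x
    · obtain ⟨p, x, δ, δ', hp, hx, h1, h1'⟩ := hex
      have hcm : Commute (κ δ) (κ δ') := by rw [h1, h1']; exact frame_commute hp
      refine ⟨⁅δ, δ'⁆, StemPairing.bracket_mem_ker hcm, ?_, fun q y hq hy ε ε' g1 g2 =>
        bracket_rel hF hd hnd hc hr hp hq hx hy h1 h1' g1 g2⟩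
      have e3 : κ (δ' * δ' * δ') = κ 1 := by
        rw [map_mul, map_mul, map_one, h1', S_mul (hp.hQ 2) (hp.perp 2) (hp.perp 2),
          S_mul (hp.hQ 2) (by rw [polar_add_right, hp.perp, add_zero]) (hp.perp 2),
          show x + x + x = (3 : F) • x by module, three_zero hF, zero_smul, S_zero]
      have hcc : Commute (κ δ) (κ (δ' * δ')) := by rw [map_mul]; exact hcm.mul_right hcm
      calc ⁅δ, δ'⁆ ^ 3 = ⁅δ, δ' * δ' * δ'⁆ := by
            rw [StemPairing.bracket_mul_right hc hcm, StemPairing.bracket_mul_right hc hcm, pow_succ, _root_.sq]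
        _ = 1 := by rw [StemPairing.bracket_congr hc (a := δ) (a' := δ) rfl e3, commutatorElement_one_right]
    · exact ⟨1, map_one κ, one_pow 3, fun p x hp hx δ δ' a b => absurd ⟨p, x, δ, δ', hp, hx, a, b⟩ hex⟩
  set Z := Subgroup.zpowers c
  have hZk : Z ≤ κ.ker := Subgroup.zpowers_le.2 hc1
  haveI : Z.Normal := ⟨fun n hn g => by
    rw [StemBasic.ker_comm hc (hZk hn) g, mul_inv_cancel_right]; exact hn⟩
  let κ' : Δ ⧸ Z →* orth Q := QuotientGroup.lift Z κ hZk
  have hc' : κ'.ker ≤ Subgroup.center (Δ ⧸ Z) := by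
    intro w hw
    obtain ⟨z, rfl⟩ := QuotientGroup.mk_surjective w
    refine Subgroup.mem_center_iff.2 fun v => ?_
    obtain ⟨y, rfl⟩ := QuotientGroup.mk_surjective v
    exact congrArg QuotientGroup.mk (StemBasic.ker_comm hc hw y)
  have hr' : commutator (orth Q) ≤ κ'.range := fun g hg => by
    obtain ⟨z, hz⟩ := hr hg
    exact ⟨QuotientGroup.mk z, hz⟩
  have hperf' : commutator (Δ ⧸ Z) = ⊤ := by
    rw [_root_.commutator_def, ← Subgroup.map_top_of_surjective _ (QuotientGroup.mk'_surjective Z),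
      ← Subgroup.map_commutator, ← _root_.commutator_def, hperf]
  have hcom : ∀ (p : Fin 6 → V) (x : V), HypFrame Q p x → Q x ≠ 0 → ∀ w w' : Δ ⧸ Z,
      κ' w = S Q (p 0) (p 1) → κ' w' = S Q (p 2) x → Commute w w' := by
    intro p x hp hx w w' hw hw'
    obtain ⟨δ, rfl⟩ := QuotientGroup.mk_surjective w
    obtain ⟨δ', rfl⟩ := QuotientGroup.mk_surjective w'
    rw [← commutatorElement_eq_one_iff_commute]
    have : ⁅QuotientGroup.mk' Z δ, QuotientGroup.mk' Z δ'⁆ = 1 := by
      rw [← map_commutatorElement]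
      exact (QuotientGroup.eq_one_iff _).2 (hall p x hp hx δ δ' hw hw')
    exact this
  let E : Ext Q (Δ ⧸ Z) :=
    { τ := κ', nd := hnd, dim := hd.ge, central := hc', range := hr',
      small := Or.inr (Or.inr (Or.inr ⟨hd, hcom⟩)) }
  have hle : Nat.card κ'.ker ≤ 2 :=
    OrthStemOdd.card_ker_le_two h2 (OrthStemLambda.sysOf E hperf') hnd hd.ge
  -- assemble
  let r : κ.ker →* κ'.ker :=
    { toFun := fun z => ⟨QuotientGroup.mk z.1, z.2⟩, map_one' := rfl, map_mul' := fun _ _ => rfl }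
  have hrs : Function.Surjective r := by
    rintro ⟨w, hw⟩
    obtain ⟨z, rfl⟩ := QuotientGroup.mk_surjective w
    exact ⟨⟨z, hw⟩, rfl⟩
  set cc : κ.ker := ⟨c, hc1⟩
  have hrk : r.ker = Subgroup.zpowers cc := by
    ext z
    rw [MonoidHom.mem_ker, Subgroup.mem_zpowers_iff]
    constructor
    · intro h
      obtain ⟨k, hk⟩ := (QuotientGroup.eq_one_iff _).1 (congrArg Subtype.val h : (QuotientGroup.mk z.1 : Δ ⧸ Z) = 1)
      exact ⟨k, Subtype.ext (by simpa [cc] using hk)⟩
    · rintro ⟨k, rfl⟩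
      exact Subtype.ext ((QuotientGroup.eq_one_iff _).2 ⟨k, by simp [cc]⟩)
  have hdvd : Nat.card κ.ker ∣ 6 := by
    have e := Subgroup.card_eq_card_quotient_mul_card_subgroup r.ker
    rw [Nat.card_congr (QuotientGroup.quotientKerEquivOfSurjective r hrs).toEquiv, hrk, Nat.card_zpowers] at e
    rw [e, show (6 : ℕ) = 2 * 3 from rfl]
    refine Nat.mul_dvd_mul ?_ (orderOf_dvd_of_pow_eq_one (Subtype.ext (by simpa [cc] using hc3)))
    have : 0 < Nat.card κ'.ker := Nat.card_pos
    interval_cases h : Nat.card κ'.ker <;> norm_num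
  letI : CommGroup κ.ker :=
    { (inferInstance : Group κ.ker) with
      mul_comm := fun a b => Subtype.ext ((StemBasic.ker_comm hc a.2 b.1).symm) }
  haveI : IsZGroup κ.ker := IsZGroup.of_squarefree
    (Squarefree.squarefree_of_dvd hdvd (by decide +kernel))
  obtain ⟨gen, hgen⟩ := (inferInstance : IsCyclic κ.ker).exists_generator
  refine SchurMultiplierBasic.exists_surjective_zmod 6 gen ?_ hgen
  obtain ⟨m, hm⟩ := hdvd
  rw [hm, pow_mul, pow_card_eq_one', one_pow]

end Cfsg.Agent.O73Bound60
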