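import Mathlib

/-!
A packed encoding of `7 × 7` matrices over the field with three elements by natural numbers, one base
`32` digit per entry, with a multiplication which is fast in the kernel.
-/

set_option autoImplicit false

namespace Cfsg.Agent.O73Code99

open Matrix

abbrev Ix : Type := Unit ⊕ (Fin 3 ⊕ Fin 3)

abbrev M7 : Type := Matrix Ix Ix (ZMod 3)

def eix : Fin 7 ≃ Ix where
  toFun := ![.inl (), .inr (.inl 0), .inr (.inl 1), .inr (.inl 2),
    .inr (.inr 0), .inr (.inr 1), .inr (.inr 2)]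
  invFun := Sum.elim (fun _ => 0) (Sum.elim ![1, 2, 3] ![4, 5, 6])
  left_inv := by decide
  right_inv := by decide

def dig (X q : ℕ) : ℕ := X >>> (5 * q) &&& 31

def ofD (n : ℕ) (f : ℕ → ℕ) : ℕ := ∑ q ∈ Finset.range n, f q * 32 ^ q

theorem ofD_succ (n : ℕ) (f : ℕ → ℕ) :
    ofD (n + 1) f = f 0 + 32 * ofD n (fun q => f (q + 1)) := by
  unfold ofD
  rw [Finset.sum_range_succ', Finset.mul_sum, pow_zero, mul_one, add_comm]
  congr 1
  exact Finset.sum_congr rfl fun q _ => by ring

theorem dig_eq (X q : ℕ) : dig X q = X / 32 ^ q % 32 := by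
  rw [dig, Nat.shiftRight_eq_div_pow, show (31 : ℕ) = 2 ^ 5 - 1 from rfl,
    Nat.and_two_pow_sub_one_eq_mod, pow_mul]
  norm_num

theorem dig_ofD : ∀ (n : ℕ) (f : ℕ → ℕ), (∀ q < n, f q < 32) → ∀ q < n, dig (ofD n f) q = f q := by
  intro n
  induction n with
  | zero => intro f _ q hq; omega
  | succ n ih =>
    intro f hf q hq
    rw [ofD_succ, dig_eq]
    cases q with
    | zero => simp only [pow_zero, Nat.div_one]; have := hf 0 (by omega); omega
    | succ q =>
      have h0 := hf 0 (by omega)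
      rw [pow_succ', ← Nat.div_div_eq_div_mul,
        show (f 0 + 32 * ofD n (fun q => f (q + 1))) / 32 = ofD n (fun q => f (q + 1)) by omega,
        ← dig_eq]
      exact ih _ (fun r hr => hf _ (by omega)) q (by omega)

theorem ofD_lt : ∀ (n : ℕ) (f : ℕ → ℕ), (∀ q < n, f q < 32) → ofD n f < 32 ^ n := by
  intro n
  induction n with
  | zero => intro f _; simp [ofD]
  | succ n ih =>
    intro f hf
    rw [ofD_succ, pow_succ']
    have := ih (fun q => f (q + 1)) (fun q hq => hf _ (by omega))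
    have := hf 0 (by omega)
    omega

theorem ofD_dig : ∀ (n X : ℕ), X < 32 ^ n → ofD n (dig X) = X := by
  intro n
  induction n with
  | zero => intro X hX; simp [ofD] at *; omega
  | succ n ih =>
    intro X hX
    have h := ih (X / 32) (by rw [pow_succ'] at hX; omega)
    rw [ofD_succ]
    have e : (fun q => dig X (q + 1)) = dig (X / 32) := by
      funext q
      rw [dig_eq, dig_eq, Nat.div_div_eq_div_mul, pow_succ']
    rw [e, h, dig_eq]
    simp only [pow_zero, Nat.div_one]
    omega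

theorem ofD_congr {n : ℕ} {f g : ℕ → ℕ} (h : ∀ q < n, f q = g q) : ofD n f = ofD n g :=
  Finset.sum_congr rfl fun q hq => by rw [h q (Finset.mem_range.1 hq)]

theorem ofD_add (n : ℕ) (f g : ℕ → ℕ) : ofD n f + ofD n g = ofD n (fun q => f q + g q) := by
  unfold ofD
  rw [← Finset.sum_add_distrib]
  exact Finset.sum_congr rfl fun q _ => by ring

theorem eq_ofD {n X : ℕ} {g : ℕ → ℕ} (hX : X < 32 ^ n) (h : ∀ q < n, dig X q = g q) :
    X = ofD n g := (ofD_dig n X hX).symm.trans (ofD_congr h)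

theorem dig_and (X Y q : ℕ) : dig (X &&& Y) q = dig X q &&& dig Y q := by
  apply Nat.eq_of_testBit_eq
  intro i
  simp only [dig, Nat.testBit_and, Nat.testBit_shiftRight]
  cases X.testBit (5 * q + i) <;> cases Y.testBit (5 * q + i) <;> simp

theorem dig_shift (X k q : ℕ) : dig (X >>> (5 * k)) q = dig X (k + q) := by
  rw [dig, dig, ← Nat.shiftRight_add, mul_add]

theorem dig_const {n c q : ℕ} (hc : c < 32) (hq : q < n) : dig (ofD n (fun _ => c)) q = c :=
  dig_ofD n _ (fun _ _ => hc) q hq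

def R1 : ℕ := ofD 49 (fun _ => 1)

/-- The constants of the digitwise reduction, as literals. -/
def K1 : ℕ := (32 ^ 49 - 1) / 31

theorem K1_mul (c : ℕ) : c * K1 = ofD 49 (fun _ => c) := by
  have h : K1 = ∑ q ∈ Finset.range 49, 32 ^ q := by decide +kernel
  rw [h, Finset.mul_sum]
  rfl

def step (X : ℕ) : ℕ := (X &&& 3 * K1) + ((X >>> 2) &&& 7 * K1)

def norm (X : ℕ) : ℕ :=
  (fun Y => Y - 3 * (Y &&& (Y >>> 1) &&& K1)) (step (step (step X)))

seal ofD in
theorem step_ofD (f : ℕ → ℕ) (hf : ∀ q < 49, f q < 32) :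
    step (ofD 49 f) = ofD 49 (fun q => (f q &&& 3) + (f q >>> 2)) := by
  rw [step, ← ofD_add, K1_mul, K1_mul]
  have hlt := ofD_lt 49 f hf
  refine congrArg₂ (· + ·) ?_ ?_
  · refine eq_ofD (lt_of_le_of_lt Nat.and_le_left hlt) fun q hq => ?_
    rw [dig_and, dig_ofD 49 f hf q hq, dig_const (by norm_num) hq]
  · refine eq_ofD (lt_of_le_of_lt Nat.and_le_right (ofD_lt _ _ fun _ _ => by norm_num)) fun q hq => ?_
    rw [dig_and, dig_const (by norm_num) hq]
    have h := dig_ofD 49 f hf q hq
    rw [dig] at h ⊢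
    rw [← h, Nat.shiftRight_and_distrib, ← Nat.shiftRight_add, ← Nat.shiftRight_add, add_comm 2,
      Nat.and_assoc, show (31 : ℕ) &&& 7 = 31 >>> 2 from rfl]

theorem step_bound {x : ℕ} (hx : x < 32) : (x &&& 3) + (x >>> 2) < 32 := by
  have h1 : x &&& 3 ≤ 3 := Nat.and_le_right
  rw [Nat.shiftRight_eq_div_pow]
  omega

theorem norm_ofD (f : ℕ → ℕ) (hf : ∀ q < 49, f q ≤ 28) :
    norm (ofD 49 f) = ofD 49 (fun q => f q % 3) := by
  let s : ℕ → ℕ := fun x => (x &&& 3) + (x >>> 2)
  have h0 : ∀ q < 49, f q < 32 := fun q hq => by have := hf q hq; omega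
  have h1 : ∀ q < 49, s (f q) < 32 := fun q hq => step_bound (h0 q hq)
  have h2 : ∀ q < 49, s (s (f q)) < 32 := fun q hq => step_bound (h1 q hq)
  have h3 : ∀ q < 49, s (s (s (f q))) < 32 := fun q hq => step_bound (h2 q hq)
  have key : ∀ x < 29, 3 * (s (s (s x)) &&& (s (s (s x)) >>> 1) &&& 1) ≤ s (s (s x)) ∧
      s (s (s x)) - 3 * (s (s (s x)) &&& (s (s (s x)) >>> 1) &&& 1) = x % 3 := by decide +kernel
  have hstep : step (step (step (ofD 49 f))) = ofD 49 (fun q => s (s (s (f q)))) := by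
    rw [step_ofD f h0, step_ofD _ h1, step_ofD _ h2]
  rw [norm, hstep]
  simp only []
  set g := fun q => s (s (s (f q))) with hg
  have hz : ofD 49 g &&& (ofD 49 g >>> 1) &&& K1 = ofD 49 (fun q => g q &&& (g q >>> 1) &&& 1) := by
    refine eq_ofD (lt_of_le_of_lt (le_trans Nat.and_le_left Nat.and_le_left) (ofD_lt 49 g h3))
      fun q hq => ?_
    rw [← one_mul K1, K1_mul, dig_and, dig_and, dig_const (by norm_num) hq, dig_ofD 49 g h3 q hq]
    have h : dig (ofD 49 g >>> 1) q &&& 1 = (g q >>> 1) &&& 1 := by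
      rw [← dig_ofD 49 g h3 q hq, dig, dig, ← Nat.shiftRight_add, Nat.shiftRight_and_distrib,
        ← Nat.shiftRight_add, add_comm 1, Nat.and_assoc, Nat.and_assoc]
      rfl
    rw [Nat.and_assoc, Nat.and_assoc, h]
  rw [hz]
  have e : ofD 49 (fun q => f q % 3) + ofD 49 (fun q => 3 * (g q &&& (g q >>> 1) &&& 1))
      = ofD 49 g := by
    rw [ofD_add]
    refine ofD_congr fun q hq => ?_
    have := key (f q) (by have := hf q hq; omega)
    simp only [hg]
    omega
  have e3 : ofD 49 (fun q => 3 * (g q &&& (g q >>> 1) &&& 1))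
      = 3 * ofD 49 (fun q => g q &&& (g q >>> 1) &&& 1) := by
    unfold ofD
    rw [Finset.mul_sum]
    exact Finset.sum_congr rfl fun q _ => by ring
  omega

def colMask : ℕ := 31 * ∑ i ∈ Finset.range 7, 32 ^ (7 * i)

def COL : ℕ := 31 * ((32 ^ 49 - 1) / (32 ^ 7 - 1))

theorem COL_eq : COL = ofD 49 (fun q => if q % 7 = 0 then 31 else 0) := by decide +kernel

/-- The term of the product belonging to the inner index `k`. -/
def term (X Y k : ℕ) : ℕ := ((X >>> (5 * k)) &&& COL) * ((Y >>> (5 * (7 * k))) &&& (32 ^ 7 - 1))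

/-- The product of encoded matrices. -/
def mul (X Y : ℕ) : ℕ :=
  norm (term X Y 0 + term X Y 1 + term X Y 2 + term X Y 3 + term X Y 4 + term X Y 5 + term X Y 6)

def ent (A : M7) (i j : ℕ) : ℕ := (A (eix (Fin.ofNat 7 i)) (eix (Fin.ofNat 7 j))).val

theorem ent_le (A : M7) (i j : ℕ) : ent A i j ≤ 2 := by
  have := ZMod.val_lt (A (eix (Fin.ofNat 7 i)) (eix (Fin.ofNat 7 j)))
  unfold ent
  omega

/-- The code of a matrix. -/
def enc (A : M7) : ℕ := ofD 49 (fun q => ent A (q / 7) (q % 7))

theorem dig_enc (A : M7) {q : ℕ} (hq : q < 49) : dig (enc A) q = ent A (q / 7) (q % 7) :=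
  dig_ofD 49 _ (fun q _ => by have := ent_le A (q / 7) (q % 7); omega) q hq

theorem enc_inj : Function.Injective enc := by
  intro A B h
  funext x y
  obtain ⟨i, rfl⟩ := eix.surjective x
  obtain ⟨j, rfl⟩ := eix.surjective y
  have hq : 7 * i.val + j.val < 49 := by omega
  have := congrArg (fun X => dig X (7 * i.val + j.val)) h
  simp only [dig_enc _ hq, ent] at this
  rw [show (7 * i.val + j.val) / 7 = i.val by omega,
    show (7 * i.val + j.val) % 7 = j.val by omega, Fin.ofNat_eq_cast, Fin.ofNat_eq_cast,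
    Fin.cast_val_eq_self, Fin.cast_val_eq_self] at this
  exact ZMod.val_injective _ this

theorem ofD_sum {α : Type*} (s : Finset α) (n : ℕ) (f : α → ℕ → ℕ) :
    ∑ a ∈ s, ofD n (f a) = ofD n (fun q => ∑ a ∈ s, f a q) := by
  unfold ofD
  rw [Finset.sum_comm]
  exact Finset.sum_congr rfl fun q _ => by rw [Finset.sum_mul]

theorem term_eq (A B : M7) {k : ℕ} (hk : k < 7) :
    term (enc A) (enc B) k = ofD 49 (fun q => ent A (q / 7) k * ent B k (q % 7)) := by
  have hA : (enc A >>> (5 * k)) &&& COL =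
      ofD 49 (fun q => if q % 7 = 0 then ent A (q / 7) k else 0) := by
    refine eq_ofD ?_ fun q hq => ?_
    · refine lt_of_le_of_lt Nat.and_le_right ?_
      rw [COL_eq]
      exact ofD_lt _ _ fun q _ => by split_ifs <;> norm_num
    rw [dig_and, COL_eq, dig_ofD 49 _ (fun q _ => by split_ifs <;> norm_num) q hq, dig_shift]
    split_ifs with h
    · rw [dig_enc A (by omega), show (k + q) / 7 = q / 7 by omega,
        show (k + q) % 7 = k by omega]
      have := ent_le A (q / 7) k
      generalize ent A (q / 7) k = a at *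
      interval_cases a <;> rfl
    · exact Nat.and_zero _
  have hB : (enc B >>> (5 * (7 * k))) &&& (32 ^ 7 - 1) = ofD 7 (fun q => ent B k q) := by
    have e : (32 : ℕ) ^ 7 - 1 = ofD 7 (fun _ => 31) := by decide +kernel
    rw [e]
    refine eq_ofD (lt_of_le_of_lt Nat.and_le_right (ofD_lt _ _ fun _ _ => by norm_num))
      fun q hq => ?_
    rw [dig_and, dig_const (by norm_num) hq, dig_shift, dig_enc B (by omega),
      show (7 * k + q) / 7 = k by omega, show (7 * k + q) % 7 = q by omega]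
    have := ent_le B k q
    generalize ent B k q = b at *
    interval_cases b <;> rfl
  rw [term, hA, hB]
  simp only [ofD, Finset.sum_range_succ, Finset.sum_range_zero, zero_add]
  norm_num
  ring

theorem val_mul (A B : M7) (i j : ℕ) :
    ent (A * B) i j = (∑ k ∈ Finset.range 7, ent A i k * ent B k j) % 3 := by
  rw [← ZMod.val_natCast (n := 3)]
  unfold ent
  congr 1
  rw [Matrix.mul_apply, ← Equiv.sum_comp eix, Nat.cast_sum, ← Fin.sum_univ_eq_sum_range]
  refine Finset.sum_congr rfl fun k _ => ?_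
  rw [Nat.cast_mul, Fin.ofNat_eq_cast, Fin.ofNat_eq_cast, Fin.ofNat_eq_cast, Fin.cast_val_eq_self,
    ZMod.natCast_zmod_val, ZMod.natCast_zmod_val]

theorem mul_enc (A B : M7) : mul (enc A) (enc B) = enc (A * B) := by
  rw [mul, term_eq A B (by norm_num), term_eq A B (by norm_num), term_eq A B (by norm_num),
    term_eq A B (by norm_num), term_eq A B (by norm_num), term_eq A B (by norm_num),
    term_eq A B (by norm_num)]
  simp only [ofD_add]
  rw [norm_ofD _ (fun q _ => ?_)]
  · refine ofD_congr fun q _ => ?_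
    rw [val_mul]
    simp only [Finset.sum_range_succ, Finset.sum_range_zero, zero_add]
  · have h : ∀ k, ent A (q / 7) k * ent B k (q % 7) ≤ 4 := fun k =>
      Nat.mul_le_mul (ent_le _ _ _) (ent_le _ _ _)
    have := h 0; have := h 1; have := h 2; have := h 3; have := h 4; have := h 5; have := h 6
    omega

end Cfsg.Agent.O73Code99
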