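import Mathlib
import Cfsg.Agent.Lib.O73Code99
import Cfsg.Agent.Lib.O73Data99

/-!
Root elements of the seven dimensional orthogonal group over the field with three elements and their
codes.
-/

set_option autoImplicit false

namespace Cfsg.Agent.O73Roots99

open Matrix
open Cfsg.Agent.O73Code99

def zz : Ix := .inl ()
def xx (i : Fin 3) : Ix := .inr (.inl i)
def yy (i : Fin 3) : Ix := .inr (.inr i)

/-- The root `e i - e j`. -/
def rA (i j : Fin 3) : M7 := 1 + single (xx i) (xx j) 1 + single (yy j) (yy i) (-1)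
/-- The root `e i + e j`. -/
def rB (i j : Fin 3) : M7 := 1 + single (xx i) (yy j) 1 + single (xx j) (yy i) (-1)
/-- The short root `e i`. -/
def rS (i : Fin 3) : M7 :=
  1 + single (xx i) zz 2 + single zz (yy i) (-1) + single (xx i) (yy i) (-1)
/-- The short root `-e i`. -/
def rT (i : Fin 3) : M7 :=
  1 + single (yy i) zz 2 + single zz (xx i) (-1) + single (yy i) (xx i) (-1)

/-- The nine positive roots followed by three negatives of simple ones. -/
def root : ℕ → M7
  | 0 => rA 0 1
  | 1 => rA 1 2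
  | 2 => rA 0 2
  | 3 => rS 0
  | 4 => rS 1
  | 5 => rS 2
  | 6 => rB 0 1
  | 7 => rB 0 2
  | 8 => rB 1 2
  | 9 => rA 1 0
  | 10 => rA 2 1
  | 11 => rT 2
  | _ => 1

def genWords : List (List ℕ) :=
  [[0], [1], [5], [9], [10], [11], [0, 9, 9, 0], [0, 9, 0], [1, 10, 10, 1], [1, 10, 1],
    [5, 11, 11, 5], [5, 11, 5]]

def wordM (w : List ℕ) : M7 := w.foldr (fun r A => root r * A) 1

def gen (k : ℕ) : M7 := wordM (genWords.getD k [])

def I7 : ℕ := 1766847064779991267627557952520097810151971258949098676121831439027142657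

theorem enc_one : enc (1 : M7) = I7 := by decide +kernel

def rootC (r : ℕ) : ℕ := O73Data99.rootCodes.getD r I7

def genC (k : ℕ) : ℕ := O73Data99.genCodes.getD k I7

theorem enc_root_lt : ∀ r : Fin 12, enc (root r.val) = rootC r.val := by decide +kernel

theorem enc_root {r : ℕ} (hr : r < 12) : enc (root r) = rootC r := enc_root_lt ⟨r, hr⟩

theorem enc_gen_lt : ∀ k : Fin 12, enc (gen k.val) = genC k.val := by decide +kernel

theorem enc_gen {k : ℕ} (hk : k < 12) : enc (gen k) = genC k := enc_gen_lt ⟨k, hk⟩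

/-- The product of powers of the last `k` positive roots with exponents the digits of `d`. -/
def suff : ℕ → ℕ → M7
  | 0, _ => 1
  | k + 1, d => root (8 - k) ^ (d / 3 ^ k) * suff k (d % 3 ^ k)

/-- The element with parameter `p`. -/
def prodU (p : ℕ) : M7 := suff 9 p

def powC (X : ℕ) : ℕ → ℕ
  | 0 => I7
  | e + 1 => mul (powC X e) X

theorem enc_pow (A : M7) : ∀ e, powC (enc A) e = enc (A ^ e)
  | 0 => by rw [pow_zero, enc_one]; rfl
  | e + 1 => by rw [powC, enc_pow A e, mul_enc, pow_succ]

def suffC : ℕ → ℕ → ℕ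
  | 0, _ => I7
  | k + 1, d => mul (powC (rootC (8 - k)) (d / 3 ^ k)) (suffC k (d % 3 ^ k))

theorem enc_suff : ∀ k d, suffC k d = enc (suff k d)
  | 0, _ => by rw [suff, enc_one]; rfl
  | k + 1, d => by
    rw [suffC, suff, ← enc_root (by omega : 8 - k < 12), enc_pow, enc_suff k _, mul_enc]

/-! ### The table -/

def entry (p : ℕ) : ℕ :=
  (O73Data99.table.getD (p / 729) 0) >>> (28 * (p % 729)) &&& (2 ^ 28 - 1)

def labOf (e : ℕ) : ℕ := e &&& 7
def genOf (e : ℕ) : ℕ := (e >>> 3) &&& 15
def depOf (e : ℕ) : ℕ := (e >>> 7) &&& 63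
def parOf (e : ℕ) : ℕ := e >>> 13

def sub3 (x y : ℕ) : ℕ := (x + 18 - y) % 3

/-- The parameter of an element of the unitriangular group. -/
def dec (m : ℕ) : ℕ :=
  let E := fun i j => dig m (7 * i + j)
  let a := E 1 2
  let b := E 2 3
  let c := sub3 (E 1 3) (a * b)
  let d0 := sub3 0 (E 0 4)
  let d1 := sub3 0 (E 0 5)
  let d2 := sub3 0 (E 0 6)
  let e0 := sub3 (E 1 5) (a * E 2 5 + c * E 3 5 + d0 * d1)
  let e1 := sub3 (E 1 6) (a * E 2 6 + c * E 3 6 + d0 * d2)
  let e2 := sub3 (E 2 6) (b * E 3 6 + d1 * d2)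
  (((((((a * 3 + b) * 3 + c) * 3 + d0) * 3 + d1) * 3 + d2) * 3 + e0) * 3 + e1) * 3 + e2

/-- The condition on a table entry `e` of the parameter `p` with element code `m`. -/
def edgeOK (p m e : ℕ) : Bool :=
  if e == 0 then (p == 0) || !((mul m (mul m m)) == I7)
  else decide (1 ≤ labOf e ∧ labOf e ≤ 7) &&
    if genOf e == 15 then p == O73Data99.repParams.getD (labOf e - 1) 0
    else decide (genOf e < 12) && (mul m (genC (genOf e)) == mul (genC (genOf e)) (suffC 9 (parOf e))) &&
      decide (parOf e < 19683) && !(entry (parOf e) == 0) &&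
      (labOf (entry (parOf e)) == labOf e) && decide (depOf (entry (parOf e)) < depOf e)

def chk (p m : ℕ) : Bool := (dec m == p) && edgeOK p m (entry p)

/-- Evaluate before use. -/
def force {α : Type} (n : ℕ) (k : ℕ → α) : α :=
  match n with
  | 0 => k 0
  | n + 1 => k (n + 1)

theorem force_eq {α : Type} (n : ℕ) (k : ℕ → α) : force n k = k n := by cases n <;> rfl

def go : ℕ → ℕ → ℕ → Bool
  | 0, p, m => chk p m
  | k + 1, p, m =>
    force (mul m (rootC (8 - k))) fun m1 => force (mul m1 (rootC (8 - k))) fun m2 =>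
      go k (3 * p) m && go k (3 * p + 1) m1 && go k (3 * p + 2) m2

theorem go_sound : ∀ k p (M : M7), k ≤ 9 → go k p (enc M) = true →
    ∀ d < 3 ^ k, chk (p * 3 ^ k + d) (enc (M * suff k d)) = true := by
  intro k
  induction k with
  | zero =>
    intro p M _ h d hd
    obtain rfl : d = 0 := by simp at hd; omega
    simpa [suff, go] using h
  | succ k ih =>
    intro p M hk h d hd
    rw [go, force_eq, force_eq, ← enc_root (by omega : 8 - k < 12), mul_enc, mul_enc,
      Bool.and_eq_true, Bool.and_eq_true] at h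
    obtain ⟨⟨h0, h1⟩, h2⟩ := h
    have hpos : 0 < 3 ^ k := by positivity
    have hq : d / 3 ^ k < 3 := by
      rw [Nat.div_lt_iff_lt_mul hpos]; rw [pow_succ'] at hd; omega
    have hr : d % 3 ^ k < 3 ^ k := Nat.mod_lt _ hpos
    have hd' := Nat.div_add_mod d (3 ^ k)
    rw [suff, ← mul_assoc]
    generalize d / 3 ^ k = t at hq hd' ⊢
    generalize d % 3 ^ k = r at hr hd' ⊢
    subst hd'
    interval_cases t
    · have := ih _ M (by omega) h0 r hr
      rw [pow_zero, mul_one]
      convert this using 2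
      ring
    · have := ih _ _ (by omega) h1 r hr
      rw [pow_one]
      convert this using 2
      ring
    · have := ih _ _ (by omega) h2 r hr
      rw [pow_two, ← mul_assoc]
      convert this using 2
      ring

def pre (c : ℕ) : ℕ :=
  mul (mul (powC (rootC 0) (c / 9)) (powC (rootC 1) (c / 3 % 3))) (powC (rootC 2) (c % 3))

def chunkOK (c : ℕ) : Bool := force (pre c) fun m => go 6 c m

theorem chunk_sound {c : ℕ} (h : chunkOK c = true) : ∀ d < 729,
    chk (c * 729 + d) (enc (prodU (c * 729 + d))) = true := by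
  intro d hd
  rw [chunkOK, force_eq, pre, ← enc_root (by norm_num), ← enc_root (by norm_num),
    ← enc_root (by norm_num), enc_pow, enc_pow, enc_pow, mul_enc, mul_enc] at h
  have := go_sound 6 c _ (by norm_num) h d (by norm_num; omega)
  norm_num at this ⊢
  convert this using 3
  rw [prodU, suff, suff, suff]
  norm_num
  rw [show (c * 729 + d) / 6561 = c / 9 by omega,
    show (c * 729 + d) % 6561 / 2187 = c / 3 % 3 by omega,
    show (c * 729 + d) % 2187 / 729 = c % 3 by omega,
    show d % 729 = d by omega, mul_assoc, mul_assoc]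

end Cfsg.Agent.O73Roots99
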