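import Mathlib
import Cfsg.Agent.Lib.O73Roots99

/-!
Kernel verification of the spanning forest, by chunks.
-/

set_option autoImplicit false

namespace Cfsg.Agent.O73CheckA99

open Cfsg.Agent.O73Roots99

theorem chunk0 : chunkOK 0 = true := by decide +kernel

theorem chunk1 : chunkOK 1 = true := by decide +kernel

theorem chunk2 : chunkOK 2 = true := by decide +kernel

theorem chunk3 : chunkOK 3 = true := by decide +kernel

theorem chunk4 : chunkOK 4 = true := by decide +kernel

theorem chunk5 : chunkOK 5 = true := by decide +kernel

theorem chunk6 : chunkOK 6 = true := by decide +kernel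

theorem chunk7 : chunkOK 7 = true := by decide +kernel

theorem chunk8 : chunkOK 8 = true := by decide +kernel

theorem chunk9 : chunkOK 9 = true := by decide +kernel

theorem chunk10 : chunkOK 10 = true := by decide +kernel

theorem chunk11 : chunkOK 11 = true := by decide +kernel

theorem chunk12 : chunkOK 12 = true := by decide +kernel

theorem chunk13 : chunkOK 13 = true := by decide +kernel

end Cfsg.Agent.O73CheckA99
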