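import Mathlib
import Cfsg.Agent.Lib.O73Roots99
import Cfsg.Agent.Lib.O73CheckA99

/-!
Kernel verification of the spanning forest, by chunks.
-/

set_option autoImplicit false

namespace Cfsg.Agent.O73Check99

open Cfsg.Agent.O73Roots99 Cfsg.Agent.O73CheckA99

theorem chunk14 : chunkOK 14 = true := by decide +kernel

theorem chunk15 : chunkOK 15 = true := by decide +kernel

theorem chunk16 : chunkOK 16 = true := by decide +kernel

theorem chunk17 : chunkOK 17 = true := by decide +kernel

theorem chunk18 : chunkOK 18 = true := by decide +kernel

theorem chunk19 : chunkOK 19 = true := by decide +kernel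

theorem chunk20 : chunkOK 20 = true := by decide +kernel

theorem chunk21 : chunkOK 21 = true := by decide +kernel

theorem chunk22 : chunkOK 22 = true := by decide +kernel

theorem chunk23 : chunkOK 23 = true := by decide +kernel

theorem chunk24 : chunkOK 24 = true := by decide +kernel

theorem chunk25 : chunkOK 25 = true := by decide +kernel

theorem chunk26 : chunkOK 26 = true := by decide +kernel

theorem all_chunks : ∀ c < 27, chunkOK c = true := by
  intro c hc
  interval_cases c
  · exact chunk0
  · exact chunk1
  · exact chunk2
  · exact chunk3
  · exact chunk4
  · exact chunk5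
  · exact chunk6
  · exact chunk7
  · exact chunk8
  · exact chunk9
  · exact chunk10
  · exact chunk11
  · exact chunk12
  · exact chunk13
  · exact chunk14
  · exact chunk15
  · exact chunk16
  · exact chunk17
  · exact chunk18
  · exact chunk19
  · exact chunk20
  · exact chunk21
  · exact chunk22
  · exact chunk23
  · exact chunk24
  · exact chunk25
  · exact chunk26

theorem chk_all {p : ℕ} (hp : p < 19683) : chk p (O73Code99.enc (prodU p)) = true := by
  have := chunk_sound (all_chunks (p / 729) (by omega)) (p % 729) (Nat.mod_lt _ (by norm_num))
  rwa [show p / 729 * 729 + p % 729 = p by omega] at this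

end Cfsg.Agent.O73Check99
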