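import Mathlib
import Cfsg.Agent.Lib.O73CoverData60
import Cfsg.Agent.Lib.CosetCertO73Iso

/-!
Table checks for the triple cover of `Ω₇(3)`.
-/

set_option autoImplicit false
set_option maxRecDepth 100000
set_option maxHeartbeats 0

namespace Cfsg.Agent.O73CoverChecks60

open Cfsg.Agent.O73CoverData60

/-- `f` holds on `[lo, lo + n)` -/
def allFrom (f : ℕ → Bool) (lo : ℕ) : ℕ → Bool
  | 0 => true
  | n + 1 => f (lo + n) && allFrom f lo n

theorem allFrom_iff (f : ℕ → Bool) (lo : ℕ) :
    ∀ n, allFrom f lo n = true → ∀ c, lo ≤ c → c < lo + n → f c = true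
  | 0, _, c, h1, h2 => by omega
  | n + 1, h, c, h1, h2 => by
    simp only [allFrom, Bool.and_eq_true] at h
    rcases Nat.lt_or_ge c (lo + n) with h3 | h3
    · exact allFrom_iff f lo n h.2 c h1 h3
    · rw [show c = lo + n by omega]; exact h.1

/-- digit `j` -/
def dig (v j : ℕ) : ℕ := (v >>> (2 * j)) &&& 3

/-- the code of the negated vector -/
def negCode (v : ℕ) : ℕ :=
  (3 - dig v 0) % 3 + ((3 - dig v 1) % 3) <<< 2 + ((3 - dig v 2) % 3) <<< 4 + ((3 - dig v 3) % 3) <<< 6 +
    ((3 - dig v 4) % 3) <<< 8 + ((3 - dig v 5) % 3) <<< 10 + ((3 - dig v 6) % 3) <<< 12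

/-- coordinate `i` of a packed matrix applied to a packed vector -/
def dot (m v i : ℕ) : ℕ :=
  (dig m (7 * i + 0) * dig v 0 + dig m (7 * i + 1) * dig v 1 + dig m (7 * i + 2) * dig v 2 +
    dig m (7 * i + 3) * dig v 3 + dig m (7 * i + 4) * dig v 4 + dig m (7 * i + 5) * dig v 5 +
    dig m (7 * i + 6) * dig v 6) % 3

/-- the packed matrix of generator `k` -/
def mcode (k : Fin 8) : ℕ := CosetCertO73Iso.codes.getD k.val CosetCertO73Iso.oneC

/-- the line is canonical and the lines increase; the tree -/
def ptOK (c : ℕ) : Bool :=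
  Nat.blt (code c) (negCode (code c)) && allFrom (fun j => Nat.blt (dig (code c) j) 3) 0 7 &&
    (negCode (negCode (code c)) == code c) &&
    (c + 1 == 378 || Nat.blt (code c) (code (c + 1))) &&
    Nat.blt (par c) 378 && (par (par c) == root) &&
    (c == root || !(slot (par c) c == 0))

/-- the generator moves the line as tabulated -/
def moveOK (k : Fin 8) (c : ℕ) : Bool :=
  let d := nx k c
  Nat.blt d 378 && (nx k d == c) && Nat.blt (vo k c) 3 && ((vo k c + vo k d) % 3 == 0) &&
    (allFrom (fun i => dot (mcode k) (code c) i == dig (code d) i) 0 7 ||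
      allFrom (fun i => dot (mcode k) (code c) i == (3 - dig (code d) i) % 3) 0 7)

/-- the edges at `i` are carried to edges -/
def edgeOK (k : Fin 8) (i : ℕ) : Bool :=
  allFrom (fun j =>
    let s := slot i j
    s == 0 || slot (nx k i) (nx k j) == (s + 2 + vo k i + 2 * vo k j) % 3 + 1) 0 378

private theorem ptOK_all_0 : allFrom (ptOK) 0 63 = true := by decide +kernel

private theorem ptOK_all_1 : allFrom (ptOK) 63 63 = true := by decide +kernel

private theorem ptOK_all_2 : allFrom (ptOK) 126 63 = true := by decide +kernel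

private theorem ptOK_all_3 : allFrom (ptOK) 189 63 = true := by decide +kernel

private theorem ptOK_all_4 : allFrom (ptOK) 252 63 = true := by decide +kernel

private theorem ptOK_all_5 : allFrom (ptOK) 315 63 = true := by decide +kernel

theorem ptOK_all {c : ℕ} (h : c < 378) : (ptOK) c = true := by
  rcases Nat.lt_or_ge c 63 with h0 | h0
  · exact allFrom_iff _ _ _ ptOK_all_0 c (by omega) (by omega)
  rcases Nat.lt_or_ge c 126 with h1 | h1
  · exact allFrom_iff _ _ _ ptOK_all_1 c (by omega) (by omega)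
  rcases Nat.lt_or_ge c 189 with h2 | h2
  · exact allFrom_iff _ _ _ ptOK_all_2 c (by omega) (by omega)
  rcases Nat.lt_or_ge c 252 with h3 | h3
  · exact allFrom_iff _ _ _ ptOK_all_3 c (by omega) (by omega)
  rcases Nat.lt_or_ge c 315 with h4 | h4
  · exact allFrom_iff _ _ _ ptOK_all_4 c (by omega) (by omega)
  exact allFrom_iff _ _ _ ptOK_all_5 c (by omega) (by omega)

end Cfsg.Agent.O73CoverChecks60
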