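import Mathlib
import Cfsg.Agent.Lib.O73CoverChecks60

/-!
Generator checks, part 0, for the triple cover of `Ω₇(3)`.
-/

set_option autoImplicit false
set_option maxRecDepth 100000
set_option maxHeartbeats 0

namespace Cfsg.Agent.O73CoverChecks60

open Cfsg.Agent.O73CoverData60

private theorem moveOK_all0_0 : allFrom (moveOK 0) 0 63 = true := by decide +kernel

private theorem moveOK_all0_1 : allFrom (moveOK 0) 63 63 = true := by decide +kernel

private theorem moveOK_all0_2 : allFrom (moveOK 0) 126 63 = true := by decide +kernel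

private theorem moveOK_all0_3 : allFrom (moveOK 0) 189 63 = true := by decide +kernel

private theorem moveOK_all0_4 : allFrom (moveOK 0) 252 63 = true := by decide +kernel

private theorem moveOK_all0_5 : allFrom (moveOK 0) 315 63 = true := by decide +kernel

theorem moveOK_all0 {c : ℕ} (h : c < 378) : (moveOK 0) c = true := by
  rcases Nat.lt_or_ge c 63 with h0 | h0
  · exact allFrom_iff _ _ _ moveOK_all0_0 c (by omega) (by omega)
  rcases Nat.lt_or_ge c 126 with h1 | h1
  · exact allFrom_iff _ _ _ moveOK_all0_1 c (by omega) (by omega)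
  rcases Nat.lt_or_ge c 189 with h2 | h2
  · exact allFrom_iff _ _ _ moveOK_all0_2 c (by omega) (by omega)
  rcases Nat.lt_or_ge c 252 with h3 | h3
  · exact allFrom_iff _ _ _ moveOK_all0_3 c (by omega) (by omega)
  rcases Nat.lt_or_ge c 315 with h4 | h4
  · exact allFrom_iff _ _ _ moveOK_all0_4 c (by omega) (by omega)
  exact allFrom_iff _ _ _ moveOK_all0_5 c (by omega) (by omega)

private theorem edgeOK_all0_0 : allFrom (edgeOK 0) 0 42 = true := by decide +kernel

private theorem edgeOK_all0_1 : allFrom (edgeOK 0) 42 42 = true := by decide +kernel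

private theorem edgeOK_all0_2 : allFrom (edgeOK 0) 84 42 = true := by decide +kernel

private theorem edgeOK_all0_3 : allFrom (edgeOK 0) 126 42 = true := by decide +kernel

private theorem edgeOK_all0_4 : allFrom (edgeOK 0) 168 42 = true := by decide +kernel

private theorem edgeOK_all0_5 : allFrom (edgeOK 0) 210 42 = true := by decide +kernel

private theorem edgeOK_all0_6 : allFrom (edgeOK 0) 252 42 = true := by decide +kernel

private theorem edgeOK_all0_7 : allFrom (edgeOK 0) 294 42 = true := by decide +kernel

private theorem edgeOK_all0_8 : allFrom (edgeOK 0) 336 42 = true := by decide +kernel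

theorem edgeOK_all0 {c : ℕ} (h : c < 378) : (edgeOK 0) c = true := by
  rcases Nat.lt_or_ge c 42 with h0 | h0
  · exact allFrom_iff _ _ _ edgeOK_all0_0 c (by omega) (by omega)
  rcases Nat.lt_or_ge c 84 with h1 | h1
  · exact allFrom_iff _ _ _ edgeOK_all0_1 c (by omega) (by omega)
  rcases Nat.lt_or_ge c 126 with h2 | h2
  · exact allFrom_iff _ _ _ edgeOK_all0_2 c (by omega) (by omega)
  rcases Nat.lt_or_ge c 168 with h3 | h3
  · exact allFrom_iff _ _ _ edgeOK_all0_3 c (by omega) (by omega)
  rcases Nat.lt_or_ge c 210 with h4 | h4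
  · exact allFrom_iff _ _ _ edgeOK_all0_4 c (by omega) (by omega)
  rcases Nat.lt_or_ge c 252 with h5 | h5
  · exact allFrom_iff _ _ _ edgeOK_all0_5 c (by omega) (by omega)
  rcases Nat.lt_or_ge c 294 with h6 | h6
  · exact allFrom_iff _ _ _ edgeOK_all0_6 c (by omega) (by omega)
  rcases Nat.lt_or_ge c 336 with h7 | h7
  · exact allFrom_iff _ _ _ edgeOK_all0_7 c (by omega) (by omega)
  exact allFrom_iff _ _ _ edgeOK_all0_8 c (by omega) (by omega)

private theorem moveOK_all1_0 : allFrom (moveOK 1) 0 63 = true := by decide +kernel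

private theorem moveOK_all1_1 : allFrom (moveOK 1) 63 63 = true := by decide +kernel

private theorem moveOK_all1_2 : allFrom (moveOK 1) 126 63 = true := by decide +kernel

private theorem moveOK_all1_3 : allFrom (moveOK 1) 189 63 = true := by decide +kernel

private theorem moveOK_all1_4 : allFrom (moveOK 1) 252 63 = true := by decide +kernel

private theorem moveOK_all1_5 : allFrom (moveOK 1) 315 63 = true := by decide +kernel

theorem moveOK_all1 {c : ℕ} (h : c < 378) : (moveOK 1) c = true := by
  rcases Nat.lt_or_ge c 63 with h0 | h0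
  · exact allFrom_iff _ _ _ moveOK_all1_0 c (by omega) (by omega)
  rcases Nat.lt_or_ge c 126 with h1 | h1
  · exact allFrom_iff _ _ _ moveOK_all1_1 c (by omega) (by omega)
  rcases Nat.lt_or_ge c 189 with h2 | h2
  · exact allFrom_iff _ _ _ moveOK_all1_2 c (by omega) (by omega)
  rcases Nat.lt_or_ge c 252 with h3 | h3
  · exact allFrom_iff _ _ _ moveOK_all1_3 c (by omega) (by omega)
  rcases Nat.lt_or_ge c 315 with h4 | h4
  · exact allFrom_iff _ _ _ moveOK_all1_4 c (by omega) (by omega)
  exact allFrom_iff _ _ _ moveOK_all1_5 c (by omega) (by omega)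

private theorem edgeOK_all1_0 : allFrom (edgeOK 1) 0 42 = true := by decide +kernel

private theorem edgeOK_all1_1 : allFrom (edgeOK 1) 42 42 = true := by decide +kernel

private theorem edgeOK_all1_2 : allFrom (edgeOK 1) 84 42 = true := by decide +kernel

private theorem edgeOK_all1_3 : allFrom (edgeOK 1) 126 42 = true := by decide +kernel

private theorem edgeOK_all1_4 : allFrom (edgeOK 1) 168 42 = true := by decide +kernel

private theorem edgeOK_all1_5 : allFrom (edgeOK 1) 210 42 = true := by decide +kernel

private theorem edgeOK_all1_6 : allFrom (edgeOK 1) 252 42 = true := by decide +kernel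

private theorem edgeOK_all1_7 : allFrom (edgeOK 1) 294 42 = true := by decide +kernel

private theorem edgeOK_all1_8 : allFrom (edgeOK 1) 336 42 = true := by decide +kernel

theorem edgeOK_all1 {c : ℕ} (h : c < 378) : (edgeOK 1) c = true := by
  rcases Nat.lt_or_ge c 42 with h0 | h0
  · exact allFrom_iff _ _ _ edgeOK_all1_0 c (by omega) (by omega)
  rcases Nat.lt_or_ge c 84 with h1 | h1
  · exact allFrom_iff _ _ _ edgeOK_all1_1 c (by omega) (by omega)
  rcases Nat.lt_or_ge c 126 with h2 | h2
  · exact allFrom_iff _ _ _ edgeOK_all1_2 c (by omega) (by omega)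
  rcases Nat.lt_or_ge c 168 with h3 | h3
  · exact allFrom_iff _ _ _ edgeOK_all1_3 c (by omega) (by omega)
  rcases Nat.lt_or_ge c 210 with h4 | h4
  · exact allFrom_iff _ _ _ edgeOK_all1_4 c (by omega) (by omega)
  rcases Nat.lt_or_ge c 252 with h5 | h5
  · exact allFrom_iff _ _ _ edgeOK_all1_5 c (by omega) (by omega)
  rcases Nat.lt_or_ge c 294 with h6 | h6
  · exact allFrom_iff _ _ _ edgeOK_all1_6 c (by omega) (by omega)
  rcases Nat.lt_or_ge c 336 with h7 | h7
  · exact allFrom_iff _ _ _ edgeOK_all1_7 c (by omega) (by omega)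
  exact allFrom_iff _ _ _ edgeOK_all1_8 c (by omega) (by omega)

private theorem moveOK_all2_0 : allFrom (moveOK 2) 0 63 = true := by decide +kernel

private theorem moveOK_all2_1 : allFrom (moveOK 2) 63 63 = true := by decide +kernel

private theorem moveOK_all2_2 : allFrom (moveOK 2) 126 63 = true := by decide +kernel

private theorem moveOK_all2_3 : allFrom (moveOK 2) 189 63 = true := by decide +kernel

private theorem moveOK_all2_4 : allFrom (moveOK 2) 252 63 = true := by decide +kernel

private theorem moveOK_all2_5 : allFrom (moveOK 2) 315 63 = true := by decide +kernel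

theorem moveOK_all2 {c : ℕ} (h : c < 378) : (moveOK 2) c = true := by
  rcases Nat.lt_or_ge c 63 with h0 | h0
  · exact allFrom_iff _ _ _ moveOK_all2_0 c (by omega) (by omega)
  rcases Nat.lt_or_ge c 126 with h1 | h1
  · exact allFrom_iff _ _ _ moveOK_all2_1 c (by omega) (by omega)
  rcases Nat.lt_or_ge c 189 with h2 | h2
  · exact allFrom_iff _ _ _ moveOK_all2_2 c (by omega) (by omega)
  rcases Nat.lt_or_ge c 252 with h3 | h3
  · exact allFrom_iff _ _ _ moveOK_all2_3 c (by omega) (by omega)
  rcases Nat.lt_or_ge c 315 with h4 | h4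
  · exact allFrom_iff _ _ _ moveOK_all2_4 c (by omega) (by omega)
  exact allFrom_iff _ _ _ moveOK_all2_5 c (by omega) (by omega)

private theorem edgeOK_all2_0 : allFrom (edgeOK 2) 0 42 = true := by decide +kernel

private theorem edgeOK_all2_1 : allFrom (edgeOK 2) 42 42 = true := by decide +kernel

private theorem edgeOK_all2_2 : allFrom (edgeOK 2) 84 42 = true := by decide +kernel

private theorem edgeOK_all2_3 : allFrom (edgeOK 2) 126 42 = true := by decide +kernel

private theorem edgeOK_all2_4 : allFrom (edgeOK 2) 168 42 = true := by decide +kernel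

private theorem edgeOK_all2_5 : allFrom (edgeOK 2) 210 42 = true := by decide +kernel

private theorem edgeOK_all2_6 : allFrom (edgeOK 2) 252 42 = true := by decide +kernel

private theorem edgeOK_all2_7 : allFrom (edgeOK 2) 294 42 = true := by decide +kernel

private theorem edgeOK_all2_8 : allFrom (edgeOK 2) 336 42 = true := by decide +kernel

theorem edgeOK_all2 {c : ℕ} (h : c < 378) : (edgeOK 2) c = true := by
  rcases Nat.lt_or_ge c 42 with h0 | h0
  · exact allFrom_iff _ _ _ edgeOK_all2_0 c (by omega) (by omega)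
  rcases Nat.lt_or_ge c 84 with h1 | h1
  · exact allFrom_iff _ _ _ edgeOK_all2_1 c (by omega) (by omega)
  rcases Nat.lt_or_ge c 126 with h2 | h2
  · exact allFrom_iff _ _ _ edgeOK_all2_2 c (by omega) (by omega)
  rcases Nat.lt_or_ge c 168 with h3 | h3
  · exact allFrom_iff _ _ _ edgeOK_all2_3 c (by omega) (by omega)
  rcases Nat.lt_or_ge c 210 with h4 | h4
  · exact allFrom_iff _ _ _ edgeOK_all2_4 c (by omega) (by omega)
  rcases Nat.lt_or_ge c 252 with h5 | h5
  · exact allFrom_iff _ _ _ edgeOK_all2_5 c (by omega) (by omega)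
  rcases Nat.lt_or_ge c 294 with h6 | h6
  · exact allFrom_iff _ _ _ edgeOK_all2_6 c (by omega) (by omega)
  rcases Nat.lt_or_ge c 336 with h7 | h7
  · exact allFrom_iff _ _ _ edgeOK_all2_7 c (by omega) (by omega)
  exact allFrom_iff _ _ _ edgeOK_all2_8 c (by omega) (by omega)

private theorem moveOK_all3_0 : allFrom (moveOK 3) 0 63 = true := by decide +kernel

private theorem moveOK_all3_1 : allFrom (moveOK 3) 63 63 = true := by decide +kernel

private theorem moveOK_all3_2 : allFrom (moveOK 3) 126 63 = true := by decide +kernel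

private theorem moveOK_all3_3 : allFrom (moveOK 3) 189 63 = true := by decide +kernel

private theorem moveOK_all3_4 : allFrom (moveOK 3) 252 63 = true := by decide +kernel

private theorem moveOK_all3_5 : allFrom (moveOK 3) 315 63 = true := by decide +kernel

theorem moveOK_all3 {c : ℕ} (h : c < 378) : (moveOK 3) c = true := by
  rcases Nat.lt_or_ge c 63 with h0 | h0
  · exact allFrom_iff _ _ _ moveOK_all3_0 c (by omega) (by omega)
  rcases Nat.lt_or_ge c 126 with h1 | h1
  · exact allFrom_iff _ _ _ moveOK_all3_1 c (by omega) (by omega)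
  rcases Nat.lt_or_ge c 189 with h2 | h2
  · exact allFrom_iff _ _ _ moveOK_all3_2 c (by omega) (by omega)
  rcases Nat.lt_or_ge c 252 with h3 | h3
  · exact allFrom_iff _ _ _ moveOK_all3_3 c (by omega) (by omega)
  rcases Nat.lt_or_ge c 315 with h4 | h4
  · exact allFrom_iff _ _ _ moveOK_all3_4 c (by omega) (by omega)
  exact allFrom_iff _ _ _ moveOK_all3_5 c (by omega) (by omega)

private theorem edgeOK_all3_0 : allFrom (edgeOK 3) 0 42 = true := by decide +kernel

private theorem edgeOK_all3_1 : allFrom (edgeOK 3) 42 42 = true := by decide +kernel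

private theorem edgeOK_all3_2 : allFrom (edgeOK 3) 84 42 = true := by decide +kernel

private theorem edgeOK_all3_3 : allFrom (edgeOK 3) 126 42 = true := by decide +kernel

private theorem edgeOK_all3_4 : allFrom (edgeOK 3) 168 42 = true := by decide +kernel

private theorem edgeOK_all3_5 : allFrom (edgeOK 3) 210 42 = true := by decide +kernel

private theorem edgeOK_all3_6 : allFrom (edgeOK 3) 252 42 = true := by decide +kernel

private theorem edgeOK_all3_7 : allFrom (edgeOK 3) 294 42 = true := by decide +kernel

private theorem edgeOK_all3_8 : allFrom (edgeOK 3) 336 42 = true := by decide +kernel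

theorem edgeOK_all3 {c : ℕ} (h : c < 378) : (edgeOK 3) c = true := by
  rcases Nat.lt_or_ge c 42 with h0 | h0
  · exact allFrom_iff _ _ _ edgeOK_all3_0 c (by omega) (by omega)
  rcases Nat.lt_or_ge c 84 with h1 | h1
  · exact allFrom_iff _ _ _ edgeOK_all3_1 c (by omega) (by omega)
  rcases Nat.lt_or_ge c 126 with h2 | h2
  · exact allFrom_iff _ _ _ edgeOK_all3_2 c (by omega) (by omega)
  rcases Nat.lt_or_ge c 168 with h3 | h3
  · exact allFrom_iff _ _ _ edgeOK_all3_3 c (by omega) (by omega)
  rcases Nat.lt_or_ge c 210 with h4 | h4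
  · exact allFrom_iff _ _ _ edgeOK_all3_4 c (by omega) (by omega)
  rcases Nat.lt_or_ge c 252 with h5 | h5
  · exact allFrom_iff _ _ _ edgeOK_all3_5 c (by omega) (by omega)
  rcases Nat.lt_or_ge c 294 with h6 | h6
  · exact allFrom_iff _ _ _ edgeOK_all3_6 c (by omega) (by omega)
  rcases Nat.lt_or_ge c 336 with h7 | h7
  · exact allFrom_iff _ _ _ edgeOK_all3_7 c (by omega) (by omega)
  exact allFrom_iff _ _ _ edgeOK_all3_8 c (by omega) (by omega)

end Cfsg.Agent.O73CoverChecks60
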