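import Mathlib
import Cfsg.Agent.Lib.O73CoverChecks60

/-!
Generator checks, part 1, for the triple cover of `Ω₇(3)`.
-/

set_option autoImplicit false
set_option maxRecDepth 100000
set_option maxHeartbeats 0

namespace Cfsg.Agent.O73CoverChecks60

open Cfsg.Agent.O73CoverData60

private theorem moveOK_all4_0 : allFrom (moveOK 4) 0 63 = true := by decide +kernel

private theorem moveOK_all4_1 : allFrom (moveOK 4) 63 63 = true := by decide +kernel

private theorem moveOK_all4_2 : allFrom (moveOK 4) 126 63 = true := by decide +kernel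

private theorem moveOK_all4_3 : allFrom (moveOK 4) 189 63 = true := by decide +kernel

private theorem moveOK_all4_4 : allFrom (moveOK 4) 252 63 = true := by decide +kernel

private theorem moveOK_all4_5 : allFrom (moveOK 4) 315 63 = true := by decide +kernel

theorem moveOK_all4 {c : ℕ} (h : c < 378) : (moveOK 4) c = true := by
  rcases Nat.lt_or_ge c 63 with h0 | h0
  · exact allFrom_iff _ _ _ moveOK_all4_0 c (by omega) (by omega)
  rcases Nat.lt_or_ge c 126 with h1 | h1
  · exact allFrom_iff _ _ _ moveOK_all4_1 c (by omega) (by omega)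
  rcases Nat.lt_or_ge c 189 with h2 | h2
  · exact allFrom_iff _ _ _ moveOK_all4_2 c (by omega) (by omega)
  rcases Nat.lt_or_ge c 252 with h3 | h3
  · exact allFrom_iff _ _ _ moveOK_all4_3 c (by omega) (by omega)
  rcases Nat.lt_or_ge c 315 with h4 | h4
  · exact allFrom_iff _ _ _ moveOK_all4_4 c (by omega) (by omega)
  exact allFrom_iff _ _ _ moveOK_all4_5 c (by omega) (by omega)

private theorem edgeOK_all4_0 : allFrom (edgeOK 4) 0 42 = true := by decide +kernel

private theorem edgeOK_all4_1 : allFrom (edgeOK 4) 42 42 = true := by decide +kernel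

private theorem edgeOK_all4_2 : allFrom (edgeOK 4) 84 42 = true := by decide +kernel

private theorem edgeOK_all4_3 : allFrom (edgeOK 4) 126 42 = true := by decide +kernel

private theorem edgeOK_all4_4 : allFrom (edgeOK 4) 168 42 = true := by decide +kernel

private theorem edgeOK_all4_5 : allFrom (edgeOK 4) 210 42 = true := by decide +kernel

private theorem edgeOK_all4_6 : allFrom (edgeOK 4) 252 42 = true := by decide +kernel

private theorem edgeOK_all4_7 : allFrom (edgeOK 4) 294 42 = true := by decide +kernel

private theorem edgeOK_all4_8 : allFrom (edgeOK 4) 336 42 = true := by decide +kernel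

theorem edgeOK_all4 {c : ℕ} (h : c < 378) : (edgeOK 4) c = true := by
  rcases Nat.lt_or_ge c 42 with h0 | h0
  · exact allFrom_iff _ _ _ edgeOK_all4_0 c (by omega) (by omega)
  rcases Nat.lt_or_ge c 84 with h1 | h1
  · exact allFrom_iff _ _ _ edgeOK_all4_1 c (by omega) (by omega)
  rcases Nat.lt_or_ge c 126 with h2 | h2
  · exact allFrom_iff _ _ _ edgeOK_all4_2 c (by omega) (by omega)
  rcases Nat.lt_or_ge c 168 with h3 | h3
  · exact allFrom_iff _ _ _ edgeOK_all4_3 c (by omega) (by omega)
  rcases Nat.lt_or_ge c 210 with h4 | h4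
  · exact allFrom_iff _ _ _ edgeOK_all4_4 c (by omega) (by omega)
  rcases Nat.lt_or_ge c 252 with h5 | h5
  · exact allFrom_iff _ _ _ edgeOK_all4_5 c (by omega) (by omega)
  rcases Nat.lt_or_ge c 294 with h6 | h6
  · exact allFrom_iff _ _ _ edgeOK_all4_6 c (by omega) (by omega)
  rcases Nat.lt_or_ge c 336 with h7 | h7
  · exact allFrom_iff _ _ _ edgeOK_all4_7 c (by omega) (by omega)
  exact allFrom_iff _ _ _ edgeOK_all4_8 c (by omega) (by omega)

private theorem moveOK_all5_0 : allFrom (moveOK 5) 0 63 = true := by decide +kernel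

private theorem moveOK_all5_1 : allFrom (moveOK 5) 63 63 = true := by decide +kernel

private theorem moveOK_all5_2 : allFrom (moveOK 5) 126 63 = true := by decide +kernel

private theorem moveOK_all5_3 : allFrom (moveOK 5) 189 63 = true := by decide +kernel

private theorem moveOK_all5_4 : allFrom (moveOK 5) 252 63 = true := by decide +kernel

private theorem moveOK_all5_5 : allFrom (moveOK 5) 315 63 = true := by decide +kernel

theorem moveOK_all5 {c : ℕ} (h : c < 378) : (moveOK 5) c = true := by
  rcases Nat.lt_or_ge c 63 with h0 | h0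
  · exact allFrom_iff _ _ _ moveOK_all5_0 c (by omega) (by omega)
  rcases Nat.lt_or_ge c 126 with h1 | h1
  · exact allFrom_iff _ _ _ moveOK_all5_1 c (by omega) (by omega)
  rcases Nat.lt_or_ge c 189 with h2 | h2
  · exact allFrom_iff _ _ _ moveOK_all5_2 c (by omega) (by omega)
  rcases Nat.lt_or_ge c 252 with h3 | h3
  · exact allFrom_iff _ _ _ moveOK_all5_3 c (by omega) (by omega)
  rcases Nat.lt_or_ge c 315 with h4 | h4
  · exact allFrom_iff _ _ _ moveOK_all5_4 c (by omega) (by omega)
  exact allFrom_iff _ _ _ moveOK_all5_5 c (by omega) (by omega)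

private theorem edgeOK_all5_0 : allFrom (edgeOK 5) 0 42 = true := by decide +kernel

private theorem edgeOK_all5_1 : allFrom (edgeOK 5) 42 42 = true := by decide +kernel

private theorem edgeOK_all5_2 : allFrom (edgeOK 5) 84 42 = true := by decide +kernel

private theorem edgeOK_all5_3 : allFrom (edgeOK 5) 126 42 = true := by decide +kernel

private theorem edgeOK_all5_4 : allFrom (edgeOK 5) 168 42 = true := by decide +kernel

private theorem edgeOK_all5_5 : allFrom (edgeOK 5) 210 42 = true := by decide +kernel

private theorem edgeOK_all5_6 : allFrom (edgeOK 5) 252 42 = true := by decide +kernel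

private theorem edgeOK_all5_7 : allFrom (edgeOK 5) 294 42 = true := by decide +kernel

private theorem edgeOK_all5_8 : allFrom (edgeOK 5) 336 42 = true := by decide +kernel

theorem edgeOK_all5 {c : ℕ} (h : c < 378) : (edgeOK 5) c = true := by
  rcases Nat.lt_or_ge c 42 with h0 | h0
  · exact allFrom_iff _ _ _ edgeOK_all5_0 c (by omega) (by omega)
  rcases Nat.lt_or_ge c 84 with h1 | h1
  · exact allFrom_iff _ _ _ edgeOK_all5_1 c (by omega) (by omega)
  rcases Nat.lt_or_ge c 126 with h2 | h2
  · exact allFrom_iff _ _ _ edgeOK_all5_2 c (by omega) (by omega)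
  rcases Nat.lt_or_ge c 168 with h3 | h3
  · exact allFrom_iff _ _ _ edgeOK_all5_3 c (by omega) (by omega)
  rcases Nat.lt_or_ge c 210 with h4 | h4
  · exact allFrom_iff _ _ _ edgeOK_all5_4 c (by omega) (by omega)
  rcases Nat.lt_or_ge c 252 with h5 | h5
  · exact allFrom_iff _ _ _ edgeOK_all5_5 c (by omega) (by omega)
  rcases Nat.lt_or_ge c 294 with h6 | h6
  · exact allFrom_iff _ _ _ edgeOK_all5_6 c (by omega) (by omega)
  rcases Nat.lt_or_ge c 336 with h7 | h7
  · exact allFrom_iff _ _ _ edgeOK_all5_7 c (by omega) (by omega)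
  exact allFrom_iff _ _ _ edgeOK_all5_8 c (by omega) (by omega)

private theorem moveOK_all6_0 : allFrom (moveOK 6) 0 63 = true := by decide +kernel

private theorem moveOK_all6_1 : allFrom (moveOK 6) 63 63 = true := by decide +kernel

private theorem moveOK_all6_2 : allFrom (moveOK 6) 126 63 = true := by decide +kernel

private theorem moveOK_all6_3 : allFrom (moveOK 6) 189 63 = true := by decide +kernel

private theorem moveOK_all6_4 : allFrom (moveOK 6) 252 63 = true := by decide +kernel

private theorem moveOK_all6_5 : allFrom (moveOK 6) 315 63 = true := by decide +kernel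

theorem moveOK_all6 {c : ℕ} (h : c < 378) : (moveOK 6) c = true := by
  rcases Nat.lt_or_ge c 63 with h0 | h0
  · exact allFrom_iff _ _ _ moveOK_all6_0 c (by omega) (by omega)
  rcases Nat.lt_or_ge c 126 with h1 | h1
  · exact allFrom_iff _ _ _ moveOK_all6_1 c (by omega) (by omega)
  rcases Nat.lt_or_ge c 189 with h2 | h2
  · exact allFrom_iff _ _ _ moveOK_all6_2 c (by omega) (by omega)
  rcases Nat.lt_or_ge c 252 with h3 | h3
  · exact allFrom_iff _ _ _ moveOK_all6_3 c (by omega) (by omega)
  rcases Nat.lt_or_ge c 315 with h4 | h4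
  · exact allFrom_iff _ _ _ moveOK_all6_4 c (by omega) (by omega)
  exact allFrom_iff _ _ _ moveOK_all6_5 c (by omega) (by omega)

private theorem edgeOK_all6_0 : allFrom (edgeOK 6) 0 42 = true := by decide +kernel

private theorem edgeOK_all6_1 : allFrom (edgeOK 6) 42 42 = true := by decide +kernel

private theorem edgeOK_all6_2 : allFrom (edgeOK 6) 84 42 = true := by decide +kernel

private theorem edgeOK_all6_3 : allFrom (edgeOK 6) 126 42 = true := by decide +kernel

private theorem edgeOK_all6_4 : allFrom (edgeOK 6) 168 42 = true := by decide +kernel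

private theorem edgeOK_all6_5 : allFrom (edgeOK 6) 210 42 = true := by decide +kernel

private theorem edgeOK_all6_6 : allFrom (edgeOK 6) 252 42 = true := by decide +kernel

private theorem edgeOK_all6_7 : allFrom (edgeOK 6) 294 42 = true := by decide +kernel

private theorem edgeOK_all6_8 : allFrom (edgeOK 6) 336 42 = true := by decide +kernel

theorem edgeOK_all6 {c : ℕ} (h : c < 378) : (edgeOK 6) c = true := by
  rcases Nat.lt_or_ge c 42 with h0 | h0
  · exact allFrom_iff _ _ _ edgeOK_all6_0 c (by omega) (by omega)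
  rcases Nat.lt_or_ge c 84 with h1 | h1
  · exact allFrom_iff _ _ _ edgeOK_all6_1 c (by omega) (by omega)
  rcases Nat.lt_or_ge c 126 with h2 | h2
  · exact allFrom_iff _ _ _ edgeOK_all6_2 c (by omega) (by omega)
  rcases Nat.lt_or_ge c 168 with h3 | h3
  · exact allFrom_iff _ _ _ edgeOK_all6_3 c (by omega) (by omega)
  rcases Nat.lt_or_ge c 210 with h4 | h4
  · exact allFrom_iff _ _ _ edgeOK_all6_4 c (by omega) (by omega)
  rcases Nat.lt_or_ge c 252 with h5 | h5
  · exact allFrom_iff _ _ _ edgeOK_all6_5 c (by omega) (by omega)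
  rcases Nat.lt_or_ge c 294 with h6 | h6
  · exact allFrom_iff _ _ _ edgeOK_all6_6 c (by omega) (by omega)
  rcases Nat.lt_or_ge c 336 with h7 | h7
  · exact allFrom_iff _ _ _ edgeOK_all6_7 c (by omega) (by omega)
  exact allFrom_iff _ _ _ edgeOK_all6_8 c (by omega) (by omega)

private theorem moveOK_all7_0 : allFrom (moveOK 7) 0 63 = true := by decide +kernel

private theorem moveOK_all7_1 : allFrom (moveOK 7) 63 63 = true := by decide +kernel

private theorem moveOK_all7_2 : allFrom (moveOK 7) 126 63 = true := by decide +kernel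

private theorem moveOK_all7_3 : allFrom (moveOK 7) 189 63 = true := by decide +kernel

private theorem moveOK_all7_4 : allFrom (moveOK 7) 252 63 = true := by decide +kernel

private theorem moveOK_all7_5 : allFrom (moveOK 7) 315 63 = true := by decide +kernel

theorem moveOK_all7 {c : ℕ} (h : c < 378) : (moveOK 7) c = true := by
  rcases Nat.lt_or_ge c 63 with h0 | h0
  · exact allFrom_iff _ _ _ moveOK_all7_0 c (by omega) (by omega)
  rcases Nat.lt_or_ge c 126 with h1 | h1
  · exact allFrom_iff _ _ _ moveOK_all7_1 c (by omega) (by omega)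
  rcases Nat.lt_or_ge c 189 with h2 | h2
  · exact allFrom_iff _ _ _ moveOK_all7_2 c (by omega) (by omega)
  rcases Nat.lt_or_ge c 252 with h3 | h3
  · exact allFrom_iff _ _ _ moveOK_all7_3 c (by omega) (by omega)
  rcases Nat.lt_or_ge c 315 with h4 | h4
  · exact allFrom_iff _ _ _ moveOK_all7_4 c (by omega) (by omega)
  exact allFrom_iff _ _ _ moveOK_all7_5 c (by omega) (by omega)

private theorem edgeOK_all7_0 : allFrom (edgeOK 7) 0 42 = true := by decide +kernel

private theorem edgeOK_all7_1 : allFrom (edgeOK 7) 42 42 = true := by decide +kernel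

private theorem edgeOK_all7_2 : allFrom (edgeOK 7) 84 42 = true := by decide +kernel

private theorem edgeOK_all7_3 : allFrom (edgeOK 7) 126 42 = true := by decide +kernel

private theorem edgeOK_all7_4 : allFrom (edgeOK 7) 168 42 = true := by decide +kernel

private theorem edgeOK_all7_5 : allFrom (edgeOK 7) 210 42 = true := by decide +kernel

private theorem edgeOK_all7_6 : allFrom (edgeOK 7) 252 42 = true := by decide +kernel

private theorem edgeOK_all7_7 : allFrom (edgeOK 7) 294 42 = true := by decide +kernel

private theorem edgeOK_all7_8 : allFrom (edgeOK 7) 336 42 = true := by decide +kernel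

theorem edgeOK_all7 {c : ℕ} (h : c < 378) : (edgeOK 7) c = true := by
  rcases Nat.lt_or_ge c 42 with h0 | h0
  · exact allFrom_iff _ _ _ edgeOK_all7_0 c (by omega) (by omega)
  rcases Nat.lt_or_ge c 84 with h1 | h1
  · exact allFrom_iff _ _ _ edgeOK_all7_1 c (by omega) (by omega)
  rcases Nat.lt_or_ge c 126 with h2 | h2
  · exact allFrom_iff _ _ _ edgeOK_all7_2 c (by omega) (by omega)
  rcases Nat.lt_or_ge c 168 with h3 | h3
  · exact allFrom_iff _ _ _ edgeOK_all7_3 c (by omega) (by omega)
  rcases Nat.lt_or_ge c 210 with h4 | h4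
  · exact allFrom_iff _ _ _ edgeOK_all7_4 c (by omega) (by omega)
  rcases Nat.lt_or_ge c 252 with h5 | h5
  · exact allFrom_iff _ _ _ edgeOK_all7_5 c (by omega) (by omega)
  rcases Nat.lt_or_ge c 294 with h6 | h6
  · exact allFrom_iff _ _ _ edgeOK_all7_6 c (by omega) (by omega)
  rcases Nat.lt_or_ge c 336 with h7 | h7
  · exact allFrom_iff _ _ _ edgeOK_all7_7 c (by omega) (by omega)
  exact allFrom_iff _ _ _ edgeOK_all7_8 c (by omega) (by omega)

end Cfsg.Agent.O73CoverChecks60
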