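import Mathlib
import Cfsg.Agent.Lib.O73CoverEdges0_60
import Cfsg.Agent.Lib.O73CoverEdges1_60
import Cfsg.Agent.Lib.EdgeVoltageCover60

/-!
A triple cover of `Ω₇(3)` from voltages on the 378 lines of plus type of the natural module.
-/

set_option autoImplicit false
set_option maxRecDepth 100000
set_option linter.style.haveILetI false

namespace Cfsg.Agent.O73Cover60

open Matrix
open Cfsg.Agent.CosetCertCore Cfsg.Agent.CosetCertPres Cfsg.Agent.CosetCertRestrict
open Cfsg.Agent.CosetCertO73Iso (K73 O7 pos)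
open Cfsg.Agent.O73CoverData60 Cfsg.Agent.O73CoverChecks60

theorem moveOK_all (k : Fin 8) {c : ℕ} (h : c < 378) : moveOK k c = true := by
  fin_cases k
  exacts [moveOK_all0 h, moveOK_all1 h, moveOK_all2 h, moveOK_all3 h, moveOK_all4 h, moveOK_all5 h,
    moveOK_all6 h, moveOK_all7 h]

theorem edgeOK_all (k : Fin 8) {c : ℕ} (h : c < 378) : edgeOK k c = true := by
  fin_cases k
  exacts [edgeOK_all0 h, edgeOK_all1 h, edgeOK_all2 h, edgeOK_all3 h, edgeOK_all4 h, edgeOK_all5 h,
    edgeOK_all6 h, edgeOK_all7 h]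

/-- the coordinate index set -/
abbrev I := Unit ⊕ (Fin 3 ⊕ Fin 3)

/-- a vector from its code -/
def vec (v : ℕ) : I → ZMod 3 := fun x => (O73CoverChecks60.dig v (pos x).1 : ℕ)

/-- the coordinate with a given number -/
def ix : Fin 7 → I := ![.inl (), .inr (.inl 0), .inr (.inl 1), .inr (.inl 2), .inr (.inr 0), .inr (.inr 1), .inr (.inr 2)]

/-- a code from a vector -/
def codeOf (w : I → ZMod 3) : ℕ :=
  (w (ix 0)).val + (w (ix 1)).val <<< 2 + (w (ix 2)).val <<< 4 + (w (ix 3)).val <<< 6 + (w (ix 4)).val <<< 8 +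
    (w (ix 5)).val <<< 10 + (w (ix 6)).val <<< 12

theorem pt_facts {c : ℕ} (h : c < 378) :
    code c < negCode (code c) ∧ (∀ j < 7, O73CoverChecks60.dig (code c) j < 3) ∧
      negCode (negCode (code c)) = code c ∧
      (c + 1 < 378 → code c < code (c + 1)) ∧ par c < 378 ∧ par (par c) = root ∧
      (c = root ∨ slot (par c) c ≠ 0) := by
  have := ptOK_all h
  simp only [ptOK, Bool.and_eq_true, Bool.or_eq_true, beq_iff_eq, Bool.not_eq_true', beq_eq_false_iff_ne] at this
  obtain ⟨⟨⟨⟨⟨⟨h1, h2⟩, h3⟩, h4⟩, h5⟩, h6⟩, h7⟩ := this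
  refine ⟨by simpa [Nat.blt] using h1, fun j hj => ?_, h3, fun hc => ?_, by simpa [Nat.blt] using h5, h6, h7⟩
  · simpa [Nat.blt] using allFrom_iff _ _ _ h2 j (by omega) (by omega)
  · rcases h4 with h4 | h4
    · omega
    · simpa [Nat.blt] using h4

theorem neg_digit : ∀ d < 3, (-((d : ℕ) : ZMod 3)).val = (3 - d) % 3 := by decide

theorem dig_split (v : ℕ) (hv : v < 16384) : O73CoverChecks60.dig v 0 + O73CoverChecks60.dig v 1 <<< 2 +
    O73CoverChecks60.dig v 2 <<< 4 + O73CoverChecks60.dig v 3 <<< 6 + O73CoverChecks60.dig v 4 <<< 8 +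
    O73CoverChecks60.dig v 5 <<< 10 + O73CoverChecks60.dig v 6 <<< 12 = v := by
  simp only [O73CoverChecks60.dig, show (3 : ℕ) = 2 ^ 2 - 1 from rfl, Nat.and_two_pow_sub_one_eq_mod,
    Nat.shiftRight_eq_div_pow, Nat.shiftLeft_eq]
  omega

theorem codeOf_vec {c : ℕ} (h : c < 378) :
    codeOf (vec (code c)) = code c ∧ codeOf (-vec (code c)) = negCode (code c) := by
  obtain ⟨-, h2, -, -⟩ := pt_facts h
  have hd : ∀ j : Fin 7, (vec (code c) (ix j)).val = O73CoverChecks60.dig (code c) j.1 ∧
      ((-vec (code c)) (ix j)).val = (3 - O73CoverChecks60.dig (code c) j.1) % 3 := by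
    intro j
    have e : (pos (ix j)).1 = j.1 := by fin_cases j <;> rfl
    rw [Pi.neg_apply, vec, e, ZMod.val_natCast, Nat.mod_eq_of_lt (h2 _ j.2), neg_digit _ (h2 _ j.2)]
    exact ⟨rfl, rfl⟩
  refine ⟨?_, ?_⟩
  · rw [codeOf, (hd 0).1, (hd 1).1, (hd 2).1, (hd 3).1, (hd 4).1, (hd 5).1, (hd 6).1]
    exact dig_split _ (Nat.lt_succ_of_le (Nat.and_le_right (n := (codeTab >>> (14 * c))) (m := 16383)))
  · rw [codeOf, (hd 0).2, (hd 1).2, (hd 2).2, (hd 3).2, (hd 4).2, (hd 5).2, (hd 6).2]
    rfl

theorem code_strictMono {c d : ℕ} (hcd : c < d) (hd : d < 378) : code c < code d := by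
  induction d with
  | zero => omega
  | succ d ih =>
    have := (pt_facts (show d < 378 by omega)).2.2.2.1 hd
    rcases Nat.lt_or_ge c d with h | h
    · exact lt_trans (ih h (by omega)) this
    · rw [show c = d by omega]; exact this

theorem vec_eq_imp {c d : Fin 378} (h : vec (code c) = vec (code d) ∨ vec (code c) = -vec (code d)) : c = d := by
  obtain ⟨c1, c2⟩ := codeOf_vec c.2
  obtain ⟨d1, d2⟩ := codeOf_vec d.2
  have e : code c = code d := by
    rcases h with h | h
    · rw [← c1, h, d1]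
    have e1 : code c = negCode (code d) := by rw [← c1, h, d2]
    have hd3 : negCode (negCode (code d)) = code d := (pt_facts d.2).2.2.1
    have e2 : negCode (code c) = code d := by rw [e1, hd3]
    have hc := (pt_facts c.2).1
    have hd := (pt_facts d.2).1
    omega
  rcases lt_trichotomy c.1 d.1 with hl | hl | hl
  · exact absurd e (code_strictMono hl d.2).ne
  · exact Fin.ext hl
  · exact absurd e (code_strictMono hl c.2).ne'

theorem mat_mulVec (k : Fin 8) (v : ℕ) (x : I) :
    (CosetCertO73Iso.mat k *ᵥ vec v) x = (O73CoverChecks60.dot (mcode k) v (pos x).1 : ℕ) := by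
  rw [O73CoverChecks60.dot, ZMod.natCast_mod]
  simp [CosetCertO73Iso.mat, CosetCertO73Iso.toMat, CosetCertO73Iso.code, mcode, Matrix.mulVec, dotProduct,
    vec, pos, CosetCertO73Iso.dig, O73CoverChecks60.dig, Fintype.sum_sum_type, Fin.sum_univ_three,
    add_assoc]

theorem move_facts (k : Fin 8) {c : ℕ} (h : c < 378) :
    nx k c < 378 ∧ nx k (nx k c) = c ∧ vo k c < 3 ∧ (vo k c + vo k (nx k c)) % 3 = 0 ∧
      (CosetCertO73Iso.mat k *ᵥ vec (code c) = vec (code (nx k c)) ∨
        CosetCertO73Iso.mat k *ᵥ vec (code c) = -vec (code (nx k c))) := by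
  have := moveOK_all k h
  simp only [moveOK, Bool.and_eq_true, Bool.or_eq_true, beq_iff_eq] at this
  obtain ⟨⟨⟨⟨h1, h2⟩, h3⟩, h4⟩, h6⟩ := this
  have hn : nx k c < 378 := by simpa [Nat.blt] using h1
  refine ⟨hn, h2, by simpa [Nat.blt] using h3, h4, ?_⟩
  rcases h6 with h6 | h6
  · refine Or.inl (funext fun x => ?_)
    rw [mat_mulVec, vec, beq_iff_eq.1 (allFrom_iff _ _ _ h6 (pos x).1 (by omega) (by omega))]
  · refine Or.inr (funext fun x => ?_)
    have hneg : ∀ d < 3, (((3 - d) % 3 : ℕ) : ZMod 3) = -((d : ℕ) : ZMod 3) := by decide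
    rw [mat_mulVec, Pi.neg_apply, vec, beq_iff_eq.1 (allFrom_iff _ _ _ h6 (pos x).1 (by omega) (by omega)),
      hneg _ ((pt_facts hn).2.1 _ (pos x).2)]

/-- the action of the presented group on the natural module -/
noncomputable def φ : Pres.Grp K73 →* O7 := PresentedGroup.toGroup
  (lift_rels CosetCertO73.good (by decide +kernel) CosetCertO73Iso.iso CosetCertO73Iso.iso_sq
    CosetCertO73Iso.iso_rel (by decide +kernel))

theorem φ_of (k : Fin 8) : φ (PresentedGroup.of k) = CosetCertO73Iso.iso k := by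
  refine (PresentedGroup.toGroup.of _).trans (congrArg CosetCertO73Iso.iso ?_)
  revert k
  decide +kernel

theorem φ_injective : Function.Injective φ := by
  haveI := CosetCertO73Simple.simple
  rw [← MonoidHom.ker_eq_bot_iff]
  refine (Subgroup.Normal.eq_bot_or_eq_top inferInstance).resolve_right fun htop => ?_
  have h1 : φ (PresentedGroup.of (0 : Fin 8)) = 1 := by
    rw [← MonoidHom.mem_ker, htop]; exact Subgroup.mem_top _
  rw [φ_of] at h1
  exact absurd (congrArg (fun u : O7 => u.1.1) h1) (by show CosetCertO73Iso.mat 0 ≠ 1; decide +kernel)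

theorem finite_grp : Finite (Pres.Grp K73) :=
  Nat.finite_of_card_ne_zero (by rw [CosetCertO73Iso.card_k]; decide)

/-- the labelled pairs -/
def Edge (i j : Fin 378) (f : ZMod 3) : Prop := slot i j ≠ 0 ∧ f = ((slot i j + 2 : ℕ) : ZMod 3)

/-- the setup -/
noncomputable def setup : EdgeVoltageCover60.Setup (Pres.Grp K73) (Set (I → ZMod 3)) 378 (ZMod 3) where
  act g A := (fun v => ((φ g).1.1 : Matrix I I (ZMod 3)) *ᵥ v) '' A
  act_one A := by simp
  act_mul g h A := by
    rw [Set.image_image]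
    refine Set.image_congr fun v _ => ?_
    rw [Matrix.mulVec_mulVec, map_mul]
    rfl
  obj c := {vec (code c), -vec (code c)}
  obj_inj c d h := by
    have : vec (code c) ∈ ({vec (code d), -vec (code d)} : Set (I → ZMod 3)) := by
      have h : ({vec (code c), -vec (code c)} : Set (I → ZMod 3)) = {vec (code d), -vec (code d)} := h
      rw [← h]; exact Set.mem_insert _ _
    exact vec_eq_imp (this.imp id Set.mem_singleton_iff.1)
  E := Edge
  E_fun h h' := h.2.trans h'.2.symm
  root := ⟨root, by decide⟩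
  par c := ⟨par c % 378, Nat.mod_lt _ (by norm_num)⟩
  depth := 2
  par_root c := by
    obtain ⟨-, -, -, -, h5, h6, -⟩ := pt_facts c.2
    refine Fin.ext ?_
    simp only [Function.iterate_succ, Function.iterate_zero, id_eq, Function.comp_apply]
    rw [Nat.mod_eq_of_lt h5, h6]
    decide
  par_edge c := by
    obtain ⟨-, -, -, -, h5, -, h7⟩ := pt_facts c.2
    rcases h7 with h | h
    · exact Or.inl (Fin.ext h)
    · exact Or.inr ⟨_, Or.inl ⟨by show slot (par c.1 % 378) c.1 ≠ 0; rw [Nat.mod_eq_of_lt h5]; exact h, rfl⟩⟩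

/-- the point map of a generator -/
def sFun (k : Fin 8) (c : Fin 378) : Fin 378 := ⟨nx k c, (move_facts k c.2).1⟩

/-- the affine map of a generator -/
def lf (k : Fin 8) (x : Fin 378 × ZMod 3) : Fin 378 × ZMod 3 := (sFun k x.1, (vo k x.1 : ℕ) + x.2)

theorem lf_inv (k : Fin 8) : Function.Involutive (lf k) := by
  intro x
  obtain ⟨-, h2, -, h4, -⟩ := move_facts k x.1.2
  refine Prod.ext (Fin.ext h2) ?_
  show ((vo k (nx k x.1) : ℕ) : ZMod 3) + ((vo k x.1 : ℕ) + x.2) = x.2
  rw [← add_assoc, ← Nat.cast_add, add_comm (vo k (nx k x.1)), ← ZMod.natCast_mod, h4, Nat.cast_zero, zero_add]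

/-- the lift of a generator -/
def lift (k : Fin 8) : Equiv.Perm (Fin 378 × ZMod 3) := Function.Involutive.toPerm (lf k) (lf_inv k)

theorem lift_sq (k : Fin 8) : lift k * lift k = 1 := Equiv.ext (lf_inv k)

theorem label_eq : ∀ s < 4, ∀ a < 3, ∀ b < 3,
    ((((s + 2 + a + 2 * b) % 3 + 1 + 2 : ℕ)) : ZMod 3) = ((s + 2 : ℕ) : ZMod 3) + (a : ℕ) - (b : ℕ) := by
  decide

theorem lift_mem [Finite (Pres.Grp K73)] (k : Fin 8) :
    ((PresentedGroup.of k : Pres.Grp K73), lift k) ∈ EdgeVoltageCover60.cover setup := by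
  refine ⟨sFun k, fun c => (vo k c : ℕ), fun c a => rfl, fun c => ?_, ?_⟩
  · show (fun v => ((φ (PresentedGroup.of k)).1.1 : Matrix I I (ZMod 3)) *ᵥ v) '' {_, _} = _
    rw [Set.image_pair, Matrix.mulVec_neg, φ_of]
    show ({CosetCertO73Iso.mat k *ᵥ vec (code c), -(CosetCertO73Iso.mat k *ᵥ vec (code c))} : Set (I → ZMod 3))
      = {vec (code (sFun k c)), -vec (code (sFun k c))}
    rcases (move_facts k c.2).2.2.2.2 with e | e <;> rw [e]
    · rfl
    · rw [neg_neg, Set.pair_comm]; rfl
  · rintro i j f ⟨hs, rfl⟩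
    have h := allFrom_iff _ _ _ (edgeOK_all k i.2) j.1 (by omega) (by omega)
    simp only [Bool.or_eq_true, beq_iff_eq] at h
    have e := h.resolve_left hs
    refine ⟨?_, ?_⟩
    · show slot (nx k i) (nx k j) ≠ 0
      rw [e]; omega
    · show _ = ((slot (nx k i) (nx k j) + 2 : ℕ) : ZMod 3)
      have h4 : slot i.1 j.1 < 4 := by
        have : slot i.1 j.1 ≤ 3 := Nat.and_le_right
        omega
      rw [e, label_eq _ h4 _ (move_facts k i.2).2.2.1 _ (move_facts k j.2).2.2.1]

theorem wit_value : ((wit.map lift).prod (⟨root, by decide⟩, 0)).2 = (2 : ZMod 3) := by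
  decide +kernel

theorem wit_matrix : (wit.map fun k : Fin 8 => CosetCertO73Iso.mat k).prod = 1 := by
  have h : CosetCertO73Iso.chk (wit.map Fin.val) CosetCertO73Iso.oneC = true := by decide +kernel
  have := CosetCertO73Iso.chk_sound _ _ h
  rw [CosetCertO73Iso.toMat_one, one_mul, List.map_map] at this
  exact this

theorem wit_rel : (wit.map fun k => (PresentedGroup.of k : Pres.Grp K73)).prod = 1 := by
  refine φ_injective (Subtype.ext (Units.ext ?_))
  rw [map_one, map_list_prod]
  have hval : ∀ l : List (Fin 8),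
      (((l.map fun k => φ (PresentedGroup.of k : Pres.Grp K73)).prod : O7) : Matrix.GeneralLinearGroup I (ZMod 3)).1 =
        (l.map fun k : Fin 8 => CosetCertO73Iso.mat k).prod := by
    intro l
    induction l with
    | nil => rfl
    | cons a l ih =>
      rw [List.map_cons, List.prod_cons, List.map_cons, List.prod_cons, Subgroup.coe_mul, Units.val_mul, ih, φ_of]
      rfl
  rw [List.map_map]
  exact (hval wit).trans wit_matrix

/-- the triple cover -/
theorem exists_cover : ∃ (Γ : Type) (_ : Group Γ) (_ : Finite Γ) (σ : Γ →* Pres.Grp K73),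
    Cfsg.IsStemExtension σ ∧ Nat.card σ.ker = 3 := by
  haveI := finite_grp
  set S := setup
  set cv := EdgeVoltageCover60.cover S
  have hgen : Subgroup.closure (Set.range fun k : Fin 8 => (PresentedGroup.of k : Pres.Grp K73)) = ⊤ :=
    PresentedGroup.closure_range_of _
  have hsurj := EdgeVoltageCover60.proj_surjective S lift lift_mem hgen
  set p := EdgeVoltageCover60.proj S
  let L : Fin 8 → cv := fun k => ⟨_, lift_mem k⟩
  have hL2 : ∀ k, L k * L k = 1 := by
    intro k
    have e1 : (PresentedGroup.of k : Pres.Grp K73) * PresentedGroup.of k = 1 := φ_injective (by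
      rw [map_mul, map_one, φ_of]; exact CosetCertO73Iso.iso_sq _)
    exact Subtype.ext (Prod.ext e1 (lift_sq k))
  have hc : p.ker ≤ Subgroup.center cv := EdgeVoltageCover60.ker_le_center S
  have hperf : commutator (Pres.Grp K73) = ⊤ := CosetCertO73Iso.perfect
  -- the lifts are commutators
  have hk3 : ∀ z ∈ p.ker, z ^ 3 = 1 := by
    rw [← EdgeVoltageCover60.shiftHom_range S]
    rintro _ ⟨b, rfl⟩
    rw [← map_pow, show b ^ 3 = 1 from Multiplicative.toAdd.injective (by
      rw [toAdd_pow, toAdd_one]; exact (nsmul_eq_mul 3 b.toAdd).trans (by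
        rw [show ((3 : ℕ) : ZMod 3) = 0 from rfl, zero_mul])), map_one]
  have hLc : ∀ k, L k ∈ commutator cv := by
    intro k
    have hm : (commutator cv).map p = ⊤ := by
      rw [_root_.commutator_def, Subgroup.map_commutator, Subgroup.map_top_of_surjective _ hsurj,
        ← _root_.commutator_def, hperf]
    obtain ⟨w, hw, hwk⟩ : p (L k) ∈ (commutator cv).map p := hm ▸ Subgroup.mem_top _
    have hz : w⁻¹ * L k ∈ p.ker := by rw [MonoidHom.mem_ker, map_mul, map_inv, hwk, inv_mul_cancel]
    set z := w⁻¹ * L k with hz'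
    have e : L k = w * z := by rw [hz', mul_inv_cancel_left]
    have hcz := Subgroup.mem_center_iff.1 (hc hz) w
    have h2 : (w * w) * (z * z) = 1 := by
      have hcom : Commute z w := hcz.symm
      rw [← hL2 k, e, hcom.symm.mul_mul_mul_comm]
    have hz2 : z * z ∈ commutator cv := by
      rw [eq_inv_of_mul_eq_one_right h2]; exact inv_mem (mul_mem hw hw)
    have hzz : z ∈ commutator cv := by
      have : z = (z * z) ^ 2 := by
        rw [← sq, ← pow_mul, pow_succ _ 3, hk3 z hz, one_mul]
      rw [this]; exact pow_mem hz2 2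
    rw [e]; exact mul_mem hw hzz
  -- the witness relator
  have hprod : ((wit.map L).prod : cv) ∈ commutator cv :=
    list_prod_mem (by simp only [List.mem_map]; rintro x ⟨k, -, rfl⟩; exact hLc k)
  have hval : ∀ l : List (Fin 8), ((l.map L).prod : cv).1 =
      ((l.map fun k => (PresentedGroup.of k : Pres.Grp K73)).prod, (l.map lift).prod) := by
    intro l
    induction l with
    | nil => rfl
    | cons a l ih => rw [List.map_cons, List.prod_cons, Subgroup.coe_mul, ih]; rfl
  obtain ⟨b, hb⟩ := EdgeVoltageCover60.eq_shift S (p := ((wit.map L).prod : cv).1) (SetLike.coe_mem _)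
    (fun c => by rw [hval, wit_rel, S.act_one])
  have hb2 : b = 2 := by
    have h := congrArg (fun e : Equiv.Perm (Fin 378 × ZMod 3) => (e (⟨root, by decide⟩, 0)).2) hb
    simp only [hval, EdgeVoltageCover60.shift_apply, add_zero] at h
    exact h.symm.trans wit_value
  have hone : EdgeVoltageCover60.shiftHom S (Multiplicative.ofAdd (2 : ZMod 3)) ∈ commutator cv := by
    have e : EdgeVoltageCover60.shiftHom S (Multiplicative.ofAdd (2 : ZMod 3)) = (wit.map L).prod := by
      refine Subtype.ext (Prod.ext ?_ ?_)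
      · rw [hval, wit_rel]; rfl
      · rw [hb, hb2]; rfl
    rw [e]; exact hprod
  have hall : ∀ b, EdgeVoltageCover60.shiftHom S b ∈ commutator cv := by
    intro b
    have hb : b = Multiplicative.ofAdd (2 : ZMod 3) ^ (2 * b.toAdd.val) := by
      refine Multiplicative.toAdd.injective ?_
      rw [toAdd_pow, toAdd_ofAdd, nsmul_eq_mul, Nat.cast_mul, ZMod.natCast_zmod_val]
      generalize b.toAdd = x
      revert x
      decide
    rw [hb, map_pow]
    exact pow_mem hone _
  refine ⟨cv, inferInstance, inferInstance, p, EdgeVoltageCover60.isStemExtension S hsurj hall, ?_⟩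
  rw [← EdgeVoltageCover60.shiftHom_range S,
    ← Nat.card_congr (MonoidHom.ofInjective (EdgeVoltageCover60.shiftHom_injective S 0)).toEquiv,
    Nat.card_congr Multiplicative.toAdd, Nat.card_zmod]

end Cfsg.Agent.O73Cover60
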