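import Mathlib
import Cfsg.Prelude.Def_Classical
import Cfsg.Agent.Lib.O73Roots99
import Cfsg.Agent.Lib.O73Check99
import Cfsg.Agent.Lib.OrthUnitaryStd

/-!
The seven dimensional orthogonal group over the field with three elements: the unitriangular Sylow
subgroup and the reduction of elements of order three to seven representatives.
-/

set_option autoImplicit false

namespace Cfsg.Agent.O73Group99

open Matrix
open Cfsg.Agent.O73Code99
open Cfsg.Agent.O73Roots99
open Cfsg.Agent.O73Check99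

abbrev Qf : (Ix → ZMod 3) → ZMod 3 := Cfsg.quadFormOdd 3 (ZMod 3)

abbrev G7 : Type := ↥(Cfsg.isometryGroup (ZMod 3) Qf)

abbrev Om : Subgroup G7 := Cfsg.Omega (ZMod 3) Qf

/-- The matrix of an element. -/
def mt : G7 →* M7 :=
  (Units.coeHom M7).comp (Cfsg.isometryGroup (ZMod 3) Qf).subtype

theorem mt_inj : Function.Injective mt := fun _ _ h => Subtype.ext (Units.ext h)

theorem mt_isom (g : G7) (v : Ix → ZMod 3) : Qf (mt g *ᵥ v) = Qf v := g.2 v v

def mkG (A : M7) (h3 : A ^ 3 = 1) (hQ : ∀ v, Qf (A *ᵥ v) = Qf v) : G7 :=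
  ⟨⟨A, A ^ 2, by rw [← pow_succ']; exact h3, by rw [← pow_succ]; exact h3⟩, fun u _ => hQ u⟩

theorem mt_mkG (A : M7) (h3 hQ) : mt (mkG A h3 hQ) = A := rfl

theorem root_cube {r : ℕ} (hr : r < 12) : root r ^ 3 = 1 := by
  apply enc_inj
  rw [← enc_pow, enc_root hr, enc_one]
  have key : ∀ r : Fin 12, powC (rootC r.val) 3 = I7 := by decide +kernel
  exact key ⟨r, hr⟩

theorem root_isom {r : ℕ} (hr : r < 12) (v : Ix → ZMod 3) : Qf (root r *ᵥ v) = Qf v := by
  interval_cases r <;>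
    simp [Qf, root, rA, rB, rS, rT, xx, yy, zz, Cfsg.quadFormOdd, Matrix.add_mulVec,
      Matrix.single_mulVec, Fin.sum_univ_three] <;> ring

def rootG (r : ℕ) : G7 := if h : r < 12 then mkG (root r) (root_cube h) (root_isom h) else 1

theorem mt_rootG (r : ℕ) : mt (rootG r) = root r := by
  unfold rootG
  split_ifs with h
  · rfl
  · obtain ⟨n, rfl⟩ : ∃ n, r = n + 12 := ⟨r - 12, by omega⟩
    rw [map_one]
    rfl

def wordG (w : List ℕ) : G7 := w.foldr (fun r A => rootG r * A) 1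

theorem mt_wordG : ∀ w, mt (wordG w) = wordM w
  | [] => map_one mt
  | r :: w => by
    show mt (rootG r * wordG w) = root r * wordM w
    rw [map_mul, mt_rootG, mt_wordG w]

def genG (k : ℕ) : G7 := wordG (genWords.getD k [])

theorem mt_genG (k : ℕ) : mt (genG k) = gen k := mt_wordG _

def suffG : ℕ → ℕ → G7
  | 0, _ => 1
  | k + 1, d => rootG (8 - k) ^ (d / 3 ^ k) * suffG k (d % 3 ^ k)

theorem mt_suffG : ∀ k d, mt (suffG k d) = suff k d
  | 0, _ => map_one mt
  | k + 1, d => by rw [suffG, suff, map_mul, map_pow, mt_rootG, mt_suffG k]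

/-- The element with parameter `p`. -/
def uG (p : ℕ) : G7 := suffG 9 p

theorem mt_uG (p : ℕ) : mt (uG p) = prodU p := mt_suffG 9 p

theorem enc_uG (p : ℕ) : enc (mt (uG p)) = suffC 9 p := by rw [mt_uG, enc_suff]; rfl

theorem dec_uG {p : ℕ} (hp : p < 19683) : dec (enc (prodU p)) = p := by
  have h := chk_all hp
  rw [chk, Bool.and_eq_true] at h
  exact beq_iff_eq.1 h.1

theorem uG_inj : Function.Injective fun p : Fin 19683 => uG p.val := by
  intro p q h
  apply Fin.ext
  rw [← dec_uG p.2, ← dec_uG q.2, ← mt_uG, ← mt_uG]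
  exact congrArg (fun g => dec (enc (mt g))) h

/-! ### The unitriangular group -/

/-- The position of an index in a flag adapted to the form. -/
def rk : Ix → ℕ := Sum.elim (fun _ => 3) (Sum.elim (fun i => i.val) (fun i => 6 - i.val))

def Shift (k : ℕ) (N : M7) : Prop := ∀ i j, rk j < rk i + k → N i j = 0

theorem Shift.mono {k l : ℕ} {N : M7} (h : Shift k N) (hl : l ≤ k) : Shift l N :=
  fun i j hij => h i j (by omega)

theorem Shift.mul {k l : ℕ} {N M : M7} (hN : Shift k N) (hM : Shift l M) :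
    Shift (k + l) (N * M) := by
  intro i j hij
  rw [Matrix.mul_apply]
  refine Finset.sum_eq_zero fun a _ => ?_
  by_cases h : rk a < rk i + k
  · rw [hN i a h, zero_mul]
  · rw [hM a j (by omega), mul_zero]

theorem Shift.add {k : ℕ} {N M : M7} (hN : Shift k N) (hM : Shift k M) : Shift k (N + M) :=
  fun i j h => by rw [Matrix.add_apply, hN i j h, hM i j h, add_zero]

theorem Shift.pow {N : M7} (hN : Shift 1 N) : ∀ n, Shift n (N ^ n)
  | 0 => fun i j h => by
    rw [pow_zero, Matrix.one_apply_ne]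
    rintro rfl
    omega
  | n + 1 => by rw [pow_succ]; exact (Shift.pow hN n).mul hN

theorem rk_le (i : Ix) : rk i ≤ 6 := by
  revert i; decide

theorem pow_nine {A : M7} (hA : Shift 1 (A - 1)) : A ^ 9 = 1 := by
  have h0 : (A - 1) ^ 9 = 0 := by
    ext i j
    exact (Shift.pow hA 9) i j (by have := rk_le j; omega)
  have h9 : (A - 1) ^ 9 + 1 = A ^ 9 := by
    have h := add_pow_char_pow_of_commute (p := 3) (n := 2) (x := A - 1) (y := (1 : M7))
      (Commute.one_right _)
    rw [sub_add_cancel, one_pow] at h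
    exact h.symm
  rw [← h9, h0, zero_add]

def utMon : Submonoid G7 where
  carrier := {g | Shift 1 (mt g - 1)}
  one_mem' := fun i j _ => by simp
  mul_mem' {a b} ha hb := by
    show Shift 1 (mt (a * b) - 1)
    rw [map_mul, show mt a * mt b - 1 = (mt a - 1) * (mt b - 1) + (mt a - 1) + (mt b - 1) by
      noncomm_ring]
    exact (((ha.mul hb).mono (by omega)).add ha).add hb

theorem utMon_pow_nine {g : G7} (h : g ∈ utMon) : g ^ 9 = 1 :=
  mt_inj (by rw [map_pow, map_one, pow_nine h])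

/-- The unitriangular subgroup. -/
def UT : Subgroup G7 :=
  { utMon with
    inv_mem' := fun {g} h => by
      rw [inv_eq_of_mul_eq_one_right (b := g ^ 8) (by rw [← pow_succ', utMon_pow_nine h])]
      exact utMon.pow_mem h 8 }

theorem UT_pow_nine {g : G7} (h : g ∈ UT) : g ^ 9 = 1 := utMon_pow_nine h

theorem rootG_mem_UT {r : ℕ} (hr : r < 9) : rootG r ∈ UT := by
  show Shift 1 (mt (rootG r) - 1)
  rw [mt_rootG]
  have key : ∀ r : Fin 9, ∀ i j, rk j < rk i + 1 →
      (Matrix.of.symm (root r.val - 1)) i j = 0 := by decide +kernel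
  exact key ⟨r, hr⟩

theorem suffG_mem_UT : ∀ k d, suffG k d ∈ UT
  | 0, _ => one_mem _
  | k + 1, d => mul_mem (pow_mem (rootG_mem_UT (by omega)) _) (suffG_mem_UT k _)

theorem card_G7 : Nat.card G7 = 2 * 3 ^ 9 * (8 * 80 * 728) := by
  rw [Cfsg.Agent.OrthUnitaryForms.card_isometryGroup_odd (F := ZMod 3) (q := 3) (ZMod.card 3)
    (by decide) 3]
  simp [Finset.prod_range_succ]

theorem dvd_of_isPGroup {H : Type*} [Group H] [Finite H] (hH : IsPGroup 3 H)
    (h : Nat.card H ∣ Nat.card G7) : Nat.card H ≤ 19683 := by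
  obtain ⟨n, hn⟩ := IsPGroup.iff_card.1 hH
  rw [hn, card_G7] at h
  have h1 : Nat.Coprime (3 ^ n) (2 * (8 * 80 * 728)) := Nat.Coprime.pow_left n (by decide)
  rw [show 2 * 3 ^ 9 * (8 * 80 * 728) = 3 ^ 9 * (2 * (8 * 80 * 728)) by norm_num] at h
  have h2 := Nat.le_of_dvd (by norm_num) (h1.dvd_of_dvd_mul_right h)
  rw [hn]
  simpa using h2

theorem isPGroup_UT : IsPGroup 3 UT := fun g =>
  ⟨2, Subtype.ext (by simpa using UT_pow_nine g.2)⟩

theorem uG_mem_UT (p : ℕ) : uG p ∈ UT := suffG_mem_UT 9 p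

attribute [local irreducible] uG

theorem card_UT : Nat.card UT = 19683 := by
  refine le_antisymm (dvd_of_isPGroup isPGroup_UT (Subgroup.card_subgroup_dvd_card _)) ?_
  have := Nat.card_le_card_of_injective (fun p : Fin 19683 => (⟨uG p.val, uG_mem_UT _⟩ : UT))
    (fun p q h => uG_inj (congrArg Subtype.val h))
  simpa using this

theorem exists_param {g : G7} (hg : g ∈ UT) : ∃ p < 19683, uG p = g := by
  have hb : Function.Bijective (fun p : Fin 19683 => (⟨uG p.val, uG_mem_UT _⟩ : UT)) :=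
    Function.Injective.bijective_of_nat_card_le (fun p q h => uG_inj (congrArg Subtype.val h))
      (by rw [card_UT, Nat.card_fin])
  obtain ⟨p, hp⟩ := hb.2 ⟨g, hg⟩
  exact ⟨p.val, p.2, congrArg Subtype.val hp⟩

/-! ### The commutator subgroup -/

open Cfsg.Agent.OrthUnitaryForms in
theorem index_Om : Om.index = 4 := by
  have h2 : (2 : ZMod 3) ≠ 0 := by decide
  let φ := Cfsg.Agent.OrthUnitaryStd.stdIso
    (Cfsg.Agent.OrthUnitaryQuad.withBase 3 (qfSq (ZMod 3))) Qf (eqOdd 3) (eqOdd_isometry 3)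
  show (commutator G7).index = 4
  have h := (Cfsg.Agent.OrthUnitaryOmega.odd_main h2
    (Cfsg.Agent.OrthUnitaryQuad.isReg_withBase isReg_qfSq 3)).2
    (by rw [Cfsg.Agent.OrthUnitaryStd.finrank_withBase_space]; omega)
  rw [← Cfsg.Agent.OrthUnitaryOmega.map_commutator_equiv φ] at h
  exact (Subgroup.index_map_equiv (H := commutator G7) φ).symm.trans h

theorem mem_Om_of_pow_nine {g : G7} (h : g ^ 9 = 1) : g ∈ Om := by
  have h4 : g ^ 4 ∈ Om := by
    have := Subgroup.pow_index_mem (Om : Subgroup G7) g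
    rwa [index_Om] at this
  have : g = (g ^ 4) ^ 7 := by
    rw [← pow_mul, show 4 * 7 = 9 * 3 + 1 by norm_num, pow_succ, pow_mul, h, one_pow, one_mul]
  rw [this]
  exact pow_mem h4 7

theorem mem_Om_of_cube {g : G7} (h : g ^ 3 = 1) : g ∈ Om :=
  mem_Om_of_pow_nine (by rw [show 9 = 3 * 3 by norm_num, pow_mul, h, one_pow])

theorem UT_le_Om : UT ≤ Om := fun _ h => mem_Om_of_pow_nine (UT_pow_nine h)

theorem rootG_mem_Om (r : ℕ) : rootG r ∈ Om := by
  refine mem_Om_of_cube (mt_inj ?_)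
  rw [map_pow, mt_rootG, map_one]
  by_cases h : r < 12
  · exact root_cube h
  · obtain ⟨n, rfl⟩ : ∃ n, r = n + 12 := ⟨r - 12, by omega⟩
    exact one_pow 3

theorem wordG_mem_Om : ∀ w, wordG w ∈ Om
  | [] => one_mem _
  | r :: w => mul_mem (rootG_mem_Om r) (wordG_mem_Om w)

/-- Conjugacy by the commutator subgroup. -/
def OConj (a b : G7) : Prop := ∃ h ∈ Om, h * a * h⁻¹ = b

theorem OConj.trans {a b c : G7} (h : OConj a b) (h' : OConj b c) : OConj a c := by
  obtain ⟨x, hx, rfl⟩ := h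
  obtain ⟨y, hy, rfl⟩ := h'
  exact ⟨y * x, mul_mem hy hx, by group⟩

theorem OConj.symm {a b : G7} (h : OConj a b) : OConj b a := by
  obtain ⟨x, hx, rfl⟩ := h
  exact ⟨x⁻¹, inv_mem hx, by group⟩

theorem OConj.pow {a b : G7} (h : OConj a b) (n : ℕ) : OConj (a ^ n) (b ^ n) := by
  obtain ⟨x, hx, rfl⟩ := h
  exact ⟨x, hx, by rw [conj_pow]⟩

theorem exists_conj_UT {g : G7} (hg : g ^ 3 = 1) : ∃ b ∈ UT, OConj g b := by
  haveI : Fact (Nat.Prime 3) := ⟨by norm_num⟩
  let U' : Subgroup Om := UT.subgroupOf Om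
  have hU : IsPGroup 3 U' :=
    isPGroup_UT.of_equiv (Subgroup.subgroupOfEquivOfLe UT_le_Om).symm
  obtain ⟨S, hS⟩ := hU.exists_le_sylow
  have hcU : Nat.card U' = 19683 :=
    (Nat.card_congr (Subgroup.subgroupOfEquivOfLe UT_le_Om).toEquiv).trans card_UT
  have hSU : U' = (S : Subgroup Om) :=
    Subgroup.eq_of_le_of_card_ge hS (by
      rw [hcU]
      exact dvd_of_isPGroup S.isPGroup'
        ((Subgroup.card_subgroup_dvd_card _).trans (Subgroup.card_subgroup_dvd_card _)))
  let a : Om := ⟨g, mem_Om_of_cube hg⟩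
  have hA : IsPGroup 3 (Subgroup.zpowers a) := by
    rintro ⟨x, hx⟩
    obtain ⟨k, rfl⟩ := Subgroup.mem_zpowers_iff.1 hx
    refine ⟨1, Subtype.ext (Subtype.ext ?_)⟩
    show ((a ^ k : Om) : G7) ^ (3 ^ 1) = 1
    rw [Subgroup.coe_zpow, pow_one, ← zpow_natCast, ← _root_.zpow_mul, mul_comm, _root_.zpow_mul,
      zpow_natCast]
    show (g ^ 3) ^ k = 1
    rw [hg, _root_.one_zpow]
  obtain ⟨P, hP⟩ := hA.exists_le_sylow
  obtain ⟨h, hh⟩ := MulAction.exists_smul_eq Om P S
  refine ⟨(h * a * h⁻¹ : Om).1, ?_, h.1, h.2, rfl⟩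
  have : h * a * h⁻¹ ∈ (S : Subgroup Om) := by
    rw [← hh]
    exact Subgroup.smul_mem_pointwise_smul _ (MulAut.conj h) _ (hP (Subgroup.mem_zpowers a))
  rw [← hSU] at this
  exact this

/-! ### The table -/

def repP (i : ℕ) : ℕ := O73Data99.repParams.getD i 0

/-- The representatives. -/
def repG (i : Fin 7) : G7 := uG (repP i.val)

theorem edge {p : ℕ} (hp : p < 19683) : edgeOK p (enc (prodU p)) (entry p) = true := by
  have h := chk_all hp
  rw [chk, Bool.and_eq_true] at h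
  exact h.2

theorem entry_ne_zero {p : ℕ} (hp : p < 19683) (h0 : p ≠ 0) (h3 : uG p ^ 3 = 1) :
    entry p ≠ 0 := by
  intro he
  have h := edge hp
  rw [edgeOK, he] at h
  simp [h0] at h
  apply h
  rw [mul_enc, mul_enc, ← enc_one]
  have := congrArg (fun g => enc (mt g)) h3
  simpa [map_pow, mt_uG, pow_succ, mul_assoc] using this

theorem oconj_rep : ∀ n p, p < 19683 → entry p ≠ 0 → depOf (entry p) = n →
    ∃ i : Fin 7, labOf (entry p) = i.val + 1 ∧ OConj (uG p) (repG i) := by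
  intro n
  induction n using Nat.strong_induction_on with
  | _ n ih =>
    intro p hp he hn
    have h := edge hp
    rw [edgeOK, if_neg (by simpa using he), Bool.and_eq_true, decide_eq_true_eq] at h
    obtain ⟨⟨hl1, hl7⟩, h⟩ := h
    by_cases hg : genOf (entry p) = 15
    · rw [hg] at h
      simp at h
      refine ⟨⟨labOf (entry p) - 1, by omega⟩, by simp; omega, 1, one_mem _, ?_⟩
      have hp' : p = repP (labOf (entry p) - 1) := by simpa [repP] using h
      rw [one_mul, inv_one, mul_one, repG]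
      exact congrArg uG hp'
    · rw [if_neg (by simpa using hg)] at h
      simp only [Bool.and_eq_true, decide_eq_true_eq, beq_iff_eq, Bool.not_eq_true',
        beq_eq_false_iff_ne] at h
      obtain ⟨⟨⟨⟨⟨hk, hm⟩, hpar⟩, hne⟩, hlab⟩, hdep⟩ := h
      obtain ⟨i, hi, hc⟩ := ih _ (hn ▸ hdep) _ hpar hne rfl
      refine ⟨i, hlab ▸ hi, ?_⟩
      refine OConj.trans ⟨(genG (genOf (entry p)))⁻¹, inv_mem (wordG_mem_Om _), ?_⟩ hc
      have e : uG p * genG (genOf (entry p))
          = genG (genOf (entry p)) * uG (parOf (entry p)) := by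
        apply mt_inj
        rw [map_mul, map_mul, mt_genG, mt_uG, mt_uG]
        apply enc_inj
        rw [← mul_enc, ← mul_enc, enc_gen hk, hm, enc_suff]
        rfl
      rw [inv_inv, mul_assoc, e, inv_mul_cancel_left]

theorem classify {g : G7} (h3 : g ^ 3 = 1) (h1 : g ≠ 1) : ∃ i, OConj g (repG i) := by
  obtain ⟨b, hb, hgb⟩ := exists_conj_UT h3
  obtain ⟨p, hp, rfl⟩ := exists_param hb
  obtain ⟨x, hx, hxe⟩ := hgb
  have hb3 : uG p ^ 3 = 1 := by rw [← hxe, conj_pow, h3]; group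
  have hp0 : p ≠ 0 := by
    rintro rfl
    apply h1
    have hu : uG 0 = 1 := by
      apply mt_inj
      rw [mt_uG, map_one]
      apply enc_inj
      rw [prodU, ← enc_suff, enc_one]
      decide +kernel
    rw [hu] at hxe
    calc g = x⁻¹ * (x * g * x⁻¹) * x := by group
      _ = 1 := by rw [hxe]; group
  obtain ⟨i, -, hi⟩ := oconj_rep _ p hp (entry_ne_zero hp hp0 hb3) rfl
  exact ⟨i, OConj.trans ⟨x, hx, hxe⟩ hi⟩

def sqP (i : ℕ) : ℕ := O73Data99.sqParams.getD i 0

theorem rep_data : ∀ i : Fin 7, sqP i.val < 19683 ∧ entry (sqP i.val) ≠ 0 ∧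
    labOf (entry (sqP i.val)) = i.val + 1 ∧
    suffC 9 (sqP i.val) = mul (suffC 9 (repP i.val)) (suffC 9 (repP i.val)) ∧
    mul (suffC 9 (repP i.val)) (suffC 9 (sqP i.val)) = I7 ∧
    suffC 9 (repP i.val) ≠ I7 := by decide +kernel

theorem uG_sqP (i : Fin 7) : uG (sqP i.val) = repG i ^ 2 := by
  apply mt_inj
  apply enc_inj
  rw [enc_uG, map_pow, pow_two, ← mul_enc, repG, enc_uG]
  exact (rep_data i).2.2.2.1

theorem oconj_sq (i : Fin 7) : OConj (repG i ^ 2) (repG i) := by
  obtain ⟨h1, h2, h3, -⟩ := rep_data i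
  obtain ⟨j, hj, hc⟩ := oconj_rep _ _ h1 h2 rfl
  obtain rfl : i = j := Fin.ext (by omega)
  rwa [uG_sqP] at hc

theorem repG_cube (i : Fin 7) : repG i ^ 3 = 1 := by
  rw [pow_succ', ← uG_sqP]
  apply mt_inj
  apply enc_inj
  rw [map_mul, ← mul_enc, repG, enc_uG, enc_uG, map_one, enc_one]
  exact (rep_data i).2.2.2.2.1

theorem repG_ne_one (i : Fin 7) : repG i ≠ 1 := fun h =>
  (rep_data i).2.2.2.2.2 (by rw [← enc_uG, ← enc_one, ← map_one mt, ← h]; rfl)

theorem repG_not_central : ∀ i : Fin 7, ∃ r : Fin 12,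
    repG i * rootG r.val ≠ rootG r.val * repG i := by
  have key : ∀ i : Fin 7, ∃ r : Fin 12,
      mul (suffC 9 (repP i.val)) (rootC r.val) ≠ mul (rootC r.val) (suffC 9 (repP i.val)) := by
    decide +kernel
  intro i
  obtain ⟨r, hr⟩ := key i
  refine ⟨r, fun h => hr ?_⟩
  have := congrArg (fun g => enc (mt g)) h
  simp only [map_mul] at this
  rwa [← mul_enc, ← mul_enc, repG, enc_uG, mt_rootG, enc_root r.2] at this

end Cfsg.Agent.O73Group99
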