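import Mathlib
import Cfsg.Agent.Lib.O73Group99

/-!
The seven representatives of order three of the seven dimensional orthogonal group over the field
with three elements are pairwise not conjugate in the commutator subgroup.
-/

set_option autoImplicit false

namespace Cfsg.Agent.O73Inv99

open Matrix
open Cfsg.Agent.O73Code99
open Cfsg.Agent.O73Roots99
open Cfsg.Agent.O73Group99

/-- The nilpotent parts of the representatives. -/
def nilR : Fin 7 → M7 := ![
  single zz (yy 0) 2 + single (xx 0) zz 2 + single (xx 0) (yy 0) 2 + single (xx 1) (yy 2) 1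
    + single (xx 2) (yy 1) 2,
  single zz (yy 0) 1 + single (xx 0) zz 1 + single (xx 0) (yy 0) 2 + single (xx 1) (yy 2) 1
    + single (xx 2) (yy 1) 2,
  single (xx 1) (yy 2) 1 + single (xx 2) (yy 1) 2,
  single zz (yy 2) 2 + single (xx 2) zz 2 + single (xx 2) (yy 2) 2,
  single (xx 0) (xx 2) 1 + single (xx 0) (yy 1) 2 + single (xx 1) (yy 2) 1
    + single (xx 2) (yy 1) 2 + single (yy 2) (yy 0) 2,
  single (xx 0) (xx 2) 1 + single (xx 0) (yy 0) 1 + single (xx 0) (yy 2) 2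
    + single (xx 2) (yy 0) 1 + single (yy 2) (yy 0) 2,
  single zz (yy 1) 2 + single (xx 0) (xx 2) 1 + single (xx 0) (yy 0) 2 + single (xx 0) (yy 2) 1
    + single (xx 1) zz 2 + single (xx 1) (yy 1) 2 + single (xx 2) (yy 0) 2
    + single (yy 2) (yy 0) 2]

/-- The squares of the nilpotent parts. -/
def sqR : Fin 7 → M7 := ![
  single (xx 0) (yy 0) 1, single (xx 0) (yy 0) 1, 0, single (xx 2) (yy 2) 1,
  single (xx 0) (yy 1) 2 + single (xx 1) (yy 0) 2, single (xx 0) (yy 0) 2,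
  single (xx 0) (yy 0) 1 + single (xx 1) (yy 1) 1]

/-- The nilpotent part. -/
def nil (a : G7) : M7 := mt a - 1

theorem nil_repG (i : Fin 7) : nil (repG i) = nilR i := by
  have key : ∀ i : Fin 7, suffC 9 (repP i.val) = enc (nilR i + 1) := by decide +kernel
  have h : mt (repG i) = nilR i + 1 := enc_inj (by rw [repG, enc_uG]; exact key i)
  rw [nil, h, add_sub_cancel_right]

theorem nilR_sq (i : Fin 7) : nilR i * nilR i = sqR i := by
  apply enc_inj
  rw [← mul_enc]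
  have key : ∀ i : Fin 7, mul (enc (nilR i)) (enc (nilR i)) = enc (sqR i) := by decide +kernel
  exact key i

theorem nil_conj {a b h : G7} (e : h * a * h⁻¹ = b) : nil b * mt h = mt h * nil a := by
  have e' : b * h = h * a := by rw [← e]; group
  rw [nil, nil, sub_mul, mul_sub, one_mul, mul_one, ← map_mul, ← map_mul, e']

/-- The polar form. -/
def pol (u w : Ix → ZMod 3) : ZMod 3 := Qf (u + w) - Qf u - Qf w

theorem pol_isom (g : G7) (u w : Ix → ZMod 3) : pol (mt g *ᵥ u) (mt g *ᵥ w) = pol u w := by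
  rw [pol, pol, ← Matrix.mulVec_add, mt_isom, mt_isom, mt_isom]

theorem pol_eq (u w : Ix → ZMod 3) : pol u w = 2 * (u zz * w zz) +
    ∑ i : Fin 3, (u (xx i) * w (yy i) + u (yy i) * w (xx i)) := by
  simp [pol, Qf, Cfsg.quadFormOdd, zz, xx, yy, Fin.sum_univ_three]
  ring

def P1 (a : G7) : Prop := nil a * nil a = 0

def P3 (k : ZMod 3) (a : G7) : Prop :=
  ∃ v : Ix → ZMod 3, pol v ((nil a * nil a) *ᵥ v) = k

def P4 (a : G7) : Prop := ∃ v : Ix → ZMod 3, nil a *ᵥ v = 0 ∧ Qf v = 1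

theorem P1_conj {a b : G7} (hc : OConj a b) (h : P1 a) : P1 b := by
  obtain ⟨x, -, e⟩ := hc
  have e1 := nil_conj e
  have : nil b * nil b * mt x = 0 := by
    rw [mul_assoc, e1, ← mul_assoc, e1, mul_assoc, h, mul_zero]
  calc nil b * nil b = nil b * nil b * mt x * mt x⁻¹ := by
        rw [mul_assoc _ (mt x), ← map_mul, mul_inv_cancel, map_one, mul_one]
    _ = 0 := by rw [this, zero_mul]

theorem P3_conj {k : ZMod 3} {a b : G7} (hc : OConj a b) (h : P3 k a) : P3 k b := by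
  obtain ⟨x, -, e⟩ := hc
  obtain ⟨v, hv⟩ := h
  have e1 := nil_conj e
  refine ⟨mt x *ᵥ v, ?_⟩
  rw [Matrix.mulVec_mulVec, mul_assoc, e1, ← mul_assoc, e1, mul_assoc, ← Matrix.mulVec_mulVec,
    pol_isom, hv]

theorem P4_conj {a b : G7} (hc : OConj a b) (h : P4 a) : P4 b := by
  obtain ⟨x, -, e⟩ := hc
  obtain ⟨v, hv, hq⟩ := h
  refine ⟨mt x *ᵥ v, ?_, by rw [mt_isom, hq]⟩
  rw [Matrix.mulVec_mulVec, nil_conj e, ← Matrix.mulVec_mulVec, hv, Matrix.mulVec_zero]

/-- A vector from its coordinates. -/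
def vec (z a b c d e f : ZMod 3) : Ix → ZMod 3 :=
  Sum.elim (fun _ => z) (Sum.elim ![a, b, c] ![d, e, f])

theorem sq_ne_two : ∀ t : ZMod 3, t * t ≠ 2 := by decide

theorem P1_rep (i : Fin 7) : P1 (repG i) ↔ i = 2 := by
  rw [P1, nil_repG, nilR_sq]
  have key : ∀ i : Fin 7, enc (sqR i) = enc 0 ↔ i = 2 := by decide +kernel
  exact ⟨fun h => (key i).1 (by rw [h]), fun h => enc_inj ((key i).2 h)⟩

theorem P3_two (i : Fin 7) : (i = 4 ∨ i = 5 ∨ i = 6 → P3 2 (repG i)) ∧
    (i = 0 ∨ i = 1 ∨ i = 3 → ¬ P3 2 (repG i)) := by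
  refine ⟨fun h => ?_, fun h => ?_⟩
  · simp only [P3, nil_repG, nilR_sq]
    rcases h with rfl | rfl | rfl
    · refine ⟨vec 0 0 0 0 1 2 0, ?_⟩
      decide +kernel
    · refine ⟨vec 0 0 0 0 1 0 0, ?_⟩
      decide +kernel
    · refine ⟨vec 0 0 0 0 1 1 0, ?_⟩
      decide +kernel
  · rintro ⟨v, hv⟩
    rw [nil_repG, nilR_sq, pol_eq] at hv
    rcases h with rfl | rfl | rfl <;>
      simp [sqR, Matrix.single_mulVec, Fin.sum_univ_three, zz, xx, yy, Function.update_apply,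
        Pi.single_apply] at hv <;>
      exact sq_ne_two _ hv

theorem P3_one : P3 1 (repG 4) ∧ ¬ P3 1 (repG 5) := by
  refine ⟨?_, ?_⟩
  · simp only [P3, nil_repG, nilR_sq]
    refine ⟨vec 0 0 0 0 1 1 0, ?_⟩
    decide +kernel
  · rintro ⟨v, hv⟩
    rw [nil_repG, nilR_sq, pol_eq] at hv
    simp [sqR, Matrix.single_mulVec, Fin.sum_univ_three, zz, xx, yy, Pi.single_apply] at hv
    have key : ∀ t : ZMod 3, t * (2 * t) ≠ 1 := by decide
    exact key _ hv

theorem P4_rep (i : Fin 7) : (i = 3 ∨ i = 4 ∨ i = 5 → P4 (repG i)) ∧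
    (i = 0 ∨ i = 1 ∨ i = 6 → ¬ P4 (repG i)) := by
  refine ⟨fun h => ?_, fun h => ?_⟩
  · simp only [P4, nil_repG]
    rcases h with rfl | rfl | rfl
    · exact ⟨vec 0 0 1 0 0 1 0, by decide +kernel, by decide +kernel⟩
    · exact ⟨vec 1 0 0 0 0 0 0, by decide +kernel, by decide +kernel⟩
    · exact ⟨vec 1 0 0 0 0 0 0, by decide +kernel, by decide +kernel⟩
  · rintro ⟨v, hv, hq⟩
    rw [nil_repG] at hv
    have hz := congrFun hv zz
    have hx0 := congrFun hv (xx 0)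
    have hx1 := congrFun hv (xx 1)
    have hx2 := congrFun hv (xx 2)
    have hy2 := congrFun hv (yy 2)
    simp only [Qf, Cfsg.quadFormOdd, Fin.sum_univ_three] at hq
    rcases h with rfl | rfl | rfl <;>
      simp [nilR, Matrix.add_mulVec, Matrix.single_mulVec, zz, xx, yy, Pi.single_apply]
        at hz hx0 hx1 hx2 hy2
    all_goals
      revert hq hz hx0 hx1 hx2
      try revert hy2
      generalize v (Sum.inl ()) = a0
      generalize v (Sum.inr (Sum.inl 0)) = a1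
      generalize v (Sum.inr (Sum.inl 1)) = a2
      generalize v (Sum.inr (Sum.inl 2)) = a3
      generalize v (Sum.inr (Sum.inr 0)) = a4
      generalize v (Sum.inr (Sum.inr 1)) = a5
      generalize v (Sum.inr (Sum.inr 2)) = a6
      revert a0 a1 a2 a3 a4 a5 a6
      decide +kernel

/-! ### The representatives `0` and `1` -/

/-- The reflection of sign. -/
def Dv : Ix → ZMod 3 := fun i => if i = xx 0 ∨ i = yy 0 then -1 else 1

theorem Dv_sq (i : Ix) : Dv i * Dv i = 1 := by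
  unfold Dv; split_ifs <;> decide

def DG : G7 :=
  ⟨⟨Matrix.diagonal Dv, Matrix.diagonal Dv,
    by rw [Matrix.diagonal_mul_diagonal]; simp [Dv_sq],
    by rw [Matrix.diagonal_mul_diagonal]; simp [Dv_sq]⟩, fun u _ => by
    simp [Qf, Cfsg.quadFormOdd, Matrix.mulVec_diagonal, Dv, xx, yy, Fin.sum_univ_three]⟩

theorem mt_DG : mt DG = Matrix.diagonal Dv := rfl

def negG : G7 :=
  ⟨⟨-1, -1, by simp, by simp⟩, fun u _ => by
    simp [Qf, Cfsg.quadFormOdd, Matrix.neg_mulVec, Matrix.one_mulVec]⟩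

theorem mt_negG : mt negG = -1 := rfl

theorem det_Om {g : G7} (h : g ∈ Om) : (mt g).det = 1 := by
  let δ : G7 →* (ZMod 3)ˣ :=
    Matrix.GeneralLinearGroup.det.comp (Cfsg.isometryGroup (ZMod 3) Qf).subtype
  have := Abelianization.commutator_subset_ker δ h
  rw [MonoidHom.mem_ker] at this
  have h' := congrArg Units.val this
  simp only [δ, MonoidHom.comp_apply, Matrix.GeneralLinearGroup.val_det_apply, Units.val_one,
    Subgroup.coe_subtype] at h'
  show Matrix.det ((g.1 : Matrix.GeneralLinearGroup Ix (ZMod 3)) : M7) = 1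
  exact h'

theorem negDG_not_mem : negG * DG ∉ Om := by
  intro h
  have := det_Om h
  rw [map_mul, mt_negG, mt_DG, neg_one_mul, Matrix.det_neg, Matrix.det_diagonal] at this
  revert this
  decide +kernel

open Cfsg.Agent.OrthUnitaryForms Cfsg.Agent.OrthUnitaryQuad Cfsg.Agent.OrthUnitaryStd in
theorem DG_not_mem : DG ∉ Om := by
  have h2 : (2 : ZMod 3) ≠ 0 := by decide
  intro h
  let Qo := withBase 3 (qfSq (ZMod 3))
  let φ := stdIso Qo Qf (eqOdd 3) (eqOdd_isometry 3)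
  have h1 : φ DG ∈ commutator (orth Qo) :=
    (Cfsg.Agent.OrthUnitaryOmega.mem_commutator_iff φ DG).1 h
  have ht := ((Cfsg.Agent.OrthUnitaryOmega.odd_main h2 (isReg_withBase isReg_qfSq 3)).1 _).1 h1
  let u : (Fin 3 ⊕ Fin 3 → ZMod 3) × (Unit → ZMod 3) := (Sum.elim ![1, 0, 0] ![1, 0, 0], 0)
  let w : (Fin 3 ⊕ Fin 3 → ZMod 3) × (Unit → ZMod 3) := (Sum.elim ![1, 0, 0] ![-1, 0, 0], 0)
  have hu : Qo u = 1 := by
    simp [Qo, u, withBase_apply, qfSq_apply, Cfsg.quadFormPlus, Fin.sum_univ_three]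
  have hw : Qo w = -1 := by
    simp [Qo, w, withBase_apply, qfSq_apply, Cfsg.quadFormPlus, Fin.sum_univ_three]
  have hu0 : Qo u ≠ 0 := by rw [hu]; decide
  have hw0 : Qo w ≠ 0 := by rw [hw]; decide
  have e : φ DG = refl Qo u hu0 * refl Qo w hw0 := by
    apply Cfsg.Agent.OrthUnitaryRefl.orth_ext
    intro p
    apply (eqOdd (F := ZMod 3) 3).injective
    show eqOdd 3 ((stdIso Qo Qf (eqOdd 3) (eqOdd_isometry 3) DG).1 p) = _
    rw [stdIso_apply, Cfsg.Agent.OrthUnitaryRefl.orth_mul_apply, refl_apply, refl_apply, hu, hw]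
    obtain ⟨p, z⟩ := p
    funext i
    show (mt DG *ᵥ _) i = _
    rw [mt_DG, Matrix.mulVec_diagonal]
    rcases i with i | i | i <;> fin_cases i <;>
      simp [Qo, u, w, eqOdd, Dv, xx, yy, QuadraticMap.polar, withBase_apply, qfSq_apply,
        Cfsg.quadFormPlus, Fin.sum_univ_three, LinearEquiv.sumArrowLequivProdArrow,
        Equiv.sumArrowEquivProdArrow] <;>
      ring_nf <;> revert h2 <;> generalize p (Sum.inl 0) = a <;>
      generalize p (Sum.inr 0) = b <;> revert a b <;> decide +kernel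
  have := ht.2
  rw [e, map_mul, Cfsg.Agent.OrthUnitaryOmega.theta_refl h2,
    Cfsg.Agent.OrthUnitaryOmega.theta_refl h2, hu, hw, if_pos IsSquare.one,
    if_neg (by rintro ⟨s, hs⟩; revert hs; revert s; decide +kernel)] at this
  exact absurd this (by decide)

/-- What commuting with the first representative says about a matrix. -/
theorem cent_eqs {A : M7} (h : A * nilR 0 = nilR 0 * A) :
    (∀ i j, A (yy i) (xx j) = 0) ∧ (∀ j, A zz (xx j) = 0) ∧ (∀ i, A (yy i) zz = 0) ∧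
      A (xx 1) (xx 0) = 0 ∧ A (xx 2) (xx 0) = 0 ∧ A (xx 0) (xx 0) = A zz zz ∧
      A (yy 0) (yy 0) = A zz zz ∧ A (yy 0) (yy 1) = 0 ∧ A (yy 0) (yy 2) = 0 ∧
      A (yy 2) (yy 2) = A (xx 1) (xx 1) ∧ A (yy 1) (yy 1) = A (xx 2) (xx 2) ∧
      A (yy 2) (yy 1) = 2 * A (xx 1) (xx 2) ∧ A (yy 1) (yy 2) = 2 * A (xx 2) (xx 1) := by
  have two : (2 : ZMod 3) = -1 := by decide
  have e : ∀ i j, (A * nilR 0) i j = (nilR 0 * A) i j := fun i j => by rw [h]
  simp only [Sum.forall, Unique.forall_iff, Fin.forall_fin_succ, Fin.forall_fin_zero] at e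
  simp [nilR, Matrix.mul_apply, Fintype.sum_sum_type, Fin.sum_univ_three, zz, xx, yy,
    Matrix.single_apply, two] at e
  simp [zz, xx, yy, Fin.forall_fin_succ, two]
  casesm* _ ∧ _
  refine ⟨?_, ?_, ?_, ?_, ?_, ?_, ?_, ?_, ?_, ?_, ?_, ?_, ?_⟩ <;> grind

/-- The centralizer of the first representative. -/
def Cen (a : G7) : Prop := mt a * nilR 0 = nilR 0 * mt a

theorem Cen.mul {a b : G7} (ha : Cen a) (hb : Cen b) : Cen (a * b) := by
  unfold Cen at *
  rw [map_mul, mul_assoc, hb, ← mul_assoc, ha, mul_assoc]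

theorem mulVec_single_col (A : M7) (j : Ix) : A *ᵥ Pi.single j 1 = fun i => A i j := by
  funext i
  simp

theorem pol_col (a : G7) (j k : Ix) :
    pol (fun i => mt a i j) (fun i => mt a i k) = pol (Pi.single j 1) (Pi.single k 1) := by
  rw [← mulVec_single_col, ← mulVec_single_col, pol_isom]

theorem cen_sq {a : G7} (h : Cen a) : mt a zz zz * mt a zz zz = 1 := by
  obtain ⟨-, -, hyz, -⟩ := cent_eqs h
  have := mt_isom a (Pi.single zz 1)
  rw [mulVec_single_col] at this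
  simp only [Qf, Cfsg.quadFormOdd, Fin.sum_univ_three] at this
  rw [show (Sum.inr (Sum.inr 0) : Ix) = yy 0 from rfl, show (Sum.inr (Sum.inr 1) : Ix) = yy 1 from rfl,
    show (Sum.inr (Sum.inr 2) : Ix) = yy 2 from rfl, hyz, hyz, hyz] at this
  simp [zz, xx, yy, pow_two] at this
  exact this

theorem cen_det {a : G7} (h : Cen a) :
    mt a (xx 1) (xx 1) * mt a (xx 2) (xx 2) - mt a (xx 1) (xx 2) * mt a (xx 2) (xx 1) = 1 := by
  obtain ⟨hyx, hzx, -, -, -, -, -, h01, -, -, h11, h21, -⟩ := cent_eqs h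
  have := pol_col a (xx 1) (yy 1)
  rw [pol_eq, pol_eq] at this
  simp only [Fin.sum_univ_three, hyx, hzx, h01, h11, h21] at this
  simp [zz, xx, yy] at this
  rw [show (2 : ZMod 3) = -1 by decide] at this
  simp only [xx]
  linear_combination this

theorem mem_Om_of_col {a : G7} (h : Cen a) (he : mt a zz zz = 1)
    (hp : mt a (xx 1) (xx 1) = 1) (hr : mt a (xx 2) (xx 1) = 0) : a ∈ Om := by
  apply UT_le_Om
  have hd := cen_det h
  rw [hp, hr] at hd
  obtain ⟨hyx, hzx, hyz, h10, h20, h00, hy00, h01, h02, h22, h11, -, h12⟩ := cent_eqs h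
  rw [he] at h00 hy00
  rw [hp] at h22
  rw [hr, mul_zero] at h12
  have hs : mt a (xx 2) (xx 2) = 1 := by linear_combination hd
  rw [hs] at h11
  simp [zz, xx, yy, Fin.forall_fin_succ] at hyx hzx hyz h10 h20 h00 hy00 h01 h02 h22 h11 h12 he hp hr hs
  show ∀ i j, rk j < rk i + 1 → (mt a - 1) i j = 0
  simp [Fin.forall_fin_succ, rk, Matrix.sub_apply, Matrix.one_apply, hyx, hzx, hyz, h10, h20, h00,
    hy00, h01, h02, h22, h11, h12, he, hp, hr, hs]

/-- All centralizing elements with the given first column on the middle block lie in `Om`. -/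
def Mem (p r : ZMod 3) : Prop := ∀ a : G7, Cen a → mt a zz zz = 1 → mt a (xx 1) (xx 1) = p →
  mt a (xx 2) (xx 1) = r → a ∈ Om

theorem cen_root : Cen (rootG 1) ∧ Cen (rootG 10) := by
  constructor <;>
  · unfold Cen
    rw [mt_rootG]
    apply enc_inj
    decide +kernel

theorem mem_step_up {p r : ZMod 3} (h : Mem (p + r) r) : Mem p r := by
  intro a ha he hp hr
  have hg := rootG_mem_Om 1
  have := h (rootG 1 * a) (cen_root.1.mul ha) ?_ ?_ ?_
  · exact (Subgroup.mul_mem_cancel_left _ hg).1 this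
  all_goals
    rw [map_mul, mt_rootG]
    simp [root, rA, add_mul, zz, xx, yy, ← hp, ← hr] at *
    try assumption

theorem mem_step_down {p r : ZMod 3} (h : Mem p (r + p)) : Mem p r := by
  intro a ha he hp hr
  have hg := rootG_mem_Om 10
  have := h (rootG 10 * a) (cen_root.2.mul ha) ?_ ?_ ?_
  · exact (Subgroup.mul_mem_cancel_left _ hg).1 this
  all_goals
    rw [map_mul, mt_rootG]
    simp [root, rA, add_mul, zz, xx, yy, ← hp, ← hr] at *
    try assumption

theorem mem_all : ∀ p r : ZMod 3, ¬ (p = 0 ∧ r = 0) → Mem p r := by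
  have t10 : Mem 1 0 := fun a => mem_Om_of_col
  have t12 : Mem 1 2 := mem_step_down (by rwa [show (2 + 1 : ZMod 3) = 0 by decide])
  have t11 : Mem 1 1 := mem_step_down (by rwa [show (1 + 1 : ZMod 3) = 2 by decide])
  have t22 : Mem 2 2 := mem_step_up (by rwa [show (2 + 2 : ZMod 3) = 1 by decide])
  have t20 : Mem 2 0 := mem_step_down (by rwa [show (0 + 2 : ZMod 3) = 2 by decide])
  have t02 : Mem 0 2 := mem_step_up (by rwa [show (0 + 2 : ZMod 3) = 2 by decide])
  have t01 : Mem 0 1 := mem_step_up (by rwa [show (0 + 1 : ZMod 3) = 1 by decide])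
  have t21 : Mem 2 1 := mem_step_up (by rwa [show (2 + 1 : ZMod 3) = 0 by decide])
  intro p r h
  have : ∀ t : ZMod 3, t = 0 ∨ t = 1 ∨ t = 2 := by decide
  rcases this p with rfl | rfl | rfl <;> rcases this r with rfl | rfl | rfl <;>
    first | assumption | exact absurd ⟨rfl, rfl⟩ h

theorem cen_pos {a : G7} (h : Cen a) (he : mt a zz zz = 1) : a ∈ Om := by
  refine mem_all _ _ ?_ a h he rfl rfl
  rintro ⟨h1, h2⟩
  have := cen_det h
  rw [h1, h2] at this
  simp at this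

theorem not_conj_zero_one : ¬ OConj (repG 0) (repG 1) := by
  rintro ⟨w, hw, e⟩
  have e1 := nil_conj e
  rw [nil_repG, nil_repG] at e1
  have hD : Matrix.diagonal Dv * nilR 1 = nilR 0 * Matrix.diagonal Dv := by
    apply enc_inj
    decide +kernel
  have hc : Cen (DG * w) := by
    unfold Cen
    rw [map_mul, mt_DG, mul_assoc, ← e1, ← mul_assoc, hD, mul_assoc]
  have hsq := cen_sq hc
  have : ∀ t : ZMod 3, t * t = 1 → t = 1 ∨ t = -1 := by decide
  rcases this _ hsq with h | h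
  · exact DG_not_mem ((Subgroup.mul_mem_cancel_right _ hw).1 (cen_pos hc h))
  · refine negDG_not_mem ((Subgroup.mul_mem_cancel_right _ hw).1 ?_)
    rw [mul_assoc]
    refine cen_pos (Cen.mul ?_ hc) ?_
    · unfold Cen; rw [mt_negG, neg_one_mul, mul_neg_one]
    · rw [map_mul, mt_negG, neg_one_mul, Matrix.neg_apply, h, neg_neg]

theorem eq_of_oconj {i j : Fin 7} (h : OConj (repG i) (repG j)) : i = j := by
  have h1 : P1 (repG i) ↔ P1 (repG j) := ⟨P1_conj h, P1_conj h.symm⟩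
  have h2 : P3 2 (repG i) ↔ P3 2 (repG j) := ⟨P3_conj h, P3_conj h.symm⟩
  have h3 : P4 (repG i) ↔ P4 (repG j) := ⟨P4_conj h, P4_conj h.symm⟩
  have h4 : P3 1 (repG i) ↔ P3 1 (repG j) := ⟨P3_conj h, P3_conj h.symm⟩
  have t1 : i = 2 ↔ j = 2 := by rw [← P1_rep, ← P1_rep, h1]
  have n3 : ∀ k : Fin 7, k ≠ 2 → (P3 2 (repG k) ↔ (k = 4 ∨ k = 5 ∨ k = 6)) := fun k hk =>
    ⟨fun hp => by_contra fun hn => (P3_two k).2 (by omega) hp, (P3_two k).1⟩
  have n4 : ∀ k : Fin 7, k ≠ 2 → (P4 (repG k) ↔ (k = 3 ∨ k = 4 ∨ k = 5)) := fun k hk =>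
    ⟨fun hp => by_contra fun hn => (P4_rep k).2 (by omega) hp, (P4_rep k).1⟩
  have key : ∀ i j : Fin 7, (i = 2 ↔ j = 2) →
      (i ≠ 2 → j ≠ 2 → ((i = 4 ∨ i = 5 ∨ i = 6) ↔ (j = 4 ∨ j = 5 ∨ j = 6)) ∧
        ((i = 3 ∨ i = 4 ∨ i = 5) ↔ (j = 3 ∨ j = 4 ∨ j = 5))) →
      i = j ∨ (i = 0 ∧ j = 1) ∨ (i = 1 ∧ j = 0) ∨ (i = 4 ∧ j = 5) ∨ (i = 5 ∧ j = 4) := by
    decide +kernel
  rcases key i j t1 (fun hi hj => ⟨by rw [← n3 i hi, ← n3 j hj, h2],
      by rw [← n4 i hi, ← n4 j hj, h3]⟩) with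
    rfl | ⟨rfl, rfl⟩ | ⟨rfl, rfl⟩ | ⟨rfl, rfl⟩ | ⟨rfl, rfl⟩
  · rfl
  · exact absurd h not_conj_zero_one
  · exact absurd h.symm not_conj_zero_one
  · exact absurd (h4.1 P3_one.1) P3_one.2
  · exact absurd (h4.2 P3_one.1) P3_one.2

end Cfsg.Agent.O73Inv99
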