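import Cfsg.Agent.Lib.ONGroup90

/-! Three points with trivial stabiliser in the presented O'Nan group, and equality of elements by
their effect on them. -/

set_option autoImplicit false
set_option maxRecDepth 100000

namespace Cfsg.Agent.ONBase90

open Cfsg.Agent.CosetCertCore Cfsg.Agent.ONRep64 Cfsg.Agent.ONIndex90
open Cfsg.Agent.ONSubgroup64 (HH)
open Cfsg.Agent.ONPermData64 (im run)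

/-- Words for the stabiliser of the first two points. -/
def stabWords : List (List Nat) :=
  [[],
   [5],
   [0],
   [2, 3, 2, 3],
   [4, 3, 2, 1, 3, 2, 1, 4, 3, 2, 3, 4, 5, 0, 1, 2, 3, 2, 3, 4, 1, 2, 3, 2, 3, 4],
   [5, 0],
   [5, 2, 3, 2, 3],
   [5, 4, 3, 2, 1, 3, 2, 1, 4, 3, 2, 3, 4, 5, 0, 1, 2, 3, 2, 3, 4, 1, 2, 3, 2, 3, 4],
   [0, 2, 3, 2, 3],
   [0, 4, 3, 2, 1, 3, 2, 1, 4, 3, 2, 3, 4, 5, 0, 1, 2, 3, 2, 3, 4, 1, 2, 3, 2, 3, 4],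
   [2, 3, 2, 3, 4, 3, 2, 1, 3, 2, 1, 4, 3, 2, 3, 4, 5, 0, 1, 2, 3, 2, 3, 4, 1, 2, 3, 2, 3, 4],
   [4, 3, 2, 1, 3, 2, 1, 4, 3, 2, 3, 4, 5, 0, 1, 2, 3, 2, 3, 4, 1, 2, 3, 2, 3, 4, 5],
   [4, 3, 2, 1, 3, 2, 1, 4, 3, 2, 3, 4, 5, 0, 1, 2, 3, 2, 3, 4, 1, 2, 3, 2, 3, 4, 0],
   [4, 3, 2, 1, 3, 2, 1, 4, 3, 2, 3, 4, 5, 0, 1, 2, 3, 2, 3, 4, 1, 2, 3, 2, 3, 4, 2, 3, 2, 3],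
   [5, 0, 2, 3, 2, 3],
   [5, 0, 4, 3, 2, 1, 3, 2, 1, 4, 3, 2, 3, 4, 5, 0, 1, 2, 3, 2, 3, 4, 1, 2, 3, 2, 3, 4],
   [5, 2, 3, 2, 3, 4, 3, 2, 1, 3, 2, 1, 4, 3, 2, 3, 4, 5, 0, 1, 2, 3, 2, 3, 4, 1, 2, 3, 2, 3, 4],
   [5, 4, 3, 2, 1, 3, 2, 1, 4, 3, 2, 3, 4, 5, 0, 1, 2, 3, 2, 3, 4, 1, 2, 3, 2, 3, 4, 5],
   [5, 4, 3, 2, 1, 3, 2, 1, 4, 3, 2, 3, 4, 5, 0, 1, 2, 3, 2, 3, 4, 1, 2, 3, 2, 3, 4, 0],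
   [5, 4, 3, 2, 1, 3, 2, 1, 4, 3, 2, 3, 4, 5, 0, 1, 2, 3, 2, 3, 4, 1, 2, 3, 2, 3, 4, 2, 3, 2, 3],
   [0, 2, 3, 2, 3, 4, 3, 2, 1, 3, 2, 1, 4, 3, 2, 3, 4, 5, 0, 1, 2, 3, 2, 3, 4, 1, 2, 3, 2, 3, 4],
   [0, 4, 3, 2, 1, 3, 2, 1, 4, 3, 2, 3, 4, 5, 0, 1, 2, 3, 2, 3, 4, 1, 2, 3, 2, 3, 4, 2, 3, 2, 3],
   [4, 3, 2, 1, 3, 2, 1, 4, 3, 2, 3, 4, 5, 0, 1, 2, 3, 2, 3, 4, 1, 2, 3, 2, 3, 4, 5, 4, 3, 2, 1, 3, 2, 1, 4, 3, 2, 3, 4, 5, 0, 1, 2, 3, 2, 3, 4, 1, 2, 3, 2, 3, 4],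
   [4, 3, 2, 1, 3, 2, 1, 4, 3, 2, 3, 4, 5, 0, 1, 2, 3, 2, 3, 4, 1, 2, 3, 2, 3, 4, 0, 4, 3, 2, 1, 3, 2, 1, 4, 3, 2, 3, 4, 5, 0, 1, 2, 3, 2, 3, 4, 1, 2, 3, 2, 3, 4],
   [4, 3, 2, 1, 3, 2, 1, 4, 3, 2, 3, 4, 5, 0, 1, 2, 3, 2, 3, 4, 1, 2, 3, 2, 3, 4, 2, 3, 2, 3, 4, 3, 2, 1, 3, 2, 1, 4, 3, 2, 3, 4, 5, 0, 1, 2, 3, 2, 3, 4, 1, 2, 3, 2, 3, 4],
   [5, 0, 2, 3, 2, 3, 4, 3, 2, 1, 3, 2, 1, 4, 3, 2, 3, 4, 5, 0, 1, 2, 3, 2, 3, 4, 1, 2, 3, 2, 3, 4],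
   [5, 0, 4, 3, 2, 1, 3, 2, 1, 4, 3, 2, 3, 4, 5, 0, 1, 2, 3, 2, 3, 4, 1, 2, 3, 2, 3, 4, 2, 3, 2, 3],
   [5, 4, 3, 2, 1, 3, 2, 1, 4, 3, 2, 3, 4, 5, 0, 1, 2, 3, 2, 3, 4, 1, 2, 3, 2, 3, 4, 5, 4, 3, 2, 1, 3, 2, 1, 4, 3, 2, 3, 4, 5, 0, 1, 2, 3, 2, 3, 4, 1, 2, 3, 2, 3, 4],
   [5, 4, 3, 2, 1, 3, 2, 1, 4, 3, 2, 3, 4, 5, 0, 1, 2, 3, 2, 3, 4, 1, 2, 3, 2, 3, 4, 0, 4, 3, 2, 1, 3, 2, 1, 4, 3, 2, 3, 4, 5, 0, 1, 2, 3, 2, 3, 4, 1, 2, 3, 2, 3, 4],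
   [5, 4, 3, 2, 1, 3, 2, 1, 4, 3, 2, 3, 4, 5, 0, 1, 2, 3, 2, 3, 4, 1, 2, 3, 2, 3, 4, 2, 3, 2, 3, 4, 3, 2, 1, 3, 2, 1, 4, 3, 2, 3, 4, 5, 0, 1, 2, 3, 2, 3, 4, 1, 2, 3, 2, 3, 4],
   [0, 4, 3, 2, 1, 3, 2, 1, 4, 3, 2, 3, 4, 5, 0, 1, 2, 3, 2, 3, 4, 1, 2, 3, 2, 3, 4, 2, 3, 2, 3, 4, 3, 2, 1, 3, 2, 1, 4, 3, 2, 3, 4, 5, 0, 1, 2, 3, 2, 3, 4, 1, 2, 3, 2, 3, 4],
   [4, 3, 2, 1, 3, 2, 1, 4, 3, 2, 3, 4, 5, 0, 1, 2, 3, 2, 3, 4, 1, 2, 3, 2, 3, 4, 5, 4, 3, 2, 1, 3, 2, 1, 4, 3, 2, 3, 4, 5, 0, 1, 2, 3, 2, 3, 4, 1, 2, 3, 2, 3, 4, 5],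
   [4, 3, 2, 1, 3, 2, 1, 4, 3, 2, 3, 4, 5, 0, 1, 2, 3, 2, 3, 4, 1, 2, 3, 2, 3, 4, 5, 4, 3, 2, 1, 3, 2, 1, 4, 3, 2, 3, 4, 5, 0, 1, 2, 3, 2, 3, 4, 1, 2, 3, 2, 3, 4, 0],
   [4, 3, 2, 1, 3, 2, 1, 4, 3, 2, 3, 4, 5, 0, 1, 2, 3, 2, 3, 4, 1, 2, 3, 2, 3, 4, 5, 4, 3, 2, 1, 3, 2, 1, 4, 3, 2, 3, 4, 5, 0, 1, 2, 3, 2, 3, 4, 1, 2, 3, 2, 3, 4, 2, 3, 2, 3],
   [4, 3, 2, 1, 3, 2, 1, 4, 3, 2, 3, 4, 5, 0, 1, 2, 3, 2, 3, 4, 1, 2, 3, 2, 3, 4, 0, 4, 3, 2, 1, 3, 2, 1, 4, 3, 2, 3, 4, 5, 0, 1, 2, 3, 2, 3, 4, 1, 2, 3, 2, 3, 4, 2, 3, 2, 3],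
   [5, 0, 4, 3, 2, 1, 3, 2, 1, 4, 3, 2, 3, 4, 5, 0, 1, 2, 3, 2, 3, 4, 1, 2, 3, 2, 3, 4, 2, 3, 2, 3, 4, 3, 2, 1, 3, 2, 1, 4, 3, 2, 3, 4, 5, 0, 1, 2, 3, 2, 3, 4, 1, 2, 3, 2, 3, 4],
   [5, 4, 3, 2, 1, 3, 2, 1, 4, 3, 2, 3, 4, 5, 0, 1, 2, 3, 2, 3, 4, 1, 2, 3, 2, 3, 4, 5, 4, 3, 2, 1, 3, 2, 1, 4, 3, 2, 3, 4, 5, 0, 1, 2, 3, 2, 3, 4, 1, 2, 3, 2, 3, 4, 5],
   [5, 4, 3, 2, 1, 3, 2, 1, 4, 3, 2, 3, 4, 5, 0, 1, 2, 3, 2, 3, 4, 1, 2, 3, 2, 3, 4, 5, 4, 3, 2, 1, 3, 2, 1, 4, 3, 2, 3, 4, 5, 0, 1, 2, 3, 2, 3, 4, 1, 2, 3, 2, 3, 4, 0],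
   [5, 4, 3, 2, 1, 3, 2, 1, 4, 3, 2, 3, 4, 5, 0, 1, 2, 3, 2, 3, 4, 1, 2, 3, 2, 3, 4, 5, 4, 3, 2, 1, 3, 2, 1, 4, 3, 2, 3, 4, 5, 0, 1, 2, 3, 2, 3, 4, 1, 2, 3, 2, 3, 4, 2, 3, 2, 3],
   [5, 4, 3, 2, 1, 3, 2, 1, 4, 3, 2, 3, 4, 5, 0, 1, 2, 3, 2, 3, 4, 1, 2, 3, 2, 3, 4, 0, 4, 3, 2, 1, 3, 2, 1, 4, 3, 2, 3, 4, 5, 0, 1, 2, 3, 2, 3, 4, 1, 2, 3, 2, 3, 4, 2, 3, 2, 3],
   [4, 3, 2, 1, 3, 2, 1, 4, 3, 2, 3, 4, 5, 0, 1, 2, 3, 2, 3, 4, 1, 2, 3, 2, 3, 4, 5, 4, 3, 2, 1, 3, 2, 1, 4, 3, 2, 3, 4, 5, 0, 1, 2, 3, 2, 3, 4, 1, 2, 3, 2, 3, 4, 5, 4, 3, 2, 1, 3, 2, 1, 4, 3, 2, 3, 4, 5, 0, 1, 2, 3, 2, 3, 4, 1, 2, 3, 2, 3, 4],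
   [4, 3, 2, 1, 3, 2, 1, 4, 3, 2, 3, 4, 5, 0, 1, 2, 3, 2, 3, 4, 1, 2, 3, 2, 3, 4, 5, 4, 3, 2, 1, 3, 2, 1, 4, 3, 2, 3, 4, 5, 0, 1, 2, 3, 2, 3, 4, 1, 2, 3, 2, 3, 4, 0, 4, 3, 2, 1, 3, 2, 1, 4, 3, 2, 3, 4, 5, 0, 1, 2, 3, 2, 3, 4, 1, 2, 3, 2, 3, 4],
   [4, 3, 2, 1, 3, 2, 1, 4, 3, 2, 3, 4, 5, 0, 1, 2, 3, 2, 3, 4, 1, 2, 3, 2, 3, 4, 5, 4, 3, 2, 1, 3, 2, 1, 4, 3, 2, 3, 4, 5, 0, 1, 2, 3, 2, 3, 4, 1, 2, 3, 2, 3, 4, 2, 3, 2, 3, 4, 3, 2, 1, 3, 2, 1, 4, 3, 2, 3, 4, 5, 0, 1, 2, 3, 2, 3, 4, 1, 2, 3, 2, 3, 4],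
   [4, 3, 2, 1, 3, 2, 1, 4, 3, 2, 3, 4, 5, 0, 1, 2, 3, 2, 3, 4, 1, 2, 3, 2, 3, 4, 0, 4, 3, 2, 1, 3, 2, 1, 4, 3, 2, 3, 4, 5, 0, 1, 2, 3, 2, 3, 4, 1, 2, 3, 2, 3, 4, 2, 3, 2, 3, 4, 3, 2, 1, 3, 2, 1, 4, 3, 2, 3, 4, 5, 0, 1, 2, 3, 2, 3, 4, 1, 2, 3, 2, 3, 4],
   [5, 4, 3, 2, 1, 3, 2, 1, 4, 3, 2, 3, 4, 5, 0, 1, 2, 3, 2, 3, 4, 1, 2, 3, 2, 3, 4, 5, 4, 3, 2, 1, 3, 2, 1, 4, 3, 2, 3, 4, 5, 0, 1, 2, 3, 2, 3, 4, 1, 2, 3, 2, 3, 4, 5, 4, 3, 2, 1, 3, 2, 1, 4, 3, 2, 3, 4, 5, 0, 1, 2, 3, 2, 3, 4, 1, 2, 3, 2, 3, 4],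
   [5, 4, 3, 2, 1, 3, 2, 1, 4, 3, 2, 3, 4, 5, 0, 1, 2, 3, 2, 3, 4, 1, 2, 3, 2, 3, 4, 5, 4, 3, 2, 1, 3, 2, 1, 4, 3, 2, 3, 4, 5, 0, 1, 2, 3, 2, 3, 4, 1, 2, 3, 2, 3, 4, 0, 4, 3, 2, 1, 3, 2, 1, 4, 3, 2, 3, 4, 5, 0, 1, 2, 3, 2, 3, 4, 1, 2, 3, 2, 3, 4],
   [5, 4, 3, 2, 1, 3, 2, 1, 4, 3, 2, 3, 4, 5, 0, 1, 2, 3, 2, 3, 4, 1, 2, 3, 2, 3, 4, 5, 4, 3, 2, 1, 3, 2, 1, 4, 3, 2, 3, 4, 5, 0, 1, 2, 3, 2, 3, 4, 1, 2, 3, 2, 3, 4, 2, 3, 2, 3, 4, 3, 2, 1, 3, 2, 1, 4, 3, 2, 3, 4, 5, 0, 1, 2, 3, 2, 3, 4, 1, 2, 3, 2, 3, 4],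
   [5, 4, 3, 2, 1, 3, 2, 1, 4, 3, 2, 3, 4, 5, 0, 1, 2, 3, 2, 3, 4, 1, 2, 3, 2, 3, 4, 0, 4, 3, 2, 1, 3, 2, 1, 4, 3, 2, 3, 4, 5, 0, 1, 2, 3, 2, 3, 4, 1, 2, 3, 2, 3, 4, 2, 3, 2, 3, 4, 3, 2, 1, 3, 2, 1, 4, 3, 2, 3, 4, 5, 0, 1, 2, 3, 2, 3, 4, 1, 2, 3, 2, 3, 4],
   [4, 3, 2, 1, 3, 2, 1, 4, 3, 2, 3, 4, 5, 0, 1, 2, 3, 2, 3, 4, 1, 2, 3, 2, 3, 4, 5, 4, 3, 2, 1, 3, 2, 1, 4, 3, 2, 3, 4, 5, 0, 1, 2, 3, 2, 3, 4, 1, 2, 3, 2, 3, 4, 5, 4, 3, 2, 1, 3, 2, 1, 4, 3, 2, 3, 4, 5, 0, 1, 2, 3, 2, 3, 4, 1, 2, 3, 2, 3, 4, 5],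
   [4, 3, 2, 1, 3, 2, 1, 4, 3, 2, 3, 4, 5, 0, 1, 2, 3, 2, 3, 4, 1, 2, 3, 2, 3, 4, 5, 4, 3, 2, 1, 3, 2, 1, 4, 3, 2, 3, 4, 5, 0, 1, 2, 3, 2, 3, 4, 1, 2, 3, 2, 3, 4, 5, 4, 3, 2, 1, 3, 2, 1, 4, 3, 2, 3, 4, 5, 0, 1, 2, 3, 2, 3, 4, 1, 2, 3, 2, 3, 4, 0],
   [4, 3, 2, 1, 3, 2, 1, 4, 3, 2, 3, 4, 5, 0, 1, 2, 3, 2, 3, 4, 1, 2, 3, 2, 3, 4, 5, 4, 3, 2, 1, 3, 2, 1, 4, 3, 2, 3, 4, 5, 0, 1, 2, 3, 2, 3, 4, 1, 2, 3, 2, 3, 4, 5, 4, 3, 2, 1, 3, 2, 1, 4, 3, 2, 3, 4, 5, 0, 1, 2, 3, 2, 3, 4, 1, 2, 3, 2, 3, 4, 2, 3, 2, 3],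
   [4, 3, 2, 1, 3, 2, 1, 4, 3, 2, 3, 4, 5, 0, 1, 2, 3, 2, 3, 4, 1, 2, 3, 2, 3, 4, 5, 4, 3, 2, 1, 3, 2, 1, 4, 3, 2, 3, 4, 5, 0, 1, 2, 3, 2, 3, 4, 1, 2, 3, 2, 3, 4, 0, 4, 3, 2, 1, 3, 2, 1, 4, 3, 2, 3, 4, 5, 0, 1, 2, 3, 2, 3, 4, 1, 2, 3, 2, 3, 4, 2, 3, 2, 3],
   [5, 4, 3, 2, 1, 3, 2, 1, 4, 3, 2, 3, 4, 5, 0, 1, 2, 3, 2, 3, 4, 1, 2, 3, 2, 3, 4, 5, 4, 3, 2, 1, 3, 2, 1, 4, 3, 2, 3, 4, 5, 0, 1, 2, 3, 2, 3, 4, 1, 2, 3, 2, 3, 4, 5, 4, 3, 2, 1, 3, 2, 1, 4, 3, 2, 3, 4, 5, 0, 1, 2, 3, 2, 3, 4, 1, 2, 3, 2, 3, 4, 5],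
   [5, 4, 3, 2, 1, 3, 2, 1, 4, 3, 2, 3, 4, 5, 0, 1, 2, 3, 2, 3, 4, 1, 2, 3, 2, 3, 4, 5, 4, 3, 2, 1, 3, 2, 1, 4, 3, 2, 3, 4, 5, 0, 1, 2, 3, 2, 3, 4, 1, 2, 3, 2, 3, 4, 5, 4, 3, 2, 1, 3, 2, 1, 4, 3, 2, 3, 4, 5, 0, 1, 2, 3, 2, 3, 4, 1, 2, 3, 2, 3, 4, 0],
   [5, 4, 3, 2, 1, 3, 2, 1, 4, 3, 2, 3, 4, 5, 0, 1, 2, 3, 2, 3, 4, 1, 2, 3, 2, 3, 4, 5, 4, 3, 2, 1, 3, 2, 1, 4, 3, 2, 3, 4, 5, 0, 1, 2, 3, 2, 3, 4, 1, 2, 3, 2, 3, 4, 5, 4, 3, 2, 1, 3, 2, 1, 4, 3, 2, 3, 4, 5, 0, 1, 2, 3, 2, 3, 4, 1, 2, 3, 2, 3, 4, 2, 3, 2, 3],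
   [5, 4, 3, 2, 1, 3, 2, 1, 4, 3, 2, 3, 4, 5, 0, 1, 2, 3, 2, 3, 4, 1, 2, 3, 2, 3, 4, 5, 4, 3, 2, 1, 3, 2, 1, 4, 3, 2, 3, 4, 5, 0, 1, 2, 3, 2, 3, 4, 1, 2, 3, 2, 3, 4, 0, 4, 3, 2, 1, 3, 2, 1, 4, 3, 2, 3, 4, 5, 0, 1, 2, 3, 2, 3, 4, 1, 2, 3, 2, 3, 4, 2, 3, 2, 3],
   [4, 3, 2, 1, 3, 2, 1, 4, 3, 2, 3, 4, 5, 0, 1, 2, 3, 2, 3, 4, 1, 2, 3, 2, 3, 4, 5, 4, 3, 2, 1, 3, 2, 1, 4, 3, 2, 3, 4, 5, 0, 1, 2, 3, 2, 3, 4, 1, 2, 3, 2, 3, 4, 5, 4, 3, 2, 1, 3, 2, 1, 4, 3, 2, 3, 4, 5, 0, 1, 2, 3, 2, 3, 4, 1, 2, 3, 2, 3, 4, 5, 4, 3, 2, 1, 3, 2, 1, 4, 3, 2, 3, 4, 5, 0, 1, 2, 3, 2, 3, 4, 1, 2, 3, 2, 3, 4],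
   [4, 3, 2, 1, 3, 2, 1, 4, 3, 2, 3, 4, 5, 0, 1, 2, 3, 2, 3, 4, 1, 2, 3, 2, 3, 4, 5, 4, 3, 2, 1, 3, 2, 1, 4, 3, 2, 3, 4, 5, 0, 1, 2, 3, 2, 3, 4, 1, 2, 3, 2, 3, 4, 5, 4, 3, 2, 1, 3, 2, 1, 4, 3, 2, 3, 4, 5, 0, 1, 2, 3, 2, 3, 4, 1, 2, 3, 2, 3, 4, 0, 4, 3, 2, 1, 3, 2, 1, 4, 3, 2, 3, 4, 5, 0, 1, 2, 3, 2, 3, 4, 1, 2, 3, 2, 3, 4],
   [4, 3, 2, 1, 3, 2, 1, 4, 3, 2, 3, 4, 5, 0, 1, 2, 3, 2, 3, 4, 1, 2, 3, 2, 3, 4, 5, 4, 3, 2, 1, 3, 2, 1, 4, 3, 2, 3, 4, 5, 0, 1, 2, 3, 2, 3, 4, 1, 2, 3, 2, 3, 4, 5, 4, 3, 2, 1, 3, 2, 1, 4, 3, 2, 3, 4, 5, 0, 1, 2, 3, 2, 3, 4, 1, 2, 3, 2, 3, 4, 2, 3, 2, 3, 4, 3, 2, 1, 3, 2, 1, 4, 3, 2, 3, 4, 5, 0, 1, 2, 3, 2, 3, 4, 1, 2, 3, 2, 3, 4],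
   [4, 3, 2, 1, 3, 2, 1, 4, 3, 2, 3, 4, 5, 0, 1, 2, 3, 2, 3, 4, 1, 2, 3, 2, 3, 4, 5, 4, 3, 2, 1, 3, 2, 1, 4, 3, 2, 3, 4, 5, 0, 1, 2, 3, 2, 3, 4, 1, 2, 3, 2, 3, 4, 0, 4, 3, 2, 1, 3, 2, 1, 4, 3, 2, 3, 4, 5, 0, 1, 2, 3, 2, 3, 4, 1, 2, 3, 2, 3, 4, 2, 3, 2, 3, 4, 3, 2, 1, 3, 2, 1, 4, 3, 2, 3, 4, 5, 0, 1, 2, 3, 2, 3, 4, 1, 2, 3, 2, 3, 4],
   [5, 4, 3, 2, 1, 3, 2, 1, 4, 3, 2, 3, 4, 5, 0, 1, 2, 3, 2, 3, 4, 1, 2, 3, 2, 3, 4, 5, 4, 3, 2, 1, 3, 2, 1, 4, 3, 2, 3, 4, 5, 0, 1, 2, 3, 2, 3, 4, 1, 2, 3, 2, 3, 4, 5, 4, 3, 2, 1, 3, 2, 1, 4, 3, 2, 3, 4, 5, 0, 1, 2, 3, 2, 3, 4, 1, 2, 3, 2, 3, 4, 5, 4, 3, 2, 1, 3, 2, 1, 4, 3, 2, 3, 4, 5, 0, 1, 2, 3, 2, 3, 4, 1, 2, 3, 2, 3, 4],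
   [5, 4, 3, 2, 1, 3, 2, 1, 4, 3, 2, 3, 4, 5, 0, 1, 2, 3, 2, 3, 4, 1, 2, 3, 2, 3, 4, 5, 4, 3, 2, 1, 3, 2, 1, 4, 3, 2, 3, 4, 5, 0, 1, 2, 3, 2, 3, 4, 1, 2, 3, 2, 3, 4, 5, 4, 3, 2, 1, 3, 2, 1, 4, 3, 2, 3, 4, 5, 0, 1, 2, 3, 2, 3, 4, 1, 2, 3, 2, 3, 4, 0, 4, 3, 2, 1, 3, 2, 1, 4, 3, 2, 3, 4, 5, 0, 1, 2, 3, 2, 3, 4, 1, 2, 3, 2, 3, 4],
   [5, 4, 3, 2, 1, 3, 2, 1, 4, 3, 2, 3, 4, 5, 0, 1, 2, 3, 2, 3, 4, 1, 2, 3, 2, 3, 4, 5, 4, 3, 2, 1, 3, 2, 1, 4, 3, 2, 3, 4, 5, 0, 1, 2, 3, 2, 3, 4, 1, 2, 3, 2, 3, 4, 5, 4, 3, 2, 1, 3, 2, 1, 4, 3, 2, 3, 4, 5, 0, 1, 2, 3, 2, 3, 4, 1, 2, 3, 2, 3, 4, 2, 3, 2, 3, 4, 3, 2, 1, 3, 2, 1, 4, 3, 2, 3, 4, 5, 0, 1, 2, 3, 2, 3, 4, 1, 2, 3, 2, 3, 4],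
   [5, 4, 3, 2, 1, 3, 2, 1, 4, 3, 2, 3, 4, 5, 0, 1, 2, 3, 2, 3, 4, 1, 2, 3, 2, 3, 4, 5, 4, 3, 2, 1, 3, 2, 1, 4, 3, 2, 3, 4, 5, 0, 1, 2, 3, 2, 3, 4, 1, 2, 3, 2, 3, 4, 0, 4, 3, 2, 1, 3, 2, 1, 4, 3, 2, 3, 4, 5, 0, 1, 2, 3, 2, 3, 4, 1, 2, 3, 2, 3, 4, 2, 3, 2, 3, 4, 3, 2, 1, 3, 2, 1, 4, 3, 2, 3, 4, 5, 0, 1, 2, 3, 2, 3, 4, 1, 2, 3, 2, 3, 4]]

theorem stabWords_ok : (stabWords.all fun w =>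
    w.all (fun x => Nat.blt x 6) && Nat.beq (run w 0) 0 && Nat.beq (run w 1) 1) = true ∧
    (stabWords.map fun w => run w 38).Nodup ∧ stabWords.length = 64 := by
  decide +kernel

theorem rep_val {w : List Nat} (hw : ∀ x ∈ w, x < 8) : rep (val gg w) = val prm w := by
  unfold val
  rw [map_list_prod, List.map_map]
  congr 1
  exact List.map_congr_left fun x hx => rep_gg (hw x hx)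

theorem rep_val_inv {w : List Nat} (hw : ∀ x ∈ w, x < 8) (i : Fin 122760) :
    (((rep (val gg w))⁻¹ i : Fin 122760) : Nat) = run w i := by
  rw [rep_val hw]; exact val_inv w hw i

theorem val_mem_HH {w : List Nat} (hw : ∀ x ∈ w, x < 6) : val gg w ∈ HH :=
  HH.list_prod_mem fun y hy => by
    obtain ⟨x, hx, rfl⟩ := List.mem_map.1 hy
    exact gg_mem (hw x hx)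

/-- The stabiliser of the three points is trivial. -/
theorem eq_one_of_fix {k : Cfsg.Spor.ON} (h0 : rep k 0 = 0) (h1 : rep k 1 = 1) (h2 : rep k 38 = 38) :
    k = 1 := by
  haveI := ONGroup90.finite_ON
  letI : MulAction HH (Fin 122760) := MulAction.compHom _ (rep.comp HH.subtype)
  have horb : 58653 ≤ Nat.card (MulAction.orbit HH (1 : Fin 122760)) := by
    have hsub : {i : Fin 122760 | ONOrbitData90.lab i = ONOrbitData90.lab ((1 : Fin 122760) : Nat)} ⊆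
        MulAction.orbit HH (1 : Fin 122760) := fun j hj => by
      refine ONGroup90.closed_label _ ?_ 1 j (MulAction.mem_orbit_self _) hj.symm
      intro x hx i hi
      have h : (⟨gg x, gg_mem hx⟩ : HH) • i ∈ MulAction.orbit HH (1 : Fin 122760) :=
        (MulAction.mem_orbit_iff.2 (by
          obtain ⟨k, rfl⟩ := MulAction.mem_orbit_iff.1 hi
          exact ⟨⟨gg x, gg_mem hx⟩ * k, mul_smul _ _ _⟩))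
      have e : (⟨gg x, gg_mem hx⟩ : HH) • i = prm x i := by
        show rep (gg x) i = _
        rw [rep_gg (by omega)]
      rwa [e] at h
    have hc := Set.ncard_le_ncard hsub (Set.toFinite _)
    have hl : ONOrbitData90.lab ((1 : Fin 122760) : Nat) = 1 := by decide +kernel
    have hn : {i : Fin 122760 | ONOrbitData90.lab i = 1}.ncard = 58653 := by
      rw [← ONOrbit90Count.count1, ← ONGroup90.card_label, ← Set.ncard_coe_finset]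
      simp
    rw [hl, hn] at hc
    exact hc
  let S := MulAction.stabilizer HH (1 : Fin 122760)
  have hS : Nat.card S ≤ 64 := by
    have e := MulAction.index_stabilizer HH (1 : Fin 122760)
    have h := S.card_mul_index
    rw [ONGroup90.card_HH, e, ← Nat.card_coe_set_eq] at h
    by_contra hgt
    push Not at hgt
    have : 65 * 58653 ≤ Nat.card S * Nat.card (MulAction.orbit HH (1 : Fin 122760)) :=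
      Nat.mul_le_mul hgt horb
    omega
  let T : S → Fin 122760 := fun s => (rep ((s : HH) : Cfsg.Spor.ON))⁻¹ 38
  obtain ⟨hok, hnd, hlen⟩ := stabWords_ok
  simp only [List.all_eq_true, Bool.and_eq_true, Nat.blt_eq, Nat.beq_eq] at hok
  have himg : 64 ≤ Nat.card (Set.range T) := by
    let g : Fin 64 → Set.range T := fun j =>
      have hj := hok _ (List.getElem_mem (by rw [hlen]; exact j.2))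
      ⟨T ⟨⟨val gg stabWords[(j : Nat)], val_mem_HH hj.1.1⟩, by
        show rep (val gg stabWords[(j : Nat)]) (1 : Fin 122760) = 1
        have h := rep_val_inv (fun x hx => (hj.1.1 x hx).trans (by norm_num)) (1 : Fin 122760)
        have h' : (rep (val gg stabWords[(j : Nat)]))⁻¹ (1 : Fin 122760) = 1 := Fin.ext (h.trans hj.2)
        exact (Equiv.Perm.inv_eq_iff_eq.1 h').symm⟩, Set.mem_range_self _⟩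
    have hg : Function.Injective g := by
      intro i j hij
      have hv : ∀ j : Fin 64, (((g j : Set.range T) : Fin 122760) : Nat) =
          run (stabWords[(j : Nat)]'(by rw [hlen]; exact j.2)) 38 := fun j => by
        have hj := hok _ (List.getElem_mem (by rw [hlen]; exact j.2))
        exact rep_val_inv (fun x hx => (hj.1.1 x hx).trans (by norm_num)) (38 : Fin 122760)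
      have h := congrArg (fun p : Set.range T => ((p : Fin 122760) : Nat)) hij
      simp only [hv] at h
      have h' := (hnd.getElem_inj_iff (i := (i : Nat)) (j := (j : Nat))
        (hi := by rw [List.length_map, hlen]; exact i.2) (hj := by rw [List.length_map, hlen]; exact j.2)).1
        (by simpa using h)
      exact Fin.ext h'
    simpa using Nat.card_le_card_of_injective g hg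
  have hT : Function.Injective T := by
    have hs : Function.Surjective (Set.rangeFactorization T) := Set.rangeFactorization_surjective
    have hb := (hs.bijective_of_nat_card_le (hS.trans himg)).1
    intro a b hab
    exact hb (Subtype.ext hab)
  have hk : k ∈ HH := ONGroup90.rep_eq_zero h0
  have := @hT ⟨⟨k, hk⟩, h1⟩ ⟨1, S.one_mem⟩ (by
    show (rep k)⁻¹ 38 = (rep 1)⁻¹ 38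
    rw [map_one, inv_one, Equiv.Perm.one_apply, Equiv.Perm.inv_eq_iff_eq, h2])
  exact congrArg (fun s : S => ((s : HH) : Cfsg.Spor.ON)) this

/-- The images of the base. -/
noncomputable def key (k : Cfsg.Spor.ON) : Nat × Nat × Nat :=
  (((rep k)⁻¹ 0 : Fin 122760), ((rep k)⁻¹ 1 : Fin 122760), ((rep k)⁻¹ 38 : Fin 122760))

theorem key_inj {k l : Cfsg.Spor.ON} (h : key k = key l) : k = l := by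
  simp only [key, Prod.mk.injEq, Fin.val_inj] at h
  have hh : ∀ i : Fin 122760, (rep k)⁻¹ i = (rep l)⁻¹ i → rep (l * k⁻¹) i = i := fun i hi => by
    rw [map_mul, map_inv, Equiv.Perm.mul_apply, hi, Equiv.Perm.inv_def, Equiv.apply_symm_apply]
  exact (mul_inv_eq_one.1 (eq_one_of_fix (hh _ h.1) (hh _ h.2.1) (hh _ h.2.2))).symm

theorem key_mul_word (k : Cfsg.Spor.ON) {w : List Nat} (hw : ∀ x ∈ w, x < 8) :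
    key (k * val gg w) = (run w (key k).1, run w (key k).2.1, run w (key k).2.2) := by
  simp only [key, map_mul, mul_inv_rev, Equiv.Perm.mul_apply, rep_val_inv hw]

/-- Decide an equality of words. -/
noncomputable def same (u v : List Nat) : Bool :=
  (u ++ v).all (fun x => Nat.blt x 8) &&
    Nat.beq (run u 0) (run v 0) && Nat.beq (run u 1) (run v 1) && Nat.beq (run u 38) (run v 38)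

theorem same_sound {u v : List Nat} (h : same u v = true) : val gg u = val gg v := by
  simp only [same, List.all_append, Bool.and_eq_true, List.all_eq_true, Nat.blt_eq, Nat.beq_eq] at h
  obtain ⟨⟨⟨⟨hu, hv⟩, a⟩, b⟩, c⟩ := h
  apply key_inj
  simp only [key, rep_val_inv hu, rep_val_inv hv]
  exact Prod.ext a (Prod.ext b c)

end Cfsg.Agent.ONBase90
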