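import Cfsg.Agent.Lib.ONMultiplier60

/-!
A projective representation of the presented O'Nan group which is exact on some relators and has a
value of order three at the relator `g b (g^c) (g^b) (g^c)` gives the triple cover, and with it the multiplier.
-/

set_option autoImplicit false
set_option maxRecDepth 100000

namespace Cfsg.Agent.ONCoverGlue60

open scoped commutatorElement
open Cfsg.Spor.ON (Gen)

theorem of_projective {M : Type} [Group M] [Finite M] (f : Gen → M)
    (hrel : ∀ r ∈ Cfsg.Spor.coxRelators Cfsg.Spor.ON.edges ∪ {r | r ∈ Cfsg.Spor.ON.extra},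
      FreeGroup.lift f r ∈ Subgroup.center M)
    (hne : f .a ∉ Subgroup.center M)
    (ha : f .a * f .a = 1) (hb : f .b * f .b = 1) (hc : f .c * f .c = 1) (hf : f .f * f .f = 1)
    (hg : f .g * f .g = f .a * f .f)
    (h3 : (f .g * f .b * f .c * f .g * f .c * f .b * f .g * f .b * f .c * f .g * f .c) ^ 3 = 1)
    (hv : f .g * f .b * f .c * f .g * f .c * f .b * f .g * f .b * f .c * f .g * f .c ≠ 1) :
    Cfsg.HasCyclicSchurMultiplier Cfsg.Spor.ON 3 := by
  haveI := ONGroup90.simple_ON
  let q : M →* M ⧸ Subgroup.center M := QuotientGroup.mk' _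
  let s : Cfsg.Spor.ON →* M ⧸ Subgroup.center M := PresentedGroup.toGroup (f := fun i => q (f i)) (by
    intro r hr
    have hl : FreeGroup.lift (fun i => q (f i)) r = q (FreeGroup.lift f r) := by
      rw [← MonoidHom.comp_apply]
      congr 1
      exact FreeGroup.ext_hom _ _ fun i => by
        rw [MonoidHom.comp_apply, FreeGroup.lift_apply_of, FreeGroup.lift_apply_of]
    rw [hl]
    exact (QuotientGroup.eq_one_iff _).2 (hrel r hr))
  have hsinj : Function.Injective s := by
    rw [← MonoidHom.ker_eq_bot_iff]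
    refine (MonoidHom.normal_ker s).eq_bot_or_eq_top.resolve_right fun ht => hne ?_
    have h : PresentedGroup.of Gen.a ∈ s.ker := ht ▸ Subgroup.mem_top _
    rw [MonoidHom.mem_ker, PresentedGroup.toGroup.of] at h
    exact (QuotientGroup.eq_one_iff _).1 h
  let U : Subgroup M := s.range.comap q
  let D : Subgroup M := ⁅U, U⁆
  have hDU : D ≤ U := Subgroup.commutator_le_self U
  have hDrange : D.map q = s.range := by
    rw [Subgroup.map_commutator, Subgroup.map_comap_eq_self_of_surjective (QuotientGroup.mk'_surjective _),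
      MonoidHom.range_eq_map, ← Subgroup.map_commutator, ← commutator_def, ONMultTwo60.perfect_ON]
  let e : Cfsg.Spor.ON ≃* s.range := MonoidHom.ofInjective hsinj
  let π : D →* Cfsg.Spor.ON :=
    e.symm.toMonoidHom.comp ((q.comp D.subtype).codRestrict s.range fun d => hDU d.2)
  have hπ : ∀ d : D, s (π d) = q d.1 := fun d => congrArg Subtype.val (e.apply_symm_apply _)
  have hπs : Function.Surjective π := by
    intro o
    obtain ⟨d, hd, hdo⟩ := (show s o ∈ D.map q from hDrange.symm ▸ ⟨o, rfl⟩)
    exact ⟨⟨d, hd⟩, hsinj ((hπ _).trans hdo)⟩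
  have hker : ∀ d : D, π d = 1 ↔ d.1 ∈ Subgroup.center M := fun d => by
    rw [← QuotientGroup.eq_one_iff, ← hsinj.eq_iff, hπ, map_one]
    rfl
  have hperf : commutator D = ⊤ := by
    have hsplit : ∀ x ∈ U, ∃ d ∈ D, ∃ z ∈ Subgroup.center M, x = d * z := by
      intro x hx
      obtain ⟨d, hd, hdx⟩ := (show q x ∈ D.map q from hDrange.symm ▸ hx)
      exact ⟨d, hd, d⁻¹ * x, QuotientGroup.eq.1 hdx, (mul_inv_cancel_left d x).symm⟩
    have hDD : ⁅D, D⁆ = D := by
      refine le_antisymm (Subgroup.commutator_le_self D) ?_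
      show ⁅U, U⁆ ≤ ⁅D, D⁆
      rw [Subgroup.commutator_le]
      intro a ha b hb
      obtain ⟨u, hu, c, hc', rfl⟩ := hsplit a ha
      obtain ⟨v, hv', d, hd, rfl⟩ := hsplit b hb
      have cc : ∀ w, c * w = w * c := fun w => (Subgroup.mem_center_iff.1 hc' w).symm
      have cd : ∀ w, d * w = w * d := fun w => (Subgroup.mem_center_iff.1 hd w).symm
      have : ⁅u * c, v * d⁆ = ⁅u, v⁆ := by
        rw [commutatorElement_def, commutatorElement_def]
        calc u * c * (v * d) * (u * c)⁻¹ * (v * d)⁻¹ = u * (c * (v * d)) * c⁻¹ * u⁻¹ * d⁻¹ * v⁻¹ := by group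
          _ = u * v * (d * u⁻¹) * d⁻¹ * v⁻¹ := by rw [cc]; group
          _ = u * v * u⁻¹ * v⁻¹ := by rw [cd]; group
      rw [this]
      exact Subgroup.commutator_mem_commutator hu hv'
    haveI : Group.IsPerfect D := Subgroup.isPerfect_iff.2 hDD
    exact Group.IsPerfect.commutator_eq_top
  have hstem : Cfsg.IsStemExtension π :=
    ⟨hπs, fun d hd => Subgroup.mem_center_iff.2 fun w => Subtype.ext
      (Subgroup.mem_center_iff.1 ((hker d).1 hd) w.1), hperf ▸ le_top⟩
  obtain ⟨φ, hφ⟩ := ONMultiplier60.exists_surjective hstem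
  have hne1 : π.ker ≠ ⊥ := by
    intro hbot
    have hinj : Function.Injective π := (MonoidHom.ker_eq_bot_iff π).1 hbot
    let σ : Cfsg.Spor.ON →* M := D.subtype.comp (MulEquiv.ofBijective π ⟨hinj, hπs⟩).symm.toMonoidHom
    have hσ : ∀ o, q (σ o) = s o := fun o => by
      refine (hπ _).symm.trans (congrArg s ?_)
      exact (MulEquiv.ofBijective π ⟨hinj, hπs⟩).apply_symm_apply o
    let u : Gen → M := fun i => (σ (PresentedGroup.of i))⁻¹ * f i
    have hu : ∀ i, u i ∈ Subgroup.center M := fun i =>
      QuotientGroup.eq.1 ((hσ _).trans (PresentedGroup.toGroup.of _))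
    have cu : ∀ i w, u i * w = w * u i := fun i w => (Subgroup.mem_center_iff.1 (hu i) w).symm
    have hfu : ∀ i, f i = σ (PresentedGroup.of i) * u i := fun i => (mul_inv_cancel_left _ _).symm
    have hmul : ∀ (x y : M) i, x * u i * y = x * y * u i := fun x y i => by
      rw [mul_assoc, cu, ← mul_assoc]
    have hof : ∀ i : Gen, (PresentedGroup.of i : Cfsg.Spor.ON) = PresentedGroup.mk _ (FreeGroup.of i) := fun _ => rfl
    have hsq : ∀ i, i ∈ [Gen.a, Gen.b, Gen.c, Gen.f] →
        σ (PresentedGroup.of i) * σ (PresentedGroup.of i) = 1 := by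
      intro i hi
      rw [← map_mul]
      have : (PresentedGroup.of i : Cfsg.Spor.ON) * PresentedGroup.of i = 1 := by
        simp only [List.mem_cons, List.not_mem_nil, or_false] at hi
        rcases hi with rfl | rfl | rfl | rfl
        exacts [ONIndex90.gg_sq (x := 0) (by norm_num), ONIndex90.gg_sq (x := 1) (by norm_num),
          ONIndex90.gg_sq (x := 2) (by norm_num), ONIndex90.gg_sq (x := 5) (by norm_num)]
      rw [this, map_one]
    have hu2 : ∀ i, i ∈ [Gen.a, Gen.b, Gen.c, Gen.f] → f i * f i = 1 → u i * u i = 1 := by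
      intro i hi h
      rw [hfu i] at h
      rwa [hmul, ← mul_assoc (σ (PresentedGroup.of i)), hsq i hi, one_mul] at h
    have ua := hu2 .a (by decide) ha
    have ub := hu2 .b (by decide) hb
    have uc := hu2 .c (by decide) hc
    have uf := hu2 .f (by decide) hf
    have e7 : (ONIndex90.gg 7 : Cfsg.Spor.ON) = (ONIndex90.gg 6)⁻¹ := rfl
    have ug : u .g * u .g = u .a * u .f := by
      have h1 := ONIndex90.val_words (w := [0, 5, 7, 7]) (by decide)
      simp only [CosetCertCore.val_cons, CosetCertCore.val_nil, mul_one, e7, ← mul_inv_rev, ← mul_assoc] at h1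
      rw [mul_inv_eq_one] at h1
      have h2 : σ (PresentedGroup.of Gen.g) * σ (PresentedGroup.of Gen.g) =
          σ (PresentedGroup.of Gen.a) * σ (PresentedGroup.of Gen.f) := by
        rw [← map_mul, ← map_mul]; exact congrArg σ h1.symm
      rw [hfu .g, hfu .a, hfu .f, hmul, hmul, ← mul_assoc (σ (PresentedGroup.of Gen.g)), h2,
        ← mul_assoc (σ (PresentedGroup.of Gen.a)), mul_assoc _ (u Gen.g), mul_assoc _ (u Gen.f),
        cu Gen.f (u Gen.a)] at hg
      exact mul_left_cancel hg
    have h6 : σ (PresentedGroup.of Gen.g) * σ (PresentedGroup.of Gen.b) * σ (PresentedGroup.of Gen.c) *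
        σ (PresentedGroup.of Gen.g) * σ (PresentedGroup.of Gen.c) * σ (PresentedGroup.of Gen.b) *
        σ (PresentedGroup.of Gen.g) * σ (PresentedGroup.of Gen.b) * σ (PresentedGroup.of Gen.c) *
        σ (PresentedGroup.of Gen.g) * σ (PresentedGroup.of Gen.c) = 1 := by
      have h1 := congrArg σ (ONIndex90.val_words (w := [6, 1, 2, 6, 2, 1, 6, 1, 2, 6, 2]) (by decide))
      simp only [CosetCertCore.val_cons, CosetCertCore.val_nil, mul_one, map_mul, map_one, ← mul_assoc] at h1
      exact h1
    have hg4 : u .g * u .g * (u .g * u .g) = 1 := by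
      rw [ug]
      calc u Gen.a * u Gen.f * (u Gen.a * u Gen.f) = u Gen.a * (u Gen.f * u Gen.a) * u Gen.f := by group
        _ = u Gen.a * u Gen.a * (u Gen.f * u Gen.f) := by rw [cu Gen.f]; group
        _ = 1 := by rw [ua, uf, one_mul]
    obtain ⟨v, hv'⟩ : ∃ v, f .g * f .b * f .c * f .g * f .c * f .b * f .g * f .b * f .c * f .g * f .c = v :=
      ⟨_, rfl⟩
    rw [hv'] at h3 hv
    have hval : v = u .b := by
      rw [← hv', hfu .g, hfu .b, hfu .c]
      generalize σ (PresentedGroup.of Gen.g) = G, σ (PresentedGroup.of Gen.b) = B,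
        σ (PresentedGroup.of Gen.c) = C at h6 ⊢
      have mG : ∀ x i, x * u i * G = x * G * u i := fun x i => hmul x G i
      have mB : ∀ x i, x * u i * B = x * B * u i := fun x i => hmul x B i
      have mC : ∀ x i, x * u i * C = x * C * u i := fun x i => hmul x C i
      simp only [← mul_assoc, mG, mB, mC]
      rw [h6, one_mul]
      have main : ∀ g b c : Subgroup.center M, g * g * (g * g) = 1 → b * b = 1 → c * c = 1 →
          g * b * c * g * c * b * g * b * c * g * c = b := by
        intro g b c h1 h2 h3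
        letI : CommGroup (Subgroup.center M) :=
          { (inferInstance : Group (Subgroup.center M)) with
            mul_comm := fun x y => Subtype.ext (Subgroup.mem_center_iff.1 y.2 x.1) }
        calc g * b * c * g * c * b * g * b * c * g * c = (g * g * (g * g)) * b * (b * b) * ((c * c) * (c * c)) := by
              simp only [mul_assoc, mul_left_comm, mul_comm]
          _ = b := by rw [h1, h2, h3, one_mul, mul_one, one_mul, mul_one]
      exact congrArg Subtype.val (main ⟨u Gen.g, hu _⟩ ⟨u Gen.b, hu _⟩ ⟨u Gen.c, hu _⟩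
        (Subtype.ext hg4) (Subtype.ext ub) (Subtype.ext uc))
    apply hv
    rw [← pow_two] at ub
    rw [hval] at h3 ⊢
    rwa [pow_succ, ub, one_mul] at h3
  have hk : Nat.card π.ker = 3 := by
    have h := Subgroup.card_dvd_of_surjective φ hφ
    rw [Nat.card_congr Multiplicative.toAdd, Nat.card_zmod, Nat.dvd_prime Nat.prime_three] at h
    exact h.resolve_left fun h1 => hne1 (Subgroup.eq_bot_of_card_le _ h1.le)
  exact ONMultiplier60.hasMultiplier π hstem hk

end Cfsg.Agent.ONCoverGlue60
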