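import Cfsg.Agent.Lib.ONFortyFiveCheck41
import Cfsg.Prelude.Def_Sporadic

/-!
A projective representation of degree 45 over the field with seven elements of the presented
O'Nan group, and the triple cover that it gives inside the special linear group.
-/

set_option autoImplicit false
set_option maxRecDepth 100000
set_option Elab.async false
set_option linter.style.haveILetI false
set_option linter.unusedSimpArgs false

namespace Cfsg.Agent.ONFortyFive41

open Cfsg.Agent.CosetCertCore Cfsg.Agent.ONFortyFiveData41 Cfsg.Agent.ONFortyFiveCheck41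

local instance : Fact (Nat.Prime 7) := ⟨by norm_num⟩

/-- The matrices. -/
abbrev M45 := Matrix (Fin 45) (Fin 45) (ZMod 7)

theorem digit_eq (v j : Nat) : digit v j = v / 2048 ^ j % 2048 := by
  show (v >>> (11 * j)) &&& (2 ^ 11 - 1) = _
  rw [Nat.and_two_pow_sub_one_eq_mod, Nat.shiftRight_eq_div_pow, pow_mul]
  norm_num

theorem digit_zero (v : Nat) : Nat.land v 2047 = digit v 0 := rfl

theorem digit_succ (v j : Nat) : digit (Nat.shiftRight v 11) j = digit v (j + 1) := by
  show ((v >>> 11) >>> (11 * j)) &&& 2047 = (v >>> (11 * (j + 1))) &&& 2047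
  rw [← Nat.shiftRight_add, show 11 + 11 * j = 11 * (j + 1) by ring]

theorem residues_eq (n v : Nat) : residues n v = ∑ j : Fin n, digit v j % 7 * 2048 ^ (j : Nat) := by
  induction n generalizing v with
  | zero => rfl
  | succ n ih =>
    rw [Fin.sum_univ_succ, show residues (n + 1) v = digit v 0 % 7 +
      (force (Nat.shiftRight v 11) (residues n)) <<< 11 from rfl, force_eq, ih, Nat.shiftLeft_eq, Finset.sum_mul]
    congr 1
    · simp
    · refine Finset.sum_congr rfl fun j _ => ?_
      rw [digit_succ, Fin.val_succ, pow_succ (2048 : Nat) (j : Nat), mul_assoc]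

theorem dot_eq (R : List Nat) : ∀ v, dot R v = ∑ k : Fin R.length, digit v k * R.getD k 0 := by
  induction R with
  | nil => intro v; rfl
  | cons r R ih =>
    intro v
    show Nat.land v 2047 * r + force (Nat.shiftRight v 11) (dot R) = _
    rw [force_eq, ih, digit_zero]
    simp only [List.length_cons, Fin.sum_univ_succ, Fin.val_succ, Fin.val_zero, List.getD_cons_zero,
      List.getD_cons_succ]
    exact congrArg _ (Finset.sum_congr rfl fun k _ => by rw [digit_succ])

/-- Packing. -/
def pack (f : Fin 45 → Nat) : Nat := ∑ j : Fin 45, f j * 2048 ^ (j : Nat)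

theorem digit_pack {f : Fin 45 → Nat} (hf : ∀ j, f j < 2048) (j : Fin 45) : digit (pack f) j = f j := by
  let g : Fin 45 → Fin 2048 := fun i => ⟨f i, hf i⟩
  have h := congrArg (fun q : Fin 45 → Fin 2048 => (q j : Nat)) (finFunctionFinEquiv.symm_apply_apply g)
  simp only [finFunctionFinEquiv_apply, finFunctionFinEquiv_symm_apply_val] at h
  rw [digit_eq]
  exact h

theorem pack_digit {v : Nat} (hv : v < 2048 ^ 45) : pack (fun j => digit v j) = v := by
  have h := congrArg Fin.val (finFunctionFinEquiv.apply_symm_apply (⟨v, hv⟩ : Fin (2048 ^ 45)))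
  simp only [finFunctionFinEquiv_apply, finFunctionFinEquiv_symm_apply_val] at h
  simp only [pack, digit_eq]
  exact h

/-- The vector of a packed vector. -/
noncomputable def toV (v : Nat) : Fin 45 → ZMod 7 := fun j => (digit v j : ZMod 7)

/-- The matrix of a letter. -/
noncomputable def mx (x : Nat) : M45 := Matrix.of fun k j => (digit ((rows.getD x []).getD k 0) j : ZMod 7)

theorem rows_length {x : Nat} (hx : x < 8) : (rows.getD x []).length = 45 := by
  have h := rows_ok
  rw [rowsOk, Bool.and_eq_true] at h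
  exact Nat.eq_of_beq_eq_true ((CosetCertTable.allFrom_iff _ _ _).mp h.1 x (Nat.zero_le x) (by omega))

theorem row_spec {x k : Nat} (hx : x < 8) (hk : k < 45) :
    (rows.getD x []).getD k 0 < 2048 ^ 45 ∧ ∀ j, j < 45 → digit ((rows.getD x []).getD k 0) j < 7 := by
  have h0 := rows_ok
  rw [rowsOk, Bool.and_eq_true] at h0
  have h := (CosetCertTable.allFrom_iff _ _ _).mp
    ((CosetCertTable.allFrom_iff _ _ _).mp h0.2 x (Nat.zero_le x) (by omega)) k (Nat.zero_le k) (by omega)
  rw [Bool.and_eq_true, Nat.blt_eq] at h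
  exact ⟨h.1, fun j hj => Nat.blt_eq.mp ((CosetCertTable.allFrom_iff _ _ _).mp h.2 j (Nat.zero_le j) (by omega))⟩

theorem norm7_eq (v : Nat) : norm7 v = pack fun j => digit v j % 7 := residues_eq 45 v

theorem toV_norm7 (v : Nat) : toV (norm7 v) = toV v := by
  funext j
  rw [toV, norm7_eq, digit_pack (fun i => (Nat.mod_lt _ (by norm_num)).trans (by norm_num)), ZMod.natCast_mod]
  rfl

theorem digit_norm7 (v : Nat) (j : Fin 45) : digit (norm7 v) j < 7 := by
  rw [norm7_eq, digit_pack (fun i => (Nat.mod_lt _ (by norm_num)).trans (by norm_num))]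
  exact Nat.mod_lt _ (by norm_num)

theorem step_spec {x v : Nat} (hx : x < 8) (hv : ∀ k : Fin 45, digit v k < 7) :
    toV (stepV (rows.getD x []) v) = Matrix.vecMul (toV v) (mx x) ∧
      ∀ k : Fin 45, digit (stepV (rows.getD x []) v) k < 7 := by
  rw [stepV, force_eq]
  refine ⟨?_, digit_norm7 _⟩
  rw [toV_norm7]
  set R := rows.getD x [] with hR
  obtain ⟨S, hSdef⟩ : ∃ S : Fin 45 → Nat, S = fun j : Fin 45 =>
      ∑ k : Fin 45, digit v k * digit (R.getD k 0) j := ⟨_, rfl⟩
  have hS : ∀ j, S j < 2048 := by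
    intro j
    have hle : ∀ k : Fin 45, digit v k * digit (R.getD k 0) j ≤ 36 := fun k => by
      have h1 := hv k
      have h2 : digit (R.getD k 0) j < 7 := (row_spec hx k.2).2 j j.2
      calc _ ≤ 6 * 6 := Nat.mul_le_mul (by omega) (by omega)
        _ = 36 := by norm_num
    subst hSdef
    show (∑ k : Fin 45, digit v k * digit (R.getD k 0) j) < 2048
    calc _ ≤ ∑ _k : Fin 45, 36 := Finset.sum_le_sum fun k _ => hle k
      _ < 2048 := by simp
  have hsum : dot R v = pack S := by
    subst hSdef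
    have aux : ∀ n, R.length = n → dot R v = ∑ k : Fin n, digit v k * R.getD k 0 := by
      rintro n rfl; exact dot_eq R v
    rw [aux 45 (rows_length hx)]
    calc _ = ∑ k : Fin 45, ∑ j : Fin 45, digit v k * digit (R.getD k 0) j * 2048 ^ (j : Nat) := by
          refine Finset.sum_congr rfl fun k _ => ?_
          conv_lhs => rw [← pack_digit (row_spec hx k.2).1]
          rw [pack, Finset.mul_sum]
          exact Finset.sum_congr rfl fun j _ => (mul_assoc ..).symm
      _ = _ := by
          rw [Finset.sum_comm, pack]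
          exact Finset.sum_congr rfl fun j _ => (Finset.sum_mul ..).symm
  funext j
  rw [hsum, toV, digit_pack hS, hSdef]
  simp only [Nat.cast_sum, Nat.cast_mul]
  rfl

/-- The product of a word. -/
noncomputable def ev (w : List Nat) : M45 := (w.map mx).prod

theorem ev_nil : ev [] = 1 := rfl

theorem ev_cons (x : Nat) (w : List Nat) : ev (x :: w) = mx x * ev w := by simp [ev]

theorem ev_append (u w : List Nat) : ev (u ++ w) = ev u * ev w := by simp [ev]

theorem ev_replicate (u : List Nat) (n : Nat) : ev (List.replicate n u).flatten = ev u ^ n := by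
  induction n with
  | zero => simp [ev]
  | succ n ih => rw [List.replicate_succ, List.flatten_cons, ev_append, ih, pow_succ']

theorem run_spec : ∀ (w : List Nat), (∀ x ∈ w, x < 8) → ∀ v, (∀ k : Fin 45, digit v k < 7) →
    toV (runV w v) = Matrix.vecMul (toV v) (ev w) := by
  intro w
  induction w with
  | nil => intro _ v _; rw [ev_nil, Matrix.vecMul_one]; rfl
  | cons x w ih =>
    intro hw v hv
    obtain ⟨h1, h2⟩ := step_spec (hw x List.mem_cons_self) hv
    rw [ev_cons, ← Matrix.vecMul_vecMul, ← h1, ← ih (fun y hy => hw y (List.mem_cons_of_mem _ hy)) _ h2]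
    simp only [runV, force_eq]

theorem shift_one (c : Nat) (hc : c < 7) (i : Fin 45) :
    (∀ j : Fin 45, digit (Nat.shiftLeft c (11 * (i : Nat))) j < 7) ∧
    toV (Nat.shiftLeft c (11 * (i : Nat))) = Pi.single i (c : ZMod 7) := by
  have e : Nat.shiftLeft c (11 * (i : Nat)) = pack (Pi.single i c) := by
    show c <<< (11 * (i : Nat)) = _
    rw [Nat.shiftLeft_eq, pow_mul, pack, Finset.sum_eq_single i]
    · rw [Pi.single_eq_same]
      norm_num
    · intro j _ hj; rw [Pi.single_eq_of_ne hj, zero_mul]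
    · simp
  have hlt : ∀ j, (Pi.single i c : Fin 45 → Nat) j < 7 := by
    intro j
    by_cases h : j = i
    · subst h; simpa using hc
    · simp [h]
  have hd : ∀ j : Fin 45, digit (Nat.shiftLeft c (11 * (i : Nat))) j = (Pi.single i c : Fin 45 → Nat) j :=
    fun j => by rw [e, digit_pack (fun j => (hlt j).trans (by norm_num))]
  refine ⟨fun j => (hd j).symm ▸ hlt j, funext fun j => ?_⟩
  rw [toV, hd]
  by_cases h : j = i
  · subst h; simp
  · simp [h]

theorem ev_of_scalOk {w : List Nat} {c : Nat} (hc : c < 7) (hw : w.all (fun x => Nat.blt x 8) = true)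
    (h : scalOk w c = true) : ev w = (c : ZMod 7) • (1 : M45) := by
  refine Matrix.ext fun i j => ?_
  have hi := (CosetCertTable.allFrom_iff _ _ _).mp h i (Nat.zero_le _) (by omega)
  rw [Nat.beq_eq] at hi
  have := congrFun ((run_spec w (fun x hx => Nat.blt_eq.mp (List.all_eq_true.mp hw x hx)) _
    (shift_one 1 (by norm_num) i).1).symm.trans (congrArg toV hi)) j
  rw [(shift_one 1 (by norm_num) i).2, (shift_one c hc i).2, Nat.cast_one, Matrix.single_one_vecMul] at this
  rw [Matrix.smul_apply, Matrix.one_apply, smul_eq_mul]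
  refine this.trans ?_
  by_cases hij : i = j
  · subst hij; simp
  · simp [hij, Ne.symm hij]

theorem mx_inv {x : Nat} (hx : x < 8) : mx x * mx (inv8 x) = 1 := by
  obtain ⟨h, h8⟩ := inv_ok x hx
  have := ev_of_scalOk (c := 1) (by norm_num) (by
    simp only [List.all_cons, List.all_nil, Bool.and_true, Bool.and_eq_true, Nat.blt_eq]
    exact ⟨hx, h8⟩) h
  rw [ev_cons, ev_cons, ev_nil, mul_one, Nat.cast_one, one_smul] at this
  exact this

attribute [local irreducible] mx

theorem pow_one_of {m R : Type*} [Fintype m] [DecidableEq m] [CommSemiring R] {p q : Matrix m m R} (hp : p * p = 1) (hq : q * q = 1) {n : Nat}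
    (h : (q * p) ^ n = 1) : (p * q) ^ n = 1 := by
  have h1 : (p * q) * (q * p) = 1 := by rw [mul_assoc, ← mul_assoc q q, hq, one_mul, hp]
  have h2 : (q * p) * (p * q) = 1 := by rw [mul_assoc, ← mul_assoc p p, hp, one_mul, hq]
  have hc : Commute (p * q) (q * p) := h1.trans h2.symm
  have h3 := hc.mul_pow n
  rwa [h1, one_pow, h, mul_one, eq_comm] at h3

/-- The letter of a generator. -/
def letter : Cfsg.Spor.ON.Gen → Nat
  | .a => 0 | .b => 1 | .c => 2 | .d => 3 | .e => 4 | .f => 5 | .g => 7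

theorem letter_lt (s : Cfsg.Spor.ON.Gen) : letter s < 8 := by cases s <;> decide

/-- The unit of a generator. -/
noncomputable def unit (s : Cfsg.Spor.ON.Gen) : M45ˣ where
  val := mx (letter s)
  inv := mx (inv8 (letter s))
  val_inv := mx_inv (letter_lt s)
  inv_val := by
    have h := mx_inv (inv_ok _ (letter_lt s)).2
    rwa [show inv8 (inv8 (letter s)) = letter s by cases s <;> rfl] at h

theorem nodes_sub : ∀ x ∈ Cfsg.Spor.coxNodes Cfsg.Spor.ON.edges,
    x ∈ [(Cfsg.Spor.ON.Gen.a), .b, .c, .d, .e, .f] := by decide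

theorem sq_one {x : Nat} (hx : x < 6) : mx x * mx x = 1 := by
  have h := mx_inv (x := x) (by omega)
  rwa [show inv8 x = x by simp [inv8, hx]] at h

theorem pair_pow {x y : Nat} (hx : x < 6) (hy : y < 6) :
    (mx x * mx y) ^ (if x = y then 1 else if x + 1 = y ∨ y + 1 = x then
      (if min x y = 2 then 8 else 3) else 2) = 1 := by
  have main : ∀ x y, x < y → y < 6 →
      (mx x * mx y) ^ (if x + 1 = y then (if x = 2 then 8 else 3) else 2) = 1 := by
    intro x y hxy hy
    have := ev_of_scalOk (c := 1) (by norm_num)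
      ((by decide +kernel : ∀ y < 6, ∀ x < y, (pairW x y).all (fun z => Nat.blt z 8) = true) y hy x hxy)
      (cox_ok y hy x hxy)
    rw [pairW, ev_replicate, ev_cons, ev_cons, ev_nil, mul_one, Nat.cast_one, one_smul] at this
    exact this
  rcases lt_trichotomy x y with h | h | h
  · rw [if_neg h.ne]
    have hm := main x y h hy
    have : ¬ y + 1 = x := by omega
    simpa [this, Nat.min_eq_left h.le] using hm
  · subst h
    rw [if_pos rfl, pow_one]
    exact sq_one hx
  · rw [if_neg h.ne']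
    have hm := main y x h hx
    have h1 : ¬ x + 1 = y := by omega
    simp only [h1, false_or, Nat.min_eq_right h.le]
    exact pow_one_of (sq_one hx) (sq_one hy) hm

theorem label_eq : ∀ x ∈ [(Cfsg.Spor.ON.Gen.a), .b, .c, .d, .e, .f],
    ∀ y ∈ [(Cfsg.Spor.ON.Gen.a), .b, .c, .d, .e, .f], letter x < 6 ∧ letter y < 6 ∧
    Cfsg.Spor.coxLabel Cfsg.Spor.ON.edges x y =
      if letter x = letter y then 1 else if letter x + 1 = letter y ∨ letter y + 1 = letter x then
        (if min (letter x) (letter y) = 2 then 8 else 3) else 2 := by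
  decide +kernel

/-- Relators are scalar, with scalar a cube root of one, for any suitable matrices. -/
theorem relators_of {n : Nat} (m : Nat → Matrix (Fin n) (Fin n) (ZMod 7))
    (u : Cfsg.Spor.ON.Gen → (Matrix (Fin n) (Fin n) (ZMod 7))ˣ)
    (hu : ∀ s, ((u s : (Matrix (Fin n) (Fin n) (ZMod 7))ˣ) : Matrix (Fin n) (Fin n) (ZMod 7)) = m (letter s))
    (hui : ∀ s, (((u s)⁻¹ : (Matrix (Fin n) (Fin n) (ZMod 7))ˣ) : Matrix (Fin n) (Fin n) (ZMod 7)) =
      m (inv8 (letter s)))
    (hpair : ∀ x y, x < 6 → y < 6 → (m x * m y) ^ (if x = y then 1 else if x + 1 = y ∨ y + 1 = x then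
      (if min x y = 2 then 8 else 3) else 2) = 1)
    (h0 : ([0, 5, 6, 6].map m).prod = ((1 : Nat) : ZMod 7) • (1 : Matrix (Fin n) (Fin n) (ZMod 7)))
    (h1 : ([0, 5, 3, 2, 3, 2, 3, 2, 3, 2].map m).prod = ((1 : Nat) : ZMod 7) • (1 : Matrix (Fin n) (Fin n) (ZMod 7)))
    (h2 : ([2, 6, 3, 6, 3, 2, 3, 7, 3, 7].map m).prod = ((1 : Nat) : ZMod 7) • (1 : Matrix (Fin n) (Fin n) (ZMod 7)))
    (h3 : ([3, 6, 2, 6, 2, 3, 2, 7, 2, 7].map m).prod = ((1 : Nat) : ZMod 7) • (1 : Matrix (Fin n) (Fin n) (ZMod 7)))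
    (h4 : ([1, 2, 3, 7, 1, 2, 3, 7, 1, 2, 3, 7, 1, 2, 3, 7, 1, 2, 3, 7].map m).prod = ((4 : Nat) : ZMod 7) • (1 : Matrix (Fin n) (Fin n) (ZMod 7)))
    (h5 : ([7, 1, 2, 7, 2, 1, 7, 1, 2, 7, 2].map m).prod = ((4 : Nat) : ZMod 7) • (1 : Matrix (Fin n) (Fin n) (ZMod 7)))
    (h6 : ([7, 4, 3, 7, 3, 4, 7, 4, 3, 7, 3].map m).prod = ((4 : Nat) : ZMod 7) • (1 : Matrix (Fin n) (Fin n) (ZMod 7)))
    :
    ∀ r ∈ Cfsg.Spor.coxRelators Cfsg.Spor.ON.edges ∪ {r | r ∈ Cfsg.Spor.ON.extra},
    ∃ c : ZMod 7, c ^ 3 = 1 ∧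
      ((FreeGroup.lift u r : (Matrix (Fin n) (Fin n) (ZMod 7))ˣ) : Matrix (Fin n) (Fin n) (ZMod 7)) = c • 1 := by
  rintro r (⟨x, hx, y, hy, rfl⟩ | hr)
  · obtain ⟨h6, h6', hlab⟩ := label_eq x (nodes_sub x hx) y (nodes_sub y hy)
    refine ⟨1, one_pow 3, ?_⟩
    rw [map_pow, map_mul, FreeGroup.lift_apply_of, FreeGroup.lift_apply_of, Units.val_pow_eq_pow_val,
      Units.val_mul, hu, hu, hlab, one_smul]
    exact hpair _ _ h6 h6'
  · have key : ∀ (c : Nat), c ^ 3 % 7 = 1 → ∀ (A : Matrix (Fin n) (Fin n) (ZMod 7)) {B : Matrix (Fin n) (Fin n) (ZMod 7)}, A = B →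
        B = (c : ZMod 7) • (1 : Matrix (Fin n) (Fin n) (ZMod 7)) → ∃ c : ZMod 7, c ^ 3 = 1 ∧ A = c • 1 := by
      intro c h3 A B hA hB
      refine ⟨c, ?_, hA.trans hB⟩
      rw [← Nat.cast_pow, ← ZMod.natCast_mod, h3, Nat.cast_one]
    simp only [Cfsg.Spor.ON.extra, Set.mem_ofPred_eq, List.mem_cons, List.not_mem_nil, or_false] at hr
    rcases hr with rfl | rfl | rfl | rfl | rfl | rfl | rfl
    · exact key 1 rfl _ (by simp only [map_mul, map_inv, map_pow, FreeGroup.lift_apply_of, Units.val_mul, Units.val_pow_eq_pow_val, mul_inv_rev, ← inv_pow, hu, hui, List.map, List.prod_cons, List.prod_nil, letter, inv8, pow_succ, pow_zero, one_mul, mul_one, mul_assoc, Nat.reduceLT, Nat.reduceSub, ite_true, ite_false, if_true, if_false]) h0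
    · exact key 1 rfl _ (by simp only [map_mul, map_inv, map_pow, FreeGroup.lift_apply_of, Units.val_mul, Units.val_pow_eq_pow_val, mul_inv_rev, ← inv_pow, hu, hui, List.map, List.prod_cons, List.prod_nil, letter, inv8, pow_succ, pow_zero, one_mul, mul_one, mul_assoc, Nat.reduceLT, Nat.reduceSub, ite_true, ite_false, if_true, if_false]) h1
    · exact key 1 rfl _ (by simp only [map_mul, map_inv, map_pow, FreeGroup.lift_apply_of, Units.val_mul, Units.val_pow_eq_pow_val, mul_inv_rev, ← inv_pow, hu, hui, List.map, List.prod_cons, List.prod_nil, letter, inv8, pow_succ, pow_zero, one_mul, mul_one, mul_assoc, Nat.reduceLT, Nat.reduceSub, ite_true, ite_false, if_true, if_false]) h2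
    · exact key 1 rfl _ (by simp only [map_mul, map_inv, map_pow, FreeGroup.lift_apply_of, Units.val_mul, Units.val_pow_eq_pow_val, mul_inv_rev, ← inv_pow, hu, hui, List.map, List.prod_cons, List.prod_nil, letter, inv8, pow_succ, pow_zero, one_mul, mul_one, mul_assoc, Nat.reduceLT, Nat.reduceSub, ite_true, ite_false, if_true, if_false]) h3
    · exact key 4 rfl _ (by simp only [map_mul, map_inv, map_pow, FreeGroup.lift_apply_of, Units.val_mul, Units.val_pow_eq_pow_val, mul_inv_rev, ← inv_pow, hu, hui, List.map, List.prod_cons, List.prod_nil, letter, inv8, pow_succ, pow_zero, one_mul, mul_one, mul_assoc, Nat.reduceLT, Nat.reduceSub, ite_true, ite_false, if_true, if_false]) h4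
    · exact key 4 rfl _ (by simp only [map_mul, map_inv, map_pow, FreeGroup.lift_apply_of, Units.val_mul, Units.val_pow_eq_pow_val, mul_inv_rev, ← inv_pow, hu, hui, List.map, List.prod_cons, List.prod_nil, letter, inv8, pow_succ, pow_zero, one_mul, mul_one, mul_assoc, Nat.reduceLT, Nat.reduceSub, ite_true, ite_false, if_true, if_false]) h5
    · exact key 4 rfl _ (by simp only [map_mul, map_inv, map_pow, FreeGroup.lift_apply_of, Units.val_mul, Units.val_pow_eq_pow_val, mul_inv_rev, ← inv_pow, hu, hui, List.map, List.prod_cons, List.prod_nil, letter, inv8, pow_succ, pow_zero, one_mul, mul_one, mul_assoc, Nat.reduceLT, Nat.reduceSub, ite_true, ite_false, if_true, if_false]) h6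

/-- Relators are scalar, with scalar a cube root of one. -/
theorem relators : ∀ r ∈ Cfsg.Spor.coxRelators Cfsg.Spor.ON.edges ∪ {r | r ∈ Cfsg.Spor.ON.extra},
    ∃ c : ZMod 7, c ^ 3 = 1 ∧ ((FreeGroup.lift unit r : M45ˣ) : M45) = c • (1 : M45) :=
  relators_of mx unit (fun _ => rfl) (fun _ => rfl) (fun _ _ hx hy => pair_pow hx hy)
    (ev_of_scalOk (by norm_num) rfl extra_ok.1)
    (ev_of_scalOk (by norm_num) rfl extra_ok.2.1)
    (ev_of_scalOk (by norm_num) rfl extra_ok.2.2.1)
    (ev_of_scalOk (by norm_num) rfl extra_ok.2.2.2.1)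
    (ev_of_scalOk (by norm_num) rfl extra_ok.2.2.2.2.1)
    (ev_of_scalOk (by norm_num) rfl extra_ok.2.2.2.2.2.1)
    (ev_of_scalOk (by norm_num) rfl extra_ok.2.2.2.2.2.2)

theorem a_entry : digit ((rows.getD 0 []).getD 0 0) 5 ≠ 0 := by
  decide +kernel

theorem mx_apply (x : Nat) (k j : Fin 45) : mx x k j = (digit ((rows.getD x []).getD k 0) j : ZMod 7) := by
  unfold mx
  rfl

theorem a_not_scalar (c : ZMod 7) : mx 0 ≠ c • (1 : M45) := by
  intro h
  have h1 := congrArg (fun A : M45 => (A ⟨0, by norm_num⟩ ⟨5, by norm_num⟩).val) h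
  simp only [mx_apply, ZMod.val_natCast, Matrix.smul_apply] at h1
  rw [Matrix.one_apply_ne (by simp [Fin.ext_iff]), smul_zero, ZMod.val_zero,
    Nat.mod_eq_of_lt ((row_spec (by norm_num) (by norm_num)).2 5 (by norm_num))] at h1
  exact a_entry h1

-- A projective representation gives the triple cover inside the special linear group.
theorem card_roots : Nat.card (rootsOfUnity 45 (ZMod 7)) = 3 := by
  rw [show rootsOfUnity 45 (ZMod 7) = (powMonoidHom 45).ker from by ext; simp [mem_rootsOfUnity],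
    IsCyclic.card_powMonoidHom_ker, Nat.card_eq_fintype_card, ZMod.card_units]
  rfl

attribute [local irreducible] Matrix.det in
theorem exists_cover_of {n : Nat} (h45 : ∀ c : ZMod 7, c ^ 3 = 1 → c ^ n = 1)
    (hroots : Nat.card (rootsOfUnity (max n 1) (ZMod 7)) = 3)
    (u : Cfsg.Spor.ON.Gen → (Matrix (Fin n) (Fin n) (ZMod 7))ˣ)
    (hrel : ∀ r ∈ Cfsg.Spor.coxRelators Cfsg.Spor.ON.edges ∪ {r | r ∈ Cfsg.Spor.ON.extra},
      ∃ c : ZMod 7, c ^ 3 = 1 ∧ ((FreeGroup.lift u r : (Matrix (Fin n) (Fin n) (ZMod 7))ˣ) : Matrix (Fin n) (Fin n) (ZMod 7)) = c • (1 : Matrix (Fin n) (Fin n) (ZMod 7)))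
    (hna : ∀ c : ZMod 7, (u .a : Matrix (Fin n) (Fin n) (ZMod 7)) ≠ c • (1 : Matrix (Fin n) (Fin n) (ZMod 7)))
    (hsimple : IsSimpleGroup Cfsg.Spor.ON)
    (hcard : Nat.card Cfsg.Spor.ON = 460815505920) :
    ∃ H : Subgroup (Matrix.SpecialLinearGroup (Fin n) (ZMod 7)),
      Nat.card (Subgroup.center H) = 3 ∧ Cfsg.IsON (H ⧸ Subgroup.center H) := by
  classical
  haveI := hsimple
  haveI : Finite Cfsg.Spor.ON := Nat.finite_of_card_ne_zero (by rw [hcard]; norm_num)
  have hc45 := h45
  -- the determinants are trivial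
  let du : Cfsg.Spor.ON.Gen → (ZMod 7)ˣ := fun s => Units.map (Matrix.detMonoidHom) (u s)
  have hdu : ∀ r, FreeGroup.lift du r = Units.map Matrix.detMonoidHom (FreeGroup.lift u r) := by
    intro r
    have : FreeGroup.lift du = (Units.map Matrix.detMonoidHom).comp (FreeGroup.lift u) :=
      FreeGroup.ext_hom _ _ fun s => by simp [du]
    rw [this]; rfl
  let δ : Cfsg.Spor.ON →* (ZMod 7)ˣ := PresentedGroup.toGroup (f := du) fun r hr => by
    obtain ⟨c, hc, he⟩ := hrel r hr
    rw [hdu]
    refine Units.ext ?_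
    show Matrix.det ((FreeGroup.lift u r : (Matrix (Fin n) (Fin n) (ZMod 7))ˣ) : Matrix (Fin n) (Fin n) (ZMod 7)) = 1
    rw [he, Matrix.det_smul, Matrix.det_one, mul_one, Fintype.card_fin, hc45 c hc]
  have hδ : ∀ x, δ x = 1 := by
    intro x
    rcases (MonoidHom.normal_ker δ).eq_bot_or_eq_top with h | h
    · have := Nat.card_le_card_of_injective δ ((MonoidHom.ker_eq_bot_iff δ).mp h)
      rw [hcard, Nat.card_eq_fintype_card, ZMod.card_units] at this
      norm_num at this
    · exact (SetLike.ext_iff.mp h x).mpr (Subgroup.mem_top _)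
  have hdet : ∀ s, Matrix.det ((u s : Matrix (Fin n) (Fin n) (ZMod 7))) = 1 := fun s => by
    have h := hδ (PresentedGroup.of s)
    rw [show δ (PresentedGroup.of s) = du s from PresentedGroup.toGroup.of (f := du) _] at h
    exact congrArg Units.val h
  -- the elements of the special linear group
  let S : Cfsg.Spor.ON.Gen → Matrix.SpecialLinearGroup (Fin n) (ZMod 7) := fun s => ⟨(u s : Matrix (Fin n) (Fin n) (ZMod 7)), hdet s⟩
  let ι : Matrix.SpecialLinearGroup (Fin n) (ZMod 7) →* (Matrix (Fin n) (Fin n) (ZMod 7))ˣ := Matrix.SpecialLinearGroup.toGL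
  have hS : ∀ r, ι (FreeGroup.lift S r) = FreeGroup.lift u r := by
    intro r
    have : ι.comp (FreeGroup.lift S) = FreeGroup.lift u :=
      FreeGroup.ext_hom _ _ fun s => Units.ext (by
      rw [MonoidHom.comp_apply, FreeGroup.lift_apply_of, FreeGroup.lift_apply_of]
      rfl)
    exact DFunLike.congr_fun this r
  have hcentre : ∀ r ∈ Cfsg.Spor.coxRelators Cfsg.Spor.ON.edges ∪ {r | r ∈ Cfsg.Spor.ON.extra},
      FreeGroup.lift S r ∈ Subgroup.center (Matrix.SpecialLinearGroup (Fin n) (ZMod 7)) := by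
    intro r hr
    obtain ⟨c, hc, he⟩ := hrel r hr
    rw [← hS] at he
    rw [Matrix.SpecialLinearGroup.mem_center_iff]
    refine ⟨c, by rw [Fintype.card_fin, hc45 c hc], ?_⟩
    rw [Matrix.scalar_apply, ← Matrix.smul_one_eq_diagonal]
    exact he.symm
  set Z := Subgroup.center (Matrix.SpecialLinearGroup (Fin n) (ZMod 7)) with hZ
  let q := QuotientGroup.mk' Z
  let φ : Cfsg.Spor.ON →* Matrix.SpecialLinearGroup (Fin n) (ZMod 7) ⧸ Z :=
    PresentedGroup.toGroup (f := fun s => q (S s)) fun r hr => by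
      rw [show FreeGroup.lift (fun s => q (S s)) = q.comp (FreeGroup.lift S) from
        FreeGroup.ext_hom _ _ fun s => by simp]
      exact (QuotientGroup.eq_one_iff _).mpr (hcentre r hr)
  have hφa : φ (PresentedGroup.of Cfsg.Spor.ON.Gen.a) ≠ 1 := by
    rw [show φ (PresentedGroup.of Cfsg.Spor.ON.Gen.a) = q (S .a) from PresentedGroup.toGroup.of _]
    intro h
    obtain ⟨c, -, he⟩ := Matrix.SpecialLinearGroup.mem_center_iff.mp ((QuotientGroup.eq_one_iff _).mp h)
    refine hna c ?_
    rw [Matrix.smul_one_eq_diagonal]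
    exact he.symm.trans (Matrix.scalar_apply (n := Fin n) c)
  have hinj : Function.Injective φ := by
    rw [← MonoidHom.ker_eq_bot_iff]
    refine ((MonoidHom.normal_ker φ).eq_bot_or_eq_top).resolve_right fun htop => hφa ?_
    exact (SetLike.ext_iff.mp htop _).mpr (Subgroup.mem_top _)
  let e : Cfsg.Spor.ON ≃* φ.range := MonoidHom.ofInjective hinj
  refine ⟨φ.range.comap q, ?_⟩
  set H := φ.range.comap q with hH
  let π : H →* φ.range := (q.comp H.subtype).codRestrict φ.range fun x => x.2
  have hπ : Function.Surjective π := fun y => by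
    obtain ⟨x, hx⟩ := QuotientGroup.mk'_surjective Z y.1
    exact ⟨⟨x, show q x ∈ φ.range from hx ▸ y.2⟩, Subtype.ext hx⟩
  have hZH : ∀ z ∈ Z, z ∈ H := fun z hz => by
    show q z ∈ φ.range
    rw [show q z = 1 from (QuotientGroup.eq_one_iff _).mpr hz]
    exact one_mem _
  have hcz : ∀ y : φ.range, y ∈ Subgroup.center φ.range → y = 1 := by
    intro y hy
    have hy' : e.symm y ∈ Subgroup.center Cfsg.Spor.ON :=
      Subgroup.mem_center_iff.mpr fun z => e.injective (by
        rw [map_mul, map_mul, e.apply_symm_apply]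
        exact Subgroup.mem_center_iff.mp hy (e z))
    rcases (inferInstance : (Subgroup.center Cfsg.Spor.ON).Normal).eq_bot_or_eq_top with h | h
    · rw [h, Subgroup.mem_bot, MulEquiv.map_eq_one_iff] at hy'
      exact hy'
    · exfalso
      have hcomm : ∀ u v : Cfsg.Spor.ON, u * v = v * u := fun u v =>
        (Subgroup.mem_center_iff.mp (h ▸ Subgroup.mem_top v : v ∈ Subgroup.center _) u)
      haveI : Std.Commutative (α := Cfsg.Spor.ON) (· * ·) := ⟨hcomm⟩
      letI : CommGroup Cfsg.Spor.ON := { (inferInstance : Group Cfsg.Spor.ON) with mul_comm := hcomm }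
      have hp : (Nat.card Cfsg.Spor.ON).Prime := IsSimpleGroup.prime_card
      rw [hcard] at hp
      norm_num at hp
  have hker : π.ker = Subgroup.center H := by
    refine le_antisymm (fun x hx => ?_) (fun x hx => ?_)
    · have hxZ : (x : Matrix.SpecialLinearGroup (Fin n) (ZMod 7)) ∈ Z :=
        (QuotientGroup.eq_one_iff _).mp (congrArg Subtype.val hx)
      exact Subgroup.mem_center_iff.mpr fun y => Subtype.ext (Subgroup.mem_center_iff.mp hxZ y)
    · refine hcz _ (Subgroup.mem_center_iff.mpr fun y => ?_)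
      obtain ⟨w, rfl⟩ := hπ y
      rw [← map_mul, ← map_mul, Subgroup.mem_center_iff.mp hx w]
  refine ⟨?_, ?_⟩
  · have e3 : Subgroup.center H ≃ Z :=
      { toFun := fun x => ⟨_, (QuotientGroup.eq_one_iff _).mp
          (congrArg Subtype.val ((hker.symm ▸ x.2 : x.1 ∈ π.ker) : π x.1 = 1))⟩
        invFun := fun z => ⟨⟨z.1, hZH z.1 z.2⟩, hker ▸ (Subtype.ext ((QuotientGroup.eq_one_iff _).mpr z.2) :
          π ⟨z.1, hZH z.1 z.2⟩ = 1)⟩
        left_inv := fun x => Subtype.ext (Subtype.ext rfl)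
        right_inv := fun z => Subtype.ext rfl }
    rw [Nat.card_congr e3, hZ, Nat.card_congr Matrix.SpecialLinearGroup.center_equiv_rootsOfUnity.toEquiv]
    rw [Fintype.card_fin]
    exact hroots
  · let E : H ⧸ Subgroup.center H ≃* Cfsg.Spor.ON :=
      ((QuotientGroup.quotientMulEquivOfEq hker.symm).trans
        (QuotientGroup.quotientKerEquivOfSurjective π hπ)).trans e.symm
    haveI : Nontrivial (H ⧸ Subgroup.center H) := E.toEquiv.nontrivial
    refine ⟨IsSimpleGroup.isSimpleGroup_of_surjective E.symm.toMonoidHom E.symm.surjective, ?_⟩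
    rw [Nat.card_congr E.toEquiv, hcard]

/-- The triple cover inside the special linear group. -/
theorem exists_cover (hsimple : IsSimpleGroup Cfsg.Spor.ON)
    (hcard : Nat.card Cfsg.Spor.ON = 460815505920) :
    ∃ H : Subgroup (Matrix.SpecialLinearGroup (Fin 45) (ZMod 7)),
      Nat.card (Subgroup.center H) = 3 ∧ Cfsg.IsON (H ⧸ Subgroup.center H) :=
  exists_cover_of (fun c hc => by rw [show (45 : Nat) = 3 * 15 from rfl, pow_mul, hc, one_pow]) card_roots
    unit relators (fun c => a_not_scalar c) hsimple hcard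

end Cfsg.Agent.ONFortyFive41
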