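import Cfsg.Agent.Lib.ONFortyFiveCheckCore41

/-! Kernel checks of relators for the matrices of degree 45 of the O'Nan group, a part. -/

set_option autoImplicit false
set_option maxRecDepth 100000
set_option Elab.async false

namespace Cfsg.Agent.ONFortyFiveCheck41

theorem extra4_0 : rowScal [1, 2, 3, 7, 1, 2, 3, 7, 1, 2, 3, 7, 1, 2, 3, 7, 1, 2, 3, 7] 4 0 = true := by decide +kernel

theorem extra4_1 : rowScal [1, 2, 3, 7, 1, 2, 3, 7, 1, 2, 3, 7, 1, 2, 3, 7, 1, 2, 3, 7] 4 1 = true := by decide +kernel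

theorem extra4_2 : rowScal [1, 2, 3, 7, 1, 2, 3, 7, 1, 2, 3, 7, 1, 2, 3, 7, 1, 2, 3, 7] 4 2 = true := by decide +kernel

theorem extra4_3 : rowScal [1, 2, 3, 7, 1, 2, 3, 7, 1, 2, 3, 7, 1, 2, 3, 7, 1, 2, 3, 7] 4 3 = true := by decide +kernel

theorem extra4_4 : rowScal [1, 2, 3, 7, 1, 2, 3, 7, 1, 2, 3, 7, 1, 2, 3, 7, 1, 2, 3, 7] 4 4 = true := by decide +kernel

theorem extra4_5 : rowScal [1, 2, 3, 7, 1, 2, 3, 7, 1, 2, 3, 7, 1, 2, 3, 7, 1, 2, 3, 7] 4 5 = true := by decide +kernel

theorem extra4_6 : rowScal [1, 2, 3, 7, 1, 2, 3, 7, 1, 2, 3, 7, 1, 2, 3, 7, 1, 2, 3, 7] 4 6 = true := by decide +kernel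

theorem extra4_7 : rowScal [1, 2, 3, 7, 1, 2, 3, 7, 1, 2, 3, 7, 1, 2, 3, 7, 1, 2, 3, 7] 4 7 = true := by decide +kernel

theorem extra4_8 : rowScal [1, 2, 3, 7, 1, 2, 3, 7, 1, 2, 3, 7, 1, 2, 3, 7, 1, 2, 3, 7] 4 8 = true := by decide +kernel

theorem extra4_9 : rowScal [1, 2, 3, 7, 1, 2, 3, 7, 1, 2, 3, 7, 1, 2, 3, 7, 1, 2, 3, 7] 4 9 = true := by decide +kernel

theorem extra4_10 : rowScal [1, 2, 3, 7, 1, 2, 3, 7, 1, 2, 3, 7, 1, 2, 3, 7, 1, 2, 3, 7] 4 10 = true := by decide +kernel

theorem extra4_11 : rowScal [1, 2, 3, 7, 1, 2, 3, 7, 1, 2, 3, 7, 1, 2, 3, 7, 1, 2, 3, 7] 4 11 = true := by decide +kernel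

theorem extra4_12 : rowScal [1, 2, 3, 7, 1, 2, 3, 7, 1, 2, 3, 7, 1, 2, 3, 7, 1, 2, 3, 7] 4 12 = true := by decide +kernel

theorem extra4_13 : rowScal [1, 2, 3, 7, 1, 2, 3, 7, 1, 2, 3, 7, 1, 2, 3, 7, 1, 2, 3, 7] 4 13 = true := by decide +kernel

theorem extra4_14 : rowScal [1, 2, 3, 7, 1, 2, 3, 7, 1, 2, 3, 7, 1, 2, 3, 7, 1, 2, 3, 7] 4 14 = true := by decide +kernel

theorem extra4_15 : rowScal [1, 2, 3, 7, 1, 2, 3, 7, 1, 2, 3, 7, 1, 2, 3, 7, 1, 2, 3, 7] 4 15 = true := by decide +kernel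

theorem extra4_16 : rowScal [1, 2, 3, 7, 1, 2, 3, 7, 1, 2, 3, 7, 1, 2, 3, 7, 1, 2, 3, 7] 4 16 = true := by decide +kernel

theorem extra4_17 : rowScal [1, 2, 3, 7, 1, 2, 3, 7, 1, 2, 3, 7, 1, 2, 3, 7, 1, 2, 3, 7] 4 17 = true := by decide +kernel

theorem extra4_18 : rowScal [1, 2, 3, 7, 1, 2, 3, 7, 1, 2, 3, 7, 1, 2, 3, 7, 1, 2, 3, 7] 4 18 = true := by decide +kernel

theorem extra4_19 : rowScal [1, 2, 3, 7, 1, 2, 3, 7, 1, 2, 3, 7, 1, 2, 3, 7, 1, 2, 3, 7] 4 19 = true := by decide +kernel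

theorem extra4_20 : rowScal [1, 2, 3, 7, 1, 2, 3, 7, 1, 2, 3, 7, 1, 2, 3, 7, 1, 2, 3, 7] 4 20 = true := by decide +kernel

theorem extra4_21 : rowScal [1, 2, 3, 7, 1, 2, 3, 7, 1, 2, 3, 7, 1, 2, 3, 7, 1, 2, 3, 7] 4 21 = true := by decide +kernel

theorem extra4_22 : rowScal [1, 2, 3, 7, 1, 2, 3, 7, 1, 2, 3, 7, 1, 2, 3, 7, 1, 2, 3, 7] 4 22 = true := by decide +kernel

theorem extra4_23 : rowScal [1, 2, 3, 7, 1, 2, 3, 7, 1, 2, 3, 7, 1, 2, 3, 7, 1, 2, 3, 7] 4 23 = true := by decide +kernel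

theorem extra4_24 : rowScal [1, 2, 3, 7, 1, 2, 3, 7, 1, 2, 3, 7, 1, 2, 3, 7, 1, 2, 3, 7] 4 24 = true := by decide +kernel

theorem extra4_25 : rowScal [1, 2, 3, 7, 1, 2, 3, 7, 1, 2, 3, 7, 1, 2, 3, 7, 1, 2, 3, 7] 4 25 = true := by decide +kernel

theorem extra4_26 : rowScal [1, 2, 3, 7, 1, 2, 3, 7, 1, 2, 3, 7, 1, 2, 3, 7, 1, 2, 3, 7] 4 26 = true := by decide +kernel

theorem extra4_27 : rowScal [1, 2, 3, 7, 1, 2, 3, 7, 1, 2, 3, 7, 1, 2, 3, 7, 1, 2, 3, 7] 4 27 = true := by decide +kernel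

theorem extra4_28 : rowScal [1, 2, 3, 7, 1, 2, 3, 7, 1, 2, 3, 7, 1, 2, 3, 7, 1, 2, 3, 7] 4 28 = true := by decide +kernel

theorem extra4_29 : rowScal [1, 2, 3, 7, 1, 2, 3, 7, 1, 2, 3, 7, 1, 2, 3, 7, 1, 2, 3, 7] 4 29 = true := by decide +kernel

theorem extra4_30 : rowScal [1, 2, 3, 7, 1, 2, 3, 7, 1, 2, 3, 7, 1, 2, 3, 7, 1, 2, 3, 7] 4 30 = true := by decide +kernel

theorem extra4_31 : rowScal [1, 2, 3, 7, 1, 2, 3, 7, 1, 2, 3, 7, 1, 2, 3, 7, 1, 2, 3, 7] 4 31 = true := by decide +kernel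

theorem extra4_32 : rowScal [1, 2, 3, 7, 1, 2, 3, 7, 1, 2, 3, 7, 1, 2, 3, 7, 1, 2, 3, 7] 4 32 = true := by decide +kernel

theorem extra4_33 : rowScal [1, 2, 3, 7, 1, 2, 3, 7, 1, 2, 3, 7, 1, 2, 3, 7, 1, 2, 3, 7] 4 33 = true := by decide +kernel

theorem extra4_34 : rowScal [1, 2, 3, 7, 1, 2, 3, 7, 1, 2, 3, 7, 1, 2, 3, 7, 1, 2, 3, 7] 4 34 = true := by decide +kernel

theorem extra4_35 : rowScal [1, 2, 3, 7, 1, 2, 3, 7, 1, 2, 3, 7, 1, 2, 3, 7, 1, 2, 3, 7] 4 35 = true := by decide +kernel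

theorem extra4_36 : rowScal [1, 2, 3, 7, 1, 2, 3, 7, 1, 2, 3, 7, 1, 2, 3, 7, 1, 2, 3, 7] 4 36 = true := by decide +kernel

theorem extra4_37 : rowScal [1, 2, 3, 7, 1, 2, 3, 7, 1, 2, 3, 7, 1, 2, 3, 7, 1, 2, 3, 7] 4 37 = true := by decide +kernel

theorem extra4_38 : rowScal [1, 2, 3, 7, 1, 2, 3, 7, 1, 2, 3, 7, 1, 2, 3, 7, 1, 2, 3, 7] 4 38 = true := by decide +kernel

theorem extra4_39 : rowScal [1, 2, 3, 7, 1, 2, 3, 7, 1, 2, 3, 7, 1, 2, 3, 7, 1, 2, 3, 7] 4 39 = true := by decide +kernel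

theorem extra4_40 : rowScal [1, 2, 3, 7, 1, 2, 3, 7, 1, 2, 3, 7, 1, 2, 3, 7, 1, 2, 3, 7] 4 40 = true := by decide +kernel

theorem extra4_41 : rowScal [1, 2, 3, 7, 1, 2, 3, 7, 1, 2, 3, 7, 1, 2, 3, 7, 1, 2, 3, 7] 4 41 = true := by decide +kernel

theorem extra4_42 : rowScal [1, 2, 3, 7, 1, 2, 3, 7, 1, 2, 3, 7, 1, 2, 3, 7, 1, 2, 3, 7] 4 42 = true := by decide +kernel

theorem extra4_43 : rowScal [1, 2, 3, 7, 1, 2, 3, 7, 1, 2, 3, 7, 1, 2, 3, 7, 1, 2, 3, 7] 4 43 = true := by decide +kernel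

theorem extra4_44 : rowScal [1, 2, 3, 7, 1, 2, 3, 7, 1, 2, 3, 7, 1, 2, 3, 7, 1, 2, 3, 7] 4 44 = true := by decide +kernel

theorem extra4 : scalOk [1, 2, 3, 7, 1, 2, 3, 7, 1, 2, 3, 7, 1, 2, 3, 7, 1, 2, 3, 7] 4 = true := by
  refine scalOk_of _ _ fun i hi => ?_
  interval_cases i
  exacts [extra4_0, extra4_1, extra4_2, extra4_3, extra4_4, extra4_5, extra4_6, extra4_7, extra4_8, extra4_9, extra4_10, extra4_11, extra4_12, extra4_13, extra4_14, extra4_15, extra4_16, extra4_17, extra4_18, extra4_19, extra4_20, extra4_21, extra4_22, extra4_23, extra4_24, extra4_25, extra4_26, extra4_27, extra4_28, extra4_29, extra4_30, extra4_31, extra4_32, extra4_33, extra4_34, extra4_35, extra4_36, extra4_37, extra4_38, extra4_39, extra4_40, extra4_41, extra4_42, extra4_43, extra4_44]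

theorem pair04_0 : rowScal [0, 4, 0, 4] 1 0 = true := by decide +kernel

theorem pair04_1 : rowScal [0, 4, 0, 4] 1 1 = true := by decide +kernel

theorem pair04_2 : rowScal [0, 4, 0, 4] 1 2 = true := by decide +kernel

theorem pair04_3 : rowScal [0, 4, 0, 4] 1 3 = true := by decide +kernel

theorem pair04_4 : rowScal [0, 4, 0, 4] 1 4 = true := by decide +kernel

theorem pair04_5 : rowScal [0, 4, 0, 4] 1 5 = true := by decide +kernel

theorem pair04_6 : rowScal [0, 4, 0, 4] 1 6 = true := by decide +kernel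

theorem pair04_7 : rowScal [0, 4, 0, 4] 1 7 = true := by decide +kernel

theorem pair04_8 : rowScal [0, 4, 0, 4] 1 8 = true := by decide +kernel

theorem pair04_9 : rowScal [0, 4, 0, 4] 1 9 = true := by decide +kernel

theorem pair04_10 : rowScal [0, 4, 0, 4] 1 10 = true := by decide +kernel

theorem pair04_11 : rowScal [0, 4, 0, 4] 1 11 = true := by decide +kernel

theorem pair04_12 : rowScal [0, 4, 0, 4] 1 12 = true := by decide +kernel

theorem pair04_13 : rowScal [0, 4, 0, 4] 1 13 = true := by decide +kernel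

theorem pair04_14 : rowScal [0, 4, 0, 4] 1 14 = true := by decide +kernel

theorem pair04_15 : rowScal [0, 4, 0, 4] 1 15 = true := by decide +kernel

theorem pair04_16 : rowScal [0, 4, 0, 4] 1 16 = true := by decide +kernel

theorem pair04_17 : rowScal [0, 4, 0, 4] 1 17 = true := by decide +kernel

theorem pair04_18 : rowScal [0, 4, 0, 4] 1 18 = true := by decide +kernel

theorem pair04_19 : rowScal [0, 4, 0, 4] 1 19 = true := by decide +kernel

theorem pair04_20 : rowScal [0, 4, 0, 4] 1 20 = true := by decide +kernel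

theorem pair04_21 : rowScal [0, 4, 0, 4] 1 21 = true := by decide +kernel

theorem pair04_22 : rowScal [0, 4, 0, 4] 1 22 = true := by decide +kernel

theorem pair04_23 : rowScal [0, 4, 0, 4] 1 23 = true := by decide +kernel

theorem pair04_24 : rowScal [0, 4, 0, 4] 1 24 = true := by decide +kernel

theorem pair04_25 : rowScal [0, 4, 0, 4] 1 25 = true := by decide +kernel

theorem pair04_26 : rowScal [0, 4, 0, 4] 1 26 = true := by decide +kernel

theorem pair04_27 : rowScal [0, 4, 0, 4] 1 27 = true := by decide +kernel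

theorem pair04_28 : rowScal [0, 4, 0, 4] 1 28 = true := by decide +kernel

theorem pair04_29 : rowScal [0, 4, 0, 4] 1 29 = true := by decide +kernel

theorem pair04_30 : rowScal [0, 4, 0, 4] 1 30 = true := by decide +kernel

theorem pair04_31 : rowScal [0, 4, 0, 4] 1 31 = true := by decide +kernel

theorem pair04_32 : rowScal [0, 4, 0, 4] 1 32 = true := by decide +kernel

theorem pair04_33 : rowScal [0, 4, 0, 4] 1 33 = true := by decide +kernel

theorem pair04_34 : rowScal [0, 4, 0, 4] 1 34 = true := by decide +kernel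

theorem pair04_35 : rowScal [0, 4, 0, 4] 1 35 = true := by decide +kernel

theorem pair04_36 : rowScal [0, 4, 0, 4] 1 36 = true := by decide +kernel

theorem pair04_37 : rowScal [0, 4, 0, 4] 1 37 = true := by decide +kernel

theorem pair04_38 : rowScal [0, 4, 0, 4] 1 38 = true := by decide +kernel

theorem pair04_39 : rowScal [0, 4, 0, 4] 1 39 = true := by decide +kernel

theorem pair04_40 : rowScal [0, 4, 0, 4] 1 40 = true := by decide +kernel

theorem pair04_41 : rowScal [0, 4, 0, 4] 1 41 = true := by decide +kernel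

theorem pair04_42 : rowScal [0, 4, 0, 4] 1 42 = true := by decide +kernel

theorem pair04_43 : rowScal [0, 4, 0, 4] 1 43 = true := by decide +kernel

theorem pair04_44 : rowScal [0, 4, 0, 4] 1 44 = true := by decide +kernel

theorem pair04 : scalOk [0, 4, 0, 4] 1 = true := by
  refine scalOk_of _ _ fun i hi => ?_
  interval_cases i
  exacts [pair04_0, pair04_1, pair04_2, pair04_3, pair04_4, pair04_5, pair04_6, pair04_7, pair04_8, pair04_9, pair04_10, pair04_11, pair04_12, pair04_13, pair04_14, pair04_15, pair04_16, pair04_17, pair04_18, pair04_19, pair04_20, pair04_21, pair04_22, pair04_23, pair04_24, pair04_25, pair04_26, pair04_27, pair04_28, pair04_29, pair04_30, pair04_31, pair04_32, pair04_33, pair04_34, pair04_35, pair04_36, pair04_37, pair04_38, pair04_39, pair04_40, pair04_41, pair04_42, pair04_43, pair04_44]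

theorem pair35_0 : rowScal [3, 5, 3, 5] 1 0 = true := by decide +kernel

theorem pair35_1 : rowScal [3, 5, 3, 5] 1 1 = true := by decide +kernel

theorem pair35_2 : rowScal [3, 5, 3, 5] 1 2 = true := by decide +kernel

theorem pair35_3 : rowScal [3, 5, 3, 5] 1 3 = true := by decide +kernel

theorem pair35_4 : rowScal [3, 5, 3, 5] 1 4 = true := by decide +kernel

theorem pair35_5 : rowScal [3, 5, 3, 5] 1 5 = true := by decide +kernel

theorem pair35_6 : rowScal [3, 5, 3, 5] 1 6 = true := by decide +kernel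

theorem pair35_7 : rowScal [3, 5, 3, 5] 1 7 = true := by decide +kernel

theorem pair35_8 : rowScal [3, 5, 3, 5] 1 8 = true := by decide +kernel

theorem pair35_9 : rowScal [3, 5, 3, 5] 1 9 = true := by decide +kernel

theorem pair35_10 : rowScal [3, 5, 3, 5] 1 10 = true := by decide +kernel

theorem pair35_11 : rowScal [3, 5, 3, 5] 1 11 = true := by decide +kernel

theorem pair35_12 : rowScal [3, 5, 3, 5] 1 12 = true := by decide +kernel

theorem pair35_13 : rowScal [3, 5, 3, 5] 1 13 = true := by decide +kernel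

theorem pair35_14 : rowScal [3, 5, 3, 5] 1 14 = true := by decide +kernel

theorem pair35_15 : rowScal [3, 5, 3, 5] 1 15 = true := by decide +kernel

theorem pair35_16 : rowScal [3, 5, 3, 5] 1 16 = true := by decide +kernel

theorem pair35_17 : rowScal [3, 5, 3, 5] 1 17 = true := by decide +kernel

theorem pair35_18 : rowScal [3, 5, 3, 5] 1 18 = true := by decide +kernel

theorem pair35_19 : rowScal [3, 5, 3, 5] 1 19 = true := by decide +kernel

theorem pair35_20 : rowScal [3, 5, 3, 5] 1 20 = true := by decide +kernel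

theorem pair35_21 : rowScal [3, 5, 3, 5] 1 21 = true := by decide +kernel

theorem pair35_22 : rowScal [3, 5, 3, 5] 1 22 = true := by decide +kernel

theorem pair35_23 : rowScal [3, 5, 3, 5] 1 23 = true := by decide +kernel

theorem pair35_24 : rowScal [3, 5, 3, 5] 1 24 = true := by decide +kernel

theorem pair35_25 : rowScal [3, 5, 3, 5] 1 25 = true := by decide +kernel

theorem pair35_26 : rowScal [3, 5, 3, 5] 1 26 = true := by decide +kernel

theorem pair35_27 : rowScal [3, 5, 3, 5] 1 27 = true := by decide +kernel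

theorem pair35_28 : rowScal [3, 5, 3, 5] 1 28 = true := by decide +kernel

theorem pair35_29 : rowScal [3, 5, 3, 5] 1 29 = true := by decide +kernel

theorem pair35_30 : rowScal [3, 5, 3, 5] 1 30 = true := by decide +kernel

theorem pair35_31 : rowScal [3, 5, 3, 5] 1 31 = true := by decide +kernel

theorem pair35_32 : rowScal [3, 5, 3, 5] 1 32 = true := by decide +kernel

theorem pair35_33 : rowScal [3, 5, 3, 5] 1 33 = true := by decide +kernel

theorem pair35_34 : rowScal [3, 5, 3, 5] 1 34 = true := by decide +kernel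

theorem pair35_35 : rowScal [3, 5, 3, 5] 1 35 = true := by decide +kernel

theorem pair35_36 : rowScal [3, 5, 3, 5] 1 36 = true := by decide +kernel

theorem pair35_37 : rowScal [3, 5, 3, 5] 1 37 = true := by decide +kernel

theorem pair35_38 : rowScal [3, 5, 3, 5] 1 38 = true := by decide +kernel

theorem pair35_39 : rowScal [3, 5, 3, 5] 1 39 = true := by decide +kernel

theorem pair35_40 : rowScal [3, 5, 3, 5] 1 40 = true := by decide +kernel

theorem pair35_41 : rowScal [3, 5, 3, 5] 1 41 = true := by decide +kernel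

theorem pair35_42 : rowScal [3, 5, 3, 5] 1 42 = true := by decide +kernel

theorem pair35_43 : rowScal [3, 5, 3, 5] 1 43 = true := by decide +kernel

theorem pair35_44 : rowScal [3, 5, 3, 5] 1 44 = true := by decide +kernel

theorem pair35 : scalOk [3, 5, 3, 5] 1 = true := by
  refine scalOk_of _ _ fun i hi => ?_
  interval_cases i
  exacts [pair35_0, pair35_1, pair35_2, pair35_3, pair35_4, pair35_5, pair35_6, pair35_7, pair35_8, pair35_9, pair35_10, pair35_11, pair35_12, pair35_13, pair35_14, pair35_15, pair35_16, pair35_17, pair35_18, pair35_19, pair35_20, pair35_21, pair35_22, pair35_23, pair35_24, pair35_25, pair35_26, pair35_27, pair35_28, pair35_29, pair35_30, pair35_31, pair35_32, pair35_33, pair35_34, pair35_35, pair35_36, pair35_37, pair35_38, pair35_39, pair35_40, pair35_41, pair35_42, pair35_43, pair35_44]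

theorem inv7_0 : rowScal [7, 6] 1 0 = true := by decide +kernel

theorem inv7_1 : rowScal [7, 6] 1 1 = true := by decide +kernel

theorem inv7_2 : rowScal [7, 6] 1 2 = true := by decide +kernel

theorem inv7_3 : rowScal [7, 6] 1 3 = true := by decide +kernel

theorem inv7_4 : rowScal [7, 6] 1 4 = true := by decide +kernel

theorem inv7_5 : rowScal [7, 6] 1 5 = true := by decide +kernel

theorem inv7_6 : rowScal [7, 6] 1 6 = true := by decide +kernel

theorem inv7_7 : rowScal [7, 6] 1 7 = true := by decide +kernel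

theorem inv7_8 : rowScal [7, 6] 1 8 = true := by decide +kernel

theorem inv7_9 : rowScal [7, 6] 1 9 = true := by decide +kernel

theorem inv7_10 : rowScal [7, 6] 1 10 = true := by decide +kernel

theorem inv7_11 : rowScal [7, 6] 1 11 = true := by decide +kernel

theorem inv7_12 : rowScal [7, 6] 1 12 = true := by decide +kernel

theorem inv7_13 : rowScal [7, 6] 1 13 = true := by decide +kernel

theorem inv7_14 : rowScal [7, 6] 1 14 = true := by decide +kernel

theorem inv7_15 : rowScal [7, 6] 1 15 = true := by decide +kernel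

theorem inv7_16 : rowScal [7, 6] 1 16 = true := by decide +kernel

theorem inv7_17 : rowScal [7, 6] 1 17 = true := by decide +kernel

theorem inv7_18 : rowScal [7, 6] 1 18 = true := by decide +kernel

theorem inv7_19 : rowScal [7, 6] 1 19 = true := by decide +kernel

theorem inv7_20 : rowScal [7, 6] 1 20 = true := by decide +kernel

theorem inv7_21 : rowScal [7, 6] 1 21 = true := by decide +kernel

theorem inv7_22 : rowScal [7, 6] 1 22 = true := by decide +kernel

theorem inv7_23 : rowScal [7, 6] 1 23 = true := by decide +kernel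

theorem inv7_24 : rowScal [7, 6] 1 24 = true := by decide +kernel

theorem inv7_25 : rowScal [7, 6] 1 25 = true := by decide +kernel

theorem inv7_26 : rowScal [7, 6] 1 26 = true := by decide +kernel

theorem inv7_27 : rowScal [7, 6] 1 27 = true := by decide +kernel

theorem inv7_28 : rowScal [7, 6] 1 28 = true := by decide +kernel

theorem inv7_29 : rowScal [7, 6] 1 29 = true := by decide +kernel

theorem inv7_30 : rowScal [7, 6] 1 30 = true := by decide +kernel

theorem inv7_31 : rowScal [7, 6] 1 31 = true := by decide +kernel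

theorem inv7_32 : rowScal [7, 6] 1 32 = true := by decide +kernel

theorem inv7_33 : rowScal [7, 6] 1 33 = true := by decide +kernel

theorem inv7_34 : rowScal [7, 6] 1 34 = true := by decide +kernel

theorem inv7_35 : rowScal [7, 6] 1 35 = true := by decide +kernel

theorem inv7_36 : rowScal [7, 6] 1 36 = true := by decide +kernel

theorem inv7_37 : rowScal [7, 6] 1 37 = true := by decide +kernel

theorem inv7_38 : rowScal [7, 6] 1 38 = true := by decide +kernel

theorem inv7_39 : rowScal [7, 6] 1 39 = true := by decide +kernel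

theorem inv7_40 : rowScal [7, 6] 1 40 = true := by decide +kernel

theorem inv7_41 : rowScal [7, 6] 1 41 = true := by decide +kernel

theorem inv7_42 : rowScal [7, 6] 1 42 = true := by decide +kernel

theorem inv7_43 : rowScal [7, 6] 1 43 = true := by decide +kernel

theorem inv7_44 : rowScal [7, 6] 1 44 = true := by decide +kernel

theorem inv7 : scalOk [7, 6] 1 = true := by
  refine scalOk_of _ _ fun i hi => ?_
  interval_cases i
  exacts [inv7_0, inv7_1, inv7_2, inv7_3, inv7_4, inv7_5, inv7_6, inv7_7, inv7_8, inv7_9, inv7_10, inv7_11, inv7_12, inv7_13, inv7_14, inv7_15, inv7_16, inv7_17, inv7_18, inv7_19, inv7_20, inv7_21, inv7_22, inv7_23, inv7_24, inv7_25, inv7_26, inv7_27, inv7_28, inv7_29, inv7_30, inv7_31, inv7_32, inv7_33, inv7_34, inv7_35, inv7_36, inv7_37, inv7_38, inv7_39, inv7_40, inv7_41, inv7_42, inv7_43, inv7_44]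

end Cfsg.Agent.ONFortyFiveCheck41
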