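import Cfsg.Agent.Lib.ONFortyFiveCheckCore41

/-! Kernel checks of relators for the matrices of degree 45 of the O'Nan group, a part. -/

set_option autoImplicit false
set_option maxRecDepth 100000
set_option Elab.async false

namespace Cfsg.Agent.ONFortyFiveCheck41

theorem pair23_0 : rowScal [2, 3, 2, 3, 2, 3, 2, 3, 2, 3, 2, 3, 2, 3, 2, 3] 1 0 = true := by decide +kernel

theorem pair23_1 : rowScal [2, 3, 2, 3, 2, 3, 2, 3, 2, 3, 2, 3, 2, 3, 2, 3] 1 1 = true := by decide +kernel

theorem pair23_2 : rowScal [2, 3, 2, 3, 2, 3, 2, 3, 2, 3, 2, 3, 2, 3, 2, 3] 1 2 = true := by decide +kernel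

theorem pair23_3 : rowScal [2, 3, 2, 3, 2, 3, 2, 3, 2, 3, 2, 3, 2, 3, 2, 3] 1 3 = true := by decide +kernel

theorem pair23_4 : rowScal [2, 3, 2, 3, 2, 3, 2, 3, 2, 3, 2, 3, 2, 3, 2, 3] 1 4 = true := by decide +kernel

theorem pair23_5 : rowScal [2, 3, 2, 3, 2, 3, 2, 3, 2, 3, 2, 3, 2, 3, 2, 3] 1 5 = true := by decide +kernel

theorem pair23_6 : rowScal [2, 3, 2, 3, 2, 3, 2, 3, 2, 3, 2, 3, 2, 3, 2, 3] 1 6 = true := by decide +kernel

theorem pair23_7 : rowScal [2, 3, 2, 3, 2, 3, 2, 3, 2, 3, 2, 3, 2, 3, 2, 3] 1 7 = true := by decide +kernel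

theorem pair23_8 : rowScal [2, 3, 2, 3, 2, 3, 2, 3, 2, 3, 2, 3, 2, 3, 2, 3] 1 8 = true := by decide +kernel

theorem pair23_9 : rowScal [2, 3, 2, 3, 2, 3, 2, 3, 2, 3, 2, 3, 2, 3, 2, 3] 1 9 = true := by decide +kernel

theorem pair23_10 : rowScal [2, 3, 2, 3, 2, 3, 2, 3, 2, 3, 2, 3, 2, 3, 2, 3] 1 10 = true := by decide +kernel

theorem pair23_11 : rowScal [2, 3, 2, 3, 2, 3, 2, 3, 2, 3, 2, 3, 2, 3, 2, 3] 1 11 = true := by decide +kernel

theorem pair23_12 : rowScal [2, 3, 2, 3, 2, 3, 2, 3, 2, 3, 2, 3, 2, 3, 2, 3] 1 12 = true := by decide +kernel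

theorem pair23_13 : rowScal [2, 3, 2, 3, 2, 3, 2, 3, 2, 3, 2, 3, 2, 3, 2, 3] 1 13 = true := by decide +kernel

theorem pair23_14 : rowScal [2, 3, 2, 3, 2, 3, 2, 3, 2, 3, 2, 3, 2, 3, 2, 3] 1 14 = true := by decide +kernel

theorem pair23_15 : rowScal [2, 3, 2, 3, 2, 3, 2, 3, 2, 3, 2, 3, 2, 3, 2, 3] 1 15 = true := by decide +kernel

theorem pair23_16 : rowScal [2, 3, 2, 3, 2, 3, 2, 3, 2, 3, 2, 3, 2, 3, 2, 3] 1 16 = true := by decide +kernel

theorem pair23_17 : rowScal [2, 3, 2, 3, 2, 3, 2, 3, 2, 3, 2, 3, 2, 3, 2, 3] 1 17 = true := by decide +kernel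

theorem pair23_18 : rowScal [2, 3, 2, 3, 2, 3, 2, 3, 2, 3, 2, 3, 2, 3, 2, 3] 1 18 = true := by decide +kernel

theorem pair23_19 : rowScal [2, 3, 2, 3, 2, 3, 2, 3, 2, 3, 2, 3, 2, 3, 2, 3] 1 19 = true := by decide +kernel

theorem pair23_20 : rowScal [2, 3, 2, 3, 2, 3, 2, 3, 2, 3, 2, 3, 2, 3, 2, 3] 1 20 = true := by decide +kernel

theorem pair23_21 : rowScal [2, 3, 2, 3, 2, 3, 2, 3, 2, 3, 2, 3, 2, 3, 2, 3] 1 21 = true := by decide +kernel

theorem pair23_22 : rowScal [2, 3, 2, 3, 2, 3, 2, 3, 2, 3, 2, 3, 2, 3, 2, 3] 1 22 = true := by decide +kernel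

theorem pair23_23 : rowScal [2, 3, 2, 3, 2, 3, 2, 3, 2, 3, 2, 3, 2, 3, 2, 3] 1 23 = true := by decide +kernel

theorem pair23_24 : rowScal [2, 3, 2, 3, 2, 3, 2, 3, 2, 3, 2, 3, 2, 3, 2, 3] 1 24 = true := by decide +kernel

theorem pair23_25 : rowScal [2, 3, 2, 3, 2, 3, 2, 3, 2, 3, 2, 3, 2, 3, 2, 3] 1 25 = true := by decide +kernel

theorem pair23_26 : rowScal [2, 3, 2, 3, 2, 3, 2, 3, 2, 3, 2, 3, 2, 3, 2, 3] 1 26 = true := by decide +kernel

theorem pair23_27 : rowScal [2, 3, 2, 3, 2, 3, 2, 3, 2, 3, 2, 3, 2, 3, 2, 3] 1 27 = true := by decide +kernel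

theorem pair23_28 : rowScal [2, 3, 2, 3, 2, 3, 2, 3, 2, 3, 2, 3, 2, 3, 2, 3] 1 28 = true := by decide +kernel

theorem pair23_29 : rowScal [2, 3, 2, 3, 2, 3, 2, 3, 2, 3, 2, 3, 2, 3, 2, 3] 1 29 = true := by decide +kernel

theorem pair23_30 : rowScal [2, 3, 2, 3, 2, 3, 2, 3, 2, 3, 2, 3, 2, 3, 2, 3] 1 30 = true := by decide +kernel

theorem pair23_31 : rowScal [2, 3, 2, 3, 2, 3, 2, 3, 2, 3, 2, 3, 2, 3, 2, 3] 1 31 = true := by decide +kernel

theorem pair23_32 : rowScal [2, 3, 2, 3, 2, 3, 2, 3, 2, 3, 2, 3, 2, 3, 2, 3] 1 32 = true := by decide +kernel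

theorem pair23_33 : rowScal [2, 3, 2, 3, 2, 3, 2, 3, 2, 3, 2, 3, 2, 3, 2, 3] 1 33 = true := by decide +kernel

theorem pair23_34 : rowScal [2, 3, 2, 3, 2, 3, 2, 3, 2, 3, 2, 3, 2, 3, 2, 3] 1 34 = true := by decide +kernel

theorem pair23_35 : rowScal [2, 3, 2, 3, 2, 3, 2, 3, 2, 3, 2, 3, 2, 3, 2, 3] 1 35 = true := by decide +kernel

theorem pair23_36 : rowScal [2, 3, 2, 3, 2, 3, 2, 3, 2, 3, 2, 3, 2, 3, 2, 3] 1 36 = true := by decide +kernel

theorem pair23_37 : rowScal [2, 3, 2, 3, 2, 3, 2, 3, 2, 3, 2, 3, 2, 3, 2, 3] 1 37 = true := by decide +kernel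

theorem pair23_38 : rowScal [2, 3, 2, 3, 2, 3, 2, 3, 2, 3, 2, 3, 2, 3, 2, 3] 1 38 = true := by decide +kernel

theorem pair23_39 : rowScal [2, 3, 2, 3, 2, 3, 2, 3, 2, 3, 2, 3, 2, 3, 2, 3] 1 39 = true := by decide +kernel

theorem pair23_40 : rowScal [2, 3, 2, 3, 2, 3, 2, 3, 2, 3, 2, 3, 2, 3, 2, 3] 1 40 = true := by decide +kernel

theorem pair23_41 : rowScal [2, 3, 2, 3, 2, 3, 2, 3, 2, 3, 2, 3, 2, 3, 2, 3] 1 41 = true := by decide +kernel

theorem pair23_42 : rowScal [2, 3, 2, 3, 2, 3, 2, 3, 2, 3, 2, 3, 2, 3, 2, 3] 1 42 = true := by decide +kernel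

theorem pair23_43 : rowScal [2, 3, 2, 3, 2, 3, 2, 3, 2, 3, 2, 3, 2, 3, 2, 3] 1 43 = true := by decide +kernel

theorem pair23_44 : rowScal [2, 3, 2, 3, 2, 3, 2, 3, 2, 3, 2, 3, 2, 3, 2, 3] 1 44 = true := by decide +kernel

theorem pair23 : scalOk [2, 3, 2, 3, 2, 3, 2, 3, 2, 3, 2, 3, 2, 3, 2, 3] 1 = true := by
  refine scalOk_of _ _ fun i hi => ?_
  interval_cases i
  exacts [pair23_0, pair23_1, pair23_2, pair23_3, pair23_4, pair23_5, pair23_6, pair23_7, pair23_8, pair23_9, pair23_10, pair23_11, pair23_12, pair23_13, pair23_14, pair23_15, pair23_16, pair23_17, pair23_18, pair23_19, pair23_20, pair23_21, pair23_22, pair23_23, pair23_24, pair23_25, pair23_26, pair23_27, pair23_28, pair23_29, pair23_30, pair23_31, pair23_32, pair23_33, pair23_34, pair23_35, pair23_36, pair23_37, pair23_38, pair23_39, pair23_40, pair23_41, pair23_42, pair23_43, pair23_44]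

theorem pair45_0 : rowScal [4, 5, 4, 5, 4, 5] 1 0 = true := by decide +kernel

theorem pair45_1 : rowScal [4, 5, 4, 5, 4, 5] 1 1 = true := by decide +kernel

theorem pair45_2 : rowScal [4, 5, 4, 5, 4, 5] 1 2 = true := by decide +kernel

theorem pair45_3 : rowScal [4, 5, 4, 5, 4, 5] 1 3 = true := by decide +kernel

theorem pair45_4 : rowScal [4, 5, 4, 5, 4, 5] 1 4 = true := by decide +kernel

theorem pair45_5 : rowScal [4, 5, 4, 5, 4, 5] 1 5 = true := by decide +kernel

theorem pair45_6 : rowScal [4, 5, 4, 5, 4, 5] 1 6 = true := by decide +kernel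

theorem pair45_7 : rowScal [4, 5, 4, 5, 4, 5] 1 7 = true := by decide +kernel

theorem pair45_8 : rowScal [4, 5, 4, 5, 4, 5] 1 8 = true := by decide +kernel

theorem pair45_9 : rowScal [4, 5, 4, 5, 4, 5] 1 9 = true := by decide +kernel

theorem pair45_10 : rowScal [4, 5, 4, 5, 4, 5] 1 10 = true := by decide +kernel

theorem pair45_11 : rowScal [4, 5, 4, 5, 4, 5] 1 11 = true := by decide +kernel

theorem pair45_12 : rowScal [4, 5, 4, 5, 4, 5] 1 12 = true := by decide +kernel

theorem pair45_13 : rowScal [4, 5, 4, 5, 4, 5] 1 13 = true := by decide +kernel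

theorem pair45_14 : rowScal [4, 5, 4, 5, 4, 5] 1 14 = true := by decide +kernel

theorem pair45_15 : rowScal [4, 5, 4, 5, 4, 5] 1 15 = true := by decide +kernel

theorem pair45_16 : rowScal [4, 5, 4, 5, 4, 5] 1 16 = true := by decide +kernel

theorem pair45_17 : rowScal [4, 5, 4, 5, 4, 5] 1 17 = true := by decide +kernel

theorem pair45_18 : rowScal [4, 5, 4, 5, 4, 5] 1 18 = true := by decide +kernel

theorem pair45_19 : rowScal [4, 5, 4, 5, 4, 5] 1 19 = true := by decide +kernel

theorem pair45_20 : rowScal [4, 5, 4, 5, 4, 5] 1 20 = true := by decide +kernel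

theorem pair45_21 : rowScal [4, 5, 4, 5, 4, 5] 1 21 = true := by decide +kernel

theorem pair45_22 : rowScal [4, 5, 4, 5, 4, 5] 1 22 = true := by decide +kernel

theorem pair45_23 : rowScal [4, 5, 4, 5, 4, 5] 1 23 = true := by decide +kernel

theorem pair45_24 : rowScal [4, 5, 4, 5, 4, 5] 1 24 = true := by decide +kernel

theorem pair45_25 : rowScal [4, 5, 4, 5, 4, 5] 1 25 = true := by decide +kernel

theorem pair45_26 : rowScal [4, 5, 4, 5, 4, 5] 1 26 = true := by decide +kernel

theorem pair45_27 : rowScal [4, 5, 4, 5, 4, 5] 1 27 = true := by decide +kernel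

theorem pair45_28 : rowScal [4, 5, 4, 5, 4, 5] 1 28 = true := by decide +kernel

theorem pair45_29 : rowScal [4, 5, 4, 5, 4, 5] 1 29 = true := by decide +kernel

theorem pair45_30 : rowScal [4, 5, 4, 5, 4, 5] 1 30 = true := by decide +kernel

theorem pair45_31 : rowScal [4, 5, 4, 5, 4, 5] 1 31 = true := by decide +kernel

theorem pair45_32 : rowScal [4, 5, 4, 5, 4, 5] 1 32 = true := by decide +kernel

theorem pair45_33 : rowScal [4, 5, 4, 5, 4, 5] 1 33 = true := by decide +kernel

theorem pair45_34 : rowScal [4, 5, 4, 5, 4, 5] 1 34 = true := by decide +kernel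

theorem pair45_35 : rowScal [4, 5, 4, 5, 4, 5] 1 35 = true := by decide +kernel

theorem pair45_36 : rowScal [4, 5, 4, 5, 4, 5] 1 36 = true := by decide +kernel

theorem pair45_37 : rowScal [4, 5, 4, 5, 4, 5] 1 37 = true := by decide +kernel

theorem pair45_38 : rowScal [4, 5, 4, 5, 4, 5] 1 38 = true := by decide +kernel

theorem pair45_39 : rowScal [4, 5, 4, 5, 4, 5] 1 39 = true := by decide +kernel

theorem pair45_40 : rowScal [4, 5, 4, 5, 4, 5] 1 40 = true := by decide +kernel

theorem pair45_41 : rowScal [4, 5, 4, 5, 4, 5] 1 41 = true := by decide +kernel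

theorem pair45_42 : rowScal [4, 5, 4, 5, 4, 5] 1 42 = true := by decide +kernel

theorem pair45_43 : rowScal [4, 5, 4, 5, 4, 5] 1 43 = true := by decide +kernel

theorem pair45_44 : rowScal [4, 5, 4, 5, 4, 5] 1 44 = true := by decide +kernel

theorem pair45 : scalOk [4, 5, 4, 5, 4, 5] 1 = true := by
  refine scalOk_of _ _ fun i hi => ?_
  interval_cases i
  exacts [pair45_0, pair45_1, pair45_2, pair45_3, pair45_4, pair45_5, pair45_6, pair45_7, pair45_8, pair45_9, pair45_10, pair45_11, pair45_12, pair45_13, pair45_14, pair45_15, pair45_16, pair45_17, pair45_18, pair45_19, pair45_20, pair45_21, pair45_22, pair45_23, pair45_24, pair45_25, pair45_26, pair45_27, pair45_28, pair45_29, pair45_30, pair45_31, pair45_32, pair45_33, pair45_34, pair45_35, pair45_36, pair45_37, pair45_38, pair45_39, pair45_40, pair45_41, pair45_42, pair45_43, pair45_44]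

theorem pair25_0 : rowScal [2, 5, 2, 5] 1 0 = true := by decide +kernel

theorem pair25_1 : rowScal [2, 5, 2, 5] 1 1 = true := by decide +kernel

theorem pair25_2 : rowScal [2, 5, 2, 5] 1 2 = true := by decide +kernel

theorem pair25_3 : rowScal [2, 5, 2, 5] 1 3 = true := by decide +kernel

theorem pair25_4 : rowScal [2, 5, 2, 5] 1 4 = true := by decide +kernel

theorem pair25_5 : rowScal [2, 5, 2, 5] 1 5 = true := by decide +kernel

theorem pair25_6 : rowScal [2, 5, 2, 5] 1 6 = true := by decide +kernel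

theorem pair25_7 : rowScal [2, 5, 2, 5] 1 7 = true := by decide +kernel

theorem pair25_8 : rowScal [2, 5, 2, 5] 1 8 = true := by decide +kernel

theorem pair25_9 : rowScal [2, 5, 2, 5] 1 9 = true := by decide +kernel

theorem pair25_10 : rowScal [2, 5, 2, 5] 1 10 = true := by decide +kernel

theorem pair25_11 : rowScal [2, 5, 2, 5] 1 11 = true := by decide +kernel

theorem pair25_12 : rowScal [2, 5, 2, 5] 1 12 = true := by decide +kernel

theorem pair25_13 : rowScal [2, 5, 2, 5] 1 13 = true := by decide +kernel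

theorem pair25_14 : rowScal [2, 5, 2, 5] 1 14 = true := by decide +kernel

theorem pair25_15 : rowScal [2, 5, 2, 5] 1 15 = true := by decide +kernel

theorem pair25_16 : rowScal [2, 5, 2, 5] 1 16 = true := by decide +kernel

theorem pair25_17 : rowScal [2, 5, 2, 5] 1 17 = true := by decide +kernel

theorem pair25_18 : rowScal [2, 5, 2, 5] 1 18 = true := by decide +kernel

theorem pair25_19 : rowScal [2, 5, 2, 5] 1 19 = true := by decide +kernel

theorem pair25_20 : rowScal [2, 5, 2, 5] 1 20 = true := by decide +kernel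

theorem pair25_21 : rowScal [2, 5, 2, 5] 1 21 = true := by decide +kernel

theorem pair25_22 : rowScal [2, 5, 2, 5] 1 22 = true := by decide +kernel

theorem pair25_23 : rowScal [2, 5, 2, 5] 1 23 = true := by decide +kernel

theorem pair25_24 : rowScal [2, 5, 2, 5] 1 24 = true := by decide +kernel

theorem pair25_25 : rowScal [2, 5, 2, 5] 1 25 = true := by decide +kernel

theorem pair25_26 : rowScal [2, 5, 2, 5] 1 26 = true := by decide +kernel

theorem pair25_27 : rowScal [2, 5, 2, 5] 1 27 = true := by decide +kernel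

theorem pair25_28 : rowScal [2, 5, 2, 5] 1 28 = true := by decide +kernel

theorem pair25_29 : rowScal [2, 5, 2, 5] 1 29 = true := by decide +kernel

theorem pair25_30 : rowScal [2, 5, 2, 5] 1 30 = true := by decide +kernel

theorem pair25_31 : rowScal [2, 5, 2, 5] 1 31 = true := by decide +kernel

theorem pair25_32 : rowScal [2, 5, 2, 5] 1 32 = true := by decide +kernel

theorem pair25_33 : rowScal [2, 5, 2, 5] 1 33 = true := by decide +kernel

theorem pair25_34 : rowScal [2, 5, 2, 5] 1 34 = true := by decide +kernel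

theorem pair25_35 : rowScal [2, 5, 2, 5] 1 35 = true := by decide +kernel

theorem pair25_36 : rowScal [2, 5, 2, 5] 1 36 = true := by decide +kernel

theorem pair25_37 : rowScal [2, 5, 2, 5] 1 37 = true := by decide +kernel

theorem pair25_38 : rowScal [2, 5, 2, 5] 1 38 = true := by decide +kernel

theorem pair25_39 : rowScal [2, 5, 2, 5] 1 39 = true := by decide +kernel

theorem pair25_40 : rowScal [2, 5, 2, 5] 1 40 = true := by decide +kernel

theorem pair25_41 : rowScal [2, 5, 2, 5] 1 41 = true := by decide +kernel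

theorem pair25_42 : rowScal [2, 5, 2, 5] 1 42 = true := by decide +kernel

theorem pair25_43 : rowScal [2, 5, 2, 5] 1 43 = true := by decide +kernel

theorem pair25_44 : rowScal [2, 5, 2, 5] 1 44 = true := by decide +kernel

theorem pair25 : scalOk [2, 5, 2, 5] 1 = true := by
  refine scalOk_of _ _ fun i hi => ?_
  interval_cases i
  exacts [pair25_0, pair25_1, pair25_2, pair25_3, pair25_4, pair25_5, pair25_6, pair25_7, pair25_8, pair25_9, pair25_10, pair25_11, pair25_12, pair25_13, pair25_14, pair25_15, pair25_16, pair25_17, pair25_18, pair25_19, pair25_20, pair25_21, pair25_22, pair25_23, pair25_24, pair25_25, pair25_26, pair25_27, pair25_28, pair25_29, pair25_30, pair25_31, pair25_32, pair25_33, pair25_34, pair25_35, pair25_36, pair25_37, pair25_38, pair25_39, pair25_40, pair25_41, pair25_42, pair25_43, pair25_44]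

theorem inv3_0 : rowScal [3, 3] 1 0 = true := by decide +kernel

theorem inv3_1 : rowScal [3, 3] 1 1 = true := by decide +kernel

theorem inv3_2 : rowScal [3, 3] 1 2 = true := by decide +kernel

theorem inv3_3 : rowScal [3, 3] 1 3 = true := by decide +kernel

theorem inv3_4 : rowScal [3, 3] 1 4 = true := by decide +kernel

theorem inv3_5 : rowScal [3, 3] 1 5 = true := by decide +kernel

theorem inv3_6 : rowScal [3, 3] 1 6 = true := by decide +kernel

theorem inv3_7 : rowScal [3, 3] 1 7 = true := by decide +kernel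

theorem inv3_8 : rowScal [3, 3] 1 8 = true := by decide +kernel

theorem inv3_9 : rowScal [3, 3] 1 9 = true := by decide +kernel

theorem inv3_10 : rowScal [3, 3] 1 10 = true := by decide +kernel

theorem inv3_11 : rowScal [3, 3] 1 11 = true := by decide +kernel

theorem inv3_12 : rowScal [3, 3] 1 12 = true := by decide +kernel

theorem inv3_13 : rowScal [3, 3] 1 13 = true := by decide +kernel

theorem inv3_14 : rowScal [3, 3] 1 14 = true := by decide +kernel

theorem inv3_15 : rowScal [3, 3] 1 15 = true := by decide +kernel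

theorem inv3_16 : rowScal [3, 3] 1 16 = true := by decide +kernel

theorem inv3_17 : rowScal [3, 3] 1 17 = true := by decide +kernel

theorem inv3_18 : rowScal [3, 3] 1 18 = true := by decide +kernel

theorem inv3_19 : rowScal [3, 3] 1 19 = true := by decide +kernel

theorem inv3_20 : rowScal [3, 3] 1 20 = true := by decide +kernel

theorem inv3_21 : rowScal [3, 3] 1 21 = true := by decide +kernel

theorem inv3_22 : rowScal [3, 3] 1 22 = true := by decide +kernel

theorem inv3_23 : rowScal [3, 3] 1 23 = true := by decide +kernel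

theorem inv3_24 : rowScal [3, 3] 1 24 = true := by decide +kernel

theorem inv3_25 : rowScal [3, 3] 1 25 = true := by decide +kernel

theorem inv3_26 : rowScal [3, 3] 1 26 = true := by decide +kernel

theorem inv3_27 : rowScal [3, 3] 1 27 = true := by decide +kernel

theorem inv3_28 : rowScal [3, 3] 1 28 = true := by decide +kernel

theorem inv3_29 : rowScal [3, 3] 1 29 = true := by decide +kernel

theorem inv3_30 : rowScal [3, 3] 1 30 = true := by decide +kernel

theorem inv3_31 : rowScal [3, 3] 1 31 = true := by decide +kernel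

theorem inv3_32 : rowScal [3, 3] 1 32 = true := by decide +kernel

theorem inv3_33 : rowScal [3, 3] 1 33 = true := by decide +kernel

theorem inv3_34 : rowScal [3, 3] 1 34 = true := by decide +kernel

theorem inv3_35 : rowScal [3, 3] 1 35 = true := by decide +kernel

theorem inv3_36 : rowScal [3, 3] 1 36 = true := by decide +kernel

theorem inv3_37 : rowScal [3, 3] 1 37 = true := by decide +kernel

theorem inv3_38 : rowScal [3, 3] 1 38 = true := by decide +kernel

theorem inv3_39 : rowScal [3, 3] 1 39 = true := by decide +kernel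

theorem inv3_40 : rowScal [3, 3] 1 40 = true := by decide +kernel

theorem inv3_41 : rowScal [3, 3] 1 41 = true := by decide +kernel

theorem inv3_42 : rowScal [3, 3] 1 42 = true := by decide +kernel

theorem inv3_43 : rowScal [3, 3] 1 43 = true := by decide +kernel

theorem inv3_44 : rowScal [3, 3] 1 44 = true := by decide +kernel

theorem inv3 : scalOk [3, 3] 1 = true := by
  refine scalOk_of _ _ fun i hi => ?_
  interval_cases i
  exacts [inv3_0, inv3_1, inv3_2, inv3_3, inv3_4, inv3_5, inv3_6, inv3_7, inv3_8, inv3_9, inv3_10, inv3_11, inv3_12, inv3_13, inv3_14, inv3_15, inv3_16, inv3_17, inv3_18, inv3_19, inv3_20, inv3_21, inv3_22, inv3_23, inv3_24, inv3_25, inv3_26, inv3_27, inv3_28, inv3_29, inv3_30, inv3_31, inv3_32, inv3_33, inv3_34, inv3_35, inv3_36, inv3_37, inv3_38, inv3_39, inv3_40, inv3_41, inv3_42, inv3_43, inv3_44]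

end Cfsg.Agent.ONFortyFiveCheck41
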