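import Cfsg.Agent.Lib.ONFortyFiveCheckCore41

/-! Kernel checks of relators for the matrices of degree 45 of the O'Nan group, a part. -/

set_option autoImplicit false
set_option maxRecDepth 100000
set_option Elab.async false

namespace Cfsg.Agent.ONFortyFiveCheck41

theorem extra5_0 : rowScal [7, 1, 2, 7, 2, 1, 7, 1, 2, 7, 2] 4 0 = true := by decide +kernel

theorem extra5_1 : rowScal [7, 1, 2, 7, 2, 1, 7, 1, 2, 7, 2] 4 1 = true := by decide +kernel

theorem extra5_2 : rowScal [7, 1, 2, 7, 2, 1, 7, 1, 2, 7, 2] 4 2 = true := by decide +kernel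

theorem extra5_3 : rowScal [7, 1, 2, 7, 2, 1, 7, 1, 2, 7, 2] 4 3 = true := by decide +kernel

theorem extra5_4 : rowScal [7, 1, 2, 7, 2, 1, 7, 1, 2, 7, 2] 4 4 = true := by decide +kernel

theorem extra5_5 : rowScal [7, 1, 2, 7, 2, 1, 7, 1, 2, 7, 2] 4 5 = true := by decide +kernel

theorem extra5_6 : rowScal [7, 1, 2, 7, 2, 1, 7, 1, 2, 7, 2] 4 6 = true := by decide +kernel

theorem extra5_7 : rowScal [7, 1, 2, 7, 2, 1, 7, 1, 2, 7, 2] 4 7 = true := by decide +kernel

theorem extra5_8 : rowScal [7, 1, 2, 7, 2, 1, 7, 1, 2, 7, 2] 4 8 = true := by decide +kernel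

theorem extra5_9 : rowScal [7, 1, 2, 7, 2, 1, 7, 1, 2, 7, 2] 4 9 = true := by decide +kernel

theorem extra5_10 : rowScal [7, 1, 2, 7, 2, 1, 7, 1, 2, 7, 2] 4 10 = true := by decide +kernel

theorem extra5_11 : rowScal [7, 1, 2, 7, 2, 1, 7, 1, 2, 7, 2] 4 11 = true := by decide +kernel

theorem extra5_12 : rowScal [7, 1, 2, 7, 2, 1, 7, 1, 2, 7, 2] 4 12 = true := by decide +kernel

theorem extra5_13 : rowScal [7, 1, 2, 7, 2, 1, 7, 1, 2, 7, 2] 4 13 = true := by decide +kernel

theorem extra5_14 : rowScal [7, 1, 2, 7, 2, 1, 7, 1, 2, 7, 2] 4 14 = true := by decide +kernel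

theorem extra5_15 : rowScal [7, 1, 2, 7, 2, 1, 7, 1, 2, 7, 2] 4 15 = true := by decide +kernel

theorem extra5_16 : rowScal [7, 1, 2, 7, 2, 1, 7, 1, 2, 7, 2] 4 16 = true := by decide +kernel

theorem extra5_17 : rowScal [7, 1, 2, 7, 2, 1, 7, 1, 2, 7, 2] 4 17 = true := by decide +kernel

theorem extra5_18 : rowScal [7, 1, 2, 7, 2, 1, 7, 1, 2, 7, 2] 4 18 = true := by decide +kernel

theorem extra5_19 : rowScal [7, 1, 2, 7, 2, 1, 7, 1, 2, 7, 2] 4 19 = true := by decide +kernel

theorem extra5_20 : rowScal [7, 1, 2, 7, 2, 1, 7, 1, 2, 7, 2] 4 20 = true := by decide +kernel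

theorem extra5_21 : rowScal [7, 1, 2, 7, 2, 1, 7, 1, 2, 7, 2] 4 21 = true := by decide +kernel

theorem extra5_22 : rowScal [7, 1, 2, 7, 2, 1, 7, 1, 2, 7, 2] 4 22 = true := by decide +kernel

theorem extra5_23 : rowScal [7, 1, 2, 7, 2, 1, 7, 1, 2, 7, 2] 4 23 = true := by decide +kernel

theorem extra5_24 : rowScal [7, 1, 2, 7, 2, 1, 7, 1, 2, 7, 2] 4 24 = true := by decide +kernel

theorem extra5_25 : rowScal [7, 1, 2, 7, 2, 1, 7, 1, 2, 7, 2] 4 25 = true := by decide +kernel

theorem extra5_26 : rowScal [7, 1, 2, 7, 2, 1, 7, 1, 2, 7, 2] 4 26 = true := by decide +kernel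

theorem extra5_27 : rowScal [7, 1, 2, 7, 2, 1, 7, 1, 2, 7, 2] 4 27 = true := by decide +kernel

theorem extra5_28 : rowScal [7, 1, 2, 7, 2, 1, 7, 1, 2, 7, 2] 4 28 = true := by decide +kernel

theorem extra5_29 : rowScal [7, 1, 2, 7, 2, 1, 7, 1, 2, 7, 2] 4 29 = true := by decide +kernel

theorem extra5_30 : rowScal [7, 1, 2, 7, 2, 1, 7, 1, 2, 7, 2] 4 30 = true := by decide +kernel

theorem extra5_31 : rowScal [7, 1, 2, 7, 2, 1, 7, 1, 2, 7, 2] 4 31 = true := by decide +kernel

theorem extra5_32 : rowScal [7, 1, 2, 7, 2, 1, 7, 1, 2, 7, 2] 4 32 = true := by decide +kernel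

theorem extra5_33 : rowScal [7, 1, 2, 7, 2, 1, 7, 1, 2, 7, 2] 4 33 = true := by decide +kernel

theorem extra5_34 : rowScal [7, 1, 2, 7, 2, 1, 7, 1, 2, 7, 2] 4 34 = true := by decide +kernel

theorem extra5_35 : rowScal [7, 1, 2, 7, 2, 1, 7, 1, 2, 7, 2] 4 35 = true := by decide +kernel

theorem extra5_36 : rowScal [7, 1, 2, 7, 2, 1, 7, 1, 2, 7, 2] 4 36 = true := by decide +kernel

theorem extra5_37 : rowScal [7, 1, 2, 7, 2, 1, 7, 1, 2, 7, 2] 4 37 = true := by decide +kernel

theorem extra5_38 : rowScal [7, 1, 2, 7, 2, 1, 7, 1, 2, 7, 2] 4 38 = true := by decide +kernel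

theorem extra5_39 : rowScal [7, 1, 2, 7, 2, 1, 7, 1, 2, 7, 2] 4 39 = true := by decide +kernel

theorem extra5_40 : rowScal [7, 1, 2, 7, 2, 1, 7, 1, 2, 7, 2] 4 40 = true := by decide +kernel

theorem extra5_41 : rowScal [7, 1, 2, 7, 2, 1, 7, 1, 2, 7, 2] 4 41 = true := by decide +kernel

theorem extra5_42 : rowScal [7, 1, 2, 7, 2, 1, 7, 1, 2, 7, 2] 4 42 = true := by decide +kernel

theorem extra5_43 : rowScal [7, 1, 2, 7, 2, 1, 7, 1, 2, 7, 2] 4 43 = true := by decide +kernel

theorem extra5_44 : rowScal [7, 1, 2, 7, 2, 1, 7, 1, 2, 7, 2] 4 44 = true := by decide +kernel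

theorem extra5 : scalOk [7, 1, 2, 7, 2, 1, 7, 1, 2, 7, 2] 4 = true := by
  refine scalOk_of _ _ fun i hi => ?_
  interval_cases i
  exacts [extra5_0, extra5_1, extra5_2, extra5_3, extra5_4, extra5_5, extra5_6, extra5_7, extra5_8, extra5_9, extra5_10, extra5_11, extra5_12, extra5_13, extra5_14, extra5_15, extra5_16, extra5_17, extra5_18, extra5_19, extra5_20, extra5_21, extra5_22, extra5_23, extra5_24, extra5_25, extra5_26, extra5_27, extra5_28, extra5_29, extra5_30, extra5_31, extra5_32, extra5_33, extra5_34, extra5_35, extra5_36, extra5_37, extra5_38, extra5_39, extra5_40, extra5_41, extra5_42, extra5_43, extra5_44]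

theorem pair12_0 : rowScal [1, 2, 1, 2, 1, 2] 1 0 = true := by decide +kernel

theorem pair12_1 : rowScal [1, 2, 1, 2, 1, 2] 1 1 = true := by decide +kernel

theorem pair12_2 : rowScal [1, 2, 1, 2, 1, 2] 1 2 = true := by decide +kernel

theorem pair12_3 : rowScal [1, 2, 1, 2, 1, 2] 1 3 = true := by decide +kernel

theorem pair12_4 : rowScal [1, 2, 1, 2, 1, 2] 1 4 = true := by decide +kernel

theorem pair12_5 : rowScal [1, 2, 1, 2, 1, 2] 1 5 = true := by decide +kernel

theorem pair12_6 : rowScal [1, 2, 1, 2, 1, 2] 1 6 = true := by decide +kernel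

theorem pair12_7 : rowScal [1, 2, 1, 2, 1, 2] 1 7 = true := by decide +kernel

theorem pair12_8 : rowScal [1, 2, 1, 2, 1, 2] 1 8 = true := by decide +kernel

theorem pair12_9 : rowScal [1, 2, 1, 2, 1, 2] 1 9 = true := by decide +kernel

theorem pair12_10 : rowScal [1, 2, 1, 2, 1, 2] 1 10 = true := by decide +kernel

theorem pair12_11 : rowScal [1, 2, 1, 2, 1, 2] 1 11 = true := by decide +kernel

theorem pair12_12 : rowScal [1, 2, 1, 2, 1, 2] 1 12 = true := by decide +kernel

theorem pair12_13 : rowScal [1, 2, 1, 2, 1, 2] 1 13 = true := by decide +kernel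

theorem pair12_14 : rowScal [1, 2, 1, 2, 1, 2] 1 14 = true := by decide +kernel

theorem pair12_15 : rowScal [1, 2, 1, 2, 1, 2] 1 15 = true := by decide +kernel

theorem pair12_16 : rowScal [1, 2, 1, 2, 1, 2] 1 16 = true := by decide +kernel

theorem pair12_17 : rowScal [1, 2, 1, 2, 1, 2] 1 17 = true := by decide +kernel

theorem pair12_18 : rowScal [1, 2, 1, 2, 1, 2] 1 18 = true := by decide +kernel

theorem pair12_19 : rowScal [1, 2, 1, 2, 1, 2] 1 19 = true := by decide +kernel

theorem pair12_20 : rowScal [1, 2, 1, 2, 1, 2] 1 20 = true := by decide +kernel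

theorem pair12_21 : rowScal [1, 2, 1, 2, 1, 2] 1 21 = true := by decide +kernel

theorem pair12_22 : rowScal [1, 2, 1, 2, 1, 2] 1 22 = true := by decide +kernel

theorem pair12_23 : rowScal [1, 2, 1, 2, 1, 2] 1 23 = true := by decide +kernel

theorem pair12_24 : rowScal [1, 2, 1, 2, 1, 2] 1 24 = true := by decide +kernel

theorem pair12_25 : rowScal [1, 2, 1, 2, 1, 2] 1 25 = true := by decide +kernel

theorem pair12_26 : rowScal [1, 2, 1, 2, 1, 2] 1 26 = true := by decide +kernel

theorem pair12_27 : rowScal [1, 2, 1, 2, 1, 2] 1 27 = true := by decide +kernel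

theorem pair12_28 : rowScal [1, 2, 1, 2, 1, 2] 1 28 = true := by decide +kernel

theorem pair12_29 : rowScal [1, 2, 1, 2, 1, 2] 1 29 = true := by decide +kernel

theorem pair12_30 : rowScal [1, 2, 1, 2, 1, 2] 1 30 = true := by decide +kernel

theorem pair12_31 : rowScal [1, 2, 1, 2, 1, 2] 1 31 = true := by decide +kernel

theorem pair12_32 : rowScal [1, 2, 1, 2, 1, 2] 1 32 = true := by decide +kernel

theorem pair12_33 : rowScal [1, 2, 1, 2, 1, 2] 1 33 = true := by decide +kernel

theorem pair12_34 : rowScal [1, 2, 1, 2, 1, 2] 1 34 = true := by decide +kernel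

theorem pair12_35 : rowScal [1, 2, 1, 2, 1, 2] 1 35 = true := by decide +kernel

theorem pair12_36 : rowScal [1, 2, 1, 2, 1, 2] 1 36 = true := by decide +kernel

theorem pair12_37 : rowScal [1, 2, 1, 2, 1, 2] 1 37 = true := by decide +kernel

theorem pair12_38 : rowScal [1, 2, 1, 2, 1, 2] 1 38 = true := by decide +kernel

theorem pair12_39 : rowScal [1, 2, 1, 2, 1, 2] 1 39 = true := by decide +kernel

theorem pair12_40 : rowScal [1, 2, 1, 2, 1, 2] 1 40 = true := by decide +kernel

theorem pair12_41 : rowScal [1, 2, 1, 2, 1, 2] 1 41 = true := by decide +kernel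

theorem pair12_42 : rowScal [1, 2, 1, 2, 1, 2] 1 42 = true := by decide +kernel

theorem pair12_43 : rowScal [1, 2, 1, 2, 1, 2] 1 43 = true := by decide +kernel

theorem pair12_44 : rowScal [1, 2, 1, 2, 1, 2] 1 44 = true := by decide +kernel

theorem pair12 : scalOk [1, 2, 1, 2, 1, 2] 1 = true := by
  refine scalOk_of _ _ fun i hi => ?_
  interval_cases i
  exacts [pair12_0, pair12_1, pair12_2, pair12_3, pair12_4, pair12_5, pair12_6, pair12_7, pair12_8, pair12_9, pair12_10, pair12_11, pair12_12, pair12_13, pair12_14, pair12_15, pair12_16, pair12_17, pair12_18, pair12_19, pair12_20, pair12_21, pair12_22, pair12_23, pair12_24, pair12_25, pair12_26, pair12_27, pair12_28, pair12_29, pair12_30, pair12_31, pair12_32, pair12_33, pair12_34, pair12_35, pair12_36, pair12_37, pair12_38, pair12_39, pair12_40, pair12_41, pair12_42, pair12_43, pair12_44]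

theorem pair03_0 : rowScal [0, 3, 0, 3] 1 0 = true := by decide +kernel

theorem pair03_1 : rowScal [0, 3, 0, 3] 1 1 = true := by decide +kernel

theorem pair03_2 : rowScal [0, 3, 0, 3] 1 2 = true := by decide +kernel

theorem pair03_3 : rowScal [0, 3, 0, 3] 1 3 = true := by decide +kernel

theorem pair03_4 : rowScal [0, 3, 0, 3] 1 4 = true := by decide +kernel

theorem pair03_5 : rowScal [0, 3, 0, 3] 1 5 = true := by decide +kernel

theorem pair03_6 : rowScal [0, 3, 0, 3] 1 6 = true := by decide +kernel

theorem pair03_7 : rowScal [0, 3, 0, 3] 1 7 = true := by decide +kernel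

theorem pair03_8 : rowScal [0, 3, 0, 3] 1 8 = true := by decide +kernel

theorem pair03_9 : rowScal [0, 3, 0, 3] 1 9 = true := by decide +kernel

theorem pair03_10 : rowScal [0, 3, 0, 3] 1 10 = true := by decide +kernel

theorem pair03_11 : rowScal [0, 3, 0, 3] 1 11 = true := by decide +kernel

theorem pair03_12 : rowScal [0, 3, 0, 3] 1 12 = true := by decide +kernel

theorem pair03_13 : rowScal [0, 3, 0, 3] 1 13 = true := by decide +kernel

theorem pair03_14 : rowScal [0, 3, 0, 3] 1 14 = true := by decide +kernel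

theorem pair03_15 : rowScal [0, 3, 0, 3] 1 15 = true := by decide +kernel

theorem pair03_16 : rowScal [0, 3, 0, 3] 1 16 = true := by decide +kernel

theorem pair03_17 : rowScal [0, 3, 0, 3] 1 17 = true := by decide +kernel

theorem pair03_18 : rowScal [0, 3, 0, 3] 1 18 = true := by decide +kernel

theorem pair03_19 : rowScal [0, 3, 0, 3] 1 19 = true := by decide +kernel

theorem pair03_20 : rowScal [0, 3, 0, 3] 1 20 = true := by decide +kernel

theorem pair03_21 : rowScal [0, 3, 0, 3] 1 21 = true := by decide +kernel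

theorem pair03_22 : rowScal [0, 3, 0, 3] 1 22 = true := by decide +kernel

theorem pair03_23 : rowScal [0, 3, 0, 3] 1 23 = true := by decide +kernel

theorem pair03_24 : rowScal [0, 3, 0, 3] 1 24 = true := by decide +kernel

theorem pair03_25 : rowScal [0, 3, 0, 3] 1 25 = true := by decide +kernel

theorem pair03_26 : rowScal [0, 3, 0, 3] 1 26 = true := by decide +kernel

theorem pair03_27 : rowScal [0, 3, 0, 3] 1 27 = true := by decide +kernel

theorem pair03_28 : rowScal [0, 3, 0, 3] 1 28 = true := by decide +kernel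

theorem pair03_29 : rowScal [0, 3, 0, 3] 1 29 = true := by decide +kernel

theorem pair03_30 : rowScal [0, 3, 0, 3] 1 30 = true := by decide +kernel

theorem pair03_31 : rowScal [0, 3, 0, 3] 1 31 = true := by decide +kernel

theorem pair03_32 : rowScal [0, 3, 0, 3] 1 32 = true := by decide +kernel

theorem pair03_33 : rowScal [0, 3, 0, 3] 1 33 = true := by decide +kernel

theorem pair03_34 : rowScal [0, 3, 0, 3] 1 34 = true := by decide +kernel

theorem pair03_35 : rowScal [0, 3, 0, 3] 1 35 = true := by decide +kernel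

theorem pair03_36 : rowScal [0, 3, 0, 3] 1 36 = true := by decide +kernel

theorem pair03_37 : rowScal [0, 3, 0, 3] 1 37 = true := by decide +kernel

theorem pair03_38 : rowScal [0, 3, 0, 3] 1 38 = true := by decide +kernel

theorem pair03_39 : rowScal [0, 3, 0, 3] 1 39 = true := by decide +kernel

theorem pair03_40 : rowScal [0, 3, 0, 3] 1 40 = true := by decide +kernel

theorem pair03_41 : rowScal [0, 3, 0, 3] 1 41 = true := by decide +kernel

theorem pair03_42 : rowScal [0, 3, 0, 3] 1 42 = true := by decide +kernel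

theorem pair03_43 : rowScal [0, 3, 0, 3] 1 43 = true := by decide +kernel

theorem pair03_44 : rowScal [0, 3, 0, 3] 1 44 = true := by decide +kernel

theorem pair03 : scalOk [0, 3, 0, 3] 1 = true := by
  refine scalOk_of _ _ fun i hi => ?_
  interval_cases i
  exacts [pair03_0, pair03_1, pair03_2, pair03_3, pair03_4, pair03_5, pair03_6, pair03_7, pair03_8, pair03_9, pair03_10, pair03_11, pair03_12, pair03_13, pair03_14, pair03_15, pair03_16, pair03_17, pair03_18, pair03_19, pair03_20, pair03_21, pair03_22, pair03_23, pair03_24, pair03_25, pair03_26, pair03_27, pair03_28, pair03_29, pair03_30, pair03_31, pair03_32, pair03_33, pair03_34, pair03_35, pair03_36, pair03_37, pair03_38, pair03_39, pair03_40, pair03_41, pair03_42, pair03_43, pair03_44]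

theorem pair05_0 : rowScal [0, 5, 0, 5] 1 0 = true := by decide +kernel

theorem pair05_1 : rowScal [0, 5, 0, 5] 1 1 = true := by decide +kernel

theorem pair05_2 : rowScal [0, 5, 0, 5] 1 2 = true := by decide +kernel

theorem pair05_3 : rowScal [0, 5, 0, 5] 1 3 = true := by decide +kernel

theorem pair05_4 : rowScal [0, 5, 0, 5] 1 4 = true := by decide +kernel

theorem pair05_5 : rowScal [0, 5, 0, 5] 1 5 = true := by decide +kernel

theorem pair05_6 : rowScal [0, 5, 0, 5] 1 6 = true := by decide +kernel

theorem pair05_7 : rowScal [0, 5, 0, 5] 1 7 = true := by decide +kernel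

theorem pair05_8 : rowScal [0, 5, 0, 5] 1 8 = true := by decide +kernel

theorem pair05_9 : rowScal [0, 5, 0, 5] 1 9 = true := by decide +kernel

theorem pair05_10 : rowScal [0, 5, 0, 5] 1 10 = true := by decide +kernel

theorem pair05_11 : rowScal [0, 5, 0, 5] 1 11 = true := by decide +kernel

theorem pair05_12 : rowScal [0, 5, 0, 5] 1 12 = true := by decide +kernel

theorem pair05_13 : rowScal [0, 5, 0, 5] 1 13 = true := by decide +kernel

theorem pair05_14 : rowScal [0, 5, 0, 5] 1 14 = true := by decide +kernel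

theorem pair05_15 : rowScal [0, 5, 0, 5] 1 15 = true := by decide +kernel

theorem pair05_16 : rowScal [0, 5, 0, 5] 1 16 = true := by decide +kernel

theorem pair05_17 : rowScal [0, 5, 0, 5] 1 17 = true := by decide +kernel

theorem pair05_18 : rowScal [0, 5, 0, 5] 1 18 = true := by decide +kernel

theorem pair05_19 : rowScal [0, 5, 0, 5] 1 19 = true := by decide +kernel

theorem pair05_20 : rowScal [0, 5, 0, 5] 1 20 = true := by decide +kernel

theorem pair05_21 : rowScal [0, 5, 0, 5] 1 21 = true := by decide +kernel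

theorem pair05_22 : rowScal [0, 5, 0, 5] 1 22 = true := by decide +kernel

theorem pair05_23 : rowScal [0, 5, 0, 5] 1 23 = true := by decide +kernel

theorem pair05_24 : rowScal [0, 5, 0, 5] 1 24 = true := by decide +kernel

theorem pair05_25 : rowScal [0, 5, 0, 5] 1 25 = true := by decide +kernel

theorem pair05_26 : rowScal [0, 5, 0, 5] 1 26 = true := by decide +kernel

theorem pair05_27 : rowScal [0, 5, 0, 5] 1 27 = true := by decide +kernel

theorem pair05_28 : rowScal [0, 5, 0, 5] 1 28 = true := by decide +kernel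

theorem pair05_29 : rowScal [0, 5, 0, 5] 1 29 = true := by decide +kernel

theorem pair05_30 : rowScal [0, 5, 0, 5] 1 30 = true := by decide +kernel

theorem pair05_31 : rowScal [0, 5, 0, 5] 1 31 = true := by decide +kernel

theorem pair05_32 : rowScal [0, 5, 0, 5] 1 32 = true := by decide +kernel

theorem pair05_33 : rowScal [0, 5, 0, 5] 1 33 = true := by decide +kernel

theorem pair05_34 : rowScal [0, 5, 0, 5] 1 34 = true := by decide +kernel

theorem pair05_35 : rowScal [0, 5, 0, 5] 1 35 = true := by decide +kernel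

theorem pair05_36 : rowScal [0, 5, 0, 5] 1 36 = true := by decide +kernel

theorem pair05_37 : rowScal [0, 5, 0, 5] 1 37 = true := by decide +kernel

theorem pair05_38 : rowScal [0, 5, 0, 5] 1 38 = true := by decide +kernel

theorem pair05_39 : rowScal [0, 5, 0, 5] 1 39 = true := by decide +kernel

theorem pair05_40 : rowScal [0, 5, 0, 5] 1 40 = true := by decide +kernel

theorem pair05_41 : rowScal [0, 5, 0, 5] 1 41 = true := by decide +kernel

theorem pair05_42 : rowScal [0, 5, 0, 5] 1 42 = true := by decide +kernel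

theorem pair05_43 : rowScal [0, 5, 0, 5] 1 43 = true := by decide +kernel

theorem pair05_44 : rowScal [0, 5, 0, 5] 1 44 = true := by decide +kernel

theorem pair05 : scalOk [0, 5, 0, 5] 1 = true := by
  refine scalOk_of _ _ fun i hi => ?_
  interval_cases i
  exacts [pair05_0, pair05_1, pair05_2, pair05_3, pair05_4, pair05_5, pair05_6, pair05_7, pair05_8, pair05_9, pair05_10, pair05_11, pair05_12, pair05_13, pair05_14, pair05_15, pair05_16, pair05_17, pair05_18, pair05_19, pair05_20, pair05_21, pair05_22, pair05_23, pair05_24, pair05_25, pair05_26, pair05_27, pair05_28, pair05_29, pair05_30, pair05_31, pair05_32, pair05_33, pair05_34, pair05_35, pair05_36, pair05_37, pair05_38, pair05_39, pair05_40, pair05_41, pair05_42, pair05_43, pair05_44]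

theorem inv1_0 : rowScal [1, 1] 1 0 = true := by decide +kernel

theorem inv1_1 : rowScal [1, 1] 1 1 = true := by decide +kernel

theorem inv1_2 : rowScal [1, 1] 1 2 = true := by decide +kernel

theorem inv1_3 : rowScal [1, 1] 1 3 = true := by decide +kernel

theorem inv1_4 : rowScal [1, 1] 1 4 = true := by decide +kernel

theorem inv1_5 : rowScal [1, 1] 1 5 = true := by decide +kernel

theorem inv1_6 : rowScal [1, 1] 1 6 = true := by decide +kernel

theorem inv1_7 : rowScal [1, 1] 1 7 = true := by decide +kernel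

theorem inv1_8 : rowScal [1, 1] 1 8 = true := by decide +kernel

theorem inv1_9 : rowScal [1, 1] 1 9 = true := by decide +kernel

theorem inv1_10 : rowScal [1, 1] 1 10 = true := by decide +kernel

theorem inv1_11 : rowScal [1, 1] 1 11 = true := by decide +kernel

theorem inv1_12 : rowScal [1, 1] 1 12 = true := by decide +kernel

theorem inv1_13 : rowScal [1, 1] 1 13 = true := by decide +kernel

theorem inv1_14 : rowScal [1, 1] 1 14 = true := by decide +kernel

theorem inv1_15 : rowScal [1, 1] 1 15 = true := by decide +kernel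

theorem inv1_16 : rowScal [1, 1] 1 16 = true := by decide +kernel

theorem inv1_17 : rowScal [1, 1] 1 17 = true := by decide +kernel

theorem inv1_18 : rowScal [1, 1] 1 18 = true := by decide +kernel

theorem inv1_19 : rowScal [1, 1] 1 19 = true := by decide +kernel

theorem inv1_20 : rowScal [1, 1] 1 20 = true := by decide +kernel

theorem inv1_21 : rowScal [1, 1] 1 21 = true := by decide +kernel

theorem inv1_22 : rowScal [1, 1] 1 22 = true := by decide +kernel

theorem inv1_23 : rowScal [1, 1] 1 23 = true := by decide +kernel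

theorem inv1_24 : rowScal [1, 1] 1 24 = true := by decide +kernel

theorem inv1_25 : rowScal [1, 1] 1 25 = true := by decide +kernel

theorem inv1_26 : rowScal [1, 1] 1 26 = true := by decide +kernel

theorem inv1_27 : rowScal [1, 1] 1 27 = true := by decide +kernel

theorem inv1_28 : rowScal [1, 1] 1 28 = true := by decide +kernel

theorem inv1_29 : rowScal [1, 1] 1 29 = true := by decide +kernel

theorem inv1_30 : rowScal [1, 1] 1 30 = true := by decide +kernel

theorem inv1_31 : rowScal [1, 1] 1 31 = true := by decide +kernel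

theorem inv1_32 : rowScal [1, 1] 1 32 = true := by decide +kernel

theorem inv1_33 : rowScal [1, 1] 1 33 = true := by decide +kernel

theorem inv1_34 : rowScal [1, 1] 1 34 = true := by decide +kernel

theorem inv1_35 : rowScal [1, 1] 1 35 = true := by decide +kernel

theorem inv1_36 : rowScal [1, 1] 1 36 = true := by decide +kernel

theorem inv1_37 : rowScal [1, 1] 1 37 = true := by decide +kernel

theorem inv1_38 : rowScal [1, 1] 1 38 = true := by decide +kernel

theorem inv1_39 : rowScal [1, 1] 1 39 = true := by decide +kernel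

theorem inv1_40 : rowScal [1, 1] 1 40 = true := by decide +kernel

theorem inv1_41 : rowScal [1, 1] 1 41 = true := by decide +kernel

theorem inv1_42 : rowScal [1, 1] 1 42 = true := by decide +kernel

theorem inv1_43 : rowScal [1, 1] 1 43 = true := by decide +kernel

theorem inv1_44 : rowScal [1, 1] 1 44 = true := by decide +kernel

theorem inv1 : scalOk [1, 1] 1 = true := by
  refine scalOk_of _ _ fun i hi => ?_
  interval_cases i
  exacts [inv1_0, inv1_1, inv1_2, inv1_3, inv1_4, inv1_5, inv1_6, inv1_7, inv1_8, inv1_9, inv1_10, inv1_11, inv1_12, inv1_13, inv1_14, inv1_15, inv1_16, inv1_17, inv1_18, inv1_19, inv1_20, inv1_21, inv1_22, inv1_23, inv1_24, inv1_25, inv1_26, inv1_27, inv1_28, inv1_29, inv1_30, inv1_31, inv1_32, inv1_33, inv1_34, inv1_35, inv1_36, inv1_37, inv1_38, inv1_39, inv1_40, inv1_41, inv1_42, inv1_43, inv1_44]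

theorem inv5_0 : rowScal [5, 5] 1 0 = true := by decide +kernel

theorem inv5_1 : rowScal [5, 5] 1 1 = true := by decide +kernel

theorem inv5_2 : rowScal [5, 5] 1 2 = true := by decide +kernel

theorem inv5_3 : rowScal [5, 5] 1 3 = true := by decide +kernel

theorem inv5_4 : rowScal [5, 5] 1 4 = true := by decide +kernel

theorem inv5_5 : rowScal [5, 5] 1 5 = true := by decide +kernel

theorem inv5_6 : rowScal [5, 5] 1 6 = true := by decide +kernel

theorem inv5_7 : rowScal [5, 5] 1 7 = true := by decide +kernel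

theorem inv5_8 : rowScal [5, 5] 1 8 = true := by decide +kernel

theorem inv5_9 : rowScal [5, 5] 1 9 = true := by decide +kernel

theorem inv5_10 : rowScal [5, 5] 1 10 = true := by decide +kernel

theorem inv5_11 : rowScal [5, 5] 1 11 = true := by decide +kernel

theorem inv5_12 : rowScal [5, 5] 1 12 = true := by decide +kernel

theorem inv5_13 : rowScal [5, 5] 1 13 = true := by decide +kernel

theorem inv5_14 : rowScal [5, 5] 1 14 = true := by decide +kernel

theorem inv5_15 : rowScal [5, 5] 1 15 = true := by decide +kernel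

theorem inv5_16 : rowScal [5, 5] 1 16 = true := by decide +kernel

theorem inv5_17 : rowScal [5, 5] 1 17 = true := by decide +kernel

theorem inv5_18 : rowScal [5, 5] 1 18 = true := by decide +kernel

theorem inv5_19 : rowScal [5, 5] 1 19 = true := by decide +kernel

theorem inv5_20 : rowScal [5, 5] 1 20 = true := by decide +kernel

theorem inv5_21 : rowScal [5, 5] 1 21 = true := by decide +kernel

theorem inv5_22 : rowScal [5, 5] 1 22 = true := by decide +kernel

theorem inv5_23 : rowScal [5, 5] 1 23 = true := by decide +kernel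

theorem inv5_24 : rowScal [5, 5] 1 24 = true := by decide +kernel

theorem inv5_25 : rowScal [5, 5] 1 25 = true := by decide +kernel

theorem inv5_26 : rowScal [5, 5] 1 26 = true := by decide +kernel

theorem inv5_27 : rowScal [5, 5] 1 27 = true := by decide +kernel

theorem inv5_28 : rowScal [5, 5] 1 28 = true := by decide +kernel

theorem inv5_29 : rowScal [5, 5] 1 29 = true := by decide +kernel

theorem inv5_30 : rowScal [5, 5] 1 30 = true := by decide +kernel

theorem inv5_31 : rowScal [5, 5] 1 31 = true := by decide +kernel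

theorem inv5_32 : rowScal [5, 5] 1 32 = true := by decide +kernel

theorem inv5_33 : rowScal [5, 5] 1 33 = true := by decide +kernel

theorem inv5_34 : rowScal [5, 5] 1 34 = true := by decide +kernel

theorem inv5_35 : rowScal [5, 5] 1 35 = true := by decide +kernel

theorem inv5_36 : rowScal [5, 5] 1 36 = true := by decide +kernel

theorem inv5_37 : rowScal [5, 5] 1 37 = true := by decide +kernel

theorem inv5_38 : rowScal [5, 5] 1 38 = true := by decide +kernel

theorem inv5_39 : rowScal [5, 5] 1 39 = true := by decide +kernel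

theorem inv5_40 : rowScal [5, 5] 1 40 = true := by decide +kernel

theorem inv5_41 : rowScal [5, 5] 1 41 = true := by decide +kernel

theorem inv5_42 : rowScal [5, 5] 1 42 = true := by decide +kernel

theorem inv5_43 : rowScal [5, 5] 1 43 = true := by decide +kernel

theorem inv5_44 : rowScal [5, 5] 1 44 = true := by decide +kernel

theorem inv5 : scalOk [5, 5] 1 = true := by
  refine scalOk_of _ _ fun i hi => ?_
  interval_cases i
  exacts [inv5_0, inv5_1, inv5_2, inv5_3, inv5_4, inv5_5, inv5_6, inv5_7, inv5_8, inv5_9, inv5_10, inv5_11, inv5_12, inv5_13, inv5_14, inv5_15, inv5_16, inv5_17, inv5_18, inv5_19, inv5_20, inv5_21, inv5_22, inv5_23, inv5_24, inv5_25, inv5_26, inv5_27, inv5_28, inv5_29, inv5_30, inv5_31, inv5_32, inv5_33, inv5_34, inv5_35, inv5_36, inv5_37, inv5_38, inv5_39, inv5_40, inv5_41, inv5_42, inv5_43, inv5_44]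

end Cfsg.Agent.ONFortyFiveCheck41
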