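import Cfsg.Agent.Lib.ONFortyFiveCheckCore41

/-! Kernel checks of relators for the matrices of degree 45 of the O'Nan group, a part. -/

set_option autoImplicit false
set_option maxRecDepth 100000
set_option Elab.async false

namespace Cfsg.Agent.ONFortyFiveCheck41

theorem extra6_0 : rowScal [7, 4, 3, 7, 3, 4, 7, 4, 3, 7, 3] 4 0 = true := by decide +kernel

theorem extra6_1 : rowScal [7, 4, 3, 7, 3, 4, 7, 4, 3, 7, 3] 4 1 = true := by decide +kernel

theorem extra6_2 : rowScal [7, 4, 3, 7, 3, 4, 7, 4, 3, 7, 3] 4 2 = true := by decide +kernel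

theorem extra6_3 : rowScal [7, 4, 3, 7, 3, 4, 7, 4, 3, 7, 3] 4 3 = true := by decide +kernel

theorem extra6_4 : rowScal [7, 4, 3, 7, 3, 4, 7, 4, 3, 7, 3] 4 4 = true := by decide +kernel

theorem extra6_5 : rowScal [7, 4, 3, 7, 3, 4, 7, 4, 3, 7, 3] 4 5 = true := by decide +kernel

theorem extra6_6 : rowScal [7, 4, 3, 7, 3, 4, 7, 4, 3, 7, 3] 4 6 = true := by decide +kernel

theorem extra6_7 : rowScal [7, 4, 3, 7, 3, 4, 7, 4, 3, 7, 3] 4 7 = true := by decide +kernel

theorem extra6_8 : rowScal [7, 4, 3, 7, 3, 4, 7, 4, 3, 7, 3] 4 8 = true := by decide +kernel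

theorem extra6_9 : rowScal [7, 4, 3, 7, 3, 4, 7, 4, 3, 7, 3] 4 9 = true := by decide +kernel

theorem extra6_10 : rowScal [7, 4, 3, 7, 3, 4, 7, 4, 3, 7, 3] 4 10 = true := by decide +kernel

theorem extra6_11 : rowScal [7, 4, 3, 7, 3, 4, 7, 4, 3, 7, 3] 4 11 = true := by decide +kernel

theorem extra6_12 : rowScal [7, 4, 3, 7, 3, 4, 7, 4, 3, 7, 3] 4 12 = true := by decide +kernel

theorem extra6_13 : rowScal [7, 4, 3, 7, 3, 4, 7, 4, 3, 7, 3] 4 13 = true := by decide +kernel

theorem extra6_14 : rowScal [7, 4, 3, 7, 3, 4, 7, 4, 3, 7, 3] 4 14 = true := by decide +kernel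

theorem extra6_15 : rowScal [7, 4, 3, 7, 3, 4, 7, 4, 3, 7, 3] 4 15 = true := by decide +kernel

theorem extra6_16 : rowScal [7, 4, 3, 7, 3, 4, 7, 4, 3, 7, 3] 4 16 = true := by decide +kernel

theorem extra6_17 : rowScal [7, 4, 3, 7, 3, 4, 7, 4, 3, 7, 3] 4 17 = true := by decide +kernel

theorem extra6_18 : rowScal [7, 4, 3, 7, 3, 4, 7, 4, 3, 7, 3] 4 18 = true := by decide +kernel

theorem extra6_19 : rowScal [7, 4, 3, 7, 3, 4, 7, 4, 3, 7, 3] 4 19 = true := by decide +kernel

theorem extra6_20 : rowScal [7, 4, 3, 7, 3, 4, 7, 4, 3, 7, 3] 4 20 = true := by decide +kernel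

theorem extra6_21 : rowScal [7, 4, 3, 7, 3, 4, 7, 4, 3, 7, 3] 4 21 = true := by decide +kernel

theorem extra6_22 : rowScal [7, 4, 3, 7, 3, 4, 7, 4, 3, 7, 3] 4 22 = true := by decide +kernel

theorem extra6_23 : rowScal [7, 4, 3, 7, 3, 4, 7, 4, 3, 7, 3] 4 23 = true := by decide +kernel

theorem extra6_24 : rowScal [7, 4, 3, 7, 3, 4, 7, 4, 3, 7, 3] 4 24 = true := by decide +kernel

theorem extra6_25 : rowScal [7, 4, 3, 7, 3, 4, 7, 4, 3, 7, 3] 4 25 = true := by decide +kernel

theorem extra6_26 : rowScal [7, 4, 3, 7, 3, 4, 7, 4, 3, 7, 3] 4 26 = true := by decide +kernel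

theorem extra6_27 : rowScal [7, 4, 3, 7, 3, 4, 7, 4, 3, 7, 3] 4 27 = true := by decide +kernel

theorem extra6_28 : rowScal [7, 4, 3, 7, 3, 4, 7, 4, 3, 7, 3] 4 28 = true := by decide +kernel

theorem extra6_29 : rowScal [7, 4, 3, 7, 3, 4, 7, 4, 3, 7, 3] 4 29 = true := by decide +kernel

theorem extra6_30 : rowScal [7, 4, 3, 7, 3, 4, 7, 4, 3, 7, 3] 4 30 = true := by decide +kernel

theorem extra6_31 : rowScal [7, 4, 3, 7, 3, 4, 7, 4, 3, 7, 3] 4 31 = true := by decide +kernel

theorem extra6_32 : rowScal [7, 4, 3, 7, 3, 4, 7, 4, 3, 7, 3] 4 32 = true := by decide +kernel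

theorem extra6_33 : rowScal [7, 4, 3, 7, 3, 4, 7, 4, 3, 7, 3] 4 33 = true := by decide +kernel

theorem extra6_34 : rowScal [7, 4, 3, 7, 3, 4, 7, 4, 3, 7, 3] 4 34 = true := by decide +kernel

theorem extra6_35 : rowScal [7, 4, 3, 7, 3, 4, 7, 4, 3, 7, 3] 4 35 = true := by decide +kernel

theorem extra6_36 : rowScal [7, 4, 3, 7, 3, 4, 7, 4, 3, 7, 3] 4 36 = true := by decide +kernel

theorem extra6_37 : rowScal [7, 4, 3, 7, 3, 4, 7, 4, 3, 7, 3] 4 37 = true := by decide +kernel

theorem extra6_38 : rowScal [7, 4, 3, 7, 3, 4, 7, 4, 3, 7, 3] 4 38 = true := by decide +kernel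

theorem extra6_39 : rowScal [7, 4, 3, 7, 3, 4, 7, 4, 3, 7, 3] 4 39 = true := by decide +kernel

theorem extra6_40 : rowScal [7, 4, 3, 7, 3, 4, 7, 4, 3, 7, 3] 4 40 = true := by decide +kernel

theorem extra6_41 : rowScal [7, 4, 3, 7, 3, 4, 7, 4, 3, 7, 3] 4 41 = true := by decide +kernel

theorem extra6_42 : rowScal [7, 4, 3, 7, 3, 4, 7, 4, 3, 7, 3] 4 42 = true := by decide +kernel

theorem extra6_43 : rowScal [7, 4, 3, 7, 3, 4, 7, 4, 3, 7, 3] 4 43 = true := by decide +kernel

theorem extra6_44 : rowScal [7, 4, 3, 7, 3, 4, 7, 4, 3, 7, 3] 4 44 = true := by decide +kernel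

theorem extra6 : scalOk [7, 4, 3, 7, 3, 4, 7, 4, 3, 7, 3] 4 = true := by
  refine scalOk_of _ _ fun i hi => ?_
  interval_cases i
  exacts [extra6_0, extra6_1, extra6_2, extra6_3, extra6_4, extra6_5, extra6_6, extra6_7, extra6_8, extra6_9, extra6_10, extra6_11, extra6_12, extra6_13, extra6_14, extra6_15, extra6_16, extra6_17, extra6_18, extra6_19, extra6_20, extra6_21, extra6_22, extra6_23, extra6_24, extra6_25, extra6_26, extra6_27, extra6_28, extra6_29, extra6_30, extra6_31, extra6_32, extra6_33, extra6_34, extra6_35, extra6_36, extra6_37, extra6_38, extra6_39, extra6_40, extra6_41, extra6_42, extra6_43, extra6_44]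

theorem pair34_0 : rowScal [3, 4, 3, 4, 3, 4] 1 0 = true := by decide +kernel

theorem pair34_1 : rowScal [3, 4, 3, 4, 3, 4] 1 1 = true := by decide +kernel

theorem pair34_2 : rowScal [3, 4, 3, 4, 3, 4] 1 2 = true := by decide +kernel

theorem pair34_3 : rowScal [3, 4, 3, 4, 3, 4] 1 3 = true := by decide +kernel

theorem pair34_4 : rowScal [3, 4, 3, 4, 3, 4] 1 4 = true := by decide +kernel

theorem pair34_5 : rowScal [3, 4, 3, 4, 3, 4] 1 5 = true := by decide +kernel

theorem pair34_6 : rowScal [3, 4, 3, 4, 3, 4] 1 6 = true := by decide +kernel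

theorem pair34_7 : rowScal [3, 4, 3, 4, 3, 4] 1 7 = true := by decide +kernel

theorem pair34_8 : rowScal [3, 4, 3, 4, 3, 4] 1 8 = true := by decide +kernel

theorem pair34_9 : rowScal [3, 4, 3, 4, 3, 4] 1 9 = true := by decide +kernel

theorem pair34_10 : rowScal [3, 4, 3, 4, 3, 4] 1 10 = true := by decide +kernel

theorem pair34_11 : rowScal [3, 4, 3, 4, 3, 4] 1 11 = true := by decide +kernel

theorem pair34_12 : rowScal [3, 4, 3, 4, 3, 4] 1 12 = true := by decide +kernel

theorem pair34_13 : rowScal [3, 4, 3, 4, 3, 4] 1 13 = true := by decide +kernel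

theorem pair34_14 : rowScal [3, 4, 3, 4, 3, 4] 1 14 = true := by decide +kernel

theorem pair34_15 : rowScal [3, 4, 3, 4, 3, 4] 1 15 = true := by decide +kernel

theorem pair34_16 : rowScal [3, 4, 3, 4, 3, 4] 1 16 = true := by decide +kernel

theorem pair34_17 : rowScal [3, 4, 3, 4, 3, 4] 1 17 = true := by decide +kernel

theorem pair34_18 : rowScal [3, 4, 3, 4, 3, 4] 1 18 = true := by decide +kernel

theorem pair34_19 : rowScal [3, 4, 3, 4, 3, 4] 1 19 = true := by decide +kernel

theorem pair34_20 : rowScal [3, 4, 3, 4, 3, 4] 1 20 = true := by decide +kernel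

theorem pair34_21 : rowScal [3, 4, 3, 4, 3, 4] 1 21 = true := by decide +kernel

theorem pair34_22 : rowScal [3, 4, 3, 4, 3, 4] 1 22 = true := by decide +kernel

theorem pair34_23 : rowScal [3, 4, 3, 4, 3, 4] 1 23 = true := by decide +kernel

theorem pair34_24 : rowScal [3, 4, 3, 4, 3, 4] 1 24 = true := by decide +kernel

theorem pair34_25 : rowScal [3, 4, 3, 4, 3, 4] 1 25 = true := by decide +kernel

theorem pair34_26 : rowScal [3, 4, 3, 4, 3, 4] 1 26 = true := by decide +kernel

theorem pair34_27 : rowScal [3, 4, 3, 4, 3, 4] 1 27 = true := by decide +kernel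

theorem pair34_28 : rowScal [3, 4, 3, 4, 3, 4] 1 28 = true := by decide +kernel

theorem pair34_29 : rowScal [3, 4, 3, 4, 3, 4] 1 29 = true := by decide +kernel

theorem pair34_30 : rowScal [3, 4, 3, 4, 3, 4] 1 30 = true := by decide +kernel

theorem pair34_31 : rowScal [3, 4, 3, 4, 3, 4] 1 31 = true := by decide +kernel

theorem pair34_32 : rowScal [3, 4, 3, 4, 3, 4] 1 32 = true := by decide +kernel

theorem pair34_33 : rowScal [3, 4, 3, 4, 3, 4] 1 33 = true := by decide +kernel

theorem pair34_34 : rowScal [3, 4, 3, 4, 3, 4] 1 34 = true := by decide +kernel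

theorem pair34_35 : rowScal [3, 4, 3, 4, 3, 4] 1 35 = true := by decide +kernel

theorem pair34_36 : rowScal [3, 4, 3, 4, 3, 4] 1 36 = true := by decide +kernel

theorem pair34_37 : rowScal [3, 4, 3, 4, 3, 4] 1 37 = true := by decide +kernel

theorem pair34_38 : rowScal [3, 4, 3, 4, 3, 4] 1 38 = true := by decide +kernel

theorem pair34_39 : rowScal [3, 4, 3, 4, 3, 4] 1 39 = true := by decide +kernel

theorem pair34_40 : rowScal [3, 4, 3, 4, 3, 4] 1 40 = true := by decide +kernel

theorem pair34_41 : rowScal [3, 4, 3, 4, 3, 4] 1 41 = true := by decide +kernel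

theorem pair34_42 : rowScal [3, 4, 3, 4, 3, 4] 1 42 = true := by decide +kernel

theorem pair34_43 : rowScal [3, 4, 3, 4, 3, 4] 1 43 = true := by decide +kernel

theorem pair34_44 : rowScal [3, 4, 3, 4, 3, 4] 1 44 = true := by decide +kernel

theorem pair34 : scalOk [3, 4, 3, 4, 3, 4] 1 = true := by
  refine scalOk_of _ _ fun i hi => ?_
  interval_cases i
  exacts [pair34_0, pair34_1, pair34_2, pair34_3, pair34_4, pair34_5, pair34_6, pair34_7, pair34_8, pair34_9, pair34_10, pair34_11, pair34_12, pair34_13, pair34_14, pair34_15, pair34_16, pair34_17, pair34_18, pair34_19, pair34_20, pair34_21, pair34_22, pair34_23, pair34_24, pair34_25, pair34_26, pair34_27, pair34_28, pair34_29, pair34_30, pair34_31, pair34_32, pair34_33, pair34_34, pair34_35, pair34_36, pair34_37, pair34_38, pair34_39, pair34_40, pair34_41, pair34_42, pair34_43, pair34_44]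

theorem pair13_0 : rowScal [1, 3, 1, 3] 1 0 = true := by decide +kernel

theorem pair13_1 : rowScal [1, 3, 1, 3] 1 1 = true := by decide +kernel

theorem pair13_2 : rowScal [1, 3, 1, 3] 1 2 = true := by decide +kernel

theorem pair13_3 : rowScal [1, 3, 1, 3] 1 3 = true := by decide +kernel

theorem pair13_4 : rowScal [1, 3, 1, 3] 1 4 = true := by decide +kernel

theorem pair13_5 : rowScal [1, 3, 1, 3] 1 5 = true := by decide +kernel

theorem pair13_6 : rowScal [1, 3, 1, 3] 1 6 = true := by decide +kernel

theorem pair13_7 : rowScal [1, 3, 1, 3] 1 7 = true := by decide +kernel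

theorem pair13_8 : rowScal [1, 3, 1, 3] 1 8 = true := by decide +kernel

theorem pair13_9 : rowScal [1, 3, 1, 3] 1 9 = true := by decide +kernel

theorem pair13_10 : rowScal [1, 3, 1, 3] 1 10 = true := by decide +kernel

theorem pair13_11 : rowScal [1, 3, 1, 3] 1 11 = true := by decide +kernel

theorem pair13_12 : rowScal [1, 3, 1, 3] 1 12 = true := by decide +kernel

theorem pair13_13 : rowScal [1, 3, 1, 3] 1 13 = true := by decide +kernel

theorem pair13_14 : rowScal [1, 3, 1, 3] 1 14 = true := by decide +kernel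

theorem pair13_15 : rowScal [1, 3, 1, 3] 1 15 = true := by decide +kernel

theorem pair13_16 : rowScal [1, 3, 1, 3] 1 16 = true := by decide +kernel

theorem pair13_17 : rowScal [1, 3, 1, 3] 1 17 = true := by decide +kernel

theorem pair13_18 : rowScal [1, 3, 1, 3] 1 18 = true := by decide +kernel

theorem pair13_19 : rowScal [1, 3, 1, 3] 1 19 = true := by decide +kernel

theorem pair13_20 : rowScal [1, 3, 1, 3] 1 20 = true := by decide +kernel

theorem pair13_21 : rowScal [1, 3, 1, 3] 1 21 = true := by decide +kernel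

theorem pair13_22 : rowScal [1, 3, 1, 3] 1 22 = true := by decide +kernel

theorem pair13_23 : rowScal [1, 3, 1, 3] 1 23 = true := by decide +kernel

theorem pair13_24 : rowScal [1, 3, 1, 3] 1 24 = true := by decide +kernel

theorem pair13_25 : rowScal [1, 3, 1, 3] 1 25 = true := by decide +kernel

theorem pair13_26 : rowScal [1, 3, 1, 3] 1 26 = true := by decide +kernel

theorem pair13_27 : rowScal [1, 3, 1, 3] 1 27 = true := by decide +kernel

theorem pair13_28 : rowScal [1, 3, 1, 3] 1 28 = true := by decide +kernel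

theorem pair13_29 : rowScal [1, 3, 1, 3] 1 29 = true := by decide +kernel

theorem pair13_30 : rowScal [1, 3, 1, 3] 1 30 = true := by decide +kernel

theorem pair13_31 : rowScal [1, 3, 1, 3] 1 31 = true := by decide +kernel

theorem pair13_32 : rowScal [1, 3, 1, 3] 1 32 = true := by decide +kernel

theorem pair13_33 : rowScal [1, 3, 1, 3] 1 33 = true := by decide +kernel

theorem pair13_34 : rowScal [1, 3, 1, 3] 1 34 = true := by decide +kernel

theorem pair13_35 : rowScal [1, 3, 1, 3] 1 35 = true := by decide +kernel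

theorem pair13_36 : rowScal [1, 3, 1, 3] 1 36 = true := by decide +kernel

theorem pair13_37 : rowScal [1, 3, 1, 3] 1 37 = true := by decide +kernel

theorem pair13_38 : rowScal [1, 3, 1, 3] 1 38 = true := by decide +kernel

theorem pair13_39 : rowScal [1, 3, 1, 3] 1 39 = true := by decide +kernel

theorem pair13_40 : rowScal [1, 3, 1, 3] 1 40 = true := by decide +kernel

theorem pair13_41 : rowScal [1, 3, 1, 3] 1 41 = true := by decide +kernel

theorem pair13_42 : rowScal [1, 3, 1, 3] 1 42 = true := by decide +kernel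

theorem pair13_43 : rowScal [1, 3, 1, 3] 1 43 = true := by decide +kernel

theorem pair13_44 : rowScal [1, 3, 1, 3] 1 44 = true := by decide +kernel

theorem pair13 : scalOk [1, 3, 1, 3] 1 = true := by
  refine scalOk_of _ _ fun i hi => ?_
  interval_cases i
  exacts [pair13_0, pair13_1, pair13_2, pair13_3, pair13_4, pair13_5, pair13_6, pair13_7, pair13_8, pair13_9, pair13_10, pair13_11, pair13_12, pair13_13, pair13_14, pair13_15, pair13_16, pair13_17, pair13_18, pair13_19, pair13_20, pair13_21, pair13_22, pair13_23, pair13_24, pair13_25, pair13_26, pair13_27, pair13_28, pair13_29, pair13_30, pair13_31, pair13_32, pair13_33, pair13_34, pair13_35, pair13_36, pair13_37, pair13_38, pair13_39, pair13_40, pair13_41, pair13_42, pair13_43, pair13_44]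

theorem pair15_0 : rowScal [1, 5, 1, 5] 1 0 = true := by decide +kernel

theorem pair15_1 : rowScal [1, 5, 1, 5] 1 1 = true := by decide +kernel

theorem pair15_2 : rowScal [1, 5, 1, 5] 1 2 = true := by decide +kernel

theorem pair15_3 : rowScal [1, 5, 1, 5] 1 3 = true := by decide +kernel

theorem pair15_4 : rowScal [1, 5, 1, 5] 1 4 = true := by decide +kernel

theorem pair15_5 : rowScal [1, 5, 1, 5] 1 5 = true := by decide +kernel

theorem pair15_6 : rowScal [1, 5, 1, 5] 1 6 = true := by decide +kernel

theorem pair15_7 : rowScal [1, 5, 1, 5] 1 7 = true := by decide +kernel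

theorem pair15_8 : rowScal [1, 5, 1, 5] 1 8 = true := by decide +kernel

theorem pair15_9 : rowScal [1, 5, 1, 5] 1 9 = true := by decide +kernel

theorem pair15_10 : rowScal [1, 5, 1, 5] 1 10 = true := by decide +kernel

theorem pair15_11 : rowScal [1, 5, 1, 5] 1 11 = true := by decide +kernel

theorem pair15_12 : rowScal [1, 5, 1, 5] 1 12 = true := by decide +kernel

theorem pair15_13 : rowScal [1, 5, 1, 5] 1 13 = true := by decide +kernel

theorem pair15_14 : rowScal [1, 5, 1, 5] 1 14 = true := by decide +kernel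

theorem pair15_15 : rowScal [1, 5, 1, 5] 1 15 = true := by decide +kernel

theorem pair15_16 : rowScal [1, 5, 1, 5] 1 16 = true := by decide +kernel

theorem pair15_17 : rowScal [1, 5, 1, 5] 1 17 = true := by decide +kernel

theorem pair15_18 : rowScal [1, 5, 1, 5] 1 18 = true := by decide +kernel

theorem pair15_19 : rowScal [1, 5, 1, 5] 1 19 = true := by decide +kernel

theorem pair15_20 : rowScal [1, 5, 1, 5] 1 20 = true := by decide +kernel

theorem pair15_21 : rowScal [1, 5, 1, 5] 1 21 = true := by decide +kernel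

theorem pair15_22 : rowScal [1, 5, 1, 5] 1 22 = true := by decide +kernel

theorem pair15_23 : rowScal [1, 5, 1, 5] 1 23 = true := by decide +kernel

theorem pair15_24 : rowScal [1, 5, 1, 5] 1 24 = true := by decide +kernel

theorem pair15_25 : rowScal [1, 5, 1, 5] 1 25 = true := by decide +kernel

theorem pair15_26 : rowScal [1, 5, 1, 5] 1 26 = true := by decide +kernel

theorem pair15_27 : rowScal [1, 5, 1, 5] 1 27 = true := by decide +kernel

theorem pair15_28 : rowScal [1, 5, 1, 5] 1 28 = true := by decide +kernel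

theorem pair15_29 : rowScal [1, 5, 1, 5] 1 29 = true := by decide +kernel

theorem pair15_30 : rowScal [1, 5, 1, 5] 1 30 = true := by decide +kernel

theorem pair15_31 : rowScal [1, 5, 1, 5] 1 31 = true := by decide +kernel

theorem pair15_32 : rowScal [1, 5, 1, 5] 1 32 = true := by decide +kernel

theorem pair15_33 : rowScal [1, 5, 1, 5] 1 33 = true := by decide +kernel

theorem pair15_34 : rowScal [1, 5, 1, 5] 1 34 = true := by decide +kernel

theorem pair15_35 : rowScal [1, 5, 1, 5] 1 35 = true := by decide +kernel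

theorem pair15_36 : rowScal [1, 5, 1, 5] 1 36 = true := by decide +kernel

theorem pair15_37 : rowScal [1, 5, 1, 5] 1 37 = true := by decide +kernel

theorem pair15_38 : rowScal [1, 5, 1, 5] 1 38 = true := by decide +kernel

theorem pair15_39 : rowScal [1, 5, 1, 5] 1 39 = true := by decide +kernel

theorem pair15_40 : rowScal [1, 5, 1, 5] 1 40 = true := by decide +kernel

theorem pair15_41 : rowScal [1, 5, 1, 5] 1 41 = true := by decide +kernel

theorem pair15_42 : rowScal [1, 5, 1, 5] 1 42 = true := by decide +kernel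

theorem pair15_43 : rowScal [1, 5, 1, 5] 1 43 = true := by decide +kernel

theorem pair15_44 : rowScal [1, 5, 1, 5] 1 44 = true := by decide +kernel

theorem pair15 : scalOk [1, 5, 1, 5] 1 = true := by
  refine scalOk_of _ _ fun i hi => ?_
  interval_cases i
  exacts [pair15_0, pair15_1, pair15_2, pair15_3, pair15_4, pair15_5, pair15_6, pair15_7, pair15_8, pair15_9, pair15_10, pair15_11, pair15_12, pair15_13, pair15_14, pair15_15, pair15_16, pair15_17, pair15_18, pair15_19, pair15_20, pair15_21, pair15_22, pair15_23, pair15_24, pair15_25, pair15_26, pair15_27, pair15_28, pair15_29, pair15_30, pair15_31, pair15_32, pair15_33, pair15_34, pair15_35, pair15_36, pair15_37, pair15_38, pair15_39, pair15_40, pair15_41, pair15_42, pair15_43, pair15_44]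

theorem inv2_0 : rowScal [2, 2] 1 0 = true := by decide +kernel

theorem inv2_1 : rowScal [2, 2] 1 1 = true := by decide +kernel

theorem inv2_2 : rowScal [2, 2] 1 2 = true := by decide +kernel

theorem inv2_3 : rowScal [2, 2] 1 3 = true := by decide +kernel

theorem inv2_4 : rowScal [2, 2] 1 4 = true := by decide +kernel

theorem inv2_5 : rowScal [2, 2] 1 5 = true := by decide +kernel

theorem inv2_6 : rowScal [2, 2] 1 6 = true := by decide +kernel

theorem inv2_7 : rowScal [2, 2] 1 7 = true := by decide +kernel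

theorem inv2_8 : rowScal [2, 2] 1 8 = true := by decide +kernel

theorem inv2_9 : rowScal [2, 2] 1 9 = true := by decide +kernel

theorem inv2_10 : rowScal [2, 2] 1 10 = true := by decide +kernel

theorem inv2_11 : rowScal [2, 2] 1 11 = true := by decide +kernel

theorem inv2_12 : rowScal [2, 2] 1 12 = true := by decide +kernel

theorem inv2_13 : rowScal [2, 2] 1 13 = true := by decide +kernel

theorem inv2_14 : rowScal [2, 2] 1 14 = true := by decide +kernel

theorem inv2_15 : rowScal [2, 2] 1 15 = true := by decide +kernel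

theorem inv2_16 : rowScal [2, 2] 1 16 = true := by decide +kernel

theorem inv2_17 : rowScal [2, 2] 1 17 = true := by decide +kernel

theorem inv2_18 : rowScal [2, 2] 1 18 = true := by decide +kernel

theorem inv2_19 : rowScal [2, 2] 1 19 = true := by decide +kernel

theorem inv2_20 : rowScal [2, 2] 1 20 = true := by decide +kernel

theorem inv2_21 : rowScal [2, 2] 1 21 = true := by decide +kernel

theorem inv2_22 : rowScal [2, 2] 1 22 = true := by decide +kernel

theorem inv2_23 : rowScal [2, 2] 1 23 = true := by decide +kernel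

theorem inv2_24 : rowScal [2, 2] 1 24 = true := by decide +kernel

theorem inv2_25 : rowScal [2, 2] 1 25 = true := by decide +kernel

theorem inv2_26 : rowScal [2, 2] 1 26 = true := by decide +kernel

theorem inv2_27 : rowScal [2, 2] 1 27 = true := by decide +kernel

theorem inv2_28 : rowScal [2, 2] 1 28 = true := by decide +kernel

theorem inv2_29 : rowScal [2, 2] 1 29 = true := by decide +kernel

theorem inv2_30 : rowScal [2, 2] 1 30 = true := by decide +kernel

theorem inv2_31 : rowScal [2, 2] 1 31 = true := by decide +kernel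

theorem inv2_32 : rowScal [2, 2] 1 32 = true := by decide +kernel

theorem inv2_33 : rowScal [2, 2] 1 33 = true := by decide +kernel

theorem inv2_34 : rowScal [2, 2] 1 34 = true := by decide +kernel

theorem inv2_35 : rowScal [2, 2] 1 35 = true := by decide +kernel

theorem inv2_36 : rowScal [2, 2] 1 36 = true := by decide +kernel

theorem inv2_37 : rowScal [2, 2] 1 37 = true := by decide +kernel

theorem inv2_38 : rowScal [2, 2] 1 38 = true := by decide +kernel

theorem inv2_39 : rowScal [2, 2] 1 39 = true := by decide +kernel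

theorem inv2_40 : rowScal [2, 2] 1 40 = true := by decide +kernel

theorem inv2_41 : rowScal [2, 2] 1 41 = true := by decide +kernel

theorem inv2_42 : rowScal [2, 2] 1 42 = true := by decide +kernel

theorem inv2_43 : rowScal [2, 2] 1 43 = true := by decide +kernel

theorem inv2_44 : rowScal [2, 2] 1 44 = true := by decide +kernel

theorem inv2 : scalOk [2, 2] 1 = true := by
  refine scalOk_of _ _ fun i hi => ?_
  interval_cases i
  exacts [inv2_0, inv2_1, inv2_2, inv2_3, inv2_4, inv2_5, inv2_6, inv2_7, inv2_8, inv2_9, inv2_10, inv2_11, inv2_12, inv2_13, inv2_14, inv2_15, inv2_16, inv2_17, inv2_18, inv2_19, inv2_20, inv2_21, inv2_22, inv2_23, inv2_24, inv2_25, inv2_26, inv2_27, inv2_28, inv2_29, inv2_30, inv2_31, inv2_32, inv2_33, inv2_34, inv2_35, inv2_36, inv2_37, inv2_38, inv2_39, inv2_40, inv2_41, inv2_42, inv2_43, inv2_44]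

theorem inv6_0 : rowScal [6, 7] 1 0 = true := by decide +kernel

theorem inv6_1 : rowScal [6, 7] 1 1 = true := by decide +kernel

theorem inv6_2 : rowScal [6, 7] 1 2 = true := by decide +kernel

theorem inv6_3 : rowScal [6, 7] 1 3 = true := by decide +kernel

theorem inv6_4 : rowScal [6, 7] 1 4 = true := by decide +kernel

theorem inv6_5 : rowScal [6, 7] 1 5 = true := by decide +kernel

theorem inv6_6 : rowScal [6, 7] 1 6 = true := by decide +kernel

theorem inv6_7 : rowScal [6, 7] 1 7 = true := by decide +kernel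

theorem inv6_8 : rowScal [6, 7] 1 8 = true := by decide +kernel

theorem inv6_9 : rowScal [6, 7] 1 9 = true := by decide +kernel

theorem inv6_10 : rowScal [6, 7] 1 10 = true := by decide +kernel

theorem inv6_11 : rowScal [6, 7] 1 11 = true := by decide +kernel

theorem inv6_12 : rowScal [6, 7] 1 12 = true := by decide +kernel

theorem inv6_13 : rowScal [6, 7] 1 13 = true := by decide +kernel

theorem inv6_14 : rowScal [6, 7] 1 14 = true := by decide +kernel

theorem inv6_15 : rowScal [6, 7] 1 15 = true := by decide +kernel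

theorem inv6_16 : rowScal [6, 7] 1 16 = true := by decide +kernel

theorem inv6_17 : rowScal [6, 7] 1 17 = true := by decide +kernel

theorem inv6_18 : rowScal [6, 7] 1 18 = true := by decide +kernel

theorem inv6_19 : rowScal [6, 7] 1 19 = true := by decide +kernel

theorem inv6_20 : rowScal [6, 7] 1 20 = true := by decide +kernel

theorem inv6_21 : rowScal [6, 7] 1 21 = true := by decide +kernel

theorem inv6_22 : rowScal [6, 7] 1 22 = true := by decide +kernel

theorem inv6_23 : rowScal [6, 7] 1 23 = true := by decide +kernel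

theorem inv6_24 : rowScal [6, 7] 1 24 = true := by decide +kernel

theorem inv6_25 : rowScal [6, 7] 1 25 = true := by decide +kernel

theorem inv6_26 : rowScal [6, 7] 1 26 = true := by decide +kernel

theorem inv6_27 : rowScal [6, 7] 1 27 = true := by decide +kernel

theorem inv6_28 : rowScal [6, 7] 1 28 = true := by decide +kernel

theorem inv6_29 : rowScal [6, 7] 1 29 = true := by decide +kernel

theorem inv6_30 : rowScal [6, 7] 1 30 = true := by decide +kernel

theorem inv6_31 : rowScal [6, 7] 1 31 = true := by decide +kernel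

theorem inv6_32 : rowScal [6, 7] 1 32 = true := by decide +kernel

theorem inv6_33 : rowScal [6, 7] 1 33 = true := by decide +kernel

theorem inv6_34 : rowScal [6, 7] 1 34 = true := by decide +kernel

theorem inv6_35 : rowScal [6, 7] 1 35 = true := by decide +kernel

theorem inv6_36 : rowScal [6, 7] 1 36 = true := by decide +kernel

theorem inv6_37 : rowScal [6, 7] 1 37 = true := by decide +kernel

theorem inv6_38 : rowScal [6, 7] 1 38 = true := by decide +kernel

theorem inv6_39 : rowScal [6, 7] 1 39 = true := by decide +kernel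

theorem inv6_40 : rowScal [6, 7] 1 40 = true := by decide +kernel

theorem inv6_41 : rowScal [6, 7] 1 41 = true := by decide +kernel

theorem inv6_42 : rowScal [6, 7] 1 42 = true := by decide +kernel

theorem inv6_43 : rowScal [6, 7] 1 43 = true := by decide +kernel

theorem inv6_44 : rowScal [6, 7] 1 44 = true := by decide +kernel

theorem inv6 : scalOk [6, 7] 1 = true := by
  refine scalOk_of _ _ fun i hi => ?_
  interval_cases i
  exacts [inv6_0, inv6_1, inv6_2, inv6_3, inv6_4, inv6_5, inv6_6, inv6_7, inv6_8, inv6_9, inv6_10, inv6_11, inv6_12, inv6_13, inv6_14, inv6_15, inv6_16, inv6_17, inv6_18, inv6_19, inv6_20, inv6_21, inv6_22, inv6_23, inv6_24, inv6_25, inv6_26, inv6_27, inv6_28, inv6_29, inv6_30, inv6_31, inv6_32, inv6_33, inv6_34, inv6_35, inv6_36, inv6_37, inv6_38, inv6_39, inv6_40, inv6_41, inv6_42, inv6_43, inv6_44]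

end Cfsg.Agent.ONFortyFiveCheck41
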