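import Cfsg.Agent.Lib.ONFortyFiveCheckCore41

/-! Kernel checks of relators for the matrices of degree 45 of the O'Nan group, a part. -/

set_option autoImplicit false
set_option maxRecDepth 100000
set_option Elab.async false

namespace Cfsg.Agent.ONFortyFiveCheck41

theorem extra1_0 : rowScal [0, 5, 3, 2, 3, 2, 3, 2, 3, 2] 1 0 = true := by decide +kernel

theorem extra1_1 : rowScal [0, 5, 3, 2, 3, 2, 3, 2, 3, 2] 1 1 = true := by decide +kernel

theorem extra1_2 : rowScal [0, 5, 3, 2, 3, 2, 3, 2, 3, 2] 1 2 = true := by decide +kernel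

theorem extra1_3 : rowScal [0, 5, 3, 2, 3, 2, 3, 2, 3, 2] 1 3 = true := by decide +kernel

theorem extra1_4 : rowScal [0, 5, 3, 2, 3, 2, 3, 2, 3, 2] 1 4 = true := by decide +kernel

theorem extra1_5 : rowScal [0, 5, 3, 2, 3, 2, 3, 2, 3, 2] 1 5 = true := by decide +kernel

theorem extra1_6 : rowScal [0, 5, 3, 2, 3, 2, 3, 2, 3, 2] 1 6 = true := by decide +kernel

theorem extra1_7 : rowScal [0, 5, 3, 2, 3, 2, 3, 2, 3, 2] 1 7 = true := by decide +kernel

theorem extra1_8 : rowScal [0, 5, 3, 2, 3, 2, 3, 2, 3, 2] 1 8 = true := by decide +kernel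

theorem extra1_9 : rowScal [0, 5, 3, 2, 3, 2, 3, 2, 3, 2] 1 9 = true := by decide +kernel

theorem extra1_10 : rowScal [0, 5, 3, 2, 3, 2, 3, 2, 3, 2] 1 10 = true := by decide +kernel

theorem extra1_11 : rowScal [0, 5, 3, 2, 3, 2, 3, 2, 3, 2] 1 11 = true := by decide +kernel

theorem extra1_12 : rowScal [0, 5, 3, 2, 3, 2, 3, 2, 3, 2] 1 12 = true := by decide +kernel

theorem extra1_13 : rowScal [0, 5, 3, 2, 3, 2, 3, 2, 3, 2] 1 13 = true := by decide +kernel

theorem extra1_14 : rowScal [0, 5, 3, 2, 3, 2, 3, 2, 3, 2] 1 14 = true := by decide +kernel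

theorem extra1_15 : rowScal [0, 5, 3, 2, 3, 2, 3, 2, 3, 2] 1 15 = true := by decide +kernel

theorem extra1_16 : rowScal [0, 5, 3, 2, 3, 2, 3, 2, 3, 2] 1 16 = true := by decide +kernel

theorem extra1_17 : rowScal [0, 5, 3, 2, 3, 2, 3, 2, 3, 2] 1 17 = true := by decide +kernel

theorem extra1_18 : rowScal [0, 5, 3, 2, 3, 2, 3, 2, 3, 2] 1 18 = true := by decide +kernel

theorem extra1_19 : rowScal [0, 5, 3, 2, 3, 2, 3, 2, 3, 2] 1 19 = true := by decide +kernel

theorem extra1_20 : rowScal [0, 5, 3, 2, 3, 2, 3, 2, 3, 2] 1 20 = true := by decide +kernel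

theorem extra1_21 : rowScal [0, 5, 3, 2, 3, 2, 3, 2, 3, 2] 1 21 = true := by decide +kernel

theorem extra1_22 : rowScal [0, 5, 3, 2, 3, 2, 3, 2, 3, 2] 1 22 = true := by decide +kernel

theorem extra1_23 : rowScal [0, 5, 3, 2, 3, 2, 3, 2, 3, 2] 1 23 = true := by decide +kernel

theorem extra1_24 : rowScal [0, 5, 3, 2, 3, 2, 3, 2, 3, 2] 1 24 = true := by decide +kernel

theorem extra1_25 : rowScal [0, 5, 3, 2, 3, 2, 3, 2, 3, 2] 1 25 = true := by decide +kernel

theorem extra1_26 : rowScal [0, 5, 3, 2, 3, 2, 3, 2, 3, 2] 1 26 = true := by decide +kernel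

theorem extra1_27 : rowScal [0, 5, 3, 2, 3, 2, 3, 2, 3, 2] 1 27 = true := by decide +kernel

theorem extra1_28 : rowScal [0, 5, 3, 2, 3, 2, 3, 2, 3, 2] 1 28 = true := by decide +kernel

theorem extra1_29 : rowScal [0, 5, 3, 2, 3, 2, 3, 2, 3, 2] 1 29 = true := by decide +kernel

theorem extra1_30 : rowScal [0, 5, 3, 2, 3, 2, 3, 2, 3, 2] 1 30 = true := by decide +kernel

theorem extra1_31 : rowScal [0, 5, 3, 2, 3, 2, 3, 2, 3, 2] 1 31 = true := by decide +kernel

theorem extra1_32 : rowScal [0, 5, 3, 2, 3, 2, 3, 2, 3, 2] 1 32 = true := by decide +kernel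

theorem extra1_33 : rowScal [0, 5, 3, 2, 3, 2, 3, 2, 3, 2] 1 33 = true := by decide +kernel

theorem extra1_34 : rowScal [0, 5, 3, 2, 3, 2, 3, 2, 3, 2] 1 34 = true := by decide +kernel

theorem extra1_35 : rowScal [0, 5, 3, 2, 3, 2, 3, 2, 3, 2] 1 35 = true := by decide +kernel

theorem extra1_36 : rowScal [0, 5, 3, 2, 3, 2, 3, 2, 3, 2] 1 36 = true := by decide +kernel

theorem extra1_37 : rowScal [0, 5, 3, 2, 3, 2, 3, 2, 3, 2] 1 37 = true := by decide +kernel

theorem extra1_38 : rowScal [0, 5, 3, 2, 3, 2, 3, 2, 3, 2] 1 38 = true := by decide +kernel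

theorem extra1_39 : rowScal [0, 5, 3, 2, 3, 2, 3, 2, 3, 2] 1 39 = true := by decide +kernel

theorem extra1_40 : rowScal [0, 5, 3, 2, 3, 2, 3, 2, 3, 2] 1 40 = true := by decide +kernel

theorem extra1_41 : rowScal [0, 5, 3, 2, 3, 2, 3, 2, 3, 2] 1 41 = true := by decide +kernel

theorem extra1_42 : rowScal [0, 5, 3, 2, 3, 2, 3, 2, 3, 2] 1 42 = true := by decide +kernel

theorem extra1_43 : rowScal [0, 5, 3, 2, 3, 2, 3, 2, 3, 2] 1 43 = true := by decide +kernel

theorem extra1_44 : rowScal [0, 5, 3, 2, 3, 2, 3, 2, 3, 2] 1 44 = true := by decide +kernel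

theorem extra1 : scalOk [0, 5, 3, 2, 3, 2, 3, 2, 3, 2] 1 = true := by
  refine scalOk_of _ _ fun i hi => ?_
  interval_cases i
  exacts [extra1_0, extra1_1, extra1_2, extra1_3, extra1_4, extra1_5, extra1_6, extra1_7, extra1_8, extra1_9, extra1_10, extra1_11, extra1_12, extra1_13, extra1_14, extra1_15, extra1_16, extra1_17, extra1_18, extra1_19, extra1_20, extra1_21, extra1_22, extra1_23, extra1_24, extra1_25, extra1_26, extra1_27, extra1_28, extra1_29, extra1_30, extra1_31, extra1_32, extra1_33, extra1_34, extra1_35, extra1_36, extra1_37, extra1_38, extra1_39, extra1_40, extra1_41, extra1_42, extra1_43, extra1_44]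

theorem extra3_0 : rowScal [3, 6, 2, 6, 2, 3, 2, 7, 2, 7] 1 0 = true := by decide +kernel

theorem extra3_1 : rowScal [3, 6, 2, 6, 2, 3, 2, 7, 2, 7] 1 1 = true := by decide +kernel

theorem extra3_2 : rowScal [3, 6, 2, 6, 2, 3, 2, 7, 2, 7] 1 2 = true := by decide +kernel

theorem extra3_3 : rowScal [3, 6, 2, 6, 2, 3, 2, 7, 2, 7] 1 3 = true := by decide +kernel

theorem extra3_4 : rowScal [3, 6, 2, 6, 2, 3, 2, 7, 2, 7] 1 4 = true := by decide +kernel

theorem extra3_5 : rowScal [3, 6, 2, 6, 2, 3, 2, 7, 2, 7] 1 5 = true := by decide +kernel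

theorem extra3_6 : rowScal [3, 6, 2, 6, 2, 3, 2, 7, 2, 7] 1 6 = true := by decide +kernel

theorem extra3_7 : rowScal [3, 6, 2, 6, 2, 3, 2, 7, 2, 7] 1 7 = true := by decide +kernel

theorem extra3_8 : rowScal [3, 6, 2, 6, 2, 3, 2, 7, 2, 7] 1 8 = true := by decide +kernel

theorem extra3_9 : rowScal [3, 6, 2, 6, 2, 3, 2, 7, 2, 7] 1 9 = true := by decide +kernel

theorem extra3_10 : rowScal [3, 6, 2, 6, 2, 3, 2, 7, 2, 7] 1 10 = true := by decide +kernel

theorem extra3_11 : rowScal [3, 6, 2, 6, 2, 3, 2, 7, 2, 7] 1 11 = true := by decide +kernel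

theorem extra3_12 : rowScal [3, 6, 2, 6, 2, 3, 2, 7, 2, 7] 1 12 = true := by decide +kernel

theorem extra3_13 : rowScal [3, 6, 2, 6, 2, 3, 2, 7, 2, 7] 1 13 = true := by decide +kernel

theorem extra3_14 : rowScal [3, 6, 2, 6, 2, 3, 2, 7, 2, 7] 1 14 = true := by decide +kernel

theorem extra3_15 : rowScal [3, 6, 2, 6, 2, 3, 2, 7, 2, 7] 1 15 = true := by decide +kernel

theorem extra3_16 : rowScal [3, 6, 2, 6, 2, 3, 2, 7, 2, 7] 1 16 = true := by decide +kernel

theorem extra3_17 : rowScal [3, 6, 2, 6, 2, 3, 2, 7, 2, 7] 1 17 = true := by decide +kernel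

theorem extra3_18 : rowScal [3, 6, 2, 6, 2, 3, 2, 7, 2, 7] 1 18 = true := by decide +kernel

theorem extra3_19 : rowScal [3, 6, 2, 6, 2, 3, 2, 7, 2, 7] 1 19 = true := by decide +kernel

theorem extra3_20 : rowScal [3, 6, 2, 6, 2, 3, 2, 7, 2, 7] 1 20 = true := by decide +kernel

theorem extra3_21 : rowScal [3, 6, 2, 6, 2, 3, 2, 7, 2, 7] 1 21 = true := by decide +kernel

theorem extra3_22 : rowScal [3, 6, 2, 6, 2, 3, 2, 7, 2, 7] 1 22 = true := by decide +kernel

theorem extra3_23 : rowScal [3, 6, 2, 6, 2, 3, 2, 7, 2, 7] 1 23 = true := by decide +kernel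

theorem extra3_24 : rowScal [3, 6, 2, 6, 2, 3, 2, 7, 2, 7] 1 24 = true := by decide +kernel

theorem extra3_25 : rowScal [3, 6, 2, 6, 2, 3, 2, 7, 2, 7] 1 25 = true := by decide +kernel

theorem extra3_26 : rowScal [3, 6, 2, 6, 2, 3, 2, 7, 2, 7] 1 26 = true := by decide +kernel

theorem extra3_27 : rowScal [3, 6, 2, 6, 2, 3, 2, 7, 2, 7] 1 27 = true := by decide +kernel

theorem extra3_28 : rowScal [3, 6, 2, 6, 2, 3, 2, 7, 2, 7] 1 28 = true := by decide +kernel

theorem extra3_29 : rowScal [3, 6, 2, 6, 2, 3, 2, 7, 2, 7] 1 29 = true := by decide +kernel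

theorem extra3_30 : rowScal [3, 6, 2, 6, 2, 3, 2, 7, 2, 7] 1 30 = true := by decide +kernel

theorem extra3_31 : rowScal [3, 6, 2, 6, 2, 3, 2, 7, 2, 7] 1 31 = true := by decide +kernel

theorem extra3_32 : rowScal [3, 6, 2, 6, 2, 3, 2, 7, 2, 7] 1 32 = true := by decide +kernel

theorem extra3_33 : rowScal [3, 6, 2, 6, 2, 3, 2, 7, 2, 7] 1 33 = true := by decide +kernel

theorem extra3_34 : rowScal [3, 6, 2, 6, 2, 3, 2, 7, 2, 7] 1 34 = true := by decide +kernel

theorem extra3_35 : rowScal [3, 6, 2, 6, 2, 3, 2, 7, 2, 7] 1 35 = true := by decide +kernel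

theorem extra3_36 : rowScal [3, 6, 2, 6, 2, 3, 2, 7, 2, 7] 1 36 = true := by decide +kernel

theorem extra3_37 : rowScal [3, 6, 2, 6, 2, 3, 2, 7, 2, 7] 1 37 = true := by decide +kernel

theorem extra3_38 : rowScal [3, 6, 2, 6, 2, 3, 2, 7, 2, 7] 1 38 = true := by decide +kernel

theorem extra3_39 : rowScal [3, 6, 2, 6, 2, 3, 2, 7, 2, 7] 1 39 = true := by decide +kernel

theorem extra3_40 : rowScal [3, 6, 2, 6, 2, 3, 2, 7, 2, 7] 1 40 = true := by decide +kernel

theorem extra3_41 : rowScal [3, 6, 2, 6, 2, 3, 2, 7, 2, 7] 1 41 = true := by decide +kernel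

theorem extra3_42 : rowScal [3, 6, 2, 6, 2, 3, 2, 7, 2, 7] 1 42 = true := by decide +kernel

theorem extra3_43 : rowScal [3, 6, 2, 6, 2, 3, 2, 7, 2, 7] 1 43 = true := by decide +kernel

theorem extra3_44 : rowScal [3, 6, 2, 6, 2, 3, 2, 7, 2, 7] 1 44 = true := by decide +kernel

theorem extra3 : scalOk [3, 6, 2, 6, 2, 3, 2, 7, 2, 7] 1 = true := by
  refine scalOk_of _ _ fun i hi => ?_
  interval_cases i
  exacts [extra3_0, extra3_1, extra3_2, extra3_3, extra3_4, extra3_5, extra3_6, extra3_7, extra3_8, extra3_9, extra3_10, extra3_11, extra3_12, extra3_13, extra3_14, extra3_15, extra3_16, extra3_17, extra3_18, extra3_19, extra3_20, extra3_21, extra3_22, extra3_23, extra3_24, extra3_25, extra3_26, extra3_27, extra3_28, extra3_29, extra3_30, extra3_31, extra3_32, extra3_33, extra3_34, extra3_35, extra3_36, extra3_37, extra3_38, extra3_39, extra3_40, extra3_41, extra3_42, extra3_43, extra3_44]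

theorem pair14_0 : rowScal [1, 4, 1, 4] 1 0 = true := by decide +kernel

theorem pair14_1 : rowScal [1, 4, 1, 4] 1 1 = true := by decide +kernel

theorem pair14_2 : rowScal [1, 4, 1, 4] 1 2 = true := by decide +kernel

theorem pair14_3 : rowScal [1, 4, 1, 4] 1 3 = true := by decide +kernel

theorem pair14_4 : rowScal [1, 4, 1, 4] 1 4 = true := by decide +kernel

theorem pair14_5 : rowScal [1, 4, 1, 4] 1 5 = true := by decide +kernel

theorem pair14_6 : rowScal [1, 4, 1, 4] 1 6 = true := by decide +kernel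

theorem pair14_7 : rowScal [1, 4, 1, 4] 1 7 = true := by decide +kernel

theorem pair14_8 : rowScal [1, 4, 1, 4] 1 8 = true := by decide +kernel

theorem pair14_9 : rowScal [1, 4, 1, 4] 1 9 = true := by decide +kernel

theorem pair14_10 : rowScal [1, 4, 1, 4] 1 10 = true := by decide +kernel

theorem pair14_11 : rowScal [1, 4, 1, 4] 1 11 = true := by decide +kernel

theorem pair14_12 : rowScal [1, 4, 1, 4] 1 12 = true := by decide +kernel

theorem pair14_13 : rowScal [1, 4, 1, 4] 1 13 = true := by decide +kernel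

theorem pair14_14 : rowScal [1, 4, 1, 4] 1 14 = true := by decide +kernel

theorem pair14_15 : rowScal [1, 4, 1, 4] 1 15 = true := by decide +kernel

theorem pair14_16 : rowScal [1, 4, 1, 4] 1 16 = true := by decide +kernel

theorem pair14_17 : rowScal [1, 4, 1, 4] 1 17 = true := by decide +kernel

theorem pair14_18 : rowScal [1, 4, 1, 4] 1 18 = true := by decide +kernel

theorem pair14_19 : rowScal [1, 4, 1, 4] 1 19 = true := by decide +kernel

theorem pair14_20 : rowScal [1, 4, 1, 4] 1 20 = true := by decide +kernel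

theorem pair14_21 : rowScal [1, 4, 1, 4] 1 21 = true := by decide +kernel

theorem pair14_22 : rowScal [1, 4, 1, 4] 1 22 = true := by decide +kernel

theorem pair14_23 : rowScal [1, 4, 1, 4] 1 23 = true := by decide +kernel

theorem pair14_24 : rowScal [1, 4, 1, 4] 1 24 = true := by decide +kernel

theorem pair14_25 : rowScal [1, 4, 1, 4] 1 25 = true := by decide +kernel

theorem pair14_26 : rowScal [1, 4, 1, 4] 1 26 = true := by decide +kernel

theorem pair14_27 : rowScal [1, 4, 1, 4] 1 27 = true := by decide +kernel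

theorem pair14_28 : rowScal [1, 4, 1, 4] 1 28 = true := by decide +kernel

theorem pair14_29 : rowScal [1, 4, 1, 4] 1 29 = true := by decide +kernel

theorem pair14_30 : rowScal [1, 4, 1, 4] 1 30 = true := by decide +kernel

theorem pair14_31 : rowScal [1, 4, 1, 4] 1 31 = true := by decide +kernel

theorem pair14_32 : rowScal [1, 4, 1, 4] 1 32 = true := by decide +kernel

theorem pair14_33 : rowScal [1, 4, 1, 4] 1 33 = true := by decide +kernel

theorem pair14_34 : rowScal [1, 4, 1, 4] 1 34 = true := by decide +kernel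

theorem pair14_35 : rowScal [1, 4, 1, 4] 1 35 = true := by decide +kernel

theorem pair14_36 : rowScal [1, 4, 1, 4] 1 36 = true := by decide +kernel

theorem pair14_37 : rowScal [1, 4, 1, 4] 1 37 = true := by decide +kernel

theorem pair14_38 : rowScal [1, 4, 1, 4] 1 38 = true := by decide +kernel

theorem pair14_39 : rowScal [1, 4, 1, 4] 1 39 = true := by decide +kernel

theorem pair14_40 : rowScal [1, 4, 1, 4] 1 40 = true := by decide +kernel

theorem pair14_41 : rowScal [1, 4, 1, 4] 1 41 = true := by decide +kernel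

theorem pair14_42 : rowScal [1, 4, 1, 4] 1 42 = true := by decide +kernel

theorem pair14_43 : rowScal [1, 4, 1, 4] 1 43 = true := by decide +kernel

theorem pair14_44 : rowScal [1, 4, 1, 4] 1 44 = true := by decide +kernel

theorem pair14 : scalOk [1, 4, 1, 4] 1 = true := by
  refine scalOk_of _ _ fun i hi => ?_
  interval_cases i
  exacts [pair14_0, pair14_1, pair14_2, pair14_3, pair14_4, pair14_5, pair14_6, pair14_7, pair14_8, pair14_9, pair14_10, pair14_11, pair14_12, pair14_13, pair14_14, pair14_15, pair14_16, pair14_17, pair14_18, pair14_19, pair14_20, pair14_21, pair14_22, pair14_23, pair14_24, pair14_25, pair14_26, pair14_27, pair14_28, pair14_29, pair14_30, pair14_31, pair14_32, pair14_33, pair14_34, pair14_35, pair14_36, pair14_37, pair14_38, pair14_39, pair14_40, pair14_41, pair14_42, pair14_43, pair14_44]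

theorem extra0_0 : rowScal [0, 5, 6, 6] 1 0 = true := by decide +kernel

theorem extra0_1 : rowScal [0, 5, 6, 6] 1 1 = true := by decide +kernel

theorem extra0_2 : rowScal [0, 5, 6, 6] 1 2 = true := by decide +kernel

theorem extra0_3 : rowScal [0, 5, 6, 6] 1 3 = true := by decide +kernel

theorem extra0_4 : rowScal [0, 5, 6, 6] 1 4 = true := by decide +kernel

theorem extra0_5 : rowScal [0, 5, 6, 6] 1 5 = true := by decide +kernel

theorem extra0_6 : rowScal [0, 5, 6, 6] 1 6 = true := by decide +kernel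

theorem extra0_7 : rowScal [0, 5, 6, 6] 1 7 = true := by decide +kernel

theorem extra0_8 : rowScal [0, 5, 6, 6] 1 8 = true := by decide +kernel

theorem extra0_9 : rowScal [0, 5, 6, 6] 1 9 = true := by decide +kernel

theorem extra0_10 : rowScal [0, 5, 6, 6] 1 10 = true := by decide +kernel

theorem extra0_11 : rowScal [0, 5, 6, 6] 1 11 = true := by decide +kernel

theorem extra0_12 : rowScal [0, 5, 6, 6] 1 12 = true := by decide +kernel

theorem extra0_13 : rowScal [0, 5, 6, 6] 1 13 = true := by decide +kernel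

theorem extra0_14 : rowScal [0, 5, 6, 6] 1 14 = true := by decide +kernel

theorem extra0_15 : rowScal [0, 5, 6, 6] 1 15 = true := by decide +kernel

theorem extra0_16 : rowScal [0, 5, 6, 6] 1 16 = true := by decide +kernel

theorem extra0_17 : rowScal [0, 5, 6, 6] 1 17 = true := by decide +kernel

theorem extra0_18 : rowScal [0, 5, 6, 6] 1 18 = true := by decide +kernel

theorem extra0_19 : rowScal [0, 5, 6, 6] 1 19 = true := by decide +kernel

theorem extra0_20 : rowScal [0, 5, 6, 6] 1 20 = true := by decide +kernel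

theorem extra0_21 : rowScal [0, 5, 6, 6] 1 21 = true := by decide +kernel

theorem extra0_22 : rowScal [0, 5, 6, 6] 1 22 = true := by decide +kernel

theorem extra0_23 : rowScal [0, 5, 6, 6] 1 23 = true := by decide +kernel

theorem extra0_24 : rowScal [0, 5, 6, 6] 1 24 = true := by decide +kernel

theorem extra0_25 : rowScal [0, 5, 6, 6] 1 25 = true := by decide +kernel

theorem extra0_26 : rowScal [0, 5, 6, 6] 1 26 = true := by decide +kernel

theorem extra0_27 : rowScal [0, 5, 6, 6] 1 27 = true := by decide +kernel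

theorem extra0_28 : rowScal [0, 5, 6, 6] 1 28 = true := by decide +kernel

theorem extra0_29 : rowScal [0, 5, 6, 6] 1 29 = true := by decide +kernel

theorem extra0_30 : rowScal [0, 5, 6, 6] 1 30 = true := by decide +kernel

theorem extra0_31 : rowScal [0, 5, 6, 6] 1 31 = true := by decide +kernel

theorem extra0_32 : rowScal [0, 5, 6, 6] 1 32 = true := by decide +kernel

theorem extra0_33 : rowScal [0, 5, 6, 6] 1 33 = true := by decide +kernel

theorem extra0_34 : rowScal [0, 5, 6, 6] 1 34 = true := by decide +kernel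

theorem extra0_35 : rowScal [0, 5, 6, 6] 1 35 = true := by decide +kernel

theorem extra0_36 : rowScal [0, 5, 6, 6] 1 36 = true := by decide +kernel

theorem extra0_37 : rowScal [0, 5, 6, 6] 1 37 = true := by decide +kernel

theorem extra0_38 : rowScal [0, 5, 6, 6] 1 38 = true := by decide +kernel

theorem extra0_39 : rowScal [0, 5, 6, 6] 1 39 = true := by decide +kernel

theorem extra0_40 : rowScal [0, 5, 6, 6] 1 40 = true := by decide +kernel

theorem extra0_41 : rowScal [0, 5, 6, 6] 1 41 = true := by decide +kernel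

theorem extra0_42 : rowScal [0, 5, 6, 6] 1 42 = true := by decide +kernel

theorem extra0_43 : rowScal [0, 5, 6, 6] 1 43 = true := by decide +kernel

theorem extra0_44 : rowScal [0, 5, 6, 6] 1 44 = true := by decide +kernel

theorem extra0 : scalOk [0, 5, 6, 6] 1 = true := by
  refine scalOk_of _ _ fun i hi => ?_
  interval_cases i
  exacts [extra0_0, extra0_1, extra0_2, extra0_3, extra0_4, extra0_5, extra0_6, extra0_7, extra0_8, extra0_9, extra0_10, extra0_11, extra0_12, extra0_13, extra0_14, extra0_15, extra0_16, extra0_17, extra0_18, extra0_19, extra0_20, extra0_21, extra0_22, extra0_23, extra0_24, extra0_25, extra0_26, extra0_27, extra0_28, extra0_29, extra0_30, extra0_31, extra0_32, extra0_33, extra0_34, extra0_35, extra0_36, extra0_37, extra0_38, extra0_39, extra0_40, extra0_41, extra0_42, extra0_43, extra0_44]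

end Cfsg.Agent.ONFortyFiveCheck41
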