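import Cfsg.Agent.Lib.ONFortyFiveCheckCore41

/-! Kernel checks of relators for the matrices of degree 45 of the O'Nan group, a part. -/

set_option autoImplicit false
set_option maxRecDepth 100000
set_option Elab.async false

namespace Cfsg.Agent.ONFortyFiveCheck41

theorem extra2_0 : rowScal [2, 6, 3, 6, 3, 2, 3, 7, 3, 7] 1 0 = true := by decide +kernel

theorem extra2_1 : rowScal [2, 6, 3, 6, 3, 2, 3, 7, 3, 7] 1 1 = true := by decide +kernel

theorem extra2_2 : rowScal [2, 6, 3, 6, 3, 2, 3, 7, 3, 7] 1 2 = true := by decide +kernel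

theorem extra2_3 : rowScal [2, 6, 3, 6, 3, 2, 3, 7, 3, 7] 1 3 = true := by decide +kernel

theorem extra2_4 : rowScal [2, 6, 3, 6, 3, 2, 3, 7, 3, 7] 1 4 = true := by decide +kernel

theorem extra2_5 : rowScal [2, 6, 3, 6, 3, 2, 3, 7, 3, 7] 1 5 = true := by decide +kernel

theorem extra2_6 : rowScal [2, 6, 3, 6, 3, 2, 3, 7, 3, 7] 1 6 = true := by decide +kernel

theorem extra2_7 : rowScal [2, 6, 3, 6, 3, 2, 3, 7, 3, 7] 1 7 = true := by decide +kernel

theorem extra2_8 : rowScal [2, 6, 3, 6, 3, 2, 3, 7, 3, 7] 1 8 = true := by decide +kernel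

theorem extra2_9 : rowScal [2, 6, 3, 6, 3, 2, 3, 7, 3, 7] 1 9 = true := by decide +kernel

theorem extra2_10 : rowScal [2, 6, 3, 6, 3, 2, 3, 7, 3, 7] 1 10 = true := by decide +kernel

theorem extra2_11 : rowScal [2, 6, 3, 6, 3, 2, 3, 7, 3, 7] 1 11 = true := by decide +kernel

theorem extra2_12 : rowScal [2, 6, 3, 6, 3, 2, 3, 7, 3, 7] 1 12 = true := by decide +kernel

theorem extra2_13 : rowScal [2, 6, 3, 6, 3, 2, 3, 7, 3, 7] 1 13 = true := by decide +kernel

theorem extra2_14 : rowScal [2, 6, 3, 6, 3, 2, 3, 7, 3, 7] 1 14 = true := by decide +kernel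

theorem extra2_15 : rowScal [2, 6, 3, 6, 3, 2, 3, 7, 3, 7] 1 15 = true := by decide +kernel

theorem extra2_16 : rowScal [2, 6, 3, 6, 3, 2, 3, 7, 3, 7] 1 16 = true := by decide +kernel

theorem extra2_17 : rowScal [2, 6, 3, 6, 3, 2, 3, 7, 3, 7] 1 17 = true := by decide +kernel

theorem extra2_18 : rowScal [2, 6, 3, 6, 3, 2, 3, 7, 3, 7] 1 18 = true := by decide +kernel

theorem extra2_19 : rowScal [2, 6, 3, 6, 3, 2, 3, 7, 3, 7] 1 19 = true := by decide +kernel

theorem extra2_20 : rowScal [2, 6, 3, 6, 3, 2, 3, 7, 3, 7] 1 20 = true := by decide +kernel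

theorem extra2_21 : rowScal [2, 6, 3, 6, 3, 2, 3, 7, 3, 7] 1 21 = true := by decide +kernel

theorem extra2_22 : rowScal [2, 6, 3, 6, 3, 2, 3, 7, 3, 7] 1 22 = true := by decide +kernel

theorem extra2_23 : rowScal [2, 6, 3, 6, 3, 2, 3, 7, 3, 7] 1 23 = true := by decide +kernel

theorem extra2_24 : rowScal [2, 6, 3, 6, 3, 2, 3, 7, 3, 7] 1 24 = true := by decide +kernel

theorem extra2_25 : rowScal [2, 6, 3, 6, 3, 2, 3, 7, 3, 7] 1 25 = true := by decide +kernel

theorem extra2_26 : rowScal [2, 6, 3, 6, 3, 2, 3, 7, 3, 7] 1 26 = true := by decide +kernel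

theorem extra2_27 : rowScal [2, 6, 3, 6, 3, 2, 3, 7, 3, 7] 1 27 = true := by decide +kernel

theorem extra2_28 : rowScal [2, 6, 3, 6, 3, 2, 3, 7, 3, 7] 1 28 = true := by decide +kernel

theorem extra2_29 : rowScal [2, 6, 3, 6, 3, 2, 3, 7, 3, 7] 1 29 = true := by decide +kernel

theorem extra2_30 : rowScal [2, 6, 3, 6, 3, 2, 3, 7, 3, 7] 1 30 = true := by decide +kernel

theorem extra2_31 : rowScal [2, 6, 3, 6, 3, 2, 3, 7, 3, 7] 1 31 = true := by decide +kernel

theorem extra2_32 : rowScal [2, 6, 3, 6, 3, 2, 3, 7, 3, 7] 1 32 = true := by decide +kernel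

theorem extra2_33 : rowScal [2, 6, 3, 6, 3, 2, 3, 7, 3, 7] 1 33 = true := by decide +kernel

theorem extra2_34 : rowScal [2, 6, 3, 6, 3, 2, 3, 7, 3, 7] 1 34 = true := by decide +kernel

theorem extra2_35 : rowScal [2, 6, 3, 6, 3, 2, 3, 7, 3, 7] 1 35 = true := by decide +kernel

theorem extra2_36 : rowScal [2, 6, 3, 6, 3, 2, 3, 7, 3, 7] 1 36 = true := by decide +kernel

theorem extra2_37 : rowScal [2, 6, 3, 6, 3, 2, 3, 7, 3, 7] 1 37 = true := by decide +kernel

theorem extra2_38 : rowScal [2, 6, 3, 6, 3, 2, 3, 7, 3, 7] 1 38 = true := by decide +kernel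

theorem extra2_39 : rowScal [2, 6, 3, 6, 3, 2, 3, 7, 3, 7] 1 39 = true := by decide +kernel

theorem extra2_40 : rowScal [2, 6, 3, 6, 3, 2, 3, 7, 3, 7] 1 40 = true := by decide +kernel

theorem extra2_41 : rowScal [2, 6, 3, 6, 3, 2, 3, 7, 3, 7] 1 41 = true := by decide +kernel

theorem extra2_42 : rowScal [2, 6, 3, 6, 3, 2, 3, 7, 3, 7] 1 42 = true := by decide +kernel

theorem extra2_43 : rowScal [2, 6, 3, 6, 3, 2, 3, 7, 3, 7] 1 43 = true := by decide +kernel

theorem extra2_44 : rowScal [2, 6, 3, 6, 3, 2, 3, 7, 3, 7] 1 44 = true := by decide +kernel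

theorem extra2 : scalOk [2, 6, 3, 6, 3, 2, 3, 7, 3, 7] 1 = true := by
  refine scalOk_of _ _ fun i hi => ?_
  interval_cases i
  exacts [extra2_0, extra2_1, extra2_2, extra2_3, extra2_4, extra2_5, extra2_6, extra2_7, extra2_8, extra2_9, extra2_10, extra2_11, extra2_12, extra2_13, extra2_14, extra2_15, extra2_16, extra2_17, extra2_18, extra2_19, extra2_20, extra2_21, extra2_22, extra2_23, extra2_24, extra2_25, extra2_26, extra2_27, extra2_28, extra2_29, extra2_30, extra2_31, extra2_32, extra2_33, extra2_34, extra2_35, extra2_36, extra2_37, extra2_38, extra2_39, extra2_40, extra2_41, extra2_42, extra2_43, extra2_44]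

theorem pair01_0 : rowScal [0, 1, 0, 1, 0, 1] 1 0 = true := by decide +kernel

theorem pair01_1 : rowScal [0, 1, 0, 1, 0, 1] 1 1 = true := by decide +kernel

theorem pair01_2 : rowScal [0, 1, 0, 1, 0, 1] 1 2 = true := by decide +kernel

theorem pair01_3 : rowScal [0, 1, 0, 1, 0, 1] 1 3 = true := by decide +kernel

theorem pair01_4 : rowScal [0, 1, 0, 1, 0, 1] 1 4 = true := by decide +kernel

theorem pair01_5 : rowScal [0, 1, 0, 1, 0, 1] 1 5 = true := by decide +kernel

theorem pair01_6 : rowScal [0, 1, 0, 1, 0, 1] 1 6 = true := by decide +kernel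

theorem pair01_7 : rowScal [0, 1, 0, 1, 0, 1] 1 7 = true := by decide +kernel

theorem pair01_8 : rowScal [0, 1, 0, 1, 0, 1] 1 8 = true := by decide +kernel

theorem pair01_9 : rowScal [0, 1, 0, 1, 0, 1] 1 9 = true := by decide +kernel

theorem pair01_10 : rowScal [0, 1, 0, 1, 0, 1] 1 10 = true := by decide +kernel

theorem pair01_11 : rowScal [0, 1, 0, 1, 0, 1] 1 11 = true := by decide +kernel

theorem pair01_12 : rowScal [0, 1, 0, 1, 0, 1] 1 12 = true := by decide +kernel

theorem pair01_13 : rowScal [0, 1, 0, 1, 0, 1] 1 13 = true := by decide +kernel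

theorem pair01_14 : rowScal [0, 1, 0, 1, 0, 1] 1 14 = true := by decide +kernel

theorem pair01_15 : rowScal [0, 1, 0, 1, 0, 1] 1 15 = true := by decide +kernel

theorem pair01_16 : rowScal [0, 1, 0, 1, 0, 1] 1 16 = true := by decide +kernel

theorem pair01_17 : rowScal [0, 1, 0, 1, 0, 1] 1 17 = true := by decide +kernel

theorem pair01_18 : rowScal [0, 1, 0, 1, 0, 1] 1 18 = true := by decide +kernel

theorem pair01_19 : rowScal [0, 1, 0, 1, 0, 1] 1 19 = true := by decide +kernel

theorem pair01_20 : rowScal [0, 1, 0, 1, 0, 1] 1 20 = true := by decide +kernel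

theorem pair01_21 : rowScal [0, 1, 0, 1, 0, 1] 1 21 = true := by decide +kernel

theorem pair01_22 : rowScal [0, 1, 0, 1, 0, 1] 1 22 = true := by decide +kernel

theorem pair01_23 : rowScal [0, 1, 0, 1, 0, 1] 1 23 = true := by decide +kernel

theorem pair01_24 : rowScal [0, 1, 0, 1, 0, 1] 1 24 = true := by decide +kernel

theorem pair01_25 : rowScal [0, 1, 0, 1, 0, 1] 1 25 = true := by decide +kernel

theorem pair01_26 : rowScal [0, 1, 0, 1, 0, 1] 1 26 = true := by decide +kernel

theorem pair01_27 : rowScal [0, 1, 0, 1, 0, 1] 1 27 = true := by decide +kernel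

theorem pair01_28 : rowScal [0, 1, 0, 1, 0, 1] 1 28 = true := by decide +kernel

theorem pair01_29 : rowScal [0, 1, 0, 1, 0, 1] 1 29 = true := by decide +kernel

theorem pair01_30 : rowScal [0, 1, 0, 1, 0, 1] 1 30 = true := by decide +kernel

theorem pair01_31 : rowScal [0, 1, 0, 1, 0, 1] 1 31 = true := by decide +kernel

theorem pair01_32 : rowScal [0, 1, 0, 1, 0, 1] 1 32 = true := by decide +kernel

theorem pair01_33 : rowScal [0, 1, 0, 1, 0, 1] 1 33 = true := by decide +kernel

theorem pair01_34 : rowScal [0, 1, 0, 1, 0, 1] 1 34 = true := by decide +kernel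

theorem pair01_35 : rowScal [0, 1, 0, 1, 0, 1] 1 35 = true := by decide +kernel

theorem pair01_36 : rowScal [0, 1, 0, 1, 0, 1] 1 36 = true := by decide +kernel

theorem pair01_37 : rowScal [0, 1, 0, 1, 0, 1] 1 37 = true := by decide +kernel

theorem pair01_38 : rowScal [0, 1, 0, 1, 0, 1] 1 38 = true := by decide +kernel

theorem pair01_39 : rowScal [0, 1, 0, 1, 0, 1] 1 39 = true := by decide +kernel

theorem pair01_40 : rowScal [0, 1, 0, 1, 0, 1] 1 40 = true := by decide +kernel

theorem pair01_41 : rowScal [0, 1, 0, 1, 0, 1] 1 41 = true := by decide +kernel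

theorem pair01_42 : rowScal [0, 1, 0, 1, 0, 1] 1 42 = true := by decide +kernel

theorem pair01_43 : rowScal [0, 1, 0, 1, 0, 1] 1 43 = true := by decide +kernel

theorem pair01_44 : rowScal [0, 1, 0, 1, 0, 1] 1 44 = true := by decide +kernel

theorem pair01 : scalOk [0, 1, 0, 1, 0, 1] 1 = true := by
  refine scalOk_of _ _ fun i hi => ?_
  interval_cases i
  exacts [pair01_0, pair01_1, pair01_2, pair01_3, pair01_4, pair01_5, pair01_6, pair01_7, pair01_8, pair01_9, pair01_10, pair01_11, pair01_12, pair01_13, pair01_14, pair01_15, pair01_16, pair01_17, pair01_18, pair01_19, pair01_20, pair01_21, pair01_22, pair01_23, pair01_24, pair01_25, pair01_26, pair01_27, pair01_28, pair01_29, pair01_30, pair01_31, pair01_32, pair01_33, pair01_34, pair01_35, pair01_36, pair01_37, pair01_38, pair01_39, pair01_40, pair01_41, pair01_42, pair01_43, pair01_44]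

theorem pair02_0 : rowScal [0, 2, 0, 2] 1 0 = true := by decide +kernel

theorem pair02_1 : rowScal [0, 2, 0, 2] 1 1 = true := by decide +kernel

theorem pair02_2 : rowScal [0, 2, 0, 2] 1 2 = true := by decide +kernel

theorem pair02_3 : rowScal [0, 2, 0, 2] 1 3 = true := by decide +kernel

theorem pair02_4 : rowScal [0, 2, 0, 2] 1 4 = true := by decide +kernel

theorem pair02_5 : rowScal [0, 2, 0, 2] 1 5 = true := by decide +kernel

theorem pair02_6 : rowScal [0, 2, 0, 2] 1 6 = true := by decide +kernel

theorem pair02_7 : rowScal [0, 2, 0, 2] 1 7 = true := by decide +kernel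

theorem pair02_8 : rowScal [0, 2, 0, 2] 1 8 = true := by decide +kernel

theorem pair02_9 : rowScal [0, 2, 0, 2] 1 9 = true := by decide +kernel

theorem pair02_10 : rowScal [0, 2, 0, 2] 1 10 = true := by decide +kernel

theorem pair02_11 : rowScal [0, 2, 0, 2] 1 11 = true := by decide +kernel

theorem pair02_12 : rowScal [0, 2, 0, 2] 1 12 = true := by decide +kernel

theorem pair02_13 : rowScal [0, 2, 0, 2] 1 13 = true := by decide +kernel

theorem pair02_14 : rowScal [0, 2, 0, 2] 1 14 = true := by decide +kernel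

theorem pair02_15 : rowScal [0, 2, 0, 2] 1 15 = true := by decide +kernel

theorem pair02_16 : rowScal [0, 2, 0, 2] 1 16 = true := by decide +kernel

theorem pair02_17 : rowScal [0, 2, 0, 2] 1 17 = true := by decide +kernel

theorem pair02_18 : rowScal [0, 2, 0, 2] 1 18 = true := by decide +kernel

theorem pair02_19 : rowScal [0, 2, 0, 2] 1 19 = true := by decide +kernel

theorem pair02_20 : rowScal [0, 2, 0, 2] 1 20 = true := by decide +kernel

theorem pair02_21 : rowScal [0, 2, 0, 2] 1 21 = true := by decide +kernel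

theorem pair02_22 : rowScal [0, 2, 0, 2] 1 22 = true := by decide +kernel

theorem pair02_23 : rowScal [0, 2, 0, 2] 1 23 = true := by decide +kernel

theorem pair02_24 : rowScal [0, 2, 0, 2] 1 24 = true := by decide +kernel

theorem pair02_25 : rowScal [0, 2, 0, 2] 1 25 = true := by decide +kernel

theorem pair02_26 : rowScal [0, 2, 0, 2] 1 26 = true := by decide +kernel

theorem pair02_27 : rowScal [0, 2, 0, 2] 1 27 = true := by decide +kernel

theorem pair02_28 : rowScal [0, 2, 0, 2] 1 28 = true := by decide +kernel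

theorem pair02_29 : rowScal [0, 2, 0, 2] 1 29 = true := by decide +kernel

theorem pair02_30 : rowScal [0, 2, 0, 2] 1 30 = true := by decide +kernel

theorem pair02_31 : rowScal [0, 2, 0, 2] 1 31 = true := by decide +kernel

theorem pair02_32 : rowScal [0, 2, 0, 2] 1 32 = true := by decide +kernel

theorem pair02_33 : rowScal [0, 2, 0, 2] 1 33 = true := by decide +kernel

theorem pair02_34 : rowScal [0, 2, 0, 2] 1 34 = true := by decide +kernel

theorem pair02_35 : rowScal [0, 2, 0, 2] 1 35 = true := by decide +kernel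

theorem pair02_36 : rowScal [0, 2, 0, 2] 1 36 = true := by decide +kernel

theorem pair02_37 : rowScal [0, 2, 0, 2] 1 37 = true := by decide +kernel

theorem pair02_38 : rowScal [0, 2, 0, 2] 1 38 = true := by decide +kernel

theorem pair02_39 : rowScal [0, 2, 0, 2] 1 39 = true := by decide +kernel

theorem pair02_40 : rowScal [0, 2, 0, 2] 1 40 = true := by decide +kernel

theorem pair02_41 : rowScal [0, 2, 0, 2] 1 41 = true := by decide +kernel

theorem pair02_42 : rowScal [0, 2, 0, 2] 1 42 = true := by decide +kernel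

theorem pair02_43 : rowScal [0, 2, 0, 2] 1 43 = true := by decide +kernel

theorem pair02_44 : rowScal [0, 2, 0, 2] 1 44 = true := by decide +kernel

theorem pair02 : scalOk [0, 2, 0, 2] 1 = true := by
  refine scalOk_of _ _ fun i hi => ?_
  interval_cases i
  exacts [pair02_0, pair02_1, pair02_2, pair02_3, pair02_4, pair02_5, pair02_6, pair02_7, pair02_8, pair02_9, pair02_10, pair02_11, pair02_12, pair02_13, pair02_14, pair02_15, pair02_16, pair02_17, pair02_18, pair02_19, pair02_20, pair02_21, pair02_22, pair02_23, pair02_24, pair02_25, pair02_26, pair02_27, pair02_28, pair02_29, pair02_30, pair02_31, pair02_32, pair02_33, pair02_34, pair02_35, pair02_36, pair02_37, pair02_38, pair02_39, pair02_40, pair02_41, pair02_42, pair02_43, pair02_44]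

theorem pair24_0 : rowScal [2, 4, 2, 4] 1 0 = true := by decide +kernel

theorem pair24_1 : rowScal [2, 4, 2, 4] 1 1 = true := by decide +kernel

theorem pair24_2 : rowScal [2, 4, 2, 4] 1 2 = true := by decide +kernel

theorem pair24_3 : rowScal [2, 4, 2, 4] 1 3 = true := by decide +kernel

theorem pair24_4 : rowScal [2, 4, 2, 4] 1 4 = true := by decide +kernel

theorem pair24_5 : rowScal [2, 4, 2, 4] 1 5 = true := by decide +kernel

theorem pair24_6 : rowScal [2, 4, 2, 4] 1 6 = true := by decide +kernel

theorem pair24_7 : rowScal [2, 4, 2, 4] 1 7 = true := by decide +kernel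

theorem pair24_8 : rowScal [2, 4, 2, 4] 1 8 = true := by decide +kernel

theorem pair24_9 : rowScal [2, 4, 2, 4] 1 9 = true := by decide +kernel

theorem pair24_10 : rowScal [2, 4, 2, 4] 1 10 = true := by decide +kernel

theorem pair24_11 : rowScal [2, 4, 2, 4] 1 11 = true := by decide +kernel

theorem pair24_12 : rowScal [2, 4, 2, 4] 1 12 = true := by decide +kernel

theorem pair24_13 : rowScal [2, 4, 2, 4] 1 13 = true := by decide +kernel

theorem pair24_14 : rowScal [2, 4, 2, 4] 1 14 = true := by decide +kernel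

theorem pair24_15 : rowScal [2, 4, 2, 4] 1 15 = true := by decide +kernel

theorem pair24_16 : rowScal [2, 4, 2, 4] 1 16 = true := by decide +kernel

theorem pair24_17 : rowScal [2, 4, 2, 4] 1 17 = true := by decide +kernel

theorem pair24_18 : rowScal [2, 4, 2, 4] 1 18 = true := by decide +kernel

theorem pair24_19 : rowScal [2, 4, 2, 4] 1 19 = true := by decide +kernel

theorem pair24_20 : rowScal [2, 4, 2, 4] 1 20 = true := by decide +kernel

theorem pair24_21 : rowScal [2, 4, 2, 4] 1 21 = true := by decide +kernel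

theorem pair24_22 : rowScal [2, 4, 2, 4] 1 22 = true := by decide +kernel

theorem pair24_23 : rowScal [2, 4, 2, 4] 1 23 = true := by decide +kernel

theorem pair24_24 : rowScal [2, 4, 2, 4] 1 24 = true := by decide +kernel

theorem pair24_25 : rowScal [2, 4, 2, 4] 1 25 = true := by decide +kernel

theorem pair24_26 : rowScal [2, 4, 2, 4] 1 26 = true := by decide +kernel

theorem pair24_27 : rowScal [2, 4, 2, 4] 1 27 = true := by decide +kernel

theorem pair24_28 : rowScal [2, 4, 2, 4] 1 28 = true := by decide +kernel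

theorem pair24_29 : rowScal [2, 4, 2, 4] 1 29 = true := by decide +kernel

theorem pair24_30 : rowScal [2, 4, 2, 4] 1 30 = true := by decide +kernel

theorem pair24_31 : rowScal [2, 4, 2, 4] 1 31 = true := by decide +kernel

theorem pair24_32 : rowScal [2, 4, 2, 4] 1 32 = true := by decide +kernel

theorem pair24_33 : rowScal [2, 4, 2, 4] 1 33 = true := by decide +kernel

theorem pair24_34 : rowScal [2, 4, 2, 4] 1 34 = true := by decide +kernel

theorem pair24_35 : rowScal [2, 4, 2, 4] 1 35 = true := by decide +kernel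

theorem pair24_36 : rowScal [2, 4, 2, 4] 1 36 = true := by decide +kernel

theorem pair24_37 : rowScal [2, 4, 2, 4] 1 37 = true := by decide +kernel

theorem pair24_38 : rowScal [2, 4, 2, 4] 1 38 = true := by decide +kernel

theorem pair24_39 : rowScal [2, 4, 2, 4] 1 39 = true := by decide +kernel

theorem pair24_40 : rowScal [2, 4, 2, 4] 1 40 = true := by decide +kernel

theorem pair24_41 : rowScal [2, 4, 2, 4] 1 41 = true := by decide +kernel

theorem pair24_42 : rowScal [2, 4, 2, 4] 1 42 = true := by decide +kernel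

theorem pair24_43 : rowScal [2, 4, 2, 4] 1 43 = true := by decide +kernel

theorem pair24_44 : rowScal [2, 4, 2, 4] 1 44 = true := by decide +kernel

theorem pair24 : scalOk [2, 4, 2, 4] 1 = true := by
  refine scalOk_of _ _ fun i hi => ?_
  interval_cases i
  exacts [pair24_0, pair24_1, pair24_2, pair24_3, pair24_4, pair24_5, pair24_6, pair24_7, pair24_8, pair24_9, pair24_10, pair24_11, pair24_12, pair24_13, pair24_14, pair24_15, pair24_16, pair24_17, pair24_18, pair24_19, pair24_20, pair24_21, pair24_22, pair24_23, pair24_24, pair24_25, pair24_26, pair24_27, pair24_28, pair24_29, pair24_30, pair24_31, pair24_32, pair24_33, pair24_34, pair24_35, pair24_36, pair24_37, pair24_38, pair24_39, pair24_40, pair24_41, pair24_42, pair24_43, pair24_44]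

theorem inv0_0 : rowScal [0, 0] 1 0 = true := by decide +kernel

theorem inv0_1 : rowScal [0, 0] 1 1 = true := by decide +kernel

theorem inv0_2 : rowScal [0, 0] 1 2 = true := by decide +kernel

theorem inv0_3 : rowScal [0, 0] 1 3 = true := by decide +kernel

theorem inv0_4 : rowScal [0, 0] 1 4 = true := by decide +kernel

theorem inv0_5 : rowScal [0, 0] 1 5 = true := by decide +kernel

theorem inv0_6 : rowScal [0, 0] 1 6 = true := by decide +kernel

theorem inv0_7 : rowScal [0, 0] 1 7 = true := by decide +kernel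

theorem inv0_8 : rowScal [0, 0] 1 8 = true := by decide +kernel

theorem inv0_9 : rowScal [0, 0] 1 9 = true := by decide +kernel

theorem inv0_10 : rowScal [0, 0] 1 10 = true := by decide +kernel

theorem inv0_11 : rowScal [0, 0] 1 11 = true := by decide +kernel

theorem inv0_12 : rowScal [0, 0] 1 12 = true := by decide +kernel

theorem inv0_13 : rowScal [0, 0] 1 13 = true := by decide +kernel

theorem inv0_14 : rowScal [0, 0] 1 14 = true := by decide +kernel

theorem inv0_15 : rowScal [0, 0] 1 15 = true := by decide +kernel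

theorem inv0_16 : rowScal [0, 0] 1 16 = true := by decide +kernel

theorem inv0_17 : rowScal [0, 0] 1 17 = true := by decide +kernel

theorem inv0_18 : rowScal [0, 0] 1 18 = true := by decide +kernel

theorem inv0_19 : rowScal [0, 0] 1 19 = true := by decide +kernel

theorem inv0_20 : rowScal [0, 0] 1 20 = true := by decide +kernel

theorem inv0_21 : rowScal [0, 0] 1 21 = true := by decide +kernel

theorem inv0_22 : rowScal [0, 0] 1 22 = true := by decide +kernel

theorem inv0_23 : rowScal [0, 0] 1 23 = true := by decide +kernel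

theorem inv0_24 : rowScal [0, 0] 1 24 = true := by decide +kernel

theorem inv0_25 : rowScal [0, 0] 1 25 = true := by decide +kernel

theorem inv0_26 : rowScal [0, 0] 1 26 = true := by decide +kernel

theorem inv0_27 : rowScal [0, 0] 1 27 = true := by decide +kernel

theorem inv0_28 : rowScal [0, 0] 1 28 = true := by decide +kernel

theorem inv0_29 : rowScal [0, 0] 1 29 = true := by decide +kernel

theorem inv0_30 : rowScal [0, 0] 1 30 = true := by decide +kernel

theorem inv0_31 : rowScal [0, 0] 1 31 = true := by decide +kernel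

theorem inv0_32 : rowScal [0, 0] 1 32 = true := by decide +kernel

theorem inv0_33 : rowScal [0, 0] 1 33 = true := by decide +kernel

theorem inv0_34 : rowScal [0, 0] 1 34 = true := by decide +kernel

theorem inv0_35 : rowScal [0, 0] 1 35 = true := by decide +kernel

theorem inv0_36 : rowScal [0, 0] 1 36 = true := by decide +kernel

theorem inv0_37 : rowScal [0, 0] 1 37 = true := by decide +kernel

theorem inv0_38 : rowScal [0, 0] 1 38 = true := by decide +kernel

theorem inv0_39 : rowScal [0, 0] 1 39 = true := by decide +kernel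

theorem inv0_40 : rowScal [0, 0] 1 40 = true := by decide +kernel

theorem inv0_41 : rowScal [0, 0] 1 41 = true := by decide +kernel

theorem inv0_42 : rowScal [0, 0] 1 42 = true := by decide +kernel

theorem inv0_43 : rowScal [0, 0] 1 43 = true := by decide +kernel

theorem inv0_44 : rowScal [0, 0] 1 44 = true := by decide +kernel

theorem inv0 : scalOk [0, 0] 1 = true := by
  refine scalOk_of _ _ fun i hi => ?_
  interval_cases i
  exacts [inv0_0, inv0_1, inv0_2, inv0_3, inv0_4, inv0_5, inv0_6, inv0_7, inv0_8, inv0_9, inv0_10, inv0_11, inv0_12, inv0_13, inv0_14, inv0_15, inv0_16, inv0_17, inv0_18, inv0_19, inv0_20, inv0_21, inv0_22, inv0_23, inv0_24, inv0_25, inv0_26, inv0_27, inv0_28, inv0_29, inv0_30, inv0_31, inv0_32, inv0_33, inv0_34, inv0_35, inv0_36, inv0_37, inv0_38, inv0_39, inv0_40, inv0_41, inv0_42, inv0_43, inv0_44]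

theorem inv4_0 : rowScal [4, 4] 1 0 = true := by decide +kernel

theorem inv4_1 : rowScal [4, 4] 1 1 = true := by decide +kernel

theorem inv4_2 : rowScal [4, 4] 1 2 = true := by decide +kernel

theorem inv4_3 : rowScal [4, 4] 1 3 = true := by decide +kernel

theorem inv4_4 : rowScal [4, 4] 1 4 = true := by decide +kernel

theorem inv4_5 : rowScal [4, 4] 1 5 = true := by decide +kernel

theorem inv4_6 : rowScal [4, 4] 1 6 = true := by decide +kernel

theorem inv4_7 : rowScal [4, 4] 1 7 = true := by decide +kernel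

theorem inv4_8 : rowScal [4, 4] 1 8 = true := by decide +kernel

theorem inv4_9 : rowScal [4, 4] 1 9 = true := by decide +kernel

theorem inv4_10 : rowScal [4, 4] 1 10 = true := by decide +kernel

theorem inv4_11 : rowScal [4, 4] 1 11 = true := by decide +kernel

theorem inv4_12 : rowScal [4, 4] 1 12 = true := by decide +kernel

theorem inv4_13 : rowScal [4, 4] 1 13 = true := by decide +kernel

theorem inv4_14 : rowScal [4, 4] 1 14 = true := by decide +kernel

theorem inv4_15 : rowScal [4, 4] 1 15 = true := by decide +kernel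

theorem inv4_16 : rowScal [4, 4] 1 16 = true := by decide +kernel

theorem inv4_17 : rowScal [4, 4] 1 17 = true := by decide +kernel

theorem inv4_18 : rowScal [4, 4] 1 18 = true := by decide +kernel

theorem inv4_19 : rowScal [4, 4] 1 19 = true := by decide +kernel

theorem inv4_20 : rowScal [4, 4] 1 20 = true := by decide +kernel

theorem inv4_21 : rowScal [4, 4] 1 21 = true := by decide +kernel

theorem inv4_22 : rowScal [4, 4] 1 22 = true := by decide +kernel

theorem inv4_23 : rowScal [4, 4] 1 23 = true := by decide +kernel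

theorem inv4_24 : rowScal [4, 4] 1 24 = true := by decide +kernel

theorem inv4_25 : rowScal [4, 4] 1 25 = true := by decide +kernel

theorem inv4_26 : rowScal [4, 4] 1 26 = true := by decide +kernel

theorem inv4_27 : rowScal [4, 4] 1 27 = true := by decide +kernel

theorem inv4_28 : rowScal [4, 4] 1 28 = true := by decide +kernel

theorem inv4_29 : rowScal [4, 4] 1 29 = true := by decide +kernel

theorem inv4_30 : rowScal [4, 4] 1 30 = true := by decide +kernel

theorem inv4_31 : rowScal [4, 4] 1 31 = true := by decide +kernel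

theorem inv4_32 : rowScal [4, 4] 1 32 = true := by decide +kernel

theorem inv4_33 : rowScal [4, 4] 1 33 = true := by decide +kernel

theorem inv4_34 : rowScal [4, 4] 1 34 = true := by decide +kernel

theorem inv4_35 : rowScal [4, 4] 1 35 = true := by decide +kernel

theorem inv4_36 : rowScal [4, 4] 1 36 = true := by decide +kernel

theorem inv4_37 : rowScal [4, 4] 1 37 = true := by decide +kernel

theorem inv4_38 : rowScal [4, 4] 1 38 = true := by decide +kernel

theorem inv4_39 : rowScal [4, 4] 1 39 = true := by decide +kernel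

theorem inv4_40 : rowScal [4, 4] 1 40 = true := by decide +kernel

theorem inv4_41 : rowScal [4, 4] 1 41 = true := by decide +kernel

theorem inv4_42 : rowScal [4, 4] 1 42 = true := by decide +kernel

theorem inv4_43 : rowScal [4, 4] 1 43 = true := by decide +kernel

theorem inv4_44 : rowScal [4, 4] 1 44 = true := by decide +kernel

theorem inv4 : scalOk [4, 4] 1 = true := by
  refine scalOk_of _ _ fun i hi => ?_
  interval_cases i
  exacts [inv4_0, inv4_1, inv4_2, inv4_3, inv4_4, inv4_5, inv4_6, inv4_7, inv4_8, inv4_9, inv4_10, inv4_11, inv4_12, inv4_13, inv4_14, inv4_15, inv4_16, inv4_17, inv4_18, inv4_19, inv4_20, inv4_21, inv4_22, inv4_23, inv4_24, inv4_25, inv4_26, inv4_27, inv4_28, inv4_29, inv4_30, inv4_31, inv4_32, inv4_33, inv4_34, inv4_35, inv4_36, inv4_37, inv4_38, inv4_39, inv4_40, inv4_41, inv4_42, inv4_43, inv4_44]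

end Cfsg.Agent.ONFortyFiveCheck41
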