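import Cfsg.Agent.Lib.ONFortyFiveCheck0_41
import Cfsg.Agent.Lib.ONFortyFiveCheck1_41
import Cfsg.Agent.Lib.ONFortyFiveCheck2_41
import Cfsg.Agent.Lib.ONFortyFiveCheck3_41
import Cfsg.Agent.Lib.ONFortyFiveCheck4_41
import Cfsg.Agent.Lib.ONFortyFiveCheck5_41

/-! The relator checks for the matrices of degree 45 of the O'Nan group, assembled. -/

set_option autoImplicit false
set_option maxRecDepth 100000

namespace Cfsg.Agent.ONFortyFiveCheck41

theorem rows_ok : rowsOk = true := by decide +kernel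

theorem inv_ok (x : Nat) (hx : x < 8) : scalOk [x, inv8 x] 1 = true ∧ inv8 x < 8 := by
  interval_cases x
  exacts [⟨inv0, by decide⟩, ⟨inv1, by decide⟩, ⟨inv2, by decide⟩, ⟨inv3, by decide⟩, ⟨inv4, by decide⟩, ⟨inv5, by decide⟩, ⟨inv6, by decide⟩, ⟨inv7, by decide⟩]

theorem cox_ok (y : Nat) (hy : y < 6) (x : Nat) (hx : x < y) : scalOk (pairW x y) 1 = true := by
  interval_cases y <;> interval_cases x
  exacts [pair01, pair02, pair12, pair03, pair13, pair23, pair04, pair14, pair24, pair34, pair05, pair15, pair25, pair35, pair45]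

theorem extra_ok : scalOk [0, 5, 6, 6] 1 = true ∧
    scalOk [0, 5, 3, 2, 3, 2, 3, 2, 3, 2] 1 = true ∧
    scalOk [2, 6, 3, 6, 3, 2, 3, 7, 3, 7] 1 = true ∧
    scalOk [3, 6, 2, 6, 2, 3, 2, 7, 2, 7] 1 = true ∧
    scalOk [1, 2, 3, 7, 1, 2, 3, 7, 1, 2, 3, 7, 1, 2, 3, 7, 1, 2, 3, 7] 4 = true ∧
    scalOk [7, 1, 2, 7, 2, 1, 7, 1, 2, 7, 2] 4 = true ∧
    scalOk [7, 4, 3, 7, 3, 4, 7, 4, 3, 7, 3] 4 = true :=
  ⟨extra0, extra1, extra2, extra3, extra4, extra5, extra6⟩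

end Cfsg.Agent.ONFortyFiveCheck41
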