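import Cfsg.Agent.Lib.ONFortyFiveData41
import Cfsg.Agent.Lib.CosetCertTable
import Cfsg.Prelude.Def_Spor_ON
import Mathlib

/-! Checkers for matrices of degree 45 over the field with seven elements for the O'Nan group. -/

set_option autoImplicit false
set_option maxRecDepth 100000
set_option Elab.async false
set_option linter.style.haveILetI false

namespace Cfsg.Agent.ONFortyFiveCheck41

open Cfsg.Agent.CosetCertCore Cfsg.Agent.ONFortyFiveData41

/-- Slot `j` of a packed vector. -/
noncomputable def digit (v j : Nat) : Nat := Nat.land (Nat.shiftRight v (11 * j)) 2047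

/-- Residues of the first `n` slots, packed. -/
noncomputable def residues : Nat → Nat → Nat := fun n =>
  Nat.rec (motive := fun _ => Nat → Nat) (fun _ => 0)
    (fun _ ih v => Nat.mod (Nat.land v 2047) 7 + Nat.shiftLeft (force (Nat.shiftRight v 11) ih) 11) n

/-- Pack the residues of the slots. -/
noncomputable def norm7 (v : Nat) : Nat := residues 45 v

/-- The combination of rows with the slots as coefficients. -/
noncomputable def dot (R : List Nat) : Nat → Nat :=
  List.rec (motive := fun _ => Nat → Nat) (fun _ => 0)
    (fun r _ ih v => Nat.land v 2047 * r + force (Nat.shiftRight v 11) ih) R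

/-- A vector times a matrix. -/
noncomputable def stepV (R : List Nat) (v : Nat) : Nat :=
  force (dot R v) norm7

/-- A vector times several matrices. -/
noncomputable def runV (w : List Nat) : Nat → Nat :=
  List.rec (motive := fun _ => Nat → Nat) (fun v => v)
    (fun x _ ih v => force (stepV (rows.getD x []) v) ih) w

/-- A product of matrices is the scalar `c`. -/
noncomputable def scalOk (w : List Nat) (c : Nat) : Bool :=
  CosetCertTable.allFrom (fun i => Nat.beq (runV w (Nat.shiftLeft 1 (11 * i))) (Nat.shiftLeft c (11 * i))) 45 0

/-- Entries of the tables are residues. -/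
noncomputable def rowsOk : Bool :=
  CosetCertTable.allFrom (fun x => Nat.beq (rows.getD x []).length 45) 8 0 &&
  CosetCertTable.allFrom (fun x => CosetCertTable.allFrom (fun k =>
    Nat.blt ((rows.getD x []).getD k 0) (2048 ^ 45) &&
      CosetCertTable.allFrom (fun j => Nat.blt (digit ((rows.getD x []).getD k 0) j) 7) 45 0) 45 0) 8 0

/-- The inverse letter. -/
def inv8 (x : Nat) : Nat := if x < 6 then x else 13 - x

/-- Word of a pair of letters. -/
def pairW (x y : Nat) : List Nat :=
  (List.replicate (if x + 1 = y then (if x = 2 then 8 else 3) else 2) [x, y]).flatten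

/-- The product of a word maps one basis vector to its multiple by `c`. -/
noncomputable def rowScal (w : List Nat) (c i : Nat) : Bool :=
  Nat.beq (runV w (Nat.shiftLeft 1 (11 * i))) (Nat.shiftLeft c (11 * i))

theorem scalOk_of (w : List Nat) (c : Nat) (h : CosetCertTable.AllBelow (rowScal w c) 45) : scalOk w c = true :=
  (CosetCertTable.allFrom_iff _ _ _).mpr fun i _ hi => h i (by omega)

end Cfsg.Agent.ONFortyFiveCheck41
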