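import Cfsg.Agent.Lib.ONPermCheck64
import Cfsg.Agent.Lib.CosetCertPres
import Cfsg.Prelude.Def_Spor_ON

/-! The presented O'Nan group acts on 122760 points, with `a` and `b` acting differently. -/

set_option autoImplicit false
set_option maxRecDepth 100000

namespace Cfsg.Agent.ONRep64

open Cfsg.Agent.CosetCertCore Cfsg.Agent.CosetCertTable Cfsg.Agent.ONPermData64

theorem ok_spec (i : Nat) (hi : i < 122760) :
    (∀ x < 8, im x i < 122760 ∧ im (flip x) (im x i) = i) ∧ (∀ w ∈ words, run w i = i) := by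
  have h := ONPermCheck64.all_ok i hi
  simp only [ok, Bool.and_eq_true] at h
  refine ⟨fun x hx => ?_, ?_⟩
  · have := (allFrom_iff _ _ _).mp h.1 x (Nat.zero_le x) (by omega)
    simpa only [force_eq, Bool.and_eq_true, Nat.blt_eq, Nat.beq_eq] using this
  · have key : ∀ l : List (List Nat), List.rec (motive := fun _ => Bool) true
        (fun w _ ih => Nat.beq (run w i) i && ih) l = true → ∀ w ∈ l, run w i = i := by
      intro l
      induction l with
      | nil => simp
      | cons w t ih =>
        intro hl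
        change (Nat.beq (run w i) i && _) = true at hl
        rw [Bool.and_eq_true, Nat.beq_eq] at hl
        exact List.forall_mem_cons.2 ⟨hl.1, ih hl.2⟩
    exact key words h.2

theorem flip_lt : ∀ x < 8, flip x < 8 := by decide +kernel

theorem flip_flip : ∀ x < 8, flip (flip x) = x := by decide +kernel

/-- The permutation of a letter. -/
noncomputable def prm (x : Nat) : Equiv.Perm (Fin 122760) :=
  if hx : x < 8 then
    { toFun := fun i => ⟨im (flip x) i, ((ok_spec i i.2).1 _ (flip_lt x hx)).1⟩
      invFun := fun i => ⟨im x i, ((ok_spec i i.2).1 x hx).1⟩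
      left_inv := fun i => Fin.ext (by
        have := ((ok_spec i i.2).1 _ (flip_lt x hx)).2
        rw [flip_flip x hx] at this
        exact this)
      right_inv := fun i => Fin.ext ((ok_spec i i.2).1 x hx).2 }
  else 1

theorem prm_apply {x : Nat} (hx : x < 8) (i : Fin 122760) : (prm x i : Nat) = im (flip x) i := by
  rw [prm, dif_pos hx]; rfl

theorem prm_symm {x : Nat} (hx : x < 8) (i : Fin 122760) : ((prm x)⁻¹ i : Nat) = im x i := by
  rw [prm, dif_pos hx]; rfl

theorem val_inv (w : List Nat) (hw : ∀ x ∈ w, x < 8) (i : Fin 122760) :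
    (((val prm w)⁻¹ i : Fin 122760) : Nat) = run w i := by
  induction w generalizing i with
  | nil => simp [val, run]
  | cons x w ih =>
    rw [val_cons, mul_inv_rev, Equiv.Perm.mul_apply, ih (fun y hy => hw y (List.mem_cons_of_mem _ hy)),
      prm_symm (hw x (List.mem_cons_self ..))]
    simp [run, force_eq]

theorem words_lt : ∀ w ∈ words, ∀ x ∈ w, x < 8 := by decide +kernel

theorem val_words {w : List Nat} (hw : w ∈ words) : val prm w = 1 := by
  rw [← inv_eq_one]
  ext i
  rw [val_inv w (words_lt w hw) i, (ok_spec i i.2).2 w hw]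
  rfl

theorem prm_seven : prm 7 = (prm 6)⁻¹ := by
  ext i
  rw [prm_symm (by norm_num), prm_apply (by norm_num)]
  rfl

open Cfsg.Spor.ON in
/-- The letter of a generator. -/
def letter : Gen → Nat
  | .a => 0 | .b => 1 | .c => 2 | .d => 3 | .e => 4 | .f => 5 | .g => 6

theorem sq_words : ∀ x < 6, [x, x] ∈ words := by decide +kernel

theorem prm_sq {x : Nat} (hx : x < 6) : prm x * prm x = 1 := by
  have := val_words (sq_words x hx)
  simpa [val] using this

theorem prm_inv {x : Nat} (hx : x < 6) : (prm x)⁻¹ = prm x :=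
  inv_eq_of_mul_eq_one_right (prm_sq hx)

theorem pair_words : ∀ x ∈ [(Cfsg.Spor.ON.Gen.a), .b, .c, .d, .e, .f],
    ∀ y ∈ [(Cfsg.Spor.ON.Gen.a), .b, .c, .d, .e, .f], letter x < letter y →
    (List.replicate (Cfsg.Spor.coxLabel Cfsg.Spor.ON.edges x y) [letter x, letter y]).flatten ∈ words := by
  decide +kernel

theorem nodes_sub : ∀ x ∈ Cfsg.Spor.coxNodes Cfsg.Spor.ON.edges,
    x ∈ [(Cfsg.Spor.ON.Gen.a), .b, .c, .d, .e, .f] := by decide

theorem cox_ok (x y : Cfsg.Spor.ON.Gen) (hx : x ∈ [(Cfsg.Spor.ON.Gen.a), .b, .c, .d, .e, .f])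
    (hy : y ∈ [(Cfsg.Spor.ON.Gen.a), .b, .c, .d, .e, .f]) :
    (prm (letter x) * prm (letter y)) ^ Cfsg.Spor.coxLabel Cfsg.Spor.ON.edges x y = 1 := by
  have h6 : ∀ z ∈ [(Cfsg.Spor.ON.Gen.a), .b, .c, .d, .e, .f], letter z < 6 := by decide
  have main : ∀ x ∈ [(Cfsg.Spor.ON.Gen.a), .b, .c, .d, .e, .f],
      ∀ y ∈ [(Cfsg.Spor.ON.Gen.a), .b, .c, .d, .e, .f], letter x < letter y →
      (prm (letter x) * prm (letter y)) ^ Cfsg.Spor.coxLabel Cfsg.Spor.ON.edges x y = 1 := by
    intro x hx y hy hlt
    have h := val_words (pair_words x hx y hy hlt)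
    rw [CosetCertPres.val_replicate] at h
    simpa [val_cons, val_nil] using h
  rcases lt_trichotomy (letter x) (letter y) with h | h | h
  · exact main x hx y hy h
  · have : x = y := by revert h; cases x <;> cases y <;> decide
    subst this
    rw [prm_sq (h6 x hx), one_pow]
  · have hsym : Cfsg.Spor.coxLabel Cfsg.Spor.ON.edges x y = Cfsg.Spor.coxLabel Cfsg.Spor.ON.edges y x := by
      revert h; cases x <;> cases y <;> decide
    rw [hsym, ← inv_eq_one, ← inv_pow, mul_inv_rev, prm_inv (h6 x hx), prm_inv (h6 y hy)]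
    exact main y hy x hx h

attribute [local irreducible] prm

theorem rels_ok : ∀ r ∈ Cfsg.Spor.coxRelators Cfsg.Spor.ON.edges ∪ {r | r ∈ Cfsg.Spor.ON.extra},
    FreeGroup.lift (fun s => prm (letter s)) r = 1 := by
  rintro r (⟨x, hx, y, hy, rfl⟩ | hr)
  · rw [map_pow, map_mul, FreeGroup.lift_apply_of, FreeGroup.lift_apply_of]
    exact cox_ok x y (nodes_sub x hx) (nodes_sub y hy)
  · have hw : ∀ k, k < words.length → val prm (words.getD k []) = 1 := fun k hk => by
      rw [List.getD_eq_getElem _ _ hk]; exact val_words (List.getElem_mem hk)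
    have w0 := hw 21 (by decide)
    have w1 := hw 22 (by decide)
    have w2 := hw 23 (by decide)
    have w3 := hw 24 (by decide)
    have w4 := hw 25 (by decide)
    have w5 := hw 26 (by decide)
    have w6 := hw 27 (by decide)
    have i1 := prm_inv (x := 1) (by norm_num)
    have i2 := prm_inv (x := 2) (by norm_num)
    have i3 := prm_inv (x := 3) (by norm_num)
    have i4 := prm_inv (x := 4) (by norm_num)
    simp [val, words, prm_seven] at w0 w1 w2 w3 w4 w5 w6
    simp only [Cfsg.Spor.ON.extra, Set.mem_ofPred_eq, List.mem_cons, List.not_mem_nil, or_false] at hr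
    rcases hr with rfl | rfl | rfl | rfl | rfl | rfl | rfl <;>
      simp [letter, pow_succ, mul_inv_rev, i1, i2, i3, i4, mul_assoc] <;>
      assumption

/-- The permutation representation. -/
noncomputable def rep : Cfsg.Spor.ON →* Equiv.Perm (Fin 122760) := PresentedGroup.toGroup rels_ok

theorem ab_ne_one :
    (PresentedGroup.of Cfsg.Spor.ON.Gen.a : Cfsg.Spor.ON) * PresentedGroup.of Cfsg.Spor.ON.Gen.b ≠ 1 := by
  intro h
  have := congrArg rep h
  rw [map_mul, map_one, rep, PresentedGroup.toGroup.of, PresentedGroup.toGroup.of] at this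
  have e : prm 0 = prm 1 := by
    rw [← mul_inv_eq_one, prm_inv (by norm_num)]
    exact this
  have e1 := congrArg (fun p : Equiv.Perm (Fin 122760) => ((p ⟨1, by norm_num⟩ : Fin 122760) : Nat)) e
  simp only [prm_apply (show (0 : Nat) < 8 by norm_num), prm_apply (show (1 : Nat) < 8 by norm_num)] at e1
  revert e1
  decide +kernel

end Cfsg.Agent.ONRep64
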