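import Cfsg.Agent.Lib.CosetCertON90L0
import Cfsg.Agent.Lib.CosetCertON90L1
import Cfsg.Agent.Lib.CosetCertON90L2
import Cfsg.Agent.Lib.CosetCertON90L3
import Cfsg.Agent.Lib.CosetCertON90L4
import Cfsg.Agent.Lib.CosetCertON90L5
import Cfsg.Agent.Lib.CosetCertON90L6
import Cfsg.Agent.Lib.CosetCertON90L7
import Cfsg.Agent.Lib.CosetCertON90
import Cfsg.Agent.Lib.ONRep64
import Cfsg.Agent.Lib.ONSubgroup64

/-! In the presented O'Nan group the subgroup generated by `a, …, f` has index 122760, and the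
permutation table is the action on its cosets. -/

set_option autoImplicit false
set_option maxRecDepth 100000

namespace Cfsg.Agent.ONIndex90

open Cfsg.Agent.CosetCertCore Cfsg.Agent.CosetCertTable Cfsg.Agent.ONRep64
open Cfsg.Agent.ONSubgroup64 (HH node node_mem)
open Cfsg.Agent.ONPermData64 (words im)

/-- The letters in the presented group. -/
noncomputable def gg (x : Nat) : Cfsg.Spor.ON :=
  if h : x < 6 then PresentedGroup.of (node ⟨x, h⟩)
  else if x = 6 then PresentedGroup.of Cfsg.Spor.ON.Gen.g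
  else if x = 7 then (PresentedGroup.of Cfsg.Spor.ON.Gen.g)⁻¹ else 1

theorem cox (i j : Fin 6) :
    (gg i * gg j) ^ Cfsg.Spor.coxLabel Cfsg.Spor.ON.edges (node i) (node j) = 1 := by
  have h : PresentedGroup.mk (Cfsg.Spor.coxRelators Cfsg.Spor.ON.edges ∪ {r | r ∈ Cfsg.Spor.ON.extra})
      ((FreeGroup.of (node i) * FreeGroup.of (node j)) ^
        Cfsg.Spor.coxLabel Cfsg.Spor.ON.edges (node i) (node j)) = 1 :=
    PresentedGroup.one_of_mem (Or.inl ⟨_, node_mem i, _, node_mem j, rfl⟩)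
  rw [map_pow, map_mul] at h
  unfold gg
  rw [dif_pos i.2, dif_pos j.2]
  exact h

theorem gg_sq {x : Nat} (hx : x < 6) : gg x * gg x = 1 := by
  have h := cox ⟨x, hx⟩ ⟨x, hx⟩
  simpa [Cfsg.Spor.coxLabel] using h

theorem gg_inv {x : Nat} (hx : x < 6) : (gg x)⁻¹ = gg x := inv_eq_of_mul_eq_one_right (gg_sq hx)

theorem extra_one {r : FreeGroup Cfsg.Spor.ON.Gen} (hr : r ∈ Cfsg.Spor.ON.extra) :
    PresentedGroup.mk (Cfsg.Spor.coxRelators Cfsg.Spor.ON.edges ∪ {r | r ∈ Cfsg.Spor.ON.extra}) r = 1 :=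
  PresentedGroup.one_of_mem (Or.inr hr)

theorem cox_words : ∀ w ∈ words.take 21, ∃ i j : Fin 6,
    w = (List.replicate (Cfsg.Spor.coxLabel Cfsg.Spor.ON.edges (node i) (node j)) [(i : Nat), (j : Nat)]).flatten := by
  decide +kernel

theorem val_drop : ∀ w ∈ words.drop 21, val gg w = 1 := by
  intro w hw
  have i1 := gg_inv (x := 1) (by norm_num)
  have i2 := gg_inv (x := 2) (by norm_num)
  have i3 := gg_inv (x := 3) (by norm_num)
  have i4 := gg_inv (x := 4) (by norm_num)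
  have e1 : PresentedGroup.mk (Cfsg.Spor.coxRelators Cfsg.Spor.ON.edges ∪ {r | r ∈ Cfsg.Spor.ON.extra})
      (FreeGroup.of Cfsg.Spor.ON.Gen.b) = gg 1 := rfl
  have e0 : PresentedGroup.mk (Cfsg.Spor.coxRelators Cfsg.Spor.ON.edges ∪ {r | r ∈ Cfsg.Spor.ON.extra})
      (FreeGroup.of Cfsg.Spor.ON.Gen.a) = gg 0 := rfl
  have e2 : PresentedGroup.mk (Cfsg.Spor.coxRelators Cfsg.Spor.ON.edges ∪ {r | r ∈ Cfsg.Spor.ON.extra})
      (FreeGroup.of Cfsg.Spor.ON.Gen.c) = gg 2 := rfl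
  have e3 : PresentedGroup.mk (Cfsg.Spor.coxRelators Cfsg.Spor.ON.edges ∪ {r | r ∈ Cfsg.Spor.ON.extra})
      (FreeGroup.of Cfsg.Spor.ON.Gen.d) = gg 3 := rfl
  have e4 : PresentedGroup.mk (Cfsg.Spor.coxRelators Cfsg.Spor.ON.edges ∪ {r | r ∈ Cfsg.Spor.ON.extra})
      (FreeGroup.of Cfsg.Spor.ON.Gen.e) = gg 4 := rfl
  have e5 : PresentedGroup.mk (Cfsg.Spor.coxRelators Cfsg.Spor.ON.edges ∪ {r | r ∈ Cfsg.Spor.ON.extra})
      (FreeGroup.of Cfsg.Spor.ON.Gen.f) = gg 5 := rfl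
  have e6 : PresentedGroup.mk (Cfsg.Spor.coxRelators Cfsg.Spor.ON.edges ∪ {r | r ∈ Cfsg.Spor.ON.extra})
      (FreeGroup.of Cfsg.Spor.ON.Gen.g) = gg 6 := rfl
  have e7 : (gg 7 : Cfsg.Spor.ON) = (gg 6)⁻¹ := rfl
  have r0 := extra_one (r := (Cfsg.Spor.ON.a * Cfsg.Spor.ON.f) * ((Cfsg.Spor.ON.g ^ 2)⁻¹))
    (by simp [Cfsg.Spor.ON.extra])
  have r1 := extra_one (r := (Cfsg.Spor.ON.a * Cfsg.Spor.ON.f) * (((Cfsg.Spor.ON.c * Cfsg.Spor.ON.d) ^ 4)⁻¹))
    (by simp [Cfsg.Spor.ON.extra])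
  have r2 := extra_one (r := Cfsg.Spor.ON.c * ((Cfsg.Spor.ON.d * Cfsg.Spor.ON.g * Cfsg.Spor.ON.d * Cfsg.Spor.ON.g)⁻¹ * Cfsg.Spor.ON.c * (Cfsg.Spor.ON.d * Cfsg.Spor.ON.g * Cfsg.Spor.ON.d * Cfsg.Spor.ON.g)))
    (by simp [Cfsg.Spor.ON.extra])
  have r3 := extra_one (r := Cfsg.Spor.ON.d * ((Cfsg.Spor.ON.c * Cfsg.Spor.ON.g * Cfsg.Spor.ON.c * Cfsg.Spor.ON.g)⁻¹ * Cfsg.Spor.ON.d * (Cfsg.Spor.ON.c * Cfsg.Spor.ON.g * Cfsg.Spor.ON.c * Cfsg.Spor.ON.g)))
    (by simp [Cfsg.Spor.ON.extra])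
  have r4 := extra_one (r := (Cfsg.Spor.ON.b * Cfsg.Spor.ON.c * Cfsg.Spor.ON.d * Cfsg.Spor.ON.g) ^ 5)
    (by simp [Cfsg.Spor.ON.extra])
  have r5 := extra_one (r := Cfsg.Spor.ON.g * Cfsg.Spor.ON.b * (Cfsg.Spor.ON.c⁻¹ * Cfsg.Spor.ON.g * Cfsg.Spor.ON.c) * (Cfsg.Spor.ON.b⁻¹ * Cfsg.Spor.ON.g * Cfsg.Spor.ON.b) * (Cfsg.Spor.ON.c⁻¹ * Cfsg.Spor.ON.g * Cfsg.Spor.ON.c))
    (by simp [Cfsg.Spor.ON.extra])
  have r6 := extra_one (r := Cfsg.Spor.ON.g * Cfsg.Spor.ON.e * (Cfsg.Spor.ON.d⁻¹ * Cfsg.Spor.ON.g * Cfsg.Spor.ON.d) * (Cfsg.Spor.ON.e⁻¹ * Cfsg.Spor.ON.g * Cfsg.Spor.ON.e) * (Cfsg.Spor.ON.d⁻¹ * Cfsg.Spor.ON.g * Cfsg.Spor.ON.d))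
    (by simp [Cfsg.Spor.ON.extra])
  simp [Cfsg.Spor.ON.a, Cfsg.Spor.ON.b, Cfsg.Spor.ON.c, Cfsg.Spor.ON.d, Cfsg.Spor.ON.e,
    Cfsg.Spor.ON.f, Cfsg.Spor.ON.g, pow_succ, mul_inv_rev, e0, e1, e2, e3, e4, e5, e6, i1, i2, i3, i4,
    mul_assoc] at r0 r1 r2 r3 r4 r5 r6
  simp only [words, List.drop_succ_cons, List.drop_zero, List.mem_cons, List.not_mem_nil, or_false] at hw
  rcases hw with rfl | rfl | rfl | rfl | rfl | rfl | rfl <;>
    simp [val, e7, mul_assoc] <;> assumption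

theorem val_words {w : List Nat} (hw : w ∈ words) : val gg w = 1 := by
  rw [← List.take_append_drop 21 words, List.mem_append] at hw
  rcases hw with hw | hw
  · obtain ⟨i, j, rfl⟩ := cox_words w hw
    rw [CosetCertPres.val_replicate, val_cons, val_cons, val_nil, mul_one]
    exact cox i j
  · exact val_drop w hw

theorem val_gfour : val gg [6, 6, 6, 6] = 1 := by
  have h := val_words (w := [0, 5, 7, 7]) (by decide)
  have h2 := val_words (w := [0, 5, 0, 5]) (by decide)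
  have e7 : (gg 7 : Cfsg.Spor.ON) = (gg 6)⁻¹ := rfl
  simp only [val_cons, val_nil, mul_one, e7, ← mul_assoc, mul_inv_eq_one] at h h2 ⊢
  rw [mul_inv_eq_iff_eq_mul] at h
  rw [mul_assoc (gg 6 * gg 6), ← h, ← mul_assoc]
  exact h2

theorem rel_rot : ∀ w ∈ CosetCertON90Data.relWords, ∃ b ∈ [6, 7] :: [7, 6] :: [6, 6, 6, 6] :: words,
    ∃ k < b.length + 1, w = b.drop k ++ b.take k := by
  decide +kernel

theorem val_rels {w : List Nat} (hw : w ∈ CosetCertON90Data.relWords) : val gg w = 1 := by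
  obtain ⟨b, hb, k, -, rfl⟩ := rel_rot w hw
  have hb1 : val gg b = 1 := by
    have e7 : (gg 7 : Cfsg.Spor.ON) = (gg 6)⁻¹ := rfl
    rcases List.mem_cons.1 hb with rfl | hb
    · simp [val, e7]
    rcases List.mem_cons.1 hb with rfl | hb
    · simp [val, e7]
    rcases List.mem_cons.1 hb with rfl | hb
    · exact val_gfour
    exact val_words hb
  have hs : val gg (b.take k) * val gg (b.drop k) = 1 := by
    rw [← CosetCertPres.val_append, List.take_append_drop, hb1]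
  rw [CosetCertPres.val_append]
  exact mul_eq_one_comm.1 hs

/-- The letters as they act on left cosets. -/
noncomputable def ga (x : Nat) : Cfsg.Spor.ON := (gg x)⁻¹

theorem ga_inv : CosetCertDir90.Inv ga := by
  intro x
  unfold ga
  congr 1
  rcases Nat.lt_or_ge x 6 with hx | hx
  · have : CosetCertDir90.flp x = x := by interval_cases x <;> rfl
    rw [this, gg_inv hx]
  by_cases h6 : x = 6
  · subst h6; rfl
  by_cases h7 : x = 7
  · subst h7
    show gg 6 = (gg 7)⁻¹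
    exact (inv_inv _).symm
  have : CosetCertDir90.flp x = x := by
    unfold CosetCertDir90.flp
    have a : Nat.beq x 6 = false := by rw [← Bool.not_eq_true, Nat.beq_eq]; exact h6
    have b : Nat.beq x 7 = false := by rw [← Bool.not_eq_true, Nat.beq_eq]; exact h7
    simp only [a, b, cond_false]
  rw [this]
  simp [gg, show ¬ x < 6 by omega, h6, h7]

theorem act_ga {X : Type} [MulAction Cfsg.Spor.ON X] (w : List Nat) (a : X) :
    act ga w a = (val gg w)⁻¹ • a := by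
  induction w generalizing a with
  | nil => simp [act, val]
  | cons x w ih => rw [act_cons, ih, val_cons, mul_inv_rev, mul_smul]; rfl

/-- The base coset. -/
noncomputable def base : Cfsg.Spor.ON ⧸ HH := ((1 : Cfsg.Spor.ON) : Cfsg.Spor.ON ⧸ HH)

theorem gg_mem {x : Nat} (hx : x < 6) : gg x ∈ HH := by
  refine ⟨FreeGroup.of (node ⟨x, hx⟩), Subgroup.subset_closure ?_, ?_⟩
  · interval_cases x <;> simp [node]
  · simp [gg, hx]
    rfl

theorem ctx : CosetCertDir90.Ctx ga base CosetCertON90Data.cert := by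
  refine ⟨ga_inv, fun w hw a => ?_, fun w hw => ?_⟩
  · rw [act_ga, val_rels hw, inv_one, one_smul]
  · obtain ⟨x, hx, rfl⟩ : ∃ x < 6, w = [x] := by
      simp only [CosetCertON90Data.cert, List.mem_cons, List.not_mem_nil, or_false] at hw
      rcases hw with rfl | rfl | rfl | rfl | rfl | rfl <;> exact ⟨_, by norm_num, rfl⟩
    rw [act_ga, val_cons, val_nil, mul_one]
    show (((gg x)⁻¹ * 1 : Cfsg.Spor.ON) : Cfsg.Spor.ON ⧸ HH) = _
    rw [mul_one, base, eq_comm, QuotientGroup.eq, inv_one, one_mul, inv_mem_iff]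
    exact gg_mem hx

theorem linked : AllBelow CosetCertON90Link.linkOk 122760 := by
  have h : AllBelow CosetCertON90Link.linkOk 0 := AllBelow.zero _
  replace h := CosetCertON90L0.block h
  replace h := CosetCertON90L1.block h
  replace h := CosetCertON90L2.block h
  replace h := CosetCertON90L3.block h
  replace h := CosetCertON90L4.block h
  replace h := CosetCertON90L5.block h
  replace h := CosetCertON90L6.block h
  replace h := CosetCertON90L7.block h
  exact h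

/-- The coset of a point. -/
noncomputable def coset (i : Fin 122760) : Cfsg.Spor.ON ⧸ HH :=
  nodeVal ga base CosetCertON90Data.cert (CosetCertON90Link.node i)

theorem coset_zero : coset 0 = base := by
  have : CosetCertON90Link.node ((0 : Fin 122760) : Nat) = 0 := by decide +kernel
  rw [coset, this, nodeVal_zero]

theorem im_lt {x i : Nat} (hx : x < 8) (hi : i < 122760) : im x i < 122760 := ((ok_spec i hi).1 x hx).1

theorem coset_im {x : Nat} (hx : x < 7) (i : Fin 122760) :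
    coset ⟨im x i, im_lt (by omega) i.2⟩ = ga x • coset i := by
  have h := linked i i.2
  simp only [CosetCertON90Link.linkOk, Bool.and_eq_true] at h
  have he := (allFrom_iff _ _ _).mp h.1 x (Nat.zero_le x) (by omega)
  simp only [CosetCertON90Link.linkOne, force_eq, Bool.and_eq_true, Bool.or_eq_true, Nat.blt_eq,
    Nat.beq_eq] at he
  obtain ⟨hf, hc⟩ := he
  have hs := CosetCertON90.valid.sound ga base ctx _ hf
  unfold Sem at hs
  unfold coset
  rcases hc with ⟨⟨c, p⟩, q⟩ | ⟨⟨c, p⟩, q⟩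
  · rw [if_neg (by omega), p, q, show fc (CosetCertON90Data.cert.fact _) - 1 = x by omega] at hs
    exact hs.symm
  · rw [if_neg (by omega), p, q,
      show fc (CosetCertON90Data.cert.fact _) - 1 = CosetCertDir90.flp x by omega, ga_inv,
      inv_smul_eq_iff] at hs
    exact hs

theorem rep_gg {x : Nat} (hx : x < 8) : rep (gg x) = prm x := by
  interval_cases x
  any_goals exact PresentedGroup.toGroup.of _
  show rep (PresentedGroup.of Cfsg.Spor.ON.Gen.g)⁻¹ = prm 7
  rw [map_inv, prm_seven]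
  exact congrArg _ (PresentedGroup.toGroup.of _)

theorem coset_equiv (k : Cfsg.Spor.ON) : ∀ i, coset (rep k i) = k • coset i := by
  have hk : k ∈ Subgroup.closure (Set.range
      (PresentedGroup.of : Cfsg.Spor.ON.Gen → Cfsg.Spor.ON)) := by
    rw [PresentedGroup.closure_range_of]; exact Subgroup.mem_top _
  induction hk using Subgroup.closure_induction with
  | mem y hy =>
    obtain ⟨s, rfl⟩ := hy
    obtain ⟨x, hx, hs⟩ : ∃ x < 7, gg x = PresentedGroup.of s := by
      cases s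
      exacts [⟨6, by norm_num, rfl⟩, ⟨0, by norm_num, rfl⟩, ⟨1, by norm_num, rfl⟩, ⟨2, by norm_num, rfl⟩,
        ⟨3, by norm_num, rfl⟩, ⟨4, by norm_num, rfl⟩, ⟨5, by norm_num, rfl⟩]
    intro i
    rw [← hs, rep_gg (by omega)]
    have h := coset_im hx (prm x i)
    have hi : (⟨im x (prm x i : Fin 122760), im_lt (by omega) (prm x i).2⟩ : Fin 122760) = i := by
      apply Fin.ext
      show im x (prm x i : Fin 122760) = _
      rw [← prm_symm (by omega : x < 8), Equiv.Perm.inv_def, Equiv.symm_apply_apply]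
    rw [hi] at h
    rw [h, ga, smul_smul, mul_inv_cancel, one_smul]
  | one => intro i; simp
  | mul a b _ _ ha hb => intro i; rw [map_mul, Equiv.Perm.mul_apply, ha, hb, mul_smul]
  | inv a _ ha =>
    intro i
    have := ha (rep a⁻¹ i)
    rw [← Equiv.Perm.mul_apply, ← map_mul, mul_inv_cancel, map_one, Equiv.Perm.one_apply] at this
    rw [this, inv_smul_smul]

theorem letters_fix : ∀ x < 6, im x 0 = 0 := by decide +kernel

theorem rep_fix {k : Cfsg.Spor.ON} (hk : k ∈ HH) : rep k 0 = 0 := by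
  have h : HH ≤ (MulAction.stabilizer (Equiv.Perm (Fin 122760)) (0 : Fin 122760)).comap rep := by
    rw [← ONSubgroup64.psi_range, MonoidHom.range_eq_map, ← PresentedGroup.closure_range_of,
      MonoidHom.map_closure, Subgroup.closure_le]
    rintro _ ⟨_, ⟨i, rfl⟩, rfl⟩
    rw [SetLike.mem_coe, Subgroup.mem_comap, MulAction.mem_stabilizer_iff, ONSubgroup64.psi_of,
      Equiv.Perm.smul_def]
    have hg : PresentedGroup.of (node i) = gg i := by unfold gg; rw [dif_pos i.2]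
    rw [hg, rep_gg (i.2.trans (by norm_num)), ← Equiv.Perm.eq_inv_iff_eq]
    apply Fin.ext
    rw [prm_symm (i.2.trans (by norm_num))]
    exact (letters_fix i i.2).symm
  exact h hk

theorem exists_rep_eq : ∀ i : Fin 122760, ∃ k, rep k 0 = i := by
  rintro ⟨i, hi⟩
  induction i using Nat.strong_induction_on with
  | _ i ih =>
    by_cases h0 : i = 0
    · subst h0; exact ⟨1, by rw [map_one]; rfl⟩
    · have h := linked i hi
      simp only [CosetCertON90Link.linkOk, force_eq, Bool.and_eq_true, Bool.or_eq_true, Nat.blt_eq,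
        Nat.beq_eq] at h
      obtain ⟨⟨hp, hx⟩, hpx⟩ := h.2.resolve_left h0
      obtain ⟨k, hk⟩ := ih _ hp (hp.trans hi)
      refine ⟨(gg (Nat.land (entry CosetCertON90Link.parTbl 24 i) 15))⁻¹ * k, Fin.ext ?_⟩
      rw [map_mul, map_inv, rep_gg hx, Equiv.Perm.mul_apply, hk, prm_symm hx]
      exact hpx

/-- The action on the points is the action on the cosets. -/
theorem exists_equiv : ∃ φ : Fin 122760 ≃ Cfsg.Spor.ON ⧸ HH,
    φ 0 = ((1 : Cfsg.Spor.ON) : Cfsg.Spor.ON ⧸ HH) ∧ ∀ k i, φ (rep k i) = k • φ i := by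
  let back : Cfsg.Spor.ON ⧸ HH → Fin 122760 := fun q => Quotient.liftOn' q (fun k => rep k 0) (by
    intro a b hab
    rw [QuotientGroup.leftRel_apply] at hab
    have := congrArg (rep a) (rep_fix hab)
    rw [← Equiv.Perm.mul_apply, ← map_mul, mul_inv_cancel_left] at this
    exact this.symm)
  have hc : ∀ k, coset (rep k 0) = (k : Cfsg.Spor.ON ⧸ HH) := by
    intro k
    rw [coset_equiv, coset_zero]
    show ((k * 1 : Cfsg.Spor.ON) : Cfsg.Spor.ON ⧸ HH) = _
    rw [mul_one]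
  refine ⟨⟨coset, back, fun i => ?_, fun q => ?_⟩, coset_zero, coset_equiv⟩
  · obtain ⟨k, rfl⟩ := exists_rep_eq i
    rw [hc]
    rfl
  · induction q using QuotientGroup.induction_on with
    | H k => exact hc k

theorem index_HH : HH.index = 122760 := by
  obtain ⟨φ, -, -⟩ := exists_equiv
  rw [Subgroup.index, ← Nat.card_congr φ, Nat.card_fin]

end Cfsg.Agent.ONIndex90
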