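import Cfsg.Agent.Lib.ONOrbitData90

/-! The orbit sizes of the table of the presented O'Nan group. -/

set_option autoImplicit false
set_option maxRecDepth 100000
set_option Elab.async false

namespace Cfsg.Agent.ONOrbit90Count

open Cfsg.Agent.CosetCertCore Cfsg.Agent.ONOrbitData90

/-- Number of points from `lo` on, `n` of them, with label `k`. -/
noncomputable def cnt (k n : Nat) : Nat → Nat :=
  Nat.rec (motive := fun _ => Nat → Nat) (fun _ => 0)
    (fun _ ih lo => cond (Nat.beq (lab lo) k) (force (lo + 1) ih + 1) (force (lo + 1) ih)) n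

theorem count_succ (k n : Nat) :
    count k (n + 1) = cond (Nat.beq (lab n) k) (count k n + 1) (count k n) := rfl

theorem cnt_succ (k n lo : Nat) :
    cnt k (n + 1) lo = cond (Nat.beq (lab lo) k) (cnt k n (lo + 1) + 1) (cnt k n (lo + 1)) := by
  simp only [cnt, force_eq]

theorem count_add (k n : Nat) : ∀ lo, count k (lo + n) = count k lo + cnt k n lo := by
  induction n with
  | zero => intro lo; rfl
  | succ n ih =>
    intro lo
    rw [show lo + (n + 1) = lo + 1 + n by omega, ih, cnt_succ, count_succ]
    cases Nat.beq (lab lo) k <;> simp only [cond_true, cond_false] <;> omega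

theorem step {k lo n v w m u : Nat} (h : count k lo = v) (h' : cnt k n lo = w) (hm : Nat.beq (lo + n) m = true)
    (hu : Nat.beq (v + w) u = true) : count k m = u := by
  rw [← Nat.beq_eq.mp hm, ← Nat.beq_eq.mp hu, count_add, h, h']

theorem cnt0_0 : cnt 0 4096 0 = 1 := by decide +kernel

theorem cnt0_1 : cnt 0 4096 4096 = 0 := by decide +kernel

theorem cnt0_2 : cnt 0 4096 8192 = 0 := by decide +kernel

theorem cnt0_3 : cnt 0 4096 12288 = 0 := by decide +kernel

theorem cnt0_4 : cnt 0 4096 16384 = 0 := by decide +kernel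

theorem cnt0_5 : cnt 0 4096 20480 = 0 := by decide +kernel

theorem cnt0_6 : cnt 0 4096 24576 = 0 := by decide +kernel

theorem cnt0_7 : cnt 0 4096 28672 = 0 := by decide +kernel

theorem cnt0_8 : cnt 0 4096 32768 = 0 := by decide +kernel

theorem cnt0_9 : cnt 0 4096 36864 = 0 := by decide +kernel

theorem cnt0_10 : cnt 0 4096 40960 = 0 := by decide +kernel

theorem cnt0_11 : cnt 0 4096 45056 = 0 := by decide +kernel

theorem cnt0_12 : cnt 0 4096 49152 = 0 := by decide +kernel

theorem cnt0_13 : cnt 0 4096 53248 = 0 := by decide +kernel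

theorem cnt0_14 : cnt 0 4096 57344 = 0 := by decide +kernel

theorem cnt0_15 : cnt 0 4096 61440 = 0 := by decide +kernel

theorem cnt0_16 : cnt 0 4096 65536 = 0 := by decide +kernel

theorem cnt0_17 : cnt 0 4096 69632 = 0 := by decide +kernel

theorem cnt0_18 : cnt 0 4096 73728 = 0 := by decide +kernel

theorem cnt0_19 : cnt 0 4096 77824 = 0 := by decide +kernel

theorem cnt0_20 : cnt 0 4096 81920 = 0 := by decide +kernel

theorem cnt0_21 : cnt 0 4096 86016 = 0 := by decide +kernel

theorem cnt0_22 : cnt 0 4096 90112 = 0 := by decide +kernel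

theorem cnt0_23 : cnt 0 4096 94208 = 0 := by decide +kernel

theorem cnt0_24 : cnt 0 4096 98304 = 0 := by decide +kernel

theorem cnt0_25 : cnt 0 4096 102400 = 0 := by decide +kernel

theorem cnt0_26 : cnt 0 4096 106496 = 0 := by decide +kernel

theorem cnt0_27 : cnt 0 4096 110592 = 0 := by decide +kernel

theorem cnt0_28 : cnt 0 4096 114688 = 0 := by decide +kernel

theorem cnt0_29 : cnt 0 3976 118784 = 0 := by decide +kernel

theorem count0 : count 0 122760 = 1 := by
  have h : count 0 0 = 0 := rfl
  replace h : count 0 4096 = 1 := step h cnt0_0 rfl rfl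
  replace h : count 0 8192 = 1 := step h cnt0_1 rfl rfl
  replace h : count 0 12288 = 1 := step h cnt0_2 rfl rfl
  replace h : count 0 16384 = 1 := step h cnt0_3 rfl rfl
  replace h : count 0 20480 = 1 := step h cnt0_4 rfl rfl
  replace h : count 0 24576 = 1 := step h cnt0_5 rfl rfl
  replace h : count 0 28672 = 1 := step h cnt0_6 rfl rfl
  replace h : count 0 32768 = 1 := step h cnt0_7 rfl rfl
  replace h : count 0 36864 = 1 := step h cnt0_8 rfl rfl
  replace h : count 0 40960 = 1 := step h cnt0_9 rfl rfl
  replace h : count 0 45056 = 1 := step h cnt0_10 rfl rfl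
  replace h : count 0 49152 = 1 := step h cnt0_11 rfl rfl
  replace h : count 0 53248 = 1 := step h cnt0_12 rfl rfl
  replace h : count 0 57344 = 1 := step h cnt0_13 rfl rfl
  replace h : count 0 61440 = 1 := step h cnt0_14 rfl rfl
  replace h : count 0 65536 = 1 := step h cnt0_15 rfl rfl
  replace h : count 0 69632 = 1 := step h cnt0_16 rfl rfl
  replace h : count 0 73728 = 1 := step h cnt0_17 rfl rfl
  replace h : count 0 77824 = 1 := step h cnt0_18 rfl rfl
  replace h : count 0 81920 = 1 := step h cnt0_19 rfl rfl
  replace h : count 0 86016 = 1 := step h cnt0_20 rfl rfl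
  replace h : count 0 90112 = 1 := step h cnt0_21 rfl rfl
  replace h : count 0 94208 = 1 := step h cnt0_22 rfl rfl
  replace h : count 0 98304 = 1 := step h cnt0_23 rfl rfl
  replace h : count 0 102400 = 1 := step h cnt0_24 rfl rfl
  replace h : count 0 106496 = 1 := step h cnt0_25 rfl rfl
  replace h : count 0 110592 = 1 := step h cnt0_26 rfl rfl
  replace h : count 0 114688 = 1 := step h cnt0_27 rfl rfl
  replace h : count 0 118784 = 1 := step h cnt0_28 rfl rfl
  replace h : count 0 122760 = 1 := step h cnt0_29 rfl rfl
  exact h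

theorem cnt1_0 : cnt 1 4096 0 = 2058 := by decide +kernel

theorem cnt1_1 : cnt 1 4096 4096 = 1885 := by decide +kernel

theorem cnt1_2 : cnt 1 4096 8192 = 1588 := by decide +kernel

theorem cnt1_3 : cnt 1 4096 12288 = 1847 := by decide +kernel

theorem cnt1_4 : cnt 1 4096 16384 = 1767 := by decide +kernel

theorem cnt1_5 : cnt 1 4096 20480 = 1678 := by decide +kernel

theorem cnt1_6 : cnt 1 4096 24576 = 1635 := by decide +kernel

theorem cnt1_7 : cnt 1 4096 28672 = 1707 := by decide +kernel

theorem cnt1_8 : cnt 1 4096 32768 = 2022 := by decide +kernel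

theorem cnt1_9 : cnt 1 4096 36864 = 2171 := by decide +kernel

theorem cnt1_10 : cnt 1 4096 40960 = 2080 := by decide +kernel

theorem cnt1_11 : cnt 1 4096 45056 = 1981 := by decide +kernel

theorem cnt1_12 : cnt 1 4096 49152 = 1836 := by decide +kernel

theorem cnt1_13 : cnt 1 4096 53248 = 1852 := by decide +kernel

theorem cnt1_14 : cnt 1 4096 57344 = 1988 := by decide +kernel

theorem cnt1_15 : cnt 1 4096 61440 = 1827 := by decide +kernel

theorem cnt1_16 : cnt 1 4096 65536 = 1812 := by decide +kernel

theorem cnt1_17 : cnt 1 4096 69632 = 1849 := by decide +kernel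

theorem cnt1_18 : cnt 1 4096 73728 = 1931 := by decide +kernel

theorem cnt1_19 : cnt 1 4096 77824 = 1894 := by decide +kernel

theorem cnt1_20 : cnt 1 4096 81920 = 1894 := by decide +kernel

theorem cnt1_21 : cnt 1 4096 86016 = 1835 := by decide +kernel

theorem cnt1_22 : cnt 1 4096 90112 = 1970 := by decide +kernel

theorem cnt1_23 : cnt 1 4096 94208 = 2197 := by decide +kernel

theorem cnt1_24 : cnt 1 4096 98304 = 2092 := by decide +kernel

theorem cnt1_25 : cnt 1 4096 102400 = 2056 := by decide +kernel

theorem cnt1_26 : cnt 1 4096 106496 = 2348 := by decide +kernel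

theorem cnt1_27 : cnt 1 4096 110592 = 2182 := by decide +kernel

theorem cnt1_28 : cnt 1 4096 114688 = 2250 := by decide +kernel

theorem cnt1_29 : cnt 1 3976 118784 = 2421 := by decide +kernel

theorem count1 : count 1 122760 = 58653 := by
  have h : count 1 0 = 0 := rfl
  replace h : count 1 4096 = 2058 := step h cnt1_0 rfl rfl
  replace h : count 1 8192 = 3943 := step h cnt1_1 rfl rfl
  replace h : count 1 12288 = 5531 := step h cnt1_2 rfl rfl
  replace h : count 1 16384 = 7378 := step h cnt1_3 rfl rfl
  replace h : count 1 20480 = 9145 := step h cnt1_4 rfl rfl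
  replace h : count 1 24576 = 10823 := step h cnt1_5 rfl rfl
  replace h : count 1 28672 = 12458 := step h cnt1_6 rfl rfl
  replace h : count 1 32768 = 14165 := step h cnt1_7 rfl rfl
  replace h : count 1 36864 = 16187 := step h cnt1_8 rfl rfl
  replace h : count 1 40960 = 18358 := step h cnt1_9 rfl rfl
  replace h : count 1 45056 = 20438 := step h cnt1_10 rfl rfl
  replace h : count 1 49152 = 22419 := step h cnt1_11 rfl rfl
  replace h : count 1 53248 = 24255 := step h cnt1_12 rfl rfl
  replace h : count 1 57344 = 26107 := step h cnt1_13 rfl rfl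
  replace h : count 1 61440 = 28095 := step h cnt1_14 rfl rfl
  replace h : count 1 65536 = 29922 := step h cnt1_15 rfl rfl
  replace h : count 1 69632 = 31734 := step h cnt1_16 rfl rfl
  replace h : count 1 73728 = 33583 := step h cnt1_17 rfl rfl
  replace h : count 1 77824 = 35514 := step h cnt1_18 rfl rfl
  replace h : count 1 81920 = 37408 := step h cnt1_19 rfl rfl
  replace h : count 1 86016 = 39302 := step h cnt1_20 rfl rfl
  replace h : count 1 90112 = 41137 := step h cnt1_21 rfl rfl
  replace h : count 1 94208 = 43107 := step h cnt1_22 rfl rfl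
  replace h : count 1 98304 = 45304 := step h cnt1_23 rfl rfl
  replace h : count 1 102400 = 47396 := step h cnt1_24 rfl rfl
  replace h : count 1 106496 = 49452 := step h cnt1_25 rfl rfl
  replace h : count 1 110592 = 51800 := step h cnt1_26 rfl rfl
  replace h : count 1 114688 = 53982 := step h cnt1_27 rfl rfl
  replace h : count 1 118784 = 56232 := step h cnt1_28 rfl rfl
  replace h : count 1 122760 = 58653 := step h cnt1_29 rfl rfl
  exact h

theorem cnt2_0 : cnt 2 4096 0 = 275 := by decide +kernel

theorem cnt2_1 : cnt 2 4096 4096 = 193 := by decide +kernel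

theorem cnt2_2 : cnt 2 4096 8192 = 178 := by decide +kernel

theorem cnt2_3 : cnt 2 4096 12288 = 109 := by decide +kernel

theorem cnt2_4 : cnt 2 4096 16384 = 115 := by decide +kernel

theorem cnt2_5 : cnt 2 4096 20480 = 194 := by decide +kernel

theorem cnt2_6 : cnt 2 4096 24576 = 244 := by decide +kernel

theorem cnt2_7 : cnt 2 4096 28672 = 338 := by decide +kernel

theorem cnt2_8 : cnt 2 4096 32768 = 242 := by decide +kernel

theorem cnt2_9 : cnt 2 4096 36864 = 274 := by decide +kernel

theorem cnt2_10 : cnt 2 4096 40960 = 123 := by decide +kernel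

theorem cnt2_11 : cnt 2 4096 45056 = 204 := by decide +kernel

theorem cnt2_12 : cnt 2 4096 49152 = 184 := by decide +kernel

theorem cnt2_13 : cnt 2 4096 53248 = 172 := by decide +kernel

theorem cnt2_14 : cnt 2 4096 57344 = 221 := by decide +kernel

theorem cnt2_15 : cnt 2 4096 61440 = 197 := by decide +kernel

theorem cnt2_16 : cnt 2 4096 65536 = 136 := by decide +kernel

theorem cnt2_17 : cnt 2 4096 69632 = 95 := by decide +kernel

theorem cnt2_18 : cnt 2 4096 73728 = 226 := by decide +kernel

theorem cnt2_19 : cnt 2 4096 77824 = 271 := by decide +kernel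

theorem cnt2_20 : cnt 2 4096 81920 = 154 := by decide +kernel

theorem cnt2_21 : cnt 2 4096 86016 = 183 := by decide +kernel

theorem cnt2_22 : cnt 2 4096 90112 = 126 := by decide +kernel

theorem cnt2_23 : cnt 2 4096 94208 = 103 := by decide +kernel

theorem cnt2_24 : cnt 2 4096 98304 = 141 := by decide +kernel

theorem cnt2_25 : cnt 2 4096 102400 = 141 := by decide +kernel

theorem cnt2_26 : cnt 2 4096 106496 = 139 := by decide +kernel

theorem cnt2_27 : cnt 2 4096 110592 = 193 := by decide +kernel

theorem cnt2_28 : cnt 2 4096 114688 = 206 := by decide +kernel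

theorem cnt2_29 : cnt 2 3976 118784 = 209 := by decide +kernel

theorem count2 : count 2 122760 = 5586 := by
  have h : count 2 0 = 0 := rfl
  replace h : count 2 4096 = 275 := step h cnt2_0 rfl rfl
  replace h : count 2 8192 = 468 := step h cnt2_1 rfl rfl
  replace h : count 2 12288 = 646 := step h cnt2_2 rfl rfl
  replace h : count 2 16384 = 755 := step h cnt2_3 rfl rfl
  replace h : count 2 20480 = 870 := step h cnt2_4 rfl rfl
  replace h : count 2 24576 = 1064 := step h cnt2_5 rfl rfl
  replace h : count 2 28672 = 1308 := step h cnt2_6 rfl rfl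
  replace h : count 2 32768 = 1646 := step h cnt2_7 rfl rfl
  replace h : count 2 36864 = 1888 := step h cnt2_8 rfl rfl
  replace h : count 2 40960 = 2162 := step h cnt2_9 rfl rfl
  replace h : count 2 45056 = 2285 := step h cnt2_10 rfl rfl
  replace h : count 2 49152 = 2489 := step h cnt2_11 rfl rfl
  replace h : count 2 53248 = 2673 := step h cnt2_12 rfl rfl
  replace h : count 2 57344 = 2845 := step h cnt2_13 rfl rfl
  replace h : count 2 61440 = 3066 := step h cnt2_14 rfl rfl
  replace h : count 2 65536 = 3263 := step h cnt2_15 rfl rfl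
  replace h : count 2 69632 = 3399 := step h cnt2_16 rfl rfl
  replace h : count 2 73728 = 3494 := step h cnt2_17 rfl rfl
  replace h : count 2 77824 = 3720 := step h cnt2_18 rfl rfl
  replace h : count 2 81920 = 3991 := step h cnt2_19 rfl rfl
  replace h : count 2 86016 = 4145 := step h cnt2_20 rfl rfl
  replace h : count 2 90112 = 4328 := step h cnt2_21 rfl rfl
  replace h : count 2 94208 = 4454 := step h cnt2_22 rfl rfl
  replace h : count 2 98304 = 4557 := step h cnt2_23 rfl rfl
  replace h : count 2 102400 = 4698 := step h cnt2_24 rfl rfl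
  replace h : count 2 106496 = 4839 := step h cnt2_25 rfl rfl
  replace h : count 2 110592 = 4978 := step h cnt2_26 rfl rfl
  replace h : count 2 114688 = 5171 := step h cnt2_27 rfl rfl
  replace h : count 2 118784 = 5377 := step h cnt2_28 rfl rfl
  replace h : count 2 122760 = 5586 := step h cnt2_29 rfl rfl
  exact h

theorem cnt3_0 : cnt 3 4096 0 = 1319 := by decide +kernel

theorem cnt3_1 : cnt 3 4096 4096 = 1739 := by decide +kernel

theorem cnt3_2 : cnt 3 4096 8192 = 2057 := by decide +kernel

theorem cnt3_3 : cnt 3 4096 12288 = 1938 := by decide +kernel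

theorem cnt3_4 : cnt 3 4096 16384 = 1990 := by decide +kernel

theorem cnt3_5 : cnt 3 4096 20480 = 2065 := by decide +kernel

theorem cnt3_6 : cnt 3 4096 24576 = 2049 := by decide +kernel

theorem cnt3_7 : cnt 3 4096 28672 = 1881 := by decide +kernel

theorem cnt3_8 : cnt 3 4096 32768 = 1655 := by decide +kernel

theorem cnt3_9 : cnt 3 4096 36864 = 1279 := by decide +kernel

theorem cnt3_10 : cnt 3 4096 40960 = 1751 := by decide +kernel

theorem cnt3_11 : cnt 3 4096 45056 = 1732 := by decide +kernel

theorem cnt3_12 : cnt 3 4096 49152 = 1796 := by decide +kernel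

theorem cnt3_13 : cnt 3 4096 53248 = 1952 := by decide +kernel

theorem cnt3_14 : cnt 3 4096 57344 = 1683 := by decide +kernel

theorem cnt3_15 : cnt 3 4096 61440 = 1813 := by decide +kernel

theorem cnt3_16 : cnt 3 4096 65536 = 1900 := by decide +kernel

theorem cnt3_17 : cnt 3 4096 69632 = 1955 := by decide +kernel

theorem cnt3_18 : cnt 3 4096 73728 = 1725 := by decide +kernel

theorem cnt3_19 : cnt 3 4096 77824 = 1764 := by decide +kernel

theorem cnt3_20 : cnt 3 4096 81920 = 1861 := by decide +kernel

theorem cnt3_21 : cnt 3 4096 86016 = 1830 := by decide +kernel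

theorem cnt3_22 : cnt 3 4096 90112 = 1764 := by decide +kernel

theorem cnt3_23 : cnt 3 4096 94208 = 1568 := by decide +kernel

theorem cnt3_24 : cnt 3 4096 98304 = 1677 := by decide +kernel

theorem cnt3_25 : cnt 3 4096 102400 = 1672 := by decide +kernel

theorem cnt3_26 : cnt 3 4096 106496 = 1458 := by decide +kernel

theorem cnt3_27 : cnt 3 4096 110592 = 1569 := by decide +kernel

theorem cnt3_28 : cnt 3 4096 114688 = 1485 := by decide +kernel

theorem cnt3_29 : cnt 3 3976 118784 = 1209 := by decide +kernel

theorem count3 : count 3 122760 = 52136 := by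
  have h : count 3 0 = 0 := rfl
  replace h : count 3 4096 = 1319 := step h cnt3_0 rfl rfl
  replace h : count 3 8192 = 3058 := step h cnt3_1 rfl rfl
  replace h : count 3 12288 = 5115 := step h cnt3_2 rfl rfl
  replace h : count 3 16384 = 7053 := step h cnt3_3 rfl rfl
  replace h : count 3 20480 = 9043 := step h cnt3_4 rfl rfl
  replace h : count 3 24576 = 11108 := step h cnt3_5 rfl rfl
  replace h : count 3 28672 = 13157 := step h cnt3_6 rfl rfl
  replace h : count 3 32768 = 15038 := step h cnt3_7 rfl rfl
  replace h : count 3 36864 = 16693 := step h cnt3_8 rfl rfl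
  replace h : count 3 40960 = 17972 := step h cnt3_9 rfl rfl
  replace h : count 3 45056 = 19723 := step h cnt3_10 rfl rfl
  replace h : count 3 49152 = 21455 := step h cnt3_11 rfl rfl
  replace h : count 3 53248 = 23251 := step h cnt3_12 rfl rfl
  replace h : count 3 57344 = 25203 := step h cnt3_13 rfl rfl
  replace h : count 3 61440 = 26886 := step h cnt3_14 rfl rfl
  replace h : count 3 65536 = 28699 := step h cnt3_15 rfl rfl
  replace h : count 3 69632 = 30599 := step h cnt3_16 rfl rfl
  replace h : count 3 73728 = 32554 := step h cnt3_17 rfl rfl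
  replace h : count 3 77824 = 34279 := step h cnt3_18 rfl rfl
  replace h : count 3 81920 = 36043 := step h cnt3_19 rfl rfl
  replace h : count 3 86016 = 37904 := step h cnt3_20 rfl rfl
  replace h : count 3 90112 = 39734 := step h cnt3_21 rfl rfl
  replace h : count 3 94208 = 41498 := step h cnt3_22 rfl rfl
  replace h : count 3 98304 = 43066 := step h cnt3_23 rfl rfl
  replace h : count 3 102400 = 44743 := step h cnt3_24 rfl rfl
  replace h : count 3 106496 = 46415 := step h cnt3_25 rfl rfl
  replace h : count 3 110592 = 47873 := step h cnt3_26 rfl rfl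
  replace h : count 3 114688 = 49442 := step h cnt3_27 rfl rfl
  replace h : count 3 118784 = 50927 := step h cnt3_28 rfl rfl
  replace h : count 3 122760 = 52136 := step h cnt3_29 rfl rfl
  exact h

theorem cnt4_0 : cnt 4 4096 0 = 443 := by decide +kernel

theorem cnt4_1 : cnt 4 4096 4096 = 279 := by decide +kernel

theorem cnt4_2 : cnt 4 4096 8192 = 273 := by decide +kernel

theorem cnt4_3 : cnt 4 4096 12288 = 202 := by decide +kernel

theorem cnt4_4 : cnt 4 4096 16384 = 224 := by decide +kernel

theorem cnt4_5 : cnt 4 4096 20480 = 159 := by decide +kernel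

theorem cnt4_6 : cnt 4 4096 24576 = 168 := by decide +kernel

theorem cnt4_7 : cnt 4 4096 28672 = 170 := by decide +kernel

theorem cnt4_8 : cnt 4 4096 32768 = 177 := by decide +kernel

theorem cnt4_9 : cnt 4 4096 36864 = 372 := by decide +kernel

theorem cnt4_10 : cnt 4 4096 40960 = 142 := by decide +kernel

theorem cnt4_11 : cnt 4 4096 45056 = 179 := by decide +kernel

theorem cnt4_12 : cnt 4 4096 49152 = 280 := by decide +kernel

theorem cnt4_13 : cnt 4 4096 53248 = 120 := by decide +kernel

theorem cnt4_14 : cnt 4 4096 57344 = 204 := by decide +kernel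

theorem cnt4_15 : cnt 4 4096 61440 = 259 := by decide +kernel

theorem cnt4_16 : cnt 4 4096 65536 = 248 := by decide +kernel

theorem cnt4_17 : cnt 4 4096 69632 = 197 := by decide +kernel

theorem cnt4_18 : cnt 4 4096 73728 = 214 := by decide +kernel

theorem cnt4_19 : cnt 4 4096 77824 = 167 := by decide +kernel

theorem cnt4_20 : cnt 4 4096 81920 = 187 := by decide +kernel

theorem cnt4_21 : cnt 4 4096 86016 = 248 := by decide +kernel

theorem cnt4_22 : cnt 4 4096 90112 = 236 := by decide +kernel

theorem cnt4_23 : cnt 4 4096 94208 = 228 := by decide +kernel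

theorem cnt4_24 : cnt 4 4096 98304 = 186 := by decide +kernel

theorem cnt4_25 : cnt 4 4096 102400 = 227 := by decide +kernel

theorem cnt4_26 : cnt 4 4096 106496 = 151 := by decide +kernel

theorem cnt4_27 : cnt 4 4096 110592 = 152 := by decide +kernel

theorem cnt4_28 : cnt 4 4096 114688 = 155 := by decide +kernel

theorem cnt4_29 : cnt 4 3976 118784 = 137 := by decide +kernel

theorem count4 : count 4 122760 = 6384 := by
  have h : count 4 0 = 0 := rfl
  replace h : count 4 4096 = 443 := step h cnt4_0 rfl rfl
  replace h : count 4 8192 = 722 := step h cnt4_1 rfl rfl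
  replace h : count 4 12288 = 995 := step h cnt4_2 rfl rfl
  replace h : count 4 16384 = 1197 := step h cnt4_3 rfl rfl
  replace h : count 4 20480 = 1421 := step h cnt4_4 rfl rfl
  replace h : count 4 24576 = 1580 := step h cnt4_5 rfl rfl
  replace h : count 4 28672 = 1748 := step h cnt4_6 rfl rfl
  replace h : count 4 32768 = 1918 := step h cnt4_7 rfl rfl
  replace h : count 4 36864 = 2095 := step h cnt4_8 rfl rfl
  replace h : count 4 40960 = 2467 := step h cnt4_9 rfl rfl
  replace h : count 4 45056 = 2609 := step h cnt4_10 rfl rfl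
  replace h : count 4 49152 = 2788 := step h cnt4_11 rfl rfl
  replace h : count 4 53248 = 3068 := step h cnt4_12 rfl rfl
  replace h : count 4 57344 = 3188 := step h cnt4_13 rfl rfl
  replace h : count 4 61440 = 3392 := step h cnt4_14 rfl rfl
  replace h : count 4 65536 = 3651 := step h cnt4_15 rfl rfl
  replace h : count 4 69632 = 3899 := step h cnt4_16 rfl rfl
  replace h : count 4 73728 = 4096 := step h cnt4_17 rfl rfl
  replace h : count 4 77824 = 4310 := step h cnt4_18 rfl rfl
  replace h : count 4 81920 = 4477 := step h cnt4_19 rfl rfl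
  replace h : count 4 86016 = 4664 := step h cnt4_20 rfl rfl
  replace h : count 4 90112 = 4912 := step h cnt4_21 rfl rfl
  replace h : count 4 94208 = 5148 := step h cnt4_22 rfl rfl
  replace h : count 4 98304 = 5376 := step h cnt4_23 rfl rfl
  replace h : count 4 102400 = 5562 := step h cnt4_24 rfl rfl
  replace h : count 4 106496 = 5789 := step h cnt4_25 rfl rfl
  replace h : count 4 110592 = 5940 := step h cnt4_26 rfl rfl
  replace h : count 4 114688 = 6092 := step h cnt4_27 rfl rfl
  replace h : count 4 118784 = 6247 := step h cnt4_28 rfl rfl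
  replace h : count 4 122760 = 6384 := step h cnt4_29 rfl rfl
  exact h

end Cfsg.Agent.ONOrbit90Count
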