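import Cfsg.Agent.Lib.ONOrbitData90

/-! Checks of the orbit data, part 1. -/

set_option autoImplicit false
set_option maxRecDepth 100000
set_option Elab.async false

namespace Cfsg.Agent.ONOrbit90P1

open Cfsg.Agent.CosetCertTable Cfsg.Agent.ONOrbitData90

theorem orb0 : allFrom orbOk 256 30720 = true := by decide +kernel

theorem orb1 : allFrom orbOk 256 30976 = true := by decide +kernel

theorem orb2 : allFrom orbOk 256 31232 = true := by decide +kernel

theorem orb3 : allFrom orbOk 256 31488 = true := by decide +kernel

theorem orb4 : allFrom orbOk 256 31744 = true := by decide +kernel

theorem orb5 : allFrom orbOk 256 32000 = true := by decide +kernel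

theorem orb6 : allFrom orbOk 256 32256 = true := by decide +kernel

theorem orb7 : allFrom orbOk 256 32512 = true := by decide +kernel

theorem orb8 : allFrom orbOk 256 32768 = true := by decide +kernel

theorem orb9 : allFrom orbOk 256 33024 = true := by decide +kernel

theorem orb10 : allFrom orbOk 256 33280 = true := by decide +kernel

theorem orb11 : allFrom orbOk 256 33536 = true := by decide +kernel

theorem orb12 : allFrom orbOk 256 33792 = true := by decide +kernel

theorem orb13 : allFrom orbOk 256 34048 = true := by decide +kernel

theorem orb14 : allFrom orbOk 256 34304 = true := by decide +kernel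

theorem orb15 : allFrom orbOk 256 34560 = true := by decide +kernel

theorem orb16 : allFrom orbOk 256 34816 = true := by decide +kernel

theorem orb17 : allFrom orbOk 256 35072 = true := by decide +kernel

theorem orb18 : allFrom orbOk 256 35328 = true := by decide +kernel

theorem orb19 : allFrom orbOk 256 35584 = true := by decide +kernel

theorem orb20 : allFrom orbOk 256 35840 = true := by decide +kernel

theorem orb21 : allFrom orbOk 256 36096 = true := by decide +kernel

theorem orb22 : allFrom orbOk 256 36352 = true := by decide +kernel

theorem orb23 : allFrom orbOk 256 36608 = true := by decide +kernel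

theorem orb24 : allFrom orbOk 256 36864 = true := by decide +kernel

theorem orb25 : allFrom orbOk 256 37120 = true := by decide +kernel

theorem orb26 : allFrom orbOk 256 37376 = true := by decide +kernel

theorem orb27 : allFrom orbOk 256 37632 = true := by decide +kernel

theorem orb28 : allFrom orbOk 256 37888 = true := by decide +kernel

theorem orb29 : allFrom orbOk 256 38144 = true := by decide +kernel

theorem orb30 : allFrom orbOk 256 38400 = true := by decide +kernel

theorem orb31 : allFrom orbOk 256 38656 = true := by decide +kernel

theorem orb32 : allFrom orbOk 256 38912 = true := by decide +kernel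

theorem orb33 : allFrom orbOk 256 39168 = true := by decide +kernel

theorem orb34 : allFrom orbOk 256 39424 = true := by decide +kernel

theorem orb35 : allFrom orbOk 256 39680 = true := by decide +kernel

theorem orb36 : allFrom orbOk 256 39936 = true := by decide +kernel

theorem orb37 : allFrom orbOk 256 40192 = true := by decide +kernel

theorem orb38 : allFrom orbOk 256 40448 = true := by decide +kernel

theorem orb39 : allFrom orbOk 256 40704 = true := by decide +kernel

theorem orb40 : allFrom orbOk 256 40960 = true := by decide +kernel

theorem orb41 : allFrom orbOk 256 41216 = true := by decide +kernel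

theorem orb42 : allFrom orbOk 256 41472 = true := by decide +kernel

theorem orb43 : allFrom orbOk 256 41728 = true := by decide +kernel

theorem orb44 : allFrom orbOk 256 41984 = true := by decide +kernel

theorem orb45 : allFrom orbOk 256 42240 = true := by decide +kernel

theorem orb46 : allFrom orbOk 256 42496 = true := by decide +kernel

theorem orb47 : allFrom orbOk 256 42752 = true := by decide +kernel

theorem orb48 : allFrom orbOk 256 43008 = true := by decide +kernel

theorem orb49 : allFrom orbOk 256 43264 = true := by decide +kernel

theorem orb50 : allFrom orbOk 256 43520 = true := by decide +kernel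

theorem orb51 : allFrom orbOk 256 43776 = true := by decide +kernel

theorem orb52 : allFrom orbOk 256 44032 = true := by decide +kernel

theorem orb53 : allFrom orbOk 256 44288 = true := by decide +kernel

theorem orb54 : allFrom orbOk 256 44544 = true := by decide +kernel

theorem orb55 : allFrom orbOk 256 44800 = true := by decide +kernel

theorem orb56 : allFrom orbOk 256 45056 = true := by decide +kernel

theorem orb57 : allFrom orbOk 256 45312 = true := by decide +kernel

theorem orb58 : allFrom orbOk 256 45568 = true := by decide +kernel

theorem orb59 : allFrom orbOk 256 45824 = true := by decide +kernel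

theorem orb60 : allFrom orbOk 256 46080 = true := by decide +kernel

theorem orb61 : allFrom orbOk 256 46336 = true := by decide +kernel

theorem orb62 : allFrom orbOk 256 46592 = true := by decide +kernel

theorem orb63 : allFrom orbOk 256 46848 = true := by decide +kernel

theorem orb64 : allFrom orbOk 256 47104 = true := by decide +kernel

theorem orb65 : allFrom orbOk 256 47360 = true := by decide +kernel

theorem orb66 : allFrom orbOk 256 47616 = true := by decide +kernel

theorem orb67 : allFrom orbOk 256 47872 = true := by decide +kernel

theorem orb68 : allFrom orbOk 256 48128 = true := by decide +kernel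

theorem orb69 : allFrom orbOk 256 48384 = true := by decide +kernel

theorem orb70 : allFrom orbOk 256 48640 = true := by decide +kernel

theorem orb71 : allFrom orbOk 256 48896 = true := by decide +kernel

theorem orb72 : allFrom orbOk 256 49152 = true := by decide +kernel

theorem orb73 : allFrom orbOk 256 49408 = true := by decide +kernel

theorem orb74 : allFrom orbOk 256 49664 = true := by decide +kernel

theorem orb75 : allFrom orbOk 256 49920 = true := by decide +kernel

theorem orb76 : allFrom orbOk 256 50176 = true := by decide +kernel

theorem orb77 : allFrom orbOk 256 50432 = true := by decide +kernel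

theorem orb78 : allFrom orbOk 256 50688 = true := by decide +kernel

theorem orb79 : allFrom orbOk 256 50944 = true := by decide +kernel

theorem orb80 : allFrom orbOk 256 51200 = true := by decide +kernel

theorem orb81 : allFrom orbOk 256 51456 = true := by decide +kernel

theorem orb82 : allFrom orbOk 256 51712 = true := by decide +kernel

theorem orb83 : allFrom orbOk 256 51968 = true := by decide +kernel

theorem orb84 : allFrom orbOk 256 52224 = true := by decide +kernel

theorem orb85 : allFrom orbOk 256 52480 = true := by decide +kernel

theorem orb86 : allFrom orbOk 256 52736 = true := by decide +kernel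

theorem orb87 : allFrom orbOk 256 52992 = true := by decide +kernel

theorem orb88 : allFrom orbOk 256 53248 = true := by decide +kernel

theorem orb89 : allFrom orbOk 256 53504 = true := by decide +kernel

theorem orb90 : allFrom orbOk 256 53760 = true := by decide +kernel

theorem orb91 : allFrom orbOk 256 54016 = true := by decide +kernel

theorem orb92 : allFrom orbOk 256 54272 = true := by decide +kernel

theorem orb93 : allFrom orbOk 256 54528 = true := by decide +kernel

theorem orb94 : allFrom orbOk 256 54784 = true := by decide +kernel

theorem orb95 : allFrom orbOk 256 55040 = true := by decide +kernel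

theorem orb96 : allFrom orbOk 256 55296 = true := by decide +kernel

theorem orb97 : allFrom orbOk 256 55552 = true := by decide +kernel

theorem orb98 : allFrom orbOk 256 55808 = true := by decide +kernel

theorem orb99 : allFrom orbOk 256 56064 = true := by decide +kernel

theorem orb100 : allFrom orbOk 256 56320 = true := by decide +kernel

theorem orb101 : allFrom orbOk 256 56576 = true := by decide +kernel

theorem orb102 : allFrom orbOk 256 56832 = true := by decide +kernel

theorem orb103 : allFrom orbOk 256 57088 = true := by decide +kernel

theorem orb104 : allFrom orbOk 256 57344 = true := by decide +kernel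

theorem orb105 : allFrom orbOk 256 57600 = true := by decide +kernel

theorem orb106 : allFrom orbOk 256 57856 = true := by decide +kernel

theorem orb107 : allFrom orbOk 256 58112 = true := by decide +kernel

theorem orb108 : allFrom orbOk 256 58368 = true := by decide +kernel

theorem orb109 : allFrom orbOk 256 58624 = true := by decide +kernel

theorem orb110 : allFrom orbOk 256 58880 = true := by decide +kernel

theorem orb111 : allFrom orbOk 256 59136 = true := by decide +kernel

theorem orb112 : allFrom orbOk 256 59392 = true := by decide +kernel

theorem orb113 : allFrom orbOk 256 59648 = true := by decide +kernel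

theorem orb114 : allFrom orbOk 256 59904 = true := by decide +kernel

theorem orb115 : allFrom orbOk 256 60160 = true := by decide +kernel

theorem orb116 : allFrom orbOk 256 60416 = true := by decide +kernel

theorem orb117 : allFrom orbOk 256 60672 = true := by decide +kernel

theorem orb118 : allFrom orbOk 256 60928 = true := by decide +kernel

theorem orb119 : allFrom orbOk 256 61184 = true := by decide +kernel

/-- The points below 61440 pass. -/
theorem block (h : AllBelow orbOk 30720) : AllBelow orbOk 61440 := by
  replace h : AllBelow orbOk 30976 := h.step 256 orb0
  replace h : AllBelow orbOk 31232 := h.step 256 orb1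
  replace h : AllBelow orbOk 31488 := h.step 256 orb2
  replace h : AllBelow orbOk 31744 := h.step 256 orb3
  replace h : AllBelow orbOk 32000 := h.step 256 orb4
  replace h : AllBelow orbOk 32256 := h.step 256 orb5
  replace h : AllBelow orbOk 32512 := h.step 256 orb6
  replace h : AllBelow orbOk 32768 := h.step 256 orb7
  replace h : AllBelow orbOk 33024 := h.step 256 orb8
  replace h : AllBelow orbOk 33280 := h.step 256 orb9
  replace h : AllBelow orbOk 33536 := h.step 256 orb10
  replace h : AllBelow orbOk 33792 := h.step 256 orb11
  replace h : AllBelow orbOk 34048 := h.step 256 orb12
  replace h : AllBelow orbOk 34304 := h.step 256 orb13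
  replace h : AllBelow orbOk 34560 := h.step 256 orb14
  replace h : AllBelow orbOk 34816 := h.step 256 orb15
  replace h : AllBelow orbOk 35072 := h.step 256 orb16
  replace h : AllBelow orbOk 35328 := h.step 256 orb17
  replace h : AllBelow orbOk 35584 := h.step 256 orb18
  replace h : AllBelow orbOk 35840 := h.step 256 orb19
  replace h : AllBelow orbOk 36096 := h.step 256 orb20
  replace h : AllBelow orbOk 36352 := h.step 256 orb21
  replace h : AllBelow orbOk 36608 := h.step 256 orb22
  replace h : AllBelow orbOk 36864 := h.step 256 orb23
  replace h : AllBelow orbOk 37120 := h.step 256 orb24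
  replace h : AllBelow orbOk 37376 := h.step 256 orb25
  replace h : AllBelow orbOk 37632 := h.step 256 orb26
  replace h : AllBelow orbOk 37888 := h.step 256 orb27
  replace h : AllBelow orbOk 38144 := h.step 256 orb28
  replace h : AllBelow orbOk 38400 := h.step 256 orb29
  replace h : AllBelow orbOk 38656 := h.step 256 orb30
  replace h : AllBelow orbOk 38912 := h.step 256 orb31
  replace h : AllBelow orbOk 39168 := h.step 256 orb32
  replace h : AllBelow orbOk 39424 := h.step 256 orb33
  replace h : AllBelow orbOk 39680 := h.step 256 orb34
  replace h : AllBelow orbOk 39936 := h.step 256 orb35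
  replace h : AllBelow orbOk 40192 := h.step 256 orb36
  replace h : AllBelow orbOk 40448 := h.step 256 orb37
  replace h : AllBelow orbOk 40704 := h.step 256 orb38
  replace h : AllBelow orbOk 40960 := h.step 256 orb39
  replace h : AllBelow orbOk 41216 := h.step 256 orb40
  replace h : AllBelow orbOk 41472 := h.step 256 orb41
  replace h : AllBelow orbOk 41728 := h.step 256 orb42
  replace h : AllBelow orbOk 41984 := h.step 256 orb43
  replace h : AllBelow orbOk 42240 := h.step 256 orb44
  replace h : AllBelow orbOk 42496 := h.step 256 orb45
  replace h : AllBelow orbOk 42752 := h.step 256 orb46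
  replace h : AllBelow orbOk 43008 := h.step 256 orb47
  replace h : AllBelow orbOk 43264 := h.step 256 orb48
  replace h : AllBelow orbOk 43520 := h.step 256 orb49
  replace h : AllBelow orbOk 43776 := h.step 256 orb50
  replace h : AllBelow orbOk 44032 := h.step 256 orb51
  replace h : AllBelow orbOk 44288 := h.step 256 orb52
  replace h : AllBelow orbOk 44544 := h.step 256 orb53
  replace h : AllBelow orbOk 44800 := h.step 256 orb54
  replace h : AllBelow orbOk 45056 := h.step 256 orb55
  replace h : AllBelow orbOk 45312 := h.step 256 orb56
  replace h : AllBelow orbOk 45568 := h.step 256 orb57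
  replace h : AllBelow orbOk 45824 := h.step 256 orb58
  replace h : AllBelow orbOk 46080 := h.step 256 orb59
  replace h : AllBelow orbOk 46336 := h.step 256 orb60
  replace h : AllBelow orbOk 46592 := h.step 256 orb61
  replace h : AllBelow orbOk 46848 := h.step 256 orb62
  replace h : AllBelow orbOk 47104 := h.step 256 orb63
  replace h : AllBelow orbOk 47360 := h.step 256 orb64
  replace h : AllBelow orbOk 47616 := h.step 256 orb65
  replace h : AllBelow orbOk 47872 := h.step 256 orb66
  replace h : AllBelow orbOk 48128 := h.step 256 orb67
  replace h : AllBelow orbOk 48384 := h.step 256 orb68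
  replace h : AllBelow orbOk 48640 := h.step 256 orb69
  replace h : AllBelow orbOk 48896 := h.step 256 orb70
  replace h : AllBelow orbOk 49152 := h.step 256 orb71
  replace h : AllBelow orbOk 49408 := h.step 256 orb72
  replace h : AllBelow orbOk 49664 := h.step 256 orb73
  replace h : AllBelow orbOk 49920 := h.step 256 orb74
  replace h : AllBelow orbOk 50176 := h.step 256 orb75
  replace h : AllBelow orbOk 50432 := h.step 256 orb76
  replace h : AllBelow orbOk 50688 := h.step 256 orb77
  replace h : AllBelow orbOk 50944 := h.step 256 orb78
  replace h : AllBelow orbOk 51200 := h.step 256 orb79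
  replace h : AllBelow orbOk 51456 := h.step 256 orb80
  replace h : AllBelow orbOk 51712 := h.step 256 orb81
  replace h : AllBelow orbOk 51968 := h.step 256 orb82
  replace h : AllBelow orbOk 52224 := h.step 256 orb83
  replace h : AllBelow orbOk 52480 := h.step 256 orb84
  replace h : AllBelow orbOk 52736 := h.step 256 orb85
  replace h : AllBelow orbOk 52992 := h.step 256 orb86
  replace h : AllBelow orbOk 53248 := h.step 256 orb87
  replace h : AllBelow orbOk 53504 := h.step 256 orb88
  replace h : AllBelow orbOk 53760 := h.step 256 orb89
  replace h : AllBelow orbOk 54016 := h.step 256 orb90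
  replace h : AllBelow orbOk 54272 := h.step 256 orb91
  replace h : AllBelow orbOk 54528 := h.step 256 orb92
  replace h : AllBelow orbOk 54784 := h.step 256 orb93
  replace h : AllBelow orbOk 55040 := h.step 256 orb94
  replace h : AllBelow orbOk 55296 := h.step 256 orb95
  replace h : AllBelow orbOk 55552 := h.step 256 orb96
  replace h : AllBelow orbOk 55808 := h.step 256 orb97
  replace h : AllBelow orbOk 56064 := h.step 256 orb98
  replace h : AllBelow orbOk 56320 := h.step 256 orb99
  replace h : AllBelow orbOk 56576 := h.step 256 orb100
  replace h : AllBelow orbOk 56832 := h.step 256 orb101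
  replace h : AllBelow orbOk 57088 := h.step 256 orb102
  replace h : AllBelow orbOk 57344 := h.step 256 orb103
  replace h : AllBelow orbOk 57600 := h.step 256 orb104
  replace h : AllBelow orbOk 57856 := h.step 256 orb105
  replace h : AllBelow orbOk 58112 := h.step 256 orb106
  replace h : AllBelow orbOk 58368 := h.step 256 orb107
  replace h : AllBelow orbOk 58624 := h.step 256 orb108
  replace h : AllBelow orbOk 58880 := h.step 256 orb109
  replace h : AllBelow orbOk 59136 := h.step 256 orb110
  replace h : AllBelow orbOk 59392 := h.step 256 orb111
  replace h : AllBelow orbOk 59648 := h.step 256 orb112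
  replace h : AllBelow orbOk 59904 := h.step 256 orb113
  replace h : AllBelow orbOk 60160 := h.step 256 orb114
  replace h : AllBelow orbOk 60416 := h.step 256 orb115
  replace h : AllBelow orbOk 60672 := h.step 256 orb116
  replace h : AllBelow orbOk 60928 := h.step 256 orb117
  replace h : AllBelow orbOk 61184 := h.step 256 orb118
  replace h : AllBelow orbOk 61440 := h.step 256 orb119
  exact h

end Cfsg.Agent.ONOrbit90P1
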