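import Cfsg.Agent.Lib.ONOrbitData90

/-! Checks of the orbit data, part 2. -/

set_option autoImplicit false
set_option maxRecDepth 100000
set_option Elab.async false

namespace Cfsg.Agent.ONOrbit90P2

open Cfsg.Agent.CosetCertTable Cfsg.Agent.ONOrbitData90

theorem orb0 : allFrom orbOk 256 61440 = true := by decide +kernel

theorem orb1 : allFrom orbOk 256 61696 = true := by decide +kernel

theorem orb2 : allFrom orbOk 256 61952 = true := by decide +kernel

theorem orb3 : allFrom orbOk 256 62208 = true := by decide +kernel

theorem orb4 : allFrom orbOk 256 62464 = true := by decide +kernel

theorem orb5 : allFrom orbOk 256 62720 = true := by decide +kernel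

theorem orb6 : allFrom orbOk 256 62976 = true := by decide +kernel

theorem orb7 : allFrom orbOk 256 63232 = true := by decide +kernel

theorem orb8 : allFrom orbOk 256 63488 = true := by decide +kernel

theorem orb9 : allFrom orbOk 256 63744 = true := by decide +kernel

theorem orb10 : allFrom orbOk 256 64000 = true := by decide +kernel

theorem orb11 : allFrom orbOk 256 64256 = true := by decide +kernel

theorem orb12 : allFrom orbOk 256 64512 = true := by decide +kernel

theorem orb13 : allFrom orbOk 256 64768 = true := by decide +kernel

theorem orb14 : allFrom orbOk 256 65024 = true := by decide +kernel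

theorem orb15 : allFrom orbOk 256 65280 = true := by decide +kernel

theorem orb16 : allFrom orbOk 256 65536 = true := by decide +kernel

theorem orb17 : allFrom orbOk 256 65792 = true := by decide +kernel

theorem orb18 : allFrom orbOk 256 66048 = true := by decide +kernel

theorem orb19 : allFrom orbOk 256 66304 = true := by decide +kernel

theorem orb20 : allFrom orbOk 256 66560 = true := by decide +kernel

theorem orb21 : allFrom orbOk 256 66816 = true := by decide +kernel

theorem orb22 : allFrom orbOk 256 67072 = true := by decide +kernel

theorem orb23 : allFrom orbOk 256 67328 = true := by decide +kernel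

theorem orb24 : allFrom orbOk 256 67584 = true := by decide +kernel

theorem orb25 : allFrom orbOk 256 67840 = true := by decide +kernel

theorem orb26 : allFrom orbOk 256 68096 = true := by decide +kernel

theorem orb27 : allFrom orbOk 256 68352 = true := by decide +kernel

theorem orb28 : allFrom orbOk 256 68608 = true := by decide +kernel

theorem orb29 : allFrom orbOk 256 68864 = true := by decide +kernel

theorem orb30 : allFrom orbOk 256 69120 = true := by decide +kernel

theorem orb31 : allFrom orbOk 256 69376 = true := by decide +kernel

theorem orb32 : allFrom orbOk 256 69632 = true := by decide +kernel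

theorem orb33 : allFrom orbOk 256 69888 = true := by decide +kernel

theorem orb34 : allFrom orbOk 256 70144 = true := by decide +kernel

theorem orb35 : allFrom orbOk 256 70400 = true := by decide +kernel

theorem orb36 : allFrom orbOk 256 70656 = true := by decide +kernel

theorem orb37 : allFrom orbOk 256 70912 = true := by decide +kernel

theorem orb38 : allFrom orbOk 256 71168 = true := by decide +kernel

theorem orb39 : allFrom orbOk 256 71424 = true := by decide +kernel

theorem orb40 : allFrom orbOk 256 71680 = true := by decide +kernel

theorem orb41 : allFrom orbOk 256 71936 = true := by decide +kernel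

theorem orb42 : allFrom orbOk 256 72192 = true := by decide +kernel

theorem orb43 : allFrom orbOk 256 72448 = true := by decide +kernel

theorem orb44 : allFrom orbOk 256 72704 = true := by decide +kernel

theorem orb45 : allFrom orbOk 256 72960 = true := by decide +kernel

theorem orb46 : allFrom orbOk 256 73216 = true := by decide +kernel

theorem orb47 : allFrom orbOk 256 73472 = true := by decide +kernel

theorem orb48 : allFrom orbOk 256 73728 = true := by decide +kernel

theorem orb49 : allFrom orbOk 256 73984 = true := by decide +kernel

theorem orb50 : allFrom orbOk 256 74240 = true := by decide +kernel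

theorem orb51 : allFrom orbOk 256 74496 = true := by decide +kernel

theorem orb52 : allFrom orbOk 256 74752 = true := by decide +kernel

theorem orb53 : allFrom orbOk 256 75008 = true := by decide +kernel

theorem orb54 : allFrom orbOk 256 75264 = true := by decide +kernel

theorem orb55 : allFrom orbOk 256 75520 = true := by decide +kernel

theorem orb56 : allFrom orbOk 256 75776 = true := by decide +kernel

theorem orb57 : allFrom orbOk 256 76032 = true := by decide +kernel

theorem orb58 : allFrom orbOk 256 76288 = true := by decide +kernel

theorem orb59 : allFrom orbOk 256 76544 = true := by decide +kernel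

theorem orb60 : allFrom orbOk 256 76800 = true := by decide +kernel

theorem orb61 : allFrom orbOk 256 77056 = true := by decide +kernel

theorem orb62 : allFrom orbOk 256 77312 = true := by decide +kernel

theorem orb63 : allFrom orbOk 256 77568 = true := by decide +kernel

theorem orb64 : allFrom orbOk 256 77824 = true := by decide +kernel

theorem orb65 : allFrom orbOk 256 78080 = true := by decide +kernel

theorem orb66 : allFrom orbOk 256 78336 = true := by decide +kernel

theorem orb67 : allFrom orbOk 256 78592 = true := by decide +kernel

theorem orb68 : allFrom orbOk 256 78848 = true := by decide +kernel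

theorem orb69 : allFrom orbOk 256 79104 = true := by decide +kernel

theorem orb70 : allFrom orbOk 256 79360 = true := by decide +kernel

theorem orb71 : allFrom orbOk 256 79616 = true := by decide +kernel

theorem orb72 : allFrom orbOk 256 79872 = true := by decide +kernel

theorem orb73 : allFrom orbOk 256 80128 = true := by decide +kernel

theorem orb74 : allFrom orbOk 256 80384 = true := by decide +kernel

theorem orb75 : allFrom orbOk 256 80640 = true := by decide +kernel

theorem orb76 : allFrom orbOk 256 80896 = true := by decide +kernel

theorem orb77 : allFrom orbOk 256 81152 = true := by decide +kernel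

theorem orb78 : allFrom orbOk 256 81408 = true := by decide +kernel

theorem orb79 : allFrom orbOk 256 81664 = true := by decide +kernel

theorem orb80 : allFrom orbOk 256 81920 = true := by decide +kernel

theorem orb81 : allFrom orbOk 256 82176 = true := by decide +kernel

theorem orb82 : allFrom orbOk 256 82432 = true := by decide +kernel

theorem orb83 : allFrom orbOk 256 82688 = true := by decide +kernel

theorem orb84 : allFrom orbOk 256 82944 = true := by decide +kernel

theorem orb85 : allFrom orbOk 256 83200 = true := by decide +kernel

theorem orb86 : allFrom orbOk 256 83456 = true := by decide +kernel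

theorem orb87 : allFrom orbOk 256 83712 = true := by decide +kernel

theorem orb88 : allFrom orbOk 256 83968 = true := by decide +kernel

theorem orb89 : allFrom orbOk 256 84224 = true := by decide +kernel

theorem orb90 : allFrom orbOk 256 84480 = true := by decide +kernel

theorem orb91 : allFrom orbOk 256 84736 = true := by decide +kernel

theorem orb92 : allFrom orbOk 256 84992 = true := by decide +kernel

theorem orb93 : allFrom orbOk 256 85248 = true := by decide +kernel

theorem orb94 : allFrom orbOk 256 85504 = true := by decide +kernel

theorem orb95 : allFrom orbOk 256 85760 = true := by decide +kernel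

theorem orb96 : allFrom orbOk 256 86016 = true := by decide +kernel

theorem orb97 : allFrom orbOk 256 86272 = true := by decide +kernel

theorem orb98 : allFrom orbOk 256 86528 = true := by decide +kernel

theorem orb99 : allFrom orbOk 256 86784 = true := by decide +kernel

theorem orb100 : allFrom orbOk 256 87040 = true := by decide +kernel

theorem orb101 : allFrom orbOk 256 87296 = true := by decide +kernel

theorem orb102 : allFrom orbOk 256 87552 = true := by decide +kernel

theorem orb103 : allFrom orbOk 256 87808 = true := by decide +kernel

theorem orb104 : allFrom orbOk 256 88064 = true := by decide +kernel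

theorem orb105 : allFrom orbOk 256 88320 = true := by decide +kernel

theorem orb106 : allFrom orbOk 256 88576 = true := by decide +kernel

theorem orb107 : allFrom orbOk 256 88832 = true := by decide +kernel

theorem orb108 : allFrom orbOk 256 89088 = true := by decide +kernel

theorem orb109 : allFrom orbOk 256 89344 = true := by decide +kernel

theorem orb110 : allFrom orbOk 256 89600 = true := by decide +kernel

theorem orb111 : allFrom orbOk 256 89856 = true := by decide +kernel

theorem orb112 : allFrom orbOk 256 90112 = true := by decide +kernel

theorem orb113 : allFrom orbOk 256 90368 = true := by decide +kernel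

theorem orb114 : allFrom orbOk 256 90624 = true := by decide +kernel

theorem orb115 : allFrom orbOk 256 90880 = true := by decide +kernel

theorem orb116 : allFrom orbOk 256 91136 = true := by decide +kernel

theorem orb117 : allFrom orbOk 256 91392 = true := by decide +kernel

theorem orb118 : allFrom orbOk 256 91648 = true := by decide +kernel

theorem orb119 : allFrom orbOk 256 91904 = true := by decide +kernel

/-- The points below 92160 pass. -/
theorem block (h : AllBelow orbOk 61440) : AllBelow orbOk 92160 := by
  replace h : AllBelow orbOk 61696 := h.step 256 orb0
  replace h : AllBelow orbOk 61952 := h.step 256 orb1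
  replace h : AllBelow orbOk 62208 := h.step 256 orb2
  replace h : AllBelow orbOk 62464 := h.step 256 orb3
  replace h : AllBelow orbOk 62720 := h.step 256 orb4
  replace h : AllBelow orbOk 62976 := h.step 256 orb5
  replace h : AllBelow orbOk 63232 := h.step 256 orb6
  replace h : AllBelow orbOk 63488 := h.step 256 orb7
  replace h : AllBelow orbOk 63744 := h.step 256 orb8
  replace h : AllBelow orbOk 64000 := h.step 256 orb9
  replace h : AllBelow orbOk 64256 := h.step 256 orb10
  replace h : AllBelow orbOk 64512 := h.step 256 orb11
  replace h : AllBelow orbOk 64768 := h.step 256 orb12
  replace h : AllBelow orbOk 65024 := h.step 256 orb13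
  replace h : AllBelow orbOk 65280 := h.step 256 orb14
  replace h : AllBelow orbOk 65536 := h.step 256 orb15
  replace h : AllBelow orbOk 65792 := h.step 256 orb16
  replace h : AllBelow orbOk 66048 := h.step 256 orb17
  replace h : AllBelow orbOk 66304 := h.step 256 orb18
  replace h : AllBelow orbOk 66560 := h.step 256 orb19
  replace h : AllBelow orbOk 66816 := h.step 256 orb20
  replace h : AllBelow orbOk 67072 := h.step 256 orb21
  replace h : AllBelow orbOk 67328 := h.step 256 orb22
  replace h : AllBelow orbOk 67584 := h.step 256 orb23
  replace h : AllBelow orbOk 67840 := h.step 256 orb24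
  replace h : AllBelow orbOk 68096 := h.step 256 orb25
  replace h : AllBelow orbOk 68352 := h.step 256 orb26
  replace h : AllBelow orbOk 68608 := h.step 256 orb27
  replace h : AllBelow orbOk 68864 := h.step 256 orb28
  replace h : AllBelow orbOk 69120 := h.step 256 orb29
  replace h : AllBelow orbOk 69376 := h.step 256 orb30
  replace h : AllBelow orbOk 69632 := h.step 256 orb31
  replace h : AllBelow orbOk 69888 := h.step 256 orb32
  replace h : AllBelow orbOk 70144 := h.step 256 orb33
  replace h : AllBelow orbOk 70400 := h.step 256 orb34
  replace h : AllBelow orbOk 70656 := h.step 256 orb35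
  replace h : AllBelow orbOk 70912 := h.step 256 orb36
  replace h : AllBelow orbOk 71168 := h.step 256 orb37
  replace h : AllBelow orbOk 71424 := h.step 256 orb38
  replace h : AllBelow orbOk 71680 := h.step 256 orb39
  replace h : AllBelow orbOk 71936 := h.step 256 orb40
  replace h : AllBelow orbOk 72192 := h.step 256 orb41
  replace h : AllBelow orbOk 72448 := h.step 256 orb42
  replace h : AllBelow orbOk 72704 := h.step 256 orb43
  replace h : AllBelow orbOk 72960 := h.step 256 orb44
  replace h : AllBelow orbOk 73216 := h.step 256 orb45
  replace h : AllBelow orbOk 73472 := h.step 256 orb46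
  replace h : AllBelow orbOk 73728 := h.step 256 orb47
  replace h : AllBelow orbOk 73984 := h.step 256 orb48
  replace h : AllBelow orbOk 74240 := h.step 256 orb49
  replace h : AllBelow orbOk 74496 := h.step 256 orb50
  replace h : AllBelow orbOk 74752 := h.step 256 orb51
  replace h : AllBelow orbOk 75008 := h.step 256 orb52
  replace h : AllBelow orbOk 75264 := h.step 256 orb53
  replace h : AllBelow orbOk 75520 := h.step 256 orb54
  replace h : AllBelow orbOk 75776 := h.step 256 orb55
  replace h : AllBelow orbOk 76032 := h.step 256 orb56
  replace h : AllBelow orbOk 76288 := h.step 256 orb57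
  replace h : AllBelow orbOk 76544 := h.step 256 orb58
  replace h : AllBelow orbOk 76800 := h.step 256 orb59
  replace h : AllBelow orbOk 77056 := h.step 256 orb60
  replace h : AllBelow orbOk 77312 := h.step 256 orb61
  replace h : AllBelow orbOk 77568 := h.step 256 orb62
  replace h : AllBelow orbOk 77824 := h.step 256 orb63
  replace h : AllBelow orbOk 78080 := h.step 256 orb64
  replace h : AllBelow orbOk 78336 := h.step 256 orb65
  replace h : AllBelow orbOk 78592 := h.step 256 orb66
  replace h : AllBelow orbOk 78848 := h.step 256 orb67
  replace h : AllBelow orbOk 79104 := h.step 256 orb68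
  replace h : AllBelow orbOk 79360 := h.step 256 orb69
  replace h : AllBelow orbOk 79616 := h.step 256 orb70
  replace h : AllBelow orbOk 79872 := h.step 256 orb71
  replace h : AllBelow orbOk 80128 := h.step 256 orb72
  replace h : AllBelow orbOk 80384 := h.step 256 orb73
  replace h : AllBelow orbOk 80640 := h.step 256 orb74
  replace h : AllBelow orbOk 80896 := h.step 256 orb75
  replace h : AllBelow orbOk 81152 := h.step 256 orb76
  replace h : AllBelow orbOk 81408 := h.step 256 orb77
  replace h : AllBelow orbOk 81664 := h.step 256 orb78
  replace h : AllBelow orbOk 81920 := h.step 256 orb79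
  replace h : AllBelow orbOk 82176 := h.step 256 orb80
  replace h : AllBelow orbOk 82432 := h.step 256 orb81
  replace h : AllBelow orbOk 82688 := h.step 256 orb82
  replace h : AllBelow orbOk 82944 := h.step 256 orb83
  replace h : AllBelow orbOk 83200 := h.step 256 orb84
  replace h : AllBelow orbOk 83456 := h.step 256 orb85
  replace h : AllBelow orbOk 83712 := h.step 256 orb86
  replace h : AllBelow orbOk 83968 := h.step 256 orb87
  replace h : AllBelow orbOk 84224 := h.step 256 orb88
  replace h : AllBelow orbOk 84480 := h.step 256 orb89
  replace h : AllBelow orbOk 84736 := h.step 256 orb90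
  replace h : AllBelow orbOk 84992 := h.step 256 orb91
  replace h : AllBelow orbOk 85248 := h.step 256 orb92
  replace h : AllBelow orbOk 85504 := h.step 256 orb93
  replace h : AllBelow orbOk 85760 := h.step 256 orb94
  replace h : AllBelow orbOk 86016 := h.step 256 orb95
  replace h : AllBelow orbOk 86272 := h.step 256 orb96
  replace h : AllBelow orbOk 86528 := h.step 256 orb97
  replace h : AllBelow orbOk 86784 := h.step 256 orb98
  replace h : AllBelow orbOk 87040 := h.step 256 orb99
  replace h : AllBelow orbOk 87296 := h.step 256 orb100
  replace h : AllBelow orbOk 87552 := h.step 256 orb101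
  replace h : AllBelow orbOk 87808 := h.step 256 orb102
  replace h : AllBelow orbOk 88064 := h.step 256 orb103
  replace h : AllBelow orbOk 88320 := h.step 256 orb104
  replace h : AllBelow orbOk 88576 := h.step 256 orb105
  replace h : AllBelow orbOk 88832 := h.step 256 orb106
  replace h : AllBelow orbOk 89088 := h.step 256 orb107
  replace h : AllBelow orbOk 89344 := h.step 256 orb108
  replace h : AllBelow orbOk 89600 := h.step 256 orb109
  replace h : AllBelow orbOk 89856 := h.step 256 orb110
  replace h : AllBelow orbOk 90112 := h.step 256 orb111
  replace h : AllBelow orbOk 90368 := h.step 256 orb112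
  replace h : AllBelow orbOk 90624 := h.step 256 orb113
  replace h : AllBelow orbOk 90880 := h.step 256 orb114
  replace h : AllBelow orbOk 91136 := h.step 256 orb115
  replace h : AllBelow orbOk 91392 := h.step 256 orb116
  replace h : AllBelow orbOk 91648 := h.step 256 orb117
  replace h : AllBelow orbOk 91904 := h.step 256 orb118
  replace h : AllBelow orbOk 92160 := h.step 256 orb119
  exact h

end Cfsg.Agent.ONOrbit90P2
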