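import Cfsg.Agent.Lib.ONOrbitData90

/-! Checks of the orbit data, part 3. -/

set_option autoImplicit false
set_option maxRecDepth 100000
set_option Elab.async false

namespace Cfsg.Agent.ONOrbit90P3

open Cfsg.Agent.CosetCertTable Cfsg.Agent.ONOrbitData90

theorem orb0 : allFrom orbOk 256 92160 = true := by decide +kernel

theorem orb1 : allFrom orbOk 256 92416 = true := by decide +kernel

theorem orb2 : allFrom orbOk 256 92672 = true := by decide +kernel

theorem orb3 : allFrom orbOk 256 92928 = true := by decide +kernel

theorem orb4 : allFrom orbOk 256 93184 = true := by decide +kernel

theorem orb5 : allFrom orbOk 256 93440 = true := by decide +kernel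

theorem orb6 : allFrom orbOk 256 93696 = true := by decide +kernel

theorem orb7 : allFrom orbOk 256 93952 = true := by decide +kernel

theorem orb8 : allFrom orbOk 256 94208 = true := by decide +kernel

theorem orb9 : allFrom orbOk 256 94464 = true := by decide +kernel

theorem orb10 : allFrom orbOk 256 94720 = true := by decide +kernel

theorem orb11 : allFrom orbOk 256 94976 = true := by decide +kernel

theorem orb12 : allFrom orbOk 256 95232 = true := by decide +kernel

theorem orb13 : allFrom orbOk 256 95488 = true := by decide +kernel

theorem orb14 : allFrom orbOk 256 95744 = true := by decide +kernel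

theorem orb15 : allFrom orbOk 256 96000 = true := by decide +kernel

theorem orb16 : allFrom orbOk 256 96256 = true := by decide +kernel

theorem orb17 : allFrom orbOk 256 96512 = true := by decide +kernel

theorem orb18 : allFrom orbOk 256 96768 = true := by decide +kernel

theorem orb19 : allFrom orbOk 256 97024 = true := by decide +kernel

theorem orb20 : allFrom orbOk 256 97280 = true := by decide +kernel

theorem orb21 : allFrom orbOk 256 97536 = true := by decide +kernel

theorem orb22 : allFrom orbOk 256 97792 = true := by decide +kernel

theorem orb23 : allFrom orbOk 256 98048 = true := by decide +kernel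

theorem orb24 : allFrom orbOk 256 98304 = true := by decide +kernel

theorem orb25 : allFrom orbOk 256 98560 = true := by decide +kernel

theorem orb26 : allFrom orbOk 256 98816 = true := by decide +kernel

theorem orb27 : allFrom orbOk 256 99072 = true := by decide +kernel

theorem orb28 : allFrom orbOk 256 99328 = true := by decide +kernel

theorem orb29 : allFrom orbOk 256 99584 = true := by decide +kernel

theorem orb30 : allFrom orbOk 256 99840 = true := by decide +kernel

theorem orb31 : allFrom orbOk 256 100096 = true := by decide +kernel

theorem orb32 : allFrom orbOk 256 100352 = true := by decide +kernel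

theorem orb33 : allFrom orbOk 256 100608 = true := by decide +kernel

theorem orb34 : allFrom orbOk 256 100864 = true := by decide +kernel

theorem orb35 : allFrom orbOk 256 101120 = true := by decide +kernel

theorem orb36 : allFrom orbOk 256 101376 = true := by decide +kernel

theorem orb37 : allFrom orbOk 256 101632 = true := by decide +kernel

theorem orb38 : allFrom orbOk 256 101888 = true := by decide +kernel

theorem orb39 : allFrom orbOk 256 102144 = true := by decide +kernel

theorem orb40 : allFrom orbOk 256 102400 = true := by decide +kernel

theorem orb41 : allFrom orbOk 256 102656 = true := by decide +kernel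

theorem orb42 : allFrom orbOk 256 102912 = true := by decide +kernel

theorem orb43 : allFrom orbOk 256 103168 = true := by decide +kernel

theorem orb44 : allFrom orbOk 256 103424 = true := by decide +kernel

theorem orb45 : allFrom orbOk 256 103680 = true := by decide +kernel

theorem orb46 : allFrom orbOk 256 103936 = true := by decide +kernel

theorem orb47 : allFrom orbOk 256 104192 = true := by decide +kernel

theorem orb48 : allFrom orbOk 256 104448 = true := by decide +kernel

theorem orb49 : allFrom orbOk 256 104704 = true := by decide +kernel

theorem orb50 : allFrom orbOk 256 104960 = true := by decide +kernel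

theorem orb51 : allFrom orbOk 256 105216 = true := by decide +kernel

theorem orb52 : allFrom orbOk 256 105472 = true := by decide +kernel

theorem orb53 : allFrom orbOk 256 105728 = true := by decide +kernel

theorem orb54 : allFrom orbOk 256 105984 = true := by decide +kernel

theorem orb55 : allFrom orbOk 256 106240 = true := by decide +kernel

theorem orb56 : allFrom orbOk 256 106496 = true := by decide +kernel

theorem orb57 : allFrom orbOk 256 106752 = true := by decide +kernel

theorem orb58 : allFrom orbOk 256 107008 = true := by decide +kernel

theorem orb59 : allFrom orbOk 256 107264 = true := by decide +kernel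

theorem orb60 : allFrom orbOk 256 107520 = true := by decide +kernel

theorem orb61 : allFrom orbOk 256 107776 = true := by decide +kernel

theorem orb62 : allFrom orbOk 256 108032 = true := by decide +kernel

theorem orb63 : allFrom orbOk 256 108288 = true := by decide +kernel

theorem orb64 : allFrom orbOk 256 108544 = true := by decide +kernel

theorem orb65 : allFrom orbOk 256 108800 = true := by decide +kernel

theorem orb66 : allFrom orbOk 256 109056 = true := by decide +kernel

theorem orb67 : allFrom orbOk 256 109312 = true := by decide +kernel

theorem orb68 : allFrom orbOk 256 109568 = true := by decide +kernel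

theorem orb69 : allFrom orbOk 256 109824 = true := by decide +kernel

theorem orb70 : allFrom orbOk 256 110080 = true := by decide +kernel

theorem orb71 : allFrom orbOk 256 110336 = true := by decide +kernel

theorem orb72 : allFrom orbOk 256 110592 = true := by decide +kernel

theorem orb73 : allFrom orbOk 256 110848 = true := by decide +kernel

theorem orb74 : allFrom orbOk 256 111104 = true := by decide +kernel

theorem orb75 : allFrom orbOk 256 111360 = true := by decide +kernel

theorem orb76 : allFrom orbOk 256 111616 = true := by decide +kernel

theorem orb77 : allFrom orbOk 256 111872 = true := by decide +kernel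

theorem orb78 : allFrom orbOk 256 112128 = true := by decide +kernel

theorem orb79 : allFrom orbOk 256 112384 = true := by decide +kernel

theorem orb80 : allFrom orbOk 256 112640 = true := by decide +kernel

theorem orb81 : allFrom orbOk 256 112896 = true := by decide +kernel

theorem orb82 : allFrom orbOk 256 113152 = true := by decide +kernel

theorem orb83 : allFrom orbOk 256 113408 = true := by decide +kernel

theorem orb84 : allFrom orbOk 256 113664 = true := by decide +kernel

theorem orb85 : allFrom orbOk 256 113920 = true := by decide +kernel

theorem orb86 : allFrom orbOk 256 114176 = true := by decide +kernel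

theorem orb87 : allFrom orbOk 256 114432 = true := by decide +kernel

theorem orb88 : allFrom orbOk 256 114688 = true := by decide +kernel

theorem orb89 : allFrom orbOk 256 114944 = true := by decide +kernel

theorem orb90 : allFrom orbOk 256 115200 = true := by decide +kernel

theorem orb91 : allFrom orbOk 256 115456 = true := by decide +kernel

theorem orb92 : allFrom orbOk 256 115712 = true := by decide +kernel

theorem orb93 : allFrom orbOk 256 115968 = true := by decide +kernel

theorem orb94 : allFrom orbOk 256 116224 = true := by decide +kernel

theorem orb95 : allFrom orbOk 256 116480 = true := by decide +kernel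

theorem orb96 : allFrom orbOk 256 116736 = true := by decide +kernel

theorem orb97 : allFrom orbOk 256 116992 = true := by decide +kernel

theorem orb98 : allFrom orbOk 256 117248 = true := by decide +kernel

theorem orb99 : allFrom orbOk 256 117504 = true := by decide +kernel

theorem orb100 : allFrom orbOk 256 117760 = true := by decide +kernel

theorem orb101 : allFrom orbOk 256 118016 = true := by decide +kernel

theorem orb102 : allFrom orbOk 256 118272 = true := by decide +kernel

theorem orb103 : allFrom orbOk 256 118528 = true := by decide +kernel

theorem orb104 : allFrom orbOk 256 118784 = true := by decide +kernel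

theorem orb105 : allFrom orbOk 256 119040 = true := by decide +kernel

theorem orb106 : allFrom orbOk 256 119296 = true := by decide +kernel

theorem orb107 : allFrom orbOk 256 119552 = true := by decide +kernel

theorem orb108 : allFrom orbOk 256 119808 = true := by decide +kernel

theorem orb109 : allFrom orbOk 256 120064 = true := by decide +kernel

theorem orb110 : allFrom orbOk 256 120320 = true := by decide +kernel

theorem orb111 : allFrom orbOk 256 120576 = true := by decide +kernel

theorem orb112 : allFrom orbOk 256 120832 = true := by decide +kernel

theorem orb113 : allFrom orbOk 256 121088 = true := by decide +kernel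

theorem orb114 : allFrom orbOk 256 121344 = true := by decide +kernel

theorem orb115 : allFrom orbOk 256 121600 = true := by decide +kernel

theorem orb116 : allFrom orbOk 256 121856 = true := by decide +kernel

theorem orb117 : allFrom orbOk 256 122112 = true := by decide +kernel

theorem orb118 : allFrom orbOk 256 122368 = true := by decide +kernel

theorem orb119 : allFrom orbOk 136 122624 = true := by decide +kernel

/-- The points below 122760 pass. -/
theorem block (h : AllBelow orbOk 92160) : AllBelow orbOk 122760 := by
  replace h : AllBelow orbOk 92416 := h.step 256 orb0
  replace h : AllBelow orbOk 92672 := h.step 256 orb1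
  replace h : AllBelow orbOk 92928 := h.step 256 orb2
  replace h : AllBelow orbOk 93184 := h.step 256 orb3
  replace h : AllBelow orbOk 93440 := h.step 256 orb4
  replace h : AllBelow orbOk 93696 := h.step 256 orb5
  replace h : AllBelow orbOk 93952 := h.step 256 orb6
  replace h : AllBelow orbOk 94208 := h.step 256 orb7
  replace h : AllBelow orbOk 94464 := h.step 256 orb8
  replace h : AllBelow orbOk 94720 := h.step 256 orb9
  replace h : AllBelow orbOk 94976 := h.step 256 orb10
  replace h : AllBelow orbOk 95232 := h.step 256 orb11
  replace h : AllBelow orbOk 95488 := h.step 256 orb12
  replace h : AllBelow orbOk 95744 := h.step 256 orb13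
  replace h : AllBelow orbOk 96000 := h.step 256 orb14
  replace h : AllBelow orbOk 96256 := h.step 256 orb15
  replace h : AllBelow orbOk 96512 := h.step 256 orb16
  replace h : AllBelow orbOk 96768 := h.step 256 orb17
  replace h : AllBelow orbOk 97024 := h.step 256 orb18
  replace h : AllBelow orbOk 97280 := h.step 256 orb19
  replace h : AllBelow orbOk 97536 := h.step 256 orb20
  replace h : AllBelow orbOk 97792 := h.step 256 orb21
  replace h : AllBelow orbOk 98048 := h.step 256 orb22
  replace h : AllBelow orbOk 98304 := h.step 256 orb23
  replace h : AllBelow orbOk 98560 := h.step 256 orb24
  replace h : AllBelow orbOk 98816 := h.step 256 orb25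
  replace h : AllBelow orbOk 99072 := h.step 256 orb26
  replace h : AllBelow orbOk 99328 := h.step 256 orb27
  replace h : AllBelow orbOk 99584 := h.step 256 orb28
  replace h : AllBelow orbOk 99840 := h.step 256 orb29
  replace h : AllBelow orbOk 100096 := h.step 256 orb30
  replace h : AllBelow orbOk 100352 := h.step 256 orb31
  replace h : AllBelow orbOk 100608 := h.step 256 orb32
  replace h : AllBelow orbOk 100864 := h.step 256 orb33
  replace h : AllBelow orbOk 101120 := h.step 256 orb34
  replace h : AllBelow orbOk 101376 := h.step 256 orb35
  replace h : AllBelow orbOk 101632 := h.step 256 orb36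
  replace h : AllBelow orbOk 101888 := h.step 256 orb37
  replace h : AllBelow orbOk 102144 := h.step 256 orb38
  replace h : AllBelow orbOk 102400 := h.step 256 orb39
  replace h : AllBelow orbOk 102656 := h.step 256 orb40
  replace h : AllBelow orbOk 102912 := h.step 256 orb41
  replace h : AllBelow orbOk 103168 := h.step 256 orb42
  replace h : AllBelow orbOk 103424 := h.step 256 orb43
  replace h : AllBelow orbOk 103680 := h.step 256 orb44
  replace h : AllBelow orbOk 103936 := h.step 256 orb45
  replace h : AllBelow orbOk 104192 := h.step 256 orb46
  replace h : AllBelow orbOk 104448 := h.step 256 orb47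
  replace h : AllBelow orbOk 104704 := h.step 256 orb48
  replace h : AllBelow orbOk 104960 := h.step 256 orb49
  replace h : AllBelow orbOk 105216 := h.step 256 orb50
  replace h : AllBelow orbOk 105472 := h.step 256 orb51
  replace h : AllBelow orbOk 105728 := h.step 256 orb52
  replace h : AllBelow orbOk 105984 := h.step 256 orb53
  replace h : AllBelow orbOk 106240 := h.step 256 orb54
  replace h : AllBelow orbOk 106496 := h.step 256 orb55
  replace h : AllBelow orbOk 106752 := h.step 256 orb56
  replace h : AllBelow orbOk 107008 := h.step 256 orb57
  replace h : AllBelow orbOk 107264 := h.step 256 orb58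
  replace h : AllBelow orbOk 107520 := h.step 256 orb59
  replace h : AllBelow orbOk 107776 := h.step 256 orb60
  replace h : AllBelow orbOk 108032 := h.step 256 orb61
  replace h : AllBelow orbOk 108288 := h.step 256 orb62
  replace h : AllBelow orbOk 108544 := h.step 256 orb63
  replace h : AllBelow orbOk 108800 := h.step 256 orb64
  replace h : AllBelow orbOk 109056 := h.step 256 orb65
  replace h : AllBelow orbOk 109312 := h.step 256 orb66
  replace h : AllBelow orbOk 109568 := h.step 256 orb67
  replace h : AllBelow orbOk 109824 := h.step 256 orb68
  replace h : AllBelow orbOk 110080 := h.step 256 orb69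
  replace h : AllBelow orbOk 110336 := h.step 256 orb70
  replace h : AllBelow orbOk 110592 := h.step 256 orb71
  replace h : AllBelow orbOk 110848 := h.step 256 orb72
  replace h : AllBelow orbOk 111104 := h.step 256 orb73
  replace h : AllBelow orbOk 111360 := h.step 256 orb74
  replace h : AllBelow orbOk 111616 := h.step 256 orb75
  replace h : AllBelow orbOk 111872 := h.step 256 orb76
  replace h : AllBelow orbOk 112128 := h.step 256 orb77
  replace h : AllBelow orbOk 112384 := h.step 256 orb78
  replace h : AllBelow orbOk 112640 := h.step 256 orb79
  replace h : AllBelow orbOk 112896 := h.step 256 orb80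
  replace h : AllBelow orbOk 113152 := h.step 256 orb81
  replace h : AllBelow orbOk 113408 := h.step 256 orb82
  replace h : AllBelow orbOk 113664 := h.step 256 orb83
  replace h : AllBelow orbOk 113920 := h.step 256 orb84
  replace h : AllBelow orbOk 114176 := h.step 256 orb85
  replace h : AllBelow orbOk 114432 := h.step 256 orb86
  replace h : AllBelow orbOk 114688 := h.step 256 orb87
  replace h : AllBelow orbOk 114944 := h.step 256 orb88
  replace h : AllBelow orbOk 115200 := h.step 256 orb89
  replace h : AllBelow orbOk 115456 := h.step 256 orb90
  replace h : AllBelow orbOk 115712 := h.step 256 orb91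
  replace h : AllBelow orbOk 115968 := h.step 256 orb92
  replace h : AllBelow orbOk 116224 := h.step 256 orb93
  replace h : AllBelow orbOk 116480 := h.step 256 orb94
  replace h : AllBelow orbOk 116736 := h.step 256 orb95
  replace h : AllBelow orbOk 116992 := h.step 256 orb96
  replace h : AllBelow orbOk 117248 := h.step 256 orb97
  replace h : AllBelow orbOk 117504 := h.step 256 orb98
  replace h : AllBelow orbOk 117760 := h.step 256 orb99
  replace h : AllBelow orbOk 118016 := h.step 256 orb100
  replace h : AllBelow orbOk 118272 := h.step 256 orb101
  replace h : AllBelow orbOk 118528 := h.step 256 orb102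
  replace h : AllBelow orbOk 118784 := h.step 256 orb103
  replace h : AllBelow orbOk 119040 := h.step 256 orb104
  replace h : AllBelow orbOk 119296 := h.step 256 orb105
  replace h : AllBelow orbOk 119552 := h.step 256 orb106
  replace h : AllBelow orbOk 119808 := h.step 256 orb107
  replace h : AllBelow orbOk 120064 := h.step 256 orb108
  replace h : AllBelow orbOk 120320 := h.step 256 orb109
  replace h : AllBelow orbOk 120576 := h.step 256 orb110
  replace h : AllBelow orbOk 120832 := h.step 256 orb111
  replace h : AllBelow orbOk 121088 := h.step 256 orb112
  replace h : AllBelow orbOk 121344 := h.step 256 orb113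
  replace h : AllBelow orbOk 121600 := h.step 256 orb114
  replace h : AllBelow orbOk 121856 := h.step 256 orb115
  replace h : AllBelow orbOk 122112 := h.step 256 orb116
  replace h : AllBelow orbOk 122368 := h.step 256 orb117
  replace h : AllBelow orbOk 122624 := h.step 256 orb118
  replace h : AllBelow orbOk 122760 := h.step 136 orb119
  exact h

end Cfsg.Agent.ONOrbit90P3
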