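import Cfsg.Agent.Lib.ONOrbit90P0
import Cfsg.Agent.Lib.ONOrbit90P1
import Cfsg.Agent.Lib.ONOrbit90P2
import Cfsg.Agent.Lib.ONOrbit90P3
import Cfsg.Agent.Lib.ONOrbit90Count
import Cfsg.Agent.Lib.ONIndex90
import Cfsg.Prelude.Def_Sporadic

/-! The presented O'Nan group: order, faithfulness on 122760 points, simplicity. -/

set_option autoImplicit false
set_option maxRecDepth 100000

namespace Cfsg.Agent.ONGroup90

open Cfsg.Agent.CosetCertCore Cfsg.Agent.CosetCertTable Cfsg.Agent.ONRep64 Cfsg.Agent.ONIndex90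
open Cfsg.Agent.ONModel64 (K L)
open Cfsg.Agent.ONSubgroup64 (HH psi theta_bijective)
open Cfsg.Agent.ONPermData64 (im)
open Cfsg.Agent.ONOrbitData90 (lab depth orbOk count roots)

theorem exists_iso : ∃ E : K ≃* HH, True := by
  haveI : Fact (Nat.Prime 7) := ⟨by norm_num⟩
  haveI : IsSimpleGroup L := PSLSimple.isSimpleGroup_PSL_fin (by omega) (by omega)
  let e : ONModel64.P6.Grp ≃* K := MulEquiv.ofBijective ONModel64.theta theta_bijective
  let χ : K →* Cfsg.Spor.ON := psi.comp e.symm.toMonoidHom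
  haveI : (χ.ker).Normal := MonoidHom.normal_ker _
  have hker : χ.ker = ⊥ := by
    refine ONModel64.normal_eq_bot _ fun y hy => ?_
    rcases (MonoidHom.normal_ker (χ.comp (SemidirectProduct.inl : L →* K))).eq_bot_or_eq_top with h | h
    · have : y ∈ (χ.comp (SemidirectProduct.inl : L →* K)).ker := hy
      rwa [h, Subgroup.mem_bot] at this
    · refine absurd ?_ ab_ne_one
      have hm : (QuotientGroup.mk (ONModel64.mat 0 * ONModel64.matT 1) : L) ∈
          (χ.comp (SemidirectProduct.inl : L →* K)).ker := h ▸ Subgroup.mem_top _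
      have he : e (ONModel64.P6.gg 0 * ONModel64.P6.gg 1) =
          SemidirectProduct.inl (QuotientGroup.mk (ONModel64.mat 0 * ONModel64.matT 1) : L) := by
        refine (show e (ONModel64.P6.gg 0 * ONModel64.P6.gg 1) = ONModel64.theta (ONModel64.P6.gg 0 * ONModel64.P6.gg 1)
          from MulEquiv.ofBijective_apply ..).trans ?_
        rw [map_mul, ONModel64.theta_gg 0 (by norm_num), ONModel64.theta_gg 1 (by norm_num), ONModel64.gm_mul]
      have h1 : psi (e.symm (SemidirectProduct.inl
          (QuotientGroup.mk (ONModel64.mat 0 * ONModel64.matT 1) : L))) = 1 := hm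
      rw [← he, MulEquiv.symm_apply_apply, map_mul] at h1
      exact h1
  have hrange : χ.range = HH := by
    rw [MonoidHom.range_comp, MonoidHom.range_eq_top.2 e.symm.surjective, ← MonoidHom.range_eq_map,
      ONSubgroup64.psi_range]
  exact ⟨(MonoidHom.ofInjective ((MonoidHom.ker_eq_bot_iff χ).1 hker)).trans
    (MulEquiv.subgroupCongr hrange), trivial⟩

theorem card_HH : Nat.card HH = 3753792 := by
  obtain ⟨E, -⟩ := exists_iso
  rw [← Nat.card_congr E.toEquiv, ONModel64.card_K]

theorem card_ON : Nat.card Cfsg.Spor.ON = 460815505920 := by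
  rw [← Subgroup.card_mul_index HH, card_HH, index_HH]

theorem finite_ON : Finite Cfsg.Spor.ON :=
  Nat.finite_of_card_ne_zero (by rw [card_ON]; norm_num)

/-- A homomorphism killing the squares of `ab`, `bc`, `de`, `ef` is trivial. -/
theorem collapse {Q : Type} [Group Q] (f : Cfsg.Spor.ON →* Q)
    (h : ∀ p ∈ [((0 : Nat), (1 : Nat)), (1, 2), (3, 4), (4, 5)], (f (gg p.1) * f (gg p.2)) ^ 2 = 1) :
    f = 1 := by
  have hv : ∀ w ∈ ONPermData64.words, val (fun x => f (gg x)) w = 1 := fun w hw => by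
    have := congrArg f (val_words hw)
    rw [map_one, val, map_list_prod, List.map_map] at this
    exact this
  have hs : ∀ x < 6, f (gg x) * f (gg x) = 1 := fun x hx => by rw [← map_mul, gg_sq hx, map_one]
  have heq : ∀ i j, i < 6 → [i, j, i, j, i, j] ∈ ONPermData64.words →
      (f (gg i) * f (gg j)) ^ 2 = 1 → f (gg j) = f (gg i) := by
    intro i j hi hw h2
    have h3 : (f (gg i) * f (gg j)) ^ 3 = 1 := by
      have := hv _ hw
      simp only [val_cons, val_nil, mul_one] at this
      rw [pow_succ, pow_two, ← this]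
      group
    rw [pow_succ, h2, one_mul] at h3
    exact (mul_left_cancel (a := f (gg i)) (h3.trans (hs i hi).symm))
  have e01 := heq 0 1 (by norm_num) (by decide) (h (0, 1) (by decide))
  have e12 := heq 1 2 (by norm_num) (by decide) (h (1, 2) (by decide))
  have e34 := heq 3 4 (by norm_num) (by decide) (h (3, 4) (by decide))
  have e45 := heq 4 5 (by norm_num) (by decide) (h (4, 5) (by decide))
  set x := f (gg 0) with hx
  set y := f (gg 3) with hy
  have hxx : x * x = 1 := hs 0 (by norm_num)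
  have hyy : y * y = 1 := hs 3 (by norm_num)
  have c := hv [0, 3, 0, 3] (by decide)
  have k1 := hv [0, 5, 3, 2, 3, 2, 3, 2, 3, 2] (by decide)
  simp only [val_cons, val_nil, mul_one, e01, e12, e34, e45, ← hx, ← hy] at c k1
  have hcomm : y * x = x * y := by
    have : y * x = (x * y)⁻¹ := by
      rw [mul_inv_rev, inv_eq_of_mul_eq_one_right hxx, inv_eq_of_mul_eq_one_right hyy]
    rw [this]
    exact inv_eq_of_mul_eq_one_right (by rw [← c]; group)
  have h4 : (y * x) ^ 4 = 1 := by
    have h2 : (y * x) ^ 2 = 1 := by rw [hcomm, pow_two, ← c]; group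
    rw [show 4 = 2 * 2 from rfl, pow_mul, h2, one_pow]
  have hxy : y = x := by
    have : x * y * (y * x) ^ 4 = 1 := by rw [← k1]; simp only [pow_succ, pow_zero, one_mul, mul_assoc]
    rw [h4, mul_one] at this
    exact mul_left_cancel (this.trans hxx.symm)
  set z := f (gg 6) with hz
  have e7 : f (gg 7) = z⁻¹ := by rw [hz, ← map_inv]; rfl
  have kz := hv [0, 5, 7, 7] (by decide)
  have kq := hv [6, 4, 3, 6, 3, 4, 6, 4, 3, 6, 3] (by decide)
  have k5 := hv [1, 2, 3, 6, 1, 2, 3, 6, 1, 2, 3, 6, 1, 2, 3, 6, 1, 2, 3, 6] (by decide)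
  simp only [val_cons, val_nil, mul_one, e01, e12, e34, e45, e7, ← hx, ← hy, ← hz, hxy] at kz kq k5
  rw [← mul_assoc, hxx, one_mul, ← mul_inv_rev, inv_eq_one] at kz
  have hxx' : ∀ t, x * (x * t) = t := fun t => by rw [← mul_assoc, hxx, one_mul]
  have hzz' : ∀ t, z * (z * t) = t := fun t => by rw [← mul_assoc, kz, one_mul]
  simp only [hxx', hzz'] at kq k5
  have hx1 : x = 1 := kq
  simp only [hx1, one_mul, hzz'] at k5
  have hz1 : z = 1 := k5
  apply MonoidHom.eq_of_eqOn_dense (PresentedGroup.closure_range_of _)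
  rintro _ ⟨s, rfl⟩
  rw [MonoidHom.one_apply]
  cases s
  · exact hz1
  · exact hx1
  · exact (show f (gg 1) = 1 by rw [e01, hx1])
  · exact (show f (gg 2) = 1 by rw [e12, e01, hx1])
  · exact (show f (gg 3) = 1 by rw [← hy, hxy, hx1])
  · exact (show f (gg 4) = 1 by rw [e34, hxy, hx1])
  · exact (show f (gg 5) = 1 by rw [e45, e34, hxy, hx1])

theorem orb_all : AllBelow orbOk 122760 := by
  have h : AllBelow orbOk 0 := AllBelow.zero _
  replace h := ONOrbit90P0.block h
  replace h := ONOrbit90P1.block h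
  replace h := ONOrbit90P2.block h
  replace h := ONOrbit90P3.block h
  exact h

theorem orb_spec (i : Nat) (hi : i < 122760) :
    lab i < 5 ∧ (∀ x < 6, lab (im x i) = lab i) ∧
    ((depth i = 0 ∧ roots.getD (lab i) 0 = i) ∨
      ∃ p x, p < 122760 ∧ x < 6 ∧ depth p < depth i ∧ im x p = i) := by
  have h := orb_all i hi
  simp only [orbOk, force_eq, Bool.and_eq_true, Nat.blt_eq] at h
  obtain ⟨⟨h1, h2⟩, h3⟩ := h
  refine ⟨h1, fun x hx => ?_, ?_⟩
  · have := (allFrom_iff _ _ _).mp h2 x (Nat.zero_le x) (by omega)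
    rw [Nat.beq_eq] at this
    exact this
  · by_cases hd : depth i = 0
    · have hb : Nat.beq (Nat.shiftRight (entry ONOrbitData90.orbTbl 32 i) 23) 0 = true := Nat.beq_eq.mpr hd
      rw [hb, cond_true, Nat.beq_eq] at h3
      exact Or.inl ⟨hd, h3⟩
    · have hb : Nat.beq (Nat.shiftRight (entry ONOrbitData90.orbTbl 32 i) 23) 0 = false := by
        rw [← Bool.not_eq_true, Nat.beq_eq]; exact hd
      rw [hb, cond_false] at h3
      simp only [Bool.and_eq_true, Nat.blt_eq, Nat.beq_eq] at h3
      obtain ⟨⟨⟨a, b⟩, c⟩, d⟩ := h3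
      exact Or.inr ⟨_, _, a, c, b, d⟩

theorem count_eq (k n : Nat) :
    count k n = ((Finset.range n).filter fun i => lab i = k).card := by
  induction n with
  | zero => rfl
  | succ n ih =>
    rw [Finset.range_add_one, Finset.filter_insert, ONOrbit90Count.count_succ]
    by_cases hk : lab n = k
    · rw [Nat.beq_eq.mpr hk, if_pos hk, cond_true, Finset.card_insert_of_notMem (by simp), ih]
    · have : Nat.beq (lab n) k = false := by
        rw [← Bool.not_eq_true, Nat.beq_eq]; exact hk
      rw [this, if_neg hk, cond_false, ih]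

theorem card_label (k : Nat) :
    (Finset.univ.filter fun i : Fin 122760 => lab i = k).card = count k 122760 := by
  rw [count_eq]
  refine Finset.card_bij (fun i _ => (i : Nat)) ?_ ?_ ?_
  · intro i hi
    simp only [Finset.mem_filter, Finset.mem_univ, true_and] at hi
    simp only [Finset.mem_filter, Finset.mem_range]
    exact ⟨i.2, hi⟩
  · intro i _ j _ h; exact Fin.ext h
  · intro b hb
    simp only [Finset.mem_filter, Finset.mem_range] at hb
    exact ⟨⟨b, hb.1⟩, by simpa using hb.2, rfl⟩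

/-- A set of points closed under the letters is a union of label classes. -/
theorem closed_label (S : Set (Fin 122760))
    (hS : ∀ x < 6, ∀ i ∈ S, prm x i ∈ S) (i j : Fin 122760) (hi : i ∈ S) (hij : lab i = lab j) :
    j ∈ S := by
  have hinv : ∀ x, ∀ hx : x < 6, ∀ i : Fin 122760, (⟨im x i, im_lt (by omega) i.2⟩ : Fin 122760) = prm x i := by
    intro x hx i
    rw [← prm_inv hx]
    exact Fin.ext (prm_symm (by omega) i).symm
  have hroot : ∀ n, ∀ i : Fin 122760, depth i < n →
      ∃ r : Fin 122760, (r : Nat) = roots.getD (lab i) 0 ∧ (i ∈ S ↔ r ∈ S) := by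
    intro n
    induction n with
    | zero => intro i hd; exact absurd hd (Nat.not_lt_zero _)
    | succ n ih =>
      intro i hd
      obtain ⟨-, -, hc⟩ := orb_spec i i.2
      rcases hc with ⟨-, hr⟩ | ⟨p, x, hp, hx, hdp, hpx⟩
      · exact ⟨i, hr.symm, Iff.rfl⟩
      · obtain ⟨r, hr, hrS⟩ := ih ⟨p, hp⟩ (by show depth p < n; omega)
        have hl : lab p = lab i := by rw [← hpx]; exact ((orb_spec p hp).2.1 x hx).symm
        have hmove : prm x ⟨p, hp⟩ = i := by rw [← hinv x hx]; exact Fin.ext hpx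
        refine ⟨r, by rw [hr, show lab ((⟨p, hp⟩ : Fin 122760) : Nat) = lab i from hl], ?_⟩
        rw [← hrS, ← hmove]
        refine ⟨fun h => ?_, fun h => hS x hx _ h⟩
        have h2 := hS x hx _ h
        rwa [← Equiv.Perm.mul_apply, prm_sq hx, Equiv.Perm.one_apply] at h2
  obtain ⟨r, hr, hri⟩ := hroot _ i (Nat.lt_succ_self _)
  obtain ⟨s, hs, hsj⟩ := hroot _ j (Nat.lt_succ_self _)
  have : r = s := Fin.ext (by rw [hr, hs, hij])
  exact hsj.2 (this ▸ hri.1 hi)

theorem label_sums : ∀ T ∈ (Finset.range 5).powerset, 0 ∈ T →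
    (∑ k ∈ T, [1, 58653, 5586, 52136, 6384].getD k 0) ∣ 122760 → T = {0} ∨ T = Finset.range 5 := by
  decide

theorem closed_card (S : Set (Fin 122760)) (h0 : (0 : Fin 122760) ∈ S)
    (hS : ∀ x < 6, ∀ i ∈ S, prm x i ∈ S) (hd : Nat.card S ∣ 122760) :
    Nat.card S = 1 ∨ S = Set.univ := by
  classical
  let T := (Finset.range 5).filter fun k => ∃ i ∈ S, lab (i : Fin 122760) = k
  have hcount : ∀ k ∈ Finset.range 5, count k 122760 = [1, 58653, 5586, 52136, 6384].getD k 0 := by
    intro k hk
    rw [Finset.mem_range] at hk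
    interval_cases k
    exacts [ONOrbit90Count.count0, ONOrbit90Count.count1, ONOrbit90Count.count2, ONOrbit90Count.count3,
      ONOrbit90Count.count4]
  have hmem : ∀ i : Fin 122760, i ∈ S ↔ lab i ∈ T := fun i => by
    simp only [T, Finset.mem_filter, Finset.mem_range]
    exact ⟨fun h => ⟨(orb_spec i i.2).1, i, h, rfl⟩,
      fun ⟨_, j, hj, hl⟩ => closed_label S hS j i hj hl⟩
  have hcard : Nat.card S = ∑ k ∈ T, [1, 58653, 5586, 52136, 6384].getD k 0 := by
    have : S = ↑(Finset.univ.filter fun i : Fin 122760 => lab i ∈ T) := by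
      ext i; simp [hmem i]
    rw [this, Nat.card_coe_set_eq, Set.ncard_coe_finset,
      Finset.card_eq_sum_card_fiberwise (f := fun i : Fin 122760 => lab i) (t := T)]
    · refine Finset.sum_congr rfl fun k hk => ?_
      rw [← hcount k (Finset.mem_filter.1 hk).1, ← card_label k, Finset.filter_filter]
      exact congrArg Finset.card (Finset.filter_congr fun i _ => ⟨fun h => h.2, fun h => ⟨h ▸ hk, h⟩⟩)
    · intro i hi
      simpa using hi
  have h0T : 0 ∈ T := by
    have hl : lab ((0 : Fin 122760) : Nat) = 0 := by decide +kernel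
    exact hl ▸ (hmem 0).1 h0
  rcases label_sums T (Finset.mem_powerset.2 (Finset.filter_subset _ _)) h0T (hcard ▸ hd) with h | h
  · left; rw [hcard, h]; rfl
  · right
    refine Set.eq_univ_of_forall fun i => (hmem i).2 ?_
    rw [h, Finset.mem_range]
    exact (orb_spec i i.2).1

theorem sq_mem_ker {x : K} : SemidirectProduct.rightHom (x ^ 2) = 1 := by
  rw [map_pow]
  exact (by decide : ∀ t : Multiplicative (ZMod 2), t ^ 2 = 1) _

/-- A normal subgroup meeting `HH` nontrivially is everything. -/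
theorem inf_eq_bot_or_top (N : Subgroup Cfsg.Spor.ON) [N.Normal] : N ⊓ HH = ⊥ ∨ N = ⊤ := by
  haveI : Fact (Nat.Prime 7) := ⟨by norm_num⟩
  haveI : IsSimpleGroup L := PSLSimple.isSimpleGroup_PSL_fin (by omega) (by omega)
  obtain ⟨E, -⟩ := exists_iso
  let M : Subgroup K := (N.subgroupOf HH).comap E.toMonoidHom
  haveI : M.Normal := Subgroup.Normal.comap inferInstance _
  rcases (Subgroup.Normal.comap (H := M) inferInstance (SemidirectProduct.inl : L →* K)).eq_bot_or_eq_top
    with h | h
  · left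
    have hM : M = ⊥ := ONModel64.normal_eq_bot M fun y hy => by
      have : y ∈ M.comap (SemidirectProduct.inl : L →* K) := hy
      rwa [h, Subgroup.mem_bot] at this
    rw [Subgroup.eq_bot_iff_forall]
    rintro z ⟨hzN, hzH⟩
    have hm : E.symm ⟨z, hzH⟩ ∈ M := by
      show (E (E.symm ⟨z, hzH⟩) : HH) ∈ N.subgroupOf HH
      rw [MulEquiv.apply_symm_apply]
      exact hzN
    rw [hM, Subgroup.mem_bot] at hm
    have := congrArg E hm
    rw [MulEquiv.apply_symm_apply, map_one] at this
    exact congrArg Subtype.val this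
  · right
    have key : ∀ u ∈ HH, u ^ 2 ∈ N := by
      intro u hu
      have hr : (E.symm ⟨u, hu⟩) ^ 2 ∈ (SemidirectProduct.inl : L →* K).range := by
        rw [SemidirectProduct.range_inl_eq_ker_rightHom]
        exact sq_mem_ker
      obtain ⟨l, hl⟩ := hr
      have hm : (SemidirectProduct.inl l : K) ∈ M := by
        have : l ∈ M.comap (SemidirectProduct.inl : L →* K) := h ▸ Subgroup.mem_top l
        exact this
      rw [hl] at hm
      have hm2 : E ((E.symm ⟨u, hu⟩) ^ 2) ∈ N.subgroupOf HH := hm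
      rw [map_pow, MulEquiv.apply_symm_apply] at hm2
      exact hm2
    have hf : QuotientGroup.mk' N = 1 := collapse _ fun p hp => by
      rw [← map_mul, ← map_pow]
      refine (QuotientGroup.eq_one_iff _).2 (key _ ?_)
      simp only [List.mem_cons, List.not_mem_nil, or_false] at hp
      rcases hp with rfl | rfl | rfl | rfl <;> exact HH.mul_mem (gg_mem (by norm_num)) (gg_mem (by norm_num))
    rw [eq_top_iff]
    intro z _
    exact (QuotientGroup.eq_one_iff z).1 (DFunLike.congr_fun hf z)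

theorem rep_eq_zero {k : Cfsg.Spor.ON} (h : rep k 0 = 0) : k ∈ HH := by
  obtain ⟨φ, h0, hφ⟩ := ONIndex90.exists_equiv
  have := hφ k 0
  rw [h, h0] at this
  have h2 : ((1 : Cfsg.Spor.ON) : Cfsg.Spor.ON ⧸ HH) = ((k * 1 : Cfsg.Spor.ON) : Cfsg.Spor.ON ⧸ HH) := this
  rw [mul_one, QuotientGroup.eq, inv_one, one_mul] at h2
  exact h2

theorem rep_injective : Function.Injective rep := by
  rw [← MonoidHom.ker_eq_bot_iff]
  have hle : rep.ker ≤ HH := fun k hk => rep_eq_zero (by rw [MonoidHom.mem_ker.1 hk]; rfl)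
  haveI : rep.ker.Normal := MonoidHom.normal_ker _
  rcases inf_eq_bot_or_top rep.ker with h | h
  · rwa [inf_eq_left.2 hle] at h
  · exfalso
    have hm : gg 6 ∈ rep.ker := h ▸ Subgroup.mem_top _
    rw [MonoidHom.mem_ker, rep_gg (by norm_num)] at hm
    have := congrArg (fun p : Equiv.Perm (Fin 122760) => ((p ⟨0, by norm_num⟩ : Fin 122760) : Nat)) hm
    simp only [prm_apply (show (6 : Nat) < 8 by norm_num), Equiv.Perm.one_apply] at this
    revert this
    decide +kernel

theorem no_map_two (f : Cfsg.Spor.ON →* Multiplicative (ZMod 2)) : f = 1 :=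
  collapse f fun _ _ => (by decide : ∀ t : Multiplicative (ZMod 2), t ^ 2 = 1) _

theorem simple_ON : IsSimpleGroup Cfsg.Spor.ON := by
  haveI := finite_ON
  haveI : Nontrivial Cfsg.Spor.ON :=
    Finite.one_lt_card_iff_nontrivial.1 (by rw [card_ON]; norm_num)
  refine ⟨fun N hN => ?_⟩
  rcases inf_eq_bot_or_top N with hNH | hN1
  swap
  · exact Or.inr hN1
  left
  let S : Set (Fin 122760) := Set.range fun n : N => rep (n : Cfsg.Spor.ON) 0
  have hinj : Function.Injective fun n : N => rep (n : Cfsg.Spor.ON) 0 := by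
    intro a b hab
    have hz : rep ((b : Cfsg.Spor.ON)⁻¹ * a) 0 = 0 := by
      have hab' : rep (a : Cfsg.Spor.ON) 0 = rep (b : Cfsg.Spor.ON) 0 := hab
      rw [map_mul, map_inv, Equiv.Perm.mul_apply, hab', Equiv.Perm.inv_def, Equiv.symm_apply_apply]
    have hm : (b : Cfsg.Spor.ON)⁻¹ * a ∈ N ⊓ HH := ⟨N.mul_mem (N.inv_mem b.2) a.2, rep_eq_zero hz⟩
    rw [hNH, Subgroup.mem_bot, inv_mul_eq_one] at hm
    exact Subtype.ext hm.symm
  have hcardS : Nat.card S = Nat.card N := Nat.card_range_of_injective hinj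
  have hS : ∀ x < 6, ∀ i ∈ S, prm x i ∈ S := by
    rintro x hx _ ⟨n, rfl⟩
    refine ⟨⟨gg x * n * (gg x)⁻¹, hN.conj_mem _ n.2 _⟩, ?_⟩
    show rep (gg x * n * (gg x)⁻¹) 0 = prm x (rep (n : Cfsg.Spor.ON) 0)
    rw [map_mul, map_mul, rep_gg (by omega), Equiv.Perm.mul_apply, Equiv.Perm.mul_apply,
      rep_fix (HH.inv_mem (gg_mem hx))]
  have hdvd : Nat.card S ∣ 122760 := by
    rw [hcardS]
    have h1 : Nat.card HH ∣ Nat.card (Cfsg.Spor.ON ⧸ N) := by
      refine Subgroup.card_dvd_of_injective ((QuotientGroup.mk' N).comp HH.subtype) ?_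
      rw [← MonoidHom.ker_eq_bot_iff, Subgroup.eq_bot_iff_forall]
      intro z hz
      have : (z : Cfsg.Spor.ON) ∈ N ⊓ HH := ⟨(QuotientGroup.eq_one_iff _).1 hz, z.2⟩
      rw [hNH, Subgroup.mem_bot] at this
      exact Subtype.ext this
    have h2 := N.card_mul_index
    rw [Subgroup.index, card_ON] at h2
    obtain ⟨c, hc⟩ := h1
    rw [hc, card_HH] at h2
    exact ⟨c, by nlinarith [h2]⟩
  rcases closed_card S ⟨1, by simp only [OneMemClass.coe_one, map_one, Equiv.Perm.one_apply]⟩ hS hdvd with h | h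
  · rw [← Subgroup.card_eq_one, ← hcardS, h]
  · exfalso
    have hNc : Nat.card N = 122760 := by
      rw [← hcardS, h]; simp
    have hq : Nat.card (Cfsg.Spor.ON ⧸ N) = 3753792 := by
      have h2 := N.card_mul_index
      rw [Subgroup.index, card_ON, hNc] at h2
      omega
    have hb : Function.Bijective ((QuotientGroup.mk' N).comp HH.subtype) := by
      rw [Nat.bijective_iff_injective_and_card]
      refine ⟨?_, by rw [card_HH, hq]⟩
      rw [← MonoidHom.ker_eq_bot_iff, Subgroup.eq_bot_iff_forall]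
      intro z hz
      have : (z : Cfsg.Spor.ON) ∈ N ⊓ HH := ⟨(QuotientGroup.eq_one_iff _).1 hz, z.2⟩
      rw [hNH, Subgroup.mem_bot] at this
      exact Subtype.ext this
    obtain ⟨E, -⟩ := exists_iso
    let χ : Cfsg.Spor.ON →* Multiplicative (ZMod 2) :=
      (SemidirectProduct.rightHom.comp E.symm.toMonoidHom).comp
        ((MulEquiv.ofBijective _ hb).symm.toMonoidHom.comp (QuotientGroup.mk' N))
    have hsurj : Function.Surjective χ :=
      (SemidirectProduct.rightHom_surjective.comp E.symm.surjective).comp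
        ((MulEquiv.ofBijective _ hb).symm.surjective.comp (QuotientGroup.mk'_surjective N))
    obtain ⟨z, hz⟩ := hsurj (Multiplicative.ofAdd 1)
    rw [no_map_two χ, MonoidHom.one_apply] at hz
    exact absurd hz (by decide)

theorem isON : Cfsg.IsON Cfsg.Spor.ON := ⟨simple_ON, card_ON⟩

end Cfsg.Agent.ONGroup90
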