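import Mathlib

/-! Words and tables for a first Janko group inside the presented O'Nan group.
The data only feeds a checker; nothing here is assumed. -/

set_option autoImplicit false

namespace Cfsg.Agent.ONJ1Data90

/-- Word of the central involution. -/
abbrev wT : List Nat := [0]

/-- Word of the element of order 3. -/
abbrev wX : List Nat := [2, 4, 3, 2, 7, 4, 6, 3, 4, 7, 2, 3]

/-- Word of the element of order 5. -/
abbrev wY : List Nat := [0, 2, 4, 6, 3, 7, 2, 4, 6, 3, 2, 4, 3]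

/-- Word of the element of order 7. -/
abbrev wR : List Nat := [2, 4, 3, 2, 1, 5, 4, 7, 1, 3, 4, 6, 2, 3, 1, 2, 1, 7, 3, 2, 4, 7, 1, 3, 2, 3]

/-- Products of the model elements with the three generators. -/
def nxtList : List Nat :=
  [1, 2, 3, 0, 4, 5, 4, 6, 7, 5, 8, 9, 2, 10, 11, 3, 12, 13, 10, 0, 14, 11, 15, 16, 12, 17, 18, 13, 19, 20, 6, 1, 21, 7, 22, 23, 8, 24, 25, 9, 26, 27, 21, 28, 29, 22, 30, 31, 23, 20, 32, 24, 3, 33, 25, 34, 35, 26, 36, 37, 27, 38, 39, 14, 40, 41, 15, 42, 43, 16, 27, 44, 17, 5, 45, 18, 46, 47, 19, 48, 49, 20, 50, 51, 40, 52, 53, 41, 32, 19, 42, 7, 54, 43, 55, 56, 44, 57, 58, 45, 56, 59, 46, 60, 61, 47, 39, 62, 48, 9, 63, 49, 54, 6, 50, 16, 64, 51, 65, 0, 28, 66, 67, 29, 44, 26, 30, 11, 68, 31, 69, 70, 32, 71, 72, 33, 70, 73, 34, 74, 75, 35, 51, 76, 36, 13, 77, 37, 68, 10, 38, 23, 78, 39, 79, 1, 66, 14, 65, 67, 80, 81, 68, 81, 82, 69, 83, 60, 70, 58, 84, 71, 29, 85, 72,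 33, 2, 73, 62, 38, 74, 18, 86, 75, 53, 87, 76, 88, 89, 77, 87, 52, 78, 86, 17, 79, 35, 90, 52, 21, 79, 53, 91, 92, 54, 92, 93, 55, 94, 74, 56, 72, 95, 57, 41, 96, 58, 45, 4, 59, 76, 50, 60, 25, 97, 61, 67, 98, 62, 99, 100, 63, 98, 66, 64, 97, 24, 65, 47, 101, 91, 61, 83, 92, 37, 102, 93, 84, 57, 94, 31, 103, 95, 104, 105, 96, 103, 30, 97, 105, 106, 98, 89, 107, 99, 59, 55, 100, 63, 8, 101, 102, 36, 80, 75, 94, 81, 49, 108, 82, 95, 71, 83, 43, 109, 84, 110, 111, 85, 109, 42, 86, 111, 112, 87, 100, 113, 88, 73, 69, 89, 77, 12, 90, 108, 48, 108, 114, 115, 109, 115, 116, 110, 82, 80, 111, 64, 15, 112, 107, 88, 113, 116, 114, 102, 117, 118, 103, 118, 119, 104, 93, 91, 105, 78, 22, 106, 113, 99, 107, 119, 117, 117, 90, 34, 118, 85, 28, 119, 106, 104, 114, 101, 46, 115, 96, 40, 116, 112, 110]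

/-- Numbers of the elements of C₂ × V₄ and of their images. -/
def sPairs : List (Nat × Nat) :=
  [(0, 0), (1, 105), (63, 77), (77, 109), (103, 111), (105, 103), (109, 1), (111, 63)]

end Cfsg.Agent.ONJ1Data90
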