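import Cfsg.Agent.Lib.ONBase90
import Cfsg.Agent.Lib.ONJ1Data90
import Cfsg.Agent.Lib.J1MatModel91

/-! A first Janko group inside the presented O'Nan group. -/

set_option autoImplicit false
set_option maxRecDepth 100000
set_option synthInstance.maxSize 4000
set_option synthInstance.maxHeartbeats 400000

namespace Cfsg.Agent.ONJ1Sub90

open Cfsg.Agent.CosetCertCore Cfsg.Agent.ONIndex90 Cfsg.Agent.ONBase90 Cfsg.Agent.ONJ1Data90
open Cfsg.Agent.J1Order91

/-- The inverse word. -/
def winv (w : List Nat) : List Nat := w.reverse.map fun x => if x = 6 then 7 else if x = 7 then 6 else x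

theorem val_winv {w : List Nat} (hw : ∀ x ∈ w, x < 8) : val gg (winv w) = (val gg w)⁻¹ := by
  induction w with
  | nil => simp [winv, val]
  | cons x w ih =>
    have e : winv (x :: w) = winv w ++ [if x = 6 then 7 else if x = 7 then 6 else x] := by
      simp [winv]
    rw [e, CosetCertPres.val_append, ih (fun y hy => hw y (List.mem_cons_of_mem _ hy)), val_cons,
      val_cons, val_nil, mul_one, mul_inv_rev]
    congr 1
    have hx : x < 8 := hw x (List.mem_cons_self ..)
    rcases Nat.lt_or_ge x 6 with h | h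
    · rw [if_neg (by omega), if_neg (by omega), gg_inv h]
    · interval_cases x
      · rfl
      · exact (inv_inv _).symm

/-- The word of a generator of the model. -/
def genW : Fin 3 → List Nat := ![wT, wX, wY]

/-- The word of model element `i`. -/
def elW (i : Nat) : List Nat := ((modelWords.getD i []).map genW).flatten

/-- The next index. -/
def nxt (i : Nat) (s : Fin 3) : Nat := nxtList.getD (3 * i + s) 0

theorem table_model : (∀ i : Fin 120, ∀ s : Fin 3,
    nxt i s < 120 ∧ wordEl (nxt i s) = wordEl i * ![mT, mX, mY] s) ∧ wordEl 0 = 1 := by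
  decide +kernel

theorem table_on : ((List.range 120).all fun i => (List.finRange 3).all fun s =>
    same (elW i ++ genW s) (elW (nxt i s))) = true := by
  decide +kernel

theorem wordEl_bijective : Function.Bijective fun i : Fin 120 => wordEl i := by
  have hs : Function.Surjective (fun i : Fin 120 => wordEl i) := by
    intro m
    obtain ⟨w, hw, rfl⟩ := List.mem_map.1 (mem_words m)
    obtain ⟨i, hi, rfl⟩ := List.mem_iff_getElem.1 hw
    have hl : modelWords.length = 120 := by decide +kernel
    exact ⟨⟨i, hl ▸ hi⟩, by simp [wordEl, List.getElem?_eq_getElem hi]⟩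
  exact hs.bijective_of_nat_card_le (by rw [card_model]; simp)

/-- The model elements, numbered. -/
noncomputable def num : Fin 120 ≃ M := Equiv.ofBijective _ wordEl_bijective

/-- The underlying map. -/
noncomputable def psiFun (m : M) : Cfsg.Spor.ON := val gg (elW (num.symm m : Fin 120))

theorem psiFun_wordEl (i : Fin 120) : psiFun (wordEl i) = val gg (elW i) := by
  unfold psiFun
  rw [show num.symm (wordEl i) = i from num.symm_apply_apply i]

theorem psiFun_gen (m : M) (s : Fin 3) :
    psiFun (m * ![mT, mX, mY] s) = psiFun m * val gg (genW s) := by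
  obtain ⟨i, rfl⟩ : ∃ i : Fin 120, wordEl i = m := wordEl_bijective.2 m
  obtain ⟨hlt, he⟩ := table_model.1 i s
  rw [← he, psiFun_wordEl i, show wordEl (nxt i s) = wordEl ((⟨_, hlt⟩ : Fin 120) : Nat) from rfl,
    psiFun_wordEl ⟨_, hlt⟩]
  have h := table_on
  simp only [List.all_eq_true] at h
  rw [← same_sound (h i (List.mem_range.2 i.2) s (List.mem_finRange s)), CosetCertPres.val_append]

/-- The map from the model. -/
noncomputable def psi : M →* Cfsg.Spor.ON :=
  MonoidHom.mk' psiFun fun a b => by
    have hb : b ∈ Subgroup.closure ({mT, mX, mY} : Set M) := by rw [closure_gens]; exact Subgroup.mem_top b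
    have h1 : psiFun 1 = 1 := by
      rw [← table_model.2, show (0 : Nat) = ((0 : Fin 120) : Nat) from rfl, psiFun_wordEl]
      rfl
    revert a
    induction hb using Subgroup.closure_induction with
    | mem y hy =>
      intro a
      obtain ⟨s, rfl⟩ : ∃ s, ![mT, mX, mY] s = y := by
        rcases hy with rfl | rfl | rfl
        exacts [⟨0, rfl⟩, ⟨1, rfl⟩, ⟨2, rfl⟩]
      have h2 := psiFun_gen 1 s
      rw [one_mul, h1, one_mul] at h2
      rw [psiFun_gen, h2]
    | one => intro a; rw [mul_one, h1, mul_one]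
    | mul x y _ _ hx hy => intro a; rw [← mul_assoc, hy, hx, hy x, ← mul_assoc]
    | inv x _ hx =>
      intro a
      have e1 := hx (a * x⁻¹)
      rw [inv_mul_cancel_right] at e1
      have e2 := hx x⁻¹
      rw [inv_mul_cancel, h1] at e2
      rw [e1, eq_inv_of_mul_eq_one_left e2.symm, mul_inv_cancel_right]

theorem psi_wordEl {i : Nat} (hi : i < 120) : psi (wordEl i) = val gg (elW i) := psiFun_wordEl ⟨i, hi⟩

theorem psi_gen (s : Fin 3) : psi (![mT, mX, mY] s) = val gg (genW s) := by
  have h : psiFun (1 * ![mT, mX, mY] s) = psiFun 1 * val gg (genW s) := psiFun_gen 1 s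
  rw [one_mul] at h
  show psiFun _ = _
  rw [h]
  show psi 1 * _ = _
  rw [map_one, one_mul]

theorem pairs_model : (∀ p ∈ sPairs, p.1 < 120 ∧ p.2 < 120 ∧ L0 (wordEl p.1) = wordEl p.2) ∧
    ∀ s : M, InP s → ∃ p ∈ sPairs, wordEl p.1 = s := by
  decide +kernel

theorem pairs_on : (sPairs.all fun p => same (wR ++ elW p.1 ++ winv wR) (elW p.2)) = true := by
  decide +kernel

theorem rel_on : same (wR ++ wR ++ wR ++ wR ++ wR ++ wR ++ wR) [] = true ∧
    same (wX ++ wR ++ winv wX) (wR ++ wR) = true ∧
    same (wX ++ (wY ++ wR ++ (wY ++ wX) ++ winv (wY ++ wR)))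
      (wY ++ wR ++ (wY ++ wX) ++ winv (wY ++ wR) ++ wX) = true := by
  decide +kernel

theorem lt_R : ∀ x ∈ wR, x < 8 := by decide
theorem lt_X : ∀ x ∈ wX, x < 8 := by decide
theorem lt_YR : ∀ x ∈ wY ++ wR, x < 8 := by decide

theorem amalg : Amalg psi (val gg wR) 1 := by
  obtain ⟨h7, hX, hrel⟩ := rel_on
  have eX : psi mX = val gg wX := psi_gen 1
  have eY : psi mY = val gg wY := psi_gen 2
  refine ⟨?_, ?_, fun s hs => ?_, ?_⟩
  · have h := same_sound h7
    simp only [CosetCertPres.val_append, val_nil] at h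
    simpa [pow_succ, mul_assoc] using h
  · have h := same_sound hX
    simp only [CosetCertPres.val_append, val_winv lt_X] at h
    rw [eX, h, pow_two]
  · obtain ⟨p, hp, rfl⟩ := pairs_model.2 s hs
    obtain ⟨h1, h2, h3⟩ := pairs_model.1 p hp
    have h := pairs_on
    simp only [List.all_eq_true] at h
    have h' := same_sound (h p hp)
    simp only [CosetCertPres.val_append, val_winv lt_R] at h'
    rw [h3, psi_wordEl h1, psi_wordEl h2, h']
  · have h := same_sound hrel
    simp only [CosetCertPres.val_append, val_winv lt_YR] at h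
    have ez : psi (caseZ 1) = val gg wY * val gg wX := by
      rw [show caseZ 1 = mY * mX from rfl, map_mul, eX, eY]
    show psi mX * ((psi mY * val gg wR) * psi (caseZ 1) * (psi mY * val gg wR)⁻¹) =
      (psi mY * val gg wR) * psi (caseZ 1) * (psi mY * val gg wR)⁻¹ * psi mX
    rw [ez, eX, eY]
    simpa only [mul_inv_rev, mul_assoc] using h

/-- A subgroup J₁ of the presented O'Nan group. -/
theorem exists_J1 : ∃ K : Subgroup Cfsg.Spor.ON, Cfsg.IsJ1 K := by
  haveI := ONGroup90.finite_ON
  haveI := J1Facts.isSimple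
  haveI : Finite Cfsg.Spor.J1 := Nat.finite_of_card_ne_zero (by rw [J1Basic.card_J1]; norm_num)
  obtain ⟨χ, s, hB, gB⟩ := exists_standard matData
    (twoCentral matData (by rw [J1Basic.card_J1]; exact factorization_two_order)) J1Basic.card_J1
  set R := val gg wR with hR
  set D := Subgroup.closure (Set.range (psi.prod χ) ∪ {(R, s)}) with hD
  have hr : (R, s) ∈ D := Subgroup.subset_closure (Or.inr rfl)
  have hm : ∀ m, psi.prod χ m ∈ D := fun m => Subgroup.subset_closure (Or.inl ⟨m, rfl⟩)
  set ν : M →* ↥D := (psi.prod χ).codRestrict D hm with hν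
  set P : ↥D := ⟨(R, s), hr⟩ with hP
  have hA := amalg
  have hW : ∀ k, ((amalgW ν P k : ↥D) : Cfsg.Spor.ON × Cfsg.Spor.J1) = (amalgW psi R k, amalgW χ s k) := by
    intro k
    fin_cases k <;> rfl
  have h : Amalg ν P 1 := by
    refine ⟨Subtype.ext (Prod.ext hA.pow hB.pow), Subtype.ext (Prod.ext hA.conjX hB.conjX),
      fun m hm => Subtype.ext (Prod.ext (hA.conjS m hm) (hB.conjS m hm)), Subtype.ext ?_⟩
    simp only [Subgroup.coe_mul, Subgroup.coe_inv, hW]
    exact Prod.ext hA.rel hB.rel
  have hgen : Subgroup.closure (Set.range ν ∪ {P}) = ⊤ := by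
    apply Subgroup.map_injective D.subtype_injective
    rw [MonoidHom.map_closure, ← MonoidHom.range_eq_map, Subgroup.range_subtype, Set.image_union,
      Set.image_singleton, ← Set.range_comp]
    exact hD.symm
  have hle : Nat.card ↥D ≤ 175560 := card_le_of_generated h hgen
  have sB := surjective_proj (MonoidHom.snd Cfsg.Spor.ON Cfsg.Spor.J1) (ν := psi.prod χ) (p := (R, s)) χ s
    (MonoidHom.snd_comp_prod psi χ) rfl gB
  have bB : Function.Bijective ((MonoidHom.snd Cfsg.Spor.ON Cfsg.Spor.J1).comp D.subtype) :=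
    sB.bijective_of_nat_card_le (by rw [J1Basic.card_J1]; exact hle)
  let e : Cfsg.Spor.J1 ≃* D := (MulEquiv.ofBijective _ bB).symm
  refine ⟨D.map (MonoidHom.fst _ _), ?_⟩
  let f : Cfsg.Spor.J1 →* D.map (MonoidHom.fst Cfsg.Spor.ON Cfsg.Spor.J1) :=
    ((MonoidHom.fst _ _).subgroupMap D).comp e.toMonoidHom
  have hf : Function.Surjective f := (MonoidHom.subgroupMap_surjective _ _).comp e.surjective
  have hinj : Function.Injective f := by
    rw [← MonoidHom.ker_eq_bot_iff]
    refine (MonoidHom.normal_ker f).eq_bot_or_eq_top.resolve_right fun htop => ?_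
    obtain ⟨p, hp⟩ := e.surjective P
    have h1 : f p = 1 := MonoidHom.mem_ker.1 (htop ▸ Subgroup.mem_top p)
    have h2 : R = 1 := by
      have := congrArg Subtype.val h1
      rw [show f p = (MonoidHom.fst Cfsg.Spor.ON _).subgroupMap D (e p) from rfl, hp] at this
      exact this
    have h3 : ¬ (ONPermData64.run wR 0 = 0 ∧ ONPermData64.run wR 1 = 1 ∧ ONPermData64.run wR 38 = 38) := by
      decide +kernel
    have hk := congrArg key h2
    rw [hR, ← one_mul (val gg wR), key_mul_word 1 lt_R] at hk
    simp [key] at hk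
    exact h3 ⟨hk.1, hk.2.1, hk.2.2⟩
  let E := MulEquiv.ofBijective f ⟨hinj, hf⟩
  exact ⟨E.symm.isSimpleGroup, by rw [← Nat.card_congr E.toEquiv, J1Basic.card_J1]⟩

end Cfsg.Agent.ONJ1Sub90
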