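import Mathlib

/-!
Sharply multiply transitive actions: the theorem of Jordan and Tits on sharply 4-transitive
actions, descent to a point stabiliser, and some Sylow facts in prime degree.
-/

set_option autoImplicit false

open MulAction

namespace Cfsg.Agent.SharpTransitive

variable {G : Type*} [Group G] {Ω : Type*} [MulAction G Ω]

/-- Sharp four-transitivity in terms of points. -/
structure Sharp4 (G : Type*) [Group G] (Ω : Type*) [MulAction G Ω] : Prop where
  trans : ∀ a b c d a' b' c' d' : Ω, [a, b, c, d].Nodup → [a', b', c', d'].Nodup →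
    ∃ g : G, g • a = a' ∧ g • b = b' ∧ g • c = c' ∧ g • d = d'
  sharp : ∀ (a b c d : Ω) (g : G), [a, b, c, d].Nodup →
    g • a = a → g • b = b → g • c = c → g • d = d → g = 1

theorem sharp4_of_pretransitive (h4 : IsMultiplyPretransitive G Ω 4)
    (hs : ∀ x : Fin 4 ↪ Ω, stabilizer G x = ⊥) : Sharp4 G Ω := by
  have mk : ∀ a b c d : Ω, [a, b, c, d].Nodup → Function.Injective ![a, b, c, d] := by
    intro a b c d h
    have : List.ofFn ![a, b, c, d] = [a, b, c, d] := by simp [List.ofFn_succ]
    exact List.nodup_ofFn.mp (this ▸ h)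
  constructor
  · intro a b c d a' b' c' d' h h'
    obtain ⟨g, hg⟩ := MulAction.exists_smul_eq G (⟨_, mk a b c d h⟩ : Fin 4 ↪ Ω) ⟨_, mk a' b' c' d' h'⟩
    exact ⟨g, DFunLike.congr_fun hg 0, DFunLike.congr_fun hg 1, DFunLike.congr_fun hg 2,
      DFunLike.congr_fun hg 3⟩
  · intro a b c d g h ha hb hc hd
    have : g ∈ stabilizer G (⟨_, mk a b c d h⟩ : Fin 4 ↪ Ω) := by
      rw [mem_stabilizer_iff]
      ext i
      fin_cases i <;> simpa using ‹_›
    rw [hs] at this
    exact this

theorem nodup_four {a b c d : Ω} (h1 : a ≠ b) (h2 : a ≠ c) (h3 : a ≠ d) (h4 : b ≠ c) (h5 : b ≠ d)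
    (h6 : c ≠ d) : [a, b, c, d].Nodup := by simp [*]

theorem ne_of_nodup_four {a b c d : Ω} (h : [a, b, c, d].Nodup) :
    a ≠ b ∧ a ≠ c ∧ a ≠ d ∧ b ≠ c ∧ b ≠ d ∧ c ≠ d := by
  simp only [List.nodup_cons, List.mem_cons, List.not_mem_nil, or_false, not_or] at h
  exact ⟨h.1.1, h.1.2.1, h.1.2.2, h.2.1.1, h.2.1.2, h.2.2.1⟩

theorem smul_ne {k : G} {w x z : Ω} (hw : k • w = z) (hx : x ≠ w) : k • x ≠ z :=
  fun hh => hx (MulAction.injective k (hh.trans hw.symm))

namespace Sharp4

variable (S : Sharp4 G Ω)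
include S

theorem eq_of {a b c d : Ω} {g k : G} (h : [a, b, c, d].Nodup) (ha : g • a = k • a)
    (hb : g • b = k • b) (hc : g • c = k • c) (hd : g • d = k • d) : g = k := by
  have : k⁻¹ * g = 1 := S.sharp a b c d _ h (by rw [mul_smul, ha, inv_smul_smul])
    (by rw [mul_smul, hb, inv_smul_smul]) (by rw [mul_smul, hc, inv_smul_smul])
    (by rw [mul_smul, hd, inv_smul_smul])
  exact (inv_mul_eq_one.mp this).symm

/-- The element fixing two points and interchanging two others. -/
theorem exists_swap {a b c d : Ω} (h : [a, b, c, d].Nodup) :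
    ∃ g : G, g • a = a ∧ g • b = b ∧ g • c = d ∧ g • d = c ∧ g * g = 1 := by
  obtain ⟨hab, hac, had, hbc, hbd, hcd⟩ := ne_of_nodup_four h
  obtain ⟨g, h1, h2, h3, h4⟩ := S.trans a b c d a b d c h (by refine nodup_four ?_ ?_ ?_ ?_ ?_ ?_ <;> first | assumption | (apply Ne.symm; assumption))
  exact ⟨g, h1, h2, h3, h4, S.sharp a b c d _ h (by rw [mul_smul, h1, h1]) (by rw [mul_smul, h2, h2])
    (by rw [mul_smul, h3, h4]) (by rw [mul_smul, h4, h3])⟩

/-- An involution with two fixed points is conjugate to any other one, compatibly with the points. -/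
theorem exists_conj {a b c d x y p q : Ω} {t k : G} (h : [a, b, c, d].Nodup)
    (hta : t • a = a) (htb : t • b = b) (htc : t • c = d) (htd : t • d = c)
    (h' : [x, y, p, q].Nodup) (hkx : k • x = x) (hky : k • y = y) (hkp : k • p = q)
    (hkq : k • q = p) :
    ∃ g : G, g • x = a ∧ g • y = b ∧ ∀ z : Ω, (t • (g • z) = g • z ↔ k • z = z) := by
  obtain ⟨g, g1, g2, g3, g4⟩ := S.trans x y p q a b c d h' h
  have he : g * k = t * g := S.eq_of h' (by rw [mul_smul, mul_smul, hkx, g1, hta])
    (by rw [mul_smul, mul_smul, hky, g2, htb]) (by rw [mul_smul, mul_smul, hkp, g4, g3, htc])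
    (by rw [mul_smul, mul_smul, hkq, g3, g4, htd])
  refine ⟨g, g1, g2, fun z => ?_⟩
  rw [← mul_smul t g, ← he, mul_smul]
  exact ⟨fun hz => (MulAction.injective g) hz, fun hz => by rw [hz]⟩

/-- Four points and the involutions `t = (a)(b)(c d)`, `s = (a b)(c)(d)`. -/
theorem no_third_fixed {a b c d : Ω} {t : G} (h : [a, b, c, d].Nodup)
    (hta : t • a = a) (htb : t • b = b) (htc : t • c = d) (htd : t • d = c)
    (he : ∀ z, t • z = z → z = a ∨ z = b) :
    Finite Ω ∧ Nat.card Ω ≤ 6 := by
  classical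
  obtain ⟨hab, hac, had, hbc, hbd, hcd⟩ := ne_of_nodup_four h
  obtain ⟨s, hsc, hsd, hsa, hsb, hss⟩ := S.exists_swap (a := c) (b := d) (c := a) (d := b)
    (by refine nodup_four ?_ ?_ ?_ ?_ ?_ ?_ <;> first | assumption | (apply Ne.symm; assumption))
  have hinv : ∀ z : Ω, s • s • z = z := fun z => by rw [← mul_smul, hss, one_smul]
  have hsfix : ∀ z, s • z = z → z = c ∨ z = d := by
    intro z hz
    obtain ⟨g, g1, g2, g3⟩ := S.exists_conj (x := c) (y := d) (p := a) (q := b) h hta htb htc htd
      (by refine nodup_four ?_ ?_ ?_ ?_ ?_ ?_ <;> first | assumption | (apply Ne.symm; assumption)) hsc hsd hsa hsb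
    rcases he (g • z) ((g3 z).mpr hz) with h1 | h1
    · exact Or.inl (MulAction.injective g (h1.trans g1.symm))
    · exact Or.inr (MulAction.injective g (h1.trans g2.symm))
  set u := s * t with hu
  have hufix : ∀ x, x ≠ a → x ≠ b → x ≠ c → x ≠ d → u • x = x := by
    intro x xa xb xc xd
    set y := s • x with hy
    have yx : y ≠ x := fun h1 => by rcases hsfix x h1 with h2 | h2 <;> contradiction
    have ya : y ≠ a := fun h1 => xb (by rw [← hinv x, ← hy, h1, hsa])
    have yb : y ≠ b := fun h1 => xa (by rw [← hinv x, ← hy, h1, hsb])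
    have yc : y ≠ c := fun h1 => xc (by rw [← hinv x, ← hy, h1, hsc])
    have yd : y ≠ d := fun h1 => xd (by rw [← hinv x, ← hy, h1, hsd])
    have hn : [a, b, x, y].Nodup := (by refine nodup_four ?_ ?_ ?_ ?_ ?_ ?_ <;> first | assumption | (apply Ne.symm; assumption))
    obtain ⟨j, ja, jb, jx, jy, jj⟩ := S.exists_swap hn
    have hcomm : s * j = j * s := S.eq_of hn
      (by rw [mul_smul, mul_smul, ja, hsa, jb]) (by rw [mul_smul, mul_smul, jb, hsb, ja])
      (by rw [mul_smul, mul_smul, jx, ← hy, jy]; exact hinv x)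
      (by rw [mul_smul, mul_smul, jy, ← hy]; show s • x = j • s • y; rw [hy, hinv x, jx])
    have hjc : s • (j • c) = j • c := by rw [← mul_smul, hcomm, mul_smul, hsc]
    have jcd : j • c = d := by
      rcases hsfix _ hjc with h1 | h1
      · exfalso
        obtain ⟨g, g1, g2, g3⟩ := S.exists_conj h hta htb htc htd hn ja jb jx jy
        rcases he (g • c) ((g3 c).mpr h1) with h2 | h2
        · have := MulAction.injective g (h2.trans g1.symm); simp [this] at h
        · have := MulAction.injective g (h2.trans g2.symm); simp [this] at h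
      · exact h1
    have jdc : j • d = c := by rw [← jcd, ← mul_smul, jj, one_smul]
    have hjt : j = t := S.eq_of h (ja.trans hta.symm) (jb.trans htb.symm) (jcd.trans htc.symm)
      (jdc.trans htd.symm)
    rw [hu, mul_smul, ← hjt, jx, hy, hinv]
  have hua : u • a = b := by rw [hu, mul_smul, hta, hsa]
  have hub : u • b = a := by rw [hu, mul_smul, htb, hsb]
  have hR : ∀ T : Finset Ω, (∀ x ∈ T, x ∉ ({a, b, c, d} : Finset Ω)) → T.card ≤ 2 := by
    intro T hT
    by_contra hc
    obtain ⟨x, y, z, hx, hy, hz, hxy, hxz, hyz⟩ := Finset.two_lt_card_iff.mp (by omega : 2 < T.card)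
    have hx' := hT x hx
    have hy' := hT y hy
    have hz' := hT z hz
    simp only [Finset.mem_insert, Finset.mem_singleton, not_or] at hx' hy' hz'
    obtain ⟨g, g1, g2, g3⟩ := S.exists_conj h hta htb htc htd (x := x) (y := y) (p := a) (q := b)
      (k := u) (by have := hx'.1; have := hx'.2.1; have := hy'.1; have := hy'.2.1; refine nodup_four ?_ ?_ ?_ ?_ ?_ ?_ <;> first | assumption | (apply Ne.symm; assumption))
      (hufix x hx'.1 hx'.2.1 hx'.2.2.1 hx'.2.2.2) (hufix y hy'.1 hy'.2.1 hy'.2.2.1 hy'.2.2.2) hua hub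
    rcases he (g • z) ((g3 z).mpr (hufix z hz'.1 hz'.2.1 hz'.2.2.1 hz'.2.2.2)) with h2 | h2
    · exact hxz (MulAction.injective g (h2.trans g1.symm)).symm
    · exact hyz (MulAction.injective g (h2.trans g2.symm)).symm
  have hall : ∀ T : Finset Ω, T.card ≤ 6 := by
    intro T
    have h1 := hR (T \ {a, b, c, d}) (fun x hx => (Finset.mem_sdiff.mp hx).2)
    have h2 := Finset.card_sdiff_add_card_inter T ({a, b, c, d} : Finset Ω)
    have h3 := Finset.card_le_card (Finset.inter_subset_right : T ∩ {a, b, c, d} ⊆ _)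
    have h4 : ({a, b, c, d} : Finset Ω).card ≤ 4 := Finset.card_le_four
    omega
  have hfin : Finite Ω := by
    rcases finite_or_infinite Ω with hf | hi
    · exact hf
    · obtain ⟨T, hT⟩ := Infinite.exists_subset_card_eq Ω 7
      have := hall T; omega
  haveI := Fintype.ofFinite Ω
  refine ⟨hfin, ?_⟩
  rw [Nat.card_eq_fintype_card, ← Finset.card_univ]
  exact hall _

/-- The case of a third fixed point: the degree is 5 or 11. -/
theorem third_fixed {a b c d e : Ω} {t : G} (h : [a, b, c, d].Nodup)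
    (hta : t • a = a) (htb : t • b = b) (htc : t • c = d) (htd : t • d = c) (htt : t * t = 1)
    (hte : t • e = e) (ea : e ≠ a) (eb : e ≠ b) :
    Finite Ω ∧ (Nat.card Ω = 5 ∨ Nat.card Ω = 11) := by
  classical
  obtain ⟨hab, hac, had, hbc, hbd, hcd⟩ := ne_of_nodup_four h
  have ec : e ≠ c := fun h1 => by rw [h1, htc] at hte; simp [hte] at h
  have ed : e ≠ d := fun h1 => by rw [h1, htd] at hte; simp [hte] at h
  have h5 : [a, b, c, d, e].Nodup := by simp [hab, hac, had, hbc, hbd, hcd, ea.symm, eb.symm, ec.symm, ed.symm]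
  have ht1 : ∀ z, t • z = z → z = a ∨ z = b ∨ z = e := by
    intro z hz
    by_contra hcon
    simp only [not_or] at hcon
    obtain ⟨za, zb, ze⟩ := hcon
    have : t = 1 := S.sharp a b e z t (by refine nodup_four ?_ ?_ ?_ ?_ ?_ ?_ <;> first | assumption | (apply Ne.symm; assumption)) hta htb hte hz
    rw [this, one_smul] at htc
    simp [htc] at h
  obtain ⟨s, hsc, hsd, hsa, hsb, hss⟩ := S.exists_swap (a := c) (b := d) (c := a) (d := b)
    (by refine nodup_four ?_ ?_ ?_ ?_ ?_ ?_ <;> first | assumption | (apply Ne.symm; assumption))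
  have hinv : ∀ z : Ω, s • s • z = z := fun z => by rw [← mul_smul, hss, one_smul]
  have hst : s * t = t * s := S.eq_of h (by rw [mul_smul, mul_smul, hta, hsa, htb])
    (by rw [mul_smul, mul_smul, htb, hsb, hta]) (by rw [mul_smul, mul_smul, htc, hsd, hsc, htc])
    (by rw [mul_smul, mul_smul, htd, hsc, hsd, htd])
  have hse : s • e = e := by
    obtain ⟨g, g1, g2, g3⟩ := S.exists_conj (x := c) (y := d) (p := a) (q := b) h hta htb htc htd
      (by refine nodup_four ?_ ?_ ?_ ?_ ?_ ?_ <;> first | assumption | (apply Ne.symm; assumption)) hsc hsd hsa hsb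
    set e' := g⁻¹ • e with he'
    have hse' : s • e' = e' := (g3 e').mp (by rw [he', smul_inv_smul]; exact hte)
    have e'c : e' ≠ c := fun h1 => ea (by rw [← g1, ← h1, he', smul_inv_smul])
    have e'd : e' ≠ d := fun h1 => eb (by rw [← g2, ← h1, he', smul_inv_smul])
    have e'a : e' ≠ a := fun h1 => by rw [h1, hsa] at hse'; simp [hse'] at h
    have e'b : e' ≠ b := fun h1 => by rw [h1, hsb] at hse'; simp [hse'] at h
    have h1 : s • (t • e') = t • e' := by rw [← mul_smul, hst, mul_smul, hse']
    have h2 : t • e' = e' := by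
      by_contra hne
      have : s = 1 := S.sharp c d e' (t • e') s (by
        have q1 : t • e' ≠ c := fun hh => e'd (MulAction.injective t (hh.trans htd.symm))
        have q2 : t • e' ≠ d := fun hh => e'c (MulAction.injective t (hh.trans htc.symm))
        have q3 := Ne.symm hne
        refine nodup_four ?_ ?_ ?_ ?_ ?_ ?_ <;> first | assumption | (apply Ne.symm; assumption)) hsc hsd hse' h1
      rw [this, one_smul] at hsa
      simp [hsa] at h
    rcases ht1 e' h2 with h3 | h3 | h3
    · exact absurd h3 e'a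
    · exact absurd h3 e'b
    · rwa [h3] at hse'
  have hsfix : ∀ z, s • z = z → z = c ∨ z = d ∨ z = e := by
    intro z hz
    by_contra hcon
    simp only [not_or] at hcon
    obtain ⟨zc, zd, ze⟩ := hcon
    have : s = 1 := S.sharp c d e z s (by refine nodup_four ?_ ?_ ?_ ?_ ?_ ?_ <;> first | assumption | (apply Ne.symm; assumption)) hsc hsd hse hz
    rw [this, one_smul] at hsa
    simp [hsa] at h
  have hda : [a, b, d, e].Nodup := (by refine nodup_four ?_ ?_ ?_ ?_ ?_ ?_ <;> first | assumption | (apply Ne.symm; assumption))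
  have hca : [a, b, c, e].Nodup := (by refine nodup_four ?_ ?_ ?_ ?_ ?_ ?_ <;> first | assumption | (apply Ne.symm; assumption))
  obtain ⟨p, pa, pb, pd, pe, pp⟩ := S.exists_swap hda
  obtain ⟨q, qa, qb, qc, qe, qq⟩ := S.exists_swap hca
  have hsp : s * p = p * s := S.eq_of hda (by rw [mul_smul, mul_smul, pa, hsa, pb])
    (by rw [mul_smul, mul_smul, pb, hsb, pa]) (by rw [mul_smul, mul_smul, pd, hse, hsd, pd])
    (by rw [mul_smul, mul_smul, pe, hsd, hse, pe])
  have hsq : s * q = q * s := S.eq_of hca (by rw [mul_smul, mul_smul, qa, hsa, qb])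
    (by rw [mul_smul, mul_smul, qb, hsb, qa]) (by rw [mul_smul, mul_smul, qc, hse, hsc, qc])
    (by rw [mul_smul, mul_smul, qe, hsc, hse, qe])
  have pc : p • c = c := by
    have h1 : s • (p • c) = p • c := by rw [← mul_smul, hsp, mul_smul, hsc]
    rcases hsfix _ h1 with h2 | h2 | h2
    · exact h2
    · exact absurd (MulAction.injective p (h2.trans pe.symm)) ec.symm
    · exact absurd (MulAction.injective p (h2.trans pd.symm)) (by first | assumption | (apply Ne.symm; assumption))
  have qd : q • d = d := by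
    have h1 : s • (q • d) = q • d := by rw [← mul_smul, hsq, mul_smul, hsd]
    rcases hsfix _ h1 with h2 | h2 | h2
    · exact absurd (MulAction.injective q (h2.trans qe.symm)) ed.symm
    · exact h2
    · exact absurd (MulAction.injective q (h2.trans qc.symm)) (by first | assumption | (apply Ne.symm; assumption))
  -- the remaining points fall into three sets
  let R : Set Ω := {x | x ≠ a ∧ x ≠ b ∧ x ≠ c ∧ x ≠ d ∧ x ≠ e}
  let cls : G → Set Ω := fun k => {x | x ∈ R ∧ k • x = s • x}
  have sR : ∀ x ∈ R, s • x ∈ R := fun x hx => ⟨smul_ne hsb hx.2.1, smul_ne hsa hx.1,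
    smul_ne hsc hx.2.2.1, smul_ne hsd hx.2.2.2.1, smul_ne hse hx.2.2.2.2⟩
  have pR : ∀ x ∈ R, p • x ∈ R := fun x hx => ⟨smul_ne pa hx.1, smul_ne pb hx.2.1,
    smul_ne pc hx.2.2.1, smul_ne pe hx.2.2.2.2, smul_ne pd hx.2.2.2.1⟩
  have qR : ∀ x ∈ R, q • x ∈ R := fun x hx => ⟨smul_ne qa hx.1, smul_ne qb hx.2.1,
    smul_ne qe hx.2.2.2.2, smul_ne qd hx.2.2.2.1, smul_ne qc hx.2.2.1⟩
  have hcover : ∀ x ∈ R, x ∈ cls t ∨ x ∈ cls p ∨ x ∈ cls q := by
    intro x hx
    obtain ⟨xa, xb, xc, xd, xe⟩ := id hx
    set y := s • x with hy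
    have hyR : y ∈ R := sR x hx
    obtain ⟨ya, yb, yc, yd, ye⟩ := id hyR
    have yx : y ≠ x := fun h1 => by rcases hsfix x h1 with h2 | h2 | h2 <;> contradiction
    have hn : [a, b, x, y].Nodup := (by refine nodup_four ?_ ?_ ?_ ?_ ?_ ?_ <;> first | assumption | (apply Ne.symm; assumption))
    obtain ⟨j, ja, jb, jx, jy, jj⟩ := S.exists_swap hn
    have hcomm : s * j = j * s := S.eq_of hn
      (by rw [mul_smul, mul_smul, ja, hsa, jb]) (by rw [mul_smul, mul_smul, jb, hsb, ja])
      (by rw [mul_smul, mul_smul, jx, ← hy, jy]; exact hinv x)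
      (by rw [mul_smul, mul_smul, jy, ← hy]; show s • x = j • s • y; rw [hy, hinv x, jx])
    have hj : ∀ z : Ω, s • z = z → s • (j • z) = j • z := fun z hz => by
      rw [← mul_smul, hcomm, mul_smul, hz]
    have jinv : ∀ z w : Ω, j • z = w → j • w = z := fun z w hzw => by
      rw [← hzw, ← mul_smul, jj, one_smul]
    have key : j = t ∨ j = p ∨ j = q := by
      rcases hsfix _ (hj c hsc) with h1 | h1 | h1
      · rcases hsfix _ (hj d hsd) with h2 | h2 | h2
        · exact absurd (MulAction.injective j (h2.trans h1.symm)) (by first | assumption | (apply Ne.symm; assumption))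
        · exfalso
          have : j = 1 := S.sharp a b c d j h ja jb h1 h2
          rw [this, one_smul] at jx
          exact yx jx.symm
        · exact Or.inr (Or.inl (S.eq_of hda (ja.trans pa.symm) (jb.trans pb.symm) (h2.trans pd.symm)
            ((jinv _ _ h2).trans pe.symm)))
      · exact Or.inl (S.eq_of h (ja.trans hta.symm) (jb.trans htb.symm) (h1.trans htc.symm)
          ((jinv _ _ h1).trans htd.symm))
      · exact Or.inr (Or.inr (S.eq_of hca (ja.trans qa.symm) (jb.trans qb.symm) (h1.trans qc.symm)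
          ((jinv _ _ h1).trans qe.symm)))
    rcases key with rfl | rfl | rfl
    · exact Or.inl ⟨hx, jx⟩
    · exact Or.inr (Or.inl ⟨hx, jx⟩)
    · exact Or.inr (Or.inr ⟨hx, jx⟩)
  have hdisj : ∀ k l : G, k • a = a → k • b = b → k * k = 1 → l • a = a → l • b = b → l * l = 1 →
      k ≠ l → ∀ x ∈ cls k, x ∉ cls l := by
    intro k l ka kb kk la lb ll hkl x hx hxl
    obtain ⟨hR, hk⟩ := hx
    obtain ⟨-, hl⟩ := hxl
    obtain ⟨xa, xb, xc, xd, xe⟩ := id hR
    obtain ⟨ya, yb, -, -, -⟩ := sR x hR
    have yx : s • x ≠ x := fun h1 => by rcases hsfix x h1 with h2 | h2 | h2 <;> contradiction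
    apply hkl
    refine S.eq_of (a := a) (b := b) (c := x) (d := s • x) (by refine nodup_four ?_ ?_ ?_ ?_ ?_ ?_ <;> first | assumption | (apply Ne.symm; assumption))
      (ka.trans la.symm) (kb.trans lb.symm) (hk.trans hl.symm) ?_
    calc k • (s • x) = k • (k • x) := by rw [hk]
      _ = l • (l • x) := by rw [← mul_smul, kk, ← mul_smul, ll]
      _ = l • (s • x) := by rw [hl]
  have htp : t ≠ p := fun hh => by
    rw [hh, pc] at htc; simp [htc] at h
  have htq : t ≠ q := fun hh => by
    rw [hh, qd] at htd; simp [htd] at h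
  have hpq : p ≠ q := fun hh => by
    rw [hh, qd] at pd; exact ed pd.symm
  -- every class has at most two points
  have hA : ∀ T : Finset Ω, (∀ x ∈ T, x ∈ cls t) → T.card ≤ 2 := by
    intro T hT
    by_contra hc'
    obtain ⟨x, y, z, hx, hy, hz, hxy, hxz, hyz⟩ := Finset.two_lt_card_iff.mp (by omega : 2 < T.card)
    have hu : ∀ w ∈ T, (s * t) • w = w ∧ w ≠ e := fun w hw => by
      obtain ⟨hwR, hw'⟩ := hT w hw
      exact ⟨by rw [mul_smul, hw', hinv], hwR.2.2.2.2⟩
    have : s * t = 1 := S.sharp e x y z _ (by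
      have := (hu x hx).2; have := (hu y hy).2; have := (hu z hz).2
      refine nodup_four ?_ ?_ ?_ ?_ ?_ ?_ <;> first | assumption | (apply Ne.symm; assumption)) (by rw [mul_smul, hte, hse]) (hu x hx).1 (hu y hy).1 (hu z hz).1
    have h2 : (s * t) • a = b := by rw [mul_smul, hta, hsa]
    rw [this, one_smul] at h2
    simp [h2] at h
  have hAfin : (cls t).Finite := by
    by_contra hi
    obtain ⟨T, hT1, hT2⟩ := Set.Infinite.exists_subset_card_eq hi 3
    have := hA T (fun x hx => hT1 hx)
    omega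
  have hA2 : (cls t).ncard = 0 ∨ (cls t).ncard = 2 := by
    rcases Set.eq_empty_or_nonempty (cls t) with h0 | ⟨x, hx⟩
    · left; rw [h0, Set.ncard_empty]
    · right
      apply le_antisymm
      · rw [Set.ncard_eq_toFinset_card _ hAfin]
        exact hA _ (fun y hy => hAfin.mem_toFinset.mp hy)
      · have hy : s • x ∈ cls t := ⟨sR x hx.1, by
          rw [← mul_smul, ← hst, mul_smul, hx.2]⟩
        have yx : s • x ≠ x := fun h1 => by
          obtain ⟨x1, x2, x3, x4, x5⟩ := hx.1
          rcases hsfix x h1 with h2 | h2 | h2 <;> contradiction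
        calc 2 = ({x, s • x} : Set Ω).ncard := (Set.ncard_pair yx.symm).symm
          _ ≤ (cls t).ncard := Set.ncard_le_ncard (by
              rintro w (rfl | rfl)
              · exact hx
              · exact hy) hAfin
  -- conjugating one class onto another
  have hconj : ∀ k l m : G, s * k = k * s → k * k = 1 → k * m = l * k → (∀ x ∈ R, k • x ∈ R) →
      (fun x => k • x) '' cls m = cls l := by
    intro k l m hk kk hkm kR
    have hkm' : m * k = k * l := by
      calc m * k = k * (k * m) * k := by rw [← mul_assoc k k m, kk, one_mul]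
        _ = k * (l * k) * k := by rw [hkm]
        _ = k * l := by rw [mul_assoc, mul_assoc, kk, mul_one]
    ext y
    constructor
    · rintro ⟨x, ⟨hxR, hx⟩, rfl⟩
      refine ⟨kR x hxR, ?_⟩
      simp only [← mul_smul, ← hkm, hk]
      rw [mul_smul, hx, mul_smul]
    · rintro ⟨hyR, hy⟩
      refine ⟨k • y, ⟨kR y hyR, ?_⟩, by show k • k • y = y; rw [← mul_smul, kk, one_smul]⟩
      rw [← mul_smul, hkm', ← mul_smul, hk, mul_smul, hy, mul_smul]
  have h_tq : p * t = q * p := S.eq_of hca (by rw [mul_smul, mul_smul, hta, pa, qa])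
    (by rw [mul_smul, mul_smul, htb, pb, qb]) (by rw [mul_smul, mul_smul, htc, pd, pc, qc])
    (by rw [mul_smul, mul_smul, hte, pe, qd])
  have h_tp : q * t = p * q := S.eq_of hda (by rw [mul_smul, mul_smul, hta, qa, pa])
    (by rw [mul_smul, mul_smul, htb, qb, pb]) (by rw [mul_smul, mul_smul, htd, qc, qd, pd])
    (by rw [mul_smul, mul_smul, hte, qe, pc])
  have cp : (fun x => q • x) '' cls t = cls p := hconj q p t hsq qq h_tp qR
  have cq : (fun x => p • x) '' cls t = cls q := hconj p q t hsp pp h_tq pR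
  have fp : (cls p).Finite := cp ▸ hAfin.image _
  have fq : (cls q).Finite := cq ▸ hAfin.image _
  have hRfin : R.Finite := ((hAfin.union fp).union fq).subset (fun x hx => by
    rcases hcover x hx with h1 | h1 | h1
    · exact Or.inl (Or.inl h1)
    · exact Or.inl (Or.inr h1)
    · exact Or.inr h1)
  have hRcard : R.ncard = 3 * (cls t).ncard := by
    have hR3 : R = cls t ∪ cls p ∪ cls q := Set.Subset.antisymm
      (fun x hx => by
        rcases hcover x hx with h1 | h1 | h1
        · exact Or.inl (Or.inl h1)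
        · exact Or.inl (Or.inr h1)
        · exact Or.inr h1)
      (by rintro x ((h1 | h1) | h1) <;> exact h1.1)
    rw [hR3, Set.ncard_union_eq ?_ (hAfin.union fp) fq, Set.ncard_union_eq ?_ hAfin fp, ← cp, ← cq,
      Set.ncard_image_of_injective _ (MulAction.injective q),
      Set.ncard_image_of_injective _ (MulAction.injective p)]
    · omega
    · exact Set.disjoint_left.mpr (hdisj t p hta htb htt pa pb pp htp)
    · exact Set.disjoint_union_left.mpr ⟨Set.disjoint_left.mpr (hdisj t q hta htb htt qa qb qq htq),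
        Set.disjoint_left.mpr (hdisj p q pa pb pp qa qb qq hpq)⟩
  have hcompl : Rᶜ = (({a, b, c, d, e} : Finset Ω) : Set Ω) := by
    ext x
    simp only [R, Set.mem_compl_iff, Set.mem_setOf_eq, Finset.coe_insert, Finset.coe_singleton,
      Set.mem_insert_iff, Set.mem_singleton_iff]
    tauto
  have hc5 : Rᶜ.ncard = 5 := by
    rw [hcompl, Set.ncard_coe_finset]
    have : ({a, b, c, d, e} : Finset Ω) = [a, b, c, d, e].toFinset := by simp
    rw [this, List.toFinset_card_of_nodup h5]
    rfl
  have hcf : Rᶜ.Finite := hcompl ▸ Finset.finite_toSet _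
  have hfin : Finite Ω := by
    rw [← Set.finite_univ_iff, ← Set.union_compl_self R]
    exact hRfin.union hcf
  refine ⟨hfin, ?_⟩
  have := Set.ncard_add_ncard_compl R
  omega

/-- Theorem of Jordan and Tits. -/
theorem degree (hne : Nonempty (Fin 4 ↪ Ω)) :
    Finite Ω ∧ (Nat.card Ω = 4 ∨ Nat.card Ω = 5 ∨ Nat.card Ω = 6 ∨ Nat.card Ω = 11) := by
  classical
  obtain ⟨x⟩ := hne
  have h : [x 0, x 1, x 2, x 3].Nodup := by
    simp [x.injective.eq_iff]
  obtain ⟨t, hta, htb, htc, htd, htt⟩ := S.exists_swap h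
  by_cases hex : ∃ e, t • e = e ∧ e ≠ x 0 ∧ e ≠ x 1
  · obtain ⟨e, he, h0, h1⟩ := hex
    obtain ⟨hf, hc⟩ := S.third_fixed h hta htb htc htd htt he h0 h1
    exact ⟨hf, by omega⟩
  · push Not at hex
    obtain ⟨hf, hc⟩ := S.no_third_fixed h hta htb htc htd
      (fun z hz => or_iff_not_imp_left.mpr (hex z hz))
    refine ⟨hf, ?_⟩
    have : 4 ≤ Nat.card Ω := by
      have := Nat.card_le_card_of_injective x x.injective
      simpa using this
    omega

end Sharp4

/-- A point stabiliser of a sharply `(k+1)`-transitive action is sharply `k`-transitive. -/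
theorem stabilizer_sharp {k : ℕ} (a : Ω) [h : IsMultiplyPretransitive G Ω (k + 1)]
    [IsPretransitive G Ω] (hs : ∀ x : Fin (k + 1) ↪ Ω, stabilizer G x = ⊥) :
    IsMultiplyPretransitive (stabilizer G a) (SubMulAction.ofStabilizer G a) k ∧
      ∀ x : Fin k ↪ SubMulAction.ofStabilizer G a, stabilizer (stabilizer G a) x = ⊥ := by
  refine ⟨SubMulAction.ofStabilizer.isMultiplyPretransitive.mp h, fun x => ?_⟩
  rw [Subgroup.eq_bot_iff_forall]
  intro g hg
  rw [mem_stabilizer_iff] at hg
  let y : Fin (k + 1) ↪ Ω := ⟨Fin.cons a (fun i => (x i : Ω)), by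
    rw [Fin.cons_injective_iff]
    refine ⟨?_, Subtype.val_injective.comp x.injective⟩
    rintro ⟨i, hi⟩
    exact (SubMulAction.mem_ofStabilizer_iff G a).mp (x i).2 hi⟩
  have : (g : G) ∈ stabilizer G y := by
    rw [mem_stabilizer_iff]
    ext i
    cases i using Fin.cases with
    | zero =>
      show (g : G) • a = a
      exact mem_stabilizer_iff.mp g.2
    | succ i =>
      show (g : G) • ((Fin.cons a fun i => (x i : Ω)) : Fin (k + 1) → Ω) i.succ = ((Fin.cons a fun i => (x i : Ω)) : Fin (k + 1) → Ω) i.succ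
      simp only [Fin.cons_succ]
      exact congrArg Subtype.val (DFunLike.congr_fun hg i)
  rw [hs] at this
  exact Subtype.ext this

theorem card_ofStabilizer [Finite Ω] (a : Ω) :
    Nat.card (SubMulAction.ofStabilizer G a) + 1 = Nat.card Ω := by
  classical
  have hc : (SubMulAction.ofStabilizer G a : Set Ω) = {a}ᶜ := rfl
  have := Set.ncard_add_ncard_compl ({a} : Set Ω)
  rw [Set.ncard_singleton] at this
  rw [show Nat.card (SubMulAction.ofStabilizer G a) = ({a}ᶜ : Set Ω).ncard from
    (Nat.card_coe_set_eq _).symm ▸ rfl]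
  omega

theorem card_of_sharp {k : ℕ} [Finite Ω] [h : IsMultiplyPretransitive G Ω k] (x : Fin k ↪ Ω)
    (hs : stabilizer G x = ⊥) : Nat.card G = (Nat.card Ω).descFactorial k := by
  classical
  haveI := Fintype.ofFinite Ω
  haveI : IsPretransitive G (Fin k ↪ Ω) := h
  have := MulAction.index_stabilizer_of_transitive G x
  rw [hs, Subgroup.index_bot, Nat.card_eq_fintype_card (α := Fin k ↪ Ω),
    Fintype.card_embedding_eq, Fintype.card_fin] at this
  rw [this, Nat.card_eq_fintype_card]

/-- In a group acting faithfully in prime degree, an element centralising a subgroup of that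
prime order lies in it. -/
theorem centralizer_eq_of_prime_degree {p : ℕ} [Fact p.Prime] [Finite Ω] [FaithfulSMul G Ω]
    (hp : Nat.card Ω = p) (P : Subgroup G) (hP : Nat.card P = p) :
    Subgroup.centralizer (P : Set G) ≤ P := by
  classical
  haveI : Finite P := Nat.finite_of_card_ne_zero (by rw [hP]; exact (Fact.out : p.Prime).ne_zero)
  haveI := Fintype.ofFinite Ω
  obtain ⟨x0, u, hu⟩ : ∃ (x : Ω) (u : P), (u : G) • x ≠ x := by
    by_contra hc
    push Not at hc
    have : P = ⊥ := by
      rw [Subgroup.eq_bot_iff_forall]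
      intro g hg
      apply eq_of_smul_eq_smul (α := Ω)
      intro x
      rw [one_smul]
      exact hc x ⟨g, hg⟩
    rw [this, Subgroup.card_bot] at hP
    exact (Fact.out : p.Prime).one_lt.ne hP
  have htr : ∀ x : Ω, ∃ v : P, (v : G) • x0 = x := by
    have hstab : stabilizer P x0 = ⊥ := by
      rcases (stabilizer P x0).eq_bot_or_eq_top_of_prime_card (hp := by rw [hP]; infer_instance) with h | h
      · exact h
      · exact absurd (show u ∈ stabilizer P x0 from h ▸ Subgroup.mem_top u) hu
    have h1 : Nat.card (orbit P x0) = p := by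
      have := MulAction.index_stabilizer P x0
      rw [hstab, Subgroup.index_bot, hP, ← Nat.card_coe_set_eq] at this
      omega
    intro x
    have h2 : orbit P x0 = Set.univ :=
      Set.eq_of_subset_of_ncard_le (Set.subset_univ _) (by
        rw [Set.ncard_univ, hp, ← Nat.card_coe_set_eq, h1]) (Set.toFinite _)
    obtain ⟨v, hv⟩ := (h2 ▸ Set.mem_univ x : x ∈ orbit P x0)
    exact ⟨v, hv⟩
  intro g hg
  obtain ⟨v, hv⟩ := htr (g • x0)
  have hgv : g = v := by
    apply eq_of_smul_eq_smul (α := Ω)
    intro x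
    obtain ⟨w, rfl⟩ := htr x
    haveI : IsCyclic P := isCyclic_of_prime_card hP
    letI := IsCyclic.commGroup (α := P)
    calc g • (w : G) • x0 = (w : G) • g • x0 := by
          rw [← mul_smul, ← (Subgroup.mem_centralizer_iff.mp hg) _ w.2, mul_smul]
      _ = (w : G) • (v : G) • x0 := by rw [hv]
      _ = (v : G) • (w : G) • x0 := by
          rw [← mul_smul, ← mul_smul, ← Subgroup.coe_mul, mul_comm w v, Subgroup.coe_mul]
  rw [hgv]
  exact v.2

/-- The order of the normaliser of a subgroup of order `p` in degree `p` divides `p (p - 1)`. -/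
theorem card_normalizer_dvd {p : ℕ} [Fact p.Prime] [Finite G] [Finite Ω] [FaithfulSMul G Ω]
    (hp : Nat.card Ω = p) (P : Subgroup G) (hP : Nat.card P = p) :
    Nat.card (Subgroup.normalizer (P : Set G)) ∣ p * (p - 1) := by
  let f := P.normalizerMonoidHom
  haveI : IsCyclic P := isCyclic_of_prime_card hP
  have hk : Nat.card f.ker ∣ p := by
    rw [Subgroup.normalizerMonoidHom_ker, ← hP]
    refine (dvd_of_eq (Nat.card_congr (Subgroup.subgroupOfEquivOfLe ?_).toEquiv)).trans
      (Subgroup.card_dvd_of_le (centralizer_eq_of_prime_degree hp P hP))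
    exact Subgroup.centralizer_le_normalizer (P : Set G)
  have hr : Nat.card f.range ∣ p - 1 := by
    refine (Subgroup.card_subgroup_dvd_card _).trans ?_
    rw [IsCyclic.card_mulAut, hP, Nat.totient_prime Fact.out]
  have := f.ker.card_mul_index
  rw [Subgroup.index_ker] at this
  rw [← this]
  exact mul_dvd_mul hk hr

theorem isPretransitive_of_multiply {k : ℕ} [Finite Ω] (hk : 2 ≤ k) (hn : k ≤ Nat.card Ω)
    [IsMultiplyPretransitive G Ω k] : IsPretransitive G Ω :=
  @MulAction.isPretransitive_of_is_two_pretransitive G Ω _ _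
    (isMultiplyPretransitive_of_le (n := k) hk hn)

theorem faithful_of_sharp {k : ℕ} [Finite Ω] (hn : k ≤ Nat.card Ω)
    (hs : ∀ x : Fin k ↪ Ω, stabilizer G x = ⊥) : FaithfulSMul G Ω := by
  haveI := Fintype.ofFinite Ω
  obtain ⟨x⟩ := Function.Embedding.nonempty_of_card_le (α := Fin k) (β := Ω)
    (by simpa [Nat.card_eq_fintype_card] using hn)
  refine ⟨fun {g h} hgh => ?_⟩
  have : g⁻¹ * h ∈ stabilizer G x := by
    rw [mem_stabilizer_iff]
    ext i
    show (g⁻¹ * h) • x i = x i
    rw [mul_smul, ← hgh, inv_smul_smul]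
  rw [hs x] at this
  exact inv_mul_eq_one.mp this

theorem finite_of_sharp {k : ℕ} [Finite Ω] (hn : k ≤ Nat.card Ω)
    (hs : ∀ x : Fin k ↪ Ω, stabilizer G x = ⊥) : Finite G := by
  haveI := faithful_of_sharp hn hs
  exact Finite.of_injective (MulAction.toPerm : G → Equiv.Perm Ω) MulAction.toPerm_injective

theorem exists_embedding {k : ℕ} [Finite Ω] (hn : k ≤ Nat.card Ω) : Nonempty (Fin k ↪ Ω) := by
  haveI := Fintype.ofFinite Ω
  exact Function.Embedding.nonempty_of_card_le (by simpa [Nat.card_eq_fintype_card] using hn)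

theorem degree_four (hs : ∀ x : Fin 4 ↪ Ω, stabilizer G x = ⊥) [h : IsMultiplyPretransitive G Ω 4]
    [Finite Ω] (hn : 4 ≤ Nat.card Ω) :
    Nat.card Ω = 4 ∨ Nat.card Ω = 5 ∨ Nat.card Ω = 6 ∨ Nat.card Ω = 11 :=
  ((sharp4_of_pretransitive h hs).degree (exists_embedding hn)).2

theorem degree_five (hs : ∀ x : Fin 5 ↪ Ω, stabilizer G x = ⊥) [IsMultiplyPretransitive G Ω 5]
    [Finite Ω] (hn : 5 ≤ Nat.card Ω) :
    Nat.card Ω = 5 ∨ Nat.card Ω = 6 ∨ Nat.card Ω = 7 ∨ Nat.card Ω = 12 := by
  haveI := isPretransitive_of_multiply (G := G) (k := 5) (by norm_num) hn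
  obtain ⟨a⟩ : Nonempty Ω := (Nat.card_pos_iff.mp (by omega)).1
  obtain ⟨h, h'⟩ := stabilizer_sharp (G := G) (k := 4) a hs
  haveI := h
  have := card_ofStabilizer (G := G) a
  have := degree_four h' (by omega)
  omega

theorem not_sharp_six_thirteen (hs : ∀ x : Fin 6 ↪ Ω, stabilizer G x = ⊥)
    [IsMultiplyPretransitive G Ω 6] [Finite Ω] (hn : Nat.card Ω = 13) : False := by
  haveI : Fact (Nat.Prime 13) := ⟨by norm_num⟩
  haveI := faithful_of_sharp (by omega) hs
  haveI := finite_of_sharp (by omega) hs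
  obtain ⟨x⟩ := exists_embedding (Ω := Ω) (k := 6) (by omega)
  have hG : Nat.card G = 1235520 := by rw [card_of_sharp x (hs x), hn]; rfl
  obtain ⟨P⟩ : Nonempty (Sylow 13 G) := inferInstance
  have hP : Nat.card (P : Subgroup G) = 13 := by
    rw [P.card_eq_multiplicity, hG]
    rw [show (1235520 : ℕ) = 13 ^ 1 * 95040 by norm_num,
      Nat.factorization_mul (by norm_num) (by norm_num), Finsupp.add_apply,
      Nat.Prime.factorization_pow (by norm_num), Nat.factorization_eq_zero_of_not_dvd (by norm_num : ¬ 13 ∣ 95040)]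
    simp
  have h1 := card_sylow_modEq_one 13 G
  have h2 := Subgroup.card_mul_index (Subgroup.normalizer (P : Set G))
  rw [← P.card_eq_index_normalizer, hG] at h2
  have h3 : Nat.card (Subgroup.normalizer (P : Set G)) ∣ 13 * (13 - 1) :=
    card_normalizer_dvd hn (P : Subgroup G) hP
  generalize Nat.card (Subgroup.normalizer (P : Set G)) = N at h2 h3
  generalize Nat.card (Sylow 13 G) = m at h1 h2
  have hN : N ∈ Nat.divisors 156 := Nat.mem_divisors.mpr ⟨h3, by norm_num⟩
  rw [show Nat.divisors 156 = {1, 2, 3, 4, 6, 12, 13, 26, 39, 52, 78, 156} by decide] at hN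
  unfold Nat.ModEq at h1
  simp only [Finset.mem_insert, Finset.mem_singleton] at hN
  rcases hN with rfl | rfl | rfl | rfl | rfl | rfl | rfl | rfl | rfl | rfl | rfl | rfl <;> omega

end Cfsg.Agent.SharpTransitive

namespace Cfsg.Agent.SharpTransitive

universe u v

theorem degree_ge_six (k : ℕ) (hk : 6 ≤ k) :
    ∀ {G : Type u} [Group G] {Ω : Type v} [Finite Ω] [MulAction G Ω] [IsMultiplyPretransitive G Ω k],
      (∀ x : Fin k ↪ Ω, stabilizer G x = ⊥) → k ≤ Nat.card Ω →
      Nat.card Ω = k ∨ Nat.card Ω = k + 1 ∨ Nat.card Ω = k + 2 := by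
  induction k, hk using Nat.le_induction with
  | base =>
    intro G _ Ω _ _ _ hs hn
    haveI := isPretransitive_of_multiply (G := G) (k := 6) (by norm_num) hn
    obtain ⟨a⟩ : Nonempty Ω := (Nat.card_pos_iff.mp (by omega)).1
    obtain ⟨h, h'⟩ := stabilizer_sharp (G := G) (k := 5) a hs
    haveI := h
    have := card_ofStabilizer (G := G) a
    rcases degree_five h' (by omega) with h5 | h5 | h5 | h5
    · omega
    · omega
    · omega
    · exact (not_sharp_six_thirteen hs (by omega)).elim
  | succ k hk ih =>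
    intro G _ Ω _ _ _ hs hn
    haveI := isPretransitive_of_multiply (G := G) (k := k + 1) (by omega) hn
    obtain ⟨a⟩ : Nonempty Ω := (Nat.card_pos_iff.mp (by omega)).1
    obtain ⟨h, h'⟩ := stabilizer_sharp (G := G) (k := k) a hs
    haveI := h
    have := card_ofStabilizer (G := G) a
    have := ih h' (by omega)
    omega

variable {G : Type u} [Group G] {Ω : Type v} [MulAction G Ω] [Finite Ω]

/-- A sharply 4-transitive group of degree 11 is simple. -/
theorem isSimpleGroup_degree_eleven (hs : ∀ x : Fin 4 ↪ Ω, stabilizer G x = ⊥)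
    [IsMultiplyPretransitive G Ω 4] (hn : Nat.card Ω = 11) :
    IsSimpleGroup G ∧ Nat.card G = 7920 := by
  haveI : Fact (Nat.Prime 11) := ⟨by norm_num⟩
  haveI := faithful_of_sharp (by omega) hs
  haveI := finite_of_sharp (by omega) hs
  obtain ⟨x⟩ := exists_embedding (Ω := Ω) (k := 4) (by omega)
  have hG : Nat.card G = 7920 := by rw [card_of_sharp x (hs x), hn]; rfl
  haveI : Nontrivial G := Finite.one_lt_card_iff_nontrivial.mp (by omega)
  refine ⟨⟨fun K hK => ?_⟩, hG⟩
  by_cases hbot : K = ⊥
  · exact Or.inl hbot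
  right
  haveI : IsMultiplyPretransitive G Ω 2 := isMultiplyPretransitive_of_le (n := 4) (by norm_num) (by omega)
  haveI := isPreprimitive_of_is_two_pretransitive (G := G) (α := Ω) inferInstance
  have hfix : MulAction.fixedPoints K Ω ≠ Set.univ := by
    intro hh
    apply hbot
    rw [Subgroup.eq_bot_iff_forall]
    intro g hg
    apply eq_of_smul_eq_smul (α := Ω)
    intro y
    rw [one_smul]
    exact (hh ▸ Set.mem_univ y : y ∈ MulAction.fixedPoints K Ω) ⟨g, hg⟩
  haveI hKt : IsPretransitive K Ω := IsQuasiPreprimitive.isPretransitive_of_normal hfix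
  have h11 : 11 ∣ Nat.card K := by
    obtain ⟨y⟩ : Nonempty Ω := (Nat.card_pos_iff.mp (by omega)).1
    rw [← hn, ← index_stabilizer_of_transitive K y]
    exact Subgroup.index_dvd_card _
  obtain ⟨P⟩ : Nonempty (Sylow 11 K) := inferInstance
  have hK0 : Nat.card K ∣ 7920 := hG ▸ Subgroup.card_subgroup_dvd_card K
  have hnd : ¬ 11 ^ 2 ∣ Nat.card K := fun hh => by
    exact absurd (hh.trans hK0) (by decide)
  have hP : Nat.card (P : Subgroup K) = 11 := by
    rw [P.card_eq_multiplicity]
    obtain ⟨m, hm⟩ := h11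
    have hm0 : m ≠ 0 := by rintro rfl; exact (Nat.card_pos (α := K)).ne' (by simpa using hm)
    rw [hm, Nat.factorization_mul (by norm_num) hm0, Finsupp.add_apply,
      Nat.Prime.factorization_self (by norm_num), Nat.factorization_eq_zero_of_not_dvd]
    · simp
    · intro hh; apply hnd; rw [hm, pow_two]; exact Nat.mul_dvd_mul_left 11 hh
  let Q : Subgroup G := (P : Subgroup K).map K.subtype
  have hQ : Nat.card Q = 11 := by
    rw [← hP]; exact (Nat.card_congr (Subgroup.equivMapOfInjective _ _ K.subtype_injective).toEquiv).symm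
  have hsyl : ∀ Q' : Sylow 11 G, Nat.card (Q' : Subgroup G) = 11 := fun Q' => by
    rw [Q'.card_eq_multiplicity, hG]
    rw [show (7920 : ℕ) = 11 ^ 1 * 720 by norm_num, Nat.factorization_mul (by norm_num) (by norm_num),
      Finsupp.add_apply, Nat.Prime.factorization_pow (by norm_num),
      Nat.factorization_eq_zero_of_not_dvd (by norm_num : ¬ 11 ∣ 720)]
    simp
  obtain ⟨R⟩ : Nonempty (Sylow 11 G) := inferInstance
  -- the normaliser in `G` has order 55
  have hN : Nat.card (Subgroup.normalizer ((R : Subgroup G) : Set G)) = 55 := by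
    have h1 := card_sylow_modEq_one 11 G
    have h2 := Subgroup.card_mul_index (Subgroup.normalizer (R : Set G))
    rw [← R.card_eq_index_normalizer, hG] at h2
    show Nat.card (Subgroup.normalizer (R : Set G)) = 55
    have h3 : Nat.card (Subgroup.normalizer (R : Set G)) ∣ 11 * (11 - 1) :=
      card_normalizer_dvd hn (R : Subgroup G) (hsyl R)
    generalize Nat.card (Subgroup.normalizer (R : Set G)) = N at h2 h3 ⊢
    generalize Nat.card (Sylow 11 G) = m at h1 h2
    have hN : N ∈ Nat.divisors 110 := Nat.mem_divisors.mpr ⟨h3, by norm_num⟩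
    rw [show Nat.divisors 110 = {1, 2, 5, 10, 11, 22, 55, 110} by decide] at hN
    unfold Nat.ModEq at h1
    simp only [Finset.mem_insert, Finset.mem_singleton] at hN
    rcases hN with rfl | rfl | rfl | rfl | rfl | rfl | rfl | rfl <;> omega
  -- Frattini argument
  have hPi := hsyl R
  have hidx : K.index ∣ 5 := by
    have hRK : (R : Subgroup G) ≤ K := by
      obtain ⟨g, hg⟩ := MulAction.exists_smul_eq G
        (Sylow.ofCard Q (hQ.trans (hPi.symm.trans R.card_eq_multiplicity)) : Sylow 11 G) R
      rw [← hg]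
      intro y hy
      obtain ⟨z, hz, rfl⟩ := hy
      exact hK.conj_mem z (Subgroup.map_subtype_le _ hz) g
    have h1 : Subgroup.normalizer ((R : Subgroup G) : Set G) ⊔ K = ⊤ := Sylow.normalizer_sup_eq_top' R hRK
    have h2 : K.index = K.relIndex (Subgroup.normalizer ((R : Subgroup G) : Set G)) := by
      rw [← Subgroup.relIndex_sup_right (H := Subgroup.normalizer ((R : Subgroup G) : Set G)) (K := K),
        h1, Subgroup.relIndex_top_right]
    rw [h2]
    have h3 : Nat.card (R : Subgroup G) *
        (R : Subgroup G).relIndex (Subgroup.normalizer ((R : Subgroup G) : Set G)) = 55 := by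
      rw [← Subgroup.relIndex_bot_left, Subgroup.relIndex_mul_relIndex _ _ _ bot_le
        (Subgroup.le_normalizer), Subgroup.relIndex_bot_left, hN]
    rw [hPi] at h3
    have h4 : (R : Subgroup G).relIndex (Subgroup.normalizer ((R : Subgroup G) : Set G)) = 5 := by omega
    rw [← h4]
    exact Subgroup.relIndex_dvd_of_le_left _ hRK
  rcases (Nat.dvd_prime (by norm_num : Nat.Prime 5)).mp hidx with h1 | h5
  · exact Subgroup.index_eq_one.mp h1
  exfalso
  have hKc : Nat.card K = 1584 := by
    have := K.card_mul_index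
    rw [h5, hG] at this
    omega
  -- in `K` the Sylow 11-subgroup is self-normalising, hence has a normal complement
  have hdvd : Nat.card (Subgroup.normalizer (P : Set K)) ∣ 11 * (11 - 1) :=
    card_normalizer_dvd (G := K) hn (P : Subgroup K) hP
  have hNK : Nat.card (Subgroup.normalizer ((P : Subgroup K) : Set K)) = 11 := by
    show Nat.card (Subgroup.normalizer (P : Set K)) = 11
    have h1 := card_sylow_modEq_one 11 K
    have h2 := Subgroup.card_mul_index (Subgroup.normalizer (P : Set K))
    rw [← P.card_eq_index_normalizer, hKc] at h2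
    generalize Nat.card (Subgroup.normalizer (P : Set K)) = N at h2 hdvd ⊢
    generalize Nat.card (Sylow 11 K) = m at h1 h2
    have hN : N ∈ Nat.divisors 110 := Nat.mem_divisors.mpr ⟨hdvd, by norm_num⟩
    rw [show Nat.divisors 110 = {1, 2, 5, 10, 11, 22, 55, 110} by decide] at hN
    unfold Nat.ModEq at h1
    simp only [Finset.mem_insert, Finset.mem_singleton] at hN
    rcases hN with rfl | rfl | rfl | rfl | rfl | rfl | rfl | rfl <;> omega
  have hle : Subgroup.normalizer ((P : Subgroup K) : Set K) ≤ Subgroup.centralizer ((P : Subgroup K) : Set K) := by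
    have h1 : (P : Subgroup K) = Subgroup.normalizer ((P : Subgroup K) : Set K) :=
      Subgroup.eq_of_le_of_card_ge Subgroup.le_normalizer (by rw [hNK, hP])
    rw [← h1]
    haveI : IsCyclic (P : Subgroup K) := isCyclic_of_prime_card hP
    letI := IsCyclic.commGroup (α := (P : Subgroup K))
    intro g hg
    rw [Subgroup.mem_centralizer_iff]
    intro y hy
    have := congrArg Subtype.val (mul_comm (⟨y, hy⟩ : (P : Subgroup K)) ⟨g, hg⟩)
    exact this
  have hc := MonoidHom.ker_transferSylow_isComplement' P hle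
  set M := (MonoidHom.transferSylow P hle).ker with hM
  have hMc : Nat.card M = 144 := by
    have := hc.card_mul
    rw [hP, hKc] at this
    omega
  haveI hMn : M.Normal := MonoidHom.normal_ker _
  -- `M` is characteristic in `K`, hence normal in `G`
  haveI : M.Characteristic := by
    have hMi : M.index = 11 := by
      have := M.card_mul_index
      rw [hMc, hKc] at this
      omega
    rw [Subgroup.characteristic_iff_le_map]
    intro φ
    have hcard : Nat.card (M.map φ.toMonoidHom) = 144 := by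
      rw [← hMc]; exact (Nat.card_congr (Subgroup.equivMapOfInjective _ _ φ.injective).toEquiv).symm
    have h1 : Nat.card ((M.map φ.toMonoidHom).map (QuotientGroup.mk' M)) ∣ 11 := by
      have := Subgroup.card_subgroup_dvd_card ((M.map φ.toMonoidHom).map (QuotientGroup.mk' M))
      rwa [show Nat.card (K ⧸ M) = 11 from hMi] at this
    have h2 : Nat.card ((M.map φ.toMonoidHom).map (QuotientGroup.mk' M)) ∣ 144 :=
      hcard ▸ Subgroup.card_map_dvd _ _
    have h3 := Nat.dvd_gcd h1 h2
    have h4 : (M.map φ.toMonoidHom).map (QuotientGroup.mk' M) = ⊥ :=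
      Subgroup.eq_bot_of_card_eq _ (Nat.dvd_one.mp (by simpa using h3))
    rw [Subgroup.map_eq_bot_iff, QuotientGroup.ker_mk'] at h4
    rw [Subgroup.eq_of_le_of_card_ge h4 (by rw [hcard, hMc])]
  have hMG : (M.map K.subtype).Normal := inferInstance
  have hMb : M.map K.subtype ≠ ⊥ := by
    intro hh
    rw [Subgroup.map_eq_bot_iff_of_injective _ K.subtype_injective] at hh
    rw [hh, Subgroup.card_bot] at hMc
    omega
  have hfixM : MulAction.fixedPoints (M.map K.subtype) Ω ≠ Set.univ := by
    intro hh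
    apply hMb
    rw [Subgroup.eq_bot_iff_forall]
    intro g hg
    apply eq_of_smul_eq_smul (α := Ω)
    intro y
    rw [one_smul]
    exact (hh ▸ Set.mem_univ y : y ∈ MulAction.fixedPoints (M.map K.subtype) Ω) ⟨g, hg⟩
  haveI := IsQuasiPreprimitive.isPretransitive_of_normal hfixM
  obtain ⟨y⟩ : Nonempty Ω := (Nat.card_pos_iff.mp (by omega)).1
  have h1 : 11 ∣ Nat.card (M.map K.subtype) := by
    rw [← hn, ← index_stabilizer_of_transitive (M.map K.subtype) y]
    exact Subgroup.index_dvd_card _
  rw [← Nat.card_congr (Subgroup.equivMapOfInjective _ _ K.subtype_injective).toEquiv, hMc] at h1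
  norm_num at h1

/-- A sharply 5-transitive group of degree 12 is simple. -/
theorem isSimpleGroup_degree_twelve (hs : ∀ x : Fin 5 ↪ Ω, stabilizer G x = ⊥)
    [IsMultiplyPretransitive G Ω 5] (hn : Nat.card Ω = 12) :
    IsSimpleGroup G ∧ Nat.card G = 95040 := by
  haveI := faithful_of_sharp (by omega) hs
  haveI := finite_of_sharp (by omega) hs
  obtain ⟨x⟩ := exists_embedding (Ω := Ω) (k := 5) (by omega)
  have hG : Nat.card G = 95040 := by rw [card_of_sharp x (hs x), hn]; rfl
  haveI : Nontrivial G := Finite.one_lt_card_iff_nontrivial.mp (by omega)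
  haveI := isPretransitive_of_multiply (G := G) (k := 5) (by norm_num) (hn.symm ▸ (by norm_num : 5 ≤ 12))
  obtain ⟨a⟩ : Nonempty Ω := (Nat.card_pos_iff.mp (by omega)).1
  obtain ⟨h4, h4'⟩ := stabilizer_sharp (G := G) (k := 4) a hs
  haveI := h4
  have hc := card_ofStabilizer (G := G) a
  obtain ⟨hsimp, -⟩ := isSimpleGroup_degree_eleven h4' (by omega)
  refine ⟨⟨fun K hK => ?_⟩, hG⟩
  by_cases hbot : K = ⊥
  · exact Or.inl hbot
  right
  haveI : IsMultiplyPretransitive G Ω 2 := isMultiplyPretransitive_of_le (n := 5) (by norm_num) (by omega)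
  haveI := isPreprimitive_of_is_two_pretransitive (G := G) (α := Ω) inferInstance
  have hfix : MulAction.fixedPoints K Ω ≠ Set.univ := by
    intro hh
    apply hbot
    rw [Subgroup.eq_bot_iff_forall]
    intro g hg
    apply eq_of_smul_eq_smul (α := Ω)
    intro y
    rw [one_smul]
    exact (hh ▸ Set.mem_univ y : y ∈ MulAction.fixedPoints K Ω) ⟨g, hg⟩
  haveI hKt : IsPretransitive K Ω := IsQuasiPreprimitive.isPretransitive_of_normal hfix
  rcases hsimp.eq_bot_or_eq_top_of_normal (K.subgroupOf (stabilizer G a)) inferInstance with h | h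
  · exfalso
    -- `K` would be regular of order 12
    have hreg : ∀ k ∈ K, k • a = a → k = 1 := by
      intro k hk hka
      have : (⟨k, hka⟩ : stabilizer G a) ∈ K.subgroupOf (stabilizer G a) := hk
      rw [h] at this
      exact congrArg Subtype.val (Subgroup.mem_bot.mp this)
    have hKc : Nat.card K = 12 := by
      have h1 : stabilizer K a = ⊥ := by
        rw [Subgroup.eq_bot_iff_forall]
        intro k hk
        exact Subtype.ext (hreg k k.2 hk)
      have h2 := index_stabilizer_of_transitive K a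
      rw [h1, Subgroup.index_bot, hn] at h2
      exact h2
    haveI : Fact (Nat.Prime 2) := ⟨by norm_num⟩
    haveI : Fact (Nat.Prime 3) := ⟨by norm_num⟩
    obtain ⟨k2, hk2⟩ := exists_prime_orderOf_dvd_card' (G := K) 2 (by rw [hKc]; norm_num)
    obtain ⟨k3, hk3⟩ := exists_prime_orderOf_dvd_card' (G := K) 3 (by rw [hKc]; norm_num)
    have hne : ∀ k : K, k ≠ 1 → (k : G) • a ≠ a := fun k hk hh =>
      hk (Subtype.ext (hreg k k.2 hh))
    have h21 : k2 ≠ 1 := fun hh => by rw [hh, orderOf_one] at hk2; norm_num at hk2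
    have h31 : k3 ≠ 1 := fun hh => by rw [hh, orderOf_one] at hk3; norm_num at hk3
    obtain ⟨g, hga, hg⟩ := is_two_pretransitive_iff.mp ‹IsMultiplyPretransitive G Ω 2›
      (hne k2 h21).symm (hne k3 h31).symm
    have heq : g * (k2 : G) * g⁻¹ = k3 := by
      have hm : (k3 : G)⁻¹ * (g * (k2 : G) * g⁻¹) ∈ K :=
        mul_mem (inv_mem k3.2) (hK.conj_mem _ k2.2 g)
      have h1 := hreg _ hm (by
        have : g⁻¹ • a = a := by rw [inv_smul_eq_iff, hga]
        rw [mul_smul, mul_smul, mul_smul, this, hg, inv_smul_smul])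
      exact (inv_mul_eq_one.mp h1).symm
    have h5 : orderOf (g * (k2 : G) * g⁻¹) = orderOf (k2 : G) := by
      rw [← MulAut.conj_apply]; exact orderOf_injective (MulAut.conj g).toMonoidHom (MulAut.conj g).injective _
    rw [heq, Subgroup.orderOf_coe, Subgroup.orderOf_coe, hk2, hk3] at h5
    norm_num at h5
  · rw [Subgroup.subgroupOf_eq_top] at h
    rw [eq_top_iff]
    intro g _
    obtain ⟨k, hk⟩ := MulAction.exists_smul_eq K a (g • a)
    have hk' : (k : G) • a = g • a := hk
    have : (k : G)⁻¹ * g ∈ K := h (by rw [mem_stabilizer_iff, mul_smul, ← hk', inv_smul_smul])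
    have := mul_mem k.2 this
    rwa [mul_inv_cancel_left] at this

end Cfsg.Agent.SharpTransitive
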