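import Cfsg.Agent.Lib.ONBase90
import Cfsg.Agent.Lib.ONM11Data90
import Cfsg.Agent.Lib.SharpTransitive

/-! A Mathieu group M₁₁ inside the presented O'Nan group. -/

set_option autoImplicit false
set_option maxRecDepth 100000

namespace Cfsg.Agent.ONM11Sub90

open Cfsg.Agent.CosetCertCore Cfsg.Agent.CosetCertTable Cfsg.Agent.ONIndex90 Cfsg.Agent.ONBase90
open Cfsg.Agent.ONM11Data90
open Cfsg.Agent.ONPermData64 (run)

/-- Word of a generator. -/
def gword (g : Nat) : List Nat := if g = 0 then [0] else bWord

/-- Images of a generator on 11 points. -/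
def gact (g : Nat) : List Nat := if g = 0 then act0 else act1

/-- Coordinate of the packed key. -/
noncomputable def key0 (i : Nat) : Nat := Nat.shiftRight (entry keyTbl 51 i) 34
/-- Coordinate of the packed key. -/
noncomputable def key1 (i : Nat) : Nat := Nat.land (Nat.shiftRight (entry keyTbl 51 i) 17) 131071
/-- Coordinate of the packed key. -/
noncomputable def key2 (i : Nat) : Nat := Nat.land (entry keyTbl 51 i) 131071
/-- The permutation of element `i` at `c`. -/
noncomputable def pt (i c : Nat) : Nat := Nat.land (Nat.shiftRight (entry permTbl 44 i) (4 * c)) 15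
/-- The product with generator `g`. -/
noncomputable def nxt (g i : Nat) : Nat := Nat.land (Nat.shiftRight (entry mulTbl 26 i) (13 * g)) 8191
/-- The code of the images of 0, 1, 2, 3. -/
noncomputable def code (i : Nat) : Nat := ((pt i 0 * 11 + pt i 1) * 11 + pt i 2) * 11 + pt i 3

/-- The check of one product. -/
noncomputable def stepOk (i g : Nat) : Bool :=
  force (nxt g i) fun j =>
  Nat.blt j 7920 && Nat.beq (run (gword g) (key0 i)) (key0 j) && Nat.beq (run (gword g) (key1 i)) (key1 j) &&
    Nat.beq (run (gword g) (key2 i)) (key2 j) &&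
    allFrom (fun c => Nat.beq ((gact g).getD (pt i c) 0) (pt j c)) 11 0

/-- The check of one element. -/
noncomputable def elOk (i : Nat) : Bool :=
  stepOk i 0 && stepOk i 1 && Nat.beq (entry invTbl 13 (code i)) i &&
    allFrom (fun c => Nat.blt (pt i c) 11) 11 0 &&
    (Nat.beq i 0 || (force (entry parTbl 14 i) fun p =>
      Nat.blt (Nat.shiftRight p 1) i && Nat.beq (nxt (Nat.land p 1) (Nat.shiftRight p 1)) i))

theorem el0 : allFrom elOk 256 0 = true := by decide +kernel

theorem el1 : allFrom elOk 256 256 = true := by decide +kernel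

theorem el2 : allFrom elOk 256 512 = true := by decide +kernel

theorem el3 : allFrom elOk 256 768 = true := by decide +kernel

theorem el4 : allFrom elOk 256 1024 = true := by decide +kernel

theorem el5 : allFrom elOk 256 1280 = true := by decide +kernel

theorem el6 : allFrom elOk 256 1536 = true := by decide +kernel

theorem el7 : allFrom elOk 256 1792 = true := by decide +kernel

theorem el8 : allFrom elOk 256 2048 = true := by decide +kernel

theorem el9 : allFrom elOk 256 2304 = true := by decide +kernel

theorem el10 : allFrom elOk 256 2560 = true := by decide +kernel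

theorem el11 : allFrom elOk 256 2816 = true := by decide +kernel

theorem el12 : allFrom elOk 256 3072 = true := by decide +kernel

theorem el13 : allFrom elOk 256 3328 = true := by decide +kernel

theorem el14 : allFrom elOk 256 3584 = true := by decide +kernel

theorem el15 : allFrom elOk 256 3840 = true := by decide +kernel

theorem el16 : allFrom elOk 256 4096 = true := by decide +kernel

theorem el17 : allFrom elOk 256 4352 = true := by decide +kernel

theorem el18 : allFrom elOk 256 4608 = true := by decide +kernel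

theorem el19 : allFrom elOk 256 4864 = true := by decide +kernel

theorem el20 : allFrom elOk 256 5120 = true := by decide +kernel

theorem el21 : allFrom elOk 256 5376 = true := by decide +kernel

theorem el22 : allFrom elOk 256 5632 = true := by decide +kernel

theorem el23 : allFrom elOk 256 5888 = true := by decide +kernel

theorem el24 : allFrom elOk 256 6144 = true := by decide +kernel

theorem el25 : allFrom elOk 256 6400 = true := by decide +kernel

theorem el26 : allFrom elOk 256 6656 = true := by decide +kernel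

theorem el27 : allFrom elOk 256 6912 = true := by decide +kernel

theorem el28 : allFrom elOk 256 7168 = true := by decide +kernel

theorem el29 : allFrom elOk 256 7424 = true := by decide +kernel

theorem el30 : allFrom elOk 240 7680 = true := by decide +kernel

theorem el_all : AllBelow elOk 7920 := by
  have h : AllBelow elOk 0 := AllBelow.zero _
  replace h : AllBelow elOk 256 := h.step 256 el0
  replace h : AllBelow elOk 512 := h.step 256 el1
  replace h : AllBelow elOk 768 := h.step 256 el2
  replace h : AllBelow elOk 1024 := h.step 256 el3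
  replace h : AllBelow elOk 1280 := h.step 256 el4
  replace h : AllBelow elOk 1536 := h.step 256 el5
  replace h : AllBelow elOk 1792 := h.step 256 el6
  replace h : AllBelow elOk 2048 := h.step 256 el7
  replace h : AllBelow elOk 2304 := h.step 256 el8
  replace h : AllBelow elOk 2560 := h.step 256 el9
  replace h : AllBelow elOk 2816 := h.step 256 el10
  replace h : AllBelow elOk 3072 := h.step 256 el11
  replace h : AllBelow elOk 3328 := h.step 256 el12
  replace h : AllBelow elOk 3584 := h.step 256 el13
  replace h : AllBelow elOk 3840 := h.step 256 el14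
  replace h : AllBelow elOk 4096 := h.step 256 el15
  replace h : AllBelow elOk 4352 := h.step 256 el16
  replace h : AllBelow elOk 4608 := h.step 256 el17
  replace h : AllBelow elOk 4864 := h.step 256 el18
  replace h : AllBelow elOk 5120 := h.step 256 el19
  replace h : AllBelow elOk 5376 := h.step 256 el20
  replace h : AllBelow elOk 5632 := h.step 256 el21
  replace h : AllBelow elOk 5888 := h.step 256 el22
  replace h : AllBelow elOk 6144 := h.step 256 el23
  replace h : AllBelow elOk 6400 := h.step 256 el24
  replace h : AllBelow elOk 6656 := h.step 256 el25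
  replace h : AllBelow elOk 6912 := h.step 256 el26
  replace h : AllBelow elOk 7168 := h.step 256 el27
  replace h : AllBelow elOk 7424 := h.step 256 el28
  replace h : AllBelow elOk 7680 := h.step 256 el29
  replace h : AllBelow elOk 7920 := h.step 240 el30
  exact h

theorem perm_exists : ∀ g < 2, ∀ c < 11, (gact g).getD c 0 < 11 ∧
    ∃ d < 11, (gact g).getD d 0 = c := by decide +kernel

/-- The permutation of a generator. -/
noncomputable def sg (g : Fin 2) : Equiv.Perm (Fin 11) :=
  (Equiv.ofBijective (fun c : Fin 11 => (⟨(gact g).getD c 0, (perm_exists g g.2 c c.2).1⟩ : Fin 11))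
    (Finite.surjective_iff_bijective.1 fun c => by
      obtain ⟨d, hd, h⟩ := (perm_exists g g.2 c c.2).2
      exact ⟨⟨d, hd⟩, Fin.ext h⟩)).symm

/-- The generators of the graph. -/
noncomputable def gen (g : Fin 2) : Cfsg.Spor.ON × Equiv.Perm (Fin 11) := (val gg (gword g), sg g)

/-- Element `i` of the table represents `x`. -/
def Rep (x : Cfsg.Spor.ON × Equiv.Perm (Fin 11)) (i : Nat) : Prop :=
  key x.1 = (key0 i, key1 i, key2 i) ∧ ∀ c : Fin 11, ((x.2⁻¹ c : Fin 11) : Nat) = pt i c

theorem rep_one : Rep 1 0 := by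
  have h : key0 0 = 0 ∧ key1 0 = 1 ∧ key2 0 = 38 ∧ ∀ c < 11, pt 0 c = c := by decide +kernel
  refine ⟨?_, fun c => ?_⟩
  · simp [key, h.1, h.2.1, h.2.2.1]
  · simp [h.2.2.2 c c.2]

theorem gword_lt : ∀ g < 2, ∀ x ∈ gword g, x < 8 := by decide +kernel

theorem rep_step {x : Cfsg.Spor.ON × Equiv.Perm (Fin 11)} {i : Nat} (hi : i < 7920) (h : Rep x i)
    (g : Fin 2) : nxt g i < 7920 ∧ Rep (x * gen g) (nxt g i) := by
  have hok := el_all i hi
  simp only [elOk, Bool.and_eq_true] at hok
  have hs : stepOk i g = true := by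
    fin_cases g
    · exact hok.1.1.1.1
    · exact hok.1.1.1.2
  simp only [stepOk, force_eq, Bool.and_eq_true, Nat.blt_eq, Nat.beq_eq] at hs
  obtain ⟨⟨⟨⟨h0, h1⟩, h2⟩, h3⟩, h4⟩ := hs
  refine ⟨h0, ?_, fun c => ?_⟩
  · show key (x.1 * val gg (gword g)) = _
    rw [key_mul_word _ (gword_lt g g.2), h.1]
    simp only [h1, h2, h3]
  · show (((x.2 * sg g)⁻¹ c : Fin 11) : Nat) = _
    rw [mul_inv_rev, Equiv.Perm.mul_apply]
    have hc := (allFrom_iff _ _ _).mp h4 c (Nat.zero_le _) (by omega)
    rw [Nat.beq_eq] at hc
    rw [← hc, ← h.2 c]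
    rfl

theorem rep_unique {x y : Cfsg.Spor.ON × Equiv.Perm (Fin 11)} {i : Nat} (hx : Rep x i) (hy : Rep y i) :
    x = y :=
  Prod.ext (key_inj (hx.1.trans hy.1.symm))
    (inv_injective (Equiv.ext fun c => Fin.ext ((hx.2 c).trans (hy.2 c).symm)))

/-- The graph. -/
noncomputable def D : Subgroup (Cfsg.Spor.ON × Equiv.Perm (Fin 11)) := Subgroup.closure (Set.range gen)

theorem rep_of_mem {x : Cfsg.Spor.ON × Equiv.Perm (Fin 11)} (hx : x ∈ D) : ∃ i < 7920, Rep x i := by
  haveI := ONGroup90.finite_ON
  have hpow : ∀ (g : Fin 2) (n : Nat) (x), (∃ i < 7920, Rep x i) → ∃ i < 7920, Rep (x * gen g ^ n) i := by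
    intro g n
    induction n with
    | zero => intro x h; simpa using h
    | succ n ih =>
      intro x h
      obtain ⟨i, hi, hr⟩ := ih x h
      rw [pow_succ, ← mul_assoc]
      exact ⟨_, rep_step hi hr g⟩
  induction hx using Subgroup.closure_induction_right with
  | one => exact ⟨0, by norm_num, rep_one⟩
  | mul_right x _ y hy ih =>
    obtain ⟨g, rfl⟩ := hy
    simpa using hpow g 1 x ih
  | mul_inv_cancel x _ y hy ih =>
    obtain ⟨g, rfl⟩ := hy
    have hinv : (gen g)⁻¹ = gen g ^ (orderOf (gen g) - 1) := by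
      rw [inv_eq_iff_mul_eq_one, ← pow_succ', Nat.sub_add_cancel (orderOf_pos _), pow_orderOf_eq_one]
    rw [hinv]
    exact hpow g _ x ih

theorem realised : ∀ i < 7920, ∃ x ∈ D, Rep x i := by
  intro i
  induction i using Nat.strong_induction_on with
  | _ i ih =>
    intro hi
    by_cases h0 : i = 0
    · subst h0; exact ⟨1, D.one_mem, rep_one⟩
    · have hok := el_all i hi
      simp only [elOk, force_eq, Bool.and_eq_true, Bool.or_eq_true, Nat.blt_eq, Nat.beq_eq] at hok
      obtain ⟨hp, hn⟩ := hok.2.resolve_left h0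
      obtain ⟨x, hx, hr⟩ := ih _ hp (hp.trans hi)
      have hg : Nat.land (entry parTbl 14 i) 1 < 2 :=
        Nat.lt_succ_of_le (Nat.and_le_right)
      refine ⟨x * gen ⟨_, hg⟩, D.mul_mem hx (Subgroup.subset_closure ⟨_, rfl⟩), ?_⟩
      have h := (rep_step (hp.trans hi) hr ⟨_, hg⟩).2
      rwa [hn] at h

theorem card_D_le : Nat.card D ≤ 7920 := by
  let f : D → Fin 7920 := fun x => ⟨(rep_of_mem x.2).choose, (rep_of_mem x.2).choose_spec.1⟩
  have hf : Function.Injective f := fun x y h => by
    have hx := (rep_of_mem x.2).choose_spec.2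
    have hy := (rep_of_mem y.2).choose_spec.2
    have e : (rep_of_mem x.2).choose = (rep_of_mem y.2).choose := congrArg Fin.val h
    exact Subtype.ext (rep_unique hx (e ▸ hy))
  simpa using Nat.card_le_card_of_injective f hf

/-- The group of permutations. -/
noncomputable def P : Subgroup (Equiv.Perm (Fin 11)) := D.map (MonoidHom.snd _ _)

/-- The first four points. -/
def four : Fin 4 ↪ Fin 11 := Fin.castLEEmb (by norm_num)

theorem pt_emb {p : Equiv.Perm (Fin 11)} {i : Nat} (hp : ∀ c : Fin 11, ((p⁻¹ c : Fin 11) : Nat) = pt i c) :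
    code i = ((((p⁻¹ (four 0) : Fin 11) : Nat) * 11 + (p⁻¹ (four 1) : Fin 11)) * 11 + (p⁻¹ (four 2) : Fin 11)) * 11 +
      (p⁻¹ (four 3) : Fin 11) := by
  simp only [hp, code, four]
  rfl

theorem smul_four_injective {i j : Nat} (hi : i < 7920) (hj : j < 7920) {p q : Equiv.Perm (Fin 11)}
    (hp : ∀ c : Fin 11, ((p⁻¹ c : Fin 11) : Nat) = pt i c) (hq : ∀ c : Fin 11, ((q⁻¹ c : Fin 11) : Nat) = pt j c)
    (h : p⁻¹ • four = q⁻¹ • four) : i = j := by
  have he : ∀ c, p⁻¹ (four c) = q⁻¹ (four c) := fun c => by
    have := congrArg (fun e : Fin 4 ↪ Fin 11 => e c) h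
    simpa [Function.Embedding.smul_apply] using this
  have hc : code i = code j := by rw [pt_emb hp, pt_emb hq, he, he, he, he]
  have a := el_all i hi
  have b := el_all j hj
  simp only [elOk, Bool.and_eq_true, Nat.beq_eq] at a b
  rw [← a.1.1.2, hc, b.1.1.2]

theorem card_P : Nat.card P = 7920 ∧
    (∀ x : Fin 4 ↪ Fin 11, MulAction.stabilizer P x = ⊥) ∧ MulAction.IsMultiplyPretransitive P (Fin 11) 4 := by
  haveI := ONGroup90.finite_ON
  have hsurj : Function.Surjective ((MonoidHom.snd Cfsg.Spor.ON (Equiv.Perm (Fin 11))).subgroupMap D) :=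
    MonoidHom.subgroupMap_surjective _ _
  have hle : Nat.card P ≤ 7920 := (Nat.card_le_card_of_surjective _ hsurj).trans card_D_le
  let f : Fin 7920 → P := fun i => ⟨((realised i i.2).choose.2)⁻¹, P.inv_mem
    ⟨_, (realised i i.2).choose_spec.1, rfl⟩⟩
  have hf : Function.Injective fun i => f i • four := by
    intro i j h
    exact Fin.ext (smul_four_injective i.2 j.2 (realised i i.2).choose_spec.2.2
      (realised j j.2).choose_spec.2.2 h)
  have hfi : Function.Injective f := fun i j h => hf (congrArg (fun m : P => m • four) h)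
  have hge : 7920 ≤ Nat.card P := by simpa using Nat.card_le_card_of_injective f hfi
  have hemb : Nat.card (Fin 4 ↪ Fin 11) = 7920 := by
    rw [Nat.card_eq_fintype_card, Fintype.card_embedding_eq]; rfl
  have hfull : ∀ y, y ∈ MulAction.orbit P four := fun y => by
    obtain ⟨i, hi⟩ := ((Nat.bijective_iff_injective_and_card _).2 ⟨hf, by rw [hemb]; simp⟩).2 y
    exact ⟨f i, hi⟩
  have hpre : MulAction.IsPretransitive P (Fin 4 ↪ Fin 11) := ⟨fun x y => by
    obtain ⟨a, ha⟩ := hfull x
    obtain ⟨b, hb⟩ := hfull y
    refine ⟨b * a⁻¹, ?_⟩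
    subst ha hb
    exact (smul_smul (b * a⁻¹) a four).trans (congrArg (fun m : P => m • four) (inv_mul_cancel_right b a))⟩
  refine ⟨le_antisymm hle hge, fun x => ?_, hpre⟩
  have ho : (MulAction.orbit P x).ncard = 7920 :=
    (congrArg Set.ncard (@MulAction.orbit_eq_univ _ _ _ _ hpre x)).trans (by rw [Set.ncard_univ, hemb])
  have hi : (MulAction.stabilizer P x).index = 7920 :=
    (MulAction.index_stabilizer P x).trans ho
  have h := (MulAction.stabilizer P x).card_mul_index
  rw [hi, le_antisymm hle hge] at h
  exact Subgroup.card_eq_one.1 (by omega)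

theorem isM11_P : Cfsg.IsM11 P := by
  obtain ⟨-, h2, h3⟩ := card_P
  haveI := h3
  exact SharpTransitive.isSimpleGroup_degree_eleven h2 (by simp)

/-- A subgroup M₁₁ of the presented O'Nan group. -/
theorem exists_M11 : ∃ K : Subgroup Cfsg.Spor.ON, Cfsg.IsM11 K := by
  haveI := ONGroup90.finite_ON
  haveI := isM11_P.1
  refine ⟨D.map (MonoidHom.fst _ _), ?_⟩
  have hsurj : Function.Surjective ((MonoidHom.snd Cfsg.Spor.ON (Equiv.Perm (Fin 11))).subgroupMap D) :=
    MonoidHom.subgroupMap_surjective _ _
  have hb := hsurj.bijective_of_nat_card_le (card_D_le.trans_eq card_P.1.symm)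
  let e : P ≃* D := (MulEquiv.ofBijective _ hb).symm
  let f : P →* D.map (MonoidHom.fst Cfsg.Spor.ON (Equiv.Perm (Fin 11))) :=
    ((MonoidHom.fst _ _).subgroupMap D).comp e.toMonoidHom
  have hf : Function.Surjective f := (MonoidHom.subgroupMap_surjective _ _).comp e.surjective
  have hinj : Function.Injective f := by
    rw [← MonoidHom.ker_eq_bot_iff]
    refine (MonoidHom.normal_ker f).eq_bot_or_eq_top.resolve_right fun h => ?_
    have hg : gen 0 ∈ D := Subgroup.subset_closure ⟨0, rfl⟩
    obtain ⟨p, hp⟩ := e.surjective ⟨_, hg⟩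
    have h1 : f p = 1 := MonoidHom.mem_ker.1 (h ▸ Subgroup.mem_top p)
    have h2 : val gg [0] = 1 := by
      have := congrArg Subtype.val h1
      rw [show f p = (MonoidHom.fst Cfsg.Spor.ON _).subgroupMap D (e p) from rfl, hp] at this
      exact this
    have h3 : run [0] 1 = 1 ∧ run [0] 38 = 38 → False := by decide +kernel
    have hk := congrArg key h2
    rw [← one_mul (val gg [0]), key_mul_word 1 (by decide)] at hk
    simp [key] at hk
    exact h3 ⟨hk.2.1, hk.2.2⟩
  let E := MulEquiv.ofBijective f ⟨hinj, hf⟩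
  exact ⟨E.symm.isSimpleGroup, by rw [← Nat.card_congr E.toEquiv, card_P.1]⟩

end Cfsg.Agent.ONM11Sub90
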