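import Cfsg.Agent.Lib.ONTwoCert60
import Cfsg.Agent.Lib.ONBase90
import Cfsg.Agent.S2086
import Cfsg.Agent.S0102
import Cfsg.Prelude.Def_KGroupFacts

/-!
The part prime to three of the Schur multiplier of the presented O'Nan group is trivial. The derived
subgroup of the preimage of `L₃(7)` lifts isomorphically, the subgroup on `a, …, f` then lifts
isomorphically when the kernel has exponent two, and a weighted enumeration kills the remaining values;
for seven a transfer does it, and the other primes have cyclic Sylow subgroups.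
-/

set_option autoImplicit false
set_option maxRecDepth 100000

namespace Cfsg.Agent.ONMultTwo60

open Cfsg.Agent.CosetCertCore Cfsg.Agent.ONIndex90
open Cfsg.Agent.ONSubgroup64 (HH node)
open scoped commutatorElement

theorem perfect_ON : commutator Cfsg.Spor.ON = ⊤ := by
  haveI := ONGroup90.simple_ON
  rcases (inferInstance : (commutator Cfsg.Spor.ON).Normal).eq_bot_or_eq_top with h | h
  · exfalso
    obtain ⟨N, hN, hidx, ⟨e⟩⟩ := ONSubgroup64.exists_normal ONRep64.ab_ne_one
    haveI : Fact (Nat.Prime 7) := ⟨by norm_num⟩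
    refine PSLSimple.not_isMulCommutative_PSL_fin (F := ZMod 7) (n := 3) (by norm_num) (by norm_num) ?_
    haveI := (commutator_eq_bot_iff Cfsg.Spor.ON).1 h
    exact fun x y => e.symm.injective (by
      rw [map_mul, map_mul]
      exact Subtype.ext (Subtype.ext (((commutator_eq_bot_iff Cfsg.Spor.ON).1 h).is_comm.comm _ _)))
  · exact h

theorem gg_node (i : Fin 6) : gg i = PresentedGroup.of (node i) := dif_pos i.2

theorem gg_mem_HH (i : Fin 6) : gg i ∈ HH := gg_mem i.2

/-- Cosets of an index two subgroup: all six letters are outside, their pairwise products inside. -/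
theorem pair_mem {N : Subgroup HH} (hidx : N.index = 2) (i j : Fin 6) :
    (⟨gg i, gg_mem_HH i⟩ * ⟨gg j, gg_mem_HH j⟩ : HH) ∈ N ∧ (⟨gg i, gg_mem_HH i⟩ : HH) ∉ N := by
  haveI hN : N.Normal := Subgroup.normal_of_index_eq_two hidx
  let y : Fin 6 → HH := fun i => ⟨gg i, gg_mem_HH i⟩
  have hsq : ∀ i, y i * y i = 1 := fun i => Subtype.ext (gg_sq i.2)
  have hmul := fun a b => Subgroup.mul_mem_iff_of_index_two hidx (a := a) (b := b)
  have hsw : ∀ i j, ((y i ∈ N ↔ y j ∈ N) ↔ y i * y j ∈ N) := fun i j => (hmul _ _).symm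
  have odd3 : ∀ i j : Fin 6, Cfsg.Spor.coxLabel Cfsg.Spor.ON.edges (node i) (node j) = 3 →
      (y i ∈ N ↔ y j ∈ N) := by
    intro i j h3
    rw [hsw]
    have h : (y i * y j) ^ 3 = 1 := Subtype.ext (h3 ▸ cox i j)
    have h2 : (y i * y j) ^ 2 ∈ N := Subgroup.sq_mem_of_index_two hidx _
    have h4 : y i * y j = ((y i * y j) ^ 2)⁻¹ := by
      rw [eq_inv_iff_mul_eq_one, ← pow_succ', h]
    rw [h4]; exact N.inv_mem h2
  have haf : (y 0 ∈ N ↔ y 5 ∈ N) := by
    rw [hsw]
    have h := val_words (w := [0, 5, 3, 2, 3, 2, 3, 2, 3, 2]) (by decide)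
    have h' : y 0 * y 5 = (((y 3 * y 2) ^ 2) ^ 2)⁻¹ := by
      rw [eq_inv_iff_mul_eq_one]
      refine Subtype.ext ?_
      simp only [val_cons, val_nil, mul_one] at h
      simp only [Subgroup.coe_mul, SubmonoidClass.coe_pow, OneMemClass.coe_one, y, pow_succ, pow_zero, one_mul]
      simpa [mul_assoc] using h
    rw [h']; exact N.inv_mem (Subgroup.sq_mem_of_index_two hidx _)
  have h01 := odd3 0 1 (by decide)
  have h12 := odd3 1 2 (by decide)
  have h34 := odd3 3 4 (by decide)
  have h45 := odd3 4 5 (by decide)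
  have all0 : ∀ k : Fin 6, (y k ∈ N ↔ y 0 ∈ N) := by
    intro k
    fin_cases k
    exacts [Iff.rfl, h01.symm, h12.symm.trans h01.symm, (h34.trans h45).trans haf.symm,
      h45.trans haf.symm, haf.symm]
  have hout : ∀ k : Fin 6, y k ∉ N := by
    intro k hk
    have htop : N = ⊤ := by
      rw [eq_top_iff]
      intro z _
      have hz : (z : Cfsg.Spor.ON) ∈ N.map HH.subtype := by
        have hle : ONSubgroup64.psi.range ≤ N.map HH.subtype := by
          rw [MonoidHom.range_eq_map, ← PresentedGroup.closure_range_of, MonoidHom.map_closure, Subgroup.closure_le]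
          rintro _ ⟨_, ⟨m, rfl⟩, rfl⟩
          rw [ONSubgroup64.psi_of, ← gg_node]
          exact ⟨y m, (all0 m).2 ((all0 k).1 hk), rfl⟩
        exact hle (ONSubgroup64.psi_range.symm ▸ z.2)
      obtain ⟨w, hw, hwz⟩ := hz
      exact Subtype.ext hwz ▸ hw
    rw [htop, Subgroup.index_top] at hidx
    norm_num at hidx
  exact ⟨(hsw i j).1 ((all0 i).trans (all0 j).symm), hout i⟩

section ext

variable {Γ : Type} [Group Γ] [Finite Γ] {π : Γ →* Cfsg.Spor.ON} (hπ : Function.Surjective π)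
  (hc : π.ker ≤ Subgroup.center Γ)

include hc in
theorem comm {z : Γ} (hz : π z = 1) (g : Γ) : z * g = g * z :=
  (Subgroup.mem_center_iff.1 (hc hz) g).symm

include hπ hc in
/-- The lift of `L₃(7)`. -/
theorem exists_derived {p : ℕ} (hp : p.Prime) (hp3 : p ≠ 3) (hexp : ∀ z : Γ, π z = 1 → z ^ p = 1) :
    ∃ (N : Subgroup HH) (D : Subgroup Γ), N.index = 2 ∧ D.map π = N.map HH.subtype ∧
      (∀ z ∈ D, π z = 1 → z = 1) ∧ ∀ w : Γ, π w ∈ HH → ∀ d ∈ D, w * d * w⁻¹ ∈ D := by
  haveI : Fact (Nat.Prime 7) := ⟨by norm_num⟩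
  haveI : Fact p.Prime := ⟨hp⟩
  obtain ⟨N, hN, hidx, ⟨e⟩⟩ := ONSubgroup64.exists_normal ONRep64.ab_ne_one
  let N' : Subgroup Cfsg.Spor.ON := N.map HH.subtype
  let eN : N' ≃* Matrix.ProjectiveSpecialLinearGroup (Fin 3) (ZMod 7) :=
    (Subgroup.equivMapOfInjective N _ Subtype.val_injective).symm.trans e
  have hperf : ⁅N', N'⁆ = N' := by
    haveI : Group.IsPerfect N' := by
      haveI : IsSimpleGroup N' :=
        haveI := PSLSimple.isSimpleGroup_PSL_fin' (F := ZMod 7) (n := 3) (by norm_num) (by norm_num)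
        haveI : Nontrivial N' := eN.toEquiv.nontrivial
        IsSimpleGroup.isSimpleGroup_of_surjective eN.symm.toMonoidHom eN.symm.surjective
      refine ⟨(inferInstance : (commutator N').Normal).eq_bot_or_eq_top.resolve_left fun h => ?_⟩
      refine PSLSimple.not_isMulCommutative_PSL_fin (F := ZMod 7) (n := 3) (by norm_num) (by norm_num) ?_
      exact fun x y => eN.symm.injective (by
        rw [map_mul, map_mul]; exact ((commutator_eq_bot_iff N').1 h).is_comm.comm _ _)
    exact Subgroup.commutator_eq_self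
  let P : Subgroup Γ := N'.comap π
  refine ⟨N, ⁅P, P⁆, hidx, ?_, ?_, ?_⟩
  · rw [Subgroup.map_commutator, Subgroup.map_comap_eq_self_of_surjective hπ, hperf]
  · let D : Subgroup Γ := ⁅P, P⁆
    have hDN : D.map π = N' := by
      rw [Subgroup.map_commutator, Subgroup.map_comap_eq_self_of_surjective hπ, hperf]
    have hsplit : ∀ x ∈ P, ∃ d ∈ D, ∃ z, π z = 1 ∧ x = d * z := by
      intro x hx
      obtain ⟨d, hd, hdx⟩ := (show π x ∈ D.map π from hDN.symm ▸ hx)
      exact ⟨d, hd, d⁻¹ * x, by rw [map_mul, map_inv, hdx, inv_mul_cancel], (mul_inv_cancel_left d x).symm⟩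
    have hDD : ⁅D, D⁆ = D := by
      refine le_antisymm ?_ ?_
      · exact Subgroup.commutator_le_self D
      · show ⁅P, P⁆ ≤ ⁅D, D⁆
        rw [Subgroup.commutator_le]
        intro a ha b hb
        obtain ⟨u, hu, c, hc', rfl⟩ := hsplit a ha
        obtain ⟨v, hv, d, hd, rfl⟩ := hsplit b hb
        have : ⁅u * c, v * d⁆ = ⁅u, v⁆ := by
          rw [commutatorElement_def, commutatorElement_def]
          calc u * c * (v * d) * (u * c)⁻¹ * (v * d)⁻¹ = u * (c * (v * d)) * c⁻¹ * u⁻¹ * d⁻¹ * v⁻¹ := by group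
            _ = u * v * (d * u⁻¹) * d⁻¹ * v⁻¹ := by rw [comm hc hc']; group
            _ = u * v * u⁻¹ * v⁻¹ := by rw [comm hc hd]; group
        rw [this]
        exact Subgroup.commutator_mem_commutator hu hv
    haveI : Group.IsPerfect D := Subgroup.isPerfect_iff.2 hDD
    let σ : D →* N' := (π.comp D.subtype).codRestrict N' fun d => hDN ▸ Subgroup.mem_map_of_mem π d.2
    let τ : D →* Matrix.ProjectiveSpecialLinearGroup (Fin 3) (ZMod 7) := eN.toMonoidHom.comp σ
    have hτ : Function.Surjective τ := by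
      refine eN.surjective.comp ?_
      rintro ⟨y, hy⟩
      obtain ⟨d, hd, rfl⟩ := (show y ∈ D.map π from hDN.symm ▸ hy)
      exact ⟨⟨d, hd⟩, rfl⟩
    have hker : ∀ d : D, τ d = 1 ↔ π d.1 = 1 := fun d => by
      rw [show τ d = eN (σ d) from rfl, EmbeddingLike.map_eq_one_iff, Subtype.ext_iff]
      rfl
    obtain ⟨φ, hφ⟩ := (S2086.result (F := ZMod 7) (q := 7) (ZMod.card 7) 3 (by norm_num) (by norm_num) (by simp)).2 D τ
      ⟨hτ, fun d hd => Subgroup.mem_center_iff.2 fun w => Subtype.ext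
        (comm hc ((hker d).1 hd) w.1).symm, fun d _ => Group.IsPerfect.mem_commutator⟩
    intro z hzD hz
    let z' : τ.ker := ⟨⟨z, hzD⟩, (hker _).2 hz⟩
    obtain ⟨a, ha⟩ := hφ z'
    have ha3 : a ^ 3 = 1 := by
      show a ^ Nat.gcd 3 (7 - 1) = 1
      have : Nat.card (Multiplicative (ZMod (Nat.gcd 3 (7 - 1)))) = Nat.gcd 3 (7 - 1) := by
        rw [Nat.card_congr Multiplicative.toAdd, Nat.card_zmod]
      have h := pow_card_eq_one' (x := a)
      rwa [this] at h
    have hz3 : z ^ 3 = 1 := by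
      have := congrArg (fun t : τ.ker => ((t : D) : Γ)) (congrArg φ ha3)
      simpa [map_pow, ha, z'] using this
    have hco : Nat.Coprime p 3 := (Nat.coprime_primes hp Nat.prime_three).2 hp3
    have h1 : orderOf z ∣ Nat.gcd p 3 :=
      Nat.dvd_gcd (orderOf_dvd_of_pow_eq_one (hexp z hz)) (orderOf_dvd_of_pow_eq_one hz3)
    rw [hco, Nat.dvd_one] at h1
    exact orderOf_eq_one_iff.1 h1
  · intro w hw d hd
    have hN' : ∀ n ∈ N', π w * n * (π w)⁻¹ ∈ N' := by
      rintro _ ⟨n, hn, rfl⟩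
      exact ⟨⟨π w, hw⟩ * n * ⟨π w, hw⟩⁻¹, hN.conj_mem n hn _, rfl⟩
    have hP : P.map (MulAut.conj w).toMonoidHom ≤ P := by
      rintro _ ⟨x, hx, rfl⟩
      show π (w * x * w⁻¹) ∈ N'
      rw [map_mul, map_mul, map_inv]
      exact hN' _ hx
    have := Subgroup.mem_map_of_mem (MulAut.conj w).toMonoidHom hd
    rw [Subgroup.map_commutator] at this
    exact Subgroup.commutator_mono hP hP this

include hπ hc in
/-- No kernel of exponent seven. -/
theorem seven (hperf : commutator Γ = ⊤) (hexp : ∀ z : Γ, π z = 1 → z ^ 7 = 1) {z : Γ} (hz : π z = 1) :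
    z = 1 := by
  obtain ⟨N, D, hidx, hmap, hD1, hnorm⟩ := exists_derived hπ hc (p := 7) (by norm_num) (by norm_num) hexp
  let H' : Subgroup Γ := HH.comap π
  let D' : Subgroup H' := D.subgroupOf H'
  have hDH : D ≤ H' := fun d hd => by
    obtain ⟨n, -, hn⟩ := (show π d ∈ N.map HH.subtype from hmap ▸ Subgroup.mem_map_of_mem π hd)
    show π d ∈ HH
    rw [← hn]; exact n.2
  haveI : D'.Normal := ⟨fun d hd w => hnorm w.1 w.2 d.1 hd⟩
  -- modulo `D` the preimage is abelian
  obtain ⟨t₀, ht₀⟩ := hπ (gg 0)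
  let t : H' := ⟨t₀, show π t₀ ∈ HH from ht₀ ▸ gg_mem_HH 0⟩
  have hdec : ∀ w : H', ∃ (k : ℕ) (c : H'), π c.1 = 1 ∧ (QuotientGroup.mk w : H' ⧸ D') = QuotientGroup.mk (t ^ k * c) := by
    intro w
    obtain ⟨k, hk⟩ : ∃ k : ℕ, ((⟨gg 0, gg_mem_HH 0⟩ : HH) ^ k)⁻¹ * ⟨π w.1, w.2⟩ ∈ N := by
      by_cases h : (⟨π w.1, w.2⟩ : HH) ∈ N
      · exact ⟨0, by simpa using h⟩
      · refine ⟨1, ?_⟩
        rw [pow_one]
        exact (Subgroup.mul_mem_iff_of_index_two hidx).2
          (iff_of_false (fun h' => (pair_mem hidx 0 0).2 (by simpa using N.inv_mem h')) h)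
    obtain ⟨d, hd, hdn⟩ := (show ((((⟨gg 0, gg_mem_HH 0⟩ : HH) ^ k)⁻¹ * ⟨π w.1, w.2⟩ : HH) : Cfsg.Spor.ON) ∈ D.map π
      from hmap.symm ▸ ⟨_, hk, rfl⟩)
    refine ⟨k, (t ^ k)⁻¹ * w * (⟨d, hDH hd⟩)⁻¹, ?_, ?_⟩
    · show π ((t₀ ^ k)⁻¹ * w.1 * d⁻¹) = 1
      rw [map_mul, map_mul, map_inv, map_inv, map_pow, ht₀, hdn]
      simp
    · rw [mul_assoc, mul_inv_cancel_left, QuotientGroup.eq, inv_mul_cancel_left]
      exact D'.inv_mem hd
  letI : CommGroup (H' ⧸ D') :=
    { (inferInstance : Group (H' ⧸ D')) with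
      mul_comm := by
        intro a b
        induction a using QuotientGroup.induction_on with
        | H a =>
          induction b using QuotientGroup.induction_on with
          | H b =>
            obtain ⟨k, c, hc1, hak⟩ := hdec a
            obtain ⟨l, d, hd1, hbl⟩ := hdec b
            rw [hak, hbl, ← QuotientGroup.mk_mul, ← QuotientGroup.mk_mul]
            congr 1
            have cc : ∀ (c : H'), π c.1 = 1 → ∀ w : H', Commute c w := fun c hc' w => Subtype.ext (comm hc hc' w.1)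
            exact ((((Commute.pow_pow_self t k l).mul_left (cc c hc1 _))).mul_right
              ((cc d hd1 _).symm)).eq }
  let φ : H' →* H' ⧸ D' := QuotientGroup.mk' D'
  haveI : H'.FiniteIndex := inferInstance
  have hV : MonoidHom.transfer φ z = 1 := by
    have hle : (⊤ : Subgroup Γ) ≤ (MonoidHom.transfer φ).ker := by
      rw [← hperf]
      exact Abelianization.commutator_subset_ker _
    exact hle (Subgroup.mem_top z)
  rw [MonoidHom.transfer_eq_pow φ z fun k g _ => by
    rw [← comm hc (show π (z ^ k) = 1 by rw [map_pow, hz, one_pow]) g⁻¹, inv_mul_cancel_right]] at hV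
  have hzD : z ^ H'.index ∈ D := (QuotientGroup.eq_one_iff (N := D') _).1 hV
  have h1 := hD1 _ hzD (by rw [map_pow, hz, one_pow])
  rw [Subgroup.index_comap_of_surjective _ hπ, index_HH] at h1
  have hd : orderOf z ∣ Nat.gcd 7 122760 :=
    Nat.dvd_gcd (orderOf_dvd_of_pow_eq_one (hexp z hz)) (orderOf_dvd_of_pow_eq_one h1)
  exact orderOf_eq_one_iff.1 (Nat.dvd_one.1 (by simpa using hd))

include hπ hc in
/-- In exponent two the subgroup on `a, …, f` lifts. -/
theorem exists_section (hexp : ∀ z : Γ, π z = 1 → z ^ 2 = 1) :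
    ∃ σ : HH →* Γ, ∀ h : HH, π (σ h) = h := by
  obtain ⟨N, D, hidx, hmap, hD1, hnorm⟩ := exists_derived hπ hc (p := 2) Nat.prime_two (by norm_num) hexp
  have hword : val gg [6, 1, 2, 7, 1, 6, 2, 1, 7] = val gg [0, 1, 0, 2, 1, 0] :=
    ONBase90.same_sound (by decide +kernel)
  let y : Fin 6 → HH := fun i => ⟨gg i, gg_mem_HH i⟩
  have hy : val gg [0, 1, 0, 2, 1, 0] ∈ D.map π := by
    rw [hmap]
    refine ⟨(y 0 * y 1) * (y 0 * y 2) * (y 1 * y 0),
      N.mul_mem (N.mul_mem (pair_mem hidx 0 1).1 (pair_mem hidx 0 2).1) (pair_mem hidx 1 0).1, ?_⟩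
    simp [val_cons, val_nil, mul_assoc, y]
  obtain ⟨Y, hY, hYπ⟩ := hy
  obtain ⟨U, hU⟩ := hπ (val gg [6, 1, 2, 7])
  have e7 : (gg 7 : Cfsg.Spor.ON) = (gg 6)⁻¹ := rfl
  have i1 := gg_inv (x := 1) (by norm_num)
  have i2 := gg_inv (x := 2) (by norm_num)
  have hYU : π (U⁻¹ * Y * U) = gg 1 := by
    rw [map_mul, map_mul, map_inv, hU, hYπ, ← hword]
    simp only [val_cons, val_nil, mul_one, e7, mul_inv_rev, inv_inv, i1, i2]
    have s1 : gg 1 * gg 1 = 1 := gg_sq (by norm_num)
    have s2 : gg 2 * gg 2 = 1 := gg_sq (by norm_num)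
    simp only [mul_assoc, inv_mul_cancel_left]
    simp [← mul_assoc (gg 2) (gg 2), s2, ← mul_assoc (gg 1) (gg 1), s1]
  have hY2 : Y * Y = 1 := by
    refine hD1 _ (D.mul_mem hY hY) ?_
    rw [map_mul, hYπ, ← hword]
    simp only [val_cons, val_nil, mul_one, e7]
    have s1 : gg 1 * gg 1 = 1 := gg_sq (by norm_num)
    have s2 : gg 2 * gg 2 = 1 := gg_sq (by norm_num)
    simp [mul_assoc, ← mul_assoc (gg 2) (gg 2), s2, ← mul_assoc (gg 1) (gg 1), s1]
  obtain ⟨X, hX⟩ : ∃ X : Γ, U⁻¹ * Y * U = X := ⟨_, rfl⟩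
  rw [hX] at hYU
  have hX2 : X * X = 1 := by
    rw [← hX]
    calc U⁻¹ * Y * U * (U⁻¹ * Y * U) = U⁻¹ * (Y * Y) * U := by group
      _ = 1 := by rw [hY2]; group
  have hXH : π X ∈ HH := hYU ▸ gg_mem_HH 1
  have hXi : X⁻¹ = X := inv_eq_of_mul_eq_one_right hX2
  let C : Subgroup Γ :=
    { carrier := {g | g ∈ D ∨ g * X ∈ D}
      one_mem' := Or.inl D.one_mem
      mul_mem' := by
        rintro a b (ha | ha) (hb | hb)
        · exact Or.inl (D.mul_mem ha hb)
        · exact Or.inr (by rw [mul_assoc]; exact D.mul_mem ha hb)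
        · refine Or.inr ?_
          have : a * b * X = (a * X) * (X * b * X⁻¹) := by
            rw [hXi]
            calc a * b * X = a * (X * X) * b * X := by rw [hX2, mul_one]
              _ = _ := by group
          rw [this]; exact D.mul_mem ha (hnorm X hXH b hb)
        · refine Or.inl ?_
          have : a * b = (a * X) * (X * (b * X) * X⁻¹) := by
            rw [hXi]
            calc a * b = a * (X * X) * b * (X * X) := by rw [hX2, mul_one, mul_one]
              _ = _ := by group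
          rw [this]; exact D.mul_mem ha (hnorm X hXH _ hb)
      inv_mem' := by
        rintro a (ha | ha)
        · exact Or.inl (D.inv_mem ha)
        · refine Or.inr ?_
          have : a⁻¹ * X = X * (a * X)⁻¹ * X⁻¹ := by
            rw [mul_inv_rev, hXi]
            calc a⁻¹ * X = (X * X) * a⁻¹ * X := by rw [hX2, one_mul]
              _ = _ := by group
          rw [this]; exact hnorm X hXH _ (D.inv_mem ha) }
  have hCH : ∀ g ∈ C, π g ∈ HH := by
    have hDH : ∀ d ∈ D, π d ∈ HH := fun d hd => by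
      obtain ⟨n, -, hn⟩ := (show π d ∈ N.map HH.subtype from hmap ▸ Subgroup.mem_map_of_mem π hd)
      rw [← hn]; exact n.2
    rintro g (hg | hg)
    · exact hDH g hg
    · have := hDH _ hg
      rw [map_mul] at this
      exact (HH.mul_mem_cancel_right hXH).1 this
  let q : C →* HH := (π.comp C.subtype).codRestrict HH fun c => hCH _ c.2
  have hq : Function.Bijective q := by
    constructor
    · rw [injective_iff_map_eq_one]
      rintro ⟨g, hg⟩ h1
      have h1' : π g = 1 := congrArg Subtype.val h1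
      refine Subtype.ext ?_
      rcases hg with hg | hg
      · exact hD1 g hg h1'
      · exfalso
        obtain ⟨n, hn, hnX⟩ := (show π (g * X) ∈ N.map HH.subtype from hmap ▸ Subgroup.mem_map_of_mem π hg)
        rw [map_mul, h1', one_mul, hYU] at hnX
        exact (pair_mem hidx 1 1).2 ((show n = ⟨gg 1, gg_mem_HH 1⟩ from Subtype.ext hnX) ▸ hn)
    · intro h
      by_cases hh : h ∈ N
      · obtain ⟨d, hd, hdh⟩ := (show (h : Cfsg.Spor.ON) ∈ D.map π from hmap.symm ▸ ⟨h, hh, rfl⟩)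
        exact ⟨⟨d, Or.inl hd⟩, Subtype.ext hdh⟩
      · have hh' : h * ⟨gg 1, gg_mem_HH 1⟩ ∈ N :=
          (Subgroup.mul_mem_iff_of_index_two hidx).2 (iff_of_false hh (pair_mem hidx 1 1).2)
        obtain ⟨d, hd, hdh⟩ := (show ((h * ⟨gg 1, gg_mem_HH 1⟩ : HH) : Cfsg.Spor.ON) ∈ D.map π
          from hmap.symm ▸ ⟨_, hh', rfl⟩)
        refine ⟨⟨d * X, Or.inr (by rw [mul_assoc, hX2, mul_one]; exact hd)⟩, Subtype.ext ?_⟩
        show π (d * X) = h
        rw [map_mul, hdh, hYU, Subgroup.coe_mul]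
        show (h : Cfsg.Spor.ON) * gg 1 * gg 1 = h
        rw [mul_assoc, gg_sq (by norm_num), mul_one]
  refine ⟨C.subtype.comp (MulEquiv.ofBijective q hq).symm.toMonoidHom, fun h => ?_⟩
  exact congrArg Subtype.val ((MulEquiv.ofBijective q hq).apply_symm_apply h)

/-- The relator words up to rotation, with weights. -/
def baseRels : List (List Nat × Nat) :=
  ((ONPermData64.words.take 21).map fun w => (w, 0)) ++
  [([6, 7], 0), ([7, 6], 0), ([0, 5, 3, 2, 3, 2, 3, 2, 3, 2], 0), ([0, 5, 7, 7], 8),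
   ([2, 7, 3, 7, 3, 2, 3, 6, 3, 6], 4), ([3, 7, 2, 7, 2, 3, 2, 6, 2, 6], 2),
   ([1, 2, 3, 6, 1, 2, 3, 6, 1, 2, 3, 6, 1, 2, 3, 6, 1, 2, 3, 6], 0),
   ([6, 1, 2, 6, 2, 1, 6, 1, 2, 6, 2], 0), ([6, 4, 3, 6, 3, 4, 6, 4, 3, 6, 3], 1)]

theorem rels_rot : ∀ r ∈ ONTwoCert60Data.rels, ∃ b ∈ baseRels, ∃ k < 22,
    CentralCosetTwo60.rotw b.1 k = r.1 ∧ b.2 = r.2 := by
  decide +kernel

include hπ hc in
/-- No kernel of exponent two. -/
theorem two (hperf : commutator Γ = ⊤) (hexp : ∀ z : Γ, π z = 1 → z ^ 2 = 1) {z : Γ} (hz : π z = 1) :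
    z = 1 := by
  obtain ⟨σ, hσ⟩ := exists_section hπ hc hexp
  have hcm : ∀ {u : Γ}, π u = 1 → ∀ w, Commute u w := fun hu w => comm hc hu w
  have hsq : ∀ {u : Γ}, π u = 1 → u * u = 1 := fun hu => by rw [← pow_two]; exact hexp _ hu
  let X₀ : Fin 6 → Γ := fun i => σ ⟨gg i, gg_mem_HH i⟩
  obtain ⟨G₀, hG₀⟩ := hπ (gg 6)
  let c₆ : Γ := G₀ * X₀ 1 * X₀ 2 * G₀ * X₀ 2 * X₀ 1 * G₀ * X₀ 1 * X₀ 2 * G₀ * X₀ 2
  have hc6 : π c₆ = 1 := by
    have h := val_words (w := [6, 1, 2, 6, 2, 1, 6, 1, 2, 6, 2]) (by decide)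
    simp only [c₆, X₀, map_mul, hσ, hG₀]
    simpa [val_cons, val_nil, mul_assoc] using h
  obtain ⟨N, -, hidx, -⟩ := ONSubgroup64.exists_normal ONRep64.ab_ne_one
  -- the section with the sign of the quotient by the index two subgroup
  open Classical in
  let τ : HH →* Γ := MonoidHom.mk' (fun h => σ h * if h ∈ N then 1 else c₆) fun a b => by
    have hm := Subgroup.mul_mem_iff_of_index_two hidx (a := a) (b := b)
    have cc : ∀ w, c₆ * w = w * c₆ := fun w => comm hc hc6 w
    by_cases ha : a ∈ N <;> by_cases hb : b ∈ N <;> simp only [hm, ha, hb, iff_self, iff_true, iff_false,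
      not_true, not_false_iff, if_true, if_false, mul_one, map_mul]
    · exact (mul_assoc _ _ _)
    · rw [mul_assoc, mul_assoc, cc]
    · calc σ a * σ b = σ a * σ b * (c₆ * c₆) := by rw [hsq hc6, mul_one]
        _ = σ a * (σ b * c₆) * c₆ := by group
        _ = σ a * (c₆ * σ b) * c₆ := by rw [cc]
        _ = _ := by group
  have hτ : ∀ h : HH, π (τ h) = h := fun h => by
    show π (σ h * _) = _
    rw [map_mul, hσ]; split_ifs <;> simp [hc6]
  let X : Fin 6 → Γ := fun i => X₀ i * c₆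
  have hXτ : ∀ i : Fin 6, X i = τ ⟨gg i, gg_mem_HH i⟩ := fun i => by
    show _ = σ _ * _
    rw [if_neg (pair_mem hidx i i).2]
  let c₅ : Γ := (X 1 * X 2 * X 3 * G₀) ^ 5
  have hc5 : π c₅ = 1 := by
    have h := val_words (w := [1, 2, 3, 6, 1, 2, 3, 6, 1, 2, 3, 6, 1, 2, 3, 6, 1, 2, 3, 6]) (by decide)
    simp only [c₅, X, X₀, map_pow, map_mul, hσ, hG₀, hc6, mul_one]
    simpa [val_cons, val_nil, pow_succ, mul_assoc] using h
  let G : Γ := G₀ * c₅
  have hXπ : ∀ i, π (X i) = gg i := fun i => by rw [map_mul, hc6, mul_one]; exact hσ _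
  have hGπ : π G = gg 6 := by rw [map_mul, hc5, mul_one, hG₀]
  have hX2 : ∀ i, X i * X i = 1 := by
    intro i
    rw [hXτ, ← map_mul, show (⟨gg i, gg_mem_HH i⟩ * ⟨gg i, gg_mem_HH i⟩ : HH) = 1 from Subtype.ext (gg_sq i.2), map_one]
  let x : ℕ → Γ := fun n => if h : n < 6 then X ⟨n, h⟩ else if n = 6 then G else if n = 7 then G⁻¹ else 1
  have hxπ : ∀ n, n < 8 → π (x n) = gg n := by
    intro n hn
    by_cases h : n < 6
    · simp only [x, dif_pos h]; exact hXπ ⟨n, h⟩
    · rcases (show n = 6 ∨ n = 7 by omega) with rfl | rfl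
      · exact hGπ
      · show π G⁻¹ = (gg 6)⁻¹
        rw [map_inv, hGπ]
  have hvalπ : ∀ w : List Nat, (∀ n ∈ w, n < 8) → π (w.map x).prod = val gg w := by
    intro w hw
    rw [map_list_prod, List.map_map]
    exact congrArg List.prod (List.map_congr_left fun n hn => hxπ n (hw n hn))
  -- values
  let u : Fin 4 → Γ := ![(([0, 5, 7, 7] : List Nat).map x).prod,
    (([2, 7, 3, 7, 3, 2, 3, 6, 3, 6] : List Nat).map x).prod,
    (([3, 7, 2, 7, 2, 3, 2, 6, 2, 6] : List Nat).map x).prod,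
    (([6, 4, 3, 6, 3, 4, 6, 4, 3, 6, 3] : List Nat).map x).prod]
  have hu : ∀ i, π (u i) = 1 := by
    intro i
    fin_cases i <;> exact (hvalπ _ (by decide)).trans (val_words (by decide))
  let pw : Fin 4 → Bool → Γ := fun i b => cond b (u i) 1
  have hpw : ∀ i b, π (pw i b) = 1 := fun i b => by cases b <;> simp [pw, hu]
  have hpw2 : ∀ i a b, pw i (a != b) = pw i a * pw i b := fun i a b => by
    cases a <;> cases b <;> simp [pw, hsq (hu i)]
  let ζ : ℕ → Γ := fun d => pw 0 (d.testBit 3) * pw 1 (d.testBit 2) * pw 2 (d.testBit 1) * pw 3 (d.testBit 0)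
  have hζker : ∀ d, π (ζ d) = 1 := fun d => by simp only [ζ, map_mul, hpw, mul_one]
  have hζadd : ∀ a b, ζ (CentralCosetTwo60.addc a b) = ζ a * ζ b := by
    intro a b
    show ζ (a ^^^ b) = _
    simp only [ζ, Nat.testBit_xor, hpw2]
    have r : ∀ i c (w : Γ), pw i c * w = w * pw i c := fun i c w => comm hc (hpw i c) w
    generalize pw 0 (a.testBit 3) = A0, hA1 : pw 1 (a.testBit 2) = A1, hA2 : pw 2 (a.testBit 1) = A2,
      hA3 : pw 3 (a.testBit 0) = A3, hB0 : pw 0 (b.testBit 3) = B0, hB1 : pw 1 (b.testBit 2) = B1,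
      hB2 : pw 2 (b.testBit 1) = B2, pw 3 (b.testBit 0) = B3
    have k1 : ∀ w, A1 * w = w * A1 := hA1 ▸ r _ _
    have k2 : ∀ w, A2 * w = w * A2 := hA2 ▸ r _ _
    have k3 : ∀ w, A3 * w = w * A3 := hA3 ▸ r _ _
    calc A0 * B0 * (A1 * B1) * (A2 * B2) * (A3 * B3)
        = A0 * (B0 * A1) * B1 * A2 * B2 * A3 * B3 := by group
      _ = A0 * A1 * (B0 * B1 * A2) * B2 * A3 * B3 := by rw [← k1]; group
      _ = A0 * A1 * A2 * (B0 * B1 * B2 * A3) * B3 := by rw [← k2]; group
      _ = _ := by rw [← k3]; group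
  have hζ0 : ζ 0 = 1 := by simp [ζ, pw]
  have hxi : ∀ i : Fin 6, (X i)⁻¹ = X i := fun i => inv_eq_of_mul_eq_one_right (hX2 i)
  -- the exact relations
  have hwordσ : ∀ w : List Nat, (∀ n ∈ w, n < 6) → val gg w = 1 → (w.map x).prod = 1 := by
    intro w hw hval
    have key : ∀ w : List Nat, ∀ hw : ∀ n ∈ w, n < 6,
        (w.map x).prod = τ ⟨val gg w, ONBase90.val_mem_HH hw⟩ := by
      intro w
      induction w with
      | nil => intro _; exact (map_one τ).symm
      | cons n w ih =>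
        intro hw
        have hn : n < 6 := hw n List.mem_cons_self
        rw [List.map_cons, List.prod_cons, ih fun m hm => hw m (List.mem_cons_of_mem _ hm)]
        simp only [x, dif_pos hn, hXτ, ← map_mul]
        congr 1
    rw [key w hw, show (⟨val gg w, ONBase90.val_mem_HH hw⟩ : HH) = 1 from Subtype.ext hval, map_one]
  have he5 : (([1, 2, 3, 6, 1, 2, 3, 6, 1, 2, 3, 6, 1, 2, 3, 6, 1, 2, 3, 6] : List Nat).map x).prod = 1 := by
    have e : (X 1 * X 2 * X 3 * G) ^ 5 = 1 := by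
      show (X 1 * X 2 * X 3 * (G₀ * c₅)) ^ 5 = 1
      rw [← mul_assoc (X 1 * X 2 * X 3), ((hcm hc5 _).symm).mul_pow]
      show c₅ * c₅ ^ 5 = 1
      rw [← pow_succ', show 5 + 1 = 2 * 3 by rfl, pow_mul, hexp _ hc5, one_pow]
    rw [← e]
    simp [x, pow_succ, mul_assoc]
  have he6 : (([6, 1, 2, 6, 2, 1, 6, 1, 2, 6, 2] : List Nat).map x).prod = 1 := by
    have hprod : ∀ (y k : ℕ → Γ) (w : List Nat), (∀ n, π (k n) = 1) →
        (w.map fun n => y n * k n).prod = (w.map y).prod * (w.map k).prod := by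
      intro y k w hk
      induction w with
      | nil => simp
      | cons n w ih =>
        simp only [List.map_cons, List.prod_cons, ih]
        calc y n * k n * ((w.map y).prod * (w.map k).prod) = y n * (k n * (w.map y).prod) * (w.map k).prod := by group
          _ = _ := by rw [comm hc (hk n)]; group
    let y : ℕ → Γ := fun n => if h : n < 6 then X₀ ⟨n, h⟩ else G₀
    let k : ℕ → Γ := fun n => if n < 6 then c₆ else c₅
    have hk : ∀ n, π (k n) = 1 := fun n => by simp only [k]; split_ifs <;> assumption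
    have hy : (([6, 1, 2, 6, 2, 1, 6, 1, 2, 6, 2] : List Nat).map y).prod = c₆ := by
      simp [y, c₆, mul_assoc]
    have hp : (([6, 1, 2, 6, 2, 1, 6, 1, 2, 6, 2] : List Nat).map k).prod = c₆ := by
      have a5 : ∀ w : Γ, c₅ * (c₆ * w) = c₆ * (c₅ * w) := fun w => by
        rw [← mul_assoc, comm hc hc5 c₆, mul_assoc]
      have q5 : ∀ w : Γ, c₅ * (c₅ * w) = w := fun w => by rw [← mul_assoc, hsq hc5, one_mul]
      have q6 : ∀ w : Γ, c₆ * (c₆ * w) = w := fun w => by rw [← mul_assoc, hsq hc6, one_mul]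
      simp [k, a5, q5, q6]
    have hx : ([6, 1, 2, 6, 2, 1, 6, 1, 2, 6, 2] : List Nat).map x =
        ([6, 1, 2, 6, 2, 1, 6, 1, 2, 6, 2] : List Nat).map fun n => y n * k n := by
      refine List.map_congr_left fun n hn => ?_
      have hn' : n ≤ 6 := (by decide : ∀ m ∈ ([6, 1, 2, 6, 2, 1, 6, 1, 2, 6, 2] : List Nat), m ≤ 6) n hn
      rcases lt_or_eq_of_le hn' with h | rfl
      · simp [x, y, k, X, h]
      · simp [x, y, k, G]
    rw [hx, hprod y k _ hk, hy, hp, hsq hc6]
  let S : CentralCosetTwo60.Sys Γ ONTwoCert60Data.cert :=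
    { x := x
      ζ := ζ
      H := Subgroup.closure (Set.range X)
      x_flp := by
        intro n
        rcases lt_trichotomy n 6 with h | rfl | h
        · have : CentralCosetTwo60.flp n = n := by simp [CentralCosetTwo60.flp, Nat.blt_eq.mpr h]
          rw [this]; simp only [x, dif_pos h, hxi]
        · rfl
        · rcases eq_or_lt_of_le (show 7 ≤ n by omega) with rfl | h'
          · simp [x, show CentralCosetTwo60.flp 7 = 6 by rfl]
          · have : CentralCosetTwo60.flp n = n := by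
              unfold CentralCosetTwo60.flp
              rw [show Nat.blt n 6 = false by rw [← Bool.not_eq_true, Nat.blt_eq]; omega,
                show Nat.beq n 6 = false by rw [← Bool.not_eq_true, Nat.beq_eq]; omega,
                show Nat.beq n 7 = false by rw [← Bool.not_eq_true, Nat.beq_eq]; omega]
              rfl
            rw [this]
            simp [x, show ¬ n < 6 by omega, show n ≠ 6 by omega, show n ≠ 7 by omega]
      central := fun d w => comm hc (hζker d) w
      ζ_zero := hζ0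
      ζ_add := hζadd
      ζ_neg := fun a => eq_inv_of_mul_eq_one_left (hsq (hζker a))
      gen_mem := fun n hn => Subgroup.subset_closure ⟨⟨n, hn⟩, by simp [x, hn]⟩
      rels := by
        intro r hr
        obtain ⟨b, hb, k, -, hk, hz⟩ := rels_rot r hr
        suffices h : (b.1.map x).prod = ζ b.2 by
          rw [← hk, ← hz, CentralCosetTwo60.rotw, List.map_append, List.prod_append]
          rw [← List.take_append_drop k b.1, List.map_append, List.prod_append] at h
          rw [eq_inv_mul_of_mul_eq h, mul_assoc, comm hc (hζker b.2), inv_mul_cancel_left]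
        rcases List.mem_append.mp hb with hb | hb
        · obtain ⟨w, hw, rfl⟩ := List.mem_map.1 hb
          rw [hζ0]
          have hs : ∀ w ∈ ONPermData64.words.take 21, w.all (fun n => Nat.blt n 6) = true := by
            decide +kernel
          have := hs w hw
          rw [List.all_eq_true] at this
          exact hwordσ w (fun n hn => (Nat.blt_eq (x := n) (y := 6)).mp (this n hn)) (val_words (List.mem_of_mem_take hw))
        · simp only [List.mem_cons, List.not_mem_nil, or_false] at hb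
          rcases hb with rfl | rfl | rfl | rfl | rfl | rfl | rfl | rfl | rfl
          · simp [x, hζ0]
          · simp [x, hζ0]
          · rw [hζ0]; exact hwordσ _ (by decide) (val_words (by decide))
          · simp [ζ, pw, u, Nat.testBit, Nat.shiftRight_eq_div_pow]
          · simp [ζ, pw, u, Nat.testBit, Nat.shiftRight_eq_div_pow]
          · simp [ζ, pw, u, Nat.testBit, Nat.shiftRight_eq_div_pow]
          · rw [hζ0]; exact he5
          · rw [hζ0]; exact he6
          · simp [ζ, pw, u, Nat.testBit, Nat.shiftRight_eq_div_pow] }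
  have hkill : ∀ d, ζ d ∈ S.H → ζ d = 1 := by
    intro d hd
    have hle : S.H ≤ τ.range := by
      show Subgroup.closure (Set.range X) ≤ _
      rw [Subgroup.closure_le]
      rintro _ ⟨i, rfl⟩
      exact ⟨_, (hXτ i).symm⟩
    obtain ⟨h, hh⟩ := hle hd
    have h1 := congrArg π hh
    rw [hτ, hζker] at h1
    rw [← hh, show h = 1 from Subtype.ext h1, map_one]
  obtain ⟨l4, l2, l10, l5⟩ := ONTwoCert60.loops S
  have k2 := hkill _ l2
  have k4 := hkill _ l4
  have k10 : ζ 8 * ζ 2 = 1 := by rw [← hζadd]; exact hkill _ l10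
  have k5 : ζ 4 * ζ 1 = 1 := by rw [← hζadd]; exact hkill _ l5
  rw [k2, mul_one] at k10
  rw [k4, one_mul] at k5
  have u0 : u 0 = 1 := by simpa [ζ, pw, Nat.testBit, Nat.shiftRight_eq_div_pow] using k10
  have u1 : u 1 = 1 := by simpa [ζ, pw, Nat.testBit, Nat.shiftRight_eq_div_pow] using k4
  have u2 : u 2 = 1 := by simpa [ζ, pw, Nat.testBit, Nat.shiftRight_eq_div_pow] using k2
  have u3 : u 3 = 1 := by simpa [ζ, pw, Nat.testBit, Nat.shiftRight_eq_div_pow] using k5
  -- all relations hold, so the extension splits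
  let lt : Cfsg.Spor.ON.Gen → Nat := ONRep64.letter
  have hext : ∀ w ∈ ONPermData64.words.drop 21, (w.map x).prod = 1 := by
    intro w hw
    simp only [ONPermData64.words, List.drop_succ_cons, List.drop_zero, List.mem_cons, List.not_mem_nil, or_false] at hw
    rcases hw with rfl | rfl | rfl | rfl | rfl | rfl | rfl
    · exact u0
    · exact hwordσ _ (by decide) (val_words (by decide))
    · exact u1
    · exact u2
    · exact he5
    · exact he6
    · exact u3
  let s : Cfsg.Spor.ON →* Γ := PresentedGroup.toGroup (f := fun i => x (lt i)) (by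
    intro r hr
    rcases hr with ⟨i, hi, j, hj, rfl⟩ | hr
    · have hlt : ∀ i ∈ Cfsg.Spor.coxNodes Cfsg.Spor.ON.edges, ∃ m : Fin 6, node m = i ∧ lt i = m := by decide
      obtain ⟨a, rfl, ha⟩ := hlt i hi
      obtain ⟨b, rfl, hb⟩ := hlt j hj
      rw [map_pow, map_mul, FreeGroup.lift_apply_of, FreeGroup.lift_apply_of, ha, hb]
      show (x a * x b) ^ _ = 1
      simp only [x, dif_pos a.2, dif_pos b.2, hXτ, ← map_mul, ← map_pow]
      rw [show ((⟨gg a, gg_mem_HH a⟩ * ⟨gg b, gg_mem_HH b⟩ : HH)) ^ _ = 1 from Subtype.ext (cox a b), map_one]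
    · have a0 := hext _ (show [0, 5, 7, 7] ∈ _ by decide)
      have a1 := hext _ (show [0, 5, 3, 2, 3, 2, 3, 2, 3, 2] ∈ _ by decide)
      have a2 := hext _ (show [2, 7, 3, 7, 3, 2, 3, 6, 3, 6] ∈ _ by decide)
      have a3 := hext _ (show [3, 7, 2, 7, 2, 3, 2, 6, 2, 6] ∈ _ by decide)
      have a4 := hext _ (show [1, 2, 3, 6, 1, 2, 3, 6, 1, 2, 3, 6, 1, 2, 3, 6, 1, 2, 3, 6] ∈ _ by decide)
      have a5 := hext _ (show [6, 1, 2, 6, 2, 1, 6, 1, 2, 6, 2] ∈ _ by decide)
      have a6 := hext _ (show [6, 4, 3, 6, 3, 4, 6, 4, 3, 6, 3] ∈ _ by decide)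
      have x7 : x 7 = (x 6)⁻¹ := rfl
      have j : ∀ n : Nat, n < 6 → (x n)⁻¹ = x n := fun n hn => by simp only [x, dif_pos hn, hxi]
      simp only [List.map_cons, List.map_nil, List.prod_cons, List.prod_nil, mul_one, x7] at a0 a1 a2 a3 a4 a5 a6
      simp only [Set.mem_setOf_eq, Cfsg.Spor.ON.extra, List.mem_cons, List.not_mem_nil, or_false] at hr
      rcases hr with rfl | rfl | rfl | rfl | rfl | rfl | rfl <;>
        simp [Cfsg.Spor.ON.a, Cfsg.Spor.ON.b, Cfsg.Spor.ON.c, Cfsg.Spor.ON.d, Cfsg.Spor.ON.e, Cfsg.Spor.ON.f,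
          Cfsg.Spor.ON.g, lt, ONRep64.letter, pow_succ, mul_inv_rev, j 1 (by norm_num), j 2 (by norm_num),
          j 3 (by norm_num), j 4 (by norm_num), mul_assoc] <;> assumption)
  have hπs : π.comp s = MonoidHom.id _ := PresentedGroup.ext fun i => by
    rw [MonoidHom.comp_apply, PresentedGroup.toGroup.of]
    cases i <;> exact hxπ _ (by decide)
  have htop : s.range = ⊤ := by
    rw [eq_top_iff, ← hperf, commutator_def, Subgroup.commutator_le]
    intro a _ b _
    have hsplit : ∀ w : Γ, ∃ c, π c = 1 ∧ w = s (π w) * c := fun w =>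
      ⟨(s (π w))⁻¹ * w, by
        rw [map_mul, map_inv, ← MonoidHom.comp_apply, hπs]; exact inv_mul_cancel _,
        (mul_inv_cancel_left _ w).symm⟩
    obtain ⟨c, hc', ha⟩ := hsplit a
    obtain ⟨d, hd, hb⟩ := hsplit b
    refine ⟨⁅π a, π b⁆, ?_⟩
    rw [map_commutatorElement]
    conv_rhs => rw [ha, hb]
    generalize s (π a) = v, s (π b) = w
    rw [commutatorElement_def, commutatorElement_def]
    symm
    calc v * c * (w * d) * (v * c)⁻¹ * (w * d)⁻¹ = v * (c * (w * d)) * c⁻¹ * v⁻¹ * d⁻¹ * w⁻¹ := by group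
      _ = v * w * (d * v⁻¹) * d⁻¹ * w⁻¹ := by rw [comm hc hc']; group
      _ = v * w * v⁻¹ * w⁻¹ := by rw [comm hc hd]; group
  obtain ⟨o, rfl⟩ : z ∈ s.range := htop ▸ Subgroup.mem_top z
  rw [← MonoidHom.comp_apply, hπs] at hz
  rw [show o = 1 from hz, map_one]

end ext

end Cfsg.Agent.ONMultTwo60
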