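import Cfsg.Agent.Lib.ONMultTwo60
import Cfsg.Agent.Lib.ONCentralBound60
import Cfsg.Agent.Lib.StemBasic
import Cfsg.Agent.Lib.SchurMultiplierBasic

/-!
The Schur multiplier of the presented O'Nan group has order at most three.
-/

set_option autoImplicit false
set_option maxRecDepth 100000

namespace Cfsg.Agent.ONMultiplier60

open scoped commutatorElement

theorem not_sq_dvd {p : ℕ} (hp : p.Prime) (h2 : p ≠ 2) (h3 : p ≠ 3) (h7 : p ≠ 7) :
    ¬ p ^ 2 ∣ 460815505920 := by
  intro h
  have hco : Nat.Coprime (p ^ 2) (2 ^ 9 * 3 ^ 4 * 7 ^ 3) :=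
    Nat.Coprime.pow_left 2 ((((Nat.coprime_primes hp Nat.prime_two).2 h2).pow_right 9).mul_right
      (((Nat.coprime_primes hp Nat.prime_three).2 h3).pow_right 4) |>.mul_right
      (((Nat.coprime_primes hp (by norm_num)).2 h7).pow_right 3))
  have h' : p ^ 2 ∣ 32395 :=
    hco.dvd_of_dvd_mul_left (show p ^ 2 ∣ 2 ^ 9 * 3 ^ 4 * 7 ^ 3 * 32395 by simpa using h)
  have hle : p ^ 2 ≤ 32395 := Nat.le_of_dvd (by norm_num) h'
  have hlt : p < 180 := by nlinarith
  have hall : ∀ q < 180, q ^ 2 ∣ 32395 → q = 1 := by decide +kernel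
  exact hp.one_lt.ne' (hall p hlt h')

variable {Γ : Type} [Group Γ] [Finite Γ] {π : Γ →* Cfsg.Spor.ON}

/-- Only three divides the order of the kernel. -/
theorem prime_eq_three (hπ : Function.Surjective π) (hc : π.ker ≤ Subgroup.center Γ)
    (hperf : commutator Γ = ⊤) {p : ℕ} (hp : p.Prime) (hd : p ∣ Nat.card π.ker) : p = 3 := by
  by_contra h3
  haveI : Fact p.Prime := ⟨hp⟩
  haveI := ONGroup90.finite_ON
  by_cases h27 : p ≠ 2 ∧ p ≠ 7
  · refine S0102.result ONMultTwo60.perfect_ON (p := p) (fun P => ?_) π hπ hc hperf hd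
    obtain ⟨n, hn⟩ := IsPGroup.iff_card.1 P.isPGroup'
    have hnd : p ^ n ∣ 460815505920 := by
      rw [← hn, ← ONGroup90.card_ON]; exact Subgroup.card_subgroup_dvd_card _
    have hn1 : n ≤ 1 := by
      by_contra hn1
      exact not_sq_dvd hp h27.1 h3 h27.2 ((pow_dvd_pow p (by omega)).trans hnd)
    rcases (show n = 0 ∨ n = 1 by omega) with rfl | rfl
    · haveI : Subsingleton P := (Nat.card_eq_one_iff_unique.1 (by simpa using hn)).1
      exact isCyclic_of_subsingleton
    · exact isCyclic_of_prime_card (by simpa using hn)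
  · let N : Subgroup Γ :=
      { carrier := {z | ∃ y, π y = 1 ∧ y ^ p = z}
        one_mem' := ⟨1, map_one _, one_pow _⟩
        mul_mem' := by
          rintro _ _ ⟨a, ha, rfl⟩ ⟨b, hb, rfl⟩
          exact ⟨a * b, by rw [map_mul, ha, hb, one_mul],
            (show Commute a b from ONMultTwo60.comm hc ha b).mul_pow p⟩
        inv_mem' := by
          rintro _ ⟨a, ha, rfl⟩
          exact ⟨a⁻¹, by rw [map_inv, ha, inv_one], inv_pow a p⟩ }
    haveI : N.Normal := ⟨by
      rintro _ ⟨a, ha, rfl⟩ w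
      exact ⟨a, ha, by rw [← ONMultTwo60.comm hc (by rw [map_pow, ha, one_pow]) w, mul_inv_cancel_right]⟩⟩
    have hle : N ≤ π.ker := by
      rintro _ ⟨a, ha, rfl⟩
      rw [MonoidHom.mem_ker, map_pow, ha, one_pow]
    let π' : Γ ⧸ N →* Cfsg.Spor.ON := QuotientGroup.lift N π hle
    have hπ' : Function.Surjective π' := fun o => by
      obtain ⟨w, rfl⟩ := hπ o; exact ⟨QuotientGroup.mk w, rfl⟩
    have hc' : π'.ker ≤ Subgroup.center (Γ ⧸ N) := by
      intro z hz
      induction z using QuotientGroup.induction_on with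
      | H w =>
        refine Subgroup.mem_center_iff.2 fun v => ?_
        induction v using QuotientGroup.induction_on with
        | H v => exact congrArg QuotientGroup.mk (ONMultTwo60.comm hc (show π w = 1 from hz) v).symm
    have hperf' : commutator (Γ ⧸ N) = ⊤ := by
      rw [commutator_def, ← MonoidHom.range_eq_top.2 (QuotientGroup.mk'_surjective N),
        MonoidHom.range_eq_map, ← Subgroup.map_commutator, ← commutator_def, hperf]
    have hexp : ∀ z : Γ ⧸ N, π' z = 1 → z ^ p = 1 := by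
      intro z hz
      induction z using QuotientGroup.induction_on with
      | H w => exact (QuotientGroup.eq_one_iff _).2 ⟨w, hz, rfl⟩
    have hone : ∀ z : Γ ⧸ N, π' z = 1 → z = 1 := by
      rcases (show p = 2 ∨ p = 7 by tauto) with rfl | rfl
      · exact fun z hz => ONMultTwo60.two hπ' hc' hperf' hexp hz
      · exact fun z hz => ONMultTwo60.seven hπ' hc' hperf' hexp hz
    let pw : π.ker → π.ker := fun z => ⟨z.1 ^ p, π.ker.pow_mem z.2 p⟩
    have hsurj : Function.Surjective pw := by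
      intro z
      obtain ⟨y, hy, hyz⟩ := (QuotientGroup.eq_one_iff z.1).1 (hone (QuotientGroup.mk z.1) z.2)
      exact ⟨⟨y, hy⟩, Subtype.ext hyz⟩
    have hinj : Function.Injective pw := Finite.injective_iff_surjective.2 hsurj
    obtain ⟨x, hx⟩ := exists_prime_orderOf_dvd_card' p hd
    have hx1 : x = 1 := hinj (Subtype.ext (by
      show x.1 ^ p = (1 : Γ) ^ p
      rw [one_pow, ← hx, ← Subgroup.orderOf_coe, pow_orderOf_eq_one]))
    rw [hx1, orderOf_one] at hx
    exact hp.ne_one hx.symm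

/-- Every finite stem extension has kernel of order at most three, killed by cubes. -/
theorem exists_surjective {σ : Γ →* Cfsg.Spor.ON} (hσ : Cfsg.IsStemExtension σ) :
    ∃ φ : Multiplicative (ZMod 3) →* σ.ker, Function.Surjective φ := by
  obtain ⟨hs, hc, hd⟩ := hσ
  have hperf : commutator Γ = ⊤ := StemBasic.commutator_eq_top_of_stem ⟨hs, hc, hd⟩ ONMultTwo60.perfect_ON
  haveI : Fact (Nat.Prime 3) := ⟨Nat.prime_three⟩
  have h3 : IsPGroup 3 σ.ker := by
    obtain ⟨n, hn⟩ : ∃ n, Nat.card σ.ker = 3 ^ n :=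
      ⟨_, Nat.eq_prime_pow_of_unique_prime_dvd Nat.card_pos.ne'
        fun hq hqd => prime_eq_three hs hc hperf hq hqd⟩
    exact IsPGroup.of_card hn
  have hne : ∃ o : Cfsg.Spor.ON, o ≠ 1 := ⟨_, ONRep64.ab_ne_one⟩
  have hle := ONCentralBound60.card_ker_le hne hs hc h3 hperf
  by_cases h1 : ∀ z : σ.ker, z = 1
  · exact ⟨1, fun z => ⟨1, (h1 z).symm⟩⟩
  · simp only [not_forall] at h1
    obtain ⟨z, hz⟩ := h1
    haveI : Nontrivial σ.ker := ⟨⟨z, 1, hz⟩⟩
    have hcard : Nat.card σ.ker = 3 := by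
      obtain ⟨n, hn⟩ := IsPGroup.iff_card.1 h3
      have : 1 < Nat.card σ.ker := Finite.one_lt_card
      rcases lt_or_ge n 2 with h | h
      · interval_cases n <;> omega
      · have := Nat.pow_le_pow_right (show 0 < 3 by norm_num) h
        omega
    haveI := isCyclic_of_prime_card hcard
    let e : Multiplicative (ZMod 3) ≃* σ.ker :=
      mulEquivOfCyclicCardEq (by rw [hcard, Nat.card_congr Multiplicative.toAdd, Nat.card_zmod])
    exact ⟨e.toMonoidHom, e.surjective⟩

/-- A cover with kernel of order three gives the multiplier. -/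
theorem hasMultiplier {E : Type} [Group E] [Finite E] (π : E →* Cfsg.Spor.ON) (hπ : Cfsg.IsStemExtension π)
    (hk : Nat.card π.ker = 3) : Cfsg.HasCyclicSchurMultiplier Cfsg.Spor.ON 3 := by
  refine ⟨⟨E, inferInstance, inferInstance, π, hπ, ?_⟩, fun Γ _ _ σ hσ => exists_surjective hσ⟩
  haveI : Fact (Nat.Prime 3) := ⟨Nat.prime_three⟩
  haveI := isCyclic_of_prime_card hk
  exact ⟨mulEquivOfCyclicCardEq (by rw [hk, Nat.card_congr Multiplicative.toAdd, Nat.card_zmod])⟩

end Cfsg.Agent.ONMultiplier60
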