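import Cfsg.Agent.Lib.ONOrbitData90

/-! Checks of the orbit data, part 0. -/

set_option autoImplicit false
set_option maxRecDepth 100000
set_option Elab.async false

namespace Cfsg.Agent.ONOrbit90P0

open Cfsg.Agent.CosetCertTable Cfsg.Agent.ONOrbitData90

theorem orb0 : allFrom orbOk 256 0 = true := by decide +kernel

theorem orb1 : allFrom orbOk 256 256 = true := by decide +kernel

theorem orb2 : allFrom orbOk 256 512 = true := by decide +kernel

theorem orb3 : allFrom orbOk 256 768 = true := by decide +kernel

theorem orb4 : allFrom orbOk 256 1024 = true := by decide +kernel

theorem orb5 : allFrom orbOk 256 1280 = true := by decide +kernel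

theorem orb6 : allFrom orbOk 256 1536 = true := by decide +kernel

theorem orb7 : allFrom orbOk 256 1792 = true := by decide +kernel

theorem orb8 : allFrom orbOk 256 2048 = true := by decide +kernel

theorem orb9 : allFrom orbOk 256 2304 = true := by decide +kernel

theorem orb10 : allFrom orbOk 256 2560 = true := by decide +kernel

theorem orb11 : allFrom orbOk 256 2816 = true := by decide +kernel

theorem orb12 : allFrom orbOk 256 3072 = true := by decide +kernel

theorem orb13 : allFrom orbOk 256 3328 = true := by decide +kernel

theorem orb14 : allFrom orbOk 256 3584 = true := by decide +kernel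

theorem orb15 : allFrom orbOk 256 3840 = true := by decide +kernel

theorem orb16 : allFrom orbOk 256 4096 = true := by decide +kernel

theorem orb17 : allFrom orbOk 256 4352 = true := by decide +kernel

theorem orb18 : allFrom orbOk 256 4608 = true := by decide +kernel

theorem orb19 : allFrom orbOk 256 4864 = true := by decide +kernel

theorem orb20 : allFrom orbOk 256 5120 = true := by decide +kernel

theorem orb21 : allFrom orbOk 256 5376 = true := by decide +kernel

theorem orb22 : allFrom orbOk 256 5632 = true := by decide +kernel

theorem orb23 : allFrom orbOk 256 5888 = true := by decide +kernel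

theorem orb24 : allFrom orbOk 256 6144 = true := by decide +kernel

theorem orb25 : allFrom orbOk 256 6400 = true := by decide +kernel

theorem orb26 : allFrom orbOk 256 6656 = true := by decide +kernel

theorem orb27 : allFrom orbOk 256 6912 = true := by decide +kernel

theorem orb28 : allFrom orbOk 256 7168 = true := by decide +kernel

theorem orb29 : allFrom orbOk 256 7424 = true := by decide +kernel

theorem orb30 : allFrom orbOk 256 7680 = true := by decide +kernel

theorem orb31 : allFrom orbOk 256 7936 = true := by decide +kernel

theorem orb32 : allFrom orbOk 256 8192 = true := by decide +kernel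

theorem orb33 : allFrom orbOk 256 8448 = true := by decide +kernel

theorem orb34 : allFrom orbOk 256 8704 = true := by decide +kernel

theorem orb35 : allFrom orbOk 256 8960 = true := by decide +kernel

theorem orb36 : allFrom orbOk 256 9216 = true := by decide +kernel

theorem orb37 : allFrom orbOk 256 9472 = true := by decide +kernel

theorem orb38 : allFrom orbOk 256 9728 = true := by decide +kernel

theorem orb39 : allFrom orbOk 256 9984 = true := by decide +kernel

theorem orb40 : allFrom orbOk 256 10240 = true := by decide +kernel

theorem orb41 : allFrom orbOk 256 10496 = true := by decide +kernel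

theorem orb42 : allFrom orbOk 256 10752 = true := by decide +kernel

theorem orb43 : allFrom orbOk 256 11008 = true := by decide +kernel

theorem orb44 : allFrom orbOk 256 11264 = true := by decide +kernel

theorem orb45 : allFrom orbOk 256 11520 = true := by decide +kernel

theorem orb46 : allFrom orbOk 256 11776 = true := by decide +kernel

theorem orb47 : allFrom orbOk 256 12032 = true := by decide +kernel

theorem orb48 : allFrom orbOk 256 12288 = true := by decide +kernel

theorem orb49 : allFrom orbOk 256 12544 = true := by decide +kernel

theorem orb50 : allFrom orbOk 256 12800 = true := by decide +kernel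

theorem orb51 : allFrom orbOk 256 13056 = true := by decide +kernel

theorem orb52 : allFrom orbOk 256 13312 = true := by decide +kernel

theorem orb53 : allFrom orbOk 256 13568 = true := by decide +kernel

theorem orb54 : allFrom orbOk 256 13824 = true := by decide +kernel

theorem orb55 : allFrom orbOk 256 14080 = true := by decide +kernel

theorem orb56 : allFrom orbOk 256 14336 = true := by decide +kernel

theorem orb57 : allFrom orbOk 256 14592 = true := by decide +kernel

theorem orb58 : allFrom orbOk 256 14848 = true := by decide +kernel

theorem orb59 : allFrom orbOk 256 15104 = true := by decide +kernel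

theorem orb60 : allFrom orbOk 256 15360 = true := by decide +kernel

theorem orb61 : allFrom orbOk 256 15616 = true := by decide +kernel

theorem orb62 : allFrom orbOk 256 15872 = true := by decide +kernel

theorem orb63 : allFrom orbOk 256 16128 = true := by decide +kernel

theorem orb64 : allFrom orbOk 256 16384 = true := by decide +kernel

theorem orb65 : allFrom orbOk 256 16640 = true := by decide +kernel

theorem orb66 : allFrom orbOk 256 16896 = true := by decide +kernel

theorem orb67 : allFrom orbOk 256 17152 = true := by decide +kernel

theorem orb68 : allFrom orbOk 256 17408 = true := by decide +kernel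

theorem orb69 : allFrom orbOk 256 17664 = true := by decide +kernel

theorem orb70 : allFrom orbOk 256 17920 = true := by decide +kernel

theorem orb71 : allFrom orbOk 256 18176 = true := by decide +kernel

theorem orb72 : allFrom orbOk 256 18432 = true := by decide +kernel

theorem orb73 : allFrom orbOk 256 18688 = true := by decide +kernel

theorem orb74 : allFrom orbOk 256 18944 = true := by decide +kernel

theorem orb75 : allFrom orbOk 256 19200 = true := by decide +kernel

theorem orb76 : allFrom orbOk 256 19456 = true := by decide +kernel

theorem orb77 : allFrom orbOk 256 19712 = true := by decide +kernel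

theorem orb78 : allFrom orbOk 256 19968 = true := by decide +kernel

theorem orb79 : allFrom orbOk 256 20224 = true := by decide +kernel

theorem orb80 : allFrom orbOk 256 20480 = true := by decide +kernel

theorem orb81 : allFrom orbOk 256 20736 = true := by decide +kernel

theorem orb82 : allFrom orbOk 256 20992 = true := by decide +kernel

theorem orb83 : allFrom orbOk 256 21248 = true := by decide +kernel

theorem orb84 : allFrom orbOk 256 21504 = true := by decide +kernel

theorem orb85 : allFrom orbOk 256 21760 = true := by decide +kernel

theorem orb86 : allFrom orbOk 256 22016 = true := by decide +kernel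

theorem orb87 : allFrom orbOk 256 22272 = true := by decide +kernel

theorem orb88 : allFrom orbOk 256 22528 = true := by decide +kernel

theorem orb89 : allFrom orbOk 256 22784 = true := by decide +kernel

theorem orb90 : allFrom orbOk 256 23040 = true := by decide +kernel

theorem orb91 : allFrom orbOk 256 23296 = true := by decide +kernel

theorem orb92 : allFrom orbOk 256 23552 = true := by decide +kernel

theorem orb93 : allFrom orbOk 256 23808 = true := by decide +kernel

theorem orb94 : allFrom orbOk 256 24064 = true := by decide +kernel

theorem orb95 : allFrom orbOk 256 24320 = true := by decide +kernel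

theorem orb96 : allFrom orbOk 256 24576 = true := by decide +kernel

theorem orb97 : allFrom orbOk 256 24832 = true := by decide +kernel

theorem orb98 : allFrom orbOk 256 25088 = true := by decide +kernel

theorem orb99 : allFrom orbOk 256 25344 = true := by decide +kernel

theorem orb100 : allFrom orbOk 256 25600 = true := by decide +kernel

theorem orb101 : allFrom orbOk 256 25856 = true := by decide +kernel

theorem orb102 : allFrom orbOk 256 26112 = true := by decide +kernel

theorem orb103 : allFrom orbOk 256 26368 = true := by decide +kernel

theorem orb104 : allFrom orbOk 256 26624 = true := by decide +kernel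

theorem orb105 : allFrom orbOk 256 26880 = true := by decide +kernel

theorem orb106 : allFrom orbOk 256 27136 = true := by decide +kernel

theorem orb107 : allFrom orbOk 256 27392 = true := by decide +kernel

theorem orb108 : allFrom orbOk 256 27648 = true := by decide +kernel

theorem orb109 : allFrom orbOk 256 27904 = true := by decide +kernel

theorem orb110 : allFrom orbOk 256 28160 = true := by decide +kernel

theorem orb111 : allFrom orbOk 256 28416 = true := by decide +kernel

theorem orb112 : allFrom orbOk 256 28672 = true := by decide +kernel

theorem orb113 : allFrom orbOk 256 28928 = true := by decide +kernel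

theorem orb114 : allFrom orbOk 256 29184 = true := by decide +kernel

theorem orb115 : allFrom orbOk 256 29440 = true := by decide +kernel

theorem orb116 : allFrom orbOk 256 29696 = true := by decide +kernel

theorem orb117 : allFrom orbOk 256 29952 = true := by decide +kernel

theorem orb118 : allFrom orbOk 256 30208 = true := by decide +kernel

theorem orb119 : allFrom orbOk 256 30464 = true := by decide +kernel

/-- The points below 30720 pass. -/
theorem block (h : AllBelow orbOk 0) : AllBelow orbOk 30720 := by
  replace h : AllBelow orbOk 256 := h.step 256 orb0
  replace h : AllBelow orbOk 512 := h.step 256 orb1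
  replace h : AllBelow orbOk 768 := h.step 256 orb2
  replace h : AllBelow orbOk 1024 := h.step 256 orb3
  replace h : AllBelow orbOk 1280 := h.step 256 orb4
  replace h : AllBelow orbOk 1536 := h.step 256 orb5
  replace h : AllBelow orbOk 1792 := h.step 256 orb6
  replace h : AllBelow orbOk 2048 := h.step 256 orb7
  replace h : AllBelow orbOk 2304 := h.step 256 orb8
  replace h : AllBelow orbOk 2560 := h.step 256 orb9
  replace h : AllBelow orbOk 2816 := h.step 256 orb10
  replace h : AllBelow orbOk 3072 := h.step 256 orb11
  replace h : AllBelow orbOk 3328 := h.step 256 orb12
  replace h : AllBelow orbOk 3584 := h.step 256 orb13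
  replace h : AllBelow orbOk 3840 := h.step 256 orb14
  replace h : AllBelow orbOk 4096 := h.step 256 orb15
  replace h : AllBelow orbOk 4352 := h.step 256 orb16
  replace h : AllBelow orbOk 4608 := h.step 256 orb17
  replace h : AllBelow orbOk 4864 := h.step 256 orb18
  replace h : AllBelow orbOk 5120 := h.step 256 orb19
  replace h : AllBelow orbOk 5376 := h.step 256 orb20
  replace h : AllBelow orbOk 5632 := h.step 256 orb21
  replace h : AllBelow orbOk 5888 := h.step 256 orb22
  replace h : AllBelow orbOk 6144 := h.step 256 orb23
  replace h : AllBelow orbOk 6400 := h.step 256 orb24
  replace h : AllBelow orbOk 6656 := h.step 256 orb25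
  replace h : AllBelow orbOk 6912 := h.step 256 orb26
  replace h : AllBelow orbOk 7168 := h.step 256 orb27
  replace h : AllBelow orbOk 7424 := h.step 256 orb28
  replace h : AllBelow orbOk 7680 := h.step 256 orb29
  replace h : AllBelow orbOk 7936 := h.step 256 orb30
  replace h : AllBelow orbOk 8192 := h.step 256 orb31
  replace h : AllBelow orbOk 8448 := h.step 256 orb32
  replace h : AllBelow orbOk 8704 := h.step 256 orb33
  replace h : AllBelow orbOk 8960 := h.step 256 orb34
  replace h : AllBelow orbOk 9216 := h.step 256 orb35
  replace h : AllBelow orbOk 9472 := h.step 256 orb36
  replace h : AllBelow orbOk 9728 := h.step 256 orb37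
  replace h : AllBelow orbOk 9984 := h.step 256 orb38
  replace h : AllBelow orbOk 10240 := h.step 256 orb39
  replace h : AllBelow orbOk 10496 := h.step 256 orb40
  replace h : AllBelow orbOk 10752 := h.step 256 orb41
  replace h : AllBelow orbOk 11008 := h.step 256 orb42
  replace h : AllBelow orbOk 11264 := h.step 256 orb43
  replace h : AllBelow orbOk 11520 := h.step 256 orb44
  replace h : AllBelow orbOk 11776 := h.step 256 orb45
  replace h : AllBelow orbOk 12032 := h.step 256 orb46
  replace h : AllBelow orbOk 12288 := h.step 256 orb47
  replace h : AllBelow orbOk 12544 := h.step 256 orb48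
  replace h : AllBelow orbOk 12800 := h.step 256 orb49
  replace h : AllBelow orbOk 13056 := h.step 256 orb50
  replace h : AllBelow orbOk 13312 := h.step 256 orb51
  replace h : AllBelow orbOk 13568 := h.step 256 orb52
  replace h : AllBelow orbOk 13824 := h.step 256 orb53
  replace h : AllBelow orbOk 14080 := h.step 256 orb54
  replace h : AllBelow orbOk 14336 := h.step 256 orb55
  replace h : AllBelow orbOk 14592 := h.step 256 orb56
  replace h : AllBelow orbOk 14848 := h.step 256 orb57
  replace h : AllBelow orbOk 15104 := h.step 256 orb58
  replace h : AllBelow orbOk 15360 := h.step 256 orb59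
  replace h : AllBelow orbOk 15616 := h.step 256 orb60
  replace h : AllBelow orbOk 15872 := h.step 256 orb61
  replace h : AllBelow orbOk 16128 := h.step 256 orb62
  replace h : AllBelow orbOk 16384 := h.step 256 orb63
  replace h : AllBelow orbOk 16640 := h.step 256 orb64
  replace h : AllBelow orbOk 16896 := h.step 256 orb65
  replace h : AllBelow orbOk 17152 := h.step 256 orb66
  replace h : AllBelow orbOk 17408 := h.step 256 orb67
  replace h : AllBelow orbOk 17664 := h.step 256 orb68
  replace h : AllBelow orbOk 17920 := h.step 256 orb69
  replace h : AllBelow orbOk 18176 := h.step 256 orb70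
  replace h : AllBelow orbOk 18432 := h.step 256 orb71
  replace h : AllBelow orbOk 18688 := h.step 256 orb72
  replace h : AllBelow orbOk 18944 := h.step 256 orb73
  replace h : AllBelow orbOk 19200 := h.step 256 orb74
  replace h : AllBelow orbOk 19456 := h.step 256 orb75
  replace h : AllBelow orbOk 19712 := h.step 256 orb76
  replace h : AllBelow orbOk 19968 := h.step 256 orb77
  replace h : AllBelow orbOk 20224 := h.step 256 orb78
  replace h : AllBelow orbOk 20480 := h.step 256 orb79
  replace h : AllBelow orbOk 20736 := h.step 256 orb80
  replace h : AllBelow orbOk 20992 := h.step 256 orb81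
  replace h : AllBelow orbOk 21248 := h.step 256 orb82
  replace h : AllBelow orbOk 21504 := h.step 256 orb83
  replace h : AllBelow orbOk 21760 := h.step 256 orb84
  replace h : AllBelow orbOk 22016 := h.step 256 orb85
  replace h : AllBelow orbOk 22272 := h.step 256 orb86
  replace h : AllBelow orbOk 22528 := h.step 256 orb87
  replace h : AllBelow orbOk 22784 := h.step 256 orb88
  replace h : AllBelow orbOk 23040 := h.step 256 orb89
  replace h : AllBelow orbOk 23296 := h.step 256 orb90
  replace h : AllBelow orbOk 23552 := h.step 256 orb91
  replace h : AllBelow orbOk 23808 := h.step 256 orb92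
  replace h : AllBelow orbOk 24064 := h.step 256 orb93
  replace h : AllBelow orbOk 24320 := h.step 256 orb94
  replace h : AllBelow orbOk 24576 := h.step 256 orb95
  replace h : AllBelow orbOk 24832 := h.step 256 orb96
  replace h : AllBelow orbOk 25088 := h.step 256 orb97
  replace h : AllBelow orbOk 25344 := h.step 256 orb98
  replace h : AllBelow orbOk 25600 := h.step 256 orb99
  replace h : AllBelow orbOk 25856 := h.step 256 orb100
  replace h : AllBelow orbOk 26112 := h.step 256 orb101
  replace h : AllBelow orbOk 26368 := h.step 256 orb102
  replace h : AllBelow orbOk 26624 := h.step 256 orb103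
  replace h : AllBelow orbOk 26880 := h.step 256 orb104
  replace h : AllBelow orbOk 27136 := h.step 256 orb105
  replace h : AllBelow orbOk 27392 := h.step 256 orb106
  replace h : AllBelow orbOk 27648 := h.step 256 orb107
  replace h : AllBelow orbOk 27904 := h.step 256 orb108
  replace h : AllBelow orbOk 28160 := h.step 256 orb109
  replace h : AllBelow orbOk 28416 := h.step 256 orb110
  replace h : AllBelow orbOk 28672 := h.step 256 orb111
  replace h : AllBelow orbOk 28928 := h.step 256 orb112
  replace h : AllBelow orbOk 29184 := h.step 256 orb113
  replace h : AllBelow orbOk 29440 := h.step 256 orb114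
  replace h : AllBelow orbOk 29696 := h.step 256 orb115
  replace h : AllBelow orbOk 29952 := h.step 256 orb116
  replace h : AllBelow orbOk 30208 := h.step 256 orb117
  replace h : AllBelow orbOk 30464 := h.step 256 orb118
  replace h : AllBelow orbOk 30720 := h.step 256 orb119
  exact h

end Cfsg.Agent.ONOrbit90P0
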