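import Cfsg.Agent.Lib.ONOutData41

/-! Scans of a quarter of the points for the automorphisms of the presented O'Nan group. -/

set_option autoImplicit false
set_option maxRecDepth 100000
set_option Elab.async false

namespace Cfsg.Agent.ONOutScan41

open Cfsg.Agent.CosetCertTable Cfsg.Agent.ONPermData64 Cfsg.Agent.ONOutData41

theorem scan1_0 : allFrom scan 4096 30720 = true := by decide +kernel

theorem scan1_1 : allFrom scan 4096 34816 = true := by decide +kernel

theorem scan1_2 : allFrom scan 4096 38912 = true := by decide +kernel

theorem scan1_3 : allFrom scan 4096 43008 = true := by decide +kernel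

theorem scan1_4 : allFrom scan 4096 47104 = true := by decide +kernel

theorem scan1_5 : allFrom scan 4096 51200 = true := by decide +kernel

theorem scan1_6 : allFrom scan 4096 55296 = true := by decide +kernel

theorem scan1_7 : allFrom scan 2048 59392 = true := by decide +kernel

end Cfsg.Agent.ONOutScan41
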