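import Cfsg.Agent.Lib.ONOutData41

/-! Scans of a quarter of the points for the automorphisms of the presented O'Nan group. -/

set_option autoImplicit false
set_option maxRecDepth 100000
set_option Elab.async false

namespace Cfsg.Agent.ONOutScan41

open Cfsg.Agent.CosetCertTable Cfsg.Agent.ONPermData64 Cfsg.Agent.ONOutData41

theorem scan2_0 : allFrom scan 4096 61440 = true := by decide +kernel

theorem scan2_1 : allFrom scan 4096 65536 = true := by decide +kernel

theorem scan2_2 : allFrom scan 4096 69632 = true := by decide +kernel

theorem scan2_3 : allFrom scan 4096 73728 = true := by decide +kernel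

theorem scan2_4 : allFrom scan 4096 77824 = true := by decide +kernel

theorem scan2_5 : allFrom scan 4096 81920 = true := by decide +kernel

theorem scan2_6 : allFrom scan 4096 86016 = true := by decide +kernel

theorem scan2_7 : allFrom scan 2048 90112 = true := by decide +kernel

end Cfsg.Agent.ONOutScan41
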