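import Cfsg.Agent.Lib.ONOutScan0_41
import Cfsg.Agent.Lib.ONOutScan1_41
import Cfsg.Agent.Lib.ONOutScan2_41
import Cfsg.Agent.Lib.ONOutScan3_41

/-! Scans of all points for the automorphisms of the presented O'Nan group. -/

set_option autoImplicit false
set_option maxRecDepth 100000
set_option Elab.async false

namespace Cfsg.Agent.ONOutScan41

open Cfsg.Agent.CosetCertTable Cfsg.Agent.ONPermData64 Cfsg.Agent.ONOutData41

theorem scan_ok : AllBelow scan 122760 := by
  have h0 := AllBelow.zero scan
  have h1 := AllBelow.step h0 4096 scan0_0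
  have h2 := AllBelow.step h1 4096 scan0_1
  have h3 := AllBelow.step h2 4096 scan0_2
  have h4 := AllBelow.step h3 4096 scan0_3
  have h5 := AllBelow.step h4 4096 scan0_4
  have h6 := AllBelow.step h5 4096 scan0_5
  have h7 := AllBelow.step h6 4096 scan0_6
  have h8 := AllBelow.step h7 2048 scan0_7
  have h9 := AllBelow.step h8 4096 scan1_0
  have h10 := AllBelow.step h9 4096 scan1_1
  have h11 := AllBelow.step h10 4096 scan1_2
  have h12 := AllBelow.step h11 4096 scan1_3
  have h13 := AllBelow.step h12 4096 scan1_4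
  have h14 := AllBelow.step h13 4096 scan1_5
  have h15 := AllBelow.step h14 4096 scan1_6
  have h16 := AllBelow.step h15 2048 scan1_7
  have h17 := AllBelow.step h16 4096 scan2_0
  have h18 := AllBelow.step h17 4096 scan2_1
  have h19 := AllBelow.step h18 4096 scan2_2
  have h20 := AllBelow.step h19 4096 scan2_3
  have h21 := AllBelow.step h20 4096 scan2_4
  have h22 := AllBelow.step h21 4096 scan2_5
  have h23 := AllBelow.step h22 4096 scan2_6
  have h24 := AllBelow.step h23 2048 scan2_7
  have h25 := AllBelow.step h24 4096 scan3_0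
  have h26 := AllBelow.step h25 4096 scan3_1
  have h27 := AllBelow.step h26 4096 scan3_2
  have h28 := AllBelow.step h27 4096 scan3_3
  have h29 := AllBelow.step h28 4096 scan3_4
  have h30 := AllBelow.step h29 4096 scan3_5
  have h31 := AllBelow.step h30 4096 scan3_6
  have h32 := AllBelow.step h31 1928 scan3_7
  exact h32

theorem orb1_0 : AllBelow ok1 0 := AllBelow.zero _

theorem orb1_1 : AllBelow ok1 512 :=
  AllBelow.step orb1_0 512 (by decide +kernel)

theorem orb1_2 : AllBelow ok1 1024 :=
  AllBelow.step orb1_1 512 (by decide +kernel)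

theorem orb1_3 : AllBelow ok1 1536 :=
  AllBelow.step orb1_2 512 (by decide +kernel)

theorem orb1_4 : AllBelow ok1 2048 :=
  AllBelow.step orb1_3 512 (by decide +kernel)

theorem orb1_5 : AllBelow ok1 2560 :=
  AllBelow.step orb1_4 512 (by decide +kernel)

theorem orb1_6 : AllBelow ok1 3072 :=
  AllBelow.step orb1_5 512 (by decide +kernel)

theorem orb1_7 : AllBelow ok1 3584 :=
  AllBelow.step orb1_6 512 (by decide +kernel)

theorem orb1_8 : AllBelow ok1 4096 :=
  AllBelow.step orb1_7 512 (by decide +kernel)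

theorem orb1_9 : AllBelow ok1 4608 :=
  AllBelow.step orb1_8 512 (by decide +kernel)

theorem orb1_10 : AllBelow ok1 5120 :=
  AllBelow.step orb1_9 512 (by decide +kernel)

theorem orb1_11 : AllBelow ok1 5586 :=
  AllBelow.step orb1_10 466 (by decide +kernel)

theorem orb1_ok : AllBelow ok1 5586 := orb1_11

theorem orb2_0 : AllBelow ok2 0 := AllBelow.zero _

theorem orb2_1 : AllBelow ok2 512 :=
  AllBelow.step orb2_0 512 (by decide +kernel)

theorem orb2_2 : AllBelow ok2 672 :=
  AllBelow.step orb2_1 160 (by decide +kernel)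

theorem orb2_ok : AllBelow ok2 672 := orb2_2

theorem cx_0 : AllBelow (cOk X4 EX PX) 0 := AllBelow.zero _

theorem cx_1 : AllBelow (cOk X4 EX PX) 512 :=
  AllBelow.step cx_0 512 (by decide +kernel)

theorem cx_2 : AllBelow (cOk X4 EX PX) 1024 :=
  AllBelow.step cx_1 512 (by decide +kernel)

theorem cx_3 : AllBelow (cOk X4 EX PX) 1536 :=
  AllBelow.step cx_2 512 (by decide +kernel)

theorem cx_4 : AllBelow (cOk X4 EX PX) 2048 :=
  AllBelow.step cx_3 512 (by decide +kernel)

theorem cx_5 : AllBelow (cOk X4 EX PX) 2560 :=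
  AllBelow.step cx_4 512 (by decide +kernel)

theorem cx_6 : AllBelow (cOk X4 EX PX) 3072 :=
  AllBelow.step cx_5 512 (by decide +kernel)

theorem cx_7 : AllBelow (cOk X4 EX PX) 3584 :=
  AllBelow.step cx_6 512 (by decide +kernel)

theorem cx_8 : AllBelow (cOk X4 EX PX) 4096 :=
  AllBelow.step cx_7 512 (by decide +kernel)

theorem cx_9 : AllBelow (cOk X4 EX PX) 4608 :=
  AllBelow.step cx_8 512 (by decide +kernel)

theorem cx_10 : AllBelow (cOk X4 EX PX) 5120 :=
  AllBelow.step cx_9 512 (by decide +kernel)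

theorem cx_11 : AllBelow (cOk X4 EX PX) 5586 :=
  AllBelow.step cx_10 466 (by decide +kernel)

theorem cx_ok : AllBelow (cOk X4 EX PX) 5586 := cx_11

theorem cs_0 : AllBelow (cOk SW [] L12) 0 := AllBelow.zero _

theorem cs_1 : AllBelow (cOk SW [] L12) 512 :=
  AllBelow.step cs_0 512 (by decide +kernel)

theorem cs_2 : AllBelow (cOk SW [] L12) 1024 :=
  AllBelow.step cs_1 512 (by decide +kernel)

theorem cs_3 : AllBelow (cOk SW [] L12) 1536 :=
  AllBelow.step cs_2 512 (by decide +kernel)

theorem cs_4 : AllBelow (cOk SW [] L12) 2048 :=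
  AllBelow.step cs_3 512 (by decide +kernel)

theorem cs_5 : AllBelow (cOk SW [] L12) 2560 :=
  AllBelow.step cs_4 512 (by decide +kernel)

theorem cs_6 : AllBelow (cOk SW [] L12) 3072 :=
  AllBelow.step cs_5 512 (by decide +kernel)

theorem cs_7 : AllBelow (cOk SW [] L12) 3584 :=
  AllBelow.step cs_6 512 (by decide +kernel)

theorem cs_8 : AllBelow (cOk SW [] L12) 4096 :=
  AllBelow.step cs_7 512 (by decide +kernel)

theorem cs_9 : AllBelow (cOk SW [] L12) 4608 :=
  AllBelow.step cs_8 512 (by decide +kernel)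

theorem cs_10 : AllBelow (cOk SW [] L12) 5120 :=
  AllBelow.step cs_9 512 (by decide +kernel)

theorem cs_11 : AllBelow (cOk SW [] L12) 5586 :=
  AllBelow.step cs_10 466 (by decide +kernel)

theorem cs_ok : AllBelow (cOk SW [] L12) 5586 := cs_11

end Cfsg.Agent.ONOutScan41
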