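import Cfsg.Agent.Lib.ONRep64
import Cfsg.Agent.Lib.ONOutScan41
import Cfsg.Agent.Lib.GolayOutGen

/-!
Automorphisms of the presented O'Nan group, given the bound on its order: normalised on an element
of order 19, an element of order 6 normalising it and the centraliser of the latter, leaving two
possibilities, both realised.
-/

set_option autoImplicit false
set_option maxRecDepth 100000
set_option Elab.async false
set_option linter.style.haveILetI false

namespace Cfsg.Agent.ONOut41

open Cfsg.Agent.CosetCertTable Cfsg.Agent.ONPermData64 Cfsg.Agent.ONOutData41 Cfsg.Agent.ONOutScan41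
open Cfsg.Agent.ONRep64 (rep prm)

/-- The group. -/
abbrev G : Type := Cfsg.Spor.ON
/-- The number of points. -/
abbrev N : Nat := 122760

/-- The generator of a letter, the letters 6 and 7 standing for the inverse of `g` and for `g`. -/
noncomputable def el : Nat → G
  | 0 => PresentedGroup.of Cfsg.Spor.ON.Gen.a
  | 1 => PresentedGroup.of Cfsg.Spor.ON.Gen.b
  | 2 => PresentedGroup.of Cfsg.Spor.ON.Gen.c
  | 3 => PresentedGroup.of Cfsg.Spor.ON.Gen.d
  | 4 => PresentedGroup.of Cfsg.Spor.ON.Gen.e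
  | 5 => PresentedGroup.of Cfsg.Spor.ON.Gen.f
  | 6 => (PresentedGroup.of Cfsg.Spor.ON.Gen.g)⁻¹
  | _ => PresentedGroup.of Cfsg.Spor.ON.Gen.g

/-- The element of a word, the first letter acting first. -/
noncomputable def ev (w : List Nat) : G := (w.map el).reverse.prod

theorem ev_nil : ev [] = 1 := rfl

theorem ev_cons (k : Nat) (w : List Nat) : ev (k :: w) = ev w * el k := by simp [ev]

theorem ev_append (U V : List Nat) : ev (U ++ V) = ev V * ev U := by simp [ev]

theorem ev_replicate (U : List Nat) (n : Nat) : ev (List.replicate n U).flatten = ev U ^ n := by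
  induction n with
  | zero => simp [ev]
  | succ n ih => rw [List.replicate_succ, List.flatten_cons, ev_append, ih, pow_succ]

theorem rep_el (k : Nat) (hk : k < 8) (i : Fin N) : ((rep (el k) i : Fin N) : Nat) = im k i := by
  have hof : ∀ s, rep (PresentedGroup.of s) = prm (ONRep64.letter s) := fun s => PresentedGroup.toGroup.of _
  have hlow : ∀ x, x < 6 → ((prm x i : Fin N) : Nat) = im x i := by
    intro x hx
    rw [ONRep64.prm_apply (by omega)]
    congr 1
    unfold ONPermData64.flip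
    rw [(Nat.blt_eq.mpr hx : Nat.blt x 6 = true)]
    rfl
  interval_cases k
  · show ((rep (PresentedGroup.of _) i : Fin N) : Nat) = _
    rw [hof]; exact hlow 0 (by norm_num)
  · show ((rep (PresentedGroup.of _) i : Fin N) : Nat) = _
    rw [hof]; exact hlow 1 (by norm_num)
  · show ((rep (PresentedGroup.of _) i : Fin N) : Nat) = _
    rw [hof]; exact hlow 2 (by norm_num)
  · show ((rep (PresentedGroup.of _) i : Fin N) : Nat) = _
    rw [hof]; exact hlow 3 (by norm_num)
  · show ((rep (PresentedGroup.of _) i : Fin N) : Nat) = _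
    rw [hof]; exact hlow 4 (by norm_num)
  · show ((rep (PresentedGroup.of _) i : Fin N) : Nat) = _
    rw [hof]; exact hlow 5 (by norm_num)
  · show ((rep (PresentedGroup.of _)⁻¹ i : Fin N) : Nat) = _
    rw [map_inv, hof]; exact ONRep64.prm_symm (by norm_num [ONRep64.letter]) i
  · show ((rep (PresentedGroup.of _) i : Fin N) : Nat) = _
    rw [hof]
    show ((prm 6 i : Fin N) : Nat) = _
    rw [ONRep64.prm_apply (by norm_num)]
    rfl

theorem run_cons (k : Nat) (w : List Nat) (i : Nat) : run (k :: w) i = run w (im k i) := by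
  simp only [run, CosetCertCore.force_eq]

theorem run_append (U V : List Nat) (i : Nat) : run (U ++ V) i = run V (run U i) := by
  induction U generalizing i with
  | nil => rfl
  | cons k U ih => rw [List.cons_append, run_cons, run_cons, ih]

theorem rep_ev {w : List Nat} (hw : letOk w = true) (i : Fin N) :
    ((rep (ev w) i : Fin N) : Nat) = run w i := by
  induction w generalizing i with
  | nil => rw [ev_nil, map_one]; rfl
  | cons k w ih =>
    simp only [letOk, List.all_cons, Bool.and_eq_true, Nat.blt_eq] at hw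
    rw [ev_cons, map_mul, Equiv.Perm.mul_apply, ih hw.2, rep_el k hw.1, run_cons]

theorem let_app {U V : List Nat} (hU : letOk U = true) (hV : letOk V = true) : letOk (U ++ V) = true := by
  unfold letOk at hU hV ⊢
  rw [List.all_append, hU, hV]
  rfl

theorem let_invW {w : List Nat} (hw : letOk w = true) : letOk (invW w) = true := by
  simp only [letOk, List.all_eq_true, Nat.blt_eq] at hw ⊢
  intro x hx
  simp only [invW, List.mem_reverse, List.mem_map] at hx
  obtain ⟨y, hy, rfl⟩ := hx
  exact ONRep64.flip_lt y (hw y hy)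

theorem el_flip : ∀ k < 8, rep (el (ONPermData64.flip k)) * rep (el k) = 1 := by
  intro k hk
  refine Equiv.ext fun i => Fin.ext ?_
  rw [Equiv.Perm.mul_apply, rep_el _ (ONRep64.flip_lt k hk), rep_el k hk]
  exact ((ONRep64.ok_spec i i.2).1 k hk).2

theorem rep_invW {w : List Nat} (hw : letOk w = true) : rep (ev (invW w)) = (rep (ev w))⁻¹ := by
  induction w with
  | nil => simp [invW, ev]
  | cons k w ih =>
    simp only [letOk, List.all_cons, Bool.and_eq_true, Nat.blt_eq] at hw
    have h1 : invW (k :: w) = invW w ++ [ONPermData64.flip k] := by simp [invW]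
    rw [h1, ev_append, ev_cons, ev_nil, one_mul, map_mul, ev_cons, map_mul, mul_inv_rev, ih hw.2,
      eq_inv_of_mul_eq_one_left (el_flip k hw.1)]

theorem inv_apply {w : List Nat} (hw : letOk w = true) (i : Fin N) :
    (((rep (ev w))⁻¹ i : Fin N) : Nat) = run (invW w) i := by
  rw [← rep_invW hw, rep_ev (let_invW hw)]

/-- Elements fixing some points. -/
noncomputable def fixP (l : List Nat) : Subgroup G where
  carrier := {g | ∀ i : Fin N, (i : Nat) ∈ l → rep g i = i}
  one_mem' := by intro i _; rw [map_one]; rfl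
  mul_mem' := fun {a b} ha hb i hi => by rw [map_mul, Equiv.Perm.mul_apply, hb i hi, ha i hi]
  inv_mem' := fun {a} ha i hi => by rw [map_inv, Equiv.Perm.inv_eq_iff_eq, ha i hi]

/-- One step of a chain: the lower bound, and the surjectivity when it is attained. -/
theorem step [Finite G] (l : List Nat) (b : Fin N) (n m : Nat) (f : Fin n → fixP l)
    (hf : Function.Injective fun k => rep (f k : G) b) (hm : m ≤ Nat.card (fixP (b.1 :: l))) :
    n * m ≤ Nat.card (fixP l) ∧
      (Nat.card (fixP l) ≤ n * Nat.card (fixP (b.1 :: l)) →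
        ∀ g ∈ fixP l, ∃ k, rep g b = rep (f k : G) b) := by
  have hmem : ∀ (k : Fin n) (h : fixP (b.1 :: l)), (f k : G) * (h : G) ∈ fixP l := fun k h i hi => by
    rw [map_mul, Equiv.Perm.mul_apply, h.2 i (List.mem_cons_of_mem _ hi), (f k).2 i hi]
  have hb : ∀ (k : Fin n) (h : fixP (b.1 :: l)), rep ((f k : G) * (h : G)) b = rep (f k : G) b := fun k h => by
    rw [map_mul, Equiv.Perm.mul_apply, h.2 b List.mem_cons_self]
  have hinj : Function.Injective fun t : Fin n × fixP (b.1 :: l) =>
      (⟨_, hmem t.1 t.2⟩ : fixP l) := by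
    rintro ⟨k, h⟩ ⟨k', h'⟩ he
    have he' : (f k : G) * (h : G) = (f k' : G) * (h' : G) := congrArg Subtype.val he
    obtain rfl : k = k' := hf (by
      show rep (f k : G) b = rep (f k' : G) b
      rw [← hb k h, ← hb k' h', he'])
    exact Prod.ext rfl (Subtype.ext (mul_left_cancel he'))
  have hc : Nat.card (Fin n × fixP (b.1 :: l)) = n * Nat.card (fixP (b.1 :: l)) := by
    rw [Nat.card_prod, Nat.card_fin]
  refine ⟨(Nat.mul_le_mul_left n hm).trans (hc ▸ Nat.card_le_card_of_injective _ hinj), fun hle g hg => ?_⟩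
  obtain ⟨⟨k, h⟩, hk⟩ := (hinj.bijective_of_nat_card_le (hle.trans hc.ge)).2 ⟨g, hg⟩
  refine ⟨k, ?_⟩
  rw [← hb k h]
  exact congrArg (fun q : fixP l => rep (q : G) b) hk.symm

theorem ok1_spec (k : Nat) (hk : k < 5586) : run (u1 k) 36931 = pt1 k ∧ run (u1 k) 0 = 0 ∧
    letOk (u1 k) = true ∧ find1 (pt1 k) = k := by
  have := orb1_ok k hk
  simp only [ok1, Bool.and_eq_true, Nat.beq_eq] at this
  exact ⟨this.1.1.1, this.1.1.2, this.1.2, this.2⟩

theorem ok2_spec (k : Nat) (hk : k < 672) : run (u2 k) 93330 = pt2 k ∧ run (u2 k) 36931 = 36931 ∧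
    run (u2 k) 0 = 0 ∧ letOk (u2 k) = true ∧ find2 (pt2 k) = k := by
  have := orb2_ok k hk
  simp only [ok2, Bool.and_eq_true, Nat.beq_eq] at this
  exact ⟨this.1.1.1.1, this.1.1.1.2, this.1.1.2, this.1.2, this.2⟩

/-- The element of point `k` of the first orbit. -/
noncomputable def f1 (k : Fin 5586) : fixP [0] := ⟨ev (u1 k), fun i hi => Fin.ext (by
  obtain ⟨-, h0, hl, -⟩ := ok1_spec k k.2
  rw [rep_ev hl, List.mem_singleton.mp hi, h0])⟩

/-- The element of point `k` of the second orbit. -/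
noncomputable def f2 (k : Fin 672) : fixP [36931, 0] := ⟨ev (u2 k), fun i hi => Fin.ext (by
  obtain ⟨-, h1, h0, hl, -⟩ := ok2_spec k k.2
  rw [rep_ev hl]
  simp only [List.mem_cons, List.not_mem_nil, or_false] at hi
  rcases hi with hi | hi <;> rw [hi] <;> assumption)⟩

theorem scan_spec (i : Nat) (hi : i < N) : down i = true ∧ (run X0 i = i → i = 0) ∧
    (run SW i = i → i ∈ FS) ∧ (run S3W i = i → i ∈ FS3) := by
  have h := scan_ok i hi
  simp only [scan, Bool.and_eq_true, Bool.or_eq_true, Bool.not_eq_true'] at h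
  obtain ⟨⟨⟨h1, h2⟩, h3⟩, h4⟩ := h
  refine ⟨h1, fun he => ?_, fun he => ?_, fun he => ?_⟩
  · rcases h2 with h | h
    · rw [he, Nat.beq_refl _] at h; simp at h
    · exact Nat.eq_of_beq_eq_true h
  · rcases h3 with h | h
    · rw [he, Nat.beq_refl _] at h; simp at h
    · simpa using h
  · rcases h4 with h | h
    · rw [he, Nat.beq_refl _] at h; simp at h
    · simpa using h

theorem transitive (i : Fin N) : ∃ g : G, rep g ⟨0, by norm_num⟩ = i := by
  obtain ⟨i, hi⟩ := i
  induction i using Nat.strong_induction_on with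
  | _ i ih =>
    have hd := (scan_spec i hi).1
    simp only [down, Bool.or_eq_true, Nat.beq_eq, Nat.blt_eq] at hd
    have key : ∀ x < 8, im x i < i → ∃ g : G, rep g ⟨0, by norm_num⟩ = ⟨i, hi⟩ := by
      intro x hx hlt
      obtain ⟨g, hg⟩ := ih (im x i) hlt (hlt.trans hi)
      refine ⟨el (ONPermData64.flip x) * g, Fin.ext ?_⟩
      rw [map_mul, Equiv.Perm.mul_apply, hg, rep_el _ (ONRep64.flip_lt x hx)]
      exact ((ONRep64.ok_spec i hi).1 x hx).2
    rcases hd with ((((((((h | h) | h) | h) | h) | h) | h) | h) | h)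
    · subst h; exact ⟨1, by rw [map_one]; rfl⟩
    all_goals exact key _ (by norm_num) h

/-- The consequences of the chain. -/
structure Based : Prop where
  fin : Finite G
  card : Nat.card G = 460815505920
  orb1 : ∀ g : G, rep g ⟨0, by norm_num⟩ = ⟨0, by norm_num⟩ →
    ∃ k < 5586, ((rep g ⟨36931, by norm_num⟩ : Fin N) : Nat) = pt1 k
  orb2 : ∀ g : G, rep g ⟨0, by norm_num⟩ = ⟨0, by norm_num⟩ →
    rep g ⟨36931, by norm_num⟩ = ⟨36931, by norm_num⟩ →
    ∃ k < 672, ((rep g ⟨93330, by norm_num⟩ : Fin N) : Nat) = pt2 k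
  base : ∀ g : G, (∀ b : Fin N, (b : Nat) ∈ BB → rep g b = b) → g = 1

theorem based [Finite G] (hup : Nat.card G ≤ 460815505920) : Based := by
  have b0 : (0 : Nat) < N := by norm_num
  have b1 : 36931 < N := by norm_num
  have b2 : 93330 < N := by norm_num
  choose t ht using transitive
  have htop : fixP [] = (⊤ : Subgroup G) := eq_top_iff.mpr fun g _ i hi => absurd hi (List.not_mem_nil)
  let f0 : Fin N → fixP [] := fun i => ⟨t i, htop ▸ Subgroup.mem_top _⟩
  have s0 := fun m hm => step [] ⟨0, b0⟩ N m f0 (fun i j h => by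
    have h' : rep (t i) ⟨0, b0⟩ = rep (t j) ⟨0, b0⟩ := h
    rwa [ht, ht] at h') hm
  have hv1 : ∀ k : Fin 5586, ((rep (f1 k : G) ⟨36931, b1⟩ : Fin N) : Nat) = pt1 k := fun k => by
    obtain ⟨h, -, hl, -⟩ := ok1_spec k k.2
    exact (rep_ev hl _).trans h
  have hv2 : ∀ k : Fin 672, ((rep (f2 k : G) ⟨93330, b2⟩ : Fin N) : Nat) = pt2 k := fun k => by
    obtain ⟨h, -, -, hl, -⟩ := ok2_spec k k.2
    exact (rep_ev hl _).trans h
  have s1 := fun m hm => step [0] ⟨36931, b1⟩ 5586 m f1 (fun i j h => Fin.ext (by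
    have := congrArg (fun q : Fin N => find1 q) h
    simp only [hv1] at this
    rwa [(ok1_spec i i.2).2.2.2, (ok1_spec j j.2).2.2.2] at this)) hm
  have s2 := fun m hm => step [36931, 0] ⟨93330, b2⟩ 672 m f2 (fun i j h => Fin.ext (by
    have := congrArg (fun q : Fin N => find2 q) h
    simp only [hv2] at this
    rwa [(ok2_spec i i.2).2.2.2.2, (ok2_spec j j.2).2.2.2.2] at this)) hm
  have hG : Nat.card (fixP []) = Nat.card G := by rw [htop, Subgroup.card_top]
  have a2 := (s2 _ le_rfl).1
  have a1 := (s1 _ le_rfl).1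
  have a0 := (s0 _ le_rfl).1
  have p3 : 1 ≤ Nat.card (fixP [93330, 36931, 0]) := Nat.card_pos
  simp only at a0 a1 a2
  have e3 : Nat.card (fixP [93330, 36931, 0]) = 1 := by
    have := hG ▸ a0; unfold N at this; omega
  have hc : Nat.card G = 460815505920 := by
    have := hG ▸ a0; unfold N at this; omega
  refine ⟨inferInstance, hc, fun g hg => ?_, fun g hg hg1 => ?_, fun g hg => ?_⟩
  · obtain ⟨k, hk⟩ := (s1 _ le_rfl).2 (by show Nat.card (fixP [0]) ≤ 5586 * Nat.card (fixP [36931, 0]); have := hG ▸ a0; unfold N at this; omega) g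
      (fun i hi => by obtain rfl : i = ⟨0, b0⟩ := Fin.ext (List.mem_singleton.mp hi); exact hg)
    exact ⟨k, k.2, (congrArg Fin.val hk).trans (hv1 k)⟩
  · obtain ⟨k, hk⟩ := (s2 _ le_rfl).2 (by
        show Nat.card (fixP [36931, 0]) ≤ 672 * Nat.card (fixP [93330, 36931, 0]); have := hG ▸ a0; unfold N at this; omega) g (fun i hi => by
      simp only [List.mem_cons, List.not_mem_nil, or_false] at hi
      rcases hi with hi | hi
      · obtain rfl : i = ⟨36931, b1⟩ := Fin.ext hi; exact hg1
      · obtain rfl : i = ⟨0, b0⟩ := Fin.ext hi; exact hg)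
    exact ⟨k, k.2, (congrArg Fin.val hk).trans (hv2 k)⟩
  · haveI : Subsingleton (fixP [93330, 36931, 0]) := Finite.card_le_one_iff_subsingleton.mp e3.le
    exact congrArg Subtype.val (Subsingleton.elim (⟨g, fun i hi => hg i (by
      simp only [BB, List.mem_cons, List.not_mem_nil, or_false] at hi ⊢; omega)⟩ : fixP [93330, 36931, 0]) 1)

section

variable (hb : Based)
include hb

theorem eq_of_agree {U V : List Nat} (hU : letOk U = true) (hV : letOk V = true)
    (hag : agree U V = true) : ev U = ev V := by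
  rw [← inv_mul_eq_one]
  refine hb.base _ fun b hbB => ?_
  simp only [agree, List.all_eq_true, Nat.beq_eq] at hag
  rw [map_mul, map_inv, Equiv.Perm.mul_apply, Equiv.Perm.inv_eq_iff_eq]
  exact Fin.ext (by rw [rep_ev hV, rep_ev hU, hag _ hbB])

omit hb in
theorem agree_false {U V : List Nat} (hU : letOk U = true) (hV : letOk V = true)
    (ha : agree U V = false) : ev U ≠ ev V := by
  intro he
  have : agree U V = true := by
    simp only [agree, List.all_eq_true, Nat.beq_eq]
    intro b hbm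
    have hbN : b < N := (by decide : ∀ b ∈ BB, b < N) b hbm
    rw [← rep_ev hU ⟨b, hbN⟩, ← rep_ev hV ⟨b, hbN⟩, he]
  rw [this] at ha
  exact absurd ha (by simp)

theorem rep_inj : Function.Injective rep := by
  rw [injective_iff_map_eq_one]
  exact fun g hg => hb.base g fun b _ => by rw [hg]; rfl

theorem ev_invW {w : List Nat} (hw : letOk w = true) : ev (invW w) = (ev w)⁻¹ :=
  rep_inj hb (by rw [rep_invW hw, map_inv])

/-- A commuting element fixing the point 0 is one of the listed words. -/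
theorem decide_fix {W F : List Nat} {L : List (List Nat)} (hW : letOk W = true) (hF : letOk F = true)
    (hL : L.all letOk = true) (hF0 : run F 0 = 0) (hF1 : run F 36931 = 36931)
    (hF2 : run F 93330 = run W 36931) (hok : AllBelow (cOk W F L) 5586) (g : G) (hg : Commute g (ev W))
    (hg0 : rep g ⟨0, by norm_num⟩ = ⟨0, by norm_num⟩) : ∃ V ∈ L, g = ev V := by
  have b0 : (0 : Nat) < N := by norm_num
  have b1 : 36931 < N := by norm_num
  have b2 : 93330 < N := by norm_num
  obtain ⟨k, hk, hgk⟩ := hb.orb1 g hg0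
  obtain ⟨hu, hu0, hul, -⟩ := ok1_spec k hk
  obtain ⟨h', hh⟩ : ∃ h', h' = (ev (u1 k))⁻¹ * g * ev F := ⟨_, rfl⟩
  have hgW : ((rep g (rep (ev W) ⟨36931, b1⟩) : Fin N) : Nat) = run W (pt1 k) := by
    rw [← Equiv.Perm.mul_apply, ← map_mul, hg.eq, map_mul, Equiv.Perm.mul_apply, rep_ev hW, hgk]
  have eF0 : rep (ev F) ⟨0, b0⟩ = ⟨0, b0⟩ := Fin.ext ((rep_ev hF _).trans hF0)
  have eF1 : rep (ev F) ⟨36931, b1⟩ = ⟨36931, b1⟩ := Fin.ext ((rep_ev hF _).trans hF1)
  have eF2 : rep (ev F) ⟨93330, b2⟩ = rep (ev W) ⟨36931, b1⟩ :=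
    Fin.ext ((rep_ev hF _).trans (hF2.trans (rep_ev hW ⟨36931, b1⟩).symm))
  have h0 : rep h' ⟨0, b0⟩ = ⟨0, b0⟩ := by
    rw [hh, map_mul, map_mul, map_inv, Equiv.Perm.mul_apply, Equiv.Perm.mul_apply, eF0, hg0,
      Equiv.Perm.inv_eq_iff_eq]
    exact Fin.ext ((rep_ev hul _).trans hu0).symm
  have h1 : rep h' ⟨36931, b1⟩ = ⟨36931, b1⟩ := by
    rw [hh, map_mul, map_mul, map_inv, Equiv.Perm.mul_apply, Equiv.Perm.mul_apply, eF1,
      Equiv.Perm.inv_eq_iff_eq]
    exact Fin.ext (hgk.trans (((rep_ev hul ⟨36931, b1⟩).trans hu).symm))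
  obtain ⟨q, hqdef⟩ : ∃ q, q = run (invW (u1 k)) (run W (pt1 k)) := ⟨_, rfl⟩
  have h2 : ((rep h' ⟨93330, b2⟩ : Fin N) : Nat) = q := by
    rw [hh, map_mul, map_mul, map_inv, Equiv.Perm.mul_apply, Equiv.Perm.mul_apply, eF2, inv_apply hul, hgW, hqdef]
  obtain ⟨j, hj, hjq⟩ := hb.orb2 h' h0 h1
  rw [h2] at hjq
  obtain ⟨hv, hv1, hv0, hvl, hfind⟩ := ok2_spec j hj
  have hh' : h' = ev (u2 j) := by
    rw [← inv_mul_eq_one]
    refine hb.base _ fun b hbB => ?_
    rw [map_mul, map_inv, Equiv.Perm.mul_apply, Equiv.Perm.inv_eq_iff_eq]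
    refine Fin.ext ?_
    rw [rep_ev hvl]
    simp only [BB, List.mem_cons, List.not_mem_nil, or_false] at hbB
    rcases hbB with hbB | hbB | hbB
    · obtain rfl : b = ⟨0, b0⟩ := Fin.ext hbB
      rw [hv0]; exact (congrArg Fin.val h0).symm
    · obtain rfl : b = ⟨36931, b1⟩ := Fin.ext hbB
      rw [hv1]; exact (congrArg Fin.val h1).symm
    · obtain rfl : b = ⟨93330, b2⟩ := Fin.ext hbB
      rw [hv]; exact (h2.trans hjq).symm
  have hq2 : in2 q = true := by
    simp only [in2, CosetCertCore.force_eq, Nat.beq_eq]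
    rw [hjq, hfind]
  have hfq : find2 q = j := by rw [hjq, hfind]
  have hcand : letOk (cand F k q) = true := by
    rw [cand, hfq]; exact let_app (let_app (let_invW hF) hvl) hul
  have hge : g = ev (cand F k q) := by
    rw [cand, hfq, ev_append, ev_append, ev_invW hb hF, ← hh', hh]
    group
  have hc := hok k hk
  rw [cOk, CosetCertCore.force_eq, ← hqdef, hq2] at hc
  simp only [Bool.not_true, Bool.false_or, Bool.or_eq_true, Bool.not_eq_true'] at hc
  rcases hc with hc | hc
  · exfalso
    refine agree_false (let_app hW hcand) (let_app hcand hW) hc ?_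
    rw [ev_append, ev_append, ← hge]
    exact hg.eq
  · obtain ⟨V, hV, hag⟩ := List.any_eq_true.mp hc
    exact ⟨V, hV, hge.trans (eq_of_agree hb hcand (List.all_eq_true.mp hL V hV) hag)⟩

end

/-- Substitute images of letters. -/
def subIm (W : List Nat) : List Nat := W.flatMap fun k => IMW.getD k []
/-- Word of a word in the three generators and their inverses. -/
def sym (S : List (List Nat)) (M : List Nat) : List Nat := M.flatMap fun k => S.getD k []

theorem lets : letOk XW = true ∧ letOk SW = true ∧ letOk S3W = true ∧ letOk X4 = true ∧ letOk EX = true ∧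
    letOk SI = true ∧ letOk CI = true ∧ letOk HC = true ∧ letOk X0 = true ∧
    PX.all letOk = true ∧ L12.all letOk = true ∧ CW.all letOk = true ∧ IMW.all letOk = true ∧
    CP.all (fun t => letOk t.2) = true ∧ BAD.all (fun t => letOk t.2) = true := by
  decide +kernel

theorem powers_x : ∀ i < 19, agree (PX.getD i []) (List.replicate i XW).flatten = true ∧
    letOk (List.replicate i XW).flatten = true := by
  decide +kernel

theorem x19 : agree (List.replicate 19 XW).flatten [] = true ∧
    letOk (List.replicate 19 XW).flatten = true ∧ run XW 36931 ≠ 36931 := by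
  decide +kernel

theorem data_x : agree (SW ++ PX.getD 8 []) (XW ++ SW) = true ∧ XW = invW HC ++ X0 ++ HC ∧
    run HC 0 = 0 ∧ run EX 0 = 0 ∧ run EX 36931 = 36931 ∧ run EX 93330 = run X4 36931 ∧
    agree (SW ++ SI) [] = true ∧ agree (CW.getD CPOS [] ++ CI) [] = true ∧ run SW 36931 = 93330 := by
  decide +kernel

theorem points_s : (∀ p ∈ FS, p ∈ CP.map (fun t => t.1) ∨ p ∈ BAD.map (fun t => t.1)) ∧
    (∀ t ∈ CP, run t.2 0 = t.1 ∧ agree (SW ++ t.2) (t.2 ++ SW) = true) ∧
    (∀ t ∈ BAD, run t.2 0 = t.1 ∧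
      (FS3.filter in1).length < (FS3.filter fun q => in1 (run (invW t.2) q)).length) := by
  decide +kernel

theorem fixed_s3 : (∀ q ∈ FS3, q < 122760 ∧ run S3W q = q) ∧ FS3.Nodup := by decide +kernel

theorem glue_s : CP.length = 6 ∧ L12.length = 12 ∧
    ∀ i < 6, ∀ a < 12, agree (L12.getD a [] ++ (CP.getD i (0, [])).2) (CW.getD (i * 12 + a) []) = true := by
  decide +kernel

theorem test_ok : ∀ t ∈ TW, (∀ k ∈ t.1, k < 3) ∧
    letOk (List.replicate t.2 (sym [XW, SW, CW.getD CPOS []] t.1)).flatten = true ∧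
    agree (List.replicate t.2 (sym [XW, SW, CW.getD CPOS []] t.1)).flatten [] = true := by
  decide +kernel

theorem excluded : ∀ j ∈ [1, 2, 4], ∀ k < 72,
    (j = 1 ∧ (k = CPOS ∨ k = CPOS2)) ∨
    ((TT.getD (j / 2) []).getD k 0 < TW.length ∧
      letOk (List.replicate (TW.getD ((TT.getD (j / 2) []).getD k 0) ([], 0)).2
          (sym [PX.getD j [], SW, CW.getD k []] (TW.getD ((TT.getD (j / 2) []).getD k 0) ([], 0)).1)).flatten = true ∧
      agree (List.replicate (TW.getD ((TT.getD (j / 2) []).getD k 0) ([], 0)).2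
          (sym [PX.getD j [], SW, CW.getD k []] (TW.getD ((TT.getD (j / 2) []).getD k 0) ([], 0)).1)).flatten [] = false) := by
  decide +kernel

theorem reduce_j : ∀ j < 19, 0 < j → ∃ m < 6, j * 8 ^ m % 19 ∈ [1, 2, 4] := by decide +kernel

theorem shift_s : ∀ i < 19, ∃ m < 19,
    agree (PX.getD ((19 - m) % 19) [] ++ PX.getD i [] ++ SW ++ PX.getD m []) SW = true := by
  decide +kernel

theorem words_gens : ∀ i < 7, (∀ q ∈ GW.getD i [], q < 6) ∧
    agree (sym [XW, SW, CW.getD CPOS [], PX.getD 18 [], SI, CI] (GW.getD i [])) [i] = true ∧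
    letOk (sym [XW, SW, CW.getD CPOS [], PX.getD 18 [], SI, CI] (GW.getD i [])) = true := by
  decide +kernel

theorem images_ok : agree (IMW.getD 7 [] ++ IMW.getD 6 []) [] = true ∧
    (∀ x < 6, agree (IMW.getD x [] ++ IMW.getD x []) [] = true) ∧
    agree (subIm XW) XW = true ∧ agree (subIm SW) SW = true ∧
    agree (subIm (CW.getD CPOS [])) (CW.getD CPOS2 []) = true ∧
    agree (subIm (CW.getD CPOS2 [])) (CW.getD CPOS []) = true ∧
    letOk (subIm XW) = true ∧ letOk (subIm SW) = true ∧
    letOk (subIm (CW.getD CPOS [])) = true ∧ letOk (subIm (CW.getD CPOS2 [])) = true := by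
  decide +kernel

theorem not_inner : ∀ k < 72,
    agree (XW ++ CW.getD k []) (CW.getD k [] ++ XW) = false ∨
      agree (CW.getD CPOS [] ++ CW.getD k []) (CW.getD k [] ++ CW.getD CPOS2 []) = false := by
  decide +kernel

/-- Number of the letter of a node. -/
def nodeLetter : Cfsg.Spor.ON.Gen → Nat
  | .a => 0 | .b => 1 | .c => 2 | .d => 3 | .e => 4 | .f => 5 | .g => 7

theorem images_cox : ∀ x ∈ [(Cfsg.Spor.ON.Gen.a), .b, .c, .d, .e, .f],
    ∀ y ∈ [(Cfsg.Spor.ON.Gen.a), .b, .c, .d, .e, .f],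
    letOk (List.replicate (Cfsg.Spor.coxLabel Cfsg.Spor.ON.edges x y)
      (IMW.getD (nodeLetter y) [] ++ IMW.getD (nodeLetter x) [])).flatten = true ∧
    agree (List.replicate (Cfsg.Spor.coxLabel Cfsg.Spor.ON.edges x y)
      (IMW.getD (nodeLetter y) [] ++ IMW.getD (nodeLetter x) [])).flatten [] = true := by
  decide +kernel

theorem letGet {L : List (List Nat)} (h : L.all letOk = true) (i : Nat) : letOk (L.getD i []) = true := by
  by_cases hi : i < L.length
  · rw [List.getD_eq_getElem _ _ hi]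
    exact List.all_eq_true.mp h _ (List.getElem_mem hi)
  · rw [List.getD_eq_default _ _ (by omega)]; rfl

theorem letPX (i : Nat) : letOk (PX.getD i []) = true := letGet lets.2.2.2.2.2.2.2.2.2.1 i

theorem letCW (i : Nat) : letOk (CW.getD i []) = true := letGet lets.2.2.2.2.2.2.2.2.2.2.2.1 i

theorem letIM (i : Nat) : letOk (IMW.getD i []) = true := letGet lets.2.2.2.2.2.2.2.2.2.2.2.2.1 i

/-- The three elements. -/
def S3 : Set G := {ev XW, ev SW, ev (CW.getD CPOS [])}

section

variable (hb : Based)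
include hb

local notation "xx" => ev XW
local notation "ss" => ev SW

theorem px_eq (i : Nat) (hi : i < 19) : ev (PX.getD i []) = xx ^ i := by
  rw [← ev_replicate]
  exact eq_of_agree hb (letPX i) (powers_x i hi).2 (powers_x i hi).1

theorem x_pow19 : xx ^ 19 = 1 := by
  rw [← ev_replicate]
  exact eq_of_agree hb x19.2.1 rfl x19.1

theorem order_x : orderOf xx = 19 := by
  haveI : Fact (Nat.Prime 19) := ⟨by norm_num⟩
  refine orderOf_eq_prime (x_pow19 hb) fun h1 => x19.2.2 ?_
  have := rep_ev lets.1 (⟨36931, by norm_num⟩ : Fin N)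
  rw [h1, map_one] at this
  exact this.symm

theorem x_pow_mod (n : Nat) : xx ^ n = xx ^ (n % 19) := by
  conv_lhs => rw [← Nat.div_add_mod n 19, pow_add, pow_mul, x_pow19 hb, one_pow, one_mul]

theorem s_x : ss * xx * ss⁻¹ = xx ^ 8 := by
  rw [← px_eq hb 8 (by norm_num), mul_inv_eq_iff_eq_mul, ← ev_append, ← ev_append]
  exact (eq_of_agree hb (let_app lets.2.1 (letPX 8)) (let_app lets.1 lets.2.1) data_x.1).symm

theorem s_pow_x (m j : Nat) : ss ^ m * xx ^ j * (ss ^ m)⁻¹ = xx ^ (j * 8 ^ m) := by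
  induction m generalizing j with
  | zero => simp
  | succ m ih =>
    calc ss ^ (m + 1) * xx ^ j * (ss ^ (m + 1))⁻¹
        = ss ^ m * (ss * xx ^ j * ss⁻¹) * (ss ^ m)⁻¹ := by rw [pow_succ]; group
      _ = ss ^ m * xx ^ (8 * j) * (ss ^ m)⁻¹ := by rw [← conj_pow, s_x hb, ← pow_mul]
      _ = xx ^ (j * 8 ^ (m + 1)) := by rw [ih, pow_succ]; congr 1; ring

/-- The centraliser of the element of order 19. -/
theorem centralizer_x (g : G) (hg : Commute g xx) : ∃ i < 19, g = xx ^ i := by
  have b0 : (0 : Nat) < N := by norm_num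
  obtain ⟨lX, -, -, lX4, lEX, -, -, lH, lX0, lPX, -, -, -, -, -⟩ := lets
  obtain ⟨-, hconj, hH0, e0, e1, e2, -, -, -⟩ := data_x
  have hg0 : rep g ⟨0, b0⟩ = ⟨0, b0⟩ := by
    set i := rep g ⟨0, b0⟩ with hi
    set z : Fin N := ⟨0, b0⟩
    have hx0 : run XW 0 = 0 := by decide +kernel
    have hxi : rep xx i = i := by
      rw [hi, ← Equiv.Perm.mul_apply, ← map_mul, ← hg.eq, map_mul, Equiv.Perm.mul_apply]
      exact congrArg _ (Fin.ext ((rep_ev lX z).trans hx0))
    set j := (rep (ev HC))⁻¹ i with hj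
    have hjv : run (invW HC) i = (j : Nat) := (inv_apply lH i).symm
    have hX : rep (ev X0) j = j := by
      have h' := hxi
      rw [hconj, ev_append, ev_append, map_mul, map_mul, Equiv.Perm.mul_apply, Equiv.Perm.mul_apply,
        rep_invW lH, ← hj] at h'
      rw [hj]
      exact (Equiv.Perm.eq_inv_iff_eq).mpr h'
    have hj0 : j = z := Fin.ext ((scan_spec j j.2).2.1 ((rep_ev lX0 j).symm.trans (congrArg Fin.val hX)))
    rw [hj, Equiv.Perm.inv_eq_iff_eq] at hj0
    exact hj0.trans (Fin.ext ((rep_ev lH z).trans hH0))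
  obtain ⟨V, hV, rfl⟩ := decide_fix hb lX4 lEX lPX e0 e1 e2 cx_ok g (by
    rw [X4, ev_append, ev_append, ev_append]
    exact hg.mul_right (hg.mul_right (hg.mul_right hg))) hg0
  obtain ⟨i, hi, rfl⟩ := List.mem_iff_getElem.mp hV
  refine ⟨i, Nat.lt_of_lt_of_eq hi (by decide +kernel), ?_⟩
  rw [← List.getD_eq_getElem _ [] hi]
  exact px_eq hb i (Nat.lt_of_lt_of_eq hi (by decide +kernel))

theorem in1_spec {k : G} (hk : rep k ⟨0, by norm_num⟩ = ⟨0, by norm_num⟩) (q : Fin N) (hq : in1 q = true)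
    (hlt : find1 q < 5586) : in1 (rep k q : Fin N) = true := by
  have b1 : 36931 < N := by norm_num
  obtain ⟨hu, hu0, hul, -⟩ := ok1_spec _ hlt
  simp only [in1, CosetCertCore.force_eq, Nat.beq_eq] at hq ⊢
  obtain ⟨j, hj, hjv⟩ := hb.orb1 (k * ev (u1 (find1 q))) (by
    rw [map_mul, Equiv.Perm.mul_apply,
      show rep (ev (u1 (find1 q))) ⟨0, _⟩ = (⟨0, by norm_num⟩ : Fin N) from Fin.ext ((rep_ev hul _).trans hu0), hk])
  rw [map_mul, Equiv.Perm.mul_apply, show rep (ev (u1 (find1 q))) ⟨36931, b1⟩ = q from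
    Fin.ext (((rep_ev hul _).trans hu).trans hq)] at hjv
  rw [hjv, (ok1_spec j hj).2.2.2]

omit hb in
theorem bsearch_lt (key : Nat → Nat) (p M : Nat) : ∀ fuel lo hi, lo < M → hi ≤ M →
    bsearch key p fuel lo hi < M := by
  intro fuel
  induction fuel with
  | zero => intro lo hi h _; exact h
  | succ n ih =>
    intro lo hi h h'
    have e : bsearch key p (n + 1) lo hi = cond (Nat.blt p (key ((lo + hi) / 2)))
        (bsearch key p n lo ((lo + hi) / 2)) (bsearch key p n ((lo + hi) / 2) hi) := by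
      rw [← pow_one 2, ← Nat.shiftRight_eq_div_pow]
      simp only [bsearch, CosetCertCore.force_eq]
      rfl
    rw [e]
    cases Nat.blt p (key ((lo + hi) / 2)) with
    | true => exact ih _ _ h (by omega)
    | false => exact ih _ _ (by omega) h'

omit hb in
theorem find1_lt (q : Nat) : find1 q < 5586 := bsearch_lt pt1 q 5586 14 0 5586 (by norm_num) le_rfl

/-- The centraliser of the element of order 6. -/
theorem centralizer_s (g : G) (hg : Commute g ss) : ∃ k < 72, g = ev (CW.getD k []) := by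
  have b0 : (0 : Nat) < N := by norm_num
  obtain ⟨-, lS, lS3, -, -, -, -, -, -, -, lL12, -, -, lCP, lBAD⟩ := lets
  set z : Fin N := ⟨0, b0⟩
  set p := rep g z with hp
  have hs0 : run SW 0 = 0 := by decide +kernel
  have hsp : rep ss p = p := by
    rw [hp, ← Equiv.Perm.mul_apply, ← map_mul, ← hg.eq, map_mul, Equiv.Perm.mul_apply]
    exact congrArg _ (Fin.ext ((rep_ev lS z).trans hs0))
  have hpF := (scan_spec p p.2).2.2.1 ((rep_ev lS p).symm.trans (congrArg Fin.val hsp))
  rcases points_s.1 _ hpF with hpC | hpB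
  · obtain ⟨t, ht, htp⟩ := List.mem_map.mp hpC
    obtain ⟨i, hi, hti⟩ := List.mem_iff_getElem.mp ht
    obtain ⟨ht0, htc⟩ := points_s.2.1 t ht
    have lt := List.all_eq_true.mp lCP t ht
    have hcs : Commute (ev t.2) ss := by
      have := eq_of_agree hb (let_app lS lt) (let_app lt lS) htc
      rw [ev_append, ev_append] at this
      exact this
    have hg0 : rep ((ev t.2)⁻¹ * g) z = z := by
      rw [map_mul, map_inv, Equiv.Perm.mul_apply, ← hp, Equiv.Perm.inv_eq_iff_eq]
      exact Fin.ext (htp.symm.trans ((rep_ev lt z).trans ht0).symm)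
    obtain ⟨V, hV, hVe⟩ := decide_fix hb lS (F := []) rfl lL12 rfl rfl data_x.2.2.2.2.2.2.2.2.symm cs_ok _
      (hcs.inv_left.mul_left hg) hg0
    obtain ⟨a, ha, rfl⟩ := List.mem_iff_getElem.mp hV
    have hi6 : i < 6 := Nat.lt_of_lt_of_eq hi glue_s.1
    have ha12 : a < 12 := Nat.lt_of_lt_of_eq ha glue_s.2.1
    refine ⟨i * 12 + a, by omega, ?_⟩
    rw [inv_mul_eq_iff_eq_mul] at hVe
    rw [hVe, ← ev_append, ← List.getD_eq_getElem _ [] ha,
      show t = CP.getD i (0, []) by rw [List.getD_eq_getElem _ _ hi, hti]]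
    refine eq_of_agree hb (let_app (letGet lL12 a) ?_) (letCW _) (glue_s.2.2 i hi6 a ha12)
    rw [List.getD_eq_getElem _ _ hi, hti]; exact lt
  · exfalso
    obtain ⟨t, ht, htp⟩ := List.mem_map.mp hpB
    obtain ⟨ht0, hcount⟩ := points_s.2.2 t ht
    have lt := List.all_eq_true.mp lBAD t ht
    have hmem : ∀ q ∈ FS3.filter (fun q => in1 (run (invW t.2) q)), q < N := fun q hq =>
      (fixed_s3.1 q (List.mem_of_mem_filter hq)).1
    have hs3 : Commute g (ev S3W) := by
      rw [show S3W = SW ++ (SW ++ SW) from rfl, ev_append, ev_append]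
      exact (hg.mul_right hg).mul_right hg
    let φ : Nat → Nat := fun q => if hq : q < N then ((rep g⁻¹ ⟨q, hq⟩ : Fin N) : Nat) else 0
    have hle : ((FS3.filter fun q => in1 (run (invW t.2) q)).toFinset).card ≤ (FS3.filter in1).toFinset.card := by
      refine Finset.card_le_card_of_injOn φ (fun q hq => ?_) (fun q hq q' hq' he => ?_)
      · rw [Finset.mem_coe, List.mem_toFinset] at hq ⊢
        have hqN := hmem q hq
        simp only [φ, dif_pos hqN]
        rw [List.mem_filter] at hq ⊢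
        set q0 : Fin N := ⟨q, hqN⟩
        refine ⟨(scan_spec _ (rep g⁻¹ q0).2).2.2.2 ?_, ?_⟩
        · rw [← rep_ev lS3, ← Equiv.Perm.mul_apply, ← map_mul, ← hs3.inv_left.eq, map_mul, Equiv.Perm.mul_apply,
            show rep (ev S3W) q0 = q0 from Fin.ext ((rep_ev lS3 q0).trans (fixed_s3.1 q hq.1).2)]
        · set r := (rep (ev t.2))⁻¹ q0 with hr
          have hr1 : in1 (r : Nat) = true := by rw [hr, inv_apply lt]; exact hq.2
          have := in1_spec hb (k := g⁻¹ * ev t.2) (by
            rw [map_mul, map_inv, Equiv.Perm.mul_apply, Equiv.Perm.inv_eq_iff_eq, ← hp]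
            exact Fin.ext (((rep_ev lt z).trans ht0).trans htp)) r hr1 (find1_lt _)
          rwa [hr, map_mul, Equiv.Perm.mul_apply, Equiv.Perm.coe_inv, Equiv.apply_symm_apply] at this
      · rw [Finset.mem_coe, List.mem_toFinset] at hq hq'
        simp only [φ, dif_pos (hmem q hq), dif_pos (hmem q' hq')] at he
        exact congrArg Fin.val ((rep g⁻¹).injective (Fin.ext he))
    rw [List.toFinset_card_of_nodup (fixed_s3.2.filter _)] at hle
    have := hle.trans (List.toFinset_card_le _)
    omega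

theorem closure_S3 : Subgroup.closure S3 = ⊤ := by
  have hS : ev SI = (ev SW)⁻¹ := by
    have := eq_of_agree hb (let_app lets.2.1 lets.2.2.2.2.2.1) rfl data_x.2.2.2.2.2.2.1
    rw [ev_append, ev_nil] at this
    exact eq_inv_of_mul_eq_one_left this
  have hC : ev CI = (ev (CW.getD CPOS []))⁻¹ := by
    have := eq_of_agree hb (let_app (letCW _) lets.2.2.2.2.2.2.1) rfl data_x.2.2.2.2.2.2.2.1
    rw [ev_append, ev_nil] at this
    exact eq_inv_of_mul_eq_one_left this
  have h6 : ∀ q < 6, ev ([XW, SW, CW.getD CPOS [], PX.getD 18 [], SI, CI].getD q []) ∈ Subgroup.closure S3 := by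
    have hm : ∀ y ∈ S3, y ∈ Subgroup.closure S3 := fun y hy => Subgroup.subset_closure hy
    intro q hq
    interval_cases q
    · exact hm _ (by simp [S3])
    · exact hm _ (by simp [S3])
    · exact hm _ (by simp [S3])
    · show ev (PX.getD 18 []) ∈ _
      rw [px_eq hb 18 (by norm_num)]
      exact pow_mem (hm _ (by simp [S3])) _
    · show ev SI ∈ _
      rw [hS]; exact inv_mem (hm _ (by simp [S3]))
    · show ev CI ∈ _
      rw [hC]; exact inv_mem (hm _ (by simp [S3]))
  have hk : ∀ i < 7, el i ∈ Subgroup.closure S3 := by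
    intro i hi
    obtain ⟨hlt, hag, hl⟩ := words_gens i hi
    have he : el i = ev [i] := by rw [ev_cons, ev_nil, one_mul]
    rw [he, ← eq_of_agree hb hl ((by decide +kernel : ∀ i < 7, letOk [i] = true) i hi) hag]
    generalize GW.getD i [] = M at hlt
    induction M with
    | nil => exact one_mem _
    | cons q M ih =>
      rw [show ∀ S, sym S (q :: M) = S.getD q [] ++ sym S M from fun S => rfl, ev_append]
      exact mul_mem (ih fun r hr => hlt r (List.mem_cons_of_mem _ hr)) (h6 q (hlt q List.mem_cons_self))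
  rw [eq_top_iff, ← PresentedGroup.closure_range_of, Subgroup.closure_le]
  rintro _ ⟨s, rfl⟩
  cases s
  · have := inv_mem (hk 6 (by norm_num))
    simpa [el] using this
  all_goals
    first
      | exact hk 0 (by norm_num) | exact hk 1 (by norm_num) | exact hk 2 (by norm_num)
      | exact hk 3 (by norm_num) | exact hk 4 (by norm_num) | exact hk 5 (by norm_num)

/-- Every automorphism is inner up to two normal forms. -/
theorem normal_form (φ : MulAut G) : ∃ ψ, GolayOutGen.Sim φ ψ ∧
    ((∀ y ∈ S3, ψ y = y) ∨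
      (ψ xx = xx ∧ ψ ss = ss ∧ ψ (ev (CW.getD CPOS [])) = ev (CW.getD CPOS2 []))) := by
  haveI := hb.fin
  obtain ⟨ψ1, hs1, j0, hj0, hj0', hx1⟩ := GolayOutGen.exists_sim_pow (p := 19) (m := 24253447680)
    (by norm_num) (by decide +kernel) hb.card (order_x hb) φ
  obtain ⟨m, -, hjm⟩ := reduce_j j0 hj0 hj0'
  obtain ⟨ψ2, hs2, hψ2⟩ := GolayOutGen.sim_conj ψ1 (ss ^ m)
  obtain ⟨j, hj, hjdef⟩ : ∃ j, (j = 1 ∨ j = 2 ∨ j = 4) ∧ j = j0 * 8 ^ m % 19 :=
    ⟨_, by simpa using hjm, rfl⟩
  have hx2 : ψ2 xx = xx ^ j := by rw [hψ2, hx1, s_pow_x hb, x_pow_mod hb, ← hjdef]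
  have hc1 : Commute (ss⁻¹ * ψ2 ss) xx := by
    have h1 : ψ2 ss * (xx ^ j) * (ψ2 ss)⁻¹ = ss * xx ^ j * ss⁻¹ := by
      conv_rhs => rw [← conj_pow, s_x hb, ← pow_mul, mul_comm, pow_mul]
      rw [← hx2, ← map_inv, ← map_mul, ← map_mul, s_x hb, map_pow]
    obtain ⟨j', hj'⟩ : ∃ j', (xx ^ j) ^ j' = xx := by
      rcases hj with rfl | rfl | rfl
      · exact ⟨1, by simp⟩
      · exact ⟨10, by rw [← pow_mul, x_pow_mod hb, pow_one]⟩
      · exact ⟨5, by rw [← pow_mul, x_pow_mod hb, pow_one]⟩
    have h2 : ψ2 ss * xx * (ψ2 ss)⁻¹ = ss * xx * ss⁻¹ := by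
      have := congrArg (fun y => y ^ j') h1
      simp only [conj_pow, hj'] at this
      exact this
    show ss⁻¹ * ψ2 ss * xx = xx * (ss⁻¹ * ψ2 ss)
    calc ss⁻¹ * ψ2 ss * xx = ss⁻¹ * (ψ2 ss * xx * (ψ2 ss)⁻¹) * ψ2 ss := by group
      _ = ss⁻¹ * (ss * xx * ss⁻¹) * ψ2 ss := by rw [h2]
      _ = xx * (ss⁻¹ * ψ2 ss) := by group
  obtain ⟨i, hi, hgi⟩ := centralizer_x hb _ hc1
  have hs2' : ψ2 ss = ss * xx ^ i := by rw [← hgi, mul_inv_cancel_left]
  obtain ⟨m2, hm2, hag⟩ := shift_s i hi
  obtain ⟨ψ, hs3, hψ⟩ := GolayOutGen.sim_conj ψ2 (xx ^ m2)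
  have hxψ : ψ xx = xx ^ j := by
    rw [hψ, hx2, ((Commute.refl xx).pow_pow m2 j).eq, mul_inv_cancel_right]
  have hsψ : ψ ss = ss := by
    have he := eq_of_agree hb (let_app (let_app (let_app (letPX _) (letPX i)) lets.2.1) (letPX m2)) lets.2.1 hag
    rw [ev_append, ev_append, ev_append, px_eq hb m2 hm2, px_eq hb i hi,
      px_eq hb ((19 - m2) % 19) (Nat.mod_lt _ (by norm_num)), ← x_pow_mod hb] at he
    have hinv : (xx ^ m2)⁻¹ = xx ^ (19 - m2) := by
      apply inv_eq_of_mul_eq_one_right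
      rw [← pow_add, show m2 + (19 - m2) = 19 by omega, x_pow19 hb]
    calc ψ ss = xx ^ m2 * (ss * (xx ^ i * xx ^ (19 - m2))) := by rw [hψ, hs2', hinv]; group
      _ = ss := he
  have hcs : Commute (ψ (ev (CW.getD CPOS []))) ss := by
    have h0 : Commute (ev (CW.getD CPOS [])) ss := by
      have := eq_of_agree hb (let_app lets.2.1 (letCW CPOS)) (let_app (letCW CPOS) lets.2.1)
        (by decide +kernel : agree (SW ++ CW.getD CPOS []) (CW.getD CPOS [] ++ SW) = true)
      rw [ev_append, ev_append] at this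
      exact this
    have := h0.map ψ.toMonoidHom
    rwa [MulEquiv.coe_toMonoidHom, hsψ] at this
  obtain ⟨k, hk, hck⟩ := centralizer_s hb _ hcs
  refine ⟨ψ, GolayOutGen.sim_trans hs1 (GolayOutGen.sim_trans hs2 hs3), ?_⟩
  rcases excluded j (by simpa using hj) k hk with ⟨rfl, rfl | rfl⟩ | ⟨hlt, hl, hag⟩
  · left
    intro y hy
    simp only [S3, Set.mem_insert_iff, Set.mem_singleton_iff] at hy
    rcases hy with rfl | rfl | rfl
    exacts [hxψ.trans (pow_one _), hsψ, hck]
  · exact Or.inr ⟨hxψ.trans (pow_one _), hsψ, hck⟩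
  · exfalso
    generalize htd : TW.getD ((TT.getD (j / 2) []).getD k 0) ([], 0) = t at hl hag
    have htm : t ∈ TW := by
      rw [← htd, List.getD_eq_getElem _ _ hlt]; exact List.getElem_mem hlt
    obtain ⟨hsy, hl0, hag0⟩ := test_ok t htm
    have hone := eq_of_agree hb hl0 rfl hag0
    rw [ev_replicate, ev_nil] at hone
    have hmap : ∀ M : List Nat, (∀ q ∈ M, q < 3) → ψ (ev (sym [XW, SW, CW.getD CPOS []] M)) =
        ev (sym [PX.getD j [], SW, CW.getD k []] M) := by
      intro M hM
      induction M with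
      | nil => exact map_one ψ
      | cons q M ih =>
        have hq := hM q List.mem_cons_self
        have ih := ih fun r hr => hM r (List.mem_cons_of_mem _ hr)
        show ψ (ev ([XW, SW, CW.getD CPOS []].getD q [] ++ sym [XW, SW, CW.getD CPOS []] M)) =
          ev ([PX.getD j [], SW, CW.getD k []].getD q [] ++ sym [PX.getD j [], SW, CW.getD k []] M)
        rw [ev_append, ev_append, map_mul, ih]
        congr 1
        interval_cases q
        · exact hxψ.trans (px_eq hb j (by omega)).symm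
        · exact hsψ
        · exact hck
    have h2 := congrArg ψ hone
    rw [map_pow, map_one, hmap _ hsy, ← ev_replicate] at h2
    exact agree_false hl rfl hag (h2.trans ev_nil.symm)

/-- The outer automorphism group has order two. -/
theorem card_out_of : Nat.card (Cfsg.Out G) = 2 := by
  classical
  haveI := hb.fin
  let f0 : Cfsg.Spor.ON.Gen → G := fun s => ev (IMW.getD (nodeLetter s) [])
  have hinv : ∀ x < 6, (ev (IMW.getD x []))⁻¹ = ev (IMW.getD x []) := fun x hx => by
    apply inv_eq_of_mul_eq_one_right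
    rw [← ev_append]
    exact eq_of_agree hb (let_app (letIM x) (letIM x)) rfl (images_ok.2.1 x hx)
  have hg6 : (ev (IMW.getD 7 []))⁻¹ = ev (IMW.getD 6 []) := by
    apply inv_eq_of_mul_eq_one_left
    rw [← ev_append]
    exact eq_of_agree hb (let_app (letIM 7) (letIM 6)) rfl images_ok.1
  have hrel : ∀ r ∈ Cfsg.Spor.coxRelators Cfsg.Spor.ON.edges ∪ {r | r ∈ Cfsg.Spor.ON.extra},
      FreeGroup.lift f0 r = 1 := by
    rintro r (⟨x, hx, y, hy, rfl⟩ | hr)
    · rw [map_pow, map_mul, FreeGroup.lift_apply_of, FreeGroup.lift_apply_of]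
      obtain ⟨hl, hag⟩ := images_cox x (ONRep64.nodes_sub x hx) y (ONRep64.nodes_sub y hy)
      show (ev _ * ev _) ^ _ = 1
      rw [← ev_append, ← ev_replicate]
      exact eq_of_agree hb hl rfl hag
    · simp only [Cfsg.Spor.ON.extra, Set.mem_ofPred_eq, List.mem_cons, List.not_mem_nil, or_false] at hr
      rcases hr with rfl | rfl | rfl | rfl | rfl | rfl | rfl <;>
        simp only [map_mul, map_inv, map_pow, mul_inv_rev, ← inv_pow, FreeGroup.lift_apply_of, f0,
          nodeLetter, hinv 1 (by norm_num), hinv 2 (by norm_num), hinv 3 (by norm_num),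
          hinv 4 (by norm_num), hg6] <;>
        simp only [← ev_replicate, ← ev_append] <;>
        refine (eq_of_agree hb (V := []) ?_ rfl ?_).trans ev_nil <;> decide +kernel
  let f : G →* G := PresentedGroup.toGroup hrel
  have hfel : ∀ k < 8, f (el k) = ev (IMW.getD k []) := by
    have hof : ∀ s, f (PresentedGroup.of s) = ev (IMW.getD (nodeLetter s) []) := fun s =>
      PresentedGroup.toGroup.of _
    intro k hk
    interval_cases k
    · exact hof .a
    · exact hof .b
    · exact hof .c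
    · exact hof .d
    · exact hof .e
    · exact hof .f
    · show f ((PresentedGroup.of _)⁻¹) = _
      rw [map_inv, hof]
      exact hg6
    · exact hof .g
  have hfW : ∀ W : List Nat, letOk W = true → f (ev W) = ev (subIm W) := by
    intro W
    induction W with
    | nil => intro _; exact map_one f
    | cons k W ih =>
      intro hW
      simp only [letOk, List.all_cons, Bool.and_eq_true, Nat.blt_eq] at hW
      rw [ev_cons, map_mul, ih hW.2, hfel k hW.1]
      show _ = ev (IMW.getD k [] ++ subIm W)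
      rw [ev_append]
  obtain ⟨-, -, aX, aS, aC, aC2, lX, lS, lC, lC2⟩ := images_ok
  have hfX : f xx = xx := (hfW _ lets.1).trans (eq_of_agree hb lX lets.1 aX)
  have hfS : f ss = ss := (hfW _ lets.2.1).trans (eq_of_agree hb lS lets.2.1 aS)
  have hfC : f (ev (CW.getD CPOS [])) = ev (CW.getD CPOS2 []) :=
    (hfW _ (letCW _)).trans (eq_of_agree hb lC (letCW _) aC)
  have hfC2 : f (ev (CW.getD CPOS2 [])) = ev (CW.getD CPOS []) :=
    (hfW _ (letCW _)).trans (eq_of_agree hb lC2 (letCW _) aC2)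
  have hff : f.comp f = MonoidHom.id G := MonoidHom.eq_of_eqOn_dense (closure_S3 hb) fun y hy => by
    simp only [S3, Set.mem_insert_iff, Set.mem_singleton_iff] at hy
    rcases hy with rfl | rfl | rfl <;> simp only [MonoidHom.comp_apply, MonoidHom.id_apply, hfX, hfS, hfC, hfC2]
  have hbij : Function.Bijective f :=
    Function.Involutive.bijective fun y => DFunLike.congr_fun hff y
  let s : MulAut G := MulEquiv.ofBijective f hbij
  refine GolayOutGen.card_out_eq_two (closure_S3 hb) (fun y => f y) (fun φ => ?_) s ?_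
  · obtain ⟨ψ, hsim, h⟩ := normal_form hb φ
    refine ⟨ψ, hsim, h.imp id fun ⟨h1, h2, h3⟩ y hy => ?_⟩
    simp only [S3, Set.mem_insert_iff, Set.mem_singleton_iff] at hy
    rcases hy with rfl | rfl | rfl
    exacts [h1.trans hfX.symm, h2.trans hfS.symm, h3.trans hfC.symm]
  · rintro ⟨k, hk⟩
    have e : ∀ y, k * y * k⁻¹ = f y := fun y => congrArg (fun a : MulAut G => a y) hk
    have hks : Commute k ss := mul_inv_eq_iff_eq_mul.mp ((e ss).trans hfS)
    obtain ⟨i, hi, rfl⟩ := centralizer_s hb k hks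
    rcases not_inner i hi with hne | hne
    · refine agree_false (let_app lets.1 (letCW i)) (let_app (letCW i) lets.1) hne ?_
      rw [ev_append, ev_append]
      exact mul_inv_eq_iff_eq_mul.mp ((e xx).trans hfX)
    · refine agree_false (let_app (letCW _) (letCW i)) (let_app (letCW i) (letCW _)) hne ?_
      rw [ev_append, ev_append]
      exact mul_inv_eq_iff_eq_mul.mp ((e _).trans hfC)

end

/-- The outer automorphism group of the presented O'Nan group has order two. -/
theorem card_out (hfin : Finite G) (hup : Nat.card G ≤ 460815505920) : Nat.card (Cfsg.Out G) = 2 :=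
  haveI := hfin
  card_out_of (based hup)

end Cfsg.Agent.ONOut41
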