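import Cfsg.Agent.Lib.ONOutData41

/-! Scans of a quarter of the points for the automorphisms of the presented O'Nan group. -/

set_option autoImplicit false
set_option maxRecDepth 100000
set_option Elab.async false

namespace Cfsg.Agent.ONOutScan41

open Cfsg.Agent.CosetCertTable Cfsg.Agent.ONPermData64 Cfsg.Agent.ONOutData41

theorem scan0_0 : allFrom scan 4096 0 = true := by decide +kernel

theorem scan0_1 : allFrom scan 4096 4096 = true := by decide +kernel

theorem scan0_2 : allFrom scan 4096 8192 = true := by decide +kernel

theorem scan0_3 : allFrom scan 4096 12288 = true := by decide +kernel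

theorem scan0_4 : allFrom scan 4096 16384 = true := by decide +kernel

theorem scan0_5 : allFrom scan 4096 20480 = true := by decide +kernel

theorem scan0_6 : allFrom scan 4096 24576 = true := by decide +kernel

theorem scan0_7 : allFrom scan 2048 28672 = true := by decide +kernel

end Cfsg.Agent.ONOutScan41
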