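import Cfsg.Agent.Lib.ONPermData64

/-! Part of the checks of the permutation table. -/

set_option autoImplicit false
set_option maxRecDepth 100000
set_option Elab.async false

namespace Cfsg.Agent.ONPermCheck64

open Cfsg.Agent.CosetCertTable Cfsg.Agent.ONPermData64

theorem part0 : allFrom ok 256 0 = true := by decide +kernel

theorem part1 : allFrom ok 256 256 = true := by decide +kernel

theorem part2 : allFrom ok 256 512 = true := by decide +kernel

theorem part3 : allFrom ok 256 768 = true := by decide +kernel

theorem part4 : allFrom ok 256 1024 = true := by decide +kernel

theorem part5 : allFrom ok 256 1280 = true := by decide +kernel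

theorem part6 : allFrom ok 256 1536 = true := by decide +kernel

theorem part7 : allFrom ok 256 1792 = true := by decide +kernel

theorem part8 : allFrom ok 256 2048 = true := by decide +kernel

theorem part9 : allFrom ok 256 2304 = true := by decide +kernel

theorem part10 : allFrom ok 256 2560 = true := by decide +kernel

theorem part11 : allFrom ok 256 2816 = true := by decide +kernel

theorem part12 : allFrom ok 256 3072 = true := by decide +kernel

theorem part13 : allFrom ok 256 3328 = true := by decide +kernel

theorem part14 : allFrom ok 256 3584 = true := by decide +kernel

theorem part15 : allFrom ok 256 3840 = true := by decide +kernel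

theorem part16 : allFrom ok 256 4096 = true := by decide +kernel

theorem part17 : allFrom ok 256 4352 = true := by decide +kernel

theorem part18 : allFrom ok 256 4608 = true := by decide +kernel

theorem part19 : allFrom ok 256 4864 = true := by decide +kernel

end Cfsg.Agent.ONPermCheck64
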