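import Cfsg.Agent.Lib.ONPermData64

/-! Part of the checks of the permutation table. -/

set_option autoImplicit false
set_option maxRecDepth 100000
set_option Elab.async false

namespace Cfsg.Agent.ONPermCheck64

open Cfsg.Agent.CosetCertTable Cfsg.Agent.ONPermData64

theorem part200 : allFrom ok 256 51200 = true := by decide +kernel

theorem part201 : allFrom ok 256 51456 = true := by decide +kernel

theorem part202 : allFrom ok 256 51712 = true := by decide +kernel

theorem part203 : allFrom ok 256 51968 = true := by decide +kernel

theorem part204 : allFrom ok 256 52224 = true := by decide +kernel

theorem part205 : allFrom ok 256 52480 = true := by decide +kernel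

theorem part206 : allFrom ok 256 52736 = true := by decide +kernel

theorem part207 : allFrom ok 256 52992 = true := by decide +kernel

theorem part208 : allFrom ok 256 53248 = true := by decide +kernel

theorem part209 : allFrom ok 256 53504 = true := by decide +kernel

theorem part210 : allFrom ok 256 53760 = true := by decide +kernel

theorem part211 : allFrom ok 256 54016 = true := by decide +kernel

theorem part212 : allFrom ok 256 54272 = true := by decide +kernel

theorem part213 : allFrom ok 256 54528 = true := by decide +kernel

theorem part214 : allFrom ok 256 54784 = true := by decide +kernel

theorem part215 : allFrom ok 256 55040 = true := by decide +kernel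

theorem part216 : allFrom ok 256 55296 = true := by decide +kernel

theorem part217 : allFrom ok 256 55552 = true := by decide +kernel

theorem part218 : allFrom ok 256 55808 = true := by decide +kernel

theorem part219 : allFrom ok 256 56064 = true := by decide +kernel

end Cfsg.Agent.ONPermCheck64
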