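import Cfsg.Agent.Lib.ONPermData64

/-! Part of the checks of the permutation table. -/

set_option autoImplicit false
set_option maxRecDepth 100000
set_option Elab.async false

namespace Cfsg.Agent.ONPermCheck64

open Cfsg.Agent.CosetCertTable Cfsg.Agent.ONPermData64

theorem part220 : allFrom ok 256 56320 = true := by decide +kernel

theorem part221 : allFrom ok 256 56576 = true := by decide +kernel

theorem part222 : allFrom ok 256 56832 = true := by decide +kernel

theorem part223 : allFrom ok 256 57088 = true := by decide +kernel

theorem part224 : allFrom ok 256 57344 = true := by decide +kernel

theorem part225 : allFrom ok 256 57600 = true := by decide +kernel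

theorem part226 : allFrom ok 256 57856 = true := by decide +kernel

theorem part227 : allFrom ok 256 58112 = true := by decide +kernel

theorem part228 : allFrom ok 256 58368 = true := by decide +kernel

theorem part229 : allFrom ok 256 58624 = true := by decide +kernel

theorem part230 : allFrom ok 256 58880 = true := by decide +kernel

theorem part231 : allFrom ok 256 59136 = true := by decide +kernel

theorem part232 : allFrom ok 256 59392 = true := by decide +kernel

theorem part233 : allFrom ok 256 59648 = true := by decide +kernel

theorem part234 : allFrom ok 256 59904 = true := by decide +kernel

theorem part235 : allFrom ok 256 60160 = true := by decide +kernel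

theorem part236 : allFrom ok 256 60416 = true := by decide +kernel

theorem part237 : allFrom ok 256 60672 = true := by decide +kernel

theorem part238 : allFrom ok 256 60928 = true := by decide +kernel

theorem part239 : allFrom ok 256 61184 = true := by decide +kernel

end Cfsg.Agent.ONPermCheck64
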