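import Cfsg.Agent.Lib.ONPermData64

/-! Part of the checks of the permutation table. -/

set_option autoImplicit false
set_option maxRecDepth 100000
set_option Elab.async false

namespace Cfsg.Agent.ONPermCheck64

open Cfsg.Agent.CosetCertTable Cfsg.Agent.ONPermData64

theorem part240 : allFrom ok 256 61440 = true := by decide +kernel

theorem part241 : allFrom ok 256 61696 = true := by decide +kernel

theorem part242 : allFrom ok 256 61952 = true := by decide +kernel

theorem part243 : allFrom ok 256 62208 = true := by decide +kernel

theorem part244 : allFrom ok 256 62464 = true := by decide +kernel

theorem part245 : allFrom ok 256 62720 = true := by decide +kernel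

theorem part246 : allFrom ok 256 62976 = true := by decide +kernel

theorem part247 : allFrom ok 256 63232 = true := by decide +kernel

theorem part248 : allFrom ok 256 63488 = true := by decide +kernel

theorem part249 : allFrom ok 256 63744 = true := by decide +kernel

theorem part250 : allFrom ok 256 64000 = true := by decide +kernel

theorem part251 : allFrom ok 256 64256 = true := by decide +kernel

theorem part252 : allFrom ok 256 64512 = true := by decide +kernel

theorem part253 : allFrom ok 256 64768 = true := by decide +kernel

theorem part254 : allFrom ok 256 65024 = true := by decide +kernel

theorem part255 : allFrom ok 256 65280 = true := by decide +kernel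

theorem part256 : allFrom ok 256 65536 = true := by decide +kernel

theorem part257 : allFrom ok 256 65792 = true := by decide +kernel

theorem part258 : allFrom ok 256 66048 = true := by decide +kernel

theorem part259 : allFrom ok 256 66304 = true := by decide +kernel

end Cfsg.Agent.ONPermCheck64
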