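import Cfsg.Agent.Lib.ONPermData64

/-! Part of the checks of the permutation table. -/

set_option autoImplicit false
set_option maxRecDepth 100000
set_option Elab.async false

namespace Cfsg.Agent.ONPermCheck64

open Cfsg.Agent.CosetCertTable Cfsg.Agent.ONPermData64

theorem part260 : allFrom ok 256 66560 = true := by decide +kernel

theorem part261 : allFrom ok 256 66816 = true := by decide +kernel

theorem part262 : allFrom ok 256 67072 = true := by decide +kernel

theorem part263 : allFrom ok 256 67328 = true := by decide +kernel

theorem part264 : allFrom ok 256 67584 = true := by decide +kernel

theorem part265 : allFrom ok 256 67840 = true := by decide +kernel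

theorem part266 : allFrom ok 256 68096 = true := by decide +kernel

theorem part267 : allFrom ok 256 68352 = true := by decide +kernel

theorem part268 : allFrom ok 256 68608 = true := by decide +kernel

theorem part269 : allFrom ok 256 68864 = true := by decide +kernel

theorem part270 : allFrom ok 256 69120 = true := by decide +kernel

theorem part271 : allFrom ok 256 69376 = true := by decide +kernel

theorem part272 : allFrom ok 256 69632 = true := by decide +kernel

theorem part273 : allFrom ok 256 69888 = true := by decide +kernel

theorem part274 : allFrom ok 256 70144 = true := by decide +kernel

theorem part275 : allFrom ok 256 70400 = true := by decide +kernel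

theorem part276 : allFrom ok 256 70656 = true := by decide +kernel

theorem part277 : allFrom ok 256 70912 = true := by decide +kernel

theorem part278 : allFrom ok 256 71168 = true := by decide +kernel

theorem part279 : allFrom ok 256 71424 = true := by decide +kernel

end Cfsg.Agent.ONPermCheck64
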