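import Cfsg.Agent.Lib.ONPermData64

/-! Part of the checks of the permutation table. -/

set_option autoImplicit false
set_option maxRecDepth 100000
set_option Elab.async false

namespace Cfsg.Agent.ONPermCheck64

open Cfsg.Agent.CosetCertTable Cfsg.Agent.ONPermData64

theorem part280 : allFrom ok 256 71680 = true := by decide +kernel

theorem part281 : allFrom ok 256 71936 = true := by decide +kernel

theorem part282 : allFrom ok 256 72192 = true := by decide +kernel

theorem part283 : allFrom ok 256 72448 = true := by decide +kernel

theorem part284 : allFrom ok 256 72704 = true := by decide +kernel

theorem part285 : allFrom ok 256 72960 = true := by decide +kernel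

theorem part286 : allFrom ok 256 73216 = true := by decide +kernel

theorem part287 : allFrom ok 256 73472 = true := by decide +kernel

theorem part288 : allFrom ok 256 73728 = true := by decide +kernel

theorem part289 : allFrom ok 256 73984 = true := by decide +kernel

theorem part290 : allFrom ok 256 74240 = true := by decide +kernel

theorem part291 : allFrom ok 256 74496 = true := by decide +kernel

theorem part292 : allFrom ok 256 74752 = true := by decide +kernel

theorem part293 : allFrom ok 256 75008 = true := by decide +kernel

theorem part294 : allFrom ok 256 75264 = true := by decide +kernel

theorem part295 : allFrom ok 256 75520 = true := by decide +kernel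

theorem part296 : allFrom ok 256 75776 = true := by decide +kernel

theorem part297 : allFrom ok 256 76032 = true := by decide +kernel

theorem part298 : allFrom ok 256 76288 = true := by decide +kernel

theorem part299 : allFrom ok 256 76544 = true := by decide +kernel

end Cfsg.Agent.ONPermCheck64
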