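import Cfsg.Agent.Lib.ONPermData64

/-! Part of the checks of the permutation table. -/

set_option autoImplicit false
set_option maxRecDepth 100000
set_option Elab.async false

namespace Cfsg.Agent.ONPermCheck64

open Cfsg.Agent.CosetCertTable Cfsg.Agent.ONPermData64

theorem part300 : allFrom ok 256 76800 = true := by decide +kernel

theorem part301 : allFrom ok 256 77056 = true := by decide +kernel

theorem part302 : allFrom ok 256 77312 = true := by decide +kernel

theorem part303 : allFrom ok 256 77568 = true := by decide +kernel

theorem part304 : allFrom ok 256 77824 = true := by decide +kernel

theorem part305 : allFrom ok 256 78080 = true := by decide +kernel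

theorem part306 : allFrom ok 256 78336 = true := by decide +kernel

theorem part307 : allFrom ok 256 78592 = true := by decide +kernel

theorem part308 : allFrom ok 256 78848 = true := by decide +kernel

theorem part309 : allFrom ok 256 79104 = true := by decide +kernel

theorem part310 : allFrom ok 256 79360 = true := by decide +kernel

theorem part311 : allFrom ok 256 79616 = true := by decide +kernel

theorem part312 : allFrom ok 256 79872 = true := by decide +kernel

theorem part313 : allFrom ok 256 80128 = true := by decide +kernel

theorem part314 : allFrom ok 256 80384 = true := by decide +kernel

theorem part315 : allFrom ok 256 80640 = true := by decide +kernel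

theorem part316 : allFrom ok 256 80896 = true := by decide +kernel

theorem part317 : allFrom ok 256 81152 = true := by decide +kernel

theorem part318 : allFrom ok 256 81408 = true := by decide +kernel

theorem part319 : allFrom ok 256 81664 = true := by decide +kernel

end Cfsg.Agent.ONPermCheck64
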