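import Cfsg.Agent.Lib.ONPermData64

/-! Part of the checks of the permutation table. -/

set_option autoImplicit false
set_option maxRecDepth 100000
set_option Elab.async false

namespace Cfsg.Agent.ONPermCheck64

open Cfsg.Agent.CosetCertTable Cfsg.Agent.ONPermData64

theorem part320 : allFrom ok 256 81920 = true := by decide +kernel

theorem part321 : allFrom ok 256 82176 = true := by decide +kernel

theorem part322 : allFrom ok 256 82432 = true := by decide +kernel

theorem part323 : allFrom ok 256 82688 = true := by decide +kernel

theorem part324 : allFrom ok 256 82944 = true := by decide +kernel

theorem part325 : allFrom ok 256 83200 = true := by decide +kernel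

theorem part326 : allFrom ok 256 83456 = true := by decide +kernel

theorem part327 : allFrom ok 256 83712 = true := by decide +kernel

theorem part328 : allFrom ok 256 83968 = true := by decide +kernel

theorem part329 : allFrom ok 256 84224 = true := by decide +kernel

theorem part330 : allFrom ok 256 84480 = true := by decide +kernel

theorem part331 : allFrom ok 256 84736 = true := by decide +kernel

theorem part332 : allFrom ok 256 84992 = true := by decide +kernel

theorem part333 : allFrom ok 256 85248 = true := by decide +kernel

theorem part334 : allFrom ok 256 85504 = true := by decide +kernel

theorem part335 : allFrom ok 256 85760 = true := by decide +kernel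

theorem part336 : allFrom ok 256 86016 = true := by decide +kernel

theorem part337 : allFrom ok 256 86272 = true := by decide +kernel

theorem part338 : allFrom ok 256 86528 = true := by decide +kernel

theorem part339 : allFrom ok 256 86784 = true := by decide +kernel

end Cfsg.Agent.ONPermCheck64
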