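import Cfsg.Agent.Lib.ONPermData64

/-! Part of the checks of the permutation table. -/

set_option autoImplicit false
set_option maxRecDepth 100000
set_option Elab.async false

namespace Cfsg.Agent.ONPermCheck64

open Cfsg.Agent.CosetCertTable Cfsg.Agent.ONPermData64

theorem part340 : allFrom ok 256 87040 = true := by decide +kernel

theorem part341 : allFrom ok 256 87296 = true := by decide +kernel

theorem part342 : allFrom ok 256 87552 = true := by decide +kernel

theorem part343 : allFrom ok 256 87808 = true := by decide +kernel

theorem part344 : allFrom ok 256 88064 = true := by decide +kernel

theorem part345 : allFrom ok 256 88320 = true := by decide +kernel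

theorem part346 : allFrom ok 256 88576 = true := by decide +kernel

theorem part347 : allFrom ok 256 88832 = true := by decide +kernel

theorem part348 : allFrom ok 256 89088 = true := by decide +kernel

theorem part349 : allFrom ok 256 89344 = true := by decide +kernel

theorem part350 : allFrom ok 256 89600 = true := by decide +kernel

theorem part351 : allFrom ok 256 89856 = true := by decide +kernel

theorem part352 : allFrom ok 256 90112 = true := by decide +kernel

theorem part353 : allFrom ok 256 90368 = true := by decide +kernel

theorem part354 : allFrom ok 256 90624 = true := by decide +kernel

theorem part355 : allFrom ok 256 90880 = true := by decide +kernel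

theorem part356 : allFrom ok 256 91136 = true := by decide +kernel

theorem part357 : allFrom ok 256 91392 = true := by decide +kernel

theorem part358 : allFrom ok 256 91648 = true := by decide +kernel

theorem part359 : allFrom ok 256 91904 = true := by decide +kernel

end Cfsg.Agent.ONPermCheck64
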