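import Cfsg.Agent.Lib.ONPermData64

/-! Part of the checks of the permutation table. -/

set_option autoImplicit false
set_option maxRecDepth 100000
set_option Elab.async false

namespace Cfsg.Agent.ONPermCheck64

open Cfsg.Agent.CosetCertTable Cfsg.Agent.ONPermData64

theorem part360 : allFrom ok 256 92160 = true := by decide +kernel

theorem part361 : allFrom ok 256 92416 = true := by decide +kernel

theorem part362 : allFrom ok 256 92672 = true := by decide +kernel

theorem part363 : allFrom ok 256 92928 = true := by decide +kernel

theorem part364 : allFrom ok 256 93184 = true := by decide +kernel

theorem part365 : allFrom ok 256 93440 = true := by decide +kernel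

theorem part366 : allFrom ok 256 93696 = true := by decide +kernel

theorem part367 : allFrom ok 256 93952 = true := by decide +kernel

theorem part368 : allFrom ok 256 94208 = true := by decide +kernel

theorem part369 : allFrom ok 256 94464 = true := by decide +kernel

theorem part370 : allFrom ok 256 94720 = true := by decide +kernel

theorem part371 : allFrom ok 256 94976 = true := by decide +kernel

theorem part372 : allFrom ok 256 95232 = true := by decide +kernel

theorem part373 : allFrom ok 256 95488 = true := by decide +kernel

theorem part374 : allFrom ok 256 95744 = true := by decide +kernel

theorem part375 : allFrom ok 256 96000 = true := by decide +kernel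

theorem part376 : allFrom ok 256 96256 = true := by decide +kernel

theorem part377 : allFrom ok 256 96512 = true := by decide +kernel

theorem part378 : allFrom ok 256 96768 = true := by decide +kernel

theorem part379 : allFrom ok 256 97024 = true := by decide +kernel

end Cfsg.Agent.ONPermCheck64
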