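import Cfsg.Agent.Lib.ONPermData64

/-! Part of the checks of the permutation table. -/

set_option autoImplicit false
set_option maxRecDepth 100000
set_option Elab.async false

namespace Cfsg.Agent.ONPermCheck64

open Cfsg.Agent.CosetCertTable Cfsg.Agent.ONPermData64

theorem part380 : allFrom ok 256 97280 = true := by decide +kernel

theorem part381 : allFrom ok 256 97536 = true := by decide +kernel

theorem part382 : allFrom ok 256 97792 = true := by decide +kernel

theorem part383 : allFrom ok 256 98048 = true := by decide +kernel

theorem part384 : allFrom ok 256 98304 = true := by decide +kernel

theorem part385 : allFrom ok 256 98560 = true := by decide +kernel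

theorem part386 : allFrom ok 256 98816 = true := by decide +kernel

theorem part387 : allFrom ok 256 99072 = true := by decide +kernel

theorem part388 : allFrom ok 256 99328 = true := by decide +kernel

theorem part389 : allFrom ok 256 99584 = true := by decide +kernel

theorem part390 : allFrom ok 256 99840 = true := by decide +kernel

theorem part391 : allFrom ok 256 100096 = true := by decide +kernel

theorem part392 : allFrom ok 256 100352 = true := by decide +kernel

theorem part393 : allFrom ok 256 100608 = true := by decide +kernel

theorem part394 : allFrom ok 256 100864 = true := by decide +kernel

theorem part395 : allFrom ok 256 101120 = true := by decide +kernel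

theorem part396 : allFrom ok 256 101376 = true := by decide +kernel

theorem part397 : allFrom ok 256 101632 = true := by decide +kernel

theorem part398 : allFrom ok 256 101888 = true := by decide +kernel

theorem part399 : allFrom ok 256 102144 = true := by decide +kernel

end Cfsg.Agent.ONPermCheck64
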