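import Cfsg.Agent.Lib.ONPermData64

/-! Part of the checks of the permutation table. -/

set_option autoImplicit false
set_option maxRecDepth 100000
set_option Elab.async false

namespace Cfsg.Agent.ONPermCheck64

open Cfsg.Agent.CosetCertTable Cfsg.Agent.ONPermData64

theorem part20 : allFrom ok 256 5120 = true := by decide +kernel

theorem part21 : allFrom ok 256 5376 = true := by decide +kernel

theorem part22 : allFrom ok 256 5632 = true := by decide +kernel

theorem part23 : allFrom ok 256 5888 = true := by decide +kernel

theorem part24 : allFrom ok 256 6144 = true := by decide +kernel

theorem part25 : allFrom ok 256 6400 = true := by decide +kernel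

theorem part26 : allFrom ok 256 6656 = true := by decide +kernel

theorem part27 : allFrom ok 256 6912 = true := by decide +kernel

theorem part28 : allFrom ok 256 7168 = true := by decide +kernel

theorem part29 : allFrom ok 256 7424 = true := by decide +kernel

theorem part30 : allFrom ok 256 7680 = true := by decide +kernel

theorem part31 : allFrom ok 256 7936 = true := by decide +kernel

theorem part32 : allFrom ok 256 8192 = true := by decide +kernel

theorem part33 : allFrom ok 256 8448 = true := by decide +kernel

theorem part34 : allFrom ok 256 8704 = true := by decide +kernel

theorem part35 : allFrom ok 256 8960 = true := by decide +kernel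

theorem part36 : allFrom ok 256 9216 = true := by decide +kernel

theorem part37 : allFrom ok 256 9472 = true := by decide +kernel

theorem part38 : allFrom ok 256 9728 = true := by decide +kernel

theorem part39 : allFrom ok 256 9984 = true := by decide +kernel

end Cfsg.Agent.ONPermCheck64
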