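import Cfsg.Agent.Lib.ONPermData64

/-! Part of the checks of the permutation table. -/

set_option autoImplicit false
set_option maxRecDepth 100000
set_option Elab.async false

namespace Cfsg.Agent.ONPermCheck64

open Cfsg.Agent.CosetCertTable Cfsg.Agent.ONPermData64

theorem part400 : allFrom ok 256 102400 = true := by decide +kernel

theorem part401 : allFrom ok 256 102656 = true := by decide +kernel

theorem part402 : allFrom ok 256 102912 = true := by decide +kernel

theorem part403 : allFrom ok 256 103168 = true := by decide +kernel

theorem part404 : allFrom ok 256 103424 = true := by decide +kernel

theorem part405 : allFrom ok 256 103680 = true := by decide +kernel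

theorem part406 : allFrom ok 256 103936 = true := by decide +kernel

theorem part407 : allFrom ok 256 104192 = true := by decide +kernel

theorem part408 : allFrom ok 256 104448 = true := by decide +kernel

theorem part409 : allFrom ok 256 104704 = true := by decide +kernel

theorem part410 : allFrom ok 256 104960 = true := by decide +kernel

theorem part411 : allFrom ok 256 105216 = true := by decide +kernel

theorem part412 : allFrom ok 256 105472 = true := by decide +kernel

theorem part413 : allFrom ok 256 105728 = true := by decide +kernel

theorem part414 : allFrom ok 256 105984 = true := by decide +kernel

theorem part415 : allFrom ok 256 106240 = true := by decide +kernel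

theorem part416 : allFrom ok 256 106496 = true := by decide +kernel

theorem part417 : allFrom ok 256 106752 = true := by decide +kernel

theorem part418 : allFrom ok 256 107008 = true := by decide +kernel

theorem part419 : allFrom ok 256 107264 = true := by decide +kernel

end Cfsg.Agent.ONPermCheck64
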