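import Cfsg.Agent.Lib.ONPermData64

/-! Part of the checks of the permutation table. -/

set_option autoImplicit false
set_option maxRecDepth 100000
set_option Elab.async false

namespace Cfsg.Agent.ONPermCheck64

open Cfsg.Agent.CosetCertTable Cfsg.Agent.ONPermData64

theorem part420 : allFrom ok 256 107520 = true := by decide +kernel

theorem part421 : allFrom ok 256 107776 = true := by decide +kernel

theorem part422 : allFrom ok 256 108032 = true := by decide +kernel

theorem part423 : allFrom ok 256 108288 = true := by decide +kernel

theorem part424 : allFrom ok 256 108544 = true := by decide +kernel

theorem part425 : allFrom ok 256 108800 = true := by decide +kernel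

theorem part426 : allFrom ok 256 109056 = true := by decide +kernel

theorem part427 : allFrom ok 256 109312 = true := by decide +kernel

theorem part428 : allFrom ok 256 109568 = true := by decide +kernel

theorem part429 : allFrom ok 256 109824 = true := by decide +kernel

theorem part430 : allFrom ok 256 110080 = true := by decide +kernel

theorem part431 : allFrom ok 256 110336 = true := by decide +kernel

theorem part432 : allFrom ok 256 110592 = true := by decide +kernel

theorem part433 : allFrom ok 256 110848 = true := by decide +kernel

theorem part434 : allFrom ok 256 111104 = true := by decide +kernel

theorem part435 : allFrom ok 256 111360 = true := by decide +kernel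

theorem part436 : allFrom ok 256 111616 = true := by decide +kernel

theorem part437 : allFrom ok 256 111872 = true := by decide +kernel

theorem part438 : allFrom ok 256 112128 = true := by decide +kernel

theorem part439 : allFrom ok 256 112384 = true := by decide +kernel

end Cfsg.Agent.ONPermCheck64
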