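import Cfsg.Agent.Lib.ONPermData64

/-! Part of the checks of the permutation table. -/

set_option autoImplicit false
set_option maxRecDepth 100000
set_option Elab.async false

namespace Cfsg.Agent.ONPermCheck64

open Cfsg.Agent.CosetCertTable Cfsg.Agent.ONPermData64

theorem part440 : allFrom ok 256 112640 = true := by decide +kernel

theorem part441 : allFrom ok 256 112896 = true := by decide +kernel

theorem part442 : allFrom ok 256 113152 = true := by decide +kernel

theorem part443 : allFrom ok 256 113408 = true := by decide +kernel

theorem part444 : allFrom ok 256 113664 = true := by decide +kernel

theorem part445 : allFrom ok 256 113920 = true := by decide +kernel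

theorem part446 : allFrom ok 256 114176 = true := by decide +kernel

theorem part447 : allFrom ok 256 114432 = true := by decide +kernel

theorem part448 : allFrom ok 256 114688 = true := by decide +kernel

theorem part449 : allFrom ok 256 114944 = true := by decide +kernel

theorem part450 : allFrom ok 256 115200 = true := by decide +kernel

theorem part451 : allFrom ok 256 115456 = true := by decide +kernel

theorem part452 : allFrom ok 256 115712 = true := by decide +kernel

theorem part453 : allFrom ok 256 115968 = true := by decide +kernel

theorem part454 : allFrom ok 256 116224 = true := by decide +kernel

theorem part455 : allFrom ok 256 116480 = true := by decide +kernel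

theorem part456 : allFrom ok 256 116736 = true := by decide +kernel

theorem part457 : allFrom ok 256 116992 = true := by decide +kernel

theorem part458 : allFrom ok 256 117248 = true := by decide +kernel

theorem part459 : allFrom ok 256 117504 = true := by decide +kernel

end Cfsg.Agent.ONPermCheck64
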