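import Cfsg.Agent.Lib.ONPermData64

/-! Part of the checks of the permutation table. -/

set_option autoImplicit false
set_option maxRecDepth 100000
set_option Elab.async false

namespace Cfsg.Agent.ONPermCheck64

open Cfsg.Agent.CosetCertTable Cfsg.Agent.ONPermData64

theorem part460 : allFrom ok 256 117760 = true := by decide +kernel

theorem part461 : allFrom ok 256 118016 = true := by decide +kernel

theorem part462 : allFrom ok 256 118272 = true := by decide +kernel

theorem part463 : allFrom ok 256 118528 = true := by decide +kernel

theorem part464 : allFrom ok 256 118784 = true := by decide +kernel

theorem part465 : allFrom ok 256 119040 = true := by decide +kernel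

theorem part466 : allFrom ok 256 119296 = true := by decide +kernel

theorem part467 : allFrom ok 256 119552 = true := by decide +kernel

theorem part468 : allFrom ok 256 119808 = true := by decide +kernel

theorem part469 : allFrom ok 256 120064 = true := by decide +kernel

theorem part470 : allFrom ok 256 120320 = true := by decide +kernel

theorem part471 : allFrom ok 256 120576 = true := by decide +kernel

theorem part472 : allFrom ok 256 120832 = true := by decide +kernel

theorem part473 : allFrom ok 256 121088 = true := by decide +kernel

theorem part474 : allFrom ok 256 121344 = true := by decide +kernel

theorem part475 : allFrom ok 256 121600 = true := by decide +kernel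

theorem part476 : allFrom ok 256 121856 = true := by decide +kernel

theorem part477 : allFrom ok 256 122112 = true := by decide +kernel

theorem part478 : allFrom ok 256 122368 = true := by decide +kernel

theorem part479 : allFrom ok 136 122624 = true := by decide +kernel

end Cfsg.Agent.ONPermCheck64
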