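import Cfsg.Agent.Lib.ONPermData64

/-! Part of the checks of the permutation table. -/

set_option autoImplicit false
set_option maxRecDepth 100000
set_option Elab.async false

namespace Cfsg.Agent.ONPermCheck64

open Cfsg.Agent.CosetCertTable Cfsg.Agent.ONPermData64

theorem part40 : allFrom ok 256 10240 = true := by decide +kernel

theorem part41 : allFrom ok 256 10496 = true := by decide +kernel

theorem part42 : allFrom ok 256 10752 = true := by decide +kernel

theorem part43 : allFrom ok 256 11008 = true := by decide +kernel

theorem part44 : allFrom ok 256 11264 = true := by decide +kernel

theorem part45 : allFrom ok 256 11520 = true := by decide +kernel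

theorem part46 : allFrom ok 256 11776 = true := by decide +kernel

theorem part47 : allFrom ok 256 12032 = true := by decide +kernel

theorem part48 : allFrom ok 256 12288 = true := by decide +kernel

theorem part49 : allFrom ok 256 12544 = true := by decide +kernel

theorem part50 : allFrom ok 256 12800 = true := by decide +kernel

theorem part51 : allFrom ok 256 13056 = true := by decide +kernel

theorem part52 : allFrom ok 256 13312 = true := by decide +kernel

theorem part53 : allFrom ok 256 13568 = true := by decide +kernel

theorem part54 : allFrom ok 256 13824 = true := by decide +kernel

theorem part55 : allFrom ok 256 14080 = true := by decide +kernel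

theorem part56 : allFrom ok 256 14336 = true := by decide +kernel

theorem part57 : allFrom ok 256 14592 = true := by decide +kernel

theorem part58 : allFrom ok 256 14848 = true := by decide +kernel

theorem part59 : allFrom ok 256 15104 = true := by decide +kernel

end Cfsg.Agent.ONPermCheck64
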