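import Cfsg.Agent.Lib.ONPermData64

/-! Part of the checks of the permutation table. -/

set_option autoImplicit false
set_option maxRecDepth 100000
set_option Elab.async false

namespace Cfsg.Agent.ONPermCheck64

open Cfsg.Agent.CosetCertTable Cfsg.Agent.ONPermData64

theorem part60 : allFrom ok 256 15360 = true := by decide +kernel

theorem part61 : allFrom ok 256 15616 = true := by decide +kernel

theorem part62 : allFrom ok 256 15872 = true := by decide +kernel

theorem part63 : allFrom ok 256 16128 = true := by decide +kernel

theorem part64 : allFrom ok 256 16384 = true := by decide +kernel

theorem part65 : allFrom ok 256 16640 = true := by decide +kernel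

theorem part66 : allFrom ok 256 16896 = true := by decide +kernel

theorem part67 : allFrom ok 256 17152 = true := by decide +kernel

theorem part68 : allFrom ok 256 17408 = true := by decide +kernel

theorem part69 : allFrom ok 256 17664 = true := by decide +kernel

theorem part70 : allFrom ok 256 17920 = true := by decide +kernel

theorem part71 : allFrom ok 256 18176 = true := by decide +kernel

theorem part72 : allFrom ok 256 18432 = true := by decide +kernel

theorem part73 : allFrom ok 256 18688 = true := by decide +kernel

theorem part74 : allFrom ok 256 18944 = true := by decide +kernel

theorem part75 : allFrom ok 256 19200 = true := by decide +kernel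

theorem part76 : allFrom ok 256 19456 = true := by decide +kernel

theorem part77 : allFrom ok 256 19712 = true := by decide +kernel

theorem part78 : allFrom ok 256 19968 = true := by decide +kernel

theorem part79 : allFrom ok 256 20224 = true := by decide +kernel

end Cfsg.Agent.ONPermCheck64
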