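import Cfsg.Agent.Lib.ONPermData64

/-! Part of the checks of the permutation table. -/

set_option autoImplicit false
set_option maxRecDepth 100000
set_option Elab.async false

namespace Cfsg.Agent.ONPermCheck64

open Cfsg.Agent.CosetCertTable Cfsg.Agent.ONPermData64

theorem part80 : allFrom ok 256 20480 = true := by decide +kernel

theorem part81 : allFrom ok 256 20736 = true := by decide +kernel

theorem part82 : allFrom ok 256 20992 = true := by decide +kernel

theorem part83 : allFrom ok 256 21248 = true := by decide +kernel

theorem part84 : allFrom ok 256 21504 = true := by decide +kernel

theorem part85 : allFrom ok 256 21760 = true := by decide +kernel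

theorem part86 : allFrom ok 256 22016 = true := by decide +kernel

theorem part87 : allFrom ok 256 22272 = true := by decide +kernel

theorem part88 : allFrom ok 256 22528 = true := by decide +kernel

theorem part89 : allFrom ok 256 22784 = true := by decide +kernel

theorem part90 : allFrom ok 256 23040 = true := by decide +kernel

theorem part91 : allFrom ok 256 23296 = true := by decide +kernel

theorem part92 : allFrom ok 256 23552 = true := by decide +kernel

theorem part93 : allFrom ok 256 23808 = true := by decide +kernel

theorem part94 : allFrom ok 256 24064 = true := by decide +kernel

theorem part95 : allFrom ok 256 24320 = true := by decide +kernel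

theorem part96 : allFrom ok 256 24576 = true := by decide +kernel

theorem part97 : allFrom ok 256 24832 = true := by decide +kernel

theorem part98 : allFrom ok 256 25088 = true := by decide +kernel

theorem part99 : allFrom ok 256 25344 = true := by decide +kernel

end Cfsg.Agent.ONPermCheck64
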