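import Cfsg.Agent.Lib.ONPermData64

/-! Part of the checks of the permutation table. -/

set_option autoImplicit false
set_option maxRecDepth 100000
set_option Elab.async false

namespace Cfsg.Agent.ONPermCheck64

open Cfsg.Agent.CosetCertTable Cfsg.Agent.ONPermData64

theorem part100 : allFrom ok 256 25600 = true := by decide +kernel

theorem part101 : allFrom ok 256 25856 = true := by decide +kernel

theorem part102 : allFrom ok 256 26112 = true := by decide +kernel

theorem part103 : allFrom ok 256 26368 = true := by decide +kernel

theorem part104 : allFrom ok 256 26624 = true := by decide +kernel

theorem part105 : allFrom ok 256 26880 = true := by decide +kernel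

theorem part106 : allFrom ok 256 27136 = true := by decide +kernel

theorem part107 : allFrom ok 256 27392 = true := by decide +kernel

theorem part108 : allFrom ok 256 27648 = true := by decide +kernel

theorem part109 : allFrom ok 256 27904 = true := by decide +kernel

theorem part110 : allFrom ok 256 28160 = true := by decide +kernel

theorem part111 : allFrom ok 256 28416 = true := by decide +kernel

theorem part112 : allFrom ok 256 28672 = true := by decide +kernel

theorem part113 : allFrom ok 256 28928 = true := by decide +kernel

theorem part114 : allFrom ok 256 29184 = true := by decide +kernel

theorem part115 : allFrom ok 256 29440 = true := by decide +kernel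

theorem part116 : allFrom ok 256 29696 = true := by decide +kernel

theorem part117 : allFrom ok 256 29952 = true := by decide +kernel

theorem part118 : allFrom ok 256 30208 = true := by decide +kernel

theorem part119 : allFrom ok 256 30464 = true := by decide +kernel

end Cfsg.Agent.ONPermCheck64
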