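import Cfsg.Agent.Lib.ONPermData64

/-! Part of the checks of the permutation table. -/

set_option autoImplicit false
set_option maxRecDepth 100000
set_option Elab.async false

namespace Cfsg.Agent.ONPermCheck64

open Cfsg.Agent.CosetCertTable Cfsg.Agent.ONPermData64

theorem part120 : allFrom ok 256 30720 = true := by decide +kernel

theorem part121 : allFrom ok 256 30976 = true := by decide +kernel

theorem part122 : allFrom ok 256 31232 = true := by decide +kernel

theorem part123 : allFrom ok 256 31488 = true := by decide +kernel

theorem part124 : allFrom ok 256 31744 = true := by decide +kernel

theorem part125 : allFrom ok 256 32000 = true := by decide +kernel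

theorem part126 : allFrom ok 256 32256 = true := by decide +kernel

theorem part127 : allFrom ok 256 32512 = true := by decide +kernel

theorem part128 : allFrom ok 256 32768 = true := by decide +kernel

theorem part129 : allFrom ok 256 33024 = true := by decide +kernel

theorem part130 : allFrom ok 256 33280 = true := by decide +kernel

theorem part131 : allFrom ok 256 33536 = true := by decide +kernel

theorem part132 : allFrom ok 256 33792 = true := by decide +kernel

theorem part133 : allFrom ok 256 34048 = true := by decide +kernel

theorem part134 : allFrom ok 256 34304 = true := by decide +kernel

theorem part135 : allFrom ok 256 34560 = true := by decide +kernel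

theorem part136 : allFrom ok 256 34816 = true := by decide +kernel

theorem part137 : allFrom ok 256 35072 = true := by decide +kernel

theorem part138 : allFrom ok 256 35328 = true := by decide +kernel

theorem part139 : allFrom ok 256 35584 = true := by decide +kernel

end Cfsg.Agent.ONPermCheck64
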