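import Cfsg.Agent.Lib.ONPermData64

/-! Part of the checks of the permutation table. -/

set_option autoImplicit false
set_option maxRecDepth 100000
set_option Elab.async false

namespace Cfsg.Agent.ONPermCheck64

open Cfsg.Agent.CosetCertTable Cfsg.Agent.ONPermData64

theorem part140 : allFrom ok 256 35840 = true := by decide +kernel

theorem part141 : allFrom ok 256 36096 = true := by decide +kernel

theorem part142 : allFrom ok 256 36352 = true := by decide +kernel

theorem part143 : allFrom ok 256 36608 = true := by decide +kernel

theorem part144 : allFrom ok 256 36864 = true := by decide +kernel

theorem part145 : allFrom ok 256 37120 = true := by decide +kernel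

theorem part146 : allFrom ok 256 37376 = true := by decide +kernel

theorem part147 : allFrom ok 256 37632 = true := by decide +kernel

theorem part148 : allFrom ok 256 37888 = true := by decide +kernel

theorem part149 : allFrom ok 256 38144 = true := by decide +kernel

theorem part150 : allFrom ok 256 38400 = true := by decide +kernel

theorem part151 : allFrom ok 256 38656 = true := by decide +kernel

theorem part152 : allFrom ok 256 38912 = true := by decide +kernel

theorem part153 : allFrom ok 256 39168 = true := by decide +kernel

theorem part154 : allFrom ok 256 39424 = true := by decide +kernel

theorem part155 : allFrom ok 256 39680 = true := by decide +kernel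

theorem part156 : allFrom ok 256 39936 = true := by decide +kernel

theorem part157 : allFrom ok 256 40192 = true := by decide +kernel

theorem part158 : allFrom ok 256 40448 = true := by decide +kernel

theorem part159 : allFrom ok 256 40704 = true := by decide +kernel

end Cfsg.Agent.ONPermCheck64
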