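import Cfsg.Agent.Lib.ONPermData64

/-! Part of the checks of the permutation table. -/

set_option autoImplicit false
set_option maxRecDepth 100000
set_option Elab.async false

namespace Cfsg.Agent.ONPermCheck64

open Cfsg.Agent.CosetCertTable Cfsg.Agent.ONPermData64

theorem part160 : allFrom ok 256 40960 = true := by decide +kernel

theorem part161 : allFrom ok 256 41216 = true := by decide +kernel

theorem part162 : allFrom ok 256 41472 = true := by decide +kernel

theorem part163 : allFrom ok 256 41728 = true := by decide +kernel

theorem part164 : allFrom ok 256 41984 = true := by decide +kernel

theorem part165 : allFrom ok 256 42240 = true := by decide +kernel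

theorem part166 : allFrom ok 256 42496 = true := by decide +kernel

theorem part167 : allFrom ok 256 42752 = true := by decide +kernel

theorem part168 : allFrom ok 256 43008 = true := by decide +kernel

theorem part169 : allFrom ok 256 43264 = true := by decide +kernel

theorem part170 : allFrom ok 256 43520 = true := by decide +kernel

theorem part171 : allFrom ok 256 43776 = true := by decide +kernel

theorem part172 : allFrom ok 256 44032 = true := by decide +kernel

theorem part173 : allFrom ok 256 44288 = true := by decide +kernel

theorem part174 : allFrom ok 256 44544 = true := by decide +kernel

theorem part175 : allFrom ok 256 44800 = true := by decide +kernel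

theorem part176 : allFrom ok 256 45056 = true := by decide +kernel

theorem part177 : allFrom ok 256 45312 = true := by decide +kernel

theorem part178 : allFrom ok 256 45568 = true := by decide +kernel

theorem part179 : allFrom ok 256 45824 = true := by decide +kernel

end Cfsg.Agent.ONPermCheck64
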