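import Cfsg.Agent.Lib.ONPermData64

/-! Part of the checks of the permutation table. -/

set_option autoImplicit false
set_option maxRecDepth 100000
set_option Elab.async false

namespace Cfsg.Agent.ONPermCheck64

open Cfsg.Agent.CosetCertTable Cfsg.Agent.ONPermData64

theorem part180 : allFrom ok 256 46080 = true := by decide +kernel

theorem part181 : allFrom ok 256 46336 = true := by decide +kernel

theorem part182 : allFrom ok 256 46592 = true := by decide +kernel

theorem part183 : allFrom ok 256 46848 = true := by decide +kernel

theorem part184 : allFrom ok 256 47104 = true := by decide +kernel

theorem part185 : allFrom ok 256 47360 = true := by decide +kernel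

theorem part186 : allFrom ok 256 47616 = true := by decide +kernel

theorem part187 : allFrom ok 256 47872 = true := by decide +kernel

theorem part188 : allFrom ok 256 48128 = true := by decide +kernel

theorem part189 : allFrom ok 256 48384 = true := by decide +kernel

theorem part190 : allFrom ok 256 48640 = true := by decide +kernel

theorem part191 : allFrom ok 256 48896 = true := by decide +kernel

theorem part192 : allFrom ok 256 49152 = true := by decide +kernel

theorem part193 : allFrom ok 256 49408 = true := by decide +kernel

theorem part194 : allFrom ok 256 49664 = true := by decide +kernel

theorem part195 : allFrom ok 256 49920 = true := by decide +kernel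

theorem part196 : allFrom ok 256 50176 = true := by decide +kernel

theorem part197 : allFrom ok 256 50432 = true := by decide +kernel

theorem part198 : allFrom ok 256 50688 = true := by decide +kernel

theorem part199 : allFrom ok 256 50944 = true := by decide +kernel

end Cfsg.Agent.ONPermCheck64
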