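import Cfsg.Agent.Lib.ONPermCheck0_64
import Cfsg.Agent.Lib.ONPermCheck1_64
import Cfsg.Agent.Lib.ONPermCheck2_64
import Cfsg.Agent.Lib.ONPermCheck3_64
import Cfsg.Agent.Lib.ONPermCheck4_64
import Cfsg.Agent.Lib.ONPermCheck5_64
import Cfsg.Agent.Lib.ONPermCheck6_64
import Cfsg.Agent.Lib.ONPermCheck7_64
import Cfsg.Agent.Lib.ONPermCheck8_64
import Cfsg.Agent.Lib.ONPermCheck9_64
import Cfsg.Agent.Lib.ONPermCheck10_64
import Cfsg.Agent.Lib.ONPermCheck11_64
import Cfsg.Agent.Lib.ONPermCheck12_64
import Cfsg.Agent.Lib.ONPermCheck13_64
import Cfsg.Agent.Lib.ONPermCheck14_64
import Cfsg.Agent.Lib.ONPermCheck15_64
import Cfsg.Agent.Lib.ONPermCheck16_64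
import Cfsg.Agent.Lib.ONPermCheck17_64
import Cfsg.Agent.Lib.ONPermCheck18_64
import Cfsg.Agent.Lib.ONPermCheck19_64
import Cfsg.Agent.Lib.ONPermCheck20_64
import Cfsg.Agent.Lib.ONPermCheck21_64
import Cfsg.Agent.Lib.ONPermCheck22_64
import Cfsg.Agent.Lib.ONPermCheck23_64

/-! The permutation table passes its checks. -/

set_option autoImplicit false

namespace Cfsg.Agent.ONPermCheck64

open Cfsg.Agent.CosetCertTable Cfsg.Agent.ONPermData64

theorem upto0 : AllBelow ok 0 := AllBelow.zero _

theorem upto1 : AllBelow ok 256 := upto0.step 256 part0

theorem upto2 : AllBelow ok 512 := upto1.step 256 part1

theorem upto3 : AllBelow ok 768 := upto2.step 256 part2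

theorem upto4 : AllBelow ok 1024 := upto3.step 256 part3

theorem upto5 : AllBelow ok 1280 := upto4.step 256 part4

theorem upto6 : AllBelow ok 1536 := upto5.step 256 part5

theorem upto7 : AllBelow ok 1792 := upto6.step 256 part6

theorem upto8 : AllBelow ok 2048 := upto7.step 256 part7

theorem upto9 : AllBelow ok 2304 := upto8.step 256 part8

theorem upto10 : AllBelow ok 2560 := upto9.step 256 part9

theorem upto11 : AllBelow ok 2816 := upto10.step 256 part10

theorem upto12 : AllBelow ok 3072 := upto11.step 256 part11

theorem upto13 : AllBelow ok 3328 := upto12.step 256 part12

theorem upto14 : AllBelow ok 3584 := upto13.step 256 part13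

theorem upto15 : AllBelow ok 3840 := upto14.step 256 part14

theorem upto16 : AllBelow ok 4096 := upto15.step 256 part15

theorem upto17 : AllBelow ok 4352 := upto16.step 256 part16

theorem upto18 : AllBelow ok 4608 := upto17.step 256 part17

theorem upto19 : AllBelow ok 4864 := upto18.step 256 part18

theorem upto20 : AllBelow ok 5120 := upto19.step 256 part19

theorem upto21 : AllBelow ok 5376 := upto20.step 256 part20

theorem upto22 : AllBelow ok 5632 := upto21.step 256 part21

theorem upto23 : AllBelow ok 5888 := upto22.step 256 part22

theorem upto24 : AllBelow ok 6144 := upto23.step 256 part23

theorem upto25 : AllBelow ok 6400 := upto24.step 256 part24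

theorem upto26 : AllBelow ok 6656 := upto25.step 256 part25

theorem upto27 : AllBelow ok 6912 := upto26.step 256 part26

theorem upto28 : AllBelow ok 7168 := upto27.step 256 part27

theorem upto29 : AllBelow ok 7424 := upto28.step 256 part28

theorem upto30 : AllBelow ok 7680 := upto29.step 256 part29

theorem upto31 : AllBelow ok 7936 := upto30.step 256 part30

theorem upto32 : AllBelow ok 8192 := upto31.step 256 part31

theorem upto33 : AllBelow ok 8448 := upto32.step 256 part32

theorem upto34 : AllBelow ok 8704 := upto33.step 256 part33

theorem upto35 : AllBelow ok 8960 := upto34.step 256 part34

theorem upto36 : AllBelow ok 9216 := upto35.step 256 part35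

theorem upto37 : AllBelow ok 9472 := upto36.step 256 part36

theorem upto38 : AllBelow ok 9728 := upto37.step 256 part37

theorem upto39 : AllBelow ok 9984 := upto38.step 256 part38

theorem upto40 : AllBelow ok 10240 := upto39.step 256 part39

theorem upto41 : AllBelow ok 10496 := upto40.step 256 part40

theorem upto42 : AllBelow ok 10752 := upto41.step 256 part41

theorem upto43 : AllBelow ok 11008 := upto42.step 256 part42

theorem upto44 : AllBelow ok 11264 := upto43.step 256 part43

theorem upto45 : AllBelow ok 11520 := upto44.step 256 part44

theorem upto46 : AllBelow ok 11776 := upto45.step 256 part45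

theorem upto47 : AllBelow ok 12032 := upto46.step 256 part46

theorem upto48 : AllBelow ok 12288 := upto47.step 256 part47

theorem upto49 : AllBelow ok 12544 := upto48.step 256 part48

theorem upto50 : AllBelow ok 12800 := upto49.step 256 part49

theorem upto51 : AllBelow ok 13056 := upto50.step 256 part50

theorem upto52 : AllBelow ok 13312 := upto51.step 256 part51

theorem upto53 : AllBelow ok 13568 := upto52.step 256 part52

theorem upto54 : AllBelow ok 13824 := upto53.step 256 part53

theorem upto55 : AllBelow ok 14080 := upto54.step 256 part54

theorem upto56 : AllBelow ok 14336 := upto55.step 256 part55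

theorem upto57 : AllBelow ok 14592 := upto56.step 256 part56

theorem upto58 : AllBelow ok 14848 := upto57.step 256 part57

theorem upto59 : AllBelow ok 15104 := upto58.step 256 part58

theorem upto60 : AllBelow ok 15360 := upto59.step 256 part59

theorem upto61 : AllBelow ok 15616 := upto60.step 256 part60

theorem upto62 : AllBelow ok 15872 := upto61.step 256 part61

theorem upto63 : AllBelow ok 16128 := upto62.step 256 part62

theorem upto64 : AllBelow ok 16384 := upto63.step 256 part63

theorem upto65 : AllBelow ok 16640 := upto64.step 256 part64

theorem upto66 : AllBelow ok 16896 := upto65.step 256 part65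

theorem upto67 : AllBelow ok 17152 := upto66.step 256 part66

theorem upto68 : AllBelow ok 17408 := upto67.step 256 part67

theorem upto69 : AllBelow ok 17664 := upto68.step 256 part68

theorem upto70 : AllBelow ok 17920 := upto69.step 256 part69

theorem upto71 : AllBelow ok 18176 := upto70.step 256 part70

theorem upto72 : AllBelow ok 18432 := upto71.step 256 part71

theorem upto73 : AllBelow ok 18688 := upto72.step 256 part72

theorem upto74 : AllBelow ok 18944 := upto73.step 256 part73

theorem upto75 : AllBelow ok 19200 := upto74.step 256 part74

theorem upto76 : AllBelow ok 19456 := upto75.step 256 part75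

theorem upto77 : AllBelow ok 19712 := upto76.step 256 part76

theorem upto78 : AllBelow ok 19968 := upto77.step 256 part77

theorem upto79 : AllBelow ok 20224 := upto78.step 256 part78

theorem upto80 : AllBelow ok 20480 := upto79.step 256 part79

theorem upto81 : AllBelow ok 20736 := upto80.step 256 part80

theorem upto82 : AllBelow ok 20992 := upto81.step 256 part81

theorem upto83 : AllBelow ok 21248 := upto82.step 256 part82

theorem upto84 : AllBelow ok 21504 := upto83.step 256 part83

theorem upto85 : AllBelow ok 21760 := upto84.step 256 part84

theorem upto86 : AllBelow ok 22016 := upto85.step 256 part85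

theorem upto87 : AllBelow ok 22272 := upto86.step 256 part86

theorem upto88 : AllBelow ok 22528 := upto87.step 256 part87

theorem upto89 : AllBelow ok 22784 := upto88.step 256 part88

theorem upto90 : AllBelow ok 23040 := upto89.step 256 part89

theorem upto91 : AllBelow ok 23296 := upto90.step 256 part90

theorem upto92 : AllBelow ok 23552 := upto91.step 256 part91

theorem upto93 : AllBelow ok 23808 := upto92.step 256 part92

theorem upto94 : AllBelow ok 24064 := upto93.step 256 part93

theorem upto95 : AllBelow ok 24320 := upto94.step 256 part94

theorem upto96 : AllBelow ok 24576 := upto95.step 256 part95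

theorem upto97 : AllBelow ok 24832 := upto96.step 256 part96

theorem upto98 : AllBelow ok 25088 := upto97.step 256 part97

theorem upto99 : AllBelow ok 25344 := upto98.step 256 part98

theorem upto100 : AllBelow ok 25600 := upto99.step 256 part99

theorem upto101 : AllBelow ok 25856 := upto100.step 256 part100

theorem upto102 : AllBelow ok 26112 := upto101.step 256 part101

theorem upto103 : AllBelow ok 26368 := upto102.step 256 part102

theorem upto104 : AllBelow ok 26624 := upto103.step 256 part103

theorem upto105 : AllBelow ok 26880 := upto104.step 256 part104

theorem upto106 : AllBelow ok 27136 := upto105.step 256 part105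

theorem upto107 : AllBelow ok 27392 := upto106.step 256 part106

theorem upto108 : AllBelow ok 27648 := upto107.step 256 part107

theorem upto109 : AllBelow ok 27904 := upto108.step 256 part108

theorem upto110 : AllBelow ok 28160 := upto109.step 256 part109

theorem upto111 : AllBelow ok 28416 := upto110.step 256 part110

theorem upto112 : AllBelow ok 28672 := upto111.step 256 part111

theorem upto113 : AllBelow ok 28928 := upto112.step 256 part112

theorem upto114 : AllBelow ok 29184 := upto113.step 256 part113

theorem upto115 : AllBelow ok 29440 := upto114.step 256 part114

theorem upto116 : AllBelow ok 29696 := upto115.step 256 part115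

theorem upto117 : AllBelow ok 29952 := upto116.step 256 part116

theorem upto118 : AllBelow ok 30208 := upto117.step 256 part117

theorem upto119 : AllBelow ok 30464 := upto118.step 256 part118

theorem upto120 : AllBelow ok 30720 := upto119.step 256 part119

theorem upto121 : AllBelow ok 30976 := upto120.step 256 part120

theorem upto122 : AllBelow ok 31232 := upto121.step 256 part121

theorem upto123 : AllBelow ok 31488 := upto122.step 256 part122

theorem upto124 : AllBelow ok 31744 := upto123.step 256 part123

theorem upto125 : AllBelow ok 32000 := upto124.step 256 part124

theorem upto126 : AllBelow ok 32256 := upto125.step 256 part125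

theorem upto127 : AllBelow ok 32512 := upto126.step 256 part126

theorem upto128 : AllBelow ok 32768 := upto127.step 256 part127

theorem upto129 : AllBelow ok 33024 := upto128.step 256 part128

theorem upto130 : AllBelow ok 33280 := upto129.step 256 part129

theorem upto131 : AllBelow ok 33536 := upto130.step 256 part130

theorem upto132 : AllBelow ok 33792 := upto131.step 256 part131

theorem upto133 : AllBelow ok 34048 := upto132.step 256 part132

theorem upto134 : AllBelow ok 34304 := upto133.step 256 part133

theorem upto135 : AllBelow ok 34560 := upto134.step 256 part134

theorem upto136 : AllBelow ok 34816 := upto135.step 256 part135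

theorem upto137 : AllBelow ok 35072 := upto136.step 256 part136

theorem upto138 : AllBelow ok 35328 := upto137.step 256 part137

theorem upto139 : AllBelow ok 35584 := upto138.step 256 part138

theorem upto140 : AllBelow ok 35840 := upto139.step 256 part139

theorem upto141 : AllBelow ok 36096 := upto140.step 256 part140

theorem upto142 : AllBelow ok 36352 := upto141.step 256 part141

theorem upto143 : AllBelow ok 36608 := upto142.step 256 part142

theorem upto144 : AllBelow ok 36864 := upto143.step 256 part143

theorem upto145 : AllBelow ok 37120 := upto144.step 256 part144

theorem upto146 : AllBelow ok 37376 := upto145.step 256 part145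

theorem upto147 : AllBelow ok 37632 := upto146.step 256 part146

theorem upto148 : AllBelow ok 37888 := upto147.step 256 part147

theorem upto149 : AllBelow ok 38144 := upto148.step 256 part148

theorem upto150 : AllBelow ok 38400 := upto149.step 256 part149

theorem upto151 : AllBelow ok 38656 := upto150.step 256 part150

theorem upto152 : AllBelow ok 38912 := upto151.step 256 part151

theorem upto153 : AllBelow ok 39168 := upto152.step 256 part152

theorem upto154 : AllBelow ok 39424 := upto153.step 256 part153

theorem upto155 : AllBelow ok 39680 := upto154.step 256 part154

theorem upto156 : AllBelow ok 39936 := upto155.step 256 part155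

theorem upto157 : AllBelow ok 40192 := upto156.step 256 part156

theorem upto158 : AllBelow ok 40448 := upto157.step 256 part157

theorem upto159 : AllBelow ok 40704 := upto158.step 256 part158

theorem upto160 : AllBelow ok 40960 := upto159.step 256 part159

theorem upto161 : AllBelow ok 41216 := upto160.step 256 part160

theorem upto162 : AllBelow ok 41472 := upto161.step 256 part161

theorem upto163 : AllBelow ok 41728 := upto162.step 256 part162

theorem upto164 : AllBelow ok 41984 := upto163.step 256 part163

theorem upto165 : AllBelow ok 42240 := upto164.step 256 part164

theorem upto166 : AllBelow ok 42496 := upto165.step 256 part165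

theorem upto167 : AllBelow ok 42752 := upto166.step 256 part166

theorem upto168 : AllBelow ok 43008 := upto167.step 256 part167

theorem upto169 : AllBelow ok 43264 := upto168.step 256 part168

theorem upto170 : AllBelow ok 43520 := upto169.step 256 part169

theorem upto171 : AllBelow ok 43776 := upto170.step 256 part170

theorem upto172 : AllBelow ok 44032 := upto171.step 256 part171

theorem upto173 : AllBelow ok 44288 := upto172.step 256 part172

theorem upto174 : AllBelow ok 44544 := upto173.step 256 part173

theorem upto175 : AllBelow ok 44800 := upto174.step 256 part174

theorem upto176 : AllBelow ok 45056 := upto175.step 256 part175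

theorem upto177 : AllBelow ok 45312 := upto176.step 256 part176

theorem upto178 : AllBelow ok 45568 := upto177.step 256 part177

theorem upto179 : AllBelow ok 45824 := upto178.step 256 part178

theorem upto180 : AllBelow ok 46080 := upto179.step 256 part179

theorem upto181 : AllBelow ok 46336 := upto180.step 256 part180

theorem upto182 : AllBelow ok 46592 := upto181.step 256 part181

theorem upto183 : AllBelow ok 46848 := upto182.step 256 part182

theorem upto184 : AllBelow ok 47104 := upto183.step 256 part183

theorem upto185 : AllBelow ok 47360 := upto184.step 256 part184

theorem upto186 : AllBelow ok 47616 := upto185.step 256 part185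

theorem upto187 : AllBelow ok 47872 := upto186.step 256 part186

theorem upto188 : AllBelow ok 48128 := upto187.step 256 part187

theorem upto189 : AllBelow ok 48384 := upto188.step 256 part188

theorem upto190 : AllBelow ok 48640 := upto189.step 256 part189

theorem upto191 : AllBelow ok 48896 := upto190.step 256 part190

theorem upto192 : AllBelow ok 49152 := upto191.step 256 part191

theorem upto193 : AllBelow ok 49408 := upto192.step 256 part192

theorem upto194 : AllBelow ok 49664 := upto193.step 256 part193

theorem upto195 : AllBelow ok 49920 := upto194.step 256 part194

theorem upto196 : AllBelow ok 50176 := upto195.step 256 part195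

theorem upto197 : AllBelow ok 50432 := upto196.step 256 part196

theorem upto198 : AllBelow ok 50688 := upto197.step 256 part197

theorem upto199 : AllBelow ok 50944 := upto198.step 256 part198

theorem upto200 : AllBelow ok 51200 := upto199.step 256 part199

theorem upto201 : AllBelow ok 51456 := upto200.step 256 part200

theorem upto202 : AllBelow ok 51712 := upto201.step 256 part201

theorem upto203 : AllBelow ok 51968 := upto202.step 256 part202

theorem upto204 : AllBelow ok 52224 := upto203.step 256 part203

theorem upto205 : AllBelow ok 52480 := upto204.step 256 part204

theorem upto206 : AllBelow ok 52736 := upto205.step 256 part205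

theorem upto207 : AllBelow ok 52992 := upto206.step 256 part206

theorem upto208 : AllBelow ok 53248 := upto207.step 256 part207

theorem upto209 : AllBelow ok 53504 := upto208.step 256 part208

theorem upto210 : AllBelow ok 53760 := upto209.step 256 part209

theorem upto211 : AllBelow ok 54016 := upto210.step 256 part210

theorem upto212 : AllBelow ok 54272 := upto211.step 256 part211

theorem upto213 : AllBelow ok 54528 := upto212.step 256 part212

theorem upto214 : AllBelow ok 54784 := upto213.step 256 part213

theorem upto215 : AllBelow ok 55040 := upto214.step 256 part214

theorem upto216 : AllBelow ok 55296 := upto215.step 256 part215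

theorem upto217 : AllBelow ok 55552 := upto216.step 256 part216

theorem upto218 : AllBelow ok 55808 := upto217.step 256 part217

theorem upto219 : AllBelow ok 56064 := upto218.step 256 part218

theorem upto220 : AllBelow ok 56320 := upto219.step 256 part219

theorem upto221 : AllBelow ok 56576 := upto220.step 256 part220

theorem upto222 : AllBelow ok 56832 := upto221.step 256 part221

theorem upto223 : AllBelow ok 57088 := upto222.step 256 part222

theorem upto224 : AllBelow ok 57344 := upto223.step 256 part223

theorem upto225 : AllBelow ok 57600 := upto224.step 256 part224

theorem upto226 : AllBelow ok 57856 := upto225.step 256 part225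

theorem upto227 : AllBelow ok 58112 := upto226.step 256 part226

theorem upto228 : AllBelow ok 58368 := upto227.step 256 part227

theorem upto229 : AllBelow ok 58624 := upto228.step 256 part228

theorem upto230 : AllBelow ok 58880 := upto229.step 256 part229

theorem upto231 : AllBelow ok 59136 := upto230.step 256 part230

theorem upto232 : AllBelow ok 59392 := upto231.step 256 part231

theorem upto233 : AllBelow ok 59648 := upto232.step 256 part232

theorem upto234 : AllBelow ok 59904 := upto233.step 256 part233

theorem upto235 : AllBelow ok 60160 := upto234.step 256 part234

theorem upto236 : AllBelow ok 60416 := upto235.step 256 part235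

theorem upto237 : AllBelow ok 60672 := upto236.step 256 part236

theorem upto238 : AllBelow ok 60928 := upto237.step 256 part237

theorem upto239 : AllBelow ok 61184 := upto238.step 256 part238

theorem upto240 : AllBelow ok 61440 := upto239.step 256 part239

theorem upto241 : AllBelow ok 61696 := upto240.step 256 part240

theorem upto242 : AllBelow ok 61952 := upto241.step 256 part241

theorem upto243 : AllBelow ok 62208 := upto242.step 256 part242

theorem upto244 : AllBelow ok 62464 := upto243.step 256 part243

theorem upto245 : AllBelow ok 62720 := upto244.step 256 part244

theorem upto246 : AllBelow ok 62976 := upto245.step 256 part245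

theorem upto247 : AllBelow ok 63232 := upto246.step 256 part246

theorem upto248 : AllBelow ok 63488 := upto247.step 256 part247

theorem upto249 : AllBelow ok 63744 := upto248.step 256 part248

theorem upto250 : AllBelow ok 64000 := upto249.step 256 part249

theorem upto251 : AllBelow ok 64256 := upto250.step 256 part250

theorem upto252 : AllBelow ok 64512 := upto251.step 256 part251

theorem upto253 : AllBelow ok 64768 := upto252.step 256 part252

theorem upto254 : AllBelow ok 65024 := upto253.step 256 part253

theorem upto255 : AllBelow ok 65280 := upto254.step 256 part254

theorem upto256 : AllBelow ok 65536 := upto255.step 256 part255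

theorem upto257 : AllBelow ok 65792 := upto256.step 256 part256

theorem upto258 : AllBelow ok 66048 := upto257.step 256 part257

theorem upto259 : AllBelow ok 66304 := upto258.step 256 part258

theorem upto260 : AllBelow ok 66560 := upto259.step 256 part259

theorem upto261 : AllBelow ok 66816 := upto260.step 256 part260

theorem upto262 : AllBelow ok 67072 := upto261.step 256 part261

theorem upto263 : AllBelow ok 67328 := upto262.step 256 part262

theorem upto264 : AllBelow ok 67584 := upto263.step 256 part263

theorem upto265 : AllBelow ok 67840 := upto264.step 256 part264

theorem upto266 : AllBelow ok 68096 := upto265.step 256 part265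

theorem upto267 : AllBelow ok 68352 := upto266.step 256 part266

theorem upto268 : AllBelow ok 68608 := upto267.step 256 part267

theorem upto269 : AllBelow ok 68864 := upto268.step 256 part268

theorem upto270 : AllBelow ok 69120 := upto269.step 256 part269

theorem upto271 : AllBelow ok 69376 := upto270.step 256 part270

theorem upto272 : AllBelow ok 69632 := upto271.step 256 part271

theorem upto273 : AllBelow ok 69888 := upto272.step 256 part272

theorem upto274 : AllBelow ok 70144 := upto273.step 256 part273

theorem upto275 : AllBelow ok 70400 := upto274.step 256 part274

theorem upto276 : AllBelow ok 70656 := upto275.step 256 part275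

theorem upto277 : AllBelow ok 70912 := upto276.step 256 part276

theorem upto278 : AllBelow ok 71168 := upto277.step 256 part277

theorem upto279 : AllBelow ok 71424 := upto278.step 256 part278

theorem upto280 : AllBelow ok 71680 := upto279.step 256 part279

theorem upto281 : AllBelow ok 71936 := upto280.step 256 part280

theorem upto282 : AllBelow ok 72192 := upto281.step 256 part281

theorem upto283 : AllBelow ok 72448 := upto282.step 256 part282

theorem upto284 : AllBelow ok 72704 := upto283.step 256 part283

theorem upto285 : AllBelow ok 72960 := upto284.step 256 part284

theorem upto286 : AllBelow ok 73216 := upto285.step 256 part285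

theorem upto287 : AllBelow ok 73472 := upto286.step 256 part286

theorem upto288 : AllBelow ok 73728 := upto287.step 256 part287

theorem upto289 : AllBelow ok 73984 := upto288.step 256 part288

theorem upto290 : AllBelow ok 74240 := upto289.step 256 part289

theorem upto291 : AllBelow ok 74496 := upto290.step 256 part290

theorem upto292 : AllBelow ok 74752 := upto291.step 256 part291

theorem upto293 : AllBelow ok 75008 := upto292.step 256 part292

theorem upto294 : AllBelow ok 75264 := upto293.step 256 part293

theorem upto295 : AllBelow ok 75520 := upto294.step 256 part294

theorem upto296 : AllBelow ok 75776 := upto295.step 256 part295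

theorem upto297 : AllBelow ok 76032 := upto296.step 256 part296

theorem upto298 : AllBelow ok 76288 := upto297.step 256 part297

theorem upto299 : AllBelow ok 76544 := upto298.step 256 part298

theorem upto300 : AllBelow ok 76800 := upto299.step 256 part299

theorem upto301 : AllBelow ok 77056 := upto300.step 256 part300

theorem upto302 : AllBelow ok 77312 := upto301.step 256 part301

theorem upto303 : AllBelow ok 77568 := upto302.step 256 part302

theorem upto304 : AllBelow ok 77824 := upto303.step 256 part303

theorem upto305 : AllBelow ok 78080 := upto304.step 256 part304

theorem upto306 : AllBelow ok 78336 := upto305.step 256 part305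

theorem upto307 : AllBelow ok 78592 := upto306.step 256 part306

theorem upto308 : AllBelow ok 78848 := upto307.step 256 part307

theorem upto309 : AllBelow ok 79104 := upto308.step 256 part308

theorem upto310 : AllBelow ok 79360 := upto309.step 256 part309

theorem upto311 : AllBelow ok 79616 := upto310.step 256 part310

theorem upto312 : AllBelow ok 79872 := upto311.step 256 part311

theorem upto313 : AllBelow ok 80128 := upto312.step 256 part312

theorem upto314 : AllBelow ok 80384 := upto313.step 256 part313

theorem upto315 : AllBelow ok 80640 := upto314.step 256 part314

theorem upto316 : AllBelow ok 80896 := upto315.step 256 part315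

theorem upto317 : AllBelow ok 81152 := upto316.step 256 part316

theorem upto318 : AllBelow ok 81408 := upto317.step 256 part317

theorem upto319 : AllBelow ok 81664 := upto318.step 256 part318

theorem upto320 : AllBelow ok 81920 := upto319.step 256 part319

theorem upto321 : AllBelow ok 82176 := upto320.step 256 part320

theorem upto322 : AllBelow ok 82432 := upto321.step 256 part321

theorem upto323 : AllBelow ok 82688 := upto322.step 256 part322

theorem upto324 : AllBelow ok 82944 := upto323.step 256 part323

theorem upto325 : AllBelow ok 83200 := upto324.step 256 part324

theorem upto326 : AllBelow ok 83456 := upto325.step 256 part325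

theorem upto327 : AllBelow ok 83712 := upto326.step 256 part326

theorem upto328 : AllBelow ok 83968 := upto327.step 256 part327

theorem upto329 : AllBelow ok 84224 := upto328.step 256 part328

theorem upto330 : AllBelow ok 84480 := upto329.step 256 part329

theorem upto331 : AllBelow ok 84736 := upto330.step 256 part330

theorem upto332 : AllBelow ok 84992 := upto331.step 256 part331

theorem upto333 : AllBelow ok 85248 := upto332.step 256 part332

theorem upto334 : AllBelow ok 85504 := upto333.step 256 part333

theorem upto335 : AllBelow ok 85760 := upto334.step 256 part334

theorem upto336 : AllBelow ok 86016 := upto335.step 256 part335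

theorem upto337 : AllBelow ok 86272 := upto336.step 256 part336

theorem upto338 : AllBelow ok 86528 := upto337.step 256 part337

theorem upto339 : AllBelow ok 86784 := upto338.step 256 part338

theorem upto340 : AllBelow ok 87040 := upto339.step 256 part339

theorem upto341 : AllBelow ok 87296 := upto340.step 256 part340

theorem upto342 : AllBelow ok 87552 := upto341.step 256 part341

theorem upto343 : AllBelow ok 87808 := upto342.step 256 part342

theorem upto344 : AllBelow ok 88064 := upto343.step 256 part343

theorem upto345 : AllBelow ok 88320 := upto344.step 256 part344

theorem upto346 : AllBelow ok 88576 := upto345.step 256 part345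

theorem upto347 : AllBelow ok 88832 := upto346.step 256 part346

theorem upto348 : AllBelow ok 89088 := upto347.step 256 part347

theorem upto349 : AllBelow ok 89344 := upto348.step 256 part348

theorem upto350 : AllBelow ok 89600 := upto349.step 256 part349

theorem upto351 : AllBelow ok 89856 := upto350.step 256 part350

theorem upto352 : AllBelow ok 90112 := upto351.step 256 part351

theorem upto353 : AllBelow ok 90368 := upto352.step 256 part352

theorem upto354 : AllBelow ok 90624 := upto353.step 256 part353

theorem upto355 : AllBelow ok 90880 := upto354.step 256 part354

theorem upto356 : AllBelow ok 91136 := upto355.step 256 part355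

theorem upto357 : AllBelow ok 91392 := upto356.step 256 part356

theorem upto358 : AllBelow ok 91648 := upto357.step 256 part357

theorem upto359 : AllBelow ok 91904 := upto358.step 256 part358

theorem upto360 : AllBelow ok 92160 := upto359.step 256 part359

theorem upto361 : AllBelow ok 92416 := upto360.step 256 part360

theorem upto362 : AllBelow ok 92672 := upto361.step 256 part361

theorem upto363 : AllBelow ok 92928 := upto362.step 256 part362

theorem upto364 : AllBelow ok 93184 := upto363.step 256 part363

theorem upto365 : AllBelow ok 93440 := upto364.step 256 part364

theorem upto366 : AllBelow ok 93696 := upto365.step 256 part365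

theorem upto367 : AllBelow ok 93952 := upto366.step 256 part366

theorem upto368 : AllBelow ok 94208 := upto367.step 256 part367

theorem upto369 : AllBelow ok 94464 := upto368.step 256 part368

theorem upto370 : AllBelow ok 94720 := upto369.step 256 part369

theorem upto371 : AllBelow ok 94976 := upto370.step 256 part370

theorem upto372 : AllBelow ok 95232 := upto371.step 256 part371

theorem upto373 : AllBelow ok 95488 := upto372.step 256 part372

theorem upto374 : AllBelow ok 95744 := upto373.step 256 part373

theorem upto375 : AllBelow ok 96000 := upto374.step 256 part374

theorem upto376 : AllBelow ok 96256 := upto375.step 256 part375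

theorem upto377 : AllBelow ok 96512 := upto376.step 256 part376

theorem upto378 : AllBelow ok 96768 := upto377.step 256 part377

theorem upto379 : AllBelow ok 97024 := upto378.step 256 part378

theorem upto380 : AllBelow ok 97280 := upto379.step 256 part379

theorem upto381 : AllBelow ok 97536 := upto380.step 256 part380

theorem upto382 : AllBelow ok 97792 := upto381.step 256 part381

theorem upto383 : AllBelow ok 98048 := upto382.step 256 part382

theorem upto384 : AllBelow ok 98304 := upto383.step 256 part383

theorem upto385 : AllBelow ok 98560 := upto384.step 256 part384

theorem upto386 : AllBelow ok 98816 := upto385.step 256 part385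

theorem upto387 : AllBelow ok 99072 := upto386.step 256 part386

theorem upto388 : AllBelow ok 99328 := upto387.step 256 part387

theorem upto389 : AllBelow ok 99584 := upto388.step 256 part388

theorem upto390 : AllBelow ok 99840 := upto389.step 256 part389

theorem upto391 : AllBelow ok 100096 := upto390.step 256 part390

theorem upto392 : AllBelow ok 100352 := upto391.step 256 part391

theorem upto393 : AllBelow ok 100608 := upto392.step 256 part392

theorem upto394 : AllBelow ok 100864 := upto393.step 256 part393

theorem upto395 : AllBelow ok 101120 := upto394.step 256 part394

theorem upto396 : AllBelow ok 101376 := upto395.step 256 part395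

theorem upto397 : AllBelow ok 101632 := upto396.step 256 part396

theorem upto398 : AllBelow ok 101888 := upto397.step 256 part397

theorem upto399 : AllBelow ok 102144 := upto398.step 256 part398

theorem upto400 : AllBelow ok 102400 := upto399.step 256 part399

theorem upto401 : AllBelow ok 102656 := upto400.step 256 part400

theorem upto402 : AllBelow ok 102912 := upto401.step 256 part401

theorem upto403 : AllBelow ok 103168 := upto402.step 256 part402

theorem upto404 : AllBelow ok 103424 := upto403.step 256 part403

theorem upto405 : AllBelow ok 103680 := upto404.step 256 part404

theorem upto406 : AllBelow ok 103936 := upto405.step 256 part405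

theorem upto407 : AllBelow ok 104192 := upto406.step 256 part406

theorem upto408 : AllBelow ok 104448 := upto407.step 256 part407

theorem upto409 : AllBelow ok 104704 := upto408.step 256 part408

theorem upto410 : AllBelow ok 104960 := upto409.step 256 part409

theorem upto411 : AllBelow ok 105216 := upto410.step 256 part410

theorem upto412 : AllBelow ok 105472 := upto411.step 256 part411

theorem upto413 : AllBelow ok 105728 := upto412.step 256 part412

theorem upto414 : AllBelow ok 105984 := upto413.step 256 part413

theorem upto415 : AllBelow ok 106240 := upto414.step 256 part414

theorem upto416 : AllBelow ok 106496 := upto415.step 256 part415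

theorem upto417 : AllBelow ok 106752 := upto416.step 256 part416

theorem upto418 : AllBelow ok 107008 := upto417.step 256 part417

theorem upto419 : AllBelow ok 107264 := upto418.step 256 part418

theorem upto420 : AllBelow ok 107520 := upto419.step 256 part419

theorem upto421 : AllBelow ok 107776 := upto420.step 256 part420

theorem upto422 : AllBelow ok 108032 := upto421.step 256 part421

theorem upto423 : AllBelow ok 108288 := upto422.step 256 part422

theorem upto424 : AllBelow ok 108544 := upto423.step 256 part423

theorem upto425 : AllBelow ok 108800 := upto424.step 256 part424

theorem upto426 : AllBelow ok 109056 := upto425.step 256 part425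

theorem upto427 : AllBelow ok 109312 := upto426.step 256 part426

theorem upto428 : AllBelow ok 109568 := upto427.step 256 part427

theorem upto429 : AllBelow ok 109824 := upto428.step 256 part428

theorem upto430 : AllBelow ok 110080 := upto429.step 256 part429

theorem upto431 : AllBelow ok 110336 := upto430.step 256 part430

theorem upto432 : AllBelow ok 110592 := upto431.step 256 part431

theorem upto433 : AllBelow ok 110848 := upto432.step 256 part432

theorem upto434 : AllBelow ok 111104 := upto433.step 256 part433

theorem upto435 : AllBelow ok 111360 := upto434.step 256 part434

theorem upto436 : AllBelow ok 111616 := upto435.step 256 part435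

theorem upto437 : AllBelow ok 111872 := upto436.step 256 part436

theorem upto438 : AllBelow ok 112128 := upto437.step 256 part437

theorem upto439 : AllBelow ok 112384 := upto438.step 256 part438

theorem upto440 : AllBelow ok 112640 := upto439.step 256 part439

theorem upto441 : AllBelow ok 112896 := upto440.step 256 part440

theorem upto442 : AllBelow ok 113152 := upto441.step 256 part441

theorem upto443 : AllBelow ok 113408 := upto442.step 256 part442

theorem upto444 : AllBelow ok 113664 := upto443.step 256 part443

theorem upto445 : AllBelow ok 113920 := upto444.step 256 part444

theorem upto446 : AllBelow ok 114176 := upto445.step 256 part445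

theorem upto447 : AllBelow ok 114432 := upto446.step 256 part446

theorem upto448 : AllBelow ok 114688 := upto447.step 256 part447

theorem upto449 : AllBelow ok 114944 := upto448.step 256 part448

theorem upto450 : AllBelow ok 115200 := upto449.step 256 part449

theorem upto451 : AllBelow ok 115456 := upto450.step 256 part450

theorem upto452 : AllBelow ok 115712 := upto451.step 256 part451

theorem upto453 : AllBelow ok 115968 := upto452.step 256 part452

theorem upto454 : AllBelow ok 116224 := upto453.step 256 part453

theorem upto455 : AllBelow ok 116480 := upto454.step 256 part454

theorem upto456 : AllBelow ok 116736 := upto455.step 256 part455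

theorem upto457 : AllBelow ok 116992 := upto456.step 256 part456

theorem upto458 : AllBelow ok 117248 := upto457.step 256 part457

theorem upto459 : AllBelow ok 117504 := upto458.step 256 part458

theorem upto460 : AllBelow ok 117760 := upto459.step 256 part459

theorem upto461 : AllBelow ok 118016 := upto460.step 256 part460

theorem upto462 : AllBelow ok 118272 := upto461.step 256 part461

theorem upto463 : AllBelow ok 118528 := upto462.step 256 part462

theorem upto464 : AllBelow ok 118784 := upto463.step 256 part463

theorem upto465 : AllBelow ok 119040 := upto464.step 256 part464

theorem upto466 : AllBelow ok 119296 := upto465.step 256 part465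

theorem upto467 : AllBelow ok 119552 := upto466.step 256 part466

theorem upto468 : AllBelow ok 119808 := upto467.step 256 part467

theorem upto469 : AllBelow ok 120064 := upto468.step 256 part468

theorem upto470 : AllBelow ok 120320 := upto469.step 256 part469

theorem upto471 : AllBelow ok 120576 := upto470.step 256 part470

theorem upto472 : AllBelow ok 120832 := upto471.step 256 part471

theorem upto473 : AllBelow ok 121088 := upto472.step 256 part472

theorem upto474 : AllBelow ok 121344 := upto473.step 256 part473

theorem upto475 : AllBelow ok 121600 := upto474.step 256 part474

theorem upto476 : AllBelow ok 121856 := upto475.step 256 part475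

theorem upto477 : AllBelow ok 122112 := upto476.step 256 part476

theorem upto478 : AllBelow ok 122368 := upto477.step 256 part477

theorem upto479 : AllBelow ok 122624 := upto478.step 256 part478

theorem upto480 : AllBelow ok 122760 := upto479.step 136 part479

theorem all_ok : AllBelow ok 122760 := upto480

end Cfsg.Agent.ONPermCheck64
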