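import Cfsg.Agent.Lib.ONPermPart0_64
import Cfsg.Agent.Lib.ONPermPart1_64
import Cfsg.Agent.Lib.ONPermPart2_64
import Cfsg.Agent.Lib.ONPermPart3_64
import Cfsg.Agent.Lib.ONPermPart4_64
import Cfsg.Agent.Lib.ONPermPart5_64
import Cfsg.Agent.Lib.ONPermPart6_64
import Cfsg.Agent.Lib.ONPermPart7_64
import Cfsg.Agent.Lib.CosetCertTable

/-! Checkers for a table of permutations of 122760 points for the presented O'Nan group. -/

set_option autoImplicit false

namespace Cfsg.Agent.ONPermData64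

open Cfsg.Agent.CosetCertCore Cfsg.Agent.CosetCertTable

/-- The table. -/
noncomputable def tbl : Tbl :=
  .node (.node (.node part0 part4) (.node part2 part6)) (.node (.node part1 part5) (.node part3 part7))

/-- Image of point `i` under letter `x` (letters 0-5: a, ..., f; 6, 7: g and its inverse). -/
noncomputable def im (x i : Nat) : Nat :=
  Nat.land (Nat.shiftRight (chunk tbl (Nat.shiftRight i 4)) (Nat.land i 15 * 136 + 17 * x)) 131071

/-- The inverse letter. -/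
noncomputable def flip (x : Nat) : Nat := cond (Nat.blt x 6) x (13 - x)

/-- Follow a word. -/
noncomputable def run (w : List Nat) : Nat → Nat :=
  List.rec (motive := fun _ => Nat → Nat) (fun i => i) (fun x _ ih i => force (im x i) ih) w

/-- The relators. -/
def words : List (List Nat) := [[0, 0], [0, 1, 0, 1, 0, 1], [0, 2, 0, 2], [0, 3, 0, 3], [0, 4, 0, 4], [0, 5, 0, 5], [1, 1], [1, 2, 1, 2, 1, 2], [1, 3, 1, 3], [1, 4, 1, 4], [1, 5, 1, 5], [2, 2], [2, 3, 2, 3, 2, 3, 2, 3, 2, 3, 2, 3, 2, 3, 2, 3], [2, 4, 2, 4], [2, 5, 2, 5], [3, 3], [3, 4, 3, 4, 3, 4], [3, 5, 3, 5], [4, 4], [4, 5, 4, 5, 4, 5], [5, 5], [0, 5, 7, 7], [0, 5, 3, 2, 3, 2, 3, 2, 3, 2], [2, 7, 3, 7, 3, 2, 3, 6, 3, 6], [3, 7, 2, 7, 2, 3, 2, 6, 2, 6], [1, 2, 3, 6, 1, 2, 3, 6, 1, 2, 3, 6, 1, 2, 3, 6, 1, 2, 3, 6], [6, 1, 2, 6, 2, 1, 6, 1, 2, 6, 2], [6, 4, 3, 6, 3, 4, 6, 4, 3, 6, 3]]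

/-- All checks at point `i`. -/
noncomputable def ok (i : Nat) : Bool :=
  allFrom (fun x => force (im x i) fun j => Nat.blt j 122760 && Nat.beq (im (flip x) j) i) 8 0 &&
    List.rec (motive := fun _ => Bool) true (fun w _ ih => Nat.beq (run w i) i && ih) words

end Cfsg.Agent.ONPermData64
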