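import Cfsg.Agent.Lib.ONCoverGlue60
import Cfsg.Agent.Lib.ONFortyFive41

/-!
The matrices of degree 45 over the field with seven elements are exact on the involutory generators and have
value a primitive cube root of unity at the relator `g b (g^c) (g^b) (g^c)`: the multiplier of O'Nan's group.
-/

set_option autoImplicit false
set_option maxRecDepth 100000
set_option Elab.async false
set_option linter.style.haveILetI false

namespace Cfsg.Agent.ONTripleWitness60

open Cfsg.Agent.ONFortyFiveCheck41 Cfsg.Agent.ONFortyFive41 Cfsg.Agent.ONFortyFiveData41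
open Cfsg.Spor.ON (Gen)

local instance : Fact (Nat.Prime 7) := ⟨by norm_num⟩

attribute [local irreducible] mx

theorem entries : digit ((rows.getD 0 []).getD 0 0) 5 = 6 ∧ digit ((rows.getD 1 []).getD 0 0) 5 = 5 := by
  decide +kernel

theorem a_ne_b : mx 0 ≠ mx 1 := by
  intro h
  have h1 := congrArg (fun A : M45 => (A ⟨0, by norm_num⟩ ⟨5, by norm_num⟩).val) h
  simp only [mx_apply, ZMod.val_natCast] at h1
  rw [entries.1, entries.2] at h1
  norm_num at h1

theorem val_unit (s : Gen) : ((unit s : M45ˣ) : M45) = mx (letter s) := by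
  unfold unit
  rfl

theorem val_inv_unit (s : Gen) : (((unit s)⁻¹ : M45ˣ) : M45) = mx (inv8 (letter s)) := by
  unfold unit
  rfl

theorem of_units {N : Type} [Monoid N] [Finite Nˣ] (f : Gen → Nˣ)
    (hrel : ∀ r ∈ Cfsg.Spor.coxRelators Cfsg.Spor.ON.edges ∪ {r | r ∈ Cfsg.Spor.ON.extra},
      ∀ w : N, w * (FreeGroup.lift f r : Nˣ) = (FreeGroup.lift f r : Nˣ) * w)
    (ha : f .a * f .a = 1) (hb : f .b * f .b = 1) (hab : (f .a * f .b) ^ 3 = 1) (hne : f .a ≠ f .b)
    (hc : f .c * f .c = 1) (hf : f .f * f .f = 1)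
    (hg : f .g * f .g = f .a * f .f) {c : N}
    (hval : ((f .g * f .b * f .c * f .g * f .c * f .b * f .g * f .b * f .c * f .g * f .c : Nˣ) : N) = c)
    (h3 : c ^ 3 = 1) (hc1 : c ≠ 1) :
    Cfsg.HasCyclicSchurMultiplier Cfsg.Spor.ON 3 := by
  refine ONCoverGlue60.of_projective f (fun r hr => Subgroup.mem_center_iff.2 fun w => Units.ext ?_) ?_
    ha hb hc hf hg ?_ ?_
  · rw [Units.val_mul, Units.val_mul]
    exact hrel r hr w
  · intro hcen
    have hcomm : Commute (f .a) (f .b) := (Subgroup.mem_center_iff.1 hcen _).symm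
    rw [hcomm.mul_pow, pow_succ _ 2, pow_succ _ 2, pow_two, pow_two, ha, hb, one_mul, one_mul] at hab
    exact hne (by rw [eq_inv_of_mul_eq_one_left hab, inv_eq_of_mul_eq_one_right hb])
  · refine Units.ext ?_
    rw [Units.val_pow_eq_pow_val, hval, h3, Units.val_one]
  · intro h
    rw [h, Units.val_one] at hval
    exact hc1 hval.symm

theorem unit_sq {s : Gen} (hs : letter s < 6) : unit s * unit s = 1 := by
  apply Units.ext
  rw [Units.val_mul, val_unit, Units.val_one]
  exact sq_one hs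

theorem unit_ab : (unit Gen.a * unit Gen.b) ^ 3 = 1 := by
  apply Units.ext
  rw [Units.val_pow_eq_pow_val, Units.val_mul, val_unit, val_unit, Units.val_one]
  exact pair_pow (x := 0) (y := 1) (by norm_num) (by norm_num)

theorem unit_gg : unit Gen.g * unit Gen.g = unit Gen.a * unit Gen.f := by
  have h : unit Gen.a * (unit Gen.f * ((unit Gen.g)⁻¹ * (unit Gen.g)⁻¹)) = 1 := by
    apply Units.ext
    have h0 := ev_of_scalOk (w := [0, 5, 6, 6]) (c := 1) (by norm_num) rfl extra_ok.1
    rw [Nat.cast_one, one_smul, ev_cons, ev_cons, ev_cons, ev_cons, ev_nil, mul_one] at h0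
    rw [Units.val_mul, Units.val_mul, Units.val_mul, Units.val_one, val_unit, val_unit, val_inv_unit]
    exact h0
  rw [← mul_inv_rev, ← mul_assoc, mul_inv_eq_one] at h
  exact h.symm

theorem four_ne {n : ℕ} : ((4 : Nat) : ZMod 7) • (1 : Matrix (Fin (n + 1)) (Fin (n + 1)) (ZMod 7)) ≠ 1 := by
  intro h
  have h1 := congrFun (congrFun h 0) 0
  rw [Matrix.smul_apply, Matrix.one_apply_eq, smul_eq_mul, mul_one] at h1
  exact absurd h1 (by decide)

theorem four_cube {n : ℕ} :
    (((4 : Nat) : ZMod 7) • (1 : Matrix (Fin n) (Fin n) (ZMod 7))) ^ 3 = 1 := by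
  rw [smul_pow, one_pow, show ((4 : Nat) : ZMod 7) ^ 3 = 1 from by decide, one_smul]

theorem unit_ne : unit Gen.a ≠ unit Gen.b := by
  intro h
  have h' : ((unit Gen.a : M45ˣ) : M45) = ((unit Gen.b : M45ˣ) : M45) := by rw [h]
  rw [val_unit, val_unit] at h'
  exact a_ne_b h'

theorem scal_comm {n : ℕ} {R : Type*} [CommRing R] (c : R) (w : Matrix (Fin n) (Fin n) R) :
    w * c • 1 = c • 1 * w := by
  rw [mul_smul_comm, smul_mul_assoc, mul_one, one_mul]

theorem unit_rel : ∀ r ∈ Cfsg.Spor.coxRelators Cfsg.Spor.ON.edges ∪ {r | r ∈ Cfsg.Spor.ON.extra},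
    ∀ w : M45, w * (FreeGroup.lift unit r : M45ˣ) = (FreeGroup.lift unit r : M45ˣ) * w := by
  intro r hr w
  obtain ⟨c, -, he⟩ := relators r hr
  rw [he]
  exact scal_comm c w

theorem multiplier : Cfsg.HasCyclicSchurMultiplier Cfsg.Spor.ON 3 := by
  have hv : ((unit Gen.g * unit .b * unit .c * unit .g * unit .c * unit .b * unit .g * unit .b * unit .c *
      unit .g * unit .c : M45ˣ) : M45) = ((4 : Nat) : ZMod 7) • (1 : M45) := by
    rw [← ev_of_scalOk (w := [7, 1, 2, 7, 2, 1, 7, 1, 2, 7, 2]) (by norm_num) rfl extra_ok.2.2.2.2.2.1]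
    simp only [Units.val_mul, val_unit, letter, ev_cons, ev_nil, mul_one, mul_assoc]
  exact of_units unit unit_rel (unit_sq (by decide)) (unit_sq (by decide)) unit_ab unit_ne
    (unit_sq (by decide)) (unit_sq (by decide)) unit_gg hv four_cube four_ne

end Cfsg.Agent.ONTripleWitness60
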