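import Cfsg.Agent.Lib.ONTwoCert60C0

/-! Checks of a weighted coset enumeration in the presented O'Nan group, and the relations found. -/

set_option autoImplicit false
set_option maxRecDepth 100000

namespace Cfsg.Agent.ONTwoCert60

open Cfsg.Agent.CentralCosetTwo60 Cfsg.Agent.ONTwoCert60Data

universe u

/-- The facts hold up to `n`. -/
def Valid (n : Nat) : Prop :=
  ∀ {E : Type u} [Group E] (S : Sys E cert), S.AllValid n

theorem Valid.step {lo n : Nat} (h : Valid.{u} lo) (L : List Nat)
    (hn : (Nat.beq (lo + L.length) n && checkList cert L lo) = true) : Valid.{u} n := by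
  rw [Bool.and_eq_true, Nat.beq_eq] at hn
  intro E _ S
  exact hn.1 ▸ S.checkList_sound L lo (h S) hn.2

theorem valid0 : Valid.{u} 0 := fun _ _ h => absurd h (Nat.not_lt_zero _)

theorem valid1 : Valid.{u} 256 := valid0.step ONTwoCert60C0.just0 ONTwoCert60C0.check0

theorem valid2 : Valid.{u} 512 := valid1.step ONTwoCert60C0.just1 ONTwoCert60C0.check1

theorem valid3 : Valid.{u} 760 := valid2.step ONTwoCert60C0.just2 ONTwoCert60C0.check2

/-- The loops found. -/
theorem loops {E : Type u} [Group E] (S : Sys E cert) : S.ζ 4 ∈ S.H ∧ S.ζ 2 ∈ S.H ∧ S.ζ 10 ∈ S.H ∧ S.ζ 5 ∈ S.H := by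
  refine ⟨?_, ?_, ?_, ?_⟩
  · exact (show fd (cert.fact 346) = 4 by decide +kernel) ▸ S.loop_mem (valid3 S) (i := 346) (by decide) (by decide +kernel)
  · exact (show fd (cert.fact 404) = 2 by decide +kernel) ▸ S.loop_mem (valid3 S) (i := 404) (by decide) (by decide +kernel)
  · exact (show fd (cert.fact 651) = 10 by decide +kernel) ▸ S.loop_mem (valid3 S) (i := 651) (by decide) (by decide +kernel)
  · exact (show fd (cert.fact 759) = 5 by decide +kernel) ▸ S.loop_mem (valid3 S) (i := 759) (by decide) (by decide +kernel)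

end Cfsg.Agent.ONTwoCert60
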