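import Mathlib

/-!
# Abelian normal subgroups of a point stabilizer in a doubly transitive group

If such a subgroup is not semiregular on the remaining points then it is a trivial intersection
set, and the fixed point sets of its elements are flats of a linear space on the points.
-/

set_option autoImplicit false

namespace Cfsg.Agent.ONan80

open Finset

/-- The family of conjugates of an abelian normal subgroup of a point stabilizer. -/
structure Setup (G X : Type*) [Group G] [MulAction G X] where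
  N : X → Subgroup G
  le : ∀ x, ∀ a ∈ N x, a • x = x
  conj : ∀ (g : G) (x : X), ∀ a ∈ N x, g * a * g⁻¹ ∈ N (g • x)
  comm : ∀ x, ∀ a ∈ N x, ∀ b ∈ N x, a * b = b * a
  faith : ∀ g : G, (∀ x : X, g • x = x) → g = 1
  two : ∀ a b c d : X, a ≠ b → c ≠ d → ∃ g : G, g • a = c ∧ g • b = d
  nonsr : ∃ (x y : X) (a : G), y ≠ x ∧ a ∈ N x ∧ a ≠ 1 ∧ a • y = y

variable {G X : Type*} [Group G] [MulAction G X]

namespace Setup

variable (S : Setup G X)

include S

lemma conj_iff (g : G) (x : X) (a : G) : g * a * g⁻¹ ∈ S.N (g • x) ↔ a ∈ S.N x := by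
  refine ⟨fun h => ?_, S.conj g x a⟩
  have := S.conj g⁻¹ _ _ h
  simpa [mul_assoc] using this

/-- The stabilizer of a second point in `N x`. -/
def st (x y : X) : Subgroup G := S.N x ⊓ MulAction.stabilizer G y

lemma mem_st {x y : X} {a : G} : a ∈ S.st x y ↔ a ∈ S.N x ∧ a • y = y := Iff.rfl

lemma card_pair (F : X → X → Subgroup G)
    (hF : ∀ (g : G) (x y : X), ∀ a ∈ F x y, g * a * g⁻¹ ∈ F (g • x) (g • y))
    {x y x' y' : X} (h : x ≠ y) (h' : x' ≠ y') :
    Nat.card (F x y) = Nat.card (F x' y') := by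
  obtain ⟨g, rfl, rfl⟩ := S.two x y x' y' h h'
  refine Nat.card_congr
    ⟨fun a => ⟨g * a * g⁻¹, hF g x y a a.2⟩, fun a => ⟨g⁻¹ * a * g, ?_⟩,
      fun a => Subtype.ext (by simp [mul_assoc]), fun a => Subtype.ext (by simp [mul_assoc])⟩
  simpa using hF g⁻¹ (g • x) (g • y) a a.2

lemma card_meet {x y x' y' : X} (h : x ≠ y) (h' : x' ≠ y') :
    Nat.card ↥(S.N x ⊓ S.N y) = Nat.card ↥(S.N x' ⊓ S.N y') :=
  S.card_pair (fun x y => S.N x ⊓ S.N y)
    (fun g x y a ha => ⟨S.conj g x a ha.1, S.conj g y a ha.2⟩) h h'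

lemma card_st {x y x' y' : X} (h : x ≠ y) (h' : x' ≠ y') :
    Nat.card (S.st x y) = Nat.card (S.st x' y') :=
  S.card_pair S.st (fun g x y a ha => ⟨S.conj g x a ha.1, by
    show (g * a * g⁻¹) • g • y = g • y
    rw [mul_smul, mul_smul, inv_smul_smul, show a • y = y from ha.2]⟩) h h'

lemma exists_other (x : X) : ∃ y, y ≠ x := by
  obtain ⟨p, q, -, h, -⟩ := S.nonsr
  by_cases hx : p = x
  · exact ⟨q, hx ▸ h⟩
  · exact ⟨p, hx⟩

/-- The group `N u` moves every other point. -/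
lemma exists_move {u x : X} (h : x ≠ u) : ∃ n ∈ S.N u, n • x ≠ x := by
  by_contra hc
  push_neg at hc
  obtain ⟨p, q, a, hqp, ha, ha1, -⟩ := S.nonsr
  apply ha1
  refine S.faith a fun w => ?_
  by_cases hw : w = p
  · rw [hw]; exact S.le p a ha
  obtain ⟨g, hgu, hgx⟩ := S.two u x p w h.symm (Ne.symm hw)
  have h1 := S.conj g⁻¹ p a ha
  rw [show g⁻¹ • p = u by rw [← hgu, inv_smul_smul]] at h1
  have h2 := hc _ h1
  rw [inv_inv, mul_smul, mul_smul, hgx, inv_smul_eq_iff, hgx] at h2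
  exact h2

lemma one_lt_card_st [Finite G] {x y : X} (h : x ≠ y) : 1 < Nat.card (S.st x y) := by
  obtain ⟨p, q, a, hqp, ha, ha1, hay⟩ := S.nonsr
  rw [S.card_st h hqp.symm]
  have : Nontrivial (S.st p q) := ⟨⟨⟨a, ha, hay⟩, 1, fun e => ha1 (congrArg Subtype.val e)⟩⟩
  exact Finite.one_lt_card

/-! ### Trivial intersection -/

variable [Finite G]

lemma ti {x y : X} (hxy : x ≠ y) {c : G} (hx : c ∈ S.N x) (hy : c ∈ S.N y) : c = 1 := by
  set L : X → X → Set X := fun u v => {z | S.N u ⊓ S.N v ≤ S.N z} with hL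
  have heq : ∀ {u v z w : X}, u ≠ v → z ≠ w → z ∈ L u v → w ∈ L u v → L z w = L u v := by
    intro u v z w huv hzw hz hw
    have h1 : S.N u ⊓ S.N v = S.N z ⊓ S.N w :=
      SetLike.coe_injective ((Set.toFinite _).eq_of_subset_of_encard_le
        (le_inf hz hw : S.N u ⊓ S.N v ≤ S.N z ⊓ S.N w) (by
          rw [← Set.Finite.cast_ncard_eq (Set.toFinite _), ← Set.Finite.cast_ncard_eq (Set.toFinite _),
            ← Nat.card_coe_set_eq, ← Nat.card_coe_set_eq]
          exact_mod_cast (S.card_meet hzw huv).le))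
    ext p
    simp only [hL, Set.mem_setOf_eq, h1]
  have hpres : ∀ {u v z : X}, ∀ n ∈ S.N u, z ∈ L u v → n • z ∈ L u v := by
    intro u v z n hn hz k hk
    have := S.conj n z k (hz hk)
    rwa [show n * k * n⁻¹ = k by rw [S.comm u n hn k hk.1, mul_inv_cancel_right]] at this
  refine S.faith c fun w => ?_
  by_cases hw : w ∈ L x y
  · exact S.le w c (hw ⟨hx, hy⟩)
  have hxL : x ∈ L x y := fun k hk => hk.1
  have hyL : y ∈ L x y := fun k hk => hk.2
  have hwx : x ≠ w := fun e => hw (e ▸ hxL)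
  have hwy : y ≠ w := fun e => hw (e ▸ hyL)
  have h1 : c • w ∈ L x w := hpres c hx (fun k hk => hk.2)
  have h2 : c • w ∈ L y w := hpres c hy (fun k hk => hk.2)
  by_contra hne
  have e1 := heq hwx (Ne.symm hne) (show w ∈ L x w from fun k hk => hk.2) h1
  have e2 := heq hwy (Ne.symm hne) (show w ∈ L y w from fun k hk => hk.2) h2
  have hx2 : x ∈ L y w := by rw [← e2, e1]; exact fun k hk => hk.1
  have e3 := heq hwy hxy hx2 (fun k hk => hk.1)
  exact hw (show w ∈ L x y by rw [e3]; exact fun k hk => hk.2)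

/-- An element commuting with a nontrivial element of `N x` fixes `x`. -/
lemma fix_of_comm {x : X} {a g : G} (ha : a ∈ S.N x) (ha1 : a ≠ 1) (h : g * a = a * g) :
    g • x = x := by
  by_contra hne
  refine ha1 (S.ti hne ?_ ha)
  have := S.conj g x a ha
  rwa [h, mul_inv_cancel_right] at this

lemma comm_of_fix {x y : X} (hxy : x ≠ y) {a b : G} (ha : a ∈ S.N x) (hb : b ∈ S.N y)
    (hay : a • y = y) (hbx : b • x = x) : a * b = b * a := by
  have h1 : a * b * a⁻¹ * b⁻¹ ∈ S.N y := by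
    have := S.conj a y b hb
    rw [hay] at this
    exact mul_mem this (inv_mem hb)
  have h2 : a * b * a⁻¹ * b⁻¹ ∈ S.N x := by
    have := S.conj b x a⁻¹ (inv_mem ha)
    rw [hbx] at this
    have := mul_mem ha this
    rwa [← mul_assoc, ← mul_assoc] at this
  have := S.ti hxy h2 h1
  rwa [mul_inv_eq_one, mul_inv_eq_iff_eq_mul] at this

/-- The stabilizer of `x` in `N y` fixes the `N x`-orbit of `y` pointwise. -/
lemma st_fix_orbit {x y : X} (hxy : x ≠ y) {a b : G} (ha : a ∈ S.N x) (hb : b ∈ S.N y)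
    (hbx : b • x = x) : b • a • y = a • y := by
  classical
  suffices key : ∀ a ∈ S.N x, b • a⁻¹ • y = a⁻¹ • y by
    simpa using key a⁻¹ (inv_mem ha)
  intro a ha
  by_cases hay : a • y = y
  · rw [inv_smul_eq_iff.2 hay.symm, S.le y b hb]
  set y' := a • y with hy'
  have hy'x : y' ≠ x := fun e => hxy (smul_left_cancel a (e.trans (S.le x a ha).symm)).symm
  set r := Nat.card (S.st x y) with hr
  have hr1 : 1 < r := S.one_lt_card_st hxy
  obtain ⟨p, hp, hpr⟩ := Nat.exists_prime_and_dvd (show r ≠ 1 by omega)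
  have := Fact.mk hp
  obtain ⟨a₀, ha₀⟩ := exists_prime_orderOf_dvd_card' (G := S.st x y) p hpr
  have ha1 : (a₀ : G) ≠ 1 := fun e => by
    rw [show a₀ = 1 from Subtype.ext e, orderOf_one] at ha₀
    exact hp.one_lt.ne ha₀
  have hpow : (a₀ : G) ^ p = 1 := by
    have := pow_orderOf_eq_one a₀
    rw [ha₀] at this
    exact_mod_cast congrArg Subtype.val this
  obtain ⟨hA, hAy⟩ := S.mem_st.1 a₀.2
  have hAy' : (a₀ : G) • y' = y' := by
    rw [hy', ← mul_smul, S.comm x _ hA a ha, mul_smul, hAy]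
  -- an element of `N y` fixing `y'` and commuting with `a₀`
  let H := S.st y y'
  have hH : Nat.card H = r := S.card_st (Ne.symm hay) hxy
  have hHconj : ∀ k : H, (a₀ : G) * k * (a₀ : G)⁻¹ ∈ H := fun k => by
    refine ⟨?_, ?_⟩
    · have := S.conj a₀ y k k.2.1; rwa [hAy] at this
    · show ((a₀ : G) * k * (a₀ : G)⁻¹) • y' = y'
      rw [mul_smul, mul_smul, inv_smul_eq_iff.2 hAy'.symm, show (k : G) • y' = y' from k.2.2, hAy']
  let f : H → H := fun k => ⟨(a₀ : G) * k * (a₀ : G)⁻¹, hHconj k⟩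
  have hfinj : Function.Injective f := fun k k' e => Subtype.ext (by simpa [f] using e)
  let σ : Equiv.Perm H := Equiv.ofBijective f (Finite.injective_iff_bijective.1 hfinj)
  have hiter : ∀ (n : ℕ) (k : H), (((σ ^ n) k : H) : G) = (a₀ : G) ^ n * k * ((a₀ : G) ^ n)⁻¹ := by
    intro n
    induction n with
    | zero => simp
    | succ n ih =>
      intro k
      rw [pow_succ' σ, Equiv.Perm.mul_apply]
      show (a₀ : G) * _ * (a₀ : G)⁻¹ = _
      rw [ih, pow_succ' (a₀ : G)]
      group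
  have hσ : σ ^ p ^ 1 = 1 := by
    refine Equiv.ext fun k => Subtype.ext ?_
    rw [pow_one, hiter, hpow]
    simp
  have := Fintype.ofFinite H
  obtain ⟨e, he, he1⟩ := Equiv.Perm.exists_fixed_point_of_prime' (α := H) (n := 1)
    (by rw [← Nat.card_eq_fintype_card, hH]; exact hpr) hσ (a := 1) (Subtype.ext (by simp [σ, f]))
  have hcomm : (a₀ : G) * e = e * a₀ := by
    have := congrArg Subtype.val he
    simp only [σ, f, Equiv.ofBijective_apply] at this
    exact mul_inv_eq_iff_eq_mul.1 this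
  have hex : (e : G) • x = x := S.fix_of_comm hA ha1 hcomm.symm
  obtain ⟨hey, hey'⟩ := S.mem_st.1 e.2
  -- conjugate
  set c := a⁻¹ * e * a * (e : G)⁻¹ with hc
  have hcx : c ∈ S.N x := by
    have := S.conj e x a ha
    rw [hex] at this
    have := mul_mem (inv_mem ha) this
    rwa [← mul_assoc, ← mul_assoc] at this
  have hcy : c • y = y := by
    rw [hc, mul_smul, mul_smul, mul_smul, inv_smul_eq_iff.2 (S.le y e hey).symm, ← hy', hey', hy',
      inv_smul_smul]
  have hcb : c * b = b * c := S.comm_of_fix hxy hcx hb hcy hbx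
  have heb : (e : G) * b = b * e := S.comm y e hey b hb
  have h1 : a⁻¹ * e * a = c * e := by rw [hc, inv_mul_cancel_right]
  have h2 : (e : G) * (a * b * a⁻¹) = a * b * a⁻¹ * e := by
    have h3 : a⁻¹ * e * a * b = b * (a⁻¹ * e * a) := by
      rw [h1, mul_assoc, heb, ← mul_assoc, hcb, mul_assoc]
    calc (e : G) * (a * b * a⁻¹) = a * (a⁻¹ * e * a * b) * a⁻¹ := by group
      _ = a * (b * (a⁻¹ * e * a)) * a⁻¹ := by rw [h3]
      _ = a * b * a⁻¹ * e := by group
  have h4 := S.fix_of_comm hey (fun he' => he1 (Subtype.ext he')) h2.symm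
  rw [mul_smul, mul_smul] at h4
  exact smul_left_cancel a (h4.trans (smul_inv_smul a y).symm)

lemma comm_mem {u x : X} (hux : u ≠ x) {a n : G} (ha : a ∈ S.N x) (hau : a • u = u)
    (hn : n ∈ S.N u) : a * n * a⁻¹ * n⁻¹ ∈ S.st u x := by
  refine S.mem_st.2 ⟨?_, ?_⟩
  · have := S.conj a u n hn
    rw [hau] at this
    exact mul_mem this (inv_mem hn)
  · show (a * n * a⁻¹ * n⁻¹) • x = x
    rw [mul_smul, mul_smul, mul_smul,
      inv_smul_eq_iff.2 (S.st_fix_orbit hux (inv_mem hn) ha hau).symm, smul_inv_smul, S.le x a ha]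

lemma eq_one_of_comm_eq {u x : X} {a a' n : G} (ha : a ∈ S.N x) (ha' : a' ∈ S.N x)
    (hnx : n • x ≠ x) (e : a * n * a⁻¹ * n⁻¹ = a' * n * a'⁻¹ * n⁻¹) (_hu : n ∈ S.N u) :
    a = a' := by
  by_contra hne
  refine hnx (S.fix_of_comm (mul_mem (inv_mem ha') ha) (fun e' => hne (inv_mul_eq_one.1 e').symm) ?_)
  have e1 : a * n * a⁻¹ = a' * n * a'⁻¹ := mul_right_cancel e
  calc n * (a'⁻¹ * a) = a'⁻¹ * (a' * n * a'⁻¹) * a := by group
    _ = a'⁻¹ * (a * n * a⁻¹) * a := by rw [e1]
    _ = a'⁻¹ * a * n := by group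

/-! ### Lines -/

/-- The line through two points. -/
def line (x y : X) : Set X := {z | ∀ a ∈ S.N x, a • y = y → a • z = z}

lemma left_mem_line (x y : X) : x ∈ S.line x y := fun a ha _ => S.le x a ha

lemma right_mem_line (x y : X) : y ∈ S.line x y := fun _ _ h => h

lemma smul_mem_line {g : G} {x y z : X} (hz : z ∈ S.line x y) :
    g • z ∈ S.line (g • x) (g • y) := by
  intro a ha hay
  have h1 : g⁻¹ * a * g ∈ S.N x := by simpa using S.conj g⁻¹ _ a ha
  have h2 := hz _ h1 (by rw [mul_smul, mul_smul, hay, inv_smul_smul])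
  rw [mul_smul, mul_smul, inv_smul_eq_iff] at h2
  exact h2

lemma orbit_mem_line {x y : X} {n : G} (hn : n ∈ S.N x) : n • y ∈ S.line x y := by
  intro a ha hay
  rw [← mul_smul, S.comm x a ha n hn, mul_smul, hay]

lemma st_eq {x y z : X} (hxy : x ≠ y) (hzx : x ≠ z) (hz : z ∈ S.line x y) :
    S.st x z = S.st x y := by
  have hle : S.st x y ≤ S.st x z := fun a ha => ⟨ha.1, hz a ha.1 ha.2⟩
  exact (Subgroup.eq_of_le_of_card_ge hle (S.card_st hzx hxy).le).symm

lemma mem_line_symm {x y z : X} (hxy : x ≠ y) (hz : z ∈ S.line x y) : z ∈ S.line y x := by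
  intro b hb hbx
  by_cases hzy : z = y
  · rw [hzy]; exact S.le y b hb
  by_cases hzx : z = x
  · rw [hzx]; exact hbx
  by_contra hbz
  obtain ⟨n, hn, hnx⟩ : ∃ n ∈ S.st y z, n • x ≠ x := by
    by_contra hc
    push_neg at hc
    have hle : S.st y z ≤ S.st y x := fun n hn => ⟨hn.1, hc n hn⟩
    have := Subgroup.eq_of_le_of_card_ge hle (S.card_st hxy.symm (Ne.symm hzy)).le
    exact hbz ((show b ∈ S.st y z from this ▸ ⟨hb, hbx⟩).2)
  let f : S.st x y → ↥(S.st y x ⊓ S.st y z) := fun a => ⟨a * n * (a : G)⁻¹ * n⁻¹,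
    S.comm_mem hxy.symm a.2.1 a.2.2 hn.1, (S.comm_mem hxy.symm a.2.1 a.2.2 hn.1).1, by
      show ((a : G) * n * (a : G)⁻¹ * n⁻¹) • z = z
      have haz : (a : G) • z = z := hz a a.2.1 a.2.2
      rw [mul_smul, mul_smul, mul_smul, inv_smul_eq_iff.2 hn.2.symm,
        inv_smul_eq_iff.2 haz.symm, show n • z = z from hn.2, haz]⟩
  have hf : Function.Injective f := fun a a' e =>
    Subtype.ext (S.eq_one_of_comm_eq a.2.1 a'.2.1 hnx (congrArg Subtype.val e) hn.1)
  have h1 := Nat.card_le_card_of_injective f hf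
  rw [S.card_st hxy hxy.symm] at h1
  have h2 : S.st y x ⊓ S.st y z = S.st y x := Subgroup.eq_of_le_of_card_ge inf_le_left h1
  exact hbz ((inf_eq_left.1 h2) ⟨hb, hbx⟩).2

lemma line_comm {x y : X} (hxy : x ≠ y) : S.line x y = S.line y x :=
  Set.ext fun _ => ⟨S.mem_line_symm hxy, S.mem_line_symm hxy.symm⟩

lemma line_eq {x y z w : X} (hxy : x ≠ y) (hzw : z ≠ w) (hz : z ∈ S.line x y)
    (hw : w ∈ S.line x y) : S.line z w = S.line x y := by
  have step : ∀ {x y z : X}, x ≠ y → x ≠ z → z ∈ S.line x y → S.line x z = S.line x y := by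
    intro x y z hxy hxz hz
    have h := S.st_eq hxy hxz hz
    ext p
    exact ⟨fun hp a ha hay => hp a ha ((h.symm ▸ ⟨ha, hay⟩ : a ∈ S.st x z)).2,
      fun hp a ha haz => hp a ha ((h ▸ ⟨ha, haz⟩ : a ∈ S.st x y)).2⟩
  by_cases hzx : z = x
  · subst hzx; exact step hxy hzw hw
  have h1 : S.line z x = S.line x y := by rw [S.line_comm hzx, step hxy (Ne.symm hzx) hz]
  rw [← h1]
  exact step hzx hzw (h1.symm ▸ hw)

/-- An element of `N x` fixing two points fixes their line. -/
lemma fix_line {x u w z : X} {a : G} (ha : a ∈ S.N x) (hau : a • u = u) (haw : a • w = w)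
    (huw : u ≠ w) (hz : z ∈ S.line u w) : a • z = z := by
  by_cases hzx : z = x
  · rw [hzx]; exact S.le x a ha
  by_contra hne
  have h1 : a • z ∈ S.line u w := by
    have := S.smul_mem_line (g := a) hz
    rwa [hau, haw] at this
  have h2 : a • z ∈ S.line x z := S.orbit_mem_line ha
  have e1 := S.line_eq huw (Ne.symm hne) hz h1
  have e2 := S.line_eq (Ne.symm hzx) (Ne.symm hne) (S.right_mem_line x z) h2
  have hx : x ∈ S.line u w := by rw [← e1, e2]; exact S.left_mem_line x z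
  obtain ⟨v, hv, hvx, hav⟩ : ∃ v, v ∈ S.line u w ∧ v ≠ x ∧ a • v = v := by
    by_cases hux : u = x
    · exact ⟨w, S.right_mem_line u w, fun e => huw (hux.trans e.symm), haw⟩
    · exact ⟨u, S.left_mem_line u w, hux, hau⟩
  have e3 := S.line_eq huw (Ne.symm hvx) hx hv
  exact hne ((e3.symm ▸ hz : z ∈ S.line x v) a ha hav)

lemma fix_orbit {x u w : X} {a n : G} (ha : a ∈ S.N x) (hau : a • u = u) (haw : a • w = w)
    (hn : n ∈ S.N u) : a • n • w = n • w := by
  by_cases hwu : w = u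
  · rw [hwu, S.le u n hn, hau]
  · exact S.fix_line ha hau haw (Ne.symm hwu) (S.orbit_mem_line hn)

/-- The commutator map does not shrink fixed point sets. -/
lemma comm_fix {x u w : X} {a n : G} (ha : a ∈ S.N x) (hau : a • u = u) (haw : a • w = w)
    (hn : n ∈ S.N u) : (a * n * a⁻¹ * n⁻¹) • w = w := by
  rw [mul_smul, mul_smul, mul_smul,
    inv_smul_eq_iff.2 (S.fix_orbit ha hau haw (inv_mem hn)).symm, smul_inv_smul, haw]

end Setup

end Cfsg.Agent.ONan80
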