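import Mathlib
import Cfsg.Agent.Lib.ONan80Basic

/-!
# Counting in the linear space of an abelian normal subgroup of a point stabilizer

The fixed point sets of the nontrivial elements of the groups `N x` form a single orbit whose
length is the degree.
-/

set_option autoImplicit false

namespace Cfsg.Agent.ONan80

open Finset

variable {G X : Type*} [Group G] [MulAction G X]

namespace Setup

/-- The fixed points of an element. -/
def fx [Fintype X] [DecidableEq X] (_S : Setup G X) (g : G) : Finset X :=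
  univ.filter fun p => g • p = p

variable (S : Setup G X) [Finite G] [Fintype X] [DecidableEq X]

include S

omit [Finite G] in
lemma mem_fx {g : G} {p : X} : p ∈ S.fx g ↔ g • p = p := by simp [fx]

omit [Finite G] in
lemma fx_conj (g a : G) : S.fx (g * a * g⁻¹) = (S.fx a).image (fun p => g • p) := by
  ext p
  simp only [mem_fx, mem_image, mul_smul]
  constructor
  · intro h
    exact ⟨g⁻¹ • p, eq_inv_smul_iff.2 h, smul_inv_smul g p⟩
  · rintro ⟨w, hw, rfl⟩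
    rw [inv_smul_smul, hw]

omit [Finite G] in
lemma card_fx_conj (g a : G) : (S.fx (g * a * g⁻¹)).card = (S.fx a).card := by
  rw [fx_conj, card_image_of_injective _ (MulAction.injective g)]

omit [Finite G] in
lemma fx_ne_univ {x : X} {a : G} (_ha : a ∈ S.N x) (ha1 : a ≠ 1) : S.fx a ≠ univ := fun e =>
  ha1 (S.faith a fun p => S.mem_fx.1 (e ▸ mem_univ p))

lemma card_N (x y : X) : Nat.card (S.N x) = Nat.card (S.N y) := by
  obtain ⟨x', hx'⟩ := S.exists_other x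
  obtain ⟨y', hy'⟩ := S.exists_other y
  exact S.card_pair (fun x _ => S.N x) (fun g x _ a ha => S.conj g x a ha) hx'.symm hy'.symm

lemma card_orbit_mul {x u : X} :
    Nat.card (MulAction.orbit ↥(S.N x) u) * Nat.card (S.st x u) = Nat.card (S.N x) := by
  classical
  have := Fintype.ofFinite ↥(S.N x)
  have := Fintype.ofFinite (MulAction.orbit ↥(S.N x) u)
  have := Fintype.ofFinite (MulAction.stabilizer ↥(S.N x) u)
  have h := MulAction.card_orbit_mul_card_stabilizer_eq_card_group ↥(S.N x) u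
  rw [← Nat.card_eq_fintype_card, ← Nat.card_eq_fintype_card, ← Nat.card_eq_fintype_card] at h
  rw [← h]
  congr 1
  exact Nat.card_congr
    ⟨fun a => ⟨⟨a, a.2.1⟩, a.2.2⟩, fun a => ⟨(a.1 : G), a.1.2, a.2⟩, fun _ => rfl, fun _ => rfl⟩

lemma card_orbit_eq {x u y w : X} (h : x ≠ u) (h' : y ≠ w) :
    Nat.card (MulAction.orbit ↥(S.N x) u) = Nat.card (MulAction.orbit ↥(S.N y) w) := by
  have h1 := S.card_orbit_mul (x := x) (u := u)
  rw [S.card_N x y, S.card_st h h', ← S.card_orbit_mul (x := y) (u := w)] at h1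
  exact Nat.eq_of_mul_eq_mul_right Nat.card_pos h1

/-- The commutator with a fixed element is onto. -/
lemma exists_comm_eq {x u : X} (hxu : x ≠ u) {n : G} (hn : n ∈ S.N u) (hnx : n • x ≠ x) {g : G}
    (hg : g ∈ S.st u x) : ∃ a ∈ S.st x u, a * n * a⁻¹ * n⁻¹ = g := by
  let f : S.st x u → S.st u x := fun a => ⟨_, S.comm_mem hxu.symm a.2.1 a.2.2 hn⟩
  have hf : Function.Injective f := fun a a' e =>
    Subtype.ext (S.eq_one_of_comm_eq a.2.1 a'.2.1 hnx (congrArg Subtype.val e) hn)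
  obtain ⟨a, ha⟩ := ((Nat.bijective_iff_injective_and_card f).2
    ⟨hf, S.card_st hxu hxu.symm⟩).2 ⟨g, hg⟩
  exact ⟨a, a.2, congrArg Subtype.val ha⟩

lemma fx_subset_comm {x u : X} {a n : G} (ha : a ∈ S.st x u) (hn : n ∈ S.N u) :
    S.fx a ⊆ S.fx (a * n * a⁻¹ * n⁻¹) := fun _ hw =>
  S.mem_fx.2 (S.comm_fix ha.1 ha.2 (S.mem_fx.1 hw) hn)

/-- The commutator map preserves fixed point sets. -/
lemma fx_comm {x u : X} (hxu : x ≠ u) {a n : G} (ha : a ∈ S.st x u) (hn : n ∈ S.N u)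
    (hnx : n • x ≠ x) : S.fx (a * n * a⁻¹ * n⁻¹) = S.fx a := by
  classical
  obtain ⟨n', hn', hn'u⟩ := S.exists_move hxu.symm
  let f : S.st x u → S.st u x := fun b => ⟨_, S.comm_mem hxu.symm b.2.1 b.2.2 hn⟩
  let f' : S.st u x → S.st x u := fun b => ⟨_, S.comm_mem hxu b.2.1 b.2.2 hn'⟩
  have hf : Function.Injective f := fun b b' e =>
    Subtype.ext (S.eq_one_of_comm_eq b.2.1 b'.2.1 hnx (congrArg Subtype.val e) hn)
  have hf' : Function.Injective f' := fun b b' e =>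
    Subtype.ext (S.eq_one_of_comm_eq b.2.1 b'.2.1 hn'u (congrArg Subtype.val e) hn')
  have := Fintype.ofFinite (S.st x u)
  let e : Equiv.Perm (S.st x u) :=
    Equiv.ofBijective (f' ∘ f) (Finite.injective_iff_bijective.1 (hf'.comp hf))
  have h1 : ∀ b : S.st x u, S.fx (b : G) ⊆ S.fx (f b : G) := fun b => S.fx_subset_comm b.2 hn
  have h2 : ∀ b : S.st x u, S.fx (f b : G) ⊆ S.fx (e b : G) :=
    fun b => S.fx_subset_comm (f b).2 hn'
  have hsum := (Finset.sum_eq_sum_iff_of_le (s := univ)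
    (fun b _ => card_le_card ((h1 b).trans (h2 b)))).1
    (Equiv.sum_comp e fun b => (S.fx (b : G)).card).symm
  have h3 : S.fx a = S.fx (e ⟨a, ha⟩ : G) :=
    eq_of_subset_of_card_le ((h1 ⟨a, ha⟩).trans (h2 _)) (hsum ⟨a, ha⟩ (mem_univ _)).ge
  exact Subset.antisymm ((h2 ⟨a, ha⟩).trans h3.ge) (h1 ⟨a, ha⟩)

omit [Finite G] [Fintype X] [DecidableEq X] in
lemma comm_mul {x : X} {d m m' : G} (hd : d • x = x) (hm : m ∈ S.N x) (hm' : m' ∈ S.N x) :
    d * (m * m') * d⁻¹ * (m * m')⁻¹ = (d * m * d⁻¹ * m⁻¹) * (d * m' * d⁻¹ * m'⁻¹) := by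
  have h1 : d * m' * d⁻¹ * m'⁻¹ ∈ S.N x := by
    have := S.conj d x m' hm'
    rw [hd] at this
    exact mul_mem this (inv_mem hm')
  rw [mul_assoc (d * m * d⁻¹) m⁻¹, S.comm x _ (inv_mem hm) _ h1]
  group

omit [Finite G] [Fintype X] [DecidableEq X] in
lemma comm_div {x : X} {d m m' : G} (hd : d • x = x) (hm : m ∈ S.N x) (hm' : m' ∈ S.N x) :
    d * (m'⁻¹ * m) * d⁻¹ * (m'⁻¹ * m)⁻¹
      = (d * m' * d⁻¹ * m'⁻¹)⁻¹ * (d * m * d⁻¹ * m⁻¹) := by
  have h := S.comm_mul hd hm' (mul_mem (inv_mem hm') hm)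
  rw [mul_inv_cancel_left] at h
  rw [eq_inv_mul_iff_mul_eq, ← h]

/-- Two stabilizers belonging to different lines generate `N x`. -/
lemma cover {x u w : X} (hxu : x ≠ u) (hxw : x ≠ w) {a : G} (ha : a ∈ S.st x u)
    (haw : a • w ≠ w) {m : G} (hm : m ∈ S.N x) : ∃ h ∈ S.st x u, h • w = m • w := by
  obtain ⟨m₀, hm₀, hm₀u⟩ := S.exists_move hxu.symm
  obtain ⟨d, hd, hda⟩ := S.exists_comm_eq hxu.symm hm₀ hm₀u ha
  have hfd : S.fx a = S.fx d := by rw [← hda]; exact S.fx_comm hxu.symm hd hm₀ hm₀u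
  have hmem : ∀ n : S.N x, d * n * d⁻¹ * (n : G)⁻¹ ∈ S.st x u := fun n =>
    S.comm_mem hxu hd.1 hd.2 n.2
  let F : MulAction.orbit ↥(S.N x) u → MulAction.orbit ↥(S.N x) w := fun p =>
    ⟨(d * (Classical.choose p.2 : ↥(S.N x)) * d⁻¹ * ((Classical.choose p.2 : ↥(S.N x)) : G)⁻¹) • w,
      ⟨⟨_, (hmem _).1⟩, rfl⟩⟩
  have hF : Function.Injective F := by
    intro p p' e
    have hp := Classical.choose_spec p.2
    have hp' := Classical.choose_spec p'.2
    set n := (Classical.choose p.2 : ↥(S.N x))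
    set n' := (Classical.choose p'.2 : ↥(S.N x))
    have e' : (d * n * d⁻¹ * (n : G)⁻¹) • w = (d * n' * d⁻¹ * (n' : G)⁻¹) • w :=
      congrArg Subtype.val e
    by_contra hne
    have hmv : ((n' : G)⁻¹ * n) • u ≠ u := by
      intro h
      apply hne
      rw [mul_smul, inv_smul_eq_iff] at h
      exact Subtype.ext ((hp.symm.trans h).trans hp')
    have h1 : d * ((n' : G)⁻¹ * n) * d⁻¹ * ((n' : G)⁻¹ * n)⁻¹ ∈ S.st x u := hmem (n'⁻¹ * n)
    have h2 := S.fx_comm hxu.symm hd (mul_mem (inv_mem n'.2) n.2) hmv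
    have h3 : w ∈ S.fx (d * ((n' : G)⁻¹ * n) * d⁻¹ * ((n' : G)⁻¹ * n)⁻¹) := by
      rw [S.mem_fx, S.comm_div hd.2 n.2 n'.2, mul_smul, e', inv_smul_smul]
    rw [h2, ← hfd, S.mem_fx] at h3
    exact haw h3
  obtain ⟨p, hp⟩ := ((Nat.bijective_iff_injective_and_card F).2
    ⟨hF, S.card_orbit_eq hxu hxw⟩).2 ⟨m • w, ⟨m, hm⟩, rfl⟩
  exact ⟨_, hmem (Classical.choose p.2), congrArg Subtype.val hp⟩

omit [Fintype X] [DecidableEq X] in
lemma exists_off_line {x u : X} (hxu : x ≠ u) : ∃ z, z ∉ S.line x u := by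
  by_contra hc
  push_neg at hc
  have h := S.one_lt_card_st hxu
  have : Nontrivial (S.st x u) := Finite.one_lt_card_iff_nontrivial.1 h
  obtain ⟨a, ha⟩ := exists_ne (1 : S.st x u)
  exact ha (Subtype.ext (S.faith a fun p => hc p a a.2.1 a.2.2))

lemma conj_step {x u : X} (hxu : x ≠ u) {a h : G} (ha : a ∈ S.N x) (hau : a • u ≠ u)
    (hh : h ∈ S.st x u) : ∃ g : G, g • x = x ∧ g * a * g⁻¹ = h * a := by
  obtain ⟨d, hd, hda⟩ := S.exists_comm_eq hxu.symm ha hau hh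
  exact ⟨d, hd.2, by rw [← hda, inv_mul_cancel_right]⟩

lemma conj_two_step {x u w : X} (hxu : x ≠ u) (hxw : x ≠ w) {a₀ a b : G} (ha₀ : a₀ ∈ S.st x u)
    (ha₀w : a₀ • w ≠ w) (ha : a ∈ S.N x) (hb : b ∈ S.N x) (hau : a • u ≠ u) (hbw : b • w ≠ w) :
    ∃ g : G, g • x = x ∧ g * a * g⁻¹ = b := by
  obtain ⟨h, hh, hhw⟩ := S.cover hxu hxw ha₀ ha₀w (mul_mem hb (inv_mem ha))
  set h' := h⁻¹ * (b * a⁻¹) with hh'
  have hh'x : h' ∈ S.st x w := S.mem_st.2 ⟨mul_mem (inv_mem hh.1) (mul_mem hb (inv_mem ha)), by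
    show h' • w = w
    rw [hh', mul_smul, ← hhw, inv_smul_smul]⟩
  have hb' : b = h' * (h * a) := by
    rw [← mul_assoc, S.comm x h' hh'x.1 h hh.1, hh', mul_inv_cancel_left, inv_mul_cancel_right]
  obtain ⟨g, hg, e⟩ := S.conj_step hxu ha hau hh
  obtain ⟨g', hg', e'⟩ := S.conj_step hxw (mul_mem hh.1 ha) (fun hc => hbw (by
    rw [hb', mul_smul, hc]; exact hh'x.2)) hh'x
  refine ⟨g' * g, by rw [mul_smul, hg, hg'], ?_⟩
  rw [hb', ← e', ← e]
  group

omit [Fintype X] [DecidableEq X] in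
lemma exists_mover {x : X} {a : G} (ha : a ∈ S.N x) (ha1 : a ≠ 1) :
    ∃ u, x ≠ u ∧ a • u ≠ u := by
  by_contra hc
  push_neg at hc
  refine ha1 (S.faith a fun u => ?_)
  by_cases h : x = u
  · rw [← h]; exact S.le x a ha
  · exact hc u h

/-- The stabilizer of `x` is transitive on the nontrivial elements of `N x`. -/
lemma conj_trans {x : X} {a b : G} (ha : a ∈ S.N x) (ha1 : a ≠ 1) (hb : b ∈ S.N x)
    (hb1 : b ≠ 1) : ∃ g : G, g • x = x ∧ g * a * g⁻¹ = b := by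
  obtain ⟨u, hxu, hau⟩ := S.exists_mover ha ha1
  obtain ⟨w, hxw, hbw⟩ := S.exists_mover hb hb1
  have sep : ∀ {u z : X}, z ∉ S.line x u → ∃ a₀ ∈ S.st x u, a₀ • z ≠ z := by
    intro u z hz
    by_contra hc
    push_neg at hc
    exact hz fun c hc1 hc2 => hc c ⟨hc1, hc2⟩
  by_cases hw : w ∈ S.line x u
  · obtain ⟨z, hz⟩ := S.exists_off_line hxu
    have hxz : x ≠ z := fun e => hz (e ▸ S.left_mem_line x u)
    obtain ⟨c, hc, hcz⟩ := S.exists_move hxz.symm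
    obtain ⟨a₀, ha₀, ha₀z⟩ := sep hz
    obtain ⟨g, hg, e⟩ := S.conj_two_step hxu hxz ha₀ ha₀z ha hc hau hcz
    obtain ⟨b₀, hb₀, hb₀w⟩ := sep (u := z) (z := w) fun h => hz (by
      have h1 := S.line_eq hxz hxw (S.left_mem_line x z) h
      have h2 := S.line_eq hxu hxw (S.left_mem_line x u) hw
      rw [← h2, h1]
      exact S.right_mem_line x z)
    obtain ⟨g', hg', e'⟩ := S.conj_two_step hxz hxw hb₀ hb₀w hc hb hcz hbw
    refine ⟨g' * g, by rw [mul_smul, hg, hg'], ?_⟩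
    rw [← e', ← e]
    group
  · obtain ⟨a₀, ha₀, ha₀w⟩ := sep hw
    exact S.conj_two_step hxu hxw ha₀ ha₀w ha hb hau hbw

lemma card_fx_eq {x y : X} {a b : G} (ha : a ∈ S.N x) (ha1 : a ≠ 1) (hb : b ∈ S.N y)
    (hb1 : b ≠ 1) : (S.fx a).card = (S.fx b).card := by
  obtain ⟨x', hx'⟩ := S.exists_other x
  obtain ⟨y', hy'⟩ := S.exists_other y
  obtain ⟨g, rfl, -⟩ := S.two x x' y y' hx'.symm hy'.symm
  obtain ⟨g', -, e⟩ := S.conj_trans (S.conj g x a ha) (fun e => ha1 (conj_eq_one_iff.1 e)) hb hb1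
  rw [← e, S.card_fx_conj, S.card_fx_conj]

/-- The elements of `N x` fixing a given set pointwise. -/
def fixer (x : X) (D : Finset X) : Subgroup G where
  carrier := {c | c ∈ S.N x ∧ ∀ p ∈ D, c • p = p}
  one_mem' := ⟨one_mem _, fun p _ => one_smul _ p⟩
  mul_mem' := fun h h' => ⟨mul_mem h.1 h'.1, fun p hp => by rw [mul_smul, h'.2 p hp, h.2 p hp]⟩
  inv_mem' := fun h => ⟨inv_mem h.1, fun p hp => inv_smul_eq_iff.2 (h.2 p hp).symm⟩

lemma fx_eq_of_mem_fixer {x : X} {a c : G} (ha : a ∈ S.N x) (ha1 : a ≠ 1)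
    (hc : c ∈ S.fixer x (S.fx a)) (hc1 : c ≠ 1) : S.fx c = S.fx a :=
  (eq_of_subset_of_card_le (fun p hp => S.mem_fx.2 (hc.2 p hp))
    (S.card_fx_eq hc.1 hc1 ha ha1).le).symm

lemma card_fixer {x : X} {a : G} (ha : a ∈ S.N x) (ha1 : a ≠ 1) {p q : X} (hpq : p ≠ q) :
    Nat.card (S.fixer x (S.fx a)) = Nat.card (MulAction.orbit ↥(S.N p) q) := by
  classical
  obtain ⟨w, hxw, haw⟩ := S.exists_mover ha ha1
  obtain ⟨x₀, y₀, a₀, hy₀, ha₀, ha₀1, hay₀⟩ := S.nonsr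
  obtain ⟨u, hu, hux⟩ : ∃ u, u ∈ S.fx a ∧ u ≠ x := by
    refine exists_mem_ne ?_ x
    rw [S.card_fx_eq ha ha1 ha₀ ha₀1]
    exact one_lt_card.2 ⟨x₀, S.mem_fx.2 (S.le x₀ a₀ ha₀), y₀, S.mem_fx.2 hay₀, hy₀.symm⟩
  apply le_antisymm
  · rw [S.card_orbit_eq hpq hxw]
    refine Nat.card_le_card_of_injective
      (fun c : S.fixer x (S.fx a) =>
        (⟨(c : G) • w, ⟨⟨c, c.2.1⟩, rfl⟩⟩ : MulAction.orbit ↥(S.N x) w)) fun c c' e => ?_
    have e' : (c : G) • w = (c' : G) • w := congrArg Subtype.val e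
    by_contra hne
    have h1 := S.fx_eq_of_mem_fixer ha ha1 (mul_mem (inv_mem c'.2) c.2)
      (fun h => hne (Subtype.ext (inv_mul_eq_one.1 h).symm))
    have h2 : w ∈ S.fx ((c' : G)⁻¹ * c) := by rw [S.mem_fx, mul_smul, e', inv_smul_smul]
    rw [h1, S.mem_fx] at h2
    exact haw h2
  · rw [S.card_orbit_eq hpq hux.symm]
    have hast : a ∈ S.st x u := ⟨ha, S.mem_fx.1 hu⟩
    obtain ⟨m₀, hm₀, hm₀u⟩ := S.exists_move hux
    obtain ⟨d, hd, hda⟩ := S.exists_comm_eq hux hm₀ hm₀u hast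
    have hfd : S.fx a = S.fx d := by rw [← hda]; exact S.fx_comm hux hd hm₀ hm₀u
    refine Nat.card_le_card_of_injective (fun r : MulAction.orbit ↥(S.N x) u =>
      (⟨d * (Classical.choose r.2 : ↥(S.N x)) * d⁻¹ * ((Classical.choose r.2 : ↥(S.N x)) : G)⁻¹,
        (S.comm_mem hux.symm hd.1 hd.2 (Classical.choose r.2).2).1, fun z hz =>
          S.mem_fx.1 (S.fx_subset_comm hd (Classical.choose r.2).2 (hfd ▸ hz))⟩ :
        S.fixer x (S.fx a))) fun r r' e => ?_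
    have hr := Classical.choose_spec r.2
    have hr' := Classical.choose_spec r'.2
    set n := (Classical.choose r.2 : ↥(S.N x))
    set n' := (Classical.choose r'.2 : ↥(S.N x))
    have e' : d * n * d⁻¹ * (n : G)⁻¹ = d * n' * d⁻¹ * (n' : G)⁻¹ := congrArg Subtype.val e
    by_contra hne
    have hmv : ((n' : G)⁻¹ * n) • u ≠ u := by
      intro h
      apply hne
      rw [mul_smul, inv_smul_eq_iff] at h
      exact Subtype.ext ((hr.symm.trans h).trans hr')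
    have h2 := S.fx_comm hux hd (mul_mem (inv_mem n'.2) n.2) hmv
    rw [S.comm_div hd.2 n.2 n'.2, e', inv_mul_cancel, ← hfd] at h2
    exact haw (S.mem_fx.1 (h2 ▸ S.mem_fx.2 (one_smul _ w)))

end Setup

end Cfsg.Agent.ONan80
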