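import Mathlib
import Cfsg.Prelude.Def_Local
import Cfsg.Agent.Lib.ONan80Count
import Cfsg.Agent.Lib.Axial80Main
import Cfsg.Agent.Lib.ComponentsFitting
import Cfsg.Agent.Lib.PSLSimple

/-!
# O'Nan's characterisation of the projective groups by an abelian normal subgroup of a point
stabilizer
-/

set_option autoImplicit false
set_option maxHeartbeats 1000000

namespace Cfsg.Agent.ONan80

open Finset
open scoped Pointwise

variable {G X : Type*} [Group G] [MulAction G X]

namespace Setup

variable (S : Setup G X) [Finite G] [Fintype X] [DecidableEq X]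

include S

/-- The block count: the fixed point sets form one orbit of length the degree. -/
theorem exists_subgroup : ∃ H : Subgroup G, H.index = Nat.card X ∧
    ¬ MulAction.IsPretransitive H X ∧ (∀ z : X, ∃ h : H, h • z ≠ z) ∧
    ∃ z : X, ∃ h : H, h ≠ 1 ∧ ∀ b ∈ MulAction.orbit H z, h • b = b := by
  classical
  have := Fintype.ofFinite G
  obtain ⟨x, y, a, hyx, ha, ha1, hay⟩ := S.nonsr
  set k := (S.fx a).card with hk
  set r := Nat.card (S.st x y) with hr
  set l := Nat.card (MulAction.orbit ↥(S.N x) y) with hl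
  have hkc : ∀ {p : X} {b : G}, b ∈ S.N p → b ≠ 1 → (S.fx b).card = k := fun hb hb1 =>
    S.card_fx_eq hb hb1 ha ha1
  have hr2 : 2 ≤ r := S.one_lt_card_st hyx.symm
  have hst : ∀ {p q : X}, p ≠ q → Nat.card (S.st p q) = r := fun h => S.card_st h hyx.symm
  have horb : ∀ {p q : X}, p ≠ q → Nat.card (MulAction.orbit ↥(S.N p) q) = l := fun h =>
    S.card_orbit_eq h hyx.symm
  have hN : Nat.card (S.N x) = l * r := (S.card_orbit_mul).symm
  have hl2 : 2 ≤ l := by
    obtain ⟨n, hn, hny⟩ := S.exists_move (u := x) hyx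
    have : Nontrivial (MulAction.orbit ↥(S.N x) y) := ⟨⟨⟨y, MulAction.mem_orbit_self y⟩,
      ⟨n • y, ⟨⟨n, hn⟩, rfl⟩⟩, fun e => hny (congrArg Subtype.val e).symm⟩⟩
    exact Finite.one_lt_card
  -- the nontrivial elements of `N x`
  set As : Finset G := univ.filter fun b => b ∈ S.N x ∧ b ≠ 1 with hAs
  have hAmem : ∀ {b}, b ∈ As ↔ b ∈ S.N x ∧ b ≠ 1 := by simp [hAs]
  have hcardK : ∀ (K : Subgroup G), (univ.filter fun b => b ∈ K ∧ b ≠ 1).card + 1 = Nat.card K := by
    intro K
    rw [Nat.card_eq_fintype_card, Fintype.card_subtype,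
      ← card_erase_add_one (show (1 : G) ∈ univ.filter (· ∈ K) by simp)]
    congr 2; ext g; simp [and_comm]
  have hAcard : As.card + 1 = l * r := by rw [hAs, hcardK, hN]
  have hfix : ∀ b ∈ As, ((univ.erase x).filter fun u => b • u = u).card + 1 = k := by
    intro b hb
    obtain ⟨hb, hb1⟩ := hAmem.1 hb
    rw [← hkc hb hb1, ← card_erase_add_one (S.mem_fx.2 (S.le x b hb))]
    congr 2; ext u; simp [S.mem_fx]
  have hAst : ∀ u, (As.filter fun b => b • u = u).card + 1 = Nat.card (S.st x u) := by
    intro u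
    rw [← hcardK]
    congr 2; ext b; simp [hAs, S.mem_st, and_assoc, and_comm]; tauto
  -- the first equation
  have e1 : As.card * (k - 1) = (Fintype.card X - 1) * (r - 1) := by
    calc As.card * (k - 1)
        = ∑ b ∈ As, ((univ.erase x).filter fun u => b • u = u).card := by
          rw [sum_congr rfl fun b hb => (show _ = k - 1 by have := hfix b hb; omega), sum_const,
            smul_eq_mul]
      _ = ∑ u ∈ univ.erase x, (As.filter fun b => b • u = u).card := by
          simp only [card_filter]; exact sum_comm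
      _ = _ := by
          rw [sum_congr rfl fun u hu => (show _ = r - 1 by
            have := hAst u; rw [hst (ne_of_mem_erase hu).symm] at this; omega), sum_const,
            smul_eq_mul, card_erase_of_mem (mem_univ x), card_univ]
  -- lines
  set ln : X → X → Finset X := fun p q => univ.filter fun w => w ∈ S.line p q ∧ w ≠ p with hln
  set c := (ln x y).card with hc
  have hlnc : ∀ {p q : X}, p ≠ q → (ln p q).card = c := by
    intro p q h
    obtain ⟨g, rfl, rfl⟩ := S.two p q x y h hyx.symm
    rw [hc, ← card_image_of_injective (ln p q) (MulAction.injective g)]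
    congr 1
    ext w
    simp only [hln, mem_image, mem_filter, mem_univ, true_and]
    constructor
    · rintro ⟨z, ⟨hz, hzp⟩, rfl⟩
      exact ⟨S.smul_mem_line hz, fun e => hzp (smul_left_cancel g e)⟩
    · rintro ⟨hw, hwp⟩
      refine ⟨g⁻¹ • w, ⟨?_, fun e => hwp (by rw [← e, smul_inv_smul])⟩, smul_inv_smul g w⟩
      simpa using S.smul_mem_line (g := g⁻¹) hw
  have hlc : l ≤ c := by
    rw [hl, hc, Nat.card_eq_fintype_card, ← Set.toFinset_card]
    refine card_le_card fun w hw => ?_
    obtain ⟨n, rfl⟩ := Set.mem_toFinset.1 hw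
    simp only [hln, mem_filter, mem_univ, true_and]
    exact ⟨S.orbit_mem_line n.2, fun e => hyx (smul_left_cancel (n : G) (e.trans (S.le x n n.2).symm))⟩
  obtain ⟨T, hT⟩ : ∃ T, r = l * (T + 1) := by
    obtain ⟨z, hz⟩ := S.exists_off_line hyx.symm
    obtain ⟨a₀, ha₀, ha₀z⟩ : ∃ a₀ ∈ S.st x y, a₀ • z ≠ z := by
      by_contra hcon; push_neg at hcon; exact hz fun c h1 h2 => hcon c ⟨h1, h2⟩
    have hxz : x ≠ z := fun e => hz (e ▸ S.left_mem_line x y)
    have h := (MulAction.stabilizer ↥(S.st x y) z).card_mul_index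
    rw [MulAction.index_stabilizer] at h
    have hoe : MulAction.orbit ↥(S.st x y) z = MulAction.orbit ↥(S.N x) z := by
      ext w
      constructor
      · rintro ⟨n, rfl⟩; exact ⟨⟨n, n.2.1⟩, rfl⟩
      · rintro ⟨n, rfl⟩
        obtain ⟨h, hh, e⟩ := S.cover hyx.symm hxz ha₀ ha₀z n.2
        exact ⟨⟨h, hh⟩, e⟩
    rw [hoe, ← Nat.card_coe_set_eq, horb hxz] at h
    have hpos : 0 < Nat.card (MulAction.stabilizer ↥(S.st x y) z) := Nat.card_pos
    obtain ⟨T, hT⟩ := Nat.exists_eq_add_of_le hpos
    exact ⟨T, by rw [hr, ← h, hT, mul_comm]; ring⟩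
  have hmeet : ∀ {u w}, u ≠ x → w ≠ x → w ∉ S.line x u →
      (As.filter fun b => b • u = u ∧ b • w = w).card = T := by
    intro u w hu hw hwl
    obtain ⟨a₀, ha₀, ha₀w⟩ : ∃ a₀ ∈ S.st x u, a₀ • w ≠ w := by
      by_contra hcon; push_neg at hcon; exact hwl fun c h1 h2 => hcon c ⟨h1, h2⟩
    have h := (MulAction.stabilizer ↥(S.st x u) w).card_mul_index
    rw [MulAction.index_stabilizer] at h
    have hoe : MulAction.orbit ↥(S.st x u) w = MulAction.orbit ↥(S.N x) w := by
      ext z
      constructor
      · rintro ⟨n, rfl⟩; exact ⟨⟨n, n.2.1⟩, rfl⟩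
      · rintro ⟨n, rfl⟩
        obtain ⟨h, hh, e⟩ := S.cover hu.symm hw.symm ha₀ ha₀w n.2
        exact ⟨⟨h, hh⟩, e⟩
    rw [hoe, ← Nat.card_coe_set_eq, horb hw.symm, hst hu.symm, hT, mul_comm l] at h
    have h2 := Nat.eq_of_mul_eq_mul_right (show 0 < l by omega) h
    have h3 : (As.filter fun b => b • u = u ∧ b • w = w).card + 1
        = Nat.card ↥(S.st x u ⊓ MulAction.stabilizer G w) := by
      rw [← hcardK]
      congr 2; ext b
      simp [hAs, S.mem_st, and_assoc, and_comm, and_left_comm]
    have h4 : Nat.card ↥(S.st x u ⊓ MulAction.stabilizer G w)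
        = Nat.card (MulAction.stabilizer ↥(S.st x u) w) := Nat.card_congr
      ⟨fun b => ⟨⟨b, b.2.1⟩, b.2.2⟩, fun b => ⟨(b.1 : G), b.1.2, b.2⟩, fun _ => rfl, fun _ => rfl⟩
    omega
  -- the second equation
  have hcV : c ≤ Fintype.card X - 1 := by
    rw [hc, ← card_univ, ← card_erase_of_mem (mem_univ x)]
    exact card_le_card fun w hw => by simp_all [hln]
  have e2 : As.card * ((k - 1) * (k - 1))
      = (Fintype.card X - 1) * (c * (r - 1) + (Fintype.card X - 1 - c) * T) := by
    calc As.card * ((k - 1) * (k - 1))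
        = ∑ b ∈ As, ∑ u ∈ univ.erase x, ∑ w ∈ univ.erase x,
            (if b • u = u ∧ b • w = w then 1 else 0) := by
          rw [← smul_eq_mul As.card, ← sum_const]
          refine sum_congr rfl fun b hb => ?_
          have h := hfix b hb
          rw [show k - 1 = ((univ.erase x).filter fun u => b • u = u).card by omega, card_filter,
            sum_mul_sum]
          refine sum_congr rfl fun u _ => sum_congr rfl fun w _ => ?_
          split_ifs <;> simp_all
      _ = ∑ u ∈ univ.erase x, ∑ w ∈ univ.erase x,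
            (As.filter fun b => b • u = u ∧ b • w = w).card := by
          rw [sum_comm]
          refine sum_congr rfl fun u _ => ?_
          rw [sum_comm]
          simp only [card_filter]
      _ = ∑ u ∈ univ.erase x, (c * (r - 1) + (Fintype.card X - 1 - c) * T) := by
          refine sum_congr rfl fun u hu => ?_
          have hux := ne_of_mem_erase hu
          rw [← sum_filter_add_sum_filter_not (univ.erase x) (fun w => w ∈ S.line x u)]
          have hA : (univ.erase x).filter (fun w => w ∈ S.line x u) = ln x u := by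
            ext w; simp [hln, and_comm]
          congr 1
          · rw [hA, sum_congr rfl (g := fun _ => r - 1), sum_const, smul_eq_mul, hlnc hux.symm]
            intro w hw
            simp only [hln, mem_filter, mem_univ, true_and] at hw
            have h1 : As.filter (fun b => b • u = u ∧ b • w = w) = As.filter (fun b => b • u = u) :=
              filter_congr fun b hb => ⟨fun h => h.1, fun h => ⟨h, hw.1 b (hAmem.1 hb).1 h⟩⟩
            have h2 := hAst u
            rw [hst hux.symm] at h2
            rw [h1]; omega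
          · rw [sum_congr rfl (g := fun _ => T), sum_const, smul_eq_mul]
            · congr 1
              have h2 := card_filter_add_card_filter_not (s := univ.erase x)
                (fun w => w ∈ S.line x u)
              rw [hA, hlnc hux.symm, card_erase_of_mem (mem_univ x), card_univ] at h2
              omega
            · intro w hw
              simp only [mem_filter, mem_erase, mem_univ, and_true] at hw
              exact hmeet hux hw.1 hw.2
      _ = _ := by rw [sum_const, smul_eq_mul, card_erase_of_mem (mem_univ x), card_univ]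
  -- solving
  obtain ⟨V, hV⟩ : ∃ V, Fintype.card X = V + 1 := ⟨Fintype.card X - 1, by
    have : 0 < Fintype.card X := Fintype.card_pos_iff.2 ⟨x⟩; omega⟩
  obtain ⟨K, hK⟩ : ∃ K, k = K + 1 := ⟨k - 1, by
    have : 0 < k := card_pos.2 ⟨x, S.mem_fx.2 (S.le x a ha)⟩; omega⟩
  obtain ⟨R', hR'⟩ : ∃ R', r = R' + 1 := ⟨r - 1, by omega⟩
  obtain ⟨L, hL⟩ : ∃ L, l = L + 1 := ⟨l - 1, by omega⟩
  obtain ⟨D, hD⟩ : ∃ D, V = c + D := Nat.exists_eq_add_of_le (by omega)
  have hVpos : 0 < V := by omega
  rw [hV, hK, hR'] at e2 e1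
  simp only [Nat.add_sub_cancel] at e1 e2
  rw [show V - c = D by omega] at e2
  have e3 : R' * K = c * R' + D * T := by
    refine Nat.eq_of_mul_eq_mul_left hVpos ?_
    rw [← e2, ← mul_assoc V, ← e1]; ring
  have hNz : (As.card : ℤ) + 1 = (l : ℤ) * r := by exact_mod_cast hAcard
  have hrz : (r : ℤ) = l * (T + 1) := by exact_mod_cast hT
  have hR'z : (R' : ℤ) + 1 = r := by exact_mod_cast hR'.symm
  have hLz : (L : ℤ) + 1 = l := by exact_mod_cast hL.symm
  have hDz : (V : ℤ) = c + D := by exact_mod_cast hD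
  have e1z : (As.card : ℤ) * K = V * R' := by exact_mod_cast e1
  have e3z : (R' : ℤ) * K = c * R' + D * T := by exact_mod_cast e3
  have e4z : (V : ℤ) * ((T + 1) * (L * L)) = c * As.card * ((T + 1) * L) := by
    have hA : (As.card : ℤ) = l * l * (T + 1) - 1 := by rw [hrz] at hNz; linear_combination hNz
    have hR : (R' : ℤ) = l * (T + 1) - 1 := by linear_combination hR'z + hrz
    have hL' : (L : ℤ) = l - 1 := by linear_combination hLz
    have e6 : (V : ℤ) * ((R' : ℤ) * R' - As.card * T) = c * As.card * (R' - T) := by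
      linear_combination (As.card : ℤ) * e3z - (R' : ℤ) * e1z - (As.card : ℤ) * T * hDz
    have f1 : (R' : ℤ) * R' - As.card * T = (T + 1) * (L * L) := by rw [hA, hR, hL']; ring
    have f2 : (R' : ℤ) - T = (T + 1) * L := by rw [hR, hL']; ring
    rw [f1, f2] at e6
    exact e6
  have e5 : V * L = c * As.card := by
    have : V * ((T + 1) * (L * L)) = c * As.card * ((T + 1) * L) := by exact_mod_cast e4z
    refine Nat.eq_of_mul_eq_mul_right (show 0 < (T + 1) * L by
      have : 0 < L := by omega
      positivity) ?_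
    rw [← this]; ring
  have hApos : 0 < As.card := card_pos.2 ⟨a, hAmem.2 ⟨ha, ha1⟩⟩
  have e7 : K * L = c * R' := by
    refine Nat.eq_of_mul_eq_mul_left hApos ?_
    rw [← mul_assoc, e1, mul_right_comm, e5]; ring
  -- the blocks through a point
  set B : X → Finset (Finset X) := fun p => (univ.filter fun b => b ∈ S.N p ∧ b ≠ 1).image S.fx
    with hB
  have hBcard : ∀ p, (B p).card * L = As.card := by
    intro p
    have h0 : (univ.filter fun b => b ∈ S.N p ∧ b ≠ 1).card = As.card := by
      have h1 := hcardK (S.N p)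
      have h2 := hcardK (S.N x)
      rw [S.card_N p x, ← h2] at h1
      exact Nat.add_right_cancel h1
    rw [← h0, card_eq_sum_card_image S.fx, ← smul_eq_mul, ← sum_const]
    refine sum_congr rfl fun Dl hDl => ?_
    obtain ⟨b, hb, rfl⟩ := mem_image.1 hDl
    simp only [mem_filter, mem_univ, true_and] at hb
    have h1 : (univ.filter fun b => b ∈ S.N p ∧ b ≠ 1).filter (fun b' => S.fx b' = S.fx b)
        = univ.filter fun b' => b' ∈ S.fixer p (S.fx b) ∧ b' ≠ 1 := by
      ext b'
      simp only [mem_filter, mem_univ, true_and]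
      constructor
      · rintro ⟨⟨hb', hb'1⟩, e⟩
        exact ⟨⟨hb', fun q hq => S.mem_fx.1 (e.symm ▸ hq)⟩, hb'1⟩
      · rintro ⟨hb', hb'1⟩
        exact ⟨⟨hb'.1, hb'1⟩, S.fx_eq_of_mem_fixer hb.1 hb.2 hb' hb'1⟩
    have h2 := hcardK (S.fixer p (S.fx b))
    rw [S.card_fixer hb.1 hb.2 hyx.symm, ← hl] at h2
    rw [h1]; omega
  -- upper bound for the size of a block
  have hkle : k ≤ (B x).card := by
    obtain ⟨z, -, haz⟩ := S.exists_mover ha ha1
    have hz : z ∉ S.fx a := fun e => haz (S.mem_fx.1 e)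
    have hne : ∀ d ∈ S.fx a, z ≠ d := fun d hd e => hz (e ▸ hd)
    have hd : ((S.fx a : Finset X) : Set X).PairwiseDisjoint fun d => ln z d := by
      intro d hd d' hd' hne'
      rw [Function.onFun, disjoint_left]
      intro w hw hw'
      simp only [hln, mem_filter, mem_univ, true_and] at hw hw'
      have h1 := S.line_eq (hne d hd) (Ne.symm hw.2) (S.left_mem_line z d) hw.1
      have h2 := S.line_eq (hne d' hd') (Ne.symm hw.2) (S.left_mem_line z d') hw'.1
      have hd'l : d' ∈ S.line z d := by rw [← h1, h2]; exact S.right_mem_line z d'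
      have h3 := S.line_eq (hne d hd) hne' (S.right_mem_line z d) hd'l
      exact haz (S.fix_line ha (S.mem_fx.1 hd) (S.mem_fx.1 hd') hne' (h3 ▸ S.left_mem_line z d))
    have h1 : ((S.fx a).biUnion fun d => ln z d).card = k * c := by
      rw [card_biUnion hd, sum_congr rfl fun d hd => hlnc (hne d hd), sum_const, smul_eq_mul]
    have h2 : ((S.fx a).biUnion fun d => ln z d) ⊆ univ.erase z := fun w hw => by
      obtain ⟨d, -, hw⟩ := mem_biUnion.1 hw
      simp only [hln, mem_filter, mem_univ, true_and] at hw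
      simp [hw.2]
    have h3 := card_le_card h2
    rw [h1, card_erase_of_mem (mem_univ z), card_univ, hV, Nat.add_sub_cancel] at h3
    have h4 : V = c * (B x).card := by
      refine Nat.eq_of_mul_eq_mul_right (show 0 < L by omega) ?_
      rw [e5, mul_assoc, hBcard x]
    rw [h4, mul_comm k] at h3
    exact Nat.le_of_mul_le_mul_left h3 (by omega)
  have hBle : (B x).card ≤ k := by
    have h1 : l * R' + L = As.card := by
      have h2 : As.card + 1 = l * (R' + 1) := by rw [hAcard, hR']
      rw [mul_add, mul_one] at h2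
      omega
    have h3 : l * R' ≤ c * R' := Nat.mul_le_mul_right _ hlc
    refine Nat.le_of_mul_le_mul_right ?_ (show 0 < L by omega)
    rw [hBcard x, ← h1, hK, add_mul, e7]
    omega
  have hkeq : (B x).card = k := le_antisymm hBle hkle
  have hBk : ∀ p, (B p).card = k := fun p => by
    rw [← hkeq]
    exact Nat.eq_of_mul_eq_mul_right (show 0 < L by omega) ((hBcard p).trans (hBcard x).symm)
  -- all blocks
  set Y : Finset (Finset X) := univ.biUnion B with hY
  have hYk : ∀ Dl ∈ Y, Dl.card = k := by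
    intro Dl hDl
    obtain ⟨p, -, hp⟩ := mem_biUnion.1 hDl
    obtain ⟨b, hb, rfl⟩ := mem_image.1 hp
    simp only [mem_filter, mem_univ, true_and] at hb
    exact hkc hb.1 hb.2
  have hmemB : ∀ p, (Y.filter fun Dl => p ∈ Dl) = B p := by
    intro p
    ext Dl
    simp only [mem_filter]
    constructor
    · rintro ⟨hDl, hp⟩
      obtain ⟨u, -, hu⟩ := mem_biUnion.1 hDl
      obtain ⟨b, hb, rfl⟩ := mem_image.1 hu
      simp only [mem_filter, mem_univ, true_and] at hb
      by_cases hup : u = p
      · exact mem_image.2 ⟨b, by simpa [hup] using hb, by rfl⟩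
      obtain ⟨n, hn, hnu⟩ := S.exists_move hup
      have hbst : b ∈ S.st u p := ⟨hb.1, S.mem_fx.1 hp⟩
      have hfb := S.fx_comm hup hbst hn hnu
      refine mem_image.2 ⟨b * n * b⁻¹ * n⁻¹, ?_, hfb⟩
      simp only [mem_filter, mem_univ, true_and]
      refine ⟨(S.comm_mem (Ne.symm hup) hb.1 (S.mem_fx.1 hp) hn).1, fun e => ?_⟩
      rw [e] at hfb
      exact S.fx_ne_univ hb.1 hb.2 (hfb.symm.trans (by ext; simp [S.mem_fx]))
    · intro hDl
      refine ⟨mem_biUnion.2 ⟨p, mem_univ p, hDl⟩, ?_⟩
      obtain ⟨b, hb, rfl⟩ := mem_image.1 hDl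
      simp only [mem_filter, mem_univ, true_and] at hb
      exact S.mem_fx.2 (S.le p b hb.1)
  have hYcard : Y.card = Fintype.card X := by
    refine Nat.eq_of_mul_eq_mul_right (show 0 < k by omega) ?_
    calc Y.card * k = ∑ Dl ∈ Y, Dl.card := by rw [sum_congr rfl hYk, sum_const, smul_eq_mul]
      _ = ∑ Dl ∈ Y, (univ.filter fun p => p ∈ Dl).card := by simp
      _ = ∑ p, (Y.filter fun Dl => p ∈ Dl).card := by simp only [card_filter]; exact sum_comm
      _ = _ := by
          rw [sum_congr rfl fun p _ => (by rw [hmemB p, hBk p] : _ = k), sum_const, smul_eq_mul,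
            card_univ]
  -- the subgroup
  have horbY : MulAction.orbit G (S.fx a) = (Y : Set (Finset X)) := by
    ext Dl
    constructor
    · rintro ⟨g, rfl⟩
      refine mem_biUnion.2 ⟨g • x, mem_univ _, mem_image.2 ⟨g * a * g⁻¹, ?_, ?_⟩⟩
      · simp only [mem_filter, mem_univ, true_and]
        exact ⟨S.conj g x a ha, fun e => ha1 (conj_eq_one_iff.1 e)⟩
      · rw [S.fx_conj]
        show _ = g • S.fx a
        rw [Finset.smul_finset_def]
    · intro hDl
      obtain ⟨p, -, hp⟩ := mem_biUnion.1 hDl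
      obtain ⟨b, hb, rfl⟩ := mem_image.1 hp
      simp only [mem_filter, mem_univ, true_and] at hb
      obtain ⟨g, hg⟩ : ∃ g : G, g • x = p := by
        obtain ⟨q, hq⟩ := S.exists_other p
        obtain ⟨g, hg, -⟩ := S.two x y p q hyx.symm hq.symm
        exact ⟨g, hg⟩
      have h1 := S.conj g x a ha
      rw [hg] at h1
      obtain ⟨g', -, e⟩ := S.conj_trans h1 (fun e => ha1 (conj_eq_one_iff.1 e)) hb.1 hb.2
      refine ⟨g' * g, ?_⟩
      show (g' * g) • S.fx a = S.fx b
      rw [mul_smul, Finset.smul_finset_def, Finset.smul_finset_def, ← S.fx_conj g a, ← S.fx_conj, e]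
  refine ⟨MulAction.stabilizer G (S.fx a), ?_, ?_, ?_, ?_⟩
  · rw [MulAction.index_stabilizer, horbY, Set.ncard_coe_finset, hYcard, Nat.card_eq_fintype_card]
  · intro h
    obtain ⟨w, -, haw⟩ := S.exists_mover ha ha1
    obtain ⟨g, hg⟩ := h.exists_smul_eq x w
    have h1 : (g : G) • x ∈ (g : G) • S.fx a :=
      Finset.smul_mem_smul_finset (S.mem_fx.2 (S.le x a ha))
    rw [show (g : G) • S.fx a = S.fx a from g.2, show (g : G) • x = w from hg] at h1
    exact haw (S.mem_fx.1 h1)
  · intro z
    obtain ⟨u, hu, huz⟩ : ∃ u ∈ S.fx a, u ≠ z := exists_mem_ne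
      (one_lt_card.2 ⟨x, S.mem_fx.2 (S.le x a ha), y, S.mem_fx.2 hay, hyx.symm⟩) z
    obtain ⟨n, hn, hnz⟩ := S.exists_move huz.symm
    refine ⟨⟨n, ?_⟩, hnz⟩
    rw [MulAction.mem_stabilizer_iff, Finset.smul_finset_def]
    refine eq_of_subset_of_card_le (fun w hw => ?_)
      (card_image_of_injective _ (MulAction.injective n)).ge
    obtain ⟨v, hv, rfl⟩ := mem_image.1 hw
    exact S.mem_fx.2 (S.fix_orbit ha (S.mem_fx.1 hu) (S.mem_fx.1 hv) hn)
  · have haH : a ∈ MulAction.stabilizer G (S.fx a) := by
      rw [MulAction.mem_stabilizer_iff, Finset.smul_finset_def]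
      refine eq_of_subset_of_card_le (fun w hw => ?_)
        (card_image_of_injective _ (MulAction.injective a)).ge
      obtain ⟨v, hv, rfl⟩ := mem_image.1 hw
      rw [S.mem_fx.1 hv]; exact hv
    refine ⟨x, ⟨a, haH⟩, fun e => ha1 (congrArg Subtype.val e), fun b hb => ?_⟩
    obtain ⟨g, rfl⟩ := hb
    have h1 : (g : G) • x ∈ (g : G) • S.fx a :=
      Finset.smul_mem_smul_finset (S.mem_fx.2 (S.le x a ha))
    rw [show (g : G) • S.fx a = S.fx a from g.2] at h1
    exact S.mem_fx.1 h1

omit [DecidableEq X] in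
/-- O'Nan's theorem for the family of conjugates. -/
theorem exists_psl :
    ∃ (m : ℕ) (F : Type) (_ : Field F) (_ : Fintype F), 2 ≤ m ∧
      Nat.card X = (Fintype.card F ^ (m + 1) - 1) / (Fintype.card F - 1) ∧
      ∃ M : Subgroup G, M.Normal ∧
        Nonempty (M ≃* Matrix.ProjectiveSpecialLinearGroup (Fin (m + 1)) F) ∧
        Subgroup.centralizer (M : Set G) = ⊥ := by
  classical
  have : FaithfulSMul G X := ⟨fun {a b} h => inv_mul_eq_one.1 (S.faith (a⁻¹ * b) fun p => by
    rw [mul_smul, ← h p, inv_smul_smul])⟩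
  obtain ⟨H, hidx, hnt, hfix, hunf⟩ := S.exists_subgroup
  refine Axial80.exists_psl_of_unfaithful ?_ H hidx hnt hfix hunf
  exact MulAction.is_two_pretransitive_iff.2 fun {a b c d} h h' => S.two a b c d h h'

end Setup

/-- The conjugates of an abelian normal subgroup of a point stabilizer. -/
theorem exists_setup {G X : Type*} [Group G] [MulAction G X] [FaithfulSMul G X]
    (h2 : MulAction.IsMultiplyPretransitive G X 2) (x : X)
    (N : Subgroup G) (hNle : N ≤ MulAction.stabilizer G x)
    (hNnormal : ∀ g ∈ MulAction.stabilizer G x, ∀ n ∈ N, g * n * g⁻¹ ∈ N)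
    (hNab : IsMulCommutative N) (hnsr : ∃ n ∈ N, n ≠ 1 ∧ ∃ y : X, y ≠ x ∧ n • y = y) :
    Nonempty (Setup G X) := by
  obtain ⟨n, hn, hn1, y, hyx, hny⟩ := hnsr
  have htrans : ∀ z : X, ∃ g : G, g • x = z := by
    intro z
    by_cases hz : z = x
    · exact ⟨1, by rw [one_smul, hz]⟩
    · obtain ⟨g, hg, -⟩ := (MulAction.is_two_pretransitive_iff.1 h2) hyx.symm hz
      exact ⟨g, hg⟩
  choose t ht using htrans
  refine ⟨{ N := fun z => N.map (MulAut.conj (t z)).toMonoidHom, le := ?_, conj := ?_, comm := ?_,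
            faith := fun g hg => FaithfulSMul.eq_of_smul_eq_smul (α := X)
              fun p => by rw [hg p, one_smul],
            two := fun a b c d h h' => (MulAction.is_two_pretransitive_iff.1 h2) h h',
            nonsr := ?_ }⟩
  · rintro z _ ⟨m, hm, rfl⟩
    show (t z * m * (t z)⁻¹) • z = z
    rw [mul_smul, mul_smul, inv_smul_eq_iff.2 (ht z).symm, show m • x = x from hNle hm, ht]
  · rintro g z _ ⟨m, hm, rfl⟩
    refine ⟨((t (g • z))⁻¹ * g * t z) * m * ((t (g • z))⁻¹ * g * t z)⁻¹,
      hNnormal _ ?_ m hm, ?_⟩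
    · rw [MulAction.mem_stabilizer_iff, mul_smul, mul_smul, ht, inv_smul_eq_iff, ht]
    · show t (g • z) * _ * (t (g • z))⁻¹ = g * (t z * m * (t z)⁻¹) * g⁻¹
      group
  · rintro z _ ⟨m, hm, rfl⟩ _ ⟨m', hm', rfl⟩
    have h : m * m' = m' * m :=
      congrArg Subtype.val (hNab.is_comm.comm (⟨m, hm⟩ : N) ⟨m', hm'⟩)
    rw [← map_mul, ← map_mul, h]
  · have hx : t x ∈ MulAction.stabilizer G x := ht x
    refine ⟨x, y, n, hyx, ⟨(t x)⁻¹ * n * t x, ?_, ?_⟩, hn1, hny⟩
    · have := hNnormal _ (inv_mem hx) n hn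
      simpa using this
    · show t x * ((t x)⁻¹ * n * t x) * (t x)⁻¹ = n
      group

open Cfsg.Agent.ComponentsBasic Cfsg.Agent.ComponentsFitting in
/-- A self-centralising normal simple subgroup is the generalised Fitting subgroup. -/
theorem gen_eq_of_normal_simple {G : Type*} [Group G] [Finite G] (M : Subgroup G) [hM : M.Normal]
    (hs : IsSimpleGroup M) (hc : ¬ IsMulCommutative M) (hC : Subgroup.centralizer (M : Set G) = ⊥) :
    Cfsg.generalizedFittingSubgroup G = M := by
  have hcomp : Cfsg.IsComponent M := ⟨hM.isSubnormal, isQuasisimple_of_simple hs hc⟩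
  refine le_antisymm (sup_le (sSup_le fun L hL => ?_) ?_) (component_le_gen hcomp)
  · rcases component_le_or_commute_normal hL M with h | h
    · exact h
    · rw [Subgroup.commutator_eq_bot_iff_le_centralizer, hC, le_bot_iff] at h
      exact absurd h (Cfsg.Agent.ComponentsBasic.IsComponent.ne_bot hL)
  · have h := component_commute_fitting hcomp
    rw [Subgroup.commutator_comm, Subgroup.commutator_eq_bot_iff_le_centralizer, hC, le_bot_iff] at h
    rw [h]; exact bot_le

end Cfsg.Agent.ONan80
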