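import Cfsg.Agent.Lib.OTensorFrame

/-!
Spaces of skew and of symmetric operators invariant under conjugation by Siegel transformations.
-/

set_option autoImplicit false
set_option linter.unusedSectionVars false

namespace Cfsg.Agent.OTensor

open Cfsg.Agent.TensorMax

variable {F : Type*} [Field F] {n : ℕ}
variable {f : (Fin n → F) → (Fin n → F) → F} (hf : Sym f)
include hf

/-- The skew operator of a pair of vectors. -/
def nn (v w : Fin n → F) : Module.End F (Fin n → F) :=
  ((bl hf).flip w).smulRight v - ((bl hf).flip v).smulRight w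

theorem neg_left' (u w : Fin n → F) : f (-u) w = -f u w := by
  rw [← neg_one_smul F u, hf.smul_left, neg_one_mul]

theorem nn_apply (v w u : Fin n → F) : nn hf v w u = f u w • v - f u v • w := rfl

/-- The symmetric operator of a vector. -/
def sq1 (e : Fin n → F) : Module.End F (Fin n → F) := ((bl hf).flip e).smulRight e

theorem sq1_apply (e u : Fin n → F) : sq1 hf e u = f u e • e := rfl

/-- The Siegel transformation. -/
def sie (e d : Fin n → F) : Module.End F (Fin n → F) := 1 + nn hf e d + (2 : F)⁻¹ • (nn hf e d * nn hf e d)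

theorem nn_neg (e d : Fin n → F) : nn hf e (-d) = -nn hf e d :=
  LinearMap.ext fun u => by simp [nn_apply, hf.neg_right]; abel

theorem sie_neg (e d : Fin n → F) :
    sie hf e (-d) = 1 - nn hf e d + (2 : F)⁻¹ • (nn hf e d * nn hf e d) := by
  have e1 : (-nn hf e d) * (-nn hf e d) = nn hf e d * nn hf e d :=
    LinearMap.ext fun u => by simp [Module.End.mul_apply]
  rw [sie, nn_neg, e1, ← sub_eq_add_neg]

theorem nn_sq {e d : Fin n → F} (he : f e e = 0) (hd : f d e = 0) :
    nn hf e d * nn hf e d = -(f d d • sq1 hf e) := by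
  refine LinearMap.ext fun u => ?_
  simp only [Module.End.mul_apply, nn_apply, LinearMap.neg_apply, LinearMap.smul_apply, sq1_apply, sub_left' hf,
    hf.smul_left, he, hd, symm hf e d, mul_zero, sub_zero, zero_sub, smul_smul]
  module

/-- The second difference. -/
def quad2 (e d : Fin n → F) (Z : Module.End F (Fin n → F)) : Module.End F (Fin n → F) :=
  nn hf e d * nn hf e d * Z + Z * (nn hf e d * nn hf e d) - (2 : F) • (nn hf e d * Z * nn hf e d)

theorem conj_add (h2 : (2 : F) ≠ 0) (e d : Fin n → F) (Z : Module.End F (Fin n → F)) :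
    sie hf e d * Z * sie hf e (-d) + sie hf e (-d) * Z * sie hf e d - Z - Z =
      quad2 hf e d Z + ((2 : F)⁻¹) • (nn hf e d * nn hf e d * Z * (nn hf e d * nn hf e d)) := by
  rw [sie_neg hf]
  unfold sie quad2
  set N := nn hf e d
  simp only [add_mul, mul_add, sub_mul, mul_sub, one_mul, mul_one, smul_mul_assoc, mul_smul_comm, mul_assoc]
  match_scalars <;> field_simp <;> ring

theorem conj_sub (h2 : (2 : F) ≠ 0) (e d : Fin n → F) (Z : Module.End F (Fin n → F)) :
    sie hf e d * Z * sie hf e (-d) - sie hf e (-d) * Z * sie hf e d =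
      (2 : F) • (nn hf e d * Z - Z * nn hf e d) +
        (nn hf e d * Z * (nn hf e d * nn hf e d) - nn hf e d * nn hf e d * Z * nn hf e d) := by
  rw [sie_neg hf]
  unfold sie
  set N := nn hf e d
  simp only [add_mul, mul_add, sub_mul, mul_sub, one_mul, mul_one, smul_mul_assoc, mul_smul_comm, mul_assoc]
  match_scalars <;> field_simp <;> ring

/-- Skew-symmetry. -/
def IsSkew (f : (Fin n → F) → (Fin n → F) → F) (Z : Module.End F (Fin n → F)) : Prop :=
  ∀ u w, f (Z u) w = -f u (Z w)

/-- Self-adjointness. -/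
def IsSelfAdj (f : (Fin n → F) → (Fin n → F) → F) (Z : Module.End F (Fin n → F)) : Prop :=
  ∀ u w, f (Z u) w = f u (Z w)

theorem nn_skew (v w : Fin n → F) : IsSkew f (nn hf v w) := fun a b => by
  simp only [nn_apply, sub_left' hf, hf.sub_right, hf.smul_left, smul_right' hf]
  rw [symm hf v b, symm hf w b]
  ring

theorem sq1_selfAdj (e : Fin n → F) : IsSelfAdj f (sq1 hf e) := fun a b => by
  simp only [sq1_apply, hf.smul_left, smul_right' hf]
  rw [symm hf e b, mul_comm]

theorem skew_self (h2 : (2 : F) ≠ 0) {Z : Module.End F (Fin n → F)} (hZ : IsSkew f Z) (u : Fin n → F) :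
    f (Z u) u = 0 := by
  have h := hZ u u
  rw [symm hf u (Z u)] at h
  have h' : (2 : F) * f (Z u) u = 0 := by linear_combination h
  exact (mul_eq_zero.1 h').resolve_left h2

theorem skew_quad (h2 : (2 : F) ≠ 0) {e d : Fin n → F} (he : f e e = 0) (hd : f d e = 0)
    {Z : Module.End F (Fin n → F)} (hZ : IsSkew f Z) :
    quad2 hf e d Z = nn hf e (f d d • Z e - (2 * f (Z e) d) • d) ∧
      nn hf e d * nn hf e d * Z * (nn hf e d * nn hf e d) = 0 ∧
      nn hf e d * Z * (nn hf e d * nn hf e d) - nn hf e d * nn hf e d * Z * nn hf e d = 0 := by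
  have hZe : f (Z e) e = 0 := skew_self hf h2 hZ e
  have hZd : f (Z d) d = 0 := skew_self hf h2 hZ d
  have h1 : ∀ u, f (Z u) e = -f u (Z e) := fun u => hZ u e
  have h3 : f (Z d) e = -f (Z e) d := by rw [h1, symm hf d (Z e)]
  refine ⟨?_, ?_, ?_⟩
  · refine LinearMap.ext fun u => ?_
    rw [quad2, nn_sq hf he hd]
    simp only [LinearMap.sub_apply, LinearMap.add_apply, LinearMap.smul_apply, LinearMap.neg_apply,
      Module.End.mul_apply, nn_apply, sq1_apply, map_sub, map_neg, map_smul, sub_left' hf, hf.sub_right,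
      hf.smul_left, smul_right' hf, h1, hZe, hZd, h3, show f e (Z e) = 0 from (symm hf _ _).trans hZe, symm hf d (Z e),
      neg_left' hf, smul_sub, smul_smul]
    module
  · rw [nn_sq hf he hd]
    refine LinearMap.ext fun u => ?_
    simp [Module.End.mul_apply, sq1_apply, hf.smul_left, hZe, neg_left' hf]
  · rw [nn_sq hf he hd]
    refine LinearMap.ext fun u => ?_
    simp only [LinearMap.sub_apply, LinearMap.smul_apply, LinearMap.neg_apply, Module.End.mul_apply,
      nn_apply, sq1_apply, map_sub, map_neg, map_smul, sub_left' hf, hf.smul_left, hZe, h3, smul_sub, smul_smul,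
      LinearMap.zero_apply]
    module

theorem skew_eq_zero (h2 : (2 : F) ≠ 0) (hn : 3 ≤ n) {e₀ : Fin n → F} (he₀ : e₀ ≠ 0) (he₀' : f e₀ e₀ = 0)
    {Z : Module.End F (Fin n → F)} (hZ : IsSkew f Z)
    (h : ∀ e, f e e = 0 → ∀ w, f w e = 0 → f (Z e) w = 0) : Z = 0 := by
  refine eq_zero_of_singular hf h2 Z he₀ he₀' fun e he => ?_
  by_cases he0 : e = 0
  · rw [he0, map_zero]
  obtain ⟨e', he', h1⟩ := exists_partner hf h2 he0 he
  have H : Hyp f e e' := ⟨he, he', h1⟩
  obtain ⟨u, u1, u2, u3⟩ := exists_aniso hf h2 hn H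
  have h1' : f e' e = 1 := by rw [symm hf, h1]
  set e₁ := e + u + (-(2 : F)⁻¹ * f u u) • e' with he₁
  have he₁e : f e₁ e₁ = 0 := by
    simp only [he₁, hf.add_left, hf.add_right, hf.smul_left, smul_right' hf, he, he', h1, h1', u1, u2,
      symm hf e u, symm hf e' u]
    field_simp
    ring
  have a0 : f (Z e) e = 0 := skew_self hf h2 hZ e
  have a1 : f (Z e) u = 0 := h e he u u1
  have a1' : f (Z e') u = 0 := h e' he' u u2
  -- a vector orthogonal to `e₁` detecting the eigenvalue
  set w := e + ((2 : F)⁻¹ * f u u) • e' + (-1 : F) • (0 : Fin n → F) with hw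
  have hw1 : f w e₁ = 0 := by
    simp only [hw, he₁, smul_zero, add_zero, hf.add_left, hf.add_right, hf.smul_left, smul_right' hf, he, he', h1,
      h1', symm hf e u, symm hf e' u, u1, u2]
    field_simp
    ring
  have hu0 : f (Z u) e = 0 := by rw [hZ, symm hf, a1, neg_zero]
  have hu0' : f (Z u) e' = 0 := by rw [hZ, symm hf, a1', neg_zero]
  have heZ' : f (Z e') e = -f (Z e) e' := by rw [hZ, symm hf]
  have ae' : f (Z e') e' = 0 := skew_self hf h2 hZ e'
  have hl : f (Z e) e' = 0 := by
    have := h e₁ he₁e w hw1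
    simp only [hw, he₁, smul_zero, add_zero, map_add, map_smul, hf.add_left, hf.add_right, hf.smul_left,
      smul_right' hf, a0, hu0, hu0', heZ', ae'] at this
    field_simp at this
    have h' : (2 : F) * f (Z e) e' = 0 := by
      refine (mul_eq_zero.1 (?_ : f u u * (2 * f (Z e) e') = 0)).resolve_left u3
      apply mul_left_cancel₀ h2
      linear_combination this
    exact (mul_eq_zero.1 h').resolve_left h2
  refine hf.nd _ fun v => ?_
  obtain ⟨p1, p2⟩ := proj0_perp hf H v
  rw [decomp hf e e' v, hf.add_right, hf.add_right, smul_right' hf, smul_right' hf, a0, hl, h e he _ p1]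
  simp

/-- The standing hypothesis on the form: outside dimension four, or no totally singular plane. -/
def Sane (f : (Fin n → F) → (Fin n → F) → F) : Prop :=
  n ≠ 4 ∨ ∀ a c, a ≠ 0 → f a a = 0 → f c c = 0 → f a c = 0 → ∃ y : F, c = y • a

theorem nn_bracket (a b c d : Fin n → F) : nn hf a b * nn hf c d - nn hf c d * nn hf a b =
    f b c • nn hf a d - f b d • nn hf a c - f a c • nn hf b d + f a d • nn hf b c := by
  refine LinearMap.ext fun u => ?_
  simp only [LinearMap.sub_apply, LinearMap.add_apply, LinearMap.smul_apply, Module.End.mul_apply, nn_apply,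
    sub_left' hf, hf.smul_left, symm hf d a, symm hf c a, symm hf d b, symm hf c b, smul_sub, sub_smul, smul_smul]
  module

/-- An invariant space of skew operators is zero or contains all `nn v w`. -/
theorem skew_full [Finite F] (h2 : (2 : F) ≠ 0) (hn : 3 ≤ n) (hsane : Sane f)
    (S : Submodule F (Module.End F (Fin n → F)))
    (hS : ∀ e d, f e e = 0 → f d e = 0 → ∀ Z ∈ S, sie hf e d * Z * sie hf e (-d) ∈ S)
    {Z : Module.End F (Fin n → F)} (hZS : Z ∈ S) (hZ : IsSkew f Z) (hZ0 : Z ≠ 0) :
    ∀ v w, nn hf v w ∈ S := by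
  obtain ⟨e₀, he₀, he₀'⟩ := exists_singular hf hn
  have hq : ∀ e d, f e e = 0 → f d e = 0 → ∀ Y ∈ S, IsSkew f Y →
      nn hf e (f d d • Y e - (2 * f (Y e) d) • d) ∈ S := by
    intro e d he hd Y hY hYs
    obtain ⟨h1, h3, -⟩ := skew_quad hf h2 he hd hYs
    have hd' : f (-d) e = 0 := by rw [← neg_one_smul F d, hf.smul_left, hd, mul_zero]
    have hb := hS e (-d) he hd' Y hY
    rw [neg_neg] at hb
    have := S.sub_mem (S.sub_mem (S.add_mem (hS e d he hd Y hY) hb) hY) hY
    rwa [conj_add hf h2, h1, h3, smul_zero, add_zero] at this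
  have hlin : ∀ e d, f e e = 0 → f d e = 0 → ∀ Y ∈ S, IsSkew f Y → nn hf e d * Y - Y * nn hf e d ∈ S := by
    intro e d he hd Y hY hYs
    obtain ⟨-, -, h4⟩ := skew_quad hf h2 he hd hYs
    have hd' : f (-d) e = 0 := by rw [← neg_one_smul F d, hf.smul_left, hd, mul_zero]
    have hb := hS e (-d) he hd' Y hY
    rw [neg_neg] at hb
    have := S.smul_mem (2 : F)⁻¹ (S.sub_mem (hS e d he hd Y hY) hb)
    rwa [conj_sub hf h2, h4, add_zero, inv_smul_smul₀ h2] at this
  -- a first root
  obtain ⟨e, he, w, hwe, hw⟩ : ∃ e, f e e = 0 ∧ ∃ w, f w e = 0 ∧ f (Z e) w ≠ 0 := by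
    by_contra! h
    exact hZ0 (skew_eq_zero hf h2 hn he₀ he₀' hZ fun e he w hwe => h e he w hwe)
  have he0 : e ≠ 0 := fun h0 => hw (by rw [h0, map_zero, hf.zero_left])
  obtain ⟨e', he', h1⟩ := exists_partner hf h2 he0 he
  have H : Hyp f e e' := ⟨he, he', h1⟩
  have hside : ∀ a b, Hyp f a b → ∀ z, f z a = 0 → f z b = 0 → nn hf a z ∈ S →
      ∀ d, f d a = 0 → f d b = 0 → nn hf b (f d d • z - (2 * f z d) • d) ∈ S := by
    intro a b hab z za zb hz d da db
    have := hq b d hab.ee' db _ hz (nn_skew hf a z)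
    have e1 : nn hf a z b = -z := by
      rw [nn_apply, symm hf b z, zb, symm hf b a, hab.one]; module
    rw [e1] at this
    have e2 : nn hf b (f d d • -z - (2 * f (-z) d) • d) = -nn hf b (f d d • z - (2 * f z d) • d) := by
      rw [← nn_neg hf, ← neg_one_smul F z, hf.smul_left]
      congr 1
      module
    rw [e2, neg_mem_iff] at this
    exact this
  have nn_add : ∀ a x y, nn hf a (x + y) = nn hf a x + nn hf a y := fun a x y =>
    LinearMap.ext fun u => by simp [nn_apply, hf.add_right]; module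
  have nn_smul : ∀ a (c : F) x, nn hf a (c • x) = c • nn hf a x := fun a c x =>
    LinearMap.ext fun u => by simp [nn_apply, smul_right' hf]; module
  -- all roots through an anisotropic one
  have hfill : ∀ a b, Hyp f a b → ∀ z, f z a = 0 → f z b = 0 → f z z ≠ 0 → nn hf a z ∈ S →
      ∀ d, f d a = 0 → f d b = 0 → nn hf b d ∈ S := by
    intro a b hab z za zb zz hz
    have hzb : nn hf b z ∈ S := by
      have := hside a b hab z za zb hz z za zb
      rw [show f z z • z - (2 * f z z) • z = (-f z z) • z by module, nn_smul] at this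
      have := S.smul_mem (-f z z)⁻¹ this
      rwa [inv_smul_smul₀ (neg_ne_zero.2 zz)] at this
    have hd1 : ∀ d, f d a = 0 → f d b = 0 → f z d ≠ 0 → nn hf b d ∈ S := by
      intro d da db hzd
      have h := S.sub_mem (S.smul_mem (f d d) hzb) (hside a b hab z za zb hz d da db)
      rw [← nn_smul, show nn hf b (f d d • z) - nn hf b (f d d • z - (2 * f z d) • d) = (2 * f z d) • nn hf b d from
        LinearMap.ext fun u => by simp [nn_apply, hf.sub_right, smul_right' hf]; module] at h
      have := S.smul_mem (2 * f z d)⁻¹ h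
      rwa [inv_smul_smul₀ (mul_ne_zero h2 hzd)] at this
    intro d da db
    by_cases hzd : f z d = 0
    · have h := S.sub_mem (hd1 (d + z) (by rw [hf.add_left, da, za, add_zero]) (by rw [hf.add_left, db, zb, add_zero])
        (by rw [hf.add_right, hzd, zero_add]; exact zz)) hzb
      rwa [nn_add, add_sub_cancel_right] at h
    · exact hd1 d da db hzd
  -- the first root is moved to an anisotropic one
  obtain ⟨a, b, hab, z, za, zb, zz, hz⟩ : ∃ a b, Hyp f a b ∧ ∃ z, f z a = 0 ∧ f z b = 0 ∧ f z z ≠ 0 ∧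
      nn hf a z ∈ S := by
    obtain ⟨d₀, d1, d2, d3⟩ := exists_aniso hf h2 hn H
    set z₀ := proj0 f e e' (Z e)
    obtain ⟨z1, z2⟩ := proj0_perp hf H (Z e)
    have hz₀ : z₀ ≠ 0 := by
      intro h0
      refine hw ?_
      rw [decomp hf e e' (Z e), show proj0 f e e' (Z e) = z₀ from rfl, h0, add_zero, hf.add_left, hf.smul_left,
        hf.smul_left, skew_self hf h2 hZ e, symm hf e w, hwe]
      simp
    have hZd : f (Z e) d₀ = f z₀ d₀ := by
      rw [decomp hf e e' (Z e), hf.add_left, hf.add_left, hf.smul_left, hf.smul_left, symm hf e d₀, d1, symm hf e' d₀,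
        d2]
      simp [z₀]
    set z := f d₀ d₀ • z₀ - (2 * f z₀ d₀) • d₀ with hzdef
    have hz : nn hf e z ∈ S := by
      have := hq e d₀ he d1 Z hZS hZ
      rw [hZd] at this
      have e2 : nn hf e (f d₀ d₀ • Z e - (2 * f z₀ d₀) • d₀) = nn hf e z := by
        have hs : f d₀ d₀ • Z e - (2 * f z₀ d₀) • d₀ = (f d₀ d₀ * f (Z e) e') • e + z := by
          conv_lhs => rw [decomp hf e e' (Z e), skew_self hf h2 hZ e, show proj0 f e e' (Z e) = z₀ from rfl]
          rw [hzdef]
          module
        rw [hs, nn_add, nn_smul]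
        rw [show nn hf e e = 0 from LinearMap.ext fun u => by simp [nn_apply]]
        simp
      rwa [e2] at this
    have zc : f z e = 0 ∧ f z e' = 0 := by
      simp [hzdef, sub_left' hf, hf.smul_left, z1, z2, d1, d2, z₀]
    by_cases hzz : f z z = 0
    swap
    · exact ⟨e, e', H, z, zc.1, zc.2, hzz, hz⟩
    -- a singular root
    have hz0 : z ≠ 0 := by
      intro h0
      have h := congrArg (fun t => f t d₀) (hzdef.symm.trans h0)
      simp only [sub_left' hf, hf.smul_left, hf.zero_left] at h
      have hh : f z₀ d₀ = 0 := by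
        have h' : f d₀ d₀ * f z₀ d₀ = 0 := by linear_combination -h
        exact (mul_eq_zero.1 h').resolve_left d3
      rw [h0] at hzdef
      rw [hh, mul_zero, zero_smul, sub_zero] at hzdef
      exact hz₀ ((smul_eq_zero.1 hzdef.symm).resolve_left d3)
    have hind : ∀ y : F, z ≠ y • e := fun y hy => hz0 (by
      have h := zc.2
      rw [hy, hf.smul_left, h1, mul_one] at h
      rw [hy, h, zero_smul])
    have h5 : 5 ≤ n := by
      have h4 := four_le_of_pair hf he0 he hzz (by rw [symm hf]; exact zc.1) hind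
      rcases hsane with hs | hs
      · omega
      · obtain ⟨y, hy⟩ := hs e z he0 he hzz (by rw [symm hf]; exact zc.1)
        exact absurd hy (hind y)
    obtain ⟨v₁, hv₁, hzv₁⟩ := exists_partner hf h2 hz0 hzz
    set v₀ := proj0 f e e' v₁
    obtain ⟨p1, p2⟩ := proj0_perp hf H v₁
    have hzv₀ : f z v₀ = 1 := by
      simp [v₀, proj0, hf.sub_right, smul_right' hf, zc.1, zc.2, hzv₁]
    set v := v₀ + (-(2 : F)⁻¹ * f v₀ v₀) • z with hv
    have hvv : f v v = 0 := by
      simp only [hv, hf.add_left, hf.add_right, hf.smul_left, smul_right' hf, hzz, symm hf v₀ z, hzv₀]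
      field_simp
      ring
    have hzv : f z v = 1 := by rw [hv, hf.add_right, smul_right' hf, hzv₀, hzz, mul_zero, add_zero]
    have v1 : f v e = 0 := by simp [hv, hf.add_left, hf.smul_left, neg_left' hf, v₀, p1, zc.1]
    have v2 : f v e' = 0 := by simp [hv, hf.add_left, hf.smul_left, neg_left' hf, v₀, p2, zc.2]
    obtain ⟨u, u1, u2, u3, u4, u5⟩ := exists_aniso_four hf h2 h5 H ⟨hzz, hvv, hzv⟩ zc.1 zc.2 v1 v2
    have g := hside e e' H z zc.1 zc.2 hz
    have gu := g u u1 u2
    have gv := g v v1 v2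
    have gs := g (u + v) (by rw [hf.add_left, u1, v1, add_zero]) (by rw [hf.add_left, u2, v2, add_zero])
    refine ⟨e', e, H.swap hf, u, u2, u1, u5, ?_⟩
    have h := S.sub_mem (S.sub_mem gs gu) gv
    rw [show nn hf e' (f (u + v) (u + v) • z - (2 * f z (u + v)) • (u + v)) -
        nn hf e' (f u u • z - (2 * f z u) • u) - nn hf e' (f v v • z - (2 * f z v) • v) =
        (-2 : F) • nn hf e' u from LinearMap.ext fun x => by
      simp only [hf.add_left, hf.add_right, hvv, hzv, symm hf v u, u4, symm hf z u, u3, LinearMap.sub_apply,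
        LinearMap.smul_apply, nn_apply, hf.sub_right, smul_right' hf]
      module] at h
    have := S.smul_mem (-2 : F)⁻¹ h
    rwa [inv_smul_smul₀ (neg_ne_zero.2 h2)] at this
  have hb := hfill a b hab z za zb zz hz
  have ha := hfill b a (hab.swap hf) z zb za zz (hb z za zb)
  have habS : nn hf a b ∈ S ∧ ∀ d x, f d a = 0 → f d b = 0 → f x a = 0 → f x b = 0 → nn hf d x ∈ S := by
    have key : ∀ d x, f d a = 0 → f d b = 0 → f x a = 0 → f x b = 0 →
        -(f d x • nn hf a b) - nn hf d x ∈ S := by
      intro d x da db xa xb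
      have := hlin a d hab.ee da _ (hb x xa xb) (nn_skew hf b x)
      rw [nn_bracket hf, db, hab.one, symm hf a x, xa, zero_smul, zero_smul, one_smul, add_zero, zero_sub] at this
      exact this
    have hab' : nn hf a b ∈ S := by
      have h := key z z za zb za zb
      rw [show nn hf z z = 0 from LinearMap.ext fun u => by simp [nn_apply], sub_zero, neg_mem_iff] at h
      have := S.smul_mem (f z z)⁻¹ h
      rwa [inv_smul_smul₀ zz] at this
    refine ⟨hab', fun d x da db xa xb => ?_⟩
    have h := S.add_mem (key d x da db xa xb) (S.smul_mem (f d x) hab')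
    rwa [show -(f d x • nn hf a b) - nn hf d x + f d x • nn hf a b = -nn hf d x by abel, neg_mem_iff] at h
  have nn_swap : ∀ x y, nn hf x y = -nn hf y x := fun x y => LinearMap.ext fun u => by simp [nn_apply]
  intro v w
  obtain ⟨v1, v2⟩ := proj0_perp hf hab v
  obtain ⟨w1, w2⟩ := proj0_perp hf hab w
  set v₀ := proj0 f a b v with hv₀
  set w₀ := proj0 f a b w with hw₀
  have e : nn hf v w = (f v b * f w a - f v a * f w b) • nn hf a b + f v b • nn hf a w₀ + f v a • nn hf b w₀ -
      f w b • nn hf a v₀ - f w a • nn hf b v₀ + nn hf v₀ w₀ := by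
    refine LinearMap.ext fun u => ?_
    conv_lhs => rw [nn_apply, decomp hf a b v, decomp hf a b w, ← hv₀, ← hw₀]
    simp only [LinearMap.sub_apply, LinearMap.add_apply, LinearMap.smul_apply, nn_apply, hf.add_right,
      smul_right' hf]
    module
  rw [e]
  exact S.add_mem (S.sub_mem (S.sub_mem (S.add_mem (S.add_mem (S.smul_mem _ habS.1) (S.smul_mem _ (ha w₀ w2 w1)))
    (S.smul_mem _ (hb w₀ w1 w2))) (S.smul_mem _ (ha v₀ v2 v1))) (S.smul_mem _ (hb v₀ v1 v2)))
    (habS.2 v₀ w₀ v1 v2 w1 w2)

theorem selfAdj_scalar (h2 : (2 : F) ≠ 0) (hn : 3 ≤ n) (hbig : 4 ≤ n ∨ ∃ t : F, t ≠ 0 ∧ t * t ≠ 1)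
    {e e' : Fin n → F} (H : Hyp f e e') {Y : Module.End F (Fin n → F)} (hY : IsSelfAdj f Y)
    (h : ∀ x, f x x = 0 → f (Y x) x = 0) : ∃ κ : F, Y = κ • 1 := by
  have hs : ∀ u w, f (Y u) w = f (Y w) u := fun u w => by rw [hY, symm hf]
  have h1' : f e' e = 1 := by rw [symm hf, H.one]
  -- the identities at a vector orthogonal to the pair
  have ev : ∀ u, f u e = 0 → f u e' = 0 →
      (f (Y u) u = f u u * f (Y e) e' ∧ 2 * f (Y e) u = f u u * f (Y e') u) := by
    intro u u1 u2
    have q : ∀ c : F, c = 1 ∨ c = -1 → c * (2 * f (Y e) u - f u u * f (Y e') u) +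
        (f (Y u) u - f u u * f (Y e) e') = 0 := by
      intro c hc
      have hcc : c * c = 1 := by rcases hc with rfl | rfl <;> norm_num
      have := h (e + c • u + (-(2 : F)⁻¹ * f u u) • e') (by
        simp only [hf.add_left, hf.add_right, hf.smul_left, smul_right' hf, H.ee, H.ee', H.one, h1', u1, u2,
          symm hf e u, symm hf e' u]
        field_simp
        linear_combination 4 * f u u * hcc)
      simp only [map_add, map_smul, hf.add_left, hf.add_right, hf.smul_left, smul_right' hf, h e H.ee, h e' H.ee',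
        hs u e, hs e' e, hs u e'] at this
      field_simp at this
      refine (mul_eq_zero.1 (?_ : (4 : F) * (c * (2 * f (Y e) u - f u u * f (Y e') u) +
        (f (Y u) u - f u u * f (Y e) e')) = 0)).resolve_left (by
          rw [show (4 : F) = 2 * 2 by norm_num]; exact mul_ne_zero h2 h2)
      linear_combination this - 4 * f (Y u) u * hcc
    have a := q 1 (Or.inl rfl)
    have b := q (-1) (Or.inr rfl)
    exact ⟨mul_left_cancel₀ h2 (by linear_combination a + b), mul_left_cancel₀ h2 (by linear_combination a - b)⟩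
  have hB : ∀ u, f u e = 0 → f u e' = 0 → f u u ≠ 0 → f (Y e') u = 0 := by
    intro u u1 u2 u3
    rcases hbig with h4 | ⟨t, ht, htt⟩
    · obtain ⟨w, w1, w2, w3, w4⟩ : ∃ w, f w e = 0 ∧ f w e' = 0 ∧ f w u = 0 ∧ f w w ≠ 0 := by
        by_contra! hc
        obtain ⟨w, hw0, hw⟩ := exists_perp_ne hf (show 3 < n by omega) ![e, e', u]
        have w1 : f w e = 0 := hw 0
        have w2 : f w e' = 0 := hw 1
        have w3 : f w u = 0 := hw 2
        refine hw0 (hf.nd w fun v => ?_)
        obtain ⟨p1, p2⟩ := proj0_perp hf H v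
        set v₀ := proj0 f e e' v
        set v₁ := v₀ - (f v₀ u / f u u) • u
        have r1 : f v₁ e = 0 := by simp [v₁, sub_left' hf, hf.smul_left, p1, u1]
        have r2 : f v₁ e' = 0 := by simp [v₁, sub_left' hf, hf.smul_left, p2, u2]
        have r3 : f v₁ u = 0 := by
          simp [v₁, sub_left' hf, hf.smul_left, div_mul_cancel₀ _ u3]
        have e1 := hc (w + v₁) (by rw [hf.add_left, w1, r1, add_zero]) (by rw [hf.add_left, w2, r2, add_zero])
          (by rw [hf.add_left, w3, r3, add_zero])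
        rw [hf.add_left, hf.add_right, hf.add_right, hc w w1 w2 w3, hc v₁ r1 r2 r3, symm hf v₁ w, add_zero,
          zero_add, ← two_mul] at e1
        rw [decomp hf e e' v, hf.add_right, hf.add_right, smul_right' hf, smul_right' hf, w1, w2,
          show proj0 f e e' v = v₁ + (f v₀ u / f u u) • u by simp [v₁, v₀], hf.add_right, smul_right' hf, w3,
          (mul_eq_zero.1 e1).resolve_left h2]
        simp
      have a := (ev u u1 u2).2
      have b := (ev w w1 w2).2
      have c := (ev (u + w) (by rw [hf.add_left, u1, w1, add_zero]) (by rw [hf.add_left, u2, w2, add_zero])).2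
      have c' := (ev (u - w) (by rw [sub_left' hf, u1, w1, sub_zero]) (by rw [sub_left' hf, u2, w2, sub_zero])).2
      simp only [hf.add_left, hf.add_right, sub_left' hf, hf.sub_right, w3, symm hf u w] at c c'
      have h' : 2 * (f w w * f (Y e') u) = 0 := by linear_combination 2 * a - c - c'
      exact (mul_eq_zero.1 ((mul_eq_zero.1 h').resolve_left h2)).resolve_left w4
    · have a := (ev u u1 u2).2
      have c := (ev (t • u) (by rw [hf.smul_left, u1, mul_zero]) (by rw [hf.smul_left, u2, mul_zero])).2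
      simp only [hf.smul_left, smul_right' hf] at c
      have h' : t * ((1 - t * t) * (f u u * f (Y e') u)) = 0 := by linear_combination c - t * a
      exact (mul_eq_zero.1 ((mul_eq_zero.1 ((mul_eq_zero.1 h').resolve_left ht)).resolve_left
        (sub_ne_zero.2 fun h' => htt h'.symm))).resolve_left u3
  have hB' : ∀ u, f u e = 0 → f u e' = 0 → f (Y e') u = 0 ∧ f (Y e) u = 0 := by
    obtain ⟨u₀, a1, a2, a3⟩ := exists_aniso hf h2 hn H
    have key : ∀ u, f u e = 0 → f u e' = 0 → f u u ≠ 0 → f (Y e') u = 0 ∧ f (Y e) u = 0 := fun u u1 u2 u3 => by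
      refine ⟨hB u u1 u2 u3, ?_⟩
      have := (ev u u1 u2).2
      rw [hB u u1 u2 u3, mul_zero] at this
      exact (mul_eq_zero.1 this).resolve_left h2
    intro u u1 u2
    by_cases hu : f u u = 0
    · have b : f (Y e) u = 0 := by
        have := (ev u u1 u2).2
        rw [hu, zero_mul] at this
        exact (mul_eq_zero.1 this).resolve_left h2
      refine ⟨?_, b⟩
      have p : ∀ c : F, f (u + c • u₀) (u + c • u₀) = 2 * c * f u u₀ + c * c * f u₀ u₀ := fun c => by
        simp only [hf.add_left, hf.add_right, hf.smul_left, smul_right' hf, hu, symm hf u₀ u]; ring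
      obtain ⟨c, hc⟩ : ∃ c : F, f (u + c • u₀) (u + c • u₀) ≠ 0 := by
        by_contra! hc
        have x := hc 1
        have y := hc (-1)
        rw [p] at x y
        have : 2 * f u₀ u₀ = 0 := by linear_combination x + y
        exact a3 ((mul_eq_zero.1 this).resolve_left h2)
      have := (key _ (by rw [hf.add_left, hf.smul_left, u1, a1]; ring) (by rw [hf.add_left, hf.smul_left, u2, a2]; ring)
        hc).1
      rwa [hf.add_right, smul_right' hf, (key u₀ a1 a2 a3).1, mul_zero, add_zero] at this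
    · exact key u u1 u2 hu
  refine ⟨f (Y e) e', LinearMap.ext fun w => hf.eq_of_left fun v => ?_⟩
  rw [LinearMap.smul_apply, Module.End.one_apply, smul_right' hf]
  obtain ⟨w1, w2⟩ := proj0_perp hf H w
  obtain ⟨v1, v2⟩ := proj0_perp hf H v
  set w₀ := proj0 f e e' w with hw₀
  set v₀ := proj0 f e e' v with hv₀
  have hpol : f (Y w₀) v₀ = f w₀ v₀ * f (Y e) e' := by
    have a := (ev w₀ w1 w2).1
    have b := (ev v₀ v1 v2).1
    have c := (ev (w₀ + v₀) (by rw [hf.add_left, w1, v1, add_zero]) (by rw [hf.add_left, w2, v2, add_zero])).1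
    simp only [map_add, hf.add_left, hf.add_right, hs v₀ w₀, symm hf v₀ w₀] at c
    exact mul_left_cancel₀ h2 (by linear_combination c - a - b)
  rw [symm hf v (Y w), symm hf v w, decomp hf e e' w, decomp hf e e' v, ← hw₀, ← hv₀]
  simp only [map_add, map_smul, hf.add_left, hf.add_right, hf.smul_left, smul_right' hf, h e H.ee, h e' H.ee',
    H.ee, H.ee', H.one, h1', hs w₀ e, hs w₀ e', (hB' w₀ w1 w2).1, (hB' w₀ w1 w2).2, (hB' v₀ v1 v2).1,
    (hB' v₀ v1 v2).2, w1, w2, symm hf e v₀, symm hf e' v₀, v1, v2, hs e' e, hpol]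
  ring

/-- An extraction from the second differences. -/
theorem sq1_mem (h2 : (2 : F) ≠ 0) (hn : 3 ≤ n) (hbig : 4 ≤ n ∨ ∃ t : F, t ≠ 0 ∧ t * t ≠ 1)
    (S : Submodule F (Module.End F (Fin n → F))) {Y : Module.End F (Fin n → F)}
    (hd : ∀ e d, f e e = 0 → f d e = 0 → sie hf e d * Y * sie hf e (-d) - Y ∈ S)
    {e e' : Fin n → F} (H : Hyp f e e') (hβ : f (Y e) e ≠ 0) : sq1 hf e ∈ S := by
  have hD : ∀ d, f d e = 0 → quad2 hf e d Y + ((2 : F)⁻¹ * (f d d * f d d * f (Y e) e)) • sq1 hf e ∈ S := by
    intro d de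
    have de' : f (-d) e = 0 := by rw [← neg_one_smul F d, hf.smul_left, de, mul_zero]
    have hb := hd e (-d) H.ee de'
    rw [neg_neg] at hb
    have hm := S.add_mem (hd e d H.ee de) hb
    rw [show sie hf e d * Y * sie hf e (-d) - Y + (sie hf e (-d) * Y * sie hf e d - Y) =
      sie hf e d * Y * sie hf e (-d) + sie hf e (-d) * Y * sie hf e d - Y - Y by abel, conj_add hf h2,
      nn_sq hf H.ee de] at hm
    have e1 : -(f d d • sq1 hf e) * Y * -(f d d • sq1 hf e) = (f d d * f d d * f (Y e) e) • sq1 hf e :=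
      LinearMap.ext fun u => by
        simp [Module.End.mul_apply, sq1_apply, hf.smul_left, neg_left' hf, smul_smul]
        congr 1
        ring
    rwa [e1, smul_smul] at hm
  have fin : ∀ c : F, c ≠ 0 → c • sq1 hf e ∈ S → sq1 hf e ∈ S := fun c hc h => by
    have := S.smul_mem c⁻¹ h
    rwa [inv_smul_smul₀ hc] at this
  obtain ⟨u, u1, u2, u3⟩ := exists_aniso hf h2 hn H
  rcases hbig with h4 | ⟨t, ht, htt⟩
  · obtain ⟨w, w1, w3, w4⟩ : ∃ w, f w e = 0 ∧ f w u = 0 ∧ f w w ≠ 0 := by
      by_contra! hc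
      obtain ⟨w, hw0, hw⟩ := exists_perp_ne hf (show 3 < n by omega) ![e, e', u]
      have w1 : f w e = 0 := hw 0
      have w2 : f w e' = 0 := hw 1
      have w3 : f w u = 0 := hw 2
      refine hw0 (hf.nd w fun v => ?_)
      obtain ⟨p1, p2⟩ := proj0_perp hf H v
      set v₀ := proj0 f e e' v
      set v₁ := v₀ - (f v₀ u / f u u) • u
      have r1 : f v₁ e = 0 := by simp [v₁, sub_left' hf, hf.smul_left, p1, u1]
      have r3 : f v₁ u = 0 := by simp [v₁, sub_left' hf, hf.smul_left, div_mul_cancel₀ _ u3]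
      have e1 := hc (w + v₁) (by rw [hf.add_left, w1, r1, add_zero]) (by rw [hf.add_left, w3, r3, add_zero])
      rw [hf.add_left, hf.add_right, hf.add_right, hc w w1 w3, hc v₁ r1 r3, symm hf v₁ w, add_zero,
        zero_add, ← two_mul] at e1
      rw [decomp hf e e' v, hf.add_right, hf.add_right, smul_right' hf, smul_right' hf, w1, w2,
        show proj0 f e e' v = v₁ + (f v₀ u / f u u) • u by simp [v₁, v₀], hf.add_right, smul_right' hf, w3,
        (mul_eq_zero.1 e1).resolve_left h2]
      simp
    have hm := S.sub_mem (S.add_mem (hD (u + w) (by rw [hf.add_left, u1, w1, add_zero]))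
      (hD (u - w) (by rw [sub_left' hf, u1, w1, sub_zero]))) (S.smul_mem (2 : F) (S.add_mem (hD u u1) (hD w w1)))
    have np : nn hf e (u + w) = nn hf e u + nn hf e w := LinearMap.ext fun x => by
      simp [nn_apply, hf.add_right]; module
    have nm : nn hf e (u - w) = nn hf e u - nn hf e w := LinearMap.ext fun x => by
      simp [nn_apply, hf.sub_right]; module
    have key : quad2 hf e (u + w) Y + quad2 hf e (u - w) Y =
        (2 : F) • (quad2 hf e u Y + quad2 hf e w Y) := by
      unfold quad2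
      rw [np, nm]
      simp only [add_mul, mul_add, sub_mul, mul_sub]
      module
    refine fin ((2 : F)⁻¹ * f (Y e) e * (4 * (f u u * f w w))) ?_ ?_
    · exact mul_ne_zero (mul_ne_zero (inv_ne_zero h2) hβ) (mul_ne_zero (by
        rw [show (4 : F) = 2 * 2 by norm_num]; exact mul_ne_zero h2 h2) (mul_ne_zero u3 w4))
    · convert hm using 1
      simp only [hf.add_left, hf.add_right, sub_left' hf, hf.sub_right, w3, symm hf u w]
      rw [show ∀ (a b : Module.End F (Fin n → F)) (c d : F), a + c • sq1 hf e + (b + d • sq1 hf e) =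
        (a + b) + (c + d) • sq1 hf e from fun a b c d => by module, key]
      module
  · have hm := S.sub_mem (hD (t • u) (by rw [hf.smul_left, u1, mul_zero])) (S.smul_mem (t * t) (hD u u1))
    have nt : nn hf e (t • u) = t • nn hf e u := LinearMap.ext fun x => by
      simp [nn_apply, smul_right' hf]; module
    refine fin ((2 : F)⁻¹ * (t * t * (t * t - 1)) * (f u u * f u u * f (Y e) e)) ?_ ?_
    · exact mul_ne_zero (mul_ne_zero (inv_ne_zero h2) (mul_ne_zero (mul_ne_zero ht ht) (sub_ne_zero.2 htt)))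
        (mul_ne_zero (mul_ne_zero u3 u3) hβ)
    · convert hm using 1
      unfold quad2
      rw [nt]
      simp only [smul_mul_assoc, mul_smul_comm, hf.smul_left, smul_right' hf]
      module

theorem sq1_bracket {e e' : Fin n → F} (H : Hyp f e e') :
    sq1 hf e * sq1 hf e' - sq1 hf e' * sq1 hf e = nn hf e e' := by
  refine LinearMap.ext fun u => ?_
  simp only [LinearMap.sub_apply, Module.End.mul_apply, sq1_apply, nn_apply, hf.smul_left, H.one, symm hf e' e]
  module

end Cfsg.Agent.OTensor
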