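import Cfsg.Agent.Lib.OTensorOps

/-!
An overgroup of a tensor product of two orthogonal groups without skew root elements at a ruler meets the centre of
the radical of a ruler-plane stabiliser only in the root group.
-/

set_option autoImplicit false
set_option linter.unusedSectionVars false

namespace Cfsg.Agent.OTensor

open scoped Matrix MatrixGroups Kronecker
open Cfsg.Agent.TensorMax

variable {F : Type*} [Field F] {k l : ℕ}
variable {f₁ : (Fin k → F) → (Fin k → F) → F} {f₂ : (Fin l → F) → (Fin l → F) → F}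

/-- The standing hypotheses on an overgroup `M`. -/
structure OC (f₁ : (Fin k → F) → (Fin k → F) → F) (f₂ : (Fin l → F) → (Fin l → F) → F)
    (M : Subgroup (GL (Fin k × Fin l) F)) : Prop where
  h₁ : Sym f₁
  h₂ : Sym f₂
  two : (2 : F) ≠ 0
  hk : 3 ≤ k
  hl : 5 ≤ l
  hbig : 4 ≤ k ∨ ∃ t : F, t ≠ 0 ∧ t * t ≠ 1
  sane : Sane f₁
  hdiv : ¬ l ∣ k
  le : M ≤ isoT f₁ f₂
  sq : ∀ g ∈ Cfsg.Geo.kroneckerSubgroup k l F, g ∈ isoT f₁ f₂ → g * g ∈ M
  kconj : ∀ k₀ ∈ Cfsg.Geo.kroneckerSubgroup k l F, k₀ ∈ isoT f₁ f₂ → ∀ g ∈ M,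
    g ∈ Cfsg.Geo.kroneckerSubgroup k l F → k₀ * g * k₀⁻¹ ∈ M

/-- An element of the centre of the radical at the plane of `a` and `c`, as an operator. -/
def Central (f₁ : (Fin k → F) → (Fin k → F) → F) (f₂ : (Fin l → F) → (Fin l → F) → F) (a c : Fin l → F)
    (Λ : Module.End F (Fin k × Fin l → F)) : Prop :=
  (∀ u, tauOp f₂ a c (1 : Module.End F (Fin k → F)) u = 0 → Λ u = 0) ∧
    (∀ u, ∃ w, Λ u = tauOp f₂ a c (1 : Module.End F (Fin k → F)) w) ∧
    ∀ u w, T f₁ f₂ (Λ u) w = -T f₁ f₂ u (Λ w)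

/-- No root element with skew block at a single singular vector. -/
def NoSkew (f₁ : (Fin k → F) → (Fin k → F) → F) (f₂ : (Fin l → F) → (Fin l → F) → F)
    (M : Subgroup (GL (Fin k × Fin l) F)) : Prop :=
  ∀ a c a' c', Frm f₂ a c a' c' → ∀ D : Module.End F (Fin k → F), IsSkew f₁ D → El M (SOp f₂ a D a) → D = 0

variable {M : Subgroup (GL (Fin k × Fin l) F)}

theorem el_iff {N : Module.End F (Fin k × Fin l → F)} : El M N ↔ ∃ g ∈ M, lin g = 1 + N := by
  simp only [El, lin_eq]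

theorem el_conj {N : Module.End F (Fin k × Fin l → F)} (h : El M N) {g : GL (Fin k × Fin l) F} (hg : g ∈ M) :
    El M (lin g * N * lin g⁻¹) := by
  rw [lin_eq, lin_eq]
  exact El.conj h hg

theorem el_neg {N : Module.End F (Fin k × Fin l → F)} (h : El M N) (e : N * N = 0) : El M (-N) := by
  obtain ⟨g, hg, hgN⟩ := h
  exact ⟨g⁻¹, M.inv_mem hg, by rw [El.lin_inv g hgN e, sub_eq_add_neg]⟩

theorem neg_mul' {V : Type*} [AddCommGroup V] [Module F V] (A B : Module.End F V) : -A * B = -(A * B) :=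
  LinearMap.ext fun u => by simp [Module.End.mul_apply]

theorem mul_neg' {V : Type*} [AddCommGroup V] [Module F V] (A B : Module.End F V) : A * -B = -(A * B) :=
  LinearMap.ext fun u => by simp [Module.End.mul_apply]

theorem span_squares (h2 : (2 : F) ≠ 0) (t : F) : ∃ r s : F, t = r * r - s * s :=
  ⟨(t + 1) / 2, (t - 1) / 2, by field_simp; ring⟩

variable (h₁ : Sym f₁) (h₂ : Sym f₂)
include h₁ h₂

theorem T_SOp (a b : Fin l → F) (Y : Module.End F (Fin k → F)) (u w : Fin k × Fin l → F) :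
    T f₁ f₂ (SOp f₂ a Y b u) w = f₁ (Y (Pf f₂ k b u)) (Pf f₂ k a w) := by
  rw [SOp_apply, T_symm h₁ h₂]
  exact (tForm_right h₂ h₁ w _ a).trans (symm h₁ _ _)

omit h₁ h₂

section Central

variable {a c : Fin l → F} {Λ Λ' : Module.End F (Fin k × Fin l → F)}

theorem Central.zero (a c : Fin l → F) : Central f₁ f₂ a c 0 :=
  ⟨fun _ _ => rfl, fun _ => ⟨0, by simp⟩, fun u w => by simp [T, tForm, Cfsg.Geo.formOfGram]⟩

theorem T_add_left (u u' w : Fin k × Fin l → F) : T f₁ f₂ (u + u') w = T f₁ f₂ u w + T f₁ f₂ u' w :=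
  tForm_add_left u u' w

theorem T_smul_left (s : F) (u w : Fin k × Fin l → F) : T f₁ f₂ (s • u) w = s * T f₁ f₂ u w := by
  simp only [T, tForm, Cfsg.Geo.formOfGram, Pi.smul_apply, smul_eq_mul, Finset.mul_sum, mul_assoc]

theorem T_smul_right (s : F) (u w : Fin k × Fin l → F) : T f₁ f₂ u (s • w) = s * T f₁ f₂ u w := by
  simp only [T, tForm, Cfsg.Geo.formOfGram, Pi.smul_apply, smul_eq_mul, Finset.mul_sum, map_mul,
    RingHom.id_apply]
  exact Finset.sum_congr rfl fun _ _ => Finset.sum_congr rfl fun _ _ => by ring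

theorem Central.add (h : Central f₁ f₂ a c Λ) (h' : Central f₁ f₂ a c Λ') : Central f₁ f₂ a c (Λ + Λ') := by
  refine ⟨fun u hu => by rw [LinearMap.add_apply, h.1 u hu, h'.1 u hu, add_zero], fun u => ?_, fun u w => ?_⟩
  · obtain ⟨w, hw⟩ := h.2.1 u
    obtain ⟨w', hw'⟩ := h'.2.1 u
    exact ⟨w + w', by rw [LinearMap.add_apply, hw, hw', map_add]⟩
  · rw [LinearMap.add_apply, LinearMap.add_apply, T_add_left, h.2.2, h'.2.2]
    simp only [T]
    rw [tForm_add_right]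
    ring

theorem Central.smul (h : Central f₁ f₂ a c Λ) (s : F) : Central f₁ f₂ a c (s • Λ) := by
  refine ⟨fun u hu => by rw [LinearMap.smul_apply, h.1 u hu, smul_zero], fun u => ?_, fun u w => ?_⟩
  · obtain ⟨w, hw⟩ := h.2.1 u
    exact ⟨s • w, by rw [LinearMap.smul_apply, hw, map_smul]⟩
  · rw [LinearMap.smul_apply, LinearMap.smul_apply, T_smul_left, T_smul_right, h.2.2]
    ring

theorem Central.sub (h : Central f₁ f₂ a c Λ) (h' : Central f₁ f₂ a c Λ') : Central f₁ f₂ a c (Λ - Λ') := by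
  convert h.add (h'.smul (-1 : F)) using 1
  module

theorem Central.swap (h : Central f₁ f₂ a c Λ) : Central f₁ f₂ c a Λ := by
  have e : ∀ w, tauOp f₂ c a (1 : Module.End F (Fin k → F)) w = -tauOp f₂ a c 1 w := fun w => by
    simp [tauOp]
  refine ⟨fun u hu => h.1 u (by rw [← neg_eq_zero, ← e, hu]), fun u => ?_, h.2.2⟩
  obtain ⟨w, hw⟩ := h.2.1 u
  exact ⟨-w, by rw [e, hw, map_neg, neg_neg]⟩

theorem Central.conj (h : Central f₁ f₂ a c Λ) {g : GL (Fin k × Fin l) F} (hg : g ∈ isoT f₁ f₂)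
    (hX : lin g * tauOp f₂ a c 1 = tauOp f₂ a c 1 * lin g) :
    Central f₁ f₂ a c (lin g * Λ * lin g⁻¹) := by
  refine ⟨fun u hu => ?_, fun u => ?_, fun u w => ?_⟩
  · rw [Module.End.mul_apply, Module.End.mul_apply, h.1 _ ?_, map_zero]
    have e := LinearMap.congr_fun hX (lin g⁻¹ u)
    rw [Module.End.mul_apply, Module.End.mul_apply, lin_apply_inv, hu] at e
    rw [← lin_inv_apply g (tauOp f₂ a c 1 (lin g⁻¹ u)), e, map_zero]
  · obtain ⟨w, hw⟩ := h.2.1 (lin g⁻¹ u)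
    exact ⟨lin g w, by
      rw [Module.End.mul_apply, Module.End.mul_apply, hw, ← Module.End.mul_apply (lin g), hX,
        Module.End.mul_apply]⟩
  · calc T f₁ f₂ ((lin g * Λ * lin g⁻¹) u) w = T f₁ f₂ (lin g (Λ (lin g⁻¹ u))) (lin g (lin g⁻¹ w)) := by
          rw [lin_apply_inv]; rfl
      _ = T f₁ f₂ (Λ (lin g⁻¹ u)) (lin g⁻¹ w) := hg _ _
      _ = -T f₁ f₂ (lin g⁻¹ u) (Λ (lin g⁻¹ w)) := h.2.2 _ _
      _ = -T f₁ f₂ (lin g (lin g⁻¹ u)) (lin g (Λ (lin g⁻¹ w))) := by rw [hg]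
      _ = _ := by rw [lin_apply_inv]; rfl

include h₂ in
theorem tauOp_sq (ha : f₂ a a = 0) (hc : f₂ c c = 0) (hac : f₂ a c = 0) (Y Y' : Module.End F (Fin k → F)) :
    tauOp f₂ a c Y * tauOp f₂ a c Y' = 0 := by
  simp [tauOp, sub_mul, mul_sub, SOp_mul h₂, ha, hc, hac, symm h₂ c a]

include h₂ in
theorem Central.mul_eq_zero (ha : f₂ a a = 0) (hc : f₂ c c = 0) (hac : f₂ a c = 0)
    (h : Central f₁ f₂ a c Λ) (h' : Central f₁ f₂ a c Λ') : Λ * Λ' = 0 := by
  refine LinearMap.ext fun u => ?_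
  obtain ⟨w, hw⟩ := h'.2.1 u
  rw [Module.End.mul_apply, hw, LinearMap.zero_apply]
  refine h.1 _ ?_
  rw [← Module.End.mul_apply, tauOp_sq h₂ ha hc hac, LinearMap.zero_apply]

include h₁ h₂ in
theorem central_tauOp {a' c' : Fin l → F} (G : Frm f₂ a c a' c') {Y : Module.End F (Fin k → F)}
    (hY : IsSelfAdj f₁ Y) : Central f₁ f₂ a c (tauOp f₂ a c Y) := by
  refine ⟨fun u hu => ?_, fun u => ?_, fun u w => ?_⟩
  · obtain ⟨e1, e2⟩ := (kerX_iff h₂ G u).1 hu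
    simp [tauOp, SOp_apply, e1, e2, tp_zero_left]
  · exact (rangeX_iff h₂ G _).2 ⟨Y (Pf f₂ k c u), -Y (Pf f₂ k a u), by
      rw [tauOp, LinearMap.sub_apply, SOp_apply, SOp_apply, ← J_apply, ← J_apply, ← J_apply, map_neg,
        sub_eq_add_neg]⟩
  · rw [T_symm h₁ h₂ u]
    simp only [tauOp, LinearMap.sub_apply]
    rw [sub_eq_add_neg (SOp f₂ a Y c u), sub_eq_add_neg (SOp f₂ a Y c w), T_add_left, T_add_left,
      ← neg_one_smul F (SOp f₂ c Y a u), ← neg_one_smul F (SOp f₂ c Y a w), T_smul_left, T_smul_left,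
      T_SOp h₁ h₂, T_SOp h₁ h₂, T_SOp h₁ h₂, T_SOp h₁ h₂, symm h₁ _ (Pf f₂ k a u), symm h₁ _ (Pf f₂ k c u),
      ← hY, ← hY]
    ring

include h₁ h₂ in
theorem Central.blocks {a' c' : Fin l → F} (G : Frm f₂ a c a' c') (h : Central f₁ f₂ a c Λ) :
    ∃ A Y Y' D : Module.End F (Fin k → F), IsSkew f₁ A ∧ IsSkew f₁ D ∧ (∀ v w, f₁ (Y v) w = f₁ v (Y' w)) ∧
      Λ = SOp f₂ a A a + SOp f₂ a Y c - SOp f₂ c Y' a + SOp f₂ c D c := by
  set A := (Pf f₂ k a').comp (Λ.comp (J a')) with hA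
  set Y := (Pf f₂ k a').comp (Λ.comp (J c')) with hY
  set Y' := -((Pf f₂ k c').comp (Λ.comp (J a'))) with hY'
  set D := (Pf f₂ k c').comp (Λ.comp (J c')) with hD
  have e : ∀ v w b, f₁ (Pf f₂ k b (Λ v)) w = T f₁ f₂ (Λ v) (tp w b) := fun v w b =>
    (tForm_right h₂ h₁ _ _ _).symm
  have e' : ∀ v w b, f₁ v (Pf f₂ k b (Λ w)) = T f₁ f₂ (tp v b) (Λ w) := fun v w b => by
    rw [T_symm h₁ h₂, symm h₁]; exact e w v b
  refine ⟨A, Y, Y', D, fun v w => ?_, fun v w => ?_, fun v w => ?_, LinearMap.ext fun u => ?_⟩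
  · simp only [hA, LinearMap.comp_apply, J_apply, e, e', h.2.2]
  · simp only [hD, LinearMap.comp_apply, J_apply, e, e', h.2.2]
  · simp only [hY, hY', LinearMap.neg_apply, LinearMap.comp_apply, J_apply, e, h₁.neg_right, e', h.2.2]
  · obtain ⟨w, hw⟩ := h.2.1 u
    obtain ⟨p, q, hpq⟩ := (rangeX_iff h₂ G _).1 ⟨w, hw⟩
    have hp : Pf f₂ k a' (Λ u) = p := by
      rw [hpq, map_add, Pf_tp h₂, Pf_tp h₂, G.ha.one, symm h₂ c a', G.a'c, one_smul, zero_smul, add_zero]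
    have hq : Pf f₂ k c' (Λ u) = q := by
      rw [hpq, map_add, Pf_tp h₂, Pf_tp h₂, G.hc.one, G.ac', one_smul, zero_smul, zero_add]
    have hd : Λ u = Λ (tp (Pf f₂ k a u) a') + Λ (tp (Pf f₂ k c u) c') := by
      rw [← sub_eq_zero, ← map_add, ← map_sub]
      refine h.1 _ ((kerX_iff h₂ G _).2 ⟨?_, ?_⟩) <;>
        simp [map_sub, map_add, Pf_tp h₂, symm h₂ a' a, symm h₂ c' c, symm h₂ c' a, G.ha.one, G.hc.one, G.ac',
          G.a'c]
    have hp' : p = A (Pf f₂ k a u) + Y (Pf f₂ k c u) := by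
      rw [← hp, hd, map_add]; rfl
    have hq' : q = -Y' (Pf f₂ k a u) + D (Pf f₂ k c u) := by
      rw [← hq, hd, map_add, hY', LinearMap.neg_apply, neg_neg]; rfl
    rw [hpq, hp', hq', LinearMap.add_apply, LinearMap.sub_apply, LinearMap.add_apply, SOp_apply, SOp_apply,
      SOp_apply, SOp_apply, tp_add_left, tp_add_left, ← J_apply c (-_), map_neg, J_apply]
    abel

end Central

namespace OC

variable (C : OC f₁ f₂ M)
include C

theorem kr_mem_of_sq {α : GL (Fin k) F} {β : GL (Fin l) F} (hα : ∀ v w, f₁ (lin α v) (lin α w) = f₁ v w)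
    (hβ : ∀ v w, f₂ (lin β v) (lin β w) = f₂ v w) : kr (α * α) (β * β) ∈ M := by
  rw [← kr_mul]
  exact C.sq _ (kr_mem _ _) (isoT_kr C.h₁ C.h₂ (one_mul (1 : F)) (by simpa using hα) (by simpa using hβ))

theorem sie_mem {e d : Fin l → F} (he : f₂ e e = 0) (hd : f₂ d e = 0) :
    kr (1 : GL (Fin k) F) (sieGL C.h₂ C.two he hd) ∈ M := by
  have hh : f₂ ((2 : F)⁻¹ • d) e = 0 := by rw [C.h₂.smul_left, hd, mul_zero]
  have hsum : f₂ ((2 : F)⁻¹ • d + (2 : F)⁻¹ • d) e = 0 := by rw [C.h₂.add_left, hh, add_zero]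
  have h := C.kr_mem_of_sq (α := 1) (β := sieGL C.h₂ C.two he hh) (fun v w => by simp)
    (fun v w => by rw [lin_sieGL]; exact sie_preserves C.h₂ C.two he hh v w)
  rw [mul_one, sieGL_mul C.h₂ C.two he hh hh hsum] at h
  convert h using 2
  refine lin_injective ?_
  rw [lin_sieGL, lin_sieGL, ← add_smul, ← two_mul, mul_inv_cancel₀ C.two, one_smul]

theorem sie_mem_left {e d : Fin k → F} (he : f₁ e e = 0) (hd : f₁ d e = 0) :
    kr (sieGL C.h₁ C.two he hd) (1 : GL (Fin l) F) ∈ M := by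
  have hh : f₁ ((2 : F)⁻¹ • d) e = 0 := by rw [C.h₁.smul_left, hd, mul_zero]
  have hsum : f₁ ((2 : F)⁻¹ • d + (2 : F)⁻¹ • d) e = 0 := by rw [C.h₁.add_left, hh, add_zero]
  have h := C.kr_mem_of_sq (β := 1) (α := sieGL C.h₁ C.two he hh)
    (fun v w => by rw [lin_sieGL]; exact sie_preserves C.h₁ C.two he hh v w) (fun v w => by simp)
  rw [mul_one, sieGL_mul C.h₁ C.two he hh hh hsum] at h
  convert h using 2
  refine lin_injective ?_
  rw [lin_sieGL, lin_sieGL, ← add_smul, ← two_mul, mul_inv_cancel₀ C.two, one_smul]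

theorem conj1 {β : GL (Fin l) F} (hβ : ∀ v w, f₂ (lin β v) (lin β w) = f₂ v w) (a c : Fin l → F)
    (Y : Module.End F (Fin k → F)) :
    lin (kr (1 : GL (Fin k) F) β) * SOp f₂ a Y c * lin (kr (1 : GL (Fin k) F) β)⁻¹ =
      SOp f₂ (lin β a) Y (lin β c) := by
  rw [conj_SOp C.h₂ (one_ne_zero) (fun v w => by rw [hβ, one_mul]), inv_one, one_smul, mul_assoc, ← map_mul,
    mul_inv_cancel]
  simp

theorem conjL {α : GL (Fin k) F} (a c : Fin l → F)
    (Y : Module.End F (Fin k → F)) :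
    lin (kr α (1 : GL (Fin l) F)) * SOp f₂ a Y c * lin (kr α (1 : GL (Fin l) F))⁻¹ =
      SOp f₂ a (lin α * Y * lin α⁻¹) c := by
  rw [conj_SOp C.h₂ (one_ne_zero) (fun v w => by rw [map_one]; simp), inv_one, one_smul, mul_assoc, ← map_mul,
    mul_inv_cancel]
  simp

theorem sie_fix {a c a' c' : Fin l → F} (G : Frm f₂ a c a' c') (s : F) (hd : f₂ (s • c') a = 0) :
    lin (sieGL C.h₂ C.two G.ha.ee hd) a = a ∧ lin (sieGL C.h₂ C.two G.ha.ee hd) c = c + s • a := by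
  rw [lin_sieGL]
  constructor <;> rw [sie_apply C.h₂ a _ _ G.ha.ee hd]
  · rw [smul_right' C.h₂, G.ac', G.ha.ee]; module
  · rw [smul_right' C.h₂, G.hc.one, symm C.h₂ c a, G.ac, C.h₂.smul_left, smul_right' C.h₂, G.hc.ee']; module

theorem tau_all {a c a' c' : Fin l → F} (G : Frm f₂ a c a' c') {Y : Module.End F (Fin k → F)}
    (h : El M (tauOp f₂ a c Y)) (t : F) : El M (t • tauOp f₂ a c Y) := by
  have hsq := tauOp_sq (k := k) C.h₂ G.ha.ee G.hc.ee G.ac Y Y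
  have hz : ∀ r s : F, (r • tauOp f₂ a c Y) * (s • tauOp f₂ a c Y) = 0 := fun r s => by
    rw [smul_mul_smul_comm, hsq, smul_zero]
  have sqr : ∀ μ : F, μ ≠ 0 → El M ((μ * μ) • tauOp f₂ a c Y) := by
    intro μ hμ
    let tor : F → Module.End F (Fin l → F) := fun m =>
      1 + (m - 1) • ((bl C.h₂).flip a').smulRight a + (m⁻¹ - 1) • ((bl C.h₂).flip a).smulRight a'
    have tor_apply : ∀ m w, tor m w = w + ((m - 1) * f₂ w a') • a + ((m⁻¹ - 1) * f₂ w a) • a' := fun m w => by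
      simp [tor, bl_apply, smul_smul]
    have h1' : f₂ a' a = 1 := by rw [symm C.h₂, G.ha.one]
    have tor_pres : ∀ m, m ≠ 0 → ∀ v w, f₂ (tor m v) (tor m w) = f₂ v w := fun m hm v w => by
      simp only [tor_apply, C.h₂.add_left, C.h₂.add_right, C.h₂.smul_left, smul_right' C.h₂, G.ha.ee, G.ha.ee',
        G.ha.one, h1', symm C.h₂ a w, symm C.h₂ a' w]
      field_simp
      ring
    have tor_mul : ∀ m, m ≠ 0 → tor m * tor m⁻¹ = 1 := fun m hm => LinearMap.ext fun w => by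
      simp only [Module.End.mul_apply, Module.End.one_apply, tor_apply, C.h₂.add_left, C.h₂.smul_left, G.ha.ee,
        G.ha.ee', G.ha.one, h1', inv_inv]
      match_scalars <;> field_simp <;> ring
    set β : GL (Fin l) F := ofPair (tor μ) (tor μ⁻¹) (tor_mul μ hμ)
      (by have := tor_mul μ⁻¹ (inv_ne_zero hμ); rwa [inv_inv] at this) with hβ
    have hβp : ∀ v w, f₂ (lin β v) (lin β w) = f₂ v w := fun v w => by rw [hβ, lin_ofPair]; exact tor_pres μ hμ v w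
    have hM := C.kr_mem_of_sq (α := 1) (β := β) (fun v w => by simp) hβp
    rw [mul_one] at hM
    have he := el_conj h hM
    have ea : lin (β * β) a = (μ * μ) • a := by
      rw [map_mul, Module.End.mul_apply, hβ, lin_ofPair, tor_apply μ a, G.ha.ee, G.ha.one, tor_apply]
      simp only [C.h₂.add_left, C.h₂.smul_left, G.ha.ee, G.ha.one]
      module
    have ec : lin (β * β) c = c := by
      have e0 : tor μ c = c := by
        rw [tor_apply, symm C.h₂ c a', G.a'c, symm C.h₂ c a, G.ac]; module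
      rw [map_mul, Module.End.mul_apply, hβ, lin_ofPair, e0, e0]
    have hp : ∀ v w, f₂ (lin (β * β) v) (lin (β * β) w) = f₂ v w := fun v w => by
      rw [map_mul, Module.End.mul_apply, Module.End.mul_apply, hβp, hβp]
    rw [tauOp, mul_sub, sub_mul, C.conj1 hp, C.conj1 hp, ea, ec, SOp_smul_left C.h₂, SOp_smul_right C.h₂,
      RingHom.id_apply] at he
    rw [tauOp, smul_sub]
    exact he
  have sqr' : ∀ μ : F, El M ((μ * μ) • tauOp f₂ a c Y) := fun μ => by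
    by_cases hμ : μ = 0
    · rw [hμ, mul_zero, zero_smul]; exact El.zero M
    · exact sqr μ hμ
  obtain ⟨r, s, rfl⟩ := span_squares C.two t
  have hn := el_neg (sqr' s) (hz _ _)
  rw [← El.smul_neg_left] at hn
  have := (sqr' r).add hn (hz _ _)
  rwa [← add_smul, ← sub_eq_add_neg] at this

/-- The scalar blocks at a frame. -/
def tauSpace {a c a' c' : Fin l → F} (G : Frm f₂ a c a' c') : Submodule F (Module.End F (Fin k → F)) where
  carrier := {Y | IsSelfAdj f₁ Y ∧ ∀ t : F, El M (t • tauOp f₂ a c Y)}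
  zero_mem' := ⟨fun u w => by simp [C.h₁.zero_left, C.h₁.zero_right], fun t => by
    rw [tauOp, SOp_zero C.h₂, SOp_zero C.h₂, sub_zero, smul_zero]; exact El.zero M⟩
  add_mem' := fun {Y Z} hY hZ => ⟨fun u w => by
    rw [LinearMap.add_apply, LinearMap.add_apply, C.h₁.add_left, C.h₁.add_right, hY.1, hZ.1], fun t => by
    have := (hY.2 t).add (hZ.2 t) (by rw [smul_mul_smul_comm, tauOp_sq C.h₂ G.ha.ee G.hc.ee G.ac, smul_zero])
    convert this using 1
    simp only [tauOp, SOp_add C.h₂]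
    module⟩
  smul_mem' := fun s Y hY => ⟨fun u w => by
    rw [LinearMap.smul_apply, LinearMap.smul_apply, C.h₁.smul_left, smul_right' C.h₁, hY.1], fun t => by
    have := hY.2 (t * s)
    convert this using 1
    simp only [tauOp, SOp_smul C.h₂]
    module⟩

theorem mem_tauSpace {a c a' c' : Fin l → F} {G : Frm f₂ a c a' c'} {Y : Module.End F (Fin k → F)} :
    Y ∈ C.tauSpace G ↔ IsSelfAdj f₁ Y ∧ ∀ t : F, El M (t • tauOp f₂ a c Y) := Iff.rfl

theorem sie_selfAdj {e d : Fin k → F} (he : f₁ e e = 0) (hd : f₁ d e = 0) {Y : Module.End F (Fin k → F)}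
    (hY : IsSelfAdj f₁ Y) : IsSelfAdj f₁ (sie C.h₁ e d * Y * sie C.h₁ e (-d)) := by
  intro u w
  have hd' : f₁ (-d) e = 0 := by rw [neg_left' C.h₁, hd, neg_zero]
  have hinv : ∀ z, sie C.h₁ e d (sie C.h₁ e (-d) z) = z := fun z => by
    rw [← Module.End.mul_apply, sie_mul C.h₁ C.two he hd hd', add_neg_cancel, sie_zero C.h₁ he,
      Module.End.one_apply]
  have key : ∀ x z, f₁ (sie C.h₁ e d x) z = f₁ x (sie C.h₁ e (-d) z) := fun x z => by
    conv_lhs => rw [← hinv z, sie_preserves C.h₁ C.two he hd]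
  simp only [Module.End.mul_apply]
  rw [key, hY, symm C.h₁, ← key, symm C.h₁]

theorem tau_conjL {a c : Fin l → F} {e d : Fin k → F} (he : f₁ e e = 0) (hd : f₁ d e = 0)
    (Y : Module.End F (Fin k → F)) :
    lin (kr (sieGL C.h₁ C.two he hd) (1 : GL (Fin l) F)) * tauOp f₂ a c Y *
        lin (kr (sieGL C.h₁ C.two he hd) (1 : GL (Fin l) F))⁻¹ =
      tauOp f₂ a c (sie C.h₁ e d * Y * sie C.h₁ e (-d)) := by
  rw [tauOp, mul_sub, sub_mul, C.conjL, C.conjL, lin_sieGL, lin_sieGL_inv, ← tauOp]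

theorem tauSpace_inv {a c a' c' : Fin l → F} (G : Frm f₂ a c a' c') {e d : Fin k → F} (he : f₁ e e = 0)
    (hd : f₁ d e = 0) {Y : Module.End F (Fin k → F)} (hY : Y ∈ C.tauSpace G) :
    sie C.h₁ e d * Y * sie C.h₁ e (-d) ∈ C.tauSpace G := by
  refine C.mem_tauSpace.2 ⟨C.sie_selfAdj he hd hY.1, fun t => ?_⟩
  have := el_conj (hY.2 t) (C.sie_mem_left he hd)
  rwa [mul_smul_comm, smul_mul_assoc, C.tau_conjL he hd] at this

/-- The central operators with admissible differences are multiples of the root operator. -/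
theorem central_scalar [Finite F] (hN : NoSkew f₁ f₂ M) {a c a' c' : Fin l → F} (G : Frm f₂ a c a' c')
    {Λ : Module.End F (Fin k × Fin l → F)} (hΛ : Central f₁ f₂ a c Λ)
    (hd : ∀ h ∈ M, h ∈ Cfsg.Geo.kroneckerSubgroup k l F →
      lin h * tauOp f₂ a c 1 = tauOp f₂ a c 1 * lin h → El M (lin h * Λ * lin h⁻¹ - Λ)) :
    ∃ t : F, Λ = t • tauOp f₂ a c 1 := by
  obtain ⟨A, Y, Y', D, hA, hD, hadj, hΛeq⟩ := hΛ.blocks C.h₁ C.h₂ G
  have hshift : ∀ {a c a' c' : Fin l → F} (G : Frm f₂ a c a' c') (A Y Y' D : Module.End F (Fin k → F))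
      (Λ : Module.End F (Fin k × Fin l → F)), Central f₁ f₂ a c Λ →
      Λ = SOp f₂ a A a + SOp f₂ a Y c - SOp f₂ c Y' a + SOp f₂ c D c →
      (∀ h ∈ M, h ∈ Cfsg.Geo.kroneckerSubgroup k l F →
        lin h * tauOp f₂ a c 1 = tauOp f₂ a c 1 * lin h → El M (lin h * Λ * lin h⁻¹ - Λ)) →
      ∀ s : F, Central f₁ f₂ a c (s • SOp f₂ a (Y - Y') a + s • (SOp f₂ a D c + SOp f₂ c D a) +
          (s * s) • SOp f₂ a D a) ∧
        El M (s • SOp f₂ a (Y - Y') a + s • (SOp f₂ a D c + SOp f₂ c D a) + (s * s) • SOp f₂ a D a) := by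
    intro a c a' c' G A Y Y' D Λ hΛ hΛeq hd s
    have hsd : f₂ (s • c') a = 0 := by rw [C.h₂.smul_left, symm C.h₂, G.ac', mul_zero]
    obtain ⟨ea, ec⟩ := C.sie_fix G s hsd
    set h := kr (1 : GL (Fin k) F) (sieGL C.h₂ C.two G.ha.ee hsd)
    have hh : h ∈ M := C.sie_mem G.ha.ee hsd
    have hp : ∀ v w, f₂ (lin (sieGL C.h₂ C.two G.ha.ee hsd) v) (lin (sieGL C.h₂ C.two G.ha.ee hsd) w) = f₂ v w :=
      fun v w => by rw [lin_sieGL]; exact sie_preserves C.h₂ C.two G.ha.ee hsd v w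
    have hX : lin h * tauOp f₂ a c 1 = tauOp f₂ a c 1 * lin h := by
      have : lin h * tauOp f₂ a c 1 * lin h⁻¹ = tauOp f₂ a c 1 := by
        rw [tauOp, mul_sub, sub_mul, C.conj1 hp, C.conj1 hp, ea, ec, ← tauOp, ← tauOp, tauOp_shift C.h₂]
      conv_rhs => rw [← this, mul_assoc, ← map_mul, inv_mul_cancel, map_one, mul_one]
    have e : lin h * Λ * lin h⁻¹ - Λ =
        s • SOp f₂ a (Y - Y') a + s • (SOp f₂ a D c + SOp f₂ c D a) + (s * s) • SOp f₂ a D a := by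
      rw [hΛeq, mul_add, mul_sub, mul_add, add_mul, sub_mul, add_mul, C.conj1 hp, C.conj1 hp, C.conj1 hp,
        C.conj1 hp, ea, ec]
      simp only [SOp_add_left C.h₂, SOp_add_right C.h₂, SOp_smul_left C.h₂, SOp_smul_right C.h₂, RingHom.id_apply,
        smul_add, smul_smul]
      rw [sub_eq_add_neg Y Y', SOp_add C.h₂, ← neg_one_smul F Y', SOp_smul C.h₂]
      module
    rw [← e]
    exact ⟨(hΛ.conj (C.le hh) hX).sub hΛ, hd h hh (kr_mem _ _) hX⟩
  have hD0 : ∀ {a c a' c' : Fin l → F} (G : Frm f₂ a c a' c') (A Y Y' D : Module.End F (Fin k → F))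
      (Λ : Module.End F (Fin k × Fin l → F)), Central f₁ f₂ a c Λ → IsSkew f₁ D →
      Λ = SOp f₂ a A a + SOp f₂ a Y c - SOp f₂ c Y' a + SOp f₂ c D c →
      (∀ h ∈ M, h ∈ Cfsg.Geo.kroneckerSubgroup k l F →
        lin h * tauOp f₂ a c 1 = tauOp f₂ a c 1 * lin h → El M (lin h * Λ * lin h⁻¹ - Λ)) → D = 0 := by
    intro a c a' c' G A Y Y' D Λ hΛ hD hΛeq hd
    obtain ⟨c1, e1⟩ := hshift G A Y Y' D Λ hΛ hΛeq hd 1
    obtain ⟨c2, e2⟩ := hshift G A Y Y' D Λ hΛ hΛeq hd (-1)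
    have h := e1.add e2 (c1.mul_eq_zero C.h₂ G.ha.ee G.hc.ee G.ac c2)
    have h' : El M (SOp f₂ a ((2 : F) • D) a) := by
      convert h using 1
      rw [SOp_smul C.h₂]
      module
    have h2D := hN a c a' c' G _ (fun u w => by
      rw [LinearMap.smul_apply, LinearMap.smul_apply, C.h₁.smul_left, smul_right' C.h₁, hD]; ring) h'
    exact (smul_eq_zero.1 h2D).resolve_left C.two
  have hD' : D = 0 := hD0 G A Y Y' D Λ hΛ hD hΛeq hd
  have hA' : A = 0 := by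
    refine hD0 (G.swap C.h₂) D (-Y') (-Y) A Λ hΛ.swap hA ?_ fun h hh hk hX => hd h hh hk ?_
    · rw [hΛeq, ← neg_one_smul F Y', ← neg_one_smul F Y, SOp_smul C.h₂, SOp_smul C.h₂]
      module
    · have e : tauOp f₂ c a (1 : Module.End F (Fin k → F)) = -tauOp f₂ a c 1 := by simp [tauOp]
      rw [e, mul_neg', neg_mul', neg_inj] at hX
      exact hX
  subst hD' hA'
  have hYY : Y = Y' := by
    obtain ⟨-, e1⟩ := hshift G 0 Y Y' 0 Λ hΛ hΛeq hd 1
    simp only [SOp_zero C.h₂, smul_zero, add_zero, one_smul] at e1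
    refine sub_eq_zero.1 (hN a c a' c' G _ (fun u w => ?_) e1)
    have hadj' : ∀ v z, f₁ (Y' v) z = f₁ v (Y z) := fun v z => by rw [symm C.h₁, ← hadj, symm C.h₁]
    rw [LinearMap.sub_apply, LinearMap.sub_apply, sub_left' C.h₁, C.h₁.sub_right, hadj, hadj']
    ring
  subst hYY
  have hYs : IsSelfAdj f₁ Y := hadj
  have hΛτ : Λ = tauOp f₂ a c Y := by rw [hΛeq, SOp_zero C.h₂, SOp_zero C.h₂, tauOp]; abel
  have hdiff : ∀ e d, f₁ e e = 0 → f₁ d e = 0 → sie C.h₁ e d * Y * sie C.h₁ e (-d) - Y ∈ C.tauSpace G := by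
    intro e d he hde
    have hsa : IsSelfAdj f₁ (sie C.h₁ e d * Y * sie C.h₁ e (-d) - Y) := fun u w => by
      rw [LinearMap.sub_apply, LinearMap.sub_apply, sub_left' C.h₁, C.h₁.sub_right, C.sie_selfAdj he hde hYs,
        hYs]
    refine C.mem_tauSpace.2 ⟨hsa, C.tau_all G ?_⟩
    have hX : lin (kr (sieGL C.h₁ C.two he hde) (1 : GL (Fin l) F)) * tauOp f₂ a c 1 =
        tauOp f₂ a c 1 * lin (kr (sieGL C.h₁ C.two he hde) (1 : GL (Fin l) F)) := by
      have := C.tau_conjL (a := a) (c := c) he hde 1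
      rw [mul_one, sie_mul C.h₁ C.two he hde (by rw [neg_left' C.h₁, hde, neg_zero]), add_neg_cancel,
        sie_zero C.h₁ he] at this
      conv_rhs => rw [← this, mul_assoc, ← map_mul, inv_mul_cancel, map_one, mul_one]
    have := hd _ (C.sie_mem_left he hde) (kr_mem _ _) hX
    rw [hΛτ, C.tau_conjL he hde] at this
    convert this using 1
    rw [tauOp, tauOp, tauOp, sub_eq_add_neg _ Y, SOp_add C.h₂, SOp_add C.h₂, ← neg_one_smul F Y,
      SOp_smul C.h₂, SOp_smul C.h₂]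
    module
  -- a rank one block gives a skew root
  have hno : ∀ e e', Hyp f₁ e e' → sq1 C.h₁ e ∉ C.tauSpace G := by
    intro e e' H hmem
    have hmem' : sq1 C.h₁ e' ∈ C.tauSpace G := sq1_mem C.h₁ C.two C.hk C.hbig _ (Y := sq1 C.h₁ e)
      (fun x d hx hdx => sub_mem (C.tauSpace_inv G hx hdx hmem) hmem) (H.swap C.h₁)
      (by simp [sq1_apply, C.h₁.smul_left, H.one, symm C.h₁ e' e])
    obtain ⟨u, u1, u2, u3, u4, u5⟩ := exists_aniso_four C.h₂ C.two C.hl G.ha G.hc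
      (by rw [symm C.h₂, G.ac]) (by rw [symm C.h₂, G.a'c]) (by rw [symm C.h₂, G.ac']) (by rw [symm C.h₂, G.a'c'])
    have hp : ∀ v w, f₂ (lin (sieGL C.h₂ C.two G.hc.ee' u4) v) (lin (sieGL C.h₂ C.two G.hc.ee' u4) w) = f₂ v w :=
      fun v w => by rw [lin_sieGL]; exact sie_preserves C.h₂ C.two G.hc.ee' u4 v w
    set c'' := lin (sieGL C.h₂ C.two G.hc.ee' u4) c with hc''
    have eA : lin (sieGL C.h₂ C.two G.hc.ee' u4) a = a := by
      rw [lin_sieGL, sie_apply C.h₂ c' u a G.hc.ee' u4, symm C.h₂ a u, u1, G.ac']; module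
    have eC : f₂ c'' c = -((2 : F)⁻¹ * f₂ u u) := by
      rw [hc'', lin_sieGL, sie_apply C.h₂ c' u c G.hc.ee' u4, symm C.h₂ c u, u3, G.hc.one]
      simp [C.h₂.add_left, sub_left' C.h₂, C.h₂.smul_left, neg_left' C.h₂, u3, symm C.h₂ c' c, G.hc.ee, G.hc.one]
    have eac : f₂ c'' a = 0 := by
      have := hp c a
      rw [eA, ← hc''] at this
      rw [this, symm C.h₂, G.ac]
    have ecc : f₂ c'' c'' = 0 := by rw [hc'', hp, G.hc.ee]
    obtain ⟨-, h1⟩ := C.mem_tauSpace.1 hmem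
    obtain ⟨-, h2⟩ := C.mem_tauSpace.1 hmem'
    have h2' := el_conj (h2 1) (C.sie_mem G.hc.ee' u4)
    rw [one_smul, tauOp, mul_sub, sub_mul, C.conj1 hp, C.conj1 hp, eA, ← hc'', ← tauOp] at h2'
    have h1' := h1 1
    rw [one_smul] at h1'
    have ac'' : f₂ a c'' = 0 := by rw [symm C.h₂, eac]
    have hca : f₂ c a = 0 := by rw [symm C.h₂, G.ac]
    have hcomm := El.comm h1' h2' (tauOp_sq C.h₂ G.ha.ee G.hc.ee G.ac _ _)
      (tauOp_sq C.h₂ G.ha.ee ecc ac'' _ _)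
      (by simp [tauOp, sub_mul, mul_sub, SOp_mul C.h₂, G.ha.ee, G.ac, eac, ac'', hca, symm C.h₂ c c'', neg_mul'])
      (by simp [tauOp, sub_mul, mul_sub, SOp_mul C.h₂, G.ha.ee, G.ac, eac, ac'', hca, symm C.h₂ c c'', neg_mul'])
    have hcm : tauOp f₂ a c (sq1 C.h₁ e) * tauOp f₂ a c'' (sq1 C.h₁ e') -
        tauOp f₂ a c'' (sq1 C.h₁ e') * tauOp f₂ a c (sq1 C.h₁ e) =
          SOp f₂ a (((2 : F)⁻¹ * f₂ u u) • nn C.h₁ e e') a := by
      rw [← sq1_bracket C.h₁ H]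
      simp only [tauOp, sub_mul, mul_sub, SOp_mul C.h₂, G.ha.ee, G.ac, eac, ac'', hca, symm C.h₂ c c'', eC,
        SOp_smul C.h₂]
      rw [sub_eq_add_neg (sq1 C.h₁ e * sq1 C.h₁ e'), SOp_add C.h₂, ← neg_one_smul F (sq1 C.h₁ e' * sq1 C.h₁ e),
        SOp_smul C.h₂]
      module
    rw [hcm] at hcomm
    have h0 := hN a c a' c' G _ (fun x y => by
      rw [LinearMap.smul_apply, LinearMap.smul_apply, C.h₁.smul_left, smul_right' C.h₁, nn_skew C.h₁]; ring) hcomm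
    have h0' := (smul_eq_zero.1 h0).resolve_left (mul_ne_zero (inv_ne_zero C.two) u5)
    have := congrArg (fun z => f₁ z e') (LinearMap.congr_fun h0' e)
    simp [nn_apply, sub_left' C.h₁, C.h₁.smul_left, H.ee, H.one, neg_left' C.h₁, C.h₁.zero_left] at this
  obtain ⟨e₀, he₀, he₀'⟩ := exists_singular C.h₁ C.hk
  obtain ⟨e₁, he₁, he₁'⟩ := exists_partner C.h₁ C.two he₀ he₀'
  by_cases hsing : ∀ x, f₁ x x = 0 → f₁ (Y x) x = 0
  · obtain ⟨κ, rfl⟩ := selfAdj_scalar C.h₁ C.two C.hk C.hbig ⟨he₀', he₁, he₁'⟩ hYs hsing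
    exact ⟨κ, by rw [hΛτ, tauOp, tauOp, SOp_smul C.h₂, SOp_smul C.h₂, smul_sub]⟩
  · push Not at hsing
    obtain ⟨x, hx, hxY⟩ := hsing
    have hx0 : x ≠ 0 := fun h => hxY (by rw [h, map_zero, C.h₁.zero_left])
    obtain ⟨x', hx', hxx'⟩ := exists_partner C.h₁ C.two hx0 hx
    exact absurd (sq1_mem C.h₁ C.two C.hk C.hbig _ hdiff ⟨hx, hx', hxx'⟩ hxY) (hno x x' ⟨hx, hx', hxx'⟩)

/-- Central elements of `M` are root elements. -/
theorem central_mem_scalar [Finite F] (hN : NoSkew f₁ f₂ M) {a c a' c' : Fin l → F} (G : Frm f₂ a c a' c')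
    {Λ : Module.End F (Fin k × Fin l → F)} (hΛ : Central f₁ f₂ a c Λ) (hel : El M Λ) :
    ∃ t : F, Λ = t • tauOp f₂ a c 1 := by
  refine C.central_scalar hN G hΛ fun h hh _ hX => ?_
  have hc := hΛ.conj (C.le hh) hX
  rw [sub_eq_add_neg]
  refine (el_conj hel hh).add (el_neg hel (hΛ.mul_eq_zero C.h₂ G.ha.ee G.hc.ee G.ac hΛ)) ?_
  rw [mul_neg', hc.mul_eq_zero C.h₂ G.ha.ee G.hc.ee G.ac hΛ, neg_zero]

/-- The root group lies in `M`. -/
theorem root_mem {a c a' c' : Fin l → F} (G : Frm f₂ a c a' c') (t : F) :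
    ∃ g ∈ M, g ∈ Cfsg.Geo.kroneckerSubgroup k l F ∧ lin g = 1 + t • tauOp f₂ a c 1 := by
  have hd : f₂ (t • c) a = 0 := by rw [C.h₂.smul_left, symm C.h₂, G.ac, mul_zero]
  refine ⟨_, C.sie_mem G.ha.ee hd, kr_mem _ _, ?_⟩
  rw [lin_kr_sie C.h₂ C.two G.ha.ee hd, C.h₂.smul_left, smul_right' C.h₂, G.hc.ee]
  simp [tauOp, SOp_smul_left C.h₂, SOp_smul_right C.h₂, smul_sub]

end OC

end Cfsg.Agent.OTensor
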