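import Cfsg.Agent.Lib.OTensorCore

/-!
An element outside a subgroup that controls the conjugates of a root element yields an element of the stabiliser
of the image of the root displacement with prescribed fixed space.
-/

set_option autoImplicit false
set_option linter.unusedSectionVars false

namespace Cfsg.Agent.OTensor

variable {F : Type*} [Field F] {V : Type*} [AddCommGroup V] [Module F V]
variable {B : LinearMap.BilinForm F V} {G : Type*} [Group G] {ρ : G →* Module.End F V} {X : Module.End F V}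
  {x : F → G}

/-- The displacement of a conjugate of the root element. -/
def disp (ρ : G →* Module.End F V) (X : Module.End F V) (g : G) : Module.End F V := ρ g * X * ρ g⁻¹

theorem disp_apply (g : G) (v : V) : disp ρ X g v = ρ g (X (ρ g⁻¹ v)) := rfl

namespace RootData

variable (D : RootData B ρ X x)
include D

theorem apply_inv (g : G) (v : V) : ρ g (ρ g⁻¹ v) = v := by
  rw [← Module.End.mul_apply, ← map_mul, mul_inv_cancel, map_one, Module.End.one_apply]

theorem disp_sq (g : G) : disp ρ X g * disp ρ X g = 0 := by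
  refine LinearMap.ext fun v => ?_
  rw [Module.End.mul_apply, disp_apply, disp_apply, D.inv_apply, ← Module.End.mul_apply X X, D.sq]
  simp

theorem disp_skew (g : G) (u w : V) : B (disp ρ X g u) w = -B u (disp ρ X g w) := by
  calc B (disp ρ X g u) w = B (X (ρ g⁻¹ u)) (ρ g⁻¹ w) := by
        rw [disp_apply, ← D.iso g (X (ρ g⁻¹ u)) (ρ g⁻¹ w), D.apply_inv]
    _ = -B (ρ g⁻¹ u) (X (ρ g⁻¹ w)) := D.skew _ _
    _ = _ := by rw [← D.iso g (ρ g⁻¹ u) (X (ρ g⁻¹ w)), D.apply_inv, disp_apply]

theorem disp_rank [FiniteDimensional F V] (g : G) :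
    Module.finrank F (LinearMap.range (disp ρ X g)) = Module.finrank F (LinearMap.range X) := by
  have hsurj : LinearMap.range (ρ g⁻¹) = ⊤ :=
    LinearMap.range_eq_top.2 fun v => ⟨ρ g v, D.inv_apply g v⟩
  have hinj : Function.Injective (ρ g) := Function.LeftInverse.injective (D.inv_apply g)
  rw [disp, Module.End.mul_eq_comp, Module.End.mul_eq_comp, LinearMap.range_comp_of_range_eq_top _ hsurj,
    LinearMap.range_comp]
  exact (Submodule.equivMapOfInjective _ hinj _).finrank_eq.symm

theorem rho_conj (g : G) (t : F) : ρ (g * x t * g⁻¹) = 1 + t • disp ρ X g := by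
  rw [map_mul, map_mul, D.root, mul_add, mul_one, add_mul, ← map_mul, mul_inv_cancel, map_one, mul_smul_comm,
    smul_mul_assoc, disp]

theorem disp_step (g : G) :
    disp ρ X (g * x 1 * g⁻¹) = (1 + disp ρ X g) * X * (1 - disp ρ X g) := by
  have h : (g * x 1 * g⁻¹)⁻¹ = g * x (-1) * g⁻¹ := by
    refine inv_eq_of_mul_eq_one_right ?_
    rw [show g * x 1 * g⁻¹ * (g * x (-1) * g⁻¹) = g * (x 1 * x (-1)) * g⁻¹ by group, D.x_add, add_neg_cancel,
      D.x_zero, mul_one, mul_inv_cancel]
  rw [disp, h, D.rho_conj, D.rho_conj, one_smul, neg_one_smul, ← sub_eq_add_neg]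

theorem step_block (g : G) (u : V) :
    X (disp ρ X (g * x 1 * g⁻¹) (X u)) = -X (disp ρ X g (X (disp ρ X g (X u)))) := by
  have hXX : ∀ v, X (X v) = 0 := fun v => LinearMap.congr_fun D.sq v
  rw [D.disp_step]
  simp [Module.End.mul_apply, hXX, map_sub, map_add]

theorem step_kill {g : G} {u : V} (h : X (disp ρ X g (X u)) = 0) : disp ρ X (g * x 1 * g⁻¹) (X u) = 0 := by
  have hXX : ∀ v, X (X v) = 0 := fun v => LinearMap.congr_fun D.sq v
  rw [D.disp_step]
  simp [Module.End.mul_apply, hXX, map_sub, h]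

theorem step_mem_range {g : G} {u : V} (h : disp ρ X g (X u) = 0) :
    X u ∈ LinearMap.range (disp ρ X (g * x 1 * g⁻¹)) := by
  refine ⟨u + disp ρ X g u, ?_⟩
  have hYY : ∀ v, disp ρ X g (disp ρ X g v) = 0 := fun v => LinearMap.congr_fun (D.disp_sq g) v
  rw [D.disp_step]
  simp [Module.End.mul_apply, hYY, map_add, h]
  abel

/-- A `p`-subgroup containing the root element lies in a subgroup controlling its conjugates. -/
theorem pgroup_le [Finite G] {p : ℕ} [Fact p.Prime] {H : Subgroup G} (hC : ∀ g, g * x 1 * g⁻¹ ∈ H → g ∈ H)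
    {Q : Subgroup G} (hQ : IsPGroup p Q) (hxQ : x 1 ∈ Q) (hxH : x 1 ∈ H) : Q ≤ H := by
  intro z hz
  by_contra hzH
  have hlt : H.subgroupOf Q < ⊤ := lt_top_iff_ne_top.2 fun h => hzH (Subgroup.subgroupOf_eq_top.1 h hz)
  haveI : Group.IsNilpotent Q := hQ.isNilpotent
  obtain ⟨y, hy, hyH⟩ := SetLike.exists_of_lt (Group.normalizerCondition_of_isNilpotent _ hlt)
  refine hyH (Subgroup.mem_subgroupOf.2 (hC _ ?_))
  have h := (Subgroup.mem_normalizer_iff.1 hy ⟨x 1, hxQ⟩).1 (Subgroup.mem_subgroupOf.2 hxH)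
  simpa [Subgroup.mem_subgroupOf] using h

/-- The displacement of the next conjugate. -/
theorem first_step {y : G} {Y : Module.End F V} (hy : ρ y = 1 + Y) (hY : Y * Y = 0) (u : V) :
    X (disp ρ X y (X u)) = -X (Y (X (Y (X u)))) := by
  have hinv : ρ y⁻¹ = 1 - Y := by
    have h1 : ρ y⁻¹ * (1 + Y) = 1 := by rw [← hy, ← map_mul, inv_mul_cancel, map_one]
    calc ρ y⁻¹ = ρ y⁻¹ * ((1 + Y) * (1 - Y)) := by
          rw [add_mul, one_mul, mul_sub, mul_one, hY, sub_zero, sub_add_cancel, mul_one]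
      _ = 1 - Y := by rw [← mul_assoc, h1, one_mul]
  have hXX : ∀ v, X (X v) = 0 := fun v => LinearMap.congr_fun D.sq v
  rw [disp_apply, hinv, hy]
  simp [hXX, map_sub, map_add]

/-- The iterated conjugates `g ↦ g x g⁻¹`. -/
theorem escape [FiniteDimensional F V] [Fintype F] [Finite G] {H : Subgroup G} (hxH : ∀ t, x t ∈ H)
    (hC : ∀ g, g * x 1 * g⁻¹ ∈ H → g ∈ H) {y : G} {Y : Module.End F V} (hy : ρ y = 1 + Y) (hY : Y * Y = 0)
    (hYskew : ∀ u w, B (Y u) w = -B u (Y w))
    (hrank : Module.finrank F (LinearMap.range Y) = Module.finrank F (LinearMap.range X)) (hyH : y ∉ H) :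
    ∃ h : G, (∀ u, ∃ w, ρ h (X u) = X w) ∧ (∀ v, X v = 0 → ∃ u, ρ h (v - X u) = v - X u) ∧
      ∀ v, ρ h v = v ↔ X v = 0 ∧ Y v = 0 := by
  classical
  set T := X * Y with hT
  let f : G → G := fun a => a * x 1 * a⁻¹
  set N := Module.finrank F V with hN
  have hseq : ∀ n, f^[n] y ∉ H := by
    intro n
    induction n with
    | zero => exact hyH
    | succ n ih => rw [Function.iterate_succ_apply']; exact fun h => ih (hC _ h)
  have hblock : ∀ n, ∃ c : F, c ≠ 0 ∧ ∀ u, X (disp ρ X (f^[n] y) (X u)) = c • (T ^ (2 ^ (n + 1))) (X u) := by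
    intro n
    induction n with
    | zero =>
      refine ⟨-1, neg_ne_zero.2 one_ne_zero, fun u => ?_⟩
      rw [Function.iterate_zero_apply, D.first_step hy hY, neg_one_smul]
      simp [hT, pow_two, Module.End.mul_apply]
    | succ n ih =>
      obtain ⟨c, hc, hcu⟩ := ih
      refine ⟨-(c * c), neg_ne_zero.2 (mul_ne_zero hc hc), fun u => ?_⟩
      rw [Function.iterate_succ_apply', D.step_block, hcu, hcu u, map_smul, smul_smul, ← Module.End.mul_apply,
        ← pow_add, neg_smul, ← two_mul, ← pow_succ']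
  have hstable : ∀ n, N ≤ n → ∀ (m : ℕ) (v : V), (T ^ m) v = 0 → (T ^ (2 ^ (n + 1))) v = 0 := by
    intro n hn m v hv
    have h1 : (T ^ N) v = 0 :=
      LinearMap.mem_ker.1 (Module.End.ker_pow_le_ker_pow_finrank T m (LinearMap.mem_ker.2 hv))
    have h2 : N ≤ 2 ^ (n + 1) := (Nat.le_succ_of_le hn).trans (Nat.lt_two_pow_self).le
    rw [← Nat.sub_add_cancel h2, pow_add, Module.End.mul_apply, h1, map_zero]
  have hS : ∀ n, N ≤ n → ∀ u, X (disp ρ X (f^[n] y) (X (disp ρ X (f^[n] y) (X u)))) = 0 →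
      X (disp ρ X (f^[n] y) (X u)) = 0 := by
    intro n hn u hu
    obtain ⟨c, hc, hcu⟩ := hblock n
    rw [hcu, hcu u, map_smul, smul_smul, ← Module.End.mul_apply, ← pow_add] at hu
    rw [hcu, hstable n hn _ _ ((smul_eq_zero.1 hu).resolve_left (mul_ne_zero hc hc)), smul_zero]
  have hA : ∀ n, N ≤ n → ∀ u, X (disp ρ X (f^[n + 1] y) (X u)) = 0 → disp ρ X (f^[n + 1] y) (X u) = 0 := by
    intro n hn u hu
    rw [Function.iterate_succ_apply'] at hu ⊢
    refine D.step_kill (hS n hn u ?_)
    rwa [D.step_block, neg_eq_zero] at hu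
  set g₂ := f^[N + 2] y with hg₂
  by_cases hne : ∃ u, X (disp ρ X g₂ (X u)) ≠ 0
  · obtain ⟨hinj, -⟩ := D.core (y := g₂ * x 1 * g₂⁻¹) (Y := disp ρ X g₂) (by rw [D.rho_conj, one_smul])
      (D.disp_sq _) (D.disp_skew _) (D.disp_rank _) (hA (N + 1) (by omega))
      (fun u hu => by
        rw [hg₂, show N + 2 = (N + 1) + 1 from rfl, Function.iterate_succ_apply']
        refine D.step_mem_range (hA N le_rfl u (hS (N + 1) (by omega) u ?_))
        have h := congrArg X hu
        rw [map_zero, hg₂, show N + 2 = (N + 1) + 1 from rfl, Function.iterate_succ_apply', D.step_block,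
          neg_eq_zero] at h
        exact h)
      (hS (N + 2) (by omega)) hne
    obtain ⟨c, hc, hcu⟩ := hblock (N + 2)
    have hT0 : ∀ u, X (Y (X u)) = 0 → X u = 0 := fun u hu => by
      refine hinj u (hA (N + 1) (by omega) u ?_)
      have h1 : (T ^ 1) (X u) = 0 := by simpa [hT, Module.End.mul_apply] using hu
      rw [hcu, hstable (N + 2) (by omega) 1 _ h1, smul_zero]
    obtain ⟨-, h, hh, hcong, hfix⟩ := D.core (y := y) (Y := Y) hy hY hYskew hrank
      (fun u hu => by rw [hT0 u hu, map_zero])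
      (fun u hu => by rw [hT0 u (by rw [hu, map_zero])]; exact Submodule.zero_mem _) (fun u hu => hT0 _ hu) (by
        obtain ⟨u, hu⟩ := hne
        refine ⟨u, fun h0 => hu ?_⟩
        rw [hT0 u h0, map_zero, map_zero])
    exact ⟨h, hh, hcong, hfix⟩
  · exfalso
    push Not at hne
    obtain ⟨p, hp⟩ := CharP.exists F
    haveI : Fact p.Prime := ⟨(CharP.char_is_prime_or_zero F p).resolve_right (CharP.char_ne_zero_of_finite F p)⟩
    haveI : Nontrivial V := by
      by_contra hV
      rw [not_nontrivial_iff_subsingleton] at hV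
      refine hseq 1 ?_
      have h1 : f^[1] y = 1 := D.inj (LinearMap.ext fun v => Subsingleton.elim _ _)
      rw [h1]
      exact H.one_mem
    have hP : IsPGroup p (Subgroup.closure (Set.range x ∪ {g₂ * x 1 * g₂⁻¹})) := by
      refine isPGroup_of_nilpotent (X := X) (Y := disp ρ X g₂) D.sq (D.disp_sq g₂) (LinearMap.ext hne) ρ D.inj _ ?_
      rintro s (⟨t, rfl⟩ | rfl)
      · exact ⟨_, Submodule.smul_mem _ t (Submodule.subset_span (by simp)), D.root t⟩
      · exact ⟨disp ρ X g₂, Submodule.subset_span (by simp), by rw [D.rho_conj, one_smul]⟩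
    exact hseq (N + 2) (hC _ (D.pgroup_le hC hP (Subgroup.subset_closure (Or.inl ⟨1, rfl⟩)) (hxH 1)
      (Subgroup.subset_closure (Or.inr rfl))))

end RootData

end Cfsg.Agent.OTensor
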