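import Cfsg.Agent.Lib.OTensorKronMem
import Cfsg.Agent.Lib.OTensorEscape
import Cfsg.Agent.Lib.SymplecticAlt

/-!
A conjugate of a root element that is a pure tensor is a root element.
-/

set_option autoImplicit false
set_option linter.unusedSectionVars false

namespace Cfsg.Agent.OTensor

open scoped Matrix MatrixGroups Kronecker
open Cfsg.Agent.TensorMax

variable {F : Type*} [Field F] {k l : ℕ}
variable {f₁ : (Fin k → F) → (Fin k → F) → F} {f₂ : (Fin l → F) → (Fin l → F) → F}

/-- The pure-tensor sum of a family. -/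
def tsum {r : ℕ} (b : Fin r → Fin l → F) : (Fin r → Fin k → F) →ₗ[F] (Fin k × Fin l → F) :=
  ∑ i, (J (b i)).comp (LinearMap.proj i)

theorem tsum_apply {r : ℕ} (b : Fin r → Fin l → F) (v : Fin r → Fin k → F) :
    tsum b v = ∑ i, tp (v i) (b i) := by simp [tsum, LinearMap.sum_apply, J_apply]

/-- The pure-tensor sum of a family in the first factor. -/
def tsumL {r : ℕ} (b : Fin r → Fin k → F) : (Fin r → Fin l → F) →ₗ[F] (Fin k × Fin l → F) where
  toFun w := ∑ i, tp (b i) (w i)
  map_add' u w := by simp [tp_add_right, Finset.sum_add_distrib]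
  map_smul' s w := by simp [tp_smul_right, Finset.smul_sum]

/-- A pair of unipotent operators with tensor product `1` minus a square-zero map has a trivial member. -/
theorem one_trivial (h2 : (2 : F) ≠ 0) {A : Module.End F (Fin k → F)} {B : Module.End F (Fin l → F)}
    (hA : IsNilpotent A) (hB : IsNilpotent B) (Y : Module.End F (Fin k × Fin l → F))
    (hY : ∀ v w, Y (tp v w) = tp (A v) w + tp v (B w) + tp (A v) (B w)) (hsq : Y * Y = 0) :
    A = 0 ∨ B = 0 := by
  have hex : ∀ {n : ℕ} (N : Module.End F (Fin n → F)), IsNilpotent N → N ≠ 0 → ∃ v, N v ≠ 0 ∧ N (N v) = 0 := by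
    intro n N hN hN0
    by_contra! h
    obtain ⟨m, hm⟩ := hN
    obtain ⟨v, hv⟩ : ∃ v, N v ≠ 0 := by
      by_contra! h0
      exact hN0 (LinearMap.ext h0)
    have key : ∀ j : ℕ, (N ^ j) (N v) ≠ 0 := by
      intro j
      induction j with
      | zero => simpa using hv
      | succ j ih =>
        rw [pow_succ', Module.End.mul_apply]
        intro h0
        cases j with
        | zero => exact h v hv (by simpa using h0)
        | succ j => exact h ((N ^ j) (N v)) (by rw [← Module.End.mul_apply N, ← pow_succ']; exact ih)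
                      (by rw [← Module.End.mul_apply N (N ^ j), ← pow_succ']; exact h0)
    exact key m (by rw [hm, LinearMap.zero_apply])
  by_contra! h
  obtain ⟨v, hv, hv2⟩ := hex A hA h.1
  obtain ⟨w, hw, hw2⟩ := hex B hB h.2
  have e := LinearMap.congr_fun hsq (tp v w)
  rw [Module.End.mul_apply, hY, map_add, map_add, hY, hY, hY, hv2, hw2, LinearMap.zero_apply] at e
  simp only [tp_zero_left, tp_zero_right, zero_add, add_zero] at e
  rw [← two_smul F (tp (A v) (B w)), smul_eq_zero] at e
  obtain ⟨i, hi⟩ := Function.ne_iff.1 hv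
  obtain ⟨j, hj⟩ := Function.ne_iff.1 hw
  exact mul_ne_zero hi hj (congrFun (e.resolve_left h2) (i, j))

namespace OC

variable {M : Subgroup (GL (Fin k × Fin l) F)} (C : OC f₁ f₂ M) [Fintype F] (hN : NoSkew f₁ f₂ M)
include C hN

/-- A conjugate of a root element that is a pure tensor comes from a pure tensor. -/
theorem mem_kron_of_conj {a c a' c' : Fin l → F} (G : Frm f₂ a c a' c') {g x : GL (Fin k × Fin l) F}
    (hg : g ∈ M) (hx : lin x = 1 + tauOp f₂ a c 1) (hy : g * x * g⁻¹ ∈ Cfsg.Geo.kroneckerSubgroup k l F) :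
    g ∈ Cfsg.Geo.kroneckerSubgroup k l F := by
  classical
  obtain ⟨α, β, hαβ⟩ := exists_kr hy
  set X := tauOp f₂ a c (1 : Module.End F (Fin k → F)) with hX
  set Y := lin g * X * lin g⁻¹ with hYdef
  have hXX : X * X = 0 := tauOp_sq C.h₂ G.ha.ee G.hc.ee G.ac 1 1
  have hyY : lin (kr α β) = 1 + Y := by
    rw [← hαβ, map_mul, map_mul, hx, mul_add, mul_one, add_mul, ← map_mul, mul_inv_cancel, map_one]
  have hYY : Y * Y = 0 := by
    rw [hYdef, show lin g * X * lin g⁻¹ * (lin g * X * lin g⁻¹) = lin g * X * (lin g⁻¹ * lin g) * X * lin g⁻¹ by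
      simp only [mul_assoc], ← map_mul, inv_mul_cancel, map_one, mul_one, mul_assoc (lin g) X X, hXX, mul_zero,
      zero_mul]
  obtain ⟨p, hp⟩ := CharP.exists F
  haveI : Fact p.Prime := ⟨(CharP.char_is_prime_or_zero F p).resolve_right (CharP.char_ne_zero_of_finite F p)⟩
  have hk0 : 0 < k := by have := C.hk; omega
  have hl0 : 0 < l := by have := C.hl; omega
  haveI : Nonempty (Fin k) := ⟨⟨0, hk0⟩⟩
  haveI : Nonempty (Fin l) := ⟨⟨0, hl0⟩⟩
  haveI : CharP (Module.End F (Fin k → F)) p :=
    charP_of_injective_algebraMap (algebraMap F (Module.End F (Fin k → F))).injective p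
  haveI : CharP (Module.End F (Fin l → F)) p :=
    charP_of_injective_algebraMap (algebraMap F (Module.End F (Fin l → F))).injective p
  haveI : CharP (Module.End F (Fin k × Fin l → F)) p :=
    charP_of_injective_algebraMap (algebraMap F (Module.End F (Fin k × Fin l → F))).injective p
  have hp1 : lin (kr α β) ^ p = 1 := by
    rw [hyY, add_pow_char_of_commute _ (Commute.one_left _), one_pow,
      pow_eq_zero_of_le (Fact.out : p.Prime).two_le (show Y ^ 2 = 0 by rw [pow_two, hYY]), add_zero]
  -- the two factors are scalar multiples of unipotent maps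
  have hpow : ∀ (m : ℕ) v w, (lin (kr α β) ^ m) (tp v w) = tp ((lin α ^ m) v) ((lin β ^ m) w) := by
    intro m
    induction m with
    | zero => intro v w; simp
    | succ m ih => intro v w; rw [pow_succ', Module.End.mul_apply, ih, lin_kr_tp, pow_succ', pow_succ']; rfl
  have hpt : ∀ v w, tp ((lin α ^ p) v) ((lin β ^ p) w) = tp v w := fun v w => by
    rw [← hpow, hp1, Module.End.one_apply]
  set i₀ : Fin k := ⟨0, hk0⟩
  set j₀ : Fin l := ⟨0, hl0⟩
  set ca := ((lin β ^ p) (Pi.single j₀ 1)) j₀ with hca
  set cb := ((lin α ^ p) (Pi.single i₀ 1)) i₀ with hcb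
  have hcab : cb * ca = 1 := by
    have := congrFun (hpt (Pi.single i₀ 1) (Pi.single j₀ 1)) (i₀, j₀)
    simpa [tp] using this
  have hαp : ∀ v, (lin α ^ p) v = cb • v := fun v => funext fun i => by
    have := congrFun (hpt v (Pi.single j₀ 1)) (i, j₀)
    simp only [tp, Pi.single_eq_same, mul_one] at this
    rw [Pi.smul_apply, smul_eq_mul, ← this, ← hca]
    linear_combination (-((lin α ^ p) v i)) * hcab
  have hβp : ∀ w, (lin β ^ p) w = ca • w := fun w => funext fun j => by
    have := congrFun (hpt (Pi.single i₀ 1) w) (i₀, j)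
    simp only [tp, Pi.single_eq_same, one_mul] at this
    rw [Pi.smul_apply, smul_eq_mul, ← this, ← hcb]
    linear_combination (-((lin β ^ p) w j)) * hcab
  obtain ⟨d, hd⟩ : ∃ d : F, d ^ p = cb := by
    have hbij : Function.Bijective (frobenius F p) :=
      ⟨frobenius_inj F p, Finite.injective_iff_surjective.1 (frobenius_inj F p)⟩
    obtain ⟨d, hd⟩ := hbij.2 cb
    exact ⟨d, by rw [← frobenius_def, hd]⟩
  have hd0 : d ≠ 0 := fun h0 => by
    rw [h0, zero_pow (Fact.out : p.Prime).ne_zero] at hd
    rw [← hd, zero_mul] at hcab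
    exact zero_ne_one hcab
  set A := d⁻¹ • lin α - 1 with hA
  set B := d • lin β - 1 with hB
  have hAn : IsNilpotent A := ⟨p, by
    rw [hA, sub_pow_char_of_commute _ (Commute.one_right _), one_pow, _root_.smul_pow, inv_pow, hd, sub_eq_zero]
    exact LinearMap.ext fun v => by
      rw [LinearMap.smul_apply, hαp, smul_smul, inv_mul_cancel₀ (left_ne_zero_of_mul_eq_one hcab), one_smul,
        Module.End.one_apply]⟩
  have hBn : IsNilpotent B := ⟨p, by
    rw [hB, sub_pow_char_of_commute _ (Commute.one_right _), one_pow, _root_.smul_pow, hd, sub_eq_zero]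
    exact LinearMap.ext fun w => by
      rw [LinearMap.smul_apply, hβp, smul_smul, hcab, one_smul, Module.End.one_apply]⟩
  have hYtp : ∀ v w, Y (tp v w) = tp (A v) w + tp v (B w) + tp (A v) (B w) := by
    intro v w
    have e : Y = lin (kr α β) - 1 := by rw [hyY, add_sub_cancel_left]
    rw [e, LinearMap.sub_apply, Module.End.one_apply, lin_kr_tp]
    funext q
    simp only [hA, hB, tp, Pi.add_apply, Pi.sub_apply, LinearMap.sub_apply, LinearMap.smul_apply, Pi.smul_apply,
      smul_eq_mul, Module.End.one_apply]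
    field_simp
    ring
  have hginj : Function.Injective (lin g) := Function.LeftInverse.injective (lin_inv_apply g)
  have hrank : Module.finrank F (LinearMap.range Y) = 2 * k := by
    have hr : LinearMap.range Y = (LinearMap.range X).map (lin g) := by
      rw [hYdef, Module.End.mul_eq_comp, Module.End.mul_eq_comp, LinearMap.range_comp_of_range_eq_top _
        (LinearMap.range_eq_top.2 fun v => ⟨lin g v, lin_inv_apply g v⟩), LinearMap.range_comp]
    rw [hr, ← (Submodule.equivMapOfInjective _ hginj _).finrank_eq]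
    let Φ := tsum (k := k) ![a, c]
    have hΦ : LinearMap.range X = LinearMap.range Φ := by
      refine Submodule.ext fun u => ⟨fun ⟨w, hw⟩ => ?_, fun ⟨v, hv⟩ => ?_⟩
      · obtain ⟨p, q, hpq⟩ := (rangeX_iff C.h₂ G u).1 ⟨w, hw.symm⟩
        exact ⟨![p, q], by rw [hpq, tsum_apply, Fin.sum_univ_two]; rfl⟩
      · obtain ⟨w, hw⟩ := (rangeX_iff C.h₂ G u).2 ⟨v 0, v 1, by rw [← hv, tsum_apply, Fin.sum_univ_two]; rfl⟩
        exact ⟨w, hw.symm⟩
    have hinj : Function.Injective Φ := by
      rw [← LinearMap.ker_eq_bot, LinearMap.ker_eq_bot']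
      intro v hv
      rw [tsum_apply, Fin.sum_univ_two] at hv
      have e1 := congrArg (Pf f₂ k a') hv
      have e2 := congrArg (Pf f₂ k c') hv
      simp only [Matrix.cons_val_zero, Matrix.cons_val_one, map_add, map_zero, Pf_tp C.h₂, G.ha.one, G.hc.one, G.ac',
        symm C.h₂ c a', G.a'c, one_smul, zero_smul, add_zero, zero_add] at e1 e2
      funext i
      fin_cases i
      · simpa using e1
      · simpa using e2
    rw [hΦ, LinearMap.finrank_range_of_inj hinj, Module.finrank_pi_fintype]
    simp
  have hskewX : ∀ u w, T f₁ f₂ (X u) w = -T f₁ f₂ u (X w) :=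
    (central_tauOp C.h₁ C.h₂ G (fun _ _ => rfl)).2.2
  have hiso : ∀ u w, T f₁ f₂ (Y u) (Y w) = 0 := fun u w => by
    rw [hYdef, Module.End.mul_apply, Module.End.mul_apply, Module.End.mul_apply, Module.End.mul_apply, C.le hg,
      hskewX, ← Module.End.mul_apply X X, hXX, LinearMap.zero_apply, T_symm C.h₁ C.h₂, T_zero_left, neg_zero]
  rcases one_trivial C.two hAn hBn Y hYtp hYY with hA0 | hB0
  · -- the second factor moves a singular plane
    have hYv : ∀ v w, Y (tp v w) = tp v (B w) := fun v w => by rw [hYtp, hA0]; simp [tp_zero_left]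
    let bs := Module.finBasis F (LinearMap.range B)
    let b : Fin (Module.finrank F (LinearMap.range B)) → Fin l → F := fun i => (bs i : Fin l → F)
    have hb : LinearIndependent F b := bs.linearIndependent.map' (LinearMap.range B).subtype (Submodule.ker_subtype _)
    have hinj : Function.Injective (tsum (k := k) b) := by
      rw [← LinearMap.ker_eq_bot, LinearMap.ker_eq_bot']
      intro v hv
      funext i q
      refine Fintype.linearIndependent_iff.1 hb (fun i => v i q) ?_ i
      funext j
      have := congrFun hv (q, j)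
      simpa [tsum_apply, Finset.sum_apply, tp] using this
    have hbB : ∀ i, ∃ w, B w = b i := fun i => (bs i).2
    have hrange : LinearMap.range Y = LinearMap.range (tsum (k := k) b) := by
      refine le_antisymm ?_ ?_
      · rintro _ ⟨u, rfl⟩
        rw [tp_decomp u, map_sum]
        refine Submodule.sum_mem _ fun q _ => ?_
        rw [hYv]
        obtain ⟨cf, hcf⟩ : ∃ cf : Fin (Module.finrank F (LinearMap.range B)) → F,
            B (fun j => u (q, j)) = ∑ i, cf i • b i := by
          refine ⟨fun i => bs.repr ⟨_, LinearMap.mem_range_self B fun j => u (q, j)⟩ i, ?_⟩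
          have h := congrArg Subtype.val (bs.sum_repr ⟨_, LinearMap.mem_range_self B fun j => u (q, j)⟩)
          rw [Submodule.coe_sum] at h
          exact h.symm
        refine ⟨fun i => cf i • Pi.single q 1, ?_⟩
        rw [tsum_apply, hcf]
        funext z
        simp [tp, Finset.sum_apply, Finset.mul_sum]
        exact Finset.sum_congr rfl fun i _ => by ring
      · rintro _ ⟨v, rfl⟩
        rw [tsum_apply]
        refine Submodule.sum_mem _ fun i _ => ?_
        obtain ⟨w, hw⟩ := hbB i
        exact ⟨tp (v i) w, by rw [hYv, hw]⟩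
    have hr2 : Module.finrank F (LinearMap.range B) = 2 := by
      have h := LinearMap.finrank_range_of_inj hinj
      rw [← hrange, hrank, Module.finrank_pi_fintype] at h
      simp at h
      rcases h with h | h <;> omega
    let i1 : Fin (Module.finrank F (LinearMap.range B)) := ⟨0, by omega⟩
    let i2 : Fin (Module.finrank F (LinearMap.range B)) := ⟨1, by omega⟩
    have huniv : ∀ i, i = i1 ∨ i = i2 := fun i => by
      have := i.isLt
      rcases Nat.lt_or_ge i.val 1 with h | h
      · left; exact Fin.ext (by simp [i1]; omega)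
      · right; exact Fin.ext (by simp [i2]; omega)
    have hne12 : i1 ≠ i2 := by simp [i1, i2, Fin.ext_iff]
    obtain ⟨x₀, hx₀⟩ : ∃ x₀ : Fin k → F, x₀ ≠ 0 := ⟨Pi.single i₀ 1, by simp⟩
    obtain ⟨y₀, hy₀⟩ : ∃ y₀, f₁ x₀ y₀ ≠ 0 := by
      by_contra! h0
      exact hx₀ (C.h₁.nd _ h0)
    have hbb : ∀ i j, f₂ (b i) (b j) = 0 := fun i j => by
      obtain ⟨w, hw⟩ := hbB i
      obtain ⟨w', hw'⟩ := hbB j
      have h := hiso (tp x₀ w) (tp y₀ w')
      rw [hYv, hYv, T_tp C.h₁ C.h₂, hw, hw'] at h
      exact (mul_eq_zero.1 h).resolve_left hy₀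
    have hsum : ∀ φ : Fin (Module.finrank F (LinearMap.range B)) → Fin k × Fin l → F,
        ∑ i, φ i = φ i1 + φ i2 := fun φ => by
      rw [← Finset.sum_pair hne12]
      exact Finset.sum_congr (by ext i; simpa using huniv i) fun _ _ => rfl
    obtain ⟨u', v', G₁⟩ := exists_frame C.h₂ C.two (a := b i1) (c := b i2) (hb.ne_zero i1) (hbb _ _) (hbb _ _)
      (hbb _ _) (fun y hy => by
        have hcoef := Fintype.linearIndependent_iff.1 hb (fun i => if i = i2 then 1 else -y) (by
          have : (fun i => (if i = i2 then (1 : F) else -y) • b i) = fun i =>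
              if i = i2 then b i2 else (-y) • b i1 := funext fun i => by
            rcases huniv i with rfl | rfl <;> simp [hne12]
          rw [this, ← Finset.sum_subset (Finset.subset_univ ({i1, i2} : Finset _)) (fun i _ hi => by
            exfalso; rcases huniv i with rfl | rfl <;> simp at hi), Finset.sum_pair hne12, if_neg hne12, if_pos rfl,
            hy, neg_smul, neg_add_cancel]) i2
        simp at hcoef)
    refine C.ruler_kron hN hg G G₁ fun x y => ?_
    obtain ⟨w, hw⟩ := (rangeX_iff C.h₂ G _).2 ⟨x, y, rfl⟩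
    have hmem : lin g (tp x a + tp y c) ∈ LinearMap.range Y :=
      ⟨lin g w, by rw [hYdef, Module.End.mul_apply, Module.End.mul_apply, lin_inv_apply, hw]⟩
    rw [hrange] at hmem
    obtain ⟨v, hv⟩ := hmem
    exact ⟨v i1, v i2, by rw [← hv, tsum_apply, hsum]⟩
  · -- the first factor cannot move
    exfalso
    have hYv : ∀ v w, Y (tp v w) = tp (A v) w := fun v w => by rw [hYtp, hB0]; simp [tp_zero_right]
    let bs := Module.finBasis F (LinearMap.range A)
    let b : Fin (Module.finrank F (LinearMap.range A)) → Fin k → F := fun i => (bs i : Fin k → F)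
    have hb : LinearIndependent F b := bs.linearIndependent.map' (LinearMap.range A).subtype (Submodule.ker_subtype _)
    have hinj : Function.Injective (tsumL (l := l) b) := by
      rw [← LinearMap.ker_eq_bot, LinearMap.ker_eq_bot']
      intro v hv
      funext i q
      refine Fintype.linearIndependent_iff.1 hb (fun i => v i q) ?_ i
      funext j
      have := congrFun hv (j, q)
      simpa [tsumL, Finset.sum_apply, tp, mul_comm] using this
    have hrange : LinearMap.range Y = LinearMap.range (tsumL (l := l) b) := by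
      refine le_antisymm ?_ ?_
      · rintro _ ⟨u, rfl⟩
        rw [tp_decomp u, map_sum]
        refine Submodule.sum_mem _ fun q _ => ?_
        rw [hYv]
        obtain ⟨cf, hcf⟩ : ∃ cf : Fin (Module.finrank F (LinearMap.range A)) → F,
            A (Pi.single q 1) = ∑ i, cf i • b i := by
          refine ⟨fun i => bs.repr ⟨_, LinearMap.mem_range_self A (Pi.single q 1)⟩ i, ?_⟩
          have h := congrArg Subtype.val (bs.sum_repr ⟨_, LinearMap.mem_range_self A (Pi.single q 1)⟩)
          rw [Submodule.coe_sum] at h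
          exact h.symm
        refine ⟨fun i j => cf i * u (q, j), ?_⟩
        rw [hcf]
        funext z
        simp [tsumL, tp, Finset.sum_apply, Finset.sum_mul]
        exact Finset.sum_congr rfl fun i _ => by ring
      · rintro _ ⟨v, rfl⟩
        show ∑ i, tp (b i) (v i) ∈ LinearMap.range Y
        refine Submodule.sum_mem _ fun i _ => ?_
        obtain ⟨w, hw⟩ := (bs i).2
        exact ⟨tp w (v i), by rw [hYv, hw]⟩
    have hrl : Module.finrank F (LinearMap.range A) * l = 2 * k := by
      have h := LinearMap.finrank_range_of_inj hinj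
      rw [← hrange, hrank, Module.finrank_pi_fintype] at h
      simpa using h.symm
    -- the block is skew
    obtain ⟨w₀, hw₀, hw₀'⟩ : ∃ w₀ w₁, f₂ w₀ w₁ ≠ 0 := by
      have hv : (Pi.single j₀ 1 : Fin l → F) ≠ 0 := by simp
      by_contra! h
      exact hv (C.h₂.nd _ fun w => h _ w)
    have hskewY : ∀ u w, T f₁ f₂ (Y u) w = -T f₁ f₂ u (Y w) := by
      intro u w
      calc T f₁ f₂ (Y u) w = T f₁ f₂ (lin g (X (lin g⁻¹ u))) (lin g (lin g⁻¹ w)) := by rw [lin_apply_inv]; rfl
        _ = -T f₁ f₂ (lin g⁻¹ u) (X (lin g⁻¹ w)) := by rw [C.le hg, hskewX]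
        _ = -T f₁ f₂ (lin g (lin g⁻¹ u)) (lin g (X (lin g⁻¹ w))) := by rw [C.le hg]
        _ = _ := by rw [lin_apply_inv]; rfl
    have halt : ∀ v, f₁ (A v) v = 0 := fun v => by
      have h := hskewY (tp v w₀) (tp v hw₀)
      rw [hYv, hYv, T_tp C.h₁ C.h₂, T_tp C.h₁ C.h₂, symm C.h₁ v (A v)] at h
      have h' : (2 : F) * (f₁ (A v) v * f₂ w₀ hw₀) = 0 := by linear_combination h
      exact (mul_eq_zero.1 ((mul_eq_zero.1 h').resolve_left C.two)).resolve_right hw₀'
    have heven := SymplecticAlt.even_finrank_range ((bl C.h₁).comp A) fun v => halt v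
    have hblinj : Function.Injective (bl C.h₁) := by
      rw [← LinearMap.ker_eq_bot, LinearMap.ker_eq_bot']
      exact fun z hz => C.h₁.nd z fun w => LinearMap.congr_fun hz w
    rw [LinearMap.range_comp, ← (Submodule.equivMapOfInjective _ hblinj _).finrank_eq] at heven
    obtain ⟨j, hj⟩ := heven
    refine C.hdiv ⟨j, ?_⟩
    rw [hj] at hrl
    linarith

end OC

end Cfsg.Agent.OTensor
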