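import Mathlib

/-!
A group-ring trick: an abelian self-normalising trivial-intersection `p`-subgroup whose elements sum to zero in
a faithful representation in characteristic `p` is the whole group.
-/

set_option autoImplicit false

namespace Cfsg.Agent.TensorWreath43

/-- The elements of a finite subgroup of order at least three of a module in characteristic `p` sum to zero. -/
theorem sum_addSubgroup_eq_zero {p : ℕ} [Fact p.Prime] {E : Type*} [AddCommGroup E]
    (hp : ∀ x : E, p • x = 0) (Q : AddSubgroup E) [Fintype Q] (h3 : 3 ≤ Fintype.card Q) :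
    ∑ x : Q, (x : E) = 0 := by
  classical
  set S := ∑ x : Q, (x : E) with hS
  have hneg : S + S = 0 := by
    have e : ∑ x : Q, ((-x : Q) : E) = S :=
      Fintype.sum_equiv (Equiv.neg Q) _ _ fun _ => rfl
    have : S + ∑ x : Q, ((-x : Q) : E) = 0 := by
      rw [hS, ← Finset.sum_add_distrib]
      exact Finset.sum_eq_zero fun x _ => by simp
    rwa [e] at this
  by_cases h2 : p = 2
  · subst h2
    obtain ⟨a, ha⟩ : ∃ a : Q, a ≠ 0 := Fintype.exists_ne_of_one_lt_card (by omega) 0
    obtain ⟨b, hb, hba⟩ : ∃ b : Q, b ≠ 0 ∧ b ≠ a := by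
      obtain ⟨b, hb⟩ := (({0, a} : Finset Q)ᶜ).card_pos.1 (by
        rw [Finset.card_compl]
        have := Finset.card_le_two (a := (0 : Q)) (b := a)
        omega)
      exact ⟨b, by simpa using hb⟩
    -- the four group spanned by `a` and `b`
    have hneg2 : ∀ x : Q, x + x = 0 := fun x => Subtype.ext (by simpa [two_nsmul] using hp x)
    let K : AddSubgroup Q :=
      { carrier := {0, a, b, a + b}
        zero_mem' := by simp
        add_mem' := by
          rintro x y (rfl | rfl | rfl | rfl) (rfl | rfl | rfl | rfl) <;>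
            simp [hneg2, add_comm, add_left_comm]
        neg_mem' := by
          intro x hx
          rwa [neg_eq_of_add_eq_zero_right (hneg2 x)] }
    haveI : Fintype (Q ⧸ K) := Fintype.ofFinite _
    haveI : Fintype K := Fintype.ofFinite _
    have hK : (Finset.univ.map (Function.Embedding.subtype (· ∈ K)) : Finset Q) = {0, a, b, a + b} := by
      ext x
      simp [K]
    have hKsum : ∑ k : K, ((k : Q) : E) = 0 := by
      have : ∑ k : K, ((k : Q) : E) = ∑ x ∈ ({0, a, b, a + b} : Finset Q), (x : E) := by
        rw [← hK, Finset.sum_map]; rfl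
      have hab : a + b ≠ 0 := fun h => hba (by rw [← neg_eq_of_add_eq_zero_right (hneg2 a), ← eq_neg_of_add_eq_zero_right h])
      rw [this, Finset.sum_insert (by simp [ha.symm, hb.symm, hab.symm]), Finset.sum_insert (by
        simp [hba.symm, hb]), Finset.sum_insert (by simp [ha]), Finset.sum_singleton]
      push_cast
      rw [zero_add, show (a : E) + ((b : E) + ((a : E) + (b : E))) = 2 • ((a : E) + (b : E)) by abel]
      exact hp _
    have hKcard : Fintype.card K = 4 := by
      have hab : a + b ≠ 0 := fun h => hba (by rw [← neg_eq_of_add_eq_zero_right (hneg2 a), ← eq_neg_of_add_eq_zero_right h])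
      rw [← Finset.card_univ, ← Finset.card_map (Function.Embedding.subtype (· ∈ K)), hK]
      rw [Finset.card_insert_of_notMem (by simp [ha.symm, hb.symm, hab.symm]),
        Finset.card_insert_of_notMem (by simp [hba.symm, hb]), Finset.card_insert_of_notMem (by simp [ha]),
        Finset.card_singleton]
    have hdec : S = ∑ z : (Q ⧸ K) × K, (((z.1.out : Q) : E) + ((z.2 : Q) : E)) := by
      rw [hS]
      refine (Fintype.sum_bijective (fun z : (Q ⧸ K) × K => z.1.out + (z.2 : Q)) ⟨?_, ?_⟩ _ _ fun z => by simp).symm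
      · rintro ⟨z, k⟩ ⟨z', k'⟩ h
        simp only at h
        have hz : z = z' := by
          rw [← Quotient.out_eq z, ← Quotient.out_eq z']
          refine QuotientAddGroup.eq.2 ?_
          have : -z.out + z'.out = (k : Q) - (k' : Q) := by
            rw [eq_sub_iff_add_eq, add_assoc, ← h, neg_add_cancel_left]
          rw [this]
          exact K.sub_mem k.2 k'.2
        subst hz
        exact Prod.ext rfl (Subtype.ext (add_left_cancel h))
      · intro x
        exact ⟨(QuotientAddGroup.mk x, ⟨-(QuotientAddGroup.mk x : Q ⧸ K).out + x,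
          QuotientAddGroup.eq.1 (Quotient.out_eq _)⟩), by simp⟩
    rw [hdec, Fintype.sum_prod_type]
    refine Finset.sum_eq_zero fun z _ => ?_
    simp only []
    rw [Finset.sum_add_distrib, hKsum, add_zero, Finset.sum_const, Finset.card_univ, hKcard,
      show (4 : ℕ) = 2 * 2 from rfl, mul_nsmul, hp, ]
  · have hodd : Odd p := (Fact.out : p.Prime).odd_of_ne_two h2
    obtain ⟨k, hk⟩ := hodd
    have := hp S
    rwa [hk, add_nsmul, mul_nsmul, two_nsmul, hneg, nsmul_zero, zero_add, one_nsmul] at this

/-- The group-ring trick. -/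
theorem eq_top_of_sum_zero {p : ℕ} [Fact p.Prime] {A : Type*} [Group A] [Fintype A] {R : Type*} [Ring R]
    [Nontrivial R] [CharP R p] (ρ : A →* R) (hinj : Function.Injective ρ) (P : Subgroup A) [Fintype P]
    (hP : IsPGroup p P) (hab : ∀ a ∈ P, ∀ b ∈ P, a * b = b * a)
    (hN : Subgroup.normalizer (P : Set A) ≤ P)
    (hTI : ∀ g : A, ∀ e ∈ P, e ≠ 1 → g * e * g⁻¹ ∈ P → g ∈ P)
    (hsum : ∑ x : P, ρ x = 0) : P = ⊤ := by
  classical
  -- `P` is a Sylow subgroup
  obtain ⟨Q, hQ⟩ := hP.exists_le_sylow
  have hQP : (Q : Subgroup A) = P := by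
    refine le_antisymm (fun x hx => ?_) hQ
    by_contra hxP
    have hlt : P.subgroupOf Q < ⊤ := lt_top_iff_ne_top.2 fun h => hxP (Subgroup.subgroupOf_eq_top.1 h hx)
    haveI : Group.IsNilpotent (Q : Subgroup A) := Q.isPGroup'.isNilpotent
    obtain ⟨y, hy, hyP⟩ := SetLike.exists_of_lt (Group.normalizerCondition_of_isNilpotent _ hlt)
    refine hyP (Subgroup.mem_subgroupOf.2 (hN ?_))
    rw [Subgroup.mem_normalizer_iff]
    intro z
    rw [Subgroup.mem_normalizer_iff] at hy
    constructor
    · intro hz
      have := (hy ⟨z, hQ hz⟩).1 hz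
      simpa [Subgroup.mem_subgroupOf] using this
    · intro hz
      have hzQ : z ∈ (Q : Subgroup A) := by
        have := (Q : Subgroup A).mul_mem ((Q : Subgroup A).mul_mem ((Q : Subgroup A).inv_mem y.2) (hQ hz)) y.2
        simpa [mul_assoc] using this
      exact (hy ⟨z, hzQ⟩).2 (by simpa [Subgroup.mem_subgroupOf] using hz)
  have hC : Subgroup.normalizer ((Q : Subgroup A) : Set A) ≤ Subgroup.centralizer ((Q : Subgroup A) : Set A) := by
    rw [hQP]
    intro x hx
    rw [Subgroup.mem_centralizer_iff]
    intro y hy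
    exact hab y hy x (hN hx)
  set K := (MonoidHom.transferSylow Q hC).ker with hK
  have hcompl : Subgroup.IsComplement' K P := hQP ▸ MonoidHom.ker_transferSylow_isComplement' Q hC
  have hdisj : ∀ x ∈ K, x ∈ P → x = 1 := fun x h1 h2 => Subgroup.disjoint_def.1 hcompl.disjoint h1 h2
  have hbij : Function.Bijective (fun z : K × P => (z.1 : A) * z.2) := hcompl
  -- the sum over all of `A` vanishes
  have hA : ∑ x : A, ρ x = 0 := by
    rw [← Fintype.sum_bijective _ hbij (fun z : K × P => ρ ((z.1 : A) * z.2)) (fun x => ρ x) (fun _ => rfl),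
      Fintype.sum_prod_type]
    refine Finset.sum_eq_zero fun k _ => ?_
    simp only [map_mul]
    rw [← Finset.mul_sum, hsum, mul_zero]
  -- the elements outside `K`
  let f : K × {e : P // e ≠ 1} → A := fun z => (z.1 : A) * (z.2.1 : A) * (z.1 : A)⁻¹
  have hf1 : Function.Injective f := by
    rintro ⟨k, e, he⟩ ⟨k', e', he'⟩ h
    simp only [f] at h
    have hg : ((k' : A)⁻¹ * k) * (e : A) * ((k' : A)⁻¹ * k)⁻¹ = e' := by
      rw [mul_inv_rev, inv_inv]
      calc ((k' : A)⁻¹ * k) * (e : A) * ((k : A)⁻¹ * k')
          = (k' : A)⁻¹ * ((k : A) * (e : A) * (k : A)⁻¹) * k' := by simp only [mul_assoc]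
        _ = e' := by rw [h]; simp [mul_assoc]
    have hmem := hTI _ e e.2 (fun hh => he (Subtype.ext hh)) (by rw [hg]; exact e'.2)
    have hkk : (k' : A)⁻¹ * k = 1 := hdisj _ (K.mul_mem (K.inv_mem k'.2) k.2) hmem
    have hk : k' = k := Subtype.ext (inv_mul_eq_one.1 hkk)
    subst hk
    rw [hkk] at hg
    simp at hg
    simp [hg]
  have hf2 : ∀ z, f z ∉ K := by
    rintro ⟨k, e, he⟩ hmem
    refine he (Subtype.ext (hdisj _ ?_ e.2))
    have := K.mul_mem (K.mul_mem (K.inv_mem k.2) hmem) k.2
    simpa [f, mul_assoc] using this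
  have himg : Finset.univ.image f = Finset.univ.filter (fun x => x ∉ K) := by
    refine Finset.eq_of_subset_of_card_le (fun x hx => ?_) ?_
    · simp only [Finset.mem_image, Finset.mem_univ, true_and] at hx
      obtain ⟨z, rfl⟩ := hx
      simpa using hf2 z
    · rw [Finset.card_image_of_injective _ hf1, Finset.card_univ, Fintype.card_prod, Finset.filter_not,
        Finset.card_sdiff_of_subset (Finset.filter_subset _ _), Finset.card_univ, ← Fintype.card_subtype]
      have h1 : Fintype.card A = Fintype.card K * Fintype.card P := by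
        rw [← Fintype.card_prod]; exact (Fintype.card_of_bijective hbij).symm
      have h2 : Fintype.card {e : P // e ≠ 1} = Fintype.card P - 1 := by
        rw [Fintype.card_subtype_compl, Fintype.card_subtype_eq]
      rw [h1, h2, Nat.mul_sub, mul_one]
  have hP1 : ∑ e : {e : P // e ≠ 1}, ρ (e.1 : A) = -1 := by
    have h := hsum
    rw [← Finset.add_sum_erase _ _ (Finset.mem_univ (1 : P)), Subgroup.coe_one, map_one,
      Finset.sum_subtype (Finset.univ.erase (1 : P)) (p := (· ≠ 1)) (fun x => by simp) (fun x : P => ρ (x : A))] at h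
    exact eq_neg_of_add_eq_zero_right h
  have hKsum : ∑ k : K, ρ (k : A) = (Fintype.card K : R) := by
    have h := hA
    rw [← Finset.sum_filter_add_sum_filter_not Finset.univ (fun x => x ∈ K), ← himg,
      Finset.sum_image (fun x _ y _ h => hf1 h), Fintype.sum_prod_type] at h
    have e : ∀ k : K, ∑ e : {e : P // e ≠ 1}, ρ (f (k, e)) = -1 := fun k => by
      simp only [f, map_mul]
      rw [← Finset.sum_mul, ← Finset.mul_sum, hP1, mul_neg, mul_one, neg_mul, ← map_mul, mul_inv_cancel, map_one]
    simp only [e, Finset.sum_const, Finset.card_univ, smul_neg, nsmul_one] at h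
    rw [Finset.sum_subtype (Finset.univ.filter fun x => x ∈ K) (p := (· ∈ K)) (fun x => by simp) (fun x => ρ x),
      ← sub_eq_add_neg, sub_eq_zero] at h
    exact h
  have hKbot : K = ⊥ := by
    rw [eq_bot_iff]
    intro k hk
    have h : ρ k * ∑ x : K, ρ (x : A) = ∑ x : K, ρ (x : A) := by
      rw [Finset.mul_sum]
      exact Fintype.sum_equiv (Equiv.mulLeft ⟨k, hk⟩) _ _ fun x => by simp
    rw [hKsum] at h
    have hu : IsUnit (Fintype.card K : R) := by
      rw [CharP.isUnit_natCast_iff (Fact.out : p.Prime), Fintype.card_eq_nat_card]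
      exact MonoidHom.not_dvd_card_ker_transferSylow Q hC
    have : ρ k = 1 := hu.mul_right_cancel (by rw [one_mul]; exact h)
    rw [Subgroup.mem_bot]
    exact hinj (by rw [this, map_one])
  rw [hKbot] at hcompl
  exact Subgroup.isComplement'_bot_left.1 hcompl

end Cfsg.Agent.TensorWreath43
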