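import Cfsg.Agent.Lib.OTensorNilp
import Cfsg.Agent.Lib.TensorWreath43Sum

/-!
A quadratic root element `x = 1 + X` and a conjugate `y = 1 + Y` with `X Y X ≠ 0`: either they generate a group
which cannot exist, or the stabiliser of the image of `X` in that group contains an element whose fixed space is
the common kernel of `X` and `Y`.
-/

set_option autoImplicit false
set_option linter.unusedSectionVars false

namespace Cfsg.Agent.OTensor

open Polynomial

variable {F : Type*} [Field F] {V : Type*} [AddCommGroup V] [Module F V]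

/-- A symmetric non-degenerate bilinear form, a group of isometries and a root group `x` with displacement `X`. -/
structure RootData (B : LinearMap.BilinForm F V) {G : Type*} [Group G] (ρ : G →* Module.End F V)
    (X : Module.End F V) (x : F → G) : Prop where
  two : (2 : F) ≠ 0
  symm : ∀ u w, B u w = B w u
  nd : ∀ u, (∀ w, B u w = 0) → u = 0
  inj : Function.Injective ρ
  iso : ∀ g u w, B (ρ g u) (ρ g w) = B u w
  sq : X * X = 0
  skew : ∀ u w, B (X u) w = -B u (X w)
  root : ∀ t, ρ (x t) = 1 + t • X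
  quad : ∀ g : G, (∀ u, ∃ w, ρ g (X u) = X w) → (∀ v, X v = 0 → ∃ u, ρ g (v - X u) = v - X u) →
    ∃ τ d : F, (∀ u, ρ g (ρ g (X u)) - τ • ρ g (X u) + d • X u = 0) ∧ ρ g * X = d • (X * ρ g)
  fix : ∀ g : G, (∀ v, X v = 0 → ρ g v = v) → ∃ t, g = x t

/-- Polynomial shape of an operator on `E + Y E`. -/
def Pol (X Y : Module.End F V) (E : Submodule F V) (a : Module.End F V) : Prop :=
  ∃ p q p' q' : F[X], ∀ e ∈ E, a e = aeval (X * Y) p e + Y (aeval (X * Y) q e) ∧
    a (Y e) = aeval (X * Y) p' e + Y (aeval (X * Y) q' e)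

theorem aeval_stable {T : Module.End F V} {E : Submodule F V} (h : ∀ e ∈ E, T e ∈ E) (p : F[X]) :
    ∀ e ∈ E, aeval T p e ∈ E := by
  induction p using Polynomial.induction_on' with
  | add p q hp hq => intro e he; rw [map_add, LinearMap.add_apply]; exact E.add_mem (hp e he) (hq e he)
  | monomial n a =>
    intro e he
    rw [aeval_monomial, Module.End.mul_apply, Module.algebraMap_end_apply]
    refine E.smul_mem a ?_
    induction n with
    | zero => simpa using he
    | succ n ih => rw [pow_succ', Module.End.mul_apply]; exact h _ ih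

namespace RootData

variable {B : LinearMap.BilinForm F V} {G : Type*} [Group G] {ρ : G →* Module.End F V} {X : Module.End F V}
  {x : F → G} (D : RootData B ρ X x)
include D

theorem ker_iff (v : V) : X v = 0 ↔ ∀ u, B v (X u) = 0 := by
  refine ⟨fun h u => ?_, fun h => D.nd _ fun u => ?_⟩
  · have := D.skew v u
    rw [h, map_zero, LinearMap.zero_apply] at this
    exact neg_eq_zero.1 this.symm
  · rw [D.skew, h, neg_zero]

theorem x_add (s t : F) : x s * x t = x (s + t) := D.inj (by
  rw [map_mul, D.root, D.root, D.root, add_mul, mul_add, mul_add, one_mul, one_mul, mul_one, smul_mul_assoc,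
    mul_smul_comm, D.sq, smul_zero, smul_zero, add_zero, add_smul]
  abel)

theorem x_zero : x 0 = 1 := D.inj (by rw [D.root, zero_smul, add_zero, map_one])

theorem x_inj (hX : X ≠ 0) {s t : F} (h : x s = x t) : s = t := by
  have := congrArg ρ h
  rw [D.root, D.root, add_right_inj] at this
  exact smul_left_injective F hX this

theorem inv_apply (g : G) (v : V) : ρ g⁻¹ (ρ g v) = v := by
  rw [← Module.End.mul_apply, ← map_mul, inv_mul_cancel, map_one, Module.End.one_apply]

variable [FiniteDimensional F V]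

/-- The main technical statement. -/
theorem core [Fintype F] [Finite G] {y : G} {Y : Module.End F V} (hy : ρ y = 1 + Y) (hY : Y * Y = 0)
    (hYskew : ∀ u w, B (Y u) w = -B u (Y w))
    (hrank : Module.finrank F (LinearMap.range Y) = Module.finrank F (LinearMap.range X))
    (ha : ∀ u, X (Y (X u)) = 0 → Y (X u) = 0) (hb : ∀ u, Y (X u) = 0 → X u ∈ LinearMap.range Y)
    (hc : ∀ u, X (Y (X (Y (X u)))) = 0 → X (Y (X u)) = 0) (hne : ∃ u, X (Y (X u)) ≠ 0) :
    (∀ u, Y (X u) = 0 → X u = 0) ∧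
      ∃ g : G, (∀ u, ∃ w, ρ g (X u) = X w) ∧ (∀ v, X v = 0 → ∃ u, ρ g (v - X u) = v - X u) ∧
        ∀ v, ρ g v = v ↔ X v = 0 ∧ Y v = 0 := by
  classical
  haveI : Fintype G := Fintype.ofFinite G
  have hXX : ∀ v, X (X v) = 0 := fun v => LinearMap.congr_fun D.sq v
  have hYY : ∀ v, Y (Y v) = 0 := fun v => LinearMap.congr_fun hY v
  set T := X * Y with hT
  have hTa : ∀ v, T v = X (Y v) := fun v => rfl
  set P := LinearMap.range X
  set E := LinearMap.range (X.comp (Y.comp X)) with hE
  have hEX : ∀ e ∈ E, ∃ u, e = X u := by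
    rintro _ ⟨u, rfl⟩
    exact ⟨_, rfl⟩
  have hTE : ∀ e ∈ E, T e ∈ E := by
    rintro _ ⟨u, rfl⟩
    exact ⟨Y (X u), rfl⟩
  have hXE : ∀ e ∈ E, X e = 0 := fun e he => by
    obtain ⟨u, rfl⟩ := hEX e he
    exact hXX u
  have hT0 : ∀ e ∈ E, T e = 0 → e = 0 := by
    rintro _ ⟨u, rfl⟩ h
    exact hc u h
  have hY0 : ∀ e ∈ E, Y e = 0 → e = 0 := fun e he h => hT0 e he (by rw [hTa, h, map_zero])
  have hsurj : ∀ e ∈ E, ∃ e' ∈ E, T e' = e := by
    intro e he
    have hi : Function.Injective (T.restrict hTE) := by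
      rw [← LinearMap.ker_eq_bot, LinearMap.ker_eq_bot']
      exact fun z hz => Subtype.ext (hT0 _ z.2 (congrArg Subtype.val hz))
    obtain ⟨z, hz⟩ := LinearMap.surjective_of_injective hi ⟨e, he⟩
    exact ⟨z, z.2, congrArg Subtype.val hz⟩
  set C := LinearMap.ker X ⊓ LinearMap.ker Y with hC
  -- the image of `X` is the sum of `E` and its part killed by `Y`
  have hsplit : ∀ u, ∃ e ∈ E, X u - e ∈ C := by
    intro u
    obtain ⟨e', he', hTe⟩ := hsurj _ (⟨u, rfl⟩ : X (Y (X u)) ∈ E)
    refine ⟨e', he', ?_⟩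
    obtain ⟨u', rfl⟩ := hEX e' he'
    rw [hC, Submodule.mem_inf, LinearMap.mem_ker, LinearMap.mem_ker, ← map_sub, hXX]
    refine ⟨rfl, ha _ ?_⟩
    rw [map_sub, map_sub, map_sub, sub_eq_zero]
    exact hTe.symm
  -- the image of `Y`
  have hrangeY : ∀ v, ∃ w e, e ∈ E ∧ Y (X w) = 0 ∧ Y v = X w + Y e := by
    set K := P ⊓ LinearMap.ker Y
    have hKY : K ≤ LinearMap.range Y := by
      rintro _ ⟨⟨u, rfl⟩, hu⟩
      exact hb u hu
    set W := K ⊔ E.map Y
    have hW : W ≤ LinearMap.range Y := sup_le hKY (LinearMap.map_le_range)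
    have hKE : K ⊓ E = ⊥ := by
      rw [eq_bot_iff]
      rintro z ⟨⟨-, hz⟩, he⟩
      exact hY0 z he hz
    have hKF : K ⊓ E.map Y = ⊥ := by
      rw [eq_bot_iff]
      rintro _ ⟨⟨⟨u, hu⟩, -⟩, e, he, rfl⟩
      have : e = 0 := hT0 e he (by rw [hTa, ← hu, hXX])
      rw [this, map_zero]
      exact Submodule.zero_mem _
    have hPsum : P = K ⊔ E := by
      refine le_antisymm ?_ (sup_le inf_le_left ?_)
      · rintro _ ⟨u, rfl⟩
        obtain ⟨e, he, hd⟩ := hsplit u
        refine Submodule.mem_sup.2 ⟨X u - e, ⟨?_, hd.2⟩, e, he, sub_add_cancel _ _⟩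
        exact P.sub_mem ⟨u, rfl⟩ (by obtain ⟨u', rfl⟩ := hEX e he; exact ⟨u', rfl⟩)
      · intro e he
        obtain ⟨u', rfl⟩ := hEX e he
        exact ⟨u', rfl⟩
    have hmap : Module.finrank F (E.map Y) = Module.finrank F E := by
      have h1 : Function.Injective (Y.comp E.subtype) := by
        rw [← LinearMap.ker_eq_bot, LinearMap.ker_eq_bot']
        exact fun z hz => Subtype.ext (hY0 _ z.2 hz)
      have := LinearMap.finrank_range_of_inj h1
      rwa [LinearMap.range_comp, Submodule.range_subtype] at this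
    have hWY : W = LinearMap.range Y := by
      refine Submodule.eq_of_le_of_finrank_le hW ?_
      have e1 := Submodule.finrank_sup_add_finrank_inf_eq K (E.map Y)
      have e2 := Submodule.finrank_sup_add_finrank_inf_eq K E
      rw [hKF, finrank_bot, add_zero, hmap] at e1
      rw [hKE, finrank_bot, add_zero, ← hPsum] at e2
      have hr : Module.finrank F (LinearMap.range Y) = Module.finrank F P := hrank
      change _ ≤ Module.finrank F ↥(K ⊔ E.map Y)
      omega
    intro v
    have hvW : Y v ∈ W := by rw [hWY]; exact ⟨v, rfl⟩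
    obtain ⟨z, hz, _, ⟨e, he, rfl⟩, hv⟩ := Submodule.mem_sup.1 hvW
    obtain ⟨⟨w, rfl⟩, hw⟩ := hz
    exact ⟨w, e, he, hw, hv.symm⟩
  -- the pairing of `E` with `Y E`
  have hpair0 : ∀ e ∈ E, (∀ e' ∈ E, B e (Y e') = 0) → e = 0 := by
    intro e he h
    refine hY0 e he (D.nd _ fun v => ?_)
    obtain ⟨w, e', he', -, hv⟩ := hrangeY v
    rw [hYskew, hv, map_add, h e' he', add_zero, (D.ker_iff e).1 (hXE e he), neg_zero]
  have hpair : ∀ v, ∃ e ∈ E, ∀ e' ∈ E, B e (Y e') = B v (Y e') := by
    intro v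
    let Φ : E →ₗ[F] Module.Dual F E :=
      LinearMap.mk₂ F (fun a b : E => B (a : V) (Y (b : V))) (fun a a' b => by simp) (fun c a b => by simp)
        (fun a b b' => by simp) (fun c a b => by simp)
    have hinj : Function.Injective Φ := by
      rw [← LinearMap.ker_eq_bot, LinearMap.ker_eq_bot']
      exact fun z hz => Subtype.ext (hpair0 _ z.2 fun e' he' => LinearMap.congr_fun hz ⟨e', he'⟩)
    obtain ⟨z, hz⟩ := ((LinearMap.injective_iff_surjective_of_finrank_eq_finrank
      (Subspace.dual_finrank_eq).symm).1 hinj) ((B v).comp (Y.comp E.subtype))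
    exact ⟨z, z.2, fun e' he' => LinearMap.congr_fun hz ⟨e', he'⟩⟩
  -- the kernel of `X` is the sum of `C` and `E`
  have hkerX : ∀ v, X v = 0 → ∃ e ∈ E, v - e ∈ C := by
    intro v hv
    obtain ⟨e, he, hev⟩ := hpair v
    have hv' : X (v - e) = 0 := by rw [map_sub, hv, hXE e he, sub_zero]
    refine ⟨e, he, hv', D.nd _ fun w => ?_⟩
    obtain ⟨u', e', he', -, hw⟩ := hrangeY w
    rw [hYskew, hw, map_add, (D.ker_iff _).1 hv', map_sub, LinearMap.sub_apply, hev e' he', sub_self, add_zero,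
      neg_zero]
  set S : Set G := Set.range x ∪ {y} with hS
  set A := Subgroup.closure S with hA
  -- `A` fixes `C`
  have hfixC : ∀ a ∈ A, ∀ c ∈ C, ρ a c = c := by
    intro a haA c hc'
    obtain ⟨h1, h2⟩ := hc'
    rw [SetLike.mem_coe, LinearMap.mem_ker] at h1 h2
    induction haA using Subgroup.closure_induction with
    | mem s hs =>
      rcases hs with ⟨t, rfl⟩ | rfl
      · rw [D.root, LinearMap.add_apply, Module.End.one_apply, LinearMap.smul_apply, h1, smul_zero, add_zero]
      · rw [hy, LinearMap.add_apply, Module.End.one_apply, h2, add_zero]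
    | one => rw [map_one, Module.End.one_apply]
    | mul a b _ _ iha ihb => rw [map_mul, Module.End.mul_apply, ihb, iha]
    | inv a _ ih => nth_rewrite 1 [← ih]; exact D.inv_apply a c
  -- `A` acts on `E + Y E` through polynomials in `X Y`
  have hpol : ∀ a ∈ A, Pol X Y E (ρ a) := by
    intro a haA
    rw [← Subgroup.mem_toSubmonoid, hA, Subgroup.closure_toSubmonoid_of_finite] at haA
    induction haA using Submonoid.closure_induction with
    | mem s hs =>
      rcases hs with ⟨t, rfl⟩ | rfl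
      · refine ⟨1, 0, Polynomial.C (t : F) * Polynomial.X, 1, fun e he => ⟨?_, ?_⟩⟩ <;>
          simp [D.root, LinearMap.add_apply, hXE e he, Module.algebraMap_end_apply, hT, add_comm]
      · exact ⟨1, 1, 0, 1, fun e he => ⟨by simp [hy], by simp [hy, hYY]⟩⟩
    | one => exact ⟨1, 0, 0, 1, fun e he => ⟨by simp, by simp⟩⟩
    | mul a b _ _ iha ihb =>
      obtain ⟨p₁, q₁, p₁', q₁', h₁⟩ := iha
      obtain ⟨p₂, q₂, p₂', q₂', h₂⟩ := ihb
      refine ⟨p₁ * p₂ + p₁' * q₂, q₁ * p₂ + q₁' * q₂, p₁ * p₂' + p₁' * q₂', q₁ * p₂' + q₁' * q₂',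
        fun e he => ⟨?_, ?_⟩⟩
      · rw [map_mul, Module.End.mul_apply, (h₂ e he).1, map_add, (h₁ _ (aeval_stable hTE p₂ e he)).1,
          (h₁ _ (aeval_stable hTE q₂ e he)).2]
        simp only [map_add, map_mul, LinearMap.add_apply, Module.End.mul_apply]
        abel
      · rw [map_mul, Module.End.mul_apply, (h₂ e he).2, map_add, (h₁ _ (aeval_stable hTE p₂' e he)).1,
          (h₁ _ (aeval_stable hTE q₂' e he)).2]
        simp only [map_add, map_mul, LinearMap.add_apply, Module.End.mul_apply]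
        abel
  -- self-adjointness
  have hadj : ∀ (p : F[X]) u w, B (aeval T p u) (Y w) = B u (Y (aeval T p w)) := by
    intro p
    induction p using Polynomial.induction_on' with
    | add p q hp hq => intro u w; simp [hp, hq]
    | monomial n c =>
      induction n with
      | zero => intro u w; simp [Module.algebraMap_end_apply]
      | succ n ih =>
        intro u w
        have e1 : ∀ z, aeval T (monomial (n + 1) c) z = aeval T (monomial n c) (T z) := fun z => by
          simp [aeval_monomial, pow_succ, Module.End.mul_apply]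
        have e2 : ∀ z, aeval T (monomial (n + 1) c) z = T (aeval T (monomial n c) z) := fun z => by
          simp [aeval_monomial, pow_succ', Module.End.mul_apply, Module.algebraMap_end_apply]
        rw [e1, ih, e2 w, hTa, hTa, D.skew, hYskew, neg_neg]
  -- elements of `A` stabilising the image of `X`
  have hstab : ∀ a ∈ A, (∀ u, ∃ w, ρ a (X u) = X w) → ∃ l : F, l ≠ 0 ∧ (∀ u, ρ a (X u) = l • X u) ∧
      (l ≠ 1 → (∀ u, Y (X u) = 0 → X u = 0) ∧ ∀ e ∈ E, ∃ e' ∈ E, ρ a (Y e) = e' + l⁻¹ • Y e) := by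
    intro a haA hst
    have hcong : ∀ v, X v = 0 → ∃ u, ρ a (v - X u) = v - X u := fun v hv => by
      obtain ⟨e, he, hce⟩ := hkerX v hv
      obtain ⟨u, rfl⟩ := hEX e he
      exact ⟨u, hfixC a haA _ hce⟩
    obtain ⟨τ, d, hq, hXd⟩ := D.quad a hst hcong
    obtain ⟨p, q, p', q', hpq⟩ := hpol a haA
    have hq0 : ∀ e ∈ E, aeval T q e = 0 := by
      intro e he
      obtain ⟨u, rfl⟩ := hEX e he
      obtain ⟨w, hw⟩ := hst u
      refine hT0 _ (aeval_stable hTE q _ he) ?_
      have h := congrArg X ((hpq _ he).1)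
      rw [hw, hXX, map_add, hXE _ (aeval_stable hTE p _ he), zero_add] at h
      exact h.symm
    have hpe : ∀ e ∈ E, ρ a e = aeval T p e := fun e he => by
      rw [(hpq e he).1, hq0 e he, map_zero, add_zero]
    have hd : ∀ e ∈ E, aeval T p e = d • aeval T q' e := by
      intro e he
      have h := LinearMap.congr_fun hXd (Y e)
      rw [Module.End.mul_apply, LinearMap.smul_apply, Module.End.mul_apply, ← hTa, hpe _ (hTE e he),
        (hpq e he).2, map_add, hXE _ (aeval_stable hTE p' e he), zero_add, ← hTa] at h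
      have comm : ∀ (r : F[X]) z, aeval T r (T z) = T (aeval T r z) := fun r z => by
        have : aeval T r * T = T * aeval T r := by
          conv_lhs => arg 2; rw [← aeval_X (R := F) T]
          conv_rhs => arg 1; rw [← aeval_X (R := F) T]
          rw [← map_mul, ← map_mul, mul_comm]
        exact LinearMap.congr_fun this z
      rw [comm] at h
      exact sub_eq_zero.1 (hT0 _ (E.sub_mem (aeval_stable hTE p e he) (E.smul_mem d (aeval_stable hTE q' e he)))
        (by rw [map_sub, map_smul, h, sub_self]))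
    have hsq : ∀ e ∈ E, aeval T p (aeval T p e) = d • e := by
      intro e he
      refine sub_eq_zero.1 (hpair0 _ (E.sub_mem (aeval_stable hTE p _ (aeval_stable hTE p e he))
        (E.smul_mem d he)) fun e' he' => ?_)
      have h := D.iso a e (Y e')
      rw [hpe e he, (hpq e' he').2, map_add] at h
      have h0 : B (aeval T p e) (aeval T p' e') = 0 := by
        obtain ⟨u, hu⟩ := hEX _ (aeval_stable hTE p' e' he')
        rw [hu, (D.ker_iff _).1 (hXE _ (aeval_stable hTE p e he))]
      rw [h0, zero_add] at h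
      rw [map_sub, LinearMap.sub_apply, map_smul, LinearMap.smul_apply, smul_eq_mul, ← h, hadj,
        ← smul_eq_mul, ← map_smul, ← map_smul, ← hd e' he', sub_self]
    obtain ⟨e₀, he₀, he₀ne⟩ : ∃ e₀ ∈ E, e₀ ≠ 0 := by
      obtain ⟨u, hu⟩ := hne
      exact ⟨_, ⟨u, rfl⟩, hu⟩
    have hlin : ∀ e ∈ E, τ • ρ a e = (2 * d) • e := by
      intro e he
      obtain ⟨u, hu⟩ := hEX e he
      have h := hq u
      rw [← hu, hpe e he, hpe _ (aeval_stable hTE p e he), hsq e he, ← hpe e he] at h
      rw [two_mul, add_smul]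
      calc τ • ρ a e = τ • ρ a e + (d • e - τ • ρ a e + d • e) := by rw [h, add_zero]
        _ = d • e + d • e := by abel
    have hd0 : d ≠ 0 := by
      intro e0
      have h1 := hsq e₀ he₀
      rw [e0, zero_smul, ← hpe e₀ he₀] at h1
      rw [← hpe _ (by rw [hpe e₀ he₀]; exact aeval_stable hTE p e₀ he₀)] at h1
      exact he₀ne (by rw [← D.inv_apply a e₀, ← D.inv_apply a (ρ a e₀), h1, map_zero, map_zero])
    have hτ : τ ≠ 0 := by
      intro e0
      have h1 := hlin e₀ he₀
      rw [e0, zero_smul] at h1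
      exact he₀ne ((smul_eq_zero.1 h1.symm).resolve_left (mul_ne_zero D.two hd0))
    set l := 2 * d / τ with hl
    have hE' : ∀ e ∈ E, ρ a e = l • e := fun e he => by
      rw [hl, div_eq_inv_mul, mul_smul, ← hlin e he, inv_smul_smul₀ hτ]
    have hl2 : l * l = d := by
      have h := hsq e₀ he₀
      rw [← hpe e₀ he₀, hE' e₀ he₀, map_smul, ← hpe e₀ he₀, hE' e₀ he₀, smul_smul] at h
      exact smul_left_injective F he₀ne h
    have hl0 : l ≠ 0 := fun e0 => hd0 (by rw [← hl2, e0, mul_zero])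
    have hK : ∀ u, Y (X u) = 0 → ρ a (X u) = X u := fun u hu => hfixC a haA _ ⟨hXX u, hu⟩
    have hK1 : ∀ u, Y (X u) = 0 → X u ≠ 0 → l = 1 := by
      intro u hu hu0
      have h := hq u
      rw [hK u hu, hK u hu, ← one_smul F (X u), smul_smul, smul_smul, ← sub_smul, ← add_smul] at h
      have h1 : 1 * 1 - τ * 1 + d * 1 = 0 := by
        have := (smul_eq_zero.1 h).resolve_right hu0
        linear_combination this
      have h2 : l * τ = 2 * d := by rw [hl, div_mul_cancel₀ _ hτ]
      have h3 : τ = 2 * l := mul_left_cancel₀ hl0 (by linear_combination h2 - 2 * hl2)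
      exact sub_eq_zero.1 (mul_self_eq_zero.1 (by linear_combination h1 + h3 + hl2) : l - 1 = 0)
    refine ⟨l, hl0, fun u => ?_, fun hne1 => ⟨fun u hu => by_contra fun hu0 => hne1 (hK1 u hu hu0), ?_⟩⟩
    · obtain ⟨e, he, hce⟩ := hsplit u
      have hcu : ρ a (X u - e) = X u - e := hfixC a haA _ hce
      have hce' : l • (X u - e) = X u - e := by
        by_cases h0 : X u - e = 0
        · rw [h0, smul_zero]
        · obtain ⟨u', hu'⟩ := hEX e he
          rw [hu', ← map_sub] at h0 hce ⊢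
          rw [hK1 _ hce.2 h0, one_smul]
      calc ρ a (X u) = ρ a (X u - e) + ρ a e := by rw [← map_add, sub_add_cancel]
        _ = l • X u := by rw [hcu, hE' e he, ← hce', ← smul_add, sub_add_cancel]
    · intro e he
      refine ⟨aeval T p' e, aeval_stable hTE p' e he, ?_⟩
      have h := hd e he
      rw [← hpe e he, hE' e he, ← hl2, mul_smul] at h
      have h' : aeval T q' e = l⁻¹ • e := by
        calc aeval T q' e = l⁻¹ • (l • aeval T q' e) := (inv_smul_smul₀ hl0 _).symm
          _ = l⁻¹ • (l⁻¹ • (l • (l • aeval T q' e))) := by rw [inv_smul_smul₀ hl0 (l • aeval T q' e)]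
          _ = l⁻¹ • e := by rw [← h, inv_smul_smul₀ hl0]
      rw [(hpq e he).2, h', map_smul]
  by_cases hex : ∃ a ∈ A, (∀ u, ∃ w, ρ a (X u) = X w) ∧ ∃ u, ρ a (X u) ≠ X u
  · obtain ⟨a, haA, hst, u₀, hu₀⟩ := hex
    obtain ⟨l, hl0, hlX, hl1⟩ := hstab a haA hst
    have hl : l ≠ 1 := fun e => hu₀ (by rw [hlX, e, one_smul])
    obtain ⟨hK, hYE⟩ := hl1 hl
    refine ⟨hK, a, hst, fun v hv => ?_, fun v => ⟨fun hv => ?_, fun hv => hfixC a haA v hv⟩⟩
    · obtain ⟨e, he, hce⟩ := hkerX v hv
      obtain ⟨u, rfl⟩ := hEX e he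
      exact ⟨u, hfixC a haA _ hce⟩
    have hXu : ∀ u, X u ∈ E := fun u => by
      obtain ⟨e, he, hce⟩ := hsplit u
      obtain ⟨u', hu'⟩ := hEX e he
      have hs : X u - e = 0 := by
        rw [hu', ← map_sub] at hce ⊢
        exact hK _ hce.2
      rwa [sub_eq_zero.1 hs]
    obtain ⟨e₁, he₁, hT1⟩ := hsurj _ (hXu v)
    obtain ⟨e₂, he₂, hc2⟩ := hkerX (v - Y e₁) (by rw [map_sub, ← hTa, hT1, sub_self])
    obtain ⟨e₃, he₃, h3⟩ := hYE e₁ he₁
    obtain ⟨u₂, hu₂⟩ := hEX e₂ he₂
    have h := hfixC a haA _ hc2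
    rw [map_sub, map_sub, hv, h3, hu₂, hlX, ← hu₂] at h
    have hz : l⁻¹ • Y e₁ - Y e₁ = -e₃ - l • e₂ + e₂ := by
      have h' : v - (e₃ + l⁻¹ • Y e₁) - l • e₂ - (v - Y e₁ - e₂) = 0 := sub_eq_zero.2 h
      rw [← sub_eq_zero, ← neg_eq_zero, ← h']
      abel
    have he : e₁ = 0 := by
      refine hT0 e₁ he₁ ((smul_eq_zero.1 ?_).resolve_left (sub_ne_zero.2 fun e : l⁻¹ = 1 => hl (inv_eq_one.1 e)))
      have := congrArg X hz
      rw [map_sub, map_smul, map_add, map_sub, map_neg, map_smul, hXE _ he₃, hXE _ he₂] at this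
      rw [sub_smul, one_smul, hTa, this]
      simp
    have he2 : e₂ = 0 := by
      rw [he, map_zero, smul_zero, sub_zero] at hz
      rw [he, map_zero, map_zero, smul_zero, add_zero] at h3
      rw [← h3, neg_zero, zero_sub] at hz
      refine (smul_eq_zero.1 (?_ : (1 - l) • e₂ = 0)).resolve_left (sub_ne_zero.2 (Ne.symm hl))
      rw [sub_smul, one_smul, hz]
      abel
    rw [he, map_zero, sub_zero, he2, sub_zero] at hc2
    exact ⟨hc2.1, hc2.2⟩
  exfalso
  push Not at hex
  have hXne : X ≠ 0 := by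
    rintro rfl
    obtain ⟨u, hu⟩ := hne
    exact hu (by simp)
  obtain ⟨p, hp⟩ := CharP.exists F
  haveI : Fact p.Prime := ⟨(CharP.char_is_prime_or_zero F p).resolve_right (CharP.char_ne_zero_of_finite F p)⟩
  haveI : Nontrivial V := by
    obtain ⟨u, hu⟩ := hne
    exact ⟨⟨_, 0, hu⟩⟩
  haveI : CharP (Module.End F V) p := charP_of_injective_algebraMap (algebraMap F (Module.End F V)).injective p
  let xh : Multiplicative F →* G :=
    { toFun := fun t => x t.toAdd, map_one' := D.x_zero, map_mul' := fun s t => (D.x_add _ _).symm }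
  set P₀ := xh.range.subgroupOf A with hP₀
  have hxA : ∀ t, x t ∈ A := fun t => Subgroup.subset_closure (Or.inl ⟨t, rfl⟩)
  have hmemP : ∀ a : A, a ∈ P₀ ↔ ∃ t, (a : G) = x t := fun a => by
    rw [hP₀, Subgroup.mem_subgroupOf]
    exact ⟨fun ⟨t, ht⟩ => ⟨t.toAdd, ht.symm⟩, fun ⟨t, ht⟩ => ⟨Multiplicative.ofAdd t, ht.symm⟩⟩
  have hfixP : ∀ a : A, (∀ u, ∃ w, ρ a (X u) = X w) → a ∈ P₀ := fun a hst => by
    refine (hmemP a).2 (D.fix a fun v hv => ?_)
    obtain ⟨e, he, hce⟩ := hkerX v hv
    obtain ⟨u, rfl⟩ := hEX e he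
    have h1 := hfixC a a.2 _ hce
    rwa [map_sub, hex a a.2 hst u, sub_left_inj] at h1
  have hconjP : ∀ (g e : A), e ∈ P₀ → e ≠ 1 → g * e * g⁻¹ ∈ P₀ → g ∈ P₀ := by
    intro g e he hne1 hge
    obtain ⟨t, ht⟩ := (hmemP e).1 he
    obtain ⟨s, hs⟩ := (hmemP _).1 hge
    have ht0 : t ≠ 0 := fun e0 => hne1 (Subtype.ext (by rw [ht, e0, D.x_zero]; rfl))
    refine hfixP g fun u => ⟨(t⁻¹ * s) • ρ (g : G) u, ?_⟩
    have e1 : (g : G) * x t = x s * g := by
      rw [← hs, ← ht]; simp
    have e2 := LinearMap.congr_fun (congrArg ρ e1) u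
    rw [map_mul, map_mul, D.root, D.root] at e2
    simp only [Module.End.mul_apply, LinearMap.add_apply, Module.End.one_apply, LinearMap.smul_apply, map_add,
      map_smul, add_right_inj] at e2
    rw [map_smul, mul_smul, ← e2, inv_smul_smul₀ ht0]
  have hN : Subgroup.normalizer (P₀ : Set A) ≤ P₀ := fun n hn => by
    have hmem : (⟨x 1, hxA 1⟩ : A) ∈ P₀ := (hmemP _).2 ⟨1, rfl⟩
    refine hconjP n _ hmem (fun e => one_ne_zero (α := F) (D.x_inj hXne ?_))
      ((Subgroup.mem_normalizer_iff.1 hn _).1 hmem)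
    rw [D.x_zero]
    exact congrArg Subtype.val e
  let toP : F → P₀ := fun t => ⟨⟨x t, hxA t⟩, (hmemP _).2 ⟨t, rfl⟩⟩
  have hbij : Function.Bijective toP := by
    refine ⟨fun s t h => D.x_inj hXne (congrArg (fun z : P₀ => ((z : A) : G)) h), ?_⟩
    rintro ⟨a, ha'⟩
    obtain ⟨t, ht⟩ := (hmemP a).1 ha'
    exact ⟨t, Subtype.ext (Subtype.ext ht.symm)⟩
  haveI : Fintype P₀ := Fintype.ofFinite _
  have hsum : ∑ z : P₀, (ρ.comp A.subtype) (z : A) = 0 := by
    rw [← Fintype.sum_bijective toP hbij (fun t => 1 + t • X) _ (fun t => (D.root t).symm)]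
    rw [Finset.sum_add_distrib, Finset.sum_const, Finset.card_univ, ← Finset.sum_smul]
    have h0 : ∑ t : F, t = 0 := by
      have h := Fintype.sum_equiv (Equiv.neg F) (fun t : F => t) (fun t => -t) (fun t => by simp)
      rw [Finset.sum_neg_distrib] at h
      have h2 : (2 : F) * ∑ t : F, t = 0 := by linear_combination h
      exact (mul_eq_zero.1 h2).resolve_left D.two
    rw [h0, zero_smul, add_zero, ← Nat.cast_smul_eq_nsmul F, FiniteField.cast_card_eq_zero, zero_smul]
  have htop := TensorWreath43.eq_top_of_sum_zero (p := p) (ρ.comp A.subtype)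
    (D.inj.comp Subtype.val_injective) P₀ ?_ ?_ hN hconjP hsum
  · obtain ⟨t, ht⟩ := (hmemP ⟨y, Subgroup.subset_closure (Or.inr rfl)⟩).1 (htop ▸ Subgroup.mem_top _)
    have hYt : Y = t • X := by
      have h := congrArg ρ (show y = x t from ht)
      rwa [hy, D.root, add_right_inj] at h
    obtain ⟨u, hu⟩ := hne
    exact hu (by rw [hYt, LinearMap.smul_apply, hXX, smul_zero, map_zero])
  · intro a
    obtain ⟨t, ht⟩ := (hmemP a).1 a.2
    refine ⟨1, Subtype.ext (Subtype.ext (D.inj ?_))⟩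
    rw [pow_one]
    push_cast
    rw [ht, map_pow, D.root, add_pow_char_of_commute _ (Commute.one_left _), one_pow, _root_.smul_pow,
      pow_eq_zero_of_le (Fact.out : p.Prime).two_le (show X ^ 2 = 0 by rw [pow_two, D.sq]), smul_zero, add_zero, map_one]
  · intro a ha' b hb'
    obtain ⟨s, hs⟩ := (hmemP a).1 ha'
    obtain ⟨t, ht⟩ := (hmemP b).1 hb'
    exact Subtype.ext (by rw [Subgroup.coe_mul, Subgroup.coe_mul, hs, ht, D.x_add, D.x_add, add_comm])

end RootData

end Cfsg.Agent.OTensor
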