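import Cfsg.Agent.Lib.TensorMaxForm
import Cfsg.Agent.Lib.QuadClassify

/-!
Singular vectors, frames and perpendiculars for a symmetric form in odd characteristic.
-/

set_option autoImplicit false
set_option linter.unusedSectionVars false

namespace Cfsg.Agent.OTensor

open Cfsg.Agent.TensorMax

variable {F : Type*} [Field F] {n : ℕ}

/-- A non-degenerate symmetric form, bundled as an `SForm`. -/
abbrev Sym (f : (Fin n → F) → (Fin n → F) → F) : Prop := SForm (RingHom.id F) 1 f

variable {f : (Fin n → F) → (Fin n → F) → F} (hf : Sym f)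
include hf

theorem symm (u w : Fin n → F) : f u w = f w u := by rw [hf.herm w u, RingHom.id_apply, one_mul]

theorem smul_right' (c : F) (u w : Fin n → F) : f u (c • w) = c * f u w := by
  rw [hf.smul_right, RingHom.id_apply]

/-- The bilinear form. -/
def bl : (Fin n → F) →ₗ[F] (Fin n → F) →ₗ[F] F :=
  LinearMap.mk₂ F f hf.add_left (fun c a b => by rw [hf.smul_left, smul_eq_mul]) hf.add_right
    (fun c a b => by rw [smul_right' hf, smul_eq_mul])

theorem bl_apply (u w : Fin n → F) : bl hf u w = f u w := rfl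

/-- The common perpendicular of a family. -/
def perp {m : ℕ} (v : Fin m → Fin n → F) : Submodule F (Fin n → F) :=
  LinearMap.ker (LinearMap.pi fun i => (bl hf).flip (v i))

theorem mem_perp {m : ℕ} {v : Fin m → Fin n → F} {w : Fin n → F} : w ∈ perp hf v ↔ ∀ i, f w (v i) = 0 := by
  simp [perp, LinearMap.mem_ker, funext_iff, bl_apply]

theorem finrank_perp {m : ℕ} (v : Fin m → Fin n → F) : n ≤ Module.finrank F (perp hf v) + m := by
  have h := LinearMap.finrank_range_add_finrank_ker (LinearMap.pi fun i => (bl hf).flip (v i))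
  have h2 := Submodule.finrank_le (LinearMap.range (LinearMap.pi fun i => (bl hf).flip (v i)))
  rw [Module.finrank_fin_fun] at h h2
  change _ + Module.finrank F (perp hf v) = n at h
  omega

theorem exists_perp_ne {m : ℕ} (hm : m < n) (v : Fin m → Fin n → F) : ∃ w, w ≠ 0 ∧ ∀ i, f w (v i) = 0 := by
  have h := finrank_perp hf v
  obtain ⟨w, hw, hw0⟩ := Submodule.exists_mem_ne_zero_of_ne_bot (p := perp hf v)
    (fun hb => by rw [hb, finrank_bot] at h; omega)
  exact ⟨w, hw0, (mem_perp hf).1 hw⟩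

theorem exists_singular_perp [Finite F] {m : ℕ} (hm : m + 3 ≤ n) (v : Fin m → Fin n → F) :
    ∃ w, w ≠ 0 ∧ f w w = 0 ∧ ∀ i, f w (v i) = 0 := by
  have h := finrank_perp hf v
  obtain ⟨w, hw, hw0, hq⟩ := QuadClassify.exists_singular (LinearMap.BilinMap.toQuadraticMap (bl hf)) (perp hf v) (by omega)
  exact ⟨w, hw0, hq, (mem_perp hf).1 hw⟩

theorem exists_singular [Finite F] (hn : 3 ≤ n) : ∃ e, e ≠ 0 ∧ f e e = 0 := by
  obtain ⟨w, h0, h, -⟩ := exists_singular_perp hf (m := 0) (by omega) ![]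
  exact ⟨w, h0, h⟩

theorem sub_left' (u v w : Fin n → F) : f (u - v) w = f u w - f v w := hf.sub_left u v w

/-- The partner of a singular vector. -/
theorem exists_partner (h2 : (2 : F) ≠ 0) {e : Fin n → F} (he0 : e ≠ 0) (he : f e e = 0) :
    ∃ e', f e' e' = 0 ∧ f e e' = 1 := by
  obtain ⟨y, hy⟩ : ∃ y, f e y ≠ 0 := by
    by_contra! h0
    exact he0 (hf.nd e h0)
  set y' := (f e y)⁻¹ • y
  have h1 : f e y' = 1 := by rw [smul_right' hf, inv_mul_cancel₀ hy]
  refine ⟨y' + (-(2 : F)⁻¹ * f y' y') • e, ?_, ?_⟩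
  · simp only [hf.add_left, hf.add_right, hf.smul_left, smul_right' hf, he, symm hf y' e, h1]
    field_simp
    ring
  · rw [hf.add_right, smul_right' hf _ e e, he, mul_zero, add_zero, h1]

/-- A hyperbolic pair. -/
structure Hyp (f : (Fin n → F) → (Fin n → F) → F) (e e' : Fin n → F) : Prop where
  ee : f e e = 0
  ee' : f e' e' = 0
  one : f e e' = 1

theorem Hyp.swap {e e' : Fin n → F} (h : Hyp f e e') : Hyp f e' e :=
  ⟨h.ee', h.ee, by rw [symm hf, h.one]⟩

theorem Hyp.ne {e e' : Fin n → F} (h : Hyp f e e') : e ≠ 0 := fun h0 =>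
  one_ne_zero (α := F) (by rw [← h.one, h0, hf.zero_left])

/-- The component orthogonal to a hyperbolic pair. -/
def proj0 (f : (Fin n → F) → (Fin n → F) → F) (e e' w : Fin n → F) : Fin n → F := w - f w e' • e - f w e • e'

theorem proj0_perp {e e' : Fin n → F} (h : Hyp f e e') (w : Fin n → F) :
    f (proj0 f e e' w) e = 0 ∧ f (proj0 f e e' w) e' = 0 := by
  have h1 : f e' e = 1 := by rw [symm hf, h.one]
  constructor <;> simp [proj0, sub_left' hf, hf.smul_left, h.ee, h.ee', h.one, h1]

theorem decomp (e e' w : Fin n → F) : w = f w e' • e + f w e • e' + proj0 f e e' w := by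
  simp only [proj0]
  abel

/-- A linear map killing all singular vectors vanishes, when one exists. -/
theorem eq_zero_of_singular (h2 : (2 : F) ≠ 0) {M : Type*} [AddCommGroup M] [Module F M]
    (φ : (Fin n → F) →ₗ[F] M) {e : Fin n → F} (he0 : e ≠ 0) (he : f e e = 0)
    (h : ∀ w, f w w = 0 → φ w = 0) : φ = 0 := by
  obtain ⟨e', he', h1⟩ := exists_partner hf h2 he0 he
  have h1' : f e' e = 1 := by rw [symm hf, h1]
  refine LinearMap.ext fun w => ?_
  obtain ⟨p1, p2⟩ := proj0_perp hf ⟨he, he', h1⟩ w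
  set u := proj0 f e e' w
  have hs : φ u = 0 := by
    have := h (u + e + (-(2 : F)⁻¹ * f u u) • e') (by
      simp only [hf.add_left, hf.add_right, hf.smul_left, smul_right' hf, he, he', h1, h1', p1, p2,
        symm hf e u, symm hf e' u]
      field_simp
      ring)
    rwa [map_add, map_add, map_smul, h e he, h e' he', smul_zero, add_zero, add_zero] at this
  rw [decomp hf e e' w, map_add, map_add, map_smul, map_smul, h e he, h e' he', hs, LinearMap.zero_apply]
  simp

theorem mem_of_singular (h2 : (2 : F) ≠ 0) {S : Submodule F (Fin n → F)} {e : Fin n → F} (he0 : e ≠ 0)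
    (he : f e e = 0) (h : ∀ w, f w w = 0 → w ∈ S) (w : Fin n → F) : w ∈ S := by
  have := eq_zero_of_singular hf h2 S.mkQ he0 he fun v hv => (Submodule.Quotient.mk_eq_zero S).2 (h v hv)
  exact (Submodule.Quotient.mk_eq_zero S).1 (LinearMap.congr_fun this w)

/-- An anisotropic vector orthogonal to a hyperbolic pair. -/
theorem exists_aniso (h2 : (2 : F) ≠ 0) (hn : 3 ≤ n) {e e' : Fin n → F} (h : Hyp f e e') :
    ∃ u, f u e = 0 ∧ f u e' = 0 ∧ f u u ≠ 0 := by
  by_contra! hc
  obtain ⟨w, hw0, hw⟩ := exists_perp_ne hf (show 2 < n by omega) ![e, e']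
  have w1 : f w e = 0 := hw 0
  have w2 : f w e' = 0 := hw 1
  refine hw0 (hf.nd w fun v => ?_)
  obtain ⟨p1, p2⟩ := proj0_perp hf h v
  set v₀ := proj0 f e e' v
  have e1 := hc (w + v₀) (by rw [hf.add_left, w1, p1, add_zero]) (by rw [hf.add_left, w2, p2, add_zero])
  rw [hf.add_left, hf.add_right, hf.add_right, hc w w1 w2, hc v₀ p1 p2, symm hf v₀ w, add_zero, zero_add,
    ← two_mul] at e1
  rw [decomp hf e e' v, hf.add_right, hf.add_right, smul_right' hf, smul_right' hf, w1, w2,
    (mul_eq_zero.1 e1).resolve_left h2]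
  simp

/-- An anisotropic vector orthogonal to two orthogonal hyperbolic pairs. -/
theorem exists_aniso_four (h2 : (2 : F) ≠ 0) (hn : 5 ≤ n) {e e' z v : Fin n → F} (h : Hyp f e e') (g : Hyp f z v)
    (z1 : f z e = 0) (z2 : f z e' = 0) (v1 : f v e = 0) (v2 : f v e' = 0) :
    ∃ u, f u e = 0 ∧ f u e' = 0 ∧ f u z = 0 ∧ f u v = 0 ∧ f u u ≠ 0 := by
  by_contra! hc
  obtain ⟨w, hw0, hw⟩ := exists_perp_ne hf (show 4 < n by omega) ![e, e', z, v]
  have w1 : f w e = 0 := hw 0
  have w2 : f w e' = 0 := hw 1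
  have w3 : f w z = 0 := hw 2
  have w4 : f w v = 0 := hw 3
  refine hw0 (hf.nd w fun x => ?_)
  obtain ⟨p1, p2⟩ := proj0_perp hf h x
  set x₀ := proj0 f e e' x
  obtain ⟨q1, q2⟩ := proj0_perp hf g x₀
  set x₁ := proj0 f z v x₀
  have q3 : f x₁ e = 0 := by simp [x₁, proj0, sub_left' hf, hf.smul_left, p1, z1, v1]
  have q4 : f x₁ e' = 0 := by simp [x₁, proj0, sub_left' hf, hf.smul_left, p2, z2, v2]
  have e1 := hc (w + x₁) (by rw [hf.add_left, w1, q3, add_zero]) (by rw [hf.add_left, w2, q4, add_zero])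
    (by rw [hf.add_left, w3, q1, add_zero]) (by rw [hf.add_left, w4, q2, add_zero])
  rw [hf.add_left, hf.add_right, hf.add_right, hc w w1 w2 w3 w4, hc x₁ q3 q4 q1 q2, symm hf x₁ w, add_zero,
    zero_add, ← two_mul] at e1
  rw [decomp hf e e' x, hf.add_right, hf.add_right, smul_right' hf, smul_right' hf, w1, w2,
    show proj0 f e e' x = x₀ from rfl, decomp hf z v x₀, hf.add_right, hf.add_right, smul_right' hf, smul_right' hf,
    w3, w4, show proj0 f z v x₀ = x₁ from rfl, (mul_eq_zero.1 e1).resolve_left h2]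
  simp

/-- Two independent orthogonal singular vectors need dimension at least four. -/
theorem four_le_of_pair {a c : Fin n → F} (ha : a ≠ 0) (haa : f a a = 0) (hcc : f c c = 0) (hac : f a c = 0)
    (hind : ∀ y : F, c ≠ y • a) : 4 ≤ n := by
  have hli : LinearIndependent F ![a, c] := (LinearIndependent.pair_iff' ha).2 fun y hy => hind y hy.symm
  let Φ := LinearMap.pi fun i => (bl hf).flip (![a, c] i)
  have hsurj : LinearMap.range Φ = ⊤ := by
    rw [eq_top_iff]
    intro t _
    by_contra ht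
    obtain ⟨θ, hθ, hker⟩ := Submodule.exists_le_ker_of_notMem ht
    obtain ⟨p, hp⟩ : ∃ p : Fin 2 → F, ∀ s, θ s = p ⬝ᵥ s :=
      ⟨fun i => θ (Pi.single i 1), fun s => by
        conv_lhs => rw [pi_eq_sum_univ' s]
        simp [dotProduct, mul_comm]⟩
    have h0 : p 0 • a + p 1 • c = 0 := hf.nd _ fun w => by
      have : θ (Φ w) = 0 := LinearMap.mem_ker.1 (hker ⟨w, rfl⟩)
      rw [hp] at this
      rw [symm hf, hf.add_right, smul_right' hf, smul_right' hf]
      simpa [Φ, dotProduct, Fin.sum_univ_two, bl_apply] using this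
    obtain ⟨h1, h2⟩ := LinearIndependent.pair_iff.1 hli _ _ h0
    refine hθ ?_
    rw [hp]
    simp [dotProduct, Fin.sum_univ_two, h1, h2]
  have h := LinearMap.finrank_range_add_finrank_ker Φ
  rw [hsurj, finrank_top, Module.finrank_fin_fun, Module.finrank_fin_fun] at h
  have hsub : Submodule.span F (Set.range ![a, c]) ≤ LinearMap.ker Φ := by
    rw [Submodule.span_le]
    rintro _ ⟨i, rfl⟩
    fin_cases i <;>
      · rw [SetLike.mem_coe, LinearMap.mem_ker]
        funext j
        fin_cases j <;> simp [Φ, bl_apply, haa, hcc, hac, symm hf c a]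
  have hk := Submodule.finrank_mono hsub
  rw [finrank_span_eq_card hli, Fintype.card_fin] at hk
  omega

end Cfsg.Agent.OTensor
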