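import Cfsg.Agent.Lib.TensorMaxForm

/-!
Algebras of endomorphisms of a symplectic space that are invariant under the symplectic transvections: as soon as
one of them has a non-scalar member it contains all rank one maps.
-/

set_option autoImplicit false
set_option linter.unusedSectionVars false

namespace Cfsg.Agent.TensorMax

open Cfsg.Agent.TransvectionMax

variable {F : Type*} [Field F] {k : ℕ} {f : (Fin k → F) → (Fin k → F) → F}

/-- `x ↦ f x w • u`. -/
def rk1 (hf : Cfsg.Geo.IsBilinearForm f) (u w : Fin k → F) : Module.End F (Fin k → F) :=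
  (fLeft hf w).smulRight u

theorem rk1_apply (hf : Cfsg.Geo.IsBilinearForm f) (u w x : Fin k → F) : rk1 hf u w x = f x w • u := rfl

/-- A subalgebra closed under adjoints and invariant under transvections. -/
structure InvAlg (hf : Cfsg.Geo.IsSymplecticForm f) (L : Submodule F (Module.End F (Fin k → F))) : Prop where
  one : (1 : Module.End F (Fin k → F)) ∈ L
  mul : ∀ X ∈ L, ∀ Y ∈ L, X * Y ∈ L
  adj : ∀ X ∈ L, ∃ X' ∈ L, ∀ v w, f (X v) w = f v (X' w)
  conj : ∀ X ∈ L, ∀ (u : Fin k → F) (c : F), (1 + c • rk1 hf.bilinear u u) * X * (1 - c • rk1 hf.bilinear u u) ∈ L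

variable {hf : Cfsg.Geo.IsSymplecticForm f} {L : Submodule F (Module.End F (Fin k → F))}

namespace InvAlg

theorem TXT (X : Module.End F (Fin k → F)) (u : Fin k → F) :
    rk1 hf.bilinear u u * X * rk1 hf.bilinear u u = f (X u) u • rk1 hf.bilinear u u := by
  refine LinearMap.ext fun x => ?_
  simp only [Module.End.mul_apply, LinearMap.smul_apply, rk1_apply, map_smul, hf.bilinear.smul_left, smul_smul]
  rw [mul_comm]

theorem diff (hL : InvAlg hf L) {X : Module.End F (Fin k → F)} (hX : X ∈ L) (u : Fin k → F) (c : F) :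
    c • (rk1 hf.bilinear u u * X - X * rk1 hf.bilinear u u) - (c * c * f (X u) u) • rk1 hf.bilinear u u ∈ L := by
  have h := L.sub_mem (hL.conj X hX u c) hX
  convert h using 1
  simp only [add_mul, mul_sub, mul_one, one_mul, smul_mul_assoc, mul_smul_comm, smul_sub, smul_smul, TXT (hf := hf), smul_add]
  module

/-- An alternating non-scalar member gives a transvection. -/
theorem exists_rk1_of_alt (hL : InvAlg hf L) {Z : Module.End F (Fin k → F)} (hZ : Z ∈ L)
    (halt : ∀ v, f (Z v) v = 0) (hns : ∀ y : F, Z ≠ y • 1) :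
    ∃ u, u ≠ 0 ∧ rk1 hf.bilinear u u ∈ L := by
  have hb := hf.bilinear
  obtain ⟨u, hu⟩ : ∃ u, ∀ y : F, Z u ≠ y • u := by
    by_contra! h
    obtain ⟨y, hy⟩ := LinearMap.exists_eq_smul_id_of_forall_notLinearIndependent (f := Z) (fun v hli => by
      obtain ⟨s, hs⟩ := h v
      rw [LinearIndependent.pair_iff] at hli
      exact one_ne_zero (neg_eq_zero.1 (hli s (-1) (by rw [hs, neg_one_smul, add_neg_cancel])).2))
    exact hns y (LinearMap.ext fun v => by simpa using LinearMap.congr_fun hy v)
  set w := Z u with hw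
  have hu0 : u ≠ 0 := fun e => hu 0 (by rw [zero_smul, hw, e, map_zero])
  have huw : f u w = 0 := by rw [hw, hf.skew, halt, neg_zero]
  have hwu : f w u = 0 := halt u
  have hZx : ∀ x, f (Z x) u = f x w := fun x => by
    have h := halt (x + u)
    rw [map_add, hb.add_left, hb.add_right, hb.add_right, halt, halt, zero_add, add_zero] at h
    rw [hf.skew x w, hw]
    linear_combination h
  set Y := rk1 hb u u * Z - Z * rk1 hb u u with hY
  have hYx : ∀ x, Y x = f x w • u - f x u • w := fun x => by
    simp only [hY, LinearMap.sub_apply, Module.End.mul_apply, rk1_apply, map_smul, hZx]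
    rfl
  have hYL : Y ∈ L := by
    have h := hL.diff hZ u 1
    rwa [halt, mul_zero, zero_smul, sub_zero, one_smul] at h
  obtain ⟨u', hu'u, hu'w⟩ : ∃ u', f u' u = 0 ∧ f u' w ≠ 0 := by
    by_contra! h
    obtain ⟨y, hy⟩ := eq_smul_of_perp_le hf hu0 (a := w) h
    exact hu y hy
  have hYu' : Y u' = f u' w • u := by rw [hYx, hu'u, zero_smul, sub_zero]
  have huu' : f u u' = 0 := by rw [hf.skew, hu'u, neg_zero]
  set Y' := rk1 hb u' u' * Y - Y * rk1 hb u' u' with hY'
  have hY'L : Y' ∈ L := by
    have h := hL.diff hYL u' 1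
    rwa [hYu', hb.smul_left, huu', mul_zero, mul_zero, zero_smul, sub_zero, one_smul] at h
  have hYu : Y u = 0 := by rw [hYx, huw, hf.alternating, zero_smul, zero_smul, sub_zero]
  have hYw : ∀ x, f (Y x) u' = f u' w * f x u := fun x => by
    rw [hYx, sub_left hb, hb.smul_left, hb.smul_left, huu', mul_zero, zero_sub, hf.skew w u']
    ring
  refine ⟨u, hu0, ?_⟩
  have e : Y * Y' = (f u' w * f u' w) • rk1 hb u u := LinearMap.ext fun x => by
    simp only [hY', Module.End.mul_apply, LinearMap.sub_apply, LinearMap.smul_apply, rk1_apply, map_sub, map_smul,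
      hYw, hYu', hYu, smul_zero, sub_zero, smul_smul]
    congr 1
    ring
  have := L.smul_mem (f u' w * f u' w)⁻¹ (e ▸ hL.mul Y hYL Y' hY'L)
  rwa [smul_smul, inv_mul_cancel₀ (mul_ne_zero hu'w hu'w), one_smul] at this

/-- A non-scalar member gives a transvection. -/
theorem exists_rk1 [Fintype F] (hL : InvAlg hf L) (hq : k ≤ 2 → ∃ t : F, t ≠ 0 ∧ t ≠ 1)
    {X : Module.End F (Fin k → F)} (hX : X ∈ L) (hns : ∀ y : F, X ≠ y • 1) :
    ∃ u, u ≠ 0 ∧ rk1 hf.bilinear u u ∈ L := by
  have hb := hf.bilinear
  by_cases hall : ∀ v, f (X v) v = 0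
  · exact hL.exists_rk1_of_alt hX hall hns
  push_neg at hall
  obtain ⟨u, hu⟩ := hall
  have hu0 : u ≠ 0 := fun e => hu (by rw [e, map_zero]; exact zero_left hb 0)
  have hd1 := hL.diff hX u 1
  by_cases hq2 : ∃ t : F, t ≠ 0 ∧ t ≠ 1
  · obtain ⟨t, ht0, ht1⟩ := hq2
    have h2 := L.sub_mem (hL.diff hX u t) (L.smul_mem t hd1)
    have e : t • (rk1 hb u u * X - X * rk1 hb u u) - (t * t * f (X u) u) • rk1 hb u u -
        t • ((1 : F) • (rk1 hb u u * X - X * rk1 hb u u) - (1 * 1 * f (X u) u) • rk1 hb u u) =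
        ((t - t * t) * f (X u) u) • rk1 hb u u := by module
    rw [e] at h2
    have hne : (t - t * t) * f (X u) u ≠ 0 := mul_ne_zero (by
      rw [show t - t * t = t * (1 - t) by ring]
      exact mul_ne_zero ht0 (sub_ne_zero.2 (Ne.symm ht1))) hu
    have := L.smul_mem ((t - t * t) * f (X u) u)⁻¹ h2
    rw [smul_smul, inv_mul_cancel₀ hne, one_smul] at this
    exact ⟨u, hu0, this⟩
  push_neg at hq2
  have hk : 3 ≤ k := by
    by_contra h
    obtain ⟨t, ht0, ht1⟩ := hq (by omega)
    exact ht1 (hq2 t ht0)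
  have h1 : ∀ t : F, t = 0 ∨ t = 1 := fun t => (em (t = 0)).imp_right (hq2 t)
  have h2 : (2 : F) = 0 := (h1 2).resolve_right fun e => one_ne_zero (α := F) (by linear_combination e)
  have hnegF : ∀ t : F, -t = t := fun t => by linear_combination (-t) * h2
  have hsymm : ∀ x y, f y x = f x y := fun x y => by rw [hf.skew, hnegF]
  have hc : f (X u) u = 1 := (h1 _).resolve_left hu
  obtain ⟨X', hX'L, hX'⟩ := hL.adj X hX
  have hX'' : ∀ v w, f (X' v) w = f v (X w) := fun v w => by rw [hf.skew, ← hX', ← hf.skew]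
  by_cases hS : ∀ y : F, X + X' ≠ y • 1
  · refine hL.exists_rk1_of_alt (L.add_mem hX hX'L) (fun v => ?_) hS
    rw [LinearMap.add_apply, hb.add_left, hX'', hsymm (X v) v]
    linear_combination f (X v) v * h2
  push_neg at hS
  obtain ⟨y, hy⟩ := hS
  have hX'v : ∀ v, X' v = y • v + X v := fun v => by
    have e := LinearMap.congr_fun hy v
    simp only [LinearMap.add_apply, LinearMap.smul_apply, Module.End.one_apply] at e
    rw [← e]
    funext i
    simp only [Pi.add_apply]
    linear_combination (-(X v i)) * h2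
  set D := (1 : F) • (rk1 hb u u * X - X * rk1 hb u u) - (1 * 1 * f (X u) u) • rk1 hb u u with hDdef
  have hD : ∀ x, D x = (f (X x) u + f x u) • u + f x u • X u := fun x => by
    simp only [hDdef, hc, one_mul, one_smul, LinearMap.sub_apply, Module.End.mul_apply, rk1_apply, map_smul]
    funext i
    simp only [Pi.add_apply, Pi.sub_apply, Pi.smul_apply, smul_eq_mul]
    linear_combination (-(f x u * u i) - f x u * X u i) * h2
  have hDu : D u = u := by rw [hD, hc, hf.alternating, add_zero, one_smul, zero_smul, add_zero]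
  have hd : f (X (X u)) u = y := by
    rw [hX', hX'v, hb.add_right, hb.smul_right, hc, hf.alternating, mul_one, add_zero]
  rcases h1 y with hy0 | hy1
  · have hDX : D (X u) = u + X u := by rw [hD, hd, hy0, hc, zero_add, one_smul, one_smul]
    have e : D * D = D + rk1 hb u u := LinearMap.ext fun x => by
      rw [Module.End.mul_apply, LinearMap.add_apply, hD x, map_add, map_smul, map_smul, hDu, hDX, rk1_apply]
      module
    have := L.sub_mem (hL.mul D hd1 D hd1) hd1
    rw [e, add_sub_cancel_left] at this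
    exact ⟨u, hu0, this⟩
  · refine hL.exists_rk1_of_alt (Z := D) hd1 (fun v => ?_) (fun z hz => ?_)
    · rw [hD, hb.add_left, hb.smul_left, hb.smul_left, hX' u v, hX'v, hy1, one_smul, hb.add_right,
        hsymm v u, hsymm (X v) u]
      linear_combination (f v u * f v u + f (X v) u * f v u) * h2
    · have hz1 : z = 1 := by
        have e := LinearMap.congr_fun hz u
        rw [hDu, LinearMap.smul_apply, Module.End.one_apply] at e
        exact smul_left_injective F hu0 (by simp only [one_smul]; exact e.symm)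
      obtain ⟨v, hv0, hv⟩ : ∃ v : Fin k → F, v ≠ 0 ∧ ∀ i, ![f v u, f (X v) u] i = 0 := by
        obtain ⟨v, hv, hv0⟩ := Submodule.exists_mem_ne_zero_of_ne_bot
          (p := LinearMap.ker ((fLeft hb u).prod ((fLeft hb u).comp X))) (fun e => by
            have := LinearMap.finrank_range_add_finrank_ker ((fLeft hb u).prod ((fLeft hb u).comp X))
            have h3 := Submodule.finrank_le (LinearMap.range ((fLeft hb u).prod ((fLeft hb u).comp X)))
            rw [e, finrank_bot, Module.finrank_fin_fun] at this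
            rw [Module.finrank_prod, Module.finrank_self] at h3
            omega)
        have hv' : (f v u, f (X v) u) = ((0 : F), (0 : F)) := hv
        rw [Prod.mk.injEq] at hv'
        exact ⟨v, hv0, fun i => by fin_cases i <;> simp [hv'.1, hv'.2]⟩
      have e := LinearMap.congr_fun hz v
      rw [hD, show f v u = 0 from hv 0, show f (X v) u = 0 from hv 1, add_zero, zero_smul, zero_smul, add_zero, hz1,
        one_smul, Module.End.one_apply] at e
      exact hv0 e.symm

theorem rk1_conj (u : Fin k → F) (c : F) (w : Fin k → F) :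
    ((1 : Module.End F (Fin k → F)) + c • rk1 hf.bilinear w w) * rk1 hf.bilinear u u *
      (1 - c • rk1 hf.bilinear w w) =
    rk1 hf.bilinear (u + (c * f u w) • w) (u + (c * f u w) • w) := by
  refine LinearMap.ext fun x => ?_
  simp only [Module.End.mul_apply, LinearMap.add_apply, LinearMap.sub_apply, LinearMap.smul_apply,
    Module.End.one_apply, rk1_apply, hf.bilinear.add_right, hf.bilinear.smul_right, sub_left hf.bilinear,
    hf.bilinear.smul_left, smul_add, smul_smul]
  rw [hf.skew w u]
  module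

/-- A non-scalar member gives every rank one map. -/
theorem rk1_mem [Fintype F] (hL : InvAlg hf L) (hq : k ≤ 2 → ∃ t : F, t ≠ 0 ∧ t ≠ 1)
    {X : Module.End F (Fin k → F)} (hX : X ∈ L) (hns : ∀ y : F, X ≠ y • 1) :
    ∀ u w, rk1 hf.bilinear u w ∈ L := by
  have hb := hf.bilinear
  obtain ⟨u₀, hu₀, hT₀⟩ := hL.exists_rk1 hq hX hns
  have hmove : ∀ {u v}, f u v ≠ 0 → rk1 hb u u ∈ L → rk1 hb v v ∈ L := fun {u v} huv hu => by
    have h := hL.conj _ hu (v - u) (f u v)⁻¹
    rwa [rk1_conj (hf := hf), sub_right hb, hf.alternating, sub_zero, inv_mul_cancel₀ huv, one_smul, add_sub_cancel] at h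
  have hT : ∀ v, v ≠ 0 → rk1 hb v v ∈ L := fun v hv => by
    obtain ⟨z, hz1, hz2⟩ := exists_common hf hu₀ hv
    exact hmove hz2 (hmove (fun e => hz1 (by rw [hf.skew, e, neg_zero])) hT₀)
  have hne : ∀ u w, f u w ≠ 0 → rk1 hb u w ∈ L := fun u w huw => by
    have hu0 : u ≠ 0 := fun e => huw (by rw [e, zero_left hb])
    have hw0 : w ≠ 0 := fun e => huw (by rw [e, zero_right hb])
    have e : rk1 hb u u * rk1 hb w w = f w u • rk1 hb u w := LinearMap.ext fun x => by
      simp only [Module.End.mul_apply, LinearMap.smul_apply, rk1_apply, hb.smul_left, smul_smul]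
      rw [mul_comm]
    have hwu : f w u ≠ 0 := fun h => huw (by rw [hf.skew, h, neg_zero])
    have := L.smul_mem (f w u)⁻¹ (e ▸ hL.mul _ (hT u hu0) _ (hT w hw0))
    rwa [smul_smul, inv_mul_cancel₀ hwu, one_smul] at this
  intro u w
  by_cases hu0 : u = 0
  · rw [hu0, show rk1 hb (0 : Fin k → F) w = 0 from LinearMap.ext fun x => by simp [rk1_apply]]
    exact L.zero_mem
  by_cases huw : f u w = 0
  · obtain ⟨z, hz⟩ := (hf.nondegenerate u hu0).2
    have e : rk1 hb u w = rk1 hb u (w + z) - rk1 hb u z := LinearMap.ext fun x => by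
      simp only [LinearMap.sub_apply, rk1_apply, hb.add_right, add_smul, add_sub_cancel_right]
    rw [e]
    exact L.sub_mem (hne _ _ (by rw [hb.add_right, huw, zero_add]; exact hz)) (hne _ _ hz)
  · exact hne u w huw

end InvAlg

end Cfsg.Agent.TensorMax
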