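import Cfsg.Agent.Lib.TensorMaxSympCtx
import Cfsg.Agent.Lib.TensorMaxAlg
import Cfsg.Agent.Lib.OmegaGeo
import Cfsg.Agent.Lib.OmegaMaxGlue
import Cfsg.Agent.Lib.OrthUnitarySimple
import Cfsg.Agent.Lib.SymplecticAlt

/-!
The stabiliser of a tensor product of two symplectic spaces is maximal in the orthogonal commutator group of the
quadratic form vanishing on pure tensors.
-/

set_option autoImplicit false
set_option linter.unusedSectionVars false

namespace Cfsg.Agent.TensorMax

open scoped Matrix MatrixGroups Kronecker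
open QuadraticMap
open Cfsg.Agent.TransvectionMax Cfsg.Agent.OrthUnitaryQuad Cfsg.Agent.OrthUnitarySimple Cfsg.Agent.OmegaGeo

variable {F : Type*} [Field F] {n k l : ℕ}

/-- A symplectic frame: a finite family of hyperbolic pairs expanding every vector. -/
theorem exists_expansion {f : (Fin n → F) → (Fin n → F) → F} (hf : Cfsg.Geo.IsSymplecticForm f) :
    ∃ (m : ℕ) (E G : Fin m → Fin n → F), ∀ p, p = ∑ i, (f p (E i) • G i - f p (G i) • E i) := by
  classical
  have hb := hf.bilinear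
  let B : (Fin n → F) →ₗ[F] (Fin n → F) →ₗ[F] F := LinearMap.mk₂ F f hb.add_left
    (fun c a b => by rw [hb.smul_left, smul_eq_mul]) hb.add_right (fun c a b => by rw [hb.smul_right, smul_eq_mul])
  obtain ⟨m, hm, e, -, he⟩ := SymplecticAlt.exists_symp_basis B hf.alternating n ⊤
    (by rw [finrank_top, Module.finrank_fin_fun]) (fun u _ h => by
      by_contra h0
      obtain ⟨v, hv⟩ := (hf.nondegenerate u h0).2
      exact hv (h v Submodule.mem_top))
  have hexp : ∀ u v : Fin m ⊕ Fin m → F, Cfsg.sympForm m F u v =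
      ∑ i, (u (.inr i) * v (.inl i) - u (.inl i) * v (.inr i)) := by
    intro u v
    simp [Cfsg.sympForm, dotProduct, Matrix.mulVec, Matrix.J, Fintype.sum_sum_type,
      Finset.sum_sub_distrib, Matrix.one_apply, Finset.sum_neg_distrib]
    ring
  have he' : ∀ s t, f (e s) (e t) = Cfsg.sympForm m F (Pi.single s 1) (Pi.single t 1) := he
  have ell : ∀ i j, f (e (.inl i)) (e (.inl j)) = 0 := fun i j => by rw [he', hexp]; simp [Pi.single_apply]
  have err : ∀ i j, f (e (.inr i)) (e (.inr j)) = 0 := fun i j => by rw [he', hexp]; simp [Pi.single_apply]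
  have erl : ∀ i j, f (e (.inr i)) (e (.inl j)) = if i = j then 1 else 0 := fun i j => by
    rw [he', hexp]
    rw [Finset.sum_eq_single i (fun x _ hx => by simp [Pi.single_apply, hx]) (by simp)]
    simp [Pi.single_apply]
  have elr : ∀ i j, f (e (.inl i)) (e (.inr j)) = -(if j = i then 1 else 0) := fun i j => by rw [hf.skew, erl]
  have hspan : Submodule.span F (Set.range e) = ⊤ := by
    refine LinearIndependent.span_eq_top_of_card_eq_finrank' ?_ (by simp [Module.finrank_fin_fun, hm]; omega)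
    rw [Fintype.linearIndependent_iff]
    intro c hc
    have key : ∀ t, ∑ s, c s * f (e s) (e t) = 0 := fun t => by
      have h0 := congrArg (fun x => B x (e t)) hc
      simpa [B, map_sum, LinearMap.sum_apply, LinearMap.mk₂_apply] using h0
    rintro (i | i)
    · have := key (.inr i)
      simpa [Fintype.sum_sum_type, elr, err] using this
    · have := key (.inl i)
      simpa [Fintype.sum_sum_type, erl, ell] using this
  refine ⟨m, fun i => e (.inl i), fun i => e (.inr i), fun p => ?_⟩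
  set D := p - ∑ i, (f p (e (.inl i)) • e (.inr i) - f p (e (.inr i)) • e (.inl i)) with hD
  have h0 : ∀ t, B D (e t) = 0 := by
    rintro (j | j) <;>
      simp [hD, B, map_sum, LinearMap.sum_apply, LinearMap.mk₂_apply, ell, err, erl, elr, Finset.sum_sub_distrib]
  have h1 : B D = 0 := LinearMap.ext_on_range hspan fun t => by simpa using h0 t
  have hD0 : D = 0 := by
    by_contra h
    obtain ⟨v, hv⟩ := (hf.nondegenerate D h).2
    exact hv (LinearMap.congr_fun h1 v)
  exact sub_eq_zero.1 (hD.symm.trans hD0)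

variable (q : QuadraticForm F (Fin k × Fin l → F))

/-- The operator of a Siegel element of a singular pair. -/
def nsie (U X : Fin k × Fin l → F) : Module.End F (Fin k × Fin l → F) :=
  (polarBilin q U).smulRight X - (polarBilin q X).smulRight U

theorem nsie_apply (U X u : Fin k × Fin l → F) : nsie q U X u = polar q U u • X - polar q X u • U := rfl

variable {q}

theorem el_siegel [Fintype F] (hnd : (polarBilin q).Nondegenerate) (h5 : 5 ≤ k * l) {U X : Fin k × Fin l → F}
    (hU : q U = 0) (hX : q X = 0) (hUX : polar q U X = 0) : El (Cfsg.Geo.omegaGL ⇑q) (nsie q U X) := by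
  have hd : 5 ≤ Module.finrank F (Fin k × Fin l → F) := by simpa using h5
  refine ⟨toGL q (siegel q U X hU hUX), toGL_mem (sGroup_le_commutator hnd hd (siegel_mem_sGroup _ _ hX)), ?_⟩
  refine LinearMap.ext fun u => ?_
  rw [Matrix.toLin'_apply, toGL_mulVec, siegel_apply, hX, zero_mul, add_zero, LinearMap.add_apply,
    Module.End.one_apply, nsie_apply, add_sub_assoc]

theorem el_sum [Fintype F] (hnd : (polarBilin q).Nondegenerate) (h5 : 5 ≤ k * l) {m : ℕ}
    (U X : Fin m → Fin k × Fin l → F) (hU : ∀ i, q (U i) = 0) (hX : ∀ i, q (X i) = 0)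
    (hUU : ∀ i j, polar q (U i) (U j) = 0) (hUX : ∀ i j, polar q (U i) (X j) = 0)
    (hXX : ∀ i j, polar q (X i) (X j) = 0) : El (Cfsg.Geo.omegaGL ⇑q) (∑ i, nsie q (U i) (X i)) := by
  classical
  suffices ∀ s : Finset (Fin m), El (Cfsg.Geo.omegaGL ⇑q) (∑ i ∈ s, nsie q (U i) (X i)) from this _
  intro s
  induction s using Finset.induction with
  | empty => simpa using El.zero _
  | insert a t ha ih =>
    rw [Finset.sum_insert ha]
    refine (el_siegel hnd h5 (hU a) (hX a) (hUX a a)).add ih ?_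
    rw [Finset.mul_sum]
    refine Finset.sum_eq_zero fun i _ => LinearMap.ext fun u => ?_
    rw [Module.End.mul_apply, nsie_apply q (U i) (X i), map_sub, map_smul, map_smul, nsie_apply, nsie_apply,
      hUX a i, hXX a i, hUU a i, show polar q (X a) (U i) = 0 from (polar_comm _ _ _).trans (hUX i a)]
    simp

section Plus

variable {f₁ : (Fin k → F) → (Fin k → F) → F} {f₂ : (Fin l → F) → (Fin l → F) → F}
  (hf₁ : Cfsg.Geo.IsSymplecticForm f₁) (hf₂ : Cfsg.Geo.IsSymplecticForm f₂)
  (hpol : ∀ u w, polar q u w = tForm (RingHom.id F) f₁ f₂ u w) (hpure : ∀ v a, q (tp v a) = 0)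
include hf₁ hf₂ hpol hpure

theorem polar_tp (v w : Fin k → F) (a b : Fin l → F) : polar q (tp v a) (tp w b) = f₁ v w * f₂ a b := by
  rw [hpol, tForm_tp (sform_symp hf₂) (sform_symp hf₁)]

theorem polar_Pf (u : Fin k × Fin l → F) (w : Fin k → F) (b : Fin l → F) :
    polar q (tp w b) u = f₁ (Pf f₂ k b u) w := by
  rw [polar_comm, hpol, tForm_right (sform_symp hf₂) (sform_symp hf₁)]

theorem root_mem_omega [Fintype F] (hnd : (polarBilin q).Nondegenerate) (h5 : 5 ≤ k * l) (b : Fin l → F) (z : F) :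
    kr (1 : GL (Fin k) F) (st f₂ b z) ∈ Cfsg.Geo.omegaGL ⇑q := by
  obtain ⟨m, E, G, hEG⟩ := exists_expansion hf₁
  obtain ⟨g, hg, hgN⟩ := el_sum hnd h5 (fun i => tp (E i) b) (fun i => tp (z • G i) b) (fun _ => hpure _ _)
    (fun _ => hpure _ _) (fun _ _ => by rw [polar_tp hf₁ hf₂ hpol hpure, hf₂.alternating, mul_zero])
    (fun _ _ => by rw [polar_tp hf₁ hf₂ hpol hpure, hf₂.alternating, mul_zero])
    (fun _ _ => by rw [polar_tp hf₁ hf₂ hpol hpure, hf₂.alternating, mul_zero])
  obtain ⟨g', hg', hg'N⟩ := el_root (k := k) hf₂ (M := ⊤) (fun _ _ => trivial) b z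
  suffices g = kr (1 : GL (Fin k) F) (st f₂ b z) from this ▸ hg
  refine gl_ext fun u => ?_
  rw [← Matrix.toLin'_apply, hgN]
  conv_rhs => rw [tp_decomp u, Matrix.mulVec_sum]
  simp only [kr_tp, Units.val_one, Matrix.one_mulVec, st_act hf₂, tp_add_right, Finset.sum_add_distrib]
  rw [← tp_decomp u, LinearMap.add_apply, Module.End.one_apply, LinearMap.sum_apply]
  congr 1
  have hP : ∑ i, tp (Pi.single i 1) ((z * f₂ (fun j => u (i, j)) b) • b) = z • tp (Pf f₂ k b u) b := by
    rw [show Pf f₂ k b u = ∑ i, f₂ (fun j => u (i, j)) b • Pi.single i 1 from funext fun x => by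
      rw [Pf_apply (sform_symp hf₂)]; simp [Finset.sum_apply, Pi.single_apply], ← J_apply, map_sum,
      Finset.smul_sum]
    refine Finset.sum_congr rfl fun i _ => ?_
    rw [map_smul, smul_smul, tp_smul_right, J_apply]
  rw [hP]
  conv_rhs => rw [hEG (Pf f₂ k b u), ← J_apply, map_sum, Finset.smul_sum]
  refine Finset.sum_congr rfl fun i _ => ?_
  rw [nsie_apply, polar_Pf hf₁ hf₂ hpol hpure, polar_Pf hf₁ hf₂ hpol hpure, hf₁.bilinear.smul_right, map_sub,
    map_smul, map_smul, J_apply, J_apply, tp_smul_left, smul_sub, smul_smul, smul_smul, smul_smul]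
  congr 1
  · congr 1; ring

theorem left_mem_omega [Fintype F] (hnd : (polarBilin q).Nondegenerate) (h5 : 5 ≤ k * l) (w : Fin k → F) (z : F) :
    kr (st f₁ w z) (1 : GL (Fin l) F) ∈ Cfsg.Geo.omegaGL ⇑q := by
  obtain ⟨m, E, G, hEG⟩ := exists_expansion hf₂
  obtain ⟨g, hg, hgN⟩ := el_sum hnd h5 (fun i => tp w (E i)) (fun i => tp (z • w) (G i)) (fun _ => hpure _ _)
    (fun _ => hpure _ _) (fun _ _ => by rw [polar_tp hf₁ hf₂ hpol hpure, hf₁.alternating, zero_mul])
    (fun _ _ => by rw [polar_tp hf₁ hf₂ hpol hpure, hf₁.bilinear.smul_right, hf₁.alternating, mul_zero, zero_mul])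
    (fun _ _ => by
      rw [polar_tp hf₁ hf₂ hpol hpure, hf₁.bilinear.smul_left, hf₁.bilinear.smul_right, hf₁.alternating, mul_zero,
        mul_zero, zero_mul])
  suffices g = kr (st f₁ w z) (1 : GL (Fin l) F) from this ▸ hg
  refine gl_ext fun u => ?_
  rw [← Matrix.toLin'_apply, hgN]
  conv_rhs => rw [tp_decomp u, Matrix.mulVec_sum]
  simp only [kr_tp, Units.val_one, Matrix.one_mulVec, st_act hf₁, tp_add_left, Finset.sum_add_distrib]
  rw [← tp_decomp u, LinearMap.add_apply, Module.End.one_apply, LinearMap.sum_apply]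
  congr 1
  set p : Fin l → F := ∑ i, f₁ (Pi.single i 1) w • fun j => u (i, j) with hp
  have hR : ∑ i, tp ((z * f₁ (Pi.single i 1) w) • w) (fun j => u (i, j)) = tp (z • w) p := by
    funext x
    simp [hp, tp, Finset.sum_apply, Finset.mul_sum]
    exact Finset.sum_congr rfl fun i _ => by ring
  have hp' : ∀ (x : Fin k → F) b, f₁ (Pf f₂ k b u) w = f₂ p b := fun x b => by
    conv_lhs => rw [show Pf f₂ k b u = ∑ i, f₂ (fun j => u (i, j)) b • Pi.single i 1 from funext fun x => by
      rw [Pf_apply (sform_symp hf₂)]; simp [Finset.sum_apply, Pi.single_apply], (sform_symp hf₁).sum_left]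
    rw [hp, (sform_symp hf₂).sum_left]
    exact Finset.sum_congr rfl fun i _ => by rw [hf₁.bilinear.smul_left, hf₂.bilinear.smul_left, mul_comm]
  rw [hR]
  conv_rhs => rw [hEG p]
  rw [show tp (z • w) (∑ i, (f₂ p (E i) • G i - f₂ p (G i) • E i)) =
      ∑ i, tp (z • w) (f₂ p (E i) • G i - f₂ p (G i) • E i) from funext fun x => by
        simp [tp, Finset.sum_apply, Finset.mul_sum, Finset.sum_sub_distrib, mul_sub]]
  refine Finset.sum_congr rfl fun i _ => ?_
  rw [nsie_apply, polar_Pf hf₁ hf₂ hpol hpure, polar_Pf hf₁ hf₂ hpol hpure, hf₁.bilinear.smul_right, hp' w, hp' w]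
  funext x
  simp [tp]
  ring

variable {M : Subgroup (GL (Fin k × Fin l) F)}

/-- A Siegel element lies in `M`. -/
def SG (q : QuadraticForm F (Fin k × Fin l → F)) (M : Subgroup (GL (Fin k × Fin l) F))
    (U X : Fin k × Fin l → F) : Prop :=
  ∃ (hu : q U = 0) (hX : polar q U X = 0), toGL q (siegel q U X hu hX) ∈ M

omit hf₁ hf₂ hpol hpure in
theorem sg_add {U X X' : Fin k × Fin l → F} (h : SG q M U X) (h' : SG q M U X') : SG q M U (X + X') := by
  obtain ⟨hu, hX, hm⟩ := h
  obtain ⟨_, hX', hm'⟩ := h'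
  refine ⟨hu, by rw [polar_add_right, hX, hX', add_zero], ?_⟩
  rw [← OmegaMaxGlue.glHom_apply, ← OrthUnitaryRefl.siegel_mul hu hX hX', map_mul]
  exact M.mul_mem hm hm'

omit hf₁ hf₂ hpol hpure in
theorem sg_zero {U : Fin k × Fin l → F} (hu : q U = 0) : SG q M U 0 := by
  refine ⟨hu, by simp, ?_⟩
  rw [← OmegaMaxGlue.glHom_apply, siegel_eq_one hu _ (a := 0) (zero_smul F U).symm, map_one]
  exact M.one_mem

omit hf₁ hf₂ hpol hpure in
theorem sg_neg {U X : Fin k × Fin l → F} (h : SG q M U X) : SG q M U (-X) := by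
  obtain ⟨hu, hX, hm⟩ := h
  have hX' : polar q U (-X) = 0 := by rw [polar_neg_right, hX, neg_zero]
  refine ⟨hu, hX', ?_⟩
  have e : siegel q U X hu hX * siegel q U (-X) hu hX' = 1 := by
    rw [OrthUnitaryRefl.siegel_mul hu hX hX']
    exact siegel_eq_one hu _ (a := 0) (by rw [add_neg_cancel, zero_smul])
  rw [← OmegaMaxGlue.glHom_apply, eq_inv_of_mul_eq_one_right e, map_inv]
  exact M.inv_mem hm

omit hf₁ hf₂ hpol hpure in
theorem sg_conj {U X : Fin k × Fin l → F} (h : SG q M U X) (g : orth q) (hg : toGL q g ∈ M) :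
    SG q M (g.1 U) (g.1 X) := by
  obtain ⟨hu, hX, hm⟩ := h
  refine ⟨by rw [map_orth g, hu], by rw [polar_orth g, hX], ?_⟩
  rw [← OmegaMaxGlue.glHom_apply, ← conj_siegel g U X hu hX, map_mul, map_mul, map_inv]
  exact M.mul_mem (M.mul_mem hg hm) (M.inv_mem hg)

omit hf₁ hf₂ hpol hpure in
theorem sg_comm {U X U' X' : Fin k × Fin l → F} (h : SG q M U X) (h' : SG q M U' X') (hX'0 : q X' = 0)
    (h1 : polar q U' U = 0) (h2 : polar q X' U = 0) (h3 : polar q X' X = 0) (h4 : polar q U' X = 1) :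
    SG q M U X' := by
  obtain ⟨hu', hX', hm'⟩ := h'
  have h5 := sg_conj h (siegel q U' X' hu' hX') hm'
  rw [siegel_apply, siegel_apply, h1, h2, h3, h4, hX'0] at h5
  simp only [zero_smul, one_smul, mul_zero, zero_mul, add_zero, sub_zero] at h5
  simpa using sg_add h5 (sg_neg h)

theorem sg_of_tau {a c : Fin l → F} {v w : Fin k → F} (hac : f₂ a c = 0)
    (h : Tau M f₂ (-1) a c (rk1 hf₁.bilinear v w) (-rk1 hf₁.bilinear w v)) :
    SG q M (tp w c) (tp v a) := by
  obtain ⟨g, hg, hgN⟩ := h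
  have hUX : polar q (tp w c) (tp v a) = 0 := by
    rw [polar_tp hf₁ hf₂ hpol hpure, (sform_symp hf₂).symm_zero hac, mul_zero]
  refine ⟨hpure w c, hUX, ?_⟩
  suffices toGL q (siegel q (tp w c) (tp v a) (hpure w c) hUX) = g from this ▸ hg
  refine gl_ext fun u => ?_
  rw [toGL_mulVec, siegel_apply, hpure, zero_mul, add_zero, polar_Pf hf₁ hf₂ hpol hpure,
    polar_Pf hf₁ hf₂ hpol hpure]
  conv_rhs => rw [← Matrix.toLin'_apply, hgN]
  rw [neg_neg, one_smul, LinearMap.add_apply, Module.End.one_apply, LinearMap.add_apply, SOp_apply, SOp_apply,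
    LinearMap.neg_apply, rk1_apply, rk1_apply]
  funext x
  simp [tp]
  ring

theorem omega_le_of_rk1 [Fintype F] (hnd : (polarBilin q).Nondegenerate) (h5 : 5 ≤ k * l) (hl : 6 ≤ l)
    (hall : ∀ a c, Pair f₂ a c → ∀ v w, Tau M f₂ (-1) a c (rk1 hf₁.bilinear v w) (-rk1 hf₁.bilinear w v)) :
    Cfsg.Geo.omegaGL ⇑q ≤ M := by
  classical
  have hb1 := hf₁.bilinear
  have hb2 := hf₂.bilinear
  have h₂ := sform_symp hf₂
  -- orthogonal independent second factors
  have base : ∀ v w a c, Pair f₂ a c → SG q M (tp v a) (tp w c) := fun v w a c hp => by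
    refine sg_of_tau hf₁ hf₂ hpol hpure (h₂.symm_zero hp.2.2.1) (hall c a ⟨hp.2.1, hp.1, h₂.symm_zero hp.2.2.1,
      fun y e => ?_⟩ w v)
    by_cases hy : y = 0
    · rw [hy, zero_smul] at e
      exact hp.1.1 e
    · exact hp.2.2.2 y⁻¹ (by rw [e, inv_smul_smul₀ hy])
  -- orthogonal first factors
  have derived : ∀ v w a b, v ≠ 0 → a ≠ 0 → b ≠ 0 → f₁ v w = 0 → SG q M (tp v a) (tp w b) := by
    intro v w a b hv ha hb hvw
    obtain ⟨c, hc, hcW⟩ := exists_perp_notMem hf₂ ![a, b] (Submodule.span F ({a, b} : Set (Fin l → F)))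
      (by have := finrank_pair hf₂ a b; omega)
    obtain ⟨c', hc', hcc'⟩ := TransvectionSymp.exists_perp_ne hf₂ hcW
    have hc'a : f₂ c' a = 0 := TransvectionSymp.skew_zero hf₂ (hc' a (Submodule.subset_span (by simp)))
    have hc'b : f₂ c' b = 0 := TransvectionSymp.skew_zero hf₂ (hc' b (Submodule.subset_span (by simp)))
    obtain ⟨z, hz⟩ := (hf₁.nondegenerate v hv).2
    set t := (f₁ v z * f₂ c c')⁻¹
    have hc0 : c ≠ 0 := fun e => hcW (e ▸ Submodule.zero_mem _)
    have hc'0 : c' ≠ 0 := fun e => hcc' (by rw [e]; exact h₂.zero_right c)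
    have hca : f₂ c a = 0 := hc 0
    have hcb : f₂ c b = 0 := hc 1
    have p1 : Pair f₂ a c := ⟨⟨ha, hf₂.alternating a⟩, ⟨hc0, hf₂.alternating c⟩, h₂.symm_zero hca,
      fun y e => hcW (e ▸ Submodule.smul_mem _ y (Submodule.subset_span (by simp)))⟩
    have p2 : Pair f₂ c' b := ⟨⟨hc'0, hf₂.alternating c'⟩, ⟨hb, hf₂.alternating b⟩, hc'b, fun y e => by
      rw [e, hb2.smul_right] at hcb
      rcases mul_eq_zero.1 hcb with h0 | h0
      · rw [h0, zero_smul] at e
        exact hb e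
      · exact hcc' h0⟩
    refine sg_comm (base v v a c p1) (base (t • z) w c' b p2) (hpure w b) ?_ ?_ ?_ ?_ <;>
      rw [polar_tp hf₁ hf₂ hpol hpure]
    · rw [hc'a, mul_zero]
    · rw [hf₁.skew, hvw, neg_zero, zero_mul]
    · rw [h₂.symm_zero hcb, mul_zero]
    · rw [hb1.smul_left, hf₁.skew z v, hf₂.skew c' c,
        show t * -f₁ v z * -f₂ c c' = t * (f₁ v z * f₂ c c') by ring, inv_mul_cancel₀ (mul_ne_zero hz hcc')]
  -- pure points
  have full : ∀ v a X, v ≠ 0 → a ≠ 0 → polar q (tp v a) X = 0 → SG q M (tp v a) X := by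
    intro v a X hv ha hX
    let G : Submodule F (Fin k × Fin l → F) :=
      { carrier := {Y | ∀ t : F, SG q M (tp v a) (t • Y)}
        zero_mem' := fun t => by rw [smul_zero]; exact sg_zero (hpure v a)
        add_mem' := fun hY hY' t => by rw [smul_add]; exact sg_add (hY t) (hY' t)
        smul_mem' := fun s Y hY t => by rw [smul_smul]; exact hY _ }
    have hperp : ∀ x y, f₁ v x = 0 → tp x y ∈ G := fun x y hx t => by
      rw [← tp_smul_left]
      by_cases hy : y = 0
      · rw [hy, tp_zero_right]; exact sg_zero (hpure v a)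
      · exact derived v _ a y hv ha hy (by rw [hb1.smul_right, hx, mul_zero])
    have hperp' : ∀ x y, f₂ a y = 0 → tp x y ∈ G := fun x y hy t => by
      rw [← tp_smul_left]
      by_cases hya : ∀ s : F, y ≠ s • a
      · by_cases hy0 : y = 0
        · exact absurd (by rw [hy0, zero_smul]) (hya 0)
        exact base v _ a y ⟨⟨ha, hf₂.alternating a⟩, ⟨hy0, hf₂.alternating y⟩, hy, hya⟩
      · push_neg at hya
        obtain ⟨s, hs⟩ := hya
        obtain ⟨d, hd, hdW⟩ := exists_perp_notMem hf₂ ![a] (Submodule.span F ({a} : Set (Fin l → F)))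
          (by
            have : Module.finrank F (Submodule.span F ({a} : Set (Fin l → F))) ≤ 1 :=
              (finrank_span_le_card ({a} : Set (Fin l → F))).trans (by simp)
            omega)
        have hd' : f₂ a d = 0 := h₂.symm_zero (hd 0)
        have hda : ∀ r : F, d ≠ r • a := fun r e => hdW (Submodule.mem_span_singleton.2 ⟨r, e.symm⟩)
        have hp : ∀ r : F, Pair f₂ a (r • a + d) := fun r =>
          ⟨⟨ha, hf₂.alternating a⟩, ⟨fun e => hda (-r) (by rw [neg_smul]; exact eq_neg_of_add_eq_zero_right e),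
            hf₂.alternating _⟩, by rw [hb2.add_right, hb2.smul_right, hf₂.alternating, hd', mul_zero, add_zero],
            fun p e => hda (p - r) (by rw [sub_smul, ← e, add_sub_cancel_left])⟩
        have := sg_add (base v (t • x) a _ (hp s)) (sg_neg (base v (t • x) a _ (hp 0)))
        rwa [zero_smul, zero_add, ← sub_eq_add_neg,
          show tp (t • x) (s • a + d) - tp (t • x) d = tp (t • x) y by rw [tp_add_right, add_sub_cancel_right, hs]] at this
    obtain ⟨z, hz⟩ := (hf₁.nondegenerate v hv).2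
    obtain ⟨c, hc⟩ := (hf₂.nondegenerate a ha).2
    set v' := (f₁ v z)⁻¹ • z
    have hv' : f₁ v v' = 1 := by rw [hb1.smul_right, inv_mul_cancel₀ hz]
    set a' := (f₂ a c)⁻¹ • c
    have ha' : f₂ a a' = 1 := by rw [hb2.smul_right, inv_mul_cancel₀ hc]
    let Ψ : Module.End F (Fin k × Fin l → F) :=
      LinearMap.id - (polarBilin q (tp v a)).smulRight (tp v' a')
    have hΨ : ∀ Y, Ψ Y = Y - polar q (tp v a) Y • tp v' a' := fun Y => rfl
    have hpureG : ∀ x y, Ψ (tp x y) ∈ G := by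
      intro x y
      rw [hΨ, polar_tp hf₁ hf₂ hpol hpure, show tp x y - (f₁ v x * f₂ a y) • tp v' a' =
          tp (x - f₁ v x • v') y + tp (f₁ v x • v') (y - f₂ a y • a') from funext fun p => by
        simp [tp]; ring]
      exact G.add_mem (hperp _ _ (by rw [sub_right hb1, hb1.smul_right, hv', mul_one, sub_self]))
        (hperp' _ _ (by rw [sub_right hb2, hb2.smul_right, ha', mul_one, sub_self]))
    have hXG : Ψ X ∈ G := by
      rw [tp_decomp X, map_sum]
      exact G.sum_mem fun i _ => hpureG _ _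
    rw [hΨ, hX, zero_smul, sub_zero] at hXG
    simpa using hXG 1
  -- all singular points
  have hall' : ∀ U X, q U = 0 → polar q U X = 0 → U ≠ 0 → SG q M U X := by
    intro U X hU hUX hU0
    obtain ⟨x, a, hxa⟩ : ∃ x a, polar q (tp x a) U ≠ 0 := by
      by_contra! h
      refine hU0 (hnd.1 U fun y => ?_)
      rw [tp_decomp y, map_sum]
      exact Finset.sum_eq_zero fun i _ => (polar_comm _ _ _).trans (h _ _)
    have hx : x ≠ 0 := fun e => hxa (by rw [e, tp_zero_left, polar_zero_left])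
    have ha : a ≠ 0 := fun e => hxa (by rw [e, tp_zero_right, polar_zero_left])
    obtain ⟨x', hx'⟩ := (hf₁.nondegenerate x hx).2
    obtain ⟨a', ha'⟩ := (hf₂.nondegenerate a ha).2
    set β := polar q (tp x a) U with hβ
    set y := (β / (f₁ x x' * f₂ a a')) • x' with hy
    have hy0 : y ≠ 0 := smul_ne_zero (div_ne_zero hxa (mul_ne_zero hx' ha'))
      (fun e => hx' (by rw [e]; exact (sform_symp hf₁).zero_right x))
    have ha'0 : a' ≠ 0 := fun e => ha' (by rw [e]; exact h₂.zero_right a)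
    have hu'' : polar q (tp x a) (tp y a') = β := by
      rw [polar_tp hf₁ hf₂ hpol hpure, hy, hb1.smul_right, mul_assoc, div_mul_cancel₀ _ (mul_ne_zero hx' ha')]
    set w := β⁻¹ • (U - tp y a') with hw
    have huw : polar q (tp x a) w = 0 := by
      rw [hw, polar_smul_right, polar_sub_right, hu'', ← hβ, sub_self, smul_zero]
    obtain ⟨hu, hw', hgM⟩ := full x a w hx ha huw
    set g := siegel q (tp x a) w hu hw' with hg
    obtain ⟨s, hs⟩ : ∃ s : F, g.1 (tp y a') = U - s • tp x a := by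
      refine ⟨polar q w (tp y a') + q w * β, ?_⟩
      rw [hg, siegel_apply, hu'', hw, smul_smul, mul_inv_cancel₀ hxa, one_smul, add_sub_cancel]
    have hs0 : s = 0 := by
      have h := map_orth g (tp y a')
      rw [hpure, hs, sub_eq_add_neg, ← neg_smul, QuadraticMap.map_add (⇑q), QuadraticMap.map_smul, hU, hpure,
        polar_smul_right, polar_comm, ← hβ] at h
      simpa [hxa] using h
    rw [hs0, zero_smul, sub_zero] at hs
    obtain ⟨Y, rfl⟩ := g.1.surjective X
    have hY : polar q (tp y a') Y = 0 := by rwa [← hs, polar_orth] at hUX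
    have := sg_conj (full y a' Y hy0 ha'0 hY) g hgM
    rwa [hs] at this
  intro g hg
  obtain ⟨k', hk', rfl⟩ := exists_of_mem_omegaGL hg
  rw [commutator_eq_sGroup hnd (by simpa using h5)] at hk'
  rw [← OmegaMaxGlue.glHom_apply]
  refine (Subgroup.closure_le (K := M.comap (OmegaMaxGlue.glHom q))).2 ?_ hk'
  rintro _ ⟨U, W, hu, hw, -, rfl⟩
  show OmegaMaxGlue.glHom q _ ∈ M
  rw [OmegaMaxGlue.glHom_apply]
  by_cases hU0 : U = 0
  · subst hU0
    rw [siegel_zero_left, ← OmegaMaxGlue.glHom_apply, map_one]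
    exact M.one_mem
  · obtain ⟨_, _, hm⟩ := hall' U W hu hw hU0
    exact hm

theorem symp_plus_maximal [Fintype F] (hnd : (polarBilin q).Nondegenerate) (hk : 0 < k) (hkl : k + 2 ≤ l)
    (hl : 6 ≤ l) (hq2 : k ≤ 2 → ∃ t : F, t ≠ 0 ∧ t ≠ 1) {M : Subgroup (GL (Fin k × Fin l) F)}
    (hH : Cfsg.Geo.kroneckerSubgroup k l F ⊓ Cfsg.Geo.omegaGL ⇑q ≤ M) (hM : M ≤ Cfsg.Geo.omegaGL ⇑q) :
    M ≤ Cfsg.Geo.kroneckerSubgroup k l F ∨ Cfsg.Geo.omegaGL ⇑q ≤ M := by
  classical
  by_cases hne : Cfsg.Geo.omegaGL ⇑q ≤ M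
  · exact Or.inr hne
  left
  have h5 : 5 ≤ k * l := le_trans (by omega) (Nat.mul_le_mul hk hl)
  have hst : ∀ b z, kr (1 : GL (Fin k) F) (st f₂ b z) ∈ M := fun b z =>
    hH ⟨kr_mem _ _, root_mem_omega hf₁ hf₂ hpol hpure hnd h5 b z⟩
  have hleft : ∀ w z, kr (st f₁ w z) (1 : GL (Fin l) F) ∈ M := fun w z =>
    hH ⟨kr_mem _ _, left_mem_omega hf₁ hf₂ hpol hpure hnd h5 w z⟩
  have h₁ := sform_symp hf₁
  have C := ctx_symp hf₂ h₁ hk hl hst (M := M) (fun g hg u w => by
    obtain ⟨o, -, rfl⟩ := exists_of_mem_omegaGL (hM hg)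
    rw [toGL_mulVec, toGL_mulVec, ← hpol, ← hpol, polar_orth])
  refine symp_le_kron hf₂ C ?_ hkl hst
  intro Y Y' hadj hY
  by_contra! hns
  obtain ⟨c₀, hc₀, h1, -, h3⟩ := C.third (Pi.single ⟨0, by omega⟩ 1) (Pi.single ⟨0, by omega⟩ 1)
    ⟨by simp, hf₂.alternating _⟩ ⟨by simp, hf₂.alternating _⟩
  have hone : TauAll M f₂ (-1) (1 : Module.End F (Fin k → F)) 1 := C.tauAll_one
    ⟨⟨by simp, hf₂.alternating _⟩, hc₀, (sform_symp hf₂).symm_zero h1, fun y e => h3 y 0 (by rw [e, zero_smul, add_zero])⟩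
  let L : Submodule F (Module.End F (Fin k → F)) :=
    { carrier := {X | ∃ X', IsAdj f₁ X X' ∧ TauAll M f₂ (-1) X X'}
      zero_mem' := ⟨0, by
        have h := (IsAdj.one (f := f₁)).smul h₁ (0 : F)
        rwa [map_zero, zero_smul] at h, by
        have h := C.tauAll_smul hone 0
        rwa [map_zero, zero_smul] at h⟩
      add_mem' := fun {X Z} ⟨X', h, h'⟩ ⟨Z', g, g'⟩ => ⟨X' + Z', h.add h₁ g, C.tauAll_add h' g'⟩
      smul_mem' := fun t X ⟨X', h, h'⟩ => ⟨_, h.smul h₁ t, C.tauAll_smul h' t⟩ }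
  have hL : InvAlg hf₁ L := {
    one := ⟨1, IsAdj.one, hone⟩
    mul := fun X ⟨X', h, h'⟩ Z ⟨Z', g, g'⟩ => ⟨_, h.mul g, C.tauAll_mul h' g'⟩
    adj := fun X ⟨X', h, h'⟩ => ⟨X', ⟨X, h.symm h₁, fun a c hp => by
      have := C.tau_swap (h' c a (C.pair_symm hp))
      rwa [neg_neg, one_smul, one_smul] at this⟩, h⟩
    conj := fun X ⟨X', h, h'⟩ u c => by
      have e : ∀ c, Matrix.toLin' (st f₁ u c : Matrix (Fin k) (Fin k) F) = 1 + c • rk1 hf₁.bilinear u u := fun c =>
        LinearMap.ext fun x => by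
          rw [Matrix.toLin'_apply, st_act hf₁, LinearMap.add_apply, Module.End.one_apply, LinearMap.smul_apply,
            rk1_apply, smul_smul]
      have einv : Matrix.toLin' (((st f₁ u c)⁻¹ : GL (Fin k) F) : Matrix (Fin k) (Fin k) F) =
          1 - c • rk1 hf₁.bilinear u u := by
        rw [show (st f₁ u c)⁻¹ = st f₁ u (-c) from inv_eq_of_mul_eq_one_right (by
          rw [st_add hf₁, add_neg_cancel, st_zero hf₁]), e, sub_eq_add_neg]
        congr 1
        exact LinearMap.ext fun x => by simp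
      refine ⟨(1 + c • rk1 hf₁.bilinear u u) * X' * (1 - c • rk1 hf₁.bilinear u u), fun v w => ?_, ?_⟩
      · rw [← e, ← einv]
        simp only [Module.End.mul_apply, Matrix.toLin'_apply]
        conv_lhs => rw [← act_inv_act (st f₁ u c) w, st_preserves hf₁, h]
        conv_rhs => rw [← act_inv_act (st f₁ u c) v, st_preserves hf₁]
      · rw [← e, ← einv]
        exact C.tauAll_conj h' (hleft u c) }
  refine hne (omega_le_of_rk1 hf₁ hf₂ hpol hpure hnd h5 hl fun a c hp v w => ?_)
  obtain ⟨Z, hZ, hZ'⟩ := hL.rk1_mem hq2 (X := Y) ⟨Y', hadj, hY⟩ hns v w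
  have hadj' : IsAdj f₁ (rk1 hf₁.bilinear v w) (-rk1 hf₁.bilinear w v) := fun x y => by
    rw [LinearMap.neg_apply, rk1_apply, rk1_apply, h₁.neg_right, hf₁.bilinear.smul_left, hf₁.bilinear.smul_right,
      hf₁.skew v y]
    ring
  rw [hadj'.unique h₁ hZ]
  exact hZ' a c hp

end Plus

end Cfsg.Agent.TensorMax
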