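import Cfsg.Agent.Lib.OTensorMain
import Cfsg.Agent.Lib.TensorMaxSympPlus

/-!
A root element with skew block at one singular vector gives every Siegel element, so the overgroup contains the
commutator group.
-/

set_option autoImplicit false
set_option linter.unusedSectionVars false

namespace Cfsg.Agent.OTensor

open scoped Matrix MatrixGroups Kronecker
open QuadraticMap
open Cfsg.Agent.TensorMax Cfsg.Agent.OrthUnitaryQuad Cfsg.Agent.OrthUnitarySimple Cfsg.Agent.OmegaGeo

variable {F : Type*} [Field F] {k l : ℕ}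
variable {f₁ : (Fin k → F) → (Fin k → F) → F} {f₂ : (Fin l → F) → (Fin l → F) → F}

namespace OC

variable {M : Subgroup (GL (Fin k × Fin l) F)} (C : OC f₁ f₂ M)
include C

/-- All multiples of the skew root element at `a`. -/
def SkewAt (_C : OC f₁ f₂ M) (a : Fin l → F) (D : Module.End F (Fin k → F)) : Prop :=
  ∀ t : F, El M (t • SOp f₂ a D a)

theorem el_sub {N N' : Module.End F (Fin k × Fin l → F)} (h : El M N) (h' : El M N') (e : N * N' = 0)
    (e' : N' * N' = 0) : El M (N - N') := by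
  rw [sub_eq_add_neg]
  exact h.add (el_neg h' e') (by rw [mul_neg', e, neg_zero])

/-- Moving a skew root element along a pair. -/
theorem hop_one {a c a' c' : Fin l → F} (G : Frm f₂ a c a' c') {D : Module.End F (Fin k → F)}
    (h : El M (SOp f₂ a D a)) : C.SkewAt c D := by
  have hac : f₂ a c = 0 := G.ac
  have hca : f₂ c a = 0 := by rw [symm C.h₂, G.ac]
  have hsq : ∀ x y z w : F, ∀ P Q R S : Module.End F (Fin k → F),
      SOp f₂ (x • a + y • c) P (x • a + y • c) * SOp f₂ (z • a + w • c) R (z • a + w • c) = 0 := by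
    intro x y z w P Q R S
    rw [SOp_mul C.h₂]
    simp [C.h₂.add_left, C.h₂.add_right, C.h₂.smul_left, smul_right' C.h₂, G.ha.ee, G.hc.ee, hac, hca]
  have hs : ∀ s : F, El M (SOp f₂ a D a + s • (SOp f₂ a D c + SOp f₂ c D a) + (s * s) • SOp f₂ c D c) := by
    intro s
    have hd : f₂ (s • a') c = 0 := by rw [C.h₂.smul_left, G.a'c, mul_zero]
    have hp : ∀ v w, f₂ (lin (sieGL C.h₂ C.two G.hc.ee hd) v) (lin (sieGL C.h₂ C.two G.hc.ee hd) w) = f₂ v w :=
      fun v w => by rw [lin_sieGL]; exact sie_preserves C.h₂ C.two G.hc.ee hd v w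
    have ea : lin (sieGL C.h₂ C.two G.hc.ee hd) a = a + s • c := by
      rw [lin_sieGL, sie_apply C.h₂ c (s • a') a G.hc.ee hd, smul_right' C.h₂, G.ha.one, hac]
      module
    have := el_conj h (C.sie_mem G.hc.ee hd)
    rw [C.conj1 hp, ea] at this
    convert this using 1
    simp only [SOp_add_left C.h₂, SOp_add_right C.h₂, SOp_smul_left C.h₂, SOp_smul_right C.h₂, RingHom.id_apply]
    module
  set P := SOp f₂ a D a with hP
  set Q := SOp f₂ a D c + SOp f₂ c D a with hQ
  set R := SOp f₂ c D c with hR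
  have hPP : P * P = 0 := by rw [hP, SOp_mul C.h₂, G.ha.ee, zero_smul]
  have hPQ : P * Q = 0 := by simp [hP, hQ, mul_add, SOp_mul C.h₂, G.ha.ee, hac, hca]
  have hPR : P * R = 0 := by simp [hP, hR, SOp_mul C.h₂, hac, hca]
  have hQP : Q * P = 0 := by simp [hP, hQ, add_mul, SOp_mul C.h₂, G.ha.ee, hac, hca]
  have hQQ : Q * Q = 0 := by simp [hQ, add_mul, mul_add, SOp_mul C.h₂, G.ha.ee, G.hc.ee, hac, hca]
  have hQR : Q * R = 0 := by simp [hQ, hR, add_mul, SOp_mul C.h₂, G.hc.ee, hac, hca]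
  have hRP : R * P = 0 := by simp [hP, hR, SOp_mul C.h₂, hac, hca]
  have hRQ : R * Q = 0 := by simp [hQ, hR, mul_add, SOp_mul C.h₂, G.hc.ee, hac, hca]
  have hRR : R * R = 0 := by rw [hR, SOp_mul C.h₂, G.hc.ee, zero_smul]
  clear_value P Q R
  have h2s : ∀ s : F, El M ((2 * (s * s)) • R) := by
    intro s
    have h1 := (hs s).add (hs (-s))
      (by simp [add_mul, mul_add, hPP, hPQ, hPR, hQP, hQQ, hQR, hRP, hRQ, hRR])
    have h2 := C.el_sub (C.el_sub h1 h (by simp [add_mul, hPP, hQP, hRP]) hPP) h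
      (by simp [add_mul, sub_mul, hPP, hQP, hRP]) hPP
    convert h2 using 1
    module
  intro t
  obtain ⟨r, s, hrs⟩ := span_squares C.two ((2 : F)⁻¹ * t)
  have := C.el_sub (h2s r) (h2s s) (by rw [smul_mul_smul_comm, hRR, smul_zero])
    (by rw [smul_mul_smul_comm, hRR, smul_zero])
  have et : t = 2 * (r * r) - 2 * (s * s) := by
    rw [← mul_sub, ← hrs, ← mul_assoc, mul_inv_cancel₀ C.two, one_mul]
  rw [et, ← hR]
  convert this using 1
  module

theorem skewAt_of_el {a c a' c' : Fin l → F} (G : Frm f₂ a c a' c') {D : Module.End F (Fin k → F)}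
    (h : El M (SOp f₂ a D a)) : C.SkewAt a D := by
  have h' := C.hop_one G h 1
  rw [one_smul] at h'
  exact C.hop_one (G.swap C.h₂) h'

/-- The skew blocks at a singular vector. -/
def skewSpace {a : Fin l → F} (ha : f₂ a a = 0) : Submodule F (Module.End F (Fin k → F)) where
  carrier := {Z | C.SkewAt a Z}
  zero_mem' t := by rw [SOp_zero C.h₂, smul_zero]; exact El.zero M
  add_mem' {Y Z} hY hZ t := by
    rw [SOp_add C.h₂, smul_add]
    exact (hY t).add (hZ t) (by rw [smul_mul_smul_comm, SOp_mul C.h₂, ha, zero_smul, smul_zero])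
  smul_mem' s Z hZ t := by rw [SOp_smul C.h₂, smul_smul]; exact hZ _

theorem skew_all [Finite F] (h : ¬ NoSkew f₁ f₂ M) (b : Fin l → F) (hb : f₂ b b = 0) (v w : Fin k → F) :
    C.SkewAt b (nn C.h₁ v w) := by
  simp only [NoSkew, not_forall] at h
  obtain ⟨a, c, a', c', G, D, hD, hel, hD0⟩ := h
  have hall : ∀ v w, C.SkewAt a (nn C.h₁ v w) := fun v w => by
    refine skew_full C.h₁ C.two C.hk C.sane (C.skewSpace G.ha.ee) (fun e d he hd Z hZ t => ?_)
      (Z := D) (C.skewAt_of_el G hel) hD hD0 v w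
    have := el_conj (hZ t) (C.sie_mem_left he hd)
    rwa [mul_smul_comm, smul_mul_assoc, C.conjL, lin_sieGL, lin_sieGL_inv] at this
  have hop : ∀ x y, x ≠ 0 → f₂ x x = 0 → f₂ y y = 0 → f₂ x y = 0 → (∀ t : F, y ≠ t • x) →
      C.SkewAt x (nn C.h₁ v w) → C.SkewAt y (nn C.h₁ v w) := by
    intro x y hx0 hx hy hxy hind h
    obtain ⟨x', y', G'⟩ := exists_frame C.h₂ C.two hx0 hx hy hxy hind
    have := h 1
    rw [one_smul] at this
    exact C.hop_one G' this
  have ha0 : a ≠ 0 := G.ha.ne C.h₂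
  have hmul : ∀ y : F, C.SkewAt (y • a) (nn C.h₁ v w) := fun y t => by
    rw [SOp_smul_left C.h₂, SOp_smul_right C.h₂, RingHom.id_apply, smul_smul, smul_smul]
    exact hall v w _
  by_cases hdep : ∃ y : F, b = y • a
  · obtain ⟨y, rfl⟩ := hdep
    exact hmul y
  push Not at hdep
  by_cases hab : f₂ a b = 0
  · exact hop a b ha0 G.ha.ee hb hab hdep (hall v w)
  obtain ⟨z, hz0, hz, hzv⟩ := exists_singular_perp C.h₂ (show 2 + 3 ≤ l by have := C.hl; omega) ![a, b]
  have za : f₂ z a = 0 := hzv 0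
  have zb : f₂ z b = 0 := hzv 1
  have h1 := hop a z ha0 G.ha.ee hz (by rw [symm C.h₂, za]) (fun t ht => by
    rw [ht, C.h₂.smul_left] at zb
    exact hz0 (by rw [ht, (mul_eq_zero.1 zb).resolve_right hab, zero_smul])) (hall v w)
  refine hop z b hz0 hz hb zb (fun t ht => hab ?_) h1
  rw [ht, smul_right' C.h₂, symm C.h₂ a z, za, mul_zero]

variable {q : QuadraticForm F (Fin k × Fin l → F)} (hpol : ∀ u w, polar q u w = T f₁ f₂ u w)
include hpol

theorem polar_tp' (v w : Fin k → F) (a b : Fin l → F) : polar q (tp v a) (tp w b) = f₁ v w * f₂ a b := by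
  rw [hpol, T_tp C.h₁ C.h₂]

theorem q_tp (v : Fin k → F) (a : Fin l → F) (h : f₁ v v * f₂ a a = 0) : q (tp v a) = 0 := by
  have e := C.polar_tp' hpol v v a a
  rw [QuadraticMap.polar_self, h, nsmul_eq_mul, Nat.cast_ofNat] at e
  exact (mul_eq_zero.1 e).resolve_left C.two

theorem sg_same [Finite F] (h : ¬ NoSkew f₁ f₂ M) {a : Fin l → F} (ha : f₂ a a = 0) (v w : Fin k → F) :
    SG q M (tp v a) (tp w a) := by
  have hUX : polar q (tp v a) (tp w a) = 0 := by rw [C.polar_tp' hpol, ha, mul_zero]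
  refine ⟨C.q_tp hpol v a (by rw [ha, mul_zero]), hUX, ?_⟩
  obtain ⟨g, hg, hgN⟩ := el_iff.1 (C.skew_all h a ha w v 1)
  suffices toGL q (siegel q (tp v a) (tp w a) (C.q_tp hpol v a (by rw [ha, mul_zero])) hUX) = g from this ▸ hg
  refine lin_injective (LinearMap.ext fun u => ?_)
  rw [hgN, lin_apply, toGL_mulVec, siegel_apply, C.q_tp hpol w a (by rw [ha, mul_zero]), zero_mul, add_zero, hpol,
    hpol, T_symm C.h₁ C.h₂ _ u, T_symm C.h₁ C.h₂ _ u, T, tForm_right C.h₂ C.h₁, tForm_right C.h₂ C.h₁, one_smul,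
    LinearMap.add_apply, Module.End.one_apply, SOp_apply, nn_apply, ← J_apply, ← J_apply, ← J_apply, map_sub,
    map_smul, map_smul, add_sub_assoc]

/-- Without the exclusion of skew root elements the overgroup contains every Siegel element. -/
theorem omega_le [Fintype F] (hnd : (polarBilin q).Nondegenerate) (hsk : ¬ NoSkew f₁ f₂ M) :
    Cfsg.Geo.omegaGL ⇑q ≤ M := by
  classical
  have hk := C.hk
  have hl := C.hl
  obtain ⟨e₁, he₁, he₁'⟩ := exists_singular C.h₁ hk
  obtain ⟨a₀, ha₀, ha₀'⟩ := exists_singular C.h₂ (show 3 ≤ l by omega)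
  let G : ∀ (v : Fin k → F) (a : Fin l → F), f₂ a a = 0 → Submodule F (Fin k × Fin l → F) := fun v a ha =>
    { carrier := {Y | ∀ t : F, SG q M (tp v a) (t • Y)}
      zero_mem' := fun t => by rw [smul_zero]; exact sg_zero (C.q_tp hpol v a (by rw [ha, mul_zero]))
      add_mem' := fun hY hY' t => by rw [smul_add]; exact sg_add (hY t) (hY' t)
      smul_mem' := fun s Y hY t => by rw [smul_smul]; exact hY _ }
  -- orthogonal first factors
  have derived : ∀ v w a b, f₂ a a = 0 → f₂ b b = 0 → f₂ a b ≠ 0 → f₁ v w = 0 →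
      SG q M (tp v a) (tp w b) := by
    intro v w a b ha hb hab hvw
    obtain ⟨z', hz', z, hz, hzz⟩ : ∃ z', f₁ z' v = 0 ∧ ∃ z, f₁ w z = 0 ∧ f₁ z' z ≠ 0 := by
      by_contra! h
      have h1 := finrank_perp C.h₁ ![v]
      have h2 := finrank_perp C.h₁ ![w]
      have h3 := finrank_sum_le C.h₁ (perp C.h₁ ![v]) (perp C.h₁ ![w]) fun x hx y hy =>
        h x ((mem_perp C.h₁).1 hx 0) y (by rw [symm C.h₁]; exact (mem_perp C.h₁).1 hy 0)
      omega
    refine sg_comm (C.sg_same hpol hsk ha v ((f₁ z' z * f₂ b a)⁻¹ • z)) (C.sg_same hpol hsk hb z' w)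
      (C.q_tp hpol w b (by rw [hb, mul_zero])) ?_ ?_ ?_ ?_ <;> rw [C.polar_tp' hpol]
    · rw [hz', zero_mul]
    · rw [symm C.h₁, hvw, zero_mul]
    · rw [smul_right' C.h₁, hz, mul_zero, zero_mul]
    · rw [smul_right' C.h₁, mul_assoc, inv_mul_cancel₀ (mul_ne_zero hzz (by rwa [symm C.h₂]))]
  -- the first factor orthogonal, the second arbitrary
  have hperp : ∀ v a (ha : f₂ a a = 0), a ≠ 0 → ∀ w y, f₁ v w = 0 → tp w y ∈ G v a ha := by
    intro v a ha ha0 w y hvw
    let S : Submodule F (Fin l → F) := (G v a ha).comap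
      ({ toFun := fun y => tp w y
         map_add' := fun x z => tp_add_right w x z
         map_smul' := fun s x => tp_smul_right s w x } : (Fin l → F) →ₗ[F] (Fin k × Fin l → F))
    have haS : a ∈ S := fun t => by
      show SG q M (tp v a) (t • tp w a)
      rw [← tp_smul_left]
      exact C.sg_same hpol hsk ha v _
    have hnon : ∀ b, f₂ b b = 0 → f₂ a b ≠ 0 → b ∈ S := fun b hb hab t => by
      show SG q M (tp v a) (t • tp w b)
      rw [← tp_smul_left]
      exact derived v _ a b ha hb hab (by rw [smul_right' C.h₁, hvw, mul_zero])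
    obtain ⟨a', ha', h1⟩ := exists_partner C.h₂ C.two ha0 ha
    have ha'S := hnon a' ha' (by rw [h1]; exact one_ne_zero)
    have hd : ∀ d, f₂ d a = 0 → d ∈ S := by
      intro d hd
      have e := hnon (sie C.h₂ a d a') (by rw [sie_preserves C.h₂ C.two ha hd, ha']) (by
        have h2 := sie_preserves C.h₂ C.two ha hd a a'
        rw [show sie C.h₂ a d a = a by rw [sie_apply C.h₂ a d a ha hd, symm C.h₂ a d, hd, ha]; module, h1] at h2
        rw [h2]
        exact one_ne_zero)
      rw [sie_apply C.h₂ a d a' ha hd, show f₂ a' a = 1 by rw [symm C.h₂, h1], one_smul] at e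
      have e' := S.sub_mem (S.sub_mem (S.add_mem ha'S (S.smul_mem (f₂ a' d) haS))
        (S.smul_mem ((2 : F)⁻¹ * (f₂ d d * 1)) haS)) e
      convert e' using 1
      module
    have hy : y ∈ S := by
      rw [decomp C.h₂ a a' y]
      exact S.add_mem (S.add_mem (S.smul_mem _ haS) (S.smul_mem _ ha'S))
        (hd _ (proj0_perp C.h₂ ⟨ha, ha', h1⟩ y).1)
    exact hy
  -- pure points
  have full : ∀ v a X, v ≠ 0 → a ≠ 0 → f₂ a a = 0 → polar q (tp v a) X = 0 → SG q M (tp v a) X := by
    intro v a X hv ha0 ha hX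
    obtain ⟨a', ha', h1⟩ := exists_partner C.h₂ C.two ha0 ha
    have hperp' : ∀ w y, f₂ a y = 0 → tp w y ∈ G v a ha := by
      intro w y hy
      let S : Submodule F (Fin k → F) := (G v a ha).comap (J y)
      suffices ∀ x, f₁ x x = 0 → x ∈ S from mem_of_singular C.h₁ C.two he₁ he₁' this w
      intro x hx t
      show SG q M (tp v a) (t • tp x y)
      rw [← tp_smul_left]
      obtain ⟨z', hz0, hz⟩ := exists_perp_ne C.h₁ (show 2 < k by omega) ![v, t • x]
      obtain ⟨z, hzz⟩ : ∃ z, f₁ z' z ≠ 0 := by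
        by_contra! h0
        exact hz0 (C.h₁.nd _ h0)
      refine sg_comm (C.sg_same hpol hsk ha v ((f₁ z' z)⁻¹ • z))
        (one_smul F (tp (t • x) y) ▸
          hperp z' a' ha' (fun h0 => by rw [h0, C.h₂.zero_right] at h1; exact zero_ne_one h1) (t • x) y (hz 1) 1)
        (C.q_tp hpol _ y (by rw [C.h₁.smul_left, smul_right' C.h₁, hx, mul_zero, mul_zero, zero_mul])) ?_ ?_ ?_ ?_ <;>
        rw [C.polar_tp' hpol]
      · rw [show f₁ z' v = 0 from hz 0, zero_mul]
      · rw [symm C.h₂ y a, hy, mul_zero]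
      · rw [symm C.h₂ y a, hy, mul_zero]
      · rw [smul_right' C.h₁, inv_mul_cancel₀ hzz, one_mul, symm C.h₂, h1]
    obtain ⟨z, hz⟩ : ∃ z, f₁ v z ≠ 0 := by
      by_contra! h0
      exact hv (C.h₁.nd _ h0)
    set v' := (f₁ v z)⁻¹ • z
    have hv' : f₁ v v' = 1 := by rw [smul_right' C.h₁, inv_mul_cancel₀ hz]
    let Ψ : Module.End F (Fin k × Fin l → F) :=
      LinearMap.id - (polarBilin q (tp v a)).smulRight (tp v' a')
    have hΨ : ∀ Y, Ψ Y = Y - polar q (tp v a) Y • tp v' a' := fun Y => rfl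
    have hpureG : ∀ x y, Ψ (tp x y) ∈ G v a ha := by
      intro x y
      rw [hΨ, C.polar_tp' hpol, show tp x y - (f₁ v x * f₂ a y) • tp v' a' =
          tp (x - f₁ v x • v') y + tp (f₁ v x • v') (y - f₂ a y • a') from funext fun p => by
        simp [tp]; ring]
      exact (G v a ha).add_mem
        (hperp v a ha ha0 _ _ (by rw [C.h₁.sub_right, smul_right' C.h₁, hv', mul_one, sub_self]))
        (hperp' _ _ (by rw [C.h₂.sub_right, smul_right' C.h₂, h1, mul_one, sub_self]))
    have hXG : Ψ X ∈ G v a ha := by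
      rw [tp_decomp X, map_sum]
      exact (G v a ha).sum_mem fun i _ => hpureG _ _
    rw [hΨ, hX, zero_smul, sub_zero] at hXG
    simpa using hXG 1
  -- all singular points
  have hall' : ∀ U X, q U = 0 → polar q U X = 0 → U ≠ 0 → SG q M U X := by
    intro U X hU hUX hU0
    obtain ⟨x, a, ha, hxa⟩ : ∃ x a, f₂ a a = 0 ∧ polar q (tp x a) U ≠ 0 := by
      by_contra! h
      refine hU0 (hnd.1 U fun y => ?_)
      rw [tp_decomp y, map_sum]
      refine Finset.sum_eq_zero fun i _ => ?_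
      let φ : (Fin l → F) →ₗ[F] F := (polarBilin q U).comp
        ({ toFun := fun b => tp (Pi.single i 1) b
           map_add' := fun x z => tp_add_right _ x z
           map_smul' := fun s x => tp_smul_right s _ x } : (Fin l → F) →ₗ[F] (Fin k × Fin l → F))
      have hφ : φ = 0 := eq_zero_of_singular C.h₂ C.two φ ha₀ ha₀' fun b hb =>
        (polar_comm _ _ _).trans (h _ b hb)
      exact (LinearMap.congr_fun hφ (fun j => y (i, j)) :)
    have hx : x ≠ 0 := fun e => hxa (by rw [e, tp_zero_left, polar_zero_left])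
    have ha0 : a ≠ 0 := fun e => hxa (by rw [e, tp_zero_right, polar_zero_left])
    obtain ⟨x', hx'⟩ : ∃ x', f₁ x x' ≠ 0 := by
      by_contra! h0
      exact hx (C.h₁.nd _ h0)
    obtain ⟨a', ha'ss, ha'⟩ := exists_partner C.h₂ C.two ha0 ha
    set β := polar q (tp x a) U with hβ
    set y := (β / f₁ x x') • x' with hy
    have hy0 : y ≠ 0 := smul_ne_zero (div_ne_zero hxa hx')
      (fun e => hx' (by rw [e]; exact C.h₁.zero_right x))
    have ha'0 : a' ≠ 0 := fun e => one_ne_zero (α := F) (by rw [← ha', e]; exact C.h₂.zero_right a)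
    have hu'' : polar q (tp x a) (tp y a') = β := by
      rw [C.polar_tp' hpol, ha', mul_one, hy, smul_right' C.h₁, div_mul_cancel₀ _ hx']
    have hpure : q (tp y a') = 0 := C.q_tp hpol y a' (by rw [ha'ss, mul_zero])
    set w := β⁻¹ • (U - tp y a') with hw
    have huw : polar q (tp x a) w = 0 := by
      rw [hw, polar_smul_right, polar_sub_right, hu'', ← hβ, sub_self, smul_zero]
    obtain ⟨hu, hw', hgM⟩ := full x a w hx ha0 ha huw
    set g := siegel q (tp x a) w hu hw' with hg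
    obtain ⟨s, hs⟩ : ∃ s : F, g.1 (tp y a') = U - s • tp x a := by
      refine ⟨polar q w (tp y a') + q w * β, ?_⟩
      rw [hg, siegel_apply, hu'', hw, smul_smul, mul_inv_cancel₀ hxa, one_smul, add_sub_cancel]
    have hs0 : s = 0 := by
      have h := map_orth g (tp y a')
      rw [hpure, hs, sub_eq_add_neg, ← neg_smul, QuadraticMap.map_add (⇑q), QuadraticMap.map_smul, hU,
        C.q_tp hpol x a (by rw [ha, mul_zero]), polar_smul_right, polar_comm, ← hβ] at h
      simpa [hxa] using h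
    rw [hs0, zero_smul, sub_zero] at hs
    obtain ⟨Y, rfl⟩ := g.1.surjective X
    have hY : polar q (tp y a') Y = 0 := by rwa [← hs, polar_orth] at hUX
    have := sg_conj (full y a' Y hy0 ha'0 ha'ss hY) g hgM
    rwa [hs] at this
  intro g hg
  obtain ⟨k', hk', rfl⟩ := exists_of_mem_omegaGL hg
  rw [commutator_eq_sGroup hnd (by simp; nlinarith)] at hk'
  rw [← OmegaMaxGlue.glHom_apply]
  refine (Subgroup.closure_le (K := M.comap (OmegaMaxGlue.glHom q))).2 ?_ hk'
  rintro _ ⟨U, W, hu, hw, -, rfl⟩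
  show OmegaMaxGlue.glHom q _ ∈ M
  rw [OmegaMaxGlue.glHom_apply]
  by_cases hU0 : U = 0
  · subst hU0
    rw [siegel_zero_left, ← OmegaMaxGlue.glHom_apply, map_one]
    exact M.one_mem
  · obtain ⟨_, _, hm⟩ := hall' U W hu hw hU0
    exact hm

end OC

end Cfsg.Agent.OTensor
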