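import Cfsg.Agent.Lib.SteinbergPolarMain

/-!
A `p`-element of a linear group in characteristic `p` fixes a non-zero vector of the form `g x - x`.
-/

set_option autoImplicit false

namespace Cfsg.Agent.SteinbergUnipotent

open Cfsg.Agent.SteinbergLattice

theorem exists_unipotent_vec {F V : Type*} [Field F] [AddCommGroup V] [Module F V] [Finite V]
    {G : Type*} [Group G] (ρ : G →* (V ≃ₗ[F] V)) {p : ℕ} [CharP F p] [Fact p.Prime] {g : G}
    (hk : ∃ k : ℕ, g ^ p ^ k = 1) (hne : ρ g ≠ 1) :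
    ∃ v : V, v ≠ 0 ∧ ρ g v = v ∧ ∃ x, ρ g x - x = v := by
  obtain ⟨k, hk⟩ := hk
  let N : V →ₗ[F] V := (ρ g).toLinearMap - LinearMap.id
  have hinv : img ρ g (LinearMap.range N) = LinearMap.range N :=
    img_eq_of_le ρ (fun y hy => by
      obtain ⟨x, rfl⟩ := hy
      exact ⟨ρ g x, (map_sub (ρ g) (ρ g x) x).symm⟩) le_rfl
  have hN : LinearMap.range N ≠ ⊥ := fun h => hne <| LinearEquiv.ext fun x => by
    have h1 : N x ∈ (⊥ : Submodule F V) := h ▸ LinearMap.mem_range_self N x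
    exact sub_eq_zero.1 ((Submodule.mem_bot F).1 h1)
  obtain ⟨v, ⟨x, hx⟩, hv0, hv⟩ := SteinbergPolar.exists_fixed_in (ρ := ρ) hk hinv hN
  exact ⟨v, hv0, hv, x, hx⟩

end Cfsg.Agent.SteinbergUnipotent
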