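import Cfsg.Agent.Lib.SteinbergDescend
import Cfsg.Agent.Lib.SteinbergUnipotent
import Cfsg.Agent.Lib.OrthCharTwo
import Cfsg.Agent.Lib.OrthUnitarySimple
import Cfsg.Agent.Lib.OrthUnitaryPrelude

/-!
The Steinberg character of `POmega F q` for a quadratic form with non-degenerate polar form whose
isometry group is generated by reflections.
-/

set_option autoImplicit false

namespace Cfsg.Agent.SteinbergOrth

open QuadraticMap Module Cfsg.Agent.OrthUnitaryQuad Cfsg.Agent.OrthUnitaryRefl
  Cfsg.Agent.OrthUnitaryOmega Cfsg.Agent.OrthUnitaryPrelude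
  Cfsg.Agent.SteinbergPolar Cfsg.Agent.SteinbergLattice
open Cfsg.Agent.OrthCharTwo (dif dif_apply range_dif dickson_eq_rank)

variable {F : Type*} [Field F] {V : Type*} [AddCommGroup V] [Module F V] {Q : QuadraticForm F V}

/-- The geometry of a quadratic form. -/
def geo (Q : QuadraticForm F V) : Geo F V where
  σ := RingHom.id F
  σ_surj x := ⟨x, rfl⟩
  B := polar ⇑Q
  add_left u u' v := polar_add_left Q u u' v
  smul_left c u v := by rw [polar_smul_left, smul_eq_mul]
  add_right u v v' := polar_add_right Q u v v'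
  smul_right c u v := by rw [polar_smul_right, smul_eq_mul]; rfl
  refl u v h := by rw [polar_comm]; exact h
  Φ := ⇑Q
  θ := AddMonoidHom.id F
  Φ_add u v := QuadraticMap.map_add (⇑Q) u v
  Φ_smul c v h := by rw [QuadraticMap.map_smul, h, smul_zero]
  trace v := ⟨Q v, rfl⟩
  iso v h := by rw [polar_self, h, smul_zero]

theorem geo_perp_mem {e x : V} (h : polar Q x e = 0) : x ∈ (geo Q).perp (F ∙ e) :=
  Geo.mem_perp_span _ h

variable [Fintype F] [FiniteDimensional F V]

theorem eq_zero_of_polar (hnd : (polarBilin Q).Nondegenerate) {v : V}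
    (h : ∀ x, polar Q v x = 0) : v = 0 := hnd.1 v h

/-- A vector orthogonal to everything orthogonal to `u` is a multiple of `u`. -/
theorem mem_span_of_polar (hnd : (polarBilin Q).Nondegenerate) {u y : V} (hu : u ≠ 0)
    (h : ∀ x, polar Q u x = 0 → polar Q y x = 0) : ∃ a : F, y = a • u := by
  obtain ⟨x₀, hx₀⟩ : ∃ x₀, polar Q u x₀ ≠ 0 := by
    by_contra hc
    push Not at hc
    exact hu (eq_zero_of_polar hnd hc)
  refine ⟨polar Q y x₀ / polar Q u x₀, sub_eq_zero.1 (eq_zero_of_polar hnd fun x => ?_)⟩
  have h1 := h (x - (polar Q u x / polar Q u x₀) • x₀) (by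
    rw [polar_sub_right, polar_smul_right, smul_eq_mul, div_mul_cancel₀ _ hx₀, sub_self])
  rw [polar_sub_right, polar_smul_right, smul_eq_mul] at h1
  rw [polar_sub_left, polar_smul_left, smul_eq_mul]
  linear_combination h1

/-- The square of every element is a product of commutators. -/
theorem sq_mem_commutator (hgen : reflGroup Q = ⊤) (g : orth Q) :
    g * g ∈ commutator (orth Q) := by
  rw [← Abelianization.ker_of, MonoidHom.mem_ker, map_mul]
  have hg : g ∈ reflGroup Q := hgen ▸ Subgroup.mem_top g
  induction hg using Subgroup.closure_induction with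
  | mem g hg =>
    obtain ⟨v, hv, rfl⟩ := hg
    rw [← map_mul, refl_sq, map_one]
  | one => rw [map_one, one_mul]
  | mul a c _ _ ha hc => rw [map_mul, mul_mul_mul_comm, ha, hc, one_mul]
  | inv a _ ha => rw [map_inv, ← mul_inv, ha, inv_one]

theorem charP_two (h2 : (2 : F) = 0) : CharP F 2 :=
  CharTwo.of_one_ne_zero_of_two_eq_zero one_ne_zero h2

/-- In characteristic two: the parity of the rank of `g - 1` decides membership. -/
theorem mem_commutator_iff_even (hnd : (polarBilin Q).Nondegenerate) (hgen : reflGroup Q = ⊤)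
    (h2 : (2 : F) = 0) (g : orth Q) :
    g ∈ commutator (orth Q) ↔ Even (finrank F (LinearMap.range (dif g))) := by
  have := charP_two h2
  obtain ⟨D, hD⟩ := exists_dickson h2 hnd
  have hsq : ∀ x : F, IsSquare x := fun x =>
    FiniteField.isSquare_of_char_two (ringChar.eq F 2) x
  have h10 : Multiplicative.ofAdd (1 : F) ≠ 1 := by simp
  have hiff : D g = 1 ↔ Even (finrank F (LinearMap.range (dif g))) := by
    rw [dickson_eq_rank hnd hgen D hD g, ofAdd_eq_one, CharP.cast_eq_zero_iff F 2,
      even_iff_two_dvd]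
  rw [← hiff]
  refine ⟨fun hg => Abelianization.commutator_subset_ker D hg, fun hg => ?_⟩
  rw [← Abelianization.ker_of, MonoidHom.mem_ker]
  by_cases h : ∃ v, Q v ≠ 0
  · obtain ⟨u, hu⟩ := h
    have hA : Abelianization.of (refl Q u hu) * Abelianization.of (refl Q u hu) = 1 := by
      rw [← map_mul, refl_sq u hu, map_one]
    have h1 := eq_one_or_of_mem_closure_pair hA hA (closure_of_refl hgen
      {Abelianization.of (refl Q u hu), Abelianization.of (refl Q u hu)}
      (fun v hv => Or.inl (of_refl_eq hnd hv hu (hsq _))) g)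
    rw [hA] at h1
    rcases h1 with h1 | h1 | h1 | h1
    · exact h1
    all_goals first
      | exact h1
      | (have h3 := congrArg (Abelianization.lift D) h1
         rw [Abelianization.lift_apply_of, Abelianization.lift_apply_of, hD, hg] at h3
         exact absurd h3.symm h10)
  · push Not at h
    have hz : ∀ x : V, x = 0 := fun x => eq_zero_of_polar hnd fun y => by
      rw [polar, h, h, h, sub_self, sub_self]
    rw [show g = 1 from orth_ext fun x => by rw [hz (g.1 x), hz ((1 : orth Q).1 x)], map_one]

/-- Siegel transformations are products of commutators. -/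
theorem siegel_mem_commutator (hnd : (polarBilin Q).Nondegenerate) (hgen : reflGroup Q = ⊤)
    {u w : V} (hu : Q u = 0) (hw : polar Q u w = 0) :
    siegel Q u w hu hw ∈ commutator (orth Q) := by
  by_cases h2 : (2 : F) = 0
  · by_cases hu0 : u = 0
    · subst hu0
      rw [OrthUnitarySimple.siegel_zero_left hu hw]
      exact Subgroup.one_mem _
    by_cases hdep : ∃ a : F, w = a • u
    · obtain ⟨a, ha⟩ := hdep
      rw [OrthUnitarySimple.siegel_eq_one hu hw ha]
      exact Subgroup.one_mem _
    push Not at hdep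
    rw [mem_commutator_iff_even hnd hgen h2]
    set S := siegel Q u w hu hw with hS
    obtain ⟨x₁, hx₁, hwx₁⟩ : ∃ x, polar Q u x = 0 ∧ polar Q w x ≠ 0 := by
      by_contra hc
      push Not at hc
      obtain ⟨a, ha⟩ := mem_span_of_polar hnd hu0 hc
      exact hdep a ha
    obtain ⟨x₂, hx₂⟩ : ∃ x, polar Q u x ≠ 0 := by
      by_contra hc
      push Not at hc
      exact hu0 (eq_zero_of_polar hnd hc)
    have hrange : LinearMap.range (dif S) = (F ∙ u) ⊔ (F ∙ w) := by
      refine le_antisymm ?_ ?_
      · rintro _ ⟨x, rfl⟩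
        rw [dif_apply, hS, siegel_apply]
        exact Submodule.mem_sup.2 ⟨_, Submodule.smul_mem _ (-(polar Q w x + Q w * polar Q u x))
          (Submodule.mem_span_singleton_self u), _,
          Submodule.smul_mem _ (polar Q u x) (Submodule.mem_span_singleton_self w), by module⟩
      · have hu' : u ∈ LinearMap.range (dif S) := by
          refine ⟨(-(polar Q w x₁)⁻¹) • x₁, ?_⟩
          rw [map_smul, dif_apply, hS, siegel_apply, hx₁]
          simp only [zero_smul, add_zero, mul_zero, sub_sub_cancel_left, smul_neg, smul_smul,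
            neg_mul, neg_neg, inv_mul_cancel₀ hwx₁, one_smul, neg_smul]
        refine sup_le ((Submodule.span_singleton_le_iff_mem _ _).2 hu')
          ((Submodule.span_singleton_le_iff_mem _ _).2 ⟨(polar Q u x₂)⁻¹ • x₂ +
            ((polar Q u x₂)⁻¹ * (polar Q w x₂ + Q w * polar Q u x₂)) • hu'.choose, ?_⟩)
        rw [map_add, map_smul, map_smul, hu'.choose_spec, dif_apply, hS, siegel_apply, mul_smul,
          ← smul_add]
        rw [inv_smul_eq_iff₀ hx₂]
        module
    rw [hrange]
    have h3 := Submodule.finrank_sup_add_finrank_inf_eq (F ∙ u) (F ∙ w)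
    have hw0 : w ≠ 0 := fun h => hdep 0 (by rw [h, zero_smul])
    have hinf : (F ∙ u) ⊓ (F ∙ w) = ⊥ := eq_bot_iff.2 fun y hy => by
      obtain ⟨hy1, hy2⟩ := Submodule.mem_inf.1 hy
      obtain ⟨a, rfl⟩ := Submodule.mem_span_singleton.1 hy1
      obtain ⟨b, hb⟩ := Submodule.mem_span_singleton.1 hy2
      by_cases hb0 : b = 0
      · rw [← hb, hb0, zero_smul]; exact zero_mem _
      · exact absurd (by rw [mul_smul, ← hb, inv_smul_smul₀ hb0]) (hdep (b⁻¹ * a))
    rw [hinf, finrank_bot, finrank_span_singleton hu0, finrank_span_singleton hw0, add_zero] at h3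
    rw [h3]
    exact even_two
  · have hw' : polar Q u ((2 : F)⁻¹ • w) = 0 := by rw [polar_smul_right, hw, smul_zero]
    have h := sq_mem_commutator hgen (siegel Q u ((2 : F)⁻¹ • w) hu hw')
    rwa [siegel_mul, OrthUnitarySimple.siegel_congr (w' := w) hu _
      (by rw [← add_smul, ← two_mul, mul_inv_cancel₀ h2, one_smul])] at h

variable [Finite V]

/-- Non-trivial `p`-elements of the commutator subgroup fix a singular vector of the form `g x - x`. -/
theorem exists_singular_fixed (hnd : (polarBilin Q).Nondegenerate) (hgen : reflGroup Q = ⊤)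
    {p : ℕ} [CharP F p] [Fact p.Prime] {g : orth Q} (hg : g ∈ commutator (orth Q))
    (hk : ∃ k : ℕ, g ^ p ^ k = 1) (hne : g ≠ 1) :
    ∃ v : V, v ≠ 0 ∧ Q v = 0 ∧ g.1 v = v ∧ ∃ x, g.1 x - x = v := by
  have hfix : ∀ u x, g.1 u = u → polar Q u (g.1 x - x) = 0 := fun u x hu => by
    rw [polar_sub_right]
    nth_rw 1 [← hu]
    rw [polar_orth, sub_self]
  obtain ⟨v, hv0, hv, x, hx⟩ := SteinbergUnipotent.exists_unipotent_vec (orth Q).subtype hk
    fun h => hne (Subtype.ext h)
  replace hv : g.1 v = v := hv
  replace hx : g.1 x - x = v := hx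
  by_cases h2 : (2 : F) = 0
  swap
  · have h := hfix v x hv
    rw [hx, polar_self, nsmul_eq_mul, Nat.cast_ofNat] at h
    exact ⟨v, hv0, (mul_eq_zero.1 h).resolve_left h2, hv, x, hx⟩
  have hp : p = 2 := CharP.eq F (inferInstance : CharP F p) (charP_two h2)
  subst hp
  set N := dif g with hN
  have hself : ∀ y : V, polar Q y y = 0 := OrthCharTwo.polar_self_zero Q
  by_cases hNN : ∀ y, N (N y) = 0
  · -- the image is fixed pointwise
    have hfixR : ∀ r ∈ LinearMap.range N, g.1 r = r := by
      rintro r ⟨y, rfl⟩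
      exact sub_eq_zero.1 (hNN y)
    by_cases hker : ∃ r ∈ LinearMap.range N, r ≠ 0 ∧ Q r = 0
    · obtain ⟨r, ⟨y, hy⟩, hr0, hr⟩ := hker
      exact ⟨r, hr0, hr, hfixR r ⟨y, hy⟩, y, hy⟩
    · exfalso
      push Not at hker
      have heven := (mem_commutator_iff_even hnd hgen h2 g).1 hg
      have hinj : Function.Injective fun r : LinearMap.range N => Q (r : V) := by
        intro a b hab
        by_contra hne'
        have hd : (a : V) - b ∈ LinearMap.range N := Submodule.sub_mem _ a.2 b.2
        have hab' : polar Q (a : V) (b : V) = 0 := by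
          obtain ⟨y, hy⟩ := b.2
          rw [← hy]
          exact hfix a y (hfixR a a.2)
        refine hker _ hd (sub_ne_zero.2 fun h => hne' (Subtype.ext h)) ?_
        rw [sub_eq_add_neg, QuadraticMap.map_add (⇑Q), QuadraticMap.map_neg, polar_neg_right, hab',
          neg_zero, add_zero, show Q (a : V) = Q (b : V) from hab]
        linear_combination (Q (b : V)) * h2
      have hcard := Nat.card_le_card_of_injective _ hinj
      rw [Module.natCard_eq_pow_finrank (K := F)] at hcard
      have hv' : v ∈ LinearMap.range N := ⟨x, hx⟩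
      have hr0 : finrank F (LinearMap.range N) ≠ 0 := fun h => hv0 (by
        have := Submodule.finrank_eq_zero.1 h
        rwa [this, Submodule.mem_bot] at hv')
      obtain ⟨t, ht⟩ := heven
      have hq : 1 < Nat.card F := Finite.one_lt_card
      have : Nat.card F ^ 1 < Nat.card F ^ finrank F (LinearMap.range N) :=
        Nat.pow_lt_pow_right hq (by rw [← hN] at ht; omega)
      rw [pow_one] at this
      omega
  · push Not at hNN
    obtain ⟨y₀, hy₀⟩ := hNN
    have hinv : img (orth Q).subtype g (LinearMap.range (N ∘ₗ N)) = LinearMap.range (N ∘ₗ N) :=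
      img_eq_of_le _ (fun r hr => by
        obtain ⟨y, rfl⟩ := hr
        exact ⟨g.1 y, by simp [hN, dif_apply, map_sub]⟩) le_rfl
    obtain ⟨k, hk⟩ := hk
    obtain ⟨r, ⟨y, hy⟩, hr0, hr⟩ := SteinbergPolar.exists_fixed_in (ρ := (orth Q).subtype) hk hinv
      fun h => hy₀ ((Submodule.mem_bot F).1 (h ▸ LinearMap.mem_range_self (N ∘ₗ N) y₀))
    replace hr : g.1 r = r := hr
    refine ⟨r, hr0, ?_, hr, N y, hy⟩
    have hgy : g.1 (N y) = N y + r := by rw [← hy]; simp [hN, dif_apply]
    have h1 := map_orth g (N y)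
    rw [hgy, QuadraticMap.map_add (⇑Q)] at h1
    have h3 : polar Q (N y) r = 0 := by
      rw [polar_comm, hN, dif_apply]
      exact hfix r y hr
    rw [h3] at h1
    linear_combination h1

section Matrices

variable {ι : Type} [Fintype ι] [DecidableEq ι] (q : QuadraticForm F (ι → F))

/-- The natural representation of `Omega`. -/
noncomputable def nat : Omega F ⇑q →* ((ι → F) ≃ₗ[F] (ι → F)) :=
  ((orth q).subtype.comp (iso q).toMonoidHom).comp (Omega F ⇑q).subtype

theorem nat_apply (g : Omega F ⇑q) (x : ι → F) : nat q g x = (iso q g.1).1 x := rfl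

theorem exists_of_mem {k : orth q} (hk : k ∈ commutator (orth q)) :
    ∃ g : Omega F ⇑q, ∀ x, nat q g x = k.1 x :=
  ⟨⟨(iso q).symm k, (mem_Omega_iff _).2 (by rw [MulEquiv.apply_symm_apply]; exact hk)⟩,
    fun x => by rw [nat_apply, MulEquiv.apply_symm_apply]⟩

variable {q}

/-- Central elements fix every singular line. -/
theorem center_fix (hnd : (polarBilin q).Nondegenerate) (hgen : reflGroup q = ⊤) {z : Omega F ⇑q}
    (hz : z ∈ Subgroup.center (Omega F ⇑q)) (e : ι → F) (he : q e = 0) :
    ∃ c : F, nat q z e = c • e := by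
  by_cases he0 : e = 0
  · exact ⟨0, by rw [he0, map_zero, zero_smul]⟩
  by_cases hw : ∃ w, polar q e w = 0 ∧ ∀ a : F, w ≠ a • e
  · obtain ⟨w₀, hw₀, hw₀'⟩ := hw
    have key : ∀ w, polar q e w = 0 →
        polar q e (nat q z e) • w = (polar q w (nat q z e) + q w * polar q e (nat q z e)) • e := by
      intro w hw
      obtain ⟨s, hs⟩ := exists_of_mem q (siegel_mem_commutator hnd hgen he hw)
      have h1 : nat q z (nat q s e) = nat q s (nat q z e) := by
        rw [← LinearEquiv.mul_apply, ← map_mul, ← Subgroup.mem_center_iff.1 hz s, map_mul]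
        rfl
      rw [hs, hs, siegel_apply, siegel_apply, polar_self, he, polar_comm q w e, hw] at h1
      simp only [smul_zero, zero_smul, add_zero, mul_zero, sub_zero] at h1
      linear_combination (norm := module) -h1
    have h0 : polar q e (nat q z e) = 0 := by
      by_contra hne
      refine hw₀' ((polar q e (nat q z e))⁻¹ *
        (polar q w₀ (nat q z e) + q w₀ * polar q e (nat q z e))) ?_
      rw [mul_smul, ← key w₀ hw₀, inv_smul_smul₀ hne]
    refine mem_span_of_polar hnd he0 fun w hw => ?_
    have h1 := key w hw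
    rw [h0, zero_smul, mul_zero, add_zero, eq_comm, smul_eq_zero] at h1
    rw [polar_comm]
    exact h1.resolve_right he0
  · -- a hyperbolic plane
    push Not at hw
    obtain ⟨u₀, hu₀⟩ : ∃ u, polar q u e ≠ 0 := by
      by_contra hc
      push Not at hc
      exact he0 (eq_zero_of_polar hnd fun x => by rw [polar_comm]; exact hc x)
    obtain ⟨f, hf, hfe⟩ : ∃ f, q f = 0 ∧ polar q f e = 1 := by
      refine ⟨(polar q u₀ e)⁻¹ • u₀ + (-q ((polar q u₀ e)⁻¹ • u₀)) • e, ?_, ?_⟩
      · rw [QuadraticMap.map_add (⇑q), QuadraticMap.map_smul q (-q _) e, he, polar_smul_right,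
          polar_smul_left]
        simp [inv_mul_cancel₀ hu₀]
      · rw [polar_add_left, polar_smul_left, polar_smul_left, polar_self, he]
        simp [inv_mul_cancel₀ hu₀]
    have hdec : ∀ y : ι → F, ∃ a b : F, y = a • e + b • f := fun y => by
      obtain ⟨a, ha⟩ := hw (y - polar q e y • f) (by
        rw [polar_sub_right, polar_smul_right, polar_comm q e f, hfe, smul_eq_mul, mul_one,
          sub_self])
      exact ⟨a, polar q e y, by rw [← ha, sub_add_cancel]⟩
    have hpair : ∀ y, q y = 0 → y ∈ F ∙ e ∨ y ∈ F ∙ f := fun y hy => by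
      obtain ⟨a, b, hab⟩ := hdec y
      exact sub2_pair (Q := geo q) he hf hfe a b hab hy fun c hc => hc
    have hne : ∀ c : F, c • e ≠ f := fun c h => by
      rw [← h, polar_smul_left, polar_self, he, smul_zero, smul_zero] at hfe
      exact zero_ne_one hfe
    have hf0 : f ≠ 0 := fun h => hne 0 (by rw [zero_smul, h])
    let s : orth q → Multiplicative (ZMod 2) := fun k =>
      Multiplicative.ofAdd (by classical exact if k.1 e ∈ F ∙ e then 0 else 1)
    have hee : ∀ k : orth q, k.1 e ∈ F ∙ e → ∀ y, y ∈ F ∙ e → k.1 y ∈ F ∙ e := fun k hk y hy => by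
      obtain ⟨c, rfl⟩ := Submodule.mem_span_singleton.1 hy
      rw [map_smul]
      exact Submodule.smul_mem _ _ hk
    have hswap : ∀ k : orth q, k.1 e ∉ F ∙ e → k.1 f ∈ F ∙ e ∧ k.1 e ∈ F ∙ f := fun k hk => by
      have h1 := (hpair (k.1 e) (by rw [map_orth, he])).resolve_left hk
      refine ⟨(hpair (k.1 f) (by rw [map_orth, hf])).resolve_right fun h => ?_, h1⟩
      obtain ⟨a, ha⟩ := Submodule.mem_span_singleton.1 h1
      obtain ⟨b, hb⟩ := Submodule.mem_span_singleton.1 h
      have h3 := polar_orth k f e
      rw [← ha, ← hb, polar_smul_left, polar_smul_right, polar_self, hf, hfe] at h3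
      simp at h3
    have hfix : ∀ k : orth q, k.1 e ∈ F ∙ e → k.1 f ∈ F ∙ f := fun k hk =>
      (hpair (k.1 f) (by rw [map_orth, hf])).resolve_left fun h => by
        obtain ⟨a, ha⟩ := Submodule.mem_span_singleton.1 hk
        obtain ⟨b, hb⟩ := Submodule.mem_span_singleton.1 h
        have h3 := polar_orth k f e
        rw [← ha, ← hb, polar_smul_left, polar_smul_right, polar_self, he, hfe] at h3
        simp at h3
    have hnf : ∀ y, y ∈ F ∙ e → y ∈ F ∙ f → y = 0 := fun y h1 h2 => by
      obtain ⟨a, rfl⟩ := Submodule.mem_span_singleton.1 h1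
      obtain ⟨b, hb⟩ := Submodule.mem_span_singleton.1 h2
      by_cases hb0 : b = 0
      · rw [← hb, hb0, zero_smul]
      · exact absurd (by rw [mul_smul, ← hb, inv_smul_smul₀ hb0]) (hne (b⁻¹ * a))
    have hmul : ∀ k k' : orth q, s (k * k') = s k * s k' := by
      intro k k'
      simp only [s]
      rw [← ofAdd_add]
      congr 1
      have hk0 : ∀ j : orth q, j.1 e ≠ 0 := fun j h => he0 (j.1.map_eq_zero_iff.1 h)
      by_cases h' : k'.1 e ∈ F ∙ e <;> by_cases h : k.1 e ∈ F ∙ e
      · rw [if_pos h, if_pos h', if_pos, add_zero]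
        exact hee k h _ h'
      · rw [if_neg h, if_pos h', if_neg, add_zero]
        intro hc
        obtain ⟨c, hc'⟩ := Submodule.mem_span_singleton.1 h'
        rw [orth_mul_apply, ← hc', map_smul] at hc
        refine h ((Submodule.smul_mem_iff _ fun hc0 => hk0 k' ?_).1 hc)
        rw [← hc', hc0, zero_smul]
      · rw [if_pos h, if_neg h', if_neg, zero_add]
        intro hc
        obtain ⟨c, hc'⟩ := Submodule.mem_span_singleton.1 (hswap k' h').2
        rw [orth_mul_apply, ← hc', map_smul] at hc
        have h5 := hnf _ hc (Submodule.smul_mem _ c (hfix k h))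
        rw [← map_smul, k.1.map_eq_zero_iff, hc'] at h5
        exact hk0 k' h5
      · rw [if_neg h, if_neg h', if_pos]
        · decide
        · obtain ⟨c, hc'⟩ := Submodule.mem_span_singleton.1 (hswap k' h').2
          rw [orth_mul_apply, ← hc', map_smul]
          exact Submodule.smul_mem _ c (hswap k h).1
    have hcomm : iso q z.1 ∈ commutator (orth q) := (mem_Omega_iff z.1).1 z.2
    have h1 : s (iso q z.1) = 1 :=
      Abelianization.commutator_subset_ker (MonoidHom.mk' s hmul) hcomm
    by_contra hcon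
    refine absurd h1 ?_
    simp only [s]
    rw [if_neg fun hmem => hcon (by
      obtain ⟨c, hc⟩ := Submodule.mem_span_singleton.1 hmem
      exact ⟨c, hc.symm⟩)]
    decide

theorem hasSteinberg (p : ℕ) [Fact p.Prime] [CharP F p] (hnd : (polarBilin q).Nondegenerate)
    (hgen : reflGroup q = ⊤) : SteinbergDescend.HasSteinberg p (Cfsg.POmega F ⇑q) := by
  have : Finite (Omega F ⇑q) := inferInstance
  refine SteinbergDescend.hasSteinberg_of_polar (Q := geo q) (nat q) (QuotientGroup.mk' _)
    (QuotientGroup.mk'_surjective _)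
    (fun z hz v hv => center_fix hnd hgen ((QuotientGroup.eq_one_iff z).1 hz) v hv)
    ⟨fun v _ h => eq_zero_of_polar hnd fun x => h x trivial, fun g _ => map_top _,
      fun g _ => ⟨fun u v => polar_orth _ u v, fun v => map_orth _ v⟩, ?_, fun g _ hg hne => ?_⟩
  · intro e _ u _ v _ he hu hv hue hve
    change q e = 0 at he
    change q u = 0 at hu
    change q v = 0 at hv
    change polar q u e = 1 at hue
    change polar q v e = 1 at hve
    have hw : polar q e (v - u) = 0 := by
      rw [polar_sub_right, polar_comm q e v, hve, polar_comm q e u, hue, sub_self]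
    obtain ⟨g, hg⟩ := exists_of_mem q (siegel_mem_commutator hnd hgen he hw)
    refine ⟨g, trivial, ?_, ?_, fun y hy => ⟨-polar q (v - u) y, ?_⟩, fun y hye hyu hyv => ?_⟩
    · rw [hg, siegel_apply, polar_self, he, polar_comm q (v - u) e, hw]
      simp
    · have hQw : q (v - u) = -polar q v u := by
        rw [sub_eq_add_neg, QuadraticMap.map_add (⇑q), QuadraticMap.map_neg, hu, hv,
          polar_neg_right, add_zero, zero_add]
      rw [hg, siegel_apply, polar_comm q e u, hue, polar_sub_left, polar_self, hu, hQw, smul_zero,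
        sub_zero, mul_one, add_neg_cancel, zero_smul, sub_zero, one_smul, add_sub_cancel]
    · change polar q y e = 0 at hy
      rw [hg, siegel_apply, polar_comm q e y, hy]
      module
    · change polar q y e = 0 at hye
      change polar q y u = 0 at hyu
      change polar q y v = 0 at hyv
      rw [hg, siegel_apply, polar_comm q e y, hye, polar_sub_left, polar_comm q v y, hyv,
        polar_comm q u y, hyu]
      simp
  · obtain ⟨v, hv0, hvs, hv, x, hx⟩ := exists_singular_fixed (p := p) hnd hgen
      (g := iso q g.1) ((mem_Omega_iff g.1).1 g.2)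
      (by
        obtain ⟨k, hk⟩ := hg
        exact ⟨k, by rw [← map_pow, ← Subgroup.coe_pow, hk, Subgroup.coe_one, map_one]⟩)
      (fun h => hne (Subtype.ext ((iso q).injective (by rw [h, Subgroup.coe_one, map_one]))))
    exact ⟨v, trivial, hv0, hvs, hv, x, trivial, hx⟩

end Matrices

end Cfsg.Agent.SteinbergOrth
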