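import Cfsg.Agent.Lib.OTensorGen
import Cfsg.Agent.Lib.TensorMaxQuadGlue
import Cfsg.Agent.Lib.SteinbergOrth
import Cfsg.Agent.Lib.OrthUnitaryOmega

/-!
The stabiliser of a tensor product of two orthogonal spaces in odd characteristic is maximal in the commutator group
of the orthogonal group.
-/

set_option autoImplicit false
set_option linter.unusedSectionVars false

namespace Cfsg.Agent.OTensor

open scoped Matrix MatrixGroups Kronecker
open QuadraticMap
open Cfsg.Agent.TensorMax Cfsg.Agent.TensorMaxGlue Cfsg.Agent.OrthUnitaryQuad Cfsg.Agent.OmegaGeo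

variable {F : Type*} [Field F] {k l : ℕ}

theorem sym_of {n : ℕ} {f : (Fin n → F) → (Fin n → F) → F} (h : Cfsg.Geo.IsSymmetricForm f) : Sym f where
  add_left := h.bilinear.add_left
  smul_left := h.bilinear.smul_left
  herm x y := by rw [RingHom.id_apply, one_mul, h.symm]
  invol _ := rfl
  eps := by simp
  nd x hx := by
    by_contra h0
    obtain ⟨y, hy⟩ := (h.nondegenerate x h0).2
    exact hy (hx y)

theorem sym_smul {n : ℕ} {f : (Fin n → F) → (Fin n → F) → F} (h : Sym f) {c : F} (hc : c ≠ 0) :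
    Sym fun v w => c * f v w where
  add_left x y v := by rw [h.add_left, mul_add]
  smul_left s x v := by rw [h.smul_left]; ring
  herm x y := by rw [RingHom.id_apply, one_mul, symm h]
  invol _ := rfl
  eps := by simp
  nd x hx := h.nd x fun y => (mul_eq_zero.1 (hx y)).resolve_left hc

theorem sane_of_minus {f : (Fin 4 → F) → (Fin 4 → F) → F} (h : Sym f)
    (hm : ¬ Cfsg.Geo.IsPlusTypeOn (fun v : Fin 4 → F => f v v) ⊤) : Sane f := by
  refine Or.inr fun a c ha haa hcc hac => ?_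
  by_contra! hind
  refine hm ⟨Submodule.span F {a, c}, le_top, fun w hw => ?_, ?_⟩
  · obtain ⟨r, s, rfl⟩ := Submodule.mem_span_pair.1 hw
    simp [h.add_left, h.add_right, h.smul_left, smul_right' h, haa, hcc, hac, symm h c a]
  · have hli : LinearIndependent F ![a, c] :=
      (LinearIndependent.pair_iff' ha).2 fun y hy => hind y hy.symm
    have hr : Set.range ![a, c] = {a, c} := by simp [Set.pair_comm]
    rw [finrank_top, Module.finrank_fin_fun, ← hr, finrank_span_eq_card hli, Fintype.card_fin]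

theorem hbig_of [Fintype F] (hex : ¬ (Fintype.card F = 3 ∧ k = 3)) (h2 : (2 : F) ≠ 0) (hk : 3 ≤ k) :
    4 ≤ k ∨ ∃ t : F, t ≠ 0 ∧ t * t ≠ 1 := by
  classical
  by_cases h4 : 4 ≤ k
  · exact Or.inl h4
  right
  by_contra! hc
  refine hex ⟨le_antisymm ?_ ?_, by omega⟩
  · refine (Finset.card_le_card (s := Finset.univ) (t := ({0, 1, -1} : Finset F)) fun t _ => ?_).trans
      Finset.card_le_three
    by_cases ht : t = 0
    · simp [ht]
    · rcases mul_self_eq_one_iff.1 (hc t ht) with e | e <;> simp [e]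
  · refine le_trans ?_ (Finset.card_le_univ ({0, 1, -1} : Finset F))
    rw [Finset.card_insert_of_notMem (by simp), Finset.card_pair]
    intro e
    exact h2 (by linear_combination e)

theorem kron_swap_le {ι : Type} [Fintype ι] [DecidableEq ι] (e : ι ≃ Fin k × Fin l) (P : GL ι F) :
    Cfsg.Geo.tensorProductSubgroup k l e P ≤
      Cfsg.Geo.tensorProductSubgroup l k (e.trans (Equiv.prodComm _ _)) P := by
  rw [tensorProductSubgroup_eq, tensorProductSubgroup_eq]
  rintro _ ⟨g, hg, rfl⟩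
  obtain ⟨α, β, rfl⟩ := exists_kr hg
  refine ⟨kr β α, kr_mem _ _, Units.ext ?_⟩
  show (phi (e.trans (Equiv.prodComm _ _)) P (kr β α) : Matrix ι ι F) = (phi e P (kr α β) : Matrix ι ι F)
  rw [phi_val, phi_val]
  congr 2
  ext i j
  simp [kr_val, Matrix.kroneckerMap_apply, mul_comm]

theorem kron_swap {ι : Type} [Fintype ι] [DecidableEq ι] (e : ι ≃ Fin k × Fin l) (P : GL ι F) :
    Cfsg.Geo.tensorProductSubgroup k l e P =
      Cfsg.Geo.tensorProductSubgroup l k (e.trans (Equiv.prodComm _ _)) P := by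
  refine le_antisymm (kron_swap_le e P) ((kron_swap_le _ P).trans (le_of_eq ?_))
  congr 1

theorem structure_swap {ι : Type} [Fintype ι] [DecidableEq ι] {f : (ι → F) → (ι → F) → F}
    {f₁ : (Fin k → F) → (Fin k → F) → F} {f₂ : (Fin l → F) → (Fin l → F) → F} {e : ι ≃ Fin k × Fin l}
    {P : GL ι F} (h : Cfsg.Geo.IsTensorFormStructure id f f₁ f₂ e P) :
    Cfsg.Geo.IsTensorFormStructure id f f₂ f₁ (e.trans (Equiv.prodComm _ _)) P := by
  obtain ⟨c, hc, h⟩ := h
  refine ⟨c, hc, fun x y => ?_⟩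
  have h' := h (x ∘ Equiv.prodComm _ _) (y ∘ Equiv.prodComm _ _)
  rw [Function.comp_assoc, Function.comp_assoc] at h'
  refine h'.trans ?_
  congr 1
  simp only [Cfsg.Geo.formOfGram, Matrix.kroneckerMap_apply]
  rw [← Equiv.sum_comp (Equiv.prodComm (Fin l) (Fin k))]
  refine Finset.sum_congr rfl fun a _ => ?_
  rw [← Equiv.sum_comp (Equiv.prodComm (Fin l) (Fin k))]
  exact Finset.sum_congr rfl fun b _ => by simp [mul_comm, mul_left_comm]

variable {f₁ : (Fin k → F) → (Fin k → F) → F} {f₂ : (Fin l → F) → (Fin l → F) → F}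
variable {q : QuadraticForm F (Fin k × Fin l → F)}

/-- The dichotomy for overgroups of the tensor stabiliser. -/
theorem orth_dichotomy [Fintype F] (h₁ : Sym f₁) (h₂ : Sym f₂) (two : (2 : F) ≠ 0) (hk : 3 ≤ k) (hl : 5 ≤ l)
    (hbig : 4 ≤ k ∨ ∃ t : F, t ≠ 0 ∧ t * t ≠ 1) (sane : Sane f₁) (hdiv : ¬ l ∣ k)
    (hnd : (polarBilin q).Nondegenerate) (hpol : ∀ u w, polar q u w = T f₁ f₂ u w)
    {M : Subgroup (GL (Fin k × Fin l) F)}
    (hH : Cfsg.Geo.kroneckerSubgroup k l F ⊓ Cfsg.Geo.omegaGL ⇑q ≤ M) (hM : M ≤ Cfsg.Geo.omegaGL ⇑q) :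
    M ≤ Cfsg.Geo.kroneckerSubgroup k l F ∨ Cfsg.Geo.omegaGL ⇑q ≤ M := by
  classical
  have hgen : OrthUnitaryRefl.reflGroup q = ⊤ :=
    OrthUnitaryRefl.reflGroup_eq_top (OrthUnitaryOmega.isReg_of_nondegenerate hnd) (Or.inl
      ⟨-1, neg_ne_zero.2 one_ne_zero, fun e => two (by linear_combination -e)⟩)
  have hext : ∀ g ∈ isoT f₁ f₂, ∃ o : orth q, toGL q o = g := by
    intro g hg
    have hq : ∀ u, q (lin g u) = q u := fun u => by
      have h := hg u u
      rw [← hpol, ← hpol, polar_self_mul, polar_self_mul] at h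
      exact mul_left_cancel₀ two h
    refine ⟨⟨LinearEquiv.ofLinear (lin g) (lin g⁻¹) (LinearMap.ext fun u => lin_apply_inv g u)
      (LinearMap.ext fun u => lin_inv_apply g u), hq⟩, lin_injective (LinearMap.ext fun u => ?_)⟩
    rw [lin_apply, toGL_mulVec]
    rfl
  have hiso : ∀ o : orth q, toGL q o ∈ isoT f₁ f₂ := fun o u w => by
    rw [lin_apply, lin_apply, toGL_mulVec, toGL_mulVec, ← hpol, ← hpol, polar_orth]
  have C : OC f₁ f₂ M := {
    h₁ := h₁
    h₂ := h₂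
    two := two
    hk := hk
    hl := hl
    hbig := hbig
    sane := sane
    hdiv := hdiv
    le := fun g hg => by
      obtain ⟨o, -, rfl⟩ := exists_of_mem_omegaGL (hM hg)
      exact hiso o
    sq := fun g hgK hgI => by
      obtain ⟨o, rfl⟩ := hext g hgI
      refine hH ⟨Subgroup.mul_mem _ hgK hgK, ?_⟩
      rw [← OmegaMaxGlue.glHom_apply, ← map_mul, OmegaMaxGlue.glHom_apply]
      exact toGL_mem (SteinbergOrth.sq_mem_commutator hgen o)
    kconj := fun k₀ hk₀K hk₀I g hg hgK => by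
      obtain ⟨o, rfl⟩ := hext k₀ hk₀I
      obtain ⟨o', ho', rfl⟩ := exists_of_mem_omegaGL (hM hg)
      refine hH ⟨Subgroup.mul_mem _ (Subgroup.mul_mem _ hk₀K hgK) (Subgroup.inv_mem _ hk₀K), ?_⟩
      rw [← OmegaMaxGlue.glHom_apply, ← OmegaMaxGlue.glHom_apply, ← map_inv, ← map_mul, ← map_mul,
        OmegaMaxGlue.glHom_apply]
      exact toGL_mem ((inferInstance : (commutator (orth q)).Normal).conj_mem o' ho' o) }
  by_cases hN : NoSkew f₁ f₂ M
  · exact Or.inl (C.le_kron hN)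
  · exact Or.inr (C.omega_le hpol hnd hN)

/-- The commutator group does not stabilise the decomposition. -/
theorem exists_outside [Fintype F] (h₁ : Sym f₁) (h₂ : Sym f₂) (two : (2 : F) ≠ 0) (hk : 3 ≤ k) (hl : 5 ≤ l)
    (hnd : (polarBilin q).Nondegenerate) (hpol : ∀ u w, polar q u w = T f₁ f₂ u w) :
    ∃ g ∈ Cfsg.Geo.omegaGL ⇑q, g ∉ Cfsg.Geo.kroneckerSubgroup k l F := by
  obtain ⟨a, c, a', c', G⟩ := exists_base h₂ two hl
  obtain ⟨z, hz0, hz⟩ := exists_singular h₁ hk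
  obtain ⟨x, hx, hzx⟩ := exists_partner h₁ two hz0 hz
  have hq : ∀ b, q (tp z b) = 0 := fun b => by
    have e : polar q (tp z b) (tp z b) = 0 := by rw [hpol, T_tp h₁ h₂, hz, zero_mul]
    rw [polar_self_mul] at e
    exact (mul_eq_zero.1 e).resolve_left two
  obtain ⟨g, hg, hgN⟩ := TensorMax.el_siegel hnd (by nlinarith) (hq a) (hq c)
    (by rw [hpol, T_tp h₁ h₂, hz, zero_mul])
  refine ⟨g, hg, fun hgK => ?_⟩
  obtain ⟨α, β, rfl⟩ := exists_kr hgK
  obtain ⟨d, d1, d3, d2, d4, dd⟩ := exists_aniso_four h₂ two hl G.ha G.hc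
    (by rw [symm h₂, G.ac]) (by rw [symm h₂, G.a'c]) (by rw [symm h₂, G.ac']) (by rw [symm h₂, G.a'c'])
  rw [← lin_eq] at hgN
  have e1 := LinearMap.congr_fun hgN (tp x d)
  have e2 := LinearMap.congr_fun hgN (tp x c')
  simp only [lin_kr_tp, LinearMap.add_apply, Module.End.one_apply, TensorMax.nsie_apply, hpol, T_tp h₁ h₂, hzx,
    symm h₂ a d, d1, symm h₂ c d, d2, G.ac', G.hc.one, mul_one, mul_zero, zero_smul, sub_zero, add_zero, one_smul,
    zero_sub] at e1 e2
  have f1 := congrArg (Pf f₂ k d) e1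
  rw [Pf_tp h₂, Pf_tp h₂] at f1
  have hb0 : f₂ (lin β d) d ≠ 0 := fun h0 => by
    rw [h0, zero_smul] at f1
    refine one_ne_zero (α := F) ?_
    rw [← hzx, (smul_eq_zero.1 f1.symm).resolve_left dd, h₁.zero_right]
  have f2 := congrArg (Pf f₂ k a') e2
  rw [map_add, map_neg, Pf_tp h₂, Pf_tp h₂, Pf_tp h₂, G.ha.one, one_smul,
    show f₂ c' a' = 0 by rw [symm h₂, G.a'c'], zero_smul, zero_add] at f2
  have f3 := congrArg (fun v => f₁ v z) f2
  have f4 := congrArg (fun v => f₁ v z) f1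
  simp only [h₁.smul_left, neg_left' h₁, hz, neg_zero] at f3 f4
  rw [symm h₁ x z, hzx, mul_one] at f4
  have hαz : f₁ (lin α x) z ≠ 0 := fun h0 => dd (by rw [← f4, h0, mul_zero])
  rw [(mul_eq_zero.1 f3).resolve_right hαz, zero_smul, eq_comm, neg_eq_zero] at f2
  exact hz0 f2

/-- Maximality of the tensor stabiliser. -/
theorem orth_tensor_maximal [Fintype F] {ι : Type} [Fintype ι] [DecidableEq ι] {Q : QuadraticForm F (ι → F)}
    (hnd : (polarBilin Q).Nondegenerate) (two : (2 : F) ≠ 0) {f₁ : (Fin k → F) → (Fin k → F) → F}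
    {f₂ : (Fin l → F) → (Fin l → F) → F} (h₁ : Sym f₁) (h₂ : Sym f₂) (hk : 3 ≤ k) (hl : 5 ≤ l)
    (hbig : 4 ≤ k ∨ ∃ t : F, t ≠ 0 ∧ t * t ≠ 1) (sane : Sane f₁) (hdiv : ¬ l ∣ k) (e : ι ≃ Fin k × Fin l)
    (P : GL ι F) (hT : Cfsg.Geo.IsTensorFormStructure id (QuadraticMap.polar Q) f₁ f₂ e P) :
    Cfsg.Geo.IsMaximalIn (Cfsg.Geo.omegaGL ⇑Q)
      (Cfsg.Geo.tensorProductSubgroup k l e P ⊓ Cfsg.Geo.omegaGL ⇑Q) := by
  obtain ⟨c, hc, hT⟩ := hT
  set g₁ : (Fin k → F) → (Fin k → F) → F := fun v w => c * f₁ v w with hg₁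
  have hsane : Sane g₁ := sane.imp id fun h a b ha haa hbb hab =>
    h a b ha ((mul_eq_zero.1 haa).resolve_left hc) ((mul_eq_zero.1 hbb).resolve_left hc)
      ((mul_eq_zero.1 hab).resolve_left hc)
  set q' := Q.comp (psi e P) with hq'
  have hpol : ∀ u w, polar q' u w = T g₁ f₂ u w := fun u w => by
    have h := hT u w
    simp only [hq', T, tForm, Cfsg.Geo.formOfGram, Cfsg.Geo.gramMatrix, Matrix.kroneckerMap_apply, Finset.mul_sum,
      RingHom.id_apply, id] at h ⊢
    rw [show polar (Q.comp (psi e P)) u w = polar Q (psi e P u) (psi e P w) by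
      simp [QuadraticMap.polar, map_add], psi_apply, psi_apply, h]
    exact Finset.sum_congr rfl fun a _ => Finset.sum_congr rfl fun b _ => by simp only [hg₁]; ring
  have hnd' : (polarBilin q').Nondegenerate := nondeg_comp e P Q hnd
  refine isMaximalIn_of e P _ ?_ fun M h1' h2' => ?_
  · obtain ⟨g, hg, hgK⟩ := exists_outside (sym_smul h₁ hc) h₂ two hk hl hnd' hpol
    refine ⟨g, ?_, hgK⟩
    have h : g ∈ (Cfsg.Geo.omegaGL ⇑Q).comap (phi e P).toMonoidHom := by rw [comap_omegaGL]; exact hg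
    exact h
  · rw [comap_omegaGL] at h1' h2' ⊢
    exact orth_dichotomy (sym_smul h₁ hc) h₂ two hk hl hbig hsane hdiv hnd' hpol h1' h2'

end Cfsg.Agent.OTensor
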