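import Cfsg.Agent.Lib.OTensorRuler

/-!
Assembling the pure tensor of an element mapping a ruler plane to a ruler plane.
-/

set_option autoImplicit false
set_option linter.unusedSectionVars false

namespace Cfsg.Agent.OTensor

open scoped Matrix MatrixGroups Kronecker
open Cfsg.Agent.TensorMax

variable {F : Type*} [Field F] {k l : ℕ}
variable {f₁ : (Fin k → F) → (Fin k → F) → F} {f₂ : (Fin l → F) → (Fin l → F) → F}

namespace OC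

variable {M : Subgroup (GL (Fin k × Fin l) F)} (C : OC f₁ f₂ M) [Finite F] (hN : NoSkew f₁ f₂ M)
include C hN
variable {g : GL (Fin k × Fin l) F} (hg : g ∈ M) {a c a' c' a₁ c₁ a₁' c₁' : Fin l → F} (G : Frm f₂ a c a' c')
  (G₁ : Frm f₂ a₁ c₁ a₁' c₁') (hmap : ∀ p q : Fin k → F, ∃ p' q', lin g (tp p a + tp q c) = tp p' a₁ + tp q' c₁)
include hg G G₁ hmap

/-- The middle layer is mapped purely, too. -/
theorem middle_pure {α : (Fin k → F) →ₗ[F] (Fin k → F)} {p q r s : F} (hα : Function.Injective α)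
    (hdet : p * s - q * r ≠ 0) (ha : ∀ v, lin g (tp v a) = tp (α v) (p • a₁ + q • c₁)) :
    ∃ β₀ : (Fin l → F) →ₗ[F] (Fin l → F), ∀ v e, f₂ e a = 0 → f₂ e c = 0 → f₂ e a' = 0 → f₂ e c' = 0 →
      (f₂ (β₀ e) a₁ = 0 ∧ f₂ (β₀ e) c₁ = 0 ∧ f₂ (β₀ e) a₁' = 0 ∧ f₂ (β₀ e) c₁' = 0) ∧
        ∀ i, proj4 f₂ a₁ c₁ a₁' c₁' (fun j => lin g (tp v e) (i, j)) = α v i • β₀ e := by
  set x := s / (p * s - q * r) with hx
  set y := -r / (p * s - q * r) with hy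
  have hxy : p * x + q * y = 1 := by
    rw [hx, hy, ← mul_div_assoc, ← mul_div_assoc, ← add_div, div_eq_one_iff_eq hdet]; ring
  -- dual vectors of the images
  have hD : ∀ d, f₂ d a = 0 → f₂ d c = 0 → ∃ D : Fin l → F,
      (f₂ D a₁ = 0 ∧ f₂ D c₁ = 0 ∧ f₂ D a₁' = 0 ∧ f₂ D c₁' = 0) ∧
      ∀ u, Pf f₂ k a u = 0 → Pf f₂ k c u = 0 → α (Pf f₂ k d u) = Pf f₂ k D (lin g u) := by
    intro d d1 d2
    obtain ⟨D, D', hD, hD', heq⟩ := C.image_eq hN hg G G₁ hmap d1 d2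
    refine ⟨x • D + y • D', ?_, fun u u1 u2 => ?_⟩
    · simp [C.h₂.add_left, C.h₂.smul_left, hD.1, hD.2.1, hD.2.2.1, hD.2.2.2, hD'.1, hD'.2.1, hD'.2.2.1, hD'.2.2.2]
    · have e := congrArg (Pf f₂ k (x • a₁' + y • c₁')) (heq u u1 u2)
      rw [ha] at e
      simp only [map_add, Pf_tp C.h₂, C.h₂.add_left, C.h₂.add_right, C.h₂.smul_left, smul_right' C.h₂, G₁.ha.one,
        G₁.hc.one, G₁.ac', symm C.h₂ c₁ a₁', G₁.a'c, mul_one, mul_zero, add_zero, zero_add] at e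
      rw [show p * x + q * y = 1 from hxy, one_smul] at e
      rw [e, Pf_add C.h₂, Pf_smul C.h₂, Pf_smul C.h₂, RingHom.id_apply, RingHom.id_apply]
  -- these vectors span the middle layer
  have hsep : ∀ e₁, f₂ e₁ a₁ = 0 → f₂ e₁ c₁ = 0 → f₂ e₁ a₁' = 0 → f₂ e₁ c₁' = 0 →
      (∀ d D, f₂ d a = 0 → f₂ d c = 0 → f₂ d a' = 0 → f₂ d c' = 0 →
        (f₂ D a₁ = 0 ∧ f₂ D c₁ = 0 ∧ f₂ D a₁' = 0 ∧ f₂ D c₁' = 0) →
        (∀ u, Pf f₂ k a u = 0 → Pf f₂ k c u = 0 → α (Pf f₂ k d u) = Pf f₂ k D (lin g u)) → f₂ e₁ D = 0) → e₁ = 0 := by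
    intro e₁ e1 e2 e3 e4 h
    obtain ⟨v₀, hv₀⟩ : ∃ v₀ : Fin k → F, v₀ ≠ 0 := ⟨Pi.single ⟨0, by have := C.hk; omega⟩ 1, by simp⟩
    obtain ⟨u1, u2⟩ := (C.map_ker hg G G₁ hmap (lin g⁻¹ (tp v₀ e₁))).2 (by
      rw [lin_apply_inv, Pf_tp C.h₂, Pf_tp C.h₂, e1, e2, zero_smul]; exact ⟨rfl, rfl⟩)
    set u := lin g⁻¹ (tp v₀ e₁) with hu
    have hrow : ∀ i, proj4 f₂ a c a' c' (fun j => u (i, j)) = 0 := by
      intro i
      refine C.h₂.nd _ fun w => ?_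
      obtain ⟨w1, w2, w3, w4⟩ := proj4_perp C.h₂ G w
      obtain ⟨D, hDp, hDeq⟩ := hD _ w1 w2
      have h1 : Pf f₂ k (proj4 f₂ a c a' c' w) u = 0 := hα (by
        rw [hDeq u u1 u2, hu, lin_apply_inv, Pf_tp C.h₂, h _ D w1 w2 w3 w4 hDp hDeq, zero_smul, map_zero])
      have h2 := congrFun h1 i
      rw [Pf_apply C.h₂, Pi.zero_apply] at h2
      obtain ⟨r1, r2, r3, r4⟩ := proj4_perp C.h₂ G (fun j => u (i, j))
      rw [decomp4 C.h₂ G (fun j => u (i, j))] at h2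
      rw [decomp4 C.h₂ G w]
      simp only [C.h₂.add_left, C.h₂.smul_left, symm C.h₂ a (proj4 f₂ a c a' c' w),
        symm C.h₂ a' (proj4 f₂ a c a' c' w), symm C.h₂ c (proj4 f₂ a c a' c' w),
        symm C.h₂ c' (proj4 f₂ a c a' c' w), w1, w2, w3, w4] at h2
      simpa [C.h₂.add_right, smul_right' C.h₂, r1, r2, r3, r4] using h2
    have hu' : u = tp (Pf f₂ k a' u) a + tp (Pf f₂ k c' u) c := by
      conv_lhs => rw [decompT C.h₂ G u, u1, u2, tp_zero_left, tp_zero_left, add_zero, add_zero]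
      have : (fun p : Fin k × Fin l => proj4 f₂ a c a' c' (fun j => u (p.1, j)) p.2) = 0 :=
        funext fun p => by rw [hrow p.1]; rfl
      rw [this, add_zero]
    obtain ⟨p', q', hpq⟩ := hmap (Pf f₂ k a' u) (Pf f₂ k c' u)
    rw [← hu', hu, lin_apply_inv] at hpq
    refine C.h₂.nd _ fun w => ?_
    rw [decomp4 C.h₂ G₁ w]
    obtain ⟨i, hi⟩ := exists_vec hv₀
    obtain ⟨w1, w2, -, -⟩ := proj4_perp C.h₂ G₁ w
    have h1 := congrFun (congrArg (Pf f₂ k (proj4 f₂ a₁ c₁ a₁' c₁' w)) hpq) i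
    rw [map_add, Pf_tp C.h₂, Pf_tp C.h₂, Pf_tp C.h₂, symm C.h₂ a₁ (proj4 f₂ a₁ c₁ a₁' c₁' w), w1,
      symm C.h₂ c₁ (proj4 f₂ a₁ c₁ a₁' c₁' w), w2, zero_smul, zero_smul, add_zero, Pi.smul_apply, Pi.zero_apply,
      smul_eq_mul] at h1
    simp [C.h₂.add_right, smul_right' C.h₂, e1, e2, e3, e4, (mul_eq_zero.1 h1).resolve_right hi]
  obtain ⟨i₀, v₀, hv₀⟩ : ∃ (i₀ : Fin k) (v₀ : Fin k → F), α v₀ i₀ = 1 := by
    obtain ⟨v, hv⟩ := LinearMap.surjective_of_injective hα (Pi.single ⟨0, by have := C.hk; omega⟩ 1)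
    exact ⟨_, v, by rw [hv, Pi.single_eq_same]⟩
  let β₀ : (Fin l → F) →ₗ[F] (Fin l → F) :=
    { toFun := fun e => proj4 f₂ a₁ c₁ a₁' c₁' fun j => lin g (tp v₀ e) (i₀, j)
      map_add' := fun u w => by
        rw [← proj4_add C.h₂ G₁]
        congr 1
        funext j
        rw [tp_add_right, map_add]
        rfl
      map_smul' := fun t u => by
        rw [RingHom.id_apply, ← proj4_smul C.h₂ G₁]
        congr 1
        funext j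
        rw [tp_smul_right, map_smul]
        rfl }
  refine ⟨β₀, fun v e e1 e2 e3 e4 => ⟨proj4_perp C.h₂ G₁ _, fun i => ?_⟩⟩
  have hrowD : ∀ (v : Fin k → F) i d D, f₂ d a = 0 → f₂ d c = 0 →
      (f₂ D a₁ = 0 ∧ f₂ D c₁ = 0 ∧ f₂ D a₁' = 0 ∧ f₂ D c₁' = 0) →
      (∀ u, Pf f₂ k a u = 0 → Pf f₂ k c u = 0 → α (Pf f₂ k d u) = Pf f₂ k D (lin g u)) →
      f₂ (proj4 f₂ a₁ c₁ a₁' c₁' fun j => lin g (tp v e) (i, j)) D = f₂ e d * α v i := by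
    intro v i d D₁ _ _ hD₁ hD₁eq
    have hu1 : Pf f₂ k a (tp v e) = 0 := by rw [Pf_tp C.h₂, e1, zero_smul]
    have hu2 : Pf f₂ k c (tp v e) = 0 := by rw [Pf_tp C.h₂, e2, zero_smul]
    have h := congrFun (hD₁eq _ hu1 hu2) i
    rw [Pf_tp C.h₂, map_smul, Pi.smul_apply, smul_eq_mul, Pf_apply C.h₂] at h
    rw [h]
    conv_rhs => rw [decomp4 C.h₂ G₁ fun j => lin g (tp v e) (i, j)]
    simp [C.h₂.add_left, C.h₂.smul_left, symm C.h₂ a₁ D₁, symm C.h₂ c₁ D₁, symm C.h₂ a₁' D₁, symm C.h₂ c₁' D₁, hD₁.1,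
      hD₁.2.1, hD₁.2.2.1, hD₁.2.2.2]
  obtain ⟨p1, p2, p3, p4⟩ := proj4_perp C.h₂ G₁ (fun j => lin g (tp v e) (i, j))
  obtain ⟨q1, q2, q3, q4⟩ := proj4_perp C.h₂ G₁ (fun j => lin g (tp v₀ e) (i₀, j))
  refine sub_eq_zero.1 (hsep _ ?_ ?_ ?_ ?_ fun d D d1 d2 _ _ hDp hDeq => ?_)
  · rw [sub_left' C.h₂, C.h₂.smul_left]; show _ - _ * f₂ (β₀ e) a₁ = 0; rw [p1, show f₂ (β₀ e) a₁ = 0 from q1]; ring
  · rw [sub_left' C.h₂, C.h₂.smul_left]; show _ - _ * f₂ (β₀ e) c₁ = 0; rw [p2, show f₂ (β₀ e) c₁ = 0 from q2]; ring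
  · rw [sub_left' C.h₂, C.h₂.smul_left]; show _ - _ * f₂ (β₀ e) a₁' = 0; rw [p3, show f₂ (β₀ e) a₁' = 0 from q3]; ring
  · rw [sub_left' C.h₂, C.h₂.smul_left]; show _ - _ * f₂ (β₀ e) c₁' = 0; rw [p4, show f₂ (β₀ e) c₁' = 0 from q4]; ring
  rw [sub_left' C.h₂, C.h₂.smul_left, hrowD v i d D d1 d2 hDp hDeq,
    show f₂ (β₀ e) D = f₂ e d * α v₀ i₀ from hrowD v₀ i₀ d D d1 d2 hDp hDeq, hv₀]
  ring

end OC

end Cfsg.Agent.OTensor
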