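import Cfsg.Agent.Lib.OTensorKron

/-!
The ruler theorem: an element of an overgroup without skew root elements mapping a ruler plane to a ruler plane is a
pure tensor.
-/

set_option autoImplicit false
set_option linter.unusedSectionVars false

namespace Cfsg.Agent.OTensor

open scoped Matrix MatrixGroups Kronecker
open Cfsg.Agent.TensorMax

variable {F : Type*} [Field F] {k l : ℕ}
variable {f₁ : (Fin k → F) → (Fin k → F) → F} {f₂ : (Fin l → F) → (Fin l → F) → F}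

/-- A bijective operator as an invertible matrix. -/
noncomputable def ofInj {n : ℕ} (φ : Module.End F (Fin n → F)) (h : Function.Injective φ) : GL (Fin n) F :=
  ofPair φ ((LinearEquiv.ofBijective φ ⟨h, LinearMap.surjective_of_injective h⟩).symm : Module.End F (Fin n → F))
    (LinearMap.ext fun v => (LinearEquiv.ofBijective φ ⟨h, LinearMap.surjective_of_injective h⟩).apply_symm_apply v)
    (LinearMap.ext fun v => (LinearEquiv.ofBijective φ ⟨h, LinearMap.surjective_of_injective h⟩).symm_apply_apply v)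

theorem lin_ofInj {n : ℕ} (φ : Module.End F (Fin n → F)) (h : Function.Injective φ) : lin (ofInj φ h) = φ :=
  lin_ofPair _ _ _ _

theorem tauOp_comb (h₂ : Sym f₂) (a c : Fin l → F) (p q r s : F) :
    tauOp f₂ (p • a + q • c) (r • a + s • c) (1 : Module.End F (Fin k → F)) =
      (p * s - q * r) • tauOp f₂ a c 1 := by
  unfold tauOp
  simp only [SOp_add_left h₂, SOp_add_right h₂, SOp_smul_left h₂, SOp_smul_right h₂, RingHom.id_apply]
  module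

namespace OC

variable {M : Subgroup (GL (Fin k × Fin l) F)} (C : OC f₁ f₂ M) [Finite F] (hN : NoSkew f₁ f₂ M)
include C hN

/-- A conjugate in `M` of a central element is a conjugate of a root element. -/
theorem transfer {a c a' c' a₁ c₁ a₁' c₁' : Fin l → F} (G : Frm f₂ a c a' c') (G₁ : Frm f₂ a₁ c₁ a₁' c₁')
    {κ : GL (Fin k × Fin l) F} {x : F} (hκX : lin κ * tauOp f₂ a c 1 = x • (tauOp f₂ a₁ c₁ 1 * lin κ)) (hx : x ≠ 0)
    {z : GL (Fin k × Fin l) F} (hz : ∀ u, Pf f₂ k a u = 0 → Pf f₂ k c u = 0 → lin z u = u)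
    (hM : κ * z * κ⁻¹ ∈ M) : ∃ t : F, lin z - 1 = t • tauOp f₂ a c 1 := by
  have hfix : ∀ u, Pf f₂ k a₁ u = 0 → Pf f₂ k c₁ u = 0 → lin (κ * z * κ⁻¹) u = u := by
    intro u u1 u2
    have hk : tauOp f₂ a c (1 : Module.End F (Fin k → F)) (lin κ⁻¹ u) = 0 := by
      have e := LinearMap.congr_fun hκX (lin κ⁻¹ u)
      rw [Module.End.mul_apply, LinearMap.smul_apply, Module.End.mul_apply, lin_apply_inv,
        (kerX_iff C.h₂ G₁ u).2 ⟨u1, u2⟩, smul_zero] at e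
      rw [← lin_inv_apply κ (tauOp f₂ a c 1 (lin κ⁻¹ u)), e, map_zero]
    obtain ⟨z1, z2⟩ := (kerX_iff C.h₂ G _).1 hk
    rw [map_mul, map_mul, Module.End.mul_apply, Module.End.mul_apply, hz _ z1 z2, lin_apply_inv]
  obtain ⟨t, ht⟩ := C.central_mem_scalar hN G₁ (central_of_fix C.h₁ C.h₂ G₁ (C.le hM) hfix)
    (el_iff.2 ⟨_, hM, by abel⟩)
  refine ⟨t * x⁻¹, LinearMap.ext fun u => ?_⟩
  have e := LinearMap.congr_fun ht (lin κ u)
  rw [map_mul, map_mul, LinearMap.sub_apply, Module.End.one_apply, Module.End.mul_apply, Module.End.mul_apply,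
    lin_inv_apply, LinearMap.smul_apply] at e
  have e' := LinearMap.congr_fun hκX u
  rw [Module.End.mul_apply, LinearMap.smul_apply, Module.End.mul_apply] at e'
  rw [LinearMap.sub_apply, Module.End.one_apply, LinearMap.smul_apply, ← lin_inv_apply κ (lin z u - u), map_sub (lin κ), e,
    ← lin_inv_apply κ (tauOp f₂ a c 1 u), e']
  simp only [map_smul, smul_smul]
  congr 1
  field_simp

variable {g : GL (Fin k × Fin l) F} (hg : g ∈ M) {a c a' c' a₁ c₁ a₁' c₁' : Fin l → F} (G : Frm f₂ a c a' c')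
  (G₁ : Frm f₂ a₁ c₁ a₁' c₁') (hmap : ∀ p q : Fin k → F, ∃ p' q', lin g (tp p a + tp q c) = tp p' a₁ + tp q' c₁)
include hg G G₁ hmap

/-- The ruler theorem. -/
theorem ruler_kron : g ∈ Cfsg.Geo.kroneckerSubgroup k l F := by
  classical
  obtain ⟨α, p, q, r, s, hα, hdet, ha, hc⟩ := C.plane_pure hN hg G G₁ hmap
  obtain ⟨β₀, hβ₀⟩ := C.middle_pure hN hg G G₁ hmap hα hdet ha
  -- the middle layer
  have hge : ∀ v e, f₂ e a = 0 → f₂ e c = 0 → f₂ e a' = 0 → f₂ e c' = 0 → ∃ x y : Fin k → F,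
      lin g (tp v e) = tp x a₁ + tp y c₁ + tp (α v) (β₀ e) := by
    intro v e e1 e2 e3 e4
    obtain ⟨z1, z2⟩ := (C.map_ker hg G G₁ hmap (tp v e)).1 (by simp [Pf_tp C.h₂, e1, e2])
    refine ⟨Pf f₂ k a₁' (lin g (tp v e)), Pf f₂ k c₁' (lin g (tp v e)), ?_⟩
    conv_lhs => rw [decompT C.h₂ G₁ (lin g (tp v e)), z1, z2, tp_zero_left, tp_zero_left, add_zero, add_zero]
    congr 1
    funext z
    rw [(hβ₀ v e e1 e2 e3 e4).2 z.1]
    simp [tp]
  have hTg : ∀ v w e e', f₂ e a = 0 → f₂ e c = 0 → f₂ e a' = 0 → f₂ e c' = 0 →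
      f₂ e' a = 0 → f₂ e' c = 0 → f₂ e' a' = 0 → f₂ e' c' = 0 →
      f₁ (α v) (α w) * f₂ (β₀ e) (β₀ e') = f₁ v w * f₂ e e' := by
    intro v w e e' e1 e2 e3 e4 d1 d2 d3 d4
    obtain ⟨x, y, hxy⟩ := hge v e e1 e2 e3 e4
    obtain ⟨x', y', hxy'⟩ := hge w e' d1 d2 d3 d4
    obtain ⟨⟨p1, p2, -, -⟩, -⟩ := hβ₀ v e e1 e2 e3 e4
    obtain ⟨⟨q1, q2, -, -⟩, -⟩ := hβ₀ w e' d1 d2 d3 d4
    have h := C.le hg (tp v e) (tp w e')
    rw [hxy, hxy'] at h
    simp only [T_add_left, T_add_right', T_tp C.h₁ C.h₂, G₁.ha.ee, G₁.hc.ee, G₁.ac, symm C.h₂ c₁ a₁, p1, p2,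
      symm C.h₂ a₁ (β₀ e'), symm C.h₂ c₁ (β₀ e'), q1, q2] at h
    linear_combination h
  obtain ⟨e₀, n1, n3, n2, n4, n5⟩ := exists_aniso_four C.h₂ C.two C.hl G.ha G.hc
    (by rw [symm C.h₂, G.ac]) (by rw [symm C.h₂, G.a'c]) (by rw [symm C.h₂, G.ac']) (by rw [symm C.h₂, G.a'c'])
  obtain ⟨v₁, w₁, hvw⟩ : ∃ v w, f₁ v w ≠ 0 := by
    have hv : (Pi.single ⟨0, by have := C.hk; omega⟩ 1 : Fin k → F) ≠ 0 := by simp
    by_contra! h
    exact hv (C.h₁.nd _ fun w => h _ w)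
  set ν := f₂ (β₀ e₀) (β₀ e₀) / f₂ e₀ e₀ with hνdef
  have hν : ν ≠ 0 := div_ne_zero (fun h0 => by
    have h := hTg v₁ w₁ e₀ e₀ n1 n2 n3 n4 n1 n2 n3 n4
    rw [h0, mul_zero] at h
    exact mul_ne_zero hvw n5 h.symm) n5
  have hαf : ∀ v w, f₁ (α v) (α w) = ν⁻¹ * f₁ v w := fun v w => by
    have h := hTg v w e₀ e₀ n1 n2 n3 n4 n1 n2 n3 n4
    rw [show f₂ (β₀ e₀) (β₀ e₀) = ν * f₂ e₀ e₀ by rw [hνdef, div_mul_cancel₀ _ n5], ← mul_assoc] at h
    rw [eq_inv_mul_iff_mul_eq₀ hν, mul_comm]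
    exact mul_right_cancel₀ n5 h
  have hβf : ∀ e e', f₂ e a = 0 → f₂ e c = 0 → f₂ e a' = 0 → f₂ e c' = 0 →
      f₂ e' a = 0 → f₂ e' c = 0 → f₂ e' a' = 0 → f₂ e' c' = 0 → f₂ (β₀ e) (β₀ e') = ν * f₂ e e' := by
    intro e e' e1 e2 e3 e4 d1 d2 d3 d4
    have h := hTg v₁ w₁ e e' e1 e2 e3 e4 d1 d2 d3 d4
    rw [hαf, mul_assoc, inv_mul_eq_iff_eq_mul₀ hν] at h
    exact mul_left_cancel₀ hvw (by linear_combination h)
  -- the similitude of the second factor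
  set b := p • a₁ + q • c₁ with hb
  set bc := r • a₁ + s • c₁ with hbc
  set ya := (ν / (p * s - q * r)) • (s • a₁' - r • c₁') with hya
  set yc := (ν / (p * s - q * r)) • (p • c₁' - q • a₁') with hyc
  have hp4lin : ∀ u w, proj4 f₂ a c a' c' (u + w) = proj4 f₂ a c a' c' u + proj4 f₂ a c a' c' w :=
    proj4_add C.h₂ G
  let β : (Fin l → F) →ₗ[F] (Fin l → F) :=
    { toFun := fun w => f₂ w a' • b + f₂ w a • ya + (f₂ w c' • bc + f₂ w c • yc) + β₀ (proj4 f₂ a c a' c' w)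
      map_add' := fun u w => by
        rw [hp4lin, map_add, C.h₂.add_left, C.h₂.add_left, C.h₂.add_left, C.h₂.add_left]; module
      map_smul' := fun t u => by
        rw [proj4_smul C.h₂ G, map_smul, C.h₂.smul_left, C.h₂.smul_left, C.h₂.smul_left, C.h₂.smul_left,
          RingHom.id_apply]
        module }
  have hβapply : ∀ w, β w = f₂ w a' • b + f₂ w a • ya + (f₂ w c' • bc + f₂ w c • yc) + β₀ (proj4 f₂ a c a' c' w) :=
    fun w => rfl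
  have e1' : f₂ a₁' a₁ = 1 := by rw [symm C.h₂, G₁.ha.one]
  have e2' : f₂ c₁' c₁ = 1 := by rw [symm C.h₂, G₁.hc.one]
  have hβsim : ∀ u w, f₂ (β u) (β w) = ν * f₂ u w := by
    intro u w
    obtain ⟨u1, u2, u3, u4⟩ := proj4_perp C.h₂ G u
    obtain ⟨w1, w2, w3, w4⟩ := proj4_perp C.h₂ G w
    obtain ⟨⟨s1, s2, s3, s4⟩, -⟩ := hβ₀ v₁ _ u1 u2 u3 u4
    obtain ⟨⟨t1, t2, t3, t4⟩, -⟩ := hβ₀ v₁ _ w1 w2 w3 w4
    have hh := hβf _ _ u1 u2 u3 u4 w1 w2 w3 w4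
    conv_rhs => rw [decomp4 C.h₂ G u, decomp4 C.h₂ G w]
    rw [hβapply, hβapply]
    simp only [hb, hbc, hya, hyc, C.h₂.add_left, C.h₂.add_right, C.h₂.smul_left, smul_right' C.h₂, sub_left' C.h₂,
      C.h₂.sub_right, G₁.ha.ee, G₁.ha.ee', G₁.ha.one, G₁.hc.ee, G₁.hc.ee', G₁.hc.one, G₁.ac, G₁.ac', G₁.a'c,
      G₁.a'c', symm C.h₂ c₁ a₁, symm C.h₂ c₁' a₁, symm C.h₂ c₁ a₁', symm C.h₂ c₁' a₁', e1', e2',
      symm C.h₂ a₁ (β₀ _), symm C.h₂ c₁ (β₀ _), symm C.h₂ a₁' (β₀ _), symm C.h₂ c₁' (β₀ _), s1, s2, s3, s4, t1, t2,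
      t3, t4, G.ha.ee, G.ha.ee', G.ha.one, G.hc.ee, G.hc.ee', G.hc.one, G.ac, G.ac', G.a'c, G.a'c', symm C.h₂ c a,
      symm C.h₂ c' a, symm C.h₂ c a', symm C.h₂ c' a', symm C.h₂ a' a, symm C.h₂ c' c,
      symm C.h₂ a (proj4 f₂ a c a' c' w), symm C.h₂ c (proj4 f₂ a c a' c' w), symm C.h₂ a' (proj4 f₂ a c a' c' w),
      symm C.h₂ c' (proj4 f₂ a c a' c' w), u1, u2, u3, u4, w1, w2, w3, w4, hh]
    have hD : (ν / (p * s - q * r)) * (p * s - q * r) = ν := div_mul_cancel₀ _ hdet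
    linear_combination (f₂ u a' * f₂ w a + f₂ u a * f₂ w a' + f₂ u c' * f₂ w c + f₂ u c * f₂ w c') * hD
  have hβinj : Function.Injective β := by
    rw [← LinearMap.ker_eq_bot, LinearMap.ker_eq_bot']
    intro u hu
    refine C.h₂.nd u fun w => ?_
    have h := hβsim u w
    rw [hu, C.h₂.zero_left] at h
    exact (mul_eq_zero.1 h.symm).resolve_left hν
  set αg := ofInj α hα
  set βg := ofInj β hβinj
  set k₀ := kr αg βg with hk₀
  have hk₀K : k₀ ∈ Cfsg.Geo.kroneckerSubgroup k l F := kr_mem _ _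
  have hk₀I : k₀ ∈ isoT f₁ f₂ := isoT_kr C.h₁ C.h₂ (inv_mul_cancel₀ hν) (fun v w => by rw [lin_ofInj]; exact hαf v w)
    (fun v w => by rw [lin_ofInj]; exact hβsim v w)
  have hk₀tp : ∀ v x, lin k₀ (tp v x) = tp (α v) (β x) := fun v x => by
    rw [hk₀, lin_kr_tp, lin_ofInj, lin_ofInj]
  have hpz : ∀ x, f₂ x a = 0 → f₂ x c = 0 → f₂ x a' = 0 → f₂ x c' = 0 → β x = β₀ x := fun x x1 x2 x3 x4 => by
    rw [hβapply, x1, x2, x3, x4, proj4_self C.h₂ G x1 x2 x3 x4]; simp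
  have hβa : β a = b ∧ β c = bc := by
    have pa : proj4 f₂ a c a' c' a = 0 := by
      simp [proj4, proj0, G.ha.ee, G.ha.one, G.ac, G.ac', C.h₂.zero_left]
    have pc : proj4 f₂ a c a' c' c = 0 := by
      simp [proj4, proj0, G.hc.ee, G.hc.one, symm C.h₂ c a, symm C.h₂ c a', G.ac, G.a'c, C.h₂.zero_left]
    constructor
    · rw [hβapply, pa, map_zero, G.ha.one, G.ha.ee, G.ac', G.ac]; simp
    · rw [hβapply, pc, map_zero, symm C.h₂ c a', G.a'c, symm C.h₂ c a, G.ac, G.hc.ee, G.hc.one]; simp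
  have hgP : ∀ x y : Fin k → F, lin g (tp x a + tp y c) = lin k₀ (tp x a + tp y c) := fun x y => by
    rw [map_add, map_add, ha, hc, hk₀tp, hk₀tp, hβa.1, hβa.2]
  set w := k₀⁻¹ * g with hw
  have hwI : w ∈ isoT f₁ f₂ := (isoT f₁ f₂).mul_mem ((isoT f₁ f₂).inv_mem hk₀I) (C.le hg)
  have hwv : ∀ u, lin w u = lin k₀⁻¹ (lin g u) := fun u => by rw [hw, map_mul]; rfl
  have fwP : ∀ x y : Fin k → F, lin w (tp x a + tp y c) = tp x a + tp y c := fun x y => by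
    rw [hwv, hgP, lin_inv_apply]
  have fw : Flag f₂ a c w := by
    refine ⟨fwP, fun u u1 u2 => ?_⟩
    have hone : ∀ (x : Fin k → F) z, ∃ x' y' : Fin k → F,
        lin w (tp x (proj4 f₂ a c a' c' z)) - tp x (proj4 f₂ a c a' c' z) = tp x' a + tp y' c := by
      intro x z
      obtain ⟨z1, z2, z3, z4⟩ := proj4_perp C.h₂ G z
      obtain ⟨x₁, y₁, hxy⟩ := hge x _ z1 z2 z3 z4
      obtain ⟨x', y', hxy'⟩ := C.map_onto hg G G₁ hmap x₁ y₁
      refine ⟨x', y', ?_⟩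
      rw [hwv, hxy, map_add, ← hxy', hgP, lin_inv_apply, ← hpz _ z1 z2 z3 z4, ← hk₀tp, lin_inv_apply,
        add_sub_cancel_right]
    let P0 : Submodule F (Fin k × Fin l → F) :=
      LinearMap.range ((J a).comp (LinearMap.fst F (Fin k → F) (Fin k → F)) +
        (J c).comp (LinearMap.snd F (Fin k → F) (Fin k → F)))
    have hmemP : ∀ z, z ∈ P0 → ∃ x y : Fin k → F, z = tp x a + tp y c := by
      rintro _ ⟨⟨x, y⟩, rfl⟩
      exact ⟨x, y, by simp [J_apply]⟩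
    refine hmemP _ ?_
    have e := proj4_zero_rows C.h₂ G u (lin w - 1) (fun x y => sub_eq_zero.2 (fwP x y)) u1 u2
    rw [LinearMap.sub_apply, Module.End.one_apply] at e
    rw [e]
    refine P0.sum_mem fun i _ => ?_
    obtain ⟨x', y', hxy'⟩ := hone (Pi.single i 1) (fun j => u (i, j))
    rw [LinearMap.sub_apply, Module.End.one_apply, hxy']
    exact ⟨(x', y'), by simp [J_apply]⟩
  have hk₀X : lin k₀ * tauOp f₂ a c 1 = (ν⁻¹ * (p * s - q * r)) • (tauOp f₂ a₁ c₁ 1 * lin k₀) := by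
    have hβg : ∀ v w, f₂ (lin βg v) (lin βg w) = ν * f₂ v w := fun v w => by rw [lin_ofInj]; exact hβsim v w
    rw [tauOp, mul_sub, hk₀, conj_SOp C.h₂ hν hβg, conj_SOp C.h₂ hν hβg, mul_one, ← map_mul, mul_inv_cancel, map_one,
      lin_ofInj, hβa.1, hβa.2, ← sub_mul, ← smul_mul_assoc]
    congr 1
    rw [mul_smul, ← tauOp_comb C.h₂, ← hb, ← hbc, tauOp]
    module
  have hx0 : ν⁻¹ * (p * s - q * r) ≠ 0 := mul_ne_zero (inv_ne_zero hν) hdet
  obtain ⟨fA, fB, fC⟩ := fw.prod C.h₁ C.h₂ G hwI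
  have hsc : ∀ d, f₂ d a = 0 → f₂ d c = 0 → f₂ d a' = 0 → f₂ d c' = 0 →
      ∃ x y : F, ∀ v, (lin w - 1) (tp v d) = x • tp v a + y • tp v c := fun d d1 d2 d3 d4 => by
    refine flag_scalar C.h₁ C.h₂ G C.two hwI fw (fun e d hea hd he d1 d2 _ _ => ?_) d1 d2 d3 d4
    set n := kr (1 : GL (Fin k) F) (sieGL C.h₂ C.two he hd) with hn
    have hnM : n ∈ M := C.sie_mem he hd
    have fn := sie_flag C.h₁ C.h₂ G C.two hea he hd d1 d2
    have hcomm := lin_commutator C.h₁ C.h₂ G hwI (C.le hnM) fw fn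
    obtain ⟨nA, nB, nC⟩ := fn.prod C.h₁ C.h₂ G (C.le hnM)
    have hzfix : ∀ u, Pf f₂ k a u = 0 → Pf f₂ k c u = 0 → lin (w * n * w⁻¹ * n⁻¹) u = u := fun u u1 u2 => by
      obtain ⟨x, y, hxy⟩ := nB u u1 u2
      obtain ⟨x', y', hxy'⟩ := fB u u1 u2
      rw [hcomm, LinearMap.add_apply, Module.End.one_apply, LinearMap.sub_apply, Module.End.mul_apply,
        Module.End.mul_apply, hxy, hxy', fC, nC, sub_zero, add_zero]
    obtain ⟨t, ht⟩ := C.transfer hN G G₁ hk₀X hx0 hzfix (by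
      rw [show k₀ * (w * n * w⁻¹ * n⁻¹) * k₀⁻¹ = g * n * g⁻¹ * (k₀ * n⁻¹ * k₀⁻¹) by rw [hw]; group]
      exact M.mul_mem (M.mul_mem (M.mul_mem hg hnM) (M.inv_mem hg))
        (C.kconj k₀ hk₀K hk₀I _ (M.inv_mem hnM) (Subgroup.inv_mem _ (kr_mem _ _))))
    exact ⟨t, by rw [← ht, hcomm, add_sub_cancel_left]⟩
  obtain ⟨D, D', ⟨Da, Dc, -, -⟩, ⟨D'a, D'c, -, -⟩, hrep⟩ := C.flag_rep G (lin w - 1) fC hsc
  set na := kr (1 : GL (Fin k) F) (sieGL C.h₂ C.two G.ha.ee Da) with hna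
  set nc := kr (1 : GL (Fin k) F) (sieGL C.h₂ C.two G.hc.ee D'c) with hnc
  set u₀ := na * nc with hu₀
  have hu₀K : u₀ ∈ Cfsg.Geo.kroneckerSubgroup k l F := Subgroup.mul_mem _ (kr_mem _ _) (kr_mem _ _)
  have hu₀M : u₀ ∈ M := M.mul_mem (C.sie_mem G.ha.ee Da) (C.sie_mem G.hc.ee D'c)
  have fa := sie_flag C.h₁ C.h₂ G C.two (Or.inl rfl) G.ha.ee Da Da Dc
  have fc := sie_flag C.h₁ C.h₂ G C.two (Or.inr rfl) G.hc.ee D'c D'a D'c
  have hu₀P : ∀ x y : Fin k → F, lin u₀ (tp x a + tp y c) = tp x a + tp y c := fun x y => by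
    rw [hu₀, map_mul, Module.End.mul_apply, hnc, fc.1, hna, fa.1]
  have hu₀k : ∀ u, Pf f₂ k a u = 0 → Pf f₂ k c u = 0 → lin u₀ u = lin w u := fun u u1 u2 => by
    have hr := hrep u u1 u2
    rw [LinearMap.sub_apply, Module.End.one_apply, sub_eq_iff_eq_add] at hr
    have ec : lin nc u = u + tp (Pf f₂ k D' u) c := by
      rw [hnc, lin_kr_sie C.h₂ C.two G.hc.ee D'c]; simp [tauOp, SOp_apply, u2, tp_zero_left]
    have ea : lin na u = u + tp (Pf f₂ k D u) a := by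
      rw [hna, lin_kr_sie C.h₂ C.two G.ha.ee Da]; simp [tauOp, SOp_apply, u1, tp_zero_left]
    have e0 : lin na (tp (Pf f₂ k D' u) c) = tp (Pf f₂ k D' u) c := by
      simpa [tp_zero_left] using fa.1 0 (Pf f₂ k D' u)
    rw [hu₀, map_mul, Module.End.mul_apply, ec, map_add, ea, e0, hr]
    abel
  set w' := u₀⁻¹ * w with hw'
  have hw'fix : ∀ u, Pf f₂ k a u = 0 → Pf f₂ k c u = 0 → lin w' u = u := fun u u1 u2 => by
    rw [hw', map_mul, Module.End.mul_apply, ← hu₀k u u1 u2, lin_inv_apply]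
  have hw'I : w' ∈ isoT f₁ f₂ := (isoT f₁ f₂).mul_mem ((isoT f₁ f₂).inv_mem (C.le hu₀M)) hwI
  set Λ := lin w' - 1 with hΛ
  have hcen : Central f₁ f₂ a c Λ := central_of_fix C.h₁ C.h₂ G hw'I hw'fix
  set κ := k₀ * u₀ with hκ
  have hκK : κ ∈ Cfsg.Geo.kroneckerSubgroup k l F := Subgroup.mul_mem _ hk₀K hu₀K
  have hκI : κ ∈ isoT f₁ f₂ := (isoT f₁ f₂).mul_mem hk₀I (C.le hu₀M)
  have hu₀X : lin u₀ * tauOp f₂ a c 1 = tauOp f₂ a c 1 * lin u₀ := by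
    refine LinearMap.ext fun u => ?_
    rw [Module.End.mul_apply, Module.End.mul_apply]
    obtain ⟨x, y, hxy⟩ := (rangeX_iff C.h₂ G _).1 ⟨u, rfl⟩
    rw [hxy, hu₀P, ← hxy]
    have hfu : Flag f₂ a c u₀ := ⟨hu₀P, fun z z1 z2 => by
      obtain ⟨x', y', h'⟩ := fw.2 z z1 z2
      exact ⟨x', y', by rw [hu₀k z z1 z2, h']⟩⟩
    obtain ⟨z1, z2⟩ := flag_defect C.h₁ C.h₂ G (C.le hu₀M) hfu u
    have h0 := (kerX_iff C.h₂ G _).2 ⟨z1, z2⟩
    rw [map_sub, sub_eq_zero] at h0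
    exact h0.symm
  have hκX : lin κ * tauOp f₂ a c 1 = (ν⁻¹ * (p * s - q * r)) • (tauOp f₂ a₁ c₁ 1 * lin κ) := by
    rw [hκ, map_mul, mul_assoc, hu₀X, ← mul_assoc, hk₀X, smul_mul_assoc, mul_assoc]
  clear_value Λ
  obtain ⟨t, ht⟩ := C.central_scalar hN G hcen fun h hh hhK hX => by
    have hgk : g = κ * w' := by rw [hκ, hw', hw]; group
    have hinv : lin w'⁻¹ = 1 - Λ := by
      rw [lin_eq]
      refine El.lin_inv w' ?_ (hcen.mul_eq_zero C.h₂ G.ha.ee G.hc.ee G.ac hcen)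
      rw [← lin_eq, hΛ, add_sub_cancel]
    have hc' := hcen.conj (C.le hh) hX
    have hz : lin (w' * h * w'⁻¹ * h⁻¹) = 1 + (Λ - lin h * Λ * lin h⁻¹) := by
      have e1 : lin h * (1 - Λ) * lin h⁻¹ = 1 - lin h * Λ * lin h⁻¹ := by
        rw [mul_sub, mul_one, sub_mul, ← map_mul, mul_inv_cancel, map_one]
      rw [map_mul, map_mul, map_mul, hinv, mul_assoc (lin w'), mul_assoc (lin w'), e1,
        show lin w' = 1 + Λ by rw [hΛ, add_sub_cancel], add_mul, one_mul, mul_sub, mul_one,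
        hcen.mul_eq_zero C.h₂ G.ha.ee G.hc.ee G.ac hc', sub_zero]
      abel
    obtain ⟨t, ht⟩ := C.transfer hN G G₁ hκX hx0 (z := w' * h * w'⁻¹ * h⁻¹) (fun u u1 u2 => by
        have hu := (kerX_iff C.h₂ G u).2 ⟨u1, u2⟩
        rw [hz, LinearMap.add_apply, Module.End.one_apply, LinearMap.sub_apply, hcen.1 u hu, hc'.1 u hu, sub_zero,
          add_zero]) (by
      rw [show κ * (w' * h * w'⁻¹ * h⁻¹) * κ⁻¹ = g * h * g⁻¹ * (κ * h⁻¹ * κ⁻¹) by rw [hgk]; group]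
      exact M.mul_mem (M.mul_mem (M.mul_mem hg hh) (M.inv_mem hg))
        (C.kconj κ hκK hκI _ (M.inv_mem hh) (Subgroup.inv_mem _ hhK)))
    rw [hz, add_sub_cancel_left] at ht
    obtain ⟨gx, hgx, -, hgxe⟩ := C.root_mem G (-t)
    refine el_iff.2 ⟨gx, hgx, ?_⟩
    rw [hgxe, show lin h * Λ * lin h⁻¹ - Λ = -(Λ - lin h * Λ * lin h⁻¹) by abel, ht, El.smul_neg_left]
  obtain ⟨gx, -, hgxK, hgxe⟩ := C.root_mem G t
  have hw'x : w' = gx := lin_injective (by rw [hgxe, ← ht, hΛ, add_sub_cancel])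
  rw [show g = κ * w' by rw [hκ, hw', hw]; group, hw'x]
  exact Subgroup.mul_mem _ hκK hgxK

end OC

end Cfsg.Agent.OTensor
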