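import Cfsg.Agent.Lib.OTensorClassify

/-!
An overgroup of a tensor product of two orthogonal groups without skew root elements lies in the stabiliser of the
tensor decomposition.
-/

set_option autoImplicit false
set_option linter.unusedSectionVars false

namespace Cfsg.Agent.OTensor

open scoped Matrix MatrixGroups Kronecker
open Cfsg.Agent.TensorMax

variable {F : Type*} [Field F] {k l : ℕ}
variable {f₁ : (Fin k → F) → (Fin k → F) → F} {f₂ : (Fin l → F) → (Fin l → F) → F}

/-- The tensor form as a bilinear form. -/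
def bT (f₁ : (Fin k → F) → (Fin k → F) → F) (f₂ : (Fin l → F) → (Fin l → F) → F) :
    LinearMap.BilinForm F (Fin k × Fin l → F) :=
  LinearMap.mk₂ F (T f₁ f₂) T_add_left (fun c u w => by rw [T_smul_left, smul_eq_mul])
    (fun u w w' => tForm_add_right u w w') (fun c u w => by rw [T_smul_right, smul_eq_mul])

theorem bT_apply (u w : Fin k × Fin l → F) : bT f₁ f₂ u w = T f₁ f₂ u w := rfl

theorem mem_span_pair_of_row {a c b : Fin l → F} {x p q : Fin k → F} (hx : x ≠ 0)
    (h : tp x b = tp p a + tp q c) : ∃ r s : F, b = r • a + s • c := by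
  obtain ⟨i, hi⟩ := exists_vec hx
  refine ⟨(x i)⁻¹ * p i, (x i)⁻¹ * q i, funext fun j => ?_⟩
  have e := congrFun h (i, j)
  simp only [tp, Pi.add_apply] at e
  simp only [Pi.add_apply, Pi.smul_apply, smul_eq_mul]
  field_simp
  linear_combination e

theorem exists_vec_ne (hk : 0 < k) : ∃ x : Fin k → F, x ≠ 0 := ⟨Pi.single ⟨0, hk⟩ 1, by simp⟩

theorem finrank_rangeX (h₂ : Sym f₂) {a c a' c' : Fin l → F} (G : Frm f₂ a c a' c') :
    Module.finrank F (LinearMap.range (tauOp f₂ a c (1 : Module.End F (Fin k → F)))) = 2 * k := by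
  let Φ := tsum (k := k) ![a, c]
  have hΦ : LinearMap.range (tauOp f₂ a c (1 : Module.End F (Fin k → F))) = LinearMap.range Φ := by
    refine Submodule.ext fun u => ⟨fun ⟨w, hw⟩ => ?_, fun ⟨v, hv⟩ => ?_⟩
    · obtain ⟨p, q, hpq⟩ := (rangeX_iff h₂ G u).1 ⟨w, hw.symm⟩
      exact ⟨![p, q], by rw [hpq, tsum_apply, Fin.sum_univ_two]; rfl⟩
    · obtain ⟨w, hw⟩ := (rangeX_iff h₂ G u).2 ⟨v 0, v 1, by rw [← hv, tsum_apply, Fin.sum_univ_two]; rfl⟩
      exact ⟨w, hw.symm⟩
  have hinj : Function.Injective Φ := by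
    rw [← LinearMap.ker_eq_bot, LinearMap.ker_eq_bot']
    intro v hv
    rw [tsum_apply, Fin.sum_univ_two] at hv
    have e1 := congrArg (Pf f₂ k a') hv
    have e2 := congrArg (Pf f₂ k c') hv
    simp only [Matrix.cons_val_zero, Matrix.cons_val_one, map_add, map_zero, Pf_tp h₂, G.ha.one, G.hc.one, G.ac',
      symm h₂ c a', G.a'c, one_smul, zero_smul, add_zero, zero_add] at e1 e2
    funext i
    fin_cases i
    · simpa using e1
    · simpa using e2
  rw [hΦ, LinearMap.finrank_range_of_inj hinj, Module.finrank_pi_fintype]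
  simp

theorem exists_base (h₂ : Sym f₂) [Finite F] (h2 : (2 : F) ≠ 0) (hl : 5 ≤ l) :
    ∃ a c a' c', Frm f₂ a c a' c' := by
  obtain ⟨a, ha, haa⟩ := exists_singular h₂ (show 3 ≤ l by omega)
  obtain ⟨a', ha', h1⟩ := exists_partner h₂ h2 ha haa
  obtain ⟨c, hc, hcc, hcv⟩ := exists_singular_perp h₂ (show 2 + 3 ≤ l by omega) ![a, a']
  have c1 : f₂ c a = 0 := hcv 0
  have c2 : f₂ c a' = 0 := hcv 1
  obtain ⟨x, y, G⟩ := exists_frame h₂ h2 ha haa hcc (by rw [symm h₂, c1]) fun t ht => by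
    rw [ht, h₂.smul_left, h1, mul_one] at c2
    exact hc (by rw [ht, c2, zero_smul])
  exact ⟨a, c, x, y, G⟩

/-- A perpendicular bound. -/
theorem finrank_sum_le (h₂ : Sym f₂) (E W : Submodule F (Fin l → F)) (h : ∀ e ∈ E, ∀ w ∈ W, f₂ e w = 0) :
    Module.finrank F E + Module.finrank F W ≤ l := by
  have hinj : Function.Injective (bl h₂).flip := by
    rw [← LinearMap.ker_eq_bot, LinearMap.ker_eq_bot']
    intro z hz
    refine h₂.nd z fun w => ?_
    have := LinearMap.congr_fun hz w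
    rw [symm h₂]
    simpa [bl_apply] using this
  have hle : W.map (bl h₂).flip ≤ E.dualAnnihilator := by
    rintro _ ⟨w, hw, rfl⟩
    rw [Submodule.mem_dualAnnihilator]
    exact fun e he => h e he w hw
  have h1 := Submodule.finrank_mono hle
  rw [← (Submodule.equivMapOfInjective _ hinj W).finrank_eq] at h1
  have h2 := Subspace.finrank_add_finrank_dualAnnihilator_eq E
  rw [Module.finrank_fin_fun] at h2
  change _ ≤ Module.finrank F E.dualAnnihilator at h1
  omega

/-- Choice of a singular pair meeting a small space trivially. -/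
theorem exists_far_pair (h₂ : Sym f₂) [Finite F] (h2 : (2 : F) ≠ 0) (hl : 5 ≤ l) (D : Submodule F (Fin l → F))
    (hd : 3 ≤ Module.finrank F D) :
    ∃ a c a' c', Frm f₂ a c a' c' ∧ 5 ≤ Module.finrank F ↥(D ⊔ Submodule.span F {a, c}) := by
  obtain ⟨a₀, c₀, x₀, y₀, G₀⟩ := exists_base h₂ h2 hl
  by_cases h5 : 5 ≤ Module.finrank F D
  · exact ⟨a₀, c₀, x₀, y₀, G₀, h5.trans (Submodule.finrank_mono le_sup_left)⟩
  have ha₀ := G₀.ha.ne h₂
  have hsup : ∀ (S : Submodule F (Fin l → F)) (z : Fin l → F), z ∉ S →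
      Module.finrank F S + 1 ≤ Module.finrank F ↥(S ⊔ Submodule.span F {z}) := fun S z hz =>
    Submodule.finrank_lt_finrank_of_lt (lt_of_le_of_ne le_sup_left fun he =>
      hz (he ▸ Submodule.mem_sup_right (Submodule.mem_span_singleton_self z)))
  let Dp : Submodule F (Fin l → F) :=
    { carrier := {z | ∀ d ∈ D, f₂ z d = 0}
      zero_mem' := fun d _ => h₂.zero_left d
      add_mem' := fun {u w} hu hw d hd => by rw [h₂.add_left, hu d hd, hw d hd, add_zero]
      smul_mem' := fun s u hu d hd => by rw [h₂.smul_left, hu d hd, mul_zero] }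
  obtain ⟨a, haa, haD, haP⟩ : ∃ a, f₂ a a = 0 ∧ a ∉ D ∧ a ∉ Dp := by
    by_contra! hc
    obtain ⟨a1, e1, f1⟩ : ∃ a1, f₂ a1 a1 = 0 ∧ a1 ∉ D := by
      by_contra! h
      have : D = ⊤ := eq_top_iff.2 fun w _ => mem_of_singular h₂ h2 ha₀ G₀.ha.ee h w
      rw [this, finrank_top, Module.finrank_fin_fun] at h5
      omega
    obtain ⟨a2, e2, f2⟩ : ∃ a2, f₂ a2 a2 = 0 ∧ a2 ∉ Dp := by
      by_contra! h
      obtain ⟨d, hd', hd0⟩ := Submodule.exists_mem_ne_zero_of_ne_bot (p := D)
        (fun hb => by rw [hb, finrank_bot] at hd; omega)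
      exact hd0 (h₂.nd d fun w => by rw [symm h₂]; exact mem_of_singular h₂ h2 ha₀ G₀.ha.ee h w d hd')
    have g1 : a1 ∈ Dp := hc a1 e1 f1
    have g2 : a2 ∈ D := by_contra fun hn => f2 (hc a2 e2 hn)
    have h12 : f₂ a1 a2 = 0 := g1 a2 g2
    have hs : f₂ (a1 + a2) (a1 + a2) = 0 := by
      simp [h₂.add_left, h₂.add_right, e1, e2, h12, symm h₂ a2 a1]
    by_cases hD : a1 + a2 ∈ D
    · exact f1 (by simpa using D.sub_mem hD g2)
    · exact f2 (by simpa using Dp.sub_mem (hc _ hs hD) g1)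
  have ha : a ≠ 0 := fun h0 => haD (h0 ▸ D.zero_mem)
  obtain ⟨a', ha', h1⟩ := exists_partner h₂ h2 ha haa
  have H : Hyp f₂ a a' := ⟨haa, ha', h1⟩
  by_cases h4 : 4 ≤ Module.finrank F D
  · obtain ⟨c, hc, hcc, hcv⟩ := exists_singular_perp h₂ (show 2 + 3 ≤ l by omega) ![a, a']
    have c1 : f₂ c a = 0 := hcv 0
    have c2 : f₂ c a' = 0 := hcv 1
    obtain ⟨x, y, G⟩ := exists_frame h₂ h2 ha haa hcc (by rw [symm h₂, c1]) fun t ht => by
      rw [ht, h₂.smul_left, h1, mul_one] at c2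
      exact hc (by rw [ht, c2, zero_smul])
    refine ⟨a, c, x, y, G, ?_⟩
    have h' := Submodule.finrank_mono (sup_le_sup_left
      (Submodule.span_mono (show ({a} : Set (Fin l → F)) ⊆ {a, c} by simp)) D)
    have := hsup D a haD
    omega
  -- a three-dimensional space
  set E' := D ⊔ Submodule.span F {a} with hE'
  have hfE : Module.finrank F E' ≤ 4 := by
    have e := Submodule.finrank_sup_add_finrank_inf_eq D (Submodule.span F {a})
    rw [finrank_span_singleton ha] at e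
    change _ = _ at e
    rw [hE']
    omega
  obtain ⟨c, hcc, hca, hcE⟩ : ∃ c, f₂ c c = 0 ∧ f₂ c a = 0 ∧ c ∉ E' := by
    by_contra! hc
    obtain ⟨z, hz, hzz, hzv⟩ := exists_singular_perp h₂ (show 2 + 3 ≤ l by omega) ![a, a']
    have z1 : f₂ z a = 0 := hzv 0
    have z2 : f₂ z a' = 0 := hzv 1
    obtain ⟨v₁, -, hzv₁⟩ := exists_partner h₂ h2 hz hzz
    set v₀ := proj0 f₂ a a' v₁
    obtain ⟨p1, p2⟩ := proj0_perp h₂ H v₁
    have hzv₀ : f₂ z v₀ = 1 := by simp [v₀, proj0, h₂.sub_right, smul_right' h₂, z1, z2, hzv₁]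
    set v := v₀ + (-(2 : F)⁻¹ * f₂ v₀ v₀) • z with hv
    have hvv : f₂ v v = 0 := by
      simp only [hv, h₂.add_left, h₂.add_right, h₂.smul_left, smul_right' h₂, hzz, symm h₂ v₀ z, hzv₀]
      field_simp
      ring
    have hzv : f₂ z v = 1 := by rw [hv, h₂.add_right, smul_right' h₂, hzv₀, hzz, mul_zero, add_zero]
    have v1 : f₂ v a = 0 := by simp [hv, h₂.add_left, h₂.smul_left, neg_left' h₂, v₀, p1, z1]
    have hzE := hc z hzz z1
    have hvE := hc v hvv v1
    have haE : a ∈ E' := Submodule.mem_sup_right (Submodule.mem_span_singleton_self a)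
    have hle : perp h₂ ![a] ≤ E' := by
      intro w hw
      have hwa : f₂ w a = 0 := (mem_perp h₂).1 hw 0
      obtain ⟨q1, -⟩ := proj0_perp h₂ H w
      set w₀ := proj0 f₂ a a' w with hw₀
      obtain ⟨r1, r2⟩ := proj0_perp h₂ ⟨hzz, hvv, hzv⟩ w₀
      set w₁ := proj0 f₂ z v w₀ with hw₁
      have r3 : f₂ w₁ a = 0 := by simp [hw₁, proj0, sub_left' h₂, h₂.smul_left, q1, z1, v1]
      set s := w₁ + z + (-(2 : F)⁻¹ * f₂ w₁ w₁) • v with hs
      have hsE : s ∈ E' := hc s (by
          simp only [hs, h₂.add_left, h₂.add_right, h₂.smul_left, smul_right' h₂, hzz, hvv, hzv, symm h₂ v z, r1, r2,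
            symm h₂ z w₁, symm h₂ v w₁]
          field_simp
          ring)
        (by simp [hs, h₂.add_left, h₂.smul_left, neg_left' h₂, r3, z1, v1])
      have hw₁E : w₁ ∈ E' := by
        have h' := E'.sub_mem (E'.sub_mem hsE hzE) (E'.smul_mem (-(2 : F)⁻¹ * f₂ w₁ w₁) hvE)
        convert h' using 1
        rw [hs]
        abel
      rw [decomp h₂ a a' w, hwa, zero_smul, add_zero, ← hw₀, decomp h₂ z v w₀, ← hw₁]
      exact E'.add_mem (E'.smul_mem _ haE) (E'.add_mem (E'.add_mem (E'.smul_mem _ hzE) (E'.smul_mem _ hvE)) hw₁E)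
    have h1' := finrank_perp h₂ ![a]
    have heq : perp h₂ ![a] = E' := Submodule.eq_of_le_of_finrank_le hle (by omega)
    refine haP fun d hd => ?_
    have : d ∈ perp h₂ ![a] := heq ▸ Submodule.mem_sup_left hd
    rw [symm h₂]
    exact (mem_perp h₂).1 this 0
  obtain ⟨x, y, G⟩ := exists_frame h₂ h2 ha haa hcc (by rw [symm h₂, hca]) fun t ht =>
    hcE (ht ▸ E'.smul_mem t (Submodule.mem_sup_right (Submodule.mem_span_singleton_self a)))
  refine ⟨a, c, x, y, G, ?_⟩
  have e1 := hsup D a haD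
  have e2 := hsup E' c hcE
  have e3 : E' ⊔ Submodule.span F {c} ≤ D ⊔ Submodule.span F {a, c} :=
    sup_le (sup_le_sup_left (Submodule.span_mono (by simp)) D)
      ((Submodule.span_mono (by simp)).trans le_sup_right)
  have e4 := Submodule.finrank_mono e3
  rw [← hE'] at e1
  omega

namespace OC

variable {M : Subgroup (GL (Fin k × Fin l) F)} (C : OC f₁ f₂ M)
include C

/-- The representation of the overgroup. -/
def rep (_C : OC f₁ f₂ M) : M →* Module.End F (Fin k × Fin l → F) := lin.comp M.subtype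

theorem rep_apply (g : M) : C.rep g = lin (g : GL (Fin k × Fin l) F) := rfl

theorem smul_c {a c a' c' : Fin l → F} (G : Frm f₂ a c a' c') (t : F) : f₂ (t • c) a = 0 := by
  rw [C.h₂.smul_left, symm C.h₂, G.ac, mul_zero]

/-- The root group at a frame. -/
noncomputable def xm {a c a' c' : Fin l → F} (G : Frm f₂ a c a' c') (t : F) : M :=
  ⟨_, C.sie_mem G.ha.ee (C.smul_c G t)⟩

theorem lin_xm {a c a' c' : Fin l → F} (G : Frm f₂ a c a' c') (t : F) :
    lin (C.xm G t : GL (Fin k × Fin l) F) = 1 + t • tauOp f₂ a c 1 := by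
  show lin (kr (1 : GL (Fin k) F) (sieGL C.h₂ C.two G.ha.ee (C.smul_c G t))) = _
  rw [lin_kr_sie C.h₂ C.two, C.h₂.smul_left, smul_right' C.h₂, G.hc.ee]
  simp [tauOp, SOp_smul_left C.h₂, SOp_smul_right C.h₂, smul_sub]

theorem xm_mem {a c a' c' : Fin l → F} (G : Frm f₂ a c a' c') (t : F) :
    (C.xm G t : GL (Fin k × Fin l) F) ∈ Cfsg.Geo.kroneckerSubgroup k l F := kr_mem _ _

variable [Fintype F] (hN : NoSkew f₁ f₂ M)
include hN

/-- A plane stabiliser trivial on the middle layer is a pure tensor with scalar first factor. -/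
theorem stab_shape {a c a' c' : Fin l → F} (G : Frm f₂ a c a' c') {g : GL (Fin k × Fin l) F} (hg : g ∈ M)
    (hst : ∀ u, ∃ w, lin g (tauOp f₂ a c 1 u) = tauOp f₂ a c 1 w)
    (hcg : ∀ v, tauOp f₂ a c (1 : Module.End F (Fin k → F)) v = 0 →
      ∃ u, lin g (v - tauOp f₂ a c 1 u) = v - tauOp f₂ a c 1 u) :
    ∃ (B' : Module.End F (Fin l → F)) (p q r s : F), (∀ v w, lin g (tp v w) = tp v (B' w)) ∧
      (∀ u w, f₂ (B' u) (B' w) = f₂ u w) ∧ B' a = p • a + q • c ∧ B' c = r • a + s • c := by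
  have hk : 0 < k := by have := C.hk; omega
  have hmap : ∀ p q : Fin k → F, ∃ p' q', lin g (tp p a + tp q c) = tp p' a + tp q' c := fun p q => by
    obtain ⟨w, hw⟩ := (rangeX_iff C.h₂ G _).2 ⟨p, q, rfl⟩
    obtain ⟨w', hw'⟩ := hst w
    rw [← hw] at hw'
    exact (rangeX_iff C.h₂ G _).1 ⟨w', hw'⟩
  obtain ⟨α, β, rfl⟩ := exists_kr (C.ruler_kron hN hg G G hmap)
  obtain ⟨x₀, hx₀⟩ := exists_vec_ne (F := F) hk
  have hαinj : Function.Injective (lin α) := Function.LeftInverse.injective (lin_inv_apply α)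
  have hαx : lin α x₀ ≠ 0 := fun h => hx₀ (hαinj (by rw [h, map_zero]))
  obtain ⟨p₀, q₀, hβa⟩ : ∃ r s : F, lin β a = r • a + s • c := by
    obtain ⟨p', q', h⟩ := hmap x₀ 0
    rw [tp_zero_left, add_zero, lin_kr_tp] at h
    exact mem_span_pair_of_row hαx h
  obtain ⟨r₀, s₀, hβc⟩ : ∃ r s : F, lin β c = r • a + s • c := by
    obtain ⟨p', q', h⟩ := hmap 0 x₀
    rw [tp_zero_left, zero_add, lin_kr_tp] at h
    exact mem_span_pair_of_row hαx h
  obtain ⟨w₀, n1, n3, n2, n4, n5⟩ := exists_aniso_four C.h₂ C.two C.hl G.ha G.hc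
    (by rw [symm C.h₂, G.ac]) (by rw [symm C.h₂, G.a'c]) (by rw [symm C.h₂, G.ac']) (by rw [symm C.h₂, G.a'c'])
  have hkey : ∀ x, f₂ (lin β w₀) w₀ • lin α x = f₂ w₀ w₀ • x := fun x => by
    obtain ⟨u, hu⟩ := hcg (tp x w₀) ((kerX_iff C.h₂ G _).2 ⟨by rw [Pf_tp C.h₂, n1, zero_smul],
      by rw [Pf_tp C.h₂, n2, zero_smul]⟩)
    obtain ⟨p, q, hpq⟩ := (rangeX_iff C.h₂ G _).1 ⟨u, rfl⟩
    rw [hpq, map_sub, map_add, lin_kr_tp, lin_kr_tp, lin_kr_tp, hβa, hβc] at hu
    have e := congrArg (Pf f₂ k w₀) hu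
    simpa [map_sub, map_add, Pf_tp C.h₂, C.h₂.add_left, C.h₂.smul_left, symm C.h₂ a w₀, symm C.h₂ c w₀, n1, n2]
      using e
  have hb0 : f₂ (lin β w₀) w₀ ≠ 0 := fun h0 => by
    have := hkey x₀
    rw [h0, zero_smul] at this
    exact hx₀ ((smul_eq_zero.1 this.symm).resolve_left n5)
  set κ := f₂ w₀ w₀ / f₂ (lin β w₀) w₀ with hκ
  have hακ : ∀ x, lin α x = κ • x := fun x => by
    rw [hκ, div_eq_inv_mul, mul_smul, ← hkey x, inv_smul_smul₀ hb0]
  have hB : ∀ v w, lin (kr α β) (tp v w) = tp v ((κ • lin β) w) := fun v w => by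
    rw [lin_kr_tp, hακ, LinearMap.smul_apply, tp_smul_left, tp_smul_right]
  refine ⟨κ • lin β, κ * p₀, κ * q₀, κ * r₀, κ * s₀, hB, fun u w => ?_, ?_, ?_⟩
  · obtain ⟨y, hy⟩ : ∃ y, f₁ x₀ y ≠ 0 := by
      by_contra! h0
      exact hx₀ (C.h₁.nd _ h0)
    have h := C.le hg (tp x₀ u) (tp y w)
    rw [hB, hB, T_tp C.h₁ C.h₂, T_tp C.h₁ C.h₂] at h
    exact mul_left_cancel₀ hy h
  · rw [LinearMap.smul_apply, hβa, smul_add, smul_smul, smul_smul]
  · rw [LinearMap.smul_apply, hβc, smul_add, smul_smul, smul_smul]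

theorem root_data {a c a' c' : Fin l → F} (G : Frm f₂ a c a' c') :
    RootData (bT f₁ f₂) C.rep (tauOp f₂ a c (1 : Module.End F (Fin k → F))) (C.xm G) where
  two := C.two
  symm u w := T_symm C.h₁ C.h₂ u w
  nd u h := T_nd C.h₁ C.h₂ u h
  inj g h e := Subtype.ext (lin_injective e)
  iso g u w := C.le g.2 u w
  sq := tauOp_sq C.h₂ G.ha.ee G.hc.ee G.ac 1 1
  skew u w := (central_tauOp C.h₁ C.h₂ G (fun _ _ => rfl)).2.2 u w
  root t := C.lin_xm G t
  quad g hst hcg := by
    obtain ⟨B', p, q, r, s, hB, hiso, hBa, hBc⟩ := C.stab_shape hN G g.2 hst hcg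
    refine ⟨p + s, p * s - q * r, fun u => ?_, ext_tp fun v w => ?_⟩
    · obtain ⟨x, y, hxy⟩ := (rangeX_iff C.h₂ G _).1 ⟨u, rfl⟩
      simp only [rep_apply, hxy, map_add, hB, hBa, hBc, map_smul, tp_add_right, tp_smul_right]
      module
    · have e1 : f₂ w c = r * f₂ (B' w) a + s * f₂ (B' w) c := by
        rw [← hiso w c, hBc, C.h₂.add_right, smul_right' C.h₂, smul_right' C.h₂]
      have e2 : f₂ w a = p * f₂ (B' w) a + q * f₂ (B' w) c := by
        rw [← hiso w a, hBa, C.h₂.add_right, smul_right' C.h₂, smul_right' C.h₂]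
      simp only [rep_apply, Module.End.mul_apply, LinearMap.smul_apply, tauOp, LinearMap.sub_apply, SOp_tp C.h₂,
        Module.End.one_apply, map_sub, map_smul, hB, hBa, hBc, tp_add_right, tp_smul_right]
      rw [e1, e2]
      module
  fix g hfix := by
    have hf : ∀ u, Pf f₂ k a u = 0 → Pf f₂ k c u = 0 → lin (g : GL (Fin k × Fin l) F) u = u :=
      fun u u1 u2 => hfix u ((kerX_iff C.h₂ G u).2 ⟨u1, u2⟩)
    obtain ⟨t, ht⟩ := C.central_mem_scalar hN G (central_of_fix C.h₁ C.h₂ G (C.le g.2) hf)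
      (el_iff.2 ⟨g, g.2, by abel⟩)
    refine ⟨t, Subtype.ext (lin_injective ?_)⟩
    rw [C.lin_xm G, ← ht, add_sub_cancel]

/-- An overgroup without skew root elements stabilises the decomposition. -/
theorem le_kron : M ≤ Cfsg.Geo.kroneckerSubgroup k l F := by
  classical
  intro g hg
  by_contra hgK
  haveI : Finite (GL (Fin k × Fin l) F) := inferInstance
  obtain ⟨a₀, c₀, x₀, y₀, G₀⟩ := exists_base C.h₂ C.two C.hl
  set X₀ := tauOp f₂ a₀ c₀ (1 : Module.End F (Fin k → F)) with hX₀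
  have D₀ := C.root_data hN G₀
  set y : M := ⟨g, hg⟩ * C.xm G₀ 1 * ⟨g, hg⟩⁻¹ with hy
  set Y := disp C.rep X₀ (⟨g, hg⟩ : M) with hYdef
  have hyY : C.rep y = 1 + Y := by rw [hy, D₀.rho_conj, one_smul]
  set H := (Cfsg.Geo.kroneckerSubgroup k l F).subgroupOf M with hH
  have hC : ∀ {a c a' c' : Fin l → F} (G : Frm f₂ a c a' c') (h : M), h * C.xm G 1 * h⁻¹ ∈ H → h ∈ H := by
    intro a c a' c' G h hh
    rw [hH, Subgroup.mem_subgroupOf] at hh ⊢
    exact C.mem_kron_of_conj hN G h.2 (by rw [C.lin_xm G, one_smul]) (by simpa using hh)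
  have hyH : y ∉ H := fun h => hgK (by
    have := hC G₀ ⟨g, hg⟩ h
    rw [hH, Subgroup.mem_subgroupOf] at this
    exact this)
  -- the span of the rows of the image of `Y`
  set S : Submodule F (Fin l → F) :=
    Submodule.span F (Set.range fun z : (Fin k × Fin l → F) × Fin k => fun j => Y z.1 (z.2, j)) with hS
  have hrow : ∀ u i, (fun j => Y u (i, j)) ∈ S := fun u i => Submodule.subset_span ⟨(u, i), rfl⟩
  have hrankY : Module.finrank F (LinearMap.range Y) = 2 * k := by
    rw [hYdef, D₀.disp_rank, finrank_rangeX C.h₂ G₀]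
  have hrowsinj : ∀ (W : Submodule F (Fin l → F)) (V : Submodule F (Fin k × Fin l → F)),
      (∀ u ∈ V, ∀ i, (fun j => u (i, j)) ∈ W) → Module.finrank F V ≤ k * Module.finrank F W := by
    intro W V hV
    let Φ : V →ₗ[F] (Fin k → W) :=
      { toFun := fun u i => ⟨fun j => (u : Fin k × Fin l → F) (i, j), hV _ u.2 i⟩
        map_add' := fun u w => rfl
        map_smul' := fun s u => rfl }
    have hinj : Function.Injective Φ := fun u w h => Subtype.ext (funext fun z =>
      congrFun (congrArg Subtype.val (congrFun h z.1)) z.2)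
    have := LinearMap.finrank_le_finrank_of_injective hinj
    rwa [Module.finrank_pi_fintype, Finset.sum_const, Finset.card_univ, Fintype.card_fin, smul_eq_mul] at this
  have hd2 : 2 ≤ Module.finrank F S := by
    have h := hrowsinj S (LinearMap.range Y) (by rintro _ ⟨u, rfl⟩ i; exact hrow u i)
    rw [hrankY] at h
    have := C.hk
    by_contra h'
    nlinarith
  -- the bound for every plane
  have hbound : ∀ a c a' c', Frm f₂ a c a' c' →
      Module.finrank F ↥(S ⊔ Submodule.span F {a, c}) ≤ 4 := by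
    intro a c a' c' G
    have D := C.root_data hN G
    obtain ⟨h, hst, hcg, hfix⟩ := D.escape (H := H) (fun t => by
        rw [hH, Subgroup.mem_subgroupOf]; exact C.xm_mem G t) (hC G) (y := y) (Y := Y) hyY (D₀.disp_sq _)
      (D₀.disp_skew _) (by rw [hrankY, finrank_rangeX C.h₂ G]) hyH
    obtain ⟨B', p, q, r, s, hB, -, -, -⟩ := C.stab_shape hN G h.2 hst hcg
    set W := LinearMap.ker (B' - 1) with hW
    set X := tauOp f₂ a c (1 : Module.End F (Fin k → F))
    have hWfix : ∀ w ∈ W, ∀ v, X (tp v w) = 0 ∧ Y (tp v w) = 0 := by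
      intro w hw v
      rw [hW, LinearMap.mem_ker, LinearMap.sub_apply, Module.End.one_apply, sub_eq_zero] at hw
      refine (hfix _).1 ?_
      rw [rep_apply, hB, hw]
    obtain ⟨x₁, hx₁⟩ := exists_vec_ne (F := F) (show 0 < k by have := C.hk; omega)
    have hperp : ∀ e ∈ S ⊔ Submodule.span F {a, c}, ∀ w ∈ W, f₂ e w = 0 := by
      intro e he w hw
      refine Submodule.mem_sup.1 he |>.elim fun d hd => hd.2.elim fun z hz => ?_
      obtain ⟨hz1, rfl⟩ := hz
      rw [C.h₂.add_left]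
      have e1 : f₂ d w = 0 := by
        refine Submodule.span_induction (p := fun d _ => f₂ d w = 0) ?_ (C.h₂.zero_left w)
          (fun u v _ _ hu hv => by rw [C.h₂.add_left, hu, hv, add_zero])
          (fun t u _ hu => by rw [C.h₂.smul_left, hu, mul_zero]) hd.1
        rintro _ ⟨⟨u, i⟩, rfl⟩
        have h0 : Pf f₂ k w (Y u) = 0 := C.h₁.nd _ fun v => by
          rw [← tForm_right C.h₂ C.h₁]
          have h' := D₀.disp_skew ⟨g, hg⟩ u (tp v w)
          rw [← hYdef, (hWfix w hw v).2, map_zero, bT_apply] at h'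
          simpa using h'
        have := congrFun h0 i
        rwa [Pf_apply C.h₂, Pi.zero_apply] at this
      have e2 : f₂ a w = 0 ∧ f₂ c w = 0 := by
        obtain ⟨q1, q2⟩ := (kerX_iff C.h₂ G _).1 (hWfix w hw x₁).1
        rw [Pf_tp C.h₂, smul_eq_zero] at q1 q2
        exact ⟨by rw [symm C.h₂]; exact q1.resolve_right hx₁, by rw [symm C.h₂]; exact q2.resolve_right hx₁⟩
      obtain ⟨t₁, t₂, rfl⟩ := Submodule.mem_span_pair.1 hz1
      rw [e1, C.h₂.add_left, C.h₂.smul_left, C.h₂.smul_left, e2.1, e2.2]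
      ring
    have hdim : l ≤ Module.finrank F W + 4 := by
      have hC' := hrowsinj W (LinearMap.ker X ⊓ LinearMap.ker Y) (by
        rintro u ⟨h1, h2⟩ i
        have hu : C.rep h u = u := (hfix u).2 ⟨h1, h2⟩
        rw [hW, LinearMap.mem_ker, LinearMap.sub_apply, Module.End.one_apply, sub_eq_zero]
        have e : C.rep h u = fun z => B' (fun j => u (z.1, j)) z.2 := by
          conv_lhs => rw [rep_apply, tp_decomp u, map_sum]
          simp only [hB]
          funext z
          simp [tp, Finset.sum_apply, Pi.single_apply]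
        funext j
        exact (congrFun e (i, j)).symm.trans (congrFun hu (i, j)))
      have r1 := LinearMap.finrank_range_add_finrank_ker X
      have r2 := LinearMap.finrank_range_add_finrank_ker Y
      have r3 := Submodule.finrank_sup_add_finrank_inf_eq (LinearMap.ker X) (LinearMap.ker Y)
      have r4 := Submodule.finrank_le (LinearMap.ker X ⊔ LinearMap.ker Y)
      rw [hrankY] at r2
      rw [finrank_rangeX C.h₂ G] at r1
      have hV : Module.finrank F (Fin k × Fin l → F) = k * l := by simp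
      rw [hV] at r1 r2 r4
      have := C.hk
      nlinarith
    have := finrank_sum_le C.h₂ _ W hperp
    omega
  by_cases hd : 3 ≤ Module.finrank F S
  · obtain ⟨a, c, a', c', G, h5⟩ := exists_far_pair C.h₂ C.two C.hl S hd
    have := hbound a c a' c' G
    omega
  -- two dimensions: a ruler plane
  have hS2 : Module.finrank F S = 2 := by omega
  let bs := Module.finBasisOfFinrankEq F S hS2
  have hall : ∀ u : Fin k × Fin l → F, (∀ i, (fun j => u (i, j)) ∈ S) → u ∈ LinearMap.range Y := by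
    intro u hu
    let V : Submodule F (Fin k × Fin l → F) :=
      { carrier := {u | ∀ i, (fun j => u (i, j)) ∈ S}
        zero_mem' := fun i => S.zero_mem
        add_mem' := fun {u w} h1 h2 i => S.add_mem (h1 i) (h2 i)
        smul_mem' := fun t u h1 i => S.smul_mem t (h1 i) }
    have heq : LinearMap.range Y = V := by
      refine Submodule.eq_of_le_of_finrank_le (by rintro _ ⟨z, rfl⟩ i; exact hrow z i) ?_
      have := hrowsinj S V fun u hu i => hu i
      rw [hS2] at this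
      omega
    rw [heq]
    exact hu
  have hts : ∀ d ∈ S, ∀ e ∈ S, f₂ d e = 0 := by
    intro d hd' e he
    obtain ⟨v, hv⟩ := exists_vec_ne (F := F) (show 0 < k by have := C.hk; omega)
    obtain ⟨w, hw⟩ : ∃ w, f₁ v w ≠ 0 := by
      by_contra! h0
      exact hv (C.h₁.nd _ h0)
    have hmem : ∀ (x : Fin k → F) (b : Fin l → F), b ∈ S → ∀ i, (fun j => tp x b (i, j)) ∈ S :=
      fun x b hb i => S.smul_mem (x i) hb
    obtain ⟨u1, hu1⟩ := hall _ (hmem v d hd')
    obtain ⟨u2, hu2⟩ := hall _ (hmem w e he)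
    have h0 := D₀.disp_skew ⟨g, hg⟩ u1 (tp w e)
    rw [← hYdef, hu1, ← hu2, ← Module.End.mul_apply, D₀.disp_sq, LinearMap.zero_apply, map_zero, neg_zero, hu2,
      bT_apply, T_tp C.h₁ C.h₂] at h0
    exact (mul_eq_zero.1 h0).resolve_left hw
  have hb0 : (bs 0 : Fin l → F) ≠ 0 := fun h => bs.ne_zero 0 (Subtype.ext h)
  obtain ⟨x, z, G₁⟩ := exists_frame C.h₂ C.two hb0 (hts _ (bs 0).2 _ (bs 0).2) (hts _ (bs 1).2 _ (bs 1).2)
    (hts _ (bs 0).2 _ (bs 1).2) fun t ht => by
      have h' : (1 : F) • bs 1 + (-t) • bs 0 = 0 := Subtype.ext (by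
        rw [Submodule.coe_add, Submodule.coe_smul, Submodule.coe_smul, ht]
        simp)
      have := Fintype.linearIndependent_iff.1 bs.linearIndependent ![-t, 1] (by
        rw [Fin.sum_univ_two, add_comm]; exact h') 1
      simp at this
  refine hgK (C.ruler_kron hN hg G₀ G₁ fun p q => ?_)
  obtain ⟨u, hu⟩ := (rangeX_iff C.h₂ G₀ _).2 ⟨p, q, rfl⟩
  have hrowS : ∀ i, (fun j => lin g (tp p a₀ + tp q c₀) (i, j)) ∈ S := fun i => by
    have : lin g (tp p a₀ + tp q c₀) = Y (lin g u) := by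
      rw [hYdef, disp_apply, hu, rep_apply, rep_apply]
      show lin g _ = lin g (X₀ (lin g⁻¹ (lin g u)))
      rw [lin_inv_apply]
    rw [this]
    exact hrow _ i
  refine ⟨fun i => bs.repr ⟨_, hrowS i⟩ 0, fun i => bs.repr ⟨_, hrowS i⟩ 1, funext fun z => ?_⟩
  have h := congrArg Subtype.val (bs.sum_repr ⟨_, hrowS z.1⟩)
  rw [Fin.sum_univ_two, Submodule.coe_add, Submodule.coe_smul, Submodule.coe_smul] at h
  exact (congrFun h z.2).symm

end OC

end Cfsg.Agent.OTensor
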