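import Mathlib

/-!
Two quadratic isometries `1 + X` and `1 + Y`: if `X Y X = 0` they generate a `p`-group; and the conjugate of a
quadratic element by another one.
-/

set_option autoImplicit false
set_option linter.unusedSectionVars false

namespace Cfsg.Agent.OTensor

variable {F : Type*} [Field F] {V : Type*} [AddCommGroup V] [Module F V]

/-- The span of the short words in `X` and `Y`. -/
def Words (X Y : Module.End F V) : Submodule F (Module.End F V) :=
  Submodule.span F {X, Y, X * Y, Y * X, Y * X * Y}

/-- The span of the words of length at least two. -/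
def WordsTwo (X Y : Module.End F V) : Submodule F (Module.End F V) :=
  Submodule.span F {X * Y, Y * X, Y * X * Y}

variable {X Y : Module.End F V} (hX : X * X = 0) (hY : Y * Y = 0) (h : X * Y * X = 0)
include hX hY h

theorem words_mul {a b : Module.End F V} (ha : a ∈ Words X Y) (hb : b ∈ Words X Y) : a * b ∈ WordsTwo X Y := by
  refine LinearMap.BilinMap.apply_apply_mem_of_mem_span (WordsTwo X Y) _ _ (LinearMap.mul F (Module.End F V)) ?_ a b
    ha hb
  intro s hs t ht
  simp only [Set.mem_insert_iff, Set.mem_singleton_iff] at hs ht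
  have hX' : ∀ Z, X * (X * Z) = 0 := fun Z => by rw [← mul_assoc, hX, zero_mul]
  have hY' : ∀ Z, Y * (Y * Z) = 0 := fun Z => by rw [← mul_assoc, hY, zero_mul]
  have h' : ∀ Z, X * (Y * (X * Z)) = 0 := fun Z => by rw [← mul_assoc, ← mul_assoc, h, zero_mul]
  have h0 : X * (Y * X) = 0 := by rw [← mul_assoc, h]
  have h1 : X * Y ∈ WordsTwo X Y := Submodule.subset_span (by simp)
  have h2 : Y * X ∈ WordsTwo X Y := Submodule.subset_span (by simp)
  have h3 : Y * (X * Y) ∈ WordsTwo X Y := Submodule.subset_span (by simp [mul_assoc])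
  rcases hs with rfl | rfl | rfl | rfl | rfl <;> rcases ht with rfl | rfl | rfl | rfl | rfl <;>
    simp only [LinearMap.mul_apply', mul_assoc, hX, hY, hX', hY', h', h0, mul_zero] <;>
    first | exact Submodule.zero_mem _ | assumption

theorem wordsTwo_mul {a b : Module.End F V} (ha : a ∈ WordsTwo X Y) (hb : b ∈ WordsTwo X Y) :
    a * b = 0 := by
  have key : a * b ∈ (⊥ : Submodule F (Module.End F V)) := by
    refine LinearMap.BilinMap.apply_apply_mem_of_mem_span ⊥ _ _ (LinearMap.mul F (Module.End F V)) ?_ a b ha hb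
    intro s hs t ht
    simp only [Set.mem_insert_iff, Set.mem_singleton_iff] at hs ht
    have hX' : ∀ Z, X * (X * Z) = 0 := fun Z => by rw [← mul_assoc, hX, zero_mul]
    have hY' : ∀ Z, Y * (Y * Z) = 0 := fun Z => by rw [← mul_assoc, hY, zero_mul]
    have h' : ∀ Z, X * (Y * (X * Z)) = 0 := fun Z => by rw [← mul_assoc, ← mul_assoc, h, zero_mul]
    have h0 : X * (Y * X) = 0 := by rw [← mul_assoc, h]
    rcases hs with rfl | rfl | rfl <;> rcases ht with rfl | rfl | rfl <;>
      simp [mul_assoc, hX, hY, hX', hY', h', h0]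
  exact (Submodule.mem_bot F).1 key

theorem words_le {a : Module.End F V} (ha : a ∈ WordsTwo X Y) : a ∈ Words X Y :=
  Submodule.span_mono (by intro z hz; simp only [Set.mem_insert_iff, Set.mem_singleton_iff] at hz ⊢; tauto) ha

theorem words_pow_four {a : Module.End F V} (ha : a ∈ Words X Y) : a ^ 4 = 0 := by
  have h2 := words_mul hX hY h ha ha
  rw [show a ^ 4 = a * a * (a * a) by simp [pow_succ, mul_assoc], wordsTwo_mul hX hY h h2 h2]

/-- If `X Y X = 0`, then quadratic elements with these displacements generate a `p`-group. -/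
theorem isPGroup_of_nilpotent [Nontrivial V] {p : ℕ} [Fact p.Prime] [CharP F p] {G : Type*} [Group G] [Finite G]
    (ρ : G →* Module.End F V) (hinj : Function.Injective ρ) (S : Set G)
    (hS : ∀ s ∈ S, ∃ a ∈ Words X Y, ρ s = 1 + a) : IsPGroup p (Subgroup.closure S) := by
  haveI : CharP (Module.End F V) p := charP_of_injective_algebraMap (algebraMap F (Module.End F V)).injective p
  have mem : ∀ g ∈ Subgroup.closure S, ρ g - 1 ∈ Words X Y := by
    intro g hg
    rw [← Subgroup.mem_toSubmonoid, Subgroup.closure_toSubmonoid_of_finite] at hg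
    induction hg using Submonoid.closure_induction with
    | mem s hs =>
      obtain ⟨a, ha, e⟩ := hS s hs
      rwa [e, add_sub_cancel_left]
    | one => rw [map_one, sub_self]; exact Submodule.zero_mem _
    | mul a b _ _ iha ihb =>
      rw [map_mul, show ρ a * ρ b - 1 = (ρ a - 1) * (ρ b - 1) + (ρ a - 1) + (ρ b - 1) by noncomm_ring]
      exact Submodule.add_mem _ (Submodule.add_mem _ (words_le hX hY h (words_mul hX hY h iha ihb)) iha) ihb
  intro g
  refine ⟨2, Subtype.ext (hinj ?_)⟩
  rw [Subgroup.coe_pow, Subgroup.coe_one, map_pow, map_one]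
  have e : ρ g = 1 + (ρ g - 1) := by abel
  rw [e, add_pow_char_pow_of_commute _ _ (Commute.one_left _), one_pow]
  have h4 := words_pow_four hX hY h (mem g g.2)
  have hp : 4 ≤ p ^ 2 := by
    have := (Fact.out : p.Prime).two_le
    calc 4 = 2 ^ 2 := rfl
      _ ≤ p ^ 2 := Nat.pow_le_pow_left this 2
  rw [pow_eq_zero_of_le hp h4, add_zero]

end Cfsg.Agent.OTensor
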