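import Cfsg.Agent.Lib.TensorMaxForm

/-!
An overgroup of a tensor product of two isometry groups that contains root elements `1 ⊗ t`, and in which the only
operators `X` with all `J_a X P_c + δ J_c X' P_a` are scalar, maps rulers to rulers only through the tensor
stabiliser.
-/

set_option autoImplicit false
set_option linter.unusedSectionVars false

namespace Cfsg.Agent.TensorMax

open scoped Matrix MatrixGroups Kronecker
open Cfsg.Agent.TransvectionMax

variable {F : Type*} [Field F] {k l : ℕ}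

/-- Some element of `M` acts as `1 + N`. -/
def El (M : Subgroup (GL (Fin k × Fin l) F)) (N : Module.End F (Fin k × Fin l → F)) : Prop :=
  ∃ g ∈ M, Matrix.toLin' (g : Matrix (Fin k × Fin l) (Fin k × Fin l) F) = 1 + N

namespace El

variable {M : Subgroup (GL (Fin k × Fin l) F)} {N N' : Module.End F (Fin k × Fin l → F)}

theorem lin_mul (g h : GL (Fin k × Fin l) F) :
    Matrix.toLin' ((g * h : GL (Fin k × Fin l) F) : Matrix (Fin k × Fin l) (Fin k × Fin l) F) =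
      Matrix.toLin' (g : Matrix (Fin k × Fin l) (Fin k × Fin l) F) *
        Matrix.toLin' (h : Matrix (Fin k × Fin l) (Fin k × Fin l) F) := by
  rw [Units.val_mul, Matrix.toLin'_mul]
  rfl

theorem lin_inv (g : GL (Fin k × Fin l) F) {N : Module.End F (Fin k × Fin l → F)}
    (hg : Matrix.toLin' (g : Matrix (Fin k × Fin l) (Fin k × Fin l) F) = 1 + N) (hN : N * N = 0) :
    Matrix.toLin' ((g⁻¹ : GL (Fin k × Fin l) F) : Matrix (Fin k × Fin l) (Fin k × Fin l) F) = 1 - N := by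
  have h : Matrix.toLin' ((g⁻¹ : GL (Fin k × Fin l) F) : Matrix (Fin k × Fin l) (Fin k × Fin l) F) * (1 + N) = 1 := by
    rw [← hg, ← lin_mul, inv_mul_cancel, Units.val_one, Matrix.toLin'_one]
    rfl
  calc Matrix.toLin' ((g⁻¹ : GL (Fin k × Fin l) F) : Matrix (Fin k × Fin l) (Fin k × Fin l) F)
      = Matrix.toLin' ((g⁻¹ : GL (Fin k × Fin l) F) : Matrix (Fin k × Fin l) (Fin k × Fin l) F) *
          ((1 + N) * (1 - N)) := by rw [add_mul, one_mul, mul_sub, mul_one, hN, sub_zero, sub_add_cancel, mul_one]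
    _ = 1 - N := by rw [← mul_assoc, h, one_mul]

theorem smul_neg_left (z : F) (N : Module.End F (Fin k × Fin l → F)) : (-z) • N = -(z • N) :=
  LinearMap.ext fun u => funext fun p => by simp

theorem zero (M : Subgroup (GL (Fin k × Fin l) F)) : El M 0 :=
  ⟨1, M.one_mem, by rw [Units.val_one, Matrix.toLin'_one, add_zero]; rfl⟩

theorem add (h : El M N) (h' : El M N') (e : N * N' = 0) : El M (N + N') := by
  obtain ⟨g, hg, hgN⟩ := h
  obtain ⟨g', hg', hgN'⟩ := h'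
  refine ⟨g * g', M.mul_mem hg hg', ?_⟩
  rw [lin_mul, hgN, hgN', mul_add, mul_one, add_mul, one_mul, e]
  abel

theorem comm (h : El M N) (h' : El M N') (e : N * N = 0) (e' : N' * N' = 0) (e₁ : N * N' * N = 0)
    (e₂ : N' * N * N' = 0) : El M (N * N' - N' * N) := by
  obtain ⟨g, hg, hgN⟩ := h
  obtain ⟨g', hg', hgN'⟩ := h'
  refine ⟨g * g' * g⁻¹ * g'⁻¹, M.mul_mem (M.mul_mem (M.mul_mem hg hg') (M.inv_mem hg)) (M.inv_mem hg'), ?_⟩
  rw [lin_mul, lin_mul, lin_mul, hgN, hgN', lin_inv g hgN e, lin_inv g' hgN' e']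
  have a1 : (1 + N) * (1 + N') * (1 - N) = 1 + N' + N * N' - N' * N := by
    calc (1 + N) * (1 + N') * (1 - N) = 1 + N' + N * N' - N' * N - N * N - N * N' * N := by
          simp only [add_mul, mul_add, sub_mul, mul_sub, one_mul, mul_one, mul_assoc]; abel
      _ = _ := by rw [e, e₁]; abel
  rw [a1]
  calc (1 + N' + N * N' - N' * N) * (1 - N')
      = 1 + (N * N' - N' * N) - N' * N' - N * (N' * N') + N' * N * N' := by
        simp only [add_mul, mul_add, sub_mul, mul_sub, one_mul, mul_one, mul_assoc]; abel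
    _ = _ := by rw [e', e₂, mul_zero]; abel

theorem conj (h : El M N) {g : GL (Fin k × Fin l) F} (hg : g ∈ M) :
    El M (Matrix.toLin' (g : Matrix (Fin k × Fin l) (Fin k × Fin l) F) * N *
      Matrix.toLin' ((g⁻¹ : GL (Fin k × Fin l) F) : Matrix (Fin k × Fin l) (Fin k × Fin l) F)) := by
  obtain ⟨g', hg', hgN⟩ := h
  refine ⟨g * g' * g⁻¹, M.mul_mem (M.mul_mem hg hg') (M.inv_mem hg), ?_⟩
  rw [lin_mul, lin_mul, hgN, mul_add, mul_one, add_mul, ← lin_mul, mul_inv_cancel, Units.val_one,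
    Matrix.toLin'_one]
  rfl

end El

variable {σ : F →+* F} {ε₁ ε₂ : F} {f₁ : (Fin k → F) → (Fin k → F) → F} {f₂ : (Fin l → F) → (Fin l → F) → F}

theorem neg_SOp (a : Fin l → F) (X : Module.End F (Fin k → F)) (c : Fin l → F) :
    -SOp f₂ a X c = SOp f₂ a (-X) c :=
  LinearMap.ext fun u => funext fun p => by simp [SOp_apply, tp]

theorem tForm_add_right (u w w' : Fin k × Fin l → F) :
    tForm σ f₁ f₂ u (w + w') = tForm σ f₁ f₂ u w + tForm σ f₁ f₂ u w' := by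
  simp only [tForm, Cfsg.Geo.formOfGram, Pi.add_apply, map_add, mul_add, Finset.sum_add_distrib]

/-- An isotropic vector. -/
def Iso (f₂ : (Fin l → F) → (Fin l → F) → F) (a : Fin l → F) : Prop := a ≠ 0 ∧ f₂ a a = 0

/-- A pair of independent orthogonal isotropic vectors. -/
def Pair (f₂ : (Fin l → F) → (Fin l → F) → F) (a c : Fin l → F) : Prop :=
  Iso f₂ a ∧ Iso f₂ c ∧ f₂ a c = 0 ∧ ∀ y : F, c ≠ y • a

/-- The element with operator `J_a Y P_c + δ J_c Y' P_a`, `δ = -ε₂`, lies in `M`. -/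
def Tau (M : Subgroup (GL (Fin k × Fin l) F)) (f₂ : (Fin l → F) → (Fin l → F) → F) (ε₂ : F) (a c : Fin l → F)
    (Y Y' : Module.End F (Fin k → F)) : Prop :=
  El M (SOp f₂ a Y c + (-ε₂) • SOp f₂ c Y' a)

/-- `Tau` at every pair. -/
def TauAll (M : Subgroup (GL (Fin k × Fin l) F)) (f₂ : (Fin l → F) → (Fin l → F) → F) (ε₂ : F)
    (Y Y' : Module.End F (Fin k → F)) : Prop :=
  ∀ a c, Pair f₂ a c → Tau M f₂ ε₂ a c Y Y'

/-- The hypotheses on an overgroup of a tensor product of two isometry groups needed for the ruler theorem. -/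
structure Ctx0 (σ : F →+* F) (ε₁ ε₂ : F) (f₁ : (Fin k → F) → (Fin k → F) → F)
    (f₂ : (Fin l → F) → (Fin l → F) → F) (M : Subgroup (GL (Fin k × Fin l) F)) : Prop where
  h₁ : SForm σ ε₁ f₁
  h₂ : SForm σ ε₂ f₂
  hk : 0 < k
  sgn : ε₂ = 1 ∨ ε₂ = -1
  adm : ∃ z : F, z ≠ 0 ∧ σ z = -ε₂ * z
  pres : ∀ g ∈ M, ∀ u w, tForm σ f₁ f₂ ((g : Matrix (Fin k × Fin l) (Fin k × Fin l) F) *ᵥ u)
    ((g : Matrix (Fin k × Fin l) (Fin k × Fin l) F) *ᵥ w) = tForm σ f₁ f₂ u w
  root : ∀ b, Iso f₂ b → ∀ z : F, σ z = -ε₂ * z → El M (z • SOp f₂ b 1 b)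
  move : ∀ a c, Iso f₂ a → Iso f₂ c → ∃ β : GL (Fin l) F, kr (1 : GL (Fin k) F) β ∈ M ∧
    (∀ x y, f₂ ((β : Matrix (Fin l) (Fin l) F) *ᵥ x) ((β : Matrix (Fin l) (Fin l) F) *ᵥ y) = f₂ x y) ∧
    (β : Matrix (Fin l) (Fin l) F) *ᵥ a = c
  span_perp : ∀ a, Iso f₂ a → ∀ w, (∀ b, f₂ b b = 0 → f₂ b a = 0 → f₂ w b = 0) → ∃ y : F, w = y • a
  span_iso : Submodule.span F {b | f₂ b b = 0} = ⊤
  meet : ∀ a b, Iso f₂ a → Iso f₂ b → ∃ c, Iso f₂ c ∧ f₂ c a = 0 ∧ f₂ c b = 0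

/-- The hypotheses on an overgroup of a tensor product of two isometry groups. -/
structure Ctx (σ : F →+* F) (ε₁ ε₂ : F) (f₁ : (Fin k → F) → (Fin k → F) → F)
    (f₂ : (Fin l → F) → (Fin l → F) → F) (M : Subgroup (GL (Fin k × Fin l) F)) : Prop
    extends Ctx0 σ ε₁ ε₂ f₁ f₂ M where
  partner : ∀ a c b, Iso f₂ a → Iso f₂ c → Iso f₂ b → f₂ a c = 0 → (∀ x y : F, b ≠ x • a + y • c) →
    ∃ b', Iso f₂ b' ∧ f₂ b' a = 0 ∧ f₂ b' c = 0 ∧ f₂ b' b ≠ 0
  third : ∀ a b, Iso f₂ a → Iso f₂ b →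
    ∃ c, Iso f₂ c ∧ f₂ c a = 0 ∧ f₂ c b = 0 ∧ ∀ x y : F, c ≠ x • a + y • b
  four : ∀ a b c, Iso f₂ a → Iso f₂ b → Iso f₂ c → f₂ a b = 0 → f₂ a c = 0 → f₂ b c ≠ 0 →
    ∃ d, Iso f₂ d ∧ f₂ d a = 0 ∧ f₂ d b = 0 ∧ f₂ d c = 0 ∧ ∀ x : F, d ≠ x • a

namespace Ctx0

variable {M : Subgroup (GL (Fin k × Fin l) F)} (C : Ctx0 σ ε₁ ε₂ f₁ f₂ M)
include C

theorem sq_sgn : (-ε₂) * (-ε₂) = 1 := by rcases C.sgn with h | h <;> rw [h] <;> ring

theorem map_sgn : σ (-ε₂) = -ε₂ := by rcases C.sgn with h | h <;> simp [h]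

theorem iso_smul {a : Fin l → F} (h : Iso f₂ a) {t : F} (ht : t ≠ 0) : Iso f₂ (t • a) :=
  ⟨smul_ne_zero ht h.1, by rw [C.h₂.smul_left, C.h₂.smul_right, h.2, mul_zero, mul_zero]⟩

theorem iso_add {a c : Fin l → F} (h : Pair f₂ a c) : Iso f₂ (a + c) := by
  refine ⟨fun e => h.2.2.2 (-1) ?_, ?_⟩
  · rw [neg_one_smul]
    exact eq_neg_of_add_eq_zero_right e
  · rw [C.h₂.add_left, C.h₂.add_right, C.h₂.add_right, h.1.2, h.2.1.2, h.2.2.1, C.h₂.symm_zero h.2.2.1]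
    simp

theorem pair_symm {a c : Fin l → F} (h : Pair f₂ a c) : Pair f₂ c a := by
  refine ⟨h.2.1, h.1, C.h₂.symm_zero h.2.2.1, fun y e => ?_⟩
  by_cases hy : y = 0
  · rw [hy, zero_smul] at e
    exact h.1.1 e
  · exact h.2.2.2 y⁻¹ (by rw [e, inv_smul_smul₀ hy])

theorem root_pair {a c : Fin l → F} (h : Pair f₂ a c) {z : F} (hz : σ z = -ε₂ * z) :
    El M (z • SOp f₂ a 1 c + z • SOp f₂ c 1 a) := by
  have hz' : σ (-z) = -ε₂ * -z := by rw [map_neg, hz]; ring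
  have h1 := (C.root _ (C.iso_add h) z hz).add (C.root _ h.1 (-z) hz') (by
    simp only [SOp_add_left C.h₂, SOp_add_right C.h₂, smul_mul_assoc, mul_smul_comm, add_mul, SOp_mul C.h₂, h.1.2,
      C.h₂.symm_zero h.2.2.1, h.2.2.1, zero_smul, add_zero, smul_zero])
  have h2 := h1.add (C.root _ h.2.1 (-z) hz') (by
    simp only [SOp_add_left C.h₂, SOp_add_right C.h₂, smul_mul_assoc, mul_smul_comm, add_mul, SOp_mul C.h₂,
      h.2.1.2, C.h₂.symm_zero h.2.2.1, h.2.2.1, zero_smul, add_zero, smul_zero])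
  convert h2 using 1
  simp only [SOp_add_left C.h₂, SOp_add_right C.h₂, smul_add, El.smul_neg_left]
  abel

theorem tau_scalar {a c : Fin l → F} (h : Pair f₂ a c) {z : F} (hz : σ z = -ε₂ * z) :
    Tau M f₂ ε₂ a c (z • 1) (σ z • 1) := by
  unfold Tau
  rw [SOp_smul C.h₂, SOp_smul C.h₂, smul_smul, hz, ← mul_assoc, C.sq_sgn, one_mul]
  exact C.root_pair h hz

end Ctx0

namespace Ctx

variable {M : Subgroup (GL (Fin k × Fin l) F)}

section Basic

variable (C : Ctx σ ε₁ ε₂ f₁ f₂ M)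
include C

theorem tau_mul {a b b' c : Fin l → F} (ha : Iso f₂ a) (hb : Iso f₂ b) (hb' : Iso f₂ b') (hc : Iso f₂ c)
    (hab : f₂ a b = 0) (hac : f₂ a c = 0) (hbc : f₂ b c = 0) (hab' : f₂ a b' = 0) (hb'c : f₂ b' c = 0)
    {Y Y' Z Z' : Module.End F (Fin k → F)} (hY : Tau M f₂ ε₂ a b Y Y') (hZ : Tau M f₂ ε₂ b' c Z Z') :
    Tau M f₂ ε₂ a c (f₂ b' b • (Y * Z)) (σ (f₂ b' b) • (Z' * Y')) := by
  have z1 := C.h₂.symm_zero hab
  have z2 := C.h₂.symm_zero hac
  have z3 := C.h₂.symm_zero hbc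
  have z4 := C.h₂.symm_zero hab'
  have z5 := C.h₂.symm_zero hb'c
  have h := El.comm hY hZ ?_ ?_ ?_ ?_
  · unfold Tau
    convert h using 1
    simp only [add_mul, mul_add, smul_mul_assoc, mul_smul_comm, smul_smul, SOp_mul C.h₂, SOp_smul C.h₂, ha.2, hb.2,
      hb'.2, hc.2, hab, hac, hbc, hab', hb'c, z1, z2, z3, z4, z5, zero_smul, smul_zero, add_zero, zero_add,
      mul_zero, zero_mul]
    rw [C.h₂.herm b' b, ← mul_assoc (-ε₂) (-ε₂), C.sq_sgn, one_mul, sub_eq_add_neg, ← El.smul_neg_left, neg_mul]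
  all_goals
    simp only [add_mul, mul_add, smul_mul_assoc, mul_smul_comm, smul_smul, SOp_mul C.h₂, ha.2, hb.2, hb'.2, hc.2,
      hab, hac, hbc, hab', hb'c, z1, z2, z3, z4, z5, zero_smul, smul_zero, add_zero, zero_add, mul_zero, zero_mul]

theorem tau_swap {a c : Fin l → F} {Y Y' : Module.End F (Fin k → F)} (h : Tau M f₂ ε₂ a c Y Y') :
    Tau M f₂ ε₂ c a ((-ε₂) • Y') ((-ε₂) • Y) := by
  unfold Tau at h ⊢
  rw [SOp_smul C.h₂, SOp_smul C.h₂, smul_smul, C.sq_sgn, one_smul, add_comm]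
  exact h

theorem hop_aux {a b c : Fin l → F} (hab : Pair f₂ a b) (hac : Pair f₂ a c) (hbc : f₂ b c = 0)
    (hb : ∀ x y : F, b ≠ x • a + y • c) {Y Y' : Module.End F (Fin k → F)} (hY : Tau M f₂ ε₂ a b Y Y') :
    Tau M f₂ ε₂ a c Y Y' := by
  obtain ⟨z, hz0, hz⟩ := C.adm
  obtain ⟨b', hb', hb'a, hb'c, hb'b⟩ := C.partner a c b hab.1 hac.2.1 hab.2.1 hac.2.2.1 hb
  set t := (f₂ b' b * z)⁻¹
  have ht : t ≠ 0 := inv_ne_zero (mul_ne_zero hb'b hz0)
  have hp : Pair f₂ (t • b') c := by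
    refine ⟨C.iso_smul hb' ht, hac.2.1, by rw [C.h₂.smul_left, hb'c, mul_zero], fun y e => ?_⟩
    rw [e, smul_smul, C.h₂.smul_right] at hbc
    have hyt : y * t = 0 := by
      have h0 := (mul_eq_zero.1 hbc).resolve_right (fun e0 => hb'b (C.h₂.symm_zero e0))
      exact (map_eq_zero σ).1 h0
    rw [smul_smul, hyt, zero_smul] at e
    exact hac.2.1.1 e
  have := C.tau_mul hab.1 hab.2.1 hp.1 hac.2.1 hab.2.2.1 hac.2.2.1 hbc
    (C.h₂.symm_zero (by rw [C.h₂.smul_left, hb'a, mul_zero])) hp.2.2.1 hY (C.tau_scalar hp hz)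
  have e : f₂ (t • b') b * z = 1 := by
    rw [C.h₂.smul_left, mul_assoc]
    exact inv_mul_cancel₀ (mul_ne_zero hb'b hz0)
  rwa [mul_smul_comm, mul_one, smul_smul, e, one_smul, smul_mul_assoc, one_mul, smul_smul, ← map_mul, e, map_one,
    one_smul] at this

theorem hop {a b c : Fin l → F} (hab : Pair f₂ a b) (hac : Pair f₂ a c) {Y Y' : Module.End F (Fin k → F)}
    (hY : Tau M f₂ ε₂ a b Y Y') : Tau M f₂ ε₂ a c Y Y' := by
  by_cases hbc : f₂ b c = 0
  · by_cases hb : ∀ x y : F, b ≠ x • a + y • c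
    · exact C.hop_aux hab hac hbc hb hY
    · push_neg at hb
      obtain ⟨x, y, hxy⟩ := hb
      have hy : y ≠ 0 := fun e => hab.2.2.2 x (by rw [hxy, e, zero_smul, add_zero])
      obtain ⟨d, hd, hda, hdb, hdi⟩ := C.third a b hab.1 hab.2.1
      have hdc : f₂ d c = 0 := by
        rw [hxy, C.h₂.add_right, C.h₂.smul_right, C.h₂.smul_right, hda, mul_zero, zero_add] at hdb
        exact (mul_eq_zero.1 hdb).resolve_left fun e => hy ((map_eq_zero σ).1 e)
      have had : Pair f₂ a d :=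
        ⟨hab.1, hd, C.h₂.symm_zero hda, fun s e => hdi s 0 (by rw [e, zero_smul, add_zero])⟩
      refine C.hop_aux had hac hdc (fun p r e => ?_) (C.hop_aux hab had (C.h₂.symm_zero hdb) (fun p r e => ?_) hY)
      · refine hdi (p - r * y⁻¹ * x) (r * y⁻¹) ?_
        rw [e, hxy, smul_add, smul_smul, smul_smul, mul_assoc, mul_assoc, inv_mul_cancel₀ hy, mul_one, sub_smul]
        abel
      · by_cases hr : r = 0
        · exact hab.2.2.2 p (by rw [e, hr, zero_smul, add_zero])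
        · refine hdi (-(r⁻¹ * p)) r⁻¹ ?_
          rw [e, smul_add, smul_smul, smul_smul, inv_mul_cancel₀ hr, one_smul, neg_smul, neg_add_cancel_left]
  · obtain ⟨d, hd, hda, hdb, hdc, hdi⟩ := C.four a b c hab.1 hab.2.1 hac.2.1 hab.2.2.1 hac.2.2.1 hbc
    have had : Pair f₂ a d := ⟨hab.1, hd, C.h₂.symm_zero hda, hdi⟩
    refine C.hop_aux had hac hdc (fun p r e => ?_) (C.hop_aux hab had (C.h₂.symm_zero hdb) (fun p r e => ?_) hY)
    · rw [e, C.h₂.add_left, C.h₂.smul_left, C.h₂.smul_left, hab.2.2.1, mul_zero, zero_add] at hdb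
      have hr : r = 0 := (mul_eq_zero.1 hdb).resolve_right fun e0 => hbc (C.h₂.symm_zero e0)
      exact hdi p (by rw [e, hr, zero_smul, add_zero])
    · apply hbc
      rw [e, C.h₂.add_left, C.h₂.smul_left, C.h₂.smul_left, hac.2.2.1, hdc, mul_zero, mul_zero, add_zero]

theorem spread {a₀ c₀ : Fin l → F} (h₀ : Pair f₂ a₀ c₀) {Y Y' : Module.End F (Fin k → F)}
    (hY : Tau M f₂ ε₂ a₀ c₀ Y Y') : TauAll M f₂ ε₂ Y Y' := by
  intro a c hac
  obtain ⟨c₁, hc₁, h1, h2, h3⟩ := C.third a₀ a h₀.1 hac.1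
  have p1 : Pair f₂ a₀ c₁ :=
    ⟨h₀.1, hc₁, C.h₂.symm_zero h1, fun y e => h3 y 0 (by rw [e, zero_smul, add_zero])⟩
  have p2 : Pair f₂ a c₁ :=
    ⟨hac.1, hc₁, C.h₂.symm_zero h2, fun y e => h3 0 y (by rw [e, zero_smul, zero_add])⟩
  have t1 := C.tau_swap (C.hop h₀ p1 hY)
  have t2 := C.tau_swap (C.hop (C.pair_symm p1) (C.pair_symm p2) t1)
  rw [smul_smul, C.sq_sgn, one_smul, smul_smul, C.sq_sgn, one_smul] at t2
  exact C.hop p2 hac t2

theorem tauAll_add {Y Y' Z Z' : Module.End F (Fin k → F)} (hY : TauAll M f₂ ε₂ Y Y') (hZ : TauAll M f₂ ε₂ Z Z') :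
    TauAll M f₂ ε₂ (Y + Z) (Y' + Z') := by
  intro a c h
  have := (hY a c h).add (hZ a c h) (by
    simp only [add_mul, mul_add, smul_mul_assoc, mul_smul_comm, SOp_mul C.h₂, h.1.2, h.2.1.2, h.2.2.1,
      C.h₂.symm_zero h.2.2.1, zero_smul, smul_zero, add_zero])
  unfold Tau
  convert this using 1
  rw [SOp_add C.h₂, SOp_add C.h₂, smul_add]
  abel

theorem tauAll_smul {Y Y' : Module.End F (Fin k → F)} (hY : TauAll M f₂ ε₂ Y Y') (t : F) :
    TauAll M f₂ ε₂ (t • Y) (σ t • Y') := by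
  intro a c h
  unfold Tau
  by_cases ht : t = 0
  · rw [ht, map_zero, zero_smul, zero_smul, SOp_zero C.h₂, SOp_zero C.h₂, smul_zero, add_zero]
    exact El.zero M
  have := hY (t • a) c ⟨C.iso_smul h.1 ht, h.2.1, by rw [C.h₂.smul_left, h.2.2.1, mul_zero], fun y e =>
    h.2.2.2 (y * t) (by rw [e, smul_smul])⟩
  unfold Tau at this
  rwa [SOp_smul_left C.h₂, SOp_smul_right C.h₂, ← SOp_smul C.h₂, ← SOp_smul C.h₂] at this

theorem tauAll_mul {Y Y' Z Z' : Module.End F (Fin k → F)} (hY : TauAll M f₂ ε₂ Y Y') (hZ : TauAll M f₂ ε₂ Z Z') :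
    TauAll M f₂ ε₂ (Y * Z) (Z' * Y') := by
  intro a c h
  obtain ⟨b, hb, hba, hbc, hbi⟩ := C.third a c h.1 h.2.1
  obtain ⟨b', hb', hb'a, hb'c, hb'b⟩ := C.partner a c b h.1 h.2.1 hb h.2.2.1 hbi
  have ht : (f₂ b' b)⁻¹ ≠ 0 := inv_ne_zero hb'b
  have hp : Pair f₂ ((f₂ b' b)⁻¹ • b') c := by
    refine ⟨C.iso_smul hb' ht, h.2.1, by rw [C.h₂.smul_left, hb'c, mul_zero], fun y e => ?_⟩
    rw [e, smul_smul, C.h₂.smul_right] at hbc
    have hyt : y * (f₂ b' b)⁻¹ = 0 := by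
      have h0 := (mul_eq_zero.1 hbc).resolve_right (fun e0 => hb'b (C.h₂.symm_zero e0))
      exact (map_eq_zero σ).1 h0
    rw [smul_smul, hyt, zero_smul] at e
    exact h.2.1.1 e
  have hab : Pair f₂ a b := ⟨h.1, hb, C.h₂.symm_zero hba, fun y e => hbi y 0 (by rw [e, zero_smul, add_zero])⟩
  have := C.tau_mul h.1 hb hp.1 h.2.1 hab.2.2.1 h.2.2.1 hbc
    (C.h₂.symm_zero (by rw [C.h₂.smul_left, hb'a, mul_zero])) hp.2.2.1 (hY a b hab) (hZ _ c hp)
  rwa [C.h₂.smul_left, inv_mul_cancel₀ hb'b, map_one, one_smul, one_smul] at this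

theorem tauAll_one {a c : Fin l → F} (h : Pair f₂ a c) : TauAll M f₂ ε₂ 1 1 := by
  obtain ⟨z, hz0, hz⟩ := C.adm
  have := C.tauAll_smul (C.spread h (C.tau_scalar h hz)) z⁻¹
  rwa [smul_smul, smul_smul, inv_mul_cancel₀ hz0, ← map_mul, inv_mul_cancel₀ hz0, map_one, one_smul] at this

omit C in
theorem kr_left_SOp (h₂ : SForm σ ε₂ f₂) (α : GL (Fin k) F) (a c : Fin l → F) (X : Module.End F (Fin k → F)) :
    Matrix.toLin' (kr α (1 : GL (Fin l) F) : Matrix (Fin k × Fin l) (Fin k × Fin l) F) * SOp f₂ a X c *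
      Matrix.toLin' (((kr α (1 : GL (Fin l) F))⁻¹ : GL (Fin k × Fin l) F) : Matrix (Fin k × Fin l) (Fin k × Fin l) F) =
    SOp f₂ a (Matrix.toLin' (α : Matrix (Fin k) (Fin k) F) * X *
      Matrix.toLin' ((α⁻¹ : GL (Fin k) F) : Matrix (Fin k) (Fin k) F)) c := by
  refine LinearMap.ext fun u => ?_
  simp only [Module.End.mul_apply, SOp_apply, Matrix.toLin'_apply, kr_tp, Units.val_one, Matrix.one_mulVec, kr_inv,
    inv_one]
  congr 3
  rw [tp_decomp u]
  simp only [Matrix.mulVec_sum, map_sum, kr_tp, Units.val_one, Matrix.one_mulVec, Pf_tp h₂, Matrix.mulVec_smul]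

theorem tauAll_conj {Y Y' : Module.End F (Fin k → F)} (hY : TauAll M f₂ ε₂ Y Y') {α : GL (Fin k) F}
    (hα : kr α (1 : GL (Fin l) F) ∈ M) :
    TauAll M f₂ ε₂
      (Matrix.toLin' (α : Matrix (Fin k) (Fin k) F) * Y * Matrix.toLin' ((α⁻¹ : GL (Fin k) F) : Matrix (Fin k) (Fin k) F))
      (Matrix.toLin' (α : Matrix (Fin k) (Fin k) F) * Y' *
        Matrix.toLin' ((α⁻¹ : GL (Fin k) F) : Matrix (Fin k) (Fin k) F)) := by
  intro a c h
  have := El.conj (hY a c h) hα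
  unfold Tau
  rwa [mul_add, add_mul, mul_smul_comm, smul_mul_assoc, kr_left_SOp C.h₂, kr_left_SOp C.h₂] at this

end Basic

/-- The operators with all root elements are scalar. -/
def Crit (M : Subgroup (GL (Fin k × Fin l) F)) (f₁ : (Fin k → F) → (Fin k → F) → F)
    (f₂ : (Fin l → F) → (Fin l → F) → F) (ε₂ : F) : Prop :=
  ∀ Y Y', IsAdj f₁ Y Y' → TauAll M f₂ ε₂ Y Y' → ∃ y : F, Y = y • 1

section Main

variable (C : Ctx σ ε₁ ε₂ f₁ f₂ M) (hcrit : Crit M f₁ f₂ ε₂)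
include C hcrit

theorem centre_scalar {a : Fin l → F} (ha : Iso f₂ a) {Z : Module.End F (Fin k → F)}
    (hadj : IsAdj f₁ Z ((-ε₂) • Z)) (hZ : El M (SOp f₂ a Z a)) : ∃ y : F, Z = y • 1 := by
  have hmove : ∀ c, Iso f₂ c → El M (SOp f₂ c Z c) := by
    intro c hc
    obtain ⟨β, hβM, hβ, hβa⟩ := C.move a c ha hc
    have h := El.conj hZ hβM
    convert h using 1
    refine LinearMap.ext fun u => ?_
    simp only [Module.End.mul_apply, SOp_apply, Matrix.toLin'_apply, kr_tp, Units.val_one, Matrix.one_mulVec, kr_inv,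
      inv_one, hβa]
    congr 2
    rw [tp_decomp u]
    simp only [Matrix.mulVec_sum, map_sum, kr_tp, Units.val_one, Matrix.one_mulVec, Pf_tp C.h₂]
    refine Finset.sum_congr rfl fun i _ => ?_
    conv_lhs => rw [← act_inv_act β (fun j => u (i, j)), ← hβa, hβ]
  obtain ⟨e, he, hea, -, hei⟩ := C.third a a ha ha
  have hp : Pair f₂ a e := ⟨ha, he, C.h₂.symm_zero hea, fun y h => hei y 0 (by rw [h, zero_smul, add_zero])⟩
  have hneg : ∀ c, Iso f₂ c → El M (SOp f₂ c (-Z) c) := by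
    intro c hc
    obtain ⟨g, hg, hgN⟩ := hmove c hc
    refine ⟨g⁻¹, M.inv_mem hg, ?_⟩
    rw [El.lin_inv g hgN (by rw [SOp_mul C.h₂, hc.2, zero_smul]), sub_eq_add_neg, neg_SOp]
  have h1 := (hmove _ (C.iso_add hp)).add (hneg a ha) (by
    simp only [SOp_add_left C.h₂, SOp_add_right C.h₂, mul_neg, add_mul, SOp_mul C.h₂, ha.2, hea, hp.2.2.1,
      zero_smul, add_zero, neg_zero])
  have h2 := h1.add (hneg e he) (by
    simp only [SOp_add_left C.h₂, SOp_add_right C.h₂, mul_neg, neg_mul, add_mul, SOp_mul C.h₂, he.2, hea, hp.2.2.1,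
      zero_smul, add_zero, neg_zero])
  refine hcrit Z _ hadj (C.spread hp ?_)
  unfold Tau
  convert h2 using 1
  simp only [SOp_add_left C.h₂, SOp_add_right C.h₂, SOp_smul C.h₂, smul_smul, C.sq_sgn, one_smul, ← neg_SOp]
  abel

theorem rho_scalar {a e : Fin l → F} (h : Pair f₂ a e) {t : F} (ht : t ≠ 0) (hts : σ t = -ε₂ * t)
    {X X' : Module.End F (Fin k → F)} (hadj : IsAdj f₁ X X')
    (hρ : El M (t • (SOp f₂ a X e + SOp f₂ e X' a + SOp f₂ a (X * X') a))) : ∃ y : F, X = y • 1 := by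
  obtain ⟨z, hz0, hz⟩ := C.adm
  obtain ⟨c, hc, hca, hce, hci⟩ := C.third a e h.1 h.2.1
  have hac : Pair f₂ a c := ⟨h.1, hc, C.h₂.symm_zero hca, fun y e0 => hci y 0 (by rw [e0, zero_smul, add_zero])⟩
  obtain ⟨b', hb', hb'a, hb'c, hb'e⟩ := C.partner a c e h.1 hc h.2.1 hac.2.2.1 (fun x y e0 => by
    by_cases hy : y = 0
    · exact h.2.2.2 x (by rw [e0, hy, zero_smul, add_zero])
    · refine hci (-(y⁻¹ * x)) y⁻¹ ?_
      rw [e0, smul_add, smul_smul, smul_smul, inv_mul_cancel₀ hy, one_smul, neg_smul, neg_add_cancel_left])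
  have hp : Pair f₂ b' c := ⟨hb', hc, hb'c, fun y e0 => by
    rw [e0, C.h₂.smul_left] at hce
    rcases mul_eq_zero.1 hce with h0 | h0
    · rw [h0, zero_smul] at e0
      exact hc.1 e0
    · exact hb'e h0⟩
  have z1 := C.h₂.symm_zero h.2.2.1
  have z2 := C.h₂.symm_zero hca
  have z3 := C.h₂.symm_zero hce
  have z4 := C.h₂.symm_zero hb'a
  have z5 := C.h₂.symm_zero hb'c
  have hM : El M (z • (SOp f₂ c 1 b' + SOp f₂ b' 1 c + SOp f₂ c 1 c)) := by
    have hz' : σ (-z) = -ε₂ * -z := by rw [map_neg, hz]; ring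
    have h1 := (C.root _ (C.iso_add hp) z hz).add (C.root _ hb' (-z) hz') (by
      simp only [SOp_add_left C.h₂, SOp_add_right C.h₂, smul_mul_assoc, mul_smul_comm, add_mul, SOp_mul C.h₂,
        hb'.2, hb'c, z5, zero_smul, add_zero, smul_zero])
    convert h1 using 1
    simp only [SOp_add_left C.h₂, SOp_add_right C.h₂, smul_add, El.smul_neg_left]
    abel
  have hcomm := El.comm hρ hM ?_ ?_ ?_ ?_
  · set y₀ := t * z * f₂ b' e with hy₀
    have hy0 : y₀ ≠ 0 := mul_ne_zero (mul_ne_zero ht hz0) hb'e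
    obtain ⟨y, hy⟩ := hcrit _ _ (IsAdj.smul C.h₁ y₀ hadj) (C.spread hac (by
      unfold Tau
      convert hcomm using 1
      simp only [add_mul, mul_add, smul_mul_assoc, mul_smul_comm, smul_add, smul_smul, SOp_mul C.h₂, SOp_smul C.h₂,
        h.1.2, h.2.1.2, hb'.2, hc.2, h.2.2.1, hca, hce, hb'a, hb'c, z1, z2, z3, z4, z5, one_mul, mul_one, zero_smul,
        smul_zero, add_zero, zero_add, mul_zero, zero_mul, sub_eq_add_neg, ← neg_smul]
      rw [hy₀, map_mul, map_mul, hts, hz, C.h₂.herm b' e]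
      congr 1
      · congr 1; ring
      · congr 1
        linear_combination (-ε₂ * t * z * σ (f₂ b' e)) * C.sq_sgn))
    exact ⟨y₀⁻¹ * y, by rw [← smul_smul, ← hy, inv_smul_smul₀ hy0]⟩
  all_goals
    simp only [add_mul, mul_add, smul_mul_assoc, mul_smul_comm, smul_add, smul_smul, SOp_mul C.h₂, h.1.2, h.2.1.2,
      hb'.2, hc.2, h.2.2.1, hca, hce, hb'a, hb'c, z1, z2, z3, z4, z5, zero_smul, smul_zero, add_zero, zero_add,
      mul_zero, zero_mul]

end Main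

end Ctx

namespace Ctx0

variable {M : Subgroup (GL (Fin k × Fin l) F)}

/-- Central root operators in `M` are scalar. -/
def CentreScalar (M : Subgroup (GL (Fin k × Fin l) F)) (f₁ : (Fin k → F) → (Fin k → F) → F)
    (f₂ : (Fin l → F) → (Fin l → F) → F) (ε₂ : F) : Prop :=
  ∀ a, Iso f₂ a → ∀ Z, IsAdj f₁ Z ((-ε₂) • Z) → El M (SOp f₂ a Z a) → ∃ y : F, Z = y • 1

/-- The conjugates of roots in `M` come from scalar operators. -/
def RhoScalar (M : Subgroup (GL (Fin k × Fin l) F)) (σ : F →+* F) (f₁ : (Fin k → F) → (Fin k → F) → F)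
    (f₂ : (Fin l → F) → (Fin l → F) → F) (ε₂ : F) : Prop :=
  ∀ a e, Pair f₂ a e → ∀ t : F, t ≠ 0 → σ t = -ε₂ * t → ∀ X X', IsAdj f₁ X X' →
    El M (t • (SOp f₂ a X e + SOp f₂ e X' a + SOp f₂ a (X * X') a)) → ∃ y : F, X = y • 1

section Main

variable (C : Ctx0 σ ε₁ ε₂ f₁ f₂ M) (K₁ : CentreScalar M f₁ f₂ ε₂) (K₂ : RhoScalar M σ f₁ f₂ ε₂)
include C

/-- The contraction of `g (· ⊗ c)` with `f₂ (·, z)`. -/
noncomputable def blk (f₂ : (Fin l → F) → (Fin l → F) → F) (g : GL (Fin k × Fin l) F) (z c : Fin l → F) :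
    Module.End F (Fin k → F) :=
  (Pf f₂ k z).comp ((Matrix.toLin' (g : Matrix (Fin k × Fin l) (Fin k × Fin l) F)).comp (J c))

theorem blk_adj {g : GL (Fin k × Fin l) F} (hg : g ∈ M) (z c : Fin l → F) :
    IsAdj f₁ (blk f₂ g z c) (ε₂ • blk f₂ g⁻¹ c z) := by
  intro v x
  have h1 := C.pres g hg (tp v c) (((g⁻¹ : GL (Fin k × Fin l) F) : Matrix (Fin k × Fin l) (Fin k × Fin l) F) *ᵥ tp x z)
  rw [act_inv_act, tForm_right C.h₂ C.h₁, tForm_left C.h₂ C.h₁, tForm_right C.h₂ C.h₁] at h1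
  rw [LinearMap.smul_apply, C.h₁.smul_right, C.h₁.herm _ v]
  simp only [blk, LinearMap.comp_apply, Matrix.toLin'_apply, J_apply]
  rw [h1]
  rcases C.sgn with h | h <;> simp [h]

theorem pres_left {g : GL (Fin k × Fin l) F} (hg : g ∈ M) (c : Fin l → F) (u : Fin k × Fin l → F) (v : Fin k → F) :
    f₁ (Pf f₂ k c (((g⁻¹ : GL (Fin k × Fin l) F) : Matrix (Fin k × Fin l) (Fin k × Fin l) F) *ᵥ u)) v =
      tForm σ f₁ f₂ u ((g : Matrix (Fin k × Fin l) (Fin k × Fin l) F) *ᵥ tp v c) := by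
  rw [← tForm_right C.h₂ C.h₁, ← C.pres g hg, act_inv_act]

theorem eq_of_right {x y : Fin k → F} (e : ∀ v, f₁ x v = f₁ y v) : x = y :=
  sub_eq_zero.1 (C.h₁.nd _ fun v => by rw [C.h₁.sub_left, e, sub_self])

theorem Pf_inv {a : Fin l → F} {g : GL (Fin k × Fin l) F} (hg : g ∈ M) {α α' : Module.End F (Fin k → F)}
    (hga : ∀ v, (g : Matrix (Fin k × Fin l) (Fin k × Fin l) F) *ᵥ tp v a = tp (α v) a)
    (hadj : IsAdj f₁ α α') (u : Fin k × Fin l → F) :
    Pf f₂ k a (((g⁻¹ : GL (Fin k × Fin l) F) : Matrix (Fin k × Fin l) (Fin k × Fin l) F) *ᵥ u) =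
      α' (Pf f₂ k a u) :=
  C.eq_of_right fun v => by rw [C.pres_left hg, hga, tForm_right C.h₂ C.h₁, ← (hadj.symm C.h₁)]

include K₁ K₂

theorem contraction {a b e : Fin l → F} (hab : Pair f₂ a b) (hae : Pair f₂ a e) {g : GL (Fin k × Fin l) F}
    (hg : g ∈ M) {α α' αi : Module.End F (Fin k → F)}
    (hga : ∀ v, (g : Matrix (Fin k × Fin l) (Fin k × Fin l) F) *ᵥ tp v a = tp (α v) a)
    (hadj : IsAdj f₁ α α') (hαi : αi * α = 1) : ∃ y : F, blk f₂ g⁻¹ b e = y • αi := by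
  obtain ⟨z, hz0, hz⟩ := C.adm
  set X : Module.End F (Fin k → F) := z • (α * blk f₂ g⁻¹ b e) with hX
  have hXadj : IsAdj f₁ X (σ z • ((ε₂ • blk f₂ g⁻¹⁻¹ e b) * α')) :=
    (hadj.mul (C.blk_adj (M.inv_mem hg) b e)).smul C.h₁ z
  set X' := σ z • ((ε₂ • blk f₂ g⁻¹⁻¹ e b) * α')
  obtain ⟨r, hr, hrN⟩ := El.conj (C.root_pair hab hz) hg
  have hre : ∀ v, (r : Matrix (Fin k × Fin l) (Fin k × Fin l) F) *ᵥ tp v e = tp v e + tp (X v) a := by
    intro v
    rw [← Matrix.toLin'_apply, hrN]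
    simp only [LinearMap.add_apply, Module.End.one_apply, Module.End.mul_apply, LinearMap.smul_apply,
      SOp_apply, Matrix.toLin'_apply, Matrix.mulVec_add, Matrix.mulVec_smul]
    rw [C.Pf_inv hg hga hadj, Pf_tp C.h₂, C.h₂.symm_zero hae.2.2.1, zero_smul, map_zero, tp_zero_left,
      Matrix.mulVec_zero, smul_zero, add_zero, hga, ← tp_smul_left]
    rfl
  have hconj := El.conj (C.root e hae.2.1 z hz) hr
  have hz' : σ (-z) = -ε₂ * -z := by rw [map_neg, hz]; ring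
  have key : Matrix.toLin' (r : Matrix (Fin k × Fin l) (Fin k × Fin l) F) * (z • SOp f₂ e 1 e) *
      Matrix.toLin' ((r⁻¹ : GL (Fin k × Fin l) F) : Matrix (Fin k × Fin l) (Fin k × Fin l) F) =
      z • (SOp f₂ e 1 e + SOp f₂ a X e + SOp f₂ e X' a + SOp f₂ a (X * X') a) := by
    rw [mul_smul_comm, smul_mul_assoc]
    congr 1
    refine LinearMap.ext fun u => ?_
    have hP : Pf f₂ k e (((r⁻¹ : GL (Fin k × Fin l) F) : Matrix (Fin k × Fin l) (Fin k × Fin l) F) *ᵥ u) =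
        Pf f₂ k e u + X' (Pf f₂ k a u) := C.eq_of_right fun v => by
      rw [C.pres_left hr, hre, tForm_add_right, tForm_right C.h₂ C.h₁, tForm_right C.h₂ C.h₁, C.h₁.add_left,
        (hXadj.symm C.h₁)]
    simp only [Module.End.mul_apply, SOp_apply, Matrix.toLin'_apply, LinearMap.add_apply, Module.End.one_apply, hre,
      hP, map_add, tp_add_left]
    abel
  rw [key] at hconj
  have hρ := hconj.add (C.root e hae.2.1 (-z) hz') (by
    simp only [add_mul, smul_mul_assoc, mul_smul_comm, smul_add, SOp_mul C.h₂, hae.2.1.2,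
      C.h₂.symm_zero hae.2.2.1, zero_smul, smul_zero, add_zero])
  obtain ⟨y, hy⟩ := K₂ a e hae z hz0 hz X X' hXadj (by
    convert hρ using 1
    simp only [smul_add, El.smul_neg_left]
    abel)
  refine ⟨z⁻¹ * y, ?_⟩
  calc blk f₂ g⁻¹ b e = αi * (α * blk f₂ g⁻¹ b e) := by rw [← mul_assoc, hαi, one_mul]
    _ = αi * ((z⁻¹ * y) • 1) := by rw [← smul_smul, ← hy, hX, inv_smul_smul₀ hz0]
    _ = _ := by rw [mul_smul_comm, mul_one]

/-- An element fixing the ruler at `a` maps the orthogonal rulers to rulers, with the same first factor. -/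
theorem ruler_core {a : Fin l → F} (ha : Iso f₂ a) {g : GL (Fin k × Fin l) F} (hg : g ∈ M)
    (hmap : MapsRuler g a a) : ∃ α : Module.End F (Fin k → F), Function.Injective α ∧
      ∀ c, Iso f₂ c → f₂ c a = 0 →
        ∃ d, ∀ v, (g : Matrix (Fin k × Fin l) (Fin k × Fin l) F) *ᵥ tp v c = tp (α v) d := by
  classical
  obtain ⟨as, has⟩ : ∃ as, f₂ a as = 1 := by
    obtain ⟨y, hy⟩ : ∃ y, f₂ a y ≠ 0 := by
      by_contra! h0
      exact ha.1 (C.h₂.nd a h0)
    exact ⟨σ ((f₂ a y)⁻¹) • y, by rw [C.h₂.smul_right, C.h₂.invol, inv_mul_cancel₀ hy]⟩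
  set α := blk f₂ g as a with hα
  set αi := blk f₂ g⁻¹ as a with hαidef
  have hga : ∀ v, (g : Matrix (Fin k × Fin l) (Fin k × Fin l) F) *ᵥ tp v a = tp (α v) a := by
    intro v
    obtain ⟨w, hw⟩ := hmap v
    rw [hw]
    congr 1
    simp only [hα, blk, LinearMap.comp_apply, Matrix.toLin'_apply, J_apply, hw, Pf_tp C.h₂, has, one_smul]
  have hinj : Function.Injective α := fun v w e => J_injective ha.1 (act_injective g (by
    show (g : Matrix (Fin k × Fin l) (Fin k × Fin l) F) *ᵥ tp v a = (g : Matrix (Fin k × Fin l) (Fin k × Fin l) F) *ᵥ tp w a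
    rw [hga, hga, e]))
  have hgia' : ∀ w, ((g⁻¹ : GL (Fin k × Fin l) F) : Matrix (Fin k × Fin l) (Fin k × Fin l) F) *ᵥ tp (α w) a = tp w a :=
    fun w => by rw [← hga, inv_act_act]
  have hαi : αi * α = 1 := LinearMap.ext fun v => by
    simp only [Module.End.mul_apply, hαidef, blk, LinearMap.comp_apply, Matrix.toLin'_apply, J_apply, hgia',
      Pf_tp C.h₂, has, one_smul, Module.End.one_apply]
  have hαi' : α * αi = 1 := mul_eq_one_comm.1 hαi
  have hgia : ∀ v, ((g⁻¹ : GL (Fin k × Fin l) F) : Matrix (Fin k × Fin l) (Fin k × Fin l) F) *ᵥ tp v a = tp (αi v) a := by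
    intro v
    conv_lhs => rw [← LinearMap.congr_fun hαi' v |>.trans (Module.End.one_apply v)]
    rw [Module.End.mul_apply, hgia']
  obtain ⟨α', hadj⟩ : ∃ α', IsAdj f₁ α α' := ⟨_, C.blk_adj hg as a⟩
  obtain ⟨αi', hadji⟩ : ∃ αi', IsAdj f₁ αi αi' := ⟨_, C.blk_adj (M.inv_mem hg) as a⟩
  obtain ⟨κ, hκ⟩ : ∃ κ : F, α * α' = κ • 1 := by
    obtain ⟨z, hz0, hz⟩ := C.adm
    have h := El.conj (C.root a ha z hz) hg
    have e : Matrix.toLin' (g : Matrix (Fin k × Fin l) (Fin k × Fin l) F) * (z • SOp f₂ a 1 a) *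
        Matrix.toLin' ((g⁻¹ : GL (Fin k × Fin l) F) : Matrix (Fin k × Fin l) (Fin k × Fin l) F) =
        SOp f₂ a (z • (α * α')) a := by
      rw [SOp_smul C.h₂, mul_smul_comm, smul_mul_assoc]
      congr 1
      refine LinearMap.ext fun u => ?_
      simp only [Module.End.mul_apply, SOp_apply, Matrix.toLin'_apply, Module.End.one_apply,
        C.Pf_inv hg hga hadj, hga]
    rw [e] at h
    have hsa : IsAdj f₁ (z • (α * α')) ((-ε₂) • (z • (α * α'))) := by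
      have := (hadj.mul (hadj.symm C.h₁)).smul C.h₁ z
      rwa [hz, ← smul_smul] at this
    obtain ⟨y, hy⟩ := K₁ a ha _ hsa h
    exact ⟨z⁻¹ * y, by rw [← smul_smul, ← hy, inv_smul_smul₀ hz0]⟩
  have hunit : α' * αi' = 1 := (hαi ▸ hadji.mul hadj).unique C.h₁ IsAdj.one
  have hα'eq : α' = κ • αi := by
    calc α' = αi * (α * α') := by rw [← mul_assoc, hαi, one_mul]
      _ = _ := by rw [hκ, mul_smul_comm, mul_one]
  obtain ⟨v₀, hv₀⟩ : ∃ v₀ : Fin k → F, v₀ ≠ 0 := ⟨Pi.single ⟨0, C.hk⟩ 1, by simp⟩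
  have hκ0 : κ ≠ 0 := fun e => hv₀ (by
    have h := LinearMap.congr_fun hunit v₀
    rw [hα'eq, e, zero_smul, zero_mul, LinearMap.zero_apply, Module.End.one_apply] at h
    exact h.symm)
  have hκσ : σ κ = κ := by
    have h := (hκ ▸ hadj.mul (hadj.symm C.h₁) : IsAdj f₁ (κ • 1) (κ • 1))
    have h' := (IsAdj.one (f := f₁)).smul C.h₁ κ
    have e := LinearMap.congr_fun (h'.unique C.h₁ h) v₀
    simp only [LinearMap.smul_apply, Module.End.one_apply] at e
    exact smul_left_injective F hv₀ e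
  refine ⟨α, hinj, fun c hc hca => ?_⟩
  by_cases hcd : ∃ y : F, c = y • a
  · obtain ⟨y, rfl⟩ := hcd
    exact ⟨y • a, fun v => by rw [tp_smul_right, Matrix.mulVec_smul, hga, tp_smul_right]⟩
  push_neg at hcd
  have hac : Pair f₂ a c := ⟨ha, hc, C.h₂.symm_zero hca, hcd⟩
  -- all contractions are multiples of `α`
  have hblk : ∀ b, f₂ b b = 0 → f₂ b a = 0 → ∃ μ : F, blk f₂ g b c = μ • α := by
    intro b hbb hba
    by_cases hb : ∃ y : F, b = y • a
    · obtain ⟨y, rfl⟩ := hb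
      refine ⟨0, LinearMap.ext fun v => ?_⟩
      have := C.Pf_inv (M.inv_mem hg) hgia hadji (tp v c)
      rw [inv_inv] at this
      simp only [blk, LinearMap.comp_apply, Matrix.toLin'_apply, J_apply, Pf_smul C.h₂, this, Pf_tp C.h₂,
        C.h₂.symm_zero hac.2.2.1, zero_smul, map_zero, smul_zero, LinearMap.zero_apply]
    · push_neg at hb
      have hbi : Iso f₂ b := ⟨fun e => hb 0 (by rw [e, zero_smul]), hbb⟩
      obtain ⟨y, hy⟩ := C.contraction K₁ K₂ (b := b) (e := c) ⟨ha, hbi, C.h₂.symm_zero hba, hb⟩ hac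
        (M.inv_mem hg) hgia hadji hαi'
      rw [inv_inv] at hy
      exact ⟨y, hy⟩
  set X := blk f₂ g as c with hXdef
  set R : (Fin k → F) → Fin k × Fin l → F := fun w =>
    (g : Matrix (Fin k × Fin l) (Fin k × Fin l) F) *ᵥ tp (αi w) c - tp (X (αi w)) a with hR
  have hRas : ∀ w i, f₂ (fun j => R w (i, j)) as = 0 := by
    intro w i
    rw [← Pf_apply C.h₂]
    simp only [hR, map_sub, Pf_tp C.h₂, has, one_smul]
    simp [hXdef, blk, J_apply]
  have hRb : ∀ b, f₂ b b = 0 → f₂ b a = 0 → ∃ μ : F, ∀ w i, f₂ (fun j => R w (i, j)) b = μ * w i := by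
    intro b hbb hba
    obtain ⟨μ, hμ⟩ := hblk b hbb hba
    refine ⟨μ, fun w i => ?_⟩
    rw [← Pf_apply C.h₂]
    have e := LinearMap.congr_fun hμ (αi w)
    simp only [blk, LinearMap.comp_apply, Matrix.toLin'_apply, J_apply, LinearMap.smul_apply] at e
    rw [show α (αi w) = w from (LinearMap.congr_fun hαi' w)] at e
    simp only [hR, map_sub, Pf_tp C.h₂, C.h₂.symm_zero hba, zero_smul, sub_zero, e, Pi.smul_apply, smul_eq_mul]
  let i₀ : Fin k := ⟨0, C.hk⟩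
  set d : Fin l → F := fun j => R (Pi.single i₀ 1) (i₀, j) with hd
  have hRd : ∀ w, R w = tp w d := by
    intro w
    have hrow : ∀ i, (fun j => R w (i, j)) - w i • d = 0 := by
      intro i
      obtain ⟨y, hy⟩ := C.span_perp a ha ((fun j => R w (i, j)) - w i • d) (fun b hbb hba => by
        obtain ⟨μ, hμ⟩ := hRb b hbb hba
        rw [C.h₂.sub_left, C.h₂.smul_left, hd, hμ, hμ, Pi.single_eq_same, mul_one, mul_comm, sub_self])
      have e := congrArg (fun x => f₂ x as) hy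
      simp only [C.h₂.sub_left, C.h₂.smul_left, hd, hRas, has, mul_zero, sub_zero, mul_one] at e
      rw [hy, ← e, zero_smul]
    funext p
    have := congrFun (sub_eq_zero.1 (hrow p.1)) p.2
    simpa [tp, mul_comm] using this
  have hgc : ∀ v, (g : Matrix (Fin k × Fin l) (Fin k × Fin l) F) *ᵥ tp v c = tp (α v) d + tp (X v) a := by
    intro v
    have e := hRd (α v)
    simp only [hR] at e
    rw [show αi (α v) = v from LinearMap.congr_fun hαi v, sub_eq_iff_eq_add] at e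
    exact e
  have hda : f₂ d a = 0 := by
    obtain ⟨μ, hμ⟩ := hRb a ha.2 ha.2
    have h1 : f₂ d a = μ * 1 := by rw [hd, hμ, Pi.single_eq_same]
    have h2 := C.Pf_inv (M.inv_mem hg) hgia hadji (tp v₀ c)
    rw [inv_inv, hgc, map_add, Pf_tp C.h₂, Pf_tp C.h₂, Pf_tp C.h₂, ha.2, zero_smul, add_zero,
      C.h₂.symm_zero hac.2.2.1, zero_smul, map_zero] at h2
    refine (smul_eq_zero.1 h2).resolve_right fun e => hv₀ (hinj ?_)
    rw [e, map_zero]
  have hdd : f₂ d d = 0 := by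
    obtain ⟨y, hy⟩ : ∃ y, f₁ (α v₀) y ≠ 0 := by
      by_contra! h0
      exact hv₀ (hinj (by rw [C.h₁.nd _ h0, map_zero]))
    have h := C.pres g hg (tp v₀ c) (tp (αi y) c)
    rw [hgc, hgc, show α (αi y) = y from LinearMap.congr_fun hαi' y, tForm_add_left, tForm_tp C.h₂ C.h₁, hc.2,
      mul_zero] at h
    have hsplit : ∀ p q r s, tForm σ f₁ f₂ (tp p q) (tp r d + tp s a) = f₁ p r * f₂ q d + f₁ p s * f₂ q a := by
      intro p q r s
      rw [← tForm_tp C.h₂ C.h₁, ← tForm_tp C.h₂ C.h₁]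
      simp only [tForm, Cfsg.Geo.formOfGram, Pi.add_apply, map_add, mul_add, Finset.sum_add_distrib]
    rw [hsplit, hsplit, hda, C.h₂.symm_zero hda, ha.2] at h
    simpa [hy] using h
  have hdne : ∀ y : F, d ≠ y • a := by
    intro y e
    have h1 : tp v₀ c = tp (αi (y • α v₀ + X v₀)) a := by
      apply act_injective g
      show _ *ᵥ _ = _ *ᵥ _
      rw [hgc, e, hga, show α (αi (y • α v₀ + X v₀)) = y • α v₀ + X v₀ from LinearMap.congr_fun hαi' _,
        tp_add_left, tp_smul_left, tp_smul_right]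
    obtain ⟨i, hi⟩ := Function.ne_iff.1 hv₀
    have := congrArg (fun u : Fin k × Fin l → F => fun j => u (i, j)) h1
    refine hcd ((v₀ i)⁻¹ * αi (y • α v₀ + X v₀) i) (funext fun j => ?_)
    have hj := congrFun this j
    simp only [tp] at hj
    rw [Pi.smul_apply, smul_eq_mul, mul_assoc, ← hj, inv_mul_cancel_left₀ hi]
  have had : Pair f₂ a d := ⟨ha, ⟨fun e => hdne 0 (by rw [e, zero_smul]), hdd⟩, C.h₂.symm_zero hda, hdne⟩
  obtain ⟨X', hXadj⟩ : ∃ X', IsAdj f₁ X X' := ⟨_, C.blk_adj hg as c⟩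
  obtain ⟨z, hz0, hz⟩ := C.adm
  have key : Matrix.toLin' (g : Matrix (Fin k × Fin l) (Fin k × Fin l) F) * (z • SOp f₂ c 1 c) *
      Matrix.toLin' ((g⁻¹ : GL (Fin k × Fin l) F) : Matrix (Fin k × Fin l) (Fin k × Fin l) F) =
      z • (SOp f₂ d (α * α') d + SOp f₂ d (α * X') a + SOp f₂ a (X * α') d + SOp f₂ a (X * X') a) := by
    rw [mul_smul_comm, smul_mul_assoc]
    congr 1
    refine LinearMap.ext fun u => ?_
    have hP : Pf f₂ k c (((g⁻¹ : GL (Fin k × Fin l) F) : Matrix (Fin k × Fin l) (Fin k × Fin l) F) *ᵥ u) =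
        α' (Pf f₂ k d u) + X' (Pf f₂ k a u) := C.eq_of_right fun v => by
      rw [C.pres_left hg, hgc, C.h₁.add_left, (hadj.symm C.h₁), (hXadj.symm C.h₁), ← tForm_right C.h₂ C.h₁,
        ← tForm_right C.h₂ C.h₁]
      simp only [tForm, Cfsg.Geo.formOfGram, Pi.add_apply, map_add, mul_add, Finset.sum_add_distrib]
    simp only [Module.End.mul_apply, SOp_apply, Matrix.toLin'_apply, LinearMap.add_apply, Module.End.one_apply, hgc,
      hP, map_add, tp_add_left]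
    abel
  have hconj := El.conj (C.root c hc z hz) hg
  rw [key] at hconj
  have hz' : σ (-(z * κ)) = -ε₂ * -(z * κ) := by rw [map_neg, map_mul, hz, hκσ]; ring
  have hρ := hconj.add (C.root d had.2.1 (-(z * κ)) hz') (by
    simp only [add_mul, smul_mul_assoc, mul_smul_comm, smul_add, SOp_mul C.h₂, hdd, hda, zero_smul, smul_zero,
      add_zero])
  have hYadj : IsAdj f₁ (X * αi) (κ⁻¹ • (α * X')) := by
    have := (hXadj.mul (hadj.symm C.h₁)).smul C.h₁ κ⁻¹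
    rwa [map_inv₀, hκσ, hα'eq, mul_smul_comm, smul_smul, inv_mul_cancel₀ hκ0, one_smul] at this
  obtain ⟨ν, hν⟩ := K₂ a d had (z * κ) (mul_ne_zero hz0 hκ0)
    (by rw [map_mul, hz, hκσ]; ring) _ _ hYadj (by
    convert hρ using 1
    rw [hκ, hα'eq, mul_smul_comm, mul_smul_comm, mul_assoc X αi, ← mul_assoc αi α, hαi, one_mul]
    simp only [SOp_smul C.h₂, smul_add, smul_smul, El.smul_neg_left, mul_assoc, mul_inv_cancel₀ hκ0, mul_one]
    abel)
  refine ⟨d + ν • a, fun v => ?_⟩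
  have hX' : X v = ν • α v := by
    have := LinearMap.congr_fun hν (α v)
    simpa [show αi (α v) = v from LinearMap.congr_fun hαi v] using this
  rw [hgc, hX', tp_add_right, tp_smul_left, tp_smul_right]

/-- Mapping one isotropic ruler to a ruler forces membership in the tensor stabiliser. -/
theorem mem_kron {a c : Fin l → F} (ha : Iso f₂ a) {g : GL (Fin k × Fin l) F} (hg : g ∈ M)
    (hmap : MapsRuler g a c) : g ∈ Cfsg.Geo.kroneckerSubgroup k l F := by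
  classical
  obtain ⟨v₀, hv₀⟩ : ∃ v₀ : Fin k → F, v₀ ≠ 0 := ⟨Pi.single ⟨0, C.hk⟩ 1, by simp⟩
  choose w hw using hmap
  have hwne : ∀ v, v ≠ 0 → w v ≠ 0 ∧ c ≠ 0 := by
    intro v hv
    have : (g : Matrix (Fin k × Fin l) (Fin k × Fin l) F) *ᵥ tp v a ≠ 0 :=
      act_ne_zero g fun e => hv (J_injective ha.1 (by rw [J_apply, e, map_zero]))
    refine ⟨fun e => this (by rw [hw, e, tp_zero_left]), fun e => this (by rw [hw, e, tp_zero_right])⟩
  have hc0 : c ≠ 0 := (hwne v₀ hv₀).2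
  have hc : Iso f₂ c := by
    refine ⟨hc0, ?_⟩
    -- the image ruler is totally isotropic
    by_contra hcc
    have h : ∀ x v, f₁ (w x) (w v) = 0 := fun x v => by
      have e := C.pres g hg (tp x a) (tp v a)
      rw [hw, hw, tForm_tp C.h₂ C.h₁, tForm_tp C.h₂ C.h₁, ha.2, mul_zero] at e
      exact (mul_eq_zero.1 e).resolve_right hcc
    obtain ⟨cs, hcs⟩ : ∃ cs, f₂ c cs = 1 := by
      obtain ⟨y, hy⟩ : ∃ y, f₂ c y ≠ 0 := by
        by_contra! h0
        exact hc0 (C.h₂.nd c h0)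
      exact ⟨σ ((f₂ c y)⁻¹) • y, by rw [C.h₂.smul_right, C.h₂.invol, inv_mul_cancel₀ hy]⟩
    have hlin : ∀ v, blk f₂ g cs a v = w v := fun v => by
      simp only [blk, LinearMap.comp_apply, Matrix.toLin'_apply, J_apply, hw, Pf_tp C.h₂, hcs, one_smul]
    have hsurj : Function.Surjective (blk f₂ g cs a) := LinearMap.surjective_of_injective (fun x y e => by
      rw [hlin, hlin] at e
      refine J_injective ha.1 (act_injective g ?_)
      show _ *ᵥ tp x a = _ *ᵥ tp y a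
      rw [hw, hw, e])
    exact (hwne v₀ hv₀).1 (C.h₁.nd _ fun y => by
      obtain ⟨x, rfl⟩ := hsurj y
      rw [hlin]
      exact h v₀ x)
  obtain ⟨β, hβM, -, hβc⟩ := C.move c a hc ha
  set g' := kr (1 : GL (Fin k) F) β * g with hg'
  have hg'M : g' ∈ M := M.mul_mem hβM hg
  have hmap' : MapsRuler g' a a := fun v => ⟨w v, by
    rw [hg', mul_act, hw, kr_tp, Units.val_one, Matrix.one_mulVec, hβc]⟩
  obtain ⟨α, hα, hcore⟩ := C.ruler_core K₁ K₂ ha hg'M hmap'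
  let S : Submodule F (Fin l → F) :=
    { carrier := {x | ∃ d, ∀ v, (g' : Matrix (Fin k × Fin l) (Fin k × Fin l) F) *ᵥ tp v x = tp (α v) d}
      zero_mem' := ⟨0, fun v => by rw [tp_zero_right, Matrix.mulVec_zero, tp_zero_right]⟩
      add_mem' := fun {x y} ⟨d, hd⟩ ⟨e, he⟩ => ⟨d + e, fun v => by
        rw [tp_add_right, Matrix.mulVec_add, hd, he, tp_add_right]⟩
      smul_mem' := fun t x ⟨d, hd⟩ => ⟨t • d, fun v => by
        rw [tp_smul_right, Matrix.mulVec_smul, hd, tp_smul_right]⟩ }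
  have hS : S = ⊤ := by
    rw [← top_le_iff, ← C.span_iso, Submodule.span_le]
    intro x hx
    by_cases hx0 : x = 0
    · rw [hx0]; exact S.zero_mem
    have hxi : Iso f₂ x := ⟨hx0, hx⟩
    obtain ⟨c₁, hc₁, h1a, h1x⟩ := C.meet a x ha hxi
    obtain ⟨d₁, hd₁⟩ := hcore c₁ hc₁ h1a
    have hd₁0 : d₁ ≠ 0 := fun e => by
      have := hd₁ v₀
      rw [e, tp_zero_right] at this
      exact act_ne_zero g' (fun e0 => hv₀ (J_injective hc₁.1 (by rw [J_apply, e0, map_zero]))) this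
    have hd₁i : Iso f₂ d₁ := by
      refine ⟨hd₁0, ?_⟩
      obtain ⟨y, hy⟩ : ∃ y, f₁ (α v₀) y ≠ 0 := by
        by_contra! h0
        exact hv₀ (hα (by rw [C.h₁.nd _ h0, map_zero]))
      obtain ⟨y', rfl⟩ := LinearMap.surjective_of_injective hα y
      have h := C.pres g' hg'M (tp v₀ c₁) (tp y' c₁)
      rw [hd₁, hd₁, tForm_tp C.h₂ C.h₁, tForm_tp C.h₂ C.h₁, hc₁.2, mul_zero] at h
      exact (mul_eq_zero.1 h).resolve_left hy
    obtain ⟨β₁, hβ₁M, -, hβ₁⟩ := C.move d₁ c₁ hd₁i hc₁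
    have hg''M : kr (1 : GL (Fin k) F) β₁ * g' ∈ M := M.mul_mem hβ₁M hg'M
    obtain ⟨α₁, hα₁, hcore₁⟩ := C.ruler_core K₁ K₂ hc₁ hg''M fun v => ⟨α v, by
      rw [mul_act, hd₁, kr_tp, Units.val_one, Matrix.one_mulVec, hβ₁]⟩
    obtain ⟨d, hd⟩ := hcore₁ x hxi (C.h₂.symm_zero h1x)
    obtain ⟨da, hda⟩ := hcore₁ a ha (C.h₂.symm_zero h1a)
    obtain ⟨da', hda'⟩ := hcore a ha ha.2
    -- comparing the first factors at `a`
    have hcomp : ∀ v, tp (α₁ v) da = tp (α v) ((β₁ : Matrix (Fin l) (Fin l) F) *ᵥ da') := fun v => by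
      rw [← hda, mul_act, hda', kr_tp, Units.val_one, Matrix.one_mulVec]
    obtain ⟨j, hj⟩ : ∃ j, da j ≠ 0 := by
      by_contra! h0
      have := hda v₀
      rw [show da = 0 from funext h0, tp_zero_right] at this
      exact act_ne_zero _ (fun e0 => hv₀ (J_injective ha.1 (by rw [J_apply, e0, map_zero]))) this
    set y := ((β₁ : Matrix (Fin l) (Fin l) F) *ᵥ da') j * (da j)⁻¹
    have hprop : ∀ v, α₁ v = y • α v := fun v => funext fun i => by
      have e := congrFun (hcomp v) (i, j)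
      simp only [tp] at e
      rw [Pi.smul_apply, smul_eq_mul]
      calc α₁ v i = α₁ v i * da j * (da j)⁻¹ := by rw [mul_assoc, mul_inv_cancel₀ hj, mul_one]
        _ = y * α v i := by rw [e]; ring
    refine ⟨((β₁⁻¹ : GL (Fin l) F) : Matrix (Fin l) (Fin l) F) *ᵥ (y • d), fun v => ?_⟩
    apply act_injective (kr (1 : GL (Fin k) F) β₁)
    show _ *ᵥ _ = _ *ᵥ _
    rw [← mul_act, hd, kr_tp, Units.val_one, Matrix.one_mulVec, act_inv_act, hprop, tp_smul_left, tp_smul_right]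
  have hall : ∀ j : Fin l, ∃ d, ∀ v, (g' : Matrix (Fin k × Fin l) (Fin k × Fin l) F) *ᵥ tp v (Pi.single j 1) =
      tp (α v) d := fun j => (hS ▸ Submodule.mem_top : (Pi.single j 1 : Fin l → F) ∈ S)
  choose D hD using hall
  let Dm : Matrix (Fin l) (Fin l) F := Matrix.of fun i j => D j i
  have hg'eq : ∀ v x, (g' : Matrix (Fin k × Fin l) (Fin k × Fin l) F) *ᵥ tp v x = tp (α v) (Dm *ᵥ x) := by
    intro v x
    conv_lhs => rw [pi_eq_sum_univ' x, ← J_apply]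
    have e1 : J (∑ i, x i • (Pi.single i 1 : Fin l → F)) v = ∑ i, x i • tp v (Pi.single i 1) := by
      funext p
      simp [J_apply, tp, Finset.sum_apply, Finset.mul_sum, mul_left_comm]
    rw [e1, Matrix.mulVec_sum]
    funext p
    simp only [Matrix.mulVec_smul, hD, Finset.sum_apply, Pi.smul_apply, smul_eq_mul, tp, Matrix.mulVec, dotProduct,
      Dm, Matrix.of_apply, Finset.mul_sum]
    exact Finset.sum_congr rfl fun j _ => by ring
  have hDdet : Dm.det ≠ 0 := by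
    intro h0
    obtain ⟨x, hx0, hx⟩ := Matrix.exists_mulVec_eq_zero_iff.mpr h0
    have h := hg'eq v₀ x
    rw [hx, tp_zero_right] at h
    exact act_ne_zero g' (fun e => hv₀ (J_injective hx0 (by rw [J_apply, e, map_zero]))) h
  have hAdet : (LinearMap.toMatrix' α).det ≠ 0 := by
    intro h0
    obtain ⟨v, hv0, hv⟩ := Matrix.exists_mulVec_eq_zero_iff.mpr h0
    rw [← Matrix.toLin'_apply, Matrix.toLin'_toMatrix'] at hv
    exact hv0 (hα (by rw [hv, map_zero]))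
  have heq : g' = kr (Matrix.GeneralLinearGroup.mkOfDetNeZero _ hAdet)
      (Matrix.GeneralLinearGroup.mkOfDetNeZero Dm hDdet) := gl_ext fun u => by
    rw [tp_decomp u, Matrix.mulVec_sum, Matrix.mulVec_sum]
    refine Finset.sum_congr rfl fun i _ => ?_
    rw [hg'eq, kr_tp]
    congr 1
    show α _ = LinearMap.toMatrix' α *ᵥ _
    rw [← Matrix.toLin'_apply, Matrix.toLin'_toMatrix']
  rw [show g = (kr (1 : GL (Fin k) F) β)⁻¹ * g' by rw [hg', inv_mul_cancel_left], heq]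
  exact Subgroup.mul_mem _ (Subgroup.inv_mem _ (kr_mem _ _)) (kr_mem _ _)

end Main

end Ctx0

end Cfsg.Agent.TensorMax
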