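import Cfsg.Agent.Lib.OTensorAlg
import Cfsg.Agent.Lib.TensorMaxRuler

/-!
Operators on a tensor product of two symmetric forms: frames, Siegel elements and conjugation rules.
-/

set_option autoImplicit false
set_option linter.unusedSectionVars false

namespace Cfsg.Agent.OTensor

open scoped Matrix MatrixGroups Kronecker
open Cfsg.Agent.TensorMax

variable {F : Type*} [Field F]

section Lin

variable {ι : Type*} [Fintype ι] [DecidableEq ι]

/-- An invertible matrix as an operator. -/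
def lin : GL ι F →* Module.End F (ι → F) :=
  (Matrix.toLinAlgEquiv' (R := F) (n := ι)).toAlgHom.toMonoidHom.comp (Units.coeHom (Matrix ι ι F))

theorem lin_apply (g : GL ι F) (u : ι → F) : lin g u = (g : Matrix ι ι F) *ᵥ u :=
  Matrix.toLinAlgEquiv'_apply _ u

theorem lin_eq (g : GL ι F) : lin g = Matrix.toLin' (g : Matrix ι ι F) :=
  LinearMap.ext fun u => by rw [lin_apply, Matrix.toLin'_apply]

theorem lin_injective : Function.Injective (lin (F := F) (ι := ι)) := fun g h e => by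
  refine Units.ext (Matrix.toLin'.injective ?_)
  rw [← lin_eq, ← lin_eq, e]

theorem lin_inv_apply (g : GL ι F) (u : ι → F) : lin g⁻¹ (lin g u) = u := by
  rw [← Module.End.mul_apply, ← map_mul, inv_mul_cancel, map_one, Module.End.one_apply]

theorem lin_apply_inv (g : GL ι F) (u : ι → F) : lin g (lin g⁻¹ u) = u := by
  rw [← Module.End.mul_apply, ← map_mul, mul_inv_cancel, map_one, Module.End.one_apply]

/-- An invertible matrix from an operator and its inverse. -/
def ofPair (a b : Module.End F (ι → F)) (h1 : a * b = 1) (h2 : b * a = 1) : GL ι F :=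
  Units.map (Matrix.toLinAlgEquiv' (R := F) (n := ι)).symm.toAlgHom.toMonoidHom ⟨a, b, h1, h2⟩

theorem lin_ofPair (a b : Module.End F (ι → F)) (h1 : a * b = 1) (h2 : b * a = 1) :
    lin (ofPair a b h1 h2) = a :=
  (Matrix.toLinAlgEquiv' (R := F) (n := ι)).apply_symm_apply a

end Lin

variable {n : ℕ} {f : (Fin n → F) → (Fin n → F) → F} (hf : Sym f)
include hf

theorem sie_apply (e d u : Fin n → F) (he : f e e = 0) (hd : f d e = 0) :
    sie hf e d u = u + (f u d • e - f u e • d) - ((2 : F)⁻¹ * (f d d * f u e)) • e := by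
  rw [sie, nn_sq hf he hd]
  simp only [LinearMap.add_apply, Module.End.one_apply, nn_apply, LinearMap.smul_apply, LinearMap.neg_apply,
    sq1_apply, smul_neg, smul_smul]
  module

theorem sie_mul (h2 : (2 : F) ≠ 0) {e d d' : Fin n → F} (he : f e e = 0) (hd : f d e = 0) (hd' : f d' e = 0) :
    sie hf e d * sie hf e d' = sie hf e (d + d') := by
  refine LinearMap.ext fun u => ?_
  rw [Module.End.mul_apply, sie_apply hf e d' u he hd', sie_apply hf e d _ he hd,
    sie_apply hf e (d + d') u he (by rw [hf.add_left, hd, hd', add_zero])]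
  simp only [hf.add_left, hf.add_right, sub_left' hf, hf.smul_left, he, hd, hd', symm hf e d, symm hf d' d]
  match_scalars <;> field_simp <;> ring

theorem sie_zero {e : Fin n → F} (he : f e e = 0) : sie hf e 0 = 1 :=
  LinearMap.ext fun u => by rw [sie_apply hf e 0 u he (hf.zero_left _)]; simp [hf.zero_left, hf.zero_right]

theorem sie_preserves (h2 : (2 : F) ≠ 0) {e d : Fin n → F} (he : f e e = 0) (hd : f d e = 0) (u w : Fin n → F) :
    f (sie hf e d u) (sie hf e d w) = f u w := by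
  rw [sie_apply hf e d u he hd, sie_apply hf e d w he hd]
  simp only [hf.add_left, hf.add_right, sub_left' hf, hf.sub_right, hf.smul_left, smul_right' hf, he, hd,
    symm hf e d, symm hf e w, symm hf d w]
  field_simp
  ring

/-- The Siegel element as a matrix. -/
noncomputable def sieGL (h2 : (2 : F) ≠ 0) {e d : Fin n → F} (he : f e e = 0) (hd : f d e = 0) : GL (Fin n) F :=
  ofPair (sie hf e d) (sie hf e (-d))
    (by rw [sie_mul hf h2 he hd (by rw [neg_left' hf, hd, neg_zero]), add_neg_cancel, sie_zero hf he])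
    (by rw [sie_mul hf h2 he (by rw [neg_left' hf, hd, neg_zero]) hd, neg_add_cancel, sie_zero hf he])

theorem lin_sieGL (h2 : (2 : F) ≠ 0) {e d : Fin n → F} (he : f e e = 0) (hd : f d e = 0) :
    lin (sieGL hf h2 he hd) = sie hf e d := lin_ofPair _ _ _ _

theorem sieGL_mul (h2 : (2 : F) ≠ 0) {e d d' : Fin n → F} (he : f e e = 0) (hd : f d e = 0) (hd' : f d' e = 0)
    (h : f (d + d') e = 0) : sieGL hf h2 he hd * sieGL hf h2 he hd' = sieGL hf h2 he h :=
  lin_injective (by rw [map_mul, lin_sieGL, lin_sieGL, lin_sieGL, sie_mul hf h2 he hd hd'])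

theorem lin_sieGL_inv (h2 : (2 : F) ≠ 0) {e d : Fin n → F} (he : f e e = 0) (hd : f d e = 0) :
    lin (sieGL hf h2 he hd)⁻¹ = sie hf e (-d) := by
  have hd' : f (-d) e = 0 := by rw [neg_left' hf, hd, neg_zero]
  rw [← lin_sieGL hf h2 he hd']
  congr 1
  refine inv_eq_of_mul_eq_one_right (lin_injective ?_)
  rw [map_mul, lin_sieGL, lin_sieGL, sie_mul hf h2 he hd hd', add_neg_cancel, sie_zero hf he, map_one]

theorem sieGL_pow (h2 : (2 : F) ≠ 0) {e d : Fin n → F} (he : f e e = 0) (hd : f d e = 0) (m : ℕ) :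
    lin (sieGL hf h2 he hd ^ m) = sie hf e (m • d) := by
  induction m with
  | zero => rw [pow_zero, map_one, zero_smul, sie_zero hf he]
  | succ m ih =>
    have hm : f (m • d) e = 0 := by rw [← Nat.cast_smul_eq_nsmul F, hf.smul_left, hd, mul_zero]
    rw [pow_succ, map_mul, ih, lin_sieGL, sie_mul hf h2 he hm hd, succ_nsmul]

omit hf

variable {k l : ℕ} {f₁ : (Fin k → F) → (Fin k → F) → F} {f₂ : (Fin l → F) → (Fin l → F) → F}

/-- The tensor form. -/
abbrev T (f₁ : (Fin k → F) → (Fin k → F) → F) (f₂ : (Fin l → F) → (Fin l → F) → F) :=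
  tForm (RingHom.id F) f₁ f₂

/-- Isometries of the tensor form. -/
def isoT (f₁ : (Fin k → F) → (Fin k → F) → F) (f₂ : (Fin l → F) → (Fin l → F) → F) :
    Subgroup (GL (Fin k × Fin l) F) where
  carrier := {g | ∀ u w, T f₁ f₂ (lin g u) (lin g w) = T f₁ f₂ u w}
  one_mem' u w := by rw [map_one]; rfl
  mul_mem' {g h} hg hh u w := by rw [map_mul, Module.End.mul_apply, Module.End.mul_apply, hg, hh]
  inv_mem' {g} hg u w := by
    have := hg (lin g⁻¹ u) (lin g⁻¹ w)
    rw [lin_apply_inv, lin_apply_inv] at this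
    exact this.symm

theorem lin_kr_tp (α : GL (Fin k) F) (β : GL (Fin l) F) (v : Fin k → F) (w : Fin l → F) :
    lin (kr α β) (tp v w) = tp (lin α v) (lin β w) := by
  rw [lin_apply, kr_tp, lin_apply, lin_apply]

theorem ext_tp {M : Type*} [AddCommGroup M] [Module F M] {φ ψ : (Fin k × Fin l → F) →ₗ[F] M}
    (h : ∀ v w, φ (tp v w) = ψ (tp v w)) : φ = ψ :=
  LinearMap.ext fun u => by rw [tp_decomp u, map_sum, map_sum]; exact Finset.sum_congr rfl fun i _ => h _ _

theorem tForm_sum_right {κ : Type*} (s : Finset κ) (g : κ → Fin k × Fin l → F) (w : Fin k × Fin l → F) :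
    T f₁ f₂ w (∑ i ∈ s, g i) = ∑ i ∈ s, T f₁ f₂ w (g i) :=
  map_sum ({ toFun := fun u => T f₁ f₂ w u
             map_zero' := by simp [tForm, Cfsg.Geo.formOfGram]
             map_add' := fun u u' => tForm_add_right w u u' } : (Fin k × Fin l → F) →+ F) g s

variable (h₁ : Sym f₁) (h₂ : Sym f₂)
include h₁ h₂

theorem T_tp (v w : Fin k → F) (a c : Fin l → F) : T f₁ f₂ (tp v a) (tp w c) = f₁ v w * f₂ a c :=
  tForm_tp h₂ h₁ v w a c

theorem T_symm (u w : Fin k × Fin l → F) : T f₁ f₂ u w = T f₁ f₂ w u := by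
  rw [tp_decomp w]
  simp only [T, tForm_sum_left, tForm_sum_right]
  refine Finset.sum_congr rfl fun i _ => ?_
  rw [tForm_left h₂ h₁ u]
  simp

theorem T_nd (u : Fin k × Fin l → F) (h : ∀ w, T f₁ f₂ u w = 0) : u = 0 := by
  funext p
  have h1 : (fun j => u (p.1, j)) = 0 := by
    refine h₂.nd _ fun c => ?_
    have h2 : Pf f₂ k c u = 0 := h₁.nd _ fun w => by rw [← tForm_right h₂ h₁]; exact h _
    have := congrFun h2 p.1
    rwa [Pf_apply h₂, Pi.zero_apply] at this
  exact congrFun h1 p.2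

theorem isoT_kr {α : GL (Fin k) F} {β : GL (Fin l) F} {κ ν : F} (hκν : κ * ν = 1)
    (hα : ∀ v w, f₁ (lin α v) (lin α w) = κ * f₁ v w) (hβ : ∀ v w, f₂ (lin β v) (lin β w) = ν * f₂ v w) :
    kr α β ∈ isoT f₁ f₂ := by
  intro u w
  rw [tp_decomp u, tp_decomp w]
  simp only [map_sum, tForm_sum_left, tForm_sum_right, lin_kr_tp, T_tp h₁ h₂, hα, hβ]
  refine Finset.sum_congr rfl fun i _ => Finset.sum_congr rfl fun j _ => ?_
  linear_combination (f₁ (Pi.single i 1) (Pi.single j 1) * f₂ (fun x => u (i, x)) (fun x => w (j, x))) * hκν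

omit h₁ in
/-- Conjugation of the basic operators by a pure tensor of a bijection and a similitude. -/
theorem conj_SOp {α : GL (Fin k) F} {β : GL (Fin l) F} {ν : F} (hν : ν ≠ 0)
    (hβ : ∀ v w, f₂ (lin β v) (lin β w) = ν * f₂ v w) (a c : Fin l → F) (Y : Module.End F (Fin k → F)) :
    lin (kr α β) * SOp f₂ a Y c =
      (ν⁻¹ • SOp f₂ (lin β a) (lin α * Y * lin α⁻¹) (lin β c)) * lin (kr α β) := by
  refine ext_tp fun v w => ?_
  simp only [Module.End.mul_apply, LinearMap.smul_apply, SOp_apply, lin_kr_tp, Pf_tp h₂, map_smul, tp_smul_left,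
    hβ, lin_inv_apply, smul_smul]
  rw [← mul_assoc, inv_mul_cancel₀ hν, one_mul]

/-- The basic root operator. -/
def tauOp (f₂ : (Fin l → F) → (Fin l → F) → F) (a c : Fin l → F) (Y : Module.End F (Fin k → F)) :
    Module.End F (Fin k × Fin l → F) :=
  SOp f₂ a Y c - SOp f₂ c Y a

omit h₁ in
theorem SOp_tp (a c : Fin l → F) (Y : Module.End F (Fin k → F)) (v : Fin k → F) (w : Fin l → F) :
    SOp f₂ a Y c (tp v w) = f₂ w c • tp (Y v) a := by
  rw [SOp_apply, Pf_tp h₂, map_smul, tp_smul_left]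

omit h₁ in
theorem lin_kr_sie (h2 : (2 : F) ≠ 0) {e d : Fin l → F} (he : f₂ e e = 0) (hd : f₂ d e = 0) :
    lin (kr (1 : GL (Fin k) F) (sieGL h₂ h2 he hd)) =
      1 + tauOp f₂ e d 1 - ((2 : F)⁻¹ * f₂ d d) • SOp f₂ e (1 : Module.End F (Fin k → F)) e := by
  refine ext_tp fun v w => ?_
  rw [lin_kr_tp, map_one, lin_sieGL, sie_apply h₂ e d w he hd, LinearMap.sub_apply, LinearMap.add_apply,
    LinearMap.smul_apply, tauOp, LinearMap.sub_apply, SOp_tp h₂, SOp_tp h₂, SOp_tp h₂, Module.End.one_apply,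
    Module.End.one_apply]
  funext p
  simp only [tp, Pi.add_apply, Pi.sub_apply, Pi.smul_apply, smul_eq_mul]
  ring

omit h₁ in
/-- The root operator is fixed by the transvections of its plane. -/
theorem tauOp_shift (a c : Fin l → F) (s : F) (Y : Module.End F (Fin k → F)) :
    tauOp f₂ a (c + s • a) Y = tauOp f₂ a c Y := by
  unfold tauOp
  rw [SOp_add_left h₂, SOp_add_right h₂, SOp_smul_left h₂, SOp_smul_right h₂, RingHom.id_apply]
  abel

omit h₁ h₂

/-- Two hyperbolic pairs orthogonal to each other. -/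
structure Frm (f : (Fin l → F) → (Fin l → F) → F) (a c a' c' : Fin l → F) : Prop where
  ha : Hyp f a a'
  hc : Hyp f c c'
  ac : f a c = 0
  ac' : f a c' = 0
  a'c : f a' c = 0
  a'c' : f a' c' = 0

variable {a c a' c' : Fin l → F}

theorem Frm.swap (G : Frm f₂ a c a' c') (h₂ : Sym f₂) : Frm f₂ c a c' a' :=
  ⟨G.hc, G.ha, by rw [symm h₂, G.ac], by rw [symm h₂, G.a'c], by rw [symm h₂, G.ac'], by rw [symm h₂, G.a'c']⟩

theorem Frm.shift (G : Frm f₂ a c a' c') (h₂ : Sym f₂) : Frm f₂ (a + c) c a' (c' - a') := by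
  have hc'a : f₂ c a' = 0 := by rw [symm h₂, G.a'c]
  have hc'a' : f₂ c' a' = 0 := by rw [symm h₂, G.a'c']
  have hca : f₂ c a = 0 := by rw [symm h₂, G.ac]
  refine ⟨⟨?_, G.ha.ee', ?_⟩, ⟨G.hc.ee, ?_, ?_⟩, ?_, ?_, G.a'c, ?_⟩
  · simp [h₂.add_left, h₂.add_right, G.ha.ee, G.hc.ee, G.ac, hca]
  · simp [h₂.add_left, G.ha.one, hc'a]
  · simp [sub_left' h₂, h₂.sub_right, G.hc.ee', G.ha.ee', G.a'c', hc'a']
  · simp [h₂.sub_right, G.hc.one, hc'a]
  · simp [h₂.add_left, G.ac, G.hc.ee]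
  · simp [h₂.add_left, h₂.sub_right, G.ac', G.ha.one, G.hc.one, hc'a]
  · simp [h₂.sub_right, G.a'c', G.ha.ee']

/-- The component orthogonal to a frame. -/
def proj4 (f : (Fin l → F) → (Fin l → F) → F) (a c a' c' w : Fin l → F) : Fin l → F :=
  proj0 f c c' (proj0 f a a' w)

section Frames

variable (h₂ : Sym f₂) (G : Frm f₂ a c a' c')
include h₂ G

theorem proj4_perp (w : Fin l → F) : f₂ (proj4 f₂ a c a' c' w) a = 0 ∧ f₂ (proj4 f₂ a c a' c' w) c = 0 ∧
    f₂ (proj4 f₂ a c a' c' w) a' = 0 ∧ f₂ (proj4 f₂ a c a' c' w) c' = 0 := by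
  obtain ⟨p1, p2⟩ := proj0_perp h₂ G.ha w
  obtain ⟨q1, q2⟩ := proj0_perp h₂ G.hc (proj0 f₂ a a' w)
  refine ⟨?_, q1, ?_, q2⟩ <;> unfold proj4 <;> rw [proj0]
  · simp [sub_left' h₂, h₂.smul_left, p1, symm h₂ c a, symm h₂ c' a, G.ac, G.ac']
  · simp [sub_left' h₂, h₂.smul_left, p2, symm h₂ c a', symm h₂ c' a', G.a'c, G.a'c']

theorem decomp4 (w : Fin l → F) :
    w = f₂ w a' • a + f₂ w a • a' + (f₂ w c' • c + f₂ w c • c') + proj4 f₂ a c a' c' w := by
  obtain ⟨p1, p2⟩ := proj0_perp h₂ G.ha w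
  have e1 : f₂ (proj0 f₂ a a' w) c' = f₂ w c' := by
    simp [proj0, sub_left' h₂, h₂.smul_left, G.ac', G.a'c']
  have e2 : f₂ (proj0 f₂ a a' w) c = f₂ w c := by simp [proj0, sub_left' h₂, h₂.smul_left, G.ac, G.a'c]
  conv_lhs => rw [decomp h₂ a a' w, decomp h₂ c c' (proj0 f₂ a a' w), e1, e2]
  unfold proj4
  abel

/-- The projection orthogonal to a frame, linear in the vector. -/
theorem proj4_add (u w : Fin l → F) :
    proj4 f₂ a c a' c' (u + w) = proj4 f₂ a c a' c' u + proj4 f₂ a c a' c' w := by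
  funext i
  simp [proj4, proj0, h₂.add_left, sub_left' h₂, h₂.smul_left]
  ring

theorem proj4_smul (s : F) (u : Fin l → F) : proj4 f₂ a c a' c' (s • u) = s • proj4 f₂ a c a' c' u := by
  funext i
  simp [proj4, proj0, h₂.smul_left, sub_left' h₂]
  ring

theorem proj4_self {w : Fin l → F} (w1 : f₂ w a = 0) (w2 : f₂ w c = 0) (w3 : f₂ w a' = 0) (w4 : f₂ w c' = 0) :
    proj4 f₂ a c a' c' w = w := by
  simp [proj4, proj0, w1, w2, w3, w4]

theorem decompT (u : Fin k × Fin l → F) :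
    u = tp (Pf f₂ k a' u) a + tp (Pf f₂ k a u) a' + (tp (Pf f₂ k c' u) c + tp (Pf f₂ k c u) c') +
      fun p => proj4 f₂ a c a' c' (fun j => u (p.1, j)) p.2 := by
  funext p
  have := congrFun (decomp4 h₂ G fun j => u (p.1, j)) p.2
  simpa [tp, Pf_apply h₂] using this

theorem kerX_iff (u : Fin k × Fin l → F) :
    tauOp f₂ a c (1 : Module.End F (Fin k → F)) u = 0 ↔ Pf f₂ k a u = 0 ∧ Pf f₂ k c u = 0 := by
  constructor
  · intro h
    constructor
    · have := congrArg (Pf f₂ k c') h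
      rw [tauOp, LinearMap.sub_apply, SOp_apply, SOp_apply, map_sub, Pf_tp h₂, Pf_tp h₂, G.ac', G.hc.one,
        map_zero] at this
      simpa using this
    · have := congrArg (Pf f₂ k a') h
      rw [tauOp, LinearMap.sub_apply, SOp_apply, SOp_apply, map_sub, Pf_tp h₂, Pf_tp h₂, G.ha.one,
        show f₂ c a' = 0 by rw [symm h₂, G.a'c], map_zero] at this
      simpa using this
  · rintro ⟨h1, h2⟩
    rw [tauOp, LinearMap.sub_apply, SOp_apply, SOp_apply, h1, h2]
    simp [tp_zero_left]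

theorem rangeX_iff (u : Fin k × Fin l → F) :
    (∃ w, u = tauOp f₂ a c (1 : Module.End F (Fin k → F)) w) ↔ ∃ p q : Fin k → F, u = tp p a + tp q c := by
  constructor
  · rintro ⟨w, rfl⟩
    exact ⟨Pf f₂ k c w, -Pf f₂ k a w, by
      rw [tauOp, LinearMap.sub_apply, SOp_apply, SOp_apply, Module.End.one_apply, Module.End.one_apply,
        ← J_apply, ← J_apply, ← J_apply, map_neg, sub_eq_add_neg]⟩
  · rintro ⟨p, q, rfl⟩
    refine ⟨tp p c' - tp q a', ?_⟩
    rw [tauOp, LinearMap.sub_apply, map_sub, map_sub, SOp_tp h₂, SOp_tp h₂, SOp_tp h₂, SOp_tp h₂,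
      show f₂ c' c = 1 by rw [symm h₂, G.hc.one], show f₂ a' a = 1 by rw [symm h₂, G.ha.one], G.a'c,
      show f₂ c' a = 0 by rw [symm h₂, G.ac']]
    simp

end Frames

variable (h₂ : Sym f₂)
include h₂

/-- Vectors realising two prescribed functionals on an independent pair. -/
theorem exists_dual_two {b d : Fin l → F} (hb : b ≠ 0) (hind : ∀ y : F, d ≠ y • b) :
    ∃ y, f₂ b y = 1 ∧ f₂ d y = 0 := by
  obtain ⟨z, hz⟩ : ∃ z, f₂ b z ≠ 0 := by
    by_contra! h0
    exact hb (h₂.nd b h0)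
  by_contra! hc
  refine hind (f₂ d z / f₂ b z) (sub_eq_zero.1 (h₂.nd _ fun w => ?_))
  by_contra hne
  rw [sub_left' h₂, h₂.smul_left] at hne
  set dl := f₂ d w - f₂ d z / f₂ b z * f₂ b w with hdl
  set y := (f₂ b z)⁻¹ • z - ((f₂ d z / f₂ b z) / dl) • (w - (f₂ b w / f₂ b z) • z) with hy
  refine hc y ?_ ?_
  · simp only [hy, h₂.sub_right, smul_right' h₂]
    field_simp
    ring
  · simp only [hy, h₂.sub_right, smul_right' h₂]
    rw [show f₂ d w - f₂ b w / f₂ b z * f₂ d z = dl by rw [hdl]; ring, div_mul_cancel₀ _ hne]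
    field_simp
    ring

/-- Every pair of independent orthogonal singular vectors extends to a frame. -/
theorem exists_frame (h2 : (2 : F) ≠ 0) {a c : Fin l → F} (ha : a ≠ 0) (haa : f₂ a a = 0) (hcc : f₂ c c = 0)
    (hac : f₂ a c = 0) (hind : ∀ y : F, c ≠ y • a) : ∃ a' c', Frm f₂ a c a' c' := by
  have hc0 : c ≠ 0 := fun h => hind 0 (by rw [h, zero_smul])
  have hca : f₂ c a = 0 := by rw [symm h₂, hac]
  obtain ⟨y, y1, y2⟩ := exists_dual_two h₂ ha hind
  have hind' : ∀ t : F, a ≠ t • c := fun t ht => by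
    by_cases h0 : t = 0
    · exact ha (by rw [ht, h0, zero_smul])
    · exact hind t⁻¹ (by rw [ht, inv_smul_smul₀ h0])
  obtain ⟨z, z1, z2⟩ := exists_dual_two h₂ hc0 hind'
  set a₁ := y + (-(2 : F)⁻¹ * f₂ y y) • a with ha₁
  have e1 : f₂ a a₁ = 1 := by simp [ha₁, h₂.add_right, smul_right' h₂, y1, haa, h₂.neg_right]
  have e2 : f₂ a₁ c = 0 := by
    simp [ha₁, h₂.add_left, h₂.smul_left, neg_left' h₂, symm h₂ y c, y2, hac]
  have e3 : f₂ a₁ a₁ = 0 := by
    simp only [ha₁, h₂.add_left, h₂.add_right, h₂.smul_left, smul_right' h₂, haa, symm h₂ y a, y1]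
    field_simp
    ring
  set z₀ := z - f₂ z a₁ • a with hz₀
  have f1 : f₂ c z₀ = 1 := by simp [hz₀, h₂.sub_right, smul_right' h₂, z1, hca]
  have f2 : f₂ z₀ a₁ = 0 := by simp [hz₀, sub_left' h₂, h₂.smul_left, e1]
  have f3 : f₂ a z₀ = 0 := by simp [hz₀, h₂.sub_right, smul_right' h₂, z2, haa]
  refine ⟨a₁, z₀ + (-(2 : F)⁻¹ * f₂ z₀ z₀) • c, ⟨haa, e3, e1⟩, ⟨hcc, ?_, ?_⟩, hac, ?_, e2, ?_⟩
  · simp only [h₂.add_left, h₂.add_right, h₂.smul_left, smul_right' h₂, hcc, symm h₂ z₀ c, f1]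
    field_simp
    ring
  · simp [h₂.add_right, smul_right' h₂, f1, hcc, h₂.neg_right]
  · simp [h₂.add_right, smul_right' h₂, f3, hac, h₂.neg_right]
  · simp [h₂.add_right, smul_right' h₂, symm h₂ a₁ z₀, f2, e2, h₂.neg_right]

end Cfsg.Agent.OTensor
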