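import Cfsg.Agent.Lib.OTensorCen

/-!
Elements of the radical at a ruler plane: their commutators with Siegel elements and their blocks.
-/

set_option autoImplicit false
set_option linter.unusedSectionVars false

namespace Cfsg.Agent.OTensor

open scoped Matrix MatrixGroups Kronecker
open Cfsg.Agent.TensorMax

variable {F : Type*} [Field F] {k l : ℕ}
variable {f₁ : (Fin k → F) → (Fin k → F) → F} {f₂ : (Fin l → F) → (Fin l → F) → F}

/-- The element fixes the ruler plane pointwise and is trivial between it and its perpendicular. -/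
def Flag (f₂ : (Fin l → F) → (Fin l → F) → F) (a c : Fin l → F) (w : GL (Fin k × Fin l) F) : Prop :=
  (∀ p q : Fin k → F, lin w (tp p a + tp q c) = tp p a + tp q c) ∧
    ∀ u, Pf f₂ k a u = 0 → Pf f₂ k c u = 0 → ∃ p q : Fin k → F, lin w u - u = tp p a + tp q c

theorem T_zero_left (w : Fin k × Fin l → F) : T f₁ f₂ 0 w = 0 := by simp [T, tForm, Cfsg.Geo.formOfGram]

theorem T_sub_left (u u' w : Fin k × Fin l → F) : T f₁ f₂ (u - u') w = T f₁ f₂ u w - T f₁ f₂ u' w := by
  rw [sub_eq_add_neg, T_add_left, ← neg_one_smul F u', T_smul_left]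
  ring

theorem T_sub_right (u u' w : Fin k × Fin l → F) : T f₁ f₂ w (u - u') = T f₁ f₂ w u - T f₁ f₂ w u' := by
  simp only [T, tForm, Cfsg.Geo.formOfGram, Pi.sub_apply, map_sub, mul_sub, Finset.sum_sub_distrib]

theorem T_add_right' (u u' w : Fin k × Fin l → F) : T f₁ f₂ w (u + u') = T f₁ f₂ w u + T f₁ f₂ w u' :=
  tForm_add_right w u u'

variable {a c a' c' : Fin l → F}

section
variable (h₁ : Sym f₁) (h₂ : Sym f₂) (G : Frm f₂ a c a' c')
include h₁ h₂ G

theorem T_plane {z : Fin k × Fin l → F} (za : Pf f₂ k a z = 0) (zc : Pf f₂ k c z = 0) (p q : Fin k → F) :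
    T f₁ f₂ z (tp p a + tp q c) = 0 := by
  simp only [T]
  rw [tForm_add_right, tForm_right h₂ h₁, tForm_right h₂ h₁, za, zc, h₁.zero_left, h₁.zero_left, add_zero]

theorem plane_kernel (p q : Fin k → F) : Pf f₂ k a (tp p a + tp q c) = 0 ∧ Pf f₂ k c (tp p a + tp q c) = 0 := by
  simp [map_add, Pf_tp h₂, G.ha.ee, G.hc.ee, G.ac, symm h₂ c a]

theorem flag_defect {w : GL (Fin k × Fin l) F} (hw : w ∈ isoT f₁ f₂) (hf : Flag f₂ a c w)
    (u : Fin k × Fin l → F) : Pf f₂ k a (lin w u - u) = 0 ∧ Pf f₂ k c (lin w u - u) = 0 := by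
  have key : ∀ p q : Fin k → F, T f₁ f₂ (lin w u - u) (tp p a + tp q c) = 0 := fun p q => by
    rw [T_sub_left]
    conv_lhs => arg 1; rw [← hf.1 p q]
    rw [hw, sub_self]
  constructor <;> refine h₁.nd _ fun x => ?_
  · have := key x 0
    rwa [tp_zero_left, add_zero, T, tForm_right h₂ h₁] at this
  · have := key 0 x
    rwa [tp_zero_left, zero_add, T, tForm_right h₂ h₁] at this

theorem Flag.prod {w : GL (Fin k × Fin l) F} (hw : w ∈ isoT f₁ f₂) (hf : Flag f₂ a c w) :
    (∀ u, Pf f₂ k a ((lin w - 1) u) = 0 ∧ Pf f₂ k c ((lin w - 1) u) = 0) ∧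
      (∀ u, Pf f₂ k a u = 0 → Pf f₂ k c u = 0 → ∃ p q : Fin k → F, (lin w - 1) u = tp p a + tp q c) ∧
      ∀ p q : Fin k → F, (lin w - 1) (tp p a + tp q c) = 0 :=
  ⟨fun u => flag_defect h₁ h₂ G hw hf u, fun u e1 e2 => hf.2 u e1 e2, fun p q => sub_eq_zero.2 (hf.1 p q)⟩

theorem flag_triple {w n m : GL (Fin k × Fin l) F} (hw : w ∈ isoT f₁ f₂) (hn : n ∈ isoT f₁ f₂)
    (hm : m ∈ isoT f₁ f₂) (fw : Flag f₂ a c w) (fn : Flag f₂ a c n) (fm : Flag f₂ a c m) :
    (lin w - 1) * (lin n - 1) * (lin m - 1) = 0 := by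
  refine LinearMap.ext fun u => ?_
  obtain ⟨m1, m2⟩ := (fm.prod h₁ h₂ G hm).1 u
  obtain ⟨p, q, hpq⟩ := (fn.prod h₁ h₂ G hn).2.1 _ m1 m2
  rw [Module.End.mul_apply, Module.End.mul_apply, hpq, (fw.prod h₁ h₂ G hw).2.2, LinearMap.zero_apply]

/-- The commutator of two radical elements. -/
theorem lin_commutator {w n : GL (Fin k × Fin l) F} (hw : w ∈ isoT f₁ f₂) (hn : n ∈ isoT f₁ f₂)
    (fw : Flag f₂ a c w) (fn : Flag f₂ a c n) :
    lin (w * n * w⁻¹ * n⁻¹) = 1 + ((lin w - 1) * (lin n - 1) - (lin n - 1) * (lin w - 1)) := by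
  have key : (1 + ((lin w - 1) * (lin n - 1) - (lin n - 1) * (lin w - 1))) * (lin n * lin w) = lin w * lin n := by
    set A := lin w - 1 with hA
    set B := lin n - 1 with hB
    have eA : lin w = 1 + A := by rw [hA]; abel
    have eB : lin n = 1 + B := by rw [hB]; abel
    have t1 : A * B * A = 0 := flag_triple h₁ h₂ G hw hn hw fw fn fw
    have t2 : A * B * B = 0 := flag_triple h₁ h₂ G hw hn hn fw fn fn
    have t3 : B * A * A = 0 := flag_triple h₁ h₂ G hn hw hw fn fw fw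
    have t4 : B * A * B = 0 := flag_triple h₁ h₂ G hn hw hn fn fw fn
    have t1' : A * (B * A) = 0 := by rw [← mul_assoc, t1]
    have t2' : A * (B * B) = 0 := by rw [← mul_assoc, t2]
    have t3' : B * (A * A) = 0 := by rw [← mul_assoc, t3]
    have t4' : B * (A * B) = 0 := by rw [← mul_assoc, t4]
    rw [eA, eB]
    simp only [add_mul, mul_add, sub_mul, mul_sub, one_mul, mul_one, mul_assoc, t1', t2', t3', t4']
    have q1 : A * (B * (B * A)) = 0 := by rw [← mul_assoc B B A, ← mul_assoc, t2', zero_mul]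
    have q2 : B * (A * (B * A)) = 0 := by rw [t1', mul_zero]
    simp only [q1, q2, mul_zero]
    abel
  have e := congrArg lin (show w * n = w * n * w⁻¹ * n⁻¹ * (n * w) by group)
  rw [map_mul lin w n, map_mul lin _ (n * w), map_mul lin n w, ← key] at e
  have hu : IsUnit (lin n * lin w) := by
    rw [← map_mul]; exact (Group.isUnit (n * w)).map lin
  exact (hu.mul_left_inj.1 e).symm

/-- An isometry fixing the kernel of the root operator pointwise is central. -/
theorem central_of_fix {w : GL (Fin k × Fin l) F} (hw : w ∈ isoT f₁ f₂)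
    (hfix : ∀ u, Pf f₂ k a u = 0 → Pf f₂ k c u = 0 → lin w u = u) : Central f₁ f₂ a c (lin w - 1) := by
  have hf : Flag f₂ a c w :=
    ⟨fun p q => hfix _ (plane_kernel h₁ h₂ G p q).1 (plane_kernel h₁ h₂ G p q).2,
      fun u e1 e2 => ⟨0, 0, by rw [hfix u e1 e2, sub_self, tp_zero_left, tp_zero_left, add_zero]⟩⟩
  have hrange : ∀ u, ∃ p q : Fin k → F, (lin w - 1) u = tp p a + tp q c := by
    intro u
    obtain ⟨z1, z2⟩ := (hf.prod h₁ h₂ G hw).1 u
    set z := (lin w - 1) u with hz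
    have h0 : ∀ x d, f₂ d a = 0 → f₂ d c = 0 → f₁ (Pf f₂ k d z) x = 0 := fun x d da dc => by
      rw [← tForm_right h₂ h₁]
      show T f₁ f₂ z (tp x d) = 0
      have hk : lin w (tp x d) = tp x d := hfix _ (by rw [Pf_tp h₂, da, zero_smul]) (by rw [Pf_tp h₂, dc, zero_smul])
      rw [hz, LinearMap.sub_apply, Module.End.one_apply, T_sub_left]
      conv_lhs => arg 1; rw [← hk]
      rw [hw, sub_self]
    have hrow : ∀ i, proj4 f₂ a c a' c' (fun j => z (i, j)) = 0 := fun i => h₂.nd _ fun d => by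
      set r : Fin l → F := fun j => z (i, j)
      obtain ⟨p1, p2, p3, p4⟩ := proj4_perp h₂ G d
      obtain ⟨r1, r2, r3, r4⟩ := proj4_perp h₂ G r
      have hzero : f₂ r (proj4 f₂ a c a' c' d) = 0 := by
        have h1 : Pf f₂ k (proj4 f₂ a c a' c' d) z = 0 := h₁.nd _ fun x => h0 x _ p1 p2
        have := congrFun h1 i
        rwa [Pf_apply h₂, Pi.zero_apply] at this
      rw [decomp4 h₂ G d]
      rw [h₂.add_right, h₂.add_right, h₂.add_right, h₂.add_right, smul_right' h₂, smul_right' h₂, smul_right' h₂,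
        smul_right' h₂, r1, r2, r3, r4]
      rw [decomp4 h₂ G r] at hzero
      simp only [h₂.add_left, h₂.smul_left, symm h₂ a (proj4 f₂ a c a' c' d), symm h₂ a' (proj4 f₂ a c a' c' d),
        symm h₂ c (proj4 f₂ a c a' c' d), symm h₂ c' (proj4 f₂ a c a' c' d), p1, p2, p3, p4] at hzero
      simpa using hzero
    refine ⟨Pf f₂ k a' z, Pf f₂ k c' z, ?_⟩
    conv_lhs => rw [decompT h₂ G z, z1, z2, tp_zero_left, tp_zero_left, add_zero, add_zero]
    have : (fun p : Fin k × Fin l => proj4 f₂ a c a' c' (fun j => z (p.1, j)) p.2) = 0 :=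
      funext fun p => by rw [hrow p.1]; rfl
    rw [this, add_zero]
  refine ⟨fun u hu => ?_, fun u => (rangeX_iff h₂ G _).2 (hrange u), fun u v => ?_⟩
  · obtain ⟨e1, e2⟩ := (kerX_iff h₂ G u).1 hu
    rw [LinearMap.sub_apply, hfix u e1 e2, Module.End.one_apply, sub_self]
  · obtain ⟨p, q, hpq⟩ := hrange v
    obtain ⟨z1, z2⟩ := (hf.prod h₁ h₂ G hw).1 u
    have h0 := T_plane h₁ h₂ G z1 z2 p q
    rw [← hpq] at h0
    have hiso := hw u v
    have eu : lin w u = (lin w - 1) u + u := by simp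
    have ev : lin w v = (lin w - 1) v + v := by simp
    rw [eu, ev, T_add_left, T_add_right', T_add_right', h0, zero_add] at hiso
    linear_combination hiso

/-- Blocks of a radical element all of whose commutators with the Siegel elements are root elements. -/
theorem flag_scalar (h2 : (2 : F) ≠ 0) {w : GL (Fin k × Fin l) F} (hw : w ∈ isoT f₁ f₂) (fw : Flag f₂ a c w)
    (hcomm : ∀ e d, (e = a ∨ e = c) → (hd : f₂ d e = 0) → (he : f₂ e e = 0) →
      f₂ d a = 0 → f₂ d c = 0 → f₂ d a' = 0 → f₂ d c' = 0 →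
      ∃ t : F, (lin w - 1) * (lin (kr (1 : GL (Fin k) F) (sieGL h₂ h2 he hd)) - 1) -
        (lin (kr (1 : GL (Fin k) F) (sieGL h₂ h2 he hd)) - 1) * (lin w - 1) = t • tauOp f₂ a c 1)
    {d : Fin l → F} (d1 : f₂ d a = 0) (d2 : f₂ d c = 0) (d3 : f₂ d a' = 0) (d4 : f₂ d c' = 0) :
    ∃ p q : F, ∀ x, (lin w - 1) (tp x d) = p • tp x a + q • tp x c := by
  obtain ⟨fA, fB, fC⟩ := fw.prod h₁ h₂ G hw
  set A := lin w - 1 with hA
  have hskew : ∀ u x, T f₁ f₂ (A u) (tp x d) = -T f₁ f₂ u (A (tp x d)) := by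
    intro u x
    obtain ⟨p, q, hpq⟩ := fB (tp x d) (by rw [Pf_tp h₂, d1, zero_smul]) (by rw [Pf_tp h₂, d2, zero_smul])
    have h0 := T_plane h₁ h₂ G (fA u).1 (fA u).2 p q
    rw [← hpq] at h0
    have hiso := hw u (tp x d)
    have eu : lin w u = A u + u := by simp [hA]
    have ev : lin w (tp x d) = A (tp x d) + tp x d := by simp [hA]
    rw [eu, ev, T_add_left, T_add_right', T_add_right', h0, zero_add] at hiso
    linear_combination hiso
  -- the commutators with the two Siegel elements at `d`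
  obtain ⟨t₁, ht₁⟩ := hcomm a d (Or.inl rfl) d1 G.ha.ee d1 d2 d3 d4
  obtain ⟨t₂, ht₂⟩ := hcomm c d (Or.inr rfl) d2 G.hc.ee d1 d2 d3 d4
  have h1' : f₂ c' c = 1 := by rw [symm h₂, G.hc.one]
  have h1'' : f₂ a' a = 1 := by rw [symm h₂, G.ha.one]
  have k1 : ∀ v, Pf f₂ k d (A (tp v c')) = -(t₁ • v) := by
    intro v
    have e := LinearMap.congr_fun ht₁ (tp v c')
    rw [lin_kr_sie h₂ h2 G.ha.ee d1] at e
    simp only [add_sub_cancel_left, LinearMap.sub_apply, Module.End.mul_apply, LinearMap.smul_apply,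
      LinearMap.add_apply, Module.End.one_apply, tauOp, SOp_apply, Pf_tp h₂, (fA (tp v c')).1,
      symm h₂ c' a, symm h₂ c' d, d4, h1', G.ac', zero_smul, one_smul, tp_zero_left, smul_zero, sub_zero,
      map_zero, zero_sub] at e
    have e' := congrArg (Pf f₂ k a') e
    simp only [map_sub, map_zero, zero_sub, map_neg, Pf_tp h₂, map_smul, G.ha.one, symm h₂ c a', G.a'c, one_smul,
      zero_smul, sub_zero, add_sub_cancel_left, smul_zero] at e'
    rw [← e', neg_neg]
  have k2 : ∀ v, Pf f₂ k d (A (tp v a')) = t₂ • v := by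
    intro v
    have e := LinearMap.congr_fun ht₂ (tp v a')
    rw [lin_kr_sie h₂ h2 G.hc.ee d2] at e
    simp only [add_sub_cancel_left, LinearMap.sub_apply, Module.End.mul_apply, LinearMap.smul_apply,
      LinearMap.add_apply, Module.End.one_apply, tauOp, SOp_apply, Pf_tp h₂, (fA (tp v a')).2,
      symm h₂ a' d, d3, h1'', G.a'c, zero_smul, one_smul, tp_zero_left, smul_zero, sub_zero,
      map_zero, zero_sub] at e
    have e' := congrArg (Pf f₂ k c') e
    simp only [map_sub, map_zero, zero_sub, map_neg, Pf_tp h₂, map_smul, G.hc.one, G.ac', one_smul,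
      zero_smul, sub_zero, add_sub_cancel_left, smul_zero, smul_neg, neg_inj] at e'
    exact e'
  refine ⟨-t₂, t₁, fun x => ?_⟩
  obtain ⟨p, q, hpq⟩ := fB (tp x d) (by rw [Pf_tp h₂, d1, zero_smul]) (by rw [Pf_tp h₂, d2, zero_smul])
  have hq : q = t₁ • x := h₁.eq_of_left fun v => by
    have h := hskew (tp v c') x
    simp only [T] at h
    rw [tForm_right h₂ h₁, k1, hpq, tForm_add_right, tForm_tp h₂ h₁, tForm_tp h₂ h₁, symm h₂ c' a, G.ac', h1',
      neg_left' h₁, h₁.smul_left] at h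
    rw [smul_right' h₁]
    linear_combination h
  have hp : p = (-t₂) • x := h₁.eq_of_left fun v => by
    have h := hskew (tp v a') x
    simp only [T] at h
    rw [tForm_right h₂ h₁, k2, hpq, tForm_add_right, tForm_tp h₂ h₁, tForm_tp h₂ h₁, h1'', G.a'c,
      h₁.smul_left] at h
    rw [smul_right' h₁]
    linear_combination h
  rw [hpq, hp, hq, tp_smul_left, tp_smul_left]

theorem sie_flag (h2 : (2 : F) ≠ 0) {e d : Fin l → F} (hea : e = a ∨ e = c) (he : f₂ e e = 0) (hd : f₂ d e = 0)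
    (d1 : f₂ d a = 0) (d2 : f₂ d c = 0) : Flag f₂ a c (kr (1 : GL (Fin k) F) (sieGL h₂ h2 he hd)) := by
  have hca : f₂ c a = 0 := by rw [symm h₂, G.ac]
  have had : f₂ a d = 0 := by rw [symm h₂, d1]
  have hcd : f₂ c d = 0 := by rw [symm h₂, d2]
  refine ⟨fun p q => ?_, fun u u1 u2 => ?_⟩
  · rw [lin_kr_sie h₂ h2 he hd]
    rcases hea with rfl | rfl <;>
      simp [tauOp, map_add, SOp_apply, Pf_tp h₂, G.ha.ee, G.hc.ee, G.ac, hca, had, hcd, d1, d2, tp_zero_left]
  · rw [lin_kr_sie h₂ h2 he hd]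
    rcases hea with rfl | rfl
    · exact ⟨Pf f₂ k d u, 0, by simp [tauOp, SOp_apply, u1, tp_zero_left]⟩
    · exact ⟨0, Pf f₂ k d u, by simp [tauOp, SOp_apply, u2, tp_zero_left]⟩

end

end Cfsg.Agent.OTensor
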