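import Cfsg.Agent.Lib.OTensorRadical

/-!
An element of an overgroup without skew root elements mapping a ruler plane to a ruler plane lies in the stabiliser
of the tensor decomposition.
-/

set_option autoImplicit false
set_option linter.unusedSectionVars false

namespace Cfsg.Agent.OTensor

open scoped Matrix MatrixGroups Kronecker
open Cfsg.Agent.TensorMax

variable {F : Type*} [Field F] {k l : ℕ}
variable {f₁ : (Fin k → F) → (Fin k → F) → F} {f₂ : (Fin l → F) → (Fin l → F) → F}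

theorem no_squeeze (hk : 0 < k) (φ : ((Fin k → F) × (Fin k → F)) →ₗ[F] (Fin k → F))
    (hφ : ∀ z, φ z = 0 → z = 0) : False := by
  have h := LinearMap.finrank_le_finrank_of_injective (f := φ)
    (LinearMap.ker_eq_bot.1 (LinearMap.ker_eq_bot'.2 hφ))
  rw [Module.finrank_prod, Module.finrank_fin_fun] at h
  omega

theorem tp_injective_left {b : Fin l → F} (hb : b ≠ 0) {v w : Fin k → F} (h : tp v b = tp w b) : v = w :=
  J_injective hb h

theorem exists_vec {v : Fin k → F} (hv : v ≠ 0) : ∃ i, v i ≠ 0 := Function.ne_iff.1 hv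

section Rep

variable (h₂ : Sym f₂)
include h₂

theorem exists_rep (φ : (Fin l → F) →ₗ[F] F) : ∃ D, ∀ w, φ w = f₂ w D := by
  have hinj : Function.Injective (bl h₂).flip := by
    rw [← LinearMap.ker_eq_bot, LinearMap.ker_eq_bot']
    intro z hz
    refine h₂.nd z fun w => ?_
    have := LinearMap.congr_fun hz w
    rw [symm h₂]
    simpa [bl_apply] using this
  obtain ⟨D, hD⟩ := ((LinearMap.injective_iff_surjective_of_finrank_eq_finrank
    (Subspace.dual_finrank_eq).symm).1 hinj) φ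
  exact ⟨D, fun w => by rw [← hD]; rfl⟩

variable {a c a' c' : Fin l → F} (G : Frm f₂ a c a' c')
include G

theorem proj4_zero_rows (u : Fin k × Fin l → F) (P : (Fin k × Fin l → F) →ₗ[F] (Fin k × Fin l → F))
    (hP : ∀ p q : Fin k → F, P (tp p a + tp q c) = 0) (h1 : Pf f₂ k a u = 0) (h2 : Pf f₂ k c u = 0) :
    P u = ∑ i, P (tp (Pi.single i 1) (proj4 f₂ a c a' c' fun j => u (i, j))) := by
  rw [← map_sum]
  conv_lhs => rw [decompT h₂ G u, h1, h2, tp_zero_left, tp_zero_left, add_zero, add_zero, map_add, hP, zero_add]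
  exact congrArg P (tp_decomp _)

end Rep

namespace OC

variable {M : Subgroup (GL (Fin k × Fin l) F)} (C : OC f₁ f₂ M) [Finite F] (hN : NoSkew f₁ f₂ M)
include C hN

omit hN in
/-- Scalar blocks on the middle layer come from two vectors. -/
theorem flag_rep {a c a' c' : Fin l → F} (G : Frm f₂ a c a' c') (A : Module.End F (Fin k × Fin l → F))
    (fC : ∀ p q : Fin k → F, A (tp p a + tp q c) = 0)
    (hsc : ∀ d, f₂ d a = 0 → f₂ d c = 0 → f₂ d a' = 0 → f₂ d c' = 0 →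
      ∃ p q : F, ∀ x, A (tp x d) = p • tp x a + q • tp x c) :
    ∃ D D' : Fin l → F,
      (f₂ D a = 0 ∧ f₂ D c = 0 ∧ f₂ D a' = 0 ∧ f₂ D c' = 0) ∧
      (f₂ D' a = 0 ∧ f₂ D' c = 0 ∧ f₂ D' a' = 0 ∧ f₂ D' c' = 0) ∧
      ∀ u, Pf f₂ k a u = 0 → Pf f₂ k c u = 0 →
        A u = tp (Pf f₂ k D u) a + tp (Pf f₂ k D' u) c := by
  obtain ⟨v₀, hv₀⟩ : ∃ v₀ : Fin k → F, v₀ ≠ 0 := ⟨Pi.single ⟨0, by have := C.hk; omega⟩ 1, by simp⟩
  obtain ⟨i₀, hi₀⟩ := exists_vec hv₀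
  let coef : (Fin l → F) → (Fin l → F) →ₗ[F] F := fun b =>
    { toFun := fun w => (v₀ i₀)⁻¹ * Pf f₂ k b (A (tp v₀ (proj4 f₂ a c a' c' w))) i₀
      map_add' := fun u w => by rw [proj4_add C.h₂ G, tp_add_right, map_add, map_add, Pi.add_apply, mul_add]
      map_smul' := fun s w => by
        rw [proj4_smul C.h₂ G, tp_smul_right, map_smul, map_smul, Pi.smul_apply, smul_eq_mul, smul_eq_mul,
          RingHom.id_apply]
        ring }
  obtain ⟨D, hD⟩ := exists_rep C.h₂ (coef a')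
  obtain ⟨D', hD'⟩ := exists_rep C.h₂ (coef c')
  have hca : f₂ c a = 0 := by rw [symm C.h₂, G.ac]
  have hz : ∀ b w, proj4 f₂ a c a' c' w = 0 → coef b w = 0 := fun b w hw => by
    show (v₀ i₀)⁻¹ * Pf f₂ k b (A (tp v₀ (proj4 f₂ a c a' c' w))) i₀ = 0
    rw [hw, tp_zero_right, map_zero, map_zero, Pi.zero_apply, mul_zero]
  have pz : proj4 f₂ a c a' c' a = 0 ∧ proj4 f₂ a c a' c' c = 0 ∧ proj4 f₂ a c a' c' a' = 0 ∧
      proj4 f₂ a c a' c' c' = 0 := by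
    refine ⟨?_, ?_, ?_, ?_⟩ <;>
      simp [proj4, proj0, G.ha.ee, G.ha.ee', G.ha.one, G.hc.ee, G.hc.ee', G.hc.one, G.ac, G.ac', G.a'c, G.a'c', hca,
        symm C.h₂ a' a, symm C.h₂ c' c, symm C.h₂ c' a, symm C.h₂ c a', symm C.h₂ c' a', C.h₂.zero_left]
  refine ⟨D, D', ?_, ?_, fun u u1 u2 => ?_⟩
  · refine ⟨?_, ?_, ?_, ?_⟩ <;> rw [symm C.h₂, ← hD] <;> refine hz _ _ ?_
    exacts [pz.1, pz.2.1, pz.2.2.1, pz.2.2.2]
  · refine ⟨?_, ?_, ?_, ?_⟩ <;> rw [symm C.h₂, ← hD'] <;> refine hz _ _ ?_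
    exacts [pz.1, pz.2.1, pz.2.2.1, pz.2.2.2]
  · have hrow : ∀ (x : Fin k → F) w, A (tp x (proj4 f₂ a c a' c' w)) = f₂ w D • tp x a + f₂ w D' • tp x c := by
      intro x w
      obtain ⟨w1, w2, w3, w4⟩ := proj4_perp C.h₂ G w
      obtain ⟨p, q, hpq⟩ := hsc _ w1 w2 w3 w4
      have e1 : f₂ w D = p := by
        rw [← hD]
        show (v₀ i₀)⁻¹ * Pf f₂ k a' (A (tp v₀ (proj4 f₂ a c a' c' w))) i₀ = p
        rw [hpq, map_add, map_smul, map_smul, Pf_tp C.h₂, Pf_tp C.h₂, G.ha.one, symm C.h₂ c a', G.a'c, one_smul,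
          zero_smul, smul_zero, add_zero, Pi.smul_apply, smul_eq_mul]
        field_simp
      have e2 : f₂ w D' = q := by
        rw [← hD']
        show (v₀ i₀)⁻¹ * Pf f₂ k c' (A (tp v₀ (proj4 f₂ a c a' c' w))) i₀ = q
        rw [hpq, map_add, map_smul, map_smul, Pf_tp C.h₂, Pf_tp C.h₂, G.hc.one, G.ac', one_smul,
          zero_smul, smul_zero, zero_add, Pi.smul_apply, smul_eq_mul]
        field_simp
      rw [hpq, e1, e2]
    rw [proj4_zero_rows C.h₂ G u A fC u1 u2]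
    simp only [hrow, Finset.sum_add_distrib]
    congr 1 <;>
    · funext p
      simp [tp, Finset.sum_apply, Pi.single_apply, Pf_apply C.h₂]

/-- A radical element of `M` acts on the middle layer through two vectors. -/
theorem flag_mem {a c a' c' : Fin l → F} (G : Frm f₂ a c a' c') {n : GL (Fin k × Fin l) F} (hn : n ∈ M)
    (fn : Flag f₂ a c n) :
    ∃ D D' : Fin l → F,
      (f₂ D a = 0 ∧ f₂ D c = 0 ∧ f₂ D a' = 0 ∧ f₂ D c' = 0) ∧
      (f₂ D' a = 0 ∧ f₂ D' c = 0 ∧ f₂ D' a' = 0 ∧ f₂ D' c' = 0) ∧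
      ∀ u, Pf f₂ k a u = 0 → Pf f₂ k c u = 0 →
        (lin n - 1) u = tp (Pf f₂ k D u) a + tp (Pf f₂ k D' u) c := by
  have hiso := C.le hn
  obtain ⟨fA, fB, fC⟩ := fn.prod C.h₁ C.h₂ G hiso
  set A := lin n - 1 with hA
  have hsc : ∀ d, f₂ d a = 0 → f₂ d c = 0 → f₂ d a' = 0 → f₂ d c' = 0 →
      ∃ p q : F, ∀ x, A (tp x d) = p • tp x a + q • tp x c := fun d d1 d2 d3 d4 => by
    refine flag_scalar C.h₁ C.h₂ G C.two hiso fn (fun e d hea hd he d1 d2 _ _ => ?_) d1 d2 d3 d4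
    have hm : kr (1 : GL (Fin k) F) (sieGL C.h₂ C.two he hd) ∈ M := C.sie_mem he hd
    have fm := sie_flag C.h₁ C.h₂ G C.two hea he hd d1 d2
    have hcomm := lin_commutator C.h₁ C.h₂ G hiso (C.le hm) fn fm
    set m := n * kr (1 : GL (Fin k) F) (sieGL C.h₂ C.two he hd) * n⁻¹ *
      (kr (1 : GL (Fin k) F) (sieGL C.h₂ C.two he hd))⁻¹ with hmdef
    have hmM : m ∈ M := M.mul_mem (M.mul_mem (M.mul_mem hn hm) (M.inv_mem hn)) (M.inv_mem hm)
    obtain ⟨mA, mB, mC⟩ := fm.prod C.h₁ C.h₂ G (C.le hm)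
    have hcen : Central f₁ f₂ a c (lin m - 1) := central_of_fix C.h₁ C.h₂ G (C.le hmM) fun u u1 u2 => by
      obtain ⟨p, q, hpq⟩ := mB u u1 u2
      obtain ⟨p', q', hpq'⟩ := fB u u1 u2
      rw [hcomm, LinearMap.add_apply, Module.End.one_apply, LinearMap.sub_apply, Module.End.mul_apply,
        Module.End.mul_apply, hpq, hpq', fC, mC, sub_zero, add_zero]
    obtain ⟨t, ht⟩ := C.central_mem_scalar hN G hcen (el_iff.2 ⟨m, hmM, by abel⟩)
    refine ⟨t, ?_⟩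
    rw [← ht, hcomm, add_sub_cancel_left]
  exact C.flag_rep G A fC hsc

variable {g : GL (Fin k × Fin l) F} (hg : g ∈ M) {a c a' c' a₁ c₁ a₁' c₁' : Fin l → F} (G : Frm f₂ a c a' c')
  (G₁ : Frm f₂ a₁ c₁ a₁' c₁') (hmap : ∀ p q : Fin k → F, ∃ p' q', lin g (tp p a + tp q c) = tp p' a₁ + tp q' c₁)
include hg G G₁ hmap

omit hN in
theorem map_onto (p' q' : Fin k → F) : ∃ p q, lin g (tp p a + tp q c) = tp p' a₁ + tp q' c₁ := by
  let Φ : ((Fin k → F) × (Fin k → F)) →ₗ[F] (Fin k → F) × (Fin k → F) :=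
    LinearMap.prod ((Pf f₂ k a₁').comp ((lin g).comp ((J a).comp (LinearMap.fst F _ _) + (J c).comp (LinearMap.snd F _ _))))
      ((Pf f₂ k c₁').comp ((lin g).comp ((J a).comp (LinearMap.fst F _ _) + (J c).comp (LinearMap.snd F _ _))))
  have hval : ∀ p q, ∀ r s, lin g (tp p a + tp q c) = tp r a₁ + tp s c₁ → Φ (p, q) = (r, s) := by
    intro p q r s h
    simp only [Φ, LinearMap.prod_apply, LinearMap.comp_apply, LinearMap.add_apply, LinearMap.fst_apply,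
      LinearMap.snd_apply, J_apply, h, map_add, Pf_tp C.h₂, G₁.ha.one, G₁.hc.one, G₁.ac', symm C.h₂ c₁ a₁', G₁.a'c,
      one_smul, zero_smul, add_zero, zero_add, Function.prod]
  have hinj : Function.Injective Φ := by
    rw [← LinearMap.ker_eq_bot, LinearMap.ker_eq_bot']
    rintro ⟨p, q⟩ hpq
    obtain ⟨r, s, hrs⟩ := hmap p q
    rw [hval p q r s hrs] at hpq
    rw [(Prod.mk.injEq _ _ _ _).mp hpq |>.1, (Prod.mk.injEq _ _ _ _).mp hpq |>.2, tp_zero_left, tp_zero_left,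
      add_zero] at hrs
    have h0 : tp p a + tp q c = 0 := by rw [← lin_inv_apply g (tp p a + tp q c), hrs, map_zero]
    have e1 := congrArg (Pf f₂ k a') h0
    have e2 := congrArg (Pf f₂ k c') h0
    simp only [map_add, map_zero, Pf_tp C.h₂, G.ha.one, G.hc.one, G.ac', symm C.h₂ c a', G.a'c, one_smul, zero_smul,
      add_zero, zero_add] at e1 e2
    rw [e1, e2]
    rfl
  obtain ⟨⟨p, q⟩, hpq⟩ := LinearMap.surjective_of_injective hinj (p', q')
  obtain ⟨r, s, hrs⟩ := hmap p q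
  rw [hval p q r s hrs] at hpq
  obtain ⟨rfl, rfl⟩ := (Prod.mk.injEq _ _ _ _).mp hpq
  exact ⟨p, q, hrs⟩

omit hN in
theorem map_ker (u : Fin k × Fin l → F) :
    (Pf f₂ k a u = 0 ∧ Pf f₂ k c u = 0) ↔ (Pf f₂ k a₁ (lin g u) = 0 ∧ Pf f₂ k c₁ (lin g u) = 0) := by
  constructor
  · rintro ⟨u1, u2⟩
    have key : ∀ p q : Fin k → F, T f₁ f₂ (lin g u) (tp p a₁ + tp q c₁) = 0 := fun p q => by
      obtain ⟨r, s, hrs⟩ := C.map_onto hg G G₁ hmap p q
      rw [← hrs, C.le hg]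
      exact T_plane C.h₁ C.h₂ G u1 u2 r s
    constructor <;> refine C.h₁.nd _ fun x => ?_
    · have := key x 0
      rwa [tp_zero_left, add_zero, T, tForm_right C.h₂ C.h₁] at this
    · have := key 0 x
      rwa [tp_zero_left, zero_add, T, tForm_right C.h₂ C.h₁] at this
  · rintro ⟨u1, u2⟩
    have key : ∀ p q : Fin k → F, T f₁ f₂ u (tp p a + tp q c) = 0 := fun p q => by
      obtain ⟨r, s, hrs⟩ := hmap p q
      rw [← C.le hg, hrs]
      exact T_plane C.h₁ C.h₂ G₁ u1 u2 r s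
    constructor <;> refine C.h₁.nd _ fun x => ?_
    · have := key x 0
      rwa [tp_zero_left, add_zero, T, tForm_right C.h₂ C.h₁] at this
    · have := key 0 x
      rwa [tp_zero_left, zero_add, T, tForm_right C.h₂ C.h₁] at this

/-- Conjugating a Siegel element at `a` through `g`. -/
theorem image_eq {d : Fin l → F} (d1 : f₂ d a = 0) (d2 : f₂ d c = 0) :
    ∃ D D' : Fin l → F,
      (f₂ D a₁ = 0 ∧ f₂ D c₁ = 0 ∧ f₂ D a₁' = 0 ∧ f₂ D c₁' = 0) ∧
      (f₂ D' a₁ = 0 ∧ f₂ D' c₁ = 0 ∧ f₂ D' a₁' = 0 ∧ f₂ D' c₁' = 0) ∧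
      ∀ u, Pf f₂ k a u = 0 → Pf f₂ k c u = 0 →
        lin g (tp (Pf f₂ k d u) a) = tp (Pf f₂ k D (lin g u)) a₁ + tp (Pf f₂ k D' (lin g u)) c₁ := by
  set n := kr (1 : GL (Fin k) F) (sieGL C.h₂ C.two G.ha.ee d1) with hn
  have hnM : n ∈ M := C.sie_mem G.ha.ee d1
  have fn : Flag f₂ a c n := sie_flag C.h₁ C.h₂ G C.two (Or.inl rfl) G.ha.ee d1 d1 d2
  set n₁ := g * n * g⁻¹ with hn₁
  have hn₁M : n₁ ∈ M := M.mul_mem (M.mul_mem hg hnM) (M.inv_mem hg)
  have hA1 : ∀ u, (lin n₁ - 1) (lin g u) = lin g ((lin n - 1) u) := fun u => by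
    rw [hn₁, map_mul, map_mul, LinearMap.sub_apply, Module.End.mul_apply, Module.End.mul_apply, lin_inv_apply,
      Module.End.one_apply, LinearMap.sub_apply, Module.End.one_apply, map_sub]
  have fn₁ : Flag f₂ a₁ c₁ n₁ := by
    refine ⟨fun p q => ?_, fun u u1 u2 => ?_⟩
    · obtain ⟨r, s, hrs⟩ := C.map_onto hg G G₁ hmap p q
      rw [← hrs, hn₁, map_mul, map_mul, Module.End.mul_apply, Module.End.mul_apply, lin_inv_apply, fn.1]
    · obtain ⟨z1, z2⟩ := (C.map_ker hg G G₁ hmap (lin g⁻¹ u)).2 (by rw [lin_apply_inv]; exact ⟨u1, u2⟩)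
      obtain ⟨p, q, hpq⟩ := fn.2 _ z1 z2
      obtain ⟨r, s, hrs⟩ := hmap p q
      refine ⟨r, s, ?_⟩
      rw [← hrs, ← hpq, map_sub, lin_apply_inv, hn₁, map_mul, map_mul, Module.End.mul_apply, Module.End.mul_apply]
  obtain ⟨D, D', hD, hD', heq⟩ := C.flag_mem hN G₁ hn₁M fn₁
  refine ⟨D, D', hD, hD', fun u u1 u2 => ?_⟩
  obtain ⟨z1, z2⟩ := (C.map_ker hg G G₁ hmap u).1 ⟨u1, u2⟩
  rw [← heq _ z1 z2, hA1, hn, lin_kr_sie C.h₂ C.two G.ha.ee d1]
  congr 1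
  simp [tauOp, SOp_apply, u1, tp_zero_left]

/-- One ruler of the plane goes to a ruler. -/
theorem line_pure : ∃ (α : (Fin k → F) →ₗ[F] (Fin k → F)) (p q : F), Function.Injective α ∧
    ∀ v, lin g (tp v a) = tp (α v) (p • a₁ + q • c₁) := by
  obtain ⟨d, d1, d3, d2, d4, dd⟩ := exists_aniso_four C.h₂ C.two C.hl G.ha G.hc
    (by rw [symm C.h₂, G.ac]) (by rw [symm C.h₂, G.a'c]) (by rw [symm C.h₂, G.ac']) (by rw [symm C.h₂, G.a'c'])
  obtain ⟨D, D', hD, hD', heq⟩ := C.image_eq hN hg G G₁ hmap d1 d2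
  set ds := (f₂ d d)⁻¹ • d with hds
  have hds1 : f₂ ds a = 0 ∧ f₂ ds c = 0 ∧ f₂ ds d = 1 := by
    simp [hds, C.h₂.smul_left, d1, d2, inv_mul_cancel₀ dd]
  have hu : ∀ v : Fin k → F, Pf f₂ k a (tp v ds) = 0 ∧ Pf f₂ k c (tp v ds) = 0 ∧ Pf f₂ k d (tp v ds) = v :=
    fun v => by simp [Pf_tp C.h₂, hds1]
  obtain ⟨p, q, D₀, hp, hq⟩ : ∃ (p q : F) (D₀ : Fin l → F), D = p • D₀ ∧ D' = q • D₀ := by
    by_cases h0 : D = 0
    · exact ⟨0, 1, D', by rw [h0, zero_smul], by rw [one_smul]⟩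
    by_cases hy : ∃ y : F, D' = y • D
    · obtain ⟨y, hy⟩ := hy
      exact ⟨1, y, D, (one_smul F D).symm, hy⟩
    exfalso
    push Not at hy
    have h0' : D' ≠ 0 := fun h => hy 0 (by rw [h, zero_smul])
    have hy' : ∀ t : F, D ≠ t • D' := fun t ht => by
      by_cases t0 : t = 0
      · exact h0 (by rw [ht, t0, zero_smul])
      · exact hy t⁻¹ (by rw [ht, inv_smul_smul₀ t0])
    obtain ⟨y₁, e1, e2⟩ := exists_dual_two C.h₂ h0 hy
    obtain ⟨y₂, e3, e4⟩ := exists_dual_two C.h₂ h0' hy'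
    have hpr : ∀ D y, (f₂ D a₁ = 0 ∧ f₂ D c₁ = 0 ∧ f₂ D a₁' = 0 ∧ f₂ D c₁' = 0) →
        f₂ (proj4 f₂ a₁ c₁ a₁' c₁' y) D = f₂ D y := fun D y h => by
      conv_rhs => rw [decomp4 C.h₂ G₁ y]
      simp [C.h₂.add_right, smul_right' C.h₂, h.1, h.2.1, h.2.2.1, h.2.2.2, symm C.h₂ _ D]
    set z₁ := proj4 f₂ a₁ c₁ a₁' c₁' y₁
    set z₂ := proj4 f₂ a₁ c₁ a₁' c₁' y₂
    have hz : ∀ y, Pf f₂ k a (lin g⁻¹ y) = 0 ∧ Pf f₂ k c (lin g⁻¹ y) = 0 ↔
        Pf f₂ k a₁ y = 0 ∧ Pf f₂ k c₁ y = 0 := fun y => by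
      rw [C.map_ker hg G G₁ hmap (lin g⁻¹ y), lin_apply_inv]
    obtain ⟨q1, q2, -, -⟩ := proj4_perp C.h₂ G₁ y₁
    obtain ⟨r1, r2, -, -⟩ := proj4_perp C.h₂ G₁ y₂
    have key : ∀ v w : Fin k → F, ∃ x, lin g (tp x a) = tp v a₁ + tp w c₁ := by
      intro v w
      set u := lin g⁻¹ (tp v z₁ + tp w z₂)
      obtain ⟨u1, u2⟩ := (hz (tp v z₁ + tp w z₂)).2 (by
        simp [map_add, Pf_tp C.h₂, z₁, z₂, q1, q2, r1, r2])
      refine ⟨Pf f₂ k d u, ?_⟩
      rw [heq u u1 u2, lin_apply_inv, map_add, map_add, Pf_tp C.h₂, Pf_tp C.h₂, Pf_tp C.h₂, Pf_tp C.h₂,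
        hpr D y₁ hD, hpr D y₂ hD, hpr D' y₁ hD', hpr D' y₂ hD', e1, e2, e3, e4]
      simp
    refine no_squeeze (show 0 < k by have := C.hk; omega)
      ((Pf f₂ k a').comp ((lin g⁻¹).comp ((J a₁).comp (LinearMap.fst F _ _) + (J c₁).comp (LinearMap.snd F _ _)))) ?_
    rintro ⟨v, w⟩ hvw
    obtain ⟨x, hx⟩ := key v w
    simp only [LinearMap.comp_apply, LinearMap.add_apply, LinearMap.fst_apply, LinearMap.snd_apply, J_apply,
      ← hx, lin_inv_apply, Pf_tp C.h₂, G.ha.one, one_smul] at hvw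
    rw [hvw, tp_zero_left, map_zero] at hx
    have e5 := congrArg (Pf f₂ k a₁') hx
    have e6 := congrArg (Pf f₂ k c₁') hx
    simp only [map_add, map_zero, Pf_tp C.h₂, G₁.ha.one, G₁.hc.one, G₁.ac', symm C.h₂ c₁ a₁', G₁.a'c, one_smul,
      zero_smul, add_zero, zero_add] at e5 e6
    rw [← e5, ← e6]
    rfl
  let α : (Fin k → F) →ₗ[F] (Fin k → F) := (Pf f₂ k D₀).comp ((lin g).comp (J ds))
  have hα : ∀ v, lin g (tp v a) = tp (α v) (p • a₁ + q • c₁) := by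
    intro v
    obtain ⟨u1, u2, u3⟩ := hu v
    have := heq _ u1 u2
    rw [u3, hp, hq, Pf_smul C.h₂, Pf_smul C.h₂, tp_smul_left, tp_smul_left] at this
    rw [this, tp_add_right]
    simp only [RingHom.id_apply, tp_smul_right, α, LinearMap.comp_apply, J_apply]
  refine ⟨α, p, q, ?_, hα⟩
  rw [← LinearMap.ker_eq_bot, LinearMap.ker_eq_bot']
  intro v hv
  refine J_injective (G.ha.ne C.h₂) ?_
  rw [J_apply, J_apply, tp_zero_left, ← lin_inv_apply g (tp v a), hα, hv, tp_zero_left, map_zero]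

/-- The plane is mapped by a pure tensor of maps. -/
theorem plane_pure : ∃ (α : (Fin k → F) →ₗ[F] (Fin k → F)) (p q r s : F), Function.Injective α ∧
    p * s - q * r ≠ 0 ∧ (∀ v, lin g (tp v a) = tp (α v) (p • a₁ + q • c₁)) ∧
    ∀ v, lin g (tp v c) = tp (α v) (r • a₁ + s • c₁) := by
  obtain ⟨α, p, q, hα, ha⟩ := C.line_pure hN hg G G₁ hmap
  obtain ⟨γ, r, s, hγ, hc⟩ := C.line_pure hN hg (G.swap C.h₂) G₁ fun x y => by
    rw [add_comm]; exact hmap y x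
  obtain ⟨η, r₃, s₃, hη, h3⟩ := C.line_pure hN hg (G.shift C.h₂) G₁ fun x y => by
    have e : tp x (a + c) + tp y c = tp x a + tp (x + y) c := by rw [tp_add_right, tp_add_left, add_assoc]
    rw [e]
    exact hmap x (x + y)
  have hk0 : 0 < k := by have := C.hk; omega
  have hsum : ∀ v, tp (η v) (r₃ • a₁ + s₃ • c₁) =
      tp (α v) (p • a₁ + q • c₁) + tp (γ v) (r • a₁ + s • c₁) := fun v => by
    rw [← h3, ← ha, ← hc, ← map_add, tp_add_right]
  have hdet : p * s - q * r ≠ 0 := by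
    intro h0
    -- both rulers would go into one
    obtain ⟨b, x, y, hb1, hb2⟩ : ∃ (b : Fin l → F) (x y : F),
        p • a₁ + q • c₁ = x • b ∧ r • a₁ + s • c₁ = y • b := by
      by_cases hp : p = 0
      · by_cases hq : q = 0
        · exact ⟨r • a₁ + s • c₁, 0, 1, by rw [hp, hq]; simp, by rw [one_smul]⟩
        · have hr : r = 0 := by
            have h' : q * r = 0 := by rw [hp] at h0; linear_combination -h0
            exact (mul_eq_zero.1 h').resolve_left hq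
          exact ⟨c₁, q, s, by rw [hp]; simp, by rw [hr]; simp⟩
      · refine ⟨p • a₁ + q • c₁, 1, r / p, by rw [one_smul], ?_⟩
        rw [smul_add, smul_smul, smul_smul, div_mul_cancel₀ _ hp]
        congr 2
        field_simp
        linear_combination h0
    refine no_squeeze hk0 (x • α.comp (LinearMap.fst F _ _) + y • γ.comp (LinearMap.snd F _ _)) ?_
    rintro ⟨v, w⟩ hvw
    have h1 : lin g (tp v a + tp w c) = tp (x • α v + y • γ w) b := by
      rw [map_add, ha, hc, hb1, hb2, tp_smul_right, tp_smul_right, tp_add_left, tp_smul_left, tp_smul_left]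
    have h2 : x • α v + y • γ w = 0 := by simpa using hvw
    rw [h2, tp_zero_left] at h1
    have h3' : tp v a + tp w c = 0 := by rw [← lin_inv_apply g (tp v a + tp w c), h1, map_zero]
    have e1 := congrArg (Pf f₂ k a') h3'
    have e2 := congrArg (Pf f₂ k c') h3'
    simp only [map_add, map_zero, Pf_tp C.h₂, G.ha.one, G.hc.one, G.ac', symm C.h₂ c a', G.a'c, one_smul, zero_smul,
      add_zero, zero_add] at e1 e2
    rw [e1, e2]
    rfl
  have hb : ∀ x y : F, (∀ v, tp (η v) (r₃ • a₁ + s₃ • c₁) = tp (α v) (p • a₁ + q • c₁) + tp (γ v) (r • a₁ + s • c₁)) →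
      ∀ v, (r₃ * x + s₃ * y) • η v = (p * x + q * y) • α v + (r * x + s * y) • γ v := by
    intro x y h v
    have e := congrArg (Pf f₂ k (x • a₁' + y • c₁')) (h v)
    simp only [map_add, Pf_tp C.h₂] at e
    simpa [C.h₂.add_left, C.h₂.add_right, C.h₂.smul_left, smul_right' C.h₂, G₁.ha.one, G₁.hc.one, G₁.ac',
      symm C.h₂ c₁ a₁', G₁.a'c, mul_comm] using e
  have e1 := hb (s / (p * s - q * r)) (-r / (p * s - q * r)) hsum
  have e2 := hb (-q / (p * s - q * r)) (p / (p * s - q * r)) hsum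
  have w1 : p * (s / (p * s - q * r)) + q * (-r / (p * s - q * r)) = 1 := by
    rw [← mul_div_assoc, ← mul_div_assoc, ← add_div, div_eq_one_iff_eq hdet]; ring
  have w2 : r * (s / (p * s - q * r)) + s * (-r / (p * s - q * r)) = 0 := by ring
  have w3 : p * (-q / (p * s - q * r)) + q * (p / (p * s - q * r)) = 0 := by ring
  have w4 : r * (-q / (p * s - q * r)) + s * (p / (p * s - q * r)) = 1 := by
    rw [← mul_div_assoc, ← mul_div_assoc, ← add_div, div_eq_one_iff_eq hdet]; ring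
  simp only [w1, w2, one_smul, zero_smul, add_zero] at e1
  simp only [w3, w4, one_smul, zero_smul, zero_add] at e2
  set κ₁ := r₃ * (s / (p * s - q * r)) + s₃ * (-r / (p * s - q * r))
  set κ₂ := r₃ * (-q / (p * s - q * r)) + s₃ * (p / (p * s - q * r))
  obtain ⟨v₀, hv₀⟩ : ∃ v₀ : Fin k → F, v₀ ≠ 0 := ⟨Pi.single ⟨0, hk0⟩ 1, by simp⟩
  have hκ₁ : κ₁ ≠ 0 := fun h0 => hv₀ (hα (by rw [← e1 v₀, h0, zero_smul, map_zero]))
  have hκ₂ : κ₂ ≠ 0 := fun h0 => hv₀ (hγ (by rw [← e2 v₀, h0, zero_smul, map_zero]))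
  set κ := κ₂ / κ₁ with hκ
  have hκ0 : κ ≠ 0 := div_ne_zero hκ₂ hκ₁
  have hγα : ∀ v, γ v = κ • α v := fun v => by
    rw [← e1 v, ← e2 v, smul_smul, hκ, div_mul_cancel₀ _ hκ₁]
  refine ⟨α, p, q, κ * r, κ * s, hα, ?_, ha, fun v => ?_⟩
  · rw [show p * (κ * s) - q * (κ * r) = κ * (p * s - q * r) by ring]
    exact mul_ne_zero hκ0 hdet
  · rw [hc, hγα, tp_smul_left, ← tp_smul_right, smul_add, smul_smul, smul_smul]

end OC

end Cfsg.Agent.OTensor
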