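import Cfsg.Agent.Lib.OWreathLocal

/-!
Similitudes, the Lie algebra of the one-position isometries and unipotent elements of an overgroup.
-/

set_option autoImplicit false
set_option linter.unusedSectionVars false

namespace Cfsg.Agent.OWreath

open Cfsg.Agent.OTensor (Sym nn)

variable {F : Type*} [Field F] {k : ℕ} {ι : Type} [Fintype ι] [DecidableEq ι] {f : W F k → W F k → F}

/-- A similitude of the tensor power. -/
def IsSim (f : W F k → W F k → F) (g : GL (ι → Fin k) F) : Prop :=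
  ∃ μ : F, μ ≠ 0 ∧ ∀ u w, bT f (lg g u) (lg g w) = μ * bT f u w

/-- The skew operators at single positions. -/
def soS (hf : Sym f) : Submodule F (Module.End F (VI F ι k)) :=
  Submodule.span F {T | ∃ (p : ι) (v w : W F k), T = op p (nn hf v w)}

/-- An overgroup contains the element with the given displacement. -/
def El (M : Subgroup (GL (ι → Fin k) F)) (T : Module.End F (VI F ι k)) : Prop := ∃ g ∈ M, lg g = 1 + T

/-- The commutator group of the isometries. -/
def omV (f : W F k → W F k → F) : Subgroup (GL (ι → Fin k) F) := ⁅(isoV f : Subgroup (GL (ι → Fin k) F)), isoV f⁆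

theorem isSim_of_iso {g : GL (ι → Fin k) F} (hg : g ∈ isoV f) : IsSim f g :=
  ⟨1, one_ne_zero, fun u w => by rw [one_mul]; exact hg u w⟩

variable {M : Subgroup (GL (ι → Fin k) F)}

theorem El.zero : El M 0 := ⟨1, M.one_mem, by rw [map_one, add_zero]⟩

theorem El.add {T T' : Module.End F (VI F ι k)} (h : El M T) (h' : El M T') (e : T * T' = 0) : El M (T + T') := by
  obtain ⟨g, hg, hgT⟩ := h
  obtain ⟨g', hg', hgT'⟩ := h'
  exact ⟨g * g', M.mul_mem hg hg', by
    rw [map_mul, hgT, hgT', add_mul, one_mul, mul_add, mul_one, e, add_zero]; abel⟩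

theorem El.inv_eq {g : GL (ι → Fin k) F} {T : Module.End F (VI F ι k)} (h : lg g = 1 + T) (e : T * T = 0) :
    lg g⁻¹ = 1 - T := by
  calc lg g⁻¹ = lg g⁻¹ * ((1 + T) * (1 - T)) := by
        rw [add_mul, one_mul, mul_sub, mul_one, e, sub_zero, sub_add_cancel, mul_one]
    _ = 1 - T := by rw [← mul_assoc, ← h, lg_conj_inv, one_mul]

theorem El.neg {T : Module.End F (VI F ι k)} (h : El M T) (e : T * T = 0) : El M (-T) := by
  obtain ⟨g, hg, hgT⟩ := h
  exact ⟨g⁻¹, M.inv_mem hg, by rw [El.inv_eq hgT e, sub_eq_add_neg]⟩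

theorem El.conj {T : Module.End F (VI F ι k)} (h : El M T) {g : GL (ι → Fin k) F} (hg : g ∈ M) :
    El M (lg g * T * lg g⁻¹) := by
  obtain ⟨a, ha, haT⟩ := h
  exact ⟨g * a * g⁻¹, M.mul_mem (M.mul_mem hg ha) (M.inv_mem hg), by
    rw [map_mul, map_mul, haT, mul_add, mul_one, add_mul, lg_mul_inv]⟩

/-- The commutator of two square-zero unipotent elements. -/
theorem El.comm {T T' : Module.End F (VI F ι k)} (h : El M T) (h' : El M T') (e : T * T = 0) (e' : T' * T' = 0)
    (e₁ : T * T' * T = 0) (e₂ : T' * T * T' = 0) : El M (T * T' - T' * T) := by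
  obtain ⟨g, hg, hgT⟩ := h
  obtain ⟨g', hg', hgT'⟩ := h'
  refine ⟨g * g' * g⁻¹ * g'⁻¹, M.mul_mem (M.mul_mem (M.mul_mem hg hg') (M.inv_mem hg)) (M.inv_mem hg'), ?_⟩
  have z : ∀ Z, T * (T * Z) = 0 := fun Z => by rw [← mul_assoc, e, zero_mul]
  have z' : ∀ Z, T' * (T' * Z) = 0 := fun Z => by rw [← mul_assoc, e', zero_mul]
  have z₁ : ∀ Z, T * (T' * (T * Z)) = 0 := fun Z => by rw [← mul_assoc, ← mul_assoc, e₁, zero_mul]
  have z₂ : ∀ Z, T' * (T * (T' * Z)) = 0 := fun Z => by rw [← mul_assoc, ← mul_assoc, e₂, zero_mul]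
  have z₁' : T * (T' * T) = 0 := by rw [← mul_assoc, e₁]
  have z₂' : T' * (T * T') = 0 := by rw [← mul_assoc, e₂]
  rw [map_mul, map_mul, map_mul, hgT, hgT', El.inv_eq hgT e, El.inv_eq hgT' e']
  simp only [add_mul, mul_add, sub_mul, mul_sub, one_mul, mul_one, mul_assoc, e, e', z, z', z₁, z₂, z₁', z₂', zero_mul, smul_zero,
    mul_zero]
  abel

end Cfsg.Agent.OWreath
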