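import Cfsg.Agent.Lib.OWreathBasis
import Cfsg.Agent.Lib.OWreathDefs

/-!
Partial traces to the single positions, adjoints of tensor operators and sums over orbits.
-/

set_option autoImplicit false
set_option linter.unusedSectionVars false

namespace Cfsg.Agent.OWreath

open Cfsg.Agent.OTensor (Sym Hyp nn sq1 sie nn_apply sq1_apply smul_right' sub_left')

variable {F : Type*} [Field F] {k : ℕ} {ι : Type} [Fintype ι] [DecidableEq ι]

/-- Conjugation by an invertible matrix. -/
def conjOp {κ : Type} [Fintype κ] [DecidableEq κ] (g : GL κ F) :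
    Module.End F (κ → F) →ₗ[F] Module.End F (κ → F) :=
  (LinearMap.mulRight F (lg g⁻¹)).comp (LinearMap.mulLeft F (lg g))

theorem conjOp_apply {κ : Type} [Fintype κ] [DecidableEq κ] (g : GL κ F) (X : Module.End F (κ → F)) :
    conjOp g X = lg g * X * lg g⁻¹ := rfl

theorem conjOp_one {κ : Type} [Fintype κ] [DecidableEq κ] (X : Module.End F (κ → F)) : conjOp 1 X = X := by
  rw [conjOp_apply, inv_one, map_one, one_mul, mul_one]

theorem conjOp_mul {κ : Type} [Fintype κ] [DecidableEq κ] (g h : GL κ F) (X : Module.End F (κ → F)) :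
    conjOp (g * h) X = conjOp g (conjOp h X) := by
  simp only [conjOp_apply, mul_inv_rev, map_mul, mul_assoc]

theorem conjOp_inv_cancel {κ : Type} [Fintype κ] [DecidableEq κ] (g : GL κ F) (X : Module.End F (κ → F)) :
    conjOp g⁻¹ (conjOp g X) = X := by rw [← conjOp_mul, inv_mul_cancel, conjOp_one]

theorem conjOp_eq {κ : Type} [Fintype κ] [DecidableEq κ] {g : GL κ F} {X Y : Module.End F (κ → F)}
    (h : lg g * X = Y * lg g) : conjOp g X = Y := by
  rw [conjOp_apply, h, mul_assoc, lg_mul_inv, mul_one]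

theorem conjOp_mix (p : ι) (a : GL (Fin k) F) (X : Module.End F (W F k)) (B : Module.End F (VI F (Oth p) k)) :
    conjOp (opGL p a) (op p X * out p B) = op p (conjOp a X) * out p B := by
  refine conjOp_eq ?_
  rw [lg_opGL, conjOp_apply, ← mul_assoc, op_mul, mul_assoc (op p _), ← op_out, ← mul_assoc, op_mul,
    mul_assoc (lg a * X), lg_conj_inv, mul_one]

/-- The position change of a wreath element. -/
theorem op_mul_Nst (a : ι → GL (Fin k) F) (σ : Equiv.Perm ι) (p : ι) (Z : Module.End F (W F k)) :
    op p Z * lg (tenGL a * permGL σ) =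
      lg (tenGL a * permGL σ) * op (σ.symm p) (lg (a p)⁻¹ * Z * lg (a p)) := by
  rw [map_mul, lg_tenGL, lg_permGL, mul_assoc, permV_op, Equiv.apply_symm_apply, ← mul_assoc, ← mul_assoc]
  congr 1
  rw [op, op, ten_mul, ten_mul]
  congr 1
  funext i
  by_cases hi : i = p
  · subst hi
    simp only [Pi.mul_apply, Function.update_self]
    rw [← mul_assoc, ← mul_assoc, lg_mul_inv, one_mul]
  · simp [hi]

theorem conjOp_Nst_op (a : ι → GL (Fin k) F) (σ : Equiv.Perm ι) (p : ι) (Y : Module.End F (W F k)) :
    conjOp (tenGL a * permGL σ) (op (σ.symm p) Y) = op p (conjOp (a p) Y) := by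
  refine conjOp_eq ?_
  rw [op_mul_Nst, conjOp_apply]
  congr 2
  rw [← mul_assoc, ← mul_assoc, lg_conj_inv, one_mul, mul_assoc, lg_conj_inv, mul_one]

theorem ext_trace {κ : Type} [Fintype κ] [DecidableEq κ] {P Q : Module.End F (κ → F)}
    (h : ∀ Z, LinearMap.trace F _ (Z * P) = LinearMap.trace F _ (Z * Q)) : P = Q := by
  apply LinearMap.toMatrix'.injective
  refine Matrix.ext_iff_trace_mul_left.2 fun A => ?_
  have e := h (Matrix.toLin' A)
  rwa [LinearMap.trace_eq_matrix_trace F (Pi.basisFun F κ), LinearMap.trace_eq_matrix_trace F (Pi.basisFun F κ),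
    LinearMap.toMatrix_eq_toMatrix', LinearMap.toMatrix'_mul, LinearMap.toMatrix'_mul,
    LinearMap.toMatrix'_toLin'] at e

/-- The partial trace to one position. -/
noncomputable def trP (p : ι) : Module.End F (VI F ι k) →ₗ[F] Module.End F (W F k) where
  toFun X := Matrix.toLin' (Matrix.of fun c d =>
    LinearMap.trace F _ (op p (Matrix.toLin' (Matrix.single d c (1 : F))) * X))
  map_add' X Y := by
    rw [← map_add]
    congr 1
    ext c d
    rw [Matrix.add_apply, Matrix.of_apply, mul_add, map_add]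
    rfl
  map_smul' r X := by
    rw [RingHom.id_apply, ← map_smul]
    congr 1
    ext c d
    rw [Matrix.smul_apply, Matrix.of_apply, mul_smul_comm, map_smul]
    rfl

theorem trP_spec (p : ι) (X : Module.End F (VI F ι k)) (Z : Module.End F (W F k)) :
    LinearMap.trace F _ (Z * trP p X) = LinearMap.trace F _ (op p Z * X) := by
  obtain ⟨A, rfl⟩ : ∃ A, Matrix.toLin' A = Z := ⟨_, Matrix.toLin'_toMatrix' Z⟩
  let φ : Matrix (Fin k) (Fin k) F →ₗ[F] F := (LinearMap.trace F _).comp
    ((LinearMap.mulRight F (trP p X)).comp Matrix.toLin'.toLinearMap)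
  let ψ : Matrix (Fin k) (Fin k) F →ₗ[F] F := (LinearMap.trace F _).comp
    ((LinearMap.mulRight F X).comp ((opHom p).comp Matrix.toLin'.toLinearMap))
  refine LinearMap.congr_fun (?_ : φ = ψ) A
  refine Matrix.ext_linearMap F fun d c => LinearMap.ext_ring ?_
  show LinearMap.trace F _ (Matrix.toLin' (Matrix.single d c (1 : F)) * trP p X) =
    LinearMap.trace F _ (op p (Matrix.toLin' (Matrix.single d c (1 : F))) * X)
  rw [LinearMap.trace_eq_matrix_trace F (Pi.basisFun F (Fin k)), LinearMap.toMatrix_eq_toMatrix',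
    LinearMap.toMatrix'_mul, LinearMap.toMatrix'_toLin', trP, LinearMap.coe_mk, AddHom.coe_mk,
    LinearMap.toMatrix'_toLin', Matrix.trace, Finset.sum_eq_single d (fun x _ hx => by simp [hx]) (by simp)]
  simp

theorem trace_ten (X : ι → Module.End F (W F k)) :
    LinearMap.trace F _ (ten X) = ∏ i, LinearMap.trace F _ (X i) := by
  rw [LinearMap.trace_eq_matrix_trace F (Pi.basisFun F (ι → Fin k)), LinearMap.toMatrix_eq_toMatrix', ten]
  erw [LinearMap.toMatrix'_toLin']
  simp only [LinearMap.trace_eq_matrix_trace F (Pi.basisFun F (Fin k)), LinearMap.toMatrix_eq_toMatrix']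
  exact (Fintype.prod_sum fun i c => LinearMap.toMatrix' (X i) c c).symm

theorem trP_ten (p : ι) (X : ι → Module.End F (W F k)) :
    trP p (ten X) = (∏ i ∈ Finset.univ.erase p, LinearMap.trace F _ (X i)) • X p :=
  ext_trace fun Z => by
    rw [trP_spec, op, ten_mul, trace_ten, mul_smul_comm, map_smul, smul_eq_mul,
      ← Finset.mul_prod_erase _ _ (Finset.mem_univ p), mul_comm]
    congr 1
    · exact Finset.prod_congr rfl fun i hi => by
        rw [Pi.mul_apply, Function.update_of_ne (Finset.ne_of_mem_erase hi), Pi.one_apply, one_mul]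
    · rw [Pi.mul_apply, Function.update_self]

/-- The sum of the partial traces, placed back. -/
noncomputable def phiT : Module.End F (VI F ι k) →ₗ[F] Module.End F (VI F ι k) :=
  ∑ p, (opHom p).comp (trP p)

theorem phiT_apply (X : Module.End F (VI F ι k)) : phiT X = ∑ p, op p (trP p X) := by
  simp [phiT, opHom_apply]

theorem phiT_conjOp {g : GL (ι → Fin k) F} (hg : g ∈ Nst F k ι) (X : Module.End F (VI F ι k)) :
    phiT (conjOp g X) = conjOp g (phiT X) := by
  obtain ⟨a, σ, rfl⟩ := hg
  have key : ∀ p, trP p (conjOp (tenGL a * permGL σ) X) = conjOp (a p) (trP (σ.symm p) X) := fun p =>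
    ext_trace fun Z => by
      rw [trP_spec, conjOp_apply, conjOp_apply, ← mul_assoc, ← mul_assoc, op_mul_Nst,
        LinearMap.trace_mul_comm F (_ * X) (lg (tenGL a * permGL σ)⁻¹)]
      simp only [← mul_assoc]
      rw [lg_conj_inv, one_mul, ← trP_spec]
      conv_rhs => rw [LinearMap.trace_mul_comm]
      simp only [mul_assoc]
  simp only [phiT_apply, key, map_sum]
  rw [← Equiv.sum_comp σ.symm fun q => conjOp (tenGL a * permGL σ) (op q (trP q X))]
  exact Finset.sum_congr rfl fun p _ => (conjOp_Nst_op a σ p _).symm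

variable {f : W F k → W F k → F} (hf : Sym f)
include hf

theorem nn_smul_both (c d : F) (u v : W F k) : nn hf (c • u) (d • v) = (c * d) • nn hf u v :=
  LinearMap.ext fun x => by simp [nn_apply, smul_right' hf]; module

theorem sq1_smul (c : F) (u : W F k) : sq1 hf (c • u) = (c * c) • sq1 hf u :=
  LinearMap.ext fun x => by simp [sq1_apply, smul_right' hf]; module

theorem nn_conjOp {g : GL (Fin k) F} (hg : g ∈ isoW f) (u v : W F k) :
    conjOp g (nn hf u v) = nn hf (lg g u) (lg g v) :=
  conjOp_eq (LinearMap.ext fun x => by simp [Module.End.mul_apply, nn_apply, hg x v, hg x u])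

theorem sq1_conjOp {g : GL (Fin k) F} (hg : g ∈ isoW f) (u : W F k) :
    conjOp g (sq1 hf u) = sq1 hf (lg g u) :=
  conjOp_eq (LinearMap.ext fun x => by simp [Module.End.mul_apply, sq1_apply, hg x u])

omit hf in
variable (f) in
/-- Adjoint pairs of operators of one factor. -/
def Adj (T T' : Module.End F (W F k)) : Prop := ∀ u w, f (T u) w = f u (T' w)

omit hf in
variable (f) in
/-- Adjoint pairs of operators of the tensor power. -/
def AdjT (T T' : Module.End F (VI F ι k)) : Prop := ∀ u w, bT f (T u) w = bT f u (T' w)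

theorem adj_r1 (u v : W F k) : Adj f (r1 hf u v) (r1 hf v u) := fun x y => by
  simp [r1_apply, hf.smul_left, smul_right' hf, OTensor.symm hf u y, mul_comm]

theorem adj_op (p : ι) {Z Z' : Module.End F (W F k)} (h : Adj f Z Z') :
    AdjT f (op p Z) (op p Z') := fun u w => by
  have e : LinearMap.comp (bT f) (op p Z) = (bT f).compl₂ (op p Z') := bT_ext hf fun x y => by
    rw [LinearMap.comp_apply, LinearMap.compl₂_apply, op_pv, op_pv, bT_pv hf, bT_pv hf]
    refine Finset.prod_congr rfl fun i _ => ?_
    by_cases hi : i = p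
    · subst hi; simp [h (x i) (y i)]
    · simp [hi]
  exact LinearMap.congr_fun₂ e u w

theorem adj_ten {X X' : ι → Module.End F (W F k)} (h : ∀ i, Adj f (X i) (X' i)) :
    AdjT f (ten X) (ten X') := fun u w => by
  have e : LinearMap.comp (bT f) (ten X) = (bT f).compl₂ (ten X') := bT_ext hf fun x y => by
    rw [LinearMap.comp_apply, LinearMap.compl₂_apply, ten_pv, ten_pv, bT_pv hf, bT_pv hf]
    exact Finset.prod_congr rfl fun i _ => h i _ _
  exact LinearMap.congr_fun₂ e u w

theorem trace_adj {T T' : Module.End F (VI F ι k)} (h : AdjT f T T') :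
    LinearMap.trace F _ T = LinearMap.trace F _ T' := by
  let φ : VI F ι k ≃ₗ[F] Module.Dual F (VI F ι k) := LinearEquiv.ofBijective (bT f) (by
    have hi : Function.Injective (bT f : VI F ι k →ₗ[F] Module.Dual F (VI F ι k)) := by
      rw [← LinearMap.ker_eq_bot, LinearMap.ker_eq_bot']
      exact fun u hu => bT_nd hf u fun w => LinearMap.congr_fun hu w
    exact ⟨hi, (LinearMap.injective_iff_surjective_of_finrank_eq_finrank Subspace.dual_finrank_eq.symm).1 hi⟩)
  have e : φ.conj T = Module.Dual.transpose (R := F) T' := by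
    refine LinearMap.ext fun z => ?_
    obtain ⟨u, rfl⟩ := φ.surjective z
    refine LinearMap.ext fun w => ?_
    rw [LinearEquiv.conj_apply_apply, LinearEquiv.symm_apply_apply]
    exact h u w
  rw [← LinearMap.trace_conj' T φ, e, LinearMap.trace_transpose']

theorem trP_skew {X : Module.End F (VI F ι k)} (hX : ∀ u w, bT f (X u) w = -bT f u (X w)) (p : ι) :
    OTensor.IsSkew f (trP p X) := fun u v => by
  have tr1 : ∀ (a b : W F k) (Y : Module.End F (W F k)), LinearMap.trace F _ (r1 hf a b * Y) = f (Y a) b := by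
    intro a b Y
    rw [show r1 hf a b * Y = (((OTensor.bl hf).flip b).comp Y).smulRight a from rfl, LinearMap.trace_smulRight]
    rfl
  rw [← tr1 u v, trP_spec, OTensor.symm hf u (trP p X v), ← tr1 v u, trP_spec]
  have had : AdjT f (op p (r1 hf u v) * X) (-(X * op p (r1 hf v u))) := fun a b => by
    show bT f (op p (r1 hf u v) (X a)) b = bT f a (-(X (op p (r1 hf v u) b)))
    rw [adj_op hf p (adj_r1 hf u v) (X a) b, map_neg]
    exact hX a _
  rw [trace_adj hf had, map_neg, LinearMap.trace_mul_comm]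

/-- A skew operator is a combination of the elementary ones. -/
theorem skew_decomp (h2 : (2 : F) ≠ 0) {a : F} {z : Fin k → W F k} (hz : OB f a z) {Y : Module.End F (W F k)}
    (hY : OTensor.IsSkew f Y) : Y = ∑ i, ((2 : F)⁻¹ * (f (z i) (z i))⁻¹) • nn hf (Y (z i)) (z i) := by
  refine OB.ext hf hz fun j => ?_
  rw [LinearMap.sum_apply]
  simp only [LinearMap.smul_apply, nn_apply, smul_sub, Finset.sum_sub_distrib]
  rw [Finset.sum_eq_single j (fun i _ hij => by rw [hz.orth j i (Ne.symm hij), zero_smul, smul_zero]) (by simp)]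
  have e := OB.decomp hf hz (Y (z j))
  have e2 : ∑ i, ((2 : F)⁻¹ * (f (z i) (z i))⁻¹) • f (z j) (Y (z i)) • z i = -((2 : F)⁻¹ • Y (z j)) := by
    conv_rhs => rw [e, Finset.smul_sum, ← Finset.sum_neg_distrib]
    refine Finset.sum_congr rfl fun i _ => ?_
    rw [smul_smul, smul_smul, ← neg_smul, OTensor.symm hf (z j) (Y (z i)), hY, OTensor.symm hf (z i) (Y (z j))]
    congr 1
    ring
  rw [e2, sub_neg_eq_add, smul_smul, ← add_smul, mul_assoc, inv_mul_cancel₀ (hz.ne j), mul_one,
    ← two_mul, mul_inv_cancel₀ h2, one_smul]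

theorem op_skew_soS (h2 : (2 : F) ≠ 0) {a : F} {z : Fin k → W F k} (hz : OB f a z) {Y : Module.End F (W F k)}
    (hY : OTensor.IsSkew f Y) (p : ι) : op p Y ∈ soS hf := by
  rw [skew_decomp hf h2 hz hY, ← opHom_apply, map_sum]
  exact Submodule.sum_mem _ fun i _ => by
    rw [map_smul]
    exact Submodule.smul_mem _ _ (Submodule.subset_span ⟨p, _, _, rfl⟩)

theorem exists_adjW {a : F} {z : Fin k → W F k} (hz : OB f a z) (Y : Module.End F (W F k)) :
    ∃ Y', Adj f Y Y' := by
  refine ⟨∑ i, (f (z i) (z i))⁻¹ • r1 hf (z i) (Y (z i)), fun u v => ?_⟩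
  rw [LinearMap.sum_apply, hf.sum_right]
  conv_lhs => rw [OB.decomp hf hz u, map_sum, hf.sum_left]
  refine Finset.sum_congr rfl fun i _ => ?_
  rw [map_smul, hf.smul_left, LinearMap.smul_apply, r1_apply, smul_right' hf, smul_right' hf,
    OTensor.symm hf v (Y (z i))]
  ring

omit hf in
theorem span_ten : Submodule.span F (Set.range (ten (F := F) (k := k) (ι := ι))) = ⊤ := by
  refine Submodule.eq_top_iff'.2 fun T => ?_
  obtain ⟨A, rfl⟩ : ∃ A, Matrix.toLin' A = T := ⟨_, Matrix.toLin'_toMatrix' T⟩
  have e : ∀ a b : ι → Fin k, ten (fun i => Matrix.toLin' (Matrix.single (a i) (b i) (1 : F))) =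
      Matrix.toLin' (Matrix.single a b (1 : F)) := by
    intro a b
    rw [ten]
    congr 1
    funext c d
    simp only [LinearMap.toMatrix'_toLin', Matrix.single_apply]
    by_cases h : a = c ∧ b = d
    · rw [if_pos h, Finset.prod_eq_one fun i _ => if_pos ⟨congrFun h.1 i, congrFun h.2 i⟩]
    · rw [if_neg h]
      obtain ⟨i, hi⟩ : ∃ i, ¬(a i = c i ∧ b i = d i) := by
        by_contra! hc
        exact h ⟨funext fun i => (hc i).1, funext fun i => (hc i).2⟩
      exact Finset.prod_eq_zero (Finset.mem_univ i) (if_neg hi)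
  rw [Matrix.matrix_eq_sum_single A, map_sum]
  refine Submodule.sum_mem _ fun a _ => ?_
  rw [map_sum]
  refine Submodule.sum_mem _ fun b _ => ?_
  rw [← mul_one (A a b), ← smul_eq_mul, ← Matrix.smul_single, map_smul, ← e]
  exact Submodule.smul_mem _ _ (Submodule.subset_span ⟨_, rfl⟩)

/-- The skew operators of the tensor power are spanned by the mixed ones. -/
theorem skew_induction (h2 : (2 : F) ≠ 0) {a : F} {z : Fin k → W F k} (hz : OB f a z)
    {P : Submodule F (Module.End F (VI F ι k))}
    (hP : ∀ p Y B, OTensor.IsSkew f Y → op p Y * out p B ∈ P)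
    {T : Module.End F (VI F ι k)} (hT : ∀ u w, bT f (T u) w = -bT f u (T w)) : T ∈ P := by
  have key : ∀ S : Module.End F (VI F ι k), ∃ S', AdjT f S S' ∧ S - S' ∈ P := by
    intro S
    have hS : S ∈ Submodule.span F (Set.range (ten (F := F) (k := k) (ι := ι))) := by rw [span_ten]; trivial
    induction hS using Submodule.span_induction with
    | mem S hS =>
      obtain ⟨X, rfl⟩ := hS
      choose X' hX' using fun i => exists_adjW hf hz (X i)
      refine ⟨ten X', adj_ten hf hX', ?_⟩
      have step : ∀ s : Finset ι, ten X - ten (s.piecewise X' X) ∈ P := by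
        intro s
        induction s using Finset.induction_on with
        | empty => rw [Finset.piecewise_empty, sub_self]; exact P.zero_mem
        | insert p s hp ih =>
          set Z := s.piecewise X' X
          have e : ten Z - ten ((insert p s).piecewise X' X) =
              op p (X p - X' p) * out p (ten fun i : Oth p => Z i.1) := by
            rw [Finset.piecewise_insert, op_sub, sub_mul]
            congr 1
            · rw [ten_split p, show Z p = X p from Finset.piecewise_eq_of_notMem _ _ _ hp]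
            · rw [ten_split p, Function.update_self]
              congr 3
              funext i
              rw [Function.update_of_ne i.2]
          rw [← sub_add_sub_cancel (ten X) (ten Z), e]
          refine P.add_mem ih (hP _ _ _ fun u v => ?_)
          rw [LinearMap.sub_apply, LinearMap.sub_apply, sub_left' hf, hf.sub_right, hX' p u v,
            OTensor.symm hf (X' p u) v, ← hX' p v u, OTensor.symm hf (X p v) u]
          ring
      simpa using step Finset.univ
    | zero => exact ⟨0, fun u w => by simp, by simp⟩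
    | add S R _ _ hS hR =>
      obtain ⟨S', h1, h2⟩ := hS
      obtain ⟨R', h3, h4⟩ := hR
      refine ⟨S' + R', fun u w => ?_, by rw [add_sub_add_comm]; exact P.add_mem h2 h4⟩
      show bT f (S u + R u) w = bT f u (S' w + R' w)
      rw [map_add, LinearMap.add_apply, map_add]
      exact congrArg₂ _ (h1 u w) (h3 u w)
    | smul c S _ hS =>
      obtain ⟨S', h1, h2⟩ := hS
      refine ⟨c • S', fun u w => ?_, by rw [← smul_sub]; exact P.smul_mem c h2⟩
      show bT f (c • S u) w = bT f u (c • S' w)
      rw [map_smul, LinearMap.smul_apply, map_smul]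
      exact congrArg _ (h1 u w)
  obtain ⟨T', h1, h⟩ := key T
  have e : T' = -T := LinearMap.ext fun w => bT_right hf fun x => by
    rw [LinearMap.neg_apply, map_neg, ← hT]
    exact (h1 _ _).symm
  rw [e, sub_neg_eq_add, ← two_smul F] at h
  simpa [inv_smul_smul₀ h2] using P.smul_mem (2 : F)⁻¹ h

omit hf in
/-- A sum over a stable set is in a submodule if every orbit sum is. -/
theorem sum_mem_of_orbits {κ Q M : Type*} [AddGroup κ] [Fintype κ] [DecidableEq Q] [AddCommGroup M] [Module F M]
    (P : Submodule F M) (τ : κ → Q → Q) (τ0 : ∀ q, τ 0 q = q) (τadd : ∀ z z' q, τ (z + z') q = τ z (τ z' q))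
    (h : Q → M) (C : Finset Q) (hC : ∀ z, ∀ q ∈ C, τ z q ∈ C)
    (horb : ∀ q ∈ C, ∑ c ∈ Finset.univ.image (τ · q), h c ∈ P) : ∑ q ∈ C, h q ∈ P := by
  induction C using Finset.strongInductionOn with
  | _ C ih =>
    rcases C.eq_empty_or_nonempty with rfl | ⟨q, hq⟩
    · rw [Finset.sum_empty]; exact P.zero_mem
    set O := Finset.univ.image (τ · q) with hO
    have hsub : O ⊆ C := fun c hc => by
      obtain ⟨z, -, rfl⟩ := Finset.mem_image.1 hc
      exact hC z q hq
    have hqO : q ∈ O := Finset.mem_image.2 ⟨0, Finset.mem_univ _, τ0 q⟩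
    rw [← Finset.sum_sdiff hsub]
    refine P.add_mem (ih _ (Finset.sdiff_ssubset hsub ⟨q, hqO⟩) (fun z c hc => ?_) fun c hc =>
      horb c (Finset.mem_sdiff.1 hc).1) (horb q hq)
    obtain ⟨h1, h2⟩ := Finset.mem_sdiff.1 hc
    refine Finset.mem_sdiff.2 ⟨hC z c h1, fun hz => h2 ?_⟩
    obtain ⟨z', -, e⟩ := Finset.mem_image.1 hz
    refine Finset.mem_image.2 ⟨-z + z', Finset.mem_univ _, ?_⟩
    show τ (-z + z') q = c
    rw [τadd, show τ z' q = τ z c from e, ← τadd, neg_add_cancel, τ0]

omit hf in
/-- The size of a non-trivial orbit of a vector space vanishes in the field. -/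
theorem orbit_card_zero [Fintype F] {κ Q : Type*} [AddCommGroup κ] [Fintype κ] [DecidableEq Q] {d : ℕ}
    (hκ : Fintype.card κ = Fintype.card F ^ d)
    (τ : κ → Q → Q) (τ0 : ∀ q, τ 0 q = q) (τadd : ∀ z z' q, τ (z + z') q = τ z (τ z' q)) (q : Q)
    (hmov : ∃ z, τ z q ≠ q) : ((Finset.univ.image (τ · q)).card : F) = 0 := by
  classical
  set O := Finset.univ.image (τ · q)
  set St := Finset.univ.filter fun z => τ z q = q
  have hfib : ∀ c ∈ O, (Finset.univ.filter fun z => τ z q = c).card = St.card := fun c hc => by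
    obtain ⟨z₀, -, rfl⟩ := Finset.mem_image.1 hc
    refine Finset.card_bij (fun z _ => -z₀ + z) (fun z hz => ?_) (fun z _ z' _ e => add_left_cancel e)
      fun z hz => ⟨z₀ + z, ?_, by abel⟩
    · simp only [St, Finset.mem_filter, Finset.mem_univ, true_and] at hz ⊢
      rw [τadd, hz, ← τadd, neg_add_cancel, τ0]
    · simp only [St, Finset.mem_filter, Finset.mem_univ, true_and] at hz ⊢
      rw [τadd, hz]
  have hcard : Fintype.card κ = O.card * St.card := by
    rw [← Finset.card_univ, Finset.card_eq_sum_card_image (τ · q) Finset.univ, Finset.sum_congr rfl hfib,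
      Finset.sum_const, smul_eq_mul]
  obtain ⟨n, hp, hF⟩ := FiniteField.card F (ringChar F)
  obtain ⟨m, -, hm⟩ := (Nat.dvd_prime_pow hp).1 (show O.card ∣ ringChar F ^ ((n : ℕ) * d) from
    ⟨St.card, by rw [pow_mul, ← hF, ← hκ, hcard]⟩)
  rw [hm, Nat.cast_pow, ringChar.Nat.cast_ringChar, zero_pow]
  rintro rfl
  obtain ⟨z, hz⟩ := hmov
  obtain ⟨c, hc⟩ := Finset.card_eq_one.1 (by simpa using hm : O.card = 1)
  have a1 : τ z q ∈ O := Finset.mem_image.2 ⟨z, Finset.mem_univ _, rfl⟩
  have a2 : q ∈ O := Finset.mem_image.2 ⟨0, Finset.mem_univ _, τ0 q⟩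
  rw [hc, Finset.mem_singleton] at a1 a2
  exact hz (a1.trans a2.symm)

end Cfsg.Agent.OWreath
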