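import Cfsg.Agent.Lib.OTensorRuler
import Cfsg.Prelude.Def_GeometricClasses

/-!
Tensor powers indexed by a finite type: pure vectors, tensors of operators, permutations of the positions, the form,
and the splitting at one position.
-/

set_option autoImplicit false
set_option linter.unusedSectionVars false

namespace Cfsg.Agent.OWreath

open Cfsg.Agent.OTensor (Sym bl bl_apply smul_right')
open scoped Matrix

variable {F : Type*} [Field F] {k : ℕ} {ι : Type} [Fintype ι] [DecidableEq ι]

/-- The one-factor space. -/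
abbrev W (F : Type*) (k : ℕ) := Fin k → F

/-- The tensor power. -/
abbrev VI (F : Type*) (ι : Type) (k : ℕ) := (ι → Fin k) → F

/-- The other positions. -/
abbrev Oth {ι : Type} (l : ι) := {i : ι // i ≠ l}

/-- The pure vector. -/
def pv (x : ι → W F k) : VI F ι k := fun a => ∏ i, x i (a i)

theorem pv_update_add (x : ι → W F k) (l : ι) (u w : W F k) :
    pv (Function.update x l (u + w)) = pv (Function.update x l u) + pv (Function.update x l w) := by
  funext a
  have e : ∀ z, pv (Function.update x l z) a = z (a l) * ∏ i ∈ Finset.univ.erase l, x i (a i) := fun z => by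
    rw [pv, ← Finset.mul_prod_erase _ _ (Finset.mem_univ l), Function.update_self]
    congr 1
    exact Finset.prod_congr rfl fun i hi => by rw [Function.update_of_ne (Finset.ne_of_mem_erase hi)]
  rw [Pi.add_apply, e, e, e, Pi.add_apply, add_mul]

theorem pv_update_smul (x : ι → W F k) (l : ι) (c : F) (u : W F k) :
    pv (Function.update x l (c • u)) = c • pv (Function.update x l u) := by
  funext a
  have e : ∀ z, pv (Function.update x l z) a = z (a l) * ∏ i ∈ Finset.univ.erase l, x i (a i) := fun z => by
    rw [pv, ← Finset.mul_prod_erase _ _ (Finset.mem_univ l), Function.update_self]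
    congr 1
    exact Finset.prod_congr rfl fun i hi => by rw [Function.update_of_ne (Finset.ne_of_mem_erase hi)]
  rw [Pi.smul_apply, e, e, Pi.smul_apply, smul_eq_mul, smul_eq_mul, mul_assoc]

theorem pv_single (a : ι → Fin k) : pv (fun i => Pi.single (a i) (1 : F)) = Pi.single a 1 := by
  funext b
  by_cases hb : b = a
  · subst hb; simp [pv]
  · obtain ⟨i, hi⟩ := Function.ne_iff.1 hb
    rw [Pi.single_eq_of_ne hb, pv, Finset.prod_eq_zero (Finset.mem_univ i)]
    simp [hi]

theorem pv_ne_zero {x : ι → W F k} (hx : ∀ i, x i ≠ 0) : pv x ≠ 0 := by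
  choose c hc using fun i => Function.ne_iff.1 (hx i)
  exact fun h => Finset.prod_ne_zero_iff.2 (fun i _ => hc i) (congrFun h c)

theorem pv_eq_zero {x : ι → W F k} {i : ι} (hx : x i = 0) : pv x = 0 :=
  funext fun a => Finset.prod_eq_zero (Finset.mem_univ i) (by rw [hx]; rfl)

theorem ext_pv {M : Type*} [AddCommGroup M] [Module F M] {φ ψ : VI F ι k →ₗ[F] M}
    (h : ∀ x, φ (pv x) = ψ (pv x)) : φ = ψ :=
  (Pi.basisFun F (ι → Fin k)).ext fun a => by rw [Pi.basisFun_apply, ← pv_single]; exact h _

/-- The tensor product of operators. -/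
def ten (X : ι → Module.End F (W F k)) : Module.End F (VI F ι k) :=
  Matrix.toLin' fun a b => ∏ i, LinearMap.toMatrix' (X i) (a i) (b i)

theorem ten_pv (X : ι → Module.End F (W F k)) (x : ι → W F k) : ten X (pv x) = pv fun i => X i (x i) := by
  funext a
  show ∑ b : ι → Fin k, (∏ i, (LinearMap.toMatrix' (X i) : Matrix (Fin k) (Fin k) F) (a i) (b i)) * ∏ i, x i (b i) =
    ∏ i, X i (x i) (a i)
  simp only [← Finset.prod_mul_distrib]
  rw [← Fintype.prod_sum (fun i c => (LinearMap.toMatrix' (X i) : Matrix (Fin k) (Fin k) F) (a i) c * x i c)]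
  refine Finset.prod_congr rfl fun i _ => ?_
  exact congrFun (LinearMap.toMatrix'_mulVec (X i) (x i)) (a i)

theorem ten_mul (X Y : ι → Module.End F (W F k)) : ten X * ten Y = ten (X * Y) :=
  ext_pv fun x => by rw [Module.End.mul_apply, ten_pv, ten_pv, ten_pv]; rfl

theorem ten_one : ten (1 : ι → Module.End F (W F k)) = 1 :=
  ext_pv fun x => by rw [ten_pv]; rfl

theorem ten_update_add (X : ι → Module.End F (W F k)) (l : ι) (A B : Module.End F (W F k)) :
    ten (Function.update X l (A + B)) = ten (Function.update X l A) + ten (Function.update X l B) :=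
  ext_pv fun x => by
    have e : ∀ C : Module.End F (W F k), (fun i => Function.update X l C i (x i)) =
        Function.update (fun i => X i (x i)) l (C (x l)) := fun C => by
      funext i
      by_cases hi : i = l
      · subst hi; simp
      · simp [hi]
    rw [LinearMap.add_apply, ten_pv, ten_pv, ten_pv, e, e, e, LinearMap.add_apply, pv_update_add]

theorem ten_update_smul (X : ι → Module.End F (W F k)) (l : ι) (c : F) (A : Module.End F (W F k)) :
    ten (Function.update X l (c • A)) = c • ten (Function.update X l A) :=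
  ext_pv fun x => by
    have e : ∀ C : Module.End F (W F k), (fun i => Function.update X l C i (x i)) =
        Function.update (fun i => X i (x i)) l (C (x l)) := fun C => by
      funext i
      by_cases hi : i = l
      · subst hi; simp
      · simp [hi]
    rw [LinearMap.smul_apply, ten_pv, ten_pv, e, e, LinearMap.smul_apply, pv_update_smul]

theorem ten_eq_zero {X : ι → Module.End F (W F k)} {i : ι} (h : X i = 0) : ten X = 0 :=
  ext_pv fun x => by rw [ten_pv, LinearMap.zero_apply, pv_eq_zero (i := i) (by rw [h]; rfl)]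

theorem ten_smul_fun (c : ι → F) (X : ι → Module.End F (W F k)) :
    ten (fun i => c i • X i) = (∏ i, c i) • ten X :=
  ext_pv fun x => by
    rw [LinearMap.smul_apply, ten_pv, ten_pv]
    funext a
    simp [pv, Finset.prod_mul_distrib]

/-- An operator at one position. -/
def op (l : ι) (X : Module.End F (W F k)) : Module.End F (VI F ι k) := ten (Function.update 1 l X)

theorem op_pv (l : ι) (X : Module.End F (W F k)) (x : ι → W F k) :
    op l X (pv x) = pv (Function.update x l (X (x l))) := by
  rw [op, ten_pv]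
  congr 1
  funext i
  by_cases hi : i = l
  · subst hi; simp
  · simp [hi]

theorem op_mul (l : ι) (X Y : Module.End F (W F k)) : op l X * op l Y = op l (X * Y) :=
  ext_pv fun x => by
    rw [Module.End.mul_apply, op_pv, op_pv, op_pv, Function.update_idem, Function.update_self]
    rfl

theorem op_one (l : ι) : op l (1 : Module.End F (W F k)) = 1 :=
  ext_pv fun x => by rw [op_pv]; simp

theorem op_comm {i j : ι} (h : i ≠ j) (X Y : Module.End F (W F k)) : op i X * op j Y = op j Y * op i X :=
  ext_pv fun x => by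
    rw [Module.End.mul_apply, Module.End.mul_apply, op_pv, op_pv, op_pv, op_pv, Function.update_of_ne h,
      Function.update_of_ne h.symm, Function.update_comm h]

theorem op_add (l : ι) (X Y : Module.End F (W F k)) : op l (X + Y) = op l X + op l Y := ten_update_add _ _ _ _

theorem op_smul (l : ι) (c : F) (X : Module.End F (W F k)) : op l (c • X) = c • op l X := ten_update_smul _ _ _ _

theorem op_zero (l : ι) : op l (0 : Module.End F (W F k)) = 0 := ten_eq_zero (i := l) (Function.update_self l _ _)

/-- The operators at one position. -/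
def opHom (l : ι) : Module.End F (W F k) →ₗ[F] Module.End F (VI F ι k) where
  toFun := op l
  map_add' := op_add l
  map_smul' := op_smul l

theorem opHom_apply (l : ι) (X : Module.End F (W F k)) : opHom l X = op l X := rfl

theorem op_neg (l : ι) (X : Module.End F (W F k)) : op l (-X) = -op l X := map_neg (opHom l) X

theorem op_sub (l : ι) (X Y : Module.End F (W F k)) : op l (X - Y) = op l X - op l Y := map_sub (opHom l) X Y

/-- A permutation of the positions. -/
def permV (σ : Equiv.Perm ι) : Module.End F (VI F ι k) := LinearMap.funLeft F F fun a => a ∘ σ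

theorem permV_pv (σ : Equiv.Perm ι) (x : ι → W F k) : permV σ (pv x) = pv (x ∘ σ.symm) := by
  funext a
  show ∏ i, x i (a (σ i)) = ∏ i, x (σ.symm i) (a i)
  exact Fintype.prod_equiv σ _ _ fun i => by simp

theorem permV_mul (σ τ : Equiv.Perm ι) : (permV σ * permV τ : Module.End F (VI F ι k)) = permV (σ * τ) := rfl

theorem permV_one : (permV (1 : Equiv.Perm ι) : Module.End F (VI F ι k)) = 1 := rfl

theorem permV_ten (σ : Equiv.Perm ι) (X : ι → Module.End F (W F k)) :
    permV σ * ten X = ten (X ∘ σ.symm) * permV σ :=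
  ext_pv fun x => by
    rw [Module.End.mul_apply, Module.End.mul_apply, ten_pv, permV_pv, permV_pv, ten_pv]
    rfl

theorem permV_op (σ : Equiv.Perm ι) (l : ι) (X : Module.End F (W F k)) :
    permV σ * op l X = op (σ l) X * permV σ := by
  rw [op, op, permV_ten]
  congr 2
  funext i
  by_cases hi : i = σ l
  · subst hi; simp
  · have : σ.symm i ≠ l := fun e => hi (by rw [← e, Equiv.apply_symm_apply])
    simp [hi, this]

/-- The matrices as operators. -/
abbrev lg {κ : Type} [Fintype κ] [DecidableEq κ] : GL κ F →* Module.End F (κ → F) := OTensor.lin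

theorem lg_apply {κ : Type} [Fintype κ] [DecidableEq κ] (g : GL κ F) (v : κ → F) :
    lg g v = (g : Matrix κ κ F) *ᵥ v := OTensor.lin_apply g v

theorem lg_injective {κ : Type} [Fintype κ] [DecidableEq κ] : Function.Injective (lg (F := F) (κ := κ)) :=
  OTensor.lin_injective

theorem lg_inv_apply {κ : Type} [Fintype κ] [DecidableEq κ] (g : GL κ F) (v : κ → F) : lg g⁻¹ (lg g v) = v :=
  OTensor.lin_inv_apply g v

theorem lg_apply_inv {κ : Type} [Fintype κ] [DecidableEq κ] (g : GL κ F) (v : κ → F) : lg g (lg g⁻¹ v) = v :=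
  OTensor.lin_apply_inv g v

theorem lg_conj_inv {κ : Type} [Fintype κ] [DecidableEq κ] (g : GL κ F) : lg g⁻¹ * lg g = 1 := by
  rw [← map_mul, inv_mul_cancel, map_one]

theorem lg_mul_inv {κ : Type} [Fintype κ] [DecidableEq κ] (g : GL κ F) : lg g * lg g⁻¹ = 1 := by
  rw [← map_mul, mul_inv_cancel, map_one]

/-- An invertible operator as a matrix. -/
def mkGL {κ : Type} [Fintype κ] [DecidableEq κ] (X Y : Module.End F (κ → F)) (h : X * Y = 1) : GL κ F :=
  OTensor.ofPair X Y h (mul_eq_one_comm.1 h)

theorem lg_mkGL {κ : Type} [Fintype κ] [DecidableEq κ] (X Y : Module.End F (κ → F)) (h : X * Y = 1) :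
    lg (mkGL X Y h) = X := OTensor.lin_ofPair _ _ _ _

/-- The pure tensor of invertible matrices. -/
def tenGL (a : ι → GL (Fin k) F) : GL (ι → Fin k) F :=
  mkGL (ten fun i => lg (a i)) (ten fun i => lg (a i)⁻¹) (by
    rw [ten_mul, ← ten_one]; congr 1; funext i; exact lg_mul_inv (a i))

theorem lg_tenGL (a : ι → GL (Fin k) F) : lg (tenGL a) = ten fun i => lg (a i) := lg_mkGL _ _ _

/-- The permutation matrix. -/
def permGL (σ : Equiv.Perm ι) : GL (ι → Fin k) F :=
  mkGL (permV σ) (permV σ⁻¹) (by rw [permV_mul, mul_inv_cancel, permV_one])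

theorem lg_permGL (σ : Equiv.Perm ι) : lg (permGL σ : GL (ι → Fin k) F) = permV σ := lg_mkGL _ _ _

variable (F ι k) in
/-- The tensor wreath group. -/
def Nst : Subgroup (GL (ι → Fin k) F) where
  carrier := {g | ∃ (a : ι → GL (Fin k) F) (σ : Equiv.Perm ι), g = tenGL a * permGL σ}
  one_mem' := ⟨1, 1, lg_injective (by
    rw [map_one, map_mul, lg_tenGL, lg_permGL, permV_one, mul_one, ← ten_one]; congr 1; funext i; simp)⟩
  mul_mem' := by
    rintro _ _ ⟨a, σ, rfl⟩ ⟨b, τ, rfl⟩
    refine ⟨fun i => a i * b (σ.symm i), σ * τ, lg_injective ?_⟩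
    simp only [map_mul, lg_tenGL, lg_permGL]
    rw [mul_assoc, ← mul_assoc (permV σ) (ten _), permV_ten, mul_assoc (ten _) (permV σ), permV_mul, ← mul_assoc,
      ten_mul]
    rfl
  inv_mem' := by
    rintro _ ⟨a, σ, rfl⟩
    refine ⟨fun i => (a (σ i))⁻¹, σ⁻¹, inv_eq_of_mul_eq_one_right (lg_injective ?_)⟩
    simp only [map_mul, map_one, lg_tenGL, lg_permGL]
    rw [mul_assoc, ← mul_assoc (permV σ) (ten _), permV_ten, mul_assoc (ten _) (permV σ), permV_mul,
      mul_inv_cancel, permV_one, mul_one, ten_mul, ← ten_one]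
    congr 1
    funext i
    show lg (a i) * lg (a (σ (σ.symm i)))⁻¹ = 1
    rw [Equiv.apply_symm_apply, lg_mul_inv]

theorem tenGL_mem (a : ι → GL (Fin k) F) : tenGL a ∈ Nst F k ι := ⟨a, 1, lg_injective (by
  rw [map_mul, lg_permGL, permV_one, mul_one])⟩

theorem permGL_mem (σ : Equiv.Perm ι) : (permGL σ : GL (ι → Fin k) F) ∈ Nst F k ι := ⟨1, σ, lg_injective (by
  rw [map_mul, lg_tenGL]
  rw [show (fun i => lg ((1 : ι → GL (Fin k) F) i)) = (1 : ι → Module.End F (W F k)) from
    funext fun i => map_one lg, ten_one, one_mul])⟩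

theorem mem_Nst {g : GL (ι → Fin k) F} : g ∈ Nst F k ι ↔
    ∃ (a : ι → GL (Fin k) F) (σ : Equiv.Perm ι), g = tenGL a * permGL σ := Iff.rfl

theorem Nst_apply {g : GL (ι → Fin k) F} (hg : g ∈ Nst F k ι) (x : ι → W F k) : ∃ y, lg g (pv x) = pv y := by
  obtain ⟨a, σ, rfl⟩ := hg
  exact ⟨_, by rw [map_mul, Module.End.mul_apply, lg_permGL, lg_tenGL, permV_pv, ten_pv]⟩

variable (f : W F k → W F k → F)

/-- The Gram entry of the tensor power. -/
def gram (a b : ι → Fin k) : F := ∏ i, f (Pi.single (a i) 1) (Pi.single (b i) 1)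

/-- The form on the tensor power. -/
def bT : LinearMap.BilinForm F (VI F ι k) := Matrix.toBilin' (Matrix.of (gram f))

theorem bT_eq (u w : VI F ι k) : bT f u w = ∑ a, ∑ b, u a * gram f a b * w b := Matrix.toBilin'_apply _ u w

variable {f} (hf : Sym f)
include hf

theorem bT_pv (x y : ι → W F k) : bT f (pv x) (pv y) = ∏ i, f (x i) (y i) := by
  rw [bT_eq]
  simp only [pv, gram, ← Finset.prod_mul_distrib]
  rw [show ∏ i, f (x i) (y i) = ∏ i, ∑ c, ∑ d, x i c * f (Pi.single c 1) (Pi.single d 1) * y i d from
    Finset.prod_congr rfl fun i _ => by rw [hf.expand (x i) (y i)]; simp]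
  rw [Fintype.prod_sum]
  exact Finset.sum_congr rfl fun a _ =>
    (Fintype.prod_sum fun i d => x i (a i) * f (Pi.single (a i) 1) (Pi.single d 1) * y i d).symm

theorem bT_ext {φ ψ : LinearMap.BilinForm F (VI F ι k)} (h : ∀ x y, φ (pv x) (pv y) = ψ (pv x) (pv y)) : φ = ψ :=
  ext_pv fun x => ext_pv fun y => h x y

theorem bT_symm (u w : VI F ι k) : bT f u w = bT f w u := by
  have h : (bT f : LinearMap.BilinForm F (VI F ι k)) = (bT f).flip := bT_ext hf fun x y => by
    show bT f (pv x) (pv y) = bT f (pv y) (pv x)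
    rw [bT_pv hf, bT_pv hf]
    exact Finset.prod_congr rfl fun i _ => OTensor.symm hf _ _
  conv_lhs => rw [h]
  rfl

theorem bT_nd (u : VI F ι k) (h : ∀ w, bT f u w = 0) : u = 0 := by
  choose d hd using fun c : Fin k => OTensor.exists_rep hf (LinearMap.proj (R := F) (φ := fun _ => F) c)
  funext a
  have e : (bT f).flip (pv fun i => d (a i)) = LinearMap.proj (R := F) (φ := fun _ => F) a := ext_pv fun x => by
    show bT f (pv x) (pv fun i => d (a i)) = pv x a
    rw [bT_pv hf]
    exact Finset.prod_congr rfl fun i _ => (hd (a i) (x i)).symm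
  have := LinearMap.congr_fun e u
  rw [show (bT f).flip (pv fun i => d (a i)) u = 0 from h _] at this
  exact this.symm

theorem bT_right {u w : VI F ι k} (h : ∀ x, bT f (pv x) u = bT f (pv x) w) : u = w := by
  refine sub_eq_zero.1 (bT_nd hf _ fun z => ?_)
  rw [bT_symm hf, map_sub]
  have e : (bT f).flip u = (bT f).flip w := ext_pv fun x => h x
  exact sub_eq_zero.2 (LinearMap.congr_fun e z)

end Cfsg.Agent.OWreath
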