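import Cfsg.Agent.Lib.OWreathRad

/-!
Orthogonal families with prescribed norms and operators commuting with the one-position skew operators.
-/

set_option autoImplicit false
set_option linter.unusedSectionVars false

namespace Cfsg.Agent.OWreath

open Cfsg.Agent.OTensor (Sym Hyp nn sq1 sie nn_apply smul_right' sub_left')
open Polynomial in
theorem exists_binary {F : Type*} [Field F] [Fintype F] (h2 : (2 : F) ≠ 0) {A B : F} (hA : A ≠ 0) (hB : B ≠ 0)
    (a : F) : ∃ x y : F, A * (x * x) + B * (y * y) = a := by
  classical
  have hodd : Fintype.card F % 2 = 1 := by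
    refine FiniteField.odd_card_of_char_ne_two fun h => h2 ?_
    haveI := ringChar.charP F
    have := (ringChar.spec F 2).2 (by rw [h])
    exact_mod_cast this
  obtain ⟨x, y, h⟩ := FiniteField.exists_root_sum_quadratic (f := C A * X ^ 2) (g := C B * X ^ 2 - C a)
    (degree_C_mul_X_pow 2 hA) (by rw [degree_sub_C (by rw [degree_C_mul_X_pow 2 hB]; norm_num)]; exact degree_C_mul_X_pow 2 hB)
    hodd
  exact ⟨x, y, by simp at h; linear_combination h⟩

variable {F : Type*} [Field F] {k : ℕ} {f : W F k → W F k → F} (hf : Sym f)
include hf

/-- An anisotropic vector orthogonal to an orthogonal anisotropic family. -/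
theorem exists_aniso_orth (h2 : (2 : F) ≠ 0) {m : ℕ} (v : Fin m → W F k) (hv : ∀ i j, i ≠ j → f (v i) (v j) = 0)
    (hv' : ∀ i, f (v i) (v i) ≠ 0) (hm : m < k) : ∃ w, f w w ≠ 0 ∧ ∀ i, f w (v i) = 0 := by
  classical
  by_contra! hc
  have hc' : ∀ w, (∀ i, f w (v i) = 0) → f w w = 0 := fun w hw => by
    by_contra h
    obtain ⟨i, hi⟩ := hc w h
    exact hi (hw i)
  obtain ⟨w, hw0, hw⟩ := OTensor.exists_perp_ne hf hm v
  refine hw0 (hf.nd w fun y => ?_)
  set y₀ := y - ∑ i, (f y (v i) / f (v i) (v i)) • v i with hy₀
  have hy : ∀ j, f y₀ (v j) = 0 := fun j => by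
    rw [hy₀, sub_left' hf, hf.sum_left, Finset.sum_eq_single j (fun i _ hij => by rw [hf.smul_left, hv i j hij, mul_zero])
      (by simp), hf.smul_left, div_mul_cancel₀ _ (hv' j), sub_self]
  have e := hc' (w + y₀) fun i => by rw [hf.add_left, hw, hy, add_zero]
  rw [hf.add_left, hf.add_right, hf.add_right, hc' w hw, hc' y₀ hy, OTensor.symm hf y₀ w, add_zero, zero_add,
    ← two_mul] at e
  rw [show y = y₀ + ∑ i, (f y (v i) / f (v i) (v i)) • v i by rw [hy₀]; abel, hf.add_right, hf.sum_right,
    (mul_eq_zero.1 e).resolve_left h2, zero_add]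
  exact Finset.sum_eq_zero fun i _ => by rw [smul_right' hf, hw, mul_zero]

/-- A vector of prescribed norm orthogonal to an orthogonal anisotropic family. -/
theorem exists_norm_orth [Fintype F] (h2 : (2 : F) ≠ 0) {m : ℕ} (v : Fin m → W F k)
    (hv : ∀ i j, i ≠ j → f (v i) (v j) = 0) (hv' : ∀ i, f (v i) (v i) ≠ 0) (hm : m + 2 ≤ k) (a : F) :
    ∃ w, f w w = a ∧ ∀ i, f w (v i) = 0 := by
  classical
  obtain ⟨u, hu, hu'⟩ := exists_aniso_orth hf h2 v hv hv' (by omega)
  obtain ⟨w, hw, hw'⟩ := exists_aniso_orth hf h2 (Fin.cons u v) (fun i j hij => by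
      induction i using Fin.cases with
      | zero =>
        induction j using Fin.cases with
        | zero => exact absurd rfl hij
        | succ j => simpa using hu' j
      | succ i =>
        induction j using Fin.cases with
        | zero => simpa [OTensor.symm hf (v i) u] using hu' i
        | succ j => simpa using hv i j (fun e => hij (by rw [e])))
    (fun i => by induction i using Fin.cases with | zero => simpa using hu | succ i => simpa using hv' i) (by omega)
  obtain ⟨x, y, hxy⟩ := exists_binary h2 hu hw a
  have h0 : f w u = 0 := by simpa using hw' 0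
  refine ⟨x • u + y • w, ?_, fun i => ?_⟩
  · simp only [hf.add_left, hf.add_right, hf.smul_left, smul_right' hf, h0, OTensor.symm hf u w]
    linear_combination hxy
  · have := hw' i.succ
    rw [Fin.cons_succ] at this
    rw [hf.add_left, hf.smul_left, hf.smul_left, hu' i, this]
    ring

/-- An orthogonal basis with all but one norm equal to a given one. -/
structure OB (f : W F k → W F k → F) (a : F) (z : Fin k → W F k) : Prop where
  orth : ∀ i j, i ≠ j → f (z i) (z j) = 0
  ne : ∀ i, f (z i) (z i) ≠ 0
  norm : ∀ i : Fin k, i.val + 1 < k → f (z i) (z i) = a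

theorem exists_OB [Fintype F] (h2 : (2 : F) ≠ 0) (hk : 1 ≤ k) {a : F} (ha : a ≠ 0) : ∃ z, OB f a z := by
  classical
  have key : ∀ m, m + 1 ≤ k → ∃ v : Fin m → W F k, (∀ i j, i ≠ j → f (v i) (v j) = 0) ∧ ∀ i, f (v i) (v i) = a := by
    intro m
    induction m with
    | zero => exact fun _ => ⟨Fin.elim0, fun i => i.elim0, fun i => i.elim0⟩
    | succ m ih =>
      intro hm
      obtain ⟨v, hv, hva⟩ := ih (by omega)
      obtain ⟨w, hw, hw'⟩ := exists_norm_orth hf h2 v hv (fun i => by rw [hva]; exact ha) (by omega) a
      refine ⟨Fin.cons w v, fun i j hij => ?_, fun i => ?_⟩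
      · induction i using Fin.cases with
        | zero =>
          induction j using Fin.cases with
          | zero => exact absurd rfl hij
          | succ j => simpa using hw' j
        | succ i =>
          induction j using Fin.cases with
          | zero => simpa [OTensor.symm hf (v i) w] using hw' i
          | succ j => simpa using hv i j (fun e => hij (by rw [e]))
      · induction i using Fin.cases with
        | zero => simpa using hw
        | succ i => simpa using hva i
  obtain ⟨m, rfl⟩ : ∃ m, k = m + 1 := ⟨k - 1, by omega⟩
  obtain ⟨v, hv, hva⟩ := key m le_rfl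
  obtain ⟨w, hw, hw'⟩ := exists_aniso_orth hf h2 v hv (fun i => by rw [hva]; exact ha) (by omega)
  refine ⟨Fin.snoc v w, fun i j hij => ?_, fun i => ?_, fun i hi => ?_⟩
  · induction i using Fin.lastCases with
    | last =>
      induction j using Fin.lastCases with
      | last => exact absurd rfl hij
      | cast j => simpa using hw' j
    | cast i =>
      induction j using Fin.lastCases with
      | last => simpa [OTensor.symm hf (v i) w] using hw' i
      | cast j => simpa using hv i j (fun e => hij (by rw [e]))
  · induction i using Fin.lastCases with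
    | last => simpa using hw
    | cast i => simpa [hva i] using ha
  · induction i using Fin.lastCases with
    | last => simp at hi
    | cast i => simpa using hva i

variable {a : F} {z : Fin k → W F k}

theorem OB.decomp (hz : OB f a z) (x : W F k) : x = ∑ i, (f x (z i) / f (z i) (z i)) • z i := by
  classical
  have hli : LinearIndependent F z := by
    refine Fintype.linearIndependent_iff.2 fun g hg i => ?_
    have := congrArg (fun y => f y (z i)) hg
    simp only [hf.sum_left, hf.zero_left] at this
    rw [Finset.sum_eq_single i (fun j _ hj => by rw [hf.smul_left, hz.orth j i hj, mul_zero]) (by simp),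
      hf.smul_left] at this
    exact (mul_eq_zero.1 this).resolve_right (hz.ne i)
  have hspan : Submodule.span F (Set.range z) = ⊤ := Submodule.eq_top_of_finrank_eq (by
    rw [finrank_span_eq_card hli, Fintype.card_fin, Module.finrank_fin_fun])
  refine sub_eq_zero.1 (hf.nd _ fun y => ?_)
  have hy : y ∈ Submodule.span F (Set.range z) := by rw [hspan]; trivial
  induction hy using Submodule.span_induction with
  | mem y hy =>
    obtain ⟨j, rfl⟩ := hy
    rw [sub_left' hf, hf.sum_left, Finset.sum_eq_single j (fun i _ hij => by rw [hf.smul_left, hz.orth i j hij, mul_zero])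
      (by simp), hf.smul_left, div_mul_cancel₀ _ (hz.ne j), sub_self]
  | zero => exact hf.zero_right _
  | add u w _ _ hu hw => rw [hf.add_right, hu, hw, add_zero]
  | smul c u _ hu => rw [smul_right' hf, hu, mul_zero]

theorem OB.ext {M : Type*} [AddCommGroup M] [Module F M] (hz : OB f a z) {φ ψ : W F k →ₗ[F] M}
    (h : ∀ i, φ (z i) = ψ (z i)) : φ = ψ :=
  LinearMap.ext fun x => by
    rw [OB.decomp hf hz x, map_sum, map_sum]
    exact Finset.sum_congr rfl fun i _ => by rw [map_smul, map_smul, h]

variable {ι : Type} [Fintype ι] [DecidableEq ι]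

theorem OB.ext_pv' {M : Type*} [AddCommGroup M] [Module F M] (hz : OB f a z) {φ ψ : VI F ι k →ₗ[F] M}
    (h : ∀ c : ι → Fin k, φ (pv fun i => z (c i)) = ψ (pv fun i => z (c i))) : φ = ψ := by
  classical
  have key : ∀ (s : Finset ι) (x : ι → W F k), (∀ i ∉ s, ∃ j, x i = z j) → φ (pv x) = ψ (pv x) := by
    intro s
    induction s using Finset.induction_on with
    | empty =>
      intro x hx
      choose c hc using fun i => hx i (Finset.notMem_empty i)
      rw [show x = fun i => z (c i) from funext hc]
      exact h c
    | insert i s hi ih =>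
      intro x hx
      let L : W F k →ₗ[F] VI F ι k :=
        { toFun := fun u => pv (Function.update x i u)
          map_add' := fun u w => pv_update_add x i u w
          map_smul' := fun c u => pv_update_smul x i c u }
      have e : φ.comp L = ψ.comp L := OB.ext hf hz fun j => ih _ fun i' hi' => by
        by_cases hii : i' = i
        · exact ⟨j, by rw [hii, Function.update_self]⟩
        · rw [Function.update_of_ne hii]; exact hx i' (by simp [hii, hi'])
      have := LinearMap.congr_fun e (x i)
      simpa [L] using this
  exact ext_pv fun x => key Finset.univ x fun i hi => absurd (Finset.mem_univ i) hi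

/-- The rank-one operator. -/
def r1 (u v : W F k) : Module.End F (W F k) := ((OTensor.bl hf).flip v).smulRight u

theorem r1_apply (u v x : W F k) : r1 hf u v x = f x v • u := rfl

/-- An operator commuting with all skew operators at all positions is scalar. -/
theorem scalar_of_comm [Fintype F] (hS : Std f) {B : Module.End F (VI F ι k)}
    (h : ∀ p v w, op p (nn hf v w) * B = B * op p (nn hf v w)) : ∃ c : F, B = c • 1 := by
  classical
  obtain ⟨z, hz⟩ := exists_OB hf hS.two (by have := hS.hk; omega) (a := 1) one_ne_zero
  have hcomm : ∀ p (X : Module.End F (W F k)), op p X * B = B * op p X := by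
    intro p
    have hmul : ∀ {X Y : Module.End F (W F k)}, op p X * B = B * op p X → op p Y * B = B * op p Y →
        op p (X * Y) * B = B * op p (X * Y) := fun {X Y} hX hY => by
      rw [← op_mul, mul_assoc, hY, ← mul_assoc, hX, mul_assoc]
    have hsm : ∀ (c : F) {X : Module.End F (W F k)}, op p X * B = B * op p X →
        op p (c • X) * B = B * op p (c • X) := fun c {X} hX => by rw [op_smul, smul_mul_assoc, mul_smul_comm, hX]
    have hoff : ∀ i j, i ≠ j → op p (r1 hf (z i) (z j)) * B = B * op p (r1 hf (z i) (z j)) := by
      intro i j hij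
      obtain ⟨l, hl⟩ := (({i, j} : Finset (Fin k))ᶜ).card_pos.1 (by
        rw [Finset.card_compl, Fintype.card_fin]
        have := Finset.card_le_two (a := i) (b := j)
        have := hS.hk
        omega)
      simp only [Finset.mem_compl, Finset.mem_insert, Finset.mem_singleton, not_or] at hl
      have e : r1 hf (z i) (z j) = (f (z l) (z l))⁻¹ • (nn hf (z i) (z l) * nn hf (z l) (z j)) := by
        refine LinearMap.ext fun u => ?_
        simp only [LinearMap.smul_apply, Module.End.mul_apply, nn_apply, r1_apply, sub_left' hf, hf.smul_left,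
          hz.orth l i hl.1, hz.orth j l (Ne.symm hl.2), hz.orth j i (Ne.symm hij)]
        match_scalars
        · field_simp [hz.ne l]
          ring
        all_goals ring
      rw [e]
      exact hsm _ (hmul (h _ _ _) (h _ _ _))
    have hall : ∀ i j, op p (r1 hf (z i) (z j)) * B = B * op p (r1 hf (z i) (z j)) := by
      intro i j
      by_cases hij : i = j
      · subst hij
        haveI : Nontrivial (Fin k) := Fin.nontrivial_iff_two_le.2 (by have := hS.hk; omega)
        obtain ⟨l, hl⟩ := exists_ne i
        have e : r1 hf (z i) (z i) = (f (z l) (z l))⁻¹ • (r1 hf (z i) (z l) * r1 hf (z l) (z i)) := by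
          refine LinearMap.ext fun u => ?_
          simp only [LinearMap.smul_apply, Module.End.mul_apply, r1_apply, hf.smul_left, smul_smul]
          congr 1
          field_simp [hz.ne l]
        rw [e]
        exact hsm _ (hmul (hoff i l hl.symm) (hoff l i hl))
      · exact hoff i j hij
    intro X
    have e : X = ∑ i, (f (z i) (z i))⁻¹ • (X * r1 hf (z i) (z i)) := by
      refine OB.ext hf hz fun j => ?_
      rw [LinearMap.sum_apply, Finset.sum_eq_single j (fun i _ hij => by
        simp [r1_apply, hz.orth j i (Ne.symm hij)]) (by simp)]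
      simp [r1_apply, inv_smul_smul₀ (hz.ne j)]
    have e2 : ∀ i, X * r1 hf (z i) (z i) = ∑ j, (f (X (z i)) (z j) / f (z j) (z j)) • r1 hf (z j) (z i) := fun i => by
      refine LinearMap.ext fun u => ?_
      simp only [Module.End.mul_apply, r1_apply, map_smul, LinearMap.sum_apply, LinearMap.smul_apply]
      conv_lhs => rw [OB.decomp hf hz (X (z i)), Finset.smul_sum]
      exact Finset.sum_congr rfl fun j _ => smul_comm _ _ _
    rw [e, ← opHom_apply]
    simp only [map_sum, map_smul, e2, Finset.sum_mul, Finset.mul_sum, smul_mul_assoc, mul_smul_comm, Finset.smul_sum]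
    exact Finset.sum_congr rfl fun i _ => Finset.sum_congr rfl fun j _ => by rw [opHom_apply, hall]
  have hten : ∀ X : ι → Module.End F (W F k), ten X * B = B * ten X := by
    intro X
    have : ∀ s : Finset ι, ten (s.piecewise X 1) * B = B * ten (s.piecewise X 1) := by
      intro s
      induction s using Finset.induction_on with
      | empty => rw [Finset.piecewise_empty, ten_one, one_mul, mul_one]
      | insert i s hi ih =>
        have e : ten ((insert i s).piecewise X 1) = op i (X i) * ten (s.piecewise X 1) := by
          rw [op, ten_mul, Finset.piecewise_insert]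
          congr 1
          funext j
          by_cases hj : j = i
          · subst hj; simp [Finset.piecewise_eq_of_notMem _ _ _ hi]
          · simp [hj]
        rw [e, mul_assoc, ih, ← mul_assoc, hcomm, mul_assoc]
    simpa using this Finset.univ
  let c₀ : ι → Fin k := fun _ => ⟨0, by have := hS.hk; omega⟩
  refine ⟨B (Pi.single c₀ 1) c₀, ext_pv fun x => ?_⟩
  -- a rank one product of coordinate operators
  let X : ι → Module.End F (W F k) := fun i => (LinearMap.proj (R := F) (φ := fun _ => F) (c₀ i)).smulRight (x i)
  have e := LinearMap.congr_fun (hten X) (Pi.single c₀ 1)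
  rw [Module.End.mul_apply, Module.End.mul_apply, ← pv_single c₀, ten_pv] at e
  rw [show (fun i => X i (Pi.single (c₀ i) (1 : F))) = x from funext fun i => by simp [X]] at e
  rw [← e, LinearMap.smul_apply, Module.End.one_apply, pv_single]
  have hX : ten X = (LinearMap.proj (R := F) (φ := fun _ => F) c₀).smulRight (pv x) := ext_pv fun y => by
    rw [ten_pv, LinearMap.smulRight_apply]
    show pv (fun i => y i (c₀ i) • x i) = (∏ i, y i (c₀ i)) • pv x
    funext d
    simp [pv, Finset.prod_mul_distrib]
  rw [hX]
  rfl

end Cfsg.Agent.OWreath
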