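import Cfsg.Agent.Lib.OWreathDefs
import Cfsg.Agent.Lib.OWreathBasis
import Mathlib.LinearAlgebra.QuadraticForm.Basic

/-!
Monomials in a non-zero space of operators on a tensor power that is invariant under Siegel transformations and
reflections at every position.
-/

set_option autoImplicit false
set_option linter.unusedSectionVars false
set_option linter.unusedSimpArgs false
set_option linter.style.haveILetI false

namespace Cfsg.Agent.OWreath

open Cfsg.Agent.OTensor (Sym Hyp nn sq1 sie nn_apply sq1_apply smul_right' sub_left' bl bl_apply)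

variable {F : Type*} [Field F] [Fintype F] {k : ℕ} {ι : Type} [Fintype ι] [DecidableEq ι] {f : W F k → W F k → F}

/-- The allowed factors of a monomial. -/
def IsMonoFactor (hf : Sym f) (X : Module.End F (W F k)) : Prop :=
  X = 1 ∨ (∃ w, w ≠ 0 ∧ f w w = 0 ∧ X = sq1 hf w) ∨ (∃ v w, nn hf v w ≠ 0 ∧ X = nn hf v w)

section Slot

/-- The coefficient of an operator at one position along two vectors. -/
def slot (f : W F k → W F k → F) (l : ι) (T : Module.End F (VI F ι k)) (x y : W F k) :
    Module.End F (VI F (Oth l) k) := (con f l y).comp (T.comp (emb l x))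

variable (hf : Sym f)
include hf

theorem slot_apply (l : ι) (T : Module.End F (VI F ι k)) (x y : W F k) (u : VI F (Oth l) k) :
    slot f l T x y u = con f l y (T (emb l x u)) := rfl

theorem con_add (l : ι) (y y' : W F k) : con f l (y + y') = con f l y + con f l y' := by
  simp [con, hf.add_right, add_smul, Finset.sum_add_distrib]

theorem con_smul (l : ι) (c : F) (y : W F k) : con f l (c • y) = c • con f l y := by
  simp [con, smul_right' hf, mul_smul, Finset.smul_sum]

theorem slot_add_left (l : ι) (T : Module.End F (VI F ι k)) (x x' y : W F k) :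
    slot f l T (x + x') y = slot f l T x y + slot f l T x' y :=
  LinearMap.ext fun u => by simp [slot, emb_add]

theorem slot_smul_left (l : ι) (T : Module.End F (VI F ι k)) (c : F) (x y : W F k) :
    slot f l T (c • x) y = c • slot f l T x y :=
  LinearMap.ext fun u => by simp [slot, emb_smul]

theorem slot_add_right (l : ι) (T : Module.End F (VI F ι k)) (x y y' : W F k) :
    slot f l T x (y + y') = slot f l T x y + slot f l T x y' :=
  LinearMap.ext fun u => by simp [slot, con_add hf]

theorem slot_smul_right (l : ι) (T : Module.End F (VI F ι k)) (c : F) (x y : W F k) :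
    slot f l T x (c • y) = c • slot f l T x y :=
  LinearMap.ext fun u => by simp [slot, con_smul hf]

/-- The product with two symmetric operators at one position. -/
theorem sq_T_sq (l : ι) (T : Module.End F (VI F ι k)) (a b x : W F k) (u : VI F (Oth l) k) :
    (op l (sq1 hf a) * T * op l (sq1 hf b)) (emb l x u) = f x b • emb l a (slot f l T b a u) := by
  rw [Module.End.mul_apply, Module.End.mul_apply, op_emb, sq1_apply, emb_smul, LinearMap.smul_apply, map_smul,
    map_smul, op_sq]
  rfl

theorem sq_T_sq_same (l : ι) (T : Module.End F (VI F ι k)) (e : W F k) :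
    op l (sq1 hf e) * T * op l (sq1 hf e) = op l (sq1 hf e) * out l (slot f l T e e) :=
  ext_split l fun x u => by
    rw [sq_T_sq hf, Module.End.mul_apply, out_emb, op_emb, sq1_apply, emb_smul, LinearMap.smul_apply]

end Slot

/-- Two anisotropic orthogonal vectors perpendicular to a singular one. -/
theorem exists_aniso_pair (hS : Std f) (h4 : 4 ≤ k) {e e' u : W F k} (H : Hyp f e e') (u1 : f u e = 0)
    (u3 : f u u ≠ 0) : ∃ w, f w e = 0 ∧ f w u = 0 ∧ f w w ≠ 0 := by
  have hf := hS.sym
  by_contra! hc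
  obtain ⟨w, hw0, hw⟩ := OTensor.exists_perp_ne hf (show 3 < k by omega) ![e, e', u]
  have w1 : f w e = 0 := hw 0
  have w2 : f w e' = 0 := hw 1
  have w3 : f w u = 0 := hw 2
  refine hw0 (hf.nd w fun v => ?_)
  obtain ⟨p1, p2⟩ := OTensor.proj0_perp hf H v
  set v₀ := OTensor.proj0 f e e' v
  set v₁ := v₀ - (f v₀ u / f u u) • u
  have r1 : f v₁ e = 0 := by simp [v₁, sub_left' hf, hf.smul_left, p1, u1]
  have r3 : f v₁ u = 0 := by simp [v₁, sub_left' hf, hf.smul_left, div_mul_cancel₀ _ u3]
  have e1 := hc (w + v₁) (by rw [hf.add_left, w1, r1, add_zero]) (by rw [hf.add_left, w3, r3, add_zero])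
  rw [hf.add_left, hf.add_right, hf.add_right, hc w w1 w3, hc v₁ r1 r3, OTensor.symm hf v₁ w, add_zero,
    zero_add, ← two_mul] at e1
  rw [OTensor.decomp hf e e' v, hf.add_right, hf.add_right, smul_right' hf, smul_right' hf, w1, w2,
    show OTensor.proj0 f e e' v = v₁ + (f v₀ u / f u u) • u by simp [v₁, v₀], hf.add_right, smul_right' hf, w3,
    (mul_eq_zero.1 e1).resolve_left hS.two]
  simp

variable (hS : Std f)
include hS

/-- The contraction at a singular vector. -/
theorem contract_mem (L : Submodule F (Module.End F (VI F ι k))) (p : ι)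
    (hinv : ∀ e a, f e e = 0 → f a e = 0 → ∀ T ∈ L,
      op p (sie hS.sym e a) * T * op p (sie hS.sym e (-a)) ∈ L)
    {e : W F k} (he : f e e = 0) {T : Module.End F (VI F ι k)} (hT : T ∈ L) :
    op p (sq1 hS.sym e) * T * op p (sq1 hS.sym e) ∈ L := by
  have hf := hS.sym
  have h2 := hS.two
  by_cases he0 : e = 0
  · subst he0
    have : sq1 hf (0 : W F k) = 0 := LinearMap.ext fun u => by simp [sq1_apply]
    rw [this, op_zero, mul_zero]
    exact L.zero_mem
  obtain ⟨e', he', h1⟩ := OTensor.exists_partner hf h2 he0 he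
  have H : Hyp f e e' := ⟨he, he', h1⟩
  obtain ⟨u, u1, u2, u3⟩ := OTensor.exists_aniso hf h2 hS.hk H
  set σ := op p (sq1 hf e) with hσ
  let N : W F k → Module.End F (VI F ι k) := fun d => op p (nn hf e d)
  let Q : W F k → Module.End F (VI F ι k) := fun d =>
    N d * N d * T + T * (N d * N d) - (2 : F) • (N d * T * N d)
  have hN2 : ∀ d, f d e = 0 → N d * N d = (-(f d d)) • σ := fun d hd => by
    rw [op_mul, OTensor.nn_sq hf he hd, op_neg, op_smul, hσ]; module
  have hD : ∀ d, f d e = 0 → Q d + ((2 : F)⁻¹ * (f d d * f d d)) • (σ * T * σ) ∈ L := by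
    intro d hd
    have hd' : f (-d) e = 0 := by rw [OTensor.neg_left' hf, hd, neg_zero]
    have hb := hinv e (-d) he hd' T hT
    rw [neg_neg] at hb
    have hm := L.sub_mem (L.sub_mem (L.add_mem (hinv e d he hd T hT) hb) hT) hT
    have e1 : op p (sie hf e d) = 1 + N d + (2 : F)⁻¹ • (N d * N d) := by
      rw [sie, op_add, op_add, op_smul, op_one, op_mul]
    have e2 : op p (sie hf e (-d)) = 1 - N d + (2 : F)⁻¹ • (N d * N d) := by
      rw [OTensor.sie_neg hf, op_add, op_sub, op_smul, op_one, op_mul]
    rw [e1, e2] at hm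
    convert hm using 1
    have e3 : ((2 : F)⁻¹ * (f d d * f d d)) • (σ * T * σ) = (2 : F)⁻¹ • (N d * N d * T * (N d * N d)) := by
      rw [hN2 d hd]
      simp only [smul_mul_assoc, mul_smul_comm, smul_smul]
      congr 1
      ring
    rw [e3]
    show N d * N d * T + T * (N d * N d) - (2 : F) • (N d * T * N d) + _ = _
    generalize N d = M
    simp only [add_mul, mul_add, sub_mul, mul_sub, one_mul, mul_one, smul_mul_assoc, mul_smul_comm, mul_assoc]
    match_scalars <;> field_simp <;> ring
  have fin : ∀ c : F, c ≠ 0 → c • (σ * T * σ) ∈ L → σ * T * σ ∈ L := fun c hc h => by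
    have := L.smul_mem c⁻¹ h
    rwa [inv_smul_smul₀ hc] at this
  rcases hS.hbig with h4 | ⟨t, ht, htt⟩
  · obtain ⟨w, w1, w3, w4⟩ := exists_aniso_pair hS h4 H u1 u3
    have hm := L.sub_mem (L.add_mem (hD (u + w) (by rw [hf.add_left, u1, w1, add_zero]))
      (hD (u - w) (by rw [sub_left' hf, u1, w1, sub_zero]))) (L.smul_mem (2 : F) (L.add_mem (hD u u1) (hD w w1)))
    have key : Q (u + w) + Q (u - w) = (2 : F) • (Q u + Q w) := by
      have np : N (u + w) = N u + N w := by simp only [N, nn_add hf, op_add]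
      have nm : N (u - w) = N u - N w := by
        simp only [N, sub_eq_add_neg, nn_add hf, op_add, OTensor.nn_neg hf, op_neg]
      simp only [Q, np, nm, add_mul, mul_add, sub_mul, mul_sub]
      module
    refine fin (4 * (2 : F)⁻¹ * (f u u * f w w)) ?_ ?_
    · exact mul_ne_zero (mul_ne_zero (by rw [show (4 : F) = 2 * 2 by norm_num]; exact mul_ne_zero h2 h2)
        (inv_ne_zero h2)) (mul_ne_zero u3 w4)
    · convert hm using 1
      simp only [hf.add_left, hf.add_right, sub_left' hf, hf.sub_right, w3, OTensor.symm hf u w]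
      rw [show ∀ (a b : Module.End F (VI F ι k)) (c d : F), a + c • (σ * T * σ) + (b + d • (σ * T * σ)) =
        (a + b) + (c + d) • (σ * T * σ) from fun a b c d => by module, key]
      module
  · have hm := L.sub_mem (hD (t • u) (by rw [hf.smul_left, u1, mul_zero])) (L.smul_mem (t * t) (hD u u1))
    have key : Q (t • u) = (t * t) • Q u := by
      have nt : N (t • u) = t • N u := by simp only [N, nn_smul hf, op_smul]
      simp only [Q, nt, smul_mul_assoc, mul_smul_comm]
      module
    refine fin ((2 : F)⁻¹ * (t * t * (t * t - 1)) * (f u u * f u u)) ?_ ?_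
    · exact mul_ne_zero (mul_ne_zero (inv_ne_zero h2) (mul_ne_zero (mul_ne_zero ht ht) (sub_ne_zero.2 htt)))
        (mul_ne_zero u3 u3)
    · convert hm using 1
      rw [key]
      simp only [hf.smul_left, smul_right' hf]
      module

/-- A symmetrised bilinear function killed by the singular vectors is a multiple of the form. -/
theorem bilin_scalar (B : W F k →ₗ[F] W F k →ₗ[F] F) (h : ∀ x, f x x = 0 → B x x = 0) :
    ∃ κ : F, ∀ x y, B x y + B y x = κ * f x y := by
  have hf := hS.sym
  have hnd : LinearMap.BilinForm.Nondegenerate (bl hf : LinearMap.BilinForm F (W F k)) := by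
    refine ⟨fun x hx => hf.nd x fun y => hx y, fun x hx => hf.nd x fun y => ?_⟩
    rw [OTensor.symm hf]
    exact hx y
  let D := LinearMap.BilinForm.toDual (bl hf : LinearMap.BilinForm F (W F k)) hnd
  let Y : Module.End F (W F k) := D.symm.toLinearMap.comp (B + B.flip)
  have hY : ∀ x y, f (Y x) y = B x y + B y x := fun x y => by
    have h := LinearMap.congr_fun (LinearEquiv.apply_symm_apply D ((B + B.flip) x)) y
    rwa [LinearMap.BilinForm.toDual_def] at h
  obtain ⟨e, he0, he⟩ := OTensor.exists_singular hf hS.hk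
  obtain ⟨e', he', h1⟩ := OTensor.exists_partner hf hS.two he0 he
  obtain ⟨κ, hκ⟩ := OTensor.selfAdj_scalar hf hS.two hS.hk hS.hbig ⟨he, he', h1⟩ (Y := Y)
    (fun u w => by rw [hY, OTensor.symm hf u, hY, add_comm]) fun x hx => by rw [hY, h x hx, add_zero]
  exact ⟨κ, fun x y => by rw [← hY, hκ, LinearMap.smul_apply, Module.End.one_apply, hf.smul_left]⟩

/-- The step at one position. -/
theorem exists_slot (L : Submodule F (Module.End F (VI F ι k))) (l : ι)
    (hinv : ∀ e a, f e e = 0 → f a e = 0 → ∀ T ∈ L,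
      op l (sie hS.sym e a) * T * op l (sie hS.sym e (-a)) ∈ L)
    {a : F} (ha : a ≠ 0)
    (hrefl : ∀ v, f v v = a → ∀ T ∈ L, op l (rfl' hS.sym v) * T * op l (rfl' hS.sym v) ∈ L)
    {T : Module.End F (VI F ι k)} (hT : T ∈ L) (hT0 : T ≠ 0) :
    ∃ X B, IsMonoFactor hS.sym X ∧ B ≠ 0 ∧ op l X * out l B ∈ L := by
  have hf := hS.sym
  by_cases hsq : ∃ e, f e e = 0 ∧ slot f l T e e ≠ 0
  · obtain ⟨e, he, hne⟩ := hsq
    refine ⟨sq1 hf e, slot f l T e e, Or.inr (Or.inl ⟨e, ?_, he, rfl⟩), hne, ?_⟩
    · rintro rfl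
      exact hne (LinearMap.ext fun u => by simp [slot, emb_zero])
    · rw [← sq_T_sq_same hf]
      exact contract_mem hS L l hinv he hT
  push Not at hsq
  obtain ⟨v, hz⟩ := exists_OB hf hS.two (by have := hS.hk; omega) ha
  have hv := hz.orth
  have hv0 := hz.ne
  set c := fun i => f (v i) (v i) with hc
  -- the symmetrised coefficient is scalar
  have hsym : ∀ (u : VI F (Oth l) k) (b : Oth l → Fin k), ∃ κ : F, ∀ x y,
      slot f l T x y u b + slot f l T y x u b = κ * f x y := fun u b =>
    bilin_scalar hS (LinearMap.mk₂ F (fun x y => slot f l T x y u b)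
      (fun x x' y => by simp [slot_add_left hf]) (fun a x y => by simp [slot_smul_left hf])
      (fun x y y' => by simp [slot_add_right hf]) (fun a x y => by simp [slot_smul_right hf]))
      fun x hx => by simp [hsq x hx]
  set P := fun i => (c i)⁻¹ • op l (sq1 hf (v i)) with hP
  have hres : (1 : Module.End F (VI F ι k)) = ∑ i, P i := by
    have h1 : (1 : Module.End F (W F k)) = ∑ i, (c i)⁻¹ • sq1 hf (v i) := OB.ext hf hz fun j => by
      rw [LinearMap.sum_apply, Finset.sum_eq_single j
        (fun i _ hi => by simp [sq1_apply, hv j i hi.symm]) (by simp)]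
      simp [sq1_apply, hc, hv0 j]
    rw [← op_one (k := k) l, h1]
    exact (map_sum (opHom l) _ _).trans (Finset.sum_congr rfl fun i _ => op_smul l _ _)
  set M := fun i j => P i * T * P j + P j * T * P i with hMdef
  have hz0 : ∀ i j : Fin k, i ≠ j → P i * P j = 0 := fun i j hij => by
    simp only [hP]
    rw [smul_mul_assoc, mul_smul_comm, op_mul,
      show sq1 hf (v i) * sq1 hf (v j) = 0 from
        LinearMap.ext fun x => by simp [Module.End.mul_apply, sq1_apply, hf.smul_left, hv j i hij.symm],
      op_zero]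
    simp
  have hM : ∀ i j : Fin k, i ≠ j → i.val + 1 < k → M i j ∈ L := by
    have E : ∀ i : Fin k, i.val + 1 < k → ∀ Z ∈ L, (P i * Z + Z * P i) - (2 : F) • (P i * Z * P i) ∈ L := by
      intro i hi Z hZ
      have h := L.smul_mem (2 : F)⁻¹ (L.sub_mem hZ (hrefl _ (hz.norm i hi) Z hZ))
      convert h using 1
      rw [rfl', op_sub, op_one, op_smul, ← smul_smul]
      simp only [hP, hc, sub_mul, mul_sub, one_mul, mul_one, smul_mul_assoc, mul_smul_comm]
      have := hS.two
      match_scalars <;> field_simp <;> ring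
    intro i j hij hi
    have step : ∀ j : Fin k, i ≠ j → j.val + 1 < k → M i j ∈ L := by
      intro j hij hj
      have h := E j hj _ (E i hi T hT)
      convert h using 1
      have e0 : ∀ Z : Module.End F (VI F ι k), P i * (P j * Z) = 0 ∧ P j * (P i * Z) = 0 := fun Z =>
        ⟨by rw [← mul_assoc, hz0 i j hij, zero_mul], by rw [← mul_assoc, hz0 j i hij.symm, zero_mul]⟩
      simp only [hMdef, sub_mul, mul_sub, add_mul, mul_add, smul_mul_assoc, mul_smul_comm, mul_assoc, hz0 i j hij,
        hz0 j i hij.symm, (e0 _).1, (e0 _).2, mul_zero, smul_zero]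
      module
    by_cases hj : j.val + 1 < k
    · exact step j hij hj
    · have hs : ∑ b ∈ Finset.univ.erase i, M i b = (P i * T + T * P i) - (2 : F) • (P i * T * P i) := by
        rw [Finset.sum_erase_eq_sub (Finset.mem_univ i)]
        simp only [hMdef, Finset.sum_add_distrib, ← Finset.mul_sum, ← Finset.sum_mul, ← hres, mul_one, one_mul]
        module
      have hji' : j ∈ Finset.univ.erase i := Finset.mem_erase.2 ⟨hij.symm, Finset.mem_univ j⟩
      rw [← Finset.add_sum_erase _ _ hji'] at hs
      have hsum : ∑ b ∈ (Finset.univ.erase i).erase j, M i b ∈ L := L.sum_mem fun b hb => by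
        simp only [Finset.mem_erase, Finset.mem_univ, and_true] at hb
        exact step b (Ne.symm hb.2) (by
          have := Fin.val_ne_of_ne hb.1
          have := b.isLt
          have := j.isLt
          omega)
      have h := L.sub_mem (E i hi T hT) hsum
      rwa [← hs, add_sub_cancel_right] at h
  have hskew : ∀ i j : Fin k, i ≠ j → slot f l T (v i) (v j) = -slot f l T (v j) (v i) := fun i j hij =>
    LinearMap.ext fun u => funext fun b => by
      obtain ⟨κ, hκ⟩ := hsym u b
      have := hκ (v i) (v j)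
      rw [hv i j hij, mul_zero] at this
      exact eq_neg_of_add_eq_zero_left this
  by_cases hoff : ∃ i j, i ≠ j ∧ slot f l T (v j) (v i) ≠ 0
  · obtain ⟨i₀, j₀, hij₀, hne₀⟩ := hoff
    obtain ⟨i, j, hij, hne, hi⟩ : ∃ i j, i ≠ j ∧ slot f l T (v j) (v i) ≠ 0 ∧ i.val + 1 < k := by
      by_cases h : i₀.val + 1 < k
      · exact ⟨i₀, j₀, hij₀, hne₀, h⟩
      · refine ⟨j₀, i₀, hij₀.symm, ?_, ?_⟩
        · rw [hskew i₀ j₀ hij₀, neg_ne_zero]; exact hne₀
        · have := Fin.val_ne_of_ne hij₀
          have := i₀.isLt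
          have := j₀.isLt
          omega
    have hm := hM i j hij hi
    refine ⟨nn hf (v i) (v j), ((c i)⁻¹ * (c j)⁻¹) • slot f l T (v j) (v i), Or.inr (Or.inr ⟨_, _, ?_, rfl⟩),
      ?_, ?_⟩
    · intro h
      have := LinearMap.congr_fun h (v j)
      rw [nn_apply, hv j i hij.symm, LinearMap.zero_apply, zero_smul, sub_zero, smul_eq_zero] at this
      rcases this with h0 | h0
      · exact hv0 j h0
      · exact hv0 i (by rw [h0, hf.zero_left])
    · exact smul_ne_zero (mul_ne_zero (inv_ne_zero (hv0 i)) (inv_ne_zero (hv0 j))) hne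
    · convert hm using 1
      refine ext_split l fun x u => ?_
      simp only [hMdef, hP, smul_mul_assoc, mul_smul_comm, LinearMap.smul_apply, LinearMap.add_apply, sq_T_sq hf,
        out_smul, op_emb, out_emb, Module.End.mul_apply, nn_apply, hskew i j hij, LinearMap.neg_apply, map_neg,
        map_smul, sub_eq_add_neg, emb_add, ← neg_smul, emb_smul]
      module
  push Not at hoff
  -- a diagonal operator
  have hk := hS.hk
  let o : Fin k := ⟨0, by omega⟩
  refine ⟨1, (c o)⁻¹ • slot f l T (v o) (v o), Or.inl rfl, ?_⟩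
  have hdiag : ∀ i, slot f l T (v i) (v i) = c i • ((c o)⁻¹ • slot f l T (v o) (v o)) := fun i => by
    refine LinearMap.ext fun u => funext fun b => ?_
    obtain ⟨κ, hκ⟩ := hsym u b
    have a := hκ (v i) (v i)
    have d := hκ (v o) (v o)
    simp only [LinearMap.smul_apply, Pi.smul_apply, smul_eq_mul, hc]
    have := hS.two
    have := hv0 o
    field_simp
    exact mul_left_cancel₀ hS.two (by linear_combination (f (v o) (v o)) * a - (f (v i) (v i)) * d)
  set B := (c o)⁻¹ • slot f l T (v o) (v o) with hB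
  have hTB : T = out l B := by
    have e2 : ∀ i j u, con f l (v i) (T (emb l (v j) u)) = con f l (v i) (out l B (emb l (v j) u)) := by
      intro i j u
      rw [out_emb, con_emb hf, ← slot_apply hf]
      by_cases hij : i = j
      · subst hij
        rw [hdiag, LinearMap.smul_apply]
      · rw [hoff i j hij, hv j i (Ne.symm hij), zero_smul, LinearMap.zero_apply]
    refine ext_split l fun x u => ?_
    have hx : emb l x u = ∑ j, (f x (v j) / f (v j) (v j)) • emb l (v j) u := by
      conv_lhs => rw [OB.decomp hf hz x]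
      let E : W F k →ₗ[F] VI F ι k :=
        { toFun := fun z => emb l z u
          map_add' := fun a b => by rw [emb_add, LinearMap.add_apply]
          map_smul' := fun a b => by rw [emb_smul, LinearMap.smul_apply, RingHom.id_apply] }
      exact (map_sum E _ _).trans (Finset.sum_congr rfl fun i _ => map_smul E _ _)
    rw [hx, map_sum, map_sum]
    refine Finset.sum_congr rfl fun j _ => ?_
    rw [map_smul, map_smul]
    congr 1
    rw [← Module.End.one_apply (R := F) (T (emb l (v j) u)),
      ← Module.End.one_apply (R := F) (out l B (emb l (v j) u)), hres, LinearMap.sum_apply, LinearMap.sum_apply]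
    exact Finset.sum_congr rfl fun i _ => by simp only [hP, LinearMap.smul_apply, op_sq, e2]
  refine ⟨fun h => hT0 (by rw [hTB, h, out_zero]), ?_⟩
  rw [op_one, one_mul, ← hTB]
  exact hT

omit [Fintype ι] [DecidableEq ι] in
private theorem exists_mono_aux (n : ℕ) : ∀ {ι : Type} [Fintype ι] [DecidableEq ι], Fintype.card ι = n →
    ∀ (L : Submodule F (Module.End F (VI F ι k))),
    (∀ p e a, f e e = 0 → f a e = 0 → ∀ T ∈ L, op p (sie hS.sym e a) * T * op p (sie hS.sym e (-a)) ∈ L) →
    (∃ a : F, a ≠ 0 ∧ ∀ p v, f v v = a → ∀ T ∈ L, op p (rfl' hS.sym v) * T * op p (rfl' hS.sym v) ∈ L) →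
    ∀ {T}, T ∈ L → T ≠ 0 → ∃ X : ι → Module.End F (W F k), ten X ∈ L ∧ ∀ i, IsMonoFactor hS.sym (X i) := by
  induction n with
  | zero =>
    intro ι _ _ hn L _ _ T hT hT0
    haveI : IsEmpty ι := Fintype.card_eq_zero_iff.1 hn
    refine ⟨1, ?_, isEmptyElim⟩
    obtain ⟨a, ha⟩ : ∃ a : F, T = a • 1 := by
      refine ⟨T (fun _ => 1) isEmptyElim, LinearMap.ext fun u => funext fun b => ?_⟩
      have hu : u = u isEmptyElim • (fun _ => (1 : F)) := funext fun b' => by
        rw [Subsingleton.elim b' isEmptyElim]; simp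
      conv_lhs => rw [hu, map_smul]
      rw [Subsingleton.elim b isEmptyElim]
      simp [mul_comm]
    have ha0 : a ≠ 0 := fun h => hT0 (by rw [ha, h, zero_smul])
    have := L.smul_mem a⁻¹ hT
    rwa [ha, inv_smul_smul₀ ha0, ← ten_one] at this
  | succ n ih =>
    intro ι _ _ hn L hinv ⟨a, ha, hrefl⟩ T hT hT0
    obtain ⟨l⟩ : Nonempty ι := Fintype.card_pos_iff.1 (by omega)
    obtain ⟨X, B, hX, hB0, hB⟩ := exists_slot hS L l (hinv l) ha (hrefl l) hT hT0
    let L' : Submodule F (Module.End F (VI F (Oth l) k)) :=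
      L.comap ((LinearMap.mulLeft F (op l X)).comp (outHom l))
    have hmem : ∀ Z, Z ∈ L' ↔ op l X * out l Z ∈ L := fun Z => Iff.rfl
    have hconj : ∀ (p : Oth l) (P P' : Module.End F (W F k)) Z,
        op l X * out l (op p P * Z * op p P') = op p.1 P * (op l X * out l Z) * op p.1 P' := fun p P P' Z => by
      rw [← out_mul, ← out_mul, out_op, out_op, ← mul_assoc (op p.1 P), op_comm p.2 P X]
      simp only [mul_assoc]
    have hcard : Fintype.card (Oth l) = n := by rw [Fintype.card_subtype_compl, Fintype.card_subtype_eq, hn]; omega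
    obtain ⟨X', h1, h2⟩ := ih hcard L' (fun p e a he ha Z hZ => by
        rw [hmem] at hZ ⊢; rw [hconj]; exact hinv p.1 e a he ha _ hZ)
      ⟨a, ha, fun p v hv Z hZ => by rw [hmem] at hZ ⊢; rw [hconj]; exact hrefl p.1 v hv _ hZ⟩ ((hmem B).2 hB) hB0
    refine ⟨ins l X X', ?_, fun i => ?_⟩
    · rw [ten_split l, ins_self]
      simp only [ins_other]
      exact (hmem _).1 h1
    · by_cases hi : i = l
      · rw [hi, ins_self]; exact hX
      · rw [ins_of_ne hi]; exact h2 _

/-- A monomial in an invariant space. -/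
theorem exists_mono (L : Submodule F (Module.End F (VI F ι k)))
    (hinv : ∀ p e a, f e e = 0 → f a e = 0 → ∀ T ∈ L, op p (sie hS.sym e a) * T * op p (sie hS.sym e (-a)) ∈ L)
    (hrefl : ∃ a : F, a ≠ 0 ∧ ∀ p v, f v v = a → ∀ T ∈ L, op p (rfl' hS.sym v) * T * op p (rfl' hS.sym v) ∈ L)
    {T : Module.End F (VI F ι k)} (hT : T ∈ L) (hT0 : T ≠ 0) :
    ∃ X : ι → Module.End F (W F k), ten X ∈ L ∧ ∀ i, X i = 1 ∨
      (∃ w, w ≠ 0 ∧ f w w = 0 ∧ X i = sq1 hS.sym w) ∨ (∃ v w, nn hS.sym v w ≠ 0 ∧ X i = nn hS.sym v w) :=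
  exists_mono_aux hS _ rfl L hinv hrefl hT hT0

end Cfsg.Agent.OWreath
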