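import Cfsg.Agent.Lib.OWreathStab
import Cfsg.Agent.Lib.OWreathMono

/-!
Auxiliary geometry of one factor and monomials with prescribed factors.
-/

set_option autoImplicit false
set_option linter.unusedSectionVars false

namespace Cfsg.Agent.OWreath

open Cfsg.Agent.OTensor (Sym Hyp nn sq1 sie proj0 nn_apply sq1_apply smul_right' sub_left' neg_left')

variable {F : Type*} [Field F] {k : ℕ} {f : W F k → W F k → F} (hf : Sym f)
include hf

theorem rfl'_adj {v : W F k} (x y : W F k) : f (rfl' hf v x) y = f x (rfl' hf v y) := by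
  simp only [rfl', LinearMap.sub_apply, Module.End.one_apply, LinearMap.smul_apply, sq1_apply, sub_left' hf,
    hf.sub_right, hf.smul_left, smul_right' hf, OTensor.symm hf v y]
  ring

theorem sie_adj (h2 : (2 : F) ≠ 0) {e a : W F k} (he : f e e = 0) (ha : f a e = 0) (x y : W F k) :
    f (sie hf e a x) y = f x (sie hf e (-a) y) := by
  have ha' : f (-a) e = 0 := by rw [neg_left' hf, ha, neg_zero]
  rw [← OTensor.sie_preserves hf h2 he ha' (sie hf e a x) y, ← Module.End.mul_apply,
    OTensor.sie_mul hf h2 he ha' ha, neg_add_cancel, OTensor.sie_zero hf he, Module.End.one_apply]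

/-- Reflections carry a singular vector to another. -/
theorem exists_iso_map (h2 : (2 : F) ≠ 0) {u v : W F k} (hu : f u u = 0) (hv : f v v = 0) (hu0 : u ≠ 0)
    (hv0 : v ≠ 0) : ∃ β ∈ isoW f, lg β u = v := by
  have step : ∀ {u v : W F k}, f u u = 0 → f v v = 0 → f u v ≠ 0 → ∃ β ∈ isoW f, lg β u = v := by
    intro u v hu hv huv
    have hd : f (u - v) (u - v) ≠ 0 := by
      simp only [sub_left' hf, hf.sub_right, hu, hv, OTensor.symm hf v u]
      intro h
      exact huv ((mul_eq_zero.1 (show (2 : F) * f u v = 0 by linear_combination -h)).resolve_left h2)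
    refine ⟨_, reflW_iso hf hd, ?_⟩
    rw [lg_reflW, rfl', LinearMap.sub_apply, Module.End.one_apply, LinearMap.smul_apply, sq1_apply, smul_smul,
      show 2 * (f (u - v) (u - v))⁻¹ * f u (u - v) = 1 by
        field_simp
        simp only [sub_left' hf, hf.sub_right, hu, hv, OTensor.symm hf v u]
        ring, one_smul, sub_sub_cancel]
  by_cases huv : f u v = 0
  · obtain ⟨u', hu', hu1⟩ := OTensor.exists_partner hf h2 hu0 hu
    obtain ⟨v', hv', hv1⟩ := OTensor.exists_partner hf h2 hv0 hv
    obtain ⟨y, y1, y2⟩ : ∃ y, f y u ≠ 0 ∧ f y v ≠ 0 := by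
      by_cases h : f u' v = 0
      · by_cases h' : f v' u = 0
        · exact ⟨u' + v', by rw [hf.add_left, h', add_zero, OTensor.symm hf, hu1]; exact one_ne_zero,
            by rw [hf.add_left, h, zero_add, OTensor.symm hf, hv1]; exact one_ne_zero⟩
        · exact ⟨v', h', by rw [OTensor.symm hf, hv1]; exact one_ne_zero⟩
      · exact ⟨u', by rw [OTensor.symm hf, hu1]; exact one_ne_zero, h⟩
    set c := f y y / (2 * f y u) with hc
    have hz : f (y - c • u) (y - c • u) = 0 := by
      simp only [sub_left' hf, hf.sub_right, hf.smul_left, smul_right' hf, hu, OTensor.symm hf u y, hc]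
      field_simp
      ring
    have z1 : f (y - c • u) u = f y u := by rw [sub_left' hf, hf.smul_left, hu, mul_zero, sub_zero]
    have z2 : f (y - c • u) v = f y v := by rw [sub_left' hf, hf.smul_left, huv, mul_zero, sub_zero]
    obtain ⟨β, hβ, b1⟩ := step hu hz (by rw [OTensor.symm hf, z1]; exact y1)
    obtain ⟨γ, hγ, g1⟩ := step hz hv (by rw [z2]; exact y2)
    exact ⟨γ * β, (isoW f).mul_mem hγ hβ, by rw [map_mul, Module.End.mul_apply, b1, g1]⟩
  · exact step hu hv huv

/-- An isometry carries a hyperbolic pair to another. -/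
theorem exists_frame_map (h2 : (2 : F) ≠ 0) {e e' w v : W F k} (H : Hyp f e e') (G : Hyp f w v) :
    ∃ γ ∈ isoW f, lg γ e = w ∧ lg γ e' = v := by
  obtain ⟨β, hβ, b1⟩ := exists_iso_map hf h2 H.ee G.ee (H.ne hf) (G.ne hf)
  set p := lg β e'
  have pp : f p p = 0 := by rw [hβ, H.ee']
  have pw : f w p = 1 := by rw [← b1, hβ, H.one]
  have G' : Hyp f w p := ⟨G.ee, pp, pw⟩
  obtain ⟨q1, q2⟩ := OTensor.proj0_perp hf G' (v - p)
  set b := proj0 f w p (v - p) with hb
  have hd : f (v - p) w = 0 := by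
    rw [sub_left' hf, OTensor.symm hf v w, G.one, OTensor.symm hf p w, pw, sub_self]
  have hv : v = p + f (v - p) p • w + b := by
    have h := OTensor.decomp hf w p (v - p)
    rw [hd, zero_smul, add_zero, ← hb] at h
    rw [add_assoc, ← h]
    abel
  have hα : f (v - p) p = -((2 : F)⁻¹ * f b b) := by
    have h := G.ee'
    rw [hv] at h
    simp only [hf.add_left, hf.add_right, hf.smul_left, smul_right' hf, G.ee, pp, pw, OTensor.symm hf p w,
      OTensor.symm hf w b, q1, OTensor.symm hf p b, q2] at h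
    field_simp
    linear_combination h
  have hb' : f (-b) w = 0 := by rw [neg_left' hf, q1, neg_zero]
  refine ⟨sieW hf h2 G.ee hb' * β, (isoW f).mul_mem (sieW_iso hf h2 G.ee hb') hβ, ?_, ?_⟩
  · rw [map_mul, Module.End.mul_apply, b1, lg_sieW, OTensor.sie_apply hf w (-b) w G.ee hb', hf.neg_right,
      OTensor.symm hf w b, q1, G.ee]
    simp
  · rw [map_mul, Module.End.mul_apply, lg_sieW, OTensor.sie_apply hf w (-b) p G.ee hb', hf.neg_right,
      OTensor.symm hf p b, q2, OTensor.symm hf p w, pw, neg_left' hf, hf.neg_right, neg_neg]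
    conv_rhs => rw [hv, hα]
    module

theorem eq_zero_of_perp {m : ℕ} (v : Fin m → W F k) (orth : ∀ i j, i ≠ j → f (v i) (v j) = 0)
    (ne : ∀ i, f (v i) (v i) ≠ 0) (hm : k ≤ m) {y : W F k} (hy : ∀ i, f y (v i) = 0) : y = 0 := by
  classical
  have hli : LinearIndependent F v := by
    refine Fintype.linearIndependent_iff.2 fun g hg i => ?_
    have := congrArg (fun y => f y (v i)) hg
    simp only [hf.sum_left, hf.zero_left] at this
    rw [Finset.sum_eq_single i (fun j _ hj => by rw [hf.smul_left, orth j i hj, mul_zero]) (by simp),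
      hf.smul_left] at this
    exact (mul_eq_zero.1 this).resolve_right (ne i)
  have hspan : Submodule.span F (Set.range v) = ⊤ := Submodule.eq_top_of_finrank_eq (by
    refine le_antisymm (Submodule.finrank_le _) ?_
    rw [finrank_span_eq_card hli, Fintype.card_fin, Module.finrank_fin_fun]
    exact hm)
  refine hf.nd _ fun z => ?_
  have hz : z ∈ Submodule.span F (Set.range v) := by rw [hspan]; trivial
  induction hz using Submodule.span_induction with
  | mem z hz => obtain ⟨j, rfl⟩ := hz; exact hy j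
  | zero => exact hf.zero_right _
  | add u w _ _ hu hw => rw [hf.add_right, hu, hw, add_zero]
  | smul c u _ hu => rw [smul_right' hf, hu, mul_zero]

/-- A second vector orthogonal to the first outside a hyperbolic pair. -/
theorem exists_perp_vec [Fintype F] (hS : Std f) (h4 : 4 ≤ k) {e e' η : W F k} (H : Hyp f e e') (h1 : f η e = 0)
    (h1' : f η e' = 0) (hη : f η η ≠ 0) :
    ∃ η', f η' e = 0 ∧ f η' e' = 0 ∧ f η' η = 0 ∧ f η' η' ≠ 0 ∧
      (f η' η' = f η η ∨ ∀ y, f y e = 0 → f y e' = 0 → f y η = 0 → f y η' = 0 → y = 0) := by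
  have h2 := hS.two
  have he : f e' e = 1 := by rw [OTensor.symm hf, H.one]
  have a1 : f e η = 0 := by rw [OTensor.symm hf, h1]
  have a2 : f e' η = 0 := by rw [OTensor.symm hf, h1']
  have hv : ∀ i j : Fin 3, i ≠ j → f (![e + e', e - e', η] i) (![e + e', e - e', η] j) = 0 := fun i j hij => by
    fin_cases i <;> fin_cases j <;> first | exact absurd rfl hij |
      simp [hf.add_left, hf.add_right, sub_left' hf, hf.sub_right, H.ee, H.ee', H.one, he, h1, h1', a1, a2]
  have hv' : ∀ i : Fin 3, f (![e + e', e - e', η] i) (![e + e', e - e', η] i) ≠ 0 := fun i => by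
    fin_cases i
    · simp [hf.add_left, hf.add_right, H.ee, H.ee', H.one, he]
      exact fun e0 => h2 (by linear_combination e0)
    · simp [sub_left' hf, hf.sub_right, H.ee, H.ee', H.one, he]
      exact fun e0 => h2 (by linear_combination -e0)
    · simpa using hη
  have perp : ∀ w, (∀ i : Fin 3, f w (![e + e', e - e', η] i) = 0) → f w e = 0 ∧ f w e' = 0 ∧ f w η = 0 := by
    intro w hw
    have a := hw 0
    have c := hw 1
    simp [hf.add_right, hf.sub_right] at a c
    exact ⟨(mul_eq_zero.1 (show (2 : F) * f w e = 0 by linear_combination a + c)).resolve_left h2,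
      (mul_eq_zero.1 (show (2 : F) * f w e' = 0 by linear_combination a - c)).resolve_left h2, hw 2⟩
  by_cases h5 : 5 ≤ k
  · obtain ⟨w, hw, hw'⟩ := exists_norm_orth hf h2 _ hv hv' (by omega) (f η η)
    obtain ⟨p1, p2, p3⟩ := perp w hw'
    exact ⟨w, p1, p2, p3, by rw [hw]; exact hη, Or.inl hw⟩
  · obtain ⟨w, hw, hw'⟩ := exists_aniso_orth hf h2 _ hv hv' (by omega)
    obtain ⟨p1, p2, p3⟩ := perp w hw'
    refine ⟨w, p1, p2, p3, hw, Or.inr fun y y1 y2 y3 y4 => ?_⟩
    refine eq_zero_of_perp hf ![e + e', e - e', η, w] (fun i j hij => ?_) (fun i => ?_) (by omega) fun i => ?_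
    · have b1 : f e w = 0 := by rw [OTensor.symm hf, p1]
      have b2 : f e' w = 0 := by rw [OTensor.symm hf, p2]
      have b3 : f η w = 0 := by rw [OTensor.symm hf, p3]
      fin_cases i <;> fin_cases j <;> first | exact absurd rfl hij |
        simp [hf.add_left, hf.add_right, sub_left' hf, hf.sub_right, H.ee, H.ee', H.one, he, h1, h1', a1, a2, p1,
          p2, p3, b1, b2, b3]
    · fin_cases i
      · simpa using hv' 0
      · simpa using hv' 1
      · simpa using hη
      · simpa using hw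
    · fin_cases i <;> simp [hf.add_right, hf.sub_right, y1, y2, y3, y4]

variable [Fintype F] {ι : Type} [Fintype ι] [DecidableEq ι]

theorem slot_op_other (p q : ι) (hq : q ≠ p) (P P' : Module.End F (W F k)) (T : Module.End F (VI F ι k))
    (x y : W F k) : slot f p (op q P * T * op q P') x y =
      op (⟨q, hq⟩ : Oth p) P * slot f p T x y * op (⟨q, hq⟩ : Oth p) P' :=
  LinearMap.ext fun u => by
    simp only [slot_apply hf, Module.End.mul_apply]
    rw [← out_op p ⟨q, hq⟩ P, ← out_op p ⟨q, hq⟩ P', out_emb, con_out hf]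

theorem slot_op_self (p : ι) {P P' : Module.End F (W F k)} (hP : ∀ x y, f (P x) y = f x (P' y))
    (T : Module.End F (VI F ι k)) (x y : W F k) :
    slot f p (op p P * T * op p P') x y = slot f p T (P' x) (P' y) :=
  LinearMap.ext fun u => by
    simp only [slot_apply hf, Module.End.mul_apply, op_emb]
    exact con_op hf p y (P' y) P (fun z => hP z y) _

/-- A monomial different from the identity. -/
theorem exists_mono_ne (hS : Std f) (L : Submodule F (Module.End F (VI F ι k)))
    (hinv : ∀ p e a, f e e = 0 → f a e = 0 → ∀ T ∈ L, op p (sie hf e a) * T * op p (sie hf e (-a)) ∈ L)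
    {a : F} (ha : a ≠ 0) (hrefl : ∀ p v, f v v = a → ∀ T ∈ L, op p (rfl' hf v) * T * op p (rfl' hf v) ∈ L)
    {T : Module.End F (VI F ι k)} (hT : T ∈ L) (hTc : ∀ c : F, T ≠ c • 1) :
    ∃ X : ι → Module.End F (W F k), ten X ∈ L ∧ (∀ i, IsMonoFactor hf (X i)) ∧ ∃ p, X p ≠ 1 := by
  classical
  have h2 := hS.two
  obtain ⟨p, e₀, a₀, he₀, ha₀, hne⟩ : ∃ p e a, f e e = 0 ∧ f a e = 0 ∧
      op p (sie hf e a) * T ≠ T * op p (sie hf e a) := by
    by_contra! hall
    obtain ⟨c, hc⟩ := scalar_of_sie hf hS hall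
    exact hTc c hc
  have ha₀' : f (-a₀) e₀ = 0 := by rw [neg_left' hf, ha₀, neg_zero]
  obtain ⟨w₀, hw₀, hw₀'⟩ : ∃ w : W F k, w ≠ 0 ∧ f w w = 0 := OTensor.exists_singular hf hS.hk
  by_cases hsq : ∃ x, f x x = 0 ∧ slot f p T x x ≠ 0
  · obtain ⟨x, hx, hx0⟩ := hsq
    let L' : Submodule F (Module.End F (VI F (Oth p) k)) :=
      L.comap ((LinearMap.mulLeft F (op p (sq1 hf x))).comp (outHom p))
    have hmem : ∀ Z, Z ∈ L' ↔ op p (sq1 hf x) * out p Z ∈ L := fun Z => Iff.rfl
    have hconj : ∀ (q : Oth p) (P P' : Module.End F (W F k)) Z,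
        op p (sq1 hf x) * out p (op q P * Z * op q P') = op q.1 P * (op p (sq1 hf x) * out p Z) * op q.1 P' :=
      fun q P P' Z => by
        rw [← out_mul, ← out_mul, out_op, out_op, ← mul_assoc (op q.1 P), op_comm q.2 P (sq1 hf x)]
        simp only [mul_assoc]
    have hB : slot f p T x x ∈ L' := by
      rw [hmem, ← sq_T_sq_same hf]
      exact contract_mem hS L p (hinv p) hx hT
    obtain ⟨X', h1, h3⟩ := exists_mono hS L' (fun q e b he hb Z hZ => by
        rw [hmem] at hZ ⊢; rw [hconj]; exact hinv q.1 e b he hb _ hZ)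
      ⟨a, ha, fun q v hv Z hZ => by rw [hmem] at hZ ⊢; rw [hconj]; exact hrefl q.1 v hv _ hZ⟩ hB hx0
    have hx' : x ≠ 0 := fun h => hx0 (LinearMap.ext fun u => by simp [slot, h, emb_zero])
    refine ⟨ins p (sq1 hf x) X', ?_, fun i => ?_, p, ?_⟩
    · rw [ten_split p, ins_self]
      simp only [ins_other]
      exact (hmem _).1 h1
    · by_cases hi : i = p
      · rw [hi, ins_self]; exact Or.inr (Or.inl ⟨x, hx', hx, rfl⟩)
      · rw [ins_of_ne hi]; exact h3 _
    · rw [ins_self]
      intro h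
      have := LinearMap.congr_fun h x
      rw [sq1_apply, hx, zero_smul, Module.End.one_apply] at this
      exact hx' this.symm
  push Not at hsq
  set D := op p (sie hf e₀ a₀) * T * op p (sie hf e₀ (-a₀)) - T with hD
  have hslot : ∀ x, slot f p D x x = 0 := fun x => by
    refine LinearMap.ext fun u => funext fun b => ?_
    obtain ⟨κ, hκ⟩ := bilin_scalar hS (LinearMap.mk₂ F (fun x y => slot f p T x y u b)
      (fun x x' y => by simp [slot_add_left hf]) (fun c x y => by simp [slot_smul_left hf])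
      (fun x y y' => by simp [slot_add_right hf]) (fun c x y => by simp [slot_smul_right hf]))
      fun x hx => by simp [hsq x hx]
    have e1 := hκ (sie hf e₀ (-a₀) x) (sie hf e₀ (-a₀) x)
    rw [OTensor.sie_preserves hf h2 he₀ ha₀'] at e1
    have e2 := hκ x x
    simp only [LinearMap.mk₂_apply] at e1 e2
    have e3 : slot f p D x x u b = slot f p T (sie hf e₀ (-a₀) x) (sie hf e₀ (-a₀) x) u b - slot f p T x x u b := by
      rw [← slot_op_self hf p (sie_adj hf h2 he₀ ha₀) T x x]
      simp only [hD, slot, LinearMap.comp_apply, LinearMap.sub_apply, map_sub, Pi.sub_apply]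
    rw [e3, LinearMap.zero_apply, Pi.zero_apply]
    exact (mul_eq_zero.1 (show (2 : F) * _ = 0 by linear_combination e1 - e2)).resolve_left h2
  have hD0 : D ≠ 0 := fun h => hne (by
    have e1 : op p (sie hf e₀ (-a₀)) * op p (sie hf e₀ a₀) = 1 := by
      rw [op_mul, OTensor.sie_mul hf h2 he₀ ha₀' ha₀, neg_add_cancel, OTensor.sie_zero hf he₀, op_one]
    rw [hD, sub_eq_zero] at h
    calc op p (sie hf e₀ a₀) * T
        = op p (sie hf e₀ a₀) * T * op p (sie hf e₀ (-a₀)) * op p (sie hf e₀ a₀) := by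
          rw [mul_assoc _ (op p (sie hf e₀ (-a₀))), e1, mul_one]
      _ = _ := by rw [h])
  let L2 : Submodule F (Module.End F (VI F ι k)) :=
    { carrier := {Z | Z ∈ L ∧ ∀ x, slot f p Z x x = 0}
      zero_mem' := ⟨L.zero_mem, fun x => by simp [slot]⟩
      add_mem' := fun {Z Z'} hZ hZ' => ⟨L.add_mem hZ.1 hZ'.1, fun x => by
        rw [show slot f p (Z + Z') x x = slot f p Z x x + slot f p Z' x x by
          simp [slot, LinearMap.comp_add, LinearMap.add_comp], hZ.2, hZ'.2, add_zero]⟩
      smul_mem' := fun c Z hZ => ⟨L.smul_mem c hZ.1, fun x => by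
        rw [show slot f p (c • Z) x x = c • slot f p Z x x by
          simp [slot, LinearMap.comp_smul, LinearMap.smul_comp], hZ.2, smul_zero]⟩ }
  have hmem : ∀ Z, Z ∈ L2 ↔ Z ∈ L ∧ ∀ x, slot f p Z x x = 0 := fun Z => Iff.rfl
  have hconj : ∀ (q : ι) (P P' : Module.End F (W F k)), (∀ x y, f (P x) y = f x (P' y)) →
      ∀ Z, (∀ x, slot f p Z x x = 0) → ∀ x, slot f p (op q P * Z * op q P') x x = 0 := fun q P P' hP Z hZ x => by
    by_cases hq : q = p
    · subst hq; rw [slot_op_self hf q hP]; exact hZ _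
    · rw [slot_op_other hf p q hq, hZ, mul_zero, zero_mul]
  obtain ⟨X, h1, h3⟩ := exists_mono hS L2
    (fun q e b he hb Z hZ => ⟨hinv q e b he hb Z hZ.1, hconj q _ _ (sie_adj hf h2 he hb) Z hZ.2⟩)
    ⟨a, ha, fun q v hv Z hZ => ⟨hrefl q v hv Z hZ.1, hconj q _ _ (rfl'_adj hf) Z hZ.2⟩⟩
    (T := D) ((hmem D).2 ⟨L.sub_mem (hinv p e₀ a₀ he₀ ha₀ T hT) hT, hslot⟩) hD0
  refine ⟨X, h1.1, h3, p, fun hp => ?_⟩
  obtain ⟨e', he', h1'⟩ := OTensor.exists_partner hf h2 hw₀ hw₀'
  obtain ⟨u, -, -, u3⟩ := OTensor.exists_aniso hf h2 hS.hk ⟨hw₀', he', h1'⟩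
  have hu0 : u ≠ 0 := fun h => u3 (by rw [h, hf.zero_left])
  have hX := h1.2 u
  rw [ten_split p, hp, op_one, one_mul] at hX
  have hB : (ten fun i : Oth p => X i.1) = 0 := LinearMap.ext fun z => by
    have := LinearMap.congr_fun hX z
    rw [slot_apply hf, out_emb, con_emb hf, LinearMap.zero_apply, smul_eq_zero] at this
    exact this.resolve_left u3
  obtain ⟨y, hy⟩ : ∃ y : Oth p → W F k, ∀ i, X i.1 (y i) ≠ 0 := by
    have : ∀ i : Oth p, ∃ y, X i.1 y ≠ 0 := fun i => by
      rcases h3 i.1 with h | ⟨w, hw0, hw, h⟩ | ⟨v, w, hvw, h⟩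
      · exact ⟨u, by rw [h]; exact hu0⟩
      · obtain ⟨w', -, hw1⟩ := OTensor.exists_partner hf h2 hw0 hw
        exact ⟨w', by rw [h, sq1_apply, OTensor.symm hf, hw1, one_smul]; exact hw0⟩
      · by_contra! hall
        exact hvw (LinearMap.ext fun z => by rw [← h]; exact hall z)
    choose y hy using this
    exact ⟨y, hy⟩
  have := LinearMap.congr_fun hB (pv y)
  rw [ten_pv, LinearMap.zero_apply] at this
  exact pv_ne_zero hy this

/-- Replacing the skew factors of a monomial by a fixed one. -/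
theorem exists_mono_normal (hS : Std f) (L : Submodule F (Module.End F (VI F ι k)))
    (hinv : ∀ p e a, f e e = 0 → f a e = 0 → ∀ T ∈ L, op p (sie hf e a) * T * op p (sie hf e (-a)) ∈ L)
    {X : ι → Module.End F (W F k)} (hX : ten X ∈ L) (hX' : ∀ i, IsMonoFactor hf (X i)) (e e' : W F k) :
    ∃ Y : ι → Module.End F (W F k), ten Y ∈ L ∧ ∀ i, (Y i = X i ∧ (X i = 1 ∨ ∃ w, w ≠ 0 ∧ f w w = 0 ∧
      X i = sq1 hf w)) ∨ (Y i = nn hf e e' ∧ ∃ v w, nn hf v w ≠ 0 ∧ X i = nn hf v w) := by
  classical
  suffices ∀ s : Finset ι, ∃ Y : ι → Module.End F (W F k), ten Y ∈ L ∧ (∀ i ∉ s, Y i = X i) ∧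
      ∀ i ∈ s, (Y i = X i ∧ (X i = 1 ∨ ∃ w, w ≠ 0 ∧ f w w = 0 ∧ X i = sq1 hf w)) ∨
        (Y i = nn hf e e' ∧ ∃ v w, nn hf v w ≠ 0 ∧ X i = nn hf v w) by
    obtain ⟨Y, h1, -, h3⟩ := this Finset.univ
    exact ⟨Y, h1, fun i => h3 i (Finset.mem_univ i)⟩
  intro s
  induction s using Finset.induction_on with
  | empty => exact ⟨X, hX, fun i _ => rfl, fun i hi => absurd hi (Finset.notMem_empty i)⟩
  | insert p s hp ih =>
    obtain ⟨Y, h1, h2', h3⟩ := ih
    rcases hX' p with h | h | ⟨v, w, hvw, h⟩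
    · refine ⟨Y, h1, fun i hi => h2' i (fun h' => hi (Finset.mem_insert_of_mem h')), fun i hi => ?_⟩
      rcases Finset.mem_insert.1 hi with rfl | hi
      · exact Or.inl ⟨h2' i hp, Or.inl h⟩
      · exact h3 i hi
    · refine ⟨Y, h1, fun i hi => h2' i (fun h' => hi (Finset.mem_insert_of_mem h')), fun i hi => ?_⟩
      rcases Finset.mem_insert.1 hi with rfl | hi
      · exact Or.inl ⟨h2' i hp, Or.inr h⟩
      · exact h3 i hi
    · let R := ten (Function.update Y p 1)
      have hR : ∀ P : Module.End F (W F k), op p P * R = ten (Function.update Y p P) ∧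
          R * op p P = ten (Function.update Y p P) := fun P => by
        constructor <;>
        · simp only [R, op, ten_mul]
          congr 1
          funext i
          by_cases hi : i = p
          · subst hi; simp
          · simp [hi]
      let S : Submodule F (Module.End F (W F k)) := L.comap ((LinearMap.mulRight F R).comp (opHom p))
      have hS' : ∀ Z, Z ∈ S ↔ ten (Function.update Y p Z) ∈ L := fun Z => by
        rw [← (hR Z).1]; exact Iff.rfl
      have hv : nn hf v w ∈ S := by
        rw [hS', ← h, ← h2' p hp, Function.update_eq_self]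
        exact h1
      have hfull := OTensor.skew_full hf hS.two hS.hk hS.sane S (fun e₁ d he hd Z hZ => by
        rw [hS'] at hZ ⊢
        have := hinv p e₁ d he hd _ hZ
        rwa [← (hR Z).1, ← mul_assoc, op_mul, mul_assoc, (hR _).2, ← (hR _).1, ← mul_assoc, op_mul,
          (hR _).1] at this) hv (OTensor.nn_skew hf v w) hvw e e'
      refine ⟨Function.update Y p (nn hf e e'), (hS' _).1 hfull, fun i hi => ?_, fun i hi => ?_⟩
      · rw [Function.update_of_ne (fun hip : i = p => hi (hip ▸ Finset.mem_insert_self p s))]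
        exact h2' i (fun h' => hi (Finset.mem_insert_of_mem h'))
      · rcases Finset.mem_insert.1 hi with rfl | hi
        · exact Or.inr ⟨Function.update_self .., v, w, hvw, h⟩
        · rw [Function.update_of_ne (fun hip : i = p => hp (hip ▸ hi))]
          exact h3 i hi

end Cfsg.Agent.OWreath
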