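import Cfsg.Agent.Lib.OWreathCore
import Cfsg.Agent.Lib.OWreathExcessGeo
import Cfsg.Agent.Lib.OWreathAverage

/-!
A central element at a ruler yields a line of monomials in the overgroup, one factor of which is skew.
-/

set_option autoImplicit false
set_option linter.unusedSectionVars false

namespace Cfsg.Agent.OWreath

open Cfsg.Agent.OTensor (Sym Hyp nn sq1 sie proj0 nn_apply sq1_apply smul_right' sub_left' neg_left')

variable {F : Type*} [Field F] {k : ℕ} {ι : Type} [Fintype ι] [DecidableEq ι] {f : W F k → W F k → F}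

section Torus

variable (hf : Sym f)
include hf

theorem tor_mul {u u' : W F k} (H : Hyp f u u') {c d : F} (hc : c ≠ 0) (hd : d ≠ 0) :
    tor hf u u' c * tor hf u u' d = tor hf u u' (c * d) := LinearMap.ext fun x => by
  have h1 : f u' u = 1 := by rw [OTensor.symm hf, H.one]
  simp only [Module.End.mul_apply, tor_apply, hf.add_left, hf.smul_left, H.ee, H.ee', H.one, h1, mul_inv]
  match_scalars <;> field_simp <;> ring

theorem tor_one (u u' : W F k) : tor hf u u' 1 = 1 := LinearMap.ext fun x => by simp [tor_apply]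

theorem tor_fst {u u' : W F k} (H : Hyp f u u') (c : F) : tor hf u u' c u = c • u := by
  rw [tor_apply, H.ee, H.one]; module

theorem tor_snd {u u' : W F k} (H : Hyp f u u') (c : F) : tor hf u u' c u' = c⁻¹ • u' := by
  rw [tor_apply, H.ee', OTensor.symm hf u' u, H.one]; module

theorem tor_adj {u u' : W F k} (H : Hyp f u u') {c : F} (hc : c ≠ 0) (x y : W F k) :
    f (tor hf u u' c x) y = f x (tor hf u u' c⁻¹ y) := by
  simp only [tor_apply, hf.add_left, hf.add_right, hf.smul_left, smul_right' hf, inv_inv, OTensor.symm hf u y,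
    OTensor.symm hf u' y]
  ring

/-- The torus element as a matrix. -/
def torW {u u' : W F k} (H : Hyp f u u') {c : F} (hc : c ≠ 0) : GL (Fin k) F :=
  mkGL (tor hf u u' c) (tor hf u u' c⁻¹)
    (by rw [tor_mul hf H hc (inv_ne_zero hc), mul_inv_cancel₀ hc, tor_one hf])

theorem lg_torW {u u' : W F k} (H : Hyp f u u') {c : F} (hc : c ≠ 0) : lg (torW hf H hc) = tor hf u u' c :=
  lg_mkGL _ _ _

theorem lg_torW_inv {u u' : W F k} (H : Hyp f u u') {c : F} (hc : c ≠ 0) :
    lg (torW hf H hc)⁻¹ = tor hf u u' c⁻¹ := by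
  rw [show (torW hf H hc)⁻¹ = mkGL (tor hf u u' c⁻¹) (tor hf u u' c)
      (by rw [tor_mul hf H (inv_ne_zero hc) hc, inv_mul_cancel₀ hc, tor_one hf]) from
    inv_eq_of_mul_eq_one_right (lg_injective (by
      rw [map_mul, lg_torW, lg_mkGL, tor_mul hf H hc (inv_ne_zero hc), mul_inv_cancel₀ hc, tor_one hf, map_one])),
    lg_mkGL]

theorem torW_iso {u u' : W F k} (H : Hyp f u u') {c : F} (hc : c ≠ 0) : torW hf H hc ∈ isoW f := fun x y => by
  rw [lg_torW, tor_adj hf H hc, ← Module.End.mul_apply, tor_mul hf H (inv_ne_zero hc) hc, inv_mul_cancel₀ hc,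
    tor_one hf, Module.End.one_apply]

theorem iso_tor {γ : GL (Fin k) F} (hγ : γ ∈ isoW f) (e e' : W F k) (c : F) :
    lg γ * tor hf e e' c = tor hf (lg γ e) (lg γ e') c * lg γ := LinearMap.ext fun x => by
  simp only [Module.End.mul_apply, tor_apply, map_add, map_smul, hγ x e, hγ x e']

/-- A skew elementary operator has a non-zero coefficient along a hyperbolic pair. -/
theorem exists_pair_nn (h2 : (2 : F) ≠ 0) {e e' : W F k} (H : Hyp f e e') {v w : W F k} (hne : nn hf v w ≠ 0) :
    ∃ u u', Hyp f u u' ∧ f (nn hf v w u) u' ≠ 0 := by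
  by_contra! hall
  have sk := OTensor.nn_skew hf v w
  have key : ∀ {u u'}, Hyp f u u' → nn hf v w u = 0 := by
    intro u u' G
    refine hf.nd _ fun z => ?_
    have a0 : f (nn hf v w u) u = 0 := by
      have h := sk u u
      rw [OTensor.symm hf u (nn hf v w u)] at h
      exact (mul_eq_zero.1 (show (2 : F) * f (nn hf v w u) u = 0 by linear_combination h)).resolve_left h2
    obtain ⟨d1, d2⟩ := OTensor.proj0_perp hf G z
    set d := proj0 f u u' z with hd
    have G' : Hyp f u (u' + d - ((2 : F)⁻¹ * f d d) • u) := by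
      refine ⟨G.ee, ?_, ?_⟩
      · simp only [sub_left' hf, hf.sub_right, hf.add_left, hf.add_right, hf.smul_left, smul_right' hf, G.ee, G.ee',
          G.one, OTensor.symm hf u' d, OTensor.symm hf u d, OTensor.symm hf u' u, d1, d2]
        field_simp
        ring
      · rw [hf.sub_right, hf.add_right, smul_right' hf, G.one, G.ee, OTensor.symm hf u d, d1]
        ring
    have a1 := hall u u' G
    have a2 := hall u _ G'
    rw [hf.sub_right, hf.add_right, smul_right' hf, a0, a1] at a2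
    rw [OTensor.decomp hf u u' z, ← hd, hf.add_right, hf.add_right, smul_right' hf, smul_right' hf, a0, a1]
    linear_combination a2
  refine hne (LinearMap.ext fun x => ?_)
  rw [LinearMap.zero_apply]
  obtain ⟨d1, d2⟩ := OTensor.proj0_perp hf H x
  set d := proj0 f e e' x with hd
  have G' : Hyp f (e' + d - ((2 : F)⁻¹ * f d d) • e) e := by
    refine ⟨?_, H.ee, ?_⟩
    · simp only [sub_left' hf, hf.sub_right, hf.add_left, hf.add_right, hf.smul_left, smul_right' hf, H.ee, H.ee',
        H.one, OTensor.symm hf e' d, OTensor.symm hf e d, OTensor.symm hf e' e, d1, d2]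
      field_simp
      ring
    · rw [sub_left' hf, hf.add_left, hf.smul_left, OTensor.symm hf e' e, H.one, H.ee, d1]
      ring
  have e1 := key H
  have e2 := key (u := e') (u' := e) ⟨H.ee', H.ee, by rw [OTensor.symm hf, H.one]⟩
  have e3 := key G'
  rw [map_sub, map_add, map_smul, e1, e2, smul_zero, sub_zero, zero_add] at e3
  rw [OTensor.decomp hf e e' x, ← hd, map_add, map_add, map_smul, map_smul, e1, e2, e3]
  simp

theorem ten_ne_zero {X : ι → Module.End F (W F k)} (h : ∀ i, X i ≠ 0) : ten X ≠ 0 := by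
  choose y hy using fun i => DFunLike.ne_iff.1 (h i)
  intro h0
  have := LinearMap.congr_fun h0 (pv y)
  rw [ten_pv, LinearMap.zero_apply] at this
  exact pv_ne_zero hy this

theorem monoFactor_ne (h2 : (2 : F) ≠ 0) {e e' : W F k} (H : Hyp f e e') {X : Module.End F (W F k)}
    (h : IsMonoFactor hf X) : X ≠ 0 := by
  rcases h with rfl | ⟨w, hw0, hw, rfl⟩ | ⟨v, w, hvw, rfl⟩
  · exact fun h0 => H.ne hf (by simpa using LinearMap.congr_fun h0 e)
  · obtain ⟨w', -, hw1⟩ := OTensor.exists_partner hf h2 hw0 hw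
    intro h0
    have := LinearMap.congr_fun h0 w'
    rw [sq1_apply, OTensor.symm hf, hw1, one_smul] at this
    exact hw0 this
  · exact hvw

/-- A skew monomial has a skew factor. -/
theorem mono_has_nn (h2 : (2 : F) ≠ 0) {e e' : W F k} (H : Hyp f e e') {X : ι → Module.End F (W F k)}
    (hX : ∀ i, IsMonoFactor hf (X i)) (hsk : ∀ u w, bT f (ten X u) w = -bT f u (ten X w)) :
    ∃ i v w, nn hf v w ≠ 0 ∧ X i = nn hf v w := by
  by_contra! hall
  have hsa : AdjT f (ten X) (ten X) := adj_ten hf fun i => by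
    rcases hX i with h | ⟨w, -, -, h⟩ | ⟨v, w, hvw, h⟩
    · exact fun x y => by rw [h]; rfl
    · exact fun x y => by rw [h, sq1_apply, sq1_apply, hf.smul_left, smul_right' hf, OTensor.symm hf w y]; ring
    · exact absurd h (hall i v w hvw)
  refine ten_ne_zero hf (fun i => monoFactor_ne hf h2 H (hX i)) (LinearMap.ext fun u => bT_nd hf _ fun w => ?_)
  have a := hsk u w
  rw [← hsa u w] at a
  exact (mul_eq_zero.1 (show (2 : F) * bT f (ten X u) w = 0 by linear_combination a)).resolve_left h2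

end Torus

/-- A field in which every fourth power is one is prime. -/
theorem exists_natCast_of_pow_four [Fintype F] (h2 : (2 : F) ≠ 0) (h : ∀ c : F, c ≠ 0 → c ^ 4 = 1) (t : F) :
    ∃ n : ℕ, t = n := by
  classical
  obtain ⟨g, hg⟩ := IsCyclic.exists_generator (α := Fˣ)
  have h4 : orderOf g ∣ 4 := orderOf_dvd_of_pow_eq_one (Units.ext (by simpa using h g g.ne_zero))
  rw [orderOf_eq_card_of_forall_mem_zpowers hg, Nat.card_eq_fintype_card, Fintype.card_units] at h4
  have hle := Nat.le_of_dvd (by norm_num) h4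
  set p := ringChar F
  have : CharP F p := ringChar.charP F
  obtain ⟨n, hp, hn⟩ := FiniteField.card F p
  have h3 : 3 ≤ p := by
    rcases hp.two_le.lt_or_eq with h' | h'
    · exact h'
    · exact absurd (by have := CharP.cast_eq_zero F p; rw [← h'] at this; exact_mod_cast this) h2
  have hn1 : (n : ℕ) = 1 := by
    have h5 : p ^ (n : ℕ) ≤ 5 := by rw [← hn]; omega
    by_contra hne
    have hn2 : 2 ≤ (n : ℕ) := by have := n.pos; omega
    have h9 : 3 ^ 2 ≤ p ^ (n : ℕ) :=
      (Nat.pow_le_pow_left h3 2).trans (Nat.pow_le_pow_right (by omega) hn2)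
    omega
  rw [hn1, pow_one] at hn
  have := Fact.mk hp
  refine ⟨((ZMod.ringEquiv F hn).symm t).val, ?_⟩
  conv_lhs => rw [← (ZMod.ringEquiv F hn).apply_symm_apply t, ← ZMod.natCast_zmod_val ((ZMod.ringEquiv F hn).symm t)]
  rw [map_natCast]

section Central

variable (hf : Sym f)
include hf

/-- The displacements on the other positions of the central elements at a ruler. -/
def cdGrp {e : W F k} (he : f e e = 0) (M : Subgroup (GL (ι → Fin k) F)) (l : ι) :
    AddSubgroup (Module.End F (VI F (Oth l) k)) :=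
  have hsq : ∀ Z Z', op l (sq1 hf e) * out l Z * (op l (sq1 hf e) * out l Z') = 0 := fun Z Z' => by
    rw [mix_mul, sq_mul_sq hf he, op_zero, zero_mul]
  { carrier := {Z | El M (op l (sq1 hf e) * out l Z)}
    zero_mem' := by
      show El M _
      rw [out_zero, mul_zero]
      exact El.zero
    add_mem' := fun {Z Z'} hZ hZ' => by
      show El M _
      rw [out_add, mul_add]
      exact El.add hZ hZ' (hsq Z Z')
    neg_mem' := fun {Z} hZ => by
      show El M _
      have h := El.neg hZ (hsq Z Z)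
      have e0 : op l (sq1 hf e) * out l (-Z) = -(op l (sq1 hf e) * out l Z) :=
        LinearMap.ext fun x => by
          rw [out_neg, Module.End.mul_apply, LinearMap.neg_apply, LinearMap.neg_apply, map_neg, Module.End.mul_apply]
      exact e0 ▸ h }

variable {M : Subgroup (GL (ι → Fin k) F)} {l : ι} {e e' : W F k}

theorem mem_cdGrp (he : f e e = 0) {Z : Module.End F (VI F (Oth l) k)} :
    Z ∈ cdGrp hf he M l ↔ El M (op l (sq1 hf e) * out l Z) := Iff.rfl

theorem cdGrp_conj (he : f e e = 0) {Z : Module.End F (VI F (Oth l) k)} (hZ : Z ∈ cdGrp hf he M l)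
    {g : GL (ι → Fin k) F} (hg : g ∈ M) {A A' : Module.End F (W F k)} {P P' : Module.End F (VI F (Oth l) k)}
    (h : lg g = op l A * out l P) (h' : lg g⁻¹ = op l A' * out l P') {r : F}
    (hr : A * sq1 hf e * A' = r • sq1 hf e) : r • (P * Z * P') ∈ cdGrp hf he M l := by
  have hc := El.conj hZ hg
  rw [h, h', mix_mul, mix_mul, hr, op_smul, smul_mul_assoc, ← mul_smul_comm, ← out_smul] at hc
  exact hc

theorem cdGrp_skew (H : Hyp f e e') (hM : Ovr f M) {Z : Module.End F (VI F (Oth l) k)}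
    (hZ : Z ∈ cdGrp hf H.ee M l) (x y : VI F (Oth l) k) : bT f (Z x) y = -bT f x (Z y) := by
  obtain ⟨g, hg, hgZ⟩ := hZ
  have h := (mem_isoV.1 (hM.le hg)) (emb l e' x) (emb l e' y)
  have e1 : ∀ z, lg g (emb l e' z) = emb l e' z + emb l e (Z z) := fun z => by
    rw [hgZ, LinearMap.add_apply, Module.End.one_apply, Module.End.mul_apply, out_emb, op_emb, sq1_apply,
      OTensor.symm hf e' e, H.one, one_smul]
  rw [e1, e1] at h
  simp only [map_add, LinearMap.add_apply, bT_emb hf, H.ee, H.ee', H.one, OTensor.symm hf e' e] at h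
  linear_combination h

variable (H : Hyp f e e') (hM : Ovr f M) (h2 : (2 : F) ≠ 0)
include H hM

include h2 in
theorem cdGrp_sie (p : Oth l) {d a : W F k} (hd : f d d = 0) (ha : f a d = 0) {Z : Module.End F (VI F (Oth l) k)}
    (hZ : Z ∈ cdGrp hf H.ee M l) : op p (sie hf d a) * Z * op p (sie hf d (-a)) ∈ cdGrp hf H.ee M l := by
  have h := cdGrp_conj hf H.ee hZ (hM.sie_mem hf h2 p.1 hd ha) (A := 1) (A' := 1) (P := op p (sie hf d a))
    (P' := op p (sie hf d (-a))) (by rw [lg_opGL, lg_sieW, op_one, one_mul, out_op])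
    (by rw [opGL_inv, lg_opGL, lg_sieW_inv, op_one, one_mul, out_op]) (r := 1) (by rw [one_mul, mul_one, one_smul])
  rwa [one_smul] at h

include h2 in
theorem cdGrp_refl (p : Oth l) {η ζ : W F k} (h1 : f η e = 0) (hη : f η η ≠ 0) (hζ : f ζ ζ = f η η)
    {Z : Module.End F (VI F (Oth l) k)} (hZ : Z ∈ cdGrp hf H.ee M l) :
    op p (rfl' hf ζ) * Z * op p (rfl' hf ζ) ∈ cdGrp hf H.ee M l := by
  have he1 : f e η = 0 := by rw [OTensor.symm hf, h1]
  have hζ0 : f ζ ζ ≠ 0 := by rw [hζ]; exact hη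
  have hr : rfl' hf η * sq1 hf e * rfl' hf η = (1 : F) • sq1 hf e := LinearMap.ext fun x => by
    rw [Module.End.mul_apply, Module.End.mul_apply, one_smul, sq1_apply, sq1_apply, map_smul,
      rfl'_perp hf he1, rfl'_adj hf, rfl'_perp hf he1]
  have h := cdGrp_conj hf H.ee hZ (hM.flip_mem' hf h2 (Ne.symm p.2) hη hζ0 hζ.symm) (A := rfl' hf η)
    (A' := rfl' hf η) (P := op p (rfl' hf ζ)) (P' := op p (rfl' hf ζ))
    (by rw [map_mul, lg_opGL, lg_opGL, lg_reflW, lg_reflW, out_op])
    (by rw [mul_inv_rev, opGL_inv, opGL_inv, reflW_inv, reflW_inv, map_mul, lg_opGL, lg_opGL, lg_reflW, lg_reflW,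
      op_comm p.2, out_op]) hr
  rwa [one_smul] at h

theorem cdGrp_sq (p : Oth l) {d : GL (Fin k) F} (hd : d ∈ isoW f) {Z : Module.End F (VI F (Oth l) k)}
    (hZ : Z ∈ cdGrp hf H.ee M l) :
    op p (lg (d * d)) * Z * op p (lg (d * d)⁻¹) ∈ cdGrp hf H.ee M l := by
  have h := cdGrp_conj hf H.ee hZ (hM.opGL_sq hf p.1 hd) (A := 1) (A' := 1) (P := op p (lg (d * d)))
    (P' := op p (lg (d * d)⁻¹)) (by rw [lg_opGL, op_one, one_mul, out_op])
    (by rw [opGL_inv, lg_opGL, op_one, one_mul, out_op]) (r := 1) (by rw [one_mul, mul_one, one_smul])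
  rwa [one_smul] at h

include h2 in
theorem cdGrp_tor (p : Oth l) {u u' : W F k} (G : Hyp f u u') {c : F} (hc : c ≠ 0)
    {Z : Module.End F (VI F (Oth l) k)} (hZ : Z ∈ cdGrp hf H.ee M l) :
    (c * c) • (op p (tor hf u u' c⁻¹) * Z * op p (tor hf u u' c)) ∈ cdGrp hf H.ee M l := by
  set T := opGL l (torW hf H hc) with hT
  have hTG : T ∈ isoV f := opGL_iso hf l (torW_iso hf H hc)
  have h0 := hM.der _ (opGL_mem l (torW hf H hc)) hTG (permGL (Equiv.swap l p.1)) (permGL_mem _) (permGL_iso hf _)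
  rw [mul_assoc (opGL l (torW hf H hc)), mul_assoc (opGL l (torW hf H hc)), opGL_inv, permGL_conj_op,
    Equiv.swap_apply_left] at h0
  obtain ⟨γ, hγ, γ1, γ2⟩ := exists_frame_map hf h2 H G
  have h1 := hM.conj_mem hf (opGL_mem p.1 γ) (opGL_iso hf p.1 hγ) h0
    (Subgroup.mul_mem _ (opGL_mem _ _) (opGL_mem _ _))
  have hk : γ * (torW hf H hc)⁻¹ * γ⁻¹ = (torW hf G hc)⁻¹ := by
    rw [mul_inv_eq_iff_eq_mul]
    exact lg_injective (by rw [map_mul, map_mul, lg_torW_inv, lg_torW_inv, iso_tor hf hγ, γ1, γ2])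
  have h3 : opGL l (torW hf H hc) * opGL p.1 (torW hf G hc)⁻¹ ∈ M := by
    convert h1 using 1
    rw [← hk, opGL_mul, opGL_mul, ← opGL_inv p.1 γ]
    have hcm : opGL p.1 γ * opGL l (torW hf H hc) = opGL l (torW hf H hc) * opGL p.1 γ :=
      lg_injective (by rw [map_mul, map_mul, lg_opGL, lg_opGL, op_comm p.2])
    rw [← mul_assoc (opGL p.1 γ) (opGL l _), hcm]
    simp only [mul_assoc]
  refine cdGrp_conj hf H.ee hZ h3 (A := tor hf e e' c) (A' := tor hf e e' c⁻¹)
    (P := op p (tor hf u u' c⁻¹)) (P' := op p (tor hf u u' c)) ?_ ?_ ?_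
  · rw [map_mul, lg_opGL, lg_opGL, lg_torW, lg_torW_inv, out_op]
  · rw [mul_inv_rev, opGL_inv, opGL_inv, inv_inv, map_mul, lg_opGL, lg_opGL, lg_torW, lg_torW_inv,
      op_comm p.2, out_op]
  · refine LinearMap.ext fun x => ?_
    rw [Module.End.mul_apply, Module.End.mul_apply, LinearMap.smul_apply, sq1_apply, sq1_apply, map_smul,
      tor_fst hf H, tor_adj hf H (inv_ne_zero hc), inv_inv, tor_fst hf H, smul_right' hf, smul_smul, smul_smul]
    congr 1
    ring

include h2 in
/-- A coefficient along a hyperbolic pair gives a line of central elements. -/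
theorem cdGrp_line [Fintype F] {c₀ : F} (hc₀ : c₀ ≠ 0) (hc₀' : c₀ ^ 4 ≠ 1) (p : Oth l) {u u' : W F k}
    (G : Hyp f u u') {Z : Module.End F (VI F (Oth l) k)} (hZ : Z ∈ cdGrp hf H.ee M l)
    (hne : slot f p Z u u' ≠ 0) : ∃ A, A ≠ 0 ∧ ∀ t : F, t • A ∈ cdGrp hf H.ee M l := by
  classical
  set D : F → Module.End F (VI F (Oth l) k) := fun s => op p (tor hf u u' s) with hDdef
  have hmul : ∀ {s s' : F}, s ≠ 0 → s' ≠ 0 → D s * D s' = D (s * s') := fun {s s'} hs hs' => by
    simp only [D]
    rw [op_mul, tor_mul hf G hs hs']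
  have hD1 : D 1 = 1 := by
    simp only [D]
    rw [tor_one hf, op_one]
  let A := ∑ t : Fˣ, D ((t : F) * t) * Z * D ((t : F) * t)⁻¹
  have hA : A ∈ cdGrp hf H.ee M l := AddSubgroup.sum_mem _ fun t _ => by
    have := cdGrp_sq hf H hM p (torW_iso hf G t.ne_zero) hZ
    rwa [mul_inv_rev, map_mul, map_mul, lg_torW, lg_torW_inv, tor_mul hf G t.ne_zero t.ne_zero,
      tor_mul hf G (inv_ne_zero t.ne_zero) (inv_ne_zero t.ne_zero), ← mul_inv] at this
  have hcomm : ∀ s : Fˣ, D ((s : F) * s) * A = A * D ((s : F) * s) := fun s => by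
    have hs : (s : F) * s ≠ 0 := mul_ne_zero s.ne_zero s.ne_zero
    have e1 : D ((s : F) * s) * A * D ((s : F) * s)⁻¹ = A := by
      simp only [A, Finset.mul_sum, Finset.sum_mul]
      refine Fintype.sum_equiv (Equiv.mulLeft s) _ _ fun t => ?_
      have ht : (t : F) * t ≠ 0 := mul_ne_zero t.ne_zero t.ne_zero
      have e2 : (↑(s * t) : F) * ↑(s * t) = (s : F) * s * (t * t) := by push_cast; ring
      rw [Equiv.coe_mulLeft, e2, mul_inv_rev ((s : F) * s) ((t : F) * t), ← hmul hs ht,
        ← hmul (inv_ne_zero ht) (inv_ne_zero hs)]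
      simp only [mul_assoc]
    conv_rhs => rw [← e1, mul_assoc, hmul (inv_ne_zero hs) hs, inv_mul_cancel₀ hs, hD1, mul_one]
  set b := c₀ * c₀ with hb
  have hb0 : b ≠ 0 := mul_ne_zero hc₀ hc₀
  have hb2 : b * b ≠ 1 := by
    intro h
    exact hc₀' (by rw [← h, hb]; ring)
  set P := op p (((OTensor.bl hf).flip u').smulRight u) with hP
  set P' := op p (((OTensor.bl hf).flip u).smulRight u') with hP'
  have hDs : ∀ s : F, D s = 1 + (s - 1) • P + (s⁻¹ - 1) • P' := fun s => by
    simp only [D, hP, hP', tor, op_add, op_smul, op_one]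
  have hB : D b * A = A * D b := by simpa using hcomm (Units.mk0 c₀ hc₀)
  have hB' : D b⁻¹ * A = A * D b⁻¹ := by
    simpa [hb, mul_inv] using hcomm (Units.mk0 c₀⁻¹ (inv_ne_zero hc₀))
  have hPA : P * A = A * P ∧ P' * A = A * P' := by
    have hk : (b - 1) ^ 2 - (b⁻¹ - 1) ^ 2 ≠ 0 := by
      intro h
      have h3 : (b - 1) ^ 2 * (b * b - 1) = 0 := by
        field_simp at h
        linear_combination h
      rcases mul_eq_zero.1 h3 with h4 | h4
      · exact hb2 (by rw [sub_eq_zero.1 (sq_eq_zero_iff.1 h4)]; ring)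
      · exact hb2 (sub_eq_zero.1 h4)
    rw [hDs, add_mul, add_mul, one_mul, mul_add, mul_add, mul_one, smul_mul_assoc, smul_mul_assoc, mul_smul_comm,
      mul_smul_comm] at hB
    rw [hDs, inv_inv, add_mul, add_mul, one_mul, mul_add, mul_add, mul_one, smul_mul_assoc, smul_mul_assoc,
      mul_smul_comm, mul_smul_comm] at hB'
    have a1 : (b - 1) • (P * A - A * P) + (b⁻¹ - 1) • (P' * A - A * P') = 0 := by
      linear_combination (norm := module) hB
    have a2 : (b⁻¹ - 1) • (P * A - A * P) + (b - 1) • (P' * A - A * P') = 0 := by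
      linear_combination (norm := module) hB'
    have a3 : ((b - 1) ^ 2 - (b⁻¹ - 1) ^ 2) • (P * A - A * P) = 0 := by
      linear_combination (norm := module) (b - 1) • a1 - (b⁻¹ - 1) • a2
    have a4 : ((b - 1) ^ 2 - (b⁻¹ - 1) ^ 2) • (P' * A - A * P') = 0 := by
      linear_combination (norm := module) (b - 1) • a2 - (b⁻¹ - 1) • a1
    exact ⟨sub_eq_zero.1 ((smul_eq_zero.1 a3).resolve_left hk), sub_eq_zero.1 ((smul_eq_zero.1 a4).resolve_left hk)⟩
  have hall : ∀ s : F, s ≠ 0 → (s * s) • A ∈ cdGrp hf H.ee M l := fun s hs => by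
    have h := cdGrp_tor hf H hM h2 p G hs hA
    have e1 : D s⁻¹ * A = A * D s⁻¹ := by
      rw [hDs, add_mul, add_mul, one_mul, mul_add, mul_add, mul_one, smul_mul_assoc, smul_mul_assoc, mul_smul_comm,
        mul_smul_comm, hPA.1, hPA.2]
    rwa [show op p (tor hf u u' s⁻¹) * A * op p (tor hf u u' s) = A by
      show D s⁻¹ * A * D s = A
      rw [e1, mul_assoc, hmul (inv_ne_zero hs) hs, inv_mul_cancel₀ hs, hD1, mul_one]] at h
  refine ⟨A, fun h0 => hne ?_, fun t => ?_⟩
  · have e1 : ∀ t : Fˣ, slot f p (D ((t : F) * t) * Z * D ((t : F) * t)⁻¹) u u' = slot f p Z u u' := fun t => by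
      have ht : (t : F) * t ≠ 0 := mul_ne_zero t.ne_zero t.ne_zero
      rw [slot_op_self hf p (tor_adj hf G ht), tor_fst hf G, tor_snd hf G, inv_inv, slot_smul_left hf,
        slot_smul_right hf, smul_smul, inv_mul_cancel₀ ht, one_smul]
    have hs : slot f p A u u' = ∑ t : Fˣ, slot f p (D ((t : F) * t) * Z * D ((t : F) * t)⁻¹) u u' :=
      LinearMap.ext fun z => by simp [A, slot, map_sum]
    rw [h0, Finset.sum_congr rfl fun t _ => e1 t, Finset.sum_const, Finset.card_univ, ← Nat.cast_smul_eq_nsmul F,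
      Fintype.card_units, Nat.cast_sub Fintype.card_pos, FiniteField.cast_card_eq_zero] at hs
    simpa [slot] using hs.symm
  · have hsq : ∀ s : F, (s * s) • A ∈ cdGrp hf H.ee M l := fun s => by
      by_cases hs : s = 0
      · rw [hs, mul_zero, zero_smul]; exact zero_mem _
      · exact hall s hs
    have : t = (t + 1) / 2 * ((t + 1) / 2) - (t - 1) / 2 * ((t - 1) / 2) := by field_simp; ring
    have e1 := sub_smul ((t + 1) / 2 * ((t + 1) / 2)) ((t - 1) / 2 * ((t - 1) / 2)) A
    rw [← this] at e1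
    rw [e1]
    exact sub_mem (hsq _) (hsq _)

end Central

variable [Fintype F]

/-- A central element gives a line of monomials with a skew factor. -/
theorem exists_central_mono (hS : Std f) {M : Subgroup (GL (ι → Fin k) F)} (hM : Ovr f M) {l : ι} {e e' : W F k}
    (H : Hyp f e e') {Z : Module.End F (VI F (Oth l) k)} (hZ0 : Z ≠ 0)
    (hZ : El M (op l (sq1 hS.sym e) * out l Z)) :
    ∃ X : ι → Module.End F (W F k), X l = sq1 hS.sym e ∧ (∀ i, IsMonoFactor hS.sym (X i)) ∧
      (∃ i v w, nn hS.sym v w ≠ 0 ∧ X i = nn hS.sym v w) ∧ ∀ t : F, El M (t • ten X) := by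
  classical
  have hf := hS.sym
  have h2 := hS.two
  obtain ⟨η, η1, -, η3⟩ := OTensor.exists_aniso hf h2 hS.hk H
  set G0 := cdGrp hf H.ee M l with hG0
  have hZ' : Z ∈ G0 := hZ
  obtain ⟨A, hA0, hA⟩ : ∃ A, A ≠ 0 ∧ ∀ t : F, t • A ∈ G0 := by
    by_cases hq : ∀ c : F, c ≠ 0 → c ^ 4 = 1
    · refine ⟨Z, hZ0, fun t => ?_⟩
      obtain ⟨n, rfl⟩ := exists_natCast_of_pow_four h2 hq t
      rw [Nat.cast_smul_eq_nsmul]
      exact nsmul_mem hZ' n
    push Not at hq
    obtain ⟨c₀, hc₀, hc₀'⟩ := hq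
    by_cases hex : ∃ Z ∈ G0, ∃ (p : Oth l) (u u' : W F k), Hyp f u u' ∧ slot f p Z u u' ≠ 0
    · obtain ⟨Z₁, hZ₁, p, u, u', G, hne⟩ := hex
      exact cdGrp_line hf H hM h2 hc₀ hc₀' p G hZ₁ hne
    push Not at hex
    exfalso
    let Y := Submodule.span F (G0 : Set (Module.End F (VI F (Oth l) k)))
    have hconj : ∀ P P' : Module.End F (VI F (Oth l) k), (∀ T ∈ G0, P * T * P' ∈ G0) →
        ∀ T ∈ Y, P * T * P' ∈ Y := fun P P' h T hT => by
      refine Submodule.span_induction (fun T hT => Submodule.subset_span (h T hT)) ?_ ?_ ?_ hT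
      · rw [mul_zero, zero_mul]; exact Y.zero_mem
      · intro a b _ _ ha hb; rw [mul_add, add_mul]; exact Y.add_mem ha hb
      · intro a b _ hb; rw [mul_smul_comm, smul_mul_assoc]; exact Y.smul_mem a hb
    obtain ⟨X, hX, hXf⟩ := exists_mono hS Y
      (fun p d a hd ha => hconj _ _ fun T hT => cdGrp_sie hf H hM h2 p hd ha hT)
      ⟨f η η, η3, fun p v hv => hconj _ _ fun T hT => cdGrp_refl hf H hM h2 p η1 η3 hv hT⟩
      (Submodule.subset_span hZ') hZ0
    have hsk : ∀ T ∈ Y, ∀ x y, bT f (T x) y = -bT f x (T y) := fun T hT x y => by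
      induction hT using Submodule.span_induction with
      | mem T hT => exact cdGrp_skew hf H hM hT x y
      | zero => simp
      | add a b _ _ ha hb => simp only [LinearMap.add_apply, map_add, ha, hb]; ring
      | smul c a _ ha => simp only [LinearMap.smul_apply, map_smul, ha, smul_eq_mul]; ring
    obtain ⟨p, v, w, hvw, hp⟩ := mono_has_nn hf h2 H hXf (hsk _ hX)
    obtain ⟨u, u', G, hne⟩ := exists_pair_nn hf h2 H hvw
    have hslot : ∀ T ∈ Y, slot f p T u u' = 0 := fun T hT => by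
      induction hT using Submodule.span_induction with
      | mem T hT => exact hex T hT p u u' G
      | zero => simp [slot]
      | add a b _ _ ha hb =>
        rw [show slot f p (a + b) u u' = slot f p a u u' + slot f p b u u' by
          simp [slot, LinearMap.add_comp, LinearMap.comp_add], ha, hb, add_zero]
      | smul c a _ ha =>
        rw [show slot f p (c • a) u u' = c • slot f p a u u' by
          simp [slot, LinearMap.smul_comp, LinearMap.comp_smul], ha, smul_zero]
    refine ten_ne_zero hf (fun i : Oth p => monoFactor_ne hf h2 H (hXf i.1)) (LinearMap.ext fun z => ?_)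
    have := LinearMap.congr_fun (hslot _ hX) z
    rw [ten_split p, slot_apply hf, Module.End.mul_apply, out_emb, op_emb, con_emb hf, hp, LinearMap.zero_apply,
      smul_eq_zero] at this
    exact this.resolve_left hne
  let L : Submodule F (Module.End F (VI F (Oth l) k)) :=
    { carrier := {T | ∀ t : F, t • T ∈ G0}
      zero_mem' := fun t => by rw [smul_zero]; exact G0.zero_mem
      add_mem' := fun {a b} ha hb t => by rw [smul_add]; exact G0.add_mem (ha t) (hb t)
      smul_mem' := fun c a ha t => by rw [smul_smul]; exact ha _ }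
  have hmove : ∀ P P' : Module.End F (VI F (Oth l) k), (∀ T ∈ G0, P * T * P' ∈ G0) →
      ∀ T ∈ L, P * T * P' ∈ L := fun P P' h T hT t => by
    have := h _ (hT t)
    rwa [mul_smul_comm, smul_mul_assoc] at this
  obtain ⟨X', hX', hXf⟩ := exists_mono hS L
    (fun p d a hd ha => hmove _ _ fun T hT => cdGrp_sie hf H hM h2 p hd ha hT)
    ⟨f η η, η3, fun p v hv => hmove _ _ fun T hT => cdGrp_refl hf H hM h2 p η1 η3 hv hT⟩ (T := A) hA hA0
  obtain ⟨i, v, w, hvw, hi⟩ := mono_has_nn hf h2 H hXf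
    (cdGrp_skew hf H hM (by have := hX' 1; rwa [one_smul] at this))
  refine ⟨ins l (sq1 hf e) X', ins_self _ _ _, fun j => ?_, ⟨i.1, v, w, hvw, by rw [ins_other, hi]⟩, fun t => ?_⟩
  · by_cases hj : j = l
    · rw [hj, ins_self]; exact Or.inr (Or.inl ⟨e, H.ne hf, H.ee, rfl⟩)
    · rw [ins_of_ne hj]; exact hXf _
  · rw [ten_split l, ins_self]
    simp only [ins_other]
    rw [← mul_smul_comm, ← out_smul]
    exact hX' t

end Cfsg.Agent.OWreath
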