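import Cfsg.Agent.Lib.OWreathClimbSlots
import Cfsg.Agent.Lib.OmegaStabTools
import Cfsg.Agent.Lib.OmegaMaxGlue

/-!
A monomial unipotent element with a skew slot yields full radicals at pure singular vectors, so the overgroup
contains the commutator group of the isometries.
-/

set_option autoImplicit false
set_option linter.unusedSectionVars false

namespace Cfsg.Agent.OWreath

open QuadraticMap
open Cfsg.Agent.OTensor (Sym Hyp nn sq1 sie proj0 nn_apply sq1_apply smul_right' neg_left' sub_left')
open Cfsg.Agent.OrthUnitaryQuad Cfsg.Agent.OrthUnitarySimple Cfsg.Agent.OmegaGeo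

variable {F : Type*} [Field F] {k : ℕ} {ι : Type} [Fintype ι] [DecidableEq ι] {f : W F k → W F k → F}

/-- The quadratic form of the tensor power. -/
noncomputable def qT (f : W F k → W F k → F) : QuadraticForm F (VI F ι k) :=
  LinearMap.BilinMap.toQuadraticMap ((2 : F)⁻¹ • bT f)

theorem qT_apply (u : VI F ι k) : qT f u = (2 : F)⁻¹ * bT f u u := rfl

section Form

variable (hf : Sym f) (h2 : (2 : F) ≠ 0)
include hf h2

theorem qT_polar (u w : VI F ι k) : polar (qT f) u w = bT f u w := by
  simp only [polar, qT_apply, map_add, LinearMap.add_apply, bT_symm hf w u]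
  field_simp
  ring

theorem qT_nd : (polarBilin (qT f : QuadraticForm F (VI F ι k))).Nondegenerate :=
  ⟨fun u hu => bT_nd hf u fun w => by rw [← qT_polar hf h2]; exact hu w,
    fun u hu => bT_nd hf u fun w => by rw [← qT_polar hf h2, polar_comm]; exact hu w⟩

theorem isoV_le_range : (isoV f : Subgroup (GL (ι → Fin k) F)) ≤ (OmegaMaxGlue.glHom (qT f)).range := by
  intro g hg
  refine ⟨⟨LinearEquiv.ofLinearMap (lg g) (lg g⁻¹) (LinearMap.ext fun u => lg_apply_inv g u)
    (LinearMap.ext fun u => lg_inv_apply g u), fun u => ?_⟩, lg_injective (LinearMap.ext fun u => ?_)⟩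
  · show qT f (lg g u) = qT f u
    rw [qT_apply, qT_apply, hg u u]
  · rw [OmegaMaxGlue.glHom_apply, lg_apply, toGL_mulVec]
    rfl

theorem qT_pv {x : ι → W F k} {i : ι} (h : f (x i) (x i) = 0) : qT f (pv x) = 0 := by
  rw [qT_apply, bT_pv hf, Finset.prod_eq_zero (Finset.mem_univ i) h, mul_zero]

/-- The rank one operators at pure vectors. -/
theorem ten_r1 (u v : ι → W F k) (y : VI F ι k) :
    ten (fun i => r1 hf (u i) (v i)) y = bT f y (pv v) • pv u := by
  have e : ten (fun i => r1 hf (u i) (v i)) = ((bT f).flip (pv v)).smulRight (pv u) := ext_pv fun z => by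
    rw [ten_pv, LinearMap.smulRight_apply]
    show _ = bT f (pv z) (pv v) • pv u
    rw [bT_pv hf]
    funext c
    simp [pv, r1_apply, Finset.prod_mul_distrib]
  rw [e]
  rfl

omit h2 in
theorem r1_self (e : W F k) : r1 hf e e = sq1 hf e := rfl

omit h2 in
theorem r1_sub (e a : W F k) : r1 hf e a - r1 hf a e = nn hf e a := rfl

/-- A monomial with one skew slot is a Siegel displacement. -/
theorem ten_root (x : ι → W F k) (p : ι) (a : W F k) (y : VI F ι k) :
    ten (fun i => if i = p then nn hf (x p) a else sq1 hf (x i)) y =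
      bT f y (pv (Function.update x p a)) • pv x - bT f y (pv x) • pv (Function.update x p a) := by
  set R : ι → Module.End F (W F k) := fun i => sq1 hf (x i) with hR
  have e : ∀ Z, (fun i => if i = p then Z else sq1 hf (x i)) = Function.update R p Z := fun Z => funext fun i => by
    by_cases h : i = p
    · subst h; simp
    · simp [hR, h]
  have e' : ∀ u v : W F k, Function.update R p (r1 hf u v) =
      fun i => r1 hf (Function.update x p u i) (Function.update x p v i) := fun u v => funext fun i => by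
    by_cases h : i = p
    · subst h; simp
    · simp [hR, h, r1_self hf]
  have h := congrArg (fun T : Module.End F (VI F ι k) => T y)
    (ten_update_add R p (nn hf (x p) a) (r1 hf a (x p)))
  simp only [← r1_sub hf, sub_add_cancel, LinearMap.add_apply] at h
  rw [e, ← r1_sub hf, eq_sub_iff_add_eq.2 h.symm, e', e', ten_r1 hf h2, ten_r1 hf h2, Function.update_eq_self]

end Form

/-- All multiples of a Siegel displacement lie in a group. -/
def SgAll (f : W F k → W F k → F) (M : Subgroup (orth (qT f : QuadraticForm F (VI F ι k))))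
    (U X : VI F ι k) : Prop :=
  ∀ t : F, ∃ (hu : qT f U = 0) (hX : polar (qT f) U (t • X) = 0), siegel (qT f) U (t • X) hu hX ∈ M

variable {M : Subgroup (orth (qT f : QuadraticForm F (VI F ι k)))}

/-- The Siegel displacements at a singular vector. -/
def sgSp (f : W F k → W F k → F) (M : Subgroup (orth (qT f : QuadraticForm F (VI F ι k)))) (U : VI F ι k)
    (hu : qT f U = 0) : Submodule F (VI F ι k) where
  carrier := {X | SgAll f M U X}
  zero_mem' t := ⟨hu, by rw [smul_zero, polar_zero_right], by
    rw [siegel_eq_one hu _ (a := 0) (by rw [smul_zero, zero_smul])]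
    exact M.one_mem⟩
  add_mem' {X Y} hX hY t := by
    obtain ⟨_, h1, m1⟩ := hX t
    obtain ⟨_, h2, m2⟩ := hY t
    refine ⟨hu, by rw [smul_add, polar_add_right, h1, h2, add_zero], ?_⟩
    have := M.mul_mem m1 m2
    rw [OrthUnitaryRefl.siegel_mul hu h1 h2] at this
    simpa only [smul_add] using this
  smul_mem' c X hX t := by
    obtain ⟨hu', h1, m1⟩ := hX (t * c)
    refine ⟨hu, by rw [smul_smul]; exact h1, ?_⟩
    simpa only [smul_smul] using m1

/-- Conjugating by a Siegel element fixing the centre. -/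
theorem sg_derive {U X U' X' : VI F ι k} (hu : qT f U = 0) (h : SgAll f M U X) (h' : SgAll f M U' X')
    (hX' : qT f X' = 0) (h1 : polar (qT f) U' U = 0) (h2 : polar (qT f) X' U = 0) :
    polar (qT f) U' X • X' - polar (qT f) X' X • U' ∈ sgSp f M U hu := by
  obtain ⟨hu', hx', m'⟩ := h' 1
  have hc : X + (polar (qT f) U' X • X' - polar (qT f) X' X • U') ∈ sgSp f M U hu := fun t => by
    obtain ⟨_, hX, m⟩ := h t
    have hk := M.mul_mem (M.mul_mem m' m) (M.inv_mem m')
    rw [conj_siegel] at hk
    have e1 : (siegel (qT f) U' ((1 : F) • X') hu' hx').1 U = U := by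
      rw [siegel_apply]
      simp [h1, h2]
    have e2 : (siegel (qT f) U' ((1 : F) • X') hu' hx').1 (t • X) =
        t • (X + (polar (qT f) U' X • X' - polar (qT f) X' X • U')) := by
      rw [siegel_apply]
      simp only [one_smul, hX', zero_mul, add_zero, polar_smul_right, smul_eq_mul]
      module
    simp only [e1, e2] at hk
    refine ⟨hu, ?_, hk⟩
    rw [← e1, ← e2, polar_orth, hX]
  simpa using (sgSp f M U hu).sub_mem hc h

section Full

variable (hf : Sym f) (h2 : (2 : F) ≠ 0)
include hf h2

/-- A space containing all singular vectors off a hyperplane at a singular vector is everything. -/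
theorem span_far (hk : 3 ≤ k) {x : W F k} (hx0 : x ≠ 0) (hx : f x x = 0) (S : Submodule F (W F k))
    (h : ∀ w, f w w = 0 → f w x ≠ 0 → w ∈ S) (w : W F k) : w ∈ S := by
  obtain ⟨x', hx', hxx'⟩ := OTensor.exists_partner hf h2 hx0 hx
  have H : Hyp f x x' := ⟨hx, hx', hxx'⟩
  have h0 : x' ∈ S := h x' hx' (by rw [OTensor.symm hf, hxx']; exact one_ne_zero)
  have hd : ∀ d, f d x = 0 → f d x' = 0 → d ∈ S ∧ (f d d • x) ∈ S := by
    intro d d1 d2
    have hs : ∀ c : F, c * c = 1 → x' + c • d + (-(2 : F)⁻¹ * f d d) • x ∈ S := fun c hc => h _ (by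
        simp only [hf.add_left, hf.add_right, hf.smul_left, smul_right' hf, hx, hx', OTensor.symm hf x' x, hxx', d1,
          d2, OTensor.symm hf x d, OTensor.symm hf x' d]
        field_simp
        linear_combination 4 * f d d * hc) (by
      rw [hf.add_left, hf.add_left, hf.smul_left, hf.smul_left, hx, d1, OTensor.symm hf, hxx']
      simp)
    have ha := hs 1 (one_mul 1)
    have hb := hs (-1) (by ring)
    have hdS : d ∈ S := by
      have := S.smul_mem (2 : F)⁻¹ (S.sub_mem ha hb)
      convert this using 1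
      match_scalars <;> field_simp <;> ring
    refine ⟨hdS, ?_⟩
    have := S.smul_mem (-(2 : F)) (S.sub_mem (S.sub_mem ha h0) (S.smul_mem (1 : F) hdS))
    convert this using 1
    match_scalars <;> field_simp <;> ring
  obtain ⟨u, u1, u2, u3⟩ := OTensor.exists_aniso hf h2 hk H
  have hxS : x ∈ S := by
    have := S.smul_mem (f u u)⁻¹ (hd u u1 u2).2
    rwa [inv_smul_smul₀ u3] at this
  obtain ⟨p1, p2⟩ := OTensor.proj0_perp hf H w
  rw [OTensor.decomp hf x x' w]
  exact S.add_mem (S.add_mem (S.smul_mem _ hxS) (S.smul_mem _ h0)) (hd _ p1 p2).1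

/-- Pure vectors with one prescribed slot. -/
theorem pv_mem_of_far (hk : 3 ≤ k) {x : ι → W F k} (hx0 : ∀ i, x i ≠ 0) (hx : ∀ i, f (x i) (x i) = 0)
    (G : Submodule F (VI F ι k)) (p : ι) (c : W F k)
    (h : ∀ y : ι → W F k, y p = c → (∀ i, i ≠ p → f (y i) (y i) = 0 ∧ f (y i) (x i) ≠ 0) → pv y ∈ G)
    (w : ι → W F k) (hw : w p = c) : pv w ∈ G := by
  have key : ∀ (s : Finset ι) (y : ι → W F k), y p = c →
      (∀ i, i ≠ p → i ∉ s → f (y i) (y i) = 0 ∧ f (y i) (x i) ≠ 0) → pv y ∈ G := by
    intro s
    induction s using Finset.induction_on with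
    | empty => exact fun y hy hy' => h y hy fun i hi => hy' i hi (Finset.notMem_empty i)
    | insert i s hi ih =>
      intro y hy hy'
      by_cases hip : i = p
      · exact ih y hy fun j hj hjs => hy' j hj (by simp [hjs, hip ▸ hj])
      let L : W F k →ₗ[F] VI F ι k :=
        { toFun := fun u => pv (Function.update y i u)
          map_add' := fun u w => pv_update_add y i u w
          map_smul' := fun c u => pv_update_smul y i c u }
      have := span_far hf h2 hk (hx0 i) (hx i) (G.comap L) (fun u u1 u2 =>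
        ih _ (by rw [Function.update_of_ne (Ne.symm hip), hy]) fun j hj hjs => by
          by_cases hji : j = i
          · subst hji; rw [Function.update_self]; exact ⟨u1, u2⟩
          · rw [Function.update_of_ne hji]; exact hy' j hj (by simp [hji, hjs])) (y i)
      simpa [L] using this
  exact key Finset.univ w hw fun i _ hi => absurd (Finset.mem_univ i) hi

/-- Root displacements at all pure singular vectors give the full radical at each. -/
theorem sg_pure (hk : 3 ≤ k) (hn : ∀ p : ι, ∃ r, r ≠ p)
    (hroot : ∀ (x : ι → W F k), (∀ i, x i ≠ 0) → (∀ i, f (x i) (x i) = 0) → ∀ p a, f a (x p) = 0 →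
      SgAll f M (pv x) (pv (Function.update x p a)))
    {x : ι → W F k} (hx0 : ∀ i, x i ≠ 0) (hx : ∀ i, f (x i) (x i) = 0) (p : ι) {a : W F k}
    (ha : f a (x p) = 0) (hu : qT f (pv x) = 0) (w : ι → W F k) (hw : w p = a) :
    pv w ∈ sgSp f M (pv x) hu := by
  have hne : ∀ y : ι → W F k, ∀ p : ι, y p = x p → (∀ i, i ≠ p → f (y i) (x i) ≠ 0) → ∀ i, y i ≠ 0 :=
    fun y p hyp hy i h0 => by
    by_cases hi : i = p
    · subst hi; exact hx0 i (by rw [← hyp, h0])
    · exact hy i hi (by rw [h0, hf.zero_left])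
  have hsg : ∀ y : ι → W F k, ∀ p : ι, y p = x p → (∀ i, i ≠ p → f (y i) (y i) = 0 ∧ f (y i) (x i) ≠ 0) →
      ∀ a, f a (x p) = 0 → SgAll f M (pv y) (pv (Function.update y p a)) := fun y p hyp hy a ha =>
    hroot y (hne y p hyp fun i hi => (hy i hi).2) (fun i => by
      by_cases hi : i = p
      · subst hi; rw [hyp, hx]
      · exact (hy i hi).1) p a (by rw [hyp]; exact ha)
  -- the prescribed slot carries the centre
  have first : ∀ (p : ι) (w : ι → W F k), w p = x p → pv w ∈ sgSp f M (pv x) hu := by
    intro p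
    obtain ⟨x', hx', hxx'⟩ := OTensor.exists_partner hf h2 (hx0 p) (hx p)
    obtain ⟨a₀, a1, -, a3⟩ := OTensor.exists_aniso hf h2 hk (⟨hx p, hx', hxx'⟩ : Hyp f (x p) x')
    refine pv_mem_of_far hf h2 hk hx0 hx _ p (x p) fun y hyp hy => ?_
    obtain ⟨r, hr⟩ := hn p
    have hd := sg_derive hu (hroot x hx0 hx p a₀ a1) (hsg y p hyp hy a₀ a1)
      (qT_pv hf h2 (i := r) (by rw [Function.update_of_ne hr]; exact (hy r hr).1))
      (by rw [qT_polar hf h2, bT_pv hf]; exact Finset.prod_eq_zero (Finset.mem_univ p) (by rw [hyp, hx]))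
      (by rw [qT_polar hf h2, bT_pv hf]; exact Finset.prod_eq_zero (Finset.mem_univ p) (by rw [Function.update_self, a1]))
    have e0 : polar (qT f) (pv y) (pv (Function.update x p a₀)) = 0 := by
      rw [qT_polar hf h2, bT_pv hf]
      exact Finset.prod_eq_zero (Finset.mem_univ p) (by rw [Function.update_self, hyp, OTensor.symm hf, a1])
    have e1 : polar (qT f) (pv (Function.update y p a₀)) (pv (Function.update x p a₀)) ≠ 0 := by
      rw [qT_polar hf h2, bT_pv hf, Finset.prod_ne_zero_iff]
      intro i _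
      by_cases hi : i = p
      · subst hi; rwa [Function.update_self, Function.update_self]
      · rw [Function.update_of_ne hi, Function.update_of_ne hi]; exact (hy i hi).2
    rw [e0, zero_smul, zero_sub] at hd
    have := (Submodule.smul_mem_iff _ e1).1 ((Submodule.neg_mem_iff _).1 hd)
    exact this
  obtain ⟨x', hx', hxx'⟩ := OTensor.exists_partner hf h2 (hx0 p) (hx p)
  obtain ⟨r, hr⟩ := hn p
  refine pv_mem_of_far hf h2 hk hx0 hx _ p a (fun y hyp hy => ?_) w hw
  set y₀ := Function.update y p (x p) with hy₀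
  have hy₀p : y₀ p = x p := Function.update_self _ _ _
  have hy₀' : ∀ i, i ≠ p → f (y₀ i) (y₀ i) = 0 ∧ f (y₀ i) (x i) ≠ 0 := fun i hi => by
    rw [hy₀, Function.update_of_ne hi]; exact hy i hi
  have hd := sg_derive hu (first r (Function.update x p x') (Function.update_of_ne hr _ _))
    (hsg y₀ p hy₀p hy₀' a ha) (qT_pv hf h2 (i := r) (by rw [Function.update_of_ne hr]; exact (hy₀' r hr).1))
    (by rw [qT_polar hf h2, bT_pv hf]; exact Finset.prod_eq_zero (Finset.mem_univ p) (by rw [hy₀p, hx]))
    (by rw [qT_polar hf h2, bT_pv hf]; exact Finset.prod_eq_zero (Finset.mem_univ p) (by rw [Function.update_self, ha]))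
  have e1 : polar (qT f) (pv y₀) (pv (Function.update x p x')) ≠ 0 := by
    rw [qT_polar hf h2, bT_pv hf, Finset.prod_ne_zero_iff]
    intro i _
    by_cases hi : i = p
    · subst hi; rw [hy₀p, Function.update_self, hxx']; exact one_ne_zero
    · rw [Function.update_of_ne hi]; exact (hy₀' i hi).2
  have := (sgSp f M (pv x) hu).add_mem hd ((sgSp f M (pv x) hu).smul_mem
    (polar (qT f) (pv (Function.update y₀ p a)) (pv (Function.update x p x'))) (first p y₀ hy₀p))
  rw [sub_add_cancel, Submodule.smul_mem_iff _ e1] at this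
  rwa [hy₀, Function.update_idem, ← hyp, Function.update_eq_self] at this

/-- The full radical at a pure singular vector. -/
theorem full_pure (hk : 3 ≤ k) (hn : ∀ p : ι, ∃ r, r ≠ p) (p₀ : ι)
    (hroot : ∀ (x : ι → W F k), (∀ i, x i ≠ 0) → (∀ i, f (x i) (x i) = 0) → ∀ p a, f a (x p) = 0 →
      SgAll f M (pv x) (pv (Function.update x p a)))
    {e e' : W F k} (H : Hyp f e e') : OmegaStabTools.Full M (pv fun _ : ι => e) := by
  have hu : qT f (pv fun _ : ι => e) = 0 := qT_pv hf h2 (i := p₀) H.ee
  set G := sgSp f M (pv fun _ : ι => e) hu with hG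
  have hpure : ∀ z : ι → W F k, pv z - (∏ i, f e (z i)) • pv (fun _ => e') ∈ G := by
    intro z
    have key : ∀ s : Finset ι, pv z - (∏ i ∈ s, f e (z i)) • pv (s.piecewise (fun _ => e') z) ∈ G := by
      intro s
      induction s using Finset.induction_on with
      | empty => simp
      | insert i s hi ih =>
        set y := s.piecewise (fun _ => e') z with hy
        have hyi : y i = z i := Finset.piecewise_eq_of_notMem _ _ _ hi
        have hm := sg_pure hf h2 hk hn hroot (fun _ => H.ne hf) (fun _ => H.ee) i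
          (a := z i - f e (z i) • e') (by
            rw [sub_left' hf, hf.smul_left, OTensor.symm hf e' e, H.one, mul_one, OTensor.symm hf, sub_self]) hu
          (Function.update y i (z i - f e (z i) • e')) (Function.update_self _ _ _)
        have e1 : pv (Function.update y i (z i - f e (z i) • e')) =
            pv y - f e (z i) • pv ((insert i s).piecewise (fun _ => e') z) := by
          rw [Finset.piecewise_insert, sub_eq_add_neg (z i), ← neg_smul, pv_update_add, pv_update_smul, ← hyi,
            Function.update_eq_self, neg_smul, ← sub_eq_add_neg]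
        rw [e1] at hm
        have := G.add_mem ih (G.smul_mem (∏ j ∈ s, f e (z j)) hm)
        convert this using 1
        rw [Finset.prod_insert hi]
        module
    simpa using key Finset.univ
  intro w _ hw
  let Ψ : VI F ι k →ₗ[F] VI F ι k ⧸ G := G.mkQ.comp
    (LinearMap.id - (bT f (pv fun _ : ι => e)).smulRight (pv fun _ => e'))
  have hΨ : Ψ = 0 := ext_pv fun z => by
    rw [LinearMap.zero_apply]
    refine (Submodule.Quotient.mk_eq_zero G).2 ?_
    simp only [LinearMap.sub_apply, LinearMap.id_coe, id_eq, LinearMap.smulRight_apply, bT_pv hf]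
    exact hpure z
  have := (Submodule.Quotient.mk_eq_zero G).1 (LinearMap.congr_fun hΨ w)
  simp only [LinearMap.sub_apply, LinearMap.id_coe, id_eq, LinearMap.smulRight_apply, ← qT_polar hf h2, hw,
    zero_smul, sub_zero] at this
  obtain ⟨_, _, hm⟩ := this 1
  simpa only [one_smul] using hm

end Full

variable [Fintype F] {N : Subgroup (GL (ι → Fin k) F)}

/-- A monomial element with a skew slot forces the commutator group of the isometries. -/
theorem omega_of_mono (hS : Std f) (hM : Ovr f N) (l : ι) {e : W F k} (he0 : e ≠ 0) (he : f e e = 0)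
    (X : ι → Module.End F (W F k)) (hXl : X l = sq1 hS.sym e)
    (hX : ∀ i, X i = 1 ∨ (∃ w, w ≠ 0 ∧ f w w = 0 ∧ X i = sq1 hS.sym w) ∨
      ∃ v w, nn hS.sym v w ≠ 0 ∧ X i = nn hS.sym v w)
    (hB : ∃ i v w, nn hS.sym v w ≠ 0 ∧ X i = nn hS.sym v w)
    (hel : ∀ t : F, El N (t • ten X)) : omV f ≤ N := by
  classical
  obtain ⟨e', he', h1⟩ := OTensor.exists_partner hS.sym hS.two he0 he
  have H : Hyp f e e' := ⟨he, he', h1⟩
  obtain ⟨a, a1, a2, a3⟩ := OTensor.exists_aniso hS.sym hS.two hS.hk H
  have hlB : ¬∃ v w, nn hS.sym v w ≠ 0 ∧ X l = nn hS.sym v w := fun ⟨v, w, _, h⟩ =>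
    sq_ne_nn hS.sym hS.two H v w (hXl.symm.trans h)
  set B := Finset.univ.filter fun i => ∃ v w, nn hS.sym v w ≠ 0 ∧ X i = nn hS.sym v w with hBdef
  set A := Finset.univ.filter fun i => i ≠ l ∧ i ∉ B ∧ X i ≠ 1 with hAdef
  obtain ⟨j, hj⟩ := hB
  have hjB : j ∈ B := Finset.mem_filter.2 ⟨Finset.mem_univ _, hj⟩
  have hlB' : l ∉ B := fun h => hlB (Finset.mem_filter.1 h).2
  have hone := step_one hS hM H a1 a2 a3 (X := X) (l := l) A B (by simp [hAdef]) hlB'
    (fun i hi => (Finset.mem_filter.1 hi).2.2.1) ⟨j, hjB⟩ he0 he hXl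
    (fun i hi => by
      obtain ⟨-, hiB, hi1⟩ := (Finset.mem_filter.1 hi).2
      rcases hX i with h | h | h
      · exact absurd h hi1
      · exact h
      · exact absurd (by rw [hBdef, Finset.mem_filter]; exact ⟨Finset.mem_univ _, h⟩) hiB)
    (fun i hi => (Finset.mem_filter.1 hi).2)
    (fun i hil hiA hiB => by_contra fun h => hiA (Finset.mem_filter.2 ⟨Finset.mem_univ _, hil, hiB, h⟩)) hel
  have hn : ∀ p : ι, ∃ r, r ≠ p := fun p => by
    by_cases h : l = p
    · exact ⟨j, fun e => hlB' (by rwa [h, ← e])⟩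
    · exact ⟨l, h⟩
  have hall := oneAt_all hS hM H a1 a2 a3 (b := l) (Q := A ∪ B) (by simp [hlB', hAdef])
    ⟨j, Finset.mem_union_right _ hjB⟩ hone
  set M := N.comap (OmegaMaxGlue.glHom (qT f : QuadraticForm F (VI F ι k))) with hMdef
  have hroot : ∀ (x : ι → W F k), (∀ i, x i ≠ 0) → (∀ i, f (x i) (x i) = 0) → ∀ p a, f a (x p) = 0 →
      SgAll f M (pv x) (pv (Function.update x p a)) := by
    intro x hx0 hx p a ha
    have hT : Elm N fun i => if i = p then nn hS.sym (x p) a else sq1 hS.sym (x i) := by
      refine Elm.replace p ?_ (fun i hi Z _ hZi hZ => ?_) (hall p (x p) a)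
      · simp
      · simp only [if_neg hi]
        exact elm_to_sq hS hM i (H.ne hS.sym) H.ee (hx0 i) (hx i) (by rw [hZi]; simp [hi]) hZ
    intro t
    obtain ⟨r, hr⟩ := hn p
    have hqW : qT f (pv (Function.update x p a)) = 0 :=
      qT_pv hS.sym hS.two (i := r) (by rw [Function.update_of_ne hr, hx])
    have hp : polar (qT f) (pv x) (t • pv (Function.update x p a)) = 0 := by
      rw [polar_smul_right, qT_polar hS.sym hS.two, bT_pv hS.sym, Finset.prod_eq_zero (Finset.mem_univ p)
        (by rw [Function.update_self, OTensor.symm hS.sym, ha]), smul_zero]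
    refine ⟨qT_pv hS.sym hS.two (i := p) (hx p), hp, ?_⟩
    obtain ⟨g, hg, hgT⟩ := hT (-t)
    suffices OmegaMaxGlue.glHom (qT f) (siegel (qT f) (pv x) (t • pv (Function.update x p a))
        (qT_pv hS.sym hS.two (i := p) (hx p)) hp) = g by
      show _ ∈ N
      rwa [this]
    refine lg_injective (LinearMap.ext fun y => ?_)
    rw [hgT, OmegaMaxGlue.glHom_apply, lg_apply, toGL_mulVec, siegel_apply, LinearMap.add_apply,
      Module.End.one_apply, LinearMap.smul_apply, ten_root hS.sym hS.two, QuadraticMap.map_smul, hqW,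
      polar_smul_left, qT_polar hS.sym hS.two, qT_polar hS.sym hS.two, bT_symm hS.sym y, bT_symm hS.sym y]
    simp only [smul_eq_mul, mul_zero, zero_mul, add_zero]
    module
  have H' : Hyp f e' e := ⟨he', he, by rw [OTensor.symm hS.sym, h1]⟩
  have hfin : 5 ≤ Module.finrank F (VI F ι k) := by
    obtain ⟨r, hr⟩ := hn l
    have h2 : 2 ≤ Fintype.card ι := Fintype.one_lt_card_iff.2 ⟨r, l, hr⟩
    rw [Module.finrank_fintype_fun_eq_card, Fintype.card_fun, Fintype.card_fin]
    have h3 : 9 ≤ k ^ 2 := by have := Nat.pow_le_pow_left hS.hk 2; simpa using this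
    have h4 : k ^ 2 ≤ k ^ Fintype.card ι := Nat.pow_le_pow_right (by have := hS.hk; omega) h2
    omega
  have hcomm : commutator (orth (qT f : QuadraticForm F (VI F ι k))) ≤ M := by
    refine OmegaStabTools.commutator_le_of_full (qT_nd hS.sym hS.two) hfin (u := pv fun _ => e)
      (f := pv fun _ => e') (qT_pv hS.sym hS.two (i := l) he) (qT_pv hS.sym hS.two (i := l) he') ?_
      (full_pure hS.sym hS.two hS.hk hn l hroot H) (full_pure hS.sym hS.two hS.hk hn l hroot H')
    rw [qT_polar hS.sym hS.two, bT_pv hS.sym, Finset.prod_eq_one fun i _ => h1]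
    exact one_ne_zero
  refine (Subgroup.commutator_mono (isoV_le_range hS.sym hS.two) (isoV_le_range hS.sym hS.two)).trans ?_
  rw [MonoidHom.range_eq_map, ← Subgroup.map_commutator, ← commutator_def, Subgroup.map_le_iff_le_comap]
  exact hcomm

end Cfsg.Agent.OWreath
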