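import Cfsg.Agent.Lib.OWreathBasis

/-!
Monomial unipotent elements of an overgroup: changing one slot, cutting down to a single skew slot and spreading
the support over all positions.
-/

set_option autoImplicit false
set_option linter.unusedSectionVars false

namespace Cfsg.Agent.OWreath

open Cfsg.Agent.OTensor (Sym Hyp nn sq1 sie proj0 nn_apply sq1_apply smul_right' neg_left' sub_left')

variable {F : Type*} [Field F] {k : ℕ} {f : W F k → W F k → F}

section One

variable (hf : Sym f)
include hf

theorem sq1_smul_climb (c : F) (w : W F k) : sq1 hf (c • w) = (c * c) • sq1 hf w :=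
  LinearMap.ext fun u => by
    simp only [sq1_apply, LinearMap.smul_apply, smul_right' hf, smul_smul]
    congr 1; ring

/-- An isometry moves the rank-one operators. -/
theorem iso_conj_sq1 {g : GL (Fin k) F} (hg : g ∈ isoW f) (w : W F k) :
    lg g * sq1 hf w * lg g⁻¹ = sq1 hf (lg g w) :=
  LinearMap.ext fun u => by
    rw [Module.End.mul_apply, Module.End.mul_apply, sq1_apply, sq1_apply, map_smul, ← hg (lg g⁻¹ u) w, lg_apply_inv]

theorem sq_ne_nn (h2 : (2 : F) ≠ 0) {e e' : W F k} (H : Hyp f e e') (v w : W F k) : sq1 hf e ≠ nn hf v w :=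
  fun h => by
    have h1 := OTensor.nn_skew hf v w e' e'
    rw [← h, sq1_apply, hf.smul_left, smul_right' hf, OTensor.symm hf e' e, H.one] at h1
    exact h2 (by linear_combination h1)

theorem sq1_ne_zero {e e' : W F k} (H : Hyp f e e') : sq1 hf e ≠ 0 := fun h => by
  have h1 := congrArg (fun T : Module.End F (W F k) => f (T e') e') h
  simp only [sq1_apply, hf.smul_left, OTensor.symm hf e' e, H.one, LinearMap.zero_apply, hf.zero_left, mul_one] at h1
  exact one_ne_zero h1

/-- A property of singular vectors closed under Siegel transformations and scaling holds at all of them. -/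
theorem sing_move (h2 : (2 : F) ≠ 0) (hk : 3 ≤ k) {P : W F k → Prop}
    (hsm : ∀ (c : F) w, c ≠ 0 → P w → P (c • w))
    (hsie : ∀ z d w, f z z = 0 → f d z = 0 → P w → P (sie hf z d w)) {w w' : W F k} (hw0 : w ≠ 0) (hw : f w w = 0)
    (hw'0 : w' ≠ 0) (hw' : f w' w' = 0) (h : P w) : P w' := by
  have hop : ∀ z w w', f z z = 0 → f w w = 0 → f w' w' = 0 → f w z = 1 → f w' z = 1 → P w → P w' := by
    intro z w w' hz hw hw' h1 h1' h
    have hd : f (w - w') z = 0 := by rw [sub_left' hf, h1, h1', sub_self]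
    have := hsie z (w - w') w hz hd h
    convert this using 1
    rw [OTensor.sie_apply hf z (w - w') w hz hd, h1]
    simp only [hf.sub_right, sub_left' hf, hw, hw', OTensor.symm hf w' w]
    match_scalars <;> field_simp <;> ring
  obtain ⟨z, hz, a, a'⟩ : ∃ z, f z z = 0 ∧ f w z ≠ 0 ∧ f w' z ≠ 0 := by
    obtain ⟨v, hv, hwv⟩ := OTensor.exists_partner hf h2 hw0 hw
    obtain ⟨v', hv', hwv'⟩ := OTensor.exists_partner hf h2 hw'0 hw'
    by_cases h1 : f w' v = 0
    swap
    · exact ⟨v, hv, by rw [hwv]; exact one_ne_zero, h1⟩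
    by_cases h1' : f w v' = 0
    swap
    · exact ⟨v', hv', h1', by rw [hwv']; exact one_ne_zero⟩
    by_cases h0 : f w w' = 0
    · refine ⟨v + v' + (-(f v v')) • w, ?_, ?_, ?_⟩
      · simp only [hf.add_left, hf.add_right, hf.smul_left, smul_right' hf, hv, hv', hw, OTensor.symm hf v' v,
          OTensor.symm hf v w, OTensor.symm hf v' w, hwv, h1']
        ring
      · simp [hf.add_right, hf.neg_right, smul_right' hf, hwv, h1', hw]
      · simp [hf.add_right, hf.neg_right, smul_right' hf, h1, hwv', OTensor.symm hf w' w, h0]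
    · have H : Hyp f w ((f w w')⁻¹ • w') := ⟨hw, by rw [hf.smul_left, smul_right' hf, hw', mul_zero, mul_zero],
        by rw [smul_right' hf, inv_mul_cancel₀ h0]⟩
      obtain ⟨u, u1, u2, u3⟩ := OTensor.exists_aniso hf h2 hk H
      set w₁ := (f w w')⁻¹ • w'
      have hc : -(2 : F)⁻¹ * f u u ≠ 0 := mul_ne_zero (neg_ne_zero.2 (inv_ne_zero h2)) u3
      have hu' : f w' u = 0 := by
        rw [OTensor.symm hf]
        rw [smul_right' hf] at u2
        exact (mul_eq_zero.1 u2).resolve_left (inv_ne_zero h0)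
      refine ⟨w + (-(2 : F)⁻¹ * f u u) • w₁ + u, ?_, ?_, ?_⟩
      · simp only [hf.add_left, hf.add_right, hf.smul_left, smul_right' hf, H.ee, H.ee', H.one,
          OTensor.symm hf w₁ w, u1, u2, OTensor.symm hf w u, OTensor.symm hf w₁ u]
        field_simp
        ring
      · rw [hf.add_right, hf.add_right, smul_right' hf, H.ee, H.one, OTensor.symm hf w u, u1, zero_add, mul_one,
          add_zero]
        exact hc
      · rw [hf.add_right, hf.add_right, smul_right' hf, smul_right' hf, hw', mul_zero, mul_zero, add_zero, hu',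
          add_zero, OTensor.symm hf]
        exact h0
  have hwz : f ((f w z)⁻¹ • w) z = 1 := by rw [hf.smul_left, inv_mul_cancel₀ a]
  have hwz' : f ((f w' z)⁻¹ • w') z = 1 := by rw [hf.smul_left, inv_mul_cancel₀ a']
  have := hop z _ _ hz (by rw [hf.smul_left, smul_right' hf, hw, mul_zero, mul_zero])
    (by rw [hf.smul_left, smul_right' hf, hw', mul_zero, mul_zero]) hwz hwz' (hsm _ _ (inv_ne_zero a) h)
  simpa [smul_smul, mul_inv_cancel₀ a'] using hsm (f w' z) _ a' this

/-- The partner of a rank-one slot: it commutes with it up to a scalar. -/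
def tOp (e e' a : W F k) : Module.End F (W F k) :=
  sq1 hf (e' + a + (-(2 : F)⁻¹ * f a a) • e) + sq1 hf (e' - a + (-(2 : F)⁻¹ * f a a) • e) - (2 : F) • sq1 hf e'

theorem tOp_sq (h2 : (2 : F) ≠ 0) {e e' a : W F k} (H : Hyp f e e') (a1 : f a e = 0) :
    tOp hf e e' a * sq1 hf e = (-(f a a)) • sq1 hf e ∧ sq1 hf e * tOp hf e e' a = (-(f a a)) • sq1 hf e := by
  have p1 : f (e' + a + (-(2 : F)⁻¹ * f a a) • e) e = 1 := by
    rw [hf.add_left, hf.add_left, hf.smul_left, H.ee, a1, OTensor.symm hf e' e, H.one]; ring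
  have p2 : f (e' - a + (-(2 : F)⁻¹ * f a a) • e) e = 1 := by
    rw [hf.add_left, sub_left' hf, hf.smul_left, H.ee, a1, OTensor.symm hf e' e, H.one]; ring
  have he : tOp hf e e' a e = (-(f a a)) • e := by
    simp only [tOp, LinearMap.sub_apply, LinearMap.add_apply, LinearMap.smul_apply, sq1_apply,
      OTensor.symm hf e (e' + a + _), OTensor.symm hf e (e' - a + _), p1, p2, H.one]
    match_scalars <;> field_simp <;> ring
  constructor
  · refine LinearMap.ext fun u => ?_
    rw [Module.End.mul_apply, sq1_apply, map_smul, he, LinearMap.smul_apply, sq1_apply, smul_comm]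
  · refine LinearMap.ext fun u => ?_
    rw [Module.End.mul_apply, sq1_apply, LinearMap.smul_apply, sq1_apply, smul_smul]
    congr 1
    simp only [tOp, LinearMap.sub_apply, LinearMap.add_apply, LinearMap.smul_apply, sq1_apply, sub_left' hf,
      hf.add_left, hf.smul_left, hf.add_right, hf.sub_right, smul_right' hf, H.ee, H.one, a1, OTensor.symm hf e' e]
    field_simp
    ring

theorem nn_sq1_right {e e' : W F k} (H : Hyp f e e') : nn hf e e' * sq1 hf e = sq1 hf e :=
  LinearMap.ext fun u => by
    rw [Module.End.mul_apply, sq1_apply, map_smul, nn_apply, H.one, H.ee]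
    simp

theorem nn_sq1_left {e e' : W F k} (H : Hyp f e e') : sq1 hf e * nn hf e e' = -sq1 hf e :=
  LinearMap.ext fun u => by
    simp [Module.End.mul_apply, sq1_apply, nn_apply, sub_left' hf, hf.smul_left, H.ee, OTensor.symm hf e' e, H.one]

end One

variable {ι : Type} [Fintype ι] [DecidableEq ι] {M : Subgroup (GL (ι → Fin k) F)}

/-- All multiples of a monomial unipotent element. -/
def Elm (M : Subgroup (GL (ι → Fin k) F)) (X : ι → Module.End F (W F k)) : Prop := ∀ t : F, El M (t • ten X)

theorem ten_mul_zero {X Y : ι → Module.End F (W F k)} (i : ι) (h : X i * Y i = 0) : ten X * ten Y = 0 := by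
  rw [ten_mul]; exact ten_eq_zero (i := i) h

theorem op_ten_op (p : ι) (P Q : Module.End F (W F k)) (X : ι → Module.End F (W F k)) :
    op p P * ten X * op p Q = ten (Function.update X p (P * X p * Q)) := by
  rw [op, op, ten_mul, ten_mul]
  congr 1
  funext i
  by_cases hi : i = p
  · subst hi; simp
  · simp [hi]

theorem Elm.smul_fun {X : ι → Module.End F (W F k)} {c : ι → F} (h : Elm M fun i => c i • X i)
    (hc : ∀ i, c i ≠ 0) : Elm M X := fun t => by
  have := h (t * (∏ i, c i)⁻¹)
  rwa [ten_smul_fun, smul_smul, mul_assoc, inv_mul_cancel₀ (Finset.prod_ne_zero_iff.2 fun i _ => hc i), mul_one]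
    at this

theorem Elm.of_eq {X Y : ι → Module.End F (W F k)} (h : Elm M X) (e : X = Y) : Elm M Y := e ▸ h

theorem Elm.smul {X : ι → Module.End F (W F k)} (p : ι) {c : F} (hc : c ≠ 0) (h : Elm M X) :
    Elm M (Function.update X p (c • X p)) := fun t => by
  rw [ten_update_smul, Function.update_eq_self, smul_smul]
  exact h _

/-- Changing slot after slot. -/
theorem Elm.replace {X Y : ι → Module.End F (W F k)} (p : ι) (hp : X p = Y p)
    (step : ∀ i, i ≠ p → ∀ Z : ι → Module.End F (W F k), Z p = X p → Z i = X i → Elm M Z →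
      Elm M (Function.update Z i (Y i)))
    (h : Elm M X) : Elm M Y := by
  have : ∀ s : Finset ι, Elm M (s.piecewise Y X) := by
    intro s
    induction s using Finset.induction_on with
    | empty => rwa [Finset.piecewise_empty]
    | insert i s hi ih =>
      rw [Finset.piecewise_insert]
      by_cases hip : i = p
      · subst hip
        rwa [← hp, show X i = s.piecewise Y X i from (Finset.piecewise_eq_of_notMem _ _ _ hi).symm,
          Function.update_eq_self]
      · refine step i hip _ ?_ (Finset.piecewise_eq_of_notMem _ _ _ hi) ih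
        by_cases hps : p ∈ s
        · rw [Finset.piecewise_eq_of_mem _ _ _ hps, hp]
        · rw [Finset.piecewise_eq_of_notMem _ _ _ hps]
  simpa using this Finset.univ

/-- The commutator of two monomial elements. -/
theorem Elm.comm {X Y : ι → Module.End F (W F k)} (hX : Elm M X) (hY : Elm M Y) (i j i' j' : ι)
    (a : X i * X i = 0) (b : Y j * Y j = 0) (c : X i' * Y i' * X i' = 0) (d : Y j' * X j' * Y j' = 0) (t : F) :
    El M (t • (ten (X * Y) - ten (Y * X))) := by
  have := (hX 1).comm (hY t) (by rw [one_smul, ten_mul_zero i a])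
    (by rw [smul_mul_smul_comm, ten_mul_zero j b, smul_zero])
    (by rw [one_smul, mul_smul_comm, smul_mul_assoc, ten_mul, ten_mul_zero (X := X * Y) i' c, smul_zero])
    (by rw [one_smul, smul_mul_assoc, ten_mul, smul_mul_smul_comm, ten_mul_zero (X := Y * X) j' d, smul_zero])
  rw [smul_sub]
  rwa [one_smul, mul_smul_comm, smul_mul_assoc, ten_mul, ten_mul] at this

/-- All monomials with one skew slot at a fixed singular vector and support. -/
def OneAt (M : Subgroup (GL (ι → Fin k) F)) (hS : Std f) (e : W F k) (b : ι) (Q : Finset ι) : Prop :=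
  ∀ v w, Elm M fun i => if i = b then nn hS.sym v w else if i ∈ Q then sq1 hS.sym e else 1

variable (hS : Std f) (hM : Ovr f M)
include hS hM

theorem elm_sie_conj {X : ι → Module.End F (W F k)} (p : ι) {e d : W F k} (he : f e e = 0) (hd : f d e = 0)
    (h : Elm M X) : Elm M (Function.update X p (sie hS.sym e d * X p * sie hS.sym e (-d))) := fun t => by
  have := (h t).conj (hM.sie_mem hS.sym hS.two p he hd)
  rwa [opGL_inv, lg_opGL, lg_opGL, lg_sieW, lg_sieW_inv, mul_smul_comm, smul_mul_assoc, op_ten_op] at this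

/-- The operators allowed at a slot, given a square-zero slot elsewhere. -/
def slotSp (X : ι → Module.End F (W F k)) (p q : ι) (hq : q ≠ p)
    (h0 : X q * X q = 0) : Submodule F (Module.End F (W F k)) where
  carrier := {Z | Elm M (Function.update X p Z)}
  zero_mem' t := by rw [ten_eq_zero (i := p) (Function.update_self _ _ _), smul_zero]; exact El.zero
  add_mem' {A B} hA hB t := by
    rw [ten_update_add, smul_add]
    exact (hA t).add (hB t) (by
      rw [smul_mul_smul_comm, ten_mul_zero q (by rw [Function.update_of_ne hq, Function.update_of_ne hq, h0]),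
        smul_zero])
  smul_mem' c A hA t := by rw [ten_update_smul, smul_smul]; exact hA _

theorem elm_to_sq {X : ι → Module.End F (W F k)} (p : ι) {w w' : W F k} (hw0 : w ≠ 0) (hw : f w w = 0)
    (hw'0 : w' ≠ 0) (hw' : f w' w' = 0) (hp : X p = sq1 hS.sym w) (h : Elm M X) :
    Elm M (Function.update X p (sq1 hS.sym w')) := by
  refine sing_move hS.sym hS.two hS.hk (P := fun z => Elm M (Function.update X p (sq1 hS.sym z)))
    (fun c z hc hz => ?_) (fun z d v hz hd hv => ?_) hw0 hw hw'0 hw' (by rwa [← hp, Function.update_eq_self])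
  · have := hz.smul p (mul_ne_zero hc hc)
    rwa [Function.update_idem, Function.update_self, ← sq1_smul_climb] at this
  · have := elm_sie_conj hS hM p hz hd hv
    rw [Function.update_idem, Function.update_self, ← lg_sieW hS.sym hS.two hz hd,
      ← lg_sieW_inv hS.sym hS.two hz hd, iso_conj_sq1 hS.sym (sieW_iso hS.sym hS.two hz hd), lg_sieW] at this
    exact this

variable [Fintype F]

theorem elm_to_nn {X : ι → Module.End F (W F k)} (p q : ι) (hq : q ≠ p) (h0 : X q * X q = 0) {v w : W F k}
    (hne : nn hS.sym v w ≠ 0) (hp : X p = nn hS.sym v w) (h : Elm M X) (v' w' : W F k) :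
    Elm M (Function.update X p (nn hS.sym v' w')) :=
  OTensor.skew_full hS.sym hS.two hS.hk hS.sane (slotSp X p q hq h0) (fun e d he hd Z hZ => by
      have := elm_sie_conj hS hM p he hd hZ
      rwa [Function.update_idem, Function.update_self] at this)
    (Z := nn hS.sym v w) (show Elm M _ by rwa [← hp, Function.update_eq_self]) (OTensor.nn_skew hS.sym v w) hne v' w'

theorem elm_to_tOp {X : ι → Module.End F (W F k)} (p q : ι) (hq : q ≠ p) (h0 : X q * X q = 0) {w : W F k}
    (hw0 : w ≠ 0) (hw : f w w = 0) (hp : X p = sq1 hS.sym w) (h : Elm M X) {e e' a : W F k} (H : Hyp f e e')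
    (a1 : f a e = 0) (a2 : f a e' = 0) : Elm M (Function.update X p (tOp hS.sym e e' a)) := by
  have hsing : ∀ z, f z z = 0 → f z e = 1 → sq1 hS.sym z ∈ slotSp X p q hq h0 := fun z hz hze =>
    elm_to_sq hS hM p hw0 hw (fun hz0 => one_ne_zero (α := F) (by rw [← hze, hz0, hS.sym.zero_left])) hz hp h
  have h2 := hS.two
  refine Submodule.sub_mem (slotSp X p q hq h0) (Submodule.add_mem _ (hsing _ ?_ ?_) (hsing _ ?_ ?_))
    (Submodule.smul_mem _ _ (hsing e' H.ee' (by rw [OTensor.symm hS.sym, H.one])))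
  · simp only [hS.sym.add_left, hS.sym.add_right, hS.sym.smul_left, smul_right' hS.sym, H.ee, H.ee', H.one,
      OTensor.symm hS.sym e' e, a1, a2, OTensor.symm hS.sym e a, OTensor.symm hS.sym e' a]
    field_simp; ring
  · simp [hS.sym.add_left, hS.sym.smul_left, neg_left' hS.sym, H.ee, OTensor.symm hS.sym e' e, H.one, a1]
  · simp only [hS.sym.add_left, hS.sym.add_right, sub_left' hS.sym, hS.sym.sub_right, hS.sym.smul_left,
      smul_right' hS.sym, H.ee, H.ee', H.one,
      OTensor.symm hS.sym e' e, a1, a2, OTensor.symm hS.sym e a, OTensor.symm hS.sym e' a]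
    field_simp; ring
  · simp [hS.sym.add_left, sub_left' hS.sym, hS.sym.smul_left, neg_left' hS.sym, H.ee, OTensor.symm hS.sym e' e,
      H.one, a1]

omit [Fintype F] in
theorem cycle_mem {b r q : ι} (hbr : b ≠ r) (hbq : b ≠ q) (hrq : r ≠ q) :
    ∃ σ : Equiv.Perm ι, permGL σ ∈ M ∧ σ.symm r = b ∧ σ.symm q = r ∧ σ.symm b = q ∧
      ∀ i, i ≠ b → i ≠ r → i ≠ q → σ.symm i = i := by
  refine ⟨Equiv.swap b q * Equiv.swap q r * Equiv.swap b q * Equiv.swap q r, ?_, ?_, ?_, ?_, fun i hb hr hq => ?_⟩
  · have := hM.der _ (permGL_mem (Equiv.swap b q)) (permGL_iso hS.sym _) _ (permGL_mem (Equiv.swap q r))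
      (permGL_iso hS.sym _)
    have e : ∀ x y : ι, (permGL (Equiv.swap x y) : GL (ι → Fin k) F)⁻¹ = permGL (Equiv.swap x y) := fun x y =>
      inv_eq_of_mul_eq_one_right (by
        rw [permGL_mul, Equiv.swap_mul_self]; exact lg_injective (by rw [lg_permGL, permV_one, map_one]))
    rwa [e, e, permGL_mul, permGL_mul, permGL_mul] at this
  all_goals
    rw [Equiv.symm_apply_eq]
    simp only [Equiv.Perm.mul_apply, Equiv.swap_apply_def]
    split_ifs <;> grind

theorem elm_perm {X : ι → Module.End F (W F k)} {σ : Equiv.Perm ι} (hσ : permGL σ ∈ M) (h : Elm M X) :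
    Elm M fun i => X (σ.symm i) := fun t => by
  have := (h t).conj hσ
  rwa [lg_permGL, mul_smul_comm, smul_mul_assoc, permV_ten, mul_assoc, ← lg_permGL σ, lg_mul_inv, mul_one] at this

variable {e e' a : W F k} (H : Hyp f e e') (a1 : f a e = 0) (a2 : f a e' = 0) (a3 : f a a ≠ 0)
include H a1 a2 a3

theorem nn_ne {v : W F k} (hv : f v e = 0) (hv' : f v v ≠ 0) : nn hS.sym e v ≠ 0 := fun h => by
  have := nn_mul_nn hS.sym H.ee hv hv
  rw [h, zero_mul, eq_comm, smul_eq_zero] at this
  exact this.elim (neg_ne_zero.2 hv') (sq1_ne_zero hS.sym H)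

theorem hnn_ne : nn hS.sym e e' ≠ 0 := fun h => by
  have := nn_sq1_right hS.sym H
  rw [h, zero_mul] at this
  exact sq1_ne_zero hS.sym H this.symm

/-- Cutting down to one skew slot. -/
theorem step_one {X : ι → Module.End F (W F k)} {l : ι} (A B : Finset ι) (hlA : l ∉ A) (hlB : l ∉ B)
    (hAB : ∀ i ∈ A, i ∉ B) (hB : B.Nonempty) {w₀ : W F k} (w00 : w₀ ≠ 0) (w01 : f w₀ w₀ = 0)
    (hXl : X l = sq1 hS.sym w₀)
    (hA : ∀ i ∈ A, ∃ w, w ≠ 0 ∧ f w w = 0 ∧ X i = sq1 hS.sym w)
    (hB' : ∀ i ∈ B, ∃ v w, nn hS.sym v w ≠ 0 ∧ X i = nn hS.sym v w)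
    (h1 : ∀ i, i ≠ l → i ∉ A → i ∉ B → X i = 1) (hX : Elm M X) : OneAt M hS e l (A ∪ B) := by
  have hsq := sq_mul_sq hS.sym H.ee
  have hsq' := sq_mul_sq hS.sym H.ee'
  have he'0 : e' ≠ 0 := fun h => one_ne_zero (by rw [← H.one, h, hS.sym.zero_right])
  obtain ⟨T1, T2⟩ := tOp_sq hS.sym hS.two H a1
  let G : Module.End F (W F k) → Module.End F (W F k) → ι → Module.End F (W F k) := fun Zl Zs i =>
    if i = l then Zl else if i ∈ B then nn hS.sym e a else if i ∈ A then Zs else 1
  have mk : ∀ (z : W F k), z ≠ 0 → f z z = 0 → ∀ Zs, (∀ i ∈ A, ∀ Z : ι → Module.End F (W F k),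
      Z l = sq1 hS.sym z → Z i = X i → Elm M Z → Elm M (Function.update Z i Zs)) → Elm M (G (sq1 hS.sym z) Zs) := by
    intro z hz0 hz Zs hZs
    refine Elm.replace (X := Function.update X l (sq1 hS.sym z)) l (by simp [G]) (fun i hi Z hl hiZ hZ => ?_)
      (elm_to_sq hS hM l w00 w01 hz0 hz hXl hX)
    rw [Function.update_self] at hl
    rw [Function.update_of_ne hi] at hiZ
    simp only [G, if_neg hi]
    by_cases hiB : i ∈ B
    · obtain ⟨v, w, hne, e1⟩ := hB' i hiB
      rw [if_pos hiB]
      exact elm_to_nn hS hM i l (Ne.symm hi) (by rw [hl, sq_mul_sq hS.sym hz]) hne (hiZ.trans e1) hZ _ _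
    · rw [if_neg hiB]
      by_cases hiA : i ∈ A
      · rw [if_pos hiA]; exact hZs i hiA Z hl hiZ hZ
      · rw [if_neg hiA, ← h1 i hi hiA hiB, ← hiZ, Function.update_eq_self]; exact hZ
  have hP : Elm M (G (sq1 hS.sym e) (sq1 hS.sym e)) := mk e (H.ne hS.sym) H.ee _ fun i hiA Z hl hiZ hZ => by
    obtain ⟨w, hw0, hw, e1⟩ := hA i hiA
    exact elm_to_sq hS hM i hw0 hw (H.ne hS.sym) H.ee (hiZ.trans e1) hZ
  have hQ : Elm M (G (sq1 hS.sym e') (tOp hS.sym e e' a)) := mk e' he'0 H.ee' _ fun i hiA Z hl hiZ hZ => by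
    obtain ⟨w, hw0, hw, e1⟩ := hA i hiA
    exact elm_to_tOp hS hM i l (fun h => hlA (h ▸ hiA)) (by rw [hl, hsq']) hw0 hw (hiZ.trans e1) hZ H a1 a2
  obtain ⟨j, hj⟩ := hB
  have hjl : j ≠ l := fun h => hlB (h ▸ hj)
  have hnn2 := nn_mul_nn hS.sym H.ee a1 a1
  have key : ∀ Zs Zs', G (sq1 hS.sym e) Zs * G (sq1 hS.sym e') Zs' =
      fun i => if i = l then sq1 hS.sym e * sq1 hS.sym e' else if i ∈ B then (-(f a a)) • sq1 hS.sym e
        else if i ∈ A then Zs * Zs' else 1 := fun Zs Zs' => funext fun i => by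
    rw [Pi.mul_apply]
    simp only [G]
    split_ifs <;> first | exact hnn2 | simp
  have key' : G (sq1 hS.sym e') (tOp hS.sym e e' a) * G (sq1 hS.sym e) (sq1 hS.sym e) =
      fun i => if i = l then sq1 hS.sym e' * sq1 hS.sym e else if i ∈ B then (-(f a a)) • sq1 hS.sym e
        else if i ∈ A then (-(f a a)) • sq1 hS.sym e else 1 := funext fun i => by
    rw [Pi.mul_apply]
    simp only [G]
    split_ifs <;> first | exact hnn2 | exact T1 | simp
  have hcube : nn hS.sym e a * nn hS.sym e a * nn hS.sym e a = 0 := by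
    rw [hnn2, smul_mul_assoc, sq_mul_nn hS.sym H.ee a1, smul_zero]
  have hcm := Elm.comm hP hQ l l j j (by simp [G, hsq]) (by simp [G, hsq'])
    (by simp [G, hjl, hj, hcube]) (by simp [G, hjl, hj, hcube])
  have hone : Elm M fun i => if i = l then nn hS.sym e e' else if i ∈ A ∪ B then sq1 hS.sym e else 1 := by
    refine Elm.smul_fun (c := fun i => if i = l then 1 else if i ∈ A ∪ B then -(f a a) else 1) (fun t => ?_)
      (fun i => by
        by_cases h : i = l
        · simp [h]
        · by_cases h' : i ∈ A ∪ B <;> simp [h, h', a3])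
    set R : ι → Module.End F (W F k) := fun i => if i ∈ A ∪ B then (-(f a a)) • sq1 hS.sym e else 1 with hR
    have e1 : ∀ Z, (fun i => if i = l then Z else if i ∈ B then (-(f a a)) • sq1 hS.sym e
        else if i ∈ A then (-(f a a)) • sq1 hS.sym e else 1) = Function.update R l Z := fun Z => funext fun i => by
      by_cases h : i = l
      · subst h; simp
      · by_cases hA' : i ∈ A <;> by_cases hB'' : i ∈ B <;> simp [hR, h, hA', hB'']
    convert hcm t using 2
    rw [key, key', T2, e1, e1, sub_eq_iff_eq_add.2 (ten_update_add R l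
      (sq1 hS.sym e * sq1 hS.sym e' - sq1 hS.sym e' * sq1 hS.sym e) (sq1 hS.sym e' * sq1 hS.sym e) |>.symm.trans
      (by rw [sub_add_cancel])).symm, OTensor.sq1_bracket hS.sym H]
    congr 1
    funext i
    by_cases h : i = l
    · subst h; simp
    · by_cases hA' : i ∈ A <;> by_cases hB'' : i ∈ B <;> simp [hR, h, hA', hB'']
  intro v w
  have := elm_to_nn hS hM l j hjl (by simp [hjl, hj, hsq]) (hnn_ne hS hM H a1 a2 a3)
    (by simp) hone v w
  refine this.of_eq (funext fun i => ?_)
  by_cases h : i = l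
  · subst h; simp
  · simp [h]

/-- Enlarging the support by one position. -/
theorem step_spread {b r : ι} {Q : Finset ι} (hbQ : b ∉ Q) (hQ : Q.Nonempty) (hrb : r ≠ b) (hrQ : r ∉ Q)
    (h : OneAt M hS e b Q) : OneAt M hS e r (insert b Q) := by
  obtain ⟨q, hq⟩ := hQ
  have hqb : q ≠ b := fun h => hbQ (h ▸ hq)
  have hqr : q ≠ r := fun h => hrQ (h ▸ hq)
  have hsq := sq_mul_sq hS.sym H.ee
  obtain ⟨T1, T2⟩ := tOp_sq hS.sym hS.two H a1
  obtain ⟨σ, hσ, σr, σq, σb, σo⟩ := cycle_mem hS hM hrb.symm hqb.symm hqr.symm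
  intro v w
  let X : ι → Module.End F (W F k) := fun i =>
    if i = b then nn hS.sym e e' else if i ∈ Q then sq1 hS.sym e else 1
  let Y : ι → Module.End F (W F k) := fun i =>
    if i = b then sq1 hS.sym e else if i = r then nn hS.sym v w else if i = q then 1
      else if i ∈ Q then tOp hS.sym e e' a else 1
  have hY : Elm M Y := by
    have h0 := elm_perm hS hM hσ (h v w)
    refine Elm.replace b ?_ (fun i hi Z hZb hZi hZ => ?_) h0
    · simp [Y, σb, hqb, hq]
    · simp only [σb, hqb, hq, if_true, if_false] at hZb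
      simp only [Y, if_neg hi]
      by_cases hir : i = r
      · subst hir
        rw [if_pos rfl]
        simp only [σr, if_true] at hZi
        rw [← hZi, Function.update_eq_self]; exact hZ
      rw [if_neg hir]
      by_cases hiq : i = q
      · subst hiq
        rw [if_pos rfl]
        simp only [σq, hrb, hrQ, if_false] at hZi
        rw [← hZi, Function.update_eq_self]; exact hZ
      rw [if_neg hiq]
      simp only [σo i hi hir hiq, hi, if_false] at hZi
      by_cases hiQ : i ∈ Q
      · rw [if_pos hiQ] at hZi ⊢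
        exact elm_to_tOp hS hM i b (Ne.symm hi) (by rw [hZb, hsq]) (H.ne hS.sym) H.ee hZi hZ H a1 a2
      · rw [if_neg hiQ] at hZi ⊢
        rw [← hZi, Function.update_eq_self]; exact hZ
  have hX : Elm M X := h e e'
  have hcm := Elm.comm hX hY q b q b (by simp [X, hqb, hq, hsq]) (by simp [Y, hsq])
    (by simp [X, Y, hqb, hqr, hq, hsq]) (by
      simp only [X, Y, if_true]
      rw [mul_assoc, nn_sq1_right hS.sym H, hsq])
  refine Elm.smul_fun (c := fun i => if i = b then 2 else if i ∈ Q ∧ i ≠ q then -(f a a) else 1) (fun t => ?_)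
    (fun i => by
      by_cases h1 : i = b
      · simp [h1, hS.two]
      · by_cases h2 : i ∈ Q ∧ i ≠ q <;> simp [h1, h2, a3])
  set R : ι → Module.End F (W F k) := fun i => if i = r then nn hS.sym v w
    else if i ∈ Q then (if i = q then 1 else -(f a a)) • sq1 hS.sym e else 1 with hR
  have e1 : X * Y = Function.update R b (nn hS.sym e e' * sq1 hS.sym e) := funext fun i => by
    rw [Pi.mul_apply]
    by_cases h1 : i = b
    · subst h1; simp [X, Y]
    by_cases h2 : i = r
    · subst h2; simp [X, Y, hR, h1, hrQ]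
    by_cases h3 : i = q
    · subst h3; simp [X, Y, hR, h1, h2, hq]
    by_cases h4 : i ∈ Q
    · simp [X, Y, hR, h1, h2, h3, h4, T2]
    · simp [X, Y, hR, h1, h2, h3, h4]
  have e2 : Y * X = Function.update R b (sq1 hS.sym e * nn hS.sym e e') := funext fun i => by
    rw [Pi.mul_apply]
    by_cases h1 : i = b
    · subst h1; simp [X, Y]
    by_cases h2 : i = r
    · subst h2; simp [X, Y, hR, h1, hrQ]
    by_cases h3 : i = q
    · subst h3; simp [X, Y, hR, h1, h2, hq]
    by_cases h4 : i ∈ Q
    · simp [X, Y, hR, h1, h2, h3, h4, T1]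
    · simp [X, Y, hR, h1, h2, h3, h4]
  convert hcm t using 2
  have e3 : ten (Function.update R b (-sq1 hS.sym e)) = -ten (Function.update R b (sq1 hS.sym e)) := by
    rw [eq_neg_iff_add_eq_zero, ← ten_update_add, neg_add_cancel]
    exact ten_eq_zero (i := b) (Function.update_self _ _ _)
  rw [e1, e2, nn_sq1_right hS.sym H, nn_sq1_left hS.sym H, e3, sub_neg_eq_add, ← ten_update_add,
    ← two_smul F (sq1 hS.sym e)]
  congr 1
  funext i
  by_cases h1 : i = b
  · subst h1; simp [hrb.symm]
  by_cases h2 : i = r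
  · subst h2; simp [hR, h1, hrQ]
  by_cases h3 : i = q
  · subst h3; simp [hR, h1, h2, hq]
  by_cases h4 : i ∈ Q
  · simp [hR, h1, h2, h3, h4]
  · simp [hR, h1, h2, h3, h4]

/-- Full support with the skew slot anywhere. -/
theorem oneAt_all {b : ι} {Q : Finset ι} (hbQ : b ∉ Q) (hQ : Q.Nonempty) (h : OneAt M hS e b Q) (p : ι) :
    OneAt M hS e p (Finset.univ.erase p) := by
  have full : ∀ n, ∀ (b : ι) (Q : Finset ι), b ∉ Q → Q.Nonempty → OneAt M hS e b Q →
      Fintype.card ι ≤ n + (Q.card + 1) → ∃ b, OneAt M hS e b (Finset.univ.erase b) := by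
    intro n
    induction n with
    | zero =>
      intro b Q hbQ _ h hc
      refine ⟨b, ?_⟩
      have : insert b Q = Finset.univ := Finset.eq_univ_of_card _ (le_antisymm (Finset.card_le_univ _)
        (by rw [Finset.card_insert_of_notMem hbQ]; omega))
      rwa [← this, Finset.erase_insert hbQ]
    | succ n ih =>
      intro b Q hbQ hQ h hc
      by_cases hu : insert b Q = Finset.univ
      · exact ⟨b, by rwa [← hu, Finset.erase_insert hbQ]⟩
      obtain ⟨r, hr⟩ : ∃ r, r ∉ insert b Q := by
        by_contra! hall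
        exact hu (Finset.eq_univ_of_forall hall)
      rw [Finset.mem_insert, not_or] at hr
      refine ih r (insert b Q) (by simp [hr.1, hr.2]) (Finset.insert_nonempty _ _)
        (step_spread hS hM H a1 a2 a3 hbQ hQ hr.1 hr.2 h) ?_
      rw [Finset.card_insert_of_notMem hbQ]; omega
  obtain ⟨b, hb⟩ := full (Fintype.card ι) b Q hbQ hQ h (by omega)
  by_cases hp : p = b
  · rwa [hp]
  let X : ι → Module.End F (W F k) := fun i => if i = b then nn hS.sym e a
    else if i ∈ Finset.univ.erase b then sq1 hS.sym e else 1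
  have this : OneAt M hS e p ((Finset.univ.erase b).erase p ∪ {b}) := by
    refine step_one hS hM H a1 a2 a3 (X := X) _ {b} (Finset.notMem_erase p _) (by simp [hp]) ?_
      (Finset.singleton_nonempty b) (H.ne hS.sym) H.ee (by simp [X, hp]) ?_ ?_ ?_ (hb e a)
    · intro i hi
      simp only [Finset.mem_erase] at hi
      simp [hi.2.1]
    · intro i hi
      simp only [Finset.mem_erase] at hi
      exact ⟨e, H.ne hS.sym, H.ee, by simp [X, hi.2.1]⟩
    · intro i hi
      rw [Finset.mem_singleton] at hi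
      exact ⟨e, a, nn_ne hS hM H a1 a2 a3 a1 a3, by simp [X, hi]⟩
    · intro i hip hiA hib
      simp at hiA hib
      exact absurd (hiA hip) hib
  convert this using 1
  ext i
  by_cases hi : i = b
  · subst hi; simp [Ne.symm hp]
  · simp [hi]

end Cfsg.Agent.OWreath
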