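import Cfsg.Agent.Lib.OWreathFusion
import Cfsg.Agent.Lib.OWreathBasis

/-!
A similitude conjugating all single-position Siegel elements into the wreath group normalises the Lie algebra.
-/

set_option autoImplicit false
set_option linter.unusedSectionVars false

namespace Cfsg.Agent.OWreath

open Cfsg.Agent.OTensor (Sym Hyp nn sq1 sie proj0 nn_apply sq1_apply smul_right' sub_left' neg_left')

variable {F : Type*} [Field F] [Fintype F] {k : ℕ} {ι : Type} [Fintype ι] [DecidableEq ι] {f : W F k → W F k → F}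

section Skew

variable (hf : Sym f)
include hf

/-- The skew operators are spanned by the elementary ones. -/
theorem op_skew_mem (h2 : (2 : F) ≠ 0) (hk : 1 ≤ k) (p : ι) {Z : Module.End F (W F k)} (hZ : OTensor.IsSkew f Z) :
    op p Z ∈ soS hf := by
  classical
  obtain ⟨z, hz⟩ := exists_OB hf h2 hk (a := 1) one_ne_zero
  have e : Z = (2 : F)⁻¹ • ∑ i, (f (z i) (z i))⁻¹ • nn hf (Z (z i)) (z i) := OB.ext hf hz fun j => by
    simp only [LinearMap.smul_apply, LinearMap.sum_apply, nn_apply, smul_sub, Finset.sum_sub_distrib]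
    rw [Finset.sum_eq_single j (fun i _ hi => by rw [hz.orth j i (Ne.symm hi), zero_smul, smul_zero]) (by simp)]
    have e0 : ∑ i, (f (z i) (z i))⁻¹ • f (z j) (Z (z i)) • z i = -Z (z j) := by
      conv_rhs => rw [OB.decomp hf hz (Z (z j)), ← Finset.sum_neg_distrib]
      refine Finset.sum_congr rfl fun i _ => ?_
      rw [hZ (z j) (z i), ← neg_smul, smul_smul, neg_div, neg_neg, div_eq_inv_mul]
    rw [e0, smul_smul (f (z j) (z j))⁻¹, inv_mul_cancel₀ (hz.ne j), one_smul, smul_neg, sub_neg_eq_add, ← add_smul,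
      ← two_mul, mul_inv_cancel₀ h2, one_smul]
  have hm : ∀ v w, op p (nn hf v w) ∈ soS hf := fun v w => Submodule.subset_span ⟨p, v, w, rfl⟩
  rw [← opHom_apply, e, map_smul, map_sum]
  exact Submodule.smul_mem _ _ (Submodule.sum_mem _ fun i _ => by
    rw [map_smul]; exact Submodule.smul_mem _ _ (hm _ _))

/-- A space containing the elementary skew operators at singular vectors contains all. -/
theorem nn_mem_of_singular (h2 : (2 : F) ≠ 0) (hk : 3 ≤ k) (L : Submodule F (Module.End F (W F k)))
    (h : ∀ e e' a, Hyp f e e' → f a e = 0 → f a e' = 0 → f a a ≠ 0 → nn hf e a ∈ L) (v w : W F k) :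
    nn hf v w ∈ L := by
  have hadd : ∀ a b c, nn hf (a + b) c = nn hf a c + nn hf b c := fun a b c =>
    LinearMap.ext fun u => by simp [nn_apply, hf.add_right]; module
  have hsmul : ∀ (t : F) a c, nn hf (t • a) c = t • nn hf a c := fun t a c =>
    LinearMap.ext fun u => by simp [nn_apply, smul_right' hf]; module
  have h1 : ∀ e e', Hyp f e e' → ∀ a, f a e = 0 → f a e' = 0 → nn hf e a ∈ L := by
    intro e e' H a a1 a2
    by_cases ha : f a a = 0
    · obtain ⟨u, u1, u2, u3⟩ := OTensor.exists_aniso hf h2 hk H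
      obtain ⟨v, v1, v2, v3, v4⟩ : ∃ v, f v e = 0 ∧ f v e' = 0 ∧ f v v ≠ 0 ∧ f (a + v) (a + v) ≠ 0 := by
        by_cases hh : f (a + u) (a + u) = 0
        · refine ⟨-u, by rw [neg_left' hf, u1, neg_zero], by rw [neg_left' hf, u2, neg_zero],
            by simpa [neg_left' hf, hf.neg_right] using u3, fun hh' => u3 ?_⟩
          simp only [hf.add_left, hf.add_right, neg_left' hf, hf.neg_right, ha] at hh hh'
          exact (mul_eq_zero.1 (show (2 : F) * f u u = 0 by linear_combination hh + hh')).resolve_left h2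
        · exact ⟨u, u1, u2, u3, hh⟩
      have := L.sub_mem (h e e' (a + v) H (by rw [hf.add_left, a1, v1, add_zero])
        (by rw [hf.add_left, a2, v2, add_zero]) v4) (h e e' v H v1 v2 v3)
      rwa [nn_add, add_sub_cancel_right] at this
    · exact h e e' a H a1 a2 ha
  have h3 : ∀ e e', Hyp f e e' → nn hf e e' ∈ L := by
    intro e e' H
    obtain ⟨u, u1, u2, u3⟩ := OTensor.exists_aniso hf h2 hk H
    set s := -((2 : F)⁻¹ * f u u) with hs
    have hs0 : s ≠ 0 := neg_ne_zero.2 (mul_ne_zero (inv_ne_zero h2) u3)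
    have he' : f e' e = 1 := by rw [OTensor.symm hf, H.one]
    have a1 : f e u = 0 := by rw [OTensor.symm hf, u1]
    have a2 : f e' u = 0 := by rw [OTensor.symm hf, u2]
    set z := e + u + s • e' with hz
    have hzz : f z z = 0 := by
      simp only [hz, hf.add_left, hf.add_right, hf.smul_left, smul_right' hf, H.ee, H.ee', H.one, he', u1, u2,
        a1, a2, hs]
      field_simp
      ring
    have hz0 : z ≠ 0 := fun h0 => u3 (by
      have := congrArg (fun x => f x u) h0
      simpa [hz, hf.add_left, hf.smul_left, a1, a2, hf.zero_left] using this)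
    obtain ⟨z', hz', hzz'⟩ := OTensor.exists_partner hf h2 hz0 hzz
    have Z : Hyp f z z' := ⟨hzz, hz', hzz'⟩
    set b := e - s • e' with hb
    have hbz : f b z = 0 := by
      simp [hb, hz, sub_left' hf, hf.add_right, hf.smul_left, smul_right' hf, H.ee, H.ee', H.one, he', a1, a2]
    obtain ⟨p1, p2⟩ := OTensor.proj0_perp hf Z b
    have m := h1 z z' Z _ p1 p2
    rw [nn_proj hf, hbz, zero_smul, sub_zero] at m
    have m1 := h1 e e' H u u1 u2
    have m2 := h1 e' e (H.swap hf) u u2 u1
    have e0 : (2 * s) • nn hf e e' = -(nn hf z b + nn hf e u - s • nn hf e' u) := by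
      refine LinearMap.ext fun x => ?_
      simp [hz, hb, nn_apply, hf.add_right, hf.sub_right, smul_right' hf]
      module
    have := L.smul_mem (2 * s)⁻¹ (show (2 * s) • nn hf e e' ∈ L by
      rw [e0]; exact L.neg_mem (L.sub_mem (L.add_mem m m1) (L.smul_mem s m2)))
    rwa [inv_smul_smul₀ (mul_ne_zero h2 hs0)] at this
  obtain ⟨e₀, he0, he⟩ := OTensor.exists_singular hf hk
  have h4 : ∀ e, f e e = 0 → ∀ x, nn hf e x ∈ L := by
    intro e he x
    by_cases he0 : e = 0
    · subst he0
      rw [show nn hf (0 : W F k) x = 0 from LinearMap.ext fun u => by simp [nn_apply, hf.zero_right]]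
      exact L.zero_mem
    obtain ⟨e', he', hee'⟩ := OTensor.exists_partner hf h2 he0 he
    have H : Hyp f e e' := ⟨he, he', hee'⟩
    obtain ⟨p1, p2⟩ := OTensor.proj0_perp hf H x
    rw [OTensor.decomp hf e e' x, nn_add, nn_add, nn_smul, nn_smul, nn_self, smul_zero, zero_add]
    exact L.add_mem (L.smul_mem _ (h3 e e' H)) (h1 e e' H _ p1 p2)
  let φ : W F k →ₗ[F] Module.End F (W F k) :=
    { toFun := fun v => nn hf v w
      map_add' := fun a b => hadd a b w
      map_smul' := fun c a => hsmul c a w }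
  exact OTensor.mem_of_singular hf h2 (S := L.comap φ) he0 he (fun v hv => h4 v hv w) v

end Skew

theorem mem_Nst_of_conj_sie (hS : Std f) {A : GL (ι → Fin k) F} (hA : IsSim f A)
    (hnorm : IsSim f A → (∀ T ∈ soS hS.sym, lg A * T * lg A⁻¹ ∈ soS hS.sym) → A ∈ Nst F k ι)
    (hsie : ∀ (p : ι) e e' (H : Hyp f e e') a (ha : f a e = 0), f a e' = 0 →
      A * opGL p (sieW hS.sym hS.two H.ee ha) * A⁻¹ ∈ Nst F k ι) : A ∈ Nst F k ι := by
  have hf := hS.sym
  have h2 := hS.two
  refine hnorm hA fun T hT => ?_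
  induction hT using Submodule.span_induction with
  | mem T hT =>
    obtain ⟨p, v, w, rfl⟩ := hT
    let C : Module.End F (W F k) →ₗ[F] Module.End F (VI F ι k) :=
      (LinearMap.mulLeft F (lg A)).comp ((LinearMap.mulRight F (lg A⁻¹)).comp (opHom p))
    have hC : ∀ Z, C Z = lg A * op p Z * lg A⁻¹ := fun Z => by
      rw [mul_assoc]; rfl
    rw [← hC]
    refine nn_mem_of_singular hf h2 hS.hk ((soS hf).comap C) (fun e e' a H a1 a2 a3 => ?_) v w
    rw [Submodule.mem_comap, hC]
    obtain ⟨q, e₁, ν, y, hν, -, he₁, hy, hsq⟩ := fusion hS hA p H a1 a2 a3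
      (fun _ c => hsie p e e' H _ _ (by rw [hf.smul_left, a2, mul_zero])) (hsie p e e' H a a1 a2)
    have key : lg A * op p (nn hf e a) * lg A⁻¹ =
        op q (lg y - 1 - (-(2 : F)⁻¹ * f a a * ν) • sq1 hf e₁) := by
      have h := congrArg lg hy
      rw [map_mul, map_mul, lg_opGL, lg_opGL, lg_sieW, sie_eq hf H.ee a1, op_add, op_add, op_one, op_smul,
        mul_add, mul_add, mul_one, add_mul, add_mul, lg_mul_inv, mul_smul_comm, smul_mul_assoc, hsq, smul_smul] at h
      rw [op_sub, op_sub, op_one, op_smul, ← h]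
      abel
    rw [key]
    refine op_skew_mem hf h2 (by have := hS.hk; omega) q fun x x' => ?_
    set Z := lg y - 1 - (-(2 : F)⁻¹ * f a a * ν) • sq1 hf e₁
    obtain ⟨e₂, -, -, he₂⟩ := OTensor.exists_aniso hf h2 hS.hk H
    let u : VI F (Oth q) k := pv fun _ => e₂
    have hu : bT f u u ≠ 0 := by rw [bT_pv hf]; exact Finset.prod_ne_zero_iff.2 fun _ _ => he₂
    obtain ⟨μ, hμ, hμA⟩ := hA
    have hskew : ∀ s t, bT f (op q Z s) t = -bT f s (op q Z t) := by
      intro s t
      have hN : ∀ s t, bT f (op p (nn hf e a) s) t = -bT f s (op p (nn hf e a) t) := fun s t => by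
        have e : (bT f).compl₁₂ (op p (nn hf e a)) LinearMap.id =
            -((bT f).compl₁₂ LinearMap.id (op p (nn hf e a))) := bT_ext hf fun x y => by
          simp only [LinearMap.compl₁₂_apply, LinearMap.id_apply, LinearMap.neg_apply, op_pv, bT_pv hf]
          rw [prod_split p, prod_split p (fun i => f (x i) (Function.update y p _ i))]
          simp only [Function.update_self, Function.update_of_ne (Subtype.prop _)]
          rw [OTensor.nn_skew hf e a (x p) (y p), neg_mul]
          congr 2
          exact Finset.prod_congr rfl fun i _ => by rw [Function.update_of_ne i.2, Function.update_of_ne i.2]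
        exact LinearMap.congr_fun₂ e s t
      rw [← key, Module.End.mul_apply, Module.End.mul_apply, Module.End.mul_apply, Module.End.mul_apply]
      conv_lhs => rw [← lg_apply_inv A t, hμA, hN]
      conv_rhs => rw [← lg_apply_inv A s, hμA]
      ring
    have h := hskew (emb q x u) (emb q x' u)
    rw [op_emb, op_emb, bT_emb hf, bT_emb hf, ← neg_mul] at h
    exact mul_right_cancel₀ hu h
  | zero => rw [mul_zero, zero_mul]; exact Submodule.zero_mem _
  | add a b _ _ ha hb => rw [mul_add, add_mul]; exact Submodule.add_mem _ ha hb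
  | smul c a _ ha => rw [mul_smul_comm, smul_mul_assoc]; exact Submodule.smul_mem _ c ha

end Cfsg.Agent.OWreath
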