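import Cfsg.Agent.Lib.OWreathBasis

/-!
Elements lying in every overgroup, operators on the other positions as matrices, and the group induced on a ruler.
-/

set_option autoImplicit false
set_option linter.unusedSectionVars false

namespace Cfsg.Agent.OWreath

open Cfsg.Agent.OTensor (Sym Hyp nn sq1 sie bl nn_apply sq1_apply smul_right' sub_left' neg_left')

variable {F : Type*} [Field F] {k : ℕ} {ι : Type} [Fintype ι] [DecidableEq ι] {f : W F k → W F k → F}

/-- The elements of the wreath group lying in every overgroup. -/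
def Core (f : W F k → W F k → F) (b : GL (ι → Fin k) F) : Prop :=
  b ∈ Nst F k ι ∧ ∀ M : Subgroup (GL (ι → Fin k) F), Ovr f M → b ∈ M

theorem Core.mul {a b : GL (ι → Fin k) F} (ha : Core f a) (hb : Core f b) : Core f (a * b) :=
  ⟨(Nst F k ι).mul_mem ha.1 hb.1, fun M hM => M.mul_mem (ha.2 M hM) (hb.2 M hM)⟩

theorem Core.inv {a : GL (ι → Fin k) F} (ha : Core f a) : Core f a⁻¹ :=
  ⟨(Nst F k ι).inv_mem ha.1, fun M hM => M.inv_mem (ha.2 M hM)⟩

theorem isSim_mul {g h : GL (ι → Fin k) F} (hg : IsSim f g) (hh : IsSim f h) : IsSim f (g * h) := by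
  obtain ⟨μ, hμ, hg⟩ := hg
  obtain ⟨ν, hν, hh⟩ := hh
  exact ⟨μ * ν, mul_ne_zero hμ hν, fun u w => by
    rw [map_mul, Module.End.mul_apply, Module.End.mul_apply, hg, hh, mul_assoc]⟩

theorem isSim_inv {g : GL (ι → Fin k) F} (hg : IsSim f g) : IsSim f g⁻¹ := by
  obtain ⟨μ, hμ, hg⟩ := hg
  refine ⟨μ⁻¹, inv_ne_zero hμ, fun u w => ?_⟩
  have := hg (lg g⁻¹ u) (lg g⁻¹ w)
  rw [lg_apply_inv, lg_apply_inv] at this
  rw [this, ← mul_assoc, inv_mul_cancel₀ hμ, one_mul]

theorem iso_sim_conj {g x : GL (ι → Fin k) F} (hg : IsSim f g) (hx : x ∈ isoV f) : g * x * g⁻¹ ∈ isoV f := by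
  obtain ⟨μ, -, hg⟩ := hg
  intro u w
  rw [map_mul, map_mul]
  simp only [Module.End.mul_apply]
  rw [hg, hx, ← hg, lg_apply_inv, lg_apply_inv]

section Form

variable (hf : Sym f)
include hf

theorem Core.sq {a : GL (ι → Fin k) F} (haN : a ∈ Nst F k ι) (haG : a ∈ isoV f) : Core f (a * a) :=
  ⟨(Nst F k ι).mul_mem haN haN, fun _ hM => hM.sq a haN haG⟩

theorem Core.conj {a b : GL (ι → Fin k) F} (haN : a ∈ Nst F k ι) (haG : a ∈ isoV f) (hb : Core f b) :
    Core f (a * b * a⁻¹) :=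
  ⟨(Nst F k ι).mul_mem ((Nst F k ι).mul_mem haN hb.1) ((Nst F k ι).inv_mem haN),
    fun _ hM => hM.conj_mem hf haN haG (hb.2 _ hM) hb.1⟩

theorem Core.sie (h2 : (2 : F) ≠ 0) (l : ι) {e a : W F k} (he : f e e = 0) (ha : f a e = 0) :
    Core f (opGL l (sieW hf h2 he ha)) := ⟨opGL_mem _ _, fun _ hM => hM.sie_mem hf h2 l he ha⟩

theorem Core.flip (h2 : (2 : F) ≠ 0) {p s : ι} (hps : p ≠ s) {v w : W F k} (hv : f v v ≠ 0) (hw : f w w ≠ 0)
    (hvw : f v v = f w w) : Core f (opGL p (reflW hf hv) * opGL s (reflW hf hw)) :=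
  ⟨(Nst F k ι).mul_mem (opGL_mem _ _) (opGL_mem _ _), fun _ hM => hM.flip_mem' hf h2 hps hv hw hvw⟩

/-- Scaling a singular vector and its partner. -/
def tor (e e' : W F k) (c : F) : Module.End F (W F k) :=
  1 + (c - 1) • ((bl hf).flip e').smulRight e + (c⁻¹ - 1) • ((bl hf).flip e).smulRight e'

theorem tor_apply (e e' : W F k) (c : F) (x : W F k) :
    tor hf e e' c x = x + ((c - 1) * f x e') • e + ((c⁻¹ - 1) * f x e) • e' := by
  simp [tor, OTensor.bl_apply, smul_smul]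

theorem exists_tor {e e' : W F k} (H : Hyp f e e') {c : F} (hc : c ≠ 0) :
    ∃ d ∈ isoW f, lg d e = c • e ∧ ∀ x, f x e = 0 → f x e' = 0 → lg d x = x := by
  have h1' : f e' e = 1 := by rw [OTensor.symm hf, H.one]
  have hmul : ∀ c : F, c ≠ 0 → tor hf e e' c * tor hf e e' c⁻¹ = 1 := fun c hc => LinearMap.ext fun x => by
    simp only [Module.End.mul_apply, Module.End.one_apply, tor_apply, hf.add_left, hf.smul_left, H.ee, H.ee', H.one,
      h1', inv_inv]
    match_scalars <;> field_simp <;> ring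
  refine ⟨mkGL _ _ (hmul c hc), fun u w => ?_, ?_, fun x x1 x2 => ?_⟩
  · rw [lg_mkGL]
    simp only [tor_apply, hf.add_left, hf.add_right, hf.smul_left, smul_right' hf, H.ee, H.ee', H.one, h1',
      OTensor.symm hf e w, OTensor.symm hf e' w]
    field_simp
    ring
  · rw [lg_mkGL, tor_apply, H.ee, H.one]; module
  · rw [lg_mkGL, tor_apply, x1, x2]; module

end Form

/-- Extending an invertible operator on the other positions. -/
def outGL (l : ι) (b : GL (Oth l → Fin k) F) : GL (ι → Fin k) F :=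
  mkGL (out l (lg b)) (out l (lg b⁻¹)) (by rw [out_mul, lg_mul_inv, out_one])

theorem lg_outGL (l : ι) (b : GL (Oth l → Fin k) F) : lg (outGL l b) = out l (lg b) := lg_mkGL _ _ _

theorem outGL_mul (l : ι) (a b : GL (Oth l → Fin k) F) : outGL l (a * b) = outGL l a * outGL l b :=
  lg_injective (by rw [map_mul lg (outGL l a), lg_outGL, lg_outGL, lg_outGL, map_mul, out_mul])

theorem outGL_one (l : ι) : outGL l (1 : GL (Oth l → Fin k) F) = 1 :=
  lg_injective (by rw [lg_outGL, map_one, map_one, out_one])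

theorem outGL_inv (l : ι) (a : GL (Oth l → Fin k) F) : (outGL l a)⁻¹ = outGL l a⁻¹ :=
  inv_eq_of_mul_eq_one_right (by rw [← outGL_mul, mul_inv_cancel, outGL_one])

theorem outGL_opGL (l : ι) (p : Oth l) (g : GL (Fin k) F) : outGL l (opGL p g) = opGL p.1 g :=
  lg_injective (by rw [lg_outGL, lg_opGL, lg_opGL, out_op])

/-- A permutation of the other positions, extended. -/
def extP (l : ι) (σ : Equiv.Perm (Oth l)) : Equiv.Perm ι := Equiv.Perm.ofSubtype σ

theorem outGL_mem {l : ι} {b : GL (Oth l → Fin k) F} (hb : b ∈ Nst F k (Oth l)) : outGL l b ∈ Nst F k ι := by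
  obtain ⟨a, σ, rfl⟩ := hb
  rw [outGL_mul]
  refine (Nst F k ι).mul_mem ⟨ins l 1 a, 1, lg_injective ?_⟩ ⟨1, extP l σ, lg_injective ?_⟩
  · rw [lg_outGL, map_mul, lg_tenGL, lg_tenGL, lg_permGL, permV_one, mul_one, ten_split l, ins_self, map_one,
      op_one, one_mul]
    congr 2
    funext i
    rw [ins_other]
  · rw [lg_outGL, map_mul, lg_tenGL, lg_permGL, lg_permGL,
      show (fun i => lg ((1 : ι → GL (Fin k) F) i)) = (1 : ι → Module.End F (W F k)) from funext fun i => map_one lg,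
      ten_one, one_mul]
    refine ext_pv fun x => ?_
    rw [pv_restrict l, out_emb, permV_pv, emb_pv, emb_pv, permV_pv, ins_restrict]
    congr 1
    funext i
    have hsymm : (extP l σ).symm = extP l σ.symm := (map_inv Equiv.Perm.ofSubtype σ).symm
    rw [Function.comp_apply, hsymm]
    by_cases hi : i = l
    · subst hi
      rw [ins_self, extP, Equiv.Perm.ofSubtype_apply_of_not_mem _ (by simp)]
    · rw [ins_of_ne hi, extP, Equiv.Perm.ofSubtype_apply_of_mem (p := fun i => i ≠ l) _ hi]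
      rfl

theorem outGL_iso (hf : Sym f) {l : ι} {b : GL (Oth l → Fin k) F} (hb : b ∈ isoV f) : outGL l b ∈ isoV f := by
  intro u w
  have e : (bT f).compl₁₂ (lg (outGL l b)) (lg (outGL l b)) = bT f := bT_ext hf fun x y => by
    rw [LinearMap.compl₁₂_apply, pv_restrict l x, pv_restrict l y, lg_outGL, out_emb, out_emb, bT_emb hf, bT_emb hf, hb]
  exact LinearMap.congr_fun₂ e u w

variable (hf : Sym f)
include hf

theorem Ovr.outGL_comap {M : Subgroup (GL (ι → Fin k) F)} (hM : Ovr f M) (l : ι) {b : GL (Oth l → Fin k) F}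
    (hbN : b ∈ Nst F k (Oth l)) (hbG : b ∈ isoV f) {c : GL (Oth l → Fin k) F}
    (hcN : c ∈ Nst F k (Oth l)) (hcG : c ∈ isoV f) :
    outGL l (b * b) ∈ M ∧ outGL l (b * c * b⁻¹ * c⁻¹) ∈ M := by
  refine ⟨?_, ?_⟩
  · rw [outGL_mul]; exact hM.sq _ (outGL_mem hbN) (outGL_iso hf hbG)
  · rw [outGL_mul, outGL_mul, outGL_mul, ← outGL_inv, ← outGL_inv]
    exact hM.der _ (outGL_mem hbN) (outGL_iso hf hbG) _ (outGL_mem hcN) (outGL_iso hf hcG)

/-- An element commuting with the ruler operator induces an isometry on the ruler. -/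
theorem lead_iso {l : ι} {e e' : W F k} (H : Hyp f e e') {x : GL (ι → Fin k) F} (hx : x ∈ isoV f)
    (hS : lg x * op l (sq1 hf e) = op l (sq1 hf e) * lg x) {A : GL (Oth l → Fin k) F}
    (hA : ∀ u, lg x (emb l e u) = emb l e (lg A u)) : A ∈ isoV f := by
  intro u w
  have h := LinearMap.congr_fun hS (emb l e' w)
  rw [Module.End.mul_apply, Module.End.mul_apply, op_emb, sq1_apply, OTensor.symm hf e' e, H.one, one_smul, hA,
    op_sq hf] at h
  rw [emb_injective l (H.ne hf) h, ← bT_emb_left hf, ← hA, hx, bT_emb hf, H.one, one_mul]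

/-- The group induced by the stabiliser of a ruler. -/
def leadGrp (M : Subgroup (GL (ι → Fin k) F)) (l : ι) (e : W F k) : Subgroup (GL (Oth l → Fin k) F) where
  carrier := {A | ∃ x ∈ M, lg x * op l (sq1 hf e) = op l (sq1 hf e) * lg x ∧ ∀ u, lg x (emb l e u) = emb l e (lg A u)}
  one_mem' := ⟨1, M.one_mem, by simp, fun u => by simp⟩
  mul_mem' := by
    rintro A B ⟨x, hx, hxS, hxA⟩ ⟨y, hy, hyS, hyB⟩
    refine ⟨x * y, M.mul_mem hx hy, by rw [map_mul, mul_assoc, hyS, ← mul_assoc, hxS, mul_assoc], fun u => ?_⟩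
    rw [map_mul, Module.End.mul_apply, hyB, hxA, map_mul, Module.End.mul_apply]
  inv_mem' := by
    rintro A ⟨x, hx, hxS, hxA⟩
    refine ⟨x⁻¹, M.inv_mem hx, ?_, fun u => ?_⟩
    · calc lg x⁻¹ * op l (sq1 hf e) = lg x⁻¹ * (op l (sq1 hf e) * lg x) * lg x⁻¹ := by
            rw [mul_assoc (lg x⁻¹), mul_assoc (op l _), lg_mul_inv, mul_one]
        _ = op l (sq1 hf e) * lg x⁻¹ := by rw [← hxS, ← mul_assoc (lg x⁻¹), lg_conj_inv, one_mul]
    · apply (Function.LeftInverse.injective (lg_inv_apply x))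
      rw [lg_apply_inv, hxA, lg_apply_inv]

theorem leadGrp_ovr {M : Subgroup (GL (ι → Fin k) F)} (hM : Ovr f M) {l : ι} {e e' : W F k} (H : Hyp f e e') :
    Ovr f (leadGrp hf M l e) where
  le := fun A ⟨x, hx, hxS, hxA⟩ => lead_iso hf H (hM.le hx) hxS hxA
  sq b hbN hbG := ⟨_, (hM.outGL_comap hf l hbN hbG hbN hbG).1, by rw [lg_outGL, op_out],
    fun u => by rw [lg_outGL, out_emb]⟩
  der b hbN hbG c hcN hcG := ⟨_, (hM.outGL_comap hf l hbN hbG hcN hcG).2, by rw [lg_outGL, op_out],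
    fun u => by rw [lg_outGL, out_emb]⟩

end Cfsg.Agent.OWreath
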