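import Cfsg.Agent.Lib.OWreathCore
import Cfsg.Agent.Lib.OWreathDefs
import Cfsg.Agent.Lib.OWreathBasis

/-!
Elements of the commutator group of the isometries outside the wreath group, and unipotent monomials in it.
-/

set_option autoImplicit false
set_option linter.unusedSectionVars false

namespace Cfsg.Agent.OWreath

open Cfsg.Agent.OTensor (Sym Hyp nn sq1 nn_apply sq1_apply smul_right' sub_left' neg_left')

variable {F : Type*} [Field F] {k : ℕ} {ι : Type} [Fintype ι] [DecidableEq ι] {f : W F k → W F k → F}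

/-- The reflection of the tensor power. -/
def rV (f : W F k → W F k → F) (v : VI F ι k) : Module.End F (VI F ι k) :=
  1 - (2 * (bT f v v)⁻¹) • ((bT f v).smulRight v)

theorem rV_apply (v u : VI F ι k) : rV f v u = u - (2 * (bT f v v)⁻¹ * bT f v u) • v := by
  simp [rV, smul_smul]

variable (hf : Sym f)
include hf

theorem rV_sq {v : VI F ι k} (hv : bT f v v ≠ 0) : rV f v * rV f v = 1 := LinearMap.ext fun u => by
  rw [Module.End.mul_apply, rV_apply, rV_apply, map_sub, map_smul, smul_eq_mul, Module.End.one_apply]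
  have h1 := inv_mul_cancel₀ hv
  match_scalars <;> first | ring1 | linear_combination (4 * (bT f v v)⁻¹ * bT f v u) * h1

theorem rV_iso {v : VI F ι k} (hv : bT f v v ≠ 0) (u w : VI F ι k) : bT f (rV f v u) (rV f v w) = bT f u w := by
  simp only [rV_apply, map_sub, map_smul, LinearMap.sub_apply, LinearMap.smul_apply, smul_eq_mul, bT_symm hf u v]
  field_simp
  ring

/-- The reflection as a matrix. -/
def rVGL {v : VI F ι k} (hv : bT f v v ≠ 0) : GL (ι → Fin k) F := mkGL (rV f v) (rV f v) (rV_sq hf hv)

theorem lg_rVGL {v : VI F ι k} (hv : bT f v v ≠ 0) : lg (rVGL hf hv) = rV f v := lg_mkGL _ _ _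

theorem rVGL_mem {v : VI F ι k} (hv : bT f v v ≠ 0) : rVGL hf hv ∈ isoV f := fun u w => by
  rw [lg_rVGL]; exact rV_iso hf hv u w

theorem rVGL_inv {v : VI F ι k} (hv : bT f v v ≠ 0) : (rVGL hf hv)⁻¹ = rVGL hf hv :=
  inv_eq_of_mul_eq_one_right (lg_injective (by rw [map_mul, lg_rVGL, rV_sq hf hv, map_one]))

omit hf in
theorem rV_conj {T : Module.End F (VI F ι k)} (hT : ∀ u w, bT f (T u) (T w) = bT f u w) (v : VI F ι k) :
    T * rV f v = rV f (T v) * T := LinearMap.ext fun u => by
  simp only [Module.End.mul_apply, rV_apply, map_sub, map_smul, hT]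

omit hf in
theorem rV_neg (v : VI F ι k) : rV f (-v) = rV f v := LinearMap.ext fun u => by
  simp [rV_apply]

/-- A diagonal element of the commutator group outside the wreath group. -/
theorem exists_diag [Fintype F] (h2 : (2 : F) ≠ 0) (hk : 3 ≤ k) {p q : ι} (hpq : p ≠ q) {a : F} (ha : a ≠ 0)
    {z : Fin k → W F k} (hz : OB f a z) :
    ∃ A ∈ omV f (ι := ι), A ∉ Nst F k ι ∧
      ∀ (r : ι) (i : Fin k), op r (rfl' hf (z i)) * lg A = lg A * op r (rfl' hf (z i)) := by
  classical
  let z₀ : Fin k := ⟨0, by omega⟩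
  let z₁ : Fin k := ⟨1, by omega⟩
  let z₂ : Fin k := ⟨2, by omega⟩
  have h01 : z₀ ≠ z₁ := fun h => by simpa [z₀, z₁] using congrArg Fin.val h
  have h02 : z₀ ≠ z₂ := fun h => by simpa [z₀, z₂] using congrArg Fin.val h
  have h12 : z₁ ≠ z₂ := fun h => by simpa [z₁, z₂] using congrArg Fin.val h
  have n0 : f (z z₀) (z z₀) = a := hz.norm _ (by show 0 + 1 < k; omega)
  have n1 : f (z z₁) (z z₁) = a := hz.norm _ (by show 1 + 1 < k; omega)
  let c₀ : ι → Fin k := fun _ => z₀
  let c₁ : ι → Fin k := Function.update c₀ p z₁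
  let b : (ι → Fin k) → VI F ι k := fun c => pv fun i => z (c i)
  have bb : ∀ c, bT f (b c) (b c) ≠ 0 := fun c => by
    rw [bT_pv hf]; exact Finset.prod_ne_zero_iff.2 fun i _ => hz.ne _
  have bo : ∀ c c', c ≠ c' → bT f (b c) (b c') = 0 := fun c c' h => by
    obtain ⟨i, hi⟩ := Function.ne_iff.1 h
    rw [bT_pv hf]
    exact Finset.prod_eq_zero (Finset.mem_univ i) (hz.orth _ _ hi)
  have hc01 : c₀ ≠ c₁ := fun h => h01 (by simpa [c₁, c₀] using congrFun h p)
  set x := b c₀ with hx
  set y := b c₁ with hy
  have hxy : bT f x x = bT f y y := by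
    rw [hx, hy, bT_pv hf, bT_pv hf]
    refine Finset.prod_congr rfl fun i _ => ?_
    by_cases hi : i = p
    · subst hi; simp [c₁, c₀, n0, n1]
    · simp [c₁, c₀, hi]
  have xy0 : bT f x y = 0 := bo _ _ hc01
  have yx0 : bT f y x = 0 := bo _ _ hc01.symm
  have hd : bT f (x - y) (x - y) ≠ 0 := by
    simp only [map_sub, LinearMap.sub_apply, xy0, yx0, sub_zero, zero_sub, sub_neg_eq_add, hxy]
    rw [← two_mul]
    exact mul_ne_zero h2 (bb _)
  have hdx : rV f (x - y) x = y := by
    have e1 : bT f (x - y) x = bT f x x := by rw [map_sub, LinearMap.sub_apply, yx0, sub_zero]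
    rw [rV_apply, e1,
      show 2 * (bT f (x - y) (x - y))⁻¹ * bT f x x = 1 by
        field_simp
        simp only [map_sub, LinearMap.sub_apply, xy0, yx0, sub_zero, zero_sub, sub_neg_eq_add, hxy]
        ring, one_smul, sub_sub_cancel]
  let A := rVGL hf (bb c₀) * rVGL hf (bb c₁)
  have hAlg : lg A = rV f x * rV f y := by rw [map_mul, lg_rVGL, lg_rVGL]
  refine ⟨A, ?_, fun hN => ?_, fun r i => ?_⟩
  · have e : A = rVGL hf (bb c₀) * rVGL hf hd * (rVGL hf (bb c₀))⁻¹ * (rVGL hf hd)⁻¹ := by
      refine lg_injective ?_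
      rw [hAlg, rVGL_inv, rVGL_inv, map_mul, map_mul, map_mul, lg_rVGL, lg_rVGL, mul_assoc (rV f x * _),
        mul_assoc (rV f x)]
      congr 1
      rw [← mul_assoc, rV_conj (rV_iso hf hd), mul_assoc, rV_sq hf hd, mul_one, hdx]
    rw [e]
    exact Subgroup.commutator_mem_commutator (rVGL_mem hf _) (rVGL_mem hf _)
  · let w : ι → W F k := Function.update (Function.update (fun _ => z z₀) p (z z₀ + z z₁ + z z₂)) q (z z₀ + z z₁)
    obtain ⟨Y, hY⟩ := Nst_apply hN w
    let cc : Fin k → Fin k → ι → Fin k := fun i j => Function.update (Function.update c₀ p i) q j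
    let T : Fin k → Fin k → F := fun i j => bT f (pv w) (b (cc i j))
    have key : ∀ Y : ι → W F k, bT f (pv Y) (b (cc z₀ z₀)) * bT f (pv Y) (b (cc z₂ z₁)) =
        bT f (pv Y) (b (cc z₀ z₁)) * bT f (pv Y) (b (cc z₂ z₀)) := fun Y => by
      simp only [b, bT_pv hf, ← Finset.prod_mul_distrib]
      refine Finset.prod_congr rfl fun r _ => ?_
      by_cases hr : r = q
      · subst hr
        simp only [cc, Function.update_self]
        ring
      · by_cases hr' : r = p
        · subst hr'
          simp only [cc, Function.update_of_ne hr, Function.update_self]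
        · simp only [cc, Function.update_of_ne hr, Function.update_of_ne hr']
    have hA_b : ∀ c, lg A (b c) = if c = c₀ ∨ c = c₁ then -b c else b c := fun c => by
      rw [hAlg, Module.End.mul_apply]
      have self : ∀ c, rV f (b c) (b c) = -b c := fun c => by
        rw [rV_apply, show 2 * (bT f (b c) (b c))⁻¹ * bT f (b c) (b c) = 2 by rw [mul_assoc, inv_mul_cancel₀ (bb c), mul_one]]
        module
      have other : ∀ c c', c ≠ c' → rV f (b c) (b c') = b c' := fun c c' h => by
        rw [rV_apply, bo c c' h, mul_zero, zero_smul, sub_zero]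
      by_cases h0 : c = c₀
      · subst h0; rw [if_pos (Or.inl rfl), hy, other _ _ hc01.symm, hx, self]
      · by_cases h1 : c = c₁
        · subst h1; rw [if_pos (Or.inr rfl), hy, self, map_neg, hx, other _ _ hc01]
        · rw [if_neg (by tauto), hy, other _ _ (Ne.symm h1), hx, other _ _ (Ne.symm h0)]
    have hAiso : A ∈ isoV f := (isoV f).mul_mem (rVGL_mem hf _) (rVGL_mem hf _)
    have e00 : bT f (pv Y) (b (cc z₀ z₀)) = -T z₀ z₀ := by
      have hc : cc z₀ z₀ = c₀ := by simp [cc, c₀]
      have h := hAiso (pv w) (b (cc z₀ z₀))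
      rw [hA_b, if_pos (Or.inl hc), map_neg, hY] at h
      exact neg_eq_iff_eq_neg.1 h
    have eoth : ∀ i j, (i = z₂ ∨ j = z₁) → bT f (pv Y) (b (cc i j)) = T i j := fun i j hij => by
      have hne : ¬ (cc i j = c₀ ∨ cc i j = c₁) := by
        rintro (h | h)
        · rcases hij with rfl | rfl
          · exact h02 (by simpa [cc, c₀, hpq] using (congrFun h p).symm)
          · exact h01 (by simpa [cc, c₀] using (congrFun h q).symm)
        · rcases hij with rfl | rfl
          · exact h12 (by simpa [cc, c₁, c₀, hpq] using (congrFun h p).symm)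
          · exact h01 (by simpa [cc, c₁, c₀, hpq.symm] using (congrFun h q).symm)
      have h := hAiso (pv w) (b (cc i j))
      rw [hA_b, if_neg hne, hY] at h
      exact h
    have k1 := key Y
    have k2 := key w
    rw [e00, eoth z₂ z₁ (Or.inl rfl), eoth z₀ z₁ (Or.inr rfl), eoth z₂ z₀ (Or.inl rfl)] at k1
    have hT : ∀ i j, (i = z₀ ∨ i = z₂) → (j = z₀ ∨ j = z₁) → T i j ≠ 0 := fun i j hi hj => by
      simp only [T, b, bT_pv hf]
      refine Finset.prod_ne_zero_iff.2 fun r _ => ?_
      by_cases hr : r = q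
      · subst hr
        simp only [w, cc, Function.update_self]
        rcases hj with rfl | rfl <;>
          simp [hf.add_left, hz.orth _ _ h01, hz.orth _ _ h01.symm, hz.ne]
      · by_cases hr' : r = p
        · subst hr'
          simp only [w, cc, Function.update_of_ne hr, Function.update_self]
          rcases hi with rfl | rfl <;>
            simp [hf.add_left, hz.orth _ _ h01.symm, hz.orth _ _ h02, hz.orth _ _ h02.symm, hz.orth _ _ h12, hz.ne]
        · simp only [w, cc, c₀, Function.update_of_ne hr, Function.update_of_ne hr']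
          exact hz.ne _
    change -T z₀ z₀ * T z₂ z₁ = T z₀ z₁ * T z₂ z₀ at k1
    change T z₀ z₀ * T z₂ z₁ = T z₀ z₁ * T z₂ z₀ at k2
    have : (2 : F) * (T z₀ z₁ * T z₂ z₀) = 0 := by linear_combination -k1 - k2
    exact mul_ne_zero h2 (mul_ne_zero (hT _ _ (Or.inl rfl) (Or.inr rfl)) (hT _ _ (Or.inr rfl) (Or.inl rfl))) this
  · have hzi : f (z i) (z i) ≠ 0 := hz.ne i
    have hb : ∀ c, rV f (op r (rfl' hf (z i)) (b c)) = rV f (b c) := fun c => by
      have e : op r (rfl' hf (z i)) (b c) = pv (Function.update (fun j => z (c j)) r (rfl' hf (z i) (z (c r)))) :=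
        op_pv r _ _
      by_cases hci : c r = i
      · rw [e, hci, rfl'_self hf hzi, ← neg_one_smul F (z i), pv_update_smul, ← hci, neg_one_smul]
        rw [Function.update_eq_self r fun j => z (c j)]
        exact rV_neg _
      · rw [e, rfl'_perp hf (hz.orth _ _ hci), Function.update_eq_self r fun j => z (c j)]
    have hg : ∀ u w, bT f (op r (rfl' hf (z i)) u) (op r (rfl' hf (z i)) w) = bT f u w := fun u w => by
      have := opGL_iso hf r (reflW_iso hf hzi) u w
      rwa [lg_opGL, lg_reflW] at this
    rw [hAlg, hx, hy, ← mul_assoc, rV_conj hg, hb, mul_assoc, rV_conj hg, hb, ← mul_assoc]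

/-- A unipotent monomial in the commutator group. -/
theorem exists_unip (h2 : (2 : F) ≠ 0) {i j : ι} (hij : i ≠ j) {e : W F k} (he : f e e = 0) {u v : W F k}
    (hu : f u u ≠ 0) (huv : f v u = 0) :
    ∃ B ∈ omV f (ι := ι), lg B = 1 + op j (sq1 hf e) * op i (nn hf u v) := by
  set T := (-(2 : F)⁻¹) • (op j (sq1 hf e) * op i (nn hf u v)) with hT
  have hSS : sq1 hf e * sq1 hf e = 0 := LinearMap.ext fun u => by
    simp [Module.End.mul_apply, sq1_apply, hf.smul_left, he]
  have hT2 : T * T = 0 := by
    rw [hT, smul_mul_assoc, mul_smul_comm, mul_assoc, ← mul_assoc (op i _), op_comm hij, mul_assoc (op j _),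
      ← mul_assoc, op_mul, hSS, op_zero, zero_mul, smul_zero, smul_zero]
  have hskew : ∀ s t, bT f (T s) t = -bT f s (T t) := by
    intro s t
    have e1 : (bT f).compl₁₂ T LinearMap.id = -((bT f).compl₁₂ LinearMap.id T) := bT_ext hf fun x y => by
      simp only [LinearMap.compl₁₂_apply, LinearMap.id_apply, LinearMap.neg_apply, hT, LinearMap.smul_apply,
        Module.End.mul_apply, op_pv, map_smul, smul_eq_mul, bT_pv hf]
      have e2 : (∏ r, f (Function.update (Function.update x i (nn hf u v (x i))) j
          (sq1 hf e (Function.update x i (nn hf u v (x i)) j)) r) (y r)) = -(∏ r, f (x r)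
          (Function.update (Function.update y i (nn hf u v (y i))) j
            (sq1 hf e (Function.update y i (nn hf u v (y i)) j)) r)) := by
        rw [prod_split i, prod_split i (fun r => f (x r) _), Function.update_of_ne hij, Function.update_of_ne hij,
          Function.update_self, Function.update_self, OTensor.nn_skew hf u v (x i) (y i), neg_mul]
        congr 2
        refine Finset.prod_congr rfl fun r _ => ?_
        by_cases hr : r.1 = j
        · rw [hr, Function.update_self, Function.update_self, Function.update_of_ne hij.symm,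
            Function.update_of_ne hij.symm, OTensor.sq1_selfAdj hf e]
        · rw [Function.update_of_ne hr, Function.update_of_ne hr, Function.update_of_ne r.2,
            Function.update_of_ne r.2]
      rw [e2]
      ring
    exact LinearMap.congr_fun₂ e1 s t
  let B' := mkGL (1 + T) (1 - T) (by rw [add_mul, one_mul, mul_sub, mul_one, hT2, sub_zero, sub_add_cancel])
  have hB'lg : lg B' = 1 + T := lg_mkGL _ _ _
  have hB' : B' ∈ isoV f := fun s t => by
    rw [hB'lg]
    simp only [LinearMap.add_apply, Module.End.one_apply, map_add, hskew s, ← Module.End.mul_apply, hT2,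
      LinearMap.zero_apply, map_zero, neg_zero, add_zero]
    abel
  have hB'inv : lg B'⁻¹ = 1 - T := El.inv_eq hB'lg hT2
  let r := opGL i (reflW hf hu)
  have hrlg : lg r = op i (rfl' hf u) := by rw [lg_opGL, lg_reflW]
  have hrinv : r⁻¹ = r := by rw [opGL_inv, reflW_inv]
  have hrT : lg r * T * lg r = -T := by
    rw [hrlg, hT, mul_smul_comm, smul_mul_assoc, ← mul_assoc, op_comm hij, mul_assoc (op j _), mul_assoc (op j _),
      op_mul, op_mul]
    have key : rfl' hf u * nn hf u v * rfl' hf u = -nn hf u v := by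
     refine LinearMap.ext fun x => ?_
     simp only [Module.End.mul_apply, rfl', LinearMap.sub_apply, Module.End.one_apply, LinearMap.smul_apply,
      sq1_apply, nn_apply, LinearMap.neg_apply, sub_left' hf, hf.sub_right, hf.smul_left, smul_right' hf, huv, OTensor.symm hf u v]
     match_scalars <;> field_simp <;> ring
    rw [key, op_neg, OTensor.mul_neg']
    module
  refine ⟨r * B' * r⁻¹ * B'⁻¹, Subgroup.commutator_mem_commutator (opGL_iso hf i (reflW_iso hf hu)) hB', ?_⟩
  rw [map_mul, map_mul, map_mul, hrinv, hB'lg, hB'inv, mul_add, mul_one, add_mul, hrT,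
    show lg r * lg r = 1 by rw [← map_mul]; nth_rw 2 [← hrinv]; rw [mul_inv_cancel, map_one], ← sub_eq_add_neg,
    sub_mul, one_mul, mul_sub, mul_one, hT2, sub_zero, hT]
  match_scalars
  · ring
  · field_simp
    ring

end Cfsg.Agent.OWreath
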