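import Cfsg.Agent.Lib.OWreathAverage
import Cfsg.Agent.Lib.OWreathConj
import Cfsg.Agent.Lib.OWreathExcessGeo

/-!
An element fusing a short element into the wreath group lies in the wreath group, given the bound on the ruler groups.
-/

set_option autoImplicit false
set_option linter.unusedSectionVars false

namespace Cfsg.Agent.OWreath

open Cfsg.Agent.OTensor (Sym Hyp nn sq1 sie nn_apply sq1_apply smul_right' sub_left')

variable {F : Type*} [Field F] {k : ℕ} {ι : Type} [Fintype ι] [DecidableEq ι] {f : W F k → W F k → F}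

theorem conjOp_prod {κ : Type} [Fintype κ] [DecidableEq κ] (g : GL κ F) (X Y : Module.End F (κ → F)) :
    conjOp g (X * Y) = conjOp g X * conjOp g Y := by
  simp only [conjOp_apply, mul_assoc]
  rw [← mul_assoc (lg g⁻¹) (lg g), lg_conj_inv, one_mul]

theorem conjOp_id {κ : Type} [Fintype κ] [DecidableEq κ] (g : GL κ F) :
    conjOp g (1 : Module.End F (κ → F)) = 1 := by
  rw [conjOp_apply, mul_one, lg_mul_inv]

theorem conjOp_lg {κ : Type} [Fintype κ] [DecidableEq κ] (g x : GL κ F) :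
    conjOp g (lg x) = lg (g * x * g⁻¹) := by rw [conjOp_apply, map_mul, map_mul]

theorem conjOp_injective {κ : Type} [Fintype κ] [DecidableEq κ] (g : GL κ F) :
    Function.Injective (conjOp (F := F) g) := Function.LeftInverse.injective (conjOp_inv_cancel g)

variable (hf : Sym f)
include hf

theorem sie_conjOp {g : GL (Fin k) F} (hg : g ∈ isoW f) (e a : W F k) :
    conjOp g (sie hf e a) = sie hf (lg g e) (lg g a) := by
  rw [sie, sie, map_add, map_add, map_smul, conjOp_prod, conjOp_id, nn_conjOp hf hg]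

/-- No excess is inherited by conjugates under wreath elements with isometric factors. -/
theorem NoExcess.map_conj {M : Subgroup (GL (ι → Fin k) F)} (hN : NoExcess hf M) (a : ι → GL (Fin k) F)
    (ha : ∀ i, a i ∈ isoW f) (σ : Equiv.Perm ι) :
    NoExcess hf (M.map (MulAut.conj (tenGL a * permGL σ)).toMonoidHom) := by
  rintro m ε ε' H _ ⟨z, hz, rfl⟩ hC hfix
  set h := tenGL a * permGL σ with hh
  rw [MulEquiv.coe_toMonoidHom, MulAut.conj_apply, ← conjOp_lg] at hC hfix ⊢
  set q := σ.symm m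
  set δ := lg (a m)⁻¹ ε
  set δ' := lg (a m)⁻¹ ε'
  have hi : (a m)⁻¹ ∈ isoW f := (isoW f).inv_mem (ha m)
  have hδ : lg (a m) δ = ε := lg_apply_inv _ _
  have H' : Hyp f δ δ' := ⟨by rw [hi, H.ee], by rw [hi, H.ee'], by rw [hi, H.one]⟩
  have hop : ∀ Y : Module.End F (W F k), conjOp h (op q Y) = op m (conjOp (a m) Y) := fun Y => conjOp_Nst_op a σ m Y
  have hC' : Cen hf q δ (lg z) := fun b hb => conjOp_injective h (by
    rw [conjOp_prod, conjOp_prod, hop, nn_conjOp hf (ha m), hδ]
    exact hC _ (by rw [← hδ, ha m, hb]))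
  have hS : ∀ {T : Module.End F (VI F ι k)} {l : ι} {d d' : W F k}, Hyp f d d' →
      ((∀ u, T (emb l d u) = emb l d u) ↔ T * op l (sq1 hf d) = op l (sq1 hf d)) := fun {T l d d'} G => by
    have := kill_iff hf G (l := l) (T - 1)
    rw [sub_mul, one_mul, sub_eq_zero] at this
    rw [this]
    exact forall_congr' fun u => by rw [LinearMap.sub_apply, Module.End.one_apply, sub_eq_zero]
  have hfix' : ∀ u, lg z (emb q δ u) = emb q δ u := (hS H').2 (conjOp_injective h (by
    rw [conjOp_prod, hop, sq1_conjOp hf (ha m), hδ]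
    exact (hS H).1 hfix))
  obtain ⟨b, hb, hzb⟩ := hN q δ δ' H' z hz hC' hfix'
  refine ⟨lg (a m) b, by rw [← hδ, ha m, hb], ?_⟩
  rw [hzb, hop, sie_conjOp hf (ha m), hδ]

omit hf in
/-- An element fusing a short element into the wreath group lies in it. -/
theorem hR_of_lead [Fintype F] (hS : Std f) {M : Subgroup (GL (ι → Fin k) F)} (hM : Ovr f M)
    (hN : NoExcess hS.sym M)
    (hnorm : ∀ (l : ι) (A : GL (Oth l → Fin k) F), IsSim f A →
      (∀ T ∈ soS hS.sym, lg A * T * lg A⁻¹ ∈ soS hS.sym) → A ∈ Nst F k (Oth l))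
    (hlead : ∀ M' : Subgroup (GL (ι → Fin k) F), Ovr f M' → NoExcess hS.sym M' → ∀ l e e', Hyp f e e' →
      leadGrp hS.sym M' l e ≤ Nst F k (Oth l)) :
    ∀ g ∈ M, ∀ (l : ι) (e e' : W F k) (H : Hyp f e e') (a : W F k) (a1 : f a e = 0), f a e' = 0 →
      f a a ≠ 0 →
      (k = 3 → ∀ c : F, g * opGL l (sieW hS.sym hS.two H.ee (a := c • a)
        (by rw [hS.sym.smul_left, a1, mul_zero])) * g⁻¹ ∈ Nst F k ι) →
      g * opGL l (sieW hS.sym hS.two H.ee a1) * g⁻¹ ∈ Nst F k ι → g ∈ Nst F k ι := by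
  classical
  intro g hg l e e' H a a1 a2 a3 hall hy
  have hf := hS.sym
  have h2 := hS.two
  obtain ⟨p, e₁, ν, -, hν, he₁0, he₁, -, hsq⟩ := fusion hS (isSim_of_iso (hM.le hg)) l H a1 a2 a3 hall hy
  obtain ⟨β, hβ, hβe⟩ := exists_iso_map hf h2 he₁ H.ee he₁0 (H.ne hf)
  set c : ι → GL (Fin k) F := Function.update 1 l β with hc
  have hcW : ∀ i, c i ∈ isoW f := fun i => by
    by_cases hi : i = l
    · subst hi; rwa [hc, Function.update_self]
    · rw [hc, Function.update_of_ne hi]; exact (isoW f).one_mem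
  set σ := Equiv.swap p l
  set h := tenGL c * permGL σ with hh
  have hhN : h ∈ Nst F k ι := (Nst F k ι).mul_mem (tenGL_mem _) (permGL_mem _)
  have hhG : h ∈ isoV f := (isoV f).mul_mem
    (tenGL_iso hf (fun _ => 1) (fun i u w => by rw [one_mul]; exact hcW i u w) Finset.prod_const_one)
    (permGL_iso hf _)
  set M' := M.map (MulAut.conj h).toMonoidHom
  have hM' : Ovr f M' := hM.conj_ovr hf hhN hhG
  have hN' : NoExcess hf M' := NoExcess.map_conj hf hN c hcW σ
  set g' := h * g with hg'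
  have hg'G : g' ∈ isoV f := (isoV f).mul_mem hhG (hM.le hg)
  have hconj : ∀ x ∈ M, g' * x * g'⁻¹ ∈ M' := fun x hx =>
    ⟨g * x * g⁻¹, M.mul_mem (M.mul_mem hg hx) (M.inv_mem hg), by
      rw [MulEquiv.coe_toMonoidHom, MulAut.conj_apply]; simp only [hg', hh, mul_inv_rev, mul_assoc]⟩
  set S := op l (sq1 hf e) with hSdef
  have hgS : conjOp g' S = ν • S := by
    rw [hg', conjOp_mul, conjOp_apply g, hSdef, hsq, map_smul]
    congr 1
    rw [hh, show p = σ.symm l by simp [σ], conjOp_Nst_op, hc, Function.update_self, sq1_conjOp hf hβ, hβe]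
  have hgS' : lg g' * S = ν • (S * lg g') := by
    rw [← smul_mul_assoc, ← hgS, conjOp_apply, mul_assoc, lg_conj_inv, mul_one]
  have key := ruler hf hS hM hM' hN' hg'G hconj H hν hgS' (fun A hAs hAu => by
    refine mem_Nst_of_conj_sie hS hAs (hnorm l A) fun q ε ε₂ G b hb hb2 => hlead M' hM' hN' l e e' H ?_
    obtain ⟨x, hx, hxS, hxu⟩ := (leadGrp_ovr hf hM H).sie_mem hf h2 q G.ee hb
    refine ⟨g' * x * g'⁻¹, hconj x hx, ?_, fun u => ?_⟩
    · have hxS' : conjOp x S = S := conjOp_eq hxS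
      have hinv : conjOp g'⁻¹ S = ν⁻¹ • S := by
        have := congrArg (conjOp g'⁻¹) hgS
        rw [conjOp_inv_cancel, map_smul] at this
        conv_rhs => rw [this, inv_smul_smul₀ hν]
      have hfin : conjOp (g' * x * g'⁻¹) S = S := by
        rw [conjOp_mul, conjOp_mul, hinv, map_smul, map_smul, hxS', hgS, inv_smul_smul₀ hν]
      rw [← hSdef]
      conv_rhs => rw [← hfin]
      rw [conjOp_apply, mul_assoc (_ * S), lg_conj_inv, mul_one]
    · have hpre : lg g'⁻¹ (emb l e u) = ν⁻¹ • emb l e (lg A⁻¹ u) := by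
        have := hAu (lg A⁻¹ u)
        rw [lg_apply_inv] at this
        have e1 := congrArg (lg g'⁻¹) this
        rw [lg_inv_apply, map_smul] at e1
        rw [e1, inv_smul_smul₀ hν]
      rw [map_mul, map_mul, Module.End.mul_apply, Module.End.mul_apply, hpre, map_smul, hxu, map_smul, hAu,
        inv_smul_smul₀ hν, map_mul, map_mul, Module.End.mul_apply, Module.End.mul_apply])
  rw [show g = h⁻¹ * g' by rw [hg', inv_mul_cancel_left]]
  exact (Nst F k ι).mul_mem ((Nst F k ι).inv_mem hhN) key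

end Cfsg.Agent.OWreath
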