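import Cfsg.Agent.Lib.OWreathExcessMid

/-!
An overgroup with excess contains a central element.
-/

set_option autoImplicit false
set_option linter.unusedSectionVars false

namespace Cfsg.Agent.OWreath

open Cfsg.Agent.OTensor (Sym Hyp nn sq1 sie proj0 nn_apply sq1_apply smul_right' sub_left' neg_left')

variable {F : Type*} [Field F] [Fintype F] {k : ℕ} {ι : Type} [Fintype ι] [DecidableEq ι] {f : W F k → W F k → F}
  (hS : Std f) {M : Subgroup (GL (ι → Fin k) F)} (hM : Ovr f M) {l : ι} {e e' : W F k} (H : Hyp f e e')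

include hS hM H

omit hM H in
theorem nn_frame (e e' x : W F k) : nn hS.sym e e' x = f x e' • e - f x e • e' := nn_apply hS.sym e e' x

/-- Averaging over the paired reflections confines the middle to one direction at a chosen position. -/
theorem exists_killed_mid {η : W F k} (h1 : f η e = 0) (h1' : f η e' = 0) (hη : f η η ≠ 0)
    {g : GL (ι → Fin k) F} (hg : g ∈ Rd hS.sym M l e) {X : Oth l → Module.End F (W F k)}
    (hX : mid f l e' (lg g) η = ten X) (q : Oth l) {w v : W F k} (G : Hyp f w v)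
    (hcomm : ∀ u, f u w = 0 → f u v = 0 → rfl' hS.sym u * X q = X q * rfl' hS.sym u) :
    ∃ g' ∈ Rd hS.sym M l e, mid f l e' (lg g') η = ten X ∧ ∀ y, f y e = 0 → f y e' = 0 → f y η = 0 →
      ∀ x, (∀ u, f u w = 0 → f u v = 0 → f x u = 0) → ∀ z, mid f l e' (lg g') y (emb q x z) = 0 := by
  have hf := hS.sym
  have h2 := hS.two
  by_cases h3 : k ≤ 3
  · refine ⟨g, hg, hX, fun y y1 y2 y3 x _ z => ?_⟩
    rw [eq_zero_of_three hf h2 h3 H h1 h1' hη y1 y2 y3]
    show con f l (0 : W F k) (lg g (emb l e' (emb q x z))) = 0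
    simp [con, hf.zero_right]
  obtain ⟨η', p1, p2, p3, p4, p5⟩ := exists_perp_vec hf hS (by omega) H h1 h1' hη
  obtain ⟨γ, hγ, γ1, γ2⟩ := exists_frame_map hf h2 H G
  set u₁ := lg γ η with hu₁
  set u₂ := lg γ η' with hu₂
  have u11 : f u₁ w = 0 := by rw [hu₁, ← γ1, hγ, h1]
  have u12 : f u₁ v = 0 := by rw [hu₁, ← γ2, hγ, h1']
  have u21 : f u₂ w = 0 := by rw [hu₂, ← γ1, hγ, p1]
  have u22 : f u₂ v = 0 := by rw [hu₂, ← γ2, hγ, p2]
  have n1 : f u₁ u₁ = f η η := hγ η η
  have n2 : f u₂ u₂ = f η' η' := hγ η' η'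
  have n12 : f u₂ u₁ = 0 := by rw [hu₁, hu₂, hγ, p3]
  have hu10 : f u₁ u₁ ≠ 0 := by rw [n1]; exact hη
  have hu20 : f u₂ u₂ ≠ 0 := by rw [n2]; exact p4
  clear_value u₁ u₂
  set R₁ := op q (rfl' hf u₁) with hR₁
  set R₂ := op q (rfl' hf u₂) with hR₂
  have R1R1 : R₁ * R₁ = 1 := by rw [hR₁, op_mul, rfl'_sq hf hu10, op_one]
  have R2R2 : R₂ * R₂ = 1 := by rw [hR₂, op_mul, rfl'_sq hf hu20, op_one]
  have R12 : R₁ * R₂ = R₂ * R₁ := by
    rw [hR₁, hR₂, op_mul, op_mul]
    congr 1
    refine LinearMap.ext fun x => ?_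
    have a : f u₁ u₂ = 0 := by rw [OTensor.symm hf, n12]
    simp only [Module.End.mul_apply, rfl', LinearMap.sub_apply, Module.End.one_apply, LinearMap.smul_apply,
      sq1_apply, sub_left' hf, hf.smul_left, n12, a, mul_zero, sub_zero]
    abel
  have hT : ∀ u, f u w = 0 → f u v = 0 → f u u ≠ 0 →
      op q (rfl' hf u) * ten X * op q (rfl' hf u) = ten X := fun u a b c => by
    have : op q (rfl' hf u) * ten X = ten X * op q (rfl' hf u) := by
      simp only [op, ten_mul]
      congr 1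
      funext i
      by_cases hi : i = q
      · subst hi; simp [hcomm u a b]
      · simp [hi]
    rw [this, mul_assoc, op_mul, rfl'_sq hf c, op_one, mul_one]
  have refl_fix : ∀ {η₀ y : W F k}, f y η₀ = 0 → rfl' hf η₀ y = y := fun h => rfl'_perp hf h
  have refl_neg : ∀ {η₀ : W F k}, f η₀ η₀ ≠ 0 → rfl' hf η₀ η₀ = (-1 : F) • η₀ := fun h => by
    rw [rfl'_self hf h, neg_one_smul]
  have mid_neg : ∀ (g : GL (ι → Fin k) F) (y : W F k) (c : F),
      mid f l e' (lg g) (c • y) = c • mid f l e' (lg g) y := fun g y c => LinearMap.ext fun u => by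
    show con f l (c • y) _ = c • con f l y _
    rw [con_smul hf]
    rfl
  -- first step
  obtain ⟨gf, hgf, mf⟩ := conj_flip hS hM H h1 h1' hη q n1 hg
  obtain ⟨g₁, hg₁, m₁⟩ := mid_smul hS hM H ((Rd hf M l e).mul_mem hg ((Rd hf M l e).inv_mem hgf)) (2 : F)⁻¹
  have M₁ : ∀ y, f y e = 0 → f y e' = 0 → mid f l e' (lg g₁) y =
      (2 : F)⁻¹ • (mid f l e' (lg g) y - R₁ * mid f l e' (lg g) (rfl' hf η y) * R₁) := fun y y1 y2 => by
    rw [m₁ y y1 y2, mid_mul hS hM H hg ((Rd hf M l e).inv_mem hgf) y1 y2, mid_inv hS hM H hgf y1 y2, mf y,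
      ← sub_eq_add_neg]
  have T₁ : mid f l e' (lg g₁) η = ten X := by
    rw [M₁ η h1 h1', refl_neg hη, mid_neg, hX, mul_smul_comm, smul_mul_assoc, hR₁, hT u₁ u11 u12 hu10]
    match_scalars
    field_simp
    ring
  have A₁ : ∀ y, f y e = 0 → f y e' = 0 → f y η = 0 →
      R₁ * mid f l e' (lg g₁) y * R₁ = -mid f l e' (lg g₁) y := fun y y1 y2 y3 => by
    rw [M₁ y y1 y2, refl_fix y3]
    simp only [mul_smul_comm, smul_mul_assoc, mul_sub, sub_mul, ← mul_assoc, R1R1, one_mul]
    rw [mul_assoc _ R₁ R₁, R1R1, mul_one]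
    module
  -- second step
  obtain ⟨g₂, hg₂, T₂, A₂⟩ : ∃ g₂ ∈ Rd hf M l e, mid f l e' (lg g₂) η = ten X ∧
      ∀ y, f y e = 0 → f y e' = 0 → f y η = 0 → R₁ * mid f l e' (lg g₂) y * R₁ = -mid f l e' (lg g₂) y ∧
        R₂ * mid f l e' (lg g₂) y * R₂ = -mid f l e' (lg g₂) y := by
    rcases p5 with p5 | p5
    · obtain ⟨gh, hgh, mh⟩ := conj_flip hS hM H h1 h1' hη q (n2.trans p5) hg₁
      obtain ⟨g₂, hg₂, m₂⟩ := mid_smul hS hM H ((Rd hf M l e).mul_mem hg₁ ((Rd hf M l e).inv_mem hgh)) (2 : F)⁻¹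
      have M₂ : ∀ y, f y e = 0 → f y e' = 0 → mid f l e' (lg g₂) y =
          (2 : F)⁻¹ • (mid f l e' (lg g₁) y - R₂ * mid f l e' (lg g₁) (rfl' hf η y) * R₂) := fun y y1 y2 => by
        rw [m₂ y y1 y2, mid_mul hS hM H hg₁ ((Rd hf M l e).inv_mem hgh) y1 y2, mid_inv hS hM H hgh y1 y2, mh y,
          ← sub_eq_add_neg]
      refine ⟨g₂, hg₂, ?_, fun y y1 y2 y3 => ⟨?_, ?_⟩⟩
      · rw [M₂ η h1 h1', refl_neg hη, mid_neg, T₁, mul_smul_comm, smul_mul_assoc, hR₂, hT u₂ u21 u22 hu20]
        match_scalars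
        field_simp
        ring
      · rw [M₂ y y1 y2, refl_fix y3]
        have hA := A₁ y y1 y2 y3
        simp only [mul_smul_comm, smul_mul_assoc, mul_sub, sub_mul, hA]
        rw [show R₁ * (R₂ * mid f l e' (lg g₁) y * R₂) * R₁ = R₂ * (R₁ * mid f l e' (lg g₁) y * R₁) * R₂ by
          simp only [← mul_assoc]
          rw [R12]
          simp only [mul_assoc]
          rw [R12], hA, OTensor.mul_neg', OTensor.neg_mul']
        module
      · rw [M₂ y y1 y2, refl_fix y3]
        simp only [mul_smul_comm, smul_mul_assoc, mul_sub, sub_mul, ← mul_assoc, R2R2, one_mul]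
        rw [mul_assoc _ R₂ R₂, R2R2, mul_one]
        module
    · have q1 : f η η' = 0 := by rw [OTensor.symm hf, p3]
      obtain ⟨gh, hgh, mh⟩ := conj_flip hS hM H p1 p2 p4 q n2 hg₁
      obtain ⟨g₂, hg₂, m₂⟩ := mid_smul hS hM H ((Rd hf M l e).mul_mem hg₁ hgh) (2 : F)⁻¹
      have M₂ : ∀ y, f y e = 0 → f y e' = 0 → mid f l e' (lg g₂) y =
          (2 : F)⁻¹ • (mid f l e' (lg g₁) y + R₂ * mid f l e' (lg g₁) (rfl' hf η' y) * R₂) := fun y y1 y2 => by
        rw [m₂ y y1 y2, mid_mul hS hM H hg₁ hgh y1 y2, mh y]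
      refine ⟨g₂, hg₂, ?_, fun y y1 y2 y3 => ?_⟩
      · rw [M₂ η h1 h1', refl_fix q1, T₁, hR₂, hT u₂ u21 u22 hu20]
        match_scalars
        field_simp
        ring
      · set c := f y η' / f η' η' with hc
        have hy : y = c • η' := by
          refine sub_eq_zero.1 (p5 _ ?_ ?_ ?_ ?_) <;>
            rw [sub_left' hf, hf.smul_left] <;> simp [y1, y2, y3, p1, p2, p3, hc, div_mul_cancel₀ _ p4]
        have hA := A₁ y y1 y2 y3
        rw [M₂ y y1 y2, show rfl' hf η' y = (-1 : F) • y by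
          rw [hy, map_smul, refl_neg p4, smul_comm]]
        rw [mid_neg]
        constructor
        · simp only [mul_smul_comm, smul_mul_assoc, mul_add, add_mul, hA]
          rw [show R₁ * (R₂ * mid f l e' (lg g₁) y * R₂) * R₁ = R₂ * (R₁ * mid f l e' (lg g₁) y * R₁) * R₂ by
            simp only [← mul_assoc]
            rw [R12]
            simp only [mul_assoc]
            rw [R12], hA, OTensor.mul_neg', OTensor.neg_mul']
          module
        · simp only [mul_smul_comm, smul_mul_assoc, mul_add, add_mul, ← mul_assoc, R2R2, one_mul]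
          rw [mul_assoc _ R₂ R₂, R2R2, mul_one]
          module
  refine ⟨g₂, hg₂, T₂, fun y y1 y2 y3 x hx z => ?_⟩
  obtain ⟨a1, a2⟩ := A₂ y y1 y2 y3
  set m := mid f l e' (lg g₂) y
  have hfix : ∀ {u}, f u w = 0 → f u v = 0 → op q (rfl' hf u) (emb q x z) = emb q x z := fun a b => by
    rw [op_emb, rfl'_perp hf (hx _ a b)]
  have key : ∀ {u}, f u w = 0 → f u v = 0 → f u u ≠ 0 → op q (rfl' hf u) * m * op q (rfl' hf u) = -m →
      op q (sq1 hf u) (m (emb q x z)) = f u u • m (emb q x z) := by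
    intro u a b hu hm
    have h := LinearMap.congr_fun hm (emb q x z)
    rw [Module.End.mul_apply, Module.End.mul_apply, hfix a b, LinearMap.neg_apply, rfl', op_sub, op_one, op_smul,
      LinearMap.sub_apply, Module.End.one_apply, LinearMap.smul_apply, sub_eq_iff_eq_add] at h
    have h' := congrArg (fun r => (f u u / 2) • r) h
    simp only [smul_add, smul_neg, smul_smul] at h'
    rw [show f u u / 2 * (2 * (f u u)⁻¹) = 1 by field_simp, one_smul] at h'
    rw [← sub_eq_zero, ← neg_eq_zero] at h'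
    rw [← sub_eq_zero, ← h']
    match_scalars <;> field_simp <;> ring
  have e1 := key u11 u12 hu10 (hR₁ ▸ a1)
  have e2 := key u21 u22 hu20 (hR₂ ▸ a2)
  have e3 : op q (sq1 hf u₂) (op q (sq1 hf u₁) (m (emb q x z))) = 0 := by
    have h0 : sq1 hf u₂ * sq1 hf u₁ = 0 := LinearMap.ext fun x => by
      simp [Module.End.mul_apply, sq1_apply, hf.smul_left, OTensor.symm hf u₁ u₂, n12]
    rw [← Module.End.mul_apply, op_mul, h0, op_zero, LinearMap.zero_apply]
  rw [e1, map_smul, e2, smul_eq_zero, smul_eq_zero] at e3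
  tauto

omit H in
theorem mem_of_halves {c : Oth l → GL (Fin k) F} (hc : ∀ i, ∃ d ∈ isoW f, c i = d * d) :
    outGL l (tenGL c) ∈ M := by
  choose d hd hcd using hc
  have hG : tenGL d ∈ isoV f :=
    tenGL_iso hS.sym (fun _ => 1) (fun i u w => by rw [one_mul]; exact hd i u w) Finset.prod_const_one
  have e : tenGL c = tenGL d * tenGL d := lg_injective (by
    rw [map_mul lg (tenGL d), lg_tenGL, lg_tenGL, ten_mul]
    congr 1
    funext i
    rw [hcd i, map_mul, Pi.mul_apply])
  rw [e]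
  exact (hM.outGL_comap hS.sym l (tenGL_mem d) hG (tenGL_mem d) hG).1

/-- The evaluation of the commutator at a pure vector. -/
theorem pure_contra
    (hall : ∀ g ∈ Rd hS.sym M l e, ∀ g' ∈ Rd hS.sym M l e, lg g * lg g' = lg g' * lg g)
    {η : W F k} (h1 : f η e = 0) (h1' : f η e' = 0) (hη : f η η ≠ 0)
    {g : GL (ι → Fin k) F} (hg : g ∈ Rd hS.sym M l e) {X : Oth l → Module.End F (W F k)}
    (hX : mid f l e' (lg g) η = ten X) {c : Oth l → GL (Fin k) F} (hc : ∀ i, ∃ d ∈ isoW f, c i = d * d)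
    {x : Oth l → W F k}
    (hk1 : ∀ y, f y e = 0 → f y e' = 0 → f y η = 0 → mid f l e' (lg g) y (pv x) = 0)
    (hk2 : ∀ y, f y e = 0 → f y e' = 0 → f y η = 0 → mid f l e' (lg g) y (pv fun i => lg (c i)⁻¹ (x i)) = 0) :
    (pv fun i => X i (lg (c i) (X i (lg (c i)⁻¹ (x i))))) = pv fun i => lg (c i) (X i (lg (c i)⁻¹ (X i (x i)))) := by
  have hf := hS.sym
  obtain ⟨hg', m'⟩ := conj_out hS hM H (tenGL c) (mem_of_halves hS hM hc) hg
  have hinv : lg (tenGL c)⁻¹ = ten fun i => lg (c i)⁻¹ := by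
    rw [show (tenGL c)⁻¹ = tenGL fun i => (c i)⁻¹ from inv_eq_of_mul_eq_one_right (lg_injective (by
      rw [map_mul, lg_tenGL, lg_tenGL, ten_mul, map_one, ← ten_one]
      congr 1
      funext i
      exact lg_mul_inv (c i)))]
    exact lg_tenGL _
  have key := comm_mid hS hM H hg hg' (hall _ hg _ hg') h1 h1' hη hk1 fun y y1 y2 y3 => by
    rw [m' y, Module.End.mul_apply, Module.End.mul_apply, hinv, ten_pv, hk2 y y1 y2 y3, map_zero]
  rw [m' η, hX] at key
  simp only [Module.End.mul_apply, hinv, lg_tenGL, ten_pv] at key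
  exact key

omit hM H in
theorem half_sie {z a : W F k} (hz : f z z = 0) (ha : f a z = 0) :
    ∃ d ∈ isoW f, sieW hS.sym hS.two hz ha = d * d := by
  have hf := hS.sym
  have hh : f ((2 : F)⁻¹ • a) z = 0 := by rw [hf.smul_left, ha, mul_zero]
  exact ⟨_, sieW_iso hf hS.two hz hh, lg_injective (by
    rw [map_mul, lg_sieW, lg_sieW, OTensor.sie_mul hf hS.two hz hh hh, ← add_smul, ← two_mul,
      mul_inv_cancel₀ hS.two, one_smul])⟩

theorem noncentral_false
    (hall : ∀ g ∈ Rd hS.sym M l e, ∀ g' ∈ Rd hS.sym M l e, lg g * lg g' = lg g' * lg g)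
    {g : GL (ι → Fin k) F} (hg : g ∈ Rd hS.sym M l e) {η : W F k} (h1 : f η e = 0) (h1' : f η e' = 0)
    (hη : f η η ≠ 0) (hns : ∀ c : F, mid f l e' (lg g) η ≠ c • 1) : False := by
  classical
  have hf := hS.sym
  have h2 := hS.two
  have he' : f e' e = 1 := by rw [OTensor.symm hf, H.one]
  have zero_mid : ∀ y, f y e = 0 → f y e' = 0 → mid f l e' (lg (1 : GL (ι → Fin k) F)) y = 0 := fun y y1 y2 =>
    LinearMap.ext fun u => by
      show con f l y (lg _ (emb l e' u)) = _
      rw [map_one, Module.End.one_apply, con_emb hf, OTensor.symm hf, y2, zero_smul, LinearMap.zero_apply]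
  let L : Submodule F (Module.End F (VI F (Oth l) k)) :=
    { carrier := {T | ∃ g ∈ Rd hf M l e, mid f l e' (lg g) η = T}
      zero_mem' := ⟨1, (Rd hf M l e).one_mem, zero_mid η h1 h1'⟩
      add_mem' := by
        rintro _ _ ⟨g, hg, rfl⟩ ⟨g', hg', rfl⟩
        exact ⟨g * g', (Rd hf M l e).mul_mem hg hg', mid_mul hS hM H hg hg' h1 h1'⟩
      smul_mem' := by
        rintro c _ ⟨g, hg, rfl⟩
        obtain ⟨g', hg', m⟩ := mid_smul hS hM H hg c
        exact ⟨g', hg', m η h1 h1'⟩ }
  have hinv : ∀ (p : Oth l) (z a : W F k), f z z = 0 → f a z = 0 → ∀ T ∈ L,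
      op p (sie hf z a) * T * op p (sie hf z (-a)) ∈ L := by
    rintro p z a hz ha _ ⟨g, hg, rfl⟩
    obtain ⟨hg', m⟩ := conj_out hS hM H (opGL p (sieW hf h2 hz ha))
      (by rw [outGL_opGL]; exact hM.sie_mem hf h2 p.1 hz ha) hg
    exact ⟨_, hg', by rw [m η, lg_opGL, lg_sieW, opGL_inv, lg_opGL, lg_sieW_inv]⟩
  have hrefl : ∀ (p : Oth l) (v : W F k), f v v = f η η → ∀ T ∈ L, op p (rfl' hf v) * T * op p (rfl' hf v) ∈ L := by
    rintro p v hv _ ⟨g, hg, rfl⟩
    obtain ⟨g', hg', m⟩ := conj_flip hS hM H h1 h1' hη p hv hg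
    refine ⟨g'⁻¹, (Rd hf M l e).inv_mem hg', ?_⟩
    rw [mid_inv hS hM H hg' h1 h1', m η, rfl'_self hf hη]
    have : mid f l e' (lg g) (-η) = -mid f l e' (lg g) η := LinearMap.ext fun u => by
      show con f l (-η) _ = -(con f l η _)
      rw [← neg_one_smul F η, con_smul hf, LinearMap.smul_apply, neg_one_smul]
    rw [this, OTensor.mul_neg', OTensor.neg_mul', neg_neg]
  obtain ⟨X₀, hX₀, hX₀', p, hp⟩ := exists_mono_ne hf hS L hinv hη hrefl (T := mid f l e' (lg g) η)
    ⟨g, hg, rfl⟩ hns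
  obtain ⟨X, ⟨g₀, hg₀, hX⟩, hX'⟩ := exists_mono_normal hf hS L hinv hX₀ hX₀' e e'
  have Ne : nn hf e e' e = e := by rw [nn_apply, H.one, H.ee, one_smul, zero_smul, sub_zero]
  have Neη : nn hf e e' η = 0 := by rw [nn_apply, h1, h1']; simp
  have eN : ∀ i, ¬ (∃ w, w ≠ 0 ∧ f w w = 0 ∧ X i = sq1 hf w) → X i = 1 ∨ X i = nn hf e e' := fun i hi => by
    rcases hX' i with ⟨a, b | b⟩ | ⟨a, -⟩
    · exact Or.inl (a.trans b)
    · exact absurd (a ▸ b) hi
    · exact Or.inr a
  have refl_comm : ∀ i u, f u e = 0 → f u e' = 0 → ¬ (∃ w, w ≠ 0 ∧ f w w = 0 ∧ X i = sq1 hf w) →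
      rfl' hf u * X i = X i * rfl' hf u := by
    intro i u a b hi
    rcases eN i hi with h | h <;> rw [h]
    · rw [mul_one, one_mul]
    · refine LinearMap.ext fun x => ?_
      simp only [Module.End.mul_apply, rfl', LinearMap.sub_apply, Module.End.one_apply, LinearMap.smul_apply,
        sq1_apply, nn_apply, sub_left' hf, hf.smul_left, a, b, OTensor.symm hf e u, OTensor.symm hf e' u,
        smul_sub, smul_smul]
      module
  by_cases hA : ∃ q w, w ≠ 0 ∧ f w w = 0 ∧ X q = sq1 hf w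
  · obtain ⟨q, hq⟩ := hA
    have data : ∀ i, ∃ (w z a : W F k) (hz : f z z = 0) (ha : f a z = 0),
        ((∃ w, w ≠ 0 ∧ f w w = 0 ∧ X i = sq1 hf w) →
          Hyp f w z ∧ f a w = 0 ∧ f a a ≠ 0 ∧ X i = sq1 hf w) ∧
        (¬ (∃ w, w ≠ 0 ∧ f w w = 0 ∧ X i = sq1 hf w) → w = e ∧ a = 0) := by
      intro i
      by_cases hi : ∃ w, w ≠ 0 ∧ f w w = 0 ∧ X i = sq1 hf w
      · obtain ⟨w, hw0, hw, hXi⟩ := hi
        obtain ⟨z, hz, hwz⟩ := OTensor.exists_partner hf h2 hw0 hw
        have G : Hyp f w z := ⟨hw, hz, hwz⟩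
        obtain ⟨a, a1, a2, a3⟩ := OTensor.exists_aniso hf h2 hS.hk G
        exact ⟨w, z, a, hz, a2, fun _ => ⟨G, a1, a3, hXi⟩, fun h => absurd ⟨w, hw0, hw, hXi⟩ h⟩
      · exact ⟨e, e', 0, H.ee', hf.zero_left _, fun h => absurd h hi, fun _ => ⟨rfl, rfl⟩⟩
    choose w z a hz ha hyes hno using data
    let c : Oth l → GL (Fin k) F := fun i => sieW hf h2 (hz i) (ha i)
    obtain ⟨G, aw, aa, hXq⟩ := hyes q hq
    have hwinv : lg (c q)⁻¹ (w q) = w q + a q - ((2 : F)⁻¹ * f (a q) (a q)) • z q := by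
      rw [lg_sieW_inv, OTensor.sie_apply hf _ _ _ (hz q) (by rw [neg_left' hf, ha q, neg_zero]), hf.neg_right,
        OTensor.symm hf (w q) (a q), aw, G.one, neg_left' hf, hf.neg_right, neg_neg, mul_one]
      module
    set n := f (a q) (a q)
    set v := (-2 * n⁻¹) • lg (c q)⁻¹ (w q) with hv
    have G' : Hyp f (w q) v := by
      refine ⟨G.ee, ?_, ?_⟩
      · rw [hv, hf.smul_left, smul_right' hf, (isoW f).inv_mem (sieW_iso hf h2 (hz q) (ha q)), G.ee, mul_zero,
          mul_zero]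
      · rw [hv, smul_right' hf, hwinv, hf.sub_right, hf.add_right, smul_right' hf, G.ee, OTensor.symm hf (w q) (a q),
          aw, G.one]
        field_simp
        ring
    obtain ⟨g₁, hg₁, hX₁, kill⟩ := exists_killed_mid hS hM H h1 h1' hη hg₀ hX q G' fun u u1 u2 => by
      rw [hXq]
      refine LinearMap.ext fun x => ?_
      simp only [Module.End.mul_apply, rfl', LinearMap.sub_apply, Module.End.one_apply, LinearMap.smul_apply,
        sq1_apply, sub_left' hf, hf.smul_left, u1, OTensor.symm hf (w q) u]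
      module
    have key := pure_contra hS hM H hall h1 h1' hη hg₁ hX₁ (c := c) (fun i => half_sie hS (hz i) (ha i))
      (x := w) (fun y y1 y2 y3 => by
        rw [pv_restrict q w]
        exact kill y y1 y2 y3 _ (fun u u1 _ => by rw [OTensor.symm hf, u1]) _)
      (fun y y1 y2 y3 => by
        rw [pv_restrict q]
        refine kill y y1 y2 y3 _ (fun u _ u2 => ?_) _
        rw [hv, smul_right' hf, OTensor.symm hf] at u2
        exact (mul_eq_zero.1 u2).resolve_left (mul_ne_zero (neg_ne_zero.2 h2) (inv_ne_zero aa)))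
    have hB : X q (w q) = 0 := by rw [hXq, sq1_apply, G.ee, zero_smul]
    rw [pv_eq_zero (x := fun i => lg (c i) (X i (lg (c i)⁻¹ (X i (w i))))) (i := q)
      (by rw [hB, map_zero, map_zero, map_zero])] at key
    refine pv_ne_zero (fun i => ?_) key
    by_cases hi : ∃ w, w ≠ 0 ∧ f w w = 0 ∧ X i = sq1 hf w
    · obtain ⟨G, aw, aa, hXi⟩ := hyes i hi
      have ha' : f (-a i) (z i) = 0 := by rw [neg_left' hf, ha i, neg_zero]
      have e1 : f (lg (c i)⁻¹ (w i)) (w i) = -((2 : F)⁻¹ * f (a i) (a i)) := by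
        rw [lg_sieW_inv, OTensor.sie_apply hf _ _ _ (hz i) ha']
        simp only [hf.add_left, sub_left' hf, hf.smul_left, hf.neg_right, neg_left' hf, OTensor.symm hf (w i) (a i),
          aw, G.ee, G.one, OTensor.symm hf (z i) (w i)]
        ring
      have e2 : f (lg (c i) (w i)) (w i) = -((2 : F)⁻¹ * f (a i) (a i)) := by
        rw [lg_sieW, OTensor.sie_apply hf _ _ _ (hz i) (ha i)]
        simp only [hf.add_left, sub_left' hf, hf.smul_left, OTensor.symm hf (w i) (a i), aw, G.ee, G.one,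
          OTensor.symm hf (z i) (w i)]
        ring
      have hn : -((2 : F)⁻¹ * f (a i) (a i)) ≠ 0 := neg_ne_zero.2 (mul_ne_zero (inv_ne_zero h2) aa)
      rw [hXi, sq1_apply, sq1_apply, e1, map_smul, hf.smul_left, e2]
      exact smul_ne_zero (mul_ne_zero hn hn) (G.ne hf)
    · obtain ⟨hw, ha0⟩ := hno i hi
      have hc1 : c i = 1 := lg_injective (by
        rw [lg_sieW, ha0, OTensor.sie_zero hf (hz i), map_one])
      rw [hc1, inv_one, map_one, Module.End.one_apply, Module.End.one_apply, hw]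
      rcases eN i hi with h | h <;> simp [h, Ne, H.ne hf]
  · push Not at hA
    have eN' : ∀ i, X i = 1 ∨ X i = nn hf e e' := fun i => eN i (fun ⟨w, a, b, c⟩ => hA i w a b c)
    have hN : X p = nn hf e e' := by
      rcases hX' p with ⟨a, b | ⟨w, w0, ww, b⟩⟩ | ⟨a, -⟩
      · exact absurd b hp
      · exact absurd (a.trans b) (hA p w w0 ww)
      · exact a
    have Xe : ∀ i, X i e = e := fun i => by rcases eN' i with h | h <;> simp [h, Ne]
    by_cases hq : ∃ q, q ≠ p
    · obtain ⟨q, hqp⟩ := hq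
      obtain ⟨g₁, hg₁, hX₁, kill⟩ := exists_killed_mid hS hM H h1 h1' hη hg₀ hX q H fun u u1 u2 =>
        refl_comm q u u1 u2 fun ⟨w, a, b, c⟩ => hA q w a b c
      let c : Oth l → GL (Fin k) F := Function.update 1 p (sieW hf h2 H.ee' h1')
      have hc : ∀ i, ∃ d ∈ isoW f, c i = d * d := fun i => by
        by_cases hi : i = p
        · subst hi; simp only [c, Function.update_self]; exact half_sie hS _ _
        · exact ⟨1, (isoW f).one_mem, by simp [c, hi]⟩
      have hcp : c p = sieW hf h2 H.ee' h1' := Function.update_self ..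
      have hci : ∀ i, i ≠ p → c i = 1 := fun i hi => Function.update_of_ne hi ..
      have hmη : f (-η) e' = 0 := by rw [neg_left' hf, h1', neg_zero]
      have key := pure_contra hS hM H hall h1 h1' hη hg₁ hX₁ hc (x := fun _ => e) (fun y y1 y2 y3 => by
          rw [pv_restrict q]
          exact kill y y1 y2 y3 _ (fun u u1 _ => by rw [OTensor.symm hf, u1]) _)
        (fun y y1 y2 y3 => by
          rw [pv_restrict q]
          refine kill y y1 y2 y3 _ (fun u u1 _ => ?_) _
          rw [hci q hqp, inv_one, map_one, Module.End.one_apply, OTensor.symm hf, u1])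
      have l1 : lg (sieW hf h2 H.ee' h1')⁻¹ e = e + η - ((2 : F)⁻¹ * f η η) • e' := by
        rw [lg_sieW_inv, OTensor.sie_apply hf e' (-η) e H.ee' hmη, hf.neg_right, OTensor.symm hf e η, h1, H.one,
          neg_left' hf, hf.neg_right, neg_neg, mul_one]
        module
      have l2 : lg (sieW hf h2 H.ee' h1') e = e - η - ((2 : F)⁻¹ * f η η) • e' := by
        rw [lg_sieW, OTensor.sie_apply hf e' η e H.ee' h1', OTensor.symm hf e η, h1, H.one, mul_one]
        module
      have l3 : lg (sieW hf h2 H.ee' h1') e' = e' := by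
        rw [lg_sieW, OTensor.sie_apply hf e' η e' H.ee' h1', OTensor.symm hf e' η, h1', H.ee']
        simp
      have Ne' : nn hf e e' e' = -e' := by rw [nn_apply, H.ee', he', zero_smul, one_smul, zero_sub]
      have eA : X p (lg (c p) (X p (lg (c p)⁻¹ e))) = e := by
        rw [hcp, hN, l1]
        simp only [map_add, map_sub, map_smul, Ne, Neη, Ne', map_neg, smul_neg, l2, l3, map_zero]
        module
      have eB : lg (c p) (X p (lg (c p)⁻¹ (X p e))) = e - η := by
        rw [Xe p, hcp, hN, l1]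
        simp only [map_add, map_sub, map_smul, Ne, Neη, Ne', map_neg, smul_neg, l2, l3, map_zero]
        module
      have other : ∀ i, i ≠ p → lg (c i) (X i (lg (c i)⁻¹ e)) = e ∧ lg (c i) (X i (lg (c i)⁻¹ (X i e))) = e := by
        intro i hi
        rw [hci i hi]
        simp [Xe i]
      have eL : (fun i => X i (lg (c i) (X i (lg (c i)⁻¹ e)))) = Function.update (fun _ => e) p e := funext fun i => by
        by_cases hi : i = p
        · subst hi; rw [Function.update_self, eA]
        · rw [Function.update_of_ne hi, (other i hi).1, Xe]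
      have eR : (fun i => lg (c i) (X i (lg (c i)⁻¹ (X i e)))) = Function.update (fun _ => e) p (e - η) :=
        funext fun i => by
          by_cases hi : i = p
          · subst hi; rw [Function.update_self, eB]
          · rw [Function.update_of_ne hi, (other i hi).2]
      rw [eL, eR] at key
      have h0 := pv_update_add (fun _ : Oth l => e) p (e - η) η
      rw [sub_add_cancel, key, left_eq_add] at h0
      refine pv_ne_zero (fun i => ?_) h0
      by_cases hi : i = p
      · subst hi; rw [Function.update_self]; intro h; rw [h, hf.zero_left] at hη; exact hη rfl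
      · rw [Function.update_of_ne hi]; exact H.ne hf
    · push Not at hq
      have hT : ∀ x : W F k, ten X (pv fun _ => x) = pv fun _ => nn hf e e' x := fun x => by
        rw [ten_pv]
        congr 1
        funext i
        rw [hq i, hN]
      have h := mid_adj hS hM H hg₀ h1 h1' (pv fun _ => e) (pv fun _ => e')
      rw [hX, hT, hT, Ne, show nn hf e e' e' = -e' by rw [nn_apply, H.ee', he', zero_smul, one_smul, zero_sub],
        bT_pv hf, bT_pv hf] at h
      have hU : (Finset.univ : Finset (Oth l)) = {p} := Finset.eq_singleton_iff_unique_mem.2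
        ⟨Finset.mem_univ p, fun i _ => hq i⟩
      rw [hU, Finset.prod_singleton, Finset.prod_singleton, H.one, hf.neg_right, H.one] at h
      exact h2 (by linear_combination h)

omit H in
/-- An overgroup with excess contains a central element. -/
theorem exists_central (hN : ¬ NoExcess hS.sym M) : ∃ (l : ι) (e e' : W F k) (Z : Module.End F (VI F (Oth l) k)),
    Hyp f e e' ∧ Z ≠ 0 ∧ El M (op l (sq1 hS.sym e) * out l Z) := by
  have hf := hS.sym
  have h2 := hS.two
  simp only [NoExcess] at hN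
  push Not at hN
  obtain ⟨l, e, e', H, g, hgM, hgC, hgf, hex⟩ := hN
  obtain ⟨u₀, -, -, u3⟩ := OTensor.exists_aniso hf h2 hS.hk H
  have hne : ∃ u : VI F (Oth l) k, bT f u u ≠ 0 :=
    ⟨pv fun _ => u₀, by rw [bT_pv hf]; exact Finset.prod_ne_zero_iff.2 fun _ _ => u3⟩
  have hg : g ∈ Rd hf M l e := ⟨hgM, hgC, hgf⟩
  refine ⟨l, e, e', ?_⟩
  suffices ∃ Z, Z ≠ 0 ∧ El M (op l (sq1 hf e) * out l Z) by
    obtain ⟨Z, hZ, hZ'⟩ := this
    exact ⟨Z, H, hZ, hZ'⟩
  by_cases hall : ∀ g ∈ Rd hf M l e, ∀ g' ∈ Rd hf M l e, lg g * lg g' = lg g' * lg g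
  · by_cases hs : ∀ y, f y e = 0 → f y e' = 0 → f y y ≠ 0 → ∃ c : F, mid f l e' (lg g) y = c • 1
    · refine central_of_scalar hS hM H hne hg (fun y hy => ?_) hex
      have add : ∀ a b, mid f l e' (lg g) (a + b) = mid f l e' (lg g) a + mid f l e' (lg g) b := fun a b => by
        simp only [mid, con_add hf, LinearMap.add_comp]
      have smul : ∀ (c : F) a, mid f l e' (lg g) (c • a) = c • mid f l e' (lg g) a := fun c a => by
        simp only [mid, con_smul hf, LinearMap.smul_comp]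
      obtain ⟨y1, y2⟩ := OTensor.proj0_perp hf H y
      obtain ⟨u, u1, u2, u3'⟩ := OTensor.exists_aniso hf h2 hS.hk H
      obtain ⟨c₀, hc₀⟩ : ∃ c : F, mid f l e' (lg g) (proj0 f e e' y) = c • 1 := by
        set z := proj0 f e e' y
        by_cases hz : f z z = 0
        · obtain ⟨v, v1, v2, v3, v4⟩ : ∃ v, f v e = 0 ∧ f v e' = 0 ∧ f v v ≠ 0 ∧ f (z + v) (z + v) ≠ 0 := by
            by_cases hh : f (z + u) (z + u) = 0
            · refine ⟨-u, by rw [neg_left' hf, u1, neg_zero], by rw [neg_left' hf, u2, neg_zero],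
                by simpa [neg_left' hf, hf.neg_right] using u3', fun hh' => u3' ?_⟩
              simp only [hf.add_left, hf.add_right, neg_left' hf, hf.neg_right, hz] at hh hh'
              exact (mul_eq_zero.1 (show (2 : F) * f u u = 0 by linear_combination hh + hh')).resolve_left h2
            · exact ⟨u, u1, u2, u3', hh⟩
          obtain ⟨a, ha⟩ := hs (z + v) (by rw [hf.add_left, y1, v1, add_zero]) (by rw [hf.add_left, y2, v2, add_zero]) v4
          obtain ⟨b, hb⟩ := hs v v1 v2 v3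
          refine ⟨a - b, ?_⟩
          rw [add, hb, ← eq_sub_iff_add_eq] at ha
          rw [ha]
          module
        · exact hs z y1 y2 hz
      refine ⟨f y e' + c₀, ?_⟩
      have me : mid f l e' (lg g) e = 1 := LinearMap.ext fun u => rd_one_e hS hM H hg u
      conv_lhs => rw [OTensor.decomp hf e e' y, hy, zero_smul, add_zero]
      rw [add, smul, me, hc₀, add_smul]
    · push Not at hs
      obtain ⟨η, h1, h1', hη, hns⟩ := hs
      exact (noncentral_false hS hM H hall hg h1 h1' hη hns).elim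
  · push Not at hall
    obtain ⟨g₁, hg₁, g₂, hg₂, hne'⟩ := hall
    exact central_of_noncomm hS hM H hne hg₁ hg₂ hne'

end Cfsg.Agent.OWreath
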