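import Cfsg.Agent.Lib.TensorWreath43Lift
import Cfsg.Agent.Lib.TensorMaxLinear

/-!
An overgroup with a non-scalar element in the radical of a ruler stabiliser contains all transvections.
-/

set_option autoImplicit false
set_option linter.unusedSectionVars false

namespace Cfsg.Agent.TensorWreath43

open scoped Matrix

variable {F : Type*} [Field F] {t m : ℕ}

/-- Some element of `M` is `1 + Z`. -/
def MemU {R : Type*} [Ring R] (M : Subgroup Rˣ) (Z : R) : Prop := ∃ g ∈ M, (g : R) = 1 + Z

theorem MemU.zero {R : Type*} [Ring R] (M : Subgroup Rˣ) : MemU M (0 : R) := ⟨1, M.one_mem, by simp⟩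

theorem MemU.add {R : Type*} [Ring R] {M : Subgroup Rˣ} {X Y : R} (hX : MemU M X) (hY : MemU M Y) (h : X * Y = 0) :
    MemU M (X + Y) := by
  obtain ⟨g, hg, hgX⟩ := hX
  obtain ⟨g', hg', hgY⟩ := hY
  refine ⟨g * g', M.mul_mem hg hg', ?_⟩
  rw [Units.val_mul, hgX, hgY, add_mul, one_mul, mul_add, mul_one, h]
  abel

theorem MemU.neg {R : Type*} [Ring R] {M : Subgroup Rˣ} {X : R} (hX : MemU M X) (h : X * X = 0) : MemU M (-X) := by
  obtain ⟨g, hg, hgX⟩ := hX
  refine ⟨g⁻¹, M.inv_mem hg, ?_⟩
  rw [← sub_eq_add_neg]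
  exact Units.inv_eq_of_mul_eq_one_right (by rw [hgX, add_mul, one_mul, mul_sub, mul_one, h]; abel)

/-- Commutators. -/
theorem MemU.comm {R : Type*} [Ring R] {M : Subgroup Rˣ} {X Z : R} (hX : MemU M X) (hZ : MemU M Z)
    (hXX : X * X = 0) (hZZ : Z * Z = 0) (hZX : Z * X = 0) : MemU M (X * Z) := by
  obtain ⟨g, hg, hgX⟩ := hX
  obtain ⟨g', hg', hgY⟩ := hZ
  refine ⟨g * g' * g⁻¹ * g'⁻¹, M.mul_mem (M.mul_mem (M.mul_mem hg hg') (M.inv_mem hg)) (M.inv_mem hg'), ?_⟩
  have e : ((g⁻¹ : Rˣ) : R) = 1 - X :=
    Units.inv_eq_of_mul_eq_one_right (by rw [hgX, add_mul, one_mul, mul_sub, mul_one, hXX]; abel)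
  have e' : ((g'⁻¹ : Rˣ) : R) = 1 - Z :=
    Units.inv_eq_of_mul_eq_one_right (by rw [hgY, add_mul, one_mul, mul_sub, mul_one, hZZ]; abel)
  rw [Units.val_mul, Units.val_mul, Units.val_mul, hgX, hgY, e, e']
  have h1 : (1 + X) * (1 + Z) * (1 - X) = 1 + Z + X * Z := by
    calc (1 + X) * (1 + Z) * (1 - X) = 1 + Z + X * Z - X * X - Z * X - X * (Z * X) := by noncomm_ring
      _ = _ := by rw [hXX, hZX, mul_zero]; abel
  rw [h1]
  calc (1 + Z + X * Z) * (1 - Z) = 1 + X * Z - Z * Z - X * (Z * Z) := by noncomm_ring
    _ = _ := by rw [hZZ, mul_zero]; abel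

theorem lift_single_mul (j : Fin t) (a b c d : Fin m) :
    lift j (Matrix.single a b (1 : F)) * lift j (Matrix.single c d 1) =
      if b = c then lift j (Matrix.single a d 1) else 0 := by
  rw [← lift_mul]
  split_ifs with h
  · subst h; rw [Matrix.single_mul_single_same, one_mul]
  · rw [Matrix.single_mul_single_of_ne (h := h), lift_zero]

/-- `C` commutes with every lift at the position `j`. -/
def Comm (j : Fin t) (C : Matrix (TI t m) (TI t m) F) : Prop := ∀ η, lift j η * C = C * lift j η

/-- `C` is concentrated at `(a, b)` at the position `j`. -/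
def Loc (j : Fin t) (a b : Fin m) (C : Matrix (TI t m) (TI t m) F) : Prop :=
  lift j (Matrix.single a a 1) * C = C ∧ C * lift j (Matrix.single b b 1) = C

theorem comm_of_singles {j : Fin t} {C : Matrix (TI t m) (TI t m) F}
    (h : ∀ a b, lift j (Matrix.single a b (1 : F)) * C = C * lift j (Matrix.single a b 1)) : Comm j C := by
  intro η
  rw [Matrix.matrix_eq_sum_single η]
  show (liftHom (F := F) j) _ * C = C * (liftHom (F := F) j) _
  simp only [map_sum, Finset.sum_mul, Finset.mul_sum, liftHom_apply]
  refine Finset.sum_congr rfl fun a _ => Finset.sum_congr rfl fun b _ => ?_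
  rw [show Matrix.single a b (η a b) = η a b • Matrix.single a b (1 : F) by rw [Matrix.smul_single, smul_eq_mul, mul_one],
    lift_smul, Matrix.smul_mul, Matrix.mul_smul, h]

theorem Comm.apply_update {j : Fin t} {C : Matrix (TI t m) (TI t m) F} (h : Comm j C) (x y : TI t m) (a : Fin m) :
    C x y = if x j = y j then C (Function.update x j a) (Function.update y j a) else 0 := by
  have e := congrFun (congrFun (h (Matrix.single (x j) a (1 : F))) x) (Function.update y j a)
  rw [lift_mul_apply, mul_lift_apply, Finset.sum_eq_single a (fun c _ hc => by simp [Ne.symm hc]) (by simp),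
    Matrix.single_apply_same, one_mul, Finset.sum_eq_single (x j) (fun c _ hc => by simp [Ne.symm hc]) (by simp)] at e
  simp only [Function.update_idem, Function.update_self, Matrix.single_apply_same, mul_one] at e
  split_ifs with hxy
  · rw [e]
    rw [hxy, Function.update_eq_self]
  · have e' := congrFun (congrFun (h (Matrix.single (x j) (x j) (1 : F))) x) y
    rw [lift_mul_apply, mul_lift_apply, Finset.sum_eq_single (x j) (fun c _ hc => by simp [Ne.symm hc]) (by simp),
      Matrix.single_apply_same, one_mul, Function.update_eq_self,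
      Finset.sum_eq_zero fun c _ => by simp [hxy]] at e'
    exact e'

theorem Loc.apply_eq_zero {j : Fin t} {a b : Fin m} {C : Matrix (TI t m) (TI t m) F} (h : Loc j a b C)
    (x y : TI t m) (hne : x j ≠ a ∨ y j ≠ b) : C x y = 0 := by
  rcases hne with hne | hne
  · rw [← h.1, lift_mul_apply]
    exact Finset.sum_eq_zero fun c _ => by simp [Ne.symm hne]
  · rw [← h.2, mul_lift_apply]
    exact Finset.sum_eq_zero fun c _ => by simp [Ne.symm hne]

/-- A matrix concentrated on `S` and commuting with the lifts elsewhere is a multiple of a monomial. -/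
theorem eq_smul_mono [NeZero m] {S : Finset (Fin t)} {a b : TI t m} {C : Matrix (TI t m) (TI t m) F}
    (hloc : ∀ i ∈ S, Loc i (a i) (b i) C) (hcomm : ∀ i, i ∉ S → Comm i C) :
    ∃ u : F, C = u • mono S a b := by
  classical
  let x0 : TI t m := fun i => if i ∈ S then a i else 0
  let y0 : TI t m := fun i => if i ∈ S then b i else 0
  refine ⟨C x0 y0, Matrix.ext fun x y => ?_⟩
  by_cases h : ∀ i, (i ∈ S → x i = a i ∧ y i = b i) ∧ (i ∉ S → x i = y i)
  · rw [Matrix.smul_apply, mono, if_pos h, smul_eq_mul, mul_one]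
    have key : ∀ s : Finset (Fin t), C x y = C (fun i => if i ∈ s ∧ i ∉ S then 0 else x i)
        (fun i => if i ∈ s ∧ i ∉ S then 0 else y i) := by
      intro s
      induction s using Finset.induction with
      | empty => simp
      | insert k s hk ih =>
        rw [ih]
        by_cases hkS : k ∈ S
        · congr 1 <;> funext i <;> by_cases hi : i = k <;> simp [hi, hkS, hk]
        · rw [(hcomm k hkS).apply_update _ _ 0, if_pos (by simp [hk, (h k).2 hkS])]
          congr 1 <;> funext i <;> by_cases hi : i = k <;> simp [hi, hkS]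
    rw [key Finset.univ]
    congr 1 <;> funext i <;> by_cases hi : i ∈ S <;> simp [x0, y0, hi, ((h i).1)]
  · rw [Matrix.smul_apply, mono, if_neg h, smul_zero]
    push Not at h
    obtain ⟨i, hi⟩ := h
    by_cases hiS : i ∈ S
    · refine (hloc i hiS).apply_eq_zero x y ?_
      by_contra hh
      push Not at hh
      exact absurd (hi (fun _ => hh)).1 (not_not_intro hiS)
    · rw [(hcomm i hiS).apply_update x y (x i), if_neg]
      intro e
      exact (hi (fun h' => absurd h' hiS)).2 e

/-- All monomials supported on `S` with distinct indices are in `M`. -/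
def AllMono (M : Subgroup (GL (TI t m) F)) (S : Finset (Fin t)) : Prop :=
  ∀ a b : TI t m, (∀ i ∈ S, a i ≠ b i) → ∀ u : F, MemU M (u • mono S a b)

section

variable {M : Subgroup (GL (TI t m) F)}

theorem mem_root (hroot : ∀ (j : Fin t) (η : GL (Fin m) F), (η : Matrix (Fin m) (Fin m) F).det = 1 →
      Units.map (liftHom (F := F) j).toMonoidHom η ∈ M) (j : Fin t) {a b : Fin m} (hab : a ≠ b) (u : F) :
    MemU M (u • lift j (Matrix.single a b (1 : F))) := by
  let η : GL (Fin m) F := Matrix.GeneralLinearGroup.mkOfDetNeZero (Matrix.transvection a b u)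
    (by rw [Matrix.det_transvection_of_ne a b hab]; exact one_ne_zero)
  have hη : (η : Matrix (Fin m) (Fin m) F) = Matrix.transvection a b u := rfl
  refine ⟨_, hroot j η (by rw [hη, Matrix.det_transvection_of_ne a b hab]), ?_⟩
  show liftHom j (η : Matrix (Fin m) (Fin m) F) = _
  rw [hη, Matrix.transvection, map_add, map_one, liftHom_apply, ← lift_smul, Matrix.smul_single, smul_eq_mul, mul_one]

theorem exists_third_index (hm : 3 ≤ m) (a b : Fin m) : ∃ c : Fin m, c ≠ a ∧ c ≠ b := by
  obtain ⟨c, hc⟩ := (({a, b} : Finset (Fin m))ᶜ).card_pos.1 (by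
    rw [Finset.card_compl, Fintype.card_fin]
    have := Finset.card_le_two (a := a) (b := b)
    omega)
  exact ⟨c, by simpa using hc⟩

/-- The union of overlapping supports. -/
theorem AllMono.union (hm : 3 ≤ m) {S₁ S₂ : Finset (Fin t)} (h1 : AllMono M S₁) (h2 : AllMono M S₂)
    (hne : ∃ i, i ∈ S₁ ∧ i ∈ S₂) : AllMono M (S₁ ∪ S₂) := by
  classical
  intro a b hab u
  choose z hza hzb using fun i => exists_third_index hm (a i) (b i)
  let b₁ : TI t m := fun i => if i ∈ S₂ then z i else b i
  let a₂ : TI t m := fun i => if i ∈ S₁ then z i else a i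
  have hX := h1 a b₁ (fun i hi => by
    simp only [b₁]
    split_ifs
    · exact (hza i).symm
    · exact hab i (Finset.mem_union_left _ hi)) u
  have hY := h2 a₂ b (fun i hi => by
    simp only [a₂]
    split_ifs
    · exact hzb i
    · exact hab i (Finset.mem_union_right _ hi)) 1
  rw [one_smul] at hY
  obtain ⟨k, hk1, hk2⟩ := hne
  have hXX : u • mono S₁ a b₁ * u • mono S₁ a b₁ = (0 : Matrix (TI t m) (TI t m) F) := by
    rw [Matrix.smul_mul, Matrix.mul_smul, mono_mul_eq_zero S₁ S₁ a b₁ a b₁ hk1 hk1 (by simp [b₁, hk2, hza k]),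
      smul_zero, smul_zero]
  have hYY : mono S₂ a₂ b * mono S₂ a₂ b = (0 : Matrix (TI t m) (TI t m) F) :=
    mono_mul_eq_zero S₂ S₂ a₂ b a₂ b hk2 hk2 (by simp [a₂, hk1, (hzb k).symm])
  have hYX : mono S₂ a₂ b * u • mono S₁ a b₁ = (0 : Matrix (TI t m) (TI t m) F) := by
    rw [Matrix.mul_smul, mono_mul_eq_zero S₂ S₁ a₂ b a b₁ hk2 hk1 (hab k (Finset.mem_union_left _ hk1)).symm, smul_zero]
  have := MemU.comm hX hY hXX hYY hYX
  rw [Matrix.smul_mul, mono_mul S₁ S₂ a b₁ a₂ b (fun i hi hi' => by simp [b₁, a₂, hi, hi'])] at this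
  rwa [mono_congr (S₁ ∪ S₂) (a' := a) (b' := b) (fun i hi => ?_) (fun i hi => ?_)] at this
  · by_cases h : i ∈ S₁
    · simp [h]
    · simp [a₂, h]
  · by_cases h : i ∈ S₂
    · simp [h]
    · simp [b₁, h]

/-- From one index pair to all. -/
theorem allMono_of_one (hm : 3 ≤ m)
    (hroot : ∀ (j : Fin t) (η : GL (Fin m) F), (η : Matrix (Fin m) (Fin m) F).det = 1 →
      Units.map (liftHom (F := F) j).toMonoidHom η ∈ M)
    {S : Finset (Fin t)} (hS : S.Nonempty) {a b : TI t m} (hab : ∀ i ∈ S, a i ≠ b i)
    (h : ∀ u : F, MemU M (u • mono S a b)) : AllMono M S := by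
  classical
  let P : TI t m → TI t m → Prop := fun a b => ∀ u : F, MemU M (u • mono S a b)
  obtain ⟨k, hk⟩ := hS
  have sq : ∀ (a b : TI t m), (∀ i ∈ S, a i ≠ b i) → ∀ u : F,
      u • mono S a b * u • mono S a b = (0 : Matrix (TI t m) (TI t m) F) := fun a b h u => by
    rw [Matrix.smul_mul, Matrix.mul_smul, mono_mul_eq_zero S S a b a b hk hk (h k hk).symm, smul_zero, smul_zero]
  -- one move in a row index
  have moveA : ∀ a b, (∀ i ∈ S, a i ≠ b i) → P a b → ∀ i ∈ S, ∀ c, c ≠ b i → P (Function.update a i c) b := by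
    intro a b hab hP i hi c hcb
    by_cases hca : c = a i
    · subst hca; rwa [Function.update_eq_self]
    intro u
    have hX := mem_root hroot i hca 1
    rw [one_smul, show Matrix.single c (a i) (1 : F) =
      Matrix.single ((Function.update a i c) i) (a i) (1 : F) by rw [Function.update_self]] at hX
    rw [lift_single i (Function.update a i c) a] at hX
    have := MemU.comm hX (hP u) (mono_mul_eq_zero _ _ _ _ _ _ (Finset.mem_singleton_self i) (Finset.mem_singleton_self i)
      (by simp [Ne.symm hca])) (sq a b hab u)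
      (by rw [Matrix.smul_mul, mono_mul_eq_zero S {i} a b (Function.update a i c) a hi (Finset.mem_singleton_self i)
        (by simp [Ne.symm hcb]), smul_zero])
    rw [Matrix.mul_smul, mono_mul {i} S _ _ _ _ (fun l hl _ => by rw [Finset.mem_singleton.1 hl])] at this
    rwa [show ({i} : Finset (Fin t)) ∪ S = S from Finset.union_eq_right.2 (by simpa using hi),
      mono_congr S (a' := Function.update a i c) (b' := b) (fun l hl => by
        by_cases hli : l = i
        · subst hli; simp
        · simp [hli]) (fun l hl => by simp [hl])] at this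
  -- one move in a column index
  have moveB : ∀ a b, (∀ i ∈ S, a i ≠ b i) → P a b → ∀ i ∈ S, ∀ c, c ≠ a i → P a (Function.update b i c) := by
    intro a b hab hP i hi c hca
    by_cases hcb : c = b i
    · subst hcb; rwa [Function.update_eq_self]
    intro u
    have hX := mem_root hroot i (Ne.symm hcb) 1
    rw [one_smul, show Matrix.single (b i) c (1 : F) =
      Matrix.single (b i) ((Function.update b i c) i) (1 : F) by rw [Function.update_self]] at hX
    rw [lift_single i b (Function.update b i c)] at hX
    have := MemU.comm (hP u) hX (sq a b hab u)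
      (mono_mul_eq_zero _ _ _ _ _ _ (Finset.mem_singleton_self i) (Finset.mem_singleton_self i) (by simp [hcb]))
      (by rw [Matrix.mul_smul, mono_mul_eq_zero {i} S b (Function.update b i c) a b (Finset.mem_singleton_self i) hi
        (by simp [hca]), smul_zero])
    rw [Matrix.smul_mul, mono_mul S {i} _ _ _ _ (fun l _ hl => by rw [Finset.mem_singleton.1 hl])] at this
    rwa [show S ∪ ({i} : Finset (Fin t)) = S from Finset.union_eq_left.2 (by simpa using hi),
      mono_congr S (a' := a) (b' := Function.update b i c) (fun l hl => by simp [hl]) (fun l hl => by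
        by_cases hli : l = i
        · subst hli; simp
        · simp [hli])] at this
  have chg : ∀ a b, (∀ i ∈ S, a i ≠ b i) → P a b → ∀ i ∈ S, ∀ c d, c ≠ d →
      P (Function.update a i c) (Function.update b i d) := by
    intro a b hab hP i hi c d hcd
    obtain ⟨z, hza, hzc⟩ := exists_third_index hm (a i) c
    have ok : ∀ (a b : TI t m) (c d : Fin m), (∀ l ∈ S, a l ≠ b l) → c ≠ d → ∀ l ∈ S,
        Function.update a i c l ≠ Function.update b i d l := fun a b c d hab hcd l hl => by
      by_cases hli : l = i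
      · subst hli; simpa using hcd
      · simpa [hli] using hab l hl
    have h1 := moveB a b hab hP i hi z hza
    have ok1 : ∀ l ∈ S, a l ≠ Function.update b i z l := by simpa using ok a b (a i) z hab hza.symm
    have h2 := moveA a _ ok1 h1 i hi c (by simpa using hzc.symm)
    have h3 := moveB _ _ (ok a b c z hab hzc.symm) h2 i hi d (by simpa using hcd.symm)
    rwa [Function.update_idem] at h3
  intro a' b' hab'
  have main : ∀ s : Finset (Fin t), s ⊆ S →
      P (fun i => if i ∈ s then a' i else a i) (fun i => if i ∈ s then b' i else b i) := by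
    intro s
    induction s using Finset.induction with
    | empty => intro _; simpa [P] using h
    | insert i s hi ih =>
      intro hs
      rw [Finset.insert_subset_iff] at hs
      have := chg _ _ (fun l hl => by split_ifs <;> [exact hab' l hl; exact hab l hl]) (ih hs.2) i hs.1 (a' i) (b' i)
        (hab' i hs.1)
      convert this using 2 <;> by_cases hh : ‹Fin t› = i <;> simp [hh]
  intro u
  have := main S (Finset.Subset.refl _) u
  rwa [mono_congr S (a' := a') (b' := b') (fun i hi => by simp [hi]) (fun i hi => by simp [hi])] at this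

/-- A non-scalar element in the algebra attached to the position `j` yields a larger monomial support. -/
theorem allMono_of_radical [NeZero m] (hm : 3 ≤ m)
    (hroot : ∀ (j : Fin t) (η : GL (Fin m) F), (η : Matrix (Fin m) (Fin m) F).det = 1 →
      Units.map (liftHom (F := F) j).toMonoidHom η ∈ M)
    (j : Fin t) {C₀ : Matrix (TI t m) (TI t m) F} (hC₀ : Comm j C₀)
    (hns : ¬ ∃ u : F, C₀ = u • 1) {a₀ b₀ : Fin m} (hab₀ : a₀ ≠ b₀)
    (hmem : MemU M (lift j (Matrix.single a₀ b₀ (1 : F)) * C₀)) :
    ∃ S : Finset (Fin t), (∃ i, i ≠ j ∧ i ∈ S) ∧ j ∈ S ∧ AllMono M S := by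
  classical
  let L : Fin t → Fin m → Fin m → Matrix (TI t m) (TI t m) F := fun i a b => lift i (Matrix.single a b (1 : F))
  let 𝒩 : Matrix (TI t m) (TI t m) F → Prop := fun C => Comm j C ∧ ∀ a b, a ≠ b → MemU M (L j a b * C)
  have LC : ∀ C, Comm j C → ∀ a b c d, L j a b * C * (L j c d) = if b = c then L j a d * C else 0 := by
    intro C hC a b c d
    rw [mul_assoc, ← hC, ← mul_assoc, lift_single_mul]
    split_ifs <;> simp [L]
  have LCsq : ∀ C, Comm j C → ∀ a b, a ≠ b → L j a b * C * (L j a b * C) = 0 := by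
    intro C hC a b hab
    rw [← mul_assoc, LC C hC, if_neg hab.symm, zero_mul]
  have start : 𝒩 C₀ := by
    refine ⟨hC₀, ?_⟩
    have stepB : ∀ a b d, a ≠ b → d ≠ a → d ≠ b → MemU M (L j a b * C₀) → MemU M (L j a d * C₀) := by
      intro a b d hab hda hdb h
      have := MemU.comm h (mem_root hroot j (Ne.symm hdb) 1) (LCsq C₀ hC₀ a b hab)
        (by rw [one_smul, lift_single_mul, if_neg hdb])
        (by rw [one_smul, ← mul_assoc, lift_single_mul, if_neg hda, zero_mul])
      rwa [one_smul, LC C₀ hC₀, if_pos rfl] at this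
    have stepA : ∀ a b c, a ≠ b → c ≠ a → c ≠ b → MemU M (L j a b * C₀) → MemU M (L j c b * C₀) := by
      intro a b c hab hca hcb h
      have := MemU.comm (mem_root hroot j hca 1) h
        (by rw [one_smul, lift_single_mul, if_neg hca.symm]) (LCsq C₀ hC₀ a b hab)
        (by rw [one_smul, LC C₀ hC₀, if_neg hcb.symm])
      rwa [one_smul, ← mul_assoc, lift_single_mul, if_pos rfl] at this
    have goB : ∀ a b d, a ≠ b → d ≠ a → MemU M (L j a b * C₀) → MemU M (L j a d * C₀) := by
      intro a b d hab hda h
      by_cases hdb : d = b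
      · subst hdb; exact h
      · exact stepB a b d hab hda hdb h
    have goA : ∀ a b c, a ≠ b → c ≠ b → MemU M (L j a b * C₀) → MemU M (L j c b * C₀) := by
      intro a b c hab hcb h
      by_cases hca : c = a
      · subst hca; exact h
      · exact stepA a b c hab hca hcb h
    intro a b hab
    obtain ⟨z, hza, hzb⟩ := exists_third_index hm a₀ a
    exact goB _ _ _ hzb.symm hab.symm (goA _ _ _ hza.symm hzb.symm (goB _ _ _ hab₀ hza hmem))
  -- closure properties
  have hmul : ∀ C D, 𝒩 C → 𝒩 D → 𝒩 (C * D) := by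
    intro C D hC hD
    refine ⟨fun η => by rw [← mul_assoc, hC.1, mul_assoc, hD.1, mul_assoc], fun a b hab => ?_⟩
    obtain ⟨c, hca, hcb⟩ := exists_third_index hm a b
    have := MemU.comm (hC.2 a c hca.symm) (hD.2 c b hcb) (LCsq C hC.1 a c hca.symm) (LCsq D hD.1 c b hcb)
      (by rw [← mul_assoc, LC D hD.1, if_neg hab.symm, zero_mul])
    rwa [← mul_assoc, LC C hC.1, if_pos rfl, mul_assoc] at this
  have hsmul : ∀ C, 𝒩 C → ∀ u : F, 𝒩 (u • C) := by
    intro C hC u
    refine ⟨fun η => by rw [Matrix.mul_smul, Matrix.smul_mul, hC.1], fun a b hab => ?_⟩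
    obtain ⟨c, hca, hcb⟩ := exists_third_index hm a b
    have := MemU.comm (hC.2 a c hca.symm) (mem_root hroot j hcb u) (LCsq C hC.1 a c hca.symm)
      (by rw [Matrix.smul_mul, Matrix.mul_smul, lift_single_mul, if_neg hcb.symm, smul_zero, smul_zero])
      (by rw [Matrix.smul_mul, ← mul_assoc, lift_single_mul, if_neg hab.symm, zero_mul, smul_zero])
    rw [Matrix.mul_smul, LC C hC.1, if_pos rfl] at this
    rwa [Matrix.mul_smul]
  have hsub : ∀ C D, 𝒩 C → 𝒩 D → 𝒩 (C - D) := by
    intro C D hC hD
    refine ⟨fun η => by rw [mul_sub, sub_mul, hC.1, hD.1], fun a b hab => ?_⟩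
    rw [mul_sub, sub_eq_add_neg]
    refine MemU.add (hC.2 a b hab) ((hD.2 a b hab).neg (LCsq D hD.1 a b hab)) ?_
    rw [mul_neg, ← mul_assoc, LC C hC.1, if_neg hab.symm, zero_mul, neg_zero]
  -- conjugation differences at another position
  have hdiff : ∀ C, 𝒩 C → ∀ i, i ≠ j → ∀ a b, a ≠ b →
      𝒩 (L i a b * C - C * L i a b - L i a b * C * L i a b) := by
    intro C hC i hij a b hab
    set E := L i a b
    have hEE : E * E = 0 := by simp only [E, L, lift_single_mul, if_neg hab.symm]
    have hconj : 𝒩 ((1 + E) * C * (1 - E)) := by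
      have hEc : ∀ η, E * lift j η = lift j η * E := fun η => lift_comm hij _ η
      refine ⟨fun η => ?_, fun a' b' hab' => ?_⟩
      · calc lift j η * ((1 + E) * C * (1 - E)) = (lift j η * (1 + E)) * C * (1 - E) := by simp only [mul_assoc]
          _ = (1 + E) * (lift j η * C) * (1 - E) := by rw [mul_add, mul_one, ← hEc]; simp only [add_mul, one_mul, mul_assoc]
          _ = (1 + E) * C * (lift j η * (1 - E)) := by rw [hC.1]; simp only [mul_assoc]
          _ = (1 + E) * C * ((1 - E) * lift j η) := by rw [mul_sub, mul_one, ← hEc, sub_mul, one_mul]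
          _ = _ := by simp only [mul_assoc]
      · obtain ⟨g, hg, hgX⟩ := mem_root hroot i hab 1
        obtain ⟨g', hg', hgC⟩ := hC.2 a' b' hab'
        rw [one_smul] at hgX
        refine ⟨g * g' * g⁻¹, M.mul_mem (M.mul_mem hg hg') (M.inv_mem hg), ?_⟩
        have e : ((g⁻¹ : GL (TI t m) F) : Matrix (TI t m) (TI t m) F) = 1 - E :=
          Units.inv_eq_of_mul_eq_one_right (by rw [hgX, add_mul, one_mul, mul_sub, mul_one, hEE]; abel)
        rw [Units.val_mul, Units.val_mul, hgX, hgC, e, mul_add, add_mul, mul_one]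
        congr 1
        · rw [add_mul, one_mul, mul_sub, mul_one, hEE]; abel
        · calc (1 + E) * (L j a' b' * C) * (1 - E) = ((1 + E) * L j a' b') * C * (1 - E) := by simp only [mul_assoc]
            _ = (L j a' b' * (1 + E)) * C * (1 - E) := by rw [add_mul, one_mul, hEc, mul_add, mul_one]
            _ = _ := by simp only [mul_assoc]
    have h1 := hsub _ _ hconj hC
    have e : (1 + E) * C * (1 - E) - C = E * C - C * E - E * C * E := by noncomm_ring
    rwa [e] at h1
  have hECE : ∀ C, 𝒩 C → ∀ i, i ≠ j → ∀ a b, a ≠ b → 𝒩 (L i a b * C * L i a b) := by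
    intro C hC i hij a b hab
    obtain ⟨c, hca, hcb⟩ := exists_third_index hm a b
    set E1 := L i a b
    set E2 := L i a c
    set E3 := L i c b
    have p12 : E1 * E2 = 0 := by simp only [E1, E2, L, lift_single_mul, if_neg hab.symm]
    have p21 : E2 * E1 = 0 := by simp only [E1, E2, L, lift_single_mul, if_neg hca]
    have p31 : E3 * E1 = 0 := by simp only [E1, E3, L, lift_single_mul, if_neg hab.symm]
    have p32 : E3 * E2 = 0 := by simp only [E2, E3, L, lift_single_mul, if_neg hab.symm]
    have p13 : E1 * E3 = 0 := by simp only [E1, E3, L, lift_single_mul, if_neg hcb.symm]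
    have p23 : E2 * E3 = E1 := by simp only [E1, E2, E3, L, lift_single_mul, if_pos]
    have h1 := hdiff _ (hdiff C hC i hij a c hca.symm) i hij a b hab
    have e1 : E1 * (E2 * C - C * E2 - E2 * C * E2) - (E2 * C - C * E2 - E2 * C * E2) * E1 -
        E1 * (E2 * C - C * E2 - E2 * C * E2) * E1 = -(E1 * C * E2 + E2 * C * E1) := by
      calc _ = (E1 * E2) * C - E1 * C * E2 - (E1 * E2) * C * E2 - E2 * C * E1 + C * (E2 * E1) + E2 * C * (E2 * E1)
            - (E1 * E2) * C * E1 + E1 * C * (E2 * E1) + (E1 * E2) * C * (E2 * E1) := by noncomm_ring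
        _ = _ := by rw [p12, p21]; simp only [zero_mul, mul_zero]; abel
    rw [e1] at h1
    have h2 := hdiff _ h1 i hij c b hcb
    have e2 : E3 * -(E1 * C * E2 + E2 * C * E1) - -(E1 * C * E2 + E2 * C * E1) * E3 -
        E3 * -(E1 * C * E2 + E2 * C * E1) * E3 = E1 * C * E1 := by
      calc _ = -((E3 * E1) * C * E2) - (E3 * E2) * C * E1 + E1 * C * (E2 * E3) + E2 * C * (E1 * E3)
            + (E3 * E1) * C * (E2 * E3) + (E3 * E2) * C * (E1 * E3) := by noncomm_ring
        _ = _ := by rw [p31, p32, p13, p23]; simp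
    rwa [e2] at h2
  -- the reduction
  have main : ∀ K : Finset (Fin t), j ∉ K → ∃ (C : Matrix (TI t m) (TI t m) F) (S : Finset (Fin t)) (a b : TI t m),
      𝒩 C ∧ (¬ ∃ u : F, C = u • 1) ∧ S ⊆ K ∧ (∀ i ∈ S, a i ≠ b i ∧ Loc i (a i) (b i) C) ∧
      ∀ i ∈ K, i ∉ S → Comm i C := by
    intro K
    induction K using Finset.induction with
    | empty => exact fun _ => ⟨C₀, ∅, 0, 0, start, hns, Finset.Subset.refl _, by simp, by simp⟩
    | insert i K hi ih =>
      intro hjK
      rw [Finset.mem_insert, not_or] at hjK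
      obtain ⟨C, S, a, b, hC, hCns, hSK, hloc, hcomm⟩ := ih hjK.2
      by_cases hci : Comm i C
      · refine ⟨C, S, a, b, hC, hCns, hSK.trans (Finset.subset_insert _ _), hloc, fun l hl hlS => ?_⟩
        rcases Finset.mem_insert.1 hl with rfl | hl
        · exact hci
        · exact hcomm l hl hlS
      have hij : i ≠ j := Ne.symm hjK.1
      -- the new matrix
      obtain ⟨C', p, q, hpq, hC', hloc', hne, hkeep⟩ : ∃ (C' : Matrix (TI t m) (TI t m) F) (p q : Fin m), p ≠ q ∧
          𝒩 C' ∧ Loc i p q C' ∧ C' ≠ 0 ∧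
          (∀ A, A * L i p q = L i p q * A →
            (A * C = C * A → A * C' = C' * A) ∧ (A * C = C → A * C' = C') ∧ (C * A = C → C' * A = C')) := by
        by_cases hE : ∃ p q, p ≠ q ∧ L i p q * C * L i p q ≠ 0
        · obtain ⟨p, q, hpq, hne⟩ := hE
          refine ⟨_, p, q, hpq, hECE C hC i hij p q hpq, ⟨?_, ?_⟩, hne, ?_⟩
          · rw [← mul_assoc, ← mul_assoc]
            simp only [L, lift_single_mul, if_pos]
          · rw [mul_assoc (L i p q * C)]
            simp only [L, lift_single_mul, if_pos]
          · intro A hA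
            refine ⟨fun hAC => ?_, fun h => ?_, fun h => ?_⟩
            · rw [← mul_assoc, ← mul_assoc, hA, mul_assoc _ A, hAC, mul_assoc, mul_assoc, hA]
              simp only [mul_assoc]
            · rw [← mul_assoc, ← mul_assoc, hA, mul_assoc _ A, h]
            · rw [mul_assoc, ← hA, ← mul_assoc, mul_assoc _ C A, h]
        · push Not at hE
          have hsum : ∑ p, L i p p = (1 : Matrix (TI t m) (TI t m) F) := by
            show ∑ p, (liftHom (F := F) i) (Matrix.single p p (1 : F)) = 1
            rw [← map_sum, show ∑ p, Matrix.single p p (1 : F) = (1 : Matrix (Fin m) (Fin m) F) by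
              ext x y
              rw [Matrix.sum_apply, Finset.sum_eq_single x (fun p _ hp => by simp [hp]) (by simp)]
              simp [Matrix.one_apply, Matrix.single_apply], map_one]
          have hoff : ∀ p q, p ≠ q → L i q q * C * L i p p = 0 := fun p q hpq => by
            have e : L i q q * C * L i p p = L i q p * (L i p q * C * L i p q) * L i q p := by
              simp only [← mul_assoc, L, lift_single_mul, if_pos]
              simp only [mul_assoc, lift_single_mul, if_pos]
            rw [e, hE p q hpq, mul_zero, zero_mul]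
          have hdiag : ∀ p, L i p p * C = C * L i p p := fun p => by
            have e1 : L i p p * C = L i p p * C * L i p p := by
              conv_lhs => rw [← mul_one (L i p p * C), ← hsum, Finset.mul_sum]
              exact Finset.sum_eq_single p (fun q _ hq => hoff q p hq) (by simp)
            have e2 : C * L i p p = L i p p * C * L i p p := by
              conv_lhs => rw [← one_mul (C * L i p p), ← hsum, Finset.sum_mul]
              rw [Finset.sum_eq_single p (fun q _ hq => by rw [← mul_assoc]; exact hoff p q (Ne.symm hq)) (by simp),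
                mul_assoc]
            rw [e1, e2]
          obtain ⟨p, q, hpq, hne⟩ : ∃ p q, p ≠ q ∧ L i p q * C - C * L i p q ≠ 0 := by
            by_contra! h
            refine hci (comm_of_singles fun p q => ?_)
            by_cases hpq : p = q
            · subst hpq; exact hdiag p
            · exact sub_eq_zero.1 (h p q hpq)
          refine ⟨_, p, q, hpq, ?_, ⟨?_, ?_⟩, hne, ?_⟩
          · have := hdiff C hC i hij p q hpq
            rwa [hE p q hpq, sub_zero] at this
          · rw [mul_sub, ← mul_assoc, ← mul_assoc, hdiag p, mul_assoc C]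
            simp only [L, lift_single_mul, if_pos]
          · rw [sub_mul, mul_assoc, ← hdiag q, mul_assoc, ← mul_assoc]
            simp only [L, lift_single_mul, if_pos, mul_assoc]
          · intro A hA
            refine ⟨fun hAC => ?_, fun h => ?_, fun h => ?_⟩
            · rw [mul_sub, sub_mul, ← mul_assoc, hA, mul_assoc, hAC, ← mul_assoc, ← mul_assoc, hAC, mul_assoc C A, hA]
              simp only [mul_assoc]
            · rw [mul_sub, ← mul_assoc, hA, mul_assoc, h, ← mul_assoc, h]
            · rw [sub_mul, mul_assoc, h, mul_assoc C, ← hA, ← mul_assoc, h]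
      refine ⟨C', insert i S, Function.update a i p, Function.update b i q, hC', ?_,
        Finset.insert_subset_insert _ hSK, fun l hl => ?_, fun l hl hlS => ?_⟩
      · rintro ⟨u, rfl⟩
        refine hne ?_
        have e := hloc'.1
        have e' := hloc'.2
        rw [Matrix.mul_smul, mul_one] at e
        rw [Matrix.smul_mul, one_mul] at e'
        have h0 := congrArg (fun Z => Z * L i q q) e
        simp only [Matrix.smul_mul, L, lift_single_mul, if_neg hpq, smul_zero, one_mul, e'] at h0
        exact h0.symm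
      · rcases Finset.mem_insert.1 hl with rfl | hl
        · simpa using ⟨hpq, hloc'⟩
        · have hli : l ≠ i := fun e => hi (e ▸ hSK hl)
          simp only [Function.update_of_ne hli]
          obtain ⟨hne', h1, h2⟩ := hloc l hl
          refine ⟨hne', ?_, ?_⟩
          · exact (hkeep _ (lift_comm hli _ _)).2.1 h1
          · exact (hkeep _ (lift_comm hli _ _)).2.2 h2
      · rw [Finset.mem_insert, not_or] at hlS
        have hl' : l ∈ K := (Finset.mem_insert.1 hl).resolve_left hlS.1
        intro η
        exact (hkeep _ (lift_comm hlS.1 η _)).1 (hcomm l hl' hlS.2 η)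
  obtain ⟨C, S, a, b, hC, hCns, hSK, hloc, hcomm⟩ := main (Finset.univ.erase j) (by simp)
  have hjS : j ∉ S := fun h => by simpa using hSK h
  obtain ⟨u, hu⟩ := eq_smul_mono (fun i hi => (hloc i hi).2) (fun i hi => by
    by_cases hij : i = j
    · exact hij ▸ hC.1
    · exact hcomm i (by simp [hij]) hi)
  have hu0 : u ≠ 0 := fun e => hCns ⟨0, by rw [hu, e, zero_smul, zero_smul]⟩
  have hSne : S.Nonempty := by
    rw [Finset.nonempty_iff_ne_empty]
    rintro rfl
    refine hCns ⟨u, ?_⟩
    rw [hu]
    congr 1
    ext x y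
    simp only [mono, Matrix.one_apply, Finset.notMem_empty, IsEmpty.forall_iff, true_and, not_false_eq_true, forall_const]
    exact if_congr ⟨funext, fun h i => h ▸ rfl⟩ rfl rfl
  obtain ⟨k, hk⟩ := hSne
  obtain ⟨p, hpj⟩ : ∃ p : Fin m, p ≠ (0 : Fin m) := ⟨⟨1, by omega⟩, by simp [Fin.ext_iff]⟩
  refine ⟨insert j S, ⟨k, fun e => hjS (e ▸ hk), Finset.mem_insert_of_mem hk⟩, Finset.mem_insert_self _ _, ?_⟩
  refine allMono_of_one hm hroot ⟨j, Finset.mem_insert_self _ _⟩ (a := Function.update a j 0)
    (b := Function.update b j p) (fun i hi => ?_) (fun w => ?_)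
  · rcases Finset.mem_insert.1 hi with rfl | hi
    · simpa using hpj.symm
    · have hij : i ≠ j := fun e => hjS (e ▸ hi)
      simpa [hij] using (hloc i hi).1
  · have := (hsmul C hC (w * u⁻¹)).2 (0 : Fin m) p hpj.symm
    rw [hu, smul_smul, mul_assoc, inv_mul_cancel₀ hu0, mul_one, Matrix.mul_smul] at this
    simp only [L] at this
    rw [show Matrix.single (0 : Fin m) p (1 : F) =
      Matrix.single ((Function.update a j 0) j) ((Function.update b j p) j) (1 : F) by simp,
      lift_single j (Function.update a j 0) (Function.update b j p),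
      mono_mul {j} S _ _ _ _ (fun i hi hi' => absurd (Finset.mem_singleton.1 hi ▸ hi') hjS)] at this
    rwa [← Finset.insert_eq, mono_congr (insert j S) (a' := Function.update a j 0) (b' := Function.update b j p)
      (fun i hi => ?_) (fun i hi => ?_)] at this
    · rcases Finset.mem_insert.1 hi with rfl | hi
      · simp
      · have hij : i ≠ j := fun e => hjS (e ▸ hi)
        simp [hij]
    · rcases Finset.mem_insert.1 hi with rfl | hi
      · simp [hjS]
      · have hij : i ≠ j := fun e => hjS (e ▸ hi)
        simp [hi, hij]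

end

end Cfsg.Agent.TensorWreath43
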