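import Cfsg.Agent.Lib.TensorWreath43Main
import Cfsg.Agent.Lib.TensorWreath43Radical

/-!
An overgroup of the tensor wreath stabiliser in coordinates lies in it or contains the special linear group.
-/

set_option autoImplicit false
set_option linter.unusedSectionVars false

namespace Cfsg.Agent.TensorWreath43

open scoped Matrix Kronecker

variable {F : Type*} [Field F] {t m : ℕ}

/-- The other positions. -/
abbrev Rest (j : Fin t) (m : ℕ) := {i : Fin t // i ≠ j} → Fin m

/-- Insert a value at the position `j`. -/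
def ins (j : Fin t) : Rest j m × Fin m ≃ TI t m :=
  ((Equiv.funSplitAt j (Fin m)).trans (Equiv.prodComm _ _)).symm

theorem ins_symm_apply (j : Fin t) (x : TI t m) : (ins j).symm x = (fun i => x i.1, x j) := rfl

/-- The block form at the position `j`. -/
def blk (j : Fin t) : Matrix (TI t m) (TI t m) F ≃+* BM F (Rest j m) m where
  toFun Z := Matrix.of fun k l => Matrix.of fun p q => Z (ins j (p, k)) (ins j (q, l))
  invFun Z := Matrix.of fun x y => Z ((ins j).symm x).2 ((ins j).symm y).2 ((ins j).symm x).1 ((ins j).symm y).1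
  left_inv Z := by
    funext x y
    show Z (ins j ((ins j).symm x)) (ins j ((ins j).symm y)) = Z x y
    simp
  right_inv Z := by
    funext k l p q
    simp only [Matrix.of_apply, Equiv.symm_apply_apply]
  map_mul' Z W := by
    funext k l p q
    simp only [Matrix.mul_apply, Matrix.sum_apply, Matrix.of_apply]
    rw [← (ins j).sum_comp, Fintype.sum_prod_type, Finset.sum_comm]
  map_add' Z W := rfl

theorem blk_lift [NeZero m] (j : Fin t) (η : Matrix (Fin m) (Fin m) F) : blk j (lift j η) = sc η := by
  funext k l p q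
  show lift j η (ins j (p, k)) (ins j (q, l)) = _
  rw [sc_apply, Matrix.smul_apply, Matrix.one_apply, smul_eq_mul, mul_ite, mul_one, mul_zero]
  have hk : (ins j (p, k)) j = k := congrArg Prod.snd ((ins j).symm_apply_apply (p, k))
  have hl : (ins j (q, l)) j = l := congrArg Prod.snd ((ins j).symm_apply_apply (q, l))
  have hp : ∀ i : {i : Fin t // i ≠ j}, (ins j (p, k)) i.1 = p i := fun i =>
    congrFun (congrArg Prod.fst ((ins j).symm_apply_apply (p, k))) i
  have hq : ∀ i : {i : Fin t // i ≠ j}, (ins j (q, l)) i.1 = q i := fun i =>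
    congrFun (congrArg Prod.fst ((ins j).symm_apply_apply (q, l))) i
  rw [lift]
  refine if_congr ⟨fun h => funext fun i => ?_, fun h i hi => ?_⟩ (by rw [hk, hl]) rfl
  · rw [← hp, ← hq]; exact h i.1 i.2
  · rw [hp ⟨i, hi⟩, hq ⟨i, hi⟩, h]

/-- The permutation matrix of a permutation of the positions. -/
def permT (σ : Equiv.Perm (Fin t)) : Matrix (TI t m) (TI t m) F := fun x y => if y = x ∘ σ then 1 else 0

theorem permT_mul_apply (σ : Equiv.Perm (Fin t)) (A : Matrix (TI t m) (TI t m) F) (x y : TI t m) :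
    (permT σ * A : Matrix (TI t m) (TI t m) F) x y = A (x ∘ σ) y := by
  rw [Matrix.mul_apply, Finset.sum_eq_single (x ∘ σ) (fun z _ hz => by rw [permT, if_neg hz, zero_mul]) (by simp),
    permT, if_pos rfl, one_mul]

theorem mul_permT_apply (σ : Equiv.Perm (Fin t)) (A : Matrix (TI t m) (TI t m) F) (x y : TI t m) :
    (A * permT σ : Matrix (TI t m) (TI t m) F) x y = A x (y ∘ σ.symm) := by
  rw [Matrix.mul_apply, Finset.sum_eq_single (y ∘ σ.symm) (fun z _ hz => by
      rw [permT, if_neg (fun h => hz (by rw [h]; funext i; simp)), mul_zero]) (by simp),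
    permT, if_pos (by funext i; simp), mul_one]

theorem permT_one : (permT (1 : Equiv.Perm (Fin t)) : Matrix (TI t m) (TI t m) F) = 1 := by
  ext x y
  simp [permT, Matrix.one_apply, eq_comm]

theorem permT_mul (σ τ : Equiv.Perm (Fin t)) :
    (permT σ * permT τ : Matrix (TI t m) (TI t m) F) = permT (σ * τ) := by
  ext x y
  rw [permT_mul_apply]
  simp only [permT]
  exact if_congr Iff.rfl rfl rfl

/-- The unit of a permutation of the positions. -/
def permU (σ : Equiv.Perm (Fin t)) : GL (TI t m) F :=
  ⟨permT σ, permT σ⁻¹, by rw [permT_mul, mul_inv_cancel, permT_one], by rw [permT_mul, inv_mul_cancel, permT_one]⟩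

theorem permT_lift (σ : Equiv.Perm (Fin t)) (j : Fin t) (η : Matrix (Fin m) (Fin m) F) :
    permT σ * lift j η = lift (σ j) η * permT σ := by
  ext x y
  rw [permT_mul_apply, mul_permT_apply]
  simp only [lift, Function.comp_apply, Equiv.symm_apply_apply]
  refine if_congr ⟨fun h i hi => ?_, fun h i hi => ?_⟩ rfl rfl
  · have := h (σ.symm i) (fun e => hi (by rw [← e, Equiv.apply_symm_apply]))
    rwa [Equiv.apply_symm_apply] at this
  · have := h (σ i) (fun e => hi (σ.injective e))
    rwa [Equiv.symm_apply_apply] at this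

theorem permT_mono (σ : Equiv.Perm (Fin t)) (S : Finset (Fin t)) (a b : TI t m) :
    (permT σ * mono S a b : Matrix (TI t m) (TI t m) F) =
      mono (S.map σ.toEmbedding) (a ∘ σ.symm) (b ∘ σ.symm) * permT σ := by
  ext x y
  rw [permT_mul_apply, mul_permT_apply]
  simp only [mono, Function.comp_apply, Finset.mem_map_equiv]
  refine if_congr ⟨fun h i => ?_, fun h i => ?_⟩ rfl rfl
  · have := h (σ.symm i)
    simpa using this
  · have := h (σ i)
    simpa using this

/-- The tensor product of one matrix at each position. -/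
def pureT (η : Fin t → Matrix (Fin m) (Fin m) F) : Matrix (TI t m) (TI t m) F := fun x y => ∏ i, η i (x i) (y i)

theorem pureT_mul (η η' : Fin t → Matrix (Fin m) (Fin m) F) : pureT η * pureT η' = pureT (η * η') := by
  ext x y
  simp only [pureT, Matrix.mul_apply, Pi.mul_apply, ← Finset.prod_mul_distrib]
  exact (Fintype.prod_sum (fun i c => η i (x i) c * η' i c (y i))).symm

theorem pureT_update_eq_lift (j : Fin t) (η : Matrix (Fin m) (Fin m) F) :
    pureT (Function.update (1 : Fin t → Matrix (Fin m) (Fin m) F) j η) = lift j η := by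
  ext x y
  simp only [pureT, lift]
  rw [← Finset.mul_prod_erase _ _ (Finset.mem_univ j), Function.update_self]
  split_ifs with h
  · rw [Finset.prod_eq_one, mul_one]
    intro i hi
    rw [Function.update_of_ne (Finset.ne_of_mem_erase hi), Pi.one_apply, h i (Finset.ne_of_mem_erase hi),
      Matrix.one_apply_eq]
  · push Not at h
    obtain ⟨i, hi, hne⟩ := h
    rw [Finset.prod_eq_zero (Finset.mem_erase.2 ⟨hi, Finset.mem_univ i⟩), mul_zero]
    rw [Function.update_of_ne hi, Pi.one_apply, Matrix.one_apply_ne hne]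

theorem pureT_one : pureT (1 : Fin t → Matrix (Fin m) (Fin m) F) = (1 : Matrix (TI t m) (TI t m) F) := by
  rcases Nat.eq_zero_or_pos t with h | h
  · subst h
    ext x y
    rw [Subsingleton.elim x y]
    simp [pureT]
  · rw [← lift_one (F := F) (m := m) ⟨0, h⟩, ← pureT_update_eq_lift]
    congr 1
    exact (Function.update_eq_self (⟨0, h⟩ : Fin t) _).symm

/-- The unit of a tensor product of invertible matrices. -/
def pureU (η : Fin t → GL (Fin m) F) : GL (TI t m) F :=
  ⟨pureT fun i => (η i : Matrix (Fin m) (Fin m) F), pureT fun i => ((η i)⁻¹ : GL (Fin m) F).val,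
    by rw [pureT_mul, ← pureT_one]; congr 1; funext i; simp,
    by rw [pureT_mul, ← pureT_one]; congr 1; funext i; simp⟩

theorem pureU_conj_lift (η : Fin t → GL (Fin m) F) (j : Fin t) (ξ : Matrix (Fin m) (Fin m) F) :
    (pureU η : Matrix (TI t m) (TI t m) F) * lift j ξ * ((pureU η)⁻¹ : GL (TI t m) F).val =
      lift j ((η j : Matrix (Fin m) (Fin m) F) * ξ * ((η j)⁻¹ : GL (Fin m) F).val) := by
  show pureT (fun i => (η i : Matrix (Fin m) (Fin m) F)) * lift j ξ *
    pureT (fun i => ((η i)⁻¹ : GL (Fin m) F).val) = _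
  rw [← pureT_update_eq_lift, ← pureT_update_eq_lift, pureT_mul, pureT_mul]
  congr 1
  funext i
  by_cases hi : i = j
  · subst hi; simp
  · simp [Function.update_of_ne hi]

theorem lift_det (j : Fin t) (η : Matrix (Fin m) (Fin m) F) :
    (lift j η).det = η.det ^ Fintype.card (Rest j m) := by
  have e : lift j η = ((1 : Matrix (Rest j m) (Rest j m) F) ⊗ₖ η).submatrix (ins j).symm (ins j).symm := by
    ext x y
    rw [Matrix.submatrix_apply, Matrix.kroneckerMap_apply, ins_symm_apply, ins_symm_apply, Matrix.one_apply, ite_mul,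
      one_mul, zero_mul, lift]
    refine if_congr ⟨fun h => funext fun i => h i.1 i.2, fun h i hi => ?_⟩ rfl rfl
    exact congrFun h ⟨i, hi⟩
  rw [e, Matrix.det_submatrix_equiv_self, Matrix.det_kronecker, Matrix.det_one, one_pow, one_mul]

theorem permT_det_eq_one {σ : Equiv.Perm (Fin t)} (hσ : σ ^ 3 = 1) :
    (permT σ : Matrix (TI t m) (TI t m) F).det = 1 := by
  let Φ : Equiv.Perm (TI t m) := Equiv.arrowCongr σ.symm (Equiv.refl (Fin m))
  have hΦ : ∀ x, Φ x = x ∘ σ := fun x => by funext i; simp [Φ]
  have e : (permT σ : Matrix (TI t m) (TI t m) F) = Φ.permMatrix F := by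
    ext x y
    rw [Equiv.Perm.permMatrix, PEquiv.toMatrix_apply]
    simp only [permT, Equiv.toPEquiv_apply, Option.mem_def, Option.some.injEq, hΦ]
    exact if_congr eq_comm rfl rfl
  have h3 : Φ ^ 3 = 1 := by
    refine Equiv.ext fun x => ?_
    simp only [pow_succ, pow_zero, one_mul, Equiv.Perm.mul_apply, hΦ, Equiv.Perm.one_apply]
    funext i
    have := congrFun (congrArg DFunLike.coe hσ) i
    simp only [pow_succ, pow_zero, one_mul, Equiv.Perm.mul_apply, Equiv.Perm.one_apply] at this
    simp [this]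
  rw [e, Matrix.det_permutation]
  have hs : Equiv.Perm.sign Φ ^ 3 = 1 := by rw [← map_pow, h3, map_one]
  rcases Int.units_eq_one_or (Equiv.Perm.sign Φ) with h | h
  · rw [h]; simp
  · rw [h] at hs; exact absurd hs (by decide)

/-- A permutation of order three moving `p` to `r` through `q`. -/
theorem exists_three_cycle {p q r : Fin t} (hpq : p ≠ q) (hpr : p ≠ r) (hqr : q ≠ r) :
    ∃ σ : Equiv.Perm (Fin t), σ ^ 3 = 1 ∧ σ q = r ∧ σ p = q := by
  refine ⟨Equiv.swap p r * Equiv.swap p q, ?_, ?_, ?_⟩
  · refine Equiv.ext fun x => ?_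
    simp only [pow_succ, pow_zero, one_mul, Equiv.Perm.mul_apply, Equiv.Perm.one_apply]
    by_cases hp : x = p <;> by_cases hq : x = q <;> by_cases hr : x = r <;>
      simp [Equiv.swap_apply_def, hp, hq, hr, hpq, hpr, hqr, hpq.symm, hpr.symm, hqr.symm] <;> simp_all
  · simp [Equiv.swap_apply_def, hpq, hpr, hqr, hpq.symm, hpr.symm, hqr.symm]
  · simp [Equiv.swap_apply_def, hpq, hpr, hqr, hpq.symm, hpr.symm, hqr.symm]

theorem exists_third_fin (ht : 3 ≤ t) (i j : Fin t) : ∃ r : Fin t, r ≠ i ∧ r ≠ j := by
  obtain ⟨r, hr⟩ := (({i, j} : Finset (Fin t))ᶜ).card_pos.1 (by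
    rw [Finset.card_compl, Fintype.card_fin]
    have := Finset.card_le_two (a := i) (b := j)
    omega)
  exact ⟨r, by simpa using hr⟩

/-- The hypotheses on an overgroup in coordinates. -/
structure Over (M : Subgroup (GL (TI t m) F)) : Prop where
  root : ∀ (j : Fin t) (η : GL (Fin m) F), (η : Matrix (Fin m) (Fin m) F).det = 1 →
    Units.map (liftHom (F := F) j).toMonoidHom η ∈ M
  perm : ∀ σ : Equiv.Perm (Fin t), σ ^ 3 = 1 → permU σ ∈ M

variable [NeZero m] {M : Subgroup (GL (TI t m) F)}

theorem Over.specialLinear_le (hm : 3 ≤ m) (hM : Over M) (j : Fin t) {C : Matrix (TI t m) (TI t m) F}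
    (hC : Comm j C) (hns : ¬ ∃ u : F, C = u • 1) {a b : Fin m} (hab : a ≠ b)
    (hmem : MemU M (lift j (Matrix.single a b (1 : F)) * C)) :
    Cfsg.Geo.specialLinear (TI t m) F ≤ M := by
  classical
  obtain ⟨S₀, ⟨i₀, hi₀, hi₀S⟩, hjS, hS₀⟩ := allMono_of_radical hm hM.root j hC hns hab hmem
  let cand := (Finset.univ : Finset (Finset (Fin t))).filter fun S => S₀ ⊆ S ∧ AllMono M S
  obtain ⟨S, hS, hmax⟩ := cand.exists_max_image Finset.card ⟨S₀, by simp [cand, hS₀]⟩
  simp only [cand, Finset.mem_filter, Finset.mem_univ, true_and] at hS hmax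
  have htop : S = Finset.univ := by
    by_contra hne
    obtain ⟨r, -, hr⟩ := Finset.exists_of_ssubset (lt_of_le_of_ne (Finset.subset_univ S) hne)
    have hi : i₀ ∈ S := hS.1 hi₀S
    have hj : j ∈ S := hS.1 hjS
    obtain ⟨σ, hσ, hσq, hσp⟩ := exists_three_cycle (p := i₀) (q := j) (r := r) hi₀
      (fun e => hr (e ▸ hi)) (fun e => hr (e ▸ hj))
    have hS' : AllMono M (S.map σ.toEmbedding) := by
      intro a b hab u
      obtain ⟨g, hg, hgX⟩ := hS.2 (a ∘ σ) (b ∘ σ) (fun i hi => hab (σ i) (Finset.mem_map_of_mem _ hi)) u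
      refine ⟨permU σ * g * (permU σ)⁻¹, M.mul_mem (M.mul_mem (hM.perm σ hσ) hg) (M.inv_mem (hM.perm σ hσ)), ?_⟩
      rw [Units.val_mul, Units.val_mul, hgX, mul_add, mul_one, add_mul, Units.mul_inv, Matrix.mul_smul]
      congr 1
      show (u • (permT σ * mono S (a ∘ σ) (b ∘ σ))) * _ = _
      rw [permT_mono, show (a ∘ σ) ∘ σ.symm = a from funext fun i => by simp,
        show (b ∘ σ) ∘ σ.symm = b from funext fun i => by simp, Matrix.smul_mul, mul_assoc]
      show u • (mono _ a b * (((permU σ : GL (TI t m) F) : Matrix (TI t m) (TI t m) F) * _)) = _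
      rw [Units.mul_inv, mul_one]
    have hjm : j ∈ S.map σ.toEmbedding := by
      rw [← hσp]; exact Finset.mem_map_of_mem _ hi
    have hrm : r ∈ S.map σ.toEmbedding := by
      rw [← hσq]; exact Finset.mem_map_of_mem _ hj
    have := hmax (S ∪ S.map σ.toEmbedding) ⟨hS.1.trans Finset.subset_union_left,
      AllMono.union hm hS.2 hS' ⟨j, hj, hjm⟩⟩
    have hlt : S.card < (S ∪ S.map σ.toEmbedding).card :=
      Finset.card_lt_card ⟨Finset.subset_union_left, fun h => hr (h (Finset.mem_union_right _ hrm))⟩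
    omega
  rw [htop] at hS
  have hsingle : ∀ a b : TI t m, (∀ i, a i ≠ b i) → ∀ u : F, MemU M (Matrix.single a b u) := fun a b hab u => by
    have := hS.2 a b (fun i _ => hab i) u
    rwa [mono_univ, Matrix.smul_single, smul_eq_mul, mul_one] at this
  refine Cfsg.Agent.TensorMax.specialLinear_le_of_single fun p q hpq u => ?_
  choose z hzp hzq using fun i => exists_third_index hm (p i) (q i)
  have hpz : p ≠ z := fun e => hzp j (congrFun e j).symm
  have hzq' : z ≠ q := fun e => hzq j (congrFun e j)
  have := MemU.comm (hsingle p z (fun i => (hzp i).symm) u) (hsingle z q hzq 1)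
    (Matrix.single_mul_single_of_ne (h := hpz.symm) ..) (Matrix.single_mul_single_of_ne (h := hzq'.symm) ..)
    (Matrix.single_mul_single_of_ne (h := hpq.symm) ..)
  rwa [Matrix.single_mul_single_same, mul_one] at this

/-- The block form of the overgroup is good unless it contains the special linear group. -/
theorem Over.good (hm : 3 ≤ m) (hM : Over M) (hne : ¬ Cfsg.Geo.specialLinear (TI t m) F ≤ M) (j : Fin t) :
    Good (M.map (Units.map (blk j).toRingHom.toMonoidHom)) := by
  classical
  constructor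
  · intro η hη
    refine ⟨_, hM.root j η hη, Units.ext ?_⟩
    exact blk_lift j _
  · intro g hg hrows h00 l
    by_contra hns
    refine hne ?_
    set c := (g : BM F (Rest j m) m) 0 l with hc
    have hl : l ≠ 0 := fun e => hns ⟨1, by rw [hc, e, h00, one_smul]⟩
    obtain ⟨l', hl'0, hl'l⟩ := exists_third_index hm (0 : Fin m) l
    let D : BM F (Rest j m) m := Matrix.diagonal fun _ => c
    set C := (blk j).symm D with hC
    have hbC : blk j C = D := (blk j).apply_symm_apply D
    have hcomm : Comm j C := by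
      intro η
      refine (blk j).injective ?_
      rw [map_mul, map_mul, hbC, blk_lift]
      ext p q : 1
      rw [sc_mul_apply, mul_sc_apply, Finset.sum_eq_single q (fun i _ hi => by simp [D, hi]) (by simp),
        Finset.sum_eq_single p (fun i _ hi => by simp [D, Ne.symm hi]) (by simp)]
      simp [D]
    have hCns : ¬ ∃ u : F, C = u • 1 := by
      rintro ⟨u, hu⟩
      refine hns ⟨u, ?_⟩
      have h1 : blk j (u • (1 : Matrix (TI t m) (TI t m) F)) = sc (u • 1) := by
        rw [← blk_lift, lift_smul, lift_one]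
      have := congrFun (congrFun (h1.symm.trans ((congrArg (blk j) hu).symm.trans hbC)) 0) 0
      simpa [sc_apply, D] using this.symm
    refine hM.specialLinear_le hm j hcomm hCns (a := 0) (b := l') hl'0.symm ?_
    -- a commutator with a root element
    have hXv : ∀ p q, ((g : BM F (Rest j m) m) - 1) p q =
        if p = 0 then (g : BM F (Rest j m) m) 0 q - (1 : BM F (Rest j m) m) 0 q else 0 := fun p q => by
      split_ifs with hp
      · subst hp; rfl
      · rw [Matrix.sub_apply, hrows p hp, sub_self]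
    have hsc : ∀ p q, (sc (Matrix.single l l' (1 : F)) : BM F (Rest j m) m) p q =
        if p = l ∧ q = l' then 1 else 0 := fun p q => by
      rw [sc_apply, Matrix.single_apply]
      by_cases h : l = p ∧ l' = q
      · rw [if_pos h, if_pos ⟨h.1.symm, h.2.symm⟩, one_smul]
      · rw [if_neg h, if_neg (fun h' => h ⟨h'.1.symm, h'.2.symm⟩), zero_smul]
    have hXX : ((g : BM F (Rest j m) m) - 1) * ((g : BM F (Rest j m) m) - 1) = 0 := by
      ext p q : 1
      rw [Matrix.mul_apply]
      refine Finset.sum_eq_zero fun i _ => ?_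
      rw [hXv p i, hXv i q]
      by_cases hi : i = 0
      · subst hi; simp [h00]
      · simp [hi]
    have hη : (Matrix.transvection l l' (1 : F)).det = 1 := Matrix.det_transvection_of_ne _ _ hl'l.symm _
    have hroot : MemU (M.map (Units.map (blk (F := F) j).toRingHom.toMonoidHom))
        (sc (Matrix.single l l' (1 : F)) : BM F (Rest j m) m) := by
      refine ⟨_, ⟨_, hM.root j (Matrix.GeneralLinearGroup.mkOfDetNeZero (Matrix.transvection l l' (1 : F)) (by rw [hη]; exact one_ne_zero)) hη, rfl⟩, ?_⟩
      show blk j (lift j (Matrix.transvection l l' (1 : F))) = _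
      rw [blk_lift, Matrix.transvection, map_add, map_one]
    have hgX : MemU (M.map (Units.map (blk (F := F) j).toRingHom.toMonoidHom)) ((g : BM F (Rest j m) m) - 1) :=
      ⟨g, hg, by abel⟩
    have hres := MemU.comm hgX hroot hXX
      (by rw [← map_mul, Matrix.single_mul_single_of_ne (h := hl'l), map_zero])
      (by
        ext p q : 1
        rw [Matrix.mul_apply]
        refine Finset.sum_eq_zero fun i _ => ?_
        rw [hsc, hXv]
        by_cases hi : i = 0
        · subst hi; rw [if_neg (fun h => hl'0 h.2.symm), zero_mul]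
        · rw [if_neg hi, mul_zero])
    have hprod : ((g : BM F (Rest j m) m) - 1) * sc (Matrix.single l l' (1 : F)) =
        blk j (lift j (Matrix.single 0 l' (1 : F)) * C) := by
      rw [map_mul, blk_lift, hbC]
      ext p q : 1
      rw [Matrix.mul_apply, sc_mul_apply, Finset.sum_eq_single l (fun i _ hi => by
        rw [hsc, if_neg (fun h => hi h.1), mul_zero]) (by simp), hsc, hXv]
      rw [Finset.sum_eq_single q (fun i _ hi => by simp [D, hi]) (by simp)]
      by_cases hp : p = 0
      · subst hp
        by_cases hq : q = l'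
        · subst hq; simp [D, hc, Matrix.one_apply_ne (Ne.symm hl)]
        · simp [hq, Ne.symm hq]
      · simp [hp, Ne.symm hp]
    rw [hprod] at hres
    obtain ⟨u, ⟨v, hv, rfl⟩, hu⟩ := hres
    refine ⟨v, hv, (blk j).injective ?_⟩
    rw [map_add, map_one]
    exact hu

variable [Fintype F]

/-- `Z` is a lift from the position `k`. -/
def Alg (k : Fin t) (Z : Matrix (TI t m) (TI t m) F) : Prop := ∃ η, Z = lift k η

theorem lift_injective (k : Fin t) {η η' : Matrix (Fin m) (Fin m) F} (h : lift k η = lift k η') : η = η' := by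
  ext a b
  have key : ∀ η : Matrix (Fin m) (Fin m) F,
      lift k η (Function.update (fun _ => 0) k a) (Function.update (fun _ => 0) k b) = η a b := fun η => by
    rw [lift, if_pos (fun i hi => by rw [Function.update_of_ne hi, Function.update_of_ne hi]), Function.update_self,
      Function.update_self]
  rw [← key η, ← key η', h]

theorem scalar_of_two_lifts {k k' : Fin t} (hkk : k ≠ k') {η η' : Matrix (Fin m) (Fin m) F}
    (h : lift k η = lift k' η') : ∃ u : F, η = u • 1 := by
  have hc : ∀ ξ, ξ * η = η * ξ := fun ξ => lift_injective k (by rw [lift_mul, lift_mul, h, lift_comm hkk])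
  obtain ⟨u, hu⟩ := Matrix.mem_range_scalar_of_commute_single (fun a b _ => (hc (Matrix.single a b (1 : F))))
  exact ⟨u, by rw [← hu, Matrix.scalar_apply, Matrix.smul_one_eq_diagonal]⟩

/-- A conjugate of a root lies in one factor. -/
theorem Over.exists_alg (hm : 3 ≤ m) (ht : 2 ≤ t) (hodd : m = 3 → Odd m) (hM : Over M)
    (hne : ¬ Cfsg.Geo.specialLinear (TI t m) F ≤ M) {g : GL (TI t m) F} (hg : g ∈ M) (i : Fin t) {a b : Fin m}
    (hab : a ≠ b) :
    ∃ k, Alg k ((g : Matrix (TI t m) (TI t m) F) * lift i (Matrix.single a b (1 : F)) *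
      ((g⁻¹ : GL (TI t m) F) : Matrix (TI t m) (TI t m) F)) := by
  classical
  have local_ : ∀ (j : Fin t) (g : GL (TI t m) F), g ∈ M →
      Alg j ((g : Matrix (TI t m) (TI t m) F) * lift j (Matrix.single a b (1 : F)) *
        ((g⁻¹ : GL (TI t m) F) : Matrix (TI t m) (TI t m) F)) ∨
      Comm j ((g : Matrix (TI t m) (TI t m) F) * lift j (Matrix.single a b (1 : F)) *
        ((g⁻¹ : GL (TI t m) F) : Matrix (TI t m) (TI t m) F)) := by
    intro j g hg
    obtain ⟨σ, s, hσ, hs, hσc⟩ := exists_move (m := m) (c := (Pi.single a 1 : Fin m → F)) (by simp)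
    let φ : Fin m → F := fun l => s⁻¹ * (σ : Matrix (Fin m) (Fin m) F) b l
    have hφ0 : φ 0 = 0 := by simp [φ, hσc b, hab.symm]
    have hσE : Matrix.single a b (1 : F) = (σ : Matrix (Fin m) (Fin m) F) *
        Matrix.vecMulVec (Pi.single 0 1) φ * ((σ⁻¹ : GL (Fin m) F) : Matrix (Fin m) (Fin m) F) := by
      have e : Matrix.single a b (1 : F) * (σ : Matrix (Fin m) (Fin m) F) =
          (σ : Matrix (Fin m) (Fin m) F) * Matrix.vecMulVec (Pi.single 0 1) φ := by
        ext p q
        rw [Matrix.mul_apply, Matrix.mul_apply, Finset.sum_eq_single b (fun i _ hi => by simp [Ne.symm hi]) (by simp),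
          Finset.sum_eq_single (0 : Fin m) (fun i _ hi => by simp [Matrix.vecMulVec_apply, hi]) (by simp),
          Matrix.vecMulVec_apply, hσc]
        by_cases hp : p = a
        · subst hp; simp [φ, hs]
        · simp [hp, Ne.symm hp]
      rw [← e, mul_assoc, Units.mul_inv, mul_one]
    have hφne : φ ≠ 0 := by
      intro e
      have := congrFun (congrFun hσE a) b
      rw [e, Matrix.vecMulVec_zero, mul_zero, zero_mul] at this
      simp at this
    set f := Units.map (blk (F := F) (m := m) j).toRingHom.toMonoidHom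
    set g' := g * Units.map (liftHom (F := F) j).toMonoidHom σ with hg'
    have hg'M : f g' ∈ M.map f := ⟨g', M.mul_mem hg (hM.root j σ hσ), rfl⟩
    have hB : Bc (f g') φ = blk j ((g : Matrix (TI t m) (TI t m) F) * lift j (Matrix.single a b (1 : F)) *
        ((g⁻¹ : GL (TI t m) F) : Matrix (TI t m) (TI t m) F)) := by
      have e1 : ((f g' : (BM F (Rest j m) m)ˣ) : BM F (Rest j m) m) =
          blk j ((g : Matrix (TI t m) (TI t m) F) * lift j (σ : Matrix (Fin m) (Fin m) F)) := rfl
      have e2 : (((f g')⁻¹ : (BM F (Rest j m) m)ˣ) : BM F (Rest j m) m) =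
          blk j (lift j ((σ⁻¹ : GL (Fin m) F) : Matrix (Fin m) (Fin m) F) *
            ((g⁻¹ : GL (TI t m) F) : Matrix (TI t m) (TI t m) F)) := rfl
      rw [Bc, X, e1, e2, ← blk_lift j (Matrix.vecMulVec (Pi.single 0 1) φ), ← map_mul, ← map_mul, hσE, lift_mul,
        lift_mul]
      simp only [mul_assoc]
    haveI : Nonempty (Rest j m) := ⟨fun _ => 0⟩
    have hodd' : m = 3 → Odd (Fintype.card (Rest j m)) := fun h3 => by
      rw [Fintype.card_fun, Fintype.card_fin]
      exact (hodd h3).pow
    rcases C1_or_C2 hm hodd' (hM.good hm hne j) hg'M hφ0 hφne with h | h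
    · left
      obtain ⟨η, hη⟩ := C1_iff.1 h
      refine ⟨η, (blk j).injective ?_⟩
      rw [← hB, hη, blk_lift]
    · right
      intro ξ
      generalize (g : Matrix (TI t m) (TI t m) F) * lift j (Matrix.single a b (1 : F)) *
        ((g⁻¹ : GL (TI t m) F) : Matrix (TI t m) (TI t m) F) = W at hB ⊢
      refine (blk j).injective ?_
      rw [map_mul, map_mul, ← hB, blk_lift]
      ext p q : 1
      rw [sc_mul_apply, mul_sc_apply, Finset.sum_eq_single q (fun l _ hl => by rw [h.1 l q hl, smul_zero]) (by simp),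
        Finset.sum_eq_single p (fun l _ hl => by rw [h.1 p l (Ne.symm hl), smul_zero]) (by simp), h.2 q, h.2 p]
  set Z := (g : Matrix (TI t m) (TI t m) F) * lift i (Matrix.single a b (1 : F)) *
      ((g⁻¹ : GL (TI t m) F) : Matrix (TI t m) (TI t m) F) with hZ
  by_contra hall
  push Not at hall
  by_cases ht3 : 3 ≤ t
  · -- every position is moved to `i` by an element of order three
    have hcomm : ∀ j, Comm j Z := by
      intro j
      by_cases hji : j = i
      · subst hji
        exact (local_ j g hg).resolve_left (hall j)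
      obtain ⟨r, hrj, hri⟩ := exists_third_fin ht3 j i
      obtain ⟨σ, hσ, hσj, -⟩ := exists_three_cycle (p := r) (q := j) (r := i) hrj hri hji
      have e : ((permU σ : GL (TI t m) F) : Matrix (TI t m) (TI t m) F) * lift j (Matrix.single a b (1 : F)) *
          (((permU σ)⁻¹ : GL (TI t m) F) : Matrix (TI t m) (TI t m) F) = lift i (Matrix.single a b (1 : F)) := by
        show (permT σ : Matrix (TI t m) (TI t m) F) * _ * _ = _
        rw [permT_lift, hσj, mul_assoc]
        show _ * (((permU σ : GL (TI t m) F) : Matrix (TI t m) (TI t m) F) * _) = _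
        rw [Units.mul_inv, mul_one]
      have hZ' : Z = ((g * permU σ : GL (TI t m) F) : Matrix (TI t m) (TI t m) F) * lift j (Matrix.single a b (1 : F)) *
          (((g * permU σ)⁻¹ : GL (TI t m) F) : Matrix (TI t m) (TI t m) F) := by
        rw [hZ, ← e, mul_inv_rev, Units.val_mul, Units.val_mul]
        simp only [mul_assoc]
      rw [hZ']
      refine (local_ j _ (M.mul_mem hg (hM.perm σ hσ))).resolve_left ?_
      rw [← hZ']
      exact hall j
    obtain ⟨u, hu⟩ := eq_smul_mono (S := ∅) (a := 0) (b := 0) (C := Z) (by simp) (fun l _ => hcomm l)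
    refine hall i ⟨u • 1, ?_⟩
    rw [lift_smul, lift_one, hu]
    congr 1
    ext x y
    simp only [mono, Matrix.one_apply, Finset.notMem_empty, IsEmpty.forall_iff, true_and, not_false_eq_true,
      forall_const]
    exact if_congr ⟨funext, fun h l => h ▸ rfl⟩ rfl rfl
  · have ht2 : t = 2 := by omega
    subst ht2
    have hc : Comm i Z := (local_ i g hg).resolve_left (hall i)
    obtain ⟨k, hk⟩ : ∃ k : Fin 2, k ≠ i := exists_ne i
    refine hall k ⟨Matrix.of fun p q => Z (Function.update (fun _ => 0) k p) (Function.update (fun _ => 0) k q), ?_⟩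
    ext x y
    have hu : ∀ x : TI 2 m, Function.update x i 0 = Function.update (fun _ => 0) k (x k) := fun x => by
      funext l
      fin_cases i <;> fin_cases k <;> fin_cases l <;> simp_all
    rw [hc.apply_update x y 0, lift, hu, hu]
    refine if_congr ⟨fun h l hl => ?_, fun h => h i (Ne.symm hk)⟩ rfl rfl
    fin_cases i <;> fin_cases k <;> fin_cases l <;> simp_all

/-- An algebra endomorphism of the matrices given on matrix units is inner. -/
theorem exists_inner (f : Fin m → Fin m → Matrix (Fin m) (Fin m) F)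
    (hmul : ∀ a b c d, f a b * f c d = if b = c then f a d else 0) (hne : f 0 0 ≠ 0) :
    ∃ η : GL (Fin m) F, ∀ a b, (η : Matrix (Fin m) (Fin m) F) * Matrix.single a b 1 =
      f a b * (η : Matrix (Fin m) (Fin m) F) := by
  classical
  obtain ⟨j, hj⟩ : ∃ j, (f 0 0).col j ≠ 0 := by
    by_contra! h
    exact hne (Matrix.ext fun p q => congrFun (h q) p)
  let η : Matrix (Fin m) (Fin m) F := Matrix.of fun p a => f a 0 p j
  have hη : ∀ a b, η * Matrix.single a b 1 = f a b * η := by
    intro a b
    ext p q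
    rw [Matrix.mul_apply, Matrix.mul_apply,
      show ∑ i, f a b p i * η i q = (f a b * f q 0) p j by rw [Matrix.mul_apply]; rfl, hmul,
      Finset.sum_eq_single a (fun i _ hi => by simp [hi, Ne.symm hi]) (by simp)]
    by_cases hbq : b = q
    · subst hbq; simp [η]
    · simp [hbq]
  have hdet : η.det ≠ 0 := by
    intro h
    obtain ⟨v, hv, hηv⟩ := Matrix.exists_mulVec_eq_zero_iff.2 h
    refine hv (funext fun b => ?_)
    have e : (η * Matrix.single 0 b 1) *ᵥ v = 0 := by
      rw [hη, ← Matrix.mulVec_mulVec, hηv, Matrix.mulVec_zero]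
    have e' : ∀ p, v b * f 0 0 p j = 0 := fun p => by
      have := congrFun e p
      simpa [Matrix.mulVec, dotProduct, Matrix.mul_apply, Matrix.single_apply, η, ite_and, mul_comm] using this
    obtain ⟨p, hp⟩ := Function.ne_iff.1 hj
    exact (mul_eq_zero.1 (e' p)).resolve_right hp
  exact ⟨Matrix.GeneralLinearGroup.mkOfDetNeZero η hdet, hη⟩

/-- Every element of the overgroup permutes the factors. -/
theorem Over.le_wreath (hm : 3 ≤ m) (ht : 2 ≤ t) (hodd : m = 3 → Odd m) (hM : Over M)
    (hne : ¬ Cfsg.Geo.specialLinear (TI t m) F ≤ M) : M ≤ Cfsg.Geo.tensorWreathStandard m t F := by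
  classical
  intro g hg
  let cj : GL (TI t m) F → Matrix (TI t m) (TI t m) F → Matrix (TI t m) (TI t m) F := fun g Z =>
    (g : Matrix (TI t m) (TI t m) F) * Z * ((g⁻¹ : GL (TI t m) F) : Matrix (TI t m) (TI t m) F)
  have cj_mul : ∀ (g : GL (TI t m) F) Z W, cj g Z * cj g W = cj g (Z * W) := fun g Z W => by
    simp only [cj, mul_assoc, Units.inv_mul_cancel_left]
  have cj_inv : ∀ (g : GL (TI t m) F) Z, cj g⁻¹ (cj g Z) = Z := fun g Z => by
    simp only [cj, inv_inv, mul_assoc, Units.inv_mul, mul_one, Units.inv_mul_cancel_left]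
  -- one factor goes into one factor
  have one : ∀ g ∈ M, ∀ i, ∃ k, ∀ η, Alg k (cj g (lift i η)) := by
    intro g hg i
    have h1 : ∀ p : {p : Fin m × Fin m // p.1 ≠ p.2}, ∃ k, Alg k (cj g (lift i (Matrix.single p.1.1 p.1.2 (1 : F)))) :=
      fun p => hM.exists_alg hm ht hodd hne hg i p.2
    choose k hk using h1
    have hlink : ∀ p q : {p : Fin m × Fin m // p.1 ≠ p.2}, p.1.2 = q.1.1 → k p = k q := by
      intro p q hpq
      by_contra hkk
      obtain ⟨η, hη⟩ := hk p
      obtain ⟨ξ, hξ⟩ := hk q
      have e := lift_comm hkk η ξ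
      rw [← hη, ← hξ, cj_mul, cj_mul] at e
      have e' := congrArg (cj g⁻¹) e
      simp only [cj_inv, ← lift_mul] at e'
      have e'' := lift_injective i e'
      rw [hpq, Matrix.single_mul_single_same, one_mul] at e''
      have hne2 : q.1.1 ≠ p.1.1 := fun h => p.2 (h.symm.trans hpq.symm)
      have := congrFun (congrFun e'' p.1.1) q.1.2
      rw [Matrix.single_apply_same, Matrix.mul_apply, Finset.sum_eq_zero fun c _ => by
        simp [Matrix.single_apply, hne2]] at this
      exact one_ne_zero this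
    obtain ⟨z, hz⟩ : ∃ z : Fin m, z ≠ (0 : Fin m) := ⟨⟨1, by omega⟩, by simp [Fin.ext_iff]⟩
    have hall : ∀ p, k p = k ⟨(0, z), hz.symm⟩ := by
      rintro ⟨⟨a, b⟩, hab⟩
      obtain ⟨c, hca, hc0⟩ := exists_third_index hm a (0 : Fin m)
      have h1 := hlink ⟨(c, a), hca⟩ ⟨(a, b), hab⟩ rfl
      by_cases hcz : c = z
      · subst hcz
        exact h1.symm.trans (hlink ⟨(0, c), hz.symm⟩ ⟨(c, a), hca⟩ rfl).symm
      · have h2 := hlink ⟨(z, c), Ne.symm hcz⟩ ⟨(c, a), hca⟩ rfl
        have h3 := hlink ⟨(0, z), hz.symm⟩ ⟨(z, c), Ne.symm hcz⟩ rfl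
        exact h1.symm.trans (h2.symm.trans h3.symm)
    refine ⟨k ⟨(0, z), hz.symm⟩, fun η => ?_⟩
    set K := k ⟨(0, z), hz.symm⟩
    have hunit : ∀ a b, Alg K (cj g (lift i (Matrix.single a b (1 : F)))) := by
      intro a b
      by_cases hab : a = b
      · subst hab
        obtain ⟨c, hca, -⟩ := exists_third_index hm a a
        obtain ⟨ξ, hξ⟩ := hk ⟨(a, c), Ne.symm hca⟩
        obtain ⟨ζ, hζ⟩ := hk ⟨(c, a), hca⟩
        rw [hall] at hξ hζ
        refine ⟨ξ * ζ, ?_⟩
        rw [lift_mul, ← hξ, ← hζ, cj_mul, ← lift_mul, Matrix.single_mul_single_same, one_mul]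
      · have := hk ⟨(a, b), hab⟩
        rwa [hall] at this
    choose f hf using hunit
    refine ⟨∑ a, ∑ b, η a b • f a b, ?_⟩
    conv_lhs => rw [Matrix.matrix_eq_sum_single η]
    show cj g ((liftHom (F := F) i) _) = (liftHom (F := F) K) _
    simp only [map_sum, liftHom_apply, cj, Finset.mul_sum, Finset.sum_mul]
    refine Finset.sum_congr rfl fun a _ => Finset.sum_congr rfl fun b _ => ?_
    rw [show Matrix.single a b (η a b) = η a b • Matrix.single a b (1 : F) by rw [Matrix.smul_single, smul_eq_mul, mul_one],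
      lift_smul, lift_smul, Matrix.mul_smul, Matrix.smul_mul, ← hf]
  choose π hπ using one g hg
  obtain ⟨z, hz⟩ : ∃ z : Fin m, z ≠ (0 : Fin m) := ⟨⟨1, by omega⟩, by simp [Fin.ext_iff]⟩
  have hns : ¬ ∃ u : F, Matrix.single (0 : Fin m) z (1 : F) = u • 1 := by
    rintro ⟨u, hu⟩
    have := congrFun (congrFun hu 0) z
    rw [Matrix.single_apply_same, Matrix.smul_apply, Matrix.one_apply_ne hz.symm, smul_zero] at this
    exact one_ne_zero this
  have hinj : Function.Injective π := by
    intro i i' hii
    by_contra hne'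
    obtain ⟨l, hl⟩ := one g⁻¹ (M.inv_mem hg) (π i)
    have back : ∀ i₀, π i₀ = π i → i₀ = l := by
      intro i₀ h0
      obtain ⟨ξ, hξ⟩ := hπ i₀ (Matrix.single 0 z (1 : F))
      obtain ⟨ζ, hζ⟩ := hl ξ
      rw [← h0, ← hξ, cj_inv] at hζ
      by_contra hne''
      exact hns (scalar_of_two_lifts hne'' hζ)
    exact hne' ((back i rfl).trans (back i' hii.symm).symm)
  let σ : Equiv.Perm (Fin t) := Equiv.ofBijective π hinj.bijective_of_finite
  have hσ : ∀ i, σ i = π i := fun i => rfl
  set g' := (permU σ)⁻¹ * g with hg'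
  have hfix : ∀ i η, Alg i (cj g' (lift i η)) := by
    intro i η
    obtain ⟨ξ, hξ⟩ := hπ i η
    refine ⟨ξ, ?_⟩
    rw [hg']
    simp only [cj, mul_inv_rev, inv_inv, Units.val_mul] at hξ ⊢
    calc ((permU σ)⁻¹ : GL (TI t m) F).val * g.val * lift i η * (g⁻¹.val * (permU σ).val)
        = ((permU σ)⁻¹ : GL (TI t m) F).val * ((g.val * lift i η * g⁻¹.val) * (permU σ).val) := by simp only [mul_assoc]
      _ = ((permU σ)⁻¹ : GL (TI t m) F).val * (lift (σ i) ξ * permT σ) := by rw [hξ, hσ]; rfl
      _ = lift i ξ := by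
          rw [← permT_lift]
          exact Units.inv_mul_cancel_left (permU σ) _
  choose f hf using fun i a b => hfix i (Matrix.single a b (1 : F))
  have hinner : ∀ i, ∃ η : GL (Fin m) F, ∀ a b, (η : Matrix (Fin m) (Fin m) F) * Matrix.single a b 1 =
      f i a b * (η : Matrix (Fin m) (Fin m) F) := by
    intro i
    refine exists_inner (f i) (fun a b c d => lift_injective i ?_) ?_
    · rw [lift_mul, ← hf, ← hf, cj_mul, lift_single_mul]
      split_ifs
      · rw [hf]
      · simp [cj, lift_zero]
    · intro e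
      have h := hf i 0 0
      rw [e, lift_zero] at h
      have h' := congrArg (cj g'⁻¹) h
      rw [cj_inv] at h'
      simp only [cj, inv_inv, mul_zero, zero_mul] at h'
      rw [← lift_zero (F := F) (m := m) i] at h'
      simpa using congrFun (congrFun (lift_injective i h') 0) 0
  choose η hη using hinner
  set h := (pureU η)⁻¹ * g' with hh
  have hcomm : ∀ i, Comm i (h : Matrix (TI t m) (TI t m) F) := fun i => comm_of_singles fun a b => by
    have e1 : (pureU η : Matrix (TI t m) (TI t m) F) * lift i (Matrix.single a b (1 : F)) =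
        lift i (f i a b) * (pureU η : Matrix (TI t m) (TI t m) F) := by
      have := pureU_conj_lift η i (Matrix.single a b (1 : F))
      rw [hη, mul_assoc (f i a b), Units.mul_inv, mul_one] at this
      rw [← this, mul_assoc, Units.inv_mul, mul_one]
    have e2 : (g' : Matrix (TI t m) (TI t m) F) * lift i (Matrix.single a b (1 : F)) =
        lift i (f i a b) * (g' : Matrix (TI t m) (TI t m) F) := by
      rw [← hf]
      simp only [cj, mul_assoc, Units.inv_mul, mul_one]
    rw [hh, Units.val_mul]
    calc lift i (Matrix.single a b 1) * (((pureU η)⁻¹ : GL (TI t m) F).val * g'.val)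
        = ((pureU η)⁻¹ : GL (TI t m) F).val * ((pureU η).val * lift i (Matrix.single a b 1)) *
            ((pureU η)⁻¹ : GL (TI t m) F).val * g'.val := by
          simp only [← mul_assoc, Units.inv_mul, one_mul]
      _ = ((pureU η)⁻¹ : GL (TI t m) F).val * (lift i (f i a b) * g'.val) := by
          rw [e1]; simp only [mul_assoc, Units.mul_inv_cancel_left]
      _ = _ := by rw [← e2, mul_assoc]
  obtain ⟨u, hu⟩ := eq_smul_mono (S := ∅) (a := 0) (b := 0) (C := (h : Matrix (TI t m) (TI t m) F)) (by simp)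
    (fun l _ => hcomm l)
  have hone : (mono ∅ 0 0 : Matrix (TI t m) (TI t m) F) = 1 := by
    ext x y
    simp only [mono, Matrix.one_apply, Finset.notMem_empty, IsEmpty.forall_iff, true_and, not_false_eq_true,
      forall_const]
    exact if_congr ⟨funext, fun h l => h ▸ rfl⟩ rfl rfl
  rw [hone] at hu
  have hu0 : u ≠ 0 := fun e => h.ne_zero (by rw [hu, e, zero_smul])
  let i₀ : Fin t := ⟨0, by omega⟩
  have hh' : h = Units.map (liftHom (F := F) i₀).toMonoidHom
      (Units.map (algebraMap F (Matrix (Fin m) (Fin m) F)).toMonoidHom (Units.mk0 u hu0)) := by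
    refine Units.ext ?_
    show (h : Matrix (TI t m) (TI t m) F) = lift i₀ (algebraMap F (Matrix (Fin m) (Fin m) F) u)
    rw [Algebra.algebraMap_eq_smul_one, lift_smul, lift_one, hu]
  have hdec : g = permU σ * (pureU η * h) := by rw [hh, mul_inv_cancel_left, hg', mul_inv_cancel_left]
  have mperm : permU σ ∈ Cfsg.Geo.tensorWreathStandard m t F :=
    Subgroup.subset_closure (Or.inr ⟨σ, fun x y => rfl⟩)
  have mpure : ∀ ξ : Fin t → GL (Fin m) F, pureU ξ ∈ Cfsg.Geo.tensorWreathStandard m t F := fun ξ =>
    Subgroup.subset_closure (Or.inl ⟨ξ, fun x y => rfl⟩)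
  rw [hdec]
  refine Subgroup.mul_mem _ mperm (Subgroup.mul_mem _ (mpure η) ?_)
  rw [hh']
  set w := Units.map (algebraMap F (Matrix (Fin m) (Fin m) F)).toMonoidHom (Units.mk0 u hu0)
  rw [show Units.map (liftHom (F := F) i₀).toMonoidHom w = pureU (Function.update 1 i₀ w) from Units.ext (by
    show lift i₀ (w : Matrix (Fin m) (Fin m) F) = pureT _
    rw [← pureT_update_eq_lift]
    congr 1
    funext i
    by_cases hi : i = i₀ <;> simp [hi])]
  exact mpure _

end Cfsg.Agent.TensorWreath43
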