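import Cfsg.Agent.Lib.TensorMaxGlue
import Cfsg.Agent.Lib.TensorWreath43Wreath

/-!
Moving a tensor wreath stabiliser to standard coordinates, and a test for membership in it.
-/

set_option autoImplicit false
set_option linter.unusedSectionVars false

namespace Cfsg.Agent.TensorWreath43

open scoped Matrix

variable {F : Type*} [Field F] {t m : ℕ} {ι : Type} [Fintype ι] [DecidableEq ι]

/-- The coordinate change attached to a decomposition into several factors. -/
def phi (e : ι ≃ TI t m) (P : GL ι F) : GL (TI t m) F ≃* GL ι F :=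
  (Cfsg.Geo.glReindex e.symm).trans (MulAut.conj P)

theorem tensorWreathSubgroup_eq (e : ι ≃ TI t m) (P : GL ι F) :
    Cfsg.Geo.tensorWreathSubgroup m t e P = (Cfsg.Geo.tensorWreathStandard m t F).map (phi e P).toMonoidHom := by
  rw [Cfsg.Geo.tensorWreathSubgroup, Subgroup.map_map]
  rfl

theorem phi_val (e : ι ≃ TI t m) (P : GL ι F) (g : GL (TI t m) F) :
    (phi e P g : Matrix ι ι F) = (P : Matrix ι ι F) *
      (g : Matrix (TI t m) (TI t m) F).submatrix e e * ((P⁻¹ : GL ι F) : Matrix ι ι F) :=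
  rfl

theorem phi_mulVec (e : ι ≃ TI t m) (P : GL ι F) (g : GL (TI t m) F) (x : TI t m → F) :
    (phi e P g : Matrix ι ι F) *ᵥ ((P : Matrix ι ι F) *ᵥ (x ∘ e)) =
      (P : Matrix ι ι F) *ᵥ (((g : Matrix (TI t m) (TI t m) F) *ᵥ x) ∘ e) := by
  rw [Matrix.mulVec_mulVec, phi_val, mul_assoc, Units.inv_mul, mul_one, ← Matrix.mulVec_mulVec,
    Matrix.submatrix_mulVec_equiv]
  congr 1
  funext i
  show ((g : Matrix (TI t m) (TI t m) F) *ᵥ ((x ∘ e) ∘ e.symm)) (e i) = _
  rw [show (x ∘ e) ∘ e.symm = x from funext fun p => by simp]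
  rfl

theorem phi_det (e : ι ≃ TI t m) (P : GL ι F) (g : GL (TI t m) F) :
    (phi e P g : Matrix ι ι F).det = (g : Matrix (TI t m) (TI t m) F).det := by
  rw [phi_val, Matrix.det_units_conj, Matrix.det_submatrix_equiv_self]

/-- A criterion for maximality of a tensor wreath stabiliser. -/
theorem isMaximalIn_of (e : ι ≃ TI t m) (P : GL ι F) (K : Subgroup (GL ι F))
    (hne : ∃ g, phi e P g ∈ K ∧ g ∉ Cfsg.Geo.tensorWreathStandard m t F)
    (h : ∀ M : Subgroup (GL (TI t m) F),
      Cfsg.Geo.tensorWreathStandard m t F ⊓ K.comap (phi e P).toMonoidHom ≤ M → M ≤ K.comap (phi e P).toMonoidHom →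
      M ≤ Cfsg.Geo.tensorWreathStandard m t F ∨ K.comap (phi e P).toMonoidHom ≤ M) :
    Cfsg.Geo.IsMaximalIn K (Cfsg.Geo.tensorWreathSubgroup m t e P ⊓ K) := by
  have e1 : Cfsg.Geo.tensorWreathSubgroup m t e P ⊓ K =
      (Cfsg.Geo.tensorWreathStandard m t F ⊓ K.comap (phi e P).toMonoidHom).map (phi e P).toMonoidHom := by
    rw [Subgroup.map_inf _ _ _ (phi e P).injective, ← tensorWreathSubgroup_eq,
      Subgroup.map_comap_eq_self_of_surjective (phi e P).surjective]
  rw [e1]
  refine TensorMaxGlue.isMaximalIn_map (phi e P) ⟨lt_of_le_of_ne inf_le_right fun heq => ?_, fun M h1 h2 => ?_⟩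
  · obtain ⟨g, hg, hgk⟩ := hne
    have hg' : g ∈ K.comap (phi e P).toMonoidHom := hg
    rw [← heq] at hg'
    exact hgk hg'.1
  · rcases h M h1 h2 with h' | h'
    · exact Or.inl (le_antisymm (le_inf h' h2) h1)
    · exact Or.inr (le_antisymm h2 h')

theorem pureU_mem_wreath (η : Fin t → GL (Fin m) F) : pureU η ∈ Cfsg.Geo.tensorWreathStandard m t F :=
  Subgroup.subset_closure (Or.inl ⟨η, fun _ _ => rfl⟩)

theorem permU_mem_wreath (σ : Equiv.Perm (Fin t)) :
    (permU σ : GL (TI t m) F) ∈ Cfsg.Geo.tensorWreathStandard m t F :=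
  Subgroup.subset_closure (Or.inr ⟨σ, fun _ _ => rfl⟩)

theorem liftU_eq_pureU (j : Fin t) (w : GL (Fin m) F) :
    Units.map (liftHom (F := F) j).toMonoidHom w = pureU (Function.update 1 j w) := by
  refine Units.ext ?_
  show lift j (w : Matrix (Fin m) (Fin m) F) = pureT _
  rw [← pureT_update_eq_lift]
  congr 1
  funext i
  by_cases hi : i = j <;> simp [hi]

/-- The tensor of one vector at each position. -/
def pureV (xs : Fin t → Fin m → F) : TI t m → F := fun x => ∏ i, xs i (x i)

/-- An element of the tensor wreath stabiliser maps pure tensors to pure tensors. -/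
theorem pureV_image [Fintype F] {g : GL (TI t m) F} (hg : g ∈ Cfsg.Geo.tensorWreathStandard m t F)
    (xs : Fin t → Fin m → F) : ∃ ys, (g : Matrix (TI t m) (TI t m) F) *ᵥ pureV xs = pureV ys := by
  classical
  let Φ : GL (TI t m) F → Prop := fun g =>
    ∀ xs, ∃ ys, (g : Matrix (TI t m) (TI t m) F) *ᵥ pureV xs = pureV ys
  suffices Φ g from this xs
  have hmul : ∀ a b, Φ a → Φ b → Φ (a * b) := fun a b ha hb xs => by
    obtain ⟨ys, hy⟩ := hb xs
    obtain ⟨zs, hz⟩ := ha ys
    exact ⟨zs, by rw [Units.val_mul, ← Matrix.mulVec_mulVec, hy, hz]⟩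
  have hone : Φ 1 := fun xs => ⟨xs, by simp⟩
  refine Subgroup.closure_induction (p := fun g _ => Φ g) ?_ hone (fun a b _ _ => hmul a b) ?_ hg
  · rintro g (⟨gs, hgs⟩ | ⟨σ, hσ⟩) xs
    · refine ⟨fun i => (gs i : Matrix (Fin m) (Fin m) F) *ᵥ xs i, funext fun x => ?_⟩
      simp only [Matrix.mulVec, dotProduct, pureV, hgs, ← Finset.prod_mul_distrib]
      exact (Fintype.prod_sum (fun i c => (gs i : Matrix (Fin m) (Fin m) F) (x i) c * xs i c)).symm
    · refine ⟨fun i => xs (σ.symm i), funext fun x => ?_⟩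
      rw [Matrix.mulVec, dotProduct, Finset.sum_eq_single (x ∘ σ) (fun y _ hy => by rw [hσ, if_neg hy, zero_mul])
        (by simp), hσ, if_pos rfl, one_mul]
      refine (Fintype.prod_equiv σ _ _ fun i => ?_)
      simp
  · intro a _ ha
    rw [show a⁻¹ = a ^ (orderOf a - 1) from inv_eq_of_mul_eq_one_right (by
      rw [← pow_succ', Nat.sub_add_cancel (orderOf_pos a), pow_orderOf_eq_one])]
    induction orderOf a - 1 with
    | zero => rw [pow_zero]; exact hone
    | succ n ih => rw [pow_succ]; exact hmul _ _ ih ha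

/-- The sum of two coordinate tensors differing at two positions is not pure. -/
theorem single_add_single_ne_pureV {p q : TI t m} {i₁ i₂ : Fin t} (hi : i₁ ≠ i₂) (h₁ : p i₁ ≠ q i₁)
    (h₂ : p i₂ ≠ q i₂) {u w : F} (hu : u ≠ 0) (hw : w ≠ 0) (ys : Fin t → Fin m → F) :
    Pi.single p u + Pi.single q w ≠ pureV ys := by
  classical
  intro h
  have hp := congrFun h p
  have hq := congrFun h q
  have hpq : p ≠ q := fun e => h₁ (congrFun e i₁)
  simp only [Pi.add_apply, Pi.single_eq_same, Pi.single_eq_of_ne hpq, Pi.single_eq_of_ne hpq.symm, add_zero,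
    zero_add, pureV] at hp hq
  rw [hp] at hu
  rw [hq] at hw
  rw [Finset.prod_ne_zero_iff] at hu hw
  have hr := congrFun h (Function.update p i₁ (q i₁))
  have hrp : Function.update p i₁ (q i₁) ≠ p := fun e => h₁ (by simpa using (congrFun e i₁).symm)
  have hrq : Function.update p i₁ (q i₁) ≠ q := fun e => h₂ (by simpa [Function.update_of_ne hi.symm] using congrFun e i₂)
  simp only [Pi.add_apply, Pi.single_eq_of_ne hrp, Pi.single_eq_of_ne hrq, add_zero, pureV] at hr
  refine Finset.prod_ne_zero_iff.2 (fun i _ => ?_) hr.symm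
  by_cases hii : i = i₁
  · subst hii; rw [Function.update_self]; exact hw i (Finset.mem_univ i)
  · rw [Function.update_of_ne hii]; exact hu i (Finset.mem_univ i)

theorem pureV_single (q : TI t m) :
    pureV (fun i => Pi.single (q i) (1 : F)) = Pi.single q 1 := by
  classical
  funext x
  by_cases hx : x = q
  · subst hx; simp [pureV]
  · obtain ⟨i, hi⟩ := Function.ne_iff.1 hx
    rw [Pi.single_eq_of_ne hx, pureV, Finset.prod_eq_zero (Finset.mem_univ i)]
    simp [hi]

end Cfsg.Agent.TensorWreath43
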