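import Cfsg.Agent.Lib.OWreathDefs
import Cfsg.Agent.Lib.OTensorGlue
import Cfsg.Agent.Lib.OmegaGeo
import Cfsg.Agent.Lib.OrthSubfieldMax44
import Cfsg.Agent.Lib.TensorWreath43Glue

/-!
From the dichotomy for overgroups in standard coordinates to the maximality of the stabiliser of a tensor power of an
orthogonal space.
-/

set_option autoImplicit false
set_option linter.unusedSectionVars false

namespace Cfsg.Agent.OWreath

open scoped Matrix MatrixGroups
open QuadraticMap
open Cfsg.Agent.OTensor (Sym Hyp)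
open Cfsg.Agent.OrthUnitaryQuad Cfsg.Agent.OmegaGeo

variable {F : Type*} [Field F] {k t : ℕ} {f : W F k → W F k → F}

/-- The dichotomy for overgroups in standard coordinates. -/
def Dich (f : W F k → W F k → F) : Prop :=
  ∀ (ι : Type) [Fintype ι] [DecidableEq ι] (M : Subgroup (GL (ι → Fin k) F)), Ovr f M → M ≤ Nst F k ι ∨ omV f ≤ M

theorem lg_entry {κ : Type} [Fintype κ] [DecidableEq κ] (g : GL κ F) :
    (g : Matrix κ κ F) = LinearMap.toMatrix' (lg g) := by
  rw [show lg g = Matrix.toLin' (g : Matrix κ κ F) from OTensor.lin_eq g, LinearMap.toMatrix'_toLin']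

theorem tenGL_entry {ι : Type} [Fintype ι] [DecidableEq ι] (a : ι → GL (Fin k) F) (x y : ι → Fin k) :
    (tenGL a : Matrix (ι → Fin k) (ι → Fin k) F) x y = ∏ i, (a i : Matrix (Fin k) (Fin k) F) (x i) (y i) := by
  rw [lg_entry (tenGL a), lg_tenGL, ten]
  refine (congrFun (congrFun (LinearMap.toMatrix'_toLin' (Matrix.of fun p q : ι → Fin k =>
    ∏ i, LinearMap.toMatrix' (lg (a i)) (p i) (q i))) x) y).trans (Finset.prod_congr rfl fun i _ => ?_)
  rw [lg_entry (a i)]

theorem permGL_entry {ι : Type} [Fintype ι] [DecidableEq ι] (σ : Equiv.Perm ι) (x y : ι → Fin k) :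
    ((permGL σ : GL (ι → Fin k) F) : Matrix (ι → Fin k) (ι → Fin k) F) x y = if y = x ∘ σ then 1 else 0 := by
  rw [lg_entry (permGL σ), lg_permGL, LinearMap.toMatrix'_apply, permV, LinearMap.funLeft_apply, Pi.single_apply]
  simp only [eq_comm (a := y)]

theorem standard_eq : Cfsg.Geo.tensorWreathStandard k t F = Nst F k (Fin t) := by
  refine le_antisymm ((Subgroup.closure_le _).2 ?_) ?_
  · rintro g (⟨gs, hgs⟩ | ⟨σ, hσ⟩)
    · rw [show g = tenGL gs from Units.ext (Matrix.ext fun x y => by rw [hgs, tenGL_entry])]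
      exact tenGL_mem _
    · rw [show g = permGL σ from Units.ext (Matrix.ext fun x y => (hσ x y).trans (permGL_entry σ x y).symm)]
      exact permGL_mem _
  · rintro g hg
    obtain ⟨a, σ, rfl⟩ := mem_Nst.1 hg
    exact mul_mem (Subgroup.subset_closure (Or.inl ⟨a, tenGL_entry a⟩))
      (Subgroup.subset_closure (Or.inr ⟨σ, permGL_entry σ⟩))

/-- The coordinate map of a decomposition. -/
def psi {κ : Type} [Fintype κ] [DecidableEq κ] (e : κ ≃ (Fin t → Fin k)) (P : GL κ F) :
    ((Fin t → Fin k) → F) →ₗ[F] (κ → F) :=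
  (Matrix.mulVecLin (P : Matrix κ κ F)).comp (LinearMap.funLeft F F e)

section Coord

variable {κ : Type} [Fintype κ] [DecidableEq κ] (e : κ ≃ (Fin t → Fin k)) (P : GL κ F)

theorem psi_apply (x : (Fin t → Fin k) → F) : psi e P x = (P : Matrix κ κ F) *ᵥ (x ∘ e) := rfl

theorem psi_surjective : Function.Surjective (psi e P) := fun v =>
  ⟨(((P⁻¹ : GL κ F) : Matrix κ κ F) *ᵥ v) ∘ e.symm, by
    rw [psi_apply, show ((((P⁻¹ : GL κ F) : Matrix κ κ F) *ᵥ v) ∘ e.symm) ∘ e =
      ((P⁻¹ : GL κ F) : Matrix κ κ F) *ᵥ v from funext fun i => by simp, Matrix.mulVec_mulVec, Units.mul_inv,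
      Matrix.one_mulVec]⟩

theorem comap_omega (q : QuadraticForm F (κ → F)) :
    (Cfsg.Geo.omegaGL ⇑q).comap (TensorWreath43.phi e P).toMonoidHom = Cfsg.Geo.omegaGL ⇑(q.comp (psi e P)) := by
  have hI : (Cfsg.isometryGroup F ⇑(q.comp (psi e P))).map (TensorWreath43.phi e P).toMonoidHom =
      Cfsg.isometryGroup F ⇑q := by
    ext g
    constructor
    · rintro ⟨g, hg, rfl⟩ v w
      obtain ⟨x, rfl⟩ := psi_surjective e P v
      show q ((TensorWreath43.phi e P g : Matrix κ κ F) *ᵥ psi e P x) = q (psi e P x)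
      rw [psi_apply, TensorWreath43.phi_mulVec]
      exact hg x x
    · intro hg
      refine ⟨(TensorWreath43.phi e P).symm g, fun x _ => ?_, (TensorWreath43.phi e P).apply_symm_apply g⟩
      show q (psi e P (((TensorWreath43.phi e P).symm g :
        Matrix (Fin t → Fin k) (Fin t → Fin k) F) *ᵥ x)) = q (psi e P x)
      rw [psi_apply, psi_apply, ← TensorWreath43.phi_mulVec, MulEquiv.apply_symm_apply]
      exact hg (psi e P x) (psi e P x)
  rw [TensorMaxGlue.omegaGL_eq, TensorMaxGlue.omegaGL_eq, ← hI, ← Subgroup.map_commutator,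
    Subgroup.comap_map_eq_self_of_injective]
  exact (TensorWreath43.phi e P).injective

end Coord

section Standard

variable {ι : Type} [Fintype ι] [DecidableEq ι] {q : QuadraticForm F ((ι → Fin k) → F)}

theorem isometry_eq (two : (2 : F) ≠ 0) (hpol : ∀ u w, polar q u w = bT f u w) :
    Cfsg.isometryGroup F ⇑q = (isoV f : Subgroup (GL (ι → Fin k) F)) := by
  ext g
  constructor
  · intro hg u w
    have h : ∀ v, q (lg g v) = q v := fun v => by rw [lg_apply]; exact hg v v
    rw [← hpol, ← hpol]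
    simp only [QuadraticMap.polar, ← map_add (lg g), h]
  · intro hg u w
    show q ((g : Matrix _ _ F) *ᵥ u) = q u
    have h := hg u u
    rw [← hpol, ← hpol, polar_self_mul, polar_self_mul] at h
    rw [← lg_apply]
    exact mul_left_cancel₀ two h

theorem omega_eq (two : (2 : F) ≠ 0) (hpol : ∀ u w, polar q u w = bT f u w) :
    Cfsg.Geo.omegaGL ⇑q = (omV f : Subgroup (GL (ι → Fin k) F)) := by
  rw [TensorMaxGlue.omegaGL_eq, isometry_eq two hpol]
  rfl

theorem sq_mem_omV [Fintype F] (two : (2 : F) ≠ 0) (hnd : (polarBilin q).Nondegenerate)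
    (hpol : ∀ u w, polar q u w = bT f u w) {g : GL (ι → Fin k) F} (hg : g ∈ isoV f) : g * g ∈ omV f := by
  classical
  have hgen : OrthUnitaryRefl.reflGroup q = ⊤ :=
    OrthUnitaryRefl.reflGroup_eq_top (OrthUnitaryOmega.isReg_of_nondegenerate hnd) (Or.inl
      ⟨-1, neg_ne_zero.2 one_ne_zero, fun e => two (by linear_combination -e)⟩)
  have hq : ∀ u, q (lg g u) = q u := fun u => by
    have h := hg u u
    rw [← hpol, ← hpol, polar_self_mul, polar_self_mul] at h
    exact mul_left_cancel₀ two h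
  set o : orth q := ⟨LinearEquiv.ofLinearMap (lg g) (lg g⁻¹) (LinearMap.ext fun u => lg_apply_inv g u)
    (LinearMap.ext fun u => lg_inv_apply g u), hq⟩ with ho
  have ho' : toGL q o = g := lg_injective (LinearMap.ext fun u => by
    rw [lg_apply, toGL_mulVec]
    rfl)
  rw [← omega_eq two hpol, ← ho', ← OmegaMaxGlue.glHom_apply, ← map_mul, OmegaMaxGlue.glHom_apply]
  exact toGL_mem (SteinbergOrth.sq_mem_commutator hgen o)

theorem ovr_of [Fintype F] (two : (2 : F) ≠ 0) (hnd : (polarBilin q).Nondegenerate)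
    (hpol : ∀ u w, polar q u w = bT f u w) {M : Subgroup (GL (ι → Fin k) F)}
    (h1 : Nst F k ι ⊓ omV f ≤ M) (h2 : M ≤ omV f) : Ovr f M where
  le := h2.trans ((Subgroup.commutator_le).2 fun a ha b hb => by
    rw [commutatorElement_def]
    exact (isoV f).mul_mem ((isoV f).mul_mem ((isoV f).mul_mem ha hb) ((isoV f).inv_mem ha)) ((isoV f).inv_mem hb))
  sq a ha haG := h1 ⟨mul_mem ha ha, sq_mem_omV two hnd hpol haG⟩
  der a ha haG b hb hbG := h1 ⟨(Nst F k ι).mul_mem ((Nst F k ι).mul_mem ((Nst F k ι).mul_mem ha hb) ((Nst F k ι).inv_mem ha))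
      ((Nst F k ι).inv_mem hb), by
    rw [← commutatorElement_def]
    exact Subgroup.commutator_mem_commutator haG hbG⟩

/-- The square of a Siegel transformation at pure vectors leaves the stabiliser. -/
theorem exists_outside [Fintype F] (hS : Std f) (hnd : (polarBilin q).Nondegenerate)
    (hpol : ∀ u w, polar q u w = bT f u w) {i₀ i₁ : ι} (hne : i₁ ≠ i₀) :
    ∃ g ∈ omV f, g ∉ Nst F k ι := by
  classical
  have hf := hS.sym
  obtain ⟨e, he0, he⟩ := OTensor.exists_singular hf hS.hk
  obtain ⟨e', he', hee'⟩ := OTensor.exists_partner hf hS.two he0 he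
  have he'e : f e' e = 1 := by rw [OTensor.symm hf, hee']
  have H : Hyp f e e' := ⟨he, he', hee'⟩
  obtain ⟨a, a1, a2, a3⟩ := OTensor.exists_aniso hf hS.two hS.hk H
  set xs : ι → W F k := Function.update (fun _ => e) i₀ a with hxs
  set U : VI F ι k := pv fun _ => e with hU
  set X : VI F ι k := pv xs with hX
  have hUU : bT f U U = 0 := by
    rw [hU, bT_pv hf, Finset.prod_eq_zero (Finset.mem_univ i₀) he]
  have hXX : bT f X X = 0 := by
    rw [hX, bT_pv hf, Finset.prod_eq_zero (Finset.mem_univ i₁)]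
    rw [hxs, Function.update_of_ne hne, he]
  have hUX : bT f U X = 0 := by
    rw [hU, hX, bT_pv hf, Finset.prod_eq_zero (Finset.mem_univ i₁)]
    rw [hxs, Function.update_of_ne hne, he]
  have hXU : bT f X U = 0 := by rw [bT_symm hf, hUX]
  set N : Module.End F (VI F ι k) := ((bT f).flip U).smulRight X - ((bT f).flip X).smulRight U with hN
  have hNa : ∀ v, N v = bT f v U • X - bT f v X • U := fun v => rfl
  have hN2 : N * N = 0 := LinearMap.ext fun v => by
    simp [Module.End.mul_apply, hNa, hUU, hXX, hUX, hXU]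
  have hinv : (1 + N) * (1 - N) = 1 := by
    rw [add_mul, one_mul, mul_sub, mul_one, hN2, sub_zero, sub_add_cancel]
  set s := mkGL (1 + N) (1 - N) hinv with hs
  have hsv : ∀ v, lg s v = v + N v := fun v => by rw [hs, lg_mkGL]; rfl
  have hsiso : s ∈ isoV f := fun u w => by
    simp only [hsv, hNa, map_add, map_sub, map_smul, LinearMap.add_apply, LinearMap.sub_apply,
      LinearMap.smul_apply, smul_eq_mul, hUU, hXX, hUX, hXU, bT_symm hf U w, bT_symm hf X w]
    ring
  refine ⟨s * s, sq_mem_omV hS.two hnd hpol hsiso, fun hmem => ?_⟩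
  obtain ⟨z, hz⟩ := Nst_apply hmem fun _ => e'
  have hv : lg (s * s) (pv fun _ => e') = (pv fun _ => e') + (2 : F) • X := by
    have h1 : bT f (pv fun _ => e') U = 1 := by
      rw [hU, bT_pv hf]; exact Finset.prod_eq_one fun i _ => he'e
    have h2 : bT f (pv fun _ => e') X = 0 := by
      rw [hX, bT_pv hf, Finset.prod_eq_zero (Finset.mem_univ i₀)]
      rw [hxs, Function.update_self, OTensor.symm hf, a2]
    have hNX : N X = 0 := by rw [hNa, hXU, hXX, zero_smul, zero_smul, sub_zero]
    rw [map_mul, Module.End.mul_apply, hsv, hsv, hNa (pv fun _ => e'), h1, h2, one_smul, zero_smul, sub_zero,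
      map_add, hNa (pv fun _ => e'), h1, h2, one_smul, zero_smul, sub_zero, hNX, add_zero, two_smul, add_assoc]
  rw [hv] at hz
  have key : ∀ w : ι → W F k, ∏ i, f (z i) (w i) = ∏ i, f e' (w i) + 2 * ∏ i, f (xs i) (w i) := fun w => by
    rw [← bT_pv hf, ← bT_pv hf, ← bT_pv hf, ← hz, map_add, LinearMap.add_apply, map_smul, LinearMap.smul_apply,
      smul_eq_mul]
  have kA : ∀ i, f (z i) e ≠ 0 := by
    intro i hi
    have h := key fun _ => e
    rw [Finset.prod_eq_zero (Finset.mem_univ i) hi, Finset.prod_eq_one fun j _ => he'e,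
      Finset.prod_eq_zero (Finset.mem_univ i₁) (show f (xs i₁) e = 0 by rw [hxs, Function.update_of_ne hne, he]),
      mul_zero, add_zero] at h
    exact zero_ne_one h
  have kB : f (z i₀) a ≠ 0 := by
    intro hi
    have h := key (Function.update (fun _ => e') i₀ a)
    rw [Finset.prod_eq_zero (Finset.mem_univ i₀) (by rw [Function.update_self, hi]),
      Finset.prod_eq_zero (Finset.mem_univ i₀) (by rw [Function.update_self, OTensor.symm hf, a2]), zero_add,
      eq_comm, mul_eq_zero, or_iff_right hS.two, Finset.prod_eq_zero_iff] at h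
    obtain ⟨i, -, hi'⟩ := h
    by_cases hii : i = i₀
    · subst hii
      rw [hxs, Function.update_self, Function.update_self] at hi'
      exact a3 hi'
    · rw [hxs, Function.update_of_ne hii, Function.update_of_ne hii, hee'] at hi'
      exact one_ne_zero hi'
  have h := key (Function.update (fun _ => e) i₀ a)
  rw [Finset.prod_eq_zero (s := Finset.univ) (f := fun i => f e' (Function.update (fun _ => e) i₀ a i))
      (Finset.mem_univ i₀) (by rw [Function.update_self, OTensor.symm hf, a2]),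
    Finset.prod_eq_zero (s := Finset.univ) (f := fun i => f (xs i) (Function.update (fun _ => e) i₀ a i))
      (Finset.mem_univ i₁) (by rw [hxs, Function.update_of_ne hne, he]), mul_zero, add_zero] at h
  refine Finset.prod_ne_zero_iff.2 (fun i _ => ?_) h
  by_cases hii : i = i₀
  · subst hii; rw [Function.update_self]; exact kB
  · rw [Function.update_of_ne hii]; exact kA i

end Standard

/-- Maximality of the stabiliser of a tensor power, given the dichotomy. -/
theorem wreath_maximal [Fintype F] {κ : Type} [Fintype κ] [DecidableEq κ] {Q : QuadraticForm F (κ → F)}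
    (hS : Std f) (hD : Dich f) (ht : 2 ≤ t)
    (e : κ ≃ (Fin t → Fin k)) (P : GL κ F)
    (hT : Cfsg.Geo.IsTensorPowerFormStructure id (QuadraticMap.polar Q) f e P) :
    Cfsg.Geo.IsMaximalIn (Cfsg.Geo.omegaGL ⇑Q)
      (Cfsg.Geo.tensorWreathSubgroup k t e P ⊓ Cfsg.Geo.omegaGL ⇑Q) := by
  obtain ⟨c, hc, hT⟩ := hT
  set q : QuadraticForm F ((Fin t → Fin k) → F) := c⁻¹ • Q.comp (psi e P) with hq
  have hpolc : ∀ u w, polar (Q.comp (psi e P)) u w = c * bT f u w := fun u w => by
    rw [show polar (Q.comp (psi e P)) u w = polar Q (psi e P u) (psi e P w) by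
      simp [QuadraticMap.polar, map_add], psi_apply, psi_apply, hT, bT_eq]
    rfl
  have hpol : ∀ u w, polar q u w = bT f u w := fun u w => by
    have h : polar q u w = c⁻¹ * polar (Q.comp (psi e P)) u w := by
      simp only [hq, QuadraticMap.polar, smul_apply, smul_eq_mul]
      ring
    rw [h, hpolc, ← mul_assoc, inv_mul_cancel₀ hc, one_mul]
  have hndq : (polarBilin q).Nondegenerate :=
    ⟨fun u hu => bT_nd hS.sym u fun w => by rw [← hpol]; exact hu w,
      fun u hu => bT_nd hS.sym u fun w => by rw [bT_symm hS.sym, ← hpol]; exact hu w⟩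
  have hK : (Cfsg.Geo.omegaGL ⇑Q).comap (TensorWreath43.phi e P).toMonoidHom = omV f := by
    rw [comap_omega, ← omega_eq hS.two hpol]
    exact (OrthSubfieldMax44.omegaGL_smul (inv_ne_zero hc) _).symm
  refine TensorWreath43.isMaximalIn_of e P _ ?_ fun M h1 h2 => ?_
  · obtain ⟨g, hg, hgN⟩ := exists_outside hS hndq hpol (i₀ := ⟨0, by omega⟩) (i₁ := ⟨1, by omega⟩)
      (by simp [Fin.ext_iff])
    exact ⟨g, show g ∈ (Cfsg.Geo.omegaGL ⇑Q).comap (TensorWreath43.phi e P).toMonoidHom by rw [hK]; exact hg,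
      fun h => hgN (standard_eq (F := F) ▸ h)⟩
  · rw [hK, standard_eq] at h1 ⊢
    rw [hK] at h2
    exact hD (Fin t) M (ovr_of hS.two hndq hpol h1 h2)

/-- The hypotheses for a symmetric form in odd characteristic. -/
theorem std_of [Fintype F] (two : (2 : F) ≠ 0) (h₁ : Cfsg.Geo.IsSymmetricForm f) (hk : 3 ≤ k)
    (hex : ¬ (Fintype.card F = 3 ∧ k = 3))
    (h4 : k = 4 → ¬ Cfsg.Geo.IsPlusTypeOn (fun v : Fin k → F => f v v) ⊤) : Std f where
  sym := OTensor.sym_of h₁
  two := two
  hk := hk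
  sane := by
    by_cases h : k = 4
    · subst h; exact OTensor.sane_of_minus (OTensor.sym_of h₁) (h4 rfl)
    · exact Or.inl h
  hbig := OTensor.hbig_of hex two hk

theorem two_of_odd {F : Type*} [Field F] [Fintype F] (hodd : Odd (Fintype.card F)) : (2 : F) ≠ 0 :=
  Ring.two_ne_zero fun h => by
    have := FiniteField.even_card_iff_char_two.1 h
    rw [Nat.odd_iff] at hodd
    omega

/-- Odd degree, given the dichotomy. -/
theorem odd_maximal {F : Type*} [Field F] [Fintype F]
    (hD : ∀ (k : ℕ) (f : W F k → W F k → F), Std f → Dich f)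
    (hodd : Odd (Fintype.card F)) (m : ℕ) (k t : ℕ) (hk : 3 ≤ k) (ht : 2 ≤ t)
    (hex : ¬ (Fintype.card F = 3 ∧ k = 3)) (e : (Unit ⊕ (Fin m ⊕ Fin m)) ≃ (Fin t → Fin k))
    (P : Matrix.GeneralLinearGroup (Unit ⊕ (Fin m ⊕ Fin m)) F) (f₁ : (Fin k → F) → (Fin k → F) → F)
    (hf₁ : Cfsg.Geo.IsSymmetricForm f₁)
    (hT : Cfsg.Geo.IsTensorPowerFormStructure id (QuadraticMap.polar (Cfsg.quadFormOdd m F)) f₁ e P) :
    Cfsg.Geo.IsMaximalIn (Cfsg.Geo.omegaGL (Cfsg.quadFormOdd m F))
      (Cfsg.Geo.tensorWreathSubgroup k t e P ⊓ Cfsg.Geo.omegaGL (Cfsg.quadFormOdd m F)) := by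
  have h4 : k ≠ 4 := by
    rintro rfl
    have hc := Fintype.card_congr e
    simp only [Fintype.card_sum, Fintype.card_unit, Fintype.card_fin, Fintype.card_fun] at hc
    have : Even (4 ^ t) := Nat.even_pow.2 ⟨by decide, by omega⟩
    rw [← hc, Nat.even_iff] at this
    omega
  have two := two_of_odd hodd
  have hS := std_of two hf₁ hk hex fun h => absurd h h4
  rw [← QuadClassify.qOdd_coe] at hT ⊢
  exact wreath_maximal hS (hD k f₁ hS) ht e P hT

/-- Even degree, given the dichotomy. -/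
theorem even_maximal {F : Type*} [Field F] [Fintype F]
    (hD : ∀ (k : ℕ) (f : W F k → W F k → F), Std f → Dich f)
    {n : ℕ} (Q : (Fin n → F) → F) (hQ : Cfsg.Geo.IsNondegenerateQuadraticForm Q)
    (hodd : Odd (Fintype.card F)) (k t : ℕ) (ht : 2 ≤ t) (e : (Fin n) ≃ (Fin t → Fin k))
    (P : Matrix.GeneralLinearGroup (Fin n) F) (f₁ : (Fin k → F) → (Fin k → F) → F)
    (hf₁ : Cfsg.Geo.IsSymmetricForm f₁)
    (hsize : (6 ≤ k ∧ Cfsg.Geo.IsPlusTypeOn (fun v : Fin k → F => f₁ v v) ⊤) ∨
      (4 ≤ k ∧ ¬ Cfsg.Geo.IsPlusTypeOn (fun v : Fin k → F => f₁ v v) ⊤))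
    (hT : Cfsg.Geo.IsTensorPowerFormStructure id (QuadraticMap.polar Q) f₁ e P) :
    Cfsg.Geo.IsMaximalIn (Cfsg.Geo.omegaGL Q)
      (Cfsg.Geo.tensorWreathSubgroup k t e P ⊓ Cfsg.Geo.omegaGL Q) := by
  have two := two_of_odd hodd
  have hk : 4 ≤ k := by rcases hsize with h | h <;> omega
  have hS := std_of two hf₁ (by omega) (fun h => by omega) fun h => by
    rcases hsize with h' | h'
    · omega
    · exact h'.2
  obtain ⟨q, rfl, -⟩ := OmegaGeo.exists_quad hQ
  exact wreath_maximal hS (hD k f₁ hS) ht e P hT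

end Cfsg.Agent.OWreath
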