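import Cfsg.Agent.Lib.OWreathAverage

/-!
An overgroup in which every element fusing a short element back into the wreath group lies in the wreath group is
itself inside the wreath group.
-/

set_option autoImplicit false
set_option linter.unusedSectionVars false

namespace Cfsg.Agent.OWreath

open Cfsg.Agent.OTensor (Sym Hyp nn sq1 sie nn_apply sq1_apply smul_right' sub_left')

variable {F : Type*} [Field F] {k : ℕ} {ι : Type} [Fintype ι] [DecidableEq ι] {f : W F k → W F k → F}

/-- Multiplication by an operator from both sides. -/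
def sandw {κ : Type} (S : Module.End F (κ → F)) : Module.End F (κ → F) →ₗ[F] Module.End F (κ → F) :=
  (LinearMap.mulLeft F S).comp (LinearMap.mulRight F S)

theorem sandw_apply {κ : Type} (S X : Module.End F (κ → F)) : sandw S X = S * (X * S) := rfl

section One

variable (hf : Sym f)
include hf

theorem sandw_sq1 (p : ι) (e : W F k) (Z : Module.End F (VI F ι k)) :
    ∃ B, sandw (op p (sq1 hf e)) Z = op p (sq1 hf e) * out p B := by
  refine ⟨(con f p e).comp (Z.comp (emb p e)), LinearMap.ext fun v => ?_⟩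
  simp only [sandw_apply, Module.End.mul_apply, op_sq hf, con_out hf]
  rfl

theorem group_sum_mem {κ : Type*} [AddCommGroup κ] [Fintype κ] (h2 : (2 : F) ≠ 0) (p : ι) {e : W F k}
    (he : f e e = 0) (η : κ →+ W F k) (hη : ∀ z, f (η z) e = 0) (hκ : (Fintype.card κ : F) = 0)
    (hB : ∀ B : W F k →ₗ[F] W F k →ₗ[F] Module.End F (VI F ι k), ∑ z, B (η z) (η z) = 0)
    (Y : Module.End F (VI F ι k)) :
    ∑ z, op p (sie hf e (η z)) * Y * op p (sie hf e (-η z)) ∈
      LinearMap.range (sandw (op p (sq1 hf e))) := by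
  set S := op p (sq1 hf e) with hS
  let c : κ → F := fun z => -(2 : F)⁻¹ * f (η z) (η z)
  let N : κ → Module.End F (VI F ι k) := fun z => op p (nn hf e (η z))
  have hneg : ∀ z, f (-η z) e = 0 := fun z => by rw [OTensor.neg_left' hf, hη, neg_zero]
  have hnn : ∀ z, nn hf e (-η z) = (-1 : F) • nn hf e (η z) := fun z => by
    rw [OTensor.nn_neg]; exact (neg_one_smul F _).symm
  have eN : ∀ z, N (-z) = (-1 : F) • N z := fun z => by simp only [N, map_neg, hnn, op_smul]
  have ec : ∀ z, c (-z) = c z := fun z => by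
    simp only [c, map_neg, OTensor.neg_left' hf, hf.neg_right, neg_neg]
  have ex : ∀ z, op p (sie hf e (η z)) * Y * op p (sie hf e (-η z)) =
      ((Y + (c z * c z) • (S * (Y * S))) + (c z • (S * Y + Y * S) - N z * Y * N z)) +
        ((N z * Y - Y * N z) + c z • (N z * Y * S - S * Y * N z)) := by
    intro z
    rw [sie_eq hf he (hη z), sie_eq hf he (hneg z), OTensor.neg_left' hf, hf.neg_right, neg_neg, hnn]
    simp only [op_add, op_one, op_smul, op_neg]
    rw [show op p (nn hf e (η z)) = N z from rfl, show -(2 : F)⁻¹ * f (η z) (η z) = c z from rfl, ← hS]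
    simp only [add_mul, mul_add, one_mul, mul_one, smul_mul_assoc, mul_smul_comm, smul_add, smul_sub, mul_assoc,
      smul_smul]
    module
  simp only [ex]
  rw [Finset.sum_add_distrib, Finset.sum_add_distrib]
  refine Submodule.add_mem _ (Submodule.add_mem _ ?_ ?_) ?_
  · rw [Finset.sum_add_distrib, Finset.sum_const, ← Nat.cast_smul_eq_nsmul F, Finset.card_univ, hκ, zero_smul,
      zero_add]
    exact Submodule.sum_mem _ fun z _ => Submodule.smul_mem _ _ ⟨Y, rfl⟩
  · let B : W F k →ₗ[F] W F k →ₗ[F] Module.End F (VI F ι k) := LinearMap.mk₂ F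
      (fun u w => (-(2 : F)⁻¹ * f u w) • (S * Y + Y * S) - op p (nn hf e u) * Y * op p (nn hf e w))
      (fun u u' w => by simp only [hf.add_left, nn_add, op_add, add_mul, mul_add, add_smul]; abel)
      (fun r u w => by
        simp only [hf.smul_left, nn_smul, op_smul, smul_mul_assoc, smul_sub, smul_smul]
        rw [show -(2 : F)⁻¹ * (r * f u w) = r * (-(2 : F)⁻¹ * f u w) by ring])
      (fun u w w' => by simp only [hf.add_right, nn_add, op_add, mul_add, add_smul]; abel)
      (fun r u w => by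
        simp only [smul_right' hf, nn_smul, op_smul, mul_smul_comm, smul_sub, smul_smul]
        rw [show -(2 : F)⁻¹ * (r * f u w) = r * (-(2 : F)⁻¹ * f u w) by ring])
    have := hB B
    simp only [B, LinearMap.mk₂_apply] at this
    simp only [c, N, this, Submodule.zero_mem]
  · set G : κ → Module.End F (VI F ι k) := fun z => N z * Y - Y * N z + c z • (N z * Y * S - S * Y * N z)
    have hG : ∑ z, G z = -∑ z, G z := by
      conv_lhs => rw [← Equiv.sum_comp (Equiv.neg κ) G]
      rw [← Finset.sum_neg_distrib]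
      refine Finset.sum_congr rfl fun z _ => ?_
      simp only [G, Equiv.neg_apply, eN, ec, smul_mul_assoc, mul_smul_comm, smul_sub]
      module
    rw [eq_neg_iff_add_eq_zero, ← two_smul F] at hG
    rw [show ∑ z, G z = 0 from (smul_eq_zero.1 hG).resolve_left h2]
    exact Submodule.zero_mem _

theorem sq_sum_zero_one [Fintype F] {a : W F k} (ht : ∃ t : F, t ≠ 0 ∧ t * t ≠ 1)
    (B : W F k →ₗ[F] W F k →ₗ[F] Module.End F (VI F ι k)) :
    ∑ z : F, B (z • a) (z • a) = 0 := by
  obtain ⟨t, ht0, ht⟩ := ht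
  simp only [map_smul, LinearMap.smul_apply, smul_smul, ← Finset.sum_smul]
  have h : ∑ z : F, z * z = (t * t) * ∑ z : F, z * z := by
    rw [Finset.mul_sum]
    conv_lhs => rw [← Equiv.sum_comp (Equiv.mulLeft₀ t ht0) fun z => z * z]
    exact Finset.sum_congr rfl fun z _ => by simp only [Equiv.mulLeft₀_apply]; ring
  rw [show ∑ z : F, z * z = 0 from (mul_eq_zero.1 (show (1 - t * t) * (∑ z : F, z * z) = 0 by
    linear_combination h)).resolve_left (sub_ne_zero.2 (Ne.symm ht)), zero_smul]

theorem sq_sum_zero_two [Fintype F] (h2 : (2 : F) ≠ 0) (a b : W F k)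
    (B : W F k →ₗ[F] W F k →ₗ[F] Module.End F (VI F ι k)) :
    ∑ z : F × F, B (z.1 • a + z.2 • b) (z.1 • a + z.2 • b) = 0 := by
  have h0 : (Fintype.card F : F) = 0 := FiniteField.cast_card_eq_zero F
  have hs : ∑ x : F, x = 0 := by
    have h : ∑ x : F, x = -∑ x : F, x := by
      conv_lhs => rw [← Equiv.sum_comp (Equiv.neg F) fun x => x]
      simp only [Equiv.neg_apply]
      exact Finset.sum_neg_distrib _
    exact (mul_eq_zero.1 (show (2 : F) * (∑ x : F, x) = 0 by linear_combination h)).resolve_left h2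
  simp only [map_add, map_smul, LinearMap.add_apply, LinearMap.smul_apply, smul_add, smul_smul,
    Finset.sum_add_distrib, ← Finset.sum_smul, Fintype.sum_prod_type, Finset.sum_const, ← Finset.mul_sum,
    ← Finset.sum_mul, Finset.card_univ, ← Nat.cast_smul_eq_nsmul F, smul_eq_mul, h0, hs, zero_mul, mul_zero,
    Finset.sum_const_zero, zero_smul, add_zero]
  rw [zero_add, ← Finset.sum_mul_sum, hs, zero_mul, zero_smul]

end One

variable (M : Subgroup (GL (ι → Fin k) F))

/-- The wreath part of an overgroup. -/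
abbrev HN : Subgroup M := (Nst F k ι).subgroupOf M

/-- The averaged projection attached to a coset. -/
noncomputable def cosetPhi (q : M ⧸ HN M) : Module.End F (VI F ι k) →ₗ[F] Module.End F (VI F ι k) :=
  (conjOp (q.out : GL (ι → Fin k) F)).comp (phiT.comp (conjOp (q.out : GL (ι → Fin k) F)⁻¹))

theorem cosetPhi_mk (g : M) (X : Module.End F (VI F ι k)) :
    cosetPhi M (QuotientGroup.mk g) X = conjOp (g : GL (ι → Fin k) F) (phiT (conjOp (g : GL (ι → Fin k) F)⁻¹ X)) := by
  obtain ⟨h, hh⟩ := QuotientGroup.mk_out_eq_mul (HN M) g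
  show conjOp _ (phiT (conjOp _ X)) = _
  rw [hh, Subgroup.coe_mul, mul_inv_rev, conjOp_mul, conjOp_mul,
    phiT_conjOp ((Nst F k ι).inv_mem (Subgroup.mem_subgroupOf.1 h.2)), ← conjOp_mul, ← conjOp_mul,
    mul_inv_cancel_right]

theorem cosetPhi_smul (m : M) (q : M ⧸ HN M) (X : Module.End F (VI F ι k)) :
    cosetPhi M (m • q) X =
      conjOp (m : GL (ι → Fin k) F) (cosetPhi M q (conjOp (m : GL (ι → Fin k) F)⁻¹ X)) := by
  induction q using QuotientGroup.induction_on with
  | _ g =>
    rw [show m • (QuotientGroup.mk g : M ⧸ HN M) = QuotientGroup.mk (m * g) from rfl, cosetPhi_mk, cosetPhi_mk]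
    simp only [Subgroup.coe_mul, mul_inv_rev, conjOp_mul]

theorem mk_eq_mk_one {g : M} (hg : (g : GL (ι → Fin k) F) ∈ Nst F k ι) :
    (QuotientGroup.mk g : M ⧸ HN M) = QuotientGroup.mk 1 :=
  QuotientGroup.eq.2 (Subgroup.mem_subgroupOf.2 (by
    rw [mul_one, Subgroup.coe_inv]
    exact (Nst F k ι).inv_mem hg))

theorem fixed_iff (m g : M) : m • (QuotientGroup.mk g : M ⧸ HN M) = QuotientGroup.mk g ↔
    (g : GL (ι → Fin k) F)⁻¹ * m * g ∈ Nst F k ι := by
  rw [show m • (QuotientGroup.mk g : M ⧸ HN M) = QuotientGroup.mk (m * g) from rfl, eq_comm, QuotientGroup.eq,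
    Subgroup.mem_subgroupOf]
  simp [mul_assoc]

section Avg

variable [Fintype (M ⧸ HN M)] [DecidableEq (M ⧸ HN M)]

/-- The sum over the other cosets. -/
noncomputable def avgD : Module.End F (VI F ι k) →ₗ[F] Module.End F (VI F ι k) :=
  ∑ q ∈ Finset.univ.erase (QuotientGroup.mk 1), cosetPhi M q

/-- The sum over all cosets. -/
noncomputable def avgF : Module.End F (VI F ι k) →ₗ[F] Module.End F (VI F ι k) := ∑ q, cosetPhi M q

theorem avgD_eq (X : Module.End F (VI F ι k)) : avgD M X = avgF M X - phiT X := by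
  rw [avgD, avgF, LinearMap.sum_apply, LinearMap.sum_apply, Finset.sum_erase_eq_sub (Finset.mem_univ _),
    cosetPhi_mk]
  rw [Subgroup.coe_one, inv_one, conjOp_one, conjOp_one]

theorem avgF_conjOp (m : M) (X : Module.End F (VI F ι k)) :
    avgF M (conjOp (m : GL (ι → Fin k) F) X) = conjOp (m : GL (ι → Fin k) F) (avgF M X) := by
  simp only [avgF, LinearMap.sum_apply, map_sum]
  rw [← Equiv.sum_comp (MulAction.toPerm m)]
  exact Finset.sum_congr rfl fun q _ => by
    rw [MulAction.toPerm_apply, cosetPhi_smul, conjOp_inv_cancel]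

theorem avgD_conjOp {h : GL (ι → Fin k) F} (hM : h ∈ M) (hN : h ∈ Nst F k ι) (X : Module.End F (VI F ι k)) :
    avgD M (conjOp h X) = conjOp h (avgD M X) := by
  rw [avgD_eq, avgD_eq, map_sub, phiT_conjOp hN]
  exact congrArg (· - _) (avgF_conjOp M ⟨h, hM⟩ X)

variable {M} (hf : Sym f)
include hf

/-- The other cosets contribute nothing at an element fixed by a group of short elements. -/
theorem avgD_kill [Fintype F] (h2 : (2 : F) ≠ 0) (hM : Ovr f M) (p : ι) {e a : W F k} (he : f e e = 0)
    (ha : f a e = 0) {κ : Type*} [AddCommGroup κ] [Fintype κ] {d : ℕ} (hd : 1 ≤ d)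
    (hcard : Fintype.card κ = Fintype.card F ^ d) (η : κ →+ W F k) (hη : ∀ z, f (η z) e = 0)
    (hB : ∀ B : W F k →ₗ[F] W F k →ₗ[F] Module.End F (VI F ι k), ∑ z, B (η z) (η z) = 0)
    (hst : ∀ g : M, (g : GL (ι → Fin k) F) ∉ Nst F k ι → ∀ z, z ≠ 0 →
      (g : GL (ι → Fin k) F)⁻¹ * opGL p (sieW hf h2 he (hη z)) * g ∈ Nst F k ι →
      (∀ Y z', conjOp (opGL p (sieW hf h2 he (hη z))) Y = Y → conjOp (opGL p (sieW hf h2 he (hη z'))) Y = Y) ∧
        ∃ z', (g : GL (ι → Fin k) F)⁻¹ * opGL p (sieW hf h2 he (hη z')) * g ∉ Nst F k ι)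
    {g : GL (Fin k) F} (hg : g ∈ isoW f) {α β : F} (ge : lg (g * g) e = α • e) (ga : lg (g * g) a = β • a)
    (hab : α * β ≠ α * α) (B : Module.End F (VI F (Oth p) k)) :
    avgD M (op p (nn hf e a) * out p B) = 0 := by
  set X := op p (nn hf e a) * out p B with hX
  let r : κ → M := fun z => ⟨opGL p (sieW hf h2 he (hη z)), hM.sie_mem hf h2 p he (hη z)⟩
  let τ : κ → M ⧸ HN M → M ⧸ HN M := fun z q => r z • q
  have radd : ∀ z z', r (z + z') = r z * r z' := fun z z' => Subtype.ext (lg_injective (by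
    rw [Subgroup.coe_mul, map_mul]
    simp only [r, lg_opGL, lg_sieW, op_mul, map_add]
    rw [OTensor.sie_mul hf h2 he (hη z) (hη z')]))
  have rzero : r 0 = 1 := Subtype.ext (lg_injective (by
    rw [Subgroup.coe_one, map_one]
    simp only [r, lg_opGL, lg_sieW, map_zero, OTensor.sie_zero hf he, op_one]))
  have rlg : ∀ z, lg (r z : GL (ι → Fin k) F) = op p (sie hf e (η z)) := fun z => by
    simp only [r, lg_opGL, lg_sieW]
  have rinv : ∀ z, lg (r z : GL (ι → Fin k) F)⁻¹ = op p (sie hf e (-η z)) := fun z => by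
    simp only [r, opGL_inv, lg_opGL, lg_sieW_inv]
  have τ0 : ∀ q, τ 0 q = q := fun q => by simp only [τ, rzero, one_smul]
  have τadd : ∀ z z' q, τ (z + z') q = τ z (τ z' q) := fun z z' q => by simp only [τ, radd, mul_smul]
  have hfix : ∀ z, conjOp (r z : GL (ι → Fin k) F) X = X := fun z => conjOp_eq (by
    have hc : sie hf e (η z) * nn hf e a = nn hf e a * sie hf e (η z) := by
      rw [sie_eq hf he (hη z)]
      simp only [add_mul, mul_add, one_mul, mul_one, smul_mul_assoc, mul_smul_comm, sq_mul_nn hf he ha,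
        nn_mul_sq hf he ha, commute_nn hf he (hη z) ha]
    rw [rlg, hX, ← mul_assoc, op_mul, hc, ← op_mul, mul_assoc, op_out, mul_assoc])
  have hτ : ∀ z q, cosetPhi M (τ z q) X = conjOp (r z : GL (ι → Fin k) F) (cosetPhi M q X) := fun z q => by
    show cosetPhi M (r z • q) X = _
    rw [cosetPhi_smul]
    conv_lhs => rw [← hfix z, conjOp_inv_cancel]
  have hq0 : ∀ z, τ z (QuotientGroup.mk 1) = QuotientGroup.mk 1 := fun z => (fixed_iff M _ _).2 (by
    rw [Subgroup.coe_one, inv_one, one_mul, mul_one]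
    exact opGL_mem _ _)
  have hD : avgD M X ∈ LinearMap.range (sandw (op p (sq1 hf e))) := by
    rw [avgD, LinearMap.sum_apply]
    refine sum_mem_of_orbits _ τ τ0 τadd (fun q => cosetPhi M q X) _ (fun z q hq => ?_) fun q hq => ?_
    · refine Finset.mem_erase.2 ⟨fun hh => (Finset.mem_erase.1 hq).1 ?_, Finset.mem_univ _⟩
      rw [← τ0 q, ← neg_add_cancel z, τadd, hh, hq0]
    by_cases hinj : Function.Injective fun z => τ z q
    · rw [Finset.sum_image fun z _ z' _ hzz => hinj hzz]
      simp only [hτ, conjOp_apply, rlg, rinv]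
      exact group_sum_mem hf h2 p he η hη (by
        rw [hcard, Nat.cast_pow, FiniteField.cast_card_eq_zero, zero_pow (by omega)]) hB _
    · simp only [Function.Injective] at hinj
      push_neg at hinj
      obtain ⟨z₁, z₂, hz, hne⟩ := hinj
      have hfz : τ (-z₂ + z₁) q = q := by rw [τadd, hz, ← τadd, neg_add_cancel, τ0]
      have hz0 : -z₂ + z₁ ≠ 0 := fun h0 => hne ((neg_add_eq_zero.1 h0).symm)
      induction q using QuotientGroup.induction_on with
      | _ x =>
        have hx : (x : GL (ι → Fin k) F) ∉ Nst F k ι := fun hx => (Finset.mem_erase.1 hq).1 (mk_eq_mk_one M hx)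
        obtain ⟨hcom, z', hmov⟩ := hst x hx _ hz0 ((fixed_iff M (r (-z₂ + z₁)) x).1 hfz)
        have hall : ∀ z, cosetPhi M (τ z (QuotientGroup.mk x)) X = cosetPhi M (QuotientGroup.mk x) X := fun z => by
          rw [hτ]
          exact hcom _ z (by rw [← hτ, hfz])
        rw [Finset.sum_congr rfl (g := fun _ => cosetPhi M (QuotientGroup.mk x) X) (fun c hc => by
          obtain ⟨z, -, rfl⟩ := Finset.mem_image.1 hc
          exact hall z), Finset.sum_const]
        rw [← Nat.cast_smul_eq_nsmul F, orbit_card_zero hcard τ τ0 τadd _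
          ⟨z', fun h => hmov ((fixed_iff M (r z') x).1 h)⟩, zero_smul]
        exact Submodule.zero_mem _
  -- the weights
  obtain ⟨Z, hZ⟩ := hD
  obtain ⟨B', hB'⟩ := sandw_sq1 hf p e Z
  have hgM : opGL p (g * g) ∈ M := hM.opGL_sq hf p hg
  have hgg : g * g ∈ isoW f := (isoW f).mul_mem hg hg
  have e1 : conjOp (opGL p (g * g)) X = (α * β) • X := by
    rw [hX, conjOp_mix, nn_conjOp hf hgg, ge, ga, nn_smul_both hf, op_smul, smul_mul_assoc]
  have e2 : conjOp (opGL p (g * g)) (avgD M X) = (α * α) • avgD M X := by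
    rw [← hZ, hB', conjOp_mix, sq1_conjOp hf hgg, ge, sq1_smul hf, op_smul, smul_mul_assoc]
  have e3 := avgD_conjOp M hgM (opGL_mem _ _) X
  rw [e1, e2, map_smul] at e3
  have e4 : (α * β - α * α) • avgD M X = 0 := (sub_smul (α * β) (α * α) (avgD M X)).trans (sub_eq_zero.2 e3)
  exact (smul_eq_zero.1 e4).resolve_left (sub_ne_zero.2 hab)

/-- The other cosets contribute nothing at any mixed skew operator of one position. -/
theorem avgD_mix_zero_at [Finite F] (h2 : (2 : F) ≠ 0) (hk : 3 ≤ k) (hsane : OTensor.Sane f) (hM : Ovr f M) (p : ι)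
    {e e' a : W F k} (H : Hyp f e e') (a1 : f a e = 0) (a2 : f a e' = 0) (a3 : f a a ≠ 0)
    {B : Module.End F (VI F (Oth p) k)} (h : avgD M (op p (nn hf e a) * out p B) = 0)
    {Y : Module.End F (W F k)} (hY : OTensor.IsSkew f Y) : avgD M (op p Y * out p B) = 0 := by
  haveI := Fintype.ofFinite F
  let L : Module.End F (W F k) →ₗ[F] Module.End F (VI F ι k) :=
    (avgD M).comp ((LinearMap.mulRight F (out p B)).comp (opHom p))
  have hL : ∀ Y, L Y = avgD M (op p Y * out p B) := fun _ => rfl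
  obtain ⟨z, hz⟩ := exists_OB hf h2 (by omega) (a := 1) one_ne_zero
  have hfull := OTensor.skew_full hf h2 hk hsane (LinearMap.ker L) (fun e₁ d h1 hd Z hZ => by
      rw [LinearMap.mem_ker, hL] at hZ ⊢
      rw [← lg_sieW hf h2 h1 hd, ← lg_sieW_inv hf h2 h1 hd, ← conjOp_apply, ← conjOp_mix,
        avgD_conjOp M (hM.sie_mem hf h2 p h1 hd) (opGL_mem _ _), hZ, map_zero])
    (LinearMap.mem_ker.2 h) (OTensor.nn_skew hf e a) (fun h0 => a3 (by
      have := congrArg (fun T : Module.End F (W F k) => f (T e') a) h0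
      simp only [nn_apply, sub_left' hf, hf.smul_left, LinearMap.zero_apply, hf.zero_left,
        OTensor.symm hf e' a, a2, OTensor.symm hf e' e, H.one, one_mul, zero_mul, zero_sub, neg_eq_zero] at this
      exact this))
  rw [← hL, skew_decomp hf h2 hz hY, map_sum]
  exact Finset.sum_eq_zero fun i _ => by rw [map_smul, LinearMap.mem_ker.1 (hfull _ _), smul_zero]

omit [Fintype (M ⧸ HN M)] [DecidableEq (M ⧸ HN M)] in
/-- An operator commuting with one short element commutes with all on the same line. -/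
theorem comm_short (h2 : (2 : F) ≠ 0) (_hM : Ovr f M) (p : ι) {e a : W F k} (he : f e e = 0) (a1 : f a e = 0)
    (a3 : f a a ≠ 0) {c : F} (hc : c ≠ 0) (c' : F) {v v' : W F k} (hv : f v e = 0) (hv' : f v' e = 0)
    (ev : v = c • a) (ev' : v' = c' • a) {Y : Module.End F (VI F ι k)}
    (hY : conjOp (opGL p (sieW hf h2 he hv)) Y = Y) : conjOp (opGL p (sieW hf h2 he hv')) Y = Y := by
  subst ev ev'
  have hη : ∀ c : F, f (c • a) e = 0 := fun c => by rw [hf.smul_left, a1, mul_zero]
  have hE : ∀ c : F, lg (opGL p (sieW hf h2 he (hη c))) =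
      1 + c • op p (nn hf e a) + ((-(2 : F)⁻¹ * f a a) * (c * c)) • op p (sq1 hf e) := fun c => by
    rw [lg_opGL, lg_sieW, sie_eq hf he (hη c)]
    rw [op_add, op_add, op_one, nn_smul, op_smul, op_smul, hf.smul_left, smul_right' hf]
    congr 2
    ring
  have hcY : lg (opGL p (sieW hf h2 he (hη c))) * Y = Y * lg (opGL p (sieW hf h2 he (hη c))) := by
    conv_rhs => rw [← hY, conjOp_apply, mul_assoc, lg_conj_inv, mul_one]
  set N := op p (nn hf e a) with hN
  set S := op p (sq1 hf e) with hS'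
  set dd := -(2 : F)⁻¹ * f a a * (c * c)
  have hU : (c • N + dd • S) * Y = Y * (c • N + dd • S) := by
    have h := hcY
    rw [hE, add_assoc, add_mul, mul_add, one_mul, mul_one] at h
    exact add_left_cancel h
  have hsq : (c • N + dd • S) * (c • N + dd • S) = (c * c * -f a a) • S := by
    simp only [hN, hS', add_mul, mul_add, smul_mul_assoc, mul_smul_comm, op_mul, nn_mul_nn hf he a1 a1,
      nn_mul_sq hf he a1, sq_mul_nn hf he a1, sq_mul_sq hf he, op_zero, op_smul, smul_zero, add_zero,
      smul_smul]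
    ring_nf
  have hS2 : S * Y = Y * S := by
    have h' : ((c * c * -f a a) • S) * Y = Y * ((c * c * -f a a) • S) := by
      rw [← hsq, mul_assoc, hU, ← mul_assoc, hU, mul_assoc]
    rw [smul_mul_assoc, mul_smul_comm] at h'
    exact smul_right_injective _ (mul_ne_zero (mul_ne_zero hc hc) (neg_ne_zero.2 a3)) h'
  have hN2 : N * Y = Y * N := by
    rw [add_mul, mul_add, smul_mul_assoc, smul_mul_assoc, mul_smul_comm, mul_smul_comm, hS2] at hU
    exact smul_right_injective _ hc (add_right_cancel hU)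
  refine conjOp_eq ?_
  rw [hE]
  simp only [add_mul, mul_add, one_mul, mul_one, smul_mul_assoc, mul_smul_comm, hS2, hN2]

/-- The other cosets contribute nothing at a mixed element, large fields. -/
theorem avgD_line [Fintype F] (h2 : (2 : F) ≠ 0) (hM : Ovr f M) (p : ι) {e e' a : W F k} (H : Hyp f e e')
    (a1 : f a e = 0) (a2 : f a e' = 0) (a3 : f a a ≠ 0) {t : F} (ht0 : t ≠ 0) (htt : t * t ≠ 1)
    (hbad : ∀ (g : M) (v : W F k) (v1 : f v e = 0), f v e' = 0 → f v v ≠ 0 →
      (k = 3 → ∀ c : F, (g : GL (ι → Fin k) F)⁻¹ * opGL p (sieW hf h2 H.ee (a := c • v)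
        (by rw [hf.smul_left, v1, mul_zero])) * g ∈ Nst F k ι) →
      (g : GL (ι → Fin k) F)⁻¹ * opGL p (sieW hf h2 H.ee v1) * g ∈ Nst F k ι → (g : GL (ι → Fin k) F) ∈ Nst F k ι)
    (B : Module.End F (VI F (Oth p) k)) : avgD M (op p (nn hf e a) * out p B) = 0 := by
  have hη : ∀ c : F, f ((LinearMap.toSpanSingleton F (W F k) a).toAddMonoidHom c) e = 0 := fun c => by
    show f (c • a) e = 0
    rw [hf.smul_left, a1, mul_zero]
  have he'e : f e' e = 1 := by rw [OTensor.symm hf, H.one]
  have hv : ∀ c : F, c ≠ 0 → f (e - c • e') (e - c • e') ≠ 0 := fun c hc => by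
    simp only [sub_left' hf, hf.sub_right, hf.smul_left, smul_right' hf, H.ee, H.ee', H.one, he'e]
    rw [show (0 - c * 1 - (c * 1 - c * (c * 0)) : F) = -(2 * c) by ring]
    exact neg_ne_zero.2 (mul_ne_zero h2 hc)
  have hre : ∀ (c : F) (hc : c ≠ 0), lg (reflW hf (hv c hc)) e = c • e' ∧ lg (reflW hf (hv c hc)) e' = c⁻¹ • e ∧
      lg (reflW hf (hv c hc)) a = a := fun c hc => by
    have fv : f (e - c • e') (e - c • e') = -(2 * c) := by
      simp only [sub_left' hf, hf.sub_right, hf.smul_left, smul_right' hf, H.ee, H.ee', H.one, he'e]; ring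
    have fe : f e (e - c • e') = -c := by
      rw [hf.sub_right, smul_right' hf, H.ee, H.one]; ring
    have fe' : f e' (e - c • e') = 1 := by
      rw [hf.sub_right, smul_right' hf, H.ee', he'e]; ring
    simp only [lg_reflW, rfl', LinearMap.sub_apply, Module.End.one_apply, LinearMap.smul_apply, sq1_apply, fv, fe,
      fe', smul_smul]
    refine ⟨?_, ?_, ?_⟩
    · rw [show 2 * (-(2 * c))⁻¹ * -c = 1 by field_simp]
      module
    · rw [show 2 * (-(2 * c))⁻¹ * 1 = -c⁻¹ by field_simp, smul_sub, smul_smul,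
        show -c⁻¹ * c = -1 by field_simp]
      module
    · rw [hf.sub_right, smul_right' hf, a1, a2, mul_zero, sub_zero, mul_zero, zero_smul, sub_zero]
  set g := reflW hf (hv 1 one_ne_zero) * reflW hf (hv t ht0)
  have ge : lg g e = t • e := by
    rw [map_mul, Module.End.mul_apply, (hre t ht0).1, map_smul, (hre 1 one_ne_zero).2.1, inv_one, one_smul]
  have ga : lg g a = a := by
    rw [map_mul, Module.End.mul_apply, (hre t ht0).2.2, (hre 1 one_ne_zero).2.2]
  refine avgD_kill hf h2 hM p H.ee a1 le_rfl (pow_one _).symm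
    (LinearMap.toSpanSingleton F (W F k) a).toAddMonoidHom hη
    (fun B => sq_sum_zero_one hf ⟨t, ht0, htt⟩ B) (fun x hx c hc hfx => ?_)
    ((isoW f).mul_mem (reflW_iso hf (hv 1 one_ne_zero)) (reflW_iso hf (hv t ht0))) (α := t * t) (β := 1)
    ?_ ?_ ?_ B
  · have hk3 : k = 3 := by
      by_contra hk3
      refine hx (hbad x (c • a) (hη c) ?_ ?_ (fun h => absurd h hk3) hfx)
      · rw [hf.smul_left, a2, mul_zero]
      · rw [hf.smul_left, smul_right' hf]; exact mul_ne_zero hc (mul_ne_zero hc a3)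
    refine ⟨fun Y c' hY => comm_short hf h2 hM p H.ee a1 a3 hc c' (hη c) (hη c') rfl rfl hY, ?_⟩
    by_contra! hall
    exact hx (hbad x a a1 a2 a3 (fun _ c' => hall c') (by simpa using hall 1))
  · rw [map_mul, Module.End.mul_apply, ge, map_smul, ge, smul_smul]
  · rw [map_mul, Module.End.mul_apply, ga, ga, one_smul]
  · intro hh
    refine htt (mul_left_cancel₀ (mul_ne_zero ht0 ht0) ?_).symm
    linear_combination hh

/-- The other cosets contribute nothing at a mixed element, the field of three elements. -/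
theorem avgD_plane [Fintype F] (h2 : (2 : F) ≠ 0) (hM : Ovr f M) (hsane : OTensor.Sane f) (hk4 : 4 ≤ k) (p : ι)
    {e e' a : W F k} (H : Hyp f e e') (a1 : f a e = 0) (a2 : f a e' = 0) (a3 : f a a ≠ 0)
    (ht : ∀ t : F, t ≠ 0 → t * t = 1)
    (hbad : ∀ (g : M) (v : W F k) (v1 : f v e = 0), f v e' = 0 → f v v ≠ 0 →
      (k = 3 → ∀ c : F, (g : GL (ι → Fin k) F)⁻¹ * opGL p (sieW hf h2 H.ee (a := c • v)
        (by rw [hf.smul_left, v1, mul_zero])) * g ∈ Nst F k ι) →
      (g : GL (ι → Fin k) F)⁻¹ * opGL p (sieW hf h2 H.ee v1) * g ∈ Nst F k ι → (g : GL (ι → Fin k) F) ∈ Nst F k ι)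
    (B : Module.End F (VI F (Oth p) k)) : ∃ b, f b e = 0 ∧ f b e' = 0 ∧ f b b ≠ 0 ∧
      avgD M (op p (nn hf e b) * out p B) = 0 := by
  have he0 := H.ne hf
  obtain ⟨a', b, A1, A2, A3, b1, b2, hab, hbb⟩ : ∃ a' b, f a' e = 0 ∧ f a' e' = 0 ∧ f a' a' ≠ 0 ∧ f b e = 0 ∧
      f b e' = 0 ∧ f b a' = 0 ∧ f b b = f a' a' := by
    have he'e : f e' e = 1 := by rw [OTensor.symm hf, H.one]
    have ho : ∀ i j : Fin 3, i ≠ j → f (![e + e', e - e', a] i) (![e + e', e - e', a] j) = 0 := by
      intro i j hij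
      fin_cases i <;> fin_cases j <;> first
        | exact absurd rfl hij
        | simp [hf.add_left, hf.add_right, sub_left' hf, hf.sub_right, H.ee, H.ee', H.one, he'e, a1, a2,
            OTensor.symm hf e a, OTensor.symm hf e' a]
    have hn : ∀ i : Fin 3, f (![e + e', e - e', a] i) (![e + e', e - e', a] i) ≠ 0 := by
      intro i
      fin_cases i
      · simpa [hf.add_left, hf.add_right, H.ee, H.ee', H.one, he'e, one_add_one_eq_two] using h2
      · have e4 : (-1 : F) - 1 ≠ 0 := fun h => h2 (by linear_combination -h)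
        simpa [sub_left' hf, hf.sub_right, H.ee, H.ee', H.one, he'e] using e4
      · simpa using a3
    have conv : ∀ b, (∀ i, f b (![e + e', e - e', a] i) = 0) → f b e = 0 ∧ f b e' = 0 ∧ f b a = 0 := by
      intro b hb
      have x0 : f b (e + e') = 0 := hb 0
      have x1 : f b (e - e') = 0 := hb 1
      rw [hf.add_right] at x0
      rw [hf.sub_right] at x1
      exact ⟨(mul_eq_zero.1 (show (2 : F) * f b e = 0 by linear_combination x0 + x1)).resolve_left h2,
        (mul_eq_zero.1 (show (2 : F) * f b e' = 0 by linear_combination x0 - x1)).resolve_left h2, hb 2⟩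
    by_cases hk5 : 5 ≤ k
    · obtain ⟨b, hb, hb'⟩ := exists_norm_orth hf h2 _ ho hn (by omega) (f a a)
      obtain ⟨b1, b2, b3⟩ := conv b hb'
      exact ⟨a, b, a1, a2, a3, b1, b2, b3, hb⟩
    · obtain ⟨b, hb, hb'⟩ := exists_aniso_orth hf h2 _ ho hn (by omega)
      obtain ⟨b1, b2, b3⟩ := conv b hb'
      refine ⟨a, b, a1, a2, a3, b1, b2, b3, ?_⟩
      have hsq := ht (f b b / f a a) (div_ne_zero hb a3)
      rcases mul_self_eq_one_iff.1 hsq with h | h
      · exact (div_eq_one_iff_eq a3).1 h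
      exfalso
      rw [div_eq_iff a3, neg_one_mul] at h
      rcases hsane with h4 | hsane
      · omega
      · obtain ⟨y, hy⟩ := hsane e (a + b) he0 H.ee
          (by simp [hf.add_left, hf.add_right, b3, OTensor.symm hf a b, h])
          (by rw [hf.add_right, OTensor.symm hf e a, OTensor.symm hf e b, a1, b1, add_zero])
        have := congrArg (fun u => f u a) hy
        simp [hf.add_left, hf.smul_left, b3, OTensor.symm hf e a, a1] at this
        exact a3 this
  refine ⟨a', A1, A2, A3, ?_⟩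
  let η : F × F →+ W F k := ((LinearMap.toSpanSingleton F (W F k) a').coprod
    (LinearMap.toSpanSingleton F (W F k) b)).toAddMonoidHom
  have hηv : ∀ c, η c = c.1 • a' + c.2 • b := fun c => rfl
  have hη : ∀ c, f (η c) e = 0 := fun c => by
    rw [hηv, hf.add_left, hf.smul_left, hf.smul_left, A1, b1]; ring
  have hd : f (a' - b) (a' - b) ≠ 0 := by
    simp only [sub_left' hf, hf.sub_right, hab, OTensor.symm hf a' b, hbb]
    rw [show f a' a' - 0 - (0 - f a' a') = 2 * f a' a' by ring]
    exact mul_ne_zero h2 A3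
  set g := reflW hf A3 * reflW hf hd
  have rb : lg (reflW hf hd) a' = b ∧ lg (reflW hf hd) b = a' := by
    have fd : f (a' - b) (a' - b) = 2 * f a' a' := by
      simp only [sub_left' hf, hf.sub_right, hab, OTensor.symm hf a' b, hbb]; ring
    have fa : f a' (a' - b) = f a' a' := by rw [hf.sub_right, OTensor.symm hf a' b, hab, sub_zero]
    have fb : f b (a' - b) = -f a' a' := by rw [hf.sub_right, hab, hbb, zero_sub]
    simp only [lg_reflW, rfl', LinearMap.sub_apply, Module.End.one_apply, LinearMap.smul_apply, sq1_apply, fd, fa,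
      fb, smul_smul]
    refine ⟨?_, ?_⟩
    · rw [show 2 * (2 * f a' a')⁻¹ * f a' a' = 1 by field_simp]
      module
    · rw [show 2 * (2 * f a' a')⁻¹ * -f a' a' = -1 by field_simp]
      module
  have ge : lg g e = e := by
    rw [map_mul, Module.End.mul_apply, lg_reflW, lg_reflW, rfl'_perp hf (v := a' - b) (by
      rw [hf.sub_right, OTensor.symm hf e a', OTensor.symm hf e b, A1, b1, sub_zero]),
      rfl'_perp hf (by rw [OTensor.symm hf, A1])]
  have gab : lg g a' = b ∧ lg g b = -a' := by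
    simp only [g, map_mul, Module.End.mul_apply, rb]
    rw [lg_reflW, rfl'_perp hf hab, rfl'_self hf A3]
    exact ⟨rfl, rfl⟩
  refine avgD_kill hf h2 hM p H.ee A1 (d := 2) (by omega) (by rw [Fintype.card_prod, sq]) η hη
    (fun B => sq_sum_zero_two hf h2 a' b B) (fun x hx c hc hfx => ?_)
    ((isoW f).mul_mem (reflW_iso hf A3) (reflW_iso hf hd)) (α := 1) (β := -1) ?_ ?_ ?_ B
  · refine absurd (hbad x (η c) (hη c) ?_ ?_ (fun h => absurd h (by omega)) hfx) hx
    · rw [hηv, hf.add_left, hf.smul_left, hf.smul_left, A2, b2]; ring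
    · rw [hηv]
      simp only [hf.add_left, hf.add_right, hf.smul_left, smul_right' hf, hab, OTensor.symm hf a' b, hbb,
        mul_zero, add_zero, zero_add]
      rw [← mul_assoc, ← mul_assoc, ← add_mul]
      refine mul_ne_zero ?_ A3
      intro h0
      by_cases hc1 : c.1 = 0
      · rw [hc1] at h0
        exact hc (Prod.ext hc1 (mul_self_eq_zero.1 (by simpa using h0)))
      by_cases hc2 : c.2 = 0
      · rw [hc2] at h0
        exact hc1 (mul_self_eq_zero.1 (by simpa using h0))
      rw [ht _ hc1, ht _ hc2, one_add_one_eq_two] at h0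
      exact h2 h0
  · rw [map_mul, Module.End.mul_apply, ge, ge, one_smul]
  · rw [map_mul, Module.End.mul_apply, gab.1, gab.2, neg_one_smul]
  · intro hh
    exact h2 (by linear_combination -hh)

omit [Fintype (M ⧸ HN M)] [DecidableEq (M ⧸ HN M)] in
/-- The one-position skew operators are partial traces of skew operators. -/
theorem exists_skew_phiT {a : W F k} (a3 : f a a ≠ 0) {T : Module.End F (VI F ι k)} (hT : T ∈ soS hf) :
    ∃ X, (∀ u w, bT f (X u) w = -bT f u (X w)) ∧ phiT X = T := by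
  induction hT using Submodule.span_induction with
  | mem T hT =>
    obtain ⟨p, v, w, rfl⟩ := hT
    let P : Module.End F (W F k) := (f a a)⁻¹ • sq1 hf a
    let X : ι → Module.End F (W F k) := Function.update (fun _ => P) p (nn hf v w)
    have hP : ∀ x y, f (P x) y = f x (P y) := fun x y => by
      simp only [P, LinearMap.smul_apply, hf.smul_left, smul_right' hf, OTensor.sq1_selfAdj hf a x y]
    have htr : LinearMap.trace F _ P = 1 := by
      rw [map_smul, show sq1 hf a = ((OTensor.bl hf).flip a).smulRight a from rfl, LinearMap.trace_smulRight]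
      exact inv_mul_cancel₀ a3
    refine ⟨ten X, fun u w' => ?_, ?_⟩
    · have h : AdjT f (ten X) (ten (Function.update X p (-nn hf v w))) := adj_ten hf fun i x y => by
        by_cases hi : i = p
        · subst hi
          rw [Function.update_self, LinearMap.neg_apply, hf.neg_right]
          simp only [X, Function.update_self]
          exact OTensor.nn_skew hf v w x y
        · simp only [X, Function.update_of_ne hi]
          exact hP x y
      rw [h u w', ← neg_one_smul F (nn hf v w), ten_update_smul, Function.update_eq_self_iff.2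
        (by simp [X]), LinearMap.smul_apply, map_smul, smul_eq_mul, neg_one_mul]
    · rw [phiT_apply, Finset.sum_eq_single p (fun q _ hq => ?_) (by simp), trP_ten]
      · simp only [X, Function.update_self]
        rw [Finset.prod_eq_one fun i hi => by rw [Function.update_of_ne (Finset.ne_of_mem_erase hi), htr],
          one_smul]
      · rw [trP_ten, Finset.prod_eq_zero (i := p) (Finset.mem_erase.2 ⟨Ne.symm hq, Finset.mem_univ _⟩),
          zero_smul, op_zero]
        simp only [X, Function.update_self]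
        rw [show nn hf v w = ((OTensor.bl hf).flip w).smulRight v - ((OTensor.bl hf).flip v).smulRight w from rfl,
          map_sub, LinearMap.trace_smulRight, LinearMap.trace_smulRight]
        show f v w - f w v = 0
        rw [OTensor.symm hf, sub_self]
  | zero => exact ⟨0, fun u w => by simp, map_zero _⟩
  | add S R _ _ hS hR =>
    obtain ⟨X, hX, rfl⟩ := hS
    obtain ⟨Y, hY, rfl⟩ := hR
    refine ⟨X + Y, fun u w => ?_, map_add _ _ _⟩
    simp only [LinearMap.add_apply, map_add, hX u w, hY u w]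
    ring
  | smul c S _ hS =>
    obtain ⟨X, hX, rfl⟩ := hS
    refine ⟨c • X, fun u w => ?_, map_smul _ _ _⟩
    simp only [LinearMap.smul_apply, map_smul, hX u w, smul_eq_mul]
    ring

end Avg

variable {M}

/-- An overgroup fusing no short element from outside is in the wreath group. -/
theorem le_Nst [Finite F] (hS : Std f) (hM : Ovr f M)
    (hnorm : ∀ g, IsSim f g → (∀ T ∈ soS hS.sym, lg g * T * lg g⁻¹ ∈ soS hS.sym) → g ∈ Nst F k ι)
    (hR : ∀ g ∈ M, ∀ (l : ι) (e e' : W F k) (H : Hyp f e e') (a : W F k) (a1 : f a e = 0), f a e' = 0 →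
      f a a ≠ 0 →
      (k = 3 → ∀ c : F, g * opGL l (sieW hS.sym hS.two H.ee (a := c • a)
        (by rw [hS.sym.smul_left, a1, mul_zero])) * g⁻¹ ∈ Nst F k ι) →
      g * opGL l (sieW hS.sym hS.two H.ee a1) * g⁻¹ ∈ Nst F k ι → g ∈ Nst F k ι) :
    M ≤ Nst F k ι := by
  classical
  have hf := hS.sym
  have h2 := hS.two
  haveI := Fintype.ofFinite F
  obtain ⟨z, hz⟩ := exists_OB hf h2 (by have := hS.hk; omega) (a := 1) one_ne_zero
  obtain ⟨e, he0, hee⟩ := OTensor.exists_singular hf hS.hk
  obtain ⟨e', he', h1⟩ := OTensor.exists_partner hf h2 he0 hee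
  have H : Hyp f e e' := ⟨hee, he', h1⟩
  obtain ⟨a, a1, a2, a3⟩ := OTensor.exists_aniso hf h2 hS.hk H
  -- an element fusing a short element cannot be outside
  have hbad : ∀ (p : ι) (g : M) (v : W F k) (v1 : f v e = 0), f v e' = 0 → f v v ≠ 0 →
      (k = 3 → ∀ c : F, (g : GL (ι → Fin k) F)⁻¹ * opGL p (sieW hf h2 H.ee (a := c • v)
        (by rw [hf.smul_left, v1, mul_zero])) * g ∈ Nst F k ι) →
      (g : GL (ι → Fin k) F)⁻¹ * opGL p (sieW hf h2 H.ee v1) * g ∈ Nst F k ι → (g : GL (ι → Fin k) F) ∈ Nst F k ι := by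
    intro p g v v1 v2 v3 h3 h
    rw [← inv_inv (g : GL (ι → Fin k) F)]
    refine (Nst F k ι).inv_mem (hR _ (M.inv_mem g.2) p e e' H v v1 v2 v3 (fun hk c => ?_) ?_)
    · rw [inv_inv]; exact h3 hk c
    · rw [inv_inv]; exact h
  haveI : Fintype (M ⧸ HN M) := Fintype.ofFinite _
  have hD : ∀ p B, ∃ b, f b e = 0 ∧ f b e' = 0 ∧ f b b ≠ 0 ∧ avgD M (op p (nn hf e b) * out p B) = 0 := by
    intro p B
    by_cases ht : ∃ t : F, t ≠ 0 ∧ t * t ≠ 1
    · obtain ⟨t, ht0, htt⟩ := ht
      exact ⟨a, a1, a2, a3, avgD_line hf h2 hM p H a1 a2 a3 ht0 htt (hbad p) B⟩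
    · push_neg at ht
      exact avgD_plane hf h2 hM hS.sane (hS.hbig.resolve_right fun ⟨t, h1, h2⟩ => h2 (ht t h1)) p H a1 a2 a3 ht
        (hbad p) B
  have hD' : ∀ p Y B, OTensor.IsSkew f Y → avgD M (op p Y * out p B) = 0 := fun p Y B hY => by
    obtain ⟨b, b1, b2, b3, h⟩ := hD p B
    exact avgD_mix_zero_at hf h2 hS.hk hS.sane hM p H b1 b2 b3 h hY
  have hskew : ∀ T, (∀ u w, bT f (T u) w = -bT f u (T w)) → avgF M T = phiT T := fun T hT => by
    have := skew_induction hf h2 hz (P := LinearMap.ker (avgD M)) (fun p Y B hY => hD' p Y B hY) hT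
    rwa [LinearMap.mem_ker, avgD_eq, sub_eq_zero] at this
  have hto : ∀ X : Module.End F (VI F ι k), (∀ u w, bT f (X u) w = -bT f u (X w)) → phiT X ∈ soS hf := fun X hX => by
    rw [phiT_apply X]
    exact Submodule.sum_mem _ fun p _ => op_skew_soS hf h2 hz (trP_skew hf hX p) p
  intro g hg
  refine hnorm g (isSim_of_iso (hM.le hg)) fun T hT => ?_
  obtain ⟨X, hX, rfl⟩ := exists_skew_phiT hf a3 hT
  have hgX : ∀ u w, bT f (conjOp g X u) w = -bT f u (conjOp g X w) := fun u w => by
    have hi := hM.le hg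
    show bT f (lg g (X (lg g⁻¹ u))) w = -bT f u (lg g (X (lg g⁻¹ w)))
    conv_lhs => rw [← lg_apply_inv g w, hi, hX, ← hi, lg_apply_inv]
  have e : conjOp g (phiT X) = phiT (conjOp g X) := by
    rw [← hskew X hX, ← avgF_conjOp M ⟨g, hg⟩, hskew _ hgX]
  rw [← conjOp_apply, e]
  exact hto _ hgX

end Cfsg.Agent.OWreath
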