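import Cfsg.Agent.Lib.OWreathLead
import Cfsg.Agent.Lib.OWreathExcess
import Cfsg.Agent.Lib.OWreathClimb
import Cfsg.Agent.Lib.OWreathMain
import Cfsg.Agent.Lib.OWreathEscape
import Cfsg.Agent.Lib.OWreathGlue

/-!
The dichotomy for the overgroups of a tensor power of an orthogonal space, by induction on the number of factors.
-/

set_option autoImplicit false
set_option linter.unusedSectionVars false

namespace Cfsg.Agent.OWreath

open Cfsg.Agent.OTensor (Sym Hyp nn sq1)

variable {F : Type*} [Field F] [Fintype F] {k : ℕ} {f : W F k → W F k → F}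

theorem omV_eq_bot_of_isEmpty {ι : Type} [Fintype ι] [DecidableEq ι] [IsEmpty ι] (f : W F k → W F k → F) :
    omV f (ι := ι) = ⊥ := by
  refine eq_bot_iff.2 (Subgroup.commutator_le.2 fun a _ b _ => ?_)
  have hc : a * b = b * a := by
    refine lg_injective (LinearMap.ext fun u => funext fun c => ?_)
    haveI : Subsingleton (ι → Fin k) := ⟨fun x y => funext fun i => isEmptyElim i⟩
    have hu : ∀ v : VI F ι k, v = v c • Pi.single c 1 := fun v => funext fun d => by
      rw [Subsingleton.elim d c]; simp
    rw [map_mul, map_mul, Module.End.mul_apply, Module.End.mul_apply]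
    have e : ∀ (T : Module.End F (VI F ι k)) v, T v c = v c * T (Pi.single c 1) c := fun T v => by
      conv_lhs => rw [hu v, map_smul]
      simp
    rw [e (lg a) (lg b u), e (lg b) u, e (lg b) (lg a u), e (lg a) u]
    ring
  simp [commutatorElement_def, hc]

theorem mem_Nst_of_subsingleton {ι : Type} [Fintype ι] [DecidableEq ι] [Subsingleton ι] [Nonempty ι]
    (g : GL (ι → Fin k) F) : g ∈ Nst F k ι := by
  obtain ⟨l⟩ := ‹Nonempty ι›
  haveI : IsEmpty (Oth l) := ⟨fun i => i.2 (Subsingleton.elim _ _)⟩
  haveI : Subsingleton (Oth l → Fin k) := ⟨fun x y => funext fun i => isEmptyElim i⟩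
  let one : VI F (Oth l) k := fun _ => 1
  let X : GL (ι → Fin k) F → Module.End F (W F k) := fun g =>
    { toFun := fun x c => lg g (emb l x one) fun _ => c
      map_add' := fun x y => funext fun c => by simp [emb_add]
      map_smul' := fun a x => funext fun c => by simp [emb_smul] }
  have hX : ∀ g, lg g = op l (X g) := fun g => ext_split l fun x u => by
    have hu : u = u (fun i => isEmptyElim i) • one := funext fun c => by
      rw [Subsingleton.elim c (fun i => isEmptyElim i)]; simp [one]
    rw [hu, map_smul, map_smul, map_smul, op_emb]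
    congr 1
    funext a
    have ha : (fun _ : ι => a l) = a := funext fun i => by rw [Subsingleton.elim i l]
    show lg g (emb l x one) a = lg g (emb l x one) (fun _ => a l) * 1
    rw [mul_one, ha]
  have hXX : X g * X g⁻¹ = 1 := by
    refine LinearMap.ext fun x => funext fun c => ?_
    have h := LinearMap.congr_fun (lg_mul_inv g) (emb l x one)
    rw [hX g, hX g⁻¹, op_mul, op_emb] at h
    have := congrFun h fun _ => c
    simpa [emb_apply, one] using this
  rw [show g = opGL l (mkGL (X g) (X g⁻¹) hXX) from lg_injective (by rw [lg_opGL, lg_mkGL, hX g])]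
  exact opGL_mem _ _

/-- The normaliser hypothesis. -/
def NormHyp (hS : Std f) : Prop :=
  ∀ (κ : Type) [Fintype κ] [DecidableEq κ] [Nonempty κ] (g : GL (κ → Fin k) F), IsSim f g →
    (∀ T ∈ soS hS.sym, lg g * T * lg g⁻¹ ∈ soS hS.sym) → g ∈ Nst F k κ

/-- The central monomial hypothesis. -/
def CentralHyp (hS : Std f) : Prop :=
  ∀ (κ : Type) [Fintype κ] [DecidableEq κ] (M : Subgroup (GL (κ → Fin k) F)), Ovr f M →
    ∀ (l : κ) (e e' : W F k), Hyp f e e' → ∀ Z : Module.End F (VI F (Oth l) k), Z ≠ 0 →
      El M (op l (sq1 hS.sym e) * out l Z) →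
      ∃ X : κ → Module.End F (W F k), X l = sq1 hS.sym e ∧ (∀ i, IsMonoFactor hS.sym (X i)) ∧
        (∃ i v w, nn hS.sym v w ≠ 0 ∧ X i = nn hS.sym v w) ∧ ∀ t : F, El M (t • ten X)

theorem dich_of (hS : Std f) (hnorm : NormHyp hS) (hcen : CentralHyp hS) : Dich f := by
  suffices ∀ n, ∀ (ι : Type) [Fintype ι] [DecidableEq ι], Fintype.card ι = n →
      ∀ M : Subgroup (GL (ι → Fin k) F), Ovr f M → M ≤ Nst F k ι ∨ omV f ≤ M from
    fun ι _ _ M hM => this _ ι rfl M hM
  intro n
  induction n using Nat.strong_induction_on with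
  | _ n ih =>
    intro ι _ _ hn M hM
    rcases isEmpty_or_nonempty ι with hι | hι
    · right
      rw [omV_eq_bot_of_isEmpty]
      exact bot_le
    by_cases h1 : Subsingleton ι
    · exact Or.inl fun g _ => mem_Nst_of_subsingleton g
    haveI : Nontrivial ι := not_subsingleton_iff_nontrivial.1 h1
    have hne : ∀ l : ι, Nonempty (Oth l) := fun l => by
      obtain ⟨i, hi⟩ := exists_ne l
      exact ⟨⟨i, hi⟩⟩
    by_cases hN : NoExcess hS.sym M
    · left
      have hnorm' : ∀ (l : ι) (A : GL (Oth l → Fin k) F), IsSim f A →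
          (∀ T ∈ soS hS.sym, lg A * T * lg A⁻¹ ∈ soS hS.sym) → A ∈ Nst F k (Oth l) := fun l A hA hT =>
        haveI := hne l
        hnorm (Oth l) A hA hT
      refine le_Nst hS hM (fun g hg hT => hnorm ι g hg hT) (hR_of_lead hS hM hN hnorm' fun M' hM' hN' l e e' H => ?_)
      haveI := hne l
      by_cases h2 : Subsingleton (Oth l)
      · exact fun g _ => mem_Nst_of_subsingleton g
      · haveI : Nontrivial (Oth l) := not_subsingleton_iff_nontrivial.1 h2
        obtain ⟨p, q, hpq⟩ := exists_pair_ne (Oth l)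
        have hlt : Fintype.card (Oth l) < n := by
          rw [← hn]
          exact Fintype.card_subtype_lt (x := l) (fun h => h rfl)
        exact lead_le hS hM' hN' H hpq (ih _ hlt (Oth l) rfl) (hnorm' l)
    · right
      obtain ⟨l, e, e', Z, H, hZ0, hZ⟩ := exists_central hS hM hN
      obtain ⟨X, hXl, hX, hB, hel⟩ := hcen ι M hM l e e' H Z hZ0 hZ
      exact omega_of_mono hS hM l (H.ne hS.sym) H.ee X hXl hX hB hel

end Cfsg.Agent.OWreath
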