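import Cfsg.Agent.Lib.OWreathAverage
import Cfsg.Agent.Lib.OWreathConj

/-!
A similitude normalising the Lie algebra of the single-position isometries lies in the wreath group.
-/

set_option autoImplicit false
set_option linter.unusedSectionVars false

namespace Cfsg.Agent.OWreath

open Cfsg.Agent.OTensor (Sym Hyp nn sq1 sie nn_apply sq1_apply smul_right' sub_left' neg_left')

variable {F : Type*} [Field F] {k : ℕ} {ι : Type} [Fintype ι] [DecidableEq ι] {f : W F k → W F k → F}

theorem conjOp_mul_op {κ : Type} [Fintype κ] [DecidableEq κ] (g : GL κ F) (X Y : Module.End F (κ → F)) :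
    conjOp g (X * Y) = conjOp g X * conjOp g Y := by
  simp only [conjOp_apply, mul_assoc]
  rw [← mul_assoc (lg g⁻¹) (lg g), lg_conj_inv, one_mul]

theorem op_injective (hk : 0 < k) (l : ι) {X Y : Module.End F (W F k)} (h : op l X = op l Y) : X = Y :=
  LinearMap.ext fun x => funext fun c => by
    have : Nonempty (Fin k) := ⟨⟨0, hk⟩⟩
    obtain ⟨b⟩ : Nonempty (Oth l → Fin k) := inferInstance
    have e := congrArg (fun T : Module.End F (VI F ι k) => prj l c (T (emb l x (Pi.single b (1 : F)))) b) h
    simpa [op_emb, prj_emb] using e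

theorem op_eq_zero' (hk : 0 < k) (l : ι) {X : Module.End F (W F k)} (h : op l X = 0) : X = 0 :=
  op_injective hk l (by rw [h, op_zero])

/-- A multiplicative injective linear endomorphism of the operators of one factor is inner. -/
theorem exists_inner_of_hom (hk : 0 < k) (φ : Module.End F (W F k) →ₗ[F] Module.End F (W F k))
    (hmul : ∀ X Y, φ (X * Y) = φ X * φ Y) (hinj : Function.Injective φ) :
    ∃ A : GL (Fin k) F, ∀ X, φ X = conjOp A X := by
  classical
  set c : Fin k := ⟨0, hk⟩
  set v : W F k := Pi.single c 1 with hv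
  let E : W F k →ₗ[F] Module.End F (W F k) :=
    LinearMap.smulRightₗ (LinearMap.proj (R := F) (φ := fun _ => F) c)
  have hE : ∀ x u, E x u = u c • x := fun x u => rfl
  have hXE : ∀ (X : Module.End F (W F k)) x, X * E x = E (X x) := fun X x =>
    LinearMap.ext fun u => by rw [Module.End.mul_apply, hE, hE, map_smul]
  obtain ⟨y₀, hy₀⟩ : ∃ y, φ (E v) y ≠ 0 := by
    by_contra! h
    have h0 : E v = 0 := hinj (by rw [map_zero]; exact LinearMap.ext h)
    have := congrFun (LinearMap.congr_fun h0 v) c
    simp [hE, hv] at this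
  let A : W F k →ₗ[F] W F k := (LinearMap.applyₗ y₀).comp (φ.comp E)
  have hA : ∀ X x, A (X x) = φ X (A x) := fun X x => by
    show φ (E (X x)) y₀ = φ X (φ (E x) y₀)
    rw [← hXE, hmul, Module.End.mul_apply]
  have hAi : Function.Injective A := by
    rw [← LinearMap.ker_eq_bot, LinearMap.ker_eq_bot']
    intro x hx
    by_contra hx0
    obtain ⟨d, hd⟩ := Function.ne_iff.1 hx0
    have h := hA ((x d)⁻¹ • (LinearMap.proj (R := F) (φ := fun _ => F) d).smulRight v) x
    rw [hx, map_zero, LinearMap.smul_apply, LinearMap.smulRight_apply, LinearMap.proj_apply,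
      inv_smul_smul₀ hd] at h
    exact hy₀ h
  let e := LinearEquiv.ofBijective A ⟨hAi, (LinearMap.injective_iff_surjective).1 hAi⟩
  refine ⟨mkGL A e.symm.toLinearMap (LinearMap.ext fun x => e.apply_symm_apply x), fun X => (conjOp_eq ?_).symm⟩
  rw [lg_mkGL]
  exact LinearMap.ext fun x => hA X x

variable (hf : Sym f)
include hf

/-- The skew operators of one factor. -/
def skewW : Submodule F (Module.End F (W F k)) where
  carrier := {Y | OTensor.IsSkew f Y}
  zero_mem' u w := by simp [hf.zero_left, hf.zero_right]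
  add_mem' {a b} ha hb u w := by
    simp only [LinearMap.add_apply, hf.add_left, hf.add_right, ha u w, hb u w]; ring
  smul_mem' c a ha u w := by
    simp only [LinearMap.smul_apply, hf.smul_left, smul_right' hf, ha u w]; ring

theorem mem_skewW {Y : Module.End F (W F k)} : Y ∈ skewW hf ↔ OTensor.IsSkew f Y := Iff.rfl

theorem bracket_skew {A B : Module.End F (W F k)} (hA : OTensor.IsSkew f A) (hB : OTensor.IsSkew f B) :
    OTensor.IsSkew f (A * B - B * A) := fun u w => by
  simp only [LinearMap.sub_apply, Module.End.mul_apply, sub_left' hf, hf.sub_right]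
  rw [hA (B u) w, hB u (A w), hB (A u) w, hA u (B w)]
  ring

/-- A product-closed space containing the elementary skew operators is everything. -/
theorem mem_of_nn_mul [Finite F] (h2 : (2 : F) ≠ 0) (hk : 3 ≤ k) (P : Submodule F (Module.End F (W F k)))
    (hmul : ∀ X ∈ P, ∀ Y ∈ P, X * Y ∈ P) (hnn : ∀ v w, nn hf v w ∈ P) (X : Module.End F (W F k)) : X ∈ P := by
  classical
  haveI := Fintype.ofFinite F
  obtain ⟨z, hz⟩ := exists_OB hf h2 (by omega) (a := 1) one_ne_zero
  have hoff : ∀ i j, i ≠ j → r1 hf (z i) (z j) ∈ P := by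
    intro i j hij
    obtain ⟨l, hl⟩ := (({i, j} : Finset (Fin k))ᶜ).card_pos.1 (by
      rw [Finset.card_compl, Fintype.card_fin]
      have := Finset.card_le_two (a := i) (b := j)
      omega)
    simp only [Finset.mem_compl, Finset.mem_insert, Finset.mem_singleton, not_or] at hl
    have e : r1 hf (z i) (z j) = (f (z l) (z l))⁻¹ • (nn hf (z i) (z l) * nn hf (z l) (z j)) := by
      refine LinearMap.ext fun u => ?_
      simp only [LinearMap.smul_apply, Module.End.mul_apply, nn_apply, r1_apply, sub_left' hf, hf.smul_left,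
        hz.orth l i hl.1, hz.orth j l (Ne.symm hl.2), hz.orth j i (Ne.symm hij)]
      match_scalars
      · field_simp [hz.ne l]
        ring
      all_goals ring
    rw [e]
    exact P.smul_mem _ (hmul _ (hnn _ _) _ (hnn _ _))
  have hall : ∀ i j, r1 hf (z i) (z j) ∈ P := by
    intro i j
    by_cases hij : i = j
    · subst hij
      haveI : Nontrivial (Fin k) := Fin.nontrivial_iff_two_le.2 (by omega)
      obtain ⟨l, hl⟩ := exists_ne i
      have e : r1 hf (z i) (z i) = (f (z l) (z l))⁻¹ • (r1 hf (z i) (z l) * r1 hf (z l) (z i)) := by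
        refine LinearMap.ext fun u => ?_
        simp only [LinearMap.smul_apply, Module.End.mul_apply, r1_apply, hf.smul_left, smul_smul]
        congr 1
        field_simp [hz.ne l]
      rw [e]
      exact P.smul_mem _ (hmul _ (hoff i l hl.symm) _ (hoff l i hl))
    · exact hoff i j hij
  have e : X = ∑ i, (f (z i) (z i))⁻¹ • ∑ j, (f (X (z i)) (z j) / f (z j) (z j)) • r1 hf (z j) (z i) := by
    refine OB.ext hf hz fun l => ?_
    rw [LinearMap.sum_apply, Finset.sum_eq_single l (fun i _ hil => by
      simp [LinearMap.sum_apply, r1_apply, hz.orth l i (Ne.symm hil)]) (by simp)]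
    simp only [LinearMap.smul_apply, LinearMap.sum_apply, r1_apply, Finset.smul_sum, smul_smul]
    conv_lhs => rw [OB.decomp hf hz (X (z l))]
    refine Finset.sum_congr rfl fun j _ => ?_
    congr 1
    field_simp [hz.ne l]
  rw [e]
  exact Submodule.sum_mem _ fun i _ => P.smul_mem _ (Submodule.sum_mem _ fun j _ => P.smul_mem _ (hall j i))

/-- A skew operator commuting with all elementary ones is zero. -/
theorem skew_centre [Finite F] (h2 : (2 : F) ≠ 0) (hk : 3 ≤ k) {Z : Module.End F (W F k)}
    (hZ : OTensor.IsSkew f Z) (hc : ∀ v w, nn hf v w * Z = Z * nn hf v w) : Z = 0 := by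
  classical
  haveI := Fintype.ofFinite F
  let P : Submodule F (Module.End F (W F k)) :=
    LinearMap.ker (LinearMap.mulLeft F Z - LinearMap.mulRight F Z)
  have hP : ∀ X, X ∈ P ↔ Z * X = X * Z := fun X => by
    rw [LinearMap.mem_ker, LinearMap.sub_apply, sub_eq_zero, LinearMap.mulLeft_apply, LinearMap.mulRight_apply]
  have hall : ∀ X, Z * X = X * Z := fun X => (hP X).1 (mem_of_nn_mul hf h2 hk P (fun A hA B hB => by
    rw [hP] at hA hB ⊢
    rw [← mul_assoc, hA, mul_assoc, hB, mul_assoc]) (fun v w => (hP _).2 (hc v w).symm) X)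
  obtain ⟨z, hz⟩ := exists_OB hf h2 (by omega) (a := 1) one_ne_zero
  refine OB.ext hf hz fun i => ?_
  have h := LinearMap.congr_fun (hall (r1 hf (z i) (z i))) (z i)
  simp only [Module.End.mul_apply, r1_apply, map_smul] at h
  have h0 : f (Z (z i)) (z i) = 0 := OTensor.skew_self hf h2 hZ _
  rw [h0, zero_smul] at h
  rw [LinearMap.zero_apply]
  exact (smul_eq_zero.1 h).resolve_left (hz.ne i)

theorem soS_decomp {T : Module.End F (VI F ι k)} (hT : T ∈ soS hf) :
    ∃ Y : ι → Module.End F (W F k), (∀ p, OTensor.IsSkew f (Y p)) ∧ T = ∑ p, op p (Y p) := by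
  induction hT using Submodule.span_induction with
  | mem T hT =>
    obtain ⟨p, v, w, rfl⟩ := hT
    refine ⟨Function.update 0 p (nn hf v w), fun q => ?_, ?_⟩
    · by_cases hq : q = p
      · subst hq; rw [Function.update_self]; exact OTensor.nn_skew hf v w
      · rw [Function.update_of_ne hq]; exact (skewW hf).zero_mem
    · rw [Finset.sum_eq_single p (fun q _ hq => by rw [Function.update_of_ne hq]; exact op_zero q) (by simp),
        Function.update_self]
  | zero => exact ⟨0, fun p => (skewW hf).zero_mem, by simp [op_zero]⟩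
  | add S T _ _ hS hT =>
    obtain ⟨Y, hY, rfl⟩ := hS
    obtain ⟨Z, hZ, rfl⟩ := hT
    exact ⟨Y + Z, fun p => (skewW hf).add_mem (hY p) (hZ p), by simp [op_add, Finset.sum_add_distrib]⟩
  | smul c S _ hS =>
    obtain ⟨Y, hY, rfl⟩ := hS
    exact ⟨c • Y, fun p => (skewW hf).smul_mem c (hY p), by simp [op_smul, Finset.smul_sum]⟩

omit hf in
theorem op_bracket_sum (Y : ι → Module.End F (W F k)) (p : ι) (Z : Module.End F (W F k)) :
    (∑ q, op q (Y q)) * op p Z - op p Z * (∑ q, op q (Y q)) = op p (Y p * Z - Z * Y p) := by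
  rw [Finset.sum_mul, Finset.mul_sum, ← Finset.sum_sub_distrib, Finset.sum_eq_single p
    (fun q _ hq => by rw [op_comm hq, sub_self]) (by simp), op_mul, op_mul, op_sub]

omit hf in
/-- A similitude normalising the Lie algebra lies in the wreath group. -/
theorem Nst_of_normalises [Finite F] [Nonempty ι] (hS : Std f) {g : GL (ι → Fin k) F} (_hg : IsSim f g)
    (h : ∀ T ∈ soS hS.sym, lg g * T * lg g⁻¹ ∈ soS hS.sym) : g ∈ Nst F k ι := by
  classical
  haveI := Fintype.ofFinite F
  have hf := hS.sym
  have h2 := hS.two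
  have hk := hS.hk
  have hk0 : 0 < k := by omega
  have hinj : Function.Injective (conjOp (F := F) g) := Function.LeftInverse.injective (conjOp_inv_cancel g)
  have hso : ∀ (p : ι) (Y : Module.End F (W F k)), OTensor.IsSkew f Y → op p Y ∈ soS hf := fun p Y hY => op_skew_mem hf h2 (by omega) p hY
  -- the Lie algebra is mapped onto itself
  have hmap : (soS hf).map (conjOp g) = soS hf := by
    refine Submodule.eq_of_le_of_finrank_eq (fun T => ?_) ?_
    · rintro ⟨S, hS', rfl⟩
      exact h S hS'
    · exact ((Submodule.equivMapOfInjective _ hinj (soS hf)).finrank_eq).symm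
  let L : ι → Submodule F (Module.End F (VI F ι k)) := fun j => ((skewW hf).map (opHom j)).map (conjOp g)
  have hrank : ∀ j, Module.finrank F ((skewW hf).map (opHom j) : Submodule F (Module.End F (VI F ι k))) =
      Module.finrank F (skewW hf) := fun j =>
    ((Submodule.equivMapOfInjective _ (fun X Y e => op_injective hk0 j e) (skewW hf)).finrank_eq).symm
  have hideal : ∀ j, ∀ T ∈ L j, ∀ S ∈ soS hf, T * S - S * T ∈ L j := by
    rintro j _ ⟨_, ⟨Y, hY, rfl⟩, rfl⟩ S hS'
    obtain ⟨S', hS'', rfl⟩ : S ∈ (soS hf).map (conjOp g) := by rw [hmap]; exact hS'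
    obtain ⟨Z, hZ, rfl⟩ := soS_decomp hf hS''
    refine ⟨op j (Y * Z j - Z j * Y), ⟨_, bracket_skew hf hY (hZ j), rfl⟩, ?_⟩
    rw [← conjOp_mul_op, ← conjOp_mul_op, ← map_sub, opHom_apply]
    congr 1
    rw [← neg_sub ((∑ p, op p (Z p)) * op j Y), op_bracket_sum, ← op_neg, neg_sub]
  have hone : ∀ j, ∃ p, L j = (skewW hf).map (opHom p) := by
    intro j
    obtain ⟨e, he0, he⟩ := OTensor.exists_singular hf hk
    obtain ⟨e', he', h1⟩ := OTensor.exists_partner hf h2 he0 he
    have hne : nn hf e e' ≠ 0 := fun h0 => by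
      have := LinearMap.congr_fun h0 e
      rw [nn_apply, he, h1, LinearMap.zero_apply, one_smul, zero_smul, sub_zero] at this
      exact he0 this
    have hT : conjOp g (op j (nn hf e e')) ∈ L j := ⟨_, ⟨_, OTensor.nn_skew hf e e', rfl⟩, rfl⟩
    obtain ⟨Y, hY, hYe⟩ := soS_decomp hf (h _ (hso j _ (OTensor.nn_skew hf e e')))
    rw [← conjOp_apply] at hYe
    obtain ⟨p, hp⟩ : ∃ p, Y p ≠ 0 := by
      by_contra! h0
      refine hne (op_eq_zero' hk0 j (hinj ?_))
      rw [hYe, map_zero]
      exact Finset.sum_eq_zero fun q _ => by rw [h0, op_zero]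
    obtain ⟨v, w, hvw⟩ : ∃ v w, Y p * nn hf v w - nn hf v w * Y p ≠ 0 := by
      by_contra! h0
      exact hp (skew_centre hf h2 hk (hY p) fun v w => (sub_eq_zero.1 (h0 v w)).symm)
    let S : Submodule F (Module.End F (W F k)) := (L j).comap (opHom p) ⊓ skewW hf
    have hZ : Y p * nn hf v w - nn hf v w * Y p ∈ S := by
      refine ⟨?_, bracket_skew hf (hY p) (OTensor.nn_skew hf v w)⟩
      show op p _ ∈ L j
      rw [← op_bracket_sum Y p, ← hYe]
      exact hideal j _ hT _ (hso p _ (OTensor.nn_skew hf v w))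
    have hbr : ∀ Z ∈ S, ∀ v w, nn hf v w * Z - Z * nn hf v w ∈ S := fun Z hZ v w => by
      refine ⟨?_, bracket_skew hf (OTensor.nn_skew hf v w) hZ.2⟩
      show op p _ ∈ L j
      rw [← neg_sub, op_neg, op_sub, ← op_mul, ← op_mul]
      exact (L j).neg_mem (hideal j _ hZ.1 _ (hso p _ (OTensor.nn_skew hf v w)))
    have hfull := OTensor.skew_full hf h2 hk hS.sane S (fun e d he hd Z hZ => by
      obtain ⟨-, h3, h4⟩ := OTensor.skew_quad hf h2 he hd (hZ.2 : OTensor.IsSkew f Z)
      have hb := hbr Z hZ e d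
      have hbb := hbr _ hb e d
      have e0 : sie hf e d * Z * sie hf e (-d) = Z + (nn hf e d * Z - Z * nn hf e d) +
          (2 : F)⁻¹ • (nn hf e d * (nn hf e d * Z - Z * nn hf e d) - (nn hf e d * Z - Z * nn hf e d) * nn hf e d) := by
        have a := OTensor.conj_add hf h2 e d Z
        have b := OTensor.conj_sub hf h2 e d Z
        simp only [h3, h4, smul_zero, add_zero] at a b
        have c : (2 : F) • (sie hf e d * Z * sie hf e (-d)) = (2 : F) • (Z + (nn hf e d * Z - Z * nn hf e d) +
            (2 : F)⁻¹ • (nn hf e d * (nn hf e d * Z - Z * nn hf e d) -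
              (nn hf e d * Z - Z * nn hf e d) * nn hf e d)) := by
          rw [smul_add, smul_add, smul_inv_smul₀ h2, show (2 : F) • (sie hf e d * Z * sie hf e (-d)) =
            (sie hf e d * Z * sie hf e (-d) + sie hf e (-d) * Z * sie hf e d - Z - Z) +
              (sie hf e d * Z * sie hf e (-d) - sie hf e (-d) * Z * sie hf e d) + (2 : F) • Z by
            rw [two_smul, two_smul]; abel, a, b]
          simp only [OTensor.quad2, mul_sub, sub_mul, mul_assoc, smul_sub, two_smul]
          abel
        exact smul_right_injective _ h2 c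
      rw [e0]
      exact S.add_mem (S.add_mem hZ hb) (S.smul_mem _ hbb)) hZ
      (bracket_skew hf (hY p) (OTensor.nn_skew hf v w)) hvw
    refine ⟨p, (Submodule.eq_of_le_of_finrank_eq ?_ ?_).symm⟩
    · rintro _ ⟨X, hX, rfl⟩
      obtain ⟨z, hz⟩ := exists_OB hf h2 (by omega) (a := 1) one_ne_zero
      rw [skew_decomp hf h2 hz hX, map_sum]
      exact Submodule.sum_mem _ fun i _ => by rw [map_smul]; exact Submodule.smul_mem _ _ (hfull _ _).1
    · rw [hrank, ← hrank j]
      exact (Submodule.equivMapOfInjective _ hinj _).finrank_eq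
  choose π hπ using hone
  have hπi : Function.Injective π := by
    intro i j hij
    by_contra hne
    have e : L i = L j := by rw [hπ, hπ, hij]
    have e' : (skewW hf).map (opHom i) = (skewW hf).map (opHom j) := Submodule.map_injective_of_injective hinj e
    obtain ⟨u, hu0, hu⟩ := OTensor.exists_singular hf hk
    obtain ⟨u', hu', hu1⟩ := OTensor.exists_partner hf h2 hu0 hu
    obtain ⟨Z, -, hZ⟩ : op i (nn hf u u') ∈ (skewW hf).map (opHom (ι := ι) j) := by
      rw [← e']; exact ⟨_, OTensor.nn_skew hf u u', rfl⟩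
    have hz : nn hf u u' = 0 := skew_centre hf h2 hk (OTensor.nn_skew hf u u') fun v w =>
      op_injective hk0 i (by rw [← op_mul, ← op_mul, ← hZ, opHom_apply]; exact op_comm hne _ _)
    have := LinearMap.congr_fun hz u
    rw [nn_apply, hu, hu1, LinearMap.zero_apply, one_smul, zero_smul, sub_zero] at this
    exact hu0 this
  let σ : Equiv.Perm ι := Equiv.ofBijective π (Finite.injective_iff_bijective.1 hπi)
  have hσ : ∀ j, σ j = π j := fun j => rfl
  set g' := permGL σ⁻¹ * g with hg'
  have hperm : ∀ (τ : Equiv.Perm ι) p (Y : Module.End F (W F k)), conjOp (permGL τ) (op p Y) = op (τ p) Y :=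
    fun τ p Y => conjOp_eq (by rw [lg_permGL, permV_op])
  have hskew : ∀ j Y, OTensor.IsSkew f Y → ∃ Y', conjOp g' (op j Y) = op j Y' := by
    intro j Y hY
    obtain ⟨Y', -, hY'⟩ : conjOp g (op j Y) ∈ (skewW hf).map (opHom (ι := ι) (π j)) := by
      rw [← hπ]; exact ⟨_, ⟨Y, hY, rfl⟩, rfl⟩
    refine ⟨Y', ?_⟩
    rw [hg', conjOp_mul, ← hY', opHom_apply, hperm, ← hσ, Equiv.Perm.inv_def, Equiv.symm_apply_apply]
  have hin : ∀ j, ∃ A : GL (Fin k) F, ∀ X, conjOp g' (op j X) = op j (conjOp A X) := by
    intro j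
    let C : Module.End F (W F k) →ₗ[F] Module.End F (VI F ι k) := (conjOp g').comp (opHom j)
    let P : Submodule F (Module.End F (W F k)) := (LinearMap.range (opHom (ι := ι) (F := F) (k := k) j)).comap C
    have hP : ∀ X, X ∈ P := mem_of_nn_mul hf h2 hk P (fun X hX Y hY => by
        obtain ⟨X', hX'⟩ := hX
        obtain ⟨Y', hY'⟩ := hY
        refine ⟨X' * Y', ?_⟩
        rw [opHom_apply] at hX' hY' ⊢
        show op j (X' * Y') = conjOp g' (op j (X * Y))
        rw [← op_mul, ← op_mul, conjOp_mul_op, hX', hY']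
        rfl) fun v w => by
      obtain ⟨Y', e⟩ := hskew j _ (OTensor.nn_skew hf v w)
      exact ⟨Y', e.symm⟩
    obtain ⟨R, hR⟩ : ∃ R : Module.End F (VI F ι k) →ₗ[F] Module.End F (W F k), R.comp (opHom j) = LinearMap.id :=
      LinearMap.exists_leftInverse_of_injective _ (LinearMap.ker_eq_bot.2 fun X Y e => op_injective hk0 j e)
    have hRC : ∀ X, op j (R (C X)) = C X := fun X => by
      obtain ⟨X', hX'⟩ := hP X
      rw [← hX', ← LinearMap.comp_apply R, hR]
      rfl
    obtain ⟨A, hA⟩ := exists_inner_of_hom hk0 (R.comp C)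
      (fun X Y => op_injective hk0 j (by
        show op j (R (C (X * Y))) = op j (R (C X) * R (C Y))
        rw [← op_mul, hRC, hRC, hRC]
        show conjOp g' (op j (X * Y)) = conjOp g' (op j X) * conjOp g' (op j Y)
        rw [← conjOp_mul_op, op_mul]))
      (fun X Y e => op_injective hk0 j (Function.LeftInverse.injective (conjOp_inv_cancel g') (by
        have := congrArg (op j) (show R (C X) = R (C Y) from e)
        rwa [hRC, hRC] at this)))
    exact ⟨A, fun X => by rw [← hA, LinearMap.comp_apply, hRC]; rfl⟩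
  choose A hA using hin
  set g'' := (tenGL A)⁻¹ * g' with hg''
  have hcomm : ∀ j (X : Module.End F (W F k)), conjOp g'' (op j X) = op j X := fun j X => by
    have e : conjOp (tenGL A) (op j X) = op j (conjOp (A j) X) := by
      have := conjOp_Nst_op A (1 : Equiv.Perm ι) j X
      rwa [show (permGL (1 : Equiv.Perm ι) : GL (ι → Fin k) F) = 1 from
        lg_injective (by rw [lg_permGL, map_one, permV_one]), mul_one] at this
    rw [hg'', conjOp_mul, hA, ← e, conjOp_inv_cancel]
  obtain ⟨c, hc⟩ := scalar_of_comm hf hS (B := lg g'') fun p v w => by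
    conv_lhs => rw [← hcomm p (nn hf v w), conjOp_apply, mul_assoc, lg_conj_inv, mul_one]
  have hc0 : c ≠ 0 := fun h0 => by
    have e := lg_mul_inv g''
    rw [hc, h0, zero_smul, zero_mul] at e
    have : Nonempty (Fin k) := ⟨⟨0, hk0⟩⟩
    exact one_ne_zero (α := Module.End F (VI F ι k)) e.symm
  obtain ⟨j⟩ := ‹Nonempty ι›
  have e : g'' = opGL j (mkGL (c • 1) (c⁻¹ • 1) (by
      rw [smul_mul_assoc, one_mul, smul_smul, mul_inv_cancel₀ hc0, one_smul])) := lg_injective (by
    rw [hc, lg_opGL, lg_mkGL, op_smul, op_one])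
  rw [show g = (permGL σ⁻¹)⁻¹ * (tenGL A * g'') by rw [hg'', hg', mul_inv_cancel_left, inv_mul_cancel_left], e]
  exact (Nst F k ι).mul_mem ((Nst F k ι).inv_mem (permGL_mem _))
    ((Nst F k ι).mul_mem (tenGL_mem _) (opGL_mem _ _))

end Cfsg.Agent.OWreath
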