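import Cfsg.Agent.Lib.OWreathDich
import Cfsg.Agent.Lib.OWreathCentral
import Cfsg.Agent.Lib.OWreathNorm

/-!
The dichotomy for overgroups of the orthogonal tensor wreath groups.
-/

set_option autoImplicit false

namespace Cfsg.Agent.OWreath

variable {F : Type*} [Field F] [Fintype F] {k : ℕ} {f : W F k → W F k → F}

theorem dichotomy (hS : Std f) : Dich f :=
  dich_of hS
    (fun _ _ _ _ _ hg h => Nst_of_normalises hS hg h)
    (fun _ _ _ _ hM _ _ _ H _ hZ0 hZ => exists_central_mono hS hM H hZ0 hZ)

end Cfsg.Agent.OWreath
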