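import Cfsg.Agent.Lib.OWreathExcessGeo

/-!
The middle parts of the elements of an overgroup in the radical at a ruler.
-/

set_option autoImplicit false
set_option linter.unusedSectionVars false

namespace Cfsg.Agent.OWreath

open Cfsg.Agent.OTensor (Sym Hyp nn sq1 sie proj0 nn_apply sq1_apply smul_right' sub_left' neg_left')

variable {F : Type*} [Field F] {k : ℕ} {ι : Type} [Fintype ι] [DecidableEq ι] {f : W F k → W F k → F}

section Frame

variable (hf : Sym f)
include hf

theorem iso_nn {d : GL (Fin k) F} (hd : d ∈ isoW f) (x y : W F k) :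
    lg d * nn hf x y = nn hf (lg d x) (lg d y) * lg d := LinearMap.ext fun u => by
  simp only [Module.End.mul_apply, nn_apply, map_sub, map_smul, hd u y, hd u x]

theorem iso_partner {d : GL (Fin k) F} (hd : d ∈ isoW f) {e e' : W F k} (H : Hyp f e e') (h2 : (2 : F) ≠ 0) {t : F}
    (ht : t ≠ 0) (hde : lg d e = t • e) (hdy : ∀ y, f y e = 0 → f y e' = 0 → lg d y = y) :
    lg d⁻¹ e' = t • e' := by
  have a1 : f (lg d e') e = t⁻¹ := by
    rw [← mul_eq_one_iff_eq_inv₀ ht, mul_comm, ← smul_right' hf, ← hde, hd, OTensor.symm hf, H.one]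
  have a2 : ∀ y, f y e = 0 → f y e' = 0 → f (lg d e') y = 0 := fun y y1 y2 => by
    conv_lhs => rw [← hdy y y1 y2]
    rw [hd, OTensor.symm hf, y2]
  obtain ⟨q1, q2⟩ := OTensor.proj0_perp hf H (lg d e')
  have hw : proj0 f e e' (lg d e') = 0 := by
    refine hf.nd _ fun z => ?_
    obtain ⟨z1, z2⟩ := OTensor.proj0_perp hf H z
    have h := a2 _ z1 z2
    rw [OTensor.decomp hf e e' (lg d e')] at h
    simp only [hf.add_left, hf.smul_left, OTensor.symm hf e (proj0 f e e' z),
      OTensor.symm hf e' (proj0 f e e' z), z1, z2, mul_zero, zero_add] at h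
    conv_lhs => rw [OTensor.decomp hf e e' z]
    simp only [hf.add_right, smul_right' hf, q1, q2, h, mul_zero, zero_add]
  have e0 : lg d e' = f (lg d e') e' • e + t⁻¹ • e' := by
    conv_lhs => rw [OTensor.decomp hf e e' (lg d e'), hw, add_zero, a1]
  have e1 : f (lg d e') e' = 0 := by
    have h := hd e' e'
    rw [H.ee', e0] at h
    simp only [hf.add_left, hf.add_right, hf.smul_left, smul_right' hf, H.ee, H.ee', H.one,
      OTensor.symm hf e' e] at h
    exact (mul_eq_zero.1 (show f (lg d e') e' * (2 * t⁻¹) = 0 by linear_combination h)).resolve_right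
      (mul_ne_zero h2 (inv_ne_zero ht))
  rw [e1, zero_smul, zero_add] at e0
  have := congrArg (fun z => t • lg d⁻¹ z) e0
  simp only [lg_inv_apply, map_smul, smul_smul, mul_inv_cancel₀ ht, one_smul] at this
  exact this.symm

/-- In three variables only zero is perpendicular to a frame. -/
theorem eq_zero_of_three (h2 : (2 : F) ≠ 0) (hk : k ≤ 3) {e e' η y : W F k} (H : Hyp f e e') (h1 : f η e = 0)
    (h1' : f η e' = 0) (hη : f η η ≠ 0) (y1 : f y e = 0) (y2 : f y e' = 0) (y3 : f y η = 0) : y = 0 := by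
  have he : f e' e = 1 := by rw [OTensor.symm hf, H.one]
  have a1 : f e η = 0 := by rw [OTensor.symm hf, h1]
  have a2 : f e' η = 0 := by rw [OTensor.symm hf, h1']
  refine eq_zero_of_perp hf ![e + e', e - e', η] (fun i j hij => ?_) (fun i => ?_) hk fun i => ?_
  · fin_cases i <;> fin_cases j <;> first | exact absurd rfl hij |
      simp [hf.add_left, hf.add_right, sub_left' hf, hf.sub_right, H.ee, H.ee', H.one, he, h1, h1', a1, a2]
  · fin_cases i
    · simp [hf.add_left, hf.add_right, H.ee, H.ee', H.one, he]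
      exact fun e0 => h2 (by linear_combination e0)
    · simp [sub_left' hf, hf.sub_right, H.ee, H.ee', H.one, he]
      exact fun e0 => h2 (by linear_combination -e0)
    · simpa using hη
  · fin_cases i <;> simp [hf.add_right, hf.sub_right, y1, y2, y3]

theorem Cen.inv {l : ι} {e : W F k} {g : GL (ι → Fin k) F} (h : Cen hf l e (lg g)) : Cen hf l e (lg g⁻¹) :=
  fun a ha => by
  calc op l (nn hf e a) * lg g⁻¹ = lg g⁻¹ * (lg g * op l (nn hf e a)) * lg g⁻¹ := by
        rw [← mul_assoc (lg g⁻¹), lg_conj_inv, one_mul]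
    _ = lg g⁻¹ * op l (nn hf e a) := by rw [← h a ha, mul_assoc, mul_assoc, lg_mul_inv, mul_one]

/-- The part of an overgroup in the radical at a ruler. -/
def Rd (M : Subgroup (GL (ι → Fin k) F)) (l : ι) (e : W F k) : Subgroup (GL (ι → Fin k) F) where
  carrier := {g | g ∈ M ∧ Cen hf l e (lg g) ∧ ∀ u, lg g (emb l e u) = emb l e u}
  one_mem' := ⟨M.one_mem, fun a _ => by simp, fun u => by simp⟩
  mul_mem' := by
    rintro a b ⟨a1, a2, a3⟩ ⟨b1, b2, b3⟩
    exact ⟨M.mul_mem a1 b1, by rw [map_mul]; exact Cen.mul hf a2 b2,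
      fun u => by rw [map_mul, Module.End.mul_apply, b3, a3]⟩
  inv_mem' := by
    rintro a ⟨a1, a2, a3⟩
    exact ⟨M.inv_mem a1, Cen.inv hf a2, fun u => by conv_lhs => rw [← a3 u]
                                                    exact lg_inv_apply a _⟩

end Frame

section Mid

variable [Fintype F] (hS : Std f) {M : Subgroup (GL (ι → Fin k) F)} (hM : Ovr f M) {l : ι} {e e' : W F k}
  (H : Hyp f e e')
include hS hM H

theorem rd_one_e {g : GL (ι → Fin k) F} (hg : g ∈ Rd hS.sym M l e) (u : VI F (Oth l) k) :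
    con f l e (lg g (emb l e' u)) = u :=
  con_e_fix hS.sym H hS.two hS.hk hg.2.1 hg.2.2 u

theorem act_y {g : GL (ι → Fin k) F} (hg : g ∈ Rd hS.sym M l e) {y : W F k} (y1 : f y e = 0) (y2 : f y e' = 0)
    (u : VI F (Oth l) k) :
    lg g (emb l y u) = emb l y u - emb l e (mid f l e' (lg g) y u) := by
  have hf := hS.sym
  have h := LinearMap.congr_fun (hg.2.1 y y1) (emb l e' u)
  rw [Module.End.mul_apply, Module.End.mul_apply, op_nn hf, rd_one_e hS hM H hg, op_emb, nn_apply,
    OTensor.symm hf e' y, y2, OTensor.symm hf e' e, H.one, zero_smul, one_smul, zero_sub, ← neg_one_smul F y,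
    emb_smul, LinearMap.smul_apply, map_smul, neg_one_smul] at h
  rw [← neg_inj, ← h, neg_sub]
  rfl

theorem mid_adj {g : GL (ι → Fin k) F} (hg : g ∈ Rd hS.sym M l e) {y : W F k} (y1 : f y e = 0) (y2 : f y e' = 0)
    (u w : VI F (Oth l) k) : bT f (mid f l e' (lg g) y u) w = bT f u (mid f l e' (lg g) y w) := by
  have hf := hS.sym
  have h := (mem_isoV.1 (hM.le hg.1)) (emb l y u) (emb l e' w)
  rw [act_y hS hM H hg y1 y2, map_sub, LinearMap.sub_apply, bT_emb hf, y2, zero_mul, bT_emb_left hf,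
    bT_emb_left hf, rd_one_e hS hM H hg] at h
  exact (sub_eq_zero.1 h).symm

theorem mid_inv {g : GL (ι → Fin k) F} (hg : g ∈ Rd hS.sym M l e) {y : W F k} (y1 : f y e = 0)
    (y2 : f y e' = 0) : mid f l e' (lg g⁻¹) y = -mid f l e' (lg g) y := by
  refine LinearMap.ext fun u => emb_injective l (H.ne hS.sym) ?_
  have h := lg_apply_inv g (emb l y u)
  rw [act_y hS hM H ((Rd hS.sym M l e).inv_mem hg) y1 y2, map_sub, hg.2.2, act_y hS hM H hg y1 y2, sub_sub,
    sub_eq_self] at h
  rw [LinearMap.neg_apply, map_neg]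
  exact eq_neg_of_add_eq_zero_right h

theorem con_act {g : GL (ι → Fin k) F} (hg : g ∈ Rd hS.sym M l e) {y : W F k} (y1 : f y e = 0)
    (y2 : f y e' = 0) (v : VI F ι k) :
    con f l y (lg g v) = con f l y v + mid f l e' (lg g) y (con f l e v) := by
  have hf := hS.sym
  refine bT_right hf fun x => ?_
  have h := (mem_isoV.1 (hM.le hg.1)) (lg g⁻¹ (emb l y (pv x))) v
  rw [lg_apply_inv, act_y hS hM H ((Rd hf M l e).inv_mem hg) y1 y2, map_sub, LinearMap.sub_apply, bT_emb_left hf,
    bT_emb_left hf, bT_emb_left hf, mid_inv hS hM H hg y1 y2, LinearMap.neg_apply, map_neg, LinearMap.neg_apply,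
    sub_neg_eq_add, mid_adj hS hM H hg y1 y2] at h
  rw [h, map_add]

theorem mid_mul {g g' : GL (ι → Fin k) F} (hg : g ∈ Rd hS.sym M l e) (hg' : g' ∈ Rd hS.sym M l e) {y : W F k}
    (y1 : f y e = 0) (y2 : f y e' = 0) :
    mid f l e' (lg (g * g')) y = mid f l e' (lg g) y + mid f l e' (lg g') y := by
  refine LinearMap.ext fun u => ?_
  show con f l y (lg (g * g') (emb l e' u)) = _
  rw [map_mul, Module.End.mul_apply, con_act hS hM H hg y1 y2, rd_one_e hS hM H hg', LinearMap.add_apply,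
    add_comm]
  rfl

/-- Conjugation by an element acting separately on the ruler and on the other positions. -/
theorem conj_rd {d : GL (Fin k) F} (hd : d ∈ isoW f) {t : F} (ht : t ≠ 0) (hde : lg d e = t • e) {s : F}
    (hde' : lg d⁻¹ e' = s • e') (B : GL (Oth l → Fin k) F) (hb : opGL l d * outGL l B ∈ M)
    {g : GL (ι → Fin k) F} (hg : g ∈ Rd hS.sym M l e) :
    opGL l d * outGL l B * g * (opGL l d * outGL l B)⁻¹ ∈ Rd hS.sym M l e ∧
      ∀ y, mid f l e' (lg (opGL l d * outGL l B * g * (opGL l d * outGL l B)⁻¹)) y =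
        s • (lg B * mid f l e' (lg g) (lg d⁻¹ y) * lg B⁻¹) := by
  have hf := hS.sym
  set b := opGL l d * outGL l B with hbdef
  have hblg : lg b = op l (lg d) * out l (lg B) := by rw [hbdef, map_mul, lg_opGL, lg_outGL]
  have hblg' : lg b⁻¹ = out l (lg B⁻¹) * op l (lg d⁻¹) := by
    rw [hbdef, mul_inv_rev, map_mul, outGL_inv, opGL_inv, lg_opGL, lg_outGL]
  have hd' : (d⁻¹ : GL (Fin k) F) ∈ isoW f := (isoW f).inv_mem hd
  have hde2 : lg d⁻¹ e = t⁻¹ • e := by
    have := congrArg (fun z => t⁻¹ • lg d⁻¹ z) hde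
    simp only [lg_inv_apply, map_smul, smul_smul, inv_mul_cancel₀ ht, one_smul] at this
    exact this.symm
  have hdy : ∀ a, f a e = 0 → f (lg d⁻¹ a) e = 0 := fun a ha => by
    have h := hd' a (t • e)
    rw [← hde, lg_inv_apply, hde, smul_right' hf, ha, mul_zero] at h
    exact h
  clear_value b
  refine ⟨⟨M.mul_mem (M.mul_mem hb hg.1) (M.inv_mem hb), fun a ha => ?_, fun u => ?_⟩, fun y => ?_⟩
  · have h := hg.2.1 (lg d⁻¹ a) (hdy a ha)
    have e1 : lg b * op l (nn hf e (lg d⁻¹ a)) = t • (op l (nn hf e a) * lg b) := by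
      rw [hblg, mul_assoc, ← op_out, ← mul_assoc, op_mul, iso_nn hf hd, lg_apply_inv, hde,
        show nn hf (t • e) a = t • nn hf e a from LinearMap.ext fun u => by
          simp [nn_apply, smul_right' hf, smul_sub, smul_smul, mul_comm],
        smul_mul_assoc, op_smul, smul_mul_assoc, ← op_mul, mul_assoc]
    have e2 : op l (nn hf e (lg d⁻¹ a)) * lg b⁻¹ = t • (lg b⁻¹ * op l (nn hf e a)) := by
      calc op l (nn hf e (lg d⁻¹ a)) * lg b⁻¹
          = lg b⁻¹ * (lg b * op l (nn hf e (lg d⁻¹ a))) * lg b⁻¹ := by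
            rw [← mul_assoc (lg b⁻¹), lg_conj_inv, one_mul]
        _ = _ := by
            rw [e1, mul_smul_comm, smul_mul_assoc, mul_assoc, mul_assoc, lg_mul_inv, mul_one]
    rw [map_mul, map_mul]
    have h3 : t • (op l (nn hf e a) * (lg b * lg g * lg b⁻¹)) = t • (lg b * lg g * lg b⁻¹ * op l (nn hf e a)) := by
      rw [← mul_assoc (op l _), ← mul_assoc (op l _), ← smul_mul_assoc, ← smul_mul_assoc, ← e1,
        mul_assoc (lg b) _ (lg g), h, ← mul_assoc, mul_assoc (lg b * lg g), e2, mul_smul_comm, ← mul_assoc]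
    exact smul_right_injective _ ht h3
  · rw [map_mul, map_mul, Module.End.mul_apply, Module.End.mul_apply, hblg', Module.End.mul_apply, op_emb, hde2,
      emb_smul, LinearMap.smul_apply, map_smul, out_emb, map_smul, hg.2.2, hblg, map_smul, Module.End.mul_apply,
      out_emb, op_emb, hde, emb_smul, LinearMap.smul_apply, smul_smul, inv_mul_cancel₀ ht, one_smul,
      ← Module.End.mul_apply (lg B), lg_mul_inv, Module.End.one_apply]
  · refine LinearMap.ext fun u => ?_
    show con f l y (lg _ (emb l e' u)) = _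
    rw [map_mul, map_mul, Module.End.mul_apply, Module.End.mul_apply, hblg', Module.End.mul_apply, op_emb, hde',
      emb_smul, LinearMap.smul_apply, map_smul, out_emb, map_smul, map_smul, map_smul, hblg, Module.End.mul_apply,
      con_op hf l y (lg d⁻¹ y) (lg d) (fun x => by rw [← hd x (lg d⁻¹ y), lg_apply_inv]), con_out hf]
    rfl

/-- Conjugation at the other positions. -/
theorem conj_out (B : GL (Oth l → Fin k) F) (hb : outGL l B ∈ M) {g : GL (ι → Fin k) F}
    (hg : g ∈ Rd hS.sym M l e) :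
    outGL l B * g * (outGL l B)⁻¹ ∈ Rd hS.sym M l e ∧
      ∀ y, mid f l e' (lg (outGL l B * g * (outGL l B)⁻¹)) y =
        lg B * mid f l e' (lg g) y * lg B⁻¹ := by
  have h := conj_rd hS hM H (isoW f).one_mem one_ne_zero (d := 1) (by simp) (s := 1) (by simp) B
    (by rwa [opGL_one, one_mul]) hg
  simp only [opGL_one, one_mul, inv_one, map_one, Module.End.one_apply, one_smul] at h
  exact h

/-- A paired reflection. -/
theorem conj_flip {η : W F k} (h1 : f η e = 0) (h1' : f η e' = 0) (hη : f η η ≠ 0) (q : Oth l) {u : W F k}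
    (hu : f u u = f η η) {g : GL (ι → Fin k) F} (hg : g ∈ Rd hS.sym M l e) :
    ∃ g' ∈ Rd hS.sym M l e, ∀ y, mid f l e' (lg g') y =
      op q (rfl' hS.sym u) * mid f l e' (lg g) (rfl' hS.sym η y) * op q (rfl' hS.sym u) := by
  have hf := hS.sym
  have hu0 : f u u ≠ 0 := by rw [hu]; exact hη
  have h := conj_rd hS hM H (reflW_iso hf hη) one_ne_zero
    (by rw [lg_reflW, rfl'_perp hf (by rw [OTensor.symm hf, h1]), one_smul]) (s := 1)
    (by rw [reflW_inv, lg_reflW, rfl'_perp hf (by rw [OTensor.symm hf, h1']), one_smul])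
    (opGL q (reflW hf hu0)) (by rw [outGL_opGL]; exact hM.flip_mem' hf hS.two q.2.symm hη hu0 hu.symm) hg
  refine ⟨_, h.1, fun y => ?_⟩
  rw [h.2 y, one_smul, opGL_inv, reflW_inv, reflW_inv, lg_opGL, lg_reflW, lg_reflW]

theorem mid_smul {g : GL (ι → Fin k) F} (hg : g ∈ Rd hS.sym M l e) (t : F) :
    ∃ g' ∈ Rd hS.sym M l e, ∀ y, f y e = 0 → f y e' = 0 → mid f l e' (lg g') y = t • mid f l e' (lg g) y := by
  have hf := hS.sym
  have one : ∀ y, f y e = 0 → f y e' = 0 → mid f l e' (lg (1 : GL (ι → Fin k) F)) y = 0 := fun y y1 y2 =>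
    LinearMap.ext fun u => by
      show con f l y (lg _ (emb l e' u)) = _
      rw [map_one, Module.End.one_apply, con_emb hf, OTensor.symm hf, y2, zero_smul, LinearMap.zero_apply]
  have sq : ∀ c : F, ∃ g' ∈ Rd hf M l e, ∀ y, f y e = 0 → f y e' = 0 →
      mid f l e' (lg g') y = (c * c) • mid f l e' (lg g) y := by
    intro c
    by_cases hc : c = 0
    · exact ⟨1, (Rd hf M l e).one_mem, fun y y1 y2 => by rw [one y y1 y2, hc, mul_zero, zero_smul]⟩
    · obtain ⟨d, hd, hde, hdy⟩ := exists_tor hf H hc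
      have hde2 : lg (d * d) e = (c * c) • e := by
        rw [map_mul, Module.End.mul_apply, hde, map_smul, hde, smul_smul]
      have hdy2 : ∀ y, f y e = 0 → f y e' = 0 → lg (d * d) y = y := fun y y1 y2 => by
        rw [map_mul, Module.End.mul_apply, hdy y y1 y2, hdy y y1 y2]
      have hm : opGL l (d * d) * outGL l 1 ∈ M := by
        rw [outGL_one, mul_one]; exact hM.opGL_sq hf l hd
      have h := conj_rd hS hM H ((isoW f).mul_mem hd hd) (mul_ne_zero hc hc) hde2
        (iso_partner hf ((isoW f).mul_mem hd hd) H hS.two (mul_ne_zero hc hc) hde2 hdy2) 1 hm hg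
      refine ⟨_, h.1, fun y y1 y2 => ?_⟩
      rw [h.2 y, inv_one, map_one, one_mul, mul_one]
      congr 2
      conv_lhs => rw [← hdy2 y y1 y2]
      exact lg_inv_apply _ _
  obtain ⟨r, s, rfl⟩ := OTensor.span_squares hS.two t
  obtain ⟨g1, hg1, m1⟩ := sq r
  obtain ⟨g2, hg2, m2⟩ := sq s
  refine ⟨g1 * g2⁻¹, (Rd hf M l e).mul_mem hg1 ((Rd hf M l e).inv_mem hg2), fun y y1 y2 => ?_⟩
  rw [mid_mul hS hM H hg1 ((Rd hf M l e).inv_mem hg2) y1 y2, mid_inv hS hM H hg2 y1 y2, m1 y y1 y2, m2 y y1 y2,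
    ← sub_eq_add_neg]
  module

/-- The middles of two commuting elements multiply commutatively where the other directions vanish. -/
theorem comm_mid {g g' : GL (ι → Fin k) F} (hg : g ∈ Rd hS.sym M l e) (hg' : g' ∈ Rd hS.sym M l e)
    (hc : lg g * lg g' = lg g' * lg g) {η : W F k} (h1 : f η e = 0) (h1' : f η e' = 0) (hη : f η η ≠ 0)
    {x : VI F (Oth l) k}
    (hx : ∀ y, f y e = 0 → f y e' = 0 → f y η = 0 → mid f l e' (lg g) y x = 0)
    (hx' : ∀ y, f y e = 0 → f y e' = 0 → f y η = 0 → mid f l e' (lg g') y x = 0) :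
    mid f l e' (lg g) η (mid f l e' (lg g') η x) = mid f l e' (lg g') η (mid f l e' (lg g) η x) := by
  have hf := hS.sym
  set n := f η η with hn
  have he' : f e' e = 1 := by rw [OTensor.symm hf, H.one]
  have shape : ∀ g ∈ Rd hf M l e, (∀ y, f y e = 0 → f y e' = 0 → f y η = 0 → mid f l e' (lg g) y x = 0) →
      ∃ z, lg g (emb l e' x) = emb l e' x + emb l e z + n⁻¹ • emb l η (mid f l e' (lg g) η x) := by
    intro g hg hx
    refine ⟨con f l e' (lg g (emb l e' x)), eq_of_con hf l H ?_ ?_ fun y y1 y2 => ?_⟩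
    · rw [rd_one_e hS hM H hg]
      simp [con_emb hf, H.ee, he', h1]
    · simp [con_emb hf, H.ee', H.one, h1']
    · set c := f y η / n with hc
      have z1 : f (y - c • η) e = 0 := by rw [sub_left' hf, y1, hf.smul_left, h1, mul_zero, sub_zero]
      have z2 : f (y - c • η) e' = 0 := by rw [sub_left' hf, y2, hf.smul_left, h1', mul_zero, sub_zero]
      have z3 : f (y - c • η) η = 0 := by
        rw [sub_left' hf, hf.smul_left, hc, hn, div_mul_cancel₀ _ hη, sub_self]
      have e0 : con f l y = con f l (y - c • η) + c • con f l η := by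
        rw [← con_smul hf, ← con_add hf, sub_add_cancel]
      have e1 : con f l (y - c • η) (lg g (emb l e' x)) = 0 := hx _ z1 z2 z3
      conv_lhs => rw [e0, LinearMap.add_apply, e1, zero_add, LinearMap.smul_apply]
      simp [con_emb hf, OTensor.symm hf e' y, y2, OTensor.symm hf e y, y1, OTensor.symm hf η y, hc, smul_smul]
      rw [div_eq_inv_mul]
      rfl
  obtain ⟨z, hz⟩ := shape g hg hx
  obtain ⟨z', hz'⟩ := shape g' hg' hx'
  have h := LinearMap.congr_fun hc (emb l e' x)
  rw [Module.End.mul_apply, Module.End.mul_apply, hz', hz] at h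
  simp only [map_add, map_smul, hg.2.2, hg'.2.2, act_y hS hM H hg h1 h1', act_y hS hM H hg' h1 h1', hz, hz',
    smul_sub] at h
  have h' : n⁻¹ • emb l e (mid f l e' (lg g) η (mid f l e' (lg g') η x)) =
      n⁻¹ • emb l e (mid f l e' (lg g') η (mid f l e' (lg g) η x)) := by
    refine sub_eq_zero.1 ?_
    rw [← sub_eq_zero] at h
    rw [← neg_eq_zero, ← h]
    abel
  exact emb_injective l (H.ne hf) (smul_right_injective _ (inv_ne_zero hη) h')

/-- An element with scalar middle gives a central one. -/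
theorem central_of_scalar (hne : ∃ u : VI F (Oth l) k, bT f u u ≠ 0) {g : GL (ι → Fin k) F}
    (hg : g ∈ Rd hS.sym M l e) (hmid : ∀ y, f y e = 0 → ∃ c : F, mid f l e' (lg g) y = c • 1)
    (hex : ∀ a, f a e = 0 → lg g ≠ op l (sie hS.sym e a)) :
    ∃ Z, Z ≠ 0 ∧ El M (op l (sq1 hS.sym e) * out l Z) := by
  have hf := hS.sym
  have h2 := hS.two
  obtain ⟨a, Z, a1, hshape, -, -, -⟩ := shape_of_mid hf hS H hne hg.2.1 hg.2.2 hmid
  have a1' : f (-a) e = 0 := by rw [neg_left' hf, a1, neg_zero]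
  refine ⟨Z, fun hZ => hex (-a) a1' ?_, opGL l (sieW hf h2 H.ee a1) * g,
    M.mul_mem (hM.sie_mem hf h2 l H.ee a1) hg.1, by rw [map_mul, lg_opGL, lg_sieW, hshape]⟩
  rw [hZ, out_zero, mul_zero, add_zero] at hshape
  calc lg g = op l (sie hf e (-a)) * (op l (sie hf e a) * lg g) := by
        rw [← mul_assoc, op_mul, OTensor.sie_mul hf h2 H.ee a1' a1, neg_add_cancel, OTensor.sie_zero hf H.ee,
          op_one, one_mul]
    _ = _ := by rw [hshape, mul_one]

/-- Non-commuting elements give a central one. -/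
theorem central_of_noncomm (hne : ∃ u : VI F (Oth l) k, bT f u u ≠ 0) {g g' : GL (ι → Fin k) F}
    (hg : g ∈ Rd hS.sym M l e) (hg' : g' ∈ Rd hS.sym M l e) (h : lg g * lg g' ≠ lg g' * lg g) :
    ∃ Z, Z ≠ 0 ∧ El M (op l (sq1 hS.sym e) * out l Z) := by
  have hf := hS.sym
  have h2 := hS.two
  obtain ⟨c1, c2⟩ := Rad.comm (rad_of_cen hf H h2 hS.hk hg.2.1 hg.2.2) (rad_of_cen hf H h2 hS.hk hg'.2.1 hg'.2.2)
  have hcR : g * g' * g⁻¹ * g'⁻¹ ∈ Rd hf M l e := Subgroup.mul_mem _ (Subgroup.mul_mem _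
    (Subgroup.mul_mem _ hg hg') (Subgroup.inv_mem _ hg)) (Subgroup.inv_mem _ hg')
  refine central_of_scalar hS hM H hne hcR (fun y hy => ⟨f e' y, LinearMap.ext fun u => ?_⟩) fun a ha hz => ?_
  · obtain ⟨w, hw⟩ := c2 (emb l e' u)
    rw [LinearMap.sub_apply, Module.End.one_apply, sub_eq_iff_eq_add] at hw
    show con f l y (lg _ (emb l e' u)) = _
    rw [hw, map_add, con_sq hf hy, zero_add, con_emb hf]
    rfl
  · obtain ⟨u, hu⟩ := hne
    rw [hz] at c1
    rw [sie_central hf H ha ⟨u, fun h0 => hu (by rw [h0, map_zero])⟩ c1] at hz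
    refine h ?_
    rw [map_mul, map_mul, map_mul] at hz
    calc lg g * lg g' = lg g * lg g' * lg g⁻¹ * lg g'⁻¹ * (lg g' * lg g) := by
          simp only [mul_assoc]
          rw [← mul_assoc (lg g'⁻¹), lg_conj_inv, one_mul, lg_conj_inv, mul_one]
      _ = _ := by rw [hz, one_mul]

end Mid

end Cfsg.Agent.OWreath
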