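import Cfsg.Agent.Lib.OWreathFusionPure

/-!
Fusion: a conjugate of a single-position Siegel element inside the tensor wreath group sits at a single position,
and the conjugating similitude carries the ruler to a ruler.
-/

set_option autoImplicit false
set_option linter.unusedSectionVars false

namespace Cfsg.Agent.OWreath

open Cfsg.Agent.OTensor (Sym Hyp nn sq1 sie sq1_apply nn_apply)

variable {F : Type*} [Field F] [Finite F] {k : ℕ} {ι : Type} [Fintype ι] [DecidableEq ι] {f : W F k → W F k → F}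

theorem op_eq_zero_imp (hk : 0 < k) {l : ι} {X : Module.End F (W F k)} (h : op l X = 0) : X = 0 := by
  refine LinearMap.ext fun u => ?_
  let z : VI F (Oth l) k := pv fun _ => Pi.single ⟨0, hk⟩ 1
  have hz : z ≠ 0 := pv_ne_zero fun _ => by simp
  by_contra hne
  refine hz (emb_injective l hne ?_)
  rw [map_zero, ← op_emb, h, LinearMap.zero_apply]

theorem conj_isoV {g x : GL (ι → Fin k) F} (hg : IsSim f g) (hx : x ∈ isoV f) : g * x * g⁻¹ ∈ isoV f := by
  obtain ⟨μ, hμ, hg⟩ := hg
  intro u w
  rw [map_mul, map_mul, Module.End.mul_apply, Module.End.mul_apply, Module.End.mul_apply, Module.End.mul_apply, hg,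
    hx, ← hg, lg_apply_inv, lg_apply_inv]

/-- Fusion of single-position Siegel elements. -/
theorem fusion (hS : Std f) {g : GL (ι → Fin k) F} (hg : IsSim f g) (l : ι) {e e' : W F k} (H : Hyp f e e')
    {a : W F k} (a1 : f a e = 0) (a2 : f a e' = 0) (a3 : f a a ≠ 0)
    (hall : k = 3 → ∀ c : F, g * opGL l (sieW hS.sym hS.two H.ee
      (show f (c • a) e = 0 by rw [hS.sym.smul_left, a1, mul_zero])) * g⁻¹ ∈ Nst F k ι)
    (hy : g * opGL l (sieW hS.sym hS.two H.ee a1) * g⁻¹ ∈ Nst F k ι) :
    ∃ (p : ι) (e₁ : W F k) (ν : F) (y : GL (Fin k) F), ν ≠ 0 ∧ e₁ ≠ 0 ∧ f e₁ e₁ = 0 ∧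
      g * opGL l (sieW hS.sym hS.two H.ee a1) * g⁻¹ = opGL p y ∧
      lg g * op l (sq1 hS.sym e) * lg g⁻¹ = ν • op p (sq1 hS.sym e₁) := by
  have hf := hS.sym
  have h2 := hS.two
  have hk := hS.hk
  obtain ⟨p, hp⟩ := CharP.exists F
  have : Fact p.Prime := ⟨(CharP.char_is_prime_or_zero F p).resolve_right (CharP.char_ne_zero_of_finite F p)⟩
  have hp3 : 3 ≤ p := by
    have := (Fact.out : p.Prime).two_le
    have : p ≠ 2 := fun e => h2 (by
      have := CharP.cast_eq_zero F p
      rw [e, Nat.cast_ofNat] at this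
      exact this)
    omega
  have : Nonempty (Fin k) := ⟨⟨0, by omega⟩⟩
  have ha0 : a ≠ 0 := fun h => a3 (by rw [h, hf.zero_left])
  let C : Module.End F (VI F ι k) → Module.End F (VI F ι k) := fun X => lg g * X * lg g⁻¹
  have hC : ∀ X Y, C X * C Y = C (X * Y) := fun X Y => by
    show lg g * X * lg g⁻¹ * (lg g * Y * lg g⁻¹) = lg g * (X * Y) * lg g⁻¹
    simp only [mul_assoc]
    rw [← mul_assoc (lg g⁻¹) (lg g), lg_conj_inv, one_mul]
  set S₀ := op l (sq1 hf e)
  set A₀ := op l (nn hf e a)
  set N₀ := nn hf e a + (-(2 : F)⁻¹ * f a a) • sq1 hf e with hN₀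
  set T := C (op l N₀) with hT
  have hAA : op l (nn hf e a) * op l (nn hf e a) = (-f a a) • S₀ := by
    rw [op_mul, nn_mul_nn hf H.ee a1 a1, op_smul]
  have hTT : T * T = (-f a a) • C S₀ := by
    rw [hT, hC, op_mul, hN₀]
    simp only [add_mul, mul_add, smul_mul_assoc, mul_smul_comm, nn_mul_sq hf H.ee a1, sq_mul_nn hf H.ee a1,
      sq_mul_sq hf H.ee, smul_zero, add_zero, nn_mul_nn hf H.ee a1 a1, op_smul]
    show lg g * _ * lg g⁻¹ = _
    rw [mul_smul_comm, smul_mul_assoc]
  have h3 : T * T * T = 0 := by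
    rw [hTT, smul_mul_assoc, hT, hC, op_mul, hN₀, mul_add, mul_smul_comm, sq_mul_nn hf H.ee a1, sq_mul_sq hf H.ee,
      smul_zero, add_zero, op_zero]
    show (-f a a) • (lg g * 0 * lg g⁻¹) = 0
    rw [mul_zero, zero_mul, smul_zero]
  have hT2 : T * T ≠ 0 := by
    rw [hTT]
    refine smul_ne_zero (neg_ne_zero.2 a3) fun h => ?_
    have hS0 : op l (sq1 hf e) = 0 := by
      calc op l (sq1 hf e) = lg g⁻¹ * C S₀ * lg g := by
            show _ = lg g⁻¹ * (lg g * S₀ * lg g⁻¹) * lg g
            simp only [mul_assoc, lg_conj_inv, mul_one]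
            rw [← mul_assoc, lg_conj_inv, one_mul]
        _ = 0 := by rw [h, mul_zero, zero_mul]
    have := LinearMap.congr_fun (op_eq_zero_imp (by omega) hS0) e'
    rw [sq1_apply, OTensor.symm hf e' e, H.one, one_smul, LinearMap.zero_apply] at this
    exact H.ne hf this
  have hval : ∀ c : F, ∀ hc : f (c • a) e = 0,
      lg (g * opGL l (sieW hf h2 H.ee hc) * g⁻¹) = 1 + c • T + ((c * c - c) / 2) • (T * T) := by
    intro c hc
    have hs : op l (sie hf e (c • a)) = 1 + c • op l N₀ + ((c * c - c) / 2) • ((-f a a) • S₀) := by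
      rw [sie_eq hf H.ee hc, nn_smul hf, hf.smul_left, OTensor.smul_right' hf, hN₀]
      simp only [op_add, op_smul, op_one]
      match_scalars <;> field_simp
      ring
    rw [map_mul, map_mul, lg_opGL, lg_sieW, hs, hTT]
    show lg g * _ * lg g⁻¹ = 1 + c • (lg g * op l N₀ * lg g⁻¹) + _ • (_ • (lg g * S₀ * lg g⁻¹))
    simp only [mul_add, add_mul, mul_one, lg_mul_inv, mul_smul_comm, smul_mul_assoc]
  have hY1 : lg (g * opGL l (sieW hf h2 H.ee a1) * g⁻¹) = 1 + T := by
    have h := hval 1 (by rw [one_smul, a1])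
    simp only [one_smul, mul_one, sub_self, zero_div, zero_smul, add_zero] at h
    exact h
  have hfam : k = 3 → Fam F k ι T := fun h3' c => ⟨_, hall h3' c, hval c _⟩
  -- ranks
  set K := Fintype.card (Oth l → Fin k)
  have hrange : ∀ X : Module.End F (VI F ι k),
      Module.finrank F (LinearMap.range (C X)) ≤ Module.finrank F (LinearMap.range X) := fun X => by
    show Module.finrank F (LinearMap.range ((lg g * X).comp (lg g⁻¹))) ≤ _
    refine le_trans (Submodule.finrank_mono (LinearMap.range_comp_le_range _ _)) ?_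
    rw [Module.End.mul_eq_comp, LinearMap.range_comp]
    exact Submodule.finrank_map_le _ _
  have hemb : ∀ x : W F k, Module.finrank F (LinearMap.range (emb l x)) ≤ K := fun x =>
    le_trans (LinearMap.finrank_range_le _) (by rw [Module.finrank_pi])
  have hrS : Module.finrank F (LinearMap.range S₀) ≤ K := by
    refine le_trans (Submodule.finrank_mono ?_) (hemb e)
    rintro _ ⟨v, rfl⟩
    exact ⟨_, (op_sq hf l e v).symm⟩
  have hrTT : ∀ c : F, Module.finrank F (LinearMap.range (c • (T * T))) ≤ K := fun c => by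
    refine le_trans (Submodule.finrank_mono ?_) ((hrange S₀).trans hrS)
    rintro _ ⟨v, rfl⟩
    refine ⟨(c * -f a a) • v, ?_⟩
    rw [LinearMap.smul_apply, hTT, LinearMap.smul_apply, smul_smul, map_smul]
  have hrT : Module.finrank F (LinearMap.range T) ≤ 2 * K := by
    refine (hrange _).trans (le_trans (Submodule.finrank_mono (t := LinearMap.range (emb l e) ⊔ LinearMap.range (emb l a)) ?_)
      ((Submodule.finrank_add_le_finrank_add_finrank _ _).trans (by have := hemb e; have := hemb a; omega)))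
    rintro _ ⟨v, rfl⟩
    have hnn : op l (nn hf e a) v = emb l e (con f l a v) - emb l a (con f l e v) := by
      have h : op l (nn hf e a) = (emb l e).comp (con f l a) - (emb l a).comp (con f l e) := ext_split l fun x u => by
        rw [LinearMap.sub_apply, LinearMap.comp_apply, LinearMap.comp_apply, con_emb hf, con_emb hf, op_emb,
          nn_apply, map_smul, map_smul, sub_eq_add_neg, emb_add, emb_smul, LinearMap.add_apply,
          LinearMap.smul_apply, ← neg_smul, emb_smul, LinearMap.smul_apply, neg_smul, ← sub_eq_add_neg]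
      exact LinearMap.congr_fun h v
    rw [hN₀, op_add, op_smul, LinearMap.add_apply, LinearMap.smul_apply, op_sq hf, hnn]
    exact Submodule.add_mem _ (Submodule.sub_mem _ (Submodule.mem_sup_left (LinearMap.mem_range_self _ _))
      (Submodule.mem_sup_right (LinearMap.mem_range_self _ _)))
      (Submodule.smul_mem _ _ (Submodule.mem_sup_left (LinearMap.mem_range_self _ _)))
  have hrT2 : Module.finrank F (LinearMap.range (T * T)) ≤ K := by
    have := hrTT 1
    rwa [one_smul] at this
  -- no permutation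
  obtain ⟨b, σ, hbσ⟩ := hy
  rw [hbσ] at hY1
  have hσ : σ = 1 := perm_trivial hS a3 hp3 hY1 h3 l hrT2 hfam
  subst hσ
  have hperm1 : (permGL (1 : Equiv.Perm ι) : GL (ι → Fin k) F) = 1 :=
    lg_injective (by rw [lg_permGL, permV_one, map_one])
  rw [hperm1, mul_one] at hY1 hbσ
  have hiso : tenGL b ∈ isoV f := by
    rw [← hbσ]; exact conj_isoV hg (opGL_iso hf l (sieW_iso hf h2 H.ee a1))
  have hbp : lg (tenGL b) ^ p = 1 := pow_char_eq_one hp3 hY1 h3
  obtain ⟨N, hN, hNp, hNiso⟩ := exists_unip_form hS a3 hp3 hiso hbp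
  rw [hN] at hY1
  have hfam' : k = 3 → ∀ c : F, ∃ X : ι → Module.End F (W F k),
      ten X = 1 + c • T + ((c * c - c) / 2) • (T * T) := by
    intro h3' c
    obtain ⟨h, hh, he⟩ := hfam h3' c
    obtain ⟨b', σ', rfl⟩ := hh
    rw [add_assoc] at he
    set U := c • T + ((c * c - c) / 2) • (T * T) with hU
    have hz : ∀ Z, T * (T * (T * Z)) = 0 := fun Z => by rw [← mul_assoc, ← mul_assoc, h3, zero_mul]
    have hz' : T * (T * T) = 0 := by rw [← mul_assoc, h3]
    have hUU : U * U = (c * c) • (T * T) := by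
      simp only [hU, add_mul, mul_add, smul_mul_assoc, mul_smul_comm, mul_assoc, hz', mul_zero, smul_zero, add_zero]
      rw [smul_smul]
    have hUUU : U * U * U = 0 := by
      rw [hUU, hU]
      simp only [mul_add, smul_mul_assoc, mul_smul_comm, mul_assoc, hz', mul_zero, smul_zero, add_zero]
    have hσ' : σ' = 1 := perm_trivial hS a3 hp3 he hUUU l (by rw [hUU]; exact hrTT _) (fun _ c' => by
      obtain ⟨h', hh', he'⟩ := hfam h3' (c' * c)
      refine ⟨h', hh', ?_⟩
      rw [he', hUU, hU]
      match_scalars <;> field_simp <;> ring)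
    subst hσ'
    rw [hperm1, mul_one, lg_tenGL] at he
    exact ⟨_, by rw [he, add_assoc]⟩
  obtain ⟨i, hi⟩ : ∃ i, N i ≠ 0 := by
    by_contra! h
    refine hT2 ?_
    have : T = 0 := by
      rw [show (fun i => 1 + N i) = fun _ => (1 : Module.End F (W F k)) from funext fun i => by rw [h, add_zero],
        show ten (fun _ : ι => (1 : Module.End F (W F k))) = 1 from ten_one, left_eq_add] at hY1
      exact hY1
    rw [this, mul_zero]
  have hone : ∀ j, j ≠ i → N j = 0 := fun j hj => one_position hS a3 hp3 hY1 hNp hNiso l h3 hrT hfam' hj hi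
  have hop : ten (fun j => 1 + N j) = op i (1 + N i) := by
    rw [op]
    congr 1
    funext j
    by_cases hj : j = i
    · subst hj; rw [Function.update_self]
    · rw [Function.update_of_ne hj, hone j hj, add_zero]; rfl
  have hTi : T = op i (N i) := by
    rw [hop, op_add, op_one] at hY1
    exact (add_left_cancel hY1).symm
  have hN3 : N i * N i * N i = 0 := op_eq_zero_imp (by omega) (l := i) (by rw [← op_mul, ← op_mul, ← hTi, h3])
  have hN2 : N i * N i ≠ 0 := fun h => hT2 (by rw [hTi, op_mul, h, op_zero])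
  obtain ⟨u₀, hu₀⟩ : ∃ u, N i (N i u) ≠ 0 := by
    by_contra! h
    exact hN2 (LinearMap.ext h)
  set w := N i (N i u₀)
  have hline : ∀ u, ∃ c : F, N i (N i u) = c • w := by
    intro u
    by_contra! hu
    set w' := N i (N i u)
    have hli : ∀ s t : F, s • w + t • w' = 0 → s = 0 ∧ t = 0 := by
      intro s t h
      by_cases ht : t = 0
      · subst ht
        rw [zero_smul, add_zero, smul_eq_zero] at h
        exact ⟨h.resolve_right hu₀, rfl⟩
      · refine absurd ?_ (hu (-(t⁻¹ * s)))
        rw [← inv_smul_smul₀ ht w', eq_neg_of_add_eq_zero_right h, smul_neg, smul_smul, neg_smul]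
    let L : (VI F (Oth i) k × VI F (Oth i) k) →ₗ[F] VI F ι k := (emb i w).coprod (emb i w')
    have hLinj : Function.Injective L := by
      refine (injective_iff_map_eq_zero L).2 fun z hz => ?_
      have hb : ∀ b, z.1 b = 0 ∧ z.2 b = 0 := fun b => hli _ _ (funext fun c => by
        have := congrFun hz (ins i c b)
        simp only [L, LinearMap.coprod_apply, Pi.add_apply, emb_apply, ins_self, ins_other, Pi.zero_apply] at this
        simp only [Pi.add_apply, Pi.smul_apply, smul_eq_mul, Pi.zero_apply]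
        linear_combination this)
      exact Prod.ext (funext fun b => (hb b).1) (funext fun b => (hb b).2)
    have hsub : LinearMap.range L ≤ LinearMap.range (T * T) := by
      rintro _ ⟨z, rfl⟩
      refine ⟨emb i u₀ z.1 + emb i u z.2, ?_⟩
      rw [hTi, op_mul, map_add, op_emb, op_emb]
      rfl
    have h1 := LinearMap.finrank_range_of_inj hLinj
    have h2' := Submodule.finrank_mono hsub
    rw [Module.finrank_prod, Module.finrank_pi, card_oth i l] at h1
    have : 0 < K := Fintype.card_pos
    omega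
  obtain ⟨ν, hν, hw, hNN⟩ := unip_sq_one hf h2 (hNp i) (hNiso i) hN3 hu₀ hline hN2
  have hyp : (1 + N i) ^ p = (1 : Module.End F (W F k)) := pow_char_eq_one hp3 rfl hN3
  have hpp : p - 1 + 1 = p := by omega
  refine ⟨i, w, (-f a a)⁻¹ * ν, mkGL (1 + N i) ((1 + N i) ^ (p - 1)) (by rw [← pow_succ', hpp, hyp]),
    mul_ne_zero (inv_ne_zero (neg_ne_zero.2 a3)) hν, hu₀, hw, ?_, ?_⟩
  · rw [hbσ]
    exact lg_injective (by rw [lg_opGL, lg_mkGL, hN, hop])
  · show C S₀ = _
    rw [← smul_smul, ← op_smul, ← hNN, ← op_mul, ← hTi, hTT, inv_smul_smul₀ (neg_ne_zero.2 a3)]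

end Cfsg.Agent.OWreath
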