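import Cfsg.Agent.Lib.OWreathFusionPerm

/-!
A three-cycle of positions makes the square of the displacement too large when there are four or more coordinates.
-/

set_option autoImplicit false
set_option linter.unusedSectionVars false

namespace Cfsg.Agent.OWreath

open Cfsg.Agent.OTensor (Sym)

variable {F : Type*} [Field F] {k : ℕ} {ι : Type} [Fintype ι] [DecidableEq ι]

/-- Chosen representatives of triples up to rotation. -/
def TriRep (z : Fin k) (r : Fin k × Fin k × Fin k) : Prop :=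
  (r.1 = r.2.1 ∧ r.2.1 ≠ r.2.2) ∨ (r.1 = z ∧ r.2.1 ≠ z ∧ r.2.2 ≠ z ∧ r.2.1 ≠ r.2.2)

theorem TriRep.rot {z a b c : Fin k} (h : TriRep z (a, b, c)) : ¬ TriRep z (b, c, a) := by
  rintro h'
  simp only [TriRep] at h h'
  rcases h with ⟨rfl, h⟩ | ⟨rfl, h1, h2, h3⟩ <;> rcases h' with ⟨rfl, h'⟩ | ⟨rfl, h1', h2', h3'⟩ <;>
    first | exact h' rfl | exact h rfl | exact h3' rfl | exact h3 rfl | exact h1 rfl | exact h2 rfl | exact h1' rfl | exact h2' rfl

theorem TriRep.rot' {z a b c : Fin k} (h : TriRep z (a, b, c)) : ¬ TriRep z (c, a, b) := fun h' => h'.rot h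

theorem exists_tri (hk : 4 ≤ k) : ∃ (z : Fin k) (ψ : Fin k × Fin k → Fin k × Fin k × Fin k)
    (r : Fin k × Fin k × Fin k), Function.Injective ψ ∧ (∀ u, ψ u ≠ r) ∧ (∀ u, TriRep z (ψ u)) ∧ TriRep z r := by
  let z0 : Fin k := ⟨0, by omega⟩
  let z1 : Fin k := ⟨1, by omega⟩
  let z2 : Fin k := ⟨2, by omega⟩
  let z3 : Fin k := ⟨3, by omega⟩
  let ψ : Fin k × Fin k → Fin k × Fin k × Fin k := fun u =>
    if u.1 ≠ u.2 then (u.1, u.1, u.2) else if u.1 = z0 then (z0, z1, z3)
      else (z0, u.1, if u.1 = z1 then z2 else z1)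
  have d : z0 ≠ z1 ∧ z0 ≠ z2 ∧ z0 ≠ z3 ∧ z1 ≠ z2 ∧ z1 ≠ z3 ∧ z2 ≠ z3 := by
    simp [z0, z1, z2, z3, Fin.ext_iff]
  obtain ⟨d01, d02, d03, d12, d13, d23⟩ := d
  refine ⟨z0, ψ, (z0, z2, z3), ?_, ?_, ?_, Or.inr ⟨rfl, d02.symm, d03.symm, d23⟩⟩
  · rintro ⟨x, y⟩ ⟨x', y'⟩ e
    simp only [ψ] at e
    split_ifs at e <;> grind
  · rintro ⟨x, y⟩ e
    simp only [ψ] at e
    split_ifs at e <;> grind
  · rintro ⟨x, y⟩
    simp only [ψ, TriRep]
    split_ifs <;> grind

variable {f : W F k → W F k → F} (hf : Sym f)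
include hf

theorem no_move_three (hk : 4 ≤ k) {b : ι → GL (Fin k) F} {σ : Equiv.Perm ι} (hσ : σ ^ 3 = 1)
    {T : Module.End F (VI F ι k)} (hY : lg (tenGL b * permGL σ) = 1 + T)
    (hY3 : lg (tenGL b * permGL σ) ^ 3 = 1) (l : ι)
    (hr : Module.finrank F (LinearMap.range (T * T)) ≤ Fintype.card (Oth l → Fin k))
    {i₀ : ι} (hi : σ i₀ ≠ i₀) : False := by
  obtain ⟨z, ψ, r, hψ, hψr, hψR, hrR⟩ := exists_tri hk
  set i₁ := σ i₀
  set i₂ := σ i₁
  have h03 : σ i₂ = i₀ := by
    show σ (σ (σ i₀)) = i₀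
    have := congrArg (fun τ : Equiv.Perm ι => τ i₀) hσ
    simpa [pow_succ] using this
  have h01 : i₁ ≠ i₀ := hi
  have h12 : i₂ ≠ i₁ := fun e => h01 (σ.injective e)
  have h02 : i₂ ≠ i₀ := fun e => h01 ((congrArg σ e).symm.trans h03)
  have s1 : σ.symm i₁ = i₀ := Equiv.symm_apply_apply _ _
  have s2 : σ.symm i₂ = i₁ := Equiv.symm_apply_apply _ _
  have s0 : σ.symm i₀ = i₂ := by rw [← h03, Equiv.symm_apply_apply]
  -- the triple product is scalar
  obtain ⟨lam, hl⟩ : ∃ lam : F, lg (b i₀) * lg (b i₂) * lg (b i₁) = lam • 1 := by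
    have hm : lg (tenGL (fun i => b i * b (σ.symm i) * b ((σ * σ).symm i))) = (1 : F) • 1 := by
      rw [one_smul, ← hY3, pow_succ, pow_two, ← map_mul, ← map_mul, tenperm_mul, tenperm_mul,
        show σ * σ * σ = 1 by rw [← hσ]; simp [pow_succ]]
      rw [map_mul, lg_permGL, permV_one, mul_one]
    rw [lg_tenGL] at hm
    obtain ⟨c, hc⟩ := scalar_of_ten (by omega) one_ne_zero hm i₀
    refine ⟨c, ?_⟩
    rw [← hc, map_mul, map_mul, s0, show (σ * σ).symm i₀ = i₁ from by
      rw [Equiv.symm_apply_eq]; exact h03.symm]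
  -- coordinates adapted to the cycle
  let cc : ι → GL (Fin k) F := fun i => if i = i₁ then b i₁ else if i = i₂ then b i₂ * b i₁ else 1
  have c0 : cc i₀ = 1 := by simp [cc, h01.symm, h02.symm]
  have c1 : cc i₁ = b i₁ := by simp [cc]
  have c2 : cc i₂ = b i₂ * b i₁ := by simp [cc, h12]
  let E : ι → Module.End F (W F k) := fun i => lg (cc i)⁻¹ * lg (b i) * lg (cc (σ.symm i))
  have E1 : E i₁ = 1 := by
    show lg (cc i₁)⁻¹ * lg (b i₁) * lg (cc (σ.symm i₁)) = 1
    rw [s1, c0, c1, map_one, mul_one, lg_conj_inv]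
  have E2 : E i₂ = 1 := by
    show lg (cc i₂)⁻¹ * lg (b i₂) * lg (cc (σ.symm i₂)) = 1
    rw [s2, c1, c2, mul_assoc, ← map_mul lg (b i₂), lg_conj_inv]
  have E0 : E i₀ = lam • 1 := by
    show lg (cc i₀)⁻¹ * lg (b i₀) * lg (cc (σ.symm i₀)) = lam • 1
    rw [s0, c0, c2, inv_one, map_one, one_mul, map_mul, ← mul_assoc, hl]
  let Θ := lg (tenGL cc)⁻¹
  let Θ' := lg (tenGL cc)
  have hΘ : Θ' * Θ = 1 := lg_mul_inv _
  have hΘ' : Θ * Θ' = 1 := lg_conj_inv _
  let Z := Θ * lg (tenGL b * permGL σ) * Θ'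
  have hZ : ∀ x, Z (pv x) = pv fun i => E i (x (σ.symm i)) := fun x => by
    have hinv : (tenGL cc)⁻¹ = tenGL fun i => (cc i)⁻¹ := inv_eq_of_mul_eq_one_right (lg_injective (by
      rw [map_mul, map_one, lg_tenGL, lg_tenGL, ten_mul, ← ten_one]
      congr 1
      funext i
      exact lg_mul_inv (cc i)))
    simp only [Z, Θ, Θ', hinv, Module.End.mul_apply]
    rw [lg_tenGL (a := cc), ten_pv, tenperm_apply, lg_tenGL, ten_pv]
    rfl
  -- the family
  let fill : (Oth i₂ → Fin k) → (Fin k × Fin k × Fin k) → (ι → Fin k) := fun b r i =>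
    if i = i₀ then r.1 else if i = i₁ then r.2.1 else if h : i = i₂ then r.2.2 else b ⟨i, h⟩
  have f0 : ∀ b r, fill b r i₀ = r.1 := fun b r => if_pos rfl
  have f1 : ∀ b r, fill b r i₁ = r.2.1 := fun b r => by simp [fill, h01]
  have f2 : ∀ b r, fill b r i₂ = r.2.2 := fun b r => by simp [fill, h02, h12]
  let fam : Option (Oth i₂ → Fin k) → (ι → Fin k) := fun o => o.elim (fill (fun _ => z) r)
    fun b => fill b (ψ (b ⟨i₀, h02.symm⟩, b ⟨i₁, h12.symm⟩))
  have hfam : ∀ o, TriRep z (fam o i₀, fam o i₁, fam o i₂) := by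
    intro o
    cases o with
    | none => simp only [fam, Option.elim_none, f0, f1, f2]; exact hrR
    | some b => simp only [fam, Option.elim_some, f0, f1, f2]; exact hψR _
  have hinj : Function.Injective fam := by
    intro o o' e
    have e0 := congrFun e i₀
    have e1 := congrFun e i₁
    have e2 := congrFun e i₂
    cases o with
    | none => cases o' with
      | none => rfl
      | some b =>
        simp only [fam, Option.elim_none, Option.elim_some, f0, f1, f2] at e0 e1 e2
        exact absurd (Prod.ext e0 (Prod.ext e1 e2)).symm (hψr _)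
    | some b => cases o' with
      | none =>
        simp only [fam, Option.elim_none, Option.elim_some, f0, f1, f2] at e0 e1 e2
        exact absurd (Prod.ext e0 (Prod.ext e1 e2)) (hψr _)
      | some b' =>
        simp only [fam, Option.elim_some, f0, f1, f2] at e0 e1 e2
        have h := hψ (Prod.ext e0 (Prod.ext e1 e2))
        simp only [Prod.mk.injEq] at h
        refine congrArg some (funext fun i => ?_)
        by_cases hi0 : i.1 = i₀
        · rw [show i = (⟨i₀, h02.symm⟩ : Oth i₂) from Subtype.ext hi0]; exact h.1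
        by_cases hi1 : i.1 = i₁
        · rw [show i = (⟨i₁, h12.symm⟩ : Oth i₂) from Subtype.ext hi1]; exact h.2
        have := congrFun e i.1
        simpa [fam, fill, hi0, hi1, i.2] using this
  have hsupp : ∀ {x : ι → W F k} {a' : ι → Fin k} {i : ι}, x i (a' i) = 0 → pv x a' = 0 := fun h =>
    Finset.prod_eq_zero (Finset.mem_univ _) h
  have hz1 : ∀ o o', Z (pv fun i => Pi.single (fam o i) 1) (fam o') = 0 := by
    intro o o'
    rw [hZ]
    by_contra hne
    have g : ∀ i, E i (Pi.single (fam o (σ.symm i)) 1) (fam o' i) ≠ 0 := fun i h => hne (hsupp h)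
    have g1 := g i₁
    have g2 := g i₂
    have g0 := g i₀
    rw [E1, s1, Module.End.one_apply] at g1
    rw [E2, s2, Module.End.one_apply] at g2
    rw [E0, s0, LinearMap.smul_apply, Module.End.one_apply, Pi.smul_apply, smul_eq_mul] at g0
    have a1 : fam o' i₁ = fam o i₀ := by by_contra h; exact g1 (Pi.single_eq_of_ne h _)
    have a2 : fam o' i₂ = fam o i₁ := by by_contra h; exact g2 (Pi.single_eq_of_ne h _)
    have a0 : fam o' i₀ = fam o i₂ := by by_contra h; exact g0 (by rw [Pi.single_eq_of_ne h, mul_zero])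
    have := hfam o'
    rw [a0, a1, a2] at this
    exact (hfam o).rot' this
  have hz2 : ∀ o o', Z (Z (pv fun i => Pi.single (fam o i) 1)) (fam o') = 0 := by
    intro o o'
    rw [hZ, hZ]
    by_contra hne
    have g : ∀ i, E i (E (σ.symm i) (Pi.single (fam o (σ.symm (σ.symm i))) 1)) (fam o' i) ≠ 0 :=
      fun i h => hne (hsupp h)
    have g1 := g i₁
    have g2 := g i₂
    have g0 := g i₀
    rw [E1, s1, s0, E0, Module.End.one_apply, LinearMap.smul_apply, Module.End.one_apply, Pi.smul_apply,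
      smul_eq_mul] at g1
    rw [E2, s2, s1, E1, Module.End.one_apply, Module.End.one_apply] at g2
    rw [E0, s0, s2, E2, LinearMap.smul_apply, Module.End.one_apply, Module.End.one_apply, Pi.smul_apply,
      smul_eq_mul] at g0
    have a1 : fam o' i₁ = fam o i₂ := by by_contra h; exact g1 (by rw [Pi.single_eq_of_ne h, mul_zero])
    have a2 : fam o' i₂ = fam o i₀ := by by_contra h; exact g2 (Pi.single_eq_of_ne h _)
    have a0 : fam o' i₀ = fam o i₁ := by by_contra h; exact g0 (by rw [Pi.single_eq_of_ne h, mul_zero])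
    have := hfam o'
    rw [a0, a1, a2] at this
    exact (hfam o).rot this
  have hT : Θ * (T * T) * Θ' = Z * Z - (2 : F) • Z + 1 := by
    have e : T * T = lg (tenGL b * permGL σ) * lg (tenGL b * permGL σ) -
        (2 : F) • lg (tenGL b * permGL σ) + 1 := by
      rw [hY]; simp only [add_mul, mul_add, one_mul, mul_one]; module
    have e2 : Z * Z = Θ * (lg (tenGL b * permGL σ) * lg (tenGL b * permGL σ)) * Θ' := by
      simp only [Z, mul_assoc]
      rw [← mul_assoc Θ' Θ, hΘ, one_mul]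
    rw [e, e2]
    simp only [mul_add, add_mul, mul_sub, sub_mul, mul_smul_comm, smul_mul_assoc, mul_one, hΘ']
    rfl
  set L := Θ * (T * T) * Θ'
  have hLe : ∀ o o', L (pv fun i => Pi.single (fam o i) 1) (fam o') = if o = o' then 1 else 0 := by
    intro o o'
    rw [hT, LinearMap.add_apply, LinearMap.sub_apply, LinearMap.smul_apply, Pi.add_apply, Pi.sub_apply,
      Pi.smul_apply, Module.End.mul_apply, hz1, hz2, Module.End.one_apply, smul_zero, sub_zero, zero_add, pv_single,
      Pi.single_apply]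
    by_cases h : o = o'
    · subst h; simp
    · rw [if_neg h, if_neg fun e => h (hinj e).symm]
  have hli : LinearIndependent F fun o => L (pv fun i => Pi.single (fam o i) 1) := by
    rw [Fintype.linearIndependent_iff]
    intro g hg o'
    have := congrFun hg (fam o')
    simpa [Finset.sum_apply, hLe] using this
  have hle : Submodule.span F (Set.range fun o => L (pv fun i => Pi.single (fam o i) 1)) ≤ LinearMap.range L := by
    rw [Submodule.span_le]
    rintro _ ⟨o, rfl⟩
    exact LinearMap.mem_range_self _ _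
  have h1 := Submodule.finrank_mono hle
  rw [finrank_span_eq_card hli, Fintype.card_option, card_oth i₂ l] at h1
  have h2 : Module.finrank F (LinearMap.range L) ≤ Module.finrank F (LinearMap.range (T * T)) := by
    show Module.finrank F (LinearMap.range ((Θ * (T * T)).comp Θ')) ≤ _
    refine le_trans (Submodule.finrank_mono (LinearMap.range_comp_le_range _ _)) ?_
    rw [Module.End.mul_eq_comp, LinearMap.range_comp]
    exact Submodule.finrank_map_le _ _
  omega

end Cfsg.Agent.OWreath
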