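import Cfsg.Agent.Lib.OWreathRank

/-!
An element of the tensor wreath group with cube-zero displacement of small square rank fixes every position.
-/

set_option autoImplicit false
set_option linter.unusedSectionVars false

namespace Cfsg.Agent.OWreath

open Cfsg.Agent.OTensor (Sym)

variable {F : Type*} [Field F] {k : ℕ} {ι : Type} [Fintype ι] [DecidableEq ι] {f : W F k → W F k → F}

/-- The scalar multiples of a displacement stay in the wreath group. -/
def Fam (F : Type*) [Field F] (k : ℕ) (ι : Type) [Fintype ι] [DecidableEq ι] (T : Module.End F (VI F ι k)) : Prop :=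
  ∀ c : F, ∃ h ∈ Nst F k ι, lg h = 1 + c • T + ((c * c - c) / 2) • (T * T)

theorem card_oth (l i : ι) : Fintype.card (Oth l → Fin k) = Fintype.card (Oth i → Fin k) := by
  simp [Fintype.card_subtype_compl]

theorem pow_char_eq_one {V : Type*} [AddCommGroup V] [Module F V] [Nontrivial V] {p : ℕ} [Fact p.Prime] [CharP F p]
    (h3 : 3 ≤ p) {Y T : Module.End F V} (h : Y = 1 + T) (hT : T * T * T = 0) : Y ^ p = 1 := by
  have : CharP (Module.End F V) p := charP_of_injective_algebraMap (algebraMap F (Module.End F V)).injective p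
  rw [h, add_pow_char_of_commute p (Commute.one_left T), one_pow,
    pow_eq_zero_of_le h3 (show T ^ 3 = 0 by rw [pow_succ, pow_two, hT]), add_zero]

theorem tenperm_mul (b c : ι → GL (Fin k) F) (σ τ : Equiv.Perm ι) :
    tenGL b * permGL σ * (tenGL c * permGL τ) = tenGL (fun i => b i * c (σ.symm i)) * permGL (σ * τ) := by
  refine lg_injective ?_
  simp only [map_mul, lg_tenGL, lg_permGL]
  rw [mul_assoc, ← mul_assoc (permV σ) (ten _), permV_ten, mul_assoc (ten _) (permV σ), permV_mul, ← mul_assoc,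
    ten_mul]
  rfl

theorem fixed_of_pow {σ : Equiv.Perm ι} {p m : ℕ} (hp : p.Prime) (hσ : σ ^ p = 1) (hm0 : 0 < m) (hmp : m < p)
    {z : ι} (hz : (σ ^ m) z = z) : σ z = z := by
  have hco : Nat.Coprime m p :=
    ((hp.coprime_iff_not_dvd).2 fun hd => absurd (Nat.le_of_dvd hm0 hd) (by omega)).symm
  obtain ⟨r, -, hr⟩ := Nat.exists_mul_mod_eq_one_of_coprime hco hp.one_lt
  have e : ∀ r : ℕ, (σ ^ (m * r)) z = z := by
    intro r
    induction r with
    | zero => simp
    | succ r ih => rw [Nat.mul_succ, pow_add, Equiv.Perm.mul_apply, hz, ih]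
  have h := e r
  rwa [← Nat.mod_add_div (m * r) p, pow_add, pow_mul, hσ, one_pow, mul_one, hr, pow_one] at h

theorem orbit_ne {σ : Equiv.Perm ι} {p j m : ℕ} (hp : p.Prime) (hσ : σ ^ p = 1) (hjm : j < m) (hmp : m < p)
    {i₀ : ι} (hi : σ i₀ ≠ i₀) : (σ ^ j).symm i₀ ≠ (σ ^ m).symm i₀ := by
  intro e
  set z := (σ ^ m).symm i₀
  have hz : (σ ^ m) z = i₀ := Equiv.apply_symm_apply _ _
  have hz' : (σ ^ j) z = i₀ := by rw [← e]; exact Equiv.apply_symm_apply _ _
  have h : (σ ^ (m - j)) z = z := (σ ^ j).injective (by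
    rw [← Equiv.Perm.mul_apply, ← pow_add, show j + (m - j) = m by omega, hz, hz'])
  have hs := fixed_of_pow hp hσ (by omega) (by omega) h
  have hall : ∀ r : ℕ, (σ ^ r) z = z := by
    intro r
    induction r with
    | zero => simp
    | succ r ih => rw [pow_succ, Equiv.Perm.mul_apply, hs, ih]
  rw [hall m] at hz
  exact hi (by rw [← hz]; exact hs)

section Probe

variable (hf : Sym f)
include hf

/-- The contraction of a moved pure vector. -/
theorem con_tenperm (b : ι → GL (Fin k) F) (σ : Equiv.Perm ι) (x : ι → W F k) (i : ι) (y : W F k) :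
    con f i y (lg (tenGL b * permGL σ) (pv x)) =
      f (lg (b i) (x (σ.symm i))) y • pv fun j : Oth i => lg (b j.1) (x (σ.symm j.1)) := by
  rw [tenperm_apply, con_pv hf]

theorem perm_eq_one (hk : 3 ≤ k) {a : W F k} (ha : f a a ≠ 0) {b : ι → GL (Fin k) F} {σ : Equiv.Perm ι}
    (h : lg (tenGL b * permGL σ) = 1) : σ = 1 := by
  refine Equiv.ext fun j => ?_
  by_contra hj
  rw [Equiv.Perm.one_apply] at hj
  set i := σ j
  obtain ⟨x₀, hx0, hx, -⟩ := exists_killed hf hk (lg (b i)) 1 a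
  have ha0 : a ≠ 0 := fun e => ha (by rw [e, hf.zero_left])
  let x : ι → W F k := Function.update (fun _ => a) j x₀
  have h1 := con_tenperm hf b σ x i a
  rw [h, Module.End.one_apply, con_pv hf, show σ.symm i = j from Equiv.symm_apply_apply σ j,
    show x j = x₀ from Function.update_self _ _ _, hx, zero_smul,
    show x i = a from Function.update_of_ne hj _ _] at h1
  refine pv_ne_zero (fun m => ?_) ((smul_eq_zero.1 h1).resolve_left ha)
  by_cases hm : m.1 = j
  · rw [show x m.1 = x₀ by rw [hm]; exact Function.update_self _ _ _]; exact hx0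
  · rw [show x m.1 = a from Function.update_of_ne hm _ _]; exact ha0

theorem exists_probe (hk : 3 ≤ k) {a : W F k} (ha : f a a ≠ 0) (i₀ : ι) (P Q : ι → Module.End F (W F k)) :
    ∃ x : ι → W F k, x i₀ = a ∧ (∀ i, x i ≠ 0) ∧ ∀ i, i ≠ i₀ → f (P i (x i)) a = 0 ∧ f (Q i (x i)) a = 0 := by
  choose w hw0 hw1 hw2 using fun i => exists_killed hf hk (P i) (Q i) a
  refine ⟨Function.update w i₀ a, Function.update_self _ _ _, fun i => ?_, fun i hi => ?_⟩
  · by_cases hi : i = i₀
    · subst hi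
      rw [Function.update_self]
      exact fun e => ha (by rw [e, hf.zero_left])
    · rw [Function.update_of_ne hi]; exact hw0 i
  · rw [Function.update_of_ne hi]; exact ⟨hw1 i, hw2 i⟩

variable {T : Module.End F (VI F ι k)}

theorem no_move_five (hk : 3 ≤ k) {a : W F k} (ha : f a a ≠ 0) {p : ℕ} (hp : p.Prime) (h5 : 5 ≤ p)
    {b : ι → GL (Fin k) F} {σ : Equiv.Perm ι} (hσ : σ ^ p = 1) (hY : lg (tenGL b * permGL σ) = 1 + T)
    (h3 : T * T * T = 0) {i₀ : ι} (hi : σ i₀ ≠ i₀) : False := by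
  obtain ⟨c₁, e₁⟩ := exists_pow_form b σ 1
  obtain ⟨c₂, e₂⟩ := exists_pow_form b σ 2
  obtain ⟨c₃, e₃⟩ := exists_pow_form b σ 3
  set g := tenGL b * permGL σ
  let P : ι → Module.End F (W F k) := fun i =>
    if i = (σ ^ 1).symm i₀ then lg (c₁ i₀) else if i = (σ ^ 2).symm i₀ then lg (c₂ i₀) else lg (c₃ i₀)
  obtain ⟨x, hx0, hxn, hx⟩ := exists_probe hf hk ha i₀ P P
  have hq : ∀ m, 0 < m → m ≤ 3 → (σ ^ m).symm i₀ ≠ i₀ := fun m hm0 hm3 e =>
    orbit_ne hp hσ hm0 (by omega) hi (by rw [e, pow_zero]; rfl)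
  have z₁ : con f i₀ a (lg (g ^ 1) (pv x)) = 0 := by
    have := (hx _ (hq 1 (by omega) (by omega))).1
    simp only [P, if_true] at this
    rw [e₁, con_tenperm hf, this, zero_smul]
  have z₂ : con f i₀ a (lg (g ^ 2) (pv x)) = 0 := by
    have := (hx _ (hq 2 (by omega) (by omega))).1
    simp only [P, (orbit_ne hp hσ (show 1 < 2 by omega) (by omega) hi).symm, if_false, if_true] at this
    rw [e₂, con_tenperm hf, this, zero_smul]
  have z₃ : con f i₀ a (lg (g ^ 3) (pv x)) = 0 := by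
    have := (hx _ (hq 3 (by omega) le_rfl)).1
    simp only [P, (orbit_ne hp hσ (show 1 < 3 by omega) (by omega) hi).symm,
      (orbit_ne hp hσ (show 2 < 3 by omega) (by omega) hi).symm, if_false] at this
    rw [e₃, con_tenperm hf, this, zero_smul]
  have key : lg (g ^ 3) - (3 : F) • lg (g ^ 2) + (3 : F) • lg (g ^ 1) - 1 = 0 := by
    rw [map_pow, map_pow, pow_one, hY, pow_succ, pow_two]
    simp only [add_mul, mul_add, one_mul, mul_one, h3]
    module
  have h := congrArg (con f i₀ a) (LinearMap.congr_fun key (pv x))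
  simp only [LinearMap.sub_apply, LinearMap.add_apply, LinearMap.smul_apply, Module.End.one_apply, map_sub, map_add,
    map_smul, z₁, z₂, z₃, smul_zero, add_zero, zero_sub, LinearMap.zero_apply, map_zero, neg_eq_zero, sub_zero] at h
  rw [con_pv hf, hx0] at h
  exact pv_ne_zero (x := fun j : Oth i₀ => x j.1) (fun j => hxn j.1) ((smul_eq_zero.1 h).resolve_left ha)

theorem sq_combo {V : Type*} [AddCommGroup V] [Module F V] {Y S : Module.End F V} {c β : F}
    (hY : Y = 1 + c • S + β • (S * S)) (h3 : S * S * S = 0) :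
    Y ^ 2 - (2 : F) • Y + 1 = (c * c) • (S * S) ∧
      (c • S + β • (S * S)) * (c • S + β • (S * S)) * (c • S + β • (S * S)) = 0 := by
  have z' : S * (S * S) = 0 := by rw [← mul_assoc, h3]
  constructor
  · rw [hY, pow_two]
    simp only [add_mul, mul_add, one_mul, mul_one, smul_mul_assoc, mul_smul_comm, mul_assoc, z', smul_zero, mul_zero]
    module
  · simp only [add_mul, mul_add, smul_mul_assoc, mul_smul_comm, mul_assoc, z', smul_zero, mul_zero, add_zero]

theorem no_move_pair (hk : 3 ≤ k) {a : W F k} (ha : f a a ≠ 0) {p : ℕ} (hp : p.Prime) (hp3 : 3 ≤ p)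
    {b b' : ι → GL (Fin k) F} {σ σ' : Equiv.Perm ι} (hσ : σ ^ p = 1) (hσ' : σ' ^ p = 1) {d β : F}
    (hY : lg (tenGL b * permGL σ) = 1 + T) (hY' : lg (tenGL b' * permGL σ') = 1 + d • T + β • (T * T))
    (h3 : T * T * T = 0) (hd : d * d ≠ 1) {i₀ : ι} (hi : σ i₀ ≠ i₀) (hi' : σ' i₀ ≠ i₀) : False := by
  obtain ⟨c₁, e₁⟩ := exists_pow_form b σ 1
  obtain ⟨c₂, e₂⟩ := exists_pow_form b σ 2
  obtain ⟨d₁, f₁⟩ := exists_pow_form b' σ' 1
  obtain ⟨d₂, f₂⟩ := exists_pow_form b' σ' 2
  set g := tenGL b * permGL σ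
  set g' := tenGL b' * permGL σ'
  let P : ι → Module.End F (W F k) := fun i => if i = (σ ^ 1).symm i₀ then lg (c₁ i₀) else lg (c₂ i₀)
  let Q : ι → Module.End F (W F k) := fun i => if i = (σ' ^ 1).symm i₀ then lg (d₁ i₀) else lg (d₂ i₀)
  obtain ⟨x, hx0, hxn, hx⟩ := exists_probe hf hk ha i₀ P Q
  have hq : ∀ {τ : Equiv.Perm ι}, τ ^ p = 1 → τ i₀ ≠ i₀ → ∀ m, 0 < m → m ≤ 2 → (τ ^ m).symm i₀ ≠ i₀ :=
    fun hτ hτi m hm0 hm3 e => orbit_ne hp hτ hm0 (by omega) hτi (by rw [e, pow_zero]; rfl)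
  have z₁ : con f i₀ a (lg (g ^ 1) (pv x)) = 0 := by
    have := (hx _ (hq hσ hi 1 (by omega) (by omega))).1
    simp only [P, if_true] at this
    rw [e₁, con_tenperm hf, this, zero_smul]
  have z₂ : con f i₀ a (lg (g ^ 2) (pv x)) = 0 := by
    have := (hx _ (hq hσ hi 2 (by omega) le_rfl)).1
    simp only [P, (orbit_ne hp hσ (show 1 < 2 by omega) (by omega) hi).symm, if_false] at this
    rw [e₂, con_tenperm hf, this, zero_smul]
  have w₁ : con f i₀ a (lg (g' ^ 1) (pv x)) = 0 := by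
    have := (hx _ (hq hσ' hi' 1 (by omega) (by omega))).2
    simp only [Q, if_true] at this
    rw [f₁, con_tenperm hf, this, zero_smul]
  have w₂ : con f i₀ a (lg (g' ^ 2) (pv x)) = 0 := by
    have := (hx _ (hq hσ' hi' 2 (by omega) le_rfl)).2
    simp only [Q, (orbit_ne hp hσ' (show 1 < 2 by omega) (by omega) hi').symm, if_false] at this
    rw [f₂, con_tenperm hf, this, zero_smul]
  have k₁ : lg (g ^ 2) - (2 : F) • lg (g ^ 1) + 1 = T * T := by
    have := (sq_combo hf (Y := lg g) (c := 1) (β := 0) (S := T) (by rw [hY]; module) h3).1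
    rwa [one_mul, one_smul, ← map_pow, ← pow_one (lg g), ← map_pow] at this
  have k₂ : lg (g' ^ 2) - (2 : F) • lg (g' ^ 1) + 1 = (d * d) • (T * T) := by
    have := (sq_combo hf hY' h3).1
    rwa [← map_pow, ← pow_one (lg g'), ← map_pow] at this
  have h1 := congrArg (con f i₀ a) (LinearMap.congr_fun k₁ (pv x))
  have h2 := congrArg (con f i₀ a) (LinearMap.congr_fun k₂ (pv x))
  simp only [LinearMap.sub_apply, LinearMap.add_apply, LinearMap.smul_apply, Module.End.one_apply, map_sub, map_add,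
    map_smul, z₁, z₂, w₁, w₂, smul_zero, sub_zero, zero_add] at h1 h2
  rw [← h1] at h2
  have hne : con f i₀ a (pv x) ≠ 0 := by
    rw [con_pv hf, hx0]
    exact smul_ne_zero ha (pv_ne_zero (x := fun j : Oth i₀ => x j.1) fun j => hxn j.1)
  have : (d * d - 1) • con f i₀ a (pv x) = 0 := by rw [sub_smul, one_smul, ← h2, sub_self]
  exact hd (sub_eq_zero.1 ((smul_eq_zero.1 this).resolve_right hne))

end Probe

end Cfsg.Agent.OWreath
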