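import Cfsg.Agent.Lib.OWreathDefs

/-!
Unipotent isometries of one factor.
-/

set_option autoImplicit false
set_option linter.unusedSectionVars false

namespace Cfsg.Agent.OWreath

open Cfsg.Agent.OTensor (Sym sq1 sq1_apply smul_right')

variable {F : Type*} [Field F] {k : ℕ} {f : W F k → W F k → F} (hf : Sym f) (h2 : (2 : F) ≠ 0)
  {N : Module.End F (W F k)} {n : ℕ}
include hf h2

theorem unip_zero_of_add {Q : Module.End F (W F k)} (hQ : Q ^ n = 0) {c : F} (hc : c ≠ 0) {x : W F k}
    (h : c • x + Q x = 0) : x = 0 := by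
  have e : ∀ m : ℕ, (Q ^ m) x = (-c) ^ m • x := by
    intro m
    induction m with
    | zero => simp
    | succ m ih =>
      rw [pow_succ', Module.End.mul_apply, ih, map_smul, eq_neg_of_add_eq_zero_right h, ← neg_smul, smul_smul, pow_succ]
  have := e n
  rw [hQ, LinearMap.zero_apply] at this
  exact (smul_eq_zero.1 this.symm).resolve_left (pow_ne_zero _ (neg_ne_zero.2 hc))

variable (hN : N ^ n = 0) (hiso : ∀ u w, f (u + N u) (w + N w) = f u w)
include hN hiso

theorem unip_two_le_rank (h0 : N ≠ 0) : 2 ≤ Module.finrank F (LinearMap.range N) := by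
  obtain ⟨u₀, hu⟩ : ∃ u, N u ≠ 0 := by
    by_contra! h
    exact h0 (LinearMap.ext h)
  by_contra hr
  have h1 : Module.finrank F (LinearMap.range N) ≤ 1 := by omega
  have hw : (⟨N u₀, LinearMap.mem_range_self N u₀⟩ : LinearMap.range N) ≠ 0 := fun e => hu (congrArg Subtype.val e)
  have : Nontrivial (LinearMap.range N) := nontrivial_of_ne _ _ hw
  have h1' : Module.finrank F (LinearMap.range N) = 1 :=
    le_antisymm h1 Module.finrank_pos
  have hspan : ∀ u, ∃ c : F, N u = c • N u₀ := fun u => by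
    obtain ⟨c, hc⟩ := (finrank_eq_one_iff_of_nonzero' _ hw).1 h1' ⟨N u, LinearMap.mem_range_self N u⟩
    exact ⟨c, (congrArg Subtype.val hc).symm⟩
  have hNw : N (N u₀) = 0 := by
    obtain ⟨c, hc⟩ := hspan (N u₀)
    by_contra hne
    have hc0 : c ≠ 0 := fun e => hne (by rw [hc, e, zero_smul])
    refine hu (unip_zero_of_add hf h2 (Q := -N) (n := n) ?_ hc0 ?_)
    · rw [show (-N) = (-1 : F) • N from (neg_one_smul F N).symm, smul_pow, hN, smul_zero]
    · rw [LinearMap.neg_apply, ← hc, add_neg_cancel]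
  have a1 := hiso u₀ (N u₀)
  rw [hNw, add_zero, hf.add_left] at a1
  have a1' : f (N u₀) (N u₀) = 0 := by linear_combination a1
  have a2 := hiso u₀ u₀
  simp only [hf.add_left, hf.add_right, a1', OTensor.symm hf u₀ (N u₀)] at a2
  have a3 : f (N u₀) u₀ = 0 := (mul_eq_zero.1 (by linear_combination a2 : (2 : F) * f (N u₀) u₀ = 0)).resolve_left h2
  refine hu (hf.nd _ fun v => ?_)
  obtain ⟨c, hc⟩ := hspan v
  have := hiso u₀ v
  simp only [hf.add_left, hf.add_right, hc, smul_right' hf, a1', OTensor.symm hf u₀ (N u₀), a3] at this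
  linear_combination this

theorem unip_isotropic (h : N * N = 0) (u w : W F k) : f (N u) (N w) = 0 := by
  have := hiso u (N w)
  rw [show N (N w) = 0 from LinearMap.congr_fun h w, add_zero, hf.add_left] at this
  linear_combination this

theorem unip_sq_ne_zero (hsane : OTensor.Sane f) (hk : k ≤ 4) (h0 : N ≠ 0) : N * N ≠ 0 := by
  intro h
  have hr := unip_two_le_rank hf h2 hN hiso h0
  have hle : LinearMap.range N ≤ LinearMap.ker N := by
    rintro _ ⟨u, rfl⟩
    exact LinearMap.congr_fun h u
  have hsum := N.finrank_range_add_finrank_ker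
  rw [Module.finrank_fin_fun] at hsum
  have hle' := Submodule.finrank_mono hle
  obtain ⟨u₀, hu⟩ : ∃ u, N u ≠ 0 := by
    by_contra! h'
    exact h0 (LinearMap.ext h')
  rcases hsane with hs | hs
  · omega
  · have : LinearMap.range N ≤ Submodule.span F {N u₀} := by
      rintro _ ⟨w, rfl⟩
      obtain ⟨y, hy⟩ := hs (N u₀) (N w) hu (unip_isotropic hf h2 hN hiso h u₀ u₀)
        (unip_isotropic hf h2 hN hiso h w w) (unip_isotropic hf h2 hN hiso h u₀ w)
      exact Submodule.mem_span_singleton.2 ⟨y, hy.symm⟩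
    have := (Submodule.finrank_mono this).trans (finrank_span_singleton hu).le
    omega

theorem unip_sq_selfAdj (h3 : N * N * N = 0) (u v : W F k) : f (N (N u)) v = f u (N (N v)) := by
  have z : ∀ x, N (N (N x)) = 0 := fun x => LinearMap.congr_fun h3 x
  have e : ∀ a b, f (N a) b + f a (N b) - f a (N (N b)) = 0 := by
    intro a b
    have h := hiso a (b - N b + N (N b))
    simp only [map_add, map_sub, z, hf.add_left, hf.add_right, hf.sub_right, hf.zero_right] at h
    linear_combination h
  have e1 := e u v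
  have e2 := e v u
  simp only [OTensor.symm hf (N v) u, OTensor.symm hf v (N u), OTensor.symm hf v (N (N u))] at e2
  linear_combination e1 - e2

theorem unip_sq_one (h3 : N * N * N = 0) {w : W F k} (hw : w ≠ 0)
    (hr : ∀ u, ∃ c : F, N (N u) = c • w) (h0 : N * N ≠ 0) :
    ∃ ν : F, ν ≠ 0 ∧ f w w = 0 ∧ N * N = ν • sq1 hf w := by
  obtain ⟨v₀, hv⟩ : ∃ v, f w v ≠ 0 := by
    by_contra! h
    exact hw (hf.nd w h)
  obtain ⟨c₀, hc₀⟩ := hr v₀
  have e : N * N = (c₀ / f w v₀) • sq1 hf w := LinearMap.ext fun u => by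
    obtain ⟨c, hc⟩ := hr u
    have := unip_sq_selfAdj hf h2 hN hiso h3 u v₀
    rw [hc, hc₀, hf.smul_left, smul_right' hf] at this
    rw [Module.End.mul_apply, hc, LinearMap.smul_apply, sq1_apply, smul_smul]
    congr 1
    field_simp
    linear_combination this
  have hν : c₀ / f w v₀ ≠ 0 := fun e' => h0 (by rw [e, e', zero_smul])
  refine ⟨_, hν, ?_, e⟩
  have h4 : (N * N) ((N * N) v₀) = 0 := by
    rw [← Module.End.mul_apply, ← mul_assoc, h3, zero_mul, LinearMap.zero_apply]
  rw [e] at h4
  simp only [LinearMap.smul_apply, sq1_apply, map_smul, smul_smul, smul_eq_zero, mul_eq_zero, hν, hw, or_false,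
    false_or, OTensor.symm hf v₀ w, hv] at h4
  exact h4

omit hiso in
theorem unip_indep {u : W F k} (hu : N (N u) ≠ 0) {a b c : F}
    (h : a • u + b • N u + c • N (N u) = 0) : a = 0 ∧ b = 0 ∧ c = 0 := by
  have hu0 : u ≠ 0 := fun e => hu (by rw [e, map_zero, map_zero])
  have hN1 : N u ≠ 0 := fun e => hu (by rw [e, map_zero])
  have hQ : ∀ (b c : F), (b • N + c • (N * N)) ^ n = 0 := fun b c => by
    rw [show b • N + c • (N * N) = N * (b • 1 + c • N) by rw [mul_add, mul_smul_comm, mul_smul_comm, mul_one],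
      (((Commute.one_right N).smul_right b).add_right ((Commute.refl N).smul_right c)).mul_pow, hN, zero_mul]
  have ha : a = 0 := by
    by_contra ha
    exact hu0 (unip_zero_of_add hf h2 (hQ b c) ha (by
      rw [LinearMap.add_apply, LinearMap.smul_apply, LinearMap.smul_apply, Module.End.mul_apply, ← add_assoc]
      exact h))
  subst ha
  rw [zero_smul, zero_add] at h
  have hb : b = 0 := by
    by_contra hb
    refine hN1 (unip_zero_of_add hf h2 (hQ c 0) hb ?_)
    rw [zero_smul, add_zero, LinearMap.smul_apply]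
    exact h
  subst hb
  rw [zero_smul, zero_add, smul_eq_zero] at h
  exact ⟨rfl, rfl, h.resolve_right hu⟩

end Cfsg.Agent.OWreath
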