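import Cfsg.Agent.Lib.OWreathFusionCount
import Cfsg.Agent.Lib.OWreathUnip

/-!
An element of the tensor wreath group with the displacement type of a single-position Siegel element is supported
at one position.
-/

set_option autoImplicit false
set_option linter.unusedSectionVars false

namespace Cfsg.Agent.OWreath

open Cfsg.Agent.OTensor (Sym)

variable {F : Type*} [Field F] [Finite F] {k : ℕ} {ι : Type} [Fintype ι] [DecidableEq ι] {f : W F k → W F k → F}
variable (hS : Std f) {a : W F k} (ha : f a a ≠ 0) {p : ℕ} [Fact p.Prime] [CharP F p] (hp3 : 3 ≤ p)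
include hS ha hp3

theorem perm_pow_char {b : ι → GL (Fin k) F} {σ : Equiv.Perm ι} {T : Module.End F (VI F ι k)}
    (hY : lg (tenGL b * permGL σ) = 1 + T) (h3 : T * T * T = 0) :
    σ ^ p = 1 ∧ lg (tenGL b * permGL σ) ^ p = 1 := by
  have hk := hS.hk
  have : Nonempty (Fin k) := ⟨⟨0, by omega⟩⟩
  have h := pow_char_eq_one (p := p) hp3 hY h3
  obtain ⟨c, hc⟩ := exists_pow_form b σ p
  refine ⟨perm_eq_one hS.sym hk ha (b := c) (by rw [← hc, map_pow, h]), h⟩

theorem perm_trivial {b : ι → GL (Fin k) F} {σ : Equiv.Perm ι} {T : Module.End F (VI F ι k)}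
    (hY : lg (tenGL b * permGL σ) = 1 + T) (h3 : T * T * T = 0) (l : ι)
    (hr : Module.finrank F (LinearMap.range (T * T)) ≤ Fintype.card (Oth l → Fin k))
    (hfam : k = 3 → Fam F k ι T) : σ = 1 := by
  have hk := hS.hk
  have hp : p.Prime := Fact.out
  obtain ⟨hσ, hYp⟩ := perm_pow_char hS ha hp3 hY h3
  refine Equiv.ext fun i₀ => ?_
  rw [Equiv.Perm.one_apply]
  by_contra hi
  rcases (show p = 3 ∨ 5 ≤ p by
    have : p ≠ 4 := fun e => by rw [e] at hp; norm_num at hp
    omega) with rfl | h5
  swap
  · exact no_move_five hS.sym hk ha hp h5 hσ hY h3 hi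
  rcases (show k = 3 ∨ 4 ≤ k by omega) with hk3 | h4
  swap
  · exact no_move_three hS.sym h4 hσ hY hYp l hr hi
  obtain ⟨d, hd0, hd⟩ := hS.hbig.resolve_left (by omega)
  obtain ⟨h, hh, he⟩ := hfam hk3 d
  obtain ⟨b', σ', rfl⟩ := hh
  have hd3 : ∀ c β : F, (c • T + β • (T * T)) * (c • T + β • (T * T)) * (c • T + β • (T * T)) = 0 := fun c β =>
    (sq_combo hS.sym (Y := 1 + c • T + β • (T * T)) rfl h3).2
  obtain ⟨hσ', -⟩ := perm_pow_char hS ha hp3 (by rw [he, add_assoc]) (hd3 d _)
  by_cases hi' : σ' i₀ = i₀
  · obtain ⟨c, hc⟩ : ∃ c, tenGL b * permGL σ * (tenGL b' * permGL σ') = tenGL c * permGL (σ * σ') :=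
      ⟨_, tenperm_mul b b' σ σ'⟩
    obtain ⟨β, hβ⟩ : ∃ β : F, lg (tenGL c * permGL (σ * σ')) = 1 + (1 + d) • T + β • (T * T) := by
      refine ⟨(d * d - d) / 2 + d, ?_⟩
      rw [← hc, map_mul, hY, he]
      simp only [add_mul, mul_add, one_mul, mul_one, mul_smul_comm, ← mul_assoc, h3]
      module
    obtain ⟨hσ'', -⟩ := perm_pow_char hS ha hp3 (by rw [hβ, add_assoc]) (hd3 _ _)
    refine no_move_pair hS.sym hk ha hp le_rfl hσ hσ'' hY hβ h3 (fun e => ?_) hi
      (by rw [Equiv.Perm.mul_apply, hi']; exact hi)
    have h30 : ((3 : ℕ) : F) = 0 := CharP.cast_eq_zero F 3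
    push_cast at h30
    have : d * (d + 2) = 0 := by linear_combination e
    have hd2 : d = 1 := by linear_combination (mul_eq_zero.1 this).resolve_left hd0 - h30
    exact hd (by rw [hd2, one_mul])
  · exact no_move_pair hS.sym hk ha hp le_rfl hσ hσ' hY he h3 hd hi hi'

/-- The normal form of a pure isometry of order `p`: a tensor of unipotent isometries. -/
theorem exists_unip_form {b : ι → GL (Fin k) F} (hiso : tenGL b ∈ isoV f) (hbp : lg (tenGL b) ^ p = 1) :
    ∃ N : ι → Module.End F (W F k), lg (tenGL b) = ten (fun i => 1 + N i) ∧ (∀ i, N i ^ p = 0) ∧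
      ∀ i u w, f (u + N i u) (w + N i w) = f u w := by
  have hk := hS.hk
  have hf := hS.sym
  have hp : p.Prime := Fact.out
  have : Nonempty (Fin k) := ⟨⟨0, by omega⟩⟩
  have : CharP (Module.End F (W F k)) p := by
    exact charP_of_injective_algebraMap (algebraMap F (Module.End F (W F k))).injective p
  have hten : ten (fun i => lg (b i) ^ p) = (1 : F) • (1 : Module.End F (VI F ι k)) := by
    rw [one_smul, ← hbp, lg_tenGL]
    have key : ∀ n, ten (fun i => lg (b i) ^ n) = ten (fun i => lg (b i)) ^ n := by
      intro n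
      induction n with
      | zero => simp only [pow_zero]; exact ten_one
      | succ n ih => simp only [pow_succ, ← ih, ten_mul]; rfl
    exact key p
  choose lam hlam using fun i => scalar_of_ten (by omega) one_ne_zero hten i
  have hbij : Function.Bijective (frobenius F p) :=
    ⟨frobenius_inj F p, Finite.injective_iff_surjective.1 (frobenius_inj F p)⟩
  choose μ hμ using fun i => hbij.2 (lam i)
  simp only [frobenius_def] at hμ
  have hlam0 : ∀ i, lam i ≠ 0 := fun i e => by
    have h := hlam i
    rw [e, zero_smul] at h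
    have h1 : lg (b i)⁻¹ ^ p * lg (b i) ^ p = 1 := by
      rw [← map_pow, ← map_pow, ← map_mul, inv_pow, inv_mul_cancel, map_one]
    rw [h, mul_zero] at h1
    exact zero_ne_one h1
  have hμ0 : ∀ i, μ i ≠ 0 := fun i e => hlam0 i (by rw [← hμ, e, zero_pow hp.ne_zero])
  have hprod : ∏ i, μ i = 1 := by
    refine frobenius_inj F p ?_
    rw [frobenius_def, frobenius_def, one_pow, ← Finset.prod_pow]
    simp only [hμ]
    have h := hten
    rw [show (fun i => lg (b i) ^ p) = fun i => lam i • (1 : Module.End F (W F k)) from funext hlam,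
      ten_smul_fun lam (fun _ => 1), show ten (fun _ : ι => (1 : Module.End F (W F k))) = 1 from ten_one] at h
    have : Nonempty (Fin k) := ⟨⟨0, by omega⟩⟩
    exact smul_left_injective F (one_ne_zero (α := Module.End F (VI F ι k))) h
  let N : ι → Module.End F (W F k) := fun i => (μ i)⁻¹ • lg (b i) - 1
  have hN1 : ∀ i, 1 + N i = (μ i)⁻¹ • lg (b i) := fun i => add_sub_cancel _ _
  have hNp : ∀ i, N i ^ p = 0 := fun i => by
    have h := add_pow_char_of_commute p (Commute.one_left (N i))
    rw [hN1, one_pow, smul_pow, hlam, inv_pow, hμ, inv_smul_smul₀ (hlam0 i)] at h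
    exact add_left_cancel (a := (1 : Module.End F (W F k))) (by rw [add_zero]; exact h.symm)
  have hform : lg (tenGL b) = ten fun i => 1 + N i := by
    simp only [hN1]
    rw [ten_smul_fun, lg_tenGL, Finset.prod_inv_distrib, hprod, inv_one, one_smul]
  refine ⟨N, hform, hNp, fun i u w => ?_⟩
  -- the multiplier at each position is one
  set y : ι → Module.End F (W F k) := fun j => 1 + N j
  have hprodf : ∀ x z : ι → W F k, ∏ j, f (y j (x j)) (y j (z j)) = ∏ j, f (x j) (z j) := fun x z => by
    have := hiso (pv x) (pv z)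
    rwa [hform, ten_pv, ten_pv, bT_pv hf, bT_pv hf] at this
  have hay : ∀ j, f (y j a) (y j a) ≠ 0 := fun j e => by
    have := hprodf (fun _ => a) (fun _ => a)
    rw [Finset.prod_eq_zero (Finset.mem_univ j) e] at this
    exact Finset.prod_ne_zero_iff.2 (fun _ _ => ha) this.symm
  obtain ⟨lam', hlam'⟩ : ∃ lam' : F, ∀ u w, f (y i u) (y i w) = lam' * f u w := by
    refine ⟨(∏ _j ∈ Finset.univ.erase i, f a a) / ∏ j ∈ Finset.univ.erase i, f (y j a) (y j a), fun u w => ?_⟩
    have h := hprodf (Function.update (fun _ => a) i u) (Function.update (fun _ => a) i w)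
    rw [← Finset.mul_prod_erase _ _ (Finset.mem_univ i), ← Finset.mul_prod_erase _ _ (Finset.mem_univ i),
      Function.update_self, Function.update_self] at h
    have e1 : ∏ j ∈ Finset.univ.erase i, f (y j (Function.update (fun _ => a) i u j))
        (y j (Function.update (fun _ => a) i w j)) = ∏ j ∈ Finset.univ.erase i, f (y j a) (y j a) :=
      Finset.prod_congr rfl fun j hj => by
        rw [Function.update_of_ne (Finset.ne_of_mem_erase hj), Function.update_of_ne (Finset.ne_of_mem_erase hj)]
    have e2 : ∏ j ∈ Finset.univ.erase i, f (Function.update (fun _ => a) i u j)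
        (Function.update (fun _ => a) i w j) = ∏ _j ∈ Finset.univ.erase i, f a a :=
      Finset.prod_congr rfl fun j hj => by
        rw [Function.update_of_ne (Finset.ne_of_mem_erase hj), Function.update_of_ne (Finset.ne_of_mem_erase hj)]
    rw [e1, e2] at h
    rw [div_mul_eq_mul_div, eq_div_iff (Finset.prod_ne_zero_iff.2 fun j _ => hay j), mul_comm (∏ _j ∈ _, f a a)]
    exact h
  have hpow : ∀ n, f ((y i ^ n) a) ((y i ^ n) a) = lam' ^ n * f a a := by
    intro n
    induction n with
    | zero => simp
    | succ n ih => rw [pow_succ' (y i), Module.End.mul_apply, hlam', ih, pow_succ]; ring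
  have h1 : lam' = 1 := by
    refine frobenius_inj F p ?_
    rw [frobenius_def, frobenius_def, one_pow]
    have hyp : y i ^ p = 1 := by
      show (1 + N i) ^ p = 1
      rw [add_pow_char_of_commute p (Commute.one_left (N i)), one_pow, hNp, add_zero]
    have := hpow p
    rw [hyp, Module.End.one_apply] at this
    exact mul_right_cancel₀ ha (by rw [one_mul]; exact this.symm)
  have := hlam' u w
  rwa [h1, one_mul] at this

theorem ker_le_two {N : Module.End F (W F k)} (hN : N ^ p = 0) (hiso : ∀ u w, f (u + N u) (w + N w) = f u w)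
    (h0 : N ≠ 0) (h4 : 4 ≤ k) :
    Module.finrank F (LinearMap.ker N) ≤ k - 2 ∧
      Module.finrank F (LinearMap.ker N ⊓ LinearMap.range N : Submodule F (W F k)) < k - 2 := by
  have hr := unip_two_le_rank hS.sym hS.two hN hiso h0
  have hsum := N.finrank_range_add_finrank_ker
  rw [Module.finrank_fin_fun] at hsum
  refine ⟨by omega, ?_⟩
  have l1 : Module.finrank F (LinearMap.ker N ⊓ LinearMap.range N : Submodule F (W F k)) ≤
      Module.finrank F (LinearMap.ker N) := Submodule.finrank_mono inf_le_left
  have l2 : Module.finrank F (LinearMap.ker N ⊓ LinearMap.range N : Submodule F (W F k)) ≤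
      Module.finrank F (LinearMap.range N) := Submodule.finrank_mono inf_le_right
  rcases (show 5 ≤ k ∨ k = 4 by omega) with h5 | h4'
  · omega
  have hsq := unip_sq_ne_zero hS.sym hS.two hN hiso hS.sane (by omega) h0
  have hlt : (LinearMap.ker N ⊓ LinearMap.range N : Submodule F (W F k)) < LinearMap.range N := by
    refine lt_of_le_of_ne inf_le_right fun e => hsq (LinearMap.ext fun u => ?_)
    have : N u ∈ LinearMap.ker N ⊓ LinearMap.range N := by rw [e]; exact LinearMap.mem_range_self N u
    exact LinearMap.mem_ker.1 this.1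
  have := Submodule.finrank_lt_finrank_of_lt hlt
  omega

theorem one_position {T : Module.End F (VI F ι k)} {N : ι → Module.End F (W F k)}
    (hY : ten (fun i => 1 + N i) = 1 + T) (hN : ∀ i, N i ^ p = 0)
    (hiso : ∀ i u w, f (u + N i u) (w + N i w) = f u w) (l : ι) (h3 : T * T * T = 0)
    (hr : Module.finrank F (LinearMap.range T) ≤ 2 * Fintype.card (Oth l → Fin k))
    (hfam : k = 3 → ∀ c : F, ∃ X : ι → Module.End F (W F k), ten X = 1 + c • T + ((c * c - c) / 2) • (T * T))
    {i j : ι} (hij : j ≠ i) (hNi : N i ≠ 0) : N j = 0 := by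
  have hf := hS.sym
  have hk := hS.hk
  have hp : p.Prime := Fact.out
  have : Nonempty (Fin k) := ⟨⟨0, by omega⟩⟩
  have : CharP (Module.End F (W F k)) p :=
    charP_of_injective_algebraMap (algebraMap F (Module.End F (W F k))).injective p
  by_contra hNj
  set R := ten fun m : Oth i => (1 : Module.End F (W F k)) + N m.1
  have hsplit : ten (fun i => 1 + N i) = op i (1 + N i) * out i R := ten_split i _
  have hpow : ∀ n, ten (fun m : Oth i => ((1 : Module.End F (W F k)) + N m.1) ^ n) = R ^ n := by
    intro n
    induction n with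
    | zero => simp only [pow_zero]; exact ten_one
    | succ n ih => simp only [pow_succ, ← ih]; exact (ten_mul _ _).symm
  have hR : R ^ p = 1 := by
    rw [← hpow p, ← ten_one]
    congr 1
    funext m
    rw [add_pow_char_of_commute p (Commute.one_left (N m.1)), one_pow, hN, add_zero]
    rfl
  have hR1 : R ≠ 1 := by
    intro e
    obtain ⟨c, hc⟩ := scalar_of_ten (X := fun m : Oth i => (1 : Module.End F (W F k)) + N m.1) (μ := (1 : F))
      (by omega) one_ne_zero (by rw [one_smul]; exact e) ⟨j, hij⟩
    have e' : N j = (c - 1) • (1 : Module.End F (W F k)) := by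
      refine Eq.trans ?_ (sub_smul c 1 (1 : Module.End F (W F k))).symm
      rw [one_smul, ← hc]
      exact (add_sub_cancel_left _ _).symm
    have h := hN j
    rw [e', smul_pow, one_pow, smul_eq_zero] at h
    exact hNj (by rw [e', (pow_eq_zero_iff hp.ne_zero).1 (h.resolve_right one_ne_zero), zero_smul])
  have hRscal : ∀ c : F, R ≠ c • 1 := fun c e => hR1 (by
    have h := hR
    rw [e, smul_pow, one_pow] at h
    have : Nonempty (Oth i → Fin k) := ⟨fun _ => ⟨0, by omega⟩⟩
    have hc : c ^ p = 1 := smul_left_injective F (one_ne_zero (α := Module.End F (VI F (Oth i) k)))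
      (h.trans (one_smul F _).symm)
    rw [e, show c = 1 from frobenius_inj F p (by rw [frobenius_def, frobenius_def, hc, one_pow]), one_smul])
  set R' := R ^ (p - 1)
  have hRR' : R' * R = 1 := by rw [← pow_succ, Nat.sub_add_cancel hp.one_le, hR]
  by_cases hk3 : k = 3
  · -- three coordinates: the scalar multiples
    have hsq := unip_sq_ne_zero hf hS.two (hN i) (hiso i) hS.sane (by omega) hNi
    obtain ⟨u, hu⟩ : ∃ u, N i (N i u) ≠ 0 := by
      by_contra! h
      exact hsq (LinearMap.ext h)
    obtain ⟨d, hd0, hd⟩ := hS.hbig.resolve_left (by omega)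
    obtain ⟨X, hX⟩ := hfam hk3 d
    set y := 1 + N i with hy
    set y' := y ^ (p - 1)
    have hyy : y' * y = 1 := by
      rw [← pow_succ, Nat.sub_add_cancel hp.one_le, add_pow_char_of_commute p (Commute.one_left (N i)), one_pow, hN,
        add_zero]
    have hY' : op i y' * out i R' = 1 - T + T * T := by
      have h1 : op i y' * out i R' * (1 + T) = 1 := by
        rw [← hY, hsplit, mix_mul, hyy, hRR', op_one, out_one, one_mul]
      have h2 : (1 + T) * (1 - T + T * T) = 1 := by
        rw [show (1 + T) * (1 - T + T * T) = 1 + T * T * T by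
          simp only [mul_add, mul_sub, add_mul, one_mul, mul_one, mul_assoc]; abel, h3, add_zero]
      calc op i y' * out i R' = op i y' * out i R' * ((1 + T) * (1 - T + T * T)) := by rw [h2, mul_one]
        _ = 1 - T + T * T := by rw [← mul_assoc, h1, one_mul]
    set RX := ten fun m : Oth i => X m.1
    have hdec : op i (X i) * out i RX = ((d * d + d) / 2) • (op i y * out i R) +
        ((d * d - d) / 2) • (op i y' * out i R') + (1 - d * d) • (1 : Module.End F (VI F ι k)) := by
      rw [← ten_split i X, hX, ← hsplit, hY, hY']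
      match_scalars <;> field_simp [hS.two] <;> ring
    have key : ∀ z w, (f (X i u) z) • RX w = (((d * d + d) / 2) * f (y u) z) • R w +
        (((d * d - d) / 2) * f (y' u) z) • R' w + ((1 - d * d) * f u z) • w := by
      intro z w
      have := congrArg (con f i z) (LinearMap.congr_fun hdec (emb i u w))
      simp only [LinearMap.add_apply, LinearMap.smul_apply, Module.End.mul_apply, out_emb, op_emb,
        Module.End.one_apply, map_add, map_smul, con_emb hf, smul_smul] at this
      exact this
    have hindep : ∀ a b c : F, a • y u + b • y' u + c • u = 0 → a = 0 ∧ b = 0 ∧ c = 0 := by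
      intro a b c e
      have h' := congrArg y e
      simp only [map_add, map_smul, map_zero] at h'
      rw [show y (y' u) = u by
        rw [← Module.End.mul_apply, ← pow_succ', Nat.sub_add_cancel hp.one_le,
          show y ^ p = 1 by rw [← hyy, ← pow_succ, Nat.sub_add_cancel hp.one_le], Module.End.one_apply]] at h'
      simp only [hy, LinearMap.add_apply, Module.End.one_apply, map_add] at h'
      obtain ⟨q1, q2, q3⟩ := unip_indep hf hS.two (hN i) hu
        (a := a + b + c) (b := 2 * a + c) (c := a) (by rw [← h']; module)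
      have hc0 : c = 0 := by linear_combination q2 - 2 * q3
      exact ⟨q3, by linear_combination q1 - q3 - hc0, hc0⟩
    have probe : ∀ {v₁ v₂ v₃ : W F k}, (∀ a b c : F, a • v₁ + b • v₂ + c • v₃ = 0 → a = 0) →
        ∃ z, f v₂ z = 0 ∧ f v₃ z = 0 ∧ f v₁ z ≠ 0 := by
      intro v₁ v₂ v₃ hv
      obtain ⟨φ, hφ, hle⟩ := Submodule.exists_le_ker_of_notMem (p := Submodule.span F {v₂, v₃}) (v := v₁) (by
        intro hm
        obtain ⟨b, c, e⟩ := Submodule.mem_span_pair.1 hm
        exact one_ne_zero (α := F) (neg_eq_zero.1 (hv (-1) b c (by rw [add_assoc, e]; module))))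
      obtain ⟨z, hz⟩ := OTensor.exists_rep hf φ
      refine ⟨z, ?_, ?_, fun e => hφ (by rw [hz, e])⟩
      · rw [← hz]; exact hle (Submodule.subset_span (by simp))
      · rw [← hz]; exact hle (Submodule.subset_span (by simp))
    -- each of the three operators is a multiple of one operator
    have hprop : ∀ {v₁ v₂ v₃ : W F k} {c : F} {A : Module.End F (VI F (Oth i) k)},
        (∀ a b c : F, a • v₁ + b • v₂ + c • v₃ = 0 → a = 0) →
        (∀ z, f v₂ z = 0 → f v₃ z = 0 → ∀ w, f (X i u) z • RX w = (c * f v₁ z) • A w) →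
        ∃ s : F, c • A = s • RX := by
      intro v₁ v₂ v₃ c A hv hz
      obtain ⟨z, z2, z3, z1⟩ := probe hv
      refine ⟨f (X i u) z / f v₁ z, LinearMap.ext fun w => ?_⟩
      have h := hz z z2 z3 w
      rw [LinearMap.smul_apply, LinearMap.smul_apply, div_eq_mul_inv, mul_comm, ← smul_smul, h, smul_smul]
      congr 1
      field_simp
    obtain ⟨s₃, hs₃⟩ := hprop (v₁ := u) (v₂ := y u) (v₃ := y' u) (c := 1 - d * d) (A := 1)
      (fun a b c e => (hindep b c a (by rw [← e]; abel)).2.2)
      (fun z z2 z3 w => by rw [key, z2, z3, mul_zero, mul_zero, zero_smul, zero_smul, zero_add, zero_add]; rfl)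
    obtain ⟨s₁, hs₁⟩ := hprop (v₁ := y u) (v₂ := y' u) (v₃ := u) (c := (d * d + d) / 2) (A := R)
      (fun a b c e => (hindep a b c e).1)
      (fun z z2 z3 w => by rw [key, z2, z3, mul_zero, mul_zero, zero_smul, zero_smul, add_zero, add_zero])
    obtain ⟨s₂, hs₂⟩ := hprop (v₁ := y' u) (v₂ := y u) (v₃ := u) (c := (d * d - d) / 2) (A := R')
      (fun a b c e => (hindep b a c (by rw [← e]; abel)).2.1)
      (fun z z2 z3 w => by rw [key, z2, z3, mul_zero, mul_zero, zero_smul, zero_smul, zero_add, add_zero])
    have : Nonempty (Oth i → Fin k) := ⟨fun _ => ⟨0, by omega⟩⟩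
    have hγ : (1 - d * d : F) ≠ 0 := sub_ne_zero.2 fun e => hd e.symm
    have hs30 : s₃ ≠ 0 := fun e => by
      rw [e, zero_smul, smul_eq_zero] at hs₃
      exact hs₃.elim hγ one_ne_zero
    have hRX : RX = (s₃⁻¹ * (1 - d * d)) • 1 := by rw [← smul_smul, hs₃, inv_smul_smul₀ hs30]
    have hα : (d * d + d) / 2 = 0 := by
      by_contra hne
      refine hRscal (((d * d + d) / 2)⁻¹ * (s₁ * (s₃⁻¹ * (1 - d * d)))) ?_
      rw [← smul_smul, ← smul_smul s₁, ← hRX, ← hs₁, inv_smul_smul₀ hne]
    have hβ : (d * d - d) / 2 = 0 := by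
      by_contra hne
      have hR'e : R' = (((d * d - d) / 2)⁻¹ * (s₂ * (s₃⁻¹ * (1 - d * d)))) • 1 := by
        rw [← smul_smul, ← smul_smul s₂, ← hRX, ← hs₂, inv_smul_smul₀ hne]
      set c := ((d * d - d) / 2)⁻¹ * (s₂ * (s₃⁻¹ * (1 - d * d)))
      have h := hRR'
      rw [hR'e, smul_mul_assoc, one_mul] at h
      have hc : c ≠ 0 := fun e => by rw [e, zero_smul] at h; exact zero_ne_one h
      exact hRscal c⁻¹ (by rw [← h, inv_smul_smul₀ hc])
    rw [div_eq_zero_iff] at hα hβ
    have := hα.resolve_right hS.two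
    have := hβ.resolve_right hS.two
    have h20 : (2 : F) * d = 0 := by linear_combination hα.resolve_right hS.two - hβ.resolve_right hS.two
    exact hd0 ((mul_eq_zero.1 h20).resolve_left hS.two)
  · -- four or more coordinates: the fixed space
    have h4 : 4 ≤ k := by omega
    obtain ⟨n1, n2⟩ := ker_le_two hS ha hp3 (hN i) (hiso i) hNi h4
    set M := R' - 1
    have hM : M ^ p = 0 := by
      have : Nonempty (Oth i → Fin k) := ⟨fun _ => ⟨0, by omega⟩⟩
      have : CharP (Module.End F (VI F (Oth i) k)) p :=
        charP_of_injective_algebraMap (algebraMap F (Module.End F (VI F (Oth i) k))).injective p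
      have h := add_pow_char_of_commute p (Commute.one_left M)
      rw [add_sub_cancel, one_pow, ← pow_mul, mul_comm, pow_mul, hR, one_pow] at h
      exact add_left_cancel (a := (1 : Module.End F (VI F (Oth i) k))) (by rw [add_zero]; exact h.symm)
    have hM0 : M ≠ 0 := fun e => hR1 (by rw [← hRR', sub_eq_zero.1 e, one_mul])
    have hfix : LinearMap.ker T ≤ LinearMap.ker (op i (N i) - out i M) := by
      intro v hv
      have h1 : op i (1 + N i) (out i R v) = v := by
        have := LinearMap.congr_fun hY v
        rw [hsplit, Module.End.mul_apply, LinearMap.add_apply, LinearMap.mem_ker.1 hv, add_zero] at this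
        exact this
      have h2 : op i (1 + N i) v = out i R' v := by
        conv_rhs => rw [← h1]
        rw [← Module.End.mul_apply (out i R'), ← op_out, Module.End.mul_apply, ← Module.End.mul_apply (out i R'),
          out_mul, hRR', out_one, Module.End.one_apply]
      rw [LinearMap.mem_ker, LinearMap.sub_apply, out_sub, out_one, LinearMap.sub_apply, ← h2, op_add, op_one,
        LinearMap.add_apply, Module.End.one_apply, add_sub_cancel_left, sub_self]
    have hb := (Submodule.finrank_mono hfix).trans (fix_bound i (N i) M p hM)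
    have hsum := T.finrank_range_add_finrank_ker
    have hsumM := M.finrank_range_add_finrank_ker
    rw [Module.finrank_pi] at hsum hsumM
    have hRpos : 0 < Module.finrank F (LinearMap.range M) := by
      rw [Module.finrank_pos_iff_exists_ne_zero]
      obtain ⟨v, hv⟩ : ∃ v, M v ≠ 0 := by
        by_contra! h
        exact hM0 (LinearMap.ext h)
      exact ⟨⟨M v, LinearMap.mem_range_self M v⟩, fun e => hv (congrArg Subtype.val e)⟩
    have hcard : Fintype.card (ι → Fin k) = k * Fintype.card (Oth i → Fin k) := by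
      have h := Fintype.card_congr (Equiv.piSplitAt i fun _ => Fin k)
      rw [Fintype.card_prod, Fintype.card_fin] at h
      exact h
    rw [card_oth l i] at hr
    set K := Fintype.card (Oth i → Fin k)
    set n₁ := Module.finrank F (LinearMap.ker (N i))
    set n₂ := Module.finrank F (LinearMap.ker (N i) ⊓ LinearMap.range (N i) : Submodule F (W F k))
    set m₁ := Module.finrank F (LinearMap.ker M)
    set r₁ := Module.finrank F (LinearMap.range M)
    have e1 : n₁ * m₁ ≤ (k - 2) * m₁ := Nat.mul_le_mul_right _ n1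
    have e2 : n₂ * r₁ < (k - 2) * r₁ := Nat.mul_lt_mul_of_pos_right n2 hRpos
    have e3 : (k - 2) * m₁ + (k - 2) * r₁ = (k - 2) * K := by rw [← mul_add, add_comm, hsumM]
    have e4 : (k - 2) * K + 2 * K = k * K := by rw [← add_mul, Nat.sub_add_cancel (by omega)]
    omega

end Cfsg.Agent.OWreath
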