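import Cfsg.Agent.Lib.OWreathDiag
import Cfsg.Agent.Lib.OWreathConj
import Cfsg.Agent.Lib.OWreathExcessMid

/-!
Without excess the group induced on a ruler lies in the wreath group.
-/

set_option autoImplicit false
set_option linter.unusedSectionVars false

namespace Cfsg.Agent.OWreath

open Cfsg.Agent.OTensor (Sym Hyp nn sq1 sie proj0 nn_apply sq1_apply smul_right' sub_left' neg_left')

variable {F : Type*} [Field F] [Fintype F] {k : ℕ} {ι : Type} [Fintype ι] [DecidableEq ι] {f : W F k → W F k → F}

/-- The embedding of the operators at the other positions. -/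
def outH (l : ι) : GL (Oth l → Fin k) F →* GL (ι → Fin k) F := MonoidHom.mk' (outGL l) (outGL_mul l)

/-- The group induced by the elements commuting with the skew operators at the ruler. -/
def cenGrp (hf : Sym f) (M : Subgroup (GL (ι → Fin k) F)) (l : ι) (e : W F k) :
    Subgroup (GL (Oth l → Fin k) F) where
  carrier := {A | ∃ x ∈ M, Cen hf l e (lg x) ∧ ∀ u, lg x (emb l e u) = emb l e (lg A u)}
  one_mem' := ⟨1, M.one_mem, fun a _ => by simp, fun u => by simp⟩
  mul_mem' := by
    rintro A B ⟨x, hx, hxC, hxA⟩ ⟨y, hy, hyC, hyB⟩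
    refine ⟨x * y, M.mul_mem hx hy, by rw [map_mul]; exact Cen.mul hf hxC hyC, fun u => ?_⟩
    rw [map_mul, Module.End.mul_apply, hyB, hxA, map_mul, Module.End.mul_apply]
  inv_mem' := by
    rintro A ⟨x, hx, hxC, hxA⟩
    refine ⟨x⁻¹, M.inv_mem hx, Cen.inv hf hxC, fun u => ?_⟩
    apply (Function.LeftInverse.injective (lg_inv_apply x))
    rw [lg_apply_inv, hxA, lg_apply_inv]

variable (hS : Std f) {M : Subgroup (GL (ι → Fin k) F)} (hM : Ovr f M) (hN : NoExcess hS.sym M) {l : ι}
  {e e' : W F k} (H : Hyp f e e')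
include hS hM H

theorem cenGrp_ovr : Ovr f (cenGrp hS.sym M l e) where
  le := fun A ⟨_x, hx, hxC, hxA⟩ =>
    lead_iso hS.sym H (hM.le hx) (Cen.sq hS.sym H hS.two hS.hk hxC).symm hxA
  sq b hbN hbG := ⟨_, (hM.outGL_comap hS.sym l hbN hbG hbN hbG).1, by rw [lg_outGL]; exact cen_out hS.sym l e _,
    fun u => by rw [lg_outGL, out_emb]⟩
  der b hbN hbG c hcN hcG := ⟨_, (hM.outGL_comap hS.sym l hbN hbG hcN hcG).2,
    by rw [lg_outGL]; exact cen_out hS.sym l e _, fun u => by rw [lg_outGL, out_emb]⟩

include hN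

theorem cenGrp_conj {A B : GL (Oth l → Fin k) F} (hA : A ∈ leadGrp hS.sym M l e) (hB : B ∈ cenGrp hS.sym M l e) :
    A * B * A⁻¹ ∈ cenGrp hS.sym M l e := by
  have hf := hS.sym
  obtain ⟨x, hx, hxS, hxA⟩ := hA
  obtain ⟨z, hz, hzC, hzB⟩ := hB
  have hxS' : lg x⁻¹ * op l (sq1 hf e) = op l (sq1 hf e) * lg x⁻¹ := by
    calc lg x⁻¹ * op l (sq1 hf e) = lg x⁻¹ * (op l (sq1 hf e) * lg x) * lg x⁻¹ := by
            rw [mul_assoc (lg x⁻¹), mul_assoc (op l _), lg_mul_inv, mul_one]
        _ = op l (sq1 hf e) * lg x⁻¹ := by rw [← hxS, ← mul_assoc (lg x⁻¹), lg_conj_inv, one_mul]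
  refine ⟨x * z * x⁻¹, M.mul_mem (M.mul_mem hx hz) (M.inv_mem hx), fun a ha => ?_, fun u => ?_⟩
  · obtain ⟨b, hb, -, -, hxb⟩ := conj_nn hf hS hM hM hN ((isoV f).inv_mem (hM.le hx))
      (fun y hy => M.mul_mem (M.mul_mem (M.inv_mem hx) hy) (M.inv_mem (M.inv_mem hx))) H one_ne_zero
      (by rw [one_smul]; exact hxS') a ha
    have hxb' : op l (nn hf e a) * lg x = lg x * op l (nn hf e b) := by
      calc op l (nn hf e a) * lg x = lg x * (lg x⁻¹ * op l (nn hf e a)) * lg x := by
            rw [← mul_assoc (lg x), lg_mul_inv, one_mul]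
        _ = _ := by rw [hxb, mul_assoc, mul_assoc, lg_conj_inv, mul_one]
    rw [map_mul, map_mul, ← mul_assoc, ← mul_assoc, hxb', mul_assoc (lg x), hzC b hb, ← mul_assoc, mul_assoc _ _ (lg x⁻¹),
      ← hxb, ← mul_assoc]
  · rw [map_mul, map_mul, Module.End.mul_apply, Module.End.mul_apply]
    have e1 : lg x⁻¹ (emb l e u) = emb l e (lg A⁻¹ u) := by
      apply (Function.LeftInverse.injective (lg_inv_apply x))
      rw [lg_apply_inv, hxA, lg_apply_inv]
    rw [e1, hzB, hxA, map_mul, map_mul, Module.End.mul_apply, Module.End.mul_apply]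

/-- The diagonal element at the other positions lies in the overgroup. -/
theorem outGL_mem_of_diag {η : W F k} (h1 : f η e = 0) (h1' : f η e' = 0) (hη : f η η ≠ 0)
    {z : Fin k → W F k} (hz : OB f (f η η) z) {A : GL (Oth l → Fin k) F} (hA : A ∈ cenGrp hS.sym M l e)
    (hcomm : ∀ (r : Oth l) (i : Fin k), op r (rfl' hS.sym (z i)) * lg A = lg A * op r (rfl' hS.sym (z i))) :
    outGL l A ∈ M := by
  have hf := hS.sym
  have h2 := hS.two
  have hk := hS.hk
  obtain ⟨x, hx, hxC, hxA⟩ := hA
  have hAG : A ∈ isoV f := lead_iso hf H (hM.le hx) (Cen.sq hf H h2 hk hxC).symm hxA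
  obtain ⟨u₀, -, -, u3⟩ := OTensor.exists_aniso hf h2 hk H
  have hne : ∃ u : VI F (Oth l) k, bT f u u ≠ 0 :=
    ⟨pv fun _ => u₀, by rw [bT_pv hf]; exact Finset.prod_ne_zero_iff.2 fun _ _ => u3⟩
  set r := (outGL l A)⁻¹ * x with hr
  have hrlg : lg r = out l (lg A⁻¹) * lg x := by rw [hr, map_mul, outGL_inv, lg_outGL]
  have hrC : Cen hf l e (lg r) := by rw [hrlg]; exact Cen.mul hf (cen_out hf l e _) hxC
  have hrf : ∀ u, lg r (emb l e u) = emb l e u := fun u => by
    rw [hrlg, Module.End.mul_apply, hxA, out_emb, lg_inv_apply]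
  have hone := con_e_fix hf H h2 hk hrC hrf
  -- the middle is scalar
  have key : ∀ (d : GL (Fin k) F) (t s : F) (hd : d ∈ isoW f), opGL l d ∈ M → t ≠ 0 → lg d e = t • e →
      lg d e' = s • e' → (∀ a, f a e = 0 → f (lg d⁻¹ a) e = 0) → ∃ a, f a e = 0 ∧
      ∀ y, f y e = 0 → s • mid f l e' (lg r) y = mid f l e' (lg r) (lg d⁻¹ y) - (t⁻¹ * f a y) • 1 := by
    intro d t s hd hdM ht hde hde' hdy
    have hbC : ∀ {T : GL (ι → Fin k) F}, Cen hf l e (lg T) → Cen hf l e (lg (opGL l d * T * (opGL l d)⁻¹)) := by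
      intro T hT a ha
      have e1 : lg (opGL l d) * op l (nn hf e (lg d⁻¹ a)) = t • (op l (nn hf e a) * lg (opGL l d)) := by
        rw [lg_opGL, op_mul, op_mul, iso_nn hf hd, lg_apply_inv, hde, ← op_smul, ← smul_mul_assoc]
        congr 2
        exact LinearMap.ext fun u => by simp [nn_apply, smul_right' hf, smul_sub, smul_smul, mul_comm]
      have e2 : op l (nn hf e (lg d⁻¹ a)) * lg (opGL l d)⁻¹ = t • (lg (opGL l d)⁻¹ * op l (nn hf e a)) := by
        calc op l (nn hf e (lg d⁻¹ a)) * lg (opGL l d)⁻¹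
            = lg (opGL l d)⁻¹ * (lg (opGL l d) * op l (nn hf e (lg d⁻¹ a))) * lg (opGL l d)⁻¹ := by
              rw [← mul_assoc (lg (opGL l d)⁻¹), lg_conj_inv, one_mul]
          _ = _ := by rw [e1, mul_smul_comm, smul_mul_assoc, mul_assoc, mul_assoc, lg_mul_inv, mul_one]
      refine smul_right_injective _ ht ?_
      show t • (op l (nn hf e a) * lg (opGL l d * T * (opGL l d)⁻¹)) =
        t • (lg (opGL l d * T * (opGL l d)⁻¹) * op l (nn hf e a))
      rw [map_mul, map_mul, ← mul_assoc (op l _), ← mul_assoc (op l _), ← smul_mul_assoc, ← smul_mul_assoc, ← e1,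
        mul_assoc (lg (opGL l d)) _ (lg T), hT _ (hdy a ha), ← mul_assoc, mul_assoc (lg (opGL l d) * lg T), e2,
        mul_smul_comm, ← mul_assoc]
    set b := opGL l d with hb
    have hblg : lg b = op l (lg d) := lg_opGL l d
    clear_value b
    have hxb : x * b * x⁻¹ * b⁻¹ ∈ M := M.mul_mem (M.mul_mem (M.mul_mem hx hdM) (M.inv_mem hx)) (M.inv_mem hdM)
    have hC : Cen hf l e (lg (x * b * x⁻¹ * b⁻¹)) := by
      rw [show x * b * x⁻¹ * b⁻¹ = x * (b * x⁻¹ * b⁻¹) by group, map_mul]
      exact Cen.mul hf hxC (hbC (Cen.inv hf hxC))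
    have hdinv : lg d⁻¹ e = t⁻¹ • e := by
      have := congrArg (fun z => t⁻¹ • lg d⁻¹ z) hde
      simp only [lg_inv_apply, map_smul, smul_smul, inv_mul_cancel₀ ht, one_smul] at this
      exact this.symm
    have hfix : ∀ u, lg (x * b * x⁻¹ * b⁻¹) (emb l e u) = emb l e u := fun u => by
      have hx' : ∀ u, lg x⁻¹ (emb l e u) = emb l e (lg A⁻¹ u) := fun u => by
        apply (Function.LeftInverse.injective (lg_inv_apply x))
        rw [lg_apply_inv, hxA, lg_apply_inv]
      rw [map_mul, map_mul, map_mul, Module.End.mul_apply, Module.End.mul_apply, Module.End.mul_apply, hb,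
        opGL_inv, lg_opGL, lg_opGL, op_emb, hdinv, emb_smul, LinearMap.smul_apply, map_smul, hx', map_smul, op_emb,
        hde, emb_smul, LinearMap.smul_apply, smul_smul, inv_mul_cancel₀ ht, one_smul, hxA, lg_apply_inv]
    obtain ⟨a, ha, hza⟩ := hN l e e' H _ hxb hC hfix
    refine ⟨a, ha, fun y hy => LinearMap.ext fun u => ?_⟩
    have h1 : lg r * lg b = op l (sie hf e a) * (lg b * lg r) := by
      have h0 : lg x * lg b = op l (sie hf e a) * (lg b * lg x) := by
        rw [← hza, map_mul, map_mul, map_mul]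
        simp only [mul_assoc]
        rw [← mul_assoc (lg b⁻¹), lg_conj_inv, one_mul, lg_conj_inv, mul_one]
      rw [hrlg, mul_assoc, h0, ← mul_assoc, ← op_out, mul_assoc, ← mul_assoc (out l _) (lg b), hblg, ← op_out,
        mul_assoc]
    have h3 := congrArg (con f l y) (LinearMap.congr_fun h1 (emb l e' u))
    rw [Module.End.mul_apply, Module.End.mul_apply, Module.End.mul_apply, hblg, op_emb, hde', emb_smul,
      LinearMap.smul_apply, map_smul, map_smul, con_sie hf H.ee ha hy,
      con_op hf l y (lg d⁻¹ y) (lg d) (fun z => by rw [← hd z (lg d⁻¹ y), lg_apply_inv]),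
      con_op hf l e (t⁻¹ • e) (lg d) (fun z => by rw [← hd z (t⁻¹ • e), map_smul, hde, smul_smul,
        inv_mul_cancel₀ ht, one_smul]), con_smul hf, LinearMap.smul_apply, hone, smul_smul] at h3
    simp only [mid, LinearMap.smul_apply, LinearMap.sub_apply, Module.End.one_apply, LinearMap.comp_apply]
    rw [h3, mul_comm]
  have lin_add : ∀ a b, mid f l e' (lg r) (a + b) = mid f l e' (lg r) a + mid f l e' (lg r) b := fun a b => by
    simp only [mid, con_add hf, LinearMap.add_comp]
  have lin_smul : ∀ (c : F) a, mid f l e' (lg r) (c • a) = c • mid f l e' (lg r) a := fun c a => by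
    simp only [mid, con_smul hf, LinearMap.smul_comp]
  have hW0 : ∀ y, f y e = 0 → f y e' = 0 → f y y ≠ 0 → ∃ c : F, mid f l e' (lg r) y = c • 1 := by
    intro y y1 y2 y3
    by_cases hq : ∃ c : F, c ≠ 0 ∧ c * c ≠ 1
    · obtain ⟨c, hc, hcc⟩ := hq
      obtain ⟨d, hd, hde, hdy⟩ := exists_tor hf H hc
      have hde2 : lg (d * d) e = (c * c) • e := by
        rw [map_mul, Module.End.mul_apply, hde, map_smul, hde, smul_smul]
      have hdy2 : ∀ y, f y e = 0 → f y e' = 0 → lg (d * d) y = y := fun y y1 y2 => by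
        rw [map_mul, Module.End.mul_apply, hdy y y1 y2, hdy y y1 y2]
      have hd2 := (isoW f).mul_mem hd hd
      have hde2' : lg (d * d) e' = (c * c)⁻¹ • e' := by
        have := congrArg (fun z => (c * c)⁻¹ • lg (d * d) z)
          (iso_partner hf hd2 H h2 (mul_ne_zero hc hc) hde2 hdy2)
        simp only [lg_apply_inv, map_smul, smul_smul, inv_mul_cancel₀ (mul_ne_zero hc hc), one_smul] at this
        exact this.symm
      obtain ⟨a, -, h⟩ := key (d * d) (c * c) (c * c)⁻¹ hd2 (hM.opGL_sq hf l hd) (mul_ne_zero hc hc) hde2 hde2'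
        (fun a ha => by
          have h := (isoW f).inv_mem hd2 a ((c * c) • e)
          rw [← hde2, lg_inv_apply, hde2, smul_right' hf, ha, mul_zero] at h
          exact h)
      have h' := h y y1
      rw [show lg (d * d)⁻¹ y = y by conv_lhs => rw [← hdy2 y y1 y2, lg_inv_apply]] at h'
      set s := (c * c)⁻¹ with hs
      have hs1 : s - 1 ≠ 0 := sub_ne_zero.2 fun h => hcc (by rwa [hs, inv_eq_one] at h)
      refine ⟨-((s - 1)⁻¹ * (s * f a y)), ?_⟩
      have e0 : (s - 1) • mid f l e' (lg r) y = -(s * f a y) • 1 := by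
        calc (s - 1) • mid f l e' (lg r) y = s • mid f l e' (lg r) y - mid f l e' (lg r) y := by module
          _ = _ := by rw [h']; module
      calc mid f l e' (lg r) y = (s - 1)⁻¹ • ((s - 1) • mid f l e' (lg r) y) := by rw [inv_smul_smul₀ hs1]
        _ = _ := by rw [e0, smul_smul, mul_neg]
    · push Not at hq
      have h4 : 4 ≤ k := hS.hbig.resolve_right fun ⟨t, ht, htt⟩ => htt (hq t ht)
      obtain ⟨w, w1, w2, w3, w4, w5⟩ := exists_perp_vec hf hS h4 H y1 y2 y3
      have hww : f w w = f y y := by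
        rcases w5 with w5 | w5
        · exact w5
        · by_contra hne
          have one_or : ∀ t : F, t ≠ 0 → t = 1 ∨ t = -1 := fun t ht => by
            rcases mul_eq_zero.1 (show (t - 1) * (t + 1) = 0 by linear_combination hq t ht) with h | h
            · exact Or.inl (sub_eq_zero.1 h)
            · exact Or.inr (eq_neg_of_add_eq_zero_left h)
          have hs : f (y + w) (y + w) = 0 := by
            simp only [hf.add_left, hf.add_right, w3, OTensor.symm hf y w]
            rcases one_or _ w4 with h | h <;> rcases one_or _ y3 with h' | h' <;> rw [h, h'] at hne ⊢ <;>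
              simp at hne ⊢
          have h5 : k ≤ 4 := by
            by_contra h5
            obtain ⟨v, v0, hv⟩ := OTensor.exists_perp_ne hf (show 4 < k by omega) ![e, e', y, w]
            exact v0 (w5 v (hv 0) (hv 1) (hv 2) (hv 3))
          rcases hS.sane with hs' | hs'
          · omega
          obtain ⟨c, hc⟩ := hs' e (y + w) (H.ne hf) H.ee hs
            (by rw [OTensor.symm hf, hf.add_left, y1, w1, add_zero])
          have := congrArg (fun z => f z y) hc
          simp only [hf.add_left, w3, add_zero, hf.smul_left, OTensor.symm hf e y, y1, mul_zero] at this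
          exact y3 this
      have hd0 : f (y - w) (y - w) ≠ 0 := by
        simp only [sub_left' hf, hf.sub_right, w3, OTensor.symm hf y w, hww]
        intro h
        exact y3 ((mul_eq_zero.1 (show (2 : F) * f y y = 0 by linear_combination h)).resolve_left h2)
      have p1 : f e y = 0 := by rw [OTensor.symm hf, y1]
      have p2 : f e w = 0 := by rw [OTensor.symm hf, w1]
      have p1' : f e' y = 0 := by rw [OTensor.symm hf, y2]
      have p2' : f e' w = 0 := by rw [OTensor.symm hf, w2]
      set g := reflW hf hd0 * reflW hf y3 with hg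
      have hgG : g ∈ isoW f := (isoW f).mul_mem (reflW_iso hf hd0) (reflW_iso hf y3)
      have gfix : ∀ z, f z y = 0 → f z w = 0 → lg g z = z := fun z a b => by
        rw [hg, map_mul, Module.End.mul_apply, lg_reflW, lg_reflW, rfl'_perp hf a,
          rfl'_perp hf (by rw [hf.sub_right, a, b, sub_zero])]
      have gy : lg g y = -w := by
        rw [hg, map_mul, Module.End.mul_apply, lg_reflW, lg_reflW, rfl'_self hf y3, map_neg, rfl',
          LinearMap.sub_apply, Module.End.one_apply, LinearMap.smul_apply, sq1_apply, smul_smul,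
          show 2 * (f (y - w) (y - w))⁻¹ * f y (y - w) = 1 by
            field_simp
            simp only [sub_left' hf, hf.sub_right, w3, OTensor.symm hf y w, hww]
            ring, one_smul, sub_sub_cancel]
      have gw : lg g w = y := by
        rw [hg, map_mul, Module.End.mul_apply, lg_reflW, lg_reflW, rfl'_perp hf w3, rfl',
          LinearMap.sub_apply, Module.End.one_apply, LinearMap.smul_apply, sq1_apply, smul_smul,
          show 2 * (f (y - w) (y - w))⁻¹ * f w (y - w) = -1 by
            field_simp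
            simp only [sub_left' hf, hf.sub_right, w3, OTensor.symm hf y w, hww]
            ring, neg_one_smul, sub_neg_eq_add, add_sub_cancel]
      have e1 : lg (g * g) e = e := by rw [map_mul, Module.End.mul_apply, gfix e p1 p2, gfix e p1 p2]
      have e2 : lg (g * g) e' = e' := by rw [map_mul, Module.End.mul_apply, gfix e' p1' p2', gfix e' p1' p2']
      have e3 : lg (g * g)⁻¹ y = -y := by
        have h : lg (g * g) (-y) = y := by
          rw [map_mul, Module.End.mul_apply, map_neg, gy, neg_neg, gw]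
        conv_lhs => rw [← h, lg_inv_apply]
      obtain ⟨a, -, h⟩ := key (g * g) 1 1 ((isoW f).mul_mem hgG hgG) (hM.opGL_sq hf l hgG) one_ne_zero
        (by rw [e1, one_smul]) (by rw [e2, one_smul]) (fun a ha => by
          have h := (isoW f).inv_mem ((isoW f).mul_mem hgG hgG) a e
          rw [← e1, lg_inv_apply, e1, ha] at h
          exact h)
      have h' := h y y1
      rw [e3, one_smul, ← neg_one_smul F y, lin_smul, inv_one, one_mul] at h'
      refine ⟨-((2 : F)⁻¹ * f a y), ?_⟩
      have e0 : (2 : F) • mid f l e' (lg r) y = -(f a y) • 1 := by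
        rw [two_smul]; nth_rw 2 [h']; module
      calc mid f l e' (lg r) y = (2 : F)⁻¹ • ((2 : F) • mid f l e' (lg r) y) := by rw [inv_smul_smul₀ h2]
        _ = _ := by rw [e0, smul_smul, mul_neg]
  have hmid : ∀ y, f y e = 0 → ∃ c : F, mid f l e' (lg r) y = c • 1 := by
    intro y hy
    obtain ⟨y1, y2⟩ := OTensor.proj0_perp hf H y
    obtain ⟨u, u1, u2, u3'⟩ := OTensor.exists_aniso hf h2 hk H
    obtain ⟨c₀, hc₀⟩ : ∃ c : F, mid f l e' (lg r) (proj0 f e e' y) = c • 1 := by
      set z := proj0 f e e' y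
      by_cases hz : f z z = 0
      · obtain ⟨v, v1, v2, v3, v4⟩ : ∃ v, f v e = 0 ∧ f v e' = 0 ∧ f v v ≠ 0 ∧ f (z + v) (z + v) ≠ 0 := by
          by_cases hh : f (z + u) (z + u) = 0
          · refine ⟨-u, by rw [neg_left' hf, u1, neg_zero], by rw [neg_left' hf, u2, neg_zero],
              by simpa [neg_left' hf, hf.neg_right] using u3', fun hh' => u3' ?_⟩
            simp only [hf.add_left, hf.add_right, neg_left' hf, hf.neg_right, hz] at hh hh'
            exact (mul_eq_zero.1 (show (2 : F) * f u u = 0 by linear_combination hh + hh')).resolve_left h2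
          · exact ⟨u, u1, u2, u3', hh⟩
        obtain ⟨a, ha⟩ := hW0 (z + v) (by rw [hf.add_left, y1, v1, add_zero]) (by rw [hf.add_left, y2, v2, add_zero]) v4
        obtain ⟨b, hb⟩ := hW0 v v1 v2 v3
        refine ⟨a - b, ?_⟩
        rw [lin_add, hb, ← eq_sub_iff_add_eq] at ha
        rw [ha]
        module
      · exact hW0 z y1 y2 hz
    refine ⟨f y e' + c₀, ?_⟩
    have me : mid f l e' (lg r) e = 1 := LinearMap.ext fun u => hone u
    conv_lhs => rw [OTensor.decomp hf e e' y, hy, zero_smul, add_zero]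
    rw [lin_add, lin_smul, me, hc₀, add_smul]
  obtain ⟨a, Z, a1, hshape, -, -, -⟩ := shape_of_mid hf hS H hne hrC hrf hmid
  set x' := opGL l (sieW hf h2 H.ee a1) * x with hx'
  have hx'M : x' ∈ M := M.mul_mem (hM.sie_mem hf h2 l H.ee a1) hx
  set S := op l (sq1 hf e) with hSdef
  have hSS : S * S = 0 := by rw [hSdef, op_mul, sq_mul_sq hf H.ee, op_zero]
  have hSout : ∀ X : Module.End F (VI F (Oth l) k), S * out l X = out l X * S := fun X => by rw [hSdef, op_out]
  set T := 1 + S * out l Z with hT
  have hx'lg : lg x' = out l (lg A) * T := by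
    rw [← hshape, hrlg, hx', map_mul, lg_opGL, lg_sieW, ← mul_assoc (op l _) (out l (lg A⁻¹)), op_out,
      mul_assoc (out l (lg A⁻¹)), ← mul_assoc (out l (lg A)), out_mul, lg_mul_inv, out_one, one_mul]
  have hTT : ∀ X X' : Module.End F (VI F (Oth l) k), S * out l X * (S * out l X') = 0 := fun X X' => by
    rw [mul_assoc, ← mul_assoc (out l X), ← hSout, mul_assoc S, ← mul_assoc S, hSS, zero_mul]
  have hTiso : ∀ u w, bT f (T u) (T w) = bT f u w := fun u w => by
    have h1 := outGL_iso (l := l) hf hAG (T u) (T w)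
    rw [lg_outGL, ← Module.End.mul_apply, ← Module.End.mul_apply, ← hx'lg, hM.le hx'M] at h1
    exact h1.symm
  have he'e : f e' e = 1 := by rw [OTensor.symm hf, H.one]
  have hSe : ∀ u, S (emb l e' u) = emb l e u := fun u => by rw [hSdef, op_emb, sq1_apply, he'e, one_smul]
  have hZskew : ∀ u w, bT f (Z u) w = -bT f u (Z w) := fun u w => by
    have h := hTiso (emb l e' u) (emb l e' w)
    simp only [hT, LinearMap.add_apply, Module.End.one_apply, Module.End.mul_apply, out_emb, hSe, map_add,
      LinearMap.add_apply, bT_emb hf, H.ee, H.ee', H.one, he'e] at h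
    linear_combination h
  -- the flips kill the central part
  have hflip : ∀ (p : Oth l) (i : Fin k), i.val + 1 < k →
      op p (rfl' hf (z i)) * Z * op p (rfl' hf (z i)) = Z := by
    intro p i hi
    have hzi : f (z i) (z i) ≠ 0 := hz.ne i
    set b := opGL l (reflW hf hη) * opGL p.1 (reflW hf hzi) with hb
    have hbM : b ∈ M := hM.flip_mem' hf h2 p.2.symm hη hzi (hz.norm i hi).symm
    set R := op p (rfl' hf (z i)) with hR
    set P := op l (rfl' hf η) with hP
    have hblg : lg b = P * out l R := by rw [hb, map_mul, lg_opGL, lg_opGL, lg_reflW, lg_reflW, hR, out_op]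
    have hbinv : b⁻¹ = b := by
      have hc : opGL p.1 (reflW hf hzi) * opGL l (reflW hf hη) = opGL l (reflW hf hη) * opGL p.1 (reflW hf hzi) :=
        lg_injective (by rw [map_mul, map_mul, lg_opGL, lg_opGL, op_comm p.2])
      rw [hb, mul_inv_rev, opGL_inv, opGL_inv, reflW_inv, reflW_inv, hc]
    have hPS : P * S = S * P := by
      rw [hP, hSdef, op_mul, op_mul]
      congr 1
      refine LinearMap.ext fun v => ?_
      simp only [Module.End.mul_apply, rfl', LinearMap.sub_apply, Module.End.one_apply, LinearMap.smul_apply,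
        sq1_apply, sub_left' hf, hf.smul_left, h1, OTensor.symm hf e η]
      module
    have hRA : R * lg A = lg A * R := hcomm p i
    set T' := 1 - S * out l (R * Z * R) with hT'
    have hbTb : lg b * (1 - S * out l Z) * lg b = T' := by
      have hbb : lg b * lg b = 1 := by rw [← map_mul]; nth_rw 2 [← hbinv]; rw [mul_inv_cancel, map_one]
      rw [mul_sub, sub_mul, mul_one, hbb, hT']
      congr 1
      rw [hblg]
      have hPP : P * P = 1 := by rw [hP, op_mul, rfl'_sq hf hη, op_one]
      calc P * out l R * (S * out l Z) * (P * out l R)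
          = P * (out l R * S) * (out l Z * P) * out l R := by simp only [mul_assoc]
        _ = P * (S * out l R) * (P * out l Z) * out l R := by rw [← hSout, ← (show P * out l Z = out l Z * P by rw [hP, op_out])]
        _ = (P * S) * (out l R * P) * (out l Z * out l R) := by simp only [mul_assoc]
        _ = S * (P * P) * (out l R * (out l Z * out l R)) := by
          rw [hPS, show out l R * P = P * out l R by rw [hP, op_out]]; simp only [mul_assoc]
        _ = _ := by rw [hPP, mul_one, out_mul, out_mul, mul_assoc R]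
    have hTinv : lg x'⁻¹ = (1 - S * out l Z) * out l (lg A⁻¹) := by
      calc lg x'⁻¹ = lg x'⁻¹ * (out l (lg A) * T * ((1 - S * out l Z) * out l (lg A⁻¹))) := by
            rw [mul_assoc (out l (lg A)), ← mul_assoc T, hT, add_mul, one_mul, mul_sub, mul_one, hTT, sub_zero,
              sub_add_cancel, one_mul, out_mul, lg_mul_inv, out_one, mul_one]
        _ = _ := by rw [← mul_assoc, ← hx'lg, lg_conj_inv, one_mul]
    have hbA : lg b * out l (lg A⁻¹) = out l (lg A⁻¹) * lg b := by
      have hRA' : R * lg A⁻¹ = lg A⁻¹ * R := by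
        calc R * lg A⁻¹ = lg A⁻¹ * (lg A * R) * lg A⁻¹ := by rw [← mul_assoc (lg A⁻¹), lg_conj_inv, one_mul]
          _ = _ := by rw [← hRA, mul_assoc, mul_assoc, lg_mul_inv, mul_one]
      rw [hblg, mul_assoc, out_mul, hRA', ← out_mul, ← mul_assoc, hP, op_out, mul_assoc]
    set c := x' * b * x'⁻¹ * b⁻¹ with hc
    have hclg : lg c = 1 + S * out l (lg A * (Z - R * Z * R) * lg A⁻¹) := by
      rw [hc, map_mul, map_mul, map_mul, hbinv, hTinv, hx'lg]
      calc out l (lg A) * T * lg b * ((1 - S * out l Z) * out l (lg A⁻¹)) * lg b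
          = out l (lg A) * T * (lg b * (1 - S * out l Z)) * (out l (lg A⁻¹) * lg b) := by simp only [mul_assoc]
        _ = out l (lg A) * T * (lg b * (1 - S * out l Z) * lg b) * out l (lg A⁻¹) := by
          rw [← hbA]; simp only [mul_assoc]
        _ = out l (lg A) * (1 + S * out l (Z - R * Z * R)) * out l (lg A⁻¹) := by
          rw [hbTb, hT, hT', mul_assoc (out l (lg A))]
          congr 2
          rw [add_mul, one_mul, mul_sub, mul_one, hTT, sub_zero, out_sub, mul_sub]
          abel
        _ = _ := by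
          rw [mul_add, add_mul, mul_one, out_mul, lg_mul_inv, out_one, ← mul_assoc (out l _), ← hSout, mul_assoc,
            mul_assoc, out_mul, out_mul, ← mul_assoc (lg A)]
    have hcM : c ∈ M := M.mul_mem (M.mul_mem (M.mul_mem hx'M hbM) (M.inv_mem hx'M)) (M.inv_mem hbM)
    set Y := lg A * (Z - R * Z * R) * lg A⁻¹ with hY
    have hcC : Cen hf l e (lg c) := by
      rw [hclg, hSdef]
      exact (show Cen hf l e 1 from fun b _ => by rw [mul_one, one_mul]).add hf
        (cen_mix hf _ _ fun b hb => by rw [nn_mul_sq hf H.ee hb, sq_mul_nn hf H.ee hb])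
    have hcf : ∀ u, lg c (emb l e u) = emb l e u := fun u => by
      rw [hclg, LinearMap.add_apply, Module.End.one_apply, Module.End.mul_apply, out_emb, hSdef, op_emb, sq1_apply,
        H.ee, zero_smul, emb_zero, LinearMap.zero_apply, add_zero]
    obtain ⟨a', ha', hca⟩ := hN l e e' H c hcM hcC hcf
    have h0 : lg c = 1 := by
      rw [hca]
      obtain ⟨u₀', hu₀'⟩ := hne
      refine sie_central hf H ha' ⟨u₀', fun h => hu₀' (by rw [h, map_zero])⟩ fun v hv => ?_
      rw [← hca, hclg, add_sub_cancel_left, hSout, Module.End.mul_apply, hv, map_zero]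
    rw [hclg, add_eq_left] at h0
    have hY0 : Y = 0 := LinearMap.ext fun u => emb_injective l (H.ne hf) (by
      have := LinearMap.congr_fun h0 (emb l e' u)
      rw [Module.End.mul_apply, out_emb, hSe, LinearMap.zero_apply] at this
      rw [this, LinearMap.zero_apply, map_zero])
    have : Z - R * Z * R = 0 := by
      calc Z - R * Z * R = lg A⁻¹ * Y * lg A := by
            rw [hY, mul_assoc (lg A⁻¹), mul_assoc (lg A * _), lg_conj_inv, mul_one, ← mul_assoc, lg_conj_inv, one_mul]
        _ = 0 := by rw [hY0, mul_zero, zero_mul]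
    exact (sub_eq_zero.1 this).symm
  have hZ0 : Z = 0 := by
    classical
    refine OB.ext_pv' hf hz fun c => ?_
    rw [LinearMap.zero_apply]
    refine bT_nd hf _ fun w => ?_
    have key : bT f (Z (pv fun i => z (c i))) = 0 := OB.ext_pv' hf hz fun c' => by
      rw [LinearMap.zero_apply]
      by_cases hcc : c = c'
      · subst hcc
        have h := hZskew (pv fun i => z (c i)) (pv fun i => z (c i))
        rw [bT_symm hf (pv _) (Z _)] at h
        exact (mul_eq_zero.1 (show (2 : F) * bT f (Z (pv fun i => z (c i))) (pv fun i => z (c i)) = 0 by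
          linear_combination h)).resolve_left h2
      · obtain ⟨p, hp⟩ := Function.ne_iff.1 hcc
        have sym : ∀ i : Fin k, i.val + 1 < k → ∀ c c' : Oth l → Fin k, c p = i → c' p ≠ i →
            bT f (Z (pv fun i => z (c i))) (pv fun i => z (c' i)) = 0 := by
          intro i hi c c' hc hc'
          have h := congrArg (fun T => bT f (T (pv fun i => z (c i))) (pv fun i => z (c' i))) (hflip p i hi)
          have hfix : ∀ d : Oth l → Fin k, d p ≠ i →
              op p (rfl' hf (z i)) (pv fun j => z (d j)) = pv fun j => z (d j) := fun d hd => by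
            rw [op_pv, rfl'_perp hf (hz.orth _ _ hd), Function.update_eq_self p fun j => z (d j)]
          have hflip' : op p (rfl' hf (z i)) (pv fun j => z (c j)) = -(pv fun j => z (c j)) := by
            rw [op_pv, hc, rfl'_self hf (hz.ne i), ← neg_one_smul F (z i), pv_update_smul, ← hc,
              Function.update_eq_self p fun j => z (c j), neg_one_smul]
          have hadj : ∀ s t, bT f (op p (rfl' hf (z i)) s) t = bT f s (op p (rfl' hf (z i)) t) := fun s t => by
            have hiso := opGL_iso (ι := Oth l) hf p (reflW_iso hf (hz.ne i))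
            have := hiso s (op p (rfl' hf (z i)) t)
            rw [lg_opGL, lg_reflW, ← Module.End.mul_apply (op p (rfl' hf (z i))) _ t, op_mul,
              rfl'_sq hf (hz.ne i), op_one, Module.End.one_apply] at this
            exact this
          simp only [Module.End.mul_apply, hflip', map_neg, hadj, hfix c' hc', LinearMap.neg_apply] at h
          exact (mul_eq_zero.1 (show (2 : F) * bT f (Z (pv fun i => z (c i))) (pv fun i => z (c' i)) = 0 by
            linear_combination -h)).resolve_left h2
        by_cases hi : (c p).val + 1 < k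
        · exact sym (c p) hi c c' rfl (Ne.symm hp)
        · have hi' : (c' p).val + 1 < k := by
            have := (c p).isLt
            have := (c' p).isLt
            have := Fin.val_ne_of_ne hp
            omega
          rw [bT_symm hf, eq_comm, ← neg_eq_iff_eq_neg.2 (hZskew _ _), eq_comm, neg_eq_zero]
          exact sym (c' p) hi' c' c rfl hp
    rw [key, LinearMap.zero_apply]
  have : x' = outGL l A := lg_injective (by
    rw [hx'lg, hT, hZ0, out_zero, mul_zero, add_zero, mul_one, lg_outGL])
  rw [← this]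
  exact hx'M

omit hN in
theorem comap_out_ovr : Ovr f (M.comap (outH (F := F) (k := k) l)) where
  le := fun B hB u w => by
    have hf := hS.sym
    obtain ⟨η, -, -, hη⟩ := OTensor.exists_aniso hf hS.two hS.hk H
    have h := hM.le (Subgroup.mem_comap.1 hB) (emb l η u) (emb l η w)
    rw [show lg (outH l B) = out l (lg B) from lg_outGL l B, out_emb, out_emb, bT_emb hf, bT_emb hf] at h
    exact mul_left_cancel₀ hη h
  sq b hbN hbG := (hM.outGL_comap hS.sym l hbN hbG hbN hbG).1
  der b hbN hbG c hcN hcG := (hM.outGL_comap hS.sym l hbN hbG hcN hcG).2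

/-- The induced group lies in the wreath group. -/
theorem lead_le {p q : Oth l} (hpq : p ≠ q)
    (hQ : ∀ M₁ : Subgroup (GL (Oth l → Fin k) F), Ovr f M₁ → M₁ ≤ Nst F k (Oth l) ∨ omV f ≤ M₁)
    (hnorm : ∀ A : GL (Oth l → Fin k) F, IsSim f A → (∀ T ∈ soS hS.sym, lg A * T * lg A⁻¹ ∈ soS hS.sym) →
      A ∈ Nst F k (Oth l)) :
    leadGrp hS.sym M l e ≤ Nst F k (Oth l) := by
  classical
  have hf := hS.sym
  have h2 := hS.two
  obtain ⟨η, h1, h1', hη⟩ := OTensor.exists_aniso hf h2 hS.hk H
  obtain ⟨z, hz⟩ := exists_OB hf h2 (by have := hS.hk; omega) hη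
  obtain ⟨A₀, hA₀, hA₀N, hcomm⟩ := exists_diag (ι := Oth l) hf h2 hS.hk hpq hη hz
  refine (hQ _ (leadGrp_ovr hf hM H)).resolve_right fun hbig => ?_
  rcases hQ _ (cenGrp_ovr hS hM H) with hsmall | hbig'
  · refine hA₀N (mem_Nst_of_conj_sie hS (isSim_of_iso ((leadGrp_ovr hf hM H).le (hbig hA₀))) (hnorm _)
      fun r d d' G a ha _ => hsmall ?_)
    exact cenGrp_conj hS hM hN H (hbig hA₀) ((cenGrp_ovr hS hM H).sie_mem hf h2 r G.ee ha)
  · have hA₀M := outGL_mem_of_diag hS hM hN H h1 h1' hη hz (hbig' hA₀) hcomm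
    have hbig2 : omV f ≤ M.comap (outH l) := by
      refine (hQ _ (comap_out_ovr hS hM H)).resolve_left fun h => hA₀N (h ?_)
      exact hA₀M
    let z₀ : Fin k := ⟨0, by have := hS.hk; omega⟩
    let z₁ : Fin k := ⟨1, by have := hS.hk; omega⟩
    have h01 : z₀ ≠ z₁ := fun h => by simpa [z₀, z₁] using congrArg Fin.val h
    obtain ⟨B, hB, hBlg⟩ := exists_unip (ι := Oth l) hf h2 hpq (e := e) H.ee (hz.ne z₀) (hz.orth _ _ h01.symm)
    have hgM : outGL l B ∈ M := hbig2 hB
    have hglg : lg (outGL l B) = 1 + op q.1 (sq1 hf e) * op p.1 (nn hf (z z₀) (z z₁)) := by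
      rw [lg_outGL, hBlg, out_add, out_one, ← out_mul, out_op, out_op]
    have hpq' : p.1 ≠ q.1 := fun h => hpq (Subtype.ext h)
    set N := nn hf (z z₀) (z z₁)
    have hC : Cen hf q.1 e (lg (outGL l B)) := by
      rw [hglg, ← out_op q.1 ⟨p.1, hpq'⟩]
      exact (show Cen hf q.1 e 1 from fun b _ => by rw [mul_one, one_mul]).add hf
        (cen_mix hf _ _ fun b hb => by rw [nn_mul_sq hf H.ee hb, sq_mul_nn hf H.ee hb])
    have hfix : ∀ u, lg (outGL l B) (emb q.1 e u) = emb q.1 e u := fun u => by
      rw [hglg, LinearMap.add_apply, Module.End.one_apply, ← op_comm hpq', Module.End.mul_apply, op_emb, sq1_apply,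
        H.ee, zero_smul, emb_zero, LinearMap.zero_apply, map_zero, add_zero]
    obtain ⟨a, ha, hga⟩ := hN q.1 e e' H _ hgM hC hfix
    have hne : ∃ u : VI F (Oth q.1) k, u ≠ 0 :=
      ⟨pv fun _ => η, pv_ne_zero fun _ h => hη (by rw [h, hf.zero_left])⟩
    have hone : lg (outGL l B) = 1 := by
      rw [hga]
      refine sie_central hf H ha hne fun v hv => ?_
      rw [← hga, hglg, add_sub_cancel_left, ← op_comm hpq', Module.End.mul_apply, hv, map_zero]
    rw [hglg, add_eq_left] at hone
    let x : ι → W F k := Function.update (fun _ => e') p.1 (z z₁)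
    have h := LinearMap.congr_fun hone (pv x)
    rw [Module.End.mul_apply, op_pv, op_pv, LinearMap.zero_apply] at h
    refine pv_ne_zero (fun r => ?_) h
    have he' : f e' e = 1 := by rw [OTensor.symm hf, H.one]
    by_cases hr : r = q.1
    · subst hr
      rw [Function.update_self, Function.update_of_ne hpq'.symm, sq1_apply]
      simp only [x, Function.update_of_ne hpq'.symm, he', one_smul]
      exact H.ne hf
    · rw [Function.update_of_ne hr]
      by_cases hr' : r = p.1
      · subst hr'
        simp only [x, Function.update_self, N, nn_apply, hz.orth _ _ h01.symm, zero_smul, sub_zero]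
        exact smul_ne_zero (hz.ne z₁) fun h => hz.ne z₀ (by rw [h, hf.zero_left])
      · simp only [Function.update_of_ne hr', x]
        intro h
        exact one_ne_zero (α := F) (by rw [← H.one, h, hf.zero_right])

end Cfsg.Agent.OWreath
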