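import Cfsg.Agent.Lib.OWreathSplit

/-!
The operators at one position attached to a singular vector, overgroups, and the radical at a ruler.
-/

set_option autoImplicit false
set_option linter.unusedSectionVars false

namespace Cfsg.Agent.OWreath

open Cfsg.Agent.OTensor (Sym Hyp nn sq1 sie proj0 nn_apply sq1_apply smul_right' neg_left' sub_left')

variable {F : Type*} [Field F] {k : ℕ} {f : W F k → W F k → F}

/-- The standing hypotheses on the one-factor form. -/
structure Std (f : W F k → W F k → F) : Prop where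
  sym : Sym f
  two : (2 : F) ≠ 0
  hk : 3 ≤ k
  sane : OTensor.Sane f
  hbig : 4 ≤ k ∨ ∃ t : F, t ≠ 0 ∧ t * t ≠ 1

/-- The isometries of one factor. -/
def isoW (f : W F k → W F k → F) : Subgroup (GL (Fin k) F) where
  carrier := {g | ∀ u w, f (lg g u) (lg g w) = f u w}
  one_mem' u w := by simp
  mul_mem' {a b} ha hb u w := by rw [map_mul, Module.End.mul_apply, Module.End.mul_apply, ha, hb]
  inv_mem' {a} ha u w := by rw [← ha, lg_apply_inv, lg_apply_inv]

section One

variable (hf : Sym f)
include hf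

theorem nn_mul_nn {e a b : W F k} (he : f e e = 0) (ha : f a e = 0) (hb : f b e = 0) :
    nn hf e a * nn hf e b = -(f a b) • sq1 hf e := by
  refine LinearMap.ext fun u => ?_
  simp only [Module.End.mul_apply, nn_apply, LinearMap.smul_apply, sq1_apply, sub_left' hf, hf.smul_left, he, hb,
    OTensor.symm hf e a, ha, OTensor.symm hf b a, smul_smul]
  module

theorem nn_mul_sq {e a : W F k} (he : f e e = 0) (ha : f a e = 0) : nn hf e a * sq1 hf e = 0 :=
  LinearMap.ext fun u => by
    simp [Module.End.mul_apply, nn_apply, sq1_apply, hf.smul_left, he, OTensor.symm hf e a, ha]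

theorem sq_mul_nn {e a : W F k} (he : f e e = 0) (ha : f a e = 0) : sq1 hf e * nn hf e a = 0 :=
  LinearMap.ext fun u => by
    simp [Module.End.mul_apply, nn_apply, sq1_apply, sub_left' hf, hf.smul_left, he, ha]

theorem sq_mul_sq {e : W F k} (he : f e e = 0) : sq1 hf e * sq1 hf e = 0 :=
  LinearMap.ext fun u => by simp [Module.End.mul_apply, sq1_apply, hf.smul_left, he]

theorem sie_eq {e a : W F k} (he : f e e = 0) (ha : f a e = 0) :
    sie hf e a = 1 + nn hf e a + (-(2 : F)⁻¹ * f a a) • sq1 hf e := by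
  rw [sie, nn_mul_nn hf he ha ha, smul_smul]
  congr 2
  ring

theorem nn_add (e a b : W F k) : nn hf e (a + b) = nn hf e a + nn hf e b :=
  LinearMap.ext fun u => by simp [nn_apply, hf.add_right]; module

theorem nn_smul (e : W F k) (c : F) (a : W F k) : nn hf e (c • a) = c • nn hf e a :=
  LinearMap.ext fun u => by simp [nn_apply, smul_right' hf]; module

theorem nn_self (e : W F k) : nn hf e e = 0 := LinearMap.ext fun u => by simp [nn_apply]

/-- The linear map of skew operators at a singular vector. -/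
def nnL (e : W F k) : W F k →ₗ[F] Module.End F (W F k) where
  toFun := nn hf e
  map_add' := nn_add hf e
  map_smul' := nn_smul hf e

theorem nn_proj {e e' : W F k} (a : W F k) :
    nn hf e (proj0 f e e' a) = nn hf e a - f a e • nn hf e e' := by
  refine LinearMap.ext fun u => ?_
  simp [proj0, nn_apply, hf.sub_right, smul_right' hf]
  module

theorem commute_nn {e a b : W F k} (he : f e e = 0) (ha : f a e = 0) (hb : f b e = 0) :
    nn hf e a * nn hf e b = nn hf e b * nn hf e a := by
  rw [nn_mul_nn hf he ha hb, nn_mul_nn hf he hb ha, OTensor.symm hf a b]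

/-- The Siegel transformation as a matrix. -/
noncomputable def sieW (h2 : (2 : F) ≠ 0) {e a : W F k} (he : f e e = 0) (ha : f a e = 0) : GL (Fin k) F :=
  OTensor.sieGL hf h2 he ha

theorem lg_sieW (h2 : (2 : F) ≠ 0) {e a : W F k} (he : f e e = 0) (ha : f a e = 0) :
    lg (sieW hf h2 he ha) = sie hf e a := OTensor.lin_sieGL hf h2 he ha

theorem lg_sieW_inv (h2 : (2 : F) ≠ 0) {e a : W F k} (he : f e e = 0) (ha : f a e = 0) :
    lg (sieW hf h2 he ha)⁻¹ = sie hf e (-a) := OTensor.lin_sieGL_inv hf h2 he ha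

theorem sieW_iso (h2 : (2 : F) ≠ 0) {e a : W F k} (he : f e e = 0) (ha : f a e = 0) :
    sieW hf h2 he ha ∈ isoW f := fun u w => by rw [lg_sieW, OTensor.sie_preserves hf h2 he ha]

/-- The reflection. -/
def rfl' (v : W F k) : Module.End F (W F k) := 1 - (2 * (f v v)⁻¹) • sq1 hf v

theorem rfl'_sq {v : W F k} (hv : f v v ≠ 0) : rfl' hf v * rfl' hf v = 1 :=
  LinearMap.ext fun u => by
    simp only [rfl', Module.End.mul_apply, LinearMap.sub_apply, Module.End.one_apply, LinearMap.smul_apply,
      sq1_apply, sub_left' hf, hf.smul_left]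
    match_scalars <;> field_simp
    ring

/-- The reflection as a matrix. -/
def reflW {v : W F k} (hv : f v v ≠ 0) : GL (Fin k) F := mkGL (rfl' hf v) (rfl' hf v) (rfl'_sq hf hv)

theorem lg_reflW {v : W F k} (hv : f v v ≠ 0) : lg (reflW hf hv) = rfl' hf v := lg_mkGL _ _ _

theorem reflW_inv {v : W F k} (hv : f v v ≠ 0) : (reflW hf hv)⁻¹ = reflW hf hv :=
  inv_eq_of_mul_eq_one_right (lg_injective (by rw [map_mul, lg_reflW, rfl'_sq hf hv, map_one]))

theorem reflW_iso {v : W F k} (hv : f v v ≠ 0) : reflW hf hv ∈ isoW f := fun u w => by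
  rw [lg_reflW]
  simp only [rfl', LinearMap.sub_apply, Module.End.one_apply, LinearMap.smul_apply, sq1_apply, sub_left' hf,
    hf.sub_right, hf.smul_left, smul_right' hf, OTensor.symm hf v w]
  field_simp
  ring

theorem rfl'_self {v : W F k} (hv : f v v ≠ 0) : rfl' hf v v = -v := by
  simp only [rfl', LinearMap.sub_apply, Module.End.one_apply, LinearMap.smul_apply, sq1_apply]
  match_scalars
  field_simp
  ring

theorem rfl'_perp {v u : W F k} (hu : f u v = 0) : rfl' hf v u = u := by
  simp [rfl', sq1_apply, hu]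

end One

variable {ι : Type} [Fintype ι] [DecidableEq ι]

/-- One matrix at one position. -/
def opGL (l : ι) (g : GL (Fin k) F) : GL (ι → Fin k) F := tenGL (Function.update 1 l g)

theorem lg_opGL (l : ι) (g : GL (Fin k) F) : lg (opGL l g) = op l (lg g) := by
  rw [opGL, lg_tenGL, op]
  congr 1
  funext i
  by_cases hi : i = l
  · subst hi; simp
  · simp [hi]

theorem opGL_mul (l : ι) (g h : GL (Fin k) F) : opGL l (g * h) = opGL l g * opGL l h :=
  lg_injective (by rw [map_mul lg (opGL l g), lg_opGL, lg_opGL, lg_opGL, op_mul, map_mul])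

theorem opGL_one (l : ι) : opGL l (1 : GL (Fin k) F) = 1 :=
  lg_injective (by rw [lg_opGL, map_one, map_one, op_one])

theorem opGL_inv (l : ι) (g : GL (Fin k) F) : (opGL l g)⁻¹ = opGL l g⁻¹ :=
  inv_eq_of_mul_eq_one_right (by rw [← opGL_mul, mul_inv_cancel, opGL_one])

theorem opGL_mem (l : ι) (g : GL (Fin k) F) : opGL l g ∈ Nst F k ι := tenGL_mem _

theorem permGL_mul (σ τ : Equiv.Perm ι) : (permGL σ * permGL τ : GL (ι → Fin k) F) = permGL (σ * τ) :=
  lg_injective (by rw [map_mul, lg_permGL, lg_permGL, lg_permGL, permV_mul])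

theorem permGL_conj_op (σ : Equiv.Perm ι) (l : ι) (g : GL (Fin k) F) :
    permGL σ * opGL l g * (permGL σ)⁻¹ = opGL (σ l) g := by
  rw [mul_inv_eq_iff_eq_mul]
  exact lg_injective (by rw [map_mul, map_mul, lg_permGL, lg_opGL, lg_opGL, permV_op])

variable (f) in
/-- The isometries of the tensor power. -/
def isoV : Subgroup (GL (ι → Fin k) F) where
  carrier := {g | ∀ u w, bT f (lg g u) (lg g w) = bT f u w}
  one_mem' u w := by simp
  mul_mem' {a b} ha hb u w := by rw [map_mul, Module.End.mul_apply, Module.End.mul_apply, ha, hb]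
  inv_mem' {a} ha u w := by rw [← ha, lg_apply_inv, lg_apply_inv]

theorem mem_isoV {g : GL (ι → Fin k) F} :
    g ∈ isoV f ↔ ∀ u w, bT f (lg g u) (lg g w) = bT f u w := Iff.rfl

/-- The hypotheses on an overgroup. -/
structure Ovr (f : W F k → W F k → F) (M : Subgroup (GL (ι → Fin k) F)) : Prop where
  le : M ≤ isoV f
  sq : ∀ a ∈ Nst F k ι, a ∈ isoV f → a * a ∈ M
  der : ∀ a ∈ Nst F k ι, a ∈ isoV f → ∀ b ∈ Nst F k ι, b ∈ isoV f → a * b * a⁻¹ * b⁻¹ ∈ M

section Group

variable (hf : Sym f)
include hf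

theorem tenGL_iso {a : ι → GL (Fin k) F} (c : ι → F) (ha : ∀ i u w, f (lg (a i) u) (lg (a i) w) = c i * f u w)
    (hc : ∏ i, c i = 1) : tenGL a ∈ isoV f := by
  intro u w
  have e : (bT f).compl₁₂ (lg (tenGL a)) (lg (tenGL a)) = bT f := bT_ext hf fun x y => by
    rw [LinearMap.compl₁₂_apply, lg_tenGL, ten_pv, ten_pv, bT_pv hf, bT_pv hf]
    simp only [ha, Finset.prod_mul_distrib, hc, one_mul]
  exact LinearMap.congr_fun₂ e u w

theorem opGL_iso (l : ι) {g : GL (Fin k) F} (hg : g ∈ isoW f) : opGL l g ∈ isoV f := by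
  refine tenGL_iso hf (fun _ => 1) (fun i u w => ?_) Finset.prod_const_one
  rw [one_mul]
  by_cases hi : i = l
  · subst hi; rw [Function.update_self]; exact hg u w
  · rw [Function.update_of_ne hi, Pi.one_apply, map_one]; rfl

theorem permGL_iso (σ : Equiv.Perm ι) : (permGL σ : GL (ι → Fin k) F) ∈ isoV f := by
  intro u w
  have e : (bT f).compl₁₂ (lg (permGL σ)) (lg (permGL σ)) = bT f := bT_ext hf fun x y => by
    rw [LinearMap.compl₁₂_apply, lg_permGL, permV_pv, permV_pv, bT_pv hf, bT_pv hf]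
    exact Equiv.prod_comp σ.symm fun i => f (x i) (y i)
  exact LinearMap.congr_fun₂ e u w

variable {M : Subgroup (GL (ι → Fin k) F)} (hM : Ovr f M)
include hM

theorem Ovr.conj_mem {a x : GL (ι → Fin k) F} (haN : a ∈ Nst F k ι) (haG : a ∈ isoV f) (hxM : x ∈ M)
    (hxN : x ∈ Nst F k ι) : a * x * a⁻¹ ∈ M := by
  have h := M.mul_mem (hM.der a haN haG x hxN (hM.le hxM)) hxM
  rwa [inv_mul_cancel_right] at h

theorem Ovr.opGL_sq (l : ι) {g : GL (Fin k) F} (hg : g ∈ isoW f) : opGL l (g * g) ∈ M := by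
  rw [opGL_mul]
  exact hM.sq _ (opGL_mem l g) (opGL_iso hf l hg)

theorem Ovr.sie_mem (h2 : (2 : F) ≠ 0) (l : ι) {e a : W F k} (he : f e e = 0) (ha : f a e = 0) :
    opGL l (sieW hf h2 he ha) ∈ M := by
  have hh : f ((2 : F)⁻¹ • a) e = 0 := by rw [hf.smul_left, ha, mul_zero]
  have := hM.opGL_sq hf l (sieW_iso hf h2 he hh)
  convert this using 2
  refine lg_injective ?_
  rw [map_mul, lg_sieW, lg_sieW, OTensor.sie_mul hf h2 he hh hh, ← add_smul, ← two_mul, mul_inv_cancel₀ h2, one_smul]

theorem Ovr.flip_mem {p s : ι} (hps : p ≠ s) {v : W F k} (hv : f v v ≠ 0) :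
    opGL p (reflW hf hv) * opGL s (reflW hf hv) ∈ M := by
  have h := hM.der _ (opGL_mem p (reflW hf hv)) (opGL_iso hf p (reflW_iso hf hv)) (permGL (Equiv.swap p s))
    (permGL_mem _) (permGL_iso hf _)
  rw [mul_assoc (opGL p (reflW hf hv)), mul_assoc (opGL p (reflW hf hv)), opGL_inv, reflW_inv hf hv,
    permGL_conj_op, Equiv.swap_apply_left] at h
  exact h

/-- Paired reflections in two vectors of the same norm at two positions. -/
theorem Ovr.flip_mem' (h2 : (2 : F) ≠ 0) {p s : ι} (hps : p ≠ s) {v w : W F k} (hv : f v v ≠ 0)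
    (hw : f w w ≠ 0) (hvw : f v v = f w w) : opGL p (reflW hf hv) * opGL s (reflW hf hw) ∈ M := by
  obtain ⟨β, hβ, hβv⟩ : ∃ β ∈ isoW f, lg β v = w ∨ lg β v = -w := by
    by_cases hd : f (v - w) (v - w) = 0
    · have hs : f (v + w) (v + w) ≠ 0 := fun hs => by
        simp only [sub_left' hf, hf.sub_right, hf.add_left, hf.add_right, hvw, OTensor.symm hf w v] at hd hs
        have : (2 : F) * (2 * f w w) = 0 := by linear_combination hd + hs
        exact hw ((mul_eq_zero.1 ((mul_eq_zero.1 this).resolve_left h2)).resolve_left h2)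
      refine ⟨_, reflW_iso hf hs, Or.inr ?_⟩
      rw [lg_reflW, rfl', LinearMap.sub_apply, Module.End.one_apply, LinearMap.smul_apply, sq1_apply, smul_smul]
      rw [show 2 * (f (v + w) (v + w))⁻¹ * f v (v + w) = 1 by
        field_simp
        simp only [hf.add_left, hf.add_right, OTensor.symm hf w v]
        linear_combination hvw]
      module
    · refine ⟨_, reflW_iso hf hd, Or.inl ?_⟩
      rw [lg_reflW, rfl', LinearMap.sub_apply, Module.End.one_apply, LinearMap.smul_apply, sq1_apply, smul_smul]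
      rw [show 2 * (f (v - w) (v - w))⁻¹ * f v (v - w) = 1 by
        field_simp
        simp only [sub_left' hf, hf.sub_right, OTensor.symm hf w v]
        linear_combination hvw]
      module
  have key : β * reflW hf hv * β⁻¹ = reflW hf hw := by
    rw [mul_inv_eq_iff_eq_mul]
    refine lg_injective (LinearMap.ext fun u => ?_)
    rw [map_mul, map_mul, lg_reflW, lg_reflW, Module.End.mul_apply, Module.End.mul_apply]
    simp only [rfl', LinearMap.sub_apply, Module.End.one_apply, LinearMap.smul_apply, sq1_apply, map_sub, map_smul,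
      ← hvw]
    rcases hβv with h | h
    · rw [h, ← hβ u v, h]
    · rw [h, ← hβ u v, h, hf.neg_right]; module
  have h := hM.conj_mem hf (opGL_mem s β) (opGL_iso hf s hβ) (hM.flip_mem hf hps hv)
    (Subgroup.mul_mem _ (opGL_mem _ _) (opGL_mem _ _))
  convert h using 1
  have hc : opGL s β * opGL p (reflW hf hv) = opGL p (reflW hf hv) * opGL s β :=
    lg_injective (by rw [map_mul, map_mul, lg_opGL, lg_opGL, op_comm hps.symm])
  rw [← key, opGL_mul, opGL_mul, opGL_inv, ← mul_assoc (opGL s β) _ _, hc]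
  simp only [mul_assoc]

theorem Ovr.conj_ovr {a : GL (ι → Fin k) F} (haN : a ∈ Nst F k ι) (haG : a ∈ isoV f) :
    Ovr f (M.map (MulAut.conj a).toMonoidHom) where
  le := by
    rintro _ ⟨g, hg, rfl⟩
    exact (isoV f).mul_mem ((isoV f).mul_mem haG (hM.le hg)) ((isoV f).inv_mem haG)
  sq b hbN hbG := by
    refine ⟨a⁻¹ * b * a * (a⁻¹ * b * a), hM.sq _
      ((Nst F k ι).mul_mem ((Nst F k ι).mul_mem ((Nst F k ι).inv_mem haN) hbN) haN)
      ((isoV f).mul_mem ((isoV f).mul_mem ((isoV f).inv_mem haG) hbG) haG), ?_⟩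
    show a * _ * a⁻¹ = _
    group
  der b hbN hbG c hcN hcG := by
    refine ⟨a⁻¹ * b * a * (a⁻¹ * c * a) * (a⁻¹ * b * a)⁻¹ * (a⁻¹ * c * a)⁻¹, hM.der _
      ((Nst F k ι).mul_mem ((Nst F k ι).mul_mem ((Nst F k ι).inv_mem haN) hbN) haN)
      ((isoV f).mul_mem ((isoV f).mul_mem ((isoV f).inv_mem haG) hbG) haG) _
      ((Nst F k ι).mul_mem ((Nst F k ι).mul_mem ((Nst F k ι).inv_mem haN) hcN) haN)
      ((isoV f).mul_mem ((isoV f).mul_mem ((isoV f).inv_mem haG) hcG) haG), ?_⟩
    show a * _ * a⁻¹ = _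
    group

end Group

/-- The radical at a ruler given by a square-zero operator, on displacements. -/
def Rad (S J : Module.End F (VI F ι k)) : Prop := J * S = 0 ∧ S * J = 0 ∧ ∀ v, S v = 0 → ∃ w, J v = S w

section Centre

variable (hf : Sym f)
include hf

/-- Commuting with the skew operators at a singular vector. -/
def Cen (l : ι) (e : W F k) (T : Module.End F (VI F ι k)) : Prop :=
  ∀ a, f a e = 0 → op l (nn hf e a) * T = T * op l (nn hf e a)

theorem Cen.sq {l : ι} {e e' : W F k} (H : Hyp f e e') (h2 : (2 : F) ≠ 0) (hk : 3 ≤ k)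
    {T : Module.End F (VI F ι k)} (hT : Cen hf l e T) : op l (sq1 hf e) * T = T * op l (sq1 hf e) := by
  obtain ⟨a, a1, -, a3⟩ := OTensor.exists_aniso hf h2 hk H
  have h1 := hT a a1
  have h : op l (nn hf e a * nn hf e a) * T = T * op l (nn hf e a * nn hf e a) := by
    rw [← op_mul, mul_assoc, h1, ← mul_assoc, h1, mul_assoc]
  rw [nn_mul_nn hf H.ee a1 a1, op_smul, smul_mul_assoc, mul_smul_comm] at h
  exact smul_right_injective (Module.End F (VI F ι k)) (neg_ne_zero.2 a3) h

theorem op_sq (l : ι) (e : W F k) (v : VI F ι k) : op l (sq1 hf e) v = emb l e (con f l e v) := by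
  have h : op l (sq1 hf e) = (emb l e).comp (con f l e) := ext_split l fun x u => by
    rw [LinearMap.comp_apply, con_emb hf, op_emb, sq1_apply, emb_smul, LinearMap.smul_apply, map_smul]
  exact LinearMap.congr_fun h v

/-- A commuting operator is determined by its values on the partner. -/
theorem Cen.ext {l : ι} {e e' : W F k} (H : Hyp f e e') (h2 : (2 : F) ≠ 0) (hk : 3 ≤ k)
    {T T' : Module.End F (VI F ι k)} (hT : Cen hf l e T) (hT' : Cen hf l e T')
    (h : ∀ u, T (emb l e' u) = T' (emb l e' u)) : T = T' := by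
  refine ext_split l fun x u => ?_
  have he : sq1 hf e e' = e := by rw [sq1_apply, OTensor.symm hf e' e, H.one, one_smul]
  have key : ∀ z, f z e = 0 → f z e' = 0 → nn hf e z e' = -z := fun z z1 z2 => by
    rw [nn_apply, OTensor.symm hf e' z, z2, OTensor.symm hf e' e, H.one]; module
  have hcomm : ∀ {P : Module.End F (W F k)}, op l P * T = T * op l P → op l P * T' = T' * op l P →
      ∀ u, T (emb l (P e') u) = T' (emb l (P e') u) := fun h1 h1' u => by
    rw [← op_emb, ← Module.End.mul_apply, ← h1, ← Module.End.mul_apply T', ← h1', Module.End.mul_apply,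
      Module.End.mul_apply, h]
  obtain ⟨p1, p2⟩ := OTensor.proj0_perp hf H x
  rw [OTensor.decomp hf e e' x, emb_add, emb_add, emb_smul, emb_smul]
  simp only [LinearMap.add_apply, LinearMap.smul_apply, map_add, map_smul]
  have a1 := hcomm (hT.sq hf H h2 hk) (hT'.sq hf H h2 hk) u
  rw [he] at a1
  have a2 := hcomm (hT _ p1) (hT' _ p1) u
  rw [key _ p1 p2, ← neg_one_smul F (proj0 f e e' x), emb_smul, LinearMap.smul_apply, map_smul, map_smul] at a2
  have a2' := smul_right_injective (VI F ι k) (neg_ne_zero.2 (one_ne_zero (α := F))) a2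
  rw [a1, h u, a2']

theorem Cen.add {l : ι} {e : W F k} {T T' : Module.End F (VI F ι k)} (h : Cen hf l e T) (h' : Cen hf l e T') :
    Cen hf l e (T + T') := fun a ha => by rw [mul_add, add_mul, h a ha, h' a ha]

theorem Cen.sub {l : ι} {e : W F k} {T T' : Module.End F (VI F ι k)} (h : Cen hf l e T) (h' : Cen hf l e T') :
    Cen hf l e (T - T') := fun a ha => by rw [mul_sub, sub_mul, h a ha, h' a ha]

theorem Cen.mul {l : ι} {e : W F k} {T T' : Module.End F (VI F ι k)} (h : Cen hf l e T) (h' : Cen hf l e T') :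
    Cen hf l e (T * T') := fun a ha => by rw [← mul_assoc, h a ha, mul_assoc, h' a ha, mul_assoc]

theorem cen_sum {l : ι} {e : W F k} {κ : Type*} (s : Finset κ) (T : κ → Module.End F (VI F ι k))
    (h : ∀ c ∈ s, Cen hf l e (T c)) : Cen hf l e (∑ c ∈ s, T c) := fun a ha => by
  rw [Finset.mul_sum, Finset.sum_mul]
  exact Finset.sum_congr rfl fun c hc => h c hc a ha

theorem cen_mix {l : ι} {e : W F k} (X : Module.End F (W F k)) (B : Module.End F (VI F (Oth l) k))
    (hX : ∀ a, f a e = 0 → nn hf e a * X = X * nn hf e a) : Cen hf l e (op l X * out l B) := fun a ha => by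
  rw [← mul_assoc, op_mul, hX a ha, ← op_mul, mul_assoc, op_out, mul_assoc]

theorem cen_out (l : ι) (e : W F k) (B : Module.End F (VI F (Oth l) k)) : Cen hf l e (out l B) :=
  fun _ _ => op_out l _ B

/-- The skew part of the middle of an operator. -/
def midC (l : ι) (e e' : W F k) (T : Module.End F (VI F ι k)) : Module.End F (VI F ι k) :=
  ∑ c, op l (nn hf e (proj0 f e e' (Pi.single c 1))) * out l (-((prj l c).comp (T.comp (emb l e'))))

/-- The shape of a commuting operator. -/
theorem Cen.shape {l : ι} {e e' : W F k} (H : Hyp f e e') (h2 : (2 : F) ≠ 0) (hk : 3 ≤ k)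
    {T : Module.End F (VI F ι k)} (hT : Cen hf l e T) :
    T = out l ((con f l e).comp (T.comp (emb l e'))) +
      op l (sq1 hf e) * out l ((con f l e').comp (T.comp (emb l e'))) + midC hf l e e' T := by
  refine hT.ext hf H h2 hk (((cen_out hf l e _).add hf (cen_mix hf _ _ fun a ha => by
    rw [nn_mul_sq hf H.ee ha, sq_mul_nn hf H.ee ha])).add hf (cen_sum hf _ _ fun c _ => cen_mix hf _ _ fun a ha =>
      commute_nn hf H.ee ha (OTensor.proj0_perp hf H _).1)) fun u => ?_
  simp only [LinearMap.add_apply, midC, LinearMap.sum_apply, Module.End.mul_apply, out_emb, op_emb,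
    LinearMap.comp_apply, LinearMap.neg_apply, map_neg]
  have he : sq1 hf e e' = e := by rw [sq1_apply, OTensor.symm hf e' e, H.one, one_smul]
  have key : ∀ c : Fin k, nn hf e (proj0 f e e' (Pi.single c 1)) e' = -(proj0 f e e' (Pi.single c 1)) := fun c => by
    obtain ⟨z1, z2⟩ := OTensor.proj0_perp hf H (Pi.single c (1 : F) : W F k)
    rw [nn_apply, OTensor.symm hf e' (proj0 f e e' _), z2, OTensor.symm hf e' e, H.one]; module
  simp only [he, key]
  set w := T (emb l e' u)
  have e1 : ∀ c, -emb l (-proj0 f e e' (Pi.single c 1)) (prj l c w) = emb l (proj0 f e e' (Pi.single c 1)) (prj l c w) :=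
    fun c => by rw [← neg_one_smul F (proj0 f e e' (Pi.single c 1)), emb_smul, LinearMap.smul_apply]; module
  simp only [e1]
  have hcon : ∀ y, con f l y w = ∑ c, f (Pi.single c 1) y • prj l c w := fun y => by
    simp [con, LinearMap.sum_apply]
  rw [hcon, hcon, map_sum, map_sum, ← Finset.sum_add_distrib, ← Finset.sum_add_distrib]
  conv_lhs => rw [← sum_emb_prj l w]
  refine Finset.sum_congr rfl fun c _ => ?_
  conv_lhs => rw [OTensor.decomp hf e e' (Pi.single c (1 : F) : W F k), emb_add, emb_add, emb_smul, emb_smul]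
  simp only [LinearMap.add_apply, LinearMap.smul_apply, map_smul]
  abel

theorem midC_mul_sq {l : ι} {e e' : W F k} (H : Hyp f e e') (T : Module.End F (VI F ι k)) :
    op l (sq1 hf e) * midC hf l e e' T = 0 := by
  rw [midC, Finset.mul_sum]
  refine Finset.sum_eq_zero fun c _ => ?_
  rw [← mul_assoc, op_mul, sq_mul_nn hf H.ee (OTensor.proj0_perp hf H _).1, op_zero, zero_mul]

/-- A commuting operator killing the ruler has no scalar part. -/
theorem Cen.shape_kill {l : ι} {e e' : W F k} (H : Hyp f e e') (h2 : (2 : F) ≠ 0) (hk : 3 ≤ k)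
    {T : Module.End F (VI F ι k)} (hT : Cen hf l e T) (hS : ∀ u, T (emb l e u) = 0) :
    T = op l (sq1 hf e) * out l ((con f l e').comp (T.comp (emb l e'))) + midC hf l e e' T := by
  have he : sq1 hf e e' = e := by rw [sq1_apply, OTensor.symm hf e' e, H.one, one_smul]
  have hA : (con f l e).comp (T.comp (emb l e')) = 0 := by
    refine LinearMap.ext fun u => emb_injective l (H.ne hf) ?_
    have h := LinearMap.congr_fun (hT.sq hf H h2 hk) (emb l e' u)
    rw [Module.End.mul_apply, Module.End.mul_apply, op_emb, he, hS] at h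
    rw [LinearMap.zero_apply, map_zero, LinearMap.comp_apply, LinearMap.comp_apply, ← h]
    exact (op_sq hf l e _).symm
  conv_lhs => rw [hT.shape hf H h2 hk, hA, out_zero, zero_add]

end Centre

/-- No excess in the radicals at the rulers. -/
def NoExcess (hf : Sym f) (M : Subgroup (GL (ι → Fin k) F)) : Prop :=
  ∀ l e e', Hyp f e e' → ∀ g ∈ M, Cen hf l e (lg g) → (∀ u, lg g (emb l e u) = emb l e u) →
    ∃ a, f a e = 0 ∧ lg g = op l (sie hf e a)

end Cfsg.Agent.OWreath
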