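import Cfsg.Agent.Lib.OWreathDefs

/-!
The radical at a ruler: without excess it meets the overgroup in single-position Siegel elements.
-/

set_option autoImplicit false
set_option linter.unusedSectionVars false

namespace Cfsg.Agent.OWreath

open Cfsg.Agent.OTensor (Sym Hyp nn sq1 sie proj0 nn_apply sq1_apply smul_right' neg_left' sub_left')

variable {F : Type*} [Field F] {k : ℕ} {ι : Type} [Fintype ι] [DecidableEq ι] {f : W F k → W F k → F}
variable (hf : Sym f)
include hf

theorem op_nn (l : ι) (e a : W F k) (v : VI F ι k) :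
    op l (nn hf e a) v = emb l e (con f l a v) - emb l a (con f l e v) := by
  have h : op l (nn hf e a) = (emb l e).comp (con f l a) - (emb l a).comp (con f l e) := ext_split l fun x u => by
    rw [LinearMap.sub_apply, LinearMap.comp_apply, LinearMap.comp_apply, con_emb hf, con_emb hf, op_emb, nn_apply,
      map_smul, map_smul, sub_eq_add_neg, emb_add, emb_smul, LinearMap.add_apply, LinearMap.smul_apply,
      ← neg_smul, emb_smul, LinearMap.smul_apply, neg_smul, ← sub_eq_add_neg]
  exact LinearMap.congr_fun h v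

theorem ker_iff {l : ι} {e : W F k} (he : e ≠ 0) (v : VI F ι k) : op l (sq1 hf e) v = 0 ↔ con f l e v = 0 := by
  rw [op_sq hf]
  exact ⟨fun h => emb_injective l he (by rw [h, map_zero]), fun h => by rw [h, map_zero]⟩

theorem range_mem {l : ι} {e e' : W F k} (H : Hyp f e e') (u : VI F (Oth l) k) :
    ∃ w, emb l e u = op l (sq1 hf e) w :=
  ⟨emb l e' u, by rw [op_emb, sq1_apply, OTensor.symm hf e' e, H.one, one_smul]⟩

theorem kill_iff {l : ι} {e e' : W F k} (H : Hyp f e e') (J : Module.End F (VI F ι k)) :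
    J * op l (sq1 hf e) = 0 ↔ ∀ u, J (emb l e u) = 0 := by
  refine ⟨fun h u => ?_, fun h => LinearMap.ext fun v => ?_⟩
  · obtain ⟨w, hw⟩ := range_mem hf H u
    rw [hw, ← Module.End.mul_apply, h, LinearMap.zero_apply]
  · rw [Module.End.mul_apply, op_sq hf, h, LinearMap.zero_apply]

theorem Rad.sie {l : ι} {e e' a : W F k} (H : Hyp f e e') (ha : f a e = 0) :
    Rad (op l (sq1 hf e)) (op l (sie hf e a) - 1) := by
  rw [sie_eq hf H.ee ha, op_add, op_add, op_one, add_assoc, add_sub_cancel_left, op_smul]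
  refine ⟨?_, ?_, fun v hv => ?_⟩
  · rw [add_mul, smul_mul_assoc, op_mul, op_mul, nn_mul_sq hf H.ee ha, sq_mul_sq hf H.ee, op_zero, smul_zero,
      add_zero]
  · rw [mul_add, mul_smul_comm, op_mul, op_mul, sq_mul_nn hf H.ee ha, sq_mul_sq hf H.ee, op_zero, smul_zero,
      add_zero]
  · obtain ⟨w, hw⟩ := range_mem hf H (con f l a v)
    refine ⟨w, ?_⟩
    rw [LinearMap.add_apply, LinearMap.smul_apply, hv, smul_zero, add_zero, op_nn hf, hw,
      (ker_iff hf (H.ne hf) v).1 hv, map_zero, sub_zero]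

omit hf in
theorem Rad.of_inv {S : Module.End F (VI F ι k)} {g : GL (ι → Fin k) F} (h : Rad S (lg g - 1)) :
    lg g⁻¹ * S = S ∧ S * lg g⁻¹ = S := by
  obtain ⟨h1, h2, -⟩ := h
  rw [sub_mul, one_mul, sub_eq_zero] at h1
  rw [mul_sub, mul_one, sub_eq_zero] at h2
  constructor
  · calc lg g⁻¹ * S = lg g⁻¹ * (lg g * S) := by rw [h1]
      _ = S := by rw [← mul_assoc, lg_conj_inv, one_mul]
  · calc S * lg g⁻¹ = S * lg g * lg g⁻¹ := by rw [h2]
      _ = S := by rw [mul_assoc, lg_mul_inv, mul_one]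

omit hf in
/-- The commutator of two elements of the radical at a ruler. -/
theorem Rad.comm {S : Module.End F (VI F ι k)} {g x : GL (ι → Fin k) F} (hg : Rad S (lg g - 1))
    (hx : Rad S (lg x - 1)) :
    (∀ v, S v = 0 → (lg (g * x * g⁻¹ * x⁻¹) - 1) v = 0) ∧
      ∀ v, ∃ w, (lg (g * x * g⁻¹ * x⁻¹) - 1) v = S w := by
  set J := lg g - 1 with hJ
  set K := lg x - 1 with hK
  have C1 : ∀ v, S v = 0 → J (K v) = 0 ∧ K (J v) = 0 := fun v hv => by
    constructor
    · obtain ⟨w, hw⟩ := hx.2.2 v hv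
      rw [hw, ← Module.End.mul_apply, hg.1, LinearMap.zero_apply]
    · obtain ⟨w, hw⟩ := hg.2.2 v hv
      rw [hw, ← Module.End.mul_apply, hx.1, LinearMap.zero_apply]
  have C2 : ∀ v, ∃ w, (J * K - K * J) v = S w := fun v => by
    obtain ⟨w, hw⟩ := hg.2.2 (K v) (by rw [← Module.End.mul_apply, hx.2.1, LinearMap.zero_apply])
    obtain ⟨w', hw'⟩ := hx.2.2 (J v) (by rw [← Module.End.mul_apply, hg.2.1, LinearMap.zero_apply])
    exact ⟨w - w', by rw [LinearMap.sub_apply, Module.End.mul_apply, Module.End.mul_apply, hw, hw', map_sub]⟩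
  set R := lg g⁻¹ * lg x⁻¹ with hR
  have hSR : S * R = S := by rw [hR, ← mul_assoc, (Rad.of_inv hg).2, (Rad.of_inv hx).2]
  have e : lg (g * x * g⁻¹ * x⁻¹) - 1 = (J * K - K * J) * R := by
    have h1 : J * K - K * J = lg g * lg x - lg x * lg g := by
      simp only [hJ, hK, sub_mul, mul_sub, one_mul, mul_one]; abel
    have h2 : lg x * lg g * R = 1 := by
      rw [hR, mul_assoc (lg x), ← mul_assoc (lg g), lg_mul_inv, one_mul, lg_mul_inv]
    rw [h1, sub_mul, h2, hR, map_mul, map_mul, map_mul]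
    simp only [mul_assoc]
  clear_value R
  refine ⟨fun v hv => ?_, fun v => ?_⟩
  · have hv' : S (R v) = 0 := by rw [← Module.End.mul_apply, hSR, hv]
    rw [e, Module.End.mul_apply, LinearMap.sub_apply, Module.End.mul_apply, Module.End.mul_apply, (C1 _ hv').1,
      (C1 _ hv').2, sub_zero]
  · obtain ⟨w, hw⟩ := C2 (R v)
    exact ⟨w, by rw [e, Module.End.mul_apply, hw]⟩

/-- A displacement killing the kernel of the ruler with image in the ruler commutes with the skew operators. -/
theorem cen_of_central {l : ι} {e : W F k} (he : f e e = 0) {T : Module.End F (VI F ι k)}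
    (h1 : ∀ v, op l (sq1 hf e) v = 0 → (T - 1) v = 0) (h2 : ∀ v, ∃ w, (T - 1) v = op l (sq1 hf e) w) :
    Cen hf l e T := fun a ha => by
  have e1 : op l (nn hf e a) * (T - 1) = 0 := LinearMap.ext fun v => by
    obtain ⟨w, hw⟩ := h2 v
    rw [Module.End.mul_apply, hw, ← Module.End.mul_apply, op_mul, nn_mul_sq hf he ha, op_zero, LinearMap.zero_apply,
      LinearMap.zero_apply]
  have e2 : (T - 1) * op l (nn hf e a) = 0 := LinearMap.ext fun v => by
    rw [Module.End.mul_apply, LinearMap.zero_apply]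
    refine h1 _ ?_
    rw [← Module.End.mul_apply, op_mul, sq_mul_nn hf he ha, op_zero, LinearMap.zero_apply]
  rw [mul_sub, mul_one, sub_eq_zero] at e1
  rw [sub_mul, one_mul, sub_eq_zero] at e2
  rw [e1, e2]

/-- A Siegel operator killing the kernel of the ruler is trivial. -/
theorem sie_central {l : ι} {e e' a : W F k} (H : Hyp f e e') (ha : f a e = 0) (hz : ∃ u : VI F (Oth l) k, u ≠ 0)
    (h : ∀ v, op l (sq1 hf e) v = 0 → (op l (sie hf e a) - 1) v = 0) : op l (sie hf e a) = 1 := by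
  obtain ⟨u, hu⟩ := hz
  have key : ∀ x, f x e = 0 → f x a = 0 := fun x hx => by
    have h' := h (emb l x u) (by rw [op_emb, sq1_apply, hx, zero_smul, emb_zero, LinearMap.zero_apply])
    rw [sie_eq hf H.ee ha, op_add, op_add, op_one, add_assoc, add_sub_cancel_left, LinearMap.add_apply, op_emb,
      op_emb, LinearMap.smul_apply, sq1_apply, hx, zero_smul, smul_zero, emb_zero, LinearMap.zero_apply, add_zero,
      nn_apply, hx, zero_smul, sub_zero, emb_smul, LinearMap.smul_apply] at h'
    by_contra h0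
    exact hu (emb_injective l (H.ne hf) (by rw [(smul_eq_zero.1 h').resolve_left h0, map_zero]))
  have hae : a = f a e' • e := by
    refine sub_eq_zero.1 (hf.nd _ fun y => ?_)
    obtain ⟨p1, -⟩ := OTensor.proj0_perp hf H y
    have h0 := key _ p1
    conv_lhs => rw [OTensor.decomp hf e e' y]
    simp only [sub_left' hf, hf.add_right, hf.smul_left, smul_right' hf, OTensor.symm hf a (proj0 f e e' y), h0,
      OTensor.symm hf e (proj0 f e e' y), p1, ha, H.ee, H.one]
    ring
  rw [sie_eq hf H.ee ha, hae, nn_smul hf, nn_self hf, smul_zero, hf.smul_left, smul_right' hf, H.ee]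
  simp [op_one]

variable {M : Subgroup (GL (ι → Fin k) F)}

/-- Without excess, the radical at a ruler meets the overgroup in Siegel elements. -/
theorem NoExcess.rad (h2 : (2 : F) ≠ 0) (hk : 3 ≤ k) (hM : Ovr f M) (hN : NoExcess hf M) {l : ι} {e e' : W F k}
    (H : Hyp f e e') {g : GL (ι → Fin k) F} (hg : g ∈ M) (hr : Rad (op l (sq1 hf e)) (lg g - 1)) :
    ∃ a, f a e = 0 ∧ lg g = op l (sie hf e a) := by
  have hfix : ∀ u, lg g (emb l e u) = emb l e u := fun u => by
    have := (kill_iff hf H _).1 hr.1 u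
    rwa [LinearMap.sub_apply, Module.End.one_apply, sub_eq_zero] at this
  refine hN l e e' H g hg (fun b hb => ?_) hfix
  set x := opGL l (sieW hf h2 H.ee hb) with hx
  have hxM : x ∈ M := hM.sie_mem hf h2 l H.ee hb
  have hxR : Rad (op l (sq1 hf e)) (lg x - 1) := by
    rw [hx, lg_opGL, lg_sieW]; exact Rad.sie hf H hb
  obtain ⟨c1, c2⟩ := Rad.comm hr hxR
  have hz : ∃ u : VI F (Oth l) k, u ≠ 0 := ⟨Pi.single (fun _ => ⟨0, by omega⟩) 1, by simp⟩
  obtain ⟨a, ha, haz⟩ := hN l e e' H _ (M.mul_mem (M.mul_mem (M.mul_mem hg hxM) (M.inv_mem hg)) (M.inv_mem hxM))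
    (cen_of_central hf H.ee c1 c2) (fun u => by
      have h0 := c1 (emb l e u) (by rw [op_emb, sq1_apply, H.ee, zero_smul, emb_zero, LinearMap.zero_apply])
      rwa [LinearMap.sub_apply, Module.End.one_apply, sub_eq_zero] at h0)
  rw [haz] at c1
  rw [sie_central hf H ha hz c1] at haz
  have hcomm : lg g * lg x = lg x * lg g := by
    rw [map_mul, map_mul, map_mul] at haz
    calc lg g * lg x = lg g * lg x * lg g⁻¹ * lg x⁻¹ * (lg x * lg g) := by
          simp only [mul_assoc]
          rw [← mul_assoc (lg x⁻¹), lg_conj_inv, one_mul, lg_conj_inv, mul_one]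
      _ = lg x * lg g := by rw [haz, one_mul]
  have hnS : op l (sq1 hf e) * lg g = lg g * op l (sq1 hf e) := by
    obtain ⟨r1, r2, -⟩ := hr
    rw [sub_mul, one_mul, sub_eq_zero] at r1
    rw [mul_sub, mul_one, sub_eq_zero] at r2
    rw [r1, r2]
  have e1 : op l (nn hf e b) = lg x - 1 - (-(2 : F)⁻¹ * f b b) • op l (sq1 hf e) := by
    rw [hx, lg_opGL, lg_sieW, sie_eq hf H.ee hb, op_add, op_add, op_one, op_smul]
    abel
  rw [e1, sub_mul, sub_mul, mul_sub, mul_sub, hcomm, one_mul, mul_one, smul_mul_assoc, mul_smul_comm, hnS]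

end Cfsg.Agent.OWreath
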