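import Cfsg.Agent.Lib.OWreathDefs

/-!
Slices at one position, the fixed space of a product of unipotents at one position and at the others, and
separation of the positions moved by a permutation.
-/

set_option autoImplicit false
set_option linter.unusedSectionVars false

namespace Cfsg.Agent.OWreath

open Cfsg.Agent.OTensor (Sym)

variable {F : Type*} [Field F] {k : ℕ} {ι : Type} [Fintype ι] [DecidableEq ι]

theorem prj_out (l : ι) (c : Fin k) (B : Module.End F (VI F (Oth l) k)) (v : VI F ι k) :
    prj l c (out l B v) = B (prj l c v) := by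
  have h : (prj l c).comp (out l B) = B.comp (prj l c) := ext_split l fun x u => by
    rw [LinearMap.comp_apply, LinearMap.comp_apply, out_emb, prj_emb, prj_emb, map_smul]
  exact LinearMap.congr_fun h v

/-- The slice along a functional on the other positions. -/
def sli (l : ι) (ψ : VI F (Oth l) k →ₗ[F] F) : VI F ι k →ₗ[F] W F k := LinearMap.pi fun c => ψ.comp (prj l c)

theorem sli_emb (l : ι) (ψ : VI F (Oth l) k →ₗ[F] F) (x : W F k) (u : VI F (Oth l) k) :
    sli l ψ (emb l x u) = ψ u • x := funext fun c => by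
  show ψ (prj l c (emb l x u)) = (ψ u • x) c
  rw [prj_emb, map_smul, Pi.smul_apply, smul_eq_mul, smul_eq_mul, mul_comm]

theorem sli_op (l : ι) (ψ : VI F (Oth l) k →ₗ[F] F) (X : Module.End F (W F k)) (v : VI F ι k) :
    sli l ψ (op l X v) = X (sli l ψ v) := by
  have h : (sli l ψ).comp (op l X) = X.comp (sli l ψ) := ext_split l fun x u => by
    rw [LinearMap.comp_apply, LinearMap.comp_apply, op_emb, sli_emb, sli_emb, map_smul]
  exact LinearMap.congr_fun h v

/-- A space is bounded by its two kinds of slices. -/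
theorem slice_bound (l : ι) (S : Submodule F (VI F ι k)) (P : Submodule F (W F k))
    (Q : Submodule F (VI F (Oth l) k)) (hQ : ∀ v ∈ S, ∀ c, prj l c v ∈ Q)
    (hP : ∀ v ∈ S, ∀ ψ, sli l ψ v ∈ P) :
    Module.finrank F S ≤ Module.finrank F P * Module.finrank F Q := by
  obtain ⟨π, hπ⟩ := LinearMap.exists_leftInverse_of_injective Q.subtype Q.ker_subtype
  let L : S →ₗ[F] (Module.Dual F Q →ₗ[F] P) :=
    { toFun := fun v =>
        { toFun := fun ξ => ⟨sli l (ξ.comp π) v, hP _ v.2 _⟩
          map_add' := fun ξ η => Subtype.ext (funext fun c => rfl)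
          map_smul' := fun a ξ => Subtype.ext (funext fun c => rfl) }
      map_add' := fun v w => LinearMap.ext fun ξ => Subtype.ext (map_add (sli l (ξ.comp π)) v.1 w.1)
      map_smul' := fun a v => LinearMap.ext fun ξ => Subtype.ext (map_smul (sli l (ξ.comp π)) a v.1) }
  have hL : Function.Injective L := by
    refine (injective_iff_map_eq_zero L).2 fun v hv => ?_
    refine Subtype.ext ?_
    rw [← sum_emb_prj l v.1]
    refine Finset.sum_eq_zero fun c _ => ?_
    have h : π (prj l c v.1) = 0 := by
      refine (Module.forall_dual_apply_eq_zero_iff F _).1 fun ξ => ?_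
      exact congrFun (congrArg Subtype.val (LinearMap.congr_fun hv ξ)) c
    have h2 : π (prj l c v.1) = ⟨prj l c v.1, hQ _ v.2 c⟩ :=
      LinearMap.congr_fun hπ ⟨prj l c v.1, hQ _ v.2 c⟩
    rw [h] at h2
    rw [show prj l c v.1 = 0 from (congrArg Subtype.val h2).symm, map_zero]
  refine (LinearMap.finrank_le_finrank_of_injective hL).trans (le_of_eq ?_)
  rw [Module.finrank_linearMap, Subspace.dual_finrank_eq, mul_comm]

theorem dim_split {V : Type*} [AddCommGroup V] [Module F V] [FiniteDimensional F V] (B : Module.End F V)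
    (S : Submodule F V) :
    Module.finrank F S = Module.finrank F (S ⊓ LinearMap.ker B : Submodule F V) + Module.finrank F (S.map B) := by
  have h := (B.domRestrict S).finrank_range_add_finrank_ker
  have h1 : Module.finrank F (LinearMap.ker (B.domRestrict S)) =
      Module.finrank F (S ⊓ LinearMap.ker B : Submodule F V) := by
    rw [show LinearMap.ker (B.domRestrict S) = (S ⊓ LinearMap.ker B).comap S.subtype by
      ext x; simp [LinearMap.mem_ker]]
    exact (Submodule.comapSubtypeEquivOfLe inf_le_left).finrank_eq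
  rw [LinearMap.range_domRestrict, h1] at h
  omega

theorem rank_split {V : Type*} [AddCommGroup V] [Module F V] [FiniteDimensional F V] (M : Module.End F V) (j : ℕ) :
    Module.finrank F (LinearMap.range (M ^ j)) =
      Module.finrank F (LinearMap.range (M ^ j) ⊓ LinearMap.ker M : Submodule F V) +
        Module.finrank F (LinearMap.range (M ^ (j + 1))) := by
  rw [dim_split M (LinearMap.range (M ^ j)), ← LinearMap.range_comp, ← Module.End.mul_eq_comp, ← pow_succ']

/-- The fixed space of a unipotent at one position times a unipotent at the others. -/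
theorem fix_bound (l : ι) (N : Module.End F (W F k)) (M : Module.End F (VI F (Oth l) k)) (n : ℕ) (hM : M ^ n = 0) :
    Module.finrank F (LinearMap.ker (op l N - out l M)) ≤
      Module.finrank F (LinearMap.ker N) * Module.finrank F (LinearMap.ker M) +
        Module.finrank F (LinearMap.ker N ⊓ LinearMap.range N : Submodule F (W F k)) *
          Module.finrank F (LinearMap.range M) := by
  set A := op l N
  set B := out l M
  set X := LinearMap.ker (A - B)
  have hAB : ∀ v ∈ X, A v = B v := fun v hv => sub_eq_zero.1 (by simpa [X] using hv)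
  have hcomm : ∀ v, A (B v) = B (A v) := fun v => LinearMap.congr_fun (op_out l N M) v
  have hinv : ∀ v ∈ X, B v ∈ X := fun v hv => by
    rw [LinearMap.mem_ker, LinearMap.sub_apply, hcomm, hAB v hv, sub_self]
  have hBj : ∀ (j : ℕ) (v) (c), prj l c ((B ^ j) v) = (M ^ j) (prj l c v) := by
    intro j
    induction j with
    | zero => simp
    | succ j ih =>
      intro v c
      rw [pow_succ', pow_succ', Module.End.mul_apply, Module.End.mul_apply, prj_out, ih]
  have hinvj : ∀ (j : ℕ), ∀ v ∈ X, (B ^ j) v ∈ X := by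
    intro j
    induction j with
    | zero => intro v hv; simpa using hv
    | succ j ih => intro v hv; rw [pow_succ', Module.End.mul_apply]; exact hinv _ (ih v hv)
  have hmap : ∀ j, (X.map (B ^ j)).map B = X.map (B ^ (j + 1)) := fun j => by
    rw [← Submodule.map_comp, ← Module.End.mul_eq_comp, ← pow_succ']
  -- the higher layers
  have key : ∀ s j, 1 ≤ j → n ≤ j + s → Module.finrank F (X.map (B ^ j)) ≤
      Module.finrank F (LinearMap.ker N ⊓ LinearMap.range N : Submodule F (W F k)) *
        Module.finrank F (LinearMap.range (M ^ j)) := by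
    intro s
    induction s with
    | zero =>
      intro j _ hj
      have : X.map (B ^ j) = ⊥ := by
        rw [Submodule.eq_bot_iff]
        rintro _ ⟨v, -, rfl⟩
        rw [← sum_emb_prj l ((B ^ j) v)]
        refine Finset.sum_eq_zero fun c _ => ?_
        rw [hBj, pow_eq_zero_of_le (by omega) hM, LinearMap.zero_apply, map_zero]
      rw [this, finrank_bot]
      exact Nat.zero_le _
    | succ s ih =>
      intro j hj hj'
      rw [dim_split B, hmap, rank_split M j, mul_add]
      refine Nat.add_le_add (slice_bound l _ _ _ ?_ ?_) (ih (j + 1) (by omega) (by omega))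
      · rintro _ ⟨⟨v, hv, rfl⟩, hk⟩ c
        refine ⟨⟨prj l c v, (hBj j v c).symm⟩, ?_⟩
        refine LinearMap.mem_ker.2 ?_
        rw [← prj_out]
        rw [show out l M ((B ^ j) v) = 0 from hk, map_zero]
      · rintro _ ⟨⟨v, hv, rfl⟩, hk⟩ ψ
        have hX := hinvj j v hv
        have hA : A ((B ^ j) v) = 0 := (hAB _ hX).trans hk
        refine ⟨?_, ⟨sli l ψ ((B ^ (j - 1)) v), ?_⟩⟩
        · refine LinearMap.mem_ker.2 ?_
          rw [← sli_op]
          show sli l ψ (A ((B ^ j) v)) = 0
          rw [hA, map_zero]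
        · rw [← sli_op]
          show sli l ψ (A ((B ^ (j - 1)) v)) = _
          rw [hAB _ (hinvj (j - 1) v hv), ← Module.End.mul_apply, ← pow_succ', Nat.sub_add_cancel hj]
  rw [dim_split B X]
  refine Nat.add_le_add (slice_bound l _ _ _ ?_ ?_) ?_
  · rintro v ⟨-, hk⟩ c
    refine LinearMap.mem_ker.2 ?_
    rw [← prj_out, show out l M v = 0 from hk, map_zero]
  · rintro v ⟨hv, hk⟩ ψ
    refine LinearMap.mem_ker.2 ?_
    rw [← sli_op]
    show sli l ψ (A v) = 0
    rw [hAB v hv, show B v = 0 from hk, map_zero]
  · have h := key n 1 le_rfl (by omega)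
    rwa [pow_one, pow_one] at h

/-- The operators of a scalar pure tensor are scalar. -/
theorem scalar_of_ten {X : ι → Module.End F (W F k)} (hk : 0 < k) {μ : F} (hμ : μ ≠ 0)
    (h : ten X = μ • 1) (i : ι) : ∃ c : F, X i = c • 1 := by
  let u₀ : W F k := Pi.single ⟨0, hk⟩ 1
  have hu₀ : u₀ ≠ 0 := fun e => one_ne_zero (α := F) (by simpa [u₀] using congrFun e ⟨0, hk⟩)
  set z : VI F (Oth i) k := pv fun _ => u₀
  set z' : VI F (Oth i) k := ten (fun j : Oth i => X j.1) z
  obtain ⟨b, hb⟩ := Function.ne_iff.1 (pv_ne_zero (x := fun _ : Oth i => u₀) fun _ => hu₀)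
  change z b ≠ 0 at hb
  have key : ∀ u c, X i u c * z' b = μ * (u c * z b) := fun u c => by
    have := congrFun (LinearMap.congr_fun h (emb i u z)) (ins i c b)
    rw [ten_split i, Module.End.mul_apply, out_emb, op_emb, LinearMap.smul_apply, Module.End.one_apply,
      Pi.smul_apply, emb_apply, emb_apply, ins_self,
      show (fun j : Oth i => ins i c b j.1) = b from funext fun j => ins_other _ _ _ j] at this
    exact this
  have hz' : z' b ≠ 0 := fun e => by
    have := key u₀ ⟨0, hk⟩
    rw [e, mul_zero] at this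
    simp [u₀, hμ, hb] at this
  refine ⟨μ * z b / z' b, LinearMap.ext fun u => funext fun c => ?_⟩
  rw [LinearMap.smul_apply, Module.End.one_apply, Pi.smul_apply, smul_eq_mul, div_mul_eq_mul_div, eq_div_iff hz', key]
  ring

theorem tenperm_apply (b : ι → GL (Fin k) F) (σ : Equiv.Perm ι) (x : ι → W F k) :
    lg (tenGL b * permGL σ) (pv x) = pv fun i => lg (b i) (x (σ.symm i)) := by
  rw [map_mul, Module.End.mul_apply, lg_permGL, lg_tenGL, permV_pv, ten_pv]
  rfl

theorem exists_pow_form (b : ι → GL (Fin k) F) (σ : Equiv.Perm ι) (n : ℕ) :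
    ∃ c : ι → GL (Fin k) F, (tenGL b * permGL σ) ^ n = tenGL c * permGL (σ ^ n) := by
  induction n with
  | zero =>
    refine ⟨1, lg_injective ?_⟩
    rw [pow_zero, pow_zero, map_one, map_mul, lg_tenGL, lg_permGL, permV_one, mul_one, ← ten_one]
    congr 1
    funext i
    simp
  | succ n ih =>
    obtain ⟨c, hc⟩ := ih
    refine ⟨fun i => c i * b ((σ ^ n).symm i), lg_injective ?_⟩
    rw [pow_succ, pow_succ, hc]
    simp only [map_mul, lg_tenGL, lg_permGL]
    rw [mul_assoc, ← mul_assoc (permV (σ ^ n)) (ten _), permV_ten, mul_assoc (ten _) (permV (σ ^ n)), permV_mul,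
      ← mul_assoc, ten_mul]
    rfl

variable {f : W F k → W F k → F} (hf : Sym f)
include hf

/-- A vector killed by the contraction after two given operators. -/
theorem exists_killed (hk : 3 ≤ k) (P Q : Module.End F (W F k)) (y : W F k) :
    ∃ x, x ≠ 0 ∧ f (P x) y = 0 ∧ f (Q x) y = 0 := by
  obtain ⟨z₁, hz₁⟩ := OTensor.exists_rep hf (((OTensor.bl hf).flip y).comp P)
  obtain ⟨z₂, hz₂⟩ := OTensor.exists_rep hf (((OTensor.bl hf).flip y).comp Q)
  obtain ⟨x, hx, hxz⟩ := OTensor.exists_perp_ne hf (show 2 < k by omega) ![z₁, z₂]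
  exact ⟨x, hx, (hz₁ x).trans (hxz 0), (hz₂ x).trans (hxz 1)⟩

theorem con_pv (i : ι) (y : W F k) (x : ι → W F k) :
    con f i y (pv x) = f (x i) y • pv fun j : Oth i => x j.1 := by
  rw [pv_restrict i, con_emb hf]

end Cfsg.Agent.OWreath
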