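import Cfsg.Agent.Lib.OWreathCore

/-!
An element stabilising a ruler up to scalars, between overgroups without excess, lies in the wreath group as soon as
its action on the ruler does.
-/

set_option autoImplicit false
set_option linter.unusedSectionVars false

namespace Cfsg.Agent.OWreath

open Cfsg.Agent.OTensor (Sym Hyp nn sq1 sie bl proj0 nn_apply sq1_apply smul_right' sub_left' neg_left')

variable {F : Type*} [Field F] {k : ℕ} {ι : Type} [Fintype ι] [DecidableEq ι] {f : W F k → W F k → F}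
variable (hf : Sym f)
include hf

theorem sim_nn {T : Module.End F (W F k)} {μ : F} (hT : ∀ x y, f (T x) (T y) = μ * f x y) {e : W F k}
    (hTe : T e = μ • e) (hμ : μ ≠ 0) (b : W F k) : T * nn hf e b = nn hf e (T b) * T := by
  refine LinearMap.ext fun u => ?_
  have h : f (T u) e = f u e := mul_left_cancel₀ hμ (by rw [← smul_right' hf, ← hTe, hT])
  simp only [Module.End.mul_apply, nn_apply, map_sub, map_smul, hT, hTe, h, smul_smul, mul_comm (f u b) μ]

theorem sim_sie {T : Module.End F (W F k)} {μ : F} (hT : ∀ x y, f (T x) (T y) = μ * f x y) {e : W F k}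
    (hTe : T e = μ • e) (hμ : μ ≠ 0) (b : W F k) : T * sie hf e b = sie hf e (T b) * T := by
  have h1 := sim_nn hf hT hTe hμ b
  rw [sie, sie, mul_add, mul_add, add_mul, add_mul, mul_one, one_mul, mul_smul_comm, smul_mul_assoc, ← mul_assoc T,
    h1, mul_assoc, h1, ← mul_assoc]

theorem sim_sq {T : Module.End F (W F k)} {μ : F} (hT : ∀ x y, f (T x) (T y) = μ * f x y) {e : W F k}
    (hTe : T e = μ • e) (hμ : μ ≠ 0) : T * sq1 hf e = μ • (sq1 hf e * T) := by
  refine LinearMap.ext fun u => ?_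
  have h : f (T u) e = f u e := mul_left_cancel₀ hμ (by rw [← smul_right' hf, ← hTe, hT])
  simp only [Module.End.mul_apply, LinearMap.smul_apply, sq1_apply, map_smul, hTe, h, smul_smul, mul_comm μ]

theorem nn_inj {e e' b b' : W F k} (H : Hyp f e e') (hb : f b e' = 0) (hb' : f b' e' = 0)
    (h : nn hf e b = nn hf e b') : b = b' := by
  have := LinearMap.congr_fun h e'
  simpa [nn_apply, OTensor.symm hf e' e, H.one, OTensor.symm hf e' b, OTensor.symm hf e' b', hb, hb'] using this

theorem nn_proj_eq {e e' a : W F k} (ha : f a e = 0) : nn hf e (proj0 f e e' a) = nn hf e a := by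
  rw [nn_proj hf, ha, zero_smul, sub_zero]

theorem sie_proj_eq {e e' a : W F k} (ha : f a e = 0) : sie hf e (proj0 f e e' a) = sie hf e a := by
  rw [sie, sie, nn_proj_eq hf ha]

theorem op_ne_zero {l : ι} {X : Module.End F (W F k)} (hX : X ≠ 0) (hk : 0 < k) : op l X ≠ 0 := by
  obtain ⟨x, hx⟩ : ∃ x, X x ≠ 0 := by
    by_contra! h
    exact hX (LinearMap.ext h)
  intro h
  have h' := LinearMap.congr_fun h (emb l x (Pi.single (fun _ => ⟨0, hk⟩) 1))
  rw [op_emb, LinearMap.zero_apply] at h'
  have := congrFun (emb_injective l hx (h'.trans (map_zero _).symm)) (fun _ => ⟨0, hk⟩)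
  simp at this

theorem sq1_ne {e e' : W F k} (H : Hyp f e e') : sq1 hf e ≠ 0 := fun h => by
  have := LinearMap.congr_fun h e'
  rw [sq1_apply, OTensor.symm hf e' e, H.one, one_smul] at this
  exact H.ne hf this

theorem eq_of_con (l : ι) {e e' : W F k} (H : Hyp f e e') {v v' : VI F ι k} (h1 : con f l e v = con f l e v')
    (h2 : con f l e' v = con f l e' v') (h3 : ∀ y, f y e = 0 → f y e' = 0 → con f l y v = con f l y v') : v = v' := by
  refine bT_right hf fun x => ?_
  rw [pv_restrict l x, bT_emb_left hf, bT_emb_left hf]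
  congr 1
  obtain ⟨p1, p2⟩ := OTensor.proj0_perp hf H (x l)
  have hadd : ∀ y y' (w : VI F ι k), con f l (y + y') w = con f l y w + con f l y' w := fun y y' w => by
    simp [con, hf.add_right, add_smul, Finset.sum_add_distrib, LinearMap.sum_apply]
  have hsm : ∀ (c : F) y (w : VI F ι k), con f l (c • y) w = c • con f l y w := fun c y w => by
    simp [con, smul_right' hf, LinearMap.sum_apply, Finset.smul_sum, smul_smul]
  rw [OTensor.decomp hf e e' (x l), hadd, hadd, hadd, hadd, hsm, hsm, hsm, hsm, h1, h2, h3 _ p1 p2]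

theorem con_nn {l : ι} {e a y : W F k} (hy : f y e = 0) (v : VI F ι k) :
    con f l y (op l (nn hf e a) v) = -(f a y) • con f l e v := by
  rw [con_op hf l y (-(f a y) • e) _ (fun x => by
    simp [nn_apply, sub_left' hf, hf.smul_left, OTensor.symm hf e y, hy, smul_right' hf, hf.neg_right]
    ring)]
  simp [con, smul_right' hf, LinearMap.sum_apply, Finset.smul_sum, smul_smul, hf.neg_right]

theorem con_sq {l : ι} {e y : W F k} (hy : f y e = 0) (v : VI F ι k) :
    con f l y (op l (sq1 hf e) v) = 0 := by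
  rw [op_sq hf, con_emb hf, OTensor.symm hf, hy, zero_smul]

theorem con_sie {l : ι} {e a y : W F k} (he : f e e = 0) (ha : f a e = 0) (hy : f y e = 0) (v : VI F ι k) :
    con f l y (op l (sie hf e a) v) = con f l y v - f a y • con f l e v := by
  rw [sie_eq hf he ha, op_add, op_add, op_one, op_smul, LinearMap.add_apply, LinearMap.add_apply, LinearMap.smul_apply,
    Module.End.one_apply, map_add, map_add, map_smul, con_nn hf hy, con_sq hf hy, smul_zero, add_zero, neg_smul,
    ← sub_eq_add_neg]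

theorem con_e_fix {l : ι} {e e' : W F k} (H : Hyp f e e') (h2 : (2 : F) ≠ 0) (hk : 3 ≤ k)
    {T : Module.End F (VI F ι k)} (hT : Cen hf l e T) (hfix : ∀ u, T (emb l e u) = emb l e u) (u : VI F (Oth l) k) :
    con f l e (T (emb l e' u)) = u := by
  have h := LinearMap.congr_fun (hT.sq hf H h2 hk) (emb l e' u)
  rw [Module.End.mul_apply, Module.End.mul_apply, op_sq hf, op_emb, sq1_apply, OTensor.symm hf e' e, H.one, one_smul,
    hfix] at h
  exact emb_injective l (H.ne hf) h

/-- A commuting operator fixing the ruler is in the radical. -/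
theorem rad_of_cen {l : ι} {e e' : W F k} (H : Hyp f e e') (h2 : (2 : F) ≠ 0) (hk : 3 ≤ k)
    {T : Module.End F (VI F ι k)} (hT : Cen hf l e T) (hfix : ∀ u, T (emb l e u) = emb l e u) :
    Rad (op l (sq1 hf e)) (T - 1) := by
  have h1 : (T - 1) * op l (sq1 hf e) = 0 := (kill_iff hf H _).2 fun u => by
    rw [LinearMap.sub_apply, hfix, Module.End.one_apply, sub_self]
  have hc := hT.sq hf H h2 hk
  refine ⟨h1, by rw [mul_sub, mul_one, hc]; rwa [sub_mul, one_mul] at h1,
    fun v hv => ?_⟩
  have hJ : Cen hf l e (T - 1) := hT.sub hf fun a _ => by rw [mul_one, one_mul]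
  have hv' := (ker_iff hf (H.ne hf) v).1 hv
  rw [hJ.shape_kill hf H h2 hk fun u => by rw [LinearMap.sub_apply, hfix, Module.End.one_apply, sub_self]]
  rw [LinearMap.add_apply, Module.End.mul_apply, midC, LinearMap.sum_apply]
  simp only [Module.End.mul_apply, op_nn hf, con_out hf, hv', map_zero, sub_zero]
  rw [← map_sum]
  obtain ⟨w, hw⟩ := range_mem hf H (∑ c, (-((prj l c).comp ((T - 1).comp (emb l e'))))
    (con f l (proj0 f e e' (Pi.single c 1)) v))
  exact ⟨_ + w, by rw [map_add, hw]⟩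

/-- An operator commuting with the Siegel elements at all positions is scalar. -/
theorem scalar_of_sie [Fintype F] (hS : Std f) {B : Module.End F (VI F ι k)}
    (h : ∀ p e a, f e e = 0 → f a e = 0 → op p (sie hf e a) * B = B * op p (sie hf e a)) : ∃ c : F, B = c • 1 := by
  classical
  refine scalar_of_comm hf hS fun p => ?_
  let L : Submodule F (Module.End F (W F k)) :=
    { carrier := {Y | op p Y * B = B * op p Y}
      zero_mem' := by simp [op_zero]
      add_mem' := fun {a b} ha hb => by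
        show op p (a + b) * B = B * op p (a + b)
        rw [op_add, add_mul, mul_add, ha, hb]
      smul_mem' := fun c a ha => by
        show op p (c • a) * B = B * op p (c • a)
        rw [op_smul, smul_mul_assoc, mul_smul_comm, ha] }
  obtain ⟨e, he0, he⟩ := OTensor.exists_singular hf hS.hk
  obtain ⟨e', he', h1⟩ := OTensor.exists_partner hf hS.two he0 he
  have H : Hyp f e e' := ⟨he, he', h1⟩
  obtain ⟨u, u1, u2, u3⟩ := OTensor.exists_aniso hf hS.two hS.hk H
  have hnu : f (-u) e = 0 := by rw [neg_left' hf, u1, neg_zero]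
  have hmem : nn hf e u ∈ L := by
    have h2 : sie hf e u - sie hf e (-u) = (2 : F) • nn hf e u := by
      rw [OTensor.sie_neg hf, sie]; module
    have := L.smul_mem (2 : F)⁻¹ (L.sub_mem (h p e u he u1 : sie hf e u ∈ L) (h p e (-u) he hnu))
    rwa [h2, inv_smul_smul₀ hS.two] at this
  have hne : nn hf e u ≠ 0 := fun h0 => by
    have := nn_inj hf H u2 (hf.zero_left _) (b' := 0) (by rw [h0, ← zero_smul F u, nn_smul hf, zero_smul])
    exact u3 (by rw [this, hf.zero_left])
  intro v w
  refine OTensor.skew_full hf hS.two hS.hk hS.sane L (fun e d he hd Z hZ => ?_) hmem (OTensor.nn_skew hf e u) hne v w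
  show op p _ * B = B * op p _
  rw [← op_mul, ← op_mul, mul_assoc, h p e (-d) he (by rw [neg_left' hf, hd, neg_zero]), ← mul_assoc,
    mul_assoc (op p (sie hf e d)), show op p Z * B = B * op p Z from hZ, ← mul_assoc, h p e d he hd]
  simp only [mul_assoc]

variable [Fintype F] (hS : Std f) {M M' : Subgroup (GL (ι → Fin k) F)} (hM : Ovr f M) (hM' : Ovr f M')
  (hN' : NoExcess hf M') {g : GL (ι → Fin k) F} (hg : g ∈ isoV f) (hconj : ∀ x ∈ M, g * x * g⁻¹ ∈ M')
  {l : ι} {e e' : W F k} (H : Hyp f e e') {ν : F} (hν : ν ≠ 0)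
  (hgS : lg g * op l (sq1 hf e) = ν • (op l (sq1 hf e) * lg g))
include hS hM hM' hN' hg hconj H hν hgS

/-- Conjugation by a stabiliser of the ruler acts on the Siegel group at the ruler. -/
theorem conj_nn (a : W F k) (ha : f a e = 0) : ∃ b, f b e = 0 ∧ f b e' = 0 ∧ f b b = ν * f a a ∧
    lg g * op l (nn hf e a) = op l (nn hf e b) * lg g := by
  have h2 := hS.two
  set S := op l (sq1 hf e) with hSdef
  set x := opGL l (sieW hf h2 H.ee ha) with hx
  have hgS' : lg g * S * lg g⁻¹ = ν • S := by rw [hgS, smul_mul_assoc, mul_assoc, lg_mul_inv, mul_one]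
  have hSg : S * lg g = ν⁻¹ • (lg g * S) := by rw [hgS, inv_smul_smul₀ hν]
  have hSg' : S * lg g⁻¹ = ν • (lg g⁻¹ * S) := by
    calc S * lg g⁻¹ = lg g⁻¹ * (lg g * S * lg g⁻¹) := by rw [← mul_assoc, ← mul_assoc, lg_conj_inv, one_mul]
      _ = _ := by rw [hgS', mul_smul_comm]
  have hg'S : lg g⁻¹ * S = ν⁻¹ • (S * lg g⁻¹) := by rw [hSg', inv_smul_smul₀ hν]
  obtain ⟨r1, r2, r3⟩ := Rad.sie hf (l := l) H ha
  have e0 : lg (g * x * g⁻¹) - 1 = lg g * (op l (sie hf e a) - 1) * lg g⁻¹ := by
    rw [map_mul, map_mul, hx, lg_opGL, lg_sieW, mul_sub, sub_mul, mul_one, lg_mul_inv]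
  have hr : Rad S (lg (g * x * g⁻¹) - 1) := by
    rw [e0]
    refine ⟨?_, ?_, fun v hv => ?_⟩
    · rw [mul_assoc, hg'S, mul_smul_comm, ← mul_assoc, mul_assoc (lg g), r1, mul_zero, zero_mul, smul_zero]
    · rw [← mul_assoc, ← mul_assoc, hSg, smul_mul_assoc, smul_mul_assoc, mul_assoc (lg g) S, r2, mul_zero, zero_mul,
        smul_zero]
    · obtain ⟨w, hw⟩ := r3 (lg g⁻¹ v) (by
        rw [← Module.End.mul_apply, hSg', LinearMap.smul_apply, Module.End.mul_apply, hv, map_zero, smul_zero])
      refine ⟨ν • lg g w, ?_⟩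
      rw [Module.End.mul_apply, Module.End.mul_apply, hw, ← Module.End.mul_apply, hgS, LinearMap.smul_apply,
        Module.End.mul_apply, map_smul]
  obtain ⟨c, hc, hcx⟩ := NoExcess.rad hf h2 hS.hk hM' hN' H (hconj x (hM.sie_mem hf h2 l H.ee ha)) hr
  obtain ⟨p1, p2⟩ := OTensor.proj0_perp hf H c
  set b := proj0 f e e' c with hb
  rw [← sie_proj_eq hf hc (e' := e'), ← hb] at hcx
  set t : F := -(2 : F)⁻¹ * f b b + ν * ((2 : F)⁻¹ * f a a) with ht
  have hN : lg g * op l (nn hf e a) * lg g⁻¹ = op l (nn hf e b) + t • S := by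
    have e1 : op l (nn hf e a) = (op l (sie hf e a) - 1) + ((2 : F)⁻¹ * f a a) • S := by
      rw [sie_eq hf H.ee ha, op_add, op_add, op_one, op_smul]; module
    rw [e1, mul_add, add_mul, mul_smul_comm, smul_mul_assoc, ← e0, hgS', hcx, sie_eq hf H.ee p1, op_add, op_add,
      op_one, op_smul, ← hSdef, ht]
    module
  have hsq : f b b = ν * f a a := by
    have h3 : lg g * op l (nn hf e a) * lg g⁻¹ * (lg g * op l (nn hf e a) * lg g⁻¹) =
        lg g * (op l (nn hf e a) * op l (nn hf e a)) * lg g⁻¹ := by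
      simp only [mul_assoc]
      rw [← mul_assoc (lg g⁻¹), lg_conj_inv, one_mul]
    rw [hN, add_mul, mul_add, mul_add, mul_smul_comm, smul_mul_assoc, smul_mul_smul_comm, hSdef, op_mul, op_mul, op_mul,
      op_mul, op_mul, nn_mul_sq hf H.ee p1, sq_mul_nn hf H.ee p1, sq_mul_sq hf H.ee, op_zero, smul_zero, smul_zero,
      add_zero, add_zero, add_zero, nn_mul_nn hf H.ee p1 p1, nn_mul_nn hf H.ee ha ha, op_smul, op_smul, mul_smul_comm,
      smul_mul_assoc, ← hSdef, hgS', smul_smul] at h3
    have := smul_left_injective F (op_ne_zero hf (sq1_ne hf H) (show 0 < k by have := hS.hk; omega)) h3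
    linear_combination -this
  refine ⟨b, p1, p2, hsq, ?_⟩
  have ht0 : t = 0 := by rw [ht, hsq]; ring
  rw [ht0, zero_smul, add_zero] at hN
  rw [← hN, mul_assoc, lg_conj_inv, mul_one]

/-- The similitude at the position and the similitude on the ruler. -/
theorem exists_gamma : ∃ (γ : GL (Fin k) F) (A : GL (Oth l → Fin k) F),
    (∀ x y, f (lg γ x) (lg γ y) = ν * f x y) ∧ lg γ e = ν • e ∧
    (∀ u w, bT f (lg A u) (lg A w) = ν⁻¹ * bT f u w) ∧ (∀ u, lg g (emb l e u) = ν • emb l e (lg A u)) ∧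
    Cen hf l e (lg ((opGL l γ)⁻¹ * g)) := by
  classical
  have h2 := hS.two
  have hk := hS.hk
  choose! σ σ1 σ2 σ3 σ4 using conj_nn hf hS hM hM' hN' hg hconj H hν hgS
  have hinj : ∀ {x y : W F k}, f x e' = 0 → f y e' = 0 → op l (nn hf e x) * lg g = op l (nn hf e y) * lg g →
      x = y := fun {x y} hx hy h => by
    have h' := congrArg (fun T => T * lg g⁻¹) h
    simp only [mul_assoc, lg_mul_inv, mul_one] at h'
    refine nn_inj hf H hx hy (by_contra fun hne => op_ne_zero hf (l := l) (sub_ne_zero.2 hne) (show 0 < k by omega) ?_)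
    rw [op_sub, h', sub_self]
  let p : W F k → W F k := proj0 f e e'
  have hp : ∀ x, f (p x) e = 0 ∧ f (p x) e' = 0 := OTensor.proj0_perp hf H
  have padd : ∀ x y, p (x + y) = p x + p y := fun x y => by simp [p, proj0, hf.add_left]; module
  have psmul : ∀ (c : F) x, p (c • x) = c • p x := fun c x => by simp [p, proj0, hf.smul_left]; module
  have σadd : ∀ x y, f x e = 0 → f y e = 0 → σ (x + y) = σ x + σ y := fun x y hx hy => by
    have hxy : f (x + y) e = 0 := by rw [hf.add_left, hx, hy, add_zero]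
    refine hinj (σ2 _ hxy) (by rw [hf.add_left, σ2 _ hx, σ2 _ hy, add_zero]) ?_
    rw [← σ4 _ hxy, nn_add hf, nn_add hf, op_add, op_add, mul_add, σ4 _ hx, σ4 _ hy, add_mul]
  have σsmul : ∀ (c : F) x, f x e = 0 → σ (c • x) = c • σ x := fun c x hx => by
    have hcx : f (c • x) e = 0 := by rw [hf.smul_left, hx, mul_zero]
    refine hinj (σ2 _ hcx) (by rw [hf.smul_left, σ2 _ hx, mul_zero]) ?_
    rw [← σ4 _ hcx, nn_smul hf, nn_smul hf, op_smul, op_smul, mul_smul_comm, σ4 _ hx, smul_mul_assoc]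
  let γL : Module.End F (W F k) :=
    { toFun := fun x => (ν * f x e') • e + f x e • e' + σ (p x)
      map_add' := fun x y => by rw [padd, σadd _ _ (hp x).1 (hp y).1, hf.add_left, hf.add_left]; module
      map_smul' := fun c x => by
        rw [psmul, σsmul _ _ (hp x).1, hf.smul_left, hf.smul_left, RingHom.id_apply]; module }
  have γapp : ∀ x, γL x = (ν * f x e') • e + f x e • e' + σ (p x) := fun x => rfl
  have σpol : ∀ x y, f x e = 0 → f y e = 0 → f (σ x) (σ y) = ν * f x y := fun x y hx hy => by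
    have h := σ3 (x + y) (by rw [hf.add_left, hx, hy, add_zero])
    rw [σadd _ _ hx hy] at h
    simp only [hf.add_left, hf.add_right, σ3 x hx, σ3 y hy, OTensor.symm hf y x, OTensor.symm hf (σ y) (σ x)] at h
    exact mul_left_cancel₀ h2 (by linear_combination h)
  have h1' : f e' e = 1 := by rw [OTensor.symm hf, H.one]
  have γsim : ∀ x y, f (γL x) (γL y) = ν * f x y := fun x y => by
    conv_rhs => rw [OTensor.decomp hf e e' x, OTensor.decomp hf e e' y]
    rw [γapp, γapp]
    simp only [hf.add_left, hf.add_right, hf.smul_left, smul_right' hf, H.ee, H.ee', H.one, h1',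
      σ1 _ (hp _).1, σ2 _ (hp _).1, OTensor.symm hf e (σ (p y)), OTensor.symm hf e' (σ (p y)),
      σpol _ _ (hp x).1 (hp y).1, show proj0 f e e' x = p x from rfl, show proj0 f e e' y = p y from rfl,
      (hp x).1, (hp x).2, (hp y).1, (hp y).2, OTensor.symm hf e (p y), OTensor.symm hf e' (p y)]
    ring
  have γe : γL e = ν • e := by
    have pe : p e = 0 := by simp [p, proj0, H.ee, H.one]
    rw [γapp, pe, show σ 0 = 0 by simpa using σsmul 0 0 (hf.zero_left _), H.ee, H.one]; module
  have γW : ∀ a, f a e = 0 → nn hf e (γL a) = nn hf e (σ (p a)) := fun a ha => by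
    rw [γapp, ha, zero_smul, add_zero, nn_add hf, nn_smul hf, nn_self hf, smul_zero, zero_add]
  have γinj : Function.Injective γL := by
    rw [← LinearMap.ker_eq_bot, LinearMap.ker_eq_bot']
    intro x hx
    refine hf.nd x fun y => ?_
    have := γsim x y
    rw [hx, hf.zero_left] at this
    exact (mul_eq_zero.1 this.symm).resolve_left hν
  let E' := LinearEquiv.ofBijective γL ⟨γinj, LinearMap.surjective_of_injective γinj⟩
  let γ : GL (Fin k) F := mkGL γL (E'.symm : Module.End F (W F k)) (LinearMap.ext fun v => E'.apply_symm_apply v)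
  have hγ : lg γ = γL := lg_mkGL _ _ _
  set r := (opGL l γ)⁻¹ * g with hr
  have hγr : lg g = op l γL * lg r := by rw [hr, map_mul, ← hγ, ← lg_opGL, ← mul_assoc, lg_mul_inv, one_mul]
  have hrC : Cen hf l e (lg r) := fun a ha => by
    have e1 : op l γL * op l (nn hf e a) = op l (nn hf e (γL a)) * op l γL := by
      rw [op_mul, op_mul, sim_nn hf γsim γe hν]
    have e2 : op l γL * (op l (nn hf e a) * lg r) = op l γL * (lg r * op l (nn hf e a)) := by
      rw [← mul_assoc, e1, γW a ha, ← mul_assoc (op l γL) (lg r), ← hγr, mul_assoc, ← hγr, ← σ4 _ (hp a).1,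
        nn_proj_eq hf ha]
    have := congrArg (fun T => lg (opGL l γ)⁻¹ * T) e2
    simp only [← mul_assoc, ← hγ, ← lg_opGL, lg_conj_inv, one_mul] at this
    exact this
  let AL : Module.End F (VI F (Oth l) k) := (con f l e).comp ((lg r).comp (emb l e'))
  have hre : ∀ u, lg r (emb l e u) = emb l e (AL u) := fun u => by
    have h := LinearMap.congr_fun (hrC.sq hf H h2 hk) (emb l e' u)
    rw [Module.End.mul_apply, Module.End.mul_apply, op_sq hf, op_emb, sq1_apply, h1', one_smul] at h
    exact h.symm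
  have hrsim : ∀ u w, bT f (lg r u) (lg r w) = ν⁻¹ * bT f u w := fun u w => by
    have hop : ∀ a b, bT f (op l γL a) (op l γL b) = ν * bT f a b := by
      have e' : (bT f).compl₁₂ (op l γL) (op l γL) = ν • (bT f : LinearMap.BilinForm F (VI F ι k)) :=
        bT_ext hf fun x y => by
          rw [LinearMap.compl₁₂_apply, LinearMap.smul_apply, LinearMap.smul_apply, pv_restrict l x, pv_restrict l y,
            op_emb, op_emb, bT_emb hf, bT_emb hf, γsim, smul_eq_mul, mul_assoc]
      exact fun a b => LinearMap.congr_fun₂ e' a b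
    have h := hg u w
    rw [hγr, Module.End.mul_apply, Module.End.mul_apply, hop] at h
    rw [← h, ← mul_assoc, inv_mul_cancel₀ hν, one_mul]
  have hA : ∀ u w, bT f (AL u) (AL w) = ν⁻¹ * bT f u w := fun u w => by
    have h := hrsim (emb l e u) (emb l e' w)
    rw [hre, bT_emb_left hf, bT_emb hf, H.one, one_mul] at h
    exact h
  have hAinj : Function.Injective AL := by
    rw [← LinearMap.ker_eq_bot, LinearMap.ker_eq_bot']
    intro u hu
    refine bT_nd hf u fun w => ?_
    have := hA u w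
    rw [hu, map_zero, LinearMap.zero_apply] at this
    exact (mul_eq_zero.1 this.symm).resolve_left (inv_ne_zero hν)
  let E := LinearEquiv.ofBijective AL ⟨hAinj, LinearMap.surjective_of_injective hAinj⟩
  let A : GL (Oth l → Fin k) F := mkGL AL (E.symm : Module.End F (VI F (Oth l) k))
    (LinearMap.ext fun v => E.apply_symm_apply v)
  have hA' : lg A = AL := lg_mkGL _ _ _
  refine ⟨γ, A, fun x y => by rw [hγ]; exact γsim x y, by rw [hγ]; exact γe, fun u w => by rw [hA']; exact hA u w,
    fun u => ?_, hrC⟩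
  rw [hγr, Module.End.mul_apply, hre, op_emb, γe, emb_smul, LinearMap.smul_apply, hA']

omit hS hM hM' hN' hg hconj hν hgS in
/-- Conjugation transfer: an element whose conjugate lies in an overgroup without excess is a Siegel element. -/
theorem transfer (hS : Std f) (hM' : Ovr f M') (hN' : NoExcess hf M') {γ : GL (Fin k) F} {h : GL (ι → Fin k) F}
    {μ : F} (hμ : μ ≠ 0) (hγ : ∀ x y, f (lg γ x) (lg γ y) = μ * f x y) (hγe : lg γ e = μ • e)
    (hh : ∃ B : Module.End F (VI F (Oth l) k), lg h = op l (lg γ) * out l B)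
    {z : GL (ι → Fin k) F} (hzC : Cen hf l e (lg z)) (hzf : ∀ u, lg z (emb l e u) = emb l e u)
    (hz : h * z * h⁻¹ ∈ M') : ∃ a, f a e = 0 ∧ lg z = op l (sie hf e a) := by
  set S := op l (sq1 hf e) with hSdef
  obtain ⟨B, hB⟩ := hh
  have hhS : lg h * S = μ • (S * lg h) := by
    rw [hB, hSdef, mul_assoc, ← op_out, ← mul_assoc, ← mul_assoc, op_mul, op_mul, sim_sq hf hγ hγe hμ, op_smul,
      smul_mul_assoc]
  have hSh : S * lg h = μ⁻¹ • (lg h * S) := by rw [hhS, inv_smul_smul₀ hμ]
  have hgS' : lg h * S * lg h⁻¹ = μ • S := by rw [hhS, smul_mul_assoc, mul_assoc, lg_mul_inv, mul_one]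
  have hSg' : S * lg h⁻¹ = μ • (lg h⁻¹ * S) := by
    calc S * lg h⁻¹ = lg h⁻¹ * (lg h * S * lg h⁻¹) := by rw [← mul_assoc, ← mul_assoc, lg_conj_inv, one_mul]
      _ = _ := by rw [hgS', mul_smul_comm]
  have hg'S : lg h⁻¹ * S = μ⁻¹ • (S * lg h⁻¹) := by rw [hSg', inv_smul_smul₀ hμ]
  obtain ⟨r1, r2, r3⟩ := rad_of_cen hf H hS.two hS.hk hzC hzf
  have e0 : lg (h * z * h⁻¹) - 1 = lg h * (lg z - 1) * lg h⁻¹ := by
    rw [map_mul, map_mul, mul_sub, sub_mul, mul_one, lg_mul_inv]
  have hr : Rad S (lg (h * z * h⁻¹) - 1) := by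
    rw [e0]
    refine ⟨?_, ?_, fun v hv => ?_⟩
    · rw [mul_assoc, hg'S, mul_smul_comm, ← mul_assoc, mul_assoc (lg h), r1, mul_zero, zero_mul, smul_zero]
    · rw [← mul_assoc, ← mul_assoc, hSh, smul_mul_assoc, smul_mul_assoc, mul_assoc (lg h) S, r2, mul_zero, zero_mul,
        smul_zero]
    · obtain ⟨w, hw⟩ := r3 (lg h⁻¹ v) (by
        rw [← Module.End.mul_apply, hSg', LinearMap.smul_apply, Module.End.mul_apply, hv, map_zero, smul_zero])
      refine ⟨μ • lg h w, ?_⟩
      rw [Module.End.mul_apply, Module.End.mul_apply, hw, ← Module.End.mul_apply, hhS, LinearMap.smul_apply,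
        Module.End.mul_apply, map_smul]
  obtain ⟨c, hc, hcz⟩ := NoExcess.rad hf hS.two hS.hk hM' hN' H hz hr
  -- pull back along the similitude
  have hγ' : ∀ x y, f (lg γ⁻¹ x) (lg γ⁻¹ y) = μ⁻¹ * f x y := fun x y => by
    have := hγ (lg γ⁻¹ x) (lg γ⁻¹ y)
    rw [lg_apply_inv, lg_apply_inv] at this
    rw [this, ← mul_assoc, inv_mul_cancel₀ hμ, one_mul]
  have hγ'e : lg γ⁻¹ e = μ⁻¹ • e := by
    have := congrArg (lg γ⁻¹) hγe
    rw [lg_inv_apply, map_smul] at this
    rw [eq_comm, inv_smul_eq_iff₀ hμ]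
    exact this
  refine ⟨lg γ⁻¹ c, ?_, ?_⟩
  · have := hγ' c e
    rw [hγ'e, smul_right' hf, hc, mul_zero] at this
    exact (mul_eq_zero.1 this).resolve_left (inv_ne_zero hμ)
  · have hlin : lg z = lg h⁻¹ * op l (sie hf e c) * lg h := by
      rw [← hcz, ← map_mul, ← map_mul]
      congr 1
      group
    have key : sie hf e c * lg γ = lg γ * sie hf e (lg γ⁻¹ c) := by
      rw [sim_sie hf hγ hγe hμ, lg_apply_inv]
    rw [hlin, mul_assoc, hB, ← mul_assoc (op l _), op_mul, key, ← op_mul, mul_assoc (op l (lg γ)), op_out,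
      ← mul_assoc (op l (lg γ)), ← hB, ← mul_assoc, lg_conj_inv, one_mul]

/-- The coefficient functionals of a commuting operator on its middle layer. -/
def mid (f : W F k → W F k → F) (l : ι) (e' : W F k) (T : Module.End F (VI F ι k)) (y : W F k) :
    Module.End F (VI F (Oth l) k) :=
  (con f l y).comp (T.comp (emb l e'))

end Cfsg.Agent.OWreath
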