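import Cfsg.Agent.Lib.OWreathBase

/-!
Splitting a tensor power at one position: embeddings, contractions and operators on the other positions.
-/

set_option autoImplicit false
set_option linter.unusedSectionVars false

namespace Cfsg.Agent.OWreath

open Cfsg.Agent.OTensor (Sym)

variable {F : Type*} [Field F] {k : ℕ} {ι : Type} [Fintype ι] [DecidableEq ι]

/-- Insert a value at a position. -/
def ins {α : Sort*} (l : ι) (c : α) (x : Oth l → α) : ι → α := fun i => if h : i = l then c else x ⟨i, h⟩

theorem ins_self {α : Sort*} (l : ι) (c : α) (x : Oth l → α) : ins l c x l = c := dif_pos rfl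

theorem ins_other {α : Sort*} (l : ι) (c : α) (x : Oth l → α) (i : Oth l) : ins l c x i.1 = x i := dif_neg i.2

theorem ins_of_ne {α : Sort*} {l i : ι} (h : i ≠ l) (c : α) (x : Oth l → α) : ins l c x i = x ⟨i, h⟩ := dif_neg h

theorem ins_restrict {α : Sort*} (l : ι) (x : ι → α) : ins l (x l) (fun i : Oth l => x i.1) = x := by
  funext i
  by_cases h : i = l
  · subst h; exact ins_self _ _ _
  · exact ins_of_ne h _ _

theorem update_ins {α : Sort*} (l : ι) (c c' : α) (x : Oth l → α) :
    Function.update (ins l c x) l c' = ins l c' x := by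
  funext i
  by_cases h : i = l
  · subst h; rw [Function.update_self, ins_self]
  · rw [Function.update_of_ne h, ins_of_ne h, ins_of_ne h]

theorem prod_split {M : Type*} [CommMonoid M] (l : ι) (g : ι → M) : ∏ i, g i = g l * ∏ i : Oth l, g i.1 := by
  rw [← Finset.mul_prod_erase _ _ (Finset.mem_univ l)]
  congr 1
  exact Finset.prod_subtype _ (fun i => by simp) g

theorem sum_ins {M : Type*} [AddCommMonoid M] (l : ι) (φ : (ι → Fin k) → M) :
    ∑ a, φ a = ∑ c, ∑ b : Oth l → Fin k, φ (ins l c b) := by
  rw [← Fintype.sum_prod_type (f := fun z : Fin k × (Oth l → Fin k) => φ (ins l z.1 z.2))]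
  exact (Fintype.sum_equiv
    { toFun := fun z : Fin k × (Oth l → Fin k) => ins l z.1 z.2
      invFun := fun a => (a l, fun i => a i.1)
      left_inv := fun z => Prod.ext (ins_self _ _ _) (funext fun i => ins_other _ _ _ i)
      right_inv := fun a => ins_restrict l a } _ _ fun _ => rfl).symm

/-- The embedding of the other positions along a vector. -/
def emb (l : ι) (x : W F k) : VI F (Oth l) k →ₗ[F] VI F ι k where
  toFun u := fun a => x (a l) * u fun i => a i.1
  map_add' u w := funext fun a => by simp [mul_add]
  map_smul' c u := funext fun a => by simp [mul_left_comm]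

theorem emb_apply (l : ι) (x : W F k) (u : VI F (Oth l) k) (a : ι → Fin k) :
    emb l x u a = x (a l) * u fun i => a i.1 := rfl

theorem emb_pv (l : ι) (x : W F k) (y : Oth l → W F k) : emb l x (pv y) = pv (ins l x y) := by
  funext a
  rw [emb_apply, pv, pv, prod_split l, ins_self]
  congr 1
  exact Finset.prod_congr rfl fun i _ => by rw [ins_other]

theorem emb_add (l : ι) (x y : W F k) : emb l (x + y) = emb l x + emb l y :=
  LinearMap.ext fun u => funext fun a => by simp [emb_apply, add_mul]

theorem emb_smul (l : ι) (c : F) (x : W F k) : emb l (c • x) = c • emb l x :=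
  LinearMap.ext fun u => funext fun a => by simp [emb_apply, mul_assoc]

theorem emb_zero (l : ι) : emb l (0 : W F k) = 0 :=
  LinearMap.ext fun u => funext fun a => by simp [emb_apply]

theorem emb_injective (l : ι) {x : W F k} (hx : x ≠ 0) : Function.Injective (emb l x) := by
  obtain ⟨c, hc⟩ := Function.ne_iff.1 hx
  intro u w h
  funext b
  have := congrFun h (ins l c b)
  rw [emb_apply, emb_apply, ins_self, show (fun i : Oth l => ins l c b i.1) = b from
    funext fun i => ins_other _ _ _ i] at this
  exact mul_left_cancel₀ hc this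

theorem pv_restrict (l : ι) (x : ι → W F k) : pv x = emb l (x l) (pv fun i : Oth l => x i.1) := by
  rw [emb_pv, ins_restrict]

theorem ext_split {M : Type*} [AddCommGroup M] [Module F M] (l : ι) {φ ψ : VI F ι k →ₗ[F] M}
    (h : ∀ x u, φ (emb l x u) = ψ (emb l x u)) : φ = ψ :=
  ext_pv fun x => by rw [pv_restrict l]; exact h _ _

theorem op_emb (l : ι) (X : Module.End F (W F k)) (x : W F k) (u : VI F (Oth l) k) :
    op l X (emb l x u) = emb l (X x) u := by
  have e : (op l X).comp (emb l x) = emb l (X x) := ext_pv fun y => by
    rw [LinearMap.comp_apply, emb_pv, op_pv, emb_pv, update_ins, ins_self]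
  exact LinearMap.congr_fun e u

/-- The coordinate projection at one position. -/
def prj (l : ι) (c : Fin k) : VI F ι k →ₗ[F] VI F (Oth l) k := LinearMap.funLeft F F fun b => ins l c b

theorem sum_emb_prj (l : ι) (v : VI F ι k) : ∑ c, emb l (Pi.single c 1) (prj l c v) = v := by
  funext a
  rw [Finset.sum_apply, Finset.sum_eq_single (a l) (fun c _ hc => by simp [emb_apply, Ne.symm hc]) (by simp),
    emb_apply, Pi.single_eq_same, one_mul]
  show v (ins l (a l) fun i => a i.1) = v a
  rw [ins_restrict]

theorem prj_emb (l : ι) (c : Fin k) (x : W F k) (u : VI F (Oth l) k) : prj l c (emb l x u) = x c • u := by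
  funext b
  show emb l x u (ins l c b) = x c * u b
  rw [emb_apply, ins_self, show (fun i : Oth l => ins l c b i.1) = b from funext fun i => ins_other _ _ _ i]

/-- An operator on the other positions. -/
def out (l : ι) (B : Module.End F (VI F (Oth l) k)) : Module.End F (VI F ι k) :=
  ∑ c, (emb l (Pi.single c 1)).comp (B.comp (prj l c))

theorem out_emb (l : ι) (B : Module.End F (VI F (Oth l) k)) (x : W F k) (u : VI F (Oth l) k) :
    out l B (emb l x u) = emb l x (B u) := by
  simp only [out, LinearMap.sum_apply, LinearMap.comp_apply, prj_emb, map_smul]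
  funext a
  simp [emb_apply, Finset.sum_apply, Pi.single_apply]

theorem out_mul (l : ι) (B B' : Module.End F (VI F (Oth l) k)) : out l B * out l B' = out l (B * B') :=
  ext_split l fun x u => by rw [Module.End.mul_apply, out_emb, out_emb, out_emb]; rfl

theorem out_one (l : ι) : out l (1 : Module.End F (VI F (Oth l) k)) = 1 :=
  ext_split l fun x u => by rw [out_emb]; rfl

/-- The operators on the other positions, as a linear map. -/
def outHom (l : ι) : Module.End F (VI F (Oth l) k) →ₗ[F] Module.End F (VI F ι k) where
  toFun := out l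
  map_add' B B' := ext_split l fun x u => by
    rw [LinearMap.add_apply, out_emb, out_emb, out_emb, LinearMap.add_apply, map_add]
  map_smul' c B := ext_split l fun x u => by
    rw [RingHom.id_apply, LinearMap.smul_apply, out_emb, out_emb, LinearMap.smul_apply, map_smul]

theorem outHom_apply (l : ι) (B : Module.End F (VI F (Oth l) k)) : outHom l B = out l B := rfl

theorem out_add (l : ι) (B B' : Module.End F (VI F (Oth l) k)) : out l (B + B') = out l B + out l B' :=
  map_add (outHom l) B B'

theorem out_sub (l : ι) (B B' : Module.End F (VI F (Oth l) k)) : out l (B - B') = out l B - out l B' :=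
  map_sub (outHom l) B B'

theorem out_neg (l : ι) (B : Module.End F (VI F (Oth l) k)) : out l (-B) = -out l B := map_neg (outHom l) B

theorem out_smul (l : ι) (c : F) (B : Module.End F (VI F (Oth l) k)) : out l (c • B) = c • out l B :=
  map_smul (outHom l) c B

theorem out_zero (l : ι) : out l (0 : Module.End F (VI F (Oth l) k)) = 0 := map_zero (outHom l)

theorem op_out (l : ι) (X : Module.End F (W F k)) (B : Module.End F (VI F (Oth l) k)) :
    op l X * out l B = out l B * op l X :=
  ext_split l fun x u => by
    rw [Module.End.mul_apply, Module.End.mul_apply, out_emb, op_emb, op_emb, out_emb]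

theorem mix_mul (l : ι) (X Y : Module.End F (W F k)) (B B' : Module.End F (VI F (Oth l) k)) :
    op l X * out l B * (op l Y * out l B') = op l (X * Y) * out l (B * B') := by
  rw [mul_assoc, ← mul_assoc (out l B), ← op_out, mul_assoc (op l Y), out_mul, ← mul_assoc, op_mul]

theorem ten_split (l : ι) (X : ι → Module.End F (W F k)) :
    ten X = op l (X l) * out l (ten fun i : Oth l => X i.1) :=
  ext_pv fun x => by
    rw [Module.End.mul_apply, pv_restrict l, out_emb, op_emb, ten_pv, emb_pv, emb_pv, ins_restrict, ten_pv]
    exact congrArg pv (ins_restrict l fun i => X i (x i)).symm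

theorem out_op (l : ι) (p : Oth l) (X : Module.End F (W F k)) : out l (op p X) = op p.1 X :=
  ext_pv fun x => by
    rw [pv_restrict l, out_emb, op_pv, emb_pv, emb_pv, ins_restrict, op_pv]
    congr 1
    funext i
    by_cases hi : i = l
    · subst hi; rw [ins_self, Function.update_of_ne (fun e => p.2 e.symm)]
    · rw [ins_of_ne hi]
      by_cases hp : i = p.1
      · subst hp; simp
      · rw [Function.update_of_ne (fun e => hp (congrArg Subtype.val e)), Function.update_of_ne hp]

/-- An operator commuting with all operators at one position lives on the other positions. -/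
theorem eq_out_of_comm (l : ι) (T : Module.End F (VI F ι k)) (h : ∀ X, op l X * T = T * op l X)
    {x₀ : W F k} (hx₀ : x₀ ≠ 0) : ∃ B, T = out l B := by
  obtain ⟨c, hc⟩ := Function.ne_iff.1 hx₀
  refine ⟨(x₀ c)⁻¹ • (prj l c).comp (T.comp (emb l x₀)), ext_split l fun x u => ?_⟩
  rw [out_emb, LinearMap.smul_apply, map_smul, LinearMap.comp_apply, LinearMap.comp_apply]
  set X : Module.End F (W F k) := (x₀ c)⁻¹ • ((LinearMap.proj (R := F) (φ := fun _ => F) c).smulRight x) with hX
  have hXx : X x₀ = x := by
    simp [hX, smul_smul, inv_mul_cancel₀ hc]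
  conv_lhs => rw [← hXx, ← op_emb, ← Module.End.mul_apply, ← h, Module.End.mul_apply, ← sum_emb_prj l (T _)]
  simp only [map_sum, op_emb]
  funext a
  rw [Finset.sum_apply, Finset.sum_eq_single c (fun d _ hd => by simp [hX, emb_apply, Pi.single_apply, Ne.symm hd])
    (by simp)]
  simp [hX, emb_apply, mul_assoc]

variable {f : W F k → W F k → F} (hf : Sym f)

/-- The contraction with a vector at one position. -/
def con (f : W F k → W F k → F) (l : ι) (y : W F k) : VI F ι k →ₗ[F] VI F (Oth l) k :=
  ∑ c, f (Pi.single c 1) y • prj l c

include hf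

theorem con_emb (l : ι) (y x : W F k) (u : VI F (Oth l) k) : con f l y (emb l x u) = f x y • u := by
  simp only [con, LinearMap.sum_apply, LinearMap.smul_apply, prj_emb, smul_smul, ← Finset.sum_smul]
  congr 1
  conv_rhs => rw [pi_eq_sum_univ' x, hf.sum_left]
  exact Finset.sum_congr rfl fun c _ => by rw [hf.smul_left, mul_comm]

theorem bT_emb (l : ι) (x y : W F k) (u w : VI F (Oth l) k) :
    bT f (emb l x u) (emb l y w) = f x y * bT f u w := by
  have e : (bT f).compl₁₂ (emb l x) (emb l y) = f x y • (bT f : LinearMap.BilinForm F (VI F (Oth l) k)) :=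
    bT_ext hf fun a b => by
      rw [LinearMap.compl₁₂_apply, LinearMap.smul_apply, LinearMap.smul_apply, emb_pv, emb_pv, bT_pv hf, bT_pv hf,
        prod_split l, ins_self, ins_self, smul_eq_mul]
      congr 1
      exact Finset.prod_congr rfl fun i _ => by rw [ins_other, ins_other]
  exact LinearMap.congr_fun₂ e u w

theorem bT_emb_left (l : ι) (x : W F k) (u : VI F (Oth l) k) (v : VI F ι k) :
    bT f (emb l x u) v = bT f u (con f l x v) := by
  have e : (bT f) (emb l x u) = (bT f u).comp (con f l x) := ext_split l fun y w => by
    rw [LinearMap.comp_apply, bT_emb hf, con_emb hf, map_smul, smul_eq_mul, OTensor.symm hf]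
  exact LinearMap.congr_fun e v

theorem con_op (l : ι) (y y' : W F k) (X : Module.End F (W F k)) (hX : ∀ x, f (X x) y = f x y') (v : VI F ι k) :
    con f l y (op l X v) = con f l y' v := by
  have e : (con f l y).comp (op l X) = con f l y' := ext_split l fun x u => by
    rw [LinearMap.comp_apply, op_emb, con_emb hf, con_emb hf, hX]
  exact LinearMap.congr_fun e v

theorem con_out (l : ι) (y : W F k) (B : Module.End F (VI F (Oth l) k)) (v : VI F ι k) :
    con f l y (out l B v) = B (con f l y v) := by
  have e : (con f l y).comp (out l B) = B.comp (con f l y) := ext_split l fun x u => by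
    rw [LinearMap.comp_apply, LinearMap.comp_apply, out_emb, con_emb hf, con_emb hf, map_smul]
  exact LinearMap.congr_fun e v

end Cfsg.Agent.OWreath
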