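import Cfsg.Agent.Lib.OWreathRuler

/-!
The ruler theorem.
-/

set_option autoImplicit false
set_option linter.unusedSectionVars false

namespace Cfsg.Agent.OWreath

open Cfsg.Agent.OTensor (Sym Hyp nn sq1 sie bl proj0 nn_apply sq1_apply smul_right' sub_left' neg_left')

variable {F : Type*} [Field F] {k : ℕ} {ι : Type} [Fintype ι] [DecidableEq ι] {f : W F k → W F k → F}
variable (hf : Sym f)
include hf

theorem con_add_apply (l : ι) (y y' : W F k) (v : VI F ι k) : con f l (y + y') v = con f l y v + con f l y' v := by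
  simp [con, hf.add_right, add_smul, Finset.sum_add_distrib, LinearMap.sum_apply]

theorem con_smul_apply (l : ι) (c : F) (y : W F k) (v : VI F ι k) : con f l (c • y) v = c • con f l y v := by
  simp [con, smul_right' hf, LinearMap.sum_apply, Finset.smul_sum, smul_smul]

theorem iso_sie {d : GL (Fin k) F} (hd : d ∈ isoW f) {e : W F k} {t : F} (ht : t ≠ 0) (hde : lg d e = t • e)
    {x : W F k} (hdx : lg d x = x) : lg d * sie hf e x = sie hf e (t • x) * lg d := by
  have h : lg d * nn hf e x = nn hf e (t • x) * lg d := LinearMap.ext fun u => by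
    have h1 : f (lg d u) e = t⁻¹ * f u e := by
      rw [eq_inv_mul_iff_mul_eq₀ ht, ← smul_right' hf, ← hde, hd]
    have h2 : f (lg d u) x = f u x := by
      conv_lhs => rw [← hdx]
      exact hd u x
    simp only [Module.End.mul_apply, nn_apply, map_sub, map_smul, hde, hdx, smul_right' hf, h1, h2, smul_smul,
      mul_comm (f u x) t]
    congr 2
    field_simp
  rw [sie, sie, mul_add, mul_add, add_mul, add_mul, mul_one, one_mul, mul_smul_comm, smul_mul_assoc,
    ← mul_assoc (lg d), h, mul_assoc, h, ← mul_assoc]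

/-- An operator commuting up to scalars with the squares of one-position isometries is scalar. -/
theorem scalar_of_rel [Fintype F] (hS : Std f) {B : Module.End F (VI F ι k)}
    (h : ∀ p, ∀ d ∈ isoW f, ∃ t : F, B * op p (lg (d * d)) = op p (lg (d * d)) * B + t • op p (lg (d * d))) :
    ∃ c : F, B = c • 1 := by
  classical
  have h2 := hS.two
  have hk := hS.hk
  -- the Siegel elements are squares
  have hsq : ∀ e a, (he : f e e = 0) → (ha : f a e = 0) → ∃ d ∈ isoW f, lg (d * d) = sie hf e a := by
    intro e a he ha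
    have hh : f ((2 : F)⁻¹ • a) e = 0 := by rw [hf.smul_left, ha, mul_zero]
    exact ⟨_, sieW_iso hf h2 he hh, by
      rw [map_mul, lg_sieW, OTensor.sie_mul hf h2 he hh hh, ← add_smul, ← two_mul, mul_inv_cancel₀ h2, one_smul]⟩
  refine scalar_of_sie hf hS fun p e a he ha => ?_
  by_cases he0 : e = 0
  · subst he0
    rw [show sie hf (0 : W F k) a = 1 by
      have h0 : nn hf 0 a = 0 := LinearMap.ext fun u => by simp [nn_apply, hf.zero_right]
      rw [sie, h0]; simp, op_one, one_mul, mul_one]
  obtain ⟨e', he', h1⟩ := OTensor.exists_partner hf h2 he0 he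
  have H : Hyp f e e' := ⟨he, he', h1⟩
  obtain ⟨q1, q2⟩ := OTensor.proj0_perp hf H a
  rw [← sie_proj_eq hf ha (e' := e')]
  set a₀ := proj0 f e e' a
  clear_value a₀
  by_cases hq : ∃ c : F, c ≠ 0 ∧ c * c ≠ 1
  · obtain ⟨c, hc, hcc⟩ := hq
    obtain ⟨d, hd, hde, hdx⟩ := exists_tor hf H hc
    set x := (c * c - 1)⁻¹ • a₀ with hx
    have x1 : f x e = 0 := by rw [hx, hf.smul_left, q1, mul_zero]
    have x2 : f x e' = 0 := by rw [hx, hf.smul_left, q2, mul_zero]
    have x1' : f (-x) e = 0 := by rw [neg_left' hf, x1, neg_zero]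
    obtain ⟨s, hs, hsx⟩ := hsq e x he x1
    obtain ⟨t₁, ht₁⟩ := h p d hd
    obtain ⟨t₂, ht₂⟩ := h p s hs
    have hDx : lg (d * d) * sie hf e x = sie hf e ((c * c) • x) * lg (d * d) :=
      iso_sie hf ((isoW f).mul_mem hd hd) (mul_ne_zero hc hc)
        (by rw [map_mul, Module.End.mul_apply, hde, map_smul, hde, smul_smul])
        (by rw [map_mul, Module.End.mul_apply, hdx x x1 x2, hdx x x1 x2])
    rw [hsx] at ht₂
    set D := op p (lg (d * d)) with hD
    set X := op p (sie hf e x) with hX
    set Y := op p (sie hf e ((c * c) • x)) with hY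
    have hYe : D * X = Y * D := by rw [hD, hX, hY, op_mul, op_mul, hDx]
    -- the conjugate has the same defect
    have hBY : B * Y = Y * B + t₂ • Y := by
      have e1 : B * (Y * D) = (Y * B + t₂ • Y) * D := by
        rw [← hYe, ← mul_assoc, ht₁, add_mul, mul_assoc, ht₂, mul_add, mul_smul_comm, smul_mul_assoc, ← mul_assoc, hYe,
          mul_assoc, show D * B = B * D - t₁ • D by rw [ht₁]; abel, mul_sub, mul_smul_comm, add_mul, smul_mul_assoc,
          mul_assoc]
        abel
      have hDD : D * op p (lg (d * d)⁻¹) = 1 := by rw [hD, op_mul, lg_mul_inv, op_one]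
      have := congrArg (fun T => T * op p (lg (d * d)⁻¹)) e1
      simpa only [mul_assoc, hDD, mul_one] using this
    have ea : sie hf e ((c * c) • x) = sie hf e a₀ * sie hf e x := by
      rw [OTensor.sie_mul hf h2 he q1 x1]
      congr 1
      rw [hx, show a₀ + (c * c - 1)⁻¹ • a₀ = (1 + (c * c - 1)⁻¹) • a₀ by rw [add_smul, one_smul], smul_smul]
      congr 1
      have hm := inv_mul_cancel₀ (sub_ne_zero.2 hcc)
      linear_combination hm
    set A := op p (sie hf e a₀)
    have hYA : Y = A * X := by rw [hY, ea, ← op_mul]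
    rw [hYA] at hBY
    have e2 : B * A * X = A * B * X := by
      rw [mul_assoc, hBY, mul_assoc A B X, ht₂, mul_add, mul_smul_comm, ← mul_assoc]
    have hXX : X * op p (sie hf e (-x)) = 1 := by
      rw [hX, op_mul, OTensor.sie_mul hf h2 he x1 x1', add_neg_cancel, OTensor.sie_zero hf he, op_one]
    have := congrArg (fun T => T * op p (sie hf e (-x))) e2
    simp only [mul_assoc, hXX, mul_one] at this
    exact this.symm
  · have h4 : 4 ≤ k := hS.hbig.resolve_right fun ⟨t, ht, htt⟩ => hq ⟨t, ht, htt⟩
    have key : ∀ b, f b e = 0 → f b e' = 0 → f b b ≠ 0 → op p (sie hf e b) * B = B * op p (sie hf e b) := by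
      intro b b1 b2 b3
      obtain ⟨s, hs, hsx⟩ := hsq e b he b1
      obtain ⟨t, ht⟩ := h p s hs
      rw [hsx] at ht
      have h1' : f e' e = 1 := by rw [OTensor.symm hf, h1]
      obtain ⟨w, hw, hw'⟩ := exists_aniso_orth hf h2 (![b, e + e', e - e'] : Fin 3 → W F k)
        (fun i j hij => by
          fin_cases i <;> fin_cases j <;> first | exact absurd rfl hij |
            simp [hf.add_left, hf.add_right, sub_left' hf, hf.sub_right, b1, b2, he, he', h1, h1',
              OTensor.symm hf e b, OTensor.symm hf e' b])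
        (fun i => by
          fin_cases i
          · simpa using b3
          · simp [hf.add_left, hf.add_right, he, he', h1, h1']; exact fun e0 => h2 (by linear_combination e0)
          · simp [sub_left' hf, hf.sub_right, he, he', h1, h1']; exact fun e0 => h2 (by linear_combination -e0))
        (by omega)
      have w1 : f w b = 0 := hw' 0
      have w2 : f w e = 0 := by
        have a := hw' 1
        have c := hw' 2
        simp [hf.add_right, hf.sub_right] at a c
        exact (mul_eq_zero.1 (show (2 : F) * f w e = 0 by linear_combination a + c)).resolve_left h2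
      have hfix : sie hf e b w = w := by rw [OTensor.sie_apply hf e b w he b1, w1, w2]; simp
      set v : VI F ι k := pv fun _ => w
      have hv : op p (sie hf e b) v = v := by
        rw [op_pv, hfix]
        congr 1
        funext i
        by_cases hi : i = p
        · subst hi; simp
        · simp [hi]
      have hvv : bT f v v ≠ 0 := by
        rw [bT_pv hf]
        exact Finset.prod_ne_zero_iff.2 fun _ _ => hw
      have e1 := LinearMap.congr_fun ht v
      rw [Module.End.mul_apply, LinearMap.add_apply, Module.End.mul_apply, LinearMap.smul_apply, hv] at e1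
      have hpres : bT f (op p (sie hf e b) (B v)) v = bT f (B v) v := by
        have := opGL_iso hf p (sieW_iso hf h2 he b1) (B v) v
        rwa [lg_opGL, lg_sieW, hv] at this
      have e2 := congrArg (fun z => bT f z v) e1
      simp only [map_add, LinearMap.add_apply, map_smul, LinearMap.smul_apply, smul_eq_mul, hpres] at e2
      have ht0 : t = 0 := (mul_eq_zero.1 (show t * bT f v v = 0 by linear_combination -e2)).resolve_right hvv
      rw [ht0, zero_smul, add_zero] at ht
      exact ht.symm
    by_cases ha0 : f a₀ a₀ = 0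
    · obtain ⟨u, u1, u2, u3⟩ := OTensor.exists_aniso hf h2 hk H
      obtain ⟨v, v1, v2, v3, v4⟩ : ∃ v, f v e = 0 ∧ f v e' = 0 ∧ f v v ≠ 0 ∧ f (a₀ - v) (a₀ - v) ≠ 0 := by
        by_cases hh : f (a₀ - u) (a₀ - u) = 0
        · refine ⟨-u, by rw [neg_left' hf, u1, neg_zero], by rw [neg_left' hf, u2, neg_zero],
            by simpa [neg_left' hf, hf.neg_right] using u3, fun hh' => u3 ?_⟩
          simp only [sub_left' hf, hf.sub_right, neg_left' hf, hf.neg_right, ha0] at hh hh'
          exact (mul_eq_zero.1 (show (2 : F) * f u u = 0 by linear_combination hh + hh')).resolve_left h2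
        · exact ⟨u, u1, u2, u3, hh⟩
      have w1 : f (a₀ - v) e = 0 := by rw [sub_left' hf, q1, v1, sub_zero]
      have w2 : f (a₀ - v) e' = 0 := by rw [sub_left' hf, q2, v2, sub_zero]
      rw [show a₀ = v + (a₀ - v) by abel, ← OTensor.sie_mul hf h2 he v1 w1, ← op_mul, mul_assoc, key _ w1 w2 v4,
        ← mul_assoc, key _ v1 v2 v3, mul_assoc]
    · exact key a₀ q1 q2 ha0

variable [Fintype F]

/-- An operator at the ruler with scalar middle part is Siegel times a central one. -/
theorem shape_of_mid (hS : Std f) {l : ι} {e e' : W F k} (H : Hyp f e e') (hne : ∃ u : VI F (Oth l) k, bT f u u ≠ 0)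
    {T : Module.End F (VI F ι k)} (hC : Cen hf l e T) (hfix : ∀ u, T (emb l e u) = emb l e u)
    (hmid : ∀ y, f y e = 0 → ∃ c : F, mid f l e' T y = c • 1) :
    ∃ (a : W F k) (Z : Module.End F (VI F (Oth l) k)), f a e = 0 ∧
      op l (sie hf e a) * T = 1 + op l (sq1 hf e) * out l Z ∧
      (∀ y, f y e = 0 → f y e' = 0 → ∀ u, con f l y ((op l (sie hf e a) * T) (emb l e' u)) = 0) ∧
      Cen hf l e (op l (sie hf e a) * T) ∧
      ∀ u, (op l (sie hf e a) * T) (emb l e u) = emb l e u := by
  classical
  have h2 := hS.two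
  have hk := hS.hk
  have h1' : f e' e = 1 := by rw [OTensor.symm hf, H.one]
  have hone := con_e_fix hf H h2 hk hC hfix
  choose! β hβ using hmid
  obtain ⟨u₀, hu₀⟩ := hne
  let φ : W F k →ₗ[F] F :=
    { toFun := fun x => β (proj0 f e e' x)
      map_add' := fun x y => by
        obtain ⟨x1, -⟩ := OTensor.proj0_perp hf H x
        obtain ⟨y1, -⟩ := OTensor.proj0_perp hf H y
        obtain ⟨z1, -⟩ := OTensor.proj0_perp hf H (x + y)
        have e0 : proj0 f e e' (x + y) = proj0 f e e' x + proj0 f e e' y := by simp [proj0, hf.add_left]; module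
        have := congrArg (fun z => bT f z u₀) (show mid f l e' T (proj0 f e e' (x + y)) u₀ =
            mid f l e' T (proj0 f e e' x) u₀ + mid f l e' T (proj0 f e e' y) u₀ by
          rw [e0]; exact con_add_apply hf l _ _ _)
        simp only [hβ _ z1, hβ _ x1, hβ _ y1, LinearMap.smul_apply, Module.End.one_apply, map_add, map_smul,
          LinearMap.add_apply, smul_eq_mul, ← add_mul] at this
        exact mul_right_cancel₀ hu₀ this
      map_smul' := fun c x => by
        obtain ⟨x1, -⟩ := OTensor.proj0_perp hf H x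
        obtain ⟨z1, -⟩ := OTensor.proj0_perp hf H (c • x)
        have e0 : proj0 f e e' (c • x) = c • proj0 f e e' x := by simp [proj0, hf.smul_left]; module
        have := congrArg (fun z => bT f z u₀) (show mid f l e' T (proj0 f e e' (c • x)) u₀ =
            c • mid f l e' T (proj0 f e e' x) u₀ by rw [e0]; exact con_smul_apply hf l _ _ _)
        simp only [hβ _ z1, hβ _ x1, LinearMap.smul_apply, Module.End.one_apply, map_smul, smul_eq_mul,
          ← mul_assoc] at this
        rw [RingHom.id_apply, smul_eq_mul]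
        exact mul_right_cancel₀ hu₀ this }
  obtain ⟨D, hD⟩ := OTensor.exists_rep hf φ
  obtain ⟨a1, a2⟩ := OTensor.proj0_perp hf H D
  set a := proj0 f e e' D with haD
  have hy : ∀ y, f y e = 0 → f y e' = 0 → β y = f a y := fun y y1 y2 => by
    have h := hD y
    show β y = f a y
    rw [show φ y = β y from congrArg β (by simp [proj0, y1, y2] : proj0 f e e' y = y)] at h
    rw [h, haD, proj0]
    simp [sub_left' hf, hf.smul_left, OTensor.symm hf e y, OTensor.symm hf e' y, y1, y2, OTensor.symm hf D y]
  -- remove the Siegel part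
  set T' := op l (sie hf e a) * T with hT'
  have hCs : Cen hf l e (op l (sie hf e a)) := fun b hb => by
    rw [op_mul, op_mul, sie_eq hf H.ee a1]
    congr 1
    simp only [mul_add, add_mul, mul_one, one_mul, mul_smul_comm, smul_mul_assoc, commute_nn hf H.ee hb a1,
      nn_mul_sq hf H.ee hb, sq_mul_nn hf H.ee hb]
  have hC' : Cen hf l e T' := Cen.mul hf hCs hC
  have hsfix : sie hf e a e = e := by
    rw [OTensor.sie_apply hf e a e H.ee a1, OTensor.symm hf e a, a1, H.ee]; simp
  have hfix' : ∀ u, T' (emb l e u) = emb l e u := fun u => by rw [hT', Module.End.mul_apply, hfix, op_emb, hsfix]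
  have hmid' : ∀ y, f y e = 0 → f y e' = 0 → ∀ u, con f l y (T' (emb l e' u)) = 0 := fun y y1 y2 u => by
    rw [hT', Module.End.mul_apply, con_sie hf H.ee a1 y1, hone]
    have := LinearMap.congr_fun (hβ y y1) u
    simp only [mid, LinearMap.comp_apply, LinearMap.smul_apply, Module.End.one_apply] at this
    rw [this, hy y y1 y2, sub_self]
  set Z := (con f l e').comp (T'.comp (emb l e')) with hZ
  clear_value T'
  have hshape : T' = 1 + op l (sq1 hf e) * out l Z := by
    refine hC'.ext hf H h2 hk ((show Cen hf l e 1 from fun b _ => by rw [mul_one, one_mul]).add hf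
      (cen_mix hf _ _ fun b hb => by rw [nn_mul_sq hf H.ee hb, sq_mul_nn hf H.ee hb])) fun u => ?_
    rw [LinearMap.add_apply, Module.End.one_apply, Module.End.mul_apply, out_emb, op_emb, sq1_apply, h1', one_smul]
    refine eq_of_con hf l H ?_ ?_ fun y y1 y2 => ?_
    · rw [con_e_fix hf H h2 hk hC' hfix', map_add, con_emb hf, con_emb hf, h1', H.ee, one_smul, zero_smul, add_zero]
    · rw [map_add, con_emb hf, con_emb hf, H.ee', H.one, zero_smul, one_smul, zero_add]; rfl
    · rw [hmid' y y1 y2, map_add, con_emb hf, con_emb hf, OTensor.symm hf e' y, y2, OTensor.symm hf e y, y1,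
        zero_smul, zero_smul, add_zero]
  subst hT'
  exact ⟨a, Z, a1, hshape, hmid', hC', hfix'⟩

/-- An operator commuting with the skew operators at the ruler, fixing it, with Siegel commutators, is Siegel. -/
theorem sie_of_rel (hS : Std f) {l : ι} {e e' : W F k} (H : Hyp f e e') (hne : ∃ u : VI F (Oth l) k, bT f u u ≠ 0)
    {T : Module.End F (VI F ι k)} (hC : Cen hf l e T) (hfix : ∀ u, T (emb l e u) = emb l e u)
    (hiso : ∀ u w, bT f (T u) (T w) = bT f u w)
    (hrel : ∀ p : Oth l, ∀ d ∈ isoW f, ∃ a, f a e = 0 ∧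
      T * op p.1 (lg (d * d)) = op l (sie hf e a) * op p.1 (lg (d * d)) * T) :
    ∃ a, f a e = 0 ∧ T = op l (sie hf e a) := by
  classical
  have h2 := hS.two
  have hk := hS.hk
  have h1' : f e' e = 1 := by rw [OTensor.symm hf, H.one]
  have hone := con_e_fix hf H h2 hk hC hfix
  have hmid : ∀ y, f y e = 0 → ∃ c : F, mid f l e' T y = c • 1 := fun y hy => by
    refine scalar_of_rel hf hS fun p d hd => ?_
    obtain ⟨a, ha, hrel⟩ := hrel p d hd
    refine ⟨-(f a y), LinearMap.ext fun u => ?_⟩
    have := congrArg (con f l y) (LinearMap.congr_fun hrel (emb l e' u))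
    simp only [Module.End.mul_apply, ← out_op l p, out_emb, con_sie hf H.ee ha hy, con_out hf, hone] at this
    simp only [mid, Module.End.mul_apply, LinearMap.comp_apply, LinearMap.add_apply, LinearMap.smul_apply, this,
      neg_smul, ← sub_eq_add_neg]
  obtain ⟨a, Z, a1, hshape, hmid', hC', hfix'⟩ := shape_of_mid hf hS H hne hC hfix hmid
  obtain ⟨u₀, hu₀⟩ := hne
  set T' := op l (sie hf e a) * T with hT'
  clear_value T'
  have hiso' : ∀ u w, bT f (T' u) (T' w) = bT f u w := fun u w => by
    have := opGL_iso hf l (sieW_iso hf h2 H.ee a1) (T u) (T w)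
    rw [lg_opGL, lg_sieW] at this
    rw [hT', Module.End.mul_apply, Module.End.mul_apply, this, hiso]
  obtain ⟨c, hc⟩ : ∃ c : F, Z = c • 1 := by
    refine scalar_of_rel hf hS fun p d hd => ?_
    obtain ⟨b, hb, hrel⟩ := hrel p d hd
    refine ⟨0, ?_⟩
    rw [zero_smul, add_zero]
    have hcomm : op l (sie hf e a) * op l (sie hf e b) = op l (sie hf e b) * op l (sie hf e a) := by
      rw [op_mul, op_mul, OTensor.sie_mul hf h2 H.ee a1 hb, OTensor.sie_mul hf h2 H.ee hb a1, add_comm a b]
    have hrel' : T' * op p.1 (lg (d * d)) = op l (sie hf e b) * op p.1 (lg (d * d)) * T' := by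
      rw [hT', mul_assoc, hrel, ← mul_assoc, ← mul_assoc, hcomm, mul_assoc (op l (sie hf e b)) (op l _),
        op_comm p.2.symm, ← mul_assoc, mul_assoc]
    have hb0 : ∀ y, f y e = 0 → f y e' = 0 → f b y = 0 := fun y y1 y2 => by
      have h := congrArg (con f l y) (LinearMap.congr_fun hrel' (emb l e' u₀))
      simp only [Module.End.mul_apply, ← out_op l p, out_emb, hmid' y y1 y2, con_sie hf H.ee hb y1, con_out hf,
        con_e_fix hf H h2 hk hC' hfix', map_zero, zero_sub] at h
      rw [eq_comm, neg_eq_zero, smul_eq_zero] at h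
      refine h.resolve_right fun h0 => hu₀ ?_
      have := congrArg (op p (lg (d * d)⁻¹)) h0
      rw [← Module.End.mul_apply, op_mul, lg_conj_inv, op_one, map_zero, Module.End.one_apply] at this
      rw [this, map_zero]
    have hb1 : sie hf e b = 1 := by
      have : proj0 f e e' b = 0 := by
        refine hf.nd _ fun y => ?_
        obtain ⟨y1, y2⟩ := OTensor.proj0_perp hf H y
        obtain ⟨b1, b2⟩ := OTensor.proj0_perp hf H b
        rw [OTensor.decomp hf e e' y, hf.add_right, hf.add_right, smul_right' hf, smul_right' hf, b1, b2]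
        have := hb0 _ y1 y2
        simp only [mul_zero, zero_add, proj0, sub_left' hf, hf.smul_left, hb] at this ⊢
        rw [this, OTensor.symm hf e (_ - _ - _), show f (y - f y e' • e - f y e • e') e = 0 from y1]
        ring
      rw [← sie_proj_eq hf hb (e' := e'), this, OTensor.sie_zero hf H.ee]
    rw [hb1, op_one, one_mul, hshape, ← out_op l p, add_mul, mul_add, one_mul, mul_one, add_right_inj, mul_assoc,
      out_mul, ← mul_assoc, ← op_out, mul_assoc, out_mul] at hrel'
    refine LinearMap.ext fun u => emb_injective l (H.ne hf) ?_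
    have := LinearMap.congr_fun hrel' (emb l e' u)
    simpa only [Module.End.mul_apply, out_emb, op_emb, sq1_apply, h1', one_smul] using this
  rw [hc, out_smul, out_one, mul_smul_comm, mul_one] at hshape
  have hc0 : c = 0 := by
    have h := hiso' (emb l e' u₀) (emb l e' u₀)
    rw [hshape, LinearMap.add_apply, Module.End.one_apply, LinearMap.smul_apply, op_emb, sq1_apply, h1', one_smul] at h
    simp only [map_add, map_smul, LinearMap.add_apply, LinearMap.smul_apply, bT_emb hf, H.ee, H.ee', H.one, h1',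
      smul_eq_mul] at h
    exact (mul_eq_zero.1 (show c * (2 * bT f u₀ u₀) = 0 by linear_combination h)).resolve_right (mul_ne_zero h2 hu₀)
  rw [hc0, zero_smul, add_zero] at hshape
  refine ⟨-a, by rw [neg_left' hf, a1, neg_zero], ?_⟩
  calc T = op l (sie hf e (-a)) * T' := by
        rw [hT', ← mul_assoc, op_mul, OTensor.sie_mul hf h2 H.ee (by rw [neg_left' hf, a1, neg_zero]) a1,
          neg_add_cancel, OTensor.sie_zero hf H.ee, op_one, one_mul]
    _ = _ := by rw [hshape, mul_one]

/-- The ruler theorem. -/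
theorem ruler (hS : Std f) {M M' : Subgroup (GL (ι → Fin k) F)} (hM : Ovr f M) (hM' : Ovr f M')
    (hN' : NoExcess hf M') {g : GL (ι → Fin k) F} (hg : g ∈ isoV f) (hconj : ∀ x ∈ M, g * x * g⁻¹ ∈ M')
    {l : ι} {e e' : W F k} (H : Hyp f e e') {ν : F} (hν : ν ≠ 0)
    (hgS : lg g * op l (sq1 hf e) = ν • (op l (sq1 hf e) * lg g))
    (hA : ∀ A : GL (Oth l → Fin k) F, IsSim f A → (∀ u, lg g (emb l e u) = ν • emb l e (lg A u)) →
      A ∈ Nst F k (Oth l)) : g ∈ Nst F k ι := by
  classical
  have h2 := hS.two
  obtain ⟨γ, A, hγ, hγe, hAs, hgA, hC⟩ := exists_gamma hf hS hM hM' hN' hg hconj H hν hgS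
  have hAN := hA A ⟨ν⁻¹, inv_ne_zero hν, hAs⟩ hgA
  set h := opGL l γ * outGL l A with hh
  have hhN : h ∈ Nst F k ι := (Nst F k ι).mul_mem (opGL_mem _ _) (outGL_mem hAN)
  have hhlg : lg h = op l (lg γ) * out l (lg A) := by rw [hh, map_mul, lg_opGL, lg_outGL]
  have hhG : h ∈ isoV f := by
    intro u w
    have e0 : (bT f).compl₁₂ (lg h) (lg h) = bT f := bT_ext hf fun x y => by
      rw [LinearMap.compl₁₂_apply, pv_restrict l x, pv_restrict l y, hhlg, Module.End.mul_apply, Module.End.mul_apply,
        out_emb, out_emb, op_emb, op_emb, bT_emb hf, bT_emb hf, hγ, hAs]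
      field_simp
    exact LinearMap.congr_fun₂ e0 u w
  set r := h⁻¹ * g with hr
  have hrC : Cen hf l e (lg r) := by
    have e0 : r = outGL l A⁻¹ * ((opGL l γ)⁻¹ * g) := by rw [hr, hh, mul_inv_rev, outGL_inv, mul_assoc]
    rw [e0, map_mul, lg_outGL]
    exact Cen.mul hf (cen_out hf l e _) hC
  have hrfix : ∀ u, lg r (emb l e u) = emb l e u := fun u => by
    have e0 : lg h (emb l e u) = ν • emb l e (lg A u) := by
      rw [hhlg, Module.End.mul_apply, out_emb, op_emb, hγe, emb_smul, LinearMap.smul_apply]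
    rw [hr, map_mul, Module.End.mul_apply, hgA, ← e0, lg_inv_apply]
  have hrG : r ∈ isoV f := (isoV f).mul_mem ((isoV f).inv_mem hhG) hg
  have hrel : ∀ p : Oth l, ∀ d ∈ isoW f, ∃ a, f a e = 0 ∧
      lg r * op p.1 (lg (d * d)) = op l (sie hf e a) * op p.1 (lg (d * d)) * lg r := by
    intro p d hd
    set b := opGL p.1 (d * d) with hb
    have hbc : Core f b := by
      rw [hb, opGL_mul]; exact Core.sq hf (opGL_mem _ _) (opGL_iso hf _ hd)
    have hblg : lg b = out l (op p (lg (d * d))) := by rw [hb, lg_opGL, out_op]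
    have hblg' : lg b⁻¹ = out l (op p (lg (d * d)⁻¹)) := by rw [hb, opGL_inv, lg_opGL, out_op]
    set z := r * b * r⁻¹ * b⁻¹ with hz
    have hCr' : Cen hf l e (lg r⁻¹) := fun a ha => by
      calc op l (nn hf e a) * lg r⁻¹ = lg r⁻¹ * (lg r * op l (nn hf e a)) * lg r⁻¹ := by
            rw [← mul_assoc (lg r⁻¹), lg_conj_inv, one_mul]
        _ = lg r⁻¹ * op l (nn hf e a) := by rw [← hrC a ha, mul_assoc, mul_assoc, lg_mul_inv, mul_one]
    have hzC : Cen hf l e (lg z) := by
      rw [hz, map_mul, map_mul, map_mul, hblg, hblg']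
      exact Cen.mul hf (Cen.mul hf (Cen.mul hf hrC (cen_out hf l e _)) hCr') (cen_out hf l e _)
    have hrfix' : ∀ u, lg r⁻¹ (emb l e u) = emb l e u := fun u => by
      conv_lhs => rw [← hrfix u]
      exact lg_inv_apply r _
    have hzf : ∀ u, lg z (emb l e u) = emb l e u := fun u => by
      simp only [hz, map_mul, Module.End.mul_apply, hblg', out_emb, hrfix', hblg, hrfix]
      rw [← Module.End.mul_apply (op p _), op_mul, ← map_mul, ← map_mul, mul_inv_cancel, map_one, op_one,
        Module.End.one_apply]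
    have hzM : h * z * h⁻¹ ∈ M' := by
      rw [show h * z * h⁻¹ = g * b * g⁻¹ * (h * b⁻¹ * h⁻¹) by rw [hz, hr]; group]
      exact M'.mul_mem (hconj b (hbc.2 M hM)) ((Core.conj hf hhN hhG hbc.inv).2 M' hM')
    obtain ⟨a, ha, hza⟩ := transfer hf H hS hM' hN' hν hγ hγe ⟨_, hhlg⟩ hzC hzf hzM
    refine ⟨a, ha, ?_⟩
    rw [← lg_opGL p.1, ← hza, ← map_mul, ← map_mul, ← map_mul, ← hb, hz]
    congr 1
    group
  have hne : ∃ u : VI F (Oth l) k, bT f u u ≠ 0 := by
    obtain ⟨u, u1, u2, u3⟩ := OTensor.exists_aniso hf h2 hS.hk H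
    exact ⟨pv fun _ => u, by rw [bT_pv hf]; exact Finset.prod_ne_zero_iff.2 fun _ _ => u3⟩
  obtain ⟨a, ha, hra⟩ := sie_of_rel hf hS H hne hrC hrfix (mem_isoV.1 hrG) hrel
  have : g = h * opGL l (sieW hf h2 H.ee ha) := lg_injective (by
    rw [map_mul, lg_opGL, lg_sieW, ← hra, ← map_mul, hr, mul_inv_cancel_left])
  rw [this]
  exact (Nst F k ι).mul_mem hhN (opGL_mem _ _)

end Cfsg.Agent.OWreath
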