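/-
Primitive solvable linear groups of odd order have bases of size two.
-/
import Mathlib
import Cfsg.Agent.Lib.OddBaseCount75

set_option autoImplicit false
set_option maxHeartbeats 1600000

namespace Cfsg.Agent.OddBase75

open MulAction Module

universe v

theorem sixth_pow_le : ∀ n : ℕ, 25 ≤ n → n ^ 6 ≤ 2 * 16 ^ ((n + 3) / 4) := by
  intro n hn
  induction n using Nat.strong_induction_on with
  | _ n ih =>
  by_cases h : n < 29
  · interval_cases n <;> norm_num
  obtain ⟨x, rfl⟩ : ∃ x, n = x + 4 := ⟨n - 4, by omega⟩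
  have h1 := ih x (by omega) (by omega)
  have h2 : (5 * (x + 4)) ^ 6 ≤ (6 * x) ^ 6 := Nat.pow_le_pow_left (by omega) 6
  rw [mul_pow, mul_pow] at h2
  rw [show (x + 4 + 3) / 4 = (x + 3) / 4 + 1 by omega, pow_succ (16 : ℕ)]
  norm_num at h2
  omega

theorem contra {q n d k N : ℕ} (hq : 2 ≤ q) (hd : d ≤ n) (hk : 2 ≤ k) (hN1 : 1 ≤ N)
    (hN : k * N ≤ q ^ (2 * (n - d))) (h : q ^ (2 * n) - 1 ≤ (N - 1) * (k * q ^ (2 * d))) : False := by
  have h1 : (N - 1) * (k * q ^ (2 * d)) + k * q ^ (2 * d) ≤ q ^ (2 * n) := by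
    rw [show 2 * n = 2 * (n - d) + 2 * d by omega, pow_add]
    calc (N - 1) * (k * q ^ (2 * d)) + k * q ^ (2 * d) = (N - 1 + 1) * (k * q ^ (2 * d)) := by ring
      _ = (k * N) * q ^ (2 * d) := by rw [Nat.sub_add_cancel hN1]; ring
      _ ≤ _ := Nat.mul_le_mul_right _ hN
  have h2 : 2 ≤ k * q ^ (2 * d) :=
    le_trans hk (Nat.le_mul_of_pos_right _ (pow_pos (by omega) _))
  omega

theorem sixteen_mul_le {f q m : ℕ} (hq : 4 ≤ q) (hf : Odd f) (hfq : 2 ^ f ≤ q) (hm : 1 ≤ m) :
    f * 16 ^ m ≤ q ^ (2 * m) := by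
  obtain ⟨l, rfl⟩ : ∃ l, m = l + 1 := ⟨m - 1, by omega⟩
  have h4 : 16 * f ≤ q ^ 2 := by
    by_cases hf1 : f = 1
    · subst hf1; nlinarith
    have hf3 : 3 ≤ f := by
      obtain ⟨c, rfl⟩ := hf
      omega
    have h : 16 * f ≤ (2 ^ f) ^ 2 := by
      clear hfq hf hf1
      induction f, hf3 using Nat.le_induction with
      | base => norm_num
      | succ t ht ih =>
        rw [show (2 : ℕ) ^ (t + 1) = 2 ^ t * 2 from pow_succ 2 t, mul_pow]
        omega
    exact h.trans (Nat.pow_le_pow_left hfq 2)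
  calc f * 16 ^ (l + 1) = (16 * f) * 16 ^ l := by ring
    _ ≤ q ^ 2 * (q ^ 2) ^ l := Nat.mul_le_mul h4 (Nat.pow_le_pow_left (by nlinarith) l)
    _ = q ^ (2 * (l + 1)) := by rw [← pow_mul, ← pow_add]; congr 1; ring

theorem four_mul_le {f q : ℕ} (hf : Odd f) (hfq : 2 ^ f ≤ q) (hq : 12 ≤ q) : 4 * f ≤ q := by
  by_cases h5 : f < 4
  · omega
  have h : 4 * f ≤ 2 ^ f := by
    clear hfq hf
    induction f, (Nat.le_of_not_lt h5) using Nat.le_induction with
    | base => norm_num
    | succ t ht ih => rw [pow_succ]; omega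
  omega

variable {G V : Type v} [Group G] [Finite G] [Group.IsSolvable G] [AddCommGroup V] [Finite V]
  [Nontrivial V] [DistribMulAction G V] [FaithfulSMul G V]

/-- The primitive case. -/
theorem baseTwo_primitive (hs : Small.{v} (Nat.card V)) (hodd : Odd (Nat.card G))
    (P : Prim G V) : BaseTwo G V := by
  classical
  by_contra hno
  have hbase : ∀ a b : V, ∃ g : G, g ≠ 1 ∧ g • a = a ∧ g • b = b := by
    intro a b
    by_contra hall
    push Not at hall
    refine hno ⟨a, b, fun g ha hb x => ?_⟩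
    by_cases hg : g = 1
    · rw [hg, one_smul]
    · exact absurd hb (hall g hg ha)
  -- `C ≠ A`
  by_cases hCA : ∀ x ∈ P.C, x ∈ P.A
  · obtain ⟨v, hv⟩ := exists_ne (0 : V)
    obtain ⟨θ, hθ⟩ := IsCyclic.exists_generator (α := P.Kˣ)
    obtain ⟨g, hg1, hgv, hgw⟩ := hbase v ((θ : P.K) • v)
    rw [P.smul_twist, hgv] at hgw
    have h1 : P.sig g θ = θ :=
      sub_eq_zero.1 ((smul_eq_zero.1 (show (P.sig g θ - θ) • v = 0 by
        rw [sub_smul, sub_eq_zero]; exact hgw)).resolve_right hv)
    have h2 : Units.map (P.sig g : P.K →* P.K) θ = θ := Units.ext h1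
    refine hg1 (P.fixed_eq_one (hCA g ?_) hv hgv)
    by_contra hgC
    obtain ⟨r, hr⟩ := P.exists_sig_ne hgC
    apply hr
    by_cases hr0 : r = 0
    · rw [hr0, map_zero]
    obtain ⟨i, hi⟩ := Subgroup.mem_zpowers_iff.1 (hθ (Units.mk0 r hr0))
    have h3 : Units.map (P.sig g : P.K →* P.K) (Units.mk0 r hr0) = Units.mk0 r hr0 := by
      rw [← hi, map_zpow, h2]
    exact congrArg Units.val h3
  obtain ⟨S⟩ := exists_symp P
  obtain ⟨e, he⟩ := S.exists_sq
  have hEA : S.E ≠ P.A := fun h => hCA fun x hx => h ▸ S.mem_E_of_central hx fun y hy => by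
    rw [commutatorElement_eq_one_iff_mul_comm.2 (P.mem_C.1 hx y (h ▸ hy))]
    exact one_mem _
  have hM1 : 1 < Nat.card S.M := by
    rw [← Subgroup.index_eq_card]
    refine Subgroup.one_lt_index_of_ne_top fun h => hEA ?_
    exact le_antisymm (Subgroup.subgroupOf_eq_top.1 h) S.le
  have hoddM : Odd (Nat.card S.M) := odd_card_of_dvd
    ((Subgroup.card_quotient_dvd_card _).trans (Subgroup.card_subgroup_dvd_card _)) hodd
  have he_odd : Odd e := by
    rw [he, Nat.odd_mul] at hoddM
    exact hoddM.1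
  have he3 : 3 ≤ e := by
    obtain ⟨c, rfl⟩ := he_odd
    rcases c with _ | c
    · simp [he] at hM1
    · omega
  set n := finrank P.K V with hn
  set q := Nat.card P.K with hq
  have hdvd : ∀ r : ℕ, r.Prime → r ∣ e → r ∣ q - 1 := by
    intro r hr hre
    have h := S.card_dvd r hr (he ▸ hre.trans (dvd_mul_right e e))
    rwa [Nat.card_units] at h
  have hq1 : 2 ≤ q := Finite.one_lt_card
  have hq4 : 4 ≤ q := by
    obtain ⟨r, hr, hre⟩ := Nat.exists_prime_and_dvd (show e ≠ 1 by omega)
    have hr3 : 3 ≤ r := by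
      rcases Nat.lt_or_ge r 3 with h | h
      · have hr2 : r = 2 := by have := hr.two_le; omega
        subst hr2
        exact absurd he_odd (Nat.not_odd_iff_even.2 (even_iff_two_dvd.2 hre))
      · exact h
    have := Nat.le_of_dvd (by omega) (hdvd r hr hre)
    omega
  have hen : e ≤ n := by
    have h := S.card_le_finrank_sq
    rw [he, ← hn] at h
    exact Nat.mul_self_le_mul_self_iff.1 h
  have hVc : Nat.card V = q ^ n := P.card_V
  have hlt : Nat.card S.M < Nat.card V := by
    rw [he, hVc]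
    calc e * e < 2 ^ n * 2 ^ n :=
          Nat.mul_lt_mul'' (hen.trans_lt Nat.lt_two_pow_self) (hen.trans_lt Nat.lt_two_pow_self)
      _ = 4 ^ n := by rw [← mul_pow]; norm_num
      _ ≤ q ^ n := Nat.pow_le_pow_left hq4 n
  set X := S.E.relIndex P.C with hX
  set f := P.C.index with hf
  set a := P.A.relIndex P.C with ha
  set N := P.A.index with hN
  have haX : a = e * e * X := by
    show P.A.relIndex P.C = e * e * S.E.relIndex P.C
    rw [← Subgroup.relIndex_mul_relIndex P.A S.E P.C S.le S.le_C, ← he]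
    congr 1
  have hNa : N = e * e * X * f := by
    rw [← haX, ha, hf, hN, Subgroup.relIndex_mul_index P.A_le_C]
  have hX1 : 1 ≤ X := Nat.one_le_iff_ne_zero.2 Subgroup.index_ne_zero_of_finite
  have hf_odd : Odd f := odd_card_of_dvd (Subgroup.index_dvd_card _) hodd
  have hf1 : 1 ≤ f := Nat.one_le_iff_ne_zero.2 Subgroup.index_ne_zero_of_finite
  have hfq : 2 ^ f ≤ q := P.two_pow_index_le
  have hf_lt : f ≤ q := le_trans (le_of_lt Nat.lt_two_pow_self) hfq
  have haN : a ≤ N := by rw [hNa, haX]; exact Nat.le_mul_of_pos_right _ hf1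
  have ha1 : 1 ≤ a := Nat.one_le_iff_ne_zero.2 Subgroup.index_ne_zero_of_finite
  have hVV : Nat.card V * Nat.card V - 1 = q ^ (2 * n) - 1 := by rw [hVc, ← pow_add, two_mul]
  -- the general count
  have hcount : ∀ k d u : ℕ, (k = 2 ∧ 2 * n ≤ 3 * d) ∨ (k = 3 ∧ n ≤ 2 * d) → 3 * n < 4 * d + 4 →
      n ≤ 3 * u →
      q ^ (2 * n) - 1 ≤ (a - 1) * (k * q ^ (2 * d)) + (N - a) * (2 * q ^ (n + u)) := by
    intro k d u hk hd hu
    rw [← hVV]
    refine P.cover hbase _ _ (fun c s hs' hC hA => ?_) (fun c s hs' hC => ?_)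
    · refine (P.sum_linear s hs' hC k d hk (fun g hg => ?_)).trans ?_
      · have := S.finrank_fix_C (hC g hg) (hA g hg)
        omega
      · rw [← pow_add, ← two_mul, ← hq]
        exact Nat.mul_le_mul_left _ (Nat.sub_le _ _)
    · refine (P.sum_disjoint s hs' (q ^ u) (fun g hg => ?_)).trans ?_
      · refine (Nat.pow_le_pow_iff_left (by norm_num : 3 ≠ 0)).1 ?_
        refine (P.nfix_cube hodd (hC g hg)).trans ?_
        rw [hVc, ← pow_mul]
        exact Nat.pow_le_pow_right (by omega) (by omega)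
      · calc (q ^ u + 1) * (Nat.card V - 1) ≤ (2 * q ^ u) * q ^ n :=
              Nat.mul_le_mul (by have := Nat.one_le_pow u q (by omega); omega)
                (by rw [hVc]; exact Nat.sub_le _ _)
          _ = 2 * q ^ (n + u) := by rw [pow_add]; ring
  -- one case of it
  have hlarge : ∀ k d u : ℕ, (k = 2 ∧ 2 * n ≤ 3 * d) ∨ (k = 3 ∧ n ≤ 2 * d) → 3 * n < 4 * d + 4 →
      n ≤ 3 * u → n + u ≤ 2 * d → d ≤ n → k * N ≤ q ^ (2 * (n - d)) → False := by
    intro k d u hk hd hu hud hdn hkN
    have hk2 : 2 ≤ k := by omega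
    refine contra hq1 hdn hk2 (le_trans ha1 haN) hkN ((hcount k d u hk hd hu).trans ?_)
    have h2 : 2 * q ^ (n + u) ≤ k * q ^ (2 * d) :=
      Nat.mul_le_mul hk2 (Nat.pow_le_pow_right (by omega) hud)
    calc (a - 1) * (k * q ^ (2 * d)) + (N - a) * (2 * q ^ (n + u))
        ≤ (a - 1) * (k * q ^ (2 * d)) + (N - a) * (k * q ^ (2 * d)) := by gcongr
      _ = (a - 1 + (N - a)) * (k * q ^ (2 * d)) := by ring
      _ = (N - 1) * (k * q ^ (2 * d)) := by congr 1; omega
  have hsix : 6 ≤ n → ∀ B : ℕ, 2 * N ≤ B → B ≤ q ^ (2 * ((n + 3) / 4)) → False := by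
    intro hn6 B hB hB'
    refine hlarge 2 (3 * n / 4) (2 * (3 * n / 4) - n) (Or.inl ⟨rfl, by omega⟩) (by omega) (by omega)
      (by omega) (by omega) ?_
    rw [show n - 3 * n / 4 = (n + 3) / 4 by omega]
    exact hB.trans hB'
  have hmono : ∀ i : ℕ, i ≤ 2 * ((n + 3) / 4) → q ^ i ≤ q ^ (2 * ((n + 3) / 4)) :=
    fun i hi => Nat.pow_le_pow_right (by omega) hi
  rcases Nat.lt_or_ge e 11 with hsmall | hbig
  · -- `e` is 3, 5, 7 or 9
    have key : ∀ r k d : ℕ, r.Prime → e * e = r ^ k → (k = 2 ∨ (r = 3 ∧ k = 4)) → d.Prime → d ≤ 6 →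
        (∀ m, Odd m → m ∣ r ^ k - 1 → m = 1 ∨ m = d) → X = 1 ∨ (X = d ∧ d ∣ r ^ k - 1) :=
      fun r k d hr hre hcase hd hd6 hdiv => by
      haveI := Fact.mk hr
      exact S.relIndex_small hodd (he.trans hre) hcase hd hd6 hdiv
    have hdivs : ∀ (t : ℕ), t ∈ [8, 24, 48, 80] → ∀ m, Odd m → m ∣ t →
        m = 1 ∨ (m = 3 ∧ t ≠ 8 ∧ t ≠ 80) ∨ (m = 5 ∧ t = 80) := by
      intro t ht m hm hmd
      simp only [List.mem_cons, List.not_mem_nil, or_false] at ht
      rcases ht with rfl | rfl | rfl | rfl <;>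
        (have := Nat.le_of_dvd (by norm_num) hmd
         obtain ⟨c, rfl⟩ := hm
         have : c ≤ 39 := by omega
         interval_cases c <;> first | omega | (norm_num at hmd) | simp)
    obtain ⟨c, hc⟩ := he_odd
    have : e = 3 ∨ e = 5 ∨ e = 7 ∨ e = 9 := by omega
    rcases this with h | h | h | h <;> subst h
    · -- `e = 3`
      have hX3 : X = 1 := by
        rcases key 3 2 3 Nat.prime_three (by norm_num) (Or.inl rfl) Nat.prime_three (by norm_num)
          (fun m hm hd => by
            rcases hdivs 8 (by simp) m hm (by simpa using hd) with h | h | h <;> omega) with h | h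
        · exact h
        · norm_num at h
      rw [hX3] at haX hNa
      rcases Nat.lt_or_ge f 3 with hf3 | hf3
      · -- `G = E`
        have hf' : f = 1 := by obtain ⟨t, ht⟩ := hf_odd; omega
        have hall : ∀ g : G, g ∈ S.E := fun g => by
          have h1 : g ∈ P.C := (Subgroup.index_eq_one.1 hf') ▸ Subgroup.mem_top g
          exact (Subgroup.relIndex_eq_one.1 (hX.symm.trans hX3)) h1
        have hB := P.cover hbase ((q ^ (n / 2) + 1) * (Nat.card V - 1)) 0
          (fun c s hs' hC hA => P.sum_disjoint s hs' _ (fun g hg => by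
            rw [P.nfix_eq ⟨g, hC g hg⟩, ← hq]
            refine Nat.pow_le_pow_right (by omega) ?_
            have := S.finrank_fix_E (hall g) (hA g hg)
            rw [← hn] at this
            omega))
          (fun c s hs' hC => by
            rw [Finset.sum_eq_zero]
            intro g hg
            exact absurd (S.le_C (hall g)) (hC g hg))
        rw [hVV, hVc, ← ha, mul_zero, add_zero, haX, show 3 * 3 * 1 - 1 = 8 by norm_num] at hB
        obtain ⟨w, hw⟩ : ∃ w, q ^ n = w + 1 := ⟨q ^ n - 1, by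
          have := Nat.one_le_pow n q (by omega); omega⟩
        have h16 : 16 * q ^ (n / 2) ≤ q ^ n := by
          calc 16 * q ^ (n / 2) ≤ q ^ 2 * q ^ (n / 2) := by gcongr; nlinarith
            _ = q ^ (2 + n / 2) := (pow_add _ _ _).symm
            _ ≤ q ^ n := Nat.pow_le_pow_right (by omega) (by omega)
        have h1 : 1 ≤ q ^ (n / 2) := Nat.one_le_pow _ _ (by omega)
        rw [show 2 * n = n + n by ring, pow_add, hw] at hB
        rw [show (w + 1) * (w + 1) = (w + 2) * w + 1 by ring, Nat.add_sub_cancel,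
          Nat.add_sub_cancel, ← mul_assoc] at hB
        have hw0 : 0 < w := by omega
        have := Nat.le_of_mul_le_mul_right hB hw0
        omega
      have hq8 : 8 ≤ q := le_trans (Nat.pow_le_pow_right (show 1 ≤ 2 by norm_num) hf3) hfq
      have hq10 : 10 ≤ q := by
        have h3 := hdvd 3 Nat.prime_three (dvd_refl 3)
        omega
      rcases Nat.lt_or_ge n 6 with hn6 | hn6
      · refine hlarge 3 (n - 1) (n - 2) (Or.inr ⟨rfl, by omega⟩) (by omega) (by omega) (by omega)
          (by omega) ?_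
        rw [show n - (n - 1) = 1 by omega, hNa]
        have h3f : 3 * f ≤ q := by
          rcases Nat.lt_or_ge f 5 with h5 | h5
          · obtain ⟨t, ht⟩ := hf_odd
            omega
          · have : 12 ≤ q := le_trans (by norm_num)
              (le_trans (Nat.pow_le_pow_right (show 1 ≤ 2 by norm_num) h5) hfq)
            have := four_mul_le hf_odd hfq this
            omega
        calc 3 * (3 * 3 * 1 * f) ≤ 9 * q := by omega
          _ ≤ q * q := Nat.mul_le_mul_right _ (by omega)
          _ = q ^ (2 * 1) := by ring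
      · refine hsix hn6 (q ^ 4) ?_ (hmono 4 (by omega))
        rw [hNa]
        calc 2 * (3 * 3 * 1 * f) ≤ 18 * q := by omega
          _ ≤ q ^ 4 := by
            rw [show q ^ 4 = q ^ 3 * q by ring]
            exact Nat.mul_le_mul_right _ (le_trans (by norm_num) (Nat.pow_le_pow_left hq8 3))
    · -- `e = 5`
      have hX5 : X ≤ 3 := by
        rcases key 5 2 3 Nat.prime_five (by norm_num) (Or.inl rfl) Nat.prime_three (by norm_num)
          (fun m hm hd => by
            rcases hdivs 24 (by simp) m hm (by simpa using hd) with h | h | h <;> omega) with h | h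
        · omega
        · omega
      have hq6 : 6 ≤ q := by
        have h5 := hdvd 5 Nat.prime_five (dvd_refl 5)
        omega
      have hN75 : N ≤ 75 * f := by
        rw [hNa]
        exact Nat.mul_le_mul_right _ (by omega)
      rcases Nat.lt_or_ge n 6 with hn6 | hn6
      · have hn5 : n = 5 := by omega
        have hc' := hcount 3 3 2 (Or.inr ⟨rfl, by omega⟩) (by omega) (by omega)
        rw [hn5] at hc'
        rcases Nat.lt_or_ge f 3 with hf3 | hf3
        · have hf' : f = 1 := by obtain ⟨t, ht⟩ := hf_odd; omega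
          have haN' : N = a := by rw [hNa, haX, hf', mul_one]
          rw [haN', Nat.sub_self, zero_mul, add_zero] at hc'
          refine contra (n := 5) (d := 3) hq1 (by norm_num) (by norm_num : 2 ≤ 3) ha1 ?_ hc'
          calc 3 * a ≤ 6 ^ 4 := by omega
            _ ≤ q ^ (2 * (5 - 3)) := Nat.pow_le_pow_left hq6 4
        · have hq11 : 11 ≤ q := by
            have h5 := hdvd 5 Nat.prime_five (dvd_refl 5)
            have : 8 ≤ q := le_trans (Nat.pow_le_pow_right (show 1 ≤ 2 by norm_num) hf3) hfq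
            omega
          have h3f : 3 * f ≤ q := by
            rcases Nat.lt_or_ge f 5 with h5 | h5
            · obtain ⟨t, ht⟩ := hf_odd
              omega
            · have : 12 ≤ q := le_trans (by norm_num)
                (le_trans (Nat.pow_le_pow_right (show 1 ≤ 2 by norm_num) h5) hfq)
              have := four_mul_le hf_odd hfq this
              omega
          have e1 : (a - 1) * (3 * q ^ (2 * 3)) ≤ 225 * q ^ 6 := by
            have : a ≤ 75 := by rw [haX]; omega
            calc (a - 1) * (3 * q ^ (2 * 3)) ≤ 75 * (3 * q ^ (2 * 3)) :=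
                  Nat.mul_le_mul_right _ (by omega)
              _ = 225 * q ^ 6 := by ring
          have e2 : (N - a) * (2 * q ^ (5 + 2)) ≤ 50 * q ^ 8 := by
            calc (N - a) * (2 * q ^ (5 + 2)) ≤ (75 * f) * (2 * q ^ (5 + 2)) :=
                  Nat.mul_le_mul_right _ (by omega)
              _ = 50 * (3 * f) * q ^ 7 := by ring
              _ ≤ 50 * q * q ^ 7 := by gcongr
              _ = 50 * q ^ 8 := by ring
          have e3 : 225 * q ^ 6 ≤ 2 * q ^ 8 := by
            calc 225 * q ^ 6 ≤ (2 * q ^ 2) * q ^ 6 := Nat.mul_le_mul_right _ (by nlinarith)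
              _ = 2 * q ^ 8 := by ring
          have e4 : 121 * q ^ 8 ≤ q ^ (2 * 5) := by
            calc 121 * q ^ 8 ≤ q ^ 2 * q ^ 8 := Nat.mul_le_mul_right _ (by nlinarith)
              _ = q ^ (2 * 5) := by ring
          have : 1 ≤ q ^ 8 := Nat.one_le_pow _ _ (by omega)
          omega
      · refine hsix hn6 (q ^ 4) ?_ (hmono 4 (by omega))
        calc 2 * N ≤ 150 * q := by omega
          _ ≤ q ^ 3 * q := Nat.mul_le_mul_right _ (le_trans (by norm_num) (Nat.pow_le_pow_left hq6 3))
          _ = q ^ 4 := by ring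
    · -- `e = 7`
      have hX7 : X ≤ 3 := by
        rcases key 7 2 3 (by norm_num) (by norm_num) (Or.inl rfl) Nat.prime_three (by norm_num)
          (fun m hm hd => by
            rcases hdivs 48 (by simp) m hm (by simpa using hd) with h | h | h <;> omega) with h | h
        · omega
        · omega
      have hq8 : 8 ≤ q := by
        have := Nat.le_of_dvd (by omega) (hdvd 7 (by norm_num) (dvd_refl 7))
        omega
      refine hsix (by omega) (q ^ 4) ?_ (hmono 4 (by omega))
      have : N ≤ 147 * f := by rw [hNa]; exact Nat.mul_le_mul_right _ (by omega)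
      calc 2 * N ≤ 294 * q := by omega
        _ ≤ q ^ 3 * q := Nat.mul_le_mul_right _ (le_trans (by norm_num) (Nat.pow_le_pow_left hq8 3))
        _ = q ^ 4 := by ring
    · -- `e = 9`
      have hX9 : X ≤ 5 := by
        rcases key 3 4 5 Nat.prime_three (by norm_num) (Or.inr ⟨rfl, rfl⟩) Nat.prime_five (by norm_num)
          (fun m hm hd => by
            rcases hdivs 80 (by simp) m hm (by simpa using hd) with h | h | h <;> omega) with h | h
        · omega
        · omega
      refine hsix (by omega) (q ^ 6) ?_ (hmono 6 (by omega))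
      have : N ≤ 405 * f := by rw [hNa]; exact Nat.mul_le_mul_right _ (by omega)
      calc 2 * N ≤ 810 * q := by omega
        _ ≤ q ^ 5 * q := Nat.mul_le_mul_right _ (le_trans (by norm_num) (Nat.pow_le_pow_left hq4 5))
        _ = q ^ 6 := by ring
  -- large `e`
  have hXb : 4 * X ≤ (e * e) * (e * e) := by
    have := S.relIndex_le hodd hs hlt hM1
    rw [he] at this
    omega
  have h8N : 4 * N ≤ e ^ 6 * f := by
    rw [hNa]
    calc 4 * (e * e * X * f) = e * e * (4 * X) * f := by ring
      _ ≤ e * e * (e * e * (e * e)) * f := by gcongr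
      _ = e ^ 6 * f := by ring
  rcases Nat.lt_or_ge e 25 with hmid | hhuge
  · have hq12 : 12 ≤ q := by
      have hd : e ∣ q - 1 := by
        obtain ⟨c, hc⟩ := he_odd
        have : e = 11 ∨ e = 13 ∨ e = 15 ∨ e = 17 ∨ e = 19 ∨ e = 21 ∨ e = 23 := by omega
        rcases this with h | h | h | h | h | h | h <;> subst h
        · exact hdvd 11 (by norm_num) (dvd_refl _)
        · exact hdvd 13 (by norm_num) (dvd_refl _)
        · exact Nat.Coprime.mul_dvd_of_dvd_of_dvd (by norm_num : Nat.Coprime 3 5)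
            (hdvd 3 Nat.prime_three (by norm_num)) (hdvd 5 Nat.prime_five (by norm_num))
        · exact hdvd 17 (by norm_num) (dvd_refl _)
        · exact hdvd 19 (by norm_num) (dvd_refl _)
        · exact Nat.Coprime.mul_dvd_of_dvd_of_dvd (by norm_num : Nat.Coprime 3 7)
            (hdvd 3 Nat.prime_three (by norm_num)) (hdvd 7 (by norm_num) (by norm_num))
        · exact hdvd 23 (by norm_num) (dvd_refl _)
      have := Nat.le_of_dvd (by omega) hd
      omega
    have h4f := four_mul_le hf_odd hfq hq12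
    have hbd : e ^ 6 ≤ 8 * 12 ^ (2 * ((e + 3) / 4) - 1) := by
      obtain ⟨c, hc⟩ := he_odd
      have : e = 11 ∨ e = 13 ∨ e = 15 ∨ e = 17 ∨ e = 19 ∨ e = 21 ∨ e = 23 := by omega
      rcases this with h | h | h | h | h | h | h <;> subst h <;> norm_num
    refine hsix (by omega) _ le_rfl ?_
    have h1 : e ^ 6 ≤ 8 * q ^ (2 * ((n + 3) / 4) - 1) := by
      refine hbd.trans (Nat.mul_le_mul_left _ ?_)
      exact (Nat.pow_le_pow_left hq12 _).trans (Nat.pow_le_pow_right (by omega) (by omega))
    have h2 : 4 * (e ^ 6 * f) ≤ 8 * q ^ (2 * ((n + 3) / 4)) := by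
      calc 4 * (e ^ 6 * f) = e ^ 6 * (4 * f) := by ring
        _ ≤ (8 * q ^ (2 * ((n + 3) / 4) - 1)) * q := Nat.mul_le_mul h1 h4f
        _ = 8 * (q ^ (2 * ((n + 3) / 4) - 1) * q) := by ring
        _ = _ := by rw [← pow_succ]; congr 2; omega
    omega
  · refine hsix (by omega) _ le_rfl ?_
    have h1 : e ^ 6 ≤ 2 * 16 ^ ((n + 3) / 4) :=
      (Nat.pow_le_pow_left hen 6).trans (sixth_pow_le n (by omega))
    have h2 := sixteen_mul_le hq4 hf_odd hfq (show 1 ≤ (n + 3) / 4 by omega)
    have h3 : e ^ 6 * f ≤ 2 * (f * 16 ^ ((n + 3) / 4)) := by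
      calc e ^ 6 * f ≤ 2 * 16 ^ ((n + 3) / 4) * f := Nat.mul_le_mul_right _ h1
        _ = _ := by ring
    omega

end Cfsg.Agent.OddBase75
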