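/-
Solvable groups of odd order acting completely reducibly on a finite abelian group have a base of
size two.
-/
import Mathlib
import Cfsg.Agent.Lib.OddBasePrim75

set_option autoImplicit false

namespace Cfsg.Agent.OddBase75

open MulAction

universe v w

/-- The faithful case. -/
theorem baseTwo_faithful {G V : Type v} [Group G] [Finite G] [Group.IsSolvable G] [AddCommGroup V]
    [Finite V] [DistribMulAction G V] [FaithfulSMul G V] (hs : Small.{v} (Nat.card V))
    (hodd : Odd (Nat.card G)) (hcr : CR G V) : BaseTwo G V := by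
  classical
  rcases subsingleton_or_nontrivial V with h | h
  · exact ⟨0, 0, fun g _ _ x => Subsingleton.elim _ _⟩
  by_cases hirr : Irred G V
  · obtain ⟨A, ⟨hAn, hab⟩, hmax⟩ := Set.exists_max_image
      {A : Subgroup G | A.Normal ∧ ∀ a ∈ A, ∀ b ∈ A, a * b = b * a}
      (fun A : Subgroup G => Nat.card A) (Set.toFinite _)
      ⟨⊥, inferInstance, fun a ha b hb => by
        rw [Subgroup.mem_bot] at ha hb
        rw [ha, hb]⟩
    haveI := hAn
    by_cases hI : NoIdem (V := V) A
    · exact baseTwo_primitive hs hodd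
        { A := A
          normal := hAn
          ab := hab
          hmax := fun B hB hle hBab =>
            (Subgroup.eq_of_le_of_card_ge hle (hmax B ⟨hB, hBab⟩)).symm
          inv := fun r hr hr0 => exists_inverse hirr A hab hI hr hr0 }
    · exact baseTwo_of_idem hs hodd hirr A hab hI
  · simp only [Irred, not_forall, not_or] at hirr
    obtain ⟨U, hU, h0, h1⟩ := hirr
    exact baseTwo_reducible hs hodd hcr hU h0 h1

/-- The general case, passing to the group induced on the module. -/
theorem baseTwo_of_small {V : Type v} [AddCommGroup V] [Finite V] (hs : Small.{v} (Nat.card V))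
    {G : Type w} [Group G] [Finite G] [Group.IsSolvable G] [DistribMulAction G V]
    (hodd : Odd (Nat.card G)) (hcr : CR G V) : BaseTwo G V := by
  let ρ : G →* AddMonoid.End V := DistribMulAction.toAddMonoidEnd G V
  let σ : G →* (AddMonoid.End V)ˣ := ρ.toHomUnits
  let H := σ.range
  haveI : Finite (AddMonoid.End V) := finite_end
  haveI : Group.IsSolvable H := Group.isSolvable_of_surjective σ.rangeRestrict_surjective
  letI : DistribMulAction H V :=
    { smul := fun h x => ((h : (AddMonoid.End V)ˣ) : AddMonoid.End V) x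
      one_smul := fun x => rfl
      mul_smul := fun h k x => rfl
      smul_zero := fun h => map_zero _
      smul_add := fun h => map_add _ }
  haveI : FaithfulSMul H V := ⟨fun {h k} hh => Subtype.ext (Units.ext (AddMonoidHom.ext hh))⟩
  have hcrH : CR H V := fun U hU => by
    obtain ⟨W, hW, hd, hsup⟩ := hcr U (fun g x hx => hU (σ.rangeRestrict g) x hx)
    refine ⟨W, fun h x hx => ?_, hd, hsup⟩
    obtain ⟨g, rfl⟩ := σ.rangeRestrict_surjective h
    exact hW g x hx
  obtain ⟨a, b, hab⟩ := baseTwo_faithful (G := H) hs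
    (odd_card_of_dvd (Subgroup.card_range_dvd σ) hodd) hcrH
  exact ⟨a, b, fun g ha hb x => hab (σ.rangeRestrict g) ha hb x⟩

theorem small_all : ∀ n : ℕ, Small.{v} n := by
  intro n
  induction n using Nat.strong_induction_on with
  | _ n ih =>
  intro W _ _ hW H _ _ _ _ hodd hcr
  exact baseTwo_of_small (ih _ hW) hodd hcr

/-- Solvable groups of odd order have a base of size two on completely reducible modules. -/
theorem baseTwo {A : Type w} {V : Type v} [Group A] [Finite A] [Group.IsSolvable A] [AddCommGroup V]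
    [Finite V] [DistribMulAction A V] [FaithfulSMul A V] (hodd : Odd (Nat.card A))
    (hcr : ∀ U : AddSubgroup V, (∀ a : A, ∀ v ∈ U, a • v ∈ U) →
      ∃ W : AddSubgroup V, (∀ a : A, ∀ w ∈ W, a • w ∈ W) ∧ U ⊓ W = ⊥ ∧ U ⊔ W = ⊤) :
    ∃ v w : V, ∀ a : A, a • v = v → a • w = w → a = 1 := by
  obtain ⟨v, w, h⟩ := baseTwo_of_small (small_all _) hodd hcr
  exact ⟨v, w, fun a h1 h2 => eq_of_smul_eq_smul (α := V) fun x => by rw [h a h1 h2 x, one_smul]⟩

/-- The same, given that groups of odd order are solvable. -/
theorem baseTwo_of_hFT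
    (hFT : ∀ {A : Type w} [Group A] [Finite A], Odd (Nat.card A) → Group.IsSolvable A)
    {A : Type w} {V : Type v} [Group A] [Finite A] [AddCommGroup V] [Finite V]
    [DistribMulAction A V] [FaithfulSMul A V] (hA : Odd (Nat.card A))
    (hcr : ∀ U : AddSubgroup V, (∀ a : A, ∀ v ∈ U, a • v ∈ U) →
      ∃ W : AddSubgroup V, (∀ a : A, ∀ w ∈ W, a • w ∈ W) ∧ U ⊓ W = ⊥ ∧ U ⊔ W = ⊤) :
    ∃ v w : V, ∀ a : A, a • v = v → a • w = w → a = 1 :=
  haveI : Group.IsSolvable A := hFT hA
  baseTwo hA hcr

end Cfsg.Agent.OddBase75
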