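import Cfsg.Agent.S4744
import Cfsg.Agent.S0044
import Cfsg.Agent.S0205
import Cfsg.Agent.S0215

/-!
Groups in which centralisers of nontrivial `p`-elements have odd order, acting transitively and
faithfully on a set of `p`-power size, with no character of `p`-defect zero: the Sylow `p`-subgroup
is normal and some character has `2`-defect zero.
-/

set_option autoImplicit false
set_option linter.style.haveILetI false

open Cfsg

namespace Cfsg.Agent.OddCentTransitive65

open scoped ComplexConjugate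
open Cfsg.Agent.CharBasic Cfsg.Agent.CharBasicOrth Cfsg.Agent.CharAverage

variable {G : Type*} [Group G] [Finite G] {p : ℕ} [Fact p.Prime]

/-- Centralisers of nontrivial `p`-elements have odd order. -/
def OddC (p : ℕ) (G : Type*) [Group G] : Prop :=
  ∀ g : G, g ≠ 1 → (∃ k : ℕ, orderOf g = p ^ k) →
    Odd (Nat.card ↥(Subgroup.centralizer ({g} : Set G)))

omit [Finite G] in
theorem pElement_of_mem {P : Subgroup G} (hP : IsPGroup p P) {x : G} (hx : x ∈ P) :
    ∃ k : ℕ, orderOf x = p ^ k := by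
  obtain ⟨k, hk⟩ := (IsPGroup.iff_orderOf.1 hP) ⟨x, hx⟩
  exact ⟨k, by rwa [Subgroup.orderOf_mk] at hk⟩

theorem not_dvd_of_odd_centralizer (hC : OddC p G) {t : G} (ht : t * t = 1) (ht1 : t ≠ 1) :
    ¬ p ∣ Nat.card (Subgroup.centralizer ({t} : Set G)) := by
  intro h
  obtain ⟨x, hx⟩ := exists_prime_orderOf_dvd_card' p h
  have hx' : orderOf (x : G) = p := by rw [Subgroup.orderOf_coe, hx]
  have hpP : p.Prime := Fact.out
  have hx1 : (x : G) ≠ 1 := fun e => hpP.ne_one (by rw [← hx', e, orderOf_one])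
  have hodd := hC x hx1 ⟨1, by rw [pow_one, hx']⟩
  have hmem : t ∈ Subgroup.centralizer ({(x : G)} : Set G) := by
    rw [Subgroup.mem_centralizer_singleton_iff]
    exact (Subgroup.mem_centralizer_singleton_iff.1 x.2).symm
  refine hodd.not_two_dvd_nat ?_
  have h2 : orderOf (⟨t, hmem⟩ : Subgroup.centralizer ({(x : G)} : Set G)) = 2 := by
    rw [Subgroup.orderOf_mk]
    exact orderOf_eq_prime (by rw [pow_two, ht]) ht1
  exact h2 ▸ orderOf_dvd_natCard _

omit [Finite G] in
/-- A characteristic subgroup of a subgroup is normalised by the normaliser of the subgroup. -/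
theorem normalizer_le_map_of_characteristic (M : Subgroup G) (K : Subgroup M) [K.Characteristic] :
    Subgroup.normalizer (M : Set G) ≤
      Subgroup.normalizer ((K.map M.subtype : Subgroup G) : Set G) := by
  have key : ∀ g ∈ Subgroup.normalizer (M : Set G), ∀ x ∈ K.map M.subtype,
      g * x * g⁻¹ ∈ K.map M.subtype := by
    rintro g hg _ ⟨y, hy, rfl⟩
    have hg' := inv_mem hg
    let φ : M ≃* M :=
      { toFun := fun m => ⟨g * m * g⁻¹, (Subgroup.mem_normalizer_iff.1 hg m).1 m.2⟩
        invFun := fun m => ⟨g⁻¹ * m * g, by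
          simpa using (Subgroup.mem_normalizer_iff.1 hg' m).1 m.2⟩
        left_inv := fun m => Subtype.ext (by simp [mul_assoc])
        right_inv := fun m => Subtype.ext (by simp [mul_assoc])
        map_mul' := fun a b => Subtype.ext (by simp [mul_assoc]) }
    exact ⟨φ y, (Subgroup.characteristic_iff_map_le.1 inferInstance φ)
      (Subgroup.mem_map_of_mem φ.toMonoidHom hy), rfl⟩
  intro g hg
  rw [Subgroup.mem_normalizer_iff]
  refine fun x => ⟨key g hg x, fun hx => ?_⟩
  simpa [mul_assoc] using key g⁻¹ (inv_mem hg) _ hx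

/-- An involution does not commute with a nontrivial `p`-element. -/
theorem not_commute (hC : OddC p G) {t : G} (ht : t * t = 1) (ht1 : t ≠ 1) {x : G} (hx1 : x ≠ 1)
    (hxk : ∃ k : ℕ, orderOf x = p ^ k) : t * x ≠ x * t := by
  intro h
  have hmem : t ∈ Subgroup.centralizer ({x} : Set G) := by
    rw [Subgroup.mem_centralizer_singleton_iff]; exact h
  refine (hC x hx1 hxk).not_two_dvd_nat ?_
  have h2 : orderOf (⟨t, hmem⟩ : Subgroup.centralizer ({x} : Set G)) = 2 := by
    rw [Subgroup.orderOf_mk]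
    exact orderOf_eq_prime (by rw [pow_two, ht]) ht1
  exact h2 ▸ orderOf_dvd_natCard _

/-- An involution inverting an element of odd order is conjugate to the product by it. -/
theorem exists_half {t c : G} (ht : t * t = 1) (hc : t * c * t = c⁻¹) (hodd : Odd (orderOf c)) :
    ∃ d ∈ Subgroup.zpowers c, d * t * d⁻¹ = c * t := by
  obtain ⟨k, hk⟩ := hodd
  refine ⟨c ^ (k + 1), Subgroup.pow_mem _ (Subgroup.mem_zpowers c) _, ?_⟩
  have tinv : t⁻¹ = t := inv_eq_of_mul_eq_one_right ht
  have h1 : t * c ^ (k + 1) * t⁻¹ = (c ^ (k + 1))⁻¹ := by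
    rw [← conj_pow, tinv, hc, inv_pow]
  have h2 : c ^ (k + 1) * c ^ (k + 1) = c := by
    rw [← pow_add, show k + 1 + (k + 1) = (2 * k + 1) + 1 by ring, pow_succ, ← hk,
      pow_orderOf_eq_one, one_mul]
  have h3 : t * (c ^ (k + 1))⁻¹ = c ^ (k + 1) * t := by
    calc t * (c ^ (k + 1))⁻¹ = t * (t * c ^ (k + 1) * t⁻¹) := by rw [h1]
      _ = (t * t) * c ^ (k + 1) * t⁻¹ := by group
      _ = c ^ (k + 1) * t := by rw [ht, one_mul, tinv]
  rw [mul_assoc, h3, ← mul_assoc, h2]

/-- An involution inverts every element it normalises fixed-point-freely. -/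
theorem invert_of_normalises {t : G} (ht : t * t = 1) {P : Subgroup G}
    (hn : ∀ x ∈ P, t * x * t ∈ P) (hfix : ∀ x ∈ P, t * x * t = x → x = 1) :
    ∀ x ∈ P, t * x * t = x⁻¹ := by
  let φ : P →* P :=
    { toFun := fun z => ⟨t * (z : G) * t, hn z z.2⟩
      map_one' := Subtype.ext (by simp [ht])
      map_mul' := fun a b => Subtype.ext (by
        show t * ((a : G) * b) * t = (t * a * t) * (t * b * t)
        calc t * ((a : G) * b) * t = t * a * 1 * b * t := by group
          _ = t * a * (t * t) * b * t := by rw [ht]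
          _ = _ := by group) }
  have hff : MonoidHom.FixedPointFree φ := fun z hz =>
    Subtype.ext (hfix z z.2 (congrArg Subtype.val hz))
  have h2 : Function.Involutive φ := fun z => Subtype.ext (by
    show t * (t * (z : G) * t) * t = z
    calc t * (t * (z : G) * t) * t = (t * t) * z * (t * t) := by group
      _ = z := by rw [ht, one_mul, mul_one])
  exact fun x hx => congrArg Subtype.val (congrFun (hff.coe_eq_inv_of_involutive h2) ⟨x, hx⟩)

/-- Two involutions with product of even order commute with a common involution. -/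
theorem common_of_even {u v : G} (hu : u * u = 1) (hv : v * v = 1)
    (he : ¬ Odd (orderOf (u * v))) :
    ∃ z : G, z * z = 1 ∧ z ≠ 1 ∧ u * z = z * u ∧ v * z = z * v := by
  obtain ⟨k, hk⟩ := Nat.not_odd_iff_even.1 he
  have hpos := orderOf_pos (u * v)
  refine ⟨(u * v) ^ k, by rw [← pow_add, ← hk, pow_orderOf_eq_one],
    pow_ne_one_of_lt_orderOf (by omega) (by omega), ?_, ?_⟩
  all_goals
    have hz : ((u * v) ^ k)⁻¹ = (u * v) ^ k :=
      inv_eq_of_mul_eq_one_right (by rw [← pow_add, ← hk, pow_orderOf_eq_one])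
  · have e : u * (u * v) ^ k * u⁻¹ = ((u * v) ^ k)⁻¹ := by
      rw [← conj_pow, ← inv_pow, mul_inv_rev, inv_eq_of_mul_eq_one_right hu,
        inv_eq_of_mul_eq_one_right hv, ← mul_assoc, hu, one_mul]
    rw [hz] at e
    exact mul_inv_eq_iff_eq_mul.1 e
  · have e : v * (u * v) ^ k * v⁻¹ = ((u * v) ^ k)⁻¹ := by
      rw [← conj_pow, ← inv_pow, mul_inv_rev, inv_eq_of_mul_eq_one_right hu,
        inv_eq_of_mul_eq_one_right hv, mul_assoc, mul_assoc, hv, mul_one]
    rw [hz] at e
    exact mul_inv_eq_iff_eq_mul.1 e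

/-- Without a character of `p`-defect zero, a conjugate of each involution inverts a nontrivial
`p`-element. -/
theorem exists_conj_inverting (hC : OddC p G)
    (hno : ∀ χ : Cfsg.IrrCharacter G,
      (Cfsg.charDegree (χ : G → ℂ)).factorization p < (Nat.card G).factorization p)
    {t : G} (ht2 : t * t = 1) (ht1 : t ≠ 1) :
    ∃ g x : G, x ≠ 1 ∧ (∃ k : ℕ, orderOf x = p ^ k) ∧
      g * t * g⁻¹ * x * (g * t * g⁻¹) = x⁻¹ := by
  classical
  have := Fintype.ofFinite G
  have hpP : p.Prime := Fact.out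
  by_contra hcon
  push Not at hcon
  have hpC := not_dvd_of_odd_centralizer hC ht2 ht1
  obtain ⟨P⟩ : Nonempty (Sylow p G) := inferInstance
  obtain ⟨a, ha⟩ := IsPGroup.iff_card.1 P.2
  have ha' : (Nat.card G).factorization p = a := by
    have := P.card_eq_multiplicity
    rw [ha] at this
    exact (Nat.pow_right_injective hpP.two_le this).symm
  have hG : (Nat.card G : ℂ) ≠ 0 := Nat.cast_ne_zero.2 Nat.card_pos.ne'
  have hcount : ∀ a b : G, ((if a * t * a⁻¹ * (b * t * b⁻¹) ∈ (P : Subgroup G) then 1 else 0 : ℂ)) =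
      if a⁻¹ * b ∈ Subgroup.centralizer ({t} : Set G) then 1 else 0 := by
    intro a b
    refine if_congr ⟨fun h => ?_, fun h => ?_⟩ rfl rfl
    · have hu : a * t * a⁻¹ * (a * t * a⁻¹) = 1 := by
        calc _ = a * (t * t) * a⁻¹ := by group
          _ = 1 := by rw [ht2]; group
      have hx1 : a * t * a⁻¹ * (b * t * b⁻¹) = 1 := by
        by_contra hne
        refine hcon a _ hne (pElement_of_mem P.2 h) ?_
        have hv : (b * t * b⁻¹)⁻¹ = b * t * b⁻¹ := inv_eq_of_mul_eq_one_right (by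
          calc _ = b * (t * t) * b⁻¹ := by group
            _ = 1 := by rw [ht2]; group)
        calc a * t * a⁻¹ * (a * t * a⁻¹ * (b * t * b⁻¹)) * (a * t * a⁻¹)
            = (a * t * a⁻¹ * (a * t * a⁻¹)) * (b * t * b⁻¹) * (a * t * a⁻¹) := by group
          _ = b * t * b⁻¹ * (a * t * a⁻¹) := by rw [hu, one_mul]
          _ = _ := by rw [mul_inv_rev, hv, inv_eq_of_mul_eq_one_right hu]
      rw [Subgroup.mem_centralizer_singleton_iff]
      have hv2 : b * t * b⁻¹ = a * t * a⁻¹ := by
        rw [← inv_eq_of_mul_eq_one_right hu]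
        exact (inv_eq_of_mul_eq_one_right hx1).symm
      calc a⁻¹ * b * t = a⁻¹ * (b * t * b⁻¹) * b := by group
        _ = t * (a⁻¹ * b) := by rw [hv2]; group
    · rw [Subgroup.mem_centralizer_singleton_iff] at h
      have : b * t * b⁻¹ = a * t * a⁻¹ := by
        calc b * t * b⁻¹ = a * (a⁻¹ * b * t) * b⁻¹ := by group
          _ = a * t * a⁻¹ := by rw [h]; group
      rw [this, show a * t * a⁻¹ * (a * t * a⁻¹) = a * (t * t) * a⁻¹ by group, ht2, mul_one,
        mul_inv_cancel]
      exact one_mem _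
  have htot : ∑ a : G, ∑ b : G,
      ((if a * t * a⁻¹ * (b * t * b⁻¹) ∈ (P : Subgroup G) then 1 else 0 : ℂ)) =
      (Nat.card G : ℂ) * Nat.card (Subgroup.centralizer ({t} : Set G)) := by
    simp only [hcount]
    have : ∀ a : G, ∑ b : G, (if a⁻¹ * b ∈ Subgroup.centralizer ({t} : Set G) then 1 else 0 : ℂ)
        = Nat.card (Subgroup.centralizer ({t} : Set G)) := by
      intro a
      rw [← Equiv.sum_comp (Equiv.mulLeft a)]
      simp [Finset.sum_boole, Nat.card_eq_fintype_card, Fintype.card_subtype]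
    simp only [this, Finset.sum_const, Finset.card_univ, nsmul_eq_mul, Nat.card_eq_fintype_card]
  have hm : ∀ χ : Cfsg.IrrCharacter G, ∃ m : ℕ, ∑ x : G,
      (if x ∈ (P : Subgroup G) then (χ : G → ℂ) x⁻¹ else 0) =
      (Nat.card (P : Subgroup G) : ℂ) * m := by
    intro χ
    obtain ⟨m, hm⟩ := classInner_isCharacter
      (isCharacter_comap (P : Subgroup G).subtype (irr_isCharacter χ))
      (Cfsg.Agent.CharBasicDecomp.isCharacter_one (G := (P : Subgroup G)))
    refine ⟨m, ?_⟩
    rw [← hm, card_mul_classInner, ← Equiv.sum_comp (Equiv.inv G)]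
    simp only [Equiv.inv_apply, inv_inv, inv_mem_iff, map_one, mul_one]
    rw [← Finset.sum_filter]
    exact Finset.sum_subtype _ (by simp) _
  choose m hm using hm
  have hkey : (Nat.card (Subgroup.centralizer ({t} : Set G)) : ℂ) =
      (Nat.card (P : Subgroup G) : ℂ) *
        ∑ χ : Cfsg.IrrCharacter G, (χ : G → ℂ) t ^ 2 * m χ / (χ : G → ℂ) 1 := by
    refine mul_left_cancel₀ (pow_ne_zero 2 hG) ?_
    have hcol : ∀ z : G, (∑ χ : Cfsg.IrrCharacter G, (χ : G → ℂ) 1 * (χ : G → ℂ) z) =
        if z = 1 then (Nat.card G : ℂ) else 0 := by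
      intro z
      have h := sum_irr_mul_conj z 1
      have hcc : IsConj z 1 ↔ z = 1 := isConj_one_left
      simp only [hcc] at h
      rw [show (∑ χ : Cfsg.IrrCharacter G, (χ : G → ℂ) 1 * (χ : G → ℂ) z) =
        ∑ χ : Cfsg.IrrCharacter G, (χ : G → ℂ) z * (starRingEnd ℂ) ((χ : G → ℂ) 1) from
          Finset.sum_congr rfl fun χ _ => by rw [irr_apply_one χ, Complex.conj_natCast, mul_comm],
        h]
      split_ifs with hz
      · subst hz
        rw [Subgroup.centralizer_eq_top_iff_subset.2 (by simp), Subgroup.card_top]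
      · rfl
    calc (Nat.card G : ℂ) ^ 2 * Nat.card (Subgroup.centralizer ({t} : Set G))
        = ∑ x : G, if x ∈ (P : Subgroup G) then ∑ a : G, ∑ b : G,
            ∑ χ : Cfsg.IrrCharacter G, (χ : G → ℂ) 1 *
              (χ : G → ℂ) (a * t * a⁻¹ * (b * t * b⁻¹ * x⁻¹)) else 0 := by
          simp only [hcol]
          rw [pow_two, mul_assoc, ← htot, Finset.mul_sum]
          simp only [Finset.mul_sum]
          rw [← Finset.sum_filter]
          conv_rhs => rw [Finset.sum_comm]
          refine Finset.sum_congr rfl fun a _ => ?_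
          conv_rhs => rw [Finset.sum_comm]
          refine Finset.sum_congr rfl fun b _ => ?_
          simp only [← mul_assoc (a * t * a⁻¹), mul_inv_eq_one]
          rw [Finset.sum_ite_eq]
          simp
      _ = ∑ χ : Cfsg.IrrCharacter G, (Nat.card G : ℂ) ^ 2 * (χ : G → ℂ) t ^ 2 /
            (χ : G → ℂ) 1 * ∑ x : G, (if x ∈ (P : Subgroup G) then (χ : G → ℂ) x⁻¹ else 0) := by
          simp only [Finset.mul_sum]
          rw [Finset.sum_comm (γ := Cfsg.IrrCharacter G)]
          refine Finset.sum_congr rfl fun x _ => ?_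
          by_cases hx : x ∈ (P : Subgroup G)
          · simp only [if_pos hx]
            rw [Finset.sum_comm_cycle]
            refine Finset.sum_congr rfl fun χ _ => ?_
            rw [Finset.sum_comm]
            simp only [← Finset.mul_sum, sum_conj_mul, ← Finset.sum_div]
            have h1 := irr_one_ne_zero χ
            field_simp
          · simp [hx]
      _ = _ := by
          simp only [hm, Finset.mul_sum]
          exact Finset.sum_congr rfl fun χ _ => by ring
  choose z hz using fun χ : Cfsg.IrrCharacter G => apply_involution_eq_int (irr_isCharacter χ) ht2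
  let d : Cfsg.IrrCharacter G → ℕ := fun χ => Cfsg.charDegree (χ : G → ℂ)
  let e : Cfsg.IrrCharacter G → ℕ := fun χ => d χ / p ^ (d χ).factorization p
  have he : ∀ χ, ¬ p ∣ e χ := fun χ => Nat.not_dvd_ordCompl hpP (irr_degree_pos χ).ne'
  have hd : ∀ χ, d χ = p ^ (d χ).factorization p * e χ := fun χ =>
    (Nat.ordProj_mul_ordCompl_eq_self (d χ) p).symm
  let D := ∏ χ, e χ
  let T : Cfsg.IrrCharacter G → ℤ := fun χ => z χ ^ 2 * m χ *
    (p : ℤ) ^ (a - (d χ).factorization p - 1) * ((D / e χ : ℕ) : ℤ)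
  have hterm : ∀ χ : Cfsg.IrrCharacter G, (Nat.card (P : Subgroup G) : ℂ) *
      ((χ : G → ℂ) t ^ 2 * m χ / (χ : G → ℂ) 1) * D = ((p * T χ : ℤ) : ℂ) := by
    intro χ
    obtain ⟨w, hw⟩ : e χ ∣ D := Finset.dvd_prod_of_mem e (Finset.mem_univ χ)
    have hepos : 0 < e χ := Nat.pos_of_ne_zero fun h => he χ (h ▸ dvd_zero p)
    have hw' : D / e χ = w := by rw [hw, Nat.mul_div_cancel_left _ hepos]
    have hv : (d χ).factorization p < a := ha' ▸ hno χ
    obtain ⟨r, hr⟩ : ∃ r, a = (d χ).factorization p + 1 + r := ⟨_, (Nat.add_sub_of_le hv).symm⟩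
    have hr' : a - (d χ).factorization p - 1 = r := by omega
    simp only [T, hw', hr']
    rw [hz χ, irr_apply_one χ, ha, hw, show Cfsg.charDegree (χ : G → ℂ) = d χ from rfl]
    conv_lhs => rw [hd χ, hr]
    push_cast
    have h1 : (p : ℂ) ≠ 0 := Nat.cast_ne_zero.2 hpP.ne_zero
    have h2 : (e χ : ℂ) ≠ 0 := Nat.cast_ne_zero.2 hepos.ne'
    field_simp
    ring
  have hfin : (p : ℤ) ∣ ((Nat.card (Subgroup.centralizer ({t} : Set G)) * D : ℕ) : ℤ) := by
    refine ⟨∑ χ, T χ, Int.cast_injective (α := ℂ) ?_⟩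
    push_cast
    rw [hkey, Finset.mul_sum, Finset.sum_mul, Finset.mul_sum]
    exact Finset.sum_congr rfl fun χ _ => by rw [hterm]; push_cast; ring
  rcases hpP.dvd_mul.1 (Int.natCast_dvd_natCast.1 hfin) with h | h
  · exact hpC h
  · obtain ⟨χ, -, hχ⟩ := (Prime.dvd_finsetProd_iff hpP.prime _).1 h
    exact he χ hχ

/-- A natural number which is a multiple of an algebraic integer by `p` is divisible by `p`. -/
theorem dvd_of_eq_mul {n : ℕ} {w : ℂ} (hw : IsIntegral ℤ w) (h : (n : ℂ) = (p : ℂ) * w) :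
    p ∣ n := by
  have hp0 : (p : ℂ) ≠ 0 := Nat.cast_ne_zero.2 (Fact.out : p.Prime).ne_zero
  have h1 : IsIntegral ℤ ((n : ℚ) / p) := by
    refine (isIntegral_algebraMap_iff (algebraMap ℚ ℂ).injective).1 ?_
    have : algebraMap ℚ ℂ ((n : ℚ) / p) = w := by
      rw [map_div₀, map_natCast, map_natCast, h, mul_div_cancel_left₀ _ hp0]
    rw [this]; exact hw
  obtain ⟨k, hk⟩ := IsIntegrallyClosed.isIntegral_iff.1 h1
  have hp0' : (p : ℚ) ≠ 0 := Nat.cast_ne_zero.2 (Fact.out : p.Prime).ne_zero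
  have h3 : (n : ℚ) = (p : ℚ) * (k : ℚ) := by
    rw [show (k : ℚ) = (n : ℚ) / p from hk, mul_div_cancel₀ _ hp0']
  have h2 : (n : ℤ) = (p : ℤ) * k := by exact_mod_cast h3
  exact Int.natCast_dvd_natCast.1 ⟨k, h2⟩

/-- Without a character of `p`-defect zero, a real element whose centraliser has odd order prime
to `p` cannot exist when all involutions are conjugate. -/
theorem false_of_real (hC : OddC p G)
    (hno : ∀ χ : Cfsg.IrrCharacter G,
      (Cfsg.charDegree (χ : G → ℂ)).factorization p < (Nat.card G).factorization p)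
    {t x : G} (ht : t * t = 1) (ht1 : t ≠ 1) (hxt : t * x * t = x⁻¹)
    (hodd : Odd (Nat.card (Subgroup.centralizer ({x} : Set G))))
    (hp : ¬ p ∣ Nat.card (Subgroup.centralizer ({x} : Set G)))
    (hone : ∀ v : G, v * v = 1 → v ≠ 1 → IsConj t v) : False := by
  classical
  have := Fintype.ofFinite G
  have hpP : p.Prime := Fact.out
  set C := Subgroup.centralizer ({x} : Set G)
  set T0 := Subgroup.centralizer ({t} : Set G)
  let A : Set G := {a | a * t * a⁻¹ * x * (a * t * a⁻¹) = x⁻¹}
  have inv2 : ∀ a : G, a * t * a⁻¹ * (a * t * a⁻¹) = 1 := fun a => by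
    calc _ = a * (t * t) * a⁻¹ := by group
      _ = 1 := by rw [ht]; group
  have conjeq : ∀ a b : G, a⁻¹ * b ∈ T0 → b * t * b⁻¹ = a * t * a⁻¹ := fun a b h => by
    rw [Subgroup.mem_centralizer_singleton_iff] at h
    calc b * t * b⁻¹ = a * (a⁻¹ * b * t) * b⁻¹ := by group
      _ = a * t * a⁻¹ := by rw [h]; group
  -- the inverters are the conjugates of `t` under `C`
  let O : Set (G ⧸ T0) := MulAction.orbit C ((1 : G) : G ⧸ T0)
  have hA : A = QuotientGroup.mk ⁻¹' O := by
    ext a
    constructor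
    · intro (ha : a * t * a⁻¹ * x * (a * t * a⁻¹) = x⁻¹)
      set u := a * t * a⁻¹
      have hu : u * u = 1 := inv2 a
      have hcC : u * t ∈ C := by
        rw [Subgroup.mem_centralizer_singleton_iff]
        have e1 : u * x⁻¹ = x * u := by
          rw [← ha]
          calc u * (u * x * u) = (u * u) * (x * u) := by group
            _ = x * u := by rw [hu, one_mul]
        have e2 : t * x = x⁻¹ * t := by
          rw [← hxt]
          calc t * x = t * x * (t * t) := by rw [ht, mul_one]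
            _ = _ := by group
        calc u * t * x = u * (x⁻¹ * t) := by rw [mul_assoc, e2]
          _ = x * (u * t) := by rw [← mul_assoc, e1, mul_assoc]
      have hci : t * (u * t) * t = (u * t)⁻¹ := by
        rw [mul_inv_rev, inv_eq_of_mul_eq_one_right ht, inv_eq_of_mul_eq_one_right hu,
          mul_assoc, mul_assoc u t t, ht, mul_one]
      have ho : Odd (orderOf (u * t)) := hodd.of_dvd_nat (by
        rw [← Subgroup.orderOf_mk _ hcC]; exact orderOf_dvd_natCard _)
      obtain ⟨d, hd, hdt⟩ := exists_half ht hci ho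
      have hdC : d ∈ C := (Subgroup.zpowers_le.2 hcC) hd
      rw [mul_assoc u, ht, mul_one] at hdt
      refine ⟨⟨d, hdC⟩, QuotientGroup.eq.2 ?_⟩
      show (d * 1)⁻¹ * a ∈ T0
      rw [mul_one, Subgroup.mem_centralizer_singleton_iff]
      calc d⁻¹ * a * t = d⁻¹ * (a * t * a⁻¹) * a := by group
        _ = d⁻¹ * (d * t * d⁻¹) * a := by rw [hdt]
        _ = t * (d⁻¹ * a) := by group
    · rintro ⟨⟨d, hdC⟩, hd⟩
      have hd' : ((d * 1 : G) : G ⧸ T0) = (a : G ⧸ T0) := hd
      rw [mul_one, QuotientGroup.eq] at hd'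
      show a * t * a⁻¹ * x * (a * t * a⁻¹) = x⁻¹
      rw [conjeq d a hd']
      rw [Subgroup.mem_centralizer_singleton_iff] at hdC
      have e : d⁻¹ * x * d = x := by rw [mul_assoc, ← hdC, inv_mul_cancel_left]
      calc d * t * d⁻¹ * x * (d * t * d⁻¹) = d * (t * (d⁻¹ * x * d) * t) * d⁻¹ := by group
        _ = d * x⁻¹ * d⁻¹ := by rw [e, hxt]
        _ = (d * x * d⁻¹)⁻¹ := by group
        _ = x⁻¹ := by rw [hdC, mul_inv_cancel_right]
  have hAcard : Nat.card A = Nat.card T0 * Nat.card O := by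
    rw [hA, Nat.card_congr (QuotientGroup.preimageMkEquivSubgroupProdSet T0 O), Nat.card_prod]
  have hpO : ¬ p ∣ Nat.card O := by
    intro h
    refine hp (h.trans ?_)
    rw [Nat.card_congr (MulAction.orbitEquivQuotientStabilizer C _)]
    exact Subgroup.card_quotient_dvd_card _
  -- the count
  have hrow : ∀ a : G, ∑ b : G, (if a * t * a⁻¹ * (b * t * b⁻¹) = x then 1 else 0 : ℂ) =
      if a ∈ A then (Nat.card T0 : ℂ) else 0 := by
    intro a
    by_cases haA : a ∈ A
    · rw [if_pos haA]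
      have hau : a * t * a⁻¹ * x * (a * t * a⁻¹) = x⁻¹ := haA
      set u := a * t * a⁻¹
      have hu : u * u = 1 := inv2 a
      have hv2 : u * x * (u * x) = 1 := by rw [← mul_assoc, hau, inv_mul_cancel]
      have hv1 : u * x ≠ 1 := by
        intro h
        have hxu : x = u := by
          rw [← inv_eq_of_mul_eq_one_right hu]; exact (inv_eq_of_mul_eq_one_right h).symm
        have hu1 : u ≠ 1 := fun e => ht1 (by
          calc t = a⁻¹ * (a * t * a⁻¹) * a := by group
            _ = 1 := by rw [show a * t * a⁻¹ = u from rfl, e]; group)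
        refine hodd.not_two_dvd_nat ?_
        have hm : u ∈ C := by rw [Subgroup.mem_centralizer_singleton_iff, hxu]
        have h2 : orderOf (⟨u, hm⟩ : C) = 2 := by
          rw [Subgroup.orderOf_mk]; exact orderOf_eq_prime (by rw [pow_two, hu]) hu1
        exact h2 ▸ orderOf_dvd_natCard _
      obtain ⟨b0, hb0⟩ := isConj_iff.1 (hone _ hv2 hv1)
      have key : ∀ b : G, u * (b * t * b⁻¹) = x ↔ b0⁻¹ * b ∈ T0 := by
        intro b
        constructor
        · intro h
          have e : b * t * b⁻¹ = b0 * t * b0⁻¹ := by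
            rw [hb0, ← h, ← mul_assoc, hu, one_mul]
          rw [Subgroup.mem_centralizer_singleton_iff]
          calc b0⁻¹ * b * t = b0⁻¹ * (b * t * b⁻¹) * b := by group
            _ = t * (b0⁻¹ * b) := by rw [e]; group
        · intro h
          rw [conjeq b0 b h, hb0, ← mul_assoc, hu, one_mul]
      simp only [key]
      rw [← Equiv.sum_comp (Equiv.mulLeft b0)]
      simp [Finset.sum_boole, Nat.card_eq_fintype_card, Fintype.card_subtype]
    · rw [if_neg haA]
      refine Finset.sum_eq_zero fun b _ => if_neg fun h => haA ?_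
      show a * t * a⁻¹ * x * (a * t * a⁻¹) = x⁻¹
      rw [← h, mul_inv_rev, inv_eq_of_mul_eq_one_right (inv2 a),
        inv_eq_of_mul_eq_one_right (inv2 b)]
      calc a * t * a⁻¹ * (a * t * a⁻¹ * (b * t * b⁻¹)) * (a * t * a⁻¹)
          = (a * t * a⁻¹ * (a * t * a⁻¹)) * (b * t * b⁻¹ * (a * t * a⁻¹)) := by group
        _ = _ := by rw [inv2 a, one_mul]
  have htot : ∑ a : G, ∑ b : G, (if a * t * a⁻¹ * (b * t * b⁻¹) = x then 1 else 0 : ℂ) =
      ((Nat.card A * Nat.card T0 : ℕ) : ℂ) := by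
    simp only [hrow]
    rw [← Finset.sum_filter, Finset.sum_const, nsmul_eq_mul, Nat.cast_mul]
    congr 2
    rw [Nat.card_eq_fintype_card, ← Set.toFinset_card]
    congr 1
    ext a
    simp
  have hG : (Nat.card G : ℂ) ≠ 0 := Nat.cast_ne_zero.2 Nat.card_pos.ne'
  have hcol : ∀ z : G, (∑ χ : Cfsg.IrrCharacter G, (χ : G → ℂ) 1 * (χ : G → ℂ) z) =
      if z = 1 then (Nat.card G : ℂ) else 0 := by
    intro z
    have h := sum_irr_mul_conj z 1
    have hcc : IsConj z 1 ↔ z = 1 := isConj_one_left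
    simp only [hcc] at h
    rw [show (∑ χ : Cfsg.IrrCharacter G, (χ : G → ℂ) 1 * (χ : G → ℂ) z) =
      ∑ χ : Cfsg.IrrCharacter G, (χ : G → ℂ) z * (starRingEnd ℂ) ((χ : G → ℂ) 1) from
        Finset.sum_congr rfl fun χ _ => by rw [irr_apply_one χ, Complex.conj_natCast, mul_comm],
      h]
    split_ifs with hz
    · subst hz
      rw [Subgroup.centralizer_eq_top_iff_subset.2 (by simp), Subgroup.card_top]
    · rfl
  have hkey : ((Nat.card A * Nat.card T0 : ℕ) : ℂ) = (Nat.card G : ℂ) *
      ∑ χ : Cfsg.IrrCharacter G, (χ : G → ℂ) t ^ 2 * (χ : G → ℂ) x⁻¹ / (χ : G → ℂ) 1 := by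
    refine mul_left_cancel₀ hG ?_
    calc (Nat.card G : ℂ) * ((Nat.card A * Nat.card T0 : ℕ) : ℂ)
        = ∑ a : G, ∑ b : G, ∑ χ : Cfsg.IrrCharacter G, (χ : G → ℂ) 1 *
            (χ : G → ℂ) (a * t * a⁻¹ * (b * t * b⁻¹ * x⁻¹)) := by
          rw [← htot, Finset.mul_sum]
          simp only [Finset.mul_sum, hcol, ← mul_assoc (_ * t * _), mul_inv_eq_one, mul_ite, mul_one,
            mul_zero]
      _ = _ := by
          rw [Finset.sum_comm_cycle]
          simp only [Finset.mul_sum]
          refine Finset.sum_congr rfl fun χ _ => ?_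
          rw [Finset.sum_comm]
          simp only [← Finset.mul_sum, sum_conj_mul, ← Finset.sum_div]
          have h1 := irr_one_ne_zero χ
          field_simp
  choose z hz using fun χ : Cfsg.IrrCharacter G => apply_involution_eq_int (irr_isCharacter χ) ht
  let d : Cfsg.IrrCharacter G → ℕ := fun χ => Cfsg.charDegree (χ : G → ℂ)
  let e : Cfsg.IrrCharacter G → ℕ := fun χ => d χ / p ^ (d χ).factorization p
  have he : ∀ χ, ¬ p ∣ e χ := fun χ => Nat.not_dvd_ordCompl hpP (irr_degree_pos χ).ne'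
  let D := ∏ χ, e χ
  have hdiv : ∀ χ : Cfsg.IrrCharacter G, ∃ q : ℕ, Nat.card G * D = p * q * d χ := by
    intro χ
    obtain ⟨w, hw⟩ : e χ ∣ D := Finset.dvd_prod_of_mem e (Finset.mem_univ χ)
    obtain ⟨r, hr⟩ := (pow_dvd_pow p (show (d χ).factorization p + 1 ≤ _ from hno χ)).trans
      (Nat.ordProj_dvd (Nat.card G) p)
    refine ⟨r * w, ?_⟩
    rw [show d χ = p ^ (d χ).factorization p * e χ from
      (Nat.ordProj_mul_ordCompl_eq_self (d χ) p).symm, hw, hr, pow_succ]
    ring
  choose q hq using hdiv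
  have hdvd : p ∣ Nat.card A * Nat.card T0 * D := by
    refine dvd_of_eq_mul (w := ∑ χ : Cfsg.IrrCharacter G,
      (((q χ : ℤ) * z χ ^ 2 : ℤ) : ℂ) * (χ : G → ℂ) x⁻¹) ?_ ?_
    · exact IsIntegral.sum _ fun χ _ => (isIntegral_algebraMap (R := ℤ) (A := ℂ)
        (x := (q χ : ℤ) * z χ ^ 2)).mul (isCharacter_integral (irr_isCharacter χ) x⁻¹)
    · rw [Nat.cast_mul _ D, hkey, Finset.mul_sum, Finset.sum_mul, Finset.mul_sum]
      refine Finset.sum_congr rfl fun χ _ => ?_
      have h1 : (d χ : ℂ) ≠ 0 := Nat.cast_ne_zero.2 (irr_degree_pos χ).ne'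
      have h2 : (Nat.card G : ℂ) * (D : ℂ) = (p : ℂ) * q χ * d χ := by exact_mod_cast hq χ
      rw [hz χ, irr_apply_one χ, show Cfsg.charDegree (χ : G → ℂ) = d χ from rfl]
      push_cast
      field_simp
      linear_combination ((z χ : ℂ) ^ 2 * (χ : G → ℂ) x⁻¹) * h2
  rw [hAcard] at hdvd
  have hT := not_dvd_of_odd_centralizer hC ht ht1
  rcases hpP.dvd_mul.1 hdvd with h | h
  · rcases hpP.dvd_mul.1 h with h | h
    · rcases hpP.dvd_mul.1 h with h | h
      · exact hT h
      · exact hpO h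
    · exact hT h
  · obtain ⟨χ, -, hχ⟩ := (Prime.dvd_finsetProd_iff hpP.prime _).1 h
    exact he χ hχ

/-- The number of involutions in a group of even order is odd. -/
theorem odd_card_involutions (h2 : 2 ∣ Nat.card G) :
    Odd (Nat.card {v : G // v * v = 1 ∧ v ≠ 1}) := by
  classical
  have := Fintype.ofFinite G
  let f : Equiv.Perm G := Equiv.inv G
  let f' : Function.End G := f.toFun
  have hf : f' ^ 2 ^ 1 = 1 := by
    rw [pow_one, sq]; exact funext fun a => inv_inv a
  have h := Equiv.Perm.card_fixedPoints_modEq (p := 2) (n := 1) hf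
  have e : Fintype.card (Function.fixedPoints f.toFun) =
      Nat.card {v : G // v * v = 1 ∧ v ≠ 1} + 1 := by
    rw [← Nat.card_eq_fintype_card]
    have h1 : {v : G | v * v = 1 ∧ v ≠ 1} ∪ {1} = Function.fixedPoints f.toFun := by
      ext v
      simp only [Set.mem_union, Set.mem_ofPred_eq, Set.mem_singleton_iff, Function.fixedPoints,
        Function.IsFixedPt, f, Equiv.toFun_as_coe, Equiv.inv_apply]
      rw [inv_eq_iff_mul_eq_one]
      by_cases hv : v = 1 <;> simp [hv]
    rw [Nat.card_coe_set_eq, ← h1, Set.union_singleton, Set.ncard_insert_of_notMem (by simp),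
      ← Nat.card_coe_set_eq]
    rfl
  rw [e] at h
  have h0 : Fintype.card G % 2 = 0 := by
    rw [← Nat.card_eq_fintype_card]; exact Nat.mod_eq_zero_of_dvd h2
  rw [Nat.odd_iff]
  unfold Nat.ModEq at h
  omega

section action

variable {Ω : Type*} [MulAction G Ω] [FaithfulSMul G Ω] [Finite Ω] [MulAction.IsPretransitive G Ω]
  {r : ℕ}

omit [FaithfulSMul G Ω] in
/-- Sylow subgroups are transitive. -/
theorem sylow_transitive (hn : Nat.card Ω = p ^ r) (P : Sylow p G) :
    MulAction.IsPretransitive (P : Subgroup G) Ω := by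
  classical
  refine ⟨fun a b => ?_⟩
  have hpP : p.Prime := Fact.out
  let H := MulAction.stabilizer G a
  have hidx : H.index = p ^ r := by
    rw [← hn, MulAction.index_stabilizer_of_transitive]
  have hS : MulAction.stabilizer (P : Subgroup G) a = H.subgroupOf P := by ext x; rfl
  obtain ⟨m, hm⟩ := IsPGroup.iff_card.1 P.2
  obtain ⟨i, -, hi⟩ := (Nat.dvd_prime_pow hpP).1 (hm ▸ (H.subgroupOf P).index_dvd_card)
  -- the orbit is large
  have hbig : p ^ r ≤ (H.subgroupOf (P : Subgroup G)).index := by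
    have h1 : Nat.card (H.subgroupOf (P : Subgroup G)) * p ^ i = p ^ m := by
      rw [← hi, Subgroup.card_mul_index, hm]
    have hcard : Nat.card G = Nat.card H * p ^ r := by rw [← hidx, Subgroup.card_mul_index]
    have h2 : Nat.card (H.subgroupOf (P : Subgroup G)) ∣ Nat.card H := by
      refine Subgroup.card_dvd_of_injective
        ({ toFun := fun x => ⟨((x : (P : Subgroup G)) : G), x.2⟩
           map_one' := rfl
           map_mul' := fun _ _ => rfl } : H.subgroupOf (P : Subgroup G) →* H) ?_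
      intro x y h
      exact Subtype.ext (Subtype.ext (congrArg (fun w : H => (w : G)) h))
    obtain ⟨j, hjm, hj⟩ := (Nat.dvd_prime_pow hpP).1 (h1 ▸ Dvd.intro _ rfl :
      Nat.card (H.subgroupOf (P : Subgroup G)) ∣ p ^ m)
    rw [hi]
    refine Nat.pow_le_pow_right hpP.pos ?_
    have hfac : (Nat.card G).factorization p = m := by
      have := P.card_eq_multiplicity
      rw [hm] at this
      exact (Nat.pow_right_injective hpP.two_le this).symm
    rw [hj, ← pow_add] at h1
    have hji : j + i = m := Nat.pow_right_injective hpP.two_le h1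
    by_contra hlt
    push Not at hlt
    -- then the stabiliser has too large a `p`-part
    have hHfac : (Nat.card H).factorization p + r = m := by
      rw [← hfac, hcard, Nat.factorization_mul Nat.card_pos.ne' (pow_ne_zero _ hpP.ne_zero),
        Finsupp.add_apply, hpP.factorization_pow, Finsupp.single_eq_same]
    have := (Nat.Prime.pow_dvd_iff_le_factorization hpP Nat.card_pos.ne').1 (hj ▸ h2)
    omega
  have horb : MulAction.orbit (P : Subgroup G) a = Set.univ := by
    refine Set.eq_univ_of_forall fun c => ?_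
    by_contra hc
    have hlt : Nat.card (MulAction.orbit (P : Subgroup G) a) < Nat.card Ω :=
      Finite.card_subtype_lt (x := c) hc
    rw [Nat.card_congr (MulAction.orbitEquivQuotientStabilizer (P : Subgroup G) a),
      ← Subgroup.index_eq_card, hS, hn] at hlt
    omega
  obtain ⟨x, hx⟩ := (Set.eq_univ_iff_forall.1 horb) b
  exact ⟨x, hx⟩

/-- A `p'`-subgroup normalised by a Sylow subgroup is trivial. -/
theorem pprime_eq_bot (hn : Nat.card Ω = p ^ r) (P : Sylow p G) (W : Subgroup G)
    (hnorm : (P : Subgroup G) ≤ Subgroup.normalizer (W : Set G)) (hW : ¬ p ∣ Nat.card W) :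
    W = ⊥ := by
  have hpP : p.Prime := Fact.out
  let M := Subgroup.normalizer (W : Set G)
  haveI := sylow_transitive hn P
  haveI : MulAction.IsPretransitive M Ω := ⟨fun a b => by
    obtain ⟨x, hx⟩ := MulAction.exists_smul_eq (P : Subgroup G) a b
    exact ⟨⟨(x : G), hnorm x.2⟩, hx⟩⟩
  haveI : (W.subgroupOf M).Normal := Subgroup.normal_in_normalizer
  refine (Subgroup.eq_bot_iff_forall W).2 fun w hw => ?_
  refine eq_of_smul_eq_smul (α := Ω) fun a => ?_
  rw [one_smul]
  have hB : MulAction.IsBlock M (MulAction.orbit (W.subgroupOf M) a) :=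
    MulAction.IsBlock.orbit_of_normal a
  have hd1 : (MulAction.orbit (W.subgroupOf M) a).ncard ∣ p ^ r :=
    hn ▸ hB.ncard_dvd_card ⟨a, MulAction.mem_orbit_self a⟩
  have hd2 : (MulAction.orbit (W.subgroupOf M) a).ncard ∣ Nat.card W := by
    rw [← Nat.card_coe_set_eq, Nat.card_congr (MulAction.orbitEquivQuotientStabilizer _ a),
      ← Nat.card_congr (Subgroup.subgroupOfEquivOfLe (Subgroup.le_normalizer (H := W))).toEquiv]
    exact Subgroup.card_quotient_dvd_card _
  have h1 : (MulAction.orbit (W.subgroupOf M) a).ncard = 1 :=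
    Nat.eq_one_of_dvd_coprimes (((hpP.coprime_iff_not_dvd).2 hW).pow_left r) hd1 hd2
  obtain ⟨c, hc⟩ := Set.ncard_eq_one.1 h1
  have m1 : (⟨⟨w, Subgroup.le_normalizer hw⟩, hw⟩ : W.subgroupOf M) • a ∈
      MulAction.orbit (W.subgroupOf M) a := MulAction.mem_orbit a _
  have m2 : a ∈ MulAction.orbit (W.subgroupOf M) a := MulAction.mem_orbit_self a
  rw [hc, Set.mem_singleton_iff] at m1 m2
  exact m1.trans m2.symm

/-- The standing hypotheses. -/
structure Ctx (p r : ℕ) (G Ω : Type*) [Group G] [MulAction G Ω] : Prop where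
  two_ne : p ≠ 2
  dvd : p ∣ Nat.card G
  even : 2 ∣ Nat.card G
  odd : OddC p G
  card : Nat.card Ω = p ^ r
  pos : 1 ≤ r
  nodef : ∀ χ : Cfsg.IrrCharacter G,
    (Cfsg.charDegree (χ : G → ℂ)).factorization p < (Nat.card G).factorization p

/-- `u` is an involution. -/
def Inv (u : G) : Prop := u * u = 1 ∧ u ≠ 1

theorem Inv.conj {u : G} (hu : Inv u) (g : G) : Inv (g * u * g⁻¹) := by
  refine ⟨?_, fun e => hu.2 ?_⟩
  · calc g * u * g⁻¹ * (g * u * g⁻¹) = g * (u * u) * g⁻¹ := by group
      _ = 1 := by rw [hu.1]; group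
  · calc u = g⁻¹ * (g * u * g⁻¹) * g := by group
      _ = 1 := by rw [e]; group

variable (c : Ctx p r G Ω)

include c

theorem Ctx.comm (P : Sylow p G) : ∀ x ∈ (P : Subgroup G), ∀ y ∈ (P : Subgroup G), x * y = y * x := by
  have hle : ∀ χ : Cfsg.IrrCharacter G,
      (Cfsg.charDegree (χ : G → ℂ)).factorization p ≠ (Nat.card G).factorization p :=
    fun χ => (c.nodef χ).ne
  rcases Cfsg.Agent.S4744.result p c.two_ne c.dvd c.even c.odd with ⟨χ, hχ⟩ | h
  · exact absurd hχ (hle χ)
  · intro x hx y hy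
    exact congrArg Subtype.val ((h P).2.is_comm.comm ⟨x, hx⟩ ⟨y, hy⟩)

theorem Ctx.free (P : Sylow p G) {x : G} (hx : x ∈ (P : Subgroup G)) {a : Ω} (h : x • a = a) :
    x = 1 := by
  haveI := sylow_transitive c.card P
  refine eq_of_smul_eq_smul (α := Ω) fun b => ?_
  obtain ⟨y, rfl⟩ := MulAction.exists_smul_eq (P : Subgroup G) a b
  show x • (y : G) • a = (1 : G) • (y : G) • a
  rw [one_smul, ← mul_smul, c.comm P x hx y y.2, mul_smul, h]

/-- An element centralising a Sylow subgroup lies in it. -/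
theorem Ctx.mem_of_centralises (P : Sylow p G) {y : G}
    (hy : ∀ x ∈ (P : Subgroup G), x * y = y * x) : y ∈ (P : Subgroup G) := by
  have hpP : p.Prime := Fact.out
  have h0 := (orderOf_pos y).ne'
  set k := (orderOf y).factorization p
  have hW : Subgroup.zpowers (y ^ p ^ k) = ⊥ := by
    refine pprime_eq_bot c.card P _ ?_ ?_
    · intro x hx
      have hcx : Commute x (y ^ p ^ k) := Commute.pow_right (hy x hx) _
      rw [Subgroup.mem_normalizer_iff]
      intro w
      constructor
      · rintro ⟨i, rfl⟩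
        refine ⟨i, ?_⟩
        rw [(hcx.zpow_right i).eq, mul_inv_cancel_right]
      · rintro ⟨i, hi⟩
        refine ⟨i, ?_⟩
        have hi' : (y ^ p ^ k) ^ i = x * w * x⁻¹ := hi
        calc (y ^ p ^ k) ^ i = x⁻¹ * (x * (y ^ p ^ k) ^ i) := by group
          _ = x⁻¹ * ((y ^ p ^ k) ^ i * x) := by rw [(hcx.zpow_right i).eq]
          _ = w := by rw [hi']; group
    · rw [Nat.card_zpowers, orderOf_pow_of_dvd (pow_ne_zero _ hpP.ne_zero) (Nat.ordProj_dvd _ _)]
      exact Nat.not_dvd_ordCompl hpP h0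
  have hy1 : y ^ p ^ k = 1 := Subgroup.zpowers_eq_bot.1 hW
  obtain ⟨i, -, hi⟩ := (Nat.dvd_prime_pow hpP).1 (orderOf_dvd_of_pow_eq_one hy1)
  have hp1 : IsPGroup p (Subgroup.zpowers y) := IsPGroup.of_card (n := i) (by rw [Nat.card_zpowers, hi])
  have hsup : IsPGroup p ((P : Subgroup G) ⊔ Subgroup.zpowers y : Subgroup G) := by
    refine P.2.to_sup_of_normal_left' hp1 ?_
    rw [Subgroup.zpowers_le, Subgroup.mem_normalizer_iff]
    intro w
    constructor
    · intro hw
      rwa [← hy w hw, mul_inv_cancel_right]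
    · intro hw
      have e := hy _ hw
      have hwv : y * w * y⁻¹ = w := by
        calc y * w * y⁻¹ = y⁻¹ * (y * (y * w * y⁻¹)) := by group
          _ = y⁻¹ * ((y * w * y⁻¹) * y) := by rw [e]
          _ = w := by group
      rwa [hwv] at hw
  have := P.is_maximal' hsup le_sup_left
  rw [← this]
  exact Subgroup.mem_sup_right (Subgroup.mem_zpowers y)

/-- The Fitting subgroup of a solvable subgroup normalised by a Sylow subgroup is a `p`-group. -/
theorem Ctx.fitting_pGroup (P : Sylow p G) (M : Subgroup G)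
    (hPM : (P : Subgroup G) ≤ Subgroup.normalizer (M : Set G)) :
    IsPGroup p (Cfsg.fittingSubgroup M) := by
  have hpP : p.Prime := Fact.out
  set F := Cfsg.fittingSubgroup M with hF
  haveI : Group.IsNilpotent F := inferInstance
  obtain ⟨k, hk⟩ : ∃ k, Nat.card F = p ^ k := by
    refine ⟨_, Nat.eq_prime_pow_of_unique_prime_dvd Nat.card_pos.ne' fun {q} hq hqd => ?_⟩
    by_contra hqp
    haveI := Fact.mk hq
    obtain ⟨Q⟩ : Nonempty (Sylow q F) := inferInstance
    haveI : (Q : Subgroup F).Normal := inferInstance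
    haveI : (Q : Subgroup F).Characteristic := Sylow.characteristic_of_normal Q inferInstance
    haveI : F.Characteristic := by rw [hF]; infer_instance
    haveI : ((Q : Subgroup F).map F.subtype).Characteristic := inferInstance
    set W := ((Q : Subgroup F).map F.subtype).map M.subtype with hW
    have hcard : Nat.card W = Nat.card (Q : Subgroup F) := by
      rw [hW, Subgroup.card_map_of_injective M.subtype_injective,
        Subgroup.card_map_of_injective F.subtype_injective]
    have hbot : W = ⊥ := by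
      refine pprime_eq_bot c.card P W (hPM.trans ?_) ?_
      · exact (normalizer_le_map_of_characteristic _ _)
      · intro h
        rw [hcard] at h
        obtain ⟨i, hi⟩ := IsPGroup.iff_card.1 Q.2
        rw [hi] at h
        exact hqp ((Nat.prime_dvd_prime_iff_eq hpP hq).1 (hpP.dvd_of_dvd_pow h)).symm
    have h1 := Sylow.dvd_card_of_dvd_card Q hqd
    rw [← hcard, hbot, Subgroup.card_bot] at h1
    exact hq.ne_one (Nat.dvd_one.1 h1)
  exact IsPGroup.of_card hk

/-- A Sylow subgroup is normal in the centraliser of each of its nontrivial elements. -/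
theorem Ctx.normal_in_centralizer (P : Sylow p G) {x : G} (hx : x ∈ (P : Subgroup G)) (hx1 : x ≠ 1) :
    ∀ g ∈ Subgroup.centralizer ({x} : Set G), ∀ y ∈ (P : Subgroup G),
      g * y * g⁻¹ ∈ (P : Subgroup G) := by
  set C := Subgroup.centralizer ({x} : Set G)
  have hPC : (P : Subgroup G) ≤ C := fun y hy => by
    rw [Subgroup.mem_centralizer_singleton_iff]; exact c.comm P y hy x hx
  haveI : Group.IsSolvable C := Cfsg.Agent.S0205.result (c.odd x hx1 (pElement_of_mem P.2 hx))
  set F := Cfsg.fittingSubgroup C with hF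
  haveI : F.Characteristic := by rw [hF]; infer_instance
  have hFp : IsPGroup p F := c.fitting_pGroup P C (hPC.trans Subgroup.le_normalizer)
  have hFG : IsPGroup p (F.map C.subtype) := hFp.map _
  have hFle : F.map C.subtype ≤ (P : Subgroup G) := by
    have hsup := hFG.to_sup_of_normal_left' P.2 (hPC.trans
      (Subgroup.le_normalizer.trans (normalizer_le_map_of_characteristic _ _)))
    rw [← P.is_maximal' hsup le_sup_right]
    exact le_sup_left
  have hPF : (P : Subgroup G).subgroupOf C ≤ F := by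
    refine le_trans ?_ Cfsg.Agent.S0044.result
    intro y hy
    rw [Subgroup.mem_centralizer_iff]
    intro f hf
    exact Subtype.ext (c.comm P _ (hFle ⟨f, hf, rfl⟩) _ hy)
  intro g hg y hy
  have hyF : (⟨y, hPC hy⟩ : C) ∈ F := hPF hy
  exact hFle ⟨⟨g, hg⟩ * ⟨y, hPC hy⟩ * (⟨g, hg⟩ : C)⁻¹,
    (inferInstance : F.Normal).conj_mem _ hyF _, rfl⟩

/-- Sylow subgroups intersect trivially. -/
theorem Ctx.ti (P Q : Sylow p G) {x : G} (hxP : x ∈ (P : Subgroup G)) (hxQ : x ∈ (Q : Subgroup G))
    (hx1 : x ≠ 1) : P = Q := by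
  have hQN : (Q : Subgroup G) ≤ Subgroup.normalizer ((P : Subgroup G) : Set G) := by
    intro q hq
    have hqC : q ∈ Subgroup.centralizer ({x} : Set G) := by
      rw [Subgroup.mem_centralizer_singleton_iff]; exact c.comm Q q hq x hxQ
    rw [Subgroup.mem_normalizer_iff]
    intro y
    refine ⟨fun hy => c.normal_in_centralizer P hxP hx1 q hqC y hy, fun hy => ?_⟩
    have := c.normal_in_centralizer P hxP hx1 q⁻¹ (inv_mem hqC) _ hy
    simpa [mul_assoc] using this
  have hsup := P.2.to_sup_of_normal_left' Q.2 hQN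
  exact Sylow.ext ((P.is_maximal' hsup le_sup_left).symm.trans (Q.is_maximal' hsup le_sup_right))

/-- An involution inverting some nontrivial element of a Sylow subgroup normalises it. -/
theorem Ctx.normalises (P : Sylow p G) {u : G} (hu : Inv u) {x : G} (hx : x ∈ (P : Subgroup G))
    (hx1 : x ≠ 1) (hxu : u * x * u = x⁻¹) : ∀ y ∈ (P : Subgroup G), u * y * u ∈ (P : Subgroup G) := by
  have uinv : u⁻¹ = u := inv_eq_of_mul_eq_one_right hu.1
  have e : (u • P : Sylow p G) = P := by
    refine c.ti (u • P) P (x := x⁻¹) ?_ (inv_mem hx) (inv_ne_one.2 hx1)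
    rw [Sylow.coe_subgroup_smul, ← hxu]
    refine ⟨x, hx, ?_⟩
    show u * x * u⁻¹ = u * x * u
    rw [uinv]
  intro y hy
  have h : u * y * u⁻¹ ∈ ((u • P : Sylow p G) : Subgroup G) := ⟨y, hy, rfl⟩
  rwa [e, uinv] at h

theorem Ctx.inverts (P : Sylow p G) {u : G} (hu : Inv u)
    (hn : ∀ y ∈ (P : Subgroup G), u * y * u ∈ (P : Subgroup G)) :
    ∀ y ∈ (P : Subgroup G), u * y * u = y⁻¹ := by
  refine invert_of_normalises hu.1 hn fun y hy h => ?_
  by_contra hy1
  refine not_commute c.odd hu.1 hu.2 hy1 (pElement_of_mem P.2 hy) ?_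
  calc u * y = u * y * (u * u) := by rw [hu.1, mul_one]
    _ = (u * y * u) * u := by group
    _ = y * u := by rw [h]

/-- Two involutions normalising the same Sylow subgroup differ by an element of it. -/
theorem Ctx.mul_mem_of_normalises (P : Sylow p G) {u v : G} (hu : Inv u) (hv : Inv v)
    (hnu : ∀ y ∈ (P : Subgroup G), u * y * u ∈ (P : Subgroup G))
    (hnv : ∀ y ∈ (P : Subgroup G), v * y * v ∈ (P : Subgroup G)) : u * v ∈ (P : Subgroup G) := by
  refine c.mem_of_centralises P fun x hx => ?_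
  have h2 := c.inverts P hv hnv x hx
  calc x * (u * v) = (u * x⁻¹ * u) * (u * v) := by rw [c.inverts P hu hnu _ (inv_mem hx), inv_inv]
    _ = u * (v * x * v) * u * (u * v) := by rw [h2]
    _ = u * v * x * v * (u * u) * v := by group
    _ = u * v * x * (v * v) := by rw [hu.1, mul_one, mul_assoc]
    _ = u * v * x := by rw [hv.1, mul_one]

/-- All involutions are conjugate. -/
theorem Ctx.conj {u v : G} (hu : Inv u) (hv : Inv v) : IsConj u v := by
  obtain ⟨g, x, hx1, hxk, hx⟩ := exists_conj_inverting c.odd c.nodef hu.1 hu.2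
  obtain ⟨g', x', hx1', hxk', hx'⟩ := exists_conj_inverting c.odd c.nodef hv.1 hv.2
  obtain ⟨k, hk⟩ := hxk
  obtain ⟨P, hP⟩ := (IsPGroup.of_card (p := p) (n := k)
    (show Nat.card (Subgroup.zpowers x) = p ^ k by rw [Nat.card_zpowers, hk])).exists_le_sylow
  obtain ⟨k', hk'⟩ := hxk'
  obtain ⟨Q, hQ⟩ := (IsPGroup.of_card (p := p) (n := k')
    (show Nat.card (Subgroup.zpowers x') = p ^ k' by rw [Nat.card_zpowers, hk'])).exists_le_sylow
  have hnP := c.normalises P (hu.conj g) (hP (Subgroup.mem_zpowers x)) hx1 hx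
  have hnQ := c.normalises Q (hv.conj g') (hQ (Subgroup.mem_zpowers x')) hx1' hx'
  obtain ⟨h, hh⟩ := MulAction.exists_smul_eq G Q P
  set a := g * u * g⁻¹
  set b := h * (g' * v * g'⁻¹) * h⁻¹
  have hb : Inv b := (hv.conj g').conj h
  have hnb : ∀ y ∈ (P : Subgroup G), b * y * b ∈ (P : Subgroup G) := by
    intro y hy
    rw [← hh] at hy ⊢
    obtain ⟨w, hw, rfl⟩ := hy
    refine ⟨_, hnQ w hw, ?_⟩
    show h * (g' * v * g'⁻¹ * w * (g' * v * g'⁻¹)) * h⁻¹ = b * (h * w * h⁻¹) * b
    simp only [b]; group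
  have hmem := c.mul_mem_of_normalises P hb (hu.conj g) hnb hnP
  have ha : a * a = 1 := (hu.conj g).1
  have hci : a * (b * a) * a = (b * a)⁻¹ := by
    rw [mul_inv_rev, inv_eq_of_mul_eq_one_right ha, inv_eq_of_mul_eq_one_right hb.1,
      mul_assoc, mul_assoc b a a, ha, mul_one]
  obtain ⟨i, hi⟩ := pElement_of_mem P.2 hmem
  obtain ⟨d, -, hd⟩ := exists_half ha hci (hi ▸ ((Fact.out : p.Prime).odd_of_ne_two c.two_ne).pow)
  rw [mul_assoc b a a, ha, mul_one] at hd
  refine isConj_iff.2 ⟨g'⁻¹ * h⁻¹ * (d * g), ?_⟩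
  calc g'⁻¹ * h⁻¹ * (d * g) * u * (g'⁻¹ * h⁻¹ * (d * g))⁻¹
      = g'⁻¹ * h⁻¹ * (d * a * d⁻¹) * h * g' := by simp only [a]; group
    _ = v := by rw [hd]; simp only [b]; group

/-- Every involution normalises a Sylow subgroup. -/
theorem Ctx.exists_normalised {u : G} (hu : Inv u) :
    ∃ P : Sylow p G, ∀ y ∈ (P : Subgroup G), u * y * u ∈ (P : Subgroup G) := by
  obtain ⟨g, x, hx1, ⟨k, hk⟩, hx⟩ := exists_conj_inverting c.odd c.nodef hu.1 hu.2
  obtain ⟨P, hP⟩ := (IsPGroup.of_card (p := p) (n := k)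
    (show Nat.card (Subgroup.zpowers x) = p ^ k by rw [Nat.card_zpowers, hk])).exists_le_sylow
  have hn := c.normalises P (hu.conj g) (hP (Subgroup.mem_zpowers x)) hx1 hx
  refine ⟨g⁻¹ • P, fun y hy => ?_⟩
  obtain ⟨w, hw, rfl⟩ := hy
  refine ⟨_, hn w hw, ?_⟩
  show g⁻¹ * (g * u * g⁻¹ * w * (g * u * g⁻¹)) * (g⁻¹)⁻¹ = u * (g⁻¹ * w * (g⁻¹)⁻¹) * u
  group

/-- An involution fixes exactly one point. -/
theorem Ctx.existsUnique_fixed {u : G} (hu : Inv u) : ∃! a : Ω, u • a = a := by
  obtain ⟨P, hn⟩ := c.exists_normalised hu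
  have hodd : Odd (Nat.card Ω) := c.card ▸ ((Fact.out : p.Prime).odd_of_ne_two c.two_ne).pow
  obtain ⟨a, ha⟩ := Cfsg.Agent.S4744.exists_fixed_of_odd (fun b : Ω => u • b)
    (fun b => by rw [← mul_smul, hu.1, one_smul]) hodd
  refine ⟨a, ha, fun b hb => ?_⟩
  haveI := sylow_transitive c.card P
  obtain ⟨y, rfl⟩ := MulAction.exists_smul_eq (P : Subgroup G) a b
  have hyy : (y : G) * y = 1 := by
    refine c.free P (mul_mem y.2 y.2) (a := a) ?_
    have e : u * (y : G) = (y : G)⁻¹ * u := by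
      rw [← c.inverts P hu hn y y.2, mul_assoc, hu.1, mul_one]
    have hb' : u • (y : G) • a = (y : G) • a := hb
    rw [← mul_smul, e, mul_smul, ha, inv_smul_eq_iff, ← mul_smul] at hb'
    exact hb'.symm
  obtain ⟨i, hi⟩ := pElement_of_mem P.2 y.2
  have hdvd : orderOf (y : G) ∣ 2 := orderOf_dvd_of_pow_eq_one (by rw [pow_two, hyy])
  have ho : Odd (orderOf (y : G)) := hi ▸ ((Fact.out : p.Prime).odd_of_ne_two c.two_ne).pow
  have hy1 : (y : G) = 1 := by
    rcases (Nat.dvd_prime Nat.prime_two).1 hdvd with h | h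
    · exact orderOf_eq_one_iff.1 h
    · rw [h] at ho; exact absurd ho (by decide)
  show (y : G) • a = a
  rw [hy1, one_smul]

theorem Ctx.same_centre {u v : G} (hv : Inv v) (h : u * v = v * u) {a : Ω} (ha : v • a = a) :
    u • a = a := by
  refine (c.existsUnique_fixed hv).unique ?_ ha
  rw [← mul_smul, ← h, mul_smul, ha]

/-- Involutions with different centres: the product is a nontrivial `p`-element. -/
theorem Ctx.product {u v : G} (hu : Inv u) (hv : Inv v)
    (hdiff : ∀ a : Ω, u • a = a → v • a ≠ a) :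
    ∃ Q : Sylow p G, u * v ∈ (Q : Subgroup G) ∧
      ∀ y ∈ (Q : Subgroup G), u * y * u ∈ (Q : Subgroup G) := by
  set x := u * v with hx
  have hodd : Odd (orderOf x) := by
    by_contra he
    obtain ⟨z, hz2, hz1, hzu, hzv⟩ := common_of_even hu.1 hv.1 he
    obtain ⟨a, ha, -⟩ := c.existsUnique_fixed ⟨hz2, hz1⟩
    exact hdiff a (c.same_centre ⟨hz2, hz1⟩ hzu ha) (c.same_centre ⟨hz2, hz1⟩ hzv ha)
  have hxu : u * x * u = x⁻¹ := by
    rw [hx, mul_inv_rev, inv_eq_of_mul_eq_one_right hu.1, inv_eq_of_mul_eq_one_right hv.1,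
      ← mul_assoc, hu.1, one_mul]
  have hxv : v * x * v = x⁻¹ := by
    rw [hx, mul_inv_rev, inv_eq_of_mul_eq_one_right hu.1, inv_eq_of_mul_eq_one_right hv.1,
      mul_assoc, mul_assoc, hv.1, mul_one]
  have hx1 : x ≠ 1 := by
    intro h
    have e : v = u := by rw [← inv_eq_of_mul_eq_one_right hu.1]; exact (inv_eq_of_mul_eq_one_right h).symm
    obtain ⟨a, ha, -⟩ := c.existsUnique_fixed hu
    exact hdiff a ha (by rw [e]; exact ha)
  set C := Subgroup.centralizer ({x} : Set G)
  -- an involution centralising `x` shares its centre with both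
  have hshare : ∀ z, Inv z → z ∈ C → ∀ w, Inv w → w * x * w = x⁻¹ →
      ∀ a : Ω, z • a = a → w • a = a := by
    intro z hz hzC w hw hwx a ha
    rw [Subgroup.mem_centralizer_singleton_iff] at hzC
    have he : ¬ Odd (orderOf (w * z)) := by
      rintro ⟨k, hk⟩
      -- odd powers of `w * z` invert `x`
      have hy : (w * z) * x * (w * z)⁻¹ = x⁻¹ := by
        rw [mul_assoc w z x, hzC, mul_inv_rev, inv_eq_of_mul_eq_one_right hw.1,
          inv_eq_of_mul_eq_one_right hz.1]
        calc w * (x * z) * (z * w) = w * x * (z * z) * w := by group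
          _ = x⁻¹ := by rw [hz.1, mul_one, hwx]
      have hyy : Commute ((w * z) * (w * z)) x := by
        show _ = _
        have h1 : (w * z) * x⁻¹ * (w * z)⁻¹ = x := by
          calc (w * z) * x⁻¹ * (w * z)⁻¹ = ((w * z) * x * (w * z)⁻¹)⁻¹ := by group
            _ = x := by rw [hy, inv_inv]
        calc (w * z) * (w * z) * x = (w * z) * ((w * z) * x * (w * z)⁻¹) * (w * z) := by group
          _ = ((w * z) * x⁻¹ * (w * z)⁻¹) * ((w * z) * (w * z)) := by rw [hy]; group
          _ = x * ((w * z) * (w * z)) := by rw [h1]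
      have hpow : Commute (((w * z) * (w * z)) ^ (k + 1)) x := hyy.pow_left _
      rw [← pow_two, ← pow_mul, show 2 * (k + 1) = (2 * k + 1) + 1 by ring, pow_succ, ← hk,
        pow_orderOf_eq_one, one_mul] at hpow
      rw [hpow.eq, mul_inv_cancel_right] at hy
      have hx2 : x ^ 2 = 1 := by rw [pow_two]; nth_rw 1 [hy]; exact inv_mul_cancel x
      rcases (Nat.dvd_prime Nat.prime_two).1 (orderOf_dvd_of_pow_eq_one hx2) with h | h
      · exact hx1 (orderOf_eq_one_iff.1 h)
      · rw [h] at hodd; exact absurd hodd (by decide)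
    obtain ⟨y, hy2, hy1, hyw, hyz⟩ := common_of_even hw.1 hz.1 he
    obtain ⟨b, hb, -⟩ := c.existsUnique_fixed ⟨hy2, hy1⟩
    have hbz := c.same_centre ⟨hy2, hy1⟩ hyz hb
    rw [(c.existsUnique_fixed hz).unique ha hbz]
    exact c.same_centre ⟨hy2, hy1⟩ hyw hb
  have hCodd : Odd (Nat.card C) := by
    rw [← Nat.not_even_iff_odd, even_iff_two_dvd]
    intro h
    obtain ⟨⟨z, hzC⟩, hz⟩ := exists_prime_orderOf_dvd_card' 2 h
    rw [Subgroup.orderOf_mk] at hz
    have hzI : Inv z := ⟨by rw [← pow_two, ← hz, pow_orderOf_eq_one], fun e => by simp [e] at hz⟩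
    obtain ⟨a, ha, -⟩ := c.existsUnique_fixed hzI
    exact hdiff a (hshare z hzI hzC u hu hxu a ha) (hshare z hzI hzC v hv hxv a ha)
  by_cases hp : p ∣ Nat.card C
  swap
  · exact (false_of_real c.odd c.nodef hu.1 hu.2 hxu hCodd hp
      fun w hw hw1 => c.conj hu ⟨hw, hw1⟩).elim
  have uinv : u⁻¹ = u := inv_eq_of_mul_eq_one_right hu.1
  have hCn : ∀ y ∈ C, u * y * u ∈ C := by
    intro y hy
    rw [Subgroup.mem_centralizer_singleton_iff] at hy ⊢
    have hxi : u * x⁻¹ * u = x := by
      rw [← hxu]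
      calc u * (u * x * u) * u = (u * u) * x * (u * u) := by group
        _ = x := by rw [hu.1, one_mul, mul_one]
    have hy' : y * x⁻¹ = x⁻¹ * y := (Commute.inv_right hy).eq
    calc u * y * u * x = u * y * u * (u * x⁻¹ * u) := by rw [hxi]
      _ = u * (y * x⁻¹) * u := by
          calc _ = u * y * (u * u) * x⁻¹ * u := by group
            _ = _ := by rw [hu.1, mul_one, mul_assoc u y]
      _ = u * (x⁻¹ * y) * u := by rw [hy']
      _ = (u * x⁻¹ * u) * (u * y * u) := by
          calc _ = u * x⁻¹ * 1 * y * u := by group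
            _ = u * x⁻¹ * (u * u) * y * u := by rw [hu.1]
            _ = _ := by group
      _ = x * (u * y * u) := by rw [hxi]
  obtain ⟨R, hRp, hRC, hRu, hRmax⟩ := Cfsg.Agent.S4744.exists_invariant_sylow_of_odd (p := p) C u
    hu.1 hCodd hCn
  obtain ⟨y0, hy0⟩ := exists_prime_orderOf_dvd_card' p hp
  have hR1 : R ≠ ⊥ := by
    intro h
    have hsz : Nat.card (Subgroup.zpowers (y0 : G)) = p := by
      rw [Nat.card_zpowers, Subgroup.orderOf_coe, hy0]
    have := hRmax (Subgroup.zpowers (y0 : G))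
      (IsPGroup.of_card (n := 1) (by rw [hsz, pow_one])) (Subgroup.zpowers_le.2 y0.2)
    rw [h, Subgroup.card_bot, hsz] at this
    have := (Fact.out : p.Prime).two_le
    omega
  obtain ⟨y, hyR, hy1⟩ := R.bot_or_exists_ne_one.resolve_left hR1
  set s := y⁻¹ * (u * y * u) with hs
  have hsR : s ∈ R := mul_mem (inv_mem hyR) (hRu y hyR)
  have hs1 : s ≠ 1 := by
    intro h
    refine not_commute c.odd hu.1 hu.2 hy1 (pElement_of_mem hRp hyR) ?_
    have e : u * y * u = y := (inv_mul_eq_one.1 h).symm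
    calc u * y = u * y * (u * u) := by rw [hu.1, mul_one]
      _ = (u * y * u) * u := by group
      _ = y * u := by rw [e]
  have hsu : u * s * u = s⁻¹ := by
    rw [hs]
    calc u * (y⁻¹ * (u * y * u)) * u = u * y⁻¹ * u * y * (u * u) := by group
      _ = (y⁻¹ * (u * y * u))⁻¹ := by rw [hu.1, mul_one, mul_inv_rev]; simp [uinv, mul_assoc]
  obtain ⟨Q, hQ⟩ := hRp.exists_le_sylow
  have hsQ := hQ hsR
  have hnu := c.normalises Q hu hsQ hs1 hsu
  have hxC : x ∈ Subgroup.centralizer ({s} : Set G) := by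
    rw [Subgroup.mem_centralizer_singleton_iff]
    exact (Subgroup.mem_centralizer_singleton_iff.1 (hRC hsR)).symm
  have hnx := c.normal_in_centralizer Q hsQ hs1 x hxC
  have hveq : v = u * x := by rw [hx, ← mul_assoc, hu.1, one_mul]
  have hnv : ∀ w ∈ (Q : Subgroup G), v * w * v ∈ (Q : Subgroup G) := by
    intro w hw
    have hv' : v = x⁻¹ * u := by
      rw [hx, mul_inv_rev, inv_eq_of_mul_eq_one_right hu.1, inv_eq_of_mul_eq_one_right hv.1,
        mul_assoc, hu.1, mul_one]
    have := hnu _ (hnx w hw)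
    have e : v * w * v = u * (x * w * x⁻¹) * u := by
      calc v * w * v = (u * x) * w * (x⁻¹ * u) := by rw [← hveq, ← hv']
        _ = _ := by group
    rwa [e]
  exact ⟨Q, c.mul_mem_of_normalises Q hu hv hnu hnv, hnu⟩

/-- Commuting involutions are equal. -/
theorem Ctx.eq_of_commute {u v : G} (hu : Inv u) (hv : Inv v) (h : u * v = v * u) : u = v := by
  classical
  have hpP : p.Prime := Fact.out
  choose ctr hctr huniq using fun w : {w : G // Inv w} => c.existsUnique_fixed w.2
  obtain ⟨a, ha, -⟩ := c.existsUnique_fixed hu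
  haveI := Fintype.ofFinite Ω
  haveI : Fintype {w : G // Inv w} := Fintype.ofFinite _
  -- all fibres of the centre map have the same size
  have hfib : ∀ b : Ω, Nat.card {w : {w : G // Inv w} // ctr w = b} =
      Nat.card {w : {w : G // Inv w} // ctr w = a} := by
    intro b
    obtain ⟨g, rfl⟩ := MulAction.exists_smul_eq G a b
    let e : {w : G // Inv w} ≃ {w : G // Inv w} :=
      { toFun := fun w => ⟨g * w * g⁻¹, w.2.conj g⟩
        invFun := fun w => ⟨g⁻¹ * w * g, by simpa using w.2.conj g⁻¹⟩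
        left_inv := fun w => Subtype.ext (by simp [mul_assoc])
        right_inv := fun w => Subtype.ext (by simp [mul_assoc]) }
    refine (Nat.card_congr (e.subtypeEquiv fun w => ?_)).symm
    have hcg : ctr (e w) = g • ctr w := (huniq (e w) _ (by
      show (g * (w : G) * g⁻¹) • g • ctr w = g • ctr w
      rw [mul_smul, inv_smul_smul, mul_smul, hctr w])).symm
    rw [hcg]
    exact ⟨fun e => by rw [e], fun e => MulAction.injective g e⟩
  set s := Nat.card {w : {w : G // Inv w} // ctr w = a}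
  have hI : Nat.card {w : G // Inv w} = Nat.card Ω * s := by
    rw [← Nat.card_congr (Equiv.sigmaFiberEquiv ctr), Nat.card_sigma]
    simp only [hfib, Finset.sum_const, Finset.card_univ, smul_eq_mul, Nat.card_eq_fintype_card]
  have hsodd : Odd s := (Nat.odd_mul.1 (hI ▸ odd_card_involutions c.even)).2
  -- the Sylow subgroups normalised by `u`
  let Su := {Q : Sylow p G // ∀ y ∈ (Q : Subgroup G), u * y * u ∈ (Q : Subgroup G)}
  let Out := {w : {w : G // Inv w} // ctr w ≠ a}
  have hd : ∀ w : Out, ∀ b : Ω, u • b = b → (w.1 : G) • b ≠ b := by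
    intro w b hb hb'
    obtain rfl : b = a := (c.existsUnique_fixed hu).unique hb ha
    exact w.2 (huniq w.1 _ hb').symm
  choose Qof hQof hQn using fun w : Out => c.product hu w.1.2 (hd w)
  have hpos : ∀ Q : Su, ∀ y ∈ ((Q.1 : Sylow p G) : Subgroup G), y ≠ 1 →
      Inv (u * y) ∧ ∀ hi : Inv (u * y), ctr ⟨u * y, hi⟩ ≠ a := by
    intro Q y hy hy1
    have hiy := c.inverts Q.1 hu Q.2 y hy
    refine ⟨⟨by rw [← mul_assoc, hiy, inv_mul_cancel], fun e => ?_⟩, fun hi e => ?_⟩
    · have hyu : y = u := by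
        rw [← inv_eq_of_mul_eq_one_right hu.1]; exact (inv_eq_of_mul_eq_one_right e).symm
      exact not_commute c.odd hu.1 hu.2 hy1 (pElement_of_mem Q.1.2 hy) (by rw [hyu])
    · have := hctr ⟨u * y, hi⟩
      rw [e] at this
      have hya : y • a = a := by
        have h' : (u * y) • a = a := this
        rw [mul_smul, smul_eq_iff_eq_inv_smul, inv_eq_of_mul_eq_one_right hu.1, ha] at h'
        exact h'
      exact hy1 (c.free Q.1 hy hya)
  let E : Out ≃ (Σ Q : Su, {y : ((Q.1 : Sylow p G) : Subgroup G) // y ≠ 1}) :=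
    Equiv.ofBijective (fun w => ⟨⟨Qof w, hQn w⟩, ⟨⟨u * w.1, hQof w⟩, fun e => by
      have e' : u * (w.1 : G) = 1 := congrArg Subtype.val e
      have hwu : (w.1 : G) = u := by
        rw [← inv_eq_of_mul_eq_one_right hu.1]; exact (inv_eq_of_mul_eq_one_right e').symm
      exact hd w a ha (by rw [hwu]; exact ha)⟩⟩) ⟨by
      intro w w' e
      have := congrArg (fun S : (Σ Q : Su, {y : ((Q.1 : Sylow p G) : Subgroup G) // y ≠ 1}) =>
        ((S.2.1 : G))) e
      exact Subtype.ext (Subtype.ext (mul_left_cancel this)), by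
      rintro ⟨Q, ⟨⟨y, hy⟩, hy1⟩⟩
      have hy1' : y ≠ 1 := fun e => hy1 (Subtype.ext e)
      obtain ⟨hi, hc⟩ := hpos Q y hy hy1'
      refine ⟨⟨⟨u * y, hi⟩, hc hi⟩, ?_⟩
      have hval : u * (u * y) = y := by rw [← mul_assoc, hu.1, one_mul]
      obtain ⟨Q0, hQ0⟩ := Q
      have hQeq : Qof ⟨⟨u * y, hi⟩, hc hi⟩ = Q0 := by
        refine c.ti _ _ ?_ hy hy1'
        have := hQof ⟨⟨u * y, hi⟩, hc hi⟩
        rwa [hval] at this
      subst hQeq
      exact congrArg (Sigma.mk _) (Subtype.ext (Subtype.ext hval))⟩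
  have hPcard : ∀ Q : Sylow p G, Nat.card (Q : Subgroup G) = Nat.card Ω := by
    intro Q
    haveI := sylow_transitive c.card Q
    refine Nat.card_eq_of_bijective (fun y : (Q : Subgroup G) => (y : G) • a) ⟨fun y y' e => ?_, fun b => ?_⟩
    · refine Subtype.ext (inv_mul_eq_one.1 (c.free Q (mul_mem (inv_mem y.2) y'.2) (a := a) ?_))
      rw [mul_smul, inv_smul_eq_iff]
      exact e.symm
    · exact MulAction.exists_smul_eq (Q : Subgroup G) a b
  have hcount := Nat.card_congr E
  haveI : Fintype Su := Fintype.ofFinite _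
  have hne1 : ∀ Q : Su, Nat.card {y : ((Q.1 : Sylow p G) : Subgroup G) // y ≠ 1} = Nat.card Ω - 1 := by
    intro Q
    haveI := Fintype.ofFinite ((Q.1 : Sylow p G) : Subgroup G)
    rw [← hPcard Q.1, Nat.card_eq_fintype_card, Nat.card_eq_fintype_card, Fintype.card_subtype_compl,
      Fintype.card_subtype_eq]
  rw [Nat.card_sigma] at hcount
  simp only [hne1, Finset.sum_const, Finset.card_univ, smul_eq_mul, ← Nat.card_eq_fintype_card] at hcount
  have hOut : Nat.card Out + s = Nat.card Ω * s := by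
    rw [← hI, add_comm, ← Nat.card_sum]
    exact Nat.card_congr (Equiv.sumCompl fun w => ctr w = a)
  have hn2 : 1 < Nat.card Ω := c.card ▸ Nat.one_lt_pow (by have := c.pos; omega) hpP.one_lt
  have hF : Nat.card Su = s := by
    obtain ⟨m, hm⟩ : ∃ m, Nat.card Ω = m + 1 := ⟨_, (Nat.sub_add_cancel hn2.le).symm⟩
    rw [hm, Nat.add_sub_cancel] at hcount
    rw [hm, add_mul, one_mul, hcount] at hOut
    have h1 : Nat.card Su * m = s * m := by rw [mul_comm s]; omega
    exact Nat.eq_of_mul_eq_mul_right (by omega) h1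
  -- `v` fixes one of them
  have hvS : ∀ Q : Su, ∀ y ∈ ((v • Q.1 : Sylow p G) : Subgroup G),
      u * y * u ∈ ((v • Q.1 : Sylow p G) : Subgroup G) := by
    rintro Q y ⟨w, hw, rfl⟩
    refine ⟨_, Q.2 w hw, ?_⟩
    show v * (u * w * u) * v⁻¹ = u * (v * w * v⁻¹) * u
    have h' : v⁻¹ * u = u * v⁻¹ := (Commute.inv_right (show Commute u v from h)).eq.symm
    calc v * (u * w * u) * v⁻¹ = (v * u) * w * (u * v⁻¹) := by group
      _ = (u * v) * w * (v⁻¹ * u) := by rw [h, h']
      _ = _ := by group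
  obtain ⟨Q, hQfix⟩ := Cfsg.Agent.S4744.exists_fixed_of_odd
    (fun Q : Su => (⟨v • Q.1, hvS Q⟩ : Su))
    (fun Q => Subtype.ext (by
      show v • v • Q.1 = Q.1
      rw [← mul_smul, hv.1, one_smul])) (hF ▸ hsodd)
  have hnv : ∀ y ∈ ((Q.1 : Sylow p G) : Subgroup G), v * y * v ∈ ((Q.1 : Sylow p G) : Subgroup G) := by
    intro y hy
    have h1 : v * y * v⁻¹ ∈ ((v • Q.1 : Sylow p G) : Subgroup G) := ⟨y, hy, rfl⟩
    have e : v • Q.1 = Q.1 := congrArg Subtype.val hQfix
    rw [e, inv_eq_of_mul_eq_one_right hv.1] at h1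
    exact h1
  have hmem := c.mul_mem_of_normalises Q.1 hu hv Q.2 hnv
  obtain ⟨i, hi⟩ := pElement_of_mem Q.1.2 hmem
  have h2 : (u * v) ^ 2 = 1 := by
    rw [pow_two]
    calc u * v * (u * v) = u * (v * u) * v := by group
      _ = u * (u * v) * v := by rw [h]
      _ = (u * u) * (v * v) := by group
      _ = 1 := by rw [hu.1, hv.1, one_mul]
  have ho : Odd (orderOf (u * v)) := hi ▸ (hpP.odd_of_ne_two c.two_ne).pow
  have h1 : u * v = 1 := by
    rcases (Nat.dvd_prime Nat.prime_two).1 (orderOf_dvd_of_pow_eq_one h2) with h | h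
    · exact orderOf_eq_one_iff.1 h
    · rw [h] at ho; exact absurd ho (by decide)
  rw [← inv_eq_of_mul_eq_one_right h1]
  exact (inv_eq_of_mul_eq_one_right hu.1).symm

/-- The Sylow `p`-subgroup is normal. -/
theorem Ctx.normal (P : Sylow p G) : (P : Subgroup G).Normal := by
  obtain ⟨t, ht⟩ := exists_prime_orderOf_dvd_card' 2 c.even
  have htI : Inv t := ⟨by rw [← pow_two, ← ht, pow_orderOf_eq_one], fun e => by simp [e] at ht⟩
  obtain ⟨S, hS⟩ := (IsPGroup.of_card (p := 2) (n := 1)
    (show Nat.card (Subgroup.zpowers t) = 2 ^ 1 by rw [Nat.card_zpowers, ht, pow_one])).exists_le_sylow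
  have htS : t ∈ (S : Subgroup G) := hS (Subgroup.mem_zpowers t)
  -- a central involution of `S`
  haveI : Nontrivial (S : Subgroup G) :=
    ⟨⟨⟨t, htS⟩, 1, fun e => htI.2 (congrArg Subtype.val e)⟩⟩
  haveI := S.2.center_nontrivial
  obtain ⟨k, hk⟩ := IsPGroup.iff_card.1 (S.2.to_subgroup (Subgroup.center (S : Subgroup G)))
  have hk0 : k ≠ 0 := fun e => by
    rw [e, pow_zero] at hk
    exact absurd hk (Finite.one_lt_card (α := Subgroup.center (S : Subgroup G))).ne'
  obtain ⟨z, hz⟩ := exists_prime_orderOf_dvd_card' 2 (hk ▸ dvd_pow_self 2 hk0)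
  have hzI : Inv ((z : (S : Subgroup G)) : G) := by
    have ho : orderOf ((z : (S : Subgroup G)) : G) = 2 := by
      rw [Subgroup.orderOf_coe, Subgroup.orderOf_coe, hz]
    refine ⟨?_, fun e => by simp [e] at ho⟩
    have := pow_orderOf_eq_one ((z : (S : Subgroup G)) : G)
    rwa [ho, pow_two] at this
  have hiso : ∀ g : G, g * t * g⁻¹ ∈ S → g * t * g⁻¹ = t := by
    intro g hg
    have hcz : ∀ w ∈ (S : Subgroup G), w * ((z : (S : Subgroup G)) : G) =
        ((z : (S : Subgroup G)) : G) * w := fun w hw =>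
      congrArg Subtype.val (Subgroup.mem_center_iff.1 z.2 ⟨w, hw⟩)
    rw [c.eq_of_commute (htI.conj g) hzI (hcz _ hg), ← c.eq_of_commute htI hzI (hcz t htS)]
  obtain ⟨N, hN, hNodd, hNcomm⟩ := Cfsg.Agent.S0215.result S t ht htS hiso
  haveI := hN
  obtain ⟨x, hx⟩ := exists_prime_orderOf_dvd_card' p c.dvd
  have hx1 : x ≠ 1 := fun e => (Fact.out : p.Prime).ne_one (by rw [← hx, e, orderOf_one])
  have hNbot : N ≠ ⊥ := by
    intro h
    refine not_commute c.odd htI.1 htI.2 hx1 ⟨1, by rw [pow_one, hx]⟩ ?_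
    have := hNcomm x
    rw [h, Subgroup.mem_bot] at this
    calc t * x = (t * x * t⁻¹ * x⁻¹) * (x * t) := by group
      _ = x * t := by rw [this, one_mul]
  haveI : Group.IsSolvable N := Cfsg.Agent.S0205.result hNodd
  haveI : Nontrivial N := (Subgroup.nontrivial_iff_ne_bot N).2 hNbot
  set F := Cfsg.fittingSubgroup N with hF
  haveI : F.Characteristic := by rw [hF]; infer_instance
  have hFbot : F ≠ ⊥ := by
    intro h
    have h1 := Cfsg.Agent.S0044.result (G := N)
    rw [← hF, h] at h1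
    have h2 : (⊤ : Subgroup N) ≤ ⊥ := fun y _ => h1 (by
      rw [Subgroup.mem_centralizer_iff]
      intro b hb
      rw [Subgroup.mem_bot.1 hb, one_mul, mul_one])
    exact absurd (le_bot_iff.1 h2) (bot_ne_top.symm)
  have hFp : IsPGroup p F := c.fitting_pGroup P N (by rw [Subgroup.normalizer_eq_top]; exact le_top)
  set R := F.map N.subtype with hR
  haveI hRn : R.Normal := by rw [hR]; exact ConjAct.normal_of_characteristic_of_normal
  have hRp : IsPGroup p R := hFp.map _
  obtain ⟨y, hyR, hy1⟩ := R.bot_or_exists_ne_one.resolve_left (fun h => hFbot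
    ((Subgroup.map_eq_bot_iff_of_injective _ N.subtype_injective).1 h))
  have hall : ∀ Q : Sylow p G, R ≤ (Q : Subgroup G) := fun Q => by
    have hsup := hRp.to_sup_of_normal_left' Q.2 (by rw [Subgroup.normalizer_eq_top]; exact le_top)
    rw [← Q.is_maximal' hsup le_sup_right]
    exact le_sup_left
  refine ⟨fun w hw g => ?_⟩
  have e : g • P = P := c.ti (g • P) P (hall _ hyR) (hall _ hyR) hy1
  rw [← e]
  exact ⟨w, hw, rfl⟩

/-- The conclusion. -/
theorem Ctx.main : Cfsg.IsPSolvable p G ∧ ∃ χ : Cfsg.IrrCharacter G,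
    (Cfsg.charDegree (χ : G → ℂ)).factorization 2 = (Nat.card G).factorization 2 := by
  classical
  have := Fintype.ofFinite G
  obtain ⟨P⟩ : Nonempty (Sylow p G) := inferInstance
  haveI hPn := c.normal P
  constructor
  · refine ⟨2, ![⊥, (P : Subgroup G), ⊤], rfl, rfl, ?_, ?_, ?_⟩
    · intro i j hij
      fin_cases i <;> fin_cases j <;> simp at hij ⊢
    · intro i
      fin_cases i <;> simp <;> infer_instance
    · intro i
      fin_cases i
      · left
        obtain ⟨k, hk⟩ := IsPGroup.iff_card.1 P.2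
        exact ⟨k, by simpa using hk⟩
      · right
        simpa using ((Fact.out : p.Prime).coprime_iff_not_dvd.2 P.not_dvd_index).symm
  obtain ⟨x, hxP, hx1⟩ : ∃ x ∈ (P : Subgroup G), x ≠ 1 := by
    refine (P : Subgroup G).bot_or_exists_ne_one.resolve_left fun h => ?_
    have := Sylow.dvd_card_of_dvd_card P c.dvd
    rw [h, Subgroup.card_bot] at this
    exact (Fact.out : p.Prime).ne_one (Nat.dvd_one.1 this)
  obtain ⟨χ, hχ⟩ : ∃ χ : Cfsg.IrrCharacter G, (χ : G → ℂ) x ≠ (χ : G → ℂ) 1 := by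
    by_contra h
    push Not at h
    exact hx1 (isConj_one_left.1 ((isConj_iff_forall_irr x 1).2 h))
  refine ⟨χ, ?_⟩
  -- sums over cosets of `P` vanish
  have hcoset : ∀ g : G, ∑ y : (P : Subgroup G), (χ : G → ℂ) ((y : G) * g) = 0 := by
    obtain ⟨n, ρ, hi, hρ⟩ := χ.2
    let T : Module.End ℂ (Fin n → ℂ) := ∑ y : (P : Subgroup G), ρ (y : G)
    have hT : ∀ (g : G) (v : Fin n → ℂ), T (ρ g v) = ρ g (T v) := by
      intro g v
      simp only [T, LinearMap.sum_apply, map_sum]
      let e : (P : Subgroup G) ≃ (P : Subgroup G) :=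
        { toFun := fun y => ⟨g⁻¹ * y * g, by simpa using hPn.conj_mem _ y.2 g⁻¹⟩
          invFun := fun y => ⟨g * y * g⁻¹, hPn.conj_mem _ y.2 g⟩
          left_inv := fun y => Subtype.ext (by simp [mul_assoc])
          right_inv := fun y => Subtype.ext (by simp [mul_assoc]) }
      refine Fintype.sum_equiv e _ _ fun y => ?_
      rw [← Module.End.mul_apply, ← map_mul, ← Module.End.mul_apply, ← map_mul]
      congr 2
      show (y : G) * g = g * (g⁻¹ * y * g)
      group
    obtain ⟨a, ha, -⟩ := exists_scalar_of_commute ρ T hT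
    have hxT : ρ x * T = T := by
      simp only [T, Finset.mul_sum, ← map_mul]
      exact Fintype.sum_equiv (Equiv.mulLeft (⟨x, hxP⟩ : (P : Subgroup G))) _ _ fun y => rfl
    have ha0 : a = 0 := by
      by_contra ha0
      apply hχ
      rw [← hρ]
      have e : ρ x = LinearMap.id := by
        rw [ha, mul_smul_comm] at hxT
        have h2 := congrArg (fun f => a⁻¹ • f) hxT
        simp only [inv_smul_smul₀ ha0] at h2
        rwa [show (LinearMap.id : Module.End ℂ (Fin n → ℂ)) = 1 from rfl, mul_one] at h2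
      simp only [Representation.character]
      rw [e, map_one]
      rfl
    intro g
    rw [← hρ]
    calc ∑ y : (P : Subgroup G), ρ.character ((y : G) * g)
        = LinearMap.trace ℂ (Fin n → ℂ) (T * ρ g) := by
          simp only [Representation.character, T, Finset.sum_mul, map_sum, map_mul]
      _ = 0 := by rw [ha, ha0, zero_smul, zero_mul, map_zero]
  have hvan : ∀ g : G, (∃ k, orderOf g = 2 ^ k) → g ≠ 1 → (χ : G → ℂ) g = 0 := by
    rintro g ⟨k, hk⟩ hg1
    have hk0 : k ≠ 0 := fun e => hg1 (orderOf_eq_one_iff.1 (by rw [hk, e, pow_zero]))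
    obtain ⟨k, rfl⟩ := Nat.exists_eq_succ_of_ne_zero hk0
    have hu : Inv (g ^ 2 ^ k) := by
      refine ⟨?_, pow_ne_one_of_lt_orderOf (by positivity) ?_⟩
      · rw [← pow_add, ← two_mul, ← pow_succ', ← hk, pow_orderOf_eq_one]
      · rw [hk]; exact Nat.pow_lt_pow_right one_lt_two (Nat.lt_succ_self k)
    have hfix : ∀ y ∈ (P : Subgroup G), g * y = y * g → y = 1 := by
      intro y hy hc
      by_contra hy1
      exact not_commute c.odd hu.1 hu.2 hy1 (pElement_of_mem P.2 hy)
        ((show Commute g y from hc).pow_left _).eq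
    let f : ↥(P : Subgroup G) → ↥(P : Subgroup G) := fun y =>
      ⟨(y : G) * (g * (y : G)⁻¹ * g⁻¹), mul_mem y.2 (hPn.conj_mem _ (inv_mem y.2) g)⟩
    have hf : Function.Bijective f := by
      refine Finite.injective_iff_bijective.1 fun y y' e => ?_
      have e' : (y : G) * (g * (y : G)⁻¹ * g⁻¹) = y' * (g * (y' : G)⁻¹ * g⁻¹) := congrArg Subtype.val e
      have : ((y' : G)⁻¹ * y) = 1 := by
        refine hfix _ (mul_mem (inv_mem y'.2) y.2) ?_
        calc g * ((y' : G)⁻¹ * y) = (g * (y' : G)⁻¹ * g⁻¹) * g * y := by group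
          _ = (y' : G)⁻¹ * ((y : G) * (g * (y : G)⁻¹ * g⁻¹)) * g * y := by rw [e']; group
          _ = _ := by group
      exact Subtype.ext (inv_mul_eq_one.1 this).symm
    have h1 := hcoset g
    rw [← Equiv.sum_comp (Equiv.ofBijective f hf)] at h1
    have h2 : ∀ y : (P : Subgroup G), (χ : G → ℂ) ((Equiv.ofBijective f hf y : G) * g) =
        (χ : G → ℂ) g := fun y => by
      show (χ : G → ℂ) ((y : G) * (g * (y : G)⁻¹ * g⁻¹) * g) = _
      rw [show (y : G) * (g * (y : G)⁻¹ * g⁻¹) * g = y * g * (y : G)⁻¹ by group, irr_conj_apply]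
    simp only [h2, Finset.sum_const, Finset.card_univ, nsmul_eq_mul, mul_eq_zero,
      Nat.cast_eq_zero, Fintype.card_ne_zero, false_or] at h1
    exact h1
  obtain ⟨S⟩ : Nonempty (Sylow 2 G) := inferInstance
  obtain ⟨m, hm⟩ := classInner_isCharacter
    (isCharacter_comap (S : Subgroup G).subtype (irr_isCharacter χ))
    (Cfsg.Agent.CharBasicDecomp.isCharacter_one (G := (S : Subgroup G)))
  have hsum : (Cfsg.charDegree (χ : G → ℂ) : ℂ) = (Nat.card (S : Subgroup G) : ℂ) * m := by
    rw [← hm, card_mul_classInner]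
    simp only [map_one, mul_one]
    rw [Finset.sum_eq_single 1]
    · exact (irr_apply_one χ).symm
    · intro s _ hs
      exact hvan _ (pElement_of_mem S.2 s.2) fun e => hs (Subtype.ext e)
    · simp
  have hdvd : Nat.card (S : Subgroup G) ∣ Cfsg.charDegree (χ : G → ℂ) := ⟨m, by exact_mod_cast hsum⟩
  rw [S.card_eq_multiplicity] at hdvd
  refine le_antisymm ((Nat.factorization_le_iff_dvd (irr_degree_pos χ).ne' Nat.card_pos.ne').2
    (charDegree_dvd_card χ) 2) ?_
  exact (Nat.Prime.pow_dvd_iff_le_factorization Nat.prime_two (irr_degree_pos χ).ne').1 hdvd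

end action

end Cfsg.Agent.OddCentTransitive65
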