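import Mathlib
import Cfsg.Prelude.Def_Solvable
import Cfsg.Agent.Lib.ComponentsFitting
import Cfsg.Agent.Lib.CoprimeAction
import Cfsg.Agent.Lib.FitLength57
import Cfsg.Agent.Lib.IsolatedInv
import Cfsg.Agent.Lib.PrimeOrderGroups

/-!
No non-abelian simple group with abelian Sylow subgroups has an odd order complement `H` to a
Sylow 2-subgroup `S`, provided `H` is solvable and the proper subgroups factorising in the same way
are solvable.

The argument is elementary: `S` is weakly closed in the centralisers of its involutions, all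
involutions are conjugate, the action on the cosets of `H` is doubly transitive, and a nontrivial
abelian normal `q`-subgroup of `H` turns out to be too small for the number of involutions.
-/

set_option autoImplicit false
set_option linter.unusedSectionVars false
set_option linter.style.haveILetI false

namespace Cfsg.Agent.OddComplement26

open Subgroup

universe u

/-! ### Counting helpers -/

/-- An involutive map on a finite set fixes an even number of points iff the set is even. -/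
theorem even_card_iff_fixed {α : Type*} [DecidableEq α] (s : Finset α) (f : α → α)
    (hf : ∀ a ∈ s, f a ∈ s) (hinv : ∀ a ∈ s, f (f a) = a) :
    Even s.card ↔ Even (s.filter fun a => f a = a).card := by
  have h : Even (s.filter fun a => ¬ f a = a).card := by
    have h0 : ∑ _a ∈ s.filter (fun a => ¬ f a = a), (1 : ZMod 2) = 0 := by
      refine Finset.sum_involution (fun a _ => f a) (fun a _ => by decide)
        (fun a ha _ => (Finset.mem_filter.1 ha).2) (fun a ha => ?_)
        (fun a ha => hinv a (Finset.mem_filter.1 ha).1)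
      obtain ⟨h1, h2⟩ := Finset.mem_filter.1 ha
      exact Finset.mem_filter.2 ⟨hf a h1, fun e => h2 (by rw [hinv a h1] at e; exact e.symm)⟩
    rw [Finset.sum_const, nsmul_one] at h0
    exact even_iff_two_dvd.2 ((ZMod.natCast_eq_zero_iff_even (n := _)).1 h0).two_dvd
  rw [← Finset.card_filter_add_card_filter_not (s := s) (fun a => f a = a), Nat.even_add]
  tauto

theorem card_dvd_of_free {A X : Type*} [Group A] [MulAction A X]
    (h : ∀ (x : X) (a : A), a • x = x → a = 1) : Nat.card A ∣ Nat.card X := by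
  have hs : ∀ x : X, MulAction.stabilizer A x = ⊥ := fun x =>
    (eq_bot_iff_forall _).mpr fun a ha => h x a ha
  rw [Nat.card_congr (MulAction.selfEquivOrbitsQuotientProd hs), Nat.card_prod]
  exact dvd_mul_left _ _

/-- An element of two-power order generates a 2-group. -/
theorem isPGroup_zpowers {G : Type*} [Group G] {x : G} {p k : ℕ} (hx : x ^ p ^ k = 1) :
    IsPGroup p (zpowers x) := by
  intro ⟨y, hy⟩
  obtain ⟨i, rfl⟩ := mem_zpowers_iff.1 hy
  refine ⟨k, Subtype.ext ?_⟩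
  change (x ^ i) ^ p ^ k = 1
  rw [← zpow_natCast, ← zpow_mul, mul_comm, zpow_mul, zpow_natCast, hx, one_zpow]

/-- The setting: a simple non-abelian group with abelian Sylow subgroups and a factorisation into
a Sylow 2-subgroup and a solvable subgroup of odd order. -/
structure Ctx (T : Type u) [Group T] where
  S : Subgroup T
  H : Subgroup T
  hS2 : IsPGroup 2 S
  hH : Odd (Nat.card H)
  hcard : Nat.card H * Nat.card S = Nat.card T
  hab : ∀ (p : ℕ) [Fact p.Prime] (P : Sylow p T), IsMulCommutative (P : Subgroup T)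
  hna : ¬ ∀ a b : T, a * b = b * a
  hHsol : Group.IsSolvable H
  hsol : ∀ X : Subgroup T, X ≠ ⊤ →
    Nat.card X = Nat.card ↥(H ⊓ X) * Nat.card ↥(S ⊓ X) → Group.IsSolvable X

namespace Ctx

variable {T : Type u} [Group T] [Finite T] (c : Ctx T)
include c

/-! ### Basic facts -/

theorem odd_of_le {X : Subgroup T} (h : X ≤ c.H) : Odd (Nat.card X) :=
  Odd.of_dvd_nat c.hH (card_dvd_of_le h)

theorem card_S : ∃ k, Nat.card c.S = 2 ^ k := IsPGroup.iff_card.1 c.hS2

theorem coprime : (Nat.card c.H).Coprime (Nat.card c.S) := by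
  obtain ⟨k, hk⟩ := c.card_S
  rw [hk]
  exact Nat.Coprime.pow_right k (Nat.coprime_two_right.2 c.hH)

theorem inf_eq_bot : c.H ⊓ c.S = ⊥ := inf_eq_bot_of_coprime c.coprime

theorem index_H : c.H.index = Nat.card c.S := by
  have h := c.H.card_mul_index
  rw [← c.hcard] at h
  exact Nat.eq_of_mul_eq_mul_left Nat.card_pos h

theorem card_S_eq : Nat.card c.S = 2 ^ (Nat.card T).factorization 2 := by
  obtain ⟨k, hk⟩ := c.card_S
  rw [← c.hcard, hk, Nat.factorization_mul Nat.card_pos.ne' (by positivity), Finsupp.add_apply,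
    Nat.Prime.factorization_pow Nat.prime_two, Finsupp.single_eq_same,
    Nat.factorization_eq_zero_of_not_dvd (by
      rw [← even_iff_two_dvd, Nat.not_even_iff_odd]; exact c.hH), zero_add]

/-- `S` as a Sylow subgroup. -/
noncomputable def sylow : Sylow 2 T := Sylow.ofCard c.S c.card_S_eq

theorem coe_sylow : (c.sylow : Subgroup T) = c.S := rfl

theorem comm {a b : T} (ha : a ∈ c.S) (hb : b ∈ c.S) : a * b = b * a := by
  have := c.hab 2 c.sylow
  exact congrArg Subtype.val (mul_comm' (⟨a, ha⟩ : (c.sylow : Subgroup T)) ⟨b, hb⟩)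

theorem exists_decomp (g : T) : ∃ s ∈ c.S, s⁻¹ * g ∈ c.H := by
  have hinj : Function.Injective fun s : c.S => ((s : T) : T ⧸ c.H) := by
    intro a b hab
    have h : (a : T)⁻¹ * b ∈ c.H ⊓ c.S :=
      mem_inf.2 ⟨QuotientGroup.eq.1 hab, mul_mem (inv_mem a.2) b.2⟩
    rw [c.inf_eq_bot, mem_bot, inv_mul_eq_one] at h
    exact Subtype.ext h
  have hsurj := (hinj.bijective_of_nat_card_le (le_of_eq c.index_H)).2
  obtain ⟨s, hs⟩ := hsurj (g : T ⧸ c.H)
  exact ⟨s, s.2, QuotientGroup.eq.1 hs⟩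

/-- The `S`-component of an element in the factorisation `T = S H`. -/
noncomputable def sig (g : T) : T := (c.exists_decomp g).choose

theorem sig_mem (g : T) : c.sig g ∈ c.S := (c.exists_decomp g).choose_spec.1

theorem sig_spec (g : T) : (c.sig g)⁻¹ * g ∈ c.H := (c.exists_decomp g).choose_spec.2

theorem sig_eq {g s : T} (hs : s ∈ c.S) (h : s⁻¹ * g ∈ c.H) : c.sig g = s := by
  have h1 : (c.sig g)⁻¹ * s ∈ c.H ⊓ c.S := by
    refine mem_inf.2 ⟨?_, mul_mem (inv_mem (c.sig_mem g)) hs⟩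
    have := mul_mem (c.sig_spec g) (inv_mem h)
    rwa [mul_inv_rev, inv_inv, ← mul_assoc, mul_assoc _ g, mul_inv_cancel, mul_one] at this
  rwa [c.inf_eq_bot, mem_bot, inv_mul_eq_one] at h1

theorem sig_of_mem {s : T} (hs : s ∈ c.S) : c.sig s = s :=
  c.sig_eq hs (by rw [inv_mul_cancel]; exact one_mem _)

theorem sig_of_mem_H {h : T} (hh : h ∈ c.H) : c.sig h = 1 :=
  c.sig_eq (one_mem _) (by simpa using hh)

theorem sig_mul_sig (g x : T) : c.sig (g * c.sig x) = c.sig (g * x) := by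
  refine (c.sig_eq (c.sig_mem _) ?_).symm
  have h := mul_mem (c.sig_spec (g * c.sig x)) (c.sig_spec x)
  rwa [show (c.sig (g * c.sig x))⁻¹ * (g * c.sig x) * ((c.sig x)⁻¹ * x)
    = (c.sig (g * c.sig x))⁻¹ * (g * x) by group] at h

theorem exists_hs (g : T) : ∃ h ∈ c.H, ∃ s ∈ c.S, g = h * s := by
  refine ⟨_, inv_mem (c.sig_spec g⁻¹), _, inv_mem (c.sig_mem g⁻¹), ?_⟩
  group

theorem S_ne_top : c.S ≠ ⊤ := fun h => c.hna fun a b =>
  c.comm (h ▸ mem_top a) (h ▸ mem_top b)

theorem exists_S_pow {x : T} (hx : x ∈ c.S) : ∃ k, x ^ 2 ^ k = 1 := by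
  obtain ⟨k, hk⟩ := c.hS2 ⟨x, hx⟩
  exact ⟨k, congrArg Subtype.val hk⟩

/-- Involution obtained as a power of a nontrivial element of `S`. -/
theorem exists_pow_involution {x : T} (hx : x ∈ c.S) (hx1 : x ≠ 1) :
    ∃ i : ℕ, x ^ i * x ^ i = 1 ∧ x ^ i ≠ 1 := by
  obtain ⟨k, hk⟩ := c.exists_S_pow hx
  obtain ⟨j, -, hj⟩ := (Nat.dvd_prime_pow Nat.prime_two).1 (orderOf_dvd_of_pow_eq_one hk)
  cases j with
  | zero => exact absurd (orderOf_eq_one_iff.1 (by rw [hj, pow_zero])) hx1
  | succ j =>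
    refine ⟨2 ^ j, ?_, pow_ne_one_of_lt_orderOf (by positivity) ?_⟩
    · rw [← pow_add, ← two_mul, ← pow_succ', ← hj, pow_orderOf_eq_one]
    · rw [hj]; exact Nat.pow_lt_pow_right one_lt_two (by omega)

theorem eq_one_of_sq_of_mem_H {x : T} (hx : x ∈ c.H) (h2 : x * x = 1) : x = 1 := by
  have hd : orderOf x ∣ Nat.card c.H := Subgroup.orderOf_dvd_natCard c.H hx
  have h : orderOf x ∣ Nat.gcd 2 (Nat.card c.H) :=
    Nat.dvd_gcd (orderOf_dvd_of_pow_eq_one (by rw [pow_two, h2])) hd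
  rwa [(Nat.coprime_two_left.2 c.hH).gcd_eq_one, Nat.dvd_one, orderOf_eq_one_iff] at h

theorem eq_one_of_conj_mem_H {g x : T} (hx : g⁻¹ * x * g ∈ c.H) (h2 : x * x = 1) : x = 1 := by
  have h := c.eq_one_of_sq_of_mem_H hx (by
    rw [show g⁻¹ * x * g * (g⁻¹ * x * g) = g⁻¹ * (x * x) * g by group, h2]; group)
  have := congrArg (fun y => g * y * g⁻¹) h
  simpa [mul_assoc] using this

/-- A 2-subgroup normalising `S` lies in `S`. -/
theorem le_S_of_le_normalizer {P : Subgroup T} (hP : IsPGroup 2 P)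
    (hn : P ≤ normalizer (c.S : Set T)) : P ≤ c.S := by
  have h := c.sylow.3 (IsPGroup.to_sup_of_normal_right' hP c.hS2 hn) le_sup_right
  exact le_sup_left.trans (le_of_eq h)

theorem mem_S_of_pow {x : T} {k : ℕ} (hx : x ^ 2 ^ k = 1) (hn : x ∈ normalizer (c.S : Set T)) :
    x ∈ c.S :=
  c.le_S_of_le_normalizer (isPGroup_zpowers hx) (zpowers_le.2 hn) (mem_zpowers x)

theorem mem_S_of_sq {x : T} (hx : x * x = 1) (hn : x ∈ normalizer (c.S : Set T)) : x ∈ c.S :=
  c.mem_S_of_pow (k := 1) (by rw [pow_one, pow_two, hx]) hn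

theorem exists_conj_le_S {P : Subgroup T} (hP : IsPGroup 2 P) :
    ∃ g : T, ∀ x ∈ P, g * x * g⁻¹ ∈ c.S := by
  obtain ⟨Q, hQ⟩ := hP.exists_le_sylow
  obtain ⟨g, hg⟩ := MulAction.exists_smul_eq T Q c.sylow
  refine ⟨g, fun x hx => ?_⟩
  have : g * x * g⁻¹ ∈ ((g • Q : Sylow 2 T) : Subgroup T) :=
    Subgroup.smul_mem_pointwise_smul x (MulAut.conj g) _ (hQ hx)
  rwa [hg] at this

theorem exists_conj_mem_S {x : T} (hx : x * x = 1) : ∃ g : T, g * x * g⁻¹ ∈ c.S := by
  obtain ⟨g, hg⟩ := c.exists_conj_le_S (isPGroup_zpowers (p := 2) (k := 1) (x := x)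
    (by rw [pow_one, pow_two, hx]))
  exact ⟨g, hg x (mem_zpowers x)⟩

/-- The factorisation of a subgroup through which the criterion of solvability applies. -/
theorem card_eq_of_factor {X : Subgroup T} (h : ∀ x ∈ X, c.sig x ∈ X) :
    Nat.card X = Nat.card ↥(c.H ⊓ X) * Nat.card ↥(c.S ⊓ X) := by
  rw [← Nat.card_prod]
  symm
  refine Nat.card_congr (Equiv.ofBijective
    (fun p => ⟨(p.2 : T) * p.1, mul_mem p.2.2.2 p.1.2.2⟩) ⟨?_, ?_⟩)
  · rintro ⟨⟨a, ha⟩, ⟨b, hb⟩⟩ ⟨⟨a', ha'⟩, ⟨b', hb'⟩⟩ e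
    have e' : b * a = b' * a' := congrArg Subtype.val e
    have hbb : b = b' := by
      rw [← c.sig_eq (g := b * a) hb.1 (by rw [inv_mul_cancel_left]; exact ha.1), e',
        c.sig_eq hb'.1 (by rw [inv_mul_cancel_left]; exact ha'.1)]
    subst hbb
    have haa : a = a' := mul_left_cancel e'
    subst haa
    rfl
  · rintro ⟨x, hx⟩
    exact ⟨(⟨_, mem_inf.2 ⟨c.sig_spec x, mul_mem (inv_mem (h x hx)) hx⟩⟩,
        ⟨_, mem_inf.2 ⟨c.sig_mem x, h x hx⟩⟩),
      Subtype.ext (mul_inv_cancel_left _ _)⟩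

variable [IsSimpleGroup T]

theorem center_eq_bot : center T = ⊥ :=
  (Normal.eq_bot_or_eq_top inferInstance).resolve_right fun h => c.hna fun a b =>
    ((mem_center_iff.1 (h ▸ mem_top b : b ∈ center T)) a)

theorem centralizer_ne_top {x : T} (hx : x ≠ 1) : centralizer ({x} : Set T) ≠ ⊤ := by
  intro h
  apply hx
  rw [← mem_bot, ← c.center_eq_bot, mem_center_iff]
  intro g
  exact mem_centralizer_singleton_iff.1 (h ▸ mem_top g)

theorem normalClosure_eq_top {x : T} (hx : x ≠ 1) : normalClosure ({x} : Set T) = ⊤ := by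
  refine (Normal.eq_bot_or_eq_top inferInstance).resolve_left fun h => hx ?_
  rw [← mem_bot, ← h]
  exact subset_normalClosure rfl

theorem eq_top_of_forall_conj_mem {X : Subgroup T} {x : T} (hx : x ≠ 1)
    (h : ∀ g : T, g * x * g⁻¹ ∈ X) : X = ⊤ := by
  rw [eq_top_iff, ← c.normalClosure_eq_top hx, normalClosure, closure_le]
  intro y hy
  rw [Group.mem_conjugatesOfSet_iff] at hy
  obtain ⟨a, rfl, hy⟩ := hy
  obtain ⟨g, rfl⟩ := isConj_iff.1 hy
  exact h g

theorem card_S_ne_one : Nat.card c.S ≠ 1 := by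
  intro h
  have hH : c.H = ⊤ := by
    rw [← index_eq_one, c.index_H, h]
  have := c.hHsol
  rw [hH] at this
  have : Group.IsSolvable T := Group.isSolvable_of_surjective
    (f := (topEquiv (G := T)).toMonoidHom) (topEquiv (G := T)).surjective
  exact c.hna (IsSimpleGroup.comm_iff_isSolvable.2 this)

theorem exists_involution : ∃ z ∈ c.S, z * z = 1 ∧ z ≠ 1 := by
  obtain ⟨x, hx, hx1⟩ := (Subgroup.bot_or_exists_ne_one c.S).resolve_left fun h =>
    c.card_S_ne_one (by rw [h, card_bot])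
  obtain ⟨i, h1, h2⟩ := c.exists_pow_involution hx hx1
  exact ⟨x ^ i, pow_mem hx i, h1, h2⟩

theorem H_ne_top : c.H ≠ ⊤ := fun h => by
  obtain ⟨z, hz, hz2, hz1⟩ := c.exists_involution
  exact hz1 (c.eq_one_of_sq_of_mem_H (h ▸ mem_top z) hz2)

/-- The complement is a maximal subgroup. -/
theorem maximal {X : Subgroup T} (hle : c.H ≤ X) (hX : X ≠ ⊤) : X = c.H := by
  by_contra hne
  have heven : 2 ∣ Nat.card X := by
    by_contra hodd
    apply hne
    refine (Subgroup.eq_of_le_of_card_ge hle (Nat.le_of_dvd Nat.card_pos ?_)).symm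
    obtain ⟨k, hk⟩ := c.card_S
    have hd : Nat.card X ∣ Nat.card c.H * Nat.card c.S := c.hcard ▸ card_subgroup_dvd_card X
    refine (Nat.Coprime.dvd_of_dvd_mul_right ?_ hd)
    rw [hk]
    exact Nat.Coprime.pow_right k
      (Nat.coprime_two_right.2 (Nat.not_even_iff_odd.1 fun e => hodd e.two_dvd))
  obtain ⟨⟨z, hzX⟩, hz⟩ := exists_prime_orderOf_dvd_card' (G := X) 2 heven
  rw [orderOf_mk] at hz
  have hz2 : z * z = 1 := IsolatedInv.sq_of_orderOf_two hz
  have hz1 : z ≠ 1 := IsolatedInv.ne_one_of_orderOf_two hz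
  obtain ⟨g, hg⟩ := c.exists_conj_mem_S hz2
  obtain ⟨s, hs, hh⟩ := c.exists_decomp g
  set h := s⁻¹ * g with hdef
  have hzz : h * z * h⁻¹ = g * z * g⁻¹ := by
    have h1 : h * z * h⁻¹ = s⁻¹ * (g * z * g⁻¹) * s := by rw [hdef]; group
    rw [h1, mul_assoc, c.comm hg hs, inv_mul_cancel_left]
  have hzX' : g * z * g⁻¹ ∈ X := hzz ▸ mul_mem (mul_mem (hle hh) hzX) (inv_mem (hle hh))
  refine hX (c.eq_top_of_forall_conj_mem (x := g * z * g⁻¹) (fun e => hz1 ?_) fun a => ?_)
  · have := congrArg (fun y => g⁻¹ * y * g) e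
    simpa [mul_assoc] using this
  · obtain ⟨a₁, ha₁, a₂, ha₂, rfl⟩ := c.exists_hs a
    have h2 : a₁ * a₂ * (g * z * g⁻¹) * (a₁ * a₂)⁻¹ = a₁ * (g * z * g⁻¹) * a₁⁻¹ := by
      calc a₁ * a₂ * (g * z * g⁻¹) * (a₁ * a₂)⁻¹
          = a₁ * (a₂ * (g * z * g⁻¹)) * a₂⁻¹ * a₁⁻¹ := by group
        _ = a₁ * (g * z * g⁻¹) * a₁⁻¹ := by rw [c.comm ha₂ hg]; group
    rw [h2]
    exact mul_mem (mul_mem (hle ha₁) hzX') (inv_mem (hle ha₁))

/-- A subgroup all of whose conjugates by elements of `S` lie in `H` is trivial. -/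
theorem eq_bot_of_conj_mem_H {A : Subgroup T}
    (h : ∀ s ∈ c.S, ∀ a ∈ A, s⁻¹ * a * s ∈ c.H) : A = ⊥ := by
  have hle : A ≤ c.H.normalCore := by
    intro a ha g
    obtain ⟨s, hs, hh⟩ := c.exists_decomp g⁻¹
    have h1 := h s hs a ha
    have h2 := mul_mem (mul_mem (inv_mem hh) h1) hh
    rwa [show (s⁻¹ * g⁻¹)⁻¹ * (s⁻¹ * a * s) * (s⁻¹ * g⁻¹) = g * a * g⁻¹ by group] at h2
  have hbot : c.H.normalCore = ⊥ :=
    (Normal.eq_bot_or_eq_top inferInstance).resolve_right fun e =>
      c.H_ne_top (top_le_iff.1 (e ▸ normalCore_le c.H))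
  exact le_bot_iff.1 (hbot ▸ hle)

/-! ### Centralisers of involutions -/

/-- An odd normal subgroup of a subgroup factorising through `S` and `H` lies in `H`. -/
theorem normal_odd_le {X N : Subgroup T}
    (hX : Nat.card X = Nat.card ↥(c.H ⊓ X) * Nat.card ↥(c.S ⊓ X))
    (hNX : N ≤ X) (hN : X ≤ normalizer (N : Set T)) (hodd : Odd (Nat.card N)) : N ≤ c.H := by
  set B := c.H ⊓ X with hB
  have hBN : B ≤ normalizer (N : Set T) := inf_le_right.trans hN
  have hJX : N ⊔ B ≤ X := sup_le hNX inf_le_right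
  have hJodd : Odd (Nat.card ↥(N ⊔ B)) := by
    refine Odd.of_dvd_nat (hodd.mul (c.odd_of_le (inf_le_left : B ≤ c.H))) ?_
    have h1 : (N.subgroupOf (N ⊔ B)).Normal := by
      rw [normal_subgroupOf_iff_le_normalizer le_sup_left]
      exact sup_le le_normalizer hBN
    have h2 := card_mul_index (N.subgroupOf (N ⊔ B))
    rw [Nat.card_congr (subgroupOfEquivOfLe (le_sup_left : N ≤ N ⊔ B)).toEquiv] at h2
    rw [← h2]
    refine Nat.mul_dvd_mul_left _ ?_
    have h3 : N.relIndex (N ⊔ B) = N.relIndex B := by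
      have hs := relIndex_sup_left (B.subgroupOf (N ⊔ B)) (N.subgroupOf (N ⊔ B))
      rw [← subgroupOf_sup le_sup_left le_sup_right, subgroupOf_self, relIndex_top_right,
        relIndex_subgroupOf (le_sup_right : B ≤ N ⊔ B)] at hs
      exact hs
    change N.relIndex (N ⊔ B) ∣ _
    rw [h3]
    exact relIndex_dvd_card ..
  have heq : B = N ⊔ B := by
    refine Subgroup.eq_of_le_of_card_ge le_sup_right (Nat.le_of_dvd Nat.card_pos ?_)
    obtain ⟨k, hk⟩ := IsPGroup.iff_card.1 (c.hS2.to_le (inf_le_left : c.S ⊓ X ≤ c.S))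
    refine Nat.Coprime.dvd_of_dvd_mul_right ?_ (hX ▸ card_dvd_of_le hJX)
    rw [hk]
    exact Nat.Coprime.pow_right k (Nat.coprime_two_right.2 hJodd)
  exact (le_sup_left.trans heq.ge).trans inf_le_left

/-- The cores of a subgroup `X` containing `S`. -/
theorem le_normalizer_of_S_le {X : Subgroup T} (hSX : c.S ≤ X) (hX : X ≠ ⊤) :
    X ≤ normalizer (c.S : Set T) := by
  have hfac := c.card_eq_of_factor (X := X) fun x _ => hSX (c.sig_mem x)
  have := c.hsol X hX hfac
  set F := (Cfsg.fittingSubgroup X).map X.subtype with hF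
  have hodd_bot : ∀ r, r.Prime → r ≠ 2 → Cfsg.pCore r X = ⊥ := by
    intro r hr hr2
    have := Fact.mk hr
    set R := (Cfsg.pCore r X).map X.subtype with hR
    have hRX : R ≤ X := map_subtype_le _
    have hnorm : X ≤ normalizer (R : Set T) := by
      rw [← normal_subgroupOf_iff_le_normalizer hRX]
      rw [hR, show ((Cfsg.pCore r X).map X.subtype).subgroupOf X = Cfsg.pCore r X from
        comap_map_eq_self_of_injective X.subtype_injective _]
      infer_instance
    have hodd : Odd (Nat.card R) := by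
      obtain ⟨k, hk⟩ := IsPGroup.iff_card.1
        ((ComponentsCores.isPGroup_pCore (G := X) r).map X.subtype)
      rw [hR, hk]
      exact (hr.odd_of_ne_two hr2).pow
    have hle : R ≤ c.H := c.normal_odd_le hfac hRX hnorm hodd
    have hbot : R = ⊥ := c.eq_bot_of_conj_mem_H fun s hs a ha =>
      hle (by
        have := (mem_normalizer_iff.1 (inv_mem (hnorm (hSX hs))) a).1 ha
        simpa using this)
    exact (map_eq_bot_iff_of_injective _ X.subtype_injective).1 hbot
  have hF2 : Cfsg.fittingSubgroup X ≤ Cfsg.pCore 2 X := by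
    rw [ComponentsFitting.fittingSubgroup_eq_iSup]
    refine iSup_le fun r => ?_
    by_cases h2 : (r : ℕ) = 2
    · rw [h2]
    · rw [hodd_bot r (Nat.prime_of_mem_primeFactors r.2) h2]; exact bot_le
  have hFS : ∀ y : X, y ∈ Cfsg.pCore 2 X → (y : T) ∈ c.S := by
    intro y hy
    obtain ⟨Q, hQ⟩ : ∃ Q : Sylow 2 X, (Q : Subgroup X) = c.S.subgroupOf X :=
      ⟨c.sylow.subtype hSX, rfl⟩
    exact mem_subgroupOf.1 (hQ ▸ (ComponentsCores.isPGroup_pCore 2).le_sylow_of_normal Q hy)
  have hcent : ∀ y : X, (y : T) ∈ c.S → y ∈ Cfsg.fittingSubgroup X := fun y hy =>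
    ComponentsFitting.centralizer_fitting_le_of_solvable
      (mem_centralizer_iff.2 fun w hw => Subtype.ext (c.comm (hFS w (hF2 hw)) hy))
  have heq : c.S.subgroupOf X = Cfsg.fittingSubgroup X :=
    le_antisymm (fun y hy => hcent y hy) fun y hy => hFS y (hF2 hy)
  rw [← normal_subgroupOf_iff_le_normalizer hSX, heq]
  infer_instance

/-- The centraliser of an involution of `S` normalises `S`. -/
theorem centralizer_le_normalizer {z : T} (hz : z ∈ c.S) (hz1 : z ≠ 1) :
    centralizer ({z} : Set T) ≤ normalizer (c.S : Set T) :=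
  c.le_normalizer_of_S_le
    (fun _ hs => mem_centralizer_singleton_iff.2 (c.comm hs hz)) (c.centralizer_ne_top hz1)

/-- An element moving a nontrivial element of `S` into `S` normalises `S`. -/
theorem mem_normalizer_of_conj {z g : T} (hz : z ∈ c.S) (hz1 : z ≠ 1)
    (hg : g * z * g⁻¹ ∈ c.S) : g ∈ normalizer (c.S : Set T) := by
  set w := g * z * g⁻¹ with hw
  have hw1 : w ≠ 1 := fun e => hz1 (by
    have := congrArg (fun y => g⁻¹ * y * g) e
    simpa [hw, mul_assoc] using this)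
  have hle : ∀ s ∈ c.S, g * s * g⁻¹ ∈ c.S := by
    intro s hs
    obtain ⟨k, hk⟩ := c.exists_S_pow hs
    refine c.mem_S_of_pow (k := k) ?_ (c.centralizer_le_normalizer hg hw1 ?_)
    · rw [conj_pow, hk, mul_one, mul_inv_cancel]
    · rw [mem_centralizer_singleton_iff, hw]
      calc g * s * g⁻¹ * (g * z * g⁻¹) = g * (s * z) * g⁻¹ := by group
        _ = g * z * g⁻¹ * (g * s * g⁻¹) := by rw [c.comm hs hz]; group
  rw [mem_normalizer_iff]
  intro s
  refine ⟨hle s, fun hs => ?_⟩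
  have hsurj : Function.Surjective fun t : c.S => (⟨g * t * g⁻¹, hle t t.2⟩ : c.S) :=
    Finite.injective_iff_surjective.1 fun a b e =>
      Subtype.ext (mul_left_cancel (mul_right_cancel (congrArg Subtype.val e)))
  obtain ⟨t, ht⟩ := hsurj ⟨_, hs⟩
  have ht' : g * t * g⁻¹ = g * s * g⁻¹ := congrArg Subtype.val ht
  exact mul_left_cancel (mul_right_cancel ht') ▸ t.2

theorem normalizer_ne_top : normalizer (c.S : Set T) ≠ ⊤ := by
  intro h
  have : c.S.Normal := normalizer_eq_top_iff.1 h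
  rcases Normal.eq_bot_or_eq_top this with e | e
  · exact c.card_S_ne_one (by rw [e, card_bot])
  · exact c.S_ne_top e

/-- Any two involutions of `S` are conjugate under `H ∩ N(S)`. -/
theorem exists_conj_eq {z v : T} (hz : z ∈ c.S) (hz2 : z * z = 1) (hz1 : z ≠ 1)
    (hv : v ∈ c.S) (hv2 : v * v = 1) (hv1 : v ≠ 1) :
    ∃ k ∈ c.H, k ∈ normalizer (c.S : Set T) ∧ k * z * k⁻¹ = v := by
  obtain ⟨g, hg⟩ : ∃ g : T, g * z * g⁻¹ = v := by
    by_contra hno
    push Not at hno
    refine c.S_ne_top (c.eq_top_of_forall_conj_mem hv1 fun a => ?_)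
    set v' := a * v * a⁻¹ with hv'
    have hv'2 : v' * v' = 1 := by
      rw [hv', show a * v * a⁻¹ * (a * v * a⁻¹) = a * (v * v) * a⁻¹ by group, hv2]; group
    rcases Nat.even_or_odd (orderOf (z * v')) with he | ho
    · obtain ⟨w, -, hw1, hw2, hwz, hwv⟩ := IsolatedInv.exists_central_of_even hz2 hv'2 he
      have hwS : w ∈ c.S := c.mem_S_of_sq hw2
        (c.centralizer_le_normalizer hz hz1 (mem_centralizer_singleton_iff.2 hwz.eq))
      exact c.mem_S_of_sq hv'2
        (c.centralizer_le_normalizer hwS hw1 (mem_centralizer_singleton_iff.2 hwv.symm.eq))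
    · obtain ⟨d, -, hd⟩ := IsolatedInv.exists_conj_of_odd hz2 hv'2 ho
      refine absurd ?_ (hno (a⁻¹ * d))
      calc a⁻¹ * d * z * (a⁻¹ * d)⁻¹ = a⁻¹ * (d * z * d⁻¹) * a := by group
        _ = v := by rw [hd, hv']; group
  have hgN := c.mem_normalizer_of_conj hz hz1 (hg ▸ hv)
  obtain ⟨k, hk, s, hs, rfl⟩ := c.exists_hs g
  refine ⟨k, hk, ?_, ?_⟩
  · have := mul_mem hgN (inv_mem (le_normalizer hs : s ∈ normalizer (c.S : Set T)))
    simpa [mul_assoc] using this
  · rw [← hg]
    calc k * z * k⁻¹ = k * z * s * s⁻¹ * k⁻¹ := by group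
      _ = k * s * z * (k * s)⁻¹ := by rw [mul_assoc k, c.comm hz hs]; group

/-! ### Double transitivity -/

/-- The points in the `H`-orbit of `a`, written in `S`. -/
def Orb (a : T) : Set T := {t | ∃ h ∈ c.H, c.sig (h * a) = t}

omit [IsSimpleGroup T] in
theorem orb_conj {h a t : T} (hh : h ∈ c.H) (ht : t ∈ c.Orb a) : c.sig (h * t) ∈ c.Orb a := by
  obtain ⟨h', hh', rfl⟩ := ht
  exact ⟨h * h', mul_mem hh hh', by rw [c.sig_mul_sig, mul_assoc]⟩

omit [IsSimpleGroup T] in
theorem sig_sig_mul {g a : T} : c.sig (g⁻¹ * c.sig (g * a)) = c.sig a := by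
  rw [c.sig_mul_sig, inv_mul_cancel_left]

/-- The stabiliser in `H` of the point `a H`. -/
def Dstab (a : T) : Subgroup T := c.H ⊓ Subgroup.comap (MulAut.conj a⁻¹).toMonoidHom c.H

theorem mem_Dstab {a x : T} : x ∈ c.Dstab a ↔ x ∈ c.H ∧ a⁻¹ * x * a ∈ c.H := by
  simp [Dstab, mem_inf]

theorem card_orb (a : T) : Nat.card c.H = Nat.card (c.Orb a) * Nat.card (c.Dstab a) := by
  rw [Dstab]
  set St := c.H ⊓ Subgroup.comap (MulAut.conj a⁻¹).toMonoidHom c.H with hSt
  have hfib : ∀ b : c.Orb a,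
      Nat.card {h : c.H // (⟨c.sig (h * a), h, h.2, rfl⟩ : c.Orb a) = b} = Nat.card St := by
    rintro ⟨b, h₀, hh₀, rfl⟩
    refine Nat.card_congr
      { toFun := fun h => ⟨h₀⁻¹ * (h.1 : T), mem_inf.2 ⟨mul_mem (inv_mem hh₀) h.1.2, ?_⟩⟩
        invFun := fun x => ⟨⟨h₀ * x, mul_mem hh₀ x.2.1⟩, Subtype.ext ?_⟩
        left_inv := fun h => by ext; simp
        right_inv := fun x => by ext; simp }
    · have e : c.sig (h.1 * a) = c.sig (h₀ * a) := congrArg Subtype.val h.2
      have h1 := mul_mem (inv_mem (c.sig_spec (h₀ * a))) (e ▸ c.sig_spec (h.1 * a))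
      change a⁻¹ * (h₀⁻¹ * (h.1 : T)) * (a⁻¹)⁻¹ ∈ c.H
      rwa [show ((c.sig (h₀ * a))⁻¹ * (h₀ * a))⁻¹ * ((c.sig (h₀ * a))⁻¹ * ((h.1 : T) * a))
        = a⁻¹ * (h₀⁻¹ * (h.1 : T)) * (a⁻¹)⁻¹ by group] at h1
    · change c.sig (h₀ * x * a) = c.sig (h₀ * a)
      refine c.sig_eq (c.sig_mem _) ?_
      have h1 : a⁻¹ * (x : T) * (a⁻¹)⁻¹ ∈ c.H := x.2.2
      have h2 := mul_mem (c.sig_spec (h₀ * a)) h1
      rwa [show (c.sig (h₀ * a))⁻¹ * (h₀ * a) * (a⁻¹ * (x : T) * (a⁻¹)⁻¹)
        = (c.sig (h₀ * a))⁻¹ * (h₀ * x * a) by group] at h2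
  have h := PrimeOrderGroups.card_eq_mul_of_fibres
    (fun h : c.H => (⟨c.sig (h * a), h, h.2, rfl⟩ : c.Orb a)) _ hfib
  exact h

theorem orb_card_odd (a : T) : Odd (Nat.card (c.Orb a)) :=
  (Nat.odd_mul.1 (c.card_orb a ▸ c.hH)).1

/-- Every orbit of `H` other than the trivial one contains an involution of `S`. -/
theorem orb_involution {a : T} (ha : a ∈ c.S) (ha1 : a ≠ 1) :
    ∃ v ∈ c.Orb a, v * v = 1 ∧ v ≠ 1 := by
  classical
  haveI : Fintype T := Fintype.ofFinite T
  have hOS : ∀ t ∈ c.Orb a, t ∈ c.S := by rintro _ ⟨h, -, rfl⟩; exact c.sig_mem _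
  have hO1 : ∀ t ∈ c.Orb a, t ≠ 1 := by
    rintro _ ⟨h, hh, rfl⟩ e
    apply ha1
    rw [← c.sig_of_mem ha, ← c.sig_sig_mul (g := h) (a := a), e, mul_one]
    exact c.sig_of_mem_H (inv_mem hh)
  set O : Finset T := Finset.univ.filter (fun t => t ∈ c.Orb a) with hO
  have memO : ∀ t, t ∈ O ↔ t ∈ c.Orb a := fun t => by simp [hO]
  have hOodd : Odd O.card := by
    have := c.orb_card_odd a
    rwa [Nat.card_eq_fintype_card, Fintype.card_subtype] at this
  set pairs : T → Finset (T × T) := fun y => (O ×ˢ O).filter (fun p => p.1 * p.2 = y) with hpairs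
  have memP : ∀ y p, p ∈ pairs y ↔ p.1 ∈ c.Orb a ∧ p.2 ∈ c.Orb a ∧ p.1 * p.2 = y := by
    intro y p; simp [hpairs, memO, and_assoc]
  have hswap : ∀ y, Even (pairs y).card ↔ Even ((pairs y).filter fun p => p.1 = p.2).card := by
    intro y
    rw [even_card_iff_fixed (pairs y) Prod.swap (fun p hp => by
        rw [memP] at hp ⊢
        exact ⟨hp.2.1, hp.1, (c.comm (hOS _ hp.2.1) (hOS _ hp.1)).trans hp.2.2⟩)
      (fun p _ => Prod.swap_swap p)]
    rw [Finset.filter_congr (q := fun p : T × T => p.1 = p.2) (fun p _ => by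
      constructor
      · intro e; exact (congrArg Prod.fst e).symm
      · intro e; exact Prod.ext e.symm e)]
  have hinv : ∀ h ∈ c.H, ∀ y, (pairs y).card ≤ (pairs (c.sig (h * y))).card := by
    intro h hh y
    refine Finset.card_le_card_of_injOn
      (fun p => (c.sig (h * p.1), c.sig ((c.sig (h * p.1))⁻¹ * (h * p.1) * p.2))) ?_ ?_
    · intro p hp
      rw [Finset.mem_coe, memP] at hp
      rw [Finset.mem_coe, memP]
      refine ⟨c.orb_conj hh hp.1, c.orb_conj (c.sig_spec _) hp.2.1, ?_⟩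
      refine (c.sig_eq (mul_mem (c.sig_mem _) (c.sig_mem _)) ?_).symm
      rw [← hp.2.2]
      have := c.sig_spec ((c.sig (h * p.1))⁻¹ * (h * p.1) * p.2)
      simpa [mul_assoc] using this
    · intro p hp p' hp' e
      rw [Finset.mem_coe, memP] at hp hp'
      have e1 : c.sig (h * p.1) = c.sig (h * p'.1) := congrArg Prod.fst e
      have hp1 : p.1 = p'.1 := by
        rw [← c.sig_of_mem (hOS _ hp.1), ← c.sig_sig_mul (g := h) (a := p.1), e1, c.sig_sig_mul,
          c.sig_of_mem (hOS _ hp'.1)]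
      exact Prod.ext hp1 (mul_left_cancel (hp.2.2.trans (hp1 ▸ hp'.2.2.symm)))
  have hinvEven : ∀ h ∈ c.H, ∀ y ∈ c.S, (pairs (c.sig (h * y))).card = (pairs y).card := by
    intro h hh y hy
    refine le_antisymm ?_ (hinv h hh y)
    have := hinv h⁻¹ (inv_mem hh) (c.sig (h * y))
    rwa [c.sig_sig_mul, c.sig_of_mem hy] at this
  by_contra hno
  push Not at hno
  have hnoinv : ∀ t ∈ c.Orb a, t * t ≠ 1 := fun t ht e => hO1 t ht (hno t ht e)
  have key : ∀ y ∈ c.S, Even (pairs y).card := by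
    by_contra hY
    push Not at hY
    obtain ⟨y₀, hy₀, hodd₀⟩ := hY
    set Y : Set T := {y | y ∈ c.S ∧ ¬ Even (pairs y).card} with hYdef
    have hsq : ∀ y ∈ Y, ∃ t ∈ c.S, t * t = y := by
      rintro y ⟨-, hy⟩
      rw [hswap] at hy
      obtain ⟨p, hp⟩ := Finset.card_pos.1 (Nat.pos_of_ne_zero fun e => hy (by rw [e]; exact Even.zero))
      rw [Finset.mem_filter, memP] at hp
      exact ⟨p.1, hOS _ hp.1.1, by
        have h3 := hp.1.2.2
        rwa [← hp.2] at h3⟩
    have hy₀1 : y₀ ≠ 1 := by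
      rintro rfl
      rw [hswap] at hodd₀
      obtain ⟨p, hp⟩ := Finset.card_pos.1
        (Nat.pos_of_ne_zero fun e => hodd₀ (by rw [e]; exact Even.zero))
      rw [Finset.mem_filter, memP] at hp
      exact hnoinv _ hp.1.1 (by
        have h3 := hp.1.2.2
        rwa [← hp.2] at h3)
    let Sq : Subgroup T :=
      { carrier := {y | ∃ t ∈ c.S, t * t = y}
        one_mem' := ⟨1, one_mem _, one_mul 1⟩
        mul_mem' := by
          rintro _ _ ⟨t, ht, rfl⟩ ⟨r, hr, rfl⟩
          refine ⟨t * r, mul_mem ht hr, ?_⟩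
          rw [mul_assoc, ← mul_assoc r, c.comm hr ht]; group
        inv_mem' := by
          rintro _ ⟨t, ht, rfl⟩
          exact ⟨t⁻¹, inv_mem ht, by group⟩ }
    set B := closure Y with hB
    have hBSq : B ≤ Sq := (closure_le _).2 hsq
    have hBS : B ≤ c.S := (closure_le _).2 fun y hy => hy.1
    have hBne : ∃ s ∈ c.S, s ∉ B := by
      by_contra hall
      push Not at hall
      have hsurj : Function.Surjective fun t : c.S => t * t := by
        intro y
        obtain ⟨t, ht, he⟩ := hBSq (hall y y.2)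
        exact ⟨⟨t, ht⟩, Subtype.ext he⟩
      obtain ⟨z, hz, hz2, hz1⟩ := c.exists_involution
      have := Finite.injective_iff_surjective.2 hsurj
      exact hz1 (congrArg Subtype.val (@this ⟨z, hz⟩ 1 (Subtype.ext (by simpa using hz2))))
    -- the set of cosets of `B` is invariant under `H`
    have hHB : ∀ b ∈ B, ∀ h ∈ c.H, c.sig (h * b) ∈ B := by
      intro b hb
      rw [← mem_toSubmonoid, hB, closure_toSubmonoid_of_finite] at hb
      induction hb using Submonoid.closure_induction with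
      | mem y hy =>
        intro h hh
        exact subset_closure ⟨c.sig_mem _, by rw [hinvEven h hh y hy.1]; exact hy.2⟩
      | one =>
        intro h hh
        rw [mul_one, c.sig_of_mem_H hh]; exact one_mem _
      | mul x y _ _ hx hy =>
        intro h hh
        have h1 := hy _ (c.sig_spec (h * x))
        rw [c.sig_eq (g := h * (x * y))
          (s := c.sig (h * x) * c.sig ((c.sig (h * x))⁻¹ * (h * x) * y))
          (mul_mem (c.sig_mem _) (c.sig_mem _))
          (by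
            have := c.sig_spec ((c.sig (h * x))⁻¹ * (h * x) * y)
            simpa [mul_assoc] using this)]
        exact mul_mem (hx h hh) h1
    let M : Submonoid T :=
      { carrier := {g | ∀ b ∈ B, c.sig (g * b) ∈ B}
        one_mem' := fun b hb => by rw [one_mul, c.sig_of_mem (hBS hb)]; exact hb
        mul_mem' := fun {g g'} hg hg' b hb => by
          rw [mul_assoc, ← c.sig_mul_sig]; exact hg _ (hg' b hb) }
    have hJM : (c.H ⊔ B).toSubmonoid ≤ M := by
      rw [← closure_eq c.H, ← closure_eq B, ← Subgroup.closure_union, closure_toSubmonoid_of_finite,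
        Submonoid.closure_le]
      rintro g (hg | hg) b hb
      · exact hHB b hb g hg
      · rw [c.sig_of_mem (mul_mem (hBS hg) (hBS hb))]; exact mul_mem hg hb
    by_cases htop : c.H ⊔ B = ⊤
    · obtain ⟨s, hs, hsB⟩ := hBne
      have := hJM (show s ∈ (c.H ⊔ B).toSubmonoid by rw [htop]; trivial) 1 (one_mem _)
      rw [mul_one, c.sig_of_mem hs] at this
      exact hsB this
    · have heq := c.maximal le_sup_left htop
      have : y₀ ∈ c.H ⊓ c.S :=
        ⟨heq ▸ mem_sup_right (subset_closure ⟨hy₀, hodd₀⟩), hy₀⟩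
      rw [c.inf_eq_bot, mem_bot] at this
      exact hy₀1 this
  have htotal : Even (O ×ˢ O).card := by
    rw [Finset.card_eq_sum_card_fiberwise (f := fun p : T × T => p.1 * p.2)
      (t := Finset.univ.filter (fun y => y ∈ c.S))]
    · refine Finset.even_sum _ fun y hy => key y (Finset.mem_filter.1 hy).2
    · intro p hp
      simp only [Finset.mem_coe, Finset.mem_product, memO] at hp
      simpa using mul_mem (hOS _ hp.1) (hOS _ hp.2)
  rw [Finset.card_product, Nat.even_mul, or_self] at htotal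
  exact Nat.not_even_iff_odd.2 hOodd htotal

/-- `H` is transitive on the nontrivial points. -/
theorem transitive {a b : T} (ha : a ∈ c.S) (ha1 : a ≠ 1) (hb : b ∈ c.S) (hb1 : b ≠ 1) :
    ∃ h ∈ c.H, c.sig (h * a) = b := by
  obtain ⟨v, ⟨h₁, hh₁, hv⟩, hv2, hv1⟩ := c.orb_involution ha ha1
  obtain ⟨w, ⟨h₂, hh₂, hw⟩, hw2, hw1⟩ := c.orb_involution hb hb1
  obtain ⟨k, hk, -, hkv⟩ := c.exists_conj_eq (hv ▸ c.sig_mem _) hv2 hv1 (hw ▸ c.sig_mem _) hw2 hw1
  refine ⟨h₂⁻¹ * k * h₁, mul_mem (mul_mem (inv_mem hh₂) hk) hh₁, ?_⟩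
  have h1 : c.sig (k * v) = w := c.sig_eq (hw ▸ c.sig_mem _) (by
    rw [← hkv, show (k * v * k⁻¹)⁻¹ * (k * v) = k by group]; exact hk)
  calc c.sig (h₂⁻¹ * k * h₁ * a) = c.sig (h₂⁻¹ * c.sig (k * c.sig (h₁ * a))) := by
        rw [c.sig_mul_sig, ← mul_assoc h₂⁻¹ k, c.sig_mul_sig, ← mul_assoc]
    _ = b := by rw [hv, h1, ← hw, c.sig_sig_mul, c.sig_of_mem hb]

/-- A normal subgroup of `H` fixing a second point is trivial. -/
theorem eq_bot_of_fix {A : Subgroup T} (hA : A ≤ c.H)
    (hn : c.H ≤ normalizer (A : Set T)) {t : T} (ht : t ∉ c.H)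
    (hfix : ∀ a ∈ A, t⁻¹ * a * t ∈ c.H) : A = ⊥ := by
  refine c.eq_bot_of_conj_mem_H fun s hs a ha => ?_
  by_cases hs1 : s = 1
  · subst hs1; simpa using hA ha
  have ht1 : c.sig t ≠ 1 := fun e => ht (by
    have := c.sig_spec t; rwa [e, inv_one, one_mul] at this)
  obtain ⟨h, hh, he⟩ := c.transitive (c.sig_mem t) ht1 hs hs1
  have ha' : h⁻¹ * a * h ∈ A := by
    have := (mem_normalizer_iff.1 (inv_mem (hn hh)) a).1 ha
    simpa using this
  have h1 := hfix _ ha'
  have h2 : s⁻¹ * (h * t) ∈ c.H := by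
    have h3 := c.sig_spec (h * t)
    rw [← c.sig_mul_sig, he] at h3
    exact h3
  have h3 := mul_mem (mul_mem h2 h1) (inv_mem h2)
  rwa [show s⁻¹ * (h * t) * (t⁻¹ * (h⁻¹ * a * h) * t) * (s⁻¹ * (h * t))⁻¹ = s⁻¹ * a * s by group]
    at h3

/-- A normal subgroup of `H` normalising `S` is trivial. -/
theorem eq_bot_of_le_normalizer {A : Subgroup T} (hn : c.H ≤ normalizer (A : Set T))
    (hA : A ≤ normalizer (c.S : Set T)) : A = ⊥ := by
  have hle : A ≤ (normalizer (c.S : Set T)).normalCore := by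
    intro a ha g
    obtain ⟨s, hs, hh⟩ := c.exists_decomp g
    have ha' : (s⁻¹ * g) * a * (s⁻¹ * g)⁻¹ ∈ A := (mem_normalizer_iff.1 (hn hh) a).1 ha
    have h1 := mul_mem (mul_mem (le_normalizer hs : s ∈ normalizer (c.S : Set T)) (hA ha'))
      (inv_mem (le_normalizer hs : s ∈ normalizer (c.S : Set T)))
    rwa [show s * ((s⁻¹ * g) * a * (s⁻¹ * g)⁻¹) * s⁻¹ = g * a * g⁻¹ by group] at h1
  have hbot : (normalizer (c.S : Set T)).normalCore = ⊥ :=
    (Normal.eq_bot_or_eq_top inferInstance).resolve_right fun e =>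
      c.normalizer_ne_top (top_le_iff.1 (e ▸ normalCore_le _))
  exact le_bot_iff.1 (hbot ▸ hle)

/-! ### Inverted elements of odd order -/

/-- The centraliser of a nontrivial inverted element of odd order has odd order. -/
theorem odd_centralizer {x u : T} (hx : Odd (orderOf x)) (hx1 : x ≠ 1) (hu2 : u * u = 1)
    (hu1 : u ≠ 1) (hinv : u * x * u⁻¹ = x⁻¹) : Odd (Nat.card (centralizer ({x} : Set T))) := by
  obtain ⟨g, hg⟩ := c.exists_conj_mem_S hu2
  set z := g * u * g⁻¹ with hz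
  set y := g * x * g⁻¹ with hy
  have hz2 : z * z = 1 := by
    rw [hz, show g * u * g⁻¹ * (g * u * g⁻¹) = g * (u * u) * g⁻¹ by group, hu2]; group
  have hz1 : z ≠ 1 := fun e => hu1 (by
    have := congrArg (fun w => g⁻¹ * w * g) e
    simpa [hz, mul_assoc] using this)
  have hzy : z * y * z⁻¹ = y⁻¹ := by
    rw [hz, hy, show g * u * g⁻¹ * (g * x * g⁻¹) * (g * u * g⁻¹)⁻¹ = g * (u * x * u⁻¹) * g⁻¹ by
      group, hinv]
    group
  have hyord : orderOf y = orderOf x := by
    rw [hy, ← MulAut.conj_apply, MulEquiv.orderOf_eq]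
  have hcard : Nat.card (centralizer ({x} : Set T)) = Nat.card (centralizer ({y} : Set T)) := by
    refine Nat.card_congr ((MulAut.conj g).toEquiv.subtypeEquiv fun a => ?_)
    change a ∈ centralizer ({x} : Set T) ↔ g * a * g⁻¹ ∈ centralizer ({y} : Set T)
    rw [mem_centralizer_singleton_iff, mem_centralizer_singleton_iff, hy,
      show g * a * g⁻¹ * (g * x * g⁻¹) = g * (a * x) * g⁻¹ by group,
      show g * x * g⁻¹ * (g * a * g⁻¹) = g * (x * a) * g⁻¹ by group]
    exact ⟨fun e => by rw [e], fun e => mul_left_cancel (mul_right_cancel e)⟩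
  rw [hcard, ← Nat.not_even_iff_odd]
  intro hev
  classical
  haveI : Fintype T := Fintype.ofFinite T
  set C := centralizer ({y} : Set T) with hC
  have hCz : ∀ a, a ∈ C → z * a * z⁻¹ ∈ C := by
    intro a ha
    have h1 : Commute a y := mem_centralizer_singleton_iff.1 ha
    have h2 := (h1.map (MulAut.conj z).toMonoidHom)
    have h3 : Commute (z * a * z⁻¹) y⁻¹ := hzy ▸ h2
    exact mem_centralizer_singleton_iff.2 (Commute.inv_right_iff.1 h3).eq
  set I : Finset T := Finset.univ.filter (fun a => a ∈ C ∧ a * a = 1) with hI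
  have hIev : Even I.card := by
    have h1 := (even_card_iff_fixed (Finset.univ.filter (fun a => a ∈ C)) (fun a => a⁻¹)
      (fun a ha => by simpa using ha) (fun a _ => inv_inv a)).1
      (by rwa [← Fintype.card_subtype, ← Nat.card_eq_fintype_card])
    rwa [Finset.filter_filter, Finset.filter_congr (q := fun a => a ∈ C ∧ a * a = 1)
      (fun a _ => by rw [inv_eq_iff_mul_eq_one])] at h1
  have hfix := (even_card_iff_fixed I (fun a => z * a * z⁻¹) (fun a ha => by
      simp only [hI, Finset.mem_filter, Finset.mem_univ, true_and] at ha ⊢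
      refine ⟨hCz a ha.1, ?_⟩
      rw [show z * a * z⁻¹ * (z * a * z⁻¹) = z * (a * a) * z⁻¹ by group, ha.2]; group)
    (fun a _ => by
      rw [show z * (z * a * z⁻¹) * z⁻¹ = (z * z) * a * (z * z)⁻¹ by group, hz2]; group)).1 hIev
  obtain ⟨v, hv, hv1⟩ : ∃ v ∈ I.filter (fun a => z * a * z⁻¹ = a), v ≠ 1 := by
    by_contra hall
    push Not at hall
    have : I.filter (fun a => z * a * z⁻¹ = a) = {1} := by
      refine Finset.eq_singleton_iff_unique_mem.2 ⟨?_, hall⟩
      simp [hI]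
    rw [this, Finset.card_singleton] at hfix
    exact Nat.not_even_one hfix
  simp only [hI, Finset.mem_filter, Finset.mem_univ, true_and] at hv
  obtain ⟨⟨hvC, hv2⟩, hvz⟩ := hv
  have hvS : v ∈ c.S := c.mem_S_of_sq hv2 (c.centralizer_le_normalizer hg hz1
    (mem_centralizer_singleton_iff.2 (mul_inv_eq_iff_eq_mul.1 hvz).symm))
  have hyN : y ∈ normalizer (c.S : Set T) := c.centralizer_le_normalizer hvS hv1
    (mem_centralizer_singleton_iff.2 (mem_centralizer_singleton_iff.1 hvC).symm)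
  have h1 : y * z * y⁻¹ ∈ c.S := (mem_normalizer_iff.1 hyN z).1 hg
  have h2 : y * y = y * z * y⁻¹ * z⁻¹ := by
    calc y * y = y * (z * y * z⁻¹)⁻¹ := by rw [hzy, inv_inv]
      _ = _ := by group
  have h3 : y * y ∈ c.S := h2 ▸ mul_mem h1 (inv_mem hg)
  obtain ⟨k, hk⟩ := c.exists_S_pow h3
  apply hx1
  have hd : orderOf y ∣ 2 ^ (k + 1) := by
    apply orderOf_dvd_of_pow_eq_one
    rw [pow_succ', pow_mul, pow_two, hk]
  have hone : orderOf x = 1 := by
    rw [← hyord]
    exact Nat.dvd_one.1 (((Nat.coprime_two_right.2 (hyord ▸ hx)).pow_right (k + 1)).gcd_eq_one ▸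
      Nat.dvd_gcd dvd_rfl hd)
  exact orderOf_eq_one_iff.1 hone

end Ctx

end Cfsg.Agent.OddComplement26
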