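import Mathlib
import Cfsg.Agent.Lib.OddComplement26

/-!
The counting that rules out an odd order complement to an abelian Sylow 2-subgroup in a simple
group with abelian Sylow subgroups.
-/

set_option autoImplicit false
set_option linter.unusedSectionVars false
set_option linter.style.haveILetI false

namespace Cfsg.Agent.OddComplement26

open Subgroup

universe u

/-- Arithmetic used in the final count. -/
theorem count_bound {d I n m j : ℕ} (hI : 1 ≤ I) (hId : I + 1 ∣ d) (hd : 2 ≤ d)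
    (h : n * I = (d - 1) * m) (hn : n = 1 + j * d) (hj : 1 ≤ j) :
    1 < m ∧ d - 1 < 2 * m + 1 := by
  obtain ⟨e, he⟩ := hId
  rcases Nat.lt_or_ge e 2 with he2 | he2
  · have he1 : e = 1 := by
      interval_cases e
      · omega
      · rfl
    subst he1
    have hdI : d - 1 = I := by omega
    rw [hdI, mul_comm n] at h
    have hmn : n = m := Nat.eq_of_mul_eq_mul_left hI h
    have : d ≤ j * d := Nat.le_mul_of_pos_left d hj
    omega
  · have h2 : 2 * (I + 1) ≤ d := by
      rw [he, mul_comm 2]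
      exact Nat.mul_le_mul_left _ he2
    have hm : d * m = m + I + d * (j * I) := by
      obtain ⟨d', rfl⟩ : ∃ d', d = d' + 1 := ⟨d - 1, by omega⟩
      simp only [Nat.add_sub_cancel] at h
      subst hn
      nlinarith
    have hdvd : d ∣ m + I := (Nat.dvd_add_left (Dvd.intro (j * I) rfl)).1 (hm ▸ Dvd.intro m rfl)
    have := Nat.le_of_dvd (by omega) hdvd
    omega

theorem eq_one_of_pow_two_pow {G : Type*} [Group G] {x : G} (hx : Odd (orderOf x)) {k : ℕ}
    (h : x ^ 2 ^ k = 1) : x = 1 := by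
  rw [← orderOf_eq_one_iff]
  exact Nat.eq_one_of_dvd_coprimes ((Nat.coprime_two_right.2 hx).pow_right k) dvd_rfl
    (orderOf_dvd_of_pow_eq_one h)

theorem card_mul_relIndex' {G : Type*} [Group G] {A B : Subgroup G} (h : A ≤ B) :
    Nat.card A * A.relIndex B = Nat.card B := by
  rw [relIndex, ← Nat.card_congr (subgroupOfEquivOfLe h).toEquiv, card_mul_index]

namespace Ctx

variable {T : Type u} [Group T] [Finite T] (c : Ctx T)

theorem sq_inv {z : T} (hz : z * z = 1) : z⁻¹ = z := IsolatedInv.inv_eq_self_of_sq hz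

theorem card_zpowers_coprime {u : T} (hu : u * u = 1) {X : Subgroup T} (hX : Odd (Nat.card X)) :
    (Nat.card (zpowers u)).Coprime (Nat.card X) := by
  rw [Nat.card_zpowers]
  exact Nat.Coprime.coprime_dvd_left (orderOf_dvd_of_pow_eq_one (by rw [pow_two, hu]))
    (Nat.coprime_two_left.2 hX)

include c in
theorem odd_orderOf_mem_H {x : T} (hx : x ∈ c.H) : Odd (orderOf x) :=
  Odd.of_dvd_nat c.hH (Subgroup.orderOf_dvd_natCard c.H hx)

/-- A nontrivial abelian normal `q`-subgroup of `H`. -/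
structure Kern where
  q : ℕ
  hq : q.Prime
  hq2 : q ≠ 2
  M : Subgroup T
  hne : M ≠ ⊥
  hle : M ≤ c.H
  hnorm : c.H ≤ normalizer (M : Set T)
  hp : IsPGroup q M

variable [IsSimpleGroup T]

theorem exists_kern : Nonempty c.Kern := by
  have hHne : c.H ≠ ⊥ := by
    intro h
    refine c.S_ne_top ((card_eq_iff_eq_top _).1 ?_)
    rw [← c.hcard, h, card_bot, one_mul]
  have : Nontrivial c.H := (nontrivial_iff_ne_bot _).2 hHne
  have hsol : Group.IsSolvable (⊤ : Subgroup c.H) := by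
    have := c.hHsol
    infer_instance
  obtain ⟨V, r, hr, hV1, -, hVn, hVp, -, -⟩ :=
    FitLength57.exists_minimal_normal_pGroup hsol top_ne_bot
  have hr2 : r ≠ 2 := by
    rintro rfl
    have := Fact.mk hr
    obtain ⟨k, hk⟩ := IsPGroup.iff_card.1 hVp
    have hodd : Odd (Nat.card V) := Odd.of_dvd_nat c.hH (card_subgroup_dvd_card V)
    cases k with
    | zero => exact hV1 (card_eq_one.1 (by rw [hk, pow_zero]))
    | succ k =>
      rw [hk, Nat.odd_pow_iff (by omega)] at hodd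
      exact absurd hodd (by decide)
  refine ⟨⟨r, hr, hr2, V.map c.H.subtype, ?_, map_subtype_le _, ?_, hVp.map _⟩⟩
  · rwa [ne_eq, map_eq_bot_iff_of_injective _ c.H.subtype_injective]
  · rw [← normal_subgroupOf_iff_le_normalizer (map_subtype_le _),
      show (V.map c.H.subtype).subgroupOf c.H = V from
        comap_map_eq_self_of_injective c.H.subtype_injective _]
    exact hVn

variable {c} (K : c.Kern)

theorem Kern.odd_orderOf {Q : Subgroup T} (hQ : IsPGroup K.q Q) {x : T} (hx : x ∈ Q) :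
    Odd (orderOf x) := by
  have := Fact.mk K.hq
  obtain ⟨k, hk⟩ := hQ ⟨x, hx⟩
  exact Odd.of_dvd_nat ((K.hq.odd_of_ne_two K.hq2).pow (n := k))
    (orderOf_dvd_of_pow_eq_one (congrArg Subtype.val hk))

/-- No nontrivial `q`-element is inverted by an involution. -/
theorem Kern.not_inverted {x u : T} {k : ℕ} (hxq : x ^ K.q ^ k = 1) (hx1 : x ≠ 1)
    (hu2 : u * u = 1) (hu1 : u ≠ 1) (hinv : u * x * u⁻¹ = x⁻¹) : False := by
  have := Fact.mk K.hq
  have hzq := isPGroup_zpowers hxq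
  have hodd := c.odd_centralizer (K.odd_orderOf hzq (mem_zpowers x)) hx1 hu2 hu1 hinv
  set C := centralizer ({x} : Set T) with hC
  have hnC : zpowers u ≤ normalizer (C : Set T) := by
    rw [zpowers_le]
    refine mem_normalizer_iff.2 fun a => ?_
    simp only [hC, mem_centralizer_singleton_iff]
    constructor
    · intro h
      have h2 : Commute (u * a * u⁻¹) x⁻¹ :=
        hinv ▸ (Commute.map (show Commute a x from h) (MulAut.conj u).toMonoidHom)
      exact (Commute.inv_right_iff.1 h2).eq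
    · intro h
      have h2 : Commute (u * (u * a * u⁻¹) * u⁻¹) x⁻¹ :=
        hinv ▸ (Commute.map (show Commute _ x from h) (MulAut.conj u).toMonoidHom)
      rw [show u * (u * a * u⁻¹) * u⁻¹ = (u * u) * a * (u * u)⁻¹ by group, hu2, one_mul, inv_one,
        mul_one] at h2
      exact (Commute.inv_right_iff.1 h2).eq
  obtain ⟨P, hP⟩ := CoprimeAction.exists_invariant_sylow hnC (card_zpowers_coprime hu2 hodd)
    (Or.inl (CoprimeAction.isSolvable_zpowers u)) K.q
  set Q := (P : Subgroup C).map C.subtype with hQ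
  obtain ⟨Q', hQ'⟩ := (P.2.map C.subtype).exists_le_sylow
  have hxC : x ∈ C := mem_centralizer_singleton_iff.2 rfl
  have hxP : (⟨x, hxC⟩ : C) ∈ (P : Subgroup C) := by
    have hn : (zpowers (⟨x, hxC⟩ : C)).Normal := by
      refine ⟨fun y hy g => ?_⟩
      have hcomm : Commute g (⟨x, hxC⟩ : C) :=
        Subtype.ext (mem_centralizer_singleton_iff.1 g.2)
      obtain ⟨i, rfl⟩ := mem_zpowers_iff.1 hy
      rw [(hcomm.zpow_right i).eq, mul_inv_cancel_right]
      exact hy
    have hp : IsPGroup K.q (zpowers (⟨x, hxC⟩ : C)) := isPGroup_zpowers (k := k) (Subtype.ext hxq)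
    exact hp.le_sylow_of_normal P (mem_zpowers _)
  have hxQ' : x ∈ (Q' : Subgroup T) := hQ' (mem_map_of_mem C.subtype hxP)
  have hQ'C : (Q' : Subgroup T) ≤ C := fun a ha => mem_centralizer_singleton_iff.2 (by
    have := c.hab K.q Q'
    exact congrArg Subtype.val (mul_comm' (⟨a, ha⟩ : (Q' : Subgroup T)) ⟨x, hxQ'⟩))
  have hQQ' : Q = Q' := by
    have h1 : (Q' : Subgroup T).subgroupOf C = P := P.3
      (Q'.2.comap_of_injective C.subtype C.subtype_injective)
      (fun a ha => hQ' (mem_map_of_mem C.subtype ha))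
    rw [hQ, ← h1, map_subgroupOf_eq_of_le hQ'C]
  have hqd : ¬ K.q ∣ Nat.card (T ⧸ c.H) := by
    obtain ⟨l, hl⟩ := c.card_S
    change ¬ K.q ∣ c.H.index
    rw [c.index_H, hl]
    intro h
    exact K.hq2 ((Nat.prime_dvd_prime_iff_eq K.hq Nat.prime_two).1 (K.hq.dvd_of_dvd_pow h))
  obtain ⟨γ, hγ⟩ := Q'.2.nonempty_fixed_point_of_prime_not_dvd_card (T ⧸ c.H) hqd
  obtain ⟨g, rfl⟩ := QuotientGroup.mk_surjective γ
  have hfix : ∀ a ∈ (Q' : Subgroup T), g⁻¹ * a * g ∈ c.H := by
    intro a ha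
    have h := hγ ⟨a, ha⟩
    change ((a * g : T) : T ⧸ c.H) = (g : T ⧸ c.H) at h
    have := inv_mem (QuotientGroup.eq.1 h)
    rwa [mul_inv_rev, inv_inv, ← mul_assoc] at this
  have hMQ : ∀ a ∈ K.M, g * a * g⁻¹ ∈ (Q' : Subgroup T) := by
    intro a ha
    set Q'' : Sylow K.q T := g⁻¹ • Q' with hQ''
    have hQH : (Q'' : Subgroup T) ≤ c.H := by
      intro b hb
      rw [hQ'', Sylow.coe_subgroup_smul, Subgroup.mem_pointwise_smul_iff_inv_smul_mem] at hb
      simp [MulAut.smul_def] at hb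
      have := hfix _ hb
      simpa [mul_assoc] using this
    have hle : K.M ≤ (Q'' : Subgroup T) := by
      have h := Q''.3 (IsPGroup.to_sup_of_normal_right' Q''.2 K.hp (hQH.trans K.hnorm)) le_sup_left
      exact le_sup_right.trans (le_of_eq h)
    have := hle ha
    rw [hQ'', Sylow.coe_subgroup_smul, Subgroup.mem_pointwise_smul_iff_inv_smul_mem] at this
    simpa [MulAut.smul_def, mul_assoc] using this
  refine K.hne (c.eq_bot_of_fix K.hle K.hnorm (t := g⁻¹ * u⁻¹ * g) (fun ht => hu1 ?_)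
    fun a ha => ?_)
  · exact c.eq_one_of_conj_mem_H (g := g) (x := u) (by rwa [sq_inv hu2] at ht) hu2
  · have h1 : u * (g * a * g⁻¹) * u⁻¹ ∈ Q :=
      (mem_normalizer_iff.1 (hP (mem_zpowers u)) _).1 (hQQ' ▸ hMQ a ha)
    have h2 := hfix _ (hQQ' ▸ h1)
    rwa [show g⁻¹ * (u * (g * a * g⁻¹) * u⁻¹) * g = (g⁻¹ * u⁻¹ * g)⁻¹ * a * (g⁻¹ * u⁻¹ * g) by
      group] at h2

/-- An involution centralises the `q`-subgroups it normalises. -/
theorem Kern.commute_of_normalizes {Q : Subgroup T} (hQ : IsPGroup K.q Q) {u : T} (hu2 : u * u = 1)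
    (hu1 : u ≠ 1) (hn : u ∈ normalizer (Q : Set T)) {x : T} (hx : x ∈ Q) : Commute u x := by
  have hw : x⁻¹ * (u * x * u⁻¹) ∈ Q := mul_mem (inv_mem hx) ((mem_normalizer_iff.1 hn x).1 hx)
  by_contra hne
  obtain ⟨k, hk⟩ := hQ ⟨_, hw⟩
  refine K.not_inverted (congrArg Subtype.val hk) (fun e => hne ?_) hu2 hu1 ?_
  · exact mul_inv_eq_iff_eq_mul.1 (inv_mul_eq_one.1 e).symm
  · simp only [mul_inv_rev, inv_inv, mul_assoc, sq_inv hu2, hu2, mul_one]

/-- A `q`-element of a subgroup of odd order normalised by an involution commutes with a conjugate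
of that involution. -/
theorem Kern.exists_conj_commute {X : Subgroup T} (hX : Odd (Nat.card X)) {u : T} (hu2 : u * u = 1)
    (hu1 : u ≠ 1) (hn : u ∈ normalizer (X : Set T)) {y : T} (hy : y ∈ X) {k : ℕ}
    (hyq : y ^ K.q ^ k = 1) : ∃ e ∈ X, Commute u (e * y * e⁻¹) := by
  have := Fact.mk K.hq
  obtain ⟨P, hP⟩ := CoprimeAction.exists_invariant_sylow (zpowers_le.2 hn)
    (card_zpowers_coprime hu2 hX) (Or.inl (CoprimeAction.isSolvable_zpowers u)) K.q
  have hp : IsPGroup K.q (zpowers (⟨y, hy⟩ : X)) := isPGroup_zpowers (k := k) (Subtype.ext hyq)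
  obtain ⟨R, hR⟩ := hp.exists_le_sylow
  obtain ⟨e, he⟩ := MulAction.exists_smul_eq X R P
  have hmem : e * ⟨y, hy⟩ * e⁻¹ ∈ (P : Subgroup X) := he ▸
    Subgroup.smul_mem_pointwise_smul _ (MulAut.conj e) _ (hR (mem_zpowers _))
  exact ⟨e, e.2, K.commute_of_normalizes (P.2.map X.subtype) hu2 hu1 (hP (mem_zpowers u))
    (mem_map_of_mem X.subtype hmem)⟩

variable {z : T}

theorem notMem_H (hz1 : z ≠ 1) (hz2 : z * z = 1) : z ∉ c.H := fun h =>
  hz1 (c.eq_one_of_sq_of_mem_H h hz2)

theorem conj_mem_Dstab (hz2 : z * z = 1) {x : T} (hx : x ∈ c.Dstab z) :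
    z * x * z⁻¹ ∈ c.Dstab z := by
  rw [c.mem_Dstab] at hx ⊢
  refine ⟨?_, by rw [show z⁻¹ * (z * x * z⁻¹) * z = x by group]; exact hx.1⟩
  have h := hx.2
  rwa [sq_inv hz2] at h ⊢

theorem mem_normalizer_Dstab (hz2 : z * z = 1) : z ∈ normalizer (c.Dstab z : Set T) := by
  refine mem_normalizer_iff.2 fun x => ⟨conj_mem_Dstab hz2, fun h => ?_⟩
  have h1 := conj_mem_Dstab hz2 h
  rwa [show z * (z * x * z⁻¹) * z⁻¹ = (z * z) * x * (z * z)⁻¹ by group, hz2, one_mul, inv_one,
    mul_one] at h1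

/-- No nontrivial element of the normal `q`-subgroup fixes the point of an involution. -/
theorem Kern.inf_Dstab (hz : z ∈ c.S) (hz2 : z * z = 1) (hz1 : z ≠ 1) :
    K.M ⊓ c.Dstab z = ⊥ := by
  by_contra hne
  obtain ⟨y₀, hy₀, hy₀1⟩ := (Subgroup.bot_or_exists_ne_one _).resolve_left hne
  rw [mem_inf] at hy₀
  have hDodd : Odd (Nat.card (c.Dstab z)) := c.odd_of_le inf_le_left
  obtain ⟨k, hk⟩ := K.hp ⟨y₀, hy₀.1⟩
  obtain ⟨e, he, hcomm⟩ := K.exists_conj_commute hDodd hz2 hz1 (mem_normalizer_Dstab hz2) hy₀.2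
    (congrArg Subtype.val hk)
  set y := e * y₀ * e⁻¹ with hy
  have hyM : y ∈ K.M := (mem_normalizer_iff.1 (K.hnorm (c.mem_Dstab.1 he).1) y₀).1 hy₀.1
  have hy1 : y ≠ 1 := fun h => hy₀1 (by
    have := congrArg (fun w => e⁻¹ * w * e) h
    simpa [hy, mul_assoc] using this)
  have hyN : y ∈ normalizer (c.S : Set T) :=
    c.centralizer_le_normalizer hz hz1 (mem_centralizer_singleton_iff.2 hcomm.symm.eq)
  set X := centralizer ({y} : Set T) with hXdef
  have hfacX : ∀ x ∈ X, c.sig x ∈ X := by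
    intro x hx
    have hxy : x * y = y * x := mem_centralizer_singleton_iff.1 hx
    have hs : y * c.sig x * y⁻¹ ∈ c.S := (mem_normalizer_iff.1 hyN _).1 (c.sig_mem x)
    have h1 : c.sig x = y * c.sig x * y⁻¹ := by
      refine c.sig_eq hs ?_
      have h2 := mul_mem (mul_mem (K.hle hyM) (c.sig_spec x)) (inv_mem (K.hle hyM))
      rwa [show y * ((c.sig x)⁻¹ * x) * y⁻¹ = (y * c.sig x * y⁻¹)⁻¹ * (y * x * y⁻¹) by group,
        ← hxy, mul_inv_cancel_right] at h2
    exact mem_centralizer_singleton_iff.2 (eq_mul_inv_iff_mul_eq.1 h1)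
  have hfac := c.card_eq_of_factor hfacX
  have := c.hsol X (c.centralizer_ne_top hy1) hfac
  have hzX : z ∈ X := mem_centralizer_singleton_iff.2 hcomm.eq
  have hMX : K.M ≤ X := fun a ha => mem_centralizer_singleton_iff.2 (by
    obtain ⟨Q, hQ⟩ := K.hp.exists_le_sylow
    have := Fact.mk K.hq
    have := c.hab K.q Q
    exact congrArg Subtype.val (mul_comm' (⟨a, hQ ha⟩ : (Q : Subgroup T)) ⟨y, hQ hyM⟩))
  have hnorm : ∀ r, X ≤ normalizer ((Cfsg.pCore r X).map X.subtype : Set T) := by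
    intro r
    rw [← normal_subgroupOf_iff_le_normalizer (map_subtype_le _),
      show ((Cfsg.pCore r X).map X.subtype).subgroupOf X = Cfsg.pCore r X from
        comap_map_eq_self_of_injective X.subtype_injective _]
    infer_instance
  have h2bot : Cfsg.pCore 2 X = ⊥ := by
    by_contra h2
    set E := (Cfsg.pCore 2 X).map X.subtype with hE
    have hEp : IsPGroup 2 E := (ComponentsCores.isPGroup_pCore 2).map _
    obtain ⟨w, hw, hw1⟩ := (Subgroup.bot_or_exists_ne_one E).resolve_left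
      (fun h => h2 ((map_eq_bot_iff_of_injective _ X.subtype_injective).1 h))
    have hES : E ≤ c.S := by
      refine c.le_S_of_le_normalizer hEp fun a ha => ?_
      have hSXp : IsPGroup 2 ↥(E ⊔ (c.S ⊓ X)) := IsPGroup.to_sup_of_normal_left' hEp
        (c.hS2.to_le inf_le_left) (inf_le_right.trans (hnorm 2))
      obtain ⟨Q, hQ⟩ := hSXp.exists_le_sylow
      have := c.hab 2 Q
      have haz : Commute a z := congrArg Subtype.val (mul_comm'
        (⟨a, hQ (mem_sup_left ha)⟩ : (Q : Subgroup T))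
        ⟨z, hQ (mem_sup_right (mem_inf.2 ⟨hz, hzX⟩))⟩)
      exact c.centralizer_le_normalizer hz hz1 (mem_centralizer_singleton_iff.2 haz.eq)
    refine K.hne (c.eq_bot_of_le_normalizer K.hnorm fun a ha => ?_)
    exact c.mem_normalizer_of_conj (hES hw) hw1
      (hES ((mem_normalizer_iff.1 (hnorm 2 (hMX ha)) w).1 hw))
  have hD : ∀ r, r.Prime → r ≠ 2 → ∀ f : X, f ∈ Cfsg.pCore r X → (f : T) ∈ c.Dstab z := by
    intro r hr hr2 f hf
    have := Fact.mk hr
    have hle : (Cfsg.pCore r X).map X.subtype ≤ c.H := by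
      refine c.normal_odd_le hfac (map_subtype_le _) (hnorm r) ?_
      obtain ⟨k, hk⟩ := IsPGroup.iff_card.1
        ((ComponentsCores.isPGroup_pCore (G := X) r).map X.subtype)
      rw [hk]
      exact (hr.odd_of_ne_two hr2).pow
    refine c.mem_Dstab.2 ⟨hle (mem_map_of_mem X.subtype hf), hle ?_⟩
    have h := (mem_normalizer_iff.1 (inv_mem (hnorm r hzX)) _).1 (mem_map_of_mem X.subtype hf)
    simpa using h
  have hFD : ∀ f : X, f ∈ Cfsg.fittingSubgroup X → (f : T) ∈ c.Dstab z := by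
    have : Cfsg.fittingSubgroup X ≤ (c.Dstab z).subgroupOf X := by
      rw [ComponentsFitting.fittingSubgroup_eq_iSup]
      refine iSup_le fun r => ?_
      by_cases h2 : (r : ℕ) = 2
      · rw [h2, h2bot]; exact bot_le
      · exact fun f hf => mem_subgroupOf.2 (hD r (Nat.prime_of_mem_primeFactors r.2) h2 f hf)
    exact fun f hf => mem_subgroupOf.1 (this hf)
  refine K.hne (c.eq_bot_of_fix K.hle K.hnorm (notMem_H hz1 hz2) fun a ha => ?_)
  refine (c.mem_Dstab.1 (hFD ⟨a, hMX ha⟩ ?_)).2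
  refine ComponentsFitting.centralizer_fitting_le_of_solvable ?_
  rw [← zpowers_le, le_centralizer_iff, ComponentsFitting.fittingSubgroup_eq_iSup]
  refine iSup_le fun r f hf => mem_centralizer_iff.2 fun b hb => ?_
  obtain ⟨i, rfl⟩ := mem_zpowers_iff.1 hb
  refine (Commute.zpow_left (Subtype.ext ?_ : Commute (⟨a, hMX ha⟩ : X) f) i).eq
  change a * (f : T) = f * a
  have hr := Nat.prime_of_mem_primeFactors r.2
  by_cases h2 : (r : ℕ) = 2
  · rw [h2, h2bot, mem_bot] at hf
    simp [hf]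
  have hfH : (f : T) ∈ c.H := (c.mem_Dstab.1 (hD r hr h2 f hf)).1
  set R := (Cfsg.pCore (r : ℕ) X).map X.subtype with hR
  have hRH : R ≤ c.H := by
    rintro _ ⟨g, hg, rfl⟩
    exact (c.mem_Dstab.1 (hD r hr h2 g hg)).1
  have hfR : (f : T) ∈ R := mem_map_of_mem X.subtype hf
  have := Fact.mk hr
  have := Fact.mk K.hq
  have hRp : IsPGroup (r : ℕ) R := (ComponentsCores.isPGroup_pCore _).map _
  by_cases hrq : (r : ℕ) = K.q
  · have hRq : IsPGroup K.q R := hrq ▸ hRp
    have hsup : IsPGroup K.q ↥(R ⊔ K.M) :=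
      IsPGroup.to_sup_of_normal_right' hRq K.hp (hRH.trans K.hnorm)
    obtain ⟨Q, hQ⟩ := hsup.exists_le_sylow
    have := c.hab K.q Q
    exact congrArg Subtype.val (mul_comm' (⟨a, hQ (mem_sup_right ha)⟩ : (Q : Subgroup T))
      ⟨_, hQ (mem_sup_left hfR)⟩)
  · have hdisj : Disjoint K.M R := IsPGroup.disjoint_of_ne K.q r (fun e => hrq e.symm) _ _ K.hp hRp
    have h1 : a * f * a⁻¹ * (f : T)⁻¹ ∈ K.M ⊓ R := by
      refine mem_inf.2 ⟨?_, mul_mem ((mem_normalizer_iff.1 (hnorm r (hMX ha)) _).1 hfR)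
        (inv_mem hfR)⟩
      rw [show a * f * a⁻¹ * (f : T)⁻¹ = a * ((f : T) * a⁻¹ * (f : T)⁻¹) by group]
      exact mul_mem ha ((mem_normalizer_iff.1 (K.hnorm hfH) _).1 (inv_mem ha))
    rw [hdisj.eq_bot, mem_bot, mul_inv_eq_one, mul_inv_eq_iff_eq_mul] at h1
    exact h1

/-- The nontrivial elements of the `q`-subgroup fix one point only. -/
theorem Kern.fix_trivial (hz : z ∈ c.S) (hz2 : z * z = 1) (hz1 : z ≠ 1) {y t : T} (hy : y ∈ K.M)
    (ht : t ∉ c.H) (hfix : t⁻¹ * y * t ∈ c.H) : y = 1 := by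
  have ht1 : c.sig t ≠ 1 := fun e => ht (by
    have := c.sig_spec t; rwa [e, inv_one, one_mul] at this)
  obtain ⟨h, hh, he⟩ := c.transitive (c.sig_mem t) ht1 hz hz1
  have h2 : z⁻¹ * (h * t) ∈ c.H := by
    have h3 := c.sig_spec (h * t)
    rwa [← c.sig_mul_sig, he] at h3
  have hmem : h * y * h⁻¹ ∈ K.M ⊓ c.Dstab z := by
    refine mem_inf.2 ⟨(mem_normalizer_iff.1 (K.hnorm hh) y).1 hy,
      c.mem_Dstab.2 ⟨mul_mem (mul_mem hh (K.hle hy)) (inv_mem hh), ?_⟩⟩
    have h3 := mul_mem (mul_mem h2 hfix) (inv_mem h2)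
    rwa [show z⁻¹ * (h * t) * (t⁻¹ * y * t) * (z⁻¹ * (h * t))⁻¹ = z⁻¹ * (h * y * h⁻¹) * z by group]
      at h3
  rw [K.inf_Dstab hz hz2 hz1, mem_bot] at hmem
  simpa [mul_assoc] using congrArg (fun w => h⁻¹ * w * h) hmem

/-- An element of the stabiliser inverted by the involution acts freely on the `q`-subgroup. -/
theorem Kern.commute_trivial (hz : z ∈ c.S) (hz2 : z * z = 1) (hz1 : z ≠ 1) {w y : T}
    (hw : w ∈ c.Dstab z) (hw1 : w ≠ 1) (hinv : z * w * z⁻¹ = w⁻¹) (hy : y ∈ K.M)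
    (hcomm : Commute y w) : y = 1 := by
  have hodd := c.odd_centralizer (c.odd_orderOf_mem_H (c.mem_Dstab.1 hw).1) hw1 hz2 hz1 hinv
  have hn : z ∈ normalizer (centralizer ({w} : Set T) : Set T) := by
    have key : ∀ a, a ∈ centralizer ({w} : Set T) → z * a * z⁻¹ ∈ centralizer ({w} : Set T) := by
      intro a ha
      have h2 : Commute (z * a * z⁻¹) w⁻¹ :=
        hinv ▸ (Commute.map (show Commute a w from mem_centralizer_singleton_iff.1 ha)
          (MulAut.conj z).toMonoidHom)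
      exact mem_centralizer_singleton_iff.2 (Commute.inv_right_iff.1 h2).eq
    refine mem_normalizer_iff.2 fun a => ⟨key a, fun h => ?_⟩
    have h2 := key _ h
    rwa [show z * (z * a * z⁻¹) * z⁻¹ = (z * z) * a * (z * z)⁻¹ by group, hz2, one_mul, inv_one,
      mul_one] at h2
  obtain ⟨k, hk⟩ := K.hp ⟨y, hy⟩
  obtain ⟨e, he, hc⟩ := K.exists_conj_commute hodd hz2 hz1 hn
    (mem_centralizer_singleton_iff.2 hcomm.eq) (congrArg Subtype.val hk)
  set t := e⁻¹ * z * e with ht
  have hty : t * y = y * t := by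
    calc t * y = e⁻¹ * (z * (e * y * e⁻¹)) * e := by rw [ht]; group
      _ = y * t := by rw [hc.eq, ht]; group
  refine K.fix_trivial hz hz2 hz1 hy (t := t) (fun h => hz1 ?_) ?_
  · exact c.eq_one_of_conj_mem_H (g := e) (by rwa [ht] at h) hz2
  · rw [mul_assoc, ← hty, inv_mul_cancel_left]
    exact K.hle hy

/-- The number of points moved by `H`. -/
theorem card_H_eq (hz : z ∈ c.S) (hz2 : z * z = 1) (hz1 : z ≠ 1) :
    Nat.card c.H = (Nat.card c.S - 1) * Nat.card (c.Dstab z) := by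
  rw [c.card_orb z]
  congr 1
  have : c.Orb z = (c.S : Set T) \ {1} := by
    ext t
    constructor
    · rintro ⟨h, hh, rfl⟩
      refine ⟨c.sig_mem _, fun e => hz1 ?_⟩
      rw [← c.sig_of_mem hz, ← c.sig_sig_mul (g := h) (a := z), Set.mem_singleton_iff.1 e, mul_one]
      exact c.sig_of_mem_H (inv_mem hh)
    · rintro ⟨ht, ht1⟩
      exact c.transitive hz hz1 ht ht1
  rw [this, Nat.card_coe_set_eq, Set.ncard_sdiff_singleton_of_mem (one_mem c.S),
    ← Nat.card_coe_set_eq]
  rfl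

/-- The number of Sylow 2-subgroups is congruent to one modulo their order. -/
theorem index_normalizer (c : Ctx T) : ∃ j, 1 ≤ j ∧
    (normalizer (c.S : Set T)).index = 1 + j * Nat.card c.S := by
  set N := normalizer (c.S : Set T) with hN
  let X := {x : T ⧸ N // x ≠ ((1 : T) : T ⧸ N)}
  have hfix : ∀ (s : c.S), (s : T) • ((1 : T) : T ⧸ N) = ((1 : T) : T ⧸ N) := by
    intro s
    change (((s : T) * 1 : T) : T ⧸ N) = _
    rw [mul_one, QuotientGroup.eq, mul_one]
    exact inv_mem (le_normalizer s.2)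
  let _ : MulAction c.S X :=
    { smul := fun s x => ⟨(s : T) • x.1, fun e => x.2 (by
        have := congrArg ((s : T)⁻¹ • ·) e
        simp only [inv_smul_smul] at this
        rw [this]
        exact hfix s⁻¹)⟩
      one_smul := fun x => Subtype.ext (one_smul T x.1)
      mul_smul := fun a b x => Subtype.ext (mul_smul (a : T) (b : T) x.1) }
  have hdvd : Nat.card c.S ∣ Nat.card X := by
    refine card_dvd_of_free fun x s e => ?_
    have e' : (s : T) • x.1 = x.1 := congrArg Subtype.val e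
    obtain ⟨g, hg⟩ := QuotientGroup.mk_surjective x.1
    by_contra hs
    apply x.2
    rw [← hg] at e' ⊢
    have h1 : g⁻¹ * (s : T) * g ∈ N := by
      change (((s : T) * g : T) : T ⧸ N) = _ at e'
      have := inv_mem (QuotientGroup.eq.1 e')
      rwa [mul_inv_rev, inv_inv, ← mul_assoc] at this
    obtain ⟨i, hi, hi1⟩ := c.exists_pow_involution s.2 (fun h => hs (Subtype.ext h))
    have h2 : g⁻¹ * (s : T) ^ i * g ∈ c.S := by
      refine c.mem_S_of_sq ?_ ?_
      · rw [show g⁻¹ * (s : T) ^ i * g * (g⁻¹ * (s : T) ^ i * g)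
          = g⁻¹ * ((s : T) ^ i * (s : T) ^ i) * g by group, hi]
        group
      · have h3 := pow_mem h1 i
        have h4 : (g⁻¹ * (s : T) * g) ^ i = g⁻¹ * (s : T) ^ i * g := by
          simpa using conj_pow (a := g⁻¹) (b := (s : T)) (i := i)
        rwa [h4] at h3
    have h5 : g⁻¹ ∈ N := c.mem_normalizer_of_conj (pow_mem s.2 i) hi1 (by rwa [inv_inv])
    rw [QuotientGroup.eq, mul_one]
    exact h5
  obtain ⟨j, hj⟩ := hdvd
  have hcard : N.index = Nat.card X + 1 := by
    have : Nat.card (T ⧸ N) = Nat.card X + 1 := by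
      classical
      rw [← Nat.card_congr (Equiv.optionSubtypeNe ((1 : T) : T ⧸ N)), Finite.card_option]
    exact this
  refine ⟨j, ?_, by rw [hcard, hj, mul_comm, add_comm]⟩
  rcases Nat.eq_zero_or_pos j with rfl | h
  · rw [hj, mul_zero, zero_add, index_eq_one] at hcard
    exact absurd hcard c.normalizer_ne_top
  · exact h

/-- The setting is contradictory. -/
theorem false_of_ctx (c : Ctx T) : False := by
  classical
  obtain ⟨z, hz, hz2, hz1⟩ := c.exists_involution
  obtain ⟨K⟩ := c.exists_kern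
  have := Fact.mk K.hq
  set N := normalizer (c.S : Set T) with hN
  set Cz := c.H ⊓ centralizer ({z} : Set T) with hCz
  set D := c.Dstab z with hD
  have hCzD : Cz ≤ D := fun h hh => by
    rw [hCz, mem_inf, mem_centralizer_singleton_iff] at hh
    refine c.mem_Dstab.2 ⟨hh.1, ?_⟩
    rw [mul_assoc, hh.2, inv_mul_cancel_left]
    exact hh.1
  have hCzN : Cz ≤ N := inf_le_right.trans (c.centralizer_le_normalizer hz hz1)
  set Ω : Subgroup T :=
    { carrier := {s | s ∈ c.S ∧ s * s = 1}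
      one_mem' := ⟨one_mem _, one_mul 1⟩
      mul_mem' := fun {a b} ha hb => ⟨mul_mem ha.1 hb.1, by
        rw [mul_assoc, ← mul_assoc b, c.comm hb.1 ha.1, mul_assoc, hb.2, mul_one, ha.2]⟩
      inv_mem' := fun {a} ha => ⟨inv_mem ha.1, by rw [← mul_inv_rev, ha.2, inv_one]⟩ } with hΩ
  set I := Nat.card ↥((Ω : Set T) \ {1} : Set T) with hI
  have hIΩ : I + 1 = Nat.card Ω := by
    rw [hI, Nat.card_coe_set_eq, Set.ncard_sdiff_singleton_add_one (one_mem Ω) (Set.toFinite _),
      ← Nat.card_coe_set_eq]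
    rfl
  have hI1 : 1 ≤ I := by
    have : Nonempty ↥((Ω : Set T) \ {1} : Set T) := ⟨⟨z, ⟨hz, hz2⟩, hz1⟩⟩
    exact Nat.card_pos
  have hKI : Nat.card ↥(c.H ⊓ N) = I * Nat.card Cz := by
    refine PrimeOrderGroups.card_eq_mul_of_fibres
      (fun k : ↥(c.H ⊓ N) => (⟨(k : T) * z * (k : T)⁻¹,
        ⟨(mem_normalizer_iff.1 (mem_inf.1 k.2).2 z).1 hz, by
          rw [show (k : T) * z * (k : T)⁻¹ * ((k : T) * z * (k : T)⁻¹)
            = (k : T) * (z * z) * (k : T)⁻¹ by group, hz2]; group⟩,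
        fun e => hz1 (by
          have := congrArg (fun w => (k : T)⁻¹ * w * k) (Set.mem_singleton_iff.1 e)
          simpa [mul_assoc] using this)⟩ : ↥((Ω : Set T) \ {1} : Set T))) _ ?_
    rintro ⟨v, ⟨hv, hv2⟩, hv1⟩
    obtain ⟨k₀, hk₀, hk₀N, hk₀v⟩ := c.exists_conj_eq hz hz2 hz1 hv hv2 hv1
    refine Nat.card_congr
      { toFun := fun k => ⟨k₀⁻¹ * (k.1 : T), mem_inf.2 ⟨mul_mem (inv_mem hk₀) (mem_inf.1 k.1.2).1,
          mem_centralizer_singleton_iff.2 ?_⟩⟩
        invFun := fun x => ⟨⟨k₀ * x, mem_inf.2 ⟨mul_mem hk₀ (mem_inf.1 x.2).1,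
          mul_mem hk₀N (hCzN x.2)⟩⟩, Subtype.ext ?_⟩
        left_inv := fun k => by ext; simp
        right_inv := fun x => by ext; simp }
    · have e : (k.1 : T) * z * (k.1 : T)⁻¹ = v := congrArg Subtype.val k.2
      calc k₀⁻¹ * (k.1 : T) * z = k₀⁻¹ * ((k.1 : T) * z * (k.1 : T)⁻¹) * (k.1 : T) := by group
        _ = z * (k₀⁻¹ * (k.1 : T)) := by
              rw [e, show k₀⁻¹ * v = z * k₀⁻¹ by rw [← hk₀v]; group, mul_assoc]
    · change k₀ * (x : T) * z * (k₀ * (x : T))⁻¹ = v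
      rw [mul_assoc k₀, mem_centralizer_singleton_iff.1 (mem_inf.1 x.2).2, ← hk₀v]
      group
  have hNcard : Nat.card N = Nat.card ↥(c.H ⊓ N) * Nat.card c.S := by
    have h := c.card_eq_of_factor (X := N) fun x _ => le_normalizer (c.sig_mem x)
    rwa [inf_eq_left.2 (le_normalizer : c.S ≤ N)] at h
  have hHn : Nat.card c.H = N.index * Nat.card ↥(c.H ⊓ N) := by
    apply Nat.eq_of_mul_eq_mul_right (Nat.card_pos (α := c.S))
    rw [c.hcard, mul_assoc, ← hNcard, mul_comm, card_mul_index]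
  set m := Cz.relIndex D with hm
  have hDm : Nat.card D = m * Nat.card Cz := by
    rw [hm, mul_comm]
    exact (Cfsg.Agent.OddComplement26.card_mul_relIndex' hCzD).symm
  have heq : N.index * I = (Nat.card c.S - 1) * m := by
    apply Nat.eq_of_mul_eq_mul_right (Nat.card_pos (α := Cz))
    rw [mul_assoc, ← hKI, ← hHn, card_H_eq hz hz2 hz1, ← hD, hDm, mul_assoc]
  obtain ⟨j, hj, hn⟩ := index_normalizer c
  have hd2 : 2 ≤ Nat.card c.S := by
    have h1 := c.card_S_ne_one
    have h0 := Nat.card_pos (α := c.S)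
    omega
  obtain ⟨hm1, hbound⟩ := count_bound hI1 (hIΩ ▸ card_dvd_of_le (fun s hs => hs.1)) hd2 heq hn hj
  -- the `q`-subgroup is small
  have hsmall : Nat.card K.M ≤ Nat.card c.S - 1 := by
    have h : Nat.card K.M ≤ Nat.card ↥((c.S : Set T) \ {1} : Set T) := by
      refine Nat.card_le_card_of_injective
        (fun y => ⟨c.sig ((y : T) * z), c.sig_mem _, fun e => ?_⟩) fun y y' e => ?_
      · have h := c.sig_spec ((y : T) * z)
        rw [Set.mem_singleton_iff.1 e, inv_one, one_mul] at h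
        exact notMem_H hz1 hz2 (by
          have h2 := mul_mem (inv_mem (K.hle y.2)) h
          rwa [inv_mul_cancel_left] at h2)
      · have e' : c.sig ((y : T) * z) = c.sig ((y' : T) * z) := congrArg Subtype.val e
        have h1 : z⁻¹ * ((y' : T)⁻¹ * y) * z ∈ c.H := by
          have h2 := mul_mem (inv_mem (c.sig_spec ((y' : T) * z))) (e' ▸ c.sig_spec ((y : T) * z))
          rwa [show ((c.sig ((y' : T) * z))⁻¹ * ((y' : T) * z))⁻¹
            * ((c.sig ((y' : T) * z))⁻¹ * ((y : T) * z)) = z⁻¹ * ((y' : T)⁻¹ * y) * z by group] at h2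
        have h3 := K.fix_trivial hz hz2 hz1 (mul_mem (inv_mem y'.2) y.2) (notMem_H hz1 hz2) h1
        exact Subtype.ext (inv_mul_eq_one.1 h3).symm
    rwa [Nat.card_coe_set_eq, Set.ncard_sdiff_singleton_of_mem (one_mem c.S),
      ← Nat.card_coe_set_eq] at h
  -- `m` divides `|M| - 1`
  have hDodd : Odd (Nat.card D) := c.odd_of_le inf_le_left
  have hmd : m ∣ Nat.card K.M - 1 := by
    refine (Nat.dvd_iff_prime_pow_dvd_dvd _ _).mpr fun p e hp hpe => ?_
    have := Fact.mk hp
    obtain ⟨P, hP⟩ := CoprimeAction.exists_invariant_sylow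
      (zpowers_le.2 (mem_normalizer_Dstab hz2)) (card_zpowers_coprime hz2 hDodd)
      (Or.inl (CoprimeAction.isSolvable_zpowers z)) p
    set P' := (P : Subgroup D).map D.subtype with hP'
    obtain ⟨Q, hQ⟩ := (P.2.map D.subtype).exists_le_sylow
    have := c.hab p Q
    have hPc : ∀ {a b : T}, a ∈ P' → b ∈ P' → a * b = b * a := fun ha hb =>
      congrArg Subtype.val (mul_comm' (⟨_, hQ ha⟩ : (Q : Subgroup T)) ⟨_, hQ hb⟩)
    have hzP : ∀ a ∈ P', z * a * z⁻¹ ∈ P' := fun a ha =>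
      (mem_normalizer_iff.1 (hP (mem_zpowers z)) a).1 ha
    let f : P' →* T :=
      { toFun := fun a => (a : T)⁻¹ * (z * a * z⁻¹)
        map_one' := by simp
        map_mul' := fun a b => by
          have hb : (b : T)⁻¹ * ((a : T)⁻¹ * (z * a * z⁻¹))
              = (a : T)⁻¹ * (z * a * z⁻¹) * (b : T)⁻¹ :=
            hPc (inv_mem b.2) (mul_mem (inv_mem a.2) (hzP _ a.2))
          calc ((a * b : P') : T)⁻¹ * (z * ((a * b : P') : T) * z⁻¹)
              = (b : T)⁻¹ * ((a : T)⁻¹ * (z * a * z⁻¹)) * (z * b * z⁻¹) := by push_cast; group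
            _ = _ := by rw [hb]; group }
    have hR : ∀ w ∈ f.range, w ∈ D ∧ z * w * z⁻¹ = w⁻¹ := by
      rintro _ ⟨a, rfl⟩
      refine ⟨map_subtype_le _ (mul_mem (inv_mem a.2) (hzP _ a.2)), ?_⟩
      change z * ((a : T)⁻¹ * (z * a * z⁻¹)) * z⁻¹ = ((a : T)⁻¹ * (z * a * z⁻¹))⁻¹
      simp only [mul_inv_rev, inv_inv, mul_assoc, sq_inv hz2, hz2, mul_one]
    have hker : Nat.card f.ker ∣ Nat.card Cz := by
      have hle : f.ker.map P'.subtype ≤ Cz := by
        rintro _ ⟨a, ha, rfl⟩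
        have ha' : (a : T)⁻¹ * (z * a * z⁻¹) = 1 := ha
        refine mem_inf.2 ⟨(c.mem_Dstab.1 (map_subtype_le _ a.2)).1, ?_⟩
        exact mem_centralizer_singleton_iff.2 (mul_inv_eq_iff_eq_mul.1 (inv_mul_eq_one.1 ha').symm).symm
      have := card_dvd_of_le hle
      rwa [card_map_of_injective P'.subtype_injective] at this
    have hfree : Nat.card f.range ∣ Nat.card K.M - 1 := by
      let X := {y : K.M // y ≠ 1}
      let _ : MulAction f.range X :=
        { smul := fun w y => ⟨⟨(w : T) * y.1 * (w : T)⁻¹,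
            (mem_normalizer_iff.1 (K.hnorm (c.mem_Dstab.1 (hR w w.2).1).1) _).1 y.1.2⟩, fun h =>
              y.2 (Subtype.ext (conj_eq_one_iff.1 (congrArg Subtype.val h)))⟩
          one_smul := fun y => by
            apply Subtype.ext; apply Subtype.ext
            change ((1 : f.range) : T) * y.1 * ((1 : f.range) : T)⁻¹ = _
            simp
          mul_smul := fun a b y => by
            apply Subtype.ext; apply Subtype.ext
            change ((a * b : f.range) : T) * y.1 * ((a * b : f.range) : T)⁻¹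
              = (a : T) * ((b : T) * y.1 * (b : T)⁻¹) * (a : T)⁻¹
            push_cast; group }
      have h : Nat.card f.range ∣ Nat.card X := by
        refine card_dvd_of_free fun y w e => ?_
        have e' : (w : T) * y.1 * (w : T)⁻¹ = y.1 :=
          congrArg Subtype.val (congrArg Subtype.val e)
        by_contra hw1
        exact y.2 (Subtype.ext (K.commute_trivial hz hz2 hz1 (hR w w.2).1
          (fun h => hw1 (Subtype.ext h)) (hR w w.2).2 y.1.2
          (mul_inv_eq_iff_eq_mul.1 e').symm))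
      have hX : Nat.card K.M = Nat.card X + 1 := by
        rw [← Nat.card_congr (Equiv.optionSubtypeNe (1 : K.M)), Finite.card_option]
      rwa [hX, Nat.add_sub_cancel]
    refine dvd_trans ?_ hfree
    have hcards : Nat.card f.range * Nat.card f.ker = p ^ (Nat.card D).factorization p := by
      rw [← index_ker, mul_comm, card_mul_index, hP', CoprimeAction.card_map_sylow]
    have hp0 : Nat.card f.range ≠ 0 := Nat.card_pos.ne'
    have hv := congrArg (fun n => n.factorization p) hcards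
    simp only [Nat.factorization_mul hp0 Nat.card_pos.ne', Finsupp.add_apply,
      hp.factorization_pow, Finsupp.single_eq_same] at hv
    have hm0 : m ≠ 0 := by omega
    rw [hDm, Nat.factorization_mul hm0 Nat.card_pos.ne', Finsupp.add_apply] at hv
    have h1 : (Nat.card f.ker).factorization p ≤ (Nat.card Cz).factorization p :=
      (Nat.factorization_le_iff_dvd Nat.card_pos.ne' Nat.card_pos.ne').2 hker p
    have h2 : e ≤ m.factorization p := (hp.pow_dvd_iff_le_factorization hm0).1 hpe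
    exact (hp.pow_dvd_iff_le_factorization hp0).2 (by omega)
  have hModd : Odd (Nat.card K.M) := c.odd_of_le K.hle
  have hMne : Nat.card K.M ≠ 1 := fun h => K.hne (card_eq_one.1 h)
  have hmodd : Odd m := (Nat.odd_mul.1 (hDm ▸ hDodd)).1
  have h2m : 2 * m ∣ Nat.card K.M - 1 := by
    refine Nat.Coprime.mul_dvd_of_dvd_of_dvd (Nat.coprime_two_left.2 hmodd) ?_ hmd
    obtain ⟨a, ha⟩ := hModd
    exact ⟨a, by omega⟩
  have hMpos := Nat.card_pos (α := K.M)
  have := Nat.le_of_dvd (by omega) h2m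
  omega

end Ctx

end Cfsg.Agent.OddComplement26
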