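import Mathlib
import Cfsg.Agent.Lib.CoprimeLift
import Cfsg.Agent.Lib.BaerSuzuki
import Cfsg.Agent.Lib.HallCore

/-! A group with non-normal Sylow 2-subgroup has a nontrivial cyclic subgroup of odd order whose
automizer has even order. -/

set_option autoImplicit false

namespace Cfsg.Agent.OddInverted

variable {G : Type*} [Group G] [Finite G]

theorem exists_even_automizer (P : Sylow 2 G) (hP : ¬ (P : Subgroup G).Normal) :
    ∃ h u : G, h ≠ 1 ∧ Odd (orderOf h) ∧
      u ∈ Subgroup.normalizer ((Subgroup.zpowers h : Subgroup G) : Set G) ∧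
      ∀ k : ℕ, u ^ k * h = h * u ^ k → Even k := by
  haveI : Fact (Nat.Prime 2) := ⟨Nat.prime_two⟩
  set O := Cfsg.pCore 2 G with hO
  haveI : O.Normal := HallCore.pCore_normal 2 G
  have hOp : IsPGroup 2 O := HallCore.isPGroup_pCore 2 G
  have hOP : O ≤ (P : Subgroup G) :=
    by
      obtain ⟨Q, hQ⟩ := hOp.exists_le_sylow
      obtain ⟨g, rfl⟩ := MulAction.exists_smul_eq G Q P
      intro z hz
      rw [Sylow.coe_subgroup_smul, Subgroup.mem_pointwise_smul_iff_inv_smul_mem]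
      apply hQ
      simpa [MulAut.smul_def] using Subgroup.Normal.conj_mem inferInstance z hz g⁻¹
  have hne : ¬ (P : Subgroup G) ≤ O := fun h => hP (le_antisymm h hOP ▸ inferInstance)
  obtain ⟨b, hbP, hbO⟩ : ∃ b ∈ (P : Subgroup G), b ∉ O := by
    by_contra h; push Not at h; exact hne h
  obtain ⟨a, ha⟩ := (IsPGroup.iff_orderOf.mp P.isPGroup') ⟨b, hbP⟩
  rw [Subgroup.orderOf_mk] at ha
  have heven : 2 ∣ Nat.card (G ⧸ O) := by
    have h1 : orderOf (b : G ⧸ O) ∣ 2 ^ a := ha ▸ orderOf_map_dvd (QuotientGroup.mk' O) b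
    obtain ⟨j, -, hj⟩ := (Nat.dvd_prime_pow Nat.prime_two).mp h1
    rcases j with _ | j
    · exact absurd (orderOf_eq_one_iff.mp (by simpa using hj)) (mt (QuotientGroup.eq_one_iff b).mp hbO)
    · exact ((hj ▸ dvd_pow_self 2 j.succ_ne_zero : 2 ∣ orderOf (b : G ⧸ O))).trans (orderOf_dvd_natCard _)
  obtain ⟨t, ht⟩ := exists_prime_orderOf_dvd_card' (G := G ⧸ O) 2 heven
  obtain ⟨c, hc1, hcodd, hct⟩ := BaerSuzuki.exists_inverted_odd t ht (fun N hN hNp htN => by
    haveI := hN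
    haveI : (N.comap (QuotientGroup.mk' O)).Normal := hN.comap _
    have hle : N.comap (QuotientGroup.mk' O) ≤ O :=
      HallCore.le_pCore (hNp.comap_of_ker_isPGroup (QuotientGroup.mk' O) (by
        rw [QuotientGroup.ker_mk']; exact hOp))
    obtain ⟨s, rfl⟩ := QuotientGroup.mk_surjective t
    have hs : s ∈ O := hle htN
    rw [(QuotientGroup.eq_one_iff s).mpr hs, orderOf_one] at ht
    omega)
  obtain ⟨e, he⟩ := IsPGroup.iff_card.mp hOp
  have hcop : (orderOf c).Coprime (Nat.card O) := by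
    rw [he]
    exact Nat.Coprime.pow_right _ (Nat.coprime_two_right.mpr hcodd)
  obtain ⟨h, hh, hord⟩ := CoprimeLift.exists_lift_coprime O c hcop
  have htn : t ∈ Subgroup.normalizer ((Subgroup.zpowers (h : G ⧸ O) : Subgroup (G ⧸ O)) : Set (G ⧸ O)) := by
    rw [hh, Subgroup.mem_normalizer_iff]
    intro z
    have hz : ∀ i : ℤ, t * c ^ i * t⁻¹ = c ^ (-i) := fun i => by
      rw [← conj_zpow, hct, inv_zpow, zpow_neg]
    constructor
    · intro hzz
      obtain ⟨i, rfl⟩ := Subgroup.mem_zpowers_iff.mp hzz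
      exact Subgroup.mem_zpowers_iff.mpr ⟨-i, (hz i).symm⟩
    · intro hzz
      obtain ⟨i, hi⟩ := Subgroup.mem_zpowers_iff.mp hzz
      refine Subgroup.mem_zpowers_iff.mpr ⟨-i, ?_⟩
      have h1 : t * c ^ (-i) * t⁻¹ = t * z * t⁻¹ := by rw [hz, neg_neg, hi]
      exact mul_left_cancel (mul_right_cancel h1)
  obtain ⟨u, hu, hun⟩ := CoprimeLift.exists_lift_normalizer O h (hord ▸ hcop) t htn
  refine ⟨h, u, ?_, hord ▸ hcodd, hun, fun k hk => ?_⟩
  · rintro rfl
    exact hc1 (hh ▸ QuotientGroup.mk_one O)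
  · by_contra hodd
    rw [Nat.not_even_iff_odd] at hodd
    obtain ⟨j, rfl⟩ := hodd
    have h1 := congrArg (fun z : G => (z : G ⧸ O)) hk
    simp only [QuotientGroup.mk_mul, QuotientGroup.mk_pow, hu, hh] at h1
    have h2 : t ^ (2 * j + 1) = t := by
      rw [pow_succ, pow_mul, ← ht, pow_orderOf_eq_one, one_pow, one_mul]
    rw [h2] at h1
    rw [h1, mul_inv_cancel_right] at hct
    have h3 : c ^ 2 = 1 := by rw [sq]; nth_rewrite 2 [hct]; exact mul_inv_cancel c
    have h4 := orderOf_dvd_of_pow_eq_one h3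
    have h5 : orderOf c = 1 := Nat.eq_one_of_dvd_coprimes (Nat.coprime_two_right.mpr hcodd).symm h4 dvd_rfl
    exact hc1 (orderOf_eq_one_iff.mp h5)

end Cfsg.Agent.OddInverted
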