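import Cfsg.Agent.Lib.OddPairs70Defs

/-!
# Two maximal `D`-subgroups attached to central elements share at most one member
-/

set_option autoImplicit false
set_option linter.unusedSectionVars false
set_option linter.style.haveILetI false

namespace Cfsg.Agent.OddPairs70

open Subgroup
open scoped commutatorElement

variable {G : Type*} [Group G] {D : Set (Subgroup G)} {p q : ℕ}

/-- The situation of a counterexample all whose proper subgroups behave. -/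
structure Min (p q : ℕ) (D : Set (Subgroup G)) : Prop where
  pairs : Pairs p q D
  good : Good q D
  prop : ∀ H : Subgroup G, H ≠ ⊤ → ∀ A ∈ D, A ≤ H → ∃ Q, IsDQ q D (mems D H) Q
  oq : ∀ W : Subgroup G, W.Normal → IsPGroup q W → W = ⊥
  cen : Subgroup.center G = ⊥
  gen : mems D ⊤ = ⊤
  notDQ : ∀ Q, ¬ IsDQ q D ⊤ Q

/-- The `D`-part of the centraliser of `x`. -/
def hx (D : Set (Subgroup G)) (x : G) : Subgroup G := mems D (centralizer ({x} : Set G))

theorem mem_of_le_inf_sup {Q Y R : Subgroup G} (hRQ : R ≤ Q) (hYR : Y ≤ normalizer (R : Set G))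
    (hQY : ∀ v ∈ Y, v ∈ Q → v ∈ R) {u : G} (hu : u ∈ Q) (huP : u ∈ R ⊔ Y) : u ∈ R := by
  have h : u ∈ ((R ⊔ Y : Subgroup G) : Set G) := huP
  rw [Subgroup.coe_mul_of_right_le_normalizer_left R Y hYR] at h
  obtain ⟨r, hr, v, hv, rfl⟩ := h
  refine mul_mem hr (hQY v hv ?_)
  have := mul_mem (inv_mem (hRQ hr)) hu
  rwa [inv_mul_cancel_left] at this

theorem exists_out [Finite G] [Fact q.Prime] {Q Y R : Subgroup G} (hQ : IsPGroup q Q)
    (hY : IsPGroup q Y) (hYQ : Y ≤ normalizer (Q : Set G)) (hRQ : R ≤ Q)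
    (hYR : Y ≤ normalizer (R : Set G)) (hQY : ∀ v ∈ Y, v ∈ Q → v ∈ R) (hne : ¬ Q ≤ R) :
    ∃ y ∈ Q, y ∉ R ∧ y ∈ normalizer ((R ⊔ Y : Subgroup G) : Set G) := by
  have hP : IsPGroup q (Q ⊔ Y : Subgroup G) := hQ.to_sup_of_normal_left' hY hYQ
  have hP1 : R ⊔ Y ≤ Q ⊔ Y := sup_le_sup_right hRQ _
  have hlt : R ⊔ Y ≠ Q ⊔ Y := fun e => hne fun u hu =>
    mem_of_le_inf_sup hRQ hYR hQY hu (e.ge (Subgroup.mem_sup_left hu))
  obtain ⟨g, hg, hg1, hgN⟩ := exists_grow hP hP1 hlt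
  have h : g ∈ ((Q ⊔ Y : Subgroup G) : Set G) := hg
  rw [Subgroup.coe_mul_of_right_le_normalizer_left Q Y hYQ] at h
  obtain ⟨y, hy, v, hv, rfl⟩ := h
  have hv1 : v ∈ R ⊔ Y := Subgroup.mem_sup_right hv
  have hvn : v ∈ normalizer ((R ⊔ Y : Subgroup G) : Set G) := Subgroup.le_normalizer hv1
  refine ⟨y, hy, fun e => hg1 (mul_mem (Subgroup.mem_sup_left e) hv1), ?_⟩
  simpa using mul_mem hgN (inv_mem hvn)

theorem cent_singleton_le_normalizer [Finite G] {g x : G} (h : Commute g x) :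
    g ∈ normalizer (centralizer ({x} : Set G) : Set G) :=
  Subgroup.le_normalizer (mem_centralizer_singleton_iff.2 h.eq)

theorem commutator_mul_right (r ρ y : G) : ⁅r, ρ * y⁆ = ⁅r, ρ⁆ * (ρ * ⁅r, y⁆ * ρ⁻¹) := by
  simp only [commutatorElement_def]
  group

theorem conj_commutator (v r y : G) : v * ⁅r, y⁆ * v⁻¹ = ⁅v * r * v⁻¹, v * y * v⁻¹⁆ := by
  simp only [commutatorElement_def]
  group

theorem eq_conj_of_commute {a b : G} (h : a * b = b * a) : b * a * b⁻¹ = a := by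
  rw [← h, mul_inv_cancel_right]

variable [Finite G]

/-- An element of `Q` outside `QI Φ`, fixed by `Y` modulo it, with controlled commutators. -/
theorem exists_side (hP : Pairs p q D) (hG : Good q D) {S Q A QI Y : Subgroup G}
    (h : IsDQ q D S Q) (hA : A ∈ D) (hAS : A ≤ S)
    (hc : ⁅Q, Q⁆ ≤ Q ⊓ centralizer (A : Set G)) (hQI : QI ≤ Q)
    (hab : ∀ r ∈ QI, ∀ r' ∈ QI, r * r' = r' * r) (hAQI : A ≤ normalizer (QI : Set G))
    (hYq : IsPGroup q Y) (hYS : Y ≤ normalizer (S : Set G))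
    (hYA : Y ≤ centralizer (A : Set G)) (hYI : Y ≤ centralizer (QI : Set G))
    (hne : ¬ Q ≤ QI ⊔ (Q ⊓ centralizer (A : Set G))) :
    ∃ y ∈ Q, y ∉ QI ⊔ (Q ⊓ centralizer (A : Set G)) ∧
      (∀ r ∈ QI, ⁅r, y⁆ ∈ Q ⊓ centralizer (A : Set G) ⊓ centralizer (Y : Set G)) ∧
      ∀ v ∈ Y, ⁅v, y⁆ ∈ QI ⊔ (Q ⊓ centralizer (A : Set G) ⊓ centralizer (Y : Set G)) := by
  haveI := Fact.mk hP.hq
  set Φ := Q ⊓ centralizer (A : Set G) with hΦ
  set R := QI ⊔ Φ with hR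
  have hΦS : Φ ≤ centralizer (S : Set G) := h.phi_le_cent hP hG hA hAS
  have hΦcomm : ∀ φ ∈ Φ, ∀ s ∈ S, s * φ = φ * s := fun φ hφ s hs => mem_cent.1 (hΦS hφ) s hs
  have hΦn : Φ ≤ normalizer (QI : Set G) := fun φ hφ => cent_le_normalizer QI
    (mem_cent.2 fun r hr => hΦcomm φ hφ r (h.le (hQI hr)))
  have hRQ : R ≤ Q := sup_le hQI inf_le_left
  have hdec : ∀ ρ ∈ R, ∃ r ∈ QI, ∃ φ ∈ Φ, ρ = r * φ := fun ρ hρ => by
    have h1 : ρ ∈ ((QI ⊔ Φ : Subgroup G) : Set G) := hρ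
    rw [Subgroup.coe_mul_of_right_le_normalizer_left QI Φ hΦn] at h1
    obtain ⟨r, hr, φ, hφ, rfl⟩ := h1
    exact ⟨r, hr, φ, hφ, rfl⟩
  have hYQ : Y ≤ normalizer (Q : Set G) := hYS.trans (h.normalizer_le hP hA hAS)
  have hYR : Y ≤ normalizer (R : Set G) := by
    intro v hv
    refine mem_normalizer_of_cj_le ?_
    rw [hR, cj, Subgroup.map_sup]
    refine sup_le_sup (cj_eq_iff.2 (cent_le_normalizer QI (hYI hv))).le (le_inf ?_ ?_)
    · exact (Subgroup.map_mono inf_le_left).trans (cj_eq_iff.2 (hYQ hv)).le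
    · intro w hw
      refine mem_cent.2 fun b hb => ?_
      have hb' : b ∈ cj v A := (cj_eq_iff.2 (cent_le_normalizer A (hYA hv))).ge hb
      have hw' := mem_cj.1 (Subgroup.map_mono inf_le_right hw : w ∈ cj v (centralizer (A : Set G)))
      have h1 := mem_cent.1 (mem_cent_cj (g := v) hw') b hb'
      rwa [show v * (v⁻¹ * w * v) * v⁻¹ = w by group] at h1
  have hQY : ∀ v ∈ Y, v ∈ Q → v ∈ R := fun v hv hvQ => Subgroup.mem_sup_right ⟨hvQ, hYA hv⟩
  obtain ⟨y0, hy0, hy0R, hy0N⟩ := exists_out h.qgroup hYq hYQ hRQ hYR hQY hne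
  -- commutators of `Y` with `y0` lie in `R`
  have hy0c : ∀ v ∈ Y, ⁅v, y0⁆ ∈ R := by
    intro v hv
    refine mem_of_le_inf_sup hRQ hYR hQY ?_ ?_
    · rw [commutatorElement_def]
      exact mul_mem ((Subgroup.mem_normalizer_iff.1 (hYQ hv) y0).1 hy0) (inv_mem hy0)
    · rw [commutatorElement_def, mul_assoc v, mul_assoc v (y0 * v⁻¹)]
      have hv1 : v ∈ R ⊔ Y := Subgroup.mem_sup_right hv
      exact mul_mem hv1 ((Subgroup.mem_normalizer_iff.1 hy0N v⁻¹).1 (inv_mem hv1))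
  -- commutators with `QI` are then fixed by `Y`
  have hβ : ∀ y ∈ Q, (∀ v ∈ Y, ⁅v, y⁆ ∈ R) → ∀ r ∈ QI, ⁅r, y⁆ ∈ Φ ⊓ centralizer (Y : Set G) := by
    intro y hy hyR r hr
    have hmem : ⁅r, y⁆ ∈ Φ := hc (Subgroup.commutator_mem_commutator (hQI hr) hy)
    refine ⟨hmem, mem_cent.2 fun v hv => ?_⟩
    obtain ⟨r', hr', φ, hφ, he⟩ := hdec _ (hyR v hv)
    have h1 : v * y * v⁻¹ = (r' * φ) * y := by
      rw [← he, commutatorElement_def, inv_mul_cancel_right]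
    have h2 : v * ⁅r, y⁆ * v⁻¹ = ⁅r, y⁆ := by
      have hr1 : v * r * v⁻¹ = r := by
        rw [← mem_cent.1 (hYI hv) r hr, mul_inv_cancel_right]
      rw [conj_commutator, hr1, h1, commutator_mul_right]
      have h3 : ⁅r, r' * φ⁆ = 1 := by
        rw [commutatorElement_eq_one_iff_mul_comm, ← mul_assoc, hab r hr r' hr', mul_assoc,
          hΦcomm φ hφ r (h.le (hQI hr)), mul_assoc]
      have h4 : (r' * φ) * ⁅r, y⁆ = ⁅r, y⁆ * (r' * φ) :=
        hΦcomm _ hmem _ (mul_mem (h.le (hQI hr')) (h.le hφ.1))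
      rw [h3, one_mul, h4, mul_inv_cancel_right]
    calc v * ⁅r, y⁆ = (v * ⁅r, y⁆ * v⁻¹) * v := by group
      _ = ⁅r, y⁆ * v := by rw [h2]
  -- the element
  obtain ⟨a, ha, ha1, haA, -⟩ := exists_gen hP hA
  set y := ⁅a, y0⁆ with hy
  have hyQ : y ∈ Q := by
    rw [hy, commutatorElement_def]
    exact mul_mem ((Subgroup.mem_normalizer_iff.1 ((hAS.trans h.norm) ha) y0).1 hy0) (inv_mem hy0)
  have hAR : A ≤ normalizer (R : Set G) := by
    intro b hb
    refine mem_normalizer_of_cj_le ?_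
    rw [hR, cj, Subgroup.map_sup]
    refine sup_le_sup (cj_eq_iff.2 (hAQI hb)).le ?_
    intro w hw
    obtain ⟨φ, hφ, rfl⟩ := Subgroup.mem_map.1 hw
    have : (MulAut.conj b).toMonoidHom φ = φ := eq_conj_of_commute (hΦcomm φ hφ b (hAS hb)).symm
    rw [this]; exact hφ
  have hyR : y ∉ R := fun hyR => by
    have h1 : cj y0 A ≤ R ⊔ A := by
      rw [← haA, cj, MonoidHom.map_zpowers, zpowers_le]
      change y0 * a * y0⁻¹ ∈ R ⊔ zpowers a
      rw [show y0 * a * y0⁻¹ = y⁻¹ * a by rw [hy, commutatorElement_def]; group]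
      exact mul_mem (Subgroup.mem_sup_left (inv_mem hyR)) (Subgroup.mem_sup_right (mem_zpowers a))
    obtain ⟨r, hr, he⟩ := exists_cj_eq hP hA (hP.inv A hA y0) (h.qgroup.to_le hRQ) hAR h1
    have h2 : r⁻¹ * y0 ∈ normalizer (A : Set G) := cj_eq_iff.1 (by
      rw [← cj_cj, he, cj_cj, inv_mul_cancel, cj_one])
    have h3 := mem_cent_of_mem_normalizer hP hA h.qgroup (hAS.trans h.norm)
      (mul_mem (inv_mem (hRQ hr)) hy0) h2
    refine hy0R ?_
    have h1' : r⁻¹ * y0 ∈ Φ := Subgroup.mem_inf.2 ⟨mul_mem (inv_mem (hRQ hr)) hy0, h3⟩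
    have h4 : r * (r⁻¹ * y0) ∈ R := mul_mem hr (Subgroup.mem_sup_right h1')
    rwa [mul_inv_cancel_left] at h4
  -- commutators of `Y` with `y`
  have hkey : ∀ v ∈ Y, ∃ r' ∈ QI, ⁅v, y⁆ = ⁅a, r'⁆ * ⁅r', y⁆ ∧ ⁅a, r'⁆ ∈ QI := by
    intro v hv
    obtain ⟨r', hr', φ, hφ, he⟩ := hdec _ (hy0c v hv)
    have h1 : v * y0 * v⁻¹ = (r' * φ) * y0 := by
      rw [← he, commutatorElement_def, inv_mul_cancel_right]
    have hva : v * a * v⁻¹ = a := by rw [← mem_cent.1 (hYA hv) a ha, mul_inv_cancel_right]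
    have har : ⁅a, r'⁆ ∈ QI := by
      rw [commutatorElement_def]
      exact mul_mem ((Subgroup.mem_normalizer_iff.1 (hAQI ha) r').1 hr') (inv_mem hr')
    refine ⟨r', hr', ?_, har⟩
    have h2 : v * y * v⁻¹ = ⁅a, r' * φ⁆ * ((r' * φ) * y * (r' * φ)⁻¹) := by
      rw [hy, conj_commutator, hva, h1, commutator_mul_right]
    have h3 : ⁅a, r' * φ⁆ = ⁅a, r'⁆ := by
      rw [commutator_mul_right, commutatorElement_eq_one_iff_mul_comm.2 (hΦcomm φ hφ a (hAS ha))]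
      group
    have h4 : (r' * φ) * y * (r' * φ)⁻¹ = r' * y * r'⁻¹ := by
      rw [mul_inv_rev, mul_assoc r' φ y, ← hΦcomm φ hφ y (h.le hyQ)]
      group
    rw [h3, h4] at h2
    calc ⁅v, y⁆ = v * y * v⁻¹ * y⁻¹ := commutatorElement_def v y
      _ = ⁅a, r'⁆ * (r' * y * r'⁻¹) * y⁻¹ := by rw [h2]
      _ = ⁅a, r'⁆ * ⁅r', y⁆ := by rw [commutatorElement_def r' y]; group
  have hyc : ∀ v ∈ Y, ⁅v, y⁆ ∈ R := fun v hv => by
    obtain ⟨r', hr', he, hmem⟩ := hkey v hv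
    rw [he]
    exact mul_mem (Subgroup.mem_sup_left hmem)
      (Subgroup.mem_sup_right (hc (Subgroup.commutator_mem_commutator (hQI hr') hyQ)))
  refine ⟨y, hyQ, hyR, hβ y hyQ hyc, fun v hv => ?_⟩
  obtain ⟨r', hr', he, hmem⟩ := hkey v hv
  rw [he]
  exact mul_mem (Subgroup.mem_sup_left hmem) (Subgroup.mem_sup_right (hβ y hyQ hyc r' hr'))

namespace Min

variable (h : Min p q D)
include h

theorem normalizer_ne_top {W : Subgroup G} (hW : W ≠ ⊥) (hq : IsPGroup q W) :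
    normalizer (W : Set G) ≠ ⊤ := fun e => hW (h.oq W (Subgroup.normalizer_eq_top_iff.1 e) hq)

theorem cent_ne_top {x : G} (hx : x ≠ 1) : centralizer ({x} : Set G) ≠ ⊤ := fun e => hx (by
  rw [← Subgroup.mem_bot, ← h.cen, Subgroup.mem_center_iff]
  intro g
  exact mem_centralizer_singleton_iff.1 (e.ge (Subgroup.mem_top g)))

theorem hx_ne_top {x : G} (hx1 : x ≠ 1) : hx D x ≠ ⊤ := fun e =>
  h.cent_ne_top hx1 (top_le_iff.1 (e.ge.trans (mems_le D _)))

omit [Finite G] in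
theorem mems_ne_top {H : Subgroup G} (hH : H ≠ ⊤) : mems D H ≠ ⊤ := fun e =>
  hH (top_le_iff.1 (e.ge.trans (mems_le D _)))

theorem exists_dq {H A : Subgroup G} (hH : H ≠ ⊤) (hgen : H ≤ mems D H) (hA : A ∈ D) (hAH : A ≤ H) :
    ∃ Q, IsDQ q D H Q := by
  obtain ⟨Q, hQ⟩ := h.prop H hH A hA hAH
  rw [le_antisymm (mems_le D H) hgen] at hQ
  exact ⟨Q, hQ⟩

/-- A `D`-subgroup containing the `q`-element `x` and a member it centralises lies in `hx D x`. -/
theorem le_hx {T R A : Subgroup G} (hT : IsDQ q D T R) (hA : A ∈ D) (hAT : A ≤ T) {x : G}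
    (hxT : x ∈ T) {k : ℕ} (hk : x ^ q ^ k = 1) (hxA : x ∈ centralizer (A : Set G)) :
    T ≤ hx D x :=
  hT.gen.trans (mems_mono (le_cent_singleton.2
    (hT.phi_le_cent h.pairs h.good hA hAT ⟨hT.mem_of_pow h.pairs hA hAT hxT hk, hxA⟩)))

/-- A proper `D`-subgroup normalised by a central element `x` of `hx D x` and sharing two members
with it is contained in it. -/
theorem le_of_shared {x : G} (hx1 : x ≠ 1) {Q : Subgroup G} (hS : IsDQ q D (hx D x) Q)
    (hxQ : x ∈ Q) {A B : Subgroup G} (hA : A ∈ D) (hB : B ∈ D) (hne : A ≠ B)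
    (hAS : A ≤ hx D x) (hBS : B ≤ hx D x) {H : Subgroup G} (hHt : H ≠ ⊤) (hHg : H ≤ mems D H)
    (hxH : x ∈ normalizer (H : Set G)) (hAH : A ≤ H) (hBH : B ≤ H) : H ≤ hx D x := by
  haveI := Fact.mk h.pairs.hq
  by_contra hcon
  have hP := h.pairs
  let Cand : Set (G × Subgroup G) := {z | z.1 ≠ 1 ∧ z.2 ≠ ⊤ ∧ z.2 ≤ mems D z.2 ∧
    z.1 ∈ normalizer (z.2 : Set G) ∧ ¬ z.2 ≤ hx D z.1 ∧
    ∃ R : Subgroup G, IsDQ q D (hx D z.1) R ∧ z.1 ∈ R ∧
      ∃ A ∈ D, ∃ B ∈ D, A ≠ B ∧ A ≤ z.2 ∧ B ≤ z.2 ∧ A ≤ hx D z.1 ∧ B ≤ hx D z.1}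
  have hcand : Cand.Nonempty :=
    ⟨(x, H), hx1, hHt, hHg, hxH, hcon, Q, hS, hxQ, A, hA, B, hB, hne, hAH, hBH, hAS, hBS⟩
  let f : G × Subgroup G → ℕ := fun z =>
    {C : Subgroup G | C ∈ D ∧ C ≤ z.2 ∧ C ≤ hx D z.1}.ncard * (Nat.card G + 1) + Nat.card z.2
  obtain ⟨⟨x₁, H₁⟩, hm, hmax⟩ := Set.exists_max_image Cand f (Set.toFinite _) hcand
  clear hcon hcand hne hAS hBS hAH hBH hHt hHg hxH hS hxQ hx1 hA hB
  obtain ⟨hx1, hHt, hHg, hxH, hcon, Q₁, hS, hxQ, A₁, hA, B₁, hB, hne, hAH, hBH, hAS, hBS⟩ := hm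
  simp only at hx1 hHt hHg hxH hcon hS hxQ hAH hBH hAS hBS
  -- comparison with other candidates
  have hcmp : ∀ (x' : G) (H' : Subgroup G), (x', H') ∈ Cand →
      ({C : Subgroup G | C ∈ D ∧ C ≤ H₁ ∧ C ≤ hx D x₁} ⊆
        {C : Subgroup G | C ∈ D ∧ C ≤ H' ∧ C ≤ hx D x'}) →
      {C : Subgroup G | C ∈ D ∧ C ≤ H₁ ∧ C ≤ hx D x₁} =
        {C : Subgroup G | C ∈ D ∧ C ≤ H' ∧ C ≤ hx D x'} ∧ Nat.card H' ≤ Nat.card H₁ := by
    intro x' H' hc hsub
    have h1 := hmax _ hc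
    simp only [f] at h1
    have h2 := Set.ncard_le_ncard hsub (Set.toFinite _)
    have h3 := Subgroup.card_le_card_group H₁
    have h4 : {C : Subgroup G | C ∈ D ∧ C ≤ H' ∧ C ≤ hx D x'}.ncard ≤
        {C : Subgroup G | C ∈ D ∧ C ≤ H₁ ∧ C ≤ hx D x₁}.ncard := by
      by_contra h5
      have h6 : ({C : Subgroup G | C ∈ D ∧ C ≤ H₁ ∧ C ≤ hx D x₁}.ncard + 1) * (Nat.card G + 1) ≤
          {C : Subgroup G | C ∈ D ∧ C ≤ H' ∧ C ≤ hx D x'}.ncard * (Nat.card G + 1) :=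
        Nat.mul_le_mul_right _ (by omega)
      rw [Nat.add_mul, one_mul] at h6
      omega
    refine ⟨Set.eq_of_subset_of_ncard_le hsub h4 (Set.toFinite _), ?_⟩
    rw [le_antisymm h4 h2] at h1
    omega
  set S := hx D x₁ with hSdef
  have hSt : S ≠ ⊤ := h.hx_ne_top hx1
  have hSg : S ≤ mems D S := (mems_mems _).ge
  obtain ⟨k, hk⟩ : ∃ k, x₁ ^ q ^ k = 1 := by
    obtain ⟨k, hk⟩ := hS.qgroup ⟨x₁, hxQ⟩
    exact ⟨k, congrArg Subtype.val hk⟩
  have hxA : x₁ ∈ centralizer (A₁ : Set G) := le_cent_singleton.1 (hAS.trans (mems_le D _))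
  obtain ⟨QH, hH⟩ := h.exists_dq hHt hHg hA hAH
  set I := mems D (S ⊓ H₁) with hI
  have hIS : I ≤ S := (mems_le D _).trans inf_le_left
  have hIH : I ≤ H₁ := (mems_le D _).trans inf_le_right
  have hAI : A₁ ≤ I := le_mems hA (le_inf hAS hAH)
  have hIt : I ≠ ⊤ := fun e => hSt (top_le_iff.1 (e.ge.trans hIS))
  obtain ⟨QI, hQI⟩ := h.exists_dq hIt (mems_mems _).ge hA hAI
  have hQIS : QI ≤ Q₁ := hS.le_of_qgroup hP hA hAS (hQI.le.trans hIS) hQI.qgroup
  have hQIH : QI ≤ QH := hH.le_of_qgroup hP hA hAH (hQI.le.trans hIH) hQI.qgroup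
  have hw : ∃ T R B, IsDQ q D T R ∧ B ∈ D ∧ B ≤ T ∧ R ⊓ centralizer (B : Set G) ≠ ⊥ :=
    ⟨S, Q₁, A₁, hS, hA, hAS, fun e => hx1 (by
      rw [← Subgroup.mem_bot, ← e]; exact ⟨hxQ, hxA⟩)⟩
  -- the fixed points of `A₁` in `QI` are trivial
  have hΦI : QI ⊓ centralizer (A₁ : Set G) = ⊥ := by
    by_contra hne'
    obtain ⟨⟨w, hw1, hw2⟩, hwne⟩ := Subgroup.ne_bot_iff_exists_ne_one.1 hne'
    have hw0 : w ≠ 1 := fun e => hwne (Subtype.ext e)
    have hST : S ≤ hx D w := hSg.trans (mems_mono (le_cent_singleton.2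
      (hS.phi_le_cent hP h.good hA hAS ⟨hQIS hw1, hw2⟩)))
    have hHT : H₁ ≤ hx D w := hHg.trans (mems_mono (le_cent_singleton.2
      (hH.phi_le_cent hP h.good hA hAH ⟨hQIH hw1, hw2⟩)))
    obtain ⟨RT, hT⟩ := h.exists_dq (h.hx_ne_top hw0) (mems_mems _).ge hA (hAS.trans hST)
    exact hcon (hHT.trans (h.le_hx hT hA (hAS.trans hST) (hST (hS.le hxQ)) hk hxA))
  have hQIab : ∀ r ∈ QI, ∀ r' ∈ QI, r * r' = r' * r := fun r hr r' hr' => by
    rw [← commutatorElement_eq_one_iff_mul_comm, ← Subgroup.mem_bot, ← hΦI]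
    exact hQI.commutator_le h.good hA hAI hw (Subgroup.commutator_mem_commutator hr hr')
  have hAQI : A₁ ≤ normalizer (QI : Set G) := hAI.trans hQI.norm
  -- moving `A₁` out of `I`
  have hout : ∀ (T R : Subgroup G), IsDQ q D T R → A₁ ≤ T → QI ≤ R → ∀ y ∈ R,
      y ∉ QI ⊔ (R ⊓ centralizer (A₁ : Set G)) → ¬ cj y A₁ ≤ I := by
    intro T R hT hAT hQR y hy hyn hle
    obtain ⟨r, hr, he⟩ := hQI.exists_cj hP hA hAI (hP.inv A₁ hA y) hle
    have h2 : r⁻¹ * y ∈ normalizer (A₁ : Set G) := cj_eq_iff.1 (by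
      rw [← cj_cj, he, cj_cj, inv_mul_cancel, cj_one])
    have h1 : r⁻¹ * y ∈ R := mul_mem (inv_mem (hQR hr)) hy
    have h3 := mem_cent_of_mem_normalizer hP hA hT.qgroup (hAT.trans hT.norm) h1 h2
    refine hyn ?_
    have h4 : r * (r⁻¹ * y) ∈ QI ⊔ (R ⊓ centralizer (A₁ : Set G)) :=
      mul_mem (Subgroup.mem_sup_left hr) (Subgroup.mem_sup_right ⟨h1, h3⟩)
    rwa [mul_inv_cancel_left] at h4
  -- `QI` and the fixed points do not exhaust the kernels
  have hfull : ∀ (T R : Subgroup G), IsDQ q D T R → A₁ ≤ T → QI ≤ R → I ≤ T →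
      R ≤ QI ⊔ (R ⊓ centralizer (A₁ : Set G)) → T ≤ I := by
    intro T R hT hAT hQR hIT hle
    refine hT.gen.trans (sSup_le fun C hC => ?_)
    obtain ⟨u, hu, rfl⟩ := hT.exists_cj hP hA hAT hC.1 hC.2
    have hu' : u ∈ ((QI ⊔ (R ⊓ centralizer (A₁ : Set G)) : Subgroup G) : Set G) := hle hu
    rw [Subgroup.coe_mul_of_right_le_normalizer_left QI _ (fun φ hφ => cent_le_normalizer QI
      (mem_cent.2 fun r hr => mem_cent.1 (hT.phi_le_cent hP h.good hA hAT hφ) r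
        (hT.le (hQR hr))))] at hu'
    obtain ⟨r, hr, φ, hφ, rfl⟩ := hu'
    rw [← cj_cj, cj_eq_iff.2 (cent_le_normalizer A₁ hφ.2)]
    exact cj_le_of_mem hAI (Subgroup.le_normalizer (hQI.le hr))
  -- members of `I` normalise suitable products
  have hmemW : ∀ (C : Subgroup G), C ∈ D → C ≤ I → ∀ Z : Subgroup G,
      Z ≤ centralizer (C : Set G) → C ≤ normalizer ((QI ⊔ Z : Subgroup G) : Set G) := by
    intro C hC hCI Z hZ c hc
    refine mem_normalizer_of_cj_le ?_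
    rw [cj, Subgroup.map_sup]
    refine sup_le_sup (cj_eq_iff.2 (hQI.norm (hCI hc))).le fun z hz => ?_
    obtain ⟨w, hw', rfl⟩ := Subgroup.mem_map.1 hz
    have : (MulAut.conj c).toMonoidHom w = w :=
      eq_conj_of_commute (mem_cent.1 (hZ hw') c hc).symm
    rw [this]; exact hw'
  have hΦC : ∀ (T R : Subgroup G), IsDQ q D T R → A₁ ≤ T → I ≤ T → ∀ C : Subgroup G, C ≤ I →
      R ⊓ centralizer (A₁ : Set G) ≤ centralizer (C : Set G) := fun T R hT hAT hIT C hCI =>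
    (hT.phi_le_cent hP h.good hA hAT).trans (Subgroup.centralizer_le (hCI.trans hIT))
  by_cases hΦH : QH ⊓ centralizer (A₁ : Set G) = ⊥
  · -- abelian kernel
    have hQHab : ∀ r ∈ QH, ∀ r' ∈ QH, r * r' = r' * r := fun r hr r' hr' => by
      rw [← commutatorElement_eq_one_iff_mul_comm, ← Subgroup.mem_bot, ← hΦH]
      exact hH.commutator_le h.good hA hAH hw (Subgroup.commutator_mem_commutator hr hr')
    have hQI1 : QI ≠ ⊥ := fun e => by
      obtain ⟨u, hu, he⟩ := hQI.exists_cj hP hA hAI hB (le_mems hB (le_inf hBS hBH))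
      rw [e, Subgroup.mem_bot] at hu
      rw [hu, cj_one] at he
      exact hne he.symm
    have hNt := h.normalizer_ne_top hQI1 hQI.qgroup
    set J := mems D (normalizer (QI : Set G)) with hJ
    have hHN : H₁ ≤ normalizer (QI : Set G) := (hH.split A₁ hA hAH).trans (sup_le (fun r hr =>
      cent_le_normalizer QI (mem_cent.2 fun r' hr' => (hQHab r hr r' (hQIH hr')).symm)) hAQI)
    have hHJ : H₁ ≤ J := hHg.trans (mems_mono hHN)
    have hΦQI : Q₁ ⊓ centralizer (A₁ : Set G) ≤ centralizer (QI : Set G) :=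
      (hS.phi_le_cent hP h.good hA hAS).trans (Subgroup.centralizer_le (hQI.le.trans hIS))
    have hJeq : J = H₁ := by
      by_cases hJS : J ≤ S
      · exact absurd (hHJ.trans hJS) hcon
      have hc : (x₁, J) ∈ Cand := ⟨hx1, h.mems_ne_top hNt, (mems_mems _).ge,
        normalizer_le_mems hP _ (Subgroup.le_normalizer
          (cent_le_normalizer QI (hΦQI ⟨hxQ, hxA⟩))), hJS, Q₁, hS, hxQ, A₁, hA, B₁, hB, hne,
        hAH.trans hHJ, hBH.trans hHJ, hAS, hBS⟩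
      obtain ⟨-, h2⟩ := hcmp _ _ hc fun C hC => ⟨hC.1, hC.2.1.trans hHJ, hC.2.2⟩
      exact (Subgroup.eq_of_le_of_card_ge hHJ h2).symm
    set Φ := Q₁ ⊓ centralizer (A₁ : Set G) with hΦ
    have hΦq : IsPGroup q Φ := hS.qgroup.to_le inf_le_left
    have hΦnH : Φ ≤ normalizer (H₁ : Set G) := fun φ hφ => by
      rw [← hJeq]
      exact normalizer_le_mems hP _ (Subgroup.le_normalizer (cent_le_normalizer QI (hΦQI hφ)))
    have hΦnI : Φ ≤ normalizer (QI : Set G) := fun φ hφ => cent_le_normalizer QI (hΦQI hφ)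
    have hQY : ∀ v ∈ Φ, v ∈ QH → v ∈ QI := fun v hv hv' => by
      have h1 : v ∈ QH ⊓ centralizer (A₁ : Set G) := ⟨hv', hv.2⟩
      rw [hΦH, Subgroup.mem_bot] at h1
      rw [h1]; exact one_mem _
    have hne' : ¬ QH ≤ QI := fun e => hcon ((hfull H₁ QH hH hAH hQIH hIH
      (e.trans le_sup_left)).trans hIS)
    obtain ⟨y, hy, hy1, hyN⟩ :=
      exists_out hH.qgroup hΦq (hΦnH.trans (hH.normalizer_le hP hA hAH)) hQIH hΦnI hQY hne'
    set W := QI ⊔ Φ with hW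
    have hWq : IsPGroup q W := hQI.qgroup.to_sup_of_normal_left' hΦq hΦnI
    have hW1 : W ≠ ⊥ := fun e => hQI1 (le_bot_iff.1 (e ▸ le_sup_left))
    have hWQ : Q₁ ≤ normalizer (W : Set G) := by
      intro u hu
      refine mem_normalizer_of_cj_le ?_
      intro z hz
      have hzQ : u⁻¹ * z * u ∈ Q₁ := (sup_le hQIS inf_le_left : W ≤ Q₁) (mem_cj.1 hz)
      have h1 : ⁅u, u⁻¹ * z * u⁆ ∈ W :=
        Subgroup.mem_sup_right (hS.commutator_le h.good hA hAS hw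
          (Subgroup.commutator_mem_commutator hu hzQ))
      have h2 := mul_mem h1 (mem_cj.1 hz)
      rwa [commutatorElement_def, show u * (u⁻¹ * z * u) * u⁻¹ * (u⁻¹ * z * u)⁻¹ * (u⁻¹ * z * u) = z
        by group] at h2
    have hAW : A₁ ≤ normalizer (W : Set G) := hmemW A₁ hA hAI Φ inf_le_right
    set H' := mems D (normalizer (W : Set G)) with hH'
    have hH't := h.mems_ne_top (D := D) (h.normalizer_ne_top hW1 hWq)
    have hSH' : S ≤ H' := hS.gen.trans (sSup_le fun C hC => le_mems hC.1 (by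
      obtain ⟨u, hu, rfl⟩ := hS.exists_cj hP hA hAS hC.1 hC.2
      exact cj_le_of_mem hAW (Subgroup.le_normalizer (hWQ hu))))
    obtain ⟨Q', hQ'⟩ := h.exists_dq hH't (mems_mems _).ge hA (hAS.trans hSH')
    have hH'S : H' ≤ S := h.le_hx hQ' hA (hAS.trans hSH') (hSH' (hS.le hxQ)) hk hxA
    have hyH : cj y A₁ ≤ H₁ := cj_le_of_mem hAH (Subgroup.le_normalizer (hH.le hy))
    have hyS : cj y A₁ ≤ S := (le_mems (hP.inv A₁ hA y)
      (cj_le_of_mem hAW (Subgroup.le_normalizer hyN))).trans hH'S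
    refine hout H₁ QH hH hAH hQIH y hy ?_ (le_mems (hP.inv A₁ hA y) (le_inf hyS hyH))
    rwa [hΦH, sup_bot_eq]
  · -- kernels with fixed points
    have hxQH : x₁ ∈ normalizer (QH : Set G) := hH.normalizer_le hP hA hAH hxH
    obtain ⟨h₀, hh₀, hh₀1, hhx⟩ : ∃ h₀ ∈ QH ⊓ centralizer (A₁ : Set G), h₀ ≠ 1 ∧
        Commute h₀ x₁ := by
      set P := (QH ⊓ centralizer (A₁ : Set G)) ⊔ zpowers x₁ with hP'
      have hxn : x₁ ∈ normalizer ((QH ⊓ centralizer (A₁ : Set G) : Subgroup G) : Set G) := by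
        refine mem_normalizer_of_cj_le fun z hz => ?_
        have hz' := mem_cj.1 hz
        refine ⟨?_, ?_⟩
        · exact (cj_eq_iff.2 hxQH).le (mem_cj.2 hz'.1)
        · have h1 := mem_cent_cj (g := x₁) hz'.2
          rw [cj_eq_iff.2 (cent_le_normalizer A₁ hxA),
            show x₁ * (x₁⁻¹ * z * x₁) * x₁⁻¹ = z by group] at h1
          exact h1
      have hPq : IsPGroup q P := (hH.qgroup.to_le inf_le_left).to_sup_of_normal_left'
        (hS.qgroup.to_le (zpowers_le.2 hxQ)) (zpowers_le.2 hxn)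
      set N := (QH ⊓ centralizer (A₁ : Set G)).subgroupOf P with hN
      have : N.Normal := Subgroup.normal_subgroupOf_of_le_normalizer
        (sup_le Subgroup.le_normalizer (zpowers_le.2 hxn))
      have hN1 : N ≠ ⊥ := by
        rw [hN, Ne, Subgroup.subgroupOf_eq_bot]
        intro hd
        exact hΦH (disjoint_self.1 (hd.mono_right le_sup_left))
      obtain ⟨⟨⟨w, hwP⟩, hw1, hw2⟩, hwne⟩ :=
        Subgroup.ne_bot_iff_exists_ne_one.1 (PGroupsBasic.inf_center_ne_bot hPq hN1)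
      refine ⟨w, Subgroup.mem_subgroupOf.1 hw1, fun e => hwne (by ext; exact e), ?_⟩
      exact (congrArg Subtype.val (Subgroup.mem_center_iff.1 hw2
        ⟨x₁, Subgroup.mem_sup_right (mem_zpowers x₁)⟩)).symm
    set H1 := hx D h₀ with hH1
    have hHH1 : H₁ ≤ H1 := hHg.trans (mems_mono (le_cent_singleton.2
      (hH.phi_le_cent hP h.good hA hAH hh₀)))
    have hxH1 : x₁ ∈ normalizer (H1 : Set G) :=
      normalizer_le_mems hP _ (cent_singleton_le_normalizer hhx.symm)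
    have hHeq : H1 = H₁ := by
      by_cases hH1S : H1 ≤ S
      · exact absurd (hHH1.trans hH1S) hcon
      have hc : (x₁, H1) ∈ Cand := ⟨hx1, h.hx_ne_top hh₀1, (mems_mems _).ge, hxH1, hH1S, Q₁, hS,
        hxQ, A₁, hA, B₁, hB, hne, hAH.trans hHH1, hBH.trans hHH1, hAS, hBS⟩
      obtain ⟨-, h2⟩ := hcmp _ _ hc fun C hC => ⟨hC.1, hC.2.1.trans hHH1, hC.2.2⟩
      exact (Subgroup.eq_of_le_of_card_ge hHH1 h2).symm
    set Y2 := QH ⊓ centralizer (A₁ : Set G) ⊓ centralizer ({x₁} : Set G) with hY2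
    set Y1 := Q₁ ⊓ centralizer (A₁ : Set G) ⊓ centralizer (Y2 : Set G) with hY1
    have hxY1 : x₁ ∈ Y1 := ⟨⟨hxQ, hxA⟩, mem_cent.2 fun v hv =>
      mem_centralizer_singleton_iff.1 hv.2⟩
    have hhY2 : h₀ ∈ Y2 := ⟨hh₀, mem_centralizer_singleton_iff.2 hhx.eq⟩
    have hY2S : Y2 ≤ normalizer (S : Set G) := fun v hv =>
      normalizer_le_mems hP _ (Subgroup.le_normalizer hv.2)
    have hY1H : Y1 ≤ normalizer (H₁ : Set G) := fun v hv => by
      rw [← hHeq]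
      exact normalizer_le_mems hP _ (cent_singleton_le_normalizer
        (mem_cent.1 hv.2 h₀ hhY2).symm)
    have hY1C : ∀ C : Subgroup G, C ≤ I → Y1 ≤ centralizer (C : Set G) := fun C hC =>
      inf_le_left.trans (hΦC S Q₁ hS hAS hIS C hC)
    have hY2C : ∀ C : Subgroup G, C ≤ I → Y2 ≤ centralizer (C : Set G) := fun C hC =>
      inf_le_left.trans (hΦC H₁ QH hH hAH hIH C hC)
    have hY1I : Y1 ≤ centralizer (QI : Set G) := hY1C QI hQI.le
    have hY2I : Y2 ≤ centralizer (QI : Set G) := hY2C QI hQI.le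
    have hnS : ¬ Q₁ ≤ QI ⊔ (Q₁ ⊓ centralizer (A₁ : Set G)) := fun e => hcon (by
      have hSI := hfull S Q₁ hS hAS hQIS hIS e
      exact hHg.trans (mems_mono (le_cent_singleton.2 (hH.phi_le_cent hP h.good hA hAH
        ⟨hH.mem_of_pow hP hA hAH (hIH (hSI (hS.le hxQ))) hk, hxA⟩))))
    have hnH : ¬ QH ≤ QI ⊔ (QH ⊓ centralizer (A₁ : Set G)) := fun e => hcon
      ((hfull H₁ QH hH hAH hQIH hIH e).trans hIS)
    obtain ⟨y, hy, hyR, hyI, hyY⟩ := exists_side hP h.good hS hA hAS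
      (hS.commutator_le h.good hA hAS hw) hQIS hQIab hAQI
      (hH.qgroup.to_le (inf_le_left.trans inf_le_left)) hY2S (hY2C A₁ hAI) hY2I hnS
    obtain ⟨y', hy', hy'R, hy'I, hy'Y⟩ := exists_side hP h.good hH hA hAH
      (hH.commutator_le h.good hA hAH hw) hQIH hQIab hAQI
      (hS.qgroup.to_le (inf_le_left.trans inf_le_left)) hY1H (hY1C A₁ hAI) hY1I hnH
    have hY2' : QH ⊓ centralizer (A₁ : Set G) ⊓ centralizer (Y1 : Set G) ≤ Y2 := fun v hv =>
      ⟨hv.1, mem_centralizer_singleton_iff.2 (mem_cent.1 hv.2 x₁ hxY1).symm⟩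
    set W := QI ⊔ (Y1 ⊔ Y2) with hW
    have hY12 : Y2 ≤ normalizer (Y1 : Set G) := fun v hv => cent_le_normalizer Y1
      (mem_cent.2 fun u hu => (mem_cent.1 hu.2 v hv).symm)
    have hWq : IsPGroup q W := hQI.qgroup.to_sup_of_normal_left'
      ((hS.qgroup.to_le (inf_le_left.trans inf_le_left)).to_sup_of_normal_left'
        (hH.qgroup.to_le (inf_le_left.trans inf_le_left)) hY12)
      (sup_le (hY1I.trans (cent_le_normalizer QI)) (hY2I.trans (cent_le_normalizer QI)))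
    have hxW : x₁ ∈ W := Subgroup.mem_sup_right (Subgroup.mem_sup_left hxY1)
    have hW1 : W ≠ ⊥ := fun e => hx1 (by rw [← Subgroup.mem_bot, ← e]; exact hxW)
    have hswap : ∀ w v : G, w * v * w⁻¹ = ⁅v, w⁆⁻¹ * v := fun w v => by
      rw [commutatorElement_def]; group
    -- the two new elements normalise `W`
    have hyW : y ∈ normalizer (W : Set G) := by
      refine mem_normalizer_of_cj_le ?_
      rw [hW, cj, Subgroup.map_sup, Subgroup.map_sup]
      refine sup_le ?_ (sup_le ?_ ?_) <;> intro z hz <;>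
        obtain ⟨w, hw', rfl⟩ := Subgroup.mem_map.1 hz
      · change y * w * y⁻¹ ∈ W
        rw [hswap]
        exact mul_mem (inv_mem (Subgroup.mem_sup_right (Subgroup.mem_sup_left (hyI w hw'))))
          (Subgroup.mem_sup_left hw')
      · change y * w * y⁻¹ ∈ W
        rw [eq_conj_of_commute (mem_cent.1 (hS.phi_le_cent hP h.good hA hAS hw'.1) y (hS.le hy)).symm]
        exact Subgroup.mem_sup_right (Subgroup.mem_sup_left hw')
      · change y * w * y⁻¹ ∈ W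
        rw [hswap]
        exact mul_mem (inv_mem ((sup_le_sup_left le_sup_left QI : _ ≤ W) (hyY w hw')))
          (Subgroup.mem_sup_right (Subgroup.mem_sup_right hw'))
    have hy'W : y' ∈ normalizer (W : Set G) := by
      refine mem_normalizer_of_cj_le ?_
      rw [hW, cj, Subgroup.map_sup, Subgroup.map_sup]
      refine sup_le ?_ (sup_le ?_ ?_) <;> intro z hz <;>
        obtain ⟨w, hw', rfl⟩ := Subgroup.mem_map.1 hz
      · change y' * w * y'⁻¹ ∈ W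
        rw [hswap]
        exact mul_mem (inv_mem (Subgroup.mem_sup_right (Subgroup.mem_sup_right
          (hY2' (hy'I w hw'))))) (Subgroup.mem_sup_left hw')
      · change y' * w * y'⁻¹ ∈ W
        rw [hswap]
        exact mul_mem (inv_mem ((sup_le_sup_left (hY2'.trans le_sup_right) QI : _ ≤ W)
          (hy'Y w hw'))) (Subgroup.mem_sup_right (Subgroup.mem_sup_left hw'))
      · change y' * w * y'⁻¹ ∈ W
        rw [eq_conj_of_commute
          (mem_cent.1 (hH.phi_le_cent hP h.good hA hAH hw'.1) y' (hH.le hy')).symm]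
        exact Subgroup.mem_sup_right (Subgroup.mem_sup_right hw')
    have hWmem : ∀ C ∈ D, C ≤ I → C ≤ normalizer (W : Set G) := fun C hC hCI =>
      hmemW C hC hCI (Y1 ⊔ Y2) (sup_le (hY1C C hCI) (hY2C C hCI))
    set H' := mems D (normalizer (W : Set G)) with hH'
    have hyS : cj y A₁ ≤ S := cj_le_of_mem hAS (Subgroup.le_normalizer (hS.le hy))
    have hy'H : cj y' A₁ ≤ H₁ := cj_le_of_mem hAH (Subgroup.le_normalizer (hH.le hy'))
    have hyH' : cj y A₁ ≤ H' := le_mems (hP.inv A₁ hA y)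
      (cj_le_of_mem (hWmem A₁ hA hAI) (Subgroup.le_normalizer hyW))
    have hy'H' : cj y' A₁ ≤ H' := le_mems (hP.inv A₁ hA y')
      (cj_le_of_mem (hWmem A₁ hA hAI) (Subgroup.le_normalizer hy'W))
    by_cases hH'S : H' ≤ S
    · exact hout H₁ QH hH hAH hQIH y' hy' hy'R
        (le_mems (hP.inv A₁ hA y') (le_inf (hy'H'.trans hH'S) hy'H))
    have hBI : B₁ ≤ I := le_mems hB (le_inf hBS hBH)
    have hc : (x₁, H') ∈ Cand := ⟨hx1, h.mems_ne_top (h.normalizer_ne_top hW1 hWq),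
      (mems_mems _).ge, normalizer_le_mems hP _
        (Subgroup.le_normalizer (Subgroup.le_normalizer hxW)), hH'S, Q₁, hS, hxQ, A₁, hA, B₁, hB,
      hne, le_mems hA (hWmem A₁ hA hAI), le_mems hB (hWmem B₁ hB hBI), hAS, hBS⟩
    obtain ⟨heq, -⟩ := hcmp _ _ hc fun C hC => ⟨hC.1,
      le_mems hC.1 (hWmem C hC.1 (le_mems hC.1 (le_inf hC.2.2 hC.2.1))), hC.2.2⟩
    have h1 : cj y A₁ ∈ {C : Subgroup G | C ∈ D ∧ C ≤ H₁ ∧ C ≤ hx D x₁} := by
      rw [heq]; exact ⟨hP.inv A₁ hA y, hyH', hyS⟩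
    exact hout S Q₁ hS hAS hQIS y hy hyR (le_mems (hP.inv A₁ hA y) (le_inf hyS h1.2.1))

end Min

end Cfsg.Agent.OddPairs70
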