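import Mathlib
import Cfsg.Agent.Lib.CoprimeExtra
import Cfsg.Agent.Lib.PGroupsBasic

/-!
# Classes of subgroups of order `p` generating pairwise groups of shape `q`-group by `p`

Basic facts about `D`-subgroups, i.e. subgroups generated by members of `D` of the shape `Q A`
with `Q` a normal `q`-subgroup and `A` a member.
-/

set_option autoImplicit false
set_option linter.style.haveILetI false
set_option linter.unusedSectionVars false

namespace Cfsg.Agent.OddPairs70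

open Subgroup

variable {G : Type*} [Group G]

/-- The conjugate `g H g⁻¹`. -/
def cj (g : G) (H : Subgroup G) : Subgroup G := H.map (MulAut.conj g).toMonoidHom

theorem mem_cj {g x : G} {H : Subgroup G} : x ∈ cj g H ↔ g⁻¹ * x * g ∈ H := by
  rw [cj, Subgroup.mem_map]
  constructor
  · rintro ⟨y, hy, rfl⟩
    have e : g⁻¹ * ((MulAut.conj g).toMonoidHom y) * g = y := by
      change g⁻¹ * (g * y * g⁻¹) * g = y
      group
    rw [e]; exact hy
  · intro h
    refine ⟨_, h, ?_⟩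
    change g * (g⁻¹ * x * g) * g⁻¹ = x
    group

theorem conj_mem_cj {g x : G} {H : Subgroup G} (hx : x ∈ H) : g * x * g⁻¹ ∈ cj g H :=
  mem_cj.2 (by rwa [show g⁻¹ * (g * x * g⁻¹) * g = x by group])

theorem cj_cj (g h : G) (H : Subgroup G) : cj g (cj h H) = cj (g * h) H := by
  ext x
  simp only [mem_cj, mul_inv_rev, mul_assoc]

theorem cj_one (H : Subgroup G) : cj 1 H = H := by
  ext x; simp [mem_cj]

theorem cj_mono {g : G} {H K : Subgroup G} (h : H ≤ K) : cj g H ≤ cj g K := Subgroup.map_mono h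

theorem card_cj (g : G) (H : Subgroup G) : Nat.card (cj g H) = Nat.card H :=
  Subgroup.card_map_of_injective (MulAut.conj g).injective

theorem cj_eq_iff {g : G} {H : Subgroup G} : cj g H = H ↔ g ∈ normalizer (H : Set G) := by
  rw [Subgroup.mem_normalizer_iff]
  constructor
  · intro h x
    conv_rhs => rw [← h]
    rw [mem_cj, show g⁻¹ * (g * x * g⁻¹) * g = x by group]
  · intro h
    ext x
    rw [mem_cj]
    refine (h _).trans ?_
    rw [show g * (g⁻¹ * x * g) * g⁻¹ = x by group]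

theorem mem_normalizer_of_cj_le [Finite G] {g : G} {H : Subgroup G} (h : cj g H ≤ H) :
    g ∈ normalizer (H : Set G) :=
  cj_eq_iff.1 (Subgroup.eq_of_le_of_card_ge h (card_cj g H).ge)

theorem cj_le_of_mem {g : G} {H K : Subgroup G} (h : H ≤ K) (hg : g ∈ normalizer (K : Set G)) :
    cj g H ≤ K := (cj_mono h).trans (cj_eq_iff.2 hg).le

theorem mem_cent {x : G} {H : Subgroup G} :
    x ∈ centralizer (H : Set G) ↔ ∀ y ∈ H, y * x = x * y := Subgroup.mem_centralizer_iff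

theorem cent_le_normalizer (H : Subgroup G) : centralizer (H : Set G) ≤ normalizer (H : Set G) :=
  fun g hg => cj_eq_iff.1 (by
    ext x
    rw [mem_cj]
    constructor
    · intro h
      have h1 := mem_cent.1 hg _ h
      have h2 : x = g⁻¹ * x * g := by
        calc x = g * (g⁻¹ * x * g) * g⁻¹ := by group
          _ = (g⁻¹ * x * g) * g * g⁻¹ := by rw [h1]
          _ = g⁻¹ * x * g := by group
      rwa [← h2] at h
    · intro h
      have h1 := mem_cent.1 hg _ h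
      rwa [mul_assoc, h1, inv_mul_cancel_left])

theorem le_cent_singleton {x : G} {H : Subgroup G} :
    H ≤ centralizer ({x} : Set G) ↔ x ∈ centralizer (H : Set G) := by
  refine ⟨fun h => mem_cent.2 fun y hy => mem_centralizer_singleton_iff.1 (h hy), fun h y hy =>
    mem_centralizer_singleton_iff.2 (mem_cent.1 h y hy)⟩

theorem mem_cent_cj {x g : G} {H : Subgroup G} (h : x ∈ centralizer (H : Set G)) :
    g * x * g⁻¹ ∈ centralizer (cj g H : Set G) := by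
  refine mem_cent.2 fun y hy => ?_
  have h1 := mem_cent.1 h _ (mem_cj.1 hy)
  calc y * (g * x * g⁻¹) = g * ((g⁻¹ * y * g) * x) * g⁻¹ := by group
    _ = g * (x * (g⁻¹ * y * g)) * g⁻¹ := by rw [h1]
    _ = (g * x * g⁻¹) * y := by group

/-- In a `q`-group the normaliser of a proper subgroup grows. -/
theorem exists_grow [Finite G] {q : ℕ} [Fact q.Prime] {P P1 : Subgroup G} (hP : IsPGroup q P)
    (hle : P1 ≤ P) (hne : P1 ≠ P) : ∃ g ∈ P, g ∉ P1 ∧ g ∈ normalizer (P1 : Set G) := by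
  have : Group.IsNilpotent P := hP.isNilpotent
  have hlt : P1.subgroupOf P < ⊤ := lt_top_iff_ne_top.2 fun h =>
    hne (le_antisymm hle (Subgroup.subgroupOf_eq_top.1 h))
  obtain ⟨⟨g, hgP⟩, hgN, hg1⟩ := SetLike.exists_of_lt
    (normalizerCondition_of_isNilpotent (G := P) _ hlt)
  refine ⟨g, hgP, fun h => hg1 (Subgroup.mem_subgroupOf.2 h), mem_normalizer_of_cj_le fun x hx => ?_⟩
  have hxP : g⁻¹ * x * g ∈ P := hle (mem_cj.1 hx)
  have h1 := (Subgroup.mem_normalizer_iff.1 hgN ⟨_, hxP⟩).1 (Subgroup.mem_subgroupOf.2 (mem_cj.1 hx))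
  have h2 : g * (g⁻¹ * x * g) * g⁻¹ ∈ P1 := Subgroup.mem_subgroupOf.1 h1
  rwa [show g * (g⁻¹ * x * g) * g⁻¹ = x by group] at h2

/-- Powers of a product with the left factor in a normalised subgroup. -/
theorem exists_mul_pow {Q : Subgroup G} {u a : G} (hu : u ∈ Q) (ha : a ∈ normalizer (Q : Set G))
    (n : ℕ) : ∃ u' ∈ Q, (u * a) ^ n = u' * a ^ n := by
  induction n with
  | zero => exact ⟨1, one_mem _, by simp⟩
  | succ n ih =>
    obtain ⟨u', hu', he⟩ := ih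
    refine ⟨u' * (a ^ n * u * (a ^ n)⁻¹), mul_mem hu'
      ((Subgroup.mem_normalizer_iff.1 (pow_mem ha n) u).1 hu), ?_⟩
    rw [pow_succ, he]
    group

/-! ### Members and `D`-subgroups -/

/-- The subgroup generated by the members inside `H`. -/
def mems (D : Set (Subgroup G)) (H : Subgroup G) : Subgroup G := sSup {B | B ∈ D ∧ B ≤ H}

variable {D : Set (Subgroup G)}

theorem mems_le (D : Set (Subgroup G)) (H : Subgroup G) : mems D H ≤ H := sSup_le fun _ hB => hB.2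

theorem le_mems {B H : Subgroup G} (hB : B ∈ D) (h : B ≤ H) : B ≤ mems D H := le_sSup ⟨hB, h⟩

theorem mems_mono {H K : Subgroup G} (h : H ≤ K) : mems D H ≤ mems D K :=
  sSup_le fun _ hB => le_mems hB.1 (hB.2.trans h)

theorem mems_mems (H : Subgroup G) : mems D (mems D H) = mems D H :=
  le_antisymm (mems_le D _) (sSup_le fun _ hB => le_mems hB.1 (le_mems hB.1 hB.2))

/-- The hypothesis on the class `D`. -/
structure Pairs (p q : ℕ) (D : Set (Subgroup G)) : Prop where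
  hp : p.Prime
  hq : q.Prime
  hpq : p ≠ q
  hp2 : p ≠ 2
  hq2 : q ≠ 2
  card : ∀ A ∈ D, Nat.card A = p
  inv : ∀ A ∈ D, ∀ g : G, cj g A ∈ D
  ncomm : ∀ A ∈ D, ∀ B ∈ D, B ≤ normalizer (A : Set G) → A = B
  kern : ∀ A ∈ D, ∀ B ∈ D, ∃ Q : Subgroup G, IsPGroup q Q ∧ Q ≤ A ⊔ B ∧
    A ⊔ B ≤ normalizer (Q : Set G) ∧ A ⊔ B ≤ Q ⊔ A
  line : ∀ A ∈ D, ∀ B ∈ D, ∀ C ∈ D, C ≠ A → C ≤ A ⊔ B → B ≤ A ⊔ C

/-- `S` is generated by members and is `Q A` for the normal `q`-subgroup `Q` and any member `A`. -/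
structure IsDQ (q : ℕ) (D : Set (Subgroup G)) (S Q : Subgroup G) : Prop where
  gen : S ≤ mems D S
  qgroup : IsPGroup q Q
  le : Q ≤ S
  norm : S ≤ normalizer (Q : Set G)
  split : ∀ A ∈ D, A ≤ S → S ≤ Q ⊔ A

/-- The extra hypothesis: fixed points of members are trivial, or the kernels have class two with
central fixed points. -/
def Good (q : ℕ) (D : Set (Subgroup G)) : Prop :=
  (∀ S Q, IsDQ q D S Q → ∀ A ∈ D, A ≤ S → Q ⊓ centralizer (A : Set G) = ⊥) ∨
    (∀ S Q, IsDQ q D S Q → ∀ A ∈ D, A ≤ S → ⁅Q, Q⁆ ≤ centralizer (A : Set G) ∧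
      Q ⊓ centralizer (A : Set G) ≤ centralizer (Q : Set G))

variable {p q : ℕ}

theorem cj_mems (hP : Pairs p q D) (g : G) (H : Subgroup G) : cj g (mems D H) = mems D (cj g H) := by
  have h : ∀ (g : G) (H : Subgroup G), cj g (mems D H) ≤ mems D (cj g H) := fun g H => by
    rw [cj, Subgroup.map_le_iff_le_comap]
    refine sSup_le fun B hB => ?_
    rw [← Subgroup.map_le_iff_le_comap]
    exact le_mems (hP.inv B hB.1 g) (cj_mono hB.2)
  refine le_antisymm (h g H) ?_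
  have h1 := cj_mono (g := g) (h g⁻¹ (cj g H))
  rwa [cj_cj, cj_cj, mul_inv_cancel, inv_mul_cancel, cj_one, cj_one] at h1

theorem normalizer_le_mems [Finite G] (hP : Pairs p q D) (H : Subgroup G) :
    normalizer (H : Set G) ≤ normalizer (mems D H : Set G) :=
  fun g hg => cj_eq_iff.1 (by rw [cj_mems hP, cj_eq_iff.2 hg])

section Members

variable [Finite G] (hP : Pairs p q D) {A B C : Subgroup G}
include hP

theorem eq_of_le (hA : A ∈ D) (hB : B ∈ D) (h : A ≤ B) : A = B :=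
  Subgroup.eq_of_le_of_card_ge h (by rw [hP.card A hA, hP.card B hB])

theorem member_ne_bot (hA : A ∈ D) : A ≠ ⊥ := fun h => by
  have := hP.card A hA
  rw [h, Subgroup.card_bot] at this
  exact hP.hp.one_lt.ne this

theorem zpowers_eq (hA : A ∈ D) {x : G} (hx : x ∈ A) (hx1 : x ≠ 1) : zpowers x = A := by
  refine Subgroup.eq_of_le_of_card_ge (zpowers_le.2 hx) ?_
  rw [hP.card A hA, Nat.card_zpowers]
  have h := Subgroup.orderOf_dvd_natCard A hx
  rw [hP.card A hA] at h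
  rcases (Nat.dvd_prime hP.hp).1 h with h1 | h1
  · exact absurd (orderOf_eq_one_iff.1 h1) hx1
  · exact h1.ge

theorem exists_gen (hA : A ∈ D) : ∃ a ∈ A, a ≠ 1 ∧ zpowers a = A ∧ orderOf a = p := by
  obtain ⟨⟨a, ha⟩, ha1⟩ := Subgroup.ne_bot_iff_exists_ne_one.1 (member_ne_bot hP hA)
  have hne : a ≠ 1 := fun h => ha1 (Subtype.ext h)
  refine ⟨a, ha, hne, zpowers_eq hP hA ha hne, ?_⟩
  rw [← Nat.card_zpowers, zpowers_eq hP hA ha hne, hP.card A hA]

theorem le_cent_self (hA : A ∈ D) : A ≤ centralizer (A : Set G) := by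
  obtain ⟨a, -, -, he, -⟩ := exists_gen hP hA
  rw [← he]
  intro x hx
  refine mem_cent.2 fun y hy => ?_
  obtain ⟨m, rfl⟩ := mem_zpowers_iff.1 hx
  obtain ⟨k, rfl⟩ := mem_zpowers_iff.1 hy
  rw [← zpow_add, ← zpow_add, add_comm]

theorem coprime_member (hA : A ∈ D) {Q : Subgroup G} (hQ : IsPGroup q Q) :
    (Nat.card A).Coprime (Nat.card Q) := by
  haveI := Fact.mk hP.hq
  obtain ⟨k, hk⟩ := IsPGroup.iff_card.1 hQ
  rw [hP.card A hA, hk]
  exact ((Nat.coprime_primes hP.hp hP.hq).2 hP.hpq).pow_right k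

theorem eq_one_of_mem (hA : A ∈ D) {Q : Subgroup G} (hQ : IsPGroup q Q) {x : G} (h1 : x ∈ Q)
    (h2 : x ∈ A) : x = 1 := by
  have h : x ∈ A ⊓ Q := ⟨h2, h1⟩
  rwa [Subgroup.inf_eq_bot_of_coprime (coprime_member hP hA hQ), Subgroup.mem_bot] at h

theorem isPGroup_member (hA : A ∈ D) : IsPGroup p A :=
  IsPGroup.of_card (n := 1) (by rw [pow_one, hP.card A hA])

theorem isSolvable_member (hA : A ∈ D) : Group.IsSolvable A := by
  haveI := Fact.mk hP.hp
  exact CoprimeAction.isSolvable_of_isPGroup (isPGroup_member hP hA)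

/-- Elements of a normalised `q`-subgroup normalising a member centralise it. -/
theorem mem_cent_of_mem_normalizer (hA : A ∈ D) {Q : Subgroup G} (hQ : IsPGroup q Q)
    (hAQ : A ≤ normalizer (Q : Set G)) {x : G} (hx : x ∈ Q) (hn : x ∈ normalizer (A : Set G)) :
    x ∈ centralizer (A : Set G) := by
  refine mem_cent.2 fun a ha => ?_
  have h1 : x * a * x⁻¹ * a⁻¹ ∈ A :=
    mul_mem ((Subgroup.mem_normalizer_iff.1 hn a).1 ha) (inv_mem ha)
  have h2 : x * a * x⁻¹ * a⁻¹ ∈ Q := by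
    have := (Subgroup.mem_normalizer_iff.1 (hAQ ha) x⁻¹).1 (inv_mem hx)
    rw [mul_assoc x a, mul_assoc x (a * x⁻¹)]
    exact mul_mem hx this
  have h3 := eq_one_of_mem hP hA hQ h2 h1
  calc a * x = (x * a * x⁻¹ * a⁻¹) * a * x := by rw [h3, one_mul]
    _ = x * a := by group

theorem exists_cj_of_le_sup (hA : A ∈ D) {Q U : Subgroup G} (hQ : IsPGroup q Q)
    (hAQ : A ≤ normalizer (Q : Set G)) (hU : U ≤ Q ⊔ A) (hUp : IsPGroup p U) :
    ∃ u ∈ Q, U ≤ cj u A := by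
  haveI := Fact.mk hP.hp
  haveI := Fact.mk hP.hq
  obtain ⟨k, hk⟩ := IsPGroup.iff_card.1 hQ
  obtain ⟨m, hm⟩ := IsPGroup.iff_card.1 hUp
  obtain ⟨u, hu, h⟩ := CoprimeExtra.exists_le_conj_of_le_sup hAQ hU (coprime_member hP hA hQ)
    (by rw [hk, hm]; exact (Nat.Coprime.pow m k ((Nat.coprime_primes hP.hp hP.hq).2 hP.hpq)))
    (Or.inl (isSolvable_member hP hA))
  exact ⟨u, hu, h⟩

theorem exists_cj_eq (hA : A ∈ D) (hB : B ∈ D) {Q : Subgroup G} (hQ : IsPGroup q Q)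
    (hAQ : A ≤ normalizer (Q : Set G)) (hBs : B ≤ Q ⊔ A) : ∃ u ∈ Q, B = cj u A := by
  obtain ⟨u, hu, h⟩ := exists_cj_of_le_sup hP hA hQ hAQ hBs (isPGroup_member hP hB)
  exact ⟨u, hu, eq_of_le hP hB (hP.inv A hA u) h⟩

theorem mem_sup_member (hA : A ∈ D) {Q : Subgroup G} (hAQ : A ≤ normalizer (Q : Set G)) {x : G}
    (hx : x ∈ Q ⊔ A) : ∃ u ∈ Q, ∃ a ∈ A, x = u * a := by
  have _ := hA
  have h : x ∈ ((Q ⊔ A : Subgroup G) : Set G) := hx
  rw [Subgroup.coe_mul_of_right_le_normalizer_left Q A hAQ] at h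
  obtain ⟨u, hu, a, ha, rfl⟩ := h
  exact ⟨u, hu, a, ha, rfl⟩

/-- Constructor from the splitting at one member. -/
theorem IsDQ.mk' {S Q : Subgroup G} (hA : A ∈ D) (hAS : A ≤ S) (hgen : S ≤ mems D S)
    (hQ : IsPGroup q Q) (hle : Q ≤ S) (hn : S ≤ normalizer (Q : Set G)) (hs : S ≤ Q ⊔ A) :
    IsDQ q D S Q := by
  refine ⟨hgen, hQ, hle, hn, fun B hB hBS => hs.trans (sup_le le_sup_left ?_)⟩
  obtain ⟨u, hu, rfl⟩ := exists_cj_eq hP hA hB hQ (hAS.trans hn) (hBS.trans hs)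
  intro x hx
  have h1 : u * x * u⁻¹ ∈ Q ⊔ cj u A := Subgroup.mem_sup_right (conj_mem_cj hx)
  have h2 : u ∈ Q ⊔ cj u A := Subgroup.mem_sup_left hu
  have h3 := mul_mem (mul_mem (inv_mem h2) h1) h2
  rwa [show u⁻¹ * (u * x * u⁻¹) * u = x by group] at h3

theorem exists_isDQ_pair (hA : A ∈ D) (hB : B ∈ D) : ∃ Q, IsDQ q D (A ⊔ B) Q := by
  obtain ⟨Q, hQ, hle, hn, hs⟩ := hP.kern A hA B hB
  exact ⟨Q, IsDQ.mk' hP hA le_sup_left
    (sup_le (le_mems hA le_sup_left) (le_mems hB le_sup_right)) hQ hle hn hs⟩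

theorem line_eq (hA : A ∈ D) (hB : B ∈ D) (hC : C ∈ D) (hne : C ≠ A) (h : C ≤ A ⊔ B) :
    A ⊔ C = A ⊔ B :=
  le_antisymm (sup_le le_sup_left h) (sup_le le_sup_left (hP.line A hA B hB C hC hne h))

end Members

section DQ

variable [Finite G] (hP : Pairs p q D) {S Q A B : Subgroup G} (h : IsDQ q D S Q)
include hP h

theorem IsDQ.mem_decomp (hA : A ∈ D) (hAS : A ≤ S) {x : G} (hx : x ∈ S) :
    ∃ u ∈ Q, ∃ a ∈ A, x = u * a :=
  mem_sup_member hP hA (hAS.trans h.norm) (h.split A hA hAS hx)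

theorem IsDQ.mem_of_pow (hA : A ∈ D) (hAS : A ≤ S) {x : G} (hx : x ∈ S) {k : ℕ}
    (hk : x ^ q ^ k = 1) : x ∈ Q := by
  obtain ⟨u, hu, a, ha, rfl⟩ := h.mem_decomp hP hA hAS hx
  obtain ⟨u', hu', he⟩ := exists_mul_pow hu ((hAS.trans h.norm) ha) (q ^ k)
  rw [hk] at he
  have h1 : a ^ q ^ k = u'⁻¹ := eq_inv_of_mul_eq_one_right he.symm
  have h2 : a ^ q ^ k = 1 := eq_one_of_mem hP hA h.qgroup (h1 ▸ inv_mem hu') (pow_mem ha _)
  have h3 : orderOf a ∣ Nat.gcd (q ^ k) p :=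
    Nat.dvd_gcd (orderOf_dvd_of_pow_eq_one h2) (hP.card A hA ▸ Subgroup.orderOf_dvd_natCard A ha)
  rw [(((Nat.coprime_primes hP.hq hP.hp).2 hP.hpq.symm).pow_left k).gcd_eq_one, Nat.dvd_one,
    orderOf_eq_one_iff] at h3
  rw [h3, mul_one]; exact hu

theorem IsDQ.le_of_qgroup (hA : A ∈ D) (hAS : A ≤ S) {U : Subgroup G} (hU : U ≤ S)
    (hUq : IsPGroup q U) : U ≤ Q := fun x hx => by
  obtain ⟨k, hk⟩ := hUq ⟨x, hx⟩
  exact h.mem_of_pow hP hA hAS (hU hx) (congrArg Subtype.val hk)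

theorem IsDQ.normalizer_le (hA : A ∈ D) (hAS : A ≤ S) :
    normalizer (S : Set G) ≤ normalizer (Q : Set G) := fun g hg => by
  refine mem_normalizer_of_cj_le fun x hx => ?_
  have hxS : x ∈ S := cj_le_of_mem h.le hg hx
  obtain ⟨k, hk⟩ := h.qgroup ⟨_, mem_cj.1 hx⟩
  have hk' : (g⁻¹ * x * g) ^ q ^ k = 1 := congrArg Subtype.val hk
  refine h.mem_of_pow hP hA hAS hxS (k := k) ?_
  have := conj_pow (a := g⁻¹) (b := x) (i := q ^ k)
  rw [inv_inv, hk'] at this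
  calc x ^ q ^ k = g * (g⁻¹ * x ^ q ^ k * g) * g⁻¹ := by group
    _ = 1 := by rw [← this]; group

theorem IsDQ.exists_cj (hA : A ∈ D) (hAS : A ≤ S) (hB : B ∈ D) (hBS : B ≤ S) :
    ∃ u ∈ Q, B = cj u A :=
  exists_cj_eq hP hA hB h.qgroup (hAS.trans h.norm) (hBS.trans (h.split A hA hAS))

theorem IsDQ.not_dvd_two (hA : A ∈ D) (hAS : A ≤ S) : ¬ 2 ∣ Nat.card S := fun h2 => by
  haveI := Fact.mk Nat.prime_two
  haveI := Fact.mk hP.hq
  obtain ⟨⟨x, hx⟩, hxo⟩ := exists_prime_orderOf_dvd_card' 2 h2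
  rw [Subgroup.orderOf_mk] at hxo
  obtain ⟨u, hu, a, ha, rfl⟩ := h.mem_decomp hP hA hAS hx
  obtain ⟨u', hu', he⟩ := exists_mul_pow hu ((hAS.trans h.norm) ha) p
  have hap : a ^ p = 1 :=
    orderOf_dvd_iff_pow_eq_one.1 (hP.card A hA ▸ Subgroup.orderOf_dvd_natCard A ha)
  rw [hap, mul_one] at he
  obtain ⟨k, hk⟩ := h.qgroup ⟨u', hu'⟩
  have hpow : (u * a) ^ (p * q ^ k) = 1 := by
    rw [pow_mul, he]; exact congrArg Subtype.val hk
  have h3 := orderOf_dvd_of_pow_eq_one hpow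
  rw [hxo] at h3
  rcases (Nat.Prime.dvd_mul Nat.prime_two).1 h3 with h4 | h4
  · exact hP.hp2 ((Nat.prime_dvd_prime_iff_eq Nat.prime_two hP.hp).1 h4).symm
  · exact hP.hq2 ((Nat.prime_dvd_prime_iff_eq Nat.prime_two hP.hq).1
      (Nat.prime_two.dvd_of_dvd_pow h4)).symm

/-- An element normalising `S` and two members, centralising one, centralises the other. -/
theorem IsDQ.cent_of_normalizer (hA : A ∈ D) (hAS : A ≤ S) (hB : B ∈ D) (hBS : B ≤ S) {x : G}
    (hxS : x ∈ normalizer (S : Set G)) (hxB : x ∈ normalizer (B : Set G))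
    (hxA : x ∈ centralizer (A : Set G)) : x ∈ centralizer (B : Set G) := by
  obtain ⟨u, hu, rfl⟩ := h.exists_cj hP hA hAS hB hBS
  refine mem_cent.2 fun b hb => ?_
  set a := u⁻¹ * b * u with ha'
  have ha : a ∈ A := mem_cj.1 hb
  have hb' : b = u * a * u⁻¹ := by rw [ha']; group
  have hu' : x * u * x⁻¹ ∈ Q :=
    (Subgroup.mem_normalizer_iff.1 (h.normalizer_le hP hA hAS hxS) u).1 hu
  have hxa : x * a * x⁻¹ = a := by
    rw [← mem_cent.1 hxA a ha, mul_inv_cancel_right]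
  set u' := x * u * x⁻¹ with hu''
  have e : x * b * x⁻¹ * b⁻¹ = u' * (a * (u'⁻¹ * u) * a⁻¹) * u⁻¹ := by
    calc x * b * x⁻¹ * b⁻¹ = u' * (x * a * x⁻¹) * u'⁻¹ * b⁻¹ := by rw [hu'', hb']; group
      _ = u' * (a * (u'⁻¹ * u) * a⁻¹) * u⁻¹ := by rw [hxa, hb']; group
  have h1 : x * b * x⁻¹ * b⁻¹ ∈ Q := by
    rw [e]
    exact mul_mem (mul_mem hu' ((Subgroup.mem_normalizer_iff.1 ((hAS.trans h.norm) ha) _).1
      (mul_mem (inv_mem hu') hu))) (inv_mem hu)
  have h2 : x * b * x⁻¹ * b⁻¹ ∈ cj u A :=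
    mul_mem ((Subgroup.mem_normalizer_iff.1 hxB b).1 hb) (inv_mem hb)
  have h3 := eq_one_of_mem hP hB h.qgroup h1 h2
  calc b * x = (x * b * x⁻¹ * b⁻¹) * b * x := by rw [h3, one_mul]
    _ = x * b := by group

/-- A `q`-element normalising `S` and centralising a member centralises a second one. -/
theorem IsDQ.exists_second (hA : A ∈ D) (hAS : A ≤ S) (hB : B ∈ D) (hBS : B ≤ S) (hBA : B ≠ A)
    {x : G} {k : ℕ} (hk : x ^ q ^ k = 1) (hxS : x ∈ normalizer (S : Set G))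
    (hxA : x ∈ centralizer (A : Set G)) :
    ∃ B' ∈ D, B' ≤ S ∧ B' ≠ A ∧ x ∈ centralizer (B' : Set G) := by
  haveI := Fact.mk hP.hq
  have hxQ := h.normalizer_le hP hA hAS hxS
  have hUq : IsPGroup q (zpowers x) := fun ⟨y, hy⟩ => by
    obtain ⟨m, rfl⟩ := mem_zpowers_iff.1 hy
    exact ⟨k, Subtype.ext (show (x ^ m) ^ q ^ k = 1 by
      rw [← zpow_natCast, ← zpow_mul, mul_comm, zpow_mul, zpow_natCast, hk, one_zpow])⟩
  set P := Q ⊔ zpowers x with hPdef
  have hPq : IsPGroup q P :=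
    h.qgroup.to_sup_of_normal_left' hUq (zpowers_le.2 hxQ)
  set P1 := P ⊓ normalizer (A : Set G) with hP1
  have hne : P1 ≠ P := fun he => by
    obtain ⟨u, hu, rfl⟩ := h.exists_cj hP hA hAS hB hBS
    exact hBA (cj_eq_iff.2 ((he.ge : P ≤ P1) (Subgroup.mem_sup_left hu)).2)
  obtain ⟨g, hgP, hg1, hgN⟩ := exists_grow hPq inf_le_left hne
  have hgS : g ∈ normalizer (S : Set G) :=
    (sup_le (h.le.trans Subgroup.le_normalizer) (zpowers_le.2 hxS) : P ≤ _) hgP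
  have hx1 : x ∈ P1 := ⟨Subgroup.mem_sup_right (mem_zpowers x), cent_le_normalizer A hxA⟩
  have hxg : x ∈ normalizer (cj g A : Set G) := by
    have h1 : g⁻¹ * x * g ∈ normalizer (A : Set G) := by
      have h0 := (Subgroup.mem_normalizer_iff.1 (inv_mem hgN) x).1 hx1
      rw [inv_inv] at h0
      exact h0.2
    refine cj_eq_iff.1 ?_
    rw [cj_cj, show x * g = g * (g⁻¹ * x * g) by group, ← cj_cj, cj_eq_iff.2 h1]
  have hB' : cj g A ≤ S := cj_le_of_mem hAS hgS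
  exact ⟨cj g A, hP.inv A hA g, hB', fun e => hg1 ⟨hgP, cj_eq_iff.1 e⟩,
    h.cent_of_normalizer hP hA hAS (hP.inv A hA g) hB' hxS hxg hxA⟩

/-- A `2`-group normalising `S` fixes a member. -/
theorem IsDQ.exists_fixed (hA : A ∈ D) (hAS : A ≤ S) {E : Subgroup G} (hE : IsPGroup 2 E)
    (hES : E ≤ normalizer (S : Set G)) :
    ∃ C ∈ D, C ≤ S ∧ E ≤ normalizer (C : Set G) := by
  haveI := Fact.mk Nat.prime_two
  haveI := Fact.mk hP.hp
  have hcop : (Nat.card E).Coprime (Nat.card S) := by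
    obtain ⟨k, hk⟩ := IsPGroup.iff_card.1 hE
    rw [hk]
    exact ((Nat.Prime.coprime_iff_not_dvd Nat.prime_two).2 (h.not_dvd_two hP hA hAS)).pow_left k
  obtain ⟨P, hPn⟩ := CoprimeAction.exists_invariant_sylow hES hcop
    (Or.inl (CoprimeAction.isSolvable_of_isPGroup hE)) p
  set U := (P : Subgroup S).map S.subtype with hU
  have hUS : U ≤ S := Subgroup.map_subtype_le _
  obtain ⟨u, hu, hle⟩ := exists_cj_of_le_sup hP hA h.qgroup (hAS.trans h.norm)
    (hUS.trans (h.split A hA hAS)) (P.2.map _)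
  have hU1 : U ≠ ⊥ := by
    rw [Ne, Subgroup.map_eq_bot_iff_of_injective _ (Subgroup.subtype_injective _)]
    exact P.ne_bot_of_dvd_card (hP.card A hA ▸ Subgroup.card_dvd_of_le hAS)
  have hUm : U = cj u A := by
    obtain ⟨⟨x, hx⟩, hx1⟩ := Subgroup.ne_bot_iff_exists_ne_one.1 hU1
    refine le_antisymm hle ?_
    rw [← zpowers_eq hP (hP.inv A hA u) (hle hx) (fun e => hx1 (Subtype.ext e))]
    exact zpowers_le.2 hx
  exact ⟨cj u A, hP.inv A hA u, cj_le_of_mem hAS (Subgroup.le_normalizer (h.le hu)), hUm ▸ hPn⟩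

end DQ

section Cent

variable [Finite G] (hP : Pairs p q D) (hG : Good q D) {S Q A : Subgroup G} (h : IsDQ q D S Q)
include hP hG h

theorem IsDQ.phi_le_cent (hA : A ∈ D) (hAS : A ≤ S) :
    Q ⊓ centralizer (A : Set G) ≤ centralizer (S : Set G) := by
  intro x hx
  have hxQ : x ∈ centralizer (Q : Set G) := by
    rcases hG with h1 | h2
    · rw [h1 S Q h A hA hAS, Subgroup.mem_bot] at hx
      rw [hx]; exact one_mem _
    · exact (h2 S Q h A hA hAS).2 hx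
  refine le_cent_singleton.1 ((h.split A hA hAS).trans (sup_le ?_ ?_))
  · exact le_cent_singleton.2 hxQ
  · exact le_cent_singleton.2 hx.2

omit hP in
theorem IsDQ.commutator_le (hA : A ∈ D) (hAS : A ≤ S)
    (hw : ∃ T R B, IsDQ q D T R ∧ B ∈ D ∧ B ≤ T ∧ R ⊓ centralizer (B : Set G) ≠ ⊥) :
    ⁅Q, Q⁆ ≤ Q ⊓ centralizer (A : Set G) := by
  obtain ⟨T, R, B, hT, hB, hBT, hne⟩ := hw
  rcases hG with h1 | h2
  · exact absurd (h1 T R hT B hB hBT) hne
  · exact le_inf (Subgroup.commutator_le_self Q) (h2 S Q h A hA hAS).1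

end Cent

end Cfsg.Agent.OddPairs70
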