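import Cfsg.Agent.Lib.OddPairs70Trouble

/-!
# Fixed points of an odd coprime group on a `q`-group with restricted commutators
-/

set_option autoImplicit false
set_option linter.unusedSectionVars false
set_option linter.style.haveILetI false

namespace Cfsg.Agent.OddPairs70

open Subgroup
open scoped commutatorElement

universe u

variable {X : Type u} [Group X] [Finite X] {q : ℕ}

theorem inf_centralizer_normal (Q : Subgroup X) [Q.Normal] :
    (Q ⊓ centralizer (Q : Set X)).Normal :=
  ⟨fun z hz g => ⟨Subgroup.Normal.conj_mem inferInstance z hz.1 g, by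
    have h1 := mem_cent_cj (g := g) hz.2
    rwa [cj_eq_iff.2 (by rw [Subgroup.normalizer_eq_top_iff.2 inferInstance]; exact mem_top g)]
      at h1⟩⟩

theorem normal_of_sup {Q A N : Subgroup X} (htop : Q ⊔ A = ⊤) (hQ : Q ≤ normalizer (N : Set X))
    (hA : A ≤ normalizer (N : Set X)) : N.Normal := by
  rw [← Subgroup.normalizer_eq_top_iff, eq_top_iff, ← htop]
  exact sup_le hQ hA

theorem le_normalizer_of_normal {N U : Subgroup X} [N.Normal] : U ≤ normalizer (N : Set X) := by
  rw [Subgroup.normalizer_eq_top_iff.2 inferInstance]; exact le_top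

/-- `z w z⁻¹ = w` when `z` commutes with `w`. -/
theorem conj_eq_self {z w : X} (h : w * z = z * w) : z * w * z⁻¹ = w := by
  rw [← h, mul_inv_cancel_right]

theorem fpf_of_decomp_aux [Fact q.Prime] : ∀ (n : ℕ) {X : Type u} [Group X] [Finite X]
    (A Q : Subgroup X), Nat.card X = n → IsPGroup q Q → Q.Normal → Q ⊔ A = ⊤ →
      (Nat.card A).Coprime (Nat.card Q) → Odd (Nat.card A) → Q ≤ ⁅Q, A⁆ →
      (∀ x ∈ Q, ∃ c ∈ Q ⊓ centralizer (A : Set X), ∀ a ∈ A,
        Commute (x * c) (a * (x * c) * a⁻¹)) →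
      Q ⊓ centralizer (A : Set X) = ⊥ := by
  intro n
  induction n using Nat.strong_induction_on with
  | _ n IH =>
    intro X _ _ A Q hn hQ hQn htop hcop hodd hgen hdec
    haveI := hQn
    have hAQ : A ≤ normalizer (Q : Set X) := le_normalizer_of_normal
    have hsol : Group.IsSolvable A ∨ Group.IsSolvable Q :=
      Or.inr (CoprimeAction.isSolvable_of_isPGroup hQ)
    -- reduction modulo a normal subgroup inside `Q`
    have hIH : ∀ N : Subgroup X, N.Normal → N ≠ ⊥ → Q ⊓ centralizer (A : Set X) ≤ N := by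
      intro N _ hN1
      set π := QuotientGroup.mk' N with hπ
      have hlt : Nat.card (X ⧸ N) < n := by
        have h1 := Subgroup.card_eq_card_quotient_mul_card_subgroup N
        have h2 : 1 < Nat.card N := (Subgroup.one_lt_card_iff_ne_bot N).2 hN1
        have h3 : 0 < Nat.card (X ⧸ N) := Nat.card_pos
        calc Nat.card (X ⧸ N) = Nat.card (X ⧸ N) * 1 := (mul_one _).symm
          _ < Nat.card (X ⧸ N) * Nat.card N := Nat.mul_lt_mul_of_pos_left h2 h3
          _ = n := h1.symm.trans hn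
      have hfix : (Q ⊓ centralizer (A : Set X)).map π =
          Q.map π ⊓ centralizer ((A.map π : Subgroup (X ⧸ N)) : Set (X ⧸ N)) :=
        CoprimeAction.map_inf_centralizer_eq π hAQ hcop hsol
      have h := IH _ hlt (A.map π) (Q.map π) rfl (hQ.map π)
        (hQn.map π (QuotientGroup.mk'_surjective N))
        (by rw [← Subgroup.map_sup, htop,
          Subgroup.map_top_of_surjective _ (QuotientGroup.mk'_surjective N)])
        ((hcop.coprime_dvd_left (Subgroup.card_map_dvd _ _)).coprime_dvd_right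
          (Subgroup.card_map_dvd _ _))
        (hodd.of_dvd_nat (Subgroup.card_map_dvd _ _))
        (by rw [← Subgroup.map_commutator]; exact Subgroup.map_mono hgen)
        (by
          rintro _ ⟨x, hx, rfl⟩
          obtain ⟨c, hc, hcc⟩ := hdec x hx
          refine ⟨π c, hfix ▸ Subgroup.mem_map_of_mem π hc, ?_⟩
          rintro _ ⟨a, ha, rfl⟩
          have := (hcc a ha).map π
          simpa only [map_mul, map_inv] using this)
      rw [← hfix, Subgroup.map_eq_bot_iff, hπ, QuotientGroup.ker_mk'] at h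
      exact h
    set Zq := Q ⊓ centralizer (Q : Set X) with hZq
    haveI hZn : Zq.Normal := inf_centralizer_normal Q
    set V := ⁅Zq, A⁆ with hV
    by_contra hne
    by_cases hV1 : V = ⊥
    swap
    · have hVZ : V ≤ Zq := CoprimeAction.commutator_le_self_of_le_normalizer le_normalizer_of_normal
      have hQV : Q ≤ normalizer (V : Set X) := fun x hx => cent_le_normalizer V
        (mem_cent.2 fun v hv => (mem_cent.1 (hVZ hv).2 x hx).symm)
      have hVn : V.Normal := normal_of_sup htop hQV (Subgroup.normalizer_commutator_ge_right _ _)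
      refine hne (le_bot_iff.1 fun c hc => ?_)
      haveI : IsMulCommutative Zq :=
        ⟨⟨fun x y => Subtype.ext (mem_cent.1 y.2.2 _ x.2.1)⟩⟩
      rw [← CoprimeAction.inf_centralizer_inf_commutator_eq_bot (V := Zq) (A := A)
        le_normalizer_of_normal (hcop.coprime_dvd_right (Subgroup.card_dvd_of_le inf_le_left))]
      have hcV : c ∈ V := hIH V hVn hV1 hc
      exact ⟨⟨hVZ hcV, hc.2⟩, hcV⟩
    -- the centre of `Q` is fixed
    have hZC : Zq ≤ Q ⊓ centralizer (A : Set X) :=
      le_inf inf_le_left (Subgroup.commutator_eq_bot_iff_le_centralizer.1 hV1)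
    have hQ1 : Q ≠ ⊥ := fun e => hne (by rw [e, bot_inf_eq])
    have hZ1 : Zq ≠ ⊥ := by
      obtain ⟨v, hv, hv1, hvc⟩ := exists_fixed_qgroup hQ hQ1 hQ Subgroup.le_normalizer
      exact fun e => hv1 (Subgroup.mem_bot.1 (e ▸ ⟨hv, mem_cent.2 hvc⟩))
    have hCZ : Q ⊓ centralizer (A : Set X) ≤ Zq := hIH Zq hZn hZ1
    have hZQ : ∀ z ∈ Zq, ∀ x ∈ Q, x * z = z * x := fun z hz x hx => mem_cent.1 hz.2 x hx
    have hZA : ∀ z ∈ Zq, ∀ a ∈ A, a * z = z * a := fun z hz a ha => mem_cent.1 (hZC hz).2 a ha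
    have hcomm : ∀ x ∈ Q, ∀ a ∈ A, Commute x (a * x * a⁻¹) := by
      intro x hx a ha
      obtain ⟨c, hc, hcc⟩ := hdec x hx
      have hcz := hCZ hc
      have hx' : a * x * a⁻¹ ∈ Q := Subgroup.Normal.conj_mem inferInstance x hx a
      have h1 : a * (x * c) * a⁻¹ = a * x * a⁻¹ * c := by
        calc a * (x * c) * a⁻¹ = a * x * a⁻¹ * (a * c * a⁻¹) := by group
          _ = a * x * a⁻¹ * c := by rw [conj_eq_self (hZA c hcz a ha).symm]
      have h2 := hcc a ha
      rw [h1] at h2
      have hxc : Commute x c := hZQ c hcz x hx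
      have hx'c : Commute (a * x * a⁻¹) c := hZQ c hcz _ hx'
      have h3 : Commute (x * c) (a * x * a⁻¹) := by
        have := h2.mul_right ((hxc.mul_left (Commute.refl c)).inv_right)
        rwa [mul_inv_cancel_right] at this
      have h4 := h3.mul_left hx'c.symm.inv_left
      rwa [mul_inv_cancel_right] at h4
    -- elements central modulo the centre are central
    have hZ2 : ∀ m ∈ Q, (∀ y ∈ Q, ⁅m, y⁆ ∈ Zq) → m ∈ Zq := by
      intro m hm hmy
      have hconj : ∀ b ∈ A, ∀ y ∈ Q, ⁅b * m * b⁻¹, b * y * b⁻¹⁆ = ⁅m, y⁆ := fun b hb y hy => by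
        rw [← conj_commutator]
        exact conj_eq_self (hZA _ (hmy y hy) b hb).symm
      have hsq : ∀ a ∈ A, (a * a) * m * (a * a)⁻¹ * m⁻¹ ∈ Zq := by
        intro a ha
        set m' := a * m * a⁻¹ with hm'
        set m'' := a⁻¹ * m * a with hm''
        have hm'Q : m' ∈ Q := Subgroup.Normal.conj_mem inferInstance m hm a
        have hm''Q : m'' ∈ Q := by
          have := Subgroup.Normal.conj_mem inferInstance m hm a⁻¹
          rwa [inv_inv] at this
        have hm'y : ∀ y ∈ Q, ⁅m', y⁆ ∈ Zq := by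
          intro y hy
          have hy' : a⁻¹ * y * a ∈ Q := by
            have := Subgroup.Normal.conj_mem inferInstance y hy a⁻¹
            rwa [inv_inv] at this
          have h1 := hconj a ha _ hy'
          rw [← hm', show a * (a⁻¹ * y * a) * a⁻¹ = y by group] at h1
          rw [h1]
          exact hmy _ hy'
        have hym' : ∀ y ∈ Q, ⁅y, m'⁆ ∈ Zq := fun y hy => by
          rw [← commutatorElement_inv]; exact inv_mem (hm'y y hy)
        have hkey : ∀ y ∈ Q, ⁅m', y⁆ = ⁅m'', y⁆ := by
          intro y hy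
          set y' := a * y * a⁻¹ with hy'
          have hy'Q : y' ∈ Q := Subgroup.Normal.conj_mem inferInstance y hy a
          have e1 : ⁅m * y, m' * y'⁆ = 1 := by
            rw [commutatorElement_eq_one_iff_commute,
              show m' * y' = a * (m * y) * a⁻¹ by rw [hm', hy']; group]
            exact hcomm _ (mul_mem hm hy) a ha
          have e2 : ⁅y, m' * y'⁆ = ⁅y, m'⁆ := by
            rw [commutator_mul_right,
              commutatorElement_eq_one_iff_commute.2 (hcomm y hy a ha)]
            group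
          have e3 : ⁅m, m' * y'⁆ = ⁅m, y'⁆ := by
            rw [commutator_mul_right, commutatorElement_eq_one_iff_commute.2 (hcomm m hm a ha),
              one_mul, conj_eq_self (hZQ _ (hmy y' hy'Q) m' hm'Q).symm]
          have e4 : ⁅m * y, m' * y'⁆ = m * ⁅y, m' * y'⁆ * m⁻¹ * ⁅m, m' * y'⁆ := by
            simp only [commutatorElement_def]; group
          rw [e1, e2, e3, conj_eq_self (hZQ _ (hym' y hy) m hm).symm] at e4
          have e5 : ⁅m, y'⁆ = ⁅m', y⁆ := by
            rw [← commutatorElement_inv y m']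
            exact eq_inv_of_mul_eq_one_right e4.symm
          have hmy'' : ∀ z ∈ Q, ⁅m'', z⁆ = ⁅m, a * z * a⁻¹⁆ := fun z hz => by
            have h := hconj a⁻¹ (inv_mem ha) _ (Subgroup.Normal.conj_mem inferInstance z hz a)
            rw [inv_inv, ← hm'', show a⁻¹ * (a * z * a⁻¹) * a = z by group] at h
            exact h
          rw [hmy'' y hy, e5]
        have hw : m''⁻¹ * m' ∈ Zq := by
          refine Subgroup.mem_inf.2 ⟨mul_mem (inv_mem hm''Q) hm'Q, mem_cent.2 fun y hy => ?_⟩
          have h1 : ⁅m', y⁆ = m'' * ⁅m''⁻¹ * m', y⁆ * m''⁻¹ * ⁅m'', y⁆ := by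
            simp only [commutatorElement_def]; group
          rw [hkey y hy, right_eq_mul, conj_eq_one_iff,
            commutatorElement_eq_one_iff_commute] at h1
          exact h1.eq.symm
        have h2 := Subgroup.Normal.conj_mem (inferInstance : Zq.Normal) _ hw a
        have h3 : a * (m''⁻¹ * m') * a⁻¹ = m⁻¹ * ((a * a) * m * (a * a)⁻¹) := by
          rw [hm', hm'']; group
        rw [h3] at h2
        have h4 := Subgroup.Normal.conj_mem (inferInstance : Zq.Normal) _ h2 m
        rwa [← mul_assoc, mul_inv_cancel, one_mul] at h4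
      set π := QuotientGroup.mk' Zq with hπ
      have hfixm : π m ∈ Q.map π ⊓ centralizer ((A.map π : Subgroup (X ⧸ Zq)) : Set (X ⧸ Zq)) := by
        refine ⟨Subgroup.mem_map_of_mem π hm, mem_cent.2 ?_⟩
        rintro _ ⟨a, ha, rfl⟩
        obtain ⟨j, hj⟩ := IsolatedInv.odd_pow_sq (d := a)
          (hodd.of_dvd_nat (Subgroup.orderOf_dvd_natCard A ha))
        have h1 : Commute (π (a ^ 2)) (π m) := by
          have h2 := hsq a ha
          rw [← QuotientGroup.ker_mk' Zq, MonoidHom.mem_ker, ← hπ] at h2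
          simp only [map_mul, map_inv] at h2
          rw [map_pow, pow_two]
          exact mul_inv_eq_iff_eq_mul.1 (mul_inv_eq_one.1 h2)
        have h2 := h1.pow_left j
        rw [← map_pow, hj] at h2
        exact h2.eq
      rw [← CoprimeAction.map_inf_centralizer_eq π hAQ hcop hsol] at hfixm
      obtain ⟨c, hc, hcm⟩ := hfixm
      have h5 : π m = 1 := by
        rw [← hcm, ← MonoidHom.mem_ker, hπ, QuotientGroup.ker_mk']
        exact hCZ hc
      rwa [← MonoidHom.mem_ker, hπ, QuotientGroup.ker_mk'] at h5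
    -- so `Q` is its own centre
    have hQZ : Q ≤ Zq := by
      set π := QuotientGroup.mk' Zq with hπ
      have hker : ∀ x : X, π x = 1 ↔ x ∈ Zq := fun x => by
        rw [← MonoidHom.mem_ker, hπ, QuotientGroup.ker_mk']
      by_contra hcon
      have hb1 : Q.map π ≠ ⊥ := fun e => hcon fun x hx =>
        (hker x).1 (Subgroup.mem_bot.1 (e ▸ Subgroup.mem_map_of_mem π hx))
      obtain ⟨v, hv, hv1, hvc⟩ :=
        exists_fixed_qgroup (hQ.map π) hb1 (hQ.map π) Subgroup.le_normalizer
      obtain ⟨m, hm, rfl⟩ := Subgroup.mem_map.1 hv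
      refine hv1 ((hker m).2 (hZ2 m hm fun y hy => (hker _).1 ?_))
      rw [map_commutatorElement, commutatorElement_eq_one_iff_mul_comm]
      exact (hvc _ (Subgroup.mem_map_of_mem π hy)).symm
    refine hQ1 (le_bot_iff.1 (hgen.trans ?_))
    calc ⁅Q, A⁆ ≤ ⁅Zq, A⁆ := Subgroup.commutator_mono hQZ le_rfl
      _ ≤ ⊥ := hV1.le

/-- Fixed point freeness. -/
theorem fpf_of_decomp [Fact q.Prime] {A Q : Subgroup X} (hQ : IsPGroup q Q) (hQn : Q.Normal)
    (htop : Q ⊔ A = ⊤) (hcop : (Nat.card A).Coprime (Nat.card Q)) (hodd : Odd (Nat.card A))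
    (hgen : Q ≤ ⁅Q, A⁆) (hdec : ∀ x ∈ Q, ∃ c ∈ Q ⊓ centralizer (A : Set X), ∀ a ∈ A,
      Commute (x * c) (a * (x * c) * a⁻¹)) :
    Q ⊓ centralizer (A : Set X) = ⊥ :=
  fpf_of_decomp_aux _ A Q rfl hQ hQn htop hcop hodd hgen hdec

/-- When all invariant abelian subgroups are centralised, the class is two. -/
theorem class_two [Fact q.Prime] {A Q : Subgroup X} (hQ : IsPGroup q Q) (hQn : Q.Normal)
    (htop : Q ⊔ A = ⊤) (hcop : (Nat.card A).Coprime (Nat.card Q)) (hgen : Q ≤ ⁅Q, A⁆)
    (hU : ∀ U : Subgroup X, U.Normal → U ≤ Q → (∀ x ∈ U, ∀ y ∈ U, x * y = y * x) →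
      U ≤ centralizer (A : Set X)) :
    ⁅Q, Q⁆ ≤ centralizer (A : Set X) ∧
      Q ⊓ centralizer (A : Set X) ≤ centralizer (Q : Set X) := by
  haveI := hQn
  have hAQ : A ≤ normalizer (Q : Set X) := le_normalizer_of_normal
  have hsol : Group.IsSolvable A ∨ Group.IsSolvable Q :=
    Or.inr (CoprimeAction.isSolvable_of_isPGroup hQ)
  set Zq := Q ⊓ centralizer (Q : Set X) with hZq
  haveI hZn : Zq.Normal := inf_centralizer_normal Q
  have hZC : Zq ≤ centralizer (A : Set X) :=
    hU Zq hZn inf_le_left fun x hx y hy => mem_cent.1 hy.2 x hx.1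
  -- an invariant subgroup centralised by `A` is centralised by `Q`
  have htrans : ∀ U : Subgroup X, U.Normal → U ≤ centralizer (A : Set X) →
      U ≤ centralizer (Q : Set X) := by
    intro U hUn hUC u hu
    refine le_cent_singleton.1 (hgen.trans (Subgroup.commutator_le.2 fun x hx a ha => ?_))
    rw [mem_centralizer_singleton_iff]
    have h1 : a * (x⁻¹ * u * x) = (x⁻¹ * u * x) * a := mem_cent.1 (hUC (by
      have := hUn.conj_mem u hu x⁻¹
      rwa [inv_inv] at this)) a ha
    have h2 : a⁻¹ * u = u * a⁻¹ := mem_cent.1 (hUC hu) _ (inv_mem ha)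
    rw [commutatorElement_def]
    calc x * a * x⁻¹ * a⁻¹ * u = x * a * x⁻¹ * (u * a⁻¹) := by rw [← h2]; group
      _ = x * (a * (x⁻¹ * u * x)) * x⁻¹ * a⁻¹ := by group
      _ = u * (x * a * x⁻¹ * a⁻¹) := by rw [h1]; group
  -- the derived subgroup is central
  set π := QuotientGroup.mk' Zq with hπ
  have hker : ∀ x : X, π x = 1 ↔ x ∈ Zq := fun x => by
    rw [← MonoidHom.mem_ker, hπ, QuotientGroup.ker_mk']
  have hQ'Q : ⁅Q, Q⁆ ≤ Q := Subgroup.commutator_le_self Q
  have hQ'n : (⁅Q, Q⁆ : Subgroup X).Normal := inferInstance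
  have hder : ⁅Q, Q⁆ ≤ Zq := by
    by_contra hcon
    have hb1 : (⁅Q, Q⁆).map π ≠ ⊥ := fun e => hcon fun x hx =>
      (hker x).1 (Subgroup.mem_bot.1 (e ▸ Subgroup.mem_map_of_mem π hx))
    have hnor : Q.map π ≤ normalizer ((⁅Q, Q⁆).map π : Set (X ⧸ Zq)) :=
      (Subgroup.map_mono le_normalizer_of_normal).trans (Subgroup.le_normalizer_map π)
    obtain ⟨v, hv, hv1, hvc⟩ :=
      exists_fixed_qgroup ((hQ.to_le hQ'Q).map π) hb1 (hQ.map π) hnor
    obtain ⟨m, hm, rfl⟩ := Subgroup.mem_map.1 hv
    refine hv1 ((hker m).2 ?_)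
    -- `m` lies in the abelian subgroup of elements of `Q'` central modulo the centre
    let W : Subgroup X := ⁅Q, Q⁆ ⊓
      ((centralizer ((Q.map π : Subgroup (X ⧸ Zq)) : Set (X ⧸ Zq))).comap π)
    have hWn : W.Normal := by
      haveI : (Q.map π).Normal := hQn.map π (QuotientGroup.mk'_surjective Zq)
      haveI : (centralizer ((Q.map π : Subgroup (X ⧸ Zq)) : Set (X ⧸ Zq))).Normal :=
        ⟨fun z hz g => by
          have h1 := mem_cent_cj (g := g) hz
          rwa [cj_eq_iff.2 (by rw [Subgroup.normalizer_eq_top_iff.2 inferInstance]; exact mem_top g)]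
            at h1⟩
      exact Subgroup.normal_inf_normal _ _
    have hWab : ∀ x ∈ W, ∀ y ∈ W, x * y = y * x := by
      intro x hx y hy
      refine (mem_centralizer_singleton_iff.1 (?_ : y ∈ centralizer ({x} : Set X))).symm
      refine (Subgroup.commutator_le.2 ?_ : ⁅Q, Q⁆ ≤ centralizer ({x} : Set X)) hy.1
      intro g hg k hk
      have hc : ∀ g ∈ Q, ⁅x, g⁆ ∈ Zq := fun g hg => (hker _).1 (by
        rw [map_commutatorElement, commutatorElement_eq_one_iff_mul_comm]
        exact (mem_cent.1 hx.2 _ (Subgroup.mem_map_of_mem π hg)).symm)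
      rw [mem_centralizer_singleton_iff]
      have hxg : ∀ g ∈ Q, x * g * x⁻¹ = ⁅x, g⁆ * g := fun g _ => by
        rw [commutatorElement_def]; group
      have hcen : ∀ z ∈ Zq, ∀ g ∈ Q, g * z = z * g := fun z hz g hg => mem_cent.1 hz.2 g hg
      have h1 : x * ⁅g, k⁆ * x⁻¹ = ⁅g, k⁆ := by
        rw [conj_commutator, hxg g hg, hxg k hk]
        set c := ⁅x, g⁆ with hc1
        set d := ⁅x, k⁆ with hd1
        have hcz := hc g hg
        have hdz := hc k hk
        have e1 : c * g * (d * k) = c * d * (g * k) := by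
          rw [mul_assoc c g, ← mul_assoc g d, hcen d hdz g hg]; group
        have e2 : d * k * (c * g) = c * d * (k * g) := by
          rw [mul_assoc d k, ← mul_assoc k c, hcen c hcz k hk, ← mul_assoc d (c * k),
            ← mul_assoc d c, hcen c hcz d hdz.1]
          group
        calc ⁅c * g, d * k⁆ = (c * g * (d * k)) * ((d * k) * (c * g))⁻¹ := by
              rw [commutatorElement_def]; group
          _ = (c * d) * ⁅g, k⁆ * (c * d)⁻¹ := by
              rw [e1, e2, commutatorElement_def]; group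
          _ = ⁅g, k⁆ := conj_eq_self (hcen _ (mul_mem hcz hdz) _
              (hQ'Q (Subgroup.commutator_mem_commutator hg hk))).symm.symm
      calc ⁅g, k⁆ * x = x * ⁅g, k⁆ * x⁻¹ * x := by rw [h1]
        _ = x * ⁅g, k⁆ := by group
    have hmW : m ∈ W := ⟨hm, mem_cent.2 fun y hy => (hvc y hy).symm.symm⟩
    exact ⟨hQ'Q hm, htrans W hWn (hU W hWn (inf_le_left.trans hQ'Q) hWab) hmW⟩
  refine ⟨hder.trans hZC, ?_⟩
  -- fixed points of the abelian quotient
  haveI hQn' : (Q.map π).Normal := hQn.map π (QuotientGroup.mk'_surjective Zq)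
  haveI : IsMulCommutative (Q.map π) := ⟨⟨by
    rintro ⟨_, x, hx, rfl⟩ ⟨_, y, hy, rfl⟩
    refine Subtype.ext ?_
    change π x * π y = π y * π x
    rw [← commutatorElement_eq_one_iff_mul_comm, ← map_commutatorElement, hker]
    exact hder (Subgroup.commutator_mem_commutator hx hy)⟩⟩
  have h := CoprimeAction.inf_centralizer_inf_commutator_eq_bot (V := Q.map π) (A := A.map π)
    le_normalizer_of_normal ((hcop.coprime_dvd_left (Subgroup.card_map_dvd _ _)).coprime_dvd_right
      (Subgroup.card_map_dvd _ _))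
  rw [← Subgroup.map_commutator, ← CoprimeAction.map_inf_centralizer_eq π hAQ hcop hsol] at h
  intro c hc
  have h1 : π c ∈ ((Q ⊓ centralizer (A : Set X)).map π) ⊓ (⁅Q, A⁆).map π :=
    ⟨Subgroup.mem_map_of_mem π hc, Subgroup.mem_map_of_mem π (hgen hc.1)⟩
  rw [h, Subgroup.mem_bot, hker] at h1
  exact h1.2

end Cfsg.Agent.OddPairs70
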