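import Cfsg.Agent.Lib.OddPairs70Defs
import Cfsg.Agent.Lib.ComponentsCores

/-!
# Restriction to subgroups and passage to quotients
-/

set_option autoImplicit false
set_option linter.unusedSectionVars false
set_option linter.style.haveILetI false

namespace Cfsg.Agent.OddPairs70

open Subgroup

variable {G : Type*} [Group G] {H : Type*} [Group H] {D : Set (Subgroup G)} {p q : ℕ}

theorem map_cj (f : G →* H) (g : G) (B : Subgroup G) : (cj g B).map f = cj (f g) (B.map f) := by
  rw [cj, cj, Subgroup.map_map, Subgroup.map_map]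
  congr 1
  ext x
  simp

theorem map_mems_le (f : G →* H) {E : Set (Subgroup H)} (h : ∀ B ∈ D, B.map f ∈ E)
    (S : Subgroup G) : (mems D S).map f ≤ mems E (S.map f) := by
  rw [Subgroup.map_le_iff_le_comap]
  refine sSup_le fun B hB => ?_
  rw [← Subgroup.map_le_iff_le_comap]
  exact le_mems (h B hB.1) (Subgroup.map_mono hB.2)

/-- The members inside `K`, as subgroups of `K`. -/
def restr (D : Set (Subgroup G)) (K : Subgroup G) : Set (Subgroup K) := {B | B.map K.subtype ∈ D}

theorem exists_restr {K B : Subgroup G} (hB : B ∈ D) (hBK : B ≤ K) :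
    ∃ B' ∈ restr D K, B'.map K.subtype = B :=
  have he : (B.subgroupOf K).map K.subtype = B := Subgroup.map_subgroupOf_eq_of_le hBK
  ⟨B.subgroupOf K, show (B.subgroupOf K).map K.subtype ∈ D by rw [he]; exact hB, he⟩

theorem restr_gen {K : Subgroup G} (hK : K ≤ mems D K) : mems (restr D K) ⊤ = ⊤ := by
  refine top_le_iff.1 ((Subgroup.map_le_map_iff_of_injective K.subtype_injective).1 ?_)
  rw [← MonoidHom.range_eq_map, Subgroup.range_subtype]
  refine hK.trans (sSup_le fun B hB => ?_)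
  obtain ⟨B', hB', rfl⟩ := exists_restr hB.1 hB.2
  exact Subgroup.map_mono (le_mems hB' le_top)

theorem Pairs.restrict [Finite G] (hP : Pairs p q D) (K : Subgroup G) :
    Pairs p q (restr D K) where
  hp := hP.hp
  hq := hP.hq
  hpq := hP.hpq
  hp2 := hP.hp2
  hq2 := hP.hq2
  card A hA := (Subgroup.card_map_of_injective K.subtype_injective).symm.trans (hP.card _ hA)
  inv A hA g := by
    have h := hP.inv _ hA (g : G)
    change (cj g A).map K.subtype ∈ D
    rw [map_cj]
    exact h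
  ncomm A hA B hB hn := by
    refine Subgroup.map_injective K.subtype_injective (hP.ncomm _ hA _ hB ?_)
    rintro _ ⟨b, hb, rfl⟩
    have h1 := congrArg (Subgroup.map K.subtype) (cj_eq_iff.2 (hn hb))
    rw [map_cj] at h1
    exact cj_eq_iff.1 h1
  kern A hA B hB := by
    obtain ⟨Q, hQ, hle, hn, hs⟩ := hP.kern _ hA _ hB
    rw [← Subgroup.map_sup] at hle hn hs
    have he : (Q.subgroupOf K).map K.subtype = Q :=
      Subgroup.map_subgroupOf_eq_of_le (hle.trans (Subgroup.map_subtype_le _))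
    refine ⟨Q.subgroupOf K, hQ.comap_of_injective _ K.subtype_injective, ?_, ?_, ?_⟩
    · rwa [← Subgroup.map_le_map_iff_of_injective K.subtype_injective, he]
    · intro x hx
      refine cj_eq_iff.1 (Subgroup.map_injective K.subtype_injective ?_)
      rw [map_cj, he, cj_eq_iff.2 (hn (Subgroup.mem_map_of_mem _ hx))]
    · rwa [← Subgroup.map_le_map_iff_of_injective K.subtype_injective, Subgroup.map_sup (Q.subgroupOf K),
        he]
  line A hA B hB C hC hne hle := by
    rw [← Subgroup.map_le_map_iff_of_injective K.subtype_injective, Subgroup.map_sup]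
    refine hP.line _ hA _ hB _ hC (fun e => hne (Subgroup.map_injective K.subtype_injective e)) ?_
    rw [← Subgroup.map_sup]
    exact Subgroup.map_mono hle

theorem IsDQ.of_restr {K : Subgroup G} {S Q : Subgroup K} (h : IsDQ q (restr D K) S Q) :
    IsDQ q D (S.map K.subtype) (Q.map K.subtype) where
  gen := (Subgroup.map_mono h.gen).trans (map_mems_le K.subtype (fun _ hB => hB) S)
  qgroup := h.qgroup.map _
  le := Subgroup.map_mono h.le
  norm := (Subgroup.map_mono h.norm).trans (Subgroup.le_normalizer_map _)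
  split A hA hAS := by
    obtain ⟨A', hA', rfl⟩ := exists_restr hA (hAS.trans (Subgroup.map_subtype_le _))
    rw [← Subgroup.map_sup]
    exact Subgroup.map_mono
      (h.split A' hA' ((Subgroup.map_le_map_iff_of_injective K.subtype_injective).1 hAS))

theorem mem_cent_map_subtype {K A : Subgroup G} {x : K} {A' : Subgroup K}
    (hA : A'.map K.subtype = A) :
    x ∈ centralizer (A' : Set K) ↔ (x : G) ∈ centralizer (A : Set G) := by
  subst hA
  constructor
  · intro h
    refine mem_cent.2 ?_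
    rintro _ ⟨a, ha, rfl⟩
    exact congrArg Subtype.val (mem_cent.1 h a ha)
  · intro h
    exact mem_cent.2 fun a ha => Subtype.ext (mem_cent.1 h _ (Subgroup.mem_map_of_mem _ ha))

theorem Good.restrict (hG : Good q D) (K : Subgroup G) : Good q (restr D K) := by
  rcases hG with h | h
  · refine Or.inl fun S Q hS A hA hAS => le_bot_iff.1 fun x hx => ?_
    have h1 := h _ _ hS.of_restr _ hA (Subgroup.map_mono hAS)
    have h2 : (x : G) ∈ Q.map K.subtype ⊓ centralizer ((A.map K.subtype : Subgroup G) : Set G) :=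
      ⟨Subgroup.mem_map_of_mem _ hx.1, (mem_cent_map_subtype rfl).1 hx.2⟩
    rw [h1, Subgroup.mem_bot] at h2
    exact Subgroup.mem_bot.2 (Subtype.ext h2)
  · refine Or.inr fun S Q hS A hA hAS => ?_
    obtain ⟨h1, h2⟩ := h _ _ hS.of_restr _ hA (Subgroup.map_mono hAS)
    rw [← Subgroup.map_commutator] at h1
    exact ⟨fun x hx => (mem_cent_map_subtype rfl).2 (h1 (Subgroup.mem_map_of_mem _ hx)),
      fun x hx => (mem_cent_map_subtype rfl).2 (h2
        ⟨Subgroup.mem_map_of_mem _ hx.1, (mem_cent_map_subtype rfl).1 hx.2⟩)⟩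

/-- Result for a subgroup generated by members, from the group it forms. -/
theorem exists_isDQ_of_restr {K : Subgroup G}
    (h : ∃ Q, IsDQ q (restr D K) ⊤ Q) : ∃ Q, IsDQ q D K Q := by
  obtain ⟨Q, hQ⟩ := h
  have := hQ.of_restr
  rw [← MonoidHom.range_eq_map, Subgroup.range_subtype] at this
  exact ⟨_, this⟩

section Quot

variable {N : Subgroup G} [N.Normal]

/-- The images of the members in `G ⧸ N`. -/
def img (D : Set (Subgroup G)) (N : Subgroup G) [N.Normal] : Set (Subgroup (G ⧸ N)) :=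
  (fun B : Subgroup G => B.map (QuotientGroup.mk' N)) '' D

theorem img_gen (hgen : mems D ⊤ = ⊤) : mems (img D N) ⊤ = ⊤ := by
  refine top_le_iff.1 ?_
  calc ⊤ = (mems D ⊤).map (QuotientGroup.mk' N) := by
        rw [hgen, Subgroup.map_top_of_surjective _ (QuotientGroup.mk'_surjective N)]
    _ ≤ mems (img D N) ((⊤ : Subgroup G).map (QuotientGroup.mk' N)) :=
        map_mems_le (E := img D N) (QuotientGroup.mk' N) (fun B hB => ⟨B, hB, rfl⟩) ⊤
    _ ≤ mems (img D N) ⊤ := mems_mono le_top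

theorem Pairs.image [Finite G] (hP : Pairs p q D) (hNA : ∀ A ∈ D, A ⊓ N = ⊥) :
    Pairs p q (img D N) := by
  set π := QuotientGroup.mk' N with hπ
  have hcard : ∀ A ∈ D, Nat.card (A.map π) = p := by
    intro A hA
    have h := Subgroup.card_map_dvd A π
    rw [hP.card A hA] at h
    rcases (Nat.dvd_prime hP.hp).1 h with h1 | h1
    · rw [Subgroup.card_eq_one, Subgroup.map_eq_bot_iff, hπ, QuotientGroup.ker_mk'] at h1
      exact absurd (le_bot_iff.1 ((le_inf le_rfl h1).trans (hNA A hA).le)) (member_ne_bot hP hA)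
    · exact h1
  refine ⟨hP.hp, hP.hq, hP.hpq, hP.hp2, hP.hq2, ?_, ?_, ?_, ?_, ?_⟩
  · rintro _ ⟨A, hA, rfl⟩
    exact hcard A hA
  · rintro _ ⟨A, hA, rfl⟩ g
    obtain ⟨g, rfl⟩ := QuotientGroup.mk'_surjective N g
    exact ⟨cj g A, hP.inv A hA g, map_cj _ _ _⟩
  · rintro _ ⟨A, hA, rfl⟩ _ ⟨B, hB, rfl⟩ hn
    obtain ⟨Q, hQ⟩ := exists_isDQ_pair hP hA hB
    obtain ⟨u, hu, rfl⟩ := hQ.exists_cj hP hA le_sup_left hB le_sup_right
    have h1 : (A ⊔ cj u A).map π ≤ normalizer (A.map π : Set (G ⧸ N)) := by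
      rw [Subgroup.map_sup]
      exact sup_le Subgroup.le_normalizer hn
    change A.map π = (cj u A).map π
    rw [map_cj, cj_eq_iff.2 (h1 (Subgroup.mem_map_of_mem π (hQ.le hu)))]
  · rintro _ ⟨A, hA, rfl⟩ _ ⟨B, hB, rfl⟩
    obtain ⟨Q, hQ, hle, hn, hs⟩ := hP.kern A hA B hB
    refine ⟨Q.map π, hQ.map π, ?_, ?_, ?_⟩ <;> simp only [← hπ, ← Subgroup.map_sup]
    · exact Subgroup.map_mono hle
    · exact (Subgroup.map_mono hn).trans (Subgroup.le_normalizer_map π)
    · exact Subgroup.map_mono (f := π) hs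
  · rintro _ ⟨A, hA, rfl⟩ _ ⟨B, hB, rfl⟩ _ ⟨C, hC, rfl⟩ hne hle
    obtain ⟨Q, hQ, hQle, hn, hs⟩ := hP.kern A hA B hB
    have hAQ : A ≤ normalizer (Q : Set G) := le_sup_left.trans hn
    have hle' : C.map π ≤ Q.map π ⊔ A.map π := by
      rw [← Subgroup.map_sup]
      refine hle.trans ?_
      rw [← Subgroup.map_sup]
      exact Subgroup.map_mono hs
    haveI := Fact.mk hP.hp
    haveI := Fact.mk hP.hq
    obtain ⟨k, hk⟩ := IsPGroup.iff_card.1 (hQ.map π)
    obtain ⟨ū, hu, he⟩ := CoprimeExtra.exists_le_conj_of_le_sup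
      ((Subgroup.map_mono hAQ).trans (Subgroup.le_normalizer_map π)) hle'
      (by rw [hcard A hA, hk]; exact ((Nat.coprime_primes hP.hp hP.hq).2 hP.hpq).pow_right k)
      (by rw [hcard C hC, hk]; exact ((Nat.coprime_primes hP.hp hP.hq).2 hP.hpq).pow_right k)
      (Or.inl (CoprimeAction.isSolvable_of_isPGroup ((isPGroup_member hP hA).map π)))
    obtain ⟨u, huQ, rfl⟩ := Subgroup.mem_map.1 hu
    have he' : C.map π = (cj u A).map π := by
      refine Subgroup.eq_of_le_of_card_ge ?_ (by rw [hcard C hC, hcard _ (hP.inv A hA u)])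
      rw [map_cj]; exact he
    have hC' : cj u A ≤ A ⊔ B := cj_le_of_mem le_sup_left (Subgroup.le_normalizer (hQle huQ))
    have h := hP.line A hA B hB (cj u A) (hP.inv A hA u)
      (fun e => hne (he'.trans (congrArg _ e))) hC'
    change B.map π ≤ A.map π ⊔ C.map π
    rw [he', ← Subgroup.map_sup]
    exact Subgroup.map_mono h

theorem exists_lift [Finite G] (hP : Pairs p q D) (hN : IsPGroup q N ∨ N ≤ center G)
    (hNA : ∀ A ∈ D, A ⊓ N = ⊥) {Sb Qb : Subgroup (G ⧸ N)} (hD : IsDQ q (img D N) Sb Qb)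
    {A : Subgroup G} (hA : A ∈ D) (hAS : A.map (QuotientGroup.mk' N) ≤ Sb) :
    ∃ S Q, IsDQ q D S Q ∧ S = mems D (Sb.comap (QuotientGroup.mk' N)) ∧ A ≤ S ∧
      S.map (QuotientGroup.mk' N) = Sb ∧ Q.map (QuotientGroup.mk' N) = Qb := by
  haveI := Fact.mk hP.hq
  set π := QuotientGroup.mk' N with hπ
  have hsurj : Function.Surjective π := QuotientGroup.mk'_surjective N
  have hPb := hP.image hNA
  have hĀ : A.map π ∈ img D N := ⟨A, hA, rfl⟩
  set P := Qb.comap π with hPdef
  have hNP : N ≤ P := QuotientGroup.le_comap_mk' N Qb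
  -- the Sylow `q`-subgroup of the preimage of the kernel
  obtain ⟨R⟩ : Nonempty (Sylow q P) := inferInstance
  set g : P →* Qb := π.subgroupComap Qb with hg
  have hgs : Function.Surjective g := π.subgroupComap_surjective_of_surjective Qb hsurj
  have hker : ∀ x : P, x ∈ g.ker → (x : G) ∈ N := by
    intro x hx
    have h1 : π (x : G) = 1 := congrArg Subtype.val (MonoidHom.mem_ker.1 hx)
    rwa [← MonoidHom.mem_ker, hπ, QuotientGroup.ker_mk'] at h1
  have hRker : (R : Subgroup P) ⊔ g.ker = ⊤ := by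
    have h1 : ((R : Subgroup P) ⊔ g.ker).index ∣ (R : Subgroup P).index :=
      Subgroup.index_dvd_of_le le_sup_left
    have h2 : ((R : Subgroup P).map g).index = ((R : Subgroup P) ⊔ g.ker).index := by
      rw [Subgroup.index_map, g.range_eq_top_of_surjective hgs, Subgroup.index_top, mul_one]
    obtain ⟨n, hn⟩ := hD.qgroup.index ((R : Subgroup P).map g)
    rw [h2] at hn
    rw [← Subgroup.index_eq_one]
    rw [hn] at h1 ⊢
    rcases n with _ | n
    · rfl
    · exact absurd ((dvd_pow_self q n.succ_ne_zero).trans h1) R.not_dvd_index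
  have hRn : (R : Subgroup P).Normal := by
    rcases hN with hNq | hNc
    · have hk : IsPGroup q g.ker := fun ⟨x, hx⟩ => by
        obtain ⟨k, hk⟩ := hNq ⟨_, hker x hx⟩
        exact ⟨k, Subtype.ext (Subtype.ext (congrArg Subtype.val hk :))⟩
      have h1 : (R : Subgroup P) = ⊤ :=
        (R.3 (R.2.to_sup_of_normal_right hk) le_sup_left).symm.trans hRker
      rw [h1]; infer_instance
    · rw [← Subgroup.normalizer_eq_top_iff, eq_top_iff, ← hRker]
      refine sup_le Subgroup.le_normalizer fun x hx => cent_le_normalizer _ (mem_cent.2 fun y _ => ?_)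
      exact Subtype.ext (Subgroup.mem_center_iff.1 (hNc (hker x hx)) y)
  haveI : (R : Subgroup P).Characteristic := Sylow.characteristic_of_normal R hRn
  set S0 := (R : Subgroup P).map P.subtype with hS0
  have hS0P : S0 ≤ P := Subgroup.map_subtype_le _
  have hS0q : IsPGroup q S0 := R.2.map _
  have hPN : P ≤ S0 ⊔ N := by
    intro x hx
    have h1 : (⟨x, hx⟩ : P) ∈ (R : Subgroup P) ⊔ g.ker := hRker ▸ Subgroup.mem_top _
    have h2 := Subgroup.mem_map_of_mem P.subtype h1
    rw [Subgroup.map_sup] at h2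
    have h3 : g.ker.map P.subtype ≤ N := by
      rintro _ ⟨y, hy, rfl⟩
      exact hker y hy
    exact sup_le_sup_left h3 ((R : Subgroup P).map P.subtype) h2
  set S1 := Sb.comap π with hS1
  have hnS0 : S1 ≤ normalizer (S0 : Set G) := by
    refine le_trans ?_ (ComponentsCores.normalizer_le_normalizer_map_subtype P (R : Subgroup P))
    exact (Subgroup.comap_mono hD.norm).trans (Subgroup.le_normalizer_comap π)
  have hAS1 : A ≤ S1 := Subgroup.map_le_iff_le_comap.1 hAS
  set S := mems D S1 with hS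
  have hSle : S ≤ S1 := mems_le D S1
  have hAS' : A ≤ S := le_mems hA hAS1
  have hmem : ∀ B ∈ D, B ≤ S1 → B ≤ S0 ⊔ A := by
    intro B hB hBS
    obtain ⟨ū, hu, he⟩ := hD.exists_cj hPb hĀ hAS (B := B.map π) ⟨B, hB, rfl⟩
      (Subgroup.map_le_iff_le_comap.2 hBS)
    obtain ⟨x, hx⟩ := hsurj ū
    have hxP : x ∈ S0 ⊔ N := hPN (show π x ∈ Qb by rw [hx]; exact hu)
    rw [← SetLike.mem_coe, Subgroup.mul_normal] at hxP
    obtain ⟨u, hu0, n, hn, rfl⟩ := hxP
    have hxu : π u = ū := by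
      rw [← hx, map_mul, show π n = 1 by rw [← MonoidHom.mem_ker, QuotientGroup.ker_mk']; exact hn,
        mul_one]
    have h1 : B ≤ cj u A ⊔ N := by
      have h0 : B ≤ ((cj u A).map π).comap π :=
        Subgroup.map_le_iff_le_comap.1 (by rw [map_cj, hxu, ← he])
      rwa [Subgroup.comap_map_eq, QuotientGroup.ker_mk'] at h0
    have h2 : cj u A ≤ S0 ⊔ A :=
      cj_le_of_mem le_sup_right (Subgroup.le_normalizer (Subgroup.mem_sup_left hu0))
    rcases hN with hNq | hNc
    · refine h1.trans (sup_le h2 (le_trans ?_ le_sup_left))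
      have hPq : IsPGroup q P := hD.qgroup.comap_of_ker_isPGroup π
        (by rw [QuotientGroup.ker_mk']; exact hNq)
      intro y hy
      have hy' : (⟨y, hNP hy⟩ : P) ∈ (R : Subgroup P) := by
        have hR : (R : Subgroup P) = ⊤ :=
          (R.3 (hPq.of_equiv Subgroup.topEquiv.symm) le_top).symm
        rw [hR]; exact Subgroup.mem_top _
      exact ⟨_, hy', rfl⟩
    · have h3 : B ≤ normalizer (cj u A : Set G) := h1.trans (sup_le Subgroup.le_normalizer
        (hNc.trans ((Subgroup.center_le_centralizer _).trans (cent_le_normalizer _))))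
      rw [← hP.ncomm _ (hP.inv A hA u) B hB h3]
      exact h2
  have hSA : S ≤ S0 ⊔ A := sSup_le fun B hB => hmem B hB.1 hB.2
  have hsplit : ∀ x ∈ S, ∃ u ∈ S ⊓ S0, ∃ a ∈ A, x = u * a := by
    intro x hx
    obtain ⟨u, hu, a, ha, rfl⟩ := mem_sup_member hP hA (hAS1.trans hnS0) (hSA hx)
    refine ⟨u, ⟨?_, hu⟩, a, ha, rfl⟩
    simpa using mul_mem hx (inv_mem (hAS' ha))
  have hDQ : IsDQ q D S (S ⊓ S0) := by
    refine IsDQ.mk' hP hA hAS' (mems_mems _).ge (hS0q.to_le inf_le_right) inf_le_left ?_ ?_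
    · exact CoprimeAction.le_normalizer_inf Subgroup.le_normalizer (hSle.trans hnS0)
    · intro x hx
      obtain ⟨u, hu, a, ha, rfl⟩ := hsplit x hx
      exact Subgroup.mul_mem_sup hu ha
  have hSmap : S.map π = Sb := by
    refine le_antisymm (Subgroup.map_le_iff_le_comap.2 hSle) (hD.gen.trans (sSup_le ?_))
    rintro _ ⟨⟨B, hB, rfl⟩, hBS⟩
    exact Subgroup.map_mono (le_mems hB (Subgroup.map_le_iff_le_comap.1 hBS))
  refine ⟨S, S ⊓ S0, hDQ, rfl, hAS', hSmap, ?_⟩
  refine le_antisymm ((Subgroup.map_mono (inf_le_right.trans hS0P)).trans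
    (Subgroup.map_comap_le π Qb)) fun y hy => ?_
  have hyS : y ∈ S.map π := hSmap.symm ▸ hD.le hy
  obtain ⟨x, hx, rfl⟩ := Subgroup.mem_map.1 hyS
  obtain ⟨u, hu, a, ha, rfl⟩ := hsplit x hx
  have ha1 : π a ∈ Qb := by
    have h := mul_mem (inv_mem (show π u ∈ Qb from hS0P hu.2)) hy
    rwa [map_mul, inv_mul_cancel_left] at h
  rw [map_mul, eq_one_of_mem hPb hĀ hD.qgroup ha1 (Subgroup.mem_map_of_mem π ha), mul_one]
  exact Subgroup.mem_map_of_mem π hu

theorem Good.image [Finite G] (hP : Pairs p q D) (hG : Good q D)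
    (hN : IsPGroup q N ∨ N ≤ center G) (hNA : ∀ A ∈ D, A ⊓ N = ⊥) : Good q (img D N) := by
  set π := QuotientGroup.mk' N with hπ
  have hfix : ∀ Sb Qb, IsDQ q (img D N) Sb Qb → ∀ A ∈ D, A.map π ≤ Sb →
      ∃ S Q, IsDQ q D S Q ∧ A ≤ S ∧ Q.map π = Qb ∧
        Qb ⊓ centralizer ((A.map π : Subgroup (G ⧸ N)) : Set (G ⧸ N)) =
          (Q ⊓ centralizer (A : Set G)).map π := by
    intro Sb Qb hD A hA hAS
    obtain ⟨S, Q, h, -, hAS', -, hQ⟩ := exists_lift hP hN hNA hD hA hAS
    refine ⟨S, Q, h, hAS', hQ, ?_⟩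
    rw [CoprimeAction.map_inf_centralizer_eq π (hAS'.trans h.norm) (coprime_member hP hA h.qgroup)
      (Or.inl (isSolvable_member hP hA)), hQ]
  rcases hG with h | h
  · refine Or.inl ?_
    rintro Sb Qb hD _ ⟨A, hA, rfl⟩ hAS
    obtain ⟨S, Q, hS, hAS', -, he⟩ := hfix Sb Qb hD A hA hAS
    rw [he, h S Q hS A hA hAS', Subgroup.map_bot]
  · refine Or.inr ?_
    rintro Sb Qb hD _ ⟨A, hA, rfl⟩ hAS
    obtain ⟨S, Q, hS, hAS', hQ, he⟩ := hfix Sb Qb hD A hA hAS
    obtain ⟨h1, h2⟩ := h S Q hS A hA hAS'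
    constructor
    · rw [← hQ, ← Subgroup.map_commutator]
      exact (Subgroup.map_mono h1).trans (Subgroup.map_centralizer_le_centralizer_image _ π)
    · rw [he, ← hQ]
      exact (Subgroup.map_mono h2).trans (Subgroup.map_centralizer_le_centralizer_image _ π)

/-- The whole group is a `D`-subgroup when the quotient is. -/
theorem exists_isDQ_of_img [Finite G] (hP : Pairs p q D) (hN : IsPGroup q N ∨ N ≤ center G)
    (hNA : ∀ A ∈ D, A ⊓ N = ⊥) (hgen : mems D ⊤ = ⊤) {A : Subgroup G} (hA : A ∈ D)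
    (h : ∃ Q, IsDQ q (img D N) ⊤ Q) : ∃ Q, IsDQ q D ⊤ Q := by
  obtain ⟨Qb, hQb⟩ := h
  obtain ⟨S, Q, hS, he, -, -, -⟩ := exists_lift hP hN hNA hQb hA le_top
  rw [Subgroup.comap_top, hgen] at he
  exact ⟨Q, he ▸ hS⟩

end Quot

end Cfsg.Agent.OddPairs70
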