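import Cfsg.Agent.Lib.OddPairs70Block
import Cfsg.Agent.Lib.BGFittingUnique
import Cfsg.Agent.Lib.IsolatedInv
import Cfsg.Agent.Lib.ZStarTheorem
import Cfsg.Agent.S0205

/-!
# Fixed points of an involution on the kernels of `D`-subgroups lie in its odd core
-/

set_option autoImplicit false
set_option linter.unusedSectionVars false
set_option linter.style.haveILetI false

namespace Cfsg.Agent.OddPairs70

open Subgroup
open scoped commutatorElement

variable {G : Type*} [Group G] [Finite G] {D : Set (Subgroup G)} {p q : ℕ}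

omit [Finite G] in
theorem le_hx_iff {B : Subgroup G} (hB : B ∈ D) {x : G} :
    B ≤ hx D x ↔ x ∈ centralizer (B : Set G) :=
  ⟨fun h => le_cent_singleton.1 (h.trans (mems_le D _)), fun h => le_mems hB (le_cent_singleton.2 h)⟩

omit [Finite G] in
theorem cj_cent_singleton (g x : G) :
    cj g (centralizer ({x} : Set G)) = centralizer ({g * x * g⁻¹} : Set G) := by
  ext y
  rw [mem_cj, mem_centralizer_singleton_iff, mem_centralizer_singleton_iff]
  constructor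
  · intro h
    calc y * (g * x * g⁻¹) = g * ((g⁻¹ * y * g) * x) * g⁻¹ := by group
      _ = g * (x * (g⁻¹ * y * g)) * g⁻¹ := by rw [h]
      _ = g * x * g⁻¹ * y := by group
  · intro h
    calc g⁻¹ * y * g * x = g⁻¹ * (y * (g * x * g⁻¹)) * g := by group
      _ = g⁻¹ * (g * x * g⁻¹ * y) * g := by rw [h]
      _ = x * (g⁻¹ * y * g) := by group

omit [Finite G] in
theorem cj_hx (hP : Pairs p q D) (g x : G) : cj g (hx D x) = hx D (g * x * g⁻¹) := by
  rw [hx, cj_mems hP, cj_cent_singleton, hx]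

theorem commute_normalises_hx (hP : Pairs p q D) {g x : G} (h : Commute g x) :
    g ∈ normalizer (hx D x : Set G) := normalizer_le_mems hP _ (cent_singleton_le_normalizer h)

theorem isPGroup_zpowers_invol {e : G} (he : e * e = 1) : IsPGroup 2 (zpowers e) := fun ⟨y, hy⟩ => by
  obtain ⟨m, rfl⟩ := mem_zpowers_iff.1 hy
  refine ⟨1, Subtype.ext (show (e ^ m) ^ 2 ^ 1 = 1 by
    rw [pow_one, pow_two, ← (Commute.refl e).mul_zpow, he, one_zpow])⟩

/-- The fixed member on the line through `B` and its image. -/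
theorem exists_mid (hP : Pairs p q D) {e : G} (he : e * e = 1) {B : Subgroup G} (hB : B ∈ D) :
    ∃ C ∈ D, C ≤ B ⊔ cj e B ∧ e ∈ normalizer (C : Set G) := by
  obtain ⟨Q, hQ⟩ := exists_isDQ_pair hP hB (hP.inv B hB e)
  have hen : e ∈ normalizer ((B ⊔ cj e B : Subgroup G) : Set G) := cj_eq_iff.1 (by
    rw [cj, Subgroup.map_sup, ← cj, ← cj, cj_cj, he, cj_one, sup_comm])
  obtain ⟨C, hC, hle, hn⟩ :=
    hQ.exists_fixed hP hB le_sup_left (isPGroup_zpowers_invol he) (zpowers_le.2 hen)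
  exact ⟨C, hC, hle, hn (mem_zpowers e)⟩

theorem cent_of_two (hP : Pairs p q D) {e : G} {B C : Subgroup G} (hB : B ∈ D) (hC : C ∈ D)
    (heB : e ∈ normalizer (B : Set G)) (heC : e ∈ centralizer (C : Set G)) :
    e ∈ centralizer (B : Set G) := by
  obtain ⟨Q, hQ⟩ := exists_isDQ_pair hP hC hB
  refine hQ.cent_of_normalizer hP hC le_sup_left hB le_sup_right (cj_eq_iff.1 ?_) heB heC
  rw [cj, Subgroup.map_sup, ← cj, ← cj, cj_eq_iff.2 heB, cj_eq_iff.2 (cent_le_normalizer C heC)]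

theorem exists_mid_cent (hP : Pairs p q D) {e : G} (he : e * e = 1) {B C₀ : Subgroup G}
    (hB : B ∈ D) (hC₀ : C₀ ∈ D) (heC₀ : e ∈ centralizer (C₀ : Set G)) :
    ∃ C ∈ D, C ≤ B ⊔ cj e B ∧ C ≤ hx D e := by
  obtain ⟨C, hC, hle, hn⟩ := exists_mid hP he hB
  exact ⟨C, hC, hle, (le_hx_iff hC).2 (cent_of_two hP hC hC₀ hn heC₀)⟩

/-- An involution normalises every `D`-subgroup containing all members it centralises. -/
theorem mid_normalizer (hP : Pairs p q D) {e : G} (he : e * e = 1) {C₀ : Subgroup G}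
    (hC₀ : C₀ ∈ D) (heC₀ : e ∈ centralizer (C₀ : Set G)) {T : Subgroup G} (hT : T ≤ mems D T)
    (hle : hx D e ≤ T) : e ∈ normalizer (T : Set G) := by
  refine mem_normalizer_of_cj_le ((cj_mono hT).trans ?_)
  rw [cj, Subgroup.map_le_iff_le_comap]
  refine sSup_le fun B hB => ?_
  rw [← Subgroup.map_le_iff_le_comap]
  obtain ⟨C, hC, hCle, hCx⟩ := exists_mid_cent hP he hB.1 hC₀ heC₀
  by_cases hCB : C = B
  · subst hCB
    change cj e C ≤ T
    rw [cj_eq_iff.2 (cent_le_normalizer C (le_cent_singleton.1 (hCx.trans (mems_le D _))))]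
    exact hB.2
  · have h1 := line_eq hP hB.1 (hP.inv B hB.1 e) hC hCB hCle
    exact (le_sup_right.trans h1.ge).trans (sup_le hB.2 (hCx.trans hle))

omit [Finite G] in
theorem le_core [Finite G] {e : G} {N : Subgroup G} (hle : N ≤ centralizer ({e} : Set G))
    (hn : centralizer ({e} : Set G) ≤ normalizer (N : Set G)) (hodd : ¬ 2 ∣ Nat.card N) :
    N ≤ Cfsg.centralizerPPrimeCore 2 e := by
  have : (N.subgroupOf (centralizer ({e} : Set G))).Normal :=
    Subgroup.normal_subgroupOf_of_le_normalizer hn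
  have h1 : N.subgroupOf (centralizer ({e} : Set G)) ≤
      Cfsg.pPrimeCore 2 (centralizer ({e} : Set G)) := HallCore.le_pPrimeCore (by
    rw [Nat.card_congr (Subgroup.subgroupOfEquivOfLe hle).toEquiv]
    exact (((Nat.Prime.coprime_iff_not_dvd Nat.prime_two).2 hodd)).symm)
  intro x hx
  exact ⟨⟨x, hle hx⟩, h1 (Subgroup.mem_subgroupOf.2 hx), rfl⟩

theorem exists_fixed_qgroup {q : ℕ} [Fact q.Prime] {V U : Subgroup G} (hV : IsPGroup q V)
    (hV1 : V ≠ ⊥) (hU : IsPGroup q U) (hUV : U ≤ normalizer (V : Set G)) :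
    ∃ v ∈ V, v ≠ 1 ∧ ∀ u ∈ U, u * v = v * u := by
  have hP : IsPGroup q (V ⊔ U : Subgroup G) := hV.to_sup_of_normal_left' hU hUV
  have : (V.subgroupOf (V ⊔ U)).Normal :=
    Subgroup.normal_subgroupOf_of_le_normalizer (sup_le Subgroup.le_normalizer hUV)
  have hN1 : V.subgroupOf (V ⊔ U) ≠ ⊥ := by
    rw [Ne, Subgroup.subgroupOf_eq_bot]
    exact fun hd => hV1 (disjoint_self.1 (hd.mono_right le_sup_left))
  obtain ⟨⟨⟨w, hwP⟩, hw1, hw2⟩, hwne⟩ :=
    Subgroup.ne_bot_iff_exists_ne_one.1 (PGroupsBasic.inf_center_ne_bot hP hN1)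
  refine ⟨w, Subgroup.mem_subgroupOf.1 hw1, fun e => hwne (by ext; exact e), fun u hu => ?_⟩
  exact congrArg Subtype.val (Subgroup.mem_center_iff.1 hw2 ⟨u, Subgroup.mem_sup_right hu⟩)

namespace Min

variable (h : Min p q D)
include h

theorem hx_eq {x t : G} {Q C : Subgroup G} (hS : IsDQ q D (hx D x) Q) (hxQ : x ∈ Q) (hC : C ∈ D)
    (hCS : C ≤ hx D x) (ht : t ∈ Q ⊓ centralizer (C : Set G)) (ht1 : t ≠ 1) :
    hx D t = hx D x := by
  have hle : hx D x ≤ hx D t := (mems_mems _).ge.trans (mems_mono (le_cent_singleton.2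
    (hS.phi_le_cent h.pairs h.good hC hCS ht)))
  obtain ⟨R, hR⟩ := h.exists_dq (h.hx_ne_top ht1) (mems_mems _).ge hC (hCS.trans hle)
  obtain ⟨k, hk⟩ := hS.qgroup ⟨x, hxQ⟩
  exact le_antisymm (h.le_hx hR hC (hCS.trans hle) (hle (hS.le hxQ)) (congrArg Subtype.val hk)
    (le_cent_singleton.1 (hCS.trans (mems_le D _)))) hle

/-- A `q`-subgroup centralising two members of `hx D x` and containing `x` normalises it. -/
theorem le_normalizer_hx {x : G} (hx1 : x ≠ 1) {Q : Subgroup G} (hS : IsDQ q D (hx D x) Q)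
    (hxQ : x ∈ Q) {A B : Subgroup G} (hA : A ∈ D) (hB : B ∈ D) (hne : A ≠ B) (hAS : A ≤ hx D x)
    (hBS : B ≤ hx D x) {U : Subgroup G} (hUq : IsPGroup q U) (hxU : x ∈ U)
    (hUA : U ≤ centralizer (A : Set G)) (hUB : U ≤ centralizer (B : Set G)) :
    U ≤ normalizer (hx D x : Set G) := by
  haveI := Fact.mk h.pairs.hq
  have hP := h.pairs
  set S := hx D x with hSdef
  set N1 := U ⊓ normalizer (S : Set G) with hN1
  by_contra hcon
  obtain ⟨g, hgU, hg1, hgN⟩ := exists_grow hUq (inf_le_left : N1 ≤ U)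
    (fun e => hcon (e.ge.trans inf_le_right))
  refine hg1 ⟨hgU, ?_⟩
  have hxN : x ∈ N1 := ⟨hxU, commute_normalises_hx hP (Commute.refl x)⟩
  have hx'N : g * x * g⁻¹ ∈ N1 := (Subgroup.mem_normalizer_iff.1 hgN x).1 hxN
  have hS' : cj g S = hx D (g * x * g⁻¹) := cj_hx hP g x
  have hx'1 : g * x * g⁻¹ ≠ 1 := fun e => hx1 (conj_eq_one_iff.1 e)
  have hfix : ∀ C : Subgroup G, g ∈ centralizer (C : Set G) → C ≤ S → C ≤ hx D (g * x * g⁻¹) :=
    fun C hg hCS => by
      rw [← hS', ← cj_eq_iff.2 (cent_le_normalizer C hg)]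
      exact cj_mono hCS
  have hA' := hfix A (hUA hgU) hAS
  have hB' := hfix B (hUB hgU) hBS
  obtain ⟨R, hR⟩ := h.exists_dq (h.hx_ne_top hx'1) (mems_mems _).ge hA hA'
  have hx'R : g * x * g⁻¹ ∈ R := by
    obtain ⟨k, hk⟩ := hS.qgroup ⟨x, hxQ⟩
    refine hR.mem_of_pow hP hA hA' ?_ (k := k) ?_
    · rw [← hS']; exact conj_mem_cj (hS.le hxQ)
    · rw [conj_pow, show x ^ q ^ k = 1 from congrArg Subtype.val hk]; group
  have hle := h.le_of_shared hx'1 hR hx'R hA hB hne hA' hB' (h.hx_ne_top hx1) (mems_mems _).ge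
    hx'N.2 hAS hBS
  rw [← hS'] at hle
  exact cj_eq_iff.1 (Subgroup.eq_of_le_of_card_ge hle (card_cj g S).le).symm

/-- Fixed points of a maximal involution `e` on kernels through a fixed member are in its core. -/
theorem mem_core {e : G} (he : orderOf e = 2)
    (hmax : ∀ f : G, orderOf f = 2 → ∀ B ∈ D, B ≤ hx D f →
      Nat.card (hx D f) ≤ Nat.card (hx D e))
    (htwo : ∀ C ∈ D, C ≤ hx D e → ∃ B ∈ D, B ≤ hx D e ∧ B ≠ C)
    {C B M QM : Subgroup G} (hC : C ∈ D) (hB : B ∈ D) (hBC : B ≠ C) (hCX : C ≤ hx D e)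
    (hM : IsDQ q D M QM) (hMeq : M = C ⊔ B) {z : G} (hz : z ∈ QM) (hze : Commute z e) :
    z ∈ Cfsg.centralizerPPrimeCore 2 e := by
  haveI := Fact.mk h.pairs.hq
  haveI := Fact.mk Nat.prime_two
  have hP := h.pairs
  have he1 : e ≠ 1 := IsolatedInv.ne_one_of_orderOf_two he
  have he2 : e * e = 1 := IsolatedInv.sq_of_orderOf_two he
  set X := hx D e with hX
  have hXt : X ≠ ⊤ := h.hx_ne_top he1
  obtain ⟨QX, hQX⟩ := h.exists_dq hXt (mems_mems _).ge hC hCX
  have hXce : X ≤ centralizer ({e} : Set G) := mems_le D _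
  have hCeX : centralizer ({e} : Set G) ≤ normalizer (X : Set G) := fun g hg =>
    commute_normalises_hx hP (mem_centralizer_singleton_iff.1 hg)
  have hXcore : X ≤ Cfsg.centralizerPPrimeCore 2 e :=
    le_core hXce hCeX (hQX.not_dvd_two hP hC hCX)
  have heC : e ∈ centralizer (C : Set G) := (le_hx_iff hC).1 hCX
  have hCM : C ≤ M := hMeq ▸ le_sup_left
  have hBM : B ≤ M := hMeq ▸ le_sup_right
  by_cases hzC : z ∈ normalizer (C : Set G)
  swap
  · have hne : cj z C ≠ C := fun e' => hzC (cj_eq_iff.1 e')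
    have hez : z * e * z⁻¹ = e := by rw [hze.eq, mul_inv_cancel_right]
    have h1 : cj z C ≤ X := (le_hx_iff (hP.inv C hC z)).2 (hez ▸ mem_cent_cj heC)
    have h2 : cj z C ≤ C ⊔ B := hMeq ▸ cj_le_of_mem hCM (Subgroup.le_normalizer (hM.le hz))
    have h3 := line_eq hP hC hB (hP.inv C hC z) hne h2
    exact hXcore ((hMeq.trans h3.symm).le.trans (sup_le hCX h1) (hM.le hz))
  by_cases hz1 : z = 1
  · rw [hz1]; exact one_mem _
  have hzC' := mem_cent_of_mem_normalizer hP hC hM.qgroup (hCM.trans hM.norm) hz hzC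
  set S1 := hx D z with hS1
  have hMS1 : M ≤ S1 := hM.gen.trans (mems_mono (le_cent_singleton.2
    (hM.phi_le_cent hP h.good hC hCM ⟨hz, hzC'⟩)))
  obtain ⟨Q1, hQ1⟩ := h.exists_dq (h.hx_ne_top hz1) (mems_mems _).ge hC (hCM.trans hMS1)
  have hCS1 : C ≤ S1 := hCM.trans hMS1
  have hzQ1 : z ∈ Q1 := hQ1.le_of_qgroup hP hC hCS1 (hM.le.trans hMS1) hM.qgroup hz
  obtain ⟨k, hk⟩ : ∃ k, z ^ q ^ k = 1 := by
    obtain ⟨k, hk⟩ := hM.qgroup ⟨z, hz⟩
    exact ⟨k, congrArg Subtype.val hk⟩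
  have hzce : z ∈ centralizer ({e} : Set G) := mem_centralizer_singleton_iff.2 hze.eq
  obtain ⟨B₀, hB₀, hB₀X, hB₀C⟩ := htwo C hC hCX
  obtain ⟨B', hB', hB'X, hB'C, hzB'⟩ :=
    hQX.exists_second hP hC hCX hB₀ hB₀X hB₀C hk (hCeX hzce) hzC'
  have hB'S1 : B' ≤ S1 := (le_hx_iff hB').2 hzB'
  have hXS1 : X ≤ S1 := h.le_of_shared hz1 hQ1 hzQ1 hC hB' hB'C.symm hCS1 hB'S1 hXt
    (mems_mems _).ge (hCeX hzce) hCX hB'X
  suffices key : ∀ g ∈ centralizer ({e} : Set G), g ∈ normalizer (S1 : Set G) by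
    refine le_core (N := Q1 ⊓ centralizer ({e} : Set G)) inf_le_right (fun g hg => ?_) ?_
      ⟨hzQ1, hzce⟩
    · refine mem_normalizer_of_cj_le fun u hu => ?_
      have hu' := mem_cj.1 hu
      refine ⟨(cj_eq_iff.2 (hQ1.normalizer_le hP hC hCS1 (key g hg))).le (mem_cj.2 hu'.1), ?_⟩
      exact (cj_eq_iff.2 (Subgroup.le_normalizer hg)).le (mem_cj.2 hu'.2)
    · exact fun h2 => hQ1.not_dvd_two hP hC hCS1
        (h2.trans (Subgroup.card_dvd_of_le (inf_le_left.trans hQ1.le)))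
  intro g hg
  refine cj_eq_iff.1 ?_
  set z' := g * z * g⁻¹ with hz'
  have hS2eq : cj g S1 = hx D z' := cj_hx hP g z
  have hXS2 : X ≤ hx D z' := by
    rw [← hS2eq, ← cj_eq_iff.2 (hCeX hg)]
    exact cj_mono hXS1
  have hz'1 : z' ≠ 1 := fun e' => hz1 (conj_eq_one_iff.1 e')
  obtain ⟨Q2, hQ2⟩ := h.exists_dq (h.hx_ne_top hz'1) (mems_mems _).ge hC (hCX.trans hXS2)
  have hk' : z' ^ q ^ k = 1 := by rw [hz', conj_pow, hk]; group
  have hz'Q2 : z' ∈ Q2 := hQ2.mem_of_pow hP hC (hCX.trans hXS2)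
    (by rw [← hS2eq]; exact conj_mem_cj (hQ1.le hzQ1)) hk'
  rw [hS2eq]
  suffices hor : hx D z' ≤ S1 ∨ S1 ≤ hx D z' by
    have hcard : Nat.card (hx D z') = Nat.card S1 := by rw [← hS2eq, card_cj]
    rcases hor with h1 | h1
    · exact Subgroup.eq_of_le_of_card_ge h1 hcard.ge
    · exact (Subgroup.eq_of_le_of_card_ge h1 hcard.le).symm
  have hQXS : ∀ {R : Subgroup G} {x : G}, IsDQ q D (hx D x) R → X ≤ hx D x → QX ≤ R :=
    fun hR hle => hR.le_of_qgroup hP hC (hCX.trans hle) (hQX.le.trans hle) hQX.qgroup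
  by_cases hΦX : QX ⊓ centralizer (C : Set G) = ⊥
  swap
  · obtain ⟨⟨w, hw1, hw2⟩, hwne⟩ := Subgroup.ne_bot_iff_exists_ne_one.1 hΦX
    have hw0 : w ≠ 1 := fun e' => hwne (Subtype.ext e')
    have e1 := h.hx_eq hQ1 hzQ1 hC hCS1 ⟨hQXS hQ1 hXS1 hw1, hw2⟩ hw0
    have e2 := h.hx_eq hQ2 hz'Q2 hC (hCX.trans hXS2) ⟨hQXS hQ2 hXS2 hw1, hw2⟩ hw0
    exact Or.inl (e2.symm.trans e1).le
  have hw : ∃ T R B, IsDQ q D T R ∧ B ∈ D ∧ B ≤ T ∧ R ⊓ centralizer (B : Set G) ≠ ⊥ :=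
    ⟨S1, Q1, C, hQ1, hC, hCS1, fun e' => hz1 (by
      rw [← Subgroup.mem_bot, ← e']; exact ⟨hzQ1, hzC'⟩)⟩
  have hQX1 : QX ≠ ⊥ := fun e' => by
    obtain ⟨u, hu, he'⟩ := hQX.exists_cj hP hC hCX hB' hB'X
    rw [e', Subgroup.mem_bot] at hu
    rw [hu, cj_one] at he'
    exact hB'C he'
  have hNt := h.normalizer_ne_top hQX1 hQX.qgroup
  set J := mems D (normalizer (QX : Set G)) with hJ
  have hXJ : X ≤ J := hQX.gen.trans (mems_mono hQX.norm)
  have hJle : ∀ {x : G} {R : Subgroup G}, x ≠ 1 → IsDQ q D (hx D x) R → x ∈ R → X ≤ hx D x →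
      J ≤ hx D x := by
    intro x R hx1 hR hxR hXR
    refine h.le_of_shared hx1 hR hxR hC hB' hB'C.symm (hCX.trans hXR) (hB'X.trans hXR)
      (h.mems_ne_top hNt) (mems_mems _).ge ?_ (hCX.trans hXJ) (hB'X.trans hXJ)
    refine normalizer_le_mems hP _ (Subgroup.le_normalizer (cent_le_normalizer QX ?_))
    exact le_cent_singleton.1 (hQX.le.trans (hXR.trans (mems_le D _)))
  have hJS1 := hJle hz1 hQ1 hzQ1 hXS1
  have hJS2 := hJle hz'1 hQ2 hz'Q2 hXS2
  have heS1 : e ∈ normalizer (S1 : Set G) := mid_normalizer hP he2 hC heC (mems_mems _).ge hXS1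
  have heinv : e⁻¹ = e := IsolatedInv.inv_eq_self_of_sq he2
  have heQ1 : ∀ u ∈ Q1, e * u * e ∈ Q1 := fun u hu => by
    have := (Subgroup.mem_normalizer_iff.1 (hQ1.normalizer_le hP hC hCS1 heS1) u).1 hu
    rwa [heinv] at this
  have heh : ∀ u : G, e * (u⁻¹ * (e * u * e)) * e = (u⁻¹ * (e * u * e))⁻¹ := fun u => by
    rw [mul_inv_rev, mul_inv_rev, mul_inv_rev, inv_inv, heinv]
    calc e * (u⁻¹ * (e * u * e)) * e = e * u⁻¹ * e * u * (e * e) := by group
      _ = e * (u⁻¹ * e) * u := by rw [he2]; group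
  by_cases hΦ1 : ∀ u ∈ Q1 ⊓ centralizer (C : Set G), e * u * e = u
  · -- `e` centralises the fixed points: the members of `S1` normalise `QX`
    refine Or.inr ((mems_mems _).ge.trans (sSup_le fun T hT => ?_) |>.trans hJS2)
    obtain ⟨y, hy, rfl⟩ := hQ1.exists_cj hP hC hCS1 hT.1 hT.2
    refine le_mems hT.1 (cj_le_of_mem (hCX.trans hQX.norm) (Subgroup.le_normalizer ?_))
    set i := y⁻¹ * (e * y * e) with hi
    have hiQ : i ∈ Q1 := mul_mem (inv_mem hy) (heQ1 y hy)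
    have hri : ∀ r ∈ QX, Commute r i := by
      intro r hr
      have hmem : ⁅r, y⁆ ∈ Q1 ⊓ centralizer (C : Set G) :=
        hQ1.commutator_le h.good hC hCS1 hw
          (Subgroup.commutator_mem_commutator (hQXS hQ1 hXS1 hr) hy)
      have hre : e * r * e⁻¹ = r := by
        have := mem_centralizer_singleton_iff.1 (hXce (hQX.le hr))
        rw [← this, mul_inv_cancel_right]
      have h1 : ⁅r, y * i⁆ = ⁅r, y⁆ := by
        rw [hi, mul_inv_cancel_left]
        calc ⁅r, e * y * e⁆ = ⁅e * r * e⁻¹, e * y * e⁻¹⁆ := by rw [hre, heinv]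
          _ = e * ⁅r, y⁆ * e := by rw [← conj_commutator, heinv]
          _ = ⁅r, y⁆ := hΦ1 _ hmem
      rw [commutator_mul_right, mul_eq_left, conj_eq_one_iff] at h1
      exact commutatorElement_eq_one_iff_commute.1 h1
    obtain ⟨l, hl⟩ := IsolatedInv.odd_pow_sq (d := i) (by
      obtain ⟨m, hm⟩ := hQ1.qgroup ⟨i, hiQ⟩
      exact (hP.hq.odd_of_ne_two hP.hq2).pow.of_dvd_nat
        (orderOf_dvd_of_pow_eq_one (congrArg Subtype.val hm)))
    set j := i ^ l with hj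
    have hej : e * j * e = j⁻¹ := by
      have h1 := conj_pow (a := e) (b := i) (i := l)
      rw [heinv] at h1
      rw [hj, ← h1, hi, heh y, inv_pow]
    have hjj : i * j⁻¹ = j := by
      rw [mul_inv_eq_iff_eq_mul, hj, ← pow_two, ← pow_mul, mul_comm l 2, pow_mul, hl]
    have hyj : y * j ∈ normalizer (QX : Set G) := by
      refine hQX.normalizer_le hP hC hCX (hCeX (mem_centralizer_singleton_iff.2 ?_))
      have h2 : e * (y * j) * e = y * j := by
        calc e * (y * j) * e = (e * y * e) * (e * j * e) := by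
              conv_lhs => rw [← mul_one y, ← he2]
              group
          _ = y * (i * j⁻¹) := by rw [hej, hi]; group
          _ = y * j := by rw [hjj]
      calc y * j * e = e * (y * j) * e * e := by rw [h2]
        _ = e * (y * j) := by rw [mul_assoc (e * (y * j)), he2, mul_one]
    have hjn : j ∈ normalizer (QX : Set G) := pow_mem (cent_le_normalizer QX
      (mem_cent.2 fun r hr => (hri r hr).eq)) l
    simpa using mul_mem hyj (inv_mem hjn)
  push_neg at hΦ1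
  obtain ⟨w0, hw0, hw0e⟩ := hΦ1
  by_cases hS1X : S1 ≤ X
  · exact Or.inr (hS1X.trans hXS2)
  set Φ := Q1 ⊓ centralizer (C : Set G) with hΦdef
  set w := w0⁻¹ * (e * w0 * e) with hwdef
  have hwΦ : w ∈ Φ := by
    refine mul_mem (inv_mem hw0) ⟨heQ1 w0 hw0.1, ?_⟩
    exact mul_mem (mul_mem heC hw0.2) heC
  have hw1 : w ≠ 1 := fun e' => hw0e (inv_mul_eq_one.1 e').symm
  have hew : e * w * e = w⁻¹ := heh w0
  set T := centralizer (X : Set G) with hT
  have heT : e ∈ T := le_cent_singleton.1 hXce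
  have hΦT : Φ ≤ T := (hQ1.phi_le_cent hP h.good hC hCS1).trans (Subgroup.centralizer_le hXS1)
  have hzT : z ∈ T := le_cent_singleton.1 (hXS1.trans (mems_le D _))
  have hz'T : z' ∈ T := le_cent_singleton.1 (hXS2.trans (mems_le D _))
  have hTC : ∀ A : Subgroup G, A ≤ X → T ≤ centralizer (A : Set G) := fun A hA =>
    Subgroup.centralizer_le hA
  have hinvT : ∀ t ∈ T, orderOf t = 2 → hx D t = X := fun t ht hto => by
    have h1 : X ≤ hx D t := (mems_mems _).ge.trans (mems_mono (le_cent_singleton.2 ht))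
    exact (Subgroup.eq_of_le_of_card_ge h1 (hmax t hto C hC (hCX.trans h1))).symm
  -- `e` is isolated in `T`
  have hiso : Cfsg.IsIsolatedInvolution (⟨e, heT⟩ : T) := by
    refine ⟨(Subgroup.orderOf_mk e heT).trans he, fun g hg' => ?_⟩
    by_contra hne
    set s : G := (g : G) * e * (g : G)⁻¹ with hs
    have hsT : s ∈ T := mul_mem (mul_mem g.2 heT) (inv_mem g.2)
    have hso : orderOf s = 2 := (ZStarBasic.orderOf_conj_eq _ _).trans he
    have hse : Commute e s := congrArg Subtype.val hg'.eq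
    have hs2 : s * s = 1 := IsolatedInv.sq_of_orderOf_two hso
    have hsne : s ≠ e := fun e' => hne (Subtype.ext e')
    have hes : e ∉ zpowers s := fun hm => by
      obtain ⟨m, hm⟩ := mem_zpowers_iff.1 hm
      rw [← zpow_mod_orderOf, hso] at hm
      rcases Int.emod_two_eq_zero_or_one m with h0 | h0
      · simp [h0] at hm; exact he1 hm.symm
      · simp [h0] at hm; exact hsne hm
    have htn : ∀ t ∈ T, t * t = 1 → t ≠ 1 →
        t ∈ normalizer (S1 : Set G) ∧ hx D t = X := fun t ht ht2 ht1 => by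
      have hto : orderOf t = 2 := orderOf_eq_prime (by rw [pow_two, ht2]) ht1
      exact ⟨mid_normalizer hP ht2 hC (hTC C hCX ht) (mems_mems _).ge
        ((hinvT t ht hto).le.trans hXS1), hinvT t ht hto⟩
    have hpair : CoprimeGen.IsPairAction 2 e s Q1 := ⟨hse, by rw [pow_two, he2],
      by rw [pow_two, hs2], IsolatedInv.ne_one_of_orderOf_two hso, hes,
      hQ1.normalizer_le hP hC hCS1 heS1, hQ1.normalizer_le hP hC hCS1
        (htn s hsT hs2 (IsolatedInv.ne_one_of_orderOf_two hso)).1⟩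
    have hQle : Q1 ≤ QX ⊔ Φ := by
      refine CoprimeGen.le_of_pair_centralizers hpair
        (fun hd => hQ1.not_dvd_two hP hC hCS1 (hd.trans (Subgroup.card_dvd_of_le hQ1.le))) ?_
      intro t ht ht1
      have htT : t ∈ T := CoprimeGen.pairSubgroup_le heT hsT ht
      have ht2 : t * t = 1 := by
        obtain ⟨m, n, rfl⟩ := CoprimeGen.mem_pairSubgroup_iff.1 ht
        rw [(hse.zpow_zpow m n).symm.mul_mul_mul_comm, ← (Commute.refl e).mul_zpow,
          ← (Commute.refl s).mul_zpow, he2, hs2, one_zpow, one_zpow, one_mul]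
      rintro u ⟨hu, hut⟩
      have hut' : u * t * u⁻¹ = t := by
        rw [mem_centralizer_singleton_iff.1 hut, mul_inv_cancel_right]
      have h1 : cj u C ≤ X := by
        rw [← (htn t htT ht2 ht1).2]
        exact (le_hx_iff (hP.inv C hC u)).2 (hut' ▸ mem_cent_cj (hTC C hCX htT))
      obtain ⟨r, hr, he'⟩ := hQX.exists_cj hP hC hCX (hP.inv C hC u) h1
      have h2 : r⁻¹ * u ∈ normalizer (C : Set G) := cj_eq_iff.1 (by
        rw [← cj_cj, he', cj_cj, inv_mul_cancel, cj_one])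
      have h3 : r⁻¹ * u ∈ Q1 := mul_mem (inv_mem (hQXS hQ1 hXS1 hr)) hu
      have h4 : r⁻¹ * u ∈ Φ := Subgroup.mem_inf.2
        ⟨h3, mem_cent_of_mem_normalizer hP hC hQ1.qgroup (hCS1.trans hQ1.norm) h3 h2⟩
      have h5 : r * (r⁻¹ * u) ∈ QX ⊔ Φ :=
        mul_mem (Subgroup.mem_sup_left hr) (Subgroup.mem_sup_right h4)
      rwa [mul_inv_cancel_left] at h5
    refine hS1X ((mems_mems _).ge.trans (sSup_le fun Y hY => ?_))
    obtain ⟨u, hu, rfl⟩ := hQ1.exists_cj hP hC hCS1 hY.1 hY.2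
    have hu' : u ∈ ((QX ⊔ Φ : Subgroup G) : Set G) := hQle hu
    rw [Subgroup.coe_mul_of_right_le_normalizer_left QX Φ
      (hΦT.trans ((hTC QX hQX.le).trans (cent_le_normalizer QX)))] at hu'
    obtain ⟨r, hr, φ, hφ, rfl⟩ := hu'
    rw [← cj_cj, cj_eq_iff.2 (cent_le_normalizer C hφ.2)]
    exact cj_le_of_mem hCX (Subgroup.le_normalizer (hQX.le hr))
  obtain ⟨N', hN'n, hN'o, hN'c⟩ := ZStarTheorem.exists_odd_normal hiso
  set Nn := N'.map T.subtype with hNn
  have hNnT : Nn ≤ T := Subgroup.map_subtype_le _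
  have hTN : T ≤ normalizer (Nn : Set G) := by
    intro t ht
    refine mem_normalizer_of_cj_le fun x hx => ?_
    obtain ⟨y, hy, hyx⟩ := Subgroup.mem_map.1 (mem_cj.1 hx)
    refine Subgroup.mem_map.2 ⟨⟨t, ht⟩ * y * ⟨t, ht⟩⁻¹, hN'n.conj_mem y hy _, ?_⟩
    simp only [map_mul, map_inv, hyx, Subgroup.coe_subtype]
    group
  have hNnodd : Odd (Nat.card Nn) := by
    rw [hNn, Subgroup.card_map_of_injective (Subgroup.subtype_injective _)]
    exact hN'o
  have hwN : w ∈ Nn := by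
    have h1 : e * w * e⁻¹ * w⁻¹ ∈ Nn :=
      Subgroup.mem_map.2 ⟨_, hN'c ⟨w, hΦT hwΦ⟩, by simp⟩
    rw [heinv, hew, ← mul_inv_rev, ← pow_two] at h1
    have h2 := inv_mem h1
    rw [inv_inv] at h2
    obtain ⟨m, hm⟩ := hQ1.qgroup ⟨w, hwΦ.1⟩
    obtain ⟨l, hl⟩ := IsolatedInv.odd_pow_sq (d := w)
      ((hP.hq.odd_of_ne_two hP.hq2).pow.of_dvd_nat
        (orderOf_dvd_of_pow_eq_one (congrArg Subtype.val hm)))
    rw [← hl]
    exact pow_mem h2 l
  haveI : Group.IsSolvable Nn := S0205.result hNnodd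
  set O := BGFittingUnique.Oc q Nn with hO
  have hOT : O ≤ T := (BGFittingUnique.Oc_le q Nn).trans hNnT
  have hTOc : ∀ s : ℕ, T ≤ normalizer (BGFittingUnique.Oc s Nn : Set G) := fun s =>
    hTN.trans (BGFittingUnique.normalizer_le_Oc s Nn)
  have hOq : IsPGroup q O := BGFittingUnique.isPGroup_Oc q Nn
  have hnorm : ∀ {x : G} {R : Subgroup G}, x ≠ 1 → IsDQ q D (hx D x) R → x ∈ R → X ≤ hx D x →
      x ∈ T → O ≤ normalizer (hx D x : Set G) := by
    intro x R hx1 hR hxR hXR hxT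
    have hzq : IsPGroup q (zpowers x) := hR.qgroup.to_le (zpowers_le.2 hxR)
    have hUq : IsPGroup q (O ⊔ zpowers x : Subgroup G) :=
      hOq.to_sup_of_normal_left' hzq (zpowers_le.2 (hTOc q hxT))
    have hUT : O ⊔ zpowers x ≤ T := sup_le hOT (zpowers_le.2 hxT)
    exact le_sup_left.trans (h.le_normalizer_hx hx1 hR hxR hC hB' hB'C.symm (hCX.trans hXR)
      (hB'X.trans hXR) hUq (Subgroup.mem_sup_right (mem_zpowers x))
      (hUT.trans (hTC C hCX)) (hUT.trans (hTC B' hB'X)))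
  have hOS1 := hnorm hz1 hQ1 hzQ1 hXS1 hzT
  have hOS2 := hnorm hz'1 hQ2 hz'Q2 hXS2 hz'T
  have hnΦ : ∀ {U : Subgroup G}, U ≤ T → U ≤ normalizer (S1 : Set G) →
      U ≤ normalizer (Φ : Set G) := by
    intro U hUT hUS u hu
    refine mem_normalizer_of_cj_le fun v hv => ?_
    have hv' := mem_cj.1 hv
    refine ⟨(cj_eq_iff.2 (hQ1.normalizer_le hP hC hCS1 (hUS hu))).le (mem_cj.2 hv'.1), ?_⟩
    have h1 := mem_cent_cj (g := u) hv'.2
    rw [cj_eq_iff.2 (cent_le_normalizer C (hTC C hCX (hUT hu))),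
      show u * (u⁻¹ * v * u) * u⁻¹ = v by group] at h1
    exact h1
  have hΦq : IsPGroup q Φ := hQ1.qgroup.to_le inf_le_left
  set R0 := Φ ⊓ Nn with hR0
  have hR01 : R0 ≠ ⊥ := fun e' => hw1 (by rw [← Subgroup.mem_bot, ← e']; exact ⟨hwΦ, hwN⟩)
  have hOR0 : O ≤ normalizer (R0 : Set G) := fun u hu => mem_normalizer_of_cj_le fun v hv => by
    have hv' := mem_cj.1 hv
    exact ⟨(cj_eq_iff.2 (hnΦ hOT hOS1 hu)).le (mem_cj.2 hv'.1),
      (cj_eq_iff.2 (hTN (hOT hu))).le (mem_cj.2 hv'.2)⟩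
  obtain ⟨x, hxR0, hx1', hxO⟩ := exists_fixed_qgroup (hΦq.to_le inf_le_left) hR01 hOq hOR0
  have hxΦ : x ∈ Φ := hxR0.1
  have hxN : x ∈ Nn := hxR0.2
  have hcomm : ∀ s : ℕ, s.Prime → s ∣ Nat.card (Cfsg.fittingOf Nn) →
      ∀ y ∈ zpowers x, ∀ v ∈ BGFittingUnique.Oc s Nn, Commute v y := by
    intro s hs _ y hy v hv
    by_cases hsq : s = q
    · subst hsq
      obtain ⟨m, rfl⟩ := mem_zpowers_iff.1 hy
      exact (show Commute v x from hxO v hv).zpow_right m
    haveI := Fact.mk hs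
    set P := BGFittingUnique.Oc s Nn with hPdef
    have hPT : P ≤ T := (BGFittingUnique.Oc_le s Nn).trans hNnT
    have hqP : ¬ q ∣ Nat.card P := by
      obtain ⟨m, hm⟩ := IsPGroup.iff_card.1 (BGFittingUnique.isPGroup_Oc s Nn)
      rw [hm]
      exact fun hd => hsq ((Nat.prime_dvd_prime_iff_eq hP.hq hs).1 (hP.hq.dvd_of_dvd_pow hd)).symm
    have hordq : ∀ u : G, u ∈ Q1 → u ≠ 1 → ∃ a ∈ zpowers u, orderOf a = q := by
      intro u hu hu1
      obtain ⟨m, hm⟩ := IsPGroup.iff_card.1 (hQ1.qgroup.to_le (zpowers_le.2 hu))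
      have hd : q ∣ Nat.card (zpowers u) := by
        rw [hm]
        refine dvd_pow_self q fun h0 => hu1 ?_
        rw [h0, pow_zero, Nat.card_zpowers, orderOf_eq_one_iff] at hm
        exact hm
      obtain ⟨⟨a, ha⟩, hao⟩ := exists_prime_orderOf_dvd_card' q hd
      exact ⟨a, ha, by rwa [Subgroup.orderOf_mk] at hao⟩
    obtain ⟨a, ha, hao⟩ := hordq z hzQ1 hz1
    obtain ⟨b, hb, hbo⟩ := hordq w hwΦ.1 hw1
    have haΦ : a ∈ Φ := zpowers_le.2 (show z ∈ Φ from ⟨hzQ1, hzC'⟩) ha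
    have hbΦ : b ∈ Φ := zpowers_le.2 hwΦ hb
    have hab : Commute a b := (mem_cent.1 (hQ1.phi_le_cent hP h.good hC hCS1 hbΦ) a
      (hQ1.le haΦ.1))
    have hea : e * a * e = a := by
      obtain ⟨m, rfl⟩ := mem_zpowers_iff.1 ha
      rw [← (hze.zpow_left m).eq, mul_assoc, he2, mul_one]
    have heb : ∀ c ∈ zpowers w, e * c * e = c⁻¹ := fun c hc => by
      obtain ⟨m, rfl⟩ := mem_zpowers_iff.1 hc
      have h1 := conj_zpow (a := e) (b := w) (i := m)
      rw [heinv, hew] at h1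
      rw [← h1, inv_zpow]
    have hanb : a ∉ zpowers b := fun hm => by
      have h1 := heb a (zpowers_le.2 hb hm)
      rw [hea, eq_inv_iff_mul_eq_one, ← pow_two] at h1
      have h2 := orderOf_dvd_of_pow_eq_one h1
      rw [hao] at h2
      exact hP.hq2 ((Nat.prime_dvd_prime_iff_eq hP.hq Nat.prime_two).1 h2)
    have hpair : CoprimeGen.IsPairAction q a b P := ⟨hab, hao ▸ pow_orderOf_eq_one a,
      hbo ▸ pow_orderOf_eq_one b, fun e' => by simp [e'] at hbo; exact hP.hq.one_lt.ne hbo,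
      hanb, hTOc s (hΦT haΦ), hTOc s (hΦT hbΦ)⟩
    have hPS : P ≤ normalizer (S1 : Set G) := by
      refine CoprimeGen.le_of_pair_centralizers hpair hqP fun t ht ht1 u hu => ?_
      rw [hS1, ← h.hx_eq hQ1 hzQ1 hC hCS1 (CoprimeGen.pairSubgroup_le haΦ hbΦ ht) ht1]
      exact commute_normalises_hx hP (mem_centralizer_singleton_iff.1 hu.2)
    have hinf : P ⊓ Φ = ⊥ := Subgroup.inf_eq_bot_of_coprime
      (BGFittingUnique.coprime_of_qgroups hsq (BGFittingUnique.isPGroup_Oc s Nn) hΦq)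
    exact BGFittingUnique.commute_of_normalize (hnΦ hPT hPS) (hΦT.trans (hTOc s)) hinf hv
      (zpowers_le.2 hxΦ hy)
  have hxF : x ∈ Cfsg.fittingOf Nn := BGFittingUnique.centralizer_fittingOf_le ⟨hxN,
    BGFittingUnique.le_centralizer_fittingOf hcomm (mem_zpowers x)⟩
  obtain ⟨i, hi⟩ := IsPGroup.iff_orderOf.1 hΦq ⟨x, hxΦ⟩
  rw [Subgroup.orderOf_mk] at hi
  have hxO' : x ∈ O := BGFittingUnique.mem_Oc_of_mem_fittingOf hxF hi
  have hSx : hx D x = S1 := h.hx_eq hQ1 hzQ1 hC hCS1 hxΦ hx1'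
  refine Or.inl (hSx ▸ h.le_of_shared hx1' (hSx.symm ▸ hQ1) hxΦ.1 hC hB' hB'C.symm
    (hSx.symm ▸ hCS1) (hSx.symm ▸ hB'S1) (h.hx_ne_top hz'1) (mems_mems _).ge (hOS2 hxO')
    (hCX.trans hXS2) (hB'X.trans hXS2))

end Min

end Cfsg.Agent.OddPairs70
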