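import Cfsg.Agent.Lib.OddPairs70Lift
import Cfsg.Agent.Lib.OddPairs70Trouble
import Cfsg.Agent.Lib.CharKernel
import Cfsg.Agent.Lib.ZStarCount

/-!
# A group generated by such a class is itself a `D`-subgroup
-/

set_option autoImplicit false
set_option linter.unusedSectionVars false
set_option linter.style.haveILetI false

namespace Cfsg.Agent.OddPairs70

open Subgroup
open scoped commutatorElement

universe u

variable {G : Type u} [Group G] [Finite G] {D : Set (Subgroup G)} {p q : ℕ}

/-- An involution on a group of prime order is trivial or the inversion. -/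
theorem invol_dichotomy (hP : Pairs p q D) {C : Subgroup G} (hC : C ∈ D) {e : G} (he : e * e = 1)
    (hn : e ∈ normalizer (C : Set G)) :
    e ∈ centralizer (C : Set G) ∨ ∀ c ∈ C, e * c * e = c⁻¹ := by
  have heinv : e⁻¹ = e := IsolatedInv.inv_eq_self_of_sq he
  have hmem : ∀ c ∈ C, e * c * e ∈ C := fun c hc => by
    have := (Subgroup.mem_normalizer_iff.1 hn c).1 hc
    rwa [heinv] at this
  have hcomm : ∀ x ∈ C, ∀ y ∈ C, x * y = y * x := fun x hx y hy =>
    mem_cent.1 (le_cent_self hP hC hy) x hx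
  by_cases h : ∀ c ∈ C, c * (e * c * e) = 1
  · exact Or.inr fun c hc => eq_inv_of_mul_eq_one_right (h c hc)
  push_neg at h
  obtain ⟨c, hc, hne⟩ := h
  have hd : c * (e * c * e) ∈ C := mul_mem hc (hmem c hc)
  refine Or.inl (le_cent_singleton.1 ?_)
  rw [← zpowers_eq hP hC hd hne, zpowers_le, mem_centralizer_singleton_iff]
  calc c * (e * c * e) * e = c * (e * c) * (e * e) := by group
    _ = (e * e) * (c * (e * c)) := by rw [he, one_mul, mul_one]
    _ = e * ((e * c * e) * c) * 1 := by rw [mul_one]; group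
    _ = e * (c * (e * c * e)) := by rw [hcomm _ (hmem c hc) c hc, mul_one]

/-- Reduction of a twisted involution to one with commuting factors. -/
theorem exists_conj_comm {e : G} (he : orderOf e = 2) {K : Subgroup G}
    (hn : e ∈ normalizer (K : Set G)) (hK : Odd (Nat.card K)) {v : G} (hv : v ∈ K) :
    ∃ h ∈ K, Commute e h ∧ IsConj (v * e) (e * h) := by
  have he2 : e * e = 1 := IsolatedInv.sq_of_orderOf_two he
  have heinv : e⁻¹ = e := IsolatedInv.inv_eq_self_of_sq he2
  have hmem : ∀ k ∈ K, e * k * e ∈ K := fun k hk => by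
    have := (Subgroup.mem_normalizer_iff.1 hn k).1 hk
    rwa [heinv] at this
  have hoddel : ∀ k ∈ K, Odd (orderOf k) := fun k hk =>
    hK.of_dvd_nat (Subgroup.orderOf_dvd_natCard K hk)
  set g := v * e with hg
  have hg2 : g ^ 2 ∈ K := by
    rw [pow_two, hg, show v * e * (v * e) = v * (e * v * e) by group]
    exact mul_mem hv (hmem v hv)
  set m := orderOf (g ^ 2) with hm
  obtain ⟨l, hl⟩ := hoddel _ hg2
  set f := g ^ m with hf
  have hf2 : f * f = 1 := by
    rw [hf, ← pow_add, ← two_mul, pow_mul]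
    exact pow_orderOf_eq_one _
  have hfe : f * e ∈ K := by
    rw [hf, hm, hl, pow_succ, pow_mul,
      show (g ^ 2) ^ l * g * e = (g ^ 2) ^ l * (g * e) by group,
      show g * e = v by rw [hg, mul_assoc, he2, mul_one]]
    exact mul_mem (pow_mem hg2 l) hv
  obtain ⟨c, hc, hcf⟩ := IsolatedInv.exists_conj_of_odd hf2 he2 (hoddel _ hfe)
  have hcK : c ∈ K := Subgroup.zpowers_le.2 hfe hc
  have hgf : Commute g f := (Commute.refl g).pow_right m
  set g' := c * g * c⁻¹ with hg'
  have hce : Commute g' e := by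
    rw [← hcf]
    exact hgf.conj c
  refine ⟨e * g', ?_, ?_, ?_⟩
  · have e1 : e * g' = (e * (c * v) * e) * c⁻¹ := by
      have h1 : e * c⁻¹ = e * c⁻¹ * e * e := by rw [mul_assoc (e * c⁻¹), he2, mul_one]
      rw [hg', hg]
      calc e * (c * (v * e) * c⁻¹) = e * (c * v) * e * c⁻¹ := by group
        _ = _ := rfl
    rw [e1]
    exact mul_mem (hmem _ (mul_mem hcK hv)) (inv_mem hcK)
  · exact (Commute.refl e).mul_right hce.symm
  · rw [← mul_assoc, he2, one_mul]
    exact isConj_iff.2 ⟨c, hg'.symm⟩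

namespace Min

variable (h : Min p q D)
include h

theorem one_class {A B : Subgroup G} (hA : A ∈ D) (hB : B ∈ D) : ∃ u : G, B = cj u A := by
  obtain ⟨Q, hQ⟩ := exists_isDQ_pair h.pairs hA hB
  obtain ⟨u, -, hu⟩ := hQ.exists_cj h.pairs hA le_sup_left hB le_sup_right
  exact ⟨u, hu⟩

theorem eq_top_of_member_le {N : Subgroup G} [N.Normal] {A : Subgroup G} (hA : A ∈ D)
    (hAN : A ≤ N) : N = ⊤ := by
  rw [eq_top_iff, ← h.gen]
  refine sSup_le fun B hB => ?_
  obtain ⟨u, rfl⟩ := h.one_class hA hB.1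
  exact cj_le_of_mem hAN (by rw [Subgroup.normalizer_eq_top_iff.2 inferInstance]; exact mem_top u)

theorem not_abelian {A : Subgroup G} (hA : A ∈ D) {N : Subgroup G}
    (hab : ∀ x ∈ N, ∀ y ∈ N, x * y = y * x) : N ≠ ⊤ := by
  intro e
  have hcent : ∀ x : G, x ∈ center G := fun x => Subgroup.mem_center_iff.2 fun y =>
    hab y (e ▸ mem_top y) x (e ▸ mem_top x)
  obtain ⟨a, -, ha1, -, -⟩ := exists_gen h.pairs hA
  exact ha1 (by rw [← Subgroup.mem_bot, ← h.cen]; exact hcent a)

theorem inf_eq_bot {N : Subgroup G} [N.Normal] (hN : N ≠ ⊤) {A : Subgroup G} (hA : A ∈ D) :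
    A ⊓ N = ⊥ := by
  refine le_bot_iff.1 fun x hx => Subgroup.mem_bot.2 ?_
  by_contra hx1
  refine hN (h.eq_top_of_member_le hA ?_)
  rw [← zpowers_eq h.pairs hA hx.1 hx1, zpowers_le]
  exact hx.2

/-- Normal subgroups not supplementing a member are trivial. -/
theorem normal_eq_bot {N : Subgroup G} [N.Normal] (hsup : ∀ A ∈ D, N ⊔ A ≠ ⊤) : N = ⊥ := by
  haveI := Fact.mk h.pairs.hq
  haveI := Fact.mk h.pairs.hp
  have hP := h.pairs
  rw [← le_bot_iff, ← h.cen]
  intro x hx
  have key : ∀ A ∈ D, x ∈ centralizer (A : Set G) := by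
    intro A hA
    set H := N ⊔ A with hH
    obtain ⟨R, hR⟩ := h.prop H (hsup A hA) A hA le_sup_right
    set M := mems D H with hM
    have hAM : A ≤ M := le_mems hA le_sup_right
    set L := N ⊓ M with hL
    have hHnM : H ≤ normalizer (M : Set G) :=
      Subgroup.le_normalizer.trans (normalizer_le_mems hP H)
    have hnL : H ≤ normalizer (L : Set G) :=
      CoprimeAction.le_normalizer_inf (by rw [Subgroup.normalizer_eq_top_iff.2 inferInstance]
                                          exact le_top) hHnM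
    have hLR : L ≤ R := by
      intro y hy
      obtain ⟨u, hu, a, ha, rfl⟩ := hR.mem_decomp hP hA hAM hy.2
      by_cases ha1 : a = 1
      · rw [ha1, mul_one]; exact hu
      exfalso
      -- `p` divides the order of `u * a`
      have hd : p ∣ Nat.card L := by
        by_contra hd
        have h1 : orderOf (u * a) ∣ Nat.card L := Subgroup.orderOf_dvd_natCard L hy
        obtain ⟨u', hu', he⟩ := exists_mul_pow hu ((hAM.trans hR.norm) ha) (orderOf (u * a))
        rw [pow_orderOf_eq_one] at he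
        have h2 : a ^ orderOf (u * a) = 1 :=
          eq_one_of_mem hP hA hR.qgroup (eq_inv_of_mul_eq_one_right he.symm ▸ inv_mem hu')
            (pow_mem ha _)
        have h3 : p ∣ orderOf (u * a) := by
          have hao : orderOf a = p := by
            rw [← Nat.card_zpowers, zpowers_eq hP hA ha ha1, hP.card A hA]
          rw [← hao]
          exact orderOf_dvd_of_pow_eq_one h2
        exact hd (h3.trans h1)
      obtain ⟨⟨z, hz⟩, hzo⟩ := exists_prime_orderOf_dvd_card' p hd
      rw [Subgroup.orderOf_mk] at hzo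
      obtain ⟨w, hw, hle⟩ := exists_cj_of_le_sup hP hA hR.qgroup (hAM.trans hR.norm)
        ((zpowers_le.2 hz.2).trans (hR.split A hA hAM))
        (IsPGroup.of_card (n := 1) (by rw [pow_one, Nat.card_zpowers, hzo]))
      have hz1 : z ≠ 1 := fun e => by simp [e] at hzo; exact hP.hp.one_lt.ne hzo
      have hcjN : cj w A ≤ N := by
        rw [← zpowers_eq hP (hP.inv A hA w) (hle (mem_zpowers z)) hz1, zpowers_le]
        exact hz.1
      exact hsup A hA (by rw [h.eq_top_of_member_le (hP.inv A hA w) hcjN, top_sup_eq])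
    have hLq : IsPGroup q L := hR.qgroup.to_le hLR
    have hLbot : L = ⊥ := by
      have h1 : L ≤ BGFittingUnique.Oc q N :=
        BGFittingUnique.le_Oc inf_le_left (le_sup_left.trans hnL) hLq
      haveI : (BGFittingUnique.Oc q N).Normal := by
        rw [← Subgroup.normalizer_eq_top_iff, eq_top_iff]
        exact (le_of_eq (Subgroup.normalizer_eq_top_iff.2 inferInstance).symm).trans
          (BGFittingUnique.normalizer_le_Oc q N)
      exact le_bot_iff.1 (h1.trans (h.oq _ inferInstance (BGFittingUnique.isPGroup_Oc q N)).le)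
    refine mem_cent.2 fun a ha => ?_
    have hmem : x * a * x⁻¹ * a⁻¹ ∈ L := by
      refine Subgroup.mem_inf.2 ⟨?_, mul_mem ?_ (inv_mem (hAM ha))⟩
      · rw [mul_assoc x a, mul_assoc x (a * x⁻¹)]
        exact mul_mem hx (Subgroup.Normal.conj_mem inferInstance _ (inv_mem hx) a)
      · exact (le_mems (hP.inv A hA x)
          (cj_le_of_mem le_sup_right (Subgroup.le_normalizer (mem_sup_left hx)))) (conj_mem_cj ha)
    rw [hLbot, Subgroup.mem_bot] at hmem
    calc a * x = (x * a * x⁻¹ * a⁻¹) * a * x := by rw [hmem, one_mul]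
      _ = x * a := by group
  refine Subgroup.mem_center_iff.2 fun y => ?_
  have h1 : (⊤ : Subgroup G) ≤ centralizer ({x} : Set G) := by
    rw [← h.gen]
    exact sSup_le fun A hA => le_cent_singleton.2 (key A hA.1)
  exact mem_centralizer_singleton_iff.1 (h1 (mem_top y))

theorem even_card {A : Subgroup G} (hA : A ∈ D) : 2 ∣ Nat.card G := by
  by_contra hodd
  have hP := h.pairs
  haveI := Fact.mk hP.hq
  haveI : Group.IsSolvable G := S0205.result (by
    rw [← Nat.not_even_iff_odd, even_iff_two_dvd]; exact hodd)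
  classical
  have hex : ∃ n, derivedSeries G n = ⊥ := Group.IsSolvable.solvable (G := G)
  have hn0 : Nat.find hex ≠ 0 := fun e0 => by
    have h1 := Nat.find_spec hex
    rw [e0, derivedSeries_zero] at h1
    obtain ⟨a, -, ha1, -, -⟩ := exists_gen hP hA
    exact ha1 (Subgroup.mem_bot.1 (h1 ▸ mem_top a))
  obtain ⟨n, hn⟩ := Nat.exists_eq_succ_of_ne_zero hn0
  set N := derivedSeries G n with hN
  have hN1 : N ≠ ⊥ := Nat.find_min hex (by omega)
  have hNb : derivedSeries G (n + 1) = ⊥ := by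
    have := Nat.find_spec hex; rwa [hn] at this
  have hab : ∀ x ∈ N, ∀ y ∈ N, x * y = y * x := fun x hx y hy => by
    rw [← commutatorElement_eq_one_iff_mul_comm, ← Subgroup.mem_bot, ← hNb, derivedSeries_succ]
    exact Subgroup.commutator_mem_commutator hx hy
  haveI : N.Normal := derivedSeries_normal G n
  refine hN1 (h.normal_eq_bot fun B hB e => ?_)
  have hBN := h.inf_eq_bot (h.not_abelian hA hab) hB
  -- every kernel lies in the abelian normal subgroup
  have hkey : ∀ x : G, cj x B = B := by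
    intro x
    obtain ⟨R, hR⟩ := exists_isDQ_pair hP hB (hP.inv B hB x)
    obtain ⟨u, hu, he⟩ := hR.exists_cj hP hB le_sup_left (hP.inv B hB x) le_sup_right
    have hRN : R ≤ N := by
      intro r hr
      have hr' : r ∈ ((N ⊔ B : Subgroup G) : Set G) := e ▸ mem_top r
      rw [Subgroup.normal_mul] at hr'
      obtain ⟨m, hm, b, hb, rfl⟩ := hr'
      by_cases hb1 : b = 1
      · change m * b ∈ N
        rw [hb1, mul_one]; exact hm
      exfalso
      obtain ⟨k, hk⟩ := hR.qgroup ⟨m * b, hr⟩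
      have hk' : (m * b) ^ q ^ k = 1 := congrArg Subtype.val hk
      obtain ⟨m', hm', hpow⟩ := exists_mul_pow hm
        (by rw [Subgroup.normalizer_eq_top_iff.2 inferInstance]; exact mem_top b) (q ^ k)
      rw [hk'] at hpow
      have h1' : b ^ q ^ k ∈ N := eq_inv_of_mul_eq_one_right hpow.symm ▸ inv_mem hm'
      have h1 : b ^ q ^ k ∈ B ⊓ N := Subgroup.mem_inf.2 ⟨pow_mem hb _, h1'⟩
      rw [hBN, Subgroup.mem_bot] at h1
      have hbo : orderOf b = p := by
        rw [← Nat.card_zpowers, zpowers_eq hP hB hb hb1, hP.card B hB]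
      have h2 := orderOf_dvd_of_pow_eq_one h1
      rw [hbo] at h2
      exact hP.hpq ((Nat.prime_dvd_prime_iff_eq hP.hp hP.hq).1 (hP.hp.dvd_of_dvd_pow h2))
    have hRbot : R = ⊥ := by
      have h1 : R ≤ BGFittingUnique.Oc q N := BGFittingUnique.le_Oc hRN (fun y hy =>
        cent_le_normalizer R (mem_cent.2 fun r hr => hab r (hRN hr) y hy)) hR.qgroup
      haveI : (BGFittingUnique.Oc q N).Normal := by
        rw [← Subgroup.normalizer_eq_top_iff, eq_top_iff]
        exact (le_of_eq (Subgroup.normalizer_eq_top_iff.2 inferInstance).symm).trans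
          (BGFittingUnique.normalizer_le_Oc q N)
      exact le_bot_iff.1 (h1.trans (h.oq _ inferInstance (BGFittingUnique.isPGroup_Oc q N)).le)
    rw [hRbot, Subgroup.mem_bot] at hu
    rw [he, hu, cj_one]
  haveI : B.Normal := by
    rw [← Subgroup.normalizer_eq_top_iff, eq_top_iff]
    exact fun x _ => cj_eq_iff.1 (hkey x)
  have hBt := h.eq_top_of_member_le (N := B) hB le_rfl
  refine h.not_abelian hA (N := (⊤ : Subgroup G)) (fun x hx y hy => ?_) rfl
  exact mem_cent.1 (le_cent_self hP hB (hBt ▸ hy)) x (hBt ▸ hx)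

theorem core_eq_bot {A : Subgroup G} (hA : A ∈ D) : Cfsg.pPrimeCore 2 G = ⊥ := by
  haveI := HallCore.pPrimeCore_normal 2 G
  haveI := Fact.mk Nat.prime_two
  refine h.normal_eq_bot fun B hB e => ?_
  have h2 := h.even_card hA
  rw [← Subgroup.card_top (G := G), ← e, sup_comm] at h2
  rcases (Nat.Prime.dvd_mul Nat.prime_two).1 (h2.trans (HallCore.card_sup_dvd B _)) with h1 | h1
  · rw [h.pairs.card B hB] at h1
    exact h.pairs.hp2 ((Nat.prime_dvd_prime_iff_eq Nat.prime_two h.pairs.hp).1 h1).symm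
  · exact HallCore.not_dvd_card_pPrimeCore 2 G h1

theorem not_isolated {A : Subgroup G} (hA : A ∈ D) {e : G} (he : Cfsg.IsIsolatedInvolution e) :
    False := by
  have h1 := ZStarTheorem.mem_center_of_isolated he (h.core_eq_bot hA)
  rw [h.cen, Subgroup.mem_bot] at h1
  exact IsolatedInv.ne_one_of_orderOf_two he.1 h1

theorem exists_conj_ne {A : Subgroup G} (hA : A ∈ D) {e : G} (he : orderOf e = 2) :
    ∃ g : G, Commute e (g * e * g⁻¹) ∧ g * e * g⁻¹ ≠ e := by
  by_contra hcon
  refine h.not_isolated hA ⟨he, fun g hg => ?_⟩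
  by_contra hne
  exact hcon ⟨g, hg, hne⟩

theorem exists_invol {A : Subgroup G} (hA : A ∈ D) :
    ∃ f : G, orderOf f = 2 ∧ ∃ B ∈ D, B ≤ hx D f := by
  haveI := Fact.mk Nat.prime_two
  have hP := h.pairs
  obtain ⟨e, he⟩ := exists_prime_orderOf_dvd_card' 2 (h.even_card hA)
  obtain ⟨g, hcomm, hne⟩ := h.exists_conj_ne hA he
  set v := g * e * g⁻¹ with hv
  have he2 : e * e = 1 := IsolatedInv.sq_of_orderOf_two he
  have hvo : orderOf v = 2 := (ZStarBasic.orderOf_conj_eq g e).trans he
  have hv2 : v * v = 1 := IsolatedInv.sq_of_orderOf_two hvo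
  obtain ⟨C₀, hC₀, -, heC₀⟩ := exists_mid hP he2 hA
  set C₁ := cj v C₀ with hC₁
  obtain ⟨Q, hQ⟩ := exists_isDQ_pair hP hC₀ (hP.inv C₀ hC₀ v)
  set M := C₀ ⊔ C₁ with hM
  have heM : e ∈ normalizer (M : Set G) := cj_eq_iff.1 (by
    rw [hM, cj, Subgroup.map_sup, ← cj, ← cj, cj_eq_iff.2 heC₀, hC₁, cj_cj, hcomm.eq, ← cj_cj,
      cj_eq_iff.2 heC₀])
  have hvM : v ∈ normalizer (M : Set G) := cj_eq_iff.1 (by
    rw [hM, cj, Subgroup.map_sup, ← cj, ← cj, hC₁, cj_cj, hv2, cj_one, sup_comm])
  have hEn : zpowers v ≤ normalizer (zpowers e : Set G) := zpowers_le.2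
    (cent_le_normalizer _ (le_cent_singleton.1
      (zpowers_le.2 (mem_centralizer_singleton_iff.2 hcomm.eq))))
  have hE : IsPGroup 2 (zpowers e ⊔ zpowers v : Subgroup G) :=
    (isPGroup_zpowers_invol he2).to_sup_of_normal_left' (isPGroup_zpowers_invol hv2) hEn
  obtain ⟨C, hC, -, hn⟩ :=
    hQ.exists_fixed hP hC₀ le_sup_left hE (sup_le (zpowers_le.2 heM) (zpowers_le.2 hvM))
  have hfin : ∀ t : G, orderOf t = 2 → t ∈ centralizer (C : Set G) →
      ∃ f : G, orderOf f = 2 ∧ ∃ B ∈ D, B ≤ hx D f :=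
    fun t ht htC => ⟨t, ht, C, hC, (le_hx_iff hC).2 htC⟩
  rcases invol_dichotomy hP hC he2 (hn (mem_sup_left (mem_zpowers e))) with h1 | h1
  · exact hfin e he h1
  rcases invol_dichotomy hP hC hv2 (hn (mem_sup_right (mem_zpowers v))) with h2 | h2
  · exact hfin v hvo h2
  have hevo : orderOf (e * v) = 2 := orderOf_eq_prime
    (by rw [pow_two, hcomm.symm.mul_mul_mul_comm, he2, hv2, one_mul]) (fun e' => hne (by
      rw [mul_eq_one_iff_inv_eq, IsolatedInv.inv_eq_self_of_sq he2] at e'
      exact e'.symm))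
  refine hfin _ hevo (mem_cent.2 fun c hc => ?_)
  have h3 : e * v * c * (e * v) = c := by
    calc e * v * c * (e * v) = e * v * c * (v * e) := by rw [← hcomm.eq]
      _ = e * (v * c * v) * e := by group
      _ = c := by rw [h2 c hc, h1 _ (inv_mem hc), inv_inv]
  calc c * (e * v) = e * v * c * (e * v) * (e * v) := by rw [h3]
    _ = e * v * c * ((e * v) * (e * v)) := by group
    _ = e * v * c := by rw [hcomm.symm.mul_mul_mul_comm, he2, hv2, one_mul, mul_one]

theorem exists_two {e : G} (he : orderOf e = 2) {C : Subgroup G} (hC : C ∈ D)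
    (hCe : C ≤ hx D e) : ∃ B ∈ D, B ≤ hx D e ∧ B ≠ C := by
  haveI := Fact.mk Nat.prime_two
  by_contra hcon
  push_neg at hcon
  have hP := h.pairs
  have he2 := IsolatedInv.sq_of_orderOf_two he
  have heC := (le_hx_iff hC).1 hCe
  refine h.not_isolated hC ⟨he, fun g hcomm => ?_⟩
  by_contra hne
  set v := g * e * g⁻¹ with hv
  have hvo : orderOf v = 2 := (ZStarBasic.orderOf_conj_eq g e).trans he
  have hv2 : v * v = 1 := IsolatedInv.sq_of_orderOf_two hvo
  -- `v` too fixes only `C`
  have hvone : ∀ B ∈ D, B ≤ hx D v → B = cj g C := by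
    intro B hB hBv
    have h1 : cj g⁻¹ B ≤ hx D e := by
      have h2 := cj_mono (g := g⁻¹) hBv
      rwa [cj_hx hP, hv, show g⁻¹ * (g * e * g⁻¹) * g⁻¹⁻¹ = e by group] at h2
    rw [← hcon _ (hP.inv B hB g⁻¹) h1, cj_cj, mul_inv_cancel, cj_one]
  have hgC : cj g C ≤ hx D v := by
    rw [hv, ← cj_hx hP]
    exact cj_mono hCe
  have hvC : cj g C = C := by
    have heq : hx D v = cj g C :=
      le_antisymm (sSup_le fun B hB => (hvone B hB.1 (le_mems hB.1 hB.2)).le) hgC
    have h1 : e ∈ normalizer (cj g C : Set G) := heq ▸ commute_normalises_hx hP hcomm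
    exact hcon _ (hP.inv C hC g)
      ((le_hx_iff (hP.inv C hC g)).2 (cent_of_two hP (hP.inv C hC g) hC h1 heC))
  rw [hvC] at hvone hgC
  have hvC' := (le_hx_iff hC).1 hgC
  set f := e * v with hf
  have hf1 : f ≠ 1 := fun e' => hne (by
    rw [hf, mul_eq_one_iff_inv_eq, IsolatedInv.inv_eq_self_of_sq he2] at e'
    exact e'.symm)
  have hfC : f ∈ centralizer (C : Set G) := mul_mem heC hvC'
  -- `f` centralises every member
  have key : ∀ B ∈ D, f ∈ centralizer (B : Set G) := by
    intro B hB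
    by_cases hBC : B = C
    · rwa [hBC]
    obtain ⟨C₁, hC₁, hle₁, hCx₁⟩ := exists_mid_cent hP he2 hB hC heC
    rw [hcon C₁ hC₁ hCx₁] at hle₁
    obtain ⟨C₂, hC₂, hle₂, hCx₂⟩ := exists_mid_cent hP hv2 hB hC hvC'
    rw [hvone C₂ hC₂ hCx₂] at hle₂
    set M := B ⊔ C with hM
    have hnorm : ∀ t : G, t * t = 1 → C ≤ B ⊔ cj t B → t ∈ normalizer (M : Set G) := by
      intro t ht hle
      rw [hM, line_eq hP hB (hP.inv B hB t) hC (Ne.symm hBC) hle]
      exact cj_eq_iff.1 (by
        rw [cj, Subgroup.map_sup, ← cj, ← cj, cj_cj, ht, cj_one, sup_comm])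
    have heM := hnorm e he2 hle₁
    have hvM := hnorm v hv2 hle₂
    obtain ⟨QM, hQM⟩ := exists_isDQ_pair hP hC hB
    rw [sup_comm, ← hM] at hQM
    have hCM : C ≤ M := le_sup_right
    by_cases hsec : ∃ B₂ ∈ D, B₂ ≤ M ∧ B₂ ≠ C ∧ f ∈ centralizer (B₂ : Set G)
    · obtain ⟨B₂, hB₂, hle, hne₂, hfB₂⟩ := hsec
      have h1 : B ≤ C ⊔ B₂ := hP.line C hC B hB B₂ hB₂ hne₂ (hle.trans (sup_comm B C).le)
      exact le_cent_singleton.1
        (h1.trans (sup_le (le_cent_singleton.2 hfC) (le_cent_singleton.2 hfB₂)))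
    push_neg at hsec
    exfalso
    have hev : e ∉ zpowers v := fun hm => by
      obtain ⟨m, hm⟩ := mem_zpowers_iff.1 hm
      rw [← zpow_mod_orderOf, hvo] at hm
      rcases Int.emod_two_eq_zero_or_one m with h0 | h0
      · simp [h0] at hm; exact IsolatedInv.ne_one_of_orderOf_two he hm.symm
      · simp [h0] at hm; exact hne hm
    have hpair : CoprimeGen.IsPairAction 2 e v QM := ⟨hcomm, by rw [pow_two, he2],
      by rw [pow_two, hv2], IsolatedInv.ne_one_of_orderOf_two hvo, hev,
      hQM.normalizer_le hP hC hCM heM, hQM.normalizer_le hP hC hCM hvM⟩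
    have hle : QM ≤ centralizer (C : Set G) := by
      refine CoprimeGen.le_of_pair_centralizers hpair
        (fun hd => hQM.not_dvd_two hP hC hCM (hd.trans (Subgroup.card_dvd_of_le hQM.le))) ?_
      rintro t ht ht1 u ⟨hu, hut⟩
      have hcases : t = e ∨ t = v ∨ t = f := by
        obtain ⟨m, n, rfl⟩ := CoprimeGen.mem_pairSubgroup_iff.1 ht
        rw [← zpow_mod_orderOf e, he, ← zpow_mod_orderOf v, hvo] at ht1 ⊢
        rcases Int.emod_two_eq_zero_or_one m with h0 | h0 <;>
          rcases Int.emod_two_eq_zero_or_one n with h1 | h1 <;> simp [h0, h1, hf] at ht1 ⊢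
      have htC : t ∈ centralizer (C : Set G) := by
        rcases hcases with rfl | rfl | rfl <;> assumption
      have hut' : u * t * u⁻¹ = t := by
        rw [mem_centralizer_singleton_iff.1 hut, mul_inv_cancel_right]
      have h1 : t ∈ centralizer (cj u C : Set G) := hut' ▸ mem_cent_cj htC
      have h2 : cj u C = C := by
        rcases hcases with rfl | rfl | rfl
        · exact hcon _ (hP.inv C hC u) ((le_hx_iff (hP.inv C hC u)).2 h1)
        · exact hvone _ (hP.inv C hC u) ((le_hx_iff (hP.inv C hC u)).2 h1)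
        · by_contra hne'
          exact hsec _ (hP.inv C hC u)
            (cj_le_of_mem hCM (Subgroup.le_normalizer (hQM.le hu))) hne' h1
      exact mem_cent_of_mem_normalizer hP hC hQM.qgroup (hCM.trans hQM.norm) hu (cj_eq_iff.1 h2)
    obtain ⟨u, hu, he'⟩ := hQM.exists_cj hP hC hCM hB le_sup_left
    exact hBC (he'.trans (cj_eq_iff.2 (cent_le_normalizer C (hle hu))))
  refine h.cent_ne_top hf1 (top_le_iff.1 ?_)
  rw [← h.gen]
  exact sSup_le fun B hB => le_cent_singleton.2 (key B hB.1)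

theorem false_of_member {A : Subgroup G} (hA : A ∈ D) : False := by
  haveI := Fact.mk Nat.prime_two
  haveI := Fintype.ofFinite G
  have hP := h.pairs
  obtain ⟨f₀, hf₀, B₀, hB₀, hB₀f⟩ := h.exists_invol hA
  let s : Set G := {f | orderOf f = 2 ∧ ∃ B ∈ D, B ≤ hx D f}
  obtain ⟨e, ⟨he, C, hC, hCX⟩, hmax⟩ := Set.exists_max_image s
    (fun f => Nat.card (hx D f)) (Set.toFinite _) ⟨f₀, hf₀, B₀, hB₀, hB₀f⟩
  have hmax' : ∀ f : G, orderOf f = 2 → ∀ B ∈ D, B ≤ hx D f →
      Nat.card (hx D f) ≤ Nat.card (hx D e) := fun f hf B hB hBf =>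
    hmax f ⟨hf, B, hB, hBf⟩
  have htwo : ∀ C ∈ D, C ≤ hx D e → ∃ B ∈ D, B ≤ hx D e ∧ B ≠ C :=
    fun C hC hCe => h.exists_two he hC hCe
  have he1 : e ≠ 1 := IsolatedInv.ne_one_of_orderOf_two he
  have he2 : e * e = 1 := IsolatedInv.sq_of_orderOf_two he
  have heC := (le_hx_iff hC).1 hCX
  obtain ⟨QX, hQX⟩ := h.exists_dq (h.hx_ne_top he1) (mems_mems _).ge hC hCX
  have hXcore : hx D e ≤ Cfsg.centralizerPPrimeCore 2 e :=
    le_core (mems_le D _) (fun g hg => commute_normalises_hx hP (mem_centralizer_singleton_iff.1 hg))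
      (hQX.not_dvd_two hP hC hCX)
  obtain ⟨a, haC, ha1, -, -⟩ := exists_gen hP hC
  obtain ⟨M, hM⟩ := ZStarCount.exists_isPModular 2 Nat.prime_two
  obtain ⟨hKC, hKodd, hKn⟩ := ZStarPrincipal.centralizerPPrimeCore_spec (p := 2) e
  have key : ∀ χ : Cfsg.IrrCharacter G, χ ∈ Cfsg.principalBlock M G →
      (χ : G → ℂ) a * (χ : G → ℂ) e = (χ : G → ℂ) 1 * (χ : G → ℂ) e := by
    intro χ hχ
    have happ : ∀ k ∈ Cfsg.centralizerPPrimeCore 2 e, (χ : G → ℂ) (e * k) = (χ : G → ℂ) e :=
      fun k hk => ZStarPrincipal.apply_eq_of_mem hM ⟨1, by rw [he, pow_one]⟩ hKC hKodd hKn hχ hk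
    refine ZStarCount.mul_eq_of_forall_conj χ a e _ fun v hv => ?_
    obtain ⟨g, rfl⟩ := isConj_iff.1 hv
    set B := cj g C with hBdef
    have hB : B ∈ D := hP.inv C hC g
    have hvB : g * a * g⁻¹ ∈ B := conj_mem_cj haC
    by_cases heB : e ∈ centralizer (B : Set G)
    · rw [mem_cent.1 heB _ hvB]
      exact happ _ (hXcore ((le_hx_iff hB).2 heB hvB))
    obtain ⟨C', hC', hle, hC'X⟩ := exists_mid_cent hP he2 hB hC heC
    have hne : C' ≠ B := fun e' => heB ((le_hx_iff hB).1 (e' ▸ hC'X))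
    have hMeq : B ⊔ C' = B ⊔ cj e B := line_eq hP hB (hP.inv B hB e) hC' hne hle
    obtain ⟨QM, hQM⟩ := exists_isDQ_pair hP hC' hB
    have hen : e ∈ normalizer ((C' ⊔ B : Subgroup G) : Set G) := by
      rw [sup_comm, hMeq]
      exact cj_eq_iff.1 (by rw [cj, Subgroup.map_sup, ← cj, ← cj, cj_cj e e B, he2, cj_one, sup_comm])
    have hodd : Odd (Nat.card (C' ⊔ B : Subgroup G)) := by
      rw [← Nat.not_even_iff_odd, even_iff_two_dvd]
      exact hQM.not_dvd_two hP hC' le_sup_left
    obtain ⟨w, hwK, hew, hconj⟩ := exists_conj_comm he hen hodd (mem_sup_right hvB)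
    obtain ⟨c', hc'⟩ := isConj_iff.1 hconj
    rw [← BlockTheoryCentre.irr_classFun χ (g * a * g⁻¹ * e) c', hc']
    refine happ w ?_
    obtain ⟨u, hu, c, hc, rfl⟩ := hQM.mem_decomp hP hC' le_sup_left hwK
    have hec : Commute e c := (mem_cent.1 ((le_hx_iff hC').1 hC'X) c hc).symm
    have hue : Commute e u := by
      have := hew.mul_right hec.inv_right
      rwa [mul_inv_cancel_right] at this
    exact mul_mem (h.mem_core he hmax' htwo hC' hB hne.symm hC'X hQM rfl hu hue.symm)
      (hXcore (hC'X hc))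
  have hzero : ∀ χ : Cfsg.IrrCharacter G, χ ∈ Cfsg.principalBlock M G →
      (χ : G → ℂ) ≠ (fun _ => 1) → (χ : G → ℂ) e = 0 := by
    intro χ hχ hne
    by_contra hnz
    have h1 : (χ : G → ℂ) a = (χ : G → ℂ) 1 := mul_right_cancel₀ hnz (key χ hχ)
    haveI := CharKernel.irrKer_normal χ
    have hCk : C ≤ CharKernel.irrKer χ := by
      rw [← zpowers_eq hP hC haC ha1, zpowers_le]
      exact CharKernel.mem_irrKer.2 h1
    have htop := h.eq_top_of_member_le hC hCk
    have hconst : ∀ g : G, (χ : G → ℂ) g = (χ : G → ℂ) 1 := fun g =>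
      CharKernel.mem_irrKer.1 (htop ▸ Subgroup.mem_top g)
    have h0 := CharBasicOrth.classInner_irr_ne χ.2 CharBasicDecomp.isIrrCharacter_one hne
    rw [Cfsg.classInner] at h0
    simp only [hconst, map_one, mul_one, Finset.sum_const, Finset.card_univ, nsmul_eq_mul,
      mul_eq_zero, inv_eq_zero, Nat.cast_eq_zero] at h0
    rcases h0 with h0 | h0 | h0
    · exact Nat.card_pos.ne' h0
    · exact Fintype.card_ne_zero h0
    · exact CharBasic.isIrrCharacter_apply_one_ne_zero χ.2 h0
  classical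
  have horth : ∑ χ : Cfsg.IrrCharacter G,
      (if χ ∈ Cfsg.principalBlock M G then (χ : G → ℂ) 1 * (χ : G → ℂ) e else 0) = 0 := by
    refine Eq.trans (Finset.sum_congr rfl fun χ _ => ?_)
      (BlockTheoryIdem.weak_orthogonality hM BlockPrincipal81.isPBlock_principal (x := 1) (y := e)
        (by simp) (by rw [he]))
    rw [← BlockTheoryCentre.irr_inv, IsolatedInv.inv_eq_self_of_sq he2]
  rw [Finset.sum_eq_single (BlockPrincipal81.oneChar G)] at horth
  · rw [if_pos (BlockPrincipal81.oneChar_mem hM)] at horth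
    change (1 : ℂ) * 1 = 0 at horth
    norm_num at horth
  · intro χ _ hne
    by_cases hχ : χ ∈ Cfsg.principalBlock M G
    · rw [if_pos hχ, hzero χ hχ fun e' => hne (Subtype.ext e'), mul_zero]
    · simp [hχ]
  · simp

end Min

theorem exists_isDQ_aux : ∀ (n : ℕ) {G : Type u} [Group G] [Finite G] {D : Set (Subgroup G)},
    Nat.card G = n → Pairs p q D → Good q D → mems D ⊤ = ⊤ → D.Nonempty →
      ∃ Q, IsDQ q D ⊤ Q := by
  intro n
  induction n using Nat.strong_induction_on with
  | _ n IH =>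
    intro G _ _ D hn hP hG hgen hne
    obtain ⟨A, hA⟩ := hne
    by_contra hcon
    have hlt : ∀ (N : Subgroup G) [N.Normal], N ≠ ⊥ → Nat.card (G ⧸ N) < n := by
      intro N _ hN
      have h1 := Subgroup.card_eq_card_quotient_mul_card_subgroup N
      have h2 : 1 < Nat.card N := (Subgroup.one_lt_card_iff_ne_bot N).2 hN
      have h3 : 0 < Nat.card (G ⧸ N) := Nat.card_pos
      calc Nat.card (G ⧸ N) = Nat.card (G ⧸ N) * 1 := (mul_one _).symm
        _ < Nat.card (G ⧸ N) * Nat.card N := by exact Nat.mul_lt_mul_of_pos_left h2 h3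
        _ = n := h1.symm.trans hn
    have hquot : ∀ (N : Subgroup G) [N.Normal], (IsPGroup q N ∨ N ≤ center G) →
        (∀ A ∈ D, A ⊓ N = ⊥) → N = ⊥ := by
      intro N _ hN hNA
      by_contra hne
      exact hcon (exists_isDQ_of_img hP hN hNA hgen hA
        (IH _ (hlt N hne) rfl (hP.image hNA) (hG.image hP hN hNA) (img_gen hgen) ⟨_, A, hA, rfl⟩))
    have hmin : Min p q D := by
      refine ⟨hP, hG, ?_, ?_, ?_, hgen, fun Q hQ => hcon ⟨Q, hQ⟩⟩
      · intro H hH B hB hBH
        set K := mems D H with hK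
        have hKt : Nat.card K < n := by
          rw [← hn]
          exact lt_of_le_of_ne (Subgroup.card_le_card_group K) fun h1 =>
            hH (top_le_iff.1 ((Subgroup.card_eq_iff_eq_top K).1 h1 ▸ mems_le D H))
        obtain ⟨B', hB', -⟩ := exists_restr hB (le_mems hB hBH)
        exact exists_isDQ_of_restr (IH _ hKt rfl (hP.restrict K) (hG.restrict K)
          (restr_gen (mems_mems H).ge) ⟨B', hB'⟩)
      · intro W hW hWq
        exact hquot W (Or.inl hWq) fun B hB =>
          Subgroup.inf_eq_bot_of_coprime (coprime_member hP hB hWq)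
      · refine hquot (center G) (Or.inr le_rfl) fun B hB => le_bot_iff.1 fun x hx => ?_
        rw [Subgroup.mem_bot]
        by_contra hx1
        have hBc : B ≤ center G := by
          rw [← zpowers_eq hP hB hx.1 hx1, zpowers_le]; exact hx.2
        have hall : ∀ C ∈ D, C = B := fun C hC => (hP.ncomm B hB C hC fun c _ =>
          cent_le_normalizer B (mem_cent.2 fun b hb =>
            (Subgroup.mem_center_iff.1 (hBc hb) c).symm)).symm
        have htop : (⊤ : Subgroup G) ≤ B := by
          rw [← hgen]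
          exact sSup_le fun C hC => (hall C hC.1).le
        refine hcon ⟨⊥, IsDQ.mk' hP hB le_top ?_ (IsPGroup.of_bot) bot_le ?_ ?_⟩
        · rw [hgen]
        · rw [Subgroup.normalizer_eq_top_iff.2 inferInstance]
        · exact htop.trans le_sup_right
    exact hmin.false_of_member hA

/-- The whole group is a `D`-subgroup. -/
theorem exists_isDQ (hP : Pairs p q D) (hG : Good q D) (hgen : mems D ⊤ = ⊤) (hne : D.Nonempty) :
    ∃ Q, IsDQ q D ⊤ Q :=
  exists_isDQ_aux _ rfl hP hG hgen hne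

end Cfsg.Agent.OddPairs70
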