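import Cfsg.Agent.Lib.OddPairs70Main
import Cfsg.Agent.Lib.OddPairs70Fix

/-!
# Groups generated by subgroups of order `p` whose pairs generate one fixed group of odd order
-/

set_option autoImplicit false
set_option linter.unusedSectionVars false
set_option linter.style.haveILetI false

namespace Cfsg.Agent.OddPairs70

open Subgroup
open scoped commutatorElement

universe u v

variable {G : Type u} [Group G] [Finite G] {F : Type v} [Group F] [Finite F]

/-- `q`-elements commute with each other. -/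
def qComm (q : ℕ) (H : Type*) [Group H] : Prop :=
  ∀ x y : H, ∀ i j : ℕ, x ^ q ^ i = 1 → y ^ q ^ j = 1 → x * y = y * x

theorem qComm.congr {q : ℕ} {H H' : Type*} [Group H] [Group H'] (h : qComm q H) (e : H ≃* H') :
    qComm q H' := fun x y i j hx hy => e.symm.injective (by
  rw [map_mul, map_mul]
  exact h _ _ i j (by rw [← map_pow, hx, map_one]) (by rw [← map_pow, hy, map_one]))

/-- A subgroup of order `p` normalised by a `p`-group is centralised by it. -/
theorem cent_of_pgroup {p : ℕ} [Fact p.Prime] {A P : Subgroup G} (hA : Nat.card A = p)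
    (hP : IsPGroup p P) (hn : P ≤ normalizer (A : Set G)) : P ≤ centralizer (A : Set G) := by
  have hA1 : A ≠ ⊥ := fun e => by
    rw [e, Subgroup.card_bot] at hA
    exact (Fact.out : p.Prime).one_lt.ne hA
  obtain ⟨v, hv, hv1, hvc⟩ :=
    exists_fixed_qgroup (IsPGroup.of_card (n := 1) (by rw [pow_one, hA])) hA1 hP hn
  have hgen : zpowers v = A := by
    refine Subgroup.eq_of_le_of_card_ge (zpowers_le.2 hv) ?_
    rw [hA, Nat.card_zpowers]
    have h := Subgroup.orderOf_dvd_natCard A hv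
    rw [hA] at h
    rcases (Nat.dvd_prime Fact.out).1 h with h1 | h1
    · exact absurd (orderOf_eq_one_iff.1 h1) hv1
    · exact h1.ge
  intro x hx
  rw [← le_cent_singleton, ← hgen, zpowers_le, mem_centralizer_singleton_iff]
  exact (hvc x hx).symm

/-- The hypotheses. -/
structure Hyp (p : ℕ) (D : Set (Subgroup G)) (F : Type v) [Group F] : Prop where
  hp : p.Prime
  hp2 : p ≠ 2
  card : ∀ A ∈ D, Nat.card A = p
  inv : ∀ A ∈ D, ∀ g : G, cj g A ∈ D
  gen : mems D ⊤ = ⊤
  pair : ∀ A ∈ D, ∀ B ∈ D, A ≠ B → Nonempty ((A ⊔ B : Subgroup G) ≃* F)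
  odd : Odd (Nat.card F)
  nonab : ¬ ∀ x y : G, x * y = y * x

namespace Hyp

variable {p : ℕ} {D : Set (Subgroup G)} (h : Hyp p D F)
include h

theorem eq_of_le {A B : Subgroup G} (hA : A ∈ D) (hB : B ∈ D) (hle : A ≤ B) : A = B :=
  Subgroup.eq_of_le_of_card_ge hle (by rw [h.card A hA, h.card B hB])

theorem card_sup {A B : Subgroup G} (hA : A ∈ D) (hB : B ∈ D) (hne : A ≠ B) :
    Nat.card (A ⊔ B : Subgroup G) = Nat.card F :=
  (h.pair A hA B hB hne).elim fun e => Nat.card_congr e.toEquiv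

theorem sup_eq {A B C E : Subgroup G} (hA : A ∈ D) (hB : B ∈ D) (hne : A ≠ B) (hC : C ∈ D)
    (hE : E ∈ D) (hne' : C ≠ E) (hle : A ⊔ B ≤ C ⊔ E) : A ⊔ B = C ⊔ E :=
  Subgroup.eq_of_le_of_card_ge hle (by rw [h.card_sup hA hB hne, h.card_sup hC hE hne'])

theorem exists_ne : ∃ A ∈ D, ∃ B ∈ D, A ≠ B := by
  by_contra hcon
  push_neg at hcon
  refine h.nonab fun x y => ?_
  by_cases hD : D.Nonempty
  · obtain ⟨A, hA⟩ := hD
    haveI := Fact.mk h.hp
    have htop : (⊤ : Subgroup G) ≤ A := by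
      rw [← h.gen]
      exact sSup_le fun B hB => (hcon B hB.1 A hA).le
    exact mem_cent.1 (cent_of_pgroup (h.card A hA)
      (IsPGroup.of_card (n := 1) (by rw [pow_one, h.card A hA])) Subgroup.le_normalizer
      (htop (mem_top y))) x (htop (mem_top x))
  · have htop : (⊤ : Subgroup G) ≤ ⊥ := by
      rw [← h.gen]
      exact sSup_le fun B hB => absurd ⟨B, hB.1⟩ hD
    rw [Subgroup.mem_bot.1 (htop (mem_top x)), one_mul, mul_one]

theorem ncomm {A B : Subgroup G} (hA : A ∈ D) (hB : B ∈ D)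
    (hn : B ≤ normalizer (A : Set G)) : A = B := by
  by_contra hne
  haveI := Fact.mk h.hp
  have hBC : B ≤ centralizer (A : Set G) :=
    cent_of_pgroup (h.card A hA) (IsPGroup.of_card (n := 1) (by rw [pow_one, h.card B hB])) hn
  have hself : ∀ C ∈ D, C ≤ centralizer (C : Set G) := fun C hC =>
    cent_of_pgroup (h.card C hC) (IsPGroup.of_card (n := 1) (by rw [pow_one, h.card C hC]))
      Subgroup.le_normalizer
  have hAB : ∀ x ∈ A ⊔ B, ∀ y ∈ A ⊔ B, x * y = y * x := by
    have h1 : A ⊔ B ≤ centralizer ((A ⊔ B : Subgroup G) : Set G) := by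
      refine sup_le ?_ ?_ <;> intro x hx <;> refine le_cent_singleton.1 (sup_le ?_ ?_) <;>
        refine le_cent_singleton.2 ?_
      · exact hself A hA hx
      · exact mem_cent.2 fun b hb => (mem_cent.1 (hBC hb) x hx).symm
      · exact hBC hx
      · exact hself B hB hx
    exact fun x hx y hy => mem_cent.1 (h1 hy) x hx
  obtain ⟨e⟩ := h.pair A hA B hB hne
  have hF : ∀ x y : F, x * y = y * x := fun x y => by
    apply e.symm.injective
    rw [map_mul, map_mul]
    exact Subtype.ext (hAB _ (e.symm x).2 _ (e.symm y).2)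
  refine h.nonab fun x y => ?_
  have htop : ∀ C ∈ D, (⊤ : Subgroup G) ≤ centralizer (C : Set G) := fun C hC => by
    rw [← h.gen]
    refine sSup_le fun E hE => ?_
    by_cases hCE : C = E
    · rw [← hCE]; exact hself C hC
    obtain ⟨e'⟩ := h.pair C hC E hE.1 hCE
    intro z hz
    refine mem_cent.2 fun c hc => ?_
    exact congrArg Subtype.val (e'.injective
      (a₁ := ⟨c, mem_sup_left hc⟩ * ⟨z, mem_sup_right hz⟩)
      (a₂ := ⟨z, mem_sup_right hz⟩ * ⟨c, mem_sup_left hc⟩) (by rw [map_mul, map_mul]; exact hF _ _))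
  have h2 : (⊤ : Subgroup G) ≤ centralizer ({y} : Set G) := by
    rw [← h.gen]
    exact sSup_le fun C hC => le_cent_singleton.2 (htop C hC.1 (mem_top y))
  exact mem_centralizer_singleton_iff.1 (h2 (mem_top x))

theorem not_pgroup {A B : Subgroup G} (hA : A ∈ D) (hB : B ∈ D) (hne : A ≠ B) :
    ¬ IsPGroup p (A ⊔ B : Subgroup G) := by
  intro hK
  haveI := Fact.mk h.hp
  obtain ⟨b, hb, hbA⟩ : ∃ b ∈ B, cj b A ≠ A := by
    by_contra hcon
    push_neg at hcon
    exact hne (h.ncomm hA hB fun b hb => cj_eq_iff.1 (hcon b hb))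
  set K := A ⊔ B with hKdef
  let s : Set (Subgroup G) := {M | A ≤ M ∧ M ≤ K ∧ M ≠ K}
  have hs : s.Nonempty := ⟨A, le_rfl, le_sup_left, fun e =>
    hne (h.eq_of_le hB hA (le_sup_right.trans e.ge)).symm⟩
  obtain ⟨M, ⟨hAM, hMK, hMne⟩, hmax⟩ :=
    Set.exists_max_image s (fun M => Nat.card M) (Set.toFinite _) hs
  obtain ⟨g, hg, hgM, hgN⟩ := exists_grow hK hMK hMne
  have hKN : K ≤ normalizer (M : Set G) := by
    by_cases hM' : M ⊔ zpowers g = K
    · rw [← hM']
      exact sup_le Subgroup.le_normalizer (zpowers_le.2 hgN)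
    · exfalso
      have h1 := hmax (M ⊔ zpowers g) ⟨hAM.trans le_sup_left, sup_le hMK (zpowers_le.2 hg), hM'⟩
      exact hgM ((Subgroup.eq_of_le_of_card_ge le_sup_left h1).ge
        (mem_sup_right (mem_zpowers g)))
  have hle : A ⊔ cj b A ≤ M := sup_le hAM (cj_le_of_mem hAM (hKN (mem_sup_right hb)))
  have := h.sup_eq hA (h.inv A hA b) (Ne.symm hbA) hA hB hne (hle.trans hMK)
  exact hMne (le_antisymm hMK (this.symm.le.trans hle))

theorem exists_kernel {A B : Subgroup G} (hA : A ∈ D) (hB : B ∈ D) (hne : A ≠ B) :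
    ∃ r : ℕ, r.Prime ∧ r ≠ p ∧ ∃ Q : Subgroup G, IsPGroup r Q ∧ Q ≤ A ⊔ B ∧
      A ⊔ B ≤ normalizer (Q : Set G) ∧ A ⊔ B ≤ Q ⊔ A := by
  haveI := Fact.mk h.hp
  have hA' : IsPGroup p A := IsPGroup.of_card (n := 1) (by rw [pow_one, h.card A hA])
  obtain ⟨b, hb, hbA⟩ : ∃ b ∈ B, cj b A ≠ A := by
    by_contra hcon
    push_neg at hcon
    exact hne (h.ncomm hA hB fun b hb => cj_eq_iff.1 (hcon b hb))
  set K := A ⊔ B with hKdef
  haveI : Group.IsSolvable K := S0205.result (by rw [hKdef, h.card_sup hA hB hne]; exact h.odd)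
  by_contra hcon
  have hfix : ∀ s : ℕ, s.Prime → BGFittingUnique.Oc s K ≤ normalizer (A : Set G) := by
    intro s hs x hx
    refine cj_eq_iff.1 (by_contra fun hxA => ?_)
    have hxK := BGFittingUnique.Oc_le s K hx
    have h1 : A ⊔ cj x A ≤ K :=
      sup_le le_sup_left (cj_le_of_mem le_sup_left (Subgroup.le_normalizer hxK))
    have h2 := h.sup_eq hA (h.inv A hA x) (Ne.symm hxA) hA hB hne h1
    have h3 : K ≤ BGFittingUnique.Oc s K ⊔ A := h2.ge.trans (sup_le le_sup_right
      (cj_le_of_mem le_sup_right (Subgroup.le_normalizer (mem_sup_left hx))))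
    by_cases hsp : s = p
    · subst hsp
      exact h.not_pgroup hA hB hne (((BGFittingUnique.isPGroup_Oc s K).to_sup_of_normal_left' hA'
        ((le_sup_left : A ≤ K).trans (BGFittingUnique.le_normalizer_Oc s K))).to_le h3)
    · exact hcon ⟨s, hs, hsp, _, BGFittingUnique.isPGroup_Oc s K, BGFittingUnique.Oc_le s K,
        BGFittingUnique.le_normalizer_Oc s K, h3⟩
  have hAF : A ≤ centralizer (Cfsg.fittingOf K : Set G) := by
    refine BGFittingUnique.le_centralizer_fittingOf fun s hs _ a ha x hx => ?_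
    haveI := Fact.mk hs
    by_cases hsp : s = p
    · subst hsp
      exact (mem_cent.1 (cent_of_pgroup (h.card A hA) (BGFittingUnique.isPGroup_Oc s K)
        (hfix s hs) hx) a ha).symm
    · refine BGFittingUnique.commute_of_normalize
        (hfix s hs) ((le_sup_left : A ≤ K).trans (BGFittingUnique.le_normalizer_Oc s K)) ?_ hx ha
      exact Subgroup.inf_eq_bot_of_coprime
        (BGFittingUnique.coprime_of_qgroups hsp (BGFittingUnique.isPGroup_Oc s K) hA')
  have h1 : A ≤ BGFittingUnique.Oc p K := BGFittingUnique.qgroup_le_Oc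
    ((le_inf le_sup_left hAF).trans BGFittingUnique.centralizer_fittingOf_le) hA'
  have h2 : A ⊔ cj b A = A ⊔ B := h.sup_eq hA (h.inv A hA b) (Ne.symm hbA) hA hB hne
    (sup_le le_sup_left (cj_le_of_mem le_sup_left (Subgroup.le_normalizer (mem_sup_right hb))))
  refine h.not_pgroup hA hB hne ((BGFittingUnique.isPGroup_Oc p K).to_le ?_)
  rw [← h2]
  exact sup_le h1 (cj_le_of_mem h1 (BGFittingUnique.le_normalizer_Oc p K (mem_sup_right hb)))

theorem exists_pairs : ∃ q : ℕ, Pairs p q D := by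
  haveI := Fact.mk h.hp
  obtain ⟨A₀, hA₀, B₀, hB₀, hne₀⟩ := h.exists_ne
  obtain ⟨q, hq, hqp, Q₀, hQ₀, -, hn₀, hs₀⟩ := h.exists_kernel hA₀ hB₀ hne₀
  have huniq : ∀ s : ℕ, s.Prime → s ≠ p → s ∣ Nat.card F → s = q := by
    intro s hs hsp hsF
    haveI := Fact.mk hs
    rw [← h.card_sup hA₀ hB₀ hne₀] at hsF
    obtain ⟨⟨x, hx⟩, hxo⟩ := exists_prime_orderOf_dvd_card' s hsF
    rw [Subgroup.orderOf_mk] at hxo
    have hx' : x ∈ ((Q₀ ⊔ A₀ : Subgroup G) : Set G) := hs₀ hx
    rw [Subgroup.coe_mul_of_right_le_normalizer_left Q₀ A₀ (le_sup_left.trans hn₀)] at hx'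
    obtain ⟨u, hu, a, ha, rfl⟩ := hx'
    obtain ⟨u', hu', he⟩ := exists_mul_pow hu (hn₀ (mem_sup_left ha)) p
    have hap : a ^ p = 1 :=
      orderOf_dvd_iff_pow_eq_one.1 (h.card A₀ hA₀ ▸ Subgroup.orderOf_dvd_natCard A₀ ha)
    rw [hap, mul_one] at he
    have ho : orderOf ((u * a) ^ p) = s := by
      rw [Nat.Coprime.orderOf_pow (by rw [hxo]; exact (Nat.coprime_primes hs h.hp).2 hsp), hxo]
    obtain ⟨k, hk⟩ := hQ₀ ⟨u', hu'⟩
    have h1 : orderOf u' ∣ q ^ k := orderOf_dvd_of_pow_eq_one (congrArg Subtype.val hk)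
    rw [← he, ho] at h1
    exact (Nat.prime_dvd_prime_iff_eq hs hq).1 (hs.dvd_of_dvd_pow h1)
  have hkern : ∀ A ∈ D, ∀ B ∈ D, A ≠ B → ∃ Q : Subgroup G, IsPGroup q Q ∧ Q ≠ ⊥ ∧ Q ≤ A ⊔ B ∧
      A ⊔ B ≤ normalizer (Q : Set G) ∧ A ⊔ B ≤ Q ⊔ A := by
    intro A hA B hB hne
    obtain ⟨r, hr, hrp, Q, hQ, hle, hn, hs⟩ := h.exists_kernel hA hB hne
    have hQ1 : Q ≠ ⊥ := fun e => by
      rw [e, bot_sup_eq] at hs
      exact hne (h.eq_of_le hB hA (le_sup_right.trans hs)).symm
    have hrF : r ∣ Nat.card F := by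
      haveI := Fact.mk hr
      obtain ⟨k, hk⟩ := IsPGroup.iff_card.1 hQ
      rw [← h.card_sup hA hB hne]
      refine dvd_trans ?_ (Subgroup.card_dvd_of_le hle)
      rw [hk]
      refine dvd_pow_self r fun h0 => hQ1 ?_
      rw [h0, pow_zero] at hk
      exact Subgroup.card_eq_one.1 hk
    obtain rfl := huniq r hr hrp hrF
    exact ⟨Q, hQ, hQ1, hle, hn, hs⟩
  have hq2 : q ≠ 2 := by
    intro e
    subst e
    obtain ⟨Q, hQ, hQ1, hle, -, -⟩ := hkern A₀ hA₀ B₀ hB₀ hne₀
    haveI := Fact.mk Nat.prime_two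
    obtain ⟨k, hk⟩ := IsPGroup.iff_card.1 hQ
    have hd : 2 ∣ Nat.card F := by
      rw [← h.card_sup hA₀ hB₀ hne₀]
      refine dvd_trans ?_ (Subgroup.card_dvd_of_le hle)
      rw [hk]
      refine dvd_pow_self 2 fun h0 => hQ1 ?_
      rw [h0, pow_zero] at hk
      exact Subgroup.card_eq_one.1 hk
    exact (Nat.not_even_iff_odd.2 h.odd) (even_iff_two_dvd.2 hd)
  refine ⟨q, h.hp, hq, hqp.symm, h.hp2, hq2, h.card, h.inv,
    fun A hA B hB => h.ncomm hA hB, ?_, ?_⟩
  · intro A hA B hB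
    by_cases hne : A = B
    · subst hne
      exact ⟨⊥, IsPGroup.of_bot, bot_le, le_normalizer_of_normal, by rw [sup_idem, bot_sup_eq]⟩
    · obtain ⟨Q, hQ, -, hle, hn, hs⟩ := hkern A hA B hB hne
      exact ⟨Q, hQ, hle, hn, hs⟩
  · intro A hA B hB C hC hCA hle
    by_cases hne : A = B
    · subst hne
      rw [sup_idem] at hle
      exact absurd (h.eq_of_le hC hA hle) hCA
    · rw [h.sup_eq hA hC (Ne.symm hCA) hA hB hne (sup_le le_sup_left hle)]
      exact le_sup_right

theorem good {q : ℕ} (hP : Pairs p q D) : Good q D := by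
  haveI := Fact.mk hP.hq
  -- a member and a subgroup of the kernel
  have hsetup : ∀ S Q, IsDQ q D S Q → ∀ A ∈ D, A ≤ S →
      (Q.subgroupOf S).Normal ∧ Q.subgroupOf S ⊔ A.subgroupOf S = ⊤ ∧
        (Nat.card (A.subgroupOf S)).Coprime (Nat.card (Q.subgroupOf S)) ∧
        Q.subgroupOf S ≤ ⁅Q.subgroupOf S, A.subgroupOf S⁆ := by
    intro S Q hS A hA hAS
    have hcard : ∀ U : Subgroup G, U ≤ S → Nat.card (U.subgroupOf S) = Nat.card U :=
      fun U hU => Nat.card_congr (Subgroup.subgroupOfEquivOfLe hU).toEquiv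
    have hinj := S.subtype_injective
    have hQe := Subgroup.map_subgroupOf_eq_of_le hS.le
    have hAe := Subgroup.map_subgroupOf_eq_of_le hAS
    refine ⟨Subgroup.normal_subgroupOf_of_le_normalizer hS.norm, ?_, ?_, ?_⟩
    · refine top_le_iff.1 ((Subgroup.map_le_map_iff_of_injective hinj).1 ?_)
      rw [Subgroup.map_sup, hQe, hAe, ← MonoidHom.range_eq_map, Subgroup.range_subtype]
      exact hS.split A hA hAS
    · rw [hcard A hAS, hcard Q hS.le]
      exact coprime_member hP hA hS.qgroup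
    · rw [← Subgroup.map_le_map_iff_of_injective hinj, Subgroup.map_commutator, hQe, hAe]
      set W := ⁅Q, A⁆ with hW
      have hAW : A ≤ normalizer (W : Set G) := Subgroup.normalizer_commutator_ge_right _ _
      have hWQ : W ≤ Q :=
        CoprimeAction.commutator_le_self_of_le_normalizer (hAS.trans hS.norm)
      have hSW : S ≤ W ⊔ A := hS.gen.trans (sSup_le fun B hB => by
        obtain ⟨u, hu, rfl⟩ := hS.exists_cj hP hA hAS hB.1 hB.2
        intro x hx
        obtain ⟨a, ha, rfl⟩ := Subgroup.mem_map.1 hx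
        change u * a * u⁻¹ ∈ W ⊔ A
        rw [show u * a * u⁻¹ = ⁅u, a⁆ * a by rw [commutatorElement_def]; group]
        exact mul_mem (mem_sup_left (Subgroup.commutator_mem_commutator hu ha)) (mem_sup_right ha))
      intro x hx
      obtain ⟨w, hw, a, ha, rfl⟩ := mem_sup_member hP hA hAW (hSW (hS.le hx))
      have ha1 : a = 1 := eq_one_of_mem hP hA hS.qgroup (by
        have := mul_mem (inv_mem (hWQ hw)) hx
        rwa [inv_mul_cancel_left] at this) ha
      rw [ha1, mul_one]; exact hw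
  have hker : ∀ A ∈ D, ∀ B ∈ D, A ≠ B → ∀ R, IsDQ q D (A ⊔ B) R →
      (qComm q F ↔ ∀ x ∈ R, ∀ y ∈ R, x * y = y * x) := by
    intro A hA B hB hne R hR
    obtain ⟨e⟩ := h.pair A hA B hB hne
    constructor
    · intro hF x hx y hy
      obtain ⟨i, hi⟩ := hR.qgroup ⟨x, hx⟩
      obtain ⟨j, hj⟩ := hR.qgroup ⟨y, hy⟩
      exact congrArg Subtype.val (hF.congr e.symm ⟨x, hR.le hx⟩ ⟨y, hR.le hy⟩ i j
        (Subtype.ext (congrArg Subtype.val hi :)) (Subtype.ext (congrArg Subtype.val hj :)))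
    · intro hab
      have hK : qComm q (A ⊔ B : Subgroup G) := fun x y i j hx hy => Subtype.ext
        (hab _ (hR.mem_of_pow hP hA le_sup_left x.2 (congrArg Subtype.val hx))
          _ (hR.mem_of_pow hP hA le_sup_left y.2 (congrArg Subtype.val hy)))
      exact hK.congr e
  by_cases hF : qComm q F
  · refine Or.inl fun S Q hS A hA hAS => ?_
    obtain ⟨hQn, htop, hcop, hgen⟩ := hsetup S Q hS A hA hAS
    have hodd : Odd (Nat.card (A.subgroupOf S)) := by
      rw [Nat.card_congr (Subgroup.subgroupOfEquivOfLe hAS).toEquiv, h.card A hA]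
      exact h.hp.odd_of_ne_two h.hp2
    have hfp := fpf_of_decomp (hS.qgroup.comap_of_injective _ S.subtype_injective) hQn htop hcop
      hodd hgen ?_
    · rw [eq_bot_iff]
      intro x hx
      have h1 : (⟨x, hS.le hx.1⟩ : S) ∈
          Q.subgroupOf S ⊓ centralizer ((A.subgroupOf S : Subgroup S) : Set S) :=
        ⟨hx.1, mem_cent.2 fun a ha => Subtype.ext (mem_cent.1 hx.2 _ ha)⟩
      have h2 := Subgroup.mem_bot.1 (hfp.le h1)
      exact Subgroup.mem_bot.2 (congrArg Subtype.val h2)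
    rintro ⟨x, hxS⟩ (hx : x ∈ Q)
    have hxA : A ≤ normalizer (Q : Set G) := hAS.trans hS.norm
    have hcent : ∀ c ∈ Q, c ∈ centralizer (A : Set G) → ∀ hc : c ∈ S, (⟨c, hc⟩ : S) ∈
        Q.subgroupOf S ⊓ centralizer ((A.subgroupOf S : Subgroup S) : Set S) :=
      fun c hcQ hcC hc => ⟨hcQ, mem_cent.2 fun a ha => Subtype.ext (mem_cent.1 hcC _ ha)⟩
    by_cases hxn : cj x A = A
    · refine ⟨⟨x⁻¹, inv_mem hxS⟩, hcent _ (inv_mem hx) (inv_mem
        (mem_cent_of_mem_normalizer hP hA hS.qgroup hxA hx (cj_eq_iff.1 hxn))) _, fun a _ => ?_⟩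
      rw [show (⟨x, hxS⟩ : S) * ⟨x⁻¹, inv_mem hxS⟩ = 1 from Subtype.ext (mul_inv_cancel x)]
      exact Commute.one_left _
    obtain ⟨R, hR⟩ := exists_isDQ_pair hP hA (hP.inv A hA x)
    have hRab := (hker A hA _ (hP.inv A hA x) (Ne.symm hxn) R hR).1 hF
    have hle : A ⊔ cj x A ≤ S :=
      sup_le hAS (cj_le_of_mem hAS (Subgroup.le_normalizer hxS))
    have hRQ : R ≤ Q := hS.le_of_qgroup hP hA hAS (hR.le.trans hle) hR.qgroup
    obtain ⟨r, hr, he⟩ := hR.exists_cj hP hA le_sup_left (hP.inv A hA x) le_sup_right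
    have h1 : x⁻¹ * r ∈ normalizer (A : Set G) := cj_eq_iff.1 (by
      rw [← cj_cj, ← he, cj_cj, inv_mul_cancel, cj_one])
    have h2 : x⁻¹ * r ∈ Q := mul_mem (inv_mem hx) (hRQ hr)
    refine ⟨⟨x⁻¹ * r, hS.le h2⟩,
      hcent _ h2 (mem_cent_of_mem_normalizer hP hA hS.qgroup hxA h2 h1) _, fun a ha => ?_⟩
    refine Subtype.ext ?_
    change x * (x⁻¹ * r) * ((a : G) * (x * (x⁻¹ * r)) * (a : G)⁻¹) =
      (a : G) * (x * (x⁻¹ * r)) * (a : G)⁻¹ * (x * (x⁻¹ * r))
    rw [mul_inv_cancel_left]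
    exact hRab _ hr _ ((Subgroup.mem_normalizer_iff.1 (hR.norm (mem_sup_left ha)) r).1 hr)
  · refine Or.inr fun S Q hS A hA hAS => ?_
    obtain ⟨hQn, htop, hcop, hgen⟩ := hsetup S Q hS A hA hAS
    have hct := class_two (hS.qgroup.comap_of_injective _ S.subtype_injective) hQn htop
      hcop hgen ?_
    · obtain ⟨h1, h2⟩ := hct
      constructor
      · rw [Subgroup.commutator_le]
        intro x hx y hy
        refine mem_cent.2 fun a ha => ?_
        have h3 := h1 (Subgroup.commutator_mem_commutator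
          (show (⟨x, hS.le hx⟩ : S) ∈ Q.subgroupOf S from hx)
          (show (⟨y, hS.le hy⟩ : S) ∈ Q.subgroupOf S from hy))
        have h4 := congrArg Subtype.val (mem_cent.1 h3 ⟨a, hAS ha⟩ ha)
        exact h4
      · intro x hx
        refine mem_cent.2 fun y hy => ?_
        have h3 := h2 (show (⟨x, hS.le hx.1⟩ : S) ∈
          Q.subgroupOf S ⊓ centralizer ((A.subgroupOf S : Subgroup S) : Set S) from
            ⟨hx.1, mem_cent.2 fun a ha => Subtype.ext (mem_cent.1 hx.2 _ ha)⟩)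
        exact congrArg Subtype.val (mem_cent.1 h3 ⟨y, hS.le hy⟩ hy)
    rintro U hUn hUQ hUab x hx
    haveI := hUn
    refine mem_cent.2 fun a ha => Subtype.ext ?_
    suffices hxA : (x : G) ∈ normalizer (A : Set G) from
      mem_cent.1 (mem_cent_of_mem_normalizer hP hA hS.qgroup (hAS.trans hS.norm) (hUQ hx) hxA) _ ha
    by_contra hxA
    have hne : A ≠ cj (x : G) A := fun e => hxA (cj_eq_iff.1 e.symm)
    obtain ⟨R, hR⟩ := exists_isDQ_pair hP hA (hP.inv A hA (x : G))
    refine hF ((hker A hA _ (hP.inv A hA (x : G)) hne R hR).2 ?_)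
    set U' := U.map S.subtype with hU'
    have hAU : A ≤ normalizer (U' : Set G) := by
      intro c hc
      refine (Subgroup.le_normalizer_map S.subtype) ⟨⟨c, hAS hc⟩, ?_, rfl⟩
      rw [Subgroup.normalizer_eq_top_iff.2 hUn]; exact mem_top _
    have hKU : A ⊔ cj (x : G) A ≤ U' ⊔ A := sup_le le_sup_right
      (cj_le_of_mem le_sup_right (Subgroup.le_normalizer
        (mem_sup_left (Subgroup.mem_map_of_mem _ hx))))
    have hle : A ⊔ cj (x : G) A ≤ S :=
      sup_le hAS (cj_le_of_mem hAS (Subgroup.le_normalizer x.2))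
    have hRQ : R ≤ Q := hS.le_of_qgroup hP hA hAS (hR.le.trans hle) hR.qgroup
    have hRU : R ≤ U' := by
      intro r hr
      obtain ⟨w, hw, c, hc, rfl⟩ := mem_sup_member hP hA hAU (hKU (hR.le hr))
      have hwQ : w ∈ Q := by
        obtain ⟨w', hw', rfl⟩ := Subgroup.mem_map.1 hw
        exact hUQ hw'
      have hc1 : c = 1 := eq_one_of_mem hP hA hS.qgroup (by
        have := mul_mem (inv_mem hwQ) (hRQ hr)
        rwa [inv_mul_cancel_left] at this) hc
      rw [hc1, mul_one]; exact hw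
    intro r hr r' hr'
    obtain ⟨w, hw, rfl⟩ := Subgroup.mem_map.1 (hRU hr)
    obtain ⟨w', hw', rfl⟩ := Subgroup.mem_map.1 (hRU hr')
    exact congrArg Subtype.val (hUab w hw w' hw')

/-- The conclusion. -/
theorem result : Odd (Nat.card (G ⧸ Subgroup.center G)) ∧
    ∃ H : Subgroup (G ⧸ Subgroup.center G), Cfsg.IsFrobeniusComplement H := by
  obtain ⟨q, hP⟩ := h.exists_pairs
  haveI := Fact.mk hP.hq
  have hG := h.good hP
  obtain ⟨A, hA, B, hB, hne⟩ := h.exists_ne
  obtain ⟨Q, hQ⟩ := exists_isDQ hP hG h.gen ⟨A, hA⟩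
  have hodd : Odd (Nat.card G) := by
    rw [← Nat.not_even_iff_odd, even_iff_two_dvd, ← Subgroup.card_top (G := G)]
    exact hQ.not_dvd_two hP hA le_top
  refine ⟨hodd.of_dvd_nat (Subgroup.card_quotient_dvd_card _), ?_⟩
  set Z := center G with hZ
  have hnA : ∀ C ∈ D, C ≤ normalizer (A : Set G) → C = A := fun C hC hn =>
    (hP.ncomm A hA C hC hn).symm
  have hAZ : ¬ A ≤ Z := fun hle => hne (hnA B hB fun b _ => cent_le_normalizer A
    (mem_cent.2 fun a ha => (Subgroup.mem_center_iff.1 (hle ha) b).symm)).symm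
  have hAn : A ≤ normalizer (Q : Set G) := le_top.trans hQ.norm
  set π := QuotientGroup.mk' Z with hπ
  refine ⟨A.map π, fun e => hAZ ?_, fun e => ?_, fun gb hg => ?_⟩
  · rwa [Subgroup.map_eq_bot_iff, hπ, QuotientGroup.ker_mk'] at e
  · -- the image is proper
    have h1 : ((A.map π).comap π : Subgroup G) = ⊤ := by rw [e, Subgroup.comap_top]
    rw [Subgroup.comap_map_eq, hπ, QuotientGroup.ker_mk'] at h1
    exact hne (hnA B hB ((le_top.trans h1.ge).trans (sup_le Subgroup.le_normalizer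
      ((Subgroup.center_le_centralizer _).trans (cent_le_normalizer A))))).symm
  · obtain ⟨g, rfl⟩ := QuotientGroup.mk'_surjective Z gb
    rw [← hπ] at hg ⊢
    by_contra hint
    obtain ⟨⟨y, hy1, hy2⟩, hy⟩ := Subgroup.ne_bot_iff_exists_ne_one.1 hint
    have hy0 : y ≠ 1 := fun e => hy (Subtype.ext e)
    have hcard : Nat.card (A.map π) = p := by
      have h1 := Subgroup.card_map_dvd A π
      rw [h.card A hA] at h1
      rcases (Nat.dvd_prime h.hp).1 h1 with h2 | h2
      · rw [Subgroup.card_eq_one, Subgroup.map_eq_bot_iff, hπ, QuotientGroup.ker_mk'] at h2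
        exact absurd h2 hAZ
      · exact h2
    have hy2' : y ∈ cj (π g) (A.map π) := hy2
    have heq : A.map π = cj (π g) (A.map π) := by
      have hgen : ∀ H : Subgroup (G ⧸ Z), Nat.card H = p → y ∈ H → zpowers y = H := by
        intro H hH hyH
        refine Subgroup.eq_of_le_of_card_ge (zpowers_le.2 hyH) ?_
        rw [hH, Nat.card_zpowers]
        have h1 := Subgroup.orderOf_dvd_natCard H hyH
        rw [hH] at h1
        rcases (Nat.dvd_prime h.hp).1 h1 with h2 | h2
        · exact absurd (orderOf_eq_one_iff.1 h2) hy0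
        · exact h2.ge
      rw [← hgen _ ((card_cj _ _).trans hcard) hy2', hgen _ hcard hy1]
    rw [← map_cj] at heq
    have h2 : cj g A ≤ A ⊔ Z := by
      have h3 : cj g A ≤ (A.map π).comap π := Subgroup.map_le_iff_le_comap.1 heq.ge
      rwa [Subgroup.comap_map_eq, hπ, QuotientGroup.ker_mk'] at h3
    have h3 : g ∈ normalizer (A : Set G) := cj_eq_iff.1 (hnA _ (hP.inv A hA g) (h2.trans
      (sup_le Subgroup.le_normalizer
        ((Subgroup.center_le_centralizer _).trans (cent_le_normalizer A)))))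
    obtain ⟨u, hu, a, ha, rfl⟩ := hQ.mem_decomp hP hA le_top (mem_top g)
    have hu1 : u ∈ normalizer (A : Set G) := by
      have := mul_mem h3 (inv_mem (Subgroup.le_normalizer ha))
      rwa [mul_inv_cancel_right] at this
    have hu2 := mem_cent_of_mem_normalizer hP hA hQ.qgroup hAn hu hu1
    have huZ : u ∈ Z := Subgroup.mem_center_iff.2 fun w =>
      mem_cent.1 (hQ.phi_le_cent hP hG hA le_top ⟨hu, hu2⟩) w (mem_top w)
    refine hg ?_
    rw [map_mul, show π u = 1 by rw [← MonoidHom.mem_ker, hπ, QuotientGroup.ker_mk']; exact huZ,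
      one_mul]
    exact Subgroup.mem_map_of_mem π ha

end Hyp

end Cfsg.Agent.OddPairs70
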