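import Cfsg.Agent.Lib.OffenderSL2Spread31
import Cfsg.Agent.Lib.JordanDivisionFiniteMain
import Cfsg.Agent.Lib.PSLSimple

/-!
Generalisation of `Lib/OffenderSL2Coord` (copy) to modules of exponent `p ^ N`.
Coordinates for a strict offender configuration: `P ≅ SL₂(q)` on its natural module `W / C_W(P)`.
-/

set_option autoImplicit false

namespace Cfsg.Agent.OffenderSL2Gen31

open Matrix
open scoped MatrixGroups

section ring

variable {R : Type*} [Ring R]

/-- An additive subgroup closed under inversion is closed under `a b a`. -/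
theorem sandwich_of_inverse {J : AddSubgroup R}
    (hinv : ∀ a ∈ J, a ≠ 0 → ∃ a' ∈ J, a * a' = 1 ∧ a' * a = 1) {a b : R} (ha : a ∈ J) (hb : b ∈ J) :
    a * b * a ∈ J := by
  by_cases ha0 : a = 0
  · subst ha0; simpa using J.zero_mem
  by_cases hb0 : b = 0
  · subst hb0; simpa using J.zero_mem
  obtain ⟨a', ha', haa', ha'a⟩ := hinv a ha ha0
  obtain ⟨b', hb', hbb', hb'b⟩ := hinv b hb hb0
  by_cases hs0 : b' - a = 0
  · rw [← sub_eq_zero.mp hs0] at *
    rw [hb'b, one_mul]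
    exact hb'
  obtain ⟨s', hs', hss', hs's⟩ := hinv _ (J.sub_mem hb' ha) hs0
  have hrab : (a' + s') * (a - a * b * a) = 1 := by
    have e1 : a - a * b * a = (b' - a) * b * a := by rw [sub_mul, sub_mul, hb'b, one_mul]
    rw [add_mul]
    nth_rw 2 [e1]
    rw [← mul_assoc s', ← mul_assoc s', hs's, one_mul, mul_sub, ha'a, ← mul_assoc, ← mul_assoc, ha'a,
      one_mul]
    abel
  have hne : a' + s' ≠ 0 := by
    intro h0
    rw [h0, zero_mul] at hrab
    exact ha0 (by rw [← mul_one a, ← hrab, mul_zero])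
  obtain ⟨t, ht, -, htl⟩ := hinv _ (J.add_mem ha' hs') hne
  have : a - a * b * a = t := by
    rw [← one_mul (a - a * b * a), ← htl, mul_assoc, hrab, mul_one]
  have e : a * b * a = a - t := by rw [← this]; abel
  rw [e]
  exact J.sub_mem ha ht

theorem isUnit_end {M : Type*} [AddCommGroup M] [Finite M] {f : AddMonoid.End M}
    (hf : ∀ u, f u = 0 → u = 0) : IsUnit f := by
  have hinj : Function.Injective f := (injective_iff_map_eq_zero f).mpr hf
  let e := AddEquiv.ofBijective f ⟨hinj, (Finite.injective_iff_surjective).mp hinj⟩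
  exact ⟨⟨f, e.symm.toAddMonoidHom, AddMonoidHom.ext fun u => e.apply_symm_apply u,
    AddMonoidHom.ext fun u => e.symm_apply_apply u⟩, rfl⟩

theorem left_inv_comm {M : Type*} [AddCommGroup M] [Finite M] {f g : AddMonoid.End M}
    (h : f * g = 1) : g * f = 1 := by
  have hg : ∀ u, g u = 0 → u = 0 := fun u hu => by
    have := DFunLike.congr_fun h u
    change f (g u) = u at this
    rw [← this, hu, map_zero]
  obtain ⟨e, rfl⟩ := isUnit_end hg
  have : f = (e⁻¹ : (AddMonoid.End M)ˣ) := by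
    rw [← mul_one f, ← e.mul_inv, ← mul_assoc, h, one_mul]
  rw [this, e.mul_inv]

end ring

variable {P : Type*} [Group P] {W : Type*} [AddCommGroup W] [DistribMulAction P W]
variable {p : ℕ} [Finite P] [Finite W] [hp : Fact p.Prime] {T : Sylow p P} {M A : Subgroup P}

theorem structure_thm (h : Hyp (W := W) p T M A) :
    (fixW W A = AddSubgroup.closure {u | ∃ a ∈ A, ∃ w : W, a • w - w = u} ⊔ fixW W (⊤ : Subgroup P)) ∧
    ∃ (F : Type) (_ : Field F) (_ : Fintype F), Fintype.card F = Nat.card A ∧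
      ∃ (ρ : P →* SL(2, F)) (ψ : W →+ (Fin 2 → F)), Function.Bijective ρ ∧ Function.Surjective ψ ∧
        (∀ w, ψ w = 0 ↔ w ∈ fixW W (⊤ : Subgroup P)) ∧
        ∀ g w, ψ (g • w) = (ρ g : Matrix (Fin 2) (Fin 2) F) *ᵥ ψ w := by
  classical
  obtain ⟨x, hx⟩ := h.exists_out
  set C := fixW W A with hC
  set Z := fixW W (⊤ : Subgroup P) with hZ
  have hZC : Z ≤ C := fixW_anti le_top
  refine ⟨le_antisymm (fun u hu => ?_) (sup_le ((AddSubgroup.closure_le _).mpr ?_) hZC), ?_⟩
  · obtain ⟨a, ha, d, hd⟩ := h.fix_le_span hx hu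
    refine AddSubgroup.mem_sup.mpr ⟨a • d - d, AddSubgroup.subset_closure ⟨a, ha, d, rfl⟩, _,
      Z.neg_mem hd, by abel⟩
  · rintro _ ⟨a, ha, w, rfl⟩
    exact h.quad ha w
  -- coordinates
  let Cq := ↥C ⧸ Z.addSubgroupOf C
  letI instCq : AddCommGroup Cq := QuotientAddGroup.Quotient.addCommGroup (Z.addSubgroupOf C)
  let π : C →+ Cq := QuotientAddGroup.mk' _
  haveI : Finite (AddMonoid.End Cq) :=
    Finite.of_injective (fun (f : AddMonoid.End Cq) => (f : Cq → Cq)) DFunLike.coe_injective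
  have hπ : ∀ u : C, π u = 0 ↔ (u : W) ∈ Z := fun u =>
    (QuotientAddGroup.eq_zero_iff u).trans AddSubgroup.mem_addSubgroupOf
  have hπs : ∀ u : Cq, ∃ c : C, π c = u := QuotientAddGroup.mk_surjective
  have hxinv : ∀ {w : W}, w ∈ fixW W (cjg x A) → x⁻¹ • w ∈ C := by
    intro w hw
    have := smul_mem_fixW (x := x⁻¹) hw
    rwa [cjg_cjg, inv_mul_cancel, show cjg (1 : P) A = A by ext; simp [mem_cjg]] at this
  have hinf : ∀ u ∈ C, ∀ v ∈ C, u + x • v = 0 → u ∈ Z ∧ v ∈ Z := by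
    intro u hu v hv huv
    have h1 : u ∈ Z := (h.inf_fix hx).le ⟨hu, by
      rw [eq_neg_of_add_eq_zero_left huv]
      exact (fixW W (cjg x A)).neg_mem (smul_mem_fixW hv)⟩
    refine ⟨h1, ?_⟩
    have h2 : x • v ∈ Z := by rw [eq_neg_of_add_eq_zero_right huv]; exact Z.neg_mem h1
    have := h.fix_Z (g := x⁻¹) h2
    rw [inv_smul_smul] at this
    exact this ▸ h2
  -- `θ`
  have hZx : ∀ z ∈ Z, x • z = z := fun z hz => h.fix_Z hz
  let θ : P → AddMonoid.End Cq := fun a =>
    if ha : a ∈ A then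
      QuotientAddGroup.lift _ (π.comp (AddMonoidHom.mk' (fun c : C => (⟨a • x • (c : W) - x • (c : W), h.quad ha _⟩ : C))
        (fun c d => Subtype.ext (by push_cast; simp only [smul_add]; abel)))) (by
          intro c hc
          rw [AddMonoidHom.mem_ker, AddMonoidHom.comp_apply, hπ]
          show a • x • (c : W) - x • (c : W) ∈ Z
          have hcZ : (c : W) ∈ Z := AddSubgroup.mem_addSubgroupOf.mp hc
          rw [hZx _ hcZ, h.fix_Z hcZ, sub_self]
          exact Z.zero_mem)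
    else 0
  have hθ : ∀ a (ha : a ∈ A) (c : C), θ a (π c) = π ⟨a • x • (c : W) - x • (c : W), h.quad ha _⟩ := by
    intro a ha c
    rw [show θ a = _ from dif_pos ha]
    rfl
  have hθinj : ∀ a ∈ A, ∀ u : Cq, θ a u = 0 → a = 1 ∨ u = 0 := by
    intro a ha u hu
    obtain ⟨c, rfl⟩ := hπs u
    rw [hθ a ha, hπ] at hu
    by_cases hcZ : x • (c : W) ∈ Z
    · right
      rw [hπ]
      have := h.fix_Z (g := x⁻¹) hcZ
      rw [inv_smul_smul] at this
      exact this ▸ hcZ
    · exact Or.inl ((h.reach hx (smul_mem_fixW c.2) hcZ).1 a ha hu)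
  have hθmul : ∀ a ∈ A, ∀ b ∈ A, θ (a * b) = θ a + θ b := by
    intro a ha b hb
    refine AddMonoidHom.ext fun u => ?_
    obtain ⟨c, rfl⟩ := hπs u
    show θ (a * b) (π c) = θ a (π c) + θ b (π c)
    rw [hθ _ (A.mul_mem ha hb), hθ a ha, hθ b hb, ← map_add]
    congr 1
    refine Subtype.ext ?_
    show (a * b) • x • (c : W) - x • (c : W) = (a • x • (c : W) - x • (c : W)) + (b • x • (c : W) - x • (c : W))
    have h1 : a • (b • x • (c : W) - x • (c : W)) = b • x • (c : W) - x • (c : W) := h.quad hb _ a ha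
    rw [smul_sub, ← mul_smul a b] at h1
    rw [← h1]
    abel
  have hcardq : Nat.card Cq = Nat.card A := by
    have e2 := (Z.addSubgroupOf C).card_mul_index
    rw [Nat.card_congr (AddSubgroup.addSubgroupOfEquivOfLe hZC).toEquiv, (h.counting hx).2,
      mul_comm (Nat.card A)] at e2
    exact Nat.eq_of_mul_eq_mul_left Nat.card_pos e2
  obtain ⟨a0, ha0, ha01⟩ := (Subgroup.bot_or_exists_ne_one A).resolve_left h.A_ne_bot
  obtain ⟨c0, hc0⟩ : ∃ u : Cq, u ≠ 0 := by
    haveI : Nontrivial Cq := Finite.one_lt_card_iff_nontrivial.mp (by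
      rw [hcardq]; exact (Subgroup.one_lt_card_iff_ne_bot A).mpr h.A_ne_bot)
    exact exists_ne 0
  obtain ⟨Θ, hΘ⟩ := isUnit_end (f := θ a0) fun u hu => (hθinj a0 ha0 u hu).resolve_left ha01
  have hθ1 : θ 1 = 0 := by
    have := hθmul 1 A.one_mem 1 A.one_mem
    rw [mul_one] at this
    exact left_eq_add.mp this
  let J : AddSubgroup (AddMonoid.End Cq) :=
    { carrier := {f | ∃ a ∈ A, θ a * ↑Θ⁻¹ = f}
      zero_mem' := ⟨1, A.one_mem, by rw [hθ1, zero_mul]⟩
      add_mem' := by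
        rintro _ _ ⟨a, ha, rfl⟩ ⟨b, hb, rfl⟩
        exact ⟨a * b, A.mul_mem ha hb, by rw [hθmul a ha b hb, add_mul]⟩
      neg_mem' := by
        rintro _ ⟨a, ha, rfl⟩
        refine ⟨a⁻¹, A.inv_mem ha, ?_⟩
        refine eq_neg_of_add_eq_zero_left ?_
        rw [← add_mul, ← hθmul _ (A.inv_mem ha) a ha, inv_mul_cancel, hθ1, zero_mul] }
  have h1J : (1 : AddMonoid.End Cq) ∈ J := ⟨a0, ha0, by rw [← hΘ, Units.mul_inv]⟩
  have hcardJ : Nat.card J = Nat.card A := by
    refine (Nat.card_eq_of_bijective (fun a : A => (⟨θ a * ↑Θ⁻¹, a, a.2, rfl⟩ : J)) ⟨fun a b hab => ?_, ?_⟩).symm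
    · have h1 : θ (a : P) = θ (b : P) := by
        have := congrArg (fun f : J => (f : AddMonoid.End Cq) * ↑Θ) hab
        simpa [mul_assoc] using this
      have h2 := hθmul _ (A.inv_mem a.2) _ b.2
      rw [← h1, ← hθmul _ (A.inv_mem a.2) _ a.2, inv_mul_cancel, hθ1] at h2
      rcases hθinj _ (A.mul_mem (A.inv_mem a.2) b.2) c0 (by rw [h2]; rfl) with h3 | h3
      · exact Subtype.ext (inv_mul_eq_one.mp h3)
      · exact absurd h3 hc0
    · rintro ⟨_, a, ha, rfl⟩; exact ⟨⟨a, ha⟩, rfl⟩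
  -- decomposition
  have hdec : ∀ w : W, ∃ c : C × C, w = (c.1 : W) + x • (c.2 : W) := by
    intro w
    obtain ⟨u, hu, v, hv, rfl⟩ := AddSubgroup.mem_sup.mp ((h.counting hx).1.ge (AddSubgroup.mem_top w))
    exact ⟨(⟨u, hu⟩, ⟨x⁻¹ • v, hxinv hv⟩), by simp⟩
  choose dec hdec using hdec
  let ψ0 : W → Cq × Cq := fun w => (π (dec w).1, (↑Θ : AddMonoid.End Cq) (π (dec w).2))
  have hψ0 : ∀ c1 c2 : C, ψ0 ((c1 : W) + x • (c2 : W)) = (π c1, (↑Θ : AddMonoid.End Cq) (π c2)) := by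
    intro c1 c2
    set d := dec ((c1 : W) + x • (c2 : W))
    have e := hdec ((c1 : W) + x • (c2 : W))
    have h0 := hinf _ (C.sub_mem d.1.2 c1.2) _ (C.sub_mem d.2.2 c2.2) (by
      rw [smul_sub]
      calc (d.1 : W) - c1 + (x • (d.2 : W) - x • (c2 : W))
          = ((d.1 : W) + x • (d.2 : W)) - ((c1 : W) + x • (c2 : W)) := by abel
        _ = 0 := by rw [← e, sub_self])
    refine Prod.ext ?_ ?_
    · show π d.1 = π c1
      rw [← sub_eq_zero, ← map_sub, hπ]
      exact h0.1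
    · show (↑Θ : AddMonoid.End Cq) (π d.2) = (↑Θ : AddMonoid.End Cq) (π c2)
      congr 1
      rw [← sub_eq_zero, ← map_sub, hπ]
      exact h0.2
  have hψadd : ∀ u v, ψ0 (u + v) = ψ0 u + ψ0 v := by
    intro u v
    have e : u + v = (((dec u).1 + (dec v).1 : C) : W) + x • (((dec u).2 + (dec v).2 : C) : W) := by
      push_cast
      rw [smul_add]
      conv_lhs => rw [hdec u, hdec v]
      abel
    rw [e, hψ0]
    simp only [ψ0, map_add, Prod.mk_add_mk]
  have hΘinj : ∀ u : Cq, (↑Θ : AddMonoid.End Cq) u = 0 → u = 0 := fun u hu => by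
    rw [hΘ] at hu
    exact (hθinj a0 ha0 u hu).resolve_left ha01
  have hΘΘ : ∀ u : Cq, (↑Θ⁻¹ : AddMonoid.End Cq) ((↑Θ : AddMonoid.End Cq) u) = u := fun u =>
    DFunLike.congr_fun Θ.inv_mul u
  have hΘΘ' : ∀ u : Cq, (↑Θ : AddMonoid.End Cq) ((↑Θ⁻¹ : AddMonoid.End Cq) u) = u := fun u =>
    DFunLike.congr_fun Θ.mul_inv u
  have hψker : ∀ w, ψ0 w = 0 ↔ w ∈ Z := by
    intro w
    constructor
    · intro hw
      have h1 : π (dec w).1 = 0 := congrArg Prod.fst hw
      have h2 : π (dec w).2 = 0 := hΘinj _ (congrArg Prod.snd hw)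
      rw [hπ] at h1 h2
      rw [hdec w, hZx _ h2]
      exact Z.add_mem h1 h2
    · intro hw
      have := hψ0 ⟨w, hZC hw⟩ 0
      simp only [ZeroMemClass.coe_zero, smul_zero, add_zero, map_zero] at this
      rw [this]
      exact Prod.ext ((hπ _).mpr hw) rfl
  -- the action of `A`
  have hA : ∀ a ∈ A, ∀ w, ψ0 (a • w) = ((ψ0 w).1 + (θ a * ↑Θ⁻¹) (ψ0 w).2, (ψ0 w).2) := by
    intro a ha w
    have e : a • w = (((dec w).1 + ⟨a • x • ((dec w).2 : W) - x • ((dec w).2 : W), h.quad ha _⟩ : C) : W) +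
        x • ((dec w).2 : W) := by
      push_cast
      conv_lhs => rw [hdec w, smul_add, (dec w).1.2 a ha]
      abel
    rw [e, hψ0]
    refine Prod.ext ?_ rfl
    show π _ = π (dec w).1 + θ a ((↑Θ⁻¹ : AddMonoid.End Cq) ((↑Θ : AddMonoid.End Cq) (π (dec w).2)))
    rw [hΘΘ, hθ a ha, map_add]
  -- the action of `A^x`
  have hBx : ∀ b ∈ cjg x A, ∀ u : W, x⁻¹ • (b • u - u) ∈ C := fun b hb u => hxinv (h.quad_cjg hb u)
  let N : P → AddMonoid.End Cq := fun b =>
    if hb : b ∈ cjg x A then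
      QuotientAddGroup.lift _ ((((↑Θ : AddMonoid.End Cq) : Cq →+ Cq).comp π).comp
        (AddMonoidHom.mk' (fun c : C => (⟨x⁻¹ • (b • (c : W) - (c : W)), hBx b hb _⟩ : C))
          (fun c d => Subtype.ext (by push_cast; simp only [smul_add, smul_sub]; abel)))) (by
          intro c hc
          have hcZ : (c : W) ∈ Z := AddSubgroup.mem_addSubgroupOf.mp hc
          rw [AddMonoidHom.mem_ker]
          show (↑Θ : AddMonoid.End Cq) (π ⟨x⁻¹ • (b • (c : W) - (c : W)), hBx b hb _⟩) = 0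
          have : π ⟨x⁻¹ • (b • (c : W) - (c : W)), hBx b hb _⟩ = 0 := by
            rw [hπ]
            show x⁻¹ • (b • (c : W) - (c : W)) ∈ Z
            rw [h.fix_Z hcZ, sub_self, smul_zero]
            exact Z.zero_mem
          rw [this, map_zero])
    else 0
  have hN : ∀ b (hb : b ∈ cjg x A) (c : C),
      N b (π c) = (↑Θ : AddMonoid.End Cq) (π ⟨x⁻¹ • (b • (c : W) - (c : W)), hBx b hb _⟩) := by
    intro b hb c
    rw [show N b = _ from dif_pos hb]
    rfl
  have hB : ∀ b ∈ cjg x A, ∀ w, ψ0 (b • w) = ((ψ0 w).1, (ψ0 w).2 + N b (ψ0 w).1) := by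
    intro b hb w
    have e : b • w = ((dec w).1 : W) +
        x • (((dec w).2 + ⟨x⁻¹ • (b • ((dec w).1 : W) - ((dec w).1 : W)), hBx b hb _⟩ : C) : W) := by
      push_cast
      rw [smul_add, smul_inv_smul]
      conv_lhs => rw [hdec w, smul_add, smul_mem_fixW (dec w).2.2 b hb]
      abel
    rw [e, hψ0]
    refine Prod.ext rfl ?_
    show (↑Θ : AddMonoid.End Cq) (π _) = (↑Θ : AddMonoid.End Cq) (π (dec w).2) + N b (π (dec w).1)
    rw [hN b hb, map_add, map_add]
  -- lines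
  have hline : ∀ a ∈ A, ∀ u ∈ C, ψ0 (a • x • u) =
      ((θ a * ↑Θ⁻¹) (ψ0 (x • u)).2, (ψ0 (x • u)).2) := by
    intro a ha u hu
    rw [hA a ha]
    have : (ψ0 (x • u)).1 = 0 := by
      have := hψ0 0 ⟨u, hu⟩
      simp only [ZeroMemClass.coe_zero, zero_add, map_zero] at this
      rw [this]
    rw [this, zero_add]
  have hM : ∀ (u : W) (hu : u ∈ C), ψ0 u = (π ⟨u, hu⟩, 0) := by
    intro u hu
    have := hψ0 ⟨u, hu⟩ 0
    simpa only [ZeroMemClass.coe_zero, smul_zero, add_zero, map_zero] using this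
  have hNinv : ∀ b ∈ cjg x A, b ≠ 1 → ∃ j ∈ J, j * N b = 1 := by
    intro b hb hb1
    have hbM : b ∉ M := fun hbM => hb1 (by
      have h1 := h.inf_cjg_trivial (h.not_mem_inv hx) (mem_cjg.mp hb) (by
        simpa [mul_assoc] using hbM)
      calc b = x * (x⁻¹ * b * x) * x⁻¹ := by group
        _ = 1 := by rw [h1]; group)
    obtain ⟨a, ha, hsp⟩ := h.spread hx hbM
    refine ⟨_, ⟨a, ha, rfl⟩, AddMonoidHom.ext fun u => ?_⟩
    obtain ⟨c, rfl⟩ := hπs u
    obtain ⟨u', hu', he⟩ := hsp c c.2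
    have h1 := congrArg ψ0 he
    rw [hB b hb, hline a ha u' hu', hM c c.2] at h1
    simp only [zero_add] at h1
    show (θ a * ↑Θ⁻¹) (N b (π c)) = π c
    have h11 : π c = (θ a * ↑Θ⁻¹) (ψ0 (x • u')).2 := congrArg Prod.fst h1
    have h12 : N b (π c) = (ψ0 (x • u')).2 := congrArg Prod.snd h1
    rw [h12, ← h11]
  have hNmul : ∀ b ∈ cjg x A, ∀ b' ∈ cjg x A, N (b * b') = N b + N b' := by
    intro b hb b' hb'
    refine AddMonoidHom.ext fun u => ?_
    obtain ⟨c, rfl⟩ := hπs u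
    show N (b * b') (π c) = N b (π c) + N b' (π c)
    rw [hN _ (Subgroup.mul_mem _ hb hb'), hN b hb, hN b' hb', ← map_add, ← map_add]
    congr 2
    refine Subtype.ext ?_
    show x⁻¹ • ((b * b') • (c : W) - (c : W)) = x⁻¹ • (b • (c : W) - (c : W)) + x⁻¹ • (b' • (c : W) - (c : W))
    have h1 : b • (b' • (c : W) - (c : W)) = b' • (c : W) - (c : W) := h.quad_cjg hb' _ b hb
    rw [smul_sub, ← mul_smul b b'] at h1
    rw [← smul_add, ← h1]
    congr 1
    abel
  haveI : Nontrivial (AddMonoid.End Cq) := ⟨⟨1, 0, fun he => hc0 (DFunLike.congr_fun he c0)⟩⟩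
  have hN1 : N 1 = 0 := by
    have := hNmul 1 (Subgroup.one_mem _) 1 (Subgroup.one_mem _)
    rw [mul_one] at this
    exact left_eq_add.mp this
  have hNinj : ∀ b ∈ cjg x A, ∀ b' ∈ cjg x A, N b = N b' → b = b' := by
    intro b hb b' hb' he
    by_contra hne
    have hm : b⁻¹ * b' ∈ cjg x A := Subgroup.mul_mem _ (Subgroup.inv_mem _ hb) hb'
    obtain ⟨j, -, hj⟩ := hNinv _ hm fun h1 => hne (inv_mul_eq_one.mp h1)
    rw [hNmul _ (Subgroup.inv_mem _ hb) _ hb', ← he, ← hNmul _ (Subgroup.inv_mem _ hb) _ hb,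
      inv_mul_cancel, hN1, mul_zero] at hj
    exact zero_ne_one hj
  have hNsurj : ∀ j ∈ J, j ≠ 0 → ∃ b ∈ cjg x A, j * N b = 1 := by
    have hch : ∀ b : cjg x A, ∃ j : J, ((b : P) = 1 → j = 0) ∧
        ((b : P) ≠ 1 → (j : AddMonoid.End Cq) * N b = 1) := by
      intro b
      by_cases hb : (b : P) = 1
      · exact ⟨0, fun _ => rfl, fun h' => absurd hb h'⟩
      · obtain ⟨j, hj, hjN⟩ := hNinv b b.2 hb
        exact ⟨⟨j, hj⟩, fun h' => absurd h' hb, fun _ => hjN⟩
    choose g hg0 hg1 using hch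
    have hinjg : Function.Injective g := by
      intro b b' hbb
      have hval : (g b : AddMonoid.End Cq) = g b' := congrArg Subtype.val hbb
      by_cases hb : (b : P) = 1 <;> by_cases hb' : (b' : P) = 1
      · exact Subtype.ext (hb.trans hb'.symm)
      · have h1 := hg1 b' hb'
        rw [← hval, hg0 b hb, ZeroMemClass.coe_zero, zero_mul] at h1
        exact absurd h1 zero_ne_one
      · have h1 := hg1 b hb
        rw [hval, hg0 b' hb', ZeroMemClass.coe_zero, zero_mul] at h1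
        exact absurd h1 zero_ne_one
      · refine Subtype.ext (hNinj _ b.2 _ b'.2 ?_)
        rw [← mul_one (N (b : P)), ← hg1 b' hb', ← mul_assoc, ← hval, left_inv_comm (hg1 b hb), one_mul]
    have hcard : Nat.card J ≤ Nat.card (cjg x A) := by
      rw [hcardJ, Subgroup.card_map_of_injective (MulAut.conj x).injective]
    intro j hj hj0
    obtain ⟨b, hb⟩ := (hinjg.bijective_of_nat_card_le hcard).2 ⟨j, hj⟩
    have hb1 : (b : P) ≠ 1 := fun h1 => hj0 (by
      have := hg0 b h1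
      rw [hb] at this
      exact congrArg Subtype.val this)
    refine ⟨b, b.2, ?_⟩
    have := hg1 b hb1
    rwa [hb] at this
  have hunit : ∀ j ∈ J, j ≠ 0 → IsUnit j := by
    intro j hj hj0
    obtain ⟨b, -, hb⟩ := hNsurj j hj hj0
    exact ⟨⟨j, N b, hb, left_inv_comm hb⟩, rfl⟩
  -- inversion-closed
  have hinvJ : ∀ k ∈ J, k ≠ 0 → ∃ k' ∈ J, k * k' = 1 ∧ k' * k = 1 := by
    obtain ⟨b1, hb1, hb1N⟩ := hNsurj 1 h1J one_ne_zero
    rw [one_mul] at hb1N
    intro k hk hk0
    obtain ⟨a, ha, hak⟩ : k - 1 ∈ J := J.sub_mem hk h1J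
    obtain ⟨u, hu⟩ := hunit k hk hk0
    have hmap : ∀ v : Cq, ∃ w ∈ C, (ψ0 (x • w)).2 = v := by
      intro v
      obtain ⟨c, hc⟩ := hπs ((↑Θ⁻¹ : AddMonoid.End Cq) v)
      refine ⟨c, c.2, ?_⟩
      have := hψ0 0 c
      simp only [ZeroMemClass.coe_zero, zero_add] at this
      rw [this]
      show (↑Θ : AddMonoid.End Cq) (π c) = v
      rw [hc, hΘΘ']
    have hy : ∀ w ∈ C, ψ0 ((b1 * a * x) • w) = ((k - 1) (ψ0 (x • w)).2, k (ψ0 (x • w)).2) := by
      intro w hw
      rw [mul_smul, mul_smul, hB b1 hb1, hline a ha w hw, hb1N, hak]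
      refine Prod.ext rfl ?_
      show (ψ0 (x • w)).2 + (k (ψ0 (x • w)).2 - (ψ0 (x • w)).2) = k _
      abel
    by_cases hyM : b1 * a * x ∈ M
    · exfalso
      refine hk0 (AddMonoidHom.ext fun v => ?_)
      obtain ⟨w, hw, rfl⟩ := hmap v
      have h1 := hy w hw
      rw [hM _ (h.M_fix hyM hw)] at h1
      exact (congrArg Prod.snd h1).symm
    · obtain ⟨a', ha', hsp⟩ := h.spread hx hyM
      set j' := θ a' * ↑Θ⁻¹ with hj'
      have he : k - 1 = j' * k := by
        refine AddMonoidHom.ext fun v => ?_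
        obtain ⟨w, hw, rfl⟩ := hmap v
        obtain ⟨w', hw', he⟩ := hsp w hw
        have h1 := congrArg ψ0 he
        rw [hy w hw, hline a' ha' w' hw'] at h1
        show (k - 1) (ψ0 (x • w)).2 = j' (k (ψ0 (x • w)).2)
        have h11 : (k - 1) (ψ0 (x • w)).2 = j' (ψ0 (x • w')).2 := congrArg Prod.fst h1
        have h12 : k (ψ0 (x • w)).2 = (ψ0 (x • w')).2 := congrArg Prod.snd h1
        rw [h11, h12]
      have hk' : (↑u⁻¹ : AddMonoid.End Cq) = 1 - j' := by
        have : (1 - j') * k = 1 := by rw [sub_mul, one_mul, ← he]; abel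
        calc (↑u⁻¹ : AddMonoid.End Cq) = (1 - j') * k * ↑u⁻¹ := by rw [this, one_mul]
          _ = 1 - j' := by rw [← hu, mul_assoc, Units.mul_inv, mul_one]
      refine ⟨↑u⁻¹, hk' ▸ J.sub_mem h1J ⟨a', ha', rfl⟩, ?_, ?_⟩
      · rw [← hu, Units.mul_inv]
      · rw [← hu, Units.inv_mul]
  -- the field
  have hJD : JordanDivisionFinite.JDiv J :=
    ⟨h1J, fun a ha b hb => sandwich_of_inverse hinvJ ha hb, hunit⟩
  obtain ⟨S, hSJ, hScomm⟩ := hJD.field
  letI : CommRing S :=
    { (inferInstance : Ring S) with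
      mul_comm := fun a b => Subtype.ext (hScomm a ((hSJ a).mp a.2) b ((hSJ b).mp b.2)) }
  haveI : Nontrivial S := ⟨⟨1, 0, fun h0 => one_ne_zero (congrArg Subtype.val h0)⟩⟩
  haveI : IsDomain S := by
    haveI : NoZeroDivisors S := ⟨fun {a b} hab => by
      by_contra hne
      push Not at hne
      exact hne.2 (Subtype.ext ((hunit a ((hSJ a).mp a.2) (fun h0 => hne.1 (Subtype.ext h0))).mul_right_eq_zero.mp
        (congrArg Subtype.val hab)))⟩
    exact NoZeroDivisors.to_isDomain S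
  letI : Field S := (Finite.isDomain_to_isField S).toField
  let F := {i : Fin (Nat.card S) // i.val < Nat.card S}
  let e : F ≃ S := (Equiv.subtypeUnivEquiv fun i => i.isLt).trans (Finite.equivFin S).symm
  letI : Field F := e.field
  let σ : F ≃+* S := e.ringEquiv
  have hcardS : Nat.card S = Nat.card J := Nat.card_congr (Equiv.subtypeEquivRight hSJ)
  have hcardF : Nat.card F = Nat.card A := by rw [Nat.card_congr e, hcardS, hcardJ]
  refine ⟨F, inferInstance, inferInstance, by rw [← Nat.card_eq_fintype_card, hcardF], ?_⟩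
  let L : F →+ Cq :=
    { toFun := fun r => ((σ r : S) : AddMonoid.End Cq) c0
      map_zero' := by simp
      map_add' := fun r t => by simp only [map_add, Subring.coe_add]; rfl }
  have hL : Function.Bijective L := by
    have hinj : Function.Injective L := (injective_iff_map_eq_zero L).mpr fun r hr => by
      by_contra hr0
      have hne : ((σ r : S) : AddMonoid.End Cq) ≠ 0 := fun h0 => hr0 (σ.injective (by
        rw [map_zero]; exact Subtype.ext h0))
      obtain ⟨u, hu⟩ := hunit _ ((hSJ _).mp (σ r).2) hne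
      have h2 : ((↑u⁻¹ : AddMonoid.End Cq) * ↑u) c0 = (↑u⁻¹ : AddMonoid.End Cq) ((↑u : AddMonoid.End Cq) c0) := rfl
      rw [Units.inv_mul, hu] at h2
      change c0 = (↑u⁻¹ : AddMonoid.End Cq) (L r) at h2
      rw [hr, map_zero] at h2
      exact hc0 h2
    refine hinj.bijective_of_nat_card_le ?_
    rw [hcardq, hcardF]
  let E : F ≃+ Cq := AddEquiv.ofBijective L hL
  have hσE : ∀ (r : F) (u : Cq), E.symm (((σ r : S) : AddMonoid.End Cq) u) = r * E.symm u := by
    intro r u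
    apply E.injective
    rw [E.apply_symm_apply]
    conv_lhs => rw [← E.apply_symm_apply u]
    show ((σ r : S) : AddMonoid.End Cq) (L (E.symm u)) = L (r * E.symm u)
    show _ = ((σ (r * E.symm u) : S) : AddMonoid.End Cq) c0
    rw [map_mul]
    rfl
  let ψ : W →+ (Fin 2 → F) :=
    AddMonoidHom.mk' (fun w => ![E.symm (ψ0 w).1, E.symm (ψ0 w).2]) fun u v => by
      funext i
      fin_cases i <;> simp [hψadd]
  have hψapply : ∀ w, ψ w = ![E.symm (ψ0 w).1, E.symm (ψ0 w).2] := fun w => rfl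
  have hψsurj : Function.Surjective ψ := by
    intro f
    obtain ⟨c1, hc1⟩ := hπs (E (f 0))
    obtain ⟨c2, hc2⟩ := hπs ((↑Θ⁻¹ : AddMonoid.End Cq) (E (f 1)))
    refine ⟨(c1 : W) + x • (c2 : W), ?_⟩
    rw [hψapply, hψ0, hc1, hc2, hΘΘ']
    funext i
    fin_cases i <;> simp
  have hker : ∀ w, ψ w = 0 ↔ w ∈ Z := by
    intro w
    rw [← hψker w]
    constructor
    · intro hw
      refine Prod.ext ?_ ?_
      · exact E.symm.injective ((congrFun hw 0).trans (map_zero E.symm).symm)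
      · exact E.symm.injective ((congrFun hw 1).trans (map_zero E.symm).symm)
    · intro hw
      rw [hψapply, hw]
      funext i
      fin_cases i <;> simp
  let G0 : Subgroup P :=
    { carrier := {g | ∃ m : SL(2, F), ∀ w, ψ (g • w) = (m : Matrix (Fin 2) (Fin 2) F) *ᵥ ψ w}
      one_mem' := ⟨1, fun w => by rw [one_smul]; exact (one_mulVec _).symm⟩
      mul_mem' := fun {a b} ⟨m, hm⟩ ⟨n, hn⟩ => ⟨m * n, fun w => by
        rw [mul_smul, hm, hn, mulVec_mulVec]; rfl⟩
      inv_mem' := fun {a} ⟨m, hm⟩ => ⟨m⁻¹, fun w => by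
        have e : ((m⁻¹ : SL(2, F)) : Matrix (Fin 2) (Fin 2) F) * (m : Matrix (Fin 2) (Fin 2) F) = 1 :=
          congrArg Subtype.val (inv_mul_cancel m)
        conv_rhs => rw [← smul_inv_smul a w, hm, mulVec_mulVec, e, one_mulVec]⟩ }
  let upm : F → SL(2, F) := fun r => ⟨!![1, r; 0, 1], by simp [Matrix.det_fin_two]⟩
  let lom : F → SL(2, F) := fun r => ⟨!![1, 0; r, 1], by simp [Matrix.det_fin_two]⟩
  have hup : ∀ a ∈ A, ∀ r : F, θ a * ↑Θ⁻¹ = ((σ r : S) : AddMonoid.End Cq) →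
      ∀ w, ψ (a • w) = (upm r : Matrix (Fin 2) (Fin 2) F) *ᵥ ψ w := by
    intro a ha r hr w
    rw [hψapply, hψapply, hA a ha, hr]
    funext i
    fin_cases i
    · show E.symm ((ψ0 w).1 + ((σ r : S) : AddMonoid.End Cq) (ψ0 w).2) = _
      rw [map_add, hσE]
      simp only [upm, Matrix.mulVec, dotProduct, Fin.sum_univ_two]
      show _ = 1 * E.symm (ψ0 w).1 + r * E.symm (ψ0 w).2
      ring
    · simp [upm, Matrix.mulVec, dotProduct, Fin.sum_univ_two]
  have hlo : ∀ b ∈ cjg x A, ∀ r : F, N b = ((σ r : S) : AddMonoid.End Cq) →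
      ∀ w, ψ (b • w) = (lom r : Matrix (Fin 2) (Fin 2) F) *ᵥ ψ w := by
    intro b hb r hr w
    rw [hψapply, hψapply, hB b hb, hr]
    funext i
    fin_cases i
    · simp [lom, Matrix.mulVec, dotProduct, Fin.sum_univ_two]
    · show E.symm ((ψ0 w).2 + ((σ r : S) : AddMonoid.End Cq) (ψ0 w).1) = _
      rw [map_add, hσE]
      simp only [lom, Matrix.mulVec, dotProduct, Fin.sum_univ_two]
      show _ = r * E.symm (ψ0 w).1 + 1 * E.symm (ψ0 w).2
      ring
  have hNS : ∀ b ∈ cjg x A, N b ∈ S := by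
    intro b hb
    rw [hSJ]
    by_cases hb1 : b = 1
    · rw [hb1, hN1]; exact J.zero_mem
    obtain ⟨j, hj, hjN⟩ := hNinv b hb hb1
    have hj0 : j ≠ 0 := fun h0 => by rw [h0, zero_mul] at hjN; exact zero_ne_one hjN
    obtain ⟨j', hj', -, hj'j⟩ := hinvJ j hj hj0
    rwa [show N b = j' by rw [← one_mul (N b), ← hj'j, mul_assoc, hjN, mul_one]]
  have hG0 : G0 = ⊤ := by
    refine eq_top_iff.mpr ((h.gen x hx).ge.trans (sup_le (fun a ha => ?_) fun b hb => ?_))
    · refine ⟨upm (σ.symm ⟨_, (hSJ _).mpr ⟨a, ha, rfl⟩⟩), hup a ha _ ?_⟩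
      rw [RingEquiv.apply_symm_apply]
    · refine ⟨lom (σ.symm ⟨_, hNS b hb⟩), hlo b hb _ ?_⟩
      rw [RingEquiv.apply_symm_apply]
  choose m hm using fun g : P => (hG0.ge (Subgroup.mem_top g) : g ∈ G0)
  have huniq : ∀ (g : P) (n : SL(2, F)), (∀ w, ψ (g • w) = (n : Matrix (Fin 2) (Fin 2) F) *ᵥ ψ w) →
      m g = n := by
    intro g n hn
    refine Subtype.ext (Matrix.ext_iff_mulVec.mpr fun v => ?_)
    obtain ⟨w, rfl⟩ := hψsurj v
    rw [← hm, hn]
  let ρ : P →* SL(2, F) :=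
    { toFun := m
      map_one' := huniq 1 1 fun w => by rw [one_smul]; exact (one_mulVec _).symm
      map_mul' := fun a b => huniq _ _ fun w => by
        rw [mul_smul, hm, hm, mulVec_mulVec]; rfl }
  refine ⟨ρ, ψ, ⟨(injective_iff_map_eq_one ρ).mpr fun g hg => h.faithful_quot fun w => ?_, ?_⟩, hψsurj,
    hker, hm⟩
  · rw [← hker, map_sub, hm g w, show m g = 1 from hg, sub_eq_zero]
    exact one_mulVec _
  · rw [← MonoidHom.range_eq_top]
    refine PSLSimple.eq_top_of_transvection_mem ρ.range fun i j hij r => ?_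
    fin_cases i <;> fin_cases j
    · exact absurd rfl hij
    · obtain ⟨a, ha, har⟩ := (hSJ _).mp (σ r).2
      refine ⟨a, huniq a _ ?_⟩
      intro w
      rw [hup a ha r har w]
      congr 1
      ext i j
      fin_cases i <;> fin_cases j <;>
        simp [upm, SpecialLinearGroup.transvection_coe, Matrix.one_apply, Matrix.single_apply]
    · by_cases hr : r = 0
      · refine ⟨1, huniq 1 _ ?_⟩
        intro w
        rw [one_smul]
        conv_lhs => rw [← one_mulVec (ψ w)]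
        congr 1
        ext i j
        fin_cases i <;> fin_cases j <;>
          simp [hr, SpecialLinearGroup.transvection_coe, Matrix.one_apply, Matrix.single_apply]
      have hne : ((σ r : S) : AddMonoid.End Cq) ≠ 0 := fun h0 => hr (σ.injective (by
        rw [map_zero]; exact Subtype.ext h0))
      obtain ⟨k', hk', -, hk'k⟩ := hinvJ _ ((hSJ _).mp (σ r).2) hne
      have hk'0 : k' ≠ 0 := fun h0 => by rw [h0, zero_mul] at hk'k; exact zero_ne_one hk'k
      obtain ⟨b, hb, hbN⟩ := hNsurj k' hk' hk'0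
      have hbr : N b = ((σ r : S) : AddMonoid.End Cq) := by
        have h1 := left_inv_comm hk'k
        rw [← one_mul (N b), ← h1, mul_assoc, hbN, mul_one]
      refine ⟨b, huniq b _ ?_⟩
      intro w
      rw [hlo b hb r hbr w]
      congr 1
      ext i j
      fin_cases i <;> fin_cases j <;>
        simp [lom, SpecialLinearGroup.transvection_coe, Matrix.one_apply, Matrix.single_apply]
    · exact absurd rfl hij

end Cfsg.Agent.OffenderSL2Gen31
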