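import Mathlib

/-!
Generalisation of `Lib/OffenderSL2Spread` (copy) to modules of exponent `p ^ N`.
A `p`-minimal group `P` acting faithfully on an abelian `p`-group `W`, with a strict
offender `A` such that `P = ⟨A, A^x⟩` for all `x` outside the maximal subgroup over the Sylow
subgroup: the spread structure of `W / C_W(P)`.
-/

set_option autoImplicit false

namespace Cfsg.Agent.OffenderSL2Gen31

variable {P : Type*} [Group P] {W : Type*} [AddCommGroup W] [DistribMulAction P W]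

/-- The conjugate subgroup. -/
abbrev cjg (x : P) (A : Subgroup P) : Subgroup P := A.map (MulAut.conj x).toMonoidHom

theorem mem_cjg {x y : P} {A : Subgroup P} : y ∈ cjg x A ↔ x⁻¹ * y * x ∈ A := by
  constructor
  · rintro ⟨a, ha, rfl⟩
    simpa [mul_assoc] using ha
  · intro hy
    exact ⟨x⁻¹ * y * x, hy, by simp [mul_assoc]⟩

theorem conj_mem_cjg {x a : P} {A : Subgroup P} (ha : a ∈ A) : x * a * x⁻¹ ∈ cjg x A :=
  ⟨a, ha, by simp⟩

theorem cjg_cjg (x y : P) (A : Subgroup P) : cjg x (cjg y A) = cjg (x * y) A := by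
  ext z; simp only [mem_cjg, mul_inv_rev, mul_assoc]

theorem cjg_sup (x : P) (A B : Subgroup P) : cjg x (A ⊔ B) = cjg x A ⊔ cjg x B :=
  Subgroup.map_sup _ _ _

theorem cjg_top (x : P) : cjg x (⊤ : Subgroup P) = ⊤ :=
  Subgroup.map_top_of_surjective _ (MulAut.conj x).surjective

/-- The vectors fixed by a subgroup. -/
def fixW (W : Type*) [AddCommGroup W] [DistribMulAction P W] (S : Subgroup P) : AddSubgroup W where
  carrier := {w | ∀ g ∈ S, g • w = w}
  zero_mem' := fun g _ => smul_zero g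
  add_mem' := fun {a b} ha hb g hg => by rw [smul_add, ha g hg, hb g hg]
  neg_mem' := fun {a} ha g hg => by rw [smul_neg, ha g hg]

theorem fixW_anti {S S' : Subgroup P} (h : S ≤ S') : fixW W S' ≤ fixW W S :=
  fun _ hw g hg => hw g (h hg)

theorem smul_mem_fixW {S : Subgroup P} {x : P} {w : W} (hw : w ∈ fixW W S) :
    x • w ∈ fixW W (cjg x S) := by
  intro g hg
  calc g • x • w = x • (x⁻¹ * g * x) • w := by simp [← mul_smul, mul_assoc]
    _ = x • w := by rw [hw _ (mem_cjg.mp hg)]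

/-- The stabiliser of `d` modulo `Z`. -/
def cosetStab (Z : AddSubgroup W) (hZ : ∀ g : P, ∀ z ∈ Z, g • z = z) (d : W) : Subgroup P where
  carrier := {g | g • d - d ∈ Z}
  one_mem' := by simp [Z.zero_mem]
  mul_mem' := fun {a b} (ha : _ ∈ Z) (hb : _ ∈ Z) => by
    show _ ∈ Z
    have : (a * b) • d - d = (b • d - d) + (a • d - d) := by
      rw [← hZ a _ hb, smul_sub, mul_smul]; abel
    rw [this]
    exact Z.add_mem hb ha
  inv_mem' := fun {a} (ha : _ ∈ Z) => by
    show _ ∈ Z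
    have : a⁻¹ • d - d = -(a⁻¹ • (a • d - d)) := by rw [smul_sub, inv_smul_smul]; abel
    rw [this, hZ _ _ ha]
    exact Z.neg_mem ha

variable (p : ℕ)

/-- The hypotheses. -/
structure Hyp (T : Sylow p P) (M A : Subgroup P) : Prop where
  faithful : ∀ g : P, (∀ w : W, g • w = w) → g = 1
  expW : ∃ N : ℕ, ∀ w : W, p ^ N • w = 0
  notTop : M ≠ ⊤
  sylM : (T : Subgroup P) ≤ M
  uniq : ∀ L : Subgroup P, (T : Subgroup P) ≤ L → L ≠ ⊤ → L ≤ M
  AT : A ≤ (T : Subgroup P)
  comm : ∀ a ∈ A, ∀ b ∈ A, a * b = b * a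
  expA : ∀ a ∈ A, a ^ p = 1
  gen : ∀ x : P, x ∉ M → A ⊔ cjg x A = ⊤
  off : Nat.card W ≤ Nat.card A * Nat.card (fixW W A)
  strict : ∀ A₀ : Subgroup P, A₀ ≤ A → A₀ ≠ ⊥ → A₀ ≠ A →
    Nat.card A₀ * Nat.card (fixW W A₀) < Nat.card A * Nat.card (fixW W A)
  moved : ∃ c ∈ fixW W (T : Subgroup P), c ∉ fixW W (⊤ : Subgroup P)

variable {p} [Finite P] [Finite W] [hp : Fact p.Prime] {T : Sylow p P} {M A : Subgroup P}

omit [Finite P] [Finite W] hp in
theorem card_sup_mul_card_inf {G : Type*} [AddCommGroup G] [Finite G] (H K : AddSubgroup G) :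
    Nat.card (H ⊔ K : AddSubgroup G) * Nat.card (H ⊓ K : AddSubgroup G) =
      Nat.card H * Nat.card K := by
  let e := QuotientAddGroup.quotientInfEquivSumNormalQuotient H K
  have h1 := ((H ⊓ K).addSubgroupOf H).card_eq_card_quotient_mul_card_addSubgroup
  have h2 := (K.addSubgroupOf (H ⊔ K)).card_eq_card_quotient_mul_card_addSubgroup
  rw [Nat.card_congr (AddSubgroup.addSubgroupOfEquivOfLe (inf_le_left : H ⊓ K ≤ H)).toEquiv] at h1
  rw [Nat.card_congr (AddSubgroup.addSubgroupOfEquivOfLe (le_sup_right : K ≤ H ⊔ K)).toEquiv] at h2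
  have he : Nat.card (↥H ⧸ (H ⊓ K).addSubgroupOf H) =
      Nat.card (↥(H ⊔ K) ⧸ K.addSubgroupOf (H ⊔ K)) := by
    rw [AddSubgroup.inf_addSubgroupOf_left] at *
    exact Nat.card_congr e.toEquiv
  rw [h2, h1, he]
  ring

namespace Hyp

variable (h : Hyp (W := W) p T M A)
include h

omit [Finite P] [Finite W] hp in
theorem exists_out : ∃ x : P, x ∉ M := by
  by_contra hno
  push Not at hno
  exact h.notTop (eq_top_iff.mpr fun x _ => hno x)

omit [Finite P] [Finite W] hp in
theorem A_le_M : A ≤ M := h.AT.trans h.sylM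

omit [Finite P] [Finite W] hp in
theorem A_ne_bot : A ≠ ⊥ := by
  intro h0
  obtain ⟨x, hx⟩ := h.exists_out
  have hg := h.gen x hx
  rw [h0, cjg, Subgroup.map_bot, bot_sup_eq] at hg
  exact h.notTop (eq_top_iff.mpr (hg ▸ bot_le))

omit [Finite P] [Finite W] hp in
theorem over_le (L : Subgroup P) (hAL : A ≤ L) (hL : L ≠ ⊤) : L ≤ M := by
  intro x hx
  by_contra hxM
  refine hL (eq_top_iff.mpr ((h.gen x hxM).ge.trans (sup_le hAL ?_)))
  rintro _ ⟨a, ha, rfl⟩
  simpa using L.mul_mem (L.mul_mem hx (hAL ha)) (L.inv_mem hx)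

omit [Finite P] [Finite W] hp in
theorem gen_pair {x y : P} (hxy : x⁻¹ * y ∉ M) : cjg x A ⊔ cjg y A = ⊤ := by
  have := congrArg (cjg x) (h.gen _ hxy)
  rwa [cjg_sup, cjg_cjg, mul_inv_cancel_left, cjg_top] at this

omit [Finite P] [Finite W] hp in
theorem not_mem_inv {x : P} (hx : x ∉ M) : x⁻¹ ∉ M := fun h' => hx (inv_inv x ▸ M.inv_mem h')

omit [Finite P] [Finite W] hp in
theorem fix_Z {g : P} {z : W} (hz : z ∈ fixW W (⊤ : Subgroup P)) : g • z = z := hz g trivial

/-- A strict offender acts quadratically. -/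
theorem quad {a : P} (ha : a ∈ A) (w : W) : a • w - w ∈ fixW W A := by
  classical
  let B : Subgroup P :=
    { carrier := {b | b ∈ A ∧ ∀ c ∈ A, b • (c • w - w) = c • w - w}
      one_mem' := ⟨one_mem _, fun _ _ => one_smul _ _⟩
      mul_mem' := fun {a b} ha hb => ⟨A.mul_mem ha.1 hb.1, fun c hc => by
        rw [mul_smul, hb.2 c hc, ha.2 c hc]⟩
      inv_mem' := fun {a} ha => ⟨A.inv_mem ha.1, fun c hc => by
        conv_lhs => rw [← ha.2 c hc]
        rw [inv_smul_smul]⟩ }
  have hBA : B ≤ A := fun b hb => hb.1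
  set D := AddSubgroup.closure ((fun c : P => c • w - w) '' (A : Set P)) with hD
  set C := fixW W A with hC
  have hDB : D ⊔ C ≤ fixW W B := by
    refine sup_le ((AddSubgroup.closure_le _).mpr ?_) (fixW_anti hBA)
    rintro _ ⟨c, hc, rfl⟩ b hb
    exact hb.2 c hc
  -- `A / B` embeds into `(D + C) / C`
  have key : ∀ a b : A, (b : P) • w - (a : P) • w ∈ C → (a : P)⁻¹ * b ∈ B := by
    intro a b hab
    refine ⟨A.mul_mem (A.inv_mem a.2) b.2, fun c hc => ?_⟩
    set e : P := (a : P)⁻¹ * b with he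
    have hw : e • w = w + ((b : P) • w - (a : P) • w) := by
      have h1 := hab _ (A.inv_mem a.2)
      rw [smul_sub, inv_smul_smul, ← mul_smul, sub_eq_iff_eq_add] at h1
      rw [h1]; abel
    rw [smul_sub, ← mul_smul, h.comm e (A.mul_mem (A.inv_mem a.2) b.2) c hc, mul_smul, hw, smul_add,
      hab c hc]
    abel
  let f : A → ↥(D ⊔ C) ⧸ C.addSubgroupOf (D ⊔ C) := fun a =>
    QuotientAddGroup.mk ⟨(a : P) • w - w,
      AddSubgroup.mem_sup_left (AddSubgroup.subset_closure ⟨a, a.2, rfl⟩)⟩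
  have hf : ∀ a b : A, f a = f b → (a : A ⧸ B.subgroupOf A) = b := by
    intro a b hab
    rw [QuotientGroup.eq]
    refine Subgroup.mem_subgroupOf.mpr (key a b ?_)
    have h1 : -((a : P) • w - w) + ((b : P) • w - w) ∈ C :=
      AddSubgroup.mem_addSubgroupOf.mp (QuotientAddGroup.eq.mp hab)
    rwa [show -((a : P) • w - w) + ((b : P) • w - w) = (b : P) • w - (a : P) • w by abel] at h1
  have hidx : (B.subgroupOf A).index ≤ (C.addSubgroupOf (D ⊔ C)).index := by
    refine Nat.card_le_card_of_injective (fun q => f q.out) fun q q' hq => ?_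
    have := hf _ _ hq
    rwa [QuotientGroup.out_eq', QuotientGroup.out_eq'] at this
  have hcount : Nat.card A * Nat.card C ≤ Nat.card B * Nat.card (D ⊔ C : AddSubgroup W) := by
    have e1 := (B.subgroupOf A).card_mul_index
    have e2 := (C.addSubgroupOf (D ⊔ C)).card_mul_index
    rw [Nat.card_congr (Subgroup.subgroupOfEquivOfLe hBA).toEquiv] at e1
    rw [Nat.card_congr (AddSubgroup.addSubgroupOfEquivOfLe (le_sup_right : C ≤ D ⊔ C)).toEquiv] at e2
    rw [← e1, ← e2]
    calc Nat.card B * (B.subgroupOf A).index * Nat.card C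
        ≤ Nat.card B * (C.addSubgroupOf (D ⊔ C)).index * Nat.card C :=
          Nat.mul_le_mul_right _ (Nat.mul_le_mul_left _ hidx)
      _ = _ := by ring
  by_cases hB : B = A
  · exact fun b hb => (hB.ge hb).2 a ha
  exfalso
  have hBbot : B = ⊥ := by
    by_contra hne
    exact (h.strict B hBA hne hB).not_ge
      (hcount.trans (Nat.mul_le_mul_left _ (AddSubgroup.card_le_of_le hDB)))
  have htop : D ⊔ C = ⊤ := by
    refine AddSubgroup.eq_top_of_card_eq _ (le_antisymm (Finite.card_subtype_le _) ?_)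
    have := h.off.trans hcount
    rwa [hBbot, Subgroup.card_bot, one_mul] at this
  -- `[W, A] = [W, A, A]` forces a trivial action
  let D0 := AddSubgroup.closure {u | ∃ c ∈ A, ∃ v : W, c • v - v = u}
  have hDD : D ≤ D0 := (AddSubgroup.closure_le _).mpr (by
    rintro _ ⟨c, hc, rfl⟩
    exact AddSubgroup.subset_closure ⟨c, hc, w, rfl⟩)
  have hgenD : ∀ c ∈ A, ∀ v : W, ∃ d ∈ D0, c • v - v = c • d - d := by
    intro c hc v
    obtain ⟨d, hd, z, hz, rfl⟩ := AddSubgroup.mem_sup.mp (htop.ge (AddSubgroup.mem_top v))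
    exact ⟨d, hDD hd, by rw [smul_add, hz c hc]; abel⟩
  let δ : P → AddMonoid.End W := fun c => DistribMulAction.toAddMonoidEnd P W c - 1
  have hδ : ∀ (c : P) (v : W), δ c v = c • v - v := fun c v => rfl
  have hcomm : ∀ c ∈ A, ∀ d ∈ A, Commute (δ c) (δ d) := by
    intro c hc d hd
    have : Commute (DistribMulAction.toAddMonoidEnd P W c) (DistribMulAction.toAddMonoidEnd P W d) := by
      show _ * _ = _ * _
      rw [← map_mul, ← map_mul, h.comm c hc d hd]
    exact ((this.sub_left (Commute.one_left _)).sub_right (Commute.one_right _))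
  obtain ⟨N, hN⟩ := h.expW
  have hnil : ∀ c ∈ A, δ c ^ (p * N) = 0 := by
    intro c hc
    obtain ⟨r, hr⟩ := (Commute.one_left (δ c)).exists_add_pow_prime_pow_eq hp.out 1
    have h1 : (1 : AddMonoid.End W) + δ c = DistribMulAction.toAddMonoidEnd P W c :=
      add_sub_cancel _ _
    rw [h1, pow_one, ← map_pow, h.expA c hc, map_one, one_pow, mul_one, mul_assoc, add_assoc,
      left_eq_add, add_eq_zero_iff_eq_neg, ← mul_neg] at hr
    rw [pow_mul, hr, (Nat.cast_commute p _).mul_pow]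
    refine AddMonoidHom.ext fun v => ?_
    show ((p : AddMonoid.End W) ^ N) (((-(δ c * r)) ^ N) v) = (0 : W)
    rw [← Nat.cast_pow]
    exact (AddMonoid.End.natCast_apply _ _).trans (hN _)
  have hD0bot : ∀ s : Finset P, (∀ c ∈ s, c ∈ A) → ∀ E : AddSubgroup W,
      (∀ c ∈ A, ∀ v ∈ E, δ c v ∈ E) →
      E ≤ AddSubgroup.closure {u | ∃ c ∈ s, ∃ v ∈ E, δ c v = u} → E = ⊥ := by
    intro s
    induction s using Finset.induction_on with
    | empty =>
      intro _ E _ hE
      refine eq_bot_iff.mpr (hE.trans ((AddSubgroup.closure_le _).mpr ?_))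
      rintro u ⟨c, hc, -⟩
      exact absurd hc (Finset.notMem_empty c)
    | insert c s hcs ih =>
      intro hs E hinv hE
      refine ih (fun d hd => hs d (Finset.mem_insert_of_mem hd)) E hinv ?_
      set R := AddSubgroup.closure {u | ∃ d ∈ s, ∃ v ∈ E, δ d v = u}
      have hcA : c ∈ A := hs c (Finset.mem_insert_self c s)
      have hR : ∀ r ∈ R, δ c r ∈ R := by
        intro r hr
        refine AddSubgroup.closure_induction (p := fun r _ => δ c r ∈ R) ?_ (by simp [map_zero, R.zero_mem])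
          (fun _ _ _ _ h1 h2 => by rw [map_add]; exact R.add_mem h1 h2)
          (fun _ _ h1 => by rw [map_neg]; exact R.neg_mem h1) hr
        rintro _ ⟨d, hd, v, hv, rfl⟩
        refine AddSubgroup.subset_closure ⟨d, hd, δ c v, hinv c hcA v hv, ?_⟩
        exact DFunLike.congr_fun (hcomm d (hs d (Finset.mem_insert_of_mem hd)) c hcA).eq v
      have step : ∀ v ∈ E, ∃ v' ∈ E, ∃ r ∈ R, v = δ c v' + r := by
        intro v hv
        refine AddSubgroup.closure_induction (p := fun u _ => ∃ v' ∈ E, ∃ r ∈ R, u = δ c v' + r) ?_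
          ⟨0, E.zero_mem, 0, R.zero_mem, by rw [map_zero, add_zero]⟩ ?_ ?_ (hE hv)
        · rintro _ ⟨d, hd, v', hv', rfl⟩
          rcases Finset.mem_insert.mp hd with rfl | hd
          · exact ⟨v', hv', 0, R.zero_mem, (add_zero _).symm⟩
          · exact ⟨0, E.zero_mem, _, AddSubgroup.subset_closure ⟨d, hd, v', hv', rfl⟩,
              by rw [map_zero, zero_add]⟩
        · rintro _ _ _ _ ⟨v1, h1, r1, hr1, rfl⟩ ⟨v2, h2, r2, hr2, rfl⟩
          exact ⟨v1 + v2, E.add_mem h1 h2, r1 + r2, R.add_mem hr1 hr2, by rw [map_add]; abel⟩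
        · rintro _ _ ⟨v1, h1, r1, hr1, rfl⟩
          exact ⟨-v1, E.neg_mem h1, -r1, R.neg_mem hr1, by rw [map_neg]; abel⟩
      have iter : ∀ k : ℕ, ∀ v ∈ E, ∃ v' ∈ E, ∃ r ∈ R, v = (δ c ^ k) v' + r := by
        intro k
        induction k with
        | zero => exact fun v hv => ⟨v, hv, 0, R.zero_mem, by simp⟩
        | succ k ihk =>
          intro v hv
          obtain ⟨v1, h1, r1, hr1, rfl⟩ := ihk v hv
          obtain ⟨v2, h2, r2, hr2, rfl⟩ := step v1 h1
          have hRk : ∀ k, ∀ r ∈ R, (δ c ^ k) r ∈ R := by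
            intro k
            induction k with
            | zero => exact fun r hr => by simpa using hr
            | succ k ihk' => exact fun r hr => by rw [pow_succ]; exact ihk' _ (hR r hr)
          refine ⟨v2, h2, (δ c ^ k) r2 + r1, R.add_mem (hRk k _ hr2) hr1, ?_⟩
          rw [map_add, pow_succ]
          show _ + _ + _ = (δ c ^ k) (δ c v2) + _
          abel
      intro v hv
      obtain ⟨v', -, r, hr, rfl⟩ := iter (p * N) v hv
      rw [hnil c hcA]
      show (0 : W) + r ∈ R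
      rwa [zero_add]
  haveI := Fintype.ofFinite P
  have hbot : D0 = ⊥ := by
    refine hD0bot (Finset.univ.filter (· ∈ A)) (fun c hc => (Finset.mem_filter.mp hc).2) D0
      (fun c hc v hv => AddSubgroup.subset_closure ⟨c, hc, v, rfl⟩) ((AddSubgroup.closure_le _).mpr ?_)
    rintro _ ⟨c, hc, v, rfl⟩
    obtain ⟨d, hd, e⟩ := hgenD c hc v
    exact AddSubgroup.subset_closure ⟨c, Finset.mem_filter.mpr ⟨Finset.mem_univ c, hc⟩, d, hd, e.symm⟩
  refine h.A_ne_bot ((Subgroup.eq_bot_iff_forall A).mpr fun c hc => h.faithful c fun v => ?_)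
  have h1 : c • v - v ∈ D0 := AddSubgroup.subset_closure ⟨c, hc, v, rfl⟩
  rwa [hbot, AddSubgroup.mem_bot, sub_eq_zero] at h1

/-- The core part of the Sylow subgroup is normal. -/
theorem core_normal : ((T : Subgroup P) ⊓ M.normalCore).Normal := by
  set N := M.normalCore
  set Q := (T : Subgroup P) ⊓ N
  have hQp : IsPGroup p (Q.subgroupOf N) :=
    (T.isPGroup'.to_le (inf_le_left : Q ≤ T)).comap_subtype
  obtain ⟨S, hS⟩ := hQp.exists_le_sylow
  have hSQ : ((S : Subgroup N).map N.subtype) = Q := by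
    have hSp : IsPGroup p ((S : Subgroup N).map N.subtype) := S.isPGroup'.map _
    obtain ⟨T', hT'⟩ := hSp.exists_le_sylow
    obtain ⟨g, hg⟩ := MulAction.exists_smul_eq P T T'
    refine (Subgroup.eq_of_le_of_card_ge ?_ ?_).symm
    · intro x hx
      exact ⟨⟨x, hx.2⟩, hS (Subgroup.mem_subgroupOf.mpr hx), rfl⟩
    · refine le_trans (Subgroup.card_le_of_le (show (S : Subgroup N).map N.subtype ≤ cjg g Q from ?_))
        (Subgroup.card_map_of_injective (MulAut.conj g).injective).le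
      intro x hx
      have h1 := hT' hx
      rw [← hg, Sylow.coe_subgroup_smul, Subgroup.mem_pointwise_smul_iff_inv_smul_mem] at h1
      have e : (MulAut.conj g)⁻¹ • x = g⁻¹ * x * g := by simp [MulAut.smul_def]
      rw [e] at h1
      refine mem_cjg.mpr ⟨h1, ?_⟩
      obtain ⟨y, -, rfl⟩ := hx
      have := (Subgroup.normalCore_normal M).conj_mem _ y.2 g⁻¹
      simpa using this
  have hfr := Sylow.normalizer_sup_eq_top (N := N) S
  rw [hSQ] at hfr
  apply Subgroup.normalizer_eq_top_iff.mp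
  by_contra hne
  have hTn : (T : Subgroup P) ≤ Subgroup.normalizer (Q : Set P) := by
    intro t ht
    rw [Subgroup.mem_normalizer_iff]
    intro y
    constructor
    · exact fun hy => ⟨(T : Subgroup P).mul_mem ((T : Subgroup P).mul_mem ht hy.1) ((T : Subgroup P).inv_mem ht),
        (Subgroup.normalCore_normal M).conj_mem _ hy.2 t⟩
    · intro hy
      refine ⟨?_, ?_⟩
      · have := (T : Subgroup P).mul_mem ((T : Subgroup P).mul_mem ((T : Subgroup P).inv_mem ht) hy.1) ht
        rwa [show t⁻¹ * (t * y * t⁻¹) * t = y by group] at this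
      · have := (Subgroup.normalCore_normal M).conj_mem _ hy.2 t⁻¹
        simpa [mul_assoc] using this
  exact h.notTop (eq_top_iff.mpr (hfr.ge.trans (sup_le (h.uniq _ hTn hne) (Subgroup.normalCore_le M))))

/-- A normal `p`-subgroup lies in the Sylow subgroup. -/
theorem normal_le_T {K : Subgroup P} [K.Normal] (hK : IsPGroup p K) : K ≤ (T : Subgroup P) := by
  obtain ⟨T', hT'⟩ := hK.exists_le_sylow
  obtain ⟨g, hg⟩ := MulAction.exists_smul_eq P T T'
  intro x hx
  have h1 := hT' (‹K.Normal›.conj_mem x hx g)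
  rw [← hg, Sylow.coe_subgroup_smul, Subgroup.mem_pointwise_smul_iff_inv_smul_mem] at h1
  simpa [MulAut.inv_apply, MulAut.conj_symm_apply, mul_assoc] using h1

omit [Finite P] [Finite W] hp in
theorem coset_ne_top {d : W} (hd : d ∈ fixW W A) (hdZ : d ∉ fixW W (⊤ : Subgroup P)) :
    cosetStab (fixW W (⊤ : Subgroup P)) (fun _ _ hz => h.fix_Z hz) d ≠ ⊤ := by
  intro htop
  have hg : ∀ g : P, g • d - d ∈ fixW W (⊤ : Subgroup P) := fun g => htop.ge (Subgroup.mem_top g)
  obtain ⟨x, hx⟩ := h.exists_out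
  refine hdZ fun g _ => ?_
  let St : Subgroup P := MulAction.stabilizer P d
  suffices St = ⊤ from this.ge (Subgroup.mem_top g)
  refine eq_top_iff.mpr ((h.gen x hx).ge.trans (sup_le (fun a ha => hd a ha) ?_))
  rintro _ ⟨a, ha, rfl⟩
  show (x * a * x⁻¹) • d = d
  have h1 : a • x⁻¹ • d = x⁻¹ • d := by
    have e : x⁻¹ • d = (x⁻¹ • d - d) + d := by abel
    rw [e, smul_add, h.fix_Z (hg x⁻¹), hd a ha]
  rw [mul_smul, mul_smul, h1, smul_inv_smul]

omit [Finite P] [Finite W] hp in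
theorem coset_le {x : P} {d : W} (hd : d ∈ fixW W (cjg x A)) (hdZ : d ∉ fixW W (⊤ : Subgroup P))
    {g : P} (hg : g • d - d ∈ fixW W (⊤ : Subgroup P)) : x⁻¹ * g * x ∈ M := by
  have hd' : x⁻¹ • d ∈ fixW W A := by
    have := smul_mem_fixW (x := x⁻¹) hd
    rwa [cjg_cjg, inv_mul_cancel, show cjg (1 : P) A = A by ext; simp [mem_cjg]] at this
  have hdZ' : x⁻¹ • d ∉ fixW W (⊤ : Subgroup P) := fun hz => hdZ (by
    have := h.fix_Z (g := x) hz
    rw [smul_inv_smul] at this
    exact this ▸ hz)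
  refine h.over_le (cosetStab (fixW W (⊤ : Subgroup P)) (fun _ _ hz => h.fix_Z hz) (x⁻¹ • d))
    (fun a ha => ?_) (h.coset_ne_top hd' hdZ') ?_
  · show a • x⁻¹ • d - x⁻¹ • d ∈ fixW W (⊤ : Subgroup P)
    rw [hd' a ha, sub_self]
    exact zero_mem _
  · show (x⁻¹ * g * x) • x⁻¹ • d - x⁻¹ • d ∈ fixW W (⊤ : Subgroup P)
    rw [mul_smul, mul_smul, smul_inv_smul, ← smul_sub, h.fix_Z hg]
    exact hg

omit [Finite P] [Finite W] hp in
theorem inf_fix {x : P} (hx : x ∉ M) :
    fixW W A ⊓ fixW W (cjg x A) = fixW W (⊤ : Subgroup P) := by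
  refine le_antisymm (fun w hw g _ => ?_) (le_inf (fixW_anti le_top) (fixW_anti le_top))
  suffices MulAction.stabilizer P w = ⊤ from this.ge (Subgroup.mem_top g)
  exact eq_top_iff.mpr ((h.gen x hx).ge.trans (sup_le (fun a ha => hw.1 a ha) fun a ha => hw.2 a ha))

theorem quad_cjg {x b : P} (hb : b ∈ cjg x A) (w : W) : b • w - w ∈ fixW W (cjg x A) := by
  have h1 := smul_mem_fixW (x := x) (h.quad (mem_cjg.mp hb) (x⁻¹ • w))
  rw [smul_sub, smul_inv_smul, mul_smul, mul_smul, smul_inv_smul, smul_inv_smul] at h1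
  exact h1

theorem U_invariant {x : P} (hx : x ∉ M) (g : P) {u : W}
    (hu : u ∈ fixW W A ⊔ fixW W (cjg x A)) : g • u ∈ fixW W A ⊔ fixW W (cjg x A) := by
  set U := fixW W A ⊔ fixW W (cjg x A) with hU
  suffices ∀ g ∈ A ⊔ cjg x A, ∀ u ∈ U, g • u ∈ U from this g ((h.gen x hx).ge (Subgroup.mem_top g)) u hu
  intro g hg
  refine Subgroup.closure_induction (p := fun g _ => ∀ u ∈ U, g • u ∈ U) ?_
    (fun u hu => by rwa [one_smul]) (fun a b _ _ ha hb u hu => by rw [mul_smul]; exact ha _ (hb u hu))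
    ?_ (show g ∈ Subgroup.closure ((A : Set P) ∪ (cjg x A : Set P)) by
      rw [Subgroup.closure_union, Subgroup.closure_eq, Subgroup.closure_eq]; exact hg)
  · rintro a (ha | ha) u hu
    · rw [show a • u = (a • u - u) + u by abel]
      exact U.add_mem (AddSubgroup.mem_sup_left (h.quad ha u)) hu
    · rw [show a • u = (a • u - u) + u by abel]
      exact U.add_mem (AddSubgroup.mem_sup_right (h.quad_cjg ha u)) hu
  · intro a _ ha u hu
    obtain ⟨n, hn⟩ : a⁻¹ ∈ Submonoid.powers a :=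
      mem_powers_iff_mem_zpowers.mpr ((Subgroup.zpowers a).inv_mem (Subgroup.mem_zpowers a))
    rw [← hn]
    clear hn
    induction n with
    | zero => simpa using hu
    | succ n ih =>
      show a ^ (n + 1) • u ∈ U
      rw [pow_succ', mul_smul]
      exact ha _ ih

/-- `A` meets every outside conjugate of `M` in its core. -/
theorem inf_le_core {x : P} (hx : x ∉ M) {y : P} (hyA : y ∈ A) (hy : x⁻¹ * y * x ∈ M) :
    y ∈ M.normalCore := by
  classical
  let Y : Subgroup P := A ⊓ cjg x M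
  have hYp : IsPGroup p Y := (T.isPGroup'.to_le h.AT).to_le inf_le_left
  have hyY : y ∈ Y := ⟨hyA, mem_cjg.mpr hy⟩
  -- `Y` lies in a conjugate of `T` inside `M^x`
  let TM : Sylow p M := T.subtype h.sylM
  have hY'p : IsPGroup p ((cjg x⁻¹ Y).subgroupOf M) := (hYp.map _).comap_subtype
  obtain ⟨S, hS⟩ := hY'p.exists_le_sylow
  obtain ⟨m, hm⟩ := MulAction.exists_smul_eq M TM S
  obtain ⟨c, hcT, hcZ⟩ := h.moved
  set d := (x * (m : P)) • c with hd
  have hx' : x * (m : P) ∉ M := fun h' => hx (by simpa using M.mul_mem h' (M.inv_mem m.2))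
  have hyd : y • d = d := by
    have h1 : x⁻¹ * y * x ∈ cjg x⁻¹ Y := mem_cjg.mpr (by simpa [mul_assoc] using hyY)
    have h2 : (⟨x⁻¹ * y * x, hy⟩ : M) ∈ (S : Subgroup M) := hS h1
    rw [← hm, Sylow.coe_subgroup_smul, Subgroup.mem_pointwise_smul_iff_inv_smul_mem] at h2
    have h3 : (m : P)⁻¹ * (x⁻¹ * y * x) * m ∈ (T : Subgroup P) := by
      have := Subgroup.mem_subgroupOf.mp h2
      simpa [MulAut.inv_apply, MulAut.conj_symm_apply] using this
    have := hcT _ h3
    rw [hd, ← mul_smul]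
    calc (y * (x * (m : P))) • c = (x * (m : P)) • (((m : P)⁻¹ * (x⁻¹ * y * x) * m) • c) := by
          rw [← mul_smul]; congr 1; group
      _ = _ := by rw [this]
  have hdC : d ∈ fixW W (cjg (x * (m : P)) A) := smul_mem_fixW (fixW_anti h.AT hcT)
  have hdZ : d ∉ fixW W (⊤ : Subgroup P) := fun hz => hcZ (by
    have := h.fix_Z (g := (x * (m : P))⁻¹) hz
    rw [hd, inv_smul_smul] at this
    exact this ▸ hz)
  intro g
  show g * y * g⁻¹ ∈ M
  by_cases hg : g ∈ M
  · exact M.mul_mem (M.mul_mem hg (h.A_le_M hyA)) (M.inv_mem hg)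
  have hg' := h.not_mem_inv hg
  set U := fixW W A ⊔ fixW W (cjg g⁻¹ A) with hU
  have hdU : d ∈ U := by
    rw [hd]
    exact h.U_invariant hg' _ (AddSubgroup.mem_sup_left (fixW_anti h.AT hcT))
  obtain ⟨u, hu, v, hv, huv⟩ := AddSubgroup.mem_sup.mp hdU
  have hyv : y • v = v := by
    have := hyd
    rw [← huv, smul_add, hu y hyA] at this
    exact add_left_cancel this
  have hvZ : v ∉ fixW W (⊤ : Subgroup P) := fun hz => hdZ (by
    have hdA : d ∈ fixW W A := huv ▸ add_mem hu (fixW_anti le_top hz)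
    exact (h.inf_fix hx').le ⟨hdA, hdC⟩)
  have := h.coset_le (x := g⁻¹) hv hvZ (g := y) (by rw [hyv, sub_self]; exact zero_mem _)
  rwa [inv_inv] at this

/-- `A` meets no outside conjugate of `M`. -/
theorem inf_cjg_trivial {x : P} (hx : x ∉ M) {y : P} (hyA : y ∈ A) (hy : x⁻¹ * y * x ∈ M) : y = 1 := by
  classical
  haveI hQn := h.core_normal
  set Q := (T : Subgroup P) ⊓ M.normalCore with hQ
  set Z := fixW W (⊤ : Subgroup P) with hZ
  set C := fixW W A with hC
  set A₀ := A ⊓ Q with hA0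
  have hyA₀ : y ∈ A₀ := ⟨hyA, h.AT hyA, h.inf_le_core hx hyA hy⟩
  obtain ⟨c, hcT, hcZ⟩ := h.moved
  set W1 := fixW W Q with hW1
  have hW1inv : ∀ g : P, ∀ w ∈ W1, g • w ∈ W1 := by
    intro g w hw q hq
    calc q • g • w = g • (g⁻¹ * q * g) • w := by simp [← mul_smul, mul_assoc]
      _ = g • w := by
          rw [hw _ (by simpa using hQn.conj_mem q hq g⁻¹)]
  set c' := x • c with hc'
  have hc'W1 : c' ∈ W1 := hW1inv x _ (fixW_anti inf_le_left hcT)
  have hc'C : c' ∈ fixW W (cjg x A) := smul_mem_fixW (fixW_anti h.AT hcT)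
  have hc'Z : c' ∉ Z := fun hz => hcZ (by
    have := h.fix_Z (g := x⁻¹) hz
    rw [hc', inv_smul_smul] at this
    exact this ▸ hz)
  have hZC : Z ≤ C ⊓ W1 := le_inf (fixW_anti le_top) (fixW_anti le_top)
  have hmap : ∀ a : A, (a : P) • c' - c' ∈ C ⊓ W1 := fun a =>
    ⟨h.quad a.2 _, W1.sub_mem (hW1inv _ _ hc'W1) hc'W1⟩
  let f : A → ↥(C ⊓ W1) ⧸ Z.addSubgroupOf (C ⊓ W1) := fun a => QuotientAddGroup.mk ⟨_, hmap a⟩
  have hf : ∀ a b : A, f a = f b → (a : A ⧸ A₀.subgroupOf A) = b := by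
    intro a b hab
    rw [QuotientGroup.eq]
    refine Subgroup.mem_subgroupOf.mpr ⟨A.mul_mem (A.inv_mem a.2) b.2, ?_⟩
    have h1 : -((a : P) • c' - c') + ((b : P) • c' - c') ∈ Z :=
      AddSubgroup.mem_addSubgroupOf.mp (QuotientAddGroup.eq.mp hab)
    set e : P := (a : P)⁻¹ * b with he
    have h2 : e • c' - c' ∈ Z := by
      have := h.fix_Z (g := (a : P)⁻¹) h1
      rw [show -((a : P) • c' - c') + ((b : P) • c' - c') = (b : P) • c' - (a : P) • c' by abel] at this h1
      rw [smul_sub, inv_smul_smul, ← mul_smul] at this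
      exact this ▸ h1
    have h3 := h.coset_le hc'C hc'Z h2
    exact ⟨h.AT (A.mul_mem (A.inv_mem a.2) b.2), h.inf_le_core hx (A.mul_mem (A.inv_mem a.2) b.2) h3⟩
  have hidx : (A₀.subgroupOf A).index ≤ (Z.addSubgroupOf (C ⊓ W1)).index := by
    refine Nat.card_le_card_of_injective (fun q => f q.out) fun q q' hq => ?_
    have := hf _ _ hq
    rwa [QuotientGroup.out_eq', QuotientGroup.out_eq'] at this
  have e1 := (A₀.subgroupOf A).card_mul_index
  have e2 := (Z.addSubgroupOf (C ⊓ W1)).card_mul_index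
  rw [Nat.card_congr (Subgroup.subgroupOfEquivOfLe (inf_le_left : A₀ ≤ A)).toEquiv] at e1
  rw [Nat.card_congr (AddSubgroup.addSubgroupOfEquivOfLe hZC).toEquiv] at e2
  -- the conjugate part of `C ∩ W1`
  let E : AddSubgroup W := (C ⊓ W1).map (DistribMulAction.toAddMonoidEnd P W x)
  have hEcard : Nat.card E = Nat.card ↥(C ⊓ W1) :=
    Nat.card_congr ((C ⊓ W1).equivMapOfInjective _ (MulAction.injective x)).toEquiv.symm
  have hE1 : E ≤ fixW W (cjg x A) ⊓ W1 := by
    rintro _ ⟨w, hw, rfl⟩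
    exact ⟨smul_mem_fixW hw.1, hW1inv x w hw.2⟩
  have hCE : C ⊔ E ≤ fixW W A₀ :=
    sup_le (fixW_anti inf_le_left) ((hE1.trans inf_le_right).trans (fixW_anti inf_le_right))
  have hinf : C ⊓ E ≤ Z := fun w hw => (h.inf_fix hx).le ⟨hw.1, (hE1 hw.2).1⟩
  have hcard := card_sup_mul_card_inf C E
  have hbig : Nat.card A * Nat.card C * Nat.card Z ≤ Nat.card A₀ * Nat.card (fixW W A₀) * Nat.card Z := by
    calc Nat.card A * Nat.card C * Nat.card Z
        = Nat.card A₀ * ((A₀.subgroupOf A).index * Nat.card Z) * Nat.card C := by rw [← e1]; ring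
      _ ≤ Nat.card A₀ * ((Z.addSubgroupOf (C ⊓ W1)).index * Nat.card Z) * Nat.card C :=
          Nat.mul_le_mul_right _ (Nat.mul_le_mul_left _ (Nat.mul_le_mul_right _ hidx))
      _ = Nat.card A₀ * (Nat.card C * Nat.card E) := by rw [hEcard, ← e2]; ring
      _ ≤ Nat.card A₀ * (Nat.card (fixW W A₀) * Nat.card Z) := by
          rw [← hcard]
          exact Nat.mul_le_mul_left _ (Nat.mul_le_mul (AddSubgroup.card_le_of_le hCE)
            (AddSubgroup.card_le_of_le hinf))
      _ = _ := by ring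
  have hbig' := Nat.le_of_mul_le_mul_right hbig Nat.card_pos
  by_contra hy1
  by_cases hA0A : A₀ = A
  · have hAQ : A ≤ Q := hA0A ▸ inf_le_right
    obtain ⟨g, hg⟩ := h.exists_out
    have htop : Q = ⊤ := by
      refine eq_top_iff.mpr ((h.gen g hg).ge.trans (sup_le hAQ ?_))
      rintro _ ⟨a, ha, rfl⟩
      simpa using hQn.conj_mem a (hAQ ha) g
    exact h.notTop (eq_top_iff.mpr (htop.ge.trans (inf_le_left.trans h.sylM)))
  · refine (h.strict A₀ inf_le_left (fun h0 => hy1 ?_) hA0A).not_ge hbig'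
    simpa [h0] using hyA₀

/-- The counting: `W = C + C^x`, `|C| = |A| |Z|`. -/
theorem counting {x : P} (hx : x ∉ M) :
    fixW W A ⊔ fixW W (cjg x A) = ⊤ ∧
      Nat.card (fixW W A) = Nat.card A * Nat.card (fixW W (⊤ : Subgroup P)) := by
  classical
  set Z := fixW W (⊤ : Subgroup P) with hZ
  set C := fixW W A with hC
  obtain ⟨c, hcT, hcZ⟩ := h.moved
  set c' := x • c with hc'
  have hc'C : c' ∈ fixW W (cjg x A) := smul_mem_fixW (fixW_anti h.AT hcT)
  have hc'Z : c' ∉ Z := fun hz => hcZ (by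
    have := h.fix_Z (g := x⁻¹) hz
    rw [hc', inv_smul_smul] at this
    exact this ▸ hz)
  have hZC : Z ≤ C := fixW_anti le_top
  let f : A → ↥C ⧸ Z.addSubgroupOf C := fun a => QuotientAddGroup.mk ⟨_, h.quad a.2 c'⟩
  have hf : Function.Injective f := by
    intro a b hab
    have h1 : -((a : P) • c' - c') + ((b : P) • c' - c') ∈ Z :=
      AddSubgroup.mem_addSubgroupOf.mp (QuotientAddGroup.eq.mp hab)
    have h2 : ((a : P)⁻¹ * b) • c' - c' ∈ Z := by
      have := h.fix_Z (g := (a : P)⁻¹) h1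
      rw [show -((a : P) • c' - c') + ((b : P) • c' - c') = (b : P) • c' - (a : P) • c' by abel] at this h1
      rw [smul_sub, inv_smul_smul, ← mul_smul] at this
      exact this ▸ h1
    have := h.inf_cjg_trivial hx (A.mul_mem (A.inv_mem a.2) b.2) (h.coset_le hc'C hc'Z h2)
    exact Subtype.ext (inv_mul_eq_one.mp this)
  have hle : Nat.card A ≤ (Z.addSubgroupOf C).index := Nat.card_le_card_of_injective f hf
  have e2 := (Z.addSubgroupOf C).card_mul_index
  rw [Nat.card_congr (AddSubgroup.addSubgroupOfEquivOfLe hZC).toEquiv] at e2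
  have hCx : Nat.card (fixW W (cjg x A)) = Nat.card C := by
    refine le_antisymm ?_ ?_
    · refine Nat.card_le_card_of_injective (fun w => (⟨x⁻¹ • (w : W), ?_⟩ : C)) fun u v huv => ?_
      · have := smul_mem_fixW (x := x⁻¹) w.2
        rwa [cjg_cjg, inv_mul_cancel, show cjg (1 : P) A = A by ext; simp [mem_cjg]] at this
      · exact Subtype.ext (MulAction.injective x⁻¹ (congrArg Subtype.val huv))
    · exact Nat.card_le_card_of_injective (fun w => (⟨x • (w : W), smul_mem_fixW w.2⟩ :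
        fixW W (cjg x A))) fun u v huv => Subtype.ext (MulAction.injective x (congrArg Subtype.val huv))
  have hcard := card_sup_mul_card_inf C (fixW W (cjg x A))
  rw [h.inf_fix hx, hCx] at hcard
  have hC1 : Nat.card A * Nat.card Z ≤ Nat.card C := by
    calc Nat.card A * Nat.card Z ≤ (Z.addSubgroupOf C).index * Nat.card Z := Nat.mul_le_mul_right _ hle
      _ = Nat.card C := by rw [← e2]; ring
  have hU : Nat.card (C ⊔ fixW W (cjg x A) : AddSubgroup W) ≤ Nat.card A * Nat.card C :=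
    (Finite.card_subtype_le _).trans h.off
  have hC2 : Nat.card C ≤ Nat.card A * Nat.card Z := by
    refine Nat.le_of_mul_le_mul_right (c := Nat.card C) ?_ Nat.card_pos
    rw [← hcard]
    calc _ ≤ Nat.card A * Nat.card C * Nat.card Z := Nat.mul_le_mul_right _ hU
      _ = _ := by ring
  have hCeq := le_antisymm hC2 hC1
  refine ⟨AddSubgroup.eq_top_of_card_eq _ (le_antisymm (Finite.card_subtype_le _) ?_), hCeq⟩
  refine Nat.le_of_mul_le_mul_right (c := Nat.card Z) ?_ Nat.card_pos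
  rw [hcard]
  calc Nat.card W * Nat.card Z ≤ Nat.card A * Nat.card C * Nat.card Z := Nat.mul_le_mul_right _ h.off
    _ = Nat.card C * Nat.card C := by rw [hCeq]; ring

/-- `a ↦ [d, a]` is a bijection `A → C/Z` for `d ∈ C^x ∖ Z`. -/
theorem reach {x : P} (hx : x ∉ M) {d : W} (hd : d ∈ fixW W (cjg x A))
    (hdZ : d ∉ fixW W (⊤ : Subgroup P)) :
    (∀ a ∈ A, a • d - d ∈ fixW W (⊤ : Subgroup P) → a = 1) ∧
      ∀ u ∈ fixW W A, ∃ a ∈ A, a • d - d - u ∈ fixW W (⊤ : Subgroup P) := by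
  classical
  set Z := fixW W (⊤ : Subgroup P) with hZ
  set C := fixW W A with hC
  have hinj : ∀ a ∈ A, a • d - d ∈ Z → a = 1 := fun a ha haZ =>
    h.inf_cjg_trivial hx ha (h.coset_le hd hdZ haZ)
  refine ⟨hinj, fun u hu => ?_⟩
  let f : A → ↥C ⧸ Z.addSubgroupOf C := fun a => QuotientAddGroup.mk ⟨_, h.quad a.2 d⟩
  have hf : Function.Injective f := by
    intro a b hab
    have h1 : -((a : P) • d - d) + ((b : P) • d - d) ∈ Z :=
      AddSubgroup.mem_addSubgroupOf.mp (QuotientAddGroup.eq.mp hab)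
    have h2 : ((a : P)⁻¹ * b) • d - d ∈ Z := by
      have := h.fix_Z (g := (a : P)⁻¹) h1
      rw [show -((a : P) • d - d) + ((b : P) • d - d) = (b : P) • d - (a : P) • d by abel] at this h1
      rw [smul_sub, inv_smul_smul, ← mul_smul] at this
      exact this ▸ h1
    exact Subtype.ext (inv_mul_eq_one.mp (hinj _ (A.mul_mem (A.inv_mem a.2) b.2) h2))
  have hcard : Nat.card (↥C ⧸ Z.addSubgroupOf C) = Nat.card A := by
    have e2 := (Z.addSubgroupOf C).card_mul_index
    rw [Nat.card_congr (AddSubgroup.addSubgroupOfEquivOfLe (fixW_anti le_top : Z ≤ C)).toEquiv,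
      (h.counting hx).2, mul_comm (Nat.card A)] at e2
    exact Nat.eq_of_mul_eq_mul_left Nat.card_pos e2
  obtain ⟨a, ha⟩ := (hf.bijective_of_nat_card_le hcard.le).2 (QuotientAddGroup.mk ⟨u, hu⟩)
  refine ⟨a, a.2, ?_⟩
  have h1 : -((a : P) • d - d) + u ∈ Z :=
    AddSubgroup.mem_addSubgroupOf.mp (QuotientAddGroup.eq.mp ha)
  have := Z.neg_mem h1
  rwa [neg_add, neg_neg, ← sub_eq_add_neg] at this

theorem fix_le_span {x : P} (hx : x ∉ M) {u : W} (hu : u ∈ fixW W A) :
    ∃ a ∈ A, ∃ d : W, a • d - d - u ∈ fixW W (⊤ : Subgroup P) := by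
  obtain ⟨c, hcT, hcZ⟩ := h.moved
  have hd : x • c ∈ fixW W (cjg x A) := smul_mem_fixW (fixW_anti h.AT hcT)
  obtain ⟨a, ha, h1⟩ := (h.reach hx hd (fun hz => hcZ (by
    have := h.fix_Z (g := x⁻¹) hz
    rw [inv_smul_smul] at this
    exact this ▸ hz))).2 u hu
  exact ⟨a, ha, _, h1⟩

/-- The kernel on `W / Z` is trivial. -/
theorem faithful_quot {g : P} (hg : ∀ w : W, g • w - w ∈ fixW W (⊤ : Subgroup P)) : g = 1 := by
  classical
  set Z := fixW W (⊤ : Subgroup P) with hZ
  haveI hQn := h.core_normal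
  set Q := (T : Subgroup P) ⊓ M.normalCore with hQ
  obtain ⟨x, hx⟩ := h.exists_out
  obtain ⟨c, hcT, hcZ⟩ := h.moved
  -- `Q = 1`
  have hQ1 : Q = ⊥ := by
    refine (Subgroup.eq_bot_iff_forall Q).mpr fun q hq => h.faithful q fun w => ?_
    set W1 := fixW W Q with hW1
    have hW1inv : ∀ g : P, ∀ w ∈ W1, g • w ∈ W1 := by
      intro g w hw q hq
      calc q • g • w = g • (g⁻¹ * q * g) • w := by simp [← mul_smul, mul_assoc]
        _ = g • w := by rw [hw _ (by simpa using hQn.conj_mem q hq g⁻¹)]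
    have hc'W1 : x • c ∈ W1 := hW1inv x _ (fixW_anti inf_le_left hcT)
    have hCW : fixW W A ≤ W1 := by
      intro u hu
      obtain ⟨a, ha, h1⟩ := (h.reach hx (smul_mem_fixW (fixW_anti h.AT hcT)) (fun hz => hcZ (by
        have := h.fix_Z (g := x⁻¹) hz
        rw [inv_smul_smul] at this
        exact this ▸ hz))).2 u hu
      have h2 : u = (a • x • c - x • c) - (a • x • c - x • c - u) := by abel
      rw [h2]
      exact W1.sub_mem (W1.sub_mem (hW1inv a _ hc'W1) hc'W1) (fixW_anti le_top h1)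
    have hCW' : fixW W (cjg x A) ≤ W1 := by
      intro v hv
      have h1 := smul_mem_fixW (x := x⁻¹) hv
      rw [cjg_cjg, inv_mul_cancel, show cjg (1 : P) A = A by ext; simp [mem_cjg]] at h1
      have := hW1inv x _ (hCW h1)
      rwa [smul_inv_smul] at this
    exact ((h.counting hx).1.ge.trans (sup_le hCW hCW')) (AddSubgroup.mem_top w) q hq
  let K : Subgroup P :=
    { carrier := {g | ∀ w : W, g • w - w ∈ Z}
      one_mem' := fun w => by rw [one_smul, sub_self]; exact Z.zero_mem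
      mul_mem' := fun {a b} ha hb w => by
        have : (a * b) • w - w = (a • (b • w) - b • w) + (b • w - w) := by rw [mul_smul]; abel
        rw [this]
        exact Z.add_mem (ha _) (hb w)
      inv_mem' := fun {a} ha w => by
        have : a⁻¹ • w - w = -(a • (a⁻¹ • w) - a⁻¹ • w) := by rw [smul_inv_smul]; abel
        rw [this]
        exact Z.neg_mem (ha _) }
  haveI hKn : K.Normal := ⟨fun k hk g w => by
    have h1 := hk (g⁻¹ • w)
    have := h.fix_Z (g := g) h1
    rw [smul_sub, smul_inv_smul, ← mul_smul, ← mul_smul] at this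
    rw [this]
    exact h1⟩
  have hKp : IsPGroup p K := by
    intro k
    obtain ⟨N, hN⟩ := h.expW
    refine ⟨N, Subtype.ext (h.faithful _ fun w => ?_)⟩
    have hw := k.2 w
    have : ∀ n : ℕ, (k : P) ^ n • w = w + n • ((k : P) • w - w) := by
      intro n
      induction n with
      | zero => simp
      | succ n ih =>
        rw [pow_succ', mul_smul, ih, smul_add, h.fix_Z (Z.nsmul_mem hw n), succ_nsmul]
        abel
    rw [Subgroup.coe_pow, this, hN, add_zero]
  have hKM : K ≤ M := fun k hk => by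
    have := h.coset_le (x := 1) (d := c)
      (by rw [show cjg (1 : P) A = A by ext; simp [mem_cjg]]; exact fixW_anti h.AT hcT) hcZ (hk c)
    simpa using this
  have : K ≤ Q := le_inf (h.normal_le_T hKp) (Subgroup.normal_le_normalCore.mpr hKM)
  rw [hQ1] at this
  exact Subgroup.mem_bot.mp (this hg)

/-- `M` normalises `C`. -/
theorem M_fix {m : P} (hm : m ∈ M) {u : W} (hu : u ∈ fixW W A) : m • u ∈ fixW W A := by
  by_contra hv
  obtain ⟨x, hx⟩ := h.exists_out
  set v := m • u with hv'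
  obtain ⟨c1, hc1, d, hd, hcd⟩ := AddSubgroup.mem_sup.mp ((h.counting hx).1.ge (AddSubgroup.mem_top v))
  have hdZ : d ∉ fixW W (⊤ : Subgroup P) := fun hz => hv (hcd ▸ add_mem hc1 (fixW_anti le_top hz))
  obtain ⟨a, ha, h1⟩ := (h.reach hx hd hdZ).2 c1 hc1
  set z := a • d - d - c1 with hz
  have hvz : v = a • (d - z) := by
    rw [smul_sub, h.fix_Z h1, ← hcd, hz]; abel
  have h2 : v ∈ fixW W (cjg (a * x) A) := by
    rw [hvz, ← cjg_cjg]
    exact smul_mem_fixW (sub_mem hd (fixW_anti le_top h1))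
  have h3 : v ∈ fixW W (cjg m A) := smul_mem_fixW hu
  have hgen : cjg m A ⊔ cjg (a * x) A = ⊤ := h.gen_pair fun hmem => hx (by
    have := M.mul_mem (M.inv_mem (h.A_le_M ha)) (M.mul_mem hm hmem)
    simpa [mul_assoc] using this)
  refine hv ?_
  intro g _
  suffices MulAction.stabilizer P v = ⊤ from this.ge (Subgroup.mem_top g)
  exact eq_top_iff.mpr (hgen.ge.trans (sup_le (fun g hg => h2 |> fun _ => h3 g hg) fun g hg => h2 g hg))

/-- The lines of the spread. -/
theorem spread {x x' : P} (hx : x ∉ M) (hx' : x' ∉ M) :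
    ∃ a ∈ A, ∀ u ∈ fixW W A, ∃ u' ∈ fixW W A, x' • u = a • x • u' := by
  obtain ⟨c, hcT, hcZ⟩ := h.moved
  set v := x' • c with hv
  have hvC : v ∈ fixW W (cjg x' A) := smul_mem_fixW (fixW_anti h.AT hcT)
  have hvZ : v ∉ fixW W (⊤ : Subgroup P) := fun hz => hcZ (by
    have := h.fix_Z (g := x'⁻¹) hz
    rw [hv, inv_smul_smul] at this
    exact this ▸ hz)
  have hvnC : v ∉ fixW W A := fun hh => hvZ ((h.inf_fix hx').le ⟨hh, hvC⟩)
  obtain ⟨c1, hc1, d, hd, hcd⟩ := AddSubgroup.mem_sup.mp ((h.counting hx).1.ge (AddSubgroup.mem_top v))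
  have hdZ : d ∉ fixW W (⊤ : Subgroup P) := fun hz => hvnC (hcd ▸ add_mem hc1 (fixW_anti le_top hz))
  obtain ⟨a, ha, h1⟩ := (h.reach hx hd hdZ).2 c1 hc1
  set z := a • d - d - c1 with hz
  have hvz : v = a • (d - z) := by rw [smul_sub, h.fix_Z h1, ← hcd, hz]; abel
  have h2 : v ∈ fixW W (cjg (a * x) A) := by
    rw [hvz, ← cjg_cjg]
    exact smul_mem_fixW (sub_mem hd (fixW_anti le_top h1))
  have hm : (a * x)⁻¹ * x' ∈ M := by
    by_contra hne
    have hgen := h.gen_pair (x := a * x) (y := x') hne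
    refine hvZ fun g _ => ?_
    suffices MulAction.stabilizer P v = ⊤ from this.ge (Subgroup.mem_top g)
    exact eq_top_iff.mpr (hgen.ge.trans (sup_le (fun g hg => h2 g hg) fun g hg => hvC g hg))
  refine ⟨a, ha, fun u hu => ⟨((a * x)⁻¹ * x') • u, h.M_fix hm hu, ?_⟩⟩
  rw [← mul_smul a, ← mul_smul, mul_inv_cancel_left]

end Hyp

end Cfsg.Agent.OffenderSL2Gen31
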