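import Mathlib
import Cfsg.Prelude.Def_PLocal
import Cfsg.Prelude.Def_Local
import Cfsg.Agent.Lib.Offenders
import Cfsg.Agent.Lib.OffendersReplace
import Cfsg.Agent.Lib.OffendersFF
import Cfsg.Agent.Lib.OffendersPlane
import Cfsg.Agent.Lib.OffendersBlocks
import Cfsg.Agent.Lib.OffendersStructure
import Cfsg.Agent.Lib.OffendersCoprime
import Cfsg.Agent.Lib.OffendersGlobal

/-!
An abelian 2-group maximising `|A| |C_V(A)|` in a faithful group with self-centralising core acts as
an elementary abelian group.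
-/

set_option autoImplicit false

open scoped MatrixGroups commutatorElement

namespace Cfsg.Agent.OffendersAbelian

open Cfsg OffendersReplace OffendersFF OffendersPlane OffendersBlocks OffendersStructure

variable {G : Type*} [Group G] [Finite G] {V H A : Subgroup G}

/-- The square of an element normalising a four-group `U` and fixing `T ≠ 1` in it fixes `U`. -/
theorem sq_fix {U : Subgroup G} (hU : Nat.card U = 4) {t u a : G} (ht : t ∈ U) (ht1 : t ≠ 1)
    (hfix : a * t * a⁻¹ = t) (hn : a ∈ Subgroup.normalizer (U : Set G)) (hu : u ∈ U) :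
    a * a * u * (a * a)⁻¹ = u := by
  haveI : Fintype U := Fintype.ofFinite U
  let φ : U ≃ U := (U.normalizerMonoidHom ⟨a, hn⟩).toEquiv
  have key : ∀ (f : U ≃ U) (e s : U), e ≠ s → f e = e → f s = s → ∀ x, f (f x) = x := by
    intro f e s hes he hs x
    classical
    by_contra hne
    have h1 : x ≠ e := fun h => hne (by rw [h, he, he])
    have h2 : x ≠ s := fun h => hne (by rw [h, hs, hs])
    have h3 : f x ≠ x := fun h => hne (by rw [h, h])
    have h4 : f x ≠ e := fun h => h1 (f.injective (h.trans he.symm))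
    have h5 : f x ≠ s := fun h => h2 (f.injective (h.trans hs.symm))
    have h6 : f (f x) ≠ f x := fun h => h3 (f.injective h)
    have h7 : f (f x) ≠ e := fun h => h4 (f.injective (h.trans he.symm))
    have h8 : f (f x) ≠ s := fun h => h5 (f.injective (h.trans hs.symm))
    have hsub : ({e, s, x, f x, f (f x)} : Finset U).card ≤ 4 :=
      (Finset.card_le_univ _).trans (by rw [← Nat.card_eq_fintype_card, hU])
    simp [Ne.symm h1, Ne.symm h2, hes, Ne.symm h3, Ne.symm h4, Ne.symm h5, Ne.symm h6,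
      Ne.symm h7, Ne.symm h8, Ne.symm hne] at hsub
  have h := key φ 1 ⟨t, ht⟩ (fun h => ht1 (congrArg Subtype.val h).symm)
    (map_one (U.normalizerMonoidHom ⟨a, hn⟩))
    (Subtype.ext hfix) ⟨u, hu⟩
  have h' : a * (a * u * a⁻¹) * a⁻¹ = u := congrArg Subtype.val h
  calc a * a * u * (a * a)⁻¹ = a * (a * u * a⁻¹) * a⁻¹ := by group
    _ = u := h'

/-- **The exponent lemma.** -/
theorem sq_eq_one (h : Hyp 2 V H) (hAH : A ≤ H)
    (hAc : ∀ a ∈ A, ∀ b ∈ A, a * b = b * a) (hAp : IsPGroup 2 A) (hA : Maximizes V A) :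
    ∀ a ∈ A, a ^ 2 = 1 := by
  classical
  haveI : Fact (Nat.Prime 2) := ⟨Nat.prime_two⟩
  have hV := ((Offenders.ea_iff V).1 h.ea)
  have hAV : A ≤ Subgroup.normalizer (V : Set G) := hAH.trans h.norm
  have hab : ⁅A, A⁆ ≤ Subgroup.centralizer (V : Set G) := by
    rw [Subgroup.commutator_le]
    intro a ha b hb
    rw [commutatorElement_eq_one_iff_mul_comm.2 (hAc a ha b hb)]
    exact one_mem _
  obtain ⟨hatt, hfix⟩ := attains_commutator hV.1 hAV hab hA (le_refl V)
  set A₀ := A ⊓ Subgroup.centralizer ((⁅V, A⁆ : Subgroup G) : Set G) with hA₀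
  have hA₀A : A₀ ≤ A := inf_le_left
  have hTV : ⁅V, A⁆ ≤ V := Subgroup.le_normalizer_iff_commutator_le_left.1 hAV
  have hA₀b : IsBestOffenderOn 2 V A₀ := by
    refine ⟨fun B hB => ?_, (Subgroup.commutator_mono hA₀A hA₀A).trans hab, fun a ha v hv => ?_⟩
    · exact (hA B (hB.trans hA₀A)).trans hatt.2.ge
    · have hd : ⁅v, a⁆ ∈ ⁅V, A⁆ := Subgroup.commutator_mem_commutator hv (hA₀A ha)
      have hda : ⁅v, a⁆ * a = a * ⁅v, a⁆ := ha.2 _ hd
      have hd2 := hV.2 _ (hTV hd)
      have e : ⁅v, a * a⁆ = ⁅v, a⁆ * (a * ⁅v, a⁆ * a⁻¹) := by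
        simp only [commutatorElement_def]; group
      rw [← hda, mul_inv_cancel_right, ← pow_two ⁅v, a⁆, hd2, ← pow_two] at e
      exact commutatorElement_eq_one_iff_mul_comm.1 e
  obtain ⟨k, B, hB, -, hsup⟩ : ∃ (k : ℕ) (B : Fin k → Subgroup G),
      (∀ i, B i ≤ A₀ ∧ IsMinimal 2 V (B i)) ∧ True ∧ ⨆ i, B i = A₀ := by
    rcases eq_or_ne A₀ ⊥ with e | e
    · exact ⟨0, Fin.elim0, fun i => i.elim0, trivial, by rw [e]; simp⟩
    · obtain ⟨k, B, h1, -, h3⟩ := h.exists_decomp (hA₀A.trans hAH) hA₀b e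
      exact ⟨k, B, h1, trivial, h3⟩
  have hBH : ∀ i, B i ≤ H := fun i => (hB i).1.trans (hA₀A.trans hAH)
  have hm : ∀ i, ∃ b, Min 2 V H (B i) b := fun i => exists_min h (hBH i) (hB i).2
  set E : Fin k → Blk 2 V H := fun i =>
    ⟨blockE 2 H (B i), B i, hBH i, (hB i).2.1, (hB i).2.2.1, (hB i).2.2.2, rfl⟩ with hE
  set s := Finset.univ.image E with hs
  obtain ⟨hsplit1, hsplit2⟩ := split h s
  set U := s.sup fun F : Blk 2 V H => ⁅V, (F : Subgroup G)⁆ with hU
  set W := V ⊓ s.inf fun F : Blk 2 V H => fixedIn V (F : Subgroup G) with hW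
  have hAE : ∀ i, A ≤ Subgroup.normalizer (blockE 2 H (B i) : Set G) := by
    intro i a ha
    rw [← OffendersCoprime.cj_eq_iff,
      OffendersCoprime.cj_block (Subgroup.le_normalizer (hAH ha)),
      OffendersPlane.commutator_cj_eq fun b hb => hAc a ha b (hA₀A ((hB i).1 hb))]
  have hsE : ∀ F ∈ s, ∃ i, (F : Subgroup G) = blockE 2 H (B i) := fun F hF => by
    obtain ⟨i, -, rfl⟩ := Finset.mem_image.1 hF
    exact ⟨i, rfl⟩
  have hAU : A ≤ Subgroup.normalizer (U : Set G) := by
    intro a ha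
    rw [← OffendersCoprime.cj_eq_iff]
    refine Subgroup.eq_of_le_of_card_ge ?_
      (Subgroup.card_map_of_injective (MulAut.conj a).injective).ge
    rw [cj, Subgroup.map_le_iff_le_comap]
    refine Finset.sup_le fun F hF => ?_
    obtain ⟨i, hi⟩ := hsE F hF
    intro x hx
    exact Finset.le_sup (f := fun F : Blk 2 V H => ⁅V, (F : Subgroup G)⁆) hF
      ((Subgroup.mem_normalizer_iff.1
        (le_normalizer_commutator (hAH.trans h.norm) (hi ▸ hAE i) ha) x).1 hx)
  have hAW : A ≤ Subgroup.normalizer (W : Set G) := by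
    intro a ha
    rw [← OffendersCoprime.cj_eq_iff]
    refine Subgroup.eq_of_le_of_card_ge ?_
      (Subgroup.card_map_of_injective (MulAut.conj a).injective).ge
    refine le_inf ?_ (Finset.le_inf fun F hF => ?_)
    · intro x hx
      obtain ⟨y, hy, rfl⟩ := mem_cj.1 hx
      exact (Subgroup.mem_normalizer_iff.1 (hAV ha) y).1 hy.1
    · obtain ⟨i, hi⟩ := hsE F hF
      intro x hx
      obtain ⟨y, hy, rfl⟩ := mem_cj.1 hx
      exact (Subgroup.mem_normalizer_iff.1
        (le_normalizer_fixedIn (hAH.trans h.norm) (hi ▸ hAE i) ha) y).1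
        (Finset.inf_le (f := fun F : Blk 2 V H => fixedIn V (F : Subgroup G)) hF hy.2)
  have hUV : U ≤ V := le_sup_left.trans hsplit2.le
  have hWV : W ≤ V := inf_le_left
  have hWA₀ : W ≤ fixedIn V A₀ := by
    refine le_inf hWV ?_
    rw [Subgroup.le_centralizer_iff, ← hsup]
    refine iSup_le fun i => ?_
    rw [Subgroup.le_centralizer_iff]
    refine inf_le_right.trans ((Finset.inf_le (Finset.mem_image_of_mem E (Finset.mem_univ i))).trans ?_)
    exact (fixedIn_antitone V (le_sup_right : B i ≤ blockE 2 H (B i))).trans inf_le_right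
  have hcl : ∀ {x y : G}, x ∈ U → y ∈ W → x * y = 1 → y = 1 := by
    intro x y hx hy e
    have hyU : y ∈ U := by rw [eq_inv_of_mul_eq_one_right e]; exact inv_mem hx
    have hy' : y ∈ U ⊓ W := ⟨hyU, hy⟩
    rwa [hsplit1, Subgroup.mem_bot] at hy'
  -- `A` centralises `W`
  set M := ⁅W, A⁆ with hM
  have hMW : M ≤ W := Subgroup.le_normalizer_iff_commutator_le_left.1 hAW
  have hdec : ∀ v ∈ V, ∃ u ∈ U, ∃ w ∈ W, u * w = v := by
    intro v hv
    rw [← hsplit2, ← SetLike.mem_coe, Subgroup.coe_mul_of_left_le_normalizer_right U W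
      (le_normalizer_of_commute fun s hs t ht => h.comm_V (hUV hs) (hWV ht))] at hv
    obtain ⟨u, hu, w, hw, e⟩ := hv
    exact ⟨u, hu, w, hw, e⟩
  have hUM : ⁅V, A⁆ ≤ U ⊔ M := by
    rw [Subgroup.commutator_le]
    intro v hv a ha
    obtain ⟨u, hu, w, hw, rfl⟩ := hdec v hv
    have e : ⁅u * w, a⁆ = u * ⁅w, a⁆ * u⁻¹ * ⁅u, a⁆ := by simp only [commutatorElement_def]; group
    have hu' : u ∈ U ⊔ M := Subgroup.mem_sup_left hu
    rw [e]
    exact mul_mem (mul_mem (mul_mem hu'
      (Subgroup.mem_sup_right (Subgroup.commutator_mem_commutator hw ha))) (inv_mem hu'))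
      (Subgroup.mem_sup_left
        (Subgroup.le_normalizer_iff_commutator_le_left.1 hAU
          (Subgroup.commutator_mem_commutator hu ha)))
  have hMM : M ≤ ⁅M, A⁆ := by
    rw [hM, Subgroup.commutator_le]
    intro w hw a ha
    have hw0 : w ∈ U ⊔ M ⊔ fixedIn V A := by
      have h1 := hWA₀ hw
      rw [hfix] at h1
      exact (sup_le_sup_right hUM _) h1
    rw [← SetLike.mem_coe, Subgroup.coe_mul_of_left_le_normalizer_right (U ⊔ M) (fixedIn V A)
      (le_normalizer_of_commute fun s hs t ht =>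
        h.comm_V ((sup_le hUV (hMW.trans hWV)) hs) ht.1)] at hw0
    obtain ⟨x, hx, c, hc, rfl⟩ := hw0
    replace hx : x ∈ U ⊔ M := hx
    rw [← SetLike.mem_coe, Subgroup.coe_mul_of_left_le_normalizer_right U M
      (le_normalizer_of_commute fun s hs t ht => h.comm_V (hUV hs) (hWV (hMW ht)))] at hx
    obtain ⟨u, hu, y, hy, rfl⟩ := hx
    obtain ⟨uc, huc, wc, hwc, rfl⟩ := hdec c hc.1
    have hw' : u * y * (uc * wc) = (u * uc) * (y * wc) := by
      have := h.comm_V (hWV (hMW hy)) (hUV huc)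
      calc u * y * (uc * wc) = u * (y * uc) * wc := by group
        _ = u * (uc * y) * wc := by rw [this]
        _ = _ := by group
    -- the component in `U` vanishes
    have hu1 : u * uc = 1 := by
      have h1 : u * uc ∈ U ⊓ W := ⟨mul_mem hu huc, by
        have := mul_mem hw (inv_mem (mul_mem (hMW hy) hwc))
        beta_reduce at this
        rwa [hw', mul_inv_cancel_right] at this⟩
      rwa [hsplit1, Subgroup.mem_bot] at h1
    have hwA : wc * a = a * wc := by
      have h2 : a * (uc * wc) * a⁻¹ = uc * wc := by rw [hc.2 a ha, mul_inv_cancel_right]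
      have h3 : (uc⁻¹ * (a * uc * a⁻¹)) * ((a * wc * a⁻¹) * wc⁻¹) = 1 := by
        calc (uc⁻¹ * (a * uc * a⁻¹)) * ((a * wc * a⁻¹) * wc⁻¹)
            = uc⁻¹ * (a * (uc * wc) * a⁻¹) * wc⁻¹ := by group
          _ = 1 := by rw [h2]; group
      have h4 := hcl (mul_mem (inv_mem huc) ((Subgroup.mem_normalizer_iff.1 (hAU ha) _).1 huc))
        (mul_mem ((Subgroup.mem_normalizer_iff.1 (hAW ha) _).1 hwc) (inv_mem hwc)) h3
      exact (mul_inv_eq_iff_eq_mul.1 (mul_inv_eq_one.1 h4)).symm
    show ⁅u * y * (uc * wc), a⁆ ∈ ⁅M, A⁆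
    rw [hw', hu1, one_mul]
    have e : ⁅y * wc, a⁆ = y * ⁅wc, a⁆ * y⁻¹ * ⁅y, a⁆ := by simp only [commutatorElement_def]; group
    rw [e, commutatorElement_eq_one_iff_mul_comm.2 hwA, mul_one, mul_inv_cancel, one_mul]
    exact Subgroup.commutator_mem_commutator hy ha
  have hMbot : M = ⊥ := eq_bot_of_le_commutator (p := 2) (Offenders.ea_isPGroup h.ea) hAV
    (fun b hb => by
      obtain ⟨j, hj⟩ := hAp ⟨b, hb⟩
      exact ⟨j, by rw [show b ^ 2 ^ j = 1 from congrArg Subtype.val hj]; exact one_mem _⟩)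
    (hMW.trans hWV) hMM
  intro a ha
  refine h.eq_one (pow_mem (hAH ha) 2) ?_
  suffices V ≤ Subgroup.centralizer {a ^ 2} from fun v hv =>
    Subgroup.mem_centralizer_singleton_iff.1 (this hv)
  rw [← hsplit2]
  refine sup_le (Finset.sup_le fun F hF => ?_) fun w hw => ?_
  · obtain ⟨i, hi⟩ := hsE F hF
    obtain ⟨b, m⟩ := hm i
    rw [hi]
    intro u hu
    rw [Subgroup.mem_centralizer_singleton_iff]
    obtain ⟨t, ht, ht1, -, -⟩ := ea_generator m.cardT
    have hat : a * t * a⁻¹ = t := by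
      have hnT : a ∈ Subgroup.normalizer ((⁅V, B i⁆ : Subgroup G) : Set G) :=
        le_normalizer_commutator (hAH.trans h.norm)
          (le_normalizer_of_commute fun x hx y hy => hAc x hx y (hA₀A ((hB i).1 hy))) ha
      have h1 := (Subgroup.mem_normalizer_iff.1 hnT t).1 ht
      by_contra hne
      -- the point has only two elements
      have hc := m.cardT
      haveI : Fintype ↥(⁅V, B i⁆) := Fintype.ofFinite _
      rw [Nat.card_eq_fintype_card] at hc
      have h3 : ({1, ⟨t, ht⟩, ⟨_, h1⟩} : Finset ↥(⁅V, B i⁆)).card ≤ 2 := by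
        rw [← hc]; exact Finset.card_le_univ _
      have e1 : (1 : ↥(⁅V, B i⁆)) ≠ ⟨t, ht⟩ := fun e => ht1 (congrArg Subtype.val e).symm
      have e2 : (1 : ↥(⁅V, B i⁆)) ≠ ⟨_, h1⟩ :=
        fun e => ht1 (conj_eq_one_iff.1 (congrArg Subtype.val e).symm)
      have e3 : (⟨t, ht⟩ : ↥(⁅V, B i⁆)) ≠ ⟨_, h1⟩ :=
        fun e => hne (congrArg Subtype.val e).symm
      simp [e1, e2, e3] at h3
    have hfixu := sq_fix ((block_of_min m).card.trans (by norm_num))
      (Subgroup.commutator_mono le_rfl le_sup_right ht) ht1 hat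
      (le_normalizer_commutator (hAH.trans h.norm) (hAE i) ha) hu
    rw [pow_two]
    exact (mul_inv_eq_iff_eq_mul.1 hfixu).symm
  · rw [Subgroup.mem_centralizer_singleton_iff]
    have h1 : w ∈ Subgroup.centralizer (A : Set G) :=
      Subgroup.commutator_eq_bot_iff_le_centralizer.1 hMbot hw
    exact (h1 _ (pow_mem ha 2)).symm

end Cfsg.Agent.OffendersAbelian
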