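import Mathlib
import Cfsg.Prelude.Def_PLocal
import Cfsg.Prelude.Def_Local
import Cfsg.Agent.Lib.Offenders
import Cfsg.Agent.Lib.OffendersCore
import Cfsg.Agent.Lib.OffendersReplace
import Cfsg.Agent.Lib.OffendersGlobal
import Cfsg.Agent.Lib.OffendersStructure
import Cfsg.Agent.Lib.OffendersAbelian
import Cfsg.Agent.Lib.HallCore

/-! Abelian subgroups of largest order as offenders; products of copies of the degree three group. -/

set_option autoImplicit false

open scoped MatrixGroups commutatorElement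

namespace Cfsg.Agent.OffendersLarge

open Cfsg OffendersReplace OffendersGlobal OffendersFF OffendersStructure OffendersBlocks

variable {G : Type*} [Group G]

/-- An abelian `2`-subgroup of largest order. -/
structure Large (A : Subgroup G) : Prop where
  pgroup : IsPGroup 2 A
  comm : ∀ a ∈ A, ∀ b ∈ A, a * b = b * a
  max : ∀ B : Subgroup G, IsPGroup 2 B → (∀ a ∈ B, ∀ b ∈ B, a * b = b * a) →
    Nat.card B ≤ Nat.card A

theorem comm_map {H : Type*} [Group H] {A : Subgroup G} (f : G →* H)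
    (h : ∀ a ∈ A, ∀ b ∈ A, a * b = b * a) : ∀ a ∈ A.map f, ∀ b ∈ A.map f, a * b = b * a := by
  rintro _ ⟨a, ha, rfl⟩ _ ⟨b, hb, rfl⟩
  rw [← map_mul, ← map_mul, h a ha b hb]

theorem Large.conj {A : Subgroup G} (h : Large A) (g : G) :
    Large (A.map (MulAut.conj g).toMonoidHom) :=
  ⟨h.pgroup.map _, comm_map _ h.comm, fun B hB hBc => (h.max B hB hBc).trans
    (Subgroup.card_map_of_injective (MulAut.conj g).injective).ge⟩

variable [Finite G]

theorem large_of_mem (T : Sylow 2 G) {A₀ : Subgroup ↥(T : Subgroup G)}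
    (hA : A₀ ∈ maxAbelianSubgroups ↥(T : Subgroup G)) :
    Large (A₀.map (T : Subgroup G).subtype) := by
  have hc : ∀ a ∈ A₀, ∀ b ∈ A₀, a * b = b * a := (Offenders.isMulCommutative_iff A₀).1 hA.1
  refine ⟨(T.isPGroup'.to_subgroup A₀).map _, comm_map _ hc, fun B hB hBc => ?_⟩
  obtain ⟨R, hR⟩ := hB.exists_le_sylow
  obtain ⟨g, hg⟩ := MulAction.exists_smul_eq G R T
  set B' := B.map (MulAut.conj g).toMonoidHom with hB'
  have hle : B' ≤ (T : Subgroup G) := by rw [← hg]; exact Subgroup.map_mono hR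
  have h1 := hA.2 (B'.subgroupOf (T : Subgroup G)) ((Offenders.isMulCommutative_iff _).2
    fun a ha b hb => Subtype.ext (comm_map _ hBc _ ha _ hb))
  rwa [Nat.card_congr (Subgroup.subgroupOfEquivOfLe hle).toEquiv, hB',
    Subgroup.card_map_of_injective (MulAut.conj g).injective,
    ← Subgroup.card_map_of_injective (K := A₀) (T : Subgroup G).subtype_injective] at h1

theorem large_le_thompsonA (T : Sylow 2 G) {A : Subgroup G} (hA : Large A)
    (hAT : A ≤ (T : Subgroup G)) : A ≤ thompsonSubgroupAOf (T : Subgroup G) := by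
  have h : A.subgroupOf (T : Subgroup G) ∈ maxAbelianSubgroups ↥(T : Subgroup G) := by
    refine ⟨(Offenders.isMulCommutative_iff _).2
      fun a ha b hb => Subtype.ext (hA.comm _ ha _ hb), fun B hB => ?_⟩
    rw [Nat.card_congr (Subgroup.subgroupOfEquivOfLe hAT).toEquiv,
      ← Subgroup.card_map_of_injective (K := B) (T : Subgroup G).subtype_injective]
    exact hA.max _ ((T.isPGroup'.to_subgroup B).map _)
      (comm_map _ ((Offenders.isMulCommutative_iff B).1 hB))
  intro a ha
  exact ⟨⟨a, hAT ha⟩, (le_sSup h : _ ≤ thompsonSubgroupA ↥(T : Subgroup G)) ha, rfl⟩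

theorem thompsonA_eq (T : Sylow 2 G) : thompsonSubgroupAOf (T : Subgroup G) =
    ⨆ A : {A : Subgroup G // Large A ∧ A ≤ (T : Subgroup G)}, (A : Subgroup G) := by
  refine le_antisymm ?_ (iSup_le fun A => large_le_thompsonA T A.2.1 A.2.2)
  rw [thompsonSubgroupAOf, Subgroup.map_le_iff_le_comap]
  refine sSup_le fun A hA => ?_
  rw [← Subgroup.map_le_iff_le_comap]
  exact le_iSup (fun B : {A : Subgroup G // Large A ∧ A ≤ (T : Subgroup G)} => (B : Subgroup G))
    ⟨A.map (T : Subgroup G).subtype, large_of_mem T hA, Subgroup.map_subtype_le A⟩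

theorem normalClosure_thompsonA (T : Sylow 2 G) :
    Subgroup.normalClosure (thompsonSubgroupAOf (T : Subgroup G) : Set G) =
      ⨆ A : {A : Subgroup G // Large A}, (A : Subgroup G) := by
  have hn : (⨆ A : {A : Subgroup G // Large A}, (A : Subgroup G)).Normal := by
    constructor
    intro x hx g
    have : (⨆ A : {A : Subgroup G // Large A}, (A : Subgroup G)).map (MulAut.conj g).toMonoidHom ≤
        ⨆ A : {A : Subgroup G // Large A}, (A : Subgroup G) := by
      rw [Subgroup.map_iSup]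
      exact iSup_le fun A => le_iSup (fun A : {A : Subgroup G // Large A} => (A : Subgroup G))
        ⟨_, A.2.conj g⟩
    exact this ⟨x, hx, rfl⟩
  refine le_antisymm (Subgroup.normalClosure_le_normal ?_) (iSup_le fun A => ?_)
  · intro x hx
    rw [thompsonA_eq] at hx
    exact (iSup_le fun A : {A : Subgroup G // Large A ∧ A ≤ (T : Subgroup G)} =>
      le_iSup (fun A : {A : Subgroup G // Large A} => (A : Subgroup G)) ⟨A, A.2.1⟩ : _ ≤ _) hx
  · obtain ⟨R, hR⟩ := A.2.pgroup.exists_le_sylow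
    obtain ⟨g, hg⟩ := MulAction.exists_smul_eq G R T
    have hle : (A : Subgroup G).map (MulAut.conj g).toMonoidHom ≤ (T : Subgroup G) := by
      rw [← hg]; exact Subgroup.map_mono hR
    intro x hx
    have h1 : g * x * g⁻¹ ∈ Subgroup.normalClosure (thompsonSubgroupAOf (T : Subgroup G) : Set G) :=
      Subgroup.subset_normalClosure (large_le_thompsonA T (A.2.conj g) hle ⟨x, hx, rfl⟩)
    have := Subgroup.normalClosure_normal.conj_mem _ h1 g⁻¹
    simpa [mul_assoc] using this

/-- An abelian subgroup of largest order maximises on every normal elementary abelian `W`. -/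
theorem Large.maximizes {A W : Subgroup G} (hA : Large A) (hW : IsElementaryAbelian 2 W) :
    Maximizes W A := by
  haveI : Fact (Nat.Prime 2) := ⟨Nat.prime_two⟩
  have hWc := ((Offenders.ea_iff W).1 hW).1
  have hWp := Offenders.ea_isPGroup hW
  have key : ∀ (B C : Subgroup G), IsPGroup 2 B → IsPGroup 2 C → (∀ a ∈ B, ∀ b ∈ B, a * b = b * a) →
      (∀ a ∈ C, ∀ b ∈ C, a * b = b * a) → (∀ b ∈ B, ∀ c ∈ C, b * c = c * b) →
      Nat.card ↥(B ⊔ C) ≤ Nat.card A := by
    intro B C hB hC hBc hCc hBC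
    refine hA.max _ (IsPGroup.to_sup_of_normal_right' hB hC
      (le_normalizer_of_commute hBC)) ?_
    have hle : B ⊔ C ≤ Subgroup.centralizer ((B ⊔ C : Subgroup G) : Set G) := by
      rw [centralizer_sup]
      exact sup_le (le_inf (fun b hb z hz => (hBc b hb z hz).symm)
        fun b hb z hz => (hBC b hb z hz).symm)
        (le_inf (fun c hc z hz => hBC z hz c hc) fun c hc z hz => (hCc c hc z hz).symm)
    exact fun a ha b hb => (hle ha b hb).symm
  have hfix : fixedIn W A ≤ W ⊓ A := by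
    intro x hx
    refine ⟨hx.1, ?_⟩
    have h1 := key A (Subgroup.zpowers x) hA.pgroup (hWp.to_le (Subgroup.zpowers_le.2 hx.1)) hA.comm
      (fun a ha b hb => hWc a (Subgroup.zpowers_le.2 hx.1 ha) b (Subgroup.zpowers_le.2 hx.1 hb))
      (fun a ha b hb => by
        obtain ⟨i, rfl⟩ := hb
        exact ((show Commute a x from hx.2 a ha).zpow_right i).eq)
    have h2 : A = A ⊔ Subgroup.zpowers x := Subgroup.eq_of_le_of_card_ge le_sup_left h1
    rw [h2]
    exact Subgroup.mem_sup_right (Subgroup.mem_zpowers x)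
  intro B hB
  have hBC : ∀ b ∈ B, ∀ c ∈ fixedIn W B, b * c = c * b := fun b hb c hc => hc.2 b hb
  rw [← card_sup_mul_card_inf B (fixedIn W B) (le_normalizer_of_commute hBC)]
  refine Nat.mul_le_mul (key B (fixedIn W B) (hA.pgroup.to_le hB) (hWp.to_le inf_le_left)
    (fun a ha b hb => hA.comm a (hB ha) b (hB hb)) (fun a ha b hb => hWc a ha.1 b hb.1) hBC)
    (Subgroup.card_le_of_le fun x hx => ⟨hx.2.1, fun a ha => (hA.comm a ha x (hB hx.1))⟩)

omit [Finite G] in
/-- Transport of the maximality to the faithful image. -/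
theorem maximizes_img [Finite G] (V : Subgroup G) {A : Subgroup G}
    (hAN : A ≤ Subgroup.normalizer (V : Set G)) (hA : Maximizes V A) :
    Maximizes (vImg V) (img V A) := by
  intro B' hB'
  set B := A ⊓ (B'.comap (toAmb V)).map (Subgroup.normalizer (V : Set G)).subtype with hB
  have hBA : B ≤ A := inf_le_left
  have e : img V B = B' := by
    ext g
    rw [mem_img]
    constructor
    · rintro ⟨n, ⟨-, m, hm, hmn⟩, rfl⟩
      rwa [← show m = n from Subtype.ext hmn]
    · intro hg
      obtain ⟨n, hn, rfl⟩ := (mem_img V).1 (hB' hg)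
      exact ⟨n, ⟨hn, n, hg, rfl⟩, rfl⟩
  have h1 := hA B hBA
  show Nat.card B' * Nat.card ↥(fixedIn (vImg V) B') ≤
    Nat.card ↥(img V A) * Nat.card ↥(fixedIn (vImg V) (img V A))
  rw [← e, fixed_img V (hBA.trans hAN), fixed_img V hAN]
  have hcB := card_img V (hBA.trans hAN)
  have hcA := card_img V hAN
  have hcap : A ⊓ Subgroup.centralizer (V : Set G) ≤ B := by
    rintro x ⟨hxA, hxC⟩
    refine ⟨hxA, ⟨x, hAN hxA⟩, ?_, rfl⟩
    show toAmb V ⟨x, hAN hxA⟩ ∈ B'
    rw [(toAmb_eq_one V).2 hxC]; exact one_mem _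
  have hBe : B ⊓ Subgroup.centralizer (V : Set G) = A ⊓ Subgroup.centralizer (V : Set G) :=
    le_antisymm (inf_le_inf_right _ hBA) (le_inf hcap inf_le_right)
  rw [hBe] at hcB
  refine Nat.le_of_mul_le_mul_left ?_
    (Nat.card_pos : 0 < Nat.card ↥(A ⊓ Subgroup.centralizer (V : Set G)))
  rw [← mul_assoc, ← mul_assoc, hcB, hcA]
  exact h1

/-- An element of odd order fixing the involutions of an abelian `2`-group fixes it. -/
theorem commute_of_omega {V : Subgroup G} (hVp : IsPGroup 2 V)
    (hVc : ∀ v ∈ V, ∀ w ∈ V, v * w = w * v) {x : G} (hx : Odd (orderOf x))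
    (hn : ∀ v ∈ V, x * v * x⁻¹ ∈ V) (hΩ : ∀ v ∈ V, v ^ 2 = 1 → x * v = v * x) :
    ∀ v ∈ V, x * v = v * x := by
  intro v hv
  obtain ⟨k, hk⟩ := hVp ⟨v, hv⟩
  have hk' : v ^ 2 ^ k = 1 := congrArg Subtype.val hk
  clear hk
  induction k generalizing v with
  | zero => rw [pow_zero, pow_one] at hk'; rw [hk', mul_one, one_mul]
  | succ k ih =>
    have h2 := ih (v ^ 2) (pow_mem hv 2) (by rw [← pow_mul, ← pow_succ']; exact hk')
    set d := v⁻¹ * (x * v * x⁻¹) with hd
    have hdV : d ∈ V := mul_mem (inv_mem hv) (hn v hv)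
    have hc : Commute v⁻¹ (x * v * x⁻¹) := hVc _ (inv_mem hv) _ (hn v hv)
    have hd2 : d ^ 2 = 1 := by
      rw [hd, hc.mul_pow, conj_pow, h2, mul_inv_cancel_right, inv_pow, inv_mul_cancel]
    have hxd : Commute x d := hΩ d hdV hd2
    have hvd : v * d = x * v * x⁻¹ := by rw [hd, mul_inv_cancel_left]
    have hpow : ∀ n : ℕ, x ^ n * v * (x ^ n)⁻¹ = v * d ^ n := by
      intro n
      induction n with
      | zero => simp
      | succ n ihn =>
        calc x ^ (n + 1) * v * (x ^ (n + 1))⁻¹ = x * (x ^ n * v * (x ^ n)⁻¹) * x⁻¹ := by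
              rw [pow_succ']; group
          _ = (x * v * x⁻¹) * (x * d ^ n * x⁻¹) := by rw [ihn]; group
          _ = v * d * d ^ n := by rw [(hxd.pow_right n).eq, mul_inv_cancel_right, hvd]
          _ = v * d ^ (n + 1) := by rw [mul_assoc, ← pow_succ']
    have h4 := hpow (orderOf x)
    rw [pow_orderOf_eq_one, one_mul, inv_one, mul_one, left_eq_mul] at h4
    obtain ⟨j, hj⟩ := hx
    have hd1 : d = 1 := by
      rw [hj, pow_succ, pow_mul, hd2, one_pow, one_mul] at h4
      exact h4
    rw [hd, inv_mul_eq_one] at hd1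
    exact (mul_inv_eq_iff_eq_mul.1 hd1.symm)

/-- `SL(2,2)` as permutations of the three nonzero vectors. -/
def permFun (M : SL(2, ZMod 2)) : Fin 3 → Fin 3 := fun i =>
  let w : Fin 2 → ZMod 2 := Matrix.mulVec M.1 (![![1, 0], ![0, 1], ![1, 1]] i)
  if w 0 = 0 then 1 else if w 1 = 0 then 0 else 2

theorem permFun_mul : ∀ M N : SL(2, ZMod 2), ∀ i, permFun (M * N) i = permFun M (permFun N i) := by
  decide +kernel

theorem permFun_one : ∀ i, permFun 1 i = i := by decide +kernel

theorem permFun_injective : ∀ M N : SL(2, ZMod 2), (∀ i, permFun M i = permFun N i) → M = N := by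
  decide +kernel

theorem exists_perm_equiv : Nonempty (SL(2, ZMod 2) ≃* Equiv.Perm (Fin 3)) := by
  let φ : SL(2, ZMod 2) →* Function.End (Fin 3) :=
    { toFun := permFun, map_one' := funext permFun_one, map_mul' := fun M N => funext (permFun_mul M N) }
  let ψ : SL(2, ZMod 2) →* Equiv.Perm (Fin 3) :=
    Equiv.Perm.equivUnitsEnd.symm.toMonoidHom.comp φ.toHomUnits
  have hψ : Function.Injective ψ := fun M N h => permFun_injective M N (congrFun
    (congrArg Units.val (Equiv.Perm.equivUnitsEnd.symm.injective h)))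
  refine ⟨MulEquiv.ofBijective ψ ((Nat.bijective_iff_injective_and_card ψ).2 ⟨hψ, ?_⟩)⟩
  rw [card_sl2_two, Nat.card_perm, Nat.card_fin]
  decide

/-- A generated group is a product of copies of the symmetric group of degree three. -/
theorem exists_pi_equiv {V H : Subgroup G} (hyp : Hyp 2 V H) (hH : H ≠ ⊥)
    (hgen : H = ⨆ B : {B : Subgroup G // B ≤ H ∧ IsBestOffenderOn 2 V B}, (B : Subgroup G)) :
    ∃ n : ℕ, 1 ≤ n ∧ Nonempty (↥H ≃* (Fin n → Equiv.Perm (Fin 3))) := by
  classical
  haveI : Fact (Nat.Prime 2) := ⟨Nat.prime_two⟩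
  obtain ⟨θ⟩ := exists_perm_equiv
  haveI : Fintype (Blk 2 V H) := Fintype.ofFinite _
  set n := Fintype.card (Blk 2 V H) with hn
  let e : Fin n ≃ Blk 2 V H := (Fintype.equivFin _).symm
  let K : Fin n → Subgroup G := fun i => (e i : Subgroup G)
  have hsup : ⨆ i, K i = H := (Equiv.iSup_comp e (g := fun E : Blk 2 V H => (E : Subgroup G))).trans
    (sup_blk hgen hyp)
  have hind : iSupIndep K := (indep_blk hyp).comp e.injective
  have hcomm : Pairwise fun i j : Fin n => ∀ x y : G, x ∈ K i → y ∈ K j → Commute x y := by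
    intro i j hij x y hx hy
    obtain ⟨A, a, m, eA⟩ := exists_of_blk hyp (e i)
    obtain ⟨B, b, m', eB⟩ := exists_of_blk hyp (e j)
    rw [show K i = (e i : Subgroup G) from rfl, eA] at hx
    rw [show K j = (e j : Subgroup G) from rfl, eB] at hy
    rcases eq_or_independent m m' with hh | ⟨h1, h2⟩
    · exact absurd (e.injective (Subtype.ext (eA.trans (hh.trans eB.symm)))) hij
    · exact commute_of_independent m m' h1 h2 x hx y hy
  have hequiv : ∀ i, Nonempty (↥(K i) ≃* Equiv.Perm (Fin 3)) := by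
    intro i
    obtain ⟨A, a, m, eA⟩ := exists_of_blk hyp (e i)
    obtain ⟨φ⟩ := (block_of_min m).equiv
    exact ⟨(MulEquiv.subgroupCongr eA).trans (φ.trans θ)⟩
  have hn1 : 1 ≤ n := by
    by_contra h0
    refine hH (hsup.symm.trans ?_)
    rw [eq_bot_iff]
    exact iSup_le fun i => absurd i.isLt (by omega)
  refine ⟨n, hn1, ⟨MulEquiv.trans ?_ (MulEquiv.piCongrRight fun i => (hequiv i).some)⟩⟩
  refine (MulEquiv.subgroupCongr ?_).trans
    (MonoidHom.ofInjective (Subgroup.injective_noncommPiCoprod_of_iSupIndep (hcomm := hcomm) hind)).symm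
  rw [Subgroup.noncommPiCoprod_range, hsup]

end Cfsg.Agent.OffendersLarge
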