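import Mathlib
import Cfsg.Prelude.Def_PLocal
import Cfsg.Prelude.Def_Local
import Cfsg.Agent.Lib.Offenders
import Cfsg.Agent.Lib.HallCore
import Cfsg.Agent.Lib.GlaubermanStable
import Cfsg.Agent.Lib.GlaubermanQuotient

/-! `p`-subgroups modulo a normal `p'`-subgroup: Sylow data, normalizers and centralizers. -/

set_option autoImplicit false

open scoped commutatorElement

namespace Cfsg.Agent.OffendersQuot

open Cfsg

universe u

variable {G X : Type u} [Group G] [Group X] [Finite G] {p : ℕ} [hp : Fact p.Prime] {π : G →* X}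

theorem map_normalizer (hπ : Function.Surjective π) (hK : (Nat.card π.ker).Coprime p)
    {A : Subgroup G} (hA : IsPGroup p A) :
    (Subgroup.normalizer (A : Set G)).map π = Subgroup.normalizer ((A.map π : Subgroup X) : Set X) := by
  refine le_antisymm (Subgroup.le_normalizer_map π) fun y hy => ?_
  obtain ⟨g, rfl⟩ := hπ y
  obtain ⟨r, hr, hrg⟩ := GlaubermanStable.exists_mem_normalizer_lift hK hA hy
  exact ⟨r * g, hrg, by rw [map_mul, MonoidHom.mem_ker.1 hr, one_mul]⟩

/-- A normalizing element centralises modulo the kernel only if it centralises. -/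
theorem mem_centralizer_iff_map (hK : (Nat.card π.ker).Coprime p)
    {A : Subgroup G} (hA : IsPGroup p A) {g : G} (hg : g ∈ Subgroup.normalizer (A : Set G)) :
    g ∈ Subgroup.centralizer (A : Set G) ↔
      π g ∈ Subgroup.centralizer ((A.map π : Subgroup X) : Set X) := by
  constructor
  · rintro h _ ⟨a, ha, rfl⟩
    rw [← map_mul, ← map_mul, h a ha]
  · intro h a ha
    have h1 : g * a * g⁻¹ ∈ A := (Subgroup.mem_normalizer_iff.1 hg a).1 ha
    have h2 : π (g * a * g⁻¹) = π a := by
      rw [map_mul, map_mul, map_inv, ← h _ ⟨a, ha, rfl⟩, mul_inv_cancel_right]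
    exact (mul_inv_eq_iff_eq_mul.1 (GlaubermanQuotient.injOn_of_coprime hA hK h1 ha h2)).symm

theorem map_centralizer (hπ : Function.Surjective π) (hK : (Nat.card π.ker).Coprime p)
    {A : Subgroup G} (hA : IsPGroup p A) :
    (Subgroup.centralizer (A : Set G)).map π =
      Subgroup.centralizer ((A.map π : Subgroup X) : Set X) := by
  refine le_antisymm ?_ fun y hy => ?_
  · rintro _ ⟨g, hg, rfl⟩ _ ⟨a, ha, rfl⟩
    rw [← map_mul, ← map_mul, hg a ha]
  · have hy' := Subgroup.centralizer_le_normalizer _ hy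
    rw [← map_normalizer hπ hK hA] at hy'
    obtain ⟨g, hg, rfl⟩ := hy'
    exact ⟨g, (mem_centralizer_iff_map hK hA hg).2 hy, rfl⟩

/-- `Ω₁(Z(A))` maps to `Ω₁(Z(π A))`. -/
theorem map_omegaZ (hK : (Nat.card π.ker).Coprime p) {A : Subgroup G} (hA : IsPGroup p A) :
    (omegaOne p (A ⊓ Subgroup.centralizer (A : Set G))).map π =
      omegaOne p (A.map π ⊓ Subgroup.centralizer ((A.map π : Subgroup X) : Set X)) := by
  set f := π.comp A.subtype with hf
  have hinj : Function.Injective f := fun a b h =>
    Subtype.ext (GlaubermanQuotient.injOn_of_coprime hA hK a.2 b.2 h)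
  have e1 : A = (⊤ : Subgroup A).map A.subtype := by rw [← MonoidHom.range_eq_map, A.range_subtype]
  have e2 : A.map π = (⊤ : Subgroup A).map f := by
    rw [hf, ← Subgroup.map_map, ← e1]
  conv_lhs => rw [e1, Offenders.map_centralizer_range A.subtype_injective,
    ← Offenders.omegaOne_map A.subtype_injective, Subgroup.map_map, ← hf,
    Offenders.omegaOne_map hinj, ← Offenders.map_centralizer_range hinj, ← e2]

/-- `J(A)` maps to `J(π A)`. -/
theorem map_thompsonOf (hK : (Nat.card π.ker).Coprime p) {A : Subgroup G} (hA : IsPGroup p A) :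
    (thompsonSubgroupOf p A).map π = thompsonSubgroupOf p (A.map π) := by
  have hinj : Function.Injective (π.comp A.subtype) := fun a b h =>
    Subtype.ext (GlaubermanQuotient.injOn_of_coprime hA hK a.2 b.2 h)
  let e : A ≃* ↥(A.map π) := MulEquiv.ofBijective
    ((π.comp A.subtype).codRestrict (A.map π) fun a => ⟨a, a.2, rfl⟩)
    ⟨fun a b h => hinj (congrArg Subtype.val h), by rintro ⟨_, a, ha, rfl⟩; exact ⟨⟨a, ha⟩, rfl⟩⟩
  rw [thompsonSubgroupOf, thompsonSubgroupOf, ← Offenders.thompson_map_equiv e, Subgroup.map_map,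
    Subgroup.map_map]
  rfl

/-- The natural map `N(A)/C(A) → N(πA)/C(πA)`. -/
def autMap (π : G →* X) (A : Subgroup G) :
    ↥(Subgroup.normalizer (A : Set G)) ⧸
        (Subgroup.centralizer (A : Set G)).subgroupOf (Subgroup.normalizer (A : Set G)) →*
      ↥(Subgroup.normalizer ((A.map π : Subgroup X) : Set X)) ⧸
        (Subgroup.centralizer ((A.map π : Subgroup X) : Set X)).subgroupOf
          (Subgroup.normalizer ((A.map π : Subgroup X) : Set X)) :=
  QuotientGroup.map _ _
    ((π.comp (Subgroup.normalizer (A : Set G)).subtype).codRestrict _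
      fun x => Subgroup.le_normalizer_map π ⟨x, x.2, rfl⟩)
    fun x hx => by
      rintro _ ⟨a, ha, rfl⟩
      show π a * π x = π x * π a
      rw [← map_mul, ← map_mul]
      exact congrArg π (hx a ha)

theorem autMap_bijective (hπ : Function.Surjective π) (hK : (Nat.card π.ker).Coprime p)
    {A : Subgroup G} (hA : IsPGroup p A) : Function.Bijective (autMap π A) := by
  constructor
  · rw [← MonoidHom.ker_eq_bot_iff, Subgroup.eq_bot_iff_forall]
    intro q hq
    obtain ⟨x, rfl⟩ := QuotientGroup.mk'_surjective _ q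
    rw [MonoidHom.mem_ker] at hq
    have h1 := (QuotientGroup.eq_one_iff _).1 hq
    exact (QuotientGroup.eq_one_iff _).2 ((mem_centralizer_iff_map hK hA x.2).2 h1)
  · intro q
    obtain ⟨⟨y, hy⟩, rfl⟩ := QuotientGroup.mk'_surjective _ q
    rw [← map_normalizer hπ hK hA] at hy
    obtain ⟨g, hg, rfl⟩ := hy
    exact ⟨QuotientGroup.mk' _ ⟨g, hg⟩, rfl⟩

end Cfsg.Agent.OffendersQuot
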