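import Mathlib
import Cfsg.Prelude.Def_PLocal
import Cfsg.Prelude.Def_Local
import Cfsg.Agent.Lib.Offenders
import Cfsg.Agent.Lib.OffendersReplace
import Cfsg.Agent.Lib.OffendersPlane
import Cfsg.Agent.Lib.OffendersBlocks
import Cfsg.Agent.Lib.OffendersCoprime
import Cfsg.Agent.Lib.ComponentsCores
import Cfsg.Agent.Lib.SubnormalJoin
import Cfsg.Agent.Lib.CoprimeAction

/-!
Subnormal subgroups of a faithful group on an elementary abelian `p`-group: stabilisers of series,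
and two subnormal subgroups irreducible on their commutator modules.
-/

set_option autoImplicit false

open scoped commutatorElement

namespace Cfsg.Agent.OffendersSubnormal

open Cfsg OffendersReplace OffendersPlane OffendersBlocks

universe u

variable {G : Type u} [Group G] {p : ℕ} {V W E L A B : Subgroup G}

theorem comm_rule (v g h : G) : ⁅v, g * h⁆ = ⁅v, g⁆ * (g * ⁅v, h⁆ * g⁻¹) := by
  simp only [commutatorElement_def]; group

theorem normalizer_le_centralizer_normalizer (W : Subgroup G) :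
    Subgroup.normalizer (W : Set G) ≤
      Subgroup.normalizer (Subgroup.centralizer (W : Set G) : Set G) := by
  have key : ∀ y ∈ Subgroup.normalizer (W : Set G), ∀ c ∈ Subgroup.centralizer (W : Set G),
      y * c * y⁻¹ ∈ Subgroup.centralizer (W : Set G) := by
    intro y hy c hc v hv
    have h1 := hc (y⁻¹ * v * y) ((Subgroup.mem_normalizer_iff''.1 hy v).1 hv)
    calc v * (y * c * y⁻¹) = y * ((y⁻¹ * v * y) * c) * y⁻¹ := by group
      _ = y * (c * (y⁻¹ * v * y)) * y⁻¹ := by rw [h1]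
      _ = y * c * y⁻¹ * v := by group
  intro y hy
  refine Subgroup.mem_normalizer_iff.2 fun c => ⟨key y hy c, fun h => ?_⟩
  simpa [mul_assoc] using key y⁻¹ (inv_mem hy) _ h

/-- The elements fixing `W` pointwise and acting trivially on `V/W`. -/
def stab (V W : Subgroup G) : Subgroup G where
  carrier := {g | g ∈ Subgroup.centralizer (W : Set G) ∧ ∀ v ∈ V, ⁅v, g⁆ ∈ W}
  one_mem' := ⟨one_mem _, fun v _ => by rw [commutatorElement_one_right]; exact one_mem _⟩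
  mul_mem' := by
    rintro g h ⟨hg, hg'⟩ ⟨hh, hh'⟩
    refine ⟨mul_mem hg hh, fun v hv => ?_⟩
    rw [comm_rule, ← hg _ (hh' v hv), mul_inv_cancel_right]
    exact mul_mem (hg' v hv) (hh' v hv)
  inv_mem' := by
    rintro g ⟨hg, hg'⟩
    refine ⟨inv_mem hg, fun v hv => ?_⟩
    have e : ⁅v, g⁻¹⁆ = (g⁻¹ * ⁅v, g⁆ * g)⁻¹ := by simp only [commutatorElement_def]; group
    rw [e, mul_assoc, hg _ (hg' v hv), inv_mul_cancel_left]
    exact inv_mem (hg' v hv)

theorem stab_pow_eq_one (hV : IsElementaryAbelian p V) (hWV : W ≤ V)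
    (hf : E ⊓ Subgroup.centralizer (V : Set G) = ⊥) {g : G} (hgE : g ∈ E) (hg : g ∈ stab V W) :
    g ^ p = 1 := by
  have hmem : g ^ p ∈ E ⊓ Subgroup.centralizer (V : Set G) := by
    refine ⟨pow_mem hgE p, fun v hv => ?_⟩
    have key : ∀ k : ℕ, ⁅v, g ^ k⁆ = ⁅v, g⁆ ^ k := by
      intro k
      induction k with
      | zero => simp
      | succ k ih =>
        rw [pow_succ', comm_rule, ih, ← hg.1 _ (pow_mem (hg.2 v hv) k), mul_inv_cancel_right,
          ← pow_succ']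
    exact commutatorElement_eq_one_iff_mul_comm.1
      ((key p).trans (hV.2 _ (hWV (hg.2 v hv))))
  rwa [hf, Subgroup.mem_bot] at hmem

theorem commutator_le_stab (hA : A ≤ Subgroup.normalizer (W : Set G))
    (hAV : ⁅V, A⁆ ≤ W) (hB : ⁅W, B⁆ = ⊥) (hBV : B ≤ Subgroup.normalizer (V : Set G)) :
    ⁅A, B⁆ ≤ stab V W := by
  rw [Subgroup.commutator_le]
  intro a ha b hb
  have hbW : ∀ w ∈ W, w * b = b * w := fun w hw =>
    commutatorElement_eq_one_iff_mul_comm.1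
      ((Subgroup.mem_bot).1 (hB ▸ Subgroup.commutator_mem_commutator hw hb))
  refine ⟨?_, fun v hv => ?_⟩
  · rw [commutatorElement_def]
    refine mul_mem ?_ (inv_mem hbW)
    intro w hw
    have h1 := hbW _ ((Subgroup.mem_normalizer_iff''.1 (hA ha) w).1 hw)
    calc w * (a * b * a⁻¹) = a * (a⁻¹ * w * a * b) * a⁻¹ := by group
      _ = a * (b * (a⁻¹ * w * a)) * a⁻¹ := by rw [h1]
      _ = a * b * a⁻¹ * w := by group
  · rw [commutatorElement_def a b, mul_assoc a, mul_assoc a, comm_rule]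
    refine mul_mem (hAV (Subgroup.commutator_mem_commutator hv ha))
      ((Subgroup.mem_normalizer_iff.1 (hA ha) _).1 ?_)
    have e : ⁅v, b * a⁻¹ * b⁻¹⁆ = b * ⁅b⁻¹ * v * b, a⁻¹⁆ * b⁻¹ := by
      simp only [commutatorElement_def]; group
    have hw : ⁅b⁻¹ * v * b, a⁻¹⁆ ∈ W := hAV (Subgroup.commutator_mem_commutator
      ((Subgroup.mem_normalizer_iff''.1 (hBV hb) v).1 hv) (inv_mem ha))
    rw [e, ← hbW _ hw, mul_inv_cancel_right]
    exact hw

variable [Finite G] [hp : Fact p.Prime]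

/-- `[V, A, B] = 1` forces `[A, B] ≤ O_p`. -/
theorem commutator_le_pCore (hV : IsElementaryAbelian p V)
    (hEV : E ≤ Subgroup.normalizer (V : Set G)) (hf : E ⊓ Subgroup.centralizer (V : Set G) = ⊥)
    (hA : A ≤ E) (hB : B ≤ E) (hsA : (A.subgroupOf E).IsSubnormal)
    (hsB : (B.subgroupOf E).IsSubnormal) (hc : ⁅⁅V, A⁆, B⁆ = ⊥) :
    ⁅A, B⁆ ≤ (pCore p E).map E.subtype := by
  set A' := A.subgroupOf E with hA'
  set B' := B.subgroupOf E with hB'
  have hmap : (⁅A', B'⁆ : Subgroup E).map E.subtype = ⁅A, B⁆ := by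
    rw [Subgroup.map_commutator, Subgroup.map_subgroupOf_eq_of_le hA,
      Subgroup.map_subgroupOf_eq_of_le hB]
  have hWV : ⁅V, A⁆ ≤ V := Subgroup.le_normalizer_iff_commutator_le_left.1 (hA.trans hEV)
  have hst : ⁅A, B⁆ ≤ stab V ⁅V, A⁆ :=
    commutator_le_stab (Subgroup.normalizer_commutator_ge_right V A) le_rfl hc (hB.trans hEV)
  have hP : IsPGroup p ↥(⁅A', B'⁆) := by
    rintro ⟨x, hx⟩
    have hx' : (x : G) ∈ ⁅A, B⁆ := hmap ▸ ⟨x, hx, rfl⟩
    exact ⟨1, Subtype.ext (Subtype.ext (by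
      rw [pow_one]; exact stab_pow_eq_one hV hWV hf x.2 (hst hx')))⟩
  have hsn : (⁅A', B'⁆ : Subgroup E).IsSubnormal :=
    ComponentsBasic.isSubnormal_of_le_normalizer
      (Subgroup.commutator_le.2 fun a ha b hb => by
        rw [commutatorElement_def]
        exact mul_mem (mul_mem (mul_mem (Subgroup.mem_sup_left ha) (Subgroup.mem_sup_right hb))
          (inv_mem (Subgroup.mem_sup_left ha))) (inv_mem (Subgroup.mem_sup_right hb)))
      (SubnormalJoin.isSubnormal_sup hsA hsB)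
      (sup_le (Subgroup.normalizer_commutator_ge_left A' B')
        (Subgroup.normalizer_commutator_ge_right A' B'))
  rw [← hmap]
  exact Subgroup.map_mono (ComponentsCores.subnormal_pGroup_le_pCore hsn hP)

/-- The standing hypotheses. -/
structure Good (p : ℕ) (V E : Subgroup G) : Prop where
  ea : IsElementaryAbelian p V
  norm : E ≤ Subgroup.normalizer (V : Set G)
  faithful : E ⊓ Subgroup.centralizer (V : Set G) = ⊥
  core : pCore p E = ⊥

/-- A subnormal subgroup irreducible on its commutator module. -/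
structure Irr (V E A : Subgroup G) : Prop where
  le : A ≤ E
  sn : (A.subgroupOf E).IsSubnormal
  irr : ∀ U : Subgroup G, U ≤ ⁅V, A⁆ → A ≤ Subgroup.normalizer (U : Set G) → U = ⊥ ∨ U = ⁅V, A⁆
  card : 2 < Nat.card A

omit hp in
theorem cj_mono {g : G} {S T : Subgroup G} (h : S ≤ T) : cj g S ≤ cj g T := Subgroup.map_mono h

omit hp in
theorem card_cj (g : G) (S : Subgroup G) : Nat.card ↥(cj g S) = Nat.card S :=
  Subgroup.card_map_of_injective (MulAut.conj g).injective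

theorem Good.eq_bot_of_stab (h : Good p V E) {N : Subgroup G} (hN : N ≤ E)
    (hsn : (N.subgroupOf E).IsSubnormal) (hW : W ≤ V) (hst : N ≤ stab V W) : N = ⊥ := by
  have hP : IsPGroup p ↥(N.subgroupOf E) := by
    rintro ⟨x, hx⟩
    exact ⟨1, Subtype.ext (Subtype.ext (by
      rw [pow_one]; exact stab_pow_eq_one h.ea hW h.faithful x.2 (hst hx)))⟩
  have h1 := ComponentsCores.subnormal_pGroup_le_pCore hsn hP
  rw [h.core, le_bot_iff, Subgroup.subgroupOf_eq_bot, disjoint_iff, inf_eq_left.2 hN] at h1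
  exact h1

theorem Good.sub (h : Good p V E) (hL : L ≤ E) (hsn : (L.subgroupOf E).IsSubnormal) :
    Good p V L := by
  refine ⟨h.ea, hL.trans h.norm,
    le_bot_iff.1 ((inf_le_inf_right _ hL).trans h.faithful.le), ?_⟩
  have h1 := ComponentsCores.pCore_map_subtype_le (p := p) hsn
  rw [h.core, le_bot_iff, Subgroup.map_eq_bot_iff_of_injective _ (Subgroup.subtype_injective _)]
    at h1
  rw [← HallCore.map_equiv_pCore (Subgroup.subgroupOfEquivOfLe hL), h1, Subgroup.map_bot]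

omit hp in
theorem Irr.mono (hA : Irr V E A) (hAL : A ≤ L) (hL : L ≤ E) : Irr V L A :=
  ⟨hAL, SubnormalJoin.isSubnormal_subgroupOf_mono hL hA.sn, hA.irr, hA.card⟩

theorem Irr.conj (h : Good p V E) (hA : Irr V E A) {e : G} (he : e ∈ E) : Irr V E (cj e A) := by
  refine ⟨?_, ?_, ?_, by rw [card_cj]; exact hA.card⟩
  · intro x hx
    obtain ⟨a, ha, rfl⟩ := mem_cj.1 hx
    exact mul_mem (mul_mem he (hA.le ha)) (inv_mem he)
  · have e1 : (cj e A).subgroupOf E =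
        (A.subgroupOf E).map (MulAut.conj (⟨e, he⟩ : E)).toMonoidHom := by
      ext x
      rw [Subgroup.mem_subgroupOf, mem_cj]
      constructor
      · rintro ⟨a, ha, hx⟩
        exact ⟨⟨a, hA.le ha⟩, ha, Subtype.ext hx⟩
      · rintro ⟨a, ha, rfl⟩
        exact ⟨a, ha, rfl⟩
    rw [e1]
    exact ComponentsBasic.isSubnormal_conj hA.sn _
  · intro U hU hn
    rw [← cj_commutator (h.norm he)] at hU ⊢
    have h1 : cj e⁻¹ U ≤ ⁅V, A⁆ := by
      have := cj_mono (g := e⁻¹) hU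
      rwa [cj_cj, inv_mul_cancel, cj_one] at this
    have h2 : A ≤ Subgroup.normalizer (cj e⁻¹ U : Set G) := by
      intro a ha
      have h3 : cj (e * a * e⁻¹) U = U :=
        OffendersCoprime.cj_eq_iff.2 (hn (mem_cj.2 ⟨a, ha, rfl⟩))
      rw [← OffendersCoprime.cj_eq_iff, cj_cj, show a * e⁻¹ = e⁻¹ * (e * a * e⁻¹) by group,
        ← cj_cj, h3]
    rcases hA.irr _ h1 h2 with h4 | h4
    · left
      rw [← cj_one U, ← mul_inv_cancel e, ← cj_cj, h4, cj, Subgroup.map_bot]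
    · right
      rw [← h4, cj_cj, mul_inv_cancel, cj_one]

/-- What commuting gives. -/
structure Conc (V A B : Subgroup G) : Prop where
  comm : ⁅A, B⁆ = ⊥
  inter : ⁅V, A⁆ ⊓ ⁅V, B⁆ = ⊥
  fix₁ : ⁅⁅V, A⁆, B⁆ = ⊥
  fix₂ : ⁅⁅V, B⁆, A⁆ = ⊥
  grp : A ⊓ B = ⊥

theorem conc_of_fixed (h : Good p V E) (hA : Irr V E A) (hB : Irr V E B)
    (hAB : ¬ ⁅V, A⁆ ≤ ⁅V, B⁆) (hc : ⁅⁅V, A⁆, B⁆ = ⊥) : Conc V A B := by
  have hcomm : ⁅A, B⁆ = ⊥ := by
    have := commutator_le_pCore h.ea h.norm h.faithful hA.le hB.le hA.sn hB.sn hc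
    rwa [h.core, Subgroup.map_bot, le_bot_iff] at this
  have hAc := Subgroup.commutator_eq_bot_iff_le_centralizer.1 hcomm
  have hAn : A ≤ Subgroup.normalizer ((⁅V, B⁆ : Subgroup G) : Set G) :=
    le_normalizer_commutator (hA.le.trans h.norm)
      (hAc.trans (Subgroup.centralizer_le_normalizer _))
  have hU : ⁅V, A⁆ ⊓ ⁅V, B⁆ = ⊥ := by
    rcases hA.irr _ inf_le_left
      (CoprimeAction.le_normalizer_inf (Subgroup.normalizer_commutator_ge_right V A) hAn) with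
      h1 | h1
    · exact h1
    · exact absurd (h1 ▸ inf_le_right) hAB
  have hVA : ⁅V, A⁆ ≤ V := Subgroup.le_normalizer_iff_commutator_le_left.1 (hA.le.trans h.norm)
  have hVB : ⁅V, B⁆ ≤ V := Subgroup.le_normalizer_iff_commutator_le_left.1 (hB.le.trans h.norm)
  refine ⟨hcomm, hU, hc, ?_, ?_⟩
  · refine le_bot_iff.1 (hU ▸ le_inf ?_ ?_)
    · exact Subgroup.commutator_mono hVB le_rfl
    · exact Subgroup.le_normalizer_iff_commutator_le_left.1 hAn
  · refine le_bot_iff.1 (h.faithful ▸ le_inf (inf_le_left.trans hA.le) ?_)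
    have h1 : ⁅V, A ⊓ B⁆ = ⊥ := le_bot_iff.1 (hU ▸ le_inf
      (Subgroup.commutator_mono le_rfl inf_le_left) (Subgroup.commutator_mono le_rfl inf_le_right))
    exact Subgroup.le_centralizer_iff.1 (Subgroup.commutator_eq_bot_iff_le_centralizer.1 h1)

/-- **Two irreducible subnormal subgroups with incomparable modules commute.** -/
theorem main (h : Good p V E) (hA : Irr V E A) (hB : Irr V E B)
    (hAB : ¬ ⁅V, A⁆ ≤ ⁅V, B⁆) (hBA : ¬ ⁅V, B⁆ ≤ ⁅V, A⁆) : Conc V A B := by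
  obtain ⟨n, hn⟩ : ∃ n, Nat.card E = n := ⟨_, rfl⟩
  induction n using Nat.strong_induction_on generalizing E A B with
  | _ n ih =>
  have hUV : ∀ {S : Subgroup G}, Irr V E S → ⁅V, S⁆ ≤ V := fun hS =>
    Subgroup.le_normalizer_iff_commutator_le_left.1 (hS.le.trans h.norm)
  -- a moved module meets its translate trivially
  have key : ∀ S : Subgroup G, Irr V E S → ∀ e ∈ E, cj e ⁅V, S⁆ ≠ ⁅V, S⁆ →
      ⁅V, S⁆ ⊓ cj e ⁅V, S⁆ = ⊥ ∧ ⁅cj e ⁅V, S⁆, S⁆ = ⊥ := by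
    intro S hS e he hne
    have hS' := hS.conj h he
    rw [cj_commutator (h.norm he)] at hne ⊢
    rcases hS.sn.lt_normal with htop | ⟨M, hMn, hSM, hMlt⟩
    · exfalso
      refine hne ?_
      have hSE : S = E := le_antisymm hS.le (Subgroup.subgroupOf_eq_top.1 htop)
      rw [hSE, cj_eq_self (Subgroup.le_normalizer he)]
    · set L := S ⊔ cj e S with hL
      have hLE : L ≤ E := sup_le hS.le hS'.le
      have hLsn : (L.subgroupOf E).IsSubnormal := by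
        rw [hL, Subgroup.subgroupOf_sup hS.le hS'.le]
        exact SubnormalJoin.isSubnormal_sup hS.sn hS'.sn
      have hLM : L ≤ M.map E.subtype := by
        refine sup_le (fun x hx => ⟨⟨x, hS.le hx⟩, hSM hx, rfl⟩) fun x hx => ?_
        obtain ⟨s, hs, rfl⟩ := mem_cj.1 hx
        exact ⟨⟨e, he⟩ * ⟨s, hS.le hs⟩ * ⟨e, he⟩⁻¹, hMn.conj_mem _ (hSM hs) _, rfl⟩
      have hlt : Nat.card L < n := by
        rw [← hn]
        refine (Subgroup.card_le_of_le hLM).trans_lt ?_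
        rw [Subgroup.card_map_of_injective E.subtype_injective]
        refine lt_of_le_of_ne (Subgroup.card_le_card_group M) fun e' => hMlt.ne ?_
        exact Subgroup.eq_top_of_card_eq M e'
      have hcd : Nat.card ↥(⁅V, cj e S⁆) = Nat.card ↥(⁅V, S⁆) := by
        rw [← cj_commutator (h.norm he), card_cj]
      have hinc₁ : ¬ ⁅V, S⁆ ≤ ⁅V, cj e S⁆ := fun hle =>
        hne (Subgroup.eq_of_le_of_card_ge hle hcd.le).symm
      have hinc₂ : ¬ ⁅V, cj e S⁆ ≤ ⁅V, S⁆ := fun hle =>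
        hne (Subgroup.eq_of_le_of_card_ge hle hcd.ge)
      have c := ih _ hlt (h.sub hLE hLsn) (hS.mono le_sup_left hLE) (hS'.mono le_sup_right hLE)
        hinc₁ hinc₂ rfl
      exact ⟨c.inter, c.fix₂⟩
  have fixed_of : ∀ S T : Subgroup G, Irr V E S → Irr V E T → ¬ ⁅V, T⁆ ≤ ⁅V, S⁆ →
      T ≤ Subgroup.normalizer ((⁅V, S⁆ : Subgroup G) : Set G) → ⁅⁅V, S⁆, T⁆ = ⊥ := by
    intro S T hS hT hTS hn'
    have h1 : ⁅⁅V, S⁆, T⁆ ≤ ⁅V, S⁆ := Subgroup.le_normalizer_iff_commutator_le_left.1 hn'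
    rcases hT.irr _ (Subgroup.commutator_mono (hUV hS) le_rfl)
      (Subgroup.normalizer_commutator_ge_right _ T) with h2 | h2
    · exact h2
    · exact absurd (h2 ▸ h1) hTS
  by_cases hBn : B ≤ Subgroup.normalizer ((⁅V, A⁆ : Subgroup G) : Set G)
  · exact conc_of_fixed h hA hB hAB (fixed_of A B hA hB hBA hBn)
  by_cases hAn : A ≤ Subgroup.normalizer ((⁅V, B⁆ : Subgroup G) : Set G)
  · have c := conc_of_fixed h hB hA hBA (fixed_of B A hB hA hAB hAn)
    exact ⟨by rw [Subgroup.commutator_comm]; exact c.comm, by rw [inf_comm]; exact c.inter,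
      c.fix₂, c.fix₁, by rw [inf_comm]; exact c.grp⟩
  exfalso
  obtain ⟨b, hb, hbn⟩ := SetLike.not_le_iff_exists.1 hBn
  obtain ⟨a, ha, han⟩ := SetLike.not_le_iff_exists.1 hAn
  have inj : ∀ S T : Subgroup G, Irr V E S → Irr V E T → ∀ t ∈ T,
      t ∉ Subgroup.normalizer ((⁅V, S⁆ : Subgroup G) : Set G) →
      ∃ f : ↥(⁅V, S⁆) → ↥(⁅V, T⁆), Function.Injective f ∧ ∀ u, (f u : G) = ⁅(u : G), t⁆ := by
    intro S T hS hT t ht htn
    refine ⟨fun u => ⟨⁅(u : G), t⁆, Subgroup.commutator_mem_commutator (hUV hS u.2) ht⟩,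
      fun u v huv => ?_, fun u => rfl⟩
    obtain ⟨k1, -⟩ := key S hS t (hT.le ht) fun e => htn (OffendersCoprime.cj_eq_iff.1 e)
    have hV := ((Offenders.ea_iff V).1 h.ea).1
    have e1 : ⁅(u : G), t⁆ = ⁅(v : G), t⁆ := congrArg Subtype.val huv
    rw [commutatorElement_def, commutatorElement_def] at e1
    have e2 : (v : G)⁻¹ * u = t * ((v : G)⁻¹ * u) * t⁻¹ := by
      have hc1 : Commute (v : G)⁻¹ (u : G) :=
        (show Commute (v : G) u from hV _ (hUV hS v.2) _ (hUV hS u.2)).inv_left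
      calc (v : G)⁻¹ * u = (v : G)⁻¹ * ((u : G) * t * (u : G)⁻¹ * t⁻¹) * (t * u * t⁻¹) := by group
        _ = (v : G)⁻¹ * ((v : G) * t * (v : G)⁻¹ * t⁻¹) * (t * u * t⁻¹) := by rw [e1]
        _ = _ := by group
    have hmem : (v : G)⁻¹ * u ∈ ⁅V, S⁆ := mul_mem (inv_mem v.2) u.2
    have h2 : (v : G)⁻¹ * u ∈ ⁅V, S⁆ ⊓ cj t ⁅V, S⁆ := ⟨hmem, mem_cj.2 ⟨_, hmem, e2.symm⟩⟩
    rw [k1, Subgroup.mem_bot, inv_mul_eq_one] at h2
    exact Subtype.ext h2.symm
  obtain ⟨f, hf, hfv⟩ := inj A B hA hB b hb hbn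
  obtain ⟨f', hf', -⟩ := inj B A hB hA a ha han
  have hcard : Nat.card ↥(⁅V, B⁆) ≤ Nat.card ↥(⁅V, A⁆) := Nat.card_le_card_of_injective f' hf'
  have hsurj : Function.Surjective f := (hf.bijective_of_nat_card_le hcard).2
  obtain ⟨hkA, hkA'⟩ := key A hA b (hB.le hb) fun e => hbn (OffendersCoprime.cj_eq_iff.1 e)
  have hA' : ∀ g ∈ A, ∀ x ∈ cj b ⁅V, A⁆, x * g = g * x := fun g hg x hx =>
    commutatorElement_eq_one_iff_mul_comm.1
      ((Subgroup.mem_bot).1 (hkA' ▸ Subgroup.commutator_mem_commutator hx hg))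
  -- every element of the second module
  have hform : ∀ d ∈ ⁅V, B⁆, ∃ u ∈ ⁅V, A⁆, d = u * (b * u * b⁻¹)⁻¹ := fun d hd => by
    obtain ⟨u, hu⟩ := hsurj ⟨d, hd⟩
    refine ⟨u, u.2, ?_⟩
    have h1 : ⁅(u : G), b⁆ = d := (hfv u).symm.trans (congrArg Subtype.val hu)
    rw [← h1]; simp only [commutatorElement_def]; group
  have hI : ⁅V, A⁆ ⊓ ⁅V, B⁆ = ⊥ := by
    rw [Subgroup.eq_bot_iff_forall]
    rintro d ⟨hdA, hdB⟩
    obtain ⟨u, hu, rfl⟩ := hform d hdB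
    have h1 : (b * u * b⁻¹)⁻¹ ∈ ⁅V, A⁆ := by
      have := mul_mem (inv_mem hu) hdA
      rwa [inv_mul_cancel_left] at this
    have h2 : b * u * b⁻¹ ∈ ⁅V, A⁆ ⊓ cj b ⁅V, A⁆ :=
      ⟨(Subgroup.inv_mem_iff _).1 h1, mem_cj.2 ⟨u, hu, rfl⟩⟩
    rw [hkA, Subgroup.mem_bot] at h2
    rw [h2, show u = 1 from conj_eq_one_iff.1 h2, inv_one, one_mul]
  have hC : A ⊓ Subgroup.centralizer ((⁅V, A⁆ : Subgroup G) : Set G) = ⊥ := by
    refine h.eq_bot_of_stab (inf_le_left.trans hA.le) ?_ (hUV hA) fun g hg =>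
      ⟨hg.2, fun v hv => Subgroup.commutator_mem_commutator hv hg.1⟩
    have hle : (A ⊓ Subgroup.centralizer ((⁅V, A⁆ : Subgroup G) : Set G)).subgroupOf E ≤
        A.subgroupOf E := fun x hx => hx.1
    refine Subgroup.IsSubnormal.step _ _ hle hA.sn ?_
    rw [Subgroup.normal_subgroupOf_iff_le_normalizer hle]
    intro x hx
    have hx' : (x : G) ∈ A := hx
    have hn1 := CoprimeAction.le_normalizer_inf Subgroup.le_normalizer
      ((Subgroup.normalizer_commutator_ge_right V A).trans (normalizer_le_centralizer_normalizer _))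
      hx'
    exact Subgroup.mem_normalizer_iff.2 fun y => Subgroup.mem_normalizer_iff.1 hn1 y
  have hfree : ∀ g ∈ A, g ≠ 1 → cj g ⁅V, B⁆ ≠ ⁅V, B⁆ := by
    intro g hg hg1 he
    refine hg1 ?_
    rw [← Subgroup.mem_bot, ← hC]
    refine ⟨hg, fun u hu => ?_⟩
    set d := u * (b * u * b⁻¹)⁻¹ with hd
    have hdB : d ∈ ⁅V, B⁆ := by
      have h1 : (⟨u, hu⟩ : ↥(⁅V, A⁆)) = ⟨u, hu⟩ := rfl
      have h2 := (f ⟨u, hu⟩).2
      rw [hfv] at h2
      have h3 : d = ⁅u, b⁆ := by rw [hd]; simp only [commutatorElement_def]; group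
      rw [h3]; exact h2
    have hgd : g * d * g⁻¹ ∈ ⁅V, B⁆ := he ▸ mem_cj.2 ⟨d, hdB, rfl⟩
    have hgd' : g * d * g⁻¹ * d⁻¹ = g * u * g⁻¹ * u⁻¹ := by
      have hcm : Commute ((b * u * b⁻¹)⁻¹) g :=
        (show Commute (b * u * b⁻¹) g from hA' g hg _ (mem_cj.2 ⟨u, hu, rfl⟩)).inv_left
      rw [hd]
      calc g * (u * (b * u * b⁻¹)⁻¹) * g⁻¹ * (u * (b * u * b⁻¹)⁻¹)⁻¹
          = g * u * ((b * u * b⁻¹)⁻¹ * g⁻¹) * (b * u * b⁻¹) * u⁻¹ := by group
        _ = g * u * (g⁻¹ * (b * u * b⁻¹)⁻¹) * (b * u * b⁻¹) * u⁻¹ := by rw [hcm.inv_right.eq]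
        _ = _ := by group
    have h5 : g * u * g⁻¹ * u⁻¹ ∈ ⁅V, A⁆ := mul_mem ((Subgroup.mem_normalizer_iff.1
      (Subgroup.normalizer_commutator_ge_right V A hg) u).1 hu) (inv_mem hu)
    have h6 : g * d * g⁻¹ * d⁻¹ ∈ ⁅V, B⁆ := mul_mem hgd (inv_mem hdB)
    have h4 : g * u * g⁻¹ * u⁻¹ ∈ ⁅V, A⁆ ⊓ ⁅V, B⁆ := ⟨h5, hgd' ▸ h6⟩
    rw [hI, Subgroup.mem_bot, mul_inv_eq_one, mul_inv_eq_iff_eq_mul] at h4
    exact h4.symm
  set P := ⁅V, A⁆ ⊔ cj b ⁅V, A⁆ with hP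
  have hcom : ∀ {S T : Subgroup G}, S ≤ V → T ≤ V → S ≤ Subgroup.normalizer (T : Set G) :=
    fun hS hT => le_normalizer_of_commute fun s hs t ht =>
      ((Offenders.ea_iff V).1 h.ea).1 t (hT ht) s (hS hs) |>.symm
  have hbV : cj b ⁅V, A⁆ ≤ V := by
    rw [cj_commutator (h.norm (hB.le hb))]
    exact hUV (hA.conj h (hB.le hb))
  have hgP : ∀ g ∈ A, cj g ⁅V, B⁆ ≤ P := by
    intro g hg x hx
    obtain ⟨d, hd, rfl⟩ := mem_cj.1 hx
    obtain ⟨u, hu, rfl⟩ := hform d hd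
    have e : g * (u * (b * u * b⁻¹)⁻¹) * g⁻¹ = (g * u * g⁻¹) * (g * (b * u * b⁻¹) * g⁻¹)⁻¹ := by
      group
    rw [e, ← hA' g hg _ (mem_cj.2 ⟨u, hu, rfl⟩), mul_inv_cancel_right]
    exact mul_mem (Subgroup.mem_sup_left ((Subgroup.mem_normalizer_iff.1
      (Subgroup.normalizer_commutator_ge_right V A hg) u).1 hu))
      (inv_mem (Subgroup.mem_sup_right (mem_cj.2 ⟨u, hu, rfl⟩)))
  -- three translates
  obtain ⟨g, g', hg1, hg'1, hgg⟩ : ∃ g g' : A, g ≠ 1 ∧ g' ≠ 1 ∧ g ≠ g' := by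
    haveI : Fintype A := Fintype.ofFinite _
    have h3 := hA.card
    rw [Nat.card_eq_fintype_card] at h3
    obtain ⟨x, y, z, hxy, hxz, hyz⟩ := Fintype.two_lt_card_iff.1 h3
    exact ⟨x⁻¹ * y, x⁻¹ * z, fun e => hxy (inv_mul_eq_one.1 e),
      fun e => hxz (inv_mul_eq_one.1 e), fun e => hyz (mul_left_cancel e)⟩
  have hg1' : (g : G) ≠ 1 := fun e => hg1 (Subtype.ext e)
  have hg'1' : (g' : G) ≠ 1 := fun e => hg'1 (Subtype.ext e)
  have hne : ((g : G)⁻¹ * g') ≠ 1 := fun e => hgg (Subtype.ext (inv_mul_eq_one.1 e))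
  obtain ⟨-, f1⟩ := key B hB g (hA.le g.2) (hfree g g.2 hg1')
  obtain ⟨-, f2⟩ := key B hB g' (hA.le g'.2) (hfree g' g'.2 hg'1')
  obtain ⟨i12, -⟩ := key B hB _ (mul_mem (inv_mem (hA.le g.2)) (hA.le g'.2))
    (hfree _ (mul_mem (inv_mem g.2) g'.2) hne)
  have hTV : ∀ x ∈ E, cj x ⁅V, B⁆ ≤ V := fun x hx => by
    rw [cj_commutator (h.norm hx)]; exact hUV (hB.conj h hx)
  have i12' : cj (g : G) ⁅V, B⁆ ⊓ cj (g' : G) ⁅V, B⁆ = ⊥ := by
    have h1 := congrArg (cj (g : G)) i12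
    rw [show cj (g : G) (⊥ : Subgroup G) = ⊥ from Subgroup.map_bot _, cj,
      Subgroup.map_inf _ _ _ (MulAut.conj (g : G)).injective, ← cj, ← cj,
      cj_cj, mul_inv_cancel_left] at h1
    exact h1
  have hfixB : ⁅V, B⁆ ⊓ Subgroup.centralizer (B : Set G) = ⊥ := by
    have hBn' : B ≤ Subgroup.normalizer
        ((⁅V, B⁆ ⊓ Subgroup.centralizer (B : Set G) : Subgroup G) : Set G) :=
      CoprimeAction.le_normalizer_inf (Subgroup.normalizer_commutator_ge_right V B)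
        (Subgroup.le_normalizer.trans (normalizer_le_centralizer_normalizer B))
    rcases hB.irr _ inf_le_left hBn' with h1 | h1
    · exact h1
    · exfalso
      have h2 : B = ⊥ := h.eq_bot_of_stab hB.le hB.sn (hUV hB) fun x hx =>
        ⟨fun u hu => ((h1.ge hu).2 x hx).symm,
          fun v hv => Subgroup.commutator_mem_commutator hv hx⟩
      have h3 := hB.card
      rw [h2, Subgroup.card_bot] at h3
      omega
  have hX : cj (g : G) ⁅V, B⁆ ⊔ cj (g' : G) ⁅V, B⁆ ≤ Subgroup.centralizer (B : Set G) :=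
    sup_le (Subgroup.commutator_eq_bot_iff_le_centralizer.1 f1)
      (Subgroup.commutator_eq_bot_iff_le_centralizer.1 f2)
  have hdis : ⁅V, B⁆ ⊓ (cj (g : G) ⁅V, B⁆ ⊔ cj (g' : G) ⁅V, B⁆) = ⊥ :=
    le_bot_iff.1 ((inf_le_inf_left _ hX).trans hfixB.le)
  have c1 := card_sup_mul_card_inf (cj (g : G) ⁅V, B⁆) (cj (g' : G) ⁅V, B⁆)
    (hcom (hTV _ (hA.le g.2)) (hTV _ (hA.le g'.2)))
  rw [i12', Subgroup.card_bot, mul_one, card_cj, card_cj] at c1
  have c2 := card_sup_mul_card_inf ⁅V, B⁆ (cj (g : G) ⁅V, B⁆ ⊔ cj (g' : G) ⁅V, B⁆)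
    (hcom (hUV hB) (sup_le (hTV _ (hA.le g.2)) (hTV _ (hA.le g'.2))))
  rw [hdis, Subgroup.card_bot, mul_one, c1] at c2
  have hle : ⁅V, B⁆ ⊔ (cj (g : G) ⁅V, B⁆ ⊔ cj (g' : G) ⁅V, B⁆) ≤ P :=
    sup_le (by simpa [cj_one] using hgP 1 (one_mem _)) (sup_le (hgP _ g.2) (hgP _ g'.2))
  have c3 := Subgroup.card_le_of_le hle
  rw [c2] at c3
  have c4 := card_sup_mul_card_inf ⁅V, A⁆ (cj b ⁅V, A⁆) (hcom (hUV hA) hbV)
  rw [hkA, Subgroup.card_bot, mul_one, card_cj] at c4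
  rw [hP, c4] at c3
  have hAB' : Nat.card ↥(⁅V, A⁆) = Nat.card ↥(⁅V, B⁆) :=
    le_antisymm (Nat.card_le_card_of_injective f hf) hcard
  rw [hAB'] at c3
  have hB1 : 1 < Nat.card ↥(⁅V, B⁆) := by
    rw [Subgroup.one_lt_card_iff_ne_bot]
    intro e
    exact hBA (e ▸ bot_le)
  have hB2 : Nat.card ↥(⁅V, B⁆) * Nat.card ↥(⁅V, B⁆) <
      Nat.card ↥(⁅V, B⁆) * (Nat.card ↥(⁅V, B⁆) * Nat.card ↥(⁅V, B⁆)) := by
    nlinarith [Nat.mul_pos (zero_lt_one.trans hB1) (zero_lt_one.trans hB1)]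
  omega

/-- The commutator module of a join. -/
theorem commutator_sup (hUA : B ≤ Subgroup.normalizer ((⁅V, A⁆ ⊔ ⁅V, B⁆ : Subgroup G) : Set G))
    (hUB : A ≤ Subgroup.normalizer ((⁅V, A⁆ ⊔ ⁅V, B⁆ : Subgroup G) : Set G)) :
    ⁅V, A ⊔ B⁆ = ⁅V, A⁆ ⊔ ⁅V, B⁆ := by
  set U := ⁅V, A⁆ ⊔ ⁅V, B⁆ with hU
  refine le_antisymm (Subgroup.commutator_le.2 fun v hv g hg => ?_)
    (sup_le (Subgroup.commutator_mono le_rfl le_sup_left)
      (Subgroup.commutator_mono le_rfl le_sup_right))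
  let T : Subgroup G :=
    { carrier := {g | g ∈ Subgroup.normalizer (U : Set G) ∧ ∀ v ∈ V, ⁅v, g⁆ ∈ U}
      one_mem' := ⟨one_mem _, fun v _ => by rw [commutatorElement_one_right]; exact one_mem _⟩
      mul_mem' := by
        rintro g h ⟨hg, hg'⟩ ⟨hh, hh'⟩
        refine ⟨mul_mem hg hh, fun v hv => ?_⟩
        rw [comm_rule]
        exact mul_mem (hg' v hv) ((Subgroup.mem_normalizer_iff.1 hg _).1 (hh' v hv))
      inv_mem' := by
        rintro g ⟨hg, hg'⟩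
        refine ⟨inv_mem hg, fun v hv => ?_⟩
        have e : ⁅v, g⁻¹⁆ = (g⁻¹ * ⁅v, g⁆ * g)⁻¹ := by simp only [commutatorElement_def]; group
        rw [e]
        exact inv_mem ((Subgroup.mem_normalizer_iff''.1 hg _).1 (hg' v hv)) }
  have hle : A ⊔ B ≤ T := sup_le
    (fun x hx => ⟨hUB hx, fun w hw => Subgroup.mem_sup_left
      (Subgroup.commutator_mem_commutator hw hx)⟩)
    (fun x hx => ⟨hUA hx, fun w hw => Subgroup.mem_sup_right
      (Subgroup.commutator_mem_commutator hw hx)⟩)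
  exact (hle hg).2 v hv

end Cfsg.Agent.OffendersSubnormal
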