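import Cfsg.Agent.Lib.Omega8Sylow24

/-!
Rows 48 to 63 of the enumeration of the involutions of the Sylow 2-subgroup.
-/

set_option autoImplicit false
set_option maxRecDepth 20000

namespace Cfsg.Agent.Omega8SylowRows24

open Cfsg.Agent.Omega8Sylow24

theorem rows3 : ∀ i : Fin 16, rowAt (48 + i.val) = true := by decide +kernel

end Cfsg.Agent.Omega8SylowRows24
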