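import Cfsg.Agent.Lib.Omega8SylowRows0x24
import Cfsg.Agent.Lib.Omega8SylowRows1x24
import Cfsg.Agent.Lib.Omega8SylowRows2x24
import Cfsg.Agent.Lib.Omega8SylowRows3x24

/-!
An element of the Weyl group of type E8 whose square is central is, up to sign and conjugation, the
identity or one of six representatives.
-/

set_option autoImplicit false
set_option maxRecDepth 20000

namespace Cfsg.Agent.Omega8Classes24

open Cfsg Cfsg.Agent.E8Even69 Cfsg.Agent.CoxeterTables
open Cfsg.Agent.Omega8Data24 Cfsg.Agent.Omega8Refl24 Cfsg.Agent.Omega8Sylow24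

theorem chain_ok : chainOK24 sylG sqW cjW = true := by decide +kernel

theorem tables_ok : topM = (span (sylG.take 6)).map Mw ∧ botM = (span (sylG.drop 6)).map Mw ∧
    topM.length = 64 ∧ sylG.length = 13 := by decide +kernel

theorem row_ok (i : ℕ) (hi : i < 64) : rowAt i = true := by
  rcases Nat.lt_or_ge i 16 with h | h
  · simpa using Omega8SylowRows24.rows0 ⟨i, h⟩
  rcases Nat.lt_or_ge i 32 with h' | h'
  · simpa [Nat.add_sub_cancel' h] using Omega8SylowRows24.rows1 ⟨i - 16, by omega⟩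
  rcases Nat.lt_or_ge i 48 with h'' | h''
  · simpa [Nat.add_sub_cancel' h'] using Omega8SylowRows24.rows2 ⟨i - 32, by omega⟩
  · simpa [Nat.add_sub_cancel' h''] using Omega8SylowRows24.rows3 ⟨i - 48, by omega⟩

theorem Cls.conj {i : ℕ} {w : W} (v : W) (h : Cls i (v * w * v⁻¹)) : Cls i w := by
  obtain ⟨g, hg⟩ := h
  refine ⟨g * v, ?_⟩
  rwa [show g * v * w * (g * v)⁻¹ = g * (v * w * v⁻¹) * g⁻¹ by group]

/-- Classification of the elements with central square. -/
theorem classify {w : W} (h : w * w = 1 ∨ w * w = (z : W)) :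
    w = 1 ∨ w = (z : W) ∨ ∃ i < 6, Cls i w := by
  obtain ⟨hok, hcard, hcov⟩ := chain_sound24 _ _ _ chain_ok
  have : Fact (Nat.Prime 2) := ⟨Nat.prime_two⟩
  have hzz : (z : W) * (z : W) = 1 := by rw [← Subgroup.coe_mul, z_sq]; rfl
  have h4 : w ^ 4 = 1 := by
    rw [show w ^ 4 = (w * w) * (w * w) by simp [pow_succ, mul_assoc]]
    rcases h with e | e <;> rw [e]
    · rw [mul_one]
    · exact hzz
  have hP : IsPGroup 2 ↥(Subgroup.zpowers w) := by
    rintro ⟨y, n, rfl⟩
    refine ⟨2, Subtype.ext ?_⟩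
    show (w ^ n) ^ (2 ^ 2) = 1
    rw [← zpow_natCast, ← zpow_mul, mul_comm, zpow_mul, zpow_natCast]
    norm_num [h4]
  obtain ⟨Q, hQ⟩ := hP.exists_le_sylow
  have hc : Nat.card (Hs sylG) = 2 ^ Nat.factorization (Nat.card W) 2 := by
    rw [hcard, tables_ok.2.2.2, card_W]
    congr 1
    rw [show 696729600 = 2 ^ 14 * 42525 by norm_num, Nat.factorization_mul (by norm_num) (by norm_num),
      Nat.Prime.factorization_pow Nat.prime_two, Finsupp.add_apply, Finsupp.single_eq_same,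
      Nat.factorization_eq_zero_of_not_dvd (by norm_num : ¬ 2 ∣ 42525)]
  obtain ⟨v, hv⟩ := MulAction.exists_smul_eq W Q (Sylow.ofCard (Hs sylG) hc)
  have hmem : v * w * v⁻¹ ∈ Hs sylG := by
    have h1 : v * w * v⁻¹ ∈ ((v • Q : Sylow 2 W) : Subgroup W) :=
      Subgroup.mem_map.mpr ⟨w, hQ (Subgroup.mem_zpowers w), rfl⟩
    rw [hv] at h1
    exact h1
  obtain ⟨u, hu, he⟩ := hcov _ hmem
  obtain ⟨a, ha, b, hb, rfl⟩ := span_append (show u ∈ span (sylG.take 6 ++ sylG.drop 6) by
    rwa [List.take_append_drop])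
  have hm1 : Mw a ∈ topM := by rw [tables_ok.1]; exact List.mem_map.mpr ⟨a, ha, rfl⟩
  have hm2 : Mw b ∈ botM := by rw [tables_ok.2.1]; exact List.mem_map.mpr ⟨b, hb, rfl⟩
  have hx : Mof (v * w * v⁻¹) = mm (Mw a) (Mw b) := by
    have ha' := (span_spec (fun g hg => hok g (List.mem_of_mem_take hg)) ha).2
    have hb' := (span_spec (fun g hg => hok g (List.mem_of_mem_drop hg)) hb).2
    rw [he, ← Mof_pR ha', ← Mof_pR hb', ← Mof_mul, ← pR_append, Mof_pR]
    intro k hk
    exact (List.mem_append.mp hk).elim (ha' k) (hb' k)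
  obtain ⟨i, hi, hie⟩ := List.getElem_of_mem hm1
  have hrow := row_ok i (by rw [tables_ok.2.2.1] at hi; exact hi)
  rw [rowAt, List.getD_eq_getElem _ _ hi, hie] at hrow
  have hsq : mm (mm (Mw a) (Mw b)) (mm (Mw a) (Mw b)) = E0 := by
    rw [← hx, ← Mof_mul]
    rcases h with e | e <;> rw [show v * w * v⁻¹ * (v * w * v⁻¹) = v * (w * w) * v⁻¹ by group, e]
    · rw [mul_one, mul_inv_cancel, Mof_one]
    · rw [Subgroup.mem_center_iff.mp z_mem_center_W v, mul_inv_cancel_right, Mof_z]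
  by_cases hne : mm (Mw a) (Mw b) = E0
  · rw [hne, ← Mof_one] at hx
    rcases Mof_inj hx with e | e
    · left; simpa using e
    · right; left
      rw [mul_one] at e
      have : w = v⁻¹ * (z : W) * v := by rw [← e]; group
      rw [this, Subgroup.mem_center_iff.mp z_mem_center_W v⁻¹, inv_mul_cancel_right]
  · obtain ⟨c, hc6, hcl⟩ := row_sound hrow _ hm2 _ hx hsq hne
    exact Or.inr (Or.inr ⟨c, hc6, Cls.conj v hcl⟩)

end Cfsg.Agent.Omega8Classes24
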