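import Mathlib
import Cfsg.Prelude.Def_Classical
import Cfsg.Agent.Lib.E8Even69
import Cfsg.Agent.S0293
import Cfsg.Agent.S0296

/-!
The even subgroup of W(E8) maps onto POmega+(8,2) with kernel the central involution.
-/

set_option autoImplicit false

namespace Cfsg.Agent.OmegaEightTwo69

universe u

open Cfsg.Agent.E8Even69 Cfsg.Agent.E8EvenData69 Cfsg.Agent.CoxeterTables Cfsg.Agent.CoxeterData
open Matrix

/-- index type of the natural module -/
abbrev Ix : Type := Fin 4 ⊕ Fin 4

/-- bit position of a coordinate -/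
def pos : Ix → ℕ := Sum.elim (fun k => k.val) (fun k => 4 + k.val)

/-- the vector of a bit string -/
def vec (n : ℕ) : Ix → ZMod 2 := fun j => if n.testBit (pos j) then 1 else 0

/-- the bit string of a vector -/
def enc (v : Ix → ZMod 2) : ℕ :=
  (v (.inl 0)).val + 2 * (v (.inl 1)).val + 4 * (v (.inl 2)).val + 8 * (v (.inl 3)).val +
    16 * (v (.inr 0)).val + 32 * (v (.inr 1)).val + 64 * (v (.inr 2)).val + 128 * (v (.inr 3)).val

theorem enc_lt (v : Ix → ZMod 2) : enc v < 256 := by
  have h : ∀ j, (v j).val ≤ 1 := fun j => Nat.lt_succ_iff.mp (ZMod.val_lt (v j))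
  have := h (.inl 0); have := h (.inl 1); have := h (.inl 2); have := h (.inl 3)
  have := h (.inr 0); have := h (.inr 1); have := h (.inr 2); have := h (.inr 3)
  unfold enc
  omega

theorem enc_vec : ∀ n : Fin 256, enc (vec n.val) = n.val := by decide +kernel

theorem vec_enc (v : Ix → ZMod 2) : vec (enc v) = v := by
  have hinj : Function.Injective fun n : Fin 256 => vec n.val := fun a b h => Fin.ext (by
    rw [← enc_vec a, ← enc_vec b]; exact congrArg enc h)
  have hbij : Function.Bijective fun n : Fin 256 => vec n.val :=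
    (Fintype.bijective_iff_injective_and_card _).mpr ⟨hinj, by simp⟩
  obtain ⟨n, rfl⟩ := hbij.2 v
  show vec (enc (vec n.val)) = vec n.val
  rw [enc_vec]

theorem vec_inj {a b : ℕ} (ha : a < 256) (hb : b < 256) (h : vec a = vec b) : a = b := by
  have h1 : enc (vec a) = a := enc_vec ⟨a, ha⟩
  have h2 : enc (vec b) = b := enc_vec ⟨b, hb⟩
  rw [← h1, ← h2, h]

theorem vec_xor (a b : ℕ) : vec (a ^^^ b) = vec a + vec b := by
  funext j
  simp only [vec, Pi.add_apply, Nat.testBit_xor]
  rcases Bool.eq_false_or_eq_true (a.testBit (pos j)) with h | h <;>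
    rcases Bool.eq_false_or_eq_true (b.testBit (pos j)) with h' | h' <;> simp [h, h', CharTwo.add_self_eq_zero]

theorem vec_zero : vec 0 = 0 := by funext j; simp [vec]

/-- the quadratic form on bit strings -/
def qB (n : ℕ) : Bool := Nat.testBit 0x6996 ((n >>> 4) &&& n &&& 15)

/-- the polar form on bit strings -/
def bB (a b : ℕ) : Bool :=
  Nat.testBit 0x6996 ((((a >>> 4) &&& b) ^^^ (a &&& (b >>> 4))) &&& 15)

/-- reflection in a root, on bit strings -/
def tn (i : Fin 8) (n : ℕ) : ℕ :=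
  if bB n (vv.getD i.val 0) then n ^^^ vv.getD i.val 0 else n

theorem tn_lt : ∀ (i : Fin 8) (n : Fin 256), tn i n.val < 256 := by decide +kernel

/-- the matrix of a reflection -/
def Mt (i : Fin 8) : Matrix Ix Ix (ZMod 2) := Matrix.of fun a b => vec (tn i (2 ^ pos b)) a

/-- the bit string with the selected bits of `n` -/
def bits : List Ix → ℕ → ℕ
  | [], _ => 0
  | b :: l, n => (if n.testBit (pos b) then 2 ^ pos b else 0) ^^^ bits l n

/-- the image of the selected bits of `n` -/
def bitsImg (i : Fin 8) : List Ix → ℕ → ℕ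
  | [], _ => 0
  | b :: l, n => (if n.testBit (pos b) then tn i (2 ^ pos b) else 0) ^^^ bitsImg i l n

/-- all coordinates -/
def coords : List Ix :=
  [.inl 0, .inl 1, .inl 2, .inl 3, .inr 0, .inr 1, .inr 2, .inr 3]

theorem bits_coords : ∀ n : Fin 256, bits coords n.val = n.val := by decide +kernel

theorem bitsImg_coords : ∀ (i : Fin 8) (n : Fin 256), bitsImg i coords n.val = tn i n.val := by decide +kernel

theorem vec_single : ∀ b : Ix, vec (2 ^ pos b) = Pi.single b 1 := by decide +kernel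

theorem Mt_bits (i : Fin 8) : ∀ (l : List Ix) (n : ℕ), Mt i *ᵥ vec (bits l n) = vec (bitsImg i l n)
  | [], _ => by simp [bits, bitsImg, vec_zero]
  | b :: l, n => by
    simp only [bits, bitsImg, vec_xor, Matrix.mulVec_add, Mt_bits i l n]
    refine congrArg (· + _) ?_
    split_ifs
    · rw [vec_single, Matrix.mulVec_single_one]; rfl
    · simp [vec_zero]

theorem Mt_vec (i : Fin 8) (n : Fin 256) : Mt i *ᵥ vec n.val = vec (tn i n.val) := by
  conv_lhs => rw [← bits_coords n]
  rw [Mt_bits, bitsImg_coords]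

theorem tn_invol : ∀ (i : Fin 8) (n : Fin 256), tn i (tn i n.val) = n.val := by decide +kernel

/-- a product of two reflections, on bit strings -/
def tt (i j : Fin 8) (n : ℕ) : ℕ := tn i (tn j n)

theorem tt_rels : ∀ (i j : Fin 8) (n : Fin 256), (tt i j)^[C8.M i j] n.val = n.val := by decide +kernel

theorem q_tn : ∀ (i : Fin 8) (n : Fin 256), qB (tn i n.val) = qB n.val := by decide +kernel

theorem q_vec : ∀ n : Fin 256,
    Cfsg.quadFormPlus 4 (ZMod 2) (vec n.val) = if qB n.val then 1 else 0 := by decide +kernel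

theorem eq_one_of_vec {A : Matrix Ix Ix (ZMod 2)} (h : ∀ n < 256, A *ᵥ vec n = vec n) : A = 1 := by
  refine Matrix.ext_of_mulVec_single fun b => ?_
  rw [Matrix.one_mulVec]
  conv_lhs => rw [← vec_enc (Pi.single b 1)]
  conv_rhs => rw [← vec_enc (Pi.single b 1)]
  exact h _ (enc_lt _)

theorem Mt_sq (i : Fin 8) : Mt i * Mt i = 1 := eq_one_of_vec fun n hn => by
  rw [← Matrix.mulVec_mulVec, Mt_vec i ⟨n, hn⟩, Mt_vec i ⟨_, tn_lt i ⟨n, hn⟩⟩, tn_invol i ⟨n, hn⟩]

/-- a reflection as a unit -/
def Mu (i : Fin 8) : GL Ix (ZMod 2) := ⟨Mt i, Mt i, Mt_sq i, Mt_sq i⟩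

theorem Mu_val (i : Fin 8) : (Mu i : Matrix Ix Ix (ZMod 2)) = Mt i := rfl

theorem Mu_liftable : C8.IsLiftable Mu := by
  intro i j
  refine Units.ext (eq_one_of_vec fun n hn => ?_)
  have key : ∀ k, (((Mu i * Mu j) ^ k : GL Ix (ZMod 2)) : Matrix Ix Ix (ZMod 2)) *ᵥ vec n = vec ((tt i j)^[k] n) ∧
      (tt i j)^[k] n < 256 := by
    intro k
    induction k with
    | zero => exact ⟨by simp, hn⟩
    | succ k ih =>
      rw [Function.iterate_succ_apply', pow_succ', Units.val_mul, ← Matrix.mulVec_mulVec, ih.1, Units.val_mul]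
      refine ⟨?_, tn_lt i ⟨_, tn_lt j ⟨_, ih.2⟩⟩⟩
      show (Mt i * Mt j) *ᵥ _ = _
      rw [← Matrix.mulVec_mulVec, Mt_vec j ⟨_, ih.2⟩, Mt_vec i ⟨_, tn_lt j ⟨_, ih.2⟩⟩]
      rfl
  rw [(key _).1, tt_rels i j ⟨n, hn⟩]

/-- the reduction of the Weyl group modulo 2 -/
noncomputable def mu : W →* GL Ix (ZMod 2) := C8.toCoxeterSystem.lift ⟨Mu, Mu_liftable⟩

theorem mu_s (i : Fin 8) : mu (s i) = Mu i := CoxeterSystem.lift_apply_simple _ _ i

theorem mu_mem (w : W) : mu w ∈ Cfsg.isometryGroup (ZMod 2) (Cfsg.quadFormPlus 4 (ZMod 2)) := by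
  induction w using C8.toCoxeterSystem.simple_induction_left with
  | one => rw [map_one]; exact one_mem _
  | mul_simple_left w i ih =>
    rw [CoxeterMatrix.toCoxeterSystem_simple, map_mul]
    refine mul_mem ?_ ih
    change mu (s i) ∈ _
    rw [mu_s]
    intro v _
    show Cfsg.quadFormPlus 4 (ZMod 2) (Mt i *ᵥ v) = Cfsg.quadFormPlus 4 (ZMod 2) v
    rw [← vec_enc v, Mt_vec i ⟨_, enc_lt v⟩, q_vec ⟨_, tn_lt i ⟨_, enc_lt v⟩⟩, q_vec ⟨_, enc_lt v⟩,
      q_tn i ⟨_, enc_lt v⟩]

/-- the reduction of a root modulo 2 -/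
def red (r : ℕ) : ℕ := redL.getD r 0

theorem red_lt : ∀ r : Fin 240, red r.val < 256 := by decide +kernel

theorem red_act : ∀ (i : Fin 8) (r : Fin 240), red (act e8Perm i.val r.val) = tn i (red r.val) := by
  decide +kernel

theorem red_neg : ∀ r : Fin 240, red (negL.getD r.val 0) = red r.val := by decide +kernel

theorem red_fibre (r r' : Fin 240) (h : red r'.val = red r.val) : r' = r ∨ r'.val = negL.getD r.val 0 := by
  have hnorm : ∀ r : Fin 240, red (min r.val (239 - r.val)) = red r.val ∧ negL.getD r.val 0 = 239 - r.val := by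
    decide +kernel
  have hnd : (redL.take 120).Nodup := by decide +kernel
  have hlen : (redL.take 120).length = 120 := by decide +kernel
  have hget : ∀ k, (hk : k < (redL.take 120).length) → (redL.take 120)[k] = red k := fun k hk => by
    rw [List.getElem_take, red, List.getD_eq_getElem]
  have e := ((hnorm r').1.trans h).trans (hnorm r).1.symm
  have hr := r.isLt
  have hr' := r'.isLt
  have h1 : min r'.val (239 - r'.val) < (redL.take 120).length := by omega
  have h2 : min r.val (239 - r.val) < (redL.take 120).length := by omega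
  have h3 := (hnd.getElem_inj_iff (hi := h1) (hj := h2)).mp (by rw [hget _ h1, hget _ h2, e])
  rw [(hnorm r).2, Fin.ext_iff]
  omega

theorem mu_red (w : W) : ∀ r : Fin 240,
    (mu w : Matrix Ix Ix (ZMod 2)) *ᵥ vec (red r.val) = vec (red (rho w r).val) := by
  induction w using C8.toCoxeterSystem.simple_induction_left with
  | one => intro r; simp
  | mul_simple_left w i ih =>
    intro r
    rw [CoxeterMatrix.toCoxeterSystem_simple]
    change (mu (s i * w) : Matrix Ix Ix (ZMod 2)) *ᵥ _ = vec (red (rho (s i * w) r).val)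
    rw [map_mul, map_mul, mu_s, Units.val_mul, ← Matrix.mulVec_mulVec, ih, Equiv.Perm.mul_apply]
    show Mt i *ᵥ _ = _
    rw [Mt_vec i ⟨_, red_lt _⟩, ← gen_val, rho_gen i.val (List.mem_range.mpr i.isLt), red_act]

theorem vv_lt : ∀ i : Fin 8, vv.getD i.val 0 < 256 ∧ vv.getD i.val 0 ≠ 0 := by decide +kernel

/-- the four elements spanned by two roots -/
def plane (i k : Fin 8) : List ℕ :=
  [0, vv.getD i.val 0, vv.getD k.val 0, vv.getD i.val 0 ^^^ vv.getD k.val 0]

theorem plane_image : ∀ (i k : Fin 8) (n : Fin 256), (n.val ^^^ tn i (tn k n.val)) ∈ plane i k := by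
  decide +kernel

theorem seeds : ∀ i : Fin 8,
    ((seedL.getD i.val []).getD 0 0 < 256 ∧
      (seedL.getD i.val []).getD 0 0 ^^^ tn i (tn (i + 1) ((seedL.getD i.val []).getD 0 0)) = vv.getD i.val 0) ∧
    ((seedL.getD i.val []).getD 1 0 < 256 ∧
      (seedL.getD i.val []).getD 1 0 ^^^ tn i (tn (i + 2) ((seedL.getD i.val []).getD 1 0)) = vv.getD i.val 0) ∧
    ∀ a ∈ plane i (i + 1), a ∈ plane i (i + 2) → a = 0 ∨ a = vv.getD i.val 0 := by
  decide +kernel

/-- the combination of simple roots selected by a mask -/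
def comb (l : List (Fin 8)) (m : ℕ) : ℕ :=
  match l with
  | [] => 0
  | i :: l => (if m.testBit i.val then vv.getD i.val 0 else 0) ^^^ comb l m

theorem comb_mask : ∀ n : Fin 256, comb (List.finRange 8) (maskL.getD n.val 0) = n.val := by
  decide +kernel

theorem eq_one_of_vv (A : Matrix Ix Ix (ZMod 2))
    (h : ∀ i : Fin 8, A *ᵥ vec (vv.getD i.val 0) = vec (vv.getD i.val 0)) : A = 1 := by
  refine eq_one_of_vec fun n hn => ?_
  have hcm : comb (List.finRange 8) (maskL.getD n 0) = n := comb_mask ⟨n, hn⟩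
  rw [← hcm]
  generalize List.finRange 8 = l
  induction l with
  | nil => simp [comb, vec_zero, Matrix.mulVec_zero]
  | cons i l ih =>
    simp only [comb, vec_xor, Matrix.mulVec_add, ih]
    refine congrArg (· + _) ?_
    split_ifs
    · exact h i
    · simp [vec_zero]

theorem eq_one_of_commute (g : GL Ix (ZMod 2)) (h : ∀ i k, g * (Mu i * Mu k) = Mu i * Mu k * g) : g = 1 := by
  refine Units.ext (eq_one_of_vv _ fun i => ?_)
  set A : Matrix Ix Ix (ZMod 2) := ↑g with hA
  set a := enc (A *ᵥ vec (vv.getD i.val 0)) with ha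
  have key : ∀ k : Fin 8, ∀ u : ℕ, u < 256 → (u ^^^ tn i (tn k u)) = vv.getD i.val 0 → a ∈ plane i k := by
    intro k u hu hv
    have hb := enc_lt (A *ᵥ vec u)
    set b := enc (A *ᵥ vec u) with hb'
    have hst : ∀ n < 256, (Mt i * Mt k) *ᵥ vec n = vec (tn i (tn k n)) := fun n hn => by
      rw [← Matrix.mulVec_mulVec, Mt_vec k ⟨n, hn⟩, Mt_vec i ⟨_, tn_lt k ⟨n, hn⟩⟩]
    have hc : A * (Mt i * Mt k) = Mt i * Mt k * A := by
      have := congrArg Units.val (h i k)
      simp only [Units.val_mul, Mu_val] at this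
      exact this
    have h1 : A *ᵥ vec (vv.getD i.val 0) = vec (b ^^^ tn i (tn k b)) := by
      rw [← hv, vec_xor, vec_xor, Matrix.mulVec_add, ← hst u hu, Matrix.mulVec_mulVec, hc,
        ← Matrix.mulVec_mulVec, hb', ← hst _ (enc_lt _), vec_enc]
    have h2 := plane_image i k ⟨b, hb⟩
    have h3 : b ^^^ tn i (tn k b) < 256 :=
      Nat.xor_lt_two_pow (n := 8) hb (tn_lt i ⟨_, tn_lt k ⟨_, hb⟩⟩)
    rw [ha, h1]
    have := enc_vec ⟨_, h3⟩
    rw [this]
    exact h2
  obtain ⟨⟨hu1, hv1⟩, ⟨hu2, hv2⟩, hint⟩ := seeds i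
  rcases hint a (key _ _ hu1 hv1) (key _ _ hu2 hv2) with h0 | h0
  · exfalso
    have h1 : A *ᵥ vec (vv.getD i.val 0) = 0 := by
      rw [← vec_enc (A *ᵥ vec (vv.getD i.val 0)), ← ha, h0, vec_zero]
    have h2 : vec (vv.getD i.val 0) = vec 0 := by
      have := congrArg (fun v => (↑(g⁻¹) : Matrix Ix Ix (ZMod 2)) *ᵥ v) h1
      simpa [Matrix.mulVec_mulVec, hA, vec_zero] using this
    exact (vv_lt i).2 (vec_inj (vv_lt i).1 (by norm_num) h2)
  · rw [← vec_enc (A *ᵥ vec (vv.getD i.val 0)), ← ha, h0]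

theorem mu_eq_one_iff (w : Wp) : mu (w : W) = 1 ↔ w = 1 ∨ w = z := by
  constructor
  · intro h
    refine eq_one_or_z_of_signs w fun r => ?_
    have h1 := mu_red (w : W) r
    rw [h, Units.val_one, Matrix.one_mulVec] at h1
    rcases red_fibre r _ (vec_inj (red_lt r) (red_lt _) h1).symm with h2 | h2
    · exact Or.inl h2
    · exact Or.inr (Fin.ext (by rw [h2, rho_z]))
  · rintro (rfl | rfl)
    · simp
    · refine Units.ext (eq_one_of_vv _ fun i => ?_)
      have hr : ∀ i : Fin 8, ∃ r : Fin 240, red r.val = vv.getD i.val 0 := by decide +kernel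
      obtain ⟨r, hr⟩ := hr i
      rw [← hr, mu_red, rho_z, red_neg]

variable {F : Type u} [Field F] [Fintype F]

theorem card_pomega (hF : Fintype.card F = 2) :
    Nat.card (Cfsg.POmega F (Cfsg.quadFormPlus 4 F)) = 174182400 := by
  have h := Cfsg.Agent.S0293.result hF 4 (by norm_num)
  norm_num [Finset.prod_range_succ] at h
  exact h

theorem perfect (hF : Fintype.card F = 2) : commutator (Cfsg.POmega F (Cfsg.quadFormPlus 4 F)) = ⊤ := by
  haveI := Cfsg.Agent.S0296.result (F := F) 4 (by norm_num)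
  set H := Cfsg.POmega F (Cfsg.quadFormPlus 4 F)
  haveI : Finite H := Nat.finite_of_card_ne_zero (by rw [card_pomega hF]; norm_num)
  rcases (Subgroup.commutator_normal (⊤ : Subgroup H) ⊤).eq_bot_or_eq_top with h | h
  · exfalso
    have hc : ∀ a b : H, a * b = b * a := fun a b => by
      have := Subgroup.commutator_mem_commutator (Subgroup.mem_top a) (Subgroup.mem_top b)
      rw [h, Subgroup.mem_bot, commutatorElement_eq_one_iff_mul_comm] at this
      exact this
    letI : CommGroup H := { (inferInstance : Group H) with mul_comm := hc }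
    have hp := (IsSimpleGroup.prime_card (α := H))
    rw [card_pomega hF] at hp
    norm_num at hp
  · rw [commutator_def]; exact h

/-- the change of field -/
noncomputable def toF (hF : Fintype.card F = 2) : GL Ix (ZMod 2) →* GL Ix F :=
  Matrix.GeneralLinearGroup.map (ZMod.ringEquivOfPrime F Nat.prime_two hF).toRingHom

theorem toF_injective (hF : Fintype.card F = 2) : Function.Injective (toF hF) := fun a b h =>
  Units.ext (Matrix.ext fun p q => (ZMod.ringEquivOfPrime F Nat.prime_two hF).injective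
    (congrArg (fun g : GL Ix F => (g : Matrix Ix Ix F) p q) h))

/-- the reflection representation over `F` -/
noncomputable def muF (hF : Fintype.card F = 2) : W →* Cfsg.isometryGroup F (Cfsg.quadFormPlus 4 F) :=
  ((toF hF).comp mu).codRestrict _ fun w => by
    intro v _
    set e := ZMod.ringEquivOfPrime F Nat.prime_two hF with he
    obtain ⟨v0, rfl⟩ : ∃ v0 : Ix → ZMod 2, v = e ∘ v0 := ⟨e.symm ∘ v, funext fun j => (e.apply_symm_apply _).symm⟩
    have hq : ∀ u : Ix → ZMod 2, Cfsg.quadFormPlus 4 F (e ∘ u) = e (Cfsg.quadFormPlus 4 (ZMod 2) u) := by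
      intro u; simp [Cfsg.quadFormPlus, map_sum]
    show Cfsg.quadFormPlus 4 F (((mu w : GL Ix (ZMod 2)) : Matrix Ix Ix (ZMod 2)).map e *ᵥ (e ∘ v0)) =
      Cfsg.quadFormPlus 4 F (e ∘ v0)
    have hm : ((mu w : GL Ix (ZMod 2)) : Matrix Ix Ix (ZMod 2)).map e *ᵥ (e ∘ v0) =
        e ∘ (((mu w : GL Ix (ZMod 2)) : Matrix Ix Ix (ZMod 2)) *ᵥ v0) :=
      funext fun p => (RingHom.map_mulVec e.toRingHom _ v0 p).symm
    rw [hm, hq, hq]
    exact congrArg e (mu_mem w v0 v0)

/-- the restriction to the even subgroup -/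
noncomputable def muP (hF : Fintype.card F = 2) : Wp →* Cfsg.Omega F (Cfsg.quadFormPlus 4 F) :=
  ((muF hF).comp Wp.subtype).codRestrict _ fun w => by
    have h : (commutator W).map (muF hF) ≤ commutator _ := by
      rw [commutator_def, commutator_def, Subgroup.map_commutator]
      exact Subgroup.commutator_mono le_top le_top
    exact h (Subgroup.mem_map_of_mem _ w.2)

theorem muP_val (hF : Fintype.card F = 2) (w : Wp) :
    (muP hF w).1.1 = toF hF (mu (w : W)) := rfl

/-- The even subgroup of W(E8) maps onto POmega+(8,2) with kernel the central involution. -/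
theorem exists_psi (hF : Fintype.card F = 2) :
    ∃ ψ : Wp →* Cfsg.POmega F (Cfsg.quadFormPlus 4 F), Function.Surjective ψ ∧
      ∀ w, ψ w = 1 ↔ w = 1 ∨ w = z := by
  let ψ : Wp →* Cfsg.POmega F (Cfsg.quadFormPlus 4 F) := (QuotientGroup.mk' _).comp (muP hF)
  have hiff : ∀ w, ψ w = 1 ↔ w = 1 ∨ w = z := by
    intro w
    constructor
    · intro h
      have hc := Subgroup.mem_center_iff.mp ((QuotientGroup.eq_one_iff (muP hF w)).mp h)
      refine (mu_eq_one_iff w).mp (eq_one_of_commute _ fun i k => ?_)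
      have h1 := hc (muP hF (x i * (x k)⁻¹))
      have h2 := congrArg (fun g : Cfsg.Omega F (Cfsg.quadFormPlus 4 F) => g.1.1) h1
      simp only [Subgroup.coe_mul, muP_val, ← map_mul] at h2
      have h3 := toF_injective hF h2
      have h4 : mu (((x i * (x k)⁻¹ : Wp)) : W) = Mu i * Mu k := by
        rw [← mu_s, ← mu_s, ← map_mul]
        refine congrArg mu ?_
        rw [Subgroup.coe_mul, Subgroup.coe_inv, coe_x, coe_x, _root_.mul_inv_rev, s_inv, s_inv]
        rw [show s i * s 7 * (s 7 * s k) = s i * (s 7 * s 7) * s k by group, s_sq, mul_one]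
      rw [Subgroup.coe_mul] at h4
      rw [← h4]
      simpa [map_mul] using h3.symm
    · intro h
      have h1 : muP hF w = 1 := Subtype.ext (Subtype.ext (by
        rw [muP_val, (mu_eq_one_iff w).mpr h, map_one]; rfl))
      show QuotientGroup.mk' _ (muP hF w) = 1
      rw [h1, map_one]
  refine ⟨ψ, ?_, hiff⟩
  haveI : Finite (Cfsg.POmega F (Cfsg.quadFormPlus 4 F)) :=
    Nat.finite_of_card_ne_zero (by rw [card_pomega hF]; norm_num)
  have hk : Nat.card ψ.ker = 2 := by
    rw [Nat.card_eq_two_iff]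
    refine ⟨1, ⟨z, (hiff z).mpr (Or.inr rfl)⟩, fun h => z_ne_one (Subtype.ext_iff.mp h).symm, ?_⟩
    ext w
    simp only [Set.mem_insert_iff, Set.mem_singleton_iff, Set.mem_univ, iff_true]
    rcases (hiff w.1).mp w.2 with h | h
    · exact Or.inl (Subtype.ext h)
    · exact Or.inr (Subtype.ext h)
  have h := Subgroup.card_mul_index ψ.ker
  rw [Subgroup.index_ker, hk, card_Wp] at h
  rw [← MonoidHom.range_eq_top]
  refine Subgroup.eq_top_of_card_eq _ ?_
  rw [card_pomega hF]
  omega

end Cfsg.Agent.OmegaEightTwo69
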