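import Cfsg.Agent.Lib.OrthUnitaryAutMinus
import Cfsg.Agent.Lib.ChevAutGraphReal
import Cfsg.Agent.Lib.DFourIso

/-!
The order of the automorphism group of `PΩ⁺`, with triality in dimension eight.
-/

set_option autoImplicit false

namespace Cfsg.Agent.OrthUnitaryAutPlus

open Cfsg.Lie Cfsg.Agent.ChevalleyGraph Cfsg.Agent.ChevAutGraphReal Cfsg.Agent.ChevAutOut
open Cfsg.Agent.AutOrth45Api Cfsg.Agent.OrthUnitarySimAut

/-- the transposition of two outer nodes -/
def symD4c : Sym chevD4 where
  pi := fun i => ([0, 1, 3, 2] : List ℕ).getD i 0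
  pinv := fun i => ([0, 1, 3, 2] : List ℕ).getD i 0
  rho := fun i => ([0, 1, 3, 2, 4, 5, 6, 8, 7, 9, 11, 10, 13, 12, 14, 16, 15, 17, 18, 19, 21, 20, 22, 23] : List ℕ).getD i 0
  rinv := fun i => ([0, 1, 3, 2, 4, 5, 6, 8, 7, 9, 11, 10, 13, 12, 14, 16, 15, 17, 18, 19, 21, 20, 22, 23] : List ℕ).getD i 0
  eps := fun _ => 1
  pi_ok := by decide +kernel
  rho_ok := by decide +kernel
  simple_ok := by decide +kernel
  neg_ok := by decide +kernel
  cart_ok := by decide +kernel
  chain_ok := by decide +kernel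

theorem orderOf_symD4a : orderOf (nodePerm symD4a) = 3 := by
  haveI : Fact (Nat.Prime 3) := ⟨by norm_num⟩
  exact orderOf_eq_prime (by decide +kernel) (by decide +kernel)

theorem orderOf_symD4c : orderOf (nodePerm symD4c) = 2 :=
  orderOf_eq_prime (by decide +kernel) (by decide +kernel)

variable {F : Type*} [Field F]

/-- All six symmetries of the diagram are realised. -/
theorem card_range_D4 [Finite F] (X : Ctx chevD4 F) : Nat.card ↥(pHom X).range = 6 := by
  have h6 : Nat.card ↥(pHom X).range ≤ 6 :=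
    ChevAutSyms.syms_D4 ▸ ChevAutSyms.card_range_le X
  have ha : 3 ∣ Nat.card ↥(pHom X).range :=
    orderOf_symD4a ▸ Subgroup.orderOf_dvd_natCard _ (mem_range symD4a X notLong_D4)
  have hc : 2 ∣ Nat.card ↥(pHom X).range :=
    orderOf_symD4c ▸ Subgroup.orderOf_dvd_natCard _ (mem_range symD4c X notLong_D4)
  have h0 : 0 < Nat.card ↥(pHom X).range := Nat.card_pos
  omega

theorem index_inn_congr {G H : Type*} [Group G] [Group H] (e : G ≃* H) :
    (Inn G).index = (Inn H).index := by
  have hh : Inn H = (Inn G).map (MulAut.congr e).toMonoidHom := by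
    ext β
    constructor
    · rintro ⟨h, rfl⟩
      refine ⟨MulAut.conj (e.symm h), ⟨_, rfl⟩, MulEquiv.ext fun y => ?_⟩
      show e (MulAut.conj (e.symm h) (e.symm y)) = MulAut.conj h y
      rw [MulAut.conj_apply, MulAut.conj_apply, map_mul, map_mul, map_inv, e.apply_symm_apply,
        e.apply_symm_apply]
    · rintro ⟨_, ⟨g, rfl⟩, rfl⟩
      refine ⟨e g, MulEquiv.ext fun y => ?_⟩
      show MulAut.conj (e g) y = e (MulAut.conj g (e.symm y))
      rw [MulAut.conj_apply, MulAut.conj_apply, map_mul, map_mul, map_inv, e.apply_symm_apply]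
  rw [hh]
  exact (Subgroup.index_map_of_bijective (f := (MulAut.congr e).toMonoidHom) (MulAut.congr e).bijective (Inn G)).symm

variable [Fintype F]

theorem card_mulAut (p f : ℕ) [Fact p.Prime] (hf : 1 ≤ f) (hF : Fintype.card F = p ^ f) {m : ℕ}
    (hm : 4 ≤ m) :
    Nat.card (MulAut (POmega F (quadFormPlus m F))) = (if m = 4 then 3 else 1) *
      (if p = 2 then 2 else (if Even (m * (p ^ f - 1) / 2) then 8 else 4)) * f *
        Nat.card (POmega F (quadFormPlus m F)) := by
  have hq1 : 2 ≤ p ^ f := by rw [← hF]; exact Fintype.one_lt_card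
  have hn : 5 ≤ Fintype.card (Fin m ⊕ Fin m) := by simp; omega
  have hnd := AutOrth45Forms.nondegenerate_qPlus (F := F) m
  have hodd : p ≠ 2 → Odd (Fintype.card F) := fun hp => by
    rw [hF]; exact ((Fact.out : p.Prime).eq_two_or_odd'.resolve_left hp).pow
  by_cases h4 : m = 4
  · subst h4
    obtain ⟨e⟩ := DFourIso.nonempty_equiv (F := F)
    haveI : CharP F p := by
      obtain ⟨q, hq⟩ := CharP.exists F
      obtain ⟨k, hqp, hk⟩ := FiniteField.card F q
      have hdvd : q ∣ p ^ f := hF ▸ hk ▸ dvd_pow_self q k.ne_zero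
      have := (Nat.prime_dvd_prime_iff_eq hqp Fact.out).1 (hqp.dvd_of_dvd_pow hdvd)
      exact this ▸ hq
    obtain ⟨X⟩ := Ctx.exists_ctx (D := chevD4) (F := F) (by simp)
    have hout := ChevAutSyms.card_out_eq X hF ChevalleyTorusCard.smithD4
    rw [card_range_D4 X] at hout
    have hidx : (Inn (POmega F (quadFormPlus 4 F))).index = 6 * (Nat.gcd 2 (p ^ f - 1) ^ 2 * f) := by
      rw [← index_inn_congr e, ← hout]; rfl
    rw [if_pos rfl, ← Subgroup.card_mul_index (Inn (POmega F (quadFormPlus 4 F))), hidx,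
      ← QuadClassify.qPlus_coe, OrthUnitaryAutMinus.card_inn hnd hn]
    by_cases hp : p = 2
    · have : Nat.gcd 2 (p ^ f - 1) = 1 := Nat.coprime_two_left.2 (Nat.Even.sub_odd (by omega)
        (by rw [hp]; exact Nat.even_pow.2 ⟨even_two, by omega⟩) odd_one)
      rw [this, if_pos hp]; ring
    · have hev : Even (p ^ f - 1) := by
        have := hodd hp; rw [hF] at this
        exact Nat.Odd.sub_odd this odd_one
      have h2 : Nat.gcd 2 (p ^ f - 1) = 2 := Nat.gcd_eq_left hev.two_dvd
      have h8 : Even (4 * (p ^ f - 1) / 2) := ⟨p ^ f - 1, by omega⟩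
      rw [h2, if_neg hp, if_pos h8]; ring
  · rw [if_neg h4, one_mul, ← QuadClassify.qPlus_coe]
    have hG := AutOrth45Forms.good_plus (F := F) (m := m) (by omega)
    rw [OrthUnitaryAutMinus.card_aut hG (fun σ => ⟨1, field_pair (AutOrth45Forms.inv_plus m) σ⟩),
      AutPSLApi.card_ringAut hF hf]
    congr 2
    by_cases hp : p = 2
    · subst hp
      have h2 : (2 : F) = 0 := by
        have : (Fintype.card F : F) = 0 := Nat.cast_card_eq_zero F
        rw [hF] at this; push_cast at this
        exact eq_zero_of_pow_eq_zero this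
      rw [if_pos rfl, OrthUnitaryAutMinus.index_innSim_two hG.nd hn h2]
    · rw [if_neg hp]
      have hgood := OrthUnitarySimClasses.good_plus (F := F) (m := m) (by omega)
        (OmegaStd.two_ne_zero rfl (hodd hp))
      have key : ¬ (Odd m ∧ Fintype.card F % 4 = 3) ↔ Even (m * (p ^ f - 1) / 2) := by
        rw [← hF]
        obtain ⟨r, hr⟩ : ∃ r, Fintype.card F = 2 * r + 1 := hodd hp
        rw [hr, show 2 * r + 1 - 1 = 2 * r by omega, show m * (2 * r) / 2 = m * r by
          rw [mul_left_comm]; omega, Nat.even_mul, Nat.even_iff, Nat.even_iff, Nat.odd_iff]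
        omega
      by_cases hneg : OrthUnitarySimilar.NegMem (QuadClassify.qPlus m F)
      · rw [OrthUnitarySimilar.index_innSim hgood hneg, if_pos]
        rw [← key, ← OrthUnitarySimClasses.negMem_plus (hodd hp)]
        exact hneg
      · rw [← OrthUnitarySimilar.K_eq_innSim hgood hneg, OrthUnitarySimilar.index_K hgood, if_neg]
        rw [← key, ← OrthUnitarySimClasses.negMem_plus (hodd hp)]
        exact hneg

end Cfsg.Agent.OrthUnitaryAutPlus
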