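import Cfsg.Agent.Lib.EvenCoxeterStem69
import Cfsg.Agent.Lib.OmegaEightTwo69
import Cfsg.Agent.S0817

/-!
Every double cover of POmega+(8,2) is the even subgroup of W(E8), and every automorphism of that
group is conjugation by an element of W(E8).
-/

set_option autoImplicit false
set_option maxRecDepth 4000

namespace Cfsg.Agent.Omega8CoverIso24

open Cfsg Cfsg.Agent.E8Even69 Cfsg.Agent.E8EvenData69 Cfsg.Agent.EvenCoxeterStem69
open Cfsg.Agent.CoxeterTables Cfsg.Agent.CoxeterData Cfsg.Agent.CoxeterCenter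
open scoped commutatorElement

universe u v

/-- product over the pairs of a word -/
def pairs {H : Type u} [Group H] (f : Fin 8 → H) : List ℕ → H
  | a :: b :: w => f (Fin.ofNat 8 a) * (f (Fin.ofNat 8 b))⁻¹ * pairs f w
  | _ => 1

theorem map_pairs {H : Type u} {H' : Type v} [Group H] [Group H'] (φ : H →* H') (f : Fin 8 → H) :
    ∀ w : List ℕ, φ (pairs f w) = pairs (fun i => φ (f i)) w
  | [] => map_one φ
  | [_] => map_one φ
  | a :: b :: w => by simp only [pairs, map_mul, map_inv, map_pairs φ f w]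

theorem pairs_x : ∀ (n : ℕ) (w : List ℕ), (∀ k ∈ w, k < 8) → w.length = 2 * n →
    ((pairs x w : Wp) : W) = wprod (gen C8) w
  | 0, w, _, h => by rw [List.eq_nil_of_length_eq_zero (by omega : w.length = 0)]; rfl
  | n + 1, [], _, h => by simp at h
  | n + 1, [_], _, h => by simp at h; omega
  | n + 1, a :: b :: w, hw, h => by
    have ha : (Fin.ofNat 8 a).val = a := Nat.mod_eq_of_lt (hw a (by simp))
    have hb : (Fin.ofNat 8 b).val = b := Nat.mod_eq_of_lt (hw b (by simp))
    rw [wprod_cons, wprod_cons, ← ha, ← hb, gen_val, gen_val, ha, hb]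
    simp only [pairs, Subgroup.coe_mul, Subgroup.coe_inv, coe_x, mul_inv_rev, s_inv]
    rw [pairs_x n w (fun k hk => hw k (by simp [hk])) (by simp at h; omega)]
    calc s (Fin.ofNat 8 a) * s 7 * (s 7 * s (Fin.ofNat 8 b)) * wprod (gen C8) w
        = s (Fin.ofNat 8 a) * (s 7 * s 7) * s (Fin.ofNat 8 b) * wprod (gen C8) w := by group
      _ = _ := by rw [s_sq, mul_one, mul_assoc]

theorem y_zero_pairs : y 0 = pairs x (twistW.getD 0 []) :=
  Subtype.ext (pairs_x ((twistW.getD 0 []).length / 2) _ (twist_words 0).1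
    (Nat.mul_div_cancel' (Nat.dvd_of_mod_eq_zero (twist_words 0).2)).symm).symm

/-- conjugation by an element of the Weyl group -/
def conjWp : W →* MulAut Wp := MulAut.conjNormal

theorem coe_conjWp (w : W) (a : Wp) : ((conjWp w a : Wp) : W) = w * a * w⁻¹ :=
  MulAut.conjNormal_apply w a

/-- the word of the third class -/
def wc : List ℕ := 7 :: twistW.getD 0 [] ++ [7]

/-- the conjugating word -/
def hc : List ℕ := [5, 7, 2, 7, 6, 7, 3, 7, 4, 7, 3, 7, 1, 7]

/-- the representative of the third class -/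
def yc : Wp := conjWp (s 7) (y 0)

/-- the conjugating element -/
def hh : Wp := pairs x hc

/-- the root action of a product over pairs of twisted generators -/
def actPairs : List ℕ → ℕ → ℕ
  | a :: b :: w, r => act twistP (a % 8) (act twistP (8 + b % 8) (actPairs w r))
  | _, r => r

theorem rho_y (i : Fin 8) (r : Fin 240) : (rho (y i : W) r).val = act twistP i.val r.val ∧
    (rho ((y i)⁻¹ : Wp) r).val = act twistP (8 + i.val) r.val := by
  constructor
  · show (rho (wprod (gen C8) (twistW.getD i.val [])) r).val = _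
    rw [rho_wprod _ (twist_words i).1]; exact (twist_perm i r).1
  · show (rho (wprod (gen C8) (twistW.getD i.val []))⁻¹ r).val = _
    rw [inv_wprod (gen_rels C8),
      rho_wprod _ (fun a ha => (twist_words i).1 a (List.mem_reverse.mp ha))]
    exact (twist_perm i r).2

theorem rho_pairs : ∀ (w : List ℕ) (r : Fin 240), (rho ((pairs y w : Wp) : W) r).val = actPairs w r.val
  | [], r => by simp [pairs, actPairs]
  | [_], r => by simp [pairs, actPairs]
  | a :: b :: w, r => by
    simp only [pairs, actPairs, Subgroup.coe_mul, map_mul, Equiv.Perm.mul_apply]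
    rw [(rho_y _ _).1, (rho_y _ _).2, rho_pairs w r]
    rfl

theorem yc_sq : yc * yc = z := by
  rw [yc, ← map_mul, y_zero_sq]
  refine Subtype.ext ?_
  rw [coe_conjWp, Subgroup.mem_center_iff.mp z_mem_center_W, mul_inv_cancel_right]

theorem wc_lt : ∀ k ∈ wc, k < 8 := by decide +kernel

theorem hc_lt : ∀ k ∈ hc, k < 8 := by decide +kernel

theorem yc_pairs : pairs x wc = yc := by
  refine Subtype.ext ((pairs_x ((twistW.getD 0 []).length / 2 + 1) _ wc_lt (by decide +kernel)).trans ?_)
  rw [yc, coe_conjWp, s_inv, wc, List.cons_append, wprod_cons, wprod_append, show gen C8 7 = s 7 from gen_val 7,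
    wprod_cons, wprod_nil, mul_one, show gen C8 7 = s 7 from gen_val 7, mul_assoc]
  rfl

/-- The twist fixes the third class. -/
theorem twist_yc : pairs y wc = z * (hh * yc * hh⁻¹) := by
  refine Subtype.ext (rho_injective (Equiv.ext fun r => Fin.ext ?_))
  rw [rho_pairs, Subgroup.coe_mul, map_mul, Equiv.Perm.mul_apply, rho_z]
  have e : ((hh * yc * hh⁻¹ : Wp) : W) = wprod (gen C8) (hc ++ wc ++ hc.reverse) := by
    rw [Subgroup.coe_mul, Subgroup.coe_mul, Subgroup.coe_inv, hh, pairs_x 7 hc hc_lt rfl,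
      wprod_append, wprod_append, inv_wprod (gen_rels C8), ← yc_pairs,
      pairs_x ((twistW.getD 0 []).length / 2 + 1) wc wc_lt (by decide +kernel)]
  rw [e, rho_wprod _ (by
    intro k hk
    rcases List.mem_append.mp hk with h | h
    · rcases List.mem_append.mp h with h | h
      · exact hc_lt k h
      · exact wc_lt k h
    · exact hc_lt k (List.mem_reverse.mp h))]
  have key : ∀ r : Fin 240, actPairs wc r.val =
      negL.getD (actWord e8Perm (hc ++ wc ++ hc.reverse) r.val) 0 := by decide +kernel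
  exact key r

variable {G : Type u} [Group G]

/-- the twisted surjection, with the images of all generators -/
theorem exists_twist_full [Finite G] [IsSimpleGroup G] (hG : commutator G = ⊤) (ψ : Wp →* G)
    (hψ : Function.Surjective ψ) (hker : ∀ w, ψ w = 1 ↔ w = 1 ∨ w = z) :
    ∃ ψ' : Wp →* G, Function.Surjective ψ' ∧ (∀ w, ψ' w = 1 ↔ w = 1 ∨ w = z) ∧
      ∀ i, ψ' (x i) = ψ (y i) := by
  have hA : Tuple fun i => ψ (y i) := by
    refine ⟨by simp [y_seven], fun i j => ?_⟩
    simp only []
    rw [← map_inv, ← map_mul, ← map_pow]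
    exact (hker _).mpr (y_rels i j)
  obtain ⟨ψ', h'⟩ := exists_hom hA
  obtain ⟨ψ₁, hs₁, hk₁, -⟩ := exists_twist ψ hψ hker hG
  have hn : (ψ'.ker.map ψ).Normal := Subgroup.Normal.map inferInstance ψ hψ
  rcases hn.eq_bot_or_eq_top with h | h
  · have hle : ψ'.ker ≤ ψ.ker := (Subgroup.map_eq_bot_iff _).mp h
    have hidx : ψ.ker.index = Nat.card G := by
      rw [Subgroup.index_ker, MonoidHom.range_eq_top.mpr hψ, Subgroup.card_top]
    have h1 : Nat.card G * Nat.card ψ.ker = Nat.card Wp := by
      rw [← hidx, mul_comm, Subgroup.card_mul_index]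
    have h2 : Nat.card ψ'.range * Nat.card ψ'.ker = Nat.card Wp := by
      rw [← Subgroup.index_ker, mul_comm, Subgroup.card_mul_index]
    have h3 : Nat.card ψ'.range ≤ Nat.card G := Subgroup.card_le_card_group _
    have h4 : Nat.card ψ'.ker ≤ Nat.card ψ.ker := Subgroup.card_le_of_le hle
    have h5 : Nat.card ψ.ker ≤ Nat.card ψ'.ker :=
      Nat.le_of_mul_le_mul_left (h1.le.trans (h2.ge.trans (Nat.mul_le_mul_right _ h3))) Nat.card_pos
    have heq : ψ'.ker = ψ.ker := Subgroup.eq_of_le_of_card_ge hle h5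
    refine ⟨ψ', ?_, fun w => ?_, h'⟩
    · rw [← MonoidHom.range_eq_top]
      refine Subgroup.eq_top_of_card_eq _ ?_
      rw [← Subgroup.index_ker, heq, hidx]
    · rw [← MonoidHom.mem_ker, heq, MonoidHom.mem_ker, hker]
  · exfalso
    have h1 := eq_top_of_map ψ hψ hker _ h
    rw [wp_perfect ψ hψ hker hG] at h1
    have h2 : ψ' (x 0) = 1 := h1 (Subgroup.mem_top _)
    rw [h'] at h2
    refine z_ne_one ?_
    rcases (hker _).mp h2 with h3 | h3
    · rw [← y_zero_sq, h3, one_mul]
    · rw [← y_zero_sq, h3, z_sq]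

section cover

variable [Finite G] [IsSimpleGroup G] (hG : commutator G = ⊤) (ψ : Wp →* G) (hψ : Function.Surjective ψ)
  (hker : ∀ w, ψ w = 1 ↔ w = 1 ∨ w = z)
variable {L : Type v} [Group L] [Finite L] (π : L →* G) (hπ : Function.Surjective π)
  (hc : π.ker ≤ Subgroup.center L) (hperf : commutator L = ⊤) (h2 : Nat.card π.ker = 2)

include h2 in
theorem ker_cases : ∃ c : L, π c = 1 ∧ c ≠ 1 ∧ c * c = 1 ∧ ∀ k, π k = 1 → k = 1 ∨ k = c := by
  obtain ⟨a, b, hab, hu⟩ := Nat.card_eq_two_iff.mp h2
  have hone : (1 : π.ker) = a ∨ (1 : π.ker) = b := by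
    have := Set.mem_univ (1 : π.ker); rw [← hu] at this; simpa using this
  obtain ⟨c, hc1, hall⟩ : ∃ c : π.ker, c ≠ 1 ∧ ∀ k : π.ker, k = 1 ∨ k = c := by
    rcases hone with rfl | rfl
    · exact ⟨b, hab.symm, fun k => by have := Set.mem_univ k; rw [← hu] at this; simpa using this⟩
    · exact ⟨a, hab, fun k => by
        have := Set.mem_univ k; rw [← hu] at this; simpa [or_comm] using this⟩
  refine ⟨c, c.2, fun h => hc1 (Subtype.ext h), ?_, fun k hk => ?_⟩
  · rcases hall (c * c) with h | h
    · simpa using congrArg Subtype.val h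
    · exact absurd (mul_eq_left.mp h) hc1
  · rcases hall ⟨k, hk⟩ with h | h
    · exact Or.inl (congrArg Subtype.val h)
    · exact Or.inr (congrArg Subtype.val h)

include hc h2 in
theorem sq_fibre {a b : L} (h : π a = π b) : a * a = b * b := by
  obtain ⟨c, -, -, hcc, hall⟩ := ker_cases π h2
  have hk : π (b⁻¹ * a) = 1 := by rw [map_mul, map_inv, h, inv_mul_cancel]
  obtain ⟨d, rfl⟩ : ∃ d, a = b * d := ⟨b⁻¹ * a, by group⟩
  rw [inv_mul_cancel_left] at hk
  have hd : d * d = 1 := by rcases hall d hk with rfl | rfl <;> simp [hcc]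
  have cm := Subgroup.mem_center_iff.mp (hc hk) b
  calc b * d * (b * d) = b * (d * b) * d := by group
    _ = b * (b * d) * d := by rw [cm]
    _ = b * b * (d * d) := by group
    _ = b * b := by rw [hd, mul_one]

include hψ hker hπ hc hperf h2 in
theorem iso_of_sq (hcard : Nat.card G = 174182400) (l : L) (hl : π l = ψ (x 0)) (hll : l * l = 1) :
    ∃ e : Wp ≃* L, ∀ w, π (e w) = ψ w := by
  have hA : Tuple fun i => ψ (x i) :=
    ⟨by simp [x_seven], fun i j => by simp only []; rw [← map_inv, ← map_mul, ← map_pow, x_tuple.2, map_one]⟩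
  obtain ⟨T, X, c, sT, sX, hc1, hcc, hsq, hbr, hcom, hX3, hinv, hlast⟩ :=
    exists_lift π hπ hc _ _ (rels_of_tuple hA)
  have hc0 : c = 1 := by
    rw [← hsq 0, sq_fibre π hc h2 (show π (T 0) = π l by rw [sT, hl]; rfl), hll]
  subst hc0
  have hr : Rels T X := by
    refine ⟨hsq, hbr, fun i j h => ?_, hX3, hinv, hlast⟩
    rcases eq_or_ne i j with rfl | hne
    · rfl
    exact commutatorElement_eq_one_iff_mul_comm.mp (hcom i j h hne)
  obtain ⟨χ, hχ⟩ := exists_hom hr.tuple
  have hcomp : π.comp χ = ψ := by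
    refine hom_ext fun i => ?_
    rw [MonoidHom.comp_apply, hχ]
    fin_cases i
    case «6» => exact sX
    case «7» =>
      show π 1 = _
      rw [map_one]; exact (by rw [x_seven, map_one] : ψ (x 7) = 1).symm
    all_goals exact sT _
  have hstem : IsStemExtension π := ⟨hπ, hc, by rw [hperf]; exact le_top⟩
  have hsurj : Function.Surjective χ := by
    rw [← MonoidHom.range_eq_top]
    refine SchurMultiplierBasic.stem_eq_top_of_map_eq_top hstem _ ?_
    rw [← MonoidHom.range_comp, hcomp, MonoidHom.range_eq_top.mpr hψ]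
  have hcl : Nat.card L = 348364800 := by
    have h := Subgroup.card_mul_index π.ker
    rw [Subgroup.index_ker, MonoidHom.range_eq_top.mpr hπ, Subgroup.card_top, hcard, h2] at h
    omega
  have hb : Function.Bijective χ :=
    (Nat.bijective_iff_surjective_and_card χ).mpr ⟨hsurj, by rw [card_Wp, hcl]⟩
  exact ⟨MulEquiv.ofBijective χ hb, fun w => DFunLike.congr_fun hcomp w⟩

include hψ hker hπ hc hperf h2 hG in
/-- A double cover is the even subgroup. -/
theorem nonempty_iso (hcard : Nat.card G = 174182400) : Nonempty (Wp ≃* L) := by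
  obtain ⟨c, hc1, hne, hcc, hall⟩ := ker_cases π h2
  obtain ⟨ψ', hψ', hker', h'⟩ := exists_twist_full hG ψ hψ hker
  have hψ1 : Function.Surjective (ψ.comp (conjWp (s 7)).toMonoidHom) :=
    hψ.comp (conjWp (s 7)).surjective
  have hker1 : ∀ w, ψ.comp (conjWp (s 7)).toMonoidHom w = 1 ↔ w = 1 ∨ w = z := fun w => by
    have hz : conjWp (s 7) z = z := Subtype.ext (by
      rw [coe_conjWp, Subgroup.mem_center_iff.mp z_mem_center_W, mul_inv_cancel_right])
    refine (hker _).trans ?_
    exact or_congr (map_eq_one_iff _ (MulEquiv.injective _))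
      ⟨fun h => (conjWp (s 7)).injective (h.trans hz.symm), fun h => by rw [h]; exact hz⟩
  obtain ⟨ψ'', hψ'', hker'', h''⟩ := exists_twist_full hG _ hψ1 hker1
  obtain ⟨la, hla⟩ := hπ (ψ (x 0))
  obtain ⟨lb, hlb⟩ := hπ (ψ' (x 0))
  obtain ⟨lc, hlc⟩ := hπ (ψ'' (x 0))
  have hsqc : ∀ l : L, ∀ (φ : Wp →* G), π l = φ (x 0) → l * l = 1 ∨ l * l = c := by
    intro l φ hl
    refine hall _ ?_
    rw [map_mul, hl, ← map_mul, x_zero_sq, map_one]
  rcases hsqc la ψ hla with ha | ha
  · exact ⟨(iso_of_sq ψ hψ hker π hπ hc hperf h2 hcard la hla ha).choose⟩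
  rcases hsqc lb ψ' hlb with hb | hb
  · exact ⟨(iso_of_sq ψ' hψ' hker' π hπ hc hperf h2 hcard lb hlb hb).choose⟩
  rcases hsqc lc ψ'' hlc with hcc' | hcc'
  · exact ⟨(iso_of_sq ψ'' hψ'' hker'' π hπ hc hperf h2 hcard lc hlc hcc').choose⟩
  exfalso
  -- the triple pullback has too large a stem kernel
  let M : Subgroup (L × Wp × Wp) :=
    ((π.comp (MonoidHom.fst _ _)).eqLocus (ψ.comp ((MonoidHom.fst _ _).comp (MonoidHom.snd _ _)))) ⊓
      ((π.comp (MonoidHom.fst _ _)).eqLocus (ψ'.comp ((MonoidHom.snd _ _).comp (MonoidHom.snd _ _))))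
  let p : M →* G := π.comp ((MonoidHom.fst _ _).comp M.subtype)
  have m1 : ∀ m : M, π m.1.1 = ψ m.1.2.1 := fun m => m.2.1
  have m2 : ∀ m : M, π m.1.1 = ψ' m.1.2.2 := fun m => m.2.2
  have hps : Function.Surjective p := fun g => by
    obtain ⟨a, ha'⟩ := hπ g
    obtain ⟨b, hb'⟩ := hψ g
    obtain ⟨b', hb''⟩ := hψ' g
    exact ⟨⟨(a, b, b'), ha'.trans hb'.symm, ha'.trans hb''.symm⟩, ha'⟩
  have hpc : p.ker ≤ Subgroup.center M := by
    intro m hm
    rw [Subgroup.mem_center_iff]
    intro g
    have e1 := Subgroup.mem_center_iff.1 (hc (show m.1.1 ∈ π.ker from hm))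
    have e2 := Subgroup.mem_center_iff.1 (ker_le_center ψ hker
      (show m.1.2.1 ∈ ψ.ker from (m1 m).symm.trans hm))
    have e3 := Subgroup.mem_center_iff.1 (ker_le_center ψ' hker'
      (show m.1.2.2 ∈ ψ'.ker from (m2 m).symm.trans hm))
    exact Subtype.ext (Prod.ext (e1 _) (Prod.ext (e2 _) (e3 _)))
  have hP := derived_perfect p hps hpc hG
  set p' := p.comp (commutator M).subtype with hp'
  have hle := card_ker_le ψ hψ (fun w => (hker w).mp) p' hP
  have val : ∀ (g : G) (l : L) (a b : Wp), π l = g → ψ a = g → ψ' b = g →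
      ∃ m : commutator M,
        ((m : M) : L × Wp × Wp).1 * ((m : M) : L × Wp × Wp).1 = l * l ∧
        ((m : M) : L × Wp × Wp).2.1 * ((m : M) : L × Wp × Wp).2.1 = a * a ∧
        ((m : M) : L × Wp × Wp).2.2 * ((m : M) : L × Wp × Wp).2.2 = b * b ∧ p' (m * m) = g * g := by
    intro g l a b hl ha' hb'
    obtain ⟨m, hm⟩ := hP.1 g
    have hm' : π ((m : M) : L × Wp × Wp).1 = g := hm
    exact ⟨m, sq_fibre π hc h2 (hm'.trans hl.symm),
      sq_of_fibre ψ hker (((m1 _).symm.trans hm').trans ha'.symm),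
      sq_of_fibre ψ' hker' (((m2 _).symm.trans hm').trans hb'.symm), by rw [map_mul, hm]⟩
  obtain ⟨b0, hb0⟩ := hψ' (ψ (x 0))
  have hu : b0 * b0 = 1 ∨ b0 * b0 = z := (hker' _).mp (by rw [map_mul, hb0, ← map_mul, x_zero_sq, map_one])
  -- the twist fixes the third class
  obtain ⟨h0, hh0⟩ := hψ' (ψ hh)
  have ec : ψ' (h0⁻¹ * yc * h0) = ψ yc := by
    have e1 : ψ' yc = ψ hh * ψ yc * (ψ hh)⁻¹ := by
      have h3 : ψ' yc = ψ (pairs y wc) := by
        rw [← yc_pairs, map_pairs, map_pairs]
        simp only [h']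
      rw [h3, twist_yc, map_mul, (hker z).mpr (Or.inr rfl), one_mul, map_mul, map_mul, map_inv]
    rw [map_mul, map_mul, map_inv, hh0, e1]; group
  have hbz : h0⁻¹ * yc * h0 * (h0⁻¹ * yc * h0) = z := by
    calc h0⁻¹ * yc * h0 * (h0⁻¹ * yc * h0) = h0⁻¹ * (yc * yc) * h0 := by group
      _ = z := by rw [yc_sq, mul_assoc, ← (Subgroup.mem_center_iff.mp z_mem_center h0)]; group
  have elc : π lc = ψ yc := hlc.trans (h'' 0)
  obtain ⟨mA, A1, A2, A3, A4⟩ := val _ la (x 0) b0 hla rfl hb0
  obtain ⟨mB, B1, B2, B3, B4⟩ := val (ψ (y 0)) lb (y 0) (x 0) (hlb.trans (h' 0)) rfl (h' 0)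
  obtain ⟨mC, C1, C2, C3, C4⟩ := val (ψ yc) lc yc (h0⁻¹ * yc * h0) elc rfl ec
  rw [ha] at A1; rw [hb] at B1; rw [hcc'] at C1
  rw [x_zero_sq] at A2 B3; rw [y_zero_sq] at B2; rw [yc_sq] at C2; rw [hbz] at C3
  have kA : p' (mA * mA) = 1 := by rw [A4, ← map_mul, x_zero_sq, map_one]
  have kB : p' (mB * mB) = 1 := by
    rw [B4, ← map_mul, y_zero_sq]; exact (hker z).mpr (Or.inr rfl)
  have kC : p' (mC * mC) = 1 := by
    rw [C4, ← map_mul, yc_sq]; exact (hker z).mpr (Or.inr rfl)
  let F : p'.ker → L × Wp × Wp := fun k => (((k : commutator M) : M) : L × Wp × Wp)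
  let qA : p'.ker := ⟨_, kA⟩
  let qB : p'.ker := ⟨_, kB⟩
  let qC : p'.ker := ⟨_, kC⟩
  have FA : F qA = (c, 1, b0 * b0) := Prod.ext A1 (Prod.ext A2 (by rw [← A3]; rfl))
  have FB : F qB = (c, z, 1) := Prod.ext B1 (Prod.ext B2 B3)
  have FC : F qC = (c, z, z) := Prod.ext C1 (Prod.ext C2 C3)
  have Fmul : ∀ a b, F (a * b) = F a * F b := fun _ _ => rfl
  obtain ⟨qD, hD⟩ : ∃ q, F q = (c, 1, 1) := by
    rcases hu with h | h
    · exact ⟨qA, by rw [FA, h]⟩
    · refine ⟨qA * (qB * qC), ?_⟩
      rw [Fmul, Fmul, FA, FB, FC, h]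
      simp [hcc, z_sq]
  have hsub : ({(1, 1, 1), (1, 1, z), (c, 1, 1), (c, z, 1), (c, z, z)} : Set (L × Wp × Wp)) ⊆
      Set.range F := by
    intro k hk
    simp only [Set.mem_insert_iff, Set.mem_singleton_iff] at hk
    rcases hk with rfl | rfl | rfl | rfl | rfl
    · exact ⟨1, rfl⟩
    · exact ⟨qB * qC, by rw [Fmul, FB, FC]; simp [hcc, z_sq]⟩
    · exact ⟨qD, hD⟩
    · exact ⟨qB, FB⟩
    · exact ⟨qC, FC⟩
  have h5 : ({(1, 1, 1), (1, 1, z), (c, 1, 1), (c, z, 1), (c, z, z)} : Set (L × Wp × Wp)).ncard = 5 := by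
    rw [Set.ncard_insert_of_notMem (by simp [hne.symm, z_ne_one.symm]),
      Set.ncard_insert_of_notMem (by simp [hne.symm, z_ne_one]),
      Set.ncard_insert_of_notMem (by simp [z_ne_one.symm]),
      Set.ncard_pair (by simp [z_ne_one.symm])]
  have := Set.ncard_le_ncard hsub (Set.toFinite _)
  rw [h5, ← Nat.card_coe_set_eq] at this
  have := this.trans (Finite.card_range_le F)
  omega

end cover

section aut

/-- An element of the Weyl group moving every root to itself or its negative is `1` or `z`. -/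
theorem eq_one_or_z_of_signs' (w : W)
    (h : ∀ r, rho w r = r ∨ rho w r = rho (z : W) r) : w = 1 ∨ w = (z : W) := by
  have key : ∀ g : W, w * g * sTheta * (w * g)⁻¹ = g * sTheta * g⁻¹ := by
    intro g
    have e : ∀ a : W, rho a 0 = rho g 0 → a * sTheta * a⁻¹ = g * sTheta * g⁻¹ := by
      intro a ha
      have h1 : rho (g⁻¹ * a) 0 = 0 := by
        rw [map_mul, Equiv.Perm.mul_apply, ha, map_inv, Equiv.Perm.coe_inv]
        exact Equiv.symm_apply_apply _ _
      have h2 := sTheta_comm (stab_zero h1)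
      calc a * sTheta * a⁻¹ = g * (g⁻¹ * a * sTheta) * (g⁻¹ * a)⁻¹ * g⁻¹ := by group
        _ = g * (sTheta * (g⁻¹ * a)) * (g⁻¹ * a)⁻¹ * g⁻¹ := by rw [h2]
        _ = g * sTheta * g⁻¹ := by group
    rcases h (rho g 0) with h1 | h1
    · exact e _ (by rw [map_mul, Equiv.Perm.mul_apply, h1])
    · have hz := Subgroup.mem_center_iff.mp z_mem_center_W
      have h2 := e ((z : W)⁻¹ * (w * g)) (by
        rw [map_mul, Equiv.Perm.mul_apply, map_mul, Equiv.Perm.mul_apply, h1, map_inv, Equiv.Perm.coe_inv]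
        exact Equiv.symm_apply_apply _ _)
      rw [← h2]
      have hc : ∀ y : W, (z : W)⁻¹ * y * (z : W) = y := fun y => by
        rw [mul_assoc, hz y, inv_mul_cancel_left]
      symm
      calc (z : W)⁻¹ * (w * g) * sTheta * ((z : W)⁻¹ * (w * g))⁻¹
          = (z : W)⁻¹ * (w * g * sTheta * (w * g)⁻¹) * (z : W) := by group
        _ = _ := hc _
  have hsimple : ∀ i : Fin 8, wprod (gen C8) (toSimple.getD i.val []) * sTheta *
      (wprod (gen C8) (toSimple.getD i.val []))⁻¹ = s i := by
    intro i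
    have chk : ∀ i : Fin 8, (∀ a ∈ toSimple.getD i.val [] ++ theta ++ (toSimple.getD i.val []).reverse, a < 8) ∧
        permList e8Perm 240 (toSimple.getD i.val [] ++ theta ++ (toSimple.getD i.val []).reverse) =
          permList e8Perm 240 [i.val] := by decide +kernel
    rw [inv_wprod (gen_rels C8), sTheta, ← wprod_append, ← wprod_append,
      eq_words (chk i).1 (by simp) (chk i).2]
    simp [gen_val]
  have hc : w ∈ Subgroup.center W := by
    rw [Subgroup.mem_center_iff]
    intro g
    induction g using C8.toCoxeterSystem.simple_induction_left with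
    | one => simp
    | mul_simple_left g i ih =>
      rw [CoxeterMatrix.toCoxeterSystem_simple]
      change s i * g * w = w * (s i * g)
      have hi : w * s i = s i * w := by
        have := key (wprod (gen C8) (toSimple.getD i.val []))
        rw [hsimple i] at this
        have h2 : w * s i * w⁻¹ = s i := by
          calc w * s i * w⁻¹
              = w * (wprod (gen C8) (toSimple.getD i.val []) * sTheta *
                  (wprod (gen C8) (toSimple.getD i.val []))⁻¹) * w⁻¹ := by rw [hsimple i]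
            _ = _ := by group
            _ = s i := this
        rw [mul_inv_eq_iff_eq_mul] at h2
        exact h2
      rw [mul_assoc, ih, ← mul_assoc, ← hi, mul_assoc]
  rw [← SetLike.mem_coe, center_W] at hc
  exact hc

theorem mu_eq_one {w : W} (h : OmegaEightTwo69.mu w = 1) : w = 1 ∨ w = (z : W) := by
  refine eq_one_or_z_of_signs' w fun r => ?_
  have h1 := OmegaEightTwo69.mu_red w r
  rw [h, Units.val_one, Matrix.one_mulVec] at h1
  rcases OmegaEightTwo69.red_fibre r _
      (OmegaEightTwo69.vec_inj (OmegaEightTwo69.red_lt r) (OmegaEightTwo69.red_lt _) h1).symm with h2 | h2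
  · exact Or.inl h2
  · exact Or.inr (Fin.ext (by rw [h2, rho_z]))

theorem eq_of_centralizes {w : W} (h : ∀ a : Wp, w * (a : W) = (a : W) * w) :
    w = 1 ∨ w = (z : W) := by
  refine mu_eq_one (OmegaEightTwo69.eq_one_of_commute _ fun i k => ?_)
  have h4 : OmegaEightTwo69.mu (((x i * (x k)⁻¹ : Wp)) : W) =
      OmegaEightTwo69.Mu i * OmegaEightTwo69.Mu k := by
    rw [← OmegaEightTwo69.mu_s, ← OmegaEightTwo69.mu_s, ← map_mul]
    refine congrArg OmegaEightTwo69.mu ?_
    rw [Subgroup.coe_mul, Subgroup.coe_inv, coe_x, coe_x, mul_inv_rev, s_inv, s_inv]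
    rw [show s i * s 7 * (s 7 * s k) = s i * (s 7 * s 7) * s k by group, s_sq, mul_one]
  rw [← h4, ← map_mul, ← map_mul, h]

theorem z_fixed (α : MulAut Wp) : α z = z := by
  have hc : ∀ g : Wp, Commute g (α z) := fun g => by
    have h := (Subgroup.mem_center_iff.mp z_mem_center (α.symm g))
    simpa [Commute, SemiconjBy] using congrArg α h
  have h := eq_of_centralizes (w := ((α z : Wp) : W)) fun a => (congrArg Subtype.val (hc a)).symm
  rcases h with h | h
  · exact absurd (α.injective ((Subtype.ext h : α z = 1).trans (map_one α).symm)) z_ne_one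
  · exact Subtype.ext h

variable [Finite G] [IsSimpleGroup G] (hG : commutator G = ⊤) (ψ : Wp →* G) (hψ : Function.Surjective ψ)
  (hker : ∀ w, ψ w = 1 ↔ w = 1 ∨ w = z)

include hG hψ hker in
/-- Every automorphism of the even subgroup is conjugation by an element of the Weyl group. -/
theorem aut_eq_conj (hA : Nat.card (MulAut G) = 6 * Nat.card G) (hcard : Nat.card G = 174182400)
    (α : MulAut Wp) : ∃ w : W, α = conjWp w := by
  haveI : Finite (MulAut G) := Nat.finite_of_card_ne_zero (by rw [hA, hcard]; norm_num)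
  have hperf : commutator Wp = ⊤ := wp_perfect ψ hψ hker hG
  have hz : ∀ (α : MulAut Wp) w, (ψ.comp α.toMonoidHom) w = 1 ↔ w = 1 ∨ w = z := fun α w => by
    refine (hker _).trans (or_congr (map_eq_one_iff _ α.injective)
      ⟨fun h => α.injective (h.trans (z_fixed α).symm), fun h => by rw [h]; exact z_fixed α⟩)
  -- the induced automorphism
  have hind : ∀ α : MulAut Wp, ∃ β : MulAut G, ∀ w, β (ψ w) = ψ (α w) := by
    intro α
    let f : G →* G := ψ.liftOfSurjective hψ ⟨ψ.comp α.toMonoidHom, fun w hw =>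
      (hz α w).mpr ((hker w).mp hw)⟩
    have hf : ∀ w, f (ψ w) = ψ (α w) := fun w =>
      MonoidHom.liftOfRightInverse_comp_apply _ _ (Function.rightInverse_surjInv hψ)
        ⟨ψ.comp α.toMonoidHom, fun w hw => (hz α w).mpr ((hker w).mp hw)⟩ w
    have hfb : Function.Bijective f := by
      refine Finite.surjective_iff_bijective.mp fun g => ?_
      obtain ⟨w, rfl⟩ := hψ g
      exact ⟨ψ (α.symm w), by rw [hf, MulEquiv.apply_symm_apply]⟩
    exact ⟨MulEquiv.ofBijective f hfb, hf⟩
  choose q hq using hind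
  let Q : MulAut Wp →* MulAut G :=
    MonoidHom.mk' q fun α β => MulEquiv.ext fun g => by
      obtain ⟨w, rfl⟩ := hψ g
      rw [MulAut.mul_apply, hq, hq, hq, MulAut.mul_apply]
  have hQ : Function.Injective Q := by
    rw [injective_iff_map_eq_one]
    intro α hα
    have hc : ∀ w, w⁻¹ * α w = 1 ∨ w⁻¹ * α w = z := fun w => (hker _).mp (by
      have h1 : q α (ψ w) = ψ w := by rw [show q α = Q α from rfl, hα]; rfl
      rw [map_mul, map_inv, ← hq, h1, inv_mul_cancel])
    let ε : Wp →* Subgroup.center Wp :=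
      MonoidHom.mk' (fun w => ⟨w⁻¹ * α w, by
        rcases hc w with h | h <;> rw [h]
        · exact one_mem _
        · exact z_mem_center⟩) fun u v => Subtype.ext (by
        show (u * v)⁻¹ * α (u * v) = u⁻¹ * α u * (v⁻¹ * α v)
        have hcu : Commute v⁻¹ (u⁻¹ * α u) := by
          rcases hc u with h | h <;> rw [h]
          · exact Commute.one_right _
          · exact Subgroup.mem_center_iff.mp z_mem_center _
        calc (u * v)⁻¹ * α (u * v) = v⁻¹ * (u⁻¹ * α u) * α v := by rw [map_mul]; group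
          _ = _ := by rw [hcu.eq]; group)
    have hker' : commutator Wp ≤ ε.ker := by
      rw [commutator_def, Subgroup.commutator_le]
      intro a _ b _
      rw [MonoidHom.mem_ker, map_commutatorElement, commutatorElement_eq_one_iff_commute]
      exact Subtype.ext (Subgroup.mem_center_iff.mp (ε b).2 _)
    refine MulEquiv.ext fun w => ?_
    have hw := congrArg Subtype.val (hker' (by rw [hperf]; exact Subgroup.mem_top w) : ε w = 1)
    show α w = w
    exact (inv_mul_eq_one.mp hw).symm
  set A := (Q.comp conjWp).range with hA'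
  have hk : Nat.card (Q.comp conjWp).ker = 2 := by
    have e : ((Q.comp conjWp).ker : Set W) = {1, (z : W)} := by
      ext w
      simp only [SetLike.mem_coe, MonoidHom.mem_ker, MonoidHom.comp_apply, Set.mem_insert_iff,
        Set.mem_singleton_iff]
      constructor
      · intro h
        refine eq_of_centralizes fun a => ?_
        have h1 : conjWp w a = a := by rw [hQ (h.trans (map_one Q).symm)]; rfl
        have h2 := congrArg Subtype.val h1
        rw [coe_conjWp] at h2
        exact mul_inv_eq_iff_eq_mul.mp h2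
      · rintro (rfl | rfl)
        · simp
        · rw [show conjWp (z : W) = 1 from MulEquiv.ext fun a => Subtype.ext (by
            rw [coe_conjWp, ← Subgroup.mem_center_iff.mp z_mem_center_W (a : W),
              mul_inv_cancel_right]; rfl), map_one]
    show Nat.card ((Q.comp conjWp).ker : Set W) = 2
    rw [Nat.card_congr (Equiv.setCongr e), Nat.card_coe_set_eq, Set.ncard_pair]
    exact fun h => z_ne_one (Subtype.ext h.symm)
  have hcA : Nat.card A = 348364800 := by
    have h := Subgroup.card_mul_index (Q.comp conjWp).ker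
    rw [Subgroup.index_ker, hk, card_W] at h
    exact Nat.eq_of_mul_eq_mul_left two_pos h
  have hAi : A.index = 3 := by
    have h := A.card_mul_index
    rw [hcA, hA, hcard] at h
    omega
  have hle : A ≤ Q.range := by
    rintro _ ⟨w, rfl⟩
    exact ⟨conjWp w, rfl⟩
  have hQA : Q.range = A := by
    have hdiv : Q.range.index ∣ 3 := hAi ▸ Subgroup.index_dvd_of_le hle
    rcases (Nat.dvd_prime Nat.prime_three).mp hdiv with h | h
    · exfalso
      -- the twist does not lift
      obtain ⟨ψ', hψ', hker', h'⟩ := exists_twist_full hG ψ hψ hker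
      let f : G →* G := ψ.liftOfSurjective hψ ⟨ψ', fun w hw => (hker' w).mpr ((hker w).mp hw)⟩
      have hf : ∀ w, f (ψ w) = ψ' w := fun w =>
        MonoidHom.liftOfRightInverse_comp_apply _ _ (Function.rightInverse_surjInv hψ)
          ⟨ψ', fun w hw => (hker' w).mpr ((hker w).mp hw)⟩ w
      have hfb : Function.Bijective f := by
        refine Finite.surjective_iff_bijective.mp fun g => ?_
        obtain ⟨w, rfl⟩ := hψ' g
        exact ⟨ψ w, hf w⟩
      obtain ⟨α, hα⟩ : MulEquiv.ofBijective f hfb ∈ Q.range := by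
        rw [Subgroup.index_eq_one.mp h]; exact Subgroup.mem_top _
      have h1 : ψ (α (x 0)) = ψ (y 0) := by
        rw [← hq, ← h', ← hf]; exact congrArg (fun e : MulAut G => e (ψ (x 0))) hα
      have h2 := sq_of_fibre ψ hker h1
      rw [← map_mul, x_zero_sq, map_one, y_zero_sq] at h2
      exact z_ne_one h2.symm
    · refine (Subgroup.eq_of_le_of_card_ge hle (Nat.le_of_mul_le_mul_right ?_ (show 0 < 3 by norm_num))).symm
      have h1 := A.card_mul_index
      have h2 := Q.range.card_mul_index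
      rw [hAi] at h1
      rw [h] at h2
      omega
  obtain ⟨w, hw⟩ : Q α ∈ A := hQA ▸ ⟨α, rfl⟩
  exact ⟨w, hQ hw.symm⟩

end aut

end Cfsg.Agent.Omega8CoverIso24
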