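import Cfsg.Agent.Lib.Omega8Sylow24

/-!
Centralisers of elements of order five in the Weyl group of type E8, as matrices modulo 2.
-/

set_option autoImplicit false
set_option maxRecDepth 20000

namespace Cfsg.Agent.Omega8FiveTables24

open Cfsg Cfsg.Agent.E8Even69 Cfsg.Agent.CoxeterTables
open Cfsg.Agent.Omega8Data24 Cfsg.Agent.Omega8Refl24 Cfsg.Agent.Omega8Sylow24 Cfsg.Agent.OmegaEightTwo69

/-- the word of a power -/
def pw (l : List ℕ) (k : ℕ) : List ℕ := (List.replicate k l).flatten

/-- the condition on the image of one seed -/
def selfOK (P : List (List ℕ)) (s c : ℕ) : Bool :=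
  (List.range 5).all fun k =>
    (qB (ap (P.getD k []) (red c) ^^^ red c) == qB (ap (P.getD k []) (red s) ^^^ red s)) &&
      (!decide (ap (P.getD k []) (red s) = red s) || decide (ap (P.getD k []) (red c) = red c))

/-- the domains cover the possible images -/
def domOK (P : List (List ℕ)) (seeds : List ℕ) (doms : List (List ℕ)) : Bool :=
  decide (doms.length = seeds.length) &&
    (seeds.zip doms).all fun sd => (List.range 120).all fun c => !selfOK P sd.1 c || decide (c ∈ sd.2)

/-- the condition on the image of the next seed -/
def okExt (P : List (List ℕ)) (seeds prev : List ℕ) (c : ℕ) : Bool :=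
  (List.range prev.length).all fun i => (List.range 5).all fun k =>
    qB (ap (P.getD k []) (red (prev.getD i 0)) ^^^ red c) ==
      qB (ap (P.getD k []) (red (seeds.getD i 0)) ^^^ red (seeds.getD prev.length 0))

/-- the vector of a mask -/
def comb' (P : List (List ℕ)) (cs : List ℕ) : List (ℕ × ℕ) → ℕ → ℕ
  | [], _ => 0
  | p :: l, m => (if m.testBit 0 then ap (P.getD p.2 []) (red (cs.getD p.1 0)) else 0) ^^^
      comb' P cs l (m / 2)

/-- the matrix from the images of the seeds -/
def build (P : List (List ℕ)) (basis : List (ℕ × ℕ)) (mask cs : List ℕ) : List ℕ :=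
  mask.map fun m => comb' P cs basis m

/-- the test of the matrix -/
def finalOK (cent : List (List ℕ × ℕ × List ℕ)) (cls : ℕ → Bool) (M : List ℕ) : Bool :=
  !decide (mm M M = E0) || decide (M = E0) ||
    cent.any fun e => decide (e.1 = M) && cls e.2.1 && entryOK M e.2.1 e.2.2

/-- the search -/
def search (P : List (List ℕ)) (seeds : List ℕ) (f : List ℕ → Bool) : List (List ℕ) → List ℕ → Bool
  | [], prev => f prev
  | d :: ds, prev => d.all fun c => !okExt P seeds prev c || search P seeds f ds (prev ++ [c])

/-- the classes for the first element -/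
def clsS (i : ℕ) : Bool := decide (i = 0) || decide (i = 1)

/-- the classes for the second element -/
def clsD (i : ℕ) : Bool := decide (i = 5)

theorem doms_ok : domOK powMS seedsS domS = true ∧ domOK powMD seedsD domD = true := by
  decide +kernel

set_option maxHeartbeats 0 in
theorem searchS : search powMS seedsS
    (fun cs => finalOK centS clsS (build powMS basisS maskS cs)) domS [] = true := by decide +kernel

set_option maxHeartbeats 0 in
theorem searchD : search powMD seedsD
    (fun cs => finalOK centD clsD (build powMD basisD maskD cs)) domD [] = true := by decide +kernel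

theorem consts : (powMS = (List.range 5).map fun k => Mw (pw xsW k)) ∧
    (powMD = (List.range 5).map fun k => Mw (pw xdW k)) ∧
    build powMS basisS maskS seedsS = E0 ∧ build powMD basisD maskD seedsD = E0 ∧
    (∀ p ∈ basisS, p.1 < seedsS.length ∧ p.2 < 5) ∧ (∀ p ∈ basisD, p.1 < seedsD.length ∧ p.2 < 5) ∧
    maskS.length = 8 ∧ maskD.length = 8 ∧
    (∀ a ∈ xsW ++ xdW ++ ysW ++ seedsS ++ seedsD, a < 120) := by decide +kernel

end Cfsg.Agent.Omega8FiveTables24
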