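import Cfsg.Agent.Lib.Omega8Refl24

/-!
Combinatorics of the root lines of E8: orthogonality, transitivity, orthogonal quadruples with sum
zero modulo 2, and the elements fixing a plane.
-/

set_option autoImplicit false
set_option maxRecDepth 20000

namespace Cfsg.Agent.Omega8Lines24

open Cfsg Cfsg.Agent.E8Even69 Cfsg.Agent.E8EvenData69 Cfsg.Agent.CoxeterTables Cfsg.Agent.CoxeterCenter
open Cfsg.Agent.Omega8Data24 Cfsg.Agent.Omega8Refl24 Cfsg.Agent.OmegaEightTwo69

/-- orthogonal lines -/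
def Orth (k l : ℕ) : Prop := k ≠ l ∧ act refP k l = l

instance (k l : ℕ) : Decidable (Orth k l) := inferInstanceAs (Decidable (_ ∧ _))

/-- the second line of the standard pair -/
def r2 : ℕ := (repL.getD 1 []).getD 1 0

theorem rep1 : repL.getD 1 [] = [0, r2] ∧ r2 < 120 ∧ Orth 0 r2 := by decide +kernel

theorem act_lt : ∀ k : Fin 120, ∀ r : Fin 240, act refP k.val r.val < 240 := by decide +kernel

theorem act_table : ∀ k l : Fin 120,
    (act refP k.val k.val = act refP l.val k.val → k = l) ∧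
    (k ≠ l → ¬ Orth k.val l.val → ln (act refP k.val l.val) = ln (act refP l.val k.val) ∧
      ln (act refP k.val l.val) ≠ l.val) := by decide +kernel

theorem R_inj {k l : ℕ} (hk : k < 120) (hl : l < 120) (h : R k = R l) : k = l := by
  have h1 := congrArg (fun w => (rho w ⟨k, by omega⟩).val) h
  simp only [rho_R hk, rho_R hl] at h1
  exact congrArg Fin.val ((act_table ⟨k, hk⟩ ⟨l, hl⟩).1 h1)

/-- the image of a line -/
noncomputable def lmap (w : W) (k : ℕ) : ℕ := ln (rho w (Fin.ofNat 240 k)).val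

theorem lmap_lt (w : W) (k : ℕ) : lmap w k < 120 := ln_lt (Fin.isLt _)

theorem conj_lmap (w : W) {k : ℕ} (hk : k < 120) : w * R k * w⁻¹ = R (lmap w k) := by
  have e : (Fin.ofNat 240 k).val = k := Nat.mod_eq_of_lt (by omega)
  have h := conj_R w (Fin.ofNat 240 k)
  rw [e] at h
  rw [h, lmap, R_ln (Fin.isLt _)]

theorem comm_of_orth {k l : ℕ} (hk : k < 120) (hl : l < 120) (h : Orth k l) : Commute (R k) (R l) := by
  have h1 := conj_R (R k) ⟨l, by omega⟩
  rw [rho_R hk, h.2] at h1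
  exact mul_inv_eq_iff_eq_mul.mp h1

theorem braid {k l : ℕ} (hk : k < 120) (hl : l < 120) (hne : k ≠ l) (h : ¬ Orth k l) :
    R k * R l * R k = R l * R k * R l ∧ ¬ Commute (R k) (R l) := by
  obtain ⟨h2, h3⟩ := (act_table ⟨k, hk⟩ ⟨l, hl⟩).2 (fun e => hne (congrArg Fin.val e)) h
  have e : ∀ {a b : ℕ} (ha : a < 120) (hb : b < 120), R a * R b * R a = R (ln (act refP a b)) := by
    intro a b ha hb
    have h1 := conj_R (R a) ⟨b, by omega⟩
    rw [rho_R ha, R_inv (by omega), R_ln (act_lt ⟨a, ha⟩ ⟨b, by omega⟩)] at h1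
    exact h1
  refine ⟨by rw [e hk hl, e hl hk, h2], fun hc => h3 (R_inj (ln_lt (act_lt ⟨k, hk⟩ ⟨l, by omega⟩)) hl ?_)⟩
  rw [← e hk hl, hc.eq, mul_assoc, R_sq (by omega), mul_one]

theorem orth_iff {k l : ℕ} (hk : k < 120) (hl : l < 120) (hne : k ≠ l) :
    Orth k l ↔ Commute (R k) (R l) :=
  ⟨comm_of_orth hk hl, fun h => by_contra fun h' => (braid hk hl hne h').2 h⟩

theorem orth_symm {k l : ℕ} (hk : k < 120) (hl : l < 120) (h : Orth k l) : Orth l k :=
  (orth_iff hl hk h.1.symm).mpr (comm_of_orth hk hl h).symm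

theorem cube_of_not_orth {k l : ℕ} (hk : k < 120) (hl : l < 120) (hne : k ≠ l) (h : ¬ Orth k l) :
    (R k * R l) * (R k * R l) * (R k * R l) = 1 := by
  calc R k * R l * (R k * R l) * (R k * R l) = (R k * R l * R k) * (R l * R k * R l) := by group
    _ = (R l * R k * R l) * (R l * R k * R l) := by rw [(braid hk hl hne h).1]
    _ = R l * R k * (R l * R l) * R k * R l := by group
    _ = R l * (R k * R k) * R l := by rw [R_sq (by omega)]; group
    _ = 1 := by rw [R_sq (by omega), mul_one, R_sq (by omega)]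

theorem lmap_inj (w : W) {k l : ℕ} (hk : k < 120) (hl : l < 120) (h : lmap w k = lmap w l) : k = l := by
  have h1 : w * R k * w⁻¹ = w * R l * w⁻¹ := by rw [conj_lmap w hk, conj_lmap w hl, h]
  exact R_inj hk hl (by simpa using h1)

theorem lmap_orth (w : W) {k l : ℕ} (hk : k < 120) (hl : l < 120) (h : Orth k l) :
    Orth (lmap w k) (lmap w l) := by
  refine (orth_iff (lmap_lt _ _) (lmap_lt _ _) (fun e => h.1 (lmap_inj w hk hl e))).mpr ?_
  have := (comm_of_orth hk hl h).map (MulAut.conj w)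
  rwa [MulAut.conj_apply, MulAut.conj_apply, conj_lmap w hk, conj_lmap w hl] at this

theorem lmap_mul (v w : W) {k : ℕ} (hk : k < 120) : lmap (v * w) k = lmap v (lmap w k) := by
  refine R_inj (lmap_lt _ _) (lmap_lt _ _) ?_
  rw [← conj_lmap _ hk, ← conj_lmap v (lmap_lt w k), ← conj_lmap w hk]
  group

theorem lmap_one {k : ℕ} (hk : k < 120) : lmap 1 k = k := by
  refine R_inj (lmap_lt _ _) hk ?_
  rw [← conj_lmap 1 hk]; group

theorem lmap_inv_cancel (w : W) {k : ℕ} (hk : k < 120) : lmap w⁻¹ (lmap w k) = k := by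
  rw [← lmap_mul _ _ hk, inv_mul_cancel, lmap_one hk]

theorem red_ln : ∀ r : Fin 240, red (ln r.val) = red r.val := by decide +kernel

theorem apL_xor (M : List ℕ) : ∀ (l : List Ix) (a b : ℕ), apL M l (a ^^^ b) = apL M l a ^^^ apL M l b
  | [], _, _ => by simp [apL]
  | i :: l, a, b => by
    simp only [apL, apL_xor M l a b, Nat.testBit_xor]
    cases a.testBit (pos i) <;> cases b.testBit (pos i) <;>
      simp [Nat.xor_comm, Nat.xor_assoc, Nat.xor_left_comm]

theorem red_lmap (w : W) {k : ℕ} (hk : k < 120) : red (lmap w k) = ap (Mof w) (red k) := by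
  have e : (Fin.ofNat 240 k).val = k := Nat.mod_eq_of_lt (by omega)
  rw [lmap, red_ln, ← ap_red, e]

theorem red_inj {k l : ℕ} (hk : k < 120) (hl : l < 120) (h : red k = red l) : k = l := by
  rcases red_fibre ⟨l, by omega⟩ ⟨k, by omega⟩ h with e | e
  · exact congrArg Fin.val e
  · rw [negL_getD] at e
    simp only at e
    omega

/-- sum modulo 2 of four lines -/
def sum4 (a b c d : ℕ) : ℕ := red a ^^^ red b ^^^ red c ^^^ red d

theorem sum4_lmap (w : W) {a b c d : ℕ} (ha : a < 120) (hb : b < 120) (hc : c < 120) (hd : d < 120)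
    (h : sum4 a b c d = 0) : sum4 (lmap w a) (lmap w b) (lmap w c) (lmap w d) = 0 := by
  unfold sum4
  rw [red_lmap w ha, red_lmap w hb, red_lmap w hc, red_lmap w hd, ap, ap, ap, ap, ← apL_xor, ← apL_xor,
    ← apL_xor]
  rw [show red a ^^^ red b ^^^ red c ^^^ red d = 0 from h]
  simp [coords, apL]

/-- all letters are lines -/
def okLines (l : List ℕ) : Bool := l.all fun k => decide (k < 120)

theorem trans_tables : ∀ k : Fin 120,
    okLines (toZero.getD k.val []) = true ∧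
      ln (actWord refP (toZero.getD k.val []) k.val) = 0 ∧
    (Orth 0 k.val → okLines (toSecond.getD k.val []) = true ∧
      ln (actWord refP (toSecond.getD k.val []) k.val) = r2 ∧
      ln (actWord refP (toSecond.getD k.val []) 0) = 0) := by decide +kernel

theorem lmap_pR {l : List ℕ} (hl : okLines l = true) {k : ℕ} (hk : k < 120) :
    lmap (pR l) k = ln (actWord refP l k) := by
  have e : (Fin.ofNat 240 k).val = k := Nat.mod_eq_of_lt (by omega)
  rw [lmap, rho_pR (fun a ha => by simpa using (List.all_eq_true.mp hl) a ha), e]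

theorem exists_to_zero {a : ℕ} (ha : a < 120) : ∃ g : W, lmap g a = 0 := by
  obtain ⟨h1, h2, -⟩ := trans_tables ⟨a, ha⟩
  exact ⟨_, (lmap_pR h1 ha).trans h2⟩

theorem exists_to_pair {a b : ℕ} (ha : a < 120) (hb : b < 120) (h : Orth a b) :
    ∃ g : W, lmap g a = 0 ∧ lmap g b = r2 := by
  obtain ⟨g, hg⟩ := exists_to_zero ha
  have ho : Orth 0 (lmap g b) := hg ▸ lmap_orth g ha hb h
  obtain ⟨-, -, h3⟩ := trans_tables ⟨lmap g b, lmap_lt _ _⟩
  obtain ⟨h4, h5, h6⟩ := h3 ho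
  refine ⟨pR (toSecond.getD (lmap g b) []) * g, ?_, ?_⟩
  · rw [lmap_mul _ _ ha, hg, lmap_pR h4 (show (0 : ℕ) < 120 by norm_num)]; exact h6
  · rw [lmap_mul _ _ hb, lmap_pR h4 (lmap_lt _ _)]; exact h5

theorem exists_even_conj {k l : ℕ} (hk : k < 120) (hl : l < 120) :
    ∃ a : Wp, (a : W) * R k * (a : W)⁻¹ = R l := by
  obtain ⟨g, hg⟩ := exists_to_zero hk
  obtain ⟨g', hg'⟩ := exists_to_zero hl
  have e : lmap (g'⁻¹ * g) k = l := by
    rw [lmap_mul _ _ hk, hg, ← hg', lmap_inv_cancel _ hl]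
  set u := g'⁻¹ * g with hu
  have he : u * R k * u⁻¹ = R l := by rw [conj_lmap u hk, e]
  by_cases h : u ∈ Wp
  · exact ⟨⟨u, h⟩, he⟩
  · refine ⟨⟨u * R k, ?_⟩, ?_⟩
    · have h2 : sgn u ≠ 1 := fun e => h ((mem_Wp_iff u).mpr e)
      have : ∀ q : Multiplicative (ZMod 2), q ≠ 1 → q * Multiplicative.ofAdd 1 = 1 := by decide
      rw [mem_Wp_iff, map_mul, sgn_R hk]
      exact this _ h2
    · show u * R k * R k * (u * R k)⁻¹ = R l
      rw [← he]; group

/-! ### quadruples -/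

/-- pairwise orthogonal -/
def Quad (a b c d : ℕ) : Prop := Orth a b ∧ Orth a c ∧ Orth a d ∧ Orth b c ∧ Orth b d ∧ Orth c d

theorem quad_exists : ∀ c d : Fin 120, Orth 0 c.val → Orth r2 c.val → Orth 0 d.val → Orth r2 d.val →
    Orth c.val d.val → sum4 0 r2 c.val d.val = 0 →
    (quadW.any fun t => decide (t.getD 2 0 < 120 ∧ t.getD 3 0 < 120 ∧ t.getD 4 0 < 120 ∧
      Orth (t.getD 2 0) (t.getD 4 0) ∧
      t.getD 2 0 ≠ t.getD 3 0 ∧ ¬ Orth (t.getD 2 0) (t.getD 3 0) ∧
      t.getD 3 0 ≠ t.getD 4 0 ∧ ¬ Orth (t.getD 3 0) (t.getD 4 0) ∧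
      ∀ x ∈ [t.getD 2 0, t.getD 3 0, t.getD 4 0],
        Orth x 0 ∧ Orth x r2 ∧ Orth x c.val ∧ Orth x d.val)) = true := by decide +kernel

theorem quad_conv : ∀ c d : Fin 120, Orth 0 c.val → Orth r2 c.val → Orth 0 d.val → Orth r2 d.val →
    Orth c.val d.val → sum4 0 r2 c.val d.val ≠ 0 →
    (let P := (List.range 120).filter fun x =>
        decide (Orth x 0 ∧ Orth x r2 ∧ Orth x c.val ∧ Orth x d.val)
     P.all fun x => P.all fun y => decide (x = y ∨ Orth x y)) = true := by decide +kernel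

theorem exists_triangle {a b c d : ℕ} (ha : a < 120) (hb : b < 120) (hc : c < 120) (hd : d < 120)
    (hq : Quad a b c d) (h0 : sum4 a b c d = 0) :
    ∃ x y w, x < 120 ∧ y < 120 ∧ w < 120 ∧ Orth x w ∧ x ≠ y ∧ ¬ Orth x y ∧ y ≠ w ∧ ¬ Orth y w ∧
      ∀ u ∈ [x, y, w], Orth u a ∧ Orth u b ∧ Orth u c ∧ Orth u d := by
  obtain ⟨g, ga, gb⟩ := exists_to_pair ha hb hq.1
  obtain ⟨hab, hac, had, hbc, hbd, hcd⟩ := hq
  have hs := sum4_lmap g ha hb hc hd h0
  rw [ga, gb] at hs
  have h := quad_exists ⟨_, lmap_lt g c⟩ ⟨_, lmap_lt g d⟩ (ga ▸ lmap_orth g ha hc hac)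
    (gb ▸ lmap_orth g hb hc hbc) (ga ▸ lmap_orth g ha hd had) (gb ▸ lmap_orth g hb hd hbd)
    (lmap_orth g hc hd hcd) hs
  obtain ⟨t, -, ht⟩ := List.any_eq_true.mp h
  obtain ⟨hx, hy, hw, o1, n1, o2, n2, o3, hall⟩ := of_decide_eq_true ht
  have back : ∀ {u : ℕ}, u < 120 → ∀ {v : ℕ}, v < 120 → Orth u (lmap g v) → Orth (lmap g⁻¹ u) v := by
    intro u hu v hv h
    have := lmap_orth g⁻¹ hu (lmap_lt g v) h
    rwa [lmap_inv_cancel g hv] at this
  have fwd : ∀ {u v : ℕ}, u < 120 → v < 120 → Orth (lmap g⁻¹ u) (lmap g⁻¹ v) → Orth u v := by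
    intro u v hu hv h
    have := lmap_orth g (lmap_lt _ _) (lmap_lt _ _) h
    rwa [← lmap_mul _ _ hu, ← lmap_mul _ _ hv, mul_inv_cancel, lmap_one hu, lmap_one hv] at this
  refine ⟨_, _, _, lmap_lt g⁻¹ (t.getD 2 0), lmap_lt g⁻¹ (t.getD 3 0), lmap_lt g⁻¹ (t.getD 4 0),
    lmap_orth _ hx hw o1, fun e => n1 (lmap_inj _ hx hy e), fun e => o2 (fwd hx hy e),
    fun e => n2 (lmap_inj _ hy hw e), fun e => o3 (fwd hy hw e), ?_⟩
  intro u hu
  simp only [List.mem_cons, List.not_mem_nil, or_false] at hu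
  have key : ∀ x, x ∈ [t.getD 2 0, t.getD 3 0, t.getD 4 0] → x < 120 →
      Orth (lmap g⁻¹ x) a ∧ Orth (lmap g⁻¹ x) b ∧ Orth (lmap g⁻¹ x) c ∧ Orth (lmap g⁻¹ x) d :=
    fun x hx' hlt => by
      obtain ⟨h1, h2, h3, h4⟩ := hall x hx'
      exact ⟨back hlt ha (ga.symm ▸ h1), back hlt hb (gb.symm ▸ h2), back hlt hc h3, back hlt hd h4⟩
  rcases hu with rfl | rfl | rfl
  · exact key _ (by simp) hx
  · exact key _ (by simp) hy
  · exact key _ (by simp) hw

theorem sum_zero_of_edge {a b c d x y : ℕ} (ha : a < 120) (hb : b < 120) (hc : c < 120) (hd : d < 120)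
    (hx : x < 120) (hy : y < 120) (hq : Quad a b c d) (hne : x ≠ y) (hxy : ¬ Orth x y)
    (h : ∀ u ∈ [x, y], Orth u a ∧ Orth u b ∧ Orth u c ∧ Orth u d) : sum4 a b c d = 0 := by
  obtain ⟨g, ga, gb⟩ := exists_to_pair ha hb hq.1
  obtain ⟨hab, hac, had, hbc, hbd, hcd⟩ := hq
  by_contra h0
  have hs : sum4 0 r2 (lmap g c) (lmap g d) ≠ 0 := by
    intro e
    refine h0 ?_
    have := sum4_lmap g⁻¹ (by norm_num) rep1.2.1 (lmap_lt g c) (lmap_lt g d) e
    rwa [show lmap g⁻¹ 0 = a by rw [← ga, lmap_inv_cancel g ha],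
      show lmap g⁻¹ r2 = b by rw [← gb, lmap_inv_cancel g hb], lmap_inv_cancel g hc,
      lmap_inv_cancel g hd] at this
  have hP := quad_conv ⟨_, lmap_lt g c⟩ ⟨_, lmap_lt g d⟩ (ga ▸ lmap_orth g ha hc hac)
    (gb ▸ lmap_orth g hb hc hbc) (ga ▸ lmap_orth g ha hd had) (gb ▸ lmap_orth g hb hd hbd)
    (lmap_orth g hc hd hcd) hs
  simp only [List.all_eq_true, List.mem_filter, List.mem_range, decide_eq_true_eq] at hP
  have mk : ∀ {u : ℕ}, u < 120 → Orth u a ∧ Orth u b ∧ Orth u c ∧ Orth u d →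
      lmap g u < 120 ∧ Orth (lmap g u) 0 ∧ Orth (lmap g u) r2 ∧ Orth (lmap g u) (lmap g c) ∧
        Orth (lmap g u) (lmap g d) := fun hu h' =>
    ⟨lmap_lt _ _, ga ▸ lmap_orth g hu ha h'.1, gb ▸ lmap_orth g hu hb h'.2.1,
      lmap_orth g hu hc h'.2.2.1, lmap_orth g hu hd h'.2.2.2⟩
  rcases hP _ (mk hx (h x (by simp))) _ (mk hy (h y (by simp))) with e | e
  · exact hne (lmap_inj g hx hy e)
  · refine hxy ?_
    have := lmap_orth g⁻¹ (lmap_lt g x) (lmap_lt g y) e
    rwa [lmap_inv_cancel g hx, lmap_inv_cancel g hy] at this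

/-! ### commutators fixing roots -/

theorem rho_neg (w : W) (r : Fin 240) :
    rho w (rho (z : W) r) = rho (z : W) (rho w r) := by
  rw [← Equiv.Perm.mul_apply, ← map_mul, Subgroup.mem_center_iff.mp z_mem_center_W w, map_mul,
    Equiv.Perm.mul_apply]

theorem ln_cases (r s : Fin 240) (h : ln r.val = ln s.val) : r = s ∨ r = rho (z : W) s := by
  rw [Fin.ext_iff, Fin.ext_iff, rho_z, negL_getD]
  unfold ln at h
  omega

theorem commutator_fix {a b : W} {r : Fin 240} (ha : rho a r = r ∨ rho a r = rho (z : W) r)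
    (hb : rho b r = r ∨ rho b r = rho (z : W) r) : rho (a * b * a⁻¹ * b⁻¹) r = r := by
  have hzz : rho (z : W) (rho (z : W) r) = r := by
    rw [← Equiv.Perm.mul_apply, ← map_mul, ← Subgroup.coe_mul, z_sq]; simp
  have hinv : ∀ {c : W}, rho c r = r ∨ rho c r = rho (z : W) r → rho c⁻¹ r = rho c r := by
    intro c hc
    rw [map_inv, Equiv.Perm.inv_def, Equiv.symm_apply_eq]
    rcases hc with e | e <;> rw [e]
    · rw [e]
    · rw [rho_neg, e, hzz]
  have ia := hinv ha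
  simp only [map_mul, Equiv.Perm.mul_apply, hinv hb]
  rcases hb with eb | eb <;> rcases ha with ea | ea <;>
    simp only [eb, ea, ia, rho_neg, hzz]

theorem fix_line {a : W} (ha : Commute a (R 0)) : rho a 0 = 0 ∨ rho a 0 = rho (z : W) 0 := by
  refine ln_cases _ _ ?_
  refine R_inj (ln_lt (Fin.isLt _)) (by decide) ?_
  have h := conj_R a 0
  rw [Fin.val_zero] at h
  rw [← R_ln (Fin.isLt _), ← h, ha.eq, mul_inv_cancel_right]
  rfl

theorem R0_neg : rho (R 0) 0 = rho (z : W) 0 := by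
  refine Fin.ext ?_
  rw [rho_R (by norm_num), rho_z]
  decide +kernel

theorem comm_fix_zero {a b : W} (ha : Commute a (R 0)) (hb : Commute b (R 0)) :
    rho (a * b * a⁻¹ * b⁻¹) 0 = 0 :=
  commutator_fix (fix_line ha) (fix_line hb)

theorem plane_neg : ∀ r : Fin 240, actWord refP [0, r2] r.val = 239 - r.val → ln r.val = 0 ∨ ln r.val = r2 := by
  decide +kernel

theorem plane_neg' : rho (pR [0, r2]) 0 = rho (z : W) 0 ∧
    rho (pR [0, r2]) ⟨r2, by decide⟩ = rho (z : W) ⟨r2, by decide⟩ := by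
  constructor <;> refine Fin.ext ?_ <;> rw [rho_pR (by decide), rho_z] <;> decide +kernel

theorem line_set {a : W} (ha : Commute a (pR [0, r2])) {r : Fin 240}
    (hr : rho (pR [0, r2]) r = rho (z : W) r) : ln (rho a r).val = 0 ∨ ln (rho a r).val = r2 := by
  refine plane_neg _ ?_
  have h : rho (pR [0, r2]) (rho a r) = rho (z : W) (rho a r) := by
    rw [← Equiv.Perm.mul_apply, ← map_mul, ← ha.eq, map_mul, Equiv.Perm.mul_apply, hr, rho_neg]
  have h1 := congrArg Fin.val h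
  rwa [rho_pR (by decide), rho_z, negL_getD] at h1

theorem double_fix_zero {a b c d : W} (ha : Commute a (pR [0, r2])) (hb : Commute b (pR [0, r2]))
    (hc : Commute c (pR [0, r2])) (hd : Commute d (pR [0, r2])) :
    rho ((a * b * a⁻¹ * b⁻¹) * (c * d * c⁻¹ * d⁻¹) * (a * b * a⁻¹ * b⁻¹)⁻¹ * (c * d * c⁻¹ * d⁻¹)⁻¹) 0
      = 0 := by
  -- the action on the two lines of the plane is abelian
  have key : ∀ a b : W, Commute a (pR [0, r2]) → Commute b (pR [0, r2]) →
      lmap (a * b * a⁻¹ * b⁻¹) 0 = 0 := by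
    intro a b ha hb
    have hset : ∀ a : W, Commute a (pR [0, r2]) →
        (lmap a 0 = 0 ∨ lmap a 0 = r2) ∧ (lmap a r2 = 0 ∨ lmap a r2 = r2) := by
      intro a ha
      refine ⟨line_set ha plane_neg'.1, ?_⟩
      have h := line_set ha plane_neg'.2
      rwa [show (⟨r2, by decide⟩ : Fin 240) = Fin.ofNat 240 r2 from Fin.ext (by decide)] at h
    have h2 : r2 < 120 := rep1.2.1
    have hne : (0 : ℕ) ≠ r2 := rep1.2.2.1
    have hcomm : lmap (a * b) 0 = lmap (b * a) 0 := by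
      rw [lmap_mul _ _ (by norm_num), lmap_mul _ _ (by norm_num)]
      obtain ⟨a0, a2⟩ := hset a ha
      obtain ⟨b0, b2⟩ := hset b hb
      have ia : lmap a 0 ≠ lmap a r2 := fun e => hne (lmap_inj a (by norm_num) h2 e)
      have ib : lmap b 0 ≠ lmap b r2 := fun e => hne (lmap_inj b (by norm_num) h2 e)
      rcases a0 with ea | ea <;> rcases b0 with eb | eb <;> rcases a2 with ea2 | ea2 <;>
        rcases b2 with eb2 | eb2 <;> simp_all
    have h3 : lmap (a * b * a⁻¹ * b⁻¹) (lmap (b * a) 0) = lmap (a * b) 0 := by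
      rw [← lmap_mul _ _ (by norm_num)]
      congr 1
      group
    rw [hcomm] at h3
    have hba : lmap (b * a) 0 = 0 ∨ lmap (b * a) 0 = r2 := (hset _ (hb.mul_left ha)).1
    rcases hba with e | e
    · rwa [e] at h3
    · rw [e] at h3
      have hv := hset _ (((ha.mul_left hb).mul_left ha.inv_left).mul_left hb.inv_left)
      rcases hv.1 with e0 | e0
      · exact e0
      · exact absurd (lmap_inj _ (by norm_num) h2 (e0.trans h3.symm)) hne
  have sg : ∀ {e : W}, lmap e 0 = 0 → rho e 0 = 0 ∨ rho e 0 = rho (z : W) 0 := fun {e} h =>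
    ln_cases _ _ h
  exact commutator_fix (sg (key a b ha hb)) (sg (key c d hc hd))

theorem plane_comm : ∀ k : Fin 120,
    permList refP 240 [k.val, 0, r2] = permList refP 240 [0, r2, k.val] →
      k.val = 0 ∨ k.val = r2 ∨ (Orth 0 k.val ∧ Orth r2 k.val) := by decide +kernel

end Cfsg.Agent.Omega8Lines24
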