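import Cfsg.Agent.Lib.Omega8Classes24
import Cfsg.Agent.Lib.Omega8FiveTables24
import Cfsg.Agent.Lib.Omega8Lines24

/-!
Elements of order five in the Weyl group of type E8: the classes of the involutions modulo the centre
which commute with one.
-/

set_option autoImplicit false
set_option maxRecDepth 20000

namespace Cfsg.Agent.Omega8Five24

open Cfsg Cfsg.Agent.E8Even69 Cfsg.Agent.CoxeterTables Cfsg.Agent.CoxeterCenter
open Cfsg.Agent.Omega8Data24 Cfsg.Agent.Omega8Refl24 Cfsg.Agent.Omega8Sylow24 Cfsg.Agent.OmegaEightTwo69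
open Cfsg.Agent.Omega8FiveTables24 Cfsg.Agent.Omega8Lines24
open Matrix

theorem ap_lt (w : W) (n : ℕ) : ap (Mof w) n < 256 := apL_lt (Mof_lt w) _ _

theorem ap_xor (M : List ℕ) (a b : ℕ) : ap M (a ^^^ b) = ap M a ^^^ ap M b := apL_xor M coords a b

theorem red_lt' {a : ℕ} (h : a < 120) : red a < 256 := red_lt ⟨a, by omega⟩

theorem ap_mul (a b : W) {n : ℕ} (hn : n < 256) : ap (Mof (a * b)) n = ap (Mof a) (ap (Mof b) n) := by
  have h := mu_ap (a * b) hn
  rw [map_mul, Units.val_mul, ← Matrix.mulVec_mulVec, mu_ap b hn, mu_ap a (ap_lt b n)] at h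
  exact (vec_inj (ap_lt _ _) (ap_lt _ _) h).symm

theorem qB_ap (w : W) {n : ℕ} (hn : n < 256) : qB (ap (Mof w) n) = qB n := by
  have h : Cfsg.quadFormPlus 4 (ZMod 2) ((mu w : Matrix Ix Ix (ZMod 2)) *ᵥ vec n) =
      Cfsg.quadFormPlus 4 (ZMod 2) (vec n) := mu_mem w (vec n) (vec n)
  rw [mu_ap w hn] at h
  rw [q_vec ⟨_, ap_lt w n⟩, q_vec ⟨n, hn⟩] at h
  revert h
  cases qB n <;> cases hq : qB (ap (Mof w) n) <;> simp [hq]

theorem E0_ap : ∀ b : Ix, ap E0 (2 ^ pos b) = 2 ^ pos b := by decide +kernel

theorem search_sound {P : List (List ℕ)} {seeds : List ℕ} {f : List ℕ → Bool} {img : ℕ → ℕ}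
    (hok : ∀ prev : List ℕ, prev.length < seeds.length →
      (∀ i < prev.length, prev.getD i 0 = img i) → okExt P seeds prev (img prev.length) = true) :
    ∀ (doms : List (List ℕ)) (prev : List ℕ), prev.length + doms.length = seeds.length →
      (∀ i < doms.length, img (prev.length + i) ∈ doms.getD i []) →
      (∀ i < prev.length, prev.getD i 0 = img i) →
      search P seeds f doms prev = true → ∃ cs : List ℕ, cs.length = seeds.length ∧
        (∀ i < cs.length, cs.getD i 0 = img i) ∧ f cs = true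
  | [], prev, hl, _, hp, h => ⟨prev, by simpa using hl, hp, h⟩
  | d :: ds, prev, hl, hd, hp, h => by
    simp only [List.length_cons] at hl
    have h1 := (List.all_eq_true.mp h) (img prev.length) (by simpa using hd 0 (by simp))
    rw [hok prev (by omega) hp] at h1
    simp only [Bool.not_true, Bool.false_or] at h1
    refine search_sound hok ds (prev ++ [img prev.length]) (by simp; omega) (fun i hi' => ?_) ?_ h1
    · have := hd (i + 1) (by simp; omega)
      simpa [add_assoc, add_comm 1 i] using this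
    · intro i hi'
      simp only [List.length_append, List.length_singleton] at hi'
      rcases Nat.lt_or_ge i prev.length with h' | h'
      · rw [List.getD_append _ _ _ _ h']; exact hp i h'
      · obtain rfl : i = prev.length := by omega
        simp

/-- The soundness of a check. -/
theorem check_sound {X : List ℕ} {P : List (List ℕ)} {seeds : List ℕ} {basis : List (ℕ × ℕ)}
    {mask : List ℕ} {cent : List (List ℕ × ℕ × List ℕ)} {cls : ℕ → Bool} {doms : List (List ℕ)}
    (hX : ∀ a ∈ X, a < 120) (hP : P = (List.range 5).map fun k => Mw (pw X k))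
    (hid : build P basis mask seeds = E0) (hb : ∀ p ∈ basis, p.1 < seeds.length ∧ p.2 < 5)
    (hs : ∀ a ∈ seeds, a < 120) (hdom : domOK P seeds doms = true)
    (hc : search P seeds (fun cs => finalOK cent cls (build P basis mask cs)) doms [] = true)
    {w : W} (hwx : Commute w (pR X)) (hsq : w * w = 1 ∨ w * w = (z : W)) :
    w = 1 ∨ w = (z : W) ∨ ∃ i, cls i = true ∧ Cls i w := by
  have hpw : ∀ k, (∀ a ∈ pw X k, a < 120) ∧ Commute w (pR (pw X k)) := by
    intro k
    induction k with
    | zero => exact ⟨by simp [pw], Commute.one_right w⟩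
    | succ k ih =>
      rw [pw, List.replicate_succ, List.flatten_cons, ← pw]
      refine ⟨fun a ha => (List.mem_append.mp ha).elim (hX a) (ih.1 a), ?_⟩
      rw [pR_append]
      exact hwx.mul_right ih.2
  have hPk : ∀ k < 5, P.getD k [] = Mof (pR (pw X k)) := by
    intro k hk
    rw [hP, Mof_pR (hpw k).1, List.getD_eq_getElem _ _ (by simpa using hk)]
    simp
  have hsd : ∀ i, seeds.getD i 0 < 120 := by
    intro i
    rcases Nat.lt_or_ge i seeds.length with h | h
    · rw [List.getD_eq_getElem _ _ h]; exact hs _ (List.getElem_mem h)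
    · rw [List.getD_eq_default _ _ h]; norm_num
  set img : ℕ → ℕ := fun i => lmap w (seeds.getD i 0) with himg
  have hi : ∀ i, img i < 120 := fun i => lmap_lt _ _
  have hr : ∀ i, red (img i) = ap (Mof w) (red (seeds.getD i 0)) := fun i => red_lmap w (hsd i)
  have hmove : ∀ k < 5, ∀ i, ap (P.getD k []) (red (img i)) =
      ap (Mof w) (ap (P.getD k []) (red (seeds.getD i 0))) := by
    intro k hk i
    have h256 : red (seeds.getD i 0) < 256 := red_lt' (hsd i)
    rw [hPk k hk, hr, ← ap_mul _ _ h256, ← ap_mul _ _ h256, (hpw k).2.eq]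
  have hok : ∀ prev : List ℕ, prev.length < seeds.length →
      (∀ i < prev.length, prev.getD i 0 = img i) → okExt P seeds prev (img prev.length) = true := by
    intro prev _ hp
    simp only [okExt, List.all_eq_true, List.mem_range, beq_iff_eq]
    intro i hi' k hk
    rw [hp i hi', hmove k hk i, hr prev.length, ← ap_xor]
    refine qB_ap w ?_
    refine Nat.xor_lt_two_pow (n := 8) ?_ (red_lt' (hsd prev.length))
    rw [hPk k hk]
    exact apL_lt (Mof_lt _) _ _
  obtain ⟨hdl, hdall⟩ : doms.length = seeds.length ∧ ((seeds.zip doms).all fun sd =>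
      (List.range 120).all fun c => !selfOK P sd.1 c || decide (c ∈ sd.2)) = true := by
    simpa [domOK, Bool.and_eq_true] using hdom
  have hself : ∀ i, selfOK P (seeds.getD i 0) (img i) = true := by
    intro i
    simp only [selfOK, List.all_eq_true, List.mem_range, Bool.and_eq_true, beq_iff_eq, Bool.or_eq_true,
      Bool.not_eq_true', decide_eq_false_iff_not, decide_eq_true_eq]
    intro k hk
    rw [hmove k hk i, hr i, ← ap_xor]
    refine ⟨qB_ap w ?_, ?_⟩
    · refine Nat.xor_lt_two_pow (n := 8) ?_ (red_lt' (hsd i))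
      rw [hPk k hk]
      exact apL_lt (Mof_lt _) _ _
    · by_cases h : ap (P.getD k []) (red (seeds.getD i 0)) = red (seeds.getD i 0)
      · exact Or.inr (congrArg (ap (Mof w)) h)
      · exact Or.inl h
  obtain ⟨cs, hl, hcs, hf⟩ := search_sound hok doms [] (by simpa using hdl) (fun i hi' => by
      simp only [List.length_nil, Nat.zero_add]
      have hm : (seeds.getD i 0, doms.getD i []) ∈ seeds.zip doms := by
        rw [List.mem_iff_getElem]
        refine ⟨i, by simp; omega, ?_⟩
        simp [List.getElem?_eq_getElem (show i < seeds.length by omega), List.getElem?_eq_getElem hi']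
      have h1 := (List.all_eq_true.mp ((List.all_eq_true.mp hdall) _ hm)) (img i)
        (List.mem_range.mpr (hi i))
      rw [hself i] at h1
      simpa using h1) (by simp) hc
  have hcomb : ∀ (l : List (ℕ × ℕ)) (m : ℕ), (∀ p ∈ l, p.1 < seeds.length ∧ p.2 < 5) →
      comb' P cs l m = ap (Mof w) (comb' P seeds l m) := by
    intro l
    induction l with
    | nil => intro m _; simp [comb', ap, coords, apL]
    | cons p l ih =>
      intro m hl'
      obtain ⟨hp1, hp2⟩ := hl' p (by simp)
      have h1 := hmove p.2 hp2 p.1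
      rw [← hcs p.1 (by rw [hl]; exact hp1)] at h1
      simp only [comb']
      rw [ih _ (fun q hq => hl' q (by simp [hq])), ap_xor]
      congr 1
      split_ifs
      · exact h1
      · simp [ap, coords, apL]
  have hM : build P basis mask cs = Mof w := by
    have h1 : build P basis mask cs = E0.map (ap (Mof w)) := by
      rw [← hid, build, build, List.map_map]
      exact List.map_congr_left fun m _ => hcomb basis m hb
    rw [h1]
    have h2 := Mof_mul w 1
    rw [mul_one, Mof_one, mm] at h2
    exact h2.symm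
  have hMsq : mm (Mof w) (Mof w) = E0 := by
    rw [← Mof_mul]
    rcases hsq with e | e <;> rw [e]
    · exact Mof_one
    · exact Mof_z
  rw [hM] at hf
  simp only [finalOK, hMsq, decide_true, Bool.not_true, Bool.false_or, Bool.or_eq_true,
    decide_eq_true_eq, List.any_eq_true, Bool.and_eq_true] at hf
  rcases hf with hf | ⟨e, -, ⟨he, hcl⟩, hent⟩
  · rcases Mof_inj (hf.trans Mof_one.symm) with e | e
    · exact Or.inl e
    · exact Or.inr (Or.inl (by rwa [mul_one] at e))
  · exact Or.inr (Or.inr ⟨_, hcl, (entry_sound hent rfl).2⟩)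

/-- the alternatives for an element of order five -/
theorem five_cases {x : W} (hx : x ^ 5 = 1) (hne : x ≠ 1) :
    ((∀ w : W, (w * w = 1 ∨ w * w = (z : W)) → Commute w x → w = 1 ∨ w = (z : W) ∨ Cls 0 w ∨ Cls 1 w) ∧
      ∀ a b c, a < 120 → b < 120 → c < 120 → Orth a b → Orth a c → Orth b c →
        Commute (R a) x → Commute (R b) x → ¬ Commute (R c) x) ∨
    (∀ w : W, (w * w = 1 ∨ w * w = (z : W)) → Commute w x → w = 1 ∨ w = (z : W) ∨ Cls 5 w) := by
  obtain ⟨hPS, hPD, hidS, hidD, hbS, hbD, -, -, hlt⟩ := consts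
  have hxs : ∀ a ∈ xsW, a < 120 := fun a ha => hlt a (by simp [ha])
  have hxd : ∀ a ∈ xdW, a < 120 := fun a ha => hlt a (by simp [ha])
  have hys : ∀ a ∈ ysW, a < 120 := fun a ha => hlt a (by simp [ha])
  obtain ⟨u, k, hk1, hk5, D, hD, hu⟩ : ∃ (u : W) (k : ℕ), 1 ≤ k ∧ k < 5 ∧ ∃ D : Bool,
      (D = true ∨ D = false) ∧ u * x * u⁻¹ = (if D then pR xdW else pR xsW) ^ k :=
    reduce hx hne
  have hgen : ∀ X : List ℕ, pR X ^ 5 = 1 → u * x * u⁻¹ = pR X ^ k → ∀ w : W, Commute w x →
      Commute (u * w * u⁻¹) (pR X) := by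
    intro X h5 he w hw
    have h1 : Commute (u * w * u⁻¹) (pR X ^ k) := he ▸ hw.map (MulAut.conj u)
    have hkinv : ∀ k : Fin 5, 1 ≤ k.val → ∃ m : Fin 5, (k.val * m.val) % 5 = 1 := by decide
    obtain ⟨m, hkm⟩ := hkinv ⟨k, hk5⟩ hk1
    have hkm' : k * m.val % 5 = 1 := hkm
    have h2 := h1.pow_right m.val
    rwa [← pow_mul, ← Nat.div_add_mod (k * m.val) 5, hkm', pow_add, pow_mul, h5, one_pow, one_mul,
      pow_one] at h2
  have hsqc : ∀ w : W, (w * w = 1 ∨ w * w = (z : W)) →
      (u * w * u⁻¹) * (u * w * u⁻¹) = 1 ∨ (u * w * u⁻¹) * (u * w * u⁻¹) = (z : W) := by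
    intro w hw
    rw [show u * w * u⁻¹ * (u * w * u⁻¹) = u * (w * w) * u⁻¹ by group]
    rcases hw with e | e <;> rw [e]
    · simp
    · right; rw [Subgroup.mem_center_iff.mp z_mem_center_W u, mul_inv_cancel_right]
  have hback : ∀ w : W, u * w * u⁻¹ = 1 ∨ u * w * u⁻¹ = (z : W) → w = 1 ∨ w = (z : W) := by
    intro w hw
    rcases hw with e | e
    · left; simpa using e
    · right
      rw [show w = u⁻¹ * (u * w * u⁻¹) * u by group, e, Subgroup.mem_center_iff.mp z_mem_center_W u⁻¹,
        inv_mul_cancel_right]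
  rcases hD with rfl | rfl
  · refine Or.inr fun w hw hwx => ?_
    simp only [if_true] at hu
    rcases check_sound hxd hPD hidD hbD (fun a ha => hlt a (by simp [ha])) doms_ok.2 searchD
      (hgen xdW five_d hu w hwx) (hsqc w hw) with e | e | ⟨i, hi, hc⟩
    · exact (hback w (Or.inl e)).elim Or.inl fun h => Or.inr (Or.inl h)
    · exact (hback w (Or.inr e)).elim Or.inl fun h => Or.inr (Or.inl h)
    · simp only [clsD, decide_eq_true_eq] at hi
      exact Or.inr (Or.inr (Omega8Classes24.Cls.conj u (hi ▸ hc)))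
  · simp only [Bool.false_eq_true, if_false] at hu
    refine Or.inl ⟨fun w hw hwx => ?_, ?_⟩
    · rcases check_sound hxs hPS hidS hbS (fun a ha => hlt a (by simp [ha])) doms_ok.1 searchS
        (hgen xsW five_s hu w hwx) (hsqc w hw) with e | e | ⟨i, hi, hc⟩
      · exact (hback w (Or.inl e)).elim Or.inl fun h => Or.inr (Or.inl h)
      · exact (hback w (Or.inr e)).elim Or.inl fun h => Or.inr (Or.inl h)
      · simp only [clsS, Bool.or_eq_true, decide_eq_true_eq] at hi
        rcases hi with rfl | rfl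
        · exact Or.inr (Or.inr (Or.inl (Omega8Classes24.Cls.conj u hc)))
        · exact Or.inr (Or.inr (Or.inr (Omega8Classes24.Cls.conj u hc)))
    · intro a b c ha hb hc hab hac hbc ca cb cc
      have fx : ∀ a < 120, Commute (R a) x → lmap (pR xsW) (lmap u a) = lmap u a := by
        intro a ha hax
        have h1 : Commute (R (lmap u a)) (pR xsW) := by
          rw [← conj_lmap u ha]; exact hgen xsW five_s hu _ hax
        refine R_inj (lmap_lt _ _) (lmap_lt _ _) ?_
        rw [← conj_lmap (pR xsW) (lmap_lt u a), ← h1.eq, mul_inv_cancel_right]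
      have key := fixed_triples
      simp only [List.all_eq_true, List.mem_filter, List.mem_range, decide_eq_true_eq] at key
      have mem : ∀ a < 120, Commute (R a) x → lmap u a < 120 ∧
          ln (actWord refP xsW (lmap u a)) = lmap u a := by
        intro a ha hax
        refine ⟨lmap_lt _ _, ?_⟩
        rw [← lmap_pR (by decide : okLines xsW = true) (lmap_lt _ _)]
        exact fx a ha hax
      have h := key _ (mem a ha ca) _ (mem b hb cb) _ (mem c hc cc)
      simp only [Bool.not_eq_true', decide_eq_false_iff_not] at h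
      exact h ⟨lmap_orth u ha hb hab, lmap_orth u ha hc hac, lmap_orth u hb hc hbc⟩
where
  five_s : pR xsW ^ 5 = 1 := by
    have hl : ∀ a ∈ xsW ++ xsW ++ xsW ++ xsW ++ xsW, a < 120 := by decide +kernel
    rw [show pR xsW ^ 5 = pR (xsW ++ xsW ++ xsW ++ xsW ++ xsW) by simp only [pR_append, pow_succ, pow_zero, one_mul],
      pR_eq hl (by simp) (show permList refP 240 (xsW ++ xsW ++ xsW ++ xsW ++ xsW) = permList refP 240 [] by decide +kernel)]
    rfl
  five_d : pR xdW ^ 5 = 1 := by
    have hl : ∀ a ∈ xdW ++ xdW ++ xdW ++ xdW ++ xdW, a < 120 := by decide +kernel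
    rw [show pR xdW ^ 5 = pR (xdW ++ xdW ++ xdW ++ xdW ++ xdW) by simp only [pR_append, pow_succ, pow_zero, one_mul],
      pR_eq hl (by simp) (show permList refP 240 (xdW ++ xdW ++ xdW ++ xdW ++ xdW) = permList refP 240 [] by decide +kernel)]
    rfl
  five_y : pR ysW ^ 5 = 1 := by
    have hl : ∀ a ∈ ysW ++ ysW ++ ysW ++ ysW ++ ysW, a < 120 := by decide +kernel
    rw [show pR ysW ^ 5 = pR (ysW ++ ysW ++ ysW ++ ysW ++ ysW) by simp only [pR_append, pow_succ, pow_zero, one_mul],
      pR_eq hl (by simp) (show permList refP 240 (ysW ++ ysW ++ ysW ++ ysW ++ ysW) = permList refP 240 [] by decide +kernel)]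
    rfl
  comm_y : Commute (pR xsW) (pR ysW) := by
    show pR xsW * pR ysW = pR ysW * pR xsW
    rw [← pR_append, ← pR_append]
    exact pR_eq (by decide +kernel) (by decide +kernel) (by decide +kernel)
  fixed_triples : (let P := (List.range 120).filter fun a => decide (ln (actWord refP xsW a) = a)
      P.all fun a => P.all fun b => P.all fun c => !decide (Orth a b ∧ Orth a c ∧ Orth b c)) = true := by
    decide +kernel
  table : ∀ i j : Fin 5, ¬ (i.val = 0 ∧ j.val = 0) →
      (let e := fiveC.getD (5 * i.val + j.val) (2, 0, [])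
       1 ≤ e.2.1 ∧ e.2.1 < 5 ∧ e.1 < 2 ∧ (∀ a ∈ e.2.2, a < 120) ∧
        Mw (e.2.2 ++ (pw xsW i.val ++ pw ysW j.val)) =
          Mw (pw (if e.1 = 1 then xdW else xsW) e.2.1 ++ e.2.2)) := by decide +kernel
  pw_eq {l : List ℕ} (k : ℕ) (hl : ∀ a ∈ l, a < 120) : pR (pw l k) = pR l ^ k ∧ ∀ a ∈ pw l k, a < 120 := by
    induction k with
    | zero => exact ⟨by simp [pw], by simp [pw]⟩
    | succ k ih =>
      rw [pw, List.replicate_succ, List.flatten_cons, ← pw, pR_append, pow_succ']
      exact ⟨by rw [ih.1], fun a ha => (List.mem_append.mp ha).elim (hl a) (ih.2 a)⟩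
  reduce {x : W} (hx : x ^ 5 = 1) (hne : x ≠ 1) : ∃ (u : W) (k : ℕ), 1 ≤ k ∧ k < 5 ∧ ∃ D : Bool,
      (D = true ∨ D = false) ∧ u * x * u⁻¹ = (if D then pR xdW else pR xsW) ^ k := by
    have : Fact (Nat.Prime 5) := ⟨by norm_num⟩
    have hlt : ∀ a ∈ xsW ++ xdW ++ ysW, a < 120 := fun a ha => consts.2.2.2.2.2.2.2.2 a (by
      simp only [List.mem_append] at ha ⊢; tauto)
    have hxs : ∀ a ∈ xsW, a < 120 := fun a ha => hlt a (by simp [ha])
    have hxd : ∀ a ∈ xdW, a < 120 := fun a ha => hlt a (by simp [ha])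
    have hys : ∀ a ∈ ysW, a < 120 := fun a ha => hlt a (by simp [ha])
    set a := pR xsW
    set b := pR ysW
    let f : Fin 5 × Fin 5 → W := fun p => a ^ p.1.val * b ^ p.2.val
    have hmod : ∀ {c : W}, c ^ 5 = 1 → ∀ n, c ^ n = c ^ (n % 5) := fun {c} hc n => by
      conv_lhs => rw [← Nat.div_add_mod n 5, pow_add, pow_mul, hc, one_pow, one_mul]
    have hfm : ∀ p q, f p * f q = f (p + q) := by
      intro p q
      simp only [f, Prod.fst_add, Prod.snd_add, Fin.val_add]
      rw [← hmod five_s, ← hmod five_y, pow_add, pow_add]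
      exact ((comm_y.symm.pow_pow p.2.val q.1.val).mul_mul_mul_comm _ _)
    let H : Subgroup W :=
      { carrier := Set.range f
        one_mem' := ⟨(0, 0), by simp [f]⟩
        mul_mem' := by rintro _ _ ⟨p, rfl⟩ ⟨q, rfl⟩; exact ⟨p + q, (hfm p q).symm⟩
        inv_mem' := by
          rintro _ ⟨p, rfl⟩
          refine ⟨-p, (inv_eq_of_mul_eq_one_right ?_).symm⟩
          rw [hfm, add_neg_cancel]; simp [f] }
    have hnt : ∀ p : Fin 5 × Fin 5, p ≠ 0 → ∃ (g : W) (k : ℕ) (D : Bool), 1 ≤ k ∧ k < 5 ∧
        (g * f p * g⁻¹ = (if D then pR xdW else a) ^ k ∨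
          g * f p * g⁻¹ = (z : W) * (if D then pR xdW else a) ^ k) := by
      intro p hp
      obtain ⟨h1, h2, h3, h4, h5⟩ := table p.1 p.2 (fun h => hp (Prod.ext (Fin.ext h.1) (Fin.ext h.2)))
      set e := fiveC.getD (5 * p.1.val + p.2.val) (2, 0, []) with he
      obtain ⟨i1, i2⟩ := pw_eq p.1.val hxs
      obtain ⟨j1, j2⟩ := pw_eq p.2.val hys
      have hX : ∀ a ∈ (if e.1 = 1 then xdW else xsW), a < 120 := by
        split_ifs; exacts [hxd, hxs]
      obtain ⟨k1, k2⟩ := pw_eq e.2.1 hX
      have h6 : Mof (pR e.2.2 * f p) = Mof (pR (if e.1 = 1 then xdW else xsW) ^ e.2.1 * pR e.2.2) := by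
        show Mof (pR e.2.2 * (pR xsW ^ p.1.val * pR ysW ^ p.2.val)) = _
        rw [← i1, ← j1, ← k1, ← pR_append, ← pR_append, ← pR_append, Mof_pR, Mof_pR, h5]
        · exact fun x hx => (List.mem_append.mp hx).elim (k2 x) (h4 x)
        · exact fun x hx => (List.mem_append.mp hx).elim (h4 x)
            fun h => (List.mem_append.mp h).elim (i2 x) (j2 x)
      refine ⟨pR e.2.2, e.2.1, decide (e.1 = 1), h1, h2, ?_⟩
      have hif : (if (decide (e.1 = 1) : Bool) = true then pR xdW else a) =
          pR (if e.1 = 1 then xdW else xsW) := by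
        by_cases h : e.1 = 1 <;> simp [h, a]
      rw [hif]
      rcases Mof_inj h6 with h7 | h7
      · exact Or.inl (by rw [h7, mul_inv_cancel_right])
      · exact Or.inr (by rw [h7, ← mul_assoc, mul_inv_cancel_right])
    have hfinj : Function.Injective f := by
      intro p q hpq
      by_contra hne'
      have h0 : f (p - q) = 1 := by
        have h1 := hfm (p - q) q
        rw [sub_add_cancel, ← hpq] at h1
        exact mul_eq_right.mp h1
      obtain ⟨g, k, D, hk1, hk5, hg⟩ := hnt (p - q) (sub_ne_zero.mpr hne')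
      rw [h0, mul_one, mul_inv_cancel] at hg
      have key : ∀ k : Fin 5, k.val ≠ 0 → Mw (pw xdW k.val) ≠ E0 ∧ Mw (pw xsW k.val) ≠ E0 := by
        decide +kernel
      obtain ⟨kd, ks⟩ := key ⟨k, hk5⟩ (by simp; omega)
      have hM : Mof ((if D then pR xdW else a) ^ k) = E0 := by
        rcases hg with e | e
        · rw [← e, Mof_one]
        · rw [← Mof_z, show (if D then pR xdW else a) ^ k = (z : W) by
            have hzz : (z : W) * (z : W) = 1 := by rw [← Subgroup.coe_mul, z_sq]; rfl
            calc (if D then pR xdW else a) ^ k = (z : W) * ((z : W) * (if D then pR xdW else a) ^ k) := by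
                  rw [← mul_assoc, hzz, one_mul]
              _ = (z : W) := by rw [← e, mul_one]]
      cases D
      · simp only [Bool.false_eq_true, if_false] at hM
        rw [show a = pR xsW from rfl, ← (pw_eq k hxs).1, Mof_pR (pw_eq k hxs).2] at hM
        exact ks hM
      · simp only [if_true] at hM
        rw [← (pw_eq k hxd).1, Mof_pR (pw_eq k hxd).2] at hM
        exact kd hM
    have hH : Nat.card H = 5 ^ Nat.factorization (Nat.card W) 5 := by
      show Nat.card (Set.range f) = _
      rw [Nat.card_range_of_injective hfinj, Nat.card_prod, Nat.card_fin, card_W,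
        show 696729600 = 5 ^ 2 * 27869184 by norm_num, Nat.factorization_mul (by norm_num) (by norm_num),
        Nat.Prime.factorization_pow (by norm_num), Finsupp.add_apply, Finsupp.single_eq_same,
        Nat.factorization_eq_zero_of_not_dvd (by norm_num : ¬ 5 ∣ 27869184)]
      rfl
    have hP : IsPGroup 5 ↥(Subgroup.zpowers x) := by
      rintro ⟨y, n, rfl⟩
      refine ⟨1, Subtype.ext ?_⟩
      show (x ^ n) ^ (5 ^ 1) = 1
      rw [pow_one, ← zpow_natCast, ← _root_.zpow_mul, mul_comm, _root_.zpow_mul, zpow_natCast, hx, _root_.one_zpow]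
    obtain ⟨Q, hQ⟩ := hP.exists_le_sylow
    obtain ⟨v, hv⟩ := MulAction.exists_smul_eq W Q (Sylow.ofCard H hH)
    have hmem : v * x * v⁻¹ ∈ H := by
      have h1 : v * x * v⁻¹ ∈ ((v • Q : Sylow 5 W) : Subgroup W) :=
        Subgroup.mem_map.mpr ⟨x, hQ (Subgroup.mem_zpowers x), rfl⟩
      rw [hv] at h1
      exact h1
    obtain ⟨p, hp⟩ := hmem
    have hp0 : p ≠ 0 := by
      rintro rfl
      refine hne ?_
      have : v * x * v⁻¹ = 1 := by rw [← hp]; simp [f]
      simpa using this
    obtain ⟨g, k, D, hk1, hk5, hg⟩ := hnt p hp0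
    refine ⟨g * v, k, hk1, hk5, D, (by cases D <;> simp), ?_⟩
    rw [hp] at hg
    have e : g * v * x * (g * v)⁻¹ = g * (v * x * v⁻¹) * g⁻¹ := by group
    rw [e]
    refine hg.resolve_right fun hz => z_ne_one (Subtype.ext ?_)
    set y := (if D then pR xdW else a) ^ k
    have hy : y ^ 5 = 1 := by
      rw [show y = (if D then pR xdW else a) ^ k from rfl, ← pow_mul, mul_comm, pow_mul]
      cases D
      · simp [a, five_s]
      · simp [five_d]
    have h1 : (g * (v * x * v⁻¹) * g⁻¹) ^ 5 = 1 := by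
      rw [conj_pow, conj_pow, hx]; simp
    have hzc : Commute (z : W) y := (Subgroup.mem_center_iff.mp z_mem_center_W y).symm
    rw [hz, hzc.mul_pow, hy, mul_one] at h1
    have hzz : (z : W) * (z : W) = 1 := by rw [← Subgroup.coe_mul, z_sq]; rfl
    rw [show (z : W) ^ 5 = ((z : W) * (z : W)) * ((z : W) * (z : W)) * (z : W) by
      simp [pow_succ, mul_assoc], hzz, one_mul, one_mul] at h1
    exact h1

end Cfsg.Agent.Omega8Five24
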