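import Cfsg.Agent.Lib.Omega8FusionLine24

/-!
The central involution of an embedded copy of the even subgroup of W(E8) is the only conjugate
commuting with it.
-/

set_option autoImplicit false
set_option maxRecDepth 4000

namespace Cfsg.Agent.Omega8Fusion24

open Cfsg Cfsg.Agent.E8Even69 Cfsg.Agent.Omega8CoverIso24 Cfsg.Agent.CoxeterCenter
open Cfsg.Agent.Omega8Data24 Cfsg.Agent.Omega8Refl24 Cfsg.Agent.Omega8Sylow24 Cfsg.Agent.Omega8Lines24
open Cfsg.Agent.Omega8Witness24 Cfsg.Agent.Omega8Std24 Cfsg.Agent.Omega8FusionBase24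
open Cfsg.Agent.Omega8FusionPlane24 Cfsg.Agent.Omega8FusionLine24

universe u

variable {G : Type u} [Group G] {ι : Wp →* G} {C : Subgroup G}

theorem ok_parts : (∀ k ∈ oaR, k < 120) ∧ (∀ k ∈ oaG, k < 120) ∧ (∀ k ∈ ocR, k < 120) ∧
    (∀ k ∈ ocG, k < 120) ∧ (∀ k ∈ ob1R, k < 120) ∧ (∀ k ∈ ob1G, k < 120) ∧ (∀ k ∈ ob2R, k < 120) ∧
    (∀ k ∈ ob2G, k < 120) ∧ (∀ k ∈ qq1R, k < 120) ∧ (∀ k ∈ qq1G, k < 120) ∧ (∀ k ∈ qq2R, k < 120) ∧
    (∀ k ∈ qq2G, k < 120) ∧ (∀ k ∈ neg1W, k < 120) ∧ (∀ k ∈ neg2W, k < 120) ∧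
    ob1R.length % 2 = 0 ∧ ob2R.length % 2 = 0 ∧ qq1R.length % 2 = 0 ∧ qq2R.length % 2 = 0 := by
  decide +kernel

theorem app {a b : List ℕ} (ha : ∀ k ∈ a, k < 120) (hb : ∀ k ∈ b, k < 120) : ∀ k ∈ a ++ b, k < 120 :=
  fun k hk => (List.mem_append.mp hk).elim (ha k) (hb k)

/-- An exact equality of conjugations. -/
theorem conj_eq {g a b : List ℕ} (hg : ∀ k ∈ g, k < 120) (ha : ∀ k ∈ a, k < 120) (hb : ∀ k ∈ b, k < 120)
    (h : permList refP 240 (g ++ a) = permList refP 240 (b ++ g)) :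
    pR g * pR a * (pR g)⁻¹ = pR b := by
  rw [mul_inv_eq_iff_eq_mul, ← pR_append, ← pR_append]
  exact pR_eq (app hg ha) (app hb hg) h

/-- A conjugation up to sign. -/
theorem conj_pm {g a b : List ℕ} (hg : ∀ k ∈ g, k < 120) (ha : ∀ k ∈ a, k < 120) (hb : ∀ k ∈ b, k < 120)
    (h : Mw (g ++ a) = Mw (b ++ g)) :
    (pR g)⁻¹ * pR b * pR g = pR a ∨ (pR g)⁻¹ * pR b * pR g = (z : W) * pR a := by
  rw [← Mof_pR (app hg ha), ← Mof_pR (app hb hg), pR_append, pR_append] at h
  rcases Mof_inj h with e | e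
  · left; rw [mul_assoc, ← e, inv_mul_cancel_left]
  · right
    have : pR b * pR g = (z : W) * (pR g * pR a) := by rw [e, ← mul_assoc, zz, one_mul]
    rw [mul_assoc, this, ← mul_assoc, zc, mul_assoc, inv_mul_cancel_left]

theorem conj_z_mul (E : Emb ι C) {t : G} (h : Conj ι (ι z * t)) (a : Wp) :
    Conj ι (ι z * (ι a * t * (ι a)⁻¹)) := by
  rw [← iota_conj_z E]; exact h.conj _

/-- The classes three and four are closed under multiplication by the central involution. -/
theorem closed_Q (E : Emb ι C) {q : G} {i : ℕ} (hi : i = 3 ∨ i = 4) (hq : Conj ι q) (h : At ι q i) :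
    Conj ι (ι z * q) := by
  obtain ⟨e, u, hu, hqe⟩ := even_at E h (hq.sq E) (by rcases hi with rfl | rfl <;> simp)
  obtain ⟨n, hn⟩ : ∃ n : Wp, (n : W) * rep i * (n : W)⁻¹ = (z : W) * rep i := by
    obtain ⟨-, -, -, -, -, -, -, -, -, -, -, -, l1, l2, -⟩ := ok_parts
    obtain ⟨-, -, -, -, -, -, -, -, -, -, -, n1, n2⟩ := configsQ
    rcases hi with rfl | rfl
    · refine ⟨el neg2W, ?_⟩
      rw [coe_el' l2 (by decide +kernel), mul_inv_eq_iff_eq_mul, rep, mul_assoc, ← pR_append, ← pR_append]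
      exact pR_eq_z_mul (app l2 (rep_lt (by norm_num))) (app (rep_lt (by norm_num)) l2) n2
    · refine ⟨el neg1W, ?_⟩
      rw [coe_el' l1 (by decide +kernel), mul_inv_eq_iff_eq_mul, rep, mul_assoc, ← pR_append, ← pR_append]
      exact pR_eq_z_mul (app l1 (rep_lt (by norm_num))) (app (rep_lt (by norm_num)) l1) n1
  set n' := conjWp u⁻¹ n
  have h1 : n' * e * n'⁻¹ = z * e := Subtype.ext (by
    simp only [Subgroup.coe_mul, Subgroup.coe_inv, n', coe_conjWp, inv_inv]
    calc u⁻¹ * n * u * e * (u⁻¹ * n * u)⁻¹ = u⁻¹ * ((n : W) * (u * e * u⁻¹) * (n : W)⁻¹) * u := by group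
      _ = u⁻¹ * (z : W) * (u * e * u⁻¹) * u := by rw [hu, hn]; group
      _ = _ := by rw [zc]; group)
  have h3 := hq.conj (ι n')
  rcases hqe with rfl | rfl
  · rwa [← map_inv, ← map_mul, ← map_mul, h1, map_mul] at h3
  · rwa [← map_inv, ← map_mul, ← map_mul,
      show n' * (z * e) * n'⁻¹ = z * (n' * e * n'⁻¹) by
        rw [← mul_assoc n' z, Subgroup.mem_center_iff.mp z_mem_center n']; group,
      h1, map_mul] at h3

/-- Every element of the embedded group in a class three or four which occurs is a conjugate. -/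
theorem Q_all (E : Emb ι C) {q : G} {i : ℕ} (hi : i = 3 ∨ i = 4) (hq : Conj ι q) (h : At ι q i)
    {d : Wp} {g : W} (hd : g * (d : W) * g⁻¹ = rep i ∨ g * (d : W) * g⁻¹ = (z : W) * rep i) :
    Conj ι (ι d) := by
  have hz2 := closed_Q E hi hq h
  obtain ⟨e, u, hu, hqe⟩ := even_at E h (hq.sq E) (by rcases hi with rfl | rfl <;> simp)
  have hi' : i ∈ [0, 1, 2, 3, 4] := by rcases hi with rfl | rfl <;> simp
  have hboth : Conj ι (ι e) ∧ Conj ι (ι (z * e)) := by
    rcases hqe with rfl | rfl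
    · exact ⟨hq, by rw [map_mul]; exact hz2⟩
    · refine ⟨?_, hq⟩
      rwa [← map_mul, ← mul_assoc, z_sq, one_mul] at hz2
  obtain ⟨a, ha⟩ := even_conjugator hi' hu
  rcases hd with hd | hd
  · obtain ⟨b, hb⟩ := even_conjugator hi' hd
    have h3 := hboth.1.conj (ι (b⁻¹ * a))
    rwa [← map_inv, ← map_mul, ← map_mul, show b⁻¹ * a * e * (b⁻¹ * a)⁻¹ = d from Subtype.ext (by
      simp only [Subgroup.coe_mul, Subgroup.coe_inv]
      calc (b : W)⁻¹ * a * e * ((b : W)⁻¹ * a)⁻¹ = (b : W)⁻¹ * ((a : W) * e * (a : W)⁻¹) * b := by group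
        _ = d := by rw [ha, ← hb]; group)] at h3
  · have hd' : g * ((z * d : Wp) : W) * g⁻¹ = rep i := by
      rw [Subgroup.coe_mul, ← mul_assoc, zc g, mul_assoc, mul_assoc, ← mul_assoc g, hd, ← mul_assoc,
        zz, one_mul]
    obtain ⟨b, hb⟩ := even_conjugator hi' hd'
    have h3 := hboth.2.conj (ι (b⁻¹ * a))
    rwa [← map_inv, ← map_mul, ← map_mul, show b⁻¹ * a * (z * e) * (b⁻¹ * a)⁻¹ = d from Subtype.ext (by
      simp only [Subgroup.coe_mul, Subgroup.coe_inv]
      calc (b : W)⁻¹ * a * ((z : W) * e) * ((b : W)⁻¹ * a)⁻¹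
          = (b : W)⁻¹ * ((a : W) * (z : W)) * e * (a : W)⁻¹ * b := by group
        _ = (z : W) * ((b : W)⁻¹ * ((a : W) * e * (a : W)⁻¹) * b) := by
          rw [zc, ← mul_assoc (b : W)⁻¹ (z : W), zc]; group
        _ = (z : W) * ((z : W) * d) := by rw [ha, ← hb, Subgroup.coe_mul]; group
        _ = d := by rw [← mul_assoc, zz, one_mul])] at h3

variable [Finite G]

theorem cases_left (E : Emb ι C) {t : G} (ht : Conj ι t) (hz : Commute t (ι z)) (hne : t ≠ ι z) :
    At ι t 2 ∨ At ι t 3 ∨ At ι t 4 := by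
  obtain ⟨i, hi, h⟩ := classify_conj E ht hz hne
  interval_cases i
  · exact absurd h (no_zero E ht hz)
  · exact absurd h (no_two E ht)
  · exact Or.inl h
  · exact Or.inr (Or.inl h)
  · exact Or.inr (Or.inr h)
  · exact absurd h (no_last E ht hz)

omit [Finite G] in
theorem comm_of_sq {u t : G} (hu : u * u = 1) (ht : t * t = 1) (h : t * u * (t * u) = 1) : Commute u t := by
  show u * t = t * u
  rw [← inv_eq_of_mul_eq_one_right h, mul_inv_rev, inv_eq_of_mul_eq_one_right hu,
    inv_eq_of_mul_eq_one_right ht]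

theorem not_pair (E : Emb ι C) {i j : ℕ} (hi : i < 120) (hj : j < 120) (ho : Orth i j) :
    ¬ Conj ι (ι (pr i j)) := fun h => by
  obtain ⟨g, gi, gj⟩ := exists_to_pair hi hj ho
  refine no_two E h ⟨(pr i j : W), g, acts_iota _, ?_⟩
  rw [coe_pr hi hj, rep_one, pR_pair, show g * (R i * R j) * g⁻¹ = (g * R i * g⁻¹) * (g * R j * g⁻¹) by group,
    conj_lmap g hi, conj_lmap g hj, gi, gj]

/-- the companion of `t` by an even conjugation -/
theorem companion {t : G} (ht : Acts ι t (rep 2)) {r g : List ℕ} (hr : ∀ k ∈ r, k < 120)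
    (hg : ∀ k ∈ g, k < 120) (hev : g.length % 2 = 0) (hrl : r.length % 2 = 1)
    (hp : permList refP 240 (g ++ repL.getD 2 []) = permList refP 240 (r ++ g)) (h2 : t * t = 1) :
    ∃ d : Wp, (d : W) = pR r * (rep 2)⁻¹ ∧ ι (el g) * t * (ι (el g))⁻¹ = ι d * t ∧
      ∃ f : Wp, (f : W) = rep 2 * pR r ∧ t * (ι d * t) = ι f := by
  have hO := rep_lt (i := 2) (by norm_num)
  have hsum : ((r ++ (repL.getD 2 []).reverse).length) % 2 = 0 := by
    have h3 := reps.2.2.1
    rw [List.length_append, List.length_reverse]; omega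
  refine ⟨el (r ++ (repL.getD 2 []).reverse), ?_, ?_, ?_⟩
  · rw [coe_el' (app hr fun k hk => hO k (List.mem_reverse.mp hk)) hsum, pR_append, rep, pR_reverse hO]
  · refine conj_iota ht _ _ ?_
    rw [coe_el' (app hr fun k hk => hO k (List.mem_reverse.mp hk)) hsum, coe_el' hg hev, pR_append,
      rep, conj_eq hg hO hr hp, pR_reverse hO]
  · refine ⟨conjWp (rep 2) (el (r ++ (repL.getD 2 []).reverse)), ?_, ?_⟩
    · rw [coe_conjWp, coe_el' (app hr fun k hk => hO k (List.mem_reverse.mp hk)) hsum, pR_append,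
        ← pR_reverse hO, show (pR (repL.getD 2 []))⁻¹ = (rep 2)⁻¹ from rfl,
        inv_eq_of_mul_eq_one_right (rep_sq (show 2 < 5 by norm_num))]
      rw [show rep 2 * (pR r * rep 2) * rep 2 = rep 2 * pR r * (rep 2 * rep 2) by group,
        rep_sq (show 2 < 5 by norm_num), mul_one]
    · rw [← ht]
      calc t * (ι (el (r ++ (repL.getD 2 []).reverse)) * t)
          = t * ι (el (r ++ (repL.getD 2 []).reverse)) * t⁻¹ * (t * t) := by group
        _ = _ := by rw [h2, mul_one]

/-- A conjugate of the third class is not conjugate to its product with the central involution. -/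
theorem open_O (E : Emb ι C) {t : G} (hc : Conj ι t) (hz : Commute t (ι z)) (hat : At ι t 2) :
    ¬ Conj ι (ι z * t) := by
  intro hzt
  obtain ⟨κ, E', hκ, ht⟩ := twist_at E hat
  rw [← hκ] at hz hzt
  rw [← conj_congr hκ] at hc hzt
  clear hat E
  have h2 := hc.sq E'
  obtain ⟨hr, hg, -⟩ := ok_parts
  obtain ⟨d, hd, hconj, f, hf, htu⟩ :=
    companion ht hr hg configs.2.1.2.1 (by decide +kernel) configs.2.2.2.1 h2
  set u := κ d * t with hu
  have hu' : Conj κ u := hconj ▸ hc.conj _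
  have hfp : f = pr 0 109 := Subtype.ext (by
    rw [hf, coe_pr (by norm_num) (by norm_num), ← pR_pair, rep, ← pR_append]
    exact pR_eq (app (rep_lt (by norm_num)) hr) (by simp) configs.2.2.2.2.2.1)
  rw [hfp] at htu
  have ho : Orth 0 109 := configs.2.2.2.2.2.2.2.1
  have hf2 : pr 0 109 * pr 0 109 = 1 := Subtype.ext (by
    simp only [Subgroup.coe_mul, Subgroup.coe_one, coe_pr (show (0 : ℕ) < 120 by norm_num) (show 109 < 120 by norm_num)]
    rw [(comm_of_orth (by norm_num) (by norm_num) ho).symm.mul_mul_mul_comm (R 0) (R 109),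
      R_sq (by norm_num), R_sq (by norm_num), one_mul])
  have hut : Commute u t := comm_of_sq (hu'.sq E') h2 (by rw [htu, ← map_mul, hf2, map_one])
  obtain ⟨g, hgz⟩ := hc
  have hc : Conj κ t := ⟨g, hgz⟩
  obtain ⟨hvt, -, -, -⟩ := view_basic E' hgz hz
  have hnp : ¬ Conj κ (t * u) := htu ▸ not_pair E' (by norm_num) (by norm_num) ho
  have hvu : Conj κ (view g u) := view_conj.mpr hu'
  have hvz : Commute (view g u) (κ z) := view_of_commute hgz hut
  have hvne : view g u ≠ κ z := fun e => by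
    have e1 := view_inj g (e.trans hvt.symm)
    have h1 := congrArg (fun n => n.val) (E'.inj (show κ (pr 0 109) = κ 1 by rw [← htu, e1, h2, map_one]))
    simp only [Subgroup.coe_one, coe_pr (show (0 : ℕ) < 120 by norm_num) (show 109 < 120 by norm_num)] at h1
    exact ho.1 (R_inj (by norm_num) (by norm_num) (by
      rw [← mul_one (R 0), ← R_sq (show 109 < 240 by norm_num), ← mul_assoc, h1, one_mul]))
  refine hnp ((view_conj (g := g)).mp ?_)
  rw [map_mul, hvt]
  rcases cases_left E' hvu hvz hvne with h | h | h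
  · obtain ⟨w, v, hw, hv⟩ := h
    obtain ⟨a, ha⟩ := even_conjugator (i := 2) (by simp) hv
    have h1 := hc.conj (κ a⁻¹)
    have h3 : Acts κ (κ a⁻¹ * t * (κ a⁻¹)⁻¹) w := by
      have := acts_mul (acts_mul (acts_iota (ι := κ) a⁻¹) ht) (acts_inv (acts_iota (ι := κ) a⁻¹))
      rw [← ha, Subgroup.coe_inv] at this
      convert this using 1
      group
    exact same_action E' hvu h1 hvz hw h3 (conj_z_mul E' hzt a⁻¹)
  · exact closed_Q E' (Or.inl rfl) hvu h
  · exact closed_Q E' (Or.inr rfl) hvu h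

theorem not_reflection_action {v : G} {k : ℕ} {w : W} (hw : Acts ι v w)
    (h : w = R k ∨ w = (z : W) * R k) : Acts ι v (R k) := by
  rcases h with rfl | rfl
  · exact hw
  · have := acts_z_mul hw
    rwa [← mul_assoc, zz, one_mul] at this

omit [Finite G] in
theorem twist_class (E : Emb ι C) {t : G} {j : ℕ} (h : At ι t j) :
    ∃ κ : Wp →* G, Emb κ C ∧ κ z = ι z ∧ Acts κ t (rep j) ∧ ∀ (g : G) (i : ℕ), At ι g i → At κ g i := by
  obtain ⟨w, u, hw, hu⟩ := h
  obtain ⟨h1, h2, h3⟩ := twist E u⁻¹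
  refine ⟨_, h1, h2, ?_, ?_⟩
  · have := h3 hw
    rwa [inv_inv, hu] at this
  · rintro g i ⟨w', u', hw', hu'⟩
    refine ⟨u * w' * u⁻¹, u' * u⁻¹, ?_, ?_⟩
    · have := h3 hw'
      rwa [inv_inv] at this
    · rw [← hu']; group

theorem ob_facts {i : ℕ} (hi : i = 3 ∨ i = 4) : ∃ (r g : List ℕ) (k : ℕ), k < 120 ∧
    (∀ a ∈ r, a < 120) ∧ (∀ a ∈ g, a < 120) ∧ r.length % 2 = 0 ∧ Mw (g ++ repL.getD i []) = Mw (r ++ g) ∧
    Mw (repL.getD 2 [] ++ r) = Mw [k] ∧
    permList refP 240 (repL.getD 2 [] ++ r) = permList refP 240 (r ++ repL.getD 2 []) ∧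
    permList refP 240 (r ++ r) = permList refP 240 [] := by
  obtain ⟨-, -, -, -, hb1, hg1, hb2, hg2, -, -, -, -, -, -, l1, l2, -⟩ := ok_parts
  obtain ⟨c1, c2, -, -, c5, c6, hall, -⟩ := configsQ
  rcases hi with rfl | rfl
  · exact ⟨ob2R, ob2G, 94, by norm_num, hb2, hg2, l2, c2, c6, (hall (repL.getD 2 [], ob2R) (by simp)).1,
      (hall (repL.getD 2 [], ob2R) (by simp)).2⟩
  · exact ⟨ob1R, ob1G, 109, by norm_num, hb1, hg1, l1, c1, c5, (hall (repL.getD 2 [], ob1R) (by simp)).1,
      (hall (repL.getD 2 [], ob1R) (by simp)).2⟩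

theorem sgn_Q {i : ℕ} (hi : i = 3 ∨ i = 4) : sgn (rep i) = 1 := by
  rcases hi with rfl | rfl
  · exact sgn_rep.2.2.2.1
  · exact sgn_rep.2.2.2.2.1

/-- The third class and the classes three or four do not occur together. -/
theorem no_Q (E : Emb ι C) {t q : G} {i : ℕ} (hi : i = 3 ∨ i = 4) (hc : Conj ι t)
    (hz : Commute t (ι z)) (hat : At ι t 2) (hq : Conj ι q) (hqat : At ι q i) : False := by
  obtain ⟨κ, E', hκ, ht, htr⟩ := twist_class E hat
  rw [← hκ] at hz
  rw [← conj_congr hκ] at hc hq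
  replace hqat := htr q i hqat
  replace hat := htr t 2 hat
  clear htr hκ E
  have h2 := hc.sq E'
  obtain ⟨r, g, k, hk, hr, hg, hev, hgr, hrk, hcm, hsq⟩ := ob_facts hi
  have hO := rep_lt (i := 2) (by norm_num)
  set d := el r with hd
  have hde : (d : W) = pR r := coe_el' hr hev
  have hdall : Conj κ (κ d) := by
    refine Q_all E' hi hq hqat (d := d) (g := (pR g)⁻¹) ?_
    rw [hde, inv_inv]
    exact conj_pm hg (rep_lt (by omega)) hr hgr
  have hcOd : Commute (pR r) (rep 2) := by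
    show _ * _ = _ * _
    rw [rep, ← pR_append, ← pR_append]
    exact (pR_eq (app hO hr) (app hr hO) hcm).symm
  have hdt : Commute (κ d) t := (commute_of_acts ht (by rw [hde]; exact hcOd)).symm
  have hd_act : Acts κ (κ d) (pR r) := hde ▸ acts_iota d
  -- the product acts as a reflection
  have hR : ∀ {y : G}, Acts κ y (rep 2 * pR r) → Acts κ y (R k) := by
    intro y hy
    refine not_reflection_action hy ?_
    have e1 : Mof (rep 2 * pR r) = Mof (pR [k]) := by
      rw [rep, ← pR_append, Mof_pR (app hO hr), Mof_pR (by simp [hk]), hrk]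
    simpa [pR_cons] using Mof_inj e1
  obtain ⟨g0, hgz⟩ := hc
  have hc : Conj κ t := ⟨g0, hgz⟩
  obtain ⟨hvt, hc', hz', hne'⟩ := view_basic E' hgz hz
  have htne : t ≠ κ z := by
    intro e
    have h1 := parity E' hat (e ▸ acts_iota z)
    rw [sgn_z, sgn_rep.2.1] at h1
    exact absurd h1 (by decide)
  have hne_dt : κ d ≠ t := by
    intro e
    have h1 := parity E' hat (e ▸ hd_act)
    rw [← hde, sgn_Wp d.2, sgn_rep.2.1] at h1
    exact absurd h1 (by decide)
  have no_tu : ¬ Conj κ (t * κ d) := fun h =>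
    no_zero E' h (hz.mul_left (commute_z E' d)) (at_line hk (hR (acts_mul ht hd_act)))
  have hzz' : κ z * (κ z * t) = t := by rw [← mul_assoc, iota_z_sq E', one_mul]
  have no_ztu : ¬ Conj κ (κ z * (t * κ d)) := fun h => by
    refine no_zero E' h ((Commute.refl _).mul_left (hz.mul_left (commute_z E' d))) (at_line hk (hR ?_))
    have h1 := acts_z_mul (acts_mul (acts_iota (ι := κ) z) (acts_mul ht hd_act))
    rwa [← mul_assoc (z : W) (z : W), zz, one_mul] at h1
  have hu : Conj κ (view g0 (κ d)) := view_conj.mpr hdall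
  have huz : Commute (view g0 (κ d)) (κ z) := view_of_commute hgz hdt
  have hune : view g0 (κ d) ≠ κ z := fun e => hne_dt (view_inj g0 (e.trans hvt.symm))
  have hzu : ¬ Conj κ (κ z * view g0 (κ d)) := fun h => by
    refine no_tu ((view_conj (g := g0)).mp ?_)
    rw [map_mul, hvt]; exact h
  have hu2 : At κ (view g0 (κ d)) 2 := by
    rcases cases_left E' hu huz hune with h | h | h
    · exact h
    · exact absurd (closed_Q E' (Or.inl rfl) hu h) hzu
    · exact absurd (closed_Q E' (Or.inr rfl) hu h) hzu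
  have ht2 : At κ (view g0 (κ z)) 2 := by
    have key : ∀ j, (j = 3 ∨ j = 4) → ¬ At κ (view g0 (κ z)) j := fun j hj h => by
      have h1 := closed_Q E' hj hc' h
      rw [← hz'.eq] at h1
      refine open_O E' hc hz hat ((view_conj (g := g0)).mp ?_)
      rw [map_mul, hvt]; exact h1
    rcases cases_left E' hc' hz' (hne' htne) with h | h | h
    · exact h
    · exact absurd h (key 3 (Or.inl rfl))
    · exact absurd h (key 4 (Or.inr rfl))
  -- the companion of `d`
  have hzd : Conj κ (κ z * κ d) := by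
    rw [← map_mul]
    refine Q_all E' hi hq hqat (d := z * d) (g := (pR g)⁻¹) ?_
    have h1 := conj_pm hg (rep_lt (show i < 6 by omega)) hr hgr
    rw [Subgroup.coe_mul, hde, inv_inv, ← mul_assoc (pR g)⁻¹, zc, mul_assoc (z : W), mul_assoc (z : W)]
    rcases h1 with h1 | h1 <;> rw [h1]
    · exact Or.inr rfl
    · left; rw [← mul_assoc, zz, one_mul]; rfl
  have h5 : Conj κ (view g0 (κ z * κ d)) := view_conj.mpr hzd
  have h5z : Commute (view g0 (κ z * κ d)) (κ z) := view_of_commute hgz (hz.symm.mul_left hdt)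
  have h5ne : view g0 (κ z * κ d) ≠ κ z := fun e => by
    have e1 := view_inj g0 (e.trans hvt.symm)
    have h1 := parity E' hat (e1 ▸ (acts_mul (acts_iota (ι := κ) z) hd_act : Acts κ (κ z * κ d) _))
    rw [map_mul sgn, sgn_z, ← hde, sgn_Wp d.2, one_mul, sgn_rep.2.1] at h1
    exact absurd h1 (by decide)
  obtain ⟨wt, hwt⟩ := E'.acts _ hz'
  obtain ⟨wu, hwu⟩ := E'.acts _ huz
  have hev5 : Acts κ (view g0 (κ z * κ d)) (wt * wu) := by rw [map_mul]; exact acts_mul hwt hwu
  have p5 : sgn (wt * wu) = 1 := by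
    rw [map_mul, parity E' ht2 hwt, parity E' hu2 hwu, sgn_rep.2.1]; decide
  have fin : ∀ j, (j = 3 ∨ j = 4) → ¬ At κ (view g0 (κ z * κ d)) j := fun j hj h => by
    refine no_ztu ((view_conj (g := g0)).mp ?_)
    have h6 := closed_Q E' hj h5 h
    rw [map_mul] at h6
    rw [map_mul, map_mul, hvt, ← mul_assoc, hz'.eq, mul_assoc]
    exact h6
  rcases cases_left E' h5 h5z h5ne with h | h | h
  · have h1 := parity E' h hev5
    rw [p5, sgn_rep.2.1] at h1
    exact absurd h1 (by decide)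
  · exact fin 3 (Or.inl rfl) h
  · exact fin 4 (Or.inr rfl) h

/-- The third class does not occur. -/
theorem no_O (E : Emb ι C) {t : G} (hc : Conj ι t) (hz : Commute t (ι z)) : ¬ At ι t 2 := by
  intro hat
  obtain ⟨κ, E', hκ, ht, htr⟩ := twist_class E hat
  rw [← hκ] at hz
  rw [← conj_congr hκ] at hc
  replace hat := htr t 2 hat
  clear htr hκ E
  have h2 := hc.sq E'
  obtain ⟨-, -, hr, hg, -⟩ := ok_parts
  obtain ⟨-, ⟨-, -, hgev, -⟩, -, -, hgperm, -, -, -, -, hall, hcw⟩ := configs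
  obtain ⟨d, -, hconj, f, hf, htu⟩ := companion ht hr hg hgev (by decide +kernel) hgperm h2
  set u := κ d * t with hu
  have hu' : Conj κ u := hconj ▸ hc.conj _
  have hO := rep_lt (i := 2) (by norm_num)
  simp only [List.all_eq_true, Bool.and_eq_true, decide_eq_true_eq] at hall
  have hlen : ocW.length = 2 := by decide +kernel
  have hp : ∀ j < 2, (∀ a ∈ ocW.getD j [], a < 120) ∧ (ocW.getD j []).length % 2 = 0 ∧
      Commute (pR (ocW.getD j [])) (rep 2) := by
    intro j hj
    have hm : ocW.getD j [] ∈ ocW := by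
      rw [List.getD_eq_getElem _ _ (by omega)]; exact List.getElem_mem _
    obtain ⟨⟨h1, h3⟩, h4⟩ := hall _ hm
    refine ⟨okL_iff h1, h3, ?_⟩
    show _ * _ = _ * _
    rw [rep, ← pR_append, ← pR_append]
    exact pR_eq (app (okL_iff h1) hO) (app hO (okL_iff h1)) h4
  set p := el (ocW.getD 0 []) with hpdef
  set q := el (ocW.getD 1 []) with hqdef
  have ep : (p : W) = pR (ocW.getD 0 []) := coe_el' (hp 0 (by norm_num)).1 (hp 0 (by norm_num)).2.1
  have eq' : (q : W) = pR (ocW.getD 1 []) := coe_el' (hp 1 (by norm_num)).1 (hp 1 (by norm_num)).2.1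
  have hfc : f = cm p q := Subtype.ext (by
    rw [hf, coe_cm, ep, eq', (cm_pR (hp 0 (by norm_num)).1 (hp 1 (by norm_num)).1).1, rep, ← pR_append]
    exact (pR_eq (cm_pR (hp 0 (by norm_num)).1 (hp 1 (by norm_num)).1).2 (app hO hr) hcw).symm)
  have hf1 : (f : W) ≠ 1 := by
    rw [hf, rep, ← pR_append]
    intro e
    have key : Mw (repL.getD 2 [] ++ ocR) ≠ E0 := by decide +kernel
    exact key (by rw [← Mof_pR (app hO hr), e, Mof_one])
  obtain ⟨g, hgz⟩ := hc
  have hc : Conj κ t := ⟨g, hgz⟩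
  obtain ⟨hvt, -, -, -⟩ := view_basic E' hgz hz
  have hcp : Commute t (κ p) := commute_of_acts ht (by rw [ep]; exact (hp 0 (by norm_num)).2.2)
  have hcq : Commute t (κ q) := commute_of_acts ht (by rw [eq']; exact (hp 1 (by norm_num)).2.2)
  have hut : Commute u t := by
    have h1 : Commute t (κ f) := by rw [hfc, ← map_cm]; exact (commute_cm hcp.symm hcq.symm).symm
    show u * t = t * u
    calc u * t = t * (t * u) * t := by rw [← mul_assoc, h2, one_mul]
      _ = t * (κ f * t) := by rw [htu, mul_assoc]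
      _ = t * (t * κ f) := by rw [h1.eq]
      _ = t * u := by rw [← mul_assoc, h2, one_mul, ← htu]
  have huz : Commute (view g u) (κ z) := view_of_commute hgz hut
  have hune : view g u ≠ κ z := fun e => by
    have e1 := view_inj g (e.trans hvt.symm)
    rw [e1, h2] at htu
    exact hf1 (congrArg Subtype.val (E'.inj (htu.symm.trans (map_one κ).symm)))
  have hvu : Conj κ (view g u) := view_conj.mpr hu'
  have h2u : At κ (view g u) 2 := by
    rcases cases_left E' hvu huz hune with h | h | h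
    · exact h
    · exact (no_Q E' (Or.inl rfl) hc hz hat hvu h).elim
    · exact (no_Q E' (Or.inr rfl) hc hz hat hvu h).elim
  obtain ⟨wu, hwu⟩ := E'.acts _ huz
  obtain ⟨wp, hwp⟩ := E'.acts _ (view_of_commute hgz hcp.symm)
  obtain ⟨wq, hwq⟩ := E'.acts _ (view_of_commute hgz hcq.symm)
  have hA : Acts κ (view g (t * u)) (cm wp wq) := by
    rw [htu, hfc, ← map_cm, ← map_cm]
    exact acts_cm hwp hwq
  have hB : Acts κ (view g (t * u)) ((z : W) * wu) := by
    rw [map_mul, hvt]
    exact acts_mul (acts_iota z) hwu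
  have h1 : sgn ((z : W) * wu) = sgn (cm wp wq) := by
    rcases acts_unique E' hA hB with e | e <;> rw [e]
    rw [map_mul, sgn_z, one_mul]
  rw [map_mul, sgn_z, one_mul, parity E' h2u hwu, sgn_rep.2.1, sgn_Wp (cm_mem wp wq)] at h1
  exact absurd h1 (by decide)

theorem qq_facts {i : ℕ} (hi : i = 3 ∨ i = 4) : ∃ (r g : List ℕ) (a b : ℕ), a < 120 ∧ b < 120 ∧ Orth a b ∧
    (∀ x ∈ r, x < 120) ∧ (∀ x ∈ g, x < 120) ∧ r.length % 2 = 0 ∧ Mw (g ++ repL.getD i []) = Mw (r ++ g) ∧
    permList refP 240 (repL.getD i [] ++ r) = permList refP 240 [a, b] ∧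
    permList refP 240 (repL.getD i [] ++ r) = permList refP 240 (r ++ repL.getD i []) := by
  obtain ⟨-, -, -, -, -, -, -, -, hb1, hg1, hb2, hg2, -, -, -, -, l1, l2⟩ := ok_parts
  obtain ⟨-, -, c3, c4, -, -, hall, p1, o1, p2, o2, -⟩ := configsQ
  rcases hi with rfl | rfl
  · exact ⟨qq2R, qq2G, 1, 93, by norm_num, by norm_num, o2, hb2, hg2, l2, c4, p2,
      (hall (repL.getD 3 [], qq2R) (by simp)).1⟩
  · exact ⟨qq1R, qq1G, 0, 94, by norm_num, by norm_num, o1, hb1, hg1, l1, c3, p1,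
      (hall (repL.getD 4 [], qq1R) (by simp)).1⟩

/-- The classes three and four do not occur. -/
theorem no_Q' (E : Emb ι C) {q : G} {i : ℕ} (hi : i = 3 ∨ i = 4) (hc : Conj ι q) : ¬ At ι q i := by
  intro hat
  obtain ⟨r, g, a, b, ha, hb, ho, hr, hg, hev, hgr, hperm, hcm⟩ := qq_facts hi
  have hlen : (repL.getD i []).length % 2 = 0 := by
    rcases hi with rfl | rfl
    · exact reps.2.2.2.1
    · exact reps.2.2.2.2.1
  have hP := rep_lt (show i < 6 by omega)
  set e := el (repL.getD i []) with he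
  have hee : (e : W) = rep i := coe_el' hP hlen
  set d := el r with hd
  have hde : (d : W) = pR r := coe_el' hr hev
  have h1 : Conj ι (ι e) := Q_all E hi hc hat (d := e) (g := 1) (Or.inl (by rw [hee]; group))
  have h2 : Conj ι (ι d) := Q_all E hi hc hat (d := d) (g := (pR g)⁻¹) (by
    rw [hde, inv_inv]; exact conj_pm hg hP hr hgr)
  have hed : Commute (d : W) (e : W) := by
    rw [hde, hee]
    show _ * _ = _ * _
    rw [rep, ← pR_append, ← pR_append]
    exact (pR_eq (app hP hr) (app hr hP) hcm).symm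
  have hed' : e * d = pr a b := Subtype.ext (by
    rw [Subgroup.coe_mul, hee, hde, coe_pr ha hb, ← pR_pair, rep, ← pR_append]
    exact pR_eq (app hP hr) (by simp [ha, hb]) hperm)
  obtain ⟨g0, hgz⟩ := h1
  have hct : Commute (ι d) (ι e) := (show Commute d e from Subtype.ext hed.eq).map ι
  obtain ⟨hvt, -, -, -⟩ := view_basic E hgz (commute_z E e)
  have hne : view g0 (ι d) ≠ ι z := fun e1 => by
    have e2 := E.inj (view_inj g0 (e1.trans hvt.symm))
    have h3 : pr a b = 1 := by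
      rw [← hed', e2]
      exact Subtype.ext (by rw [Subgroup.coe_mul, hee, rep_sq (by omega)]; rfl)
    have h4 := congrArg Subtype.val h3
    rw [coe_pr ha hb, Subgroup.coe_one] at h4
    exact ho.1 (R_inj ha hb (by rw [← mul_one (R a), ← R_sq (show b < 240 by omega), ← mul_assoc, h4, one_mul]))
  have hv : Conj ι (view g0 (ι d)) := view_conj.mpr h2
  have hvz := view_of_commute hgz hct
  have h5 : Conj ι (ι z * view g0 (ι d)) := by
    rcases cases_left E hv hvz hne with h | h | h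
    · exact absurd h (no_O E hv hvz)
    · exact closed_Q E (Or.inl rfl) hv h
    · exact closed_Q E (Or.inr rfl) hv h
  refine not_pair E ha hb ho ((view_conj (g := g0)).mp ?_)
  rw [← hed', map_mul, map_mul, hvt]
  exact h5

/-- The central involution is isolated. -/
theorem isolated (E : Emb ι C) {t : G} (hc : Conj ι t) (hz : Commute t (ι z)) : t = ι z := by
  by_contra hne
  rcases cases_left E hc hz hne with h | h | h
  · exact no_O E hc hz h
  · exact no_Q' E (Or.inl rfl) hc h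
  · exact no_Q' E (Or.inr rfl) hc h

end Cfsg.Agent.Omega8Fusion24
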