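import Cfsg.Agent.Lib.Omega8Witness24

/-!
A group with an embedded copy of the even subgroup of W(E8): elements acting as Weyl group elements,
and the transport of double commutators to the view of a conjugate of the central involution.
-/

set_option autoImplicit false

namespace Cfsg.Agent.Omega8Std24

open Cfsg Cfsg.Agent.E8Even69 Cfsg.Agent.Omega8CoverIso24 Cfsg.Agent.Omega8Witness24

universe u

variable {G : Type u} [Group G]

theorem zz : (z : W) * (z : W) = 1 := by rw [← Subgroup.coe_mul, z_sq]; rfl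

theorem zc (w : W) : w * (z : W) = (z : W) * w := Subgroup.mem_center_iff.mp z_mem_center_W w

theorem z_conj (u : W) : u * (z : W) * u⁻¹ = (z : W) := by rw [zc, mul_inv_cancel_right]

theorem conjWp_z (u : W) : conjWp u z = z := Subtype.ext (by rw [coe_conjWp, z_conj])

/-- `g` acts as `w` on the embedded group -/
def Acts (ι : Wp →* G) (g : G) (w : W) : Prop := ∀ a : Wp, g * ι a * g⁻¹ = ι (conjWp w a)

/-- The embedding with the hypotheses on the centraliser. -/
structure Emb (ι : Wp →* G) (C : Subgroup G) : Prop where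
  inj : Function.Injective ι
  comm : ∀ a : Wp, ∀ c ∈ C, Commute (ι a) c
  acts : ∀ g : G, Commute g (ι z) → ∃ w : W, Acts ι g w
  memC : ∀ g : G, (∀ a : Wp, Commute g (ι a)) → g ∈ C
  zC : ι z ∈ C
  only : ∀ c ∈ C, c * c = 1 → c = 1 ∨ c = ι z
  odd_comm : ∀ c ∈ C, ∀ d ∈ C, Odd (orderOf (c * d * c⁻¹ * d⁻¹))

variable {ι : Wp →* G} {C : Subgroup G}

theorem acts_mul {g h : G} {v w : W} (hg : Acts ι g v) (hh : Acts ι h w) : Acts ι (g * h) (v * w) := by
  intro a
  rw [map_mul conjWp, MulAut.mul_apply, ← hg, ← hh]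
  group

theorem acts_inv {g : G} {v : W} (hg : Acts ι g v) : Acts ι g⁻¹ v⁻¹ := by
  intro a
  have h := hg (conjWp v⁻¹ a)
  rw [← MulAut.mul_apply, ← map_mul, mul_inv_cancel, map_one, MulAut.one_apply] at h
  rw [← h]; group

theorem acts_cm {g h : G} {v w : W} (hg : Acts ι g v) (hh : Acts ι h w) : Acts ι (cm g h) (cm v w) :=
  acts_mul (acts_mul (acts_mul hg hh) (acts_inv hg)) (acts_inv hh)

theorem acts_iota (a : Wp) : Acts ι (ι a) (a : W) := by
  intro b
  rw [← map_inv, ← map_mul, ← map_mul]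
  exact congrArg ι (Subtype.ext (by rw [coe_conjWp]; simp))

theorem acts_C (E : Emb ι C) {c : G} (hc : c ∈ C) : Acts ι c 1 := by
  intro a
  rw [map_one, MulAut.one_apply, ← (E.comm a c hc).eq, mul_inv_cancel_right]

theorem acts_z_mul {g : G} {w : W} (hg : Acts ι g w) : Acts ι g ((z : W) * w) := by
  intro a
  rw [map_mul conjWp, MulAut.mul_apply, hg]
  refine congrArg ι (Subtype.ext ?_)
  rw [coe_conjWp (z : W), ← zc, mul_inv_cancel_right]

theorem acts_unique (E : Emb ι C) {g : G} {v w : W} (hv : Acts ι g v) (hw : Acts ι g w) :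
    w = v ∨ w = (z : W) * v := by
  have h : ∀ a : Wp, (v⁻¹ * w) * (a : W) = (a : W) * (v⁻¹ * w) := by
    intro a
    have h1 : conjWp v a = conjWp w a := E.inj ((hv a).symm.trans (hw a))
    have h2 := congrArg Subtype.val h1
    rw [coe_conjWp, coe_conjWp] at h2
    calc v⁻¹ * w * (a : W) = v⁻¹ * (w * a * w⁻¹) * w := by group
      _ = v⁻¹ * (v * a * v⁻¹) * w := by rw [h2]
      _ = _ := by group
  rcases eq_of_centralizes h with e | e
  · exact Or.inl (inv_mul_eq_one.mp e).symm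
  · exact Or.inr (by rw [← zc, ← e, mul_inv_cancel_left])

theorem commute_of_acts {g : G} {w : W} (hg : Acts ι g w) {a : Wp} (h : Commute (a : W) w) :
    Commute g (ι a) := by
  have e : conjWp w a = a := Subtype.ext (by rw [coe_conjWp, ← h.eq, mul_inv_cancel_right])
  have h1 := hg a
  rw [e] at h1
  exact mul_inv_eq_iff_eq_mul.mp h1

theorem commute_to_acts (E : Emb ι C) {g : G} {w : W} (hg : Acts ι g w) {a : Wp} (h : Commute g (ι a)) :
    Commute (a : W) w := by
  have h1 := hg a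
  rw [h.eq, mul_inv_cancel_right] at h1
  have h2 := congrArg Subtype.val (E.inj h1)
  rw [coe_conjWp] at h2
  exact (mul_inv_eq_iff_eq_mul.mp h2.symm).symm

theorem commute_z (E : Emb ι C) (a : Wp) : Commute (ι a) (ι z) := E.comm a _ E.zC

theorem iota_z_sq (E : Emb ι C) : ι z * ι z = 1 := by
  have _ := E.zC
  rw [← map_mul, z_sq, map_one]

theorem iota_z_ne (E : Emb ι C) : ι z ≠ 1 := fun h => z_ne_one (E.inj (h.trans (map_one ι).symm))

theorem acts_commute (E : Emb ι C) {g h : G} {v w : W} (hg : Acts ι g v) (hh : Acts ι h w)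
    (hc : Commute g h) : v * w = w * v ∨ v * w = (z : W) * (w * v) := by
  have h1 : Acts ι (g * h) (w * v) := hc.eq ▸ acts_mul hh hg
  exact acts_unique E h1 (acts_mul hg hh)

theorem mem_C_of_acts_one (E : Emb ι C) {g : G} (hg : Acts ι g 1) : g ∈ C :=
  E.memC g fun a => commute_of_acts hg (Commute.one_right _)

theorem acts_ratio (E : Emb ι C) {g h : G} {w : W} (hg : Acts ι g w) (hh : Acts ι h w) :
    g⁻¹ * h ∈ C := by
  refine mem_C_of_acts_one E ?_
  have := acts_mul (acts_inv hg) hh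
  rwa [inv_mul_cancel] at this

theorem eq_iota_mul (E : Emb ι C) {g : G} {a : Wp} (hg : Acts ι g (a : W)) :
    ∃ c ∈ C, g = ι a * c :=
  ⟨(ι a)⁻¹ * g, acts_ratio E (acts_iota a) hg, by group⟩

theorem even_involution (E : Emb ι C) {g : G} {a : Wp} (hg : Acts ι g (a : W)) (h2 : g * g = 1)
    (ha : a * a = 1) : g = ι a ∨ g = ι (z * a) := by
  obtain ⟨c, hc, rfl⟩ := eq_iota_mul E hg
  rw [(E.comm a c hc).symm.mul_mul_mul_comm (ι a) c, ← map_mul, ha, map_one, one_mul] at h2
  rcases E.only c hc h2 with rfl | rfl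
  · exact Or.inl (mul_one _)
  · exact Or.inr (by rw [map_mul, (commute_z E a).eq])

/-- A commutator squaring to one lies in the image. -/
theorem cm_exact (E : Emb ι C) {a b : Wp} {c d : G} (hc : c ∈ C) (hd : d ∈ C)
    (h : cm (ι a * c) (ι b * d) * cm (ι a * c) (ι b * d) = 1) :
    cm (ι a * c) (ι b * d) = ι (cm a b) := by
  set w := c * d * c⁻¹ * d⁻¹ with hw
  have hwC : w ∈ C := mul_mem (mul_mem (mul_mem hc hd) (inv_mem hc)) (inv_mem hd)
  have e : cm (ι a * c) (ι b * d) = ι (cm a b) * w := by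
    have e1 : c * ι b = ι b * c := (E.comm b c hc).eq.symm
    have e2 : c * d * c⁻¹ * (ι a)⁻¹ = (ι a)⁻¹ * (c * d * c⁻¹) := by
      rw [← map_inv]; exact (E.comm a⁻¹ _ (mul_mem (mul_mem hc hd) (inv_mem hc))).eq.symm
    have e3 : w * (ι b)⁻¹ = (ι b)⁻¹ * w := by rw [← map_inv]; exact (E.comm b⁻¹ w hwC).eq.symm
    calc cm (ι a * c) (ι b * d)
        = ι a * (c * ι b) * d * c⁻¹ * (ι a)⁻¹ * d⁻¹ * (ι b)⁻¹ := by rw [cm]; group
      _ = ι a * ι b * (c * d * c⁻¹ * (ι a)⁻¹) * d⁻¹ * (ι b)⁻¹ := by rw [e1]; group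
      _ = ι a * ι b * (ι a)⁻¹ * (w * (ι b)⁻¹) := by rw [e2, hw]; group
      _ = _ := by rw [e3, cm, map_mul, map_mul, map_mul, map_inv, map_inv]; group
  rw [e] at h ⊢
  have hcomm : Commute (ι (cm a b)) w := E.comm _ w hwC
  have h2 : ι (cm a b * cm a b) * (w * w) = 1 := by
    rw [map_mul, hcomm.mul_mul_mul_comm (ι (cm a b)) w, h]
  have hmem : ι (cm a b * cm a b) ∈ C := by
    rw [eq_inv_of_mul_eq_one_left h2]; exact inv_mem (mul_mem hwC hwC)
  have hss : (cm a b * cm a b) * (cm a b * cm a b) = 1 := by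
    rcases acts_unique E (acts_C E hmem) (acts_iota _) with e' | e'
    · refine Subtype.ext ?_
      rw [Subgroup.coe_mul (H := Wp) (cm a b * cm a b), e', mul_one]; rfl
    · refine Subtype.ext ?_
      rw [Subgroup.coe_mul (H := Wp) (cm a b * cm a b), e', mul_one, zz]; rfl
  have hw4 : w ^ 4 = 1 := by
    have h3 : (w * w)⁻¹ = ι (cm a b * cm a b) := (eq_inv_of_mul_eq_one_left h2).symm
    have h4 : (w * w)⁻¹ * (w * w)⁻¹ = 1 := by rw [h3, ← map_mul, hss, map_one]
    rw [← mul_inv_rev, inv_eq_one] at h4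
    simpa [pow_succ, mul_assoc] using h4
  have hodd : Odd (orderOf w) := E.odd_comm c hc d hd
  have : orderOf w = 1 := by
    have hd4 : orderOf w ∣ 2 ^ 2 := orderOf_dvd_of_pow_eq_one (by simpa using hw4)
    obtain ⟨i, -, hi⟩ := (Nat.dvd_prime_pow Nat.prime_two).1 hd4
    rw [hi] at hodd
    cases i with
    | zero => simpa using hi
    | succ i => exact absurd hodd (by simp [pow_succ])
  rw [orderOf_eq_one_iff] at this
  rw [this, mul_one]

theorem cm_mem (a b : W) : cm a b ∈ Wp :=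
  Subgroup.commutator_mem_commutator (Subgroup.mem_top a) (Subgroup.mem_top b)

theorem coe_cm (a b : Wp) : ((cm a b : Wp) : W) = cm (a : W) (b : W) := rfl

/-- A double commutator of elements centralising `ι z` and `v` is exactly a double commutator in the
centraliser of the action of `v`. -/
theorem double (E : Emb ι C) {v : G} {w : W} (hv : Acts ι v w) (x : G × G × G × G)
    (hx : All4 (fun y => Commute y (ι z) ∧ Commute y v) x) (hsq : dbl x * dbl x = 1) :
    ∃ (d : Wp) (e : W × W × W × W), All4 (fun f => f * w * f⁻¹ = w ∨ f * w * f⁻¹ = (z : W) * w) e ∧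
      (d : W) = dbl e ∧ dbl x = ι d ∧ Commute (d : W) w := by
  obtain ⟨x1, x2, x3, x4⟩ := x
  obtain ⟨⟨hz1, hv1⟩, ⟨hz2, hv2⟩, ⟨hz3, hv3⟩, ⟨hz4, hv4⟩⟩ := hx
  obtain ⟨w1, a1⟩ := E.acts x1 hz1
  obtain ⟨w2, a2⟩ := E.acts x2 hz2
  obtain ⟨w3, a3⟩ := E.acts x3 hz3
  obtain ⟨w4, a4⟩ := E.acts x4 hz4
  have pm : ∀ {y : G} {f : W}, Acts ι y f → Commute y v →
      f * w * f⁻¹ = w ∨ f * w * f⁻¹ = (z : W) * w := by
    intro y f hy hc
    rcases acts_commute E hy hv hc with e | e <;> rw [e]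
    · exact Or.inl (by group)
    · exact Or.inr (by group)
  have exact_cm : ∀ {f g : W}, (f * w * f⁻¹ = w ∨ f * w * f⁻¹ = (z : W) * w) →
      (g * w * g⁻¹ = w ∨ g * w * g⁻¹ = (z : W) * w) → Commute (cm f g) w := by
    intro f g hf hg
    have sgn' : ∀ {f : W}, (f * w * f⁻¹ = w ∨ f * w * f⁻¹ = (z : W) * w) →
        ∃ s : W, (∀ y, Commute y s) ∧ s * s = 1 ∧ f * w * f⁻¹ = s * w ∧ f⁻¹ * w * f = s * w := by
      intro f hf
      obtain ⟨s, hs, hss, e⟩ : ∃ s : W, (∀ y, Commute y s) ∧ s * s = 1 ∧ f * w * f⁻¹ = s * w := by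
        rcases hf with e | e
        · exact ⟨1, fun y => Commute.one_right y, one_mul 1, by rw [e, one_mul]⟩
        · exact ⟨z, fun y => zc y, zz, e⟩
      refine ⟨s, hs, hss, e, ?_⟩
      calc f⁻¹ * w * f = f⁻¹ * (s * (f * w * f⁻¹)) * f := by rw [e, ← mul_assoc s s w, hss, one_mul]
        _ = (f⁻¹ * s) * f * w := by group
        _ = s * w := by rw [(hs f⁻¹).eq, inv_mul_cancel_right]
    obtain ⟨s, hs, hss, f1, f2⟩ := sgn' hf
    obtain ⟨t, ht, htt, g1, g2⟩ := sgn' hg
    have pull : ∀ (h y c : W), (∀ y, Commute y c) → h * (c * y) * h⁻¹ = c * (h * y * h⁻¹) := by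
      intro h y c hc
      rw [← mul_assoc h, (hc h).eq]; group
    show cm f g * w = w * cm f g
    refine mul_inv_eq_iff_eq_mul.mp ?_
    calc cm f g * w * (cm f g)⁻¹ = f * (g * (f⁻¹ * (g⁻¹ * w * g) * f⁻¹⁻¹) * g⁻¹) * f⁻¹ := by
          rw [cm]; group
      _ = f * (g * (t * (f⁻¹ * w * f)) * g⁻¹) * f⁻¹ := by rw [g2, pull _ _ _ ht, inv_inv]
      _ = t * (s * (f * (t * w) * f⁻¹)) := by
        rw [f2, pull g _ _ ht, pull g _ _ hs, g1, pull f _ _ ht, pull f _ _ hs]
      _ = t * (s * (t * (s * w))) := by rw [pull f _ _ ht, f1]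
      _ = w := by
        have h1 : s * t * s = t := by rw [(hs t).symm.eq, mul_assoc, hss, mul_one]
        calc t * (s * (t * (s * w))) = t * (s * t * s) * w := by group
          _ = w := by rw [h1, htt, one_mul]
  set p : Wp := ⟨cm w1 w2, cm_mem _ _⟩ with hp
  set q : Wp := ⟨cm w3 w4, cm_mem _ _⟩ with hq
  obtain ⟨c, hc, hpc⟩ := eq_iota_mul E (a := p) (acts_cm a1 a2)
  obtain ⟨d, hd, hqd⟩ := eq_iota_mul E (a := q) (acts_cm a3 a4)
  have hdbl : dbl (x1, x2, x3, x4) = cm (ι p * c) (ι q * d) := by rw [← hpc, ← hqd]; rfl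
  rw [hdbl] at hsq ⊢
  refine ⟨cm p q, (w1, w2, w3, w4), ⟨pm a1 hv1, pm a2 hv2, pm a3 hv3, pm a4 hv4⟩, rfl,
    cm_exact E hc hd hsq, ?_⟩
  rw [coe_cm]
  exact commute_cm (exact_cm (pm a1 hv1) (pm a2 hv2)) (exact_cm (pm a3 hv3) (pm a4 hv4))

/-- elements of the pattern of a witness of order five -/
def Five (ι : Wp →* G) (vs : List G) : Prop :=
  ∃ x y : G × G × G × G, All4 (fun a => Commute a (ι z) ∧ ∀ v ∈ vs, Commute a v) x ∧
    All4 (fun a => Commute a (ι z) ∧ ∀ v ∈ vs, Commute a v) y ∧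
    dbl x * dbl x = 1 ∧ dbl y * dbl y = 1 ∧ (dbl x * dbl y) ^ 5 = 1 ∧ dbl x * dbl y ≠ 1

/-- A witness of order five gives an element of order five commuting with the actions. -/
theorem five_element (E : Emb ι C) {vs : List G} {v : G} (hv : v ∈ vs) {w : W} (hw : Acts ι v w)
    (h : Five ι vs) : ∃ x : Wp, x ^ 5 = 1 ∧ x ≠ 1 ∧
      ∀ v ∈ vs, ∀ w : W, Acts ι v w → Commute (x : W) w := by
  obtain ⟨a, b, ha, hb, ha2, hb2, h5, hne⟩ := h
  obtain ⟨d, -, -, -, ed, -⟩ := double E hw a (ha.imp fun y hy => ⟨hy.1, hy.2 v hv⟩) ha2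
  obtain ⟨d', -, -, -, ed', -⟩ := double E hw b (hb.imp fun y hy => ⟨hy.1, hy.2 v hv⟩) hb2
  rw [ed, ed', ← map_mul] at h5 hne
  refine ⟨d * d', E.inj (by rw [map_pow, h5, map_one]), fun e => hne (by rw [e, map_one]), ?_⟩
  intro u hu w' hw'
  refine commute_to_acts E hw' ?_
  rw [map_mul, ← ed, ← ed']
  exact ((commute_dbl (ha.imp fun y hy => hy.2 u hu)).symm).mul_right
    (commute_dbl (hb.imp fun y hy => hy.2 u hu)).symm

/-- conjugates of the central involution -/
def Conj (ι : Wp →* G) (t : G) : Prop := ∃ g : G, g * ι z * g⁻¹ = t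

theorem Conj.sq (E : Emb ι C) {t : G} (h : Conj ι t) : t * t = 1 := by
  obtain ⟨g, rfl⟩ := h
  calc g * ι z * g⁻¹ * (g * ι z * g⁻¹) = g * (ι z * ι z) * g⁻¹ := by group
    _ = 1 := by rw [iota_z_sq E]; group

theorem Conj.ne_one (E : Emb ι C) {t : G} (h : Conj ι t) : t ≠ 1 := by
  obtain ⟨g, rfl⟩ := h
  exact fun e => iota_z_ne E (conj_eq_one_iff.mp e)

theorem Conj.conj {t : G} (h : Conj ι t) (k : G) : Conj ι (k * t * k⁻¹) := by
  obtain ⟨g, rfl⟩ := h
  exact ⟨k * g, by group⟩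

theorem twist (E : Emb ι C) (u : W) : Emb (ι.comp (conjWp u).toMonoidHom) C ∧
    (ι.comp (conjWp u).toMonoidHom) z = ι z ∧
    ∀ {g : G} {w : W}, Acts ι g w → Acts (ι.comp (conjWp u).toMonoidHom) g (u⁻¹ * w * u) := by
  have hz : (ι.comp (conjWp u).toMonoidHom) z = ι z := congrArg ι (conjWp_z u)
  have hact : ∀ {g : G} {w : W}, Acts ι g w →
      Acts (ι.comp (conjWp u).toMonoidHom) g (u⁻¹ * w * u) := by
    intro g w hg a
    refine (hg (conjWp u a)).trans ?_
    show _ = ι (conjWp u (conjWp (u⁻¹ * w * u) a))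
    rw [← MulAut.mul_apply, ← MulAut.mul_apply, ← map_mul, ← map_mul,
      show u * (u⁻¹ * w * u) = w * u by group]
  refine ⟨⟨E.inj.comp (conjWp u).injective, fun a c hc => E.comm _ c hc, fun g hg => ?_,
    fun g hg => E.memC g fun a => ?_, hz.symm ▸ E.zC, fun c hc h => hz.symm ▸ E.only c hc h,
    E.odd_comm⟩, hz, hact⟩
  · obtain ⟨w, hw⟩ := E.acts g (hz ▸ hg)
    exact ⟨_, hact hw⟩
  · simpa using hg ((conjWp u).symm a)

theorem Conj.twist {t : G} (E : Emb ι C) (u : W) (h : Conj ι t) :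
    Conj (ι.comp (conjWp u).toMonoidHom) t := by
  obtain ⟨g, rfl⟩ := h
  exact ⟨g, by rw [(Omega8Std24.twist E u).2.1]⟩

/-- the transport to the view of a conjugate -/
def view (g : G) : G →* G := (MulAut.conj g⁻¹).toMonoidHom

theorem view_apply (g y : G) : view g y = g⁻¹ * y * g := by simp [view]

theorem view_self {g t : G} (h : g * ι z * g⁻¹ = t) : view g t = ι z := by
  rw [view_apply, ← h]; group

theorem view_inj (g : G) : Function.Injective (view g) := (MulAut.conj g⁻¹).injective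

theorem view_conj {g t : G} : Conj ι (view g t) ↔ Conj ι t := by
  constructor
  · intro h
    have := h.conj g
    rwa [view_apply, show g * (g⁻¹ * t * g) * g⁻¹ = t by group] at this
  · intro h
    have := h.conj g⁻¹
    rwa [inv_inv, ← view_apply] at this

/-- Transport of the elements of a witness. -/
theorem view_all4 (E : Emb ι C) {g t : G} (hg : g * ι z * g⁻¹ = t) {w : W} (ht : Acts ι t w)
    {x : Wp × Wp × Wp × Wp} (hx : All4 (fun a : Wp => Commute (a : W) w) x) :
    All4 (fun y => Commute y (ι z) ∧ Commute y (view g (ι z)))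
      (map4 (fun a => view g (ι a)) x) := by
  refine hx.map4 fun a ha => ⟨?_, (commute_z E a).map (view g)⟩
  rw [← view_self hg]
  exact (commute_of_acts ht ha).symm.map (view g)

/-- Transport of a double commutator. -/
theorem view_dbl (E : Emb ι C) {g t : G} (hg : g * ι z * g⁻¹ = t) {w w' : W} (ht : Acts ι t w)
    (ht' : Acts ι (view g (ι z)) w') {d : Wp} (hd : DblW [w] d) (hdd : d * d = 1) :
    ∃ (d' : Wp) (e : W × W × W × W), All4 (fun f => f * w' * f⁻¹ = w' ∨ f * w' * f⁻¹ = (z : W) * w') e ∧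
      (d' : W) = dbl e ∧ view g (ι d) = ι d' ∧ Commute (d' : W) w' := by
  obtain ⟨x, hx, rfl⟩ := hd
  have hm := view_all4 E hg ht (hx.imp fun a ha => ha w (by simp))
  have e : dbl (map4 (fun a => view g (ι a)) x) = view g (ι (dbl x)) :=
    dbl_map4 ((view g).comp ι) x
  obtain ⟨d', e', he, hd', hi, hc⟩ := double E ht' _ hm (by rw [e, ← map_mul, ← map_mul, hdd, map_one, map_one])
  exact ⟨d', e', he, hd', e ▸ hi, hc⟩

/-- Transport of a witness of order five. -/
theorem view_five (E : Emb ι C) {g t : G} (hg : g * ι z * g⁻¹ = t) {ws : List W} (hw : FiveW ws)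
    {vs : List G} (hvs : ∀ v ∈ vs, ∃ w ∈ ws, Acts ι v w) (ht : t ∈ vs) :
    Five ι (view g (ι z) :: vs.map (view g)) := by
  obtain ⟨x, y, hx, hy, h1, h2, h5, hne⟩ := hw
  set f : Wp →* G := (view g).comp ι
  have key : ∀ a : Wp, Cen ws a → Commute (f a) (ι z) ∧
      ∀ v ∈ view g (ι z) :: vs.map (view g), Commute (f a) v := by
    intro a ha
    have h : ∀ v ∈ vs, Commute (f a) (view g v) := by
      intro v hv
      obtain ⟨w, hw, hact⟩ := hvs v hv
      exact (commute_of_acts hact (ha w hw)).symm.map (view g)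
    refine ⟨view_self hg ▸ h t ht, fun v hv => ?_⟩
    rcases List.mem_cons.mp hv with rfl | hv
    · exact (commute_z E a).map (view g)
    · obtain ⟨v', hv', rfl⟩ := List.mem_map.mp hv
      exact h v' hv'
  refine ⟨map4 f x, map4 f y, hx.map4 key, hy.map4 key, ?_⟩
  rw [dbl_map4, dbl_map4, ← map_mul, ← map_mul, ← map_mul, ← map_pow, h1, h2, h5]
  exact ⟨map_one f, map_one f, map_one f,
    fun e => hne (E.inj ((view_inj g (e.trans (map_one (view g)).symm)).trans (map_one ι).symm))⟩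

/-- Two involutions with the same action: if the product of one with the central involution is a
conjugate, so is the other's. -/
theorem same_action [Finite G] (E : Emb ι C) {u v : G} {w : W} (hu : Conj ι u) (hv : Conj ι v)
    (huz : Commute u (ι z)) (au : Acts ι u w) (av : Acts ι v w)
    (h : Conj ι (ι z * v)) : Conj ι (ι z * u) := by
  set c := u * v with hc
  have hu2 := hu.sq E
  have hv2 := hv.sq E
  have huv : v = u * c := by rw [hc, ← mul_assoc, hu2, one_mul]
  have hcC : c ∈ C := by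
    have := acts_ratio E au av
    rwa [inv_eq_of_mul_eq_one_right hu2, ← hc] at this
  have hinv : u * c * u⁻¹ = c⁻¹ := by
    rw [hc, inv_eq_of_mul_eq_one_right hu2, mul_inv_rev, inv_eq_of_mul_eq_one_right hu2,
      inv_eq_of_mul_eq_one_right hv2, ← mul_assoc, hu2, one_mul]
  have hzpow : ∀ j : ℕ, c ^ j * u * (c ^ j)⁻¹ = u * (c⁻¹) ^ (2 * j) := by
    intro j
    have e : u * (c⁻¹) ^ j * u⁻¹ = c ^ j := by
      rw [← conj_pow, show u * c⁻¹ * u⁻¹ = (u * c * u⁻¹)⁻¹ by group, hinv, inv_inv]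
    rw [← inv_pow, two_mul, pow_add]
    conv_lhs => rw [← e]
    group
  have hzc : ∀ j : ℕ, Commute (c ^ j) (ι z) := fun j => (E.comm z _ (pow_mem hcC j)).symm
  set n := orderOf c with hn
  have hnpos : 0 < n := orderOf_pos c
  rcases Nat.even_or_odd n with ⟨m, hm⟩ | ⟨m, hm⟩
  · -- `c ^ m` is the central involution
    have hm2 : c ^ m * c ^ m = 1 := by rw [← pow_add, ← hm, hn, pow_orderOf_eq_one]
    have hcm : c ^ m = ι z := (E.only _ (pow_mem hcC m) hm2).resolve_left fun e => by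
      have := orderOf_dvd_of_pow_eq_one e
      have := Nat.le_of_dvd (by omega) this
      omega
    rcases Nat.even_or_odd m with ⟨j, hj⟩ | ⟨j, hj⟩
    · -- conjugate to `u`
      have e : c ^ j * u * (c ^ j)⁻¹ = ι z * u := by
        rw [hzpow, inv_pow, show 2 * j = m by omega, hcm, ← huz.eq,
          inv_eq_of_mul_eq_one_right (iota_z_sq E)]
      exact e ▸ hu.conj _
    · -- conjugate to `v`
      have e : c ^ (j + 1) * u * (c ^ (j + 1))⁻¹ = u * (c⁻¹) ^ m * c⁻¹ := by
        rw [hzpow, mul_assoc, ← pow_succ]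
        congr 2; omega
      rw [inv_pow, hcm, inv_eq_of_mul_eq_one_right (iota_z_sq E)] at e
      have e2 : u * c⁻¹ * ι z = ι z * u * c⁻¹ := by
        rw [mul_assoc u, ← (E.comm z _ (inv_mem hcC)).eq, ← mul_assoc, huz.eq]
      have h1 : c * v * c⁻¹ = u * c⁻¹ := by
        rw [huv]
        calc c * (u * c) * c⁻¹ = c * u := by group
          _ = (u * u) * c * u := by rw [hu2, one_mul]
          _ = u * (u * c * u⁻¹) := by rw [inv_eq_of_mul_eq_one_right hu2]; group
          _ = _ := by rw [hinv]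
      have h2 : Conj ι (ι z * (u * c⁻¹)) := by
        have := h.conj c
        rwa [show c * (ι z * v) * c⁻¹ = (c * ι z) * v * c⁻¹ by group,
          show c * ι z = ι z * c from (E.comm z c hcC).eq.symm, mul_assoc (ι z) c v,
          mul_assoc (ι z), h1] at this
      have h3 : c ^ (j + 1) * u * (c ^ (j + 1))⁻¹ = ι z * (u * c⁻¹) := by
        rw [e, huz.eq, mul_assoc]
      -- hence `z u` is conjugate to `v`
      have h4 : (c ^ (j + 1))⁻¹ * (ι z * (u * c⁻¹)) * c ^ (j + 1) = u := by rw [← h3]; group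
      have h5 : Conj ι (u * c⁻¹) := h1 ▸ hv.conj c
      have h6 := h5.conj (c ^ (j + 1))⁻¹
      have e3 : (c ^ (j + 1))⁻¹ * (u * c⁻¹) * ((c ^ (j + 1))⁻¹)⁻¹ = ι z * u := by
        rw [inv_inv, show u * c⁻¹ = ι z * (ι z * (u * c⁻¹)) by rw [← mul_assoc, iota_z_sq E, one_mul],
          ← mul_assoc _ (ι z), ((hzc (j + 1)).inv_left).eq, mul_assoc (ι z), mul_assoc (ι z), h4]
      exact e3 ▸ h6
  · have e : c ^ m * u * (c ^ m)⁻¹ = v := by
      rw [hzpow, inv_pow, huv]
      congr 1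
      refine inv_eq_of_mul_eq_one_left ?_
      rw [← pow_succ', ← hm, hn, pow_orderOf_eq_one]
    have h1 := h.conj (c ^ m)⁻¹
    rwa [inv_inv, ← e, show (c ^ m)⁻¹ * (ι z * (c ^ m * u * (c ^ m)⁻¹)) * c ^ m =
        (c ^ m)⁻¹ * (ι z * c ^ m) * u by group, ← (hzc m).eq, inv_mul_cancel_left] at h1

end Cfsg.Agent.Omega8Std24
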