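import Cfsg.Agent.Lib.Omega8Five24
import Cfsg.Agent.Lib.Omega8Std24

/-!
The class of the action of a conjugate of the central involution, and general lemmas on conjugation
by the embedded group.
-/

set_option autoImplicit false
set_option maxRecDepth 4000

namespace Cfsg.Agent.Omega8FusionBase24

open Cfsg Cfsg.Agent.E8Even69 Cfsg.Agent.Omega8CoverIso24 Cfsg.Agent.CoxeterCenter Cfsg.Agent.CoxeterTables
open Cfsg.Agent.Omega8Data24 Cfsg.Agent.Omega8Refl24 Cfsg.Agent.Omega8Sylow24 Cfsg.Agent.Omega8Lines24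
open Cfsg.Agent.Omega8Witness24 Cfsg.Agent.Omega8Std24

universe u

/-- a representative -/
noncomputable def rep (i : ℕ) : W := pR (repL.getD i [])

theorem rep_lt {i : ℕ} (hi : i < 6) : ∀ k ∈ repL.getD i [], k < 120 := okL_iff (reps.1 i hi)

theorem zne : (z : W) ≠ 1 := fun h => z_ne_one (Subtype.ext h)

theorem sgn_z : sgn (z : W) = 1 := sgn_Wp z.2

theorem rep_zero : rep 0 = R 0 := by rw [rep, reps.2.1]; simp [pR_cons]

theorem rep_one : rep 1 = pR [0, r2] := by rw [rep, rep1.1]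

theorem rep_sq {i : ℕ} (hi : i < 5) : rep i * rep i = 1 := by
  have h := reps.2.2.2.2.2.2.1 i hi
  have hl := rep_lt (i := i) (by omega)
  rw [rep, ← pR_append, pR_eq (fun k hk => (List.mem_append.mp hk).elim (hl k) (hl k)) (by simp) h]
  rfl

theorem rep_five_sq : rep 5 * rep 5 = (z : W) := by
  have hl := rep_lt (i := 5) (by norm_num)
  rw [rep, ← pR_append]
  exact pR_eq_z (fun k hk => (List.mem_append.mp hk).elim (hl k) (hl k)) reps.2.2.2.2.2.2.2

theorem cls_sq {i : ℕ} (hi : i < 5) {w : W} (h : Cls i w) : w * w = 1 := by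
  obtain ⟨g, hg⟩ := h
  have e : (g * w * g⁻¹) * (g * w * g⁻¹) = 1 := by
    rcases hg with e | e <;> rw [e]
    · exact rep_sq hi
    · show (z : W) * rep i * ((z : W) * rep i) = 1
      rw [show (z : W) * rep i * ((z : W) * rep i) = (z : W) * (rep i * (z : W)) * rep i by group, zc,
        ← mul_assoc (z : W), zz, one_mul, rep_sq hi]
  rw [show g * w * g⁻¹ * (g * w * g⁻¹) = g * (w * w) * g⁻¹ by group] at e
  exact conj_eq_one_iff.mp e

theorem cls_five_sq {w : W} (h : Cls 5 w) : w * w = (z : W) := by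
  obtain ⟨g, hg⟩ := h
  have e : (g * w * g⁻¹) * (g * w * g⁻¹) = (z : W) := by
    rcases hg with e | e <;> rw [e]
    · exact rep_five_sq
    · show (z : W) * rep 5 * ((z : W) * rep 5) = (z : W)
      rw [show (z : W) * rep 5 * ((z : W) * rep 5) = (z : W) * (rep 5 * (z : W)) * rep 5 by group, zc,
        ← mul_assoc (z : W), zz, one_mul, rep_five_sq]
  calc w * w = g⁻¹ * (g * w * g⁻¹ * (g * w * g⁻¹)) * g := by group
    _ = _ := by rw [e, zc, inv_mul_cancel_right]

variable {G : Type u} [Group G]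

/-- The action of `g` is conjugate to the representative `i`. -/
def At (ι : Wp →* G) (g : G) (i : ℕ) : Prop := ∃ w u : W, Acts ι g w ∧ u * w * u⁻¹ = rep i

variable {ι : Wp →* G} {C : Subgroup G}

theorem at_of_cls {g : G} {w : W} {i : ℕ} (hw : Acts ι g w) (h : Cls i w) : At ι g i := by
  obtain ⟨u, hu | hu⟩ := h
  · exact ⟨w, u, hw, hu⟩
  · refine ⟨(z : W) * w, u, acts_z_mul hw, ?_⟩
    rw [← mul_assoc u, zc u, mul_assoc, mul_assoc, ← mul_assoc u w, hu, ← mul_assoc, zz, one_mul]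
    rfl

theorem action_sq (E : Emb ι C) {g : G} {w : W} (hg : Acts ι g w) (h2 : g * g = 1) :
    w * w = 1 ∨ w * w = (z : W) := by
  have h1 := acts_mul hg hg
  rw [h2] at h1
  rcases acts_unique E (acts_C E (one_mem C)) h1 with e | e
  · exact Or.inl e
  · exact Or.inr (by rwa [mul_one] at e)

theorem conj_z (ι : Wp →* G) : Conj ι (ι z) := ⟨1, by simp⟩

theorem action_ne (E : Emb ι C) {t : G} (ht : Conj ι t) (hne : t ≠ ι z) {w : W} (hw : Acts ι t w) :
    w ≠ 1 ∧ w ≠ (z : W) := by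
  have key : ¬ Acts ι t 1 := fun h => by
    rcases E.only t (mem_C_of_acts_one E h) (ht.sq E) with e | e
    · exact ht.ne_one E e
    · exact hne e
  refine ⟨fun e => key (e ▸ hw), fun e => key ?_⟩
  have h := acts_z_mul hw
  rwa [e, zz] at h

theorem classify_conj (E : Emb ι C) {t : G} (ht : Conj ι t) (hz : Commute t (ι z)) (hne : t ≠ ι z) :
    ∃ i < 6, At ι t i := by
  obtain ⟨w, hw⟩ := E.acts t hz
  obtain ⟨h1, h2⟩ := action_ne E ht hne hw
  obtain ⟨i, hi, hc⟩ := ((Omega8Classes24.classify (action_sq E hw (ht.sq E))).resolve_left h1).resolve_left h2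
  exact ⟨i, hi, at_of_cls hw hc⟩

theorem twist_at (E : Emb ι C) {t : G} {i : ℕ} (h : At ι t i) :
    ∃ ι' : Wp →* G, Emb ι' C ∧ ι' z = ι z ∧ Acts ι' t (rep i) := by
  obtain ⟨w, u, hw, hu⟩ := h
  obtain ⟨h1, h2, h3⟩ := twist E u⁻¹
  refine ⟨_, h1, h2, ?_⟩
  have := h3 hw
  rwa [inv_inv, hu] at this

theorem conj_congr {ι' : Wp →* G} (h : ι' z = ι z) {t : G} : Conj ι' t ↔ Conj ι t := by
  simp only [Conj, h]

theorem five_congr {ι' : Wp →* G} (h : ι' z = ι z) {vs : List G} : Five ι' vs ↔ Five ι vs := by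
  simp only [Five, h]

/-! ### the view -/

/-- The basic properties of the view of a conjugate `t` commuting with the central involution. -/
theorem view_basic (E : Emb ι C) {g t : G} (hg : g * ι z * g⁻¹ = t) (hz : Commute t (ι z)) :
    view g t = ι z ∧ Conj ι (view g (ι z)) ∧ Commute (view g (ι z)) (ι z) ∧
      (t ≠ ι z → view g (ι z) ≠ ι z) := by
  have h := view_self hg
  refine ⟨h, view_conj.mpr (conj_z ι), ?_, fun hne e => hne ?_⟩
  · have h2 := hz.symm.map (view g)
    rwa [h] at h2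
  · exact view_inj g (h.trans e.symm)

theorem view_of_commute {g t u : G} (hg : g * ι z * g⁻¹ = t) (h : Commute u t) :
    Commute (view g u) (ι z) := by
  have := h.map (view g)
  rwa [view_self hg] at this

/-- The action of a conjugate with a witness of order five. -/
theorem five_at (E : Emb ι C) {vs : List G} {v : G} (hv : v ∈ vs) (hc : Conj ι v)
    (hz : Commute v (ι z)) (hne : v ≠ ι z) (h : Five ι vs) : At ι v 0 ∨ At ι v 1 ∨ At ι v 5 := by
  obtain ⟨w, hw⟩ := E.acts v hz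
  obtain ⟨h1, h2⟩ := action_ne E hc hne hw
  obtain ⟨x, hx5, hx1, hx⟩ := five_element E hv hw h
  have hx5' : (x : W) ^ 5 = 1 := by rw [← SubmonoidClass.coe_pow, hx5]; rfl
  have hcw := (hx v hv w hw).symm
  rcases Omega8Five24.five_cases hx5' (fun e => hx1 (Subtype.ext e)) with ⟨hA, -⟩ | hB
  · rcases hA w (action_sq E hw (hc.sq E)) hcw with e | e | e | e
    · exact absurd e h1
    · exact absurd e h2
    · exact Or.inl (at_of_cls hw e)
    · exact Or.inr (Or.inl (at_of_cls hw e))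
  · rcases hB w (action_sq E hw (hc.sq E)) hcw with e | e | e
    · exact absurd e h1
    · exact absurd e h2
    · exact Or.inr (Or.inr (at_of_cls hw e))

/-- A witness of order five from the Weyl group. -/
theorem five_of_W (E : Emb ι C) {ws : List W} (hw : FiveW ws) {vs : List G}
    (hvs : ∀ v ∈ vs, ∃ w ∈ ws, Acts ι v w) : Five ι vs := by
  obtain ⟨x, y, hx, hy, h1, h2, h5, hne⟩ := hw
  have key : ∀ a : Wp, Cen ws a → Commute (ι a) (ι z) ∧ ∀ v ∈ vs, Commute (ι a) v := fun a ha =>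
    ⟨commute_z E a, fun v hv => by
      obtain ⟨w, hw, hact⟩ := hvs v hv
      exact (commute_of_acts hact (ha w hw)).symm⟩
  refine ⟨map4 ι x, map4 ι y, hx.map4 key, hy.map4 key, ?_⟩
  rw [dbl_map4, dbl_map4, ← map_mul, ← map_mul, ← map_mul, ← map_pow, h1, h2, h5]
  exact ⟨map_one ι, map_one ι, map_one ι, fun e => hne (E.inj (e.trans (map_one ι).symm))⟩

/-- Transport of a witness along a monomorphism. -/
theorem five_map {f : G →* G} (hf : Function.Injective f) {v0 : G} {vs : List G} (hv0 : v0 ∈ vs)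
    (e : f v0 = ι z) (h : Five ι vs) : Five ι (f (ι z) :: vs.map f) := by
  obtain ⟨x, y, hx, hy, h1, h2, h5, hne⟩ := h
  have key : ∀ a : G, (Commute a (ι z) ∧ ∀ v ∈ vs, Commute a v) →
      Commute (f a) (ι z) ∧ ∀ v ∈ f (ι z) :: vs.map f, Commute (f a) v := by
    intro a ha
    refine ⟨e ▸ (ha.2 v0 hv0).map f, fun v hv => ?_⟩
    rcases List.mem_cons.mp hv with rfl | hv
    · exact ha.1.map f
    · obtain ⟨v', hv', rfl⟩ := List.mem_map.mp hv
      exact (ha.2 v' hv').map f
  refine ⟨map4 f x, map4 f y, hx.map4 key, hy.map4 key, ?_⟩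
  rw [dbl_map4, dbl_map4, ← map_mul, ← map_mul, ← map_mul, ← map_pow, h1, h2, h5]
  exact ⟨map_one f, map_one f, map_one f, fun e => hne (hf (e.trans (map_one f).symm))⟩

/-! ### conjugation by the embedded group -/

theorem conj_iota {t : G} {w : W} (ht : Acts ι t w) (a d : Wp)
    (hd : (d : W) = a * w * (a : W)⁻¹ * w⁻¹) : ι a * t * (ι a)⁻¹ = ι d * t := by
  have h := ht a⁻¹
  rw [map_inv] at h
  have e : a * conjWp w a⁻¹ = d := Subtype.ext (by
    rw [hd, Subgroup.coe_mul, coe_conjWp, Subgroup.coe_inv]; group)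
  rw [← e, map_mul, ← h]
  group

theorem iota_conj_z (E : Emb ι C) (a : Wp) (t : G) :
    ι a * (ι z * t) * (ι a)⁻¹ = ι z * (ι a * t * (ι a)⁻¹) := by
  rw [← mul_assoc (ι a), (commute_z E a).eq]; group

theorem even_adjust {g h : W} (hh : sgn h = Multiplicative.ofAdd 1) :
    g ∈ Wp ∨ h * g ∈ Wp := by
  by_cases hg : g ∈ Wp
  · exact Or.inl hg
  · right
    have h2 : sgn g ≠ 1 := fun e => hg ((mem_Wp_iff g).mpr e)
    have : ∀ q : Multiplicative (ZMod 2), q ≠ 1 → Multiplicative.ofAdd 1 * q = 1 := by decide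
    rw [mem_Wp_iff, map_mul, hh]
    exact this _ h2

theorem rep_commute_R0 : ∀ i ∈ [0, 1, 2, 3, 4], Commute (R 0) (rep i) := by
  intro i hi
  have hi6 : i < 6 := by simp at hi; omega
  have h : ∀ i ∈ [0, 1, 2, 3, 4],
      permList refP 240 (0 :: repL.getD i []) = permList refP 240 (repL.getD i [] ++ [0]) := by
    decide +kernel
  show R 0 * rep i = rep i * R 0
  have h1 := pR_eq (a := 0 :: repL.getD i []) (b := repL.getD i [] ++ [0])
    (fun k hk => (List.mem_cons.mp hk).elim (fun e => by omega) (rep_lt hi6 k))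
    (fun k hk => (List.mem_append.mp hk).elim (rep_lt hi6 k) (fun e => by simp at e; omega)) (h i hi)
  simpa [pR_cons, pR_append, rep] using h1

/-- An element conjugate to a representative is conjugate to it by the even subgroup. -/
theorem even_conjugator {i : ℕ} (hi : i ∈ [0, 1, 2, 3, 4]) {u w : W} (h : u * w * u⁻¹ = rep i) :
    ∃ a : Wp, (a : W) * w * (a : W)⁻¹ = rep i := by
  rcases even_adjust (g := u) (h := R 0) (sgn_R (by norm_num)) with hu | hu
  · exact ⟨⟨u, hu⟩, h⟩
  · refine ⟨⟨R 0 * u, hu⟩, ?_⟩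
    show R 0 * u * w * (R 0 * u)⁻¹ = rep i
    rw [show R 0 * u * w * (R 0 * u)⁻¹ = R 0 * (u * w * u⁻¹) * (R 0)⁻¹ by group, h,
      (rep_commute_R0 i hi).eq, mul_inv_cancel_right]

theorem coe_el' {l : List ℕ} (h : ∀ k ∈ l, k < 120) (he : l.length % 2 = 0) : (el l : W) = pR l :=
  coe_el ⟨List.all_eq_true.mpr fun k hk => decide_eq_true (h k hk), he⟩

/-- the product of two reflections -/
noncomputable def pr (k l : ℕ) : Wp := el [k, l]

theorem coe_pr {k l : ℕ} (hk : k < 120) (hl : l < 120) : (pr k l : W) = R k * R l := by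
  rw [pr, coe_el' (by simp [hk, hl]) (by simp), pR_pair]

theorem R_ne_zR {k l : ℕ} (hk : k < 120) (hl : l < 120) : R k ≠ (z : W) * R l := by
  intro h
  obtain ⟨g, hg⟩ := exists_to_zero hl
  have h1 : R (lmap g k) = (z : W) * R 0 := by
    rw [← conj_lmap g hk, h, ← mul_assoc, zc g, mul_assoc, mul_assoc, ← mul_assoc g, conj_lmap g hl, hg]
  refine single_neg ⟨lmap g k, lmap_lt _ _⟩ ?_
  have hperm : ∀ r : Fin 240, actWord refP [lmap g k] r.val =
      E8EvenData69.negL.getD (actWord refP [0] r.val) 0 := by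
    intro r
    have h2 := congrArg (fun w => (rho w r).val) h1
    simp only [map_mul, Equiv.Perm.mul_apply, rho_R (lmap_lt g k), rho_z, rho_R (show (0 : ℕ) < 120 by norm_num)] at h2
    simpa [CoxeterTables.actWord] using h2
  rw [permList, permList, List.map_map]
  refine List.map_congr_left fun r hr => ?_
  exact hperm ⟨r, List.mem_range.mp hr⟩

theorem acts_R_unique (E : Emb ι C) {g : G} {k l : ℕ} (hk : k < 120) (hl : l < 120)
    (h1 : Acts ι g (R k)) (h2 : Acts ι g (R l)) : k = l := by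
  rcases acts_unique E h1 h2 with e | e
  · exact (R_inj hl hk e).symm
  · exact absurd e (R_ne_zR hl hk)

theorem at_zero_line {v : G} (h : At ι v 0) : ∃ k < 120, Acts ι v (R k) := by
  obtain ⟨w, u, hw, hu⟩ := h
  refine ⟨lmap u⁻¹ 0, lmap_lt _ _, ?_⟩
  rw [← conj_lmap u⁻¹ (by norm_num), ← rep_zero, ← hu]
  convert hw using 1
  group

theorem at_line {v : G} {k : ℕ} (hk : k < 120) (h : Acts ι v (R k)) : At ι v 0 := by
  obtain ⟨g, hg⟩ := exists_to_zero hk
  exact ⟨R k, g, h, by rw [conj_lmap g hk, hg, rep_zero]⟩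

theorem sgn_conj (u w : W) : sgn (u * w * u⁻¹) = sgn w := by
  rw [map_mul, map_mul, map_inv, mul_inv_cancel_comm]

theorem sgn_rep : sgn (rep 0) = Multiplicative.ofAdd 1 ∧ sgn (rep 2) = Multiplicative.ofAdd 1 ∧
    sgn (rep 1) = 1 ∧ sgn (rep 3) = 1 ∧ sgn (rep 4) = 1 ∧ sgn (rep 5) = 1 := by
  have h : ∀ i < 6, sgn (rep i) = Multiplicative.ofAdd (((repL.getD i []).length : ℕ) : ZMod 2) :=
    fun i hi => sgn_pR (rep_lt hi)
  simp only [h 0 (by norm_num), h 1 (by norm_num), h 2 (by norm_num), h 3 (by norm_num), h 4 (by norm_num),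
    h 5 (by norm_num)]
  decide +kernel

/-- The parity of the action. -/
theorem parity (E : Emb ι C) {g : G} {v : W} {i : ℕ} (h : At ι g i) (hv : Acts ι g v) :
    sgn v = sgn (rep i) := by
  obtain ⟨w, u, hw, hu⟩ := h
  rw [← hu, sgn_conj]
  rcases acts_unique E hv hw with e | e <;> rw [e]
  rw [map_mul, sgn_z, one_mul]

theorem even_at (E : Emb ι C) {g : G} {i : ℕ} (h : At ι g i) (h2 : g * g = 1) (hi : i ∈ [1, 3, 4]) :
    ∃ e : Wp, ∃ u : W, u * (e : W) * u⁻¹ = rep i ∧ (g = ι e ∨ g = ι (z * e)) := by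
  obtain ⟨w, u, hw, hu⟩ := h
  have hi5 : i < 5 := by simp at hi; omega
  have hwW : w ∈ Wp := by
    rw [mem_Wp_iff, ← sgn_conj u, hu]
    obtain ⟨-, -, s1, s3, s4, -⟩ := sgn_rep
    simp only [List.mem_cons, List.not_mem_nil, or_false] at hi
    rcases hi with rfl | rfl | rfl
    exacts [s1, s3, s4]
  refine ⟨⟨w, hwW⟩, u, hu, even_involution E (a := ⟨w, hwW⟩) hw h2 (Subtype.ext ?_)⟩
  show w * w = 1
  exact cls_sq hi5 ⟨u, Or.inl hu⟩

/-- commuting involutions with the same action -/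
theorem eq_or_mul_z (E : Emb ι C) {u v : G} (hu : u * u = 1) (hv : v * v = 1) (hc : Commute u v)
    {w : W} (au : Acts ι u w) (av : Acts ι v w) : v = u ∨ v = u * ι z := by
  have h := acts_ratio E au av
  rw [inv_eq_of_mul_eq_one_right hu] at h
  rcases E.only _ h (by rw [hc.symm.mul_mul_mul_comm u v, hu, hv, one_mul]) with e | e
  · left; rw [← one_mul v, ← hu, mul_assoc, e, mul_one]
  · right; rw [← e, ← mul_assoc, hu, one_mul]

end Cfsg.Agent.Omega8FusionBase24
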