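import Cfsg.Agent.Lib.Omega8FusionPlane24

/-!
No conjugate of the central involution acts as a reflection.
-/

set_option autoImplicit false
set_option maxRecDepth 4000

namespace Cfsg.Agent.Omega8FusionLine24

open Cfsg Cfsg.Agent.E8Even69 Cfsg.Agent.Omega8CoverIso24
open Cfsg.Agent.Omega8Data24 Cfsg.Agent.Omega8Refl24 Cfsg.Agent.Omega8Sylow24 Cfsg.Agent.Omega8Lines24
open Cfsg.Agent.Omega8Witness24 Cfsg.Agent.Omega8Std24 Cfsg.Agent.Omega8FusionBase24
open Cfsg.Agent.Omega8FusionPlane24 Cfsg.Agent.OmegaEightTwo69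

universe u

variable {G : Type u} [Group G] {ι : Wp →* G} {C : Subgroup G}

/-- The lift of the reflection `k` determined by `t` acting as the reflection `m`. -/
noncomputable def L (ι : Wp →* G) (t : G) (m k : ℕ) : G := ι (pr k m) * t

theorem L_self (t : G) {m : ℕ} (hm : m < 120) : L ι t m m = t := by
  rw [L, show pr m m = 1 from Subtype.ext (by rw [coe_pr hm hm, R_sq (by omega)]; rfl), map_one, one_mul]

theorem acts_L {t : G} {m k : ℕ} (hm : m < 120) (hk : k < 120) (ht : Acts ι t (R m)) :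
    Acts ι (L ι t m k) (R k) := by
  have h := acts_mul (acts_iota (ι := ι) (pr k m)) ht
  rwa [coe_pr hk hm, mul_assoc, R_sq (by omega), mul_one] at h

theorem L_mul {t : G} {m k l : ℕ} (hm : m < 120) (hk : k < 120) (hl : l < 120) (ht : Acts ι t (R m))
    (h2 : t * t = 1) : L ι t m k * L ι t m l = ι (pr k l) := by
  have e : pr k m * conjWp (R m) (pr l m) = pr k l := Subtype.ext (by
    rw [Subgroup.coe_mul, coe_conjWp, coe_pr hk hm, coe_pr hl hm, coe_pr hk hl]
    calc R k * R m * (R m * (R l * R m) * (R m)⁻¹) = R k * (R m * R m) * R l := by group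
      _ = R k * R l := by rw [R_sq (by omega), mul_one])
  rw [← e, map_mul, ← ht, L, L]
  calc ι (pr k m) * t * (ι (pr l m) * t) = ι (pr k m) * (t * ι (pr l m) * t⁻¹) * (t * t) := by group
    _ = _ := by rw [h2, mul_one]

theorem L_conj_even {t : G} {m k : ℕ} (hm : m < 120) (hk : k < 120) (ht : Acts ι t (R m)) :
    ∃ a : Wp, ι a * t * (ι a)⁻¹ = L ι t m k := by
  obtain ⟨a, ha⟩ := exists_even_conj hm hk
  exact ⟨a, conj_iota ht a (pr k m) (by rw [coe_pr hk hm, ha, R_inv (by omega)])⟩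

theorem conj_L {t : G} {m k : ℕ} (hm : m < 120) (hk : k < 120) (ht : Acts ι t (R m)) (hc : Conj ι t) :
    Conj ι (L ι t m k) := by
  obtain ⟨a, ha⟩ := L_conj_even hm hk ht
  exact ha ▸ hc.conj _

theorem commute_L (E : Emb ι C) {t : G} {m k : ℕ} (hz : Commute t (ι z)) :
    Commute (L ι t m k) (ι z) :=
  (commute_z E _).mul_left hz

theorem L_inj (E : Emb ι C) {t : G} {m k l : ℕ} (hm : m < 120) (hk : k < 120) (hl : l < 120)
    (ht : Acts ι t (R m)) (h : L ι t m k = L ι t m l) : k = l :=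
  acts_R_unique E hk hl (acts_L hm hk ht) (h ▸ acts_L hm hl ht)

theorem L_orth_commute {t : G} {m k l : ℕ} (hm : m < 120) (hk : k < 120) (hl : l < 120)
    (ht : Acts ι t (R m)) (h2 : t * t = 1) (ho : Orth k l) : Commute (L ι t m k) (L ι t m l) := by
  show _ * _ = _ * _
  rw [L_mul hm hk hl ht h2, L_mul hm hl hk ht h2]
  refine congrArg ι (Subtype.ext ?_)
  rw [coe_pr hk hl, coe_pr hl hk, (comm_of_orth hk hl ho).eq]

theorem orth_of_commute_acts (E : Emb ι C) {x y : G} {k l : ℕ} (hk : k < 120) (hl : l < 120)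
    (hne : k ≠ l) (hx : Acts ι x (R k)) (hy : Acts ι y (R l)) (hc : Commute x y) : Orth k l := by
  rcases acts_commute E hx hy hc with e | e
  · exact (orth_iff hk hl hne).mpr e
  · have h := conj_lmap (R k) hl
    rw [e, R_inv (show k < 240 by omega)] at h
    have h1 : R (lmap (R k) l) = (z : W) * R l := by
      rw [← h, mul_assoc, mul_assoc, R_sq (by omega), mul_one]
    exact absurd h1 (R_ne_zR (lmap_lt _ _) hl)

theorem L_cube {t : G} {m k l : ℕ} (hm : m < 120) (hk : k < 120) (hl : l < 120) (ht : Acts ι t (R m))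
    (h2 : t * t = 1) (hne : k ≠ l) (ho : ¬ Orth k l) :
    (L ι t m k * L ι t m l) * (L ι t m k * L ι t m l) * (L ι t m k * L ι t m l) = 1 := by
  rw [L_mul hm hk hl ht h2, ← map_mul, ← map_mul,
    show pr k l * pr k l * pr k l = 1 from Subtype.ext (by
      simp only [Subgroup.coe_mul, Subgroup.coe_one, coe_pr hk hl]
      exact cube_of_not_orth hk hl hne ho), map_one]

theorem Conj.ne_of_acts (E : Emb ι C) {v : G} {k : ℕ} (hk : k < 120) (hv : Acts ι v (R k)) : v ≠ ι z := by
  intro e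
  have h1 := acts_iota (ι := ι) z
  rw [← e] at h1
  rcases acts_unique E h1 hv with e1 | e1
  · have h2 := congrArg sgn e1
    rw [sgn_R hk, sgn_z] at h2
    exact absurd h2 (by decide)
  · rw [zz] at e1
    have h2 := congrArg sgn e1
    rw [sgn_R hk, map_one sgn] at h2
    exact absurd h2 (by decide)

theorem five_L (E : Emb ι C) {t : G} {m k l : ℕ} (hm : m < 120) (hk : k < 120) (hl : l < 120)
    (ht : Acts ι t (R m)) (ho : Orth k l) : Five ι [L ι t m k, L ι t m l] := by
  obtain ⟨g, gk, gl⟩ := exists_to_pair hk hl ho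
  have h := five_pair.conj g⁻¹
  refine five_of_W E h fun v hv => ?_
  simp only [List.mem_cons, List.not_mem_nil, or_false] at hv
  rcases hv with rfl | rfl
  · refine ⟨R k, ?_, acts_L hm hk ht⟩
    simp only [List.map_cons, List.map_nil, List.mem_cons, List.not_mem_nil, or_false]
    left
    rw [← gk, ← conj_lmap g hk]; group
  · refine ⟨R l, ?_, acts_L hm hl ht⟩
    simp only [List.map_cons, List.map_nil, List.mem_cons, List.not_mem_nil, or_false]
    right
    rw [← gl, ← conj_lmap g hl]; group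

theorem za_conj {a i : ℕ} (ha : a < 120) (hi : i < 120) (ho : Orth a i) :
    DblW [R a, R i] (z * pr a i) := by
  obtain ⟨g, ga, gi⟩ := exists_to_pair ha hi ho
  have h := za_pair.conj g⁻¹
  have e1 : g⁻¹ * R 0 * g⁻¹⁻¹ = R a := by rw [← ga, ← conj_lmap g ha]; group
  have e2 : g⁻¹ * R r2 * g⁻¹⁻¹ = R i := by rw [← gi, ← conj_lmap g hi]; group
  have e3 : conjWp g⁻¹ (z * b1) = z * pr a i := by
    rw [map_mul, conjWp_z]
    refine congrArg (z * ·) (Subtype.ext ?_)
    rw [coe_conjWp, coe_pr ha hi, pair_coe, ← e1, ← e2]; group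
  rw [e3] at h
  simp only [List.map_cons, List.map_nil, e1, e2] at h
  exact h

variable [Finite G]

/-- A conjugate acting as a reflection is not conjugate to its product with the central involution. -/
theorem not_both (E : Emb ι C) {t : G} {m : ℕ} (hm : m < 120) (hc : Conj ι t) (hz : Commute t (ι z))
    (ht : Acts ι t (R m)) : ¬ Conj ι (ι z * t) := by
  intro hzt
  obtain ⟨g₀, hg₀⟩ := exists_to_zero hm
  obtain ⟨E', hκ, hact⟩ := twist E g₀⁻¹
  have ht0 : Acts (ι.comp (conjWp g₀⁻¹).toMonoidHom) t (R 0) := by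
    have h := hact ht
    rwa [inv_inv, conj_lmap g₀ hm, hg₀] at h
  set κ := ι.comp (conjWp g₀⁻¹).toMonoidHom
  rw [← hκ] at hz hzt
  rw [← conj_congr hκ] at hc hzt
  clear ht hm E
  have h0 : (0 : ℕ) < 120 := by norm_num
  have h2 := hc.sq E'
  have hr : r2 < 120 := rep1.2.1
  set u := L κ t 0 r2 with hu
  have hu' : Conj κ u := conj_L h0 hr ht0 hc
  have hut : Commute u t := by
    have h := L_orth_commute h0 hr h0 ht0 h2 (orth_symm h0 hr rep1.2.2)
    rwa [L_self t h0] at h
  obtain ⟨g, hg⟩ := hc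
  have hc : Conj κ t := ⟨g, hg⟩
  obtain ⟨hvt, -, -, -⟩ := view_basic E' hg hz
  have hut_ne : u ≠ t := fun e => by
    have h := L_inj E' h0 hr h0 ht0 (by rw [L_self t h0]; exact e)
    exact rep1.2.2.1 h.symm
  have hvne : view g u ≠ κ z := fun e => hut_ne (view_inj g (e.trans hvt.symm))
  have hvz : Commute (view g u) (κ z) := view_of_commute hg hut
  have h5 : Five κ (view g (κ z) :: [t, u].map (view g)) := by
    refine view_five E' hg five_pair (fun y hy => ?_) (by simp)
    simp only [List.mem_cons, List.not_mem_nil, or_false] at hy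
    rcases hy with rfl | rfl
    · exact ⟨_, by simp, ht0⟩
    · exact ⟨_, by simp, acts_L h0 hr ht0⟩
  obtain ⟨k, hk, hka⟩ := five_reflection E' (v := view g u) (by simp) (view_conj.mpr hu') hvz hvne h5
  obtain ⟨a, ha⟩ := L_conj_even (k := k) h0 hk ht0
  have hzL : Conj κ (κ z * L κ t 0 k) := by
    rw [← ha, ← iota_conj_z E']; exact hzt.conj _
  have h6 := same_action E' (view_conj.mpr hu') (conj_L h0 hk ht0 hc) hvz hka (acts_L h0 hk ht0) hzL
  have h6' : Conj κ (view g (t * u)) := by rw [map_mul, hvt]; exact h6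
  have h7 : Conj κ (t * u) := view_conj.mp h6'
  rw [hu, ← hut.eq, ← L_self (ι := κ) t h0] at h7
  rw [L_mul h0 hr h0 ht0 h2] at h7
  refine no_two E' h7 ?_
  obtain ⟨g1, e1, e2⟩ := exists_to_pair hr h0 (orth_symm h0 hr rep1.2.2)
  refine ⟨(pr r2 0 : W), g1, acts_iota _, ?_⟩
  rw [coe_pr hr h0, rep_one, pR_pair,
    show g1 * (R r2 * R 0) * g1⁻¹ = (g1 * R r2 * g1⁻¹) * (g1 * R 0 * g1⁻¹) by group, conj_lmap g1 hr,
    conj_lmap g1 h0, e1, e2]

theorem eq_of_same (E : Emb ι C) {u v : G} {k : ℕ} (hk : k < 120) (hu : Conj ι u) (hv : Conj ι v)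
    (huz : Commute u (ι z)) (hc : Commute u v) (au : Acts ι u (R k)) (av : Acts ι v (R k)) : v = u := by
  refine (eq_or_mul_z E (hu.sq E) (hv.sq E) hc au av).resolve_right fun e => ?_
  exact not_both E hk hu huz au (by rw [← huz.eq, ← e]; exact hv)

/-- The view of a lift: the images of the orthogonal lifts are lifts. -/
theorem view_line (E : Emb ι C) {t : G} {m a : ℕ} (hm : m < 120) (ha : a < 120) (hc : Conj ι t)
    (hz : Commute t (ι z)) (ht : Acts ι t (R m)) {g : G} (hg : g * ι z * g⁻¹ = L ι t m a) {b : ℕ}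
    (hb : b < 120) (hab : Orth a b) :
    ∃ m' < 120, Acts ι (view g (ι z)) (R m') ∧ Conj ι (view g (ι z)) ∧ Commute (view g (ι z)) (ι z) ∧
      ∀ i < 120, Orth a i → ∃ k < 120, view g (L ι t m i) = L ι (view g (ι z)) m' k := by
  have h2 := hc.sq E
  have hza : Commute (L ι t m a) (ι z) := commute_L E hz
  obtain ⟨hvt, hc', hz', hne'⟩ := view_basic E hg hza
  have hne := hne' (Conj.ne_of_acts E ha (acts_L hm ha ht))
  have five : ∀ i < 120, Orth a i → Five ι (view g (ι z) :: [L ι t m a, L ι t m i].map (view g)) :=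
    fun i hi ho => five_map (view_inj g) (by simp) hvt (five_L E hm ha hi ht ho)
  obtain ⟨m', hm', hma⟩ := five_reflection E (v := view g (ι z)) (by simp) hc' hz' hne (five b hb hab)
  refine ⟨m', hm', hma, hc', hz', fun i hi ho => ?_⟩
  set u := L ι t m i with hu
  have hai : Commute (L ι t m a) u := L_orth_commute hm ha hi ht h2 ho
  have hvu : Commute (view g u) (ι z) := view_of_commute hg hai.symm
  have hu' : Conj ι (view g u) := view_conj.mpr (conj_L hm hi ht hc)
  have hune : view g u ≠ ι z := fun e =>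
    ho.1 (L_inj E hm ha hi ht (view_inj g (e.trans hvt.symm)).symm)
  obtain ⟨k, hk, hka⟩ := five_reflection E (v := view g u) (by simp [hu]) hu' hvu hune (five i hi ho)
  refine ⟨k, hk, ?_⟩
  have hd : DblW [R a] (z * pr a i) := (za_conj ha hi ho).mono fun x hx w hw => hx w (by
    simp only [List.mem_cons, List.not_mem_nil, or_false] at hw ⊢; exact Or.inl hw)
  have hsq : z * pr a i * (z * pr a i) = 1 := Subtype.ext (by
    simp only [Subgroup.coe_mul, Subgroup.coe_one, coe_pr ha hi]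
    rw [show (z : W) * (R a * R i) * ((z : W) * (R a * R i)) = (z : W) * ((R a * R i) * (z : W)) * (R a * R i) by group,
      zc, ← mul_assoc (z : W), zz, one_mul, (comm_of_orth ha hi ho).symm.mul_mul_mul_comm (R a) (R i),
      R_sq (by omega), R_sq (by omega), one_mul])
  obtain ⟨d, -, -, -, hid, -⟩ := view_dbl E hg (acts_L hm ha ht) hma hd hsq
  rw [map_mul, map_mul, ← L_mul hm ha hi ht h2, map_mul, hvt] at hid
  -- `t' (z u') = ι d`
  set t' := view g (ι z) with ht'
  set u' := view g u with hu''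
  have hprod : t' * u' = ι (z * d) := by
    rw [map_mul, ← hid, ← mul_assoc, hz'.symm.eq]
    calc t' * u' = t' * (ι z * ι z) * u' := by rw [iota_z_sq E, mul_one]
      _ = _ := by group
  have hact : Acts ι (t' * u') (R m' * R k) := acts_mul hma hka
  have hL := L_mul (ι := ι) hm' hm' hk hma (hc'.sq E)
  rw [L_self t' hm'] at hL
  have hcases : ι (z * d) = ι (pr m' k) ∨ ι (z * d) = ι z * ι (pr m' k) := by
    rw [hprod] at hact
    rcases acts_unique E hact (acts_iota _) with e | e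
    · exact Or.inl (congrArg ι (Subtype.ext (by rw [e, coe_pr hm' hk])))
    · refine Or.inr ?_
      rw [← map_mul]
      exact congrArg ι (Subtype.ext (by rw [e, Subgroup.coe_mul, coe_pr hm' hk]))
  rw [← hprod, ← hL] at hcases
  rcases hcases with e | e
  · exact mul_left_cancel e
  · exfalso
    rw [← mul_assoc, ← hz'.eq, mul_assoc] at e
    have e2 : u' = ι z * L ι t' m' k := mul_left_cancel e
    exact not_both E hk (conj_L hm' hk hma hc') (commute_L E hz') (acts_L hm' hk hma) (e2 ▸ hu')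

theorem orth_image (E : Emb ι C) {t : G} {m k l : ℕ} (hm : m < 120) (hk : k < 120) (hl : l < 120)
    (ht : Acts ι t (R m)) (hne : k ≠ l) (hc : Commute (L ι t m k) (L ι t m l)) : Orth k l :=
  orth_of_commute_acts E hk hl hne (acts_L hm hk ht) (acts_L hm hl ht) hc

/-- An orthogonal quadruple with sum zero containing `a` gives one in the view of the lift of `a`. -/
theorem quad_view (E : Emb ι C) {t : G} {m : ℕ} (hm : m < 120) (hc : Conj ι t) (hz : Commute t (ι z))
    (ht : Acts ι t (R m)) {a b c d : ℕ} (ha : a < 120) (hb : b < 120) (hc' : c < 120) (hd : d < 120)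
    (hq : Quad a b c d) (h0 : sum4 a b c d = 0) {g : G}
    {m' kb kc kd : ℕ} (hm' : m' < 120) (hkb : kb < 120) (hkc : kc < 120) (hkd : kd < 120)
    (hma : Acts ι (view g (ι z)) (R m'))
    (hv : ∀ i < 120, Orth a i → ∃ k < 120, view g (L ι t m i) = L ι (view g (ι z)) m' k)
    (eb : view g (L ι t m b) = L ι (view g (ι z)) m' kb)
    (ec : view g (L ι t m c) = L ι (view g (ι z)) m' kc)
    (ed : view g (L ι t m d) = L ι (view g (ι z)) m' kd) :
    Quad m' kb kc kd ∧ sum4 m' kb kc kd = 0 := by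
  have h2 := hc.sq E
  set t' := view g (ι z) with ht'
  have himg : ∀ {i j k l : ℕ}, i < 120 → j < 120 → k < 120 → l < 120 →
      view g (L ι t m i) = L ι t' m' k → view g (L ι t m j) = L ι t' m' l → Orth i j → Orth k l := by
    intro i j k l hi hj hk hl ei ej ho
    refine orth_image E hm' hk hl hma (fun e => ho.1 ?_) ?_
    · subst e
      exact L_inj E hm hi hj ht (view_inj g (ei.trans ej.symm))
    · rw [← ei, ← ej]; exact (L_orth_commute hm hi hj ht h2 ho).map (view g)
  have hzimg : ∀ {i k : ℕ}, i < 120 → k < 120 → view g (L ι t m i) = L ι t' m' k → Orth m' k := by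
    intro i k hi hk ei
    refine orth_image E hm' hm' hk hma (fun e => ?_) ?_
    · subst e
      rw [L_self t' hm'] at ei
      exact Conj.ne_of_acts E hi (acts_L hm hi ht) (view_inj g ei)
    · rw [L_self t' hm', ← ei]; exact (commute_L E hz).symm.map (view g)
  obtain ⟨hab, hac, had, hbc, hbd, hcd⟩ := hq
  have hq' : Quad m' kb kc kd := ⟨hzimg hb hkb eb, hzimg hc' hkc ec, hzimg hd hkd ed,
    himg hb hc' hkb hkc eb ec hbc, himg hb hd hkb hkd eb ed hbd, himg hc' hd hkc hkd ec ed hcd⟩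
  refine ⟨hq', ?_⟩
  obtain ⟨x, y, w, hx, hy, hw, -, hxy, hnxy, -, -, hall⟩ :=
    exists_triangle ha hb hc' hd ⟨hab, hac, had, hbc, hbd, hcd⟩ h0
  obtain ⟨x1, x2, x3, x4⟩ := hall x (by simp)
  obtain ⟨y1, y2, y3, y4⟩ := hall y (by simp)
  obtain ⟨kx, hkx, ex⟩ := hv x hx (orth_symm hx ha x1)
  obtain ⟨ky, hky, ey⟩ := hv y hy (orth_symm hy ha y1)
  refine sum_zero_of_edge hm' hkb hkc hkd hkx hky hq' (fun e => hxy ?_) (fun ho => hnxy ?_) ?_
  · subst e
    exact L_inj E hm hx hy ht (view_inj g (ex.trans ey.symm))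
  · refine orth_image E hm hx hy ht hxy ?_
    have h := L_orth_commute hm' hkx hky hma ((view_conj.mpr (conj_z ι)).sq E) ho
    rw [← ex, ← ey] at h
    exact view_inj g (by rw [map_mul, map_mul]; exact h.eq)
  · intro u hu
    simp only [List.mem_cons, List.not_mem_nil, or_false] at hu
    rcases hu with rfl | rfl
    · exact ⟨orth_symm hm' hkx (hzimg hx hkx ex), himg hx hb hkx hkb ex eb x2,
        himg hx hc' hkx hkc ex ec x3, himg hx hd hkx hkd ex ed x4⟩
    · exact ⟨orth_symm hm' hky (hzimg hy hky ey), himg hy hb hky hkb ey eb y2,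
        himg hy hc' hky hkc ey ec y3, himg hy hd hky hkd ey ed y4⟩

theorem xor_four (a b c d e f : ℕ) (h1 : a ^^^ b ^^^ c ^^^ d = 0) (h2 : a ^^^ b ^^^ e ^^^ f = 0) :
    c ^^^ d ^^^ e ^^^ f = 0 := by
  calc c ^^^ d ^^^ e ^^^ f
      = ((a ^^^ b) ^^^ (a ^^^ b)) ^^^ (c ^^^ d ^^^ e ^^^ f) := by rw [Nat.xor_self, Nat.zero_xor]
    _ = (a ^^^ b ^^^ c ^^^ d) ^^^ (a ^^^ b ^^^ e ^^^ f) := by
        simp only [Nat.xor_assoc, Nat.xor_comm, Nat.xor_left_comm]
    _ = 0 := by rw [h1, h2]; rfl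

/-- No conjugate acts as a reflection. -/
theorem no_reflection (E : Emb ι C) {t : G} {m : ℕ} (hm : m < 120) (hc : Conj ι t)
    (hz : Commute t (ι z)) (ht : Acts ι t (R m)) : False := by
  have h2 := hc.sq E
  obtain ⟨hf0, hfl, hfo, s1, s2, s3⟩ := frame_facts
  set f : ℕ → ℕ := fun i => frame.getD i 0 with hf
  have fl : ∀ i < 8, f i < 120 := fun i hi => hfl ⟨i, hi⟩
  have fo : ∀ i < 8, ∀ j < 8, i ≠ j → Orth (f i) (f j) := fun i hi j hj hij =>
    hfo ⟨i, hi⟩ ⟨j, hj⟩ (fun e => hij (congrArg Fin.val e))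
  have a7 := fl 7 (by norm_num)
  have a0 := fl 0 (by norm_num)
  have a1 := fl 1 (by norm_num)
  have a2 := fl 2 (by norm_num)
  have a3 := fl 3 (by norm_num)
  have a4 := fl 4 (by norm_num)
  have q : ∀ {a b c d : ℕ}, a < 8 → b < 8 → c < 8 → d < 8 → a ≠ b → a ≠ c → a ≠ d → b ≠ c → b ≠ d → c ≠ d →
      Quad (f a) (f b) (f c) (f d) := fun {a b c d} ha hb hc hd h1 h2 h3 h4 h5 h6 =>
    ⟨fo a ha b hb h1, fo a ha c hc h2, fo a ha d hd h3, fo b hb c hc h4, fo b hb d hd h5, fo c hc d hd h6⟩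
  -- the view of the lift of the last root
  obtain ⟨g, hg⟩ := conj_L hm a7 ht hc
  obtain ⟨mA, hmA, hA, hcA, hzA, vA⟩ := view_line E hm a7 hc hz ht hg a0
    (fo 7 (by norm_num) 0 (by norm_num) (by norm_num))
  have img : ∀ i, i < 8 → i ≠ 7 → ∃ k < 120, view g (L ι t m (f i)) = L ι (view g (ι z)) mA k :=
    fun i hi hne => vA _ (fl i hi) (fo 7 (by norm_num) i hi (Ne.symm hne))
  obtain ⟨k4, hk4, e4⟩ := img 4 (by norm_num) (by norm_num)
  obtain ⟨k0, hk0, e0⟩ := img 0 (by norm_num) (by norm_num)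
  obtain ⟨k1, hk1, e1⟩ := img 1 (by norm_num) (by norm_num)
  obtain ⟨k2, hk2, e2⟩ := img 2 (by norm_num) (by norm_num)
  obtain ⟨k3, hk3, e3⟩ := img 3 (by norm_num) (by norm_num)
  obtain ⟨q1, z1⟩ := quad_view E hm hc hz ht a7 a4 a0 a1
    (q (by norm_num) (by norm_num) (by norm_num) (by norm_num) (by norm_num) (by norm_num) (by norm_num)
      (by norm_num) (by norm_num) (by norm_num)) s1 hmA hk4 hk0 hk1 hA vA e4 e0 e1
  obtain ⟨q2, z2⟩ := quad_view E hm hc hz ht a7 a4 a2 a3
    (q (by norm_num) (by norm_num) (by norm_num) (by norm_num) (by norm_num) (by norm_num) (by norm_num)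
      (by norm_num) (by norm_num) (by norm_num)) s2 hmA hk4 hk2 hk3 hA vA e4 e2 e3
  have himgA : ∀ {i j k l : ℕ}, i < 120 → j < 120 → k < 120 → l < 120 →
      view g (L ι t m i) = L ι (view g (ι z)) mA k → view g (L ι t m j) = L ι (view g (ι z)) mA l →
      Orth i j → Orth k l := by
    intro i j k l hi hj hk hl ei ej ho
    refine orth_image E hmA hk hl hA (fun e => ho.1 ?_) ?_
    · subst e
      exact L_inj E hm hi hj ht (view_inj g (ei.trans ej.symm))
    · rw [← ei, ← ej]; exact (L_orth_commute hm hi hj ht h2 ho).map (view g)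
  have qA : Quad k0 k1 k2 k3 := ⟨q1.2.2.2.2.2,
    himgA a0 a2 hk0 hk2 e0 e2 (fo 0 (by norm_num) 2 (by norm_num) (by norm_num)),
    himgA a0 a3 hk0 hk3 e0 e3 (fo 0 (by norm_num) 3 (by norm_num) (by norm_num)),
    himgA a1 a2 hk1 hk2 e1 e2 (fo 1 (by norm_num) 2 (by norm_num) (by norm_num)),
    himgA a1 a3 hk1 hk3 e1 e3 (fo 1 (by norm_num) 3 (by norm_num) (by norm_num)),
    q2.2.2.2.2.2⟩
  obtain ⟨x, y, w, hx, hy, hw, hxw, hxy, hnxy, hyw, hnyw, hall⟩ :=
    exists_triangle hk0 hk1 hk2 hk3 qA (xor_four _ _ _ _ _ _ z1 z2)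
  -- the view of the lift of the first root
  obtain ⟨h, hh⟩ := conj_L hm a0 ht hc
  obtain ⟨mB, hmB, hB, hcB, hzB, vB⟩ := view_line E hm a0 hc hz ht hh a1
    (fo 0 (by norm_num) 1 (by norm_num) (by norm_num))
  obtain ⟨l7, hl7, d7⟩ := vB _ a7 (fo 0 (by norm_num) 7 (by norm_num) (by norm_num))
  obtain ⟨l1, hl1, d1⟩ := vB _ a1 (fo 0 (by norm_num) 1 (by norm_num) (by norm_num))
  obtain ⟨l2, hl2, d2⟩ := vB _ a2 (fo 0 (by norm_num) 2 (by norm_num) (by norm_num))
  obtain ⟨l3, hl3, d3⟩ := vB _ a3 (fo 0 (by norm_num) 3 (by norm_num) (by norm_num))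
  obtain ⟨q3, z3⟩ := quad_view E hm hc hz ht a0 a1 a2 a3
    (q (by norm_num) (by norm_num) (by norm_num) (by norm_num) (by norm_num) (by norm_num) (by norm_num)
      (by norm_num) (by norm_num) (by norm_num)) s3 hmB hl1 hl2 hl3 hB vB d1 d2 d3
  set tA := view g (ι z) with htA
  set tB := view h (ι z) with htB
  -- the transport from the first view to the second
  set ψ : G →* G := (view h).comp (MulAut.conj g).toMonoidHom with hψ
  have ψinj : Function.Injective ψ := (view_inj h).comp (MulAut.conj g).injective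
  have ψimg : ∀ y, ψ (view g y) = view h y := fun y => by
    refine congrArg (view h) ?_
    show g * view g y * g⁻¹ = y
    rw [view_apply]; group
  have ψz : ψ (ι z) = L ι tB mB l7 := by
    rw [← d7, ← ψimg, view_self hg]
  have ψ0 : ψ (L ι tA mA k0) = ι z := by rw [← e0, ψimg, view_self hh]
  have ψi : ψ (L ι tA mA k1) = L ι tB mB l1 ∧ ψ (L ι tA mA k2) = L ι tB mB l2 ∧
      ψ (L ι tA mA k3) = L ι tB mB l3 :=
    ⟨by rw [← e1, ψimg, d1], by rw [← e2, ψimg, d2], by rw [← e3, ψimg, d3]⟩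
  have ψconj : ∀ {v : G}, Conj ι v → Conj ι (ψ v) := fun {v} hv => view_conj.mpr (hv.conj g)
  have h2A := hcA.sq E
  -- the three elements
  have line : ∀ u ∈ [x, y, w], u < 120 → ∃ l < 120, Acts ι (ψ (L ι tA mA u)) (R l) ∧
      Commute (ψ (L ι tA mA u)) (ι z) ∧ Orth l l7 ∧ Orth l l1 ∧ Orth l l2 ∧ Orth l l3 := by
    intro u hu hu120
    obtain ⟨o0, o1, o2, o3⟩ := hall u hu
    set v := ψ (L ι tA mA u) with hv
    have hvc : Conj ι v := ψconj (conj_L hmA hu120 hA hcA)
    have hvz : Commute v (ι z) := ψ0 ▸ (L_orth_commute hmA hu120 hk0 hA h2A o0).map ψ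
    have hvne : v ≠ ι z := fun e => o0.1 (L_inj E hmA hu120 hk0 hA (ψinj (e.trans ψ0.symm)))
    have h5 := five_map ψinj (v0 := L ι tA mA k0) (by simp) ψ0
      (five_L E hmA hu120 hk0 hA o0)
    obtain ⟨l, hl, hla⟩ := five_reflection E (v := v) (by simp [hv]) hvc hvz hvne h5
    refine ⟨l, hl, hla, hvz, ?_⟩
    have key : ∀ {s k : ℕ} {y : G}, s < 120 → ψ y = L ι tB mB s → Commute (L ι tA mA u) y →
        L ι tA mA u ≠ y → k = s → Orth l k := by
      intro s k y hs hy hcomm hne hks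
      subst hks
      have hcv : Commute v (L ι tB mB k) := hy ▸ hcomm.map ψ
      refine orth_of_commute_acts E hl hs (fun e => hne ?_) hla (acts_L hmB hs hB) hcv
      subst e
      exact ψinj ((eq_of_same E hs (conj_L hmB hs hB hcB) hvc (commute_L E hzB) hcv.symm
        (acts_L hmB hs hB) hla).trans hy.symm)
    have nz : L ι tA mA u ≠ ι z := Conj.ne_of_acts E hu120 (acts_L hmA hu120 hA)
    have nk : ∀ {k : ℕ}, k < 120 → Orth u k → L ι tA mA u ≠ L ι tA mA k := fun hk ho e =>
      ho.1 (L_inj E hmA hu120 hk hA e)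
    exact ⟨key hl7 ψz (commute_L E hzA) nz rfl,
      key hl1 ψi.1 (L_orth_commute hmA hu120 hk1 hA h2A o1) (nk hk1 o1) rfl,
      key hl2 ψi.2.1 (L_orth_commute hmA hu120 hk2 hA h2A o2) (nk hk2 o2) rfl,
      key hl3 ψi.2.2 (L_orth_commute hmA hu120 hk3 hA h2A o3) (nk hk3 o3) rfl⟩
  obtain ⟨lx, hlx, ax, zx, ox⟩ := line x (by simp) hx
  obtain ⟨ly, hly, ay, -, oy⟩ := line y (by simp) hy
  obtain ⟨lw, hlw, aw, zw, ow⟩ := line w (by simp) hw
  have cxw : Commute (ψ (L ι tA mA x)) (ψ (L ι tA mA w)) := (L_orth_commute hmA hx hw hA h2A hxw).map ψ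
  have nxw : lx ≠ lw := by
    intro e
    subst e
    refine hxw.1 (L_inj E hmA hx hw hA (ψinj ?_))
    exact (eq_of_same E hlx (ψconj (conj_L hmA hx hA hcA)) (ψconj (conj_L hmA hw hA hcA)) zx cxw ax aw).symm
  have oxw : Orth lx lw := orth_of_commute_acts E hlx hlw nxw ax aw cxw
  -- a cube cannot act as a pair of commuting reflections
  have no3 : ∀ {p q lp lq : ℕ}, p < 120 → q < 120 → lp < 120 → lq < 120 → p ≠ q → ¬ Orth p q →
      Acts ι (ψ (L ι tA mA p)) (R lp) → Acts ι (ψ (L ι tA mA q)) (R lq) → ¬ Orth lp lq := by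
    intro p q lp lq hp hq hlp hlq hpq hno ap aq ho
    have h3 := congrArg ψ (L_cube (ι := ι) hmA hp hq hA h2A hpq hno)
    simp only [map_mul, map_one] at h3
    have hact := acts_mul (acts_mul (acts_mul ap aq) (acts_mul ap aq)) (acts_mul ap aq)
    rw [h3] at hact
    have e : R lp * R lq * (R lp * R lq) * (R lp * R lq) = R lp * R lq := by
      have hcm := comm_of_orth hlp hlq ho
      rw [hcm.symm.mul_mul_mul_comm (R lp) (R lq), R_sq (show lp < 240 by omega),
        R_sq (show lq < 240 by omega), one_mul, one_mul]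
    rw [e] at hact
    rcases acts_unique E (acts_C E (one_mem C)) hact with e1 | e1
    · exact ho.1 (R_inj hlp hlq (by
        rw [← mul_one (R lp), ← R_sq (show lq < 240 by omega), ← mul_assoc, e1, one_mul]))
    · rw [mul_one] at e1
      exact R_ne_zR hlp hlq (by rw [← e1, mul_assoc, R_sq (by omega), mul_one])
  have nxy : lx ≠ ly := by
    intro e
    subst e
    exact no3 hy hw hlx hlw hyw hnyw ay aw oxw
  have hsum : sum4 l7 l1 l2 l3 = 0 := by
    have ho : ∀ {i j k l : ℕ}, i < 120 → j < 120 → k < 120 → l < 120 →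
        view h (L ι t m i) = L ι tB mB k → view h (L ι t m j) = L ι tB mB l → Orth i j → Orth k l := by
      intro i j k l hi hj hk hl ei ej ho
      refine orth_image E hmB hk hl hB (fun e => ho.1 ?_) ?_
      · subst e
        exact L_inj E hm hi hj ht (view_inj h (ei.trans ej.symm))
      · rw [← ei, ← ej]; exact (L_orth_commute hm hi hj ht h2 ho).map (view h)
    refine sum_zero_of_edge hl7 hl1 hl2 hl3 hlx hly
      ⟨ho a7 a1 hl7 hl1 d7 d1 (fo 7 (by norm_num) 1 (by norm_num) (by norm_num)),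
        ho a7 a2 hl7 hl2 d7 d2 (fo 7 (by norm_num) 2 (by norm_num) (by norm_num)),
        ho a7 a3 hl7 hl3 d7 d3 (fo 7 (by norm_num) 3 (by norm_num) (by norm_num)),
        q3.2.2.2.1, q3.2.2.2.2.1, q3.2.2.2.2.2⟩ nxy (no3 hx hy hlx hly hxy hnxy ax ay) ?_
    intro u hu
    simp only [List.mem_cons, List.not_mem_nil, or_false] at hu
    rcases hu with rfl | rfl
    · exact ox
    · exact oy
  have e7 : l7 = mB := by
    refine red_inj hl7 hmB ?_
    have cancel : ∀ {a a' b : ℕ}, a ^^^ b = a' ^^^ b → a = a' := fun {a a' b} h => by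
      have := congrArg (fun n => n ^^^ b) h
      simpa [Nat.xor_assoc] using this
    have := hsum.trans z3.symm
    unfold sum4 at this
    exact cancel (cancel (cancel this))
  subst e7
  rw [L_self tB hl7] at d7
  exact Conj.ne_of_acts E a7 (acts_L hm a7 ht) (view_inj h d7)

/-- No conjugate acts as a reflection. -/
theorem no_zero (E : Emb ι C) {t : G} (hc : Conj ι t) (hz : Commute t (ι z)) : ¬ At ι t 0 := fun h => by
  obtain ⟨k, hk, hka⟩ := at_zero_line h
  exact no_reflection E hk hc hz hka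

end Cfsg.Agent.Omega8FusionLine24
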