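import Cfsg.Agent.Lib.Omega8FusionBase24

/-!
No conjugate of the central involution acts as a product of two orthogonal reflections or as the class
of square minus one.
-/

set_option autoImplicit false
set_option maxRecDepth 4000

namespace Cfsg.Agent.Omega8FusionPlane24

open Cfsg Cfsg.Agent.E8Even69 Cfsg.Agent.Omega8CoverIso24 Cfsg.Agent.CoxeterCenter Cfsg.Agent.CoxeterTables
open Cfsg.Agent.Omega8Data24 Cfsg.Agent.Omega8Refl24 Cfsg.Agent.Omega8Sylow24 Cfsg.Agent.Omega8Lines24
open Cfsg.Agent.Omega8Witness24 Cfsg.Agent.Omega8Std24 Cfsg.Agent.Omega8FusionBase24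

universe u

variable {G : Type u} [Group G] {ι : Wp →* G} {C : Subgroup G}

theorem b1_sq : b1 * b1 = 1 := Subtype.ext (by
  rw [Subgroup.coe_mul, coe_b1, ← rep_one, rep_sq (by norm_num)]; rfl)

theorem b1_cases : (b1 : W) ≠ 1 ∧ (b1 : W) ≠ (z : W) := by
  have h : Mw [0, r2] ≠ E0 := by decide +kernel
  have hl : ∀ k ∈ [0, r2], k < 120 := by decide
  rw [coe_b1]
  constructor <;> intro e <;> refine h ?_ <;> rw [← Mof_pR hl, e]
  · exact Mof_one
  · exact Mof_z

theorem zb1_sq : z * b1 * (z * b1) = 1 := by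
  calc z * b1 * (z * b1) = z * (b1 * z) * b1 := by group
    _ = (z * z) * (b1 * b1) := by rw [Subgroup.mem_center_iff.mp z_mem_center b1]; group
    _ = 1 := by rw [z_sq, b1_sq, one_mul]

theorem pair_coe : (b1 : W) = R 0 * R r2 := by rw [coe_b1, pR_pair]

theorem cen_pair {a : Wp} (h : Cen [R 0, R r2] a) : Cen [pR [0, r2]] a := by
  intro w hw
  simp only [List.mem_cons, List.not_mem_nil, or_false] at hw
  subst hw
  rw [pR_pair]
  exact (h _ (by simp)).mul_right (h _ (by simp))

theorem rho_z_ne : rho (z : W) 0 ≠ 0 := by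
  intro h
  have h1 := congrArg Fin.val h
  rw [rho_z] at h1
  revert h1
  decide +kernel

theorem rho_b1_ne : rho (b1 : W) 0 ≠ 0 := by
  rw [coe_b1, plane_neg'.1]
  exact rho_z_ne

theorem no_neg0 (e : W) : e * R 0 * e⁻¹ ≠ (z : W) * R 0 := by
  rw [conj_lmap e (by norm_num)]
  exact R_ne_zR (lmap_lt _ _) (by norm_num)

theorem no_neg1 (e : W) : e * pR [0, r2] * e⁻¹ ≠ (z : W) * pR [0, r2] := by
  intro h
  obtain ⟨hl, hnd, hlt⟩ := plane_fixed_card
  set P := ((List.range 120).filter fun a => decide (actWord refP [0, r2] a = a)).take 3 with hP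
  have hk : ∀ a ∈ P, lmap e a = 0 ∨ lmap e a = r2 := by
    intro a ha
    have ha120 := hlt a ha
    have ev : (Fin.ofNat 240 a).val = a := Nat.mod_eq_of_lt (by omega)
    have hfix : rho (pR [0, r2]) (Fin.ofNat 240 a) = Fin.ofNat 240 a := Fin.ext (by
      rw [rho_pR (by decide), ev]; exact plane_fixed a ha)
    have hneg : rho (pR [0, r2]) (rho e (Fin.ofNat 240 a)) = rho (z : W) (rho e (Fin.ofNat 240 a)) := by
      have h1 : pR [0, r2] = (z : W) * (e * pR [0, r2] * e⁻¹) := by rw [h, ← mul_assoc, zz, one_mul]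
      conv_lhs => rw [h1]
      simp only [map_mul, Equiv.Perm.mul_apply, map_inv, Equiv.Perm.inv_def, Equiv.symm_apply_apply, hfix]
    have h1 := congrArg Fin.val hneg
    rw [rho_pR (by decide), rho_z, negL_getD] at h1
    exact plane_neg _ h1
  have hnd' : (P.map (lmap e)).Nodup :=
    hnd.map_on fun x hx y hy hxy => lmap_inj e (hlt x hx) (hlt y hy) hxy
  have h2 : (P.map (lmap e)).toFinset ⊆ ({0, r2} : Finset ℕ) := by
    intro k hk'
    simp only [List.mem_toFinset, List.mem_map] at hk'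
    obtain ⟨a, ha, rfl⟩ := hk'
    rcases hk a ha with e' | e' <;> simp [e']
  have h3 := Finset.card_le_card h2
  rw [List.toFinset_card_of_nodup hnd', List.length_map, hl] at h3
  exact absurd (h3.trans Finset.card_le_two) (by norm_num)

theorem pm_conj {f w u : W} (h : f * w * f⁻¹ = w ∨ f * w * f⁻¹ = (z : W) * w) :
    (u * f * u⁻¹) * (u * w * u⁻¹) * (u * f * u⁻¹)⁻¹ = u * w * u⁻¹ ∨
      (u * f * u⁻¹) * (u * w * u⁻¹) * (u * f * u⁻¹)⁻¹ = (z : W) * (u * w * u⁻¹) := by
  rw [show (u * f * u⁻¹) * (u * w * u⁻¹) * (u * f * u⁻¹)⁻¹ = u * (f * w * f⁻¹) * u⁻¹ by group]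
  rcases h with e | e <;> rw [e]
  · exact Or.inl rfl
  · right
    rw [← mul_assoc u, zc u]
    group

theorem dbl_conj (u : W) (e : W × W × W × W) :
    dbl (map4 (fun f => u * f * u⁻¹) e) = u * dbl e * u⁻¹ :=
  dbl_map4 (MulAut.conj u).toMonoidHom e

/-- A double commutator of elements preserving a plane element up to sign fixes the highest root. -/
theorem double_fix {i : ℕ} (hi : i = 0 ∨ i = 1) {e : W × W × W × W}
    (he : All4 (fun f => f * rep i * f⁻¹ = rep i ∨ f * rep i * f⁻¹ = (z : W) * rep i) e) :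
    rho (dbl e) 0 = 0 := by
  obtain ⟨a, b, c, d⟩ := e
  obtain ⟨ha, hb, hc, hd⟩ := he
  have comm : ∀ {f : W}, (f * rep i * f⁻¹ = rep i ∨ f * rep i * f⁻¹ = (z : W) * rep i) → Commute f (rep i) := by
    intro f hf
    refine mul_inv_eq_iff_eq_mul.mp (hf.resolve_right ?_)
    rcases hi with rfl | rfl
    · rw [rep_zero]; exact no_neg0 f
    · rw [rep_one]; exact no_neg1 f
  have ca := comm ha
  have cb := comm hb
  have cc := comm hc
  have cd := comm hd
  rcases hi with rfl | rfl
  · rw [rep_zero] at ca cb cc cd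
    exact comm_fix_zero (commute_cm ca cb) (commute_cm cc cd)
  · rw [rep_one] at ca cb cc cd
    exact double_fix_zero ca cb cc cd

/-- transport of the condition up to sign to a conjugate action -/
theorem pm_class {v : G} {w d' : W} {u : W} {i : ℕ} (E : Emb ι C) (hw : Acts ι v w)
    (hv : Acts ι v d') (hu : u * d' * u⁻¹ = rep i) {e : W × W × W × W}
    (he : All4 (fun f => f * w * f⁻¹ = w ∨ f * w * f⁻¹ = (z : W) * w) e) :
    All4 (fun f => f * rep i * f⁻¹ = rep i ∨ f * rep i * f⁻¹ = (z : W) * rep i)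
      (map4 (fun f => u * f * u⁻¹) e) := by
  refine he.map4 fun f hf => hu ▸ pm_conj ?_
  rcases acts_unique E hw hv with e' | e'
  · rw [e']; exact hf
  · rw [e', ← mul_assoc f, zc f, mul_assoc (z : W), mul_assoc (z : W)]
    rcases hf with h | h <;> rw [h]
    · exact Or.inl rfl
    · exact Or.inr rfl

theorem last_even {w : W} {u : W} (h : u * w * u⁻¹ = rep 5) : w ∈ Wp := by
  rw [mem_Wp_iff, ← sgn_conj u, h]
  exact sgn_rep.2.2.2.2.2

theorem triR_facts : (∀ k ∈ triR, k < 120) ∧ (∀ k ∈ triG, k < 120) ∧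
    Mw triR ≠ Mw [0, r2] ∧ triR = [triR.getD 0 0, triR.getD 1 0] := by decide +kernel

/-- the second plane element -/
noncomputable def cd : Wp := el triR

theorem coe_cd : (cd : W) = pR triR := coe_el' triR_facts.1 (by decide +kernel)

theorem tri_conj : (el triG : W) * b1 * (el triG : W)⁻¹ = cd := by
  rw [coe_el' triR_facts.2.1 (by decide +kernel), coe_b1, coe_cd, mul_inv_eq_iff_eq_mul, ← pR_append,
    ← pR_append]
  exact pR_eq (fun k hk => (List.mem_append.mp hk).elim (triR_facts.2.1 k) (by decide +revert))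
    (fun k hk => (List.mem_append.mp hk).elim (triR_facts.1 k) (triR_facts.2.1 k)) configs.2.2.1

theorem b1_cd : (b1 : W) * cd = R 8 * R 66 := by
  rw [coe_b1, coe_cd, ← pR_append, ← pR_pair]
  exact pR_eq (fun k hk => (List.mem_append.mp hk).elim (by decide +revert) (triR_facts.1 k))
    (by simp) configs.2.2.2.2.2.2.1

theorem cd_sq : cd * cd = 1 := by
  have h : el triG * b1 * (el triG)⁻¹ = cd := Subtype.ext tri_conj
  rw [← h]
  calc el triG * b1 * (el triG)⁻¹ * (el triG * b1 * (el triG)⁻¹) = el triG * (b1 * b1) * (el triG)⁻¹ := by group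
    _ = 1 := by rw [b1_sq]; group

theorem comm_b1_cd : Commute b1 cd := by
  have h : b1 * cd * (b1 * cd) = 1 := Subtype.ext (by
    simp only [Subgroup.coe_mul, Subgroup.coe_one]
    rw [b1_cd]
    have ho := (comm_of_orth (by norm_num) (by norm_num) configs.2.2.2.2.2.2.2.2.1).symm
    rw [ho.mul_mul_mul_comm (R 8) (R 66), R_sq (by norm_num), R_sq (by norm_num), one_mul])
  show b1 * cd = cd * b1
  calc b1 * cd = (b1 * cd * (b1 * cd)) * (cd⁻¹ * b1⁻¹) := by group
    _ = _ := by rw [h, one_mul, inv_eq_of_mul_eq_one_right cd_sq, inv_eq_of_mul_eq_one_right b1_sq]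

theorem cd_ne : (cd : W) ≠ b1 ∧ (cd : W) ≠ (z : W) * b1 := by
  have h := triR_facts
  have hl : ∀ k ∈ [0, r2], k < 120 := by decide
  rw [coe_cd, coe_b1]
  constructor <;> intro e <;> refine h.2.2.1 ?_ <;> rw [← Mof_pR h.1, ← Mof_pR hl, e]
  rw [Mof_mul, Mof_z, ← Mof_one, ← Mof_mul, one_mul]

theorem tri_five : FiveW [pR [0, r2], pR triR] := five_tri.mono fun a ha w hw => by
  simp only [List.mem_cons, List.not_mem_nil, or_false] at hw
  rcases hw with rfl | rfl
  · exact cen_pair (fun w hw => ha w (by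
      simp only [List.mem_cons, List.not_mem_nil, or_false] at hw ⊢; tauto)) _ (by simp)
  · rw [triR_facts.2.2.2, pR_pair]
    exact (ha _ (by simp)).mul_right (ha _ (by simp))

theorem acts_z_b1 : Acts ι (ι (z * b1)) (pR [0, r2]) := by
  have h := acts_z_mul (acts_iota (ι := ι) (z * b1))
  rwa [Subgroup.coe_mul, ← mul_assoc, zz, one_mul, coe_b1] at h

theorem zmul_ne {a : Wp} (h : (a : W) ≠ 1) (E : Emb ι C) : ι (z * a) ≠ ι z := fun e =>
  h (congrArg Subtype.val (mul_eq_left.mp (E.inj e)))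

/-- Minus a product of two orthogonal reflections is not conjugate to the central involution. -/
theorem no_six (E : Emb ι C) : ¬ Conj ι (ι (z * b1)) := by
  intro ht
  set t := ι (z * b1) with htdef
  have hz : Commute t (ι z) := commute_z E _
  have hne : t ≠ ι z := zmul_ne b1_cases.1 E
  obtain ⟨g, hg⟩ := ht
  obtain ⟨hvt, hc', hz', hne'⟩ := view_basic E hg hz
  obtain ⟨w', hw'⟩ := E.acts _ hz'
  have hd : DblW [pR [0, r2]] (z * b1) := za_pair.mono fun a ha => cen_pair ha
  obtain ⟨d, e, he, hde, hid, -⟩ := view_dbl E hg acts_z_b1 hw' hd zb1_sq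
  rw [hvt] at hid
  have hdz : d = z := E.inj hid.symm
  rw [hdz] at hde
  have h5 : Five ι (view g (ι z) :: [t].map (view g)) :=
    view_five E hg (five_pair.mono fun a ha => cen_pair ha)
      (fun v hv => ⟨_, List.mem_singleton.mpr rfl, (List.mem_singleton.mp hv) ▸ acts_z_b1⟩) (by simp)
  have plane : ∀ i, (i = 0 ∨ i = 1) → ¬ At ι (view g (ι z)) i := by
    rintro i hi ⟨w, u, hw, hu⟩
    have h := double_fix hi (pm_class E hw' hw hu he)
    rw [dbl_conj, ← hde, z_conj] at h
    exact rho_z_ne h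
  rcases five_at E (by simp) hc' hz' (hne' hne) h5 with h | h | h
  · exact plane 0 (Or.inl rfl) h
  · exact plane 1 (Or.inr rfl) h
  -- the action squares to minus one
  obtain ⟨w1, u1, hw1, hu1⟩ := h
  set v := ι (z * cd) with hvdef
  have hv : Conj ι v := by
    have := (show Conj ι t from ⟨g, hg⟩).conj (ι (el triG))
    rwa [htdef, ← map_inv, ← map_mul, ← map_mul,
      show el triG * (z * b1) * (el triG)⁻¹ = z * cd from Subtype.ext (by
        simp only [Subgroup.coe_mul, Subgroup.coe_inv]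
        rw [← tri_conj, ← mul_assoc ((el triG : Wp) : W) (z : W), zc ((el triG : Wp) : W)]
        group)] at this
  have hvt' : Commute v t := by
    have h1 : Commute (z * cd) (z * b1) :=
      ((Commute.refl z).mul_right (Subgroup.mem_center_iff.mp z_mem_center b1).symm).mul_left
        ((show Commute cd z from Subgroup.mem_center_iff.mp z_mem_center cd).mul_right comm_b1_cd.symm)
    exact h1.map ι
  have hvz : Commute (view g v) (ι z) := view_of_commute hg hvt'
  have hvne : view g v ≠ ι z := by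
    intro e
    have h1 := view_inj g (e.trans hvt.symm)
    exact cd_ne.1 (congrArg Subtype.val (mul_left_cancel (E.inj h1)))
  obtain ⟨w2, hw2⟩ := E.acts _ hvz
  obtain ⟨n1, n2⟩ := action_ne E (view_conj.mpr hv) hvne hw2
  have h52 : Five ι (view g (ι z) :: [t, v].map (view g)) := by
    refine view_five E hg tri_five (fun y hy => ?_) (by simp)
    simp only [List.mem_cons, List.not_mem_nil, or_false] at hy
    rcases hy with rfl | rfl
    · exact ⟨_, by simp, acts_z_b1⟩
    · refine ⟨pR triR, by simp, ?_⟩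
      have h := acts_z_mul (acts_iota (ι := ι) (z * cd))
      rwa [Subgroup.coe_mul, ← mul_assoc, zz, one_mul, coe_cd] at h
  obtain ⟨x, hx5, hx1, hx⟩ := five_element E (v := view g (ι z)) (by simp) hw1 h52
  have c1 := (hx _ (by simp) _ hw1).symm
  have c2 := (hx (view g v) (by simp) _ hw2).symm
  have hx5' : (x : W) ^ 5 = 1 := by rw [← SubmonoidClass.coe_pow, hx5]; rfl
  have s1 : w1 * w1 = (z : W) := cls_five_sq ⟨u1, Or.inl hu1⟩
  have n1' := action_ne E hc' (hne' hne) hw1
  rcases Omega8Five24.five_cases hx5' (fun e => hx1 (Subtype.ext e)) with ⟨hA, -⟩ | hB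
  · rcases hA w1 (Or.inr s1) c1 with e | e | e | e
    · exact n1'.1 e
    · exact n1'.2 e
    · exact zne (s1.symm.trans (cls_sq (by norm_num) e))
    · exact zne (s1.symm.trans (cls_sq (by norm_num) e))
  rcases hB w2 (action_sq E hw2 ((view_conj.mpr hv).sq E)) c2 with e | e | e
  · exact n1 e
  · exact n2 e
  have s2 := cls_five_sq e
  have hu' : Commute (view g (ι z)) (view g v) := (commute_z E _).symm.map (view g)
  have a1 : w1 ∈ Wp := last_even hu1
  have a2 : w2 ∈ Wp := by
    obtain ⟨k, hk | hk⟩ := e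
    · exact last_even hk
    · have h1 := congrArg sgn hk
      rw [sgn_conj, map_mul, sgn_z, one_mul] at h1
      rw [mem_Wp_iff, h1]
      exact sgn_rep.2.2.2.2.2
  obtain ⟨c, hc, ec⟩ := eq_iota_mul E (a := ⟨w1, a1⟩) hw1
  obtain ⟨c', hc'', ec'⟩ := eq_iota_mul E (a := ⟨w2, a2⟩) hw2
  have hcm : cm (view g (ι z)) (view g v) = 1 := by rw [cm, hu'.eq]; group
  rw [ec, ec'] at hcm
  have h1 := cm_exact E hc hc'' (by rw [hcm, one_mul])
  rw [hcm] at h1
  have h2 : cm (⟨w1, a1⟩ : Wp) ⟨w2, a2⟩ = 1 := E.inj (by rw [map_one]; exact h1.symm)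
  have hw12 : Commute w1 w2 := by
    have h3 := congrArg Subtype.val h2
    rw [coe_cm, Subgroup.coe_one] at h3
    show w1 * w2 = w2 * w1
    calc w1 * w2 = cm w1 w2 * (w2 * w1) := by rw [cm]; group
      _ = _ := by rw [h3, one_mul]
  have hp : w1 * w2 * (w1 * w2) = 1 := by
    rw [hw12.symm.mul_mul_mul_comm w1 w2, s1, s2, zz]
  have same : Acts ι (view g v) w1 := by
    rcases hB (w1 * w2) (Or.inl hp) (c1.mul_left c2) with e3 | e3 | e3
    · have e4 : w2 = (z : W) * w1 := by
        calc w2 = w1⁻¹ * (w1 * w2) := by group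
          _ = w1⁻¹ * (w1 * w1) * ((z : W))⁻¹ := by rw [e3, s1]; group
          _ = (z : W) * w1 := by
            rw [inv_eq_of_mul_eq_one_right zz, inv_mul_cancel_left, zc]
      have := acts_z_mul hw2
      rwa [e4, ← mul_assoc, zz, one_mul] at this
    · have e4 : w2 = w1 := by
        calc w2 = w1⁻¹ * (w1 * w2) := by group
          _ = w1⁻¹ * (w1 * w1) := by rw [e3, s1]
          _ = w1 := inv_mul_cancel_left _ _
      exact e4 ▸ hw2
    · exact (zne ((cls_five_sq e3).symm.trans hp)).elim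
  rcases eq_or_mul_z E (hc'.sq E) ((view_conj.mpr hv).sq E) hu' hw1 same with e4 | e4
  · refine zmul_ne (a := cd) (fun e5 => b1_cases.1 ?_) E (view_inj g e4)
    have h6 := tri_conj
    rw [e5] at h6
    exact conj_eq_one_iff.mp h6
  · have e5 : view g v = view g (ι z * t) := by rw [map_mul, hvt]; exact e4
    have h6 := view_inj g e5
    rw [hvdef, htdef, ← map_mul] at h6
    have h7 := congrArg Subtype.val (mul_left_cancel (E.inj h6))
    simp only [Subgroup.coe_mul] at h7
    exact cd_ne.2 h7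

theorem conj_zb (E : Emb ι C) {a : Wp} {u : W} (h : u * (a : W) * u⁻¹ = pR [0, r2]) :
    ¬ Conj ι (ι (z * a)) := by
  intro hc
  obtain ⟨h1, h2, -⟩ := twist E u⁻¹
  refine no_six h1 ?_
  rw [conj_congr h2]
  have e : (ι.comp (conjWp u⁻¹).toMonoidHom) (z * b1) = ι (z * a) := by
    refine congrArg ι (Subtype.ext ?_)
    show (((conjWp u⁻¹) (z * b1) : Wp) : W) = _
    rw [coe_conjWp, Subgroup.coe_mul, Subgroup.coe_mul, coe_b1, ← h, ← mul_assoc u⁻¹, zc u⁻¹]
    group
  rwa [e]

theorem at_one_exact (E : Emb ι C) {t : G} (ht : Conj ι t) (h : At ι t 1) :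
    ∃ (a : Wp) (u : W), u * (a : W) * u⁻¹ = pR [0, r2] ∧ t = ι a := by
  obtain ⟨a, u, hu, ha⟩ := even_at E h (ht.sq E) (by simp)
  rw [rep_one] at hu
  rcases ha with rfl | rfl
  · exact ⟨a, u, hu, rfl⟩
  · exact absurd ht (conj_zb E hu)

/-- No conjugate acts as the class of square minus one. -/
theorem no_last (E : Emb ι C) {t : G} (ht : Conj ι t) (hz : Commute t (ι z)) : ¬ At ι t 5 := by
  intro hat
  obtain ⟨κ, E', hκ, hact⟩ := twist_at E hat
  rw [← conj_congr hκ] at ht
  rw [← hκ] at hz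
  clear hat E
  obtain ⟨g, hg⟩ := ht
  have hne : t ≠ κ z := by
    intro e
    have h1 : Acts κ t (z : W) := e ▸ acts_iota z
    have h2 : ∀ r, r = rep 5 → r * r = (z : W) := fun r hr => hr ▸ rep_five_sq
    rcases acts_unique E' h1 hact with e1 | e1
    · exact zne ((h2 (z : W) e1.symm).symm.trans zz)
    · rw [zz] at e1
      exact zne ((h2 1 e1.symm).symm.trans (one_mul 1))
  obtain ⟨hvt, hc', hz', hne'⟩ := view_basic E' hg hz
  obtain ⟨w', hw'⟩ := E'.acts _ hz'
  obtain ⟨d, e, he, hde, hid, -⟩ := view_dbl E' hg hact hw' z_last z_sq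
  have hd2 : (d : W) * d = 1 := by
    have h1 : d * d = 1 := E'.inj (by rw [map_mul, ← hid, map_one]; exact hc'.sq E')
    exact congrArg Subtype.val h1
  have hactd : Acts κ (view g (κ z)) (d : W) := hid ▸ acts_iota d
  have h5 : Five κ (view g (κ z) :: [t].map (view g)) :=
    view_five E' hg five_last
      (fun v hv => ⟨_, List.mem_singleton.mpr rfl, (List.mem_singleton.mp hv) ▸ hact⟩) (by simp)
  rcases five_at E' (by simp) hc' hz' (hne' hne) h5 with h | h | h
  · have h1 := parity E' h hactd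
    rw [sgn_Wp d.2, sgn_rep.1] at h1
    exact absurd h1 (by decide)
  · obtain ⟨a, u, hu, ha⟩ := at_one_exact E' hc' h
    have had : d = a := E'.inj (hid.symm.trans ha)
    subst had
    have hu1 : u * (d : W) * u⁻¹ = rep 1 := hu.trans rep_one.symm
    have hfix := double_fix (Or.inr rfl) (pm_class E' hw' hactd hu1 he)
    rw [dbl_conj, ← hde, hu, ← coe_b1] at hfix
    exact rho_b1_ne hfix
  · obtain ⟨w, u, hw, hu⟩ := h
    have s := cls_five_sq (w := w) ⟨u, Or.inl hu⟩
    rcases acts_unique E' hactd hw with e' | e' <;> rw [e'] at s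
    · exact zne (s.symm.trans hd2)
    · rw [show (z : W) * (d : W) * ((z : W) * d) = (z : W) * ((d : W) * (z : W)) * d by group, zc,
        ← mul_assoc (z : W), zz, one_mul, hd2] at s
      exact zne s.symm

theorem conj_pair (E : Emb ι C) (hb : Conj ι (ι b1)) {i j : ℕ} (hi : i < 120) (hj : j < 120)
    (ho : Orth i j) : Conj ι (ι (pr i j)) := by
  obtain ⟨g, gi, gj⟩ := exists_to_pair hi hj ho
  have e : g * (pr i j : W) * g⁻¹ = pR [0, r2] := by
    rw [coe_pr hi hj, pR_pair, show g * (R i * R j) * g⁻¹ = (g * R i * g⁻¹) * (g * R j * g⁻¹) by group,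
      conj_lmap g hi, conj_lmap g hj, gi, gj]
  obtain ⟨a, ha⟩ := even_conjugator (i := 1) (u := g) (by simp) (e.trans rep_one.symm)
  have h := hb.conj (ι a⁻¹)
  rwa [← map_inv, ← map_mul, ← map_mul, show a⁻¹ * b1 * a⁻¹⁻¹ = pr i j from Subtype.ext (by
    simp only [Subgroup.coe_mul, Subgroup.coe_inv]
    rw [coe_b1, ← rep_one, ← ha]; group)] at h

/-- A product of two orthogonal reflections is not conjugate to the central involution. -/
theorem no_b1 (E : Emb ι C) : ¬ Conj ι (ι b1) := by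
  intro ht
  set t := ι b1 with htdef
  have hz : Commute t (ι z) := commute_z E _
  have hne : t ≠ ι z := fun e => b1_cases.2 (congrArg Subtype.val (E.inj e))
  obtain ⟨g, hg⟩ := ht
  obtain ⟨hvt, hc', hz', hne'⟩ := view_basic E hg hz
  have hact : Acts ι t (pR [0, r2]) := by rw [← coe_b1]; exact acts_iota b1
  have h5 : Five ι (view g (ι z) :: [t].map (view g)) :=
    view_five E hg (five_pair.mono fun a ha => cen_pair ha)
      (fun v hv => ⟨_, List.mem_singleton.mpr rfl, (List.mem_singleton.mp hv) ▸ hact⟩) (by simp)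
  obtain ⟨w', hw'⟩ := E.acts _ hz'
  have hd : DblW [pR [0, r2]] (z * b1) := za_pair.mono fun a ha => cen_pair ha
  obtain ⟨d, -, -, -, hid, -⟩ := view_dbl E hg hact hw' hd zb1_sq
  have ht' : view g (ι z) = ι (d * z) := by
    rw [map_mul, map_mul, hvt] at hid
    rw [map_mul, ← hid, mul_assoc, iota_z_sq E, mul_one]
  have hev : sgn w' = 1 := by
    have h : Acts ι (view g (ι z)) ((d * z : Wp) : W) := ht' ▸ acts_iota _
    rcases acts_unique E h hw' with e | e <;> rw [e]
    · exact sgn_Wp (d * z).2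
    · rw [map_mul, sgn_z, sgn_Wp (d * z).2, mul_one]
  rcases five_at E (by simp) hc' hz' (hne' hne) h5 with h | h | h
  · have h1 := parity E h hw'
    rw [hev, sgn_rep.1] at h1
    exact absurd h1 (by decide)
  swap
  · exact no_last E hc' hz' h
  obtain ⟨a, u, hu, ha⟩ := at_one_exact E hc' h
  obtain ⟨E', hκ, htw⟩ := twist E u⁻¹
  set κ := ι.comp (conjWp u⁻¹).toMonoidHom with hκdef
  have hb : κ b1 = view g (ι z) := by
    rw [ha]
    refine congrArg ι (Subtype.ext ?_)
    show (((conjWp u⁻¹) b1 : Wp) : W) = _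
    rw [coe_conjWp, coe_b1, ← hu]; group
  -- the second plane
  set v := ι cd with hvdef
  have hv : Conj ι v := by
    have := (show Conj ι t from ⟨g, hg⟩).conj (ι (el triG))
    rwa [htdef, ← map_inv, ← map_mul, ← map_mul,
      show el triG * b1 * (el triG)⁻¹ = cd from Subtype.ext tri_conj] at this
  have htv : Conj ι (t * v) := by
    rw [htdef, hvdef, ← map_mul,
      show b1 * cd = pr 8 66 from Subtype.ext (by
        rw [coe_pr (by norm_num) (by norm_num), ← b1_cd]; rfl)]
    exact conj_pair E ⟨g, hg⟩ (by norm_num) (by norm_num) configs.2.2.2.2.2.2.2.2.1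
  have hvt' : Commute v t := (comm_b1_cd.symm).map ι
  have hvz : Commute (view g v) (ι z) := view_of_commute hg hvt'
  have hvne : view g v ≠ ι z := fun e =>
    cd_ne.1 (congrArg Subtype.val (E.inj (view_inj g (e.trans hvt.symm))))
  have h52 : Five ι (view g (ι z) :: [t, v].map (view g)) := by
    refine view_five E hg tri_five (fun y hy => ?_) (by simp)
    simp only [List.mem_cons, List.not_mem_nil, or_false] at hy
    rcases hy with rfl | rfl
    · exact ⟨_, by simp, hact⟩
    · refine ⟨pR triR, by simp, ?_⟩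
      rw [← coe_cd]; exact acts_iota cd
  rw [← five_congr hκ] at h52
  have hab : Acts κ (view g (ι z)) (pR [0, r2]) := by rw [← coe_b1, ← hb]; exact acts_iota b1
  obtain ⟨w2, hw2⟩ := E'.acts (view g v) (by rw [hκ]; exact hvz)
  obtain ⟨n1, n2⟩ := action_ne E' ((conj_congr hκ).mpr (view_conj.mpr hv)) (by rw [hκ]; exact hvne) hw2
  obtain ⟨x, hx5, hx1, hx⟩ := five_element E' (v := view g (ι z)) (by simp) hab h52
  have c1 := (hx _ (by simp) _ hab).symm
  have c2 := (hx (view g v) (by simp) _ hw2).symm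
  have hx5' : (x : W) ^ 5 = 1 := by rw [← SubmonoidClass.coe_pow, hx5]; rfl
  have hb1sq : pR [0, r2] * pR [0, r2] = 1 := by rw [← rep_one, rep_sq (by norm_num)]
  have nb := b1_cases
  rw [coe_b1] at nb
  rcases Omega8Five24.five_cases hx5' (fun e => hx1 (Subtype.ext e)) with ⟨hA, htri⟩ | hB
  swap
  · rcases hB _ (Or.inl hb1sq) c1 with e | e | e
    · exact nb.1 e
    · exact nb.2 e
    · exact zne ((cls_five_sq e).symm.trans hb1sq)
  have hv2 : Conj κ (view g v) := (conj_congr hκ).mpr (view_conj.mpr hv)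
  rcases hA w2 (action_sq E' hw2 (hv2.sq E')) c2 with e | e | e | e
  · exact n1 e
  · exact n2 e
  swap
  · obtain ⟨a2, u2, hu2, ha2⟩ := at_one_exact E' hv2 (at_of_cls hw2 e)
    refine conj_zb E' hu2 ?_
    rw [map_mul, ← ha2, hκ, ← hvt, ← map_mul, conj_congr hκ]
    exact view_conj.mpr htv
  -- the image acts as a reflection
  obtain ⟨k, hk, hka⟩ := at_zero_line (at_of_cls hw2 e)
  have cx : Commute (R k) (x : W) := (hx _ (by simp) _ hka).symm
  have cb : Commute (R k) (pR [0, r2]) := by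
    have hvc : Commute (view g v) (view g (ι z)) := (commute_z E cd).map (view g)
    rcases acts_commute E' hka hab hvc with e1 | e1
    · exact e1
    · refine absurd ?_ (no_neg1 (R k))
      rw [e1]; group
  have hk2 : k = 0 ∨ k = r2 ∨ (Orth 0 k ∧ Orth r2 k) := by
    refine plane_comm ⟨k, hk⟩ ?_
    have e1 : pR [k, 0, r2] = pR [0, r2, k] := by
      rw [show pR [k, 0, r2] = R k * pR [0, r2] from pR_cons _ _, cb.eq]
      simp [pR_cons, mul_assoc]
    have hl1 : ∀ a ∈ [k, 0, r2], a < 120 := by simp [hk, rep1.2.1]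
    have hl2 : ∀ a ∈ [0, r2, k], a < 120 := by simp [hk, rep1.2.1]
    rw [permList, permList]
    refine List.map_congr_left fun r hr => ?_
    have h1 := congrArg (fun w => (rho w ⟨r, List.mem_range.mp hr⟩).val) e1
    simpa [rho_pR hl1, rho_pR hl2] using h1
  have hfix : ∀ i, (i = 0 ∨ i = r2) → Commute (R i) (x : W) := by
    have h2 : r2 < 120 := rep1.2.1
    have hperm : ∀ i, (i = 0 ∨ i = r2) → lmap (x : W) i = 0 ∨ lmap (x : W) i = r2 := by
      rintro i (rfl | rfl)
      · exact line_set c1.symm plane_neg'.1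
      · have h := line_set c1.symm plane_neg'.2
        rwa [show (⟨r2, by decide⟩ : Fin 240) = Fin.ofNat 240 r2 from Fin.ext (by decide)] at h
    intro i hi
    have hi120 : i < 120 := by rcases hi with rfl | rfl <;> omega
    have hsq : lmap ((x : W) * x) i = i := by
      rw [lmap_mul _ _ hi120]
      have hne0 : (0 : ℕ) ≠ r2 := rep1.2.2.1
      have ie : lmap (x : W) 0 ≠ lmap (x : W) r2 := fun e => hne0 (lmap_inj _ (by norm_num) h2 e)
      rcases hperm 0 (Or.inl rfl) with e0 | e0 <;> rcases hperm r2 (Or.inr rfl) with e2 | e2 <;>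
        rcases hi with rfl | rfl <;> simp_all
    have hx6 : lmap (x : W) i = i := by
      have e6 : (x : W) = (x : W) * x * ((x : W) * x) * ((x : W) * x) := by
        calc (x : W) = (x : W) ^ 5 * x := by rw [hx5', one_mul]
          _ = _ := by simp [pow_succ, mul_assoc]
      conv_lhs => rw [e6]
      rw [lmap_mul _ _ hi120, lmap_mul _ _ (lmap_lt _ _), hsq, hsq, hsq]
    have := conj_lmap (x : W) hi120
    rw [hx6] at this
    exact (mul_inv_eq_iff_eq_mul.mp this).symm
  obtain ⟨l, hl, hlk⟩ : ∃ l < 120, R l * R k = pR [0, r2] := by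
    rcases hk2 with rfl | rfl | ⟨o1, o2⟩
    · refine ⟨r2, rep1.2.1, ?_⟩
      rw [pR_pair]
      exact (comm_of_orth (by norm_num) rep1.2.1 rep1.2.2).eq.symm
    · exact ⟨0, by norm_num, (pR_pair 0 r2).symm⟩
    · exact (htri 0 r2 k (by norm_num) rep1.2.1 hk rep1.2.2 o1 o2 (hfix 0 (Or.inl rfl))
        (hfix r2 (Or.inr rfl)) cx).elim
  -- the product with the first plane element is conjugate
  obtain ⟨a3, ha3⟩ := exists_even_conj hk hl
  have h3 := hv2.conj (κ a3)
  rw [conj_iota hka a3 b1 (by rw [coe_b1, ← hlk, ha3, R_inv (by omega)]), hb] at h3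
  rw [conj_congr hκ, ← map_mul] at h3
  have h4 := view_conj.mp h3
  rw [hvdef, ← map_mul] at h4
  refine conj_zb E (u := (el triG : W)⁻¹) ?_ h4
  rw [← tri_conj, coe_b1]; group

/-- No conjugate acts as a product of two orthogonal reflections. -/
theorem no_two (E : Emb ι C) {t : G} (ht : Conj ι t) : ¬ At ι t 1 := by
  intro h
  obtain ⟨a, u, hu, rfl⟩ := at_one_exact E ht h
  obtain ⟨E', hκ, -⟩ := twist E u⁻¹
  refine no_b1 E' ?_
  rw [conj_congr hκ]
  have e : (ι.comp (conjWp u⁻¹).toMonoidHom) b1 = ι a := by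
    refine congrArg ι (Subtype.ext ?_)
    show (((conjWp u⁻¹) b1 : Wp) : W) = _
    rw [coe_conjWp, coe_b1, ← hu]; group
  rwa [e]

/-- A conjugate with a witness of order five acts as a reflection. -/
theorem five_reflection (E : Emb ι C) {vs : List G} {v : G} (hv : v ∈ vs) (hc : Conj ι v)
    (hz : Commute v (ι z)) (hne : v ≠ ι z) (h : Five ι vs) : ∃ k < 120, Acts ι v (R k) := by
  rcases five_at E hv hc hz hne h with h0 | h0 | h0
  · exact at_zero_line h0
  · exact absurd h0 (no_two E hc)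
  · exact absurd h0 (no_last E hc hz)

end Cfsg.Agent.Omega8FusionPlane24
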