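import Cfsg.Agent.Lib.Omega8CoverIso24
import Cfsg.Agent.Lib.Omega8Data24

/-!
The reflections of the Weyl group of type E8 indexed by root lines, with their permutations of the
roots and their matrices modulo 2 on bit strings.
-/

set_option autoImplicit false
set_option maxRecDepth 8000

namespace Cfsg.Agent.Omega8Refl24

open Cfsg Cfsg.Agent.E8Even69 Cfsg.Agent.E8EvenData69 Cfsg.Agent.CoxeterTables Cfsg.Agent.CoxeterData
open Cfsg.Agent.CoxeterCenter Cfsg.Agent.Omega8Data24 Cfsg.Agent.OmegaEightTwo69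
open Matrix

/-- the line of a root index -/
def ln (r : ℕ) : ℕ := min r (239 - r)

/-- the reflection of a root -/
noncomputable def R (k : ℕ) : W := wprod (gen C8) (pathW.getD (ln k) [] ++ theta ++ (pathW.getD (ln k) []).reverse)

/-- the product of the reflections of a list of roots -/
noncomputable def pR (l : List ℕ) : W := wprod R l

@[simp] theorem pR_nil : pR [] = 1 := rfl

theorem pR_cons (k : ℕ) (l : List ℕ) : pR (k :: l) = R k * pR l := rfl

theorem pR_append (a b : List ℕ) : pR (a ++ b) = pR a * pR b := wprod_append _ a b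

theorem ln_lt {r : ℕ} (h : r < 240) : ln r < 120 := by unfold ln; omega

theorem negL_getD : ∀ r : Fin 240, negL.getD r.val 0 = 239 - r.val := by decide +kernel

/-- the paths to the roots -/
theorem paths_ok : ∀ r : Fin 240, (∀ k ∈ pathW.getD r.val [], k < 8) ∧
    actWord e8Perm (pathW.getD r.val []) 0 = r.val := by decide +kernel

theorem theta_lt : ∀ a ∈ theta, a < 8 := by decide +kernel

theorem conj_theta {g : W} {r : Fin 240} (hg : rho g 0 = r) : g * sTheta * g⁻¹ = R r.val := by
  have same : ∀ a b : W, rho a 0 = rho b 0 → a * sTheta * a⁻¹ = b * sTheta * b⁻¹ := by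
    intro a b hab
    have h1 : rho (b⁻¹ * a) 0 = 0 := by
      rw [map_mul, Equiv.Perm.mul_apply, hab, map_inv, Equiv.Perm.coe_inv]
      exact Equiv.symm_apply_apply _ _
    have h2 := sTheta_comm (stab_zero h1)
    calc a * sTheta * a⁻¹ = b * (b⁻¹ * a * sTheta) * (b⁻¹ * a)⁻¹ * b⁻¹ := by group
      _ = b * (sTheta * (b⁻¹ * a)) * (b⁻¹ * a)⁻¹ * b⁻¹ := by rw [h2]
      _ = b * sTheta * b⁻¹ := by group
  have hlt := ln_lt r.isLt
  obtain ⟨hp, he⟩ := paths_ok ⟨ln r.val, by omega⟩
  set p := pathW.getD (ln r.val) [] with hp'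
  have hR : R r.val = wprod (gen C8) p * sTheta * (wprod (gen C8) p)⁻¹ := by
    rw [R, inv_wprod (gen_rels C8), sTheta, ← wprod_append, ← wprod_append]
  have hp0 : (rho (wprod (gen C8) p) 0).val = ln r.val := by
    rw [rho_wprod _ hp]; exact he
  rw [hR]
  by_cases hr : r.val < 120
  · refine same _ _ (Fin.ext ?_)
    rw [hg, hp0]; unfold ln; omega
  · have hz := Subgroup.mem_center_iff.mp z_mem_center_W
    refine Eq.trans ?_ (same ((z : W) * g) _ (Fin.ext ?_))
    · symm
      calc (z : W) * g * sTheta * ((z : W) * g)⁻¹ = (z : W) * (g * sTheta * g⁻¹) * (z : W)⁻¹ := by group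
        _ = g * sTheta * g⁻¹ := by rw [← hz, mul_inv_cancel_right]
    · rw [map_mul, Equiv.Perm.mul_apply, hg, rho_z, hp0, negL_getD]; unfold ln; omega

theorem R_zero : R 0 = sTheta := by
  have h := conj_theta (g := 1) (r := 0) (by simp)
  simpa using h.symm

theorem conj_R (w : W) (r : Fin 240) : w * R r.val * w⁻¹ = R (rho w r).val := by
  obtain ⟨hp, he⟩ := paths_ok r
  have h0 : rho (wprod (gen C8) (pathW.getD r.val [])) 0 = r :=
    Fin.ext (by rw [rho_wprod _ hp]; exact he)
  rw [← conj_theta h0, ← conj_theta (g := w * wprod (gen C8) (pathW.getD r.val []))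
    (r := rho w r) (by rw [map_mul, Equiv.Perm.mul_apply, h0])]
  group

theorem refP_zero : permList refP 240 [0] = permList e8Perm 240 theta := by decide +kernel

theorem refPar_ok : ∀ n : Fin 120, n.val ≠ 0 →
    (refPar.getD n.val (0, 0, 0)).1 < 120 ∧ (refPar.getD n.val (0, 0, 0)).2.1 < 8 ∧
    (refPar.getD n.val (0, 0, 0)).2.2 < n.val ∧
    ln (act e8Perm (refPar.getD n.val (0, 0, 0)).2.1
      (refPar.getD (refPar.getD n.val (0, 0, 0)).2.2 (0, 0, 0)).1) = (refPar.getD n.val (0, 0, 0)).1 ∧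
    ∀ r : Fin 240, act refP (refPar.getD n.val (0, 0, 0)).1 r.val =
      act e8Perm (refPar.getD n.val (0, 0, 0)).2.1
        (act refP (refPar.getD (refPar.getD n.val (0, 0, 0)).2.2 (0, 0, 0)).1
          (act e8Perm (refPar.getD n.val (0, 0, 0)).2.1 r.val)) := by decide +kernel

theorem refPos_ok : ∀ k : Fin 120, refPos.getD k.val 0 < 120 ∧
    (refPar.getD (refPos.getD k.val 0) (0, 0, 0)).1 = k.val := by decide +kernel

theorem rho_R_pos : ∀ (n : ℕ), n < 120 → ∀ r : Fin 240,
    (rho (R (refPar.getD n (0, 0, 0)).1) r).val = act refP (refPar.getD n (0, 0, 0)).1 r.val := by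
  intro n
  induction n using Nat.strong_induction_on with
  | _ n ih =>
    intro hn r
    by_cases h0 : n = 0
    · subst h0
      show (rho (R 0) r).val = act refP 0 r.val
      rw [R_zero, sTheta, rho_wprod _ theta_lt]
      have h := congrArg (fun l => l.getD r.val 0) refP_zero
      simpa [permList, actWord] using h.symm
    · obtain ⟨hk, hi, hlt, hln, hperm⟩ := refPar_ok ⟨n, hn⟩ h0
      simp only [] at hk hi hlt hln hperm
      set i := (refPar.getD n (0, 0, 0)).2.1
      set m := (refPar.getD n (0, 0, 0)).2.2 with hm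
      set k := (refPar.getD n (0, 0, 0)).1
      set k' := (refPar.getD m (0, 0, 0)).1 with hk'
      have hk'lt : k' < 120 := by
        by_cases hm0 : m = 0
        · rw [hk', hm0]; decide +kernel
        · exact (refPar_ok ⟨m, hlt.trans hn⟩ hm0).1
      have hact : ∀ a : Fin 240, (rho (gen C8 i) a).val = act e8Perm i a.val :=
        rho_gen i (List.mem_range.mpr hi)
      have e : R k = gen C8 i * R k' * (gen C8 i)⁻¹ := by
        rw [conj_R (gen C8 i) ⟨k', by omega⟩, hact, ← hln]
        show R (ln (act e8Perm i k')) = R (act e8Perm i k')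
        unfold R ln
        congr 4 <;> omega
      rw [e, inv_gen i hi, map_mul, map_mul, Equiv.Perm.mul_apply, Equiv.Perm.mul_apply, hact,
        ih m hlt (hlt.trans hn), hact, hperm r]
where
  inv_gen (i : ℕ) (hi : i < 8) : (gen C8 i)⁻¹ = gen C8 i := by
    rw [show gen C8 i = s ⟨i, hi⟩ from gen_val ⟨i, hi⟩, s_inv]

theorem rho_R {k : ℕ} (hk : k < 120) (r : Fin 240) : (rho (R k) r).val = act refP k r.val := by
  obtain ⟨h1, h2⟩ := refPos_ok ⟨k, hk⟩
  have h := rho_R_pos _ h1 r
  rwa [h2] at h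

theorem rho_pR : ∀ {l : List ℕ} (_ : ∀ k ∈ l, k < 120) (r : Fin 240),
    (rho (pR l) r).val = actWord refP l r.val
  | [], _, r => by simp [actWord]
  | k :: l, h, r => by
    rw [pR_cons, map_mul, Equiv.Perm.mul_apply, rho_R (h k (by simp)),
      rho_pR (fun a ha => h a (by simp [ha])) r]
    rfl

/-- equality of products of reflections -/
theorem pR_eq {a b : List ℕ} (ha : ∀ k ∈ a, k < 120) (hb : ∀ k ∈ b, k < 120)
    (h : permList refP 240 a = permList refP 240 b) : pR a = pR b := by
  refine rho_injective (Equiv.ext fun r => Fin.ext ?_)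
  rw [rho_pR ha, rho_pR hb]
  have h1 := congrArg (fun l => l.getD r.val 0) h
  simpa [permList, List.getD_eq_getElem _ _] using h1

theorem pR_eq_z {a : List ℕ} (ha : ∀ k ∈ a, k < 120) (h : permList refP 240 a = negL) :
    pR a = (z : W) := by
  refine rho_injective (Equiv.ext fun r => Fin.ext ?_)
  rw [rho_pR ha, rho_z, ← h]
  simp [permList, List.getD_eq_getElem _ _]

theorem pR_eq_z_mul {a b : List ℕ} (ha : ∀ k ∈ a, k < 120) (hb : ∀ k ∈ b, k < 120)
    (h : permList refP 240 a = (permList refP 240 b).map fun r => negL.getD r 0) :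
    pR a = (z : W) * pR b := by
  refine rho_injective (Equiv.ext fun r => Fin.ext ?_)
  rw [map_mul, Equiv.Perm.mul_apply, rho_z, rho_pR ha, rho_pR hb]
  have h1 := congrArg (fun l => l.getD r.val 0) h
  simpa [permList, List.getD_eq_getElem _ _] using h1

theorem R_sq_list : ∀ k : Fin 120, permList refP 240 [k.val, k.val] = List.range 240 := by
  decide +kernel

theorem R_ln {r : ℕ} (h : r < 240) : R r = R (ln r) := by
  rw [R, R, show ln (ln r) = ln r by unfold ln; omega]

theorem R_sq {k : ℕ} (hk : k < 240) : R k * R k = 1 := by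
  rw [R_ln hk]
  have h := pR_eq (a := [ln k, ln k]) (b := []) (by simp [ln_lt hk]) (by simp)
    ((R_sq_list ⟨_, ln_lt hk⟩).trans (by simp [permList, actWord]))
  simpa [pR_cons] using h

theorem R_inv {k : ℕ} (hk : k < 240) : (R k)⁻¹ = R k := inv_eq_of_mul_eq_one_right (R_sq hk)

theorem simple_R : ∀ i : Fin 8, simpleL.getD i.val 0 < 120 ∧
    permList refP 240 [simpleL.getD i.val 0] = permList e8Perm 240 [i.val] := by decide +kernel

theorem s_eq_R (i : Fin 8) : s i = R (simpleL.getD i.val 0) := by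
  refine rho_injective (Equiv.ext fun r => Fin.ext ?_)
  rw [rho_R (simple_R i).1, ← gen_val, rho_gen i.val (List.mem_range.mpr i.isLt)]
  have h := congrArg (fun l => l.getD r.val 0) (simple_R i).2
  simpa [permList, actWord, List.getD_eq_getElem _ _] using h.symm

theorem sgn_R {k : ℕ} (hk : k < 120) : sgn (R k) = Multiplicative.ofAdd 1 := by
  obtain ⟨hp, he⟩ := paths_ok ⟨k, by omega⟩
  have h0 : rho (wprod (gen C8) (pathW.getD k [])) 0 = (⟨k, by omega⟩ : Fin 240) :=
    Fin.ext (by rw [rho_wprod _ hp]; exact he)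
  have hth : ∀ (l : List ℕ), (∀ a ∈ l, a < 8) →
      sgn (wprod (gen C8) l) = Multiplicative.ofAdd ((l.length : ℕ) : ZMod 2) := by
    intro l
    induction l with
    | nil => simp
    | cons a l ih =>
      intro hl
      have ha : a < 8 := hl a (by simp)
      rw [wprod_cons, map_mul, ih (fun b hb => hl b (by simp [hb])),
        show gen C8 a = s ⟨a, ha⟩ from gen_val ⟨a, ha⟩, sgn_s, ← ofAdd_add]
      congr 1
      push_cast [List.length_cons]
      ring
  rw [← conj_theta h0, map_mul, map_mul, map_inv, mul_inv_cancel_comm, sTheta,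
    hth theta theta_lt]
  decide +kernel

theorem mem_Wp_iff (w : W) : w ∈ Wp ↔ sgn w = 1 := by
  refine ⟨sgn_Wp, fun h => (closure_x_coe.2 w).resolve_right fun h7 => ?_⟩
  have h1 := sgn_Wp h7
  rw [map_mul, h, one_mul, sgn_s] at h1
  exact absurd h1 (by decide)

theorem sgn_pR : ∀ {l : List ℕ}, (∀ k ∈ l, k < 120) →
    sgn (pR l) = Multiplicative.ofAdd ((l.length : ℕ) : ZMod 2)
  | [], _ => by simp
  | k :: l, h => by
    rw [pR_cons, map_mul, sgn_pR (fun a ha => h a (by simp [ha])), sgn_R (h k (by simp)),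
      ← ofAdd_add]
    congr 1
    push_cast [List.length_cons]
    ring

theorem pR_mem {l : List ℕ} (h : ∀ k ∈ l, k < 120) (he : l.length % 2 = 0) : pR l ∈ Wp := by
  rw [mem_Wp_iff, sgn_pR h, (ZMod.natCast_eq_zero_iff_even).mpr (Nat.even_iff.mpr he)]
  rfl

/-! ### matrices modulo 2 -/

/-- transvection of a line, on bit strings -/
def tv (k n : ℕ) : ℕ := if bB n (red k) then n ^^^ red k else n

/-- image under a matrix given by the images of the basis -/
def apL (M : List ℕ) : List Ix → ℕ → ℕ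
  | [], _ => 0
  | b :: l, n => (if n.testBit (pos b) then M.getD (pos b) 0 else 0) ^^^ apL M l n

/-- image under a matrix -/
def ap (M : List ℕ) (n : ℕ) : ℕ := apL M coords n

/-- composition -/
def mm (A B : List ℕ) : List ℕ := B.map (ap A)

/-- the identity matrix -/
def E0 : List ℕ := [1, 2, 4, 8, 16, 32, 64, 128]

/-- the matrix of a product of reflections -/
def Mw : List ℕ → List ℕ
  | [] => E0
  | k :: l => (Mw l).map (tv k)

/-- the matrix of an element -/
noncomputable def Mof (w : W) : List ℕ :=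
  (List.range 8).map fun j => enc ((mu w : Matrix Ix Ix (ZMod 2)) *ᵥ vec (2 ^ j))

theorem Mof_getD (w : W) (b : Ix) :
    vec ((Mof w).getD (pos b) 0) = (mu w : Matrix Ix Ix (ZMod 2)) *ᵥ vec (2 ^ pos b) := by
  have h : pos b < 8 := by rcases b with ⟨k, hk⟩ | ⟨k, hk⟩ <;> simp [pos] <;> omega
  rw [Mof, List.getD_eq_getElem _ _ (by simpa using h)]
  simp [vec_enc]

theorem mu_apL (w : W) : ∀ (l : List Ix) (n : ℕ),
    (mu w : Matrix Ix Ix (ZMod 2)) *ᵥ vec (bits l n) = vec (apL (Mof w) l n)
  | [], _ => by simp [bits, apL, vec_zero]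
  | b :: l, n => by
    simp only [bits, apL, vec_xor, Matrix.mulVec_add, mu_apL w l n]
    refine congrArg (· + _) ?_
    split_ifs
    · rw [Mof_getD]
    · simp [vec_zero]

theorem mu_ap (w : W) {n : ℕ} (hn : n < 256) :
    (mu w : Matrix Ix Ix (ZMod 2)) *ᵥ vec n = vec (ap (Mof w) n) := by
  have h := mu_apL w coords n
  rw [show bits coords n = n from bits_coords ⟨n, hn⟩] at h
  exact h

theorem apL_lt {M : List ℕ} (h : ∀ a ∈ M, a < 256) : ∀ (l : List Ix) (n : ℕ), apL M l n < 256
  | [], _ => by simp [apL]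
  | b :: l, n => by
    refine Nat.xor_lt_two_pow (n := 8) ?_ (apL_lt h l n)
    split_ifs
    · rw [List.getD_eq_getElem?_getD]
      rcases hM : M[pos b]? with _ | a
      · simp
      · simpa using h a (List.mem_of_getElem? hM)
    · norm_num

theorem Mof_lt (w : W) : ∀ a ∈ Mof w, a < 256 := by
  intro a ha
  simp only [Mof, List.mem_map] at ha
  obtain ⟨j, -, rfl⟩ := ha
  exact enc_lt _

theorem enc_vec' {n : ℕ} (h : n < 256) : enc (vec n) = n := enc_vec ⟨n, h⟩

theorem Mof_mul (a b : W) : Mof (a * b) = mm (Mof a) (Mof b) := by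
  have h : ∀ j : ℕ, enc ((mu (a * b) : Matrix Ix Ix (ZMod 2)) *ᵥ vec (2 ^ j)) =
      ap (Mof a) (enc ((mu b : Matrix Ix Ix (ZMod 2)) *ᵥ vec (2 ^ j))) := by
    intro j
    generalize hv : vec (2 ^ j) = v
    rw [map_mul, Units.val_mul, ← Matrix.mulVec_mulVec]
    generalize (mu b : Matrix Ix Ix (ZMod 2)) *ᵥ v = u
    conv_lhs => rw [← vec_enc u]
    rw [mu_ap a (enc_lt u)]
    exact enc_vec' (apL_lt (Mof_lt a) coords (enc u))
  rw [mm]
  conv_rhs => arg 2; rw [Mof]
  rw [List.map_map, Mof]
  exact List.map_congr_left fun j _ => h j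

theorem Mof_one : Mof 1 = E0 := by
  have h : ∀ j : Fin 8, enc (vec (2 ^ j.val)) = E0.getD j.val 0 := by decide +kernel
  refine List.ext_getElem (by simp [Mof, E0]) fun j h1 h2 => ?_
  have hj : j < 8 := by simpa [Mof] using h1
  simp only [Mof, List.getElem_map, List.getElem_range, map_one, Units.val_one, Matrix.one_mulVec]
  rw [h ⟨j, hj⟩, List.getD_eq_getElem _ _ h2]

theorem Mof_inj {a b : W} (h : Mof a = Mof b) : a = b ∨ a = (z : W) * b := by
  have hm : mu a = mu b := by
    refine Units.ext (Matrix.ext_of_mulVec_single fun c => ?_)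
    rw [← vec_single, ← Mof_getD, ← Mof_getD, h]
  have h1 : mu (a * b⁻¹) = 1 := by rw [map_mul, map_inv, hm, mul_inv_cancel]
  rcases Omega8CoverIso24.mu_eq_one h1 with h2 | h2
  · exact Or.inl (mul_inv_eq_one.mp h2)
  · exact Or.inr (mul_inv_eq_iff_eq_mul.mp h2)

theorem Mof_z : Mof (z : W) = E0 := by
  have h : mu ((z : Wp) : W) = 1 := (mu_eq_one_iff z).mpr (Or.inr rfl)
  rw [← Mof_one, Mof, Mof, h, map_one]

theorem tv_basis : ∀ (k : Fin 120) (i : Fin 8),
    red (act refP k.val (simpleL.getD i.val 0)) = tv k.val (vv.getD i.val 0) ∧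
      red (simpleL.getD i.val 0) = vv.getD i.val 0 := by decide +kernel

theorem par_xor : ∀ a b : Fin 16, Nat.testBit 0x6996 (a.val ^^^ b.val) =
    (Nat.testBit 0x6996 a.val ^^ Nat.testBit 0x6996 b.val) := by decide +kernel

theorem bB_xor (a b v : ℕ) : bB (a ^^^ b) v = (bB a v ^^ bB b v) := by
  have h15 : ∀ x : ℕ, x &&& 15 < 16 := fun x => Nat.lt_succ_of_le Nat.and_le_right
  unfold bB
  rw [← par_xor ⟨_, h15 _⟩ ⟨_, h15 _⟩]
  congr 1
  refine Nat.eq_of_testBit_eq fun i => ?_
  simp only [Nat.testBit_and, Nat.testBit_xor, Nat.testBit_shiftRight]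
  cases a.testBit (4 + i) <;> cases b.testBit (4 + i) <;> cases a.testBit i <;> cases b.testBit i <;>
    cases v.testBit i <;> cases v.testBit (4 + i) <;> cases Nat.testBit 15 i <;> rfl

theorem tv_linear (k a b : ℕ) : tv k (a ^^^ b) = tv k a ^^^ tv k b := by
  unfold tv
  rw [bB_xor]
  cases bB a (red k) <;> cases bB b (red k) <;>
    simp [Nat.xor_comm, Nat.xor_assoc, Nat.xor_left_comm]

theorem mu_R {k : ℕ} (hk : k < 120) {n : ℕ} (hn : n < 256) :
    (mu (R k) : Matrix Ix Ix (ZMod 2)) *ᵥ vec n = vec (tv k n) := by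
  have hcm : comb (List.finRange 8) (maskL.getD n 0) = n := comb_mask ⟨n, hn⟩
  rw [← hcm]
  generalize List.finRange 8 = l
  have hlt : ∀ l : List (Fin 8), comb l (maskL.getD n 0) < 256 := by
    intro l
    induction l with
    | nil => simp [comb]
    | cons i l ih =>
      refine Nat.xor_lt_two_pow (n := 8) ?_ ih
      split_ifs
      · exact (vv_lt i).1
      · norm_num
  induction l with
  | nil =>
    have h0 : tv k 0 = 0 := by have h := tv_linear k 0 0; simpa using h
    simp [comb, h0, vec_zero]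
  | cons i l ih =>
    simp only [comb]
    split_ifs with hb
    · rw [vec_xor, Matrix.mulVec_add, ih, tv_linear, vec_xor]
      refine congrArg (· + _) ?_
      have h := (tv_basis ⟨k, hk⟩ i)
      rw [← h.1, ← h.2]
      have hs := mu_red (R k) ⟨simpleL.getD i.val 0, by have := (simple_R i).1; omega⟩
      rw [hs, rho_R hk]
    · simpa using ih

theorem Mof_pR : ∀ {l : List ℕ}, (∀ k ∈ l, k < 120) → Mof (pR l) = Mw l
  | [], _ => Mof_one
  | k :: l, h => by
    have hk := h k (by simp)
    rw [pR_cons, Mof_mul, Mw, ← Mof_pR (fun a ha => h a (by simp [ha])), mm]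
    refine List.map_congr_left fun a ha => ?_
    have h1 := mu_ap (R k) (Mof_lt _ a ha)
    rw [mu_R hk (Mof_lt _ a ha)] at h1
    have h2 : tv k a < 256 := by
      unfold tv
      split_ifs
      · exact Nat.xor_lt_two_pow (n := 8) (Mof_lt _ a ha) (red_lt ⟨k, by omega⟩)
      · exact Mof_lt _ a ha
    exact (vec_inj h2 (apL_lt (Mof_lt _) _ _) h1).symm

theorem ap_red (w : W) (r : Fin 240) : ap (Mof w) (red r.val) = red (rho w r).val := by
  have h := mu_ap w (red_lt r)
  rw [mu_red] at h
  exact (vec_inj (red_lt _) (apL_lt (Mof_lt w) _ _) h).symm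

end Cfsg.Agent.Omega8Refl24
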