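import Cfsg.Agent.Lib.Omega8Refl24

/-!
Every involution modulo the centre of the Weyl group of type E8 is conjugate, up to sign, to one of
six representatives: a Sylow 2-subgroup is enumerated.
-/

set_option autoImplicit false
set_option maxRecDepth 20000

namespace Cfsg.Agent.Omega8Sylow24

open Cfsg Cfsg.Agent.E8Even69 Cfsg.Agent.E8EvenData69 Cfsg.Agent.CoxeterTables
open Cfsg.Agent.Omega8Data24 Cfsg.Agent.Omega8Refl24

/-- conjugate, up to sign, to a representative -/
def Cls (i : ℕ) (w : W) : Prop :=
  ∃ g : W, g * w * g⁻¹ = pR (repL.getD i []) ∨ g * w * g⁻¹ = (z : W) * pR (repL.getD i [])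

/-- all letters are lines -/
def okL (l : List ℕ) : Bool := l.all fun k => decide (k < 120)

theorem okL_iff {l : List ℕ} (h : okL l = true) : ∀ k ∈ l, k < 120 := by
  intro k hk
  have := (List.all_eq_true.mp h) k hk
  simpa using this

/-- products over subsets of the generators -/
def span : List (List ℕ) → List (List ℕ)
  | [] => [[]]
  | h :: gs => span gs ++ (span gs).map fun u => h ++ u

/-- the subgroup of the generators and the central involution -/
noncomputable def Hs (gs : List (List ℕ)) : Subgroup W :=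
  Subgroup.closure ({(z : W)} ∪ {x | ∃ g ∈ gs, pR g = x})

theorem z_mem_Hs (gs : List (List ℕ)) : (z : W) ∈ Hs gs :=
  Subgroup.subset_closure (Or.inl rfl)

theorem gen_mem_Hs {gs : List (List ℕ)} {g : List ℕ} (h : g ∈ gs) : pR g ∈ Hs gs :=
  Subgroup.subset_closure (Or.inr ⟨g, h, rfl⟩)

theorem span_spec : ∀ {gs : List (List ℕ)}, (∀ g ∈ gs, ∀ k ∈ g, k < 120) → ∀ {u : List ℕ}, u ∈ span gs →
    pR u ∈ Hs gs ∧ ∀ k ∈ u, k < 120
  | [], _, u, hu => by
    simp only [span, List.mem_singleton] at hu
    subst hu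
    exact ⟨one_mem _, by simp⟩
  | h :: gs, hok, u, hu => by
    have hle : Hs gs ≤ Hs (h :: gs) := Subgroup.closure_mono (by
      rintro x (rfl | ⟨g, hg, rfl⟩)
      · exact Or.inl rfl
      · exact Or.inr ⟨g, by simp [hg], rfl⟩)
    have hok' : ∀ g ∈ gs, ∀ k ∈ g, k < 120 := fun g hg => hok g (by simp [hg])
    rcases List.mem_append.mp hu with hu | hu
    · exact ⟨hle (span_spec hok' hu).1, (span_spec hok' hu).2⟩
    · obtain ⟨v, hv, rfl⟩ := List.mem_map.mp hu
      refine ⟨?_, fun k hk => ?_⟩
      · rw [pR_append]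
        exact mul_mem (gen_mem_Hs (by simp)) (hle (span_spec hok' hv).1)
      · rcases List.mem_append.mp hk with hk | hk
        · exact hok h (by simp) k hk
        · exact (span_spec hok' hv).2 k hk

/-- one step of the enumeration -/
def stepOK (h : List ℕ) (gs : List (List ℕ)) (sq : List ℕ) (cj : List (List ℕ)) : Bool :=
  okL h && decide (sq ∈ span gs) && decide (Mw (h ++ h) = Mw sq) && decide (cj.length = gs.length) &&
    (gs.zip cj).all (fun p => decide (p.2 ∈ span gs) && decide (Mw (p.1 ++ h) = Mw (h ++ p.2))) &&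
    !((span gs).any fun u => decide (Mw u = Mw h))

/-- the enumeration -/
def chainOK24 : List (List ℕ) → List (List ℕ) → List (List (List ℕ)) → Bool
  | [], _, _ => true
  | h :: gs, sq :: sqs, cj :: cjs => stepOK h gs sq cj && chainOK24 gs sqs cjs
  | _, _, _ => false

theorem chain_sound24 : ∀ (gs : List (List ℕ)) (sqs : List (List ℕ)) (cjs : List (List (List ℕ))),
    chainOK24 gs sqs cjs = true →
      (∀ g ∈ gs, ∀ k ∈ g, k < 120) ∧ Nat.card (Hs gs) = 2 ^ (gs.length + 1) ∧
        ∀ w ∈ Hs gs, ∃ u ∈ span gs, Mof w = Mw u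
  | [], _, _, _ => by
    have e : (Hs [] : Set W) = {1, (z : W)} := by
      refine le_antisymm ?_ ?_
      · intro w hw
        refine Subgroup.closure_induction (p := fun y _ => y ∈ ({1, (z : W)} : Set W)) ?_ ?_ ?_ ?_ hw
        · rintro x (rfl | ⟨g, hg, -⟩)
          · simp
          · simp at hg
        · simp
        · intro a b _ _ ha hb
          have hzz : (z : W) * (z : W) = 1 := by rw [← Subgroup.coe_mul, z_sq]; rfl
          rcases ha with rfl | rfl <;> rcases hb with rfl | rfl <;> simp [hzz]
        · intro a _ ha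
          have hzz : (z : W)⁻¹ = (z : W) := by rw [← Subgroup.coe_inv, inv_eq_of_mul_eq_one_right z_sq]
          rcases ha with rfl | rfl <;> simp [hzz]
      · rintro w (rfl | rfl)
        · exact one_mem _
        · exact z_mem_Hs _
    refine ⟨by simp, ?_, fun w hw => ⟨[], by simp [span], ?_⟩⟩
    · show Nat.card (Hs [] : Set W) = _
      rw [e, Nat.card_coe_set_eq, Set.ncard_pair]
      · rfl
      · exact fun h => z_ne_one (Subtype.ext h.symm)
    · have hw' : w ∈ ({1, (z : W)} : Set W) := e ▸ hw
      rcases hw' with rfl | rfl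
      · exact Mof_one
      · exact Mof_z
  | h :: gs, [], _, hc => by simp [chainOK24] at hc
  | h :: gs, _ :: _, [], hc => by simp [chainOK24] at hc
  | h :: gs, sq :: sqs, cj :: cjs, hc => by
    simp only [chainOK24, stepOK, Bool.and_eq_true, decide_eq_true_eq, Bool.not_eq_true',
      List.any_eq_false, List.all_eq_true] at hc
    obtain ⟨⟨⟨⟨⟨⟨hh, hsq⟩, hsqm⟩, hlen⟩, hcj⟩, hnot⟩, hrec⟩ := hc
    obtain ⟨hok, hcard, hcov⟩ := chain_sound24 gs sqs cjs hrec
    have hh' : ∀ k ∈ h, k < 120 := okL_iff hh
    have hok' : ∀ g ∈ h :: gs, ∀ k ∈ g, k < 120 := fun g hg => by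
      rcases List.mem_cons.mp hg with rfl | hg
      · exact hh'
      · exact hok g hg
    have app : ∀ {a b : List ℕ}, (∀ k ∈ a, k < 120) → (∀ k ∈ b, k < 120) → ∀ k ∈ a ++ b, k < 120 :=
      fun ha hb k hk => (List.mem_append.mp hk).elim (ha k) (hb k)
    set H := Hs gs with hH
    set t := pR h with ht
    have hmem : ∀ {x : W} {v : List ℕ}, v ∈ span gs → Mof x = Mw v → x ∈ H := by
      intro x v hv hx
      obtain ⟨h1, h2⟩ := span_spec hok hv
      rw [← Mof_pR h2] at hx
      rcases Mof_inj hx with e | e <;> rw [e]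
      · exact h1
      · exact mul_mem (z_mem_Hs _) h1
    have htt : t * t ∈ H := hmem hsq (by rw [← pR_append, Mof_pR (app hh' hh'), hsqm])
    have hnorm : ∀ a ∈ H, t⁻¹ * a * t ∈ H := by
      have hsub : H ≤ H.comap (MulAut.conj t⁻¹).toMonoidHom := by
        rw [hH, Hs, Subgroup.closure_le]
        rintro x (rfl | ⟨g, hg, rfl⟩)
        · show t⁻¹ * (z : W) * t⁻¹⁻¹ ∈ H
          rw [Subgroup.mem_center_iff.mp z_mem_center_W t⁻¹, mul_inv_cancel_right]
          exact z_mem_Hs _
        · obtain ⟨n, hn, rfl⟩ := List.getElem_of_mem hg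
          have hp : (gs[n], cj[n]'(hlen ▸ hn)) ∈ gs.zip cj := by
            rw [List.mem_iff_getElem]
            exact ⟨n, by simp [hlen, hn], by simp⟩
          obtain ⟨h1, h2⟩ := hcj _ hp
          simp only at h1 h2
          show t⁻¹ * pR gs[n] * t⁻¹⁻¹ ∈ H
          obtain ⟨-, hv2⟩ := span_spec hok h1
          have hg' : ∀ k ∈ gs[n], k < 120 := hok _ (List.getElem_mem hn)
          have h3 : Mof (pR gs[n] * t) = Mof (t * pR (cj[n]'(hlen ▸ hn))) := by
            rw [← pR_append, ← pR_append, Mof_pR (app hg' hh'), Mof_pR (app hh' hv2), h2]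
          rw [inv_inv]
          rcases Mof_inj h3 with e | e
          · rw [mul_assoc, e, inv_mul_cancel_left]
            exact (span_spec hok h1).1
          · rw [mul_assoc, e, ← mul_assoc, Subgroup.mem_center_iff.mp z_mem_center_W t⁻¹, mul_assoc,
              inv_mul_cancel_left]
            exact mul_mem (z_mem_Hs _) (span_spec hok h1).1
      intro a ha
      simpa using hsub ha
    let K : Subgroup W :=
      { carrier := {x | x ∈ H ∨ t⁻¹ * x ∈ H}
        one_mem' := Or.inl (one_mem _)
        mul_mem' := fun {a b} ha hb => by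
          rcases ha with ha | ha <;> rcases hb with hb | hb
          · exact Or.inl (mul_mem ha hb)
          · right
            have := mul_mem (hnorm a ha) hb
            rwa [show t⁻¹ * a * t * (t⁻¹ * b) = t⁻¹ * (a * b) by group] at this
          · right
            have := mul_mem ha hb
            rwa [mul_assoc] at this
          · left
            have := mul_mem (mul_mem htt (hnorm _ ha)) hb
            rwa [show t * t * (t⁻¹ * (t⁻¹ * a) * t) * (t⁻¹ * b) = a * b by group] at this
        inv_mem' := fun {a} ha => by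
          rcases ha with ha | ha
          · exact Or.inl (inv_mem ha)
          · right
            have := mul_mem (hnorm _ (inv_mem ha)) (inv_mem htt)
            rwa [show t⁻¹ * (t⁻¹ * a)⁻¹ * t * (t * t)⁻¹ = t⁻¹ * a⁻¹ by group] at this }
    have hK : Hs (h :: gs) ≤ K := by
      rw [Hs, Subgroup.closure_le]
      rintro x (rfl | ⟨g, hg, rfl⟩)
      · exact Or.inl (z_mem_Hs _)
      · rcases List.mem_cons.mp hg with rfl | hg
        · exact Or.inr (by rw [inv_mul_cancel]; exact one_mem _)
        · exact Or.inl (gen_mem_Hs hg)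
    have hle : H ≤ Hs (h :: gs) := Subgroup.closure_mono (by
      rintro x (rfl | ⟨g, hg, rfl⟩)
      · exact Or.inl rfl
      · exact Or.inr ⟨g, by simp [hg], rfl⟩)
    have htn : t ∉ H := fun ht' => by
      obtain ⟨u, hu, e⟩ := hcov t ht'
      rw [ht, Mof_pR hh'] at e
      have := hnot u hu
      simp [e] at this
    have heq : (Hs (h :: gs) : Set W) = (H : Set W) ∪ (fun a => t * a) '' H := by
      refine le_antisymm (fun x hx => ?_) ?_
      · rcases hK hx with hx | hx
        · exact Or.inl hx
        · exact Or.inr ⟨_, hx, by group⟩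
      · rintro x (hx | ⟨a, ha, rfl⟩)
        · exact hle hx
        · exact mul_mem (gen_mem_Hs (by simp)) (hle ha)
    refine ⟨hok', ?_, fun w hw => ?_⟩
    · show Nat.card (Hs (h :: gs) : Set W) = _
      rw [heq, Nat.card_coe_set_eq, Set.ncard_union_eq, Set.ncard_image_of_injective _ (mul_right_injective t)]
      · rw [← Nat.card_coe_set_eq, show Nat.card (H : Set W) = Nat.card H from rfl, hcard, List.length_cons,
          pow_succ 2 (gs.length + 1), mul_two]
      · rw [Set.disjoint_left]
        rintro x hx ⟨a, ha, rfl⟩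
        refine htn ?_
        have := mul_mem hx (inv_mem ha)
        rwa [mul_inv_cancel_right] at this
    · have hw' : w ∈ (H : Set W) ∪ (fun a => t * a) '' H := heq ▸ hw
      rcases hw' with hw' | ⟨a, ha, rfl⟩
      · obtain ⟨u, hu, e⟩ := hcov w hw'
        exact ⟨u, List.mem_append_left _ hu, e⟩
      · obtain ⟨u, hu, e⟩ := hcov a ha
        refine ⟨h ++ u, List.mem_append_right _ (List.mem_map.mpr ⟨u, hu, rfl⟩), ?_⟩
        have hu' := (span_spec hok hu).2
        show Mof (t * a) = _
        rw [Mof_mul, e, ← Mof_pR hu', ← Mof_mul, ← pR_append, Mof_pR (app hh' hu')]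

theorem span_append : ∀ {a b : List (List ℕ)} {u : List ℕ}, u ∈ span (a ++ b) →
    ∃ v ∈ span a, ∃ v' ∈ span b, u = v ++ v'
  | [], b, u, hu => ⟨[], by simp [span], u, hu, rfl⟩
  | h :: a, b, u, hu => by
    rcases List.mem_append.mp hu with hu | hu
    · obtain ⟨v, hv, v', hv', e⟩ := span_append hu
      exact ⟨v, List.mem_append_left _ hv, v', hv', e⟩
    · obtain ⟨w, hw, rfl⟩ := List.mem_map.mp hu
      obtain ⟨v, hv, v', hv', rfl⟩ := span_append hw
      exact ⟨h ++ v, List.mem_append_right _ (List.mem_map.mpr ⟨v, hv, rfl⟩), v', hv',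
        (List.append_assoc _ _ _).symm⟩

/-- the witness check of one conjugacy -/
def entryOK (m : List ℕ) (c : ℕ) (g : List ℕ) : Bool :=
  decide (c < 6) && okL g && decide (mm (Mw g) m = mm (Mw (repL.getD c [])) (Mw g))

theorem repL_lt : ∀ c < 6, ∀ k ∈ repL.getD c [], k < 120 := by decide +kernel

theorem entry_sound {m : List ℕ} {c : ℕ} {g : List ℕ} (h : entryOK m c g = true) {w : W}
    (hw : Mof w = m) : c < 6 ∧ Cls c w := by
  simp only [entryOK, Bool.and_eq_true, decide_eq_true_eq] at h
  obtain ⟨⟨hc, hg⟩, he⟩ := h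
  refine ⟨hc, pR g, ?_⟩
  have e : Mof (pR g * w) = Mof (pR (repL.getD c []) * pR g) := by
    rw [Mof_mul, Mof_mul, hw, Mof_pR (okL_iff hg), Mof_pR (repL_lt c hc), he]
  rcases Mof_inj e with e | e
  · exact Or.inl (by rw [e, mul_inv_cancel_right])
  · exact Or.inr (by rw [e, ← mul_assoc, mul_inv_cancel_right])

/-- a row of the enumeration -/
def rowOK (x : List ℕ) : List (List ℕ) → ℕ → List (ℕ × ℕ × List ℕ) → Bool
  | [], _, _ => true
  | b :: bs, j, L =>
    if decide (mm (mm x b) (mm x b) = E0) && !decide (mm x b = E0) then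
      match L with
      | (j', c, g) :: L' => decide (j' = j) && entryOK (mm x b) c g && rowOK x bs (j + 1) L'
      | [] => false
    else rowOK x bs (j + 1) L

theorem row_sound {x : List ℕ} : ∀ {bs : List (List ℕ)} {j : ℕ} {L : List (ℕ × ℕ × List ℕ)},
    rowOK x bs j L = true → ∀ b ∈ bs, ∀ w : W, Mof w = mm x b →
      mm (mm x b) (mm x b) = E0 → mm x b ≠ E0 → ∃ c < 6, Cls c w
  | [], _, _, _, b, hb, _, _, _, _ => by simp at hb
  | b :: bs, j, L, h, b', hb', w, hw, h1, h2 => by
    by_cases hcond : (decide (mm (mm x b) (mm x b) = E0) && !decide (mm x b = E0)) = true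
    · rw [rowOK.eq_def] at h
      simp only [hcond, if_true] at h
      rcases L with _ | ⟨⟨j', c, g⟩, L'⟩
      · simp at h
      simp only [Bool.and_eq_true] at h
      rcases List.mem_cons.mp hb' with rfl | hb'
      · exact ⟨c, entry_sound h.1.2 hw⟩
      · exact row_sound h.2 b' hb' w hw h1 h2
    · rw [rowOK.eq_def] at h
      simp only [hcond] at h
      rcases List.mem_cons.mp hb' with rfl | hb'
      · exact absurd (by simp [h1, h2]) hcond
      · exact row_sound h b' hb' w hw h1 h2

/-- the property of one row -/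
def rowAt (i : ℕ) : Bool := rowOK (topM.getD i []) botM 0 (sylC.getD i [])

end Cfsg.Agent.Omega8Sylow24
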