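import Cfsg.Agent.Lib.Omega8Lines24
import Cfsg.Agent.Lib.Omega8Sylow24

/-!
Witness elements in the Weyl group of type E8: double commutators and elements of order five in
centralisers of standard configurations.
-/

set_option autoImplicit false
set_option maxRecDepth 20000

namespace Cfsg.Agent.Omega8Witness24

open Cfsg Cfsg.Agent.E8Even69 Cfsg.Agent.CoxeterTables Cfsg.Agent.CoxeterCenter
open Cfsg.Agent.Omega8Data24 Cfsg.Agent.Omega8Refl24 Cfsg.Agent.Omega8Sylow24 Cfsg.Agent.Omega8Lines24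

universe u v

variable {H : Type u} [Group H] {K : Type v} [Group K]

/-- commutator -/
def cm (a b : H) : H := a * b * a⁻¹ * b⁻¹

/-- double commutator of four elements -/
def dbl (x : H × H × H × H) : H := cm (cm x.1 x.2.1) (cm x.2.2.1 x.2.2.2)

/-- all four elements satisfy a property -/
def All4 (P : H → Prop) (x : H × H × H × H) : Prop := P x.1 ∧ P x.2.1 ∧ P x.2.2.1 ∧ P x.2.2.2

/-- image of four elements -/
def map4 (f : H → K) (x : H × H × H × H) : K × K × K × K := (f x.1, f x.2.1, f x.2.2.1, f x.2.2.2)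

theorem map_cm (f : H →* K) (a b : H) : cm (f a) (f b) = f (cm a b) := by simp [cm]

theorem dbl_map4 (f : H →* K) (x : H × H × H × H) : dbl (map4 f x) = f (dbl x) := by
  simp [dbl, map4, map_cm]

theorem All4.imp {P Q : H → Prop} {x : H × H × H × H} (h : All4 P x) (hi : ∀ a, P a → Q a) : All4 Q x :=
  ⟨hi _ h.1, hi _ h.2.1, hi _ h.2.2.1, hi _ h.2.2.2⟩

theorem All4.map4 {P : H → Prop} {Q : K → Prop} {f : H → K} {x : H × H × H × H} (h : All4 P x)
    (hi : ∀ a, P a → Q (f a)) : All4 Q (map4 f x) :=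
  ⟨hi _ h.1, hi _ h.2.1, hi _ h.2.2.1, hi _ h.2.2.2⟩

theorem commute_cm {a b c : H} (ha : Commute a c) (hb : Commute b c) : Commute (cm a b) c :=
  ((ha.mul_left hb).mul_left ha.inv_left).mul_left hb.inv_left

theorem commute_dbl {x : H × H × H × H} {c : H} (h : All4 (fun a => Commute a c) x) : Commute (dbl x) c :=
  commute_cm (commute_cm h.1 h.2.1) (commute_cm h.2.2.1 h.2.2.2)

/-- commutes with every element of a list of the Weyl group -/
def Cen (ws : List W) (a : Wp) : Prop := ∀ w ∈ ws, Commute (a : W) w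

/-- two double commutator involutions with product of order five in a centraliser -/
def FiveW (ws : List W) : Prop :=
  ∃ x y : Wp × Wp × Wp × Wp, All4 (Cen ws) x ∧ All4 (Cen ws) y ∧ dbl x * dbl x = 1 ∧ dbl y * dbl y = 1 ∧
    (dbl x * dbl y) ^ 5 = 1 ∧ dbl x * dbl y ≠ 1

/-- an element is a double commutator in a centraliser -/
def DblW (ws : List W) (d : Wp) : Prop := ∃ x : Wp × Wp × Wp × Wp, All4 (Cen ws) x ∧ dbl x = d

theorem FiveW.mono {ws vs : List W} (h : FiveW ws) (hi : ∀ a, Cen ws a → Cen vs a) : FiveW vs := by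
  obtain ⟨x, y, hx, hy, h'⟩ := h
  exact ⟨x, y, hx.imp hi, hy.imp hi, h'⟩

theorem DblW.mono {ws vs : List W} {d : Wp} (h : DblW ws d) (hi : ∀ a, Cen ws a → Cen vs a) : DblW vs d := by
  obtain ⟨x, hx, e⟩ := h
  exact ⟨x, hx.imp hi, e⟩

theorem Cen.map {ws : List W} {a : Wp} (g : W) (h : Cen ws a) :
    Cen (ws.map fun w => g * w * g⁻¹) (Omega8CoverIso24.conjWp g a) := by
  intro w hw
  obtain ⟨v, hv, rfl⟩ := List.mem_map.mp hw
  rw [Omega8CoverIso24.coe_conjWp]
  exact (h v hv).map (MulAut.conj g)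

theorem FiveW.conj {ws : List W} (g : W) (h : FiveW ws) : FiveW (ws.map fun w => g * w * g⁻¹) := by
  obtain ⟨x, y, hx, hy, h1, h2, h5, hne⟩ := h
  set f : Wp →* Wp := (Omega8CoverIso24.conjWp g).toMonoidHom
  refine ⟨map4 f x, map4 f y, hx.map4 fun a ha => ha.map g, hy.map4 fun a ha => ha.map g, ?_⟩
  rw [dbl_map4, dbl_map4, ← map_mul, ← map_mul, ← map_mul, ← map_pow, h1, h2, h5]
  exact ⟨map_one f, map_one f, map_one f,
    fun e => hne ((Omega8CoverIso24.conjWp g).injective (e.trans (map_one f).symm))⟩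

theorem DblW.conj {ws : List W} {d : Wp} (g : W) (h : DblW ws d) :
    DblW (ws.map fun w => g * w * g⁻¹) (Omega8CoverIso24.conjWp g d) := by
  obtain ⟨x, hx, rfl⟩ := h
  exact ⟨map4 _ x, hx.map4 fun a ha => ha.map g, dbl_map4 (Omega8CoverIso24.conjWp g).toMonoidHom x⟩

/-- an element from a word -/
noncomputable def el (l : List ℕ) : Wp :=
  if h : okL l = true ∧ l.length % 2 = 0 then ⟨pR l, pR_mem (okL_iff h.1) h.2⟩ else 1

theorem coe_el {l : List ℕ} (h : okL l = true ∧ l.length % 2 = 0) : (el l : W) = pR l := by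
  rw [el, dif_pos h]

/-- the word of a commutator -/
def cW (a b : List ℕ) : List ℕ := a ++ b ++ a.reverse ++ b.reverse

/-- the word of a double commutator -/
def dW (q : List (List ℕ)) : List ℕ :=
  cW (cW (q.getD 0 []) (q.getD 1 [])) (cW (q.getD 2 []) (q.getD 3 []))

/-- four elements from words -/
noncomputable def el4 (q : List (List ℕ)) : Wp × Wp × Wp × Wp :=
  (el (q.getD 0 []), el (q.getD 1 []), el (q.getD 2 []), el (q.getD 3 []))

/-- the check of a quadruple -/
def quadOK (cs : List (List ℕ)) (q : List (List ℕ)) : Bool :=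
  decide (q.length = 4) && q.all fun l => okL l && decide (l.length % 2 = 0) &&
    cs.all fun c => okL c && decide (permList refP 240 (l ++ c) = permList refP 240 (c ++ l))

theorem pR_reverse : ∀ {l : List ℕ}, (∀ k ∈ l, k < 120) → (pR l)⁻¹ = pR l.reverse
  | [], _ => by simp
  | k :: l, h => by
    rw [pR_cons, List.reverse_cons, pR_append, mul_inv_rev, R_inv (by have := h k (by simp); omega),
      pR_reverse fun a ha => h a (by simp [ha])]
    simp [pR_cons]

theorem cm_pR {a b : List ℕ} (ha : ∀ k ∈ a, k < 120) (hb : ∀ k ∈ b, k < 120) :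
    cm (pR a) (pR b) = pR (cW a b) ∧ ∀ k ∈ cW a b, k < 120 := by
  refine ⟨?_, ?_⟩
  · rw [cm, cW, pR_reverse ha, pR_reverse hb, pR_append, pR_append, pR_append]
  · intro k hk
    simp only [cW, List.mem_append, List.mem_reverse] at hk
    rcases hk with ((h | h) | h) | h
    exacts [ha k h, hb k h, ha k h, hb k h]

theorem quad_spec {cs q : List (List ℕ)} (h : quadOK cs q = true) :
    All4 (Cen (cs.map pR)) (el4 q) ∧ ((dbl (el4 q) : Wp) : W) = pR (dW q) ∧ ∀ k ∈ dW q, k < 120 := by
  simp only [quadOK, Bool.and_eq_true, decide_eq_true_eq, List.all_eq_true] at h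
  obtain ⟨hl, hall⟩ := h
  have hi : ∀ i < 4, (okL (q.getD i []) = true ∧ (q.getD i []).length % 2 = 0) ∧
      ∀ c ∈ cs, okL c = true ∧
        permList refP 240 (q.getD i [] ++ c) = permList refP 240 (c ++ q.getD i []) := by
    intro i hi
    have hm : q.getD i [] ∈ q := by
      rw [List.getD_eq_getElem _ _ (by omega)]; exact List.getElem_mem _
    exact hall _ hm
  have hc : ∀ i < 4, Cen (cs.map pR) (el (q.getD i [])) := by
    intro i h4 w hw
    obtain ⟨c, hc, rfl⟩ := List.mem_map.mp hw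
    obtain ⟨h1, h2⟩ := hi i h4
    obtain ⟨hcok, hp⟩ := h2 c hc
    rw [coe_el h1]
    show pR _ * pR c = pR c * pR _
    rw [← pR_append, ← pR_append]
    exact pR_eq (fun k hk => (List.mem_append.mp hk).elim (okL_iff h1.1 k) (okL_iff hcok k))
      (fun k hk => (List.mem_append.mp hk).elim (okL_iff hcok k) (okL_iff h1.1 k)) hp
  refine ⟨⟨hc 0 (by norm_num), hc 1 (by norm_num), hc 2 (by norm_num), hc 3 (by norm_num)⟩, ?_⟩
  have h0 := okL_iff (hi 0 (by norm_num)).1.1
  have h1 := okL_iff (hi 1 (by norm_num)).1.1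
  have h2 := okL_iff (hi 2 (by norm_num)).1.1
  have h3 := okL_iff (hi 3 (by norm_num)).1.1
  obtain ⟨e01, l01⟩ := cm_pR h0 h1
  obtain ⟨e23, l23⟩ := cm_pR h2 h3
  obtain ⟨e, l⟩ := cm_pR l01 l23
  refine ⟨?_, l⟩
  simp only [dbl, el4, cm, Subgroup.coe_mul, Subgroup.coe_inv, coe_el (hi 0 (by norm_num)).1,
    coe_el (hi 1 (by norm_num)).1, coe_el (hi 2 (by norm_num)).1, coe_el (hi 3 (by norm_num)).1]
  rw [dW, ← e, ← e01, ← e23]
  rfl

/-- the check of two quadruples -/
def fiveOK (cs : List (List ℕ)) (a b : List (List ℕ)) : Bool :=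
  quadOK cs a && quadOK cs b && decide (permList refP 240 (dW a ++ dW a) = permList refP 240 []) &&
    decide (permList refP 240 (dW b ++ dW b) = permList refP 240 []) &&
    decide (permList refP 240 ((dW a ++ dW b) ++ (dW a ++ dW b) ++ (dW a ++ dW b) ++ (dW a ++ dW b) ++
      (dW a ++ dW b)) = permList refP 240 []) &&
    !decide (Mw (dW a ++ dW b) = E0)

theorem five_spec {cs a b : List (List ℕ)} (h : fiveOK cs a b = true) : FiveW (cs.map pR) := by
  simp only [fiveOK, Bool.and_eq_true, decide_eq_true_eq, Bool.not_eq_true', decide_eq_false_iff_not] at h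
  obtain ⟨⟨⟨⟨⟨ha, hb⟩, ha2⟩, hb2⟩, h5⟩, hne⟩ := h
  obtain ⟨hxa, ea, la⟩ := quad_spec ha
  obtain ⟨hxb, eb, lb⟩ := quad_spec hb
  have app : ∀ {s t : List ℕ}, (∀ k ∈ s, k < 120) → (∀ k ∈ t, k < 120) → ∀ k ∈ s ++ t, k < 120 :=
    fun hs ht k hk => (List.mem_append.mp hk).elim (hs k) (ht k)
  refine ⟨el4 a, el4 b, hxa, hxb, Subtype.ext ?_, Subtype.ext ?_, Subtype.ext ?_, fun e => hne ?_⟩
  · rw [Subgroup.coe_mul, ea, ← pR_append, pR_eq (app la la) (by simp) ha2]; rfl
  · rw [Subgroup.coe_mul, eb, ← pR_append, pR_eq (app lb lb) (by simp) hb2]; rfl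
  · have hl := app la lb
    rw [SubmonoidClass.coe_pow, Subgroup.coe_mul, ea, eb, ← pR_append, pow_succ, pow_succ, pow_succ,
      pow_succ, pow_one, ← pR_append, ← pR_append, ← pR_append, ← pR_append,
      pR_eq (app (app (app (app hl hl) hl) hl) hl) (by simp) h5]
    rfl
  · have := congrArg Subtype.val e
    rw [Subgroup.coe_mul, ea, eb, ← pR_append] at this
    rw [← Mof_pR (app la lb), this]
    exact Mof_one

theorem five_pair : FiveW [R 0, R r2] := by
  have h := five_spec (cs := [[0], [r2]]) (a := fiveW.getD 0 []) (b := fiveW.getD 1 []) (by decide +kernel)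
  simpa [pR_cons] using h

theorem five_tri : FiveW [R 0, R r2, R (triR.getD 0 0), R (triR.getD 1 0)] := by
  have h := five_spec (cs := [[0], [r2], [triR.getD 0 0], [triR.getD 1 0]])
    (a := triW.getD 0 []) (b := triW.getD 1 []) (by decide +kernel)
  simpa [pR_cons] using h

theorem five_last : FiveW [pR (repL.getD 5 [])] :=
  five_spec (cs := [repL.getD 5 []]) (a := jfW.getD 0 []) (b := jfW.getD 1 []) (by decide +kernel)

/-- the plane element -/
noncomputable def b1 : Wp := el [0, r2]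

theorem coe_b1 : (b1 : W) = pR [0, r2] := coe_el (by decide +kernel)

theorem za_pair : DblW [R 0, R r2] (z * b1) := by
  have h : quadOK [[0], [r2]] zaW = true := by decide +kernel
  obtain ⟨hx, e, l⟩ := quad_spec h
  refine ⟨el4 zaW, by simpa [pR_cons] using hx, Subtype.ext ?_⟩
  rw [e, Subgroup.coe_mul, coe_b1]
  exact pR_eq_z_mul l (by decide +kernel) (by decide +kernel)

theorem z_last : DblW [pR (repL.getD 5 [])] z := by
  have h : quadOK [repL.getD 5 []] jzW = true := by decide +kernel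
  obtain ⟨hx, e, l⟩ := quad_spec h
  refine ⟨el4 jzW, by simpa using hx, Subtype.ext ?_⟩
  rw [e]
  exact pR_eq_z l (by decide +kernel)

theorem pR_pair (a b : ℕ) : pR [a, b] = R a * R b := by simp [pR_cons]

/-- the facts about the auxiliary configurations -/
theorem configs :
    (okL (triR ++ triG ++ oaR ++ oaG ++ ocR ++ ocG ++ ob1R ++ ob1G ++ ob2R ++ ob2G ++ qq1R ++ qq1G ++
        qq2R ++ qq2G ++ neg1W ++ neg2W ++ frame) = true) ∧
    (triG.length % 2 = 0 ∧ oaG.length % 2 = 0 ∧ ocG.length % 2 = 0 ∧ ob1G.length % 2 = 0 ∧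
      ob2G.length % 2 = 0 ∧ qq1G.length % 2 = 0 ∧ qq2G.length % 2 = 0 ∧ neg1W.length % 2 = 0 ∧
      neg2W.length % 2 = 0) ∧
    permList refP 240 (triG ++ [0, r2]) = permList refP 240 (triR ++ triG) ∧
    permList refP 240 (oaG ++ repL.getD 2 []) = permList refP 240 (oaR ++ oaG) ∧
    permList refP 240 (ocG ++ repL.getD 2 []) = permList refP 240 (ocR ++ ocG) ∧
    permList refP 240 (repL.getD 2 [] ++ oaR) = permList refP 240 [0, 109] ∧
    permList refP 240 ([0, r2] ++ triR) = permList refP 240 [8, 66] ∧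
    Orth 0 109 ∧ Orth 8 66 ∧
    (ocW.all fun l => okL l && decide (l.length % 2 = 0) &&
      decide (permList refP 240 (l ++ repL.getD 2 []) = permList refP 240 (repL.getD 2 [] ++ l))) = true ∧
    permList refP 240 (cW (ocW.getD 0 []) (ocW.getD 1 [])) = permList refP 240 (repL.getD 2 [] ++ ocR) := by
  decide +kernel

/-- the facts about the configurations of the last two classes -/
theorem configsQ :
    Mw (ob1G ++ repL.getD 4 []) = Mw (ob1R ++ ob1G) ∧ Mw (ob2G ++ repL.getD 3 []) = Mw (ob2R ++ ob2G) ∧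
    Mw (qq1G ++ repL.getD 4 []) = Mw (qq1R ++ qq1G) ∧ Mw (qq2G ++ repL.getD 3 []) = Mw (qq2R ++ qq2G) ∧
    Mw (repL.getD 2 [] ++ ob1R) = Mw [109] ∧ Mw (repL.getD 2 [] ++ ob2R) = Mw [94] ∧
    (∀ p ∈ [(repL.getD 2 [], ob1R), (repL.getD 2 [], ob2R), (repL.getD 4 [], qq1R), (repL.getD 3 [], qq2R)],
      permList refP 240 (p.1 ++ p.2) = permList refP 240 (p.2 ++ p.1) ∧
      permList refP 240 (p.2 ++ p.2) = permList refP 240 []) ∧
    permList refP 240 (repL.getD 4 [] ++ qq1R) = permList refP 240 [0, 94] ∧ Orth 0 94 ∧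
    permList refP 240 (repL.getD 3 [] ++ qq2R) = permList refP 240 [1, 93] ∧ Orth 1 93 ∧
    permList refP 240 (neg1W ++ repL.getD 4 []) =
      (permList refP 240 (repL.getD 4 [] ++ neg1W)).map (fun r => E8EvenData69.negL.getD r 0) ∧
    permList refP 240 (neg2W ++ repL.getD 3 []) =
      (permList refP 240 (repL.getD 3 [] ++ neg2W)).map (fun r => E8EvenData69.negL.getD r 0) := by
  decide +kernel

/-- the facts about the representatives -/
theorem reps :
    (∀ i < 6, okL (repL.getD i []) = true) ∧ repL.getD 0 [] = [0] ∧ (repL.getD 2 []).length % 2 = 1 ∧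
    (repL.getD 3 []).length % 2 = 0 ∧ (repL.getD 4 []).length % 2 = 0 ∧ (repL.getD 5 []).length % 2 = 0 ∧
    (∀ i < 5, permList refP 240 (repL.getD i [] ++ repL.getD i []) = permList refP 240 []) ∧
    permList refP 240 (repL.getD 5 [] ++ repL.getD 5 []) = E8EvenData69.negL := by
  decide +kernel

/-- a reflection is not conjugate to minus a reflection -/
theorem single_neg : ∀ k : Fin 120,
    permList refP 240 [k.val] ≠ (permList refP 240 [0]).map fun r => E8EvenData69.negL.getD r 0 := by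
  decide +kernel

/-- the fixed lines of the standard plane element -/
theorem plane_fixed : ∀ r ∈ (((List.range 120).filter fun a => decide (actWord refP [0, r2] a = a)).take 3),
    actWord refP [0, r2] r = r := by decide +kernel

theorem plane_fixed_card :
    ((((List.range 120).filter fun a => decide (actWord refP [0, r2] a = a)).take 3)).length = 3 ∧
      ((((List.range 120).filter fun a => decide (actWord refP [0, r2] a = a)).take 3)).Nodup ∧
      ∀ r ∈ ((((List.range 120).filter fun a => decide (actWord refP [0, r2] a = a)).take 3)), r < 120 := by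
  decide +kernel

/-- the frame -/
theorem frame_facts :
    frame.getD 0 0 = 0 ∧ (∀ i : Fin 8, frame.getD i.val 0 < 120) ∧
    (∀ i j : Fin 8, i ≠ j → Orth (frame.getD i.val 0) (frame.getD j.val 0)) ∧
    sum4 (frame.getD 7 0) (frame.getD 4 0) (frame.getD 0 0) (frame.getD 1 0) = 0 ∧
    sum4 (frame.getD 7 0) (frame.getD 4 0) (frame.getD 2 0) (frame.getD 3 0) = 0 ∧
    sum4 (frame.getD 0 0) (frame.getD 1 0) (frame.getD 2 0) (frame.getD 3 0) = 0 := by
  decide +kernel

end Cfsg.Agent.Omega8Witness24
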