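import Cfsg.Agent.Lib.PlaneTorus89
import Cfsg.Agent.Lib.FusionNilReduction
import Cfsg.Agent.Lib.FusCentric
import Cfsg.Agent.Lib.CoprimeActionAut
import Cfsg.Agent.Lib.FusionSysAlperin

/-!
A centric subgroup whose automiser acts on a plane with non-normal Sylow `p`-subgroup and with
inner automorphisms as kernel: the torus extends to the normalizer of the subgroup, with coprime
order, and fixes an element outside the subgroup.
-/

set_option autoImplicit false

universe u v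

namespace Cfsg.Agent.TorusAutomiser89

open Cfsg Cfsg.FusionSystem Cfsg.Agent.FusionSysBasic Cfsg.Agent.FusionSysSaturated
  Cfsg.Agent.FusionSysAlperin

variable {Ω : Type u} [Group Ω] {S : Subgroup Ω} {F : FusionSystem S} {p : ℕ}

/-- Conjugation by the elements of the normalizer, inside the automiser. -/
def cN (F : FusionSystem S) {E : Subgroup Ω} (hE : E ≤ S) :
    ↥(normalizerIn S E) →* ↥(F.autGroup E) :=
  (nHom S E).codRestrict (F.autGroup E) fun g =>
    autInducedBy_le hE ((autInducedBy_eq_range S E).ge ⟨g, rfl⟩)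

theorem coe_cN {E : Subgroup Ω} (hE : E ≤ S) (g : ↥(normalizerIn S E)) :
    (cN F hE g : MulAut E) = nHom S E g := rfl

theorem afun_cN {E : Subgroup Ω} (hE : E ≤ S) (g : ↥(normalizerIn S E)) {x : Ω} (hx : x ∈ E) :
    afun (cN F hE g : MulAut E) x = cj (g : Ω) x := afun_nHom _ hx

/-- A power of `p` kills the `p`-part of an element. -/
theorem exists_coprime_pow {G : Type*} [Group G] [Finite G] [hp : Fact p.Prime] (g : G) :
    ∃ k : ℕ, (orderOf (g ^ p ^ k)).Coprime p := by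
  refine ⟨(orderOf g).factorization p, ?_⟩
  have h0 : orderOf g ≠ 0 := (orderOf_pos g).ne'
  rw [orderOf_pow' _ (pow_ne_zero _ hp.out.ne_zero),
    Nat.gcd_eq_right (Nat.ordProj_dvd (orderOf g) p)]
  exact (Nat.coprime_ordCompl hp.out h0).symm

theorem pow_card_fix [hp : Fact p.Prime] {V : Type v} [Group V] (hexp : ∀ x : V, x ^ p = 1)
    {x : V} {i j : ℤ} (h : (i : ZMod p) = (j : ZMod p)) : x ^ i = x ^ j := by
  obtain ⟨k, hk⟩ := (ZMod.intCast_eq_intCast_iff_dvd_sub i j p).mp h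
  rw [show j = i + (p : ℤ) * k by omega, zpow_add, zpow_mul, zpow_natCast, hexp, one_zpow,
    mul_one]

/-- The configuration obtained. -/
structure Setup (F : FusionSystem S) (p : ℕ) {E : Subgroup Ω} (hE : E ≤ S) {V : Type v} [Group V]
    (ρ : ↥(F.autGroup E) →* MulAut V) where
  T : Subgroup ↥(F.autGroup E)
  D : PlaneTorus89.Data ρ p T
  θ : MulAut ↥(normalizerIn S E)
  θF : θ ∈ F.autGroup (normalizerIn S E)
  θp : (orderOf θ).Coprime p
  η : ↥(F.autGroup E)
  ηθ : ∀ x ∈ E, afun θ x = afun (η : MulAut E) x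
  ηv : ρ η D.v = D.v ^ D.c
  ηw : ρ η D.w = D.w ^ D.μ
  inn : ∀ α : ↥(F.autGroup E), (α : MulAut E) ∈ Inn E → ρ α = 1
  img : ∀ g, ∃ i : ℤ, ρ (cN F hE g) = ρ D.a ^ i
  conj : ∀ g (i : ℤ), ρ (cN F hE g) = ρ D.a ^ i → ρ (cN F hE (θ g)) = ρ D.a ^ (i * D.c * D.c)
  mem_E : ∀ g, ρ (cN F hE g) = 1 → (g : Ω) ∈ E
  pow_a : ∀ i : ℤ, ρ D.a ^ i = 1 → (p : ℤ) ∣ i
  half : ((D.c : ℤ) : ZMod p) ^ ((p - 1) / 2) = -1
  g : ↥(normalizerIn S E)
  gE : (g : Ω) ∉ E
  gfix : (θ ^ ((p - 1) / 2)) g = g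

theorem half_eq_neg_one [hp : Fact p.Prime] (hp2 : p ≠ 2) {x : ZMod p} (hx : orderOf x = p - 1) :
    x ^ ((p - 1) / 2) = -1 := by
  have hodd : Odd p := hp.out.odd_of_ne_two hp2
  have h2 : 2 * ((p - 1) / 2) = p - 1 := by
    obtain ⟨k, hk⟩ := hodd
    omega
  have hsq : (x ^ ((p - 1) / 2)) ^ 2 = 1 := by
    rw [← pow_mul, mul_comm, h2, ← hx, pow_orderOf_eq_one]
  refine (sq_eq_one_iff.mp hsq).resolve_left fun h => ?_
  have h3 : p - 1 ∣ (p - 1) / 2 := (dvd_of_eq hx.symm).trans (orderOf_dvd_of_pow_eq_one h)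
  have := hp.out.two_le
  have h4 : 0 < (p - 1) / 2 := by omega
  have := Nat.le_of_dvd h4 h3
  omega

theorem exists_setup [Finite S] [hp : Fact p.Prime] (hp2 : p ≠ 2) (hS : IsPGroup p S)
    (hF : F.IsSaturated p) {E : Subgroup Ω} (hc : F.IsCentric E) (hlt : E < S)
    {V : Type v} [Group V] (ρ : ↥(F.autGroup E) →* MulAut V) (hV : Nat.card V = p ^ 2)
    (hexp : ∀ x : V, x ^ p = 1) (hcomm : ∀ x y : V, x * y = y * x)
    (hK : ∀ α : ↥(F.autGroup E), ρ α = 1 → (α : MulAut E) ∈ Inn E)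
    (hns : ∀ T : Sylow p ↥(F.autGroup E), ¬ (T : Subgroup ↥(F.autGroup E)).Normal) :
    Nonempty (Setup F p hlt.le ρ) := by
  classical
  have hE := hlt.le
  haveI := finite_of_le hE
  haveI := finite_autGroup (F := F) E
  haveI := finite_normalizerIn (S := S) E
  have hEp : IsPGroup p E := hS.to_le hE
  have hInnp : IsPGroup p (Inn E) := by
    rw [← autInducedBy_self, autInducedBy_eq_range]
    exact (hEp.to_le inf_le_left).of_surjective _ (MonoidHom.rangeRestrict_surjective _)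
  have hKp : IsPGroup p ρ.ker := hInnp.of_injective
    (((F.autGroup E).subtype.comp ρ.ker.subtype).codRestrict (Inn E) fun α => hK α α.2)
    (fun a b h => Subtype.ext (Subtype.ext (congrArg Subtype.val h :)))
  have hN : IsPGroup p (normalizerIn S E) := hS.to_le inf_le_left
  obtain ⟨T, hT⟩ := (hN.of_surjective _ (cN F hE).rangeRestrict_surjective).exists_le_sylow
  obtain ⟨D⟩ := PlaneTorus89.exists_data hp2 ρ hV hexp hcomm hKp T (hns T)
  have hcT : ∀ g, cN F hE g ∈ (T : Subgroup ↥(F.autGroup E)) := fun g => hT ⟨g, rfl⟩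
  have hEN : E ≤ normalizerIn S E := le_normalizerIn hE
  have hInnN : ∀ α : ↥(F.autGroup E), (α : MulAut E) ∈ Inn E →
      ∃ g, cN F hE g = α ∧ (g : Ω) ∈ E := by
    intro α hα
    rw [← autInducedBy_self, mem_autInducedBy] at hα
    obtain ⟨u, hu, -, he⟩ := hα
    refine ⟨⟨u, hEN hu⟩, Subtype.ext (MulEquiv.ext fun x => Subtype.ext ?_), hu⟩
    rw [← afun_coe, ← afun_coe, afun_cN _ _ x.2, he x x.2]
  have hinn : ∀ α : ↥(F.autGroup E), (α : MulAut E) ∈ Inn E → ρ α = 1 := by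
    intro α hα
    have hmem : ∀ β : ↥(F.autGroup E), (β : MulAut E) ∈ Inn E →
        β ∈ (T : Subgroup ↥(F.autGroup E)) := fun β hβ => by
      obtain ⟨g, rfl, -⟩ := hInnN β hβ
      exact hcT g
    exact D.normal_le α (hmem α hα) fun β => hmem _
      (((inn_normal F E).conj_mem ⟨α, α.2⟩ (Subgroup.mem_subgroupOf.mpr hα) β :))
  have hmemE : ∀ g, ρ (cN F hE g) = 1 → (g : Ω) ∈ E := fun g h =>
    mem_of_nHom_mem_inn hE (centralizerIn_le_of_centric hc) g (hK _ h)
  have himg : ∀ g, ∃ i : ℤ, ρ (cN F hE g) = ρ D.a ^ i := fun g => D.imgT _ (hcT g)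
  have haw : ∀ i : ℤ, (ρ D.a ^ i) D.v = D.v ∧ (ρ D.a ^ i) D.w = D.w * D.v ^ i := fun i =>
    PlaneTorus89.apply_zpow_of (hcomm _ _) D.av D.aw i
  have hva : orderOf D.v = p := orderOf_eq_prime (hexp _) D.v_ne
  have hpa : ∀ i : ℤ, ρ D.a ^ i = 1 → (p : ℤ) ∣ i := fun i h => by
    have := (haw i).2
    rw [h, MulAut.one_apply, left_eq_mul] at this
    rw [← hva]
    exact orderOf_dvd_iff_zpow_eq_one.mpr this
  have hext : ∀ (φ ψ : MulAut V), φ D.v = ψ D.v → φ D.w = ψ D.w → φ = ψ := fun φ ψ h1 h2 =>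
    MulEquiv.ext fun x => by
      obtain ⟨i, j, rfl⟩ := D.span x
      rw [map_mul, map_mul, map_zpow, map_zpow, map_zpow, map_zpow, h1, h2]
  have hpow : ∀ i j : ℤ, (i : ZMod p) = (j : ZMod p) → ρ D.a ^ i = ρ D.a ^ j := fun i j h =>
    hext _ _ (by rw [(haw i).1, (haw j).1])
      (by rw [(haw i).2, (haw j).2, pow_card_fix hexp h])
  -- an element moving the plane
  obtain ⟨g₀, hg₀⟩ : ∃ g, ρ (cN F hE g) ≠ 1 := by
    by_contra h
    push Not at h
    have hle : normalizerIn S E ≤ E := fun g hg => hmemE ⟨g, hg⟩ (h _)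
    have hgt := normalizerIn_gt hS hlt
    haveI := finite_normalizerIn (S := S) E
    exact hgt.not_ge (Subgroup.card_le_of_le hle)
  obtain ⟨i₀, hi₀⟩ := himg g₀
  have hi₀p : ¬ (p : ℤ) ∣ i₀ := fun hd => hg₀ <| by
    rw [hi₀, hpow i₀ 0 (by
      rw [Int.cast_zero]; exact (ZMod.intCast_zmod_eq_zero_iff_dvd _ p).mpr hd), zpow_zero]
  have hTr : (T : Subgroup ↥(F.autGroup E)) = (cN F hE).range := by
    refine le_antisymm (fun x hx => ?_) hT
    obtain ⟨i, hi⟩ := D.imgT x hx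
    obtain ⟨a, b, hab⟩ := (Nat.prime_iff_prime_int.mp hp.out).coprime_iff_not_dvd.mpr hi₀p
    have h1 : ρ (cN F hE g₀ ^ (b * i)) = ρ x := by
      rw [map_zpow, hi₀, hi, ← zpow_mul]
      refine hpow _ _ ?_
      have := congrArg (fun z : ℤ => (z : ZMod p)) hab
      push_cast at this ⊢
      rw [ZMod.natCast_self, mul_zero, zero_add] at this
      linear_combination (i : ZMod p) * this
    have h2 : ρ ((cN F hE g₀ ^ (b * i))⁻¹ * x) = 1 := by rw [map_mul, map_inv, h1, inv_mul_cancel]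
    obtain ⟨u, hu, -⟩ := hInnN _ (hK _ h2)
    exact ⟨g₀ ^ (b * i) * u, by rw [map_mul, map_zpow, hu, mul_inv_cancel_left]⟩
  -- extending the torus
  have hηn : ∀ g ∈ normalizerIn S E, ∃ h ∈ S, ∀ x ∈ E,
      afun (D.η : MulAut E) (cj g x) = cj h (afun (D.η : MulAut E) x) := by
    intro g hg
    have h1 : D.η * cN F hE ⟨g, hg⟩ * D.η⁻¹ ∈ (cN F hE).range := hTr ▸ D.ηT _ (hcT _)
    obtain ⟨h, hh⟩ := h1
    refine ⟨h, h.2.1, fun x hx => ?_⟩
    have h2 : cN F hE h * D.η = D.η * cN F hE ⟨g, hg⟩ := by rw [hh, inv_mul_cancel_right]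
    have h3 := congrArg (fun γ : ↥(F.autGroup E) => afun (γ : MulAut E) x) h2
    simp only [Subgroup.coe_mul] at h3
    rw [afun_mul _ _ hx, afun_mul _ _ hx, afun_cN _ _ hx, afun_cN _ _ (afun_mem _ hx)] at h3
    exact h3.symm
  obtain ⟨f, hf, hfe⟩ := (receptive_iff.1 (receptive_of_fullyCentralized hS hF
    (FusCentric.fullyCentralized_of_centric hc))).2 E (afun (D.η : MulAut E)) (normalizerIn S E)
    ((mem_autGroup hE).mp D.η.2) (im_afun _) inf_le_left inf_le_right hηn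
  rw [sup_eq_right.mpr hEN] at hf
  have hfN : ∀ g ∈ normalizerIn S E, f g ∈ normalizerIn S E := fun g hg =>
    ⟨hf.apply_mem hg, mem_normalizer_of_cj_le hE fun y hy => by
      have hy1 := afun_mem (D.η : MulAut E)⁻¹ hy
      have h1 := hf.map_cj hg (hEN hy1)
      rw [hfe _ hy1, afun_apply_inv _ hy] at h1
      rw [← h1, hfe _ (cj_mem_of_normalizer hg.2 hy1)]
      exact afun_mem _ (cj_mem_of_normalizer hg.2 hy1)⟩
  obtain ⟨θ₁, hθ₁, hθ₁e⟩ := hf.exists_aut (hf.im_self hfN)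
  obtain ⟨k, hk⟩ := exists_coprime_pow (p := p) θ₁
  obtain ⟨θ, hθdef⟩ : ∃ θ, θ = θ₁ ^ p ^ k := ⟨_, rfl⟩
  rw [← hθdef] at hk
  set η := D.η ^ p ^ k with hηdef
  have hθη : ∀ x ∈ E, afun θ x = afun (η : MulAut E) x := by
    intro x hx
    rw [hθdef, hηdef, Subgroup.coe_pow]
    exact FusionNilReduction.afun_pow_of_eqOn hEN
      (fun y hy => (hθ₁e y (hEN hy)).trans (hfe y hy)) _ x hx
  have hηit : ∀ n : ℕ, ρ (D.η ^ n) D.v = D.v ^ (D.c ^ n) ∧ ρ (D.η ^ n) D.w = D.w ^ (D.μ ^ n) := by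
    intro n
    induction n with
    | zero => simp
    | succ n ih =>
      rw [pow_succ', map_mul, MulAut.mul_apply, MulAut.mul_apply, ih.1, ih.2, map_zpow (ρ D.η),
        map_zpow (ρ D.η), D.ηv, D.ηw, ← zpow_mul, ← zpow_mul, ← pow_succ', ← pow_succ']
      exact ⟨rfl, rfl⟩
  have hfp : ∀ z : ℤ, ((z ^ p ^ k : ℤ) : ZMod p) = (z : ZMod p) := fun z => by
    push_cast
    exact ZMod.pow_card_pow _
  have hηv : ρ η D.v = D.v ^ D.c := by rw [(hηit _).1, pow_card_fix hexp (hfp _)]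
  have hηw : ρ η D.w = D.w ^ D.μ := by rw [(hηit _).2, pow_card_fix hexp (hfp _)]
  have hconj : ∀ g (i : ℤ), ρ (cN F hE g) = ρ D.a ^ i →
      ρ (cN F hE (θ g)) = ρ D.a ^ (i * D.c * D.c) := by
    intro g i hi
    have h1 : cN F hE (θ g) * η = η * cN F hE g := by
      refine Subtype.ext (MulEquiv.ext fun x => Subtype.ext ?_)
      rw [← afun_coe, ← afun_coe, Subgroup.coe_mul, Subgroup.coe_mul, afun_mul _ _ x.2,
        afun_mul _ _ x.2, afun_cN _ _ (afun_mem _ x.2), afun_cN _ _ x.2,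
        ← hθη x x.2, ← hθη _ (cj_mem_of_normalizer g.2.2 x.2), ← afun_coe θ g]
      exact (((mem_autGroup inf_le_left).mp (hθdef ▸ pow_mem hθ₁ _)).map_cj g.2 (hEN x.2)).symm
    have h2 := congrArg ρ h1
    rw [map_mul, map_mul, hi] at h2
    have h3 : ρ D.a ^ (i * D.c * D.c) * ρ η = ρ η * ρ D.a ^ i := by
      refine hext _ _ ?_ ?_
      · rw [MulAut.mul_apply, MulAut.mul_apply, (haw i).1, hηv, map_zpow, (haw _).1]
      · rw [MulAut.mul_apply, MulAut.mul_apply, (haw i).2, map_mul (ρ η), map_zpow (ρ η), hηv, hηw,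
          map_zpow (ρ D.a ^ (i * D.c * D.c)), (haw _).2, Commute.mul_zpow (hcomm _ _), ← zpow_mul,
          ← zpow_mul]
        congr 1
        refine pow_card_fix hexp ?_
        have := D.cμ
        push_cast at this ⊢
        linear_combination (i : ZMod p) * (D.c : ZMod p) * this
    exact mul_right_cancel (h2.trans h3.symm)
  -- a fixed point outside
  have hiter : ∀ n : ℕ, ρ (cN F hE ((θ ^ n) g₀)) = ρ D.a ^ (i₀ * D.c ^ (2 * n)) := by
    intro n
    induction n with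
    | zero => simpa using hi₀
    | succ n ih =>
      rw [pow_succ', MulAut.mul_apply, hconj _ _ ih]
      refine hpow _ _ ?_
      push_cast
      ring
  have hhalf := half_eq_neg_one hp2 D.ord
  set m := (p - 1) / 2
  have hm : ∀ j : ℕ, ρ (cN F hE ((θ ^ (m * j)) g₀)) = ρ (cN F hE g₀) := by
    intro j
    rw [hiter, hi₀]
    refine hpow _ _ ?_
    push_cast
    rw [show 2 * (m * j) = m * (2 * j) by ring, pow_mul, hhalf, pow_mul, neg_one_sq, one_pow,
      mul_one]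
  have hinv : ∀ j : ℕ, ∀ x : ↥(normalizerIn S E), (x : Ω) ∈ E → (((θ ^ j) x :) : Ω) ∈ E := by
    intro j
    induction j with
    | zero => intro x hx; simpa using hx
    | succ j ih =>
      intro x hx
      rw [pow_succ', MulAut.mul_apply, ← afun_coe θ, hθη _ (ih x hx)]
      exact afun_mem _ (ih x hx)
  obtain ⟨g, hgfix, hgE⟩ := CoprimeActionAut.exists_fixed_mem_coset
    (φ := (Subgroup.zpowers (θ ^ m)).subtype) (by
      obtain ⟨n, hn⟩ := IsPGroup.iff_card.mp hN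
      rw [hn, Nat.card_zpowers]
      exact Nat.Coprime.pow_right _
        (Nat.Coprime.coprime_dvd_left (orderOf_pow_dvd m) hk))
    (Or.inl inferInstance) (E.subgroupOf (normalizerIn S E))
    (fun a s hs => by
      obtain ⟨j, hj⟩ := mem_powers_iff_mem_zpowers.mpr a.2
      rw [Subgroup.coe_subtype, ← hj]
      simp only [← pow_mul]
      exact hinv _ s hs)
    g₀ (fun a => by
      obtain ⟨j, hj⟩ := mem_powers_iff_mem_zpowers.mpr a.2
      rw [Subgroup.coe_subtype, ← hj]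
      simp only [← pow_mul]
      rw [Subgroup.mem_subgroupOf]
      refine hmemE _ ?_
      rw [map_mul, map_mul, map_inv, map_inv, hm, inv_mul_cancel])
  refine ⟨⟨_, D, θ, hθdef ▸ pow_mem hθ₁ _, hk, η, hθη, hηv, hηw, hinn, himg, hconj, hmemE, hpa, hhalf,
    g, fun h => ?_, hgfix ⟨_, Subgroup.mem_zpowers _⟩⟩⟩
  apply hg₀
  have h1 : (g₀ : Ω) ∈ E := by
    have h2 := E.mul_mem h (E.inv_mem (Subgroup.mem_subgroupOf.mp hgE))
    simpa using h2
  exact hinn _ (by
    rw [← autInducedBy_self, mem_autInducedBy]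
    exact ⟨g₀, h1, g₀.2.2, fun x hx => afun_nHom _ hx⟩)

end Cfsg.Agent.TorusAutomiser89
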