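import Cfsg.Agent.Lib.OmegaCoprime
import Cfsg.Agent.Lib.RankTwoOdd
import Cfsg.Agent.Lib.OrderFourGroups88
import Cfsg.Agent.Lib.CoprimeActionAut
import Cfsg.Agent.Lib.FusCentric
import Cfsg.Agent.Lib.FusionNilReduction
import Cfsg.Agent.Lib.TorusAutomiser89

/-!
Automorphisms fixing the elements of order `p`, kernels inside radical automisers, coprime
extensions of automorphisms of centric subgroups, and the groups of order `p ^ 3` and exponent `p`.
-/

set_option autoImplicit false

universe u

namespace Cfsg.Agent.OmegaAutomiser89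

open Cfsg
open scoped commutatorElement

variable {p : ℕ} [hp : Fact p.Prime]

section Groups

variable {G : Type u} [Group G] [Finite G]

/-- A coprime automorphism of a `p`-group fixing the elements of order `p` is trivial. -/
theorem eq_one_of_fix_omega (hp2 : p ≠ 2) (hG : IsPGroup p G) {α : MulAut G}
    (hα : (orderOf α).Coprime p) (h : ∀ x : G, x ^ p = 1 → α x = x) : α = 1 := by
  let φ : ↥(Subgroup.zpowers α) →* MulAut G := (Subgroup.zpowers α).subtype
  haveI := CoprimeActionAut.finite_semidirect φ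
  let a : G ⋊[φ] ↥(Subgroup.zpowers α) := SemidirectProduct.inr ⟨α, Subgroup.mem_zpowers α⟩
  have hconj : ∀ k : G, a * SemidirectProduct.inl k * a⁻¹ = SemidirectProduct.inl (α k) :=
    fun k => by
      show a * SemidirectProduct.inl k * a⁻¹ = _
      rw [← map_inv]; exact (SemidirectProduct.inl_aut _ k).symm
  have ha : (orderOf a).Coprime p := by
    refine Nat.Coprime.coprime_dvd_left ?_ hα
    refine (orderOf_map_dvd _ _).trans ?_
    rw [← orderOf_injective _ (Subgroup.zpowers α).subtype_injective]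
    exact dvd_rfl
  have hall := OmegaCoprime.commute_of_forall_pow_eq_one hp2 ha
    (SemidirectProduct.inl : G →* G ⋊[φ] ↥(Subgroup.zpowers α)).range
    (hG.of_surjective _ (MonoidHom.rangeRestrict_surjective _))
    (by rintro _ ⟨k, rfl⟩; exact ⟨α k, (hconj k).symm⟩)
    (by
      rintro _ ⟨k, rfl⟩ hk
      rw [← map_pow, ← map_one SemidirectProduct.inl] at hk
      have h1 := hconj k
      rw [h k (SemidirectProduct.inl_injective hk), mul_inv_eq_iff_eq_mul] at h1
      exact h1)
  refine MulEquiv.ext fun k => SemidirectProduct.inl_injective (φ := φ) ?_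
  rw [← hconj k, (hall _ ⟨k, rfl⟩).eq, mul_inv_cancel_right, MulAut.one_apply]

/-- A subgroup whose elements of order prime to `p` are trivial is a `p`-group. -/
theorem isPGroup_of_coprime (K : Subgroup G) (h : ∀ x ∈ K, (orderOf x).Coprime p → x = 1) :
    IsPGroup p K := by
  intro x
  obtain ⟨k, hk⟩ := TorusAutomiser89.exists_coprime_pow (p := p) (x : G)
  exact ⟨k, Subtype.ext (by
    rw [Subgroup.coe_pow, Subgroup.coe_one]
    exact h _ (K.pow_mem x.2 _) hk)⟩

/-- Facts about a non-abelian group of order `p ^ 3` and exponent `p`. -/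
theorem center_facts (hc : Nat.card G = p ^ 3) (hexp : ∀ x : G, x ^ p = 1)
    (hnc : ¬ ∀ x y : G, x * y = y * x) :
    Nat.card (Subgroup.center G) = p ∧ Nat.card (G ⧸ Subgroup.center G) = p ^ 2 ∧
      (∀ x y : G ⧸ Subgroup.center G, x * y = y * x) ∧
      (∀ x : G ⧸ Subgroup.center G, x ^ p = 1) := by
  have hnc' : ¬ IsMulCommutative G := fun h => hnc fun x y => h.is_comm.comm x y
  obtain ⟨⟨-, -, hcom⟩, hZ⟩ := OrderFourGroups88.extraspecial_of_exponent hc hnc' hexp
  refine ⟨hZ, ?_, fun x y => ?_, fun x => ?_⟩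
  · have h := (Subgroup.center G).card_eq_card_quotient_mul_card_subgroup
    rw [hc, hZ, pow_succ] at h
    exact (Nat.eq_of_mul_eq_mul_right hp.out.pos h).symm
  · induction x using QuotientGroup.induction_on with
    | H a =>
      induction y using QuotientGroup.induction_on with
      | H b =>
        rw [← QuotientGroup.mk_mul, ← QuotientGroup.mk_mul, QuotientGroup.eq, ← hcom]
        have : (a * b)⁻¹ * (b * a) = ⁅b⁻¹, a⁻¹⁆ := by simp [commutatorElement_def, mul_assoc]
        rw [this]
        exact Subgroup.commutator_mem_commutator (Subgroup.mem_top _) (Subgroup.mem_top _)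
  · induction x using QuotientGroup.induction_on with
    | H a => rw [← QuotientGroup.mk_pow, hexp, QuotientGroup.mk_one]

/-- An automorphism of such a group which is trivial on the central quotient is inner. -/
theorem mem_inn_of_trivial (hc : Nat.card G = p ^ 3) (hexp : ∀ x : G, x ^ p = 1)
    (hnc : ¬ ∀ x y : G, x * y = y * x) {α : MulAut G}
    (h : ∀ x : G, x⁻¹ * α x ∈ Subgroup.center G) : α ∈ Inn G := by
  classical
  obtain ⟨hZ, hQ, -, -⟩ := center_facts hc hexp hnc
  set Z := Subgroup.center G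
  obtain ⟨a, ha⟩ : ∃ a : G, a ∉ Z := by
    by_contra h'
    push Not at h'
    exact hnc fun x y => (Subgroup.mem_center_iff.mp (h' x) y).symm
  obtain ⟨b, hb⟩ : ∃ b : G, b * a ≠ a * b := by
    by_contra h'
    push Not at h'
    exact ha (Subgroup.mem_center_iff.mpr h')
  have hgen : Subgroup.closure ({a, b} : Set G) = ⊤ := by
    by_contra hne
    obtain ⟨n, hn⟩ := IsPGroup.iff_card.mp
      ((IsPGroup.of_card hc).to_subgroup (Subgroup.closure ({a, b} : Set G)))
    have hn2 : n ≤ 2 := by
      by_contra h3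
      exact hne (Subgroup.eq_top_of_le_card _
        (by rw [hn, hc]; exact Nat.pow_le_pow_right hp.out.pos (by omega)))
    have := PGroupsBasic.isMulCommutative_of_card_le_sq
      ((IsPGroup.of_card hc).to_subgroup _) (hn ▸ Nat.pow_le_pow_right hp.out.pos hn2)
    exact hb (congrArg Subtype.val (this.is_comm.comm
      (⟨b, Subgroup.subset_closure (by simp)⟩ : ↥(Subgroup.closure ({a, b} : Set G)))
      ⟨a, Subgroup.subset_closure (by simp)⟩))
  let K := {β : MulAut G // ∀ x : G, x⁻¹ * β x ∈ Z}
  let f : K → Z × Z := fun β => (⟨a⁻¹ * β.1 a, β.2 a⟩, ⟨b⁻¹ * β.1 b, β.2 b⟩)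
  have hf : Function.Injective f := by
    intro β γ e
    have e1 := mul_left_cancel (congrArg (fun z : Z × Z => (z.1 : G)) e)
    have e2 := mul_left_cancel (congrArg (fun z : Z × Z => (z.2 : G)) e)
    refine Subtype.ext (MulEquiv.toMonoidHom_injective
      (MonoidHom.eq_of_eqOn_dense hgen fun x hx => ?_))
    rcases Set.mem_insert_iff.mp hx with rfl | hx
    · exact e1
    · rw [Set.mem_singleton_iff] at hx; subst hx; exact e2
  have hinn : ∀ g : G, ∀ x : G, x⁻¹ * MulAut.conj g x ∈ Z := by
    intro g x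
    obtain ⟨-, -, hcm, -⟩ := center_facts hc hexp hnc
    rw [← QuotientGroup.eq, MulAut.conj_apply, QuotientGroup.mk_mul, QuotientGroup.mk_mul,
      QuotientGroup.mk_inv, hcm (g : G ⧸ Z) x, mul_inv_cancel_right]
  let j : G ⧸ Z → K := Quotient.lift (fun g => (⟨MulAut.conj g, hinn g⟩ : K)) (by
    intro g h' e
    refine Subtype.ext (MulEquiv.ext fun x => ?_)
    change QuotientGroup.leftRel Z g h' at e
    rw [QuotientGroup.leftRel_apply] at e
    have := Subgroup.mem_center_iff.mp e x
    simp only [MulAut.conj_apply]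
    calc g * x * g⁻¹ = g * (x * (g⁻¹ * h')) * h'⁻¹ := by group
      _ = g * ((g⁻¹ * h') * x) * h'⁻¹ := by rw [this]
      _ = h' * x * h'⁻¹ := by group)
  have hj : Function.Injective j := by
    intro x y e
    induction x using QuotientGroup.induction_on with
    | H g =>
      induction y using QuotientGroup.induction_on with
      | H h' =>
        refine QuotientGroup.eq.mpr (Subgroup.mem_center_iff.mpr fun x => ?_)
        have e' : g * x * g⁻¹ = h' * x * h'⁻¹ :=
          DFunLike.congr_fun (congrArg Subtype.val e : MulAut.conj g = MulAut.conj h') x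
        calc x * (g⁻¹ * h') = g⁻¹ * (g * x * g⁻¹) * h' := by group
          _ = g⁻¹ * (h' * x * h'⁻¹) * h' := by rw [e']
          _ = g⁻¹ * h' * x := by group
  haveI : Finite K := Finite.of_injective f hf
  have hcard : Nat.card K ≤ Nat.card (G ⧸ Z) := by
    refine (Nat.card_le_card_of_injective f hf).trans ?_
    rw [Nat.card_prod, hZ, hQ, sq]
  have hbij := hj.bijective_of_nat_card_le hcard
  obtain ⟨q, hq⟩ := hbij.2 ⟨α, h⟩
  induction q using QuotientGroup.induction_on with
  | H g => exact ⟨g, congrArg Subtype.val hq⟩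

/-- A group of exponent `p` without elementary abelian subgroup of order `p ^ 3` has order at most
`p ^ 3`. -/
theorem card_le_of_exponent (hp2 : p ≠ 2) (hG : IsPGroup p G) (hexp : ∀ x : G, x ^ p = 1)
    (hrk : ∀ E : Subgroup G, Cfsg.IsElementaryAbelian p E → Nat.card E ≤ p ^ 2) :
    Nat.card G ≤ p ^ 3 := by
  obtain ⟨A, hAn, hA, hmax⟩ := RankTwoOdd.exists_maximal_normal (G := G) p
  have hA2 := hrk A hA
  have hidx := RankTwoOdd.index_centralizer_le hG A hA hA2
  have hC : Subgroup.centralizer (A : Set G) ≤ A := fun x hx =>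
    RankTwoOdd.mem_of_mem_centralizer hp2 hG hA hmax hx (hexp x)
  rw [← (Subgroup.centralizer (A : Set G)).card_mul_index, show p ^ 3 = p ^ 2 * p from pow_succ p 2]
  exact Nat.mul_le_mul ((Subgroup.card_le_of_le hC).trans hA2) hidx

end Groups

section Fusion

open Cfsg.FusionSystem Cfsg.Agent.FusionSysBasic Cfsg.Agent.FusionSysSaturated
  Cfsg.Agent.FusionSysAlperin

variable {Ω : Type u} [Group Ω] {S : Subgroup Ω} [Finite S] {F : FusionSystem S}

/-- In a radical subgroup a normal subgroup without elements of order prime to `p` consists of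
inner automorphisms. -/
theorem mem_inn_of_radical {E : Subgroup Ω} (hr : F.IsRadical p E) (hE : E ≤ S)
    {H : Type*} [Group H] (ρ : ↥(F.autGroup E) →* H)
    (hco : ∀ α : ↥(F.autGroup E), ρ α = 1 → (orderOf α).Coprime p → α = 1)
    (α : ↥(F.autGroup E)) (hα : ρ α = 1) : (α : MulAut E) ∈ Inn E := by
  haveI := finite_of_le hE
  haveI := finite_autGroup (F := F) E
  have hK : ρ.ker ≤ pCore p ↥(F.autGroup E) :=
    le_sSup ⟨inferInstance, isPGroup_of_coprime ρ.ker fun x hx => hco x hx⟩
  rw [← hr.2]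
  exact Subgroup.mem_map_of_mem _ (hK hα)

/-- A coprime automorphism normalizing the automorphisms induced by `S` extends to the normalizer,
with coprime order. -/
theorem exists_extend (hS : IsPGroup p S) (hF : F.IsSaturated p) {P : Subgroup Ω}
    (hc : F.IsCentric P) {α : MulAut P} (hα : α ∈ F.autGroup P) (hcop : (orderOf α).Coprime p)
    (hnorm : ∀ β ∈ autInducedBy S P, α * β * α⁻¹ ∈ autInducedBy S P) :
    ∃ θ : MulAut ↥(normalizerIn S P), θ ∈ F.autGroup (normalizerIn S P) ∧
      (orderOf θ).Coprime p ∧ ∀ x ∈ P, afun θ x = afun α x := by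
  have hP := hc.1
  haveI := finite_of_le hP
  haveI := finite_normalizerIn (S := S) P
  have hPN : P ≤ normalizerIn S P := le_normalizerIn hP
  have hn : ∀ g ∈ normalizerIn S P, ∃ h ∈ S, ∀ x ∈ P,
      afun α (cj g x) = cj h (afun α x) := by
    intro g hg
    obtain ⟨h, hh, -, he⟩ := mem_autInducedBy.mp
      (hnorm (nHom S P ⟨g, hg⟩) (autInducedBy_eq_range S P ▸ ⟨_, rfl⟩))
    refine ⟨h, hh, fun x hx => ?_⟩
    rw [← he _ (afun_mem _ hx), afun_mul _ _ (afun_mem _ hx), afun_inv_apply _ hx,
      afun_mul _ _ hx, afun_nHom _ hx]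
  obtain ⟨f, hf, hfe⟩ := (receptive_iff.1 (receptive_of_fullyCentralized hS hF
    (FusCentric.fullyCentralized_of_centric hc))).2 P (afun α) (normalizerIn S P)
    ((mem_autGroup hP).mp hα) (im_afun _) inf_le_left inf_le_right hn
  rw [sup_eq_right.mpr hPN] at hf
  have hfN : ∀ g ∈ normalizerIn S P, f g ∈ normalizerIn S P := fun g hg =>
    ⟨hf.apply_mem hg, mem_normalizer_of_cj_le hP fun y hy => by
      have hy1 := afun_mem α⁻¹ hy
      have h1 := hf.map_cj hg (hPN hy1)
      rw [hfe _ hy1, afun_apply_inv _ hy] at h1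
      rw [← h1, hfe _ (cj_mem_of_normalizer hg.2 hy1)]
      exact afun_mem _ (cj_mem_of_normalizer hg.2 hy1)⟩
  obtain ⟨θ₁, hθ₁, hθ₁e⟩ := hf.exists_aut (hf.im_self hfN)
  obtain ⟨k, hk⟩ := TorusAutomiser89.exists_coprime_pow (p := p) θ₁
  obtain ⟨e, he⟩ := exists_pow_eq_self_of_coprime (hcop.pow_right k).symm
  refine ⟨(θ₁ ^ p ^ k) ^ e, pow_mem (pow_mem hθ₁ _) _,
    Nat.Coprime.coprime_dvd_left (orderOf_pow_dvd e) hk, fun x hx => ?_⟩
  have h1 := FusionNilReduction.afun_pow_of_eqOn hPN
    (fun y hy => (hθ₁e y (hPN hy)).trans (hfe y hy)) (p ^ k * e) x hx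
  rwa [pow_mul, pow_mul, he] at h1

end Fusion

end Cfsg.Agent.OmegaAutomiser89
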