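import Mathlib
import Cfsg.Agent.Lib.OmegaDecompThree

/-!
The small exceptions among decompositions into orthogonal plus-type subspaces: planes over fields with two, four
and five elements and four-dimensional subspaces over the field with two elements.
-/

set_option autoImplicit false

namespace Cfsg.Agent.OmegaDecompSmall

open QuadraticMap Module
open Cfsg.Agent.OrthUnitaryQuad Cfsg.Agent.OrthUnitaryRefl Cfsg.Agent.OrthUnitaryPrelude Cfsg.Agent.OmegaClasses
  Cfsg.Agent.OmegaGeo
open scoped Matrix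

variable {F : Type*} [Field F] [Fintype F] {ι : Type} [Fintype ι] [DecidableEq ι]
  {q : QuadraticForm F (ι → F)}

theorem stab_mem {k : orth q} {S : Set (ι → F)} :
    toGL q k ∈ Cfsg.stabilizing (Cfsg.glToMat ι F) S ↔ ∀ v, v ∈ S ↔ k.1 v ∈ S := by
  refine forall_congr' fun v => ?_
  show (v ∈ S ↔ (toGL q k : Matrix ι ι F) *ᵥ v ∈ S) ↔ _
  rw [toGL_mulVec]

variable {t m : ℕ} {D : Fin t → Submodule F (ι → F)}

/-- The set stabiliser lies strictly between. -/
theorem exists_between (S : Set (ι → F))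
    (hH : ∀ k : orth q, (∀ i, ∃ j, ∀ v ∈ D i, k.1 v ∈ D j) → ∀ v ∈ S, k.1 v ∈ S)
    (g : orth q) (hg : g ∈ commutator (orth q)) (hgS : ∀ v, v ∈ S ↔ g.1 v ∈ S)
    {i : Fin t} (hgD : ∀ j, ∃ v ∈ D i, g.1 v ∉ D j)
    (g' : orth q) (hg' : g' ∈ commutator (orth q)) {s : ι → F} (hs : s ∈ S) (hs' : g'.1 s ∉ S) :
    ∃ K : Subgroup (GL ι F), Cfsg.Geo.decompositionStabilizer D ⊓ Cfsg.Geo.omegaGL ⇑q < K ∧
      K < Cfsg.Geo.omegaGL ⇑q := by
  classical
  set K := Cfsg.stabilizing (Cfsg.glToMat ι F) S ⊓ Cfsg.Geo.omegaGL ⇑q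
  have hperm : ∀ {k : orth q}, toGL q k ∈ Cfsg.Geo.decompositionStabilizer D →
      ∀ i, ∃ j, ∀ v ∈ D i, k.1 v ∈ D j := fun {k} hk i => by
    obtain ⟨σ, hσ⟩ := hk
    exact ⟨σ i, fun v hv => hσ i ▸ ⟨v, hv, by rw [Matrix.toLin'_apply, toGL_mulVec]⟩⟩
  refine ⟨K, lt_of_le_not_ge ?_ fun h => ?_, lt_of_le_of_ne inf_le_right fun h => ?_⟩
  · rintro x ⟨hxD, hxΩ⟩
    refine ⟨?_, hxΩ⟩
    obtain ⟨k, -, rfl⟩ := exists_of_mem_omegaGL hxΩ
    have hinv : toGL q k⁻¹ ∈ Cfsg.Geo.decompositionStabilizer D := by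
      have h1 : toGL q k⁻¹ = (toGL q k)⁻¹ := by
        refine eq_inv_of_mul_eq_one_left (Units.ext (Matrix.ext_iff_mulVec.mpr fun v => ?_))
        rw [Units.val_mul, ← Matrix.mulVec_mulVec, toGL_mulVec, toGL_mulVec, Units.val_one, Matrix.one_mulVec,
          ← orth_mul_apply, inv_mul_cancel]
        rfl
      rw [h1]
      exact Subgroup.inv_mem _ hxD
    refine stab_mem.2 fun v => ⟨hH k (hperm hxD) v, fun hv => ?_⟩
    have := hH k⁻¹ (hperm hinv) _ hv
    rwa [← orth_mul_apply, inv_mul_cancel] at this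
  · obtain ⟨j, hj⟩ := hperm (h ⟨stab_mem.2 hgS, toGL_mem hg⟩).1 i
    obtain ⟨v, hv, hv'⟩ := hgD j
    exact hv' (hj v hv)
  · exact hs' ((stab_mem.1 (h.symm.le (toGL_mem hg')).1 s).1 hs)

theorem orthD (hD : Cfsg.Geo.IsOrthogonalMDecomposition ⇑q m D) {i j : Fin t} (hij : i ≠ j) {v w : ι → F}
    (hv : v ∈ D i) (hw : w ∈ D j) : polar q v w = 0 :=
  hD.decomp.orthogonal i j hij v hv w hw

theorem nondegD (hD : Cfsg.Geo.IsOrthogonalMDecomposition ⇑q m D) (i : Fin t) :
    QuadClassify.Nondeg q (D i) := fun u hu h => by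
  by_contra h0
  obtain ⟨x, hx, hx0⟩ := (hD.decomp.nondegenerate i u hu h0).2
  exact hx0 (h x hx)

/-- A hyperbolic basis of a plus-type plane. -/
theorem plane_basis {U : Submodule F (ι → F)} (hU : QuadClassify.Nondeg q U) (hd : finrank F U = 2)
    (hplus : Cfsg.Geo.IsPlusTypeOn ⇑q U) :
    ∃ e f, e ∈ U ∧ f ∈ U ∧ q e = 0 ∧ q f = 0 ∧ polar q e f = 1 ∧ (∀ a b : F, q (a • e + b • f) = a * b) ∧
      ∀ v ∈ U, ∃ a b : F, v = a • e + b • f := by
  obtain ⟨W, hWU, hW, hWd⟩ := hplus
  obtain ⟨e, heW, he0⟩ := Submodule.exists_mem_ne_zero_of_ne_bot (p := W)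
    (fun h => by rw [h, finrank_bot] at hWd; omega)
  have he := hWU heW
  have hQe : q e = 0 := hW e heW
  obtain ⟨f, hf, hQf, hef⟩ := QuadClassify.exists_partner q hU he he0 hQe
  refine ⟨e, f, he, hf, hQe, hQf, hef, fun a b => ?_, fun v hv => ?_⟩
  · rw [QuadraticMap.map_add (⇑q), QuadraticMap.map_smul, QuadraticMap.map_smul, polar_smul_left,
      polar_smul_right, hQe, hQf, hef]
    simp
  have hle : Submodule.span F {e, f} ≤ U := Submodule.span_le.2 (by simp [Set.insert_subset_iff, he, hf])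
  have hne : f ∉ Submodule.span F {e} := fun h => by
    obtain ⟨c, rfl⟩ := Submodule.mem_span_singleton.1 h
    rw [polar_smul_right, polar_self, hQe] at hef
    simp at hef
  have hlt : Submodule.span F {e} < Submodule.span F {e, f} :=
    lt_of_le_of_ne (Submodule.span_mono (by simp)) fun h => hne (h ▸ Submodule.subset_span (by simp))
  have := Submodule.finrank_lt_finrank_of_lt hlt
  rw [finrank_span_singleton he0] at this
  rw [← Submodule.eq_of_le_of_finrank_le hle (by omega)] at hv
  obtain ⟨a, b, rfl⟩ := Submodule.mem_span_pair.1 hv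
  exact ⟨a, b, rfl⟩

theorem eq_of_mem (hD : Cfsg.Geo.IsOrthogonalMDecomposition ⇑q m D) {i j : Fin t} {v w : ι → F}
    (hv : v ∈ D i) (hw : w ∈ D j) (h : polar q v w ≠ 0) : i = j :=
  by_contra fun hij => h (orthD hD hij hv hw)

/-- Planes of plus type over the field with five elements. -/
theorem five (hnd : (polarBilin q).Nondegenerate) (hF : Fintype.card F = 5) (hbig : 12 < Fintype.card ι)
    (hD : Cfsg.Geo.IsOrthogonalMDecomposition ⇑q 2 D) (hplus : ∀ i, Cfsg.Geo.IsPlusTypeOn ⇑q (D i)) :
    ∃ K : Subgroup (GL ι F), Cfsg.Geo.decompositionStabilizer D ⊓ Cfsg.Geo.omegaGL ⇑q < K ∧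
      K < Cfsg.Geo.omegaGL ⇑q := by
  have h5 : (5 : F) = 0 := by
    have := Nat.cast_card_eq_zero F
    rw [hF] at this
    exact_mod_cast this
  have h2 : (2 : F) ≠ 0 := fun h => one_ne_zero (show (1 : F) = 0 by linear_combination h5 - 2 * h)
  have hsq : ∀ a : F, a ≠ 0 → a * a = 1 ∨ a * a = -1 := fun a ha => by
    have h := FiniteField.pow_card_sub_one_eq_one a ha
    rw [hF] at h
    exact mul_self_eq_one_iff.1 (show a * a * (a * a) = 1 by linear_combination h)
  refine OmegaDecompThree.not_maximal_of_frame hnd h2 (t := t) ?_ le_rfl (by simp; omega) D hD (ε := 1)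
    one_ne_zero (fun i => ?_) (fun i => ?_) (β := 2) (γ := 0) h2 (by linear_combination h5)
  · have := OmegaDecompThree.le_count hD.decomp.decomp
    omega
  · obtain ⟨e, f, he, hf, hQe, hQf, hef, hval, hco⟩ :=
      plane_basis (nondegD hD i) (hD.decomp.decomp.finrank_eq i) (hplus i)
    refine ⟨⟨(1 : F) • e + (1 : F) • f, (D i).add_mem ((D i).smul_mem _ he) ((D i).smul_mem _ hf),
      by rw [hval, mul_one]⟩, fun v hv w hw hQv hQw => ?_⟩
    obtain ⟨a, b, rfl⟩ := hco v hv
    obtain ⟨c, d, rfl⟩ := hco w hw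
    rw [hval] at hQv hQw
    have ha : a ≠ 0 := left_ne_zero_of_mul_eq_one hQv
    have hc : c ≠ 0 := left_ne_zero_of_mul_eq_one hQw
    have hb : b = a⁻¹ := eq_inv_of_mul_eq_one_right hQv
    have hd : d = c⁻¹ := eq_inv_of_mul_eq_one_right hQw
    have hr : c / a * (c / a) = 1 ∨ c / a * (c / a) = -1 := hsq _ (div_ne_zero hc ha)
    rcases hr with h | h
    · rcases mul_self_eq_one_iff.1 h with h | h
      · left; rw [hd, hb, (div_eq_one_iff_eq ha).1 h]
      · right; left
        rw [div_eq_iff ha, neg_one_mul] at h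
        rw [hd, hb, h, inv_neg]
        module
    · right; right
      simp only [polar_add_left, polar_add_right, polar_smul_left, polar_smul_right, polar_self, hQe, hQf, hef,
        polar_comm q f e, nsmul_zero, smul_eq_mul, mul_zero, zero_add, add_zero, mul_one]
      rw [hd, hb]
      field_simp at h ⊢
      linear_combination h
  · obtain ⟨e, f, he, hf, -, -, -, hval, -⟩ :=
      plane_basis (nondegD hD i) (hD.decomp.decomp.finrank_eq i) (hplus i)
    exact ⟨(1 : F) • e + (2 : F) • f, (D i).add_mem ((D i).smul_mem _ he) ((D i).smul_mem _ hf),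
      by rw [hval]; ring⟩

theorem two_zero (hF : Fintype.card F = 2 ∨ Fintype.card F = 4) : (2 : F) = 0 := by
  have := Nat.cast_card_eq_zero F
  rcases hF with h | h <;> rw [h] at this
  · exact_mod_cast this
  · exact mul_self_eq_zero.1 (show (2 : F) * 2 = 0 by push_cast at this; linear_combination this)

/-- The Siegel element of two orthogonal singular vectors, as an involution. -/
theorem exists_invol (hnd : (polarBilin q).Nondegenerate) (hbig : 12 < Fintype.card ι) (h2 : (2 : F) = 0)
    {e f : ι → F} (he : q e = 0) (hf : q f = 0) (hef : polar q f e = 0) :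
    ∃ g ∈ commutator (orth q), (∀ x, g.1 x = x + polar q f x • e - polar q e x • f) ∧
      ∀ x, g.1 (g.1 x) = x := by
  obtain ⟨g, hg, hact⟩ := exists_siegel hnd (by simp; omega) he hf hef
  refine ⟨g, hg, hact, fun x => ?_⟩
  rw [hact (g.1 x), hact x]
  simp only [polar_add_right, polar_sub_right, polar_smul_right, polar_self, he, hf, hef,
    polar_comm q e f, nsmul_zero, smul_eq_mul, mul_zero, add_zero, sub_zero]
  match_scalars
  · ring
  · linear_combination polar q f x * h2
  · linear_combination (-polar q e x) * h2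

/-- Planes of plus type over the field with two elements. -/
theorem planes_two (hnd : (polarBilin q).Nondegenerate) (hF : Fintype.card F = 2) (hbig : 12 < Fintype.card ι)
    (hD : Cfsg.Geo.IsOrthogonalMDecomposition ⇑q 2 D) (hplus : ∀ i, Cfsg.Geo.IsPlusTypeOn ⇑q (D i)) :
    ∃ K : Subgroup (GL ι F), Cfsg.Geo.decompositionStabilizer D ⊓ Cfsg.Geo.omegaGL ⇑q < K ∧
      K < Cfsg.Geo.omegaGL ⇑q := by
  classical
  have h2 := two_zero (Or.inl hF)
  have hone : ∀ a : F, a ≠ 0 → a = 1 := fun a ha => by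
    have h := FiniteField.pow_card_sub_one_eq_one a ha
    rw [hF] at h
    simpa using h
  choose e f he hf hQe hQf hef hval hco using fun i =>
    plane_basis (nondegD hD i) (hD.decomp.decomp.finrank_eq i) (hplus i)
  have hdec := hD.decomp.decomp
  have ht : 7 ≤ t := by have := OmegaDecompThree.le_count hdec; omega
  have hfe : ∀ i, polar q (f i) (e i) = 1 := fun i => by rw [polar_comm, hef]
  obtain ⟨a, ha⟩ : ∃ a : Fin t → ι → F, a = fun i => e i + f i := ⟨_, rfl⟩
  have haD : ∀ i, a i ∈ D i := fun i => by subst ha; exact (D i).add_mem (he i) (hf i)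
  have hQa : ∀ i, q (a i) = 1 := fun i => by
    rw [ha]; simpa using hval i 1 1
  have huniq : ∀ {i}, ∀ v ∈ D i, q v = 1 → v = a i := fun {i} v hv hQv => by
    obtain ⟨x, y, rfl⟩ := hco i v hv
    rw [hval] at hQv
    rw [hone x (left_ne_zero_of_mul_eq_one hQv), hone y (right_ne_zero_of_mul_eq_one hQv), one_smul, one_smul, ha]
  set v₀ : ι → F := ∑ i, a i with hv₀
  have hpa : ∀ i x, x ∈ D i → polar q v₀ x = polar q (a i) x := fun i x hx => by
    rw [hv₀, ← polarBilin_apply_apply, map_sum, LinearMap.sum_apply]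
    refine Finset.sum_eq_single i (fun j _ hj => ?_) (fun h => absurd (Finset.mem_univ i) h)
    exact orthD hD hj (haD j) hx
  have hpae : ∀ i, polar q (a i) (e i) = 1 := fun i => by
    rw [ha, polar_add_left, polar_self, hQe, hfe, nsmul_zero, zero_add]
  let i0 : Fin t := ⟨0, by omega⟩
  let i1 : Fin t := ⟨1, by omega⟩
  let i2 : Fin t := ⟨2, by omega⟩
  let i3 : Fin t := ⟨3, by omega⟩
  have h01 : i0 ≠ i1 := by simp [i0, i1]
  have h02 : i0 ≠ i2 := by simp [i0, i2]
  have h03 : i0 ≠ i3 := by simp [i0, i3]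
  have h12 : i1 ≠ i2 := by simp [i1, i2]
  have h13 : i1 ≠ i3 := by simp [i1, i3]
  have h23 : i2 ≠ i3 := by simp [i2, i3]
  have hsing : ∀ {i j}, i ≠ j → q (a i + a j) = 0 := fun {i j} hij => by
    rw [QuadraticMap.map_add (⇑q), hQa, hQa, orthD hD hij (haD i) (haD j)]
    linear_combination h2
  have haa : ∀ i, polar q (a i) (a i) = 0 := fun i => by
    rw [polar_self, hQa, nsmul_eq_mul, Nat.cast_ofNat, h2, zero_mul]
  obtain ⟨g, hgΩ, hgact, hgg⟩ := exists_invol hnd hbig h2 (hsing h01) (hsing h23) (by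
    rw [polar_add_left, polar_add_right, polar_add_right, orthD hD h02.symm (haD _) (haD _),
      orthD hD h12.symm (haD _) (haD _), orthD hD h03.symm (haD _) (haD _), orthD hD h13.symm (haD _) (haD _)]
    simp)
  obtain ⟨g', hg'Ω, hg'act, -⟩ := exists_invol hnd hbig h2 (hQe i1) (hQe i0) (orthD hD h01 (he _) (he _))
  have hsum : ∀ k : orth q, (∀ i, ∃ j, ∀ v ∈ D i, k.1 v ∈ D j) → k.1 v₀ = v₀ := by
    intro k hk
    choose σ hσ using hk
    have hka : ∀ i, k.1 (a i) = a (σ i) := fun i => huniq _ (hσ i _ (haD i)) (by rw [map_orth, hQa])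
    have hinj : Function.Injective σ := fun i j hij => by
      have hai := hka i
      rw [hij, ← hka j] at hai
      by_contra hne
      have hz := k.1.injective hai
      have := Submodule.disjoint_def.1 (hdec.indep.pairwiseDisjoint hne) (a i) (haD i) (hz ▸ haD j)
      have h1 := hQa i
      rw [this, QuadraticMap.map_zero] at h1
      exact zero_ne_one h1
    rw [hv₀, map_sum]
    simp only [hka]
    exact (Finite.injective_iff_bijective.1 hinj).sum_comp a
  refine exists_between ({v₀} : Set (ι → F)) (fun k hk v hv => by rw [hv]; exact hsum k hk) g hgΩ ?_ (i := i0) ?_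
    g' hg'Ω (s := v₀) rfl ?_
  · have hfix : g.1 v₀ = v₀ := by
      rw [hgact, polar_comm q _ v₀, polar_comm q _ v₀, polar_add_right, polar_add_right, hpa i0 _ (haD _),
        hpa i1 _ (haD _), hpa i2 _ (haD _), hpa i3 _ (haD _), haa, haa, haa, haa]
      simp
    intro v
    constructor
    · rintro rfl; exact hfix
    · intro hv
      rw [Set.mem_singleton_iff] at hv ⊢
      rw [← hgg v, hv, hfix]
  · intro j
    refine ⟨e i0, he i0, fun hj => ?_⟩
    set y := g.1 (e i0)
    have hy : y = e i0 + (0 : F) • (a i0 + a i1) - (1 : F) • (a i2 + a i3) := by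
      simp only [y, hgact, polar_add_left, orthD hD h02.symm (haD _) (he _), orthD hD h03.symm (haD _) (he _),
        orthD hD h01.symm (haD _) (he _), hpae, add_zero]
    have hy0 : polar q y (a i0) = 1 := by
      rw [hy, zero_smul, add_zero, one_smul, polar_sub_left, polar_add_left, polar_comm q (e i0), hpae,
        orthD hD h02.symm (haD _) (haD _), orthD hD h03.symm (haD _) (haD _)]
      simp
    have hy2 : polar q y (e i2) ≠ 0 := by
      rw [hy, zero_smul, add_zero, one_smul, polar_sub_left, polar_add_left, orthD hD h02 (he _) (he _), hpae,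
        orthD hD h23.symm (haD _) (he _)]
      simp
    exact h02 ((eq_of_mem hD hj (haD i0) (by rw [hy0]; exact one_ne_zero)).symm.trans (eq_of_mem hD hj (he i2) hy2))
  · intro h
    rw [Set.mem_singleton_iff, hg'act, polar_comm q _ v₀, polar_comm q _ v₀, hpa i0 _ (he _), hpa i1 _ (he _),
      hpae, hpae, one_smul, one_smul, add_sub_assoc, add_eq_left, sub_eq_zero] at h
    have := Submodule.disjoint_def.1 (hdec.indep.pairwiseDisjoint h01) (e i0) (he i0) (h ▸ he i1)
    have h1 := hef i0
    rw [this, polar_zero_left] at h1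
    exact zero_ne_one h1

/-- Planes of plus type over the field with four elements. -/
theorem planes_four (hnd : (polarBilin q).Nondegenerate) (hF : Fintype.card F = 4) (hbig : 12 < Fintype.card ι)
    (hD : Cfsg.Geo.IsOrthogonalMDecomposition ⇑q 2 D) (hplus : ∀ i, Cfsg.Geo.IsPlusTypeOn ⇑q (D i)) :
    ∃ K : Subgroup (GL ι F), Cfsg.Geo.decompositionStabilizer D ⊓ Cfsg.Geo.omegaGL ⇑q < K ∧
      K < Cfsg.Geo.omegaGL ⇑q := by
  classical
  have h2 := two_zero (Or.inr hF)
  have hcube : ∀ a : F, a ≠ 0 → a * a * a = 1 := fun a ha => by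
    have h := FiniteField.pow_card_sub_one_eq_one a ha
    rw [hF] at h
    linear_combination h
  obtain ⟨w, hw0, hw1⟩ : ∃ w : F, w ≠ 0 ∧ w ≠ 1 := by
    by_contra! h
    have hle : Fintype.card F ≤ ({0, 1} : Finset F).card := Finset.card_le_card (s := Finset.univ)
      (fun x _ => by
        rcases eq_or_ne x 0 with rfl | hx
        · simp
        · simp [h x hx])
    have := hle.trans Finset.card_le_two
    omega
  have hww : w * w + w + 1 = 0 :=
    (mul_eq_zero.1 (show (w - 1) * (w * w + w + 1) = 0 by linear_combination hcube w hw0)).resolve_left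
      (sub_ne_zero.2 hw1)
  choose e f he hf hQe hQf hef hval hco using fun i =>
    plane_basis (nondegD hD i) (hD.decomp.decomp.finrank_eq i) (hplus i)
  have hfe : ∀ i, polar q (f i) (e i) = 1 := fun i => by rw [polar_comm, hef]
  have hdec := hD.decomp.decomp
  have ht : 7 ≤ t := by have := OmegaDecompThree.le_count hdec; omega
  let B : F → Prop := fun x => x = 0 ∨ x = 1
  have hBadd : ∀ {x y}, B x → B y → B (x + y) := by
    rintro x y (rfl | rfl) (rfl | rfl)
    · exact Or.inl (add_zero 0)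
    · exact Or.inr (zero_add 1)
    · exact Or.inr (add_zero 1)
    · exact Or.inl (by linear_combination h2)
  have hBneg : ∀ {x}, B x → B (-x) := by
    rintro x (rfl | rfl)
    · exact Or.inl neg_zero
    · exact Or.inr (by linear_combination -h2)
  have hBmul : ∀ {x y}, B x → B y → B (x * y) := by
    rintro x y (rfl | rfl) (rfl | rfl) <;> simp [B]
  set S : Set (ι → F) := {v | q v = 1 ∧ ∃ k, v ∈ D k} with hS
  have hSS : ∀ u ∈ S, ∀ v ∈ S, B (polar q u v) := by
    rintro u ⟨hu, k, hk⟩ v ⟨hv, l, hl⟩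
    by_cases hkl : k = l
    · subst hkl
      obtain ⟨a, b, rfl⟩ := hco k u hk
      obtain ⟨c, d, rfl⟩ := hco k v hl
      rw [hval] at hu hv
      have hp : polar q (a • e k + b • f k) (c • e k + d • f k) = a * d + b * c := by
        simp only [polar_add_left, polar_add_right, polar_smul_left, polar_smul_right, polar_self, hQe, hQf, hef,
          hfe, smul_eq_mul, nsmul_zero, mul_zero, mul_one, add_zero, zero_add]
        ring
      rw [hp]
      -- x := a d satisfies x + 1/x ∈ {0, 1}
      have hx0 : a * d ≠ 0 := mul_ne_zero (left_ne_zero_of_mul_eq_one hu) (right_ne_zero_of_mul_eq_one hv)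
      have hprod : (a * d) * (b * c) = 1 := by linear_combination (c * d) * hu + hv
      have hy : b * c = (a * d) * (a * d) := mul_left_cancel₀ hx0 (by
        rw [hprod]; linear_combination -(hcube _ hx0))
      rw [hy]
      rcases mul_eq_zero.1 (show (a * d - 1) * ((a * d) * (a * d) + a * d + 1) = 0 by
        linear_combination hcube _ hx0) with h | h
      · exact Or.inl (by linear_combination (a * d + 2) * h + h2)
      · exact Or.inr (by linear_combination h - h2)
    · exact Or.inl (orthD hD hkl hk hl)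
  set L : Set (ι → F) := {v | ∀ s ∈ S, B (polar q s v)} with hL
  obtain ⟨a, ha⟩ : ∃ a : Fin t → ι → F, a = fun i => e i + f i := ⟨_, rfl⟩
  obtain ⟨x, hx⟩ : ∃ x : Fin t → ι → F, x = fun i => w • e i + (w * w) • f i := ⟨_, rfl⟩
  have haD : ∀ i, a i ∈ D i := fun i => by subst ha; exact (D i).add_mem (he i) (hf i)
  have hxD : ∀ i, x i ∈ D i := fun i => by subst hx; exact (D i).add_mem ((D i).smul_mem _ (he i)) ((D i).smul_mem _ (hf i))
  have hQa : ∀ i, q (a i) = 1 := fun i => by simpa [ha] using hval i 1 1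
  have hQx : ∀ i, q (x i) = 1 := fun i => by
    rw [hx, hval]; linear_combination hcube w hw0
  have haS : ∀ i, a i ∈ S := fun i => ⟨hQa i, i, haD i⟩
  have hxS : ∀ i, x i ∈ S := fun i => ⟨hQx i, i, hxD i⟩
  have hxa : ∀ i, polar q (a i) (x i) = 1 := fun i => by
    simp only [ha, hx, polar_add_left, polar_add_right, polar_smul_right, polar_self, hQe, hQf, hef,
      hfe, smul_eq_mul, nsmul_zero, mul_zero, mul_one, add_zero, zero_add]
    linear_combination hww - h2
  let i0 : Fin t := ⟨0, by omega⟩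
  let i1 : Fin t := ⟨1, by omega⟩
  let i2 : Fin t := ⟨2, by omega⟩
  let i3 : Fin t := ⟨3, by omega⟩
  have h01 : i0 ≠ i1 := by simp [i0, i1]
  have h02 : i0 ≠ i2 := by simp [i0, i2]
  have h03 : i0 ≠ i3 := by simp [i0, i3]
  have h12 : i1 ≠ i2 := by simp [i1, i2]
  have h13 : i1 ≠ i3 := by simp [i1, i3]
  have h23 : i2 ≠ i3 := by simp [i2, i3]
  have hsing : ∀ {i j}, i ≠ j → q (a i + a j) = 0 := fun {i j} hij => by
    rw [QuadraticMap.map_add (⇑q), hQa, hQa, orthD hD hij (haD i) (haD j)]
    linear_combination h2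
  have hperp : polar q (a i2 + a i3) (a i0 + a i1) = 0 := by
    rw [polar_add_left, polar_add_right, polar_add_right, orthD hD h02.symm (haD _) (haD _),
      orthD hD h12.symm (haD _) (haD _), orthD hD h03.symm (haD _) (haD _), orthD hD h13.symm (haD _) (haD _)]
    simp
  obtain ⟨g, hgΩ, hgact, hgg⟩ := exists_invol hnd hbig h2 (hsing h01) (hsing h23) hperp
  obtain ⟨g', hg'Ω, hg'act, -⟩ := exists_invol hnd hbig h2 (e := w • (a i0 + a i1)) (f := a i2 + a i3)
    (by rw [QuadraticMap.map_smul, hsing h01, smul_zero]) (hsing h23)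
    (by rw [polar_smul_right, hperp, smul_zero])
  refine exists_between L ?_ g hgΩ ?_ (i := i0) ?_ g' hg'Ω (s := x i2) ?_ ?_
  · intro k hk v hv s hs
    choose σ hσ using hk
    have hmaps : Set.MapsTo (fun y => k.1 y) S S := fun y hy => by
      obtain ⟨hy1, j, hj⟩ := hy
      exact ⟨by rw [map_orth, hy1], σ j, hσ j y hj⟩
    obtain ⟨s', hs', rfl⟩ := ((Set.toFinite S).surjOn_iff_bijOn_of_mapsTo hmaps).2
      ⟨hmaps, fun y _ z _ hyz => k.1.injective hyz,
        (((Set.toFinite S).injOn_iff_bijOn_of_mapsTo hmaps).1 fun y _ z _ hyz => k.1.injective hyz).surjOn⟩ hs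
    rw [show polar q (k.1 s') (k.1 v) = polar q s' v by
      simp only [polar, ← map_add, map_orth]]
    exact hv s' hs'
  · have hmem : ∀ v ∈ L, g.1 v ∈ L := fun v hv s hs => by
      rw [hgact, polar_sub_right, polar_add_right, polar_smul_right, polar_smul_right, smul_eq_mul, smul_eq_mul,
        sub_eq_add_neg]
      refine hBadd (hBadd (hv s hs) (hBmul ?_ ?_)) (hBneg (hBmul ?_ ?_))
      · rw [polar_add_left]; exact hBadd (hv _ (haS _)) (hv _ (haS _))
      · rw [polar_add_right]; exact hBadd (hSS s hs _ (haS _)) (hSS s hs _ (haS _))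
      · rw [polar_add_left]; exact hBadd (hv _ (haS _)) (hv _ (haS _))
      · rw [polar_add_right]; exact hBadd (hSS s hs _ (haS _)) (hSS s hs _ (haS _))
    exact fun v => ⟨hmem v, fun h => hgg v ▸ hmem _ h⟩
  · intro j
    refine ⟨x i0, hxD i0, fun hj => ?_⟩
    set y := g.1 (x i0)
    have hy : y = x i0 - (a i2 + a i3) := by
      simp only [y, hgact, polar_add_left, orthD hD h02.symm (haD _) (hxD _), orthD hD h03.symm (haD _) (hxD _),
        orthD hD h01.symm (haD _) (hxD _), hxa, add_zero, zero_smul, one_smul]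
    have hy0 : polar q y (a i0) ≠ 0 := by
      rw [hy, polar_sub_left, polar_add_left, polar_comm q (x i0), hxa, orthD hD h02.symm (haD _) (haD _),
        orthD hD h03.symm (haD _) (haD _)]
      simp
    have hy2 : polar q y (x i2) ≠ 0 := by
      rw [hy, polar_sub_left, polar_add_left, orthD hD h02 (hxD _) (hxD _), hxa,
        orthD hD h23.symm (haD _) (hxD _)]
      simp
    exact h02 ((eq_of_mem hD hj (haD i0) hy0).symm.trans (eq_of_mem hD hj (hxD i2) hy2))
  · exact fun s hs => hSS s hs _ (hxS i2)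
  · intro h
    have h1 := h (x i0) (hxS i0)
    simp only [hg'act, polar_sub_right, polar_add_right, polar_smul_right, polar_smul_left, polar_add_left,
      orthD hD h02 (hxD _) (hxD _), orthD hD h01 (hxD _) (haD _), orthD hD h02 (hxD _) (haD _),
      orthD hD h03 (hxD _) (haD _), orthD hD h23.symm (haD _) (hxD _), orthD hD h02 (haD _) (hxD _),
      orthD hD h12 (haD _) (hxD _), polar_comm q (x i0) (a i0), hxa, smul_eq_mul, mul_zero, mul_one, add_zero,
      zero_add, sub_zero, one_mul] at h1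
    exact h1.elim hw0 hw1

/-- Subspaces of plus type of dimension four over the field with two elements. -/
theorem fours_two (hnd : (polarBilin q).Nondegenerate) (hF : Fintype.card F = 2) (hbig : 12 < Fintype.card ι)
    (hD : Cfsg.Geo.IsOrthogonalMDecomposition ⇑q 4 D) (hplus : ∀ i, Cfsg.Geo.IsPlusTypeOn ⇑q (D i)) :
    ∃ K : Subgroup (GL ι F), Cfsg.Geo.decompositionStabilizer D ⊓ Cfsg.Geo.omegaGL ⇑q < K ∧
      K < Cfsg.Geo.omegaGL ⇑q := by
  classical
  have h2 := two_zero (Or.inl hF)
  have hone : ∀ a : F, a ≠ 0 → a = 1 := fun a ha => by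
    have h := FiniteField.pow_card_sub_one_eq_one a ha
    rw [hF] at h
    simpa using h
  have hdec := hD.decomp.decomp
  have ht : 4 ≤ t := by have := OmegaDecompThree.le_count hdec; omega
  -- a minus-type plane in each member
  have hplane : ∀ i, ∃ x y z : ι → F, x ∈ D i ∧ y ∈ D i ∧ z ∈ D i ∧ q x = 1 ∧ q y = 1 ∧ polar q x y = 1 ∧
      polar q x z = 0 ∧ polar q y z = 0 ∧ q z = 1 ∧
      ∀ v ∈ D i, q v = 1 → v = x ∨ v = y ∨ v = x + y ∨ (polar q x v = 0 ∧ polar q y v = 0) := by
    intro i
    obtain ⟨W, hWU, hW, hWd⟩ := hplus i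
    rw [hdec.finrank_eq i] at hWd
    obtain ⟨e1, he1W, he10⟩ := Submodule.exists_mem_ne_zero_of_ne_bot (p := W)
      (fun h => by rw [h, finrank_bot] at hWd; omega)
    have he1 := hWU he1W
    have hQe1 : q e1 = 0 := hW e1 he1W
    obtain ⟨f1, hf1, hQf1, h11⟩ := QuadClassify.exists_partner q (nondegD hD i) he1 he10 hQe1
    obtain ⟨hU', hd'⟩ := QuadClassify.pair_complement q (nondegD hD i) he1 hf1 hQe1 hQf1 h11
    rw [hdec.finrank_eq i] at hd'
    set U' := D i ⊓ LinearMap.ker (polarBilin q e1) ⊓ LinearMap.ker (polarBilin q f1)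
    obtain ⟨e2', he2W, he2n⟩ : ∃ u ∈ W, u ∉ Submodule.span F {e1} := by
      by_contra hc
      push Not at hc
      have := Submodule.finrank_mono (show W ≤ Submodule.span F {e1} from hc)
      rw [finrank_span_singleton he10] at this
      omega
    set e2 := e2' - polar q f1 e2' • e1 with he2
    have he2W' : e2 ∈ W := W.sub_mem he2W (W.smul_mem _ he1W)
    have he20 : e2 ≠ 0 := fun h =>
      he2n (sub_eq_zero.1 h ▸ Submodule.smul_mem _ _ (Submodule.mem_span_singleton_self e1))
    have he2U : e2 ∈ U' := by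
      refine ⟨⟨hWU he2W', ?_⟩, ?_⟩
      · show polar q e1 e2 = 0
        exact polar_of_sing hW he1W he2W'
      · show polar q f1 e2 = 0
        rw [he2, polar_sub_right, polar_smul_right, polar_comm q f1 e1, h11, smul_eq_mul, mul_one, sub_self]
    obtain ⟨f2, hf2, hQf2, h22⟩ := QuadClassify.exists_partner q hU' he2U he20 (hW _ he2W')
    have hQe2 : q e2 = 0 := hW _ he2W'
    have g12 : polar q e1 f2 = 0 := hf2.1.2
    have gf12 : polar q f1 f2 = 0 := hf2.2
    have g1e : polar q e1 e2 = 0 := he2U.1.2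
    have gf1e : polar q f1 e2 = 0 := he2U.2
    have hco : ∀ v ∈ D i, v = polar q f1 v • e1 + polar q e1 v • f1 + polar q f2 v • e2 + polar q e2 v • f2 := by
      intro v hv
      refine (sub_eq_zero.1 ?_)
      set r := v - (polar q f1 v • e1 + polar q e1 v • f1 + polar q f2 v • e2 + polar q e2 v • f2) with hr
      have hrD : r ∈ D i := (D i).sub_mem hv ((D i).add_mem ((D i).add_mem ((D i).add_mem
        ((D i).smul_mem _ he1) ((D i).smul_mem _ hf1)) ((D i).smul_mem _ he2U.1.1)) ((D i).smul_mem _ hf2.1.1))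
      have hp : ∀ u, polar q u r = polar q u v - (polar q f1 v * polar q u e1 + polar q e1 v * polar q u f1 +
          polar q f2 v * polar q u e2 + polar q e2 v * polar q u f2) := fun u => by
        rw [hr, polar_sub_right, polar_add_right, polar_add_right, polar_add_right]
        simp only [polar_smul_right, smul_eq_mul]
      have r1 : polar q e1 r = 0 := by rw [hp, polar_self, hQe1, h11, g12, g1e]; simp
      have r2 : polar q f1 r = 0 := by rw [hp, polar_self, hQf1, polar_comm q f1 e1, h11, gf12, gf1e]; simp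
      have hrU : r ∈ U' := ⟨⟨hrD, r1⟩, r2⟩
      have r3 : polar q e2 r = 0 := by
        rw [hp, polar_self, hQe2, h22, polar_comm q e2 e1, g1e, polar_comm q e2 f1, gf1e]; simp
      have r4 : polar q f2 r = 0 := by
        rw [hp, polar_self, hQf2, polar_comm q f2 e2, h22, polar_comm q f2 e1, g12, polar_comm q f2 f1, gf12]; simp
      by_contra hr0
      have hle : Submodule.span F {e2, f2} ≤ U' := Submodule.span_le.2 (by simp [Set.insert_subset_iff, he2U, hf2])
      have hlt : Submodule.span F {e2} < Submodule.span F {e2, f2} :=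
        lt_of_le_of_ne (Submodule.span_mono (by simp)) fun hh => by
          have hm : f2 ∈ Submodule.span F {e2} := hh ▸ Submodule.subset_span (by simp)
          obtain ⟨c, hc⟩ := Submodule.mem_span_singleton.1 hm
          rw [← hc, polar_smul_right, polar_self, hQe2] at h22
          simp at h22
      have h5 := Submodule.finrank_lt_finrank_of_lt hlt
      rw [finrank_span_singleton he20] at h5
      refine hr0 (hU' r hrU fun z hz => ?_)
      rw [← Submodule.eq_of_le_of_finrank_le hle (by omega)] at hz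
      obtain ⟨c, d, rfl⟩ := Submodule.mem_span_pair.1 hz
      rw [polar_comm, polar_add_left, polar_smul_left, polar_smul_left, r3, r4]
      simp
    have hv4 : ∀ a b c d : F, q (a • e1 + b • f1 + c • e2 + d • f2) = a * b + c * d := fun a b c d => by
      simp only [QuadraticMap.map_add (⇑q), QuadraticMap.map_smul, polar_add_left, polar_smul_left,
        polar_smul_right, hQe1, hQf1, hQe2, hQf2, h11, h22, g12, gf12, g1e, gf1e, smul_eq_mul]
      ring
    have hp4 : ∀ a b c d a' b' c' d' : F,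
        polar q (a • e1 + b • f1 + c • e2 + d • f2) (a' • e1 + b' • f1 + c' • e2 + d' • f2) =
          a * b' + b * a' + c * d' + d * c' := fun a b c d a' b' c' d' => by
      simp only [polar_add_left, polar_add_right, polar_smul_left, polar_smul_right, polar_self, hQe1, hQf1,
        hQe2, hQf2, h11, h22, g12, gf12, g1e, gf1e, polar_comm q f1 e1, polar_comm q e2 e1, polar_comm q f2 e1,
        polar_comm q e2 f1, polar_comm q f2 f1, polar_comm q f2 e2, smul_eq_mul, nsmul_zero, mul_zero, mul_one,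
        add_zero, zero_add]
      ring
    have hin : ∀ a b c d : F, a • e1 + b • f1 + c • e2 + d • f2 ∈ D i := fun a b c d =>
      (D i).add_mem ((D i).add_mem ((D i).add_mem ((D i).smul_mem _ he1) ((D i).smul_mem _ hf1))
        ((D i).smul_mem _ he2U.1.1)) ((D i).smul_mem _ hf2.1.1)
    refine ⟨(1 : F) • e1 + (1 : F) • f1 + (0 : F) • e2 + (0 : F) • f2,
      (0 : F) • e1 + (1 : F) • f1 + (1 : F) • e2 + (1 : F) • f2,
      (1 : F) • e1 + (1 : F) • f1 + (1 : F) • e2 + (0 : F) • f2, hin _ _ _ _, hin _ _ _ _, hin _ _ _ _,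
      by rw [hv4]; ring, by rw [hv4]; ring, by rw [hp4]; ring, by rw [hp4]; linear_combination h2,
      by rw [hp4]; linear_combination h2, by rw [hv4]; ring, fun v hv hQv => ?_⟩
    rw [hco v hv] at hQv ⊢
    rw [hv4] at hQv
    rw [hp4, hp4]
    obtain ha | ha := em (polar q f1 v = 0) <;> obtain hb | hb := em (polar q e1 v = 0) <;>
      obtain hc | hc := em (polar q f2 v = 0) <;> obtain hd | hd := em (polar q e2 v = 0) <;>
      (first | rw [ha] at hQv ⊢ | rw [hone _ ha] at hQv ⊢) <;>
      (first | rw [hb] at hQv ⊢ | rw [hone _ hb] at hQv ⊢) <;>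
      (first | rw [hc] at hQv ⊢ | rw [hone _ hc] at hQv ⊢) <;>
      (first | rw [hd] at hQv ⊢ | rw [hone _ hd] at hQv ⊢)
    all_goals first
      | (exfalso; apply one_ne_zero (α := F); linear_combination -hQv; done)
      | (exfalso; apply one_ne_zero (α := F); linear_combination -hQv + h2; done)
      | exact Or.inl rfl
      | exact Or.inr (Or.inl rfl)
      | (refine Or.inr (Or.inr (Or.inl ?_)); match_scalars <;> first | ring1 | linear_combination -h2 | linear_combination h2)
      | (refine Or.inr (Or.inr (Or.inr ⟨?_, ?_⟩)) <;> first | ring1 | linear_combination h2 | linear_combination -h2 | linear_combination 2 * h2)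
  choose x y z hxD hyD hzD hQx hQy hxy hxz hyz hQz hpart using hplane
  set S : Set (ι → F) := {v | q v = 1 ∧ ∃ k, v ∈ D k} with hS
  let i0 : Fin t := ⟨0, by omega⟩
  let i1 : Fin t := ⟨1, by omega⟩
  let i2 : Fin t := ⟨2, by omega⟩
  let i3 : Fin t := ⟨3, by omega⟩
  have h01 : i0 ≠ i1 := by simp [i0, i1]
  have h02 : i0 ≠ i2 := by simp [i0, i2]
  have h03 : i0 ≠ i3 := by simp [i0, i3]
  have h12 : i1 ≠ i2 := by simp [i1, i2]
  have h13 : i1 ≠ i3 := by simp [i1, i3]
  have h23 : i2 ≠ i3 := by simp [i2, i3]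
  have hsing : ∀ {u : Fin t → ι → F}, (∀ i, u i ∈ D i) → (∀ i, q (u i) = 1) → ∀ {i j}, i ≠ j →
      q (u i + u j) = 0 := fun {u} hu hq1 {i j} hij => by
    rw [QuadraticMap.map_add (⇑q), hq1, hq1, orthD hD hij (hu i) (hu j)]
    linear_combination h2
  have hpxx : ∀ i, polar q (x i) (x i) = 0 := fun i => by
    rw [polar_self, hQx, nsmul_eq_mul, Nat.cast_ofNat, h2, zero_mul]
  have hpyy : ∀ i, polar q (y i) (y i) = 0 := fun i => by
    rw [polar_self, hQy, nsmul_eq_mul, Nat.cast_ofNat, h2, zero_mul]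
  obtain ⟨g, hgΩ, hgact, hgg⟩ := exists_invol hnd hbig h2 (hsing hxD hQx h01) (hsing hyD hQy h01) (by
    rw [polar_add_left, polar_add_right, polar_add_right, orthD hD h01 (hyD _) (hxD _),
      orthD hD h01.symm (hyD _) (hxD _), polar_comm q (y i0), polar_comm q (y i1), hxy, hxy]
    linear_combination h2)
  obtain ⟨g', hg'Ω, hg'act, -⟩ := exists_invol hnd hbig h2 (hsing hxD hQx h12) (hsing hyD hQy h03) (by
    rw [polar_add_left, polar_add_right, polar_add_right, orthD hD h01 (hyD _) (hxD _),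
      orthD hD h02 (hyD _) (hxD _), orthD hD h13.symm (hyD _) (hxD _), orthD hD h23.symm (hyD _) (hxD _)]
    simp)
  have hgx : g.1 (x i0) = x i1 := by
    rw [hgact, polar_add_left, polar_add_left, polar_comm q (y i0), hxy, orthD hD h01.symm (hyD _) (hxD _), hpxx,
      orthD hD h01.symm (hxD _) (hxD _)]
    linear_combination (norm := module) congrArg (· • x i0) h2
  have hgy : g.1 (y i0) = y i1 := by
    rw [hgact, polar_add_left, polar_add_left, hpyy, orthD hD h01.symm (hyD _) (hyD _), hxy,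
      orthD hD h01.symm (hxD _) (hyD _)]
    linear_combination (norm := module) -(congrArg (· • y i1) h2)
  refine exists_between S ?_ g hgΩ ?_ (i := i0) ?_ g' hg'Ω (s := x i0) ⟨hQx _, i0, hxD _⟩ ?_
  · rintro k hk v ⟨hv, i, hi⟩
    obtain ⟨j, hj⟩ := hk i
    exact ⟨by rw [map_orth, hv], j, hj v hi⟩
  · have hmem : ∀ v ∈ S, g.1 v ∈ S := by
      rintro v ⟨hv, k, hk⟩
      refine ⟨by rw [map_orth, hv], ?_⟩
      have hfix : polar q (x i0) v = 0 → polar q (x i1) v = 0 → polar q (y i0) v = 0 → polar q (y i1) v = 0 →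
          ∃ j, g.1 v ∈ D j := fun a b c d => ⟨k, by
        rwa [hgact, polar_add_left, polar_add_left, a, b, c, d, add_zero, zero_smul, zero_smul, sub_zero, add_zero]⟩
      by_cases hk0 : k = i0
      · subst hk0
        rcases hpart i0 v hk hv with rfl | rfl | rfl | ⟨ha, hb⟩
        · exact ⟨i1, hgx ▸ hxD i1⟩
        · exact ⟨i1, hgy ▸ hyD i1⟩
        · exact ⟨i1, by rw [map_add, hgx, hgy]; exact (D i1).add_mem (hxD _) (hyD _)⟩
        · exact hfix ha (orthD hD h01.symm (hxD _) hk) hb (orthD hD h01.symm (hyD _) hk)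
      by_cases hk1 : k = i1
      · subst hk1
        rcases hpart i1 v hk hv with rfl | rfl | rfl | ⟨ha, hb⟩
        · exact ⟨i0, by rw [← hgx, hgg]; exact hxD i0⟩
        · exact ⟨i0, by rw [← hgy, hgg]; exact hyD i0⟩
        · exact ⟨i0, by rw [map_add, ← hgx, ← hgy, hgg, hgg]; exact (D i0).add_mem (hxD _) (hyD _)⟩
        · exact hfix (orthD hD h01 (hxD _) hk) ha (orthD hD h01 (hyD _) hk) hb
      exact hfix (orthD hD (Ne.symm hk0) (hxD _) hk) (orthD hD (Ne.symm hk1) (hxD _) hk)
        (orthD hD (Ne.symm hk0) (hyD _) hk) (orthD hD (Ne.symm hk1) (hyD _) hk)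
    exact fun v => ⟨hmem v, fun h => hgg v ▸ hmem _ h⟩
  · intro j
    by_cases hj : j = i1
    · subst hj
      refine ⟨z i0, hzD i0, fun h => ?_⟩
      rw [hgact, polar_add_left, polar_add_left, hxz, hyz, orthD hD h01.symm (hxD _) (hzD _),
        orthD hD h01.symm (hyD _) (hzD _), add_zero, zero_smul, zero_smul, sub_zero, add_zero] at h
      have := Submodule.disjoint_def.1 (hdec.indep.pairwiseDisjoint h01) (z i0) (hzD i0) h
      have h1 := hQz i0
      rw [this, QuadraticMap.map_zero] at h1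
      exact zero_ne_one h1
    · refine ⟨x i0, hxD i0, fun h => hj (eq_of_mem hD h (hyD i1) ?_)⟩
      rw [hgx, hxy]; exact one_ne_zero
  · rintro ⟨-, k, hk⟩
    have hy' : g'.1 (x i0) = x i0 + (x i1 + x i2) := by
      rw [hg'act, polar_add_left, polar_add_left, polar_comm q (y i0), hxy, orthD hD h03.symm (hyD _) (hxD _),
        orthD hD h01.symm (hxD _) (hxD _), orthD hD h02.symm (hxD _) (hxD _)]
      module
    rw [hy'] at hk
    have e0 : k = i0 := eq_of_mem hD hk (hyD i0) (by
      rw [polar_add_left, polar_add_left, hxy, orthD hD h01.symm (hxD _) (hyD _),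
        orthD hD h02.symm (hxD _) (hyD _)]
      simp)
    have e1 : k = i1 := eq_of_mem hD hk (hyD i1) (by
      rw [polar_add_left, polar_add_left, hxy, orthD hD h01 (hxD _) (hyD _),
        orthD hD h12.symm (hxD _) (hyD _)]
      simp)
    exact h01 (e0.symm.trans e1)

end Cfsg.Agent.OmegaDecompSmall
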