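import Mathlib
import Cfsg.Agent.Lib.OmegaDecompFull
import Cfsg.Agent.Lib.OmegaAnisoPlane

/-!
Orthogonal decompositions into anisotropic planes: an overgroup of the stabiliser relates a mixed
vector to the block vectors of its value.
-/

set_option autoImplicit false

namespace Cfsg.Agent.OmegaDecompTwoGrow

open QuadraticMap Module
open Cfsg.Agent.OrthUnitaryQuad Cfsg.Agent.OrthUnitaryPrelude Cfsg.Agent.OrthUnitaryRefl
  Cfsg.Agent.OrthUnitaryOmega Cfsg.Agent.OmegaClasses Cfsg.Agent.OmegaGeo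
  Cfsg.Agent.OrthUnitarySimple Cfsg.Agent.OmegaStabSingular Cfsg.Agent.OmegaDecomp
  Cfsg.Agent.OmegaDecompClass Cfsg.Agent.OmegaDecompGain Cfsg.Agent.OmegaAnisoPlane
open Cfsg.Agent.QuadClassify (Nondeg Aniso)

variable {F V : Type*} [Field F] [Fintype F] [AddCommGroup V] [Module F V] [FiniteDimensional F V]
  {Q : QuadraticForm F V} {t : ℕ} {D : Fin t → Submodule F V} {π : Fin t → V →ₗ[F] V}
  {M : Subgroup (orth Q)}

/-- Hypotheses on a decomposition into planes. -/
structure Planes (Q : QuadraticForm F V) {t : ℕ} (D : Fin t → Submodule F V) : Prop where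
  dec : Dec Q D 2
  aniso : ∀ i, Aniso Q (D i)
  seven : 6 ≤ t
  dim_big : 5 ≤ finrank F V
  q3 : Fintype.card F ≠ 3

theorem pair_blocks' (hnd : (polarBilin Q).Nondegenerate) (hh : Planes Q D) (hH : Contains M D)
    {i j : Fin t} {v w : V} (hv : v ∈ D i) (hw : w ∈ D j) (hQv : Q v ≠ 0)
    (h : SameClass (Q v) (Q w)) : PairIn M v w :=
  pair_blocks hnd hh.dim_big hh.dec hH hv hw hQv h

theorem rep_of_pair' (hnd : (polarBilin Q).Nondegenerate) (hh : Planes Q D) (hH : Contains M D)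
    {x v : V} {j : Fin t} (hv : v ∈ D j) (hxv : PairIn M x v) (hc : SameClass (Q v) (Q x)) :
    Rep M D x := by
  refine ⟨hc.1, fun p w hw hQw => hxv.trans ?_⟩
  obtain ⟨-, hQv, -⟩ := hxv
  exact pair_blocks' hnd hh hH hv hw hQv (by rw [hQw]; exact hc)

omit [Fintype F] in
theorem mem_sup_of_comp (hπ : Comp Q D π) {a b : Fin t} {x : V}
    (h : ∀ r, r ≠ a → r ≠ b → π r x = 0) : x ∈ D a ⊔ D b := by
  rcases eq_or_ne a b with rfl | hne
  · exact Submodule.mem_sup_left (hπ.mem_of_forall fun r hr => h r hr hr)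
  · rw [← hπ.sum x, Finset.sum_eq_add a b hne (fun r _ hr => h r hr.1 hr.2) (by simp) (by simp)]
    exact Submodule.mem_sup.2 ⟨_, hπ.mem a x, _, hπ.mem b x, rfl⟩

omit [Fintype F] in
theorem finrank_sup_two (hD : Dec Q D 2) (hπ : Comp Q D π) {a b : Fin t} (hab : a ≠ b) :
    finrank F ↥(D a ⊔ D b) = 4 := by
  have h := Submodule.finrank_sup_add_finrank_inf_eq (D a) (D b)
  rw [show D a ⊓ D b = ⊥ from (Submodule.eq_bot_iff _).2 fun z hz => by
    rw [← hπ.self hD hz.1, hπ.other hD hab hz.2], finrank_bot, hD.dim, hD.dim] at h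
  omega

/-- A class vector of a plane off the members. -/
theorem exists_mixed_plane (hh : Planes Q D) (hπ : Comp Q D π) (m : orth Q) {l : Fin t}
    (hl : ¬ ∃ j, ∀ z ∈ D l, m.1 z ∈ D j) {c : F} (hc : c ≠ 0) :
    ∃ w ∈ D l, Q w = c ∧ ∀ i, m.1 w ∉ D i := by
  have hD := hh.dec
  obtain ⟨w₀, hw₀, hQw₀⟩ := nondeg_represents (hD.nd l) (by rw [hD.dim]) c
  have hw₀0 : w₀ ≠ 0 := fun h => hc (by rw [← hQw₀, h, QuadraticMap.map_zero])
  by_contra hcon
  push Not at hcon
  have hoff := fun l' l'' => exists_off (hD.dim l) (hD.nd l) (hh.aniso l) hh.q3 hw₀ hw₀0 l' l''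
  obtain ⟨i₁, hi₁⟩ := hcon w₀ hw₀ hQw₀
  have hsame : ∀ w ∈ D l, w ∉ Submodule.span F {w₀} → ∀ i, m.1 w ∈ D i → i ≠ i₁ := by
    rintro w hw hspan i hi rfl
    refine hl ⟨i, fun z hz => ?_⟩
    obtain ⟨b, hb, -, hgen⟩ := exists_basis_vectors (hD.dim l) hw₀ hw₀0
    obtain ⟨x, y, rfl⟩ := hgen w hw
    obtain ⟨u, v, rfl⟩ := hgen z hz
    have hy : y ≠ 0 := fun h => hspan (Submodule.mem_span_singleton.2 ⟨x, by
      rw [h, zero_smul, add_zero]⟩)
    have hbi : m.1 b ∈ D i := by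
      have := (D i).smul_mem y⁻¹ ((D i).sub_mem hi ((D i).smul_mem x hi₁))
      rwa [map_add, map_smul, map_smul, add_sub_cancel_left, inv_smul_smul₀ hy] at this
    rw [map_add, map_smul, map_smul]
    exact (D i).add_mem ((D i).smul_mem _ hi₁) ((D i).smul_mem _ hbi)
  obtain ⟨w₂, hw₂, hQw₂, hspan₂, -⟩ := hoff w₀ w₀
  rw [hQw₀] at hQw₂
  obtain ⟨i₂, hi₂⟩ := hcon w₂ hw₂ hQw₂
  have hi21 := hsame w₂ hw₂ hspan₂ i₂ hi₂
  obtain ⟨w₃, hw₃, hQw₃, hspan₃, hspan₃'⟩ := hoff w₀ w₂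
  rw [hQw₀] at hQw₃
  obtain ⟨i₃, hi₃⟩ := hcon w₃ hw₃ hQw₃
  have hi31 := hsame w₃ hw₃ hspan₃ i₃ hi₃
  obtain ⟨b, hb, -, hgen⟩ := exists_basis_vectors (hD.dim l) hw₀ hw₀0
  obtain ⟨x, y, hxy⟩ := hgen w₂ hw₂
  obtain ⟨u, v, huv⟩ := hgen w₃ hw₃
  have hy : y ≠ 0 := fun h => hspan₂ (Submodule.mem_span_singleton.2 ⟨x, by
    rw [← hxy, h, zero_smul, add_zero]⟩)
  have hexp : w₃ = (u - v / y * x) • w₀ + (v / y) • w₂ := by
    rw [← huv, ← hxy, smul_add, smul_smul, smul_smul, div_mul_cancel₀ _ hy]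
    module
  have hα : u - v / y * x ≠ 0 := fun h => hspan₃' (Submodule.mem_span_singleton.2 ⟨v / y, by
    rw [hexp, h, zero_smul, zero_add]⟩)
  have hmw₀ : m.1 w₀ ≠ 0 := fun h => hw₀0 (m.1.map_eq_zero_iff.1 h)
  have e := congrArg (fun z => π i₁ (m.1 z)) hexp
  simp only [map_add, map_smul, hπ.self hD hi₁, hπ.other hD hi21.symm hi₂,
    hπ.other hD hi31.symm hi₃, smul_zero, add_zero] at e
  exact hmw₀ ((smul_eq_zero.1 e.symm).resolve_left hα)

omit [Fintype F] in
/-- A pair of reflections permuting the members moves inside at most two of them. -/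
theorem pair_support (hD : Dec Q D 2) (hπ : Comp Q D π) {x y : V} (hx : Q x ≠ 0) (hy : Q y ≠ 0)
    (hxy : polar Q x y = 0) (hind : ∀ p r : F, p • x + r • y = 0 → p = 0 ∧ r = 0)
    (hmono : ∀ i, ∃ j, ∀ z ∈ D i, (refl Q x hx * refl Q y hy).1 z ∈ D j) :
    ∃ a b : Fin t, ∀ r, r ≠ a → r ≠ b → π r x = 0 ∧ π r y = 0 := by
  classical
  set m := refl Q x hx * refl Q y hy
  let φ : V →ₗ[F] V :=
    ((Q x)⁻¹ • polarBilin Q x).smulRight x + ((Q y)⁻¹ • polarBilin Q y).smulRight y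
  have hφ : ∀ z, φ z = ((Q x)⁻¹ * polar Q x z) • x + ((Q y)⁻¹ * polar Q y z) • y := fun z => rfl
  have hm : ∀ z, φ z = z - m.1 z := by
    intro z
    rw [hφ, orth_mul_apply, refl_apply Q y, refl_apply Q x, polar_sub_right, polar_smul_right, hxy,
      smul_zero, sub_zero]
    abel
  set P := Submodule.span F {x, y}
  have hφP : ∀ z, φ z ∈ P := fun z => by
    rw [hφ]; exact Submodule.mem_span_pair.2 ⟨_, _, rfl⟩
  have hP : finrank F P ≤ 2 := by
    have := finrank_span_finset_le_card (R := F) (({x, y} : Finset V))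
    rw [Finset.coe_pair] at this
    exact this.trans Finset.card_le_two
  by_cases hswap : ∃ r j, j ≠ r ∧ ∀ z ∈ D r, m.1 z ∈ D j
  · obtain ⟨r, j, hjr, hrj⟩ := hswap
    have hself : ∀ z ∈ D r, π r (φ z) = z := fun z hz => by
      rw [hm, map_sub, hπ.self hD hz, hπ.other hD hjr.symm (hrj z hz), sub_zero]
    have himg : (D r).map φ = P := by
      refine Submodule.eq_of_le_of_finrank_le (by rintro _ ⟨z, -, rfl⟩; exact hφP z) ?_
      have h1 : ((D r).map φ).map (π r) = D r := by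
        refine le_antisymm ?_ fun z hz => ⟨φ z, Submodule.mem_map_of_mem hz, hself z hz⟩
        rintro _ ⟨_, ⟨z, hz, rfl⟩, rfl⟩
        rw [hself z hz]; exact hz
      have h2 := Submodule.finrank_map_le (π r) ((D r).map φ)
      rw [h1, hD.dim] at h2
      omega
    refine ⟨r, j, fun s hsr hsj => ?_⟩
    have key : ∀ w ∈ P, π s w = 0 := by
      intro w hw
      rw [← himg] at hw
      obtain ⟨z, hz, rfl⟩ := hw
      rw [hm, map_sub, hπ.other hD hsr hz, hπ.other hD hsj (hrj z hz), sub_zero]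
    exact ⟨key x (Submodule.subset_span (by simp)), key y (Submodule.subset_span (by simp))⟩
  · have hfix : ∀ r, ∀ z ∈ D r, φ z ∈ D r := by
      intro r z hz
      obtain ⟨j, hj⟩ := hmono r
      have : j = r := by_contra fun h => hswap ⟨r, j, h, hj⟩
      rw [hm]
      exact (D r).sub_mem hz (this ▸ hj z hz)
    set S := (Finset.univ : Finset (Fin t)).filter fun r => π r x ≠ 0 ∨ π r y ≠ 0 with hS
    have hne : ∀ r ∈ S, ∃ p : V, p ∈ P ∧ p ∈ D r ∧ p ≠ 0 := by
      intro r hr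
      simp only [hS, Finset.mem_filter, Finset.mem_univ, true_and] at hr
      obtain ⟨z, hz, hzne⟩ : ∃ z ∈ D r, polar Q x z ≠ 0 ∨ polar Q y z ≠ 0 := by
        by_contra h
        push Not at h
        have hzero : ∀ u, (∀ z ∈ D r, polar Q u z = 0) → π r u = 0 := fun u hu =>
          hD.nd r _ (hπ.mem r u) fun z hz => by
            rw [polar_comm, ← hπ.polar_eq r z hz u, polar_comm, hu z hz]
        rcases hr with hr | hr
        · exact hr (hzero x fun z hz => (h z hz).1)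
        · exact hr (hzero y fun z hz => (h z hz).2)
      refine ⟨φ z, hφP z, hfix r z hz, fun h0 => ?_⟩
      rw [hφ] at h0
      obtain ⟨e1, e2⟩ := hind _ _ h0
      rcases hzne with h | h
      · exact mul_ne_zero (inv_ne_zero hx) h e1
      · exact mul_ne_zero (inv_ne_zero hy) h e2
    choose! p hpP hpD hp0 using hne
    have hcard : S.card ≤ 2 := by
      have hli : LinearIndependent F (fun r : S => p r.1) := by
        rw [Fintype.linearIndependent_iff]
        intro c hc r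
        have h := congrArg (π r.1) hc
        rw [map_sum, map_zero, Finset.sum_eq_single r (fun s _ hs => by
          rw [map_smul, hπ.other hD (fun h => hs (Subtype.ext h.symm)) (hpD s.1 s.2), smul_zero])
          (by simp), map_smul, hπ.self hD (hpD r.1 r.2)] at h
        exact (smul_eq_zero.1 h).resolve_right (hp0 r.1 r.2)
      have h1 := finrank_span_eq_card hli
      rw [Fintype.card_coe] at h1
      have h2 : Submodule.span F (Set.range fun r : S => p r.1) ≤ P := Submodule.span_le.2 (by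
        rintro _ ⟨r, rfl⟩; exact hpP r.1 r.2)
      have h3 := Submodule.finrank_mono h2
      omega
    have hnot : ∀ r, r ∉ S → π r x = 0 ∧ π r y = 0 := fun r hr => by
      simp only [hS, Finset.mem_filter, Finset.mem_univ, true_and, not_or, not_not] at hr
      exact hr
    rcases S.eq_empty_or_nonempty with he | ⟨a, ha⟩
    · have : x = 0 := by
        rw [← hπ.sum x]
        exact Finset.sum_eq_zero fun r _ => (hnot r (by rw [he]; simp)).1
      exact absurd (by rw [this, QuadraticMap.map_zero]) hx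
    · obtain ⟨b, hb⟩ : ∃ b, S.erase a ⊆ {b} := by
        have : (S.erase a).card ≤ 1 := by rw [Finset.card_erase_of_mem ha]; omega
        rcases (S.erase a).eq_empty_or_nonempty with he | ⟨b, hb⟩
        · exact ⟨a, by rw [he]; simp⟩
        · exact ⟨b, fun c hc => Finset.mem_singleton.2 (Finset.card_le_one.1 this c hc b hb)⟩
      exact ⟨a, b, fun r hra hrb => hnot r fun hr => hrb (Finset.mem_singleton.1
        (hb (Finset.mem_erase.2 ⟨hra, hr⟩)))⟩

omit [Fintype F] in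
theorem isSquare_mul_of_iff [Finite F] {a b : F} (ha : a ≠ 0) (hb : b ≠ 0)
    (h : IsSquare a ↔ IsSquare b) : IsSquare (a * b) := by
  classical
  cases nonempty_fintype F
  by_cases hsa : IsSquare a
  · exact hsa.mul (h.1 hsa)
  · have hsb : ¬ IsSquare b := fun h' => hsa (h.2 h')
    refine (quadraticChar_one_iff_isSquare (mul_ne_zero ha hb)).1 ?_
    rw [map_mul, quadraticChar_neg_one_iff_not_isSquare.2 hsa,
      quadraticChar_neg_one_iff_not_isSquare.2 hsb]
    norm_num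

/-- An overgroup relates a mixed vector to the block vectors of its value. -/
theorem exists_grow (hnd : (polarBilin Q).Nondegenerate) (hh : Planes Q D) (hπ : Comp Q D π)
    (hH : Contains M D) {g : orth Q} (hg : g ∈ M) (hgD : ¬ ∀ i, ∃ j, ∀ z ∈ D i, g.1 z ∈ D j) :
    ∃ x, Rep M D x ∧ ∀ i, x ∉ D i := by
  classical
  have hD := hh.dec
  have ht := hh.seven
  obtain ⟨l₀, hl₀⟩ : ∃ l, ¬ ∃ j, ∀ z ∈ D l, g.1 z ∈ D j := not_forall.1 hgD
  by_contra hcon
  push Not at hcon
  have mixed : ∀ s, ∀ v ∈ D s, Q v ≠ 0 → ∀ i, g.1 v ∉ D i := by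
    intro s v hv hQv i hi
    obtain ⟨w, hw, hQw, hmix⟩ := exists_mixed_plane hh hπ g hl₀ hQv
    have hp := (pair_blocks' hnd hh hH hw hv (by rw [hQw]; exact hQv)
      ⟨hQv, by rw [hQw]; exact ⟨_, rfl⟩⟩).map hg
    obtain ⟨i', hi'⟩ := hcon _ (rep_of_pair' hnd hh hH hi hp
      ⟨by rw [map_orth g, hQw]; exact hQv, by rw [map_orth g, map_orth g, hQw]; exact ⟨_, rfl⟩⟩)
    exact hmix i' hi'
  have mono : ∀ m ∈ M, ∀ r, ∀ z ∈ D r, Q z ≠ 0 → m.1 z = z →
      ∀ i, ∃ j, ∀ z ∈ D i, m.1 z ∈ D j := by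
    intro m hm r z hz hQz hmz i
    by_contra hi
    obtain ⟨w, hw, hQw, hmix⟩ := exists_mixed_plane hh hπ m hi hQz
    have hp := (pair_blocks' hnd hh hH hw hz (by rw [hQw]; exact hQz)
      ⟨hQz, by rw [hQw]; exact ⟨_, rfl⟩⟩).map hm
    rw [hmz] at hp
    obtain ⟨i', hi'⟩ := hcon _ (rep_of_pair' hnd hh hH hz hp
      ⟨by rw [map_orth m, hQw]; exact hQz, by rw [map_orth m, hQw]; exact ⟨_, rfl⟩⟩)
    exact hmix i' hi'
  -- the image of a class vector fixes the pair of members of its partners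
  have support : ∀ (r : Fin t) (z : V), z ∈ D r → Q z ≠ 0 → ∀ (s s' : Fin t) (v w : V), s ≠ s' →
      v ∈ D s → w ∈ D s' → Q v ≠ 0 → SameClass (Q v) (Q w) → polar Q (g.1 v) z = 0 →
      polar Q (g.1 w) z = 0 →
      ∃ a b, a ≠ b ∧ π a (g.1 v) ≠ 0 ∧ π b (g.1 v) ≠ 0 ∧
        ∀ q, (q = a ∨ q = b) ↔ π q (g.1 w) ≠ 0 ∨ π q (g.1 v) ≠ 0 := by
    intro r z hz hQz s s' v w hss hv hw hQv hvw hvz hwz
    obtain ⟨h1, h2, hm⟩ := (pair_blocks' hnd hh hH hv hw hQv hvw).map hg
    have hfix : (refl Q (g.1 v) h1 * refl Q (g.1 w) h2).1 z = z := by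
      rw [orth_mul_apply, refl_apply Q (g.1 w), hwz]
      simp only [mul_zero, zero_smul, sub_zero]
      rw [refl_apply, hvz]
      simp
    have hind : ∀ p q : F, p • g.1 v + q • g.1 w = 0 → p = 0 ∧ q = 0 := by
      intro p q hpq
      rw [← map_smul, ← map_smul, ← map_add, LinearEquiv.map_eq_zero_iff] at hpq
      have e1 := congrArg (π s) hpq
      have e2 := congrArg (π s') hpq
      simp only [map_add, map_smul, hπ.self hD hv, hπ.self hD hw, hπ.other hD hss hw,
        hπ.other hD hss.symm hv, smul_zero, add_zero, zero_add, map_zero] at e1 e2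
      exact ⟨(smul_eq_zero.1 e1).resolve_right fun h => hQv (by rw [h, QuadraticMap.map_zero]),
        (smul_eq_zero.1 e2).resolve_right fun h => hvw.1 (by rw [h, QuadraticMap.map_zero])⟩
    obtain ⟨a, b, hab⟩ := pair_support hD hπ h1 h2
      (by rw [polar_orth g, hD.orth s s' hss v hv w hw]) hind (mono _ hm r z hz hQz hfix)
    have two : ∀ u, (∀ i, u ∉ D i) → (∀ q, q ≠ a → q ≠ b → π q u = 0) →
        a ≠ b ∧ π a u ≠ 0 ∧ π b u ≠ 0 := by
      intro u hu hq
      obtain ⟨i, hia, hi⟩ := exists_other hπ hu a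
      obtain ⟨j, hjb, hj⟩ := exists_other hπ hu b
      have hib : i = b := by_contra fun h => hi (hq i hia h)
      have hja : j = a := by_contra fun h => hj (hq j h hjb)
      subst hib hja
      exact ⟨hia.symm, hj, hi⟩
    obtain ⟨hne, hva, hvb⟩ := two _ (mixed s v hv hQv) fun q h h' => (hab q h h').1
    refine ⟨a, b, hne, hva, hvb, fun q => ⟨?_, fun hq => ?_⟩⟩
    · rintro (rfl | rfl)
      · exact Or.inr hva
      · exact Or.inr hvb
    · by_contra hq'
      push Not at hq'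
      obtain ⟨e1, e2⟩ := hab q hq'.1 hq'.2
      exact hq.elim (fun h => h e2) (fun h => h e1)
  -- three members orthogonal to a block vector are impossible
  have three : ∀ r, ∀ z ∈ D r, Q z ≠ 0 → ∀ s₁ s₂ s₃, s₁ ≠ s₂ → s₁ ≠ s₃ → s₂ ≠ s₃ →
      (∀ s, (s = s₁ ∨ s = s₂ ∨ s = s₃) → ∀ v ∈ D s, polar Q (g.1 v) z = 0) → False := by
    intro r z hz hQz s₁ s₂ s₃ h12 h13 h23 horth
    have hrep : ∀ s, ∃ v ∈ D s, Q v = 1 := fun s =>
      nondeg_represents (hD.nd s) (by rw [hD.dim]) 1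
    obtain ⟨v₁, hv₁, hQ₁⟩ := hrep s₁
    obtain ⟨v₂, hv₂, hQ₂⟩ := hrep s₂
    have hclass : ∀ u u' : V, Q u = 1 → Q u' = 1 → SameClass (Q u) (Q u') := fun u u' h h' =>
      ⟨by rw [h']; exact one_ne_zero, by rw [h, h']; exact ⟨1, rfl⟩⟩
    obtain ⟨a, b, hab, hva, hvb, hiff⟩ := support r z hz hQz s₁ s₂ v₁ v₂ h12 hv₁ hv₂
      (by rw [hQ₁]; exact one_ne_zero) (hclass _ _ hQ₁ hQ₂) (horth s₁ (Or.inl rfl) v₁ hv₁)
      (horth s₂ (Or.inr (Or.inl rfl)) v₂ hv₂)
    have hv₁U : ∀ q, q ≠ a → q ≠ b → π q (g.1 v₁) = 0 := fun q h h' =>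
      by_contra fun hne => ((hiff q).2 (Or.inr hne)).elim h h'
    have hv₂U : ∀ q, q ≠ a → q ≠ b → π q (g.1 v₂) = 0 := fun q h h' =>
      by_contra fun hne => ((hiff q).2 (Or.inl hne)).elim h h'
    have other : ∀ s, s ≠ s₁ → (s = s₂ ∨ s = s₃) → ∀ w ∈ D s, Q w = 1 →
        ∀ q, q ≠ a → q ≠ b → π q (g.1 w) = 0 := by
      intro s hs hs' w hw hQw
      obtain ⟨a', b', hab', hva', hvb', hiff'⟩ := support r z hz hQz s₁ s v₁ w hs.symm hv₁ hw
        (by rw [hQ₁]; exact one_ne_zero) (hclass _ _ hQ₁ hQw) (horth s₁ (Or.inl rfl) v₁ hv₁)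
        (horth s (Or.inr hs') w hw)
      intro q hqa hqb
      by_contra hne
      have hA : a' = a ∨ a' = b := (hiff a').2 (Or.inr hva')
      have hB : b' = a ∨ b' = b := (hiff b').2 (Or.inr hvb')
      rcases (hiff' q).2 (Or.inl hne) with rfl | rfl
      · exact hA.elim hqa hqb
      · exact hB.elim hqa hqb
    have first : ∀ w ∈ D s₁, Q w = 1 → ∀ q, q ≠ a → q ≠ b → π q (g.1 w) = 0 := by
      intro w hw hQw
      obtain ⟨a', b', hab', hwa', hwb', hiff'⟩ := support r z hz hQz s₁ s₂ w v₂ h12 hw hv₂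
        (by rw [hQw]; exact one_ne_zero) (hclass _ _ hQw hQ₂) (horth s₁ (Or.inl rfl) w hw)
        (horth s₂ (Or.inr (Or.inl rfl)) v₂ hv₂)
      intro q hqa hqb
      by_contra hne
      -- both components of the partner sit in `a` and `b`
      obtain ⟨i, hia, hi⟩ := exists_other hπ (mixed s₂ v₂ hv₂ (by rw [hQ₂]; exact one_ne_zero)) a
      obtain ⟨j, hjb, hj⟩ := exists_other hπ (mixed s₂ v₂ hv₂ (by rw [hQ₂]; exact one_ne_zero)) b
      have hib : i = b := by_contra fun h => hi (hv₂U i hia h)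
      have hja : j = a := by_contra fun h => hj (hv₂U j h hjb)
      subst hib hja
      have e1 : j = a' ∨ j = b' := (hiff' j).2 (Or.inl hj)
      have e2 : i = a' ∨ i = b' := (hiff' i).2 (Or.inl hi)
      rcases (hiff' q).2 (Or.inr hne) with rfl | rfl
      · rcases e1 with e1 | e1
        · exact hqa e1.symm
        · rcases e2 with e2 | e2
          · exact hqb e2.symm
          · exact hab (e1.trans e2.symm)
      · rcases e1 with e1 | e1
        · rcases e2 with e2 | e2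
          · exact hab (e1.trans e2.symm)
          · exact hqb e2.symm
        · exact hqa e1.symm
    set W := D s₁ ⊔ D s₂ ⊔ D s₃
    have hW : W.map (g.1 : V →ₗ[F] V) ≤ D a ⊔ D b := by
      have hblock : ∀ s, (∀ w ∈ D s, Q w = 1 → ∀ q, q ≠ a → q ≠ b → π q (g.1 w) = 0) →
          ∀ u ∈ D s, g.1 u ∈ D a ⊔ D b := by
        intro s hs u hu
        obtain ⟨w, hw, hQw⟩ := hrep s
        have hw0 : w ≠ 0 := fun h => one_ne_zero (by rw [← hQw, h, QuadraticMap.map_zero])
        obtain ⟨w', hw', hQw', hspan, -⟩ := exists_off (hD.dim s) (hD.nd s) (hh.aniso s) hh.q3 hw hw0 w w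
        obtain ⟨c, hc, -, hgen⟩ := exists_basis_vectors (hD.dim s) hw hw0
        obtain ⟨x, y, rfl⟩ := hgen w' hw'
        obtain ⟨u₁, u₂, rfl⟩ := hgen u hu
        have hy : y ≠ 0 := fun h => hspan (Submodule.mem_span_singleton.2 ⟨x, by
          rw [h, zero_smul, add_zero]⟩)
        have e1 : g.1 w ∈ D a ⊔ D b := mem_sup_of_comp hπ (hs w hw hQw)
        have e2 := mem_sup_of_comp hπ (hs _ hw' (hQw'.trans hQw))
        have e3 : g.1 c ∈ D a ⊔ D b := by
          have := (D a ⊔ D b).smul_mem y⁻¹ ((D a ⊔ D b).sub_mem e2 ((D a ⊔ D b).smul_mem x e1))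
          rwa [map_add, map_smul, map_smul, add_sub_cancel_left, inv_smul_smul₀ hy] at this
        rw [map_add, map_smul, map_smul]
        exact (D a ⊔ D b).add_mem ((D a ⊔ D b).smul_mem _ e1) ((D a ⊔ D b).smul_mem _ e3)
      refine Submodule.map_le_iff_le_comap.2 (sup_le (sup_le ?_ ?_) ?_) <;> intro u hu
      · exact hblock s₁ first u hu
      · exact hblock s₂ (other s₂ h12.symm (Or.inl rfl)) u hu
      · exact hblock s₃ (other s₃ h13.symm (Or.inr rfl)) u hu
    have h1 := Submodule.finrank_mono hW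
    rw [LinearEquiv.finrank_map_eq, finrank_sup_two hD hπ hab] at h1
    have h2 := Submodule.finrank_sup_add_finrank_inf_eq (D s₁ ⊔ D s₂) (D s₃)
    rw [show (D s₁ ⊔ D s₂) ⊓ D s₃ = ⊥ from (Submodule.eq_bot_iff _).2 fun u hu => by
      obtain ⟨p, hp, q, hq, rfl⟩ := Submodule.mem_sup.1 hu.1
      rw [← hπ.self hD hu.2, map_add, hπ.other hD h13.symm hp, hπ.other hD h23.symm hq, add_zero],
      finrank_bot, finrank_sup_two hD hπ h12, hD.dim] at h2
    have h3 : finrank F W = finrank F ↥(D s₁ ⊔ D s₂ ⊔ D s₃) := rfl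
    omega
  -- three class vectors orthogonal to a fixed one
  let r₀ : Fin t := ⟨0, by omega⟩
  obtain ⟨z, hz, hQz⟩ := nondeg_represents (hD.nd r₀) (by rw [hD.dim]) 1
  have hperp : ∀ s, ∃ v ∈ D s, v ≠ 0 ∧ polar Q (g.1 v) z = 0 := fun s => by
    obtain ⟨v, hv, hv0⟩ := Submodule.exists_mem_ne_zero_of_ne_bot
      (p := D s ⊓ LinearMap.ker (polarBilin Q (g.1.symm z))) (fun hb => by
        have := QuadClassify.finrank_ker_inf (D s) (polarBilin Q (g.1.symm z))
        rw [hb, finrank_bot, hD.dim] at this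
        omega)
    refine ⟨v, hv.1, hv0, ?_⟩
    rw [← g.1.apply_symm_apply z, polar_orth g, polar_comm]
    exact hv.2
  choose v hvD hv0 hvz using hperp
  have hQv : ∀ s, Q (v s) ≠ 0 := fun s => Q_ne (hh.aniso s) (hvD s) (hv0 s)
  obtain ⟨cls, hcls⟩ := Fintype.exists_lt_card_fiber_of_mul_lt_card
    (fun s => decide (IsSquare (Q (v s)))) (n := 2) (by simp; omega)
  obtain ⟨S, hS, hScard⟩ := Finset.exists_subset_card_eq (show 3 ≤ _ from hcls)
  have hclass : ∀ s ∈ S, ∀ s' ∈ S, SameClass (Q (v s)) (Q (v s')) := by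
    intro s hs s' hs'
    have e1 := (Finset.mem_filter.1 (hS hs)).2
    have e2 := (Finset.mem_filter.1 (hS hs')).2
    exact ⟨hQv s', isSquare_mul_of_iff (hQv s) (hQv s') (decide_eq_decide.1 (e1.trans e2.symm))⟩
  obtain ⟨s₀, hs₀⟩ : S.Nonempty := Finset.card_pos.1 (by omega)
  obtain ⟨s₁, hs₁, hs10⟩ : ∃ s₁ ∈ S, s₁ ≠ s₀ := Finset.exists_mem_ne (by omega) s₀
  obtain ⟨a, b, hab, hva, hvb, hiff⟩ := support r₀ z hz (by rw [hQz]; exact one_ne_zero) s₀ s₁
    (v s₀) (v s₁) hs10.symm (hvD _) (hvD _) (hQv _) (hclass _ hs₀ _ hs₁) (hvz _) (hvz _)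
  have hall : ∀ s ∈ S, g.1 (v s) ∈ D a ⊔ D b := by
    intro s hs
    refine mem_sup_of_comp hπ fun q hqa hqb => by_contra fun hne => ?_
    rcases eq_or_ne s s₀ with rfl | hss
    · exact ((hiff q).2 (Or.inr hne)).elim hqa hqb
    obtain ⟨a', b', -, hva', hvb', hiff'⟩ := support r₀ z hz (by rw [hQz]; exact one_ne_zero) s₀ s
      (v s₀) (v s) hss.symm (hvD _) (hvD _) (hQv _) (hclass _ hs₀ _ hs) (hvz _) (hvz _)
    rcases (hiff' q).2 (Or.inl hne) with rfl | rfl
    · exact ((hiff q).2 (Or.inr hva')).elim hqa hqb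
    · exact ((hiff q).2 (Or.inr hvb')).elim hqa hqb
  set W := Submodule.span F (Set.range fun s : S => v s.1)
  have hWle : W.map (g.1 : V →ₗ[F] V) ≤ D a ⊔ D b := by
    rw [Submodule.map_span, Submodule.span_le]
    rintro _ ⟨_, ⟨s, rfl⟩, rfl⟩
    exact hall s.1 s.2
  obtain ⟨za, hza, hQza, hmem⟩ : ∃ za ∈ D a, Q za ≠ 0 ∧ za ∈ W.map (g.1 : V →ₗ[F] V) := by
    have hli : LinearIndependent F (fun s : S => v s.1) := by
      rw [Fintype.linearIndependent_iff]
      intro c hc s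
      have h := congrArg (π s.1) hc
      rw [map_sum, map_zero, Finset.sum_eq_single s (fun s' _ hs' => by
        rw [map_smul, hπ.other hD (fun h => hs' (Subtype.ext h.symm)) (hvD s'.1), smul_zero])
        (by simp), map_smul, hπ.self hD (hvD s.1)] at h
      exact (smul_eq_zero.1 h).resolve_right (hv0 s.1)
    have hW3 : finrank F W = 3 := by rw [finrank_span_eq_card hli, Fintype.card_coe, hScard]
    obtain ⟨za, hz', hz0⟩ := Submodule.exists_mem_ne_zero_of_ne_bot
      (p := W.map (g.1 : V →ₗ[F] V) ⊓ D a) (fun hb => by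
        have h1 := Submodule.finrank_sup_add_finrank_inf_eq (W.map (g.1 : V →ₗ[F] V)) (D a)
        have h2 := Submodule.finrank_mono
          (show W.map (g.1 : V →ₗ[F] V) ⊔ D a ≤ D a ⊔ D b from sup_le hWle le_sup_left)
        rw [hb, finrank_bot, LinearEquiv.finrank_map_eq, hW3, hD.dim] at h1
        rw [finrank_sup_two hD hπ hab] at h2
        omega)
    exact ⟨za, hz'.2, Q_ne (hh.aniso a) hz'.2 hz0, hz'.1⟩
  obtain ⟨T, hT, hTcard⟩ := Finset.exists_subset_card_eq (s := Finset.univ \ S) (n := 3) (by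
    rw [Finset.card_univ_sdiff, Fintype.card_fin, hScard]; omega)
  obtain ⟨t₁, t₂, t₃, h12, h13, h23, rfl⟩ := Finset.card_eq_three.1 hTcard
  refine three a za hza hQza t₁ t₂ t₃ h12 h13 h23 fun s hs u hu => ?_
  have hsS : s ∉ S := by
    have hmem : s ∈ ({t₁, t₂, t₃} : Finset (Fin t)) := by
      rcases hs with rfl | rfl | rfl <;> simp
    exact (Finset.mem_sdiff.1 (hT hmem)).2
  obtain ⟨y, hy, rfl⟩ := hmem
  rw [LinearEquiv.coe_coe, polar_orth g]
  clear hza hQza
  induction hy using Submodule.span_induction with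
  | mem y hy =>
    obtain ⟨s', rfl⟩ := hy
    exact hD.orth s s'.1 (fun h => hsS (h ▸ s'.2)) u hu _ (hvD _)
  | zero => simp
  | add p q _ _ hp hq => rw [polar_add_right, hp, hq, add_zero]
  | smul c p _ hp => rw [polar_smul_right, hp, smul_zero]

end Cfsg.Agent.OmegaDecompTwoGrow
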