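import Mathlib
import Cfsg.Agent.Lib.OmegaDecompGlue
import Cfsg.Agent.Lib.OmegaDecompTwo

/-!
Stabilisers of decompositions into anisotropic planes inside `Geo.omegaGL`.
-/

set_option autoImplicit false

namespace Cfsg.Agent.OmegaDecompTwoGlue

open QuadraticMap Module
open Cfsg.Agent.OrthUnitaryQuad Cfsg.Agent.OrthUnitaryPrelude Cfsg.Agent.OrthUnitaryRefl
  Cfsg.Agent.OmegaClasses Cfsg.Agent.OmegaGeo Cfsg.Agent.OmegaMaxGlue
  Cfsg.Agent.OrthUnitarySimple Cfsg.Agent.OmegaDecomp Cfsg.Agent.OmegaDecompClass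
  Cfsg.Agent.OmegaDecompTwoGrow Cfsg.Agent.OmegaDecompTwo
open Cfsg.Agent.QuadClassify (Nondeg Aniso exists_partner)

variable {F : Type*} [Field F] {ι : Type} [Fintype ι] [DecidableEq ι]
  {q : QuadraticForm F (ι → F)} {t : ℕ} {D : Fin t → Submodule F (ι → F)}

/-- Some element of the commutator subgroup breaks the decomposition. -/
theorem exists_breaking [Fintype F] (hnd : (polarBilin q).Nondegenerate) (hh : Planes q D) :
    ∃ c ∈ commutator (orth q), ¬ ∀ i, ∃ j, ∀ x ∈ D i, c.1 x ∈ D j := by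
  have hD := hh.dec
  obtain ⟨π, hπ⟩ := exists_comp hnd hD
  have ht := hh.seven
  let a : Fin t := ⟨0, by omega⟩
  let b : Fin t := ⟨1, by omega⟩
  let i : Fin t := ⟨2, by omega⟩
  have hab : a ≠ b := by simp [a, b, Fin.ext_iff]
  have hia : i ≠ a := by simp [a, i, Fin.ext_iff]
  have hib : i ≠ b := by simp [b, i, Fin.ext_iff]
  obtain ⟨u, hu0, hQu, husupp⟩ := exists_two hh hπ hab
  have hua : π a u ≠ 0 := fun h => hu0 (by
    have h1 : u = π b u := by
      conv_lhs => rw [← hπ.sum u]
      exact Finset.sum_eq_single b (fun r _ hr => by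
        by_cases hra : r = a
        · rw [hra, h]
        · exact husupp r hra hr) (by simp)
    exact hh.aniso b u (h1 ▸ hπ.mem b u) hQu)
  obtain ⟨y, hy, hy0⟩ := Submodule.exists_mem_ne_zero_of_ne_bot (p := D i)
    (fun hb => by have := hD.dim i; rw [hb, finrank_bot] at this; omega)
  obtain ⟨x, hx, hyx⟩ : ∃ x ∈ D i, polar q y x ≠ 0 := by
    by_contra h
    push Not at h
    exact hy0 (hD.nd i y hy h)
  have hperp : ∀ z ∈ D i, polar q u z = 0 := fun z hz => by
    rw [polar_comm, hπ.polar_eq i z hz u, husupp i hia hib, polar_zero_right]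
  refine ⟨siegel q u y hQu (hperp y hy),
    sGroup_le_commutator hnd hh.dim_big (siegel_mem hnd hh.dim_big hQu (hperp y hy)), fun h => ?_⟩
  obtain ⟨j, hj⟩ := h i
  have hcx : (siegel q u y hQu (hperp y hy)).1 x = x - polar q y x • u := by
    rw [siegel_apply, hperp x hx]; simp
  have hx0 : x ≠ 0 := fun h => hyx (by rw [h, polar_zero_right])
  have h1 := hj x hx
  rw [hcx] at h1
  have e1 : π i (x - polar q y x • u) = x := by
    rw [map_sub, map_smul, hπ.self hD hx, husupp i hia hib]; simp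
  have e2 : π a (x - polar q y x • u) ≠ 0 := by
    rw [map_sub, map_smul, hπ.other hD hia.symm hx, zero_sub, neg_ne_zero]
    exact smul_ne_zero hyx hua
  exact hia ((hπ.eq_of_mem hD h1 (by rw [e1]; exact hx0)).trans (hπ.eq_of_mem hD h1 e2).symm)

/-- Stabilisers of decompositions into anisotropic planes are maximal. -/
theorem isMaximalIn [Fintype F] (hnd : (polarBilin q).Nondegenerate)
    (hD : Cfsg.Geo.IsOrthogonalMDecomposition (⇑q) 2 D) (hh : Planes q D) :
    Cfsg.Geo.IsMaximalIn (Cfsg.Geo.omegaGL ⇑q)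
      (Cfsg.Geo.decompositionStabilizer D ⊓ Cfsg.Geo.omegaGL ⇑q) :=
  OmegaDecompGlue.isMaximalIn_of hD (exists_breaking hnd hh)
    fun _ hM _ hg _ hgD => OmegaDecompTwo.commutator_le hnd hh hM hg hgD

omit [Fintype ι] [DecidableEq ι] in
/-- A member containing a singular vector is of plus type when it is a plane. -/
theorem aniso_of_not_plus {W : Submodule F (ι → F)} (hd : finrank F W = 2)
    (h : ¬ Cfsg.Geo.IsPlusTypeOn (⇑q) W) : Aniso q W := by
  intro u hu hQu
  by_contra hu0
  refine h ⟨Submodule.span F {u}, (Submodule.span_singleton_le_iff_mem _ _).2 hu,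
    fun w hw => ?_, by rw [finrank_span_singleton hu0, hd]⟩
  obtain ⟨c, rfl⟩ := Submodule.mem_span_singleton.1 hw
  rw [QuadraticMap.map_smul, hQu, smul_zero]

omit [Fintype ι] [DecidableEq ι] in
/-- In a four-dimensional member not of plus type, orthogonal singular vectors are dependent. -/
theorem dep_of_not_plus {W : Submodule F (ι → F)} (hd : finrank F W = 4)
    (h : ¬ Cfsg.Geo.IsPlusTypeOn (⇑q) W) {a b : ι → F} (ha : a ∈ W) (hb : b ∈ W) (hQa : q a = 0)
    (hQb : q b = 0) (hab : polar q a b = 0) :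
    ∃ p r : F, (p ≠ 0 ∨ r ≠ 0) ∧ p • a + r • b = 0 := by
  by_contra hc
  push Not at hc
  have hli : LinearIndependent F ![a, b] := LinearIndependent.pair_iff.2 fun p r hpr => by
    by_contra hne
    exact hc p r (by tauto) hpr
  refine h ⟨Submodule.span F (Set.range ![a, b]), Submodule.span_le.2 (by
    simp [Set.insert_subset_iff, ha, hb]), fun w hw => ?_, ?_⟩
  · obtain ⟨c, rfl⟩ := (Submodule.mem_span_range_iff_exists_fun F).1 hw
    simp [Fin.sum_univ_two, QuadraticMap.map_add (⇑q), QuadraticMap.map_smul, hQa, hQb, hab,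
      polar_smul_left, polar_smul_right]
  · rw [finrank_span_eq_card hli, hd, Fintype.card_fin]

end Cfsg.Agent.OmegaDecompTwoGlue
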