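import Mathlib
import Cfsg.Agent.Lib.OmegaFivePlanesGrow58

/-!
Orthogonal decompositions into anisotropic planes: stabilisers are maximal.
-/

set_option autoImplicit false

namespace Cfsg.Agent.OmegaFivePlanes58

open QuadraticMap Module
open Cfsg.Agent.OrthUnitaryQuad Cfsg.Agent.OrthUnitaryPrelude Cfsg.Agent.OrthUnitaryRefl
  Cfsg.Agent.OrthUnitaryOmega Cfsg.Agent.OmegaClasses Cfsg.Agent.OmegaGeo
  Cfsg.Agent.OrthUnitarySimple Cfsg.Agent.OmegaStabSingular Cfsg.Agent.OmegaStabTools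
  Cfsg.Agent.OmegaDecomp Cfsg.Agent.OmegaDecompClass Cfsg.Agent.OmegaDecompGain
  Cfsg.Agent.OmegaDecompFull Cfsg.Agent.OmegaAnisoPlane Cfsg.Agent.OmegaFivePlanesGrow58
open Cfsg.Agent.QuadClassify (Nondeg Aniso exists_partner)

variable {F V : Type*} [Field F] [Fintype F] [AddCommGroup V] [Module F V] [FiniteDimensional F V]
  {Q : QuadraticForm F V} {t : ℕ} {D : Fin t → Submodule F V} {π : Fin t → V →ₗ[F] V}
  {M : Subgroup (orth Q)}

/-- An element exchanging two members and fixing a vector without components there. -/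
theorem exists_carry (hnd : (polarBilin Q).Nondegenerate) (hh : Planes Q D)
    (hπ : Comp Q D π) (hH : Contains M D) {i r : Fin t} (hri : r ≠ i)
    {u : V} (hui : π i u = 0) (hur : π r u = 0) :
    ∃ m ∈ M, m.1 u = u ∧ (∀ y ∈ D i, m.1 y ∈ D r) ∧
      ∀ s, s ≠ i → s ≠ r → ∀ y ∈ D s, m.1 y ∈ D s := by
  classical
  have hD := hh.dec
  obtain ⟨φ, hφ⟩ := hD.iso i r
  let a : V →ₗ[F] D i := (π i).codRestrict (D i) (hπ.mem i)
  let b : V →ₗ[F] D r := (π r).codRestrict (D r) (hπ.mem r)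
  let σ : V →ₗ[F] V := LinearMap.id - π i - π r + (D r).subtype ∘ₗ (φ : D i →ₗ[F] D r) ∘ₗ a
    + (D i).subtype ∘ₗ (φ.symm : D r →ₗ[F] D i) ∘ₗ b
  have hσ : ∀ x, σ x = x - π i x - π r x + (φ ⟨π i x, hπ.mem i x⟩ : V)
      + (φ.symm ⟨π r x, hπ.mem r x⟩ : V) := fun x => rfl
  have hσ' : ∀ x, σ (σ x) = x := by
    intro x
    have h1 : π i (σ x) = (φ.symm ⟨π r x, hπ.mem r x⟩ : V) := by
      rw [hσ, map_add, map_add, map_sub, map_sub, hπ.self hD (hπ.mem i x),
        hπ.other hD hri.symm (hπ.mem r x), hπ.other hD hri.symm (φ _).2, hπ.self hD (φ.symm _).2]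
      abel
    have h2 : π r (σ x) = (φ ⟨π i x, hπ.mem i x⟩ : V) := by
      rw [hσ, map_add, map_add, map_sub, map_sub, hπ.self hD (hπ.mem r x),
        hπ.other hD hri (hπ.mem i x), hπ.other hD hri (φ.symm _).2, hπ.self hD (φ _).2]
      abel
    conv_lhs => rw [hσ (σ x)]
    simp only [h1, h2, Subtype.coe_eta, LinearEquiv.apply_symm_apply, LinearEquiv.symm_apply_apply]
    rw [hσ]
    abel
  let σe : V ≃ₗ[F] V := LinearEquiv.ofInvolutive σ hσ'
  have hQσ : ∀ x, Q (σ x) = Q x := by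
    intro x
    have hval : ∀ j, Q (π j (σ x)) = Q (π ((Equiv.swap i r) j) x) := by
      intro j
      have hj : π j (σ x) = π j x - π j (π i x) - π j (π r x) + π j (φ ⟨π i x, hπ.mem i x⟩ : V)
          + π j (φ.symm ⟨π r x, hπ.mem r x⟩ : V) := by
        rw [hσ, map_add, map_add, map_sub, map_sub]
      rw [hj]
      rcases eq_or_ne j i with rfl | hji
      · rw [Equiv.swap_apply_left, hπ.self hD (hπ.mem j x),
          hπ.other hD hri.symm (hπ.mem r x), hπ.other hD hri.symm (φ _).2, hπ.self hD (φ.symm _).2]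
        simp only [sub_self, zero_add, sub_zero, add_zero]
        rw [← hφ, LinearEquiv.apply_symm_apply]
      rcases eq_or_ne j r with rfl | hjr
      · rw [Equiv.swap_apply_right, hπ.self hD (hπ.mem j x),
          hπ.other hD hri (hπ.mem i x), hπ.other hD hri (φ.symm _).2, hπ.self hD (φ _).2]
        simp only [sub_zero, sub_self, zero_add, add_zero]
        exact hφ _
      rw [Equiv.swap_apply_of_ne_of_ne hji hjr, hπ.other hD hji (hπ.mem i x),
        hπ.other hD hjr (hπ.mem r x), hπ.other hD hjr (φ _).2, hπ.other hD hji (φ.symm _).2]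
      simp
    rw [hπ.value hD (σ x), hπ.value hD x, Finset.sum_congr rfl fun j _ => hval j]
    exact Equiv.sum_comp (Equiv.swap i r) fun j => Q (π j x)
  let g : orth Q := ⟨σe, hQσ⟩
  have hexc : Fintype.card F ≠ 2 ∨ finrank F V ≠ 4 := Or.inr (by have := hh.dim_big; omega)
  obtain ⟨vs, hvs, hg⟩ := exists_rprod (reflGroup_top hnd hexc) g
  have hrepr : ∀ c : F, ∃ z ∈ D i, Q z = c := fun c =>
    nondeg_represents (hD.nd i) (by rw [hD.dim]) c
  have hfixu : ∀ (z : V), z ∈ D i → ∀ (hQz : Q z ≠ 0), (refl Q z hQz).1 u = u := fun z hz hQz =>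
    refl_fix z hQz (by rw [hπ.polar_eq i z hz u, hui, polar_zero_right])
  obtain ⟨h, ⟨hblocks, hhu⟩, hgh⟩ := exists_adjust hnd hexc
    (fun h => (∀ s, ∀ x ∈ D s, h.1 x ∈ D s) ∧ h.1 u = u) ⟨fun s x hx => hx, rfl⟩
    (fun a b ha hb => ⟨fun s x hx => ha.1 s _ (hb.1 s x hx), by rw [orth_mul_apply, hb.2, ha.2]⟩)
    hvs
    (fun _ => by
      obtain ⟨z, hz, hQz⟩ := hrepr 1
      have hz1 : Q z ≠ 0 := by rw [hQz]; exact one_ne_zero
      refine ⟨[z], by simpa [NS] using hz1, by simp, ?_⟩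
      rw [rprod_singleton hz1]
      exact ⟨fun s => refl_mem_block hD hz hz1, hfixu z hz hz1⟩)
    (fun c hc => Or.inr (by
      obtain ⟨z, hz, hQz⟩ := hrepr 1
      obtain ⟨z', hz', hQz'⟩ := hrepr c
      have hz1 : Q z ≠ 0 := by rw [hQz]; exact one_ne_zero
      have hz1' : Q z' ≠ 0 := by rw [hQz']; exact hc
      have hns : NS Q [z, z'] := by simp [NS, hz1, hz1']
      refine ⟨[z, z'], hns, even_two, by simp [hQz, hQz'], ?_⟩
      rw [rprod_cons hz1, rprod_singleton hz1']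
      exact ⟨fun s x hx => by
          rw [orth_mul_apply]; exact refl_mem_block hD hz hz1 _ (refl_mem_block hD hz' hz1' x hx),
        by rw [orth_mul_apply, hfixu z' hz' hz1', hfixu z hz hz1]⟩))
  rw [← hg] at hgh
  have hgmem : ∀ s, ∀ x ∈ D s, g.1 x ∈ D ((Equiv.swap i r) s) := by
    intro s x hx
    show σ x ∈ _
    rw [hσ]
    rcases eq_or_ne s i with rfl | hsi
    · rw [Equiv.swap_apply_left]
      simp only [hπ.self hD hx, hπ.other hD hri hx, sub_self, sub_zero, zero_add]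
      rw [show (⟨(0 : V), _⟩ : D r) = 0 from rfl, map_zero, Submodule.coe_zero, add_zero]
      exact (φ _).2
    rcases eq_or_ne s r with rfl | hsr
    · rw [Equiv.swap_apply_right]
      simp only [hπ.self hD hx, hπ.other hD hri.symm hx, sub_self, sub_zero, zero_add]
      rw [show (⟨(0 : V), _⟩ : D i) = 0 from rfl, map_zero, Submodule.coe_zero, zero_add]
      exact (φ.symm _).2
    rw [Equiv.swap_apply_of_ne_of_ne hsi hsr]
    simp only [hπ.other hD hsi.symm hx, hπ.other hD hsr.symm hx, sub_zero]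
    rw [show (⟨(0 : V), _⟩ : D i) = 0 from rfl, show (⟨(0 : V), _⟩ : D r) = 0 from rfl, map_zero,
      map_zero, Submodule.coe_zero, Submodule.coe_zero, add_zero, add_zero]
    exact hx
  refine ⟨g * h, hH _ hgh fun s => ⟨_, fun x hx => hgmem s _ (hblocks s x hx)⟩, ?_, fun y hy => ?_,
    fun s hsi hsr y hy => ?_⟩
  · rw [orth_mul_apply, hhu]
    show σ u = u
    rw [hσ]
    simp only [hui, hur, sub_zero]
    rw [show (⟨(0 : V), _⟩ : D i) = 0 from rfl, show (⟨(0 : V), _⟩ : D r) = 0 from rfl, map_zero,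
      map_zero, Submodule.coe_zero, Submodule.coe_zero, add_zero, add_zero]
  · have := hgmem i _ (hblocks i y hy)
    rwa [Equiv.swap_apply_left] at this
  · have := hgmem s _ (hblocks s y hy)
    rwa [Equiv.swap_apply_of_ne_of_ne hsi hsr] at this

/-- Reflecting one related vector in another gives a related vector. -/
theorem rep_refl {x y : V} (hx : Rep M D x) (hy : Rep M D y) (hc : Q y = Q x) :
    Rep M D ((refl Q x hx.1).1 y) := by
  obtain ⟨hQx, hxv⟩ := hx
  refine ⟨by rw [map_orth, hc]; exact hQx, fun p v hv hQv => ?_⟩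
  rw [map_orth, hc] at hQv
  have hxy : PairIn M x y := (hxv p v hv hQv).trans (hy.2 p v hv (hQv.trans hc.symm)).symm
  refine PairIn.trans ?_ (hxv p v hv hQv)
  obtain ⟨_, hQy, hm⟩ := hxy
  have hQ' : Q ((refl Q x hQx).1 y) ≠ 0 := by rw [map_orth]; exact hQy
  refine ⟨hQ', hQx, ?_⟩
  have e : refl Q ((refl Q x hQx).1 y) hQ' * refl Q x hQx = refl Q x hQx * refl Q y hQy := by
    rw [← conj_refl (refl Q x hQx) y hQy, mul_assoc, inv_mul_cancel, mul_one]
  rw [e]
  exact hm

theorem rep_map (hnd : (polarBilin Q).Nondegenerate) (hh : Planes Q D) (hH : Contains M D) {u : V}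
    (hu : Rep M D u) {m : orth Q} (hm : m ∈ M) {j j' : Fin t} {v : V} (hv : v ∈ D j)
    (hQv : Q v = Q u) (hmv : m.1 v ∈ D j') : Rep M D (m.1 u) :=
  rep_of_pair' hnd hh hH hmv ((hu.2 j v hv hQv).map hm)
    ⟨by rw [map_orth]; exact hu.1, by rw [map_orth, map_orth, hQv]; exact ⟨_, rfl⟩⟩

/-- A related vector with three components. -/
theorem exists_three (hnd : (polarBilin Q).Nondegenerate) (hh : Planes Q D) (hπ : Comp Q D π)
    (hH : Contains M D) {x : V} (hx : Rep M D x) (hmix : ∀ i, x ∉ D i) :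
    ∃ y, Rep M D y ∧ ∃ a b e, a ≠ b ∧ a ≠ e ∧ b ≠ e ∧ π a y ≠ 0 ∧ π b y ≠ 0 ∧ π e y ≠ 0 := by
  classical
  have hD := hh.dec
  have ht := hh.five
  have hx0 : x ≠ 0 := fun h => hx.1 (by rw [h, QuadraticMap.map_zero])
  obtain ⟨a, ha⟩ := hπ.exists_ne hx0
  obtain ⟨b, hba, hb⟩ := exists_other hπ hmix a
  by_cases h3 : ∃ e, e ≠ a ∧ e ≠ b ∧ π e x ≠ 0
  · obtain ⟨e, hea, heb, he⟩ := h3
    exact ⟨x, hx, a, b, e, hba.symm, hea.symm, heb.symm, ha, hb, he⟩
  push Not at h3
  have hsum : x = π a x + π b x := by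
    conv_lhs => rw [← hπ.sum x]
    rw [Finset.sum_eq_add a b hba.symm (fun r _ hr => h3 r hr.1 hr.2) (by simp) (by simp)]
  have hA := hπ.mem a x
  -- a second vector on the circle of the first component
  obtain ⟨p₀, hp₀, hp₀0⟩ := Submodule.exists_mem_ne_zero_of_ne_bot
    (p := D a ⊓ LinearMap.ker (polarBilin Q (π a x))) (fun h => by
      have := QuadClassify.finrank_ker_inf (D a) (polarBilin Q (π a x))
      rw [h, finrank_bot, hD.dim] at this
      omega)
  obtain ⟨A', hA', hQA', hA'1, hA'2⟩ :=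
    exists_off (hD.dim a) (hD.nd a) (hh.aniso a) hh.q3 hA ha (π a x) p₀
  have hAA' : polar Q (π a x) A' ≠ 0 := by
    intro h0
    obtain ⟨c, hc, -, hgen⟩ := exists_basis_vectors (hD.dim a) hp₀.1 hp₀0
    obtain ⟨u, v, huv⟩ := hgen A' hA'
    have hv : v ≠ 0 := fun h => hA'2 (Submodule.mem_span_singleton.2 ⟨u, by
      rw [← huv, h, zero_smul, add_zero]⟩)
    have hpc : polar Q (π a x) c = 0 := by
      rw [← huv, polar_add_right, polar_smul_right, polar_smul_right,
        show polar Q (π a x) p₀ = 0 from hp₀.2, smul_zero, zero_add, smul_eq_mul] at h0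
      exact (mul_eq_zero.1 h0).resolve_left hv
    refine ha (hD.nd a _ hA fun z hz => ?_)
    obtain ⟨u', v', rfl⟩ := hgen z hz
    rw [polar_add_right, polar_smul_right, polar_smul_right,
      show polar Q (π a x) p₀ = 0 from hp₀.2, hpc, smul_zero, smul_zero, add_zero]
  obtain ⟨r, -, hr⟩ := Finset.exists_mem_notMem_of_card_lt_card
    (s := ({a, b} : Finset (Fin t))) (t := Finset.univ) (by
      rw [Finset.card_univ, Fintype.card_fin]; exact lt_of_le_of_lt Finset.card_le_two (by omega))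
  simp only [Finset.mem_insert, Finset.mem_singleton, not_or] at hr
  -- rotate the first component
  set d := A' - π a x with hd
  have hdD : d ∈ D a := (D a).sub_mem hA' hA
  have hd0 : d ≠ 0 := sub_ne_zero.2 fun h => hA'1 (h ▸ Submodule.mem_span_singleton_self _)
  have hQd : Q d ≠ 0 := Q_ne (hh.aniso a) hdD hd0
  obtain ⟨z, hz, hQz⟩ := nondeg_represents (hD.nd r) (by rw [hD.dim]) (Q d)
  obtain ⟨_, hQz', hh1⟩ := pair_blocks' hnd hh hH hdD hz hQd
    ⟨by rw [hQz]; exact hQd, by rw [hQz]; exact ⟨_, rfl⟩⟩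
  set h1 := refl Q d hQd * refl Q z hQz'
  have hzx : polar Q z x = 0 := by
    rw [hπ.polar_eq r z hz x, h3 r hr.1 hr.2, polar_zero_right]
  have hdx : polar Q d x = -Q d := by
    rw [hπ.polar_eq a d hdD x, hd, sub_eq_add_neg, QuadraticMap.map_add (⇑Q), QuadraticMap.map_neg,
      polar_neg_right, polar_add_left, polar_neg_left, polar_self_mul, hQA']
    ring
  have hh1x : h1.1 x = A' + π b x := by
    rw [orth_mul_apply, refl_fix z hQz' hzx, refl_apply, hdx, mul_neg, inv_mul_cancel₀ hQd,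
      neg_one_smul, sub_neg_eq_add]
    conv_lhs => rw [hsum]
    rw [hd]; abel
  obtain ⟨v, hv, hQv⟩ := nondeg_represents (hD.nd b) (by rw [hD.dim]) (Q x)
  obtain ⟨m, hm, hmu, hmi, hmo⟩ := exists_carry hnd hh hπ hH (i := b) (r := r) hr.2
    (u := A') (hπ.other hD hba hA') (hπ.other hD hr.1 hA')
  have hx1 : Rep M D (h1.1 x) := rep_map hnd hh hH hx hh1 hv hQv (j' := b) (by
    rw [orth_mul_apply]
    exact refl_mem_block hD hdD hQd _ (refl_mem_block hD hz hQz' v hv))
  have hx2 : Rep M D (m.1 (h1.1 x)) := rep_map hnd hh hH hx1 hm hv (by rw [map_orth]; exact hQv)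
    (j' := r) (hmi v hv)
  set y := m.1 (h1.1 x) with hy
  have hyval : y = A' + m.1 (π b x) := by rw [hy, hh1x, map_add, hmu]
  have hmB := hmi _ (hπ.mem b x)
  have hQy : Q y = Q x := by rw [hy, map_orth, map_orth]
  refine ⟨(refl Q x hx.1).1 y, rep_refl hx hx2 hQy, a, b, r, hba.symm, Ne.symm hr.1,
    Ne.symm hr.2, ?_⟩
  set β := (Q x)⁻¹ * polar Q x y with hβ
  have hβ0 : β ≠ 0 := by
    refine mul_ne_zero (inv_ne_zero hx.1) ?_
    rw [hyval, polar_add_right, polar_comm Q x A', hπ.polar_eq a A' hA' x, polar_comm Q x,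
      hπ.polar_eq r _ hmB x, h3 r hr.1 hr.2, polar_zero_right, add_zero, polar_comm]
    exact hAA'
  have hcomp : ∀ s, π s ((refl Q x hx.1).1 y) = π s A' + π s (m.1 (π b x)) - β • π s x := fun s => by
    rw [refl_apply, ← hβ, map_sub, map_smul, hyval, map_add]
  refine ⟨?_, ?_, ?_⟩
  · rw [hcomp, hπ.self hD hA', hπ.other hD (Ne.symm hr.1) hmB, add_zero]
    exact fun h => hA'1 (Submodule.mem_span_singleton.2 ⟨β, (sub_eq_zero.1 h).symm⟩)
  · rw [hcomp, hπ.other hD hba hA', hπ.other hD (Ne.symm hr.2) hmB, zero_add, zero_sub, neg_ne_zero]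
    exact smul_ne_zero hβ0 hb
  · rw [hcomp, hπ.other hD hr.1 hA', hπ.self hD hmB, h3 r hr.1 hr.2, smul_zero, sub_zero, zero_add]
    exact fun h => hb (m.1.map_eq_zero_iff.1 h)

/-- In isometric planes the classes of orthogonal non-singular vectors have one product. -/
theorem perp_class (hD : Dec Q D 2) {i j : Fin t} {u v p q : V} (hu : u ∈ D i) (hv : v ∈ D i)
    (hp : p ∈ D j) (hq : q ∈ D j) (huv : polar Q u v = 0) (hpq : polar Q p q = 0) (hu0 : Q u ≠ 0)
    (hv0 : Q v ≠ 0) (hp0 : Q p ≠ 0) (hq0 : Q q ≠ 0) :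
    IsSquare (Q u * Q v * (Q p * Q q)) := by
  by_cases h2 : (2 : F) = 0
  · exact (sameClass_of_two h2 (b := Q p * Q q) (mul_ne_zero hp0 hq0)).2
  obtain ⟨φ, hφ⟩ := hD.iso i j
  set u' : V := (φ ⟨u, hu⟩ : V) with hu'
  set v' : V := (φ ⟨v, hv⟩ : V) with hv'
  have hQu : Q u' = Q u := hφ ⟨u, hu⟩
  have hQv : Q v' = Q v := hφ ⟨v, hv⟩
  have huv' : polar Q u' v' = 0 := by
    have h := hφ (⟨u, hu⟩ + ⟨v, hv⟩)
    rw [map_add, Submodule.coe_add, Submodule.coe_add, ← hu', ← hv', QuadraticMap.map_add (⇑Q),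
      QuadraticMap.map_add (⇑Q), hQu, hQv, huv] at h
    linear_combination h
  have hu'0 : u' ≠ 0 := fun h => hu0 (by rw [← hQu, h, QuadraticMap.map_zero])
  obtain ⟨b, hb, -, hgen⟩ := exists_basis_vectors (hD.dim j) (φ ⟨u, hu⟩).2 hu'0
  obtain ⟨x₀, y₀, hxy⟩ := hgen v' (φ ⟨v, hv⟩).2
  have hy₀ : y₀ ≠ 0 := fun h => by
    rw [h, zero_smul, add_zero] at hxy
    rw [← hxy, polar_smul_right, polar_self_mul, smul_eq_mul, hQu] at huv'
    rcases mul_eq_zero.1 huv' with h' | h'
    · exact hv0 (by rw [← hQv, ← hxy, h', zero_smul, QuadraticMap.map_zero])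
    · exact mul_ne_zero h2 hu0 h'
  have coord : ∀ z ∈ D j, ∃ α β : F, z = α • u' + β • v' := fun z hz => by
    obtain ⟨c, d, rfl⟩ := hgen z hz
    refine ⟨c - d / y₀ * x₀, d / y₀, ?_⟩
    rw [← hxy, smul_add, smul_smul, smul_smul, div_mul_cancel₀ _ hy₀]
    module
  obtain ⟨α, β, rfl⟩ := coord p hp
  obtain ⟨γ, δ, rfl⟩ := coord q hq
  have hval : ∀ a c : F, Q (a • u' + c • v') = a * a * Q u + c * c * Q v := fun a c => by
    rw [QuadraticMap.map_add (⇑Q), QuadraticMap.map_smul, QuadraticMap.map_smul, polar_smul_left,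
      polar_smul_right, huv', hQu, hQv]
    simp
  simp only [polar_add_left, polar_add_right, polar_smul_left, polar_smul_right, polar_self_mul, huv',
    (polar_comm _ v' u').trans huv', hQu, hQv, smul_eq_mul, mul_zero, add_zero, zero_add] at hpq
  have h0 : α * γ * Q u + β * δ * Q v = 0 :=
    mul_left_cancel₀ h2 (by linear_combination hpq)
  rw [hval, hval]
  refine ⟨Q u * Q v * (α * δ - β * γ), ?_⟩
  linear_combination (Q u * Q v * (α * γ * Q u + β * δ * Q v)) * h0

/-- Reflections in the members translating a vector by a singular vector of two of them. -/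
theorem exists_translation (hnd : (polarBilin Q).Nondegenerate) (hdim : 5 ≤ finrank F V)
    (hD : Dec Q D 2) (hπ : Comp Q D π) (hH : Contains M D) {x : V} (hns : ∀ i, Q (π i x) ≠ 0)
    {a b : Fin t} (hab : a ≠ b) {N : F} {da db : V} (hN : N ≠ 0) (hda : da ∈ D a) (hdb : db ∈ D b)
    (hQa : Q da = N) (hQb : Q db = -N) (hpa : polar Q da x = -N) (hpb : polar Q db x = N)
    (hgood : IsSquare (-1 : F) ∨ ∃ e e', ¬ IsSquare (Q (π e x) * Q (π e' x))) :
    ∃ h ∈ M, (∀ i, ∀ z ∈ D i, h.1 z ∈ D i) ∧ h.1 x = x + (da + db) := by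
  classical
  have na : Q da ≠ 0 := by rw [hQa]; exact hN
  have nb : Q db ≠ 0 := by rw [hQb]; exact neg_ne_zero.2 hN
  have hab' : polar Q da db = 0 := hD.orth a b hab da hda db hdb
  have hexc : Fintype.card F ≠ 2 ∨ finrank F V ≠ 4 := Or.inr (by omega)
  have hmove : (refl Q da na).1 ((refl Q db nb).1 x) = x + (da + db) := by
    rw [refl_apply Q db, hpb, hQb, inv_neg, neg_mul, inv_mul_cancel₀ hN, neg_one_smul,
      sub_neg_eq_add, refl_apply, polar_add_right, hpa, hab', hQa, add_zero, mul_neg,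
      inv_mul_cancel₀ hN, neg_one_smul, sub_neg_eq_add]
    abel
  by_cases h1 : IsSquare (-1 : F)
  · obtain ⟨r, hr⟩ := h1
    have hns' : NS Q [da, db] := by simp [NS, na, nb]
    have hblk : ∀ i, ∀ z ∈ D i, (rprod Q [da, db]).1 z ∈ D i := fun i z hz => by
      rw [rprod_cons na, rprod_singleton nb, orth_mul_apply]
      exact refl_mem_block hD hda na _ (refl_mem_block hD hdb nb z hz)
    refine ⟨rprod Q [da, db], hH _ ((rprod_mem_iff hnd hexc hns').2 ⟨even_two, N * r, ?_⟩)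
      fun i => ⟨i, hblk i⟩, hblk, ?_⟩
    · simp only [List.map_cons, List.map_nil, List.prod_cons, List.prod_nil, hQa, hQb]
      linear_combination (N ^ 2) * hr
    · rw [rprod_cons na, rprod_singleton nb, orth_mul_apply, hmove]
  obtain ⟨e, e', hee⟩ := hgood.resolve_left h1
  have h2 : (2 : F) ≠ 0 := fun h => hee (sameClass_of_two h (hns e')).2
  have fixer : ∀ i, ∃ w ∈ D i, Q w ≠ 0 ∧ polar Q w x = 0 ∧ polar Q (π i x) w = 0 := fun i => by
    obtain ⟨w, hw, hw0⟩ := Submodule.exists_mem_ne_zero_of_ne_bot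
      (p := D i ⊓ LinearMap.ker (polarBilin Q (π i x))) (fun hb => by
        have := QuadClassify.finrank_ker_inf (D i) (polarBilin Q (π i x))
        rw [hb, finrank_bot, hD.dim] at this
        omega)
    have hxw : polar Q (π i x) w = 0 := hw.2
    refine ⟨w, hw.1, fun hQw => hw0 (hD.nd i w hw.1 fun z hz => ?_),
      by rw [hπ.polar_eq i w hw.1 x, polar_comm]; exact hxw, hxw⟩
    have hx0 : π i x ≠ 0 := fun h => hns i (by rw [h, QuadraticMap.map_zero])
    obtain ⟨c, hc, -, hgen⟩ := exists_basis_vectors (hD.dim i) (hπ.mem i x) hx0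
    obtain ⟨α, β, hαβ⟩ := hgen w hw.1
    have hβ : β ≠ 0 := fun h => by
      rw [h, zero_smul, add_zero] at hαβ
      rw [← hαβ, polar_smul_right, polar_self_mul, smul_eq_mul] at hxw
      rcases mul_eq_zero.1 hxw with h' | h'
      · exact hw0 (by rw [← hαβ, h', zero_smul])
      · exact mul_ne_zero h2 (hns i) h'
    have hww : polar Q w w = 0 := by rw [polar_self_mul, hQw, mul_zero]
    have hwc : polar Q w c = 0 := by
      have h3 : polar Q w (α • π i x + β • c) = 0 := by rw [hαβ, hww]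
      rw [polar_add_right, polar_smul_right, polar_smul_right, (polar_comm _ w _).trans hxw,
        smul_zero, zero_add, smul_eq_mul] at h3
      exact (mul_eq_zero.1 h3).resolve_left hβ
    obtain ⟨γ, δ, rfl⟩ := hgen z hz
    rw [polar_add_right, polar_smul_right, polar_smul_right, (polar_comm _ w _).trans hxw, hwc,
      smul_zero, smul_zero, add_zero]
  obtain ⟨w, hw, nw, hwx, hxw⟩ := fixer e
  obtain ⟨w', hw', nw', hwx', hxw'⟩ := fixer e'
  have hsq := perp_class hD (hπ.mem e x) hw (hπ.mem e' x) hw' hxw hxw' (hns e) nw (hns e') nw'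
  have hsq' : ¬ IsSquare (Q w * Q w') := fun ⟨k, hk⟩ => hee (by
    obtain ⟨l, hl⟩ := hsq
    refine ⟨l / k, ?_⟩
    have hk0 : k ≠ 0 := fun h => mul_ne_zero nw nw' (by rw [hk, h, zero_mul])
    field_simp
    linear_combination hl - Q (π e x) * Q (π e' x) * hk)
  have hns' : NS Q [da, db, w, w'] := by simp [NS, na, nb, nw, nw']
  have hblk : ∀ i, ∀ z ∈ D i, (rprod Q [da, db, w, w']).1 z ∈ D i := fun i z hz => by
    rw [rprod_cons na, rprod_cons nb, rprod_cons nw, rprod_singleton nw']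
    simp only [orth_mul_apply]
    exact refl_mem_block hD hda na _ (refl_mem_block hD hdb nb _
      (refl_mem_block hD hw nw _ (refl_mem_block hD hw' nw' z hz)))
  have hprod : IsSquare (-(Q w * Q w')) := by
    have hm : quadraticChar F (-(Q w * Q w')) = 1 := by
      rw [show -(Q w * Q w') = (-1 : F) * (Q w * Q w') by ring, map_mul,
        quadraticChar_neg_one_iff_not_isSquare.2 h1, quadraticChar_neg_one_iff_not_isSquare.2 hsq']
      norm_num
    exact (quadraticChar_one_iff_isSquare (neg_ne_zero.2 (mul_ne_zero nw nw'))).1 hm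
  obtain ⟨r, hr⟩ := hprod
  refine ⟨rprod Q [da, db, w, w'], hH _ ((rprod_mem_iff hnd hexc hns').2 ⟨⟨2, rfl⟩, N * r, ?_⟩)
    fun i => ⟨i, hblk i⟩, hblk, ?_⟩
  · simp only [List.map_cons, List.map_nil, List.prod_cons, List.prod_nil, hQa, hQb]
    linear_combination (N ^ 2) * hr
  · rw [rprod_cons na, rprod_cons nb, rprod_cons nw, rprod_singleton nw']
    simp only [orth_mul_apply]
    rw [refl_fix w' nw' hwx', refl_fix w nw hwx, hmove]

omit [Fintype F] in
/-- A Siegel element maps a vector of a member off its centre to one with opposite classes. -/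
theorem shear_comp (hD : Dec Q D 2) (hπ : Comp Q D π) {d w y : V} {r : Fin t} (hdr : π r d = 0)
    (hy : y ∈ D r) (hQd : Q d = 0) (hdw : polar Q d w = 0) {i : Fin t} (hir : i ≠ r) :
    π i ((siegel Q d w hQd hdw).1 y) = -(polar Q w y) • π i d := by
  have hdy : polar Q d y = 0 := by rw [polar_comm, hπ.polar_eq r y hy d, hdr, polar_zero_right]
  rw [siegel_apply, hdy]
  simp [hπ.other hD hir hy]

/-- A member-preserving element translating a related vector gives a Siegel element. -/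
theorem smem_of_translate (hnd : (polarBilin Q).Nondegenerate) (hh : Planes Q D) (hH : Contains M D)
    {x d : V} (hx : Rep M D x) {h : orth Q} (hhM : h ∈ M) (hblk : ∀ r, ∀ z ∈ D r, h.1 z ∈ D r)
    (hhx : h.1 x = x + d) (hQd : Q d = 0) (hdx : polar Q d x = 0) : SMem M d ((Q x)⁻¹ • x) := by
  have hD := hh.dec
  have ht := hh.five
  let r2 : Fin t := ⟨0, by omega⟩
  obtain ⟨v, hv, hQv⟩ := nondeg_represents (hD.nd r2) (by rw [hD.dim]) (Q x)
  have hrep := rep_map hnd hh hH hx hhM hv hQv (hblk r2 v hv)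
  obtain ⟨_, _, hm⟩ := (hx.2 r2 v hv hQv).trans (hrep.2 r2 v hv (by rw [map_orth]; exact hQv)).symm
  have hca : (Q x)⁻¹ ≠ 0 := inv_ne_zero hx.1
  have hdw : polar Q d ((Q x)⁻¹ • x) = 0 := by rw [polar_smul_right, hdx, smul_zero]
  have hQw : Q ((Q x)⁻¹ • x) ≠ 0 := by
    rw [QuadraticMap.map_smul, smul_eq_mul]; exact mul_ne_zero (mul_ne_zero hca hca) hx.1
  have e : (Q x)⁻¹ • x + Q ((Q x)⁻¹ • x) • d = (Q x)⁻¹ • h.1 x := by
    have hQ' : Q ((Q x)⁻¹ • x) = (Q x)⁻¹ := by
      rw [QuadraticMap.map_smul, smul_eq_mul, mul_assoc, inv_mul_cancel₀ hx.1, mul_one]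
    rw [hQ', hhx, smul_add]
  refine ⟨hQd, hdw, ?_⟩
  rw [siegel_eq_refl_mul hQd hdw hQw, refl_smul x hx.1 hca, refl_congr e, refl_smul _ _ hca]
  exact hm

/-- A Siegel element moving outside the support of its centre, for a vector with a vanishing
component or with usable classes. -/
theorem exists_outside_good (hnd : (polarBilin Q).Nondegenerate) (hh : Planes Q D) (hπ : Comp Q D π)
    (hH : Contains M D) {x : V} (hx : Rep M D x) {a b e : Fin t} (hab : a ≠ b) (hae : a ≠ e)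
    (hbe : b ≠ e) (ha : π a x ≠ 0) (hb : π b x ≠ 0) (he : π e x ≠ 0)
    (hgood : (∃ r₀, π r₀ x = 0) ∨ IsSquare (-1 : F) ∨ ∃ u u', ¬ IsSquare (Q (π u x) * Q (π u' x))) :
    ∃ (d w : V) (r1 r2 : Fin t), d ≠ 0 ∧ SMem M d w ∧ π r1 w ≠ 0 ∧ r2 ≠ r1 ∧
      π r1 d = 0 ∧ π r2 d = 0 := by
  classical
  have hD := hh.dec
  have ht := hh.five
  obtain ⟨N, hN, ⟨da, hda, hQa, hpa'⟩, db, hdb, hQb, hpb'⟩ := exists_opposite (hD.dim a) (hD.nd a)
    (hh.aniso a) (hD.dim b) (hD.nd b) (hh.aniso b) (hπ.mem a x) ha (hπ.mem b x) hb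
  have hpa : polar Q da x = -N := by rw [hπ.polar_eq a da hda x]; exact hpa'
  have hpb : polar Q db x = N := by rw [hπ.polar_eq b db hdb x]; exact hpb'
  have hd0 : da + db ≠ 0 := fun h => hN (by
    have := congrArg (π a) h
    rw [map_add, hπ.self hD hda, hπ.other hD hab hdb, add_zero, map_zero] at this
    rw [← hQa, this, QuadraticMap.map_zero])
  have hQd : Q (da + db) = 0 := by
    rw [QuadraticMap.map_add (⇑Q), hQa, hQb, hD.orth a b hab da hda db hdb]; ring
  have hdx : polar Q (da + db) x = 0 := by rw [polar_add_left, hpa, hpb]; ring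
  have hoff : ∀ r, r ≠ a → r ≠ b → π r (da + db) = 0 := fun r h h' => by
    rw [map_add, hπ.other hD h hda, hπ.other hD h' hdb, add_zero]
  obtain ⟨r', -, hr'⟩ := Finset.exists_mem_notMem_of_card_lt_card
    (s := ({a, b, e} : Finset (Fin t))) (t := Finset.univ) (by
      rw [Finset.card_univ, Fintype.card_fin]; exact lt_of_le_of_lt Finset.card_le_three (by omega))
  simp only [Finset.mem_insert, Finset.mem_singleton, not_or] at hr'
  have hwe : π e ((Q x)⁻¹ • x) ≠ 0 := by rw [map_smul]; exact smul_ne_zero (inv_ne_zero hx.1) he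
  obtain ⟨h, hhM, hblk, hhx⟩ : ∃ h ∈ M, (∀ i, ∀ z ∈ D i, h.1 z ∈ D i) ∧
      h.1 x = x + (da + db) := by
    by_cases hzero : ∃ r₀, π r₀ x = 0
    · obtain ⟨r₀, hr₀⟩ := hzero
      obtain ⟨z, hz, hQz⟩ := nondeg_represents (hD.nd r₀) (by rw [hD.dim]) N
      obtain ⟨z', hz', hQz'⟩ := nondeg_represents (hD.nd r₀) (by rw [hD.dim]) (-N)
      have na : Q da ≠ 0 := by rw [hQa]; exact hN
      have nb : Q db ≠ 0 := by rw [hQb]; exact neg_ne_zero.2 hN
      obtain ⟨_, nz, hm1⟩ := pair_blocks' hnd hh hH hda hz na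
        ⟨by rw [hQz]; exact hN, by rw [hQa, hQz]; exact ⟨_, rfl⟩⟩
      obtain ⟨_, nz', hm2⟩ := pair_blocks' hnd hh hH hdb hz' nb
        ⟨by rw [hQz']; exact neg_ne_zero.2 hN, by rw [hQb, hQz']; exact ⟨_, rfl⟩⟩
      have hzx : ∀ u ∈ D r₀, polar Q u x = 0 := fun u hu => by
        rw [hπ.polar_eq r₀ u hu x, hr₀, polar_zero_right]
      have hr₀b : r₀ ≠ b := fun h => hb (h ▸ hr₀)
      refine ⟨refl Q da na * refl Q z nz * (refl Q db nb * refl Q z' nz'), M.mul_mem hm1 hm2,
        fun i u hu => ?_, ?_⟩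
      · simp only [orth_mul_apply]
        exact refl_mem_block hD hda na _ (refl_mem_block hD hz nz _
          (refl_mem_block hD hdb nb _ (refl_mem_block hD hz' nz' u hu)))
      · simp only [orth_mul_apply]
        rw [refl_fix z' nz' (hzx z' hz'), refl_apply Q db, hpb, hQb, inv_neg, neg_mul,
          inv_mul_cancel₀ hN, neg_one_smul, sub_neg_eq_add, refl_fix z nz (by
            rw [polar_add_right, hzx z hz, hD.orth r₀ b hr₀b z hz db hdb, add_zero]),
          refl_apply, polar_add_right, hpa, hD.orth a b hab da hda db hdb, hQa, add_zero, mul_neg,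
          inv_mul_cancel₀ hN, neg_one_smul, sub_neg_eq_add]
        abel
    · push Not at hzero
      exact exists_translation hnd hh.dim_big hD hπ hH
        (fun i => Q_ne (hh.aniso i) (hπ.mem i x) (hzero i)) hab hN hda hdb hQa hQb hpa hpb
        (hgood.resolve_left fun ⟨r, hr⟩ => hzero r hr)
  exact ⟨da + db, (Q x)⁻¹ • x, e, r', hd0, smem_of_translate hnd hh hH hx hhM hblk hhx hQd hdx,
    hwe, hr'.2.2, hoff e hae.symm hbe.symm, hoff r' hr'.1 hr'.2.1⟩

/-- A Siegel element moving outside the support of its centre. -/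
theorem exists_outside (hnd : (polarBilin Q).Nondegenerate) (hh : Planes Q D) (hπ : Comp Q D π)
    (hH : Contains M D) {x : V} (hx : Rep M D x) {a b e : Fin t} (hab : a ≠ b) (hae : a ≠ e)
    (hbe : b ≠ e) (ha : π a x ≠ 0) (hb : π b x ≠ 0) (he : π e x ≠ 0) :
    ∃ (d w : V) (r1 r2 : Fin t), d ≠ 0 ∧ SMem M d w ∧ π r1 w ≠ 0 ∧ r2 ≠ r1 ∧
      π r1 d = 0 ∧ π r2 d = 0 := by
  classical
  by_cases hgood : (∃ r₀, π r₀ x = 0) ∨ IsSquare (-1 : F) ∨
      ∃ u u', ¬ IsSquare (Q (π u x) * Q (π u' x))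
  · exact exists_outside_good hnd hh hπ hH hx hab hae hbe ha hb he hgood
  push Not at hgood
  obtain ⟨hzero, hneg, -⟩ := hgood
  have hD := hh.dec
  have ht := hh.five
  have pick : ∀ (i j : Fin t), π i x ≠ 0 → π j x ≠ 0 → ∃ (N : F) (di dj : V), N ≠ 0 ∧ di ∈ D i ∧
      dj ∈ D j ∧ Q di = N ∧ Q dj = -N ∧ polar Q di x = -N ∧ polar Q dj x = N := by
    intro i j hi hj
    obtain ⟨N, hN, ⟨di, hdi, hQi, hpi⟩, dj, hdj, hQj, hpj⟩ := exists_opposite (hD.dim i) (hD.nd i)
      (hh.aniso i) (hD.dim j) (hD.nd j) (hh.aniso j) (hπ.mem i x) hi (hπ.mem j x) hj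
    exact ⟨N, di, dj, hN, hdi, hdj, hQi, hQj, by rw [hπ.polar_eq i di hdi x]; exact hpi,
      by rw [hπ.polar_eq j dj hdj x]; exact hpj⟩
  obtain ⟨N, d₁, d₂, hN, hd₁, hd₂, hQ₁, hQ₂, hp₁, hp₂⟩ :=
    pick ⟨0, by omega⟩ ⟨1, by omega⟩ (hzero _) (hzero _)
  obtain ⟨N', d₃, d₄, hN', hd₃, hd₄, hQ₃, hQ₄, hp₃, hp₄⟩ :=
    pick ⟨2, by omega⟩ ⟨3, by omega⟩ (hzero _) (hzero _)
  have hne : ∀ {i j : ℕ} (hi : i < t) (hj : j < t), i ≠ j → (⟨i, hi⟩ : Fin t) ≠ ⟨j, hj⟩ :=
    fun _ _ h h' => h (Fin.mk.inj h')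
  have n1 : Q d₁ ≠ 0 := by rw [hQ₁]; exact hN
  have n2 : Q d₂ ≠ 0 := by rw [hQ₂]; exact neg_ne_zero.2 hN
  have n3 : Q d₃ ≠ 0 := by rw [hQ₃]; exact hN'
  have n4 : Q d₄ ≠ 0 := by rw [hQ₄]; exact neg_ne_zero.2 hN'
  have hns : NS Q [d₁, d₂, d₃, d₄] := by simp [NS, n1, n2, n3, n4]
  have o12 := hD.orth _ _ (hne _ _ (show 0 ≠ 1 by omega)) d₁ hd₁ d₂ hd₂
  have o13 := hD.orth _ _ (hne _ _ (show 0 ≠ 2 by omega)) d₁ hd₁ d₃ hd₃
  have o14 := hD.orth _ _ (hne _ _ (show 0 ≠ 3 by omega)) d₁ hd₁ d₄ hd₄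
  have o23 := hD.orth _ _ (hne _ _ (show 1 ≠ 2 by omega)) d₂ hd₂ d₃ hd₃
  have o24 := hD.orth _ _ (hne _ _ (show 1 ≠ 3 by omega)) d₂ hd₂ d₄ hd₄
  have o34 := hD.orth _ _ (hne _ _ (show 2 ≠ 3 by omega)) d₃ hd₃ d₄ hd₄
  have hblocks : ∀ i, ∀ z ∈ D i, (rprod Q [d₁, d₂, d₃, d₄]).1 z ∈ D i := by
    intro i z hz
    rw [rprod_cons n1, rprod_cons n2, rprod_cons n3, rprod_singleton n4]
    simp only [orth_mul_apply]
    exact refl_mem_block hD hd₁ n1 _ (refl_mem_block hD hd₂ n2 _
      (refl_mem_block hD hd₃ n3 _ (refl_mem_block hD hd₄ n4 z hz)))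
  have hcomm : rprod Q [d₁, d₂, d₃, d₄] ∈ commutator (orth Q) :=
    (rprod_mem_iff hnd (Or.inr (by have := hh.dim_big; omega)) hns).2
      ⟨⟨2, rfl⟩, N * N', by simp [hQ₁, hQ₂, hQ₃, hQ₄]; ring⟩
  set d := d₁ + d₂ + d₃ + d₄ with hd
  have hQd : Q d = 0 := by
    simp only [hd, QuadraticMap.map_add (⇑Q), polar_add_left, hQ₁, hQ₂, hQ₃, hQ₄, o12, o13, o14, o23,
      o24, o34]
    ring
  have hdx : polar Q d x = 0 := by
    rw [hd, polar_add_left, polar_add_left, polar_add_left, hp₁, hp₂, hp₃, hp₄]; ring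
  have hhx : (rprod Q [d₁, d₂, d₃, d₄]).1 x = x + d := by
    rw [hd, rprod_cons n1, rprod_cons n2, rprod_cons n3, rprod_singleton n4]
    simp only [orth_mul_apply]
    have e4 : (refl Q d₄ n4).1 x = x + d₄ := by
      rw [refl_apply, hp₄, hQ₄, inv_neg, neg_mul, inv_mul_cancel₀ hN', neg_one_smul, sub_neg_eq_add]
    have e3 : (refl Q d₃ n3).1 (x + d₄) = x + d₄ + d₃ := by
      rw [refl_apply, polar_add_right, hp₃, o34, hQ₃, add_zero, mul_neg, inv_mul_cancel₀ hN',
        neg_one_smul, sub_neg_eq_add]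
    have e2 : (refl Q d₂ n2).1 (x + d₄ + d₃) = x + d₄ + d₃ + d₂ := by
      rw [refl_apply, polar_add_right, polar_add_right, hp₂, o24, o23, hQ₂, add_zero, add_zero,
        inv_neg, neg_mul, inv_mul_cancel₀ hN, neg_one_smul, sub_neg_eq_add]
    rw [e4, e3, e2, refl_apply, polar_add_right, polar_add_right, polar_add_right, hp₁, o14, o13,
      o12, hQ₁, add_zero, add_zero, add_zero, mul_neg, inv_mul_cancel₀ hN, neg_one_smul,
      sub_neg_eq_add]
    abel
  obtain ⟨hQd', hdw, hS⟩ := smem_of_translate hnd hh hH hx (hH _ hcomm fun i => ⟨i, hblocks i⟩) hblocks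
    hhx hQd hdx
  set w := (Q x)⁻¹ • x with hw
  let i0 : Fin t := ⟨0, by omega⟩
  let i1 : Fin t := ⟨1, by omega⟩
  let r : Fin t := ⟨4, by omega⟩
  have h01 : i0 ≠ i1 := hne _ _ (by omega)
  have h0r : i0 ≠ r := hne _ _ (by omega)
  have h1r : i1 ≠ r := hne _ _ (by omega)
  have hd0 : π i0 d = d₁ := by
    rw [hd, map_add, map_add, map_add, hπ.self hD hd₁, hπ.other hD (hne _ _ (by omega)) hd₂,
      hπ.other hD (hne _ _ (by omega)) hd₃, hπ.other hD (hne _ _ (by omega)) hd₄, add_zero, add_zero,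
      add_zero]
  have hd1 : π i1 d = d₂ := by
    rw [hd, map_add, map_add, map_add, hπ.other hD (hne _ _ (by omega)) hd₁, hπ.self hD hd₂,
      hπ.other hD (hne _ _ (by omega)) hd₃, hπ.other hD (hne _ _ (by omega)) hd₄, zero_add, add_zero,
      add_zero]
  have hdr : π r d = 0 := by
    rw [hd, map_add, map_add, map_add, hπ.other hD (hne _ _ (by omega)) hd₁,
      hπ.other hD (hne _ _ (by omega)) hd₂, hπ.other hD (hne _ _ (by omega)) hd₃,
      hπ.other hD (hne _ _ (by omega)) hd₄, add_zero, add_zero, add_zero]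
  -- a vector of the member off the centre, moved
  obtain ⟨z₀, hz₀, hz₀0⟩ := Submodule.exists_mem_ne_zero_of_ne_bot
    (p := D r ⊓ LinearMap.ker (polarBilin Q w)) (fun hb => by
      have := QuadClassify.finrank_ker_inf (D r) (polarBilin Q w)
      rw [hb, finrank_bot, hD.dim] at this
      omega)
  have hzw : polar Q w z₀ = 0 := hz₀.2
  obtain ⟨y, hy, hQy, hspan, -⟩ :=
    exists_off (hD.dim r) (hD.nd r) (hh.aniso r) hh.q3 hz₀.1 hz₀0 z₀ z₀
  have hwr : π r w ≠ 0 := by rw [hw, map_smul]; exact smul_ne_zero (inv_ne_zero hx.1) (hzero r)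
  have hwy : polar Q w y ≠ 0 := by
    intro h0
    obtain ⟨c, hc, -, hgen⟩ := exists_basis_vectors (hD.dim r) hz₀.1 hz₀0
    obtain ⟨α, β, hαβ⟩ := hgen y hy
    have hβ : β ≠ 0 := fun h => hspan (Submodule.mem_span_singleton.2 ⟨α, by
      rw [← hαβ, h, zero_smul, add_zero]⟩)
    rw [← hαβ, polar_add_right, polar_smul_right, polar_smul_right, hzw, smul_zero, zero_add,
      smul_eq_mul] at h0
    have hwc : polar Q w c = 0 := (mul_eq_zero.1 h0).resolve_left hβ
    refine hwr (hD.nd r _ (hπ.mem r w) fun z hz => ?_)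
    rw [polar_comm, ← hπ.polar_eq r z hz w, polar_comm]
    obtain ⟨γ, δ, rfl⟩ := hgen z hz
    rw [polar_add_right, polar_smul_right, polar_smul_right, hzw, hwc, smul_zero, smul_zero,
      add_zero]
  have hQz₀ : Q z₀ ≠ 0 := Q_ne (hh.aniso r) hz₀.1 hz₀0
  have hpair := (pair_blocks' hnd hh hH hy hz₀.1 (by rw [hQy]; exact hQz₀)
    ⟨hQz₀, by rw [hQy]; exact ⟨_, rfl⟩⟩).map hS
  rw [show (siegel Q d w hQd' hdw).1 z₀ = z₀ by
    rw [siegel_apply, (polar_comm _ d z₀).trans (by rw [hπ.polar_eq r z₀ hz₀.1 d, hdr, polar_zero_right]),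
      hzw]
    simp] at hpair
  set x' := (siegel Q d w hQd' hdw).1 y with hx'
  have hrep : Rep M D x' := rep_of_pair' hnd hh hH hz₀.1 hpair
    ⟨by rw [hx', map_orth, hQy]; exact hQz₀, by rw [hx', map_orth, hQy]; exact ⟨_, rfl⟩⟩
  have hi : ∀ i, i ≠ r → π i x' = -(polar Q w y) • π i d := fun i h =>
    shear_comp hD hπ hdr hy hQd' hdw h
  have hr : π r x' ≠ 0 := by
    have hdy : polar Q d y = 0 := by rw [polar_comm, hπ.polar_eq r y hy d, hdr, polar_zero_right]
    rw [hx', siegel_apply, hdy]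
    simp only [map_add, map_sub, map_smul, hπ.self hD hy, hdr, smul_zero, zero_smul, mul_zero,
      add_zero, sub_zero]
    exact fun h => hQz₀ (by rw [← hQy, h, QuadraticMap.map_zero])
  refine exists_outside_good hnd hh hπ hH hrep h01 h0r h1r ?_ ?_ hr
    (Or.inr (Or.inr ⟨i0, i1, fun hsq => hneg ?_⟩))
  · rw [hi i0 h0r, hd0]
    exact smul_ne_zero (neg_ne_zero.2 hwy) fun h => n1 (by rw [h, QuadraticMap.map_zero])
  · rw [hi i1 h1r, hd1]
    exact smul_ne_zero (neg_ne_zero.2 hwy) fun h => n2 (by rw [h, QuadraticMap.map_zero])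
  · rw [hi i0 h0r, hi i1 h1r, hd0, hd1, QuadraticMap.map_smul, QuadraticMap.map_smul, hQ₁, hQ₂] at hsq
    obtain ⟨k, hk⟩ := hsq
    refine ⟨k / (polar Q w y * polar Q w y * N), ?_⟩
    simp only [smul_eq_mul] at hk
    field_simp
    linear_combination hk

/-- All Siegel elements towards the members off the support of `d`. -/
def Out (M : Subgroup (orth Q)) (π : Fin t → V →ₗ[F] V) (d : V) : Prop :=
  ∀ y, (∀ r, π r d ≠ 0 → π r y = 0) → SMem M d y

/-- One Siegel element reaching outside gives all members outside. -/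
theorem out_of_mem (hnd : (polarBilin Q).Nondegenerate) (hh : Planes Q D) (hπ : Comp Q D π)
    (hH : Contains M D) {d w : V} {r : Fin t} (hs : SMem M d w) (hdr : π r d = 0) (hwr : π r w ≠ 0)
    (hfree : ∀ i, ∃ j, j ≠ i ∧ π j d = 0) : Out M π d := by
  classical
  have hD := hh.dec
  have hQd := hs.1
  have hd : ∀ i, π i d = 0 → ∀ z ∈ D i, polar Q z d = 0 := fun i hi z hz => by
    rw [hπ.polar_eq i z hz d, hi, polar_zero_right]
  have block : ∀ i, π i d = 0 → ∀ y ∈ D i, SMem M d y → y ≠ 0 → ∀ z ∈ D i, SMem M d z := by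
    intro i hi y hy hsy hy0
    let A : AddSubgroup V :=
      { carrier := {z | z ∈ D i ∧ SMem M d z}
        add_mem' := fun ha hb => ⟨(D i).add_mem ha.1 hb.1, ha.2.add hb.2⟩
        zero_mem' := ⟨(D i).zero_mem, SMem.zero hQd⟩
        neg_mem' := fun ha => ⟨(D i).neg_mem ha.1, ha.2.neg⟩ }
    have hA := plane_all (hD.dim i) (hD.nd i) (hh.aniso i) hh.q3 A (fun a ha => ha.1)
      (fun p hp hQp a ha => by
        obtain ⟨j, hji, hj⟩ := hfree i
        obtain ⟨z, hz, hQz⟩ := nondeg_represents (hD.nd j) (by rw [hD.dim]) (Q p)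
        obtain ⟨_, nz, hm⟩ := pair_blocks' hnd hh hH hp hz hQp
          ⟨by rw [hQz]; exact hQp, by rw [hQz]; exact ⟨_, rfl⟩⟩
        refine ⟨refl_mem_block hD hp hQp a ha.1, ?_⟩
        have := ha.2.conj hm (by
          rw [orth_mul_apply, refl_fix z nz (hd j hj z hz), refl_fix p hQp (hd i hi p hp)])
        rwa [orth_mul_apply, refl_fix_block hD hji hz nz ha.1] at this)
      (y := y) ⟨hy, hsy⟩ hy0
    exact fun z hz => (hA z hz).2
  -- a first vector in the member `r`
  have hwr' := hπ.mem r w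
  obtain ⟨p, hp, hpw⟩ : ∃ p ∈ D r, polar Q p w ≠ 0 := by
    by_contra h
    push Not at h
    exact hwr (hD.nd r _ hwr' fun z hz => by
      rw [polar_comm, ← hπ.polar_eq r z hz w]; exact h z hz)
  have hp0 : p ≠ 0 := fun h => hpw (by rw [h, polar_zero_left])
  obtain ⟨p', hp', hQp', hspan, -⟩ := exists_off (hD.dim r) (hD.nd r) (hh.aniso r) hh.q3 hp hp0 p p
  have hQp : Q p ≠ 0 := Q_ne (hh.aniso r) hp hp0
  obtain ⟨_, np', hm⟩ := pair_blocks' hnd hh hH hp hp' hQp
    ⟨by rw [hQp']; exact hQp, by rw [hQp']; exact ⟨_, rfl⟩⟩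
  set m := refl Q p hQp * refl Q p' np' with hmdef
  have hmd : m.1 d = d := by
    rw [hmdef, orth_mul_apply, refl_fix p' np' (hd r hdr p' hp'), refl_fix p hQp (hd r hdr p hp)]
  have hdiff : m.1 w - w = -(((Q p)⁻¹ * polar Q p ((refl Q p' np').1 w)) • p +
      ((Q p')⁻¹ * polar Q p' w) • p') := by
    rw [hmdef, orth_mul_apply, refl_apply Q p hQp, refl_apply Q p' np']; abel
  have hy₀ : SMem M d (m.1 w - w) := by
    rw [sub_eq_add_neg]; exact (hs.conj hm hmd).add hs.neg
  have hyr : m.1 w - w ∈ D r := by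
    rw [hdiff]
    exact (D r).neg_mem ((D r).add_mem ((D r).smul_mem _ hp) ((D r).smul_mem _ hp'))
  have hy0 : m.1 w - w ≠ 0 := by
    intro h0
    rw [hdiff, neg_eq_zero] at h0
    obtain ⟨e1, e2⟩ := indep_pair hp0 hspan _ _ h0
    rw [refl_apply Q p' np', e2, zero_smul, sub_zero] at e1
    exact mul_ne_zero (inv_ne_zero hQp) hpw e1
  have hall : ∀ i, π i d = 0 → ∀ z ∈ D i, SMem M d z := by
    intro i hi
    rcases eq_or_ne i r with rfl | hir
    · exact block i hi _ hyr hy₀ hy0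
    obtain ⟨k, hk, hkd, hkr, -⟩ := exists_carry hnd hh hπ hH hir hdr hi
    exact block i hi _ (hkr _ hyr) (hy₀.conj hk hkd) fun h => hy0 (k.1.map_eq_zero_iff.1 h)
  intro y hy
  have hcomp : ∀ i, SMem M d (π i y) := fun i => by
    by_cases hi : π i d = 0
    · exact hall i hi _ (hπ.mem i y)
    · rw [hy i hi]; exact SMem.zero hQd
  have := Finset.sum_induction (fun i => π i y) (SMem M d) (fun a b => SMem.add) (SMem.zero hQd)
    (s := Finset.univ) (fun i _ => hcomp i)
  rwa [hπ.sum y] at this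

theorem swap_mem {d e : V} (h : SMem M d e) (hQe : Q e = 0) : SMem M e (-d) := by
  obtain ⟨hd, hde, hm⟩ := h
  have hed : polar Q e (-d) = 0 := by rw [polar_neg_right, polar_comm, hde, neg_zero]
  refine ⟨hQe, hed, ?_⟩
  have : siegel Q e (-d) hQe hed = siegel Q d e hd hde := orth_ext fun z => by
    rw [siegel_apply, siegel_apply, QuadraticMap.map_neg, hd, hQe, polar_neg_left, zero_mul,
      zero_mul, add_zero, add_zero, neg_smul, smul_neg]
    abel
  rwa [this]

/-- Singular vectors of two members. -/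
def Two (Q : QuadraticForm F V) (π : Fin t → V →ₗ[F] V) (a b : Fin t) (e : V) : Prop :=
  e ≠ 0 ∧ Q e = 0 ∧ ∀ r, r ≠ a → r ≠ b → π r e = 0

theorem exists_two (hh : Planes Q D) (hπ : Comp Q D π) {a b : Fin t} (hab : a ≠ b) :
    ∃ e, Two Q π a b e := by
  have hD := hh.dec
  obtain ⟨p, hp, hQp⟩ := nondeg_represents (hD.nd a) (by rw [hD.dim]) 1
  obtain ⟨p', hp', hQp'⟩ := nondeg_represents (hD.nd b) (by rw [hD.dim]) (-1)
  refine ⟨p + p', fun h => ?_, by rw [QuadraticMap.map_add (⇑Q), hQp, hQp',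
    hD.orth a b hab p hp p' hp']; ring, fun r hra hrb => by
    rw [map_add, hπ.other hD hra hp, hπ.other hD hrb hp', add_zero]⟩
  have := congrArg (π a) h
  rw [map_add, hπ.self hD hp, hπ.other hD hab hp', add_zero, map_zero] at this
  rw [this, QuadraticMap.map_zero] at hQp
  exact zero_ne_one hQp

/-- The property passes to singular vectors of pairs of members off the support. -/
theorem out_two (hnd : (polarBilin Q).Nondegenerate) (hh : Planes Q D) (hπ : Comp Q D π)
    (hH : Contains M D) {d : V} (hd0 : d ≠ 0) (hout : Out M π d) {a b : Fin t}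
    (ha : π a d = 0) (hb : π b d = 0) {e : V} (he : Two Q π a b e) : Out M π e := by
  classical
  have ht := hh.five
  obtain ⟨r, hr⟩ := hπ.exists_ne hd0
  have hs : SMem M d e := hout e fun s hs => he.2.2 s (fun h => hs (h ▸ ha)) (fun h => hs (h ▸ hb))
  refine out_of_mem hnd hh hπ hH (swap_mem hs he.2.1) (r := r)
    (he.2.2 r (fun h => hr (h ▸ ha)) (fun h => hr (h ▸ hb))) (by rw [map_neg, neg_ne_zero]; exact hr)
    fun i => ?_
  obtain ⟨j, -, hj⟩ := Finset.exists_mem_notMem_of_card_lt_card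
    (s := ({a, b, i} : Finset (Fin t))) (t := Finset.univ) (by
      rw [Finset.card_univ, Fintype.card_fin]; exact lt_of_le_of_lt Finset.card_le_three (by omega))
  simp only [Finset.mem_insert, Finset.mem_singleton, not_or] at hj
  exact ⟨j, hj.2.2, he.2.2 j hj.1 hj.2.1⟩

/-- Stabilisers of decompositions into anisotropic planes are maximal. -/
theorem commutator_le (hnd : (polarBilin Q).Nondegenerate) (hh : Planes Q D) (hH : Contains M D)
    {g : orth Q} (hg : g ∈ M) (hgD : ¬ ∀ i, ∃ j, ∀ x ∈ D i, g.1 x ∈ D j) :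
    commutator (orth Q) ≤ M := by
  classical
  have hD := hh.dec
  have ht := hh.five
  obtain ⟨π, hπ⟩ := exists_comp hnd hD
  obtain ⟨x₀, hx₀, hmix⟩ := exists_grow hnd hh hπ hH hg hgD
  obtain ⟨x, hx, a, b, e, hab, hae, hbe, ha, hb, he⟩ := exists_three hnd hh hπ hH hx₀ hmix
  obtain ⟨d, w, r1, r2, hd0, hs, hwr, h21, hd1, hd2⟩ :=
    exists_outside hnd hh hπ hH hx hab hae hbe ha hb he
  have hout : Out M π d := out_of_mem hnd hh hπ hH hs hd1 hwr fun i => by
    rcases eq_or_ne i r1 with rfl | h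
    · exact ⟨r2, h21, hd2⟩
    · exact ⟨r1, h.symm, hd1⟩
  obtain ⟨e₀, he₀⟩ := exists_two hh hπ h21
  have hout₀ := out_two hnd hh hπ hH hd0 hout hd2 hd1 he₀
  have hpairs : ∀ p q, p ≠ q → ∀ e, Two Q π p q e → Out M π e := by
    intro p q hpq e he
    by_cases hoff : (p ≠ r2 ∧ p ≠ r1) ∧ q ≠ r2 ∧ q ≠ r1
    · exact out_two hnd hh hπ hH he₀.1 hout₀ (he₀.2.2 p hoff.1.1 hoff.1.2) (he₀.2.2 q hoff.2.1 hoff.2.2) he
    have hthree : ∃ u, ∀ z, z = p ∨ z = q ∨ z = r2 ∨ z = r1 → z = r2 ∨ z = r1 ∨ z = u := by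
      simp only [not_and_or, ne_eq, not_not] at hoff
      rcases hoff with (h | h) | (h | h)
      · exact ⟨q, fun z hz => by subst h; tauto⟩
      · exact ⟨q, fun z hz => by subst h; tauto⟩
      · exact ⟨p, fun z hz => by subst h; tauto⟩
      · exact ⟨p, fun z hz => by subst h; tauto⟩
    obtain ⟨u, hu⟩ := hthree
    obtain ⟨s, -, hs⟩ := Finset.exists_mem_notMem_of_card_lt_card
      (s := ({r2, r1, u} : Finset (Fin t))) (t := Finset.univ) (by
        rw [Finset.card_univ, Fintype.card_fin]; exact lt_of_le_of_lt Finset.card_le_three (by omega))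
    simp only [Finset.mem_insert, Finset.mem_singleton, not_or] at hs
    obtain ⟨s', -, hs'⟩ := Finset.exists_mem_notMem_of_card_lt_card
      (s := ({r2, r1, u, s} : Finset (Fin t))) (t := Finset.univ) (by
        rw [Finset.card_univ, Fintype.card_fin]; exact lt_of_le_of_lt Finset.card_le_four (by omega))
    simp only [Finset.mem_insert, Finset.mem_singleton, not_or] at hs'
    have avoid : ∀ z, (z = p ∨ z = q) → s ≠ z ∧ s' ≠ z := fun z hz => by
      rcases hu z (by tauto) with rfl | rfl | rfl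
      · exact ⟨hs.1, hs'.1⟩
      · exact ⟨hs.2.1, hs'.2.1⟩
      · exact ⟨hs.2.2, hs'.2.2.1⟩
    obtain ⟨e₁, he₁⟩ := exists_two hh hπ (Ne.symm hs'.2.2.2)
    have hout₁ := out_two hnd hh hπ hH he₀.1 hout₀ (he₀.2.2 s hs.1 hs.2.1)
      (he₀.2.2 s' hs'.1 hs'.2.1) he₁
    exact out_two hnd hh hπ hH he₁.1 hout₁
      (he₁.2.2 p (avoid p (Or.inl rfl)).1.symm (avoid p (Or.inl rfl)).2.symm)
      (he₁.2.2 q (avoid q (Or.inr rfl)).1.symm (avoid q (Or.inr rfl)).2.symm) he
  have hfull : ∀ p q, p ≠ q → ∀ e, Two Q π p q e → Full M e := by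
    intro p q hpq e he w hQe hew
    obtain ⟨u, -, hu⟩ := Finset.exists_mem_notMem_of_card_lt_card
      (s := ({p, q} : Finset (Fin t))) (t := Finset.univ) (by
        rw [Finset.card_univ, Fintype.card_fin]; exact lt_of_le_of_lt Finset.card_le_two (by omega))
    obtain ⟨v, -, hv⟩ := Finset.exists_mem_notMem_of_card_lt_card
      (s := ({p, q, u} : Finset (Fin t))) (t := Finset.univ) (by
        rw [Finset.card_univ, Fintype.card_fin]; exact lt_of_le_of_lt Finset.card_le_three (by omega))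
    simp only [Finset.mem_insert, Finset.mem_singleton, not_or] at hu hv
    obtain ⟨a, ha⟩ := exists_two hh hπ (Ne.symm hv.2.2)
    have hap : π p a = 0 := ha.2.2 p (Ne.symm hu.1) (Ne.symm hv.1)
    have haq : π q a = 0 := ha.2.2 q (Ne.symm hu.2) (Ne.symm hv.2.1)
    set b := π p w + π q w with hb
    have hcomp : ∀ r, r ≠ p → r ≠ q → π r b = 0 := fun r h h' => by
      rw [hb, map_add, hπ.other hD h (hπ.mem p w), hπ.other hD h' (hπ.mem q w), add_zero]
    have hout_e := hpairs p q hpq e he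
    have hsupp : ∀ s, π s e ≠ 0 → s = p ∨ s = q := fun s hs => by
      by_contra h
      push Not at h
      exact hs (he.2.2 s h.1 h.2)
    have hrest : SMem M e (w - b) := hout_e _ fun r hr => by
      rcases hsupp r hr with rfl | rfl
      · rw [hb, map_sub, map_add, hπ.self hD (hπ.mem r w), hπ.other hD hpq (hπ.mem q w), add_zero,
          sub_self]
      · rw [hb, map_sub, map_add, hπ.self hD (hπ.mem r w), hπ.other hD hpq.symm (hπ.mem p w),
          zero_add, sub_self]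
    obtain ⟨hQa, hab, hm⟩ := hpairs u v (Ne.symm hv.2.2) a ha b fun r hr =>
      hcomp r (fun h => hr (h ▸ hap)) (fun h => hr (h ▸ haq))
    -- the Siegel element at `a` fixes `e` and pushes a member vector onto `b`
    have hae : polar Q a e = 0 := by
      rw [← hπ.sum a, ← polarBilin_apply_apply, map_sum, LinearMap.sum_apply]
      refine Finset.sum_eq_zero fun r _ => ?_
      rw [polarBilin_apply_apply, hπ.polar_eq r _ (hπ.mem r a) e]
      by_cases hr : π r e = 0
      · rw [hr, polar_zero_right]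
      · rcases hsupp r hr with rfl | rfl
        · rw [hap, polar_zero_left]
        · rw [haq, polar_zero_left]
    have hbe : polar Q b e = 0 := by
      have h1 : polar Q e (w - b) = 0 := hrest.2.1
      rw [polar_sub_right, hew, zero_sub, neg_eq_zero] at h1
      rw [polar_comm, h1]
    obtain ⟨r, hr⟩ := hπ.exists_ne ha.1
    have hrp : r ≠ p := fun h => hr (h ▸ hap)
    have hrq : r ≠ q := fun h => hr (h ▸ haq)
    obtain ⟨y₀, hy₀, hy₀a⟩ : ∃ y₀ ∈ D r, polar Q y₀ a ≠ 0 := by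
      by_contra h
      push Not at h
      exact hr (hD.nd r _ (hπ.mem r a) fun z hz => by
        rw [polar_comm, ← hπ.polar_eq r z hz a]; exact h z hz)
    set y := (polar Q y₀ a)⁻¹ • y₀ with hy
    have hyr : y ∈ D r := (D r).smul_mem _ hy₀
    have hay : polar Q a y = 1 := by
      rw [hy, polar_smul_right, polar_comm Q a y₀, smul_eq_mul, inv_mul_cancel₀ hy₀a]
    have hby : polar Q b y = 0 := by
      rw [polar_comm, hπ.polar_eq r y hyr b, hcomp r hrp hrq, polar_zero_right]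
    have hye : SMem M e y := hout_e y fun s hs => hπ.other hD (fun h => hs (by
      subst h; exact he.2.2 s hrp hrq)) hyr
    have hae' : SMem M e ((Q b) • a) := hout_e _ fun s hs => by
      rw [map_smul]
      rcases hsupp s hs with rfl | rfl
      · rw [hap, smul_zero]
      · rw [haq, smul_zero]
    have hk := hye.conj hm (by rw [siegel_apply, hae, hbe]; simp)
    rw [siegel_apply, hay, hby, one_smul, mul_one, zero_add] at hk
    have hbmem : SMem M e b := by
      have := (hk.add hae').add hye.neg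
      convert this using 1
      abel
    obtain ⟨_, hw', hmem⟩ := hrest.add hbmem
    exact siegel_mem_congr M hQe hw' hew (sub_add_cancel w b) hmem
  obtain ⟨p, q, hpq⟩ : ∃ p q : Fin t, p ≠ q := ⟨r2, r1, h21⟩
  obtain ⟨u, hu⟩ := exists_two hh hπ hpq
  have hU : Nondeg Q (D p ⊔ D q) := by
    intro z hz hperp
    have hz0 : ∀ s, π s z = 0 := by
      intro s
      by_cases hs : s = p ∨ s = q
      · refine hD.nd s _ (hπ.mem s z) fun y hy => ?_
        rw [polar_comm, ← hπ.polar_eq s y hy z, polar_comm]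
        exact hperp y (by
          rcases hs with rfl | rfl
          · exact Submodule.mem_sup_left hy
          · exact Submodule.mem_sup_right hy)
      · push Not at hs
        obtain ⟨z₁, h₁, z₂, h₂, rfl⟩ := Submodule.mem_sup.1 hz
        rw [map_add, hπ.other hD hs.1 h₁, hπ.other hD hs.2 h₂, add_zero]
    rw [← hπ.sum z]
    exact Finset.sum_eq_zero fun s _ => hz0 s
  obtain ⟨f, hf, hQf, huf⟩ := exists_partner Q hU (mem_sup_of_comp hπ hu.2.2) hu.1 hu.2.1
  have hf2 : Two Q π p q f := ⟨fun h => zero_ne_one (by rw [← huf, h, polar_zero_right]), hQf,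
    fun s hsp hsq => by
      obtain ⟨z₁, h₁, z₂, h₂, rfl⟩ := Submodule.mem_sup.1 hf
      rw [map_add, hπ.other hD hsp h₁, hπ.other hD hsq h₂, add_zero]⟩
  exact commutator_le_of_full hnd hh.dim_big hu.2.1 hQf (by rw [huf]; exact one_ne_zero)
    (hfull p q hpq u hu) (hfull p q hpq f hf2)

end Cfsg.Agent.OmegaFivePlanes58
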