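import Mathlib
import Cfsg.Agent.Lib.OmegaFivePlanes58

/-!
Orthogonal decompositions into hyperbolic planes: coordinates, rotations, invariant subgroups of a
plane, and the consequences of one Siegel element at a block vector.
-/

set_option autoImplicit false

namespace Cfsg.Agent.OmegaFivePlusBasic58

open QuadraticMap Module
open Cfsg.Agent.OrthUnitaryQuad Cfsg.Agent.OrthUnitaryPrelude Cfsg.Agent.OrthUnitaryRefl
  Cfsg.Agent.OrthUnitaryOmega Cfsg.Agent.OmegaClasses Cfsg.Agent.OmegaGeo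
  Cfsg.Agent.OrthUnitarySimple Cfsg.Agent.OmegaStabSingular Cfsg.Agent.OmegaStabTools
  Cfsg.Agent.OmegaDecomp Cfsg.Agent.OmegaDecompClass Cfsg.Agent.OmegaDecompGain
  Cfsg.Agent.OmegaDecompFull Cfsg.Agent.OmegaFivePlanes58
open Cfsg.Agent.QuadClassify (Nondeg Aniso exists_partner)

variable {F V : Type*} [Field F] [Fintype F] [AddCommGroup V] [Module F V] [FiniteDimensional F V]
  {Q : QuadraticForm F V} {t : ℕ} {D : Fin t → Submodule F V} {π : Fin t → V →ₗ[F] V}
  {M : Subgroup (orth Q)}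

/-- Hypotheses on a decomposition into hyperbolic planes. -/
structure Plus (Q : QuadraticForm F V) {t : ℕ} (D : Fin t → Submodule F V) : Prop where
  dec : Dec Q D 2
  sing : ∀ i, ∃ u ∈ D i, u ≠ 0 ∧ Q u = 0
  five : 5 ≤ t
  dim_big : 5 ≤ finrank F V
  q7 : 7 ≤ Fintype.card F

/-- A hyperbolic pair inside a member. -/
structure HPair (Q : QuadraticForm F V) {t : ℕ} (D : Fin t → Submodule F V) (i : Fin t) (e f : V) :
    Prop where
  he : e ∈ D i
  hf : f ∈ D i
  Qe : Q e = 0
  Qf : Q f = 0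
  ef : polar Q e f = 1

theorem exists_hpair_of (hD : Dec Q D 2) {i : Fin t} {u : V} (hu : u ∈ D i) (hu0 : u ≠ 0)
    (hQu : Q u = 0) : ∃ f, HPair Q D i u f := by
  obtain ⟨f, hf, hQf, huf⟩ := exists_partner Q (hD.nd i) hu hu0 hQu
  exact ⟨f, hu, hf, hQu, hQf, huf⟩

theorem exists_hpair (hh : Plus Q D) (i : Fin t) : ∃ e f, HPair Q D i e f := by
  obtain ⟨u, hu, hu0, hQu⟩ := hh.sing i
  exact ⟨u, exists_hpair_of hh.dec hu hu0 hQu⟩

namespace HPair

variable {i : Fin t} {e f : V}

omit [Fintype F] [FiniteDimensional F V] in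
theorem symm (h : HPair Q D i e f) : HPair Q D i f e :=
  ⟨h.hf, h.he, h.Qf, h.Qe, by rw [polar_comm]; exact h.ef⟩

omit [Fintype F] [FiniteDimensional F V] in
theorem ne_zero (h : HPair Q D i e f) : e ≠ 0 := fun h0 => by
  have := h.ef
  rw [h0, polar_zero_left] at this
  exact zero_ne_one this

omit [Fintype F] [FiniteDimensional F V] in
theorem fe (h : HPair Q D i e f) : polar Q f e = 1 := (polar_comm _ f e).trans h.ef

omit [Fintype F] [FiniteDimensional F V] in
theorem ee (h : HPair Q D i e f) : polar Q e e = 0 := by rw [polar_self_mul, h.Qe, mul_zero]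

omit [Fintype F] [FiniteDimensional F V] in
theorem ff (h : HPair Q D i e f) : polar Q f f = 0 := by rw [polar_self_mul, h.Qf, mul_zero]

omit [Fintype F] in
theorem coords (h : HPair Q D i e f) (hD : Dec Q D 2) {z : V} (hz : z ∈ D i) :
    z = polar Q f z • e + polar Q e z • f := by
  obtain ⟨b, -, -, hgen⟩ := OmegaAnisoPlane.exists_basis_vectors (hD.dim i) h.he h.ne_zero
  obtain ⟨x₀, y₀, hf⟩ := hgen f h.hf
  have hy₀ : y₀ ≠ 0 := by
    intro hy
    rw [hy, zero_smul, add_zero] at hf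
    have := h.ef
    rw [← hf, polar_smul_right, h.ee, smul_zero] at this
    exact zero_ne_one this
  obtain ⟨x, y, hxy⟩ := hgen z hz
  have hz' : z = (x - y / y₀ * x₀) • e + (y / y₀) • f := by
    rw [← hxy, ← hf, smul_add, smul_smul, smul_smul, div_mul_cancel₀ _ hy₀]
    module
  conv_rhs => rw [hz']
  rw [polar_add_right, polar_add_right, polar_smul_right, polar_smul_right, polar_smul_right,
    polar_smul_right, h.fe, h.ff, h.ee, h.ef]
  simpa using hz'

omit [Fintype F] in
theorem comp (h : HPair Q D i e f) (hD : Dec Q D 2) (hπ : Comp Q D π) (x : V) :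
    π i x = polar Q f x • e + polar Q e x • f := by
  conv_lhs => rw [h.coords hD (hπ.mem i x)]
  rw [← hπ.polar_eq i f h.hf x, ← hπ.polar_eq i e h.he x]

omit [Fintype F] [FiniteDimensional F V] in
theorem value_lin (h : HPair Q D i e f) (a b : F) : Q (a • e + b • f) = a * b := by
  rw [QuadraticMap.map_add (⇑Q), QuadraticMap.map_smul, QuadraticMap.map_smul, h.Qe, h.Qf,
    polar_smul_left, polar_smul_right, h.ef]
  simp

omit [Fintype F] in
theorem value (h : HPair Q D i e f) (hD : Dec Q D 2) {z : V} (hz : z ∈ D i) :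
    Q z = polar Q f z * polar Q e z := by
  conv_lhs => rw [h.coords hD hz]
  rw [h.value_lin]

omit [Fintype F] in
theorem value_comp (h : HPair Q D i e f) (hD : Dec Q D 2) (hπ : Comp Q D π) (x : V) :
    Q (π i x) = polar Q f x * polar Q e x := by
  rw [h.comp hD hπ, h.value_lin]

omit [Fintype F] [FiniteDimensional F V] in
theorem mem_lin (h : HPair Q D i e f) (a b : F) : a • e + b • f ∈ D i :=
  (D i).add_mem ((D i).smul_mem _ h.he) ((D i).smul_mem _ h.hf)

omit [Fintype F] [FiniteDimensional F V] in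
theorem lin_ne_zero (h : HPair Q D i e f) {a b : F} (hab : a ≠ 0 ∨ b ≠ 0) : a • e + b • f ≠ 0 := by
  intro h0
  have e1 := congrArg (polar Q f) h0
  have e2 := congrArg (polar Q e) h0
  simp only [polar_add_right, polar_smul_right, h.fe, h.ff, h.ee, h.ef, polar_zero_right,
    smul_eq_mul, mul_one, mul_zero, add_zero, zero_add] at e1 e2
  exact hab.elim (fun ha => ha e1) (fun hb => hb e2)

omit [Fintype F] in
theorem le_of_two (h : HPair Q D i e f) (hD : Dec Q D 2) {S : Submodule F V} {c a b : F}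
    (hc : c ≠ 0) (ha : a ≠ 0) (hb : b ≠ 0) (hab : a ^ 2 ≠ b ^ 2)
    (h1 : a • e + (c / a) • f ∈ S) (h2 : b • e + (c / b) • f ∈ S) : D i ≤ S := by
  have hf : f ∈ S := by
    have h3 := S.sub_mem (S.smul_mem b h1) (S.smul_mem a h2)
    have hne : b * (c / a) - a * (c / b) ≠ 0 := by
      intro h0
      field_simp at h0
      rcases mul_eq_zero.1 (show c * (b ^ 2 - a ^ 2) = 0 by linear_combination h0) with h4 | h4
      · exact hc h4
      · exact hab (by linear_combination -h4)
    have h4 := S.smul_mem (b * (c / a) - a * (c / b))⁻¹ h3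
    rwa [show b • (a • e + (c / a) • f) - a • (b • e + (c / b) • f)
      = (b * (c / a) - a * (c / b)) • f by module, inv_smul_smul₀ hne] at h4
  have he : e ∈ S := by
    have h3 := S.smul_mem a⁻¹ (S.sub_mem h1 (S.smul_mem (c / a) hf))
    rwa [add_sub_cancel_right, inv_smul_smul₀ ha] at h3
  intro z hz
  rw [h.coords hD hz]
  exact S.add_mem (S.smul_mem _ he) (S.smul_mem _ hf)

end HPair

/-! ### Field elements -/

theorem exists_avoid (h7 : 7 ≤ Fintype.card F) (a b c d e : F) :
    ∃ x : F, x ≠ 0 ∧ x ≠ a ∧ x ≠ b ∧ x ≠ c ∧ x ≠ d ∧ x ≠ e := by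
  classical
  obtain ⟨x, -, hx⟩ := Finset.exists_mem_notMem_of_card_lt_card
    (s := ({0, a, b, c, d, e} : Finset F)) (t := Finset.univ) (by
      have h1 : ({0, a, b, c, d, e} : Finset F).card ≤ 6 := by
        refine (Finset.card_insert_le _ _).trans (Nat.succ_le_succ ?_)
        refine (Finset.card_insert_le _ _).trans (Nat.succ_le_succ ?_)
        refine (Finset.card_insert_le _ _).trans (Nat.succ_le_succ ?_)
        exact Finset.card_le_three
      rw [Finset.card_univ]; omega)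
  simp only [Finset.mem_insert, Finset.mem_singleton, not_or] at hx
  exact ⟨x, hx.1, hx.2.1, hx.2.2.1, hx.2.2.2.1, hx.2.2.2.2.1, hx.2.2.2.2.2⟩

omit [Fintype F] in
/-- Square roots of an element come as `± r`. -/
theorem exists_root (a : F) : ∃ r : F, ∀ x : F, x ^ 2 = a → x = r ∨ x = -r := by
  by_cases h : ∃ r : F, r ^ 2 = a
  · obtain ⟨r, hr⟩ := h
    exact ⟨r, fun x hx => sq_eq_sq_iff_eq_or_eq_neg.1 (hx.trans hr.symm)⟩
  · exact ⟨0, fun x hx => absurd ⟨x, hx⟩ h⟩

theorem exists_square (h7 : 7 ≤ Fintype.card F) : ∃ c : F, c ≠ 0 ∧ c ≠ 1 ∧ IsSquare c := by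
  obtain ⟨s, hs, h1, h2, -⟩ := exists_avoid h7 1 (-1) 0 0 (0 : F)
  refine ⟨s * s, mul_ne_zero hs hs, fun h => ?_, s, rfl⟩
  rcases sq_eq_one_iff.1 (show s ^ 2 = 1 by linear_combination h) with h' | h'
  · exact h1 h'
  · exact h2 h'

/-! ### Pairs and rotations -/

theorem pair_plus (hnd : (polarBilin Q).Nondegenerate) (hh : Plus Q D) (hH : Contains M D)
    {i j : Fin t} {v w : V} (hv : v ∈ D i) (hw : w ∈ D j) (hQv : Q v ≠ 0)
    (h : SameClass (Q v) (Q w)) : PairIn M v w :=
  pair_blocks hnd hh.dim_big hh.dec hH hv hw hQv h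

theorem rep_of_pair_plus (hnd : (polarBilin Q).Nondegenerate) (hh : Plus Q D) (hH : Contains M D)
    {x v : V} {j : Fin t} (hv : v ∈ D j) (hxv : PairIn M x v) (hc : SameClass (Q v) (Q x)) :
    Rep M D x := by
  refine ⟨hc.1, fun p w hw hQw => hxv.trans ?_⟩
  obtain ⟨-, hQv, -⟩ := hxv
  exact pair_plus hnd hh hH hv hw hQv (by rw [hQw]; exact hc)

theorem exists_value (hh : Plus Q D) (i : Fin t) (c : F) : ∃ z ∈ D i, Q z = c := by
  obtain ⟨e, f, h⟩ := exists_hpair hh i
  exact ⟨(1 : F) • e + c • f, h.mem_lin _ _, by rw [h.value_lin, one_mul]⟩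

theorem rep_map_plus (hnd : (polarBilin Q).Nondegenerate) (hh : Plus Q D) (hH : Contains M D)
    {u : V} (hu : Rep M D u) {m : orth Q} (hm : m ∈ M) {j j' : Fin t} {v : V} (hv : v ∈ D j)
    (hQv : Q v = Q u) (hmv : m.1 v ∈ D j') : Rep M D (m.1 u) :=
  rep_of_pair_plus hnd hh hH hmv ((hu.2 j v hv hQv).map hm)
    ⟨by rw [map_orth]; exact hu.1, by rw [map_orth, map_orth, hQv]; exact ⟨_, rfl⟩⟩

/-- The displacement of a vector under a rotation of a member. -/
def move (Q : QuadraticForm F V) (c : F) (e f x : V) : V :=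
  ((c - 1) * polar Q f x) • e + ((c⁻¹ - 1) * polar Q e x) • f

omit [Fintype F] [FiniteDimensional F V] in
theorem move_mem {i : Fin t} {e f : V} (h : HPair Q D i e f) (c : F) (x : V) :
    move Q c e f x ∈ D i :=
  h.mem_lin _ _

omit [Fintype F] [FiniteDimensional F V] in
theorem move_value {i : Fin t} {e f : V} (h : HPair Q D i e f) {c : F} (hc : c ≠ 0) (x : V) :
    Q (move Q c e f x) = -((c - 1) ^ 2 / c) * (polar Q f x * polar Q e x) := by
  rw [move, h.value_lin]
  field_simp
  ring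

omit [Fintype F] [FiniteDimensional F V] in
theorem move_polar {i : Fin t} {e f : V} (h : HPair Q D i e f) {c : F} (hc : c ≠ 0) (x : V) :
    polar Q (move Q c e f x) x = -Q (move Q c e f x) := by
  rw [move_value h hc, move, polar_add_left, polar_smul_left, polar_smul_left, smul_eq_mul,
    smul_eq_mul]
  field_simp
  ring

/-- Rotations of a member with square multiplier. -/
theorem exists_rot (hnd : (polarBilin Q).Nondegenerate) (hh : Plus Q D) (hH : Contains M D)
    {i : Fin t} {e f : V} (h : HPair Q D i e f) {c : F} (hc : c ≠ 0) (hsq : IsSquare c) :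
    ∃ m ∈ M, (∀ x, m.1 x = x + move Q c e f x) ∧ (∀ r, ∀ z ∈ D r, m.1 z ∈ D r) ∧
      ∀ x, polar Q e x = 0 → polar Q f x = 0 → m.1 x = x := by
  set v := (1 : F) • e + (1 : F) • f with hv
  set w := (1 : F) • e + c • f with hw
  have hQv : Q v = 1 := by rw [hv, h.value_lin, one_mul]
  have hQw : Q w = c := by rw [hw, h.value_lin, one_mul]
  have hvD : v ∈ D i := h.mem_lin _ _
  have hwD : w ∈ D i := h.mem_lin _ _
  obtain ⟨nv, nw, hm⟩ := pair_plus hnd hh hH hvD hwD (by rw [hQv]; exact one_ne_zero)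
    ⟨by rw [hQw]; exact hc, by rw [hQv, hQw, one_mul]; exact hsq⟩
  have hval : ∀ x, (refl Q v nv * refl Q w nw).1 x = x + move Q c e f x := by
    intro x
    rw [orth_mul_apply, refl_apply Q w nw, refl_apply Q v nv, hQv, hQw, hv, hw, move]
    simp only [polar_sub_right, polar_smul_right, polar_add_left, polar_add_right, polar_smul_left,
      h.ee, h.ef, h.fe, h.ff, smul_eq_mul]
    match_scalars <;> field_simp <;> ring
  refine ⟨refl Q v nv * refl Q w nw, hm, hval, fun r z hz => ?_, fun x h1 h2 => ?_⟩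
  · rw [orth_mul_apply]
    exact refl_mem_block hh.dec hvD nv _ (refl_mem_block hh.dec hwD nw z hz)
  · rw [hval, move, h1, h2]; simp

omit [Fintype F] in
theorem polar_block_zero (hπ : Comp Q D π) {i : Fin t} {z x : V} (hz : z ∈ D i) (hx : π i x = 0) :
    polar Q z x = 0 := by
  rw [hπ.polar_eq i z hz x, hx, polar_zero_right]

omit [Fintype F] [FiniteDimensional F V] in
theorem move_ne_zero {i : Fin t} {e f : V} (h : HPair Q D i e f) {c : F} (hc1 : c ≠ 1) {x : V}
    (hx : polar Q f x ≠ 0 ∨ polar Q e x ≠ 0) : move Q c e f x ≠ 0 := by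
  have h1 : c - 1 ≠ 0 := sub_ne_zero.2 hc1
  have h2 : c⁻¹ - 1 ≠ 0 := sub_ne_zero.2 fun h' => hc1 (inv_eq_one.1 h')
  exact h.lin_ne_zero (hx.imp (mul_ne_zero h1) (mul_ne_zero h2))

omit [Fintype F] in
theorem coord_ne_zero {i : Fin t} {e f : V} (h : HPair Q D i e f) (hD : Dec Q D 2)
    (hπ : Comp Q D π) {x : V} (hx : π i x ≠ 0) : polar Q f x ≠ 0 ∨ polar Q e x ≠ 0 := by
  by_contra hc
  push Not at hc
  exact hx (by rw [h.comp hD hπ, hc.1, hc.2]; simp)

/-- An additive subgroup of a hyperbolic plane invariant under its reflections. -/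
theorem plane_all (h7 : 7 ≤ Fintype.card F) (hD : Dec Q D 2) {i : Fin t} {e f : V}
    (h : HPair Q D i e f) (A : AddSubgroup V) (hAP : ∀ a ∈ A, a ∈ D i)
    (hinv : ∀ p ∈ D i, ∀ (hp : Q p ≠ 0), ∀ a ∈ A, (refl Q p hp).1 a ∈ A) {y : V} (hy : y ∈ A)
    (hy0 : y ≠ 0) : ∀ z ∈ D i, z ∈ A := by
  classical
  have rot : ∀ c : F, c ≠ 0 → ∀ a b : F, a • e + b • f ∈ A → (c * a) • e + (c⁻¹ * b) • f ∈ A := by
    intro c hc a b hab
    have n1 : Q ((1 : F) • e + (1 : F) • f) ≠ 0 := by rw [h.value_lin]; simp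
    have n2 : Q ((1 : F) • e + c • f) ≠ 0 := by rw [h.value_lin]; simpa using hc
    have := hinv _ (h.mem_lin _ _) n1 _ (hinv _ (h.mem_lin _ _) n2 _ hab)
    convert this using 1
    simp only [refl_apply, h.value_lin, polar_sub_right, polar_smul_right, polar_add_left,
      polar_add_right, polar_smul_left, h.ee, h.ef, h.fe, h.ff, smul_eq_mul]
    match_scalars <;> field_simp <;> ring
  have swap : ∀ a b : F, a • e + b • f ∈ A → b • e + a • f ∈ A := by
    intro a b hab
    have n : Q ((1 : F) • e + (-1 : F) • f) ≠ 0 := by rw [h.value_lin]; simp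
    have := hinv _ (h.mem_lin _ _) n _ hab
    convert this using 1
    simp only [refl_apply, h.value_lin, polar_smul_right, polar_add_left, polar_add_right,
      polar_smul_left, h.ee, h.ef, h.fe, h.ff, smul_eq_mul]
    match_scalars <;> field_simp <;> ring
  have hline : ∃ b : F, b ≠ 0 ∧ (0 : F) • e + b • f ∈ A := by
    have hy' := h.coords hD (hAP y hy)
    rw [hy'] at hy hy0
    set a := polar Q f y
    set b := polar Q e y
    by_cases hb : b = 0
    · exact ⟨a, fun ha => hy0 (by rw [ha, hb]; simp), swap a 0 (hb ▸ hy)⟩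
    obtain ⟨r, hr⟩ : ∃ r : F, ∀ x : F, x ^ 2 + x + 1 = 0 → x = r ∨ x = -1 - r := by
      by_cases hex : ∃ r : F, r ^ 2 + r + 1 = 0
      · obtain ⟨r, hr⟩ := hex
        refine ⟨r, fun x hx => ?_⟩
        rcases mul_eq_zero.1 (show (x - r) * (x + r + 1) = 0 by linear_combination hx - hr) with
          h' | h'
        · exact Or.inl (sub_eq_zero.1 h')
        · exact Or.inr (by linear_combination h')
      · exact ⟨0, fun x hx => absurd ⟨x, hx⟩ hex⟩
    obtain ⟨β, hβ, hβ1, hβr, hβr', -⟩ := exists_avoid h7 (-1) r (-1 - r) 1 (0 : F)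
    have hβ1' : 1 + β ≠ 0 := fun h' => hβ1 (by linear_combination h')
    have hne : β ^ 2 + β + 1 ≠ 0 := fun h0 => (hr β h0).elim hβr hβr'
    have h3 := A.sub_mem (A.add_mem hy (rot β hβ a b hy)) (rot (1 + β) hβ1' a b hy)
    refine ⟨b + β⁻¹ * b - (1 + β)⁻¹ * b, ?_, by convert h3 using 1; module⟩
    intro h0
    field_simp at h0
    rcases mul_eq_zero.1 (show b * (β ^ 2 + β + 1) = 0 by linear_combination h0) with h' | h'
    · exact hb h'
    · exact hne h'
  obtain ⟨b, hb, hbA⟩ := hline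
  have hfA : ∀ x : F, (0 : F) • e + x • f ∈ A := by
    intro x
    rcases eq_or_ne x 0 with rfl | hx
    · simp
    have := rot (b / x) (div_ne_zero hb hx) 0 b hbA
    rwa [mul_zero, inv_div, div_mul_cancel₀ _ hb] at this
  intro z hz
  rw [h.coords hD hz]
  have := A.add_mem (swap _ _ (hfA (polar Q f z))) (hfA (polar Q e z))
  simpa using this

end Cfsg.Agent.OmegaFivePlusBasic58
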