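import Mathlib
import Cfsg.Agent.Lib.OmegaFivePlusBasic58

/-!
Orthogonal decompositions into hyperbolic planes: one Siegel element at a block vector generates.
-/

set_option autoImplicit false

namespace Cfsg.Agent.OmegaFivePlusReduce58

open QuadraticMap Module
open Cfsg.Agent.OrthUnitaryQuad Cfsg.Agent.OrthUnitaryPrelude Cfsg.Agent.OrthUnitaryRefl
  Cfsg.Agent.OrthUnitaryOmega Cfsg.Agent.OmegaClasses Cfsg.Agent.OmegaGeo
  Cfsg.Agent.OrthUnitarySimple Cfsg.Agent.OmegaStabSingular Cfsg.Agent.OmegaStabTools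
  Cfsg.Agent.OmegaDecomp Cfsg.Agent.OmegaDecompClass Cfsg.Agent.OmegaDecompGain
  Cfsg.Agent.OmegaDecompFull Cfsg.Agent.OmegaFivePlusBasic58
open Cfsg.Agent.OmegaFivePlanes58 (swap_mem)
open Cfsg.Agent.QuadClassify (Nondeg Aniso exists_partner)

variable {F V : Type*} [Field F] [Fintype F] [AddCommGroup V] [Module F V] [FiniteDimensional F V]
  {Q : QuadraticForm F V} {t : ℕ} {D : Fin t → Submodule F V} {π : Fin t → V →ₗ[F] V}
  {M : Subgroup (orth Q)}

/-- An element exchanging two members and fixing a vector without components there. -/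
theorem exists_carry_plus (hnd : (polarBilin Q).Nondegenerate) (hh : Plus Q D)
    (hπ : Comp Q D π) (hH : Contains M D) {i r : Fin t} (hri : r ≠ i)
    {u : V} (hui : π i u = 0) (hur : π r u = 0) :
    ∃ m ∈ M, m.1 u = u ∧ (∀ y ∈ D i, m.1 y ∈ D r) ∧
      ∀ s, s ≠ i → s ≠ r → ∀ y ∈ D s, m.1 y ∈ D s := by
  classical
  have hD := hh.dec
  obtain ⟨φ, hφ⟩ := hD.iso i r
  let a : V →ₗ[F] D i := (π i).codRestrict (D i) (hπ.mem i)
  let b : V →ₗ[F] D r := (π r).codRestrict (D r) (hπ.mem r)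
  let σ : V →ₗ[F] V := LinearMap.id - π i - π r + (D r).subtype ∘ₗ (φ : D i →ₗ[F] D r) ∘ₗ a
    + (D i).subtype ∘ₗ (φ.symm : D r →ₗ[F] D i) ∘ₗ b
  have hσ : ∀ x, σ x = x - π i x - π r x + (φ ⟨π i x, hπ.mem i x⟩ : V)
      + (φ.symm ⟨π r x, hπ.mem r x⟩ : V) := fun x => rfl
  have hσ' : ∀ x, σ (σ x) = x := by
    intro x
    have h1 : π i (σ x) = (φ.symm ⟨π r x, hπ.mem r x⟩ : V) := by
      rw [hσ, map_add, map_add, map_sub, map_sub, hπ.self hD (hπ.mem i x),
        hπ.other hD hri.symm (hπ.mem r x), hπ.other hD hri.symm (φ _).2, hπ.self hD (φ.symm _).2]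
      abel
    have h2 : π r (σ x) = (φ ⟨π i x, hπ.mem i x⟩ : V) := by
      rw [hσ, map_add, map_add, map_sub, map_sub, hπ.self hD (hπ.mem r x),
        hπ.other hD hri (hπ.mem i x), hπ.other hD hri (φ.symm _).2, hπ.self hD (φ _).2]
      abel
    conv_lhs => rw [hσ (σ x)]
    simp only [h1, h2, Subtype.coe_eta, LinearEquiv.apply_symm_apply, LinearEquiv.symm_apply_apply]
    rw [hσ]
    abel
  let σe : V ≃ₗ[F] V := LinearEquiv.ofInvolutive σ hσ'
  have hQσ : ∀ x, Q (σ x) = Q x := by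
    intro x
    have hval : ∀ j, Q (π j (σ x)) = Q (π ((Equiv.swap i r) j) x) := by
      intro j
      have hj : π j (σ x) = π j x - π j (π i x) - π j (π r x) + π j (φ ⟨π i x, hπ.mem i x⟩ : V)
          + π j (φ.symm ⟨π r x, hπ.mem r x⟩ : V) := by
        rw [hσ, map_add, map_add, map_sub, map_sub]
      rw [hj]
      rcases eq_or_ne j i with rfl | hji
      · rw [Equiv.swap_apply_left, hπ.self hD (hπ.mem j x),
          hπ.other hD hri.symm (hπ.mem r x), hπ.other hD hri.symm (φ _).2, hπ.self hD (φ.symm _).2]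
        simp only [sub_self, zero_add, sub_zero, add_zero]
        rw [← hφ, LinearEquiv.apply_symm_apply]
      rcases eq_or_ne j r with rfl | hjr
      · rw [Equiv.swap_apply_right, hπ.self hD (hπ.mem j x),
          hπ.other hD hri (hπ.mem i x), hπ.other hD hri (φ.symm _).2, hπ.self hD (φ _).2]
        simp only [sub_zero, sub_self, zero_add, add_zero]
        exact hφ _
      rw [Equiv.swap_apply_of_ne_of_ne hji hjr, hπ.other hD hji (hπ.mem i x),
        hπ.other hD hjr (hπ.mem r x), hπ.other hD hjr (φ _).2, hπ.other hD hji (φ.symm _).2]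
      simp
    rw [hπ.value hD (σ x), hπ.value hD x, Finset.sum_congr rfl fun j _ => hval j]
    exact Equiv.sum_comp (Equiv.swap i r) fun j => Q (π j x)
  let g : orth Q := ⟨σe, hQσ⟩
  have hexc : Fintype.card F ≠ 2 ∨ finrank F V ≠ 4 := Or.inr (by have := hh.dim_big; omega)
  obtain ⟨vs, hvs, hg⟩ := exists_rprod (reflGroup_top hnd hexc) g
  have hrepr : ∀ c : F, ∃ z ∈ D i, Q z = c := fun c =>
    nondeg_represents (hD.nd i) (by rw [hD.dim]) c
  have hfixu : ∀ (z : V), z ∈ D i → ∀ (hQz : Q z ≠ 0), (refl Q z hQz).1 u = u := fun z hz hQz =>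
    refl_fix z hQz (by rw [hπ.polar_eq i z hz u, hui, polar_zero_right])
  obtain ⟨h, ⟨hblocks, hhu⟩, hgh⟩ := exists_adjust hnd hexc
    (fun h => (∀ s, ∀ x ∈ D s, h.1 x ∈ D s) ∧ h.1 u = u) ⟨fun s x hx => hx, rfl⟩
    (fun a b ha hb => ⟨fun s x hx => ha.1 s _ (hb.1 s x hx), by rw [orth_mul_apply, hb.2, ha.2]⟩)
    hvs
    (fun _ => by
      obtain ⟨z, hz, hQz⟩ := hrepr 1
      have hz1 : Q z ≠ 0 := by rw [hQz]; exact one_ne_zero
      refine ⟨[z], by simpa [NS] using hz1, by simp, ?_⟩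
      rw [rprod_singleton hz1]
      exact ⟨fun s => refl_mem_block hD hz hz1, hfixu z hz hz1⟩)
    (fun c hc => Or.inr (by
      obtain ⟨z, hz, hQz⟩ := hrepr 1
      obtain ⟨z', hz', hQz'⟩ := hrepr c
      have hz1 : Q z ≠ 0 := by rw [hQz]; exact one_ne_zero
      have hz1' : Q z' ≠ 0 := by rw [hQz']; exact hc
      have hns : NS Q [z, z'] := by simp [NS, hz1, hz1']
      refine ⟨[z, z'], hns, even_two, by simp [hQz, hQz'], ?_⟩
      rw [rprod_cons hz1, rprod_singleton hz1']
      exact ⟨fun s x hx => by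
          rw [orth_mul_apply]; exact refl_mem_block hD hz hz1 _ (refl_mem_block hD hz' hz1' x hx),
        by rw [orth_mul_apply, hfixu z' hz' hz1', hfixu z hz hz1]⟩))
  rw [← hg] at hgh
  have hgmem : ∀ s, ∀ x ∈ D s, g.1 x ∈ D ((Equiv.swap i r) s) := by
    intro s x hx
    show σ x ∈ _
    rw [hσ]
    rcases eq_or_ne s i with rfl | hsi
    · rw [Equiv.swap_apply_left]
      simp only [hπ.self hD hx, hπ.other hD hri hx, sub_self, sub_zero, zero_add]
      rw [show (⟨(0 : V), _⟩ : D r) = 0 from rfl, map_zero, Submodule.coe_zero, add_zero]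
      exact (φ _).2
    rcases eq_or_ne s r with rfl | hsr
    · rw [Equiv.swap_apply_right]
      simp only [hπ.self hD hx, hπ.other hD hri.symm hx, sub_self, sub_zero, zero_add]
      rw [show (⟨(0 : V), _⟩ : D i) = 0 from rfl, map_zero, Submodule.coe_zero, zero_add]
      exact (φ.symm _).2
    rw [Equiv.swap_apply_of_ne_of_ne hsi hsr]
    simp only [hπ.other hD hsi.symm hx, hπ.other hD hsr.symm hx, sub_zero]
    rw [show (⟨(0 : V), _⟩ : D i) = 0 from rfl, show (⟨(0 : V), _⟩ : D r) = 0 from rfl, map_zero,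
      map_zero, Submodule.coe_zero, Submodule.coe_zero, add_zero, add_zero]
    exact hx
  refine ⟨g * h, hH _ hgh fun s => ⟨_, fun x hx => hgmem s _ (hblocks s x hx)⟩, ?_, fun y hy => ?_,
    fun s hsi hsr y hy => ?_⟩
  · rw [orth_mul_apply, hhu]
    show σ u = u
    rw [hσ]
    simp only [hui, hur, sub_zero]
    rw [show (⟨(0 : V), _⟩ : D i) = 0 from rfl, show (⟨(0 : V), _⟩ : D r) = 0 from rfl, map_zero,
      map_zero, Submodule.coe_zero, Submodule.coe_zero, add_zero, add_zero]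
  · have := hgmem i _ (hblocks i y hy)
    rwa [Equiv.swap_apply_left] at this
  · have := hgmem s _ (hblocks s y hy)
    rwa [Equiv.swap_apply_of_ne_of_ne hsi hsr] at this


omit [FiniteDimensional F V] [Fintype F] in
/-- An index outside three given ones. -/
theorem exists_index (ht : 5 ≤ t) (a b c : Fin t) : ∃ r, r ≠ a ∧ r ≠ b ∧ r ≠ c := by
  obtain ⟨r, -, hr⟩ := Finset.exists_mem_notMem_of_card_lt_card
    (s := ({a, b, c} : Finset (Fin t))) (t := Finset.univ) (by
      rw [Finset.card_univ, Fintype.card_fin]; exact lt_of_le_of_lt Finset.card_le_three (by omega))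
  simp only [Finset.mem_insert, Finset.mem_singleton, not_or] at hr
  exact ⟨r, hr⟩

/-- The vectors of a member paired with `d` by Siegel elements are all or nothing. -/
theorem block_all (hnd : (polarBilin Q).Nondegenerate) (hh : Plus Q D) (hπ : Comp Q D π)
    (hH : Contains M D) {d : V} {r j : Fin t} (hjr : j ≠ r) (hdr : π r d = 0) (hdj : π j d = 0)
    {y : V} (hy : y ∈ D r) (hy0 : y ≠ 0) (hs : SMem M d y) : ∀ z ∈ D r, SMem M d z := by
  have hD := hh.dec
  have hQd := hs.1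
  let A : AddSubgroup V :=
    { carrier := {z | z ∈ D r ∧ SMem M d z}
      add_mem' := fun ha hb => ⟨(D r).add_mem ha.1 hb.1, ha.2.add hb.2⟩
      zero_mem' := ⟨(D r).zero_mem, SMem.zero hQd⟩
      neg_mem' := fun ha => ⟨(D r).neg_mem ha.1, ha.2.neg⟩ }
  obtain ⟨e, f, hp⟩ := exists_hpair hh r
  have hA := plane_all hh.q7 hD hp A (fun a ha => ha.1) (fun p hpD hQp a ha => by
      obtain ⟨z, hz, hQz⟩ := exists_value hh j (Q p)
      obtain ⟨_, nz, hm⟩ := pair_plus hnd hh hH hpD hz hQp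
        ⟨by rw [hQz]; exact hQp, by rw [hQz]; exact ⟨_, rfl⟩⟩
      refine ⟨refl_mem_block hD hpD hQp a ha.1, ?_⟩
      have := ha.2.conj hm (by
        rw [orth_mul_apply, refl_fix z nz (polar_block_zero hπ hz hdj),
          refl_fix p hQp (polar_block_zero hπ hpD hdr)])
      rwa [orth_mul_apply, refl_fix_block hD hjr hz nz ha.1] at this)
    (y := y) ⟨hy, hs⟩ hy0
  exact fun z hz => (hA z hz).2

/-- A Siegel element at a singular block vector towards a second member. -/
def Basic (M : Subgroup (orth Q)) (D : Fin t → Submodule F V) : Prop :=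
  ∃ (l i : Fin t) (u c : V), l ≠ i ∧ u ∈ D l ∧ u ≠ 0 ∧ c ∈ D i ∧ c ≠ 0 ∧ SMem M u c

/-- Rotating a member isolates its part of a Siegel parameter. -/
theorem exists_part (hnd : (polarBilin Q).Nondegenerate) (hh : Plus Q D) (hπ : Comp Q D π)
    (hH : Contains M D) {d w : V} {i : Fin t} (hdi : π i d = 0) (hwi : π i w ≠ 0)
    (hs : SMem M d w) : ∃ y ∈ D i, y ≠ 0 ∧ SMem M d y := by
  obtain ⟨e, f, hp⟩ := exists_hpair hh i
  obtain ⟨c, hc, hc1, hsq⟩ := exists_square hh.q7
  obtain ⟨m, hm, hmx, -, hfix⟩ := exists_rot hnd hh hH hp hc hsq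
  refine ⟨_, move_mem hp c w, move_ne_zero hp hc1 (coord_ne_zero hp hh.dec hπ hwi), ?_⟩
  have h1 := (hs.conj hm (hfix d (polar_block_zero hπ hp.he hdi)
    (polar_block_zero hπ hp.hf hdi))).add hs.neg
  rwa [hmx, add_neg_cancel_comm] at h1

/-- A Siegel element at a singular block vector with a parameter outside its member. -/
theorem basic_of_split (hnd : (polarBilin Q).Nondegenerate) (hh : Plus Q D) (hπ : Comp Q D π)
    (hH : Contains M D) {d w : V} {l i : Fin t} (hd : d ∈ D l) (hd0 : d ≠ 0) (hil : i ≠ l)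
    (hwi : π i w ≠ 0) (hs : SMem M d w) : Basic M D := by
  obtain ⟨y, hy, hy0, hy'⟩ := exists_part hnd hh hπ hH (hπ.other hh.dec hil hd) hwi hs
  exact ⟨l, i, d, y, hil.symm, hd, hd0, hy, hy0, hy'⟩

/-- A singular parameter inside a member off the centre. -/
theorem sing_reduce (hnd : (polarBilin Q).Nondegenerate) (hh : Plus Q D) (hπ : Comp Q D π)
    (hH : Contains M D) {p d : V} {r : Fin t} (hs : SMem M p d) (hd : d ∈ D r) (hd0 : d ≠ 0)
    (hQd : Q d = 0) (hpr : π r p = 0) (hp0 : p ≠ 0) : Basic M D := by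
  obtain ⟨i, hi⟩ := hπ.exists_ne hp0
  exact basic_of_split hnd hh hπ hH hd hd0 (i := i) (fun h => hi (by rw [h]; exact hpr))
    (by rw [map_neg, neg_ne_zero]; exact hi) (swap_mem hs hQd)

/-- A Siegel element whose centre misses two members, one of them met by the parameter. -/
theorem basic_of_outside (hnd : (polarBilin Q).Nondegenerate) (hh : Plus Q D) (hπ : Comp Q D π)
    (hH : Contains M D) {d w : V} {r j : Fin t} (hd0 : d ≠ 0) (hjr : j ≠ r) (hdr : π r d = 0)
    (hdj : π j d = 0) (hwr : π r w ≠ 0) (hs : SMem M d w) : Basic M D := by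
  obtain ⟨y, hy, hy0, hy'⟩ := exists_part hnd hh hπ hH hdr hwr hs
  obtain ⟨e, he, he0, hQe⟩ := hh.sing r
  exact sing_reduce hnd hh hπ hH (block_all hnd hh hπ hH hjr hdr hdj hy hy0 hy' e he) he he0 hQe
    hdr hd0

/-- One Siegel element at a block vector generates. -/
theorem commutator_le_of_basic (hnd : (polarBilin Q).Nondegenerate) (hh : Plus Q D)
    (hπ : Comp Q D π) (hH : Contains M D) (hB : Basic M D) : commutator (orth Q) ≤ M := by
  have hD := hh.dec
  have ht := hh.five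
  obtain ⟨l, i, u, c, hli, hu, hu0, hc, hc0, hs⟩ := hB
  have hQu := hs.1
  obtain ⟨j, hjl, hji, -⟩ := exists_index ht l i i
  have hbi := block_all hnd hh hπ hH hji (hπ.other hD hli.symm hu) (hπ.other hD hjl hu) hc hc0 hs
  have hall : ∀ r, r ≠ l → ∀ y ∈ D r, SMem M u y := by
    intro r hrl
    rcases eq_or_ne r i with rfl | hri
    · exact hbi
    obtain ⟨m, hm, hmu, hmi, -⟩ := exists_carry_plus hnd hh hπ hH hri
      (hπ.other hD hli.symm hu) (hπ.other hD hrl hu)
    obtain ⟨j', hj'l, hj'r, -⟩ := exists_index ht l r r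
    exact block_all hnd hh hπ hH hj'r (hπ.other hD hrl hu) (hπ.other hD hj'l hu)
      (hmi c hc) (fun h => hc0 (m.1.map_eq_zero_iff.1 h)) (hs.conj hm hmu)
  have hfull : Full M u := by
    intro z hu' hz
    have hcomp : ∀ r, SMem M u (π r z) := fun r => by
      rcases eq_or_ne r l with rfl | hrl
      · have hp : polar Q u (π r z) = 0 := by rw [← hπ.polar_eq r u hu z, hz]
        exact ⟨hQu, hp, hH _ (sGroup_le_commutator hnd hh.dim_big (siegel_mem hnd hh.dim_big hQu hp))
          fun s => ⟨s, siegel_blocks hD hu (hπ.mem r z) hQu hp s⟩⟩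
      · exact hall r hrl _ (hπ.mem r z)
    obtain ⟨_, hz', hm⟩ := Finset.sum_induction (fun r => π r z) (SMem M u)
      (fun a b => SMem.add) (SMem.zero hQu) (s := Finset.univ) (fun r _ => hcomp r)
    exact siegel_mem_congr M hu' hz' hz (hπ.sum z) hm
  obtain ⟨f, hp⟩ := exists_hpair_of hD hu hu0 hQu
  obtain ⟨z, hz, hQz⟩ := exists_value hh i (-1)
  have h1 : Q (u - f) = -1 := by
    rw [sub_eq_add_neg, QuadraticMap.map_add (⇑Q), QuadraticMap.map_neg, hQu, hp.Qf, polar_neg_right,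
      hp.ef]
    simp
  obtain ⟨n1, n2, hm⟩ := pair_plus hnd hh hH ((D l).sub_mem hu hp.hf) hz
    (by rw [h1]; simp) ⟨by rw [hQz]; simp, by rw [h1, hQz]; exact ⟨_, rfl⟩⟩
  have hmf : (refl Q (u - f) n1 * refl Q z n2).1 u = f := by
    rw [orth_mul_apply, refl_fix z n2 (hD.orth i l hli.symm z hz u hu), refl_apply, h1,
      polar_sub_left, hp.ee, hp.fe]
    simp
  have hfullf := hfull.of_mem hm
  rw [hmf] at hfullf
  exact commutator_le_of_full hnd hh.dim_big hQu hp.Qf (by rw [hp.ef]; exact one_ne_zero) hfull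
    hfullf

end Cfsg.Agent.OmegaFivePlusReduce58
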