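import Mathlib
import Cfsg.Agent.Lib.OmegaFivePlusRep58

/-!
Orthogonal decompositions into hyperbolic planes: an overgroup of the stabiliser relates a mixed
vector to block vectors; stabilisers are maximal.
-/

set_option autoImplicit false

namespace Cfsg.Agent.OmegaFivePlusGrow58

open QuadraticMap Module
open Cfsg.Agent.OrthUnitaryQuad Cfsg.Agent.OrthUnitaryPrelude Cfsg.Agent.OrthUnitaryRefl
  Cfsg.Agent.OrthUnitaryOmega Cfsg.Agent.OmegaClasses Cfsg.Agent.OmegaGeo
  Cfsg.Agent.OrthUnitarySimple Cfsg.Agent.OmegaStabSingular Cfsg.Agent.OmegaStabTools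
  Cfsg.Agent.OmegaDecomp Cfsg.Agent.OmegaDecompClass Cfsg.Agent.OmegaDecompGain
  Cfsg.Agent.OmegaDecompFull Cfsg.Agent.OmegaFivePlusBasic58
  Cfsg.Agent.OmegaFivePlusReduce58 Cfsg.Agent.OmegaFivePlusRep58
open Cfsg.Agent.OmegaFivePlanesGrow58 (pair_support mem_sup_of_comp finrank_sup_two
  isSquare_mul_of_iff)
open Cfsg.Agent.QuadClassify (Nondeg Aniso exists_partner)

variable {F V : Type*} [Field F] [Fintype F] [AddCommGroup V] [Module F V] [FiniteDimensional F V]
  {Q : QuadraticForm F V} {t : ℕ} {D : Fin t → Submodule F V} {π : Fin t → V →ₗ[F] V}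
  {M : Subgroup (orth Q)}

/-- A vector of given value whose image lies off the members. -/
theorem exists_mixed_plus (hh : Plus Q D) (hπ : Comp Q D π) (m : orth Q) {l : Fin t}
    (hl : ¬ ∃ j, ∀ z ∈ D l, m.1 z ∈ D j) {c : F} (hc : c ≠ 0) :
    ∃ w ∈ D l, Q w = c ∧ ∀ i, m.1 w ∉ D i := by
  have hD := hh.dec
  obtain ⟨e, f, hp⟩ := exists_hpair hh l
  by_contra hcon
  push Not at hcon
  have hmem : ∀ a : F, a ≠ 0 → ∃ i, m.1 (a • e + (c / a) • f) ∈ D i := fun a ha =>
    hcon _ (hp.mem_lin _ _) (by rw [hp.value_lin, mul_div_cancel₀ _ ha])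
  have hdiff : ∀ a b : F, a ≠ 0 → b ≠ 0 → a ^ 2 ≠ b ^ 2 → ∀ i,
      m.1 (a • e + (c / a) • f) ∈ D i → m.1 (b • e + (c / b) • f) ∉ D i := by
    intro a b ha hb hab i h1 h2
    exact hl ⟨i, fun z hz => hp.le_of_two hD (S := (D i).comap (m.1 : V →ₗ[F] V)) hc ha hb hab
      h1 h2 hz⟩
  obtain ⟨a₂, ha₂, h21, h21', -⟩ := exists_avoid hh.q7 1 (-1) 0 0 (0 : F)
  obtain ⟨a₃, ha₃, h31, h31', h32, h32', -⟩ := exists_avoid hh.q7 1 (-1) a₂ (-a₂) (0 : F)
  have n21 : (1 : F) ^ 2 ≠ a₂ ^ 2 := fun h => by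
    rcases sq_eq_sq_iff_eq_or_eq_neg.1 h.symm with h' | h'
    · exact h21 h'
    · exact h21' h'
  have n31 : (1 : F) ^ 2 ≠ a₃ ^ 2 := fun h => by
    rcases sq_eq_sq_iff_eq_or_eq_neg.1 h.symm with h' | h'
    · exact h31 h'
    · exact h31' h'
  have n32 : a₂ ^ 2 ≠ a₃ ^ 2 := fun h => by
    rcases sq_eq_sq_iff_eq_or_eq_neg.1 h.symm with h' | h'
    · exact h32 h'
    · exact h32' h'
  obtain ⟨i₁, hi₁⟩ := hmem 1 one_ne_zero
  obtain ⟨i₂, hi₂⟩ := hmem a₂ ha₂
  obtain ⟨i₃, hi₃⟩ := hmem a₃ ha₃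
  have h3₁ : i₃ ≠ i₁ := fun h => hdiff 1 a₃ one_ne_zero ha₃ n31 i₃ (by rw [h]; exact hi₁) hi₃
  have h3₂ : i₃ ≠ i₂ := fun h => hdiff a₂ a₃ ha₂ ha₃ n32 i₃ (by rw [h]; exact hi₂) hi₃
  have hker := hp.le_of_two hD (S := LinearMap.ker ((π i₃).comp (m.1 : V →ₗ[F] V))) hc one_ne_zero
    ha₂ n21 (by simpa using hπ.other hD h3₁ hi₁) (by simpa using hπ.other hD h3₂ hi₂)
    (hp.mem_lin a₃ (c / a₃))
  rw [LinearMap.mem_ker, LinearMap.comp_apply, LinearEquiv.coe_coe, hπ.self hD hi₃,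
    LinearEquiv.map_eq_zero_iff] at hker
  exact hp.lin_ne_zero (Or.inl ha₃) hker

/-- A member on which the image of exactly one vector of a hyperbolic pair vanishes. -/
theorem basic_of_kill (hnd : (polarBilin Q).Nondegenerate) (hh : Plus Q D) (hπ : Comp Q D π)
    (hH : Contains M D)
    (mono : ∀ m ∈ M, ∀ r, ∀ z ∈ D r, Q z ≠ 0 → m.1 z = z →
      ∀ i, ∃ j, ∀ z ∈ D i, m.1 z ∈ D j)
    {g : orth Q} (hg : g ∈ M) {s r : Fin t} {e f : V} (hp : HPair Q D s e f)
    (he : π r (g.1 e) = 0) (hf : π r (g.1 f) ≠ 0) : Basic M D := by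
  have hD := hh.dec
  obtain ⟨c, hc, hc1, hsq⟩ := exists_square hh.q7
  have hsq' : IsSquare c⁻¹ := hsq.inv
  obtain ⟨R, hR, hRx, -, -⟩ := exists_rot hnd hh hH hp hc hsq
  obtain ⟨R', hR', hR'x, -, -⟩ := exists_rot hnd hh hH hp (inv_ne_zero hc) hsq'
  obtain ⟨er, fr, hpr⟩ := exists_hpair hh r
  obtain ⟨h', hh', hh'x, -, hfix⟩ := exists_rot hnd hh hH hpr hc hsq
  set p := g.1 e with hpdef
  set q := g.1 f with hqdef
  set d := move Q c er fr q with hd
  have hdD : d ∈ D r := move_mem hpr c q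
  have hd0 : d ≠ 0 := move_ne_zero hpr hc1 (coord_ne_zero hpr hD hπ hf)
  have hpz : ∀ z ∈ D r, polar Q z p = 0 := fun z hz => polar_block_zero hπ hz he
  have hh'p : h'.1 p = p := hfix p (hpz _ hpr.he) (hpz _ hpr.hf)
  have hh'q : h'.1 q = q + d := hh'x q
  have hQp : Q p = 0 := by rw [hpdef, map_orth, hp.Qe]
  have hQq : Q q = 0 := by rw [hqdef, map_orth, hp.Qf]
  have hpq : polar Q p q = 1 := by rw [hpdef, hqdef, polar_orth g, hp.ef]
  have hp0 : p ≠ 0 := fun h => hp.ne_zero (g.1.map_eq_zero_iff.1 h)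
  have hpd : polar Q p d = 0 := (polar_comm _ p d).trans (hpz d hdD)
  have hdq : polar Q d q = -Q d := move_polar hpr hc q
  have hconj : ∀ (G : orth Q) (a : F) (S : orth Q), (∀ x, S.1 x = x + move Q a e f x) →
      ∀ x, (G * S * G⁻¹).1 x = x + ((a - 1) * polar Q (G.1 f) x) • G.1 e
        + ((a⁻¹ - 1) * polar Q (G.1 e) x) • G.1 f := by
    intro G a S hS x
    obtain ⟨y, rfl⟩ := G.1.surjective x
    rw [orth_mul_apply, orth_mul_apply, show (G⁻¹).1 (G.1 y) = y by
      rw [← orth_mul_apply, inv_mul_cancel]; rfl, hS, move, map_add, map_add, map_smul, map_smul,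
      polar_orth G, polar_orth G]
    abel
  set k := (h' * g) * R * (h' * g)⁻¹ * (g * R' * g⁻¹) with hk
  have hkM : k ∈ M := M.mul_mem (M.mul_mem (M.mul_mem (M.mul_mem hh' hg) hR)
    (M.inv_mem (M.mul_mem hh' hg))) (M.mul_mem (M.mul_mem hg hR') (M.inv_mem hg))
  set w := (1 - c) • d with hw
  have hwD : w ∈ D r := (D r).smul_mem _ hdD
  have hw0 : w ≠ 0 := smul_ne_zero (sub_ne_zero.2 (Ne.symm hc1)) hd0
  have hpw : polar Q p w = 0 := by rw [hw, polar_smul_right, hpd, smul_zero]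
  have hkS : k = siegel Q p w hQp hpw := orth_ext fun x => by
    rw [hk, orth_mul_apply, hconj (h' * g) c R hRx, hconj g c⁻¹ R' hR'x, inv_inv, siegel_apply]
    simp only [orth_mul_apply, ← hpdef, ← hqdef, hh'p, hh'q, hw, polar_add_right, polar_add_left,
      polar_smul_right, polar_smul_left, QuadraticMap.map_smul, smul_eq_mul]
    simp only [polar_self_mul, hQp, hQq, hpq, polar_comm Q q p, hdq,
      (polar_comm _ d p).trans hpd]
    match_scalars <;> field_simp <;> ring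
  have hs : SMem M p w := ⟨hQp, hpw, hkS ▸ hkM⟩
  by_cases hQw : Q w = 0
  · exact sing_reduce hnd hh hπ hH hs hwD hw0 hQw he hp0
  exfalso
  clear_value w
  -- a fixed non-singular vector of the member
  set z := polar Q fr w • er + (-polar Q er w) • fr with hz
  have hzD : z ∈ D r := hpr.mem_lin _ _
  have hQz : Q z ≠ 0 := by
    rw [hz, hpr.value_lin]
    intro h0
    exact hQw (by rw [hpr.value hD hwD]; linear_combination -h0)
  have hwz : polar Q w z = 0 := by
    rw [hz, polar_add_right, polar_smul_right, polar_smul_right, polar_comm Q w er,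
      polar_comm Q w fr, smul_eq_mul, smul_eq_mul]
    ring
  have hkz : k.1 z = z := by
    rw [hkS, siegel_apply, (polar_comm _ p z).trans (hpz z hzD), hwz]; simp
  obtain ⟨y, hy, hwy⟩ : ∃ y ∈ D r, polar Q w y ≠ 0 := by
    by_contra h
    push Not at h
    exact hw0 (hD.nd r w hwD h)
  have hky : k.1 y = y - polar Q w y • p := by
    rw [hkS, siegel_apply, (polar_comm _ p y).trans (hpz y hy)]; simp
  obtain ⟨j, hj⟩ := mono k hkM r z hzD hQz hkz r
  have h1 := hj y hy
  rw [hky] at h1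
  obtain ⟨i, hi⟩ := hπ.exists_ne hp0
  have hir : i ≠ r := fun h => hi (by rw [h]; exact he)
  have hy0 : y ≠ 0 := fun h => hwy (by rw [h, polar_zero_right])
  have e1 : π r (y - polar Q w y • p) ≠ 0 := by
    rw [map_sub, map_smul, hπ.self hD hy, he, smul_zero, sub_zero]; exact hy0
  have e2 : π i (y - polar Q w y • p) ≠ 0 := by
    rw [map_sub, map_smul, hπ.other hD hir hy, zero_sub, neg_ne_zero]
    exact smul_ne_zero hwy hi
  exact hir ((hπ.eq_of_mem hD h1 e2).trans (hπ.eq_of_mem hD h1 e1).symm)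

/-- Every member carries a non-singular vector orthogonal to a given one without singular
component there. -/
theorem exists_perp (hh : Plus Q D) (hπ : Comp Q D π) {x : V} {s : Fin t}
    (hx : π s x = 0 ∨ Q (π s x) ≠ 0) : ∃ v ∈ D s, Q v ≠ 0 ∧ polar Q v x = 0 := by
  have hD := hh.dec
  obtain ⟨e, f, hp⟩ := exists_hpair hh s
  rcases hx with hx | hx
  · exact ⟨(1 : F) • e + (1 : F) • f, hp.mem_lin _ _, by rw [hp.value_lin]; simp,
      polar_block_zero hπ (hp.mem_lin _ _) hx⟩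
  · rw [hp.value_comp hD hπ] at hx
    refine ⟨polar Q f x • e + (-polar Q e x) • f, hp.mem_lin _ _, by
      rw [hp.value_lin, mul_neg, neg_ne_zero]; exact hx, ?_⟩
    rw [polar_add_left, polar_smul_left, polar_smul_left, smul_eq_mul, smul_eq_mul]
    ring

/-- If no image of a singular vector vanishes on a member alone, no component map has a singular
image. -/
theorem singular_image (hD : Dec Q D 2) (hπ : Comp Q D π)
    (hkill : ∀ (m : orth Q) (s r : Fin t) (e f : V), m ∈ M → HPair Q D s e f → π r (m.1 e) = 0 →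
      π r (m.1 f) = 0)
    {m : orth Q} (hm : m ∈ M) {q r : Fin t} {e f : V} (hp : HPair Q D q e f)
    (hP : Q (π r (m.1 e)) = 0) (hR : Q (π r (m.1 f)) = 0)
    (hPR : polar Q (π r (m.1 e)) (π r (m.1 f)) = 0) :
    π r (m.1 e) = 0 ∧ π r (m.1 f) = 0 := by
  by_cases h0 : π r (m.1 e) = 0
  · exact ⟨h0, hkill m q r e f hm hp h0⟩
  exfalso
  set P := π r (m.1 e) with hPdef
  obtain ⟨δ, hδ⟩ := exists_hpair_of hD (hπ.mem r (m.1 e)) h0 hP
  have hinv : ∀ x, m.1 ((m⁻¹).1 x) = x := fun x => by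
    rw [← orth_mul_apply, mul_inv_cancel]; rfl
  have hadj : ∀ z ∈ D q, ∀ x ∈ D r, polar Q z (π q ((m⁻¹).1 x)) = polar Q x (π r (m.1 z)) := by
    intro z hz x hx
    rw [← hπ.polar_eq q z hz, ← hπ.polar_eq r x hx, ← polar_orth m z ((m⁻¹).1 x), hinv, polar_comm]
  have hzero : π q ((m⁻¹).1 P) = 0 := hD.nd q _ (hπ.mem q _) fun z hz => by
    rw [polar_comm, hadj z hz P hδ.he]
    obtain ⟨α, β, hαβ⟩ : ∃ α β : F, z = α • e + β • f := ⟨_, _, hp.coords hD hz⟩
    rw [hαβ, map_add, map_add, map_smul, map_smul, map_smul, map_smul, polar_add_right,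
      polar_smul_right, polar_smul_right, ← hPdef, hPR, polar_self_mul, hP]
    simp
  have h1 := hadj e hp.he δ hδ.hf
  rw [hkill m⁻¹ r q P δ (M.inv_mem hm) hδ hzero, polar_zero_right, ← hPdef, hδ.fe] at h1
  exact zero_ne_one h1

/-- An overgroup relates a mixed vector to block vectors or has a Siegel element at a block
vector. -/
theorem grow (hnd : (polarBilin Q).Nondegenerate) (hh : Plus Q D) (hπ : Comp Q D π)
    (hH : Contains M D) {g : orth Q} (hg : g ∈ M) (hgD : ¬ ∀ i, ∃ j, ∀ z ∈ D i, g.1 z ∈ D j) :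
    Basic M D ∨ ∃ x, Rep M D x ∧ ∀ i, x ∉ D i := by
  classical
  have hD := hh.dec
  have ht := hh.five
  obtain ⟨l₀, hl₀⟩ : ∃ l, ¬ ∃ j, ∀ z ∈ D l, g.1 z ∈ D j := not_forall.1 hgD
  refine or_iff_not_imp_right.2 fun hcon => ?_
  push Not at hcon
  have mixed : ∀ s, ∀ v ∈ D s, Q v ≠ 0 → ∀ i, g.1 v ∉ D i := by
    intro s v hv hQv i hi
    obtain ⟨w, hw, hQw, hmix⟩ := exists_mixed_plus hh hπ g hl₀ hQv
    have hp := (pair_plus hnd hh hH hw hv (by rw [hQw]; exact hQv)
      ⟨hQv, by rw [hQw]; exact ⟨_, rfl⟩⟩).map hg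
    obtain ⟨i', hi'⟩ := hcon _ (rep_of_pair_plus hnd hh hH hi hp
      ⟨by rw [map_orth g, hQw]; exact hQv, by rw [map_orth g, map_orth g, hQw]; exact ⟨_, rfl⟩⟩)
    exact hmix i' hi'
  have mono : ∀ m ∈ M, ∀ r, ∀ z ∈ D r, Q z ≠ 0 → m.1 z = z →
      ∀ i, ∃ j, ∀ z ∈ D i, m.1 z ∈ D j := by
    intro m hm r z hz hQz hmz i
    by_contra hi
    obtain ⟨w, hw, hQw, hmix⟩ := exists_mixed_plus hh hπ m hi hQz
    have hp := (pair_plus hnd hh hH hw hz (by rw [hQw]; exact hQz)
      ⟨hQz, by rw [hQw]; exact ⟨_, rfl⟩⟩).map hm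
    rw [hmz] at hp
    obtain ⟨i', hi'⟩ := hcon _ (rep_of_pair_plus hnd hh hH hz hp
      ⟨by rw [map_orth m, hQw]; exact hQz, by rw [map_orth m, hQw]; exact ⟨_, rfl⟩⟩)
    exact hmix i' hi'
  by_cases hkill : ∃ (m : orth Q) (s r : Fin t) (e f : V),
      m ∈ M ∧ HPair Q D s e f ∧ π r (m.1 e) = 0 ∧ π r (m.1 f) ≠ 0
  · obtain ⟨m, s, r, e, f, hm, hp, he, hf⟩ := hkill
    exact basic_of_kill hnd hh hπ hH mono hm hp he hf
  push Not at hkill
  have hnosing := fun (m : orth Q) (hm : m ∈ M) (q r : Fin t) (e f : V) (hp : HPair Q D q e f)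
      h1 h2 h3 => singular_image hD hπ hkill hm hp (r := r) h1 h2 h3
  exfalso
  -- the image of a class vector fixes the pair of members of its partners
  have support : ∀ (r : Fin t) (z : V), z ∈ D r → Q z ≠ 0 → ∀ (s s' : Fin t) (v w : V), s ≠ s' →
      v ∈ D s → w ∈ D s' → Q v ≠ 0 → SameClass (Q v) (Q w) → polar Q (g.1 v) z = 0 →
      polar Q (g.1 w) z = 0 →
      ∃ a b, a ≠ b ∧ π a (g.1 v) ≠ 0 ∧ π b (g.1 v) ≠ 0 ∧
        ∀ q, (q = a ∨ q = b) ↔ π q (g.1 w) ≠ 0 ∨ π q (g.1 v) ≠ 0 := by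
    intro r z hz hQz s s' v w hss hv hw hQv hvw hvz hwz
    obtain ⟨h1, h2, hm⟩ := (pair_plus hnd hh hH hv hw hQv hvw).map hg
    have hfix : (refl Q (g.1 v) h1 * refl Q (g.1 w) h2).1 z = z := by
      rw [orth_mul_apply, refl_fix _ h2 hwz, refl_fix _ h1 hvz]
    have hind : ∀ p q : F, p • g.1 v + q • g.1 w = 0 → p = 0 ∧ q = 0 := by
      intro p q hpq
      rw [← map_smul, ← map_smul, ← map_add, LinearEquiv.map_eq_zero_iff] at hpq
      have e1 := congrArg (π s) hpq
      have e2 := congrArg (π s') hpq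
      simp only [map_add, map_smul, hπ.self hD hv, hπ.self hD hw, hπ.other hD hss hw,
        hπ.other hD hss.symm hv, smul_zero, add_zero, zero_add, map_zero] at e1 e2
      exact ⟨(smul_eq_zero.1 e1).resolve_right fun h => hQv (by rw [h, QuadraticMap.map_zero]),
        (smul_eq_zero.1 e2).resolve_right fun h => hvw.1 (by rw [h, QuadraticMap.map_zero])⟩
    obtain ⟨a, b, hab⟩ := pair_support hD hπ h1 h2
      (by rw [polar_orth g, hD.orth s s' hss v hv w hw]) hind (mono _ hm r z hz hQz hfix)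
    have two : ∀ u, (∀ i, u ∉ D i) → (∀ q, q ≠ a → q ≠ b → π q u = 0) →
        a ≠ b ∧ π a u ≠ 0 ∧ π b u ≠ 0 := by
      intro u hu hq
      obtain ⟨i, hia, hi⟩ := exists_other hπ hu a
      obtain ⟨j, hjb, hj⟩ := exists_other hπ hu b
      have hib : i = b := by_contra fun h => hi (hq i hia h)
      have hja : j = a := by_contra fun h => hj (hq j h hjb)
      subst hib hja
      exact ⟨hia.symm, hj, hi⟩
    obtain ⟨hne, hva, hvb⟩ := two _ (mixed s v hv hQv) fun q h h' => (hab q h h').1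
    refine ⟨a, b, hne, hva, hvb, fun q => ⟨?_, fun hq => ?_⟩⟩
    · rintro (rfl | rfl)
      · exact Or.inr hva
      · exact Or.inr hvb
    · by_contra hq'
      push Not at hq'
      obtain ⟨e1, e2⟩ := hab q hq'.1 hq'.2
      exact hq.elim (fun h => h e2) (fun h => h e1)
  -- every image has all its components
  have full : ∀ s, ∀ v ∈ D s, Q v ≠ 0 → ∀ r, π r (g.1 v) ≠ 0 := by
    intro s v hv hQv r hr
    have hrep : ∀ q, ∃ w ∈ D q, Q w = Q v ∧
        (π r (g.1 w) = 0 ∨ Q (π r (g.1 w)) ≠ 0) ∧ (q = s → w = v) := fun q => by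
      rcases eq_or_ne q s with rfl | hqs
      · exact ⟨v, hv, rfl, Or.inl hr, fun _ => rfl⟩
      obtain ⟨e, f, hp⟩ := exists_hpair hh q
      by_contra hno
      set P := π r (g.1 e) with hP
      set R := π r (g.1 f) with hR
      set c := Q v
      have key : ∀ k : F, k ≠ 0 →
          k • P + (c / k) • R ≠ 0 ∧ (k ^ 2) ^ 2 * Q P + k ^ 2 * (c * polar Q P R) + c ^ 2 * Q R = 0 := by
        intro k hk
        have hw : π r (g.1 (k • e + (c / k) • f)) = k • P + (c / k) • R := by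
          rw [map_add, map_add, map_smul, map_smul, map_smul, map_smul]
        have h0 : π r (g.1 (k • e + (c / k) • f)) ≠ 0 ∧ Q (π r (g.1 (k • e + (c / k) • f))) = 0 := by
          by_contra hc
          exact hno ⟨_, hp.mem_lin _ _, by rw [hp.value_lin, mul_div_cancel₀ _ hk],
            or_iff_not_imp_left.2 fun h h' => hc ⟨h, h'⟩, fun h => absurd h hqs⟩
        rw [hw] at h0
        refine ⟨h0.1, ?_⟩
        have h1 := h0.2
        simp only [QuadraticMap.map_add (⇑Q), QuadraticMap.map_smul, polar_smul_left,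
          polar_smul_right, smul_eq_mul] at h1
        field_simp at h1
        linear_combination h1
      obtain ⟨a₂, ha₂, h21, h21', -⟩ := exists_avoid hh.q7 1 (-1) 0 0 (0 : F)
      obtain ⟨a₃, ha₃, h31, h31', h32, h32', -⟩ := exists_avoid hh.q7 1 (-1) a₂ (-a₂) (0 : F)
      have n21 : (1 : F) ^ 2 - a₂ ^ 2 ≠ 0 := fun h => by
        rcases sq_eq_sq_iff_eq_or_eq_neg.1 (sub_eq_zero.1 h).symm with h' | h'
        · exact h21 h'
        · exact h21' h'
      have n31 : (1 : F) ^ 2 - a₃ ^ 2 ≠ 0 := fun h => by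
        rcases sq_eq_sq_iff_eq_or_eq_neg.1 (sub_eq_zero.1 h).symm with h' | h'
        · exact h31 h'
        · exact h31' h'
      have n32 : a₂ ^ 2 - a₃ ^ 2 ≠ 0 := fun h => by
        rcases sq_eq_sq_iff_eq_or_eq_neg.1 (sub_eq_zero.1 h).symm with h' | h'
        · exact h32 h'
        · exact h32' h'
      obtain ⟨k1, q1⟩ := key 1 one_ne_zero
      obtain ⟨-, q2⟩ := key a₂ ha₂
      obtain ⟨-, q3⟩ := key a₃ ha₃
      have e12 : (1 ^ 2 + a₂ ^ 2) * Q P + c * polar Q P R = 0 :=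
        mul_left_cancel₀ n21 (by linear_combination q1 - q2)
      have e13 : (1 ^ 2 + a₃ ^ 2) * Q P + c * polar Q P R = 0 :=
        mul_left_cancel₀ n31 (by linear_combination q1 - q3)
      have hQP : Q P = 0 := mul_left_cancel₀ n32 (by linear_combination e12 - e13)
      have hPR : polar Q P R = 0 :=
        mul_left_cancel₀ hQv (by rw [hQP] at e12; linear_combination e12)
      have hQR : Q R = 0 := mul_left_cancel₀ (pow_ne_zero 2 hQv)
        (by rw [hQP, hPR] at q1; linear_combination q1)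
      obtain ⟨hP0, hR0⟩ := hnosing g hg q r e f hp hQP hQR hPR
      exact k1 (by rw [hP, hR, hP0, hR0]; simp)
    choose w hwD hwQ hwr hws using hrep
    refine OmegaFivePlanesGrow58.collapse hD hπ ht g w hwD
      (fun q h => hQv (by rw [← hwQ q, h, QuadraticMap.map_zero])) (hws s rfl) fun q hqs => ?_
    obtain ⟨z, hz, hQz, hzw⟩ := exists_perp hh hπ (hwr q)
    exact support r z hz hQz s q v (w q) hqs.symm hv (hwD q) hQv
      ⟨by rw [hwQ]; exact hQv, by rw [hwQ]; exact ⟨_, rfl⟩⟩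
      (by rw [polar_comm]; exact polar_block_zero hπ hz hr) (by rw [polar_comm]; exact hzw)
  -- choose a block vector whose preimage has few singular components
  let r₀ : Fin t := ⟨0, by omega⟩
  obtain ⟨e', f', hp'⟩ := exists_hpair hh r₀
  let zb : F → V := fun b => (1 : F) • e' + b • f'
  let bad : F → Fin t → Prop := fun b s =>
    π s (g.1.symm (zb b)) ≠ 0 ∧ Q (π s (g.1.symm (zb b))) = 0
  have hbad : ∀ s, ((Finset.univ.erase (0 : F)).filter fun b => bad b s).card ≤ 2 := by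
    intro s
    set u := π s (g.1.symm e') with hu
    set v := π s (g.1.symm f') with hv
    have hexp : ∀ b, π s (g.1.symm (zb b)) = u + b • v := fun b => by
      simp [zb, hu, hv]
    have hval : ∀ b, Q (u + b • v) = Q u + b * polar Q u v + b ^ 2 * Q v := fun b => by
      rw [QuadraticMap.map_add (⇑Q), QuadraticMap.map_smul, polar_smul_right, smul_eq_mul,
        smul_eq_mul]
      ring
    by_contra hgt
    obtain ⟨b₁, b₂, b₃, h1, h2, h3, n12, n13, n23⟩ := Finset.two_lt_card_iff.1 (not_le.1 hgt)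
    simp only [Finset.mem_filter, bad, hexp] at h1 h2 h3
    have q1 : Q u + b₁ * polar Q u v + b₁ ^ 2 * Q v = 0 := by rw [← hval]; exact h1.2.2
    have q2 : Q u + b₂ * polar Q u v + b₂ ^ 2 * Q v = 0 := by rw [← hval]; exact h2.2.2
    have q3 : Q u + b₃ * polar Q u v + b₃ ^ 2 * Q v = 0 := by rw [← hval]; exact h3.2.2
    have e12 : polar Q u v + (b₁ + b₂) * Q v = 0 :=
      mul_left_cancel₀ (sub_ne_zero.2 n12) (by linear_combination q1 - q2)
    have e13 : polar Q u v + (b₁ + b₃) * Q v = 0 :=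
      mul_left_cancel₀ (sub_ne_zero.2 n13) (by linear_combination q1 - q3)
    have hQv : Q v = 0 :=
      mul_left_cancel₀ (sub_ne_zero.2 n23) (by linear_combination e12 - e13)
    have huv : polar Q u v = 0 := by rw [hQv] at e12; linear_combination e12
    have hQu : Q u = 0 := by rw [hQv, huv] at q1; linear_combination q1
    obtain ⟨hu0, hv0⟩ := hnosing g⁻¹ (M.inv_mem hg) r₀ s e' f' hp' hQu hQv huv
    exact h1.2.1 (by rw [show u = 0 from hu0, show v = 0 from hv0]; simp)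
  obtain ⟨b, hb0, hb⟩ : ∃ b : F, b ≠ 0 ∧ 3 * (Finset.univ.filter fun s => bad b s).card ≤ t := by
    by_contra hc
    push Not at hc
    have h1 := Finset.sum_card_bipartiteAbove_eq_sum_card_bipartiteBelow bad
      (s := Finset.univ.erase (0 : F)) (t := (Finset.univ : Finset (Fin t)))
    simp only [Finset.bipartiteAbove, Finset.bipartiteBelow] at h1
    have h2 : ∑ s : Fin t, ((Finset.univ.erase (0 : F)).filter fun b => bad b s).card ≤ 2 * t := by
      refine (Finset.sum_le_sum fun s _ => hbad s).trans ?_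
      simp; omega
    have h3 : (Finset.univ.erase (0 : F)).card * (t + 1)
        ≤ ∑ b ∈ Finset.univ.erase (0 : F), 3 * (Finset.univ.filter fun s => bad b s).card := by
      refine le_of_eq_of_le ?_ (Finset.sum_le_sum fun b hb => hc b (Finset.ne_of_mem_erase hb))
      simp [mul_comm]
    rw [← Finset.mul_sum, h1, Finset.card_erase_of_mem (Finset.mem_univ _), Finset.card_univ] at h3
    have h4 : 6 * (t + 1) ≤ (Fintype.card F - 1) * (t + 1) :=
      Nat.mul_le_mul_right _ (by have := hh.q7; omega)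
    omega
  have hzD : zb b ∈ D r₀ := hp'.mem_lin _ _
  have hQzb : Q (zb b) ≠ 0 := by simp only [zb, hp'.value_lin, one_mul]; exact hb0
  set G := Finset.univ.filter fun s => ¬ bad b s with hG
  have hGcard : 3 ≤ G.card := by
    have := Finset.card_filter_add_card_filter_not (s := (Finset.univ : Finset (Fin t)))
      fun s => bad b s
    rw [Finset.card_univ, Fintype.card_fin, ← hG] at this
    omega
  have hperp : ∀ s, ∃ v ∈ D s, Q v ≠ 0 ∧ (s ∈ G → polar Q (g.1 v) (zb b) = 0) := by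
    intro s
    by_cases hs : s ∈ G
    · have hs' : π s (g.1.symm (zb b)) = 0 ∨ Q (π s (g.1.symm (zb b))) ≠ 0 := by
        simp only [hG, Finset.mem_filter, Finset.mem_univ, true_and, bad, not_and] at hs
        exact or_iff_not_imp_left.2 hs
      obtain ⟨v, hv, hQv, hvx⟩ := exists_perp hh hπ hs'
      exact ⟨v, hv, hQv, fun _ => by
        rw [← g.1.apply_symm_apply (zb b), polar_orth g]; exact hvx⟩
    · obtain ⟨v, hv, hQv⟩ := exists_value hh s 1
      exact ⟨v, hv, by rw [hQv]; exact one_ne_zero, fun h => absurd h hs⟩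
  choose v hvD hQv hvz using hperp
  obtain ⟨cls, -, hcls⟩ := Finset.exists_lt_card_fiber_of_mul_lt_card_of_maps_to
    (s := G) (t := (Finset.univ : Finset Bool)) (f := fun s => decide (IsSquare (Q (v s))))
    (fun _ _ => Finset.mem_univ _) (n := 1) (by simp; omega)
  obtain ⟨s₀, hs₀, s₁, hs₁, hs01⟩ := Finset.one_lt_card.1 hcls
  rw [Finset.mem_filter] at hs₀ hs₁
  obtain ⟨a, c, -, -, -, hiff⟩ := support r₀ (zb b) hzD hQzb s₀ s₁ (v s₀) (v s₁) hs01 (hvD _)
    (hvD _) (hQv _) ⟨hQv _, isSquare_mul_of_iff (hQv s₀) (hQv s₁)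
      (decide_eq_decide.1 (hs₀.2.trans hs₁.2.symm))⟩ (hvz _ hs₀.1) (hvz _ hs₁.1)
  obtain ⟨q, hqa, hqc, -⟩ := exists_index ht a c c
  exact ((hiff q).2 (Or.inr (full s₀ _ (hvD _) (hQv _) q))).elim hqa hqc

/-- Stabilisers of decompositions into hyperbolic planes are maximal. -/
theorem commutator_le (hnd : (polarBilin Q).Nondegenerate) (hh : Plus Q D) (hH : Contains M D)
    {g : orth Q} (hg : g ∈ M) (hgD : ¬ ∀ i, ∃ j, ∀ x ∈ D i, g.1 x ∈ D j) :
    commutator (orth Q) ≤ M := by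
  obtain ⟨π, hπ⟩ := exists_comp hnd hh.dec
  refine commutator_le_of_basic hnd hh hπ hH ?_
  rcases grow hnd hh hπ hH hg hgD with hB | ⟨x, hx, hmix⟩
  · exact hB
  · exact basic_of_rep hnd hh hπ hH hx hmix

end Cfsg.Agent.OmegaFivePlusGrow58
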