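import Cfsg.Prelude
import Cfsg.Agent.Lib.ExtFieldThree10Glue
import Cfsg.Agent.Lib.OmegaStd

/-!
The normalisers of cubic fields of self-adjoint matrices in the nine-dimensional orthogonal group.
-/

set_option autoImplicit false

namespace Cfsg.Agent.OmegaNineField44

open Cfsg.Agent.OrthUnitaryQuad Cfsg.Agent.OrthUnitaryPrelude Cfsg.Agent.OmegaClasses Cfsg.Agent.OmegaGeo
  Cfsg.Agent.OmegaMaxGlue

/-- The field clause of the nine-dimensional list. -/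
theorem field {F : Type*} [Field F] [Fintype F] (hodd : Odd (Fintype.card F)) :
    ∀ K : Subalgebra F (Matrix (Unit ⊕ (Fin 4 ⊕ Fin 4)) (Unit ⊕ (Fin 4 ⊕ Fin 4)) F),
      Cfsg.Geo.IsFieldSubalgebra 3 K → Cfsg.Geo.IsSelfAdjointFor (QuadraticMap.polar (Cfsg.quadFormOdd 4 F)) K →
      Cfsg.Geo.IsMaximalIn (Cfsg.Geo.omegaGL (Cfsg.quadFormOdd 4 F))
        (Cfsg.Geo.subalgebraNormalizer K ⊓ Cfsg.Geo.omegaGL (Cfsg.quadFormOdd 4 F)) := by
  classical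
  have h2 : (2 : F) ≠ 0 := OmegaStd.two_ne_zero rfl hodd
  obtain ⟨q, hq, hnd⟩ : ∃ q : QuadraticForm F (Unit ⊕ (Fin 4 ⊕ Fin 4) → F),
      ⇑q = Cfsg.quadFormOdd 4 F ∧ (QuadraticMap.polarBilin q).Nondegenerate :=
    ⟨QuadClassify.qOdd 4 F, QuadClassify.qOdd_coe 4, nondeg_odd h2⟩
  rw [← hq]
  exact fun K hK hsa => ExtFieldThree10Glue.isMaximalIn q hnd h2 Nat.prime_three K hK hsa (by simp) le_rfl

end Cfsg.Agent.OmegaNineField44
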