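import Mathlib
import Cfsg.Agent.Lib.OmegaStabNondeg

/-!
Small tools for the stabiliser of a non-degenerate subspace in low dimension: splittings, planes.
-/

set_option autoImplicit false

namespace Cfsg.Agent.OmegaNondegTools11

open QuadraticMap Module
open Cfsg.Agent.OrthUnitaryQuad Cfsg.Agent.OrthUnitaryPrelude Cfsg.Agent.OrthUnitaryRefl
  Cfsg.Agent.OmegaClasses Cfsg.Agent.OmegaGeo Cfsg.Agent.OrthUnitarySimple
  Cfsg.Agent.OmegaStabSingular Cfsg.Agent.OmegaStabTools Cfsg.Agent.OmegaStabNondeg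
open Cfsg.Agent.QuadClassify (Nondeg Aniso exists_partner pair_complement)

variable {F V : Type*} [Field F] [Fintype F] [AddCommGroup V] [Module F V] [FiniteDimensional F V]
  {Q : QuadraticForm F V}

omit [Fintype F] [FiniteDimensional F V] in
/-- A subspace meets its orthogonal space trivially. -/
theorem eq_zero_of_mem {S : Submodule F V} (hS : Nondeg Q S) {x : V} (hx : x ∈ S)
    (hx' : x ∈ perp Q S) : x = 0 :=
  hS x hx fun w hw => (polar_comm _ x w).trans (hx' w hw)

omit [Fintype F] in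
/-- Every vector splits along a non-degenerate subspace. -/
theorem exists_split (hnd : (polarBilin Q).Nondegenerate) {S : Submodule F V} (hS : Nondeg Q S)
    (x : V) : ∃ s ∈ S, ∃ t ∈ perp Q S, x = s + t := by
  have hdisj : S ⊓ perp Q S = ⊥ := by
    rw [Submodule.eq_bot_iff]
    exact fun v hv => eq_zero_of_mem hS hv.1 hv.2
  have htop : S ⊔ perp Q S = ⊤ := by
    refine Submodule.eq_top_of_finrank_eq ?_
    have h := Submodule.finrank_sup_add_finrank_inf_eq S (perp Q S)
    rw [hdisj, finrank_bot] at h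
    have h1 : finrank F (perp Q S) = finrank F V - finrank F S :=
      LinearMap.BilinForm.finrank_orthogonal hnd S
    have h2 := Submodule.finrank_le S
    omega
  obtain ⟨s, hs, t, ht, hst⟩ := Submodule.mem_sup.1 (show x ∈ S ⊔ perp Q S by rw [htop]; trivial)
  exact ⟨s, hs, t, ht, hst.symm⟩

omit [Fintype F] [FiniteDimensional F V] in
/-- The splitting is unique. -/
theorem split_unique {S : Submodule F V} (hS : Nondeg Q S) {s s' t t' : V} (hs : s ∈ S)
    (hs' : s' ∈ S) (ht : t ∈ perp Q S) (ht' : t' ∈ perp Q S) (h : s + t = s' + t') :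
    s = s' ∧ t = t' := by
  have h1 : s - s' = t' - t := by
    rw [sub_eq_sub_iff_add_eq_add, h, add_comm]
  have h0 : s - s' = 0 := eq_zero_of_mem hS (S.sub_mem hs hs')
    (h1 ▸ (perp Q S).sub_mem ht' ht)
  have hss := sub_eq_zero.1 h0
  exact ⟨hss, by rw [hss] at h; exact add_left_cancel h⟩

omit [Fintype F] in
/-- The orthogonal space of a non-degenerate subspace is non-degenerate. -/
theorem perp_nondeg (hnd : (polarBilin Q).Nondegenerate) {S : Submodule F V} (hS : Nondeg Q S) :
    Nondeg Q (perp Q S) := by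
  intro x hx h
  refine hnd.1 x fun z => ?_
  obtain ⟨s, hs, t, ht, rfl⟩ := exists_split hnd hS z
  show polar Q x (s + t) = 0
  rw [polar_add_right, h t ht, (polar_comm _ x s).trans (hx s hs), add_zero]

omit [FiniteDimensional F V] in
/-- An anisotropic plane is non-degenerate. -/
theorem aniso_plane_nondeg {K : Submodule F V} (ha : Aniso Q K) (hd : finrank F K = 2) :
    Nondeg Q K := by
  haveI : FiniteDimensional F K := FiniteDimensional.of_finrank_pos (by omega)
  intro x hx h
  by_contra hx0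
  obtain ⟨w, hw, hwx⟩ : ∃ w ∈ K, w ∉ Submodule.span F {x} := by
    by_contra hc
    push Not at hc
    have := Submodule.finrank_mono (show K ≤ Submodule.span F {x} from hc)
    rw [finrank_span_singleton hx0] at this
    omega
  have hQx : Q x ≠ 0 := fun h0 => hx0 (ha x hx h0)
  have h2 : (2 : F) = 0 := by
    have := h x hx
    rw [polar_self_mul] at this
    exact (mul_eq_zero.1 this).resolve_right hQx
  obtain ⟨r, hr⟩ := QuadClassify.isSquare_of_two_eq_zero h2 (-Q w / Q x)
  refine hwx ?_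
  have h0 : r • x + w = 0 := by
    refine ha _ (K.add_mem (K.smul_mem _ hx) hw) ?_
    rw [QuadraticMap.map_add (⇑Q), QuadraticMap.map_smul, polar_smul_left, h w hw, ← hr]
    simp [hQx]
  rw [eq_neg_of_add_eq_zero_right h0]
  exact neg_mem (Submodule.smul_mem _ r (Submodule.mem_span_singleton_self x))

/-- A vector of given value inside a non-degenerate subspace, orthogonal to a given one. -/
theorem exists_rep_perp {U : Submodule F V} (hU : Nondeg Q U) {y : V} (hy : y ∈ U)
    (h : 4 ≤ finrank F U ∨ (3 ≤ finrank F U ∧ (2 : F) ≠ 0 ∧ Q y ≠ 0)) (c : F) :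
    ∃ v ∈ U, polar Q y v = 0 ∧ Q v = c := by
  set N := U ⊓ LinearMap.ker (polarBilin Q y) with hN
  have hNd : finrank F U ≤ finrank F N + 1 := QuadClassify.finrank_ker_inf U (polarBilin Q y)
  -- two independent functionals
  by_cases hQy : Q y = 0
  · by_cases hy0 : y = 0
    · obtain ⟨v, hv, hQv⟩ := nondeg_represents hU (by omega) c
      exact ⟨v, hv, by rw [hy0, polar_zero_left], hQv⟩
    rcases h with h | h
    · obtain ⟨f, hf, hQf, hyf⟩ := exists_partner Q hU hy hy0 hQy
      obtain ⟨hC, hCd⟩ := pair_complement Q hU hy hf hQy hQf hyf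
      obtain ⟨v, hv, hQv⟩ := nondeg_represents hC (by omega) c
      exact ⟨v, hv.1.1, hv.1.2, hQv⟩
    · exact absurd hQy h.2.2
  by_cases h4 : 4 ≤ finrank F U
  · obtain ⟨e, he, he0, hQe⟩ := QuadClassify.exists_singular Q N (by omega)
    obtain ⟨n, hn, hen⟩ : ∃ n ∈ N, polar Q e n ≠ 0 := by
      by_contra hc
      push Not at hc
      obtain ⟨g, hg, hyg⟩ : ∃ g ∈ U, polar Q y g ≠ 0 := by
        by_contra hc'
        push Not at hc'
        exact hQy (by rw [hU y hy hc', QuadraticMap.map_zero])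
      set t := polar Q e g / polar Q y g with ht
      have h0 : e - t • y = 0 := by
        refine hU _ (U.sub_mem he.1 (U.smul_mem _ hy)) fun z hz => ?_
        set r := polar Q y z / polar Q y g
        have hzN : z - r • g ∈ N := by
          refine ⟨U.sub_mem hz (U.smul_mem _ hg), ?_⟩
          show polar Q y (z - r • g) = 0
          rw [polar_sub_right, polar_smul_right, smul_eq_mul, div_mul_cancel₀ _ hyg, sub_self]
        have h1 := hc _ hzN
        rw [polar_sub_right, polar_smul_right, sub_eq_zero] at h1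
        rw [polar_sub_left, polar_smul_left, h1]
        simp only [smul_eq_mul, t, r]
        field_simp
        ring
      have h1 : t * t * Q y = 0 := by
        have := congrArg (⇑Q) (sub_eq_zero.1 h0)
        rw [hQe, QuadraticMap.map_smul, smul_eq_mul] at this
        exact this.symm
      rcases mul_eq_zero.1 h1 with h2 | h2
      · rw [mul_self_eq_zero.1 h2, zero_smul, sub_zero] at h0
        exact he0 h0
      · exact hQy h2
    refine ⟨n + ((c - Q n) / polar Q e n) • e, U.add_mem hn.1 (U.smul_mem _ he.1), ?_, ?_⟩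
    · rw [polar_add_right, polar_smul_right, show polar Q y n = 0 from hn.2,
        show polar Q y e = 0 from he.2]
      simp
    · rw [QuadraticMap.map_add (⇑Q), QuadraticMap.map_smul, hQe, polar_smul_right,
        polar_comm Q n e]
      simp [div_mul_cancel₀ _ hen]
  · obtain ⟨h3, h2, -⟩ := h.resolve_left h4
    have hNnd : Nondeg Q N := by
      intro x hx hx'
      refine hU x hx.1 fun z hz => ?_
      set r := polar Q y z / polar Q y y with hr
      have hyy : polar Q y y ≠ 0 := by
        rw [polar_self_mul]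
        exact mul_ne_zero h2 hQy
      have hzN : z - r • y ∈ N := by
        refine ⟨U.sub_mem hz (U.smul_mem _ hy), ?_⟩
        show polar Q y (z - r • y) = 0
        rw [polar_sub_right, polar_smul_right, smul_eq_mul, div_mul_cancel₀ _ hyy, sub_self]
      have h1 := hx' _ hzN
      rwa [polar_sub_right, polar_smul_right, polar_comm Q x y,
        show polar Q y x = 0 from hx.2, smul_zero, sub_zero] at h1
    obtain ⟨v, hv, hQv⟩ := nondeg_represents hNnd (by omega) c
    exact ⟨v, hv.1, hv.2, hQv⟩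

omit [Fintype F] [FiniteDimensional F V] in
/-- A plane contains a non-zero vector orthogonal to a given one. -/
theorem exists_perp_in_plane {K : Submodule F V} (hd : finrank F K = 2) (x : V) :
    ∃ z ∈ K, z ≠ 0 ∧ polar Q x z = 0 := by
  haveI : FiniteDimensional F K := FiniteDimensional.of_finrank_pos (by omega)
  obtain ⟨w, hw, hw0⟩ := Submodule.exists_mem_ne_zero_of_ne_bot (p := K)
    (fun hb => by rw [hb, finrank_bot] at hd; omega)
  by_cases hxw : polar Q x w = 0
  · exact ⟨w, hw, hw0, hxw⟩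
  obtain ⟨u, hu, huw⟩ : ∃ u ∈ K, u ∉ Submodule.span F {w} := by
    by_contra hc
    push Not at hc
    have := Submodule.finrank_mono (show K ≤ Submodule.span F {w} from hc)
    rw [finrank_span_singleton hw0] at this
    omega
  refine ⟨u - (polar Q x u / polar Q x w) • w, K.sub_mem hu (K.smul_mem _ hw), fun h => huw ?_, ?_⟩
  · rw [sub_eq_zero.1 h]
    exact Submodule.smul_mem _ _ (Submodule.mem_span_singleton_self w)
  · rw [polar_sub_right, polar_smul_right, smul_eq_mul, div_mul_cancel₀ _ hxw, sub_self]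

omit [FiniteDimensional F V] [Fintype F] in
/-- A vector pairing to a prescribed value with a non-zero one. -/
theorem exists_pairing {K : Submodule F V} (hK : Nondeg Q K) {x : V} (hx : x ∈ K) (hx0 : x ≠ 0)
    (c : F) : ∃ z ∈ K, polar Q x z = c := by
  obtain ⟨w, hw, hxw⟩ : ∃ w ∈ K, polar Q x w ≠ 0 := by
    by_contra hc
    push Not at hc
    exact hx0 (hK x hx hc)
  exact ⟨(c / polar Q x w) • w, K.smul_mem _ hw, by
    rw [polar_smul_right, smul_eq_mul, div_mul_cancel₀ _ hxw]⟩

/-- A non-singular vector orthogonal to `x + t`, in neither of two orthogonal planes. -/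
theorem exists_mixed_vector {K P : Submodule F V} (hK : Nondeg Q K) (hKa : Aniso Q K)
    (hK2 : finrank F K = 2) (hP : Nondeg Q P) (hP2 : finrank F P = 2)
    (hKP : ∀ a ∈ K, ∀ b ∈ P, polar Q a b = 0) {x t : V} (hx : x ∈ K) (ht : t ∈ P)
    (h : Fintype.card F ≠ 2 ∨ (x ≠ 0 ∧ (2 : F) = 0 ∧ ∃ e ∈ P, e ≠ 0 ∧ Q e = 0)) :
    ∃ x₂ ∈ K, ∃ p₂ ∈ P, x₂ ≠ 0 ∧ p₂ ≠ 0 ∧ polar Q x x₂ + polar Q t p₂ = 0 ∧
      Q (x₂ + p₂) ≠ 0 := by
  have hQ : ∀ {a b : V}, a ∈ K → b ∈ P → Q (a + b) = Q a + Q b := fun {a b} ha hb => by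
    rw [QuadraticMap.map_add (⇑Q), hKP a ha b hb, add_zero]
  rcases h with hq | ⟨hx0, h2, e, he, he0, hQe⟩
  · obtain ⟨ν, hν0, hν1⟩ := exists_ne_zero_one hq
    have havoid : ∀ d : F, ∃ c : F, c ≠ 0 ∧ c + d ≠ 0 := fun d => by
      by_cases hd : d = 0
      · exact ⟨1, one_ne_zero, by simp [hd]⟩
      · refine ⟨-d * ν, mul_ne_zero (neg_ne_zero.2 hd) hν0, fun h0 => hν1 ?_⟩
        have : d * (1 - ν) = 0 := by linear_combination h0
        exact (sub_eq_zero.1 ((mul_eq_zero.1 this).resolve_left hd)).symm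
    by_cases ht0 : t = 0
    · obtain ⟨x', hx', hx'0, hxx'⟩ := exists_perp_in_plane (Q := Q) hK2 x
      obtain ⟨c, hc, hca⟩ := havoid (Q x')
      obtain ⟨p, hp, hQp⟩ := nondeg_represents hP (by omega) c
      refine ⟨x', hx', p, hp, hx'0, fun h0 => hc ?_, ?_, ?_⟩
      · rw [← hQp, h0, QuadraticMap.map_zero]
      · rw [hxx', ht0, polar_zero_left, add_zero]
      · rw [hQ hx' hp, hQp, add_comm]; exact hca
    by_cases hx0 : x = 0
    · obtain ⟨p, hp, hp0, htp⟩ := exists_perp_in_plane (Q := Q) hP2 t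
      obtain ⟨c, hc, hca⟩ := havoid (Q p)
      obtain ⟨x', hx', hQx'⟩ := nondeg_represents hK (by omega) c
      refine ⟨x', hx', p, hp, fun h0 => hc ?_, hp0, ?_, ?_⟩
      · rw [← hQx', h0, QuadraticMap.map_zero]
      · rw [htp, hx0, polar_zero_left, zero_add]
      · rw [hQ hx' hp, hQx']; exact hca
    obtain ⟨p₀, hp₀, htp⟩ := exists_pairing hP ht ht0 1
    obtain ⟨x₀, hx₀, hxx₀⟩ := exists_pairing hK hx hx0 (-1)
    obtain ⟨x', hx', hx'0, hxx'⟩ := exists_perp_in_plane (Q := Q) hK2 x
    obtain ⟨l, hl⟩ : ∃ l : F, Q (x₀ + l • x' + p₀) ≠ 0 := by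
      by_contra hall
      push Not at hall
      set A := Q x' with hA
      set C := polar Q x₀ x' with hC
      set D := Q x₀ + Q p₀ with hD
      have hval : ∀ l : F, l * l * A + l * C + D = 0 := fun l => by
        have := hall l
        rw [hQ (K.add_mem hx₀ (K.smul_mem _ hx')) hp₀, QuadraticMap.map_add (⇑Q) x₀,
          QuadraticMap.map_smul, polar_smul_right] at this
        simp only [smul_eq_mul] at this
        linear_combination this
      have e0 := hval 0
      have e1 := hval 1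
      have e2 := hval ν
      have hA0 : (ν * ν - ν) * A = 0 := by linear_combination e2 - ν * e1 + (ν - 1) * e0
      have hνν : ν * ν - ν ≠ 0 := by
        rw [show ν * ν - ν = ν * (ν - 1) by ring]
        exact mul_ne_zero hν0 (sub_ne_zero.2 hν1)
      exact hx'0 (hKa x' hx' ((mul_eq_zero.1 hA0).resolve_left hνν))
    refine ⟨x₀ + l • x', K.add_mem hx₀ (K.smul_mem _ hx'), p₀, hp₀, fun h0 => ?_,
      fun h0 => ?_, ?_, hl⟩
    · have := congrArg (polar Q x) h0
      rw [polar_add_right, polar_smul_right, hxx₀, hxx', polar_zero_right, smul_zero, add_zero] at this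
      exact one_ne_zero (neg_eq_zero.1 this)
    · rw [h0, polar_zero_right] at htp
      exact zero_ne_one htp
    · rw [polar_add_right, polar_smul_right, hxx₀, hxx', htp]
      simp
  · have hxx : polar Q x x = 0 := by rw [polar_self_mul, h2, zero_mul]
    obtain ⟨x₂, hx₂, hx₂0, hval⟩ : ∃ x₂ ∈ K, x₂ ≠ 0 ∧ polar Q x x₂ = -polar Q t e := by
      by_cases hte : polar Q t e = 0
      · exact ⟨x, hx, hx0, by rw [hxx, hte, neg_zero]⟩
      · obtain ⟨z, hz, hxz⟩ := exists_pairing hK hx hx0 (-polar Q t e)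
        refine ⟨z, hz, fun h0 => hte ?_, hxz⟩
        rw [h0, polar_zero_right] at hxz
        exact neg_eq_zero.1 hxz.symm
    refine ⟨x₂, hx₂, e, he, hx₂0, he0, by rw [hval, neg_add_cancel], ?_⟩
    rw [hQ hx₂ he, hQe, add_zero]
    exact fun h0 => hx₂0 (hKa x₂ hx₂ h0)

omit [FiniteDimensional F V] in
/-- Over two elements, two orthogonal anisotropic planes give a totally singular plane. -/
theorem two_planes_singular (hq : Fintype.card F = 2) {A B : Submodule F V} (hA : Aniso Q A)
    (hA2 : finrank F A = 2) (hB : Aniso Q B) (hB2 : finrank F B = 2)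
    (hAB : ∀ a ∈ A, ∀ b ∈ B, polar Q a b = 0) :
    ∃ a₁ a₂ b₁ b₂ : V, a₁ ∈ A ∧ a₂ ∈ A ∧ b₁ ∈ B ∧ b₂ ∈ B ∧ LinearIndependent F ![a₁, a₂] ∧
      Q (a₁ + b₁) = 0 ∧ Q (a₂ + b₂) = 0 ∧ polar Q (a₁ + b₁) (a₂ + b₂) = 0 := by
  classical
  have h01 : ∀ c : F, c ≠ 0 → c = 1 := fun c hc => by
    by_contra h1
    have h3 : ({0, 1, c} : Finset F).card = 3 := by
      rw [Finset.card_insert_of_notMem (by simp [eq_comm, hc]),
        Finset.card_insert_of_notMem (by simp [eq_comm, h1]), Finset.card_singleton]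
    have := Finset.card_le_univ ({0, 1, c} : Finset F)
    omega
  have h2 : (1 : F) + 1 = 0 := by
    by_contra h
    exact one_ne_zero (α := F) (add_left_cancel (a := (1 : F)) (by rw [h01 _ h, add_zero]))
  have basisOf : ∀ X : Submodule F V, Aniso Q X → finrank F X = 2 →
      ∃ x₁ ∈ X, ∃ x₂ ∈ X, LinearIndependent F ![x₁, x₂] ∧ Q x₁ = 1 ∧ Q x₂ = 1 ∧
        polar Q x₁ x₂ = 1 := by
    intro X hX hd
    haveI : FiniteDimensional F X := FiniteDimensional.of_finrank_pos (by omega)
    obtain ⟨x, hx, hx0⟩ := Submodule.exists_mem_ne_zero_of_ne_bot (p := X)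
      (fun hb => by rw [hb, finrank_bot] at hd; omega)
    obtain ⟨z, hz, hzx⟩ : ∃ z ∈ X, z ∉ Submodule.span F {x} := by
      by_contra hc
      push Not at hc
      have := Submodule.finrank_mono (show X ≤ Submodule.span F {x} from hc)
      rw [finrank_span_singleton hx0] at this
      omega
    have hz0 : z ≠ 0 := fun h => hzx (h ▸ Submodule.zero_mem _)
    have hs0 : x + z ≠ 0 := fun h => hzx (by
      rw [eq_neg_of_add_eq_zero_right h]
      exact neg_mem (Submodule.mem_span_singleton_self x))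
    have e1 := h01 _ fun h => hx0 (hX x hx h)
    have e2 := h01 _ fun h => hz0 (hX z hz h)
    have e3 := h01 _ fun h => hs0 (hX _ (X.add_mem hx hz) h)
    refine ⟨x, hx, z, hz, ?_, e1, e2, ?_⟩
    · refine LinearIndependent.pair_iff.2 fun p r hpr => ?_
      by_cases hr : r = 0
      · subst hr
        rw [zero_smul, add_zero] at hpr
        exact ⟨(smul_eq_zero.1 hpr).resolve_right hx0, rfl⟩
      · exfalso
        refine hzx ?_
        have : z = (-(r⁻¹ * p)) • x := by
          rw [neg_smul, ← smul_smul, ← smul_neg, ← eq_neg_of_add_eq_zero_right hpr, inv_smul_smul₀ hr]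
        rw [this]
        exact Submodule.smul_mem _ _ (Submodule.mem_span_singleton_self x)
    · rw [QuadraticMap.map_add (⇑Q), e1, e2] at e3
      linear_combination e3 - h2
  obtain ⟨a₁, ha₁, a₂, ha₂, hli, hQ1, hQ2, hp⟩ := basisOf A hA hA2
  obtain ⟨b₁, hb₁, b₂, hb₂, -, hR1, hR2, hr⟩ := basisOf B hB hB2
  refine ⟨a₁, a₂, b₁, b₂, ha₁, ha₂, hb₁, hb₂, hli, ?_, ?_, ?_⟩
  · rw [QuadraticMap.map_add (⇑Q), hQ1, hR1, hAB a₁ ha₁ b₁ hb₁, add_zero, h2]
  · rw [QuadraticMap.map_add (⇑Q), hQ2, hR2, hAB a₂ ha₂ b₂ hb₂, add_zero, h2]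
  · rw [polar_add_left, polar_add_right, polar_add_right, hp, hr, hAB a₁ ha₁ b₂ hb₂,
      polar_comm Q b₁ a₂, hAB a₂ ha₂ b₁ hb₁, add_zero, zero_add, h2]

end Cfsg.Agent.OmegaNondegTools11
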