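import Mathlib
import Cfsg.Agent.Lib.OmegaNondegTools11

/-!
Low dimensions: some element over the stabiliser of a non-degenerate subspace moves it and keeps a singular vector.
-/

set_option autoImplicit false

namespace Cfsg.Agent.OmegaNondegCommon11

open QuadraticMap Module
open Cfsg.Agent.OrthUnitaryQuad Cfsg.Agent.OrthUnitaryPrelude Cfsg.Agent.OrthUnitaryRefl
  Cfsg.Agent.OmegaClasses Cfsg.Agent.OmegaGeo Cfsg.Agent.OrthUnitarySimple
  Cfsg.Agent.OmegaStabSingular Cfsg.Agent.OmegaStabTools Cfsg.Agent.OmegaStabNondeg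
  Cfsg.Agent.OmegaNondegTools11
open Cfsg.Agent.QuadClassify (Nondeg Aniso exists_partner pair_complement)

variable {F V : Type*} [Field F] [Fintype F] [AddCommGroup V] [Module F V] [FiniteDimensional F V]
  {Q : QuadraticForm F V}

/-- Some element of `M` moves `S` but sends a singular vector of `S` into `S`. -/
theorem exists_common (hnd : (polarBilin Q).Nondegenerate) {S : Submodule F V} (hS : Nondeg Q S)
    (h4 : 4 ≤ finrank F S) (hle : finrank F (perp Q S) ≤ finrank F S)
    (hsmall : finrank F S = 4 →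
      finrank F (perp Q S) = 4 ∨ (finrank F (perp Q S) = 3 ∧ (2 : F) ≠ 0))
    (hq2 : Fintype.card F = 2 → finrank F S = 4 → ∀ U, ¬ Lagr Q U)
    (hn : 5 ≤ finrank F V) (M : Subgroup (orth Q))
    (hH : ∀ k ∈ commutator (orth Q), S.map (k.1 : V →ₗ[F] V) = S → k ∈ M)
    {g : orth Q} (hg : g ∈ M) (hgS : S.map (g.1 : V →ₗ[F] V) ≠ S)
    (hgS' : S.map (g.1 : V →ₗ[F] V) ≠ perp Q S) :
    ∃ m ∈ M, m ∈ commutator (orth Q) ∧ (∃ x ∈ S, m.1 x ∉ S) ∧
      ∃ u ∈ S, u ≠ 0 ∧ Q u = 0 ∧ m.1 u ∈ S := by
  classical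
  have hexc : Fintype.card F ≠ 2 ∨ finrank F V ≠ 4 := Or.inr (by omega)
  set S' := perp Q S with hS'def
  have hSie : ∀ (a w : V) (ha : Q a = 0) (hw : polar Q a w = 0),
      siegel Q a w ha hw ∈ commutator (orth Q) := fun a w ha hw =>
    sGroup_le_commutator hnd hn (siegel_mem hnd hn ha hw)
  have hperp : ∀ s ∈ S, ∀ x ∈ S', polar Q s x = 0 := fun s hs x hx => hx s hs
  have hperp' : ∀ s ∈ S, ∀ x ∈ S', polar Q x s = 0 := fun s hs x hx =>
    (polar_comm _ x s).trans (hx s hs)
  have hS'nd : Nondeg Q S' := perp_nondeg hnd hS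
  have hinner : ∀ (a w : V) (ha : Q a = 0) (hw : polar Q a w = 0), a ∈ S → w ∈ S →
      siegel Q a w ha hw ∈ M := fun a w ha hw haS hwS =>
    hH _ (hSie _ _ _ _) (map_eq_of_forall fun x hx => by
      rw [siegel_apply]
      exact S.sub_mem (S.add_mem hx (S.smul_mem _ hwS)) (S.smul_mem _ haS))
  -- a singular vector in the image of S outside S and its orthogonal space
  set T := S.map (g.1 : V →ₗ[F] V) with hTdef
  have hT : Nondeg Q T := by
    rintro _ ⟨x, hx, rfl⟩ h
    rw [LinearEquiv.coe_coe, hS x hx fun z hz => by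
      rw [← polar_orth g]; exact h _ (Submodule.mem_map_of_mem hz), map_zero]
  have hTd : finrank F T = finrank F S := LinearEquiv.finrank_map_eq _ _
  obtain ⟨e₀, he₀, he₀0, hQe₀⟩ := QuadClassify.exists_singular Q T (by omega)
  obtain ⟨a, haT, hQa, haS, haS'⟩ : ∃ a ∈ T, Q a = 0 ∧ a ∉ S ∧ a ∉ S' := by
    have hspan : ∀ X : Submodule F V, ¬ T ≤ X → ∃ a ∈ T, Q a = 0 ∧ a ∉ X := by
      intro X hX
      by_contra h
      push Not at h
      refine hX fun z hz => ?_
      obtain ⟨f, hf, hQf, hef⟩ := exists_partner Q hT he₀ he₀0 hQe₀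
      set z' := z - polar Q f z • e₀ - polar Q e₀ z • f with hz'
      have hfe : polar Q f e₀ = 1 := by rw [polar_comm, hef]
      have h1 : polar Q e₀ z' = 0 := by
        rw [hz', polar_sub_right, polar_sub_right, polar_smul_right, polar_smul_right, polar_self_mul,
          hQe₀, hef]
        simp
      have h2 : polar Q f z' = 0 := by
        rw [hz', polar_sub_right, polar_sub_right, polar_smul_right, polar_smul_right, polar_self_mul,
          hQf, hfe]
        simp
      have h3 : Q (z' + f - Q z' • e₀) = 0 := by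
        rw [sub_eq_add_neg, ← neg_smul, QuadraticMap.map_add (⇑Q), QuadraticMap.map_add (⇑Q) z',
          QuadraticMap.map_smul, polar_add_left, polar_smul_right, polar_smul_right,
          polar_comm Q z' e₀, polar_comm Q z' f, h1, h2, hfe, hQe₀, hQf]
        simp
      have h4' := h _ (T.sub_mem (T.add_mem (T.sub_mem (T.sub_mem hz (T.smul_mem _ he₀))
        (T.smul_mem _ hf)) hf) (T.smul_mem _ he₀)) h3
      have hz'' : z = (z' + f - Q z' • e₀) - f + Q z' • e₀ + polar Q f z • e₀ + polar Q e₀ z • f := by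
        rw [hz']; abel
      rw [hz'']
      exact X.add_mem (X.add_mem (X.add_mem (X.sub_mem h4' (h f hf hQf)) (X.smul_mem _ (h e₀ he₀ hQe₀)))
        (X.smul_mem _ (h e₀ he₀ hQe₀))) (X.smul_mem _ (h f hf hQf))
    obtain ⟨x, hxT, hQx, hxS⟩ := hspan S fun h =>
      hgS (Submodule.eq_of_le_of_finrank_eq h hTd)
    by_cases hxS' : x ∈ S'
    · obtain ⟨z, hzT, hQz, hzS'⟩ := hspan S' fun h =>
        hgS' (Submodule.eq_of_le_of_finrank_le h (by rw [hTd]; exact hle))
      by_cases hzS : z ∈ S
      · refine ⟨x + z, T.add_mem hxT hzT, ?_, fun h => hxS ?_, fun h => hzS' ?_⟩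
        · rw [QuadraticMap.map_add (⇑Q), hQx, hQz, hperp' z hzS x hxS']; simp
        · simpa using S.sub_mem h hzS
        · simpa using S'.sub_mem h hxS'
      · exact ⟨z, hzT, hQz, hzS, hzS'⟩
    · exact ⟨x, hxT, hQx, hxS, hxS'⟩
  have ha0 : a ≠ 0 := fun h => haS (h ▸ S.zero_mem)
  obtain ⟨fa, hfaT, hQfa, hafa⟩ := exists_partner Q hT haT ha0 hQa
  have hfaa : polar Q fa a = 1 := (polar_comm _ fa a).trans hafa
  obtain ⟨-, hdimT⟩ := pair_complement Q hT haT hfaT hQa hQfa hafa
  set C := T ⊓ LinearMap.ker (polarBilin Q a) ⊓ LinearMap.ker (polarBilin Q fa) with hCdef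
  obtain ⟨w, hw, hwa⟩ : ∃ w ∈ S, polar Q a w ≠ 0 := by
    by_contra hc
    push Not at hc
    exact haS' fun s hs => (polar_comm _ s a).trans (hc s hs)
  -- vectors whose Siegel element fixes S
  have hfix : ∀ b : V, (∀ x ∈ S, polar Q a x • b - (polar Q b x + Q b * polar Q a x) • a ∈ S) →
      ∃ t : F, b - t • a ∈ S ∧ b - (t - Q b) • a ∈ S' := by
    intro b hb
    set t := (polar Q b w + Q b * polar Q a w) / polar Q a w with ht
    have hbt : b - t • a ∈ S := by
      have := S.smul_mem (polar Q a w)⁻¹ (hb w hw)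
      rwa [smul_sub, smul_smul, smul_smul, inv_mul_cancel₀ hwa, one_smul, mul_comm (polar Q a w)⁻¹,
        ← div_eq_mul_inv] at this
    refine ⟨t, hbt, fun x hx => ?_⟩
    have h1 := S.sub_mem (hb x hx) (S.smul_mem (polar Q a x) hbt)
    have h2 : polar Q a x * t - (polar Q b x + Q b * polar Q a x) = 0 := by
      by_contra hne
      refine haS ?_
      have h3 := S.smul_mem (polar Q a x * t - (polar Q b x + Q b * polar Q a x))⁻¹ h1
      rwa [show polar Q a x • b - (polar Q b x + Q b * polar Q a x) • a - polar Q a x • (b - t • a) =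
          (polar Q a x * t - (polar Q b x + Q b * polar Q a x)) • a by module, smul_smul,
        inv_mul_cancel₀ hne, one_smul] at h3
    show polar Q x (b - (t - Q b) • a) = 0
    rw [polar_sub_right, polar_smul_right, polar_comm Q x b, polar_comm Q x a, smul_eq_mul]
    linear_combination -h2
  obtain ⟨b, hbC, hmove, hb_sing⟩ : ∃ b ∈ C,
      (∃ x ∈ S, polar Q a x • b - (polar Q b x + Q b * polar Q a x) • a ∉ S) ∧
      ((∃ c ∈ C, c ≠ 0 ∧ Q c = 0) → Q b = 0) := by
    by_cases hc : ∃ c ∈ C, c ≠ 0 ∧ Q c = 0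
    · obtain ⟨c, hcC, hc0, hQc⟩ := hc
      refine ⟨c, hcC, ?_, fun _ => hQc⟩
      by_contra hno
      push Not at hno
      obtain ⟨t, h1, h2⟩ := hfix c hno
      rw [hQc, sub_zero] at h2
      have hct := sub_eq_zero.1 (eq_zero_of_mem hS h1 h2)
      have h3 : polar Q fa c = 0 := hcC.2
      rw [hct, polar_smul_right, hfaa, smul_eq_mul, mul_one] at h3
      exact hc0 (by rw [hct, h3, zero_smul])
    · by_contra hno
      push Not at hno hc
      have hdC : 2 ≤ finrank F C := by omega
      obtain ⟨b₁, hb₁, hb₁0⟩ := Submodule.exists_mem_ne_zero_of_ne_bot (p := C)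
        (fun hb => by rw [hb, finrank_bot] at hdC; omega)
      obtain ⟨b₂, hb₂, hb₂n⟩ : ∃ b₂ ∈ C, b₂ ∉ Submodule.span F {b₁} := by
        by_contra hc'
        push Not at hc'
        have := Submodule.finrank_mono (show C ≤ Submodule.span F {b₁} from hc')
        rw [finrank_span_singleton hb₁0] at this
        omega
      have hb₂0 : b₂ ≠ 0 := fun h => hb₂n (h ▸ Submodule.zero_mem _)
      have hfix' : ∀ b ∈ C, ∀ x ∈ S, polar Q a x • b - (polar Q b x + Q b * polar Q a x) • a ∈ S :=
        fun b hb x hx => by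
          by_contra h
          exact (hno b hb ⟨x, hx, h⟩).1.elim fun c hc' => hc c hc'.1 hc'.2.1 hc'.2.2
      obtain ⟨t₁, h11, h12⟩ := hfix b₁ (hfix' b₁ hb₁)
      obtain ⟨t₂, h21, h22⟩ := hfix b₂ (hfix' b₂ hb₂)
      set q₁ := Q b₁
      set q₂ := Q b₂
      have hq₁ : q₁ ≠ 0 := fun h => hc b₁ hb₁ hb₁0 h
      have hq₂ : q₂ ≠ 0 := fun h => hc b₂ hb₂ hb₂0 h
      have hd : q₁⁻¹ • (b₁ - t₁ • a) - q₂⁻¹ • (b₂ - t₂ • a) =
          q₁⁻¹ • (b₁ - (t₁ - q₁) • a) - q₂⁻¹ • (b₂ - (t₂ - q₂) • a) := by
        match_scalars <;> field_simp <;> ring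
      have h0 := eq_zero_of_mem hS (S.sub_mem (S.smul_mem _ h11) (S.smul_mem _ h21))
        (hd ▸ S'.sub_mem (S'.smul_mem _ h12) (S'.smul_mem _ h22))
      have hp₁ : polar Q fa b₁ = 0 := hb₁.2
      have hp₂ : polar Q fa b₂ = 0 := hb₂.2
      have h3 := congrArg (polar Q fa) h0
      rw [polar_sub_right, polar_smul_right, polar_smul_right, polar_sub_right, polar_sub_right,
        polar_smul_right, polar_smul_right, hp₁, hp₂, hfaa, polar_zero_right] at h3
      simp only [smul_eq_mul, mul_one, zero_sub] at h3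
      have h4' : q₁⁻¹ • b₁ - q₂⁻¹ • b₂ = 0 := by
        have h5 : q₁⁻¹ • (b₁ - t₁ • a) - q₂⁻¹ • (b₂ - t₂ • a) =
            (q₁⁻¹ • b₁ - q₂⁻¹ • b₂) + (q₁⁻¹ * -t₁ - q₂⁻¹ * -t₂) • a := by module
        rw [h3, zero_smul, add_zero] at h5
        rw [← h5]; exact h0
      refine hb₂n (Submodule.mem_span_singleton.2 ⟨q₂ * q₁⁻¹, ?_⟩)
      rw [← smul_smul, sub_eq_zero.1 h4', smul_smul, mul_inv_cancel₀ hq₂, one_smul]
  have hbT : b ∈ T := hbC.1.1
  have hab : polar Q a b = 0 := hbC.1.2
  have hkM : siegel Q a b hQa hab ∈ M := by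
    obtain ⟨a₁, ha₁, rfl⟩ := haT
    obtain ⟨b₁, hb₁, rfl⟩ := hbT
    simp only [LinearEquiv.coe_coe] at hQa hab ⊢
    rw [← conj_siegel g a₁ b₁ (by rwa [map_orth g] at hQa) (by rwa [polar_orth g] at hab)]
    exact M.mul_mem (M.mul_mem hg (hinner _ _ _ _ ha₁ hb₁)) (M.inv_mem hg)
  have hkC : siegel Q a b hQa hab ∈ commutator (orth Q) := hSie _ _ _ _
  set k := siegel Q a b hQa hab with hkdef
  have hkS : ∃ x ∈ S, k.1 x ∉ S := by
    obtain ⟨x, hx, hxn⟩ := hmove
    refine ⟨x, hx, fun h => hxn ?_⟩
    have h1 := S.sub_mem h hx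
    rwa [hkdef, siegel_apply, add_sub_assoc, add_sub_cancel_left] at h1
  obtain ⟨aS, haSm, a', ha', haeq⟩ := exists_split hnd hS a
  obtain ⟨bS, hbSm, b', hb', hbeq⟩ := exists_split hnd hS b
  let Φ : V →ₗ[F] V := (polarBilin Q a).smulRight b' -
    ((polarBilin Q b) + Q b • (polarBilin Q a)).smulRight a'
  have hΦ : ∀ x, Φ x = polar Q a x • b' - (polar Q b x + Q b * polar Q a x) • a' := fun x => by
    simp [Φ]
  let Ψ : V → V := fun x => x + polar Q a x • bS - (polar Q b x + Q b * polar Q a x) • aS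
  have hk : ∀ x, k.1 x = Ψ x + Φ x := fun x => by
    rw [hkdef, siegel_apply, hΦ]
    simp only [Ψ]
    conv_lhs => rw [haeq, hbeq]
    simp only [← haeq, ← hbeq]
    rw [haeq, hbeq]
    module
  have hΨS : ∀ x ∈ S, Ψ x ∈ S := fun x hx =>
    S.sub_mem (S.add_mem hx (S.smul_mem _ hbSm)) (S.smul_mem _ haSm)
  have hΦS' : ∀ x, Φ x ∈ S' := fun x => by
    rw [hΦ]; exact S'.sub_mem (S'.smul_mem _ hb') (S'.smul_mem _ ha')
  by_cases hsing : ∃ u ∈ S, u ≠ 0 ∧ Q u = 0 ∧ Φ u = 0
  · obtain ⟨u, hu, hu0, hQu, hΦu⟩ := hsing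
    exact ⟨k, hkM, hkC, hkS, u, hu, hu0, hQu, by rw [hk, hΦu, add_zero]; exact hΨS u hu⟩
  push Not at hsing
  set K := S ⊓ LinearMap.ker (polarBilin Q a) ⊓ LinearMap.ker (polarBilin Q b) with hKdef
  have hKΦ : ∀ x ∈ K, Φ x = 0 := fun x hx => by
    rw [hΦ, show polar Q a x = 0 from hx.1.2, show polar Q b x = 0 from hx.2]
    simp
  have hKa : Aniso Q K := fun x hx h => by
    by_contra h0
    exact hsing x hx.1.1 h0 h (hKΦ x hx)
  have hK2 : finrank F K = 2 := by
    have h1 := QuadClassify.finrank_ker_inf S (polarBilin Q a)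
    have h2 := QuadClassify.finrank_ker_inf (S ⊓ LinearMap.ker (polarBilin Q a)) (polarBilin Q b)
    have h3 : finrank F K < 3 := by
      by_contra h
      obtain ⟨u, hu, hu0, hQu⟩ := QuadClassify.exists_singular Q K (by omega)
      exact hu0 (hKa u hu hQu)
    rw [← hKdef] at h2
    omega
  have hs4 : finrank F S = 4 := by
    have h1 := QuadClassify.finrank_ker_inf S (polarBilin Q a)
    have h2 := QuadClassify.finrank_ker_inf (S ⊓ LinearMap.ker (polarBilin Q a)) (polarBilin Q b)
    rw [← hKdef] at h2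
    omega
  have hΦK : ∀ x ∈ S, Φ x = 0 → x ∈ K := by
    set N := S ⊓ LinearMap.ker Φ with hN
    have hle' : K ≤ N := fun x hx => ⟨hx.1.1, hKΦ x hx⟩
    have hN3 : finrank F N < 3 := by
      by_contra h
      obtain ⟨u, hu, hu0, hQu⟩ := QuadClassify.exists_singular Q N (by omega)
      exact hsing u hu.1 hu0 hQu hu.2
    have heq := Submodule.eq_of_le_of_finrank_le hle' (by omega)
    intro x hx h
    rw [heq]; exact ⟨hx, h⟩
  have hKnd : Nondeg Q K := aniso_plane_nondeg hKa hK2
  have hKS : ∀ x ∈ K, x ∈ S := fun x hx => hx.1.1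
  have hkK : ∀ x ∈ K, k.1 x = x := fun x hx => by
    rw [hkdef, siegel_apply, show polar Q a x = 0 from hx.1.2, show polar Q b x = 0 from hx.2]
    simp
  set P := S ⊓ perp Q K with hPdef
  have hKP : ∀ x ∈ K, ∀ p ∈ P, polar Q x p = 0 := fun x hx p hp => hp.2 x hx
  have hKPs : ∀ w ∈ S, ∃ x ∈ K, ∃ p ∈ P, w = x + p := by
    intro w hw
    obtain ⟨x, hx, p, hp, rfl⟩ := exists_split hnd hKnd w
    refine ⟨x, hx, p, ⟨?_, hp⟩, rfl⟩
    simpa using S.sub_mem hw (hKS x hx)
  have hP2 : finrank F P = 2 := by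
    have hsup : K ⊔ P = S := le_antisymm (sup_le (fun x hx => hKS x hx) inf_le_left) fun w hw => by
      obtain ⟨x, hx, p, hp, rfl⟩ := hKPs w hw
      exact Submodule.add_mem_sup hx hp
    have hinf : K ⊓ P = ⊥ := by
      rw [Submodule.eq_bot_iff]
      exact fun x hx => eq_zero_of_mem hKnd hx.1 hx.2.2
    have h := Submodule.finrank_sup_add_finrank_inf_eq K P
    rw [hsup, hinf, finrank_bot] at h
    omega
  have hPnd : Nondeg Q P := by
    intro p hp h
    refine hS p hp.1 fun w hw => ?_
    obtain ⟨x, hx, p', hp', rfl⟩ := hKPs w hw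
    rw [polar_add_right, h p' hp', polar_comm Q p x, hKP x hx p hp, add_zero]
  have hcomp : ∀ x ∈ K, polar Q x aS = 0 ∧ polar Q x bS = 0 := fun x hx => by
    constructor
    · have h : polar Q a x = 0 := hx.1.2
      rw [haeq, polar_add_left, hperp' x (hKS x hx) a' ha', add_zero] at h
      rwa [polar_comm]
    · have h : polar Q b x = 0 := hx.2
      rw [hbeq, polar_add_left, hperp' x (hKS x hx) b' hb', add_zero] at h
      rwa [polar_comm]
  have haP : aS ∈ P := ⟨haSm, fun x hx => (hcomp x hx).1⟩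
  have hbP : bS ∈ P := ⟨hbSm, fun x hx => (hcomp x hx).2⟩
  have hPK : ∀ p ∈ P, Φ p = 0 → p = 0 := fun p hp h =>
    eq_zero_of_mem hKnd (hΦK p hp.1 h) hp.2
  by_cases hroute : Fintype.card F ≠ 2 ∨ ∃ e ∈ P, e ≠ 0 ∧ Q e = 0
  · -- a pair of reflections moving the kernel
    have h2of : Fintype.card F = 2 → (2 : F) = 0 := fun hq => by
      have hev := FiniteField.even_card_iff_char_two (F := F)
      haveI : CharP F 2 := CharP.congr (ringChar F) (hev.2 (by rw [hq]))
      exact CharP.cast_eq_zero F 2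
    obtain ⟨p, hp, hp0, hQ2p, hQ3p⟩ : ∃ p ∈ P, p ≠ 0 ∧ (Fintype.card F = 2 → Q p ≠ 0) ∧
        (finrank F S' = 3 → Q (Φ p) ≠ 0) := by
      by_cases hq : Fintype.card F = 2
      · obtain ⟨p, hp, hQp⟩ := nondeg_represents hPnd (by omega) (1 : F)
        refine ⟨p, hp, fun h => one_ne_zero (α := F) ?_, fun _ => by rw [hQp]; exact one_ne_zero,
          fun h3 => ?_⟩
        · rw [← hQp, h, QuadraticMap.map_zero]
        · rcases hsmall hs4 with h | ⟨-, h⟩
          · omega
          · exact absurd (h2of hq) h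
      by_cases h3 : finrank F S' = 3
      · by_contra hall
        push Not at hall
        have hz : ∀ p ∈ P, Q (Φ p) = 0 := fun p hp => by
          by_cases hp0 : p = 0
          · rw [hp0, map_zero, QuadraticMap.map_zero]
          · exact (hall p hp hp0 (fun h => absurd h hq)).2
        set U := P.map Φ with hU
        have hUd : finrank F U = 2 := by
          rw [hU, ← hP2]
          have hinj : Function.Injective (Φ.comp P.subtype) := by
            rw [← LinearMap.ker_eq_bot, LinearMap.ker_eq_bot']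
            exact fun x hx => Subtype.ext (hPK x x.2 hx)
          rw [show P.map Φ = LinearMap.range (Φ.comp P.subtype) by
            rw [LinearMap.range_comp, Submodule.range_subtype]]
          exact LinearMap.finrank_range_of_inj hinj
        have hle' : S ⊔ U ≤ perp Q U := by
          refine sup_le (fun s hs => ?_) ?_
          · rintro _ ⟨r, -, rfl⟩
            exact hperp' s hs _ (hΦS' r)
          · rintro _ ⟨r, hr, rfl⟩ _ ⟨r', hr', rfl⟩
            have h1 := hz _ (P.add_mem hr' hr)
            rw [map_add, QuadraticMap.map_add (⇑Q), hz r' hr', hz r hr, zero_add, zero_add] at h1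
            exact h1
        have hdisj : S ⊓ U = ⊥ := by
          rw [Submodule.eq_bot_iff]
          rintro x ⟨hx, r, -, rfl⟩
          exact eq_zero_of_mem hS hx (hΦS' r)
        have h5 := Submodule.finrank_sup_add_finrank_inf_eq S U
        rw [hdisj, finrank_bot] at h5
        have h6 := Submodule.finrank_mono hle'
        have h7 : finrank F (perp Q U) = finrank F V - finrank F U :=
          OmegaStabSingular.finrank_orth hnd U
        have h8 : finrank F S' = finrank F V - finrank F S := OmegaStabSingular.finrank_orth hnd S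
        omega
      · obtain ⟨p, hp, hp0⟩ := Submodule.exists_mem_ne_zero_of_ne_bot (p := P)
          (fun hb => by rw [hb, finrank_bot] at hP2; omega)
        exact ⟨p, hp, hp0, fun h => absurd h hq, fun h => absurd h h3⟩
    obtain ⟨x, hx, hQx⟩ := nondeg_represents hKnd (by omega) (-Q p)
    set u := x + p with hu
    have huS : u ∈ S := S.add_mem (hKS x hx) hp.1
    have hu0 : u ≠ 0 := fun h => hp0 (eq_zero_of_mem hKnd
      (by rw [eq_neg_of_add_eq_zero_right h]; exact K.neg_mem hx) hp.2)
    have hQu : Q u = 0 := by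
      rw [hu, QuadraticMap.map_add (⇑Q), hKP x hx p hp, hQx]
      ring
    set t := Ψ p with ht
    have htP : t ∈ P := by
      rw [ht]; exact P.sub_mem (P.add_mem hp (P.smul_mem _ hbP)) (P.smul_mem _ haP)
    set y := Φ p with hy
    have hku : k.1 u = (x + t) + y := by
      rw [hu, map_add, hkK x hx, hk p, ht, hy]; abel
    obtain ⟨x₂, hx₂, p₂, hp₂, hx₂0, hp₂0, hsz, hQz⟩ := exists_mixed_vector hKnd hKa hK2 hPnd hP2
      hKP hx htP (by
        by_cases hq : Fintype.card F = 2
        · refine Or.inr ⟨fun h0 => ?_, h2of hq, hroute.resolve_left (not_not.2 hq)⟩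
          rw [h0, QuadraticMap.map_zero] at hQx
          exact hQ2p hq (neg_eq_zero.1 hQx.symm)
        · exact Or.inl hq)
    set z := x₂ + p₂ with hz
    have hzS : z ∈ S := S.add_mem (hKS _ hx₂) hp₂.1
    have hyS' : y ∈ S' := hΦS' p
    obtain ⟨v, hv, hyv, hQv⟩ := exists_rep_perp hS'nd hyS' (by
      rcases hsmall hs4 with h | ⟨h, h2⟩
      · exact Or.inl (by omega)
      · exact Or.inr ⟨by omega, h2, hQ3p h⟩) (Q z)
    have hQv0 : Q v ≠ 0 := hQv ▸ hQz
    have hns : NS Q [z, v] := by simp [NS, hQz, hQv0]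
    set h := rprod Q [z, v] with hh
    have hhC : h ∈ commutator (orth Q) :=
      (rprod_mem_iff hnd hexc hns).2 ⟨even_two, Q z, by simp [hQv]⟩
    have hap : ∀ r, h.1 r = (refl Q z hQz).1 ((refl Q v hQv0).1 r) := fun r => by
      rw [hh, rprod_cons hQz, rprod_singleton hQv0, orth_mul_apply]
    have hrv : ∀ r ∈ S, (refl Q v hQv0).1 r = r := fun r hr => by
      rw [refl_apply, hperp' r hr v hv]; simp
    have hhM : h ∈ M := hH h hhC (map_eq_of_forall fun r hr => by
      rw [hap, hrv r hr, refl_apply]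
      exact S.sub_mem hr (S.smul_mem _ hzS))
    have hfixku : h.1 (k.1 u) = k.1 u := by
      have e1 : polar Q v (x + t + y) = 0 := by
        rw [polar_add_right, hperp' _ (S.add_mem (hKS x hx) htP.1) v hv, polar_comm Q v y, hyv, add_zero]
      have e2 : polar Q z (x + t + y) = 0 := by
        rw [polar_add_right, hperp z hzS y hyS', add_zero, hz, polar_add_left, polar_add_right,
          polar_add_right, hKP x₂ hx₂ t htP, polar_comm Q p₂ x, hKP x hx p₂ hp₂, add_zero,
          zero_add, polar_comm Q x₂ x, polar_comm Q p₂ t]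
        exact hsz
      rw [hku, hap, refl_apply Q v, e1]
      simp [refl_apply Q z, e2]
    refine ⟨k⁻¹ * h * k, M.mul_mem (M.mul_mem (M.inv_mem hkM) hhM) hkM,
      mul_mem (mul_mem (inv_mem hkC) hhC) hkC, ?_, u, huS, hu0, hQu, ?_⟩
    · obtain ⟨x₁, hx₁, hzx₁⟩ := exists_pairing hKnd hx₂ hx₂0 1
      by_contra hall
      push Not at hall
      have hm := hall x₁ (hKS _ hx₁)
      rw [orth_mul_apply, orth_mul_apply, hkK x₁ hx₁] at hm
      set r := (k⁻¹).1 (h.1 x₁)
      have hkr : k.1 r = h.1 x₁ := k.1.apply_symm_apply _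
      have hh1 : h.1 x₁ = x₁ - ((Q z)⁻¹ * 1) • z := by
        rw [hap, hrv _ (hKS _ hx₁), refl_apply, hz, polar_add_left, hzx₁, polar_comm Q p₂ x₁,
          hKP x₁ hx₁ p₂ hp₂, add_zero]
      have hin : h.1 x₁ ∈ S := hh1 ▸ S.sub_mem (hKS _ hx₁) (S.smul_mem _ hzS)
      rw [hk] at hkr
      obtain ⟨-, hΦr⟩ := split_unique hS (hΨS r hm) hin (hΦS' r) S'.zero_mem
        (by rw [add_zero]; exact hkr)
      have hrK := hΦK r hm hΦr
      have hrr : r = h.1 x₁ := by
        conv_lhs => rw [← hkK r hrK]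
        exact k.1.apply_symm_apply _
      rw [hrr, hh1] at hrK
      have hzK : z ∈ K := by
        have := K.smul_mem (Q z) (K.sub_mem hx₁ hrK)
        rwa [sub_sub_cancel, mul_one, smul_smul, mul_inv_cancel₀ hQz, one_smul] at this
      exact hp₂0 (eq_zero_of_mem hKnd (by simpa [hz] using K.sub_mem hzK hx₂) hp₂.2)
    · rw [orth_mul_apply, orth_mul_apply, hfixku]
      exact (k.1.symm_apply_apply u).symm ▸ huS
  · -- two elements, anisotropic planes
    push Not at hroute
    obtain ⟨hq, hPsing⟩ := hroute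
    have hPa : Aniso Q P := fun p hp h => by
      by_contra h0
      exact hPsing p hp h0 h
    have hev := FiniteField.even_card_iff_char_two (F := F)
    haveI : CharP F 2 := CharP.congr (ringChar F) (hev.2 (by rw [hq]))
    have h2 : (2 : F) = 0 := CharP.cast_eq_zero F 2
    have h01 : ∀ c : F, c ≠ 0 → c = 1 := fun c hc => by
      by_contra h1
      have h3 : ({0, 1, c} : Finset F).card = 3 := by
        rw [Finset.card_insert_of_notMem (by simp [eq_comm, hc]),
          Finset.card_insert_of_notMem (by simp [eq_comm, h1]), Finset.card_singleton]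
      have := Finset.card_le_univ ({0, 1, c} : Finset F)
      omega
    have hS'4 : finrank F S' = 4 := (hsmall hs4).resolve_right fun h => h.2 h2
    obtain ⟨k₁, k₂, p₁, p₂, hk₁, hk₂, hp₁, hp₂, hli, hl₁, hl₂, hl₁₂⟩ :=
      two_planes_singular hq hKa hK2 hPa hP2 hKP
    have hliS : ∀ α β : F, α • (k₁ + p₁) + β • (k₂ + p₂) = 0 → α = 0 ∧ β = 0 := by
      intro α β h
      have h' : (α • k₁ + β • k₂) + (α • p₁ + β • p₂) = 0 + 0 := by
        rw [zero_add, ← h]; module
      obtain ⟨h1, -⟩ := split_unique hKnd (K.add_mem (K.smul_mem _ hk₁) (K.smul_mem _ hk₂))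
        K.zero_mem ((perp Q K).add_mem ((perp Q K).smul_mem _ hp₁.2) ((perp Q K).smul_mem _ hp₂.2))
        (perp Q K).zero_mem h'
      exact LinearIndependent.pair_iff.1 hli α β h1
    -- a singular vector in the complement of a, so b is singular
    have hQb : Q b = 0 := by
      refine hb_sing ?_
      set l₁ := g.1 (k₁ + p₁)
      set l₂ := g.1 (k₂ + p₂)
      have hT₁ : l₁ ∈ T := Submodule.mem_map_of_mem (S.add_mem (hKS _ hk₁) hp₁.1)
      have hT₂ : l₂ ∈ T := Submodule.mem_map_of_mem (S.add_mem (hKS _ hk₂) hp₂.1)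
      have hQl₁ : Q l₁ = 0 := (map_orth g _).trans hl₁
      have hQl₂ : Q l₂ = 0 := (map_orth g _).trans hl₂
      have hl : polar Q l₁ l₂ = 0 := (polar_orth g _ _).trans hl₁₂
      have hliT : ∀ α β : F, α • l₁ + β • l₂ = 0 → α = 0 ∧ β = 0 := fun α β h =>
        hliS α β (g.1.injective (by rw [map_add, map_smul, map_smul, map_zero]; exact h))
      obtain ⟨c, hcT, hQc, hac, hca⟩ : ∃ c ∈ T, Q c = 0 ∧ polar Q a c = 0 ∧
          c ∉ Submodule.span F {a} := by
        by_cases h1 : polar Q a l₁ = 0 ∧ l₁ ∉ Submodule.span F {a}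
        · exact ⟨l₁, hT₁, hQl₁, h1.1, h1.2⟩
        by_cases h3 : l₁ ∈ Submodule.span F {a}
        · obtain ⟨r, hr⟩ := Submodule.mem_span_singleton.1 h3
          refine ⟨l₂, hT₂, hQl₂, ?_, fun h4' => ?_⟩
          · have hr0 : r ≠ 0 := fun h0 => one_ne_zero (α := F) (hliT 1 0 (by
              rw [← hr, h0, zero_smul, smul_zero, zero_smul, add_zero])).1
            have := hl
            rw [← hr, polar_smul_left, smul_eq_mul] at this
            exact (mul_eq_zero.1 this).resolve_left hr0
          · obtain ⟨r', hr'⟩ := Submodule.mem_span_singleton.1 h4'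
            have h0 := hliT r' (-r) (by rw [← hr, ← hr', smul_smul, smul_smul, ← add_smul]; ring_nf; simp)
            have hr0 : r = 0 := neg_eq_zero.1 h0.2
            exact one_ne_zero (α := F) (hliT 1 0 (by
              rw [← hr, hr0, zero_smul, smul_zero, zero_smul, add_zero])).1
        have ha1 : polar Q a l₁ ≠ 0 := fun h => h1 ⟨h, h3⟩
        refine ⟨l₂ - (polar Q a l₂ / polar Q a l₁) • l₁, T.sub_mem hT₂ (T.smul_mem _ hT₁), ?_, ?_, fun hm => ?_⟩
        · rw [sub_eq_add_neg, ← neg_smul, QuadraticMap.map_add (⇑Q), QuadraticMap.map_smul, hQl₁, hQl₂,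
            polar_smul_right, polar_comm Q l₂ l₁, hl]
          simp
        · rw [polar_sub_right, polar_smul_right, smul_eq_mul, div_mul_cancel₀ _ ha1, sub_self]
        · obtain ⟨r, hr⟩ := Submodule.mem_span_singleton.1 hm
          have h5 := congrArg (polar Q l₁) hr
          rw [polar_smul_right, polar_comm Q l₁ a, polar_sub_right, polar_smul_right, hl,
            polar_self_mul, hQl₁] at h5
          simp only [smul_eq_mul, mul_zero, sub_zero, mul_eq_zero, ha1, or_false] at h5
          rw [h5, zero_smul] at hr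
          exact one_ne_zero (α := F) (hliT (-(polar Q a l₂ / polar Q a l₁)) 1 (by
            rw [one_smul, neg_smul, neg_add_eq_sub]; exact hr.symm)).2
      refine ⟨c - polar Q fa c • a, ⟨⟨T.sub_mem hcT (T.smul_mem _ haT), ?_⟩, ?_⟩, ?_, ?_⟩
      · show polar Q a (c - polar Q fa c • a) = 0
        rw [polar_sub_right, polar_smul_right, hac, polar_self_mul, hQa]; simp
      · show polar Q fa (c - polar Q fa c • a) = 0
        rw [polar_sub_right, polar_smul_right, hfaa]; simp
      · exact fun h0 => hca (by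
          rw [sub_eq_zero.1 h0]; exact Submodule.smul_mem _ _ (Submodule.mem_span_singleton_self a))
      · rw [sub_eq_add_neg, ← neg_smul, QuadraticMap.map_add (⇑Q), QuadraticMap.map_smul, hQc, hQa,
          polar_smul_right, polar_comm Q c a, hac]
        simp
    have haS0 : aS ≠ 0 := fun h0 => haS' (by rw [haeq, h0, zero_add]; exact ha')
    have hQaS : Q aS = 1 := h01 _ fun h => haS0 (hPa aS haP h)
    have hQa' : Q a' = 1 := by
      have := hQa
      rw [haeq, QuadraticMap.map_add (⇑Q), hperp aS haSm a' ha', add_zero, hQaS] at this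
      linear_combination this - h2
    have hpol : polar Q aS bS = 1 := by
      refine h01 _ fun h0 => haS0 ?_
      refine eq_zero_of_mem hKnd ⟨⟨haSm, ?_⟩, ?_⟩ haP.2
      · show polar Q a aS = 0
        rw [haeq, polar_add_left, hperp' aS haSm a' ha', polar_self_mul, h2, zero_mul, zero_add]
      · show polar Q b aS = 0
        rw [hbeq, polar_add_left, hperp' aS haSm b' hb', add_zero, polar_comm]
        exact h0
    have hbS0 : bS ≠ 0 := fun h0 => by
      rw [h0, polar_zero_right] at hpol
      exact zero_ne_one hpol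
    have hQbS : Q bS = 1 := h01 _ fun h => hbS0 (hPa bS hbP h)
    have hQb' : Q b' = 1 := by
      have := hQb
      rw [hbeq, QuadraticMap.map_add (⇑Q), hperp bS hbSm b' hb', add_zero, hQbS] at this
      linear_combination this - h2
    have hpol' : polar Q a' b' = 1 := by
      have := hab
      rw [haeq, hbeq, polar_add_left, polar_add_right, polar_add_right, hpol,
        hperp aS haSm b' hb', hperp' bS hbSm a' ha', add_zero, zero_add] at this
      linear_combination this - h2
    have hsq : ∀ c : F, c * c = c := fun c => by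
      by_cases hc : c = 0
      · simp [hc]
      · simp [h01 c hc]
    obtain ⟨e, he, he0, hQe, hea, heb⟩ : ∃ e ∈ S', e ≠ 0 ∧ Q e = 0 ∧ polar Q a' e = 0 ∧
        polar Q b' e = 0 := by
      set X := S' ⊓ LinearMap.ker (polarBilin Q a') ⊓ LinearMap.ker (polarBilin Q b') with hX
      by_contra hno
      push Not at hno
      have hXa : Aniso Q X := fun e he h => by
        by_contra h0
        exact hno e he.1.1 h0 h he.1.2 he.2
      have hX2 : finrank F X = 2 := by
        have h1 := QuadClassify.finrank_ker_inf S' (polarBilin Q a')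
        have h2' := QuadClassify.finrank_ker_inf (S' ⊓ LinearMap.ker (polarBilin Q a')) (polarBilin Q b')
        have h3 : finrank F X < 3 := by
          by_contra h
          obtain ⟨u, hu, hu0, hQu⟩ := QuadClassify.exists_singular Q X (by omega)
          exact hu0 (hXa u hu hQu)
        rw [← hX] at h2'
        omega
      set Y := Submodule.span F {a', b'} with hY
      have hYS' : Y ≤ S' := Submodule.span_le.2 (by rintro _ (rfl | rfl) <;> assumption)
      have hYa : Aniso Q Y := by
        intro v hv hQv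
        obtain ⟨α, β, rfl⟩ := Submodule.mem_span_pair.1 hv
        rw [QuadraticMap.map_add (⇑Q), QuadraticMap.map_smul, QuadraticMap.map_smul, polar_smul_left,
          polar_smul_right, hQa', hQb', hpol'] at hQv
        simp only [smul_eq_mul, mul_one, hsq] at hQv
        by_cases hα : α = 0
        · subst hα
          simp only [zero_mul, zero_add, add_zero] at hQv
          rw [hQv, zero_smul, zero_smul, add_zero]
        · rw [h01 α hα, one_mul] at hQv
          by_cases hβ : β = 0
          · rw [hβ] at hQv; simp at hQv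
          · rw [h01 β hβ] at hQv
            exact absurd (show (1 : F) = 0 by linear_combination hQv - h2) one_ne_zero
      have hY2 : finrank F Y = 2 := by
        have hli' : LinearIndependent F ![a', b'] := LinearIndependent.pair_iff.2 fun α β h => by
          have e1 := congrArg (polar Q b') h
          have e2 := congrArg (polar Q a') h
          rw [polar_add_right, polar_smul_right, polar_smul_right, polar_self_mul, h2, zero_mul,
            polar_comm Q b' a', hpol', polar_zero_right] at e1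
          rw [polar_add_right, polar_smul_right, polar_smul_right, polar_self_mul, h2, zero_mul,
            hpol', polar_zero_right] at e2
          exact ⟨by simpa using e1, by simpa using e2⟩
        have := finrank_span_eq_card hli'
        rwa [Matrix.range_cons, Matrix.range_cons, Matrix.range_empty, Set.union_empty,
          Set.singleton_union, Fintype.card_fin] at this
      have hYX : ∀ v ∈ Y, ∀ r ∈ X, polar Q v r = 0 := fun v hv r hr => by
        obtain ⟨α, β, rfl⟩ := Submodule.mem_span_pair.1 hv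
        rw [polar_add_left, polar_smul_left, polar_smul_left, show polar Q a' r = 0 from hr.1.2,
          show polar Q b' r = 0 from hr.2]
        simp
      obtain ⟨y₁, y₂, c₁, c₂, hy₁, hy₂, hc₁, hc₂, hliY, hm₁, hm₂, hm₁₂⟩ :=
        two_planes_singular hq hYa hY2 hXa hX2 hYX
      have hYnd : Nondeg Q Y := aniso_plane_nondeg hYa hY2
      let G : Fin 4 → V := ![k₁ + p₁, k₂ + p₂, y₁ + c₁, y₂ + c₂]
      have hS₁ : k₁ + p₁ ∈ S := S.add_mem (hKS _ hk₁) hp₁.1
      have hS₂ : k₂ + p₂ ∈ S := S.add_mem (hKS _ hk₂) hp₂.1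
      have hS'₁ : y₁ + c₁ ∈ S' := S'.add_mem (hYS' hy₁) hc₁.1.1
      have hS'₂ : y₂ + c₂ ∈ S' := S'.add_mem (hYS' hy₂) hc₂.1.1
      have hgen : ∀ i j, Q (G i) = 0 ∧ polar Q (G i) (G j) = 0 := by
        intro i j
        fin_cases i <;> fin_cases j <;>
          simp [G, hl₁, hl₂, hm₁, hm₂, hl₁₂, hm₁₂, polar_self_mul, hperp _ hS₁ _ hS'₁,
            hperp _ hS₁ _ hS'₂, hperp _ hS₂ _ hS'₁, hperp _ hS₂ _ hS'₂, hperp' _ hS₁ _ hS'₁,
            hperp' _ hS₁ _ hS'₂, hperp' _ hS₂ _ hS'₁, hperp' _ hS₂ _ hS'₂,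
            (polar_comm _ (k₂ + p₂) (k₁ + p₁)).trans hl₁₂,
            (polar_comm _ (y₂ + c₂) (y₁ + c₁)).trans hm₁₂]
      have hliG : LinearIndependent F G := by
        rw [Fintype.linearIndependent_iff]
        intro c hc
        simp only [G, Fin.sum_univ_four, Matrix.cons_val] at hc
        obtain ⟨e1, e2⟩ := split_unique hS (S.add_mem (S.smul_mem (c 0) hS₁) (S.smul_mem (c 1) hS₂))
          S.zero_mem (S'.add_mem (S'.smul_mem (c 2) hS'₁) (S'.smul_mem (c 3) hS'₂)) S'.zero_mem
          (by rw [zero_add, ← hc]; abel)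
        obtain ⟨c0, c1⟩ := hliS _ _ e1
        have e2' : (c 2 • y₁ + c 3 • y₂) + (c 2 • c₁ + c 3 • c₂) = 0 + 0 := by
          rw [zero_add, ← e2]; module
        obtain ⟨e3, -⟩ := split_unique hYnd (Y.add_mem (Y.smul_mem _ hy₁) (Y.smul_mem _ hy₂))
          Y.zero_mem ((perp Q Y).add_mem ((perp Q Y).smul_mem _ fun v hv => hYX v hv c₁ hc₁)
            ((perp Q Y).smul_mem _ fun v hv => hYX v hv c₂ hc₂)) (perp Q Y).zero_mem e2'
        obtain ⟨c2, c3⟩ := LinearIndependent.pair_iff.1 hliY _ _ e3
        intro i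
        fin_cases i
        · exact c0
        · exact c1
        · exact c2
        · exact c3
      refine hq2 hq hs4 (Submodule.span F (Set.range G)) ⟨fun v hv => ?_, ?_⟩
      · obtain ⟨c, rfl⟩ := (Submodule.mem_span_range_iff_exists_fun F).1 hv
        rw [QuadClassify.map_sum_ortho]
        · exact Finset.sum_eq_zero fun i _ => by rw [QuadraticMap.map_smul, (hgen i i).1, smul_zero]
        · intro i _ j _ _
          rw [polar_smul_left, polar_smul_right, (hgen i j).2]
          simp
      · rw [finrank_span_eq_card hliG, Fintype.card_fin]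
        have h8 : finrank F S' = finrank F V - finrank F S := OmegaStabSingular.finrank_orth hnd S
        omega
    obtain ⟨x, hx, hQx⟩ := nondeg_represents hKnd (by omega) (1 : F)
    set u := x + aS with hu
    have hΦa : Φ aS = a' := by
      rw [hΦ, hQb, show polar Q a aS = 0 by
        rw [haeq, polar_add_left, hperp' aS haSm a' ha', polar_self_mul, h2, zero_mul, zero_add],
        show polar Q b aS = 1 by
          rw [hbeq, polar_add_left, hperp' aS haSm b' hb', add_zero, polar_comm, hpol]]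
      simp
      rw [← neg_one_smul F a', show (-1 : F) = 1 by linear_combination -h2, one_smul]
    have hΦb : Φ bS = b' := by
      rw [hΦ, hQb, show polar Q a bS = 1 by
        rw [haeq, polar_add_left, hperp' bS hbSm a' ha', add_zero, hpol],
        show polar Q b bS = 0 by
          rw [hbeq, polar_add_left, hperp' bS hbSm b' hb', polar_self_mul, h2, zero_mul, zero_add]]
      simp
    set s := x + Ψ aS with hs
    have hku : k.1 u = s + a' := by
      rw [hu, map_add, hkK x hx, hk aS, hΦa, hs]; abel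
    have hsS : s ∈ S := S.add_mem (hKS x hx) (hΨS _ haSm)
    have hQu : Q u = 0 := by
      rw [hu, QuadraticMap.map_add (⇑Q), hKP x hx aS haP, hQx, hQaS, add_zero]
      linear_combination h2
    have hQs : Q s = 1 := by
      have := (map_orth k u).trans hQu
      rw [hku, QuadraticMap.map_add (⇑Q), hperp s hsS a' ha', add_zero, hQa'] at this
      linear_combination this - h2
    have hQs0 : Q s ≠ 0 := hQs ▸ one_ne_zero
    set v := a' + e with hv
    have hvS' : v ∈ S' := S'.add_mem ha' he
    have hQv : Q v = 1 := by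
      rw [hv, QuadraticMap.map_add (⇑Q), hQa', hQe, hea, add_zero, add_zero]
    have hQv0 : Q v ≠ 0 := hQv ▸ one_ne_zero
    have hns : NS Q [s, v] := by simp [NS, hQs0, hQv0]
    set h := rprod Q [s, v] with hh
    have hhC : h ∈ commutator (orth Q) :=
      (rprod_mem_iff hnd hexc hns).2 ⟨even_two, 1, by simp [hQv, hQs]⟩
    have hap : ∀ r, h.1 r = (refl Q s hQs0).1 ((refl Q v hQv0).1 r) := fun r => by
      rw [hh, rprod_cons hQs0, rprod_singleton hQv0, orth_mul_apply]
    have hrv : ∀ r ∈ S, (refl Q v hQv0).1 r = r := fun r hr => by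
      rw [refl_apply, hperp' r hr v hvS']; simp
    have hhM : h ∈ M := hH h hhC (map_eq_of_forall fun r hr => by
      rw [hap, hrv r hr, refl_apply]
      exact S.sub_mem hr (S.smul_mem _ hsS))
    have hfixku : h.1 (k.1 u) = k.1 u := by
      have e1 : polar Q v (s + a') = 0 := by
        rw [polar_add_right, hperp' s hsS v hvS', hv, polar_add_left, polar_comm Q e a', hea,
          polar_self_mul, h2]
        simp
      have e2 : polar Q s (s + a') = 0 := by
        rw [polar_add_right, hperp s hsS a' ha', polar_self_mul, h2]; simp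
      rw [hku, hap, refl_apply Q v, e1]
      simp [refl_apply Q s, e2]
    refine ⟨k⁻¹ * h * k, M.mul_mem (M.mul_mem (M.inv_mem hkM) hhM) hkM,
      mul_mem (mul_mem (inv_mem hkC) hhC) hkC, ?_, u, S.add_mem (hKS x hx) haSm, ?_, hQu, ?_⟩
    · by_contra hall
      push Not at hall
      have hm := hall bS hbSm
      rw [orth_mul_apply, orth_mul_apply] at hm
      set r := (k⁻¹).1 (h.1 (k.1 bS))
      have hkr : k.1 r = h.1 (k.1 bS) := k.1.apply_symm_apply _
      set σ := (refl Q s hQs0).1 (Ψ bS)
      have hσ : σ ∈ S := by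
        simp only [σ, refl_apply]
        exact S.sub_mem (hΨS _ hbSm) (S.smul_mem _ hsS)
      set τ := (refl Q v hQv0).1 b'
      have hτeq : τ = b' - v := by
        simp only [τ, refl_apply, hQv, hv, polar_add_left, polar_comm Q e b', heb, hpol']
        simp [show Q (a' + e) = 1 from hQv]
      have hτ : τ ∈ S' := hτeq ▸ S'.sub_mem hb' hvS'
      have himg : h.1 (k.1 bS) = σ + τ := by
        rw [hk, hΦb, hap, map_add, map_add, hrv _ (hΨS _ hbSm)]
        congr 1
        show (refl Q s hQs0).1 τ = τ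
        rw [refl_apply, hperp s hsS τ hτ]; simp
      rw [himg, hk] at hkr
      obtain ⟨-, hΦr⟩ := split_unique hS (hΨS r hm) hσ (hΦS' r) hτ hkr
      rw [hτeq, hΦ] at hΦr
      have e1 : e = b' - a' - (polar Q a r • b' - (polar Q b r + Q b * polar Q a r) • a') := by
        rw [hΦr, hv]; abel
      have f1 := congrArg (polar Q a') e1
      have f2 := congrArg (polar Q b') e1
      simp only [polar_sub_right, polar_smul_right, hea, heb, hpol', polar_comm Q b' a', polar_self_mul,
        h2, zero_mul, smul_eq_mul, mul_zero, sub_zero, zero_sub, mul_one] at f1 f2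
      refine he0 ?_
      rw [e1, show polar Q b r + Q b * polar Q a r = 1 by linear_combination (-1 : F) * f2,
        show polar Q a r = 1 by linear_combination f1, one_smul, one_smul, sub_self]
    · intro h0
      refine haS0 (eq_zero_of_mem hKnd (?_) haP.2)
      rw [eq_neg_of_add_eq_zero_right h0]
      exact K.neg_mem hx
    · rw [orth_mul_apply, orth_mul_apply, hfixku]
      exact (k.1.symm_apply_apply u).symm ▸ (S.add_mem (hKS x hx) haSm)

end Cfsg.Agent.OmegaNondegCommon11
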