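import Mathlib
import Cfsg.Agent.Lib.OmegaMaxGlue
import Cfsg.Agent.Lib.OmegaNondegCommon11

/-!
Maximality of stabilisers of non-degenerate subspaces in all dimensions from seven on.
-/

set_option autoImplicit false

namespace Cfsg.Agent.OmegaNondegMax11

open QuadraticMap Module
open Cfsg.Agent.OrthUnitaryQuad Cfsg.Agent.OrthUnitaryPrelude Cfsg.Agent.OrthUnitaryRefl
  Cfsg.Agent.OmegaClasses Cfsg.Agent.OmegaGeo Cfsg.Agent.OrthUnitarySimple
  Cfsg.Agent.OmegaStabSingular Cfsg.Agent.OmegaStabTools Cfsg.Agent.OmegaStabNondeg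
  Cfsg.Agent.OmegaNondegTools11 Cfsg.Agent.OmegaMaxGlue
open Cfsg.Agent.QuadClassify (Nondeg Aniso exists_partner pair_complement)

section Core

variable {F V : Type*} [Field F] [AddCommGroup V] [Module F V] [FiniteDimensional F V]
  {Q : QuadraticForm F V}

omit [FiniteDimensional F V] in
theorem two_eq_zero [Fintype F] (hq : Fintype.card F = 2) : (2 : F) = 0 := by
  haveI : CharP F 2 := CharP.congr (ringChar F)
    ((FiniteField.even_card_iff_char_two (F := F)).2 (by rw [hq]))
  exact CharP.cast_eq_zero F 2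

omit [FiniteDimensional F V] in
/-- A mixed Siegel element from an element moving the subspace but keeping a singular vector. -/
theorem exists_mixed [Fintype F] [FiniteDimensional F V] (hnd : (polarBilin Q).Nondegenerate)
    (hn : 5 ≤ finrank F V) {S : Submodule F V} (hS : Nondeg Q S) (M : Subgroup (orth Q))
    (hH : ∀ k ∈ commutator (orth Q), S.map (k.1 : V →ₗ[F] V) = S → k ∈ M)
    {m : orth Q} (hm : m ∈ M) (hmC : m ∈ commutator (orth Q)) (hmS : ∃ x ∈ S, m.1 x ∉ S)
    {u : V} (hu : u ∈ S) (hu0 : u ≠ 0) (hQu : Q u = 0) (hmu : m.1 u ∈ S) :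
    ∃ u' ∈ S, u' ≠ 0 ∧ Q u' = 0 ∧ ∃ y ∈ perp Q S, y ≠ 0 ∧
      ∀ (h1 : Q u' = 0) (h2 : polar Q u' y = 0), siegel Q u' y h1 h2 ∈ M := by
  set u₂ := m.1 u with hu₂
  have hu₂0 : u₂ ≠ 0 := fun h => hu0 (m.1.map_eq_zero_iff.1 h)
  have hQu₂ : Q u₂ = 0 := (map_orth m u).trans hQu
  refine ⟨u₂, hmu, hu₂0, hQu₂, ?_⟩
  have hperp : ∀ s ∈ S, ∀ x ∈ perp Q S, polar Q s x = 0 := fun s hs x hx => hx s hs
  by_cases hall : ∀ w ∈ S, polar Q u w = 0 → m.1 w ∈ S
  · -- the image is a translate under a Siegel element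
    obtain ⟨f₀, hf₀, hQf₀, huf₀⟩ := exists_partner Q hS hu hu0 hQu
    obtain ⟨s, hs, y, hy, hsy⟩ := exists_split hnd hS (m.1 f₀)
    have hy0 : y ≠ 0 := fun h => by
      obtain ⟨x, hx, hxn⟩ := hmS
      refine hxn ?_
      have h1 := hall (x - polar Q u x • f₀) (S.sub_mem hx (S.smul_mem _ hf₀))
        (by rw [polar_sub_right, polar_smul_right, huf₀]; simp)
      rw [map_sub, map_smul, hsy, h, add_zero] at h1
      simpa using S.add_mem h1 (S.smul_mem (polar Q u x) hs)
    refine ⟨y, hy, hy0, fun h1 h2 => ?_⟩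
    set σ := siegel Q u₂ y h1 h2 with hσdef
    have hσC : σ ∈ commutator (orth Q) := sGroup_le_commutator hnd hn (siegel_mem hnd hn h1 h2)
    have hus : polar Q u₂ s = 1 := by
      have h := (polar_orth m u f₀).trans huf₀
      rwa [hsy, ← hu₂, polar_add_right, h2, add_zero] at h
    set H := S ⊓ LinearMap.ker (polarBilin Q u) with hH'
    set H₂ := S ⊓ LinearMap.ker (polarBilin Q u₂) with hH₂
    have hle : H.map (m.1 : V →ₗ[F] V) ≤ H₂ := by
      rintro _ ⟨w, hw, rfl⟩
      exact ⟨hall w hw.1 hw.2, (polar_orth m u w).trans hw.2⟩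
    have hlt : H₂ < S := lt_of_le_of_ne inf_le_left fun h => by
      have : s ∈ H₂ := h ▸ hs
      exact zero_ne_one ((show polar Q u₂ s = 0 from this.2).symm.trans hus)
    have heq : H.map (m.1 : V →ₗ[F] V) = H₂ := by
      refine Submodule.eq_of_le_of_finrank_le hle ?_
      have h3 := Submodule.finrank_lt_finrank_of_lt hlt
      have h4 := QuadClassify.finrank_ker_inf S (polarBilin Q u)
      rw [← hH'] at h4
      rw [LinearEquiv.finrank_map_eq]
      omega
    have hσS : ∀ x ∈ S, σ.1 x ∈ S.map (m.1 : V →ₗ[F] V) := by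
      intro x hx
      set α := polar Q u₂ x with hα
      have hz : x - α • s ∈ H₂ := ⟨S.sub_mem hx (S.smul_mem _ hs), by
        show polar Q u₂ (x - α • s) = 0
        rw [polar_sub_right, polar_smul_right, hus, hα]; simp⟩
      rw [← heq] at hz
      obtain ⟨z', hz', hz''⟩ := hz
      refine ⟨z' + α • f₀ - (Q y * α) • u, S.sub_mem (S.add_mem hz'.1 (S.smul_mem _ hf₀))
        (S.smul_mem _ hu), ?_⟩
      show m.1 (z' + α • f₀ - (Q y * α) • u) = σ.1 x
      rw [map_sub, map_add, map_smul, map_smul, show m.1 z' = x - α • s from hz'', hsy, ← hu₂,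
        hσdef, siegel_apply, (polar_comm _ y x).trans (hperp x hx y hy), ← hα, zero_add]
      module
    have hfix : ∀ x ∈ S, (m⁻¹ * σ).1 x ∈ S := fun x hx => by
      obtain ⟨x', hx', hxx⟩ := hσS x hx
      rw [orth_mul_apply, ← hxx]
      exact (m.1.symm_apply_apply x').symm ▸ hx'
    have hmem := hH (m⁻¹ * σ) (mul_mem (inv_mem hmC) hσC) (map_eq_of_forall hfix)
    simpa using M.mul_mem hm hmem
  · push Not at hall
    obtain ⟨w, hw, huw, hwn⟩ := hall
    obtain ⟨s, hs, y, hy, hsy⟩ := exists_split hnd hS (m.1 w)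
    refine ⟨y, hy, fun h => hwn (by rw [hsy, h, add_zero]; exact hs), fun h1 h2 => ?_⟩
    have hinner : siegel Q u w hQu huw ∈ M :=
      hH _ (sGroup_le_commutator hnd hn (siegel_mem hnd hn hQu huw)) (map_eq_of_forall fun x hx => by
        rw [siegel_apply]
        exact S.sub_mem (S.add_mem hx (S.smul_mem _ hw)) (S.smul_mem _ hu))
    have hus : polar Q u₂ s = 0 := by
      have h := (polar_orth m u w).trans huw
      rwa [hsy, ← hu₂, polar_add_right, h2, add_zero] at h
    have hinner₂ : siegel Q u₂ s h1 hus ∈ M :=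
      hH _ (sGroup_le_commutator hnd hn (siegel_mem hnd hn h1 hus)) (map_eq_of_forall fun x hx => by
        rw [siegel_apply]
        exact S.sub_mem (S.add_mem hx (S.smul_mem _ hs)) (S.smul_mem _ hmu))
    have hsum : siegel Q u₂ (s + y) h1 (by rw [polar_add_right, hus, h2, add_zero]) ∈ M := by
      have hc := conj_siegel m u w hQu huw
      simp only [← hu₂, hsy] at hc
      rw [← hc]
      exact M.mul_mem (M.mul_mem hm hinner) (M.inv_mem hm)
    rw [← siegel_mul h1 hus h2] at hsum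
    rwa [Subgroup.mul_mem_cancel_left _ hinner₂] at hsum

/-- A subgroup over the stabiliser moving the subspace is everything. -/
theorem commutator_le [Fintype F] (hnd : (polarBilin Q).Nondegenerate) {S : Submodule F V}
    (hS : Nondeg Q S) (h4 : 4 ≤ finrank F S) (hle : finrank F (perp Q S) ≤ finrank F S)
    (hsmall : finrank F S = 4 →
      finrank F (perp Q S) = 4 ∨ (finrank F (perp Q S) = 3 ∧ (2 : F) ≠ 0))
    (hq2 : Fintype.card F = 2 → finrank F S = 4 → ∀ U, ¬ Lagr Q U)
    (hex : ¬ (Fintype.card F ≤ 3 ∧ finrank F (perp Q S) = 2 ∧ ∃ e ∈ perp Q S, e ≠ 0 ∧ Q e = 0))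
    (M : Subgroup (orth Q))
    (hH : ∀ k ∈ commutator (orth Q), S.map (k.1 : V →ₗ[F] V) = S → k ∈ M)
    {g : orth Q} (hg : g ∈ M) (hgS : S.map (g.1 : V →ₗ[F] V) ≠ S)
    (hgS' : S.map (g.1 : V →ₗ[F] V) ≠ perp Q S) :
    commutator (orth Q) ≤ M := by
  have hn : 5 ≤ finrank F V := by
    by_contra h
    refine hgS ?_
    have h' := Submodule.finrank_le S
    rw [Submodule.eq_top_of_finrank_eq (show finrank F S = finrank F V by omega)]
    exact Submodule.map_top _ |>.trans (LinearEquiv.range g.1)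
  obtain ⟨m, hm, hmC, hmS, u₀, hu₀, hu₀0, hQu₀, hmu⟩ :=
    OmegaNondegCommon11.exists_common hnd hS h4 hle hsmall hq2 hn M hH hg hgS hgS'
  obtain ⟨u, huS, hu0, hQu, y, hyS', hy0, hyM⟩ :=
    exists_mixed hnd hn hS M hH hm hmC hmS hu₀ hu₀0 hQu₀ hmu
  set S' := perp Q S with hS'def
  have hSie : ∀ (a w : V) (ha : Q a = 0) (hw : polar Q a w = 0),
      siegel Q a w ha hw ∈ commutator (orth Q) := fun a w ha hw =>
    sGroup_le_commutator hnd hn (siegel_mem hnd hn ha hw)
  have hperp : ∀ s ∈ S, ∀ x ∈ S', polar Q s x = 0 := fun s hs x hx => hx s hs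
  have hperp' : ∀ s ∈ S, ∀ x ∈ S', polar Q x s = 0 := fun s hs x hx =>
    (polar_comm _ x s).trans (hx s hs)
  have hstab : ∀ k ∈ commutator (orth Q), (∀ x ∈ S, k.1 x ∈ S) → k ∈ M := fun k hk h =>
    hH k hk (map_eq_of_forall h)
  have hinner : ∀ (a w : V) (ha : Q a = 0) (hw : polar Q a w = 0), a ∈ S → w ∈ S →
      siegel Q a w ha hw ∈ M := fun a w ha hw haS hwS => hstab _ (hSie _ _ _ _) fun x hx => by
    rw [siegel_apply]
    exact S.sub_mem (S.add_mem hx (S.smul_mem _ hwS)) (S.smul_mem _ haS)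
  have hS'nd : Nondeg Q S' := perp_nondeg hnd hS
  have hexc : Fintype.card F ≠ 2 ∨ finrank F V ≠ 4 := Or.inr (by omega)
  obtain ⟨f, hfS, hQf, huf⟩ := exists_partner Q hS huS hu0 hQu
  obtain ⟨hS₂, hdimS⟩ := pair_complement Q hS huS hfS hQu hQf huf
  set S₂ := S ⊓ LinearMap.ker (polarBilin Q u) ⊓ LinearMap.ker (polarBilin Q f)
  have hS₂d : 2 ≤ finrank F S₂ := by omega
  have htor : ∀ c : F, c ≠ 0 → ∃ t ∈ commutator (orth Q), t.1 u = c • u ∧ (∀ x ∈ S, t.1 x ∈ S) ∧
      ∀ x, (∀ s ∈ S, polar Q s x = 0) → t.1 x = x := by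
    intro c hc
    obtain ⟨h₁, p₁, a₁⟩ := scale_apply hQu hQf huf hc
    obtain ⟨z₁, hz₁, hQz₁⟩ := nondeg_represents hS₂ hS₂d c
    obtain ⟨z₂, hz₂, hQz₂⟩ := nondeg_represents hS₂ hS₂d 1
    have hns₂ : NS Q [z₁, z₂] := by simp [NS, hQz₁, hQz₂, hc]
    have hns := h₁.append hns₂
    have hmem : ∀ v ∈ [u - f, u - c • f] ++ [z₁, z₂], v ∈ S := by
      intro v hv
      simp only [List.cons_append, List.nil_append, List.mem_cons, List.not_mem_nil, or_false] at hv
      rcases hv with rfl | rfl | rfl | rfl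
      · exact S.sub_mem huS hfS
      · exact S.sub_mem huS (S.smul_mem _ hfS)
      · exact hz₁.1.1
      · exact hz₂.1.1
    refine ⟨rprod Q _, (rprod_mem_iff hnd hexc hns).2 ⟨⟨2, rfl⟩, c, ?_⟩, ?_,
      fun x hx => rprod_mem_of_forall hns hmem hx,
      fun x hx => rprod_fix hns fun v hv => hx v (hmem v hv)⟩
    · rw [List.map_append, List.prod_append, p₁]; simp [hQz₁, hQz₂]
    · rw [rprod_append, orth_mul_apply, rprod_fix hns₂ (fun v hv => by
        simp only [List.mem_cons, List.not_mem_nil, or_false] at hv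
        rcases hv with rfl | rfl
        · exact (polar_comm _ _ _).trans hz₁.1.2
        · exact (polar_comm _ _ _).trans hz₂.1.2)]
      rw [a₁, polar_comm Q f u, huf, polar_self_mul, hQu]
      simp [sub_smul]
  obtain ⟨sw, hsw, hswu, hswS⟩ : ∃ k ∈ commutator (orth Q), k.1 u = f ∧ ∀ x ∈ S, k.1 x ∈ S := by
    obtain ⟨z, hz, hQz⟩ := nondeg_represents hS₂ hS₂d (-1)
    have hQuf : Q (u - f) = -1 := by
      rw [sub_eq_add_neg, ← neg_one_smul F f, QuadraticMap.map_add (⇑Q), QuadraticMap.map_smul,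
        polar_smul_right, hQu, hQf, huf]
      simp
    have hns : NS Q [u - f, z] := by simp [NS, hQuf, hQz]
    refine ⟨rprod Q [u - f, z], (rprod_mem_iff hnd hexc hns).2 ⟨even_two, 1, by simp [hQuf, hQz]⟩,
      ?_, fun x hx => rprod_mem_of_forall hns (fun v hv => by
        simp only [List.mem_cons, List.not_mem_nil, or_false] at hv
        rcases hv with rfl | rfl
        · exact S.sub_mem huS hfS
        · exact hz.1.1) hx⟩
    rw [rprod_cons hns.head, rprod_singleton (hQz ▸ neg_ne_zero.2 one_ne_zero), orth_mul_apply,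
      refl_apply Q z, show polar Q z u = 0 from (polar_comm _ z u).trans hz.1.2]
    simp [refl_apply, hQuf, polar_sub_left, polar_self_mul, hQu, polar_comm Q f u, huf]
  -- the additive group of admissible vectors
  let A : Submodule F V :=
    { carrier := {z | z ∈ S' ∧ ∀ hz : polar Q u z = 0, siegel Q u z hQu hz ∈ M}
      zero_mem' := ⟨S'.zero_mem, fun hz => by
        rw [siegel_eq_one hQu hz (a := 0) (zero_smul F u).symm]; exact M.one_mem⟩
      add_mem' := fun {p r} hp hr => ⟨S'.add_mem hp.1 hr.1, fun hz => by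
        rw [← siegel_mul hQu (hperp u huS p hp.1) (hperp u huS r hr.1)]
        exact M.mul_mem (hp.2 _) (hr.2 _)⟩
      smul_mem' := fun c z hz => ⟨S'.smul_mem c hz.1, fun hcz => by
        by_cases hc : c = 0
        · rw [siegel_eq_one hQu hcz (a := 0) (by rw [hc, zero_smul, zero_smul])]; exact M.one_mem
        obtain ⟨t, ht, htu, htS, htfix⟩ := htor c hc
        have h := conj_siegel t u z hQu (hperp u huS z hz.1)
        simp only [htu, htfix z (fun s hs => hperp s hs z hz.1)] at h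
        have hmem : siegel Q (c • u) z (by rw [QuadraticMap.map_smul, hQu, smul_zero])
            (by rw [polar_smul_left, hperp u huS z hz.1, smul_zero]) ∈ M := by
          rw [← h]
          exact M.mul_mem (M.mul_mem (hstab t ht htS) (hz.2 _)) (M.inv_mem (hstab t ht htS))
        rwa [siegel_scale _ _ hQu hcz] at hmem⟩ }
  have hAinv : ∀ h : orth Q, h ∈ M → h.1 u = u → (∀ x ∈ S', h.1 x ∈ S') →
      ∀ z ∈ A, h.1 z ∈ A := by
    intro h hh hhu hhS' z hz
    refine ⟨hhS' z hz.1, fun hz' => ?_⟩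
    have hc := conj_siegel h u z hQu (hperp u huS z hz.1)
    simp only [hhu] at hc
    rw [← hc]
    exact M.mul_mem (M.mul_mem hh (hz.2 _)) (M.inv_mem hh)
  have hA : A = S' := by
    refine eq_of_invariant (Q := Q) hS'nd (fun z hz => hz.1) (y := y) ⟨hyS', hyM hQu⟩ hy0 ?_ ?_ hex
    · intro a₁ ha₁ x hx hQa₁ hax z hz
      refine hAinv _ (hstab _ (hSie _ _ _ _) fun s hs => ?_) ?_ (fun s hs => ?_) z hz
      · rw [siegel_apply, hperp' s hs a₁ ha₁, hperp' s hs x hx]
        simpa using hs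
      · rw [siegel_apply, hperp' u huS a₁ ha₁, hperp' u huS x hx]
        simp
      · rw [siegel_apply]
        exact S'.sub_mem (S'.add_mem hs (S'.smul_mem _ hx)) (S'.smul_mem _ ha₁)
    · intro v hv hQv z hz
      obtain ⟨z₂, hz₂, hQz₂⟩ := nondeg_represents hS₂ hS₂d (Q v)
      have hz₂0 : Q z₂ ≠ 0 := hQz₂ ▸ hQv
      have hns : NS Q [v, z₂] := by simp [NS, hQv, hz₂0]
      have hk : rprod Q [v, z₂] ∈ commutator (orth Q) :=
        (rprod_mem_iff hnd (Or.inr (by omega)) hns).2 ⟨even_two, Q v, by simp [hQz₂]⟩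
      have hap : ∀ x, (rprod Q [v, z₂]).1 x = (refl Q v hQv).1 ((refl Q z₂ hz₂0).1 x) := fun x => by
        rw [rprod_cons hQv, rprod_singleton hz₂0, orth_mul_apply]
      have hfixS' : ∀ x ∈ S', (refl Q z₂ hz₂0).1 x = x := fun x hx => by
        rw [refl_apply, hperp z₂ hz₂.1.1 x hx]; simp
      have hinS : ∀ x ∈ S, (rprod Q [v, z₂]).1 x ∈ S := fun x hx => by
        have h1 : (refl Q z₂ hz₂0).1 x ∈ S := by
          rw [refl_apply]; exact S.sub_mem hx (S.smul_mem _ hz₂.1.1)
        rw [hap, refl_apply Q v, hperp' _ h1 v hv]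
        simpa using h1
      have := hAinv _ (hstab _ hk hinS) (by
          have h2 : polar Q z₂ u = 0 := (polar_comm _ z₂ u).trans hz₂.1.2
          rw [hap, refl_apply Q z₂, h2]
          simp [refl_apply, hperp' u huS v hv]) (fun x hx => by
          rw [hap, hfixS' x hx, refl_apply]
          exact S'.sub_mem hx (S'.smul_mem _ hv)) z hz
      rwa [hap, hfixS' z hz.1] at this
  have hfull : Full M u := by
    intro w hu' hw
    obtain ⟨s, hs, t, ht, rfl⟩ := exists_split hnd hS w
    have hut : polar Q u t = 0 := hperp u huS t ht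
    have hus : polar Q u s = 0 := by rw [polar_add_right, hut, add_zero] at hw; exact hw
    rw [← siegel_mul hu' hus hut]
    exact M.mul_mem (hinner _ _ _ _ huS hs) ((hA.ge ht).2 hut)
  exact commutator_le_of_full hnd hn hQu hQf (by rw [huf]; exact one_ne_zero) hfull
    (hswu ▸ hfull.of_mem (hstab sw hsw hswS))

/-- Some element of the commutator subgroup moves a non-degenerate subspace. -/
theorem exists_move [Fintype F] (hnd : (polarBilin Q).Nondegenerate) {S : Submodule F V}
    (hS : Nondeg Q S) (hS3 : 3 ≤ finrank F S) (hn : 5 ≤ finrank F V) (hlt : finrank F S < finrank F V) :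
    ∃ k ∈ commutator (orth Q), S.map (k.1 : V →ₗ[F] V) ≠ S := by
  obtain ⟨u, hu, hu0, hQu⟩ := QuadClassify.exists_singular Q S (by omega)
  obtain ⟨f, hf, hQf, huf⟩ := exists_partner Q hS hu hu0 hQu
  obtain ⟨y, hy, hy0⟩ := Submodule.exists_mem_ne_zero_of_ne_bot (p := perp Q S) (fun hb => by
    have h1 := finrank_orth hnd S
    rw [← perp, hb, finrank_bot] at h1
    omega)
  have huy : polar Q u y = 0 := hy u hu
  refine ⟨_, sGroup_le_commutator hnd hn (siegel_mem hnd hn hQu huy), fun h => ?_⟩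
  have hmem : (siegel Q u y hQu huy).1 f ∈ S := h ▸ Submodule.mem_map_of_mem hf
  rw [siegel_apply, huf, one_smul, show polar Q y f = 0 from (polar_comm _ y f).trans (hy f hf),
    add_sub_assoc] at hmem
  have hyS : y ∈ S := by
    have := S.add_mem (S.sub_mem hmem hf) (S.smul_mem (0 + Q y * 1) hu)
    rwa [add_sub_cancel_left, sub_add_cancel] at this
  exact hy0 (hS y hyS fun w hw => (polar_comm _ y w).trans (hy w hw))


end Core

variable {F : Type*} [Field F] [Fintype F] {ι : Type} [Fintype ι] [DecidableEq ι]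
  {q : QuadraticForm F (ι → F)}

omit [DecidableEq ι] in
theorem eight (hq : Fintype.card F = 2) (h7 : finrank F (ι → F) = 7 → (2 : F) ≠ 0)
    (h : finrank F (ι → F) = 7 ∨ finrank F (ι → F) = 8) : finrank F (ι → F) = 8 :=
  h.resolve_left fun e => h7 e (two_eq_zero hq)

/-- The stabiliser of a non-degenerate subspace inside `omegaGL` is maximal. -/
theorem isMaximalIn (hnd : (polarBilin q).Nondegenerate) {W : Submodule F (ι → F)}
    (hW : Cfsg.Geo.IsNondegenerateOn (polar q) W) (hW0 : W ≠ ⊥) (hW1 : W ≠ ⊤)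
    (hn : 7 ≤ finrank F (ι → F)) (h7 : finrank F (ι → F) = 7 → (2 : F) ≠ 0)
    (hq2 : Fintype.card F = 2 → finrank F (ι → F) = 8 → ∀ U, ¬ Lagr q U)
    (hhalf : 2 * finrank F W = finrank F (ι → F) →
      ∀ g : orth q, (∀ x ∈ W, g.1 x ∈ perp q W) → False)
    (hex : ¬ (Fintype.card F ≤ 3 ∧ ∃ U : Submodule F (ι → F), finrank F U = 2 ∧
      Cfsg.Geo.IsNondegenerateOn (polar q) U ∧ Cfsg.Geo.IsPlusTypeOn (⇑q) U ∧
        (U = W ∨ (Cfsg.Geo.AreOrthogonalFor (polar q) U W ∧
          finrank F U + finrank F W = finrank F (ι → F))))) :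
    Cfsg.Geo.IsMaximalIn (Cfsg.Geo.omegaGL ⇑q)
      (Cfsg.Geo.subspaceStabilizer W ⊓ Cfsg.Geo.omegaGL ⇑q) := by
  have hWn : Nondeg q W := fun u hu h => by
    by_contra h0
    obtain ⟨x, hx, hne⟩ := (hW u hu h0).2
    exact hne (h x hx)
  have hdim : finrank F (perp q W) + finrank F W = finrank F (ι → F) := by
    rw [OmegaStabSingular.finrank_orth hnd, Nat.sub_add_cancel (Submodule.finrank_le W)]
  have hperpnd : Nondeg q (perp q W) := by
    intro x hx h
    refine hnd.1 x fun z => ?_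
    have hdisj : W ⊓ perp q W = ⊥ := by
      rw [Submodule.eq_bot_iff]
      intro v hv
      exact hWn v hv.1 fun w hw => (polar_comm _ v w).trans (hv.2 w hw)
    have htop : W ⊔ perp q W = ⊤ := by
      refine Submodule.eq_top_of_finrank_eq ?_
      have h := Submodule.finrank_sup_add_finrank_inf_eq W (perp q W)
      rw [hdisj, finrank_bot] at h
      omega
    obtain ⟨s, hs, t, ht, rfl⟩ := Submodule.mem_sup.1 (show z ∈ W ⊔ perp q W by rw [htop]; trivial)
    show polar q x (s + t) = 0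
    rw [polar_add_right, h t ht, (polar_comm _ x s).trans (hx s hs), add_zero]
  have hoo : perp q (perp q W) = W := OmegaStabSingular.orth_orth hnd W
  have hbij : ∀ k : orth q, W.map (k.1 : (ι → F) →ₗ[F] (ι → F)) = W →
      (perp q W).map (k.1 : (ι → F) →ₗ[F] (ι → F)) = perp q W := by
    intro k hk
    refine OmegaStabSingular.map_eq_of_forall fun x hx => ?_
    intro w hw
    rw [← hk] at hw
    obtain ⟨w', hw', rfl⟩ := hw
    show polar q (k.1 w') (k.1 x) = 0
    rw [polar_orth k]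
    exact hx w' hw'
  have hbij' : ∀ k : orth q, (perp q W).map (k.1 : (ι → F) →ₗ[F] (ι → F)) = perp q W →
      W.map (k.1 : (ι → F) →ₗ[F] (ι → F)) = W := by
    intro k hk
    refine OmegaStabSingular.map_eq_of_forall fun x hx => ?_
    rw [← hoo]
    intro w hw
    rw [← hk] at hw
    obtain ⟨w', hw', rfl⟩ := hw
    show polar q (k.1 w') (k.1 x) = 0
    rw [polar_orth k, polar_comm]
    exact hw' x hx
  have hplane : ∀ U : Submodule F (ι → F), Nondeg q U → finrank F U = 2 →
      (∃ e ∈ U, e ≠ 0 ∧ q e = 0) → Cfsg.Geo.IsNondegenerateOn (polar q) U ∧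
        Cfsg.Geo.IsPlusTypeOn (⇑q) U := by
    intro U hU h2 ⟨e, he, he0, hQe⟩
    refine ⟨fun u hu hu0 => ?_, Submodule.span F {e}, (Submodule.span_singleton_le_iff_mem _ _).2 he,
      ?_, by rw [finrank_span_singleton he0, h2]⟩
    · obtain ⟨x, hx, hux⟩ : ∃ x ∈ U, polar q u x ≠ 0 := by
        by_contra h
        push Not at h
        exact hu0 (hU u hu h)
      exact ⟨⟨x, hx, by rwa [polar_comm]⟩, x, hx, hux⟩
    · intro w hw
      obtain ⟨c, rfl⟩ := Submodule.mem_span_singleton.1 hw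
      rw [QuadraticMap.map_smul, hQe, smul_zero]
  have hpos : 0 < finrank F W := Nat.pos_of_ne_zero fun h => hW0 (Submodule.finrank_eq_zero.1 h)
  have hlt : finrank F W < finrank F (ι → F) := Submodule.finrank_lt hW1
  rcases Nat.lt_or_ge (finrank F W) (finrank F (perp q W)) with hsize | hsize
  · -- work with the orthogonal space
    refine isMaximalIn_stabilizer ?_ fun M hM g hg _ hgW => ?_
    · obtain ⟨k, hk, hne⟩ := exists_move hnd hperpnd (by omega) (by omega) (by omega)
      exact ⟨k, hk, fun h => hne (hbij k h)⟩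
    · refine commutator_le hnd hperpnd (by omega) (by rw [hoo]; omega)
        (fun h4 => ?_) (fun hq h4 => hq2 hq (eight hq h7 (by omega))) ?_ M
        (fun k hk h => hM k hk (hbij' k h)) hg (fun h => hgW (hbij' g h)) (fun h => ?_)
      · rw [hoo]
        rcases (show finrank F W = 4 ∨ (finrank F W = 3 ∧ finrank F (ι → F) = 7) by omega) with h | ⟨h, h'⟩
        · exact Or.inl h
        · exact Or.inr ⟨h, h7 h'⟩
      · rintro ⟨hq, h2, he⟩
        rw [hoo] at h2 he
        obtain ⟨a, b⟩ := hplane W hWn h2 he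
        exact hex ⟨hq, W, h2, a, b, Or.inl rfl⟩
      · have h' := congrArg (fun X : Submodule F (ι → F) => finrank F X) h
        rw [LinearEquiv.finrank_map_eq, hoo] at h'
        omega
  · refine isMaximalIn_stabilizer (exists_move hnd hWn (by omega) (by omega) hlt)
      fun M hM g hg _ hgW => commutator_le hnd hWn (by omega) hsize (fun h4 => ?_)
        (fun hq h4 => hq2 hq (eight hq h7 (by omega))) ?_ M hM hg hgW (fun h => ?_)
    · rcases (show finrank F (perp q W) = 4 ∨ (finrank F (perp q W) = 3 ∧ finrank F (ι → F) = 7) by omega) with h | ⟨h, h'⟩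
      · exact Or.inl h
      · exact Or.inr ⟨h, h7 h'⟩
    · rintro ⟨hq, h2, he⟩
      obtain ⟨a, b⟩ := hplane _ hperpnd h2 he
      exact hex ⟨hq, perp q W, h2, a, b, Or.inr
        ⟨fun u hu w hw => (polar_comm _ u w).trans (hu w hw), hdim⟩⟩
    · have h' := congrArg (fun X : Submodule F (ι → F) => finrank F X) h
      rw [LinearEquiv.finrank_map_eq] at h'
      exact hhalf (by omega) g fun x hx => h ▸ Submodule.mem_map_of_mem hx

end Cfsg.Agent.OmegaNondegMax11
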