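import Cfsg.Prelude
import Cfsg.Agent.Lib.OmegaMaxGlue
import Cfsg.Agent.Lib.OmegaStd
import Cfsg.Agent.Lib.OmegaStabSingular
import Cfsg.Agent.Lib.OmegaNondegMax11
import Cfsg.Agent.Lib.OrthSubfieldMax44
import Cfsg.Agent.Lib.Frame10Glue
import Cfsg.Agent.Lib.OmegaDecompGlue

/-!
Geometric maximal subgroups of the orthogonal group in dimension nine, odd characteristic; the
classes of field normalisers and of tensor squares are taken as hypotheses.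
-/

set_option autoImplicit false

namespace Cfsg.Agent.OmegaNineGeo58

open Cfsg.Agent.OrthUnitaryQuad Cfsg.Agent.OrthUnitaryPrelude Cfsg.Agent.OmegaClasses Cfsg.Agent.OmegaGeo
  Cfsg.Agent.OmegaMaxGlue

/-- The nine-dimensional list, given the field and tensor clauses. -/
theorem geometric {F : Type*} [Field F] [Fintype F] (hodd : Odd (Fintype.card F))
    (hfield : (∀ K : Subalgebra F (Matrix (Unit ⊕ (Fin 4 ⊕ Fin 4)) (Unit ⊕ (Fin 4 ⊕ Fin 4)) F), Cfsg.Geo.IsFieldSubalgebra 3 K → Cfsg.Geo.IsSelfAdjointFor (QuadraticMap.polar (Cfsg.quadFormOdd 4 F)) K → Cfsg.Geo.IsMaximalIn (Cfsg.Geo.omegaGL (Cfsg.quadFormOdd 4 F)) (Cfsg.Geo.subalgebraNormalizer K ⊓ Cfsg.Geo.omegaGL (Cfsg.quadFormOdd 4 F))))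
    (htensor : (5 ≤ Fintype.card F → ∀ (e : (Unit ⊕ (Fin 4 ⊕ Fin 4)) ≃ (Fin 2 → Fin 3)) (P : Matrix.GeneralLinearGroup (Unit ⊕ (Fin 4 ⊕ Fin 4)) F) (f₁ : (Fin 3 → F) → (Fin 3 → F) → F), Cfsg.Geo.IsSymmetricForm f₁ → Cfsg.Geo.IsTensorPowerFormStructure id (QuadraticMap.polar (Cfsg.quadFormOdd 4 F)) f₁ e P → Cfsg.Geo.IsMaximalIn (Cfsg.Geo.omegaGL (Cfsg.quadFormOdd 4 F)) (Cfsg.Geo.tensorWreathSubgroup 3 2 e P ⊓ Cfsg.Geo.omegaGL (Cfsg.quadFormOdd 4 F)))) :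
    (∀ W : Submodule F (Unit ⊕ (Fin 4 ⊕ Fin 4) → F), W ≠ ⊥ → Cfsg.Geo.IsTotallySingularQuad (Cfsg.quadFormOdd 4 F) W → Cfsg.Geo.IsMaximalIn (Cfsg.Geo.omegaGL (Cfsg.quadFormOdd 4 F)) (Cfsg.Geo.subspaceStabilizer W ⊓ Cfsg.Geo.omegaGL (Cfsg.quadFormOdd 4 F))) ∧
    (∀ W : Submodule F (Unit ⊕ (Fin 4 ⊕ Fin 4) → F), W ≠ ⊥ → Even (Module.finrank F W) → Cfsg.Geo.IsNondegenerateOn (QuadraticMap.polar (Cfsg.quadFormOdd 4 F)) W → ¬ (Fintype.card F = 3 ∧ Module.finrank F W = 2 ∧ Cfsg.Geo.IsPlusTypeOn (Cfsg.quadFormOdd 4 F) W) → Cfsg.Geo.IsMaximalIn (Cfsg.Geo.omegaGL (Cfsg.quadFormOdd 4 F)) (Cfsg.Geo.subspaceStabilizer W ⊓ Cfsg.Geo.omegaGL (Cfsg.quadFormOdd 4 F))) ∧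
    ((Fintype.card F).Prime → ∀ D : Fin 9 → Submodule F (Unit ⊕ (Fin 4 ⊕ Fin 4) → F), Cfsg.Geo.IsOrthogonalMDecomposition (Cfsg.quadFormOdd 4 F) 1 D → Cfsg.Geo.IsMaximalIn (Cfsg.Geo.omegaGL (Cfsg.quadFormOdd 4 F)) (Cfsg.Geo.decompositionStabilizer D ⊓ Cfsg.Geo.omegaGL (Cfsg.quadFormOdd 4 F))) ∧
    (5 ≤ Fintype.card F → ∀ D : Fin 3 → Submodule F (Unit ⊕ (Fin 4 ⊕ Fin 4) → F), Cfsg.Geo.IsOrthogonalMDecomposition (Cfsg.quadFormOdd 4 F) 3 D → Cfsg.Geo.IsMaximalIn (Cfsg.Geo.omegaGL (Cfsg.quadFormOdd 4 F)) (Cfsg.Geo.decompositionStabilizer D ⊓ Cfsg.Geo.omegaGL (Cfsg.quadFormOdd 4 F))) ∧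
    (∀ K : Subalgebra F (Matrix (Unit ⊕ (Fin 4 ⊕ Fin 4)) (Unit ⊕ (Fin 4 ⊕ Fin 4)) F), Cfsg.Geo.IsFieldSubalgebra 3 K → Cfsg.Geo.IsSelfAdjointFor (QuadraticMap.polar (Cfsg.quadFormOdd 4 F)) K → Cfsg.Geo.IsMaximalIn (Cfsg.Geo.omegaGL (Cfsg.quadFormOdd 4 F)) (Cfsg.Geo.subalgebraNormalizer K ⊓ Cfsg.Geo.omegaGL (Cfsg.quadFormOdd 4 F))) ∧
    (∀ (F₀ : Subfield F) (r : ℕ) (P : Matrix.GeneralLinearGroup (Unit ⊕ (Fin 4 ⊕ Fin 4)) F), r.Prime → Fintype.card F = Nat.card F₀ ^ r → Cfsg.Geo.IsQuadFormRationalStructure (Cfsg.quadFormOdd 4 F) F₀ P → Cfsg.Geo.IsMaximalIn (Cfsg.Geo.omegaGL (Cfsg.quadFormOdd 4 F)) (Cfsg.Geo.subfieldSubgroup F₀ P ⊓ Cfsg.Geo.omegaGL (Cfsg.quadFormOdd 4 F))) ∧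
    (5 ≤ Fintype.card F → ∀ (e : (Unit ⊕ (Fin 4 ⊕ Fin 4)) ≃ (Fin 2 → Fin 3)) (P : Matrix.GeneralLinearGroup (Unit ⊕ (Fin 4 ⊕ Fin 4)) F) (f₁ : (Fin 3 → F) → (Fin 3 → F) → F), Cfsg.Geo.IsSymmetricForm f₁ → Cfsg.Geo.IsTensorPowerFormStructure id (QuadraticMap.polar (Cfsg.quadFormOdd 4 F)) f₁ e P → Cfsg.Geo.IsMaximalIn (Cfsg.Geo.omegaGL (Cfsg.quadFormOdd 4 F)) (Cfsg.Geo.tensorWreathSubgroup 3 2 e P ⊓ Cfsg.Geo.omegaGL (Cfsg.quadFormOdd 4 F))) := by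
  classical
  have h2 : (2 : F) ≠ 0 := OmegaStd.two_ne_zero rfl hodd
  obtain ⟨q, hq, hnd⟩ : ∃ q : QuadraticForm F (Unit ⊕ (Fin 4 ⊕ Fin 4) → F),
      ⇑q = Cfsg.quadFormOdd 4 F ∧ (QuadraticMap.polarBilin q).Nondegenerate :=
    ⟨QuadClassify.qOdd 4 F, QuadClassify.qOdd_coe 4, nondeg_odd h2⟩
  have hd : Module.finrank F (Unit ⊕ (Fin 4 ⊕ Fin 4) → F) = 9 := by simp
  refine ⟨?_, ?_, ?_, ?_, hfield, ?_, htensor⟩ <;> rw [← hq]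
  · intro W hW0 hW
    exact isMaximalIn_stabilizer (OmegaStabSingular.exists_move hnd (by omega) hW0 hW)
      fun M hM g hg _ hgW => OmegaStabSingular.commutator_le hnd (by omega) hW
        (fun _ _ => by omega) M hM hg hgW
  · intro W hW0 hev hW hex
    refine OmegaNondegMax11.isMaximalIn hnd hW hW0 (fun h => ?_) (by omega) (fun _ => h2)
      (fun _ h => by omega) (fun h _ _ => by omega) ?_
    · rw [h, finrank_top, hd] at hev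
      exact absurd hev (by decide)
    · rintro ⟨hq3, U, hU2, -, hplus, rfl | ⟨-, hsum⟩⟩
      · refine hex ⟨?_, hU2, hplus⟩
        have h1 := Fintype.one_lt_card (α := F)
        obtain ⟨r, hr⟩ := hodd
        omega
      · obtain ⟨r, hr⟩ := hev
        omega
  · exact fun hp D hD => Frame10.isMaximalIn hnd hp hodd (by simp) hD
  · exact fun h5 D hD => OmegaDecompGlue.isMaximalIn hnd hD
      ⟨le_rfl, by omega, by omega, fun _ => le_rfl, fun _ => h5, fun _ => h2, fun _ h => by omega⟩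
  · exact fun F₀ r P hr hcard hP => OrthSubfieldMax44.isMaximalIn q hnd (by simp) F₀ r hr hcard P hP

end Cfsg.Agent.OmegaNineGeo58
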