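import Mathlib
import Cfsg.Agent.Lib.OmegaPlusDecompReduce73

/-!
Orthogonal decompositions into hyperbolic planes: a related mixed vector gives a Siegel element at a
block vector.
-/

set_option autoImplicit false

namespace Cfsg.Agent.OmegaPlusDecompRep73

open QuadraticMap Module
open Cfsg.Agent.OrthUnitaryQuad Cfsg.Agent.OrthUnitaryPrelude Cfsg.Agent.OrthUnitaryRefl
  Cfsg.Agent.OrthUnitaryOmega Cfsg.Agent.OmegaClasses Cfsg.Agent.OmegaGeo
  Cfsg.Agent.OrthUnitarySimple Cfsg.Agent.OmegaStabSingular Cfsg.Agent.OmegaStabTools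
  Cfsg.Agent.OmegaDecomp Cfsg.Agent.OmegaDecompClass Cfsg.Agent.OmegaDecompGain
  Cfsg.Agent.OmegaDecompFull Cfsg.Agent.OmegaPlusDecompBasic73
  Cfsg.Agent.OmegaPlusDecompReduce73
open Cfsg.Agent.OmegaDecompTwo (rep_refl)
open Cfsg.Agent.QuadClassify (Nondeg Aniso exists_partner)

variable {F V : Type*} [Field F] [Fintype F] [AddCommGroup V] [Module F V] [FiniteDimensional F V]
  {Q : QuadraticForm F V} {t : ℕ} {D : Fin t → Submodule F V} {π : Fin t → V →ₗ[F] V}
  {M : Subgroup (orth Q)}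

/-- A member-preserving element translating a related vector gives a Siegel element. -/
theorem translate (hnd : (polarBilin Q).Nondegenerate) (hh : Plus Q D) (hH : Contains M D) {x d : V}
    (hx : Rep M D x) {h : orth Q} (hhM : h ∈ M) (hblk : ∀ r, ∀ z ∈ D r, h.1 z ∈ D r)
    (hhx : h.1 x = x + d) (hQd : Q d = 0) (hdx : polar Q d x = 0) :
    SMem M d ((Q x)⁻¹ • x) := by
  obtain ⟨v, hv, hQv⟩ := exists_value hh ⟨0, by have := hh.seven; omega⟩ (Q x)
  have hrep := rep_map_plus hnd hh hH hx hhM hv hQv (hblk _ v hv)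
  obtain ⟨_, _, hm⟩ := (hx.2 _ v hv hQv).trans (hrep.2 _ v hv (by rw [map_orth]; exact hQv)).symm
  have hca : (Q x)⁻¹ ≠ 0 := inv_ne_zero hx.1
  have hdw : polar Q d ((Q x)⁻¹ • x) = 0 := by rw [polar_smul_right, hdx, smul_zero]
  have hQw : Q ((Q x)⁻¹ • x) ≠ 0 := by
    rw [QuadraticMap.map_smul, smul_eq_mul]; exact mul_ne_zero (mul_ne_zero hca hca) hx.1
  have e : (Q x)⁻¹ • x + Q ((Q x)⁻¹ • x) • d = (Q x)⁻¹ • h.1 x := by
    have hQ' : Q ((Q x)⁻¹ • x) = (Q x)⁻¹ := by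
      rw [QuadraticMap.map_smul, smul_eq_mul, mul_assoc, inv_mul_cancel₀ hx.1, mul_one]
    rw [hQ', hhx, smul_add]
  refine ⟨hQd, hdw, ?_⟩
  rw [siegel_eq_refl_mul hQd hdw hQw, refl_smul x hx.1 hca, refl_congr e, refl_smul _ _ hca]
  exact hm

/-- A related mixed vector with a singular component. -/
theorem basic_of_singular_comp (hnd : (polarBilin Q).Nondegenerate) (hh : Plus Q D)
    (hπ : Comp Q D π) (hH : Contains M D) {x : V} (hx : Rep M D x) (hmix : ∀ i, x ∉ D i)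
    {a : Fin t} (ha : π a x ≠ 0) (hQa : Q (π a x) = 0) : Basic M D := by
  have hD := hh.dec
  obtain ⟨f, hp⟩ := exists_hpair_of hD (hπ.mem a x) ha hQa
  obtain ⟨c, hc, hc1, hsq⟩ := exists_square hh.q7
  obtain ⟨m, hm, hmx, hblk, -⟩ := exists_rot hnd hh hH hp hc hsq
  have he : polar Q (π a x) x = 0 := by rw [hπ.polar_eq a _ (hπ.mem a x) x, hp.ee]
  have hf : polar Q f x = 1 := by rw [hπ.polar_eq a f hp.hf x, hp.fe]
  have hd : move Q c (π a x) f x = (c - 1) • π a x := by rw [move, he, hf]; simp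
  obtain ⟨b, hba, hb⟩ := exists_other hπ hmix a
  refine basic_of_split hnd hh hπ hH (d := (c - 1) • π a x) (w := (Q x)⁻¹ • x)
    ((D a).smul_mem _ (hπ.mem a x)) (smul_ne_zero (sub_ne_zero.2 hc1) ha) hba
    (by rw [map_smul]; exact smul_ne_zero (inv_ne_zero hx.1) hb)
    (translate hnd hh hH hx hm hblk (by rw [hmx, hd]) ?_ ?_)
  · rw [QuadraticMap.map_smul, hQa, smul_zero]
  · rw [polar_smul_left, he, smul_zero]

/-- A related vector with three components. -/
theorem exists_three_plus (hnd : (polarBilin Q).Nondegenerate) (hh : Plus Q D) (hπ : Comp Q D π)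
    (hH : Contains M D) {x : V} (hx : Rep M D x) (hmix : ∀ i, x ∉ D i)
    (hns : ∀ r, π r x ≠ 0 → Q (π r x) ≠ 0) :
    ∃ y, Rep M D y ∧ ∃ a b e, a ≠ b ∧ a ≠ e ∧ b ≠ e ∧ π a y ≠ 0 ∧ π b y ≠ 0 ∧ π e y ≠ 0 := by
  classical
  have hD := hh.dec
  have ht := hh.seven
  have hx0 : x ≠ 0 := fun h => hx.1 (by rw [h, QuadraticMap.map_zero])
  obtain ⟨a, ha⟩ := hπ.exists_ne hx0
  obtain ⟨b, hba, hb⟩ := exists_other hπ hmix a
  by_cases h3 : ∃ e, e ≠ a ∧ e ≠ b ∧ π e x ≠ 0
  · obtain ⟨e, hea, heb, he⟩ := h3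
    exact ⟨x, hx, a, b, e, hba.symm, hea.symm, heb.symm, ha, hb, he⟩
  push Not at h3
  have hsum : x = π a x + π b x := by
    conv_lhs => rw [← hπ.sum x]
    rw [Finset.sum_eq_add a b hba.symm (fun r _ hr => h3 r hr.1 hr.2) (by simp) (by simp)]
  have hA := hπ.mem a x
  obtain ⟨u, f, hp⟩ := exists_hpair hh a
  have hQA : polar Q f x * polar Q u x ≠ 0 := by rw [← hp.value_comp hD hπ]; exact hns a ha
  obtain ⟨r₀, hr₀⟩ := exists_root (-1 : F)
  obtain ⟨μ, hμ, hμ1, hμn, hμr, hμr', -⟩ := exists_avoid hh.q7 1 (-1) r₀ (-r₀) (0 : F)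
  set d := move Q μ u f x with hd
  set A' := π a x + d with hA'def
  have hdD : d ∈ D a := move_mem hp μ x
  have hA' : A' ∈ D a := (D a).add_mem hA hdD
  have hdv : Q d = -((μ - 1) ^ 2 / μ) * (polar Q f x * polar Q u x) := move_value hp hμ x
  have hQd : Q d ≠ 0 := by
    rw [hdv]
    exact mul_ne_zero (neg_ne_zero.2 (div_ne_zero (pow_ne_zero 2 (sub_ne_zero.2 hμ1)) hμ)) hQA
  have hdx : polar Q d x = -Q d := move_polar hp hμ x
  have hA'c : A' = (μ * polar Q f x) • u + (μ⁻¹ * polar Q u x) • f := by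
    rw [hA'def, hd, move, hp.comp hD hπ]; module
  have hQA' : Q A' = Q (π a x) := by
    rw [hA'c, hp.value_lin, hp.value_comp hD hπ]
    field_simp
  have hA'1 : A' ∉ Submodule.span F {π a x} := by
    intro h
    obtain ⟨k, hk⟩ := Submodule.mem_span_singleton.1 h
    rw [hA'c, hp.comp hD hπ] at hk
    have e1 := congrArg (polar Q f) hk
    have e2 := congrArg (polar Q u) hk
    simp only [polar_add_right, polar_smul_right, hp.fe, hp.ff, hp.ee, hp.ef, smul_eq_mul, mul_one,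
      mul_zero, add_zero, zero_add] at e1 e2
    have h1 : k = μ := mul_right_cancel₀ (left_ne_zero_of_mul hQA) e1
    have h2 : k = μ⁻¹ := mul_right_cancel₀ (right_ne_zero_of_mul hQA) e2
    rcases sq_eq_one_iff.1 (show μ ^ 2 = 1 by
      rw [pow_two]; nth_rewrite 2 [← h1]; rw [h2, mul_inv_cancel₀ hμ]) with h' | h'
    · exact hμ1 h'
    · exact hμn h'
  have hAA' : polar Q (π a x) A' ≠ 0 := by
    rw [hA'c, hp.comp hD hπ]
    simp only [polar_add_left, polar_add_right, polar_smul_left, polar_smul_right, hp.ee, hp.ef,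
      hp.fe, hp.ff, smul_eq_mul, mul_one, mul_zero, add_zero, zero_add]
    intro h0
    field_simp at h0
    rcases mul_eq_zero.1 (show (μ ^ 2 + 1) * (polar Q f x * polar Q u x) = 0 by
      linear_combination h0) with h' | h'
    · exact (hr₀ μ (by linear_combination h')).elim hμr hμr'
    · exact hQA h'
  obtain ⟨r, hra, hrb, -⟩ := exists_index ht a b b
  obtain ⟨z, hz, hQz⟩ := exists_value hh r (Q d)
  obtain ⟨_, hQz', hh1⟩ := pair_plus hnd hh hH hdD hz hQd
    ⟨by rw [hQz]; exact hQd, by rw [hQz]; exact ⟨_, rfl⟩⟩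
  set h1 := refl Q d hQd * refl Q z hQz'
  have hzx : polar Q z x = 0 := polar_block_zero hπ hz (h3 r hra hrb)
  have hh1x : h1.1 x = A' + π b x := by
    rw [orth_mul_apply, refl_fix z hQz' hzx, refl_apply, hdx, mul_neg, inv_mul_cancel₀ hQd,
      neg_one_smul, sub_neg_eq_add]
    conv_lhs => rw [hsum]
    rw [hA'def]; abel
  obtain ⟨v, hv, hQv⟩ := exists_value hh b (Q x)
  obtain ⟨m, hm, hmu, hmi, hmo⟩ := exists_carry_plus hnd hh hπ hH (i := b) (r := r) hrb
    (u := A') (hπ.other hD hba hA') (hπ.other hD hra hA')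
  have hx1 : Rep M D (h1.1 x) := rep_map_plus hnd hh hH hx hh1 hv hQv (j' := b) (by
    rw [orth_mul_apply]
    exact refl_mem_block hD hdD hQd _ (refl_mem_block hD hz hQz' v hv))
  have hx2 : Rep M D (m.1 (h1.1 x)) := rep_map_plus hnd hh hH hx1 hm hv
    (by rw [map_orth]; exact hQv) (j' := r) (hmi v hv)
  set y := m.1 (h1.1 x) with hy
  have hyval : y = A' + m.1 (π b x) := by rw [hy, hh1x, map_add, hmu]
  have hmB := hmi _ (hπ.mem b x)
  have hQy : Q y = Q x := by rw [hy, map_orth, map_orth]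
  refine ⟨(refl Q x hx.1).1 y, rep_refl hx hx2 hQy, a, b, r, hba.symm, Ne.symm hra,
    Ne.symm hrb, ?_⟩
  set β := (Q x)⁻¹ * polar Q x y with hβ
  have hβ0 : β ≠ 0 := by
    refine mul_ne_zero (inv_ne_zero hx.1) ?_
    rw [hyval, polar_add_right, polar_comm Q x A', hπ.polar_eq a A' hA' x, polar_comm Q x,
      polar_block_zero hπ hmB (h3 r hra hrb), add_zero, polar_comm]
    exact hAA'
  have hcomp : ∀ s, π s ((refl Q x hx.1).1 y) = π s A' + π s (m.1 (π b x)) - β • π s x := fun s => by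
    rw [refl_apply, ← hβ, map_sub, map_smul, hyval, map_add]
  refine ⟨?_, ?_, ?_⟩
  · rw [hcomp, hπ.self hD hA', hπ.other hD (Ne.symm hra) hmB, add_zero]
    exact fun h => hA'1 (Submodule.mem_span_singleton.2 ⟨β, (sub_eq_zero.1 h).symm⟩)
  · rw [hcomp, hπ.other hD hba hA', hπ.other hD (Ne.symm hrb) hmB, zero_add, zero_sub, neg_ne_zero]
    exact smul_ne_zero hβ0 hb
  · rw [hcomp, hπ.other hD hra hA', hπ.self hD hmB, h3 r hra hrb, smul_zero, sub_zero, zero_add]
    exact fun h => hb (m.1.map_eq_zero_iff.1 h)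

/-- Opposite increments for two non-zero values. -/
theorem exists_balance (h7 : 7 ≤ Fintype.card F) {A B : F} (hA : A ≠ 0) (hB : B ≠ 0) :
    ∃ μ ν : F, μ ≠ 0 ∧ μ ≠ 1 ∧ ν ≠ 0 ∧
      (μ - 1) ^ 2 / μ * A + (ν - 1) ^ 2 / ν * B = 0 := by
  obtain ⟨r, hr⟩ := exists_root (-A / B)
  obtain ⟨k, hk0, hk1, hkA, hkr, hkr', -⟩ := exists_avoid h7 1 (-A / B) r (-r) (0 : F)
  have hAB : A + B * k ≠ 0 := fun h => hkA (by rw [eq_div_iff hB]; linear_combination h)
  have hk2 : A + B * k ^ 2 ≠ 0 := fun h => (hr k (by rw [eq_div_iff hB]; linear_combination h)).elim hkr hkr'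
  have hk1' : k - 1 ≠ 0 := sub_ne_zero.2 hk1
  set μ := A * (k - 1) / (k * (A + B * k)) with hμ
  set ν := B * k * (1 - k) / (A + B * k) with hν
  have hμ0 : μ ≠ 0 := div_ne_zero (mul_ne_zero hA hk1') (mul_ne_zero hk0 hAB)
  have hν0 : ν ≠ 0 := div_ne_zero (mul_ne_zero (mul_ne_zero hB hk0)
    (sub_ne_zero.2 (Ne.symm hk1))) hAB
  have e1 : μ * (k * (A + B * k)) = A * (k - 1) := div_mul_cancel₀ _ (mul_ne_zero hk0 hAB)
  have e2 : ν * (A + B * k) = B * k * (1 - k) := div_mul_cancel₀ _ hAB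
  have e3 : ν - 1 = k * (μ - 1) :=
    mul_right_cancel₀ hAB (by linear_combination e2 - e1)
  refine ⟨μ, ν, hμ0, fun h => hk2 ?_, hν0, ?_⟩
  · rw [h] at e1
    linear_combination e1
  · rw [e3]
    field_simp
    have key : A * ν + k ^ 2 * B * μ = 0 := mul_right_cancel₀ (mul_ne_zero hk0 hAB) (by
      linear_combination (k * A) * e2 + (k ^ 2 * B) * e1)
    linear_combination (μ - 1) ^ 2 * key

/-- Opposite increments in two members. -/
theorem exists_pick (hh : Plus Q D) (hπ : Comp Q D π) {x : V} {i j : Fin t}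
    (hi : Q (π i x) ≠ 0) (hj : Q (π j x) ≠ 0) :
    ∃ (N : F) (di dj : V), N ≠ 0 ∧ di ∈ D i ∧ dj ∈ D j ∧ Q di = N ∧ Q dj = -N ∧
      polar Q di x = -N ∧ polar Q dj x = N := by
  have hD := hh.dec
  obtain ⟨e, f, hp⟩ := exists_hpair hh i
  obtain ⟨e', f', hp'⟩ := exists_hpair hh j
  rw [hp.value_comp hD hπ] at hi
  rw [hp'.value_comp hD hπ] at hj
  obtain ⟨μ, ν, hμ, hμ1, hν, hbal⟩ := exists_balance hh.q7 hi hj
  have e1 := move_value (Q := Q) hp hμ x
  have e2 : Q (move Q ν e' f' x) = -Q (move Q μ e f x) := by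
    rw [move_value hp' hν, e1]
    linear_combination -hbal
  refine ⟨_, move Q μ e f x, move Q ν e' f' x, ?_, move_mem hp μ x, move_mem hp' ν x, rfl, e2,
    move_polar hp hμ x, by rw [move_polar hp' hν x, e2, neg_neg]⟩
  rw [e1]
  exact mul_ne_zero (neg_ne_zero.2 (div_ne_zero (pow_ne_zero 2 (sub_ne_zero.2 hμ1)) hμ)) hi

/-- A related vector with three non-singular components. -/
theorem basic_of_three (hnd : (polarBilin Q).Nondegenerate) (hh : Plus Q D) (hπ : Comp Q D π)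
    (hH : Contains M D) {x : V} (hx : Rep M D x) (hns : ∀ r, π r x ≠ 0 → Q (π r x) ≠ 0)
    {a b e : Fin t} (hab : a ≠ b) (hae : a ≠ e) (hbe : b ≠ e) (ha : π a x ≠ 0) (hb : π b x ≠ 0)
    (he : π e x ≠ 0) : Basic M D := by
  classical
  have hD := hh.dec
  have ht := hh.seven
  have hwne : ∀ r, π r x ≠ 0 → π r ((Q x)⁻¹ • x) ≠ 0 := fun r hr => by
    rw [map_smul]; exact smul_ne_zero (inv_ne_zero hx.1) hr
  by_cases hzero : ∃ r₀, π r₀ x = 0
  · obtain ⟨r₀, hr₀⟩ := hzero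
    obtain ⟨N, da, db, hN, hda, hdb, hQa, hQb, hpa, hpb⟩ := exists_pick hh hπ (hns a ha) (hns b hb)
    obtain ⟨z, hz, hQz⟩ := exists_value hh r₀ N
    obtain ⟨z', hz', hQz'⟩ := exists_value hh r₀ (-N)
    have na : Q da ≠ 0 := by rw [hQa]; exact hN
    have nb : Q db ≠ 0 := by rw [hQb]; exact neg_ne_zero.2 hN
    obtain ⟨_, nz, hm1⟩ := pair_plus hnd hh hH hda hz na
      ⟨by rw [hQz]; exact hN, by rw [hQa, hQz]; exact ⟨_, rfl⟩⟩
    obtain ⟨_, nz', hm2⟩ := pair_plus hnd hh hH hdb hz' nb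
      ⟨by rw [hQz']; exact neg_ne_zero.2 hN, by rw [hQb, hQz']; exact ⟨_, rfl⟩⟩
    have hab' : polar Q da db = 0 := hD.orth a b hab da hda db hdb
    have hr₀a : r₀ ≠ a := fun h => ha (h ▸ hr₀)
    have hr₀b : r₀ ≠ b := fun h => hb (h ▸ hr₀)
    have hr₀e : r₀ ≠ e := fun h => he (h ▸ hr₀)
    have hsm := translate hnd hh hH hx (d := da + db) (M.mul_mem hm1 hm2) (fun i u hu => by
        simp only [orth_mul_apply]
        exact refl_mem_block hD hda na _ (refl_mem_block hD hz nz _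
          (refl_mem_block hD hdb nb _ (refl_mem_block hD hz' nz' u hu))))
      (by
        simp only [orth_mul_apply]
        rw [refl_fix z' nz' (polar_block_zero hπ hz' hr₀), refl_apply Q db, hpb, hQb, inv_neg, neg_mul,
          inv_mul_cancel₀ hN, neg_one_smul, sub_neg_eq_add, refl_fix z nz (by
            rw [polar_add_right, polar_block_zero hπ hz hr₀, hD.orth r₀ b hr₀b z hz db hdb, add_zero]),
          refl_apply, polar_add_right, hpa, hab', hQa, add_zero, mul_neg, inv_mul_cancel₀ hN,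
          neg_one_smul, sub_neg_eq_add]
        abel)
      (by rw [QuadraticMap.map_add (⇑Q), hQa, hQb, hab']; ring)
      (by rw [polar_add_left, hpa, hpb]; ring)
    refine basic_of_outside hnd hh hπ hH (r := e) (j := r₀) (fun h => na ?_) hr₀e
      (by rw [map_add, hπ.other hD hae.symm hda, hπ.other hD hbe.symm hdb, add_zero])
      (by rw [map_add, hπ.other hD hr₀a hda, hπ.other hD hr₀b hdb, add_zero]) (hwne e he) hsm
    have := congrArg (π a) h
    rw [map_add, hπ.self hD hda, hπ.other hD hab hdb, add_zero, map_zero] at this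
    rw [this, QuadraticMap.map_zero]
  · push Not at hzero
    have hne : ∀ {i j : ℕ} (hi : i < t) (hj : j < t), i ≠ j → (⟨i, hi⟩ : Fin t) ≠ ⟨j, hj⟩ :=
      fun _ _ h h' => h (Fin.mk.inj h')
    have pick := fun i j => exists_pick hh hπ (i := i) (j := j) (hns i (hzero i)) (hns j (hzero j))
    obtain ⟨N, d₁, d₂, hN, hd₁, hd₂, hQ₁, hQ₂, hp₁, hp₂⟩ := pick ⟨0, by omega⟩ ⟨1, by omega⟩
    obtain ⟨N', d₃, d₄, hN', hd₃, hd₄, hQ₃, hQ₄, hp₃, hp₄⟩ := pick ⟨2, by omega⟩ ⟨3, by omega⟩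
    have n1 : Q d₁ ≠ 0 := by rw [hQ₁]; exact hN
    have n2 : Q d₂ ≠ 0 := by rw [hQ₂]; exact neg_ne_zero.2 hN
    have n3 : Q d₃ ≠ 0 := by rw [hQ₃]; exact hN'
    have n4 : Q d₄ ≠ 0 := by rw [hQ₄]; exact neg_ne_zero.2 hN'
    have hnsl : NS Q [d₁, d₂, d₃, d₄] := by simp [NS, n1, n2, n3, n4]
    have o12 := hD.orth _ _ (hne _ _ (show 0 ≠ 1 by omega)) d₁ hd₁ d₂ hd₂
    have o13 := hD.orth _ _ (hne _ _ (show 0 ≠ 2 by omega)) d₁ hd₁ d₃ hd₃
    have o14 := hD.orth _ _ (hne _ _ (show 0 ≠ 3 by omega)) d₁ hd₁ d₄ hd₄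
    have o23 := hD.orth _ _ (hne _ _ (show 1 ≠ 2 by omega)) d₂ hd₂ d₃ hd₃
    have o24 := hD.orth _ _ (hne _ _ (show 1 ≠ 3 by omega)) d₂ hd₂ d₄ hd₄
    have o34 := hD.orth _ _ (hne _ _ (show 2 ≠ 3 by omega)) d₃ hd₃ d₄ hd₄
    have hblocks : ∀ i, ∀ z ∈ D i, (rprod Q [d₁, d₂, d₃, d₄]).1 z ∈ D i := by
      intro i z hz
      rw [rprod_cons n1, rprod_cons n2, rprod_cons n3, rprod_singleton n4]
      simp only [orth_mul_apply]
      exact refl_mem_block hD hd₁ n1 _ (refl_mem_block hD hd₂ n2 _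
        (refl_mem_block hD hd₃ n3 _ (refl_mem_block hD hd₄ n4 z hz)))
    have hcomm : rprod Q [d₁, d₂, d₃, d₄] ∈ commutator (orth Q) :=
      (rprod_mem_iff hnd (Or.inr (by have := hh.dim_big; omega)) hnsl).2
        ⟨⟨2, rfl⟩, N * N', by simp [hQ₁, hQ₂, hQ₃, hQ₄]; ring⟩
    have hsm := translate hnd hh hH hx (d := d₁ + d₂ + d₃ + d₄) (hH _ hcomm fun i => ⟨i, hblocks i⟩)
      hblocks
      (by
        rw [rprod_cons n1, rprod_cons n2, rprod_cons n3, rprod_singleton n4]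
        simp only [orth_mul_apply]
        have e4 : (refl Q d₄ n4).1 x = x + d₄ := by
          rw [refl_apply, hp₄, hQ₄, inv_neg, neg_mul, inv_mul_cancel₀ hN', neg_one_smul, sub_neg_eq_add]
        have e3 : (refl Q d₃ n3).1 (x + d₄) = x + d₄ + d₃ := by
          rw [refl_apply, polar_add_right, hp₃, o34, hQ₃, add_zero, mul_neg, inv_mul_cancel₀ hN',
            neg_one_smul, sub_neg_eq_add]
        have e2 : (refl Q d₂ n2).1 (x + d₄ + d₃) = x + d₄ + d₃ + d₂ := by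
          rw [refl_apply, polar_add_right, polar_add_right, hp₂, o24, o23, hQ₂, add_zero, add_zero,
            inv_neg, neg_mul, inv_mul_cancel₀ hN, neg_one_smul, sub_neg_eq_add]
        rw [e4, e3, e2, refl_apply, polar_add_right, polar_add_right, polar_add_right, hp₁, o14, o13,
          o12, hQ₁, add_zero, add_zero, add_zero, mul_neg, inv_mul_cancel₀ hN, neg_one_smul,
          sub_neg_eq_add]
        abel)
      (by
        simp only [QuadraticMap.map_add (⇑Q), polar_add_left, hQ₁, hQ₂, hQ₃, hQ₄, o12, o13, o14, o23,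
          o24, o34]
        ring)
      (by rw [polar_add_left, polar_add_left, polar_add_left, hp₁, hp₂, hp₃, hp₄]; ring)
    refine basic_of_outside hnd hh hπ hH (r := ⟨4, by omega⟩) (j := ⟨5, by omega⟩) (fun h => n1 ?_)
      (hne _ _ (by omega)) ?_ ?_ (hwne _ (hzero _)) hsm
    · have := congrArg (π ⟨0, by omega⟩) h
      rw [map_add, map_add, map_add, hπ.self hD hd₁, hπ.other hD (hne _ _ (by omega)) hd₂,
        hπ.other hD (hne _ _ (by omega)) hd₃, hπ.other hD (hne _ _ (by omega)) hd₄, add_zero,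
        add_zero, add_zero, map_zero] at this
      rw [this, QuadraticMap.map_zero]
    all_goals
      rw [map_add, map_add, map_add, hπ.other hD (hne _ _ (by omega)) hd₁,
        hπ.other hD (hne _ _ (by omega)) hd₂, hπ.other hD (hne _ _ (by omega)) hd₃,
        hπ.other hD (hne _ _ (by omega)) hd₄, add_zero, add_zero, add_zero]

/-- A related mixed vector gives a Siegel element at a block vector. -/
theorem basic_of_rep (hnd : (polarBilin Q).Nondegenerate) (hh : Plus Q D) (hπ : Comp Q D π)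
    (hH : Contains M D) {x : V} (hx : Rep M D x) (hmix : ∀ i, x ∉ D i) : Basic M D := by
  by_cases hs : ∃ r, π r x ≠ 0 ∧ Q (π r x) = 0
  · obtain ⟨r, hr, hQr⟩ := hs
    exact basic_of_singular_comp hnd hh hπ hH hx hmix hr hQr
  push Not at hs
  obtain ⟨y, hy, a, b, e, hab, hae, hbe, ha, hb, he⟩ := exists_three_plus hnd hh hπ hH hx hmix hs
  by_cases hs' : ∃ r, π r y ≠ 0 ∧ Q (π r y) = 0
  · obtain ⟨r, hr, hQr⟩ := hs'
    exact basic_of_singular_comp hnd hh hπ hH hy (not_mem_of_two hh.dec hπ hab ha hb) hr hQr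
  push Not at hs'
  exact basic_of_three hnd hh hπ hH hy hs' hab hae hbe ha hb he

end Cfsg.Agent.OmegaPlusDecompRep73
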