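import Mathlib
import Cfsg.Agent.Lib.OmegaPlusDecompRep73

/-!
Orthogonal decompositions into hyperbolic planes: an overgroup of the stabiliser relates a mixed
vector to block vectors; stabilisers are maximal.
-/

set_option autoImplicit false

namespace Cfsg.Agent.OmegaPlusDecompGrow73

open QuadraticMap Module
open Cfsg.Agent.OrthUnitaryQuad Cfsg.Agent.OrthUnitaryPrelude Cfsg.Agent.OrthUnitaryRefl
  Cfsg.Agent.OrthUnitaryOmega Cfsg.Agent.OmegaClasses Cfsg.Agent.OmegaGeo
  Cfsg.Agent.OrthUnitarySimple Cfsg.Agent.OmegaStabSingular Cfsg.Agent.OmegaStabTools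
  Cfsg.Agent.OmegaDecomp Cfsg.Agent.OmegaDecompClass Cfsg.Agent.OmegaDecompGain
  Cfsg.Agent.OmegaDecompFull Cfsg.Agent.OmegaPlusDecompBasic73
  Cfsg.Agent.OmegaPlusDecompReduce73 Cfsg.Agent.OmegaPlusDecompRep73
open Cfsg.Agent.OmegaDecompTwoGrow (pair_support mem_sup_of_comp finrank_sup_two
  isSquare_mul_of_iff)
open Cfsg.Agent.QuadClassify (Nondeg Aniso exists_partner)

variable {F V : Type*} [Field F] [Fintype F] [AddCommGroup V] [Module F V] [FiniteDimensional F V]
  {Q : QuadraticForm F V} {t : ℕ} {D : Fin t → Submodule F V} {π : Fin t → V →ₗ[F] V}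
  {M : Subgroup (orth Q)}

/-- A vector of given value whose image lies off the members. -/
theorem exists_mixed_plus (hh : Plus Q D) (hπ : Comp Q D π) (m : orth Q) {l : Fin t}
    (hl : ¬ ∃ j, ∀ z ∈ D l, m.1 z ∈ D j) {c : F} (hc : c ≠ 0) :
    ∃ w ∈ D l, Q w = c ∧ ∀ i, m.1 w ∉ D i := by
  have hD := hh.dec
  obtain ⟨e, f, hp⟩ := exists_hpair hh l
  by_contra hcon
  push Not at hcon
  have hmem : ∀ a : F, a ≠ 0 → ∃ i, m.1 (a • e + (c / a) • f) ∈ D i := fun a ha =>
    hcon _ (hp.mem_lin _ _) (by rw [hp.value_lin, mul_div_cancel₀ _ ha])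
  have hdiff : ∀ a b : F, a ≠ 0 → b ≠ 0 → a ^ 2 ≠ b ^ 2 → ∀ i,
      m.1 (a • e + (c / a) • f) ∈ D i → m.1 (b • e + (c / b) • f) ∉ D i := by
    intro a b ha hb hab i h1 h2
    exact hl ⟨i, fun z hz => hp.le_of_two hD (S := (D i).comap (m.1 : V →ₗ[F] V)) hc ha hb hab
      h1 h2 hz⟩
  obtain ⟨a₂, ha₂, h21, h21', -⟩ := exists_avoid hh.q7 1 (-1) 0 0 (0 : F)
  obtain ⟨a₃, ha₃, h31, h31', h32, h32', -⟩ := exists_avoid hh.q7 1 (-1) a₂ (-a₂) (0 : F)
  have n21 : (1 : F) ^ 2 ≠ a₂ ^ 2 := fun h => by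
    rcases sq_eq_sq_iff_eq_or_eq_neg.1 h.symm with h' | h'
    · exact h21 h'
    · exact h21' h'
  have n31 : (1 : F) ^ 2 ≠ a₃ ^ 2 := fun h => by
    rcases sq_eq_sq_iff_eq_or_eq_neg.1 h.symm with h' | h'
    · exact h31 h'
    · exact h31' h'
  have n32 : a₂ ^ 2 ≠ a₃ ^ 2 := fun h => by
    rcases sq_eq_sq_iff_eq_or_eq_neg.1 h.symm with h' | h'
    · exact h32 h'
    · exact h32' h'
  obtain ⟨i₁, hi₁⟩ := hmem 1 one_ne_zero
  obtain ⟨i₂, hi₂⟩ := hmem a₂ ha₂
  obtain ⟨i₃, hi₃⟩ := hmem a₃ ha₃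
  have h3₁ : i₃ ≠ i₁ := fun h => hdiff 1 a₃ one_ne_zero ha₃ n31 i₃ (by rw [h]; exact hi₁) hi₃
  have h3₂ : i₃ ≠ i₂ := fun h => hdiff a₂ a₃ ha₂ ha₃ n32 i₃ (by rw [h]; exact hi₂) hi₃
  have hker := hp.le_of_two hD (S := LinearMap.ker ((π i₃).comp (m.1 : V →ₗ[F] V))) hc one_ne_zero
    ha₂ n21 (by simpa using hπ.other hD h3₁ hi₁) (by simpa using hπ.other hD h3₂ hi₂)
    (hp.mem_lin a₃ (c / a₃))
  rw [LinearMap.mem_ker, LinearMap.comp_apply, LinearEquiv.coe_coe, hπ.self hD hi₃,
    LinearEquiv.map_eq_zero_iff] at hker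
  exact hp.lin_ne_zero (Or.inl ha₃) hker

/-- A member on which the image of exactly one vector of a hyperbolic pair vanishes. -/
theorem basic_of_kill (hnd : (polarBilin Q).Nondegenerate) (hh : Plus Q D) (hπ : Comp Q D π)
    (hH : Contains M D)
    (mono : ∀ m ∈ M, ∀ r, ∀ z ∈ D r, Q z ≠ 0 → m.1 z = z →
      ∀ i, ∃ j, ∀ z ∈ D i, m.1 z ∈ D j)
    {g : orth Q} (hg : g ∈ M) {s r : Fin t} {e f : V} (hp : HPair Q D s e f)
    (he : π r (g.1 e) = 0) (hf : π r (g.1 f) ≠ 0) : Basic M D := by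
  have hD := hh.dec
  obtain ⟨c, hc, hc1, hsq⟩ := exists_square hh.q7
  have hsq' : IsSquare c⁻¹ := hsq.inv
  obtain ⟨R, hR, hRx, -, -⟩ := exists_rot hnd hh hH hp hc hsq
  obtain ⟨R', hR', hR'x, -, -⟩ := exists_rot hnd hh hH hp (inv_ne_zero hc) hsq'
  obtain ⟨er, fr, hpr⟩ := exists_hpair hh r
  obtain ⟨h', hh', hh'x, -, hfix⟩ := exists_rot hnd hh hH hpr hc hsq
  set p := g.1 e with hpdef
  set q := g.1 f with hqdef
  set d := move Q c er fr q with hd
  have hdD : d ∈ D r := move_mem hpr c q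
  have hd0 : d ≠ 0 := move_ne_zero hpr hc1 (coord_ne_zero hpr hD hπ hf)
  have hpz : ∀ z ∈ D r, polar Q z p = 0 := fun z hz => polar_block_zero hπ hz he
  have hh'p : h'.1 p = p := hfix p (hpz _ hpr.he) (hpz _ hpr.hf)
  have hh'q : h'.1 q = q + d := hh'x q
  have hQp : Q p = 0 := by rw [hpdef, map_orth, hp.Qe]
  have hQq : Q q = 0 := by rw [hqdef, map_orth, hp.Qf]
  have hpq : polar Q p q = 1 := by rw [hpdef, hqdef, polar_orth g, hp.ef]
  have hp0 : p ≠ 0 := fun h => hp.ne_zero (g.1.map_eq_zero_iff.1 h)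
  have hpd : polar Q p d = 0 := (polar_comm _ p d).trans (hpz d hdD)
  have hdq : polar Q d q = -Q d := move_polar hpr hc q
  have hconj : ∀ (G : orth Q) (a : F) (S : orth Q), (∀ x, S.1 x = x + move Q a e f x) →
      ∀ x, (G * S * G⁻¹).1 x = x + ((a - 1) * polar Q (G.1 f) x) • G.1 e
        + ((a⁻¹ - 1) * polar Q (G.1 e) x) • G.1 f := by
    intro G a S hS x
    obtain ⟨y, rfl⟩ := G.1.surjective x
    rw [orth_mul_apply, orth_mul_apply, show (G⁻¹).1 (G.1 y) = y by
      rw [← orth_mul_apply, inv_mul_cancel]; rfl, hS, move, map_add, map_add, map_smul, map_smul,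
      polar_orth G, polar_orth G]
    abel
  set k := (h' * g) * R * (h' * g)⁻¹ * (g * R' * g⁻¹) with hk
  have hkM : k ∈ M := M.mul_mem (M.mul_mem (M.mul_mem (M.mul_mem hh' hg) hR)
    (M.inv_mem (M.mul_mem hh' hg))) (M.mul_mem (M.mul_mem hg hR') (M.inv_mem hg))
  set w := (1 - c) • d with hw
  have hwD : w ∈ D r := (D r).smul_mem _ hdD
  have hw0 : w ≠ 0 := smul_ne_zero (sub_ne_zero.2 (Ne.symm hc1)) hd0
  have hpw : polar Q p w = 0 := by rw [hw, polar_smul_right, hpd, smul_zero]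
  have hkS : k = siegel Q p w hQp hpw := orth_ext fun x => by
    rw [hk, orth_mul_apply, hconj (h' * g) c R hRx, hconj g c⁻¹ R' hR'x, inv_inv, siegel_apply]
    simp only [orth_mul_apply, ← hpdef, ← hqdef, hh'p, hh'q, hw, polar_add_right, polar_add_left,
      polar_smul_right, polar_smul_left, QuadraticMap.map_smul, smul_eq_mul]
    simp only [polar_self_mul, hQp, hQq, hpq, polar_comm Q q p, hdq,
      (polar_comm _ d p).trans hpd]
    match_scalars <;> field_simp <;> ring
  have hs : SMem M p w := ⟨hQp, hpw, hkS ▸ hkM⟩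
  by_cases hQw : Q w = 0
  · exact sing_reduce hnd hh hπ hH hs hwD hw0 hQw he hp0
  exfalso
  clear_value w
  -- a fixed non-singular vector of the member
  set z := polar Q fr w • er + (-polar Q er w) • fr with hz
  have hzD : z ∈ D r := hpr.mem_lin _ _
  have hQz : Q z ≠ 0 := by
    rw [hz, hpr.value_lin]
    intro h0
    exact hQw (by rw [hpr.value hD hwD]; linear_combination -h0)
  have hwz : polar Q w z = 0 := by
    rw [hz, polar_add_right, polar_smul_right, polar_smul_right, polar_comm Q w er,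
      polar_comm Q w fr, smul_eq_mul, smul_eq_mul]
    ring
  have hkz : k.1 z = z := by
    rw [hkS, siegel_apply, (polar_comm _ p z).trans (hpz z hzD), hwz]; simp
  obtain ⟨y, hy, hwy⟩ : ∃ y ∈ D r, polar Q w y ≠ 0 := by
    by_contra h
    push Not at h
    exact hw0 (hD.nd r w hwD h)
  have hky : k.1 y = y - polar Q w y • p := by
    rw [hkS, siegel_apply, (polar_comm _ p y).trans (hpz y hy)]; simp
  obtain ⟨j, hj⟩ := mono k hkM r z hzD hQz hkz r
  have h1 := hj y hy
  rw [hky] at h1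
  obtain ⟨i, hi⟩ := hπ.exists_ne hp0
  have hir : i ≠ r := fun h => hi (by rw [h]; exact he)
  have hy0 : y ≠ 0 := fun h => hwy (by rw [h, polar_zero_right])
  have e1 : π r (y - polar Q w y • p) ≠ 0 := by
    rw [map_sub, map_smul, hπ.self hD hy, he, smul_zero, sub_zero]; exact hy0
  have e2 : π i (y - polar Q w y • p) ≠ 0 := by
    rw [map_sub, map_smul, hπ.other hD hir hy, zero_sub, neg_ne_zero]
    exact smul_ne_zero hwy hi
  exact hir ((hπ.eq_of_mem hD h1 e2).trans (hπ.eq_of_mem hD h1 e1).symm)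

/-- Every member carries a non-singular vector orthogonal to a given one without singular
component there. -/
theorem exists_perp (hh : Plus Q D) (hπ : Comp Q D π) {x : V} {s : Fin t}
    (hx : π s x = 0 ∨ Q (π s x) ≠ 0) : ∃ v ∈ D s, Q v ≠ 0 ∧ polar Q v x = 0 := by
  have hD := hh.dec
  obtain ⟨e, f, hp⟩ := exists_hpair hh s
  rcases hx with hx | hx
  · exact ⟨(1 : F) • e + (1 : F) • f, hp.mem_lin _ _, by rw [hp.value_lin]; simp,
      polar_block_zero hπ (hp.mem_lin _ _) hx⟩
  · rw [hp.value_comp hD hπ] at hx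
    refine ⟨polar Q f x • e + (-polar Q e x) • f, hp.mem_lin _ _, by
      rw [hp.value_lin, mul_neg, neg_ne_zero]; exact hx, ?_⟩
    rw [polar_add_left, polar_smul_left, polar_smul_left, smul_eq_mul, smul_eq_mul]
    ring

/-- An overgroup relates a mixed vector to block vectors or has a Siegel element at a block
vector. -/
theorem grow (hnd : (polarBilin Q).Nondegenerate) (hh : Plus Q D) (hπ : Comp Q D π)
    (hH : Contains M D) {g : orth Q} (hg : g ∈ M) (hgD : ¬ ∀ i, ∃ j, ∀ z ∈ D i, g.1 z ∈ D j) :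
    Basic M D ∨ ∃ x, Rep M D x ∧ ∀ i, x ∉ D i := by
  classical
  have hD := hh.dec
  have ht := hh.seven
  obtain ⟨l₀, hl₀⟩ : ∃ l, ¬ ∃ j, ∀ z ∈ D l, g.1 z ∈ D j := not_forall.1 hgD
  refine or_iff_not_imp_right.2 fun hcon => ?_
  push Not at hcon
  have mixed : ∀ s, ∀ v ∈ D s, Q v ≠ 0 → ∀ i, g.1 v ∉ D i := by
    intro s v hv hQv i hi
    obtain ⟨w, hw, hQw, hmix⟩ := exists_mixed_plus hh hπ g hl₀ hQv
    have hp := (pair_plus hnd hh hH hw hv (by rw [hQw]; exact hQv)
      ⟨hQv, by rw [hQw]; exact ⟨_, rfl⟩⟩).map hg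
    obtain ⟨i', hi'⟩ := hcon _ (rep_of_pair_plus hnd hh hH hi hp
      ⟨by rw [map_orth g, hQw]; exact hQv, by rw [map_orth g, map_orth g, hQw]; exact ⟨_, rfl⟩⟩)
    exact hmix i' hi'
  have mono : ∀ m ∈ M, ∀ r, ∀ z ∈ D r, Q z ≠ 0 → m.1 z = z →
      ∀ i, ∃ j, ∀ z ∈ D i, m.1 z ∈ D j := by
    intro m hm r z hz hQz hmz i
    by_contra hi
    obtain ⟨w, hw, hQw, hmix⟩ := exists_mixed_plus hh hπ m hi hQz
    have hp := (pair_plus hnd hh hH hw hz (by rw [hQw]; exact hQz)
      ⟨hQz, by rw [hQw]; exact ⟨_, rfl⟩⟩).map hm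
    rw [hmz] at hp
    obtain ⟨i', hi'⟩ := hcon _ (rep_of_pair_plus hnd hh hH hz hp
      ⟨by rw [map_orth m, hQw]; exact hQz, by rw [map_orth m, hQw]; exact ⟨_, rfl⟩⟩)
    exact hmix i' hi'
  by_cases hkill : ∃ (s r : Fin t) (e f : V), HPair Q D s e f ∧ π r (g.1 e) = 0 ∧ π r (g.1 f) ≠ 0
  · obtain ⟨s, r, e, f, hp, he, hf⟩ := hkill
    exact basic_of_kill hnd hh hπ hH mono hg hp he hf
  push Not at hkill
  exfalso
  -- the image of a class vector fixes the pair of members of its partners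
  have support : ∀ (r : Fin t) (z : V), z ∈ D r → Q z ≠ 0 → ∀ (s s' : Fin t) (v w : V), s ≠ s' →
      v ∈ D s → w ∈ D s' → Q v ≠ 0 → SameClass (Q v) (Q w) → polar Q (g.1 v) z = 0 →
      polar Q (g.1 w) z = 0 →
      ∃ a b, a ≠ b ∧ π a (g.1 v) ≠ 0 ∧ π b (g.1 v) ≠ 0 ∧
        ∀ q, (q = a ∨ q = b) ↔ π q (g.1 w) ≠ 0 ∨ π q (g.1 v) ≠ 0 := by
    intro r z hz hQz s s' v w hss hv hw hQv hvw hvz hwz
    obtain ⟨h1, h2, hm⟩ := (pair_plus hnd hh hH hv hw hQv hvw).map hg
    have hfix : (refl Q (g.1 v) h1 * refl Q (g.1 w) h2).1 z = z := by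
      rw [orth_mul_apply, refl_fix _ h2 hwz, refl_fix _ h1 hvz]
    have hind : ∀ p q : F, p • g.1 v + q • g.1 w = 0 → p = 0 ∧ q = 0 := by
      intro p q hpq
      rw [← map_smul, ← map_smul, ← map_add, LinearEquiv.map_eq_zero_iff] at hpq
      have e1 := congrArg (π s) hpq
      have e2 := congrArg (π s') hpq
      simp only [map_add, map_smul, hπ.self hD hv, hπ.self hD hw, hπ.other hD hss hw,
        hπ.other hD hss.symm hv, smul_zero, add_zero, zero_add, map_zero] at e1 e2
      exact ⟨(smul_eq_zero.1 e1).resolve_right fun h => hQv (by rw [h, QuadraticMap.map_zero]),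
        (smul_eq_zero.1 e2).resolve_right fun h => hvw.1 (by rw [h, QuadraticMap.map_zero])⟩
    obtain ⟨a, b, hab⟩ := pair_support hD hπ h1 h2
      (by rw [polar_orth g, hD.orth s s' hss v hv w hw]) hind (mono _ hm r z hz hQz hfix)
    have two : ∀ u, (∀ i, u ∉ D i) → (∀ q, q ≠ a → q ≠ b → π q u = 0) →
        a ≠ b ∧ π a u ≠ 0 ∧ π b u ≠ 0 := by
      intro u hu hq
      obtain ⟨i, hia, hi⟩ := exists_other hπ hu a
      obtain ⟨j, hjb, hj⟩ := exists_other hπ hu b
      have hib : i = b := by_contra fun h => hi (hq i hia h)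
      have hja : j = a := by_contra fun h => hj (hq j h hjb)
      subst hib hja
      exact ⟨hia.symm, hj, hi⟩
    obtain ⟨hne, hva, hvb⟩ := two _ (mixed s v hv hQv) fun q h h' => (hab q h h').1
    refine ⟨a, b, hne, hva, hvb, fun q => ⟨?_, fun hq => ?_⟩⟩
    · rintro (rfl | rfl)
      · exact Or.inr hva
      · exact Or.inr hvb
    · by_contra hq'
      push Not at hq'
      obtain ⟨e1, e2⟩ := hab q hq'.1 hq'.2
      exact hq.elim (fun h => h e2) (fun h => h e1)
  -- all images of a member's class vectors share two members with a partner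
  have share : ∀ (r : Fin t) (z : V), z ∈ D r → Q z ≠ 0 → ∀ (s₀ s : Fin t) (v w : V), s₀ ≠ s →
      v ∈ D s₀ → w ∈ D s → Q v ≠ 0 → SameClass (Q v) (Q w) → polar Q (g.1 v) z = 0 →
      polar Q (g.1 w) z = 0 → ∀ a b : Fin t, (∀ q, π q (g.1 v) ≠ 0 → q = a ∨ q = b) →
      ∀ q, q ≠ a → q ≠ b → π q (g.1 w) = 0 := by
    intro r z hz hQz s₀ s v w hss hv hw hQv hvw hvz hwz a b hv2 q hqa hqb
    by_contra hne
    obtain ⟨a', b', hab', hva', hvb', hiff'⟩ := support r z hz hQz s₀ s v w hss hv hw hQv hvw hvz hwz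
    rcases (hiff' q).2 (Or.inl hne) with rfl | rfl
    · exact (hv2 _ hva').elim hqa hqb
    · exact (hv2 _ hvb').elim hqa hqb
  -- three members orthogonal to a block vector are impossible
  have three : ∀ r, ∀ z ∈ D r, Q z ≠ 0 → ∀ s₁ s₂ s₃, s₁ ≠ s₂ → s₁ ≠ s₃ → s₂ ≠ s₃ →
      (∀ s, (s = s₁ ∨ s = s₂ ∨ s = s₃) → ∀ v ∈ D s, polar Q (g.1 v) z = 0) → False := by
    intro r z hz hQz s₁ s₂ s₃ h12 h13 h23 horth
    have hclass : ∀ u u' : V, Q u = 1 → Q u' = 1 → SameClass (Q u) (Q u') := fun u u' h h' =>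
      ⟨by rw [h']; exact one_ne_zero, by rw [h, h']; exact ⟨1, rfl⟩⟩
    obtain ⟨v₁, hv₁, hQ₁⟩ := exists_value hh s₁ 1
    obtain ⟨v₂, hv₂, hQ₂⟩ := exists_value hh s₂ 1
    have horth₁ := horth s₁ (Or.inl rfl)
    have horth₂ := horth s₂ (Or.inr (Or.inl rfl))
    obtain ⟨a, b, hab, hva, hvb, hiff⟩ := support r z hz hQz s₁ s₂ v₁ v₂ h12 hv₁ hv₂
      (by rw [hQ₁]; exact one_ne_zero) (hclass _ _ hQ₁ hQ₂) (horth₁ v₁ hv₁) (horth₂ v₂ hv₂)
    have hv₁2 : ∀ q, π q (g.1 v₁) ≠ 0 → q = a ∨ q = b := fun q h => (hiff q).2 (Or.inr h)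
    have hv₂2 : ∀ q, π q (g.1 v₂) ≠ 0 → q = a ∨ q = b := fun q h => (hiff q).2 (Or.inl h)
    have hall : ∀ s, (s = s₁ ∨ s = s₂ ∨ s = s₃) → ∀ w ∈ D s, Q w = 1 →
        g.1 w ∈ D a ⊔ D b := by
      intro s hs w hw hQw
      refine mem_sup_of_comp hπ ?_
      rcases eq_or_ne s s₁ with rfl | hss
      · exact share r z hz hQz s₂ s v₂ w h12.symm hv₂ hw (by rw [hQ₂]; exact one_ne_zero)
          (hclass _ _ hQ₂ hQw) (horth₂ v₂ hv₂) (horth₁ w hw) a b hv₂2
      · exact share r z hz hQz s₁ s v₁ w hss.symm hv₁ hw (by rw [hQ₁]; exact one_ne_zero)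
          (hclass _ _ hQ₁ hQw) (horth₁ v₁ hv₁) (horth s hs w hw) a b hv₁2
    set W := D s₁ ⊔ D s₂ ⊔ D s₃
    have hW : W.map (g.1 : V →ₗ[F] V) ≤ D a ⊔ D b := by
      have hblock : ∀ s, (s = s₁ ∨ s = s₂ ∨ s = s₃) →
          D s ≤ (D a ⊔ D b).comap (g.1 : V →ₗ[F] V) := by
        intro s hs
        obtain ⟨e, f, hp⟩ := exists_hpair hh s
        obtain ⟨a₂, ha₂, h21, h21', -⟩ := exists_avoid hh.q7 1 (-1) 0 0 (0 : F)
        refine hp.le_of_two hD one_ne_zero one_ne_zero ha₂ (fun h => ?_)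
          (hall s hs _ (hp.mem_lin _ _) (by rw [hp.value_lin, mul_div_cancel₀ _ one_ne_zero]))
          (hall s hs _ (hp.mem_lin _ _) (by rw [hp.value_lin, mul_div_cancel₀ _ ha₂]))
        rcases sq_eq_sq_iff_eq_or_eq_neg.1 h.symm with h' | h'
        · exact h21 h'
        · exact h21' h'
      exact Submodule.map_le_iff_le_comap.2 (sup_le (sup_le (hblock _ (Or.inl rfl))
        (hblock _ (Or.inr (Or.inl rfl)))) (hblock _ (Or.inr (Or.inr rfl))))
    have h1 := Submodule.finrank_mono hW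
    rw [LinearEquiv.finrank_map_eq, finrank_sup_two hD hπ hab] at h1
    have h2 := Submodule.finrank_sup_add_finrank_inf_eq (D s₁ ⊔ D s₂) (D s₃)
    rw [show (D s₁ ⊔ D s₂) ⊓ D s₃ = ⊥ from (Submodule.eq_bot_iff _).2 fun u hu => by
      obtain ⟨p, hp, q, hq, rfl⟩ := Submodule.mem_sup.1 hu.1
      rw [← hπ.self hD hu.2, map_add, hπ.other hD h13.symm hp, hπ.other hD h23.symm hq, add_zero],
      finrank_bot, finrank_sup_two hD hπ h12, hD.dim] at h2
    have h3 : finrank F W = finrank F ↥(D s₁ ⊔ D s₂ ⊔ D s₃) := rfl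
    omega
  -- choose a block vector whose preimage has few singular components
  let r₀ : Fin t := ⟨0, by omega⟩
  obtain ⟨e', f', hp'⟩ := exists_hpair hh r₀
  let zb : F → V := fun b => (1 : F) • e' + b • f'
  let bad : F → Fin t → Prop := fun b s =>
    π s (g.1.symm (zb b)) ≠ 0 ∧ Q (π s (g.1.symm (zb b))) = 0
  have hbad : ∀ s, ((Finset.univ.erase (0 : F)).filter fun b => bad b s).card ≤ 2 := by
    intro s
    set u := π s (g.1.symm e') with hu
    set v := π s (g.1.symm f') with hv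
    have hexp : ∀ b, π s (g.1.symm (zb b)) = u + b • v := fun b => by
      simp [zb, hu, hv]
    have hval : ∀ b, Q (u + b • v) = Q u + b * polar Q u v + b ^ 2 * Q v := fun b => by
      rw [QuadraticMap.map_add (⇑Q), QuadraticMap.map_smul, polar_smul_right, smul_eq_mul,
        smul_eq_mul]
      ring
    by_contra hgt
    obtain ⟨b₁, b₂, b₃, h1, h2, h3, n12, n13, n23⟩ := Finset.two_lt_card_iff.1 (not_le.1 hgt)
    simp only [Finset.mem_filter, bad, hexp] at h1 h2 h3
    have q1 : Q u + b₁ * polar Q u v + b₁ ^ 2 * Q v = 0 := by rw [← hval]; exact h1.2.2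
    have q2 : Q u + b₂ * polar Q u v + b₂ ^ 2 * Q v = 0 := by rw [← hval]; exact h2.2.2
    have q3 : Q u + b₃ * polar Q u v + b₃ ^ 2 * Q v = 0 := by rw [← hval]; exact h3.2.2
    have e12 : polar Q u v + (b₁ + b₂) * Q v = 0 :=
      mul_left_cancel₀ (sub_ne_zero.2 n12) (by linear_combination q1 - q2)
    have e13 : polar Q u v + (b₁ + b₃) * Q v = 0 :=
      mul_left_cancel₀ (sub_ne_zero.2 n13) (by linear_combination q1 - q3)
    have hQv : Q v = 0 :=
      mul_left_cancel₀ (sub_ne_zero.2 n23) (by linear_combination e12 - e13)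
    have huv : polar Q u v = 0 := by rw [hQv] at e12; linear_combination e12
    have hQu : Q u = 0 := by rw [hQv, huv] at q1; linear_combination q1
    have hL : ∀ x ∈ D r₀, ∀ ε ∈ D s, polar Q (g.1 ε) x = polar Q ε (π s (g.1.symm x)) := by
      intro x hx ε hε
      rw [← hπ.polar_eq s ε hε, ← polar_orth g ε (g.1.symm x), LinearEquiv.apply_symm_apply]
    have key : ∀ x y, x ∈ D r₀ → y ∈ D r₀ → (∀ w ∈ D r₀, ∃ p q : F, w = p • x + q • y) →
        π s (g.1.symm x) ≠ 0 → Q (π s (g.1.symm x)) = 0 →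
        polar Q (π s (g.1.symm x)) (π s (g.1.symm y)) = 0 → False := by
      intro x y hx hy hgen hne hQx hxy
      obtain ⟨δ, hδ⟩ := exists_hpair_of hD (hπ.mem s (g.1.symm x)) hne hQx
      have hzero : π r₀ (g.1 (π s (g.1.symm x))) = 0 := by
        refine hπ.uniq hD (D r₀).zero_mem fun w hw => ?_
        obtain ⟨p, q, rfl⟩ := hgen w hw
        rw [polar_zero_right, polar_add_left, polar_smul_left, polar_smul_left,
          polar_comm Q x, hL x hx _ hδ.he, polar_comm Q y, hL y hy _ hδ.he, hxy, hδ.ee]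
        simp
      have h0 := hkill s r₀ _ δ hδ hzero
      have h1 : polar Q (g.1 δ) x = 0 := by
        rw [polar_comm]; exact polar_block_zero hπ hx h0
      rw [hL x hx δ hδ.hf, hδ.fe] at h1
      exact one_ne_zero h1
    by_cases hu0 : u = 0
    · have hv0 : v ≠ 0 := fun h => h1.2.1 (by rw [hu0, h]; simp)
      exact key f' e' hp'.hf hp'.he (fun w hw => ⟨_, _, (hp'.symm).coords hD hw⟩) hv0 hQv
        ((polar_comm _ _ _).trans huv)
    · exact key e' f' hp'.he hp'.hf (fun w hw => ⟨_, _, hp'.coords hD hw⟩) hu0 hQu huv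
  obtain ⟨b, hb0, hb⟩ : ∃ b : F, b ≠ 0 ∧ 3 * (Finset.univ.filter fun s => bad b s).card ≤ t ∧
      (Fintype.card F = 7 ∨ 5 + (Finset.univ.filter fun s => bad b s).card ≤ t) := by
    by_contra hc
    push Not at hc
    have h1 := Finset.sum_card_bipartiteAbove_eq_sum_card_bipartiteBelow bad
      (s := Finset.univ.erase (0 : F)) (t := (Finset.univ : Finset (Fin t)))
    simp only [Finset.bipartiteAbove, Finset.bipartiteBelow] at h1
    have h2 : ∑ s : Fin t, ((Finset.univ.erase (0 : F)).filter fun b => bad b s).card ≤ 2 * t := by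
      refine (Finset.sum_le_sum fun s _ => hbad s).trans ?_
      simp; omega
    by_cases h7 : Fintype.card F = 7 ∨ 7 ≤ t
    · have h3 : (Finset.univ.erase (0 : F)).card * (t + 1)
          ≤ ∑ b ∈ Finset.univ.erase (0 : F), 3 * (Finset.univ.filter fun s => bad b s).card := by
        refine le_of_eq_of_le ?_ (Finset.sum_le_sum fun b hb => ?_) (b := (Finset.univ.erase (0 : F)).sum fun _ => t + 1)
        · simp
        · by_contra hlt
          have := hc b (Finset.ne_of_mem_erase hb) (by omega)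
          omega
      rw [← Finset.mul_sum, h1, Finset.card_erase_of_mem (Finset.mem_univ _), Finset.card_univ] at h3
      have h4 : 6 * (t + 1) ≤ (Fintype.card F - 1) * (t + 1) :=
        Nat.mul_le_mul_right _ (by have := hh.q7; omega)
      omega
    · push Not at h7
      have h3 : (Finset.univ.erase (0 : F)).card * 2
          ≤ ∑ b ∈ Finset.univ.erase (0 : F), (Finset.univ.filter fun s => bad b s).card := by
        refine le_of_eq_of_le ?_ (Finset.sum_le_sum fun b hb => ?_) (b := (Finset.univ.erase (0 : F)).sum fun _ => 2)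
        · simp
        · by_contra hlt
          have := (hc b (Finset.ne_of_mem_erase hb) (by omega)).2
          omega
      rw [h1, Finset.card_erase_of_mem (Finset.mem_univ _), Finset.card_univ] at h3
      have := hh.q7
      omega
  have hzD : zb b ∈ D r₀ := hp'.mem_lin _ _
  have hQzb : Q (zb b) ≠ 0 := by simp only [zb, hp'.value_lin, one_mul]; exact hb0
  set G := Finset.univ.filter fun s => ¬ bad b s with hG
  have hGcard : 4 ≤ G.card ∧ (Fintype.card F = 7 ∨ 5 ≤ G.card) := by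
    have := Finset.card_filter_add_card_filter_not (s := (Finset.univ : Finset (Fin t)))
      fun s => bad b s
    rw [Finset.card_univ, Fintype.card_fin, ← hG] at this
    omega
  have hperp : ∀ s, ∃ v ∈ D s, Q v ≠ 0 ∧ (s ∈ G → polar Q (g.1 v) (zb b) = 0) := by
    intro s
    by_cases hs : s ∈ G
    · have hs' : π s (g.1.symm (zb b)) = 0 ∨ Q (π s (g.1.symm (zb b))) ≠ 0 := by
        simp only [hG, Finset.mem_filter, Finset.mem_univ, true_and, bad, not_and] at hs
        exact or_iff_not_imp_left.2 hs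
      obtain ⟨v, hv, hQv, hvx⟩ := exists_perp hh hπ hs'
      exact ⟨v, hv, hQv, fun _ => by
        rw [← g.1.apply_symm_apply (zb b), polar_orth g]; exact hvx⟩
    · obtain ⟨v, hv, hQv⟩ := exists_value hh s 1
      exact ⟨v, hv, by rw [hQv]; exact one_ne_zero, fun h => absurd h hs⟩
  choose v hvD hQv hvz using hperp
  have hv0 : ∀ s, v s ≠ 0 := fun s h => hQv s (by rw [h, QuadraticMap.map_zero])
  by_cases hG5 : G.card < 5
  · -- seven elements: two vectors of one class already give a contradiction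
    have h7 : Fintype.card F = 7 := by omega
    have h1sq : ¬ IsSquare (-1 : F) := fun h => by
      rw [FiniteField.isSquare_neg_one_iff, h7] at h
      omega
    obtain ⟨cls, -, hcls⟩ := Finset.exists_lt_card_fiber_of_mul_lt_card_of_maps_to
      (s := G) (t := (Finset.univ : Finset Bool)) (f := fun s => decide (IsSquare (Q (v s))))
      (fun _ _ => Finset.mem_univ _) (n := 1) (by simp; omega)
    obtain ⟨s₀, h0, s₁, h1, h01⟩ := Finset.one_lt_card.1 hcls
    simp only [Finset.mem_filter] at h0 h1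
    have hcl : SameClass (Q (v s₀)) (Q (v s₁)) :=
      ⟨hQv s₁, isSquare_mul_of_iff (hQv s₀) (hQv s₁) (decide_eq_decide.1 (h0.2.trans h1.2.symm))⟩
    obtain ⟨a, c, hac, hva, hvc, hiff⟩ := support r₀ (zb b) hzD hQzb s₀ s₁
      (v s₀) (v s₁) h01 (hvD _) (hvD _) (hQv _) hcl (hvz _ h0.1) (hvz _ h1.1)
    obtain ⟨n0, n1, hm⟩ := (pair_plus hnd hh hH (hvD s₀) (hvD s₁) (hQv s₀) hcl).map hg
    have hfix : (refl Q (g.1 (v s₀)) n0 * refl Q (g.1 (v s₁)) n1).1 (zb b) = zb b := by
      rw [orth_mul_apply, refl_fix _ n1 (hvz _ h1.1), refl_fix _ n0 (hvz _ h0.1)]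
    set W := Submodule.span F {v s₀, v s₁}
    set U := W.map (g.1 : V →ₗ[F] V) with hUdef
    have hmem0 : g.1 (v s₀) ∈ U := Submodule.mem_map_of_mem (Submodule.subset_span (Or.inl rfl))
    have hmem1 : g.1 (v s₁) ∈ U := Submodule.mem_map_of_mem (Submodule.subset_span (Or.inr rfl))
    have hUle : U ≤ D a ⊔ D c := by
      rw [hUdef, Submodule.map_span, Submodule.span_le]
      rintro _ ⟨_, rfl | rfl, rfl⟩
      · exact mem_sup_of_comp hπ fun q hqa hqc => by_contra fun hne =>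
          ((hiff q).2 (Or.inr hne)).elim hqa hqc
      · exact mem_sup_of_comp hπ fun q hqa hqc => by_contra fun hne =>
          ((hiff q).2 (Or.inl hne)).elim hqa hqc
    have haniso : ∀ y ∈ U, Q y = 0 → y = 0 := by
      rintro _ ⟨w, hw, rfl⟩ hy
      obtain ⟨p, q, rfl⟩ := Submodule.mem_span_pair.1 hw
      rw [LinearEquiv.coe_coe, map_orth g, QuadraticMap.map_add (⇑Q), QuadraticMap.map_smul,
        QuadraticMap.map_smul, polar_smul_left, polar_smul_right,
        hD.orth s₀ s₁ h01 _ (hvD _) _ (hvD _)] at hy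
      simp only [smul_eq_mul, mul_zero, add_zero] at hy
      obtain ⟨k, hk⟩ := hcl.2
      have hk0 : k ≠ 0 := fun h => mul_ne_zero (hQv s₀) (hQv s₁) (by rw [hk, h, zero_mul])
      have hq : q = 0 := by
        by_contra hq0
        exact h1sq ⟨p * Q (v s₀) / (q * k), by field_simp; linear_combination (-(Q (v s₀))) * hy + q ^ 2 * hk⟩
      subst hq
      have hp : p = 0 := by simpa [hQv s₀] using hy
      simp [hp]
    obtain ⟨j, hj⟩ := mono _ hm r₀ (zb b) hzD hQzb hfix a
    have hmove : ∀ d, d - (refl Q (g.1 (v s₀)) n0 * refl Q (g.1 (v s₁)) n1).1 d ∈ U := by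
      intro d
      rw [orth_mul_apply, refl_apply Q (g.1 (v s₀)) n0, refl_apply Q (g.1 (v s₁)) n1]
      set c0 := (Q (g.1 (v s₀)))⁻¹ * polar Q (g.1 (v s₀))
        (d - ((Q (g.1 (v s₁)))⁻¹ * polar Q (g.1 (v s₁)) d) • g.1 (v s₁))
      convert U.add_mem (U.smul_mem c0 hmem0)
        (U.smul_mem ((Q (g.1 (v s₁)))⁻¹ * polar Q (g.1 (v s₁)) d) hmem1) using 1
      abel
    obtain ⟨za, hzaD, hQza, hzaU⟩ : ∃ za ∈ D a, Q za ≠ 0 ∧ za ∈ U := by
      rcases eq_or_ne j a with rfl | hja
      · obtain ⟨p, hp, hpd⟩ : ∃ p ∈ D j, p - (refl Q (g.1 (v s₀)) n0 * refl Q (g.1 (v s₁)) n1).1 p ≠ 0 := by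
          by_contra hall
          push Not at hall
          refine hva (hπ.uniq hD (D j).zero_mem fun w hw => ?_)
          have h := (sub_eq_zero.1 (hall w hw)).symm
          rw [orth_mul_apply, refl_apply Q (g.1 (v s₀)) n0, refl_apply Q (g.1 (v s₁)) n1] at h
          have e := congrArg (polar Q (g.1 (v s₀))) h
          simp only [polar_sub_right, polar_smul_right, smul_eq_mul,
            show polar Q (g.1 (v s₀)) (g.1 (v s₁)) = 0 by
              rw [polar_orth g, hD.orth s₀ s₁ h01 _ (hvD _) _ (hvD _)],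
            polar_self_mul, mul_zero, sub_zero] at e
          have h2 : (2 : F) * polar Q (g.1 (v s₀)) w = 0 := by
            field_simp at e
            linear_combination -e
          rw [polar_zero_right, polar_comm]
          exact (mul_eq_zero.1 h2).resolve_left (Ring.two_ne_zero fun h2 => by
            have := FiniteField.even_card_iff_char_two.1 h2
            omega)
        have hpD := (D j).sub_mem hp (hj p hp)
        exact ⟨_, hpD, fun h => hpd (haniso _ (hmove p) h), hmove p⟩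
      · exfalso
        obtain ⟨e, f, hp⟩ := exists_hpair hh a
        have he0 : e ≠ 0 := fun h => one_ne_zero (α := F) (by rw [← hp.ef, h, polar_zero_left])
        have hQ : Q (e - (refl Q (g.1 (v s₀)) n0 * refl Q (g.1 (v s₁)) n1).1 e) = 0 := by
          rw [sub_eq_add_neg, QuadraticMap.map_add (⇑Q), QuadraticMap.map_neg, map_orth,
            hp.Qe, polar_neg_right, hD.orth a j hja.symm e hp.he _ (hj e hp.he)]
          simp
        have h0 := sub_eq_zero.1 (haniso _ (hmove e) hQ)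
        have hea : e ∈ D j := h0 ▸ hj e hp.he
        exact he0 (by rw [← hπ.self hD hp.he, hπ.other hD hja.symm hea])
    obtain ⟨T, hT, hTcard⟩ := Finset.exists_subset_card_eq (s := Finset.univ \ {s₀, s₁}) (n := 3) (by
      rw [Finset.card_univ_sdiff, Fintype.card_fin, Finset.card_pair h01]; omega)
    obtain ⟨t₁, t₂, t₃, h12, h13, h23, rfl⟩ := Finset.card_eq_three.1 hTcard
    refine three a za hzaD hQza t₁ t₂ t₃ h12 h13 h23 fun s hs u hu => ?_
    have hsS : s ≠ s₀ ∧ s ≠ s₁ := by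
      have hmem : s ∈ ({t₁, t₂, t₃} : Finset (Fin t)) := by
        rcases hs with rfl | rfl | rfl <;> simp
      simpa using (Finset.mem_sdiff.1 (hT hmem)).2
    obtain ⟨y, hy, rfl⟩ := hzaU
    obtain ⟨p, q, rfl⟩ := Submodule.mem_span_pair.1 hy
    rw [LinearEquiv.coe_coe, polar_orth g, polar_add_right, polar_smul_right, polar_smul_right,
      hD.orth s s₀ hsS.1 u hu _ (hvD _), hD.orth s s₁ hsS.2 u hu _ (hvD _)]
    simp
  obtain ⟨S, hSG, hclass, hScard⟩ : ∃ S ⊆ G, (∀ s ∈ S, ∀ s' ∈ S, SameClass (Q (v s)) (Q (v s'))) ∧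
      (((2 : F) = 0 ∧ (S.card = 4 ∧ 7 ≤ t ∨ S.card = 5)) ∨ ((2 : F) ≠ 0 ∧ S.card = 3)) := by
    by_cases h2 : (2 : F) = 0
    · obtain ⟨S, hS, hScard⟩ :=
        Finset.exists_subset_card_eq (show (if 7 ≤ t then 4 else 5) ≤ G.card by split <;> omega)
      refine ⟨S, hS, fun s _ s' _ => sameClass_of_two h2 (hQv s'), Or.inl ⟨h2, ?_⟩⟩
      split at hScard <;> omega
    · obtain ⟨cls, -, hcls⟩ := Finset.exists_lt_card_fiber_of_mul_lt_card_of_maps_to
        (s := G) (t := (Finset.univ : Finset Bool)) (f := fun s => decide (IsSquare (Q (v s))))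
        (fun _ _ => Finset.mem_univ _) (n := 2) (by simp; omega)
      obtain ⟨S, hS, hScard⟩ := Finset.exists_subset_card_eq (show 3 ≤ _ from hcls)
      refine ⟨S, fun s hs => (Finset.mem_filter.1 (hS hs)).1, fun s hs s' hs' => ?_,
        Or.inr ⟨h2, hScard⟩⟩
      have e1 := (Finset.mem_filter.1 (hS hs)).2
      have e2 := (Finset.mem_filter.1 (hS hs')).2
      exact ⟨hQv s', isSquare_mul_of_iff (hQv s) (hQv s') (decide_eq_decide.1 (e1.trans e2.symm))⟩
  have hS3 : 3 ≤ S.card := by rcases hScard with ⟨-, h | h⟩ | ⟨-, h⟩ <;> omega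
  obtain ⟨s₀, hs₀⟩ : S.Nonempty := Finset.card_pos.1 (by omega)
  obtain ⟨s₁, hs₁, hs10⟩ : ∃ s₁ ∈ S, s₁ ≠ s₀ := Finset.exists_mem_ne (by omega) s₀
  obtain ⟨a, c, hac, hva, hvc, hiff⟩ := support r₀ (zb b) hzD hQzb s₀ s₁
    (v s₀) (v s₁) hs10.symm (hvD _) (hvD _) (hQv _) (hclass _ hs₀ _ hs₁) (hvz _ (hSG hs₀))
    (hvz _ (hSG hs₁))
  have hall : ∀ s ∈ S, g.1 (v s) ∈ D a ⊔ D c := by
    intro s hs
    refine mem_sup_of_comp hπ fun q hqa hqc => ?_
    rcases eq_or_ne s s₀ with rfl | hss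
    · by_contra hne
      exact ((hiff q).2 (Or.inr hne)).elim hqa hqc
    exact share r₀ (zb b) hzD hQzb s₀ s (v s₀) (v s) hss.symm (hvD _) (hvD _) (hQv _)
      (hclass _ hs₀ _ hs) (hvz _ (hSG hs₀)) (hvz _ (hSG hs)) a c
      (fun q hq => (hiff q).2 (Or.inr hq)) q hqa hqc
  set W := Submodule.span F (Set.range fun s : S => v s.1)
  set U := W.map (g.1 : V →ₗ[F] V) with hUdef
  have hUle : U ≤ D a ⊔ D c := by
    rw [hUdef, Submodule.map_span, Submodule.span_le]
    rintro _ ⟨_, ⟨s, rfl⟩, rfl⟩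
    exact hall s.1 s.2
  have hcoord : ∀ (k : S → F) (s : S), π s.1 (∑ s', k s' • v s'.1) = k s • v s.1 := by
    intro k s
    rw [map_sum, Finset.sum_eq_single s (fun s' _ hs' => by
      rw [map_smul, hπ.other hD (fun h => hs' (Subtype.ext h.symm)) (hvD s'.1), smul_zero])
      (by simp), map_smul, hπ.self hD (hvD s.1)]
  have hUdim : finrank F U = S.card := by
    have hli : LinearIndependent F (fun s : S => v s.1) := by
      rw [Fintype.linearIndependent_iff]
      intro k hk s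
      have h := congrArg (π s.1) hk
      rw [hcoord, map_zero] at h
      exact (smul_eq_zero.1 h).resolve_right (hv0 s.1)
    rw [hUdef, LinearEquiv.finrank_map_eq, finrank_span_eq_card hli, Fintype.card_coe]
  have hU4 : S.card ≤ 4 := by
    rw [← hUdim, ← finrank_sup_two hD hπ hac]
    exact Submodule.finrank_mono hUle
  obtain ⟨r, za, hzaD, hQza, hzaU⟩ : ∃ r, ∃ za ∈ D r, Q za ≠ 0 ∧ za ∈ U := by
    rcases hScard with ⟨-, h4⟩ | ⟨h2, h3⟩
    · obtain ⟨za, hza, hQza⟩ := exists_value hh a 1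
      have heq : U = D a ⊔ D c := Submodule.eq_of_le_of_finrank_le hUle
        (by rw [finrank_sup_two hD hπ hac, hUdim]; omega)
      exact ⟨a, za, hza, by rw [hQza]; exact one_ne_zero,
        heq.symm ▸ Submodule.mem_sup_left hza⟩
    · have hmeet : ∀ r, (r = a ∨ r = c) → ∃ y ∈ U, y ∈ D r ∧ y ≠ 0 := by
        intro r hr
        have h1 := Submodule.finrank_sup_add_finrank_inf_eq U (D r)
        have h4 : finrank F ↥(U ⊔ D r) ≤ 4 := (Submodule.finrank_mono (sup_le hUle (by
          rcases hr with rfl | rfl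
          · exact le_sup_left
          · exact le_sup_right))).trans (finrank_sup_two hD hπ hac).le
        rw [hUdim, h3, hD.dim] at h1
        obtain ⟨y, hy, hy0⟩ := Submodule.exists_mem_ne_zero_of_ne_bot (p := U ⊓ D r)
          (fun h => by rw [h, finrank_bot] at h1; omega)
        exact ⟨y, hy.1, hy.2, hy0⟩
      obtain ⟨y, hyU, hyD, hy0⟩ := hmeet a (Or.inl rfl)
      obtain ⟨y', hy'U, hy'D, hy'0⟩ := hmeet c (Or.inr rfl)
      by_cases hQy : Q y = 0
      · by_cases hQy' : Q y' = 0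
        · exfalso
          have hUnd : Nondeg Q U := by
            rintro _ ⟨w, hw, rfl⟩ hperp
            obtain ⟨k, rfl⟩ := (Submodule.mem_span_range_iff_exists_fun F).1 hw
            have hk : ∀ s : S, k s = 0 := by
              intro s
              have h := hperp _ (Submodule.mem_map_of_mem (Submodule.subset_span ⟨s, rfl⟩))
              rw [LinearEquiv.coe_coe, polar_orth g, polar_comm,
                hπ.polar_eq s.1 _ (hvD s.1), hcoord, polar_smul_right, polar_self_mul,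
                smul_eq_mul, mul_eq_zero] at h
              exact h.resolve_right (mul_ne_zero h2 (hQv s.1))
            simp [hk]
          obtain ⟨x, hx, hQx⟩ := exists_nonsingular hnd hUnd
            (X := Submodule.span F {y, y'}) (Submodule.span_le.2 (by
              rintro z (rfl | rfl) <;> assumption)) (by
              have hli : LinearIndependent F ![y, y'] := LinearIndependent.pair_iff.2 fun p q hpq => by
                have e1 := congrArg (π a) hpq
                have e2 := congrArg (π c) hpq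
                simp only [map_add, map_smul, hπ.self hD hyD, hπ.self hD hy'D,
                  hπ.other hD hac hy'D, hπ.other hD hac.symm hyD, smul_zero, add_zero, zero_add,
                  map_zero] at e1 e2
                exact ⟨(smul_eq_zero.1 e1).resolve_right hy0, (smul_eq_zero.1 e2).resolve_right hy'0⟩
              have := finrank_span_eq_card hli
              rw [Matrix.range_cons_cons_empty, Fintype.card_fin] at this
              rw [hUdim, h3, this]; omega)
          obtain ⟨p, q, rfl⟩ := Submodule.mem_span_pair.1 hx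
          refine hQx ?_
          rw [QuadraticMap.map_add (⇑Q), QuadraticMap.map_smul, QuadraticMap.map_smul, hQy, hQy',
            polar_smul_left, polar_smul_right, hD.orth a c hac y hyD y' hy'D]
          simp
        · exact ⟨c, y', hy'D, hQy', hy'U⟩
      · exact ⟨a, y, hyD, hQy, hyU⟩
  obtain ⟨T, hT, hTcard⟩ := Finset.exists_subset_card_eq (s := Finset.univ \ S) (n := 3) (by
    rw [Finset.card_univ_sdiff, Fintype.card_fin]; omega)
  obtain ⟨t₁, t₂, t₃, h12, h13, h23, rfl⟩ := Finset.card_eq_three.1 hTcard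
  refine three r za hzaD hQza t₁ t₂ t₃ h12 h13 h23 fun s hs u hu => ?_
  have hsS : s ∉ S := by
    have hmem : s ∈ ({t₁, t₂, t₃} : Finset (Fin t)) := by
      rcases hs with rfl | rfl | rfl <;> simp
    exact (Finset.mem_sdiff.1 (hT hmem)).2
  obtain ⟨y, hy, rfl⟩ := hzaU
  rw [LinearEquiv.coe_coe, polar_orth g]
  clear hzaD hQza
  induction hy using Submodule.span_induction with
  | mem y hy =>
    obtain ⟨s', rfl⟩ := hy
    exact hD.orth s s'.1 (fun h => hsS (h ▸ s'.2)) u hu _ (hvD _)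
  | zero => simp
  | add p q _ _ hp hq => rw [polar_add_right, hp, hq, add_zero]
  | smul k p _ hp => rw [polar_smul_right, hp, smul_zero]

/-- Stabilisers of decompositions into hyperbolic planes are maximal. -/
theorem commutator_le (hnd : (polarBilin Q).Nondegenerate) (hh : Plus Q D) (hH : Contains M D)
    {g : orth Q} (hg : g ∈ M) (hgD : ¬ ∀ i, ∃ j, ∀ x ∈ D i, g.1 x ∈ D j) :
    commutator (orth Q) ≤ M := by
  obtain ⟨π, hπ⟩ := exists_comp hnd hh.dec
  refine commutator_le_of_basic hnd hh hπ hH ?_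
  rcases grow hnd hh hπ hH hg hgD with hB | ⟨x, hx, hmix⟩
  · exact hB
  · exact basic_of_rep hnd hh hπ hH hx hmix

end Cfsg.Agent.OmegaPlusDecompGrow73
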