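import Mathlib
import Cfsg.Agent.Lib.OmegaPlusDecompGrow73
import Cfsg.Agent.Lib.OmegaDecompTwoGlue

/-!
Stabilisers of decompositions into hyperbolic planes inside `Geo.omegaGL`.
-/

set_option autoImplicit false

namespace Cfsg.Agent.OmegaPlusDecompGlue73

open QuadraticMap Module
open Cfsg.Agent.OrthUnitaryQuad Cfsg.Agent.OrthUnitaryPrelude
  Cfsg.Agent.OmegaDecomp Cfsg.Agent.OmegaPlusDecompBasic73

variable {F : Type*} [Field F] {ι : Type} [Fintype ι] [DecidableEq ι]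
  {q : QuadraticForm F (ι → F)} {t k : ℕ} {D : Fin t → Submodule F (ι → F)}

omit [Fintype ι] [DecidableEq ι] in
/-- A member of plus type contains a non-zero singular vector. -/
theorem exists_singular_of_plus {W : Submodule F (ι → F)} (hd : 0 < finrank F W)
    (h : Cfsg.Geo.IsPlusTypeOn (⇑q) W) : ∃ u ∈ W, u ≠ 0 ∧ q u = 0 := by
  obtain ⟨U, hUW, hU, hdim⟩ := h
  obtain ⟨u, hu, hu0⟩ := Submodule.exists_mem_ne_zero_of_ne_bot (p := U)
    (fun hb => by rw [hb, finrank_bot] at hdim; omega)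
  exact ⟨u, hUW hu, hu0, hU u hu⟩

omit [Fintype ι] [DecidableEq ι] in
/-- Isometric members are of the same type. -/
theorem plus_transport (hD : Dec q D k) {i : Fin t} (h : Cfsg.Geo.IsPlusTypeOn (⇑q) (D i))
    (j : Fin t) : Cfsg.Geo.IsPlusTypeOn (⇑q) (D j) := by
  obtain ⟨U, hUW, hU, hdim⟩ := h
  obtain ⟨e, he⟩ := hD.iso i j
  refine ⟨((U.comap (D i).subtype).map (e : D i →ₗ[F] D j)).map (D j).subtype, ?_, ?_, ?_⟩
  · rintro _ ⟨y, -, rfl⟩
    exact y.2
  · rintro _ ⟨_, ⟨x, hx, rfl⟩, rfl⟩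
    exact (he x).trans (hU _ hx)
  · rw [Submodule.finrank_map_subtype_eq, LinearEquiv.finrank_map_eq,
      (Submodule.comapSubtypeEquivOfLe hUW).finrank_eq, hD.dim, ← hD.dim i]
    exact hdim

/-- Stabilisers of decompositions into hyperbolic planes are maximal. -/
theorem isMaximalIn [Fintype F] (hnd : (polarBilin q).Nondegenerate)
    (hD : Cfsg.Geo.IsOrthogonalMDecomposition (⇑q) 2 D) (hh : Plus q D) :
    Cfsg.Geo.IsMaximalIn (Cfsg.Geo.omegaGL ⇑q)
      (Cfsg.Geo.decompositionStabilizer D ⊓ Cfsg.Geo.omegaGL ⇑q) := by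
  obtain ⟨u, hu, hu0, hQu⟩ := hh.sing ⟨0, by have := hh.seven; omega⟩
  exact OmegaDecompGlue.isMaximalIn_of hD
    (OmegaDecompGlue.exists_breaking hnd hh.dim_big hh.dec (by have := hh.seven; omega) (by omega)
      hu hu0 hQu)
    fun _ hM _ hg _ hgD => OmegaPlusDecompGrow73.commutator_le hnd hh hM hg hgD

omit [Fintype ι] [DecidableEq ι] in
/-- A finite field does not have six elements. -/
theorem card_ne_six [Fintype F] : Fintype.card F ≠ 6 := by
  intro h
  obtain ⟨p, n, hp, -, hpn⟩ := (isPrimePow_nat_iff _).1 (Fintype.isPrimePow_card_of_field (α := F))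
  rw [h] at hpn
  have h2 : 2 ∣ p ^ n := ⟨3, by omega⟩
  have h3 : 3 ∣ p ^ n := ⟨2, by omega⟩
  have e2 := (Nat.prime_dvd_prime_iff_eq Nat.prime_two hp).1 (Nat.prime_two.dvd_of_dvd_pow h2)
  have e3 := (Nat.prime_dvd_prime_iff_eq Nat.prime_three hp).1 (Nat.prime_three.dvd_of_dvd_pow h3)
  omega

end Cfsg.Agent.OmegaPlusDecompGlue73
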