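import Mathlib
import Cfsg.Agent.Lib.OmegaStabNondegGlue

/-!
Over fields with at most three elements the stabiliser in the derived orthogonal group of a plus-type
plane is properly contained in the stabiliser of a non-singular line of the plane.
-/

set_option autoImplicit false

namespace Cfsg.Agent.OmegaPlusPlane

open QuadraticMap Module
open Cfsg.Agent.OrthUnitaryQuad Cfsg.Agent.OrthUnitaryPrelude Cfsg.Agent.OmegaClasses Cfsg.Agent.OmegaGeo

variable {F : Type*} [Field F] [Fintype F] {ι : Type} [Fintype ι] [DecidableEq ι]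

theorem not_maximal {q : QuadraticForm F (ι → F)} (hnd : (polarBilin q).Nondegenerate)
    (hn : 5 ≤ Fintype.card ι) (hq : Fintype.card F ≤ 3) {W : Submodule F (ι → F)} (hdim : finrank F W = 2)
    (hW : Cfsg.Geo.IsNondegenerateOn (polar q) W) (hplus : Cfsg.Geo.IsPlusTypeOn ⇑q W) :
    ∃ K : Subgroup (GL ι F), Cfsg.Geo.subspaceStabilizer W ⊓ Cfsg.Geo.omegaGL ⇑q < K ∧
      K < Cfsg.Geo.omegaGL ⇑q := by
  classical
  have hd : 5 ≤ finrank F (ι → F) := by simp; omega
  obtain ⟨U, hUW, hU, hUd⟩ := hplus
  obtain ⟨e, heU, he0⟩ := Submodule.exists_mem_ne_zero_of_ne_bot (p := U)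
    (fun h => by rw [h, finrank_bot] at hUd; omega)
  have heW := hUW heU
  have hQe : q e = 0 := hU e heU
  have hWn : QuadClassify.Nondeg q W := fun u hu h => by
    by_contra h0
    obtain ⟨x, hx, hx0⟩ := (hW u hu h0).2
    exact hx0 (h x hx)
  obtain ⟨f, hfW, hQf, hef⟩ := QuadClassify.exists_partner q hWn heW he0 hQe
  have hfe : polar q f e = 1 := by rw [polar_comm]; exact hef
  have hee : polar q e e = 0 := by rw [polar_self, hQe]; simp
  have hff : polar q f f = 0 := by rw [polar_self, hQf]; simp
  have hspan : W = Submodule.span F {e, f} := by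
    have hle : Submodule.span F {e, f} ≤ W := Submodule.span_le.2 (by simp [Set.insert_subset_iff, heW, hfW])
    have hne : f ∉ Submodule.span F {e} := fun h => by
      obtain ⟨c, rfl⟩ := Submodule.mem_span_singleton.1 h
      simp [hee] at hef
    have hlt : Submodule.span F {e} < Submodule.span F {e, f} :=
      lt_of_le_of_ne (Submodule.span_mono (by simp)) fun h => hne (h ▸ Submodule.subset_span (by simp))
    have := Submodule.finrank_lt_finrank_of_lt hlt
    rw [finrank_span_singleton he0] at this
    exact (Submodule.eq_of_le_of_finrank_le hle (by omega)).symm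
  set v := e + f with hv
  have hpv : polar q v e = 1 := by rw [hv, polar_add_left, hee, hfe, zero_add]
  have hpv' : polar q v f = 1 := by rw [hv, polar_add_left, hff, hef, add_zero]
  have hsq : ∀ a : F, a ≠ 0 → a * a = 1 := fun a ha => by
    have h1 := FiniteField.pow_card_sub_one_eq_one a ha
    have h2 := Fintype.one_lt_card (α := F)
    rcases (show Fintype.card F = 2 ∨ Fintype.card F = 3 by omega) with h | h <;> rw [h] at h1
    · rw [show a = 1 by simpa using h1, one_mul]
    · linear_combination h1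
  have hle : Cfsg.Geo.subspaceStabilizer W ⊓ Cfsg.Geo.omegaGL ⇑q ≤
      Cfsg.Geo.subspaceStabilizer (Submodule.span F {v}) ⊓ Cfsg.Geo.omegaGL ⇑q := by
    rintro g ⟨hgW, hgΩ⟩
    refine ⟨?_, hgΩ⟩
    obtain ⟨k, -, rfl⟩ := exists_of_mem_omegaGL hgΩ
    have hmap := toGL_mem_stabilizer_iff.1 hgW
    refine toGL_mem_stabilizer_iff.2 ?_
    have hkv : k.1 v ∈ W := hmap ▸ Submodule.mem_map_of_mem (W.add_mem heW hfW)
    rw [hspan] at hkv
    obtain ⟨a, b, hab⟩ := Submodule.mem_span_pair.1 hkv
    have hQ : ∀ a b : F, q (a • e + b • f) = a * b := fun a b => by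
      rw [QuadraticMap.map_add (⇑q), QuadraticMap.map_smul, QuadraticMap.map_smul, polar_smul_left,
        polar_smul_right, hQe, hQf, hef]
      simp
    have hab1 : a * b = 1 := by
      rw [← hQ, hab, map_orth k, hv, show e + f = (1 : F) • e + (1 : F) • f by simp, hQ, one_mul]
    have ha : a ≠ 0 := left_ne_zero_of_mul_eq_one hab1
    have hbeq : b = a := mul_left_cancel₀ ha (hab1.trans (hsq a ha).symm)
    rw [Submodule.map_span, Set.image_singleton]
    have : (k.1 : (ι → F) →ₗ[F] (ι → F)) v = a • v := by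
      rw [LinearEquiv.coe_coe, ← hab, hbeq, hv, smul_add]
    rw [this]
    exact Submodule.span_singleton_smul_eq (IsUnit.mk0 _ ha) v
  -- a singular vector orthogonal to W
  obtain ⟨hU', hd'⟩ := QuadClassify.pair_complement q (QuadClassify.nondeg_top hnd)
    (Submodule.mem_top (x := e)) (Submodule.mem_top (x := f)) hQe hQf hef
  rw [finrank_top] at hd'
  obtain ⟨z, hz, hz0, hQz⟩ := QuadClassify.exists_singular q
    (⊤ ⊓ LinearMap.ker (polarBilin q e) ⊓ LinearMap.ker (polarBilin q f)) (by omega)
  have hez : polar q e z = 0 := hz.1.2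
  have hfz : polar q f z = 0 := hz.2
  have hzW : z ∉ W := fun h => hz0 (hWn z h fun w hw => by
    rw [hspan] at hw
    obtain ⟨a, b, rfl⟩ := Submodule.mem_span_pair.1 hw
    rw [polar_add_right, polar_smul_right, polar_smul_right, polar_comm q z e, hez, polar_comm q z f, hfz]
    simp)
  have hzl : ∀ a : F, v + a • z ∈ Submodule.span F {v} → a = 0 := fun a h => by
    by_contra ha
    have hmem : a • z ∈ Submodule.span F {v} :=
      (Submodule.add_mem_iff_right _ (Submodule.mem_span_singleton_self v)).1 h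
    refine hzW (((Submodule.smul_mem_iff _ ha).1 hmem) |> fun h' => ?_)
    exact (Submodule.span_singleton_le_iff_mem _ _).2 (W.add_mem heW hfW) h'
  -- the Siegel elements
  have hT : ∀ x, polar q z x = 0 → ∃ k ∈ commutator (orth q),
      ∀ y, k.1 y = y + polar q z y • x - (polar q x y + q x * polar q z y) • z := fun x hx =>
    ⟨siegel q z x hQz hx, OrthUnitarySimple.sGroup_le_commutator hnd hd
      (OrthUnitarySimple.siegel_mem hnd hd hQz hx), fun y => siegel_apply q z x hQz hx y⟩
  have hze : polar q z e = 0 := by rw [polar_comm]; exact hez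
  have hzf : polar q z f = 0 := by rw [polar_comm]; exact hfz
  have hzv : polar q z v = 0 := by rw [hv, polar_add_right, hze, hzf, add_zero]
  refine ⟨Cfsg.Geo.subspaceStabilizer (Submodule.span F {v}) ⊓ Cfsg.Geo.omegaGL ⇑q,
    lt_of_le_not_ge hle fun h => ?_, lt_of_le_of_ne inf_le_right fun h => ?_⟩
  · obtain ⟨k, hk, hact⟩ := hT (e - f) (by rw [polar_sub_right, hze, hzf, sub_zero])
    have hfix : k.1 v = v := by
      rw [hact, hzv, mul_zero, add_zero, polar_comm q _ v, polar_sub_right, hpv, hpv']
      simp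
    have hmem := (h ⟨toGL_mem_stabilizer_iff.2 (by
      rw [Submodule.map_span, Set.image_singleton, LinearEquiv.coe_coe, hfix]), toGL_mem hk⟩).1
    have hke : k.1 e ∈ W := toGL_mem_stabilizer_iff.1 hmem ▸ Submodule.mem_map_of_mem heW
    rw [hact, hze, polar_sub_left, hee, hfe] at hke
    apply hzW
    simpa using W.sub_mem hke heW
  · obtain ⟨k, hk, hact⟩ := hT e hze
    have hmem := toGL_mem hk
    rw [← h] at hmem
    have hkv : k.1 v ∈ Submodule.span F {v} :=
      toGL_mem_stabilizer_iff.1 hmem.1 ▸ Submodule.mem_map_of_mem (Submodule.mem_span_singleton_self v)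
    rw [hact, hzv, mul_zero, add_zero, polar_comm q e v, hpv, zero_smul, add_zero, one_smul, sub_eq_add_neg,
      ← neg_one_smul F z] at hkv
    exact neg_ne_zero.2 one_ne_zero (hzl _ hkv)

end Cfsg.Agent.OmegaPlusPlane
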