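import Mathlib
import Cfsg.Agent.Lib.OmegaStabTools

/-!
Characteristic two: the stabiliser of a non-singular line is maximal in the commutator subgroup.
-/

set_option autoImplicit false

namespace Cfsg.Agent.OmegaStabNonsingular

open QuadraticMap Module
open Cfsg.Agent.OrthUnitaryQuad Cfsg.Agent.OrthUnitaryPrelude Cfsg.Agent.OrthUnitaryRefl
  Cfsg.Agent.OmegaClasses Cfsg.Agent.OmegaGeo Cfsg.Agent.OrthUnitarySimple
  Cfsg.Agent.OmegaStabSingular Cfsg.Agent.OmegaStabTools

variable {F V : Type*} [Field F] [Fintype F] [AddCommGroup V] [Module F V] [FiniteDimensional F V]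
  {Q : QuadraticForm F V}

omit [Fintype F] [FiniteDimensional F V] in
theorem mem_perp_single {v x : V} :
    x ∈ LinearMap.BilinForm.orthogonal (polarBilin Q) (Submodule.span F {v}) ↔ polar Q v x = 0 := by
  refine ⟨fun h => h v (Submodule.mem_span_singleton_self v), fun h w hw => ?_⟩
  obtain ⟨c, rfl⟩ := Submodule.mem_span_singleton.1 hw
  show polar Q (c • v) x = 0
  rw [polar_smul_left, h, smul_zero]

theorem commutator_le (hnd : (polarBilin Q).Nondegenerate) (hn : 8 ≤ finrank F V) {v : V}
    (hv : Q v ≠ 0) (M : Subgroup (orth Q))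
    (hH : ∀ k ∈ commutator (orth Q),
      (Submodule.span F {v}).map (k.1 : V →ₗ[F] V) = Submodule.span F {v} → k ∈ M)
    {g : orth Q} (hg : g ∈ M)
    (hgv : (Submodule.span F {v}).map (g.1 : V →ₗ[F] V) ≠ Submodule.span F {v}) :
    commutator (orth Q) ≤ M := by
  have hv0 : v ≠ 0 := fun h => hv (by rw [h, QuadraticMap.map_zero])
  set L := Submodule.span F {v}
  set S := LinearMap.BilinForm.orthogonal (polarBilin Q) L with hS
  have hSd : finrank F S + 1 = finrank F V := by
    rw [hS, finrank_orth hnd, finrank_span_singleton hv0]; omega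
  have hn5 : 5 ≤ finrank F V := by omega
  have hSie : ∀ (a w : V) (ha : Q a = 0) (hw : polar Q a w = 0),
      siegel Q a w ha hw ∈ commutator (orth Q) := fun a w ha hw =>
    sGroup_le_commutator hnd hn5 (siegel_mem hnd hn5 ha hw)
  have hfix : ∀ k ∈ commutator (orth Q), k.1 v = v → k ∈ M := fun k hk h => hH k hk (by
    rw [Submodule.map_span, Set.image_singleton, LinearEquiv.coe_coe, h])
  have hvS : ∀ x ∈ S, polar Q v x = 0 := fun x hx => mem_perp_single.1 hx
  have hinner : ∀ (a w : V) (ha : Q a = 0) (hw : polar Q a w = 0), a ∈ S → w ∈ S →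
      siegel Q a w ha hw ∈ M := fun a w ha hw haS hwS => hfix _ (hSie _ _ _ _) (by
    rw [siegel_apply, polar_comm Q a v, hvS a haS, polar_comm Q w v, hvS w hwS]
    simp)
  have hkerS : ∀ x, S ⊓ LinearMap.ker (polarBilin Q x) ≤ S := fun x => inf_le_left
  -- the image of S
  set v' := g.1 v
  set T := LinearMap.BilinForm.orthogonal (polarBilin Q) (Submodule.span F {v'}) with hT
  have hgmem : ∀ x, g.1 x ∈ T ↔ x ∈ S := fun x => by
    rw [hT, hS, mem_perp_single, mem_perp_single, polar_orth g]
  have hv'0 : v' ≠ 0 := fun h => hv0 (g.1.map_eq_zero_iff.1 h)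
  have hTd : finrank F T + 1 = finrank F V := by
    rw [hT, finrank_orth hnd, finrank_span_singleton hv'0]; omega
  have hTS : ¬ T ≤ S := by
    intro h
    refine hgv ?_
    rw [Submodule.map_span, Set.image_singleton, LinearEquiv.coe_coe]
    have := Submodule.eq_of_le_of_finrank_eq h (by omega)
    rw [← orth_orth hnd (Submodule.span F {g.1 v}), ← hT, this, hS, orth_orth hnd]
  obtain ⟨a, haT, hQa, haS⟩ : ∃ a ∈ T, Q a = 0 ∧ a ∉ S := by
    obtain ⟨e, he, he0, hQe⟩ := QuadClassify.exists_singular Q T (by omega)
    by_cases heS : e ∈ S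
    · have heW : e ∉ Submodule.span F {v'} := by
        intro h
        obtain ⟨c, rfl⟩ := Submodule.mem_span_singleton.1 h
        rw [QuadraticMap.map_smul, show Q v' = Q v from map_orth g v, smul_eq_mul] at hQe
        rcases mul_eq_zero.1 hQe with h | h
        · exact he0 (by rw [mul_self_eq_zero.1 h, zero_smul])
        · exact hv h
      obtain ⟨z, hz, hez⟩ := exists_pair hnd heW
      obtain ⟨x, hxT, hxS⟩ := SetLike.not_le_iff_exists.1 hTS
      obtain ⟨y, hy, hyS, hey⟩ : ∃ y ∈ T, y ∉ S ∧ polar Q e y ≠ 0 := by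
        by_cases h1 : polar Q e x = 0
        · by_cases h2 : z ∈ S
          · exact ⟨x + z, T.add_mem hxT hz, fun h => hxS (by simpa using S.sub_mem h h2),
              by rw [polar_add_right, h1, hez]; simp⟩
          · exact ⟨z, hz, h2, by rw [hez]; exact one_ne_zero⟩
        · exact ⟨x, hxT, hxS, h1⟩
      refine ⟨y - (Q y / polar Q e y) • e, T.sub_mem hy (T.smul_mem _ he), ?_,
        fun h => hyS (by simpa using S.add_mem h (S.smul_mem (Q y / polar Q e y) heS))⟩
      rw [sub_eq_add_neg, ← neg_smul, QuadraticMap.map_add (⇑Q), QuadraticMap.map_smul,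
        polar_smul_right, hQe, polar_comm Q y e]
      simp [div_mul_cancel₀ _ hey]
    · exact ⟨e, he, hQe, heS⟩
  have ha0 : a ≠ 0 := fun h => haS (h ▸ S.zero_mem)
  have hva : polar Q v a ≠ 0 := fun h => haS (mem_perp_single.2 h)
  obtain ⟨b, hb, hb0, hQb⟩ := QuadClassify.exists_singular Q
    (T ⊓ LinearMap.ker (polarBilin Q v) ⊓ LinearMap.ker (polarBilin Q a)) (by
      have h1 := QuadClassify.finrank_ker_inf T (polarBilin Q v)
      have h2 := QuadClassify.finrank_ker_inf (T ⊓ LinearMap.ker (polarBilin Q v)) (polarBilin Q a)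
      omega)
  have hbS : b ∈ S := mem_perp_single.2 hb.1.2
  have hab : polar Q a b = 0 := hb.2
  have hkM : siegel Q a b hQa hab ∈ M := by
    obtain ⟨a₀, rfl⟩ := g.1.surjective a
    obtain ⟨b₀, rfl⟩ := g.1.surjective b
    rw [← conj_siegel g a₀ b₀ (by rwa [map_orth g] at hQa) (by rwa [polar_orth g] at hab)]
    exact M.mul_mem (M.mul_mem hg (hinner _ _ _ _ ((hgmem a₀).1 haT) ((hgmem b₀).1 hb.1.1)))
      (M.inv_mem hg)
  have hnotL : ∀ x : V, Q x = 0 → x ≠ 0 → x ∉ L := by
    intro x hx hx0 h
    obtain ⟨c, rfl⟩ := Submodule.mem_span_singleton.1 h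
    rw [QuadraticMap.map_smul, smul_eq_mul] at hx
    rcases mul_eq_zero.1 hx with h | h
    · exact hx0 (by rw [mul_self_eq_zero.1 h, zero_smul])
    · exact hv h
  obtain ⟨w₀, hw₀, hbw⟩ := exists_pair hnd (hnotL b hQb hb0)
  obtain ⟨u, hu, hu0, hQu⟩ := QuadClassify.exists_singular Q
    (S ⊓ LinearMap.ker (polarBilin Q a) ⊓ LinearMap.ker (polarBilin Q b) ⊓
      LinearMap.ker (polarBilin Q w₀)) (by
      have h1 := QuadClassify.finrank_ker_inf S (polarBilin Q a)
      have h2 := QuadClassify.finrank_ker_inf (S ⊓ LinearMap.ker (polarBilin Q a)) (polarBilin Q b)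
      have h3 := QuadClassify.finrank_ker_inf
        (S ⊓ LinearMap.ker (polarBilin Q a) ⊓ LinearMap.ker (polarBilin Q b)) (polarBilin Q w₀)
      omega)
  have huS : u ∈ S := hu.1.1.1
  have hau : polar Q a u = 0 := hu.1.1.2
  have hbu : polar Q b u = 0 := hu.1.2
  have huw : polar Q u w₀ = 0 := (polar_comm _ u w₀).trans hu.2
  set k := siegel Q a b hQa hab with hkdef
  have hku : k.1 u = u := by
    rw [hkdef, siegel_apply, hau, hbu]; simp
  set z := k.1 w₀ with hzdef
  have huz : polar Q u z = 0 := by
    rw [hzdef]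
    conv_lhs => rw [← hku]
    rw [polar_orth k, huw]
  have hvz : polar Q v z ≠ 0 := by
    rw [hzdef, hkdef, siegel_apply, hQb, zero_mul, add_zero, polar_sub_right, polar_add_right,
      polar_smul_right, polar_smul_right, hvS w₀ hw₀, hvS b hbS, hbw]
    simpa using hva
  have hzM : siegel Q u z hQu huz ∈ M := by
    have hc := conj_siegel k u w₀ hQu huw
    simp only [hku, ← hzdef] at hc
    rw [← hc]
    exact M.mul_mem (M.mul_mem hkM (hinner _ _ _ _ huS hw₀)) (M.inv_mem hkM)
  -- hyperbolic quadruple
  obtain ⟨y, hy, huy⟩ := exists_pair hnd (hnotL u hQu hu0)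
  set f := y - Q y • u with hf
  have hfS : f ∈ S := S.sub_mem hy (S.smul_mem _ huS)
  have huu : polar Q u u = 0 := by rw [polar_self_mul, hQu, mul_zero]
  have hQf : Q f = 0 := by
    rw [hf, sub_eq_add_neg, ← neg_smul, QuadraticMap.map_add (⇑Q), QuadraticMap.map_smul,
      polar_smul_right, hQu, polar_comm Q y u, huy]
    simp
  have huf : polar Q u f = 1 := by
    rw [hf, polar_sub_right, polar_smul_right, huu, huy]; simp
  obtain ⟨e₂, he₂, he₂0, hQe₂⟩ := QuadClassify.exists_singular Q
    (S ⊓ LinearMap.ker (polarBilin Q u) ⊓ LinearMap.ker (polarBilin Q f)) (by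
      have h1 := QuadClassify.finrank_ker_inf S (polarBilin Q u)
      have h2 := QuadClassify.finrank_ker_inf (S ⊓ LinearMap.ker (polarBilin Q u)) (polarBilin Q f)
      omega)
  have hue : polar Q u e₂ = 0 := he₂.1.2
  have hfe : polar Q f e₂ = 0 := he₂.2
  obtain ⟨y₂, hy₂, hey₂⟩ := exists_pair hnd (W := Submodule.span F {v, u, f}) (u := e₂) (fun h => by
    obtain ⟨p, q, r, hpqr⟩ := Submodule.mem_span_triple.1 h
    have e1 := congrArg (polar Q u) hpqr
    have e2 := congrArg (polar Q f) hpqr
    rw [polar_add_right, polar_add_right, polar_smul_right, polar_smul_right, polar_smul_right,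
      huu, huf, polar_comm Q u v, hvS u huS, hue] at e1
    rw [polar_add_right, polar_add_right, polar_smul_right, polar_smul_right, polar_smul_right,
      polar_self_mul, hQf, polar_comm Q f u, huf, polar_comm Q f v, hvS f hfS, hfe] at e2
    simp only [smul_eq_mul, mul_zero, mul_one, zero_add, add_zero] at e1 e2
    rw [e1, e2, zero_smul, zero_smul, add_zero, add_zero] at hpqr
    exact hnotL e₂ hQe₂ he₂0 (Submodule.mem_span_singleton.2 ⟨p, hpqr⟩))
  have hvy₂ : polar Q v y₂ = 0 := hy₂ v (Submodule.subset_span (by simp))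
  have huy₂ : polar Q u y₂ = 0 := hy₂ u (Submodule.subset_span (by simp))
  have hfy₂ : polar Q f y₂ = 0 := hy₂ f (Submodule.subset_span (by simp))
  set f₂ := y₂ - Q y₂ • e₂ with hf₂
  have hee : polar Q e₂ e₂ = 0 := by rw [polar_self_mul, hQe₂, mul_zero]
  have hQf₂ : Q f₂ = 0 := by
    rw [hf₂, sub_eq_add_neg, ← neg_smul, QuadraticMap.map_add (⇑Q), QuadraticMap.map_smul,
      polar_smul_right, hQe₂, polar_comm Q y₂ e₂, hey₂]
    simp
  have hef₂ : polar Q e₂ f₂ = 1 := by
    rw [hf₂, polar_sub_right, polar_smul_right, hee, hey₂]; simp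
  obtain ⟨htor, sw, hsw, hswu, -, hswfix⟩ := exists_torus_swap hnd hn5 (S := S) huS hfS
    (f₂ := f₂) he₂.1.1 (S.sub_mem (mem_perp_single.2 hvy₂) (S.smul_mem _ he₂.1.1)) hQu hQf huf hQe₂
    hQf₂ hef₂ hue (by rw [hf₂, polar_sub_right, polar_smul_right, huy₂, hue]; simp) hfe
    (by rw [hf₂, polar_sub_right, polar_smul_right, hfy₂, hfe]; simp)
  have hvperp : ∀ x ∈ S, polar Q x v = 0 := fun x hx => (polar_comm _ x v).trans (hvS x hx)
  have hfull : Full M u := by
    intro w hu' hw
    by_cases hvw : polar Q v w = 0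
    · exact hinner _ _ _ _ huS (mem_perp_single.2 hvw)
    set c := polar Q v w / polar Q v z
    have hc : c ≠ 0 := div_ne_zero hvw hvz
    obtain ⟨t, ht, htu, -, htfix⟩ := htor c hc
    have htM : t ∈ M := hfix t ht (htfix v hvperp)
    have hQcu : Q (c • u) = 0 := by rw [QuadraticMap.map_smul, hQu, smul_zero]
    have hcu : polar Q (c • u) (t.1 z) = 0 := by rw [← htu, polar_orth t, huz]
    have hz' : polar Q u (c • t.1 z) = 0 := by
      rw [polar_smul_right, ← polar_smul_left, hcu]
    have h1 : siegel Q u (c • t.1 z) hu' hz' ∈ M := by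
      rw [← siegel_scale hQcu hcu hu' hz']
      have h := conj_siegel t u z hQu huz
      simp only [htu] at h
      rw [← h]
      exact M.mul_mem (M.mul_mem htM hzM) (M.inv_mem htM)
    have hvz' : polar Q v (c • t.1 z) = polar Q v w := by
      rw [polar_smul_right]
      conv_lhs => rw [← htfix v hvperp]
      rw [polar_orth t, smul_eq_mul, div_mul_cancel₀ _ hvz]
    have hrest : polar Q u (w - c • t.1 z) = 0 := by rw [polar_sub_right, hw, hz', sub_zero]
    have h2 := M.mul_mem h1 (hinner u (w - c • t.1 z) hu' hrest huS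
      (mem_perp_single.2 (by rw [polar_sub_right, hvz', sub_self])))
    rw [siegel_mul hu' hz' hrest] at h2
    simpa only [add_sub_cancel] using h2
  exact commutator_le_of_full hnd hn5 hQu hQf (by rw [huf]; exact one_ne_zero) hfull
    (hswu ▸ hfull.of_mem (hfix sw hsw (hswfix v hvperp)))

theorem exists_move (hnd : (polarBilin Q).Nondegenerate) (hn : 5 ≤ finrank F V) {v : V}
    (hv : Q v ≠ 0) :
    ∃ k ∈ commutator (orth Q),
      (Submodule.span F {v}).map (k.1 : V →ₗ[F] V) ≠ Submodule.span F {v} := by
  obtain ⟨u, hu, hu0, hQu⟩ := QuadClassify.exists_singular Q (⊤ : Submodule F V)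
    (by rw [finrank_top]; omega)
  obtain ⟨f, hf, hQf, huf⟩ := QuadClassify.exists_partner Q (QuadClassify.nondeg_top hnd) hu hu0 hQu
  by_contra h
  push Not at h
  have key : ∀ (a : V) (ha : Q a = 0), a ≠ 0 → polar Q a v ≠ 0 → False := by
    intro a ha ha0 hav
    set P := LinearMap.BilinForm.orthogonal (polarBilin Q) (Submodule.span F {a})
    have hle : P ≤ Submodule.span F {v, a} := by
      intro w hw
      have haw : polar Q a w = 0 := mem_perp_single.1 hw
      have hmem := Submodule.mem_map_of_mem
        (f := ((siegel Q a w ha haw).1 : V →ₗ[F] V)) (Submodule.mem_span_singleton_self v)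
      rw [h _ (sGroup_le_commutator hnd hn (siegel_mem hnd hn ha haw)), LinearEquiv.coe_coe,
        siegel_apply] at hmem
      obtain ⟨c, hc⟩ := Submodule.mem_span_singleton.1 hmem
      refine Submodule.mem_span_pair.2 ⟨(c - 1) / polar Q a v,
        (polar Q w v + Q w * polar Q a v) / polar Q a v, ?_⟩
      rw [div_eq_inv_mul, div_eq_inv_mul, ← smul_smul, ← smul_smul, ← smul_add, sub_smul, hc,
        one_smul,
        show v + polar Q a v • w - (polar Q w v + Q w * polar Q a v) • a - v +
          (polar Q w v + Q w * polar Q a v) • a = polar Q a v • w by abel,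
        inv_smul_smul₀ hav]
    have h1 := Submodule.finrank_mono hle
    rw [finrank_orth hnd, finrank_span_singleton ha0] at h1
    have h2 : finrank F (Submodule.span F {v, a}) ≤ 2 := by
      classical
      have := finrank_span_finset_le_card (R := F) (({v, a} : Finset V))
      rw [Finset.coe_pair] at this
      exact this.trans Finset.card_le_two
    omega
  have hf0 : f ≠ 0 := fun h0 => by rw [h0, polar_zero_right] at huf; exact zero_ne_one huf
  by_cases h1 : polar Q u v = 0
  · by_cases h2 : polar Q f v = 0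
    · refine key (u + v - Q v • f) ?_ ?_ ?_
      · rw [sub_eq_add_neg, ← neg_smul, QuadraticMap.map_add (⇑Q), QuadraticMap.map_add (⇑Q) u,
          QuadraticMap.map_smul, polar_add_left, polar_smul_right, polar_smul_right,
          polar_comm Q v f, hQu, hQf, h1, h2, huf]
        simp
      · intro h0
        have := congrArg (polar Q f) h0
        rw [polar_sub_right, polar_add_right, polar_smul_right, polar_self_mul, hQf, h2,
          polar_comm Q f u, huf, polar_zero_right] at this
        simp at this
      · intro hav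
        rw [polar_sub_left, polar_add_left, polar_smul_left, h1, h2] at hav
        simp only [smul_zero, sub_zero, zero_add] at hav
        -- v is orthogonal to itself; use a vector pairing with it
        obtain ⟨w, hw⟩ : ∃ w, polar Q v w ≠ 0 := by
          by_contra hc
          push Not at hc
          exact hv (by rw [hnd.1 v hc, QuadraticMap.map_zero])
        set w' := w - polar Q f w • u - polar Q u w • f with hw'
        have e1 : polar Q u w' = 0 := by
          rw [hw', polar_sub_right, polar_sub_right, polar_smul_right, polar_smul_right,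
            polar_self_mul, hQu, huf]; simp
        have e2 : polar Q f w' = 0 := by
          rw [hw', polar_sub_right, polar_sub_right, polar_smul_right, polar_smul_right,
            polar_self_mul, hQf, polar_comm Q f u, huf]; simp
        have e3 : polar Q v w' = polar Q v w := by
          rw [hw', polar_sub_right, polar_sub_right, polar_smul_right, polar_smul_right,
            polar_comm Q v u, h1, polar_comm Q v f, h2]; simp
        refine key (u + w' - Q w' • f) ?_ ?_ ?_
        · rw [sub_eq_add_neg, ← neg_smul, QuadraticMap.map_add (⇑Q), QuadraticMap.map_add (⇑Q) u,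
            QuadraticMap.map_smul, polar_add_left, polar_smul_right, polar_smul_right,
            polar_comm Q w' f, hQu, hQf, e1, e2, huf]
          simp
        · intro h0
          have := congrArg (polar Q f) h0
          rw [polar_sub_right, polar_add_right, polar_smul_right, polar_self_mul, hQf, e2,
            polar_comm Q f u, huf, polar_zero_right] at this
          simp at this
        · rw [polar_sub_left, polar_add_left, polar_smul_left, h1, h2, polar_comm Q w' v, e3]
          simpa using hw
    · exact key f hQf hf0 h2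
  · exact key u hQu hu0 h1

end Cfsg.Agent.OmegaStabNonsingular
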