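import Mathlib
import Cfsg.Agent.Lib.OmegaStabTools

/-!
The stabiliser of a pair of complementary maximal totally singular subspaces.
-/

set_option autoImplicit false

namespace Cfsg.Agent.OmegaStabPair

open QuadraticMap Module
open Cfsg.Agent.OrthUnitaryQuad Cfsg.Agent.OrthUnitaryPrelude Cfsg.Agent.OrthUnitaryRefl
  Cfsg.Agent.OmegaClasses Cfsg.Agent.OmegaGeo Cfsg.Agent.OrthUnitarySimple
  Cfsg.Agent.OmegaStabSingular Cfsg.Agent.OmegaStabTools

variable {F V : Type*} [Field F] [Fintype F] [AddCommGroup V] [Module F V] [FiniteDimensional F V]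
  {Q : QuadraticForm F V}

omit [Fintype F] in
/-- Every functional on `A` is pairing with a vector of `B`. -/
theorem exists_dual (hnd : (polarBilin Q).Nondegenerate) {A B : Submodule F V} (hA : Lagr Q A)
    (hB : Lagr Q B) (hAB : A ⊓ B = ⊥) (φ : V →ₗ[F] F) :
    ∃ b ∈ B, ∀ a ∈ A, polar Q b a = φ a := by
  let p : B →ₗ[F] Module.Dual F A :=
    (LinearMap.lcomp F F A.subtype).comp ((polarBilin Q).comp B.subtype)
  have hinj : Function.Injective p := by
    rw [← LinearMap.ker_eq_bot, LinearMap.ker_eq_bot']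
    intro b hb
    have hbA : (b : V) ∈ A := mem_of_orth hnd hA fun a ha =>
      (polar_comm _ a b).trans (LinearMap.congr_fun hb ⟨a, ha⟩)
    have : (b : V) ∈ A ⊓ B := ⟨hbA, b.2⟩
    rw [hAB, Submodule.mem_bot] at this
    exact Subtype.ext this
  have hsurj : Function.Surjective p :=
    (LinearMap.injective_iff_surjective_of_finrank_eq_finrank (by
      rw [Subspace.dual_finrank_eq]; have := hA.2; have := hB.2; omega)).1 hinj
  obtain ⟨b, hb⟩ := hsurj (φ.comp A.subtype)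
  exact ⟨b, b.2, fun a ha => LinearMap.congr_fun hb ⟨a, ha⟩⟩

omit [Fintype F] in
/-- A hyperbolic basis adapted to the pair. -/
theorem exists_hyp (hnd : (polarBilin Q).Nondegenerate) {A B : Submodule F V} (hA : Lagr Q A)
    (hB : Lagr Q B) (hAB : A ⊓ B = ⊥) :
    ∃ e f : Fin (finrank F A) → V, QuadClassify.Hyp Q e f ∧ (∀ i, e i ∈ A) ∧ (∀ i, f i ∈ B) ∧
      ∀ a ∈ A, a = ∑ i, polar Q (f i) a • e i := by
  classical
  set bA := Module.finBasis F A
  obtain ⟨L, hL⟩ : ∃ L : V →ₗ[F] A, L.comp A.subtype = LinearMap.id :=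
    A.subtype.exists_leftInverse_of_injective A.ker_subtype
  choose f hfB hf using fun i => exists_dual hnd hA hB hAB ((bA.coord i).comp L)
  have hcoord : ∀ (a : A) (i), polar Q (f i) (a : V) = bA.coord i a := fun a i => by
    rw [hf i a a.2, LinearMap.comp_apply,
      show L (a : V) = a from LinearMap.congr_fun hL a]
  refine ⟨fun i => bA i, f, ⟨fun i => hA.1 _ (bA i).2, fun i => hB.1 _ (hfB i), fun i j => ?_,
    fun i j => polar_of_sing hA.1 (bA i).2 (bA j).2,
    fun i j => polar_of_sing hB.1 (hfB i) (hfB j)⟩, fun i => (bA i).2, hfB, fun a ha => ?_⟩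
  · rw [polar_comm, hcoord, Basis.coord_apply, Basis.repr_self, Finsupp.single_apply]
  · simp only [fun i => hcoord ⟨a, ha⟩ i, Basis.coord_apply]
    have h := congrArg Subtype.val (bA.sum_repr ⟨a, ha⟩)
    rw [Submodule.coe_sum] at h
    simpa using h.symm

/-- The two-sided stabiliser data: root elements, and an element exchanging the sides. -/
theorem commutator_le (hnd : (polarBilin Q).Nondegenerate) {A B : Submodule F V} (hA : Lagr Q A)
    (hB : Lagr Q B) (hAB : A ⊓ B = ⊥) (hk : 6 ≤ finrank F A) (hke : Even (finrank F A))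
    (M : Subgroup (orth Q))
    (hH : ∀ k ∈ commutator (orth Q),
      ((∀ x ∈ A, k.1 x ∈ A) ∧ (∀ x ∈ B, k.1 x ∈ B)) ∨
        ((∀ x ∈ A, k.1 x ∈ B) ∧ (∀ x ∈ B, k.1 x ∈ A)) → k ∈ M)
    {g : orth Q} (hg : g ∈ M)
    (hgAB : ¬ (((∀ x ∈ A, g.1 x ∈ A) ∧ (∀ x ∈ B, g.1 x ∈ B)) ∨
        ((∀ x ∈ A, g.1 x ∈ B) ∧ (∀ x ∈ B, g.1 x ∈ A)))) :
    commutator (orth Q) ≤ M := by
  classical
  have hn : 5 ≤ finrank F V := by have := hA.2; omega
  have hSie : ∀ (a w : V) (ha : Q a = 0) (hw : polar Q a w = 0),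
      siegel Q a w ha hw ∈ commutator (orth Q) := fun a w ha hw =>
    sGroup_le_commutator hnd hn (siegel_mem hnd hn ha hw)
  have happ : ∀ (a w : V) (ha : Q a = 0) (hQw : Q w = 0) (hw : polar Q a w = 0) (x : V),
      (siegel Q a w ha hw).1 x = x + polar Q a x • w - polar Q w x • a := by
    intro a w ha hQw hw x
    rw [siegel_apply, hQw, zero_mul, add_zero]
  -- the root elements of the stabiliser
  have hroot : ∀ (a b : V) (ha : Q a = 0) (hab : polar Q a b = 0),
      (a ∈ A ∧ b ∈ B) ∨ (a ∈ B ∧ b ∈ A) → siegel Q a b ha hab ∈ M := by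
    intro a b ha hab hor
    refine hH _ (hSie _ _ _ _) (Or.inl ?_)
    rcases hor with ⟨haA, hbB⟩ | ⟨haB, hbA⟩
    · have hQb := hB.1 b hbB
      constructor <;> intro x hx <;> rw [happ a b ha hQb]
      · rw [polar_of_sing hA.1 haA hx, zero_smul, add_zero]
        exact A.sub_mem hx (A.smul_mem _ haA)
      · rw [polar_of_sing hB.1 hbB hx, zero_smul, sub_zero]
        exact B.add_mem hx (B.smul_mem _ hbB)
    · have hQb := hA.1 b hbA
      constructor <;> intro x hx <;> rw [happ a b ha hQb]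
      · rw [polar_of_sing hA.1 hbA hx, zero_smul, sub_zero]
        exact A.add_mem hx (A.smul_mem _ hbA)
      · rw [polar_of_sing hB.1 haB hx, zero_smul, add_zero]
        exact B.sub_mem hx (B.smul_mem _ haB)
  have hdec : ∀ x : V, ∃ s ∈ A, ∃ t ∈ B, x = s + t := by
    intro x
    have htop : A ⊔ B = ⊤ := by
      refine Submodule.eq_top_of_finrank_eq ?_
      have h := Submodule.finrank_sup_add_finrank_inf_eq A B
      rw [hAB, finrank_bot] at h
      have := hA.2; have := hB.2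
      omega
    obtain ⟨s, hs, t, ht, hst⟩ := Submodule.mem_sup.1 (show x ∈ A ⊔ B by rw [htop]; trivial)
    exact ⟨s, hs, t, ht, hst.symm⟩
  -- exchanging the sides
  obtain ⟨e, f, hH', heA, hfB, hexp⟩ := exists_hyp hnd hA hB hAB
  obtain ⟨vs, hns, hlen, hprod, hact⟩ := hyp_swap hH'
  set sw := rprod Q vs
  have hswA : ∀ a ∈ A, sw.1 a ∈ B := by
    intro a ha
    rw [hact]
    simp only [polar_of_sing hA.1 (heA _) ha, zero_sub, neg_smul, smul_sub, Finset.sum_neg_distrib,
      Finset.sum_sub_distrib]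
    rw [← hexp a ha,
      show a + (-a - -∑ i, polar Q (f i) a • f i) = ∑ i, polar Q (f i) a • f i by abel]
    exact B.sum_mem fun i _ => B.smul_mem _ (hfB i)
  have hswB : ∀ b ∈ B, sw.1 b ∈ A := by
    intro b hb
    set A' := A.map (sw.1 : V →ₗ[F] V)
    have hA' : A' = B := by
      refine Submodule.eq_of_le_of_finrank_eq ?_ ?_
      · rintro _ ⟨a, ha, rfl⟩; exact hswA a ha
      · rw [LinearEquiv.finrank_map_eq]; have := hA.2; have := hB.2; omega
    rw [← hA'] at hb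
    obtain ⟨a, ha, rfl⟩ := hb
    have hinv : sw.1 (sw.1 a) = a := by
      have h1 : ∀ x, ∀ j, polar Q (e j) (sw.1 x) - polar Q (f j) (sw.1 x) =
          -(polar Q (e j) x - polar Q (f j) x) := by
        intro x j
        rw [hact, ← polarBilin_apply_apply, ← polarBilin_apply_apply, map_add, map_add, map_sum,
          map_sum]
        have hfe : ∀ i, polar Q (f j) (e i) = if j = i then 1 else 0 := fun i => by
          rw [polar_comm, hH'.pef]; simp [eq_comm]
        simp only [map_smul, map_sub, polarBilin_apply_apply, hH'.pee, hH'.pef, hH'.pff, hfe]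
        simp
      rw [hact (sw.1 a), hact a]
      simp only [← hact a, h1, neg_smul, Finset.sum_neg_distrib]
      rw [hact a]
      abel
    rw [LinearEquiv.coe_coe, hinv]
    exact ha
  have hswM : sw ∈ M := hH _ ((rprod_mem_iff hnd (Or.inr (by omega)) hns).2
    ⟨hlen ▸ hke, by rw [hprod, hke.neg_one_pow]; exact ⟨1, (one_mul _).symm⟩⟩) (Or.inr ⟨hswA, hswB⟩)
  -- a root element outside the stabiliser
  obtain ⟨a, b, hQa, hQb, hab, hkM, aA, haA, aB, haB, haeq, bA, hbA, bB, hbB, hbeq, hind⟩ :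
      ∃ a b : V, ∃ (hQa : Q a = 0) (_ : Q b = 0) (hab : polar Q a b = 0),
        siegel Q a b hQa hab ∈ M ∧ ∃ aA ∈ A, ∃ aB ∈ B, a = aA + aB ∧
          ∃ bA ∈ A, ∃ bB ∈ B, b = bA + bB ∧
            (LinearIndependent F ![aA, bA] ∨ LinearIndependent F ![aB, bB]) := by
    by_contra hcon
    refine hgAB ?_
    have hdep : ∀ a₀ b₀, (a₀ ∈ A ∧ b₀ ∈ B) ∨ (a₀ ∈ B ∧ b₀ ∈ A) → polar Q a₀ b₀ = 0 →
        ∀ sA ∈ A, ∀ sB ∈ B, g.1 a₀ = sA + sB → ∀ tA ∈ A, ∀ tB ∈ B, g.1 b₀ = tA + tB →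
          sA ≠ 0 → sB ≠ 0 → g.1 b₀ ∈ Submodule.span F {sA, sB} := by
      intro a₀ b₀ hor hperp sA hsA sB hsB hs tA htA tB htB ht hsA0 hsB0
      have hQa₀ : Q a₀ = 0 := hor.elim (fun h => hA.1 _ h.1) (fun h => hB.1 _ h.1)
      have hQb₀ : Q b₀ = 0 := hor.elim (fun h => hB.1 _ h.2) (fun h => hA.1 _ h.2)
      have hQ1 : Q (g.1 a₀) = 0 := by rw [map_orth g, hQa₀]
      have hQ2 : Q (g.1 b₀) = 0 := by rw [map_orth g, hQb₀]
      have hp : polar Q (g.1 a₀) (g.1 b₀) = 0 := by rw [polar_orth g, hperp]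
      have hmem : siegel Q (g.1 a₀) (g.1 b₀) hQ1 hp ∈ M := by
        rw [← conj_siegel g a₀ b₀ hQa₀ hperp]
        exact M.mul_mem (M.mul_mem hg (hroot _ _ _ _ hor)) (M.inv_mem hg)
      have hno : ¬ (LinearIndependent F ![sA, tA] ∨ LinearIndependent F ![sB, tB]) := fun hi =>
        hcon ⟨g.1 a₀, g.1 b₀, hQ1, hQ2, hp, hmem, sA, hsA, sB, hsB, hs, tA, htA, tB, htB, ht, hi⟩
      push Not at hno
      obtain ⟨c, hc⟩ := QuadClassify.not_indep_two hsA0 hno.1
      obtain ⟨d, hd⟩ := QuadClassify.not_indep_two hsB0 hno.2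
      rw [ht, ← hc, ← hd]
      exact Submodule.mem_span_pair.2 ⟨c, d, rfl⟩
    have hside : ∀ X Y : Submodule F V, (X = A ∧ Y = B) ∨ (X = B ∧ Y = A) →
        ∀ x ∈ X, g.1 x ∈ A ∨ g.1 x ∈ B := by
      intro X Y hXY x hx
      obtain ⟨sA, hsA, sB, hsB, hs⟩ := hdec (g.1 x)
      by_contra hboth
      push Not at hboth
      have hsA0 : sA ≠ 0 := fun h => hboth.2 (by rw [hs, h, zero_add]; exact hsB)
      have hsB0 : sB ≠ 0 := fun h => hboth.1 (by rw [hs, h, add_zero]; exact hsA)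
      have hle : (Y ⊓ LinearMap.ker (polarBilin Q x)).map (g.1 : V →ₗ[F] V) ≤
          Submodule.span F {sA, sB} := by
        rintro _ ⟨y, hy, rfl⟩
        obtain ⟨tA, htA, tB, htB, ht⟩ := hdec (g.1 y)
        refine hdep x y ?_ hy.2 sA hsA sB hsB hs tA htA tB htB ht hsA0 hsB0
        rcases hXY with ⟨rfl, rfl⟩ | ⟨rfl, rfl⟩
        · exact Or.inl ⟨hx, hy.1⟩
        · exact Or.inr ⟨hx, hy.1⟩
      have h1 := Submodule.finrank_mono hle
      rw [LinearEquiv.finrank_map_eq] at h1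
      have h2 := QuadClassify.finrank_ker_inf Y (polarBilin Q x)
      have h3 : finrank F (Submodule.span F {sA, sB}) ≤ 2 := by
        have := finrank_span_finset_le_card (R := F) (({sA, sB} : Finset V))
        rw [Finset.coe_pair] at this
        exact this.trans Finset.card_le_two
      have := hA.2; have := hB.2
      rcases hXY with ⟨rfl, rfl⟩ | ⟨rfl, rfl⟩ <;> omega
    have hwhole : ∀ X : Submodule F V, (∀ x ∈ X, g.1 x ∈ A ∨ g.1 x ∈ B) →
        (∀ x ∈ X, g.1 x ∈ A) ∨ (∀ x ∈ X, g.1 x ∈ B) := by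
      intro X hX
      by_contra h
      push Not at h
      obtain ⟨⟨x, hx, hxA⟩, y, hy, hyB⟩ := h
      have hxB := (hX x hx).resolve_left hxA
      have hyA := (hX y hy).resolve_right hyB
      rcases hX (x + y) (X.add_mem hx hy) with h | h <;> rw [map_add] at h
      · exact hxA (by simpa using A.sub_mem h hyA)
      · exact hyB (by simpa using B.sub_mem h hxB)
    have hne : ∀ X : Submodule F V, ((∀ a ∈ A, g.1 a ∈ X) ∧ (∀ b ∈ B, g.1 b ∈ X)) →
        X = A ∨ X = B → False := by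
      intro X h hX
      have hall : (⊤ : Submodule F V).map (g.1 : V →ₗ[F] V) ≤ X := by
        rintro _ ⟨z, -, rfl⟩
        obtain ⟨s, hs, t, ht, rfl⟩ := hdec z
        rw [LinearEquiv.coe_coe, map_add]
        exact X.add_mem (h.1 s hs) (h.2 t ht)
      have h1 := Submodule.finrank_mono hall
      rw [LinearEquiv.finrank_map_eq, finrank_top] at h1
      have := hA.2; have := hB.2
      rcases hX with rfl | rfl <;> omega
    rcases hwhole A (hside A B (Or.inl ⟨rfl, rfl⟩)) with h1 | h1 <;>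
      rcases hwhole B (hside B A (Or.inr ⟨rfl, rfl⟩)) with h2 | h2
    · exact (hne A ⟨h1, h2⟩ (Or.inl rfl)).elim
    · exact Or.inl ⟨h1, h2⟩
    · exact Or.inr ⟨h1, h2⟩
    · exact (hne B ⟨h1, h2⟩ (Or.inr rfl)).elim
  -- move to the A side
  obtain ⟨a, b, hQa, hQb, hab, hkM, aA, haA, aB, haB, haeq, bA, hbA, bB, hbB, hbeq, hindA⟩ :
      ∃ a b : V, ∃ (hQa : Q a = 0) (_ : Q b = 0) (hab : polar Q a b = 0),
        siegel Q a b hQa hab ∈ M ∧ ∃ aA ∈ A, ∃ aB ∈ B, a = aA + aB ∧
          ∃ bA ∈ A, ∃ bB ∈ B, b = bA + bB ∧ LinearIndependent F ![aA, bA] := by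
    rcases hind with h | h
    · exact ⟨a, b, hQa, hQb, hab, hkM, aA, haA, aB, haB, haeq, bA, hbA, bB, hbB, hbeq, h⟩
    refine ⟨sw.1 a, sw.1 b, by rw [map_orth sw, hQa], by rw [map_orth sw, hQb],
      by rw [polar_orth sw, hab], ?_, sw.1 aB, hswB _ haB, sw.1 aA, hswA _ haA,
      by rw [haeq, map_add, add_comm], sw.1 bB, hswB _ hbB, sw.1 bA, hswA _ hbA,
      by rw [hbeq, map_add, add_comm], ?_⟩
    · rw [← conj_siegel sw a b hQa hab]
      exact M.mul_mem (M.mul_mem hswM hkM) (M.inv_mem hswM)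
    · rw [LinearIndependent.pair_iff] at h ⊢
      intro s t hst
      rw [← map_smul, ← map_smul, ← map_add, LinearEquiv.map_eq_zero_iff] at hst
      exact h s t hst
  obtain ⟨w₀, hw₀, hΦ⟩ : ∃ w ∈ B, polar Q aA w • bA - polar Q bA w • aA ≠ 0 := by
    by_contra h
    push Not at h
    have h0 : aA ≠ 0 := fun h0 => by
      have h1 := (LinearIndependent.pair_iff.1 hindA 1 0 (by simp [h0])).1
      exact one_ne_zero h1
    refine h0 ?_
    have : aA ∈ A ⊓ B := ⟨haA, mem_of_orth hnd hB fun w hw => by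
      have h1 := h w hw
      rw [sub_eq_add_neg, ← neg_smul] at h1
      exact (polar_comm _ w aA).trans (LinearIndependent.pair_iff.1 hindA (-polar Q bA w)
        (polar Q aA w) (by rw [add_comm]; exact h1)).2⟩
    rw [hAB, Submodule.mem_bot] at this
    exact this
  set y₀ := polar Q aA w₀ • bA - polar Q bA w₀ • aA
  have hy₀A : y₀ ∈ A := A.sub_mem (A.smul_mem _ hbA) (A.smul_mem _ haA)
  obtain ⟨u, hu, huy⟩ : ∃ u ∈ A ⊓ LinearMap.ker (polarBilin Q a) ⊓ LinearMap.ker (polarBilin Q b) ⊓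
      LinearMap.ker (polarBilin Q w₀), u ∉ Submodule.span F {y₀} := by
    by_contra hc
    push Not at hc
    have h4 := Submodule.finrank_mono (show A ⊓ LinearMap.ker (polarBilin Q a) ⊓
      LinearMap.ker (polarBilin Q b) ⊓ LinearMap.ker (polarBilin Q w₀) ≤ Submodule.span F {y₀} from hc)
    rw [finrank_span_singleton hΦ] at h4
    have h1 := QuadClassify.finrank_ker_inf A (polarBilin Q a)
    have h2 := QuadClassify.finrank_ker_inf (A ⊓ LinearMap.ker (polarBilin Q a)) (polarBilin Q b)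
    have h3 := QuadClassify.finrank_ker_inf
      (A ⊓ LinearMap.ker (polarBilin Q a) ⊓ LinearMap.ker (polarBilin Q b)) (polarBilin Q w₀)
    omega
  have huA : u ∈ A := hu.1.1.1
  have hu0 : u ≠ 0 := fun h => huy (h ▸ Submodule.zero_mem _)
  have hQu : Q u = 0 := hA.1 u huA
  have huw : polar Q u w₀ = 0 := (polar_comm _ u w₀).trans hu.2
  have hAu : ∀ z ∈ A, polar Q u z = 0 := fun z hz => polar_of_sing hA.1 huA hz
  -- first element
  have hy₀M : siegel Q u y₀ hQu (hAu y₀ hy₀A) ∈ M := by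
    set k := siegel Q a b hQa hab
    have hku : k.1 u = u := by
      rw [happ a b hQa hQb hab, show polar Q a u = 0 from hu.1.1.2,
        show polar Q b u = 0 from hu.1.2]
      simp
    set sB := w₀ + polar Q aA w₀ • bB - polar Q bA w₀ • aB
    have hsB : sB ∈ B := B.sub_mem (B.add_mem hw₀ (B.smul_mem _ hbB)) (B.smul_mem _ haB)
    have hkw : k.1 w₀ = sB + y₀ := by
      rw [happ a b hQa hQb hab, haeq, hbeq, polar_add_left, polar_add_left,
        polar_of_sing hB.1 haB hw₀, polar_of_sing hB.1 hbB hw₀, add_zero, add_zero, smul_add,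
        smul_add]
      simp only [sB, y₀]
      abel
    have hkuw : polar Q u (sB + y₀) = 0 := by
      rw [← hkw]
      conv_lhs => rw [← hku]
      rw [polar_orth k, huw]
    have hus : polar Q u sB = 0 := by
      rw [polar_add_right, hAu y₀ hy₀A, add_zero] at hkuw; exact hkuw
    have h1 : siegel Q u (sB + y₀) hQu hkuw ∈ M := by
      have hc := conj_siegel k u w₀ hQu huw
      simp only [hku, hkw] at hc
      rw [← hc]
      exact M.mul_mem (M.mul_mem hkM (hroot _ _ _ _ (Or.inl ⟨huA, hw₀⟩))) (M.inv_mem hkM)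
    rw [← siegel_mul hQu hus (hAu y₀ hy₀A)] at h1
    rwa [Subgroup.mul_mem_cancel_left _ (hroot _ _ _ _ (Or.inl ⟨huA, hsB⟩))] at h1
  -- the whole of A
  let P : V → Prop := fun y => ∀ h : polar Q u y = 0, siegel Q u y hQu h ∈ M
  have hPadd : ∀ p r, p ∈ A → r ∈ A → P p → P r → P (p + r) := fun p r hp hr h1 h2 h => by
    rw [← siegel_mul hQu (hAu p hp) (hAu r hr)]
    exact M.mul_mem (h1 _) (h2 _)
  have hPsub : ∀ p r, p ∈ A → r ∈ A → P (p + r) → P p → P r := fun p r hp hr h1 h2 h => by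
    have := h1 (by rw [polar_add_right, hAu p hp, hAu r hr, add_zero])
    rw [← siegel_mul hQu (hAu p hp) (hAu r hr)] at this
    exact (Subgroup.mul_mem_cancel_left _ (h2 _)).1 this
  have hPk : ∀ k ∈ M, k.1 u = u → ∀ y ∈ A, P y → P (k.1 y) := by
    intro k hkM hku y hy hP h
    have hc := conj_siegel k u y hQu (hAu y hy)
    simp only [hku] at hc
    rw [← hc]
    exact M.mul_mem (M.mul_mem hkM (hP _)) (M.inv_mem hkM)
  have hstep : ∀ y ∈ A, P y → ∀ b' ∈ B, polar Q b' u = 0 → polar Q b' y = 1 →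
      ∀ z ∈ A, polar Q b' z = 0 → P z := by
    intro y hy hP b' hb' hbu hby z hz hbz
    have hk := hroot z b' (hA.1 z hz) ((polar_comm _ z b').trans hbz) (Or.inl ⟨hz, hb'⟩)
    have hkx : ∀ x ∈ A, (siegel Q z b' (hA.1 z hz) ((polar_comm _ z b').trans hbz)).1 x =
        x - polar Q b' x • z := fun x hx => by
      rw [happ _ _ _ (hB.1 b' hb'), polar_of_sing hA.1 hz hx, zero_smul, add_zero]
    have h := hPk _ hk (by rw [hkx u huA, hbu, zero_smul, sub_zero]) y hy hP
    rw [hkx y hy, hby, one_smul] at h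
    exact hPsub _ _ (A.sub_mem hy hz) hz (by rwa [sub_add_cancel]) h
  have hsep : ∀ y ∈ A, y ∉ Submodule.span F {u} →
      ∃ b' ∈ B, polar Q b' u = 0 ∧ polar Q b' y = 1 := by
    intro y hy hyu
    obtain ⟨φ, hφy, hφu⟩ := Submodule.exists_dual_map_eq_bot_of_notMem hyu inferInstance
    obtain ⟨b', hb', hb''⟩ := exists_dual hnd hA hB hAB ((φ y)⁻¹ • φ)
    have hφu' : φ u = 0 := by
      have := Submodule.mem_map_of_mem (f := φ) (Submodule.mem_span_singleton_self u)
      rwa [hφu, Submodule.mem_bot] at this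
    exact ⟨b', hb', by rw [hb'' u huA]; simp [hφu'], by rw [hb'' y hy]; simp [inv_mul_cancel₀ hφy]⟩
  have hy₀u : y₀ ∉ Submodule.span F {u} := fun h => by
    obtain ⟨c, hc⟩ := Submodule.mem_span_singleton.1 h
    rcases eq_or_ne c 0 with rfl | hc0
    · exact hΦ (by simpa using hc.symm)
    · exact huy (Submodule.mem_span_singleton.2 ⟨c⁻¹, by rw [← hc, smul_smul, inv_mul_cancel₀ hc0, one_smul]⟩)
  obtain ⟨b₁, hb₁, hb₁u, hb₁y⟩ := hsep y₀ hy₀A hy₀u
  have hP₁ := hstep y₀ hy₀A (fun _ => hy₀M) b₁ hb₁ hb₁u hb₁y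
  obtain ⟨y₁, hy₁, hy₁u⟩ : ∃ y₁ ∈ A ⊓ LinearMap.ker (polarBilin Q b₁), y₁ ∉ Submodule.span F {u} := by
    by_contra hc
    push Not at hc
    have h4 := Submodule.finrank_mono
      (show A ⊓ LinearMap.ker (polarBilin Q b₁) ≤ Submodule.span F {u} from hc)
    rw [finrank_span_singleton hu0] at h4
    have h1 := QuadClassify.finrank_ker_inf A (polarBilin Q b₁)
    omega
  obtain ⟨b₂, hb₂, hb₂u, hb₂y⟩ := hsep y₁ hy₁.1 hy₁u
  have hP₂ := hstep y₁ hy₁.1 (hP₁ y₁ hy₁.1 hy₁.2) b₂ hb₂ hb₂u hb₂y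
  have hPall : ∀ z ∈ A, P z := by
    intro z hz
    have e1 : polar Q b₂ (polar Q b₂ z • y₁) = polar Q b₂ z := by
      rw [polar_smul_right, hb₂y, smul_eq_mul, mul_one]
    have h1 := hPadd (z - polar Q b₂ z • y₁) (polar Q b₂ z • y₁)
      (A.sub_mem hz (A.smul_mem _ hy₁.1)) (A.smul_mem _ hy₁.1)
      (hP₂ _ (A.sub_mem hz (A.smul_mem _ hy₁.1)) (by rw [polar_sub_right, e1, sub_self]))
      (hP₁ _ (A.smul_mem _ hy₁.1) (by
        rw [polar_smul_right, show polar Q b₁ y₁ = 0 from hy₁.2, smul_zero]))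
    rwa [sub_add_cancel] at h1
  have hfull : Full M u := by
    intro w hu' hw
    obtain ⟨s, hs, t, ht, rfl⟩ := hdec w
    have hut : polar Q u t = 0 := by rw [polar_add_right, hAu s hs, zero_add] at hw; exact hw
    rw [← siegel_mul hu' (hAu s hs) hut]
    exact M.mul_mem (hPall s hs (hAu s hs)) (hroot _ _ _ _ (Or.inl ⟨huA, ht⟩))
  -- an opposite full vector
  by_cases huf : polar Q u (sw.1 u) = 0
  · have hsu : sw.1 u ∈ B := hswA u huA
    obtain ⟨b', hb', hb'u⟩ : ∃ b' ∈ B, polar Q b' u = 1 := by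
      obtain ⟨φ, hφ, -⟩ := Submodule.exists_dual_map_eq_bot_of_notMem
        (show u ∉ (⊥ : Submodule F V) from fun h => hu0 ((Submodule.mem_bot F).1 h)) inferInstance
      obtain ⟨b', hb', hb''⟩ := exists_dual hnd hA hB hAB ((φ u)⁻¹ • φ)
      exact ⟨b', hb', by rw [hb'' u huA]; simp [inv_mul_cancel₀ hφ]⟩
    obtain ⟨a', ha', ha'u⟩ : ∃ a' ∈ A ⊓ LinearMap.ker (polarBilin Q b'),
        polar Q a' (sw.1 u) ≠ 0 := by
      by_contra hc
      push Not at hc
      have hmem : sw.1 u ∈ A ⊓ B := by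
        refine ⟨mem_of_orth hnd hA fun z hz => ?_, hsu⟩
        have := hc (z - polar Q b' z • u) ⟨A.sub_mem hz (A.smul_mem _ huA), by
          show polar Q b' (z - polar Q b' z • u) = 0
          rw [polar_sub_right, polar_smul_right, hb'u, smul_eq_mul, mul_one, sub_self]⟩
        rwa [polar_sub_left, polar_smul_left, huf, smul_zero, sub_zero] at this
      rw [hAB, Submodule.mem_bot] at hmem
      exact hu0 (sw.1.map_eq_zero_iff.1 hmem)
    have hp : polar Q a' b' = 0 := (polar_comm _ a' b').trans ha'.2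
    have hk := hroot a' b' (hA.1 _ ha'.1) hp (Or.inl ⟨ha'.1, hb'⟩)
    set k := siegel Q a' b' (hA.1 _ ha'.1) hp
    have hku : k.1 u = u - a' := by
      rw [happ _ _ _ (hB.1 b' hb'), polar_of_sing hA.1 ha'.1 huA, zero_smul, add_zero, hb'u, one_smul]
    refine commutator_le_of_full hnd hn (u := k.1 u) (f := sw.1 u) (by rw [map_orth k, hQu])
      (by rw [map_orth sw, hQu]) ?_ (hfull.of_mem hk) (hfull.of_mem hswM)
    rw [hku, polar_sub_left, huf, zero_sub, neg_ne_zero]
    exact ha'u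
  · exact commutator_le_of_full hnd hn hQu (by rw [map_orth sw, hQu]) huf hfull
      (hfull.of_mem hswM)

end Cfsg.Agent.OmegaStabPair
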