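import Cfsg.Agent.Lib.OmegaNondegMax11
import Cfsg.Agent.Lib.OmegaStabNondegGlue
import Cfsg.Agent.Lib.OmegaStabSingular
import Cfsg.Agent.Lib.OmegaStabNonsingular
import Cfsg.Agent.Lib.OmegaFivePlusGlue58
import Cfsg.Agent.Lib.OmegaFivePlanesGlue58
import Cfsg.Agent.Lib.OmegaDecompGlue
import Cfsg.Agent.Lib.AschEvenType44
import Cfsg.Agent.Lib.ExtFieldOrthGlue
import Cfsg.Agent.Lib.OrthSubfieldMax44

/-!
Geometric maximal subgroups of the ten-dimensional orthogonal groups: shared clauses.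
-/

set_option autoImplicit false

namespace Cfsg.Agent.OmegaTenGeo58

open QuadraticMap Module
open Cfsg.Agent.OrthUnitaryQuad Cfsg.Agent.OrthUnitaryPrelude Cfsg.Agent.OmegaClasses
  Cfsg.Agent.OmegaGeo Cfsg.Agent.OmegaMaxGlue Cfsg.Agent.OmegaStabNondeg

variable {F : Type*} [Field F] [Fintype F] {q : QuadraticForm F (Fin 10 → F)}

omit [Fintype F] in
theorem finrank_ten : finrank F (Fin 10 → F) = 10 := by simp

theorem two_ne_zero_of_odd (hodd : Odd (Fintype.card F)) : (2 : F) ≠ 0 :=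
  Ring.two_ne_zero fun h =>
    (Nat.not_even_iff_odd.2 hodd) (FiniteField.even_card_iff_char_two.1 h |> Nat.even_iff.2)

/-- Stabilisers of non-degenerate subspaces of dimension other than five. -/
theorem nondeg (hnd : (polarBilin q).Nondegenerate) {W : Submodule F (Fin 10 → F)} (hW0 : W ≠ ⊥)
    (hW1 : W ≠ ⊤) (hhalf : finrank F W ≠ 5) (hW : Cfsg.Geo.IsNondegenerateOn (polar q) W)
    (hex : ¬ (Fintype.card F ≤ 3 ∧ ((finrank F W = 2 ∧ Cfsg.Geo.IsPlusTypeOn (⇑q) W) ∨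
      finrank F W = 8))) :
    Cfsg.Geo.IsMaximalIn (Cfsg.Geo.omegaGL ⇑q)
      (Cfsg.Geo.subspaceStabilizer W ⊓ Cfsg.Geo.omegaGL ⇑q) := by
  classical
  have hd := finrank_ten (F := F)
  refine OmegaNondegMax11.isMaximalIn hnd hW hW0 hW1 (by omega) (fun h => by omega)
    (fun _ h => by omega) (fun h => by omega) ?_
  rintro ⟨h3, U, hU, -, hp, rfl | ⟨-, hsum⟩⟩
  · exact hex ⟨h3, Or.inl ⟨hU, hp⟩⟩
  · exact hex ⟨h3, Or.inr (by omega)⟩

/-- Stabilisers of non-singular vectors. -/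
theorem nonsingular (hnd : (polarBilin q).Nondegenerate) {v : Fin 10 → F} (hv : q v ≠ 0)
    (hchar : ¬ Odd (Fintype.card F)) :
    Cfsg.Geo.IsMaximalIn (Cfsg.Geo.omegaGL ⇑q)
      (Cfsg.Geo.subspaceStabilizer (Submodule.span F {v}) ⊓ Cfsg.Geo.omegaGL ⇑q) := by
  classical
  have hd := finrank_ten (F := F)
  exact isMaximalIn_stabilizer (OmegaStabNonsingular.exists_move hnd (by omega) hv)
    fun M hM g hg _ hgW => OmegaStabNonsingular.commutator_le hnd (by omega) hv M hM hg hgW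

/-- Decompositions into two isometric five-spaces. -/
theorem halves (hnd : (polarBilin q).Nondegenerate) {D : Fin 2 → Submodule F (Fin 10 → F)}
    (hD : Cfsg.Geo.IsOrthogonalMDecomposition (⇑q) 5 D) :
    Cfsg.Geo.IsMaximalIn (Cfsg.Geo.omegaGL ⇑q)
      (Cfsg.Geo.decompositionStabilizer D ⊓ Cfsg.Geo.omegaGL ⇑q) := by
  classical
  have hd := finrank_ten (F := F)
  exact OmegaDecompGlue.isMaximalIn hnd hD ⟨by omega, le_rfl, by omega, fun h => by omega,
    fun h => by omega, fun h => by omega, fun _ h => by omega⟩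

/-- Decompositions into two five-spaces that are not isometric. -/
theorem unlikeHalves (hnd : (polarBilin q).Nondegenerate) {D : Fin 2 → Submodule F (Fin 10 → F)}
    (hD : Cfsg.Geo.IsNondegenerateMDecomposition (polar ⇑q) 5 D)
    (hni : ¬ Cfsg.Geo.AreIsometricFor (⇑q) (D 0) (D 1)) :
    Cfsg.Geo.IsMaximalIn (Cfsg.Geo.omegaGL ⇑q)
      (Cfsg.Geo.decompositionStabilizer D ⊓ Cfsg.Geo.omegaGL ⇑q) := by
  classical
  have hd := finrank_ten (F := F)
  obtain ⟨hM2, hND, horth⟩ := hD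
  have hk0 := hM2.finrank_eq 0
  have hk1 := hM2.finrank_eq 1
  have h01 : ∀ s : Fin 2, s = 0 ∨ s = 1 := by decide
  have hperp : perp q (D 0) = D 1 := by
    symm
    refine Submodule.eq_of_le_of_finrank_eq
      (fun x hx w hw => horth 0 1 (by decide) w hw x hx) ?_
    rw [OmegaStabSingular.finrank_orth hnd]
    omega
  have hswap : ∀ g : orth q, (∀ x ∈ D 0, g.1 x ∈ D 1) → False := by
    intro g hg
    have heq : (D 0).map (g.1 : (Fin 10 → F) →ₗ[F] (Fin 10 → F)) = D 1 := by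
      refine Submodule.eq_of_le_of_finrank_eq ?_ (by rw [LinearEquiv.finrank_map_eq, hk0, hk1])
      rintro _ ⟨x, hx, rfl⟩
      exact hg x hx
    exact hni ⟨g.1.ofSubmodules _ _ heq, fun x => map_orth g x.1⟩
  have heq : Cfsg.Geo.decompositionStabilizer D ⊓ Cfsg.Geo.omegaGL ⇑q =
      Cfsg.Geo.subspaceStabilizer (D 0) ⊓ Cfsg.Geo.omegaGL ⇑q := by
    have hlin : ∀ (c : orth q) (X : Submodule F (Fin 10 → F)),
        X.map (Matrix.toLin' ((toGL q c : GL (Fin 10) F) : Matrix (Fin 10) (Fin 10) F)) =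
          X.map (c.1 : (Fin 10 → F) →ₗ[F] (Fin 10 → F)) := fun c X => by
      congr 1
      exact LinearMap.ext fun x => by rw [LinearEquiv.coe_coe, Matrix.toLin'_apply, toGL_mulVec]
    apply le_antisymm
    · rintro g ⟨⟨σ, hσ⟩, hgΩ⟩
      refine ⟨?_, hgΩ⟩
      obtain ⟨c, hc, rfl⟩ := exists_of_mem_omegaGL hgΩ
      refine toGL_mem_stabilizer_iff.2 ?_
      have h0 := hσ 0
      rw [hlin] at h0
      rcases h01 (σ 0) with hs | hs
      · rw [h0, hs]
      · exact (hswap c fun x hx => by rw [← hs, ← h0]; exact Submodule.mem_map_of_mem hx).elim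
    · rintro g ⟨hg, hgΩ⟩
      refine ⟨⟨1, fun i => ?_⟩, hgΩ⟩
      obtain ⟨c, hc, rfl⟩ := exists_of_mem_omegaGL hgΩ
      have h0 := toGL_mem_stabilizer_iff.1 hg
      rw [hlin, Equiv.Perm.one_apply]
      rcases h01 i with rfl | rfl
      · exact h0
      · refine OmegaStabSingular.map_eq_of_forall fun x hx => ?_
        rw [← hperp] at hx ⊢
        intro w hw
        rw [← h0] at hw
        obtain ⟨w', hw', rfl⟩ := hw
        show QuadraticMap.polar q (c.1 w') (c.1 x) = 0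
        rw [polar_orth c]
        exact hx w' hw'
  rw [heq]
  refine OmegaNondegMax11.isMaximalIn hnd (hND 0) (fun h => ?_) (fun h => ?_) (by omega)
    (fun h => by omega) (fun _ h => by omega)
    (fun _ g hg => hswap g fun x hx => hperp ▸ hg x hx) ?_
  · rw [h, finrank_bot] at hk0; omega
  · rw [h, finrank_top, hd] at hk0; omega
  · rintro ⟨-, U, hU, -, -, rfl | ⟨-, hsum⟩⟩ <;> omega

/-- Normalisers of self-adjoint subfields of degree two. -/
theorem selfAdjoint (hnd : (polarBilin q).Nondegenerate) (hodd : Odd (Fintype.card F))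
    (K : Subalgebra F (Matrix (Fin 10) (Fin 10) F)) (hK : Cfsg.Geo.IsFieldSubalgebra 2 K)
    (hsa : Cfsg.Geo.IsSelfAdjointFor (polar ⇑q) K) :
    Cfsg.Geo.IsMaximalIn (Cfsg.Geo.omegaGL ⇑q)
      (Cfsg.Geo.subalgebraNormalizer K ⊓ Cfsg.Geo.omegaGL ⇑q) :=
  ExtFieldOrthGlue.isMaximalIn q hnd (two_ne_zero_of_odd hodd) Nat.prime_two K hK hsa (by simp)
    (by simp)

/-- Subfield groups. -/
theorem subfield (hnd : (polarBilin q).Nondegenerate) (F₀ : Subfield F) {r : ℕ} (hr : r.Prime)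
    (hcard : Fintype.card F = Nat.card F₀ ^ r) (P : Matrix.GeneralLinearGroup (Fin 10) F) {ζ : F}
    (hζ : ζ ≠ 0)
    (hP : Cfsg.Geo.IsQuadFormRationalStructure (fun v : Fin 10 → F => ζ * q v) F₀ P) :
    Cfsg.Geo.IsMaximalIn (Cfsg.Geo.omegaGL ⇑q)
      (Cfsg.Geo.subfieldSubgroup F₀ P ⊓ Cfsg.Geo.omegaGL ⇑q) := by
  rw [← OrthSubfieldMax44.omegaGL_smul hζ ⇑q]
  have hnd' : (polarBilin (ζ • q)).Nondegenerate := by
    have h : ∀ v w, polar (⇑(ζ • q)) v w = ζ * polar (⇑q) v w := fun v w => by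
      simp only [QuadraticMap.polar, QuadraticMap.smul_apply, smul_eq_mul]; ring
    exact ⟨fun v hv => hnd.1 v fun w => (mul_eq_zero.1 ((h v w).symm.trans (hv w))).resolve_left hζ,
      fun v hv => hnd.2 v fun w => (mul_eq_zero.1 ((h w v).symm.trans (hv w))).resolve_left hζ⟩
  exact OrthSubfieldMax44.isMaximalIn (ζ • q) hnd' (by simp) F₀ r hr hcard P hP

/-- Decompositions into five hyperbolic planes. -/
theorem plusPlanes (hnd : (polarBilin q).Nondegenerate) (hplus : Cfsg.Geo.IsPlusTypeOn (⇑q) ⊤)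
    (h7 : 7 ≤ Fintype.card F) {D : Fin 5 → Submodule F (Fin 10 → F)}
    (hD : Cfsg.Geo.IsOrthogonalMDecomposition (⇑q) 2 D) :
    Cfsg.Geo.IsMaximalIn (Cfsg.Geo.omegaGL ⇑q)
      (Cfsg.Geo.decompositionStabilizer D ⊓ Cfsg.Geo.omegaGL ⇑q) := by
  classical
  have hd := finrank_ten (F := F)
  have hdec := OmegaDecompGlue.dec_of_decomposition hD
  exact OmegaFivePlusGlue58.isMaximalIn hnd hD ⟨hdec, fun i =>
    OmegaFivePlusGlue58.exists_singular_of_plus (by rw [hdec.dim]; omega)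
      (((AschEvenType44.plus_iff_members (j := 1) hnd hD i).1 hplus).resolve_right (by decide)),
    le_rfl, by omega, h7⟩

/-- Decompositions into five anisotropic planes. -/
theorem minusPlanes (hnd : (polarBilin q).Nondegenerate)
    (hminus : ¬ Cfsg.Geo.IsPlusTypeOn (⇑q) ⊤) (h3 : Fintype.card F ≠ 3)
    {D : Fin 5 → Submodule F (Fin 10 → F)}
    (hD : Cfsg.Geo.IsOrthogonalMDecomposition (⇑q) 2 D) :
    Cfsg.Geo.IsMaximalIn (Cfsg.Geo.omegaGL ⇑q)
      (Cfsg.Geo.decompositionStabilizer D ⊓ Cfsg.Geo.omegaGL ⇑q) := by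
  classical
  have hd := finrank_ten (F := F)
  have hdec := OmegaDecompGlue.dec_of_decomposition hD
  exact OmegaFivePlanesGlue58.isMaximalIn hnd hD ⟨hdec, fun i =>
    OmegaFivePlanesGlue58.aniso_of_not_plus (hdec.dim i) fun hp =>
      hminus ((AschEvenType44.plus_iff_members (j := 1) hnd hD i).2 (Or.inl hp)),
    le_rfl, by omega, h3⟩

end Cfsg.Agent.OmegaTenGeo58
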