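import Mathlib
import Cfsg.Agent.S2475
import Cfsg.Agent.Lib.PSL2Small
import Cfsg.Agent.Lib.SuzukiGroupLie
import Cfsg.Agent.Lib.SuzukiGroupTori

/-!
Simple groups `PSL₂(q)` and `Sz(q)` with at most one composite element order.
-/

set_option autoImplicit false

namespace Cfsg.Agent.OneComposite91

/-- At most one element order is composite. -/
def One (G : Type*) [Group G] : Prop :=
  {n : ℕ | n ∈ Set.range (orderOf : G → ℕ) ∧ 1 < n ∧ ¬ n.Prime}.Subsingleton

theorem One.of_equiv {G H : Type*} [Group G] [Group H] (h : One G) (e : G ≃* H) : One H := by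
  rintro a ⟨⟨x, rfl⟩, ha⟩ b ⟨⟨y, rfl⟩, hb⟩
  exact h ⟨⟨e.symm x, by rw [e.symm.orderOf_eq]⟩, ha⟩ ⟨⟨e.symm y, by rw [e.symm.orderOf_eq]⟩, hb⟩

/-- A number with a single composite divisor, and none composite other than it, is a product of
two primes. -/
theorem mul_prime_of_one {c d : ℕ} (hd : d.Prime) (hdc : d ∣ c) (hne : d ≠ c) (hc : 0 < c)
    (h : ∀ k, k ∣ c → 1 < k → ¬ k.Prime → k = c) : ∃ e, e.Prime ∧ c = d * e := by
  obtain ⟨e, rfl⟩ := hdc
  refine ⟨e, ?_, rfl⟩
  by_contra hp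
  have h1 : 1 < e := by
    rcases Nat.lt_trichotomy e 1 with h | h | h
    · interval_cases e; omega
    · subst h; omega
    · exact h
  have := h e (dvd_mul_left e d) h1 hp
  have := hd.two_le
  nlinarith

/-- The number theory in odd characteristic. -/
theorem odd_cases {q p n : ℕ} (hp : p.Prime) (hq : q = p ^ n) (hodd : Odd q) (h5 : 5 ≤ q)
    (h : ∀ a b : ℕ, (a ∣ (q - 1) / 2 ∨ a ∣ (q + 1) / 2) → (b ∣ (q - 1) / 2 ∨ b ∣ (q + 1) / 2) →
      1 < a → ¬ a.Prime → 1 < b → ¬ b.Prime → a = b) :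
    q = 5 ∨ q = 7 ∨ q = 9 ∨ q = 11 ∨ q = 13 ∨
      ∃ r s : ℕ, r.Prime ∧ s.Prime ∧ 3 ^ n - 1 = 2 * r ∧ 3 ^ n + 1 = 4 * s ∧ q = 3 ^ n := by
  obtain ⟨k, hk⟩ := hodd
  have ha : (q - 1) / 2 = k := by omega
  have hb : (q + 1) / 2 = k + 1 := by omega
  rw [ha, hb] at h
  have hk2 : 2 ≤ k := by omega
  have hboth : k.Prime ∨ (k + 1).Prime := by
    by_contra hc
    push Not at hc
    have := h k (k + 1) (Or.inl dvd_rfl) (Or.inr dvd_rfl) (by omega) hc.1 (by omega) hc.2
    omega
  have hhalf : ∀ e : ℕ, (e = k ∨ e = k + 1) → Even e → 2 < e → ∃ P, P.Prime ∧ e = 2 * P := by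
    intro e he hev h2
    have hnp : ¬ e.Prime := fun hp' => by
      have := (Nat.Prime.even_iff hp').1 hev
      omega
    refine mul_prime_of_one Nat.prime_two hev.two_dvd (by omega) (by omega) fun j hj h1 hjp => ?_
    rcases he with rfl | rfl
    · exact h j _ (Or.inl hj) (Or.inl dvd_rfl) h1 hjp (by omega) hnp
    · exact h j _ (Or.inr hj) (Or.inr dvd_rfl) h1 hjp (by omega) hnp
  have h3 : p ≠ 3 → 3 ∣ k ∨ 3 ∣ k + 1 := by
    intro hp3
    have : ¬ 3 ∣ q := by
      rw [hq]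
      exact fun h' => hp3 ((Nat.prime_dvd_prime_iff_eq Nat.prime_three hp).1
        (Nat.prime_three.dvd_of_dvd_pow h')).symm
    rw [Nat.dvd_iff_mod_eq_zero] at this
    rw [Nat.dvd_iff_mod_eq_zero, Nat.dvd_iff_mod_eq_zero]
    have hk3 : k % 3 = 0 ∨ k % 3 = 1 ∨ k % 3 = 2 := by omega
    rcases hk3 with e | e | e <;> omega
  rcases Nat.even_or_odd k with hev | hod
  · rcases eq_or_lt_of_le hk2 with rfl | h2
    · left; omega
    obtain ⟨P, hP, hkP⟩ := hhalf k (Or.inl rfl) hev h2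
    have ho : (k + 1).Prime := hboth.resolve_left fun hp' => by
      have := (Nat.Prime.even_iff hp').1 hev; omega
    rcases hP.eq_two_or_odd with rfl | hPo
    · right; right; left; omega
    rcases eq_or_ne p 3 with rfl | hp3
    · exfalso
      have hq' : q % 8 = 1 ∨ q % 8 = 3 := by
        rw [hq, Nat.pow_mod]
        clear * -
        induction n with
        | zero => left; rfl
        | succ n ih => rcases ih with h | h <;> simp [pow_succ, Nat.mul_mod, h]
      omega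
    rcases h3 hp3 with h3 | h3
    · rw [hkP] at h3
      rcases Nat.prime_three.dvd_mul.1 h3 with h' | h'
      · omega
      · have := (Nat.prime_dvd_prime_iff_eq Nat.prime_three hP).1 h'
        right; right; right; right; left; omega
    · have := (Nat.prime_dvd_prime_iff_eq Nat.prime_three ho).1 h3
      omega
  · obtain ⟨P, hP, hkP⟩ := hhalf (k + 1) (Or.inr rfl) hod.add_one (by omega)
    have ho : k.Prime := hboth.resolve_right fun hp' => by
      have := (Nat.Prime.even_iff hp').1 hod.add_one; omega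
    rcases hP.eq_two_or_odd with rfl | hPo
    · right; left; omega
    rcases eq_or_ne p 3 with rfl | hp3
    · right; right; right; right; right
      exact ⟨k, P, ho, hP, by rw [← hq]; omega, by rw [← hq]; omega, hq⟩
    rcases h3 hp3 with h3 | h3
    · have := (Nat.prime_dvd_prime_iff_eq Nat.prime_three ho).1 h3
      omega
    · rw [hkP] at h3
      rcases Nat.prime_three.dvd_mul.1 h3 with h' | h'
      · omega
      · have := (Nat.prime_dvd_prime_iff_eq Nat.prime_three hP).1 h'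
        right; right; right; left; omega

/-- The number theory in characteristic two. -/
theorem even_cases {n : ℕ} (hn : 2 ≤ n)
    (h : ∀ a b : ℕ, (a ∣ 2 ^ n - 1 ∨ a ∣ 2 ^ n + 1) → (b ∣ 2 ^ n - 1 ∨ b ∣ 2 ^ n + 1) →
      1 < a → ¬ a.Prime → 1 < b → ¬ b.Prime → a = b) :
    n = 2 ∨ n = 4 ∨ ∃ r : ℕ, (2 ^ n - 1).Prime ∧ r.Prime ∧ 2 ^ n + 1 = 3 * r := by
  have hq4 : 4 ≤ 2 ^ n := by
    calc (4 : ℕ) = 2 ^ 2 := rfl
      _ ≤ 2 ^ n := Nat.pow_le_pow_right two_pos hn
  have hboth : ¬ (2 ^ n - 1).Prime → (2 ^ n + 1).Prime := by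
    intro hc
    by_contra hc'
    have := h _ _ (Or.inl dvd_rfl) (Or.inr dvd_rfl) (by omega) hc (by omega) hc'
    omega
  rcases Nat.even_or_odd n with ⟨k, rfl⟩ | hod
  · rcases eq_or_lt_of_le hn with h2 | h2
    · exact Or.inl h2.symm
    right; left
    have hk2 : 4 ≤ 2 ^ k := by
      calc (4 : ℕ) = 2 ^ 2 := rfl
        _ ≤ 2 ^ k := Nat.pow_le_pow_right two_pos (by omega)
    have hfac : 2 ^ (k + k) - 1 = (2 ^ k - 1) * (2 ^ k + 1) := by
      rw [pow_add]
      zify [Nat.one_le_two_pow (n := k), Nat.one_le_iff_ne_zero.2 (Nat.mul_ne_zero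
        (pow_ne_zero k two_ne_zero) (pow_ne_zero k two_ne_zero))]
      ring
    have hnp : ¬ (2 ^ (k + k) - 1).Prime := by
      rw [hfac]
      exact Nat.not_prime_mul (by omega) (by omega)
    have huniq : ∀ j, j ∣ 2 ^ (k + k) - 1 → 1 < j → j ≠ 2 ^ (k + k) - 1 → j.Prime := by
      intro j hj h1 hne
      by_contra hjp
      exact hne (h j _ (Or.inl hj) (Or.inl dvd_rfl) h1 hjp (by omega) hnp)
    have hA : (2 ^ k - 1).Prime := huniq _ (hfac ▸ dvd_mul_right _ _) (by omega) (by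
      rw [hfac]
      intro he
      have h9 := congrArg id he
      obtain ⟨c, hc⟩ := Nat.exists_eq_add_of_le hk2
      rw [show 2 ^ k - 1 = 3 + c by omega, hc] at he
      nlinarith)
    have hB : (2 ^ k + 1).Prime := huniq _ (hfac ▸ dvd_mul_left _ _) (by omega) (by
      rw [hfac]
      have : 2 ≤ 2 ^ k - 1 := by omega
      nlinarith)
    have h3 : 3 ∣ 2 ^ k - 1 ∨ 3 ∣ 2 ^ k + 1 := by
      have : ¬ 3 ∣ 2 ^ k := fun h' => absurd (Nat.prime_three.dvd_of_dvd_pow h') (by norm_num)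
      omega
    have hk : 2 ^ k = 2 ^ 2 := by
      rcases h3 with h3 | h3
      · have := (Nat.prime_dvd_prime_iff_eq Nat.prime_three hA).1 h3; omega
      · have := (Nat.prime_dvd_prime_iff_eq Nat.prime_three hB).1 h3; omega
    have := Nat.pow_right_injective (le_refl 2) hk
    omega
  · right; right
    have h3 : 3 ∣ 2 ^ n + 1 := by
      obtain ⟨j, rfl⟩ := hod
      have : (2 ^ (2 * j + 1)) % 3 = 2 := by
        rw [pow_succ, pow_mul, Nat.mul_mod, Nat.pow_mod]; norm_num
      rw [Nat.dvd_iff_mod_eq_zero]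
      generalize 2 ^ (2 * j + 1) = x at this ⊢; omega
    have hn3 : 8 ≤ 2 ^ n := by
      obtain ⟨j, rfl⟩ := hod
      calc (8 : ℕ) = 2 ^ 3 := rfl
        _ ≤ _ := Nat.pow_le_pow_right two_pos (by omega)
    have hb : ¬ (2 ^ n + 1).Prime := fun hp => by
      have := (Nat.prime_dvd_prime_iff_eq Nat.prime_three hp).1 h3; omega
    have ha : (2 ^ n - 1).Prime := by
      by_contra hc; exact hb (hboth hc)
    obtain ⟨r, hr, hbr⟩ := mul_prime_of_one (c := 2 ^ n + 1) Nat.prime_three h3 (by omega) (by omega)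
      fun j hj h1 hjp => h j _ (Or.inr hj) (Or.inr dvd_rfl) h1 hjp (by omega) hb
    exact ⟨r, ha, hr, hbr⟩

/-- The conclusion for two-dimensional groups. -/
theorem psl_cases {G : Type*} [Group G] [IsSimpleGroup G] (h : One G)
    (F : Type) [Field F] [Fintype F]
    (e : G ≃* Matrix.ProjectiveSpecialLinearGroup (Fin 2) F) :
    (∃ (F : Type) (_ : Field F) (_ : Fintype F), (Fintype.card F = 5 ∨ Fintype.card F = 7 ∨
        Fintype.card F = 8 ∨ Fintype.card F = 9 ∨ Fintype.card F = 11 ∨ Fintype.card F = 13 ∨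
        Fintype.card F = 16) ∧ Nonempty (G ≃* Matrix.ProjectiveSpecialLinearGroup (Fin 2) F)) ∨
    (∃ (F : Type) (_ : Field F) (_ : Fintype F), ∃ n r s : ℕ, r.Prime ∧ s.Prime ∧
        3 ^ n - 1 = 2 * r ∧ 3 ^ n + 1 = 4 * s ∧ Fintype.card F = 3 ^ n ∧
        Nonempty (G ≃* Matrix.ProjectiveSpecialLinearGroup (Fin 2) F)) ∨
    (∃ (F : Type) (_ : Field F) (_ : Fintype F), ∃ n r : ℕ, (2 ^ n - 1).Prime ∧ r.Prime ∧
        2 ^ n + 1 = 3 * r ∧ Fintype.card F = 2 ^ n ∧
        Nonempty (G ≃* Matrix.ProjectiveSpecialLinearGroup (Fin 2) F)) := by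
  classical
  obtain ⟨p, n, hp, hq⟩ : ∃ (p : ℕ) (n : ℕ+), p.Prime ∧ Fintype.card F = p ^ (n : ℕ) := by
    obtain ⟨p, hc⟩ := CharP.exists F
    obtain ⟨n, hp, hn⟩ := FiniteField.card F p
    exact ⟨p, n, hp, hn⟩
  haveI := Fact.mk hp
  haveI : CharP F p := by
    obtain ⟨p', hc⟩ := CharP.exists F
    obtain ⟨n', hp', hn'⟩ := FiniteField.card F p'
    have : p' = p := (Nat.prime_dvd_prime_iff_eq hp' hp).1
      (hp'.dvd_of_dvd_pow (hq ▸ hn'.symm ▸ dvd_pow_self p' n'.pos.ne'))
    exact this ▸ hc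
  haveI := e.isSimpleGroup_congr.1 ‹IsSimpleGroup G›
  have hq4 : 4 ≤ Fintype.card F := by
    by_contra hc
    have h2 := Fintype.one_lt_card (α := F)
    rcases (show Fintype.card F = 2 ∨ Fintype.card F = 3 by omega) with h2 | h2
    · obtain ⟨f⟩ := PSL2Small.psl2_two F (by rw [Nat.card_eq_fintype_card, h2])
      haveI := f.isSimpleGroup_congr.1 ‹_›
      have h6 : Nat.card (Equiv.Perm (Fin 3)) = 6 := by rw [Nat.card_perm, Nat.card_fin]; rfl
      have h3 : Nat.card (alternatingGroup (Fin 3)) = 3 := by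
        rw [nat_card_alternatingGroup, Nat.card_fin]; rfl
      rcases (inferInstance : (alternatingGroup (Fin 3)).Normal).eq_bot_or_eq_top with h | h
      · rw [h, Subgroup.card_bot] at h3; omega
      · rw [h, Subgroup.card_top, h6] at h3; omega
    · obtain ⟨f⟩ := PSL2Small.psl2_three F (by rw [Nat.card_eq_fintype_card, h2])
      haveI := f.isSimpleGroup_congr.1 ‹_›
      have h4 : Nat.card (Fin 4) = 4 := Nat.card_fin 4
      have h12 : Nat.card (alternatingGroup (Fin 4)) = 12 := by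
        rw [nat_card_alternatingGroup, h4]; rfl
      haveI := alternatingGroup.kleinFour_isKleinFour h4
      haveI := alternatingGroup.characteristic_kleinFour h4
      have hk := IsKleinFour.card_four (G := alternatingGroup.kleinFour (Fin 4))
      rcases (inferInstance : (alternatingGroup.kleinFour (Fin 4)).Normal).eq_bot_or_eq_top with h | h
      · rw [h, Subgroup.card_bot] at hk; omega
      · rw [h, Subgroup.card_top, h12] at hk; omega
  have hone : One (Matrix.ProjectiveSpecialLinearGroup (Fin 2) F) := h.of_equiv e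
  have hspec := S2475.result (F := F) p hq4
  set d := Nat.gcd 2 (Fintype.card F - 1) with hd
  have hsub : ∀ a b : ℕ, (a ∣ (Fintype.card F - 1) / d ∨ a ∣ (Fintype.card F + 1) / d) →
      (b ∣ (Fintype.card F - 1) / d ∨ b ∣ (Fintype.card F + 1) / d) →
      1 < a → ¬ a.Prime → 1 < b → ¬ b.Prime → a = b := by
    intro a b ha hb ha1 hap hb1 hbp
    exact hone ⟨by rw [hspec]; exact Or.inr ha, ha1, hap⟩ ⟨by rw [hspec]; exact Or.inr hb, hb1, hbp⟩
  rcases hp.eq_two_or_odd' with rfl | hpo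
  · have hd1 : d = 1 := by
      rw [hd]
      refine (Nat.prime_two.coprime_iff_not_dvd).2 ?_
      have := dvd_pow_self 2 (n.pos.ne' : (n : ℕ) ≠ 0)
      omega
    rw [hd1, Nat.div_one, Nat.div_one, hq] at hsub
    have hn2 : 2 ≤ (n : ℕ) := by
      by_contra hc
      have : (n : ℕ) = 1 := by have := n.pos; omega
      rw [this] at hq; omega
    rcases even_cases hn2 hsub with h2 | h4 | ⟨r, h1, h2, h3⟩
    · left
      haveI : Fact (Nat.Prime 5) := ⟨Nat.prime_five⟩
      obtain ⟨e4⟩ := PSL2Small.psl2_four F (by rw [Nat.card_eq_fintype_card, hq, h2]; rfl)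
      obtain ⟨e5⟩ := PSL2Small.psl2_five (ZMod 5) (by rw [Nat.card_zmod])
      exact ⟨ZMod 5, inferInstance, inferInstance, Or.inl (ZMod.card 5), ⟨(e.trans e4).trans e5.symm⟩⟩
    · exact Or.inl ⟨F, inferInstance, inferInstance, by rw [hq, h4]; norm_num, ⟨e⟩⟩
    · exact Or.inr (Or.inr ⟨F, inferInstance, inferInstance, n, r, h1, h2, h3, hq, ⟨e⟩⟩)
  · have hodd : Odd (Fintype.card F) := hq ▸ hpo.pow
    have hd2 : d = 2 := by
      rw [hd]
      exact Nat.gcd_eq_left (by obtain ⟨j, hj⟩ := hodd; omega)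
    rw [hd2] at hsub
    have h5 : 5 ≤ Fintype.card F := by obtain ⟨j, hj⟩ := hodd; omega
    rcases odd_cases hp hq hodd h5 hsub with h | h | h | h | h | ⟨r, s, hr, hs, h1, h2, h3⟩
    iterate 5 exact Or.inl ⟨F, inferInstance, inferInstance, by omega, ⟨e⟩⟩
    exact Or.inr (Or.inl ⟨F, inferInstance, inferInstance, n, r, s, hr, hs, h1, h2, h3, ⟨e⟩⟩)

open SuzukiGroupBasic SuzukiGroupStructure SuzukiGroupTori in
/-- Only `Sz(8)` has at most one composite element order. -/
theorem suzuki_eight {F : Type*} [Field F] {m : ℕ} [Param F m] (h : One ↥(Cfsg.Sz F m)) :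
    m = 1 := by
  haveI := finiteF (F := F) (m := m)
  have h4 : 4 ∈ Set.range (orderOf : ↥(Cfsg.Sz F m) → ℕ) := by
    refine ⟨Ts 1 0, orderOf_eq_prime_pow (p := 2) (n := 1) ?_ ?_⟩
    · intro h2
      have := (Ts_sq_eq_one (F := F) (m := m) (a := 1) (b := 0)).1 (by simpa using h2)
      exact one_ne_zero this
    · simpa using Ts_pow_four (F := F) (m := m) 1 0
  have hprime : ∀ A : Subgroup ↥(Cfsg.Sz F m), IsTorus A → (Nat.card A).Prime := by
    intro A hA
    haveI := hA.cyclic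
    obtain ⟨g, hg⟩ := IsCyclic.exists_ofOrder_eq_natCard (α := A)
    by_contra hc
    have h5 := hA.five_le
    have := h ⟨h4, by norm_num, by norm_num⟩
      ⟨⟨(g : ↥(Cfsg.Sz F m)), by rw [Subgroup.orderOf_coe, hg]⟩, by omega, hc⟩
    omega
  obtain ⟨A₁, A₂, hA₁, hA₂, h1, h2, -⟩ := exists_tori (F := F) (m := m)
  have hp1 := hprime A₁ hA₁
  have hp2 := hprime A₂ hA₂
  rw [h1] at hp1
  rw [h2] at hp2
  have hm := one_le (F := F) (m := m)
  set r := 2 ^ (m + 1) with hr
  set q := 2 ^ (2 * m + 1) with hq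
  have hr4 : 4 ≤ r := by
    rw [hr]
    calc (4 : ℕ) = 2 ^ 2 := rfl
      _ ≤ _ := Nat.pow_le_pow_right two_pos (by omega)
  have hqr : r * r = 2 * q := by rw [hr, hq, ← pow_succ', ← pow_add]; ring_nf
  have hrq : r ≤ q := by nlinarith
  have h5 : 5 ∣ (q + r + 1) * (q - r + 1) := by
    have e : (q + r + 1) * (q - r + 1) = q * q + 1 := by
      obtain ⟨c, hc⟩ := Nat.exists_eq_add_of_le hrq
      rw [show q - r = c by omega, hc]
      rw [hc] at hqr
      nlinarith
    have hq5 : (q * q) % 5 = 4 := by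
      rw [hq, ← pow_add, show 2 * m + 1 + (2 * m + 1) = 4 * m + 2 by ring, pow_add, pow_mul,
        Nat.mul_mod, Nat.pow_mod]
      norm_num
    rw [e]
    omega
  rcases Nat.prime_five.dvd_mul.1 h5 with h5 | h5
  · have := (Nat.prime_dvd_prime_iff_eq Nat.prime_five hp1).1 h5
    omega
  · have := (Nat.prime_dvd_prime_iff_eq Nat.prime_five hp2).1 h5
    by_contra hne
    have hr8 : 8 ≤ r := by
      rw [hr]
      calc (8 : ℕ) = 2 ^ 3 := rfl
        _ ≤ _ := Nat.pow_le_pow_right two_pos (by omega)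
    have : 4 * r ≤ q := by nlinarith
    omega

end Cfsg.Agent.OneComposite91
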