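import Mathlib

/-! Averaging over a subgroup that is transitive on a spanning orbit. -/

namespace Cfsg.Agent.OrbitAverage

variable {k V H : Type*} [Field k] [AddCommGroup V] [Module k V] [Group H] [Finite H]

/-- If a subgroup `B` of invertible order is transitive on a spanning orbit of invertible size,
then every vector fixed by `B` is a multiple of the orbit sum, which is `H`-fixed. -/
theorem fixed_mem_span (ρ : Representation k H V) (a : V)
    (hspan : Submodule.span k {u : V | ∃ h : H, ρ h a = u} = ⊤)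
    (hm : (Nat.card {u : V | ∃ h : H, ρ h a = u} : k) ≠ 0) :
    ∃ s : V, (∀ h : H, ρ h s = s) ∧ ∀ B : Subgroup H, (Nat.card B : k) ≠ 0 →
      (∀ h : H, ∃ y ∈ B, ρ y a = ρ h a) → ∀ b : V, (∀ y ∈ B, ρ y b = b) → b ∈ Submodule.span k {s} := by
  classical
  haveI := Fintype.ofFinite H
  set O := Finset.univ.image (fun h : H => ρ h a) with hO
  have hcardO : Nat.card {u : V | ∃ h : H, ρ h a = u} = O.card := by
    rw [Nat.card_coe_set_eq, ← Set.ncard_coe_finset]
    congr 1
    ext u; simp [hO]
  refine ⟨∑ u ∈ O, u, fun h => ?_, fun B hB htr b hb => ?_⟩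
  · rw [map_sum]
    refine Finset.sum_bij (fun u _ => ρ h u) ?_ ?_ ?_ (fun u _ => rfl)
    · intro u hu
      simp only [hO, Finset.mem_image, Finset.mem_univ, true_and] at hu ⊢
      obtain ⟨g, rfl⟩ := hu
      exact ⟨h * g, by simp [map_mul]⟩
    · intro u _ v _ e
      have := congrArg (ρ h⁻¹) e
      simpa [← Module.End.mul_apply, ← map_mul] using this
    · intro u hu
      simp only [hO, Finset.mem_image, Finset.mem_univ, true_and] at hu ⊢
      obtain ⟨g, rfl⟩ := hu
      exact ⟨ρ (h⁻¹ * g) a, ⟨h⁻¹ * g, rfl⟩, by simp [← Module.End.mul_apply, ← map_mul]⟩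
  · haveI := Fintype.ofFinite B
    let e : V →ₗ[k] V := ∑ y : B, ρ (y : H)
    have he : ∀ v, e v = ∑ y : B, ρ (y : H) v := fun v => by simp [e, LinearMap.sum_apply]
    have hfix : ∀ v, (∀ y ∈ B, ρ y v = v) → e v = (Nat.card B : k) • v := by
      intro v hv
      rw [he, Finset.sum_congr rfl (fun (y : B) _ => hv y y.2)]
      simp [Nat.card_eq_fintype_card, Nat.cast_smul_eq_nsmul]
    have horb : ∀ h : H, e (ρ h a) = e a := by
      intro h
      obtain ⟨y, hy, hya⟩ := htr h
      rw [← hya, he, he]
      refine Fintype.sum_equiv (Equiv.mulRight ⟨y, hy⟩) _ _ (fun z => ?_)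
      simp [map_mul]
    have hsum : e (∑ u ∈ O, u) = (Nat.card {u : V | ∃ h : H, ρ h a = u} : k) • e a := by
      rw [map_sum, Finset.sum_congr rfl (g := fun _ => e a), Finset.sum_const, hcardO, Nat.cast_smul_eq_nsmul]
      intro u hu
      simp only [hO, Finset.mem_image, Finset.mem_univ, true_and] at hu
      obtain ⟨g, rfl⟩ := hu
      exact horb g
    have hrange : LinearMap.range e ≤ Submodule.span k {e a} := by
      rw [← Submodule.map_top, ← hspan, Submodule.map_span, Submodule.span_le]
      rintro _ ⟨_, ⟨h, rfl⟩, rfl⟩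
      rw [horb]
      exact Submodule.mem_span_singleton_self _
    have hs : ∀ y ∈ B, ρ y (∑ u ∈ O, u) = ∑ u ∈ O, u := by
      intro y _
      rw [map_sum]
      refine Finset.sum_bij (fun u _ => ρ y u) ?_ ?_ ?_ (fun u _ => rfl)
      · intro u hu
        simp only [hO, Finset.mem_image, Finset.mem_univ, true_and] at hu ⊢
        obtain ⟨g, rfl⟩ := hu
        exact ⟨y * g, by simp [map_mul]⟩
      · intro u _ v _ e
        have := congrArg (ρ y⁻¹) e
        simpa [← Module.End.mul_apply, ← map_mul] using this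
      · intro u hu
        simp only [hO, Finset.mem_image, Finset.mem_univ, true_and] at hu ⊢
        obtain ⟨g, rfl⟩ := hu
        exact ⟨ρ (y⁻¹ * g) a, ⟨y⁻¹ * g, rfl⟩, by simp [← Module.End.mul_apply, ← map_mul]⟩
    have hea : e a ∈ Submodule.span k {∑ u ∈ O, u} := by
      have h1 : e a = ((Nat.card {u : V | ∃ h : H, ρ h a = u} : k)⁻¹ * (Nat.card B : k)) • ∑ u ∈ O, u := by
        rw [mul_smul, ← hfix _ hs, hsum, smul_smul, inv_mul_cancel₀ hm, one_smul]
      rw [h1]
      exact Submodule.smul_mem _ _ (Submodule.mem_span_singleton_self _)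
    have hb1 : e b ∈ Submodule.span k {∑ u ∈ O, u} :=
      Submodule.span_le.mpr (by simpa using hea) (hrange (LinearMap.mem_range_self e b))
    rw [hfix b hb] at hb1
    exact (Submodule.smul_mem_iff _ hB).mp hb1

/-- A subgroup whose index is coprime to the size of an orbit is transitive on that orbit. -/
theorem transitive_of_coprime (ρ : Representation k H V) (a : V) (B : Subgroup H)
    (hcop : (Nat.card {u : V | ∃ h : H, ρ h a = u}).Coprime B.index) :
    ∀ h : H, ∃ y ∈ B, ρ y a = ρ h a := by
  classical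
  let A : Subgroup H :=
    { carrier := {h | ρ h a = a}
      mul_mem' := fun {x y} hx hy => by simp_all [map_mul]
      one_mem' := by simp
      inv_mem' := fun {x} hx => by
        have := congrArg (ρ x⁻¹) (show ρ x a = a from hx)
        simpa [← Module.End.mul_apply, ← map_mul] using this.symm }
  have hiff : ∀ x y : H, ρ x a = ρ y a ↔ x⁻¹ * y ∈ A := by
    intro x y
    constructor
    · intro e
      change ρ (x⁻¹ * y) a = a
      rw [map_mul, Module.End.mul_apply, ← e, ← Module.End.mul_apply, ← map_mul]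
      simp
    · intro e
      have : ρ (x⁻¹ * y) a = a := e
      calc ρ x a = ρ x (ρ (x⁻¹ * y) a) := by rw [this]
        _ = ρ y a := by rw [← Module.End.mul_apply, ← map_mul]; simp
  have hA : Nat.card {u : V | ∃ h : H, ρ h a = u} = A.index := by
    refine (Nat.card_congr (Equiv.ofBijective (fun q : H ⧸ A => (⟨ρ q.out a, q.out, rfl⟩ : {u : V | ∃ h : H, ρ h a = u})) ⟨?_, ?_⟩)).symm
    · intro q q' e
      have := (hiff _ _).mp (congrArg Subtype.val e)
      rw [← QuotientGroup.eq, QuotientGroup.out_eq', QuotientGroup.out_eq'] at this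
      exact this
    · rintro ⟨_, h, rfl⟩
      refine ⟨QuotientGroup.mk h, Subtype.ext ((hiff _ _).mpr ?_)⟩
      rw [← QuotientGroup.eq, QuotientGroup.out_eq']
  have h1 : A.index ∣ (A ⊓ B).index := Subgroup.index_dvd_of_le inf_le_left
  rw [← Subgroup.relIndex_mul_index (show A ⊓ B ≤ B from inf_le_right)] at h1
  have h2 : A.index ∣ (A ⊓ B).relIndex B := (Nat.Coprime.dvd_of_dvd_mul_right (hA ▸ hcop) h1)
  rw [Subgroup.inf_relIndex_right] at h2
  have hinj : Function.Injective (fun q : B ⧸ A.subgroupOf B => (⟨ρ (q.out : H) a, (q.out : H), rfl⟩ : {u : V | ∃ h : H, ρ h a = u})) := by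
    intro q q' e
    have := (hiff _ _).mp (congrArg Subtype.val e)
    have h3 : (q.out)⁻¹ * q'.out ∈ A.subgroupOf B := this
    rw [← QuotientGroup.eq, QuotientGroup.out_eq', QuotientGroup.out_eq'] at h3
    exact h3
  have hsurj := hinj.bijective_of_nat_card_le (by
    rw [hA]
    exact Nat.le_of_dvd (Nat.pos_of_ne_zero Subgroup.index_ne_zero_of_finite) h2)
  intro h
  obtain ⟨q, hq⟩ := hsurj.2 ⟨ρ h a, h, rfl⟩
  exact ⟨(q.out : H), q.out.2, congrArg Subtype.val hq⟩

/-- The stabiliser of a vector, with its index equal to the orbit size. -/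
theorem exists_stabilizer (ρ : Representation k H V) (b : V) :
    ∃ B : Subgroup H, (∀ h, h ∈ B ↔ ρ h b = b) ∧ B.index = Nat.card {u : V | ∃ h : H, ρ h b = u} := by
  classical
  let A : Subgroup H :=
    { carrier := {h | ρ h b = b}
      mul_mem' := fun {x y} hx hy => by simp_all [map_mul]
      one_mem' := by simp
      inv_mem' := fun {x} hx => by
        have := congrArg (ρ x⁻¹) (show ρ x b = b from hx)
        simpa [← Module.End.mul_apply, ← map_mul] using this.symm }
  refine ⟨A, fun h => Iff.rfl, ?_⟩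
  have hiff : ∀ x y : H, ρ x b = ρ y b ↔ x⁻¹ * y ∈ A := by
    intro x y
    constructor
    · intro e
      change ρ (x⁻¹ * y) b = b
      rw [map_mul, Module.End.mul_apply, ← e, ← Module.End.mul_apply, ← map_mul]
      simp
    · intro e
      have : ρ (x⁻¹ * y) b = b := e
      calc ρ x b = ρ x (ρ (x⁻¹ * y) b) := by rw [this]
        _ = ρ y b := by rw [← Module.End.mul_apply, ← map_mul]; simp
  refine Nat.card_congr (Equiv.ofBijective (fun q : H ⧸ A => (⟨ρ q.out b, q.out, rfl⟩ : {u : V | ∃ h : H, ρ h b = u})) ⟨?_, ?_⟩)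
  · intro q q' e
    have := (hiff _ _).mp (congrArg Subtype.val e)
    rw [← QuotientGroup.eq, QuotientGroup.out_eq', QuotientGroup.out_eq'] at this
    exact this
  · rintro ⟨_, h, rfl⟩
    refine ⟨QuotientGroup.mk h, Subtype.ext ((hiff _ _).mpr ?_)⟩
    rw [← QuotientGroup.eq, QuotientGroup.out_eq']

end Cfsg.Agent.OrbitAverage
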