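import Mathlib

/-!
Arithmetic for a simple group of order `175560`: possible Sylow numbers, centralizer orders and the
resulting lower bounds for the number of elements.
-/

set_option autoImplicit false
set_option maxRecDepth 20000

namespace Cfsg.Agent.Ord175560Arith91

/-- The divisors of the order. -/
def D : List ℕ :=
  [1, 2, 4, 8].flatMap fun a => [1, 3].flatMap fun b => [1, 5].flatMap fun c =>
    [1, 7].flatMap fun d => [1, 11].flatMap fun e => [1, 19].map fun f => a * (b * (c * (d * (e * f))))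

theorem dvd_cases {p d m : ℕ} (hp : p.Prime) (h : d ∣ p * m) :
    ∃ u v : ℕ, (u = 1 ∨ u = p) ∧ v ∣ m ∧ d = u * v := by
  obtain ⟨u, v, hu, hv, he⟩ := Nat.dvd_mul.1 h
  exact ⟨u, v, (Nat.dvd_prime hp).1 hu, hv, he.symm⟩

theorem mem_D {d : ℕ} (h : d ∣ 175560) : d ∈ D := by
  obtain ⟨a, w1, ha, h1, rfl⟩ := Nat.dvd_mul.1 (show d ∣ 8 * 21945 by norm_num; exact h)
  obtain ⟨b, w2, hb, h2, rfl⟩ := dvd_cases Nat.prime_three (show w1 ∣ 3 * 7315 by norm_num; exact h1)
  obtain ⟨c, w3, hc, h3, rfl⟩ := dvd_cases (p := 5) (by norm_num) (show w2 ∣ 5 * 1463 by norm_num; exact h2)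
  obtain ⟨e, w4, he, h4, rfl⟩ := dvd_cases (p := 7) (by norm_num) (show w3 ∣ 7 * 209 by norm_num; exact h3)
  obtain ⟨f, w5, hf, h5, rfl⟩ := dvd_cases (p := 11) (by norm_num) (show w4 ∣ 11 * 19 by norm_num; exact h4)
  have h5' := (Nat.dvd_prime (by norm_num : Nat.Prime 19)).1 h5
  have ha' : a = 1 ∨ a = 2 ∨ a = 4 ∨ a = 8 := by
    have := Nat.le_of_dvd (by norm_num) ha
    interval_cases a <;> omega
  simp only [D, List.mem_flatMap, List.mem_map, List.mem_cons, List.not_mem_nil, or_false]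
  exact ⟨a, ha', b, hb, c, hc, e, he, f, hf, w5, h5', rfl⟩

/-- The possible triples: number of Sylow subgroups, order of the automizer, index of a Sylow
subgroup in its centralizer. -/
def ops (p : ℕ) : List (ℕ × ℕ × ℕ) :=
  if p = 3 then
    [(4, 2, 7315), (7, 2, 4180), (10, 2, 2926), (19, 2, 1540), (22, 2, 1330), (28, 2, 1045), (55, 2, 532),
     (70, 2, 418), (76, 2, 385), (133, 2, 220), (154, 2, 190), (190, 2, 154), (220, 2, 133), (385, 2, 76),
     (418, 2, 70), (532, 2, 55), (1045, 2, 28), (1330, 2, 22), (1540, 2, 19), (2926, 2, 10), (4180, 2, 7),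
     (7315, 2, 4), (29260, 2, 1)]
  else if p = 5 then
    [(6, 2, 2926), (6, 4, 1463), (11, 2, 1596), (11, 4, 798), (21, 2, 836), (21, 4, 418), (66, 2, 266),
     (66, 4, 133), (76, 2, 231), (231, 2, 76), (231, 4, 38), (266, 2, 66), (266, 4, 33), (836, 2, 21),
     (1596, 2, 11), (2926, 2, 6), (2926, 4, 3), (17556, 2, 1)]
  else if p = 7 then
    [(8, 3, 1045), (15, 2, 836), (22, 2, 570), (22, 3, 380), (22, 6, 190), (57, 2, 220), (190, 2, 66),
     (190, 3, 44), (190, 6, 22), (330, 2, 38), (1254, 2, 10), (4180, 2, 3), (4180, 3, 2), (4180, 6, 1)]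
  else if p = 11 then
    [(12, 2, 665), (12, 5, 266), (12, 10, 133), (56, 5, 57), (133, 2, 60), (133, 5, 24), (133, 10, 12),
     (210, 2, 38), (1596, 2, 5), (1596, 5, 2), (1596, 10, 1)]
  else if p = 19 then
    [(20, 2, 231), (20, 3, 154), (20, 6, 77), (77, 2, 60), (77, 3, 40), (77, 6, 20), (210, 2, 22),
     (1540, 2, 3), (1540, 3, 2), (1540, 6, 1)]
  else []

theorem ops_complete : ∀ p ∈ [3, 5, 7, 11, 19], ∀ n ∈ D, ∀ e ∈ D,
    n % p = 1 → n ≠ 1 → e ≠ 1 → e ∣ p - 1 → n * e * p ∣ 175560 →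
    (n, e, 175560 / (n * e * p)) ∈ ops p := by
  decide +kernel

theorem mem_ops {p n e c : ℕ} (hp : p ∈ [3, 5, 7, 11, 19]) (hn : n % p = 1) (hn1 : n ≠ 1) (he1 : e ≠ 1)
    (he : e ∣ p - 1) (h : n * e * (p * c) = 175560) : (n, e, c) ∈ ops p := by
  have hp0 : 0 < p := by
    simp only [List.mem_cons, List.not_mem_nil, or_false] at hp; omega
  have hd : n * e * p ∣ 175560 := ⟨c, by rw [← h]; ring⟩
  have := ops_complete p hp n (mem_D (dvd_trans ⟨e * p, by ring⟩ hd)) e
    (mem_D (dvd_trans ⟨n * p, by ring⟩ hd)) hn hn1 he1 he hd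
  have hpos : 0 < n * e * p := Nat.pos_of_dvd_of_pos hd (by norm_num)
  rwa [show 175560 / (n * e * p) = c from Nat.div_eq_of_eq_mul_left hpos (by rw [← h]; ring)] at this

/-- Possible numbers of Sylow `q`-subgroups in a group of order `p * c` with central subgroup of order `p`. -/
def cand (q c : ℕ) : List ℕ := if q ∣ c then D.filter (fun a => a ∣ c ∧ a % q = 1) else [0]

/-- The least element of a list, or `175561`. -/
def least (l : List ℕ) : ℕ := l.foldr min 175561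

theorem least_le : ∀ {l : List ℕ} {v : ℕ}, v ∈ l → least l ≤ v := by
  intro l
  induction l with
  | nil => intro v h; simp at h
  | cons a l ih =>
    intro v h
    rcases List.mem_cons.1 h with rfl | h
    · exact min_le_left _ _
    · exact (min_le_right _ _).trans (ih h)

/-- The least possible number of commuting pairs of elements of orders `p` and `q`. -/
def pm (p : ℕ) (o : ℕ × ℕ × ℕ) (q : ℕ) (r : ℕ × ℕ × ℕ) : ℕ :=
  least (((cand q o.2.2).map fun a => o.1 * (p - 1) * (a * (q - 1))).filter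
    (fun v => v ∈ (cand p r.2.2).map fun b => r.1 * (q - 1) * (b * (p - 1))))

theorem pm_le {p q v a b : ℕ} {o r : ℕ × ℕ × ℕ} (ha : a ∈ cand q o.2.2) (hb : b ∈ cand p r.2.2)
    (h1 : v = o.1 * (p - 1) * (a * (q - 1))) (h2 : v = r.1 * (q - 1) * (b * (p - 1))) : pm p o q r ≤ v := by
  apply least_le
  simp only [List.mem_filter, List.mem_map, decide_eq_true_eq]
  exact ⟨⟨a, ha, h1.symm⟩, b, hb, h2.symm⟩

/-- The parity condition on the number of involutions centralizing an element of order `p`. -/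
def invOK (m c : ℕ) (v : ℕ) : Bool :=
  decide (v % m = 0 ∧ if c % 2 = 0 then v / m % 2 = 1 else v = 0)

/-- The least possible number of commuting pairs of an involution and an element of order `p`. -/
def tm (p : ℕ) (o : ℕ × ℕ × ℕ) (k : ℕ) : ℕ :=
  least (((cand p (8 * k)).map fun b => 21945 / k * (b * (p - 1))).filter (invOK (o.1 * (p - 1)) o.2.2))

theorem tm_le {p k v a b : ℕ} {o : ℕ × ℕ × ℕ} (hm : 0 < o.1 * (p - 1)) (hb : b ∈ cand p (8 * k))
    (h1 : v = o.1 * (p - 1) * a) (h2 : v = 21945 / k * (b * (p - 1)))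
    (ha : if o.2.2 % 2 = 0 then a % 2 = 1 else a = 0) : tm p o k ≤ v := by
  apply least_le
  simp only [List.mem_filter, List.mem_map, invOK, decide_eq_true_eq]
  refine ⟨⟨b, hb, h2.symm⟩, ?_, ?_⟩
  · rw [h1, Nat.mul_mod_right]
  · split_ifs at ha ⊢ with hc
    · rwa [h1, Nat.mul_div_cancel_left _ hm]
    · rw [h1, ha, mul_zero]

/-- The possible values of `k`. -/
def KS : List ℕ := D.filter (fun d => d % 2 = 1)

/-- Contribution of the elements of order 1, 2 and twice an odd prime. -/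
def evenPart (o3 o5 o7 o11 o19 : ℕ × ℕ × ℕ) (k : ℕ) : ℕ :=
  1 + 21945 / k + tm 3 o3 k + tm 5 o5 k + tm 7 o7 k + tm 11 o11 k + tm 19 o19 k

/-- Elements of order 19 and 11 and their products. -/
def part1 (o11 o19 : ℕ × ℕ × ℕ) : ℕ := o19.1 * 18 + o11.1 * 10 + pm 11 o11 19 o19
/-- Adds order 7. -/
def part2 (o7 o11 o19 : ℕ × ℕ × ℕ) : ℕ :=
  part1 o11 o19 + o7.1 * 6 + pm 7 o7 11 o11 + pm 7 o7 19 o19
/-- Adds order 5. -/
def part3 (o5 o7 o11 o19 : ℕ × ℕ × ℕ) : ℕ :=
  part2 o7 o11 o19 + o5.1 * 4 + pm 5 o5 7 o7 + pm 5 o5 11 o11 + pm 5 o5 19 o19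
/-- Adds order 3. -/
def part4 (o3 o5 o7 o11 o19 : ℕ × ℕ × ℕ) : ℕ :=
  part3 o5 o7 o11 o19 + o3.1 * 2 + pm 3 o3 5 o5 + pm 3 o3 7 o7 + pm 3 o3 11 o11 + pm 3 o3 19 o19

/-- A lower bound for the number of elements. -/
def total (o3 o5 o7 o11 o19 : ℕ × ℕ × ℕ) (k : ℕ) : ℕ :=
  part4 o3 o5 o7 o11 o19 + evenPart o3 o5 o7 o11 o19 k

/-- The surviving configurations. -/
def good (o3 o5 : ℕ × ℕ × ℕ) (k t : ℕ) : Bool :=
  (k == 15 && o3 == (2926, 2, 10) && o5 == (2926, 2, 6)) ||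
  (k == 3 && o3 == (7315, 2, 4) && t == 175560) ||
  (k == 165 && o3 == (2926, 2, 10) && o5 == (2926, 2, 6))

/-- The search. -/
def verdict : Bool :=
  (ops 19).all fun o19 => (ops 11).all fun o11 => decide (175560 < part1 o11 o19) ||
    (ops 7).all fun o7 => decide (175560 < part2 o7 o11 o19) ||
      (ops 5).all fun o5 => decide (175560 < part3 o5 o7 o11 o19) ||
        (ops 3).all fun o3 => decide (175560 < part4 o3 o5 o7 o11 o19) ||
          KS.all fun k => (k == 21945) || decide (175560 < total o3 o5 o7 o11 o19 k) ||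
            good o3 o5 k (total o3 o5 o7 o11 o19 k)

theorem verdict_true : verdict = true := by decide +kernel

theorem configuration {o3 o5 o7 o11 o19 : ℕ × ℕ × ℕ} {k : ℕ} (h3 : o3 ∈ ops 3) (h5 : o5 ∈ ops 5)
    (h7 : o7 ∈ ops 7) (h11 : o11 ∈ ops 11) (h19 : o19 ∈ ops 19) (hk : k ∣ 21945) (hk1 : k ≠ 21945)
    (h : total o3 o5 o7 o11 o19 k ≤ 175560) :
    (k = 15 ∧ o3 = (2926, 2, 10) ∧ o5 = (2926, 2, 6)) ∨
    (k = 3 ∧ o3 = (7315, 2, 4) ∧ total o3 o5 o7 o11 o19 k = 175560) ∨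
    (k = 165 ∧ o3 = (2926, 2, 10) ∧ o5 = (2926, 2, 6)) := by
  have hkS : k ∈ KS := by
    simp only [KS, List.mem_filter, decide_eq_true_eq]
    exact ⟨mem_D (hk.trans ⟨8, by norm_num⟩), Nat.odd_iff.1 (Odd.of_dvd_nat (by decide) hk)⟩
  have e4 : part4 o3 o5 o7 o11 o19 ≤ 175560 := le_trans (Nat.le_add_right _ _) h
  have e3 : part3 o5 o7 o11 o19 ≤ 175560 := le_trans (by unfold part4; omega) e4
  have e2 : part2 o7 o11 o19 ≤ 175560 := le_trans (by unfold part3; omega) e3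
  have e1 : part1 o11 o19 ≤ 175560 := le_trans (by unfold part2; omega) e2
  have v := verdict_true
  simp only [verdict, List.all_eq_true, Bool.or_eq_true, decide_eq_true_eq, beq_iff_eq] at v
  have v1 := (v o19 h19 o11 h11).resolve_left (not_lt.2 e1)
  have v2 := (v1 o7 h7).resolve_left (not_lt.2 e2)
  have v3 := (v2 o5 h5).resolve_left (not_lt.2 e3)
  have v4 := (v3 o3 h3).resolve_left (not_lt.2 e4)
  rcases v4 k hkS with (v5 | v5) | v5
  · exact absurd v5 hk1
  · exact absurd v5 (not_lt.2 h)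
  · simp only [good, Bool.or_eq_true, Bool.and_eq_true, beq_iff_eq] at v5
    tauto

/-- The numbers of Sylow subgroups of orders 3 and 5 in a centralizer of order 120. -/
theorem solve_fifteen :
    (∀ b ∈ cand 3 120, b % 2 = 0 → b / 2 % 2 = 1 → b = 10) ∧
    (∀ b ∈ cand 5 120, b % 2 = 0 → b / 2 % 2 = 1 → b = 6) := by decide +kernel

theorem solve_small :
    (∀ b ∈ cand 3 24, b % 2 = 1 → b = 1) ∧
    (∀ b ∈ cand 3 1320, b % 22 = 0 → b / 22 % 2 = 1 → b = 22) ∧
    (∀ b ∈ cand 5 1320, b % 22 = 0 → b / 22 % 2 = 1 → b = 66) ∧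
    (∀ a ∈ cand 5 10, a = 1) := by decide +kernel

end Cfsg.Agent.Ord175560Arith91
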