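import Cfsg.Agent.Lib.Ord175560Classes91
import Cfsg.Agent.Lib.Ord175560Arith91
import Cfsg.Agent.Lib.SmallGroupBasic

/-!
Sylow numbers, centralizers and element counts in a simple group of order `175560`.
-/

set_option autoImplicit false
set_option linter.style.haveILetI false
set_option linter.unusedSectionVars false

namespace Cfsg.Agent.Ord175560Count91

open Cfsg Cfsg.Agent.Ord175560Arith91

attribute [local instance] Classical.propDecidable

variable {G : Type*} [Group G] [Finite G]

/-- The number of elements of a given order. -/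
noncomputable def E (G : Type*) [Group G] (m : ℕ) : ℕ := Nat.card {g : G // orderOf g = m}

/-- The number of elements of order `q` commuting with `x`. -/
noncomputable def F (x : G) (q : ℕ) : ℕ := Nat.card {y : G // orderOf y = q ∧ Commute x y}

/-- The number of commuting pairs of elements of orders `p` and `q`. -/
noncomputable def P2 (G : Type*) [Group G] (p q : ℕ) : ℕ :=
  Nat.card {z : G × G // orderOf z.1 = p ∧ orderOf z.2 = q ∧ Commute z.1 z.2}

theorem P2_comm (p q : ℕ) : P2 G p q = P2 G q p :=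
  Nat.card_congr ⟨fun z => ⟨z.1.swap, z.2.2.1, z.2.1, z.2.2.2.symm⟩,
    fun z => ⟨z.1.swap, z.2.2.1, z.2.1, z.2.2.2.symm⟩, fun z => by simp, fun z => by simp⟩

theorem P2_eq {p q : ℕ} {f : ℕ} (h : ∀ x : G, orderOf x = p → F x q = f) : P2 G p q = E G p * f := by
  haveI : Fintype G := Fintype.ofFinite G
  rw [P2, Nat.card_congr (show {z : G × G // orderOf z.1 = p ∧ orderOf z.2 = q ∧ Commute z.1 z.2} ≃
    Σ x : {g : G // orderOf g = p}, {y : G // orderOf y = q ∧ Commute (x : G) y} from
      ⟨fun z => ⟨⟨z.1.1, z.2.1⟩, ⟨z.1.2, z.2.2⟩⟩, fun s => ⟨(s.1.1, s.2.1), s.1.2, s.2.2⟩,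
        fun z => rfl, fun s => rfl⟩), Nat.card_sigma]
  rw [Finset.sum_congr rfl fun (x : {g : G // orderOf g = p}) _ =>
      show Nat.card {y : G // orderOf y = q ∧ Commute x.1 y} = f from h x.1 x.2,
    Finset.sum_const, smul_eq_mul, Finset.card_univ, ← Nat.card_eq_fintype_card]
  rfl

theorem P2_le {p q : ℕ} (hc : Nat.Coprime p q) : P2 G p q ≤ E G (p * q) := by
  refine Nat.card_le_card_of_injective (fun z => ⟨z.1.1 * z.1.2, ?_⟩) ?_
  · obtain ⟨h1, h2, h3⟩ := z.2
    rw [h3.orderOf_mul_eq_mul_orderOf_of_coprime (by rw [h1, h2]; exact hc), h1, h2]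
  · rintro ⟨⟨x, y⟩, hx, hy, hxy⟩ ⟨⟨x', y'⟩, hx', hy', hxy'⟩ e
    have e' : x * y = x' * y' := congrArg Subtype.val e
    simp only at hx hy hxy hx' hy' hxy'
    have hq : ∀ {a b : G}, orderOf a = p → orderOf b = q → Commute a b → (a * b) ^ q = a ^ q := by
      intro a b _ hb hab
      rw [hab.mul_pow, ← hb, pow_orderOf_eq_one, mul_one]
    have h1 : x ^ q = x' ^ q := by rw [← hq hx hy hxy, e', hq hx' hy' hxy']
    obtain ⟨j, hj⟩ := exists_pow_eq_self_of_coprime (x := x) (n := q) (by rw [hx]; exact hc.symm)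
    obtain ⟨j', hj'⟩ := exists_pow_eq_self_of_coprime (x := x') (n := q) (by rw [hx']; exact hc.symm)
    have hp1 : x ^ p = 1 := hx ▸ pow_orderOf_eq_one x
    have hxx : x = x' := by
      have hk : q * j % p = 1 % p := by
        have h : x ^ (q * j) = x ^ 1 := by rw [pow_mul, hj, pow_one]
        have h' := pow_eq_pow_iff_modEq.1 h
        rwa [hx] at h'
      calc x = (x ^ q) ^ j := hj.symm
        _ = x' ^ (q * j) := by rw [h1, pow_mul]
        _ = x' ^ 1 := pow_eq_pow_iff_modEq.2 (by rw [hx']; exact hk)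
        _ = x' := pow_one x'
    subst hxx
    have := mul_left_cancel e'
    subst this
    rfl

theorem count_le (L : Finset ℕ) : ∑ m ∈ L, E G m ≤ Nat.card G := by
  haveI : Fintype G := Fintype.ofFinite G
  have h : ∀ m, E G m = (Finset.univ.filter fun g : G => orderOf g = m).card := fun m => by
    rw [E, Nat.card_eq_fintype_card, Fintype.card_subtype]
  simp only [h]
  rw [← Finset.card_biUnion fun a _ b _ hab => Finset.disjoint_left.2 fun g h1 h2 => hab (by
    simp only [Finset.mem_filter, Finset.mem_univ, true_and] at h1 h2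
    exact h1.symm.trans h2), Nat.card_eq_fintype_card]
  exact Finset.card_le_univ _

/-- The counted element orders. -/
def orders : Finset ℕ :=
  {1, 2, 3, 5, 7, 11, 19, 6, 10, 14, 22, 38, 15, 21, 33, 57, 35, 55, 95, 77, 133, 209}

theorem sum_bound : 1 + E G 2 + (E G 3 + E G 5 + E G 7 + E G 11 + E G 19) +
    (P2 G 3 2 + P2 G 5 2 + P2 G 7 2 + P2 G 11 2 + P2 G 19 2) +
    (P2 G 3 5 + P2 G 3 7 + P2 G 3 11 + P2 G 3 19 + P2 G 5 7 + P2 G 5 11 + P2 G 5 19 + P2 G 7 11 +
      P2 G 7 19 + P2 G 11 19) + E G 12 ≤ Nat.card G := by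
  have h := count_le (G := G) (insert 12 orders)
  simp only [orders, Finset.sum_insert, Finset.mem_insert, Finset.mem_singleton, Finset.sum_singleton,
    OfNat.ofNat_ne_one, OfNat.one_ne_ofNat, Nat.reduceEqDiff, not_false_eq_true, or_self] at h
  have h1 : 1 ≤ E G 1 := Nat.one_le_iff_ne_zero.2 (Nat.card_ne_zero.2 ⟨⟨⟨1, orderOf_one⟩⟩, inferInstance⟩)
  have a1 := P2_le (G := G) (show Nat.Coprime 3 2 by norm_num)
  have a2 := P2_le (G := G) (show Nat.Coprime 5 2 by norm_num)
  have a3 := P2_le (G := G) (show Nat.Coprime 7 2 by norm_num)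
  have a4 := P2_le (G := G) (show Nat.Coprime 11 2 by norm_num)
  have a5 := P2_le (G := G) (show Nat.Coprime 19 2 by norm_num)
  have b1 := P2_le (G := G) (show Nat.Coprime 3 5 by norm_num)
  have b2 := P2_le (G := G) (show Nat.Coprime 3 7 by norm_num)
  have b3 := P2_le (G := G) (show Nat.Coprime 3 11 by norm_num)
  have b4 := P2_le (G := G) (show Nat.Coprime 3 19 by norm_num)
  have b5 := P2_le (G := G) (show Nat.Coprime 5 7 by norm_num)
  have b6 := P2_le (G := G) (show Nat.Coprime 5 11 by norm_num)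
  have b7 := P2_le (G := G) (show Nat.Coprime 5 19 by norm_num)
  have b8 := P2_le (G := G) (show Nat.Coprime 7 11 by norm_num)
  have b9 := P2_le (G := G) (show Nat.Coprime 7 19 by norm_num)
  have b10 := P2_le (G := G) (show Nat.Coprime 11 19 by norm_num)
  norm_num at a1 a2 a3 a4 a5 b1 b2 b3 b4 b5 b6 b7 b8 b9 b10
  linarith

/-! ### Sylow data -/

theorem not_sq_dvd {q m : ℕ} (hq : q ∈ [3, 5, 7, 11, 19]) (hm : m ∣ 175560) : ¬ q ^ 2 ∣ m := fun h => by
  have h' := h.trans hm
  simp only [List.mem_cons, List.not_mem_nil, or_false] at hq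
  rcases hq with rfl | rfl | rfl | rfl | rfl <;> omega

theorem card_sylow_prime {H : Type*} [Group H] [Finite H] {q : ℕ} [hq : Fact q.Prime]
    (h1 : q ∣ Nat.card H) (h2 : ¬ q ^ 2 ∣ Nat.card H) (Q : Sylow q H) : Nat.card ↥(Q : Subgroup H) = q := by
  rw [Q.card_eq_multiplicity]
  have ha := (hq.out.dvd_iff_one_le_factorization Nat.card_pos.ne').1 h1
  have hb : (Nat.card H).factorization q < 2 := by
    by_contra h
    exact h2 ((pow_dvd_pow q (not_lt.1 h)).trans (Nat.ordProj_dvd _ q))
  rw [show (Nat.card H).factorization q = 1 by omega, pow_one]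

theorem F_eq_card (x : G) (q : ℕ) :
    F x q = Nat.card {y : ↥(Subgroup.centralizer ({x} : Set G)) // orderOf y = q} :=
  Nat.card_congr ⟨fun y => ⟨⟨y, Subgroup.mem_centralizer_singleton_iff.2 y.2.2.eq.symm⟩,
      by rw [← Subgroup.orderOf_coe]; exact y.2.1⟩,
    fun y => ⟨y.1, by rw [Subgroup.orderOf_coe]; exact y.2,
      (Subgroup.mem_centralizer_singleton_iff.1 y.1.2).symm⟩, fun y => rfl, fun y => rfl⟩

theorem F_conj (g x : G) (q : ℕ) : F (g * x * g⁻¹) q = F x q := by
  refine (Nat.card_congr ((MulAut.conj g).toEquiv.subtypeEquiv fun y => ?_)).symm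
  show _ ↔ orderOf (MulAut.conj g y) = q ∧ Commute (MulAut.conj g x) (MulAut.conj g y)
  rw [show orderOf (MulAut.conj g y) = orderOf y from
    orderOf_injective (MulAut.conj g).toMonoidHom (MulAut.conj g).injective y]
  refine and_congr_right fun _ => ⟨fun h => h.map (MulAut.conj g).toMonoidHom, fun h => ?_⟩
  have := h.map (MulAut.conj g).symm.toMonoidHom
  simpa [mul_assoc] using this

theorem card_centralizer_conj (g x : G) :
    Nat.card ↥(Subgroup.centralizer ({g * x * g⁻¹} : Set G)) = Nat.card ↥(Subgroup.centralizer ({x} : Set G)) := by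
  refine (Nat.card_congr ((MulAut.conj g).toEquiv.subtypeEquiv fun y => ?_)).symm
  show y ∈ _ ↔ MulAut.conj g y ∈ _
  rw [Subgroup.mem_centralizer_singleton_iff, Subgroup.mem_centralizer_singleton_iff, MulAut.conj_apply]
  constructor
  · intro h
    calc g * y * g⁻¹ * (g * x * g⁻¹) = g * (y * x) * g⁻¹ := by group
      _ = _ := by rw [h]; group
  · intro h
    calc y * x = g⁻¹ * (g * y * g⁻¹ * (g * x * g⁻¹)) * g := by group
      _ = _ := by rw [h]; group

/-- The local data at an odd prime. -/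
structure Loc (G : Type*) [Group G] (p n e c : ℕ) : Prop where
  mem : (n, e, c) ∈ ops p
  hp : p ∈ [3, 5, 7, 11, 19]
  prime : p.Prime
  E_eq : E G p = n * (p - 1)
  cent : ∀ x : G, orderOf x = p → Nat.card ↥(Subgroup.centralizer ({x} : Set G)) = p * c
  transfer : ∀ x y : G, orderOf x = p → orderOf y = p → ∀ q, F x q = F y q

variable [IsSimpleGroup G]

theorem exists_loc (hcard : Nat.card G = 175560) {p : ℕ} (hp : p ∈ [3, 5, 7, 11, 19]) :
    ∃ n e c, Loc G p n e c := by
  have hG : ¬ IsMulCommutative G := SimpleOrder.not_comm_of_not_prime (by rw [hcard]; norm_num)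
  have hpr : p.Prime := by
    simp only [List.mem_cons, List.not_mem_nil, or_false] at hp
    rcases hp with rfl | rfl | rfl | rfl | rfl <;> norm_num
  haveI : Fact p.Prime := ⟨hpr⟩
  have hd : p ∣ Nat.card G := by
    rw [hcard]
    simp only [List.mem_cons, List.not_mem_nil, or_false] at hp
    rcases hp with rfl | rfl | rfl | rfl | rfl <;> norm_num
  have hS : ∀ Q : Sylow p G, Nat.card ↥(Q : Subgroup G) = p :=
    card_sylow_prime hd (not_sq_dvd hp (dvd_of_eq hcard))
  obtain ⟨x, hx⟩ := exists_prime_orderOf_dvd_card' p hd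
  obtain ⟨Q, hQ⟩ := SmallGroupBasic.exists_sylow_of_orderOf hS hx
  set N := Subgroup.normalizer (Subgroup.zpowers x : Set G) with hN
  set C := Subgroup.centralizer ({x} : Set G) with hC
  have hle : C ≤ N := by
    rw [hC, ← SmallGroupBasic.centralizer_zpowers]
    exact Subgroup.centralizer_le_normalizer _
  set e := (C.subgroupOf N).index with he
  have hNe : Nat.card ↥N = e * Nat.card ↥C := by
    rw [← Nat.card_congr (Subgroup.subgroupOfEquivOfLe hle).toEquiv, Subgroup.index_mul_card]
  have hed : e ∣ p - 1 := by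
    rw [he, hC, ← SmallGroupBasic.centralizer_zpowers, ← Subgroup.normalizerMonoidHom_ker,
      Subgroup.index_ker, ← Nat.totient_prime hpr, ← hx, ← Nat.card_zpowers, ← IsCyclic.card_mulAut]
    exact Subgroup.card_subgroup_dvd_card _
  have he1 : e ≠ 1 := by
    intro h
    have hNC : Subgroup.normalizer ((Q : Subgroup G) : Set G) ≤ Subgroup.centralizer ((Q : Subgroup G) : Set G) := by
      rw [hQ, SmallGroupBasic.centralizer_zpowers]
      exact Subgroup.relIndex_eq_one.1 h
    have hcomp := MonoidHom.ker_transferSylow_isComplement' Q hNC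
    have hmul := hcomp.card_mul_card
    rw [hS Q] at hmul
    rcases SimpleOrder.eq_bot_or_top (H := (MonoidHom.transferSylow Q hNC).ker) inferInstance with hk | hk
    · rw [hk, Subgroup.card_bot, one_mul, hcard] at hmul
      subst hmul
      norm_num at hpr
    · rw [hk, Subgroup.card_top] at hmul
      have := hpr.one_lt
      rw [hcard] at hmul
      omega
  set n := Nat.card (Sylow p G) with hn
  have hnN : n * Nat.card ↥N = 175560 := by
    rw [hn, Q.card_eq_index_normalizer, hN, ← hQ, ← hcard]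
    exact Subgroup.index_mul_card _
  have hn1 : n ≠ 1 := by
    intro h
    haveI : Subsingleton (Sylow p G) := Finite.card_le_one_iff_subsingleton.1 h.le
    have hnormal : (Q : Subgroup G).Normal := Sylow.normal_of_subsingleton Q
    rcases SimpleOrder.eq_bot_or_top hnormal with e' | e'
    · have h' := hS Q
      rw [e', Subgroup.card_bot] at h'
      exact hpr.ne_one h'.symm
    · have h' := hS Q
      rw [e', Subgroup.card_top, hcard] at h'
      rw [← h'] at hpr
      norm_num at hpr
  have hn_mod : n % p = 1 := by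
    have := card_sylow_modEq_one p G
    rwa [Nat.ModEq, Nat.one_mod_eq_one.2 hpr.ne_one] at this
  obtain ⟨c, hc⟩ : p ∣ Nat.card ↥C := by
    have h := orderOf_dvd_natCard (⟨x, Subgroup.mem_centralizer_singleton_iff.2 rfl⟩ : ↥C)
    rwa [← Subgroup.orderOf_coe, hx] at h
  have hall : ∀ y : G, orderOf y = p → ∃ g : G, ∃ j : ℕ, y = g * x ^ j * g⁻¹ ∧ Nat.Coprime j p := by
    intro y hy
    obtain ⟨R, hR⟩ := SmallGroupBasic.exists_sylow_of_orderOf hS hy
    obtain ⟨g, hg⟩ := MulAction.exists_smul_eq G Q R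
    have hyR : y ∈ ((g • Q : Sylow p G) : Subgroup G) := by rw [hg, hR]; exact Subgroup.mem_zpowers y
    rw [Sylow.coe_subgroup_smul, Subgroup.mem_pointwise_smul_iff_inv_smul_mem, ← map_inv, MulAut.smul_def,
      MulAut.conj_apply, inv_inv, hQ, mem_zpowers_iff_mem_range_orderOf, Finset.mem_image] at hyR
    obtain ⟨j, hj, hje⟩ := hyR
    refine ⟨g, j, by rw [hje]; group, ?_⟩
    rw [Nat.coprime_comm, hpr.coprime_iff_not_dvd]
    rintro ⟨w, rfl⟩
    rw [pow_mul, ← hx, pow_orderOf_eq_one, one_pow] at hje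
    have : y = 1 := by
      calc y = g * (g⁻¹ * y * g) * g⁻¹ := by group
        _ = 1 := by rw [← hje]; group
    rw [this, orderOf_one] at hy
    exact hpr.ne_one hy.symm
  have hpow : ∀ j : ℕ, Nat.Coprime j p → ∀ y : G, Commute (x ^ j) y ↔ Commute x y := by
    intro j hj y
    refine ⟨fun h => ?_, fun h => h.pow_left j⟩
    obtain ⟨m, hm⟩ := exists_pow_eq_self_of_coprime (x := x) (n := j) (by rwa [hx])
    rw [← hm]
    exact h.pow_left m
  refine ⟨n, e, c, mem_ops hp hn_mod hn1 he1 hed (by rw [← hc, mul_assoc, ← hNe, hnN]), hp, hpr,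
    SmallGroupBasic.card_orderOf_eq hS, fun y hy => ?_, fun y z hy hz q => ?_⟩
  · obtain ⟨g, j, rfl, hj⟩ := hall y hy
    rw [card_centralizer_conj, ← hc]
    congr 2
    ext z
    rw [Subgroup.mem_centralizer_singleton_iff, hC, Subgroup.mem_centralizer_singleton_iff]
    exact ⟨fun h => ((hpow j hj z).1 h.symm).eq.symm, fun h => ((hpow j hj z).2 h.symm).eq.symm⟩
  · have key : ∀ w : G, orderOf w = p → F w q = F x q := by
      intro w hw
      obtain ⟨g, j, rfl, hj⟩ := hall w hw
      rw [F_conj]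
      exact Nat.card_congr (Equiv.subtypeEquivRight fun v => and_congr_right fun _ => hpow j hj v)
    rw [key y hy, key z hz]

omit [IsSimpleGroup G] in
theorem F_odd (hcard : Nat.card G = 175560) {p n e c : ℕ} (L : Loc G p n e c) {q : ℕ}
    (hq : q ∈ [3, 5, 7, 11, 19]) (hne : q ≠ p) {x : G} (hx : orderOf x = p) :
    ∃ a ∈ cand q c, F x q = a * (q - 1) := by
  have hqp : q.Prime := by
    simp only [List.mem_cons, List.not_mem_nil, or_false] at hq
    rcases hq with rfl | rfl | rfl | rfl | rfl <;> norm_num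
  haveI : Fact q.Prime := ⟨hqp⟩
  set C := Subgroup.centralizer ({x} : Set G) with hC
  have hCc : Nat.card ↥C = p * c := L.cent x hx
  have hCd : Nat.card ↥C ∣ 175560 := hcard ▸ C.card_subgroup_dvd_card
  rw [F_eq_card]
  by_cases hqc : q ∣ c
  · have hd : q ∣ Nat.card ↥C := hCc ▸ dvd_mul_of_dvd_right hqc p
    have hS : ∀ Q : Sylow q ↥C, Nat.card ↥(Q : Subgroup ↥C) = q :=
      card_sylow_prime hd (not_sq_dvd hq hCd)
    refine ⟨Nat.card (Sylow q ↥C), ?_, SmallGroupBasic.card_orderOf_eq hS⟩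
    have hmod : Nat.card (Sylow q ↥C) % q = 1 := by
      have := card_sylow_modEq_one q ↥C
      rwa [Nat.ModEq, Nat.one_mod_eq_one.2 hqp.ne_one] at this
    obtain ⟨Q⟩ := (inferInstance : Nonempty (Sylow q ↥C))
    set a := Nat.card (Sylow q ↥C)
    have ha : a * Nat.card ↥(Subgroup.normalizer ((Q : Subgroup ↥C) : Set ↥C)) = p * c := by
      rw [show a = _ from Q.card_eq_index_normalizer, ← hCc]
      exact Subgroup.index_mul_card _
    have hxN : p ∣ Nat.card ↥(Subgroup.normalizer ((Q : Subgroup ↥C) : Set ↥C)) := by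
      have hxC : x ∈ C := Subgroup.mem_centralizer_singleton_iff.2 rfl
      have hxn : (⟨x, hxC⟩ : ↥C) ∈ Subgroup.normalizer ((Q : Subgroup ↥C) : Set ↥C) := by
        apply Subgroup.centralizer_le_normalizer
        rw [Subgroup.mem_centralizer_iff]
        intro y _
        exact Subtype.ext (Subgroup.mem_centralizer_singleton_iff.1 y.2)
      have h := Subgroup.orderOf_dvd_natCard _ hxn
      rwa [← Subgroup.orderOf_coe, hx] at h
    obtain ⟨w, hw⟩ := hxN
    rw [hw] at ha
    have hac : a ∣ c := ⟨w, Nat.eq_of_mul_eq_mul_left L.prime.pos (by rw [← ha]; ring)⟩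
    simp only [cand, if_pos hqc, List.mem_filter, decide_eq_true_eq]
    exact ⟨mem_D (hac.trans ((dvd_mul_left c p).trans (hCc ▸ hCd))), hac, hmod⟩
  · refine ⟨0, by simp [cand, hqc], ?_⟩
    rw [zero_mul, Nat.card_eq_zero]
    refine Or.inl ⟨fun ⟨y, hy⟩ => ?_⟩
    have h := orderOf_dvd_natCard y
    rw [hy, hCc] at h
    rcases hqp.dvd_mul.1 h with h | h
    · exact hne ((Nat.prime_dvd_prime_iff_eq hqp L.prime).1 h)
    · exact hqc h

omit [IsSimpleGroup G] in
theorem F_two {p n e c : ℕ} (L : Loc G p n e c) {x : G} (hx : orderOf x = p) :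
    if c % 2 = 0 then F x 2 % 2 = 1 else F x 2 = 0 := by
  haveI : Fintype G := Fintype.ofFinite G
  haveI : Fact (Nat.Prime 2) := ⟨Nat.prime_two⟩
  set C := Subgroup.centralizer ({x} : Set G) with hC
  have hCc : Nat.card ↥C = p * c := L.cent x hx
  have hpodd : p % 2 = 1 := by
    have h := L.hp
    simp only [List.mem_cons, List.not_mem_nil, or_false] at h
    rcases h with rfl | rfl | rfl | rfl | rfl <;> norm_num
  rw [F_eq_card, ← hC]
  split_ifs with h2
  · let σ : Equiv.Perm ↥C := Equiv.inv ↥C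
    have hσ : σ ^ 2 ^ 1 = 1 := by
      ext y
      simp [σ, pow_two]
    have hmod := Equiv.Perm.card_compl_support_modEq hσ
    have hfix : σ.supportᶜ = insert 1 (Finset.univ.filter fun y : ↥C => orderOf y = 2) := by
      ext y
      simp only [Finset.mem_compl, Equiv.Perm.mem_support, not_not, Finset.mem_insert, Finset.mem_filter,
        Finset.mem_univ, true_and, σ, Equiv.inv_apply]
      constructor
      · intro h
        by_cases hy : y = 1
        · exact Or.inl hy
        · exact Or.inr (orderOf_eq_prime (by rw [pow_two]; exact inv_eq_iff_mul_eq_one.1 h) hy)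
      · rintro (rfl | h)
        · exact inv_one
        · exact inv_eq_of_mul_eq_one_right (by rw [← pow_two, ← h]; exact pow_orderOf_eq_one y)
    rw [hfix, Finset.card_insert_of_notMem (by simp), ← Nat.card_eq_fintype_card, hCc,
      ← Fintype.card_subtype, ← Nat.card_eq_fintype_card] at hmod
    unfold Nat.ModEq at hmod
    have hpc : (p * c) % 2 = 0 := by rw [Nat.mul_mod, h2, Nat.mul_zero, Nat.zero_mod]
    omega
  · rw [Nat.card_eq_zero]
    refine Or.inl ⟨fun ⟨y, hy⟩ => ?_⟩
    have h := orderOf_dvd_natCard y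
    rw [hy, hCc] at h
    rcases Nat.prime_two.dvd_mul.1 h with h | h <;> omega

omit [IsSimpleGroup G] in
theorem pm_bound (hcard : Nat.card G = 175560) {p n e c q n' e' c' : ℕ} (L : Loc G p n e c)
    (L' : Loc G q n' e' c') (hne : p ≠ q) : pm p (n, e, c) q (n', e', c') ≤ P2 G p q := by
  obtain ⟨x, hx⟩ := exists_prime_orderOf_dvd_card' (G := G) p (hp := ⟨L.prime⟩) (by
    rw [hcard]; have h := L.hp; simp only [List.mem_cons, List.not_mem_nil, or_false] at h
    rcases h with rfl | rfl | rfl | rfl | rfl <;> norm_num)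
  obtain ⟨y, hy⟩ := exists_prime_orderOf_dvd_card' (G := G) q (hp := ⟨L'.prime⟩) (by
    rw [hcard]; have h := L'.hp; simp only [List.mem_cons, List.not_mem_nil, or_false] at h
    rcases h with rfl | rfl | rfl | rfl | rfl <;> norm_num)
  obtain ⟨a, ha, hFa⟩ := F_odd hcard L L'.hp hne.symm hx
  obtain ⟨b, hb, hFb⟩ := F_odd hcard L' L.hp hne hy
  refine pm_le (a := a) (b := b) ha hb ?_ ?_
  · rw [P2_eq fun z hz => (L.transfer z x hz hx q).trans hFa, L.E_eq]
  · rw [P2_comm, P2_eq fun z hz => (L'.transfer z y hz hy p).trans hFb, L'.E_eq]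

/-- The data at the prime 2 together with an odd prime. -/
theorem two_data (hcard : Nat.card G = 175560) {t : G} (hall : ∀ i : G, orderOf i = 2 ↔ IsConj t i)
    {k : ℕ} (hk : Nat.card ↥(Subgroup.centralizer ({t} : Set G)) = 8 * k) (hk0 : k ∣ 21945)
    {p n e c : ℕ} (L : Loc G p n e c) :
    ∃ a b : ℕ, b ∈ cand p (8 * k) ∧ F t p = b * (p - 1) ∧ (∀ x : G, orderOf x = p → F x 2 = a) ∧
      (if c % 2 = 0 then a % 2 = 1 else a = 0) ∧ P2 G p 2 = n * (p - 1) * a ∧
      P2 G p 2 = 21945 / k * (b * (p - 1)) := by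
  haveI : Fact p.Prime := ⟨L.prime⟩
  haveI : Fintype G := Fintype.ofFinite G
  obtain ⟨x, hx⟩ := exists_prime_orderOf_dvd_card' (G := G) p (by
    rw [hcard]; have h := L.hp; simp only [List.mem_cons, List.not_mem_nil, or_false] at h
    rcases h with rfl | rfl | rfl | rfl | rfl <;> norm_num)
  have hI : E G 2 = 21945 / k := by
    rw [E, Nat.card_congr (Equiv.subtypeEquivRight hall), SmallGroupBasic.card_isConj_eq_index]
    have h := (Subgroup.centralizer ({t} : Set G)).index_mul_card
    rw [hk, hcard] at h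
    have hkpos : 0 < k := Nat.pos_of_dvd_of_pos hk0 (by norm_num)
    exact (Nat.div_eq_of_eq_mul_left hkpos (by linarith)).symm
  have hFt : ∀ i : G, orderOf i = 2 → F i p = F t p := fun i hi => by
    obtain ⟨g, rfl⟩ := isConj_iff.1 ((hall i).1 hi)
    exact F_conj g t p
  set C := Subgroup.centralizer ({t} : Set G) with hC
  have hb : ∃ b ∈ cand p (8 * k), F t p = b * (p - 1) := by
    rw [F_eq_card]
    by_cases hpk : p ∣ 8 * k
    · have hd : p ∣ Nat.card ↥C := hk ▸ hpk
      have hS : ∀ Q : Sylow p ↥C, Nat.card ↥(Q : Subgroup ↥C) = p :=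
        card_sylow_prime hd (not_sq_dvd L.hp (hcard ▸ C.card_subgroup_dvd_card))
      refine ⟨Nat.card (Sylow p ↥C), ?_, SmallGroupBasic.card_orderOf_eq hS⟩
      obtain ⟨Q⟩ := (inferInstance : Nonempty (Sylow p ↥C))
      have hdvd : Nat.card (Sylow p ↥C) ∣ 8 * k := by
        rw [← hk]
        exact Q.card_dvd_index.trans (Subgroup.index_dvd_card _)
      have hmod : Nat.card (Sylow p ↥C) % p = 1 := by
        have := card_sylow_modEq_one p ↥C
        rwa [Nat.ModEq, Nat.one_mod_eq_one.2 L.prime.ne_one] at this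
      simp only [cand, if_pos hpk, List.mem_filter, decide_eq_true_eq]
      exact ⟨mem_D (hdvd.trans (hk ▸ hcard ▸ C.card_subgroup_dvd_card)), hdvd, hmod⟩
    · refine ⟨0, by simp [cand, hpk], ?_⟩
      rw [zero_mul, Nat.card_eq_zero]
      refine Or.inl ⟨fun ⟨y, hy⟩ => hpk ?_⟩
      have h := orderOf_dvd_natCard y
      rwa [hy, hk] at h
  obtain ⟨b, hb1, hb2⟩ := hb
  refine ⟨F x 2, b, hb1, hb2, fun z hz => L.transfer z x hz hx 2, F_two L hx, ?_, ?_⟩
  · rw [P2_eq fun z hz => L.transfer z x hz hx 2, L.E_eq]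
  · rw [P2_comm, P2_eq fun i hi => (hFt i hi).trans hb2, hI]

theorem tm_bound (hcard : Nat.card G = 175560) {t : G} (hall : ∀ i : G, orderOf i = 2 ↔ IsConj t i)
    {k : ℕ} (hk : Nat.card ↥(Subgroup.centralizer ({t} : Set G)) = 8 * k) (hk0 : k ∣ 21945)
    {p n e c : ℕ} (L : Loc G p n e c) : tm p (n, e, c) k ≤ P2 G p 2 := by
  obtain ⟨a, b, hb, -, -, ha, h1, h2⟩ := two_data hcard hall hk hk0 L
  refine tm_le ?_ hb h1 h2 ha
  have h0 : 0 < n := by
    rcases Nat.eq_zero_or_pos n with h | h
    · exfalso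
      have hm := L.E_eq
      rw [h, zero_mul, E, Nat.card_eq_zero] at hm
      rcases hm with hm | hm
      · obtain ⟨x, hx⟩ := exists_prime_orderOf_dvd_card' (G := G) p (hp := ⟨L.prime⟩) (by
          rw [hcard]; have h := L.hp; simp only [List.mem_cons, List.not_mem_nil, or_false] at h
          rcases h with rfl | rfl | rfl | rfl | rfl <;> norm_num)
        exact hm.false ⟨x, hx⟩
      · exact not_finite {g : G // orderOf g = p}
    · exact h
  have := L.prime.one_lt
  exact Nat.mul_pos h0 (by omega)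

end Cfsg.Agent.Ord175560Count91
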