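import Cfsg.Agent.Lib.Ord175560Count91
import Cfsg.Agent.Lib.KleinFourSimple54
import Cfsg.Agent.Lib.DicksonSmall
import Mathlib

/-!
The centralizer of an involution in a simple group of order `175560` is `C₂ × A₅`.
-/

set_option autoImplicit false
set_option linter.style.haveILetI false
set_option linter.unusedSectionVars false

namespace Cfsg.Agent.Ord175560Struct91

open Cfsg Cfsg.Agent.Ord175560Arith91 Cfsg.Agent.Ord175560Count91

section C120

theorem a5_facts : (∀ a : alternatingGroup (Fin 5), a ^ 8 = 1 → a * a = 1) ∧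
    ∃ a0 : alternatingGroup (Fin 5), ∀ a : alternatingGroup (Fin 5), a * a = 1 → a = 1 ∨ ∃ c, c * a0 * c⁻¹ = a :=
  ⟨by decide +kernel,
    ⟨Equiv.swap 0 1 * Equiv.swap 2 3, Equiv.Perm.mem_alternatingGroup.2 (by decide +kernel)⟩, by decide +kernel⟩

attribute [local instance] Classical.propDecidable

variable {C : Type*} [Group C] [Finite C]

/-- A group of order 120 with a central involution and Sylow numbers 10 and 6 is a central extension of `A₅`. -/
theorem exists_proj (hc : Nat.card C = 120) {t : C} (ht : orderOf t = 2) (hcen : ∀ c, c * t = t * c)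
    (h3 : Nat.card {u : C // orderOf u = 3} = 20) (h5 : Nat.card {u : C // orderOf u = 5} = 24)
    (hno : ∀ x k : C, orderOf x = 3 → Commute x k → Commute k t → k ≠ 1 → k ≠ t → k * k ∈ Subgroup.zpowers t → False) :
    ∃ ψ : C →* alternatingGroup (Fin 5), Function.Surjective ψ ∧ ψ.ker = Subgroup.zpowers t := by
  set Z := Subgroup.zpowers t with hZ
  haveI : Z.Normal := ⟨fun z hz g => by
    obtain ⟨k, rfl⟩ := Subgroup.mem_zpowers_iff.1 hz
    rw [((show Commute g t from hcen g).zpow_right k).eq, mul_inv_cancel_right]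
    exact Subgroup.mem_zpowers_iff.2 ⟨k, rfl⟩⟩
  set π := QuotientGroup.mk' Z with hπ
  have hZc : Nat.card ↥Z = 2 := by rw [hZ, Nat.card_zpowers, ht]
  have hQ : Nat.card (C ⧸ Z) = 60 := by
    have h := Z.index_mul_card
    rw [hc, hZc, Subgroup.index_eq_card] at h
    omega
  have hnc : ∀ x : C ⧸ Z, x ≠ 1 → ¬ (Subgroup.zpowers x).Normal := by
    intro x hx hN
    have ho1 : orderOf x ≠ 1 := fun e => hx (orderOf_eq_one_iff.1 e)
    obtain ⟨r, hr, hrd⟩ := Nat.exists_prime_and_dvd ho1
    set y := x ^ (orderOf x / r) with hydef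
    have hy : orderOf y = r := orderOf_pow_orderOf_div (orderOf_pos x).ne' hrd
    have hyN : (Subgroup.zpowers y).Normal := ⟨fun z hz g => by
      obtain ⟨k, rfl⟩ := Subgroup.mem_zpowers_iff.1 hz
      obtain ⟨m, hm⟩ := Subgroup.mem_zpowers_iff.1 (hN.conj_mem x (Subgroup.mem_zpowers x) g)
      refine Subgroup.mem_zpowers_iff.2 ⟨m * k, ?_⟩
      rw [← conj_zpow, hydef, ← conj_pow, ← hm, zpow_mul]
      congr 1
      rw [← zpow_natCast, ← zpow_natCast, ← zpow_mul, ← zpow_mul, mul_comm]⟩
    set K := (Subgroup.zpowers y).comap π with hK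
    haveI : K.Normal := hyN.comap π
    have hKc : Nat.card ↥K = 2 * r := by
      have h1 : K.index = (Subgroup.zpowers y).index :=
        Subgroup.index_comap_of_surjective _ (QuotientGroup.mk'_surjective Z)
      have h2 := K.index_mul_card
      have h3 := (Subgroup.zpowers y).index_mul_card
      rw [Nat.card_zpowers, hy, hQ] at h3
      rw [h1, hc] at h2
      have h4 : (Subgroup.zpowers y).index ≠ 0 := Subgroup.index_ne_zero_of_finite
      apply Nat.eq_of_mul_eq_mul_left (Nat.pos_of_ne_zero h4)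
      rw [h2, mul_left_comm, h3]
      all_goals norm_num
    have hr60 : r ∣ 60 := hy ▸ hQ ▸ orderOf_dvd_natCard y
    have hbig : ∀ s : ℕ, s.Prime → r = s → 2 * s < Nat.card {u : C // orderOf u = s} → ¬ s ∣ 60 / s → False := by
      intro s hs hrs hlt hcop
      have hall : ∀ u : C, orderOf u = s → u ∈ K := by
        intro u hu
        rw [← QuotientGroup.eq_one_iff, ← orderOf_eq_one_iff]
        have d1 : orderOf (u : C ⧸ K) ∣ s := hu ▸ orderOf_map_dvd (QuotientGroup.mk' K) u
        rcases (Nat.dvd_prime hs).1 d1 with e | e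
        · exact e
        · exfalso
          apply hcop
          have h := orderOf_dvd_natCard (u : C ⧸ K)
          rw [e, ← Subgroup.index_eq_card, Subgroup.index_comap_of_surjective _ (QuotientGroup.mk'_surjective Z)] at h
          have h3 := (Subgroup.zpowers y).index_mul_card
          rw [Nat.card_zpowers, hy, hQ, hrs] at h3
          rwa [← h3, Nat.mul_div_cancel _ hs.pos]
      have hle : Nat.card {u : C // orderOf u = s} ≤ Nat.card ↥K :=
        Nat.card_le_card_of_injective (fun u => ⟨u.1, hall u.1 u.2⟩) fun a b e => by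
          simp only [Subtype.mk.injEq] at e
          exact Subtype.ext e
      omega
    by_cases e3 : r = 3
    · exact hbig 3 Nat.prime_three e3 (by omega) (by norm_num)
    by_cases e5 : r = 5
    · exact hbig 5 (by norm_num) e5 (by omega) (by norm_num)
    have e2 : r = 2 := by
      rcases hr.dvd_mul.1 (show r ∣ 4 * 15 from hr60) with h | h
      · exact (Nat.prime_dvd_prime_iff_eq hr Nat.prime_two).1 (hr.dvd_of_dvd_pow (show r ∣ 2 ^ 2 from h))
      · rcases hr.dvd_mul.1 (show r ∣ 3 * 5 from h) with h | h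
        · exact absurd ((Nat.prime_dvd_prime_iff_eq hr Nat.prime_three).1 h) e3
        · exact absurd ((Nat.prime_dvd_prime_iff_eq hr (by norm_num)).1 h) e5
    subst e2
    have hy1 : y ≠ 1 := fun e => by rw [e, orderOf_one] at hy; omega
    have hyc : ∀ g : C ⧸ Z, g * y * g⁻¹ = y := by
      intro g
      have h := hyN.conj_mem y (Subgroup.mem_zpowers y) g
      rw [mem_zpowers_iff_mem_range_orderOf, hy] at h
      simp only [Finset.mem_image, Finset.mem_range] at h
      obtain ⟨n, hn, he⟩ := h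
      interval_cases n
      · rw [pow_zero] at he
        exact absurd (conj_eq_one_iff.1 he.symm) hy1
      · rw [pow_one] at he
        exact he.symm
    obtain ⟨k, hk⟩ := QuotientGroup.mk'_surjective Z y
    haveI : Fact (Nat.Prime 3) := ⟨Nat.prime_three⟩
    obtain ⟨x, hx3⟩ := exists_prime_orderOf_dvd_card' (G := C) 3 (by rw [hc]; norm_num)
    have hxk : x * k * x⁻¹ = k ∨ x * k * x⁻¹ = k * t := by
      have h : k⁻¹ * (x * k * x⁻¹) ∈ Z := by
        rw [← QuotientGroup.eq]
        change π k = π (x * k * x⁻¹)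
        simp only [map_mul, map_inv, hπ, hk]
        exact (hyc _).symm
      rw [hZ, mem_zpowers_iff_mem_range_orderOf, ht] at h
      simp only [Finset.mem_image, Finset.mem_range] at h
      obtain ⟨n, hn, he⟩ := h
      interval_cases n
      · left
        rw [pow_zero] at he
        exact (mul_eq_one_iff_inv_eq.1 he.symm).symm.trans (inv_inv k)
      · right
        rw [pow_one] at he
        rw [he, mul_inv_cancel_left]
    have hxk' : x * k * x⁻¹ = k := by
      rcases hxk with h | h
      · exact h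
      · exfalso
        have htt : t * t = 1 := by rw [← pow_two, ← ht]; exact pow_orderOf_eq_one t
        have hxt : x * t * x⁻¹ = t := by rw [hcen x, mul_inv_cancel_right]
        have h2 : x ^ 2 * k * (x ^ 2)⁻¹ = k := by
          calc x ^ 2 * k * (x ^ 2)⁻¹ = x * (x * k * x⁻¹) * x⁻¹ := by rw [pow_two, mul_inv_rev]; simp only [mul_assoc]
            _ = x * (k * t) * x⁻¹ := by rw [h]
            _ = (x * k * x⁻¹) * (x * t * x⁻¹) := by group
            _ = k := by rw [h, hxt, mul_assoc, htt, mul_one]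
        have h3' : x ^ 3 * k * (x ^ 3)⁻¹ = k * t := by
          calc x ^ 3 * k * (x ^ 3)⁻¹ = x * (x ^ 2 * k * (x ^ 2)⁻¹) * x⁻¹ := by group
            _ = k * t := by rw [h2, h]
        rw [← hx3, pow_orderOf_eq_one, one_mul, inv_one, mul_one] at h3'
        have : t = 1 := mul_eq_left.1 h3'.symm
        rw [this, orderOf_one] at ht
        omega
    refine hno x k hx3 (mul_inv_eq_iff_eq_mul.1 hxk') (hcen k) ?_ ?_ ?_
    · rintro rfl
      exact hy1 (by rw [← hk, map_one])
    · rintro rfl
      refine hy1 (hk.symm.trans ?_)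
      exact (QuotientGroup.eq_one_iff _).2 (Subgroup.mem_zpowers _)
    · rw [← QuotientGroup.eq_one_iff]
      change π (k * k) = 1
      rw [map_mul, hπ, hk, ← pow_two, ← hy, pow_orderOf_eq_one]
  obtain ⟨e⟩ := DicksonSmall.iso_A5 hQ hnc
  refine ⟨e.toMonoidHom.comp π, e.surjective.comp (QuotientGroup.mk'_surjective Z), ?_⟩
  rw [← MonoidHom.comap_ker, (MonoidHom.ker_eq_bot_iff e.toMonoidHom).2 e.injective, MonoidHom.comap_bot, hπ,
    QuotientGroup.ker_mk']

/-- A central extension of `A₅` of order 120 with a second involution splits. -/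
theorem iso_of_proj (hc : Nat.card C = 120) {t : C} (ht : orderOf t = 2) (hcen : ∀ c, c * t = t * c)
    {ψ : C →* alternatingGroup (Fin 5)} (hs : Function.Surjective ψ) (hker : ψ.ker = Subgroup.zpowers t)
    {j : C} (hj : orderOf j = 2) (hjt : j ≠ t) :
    Nonempty (C ≃* Multiplicative (ZMod 2) × alternatingGroup (Fin 5)) := by
  haveI : Fact (Nat.Prime 2) := ⟨Nat.prime_two⟩
  obtain ⟨S⟩ := (inferInstance : Nonempty (Sylow 2 C))
  have h8 : Nat.card ↥(S : Subgroup C) = 8 := by
    rw [S.card_eq_multiplicity, hc, show (120 : ℕ) = 2 ^ 3 * 15 by norm_num,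
      Nat.factorization_mul (by norm_num) (by norm_num), Nat.factorization_pow]
    simp [Nat.factorization_eq_zero_of_not_dvd (show ¬ 2 ∣ 15 by norm_num), Nat.prime_two.factorization_self]
  have hker' : ∀ u : C, ψ u = 1 → u = 1 ∨ u = t := by
    intro u hu
    have h : u ∈ Subgroup.zpowers t := hker ▸ hu
    rw [mem_zpowers_iff_mem_range_orderOf, ht] at h
    simp only [Finset.mem_image, Finset.mem_range] at h
    obtain ⟨n, hn, he⟩ := h
    interval_cases n
    · exact Or.inl (by rw [← he, pow_zero])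
    · exact Or.inr (by rw [← he, pow_one])
  have htt : t * t = 1 := by rw [← pow_two, ← ht]; exact pow_orderOf_eq_one t
  have hjj : j * j = 1 := by rw [← pow_two, ← hj]; exact pow_orderOf_eq_one j
  have hsq : ∀ u ∈ S, u * u = 1 := by
    intro u hu
    obtain ⟨h48, a0, ha0⟩ := a5_facts
    have hu8 : ψ u ^ 8 = 1 := by
      rw [← map_pow, show u ^ 8 = 1 from ?_, map_one]
      exact orderOf_dvd_iff_pow_eq_one.1 (h8 ▸ Subgroup.orderOf_dvd_natCard _ hu)
    rcases ha0 _ (h48 _ hu8) with h | ⟨c, hcu⟩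
    · rcases hker' u h with rfl | rfl
      · exact one_mul 1
      · exact htt
    · have hψj : ψ j ≠ 1 := fun h => by
        rcases hker' j h with e | e
        · rw [e, orderOf_one] at hj; omega
        · exact hjt e
      rcases ha0 (ψ j) (by rw [← map_mul, hjj, map_one]) with h | ⟨d, hdj⟩
      · exact absurd h hψj
      obtain ⟨g, hg⟩ := hs (c * d⁻¹)
      have hgu : ψ (g * j * g⁻¹) = ψ u := by
        rw [map_mul, map_mul, map_inv, hg, ← hdj, ← hcu]
        group
      rcases hker' ((g * j * g⁻¹)⁻¹ * u) (by rw [map_mul, map_inv, hgu, inv_mul_cancel]) with e | e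
      · rw [inv_mul_eq_one.1 e |>.symm]
        calc g * j * g⁻¹ * (g * j * g⁻¹) = g * (j * j) * g⁻¹ := by group
          _ = 1 := by rw [hjj]; group
      · rw [inv_mul_eq_iff_eq_mul] at e
        rw [e]
        calc g * j * g⁻¹ * t * (g * j * g⁻¹ * t) = g * j * g⁻¹ * (t * (g * j * g⁻¹)) * t := by group
          _ = g * j * g⁻¹ * ((g * j * g⁻¹) * t) * t := by rw [← hcen (g * j * g⁻¹)]
          _ = g * (j * j) * g⁻¹ * (t * t) := by group
          _ = 1 := by rw [hjj, htt]; group
  have hcomm : ∀ a b : ↥(S : Subgroup C), a * b = b * a := by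
    have hinv : ∀ a : ↥(S : Subgroup C), a⁻¹ = a := fun a =>
      inv_eq_of_mul_eq_one_right (Subtype.ext (hsq a a.2))
    intro a b
    rw [← hinv (a * b), mul_inv_rev, hinv, hinv]
  letI : CommGroup ↥(S : Subgroup C) := { (inferInstance : Group ↥(S : Subgroup C)) with mul_comm := hcomm }
  set τ : C →* ↥(S : Subgroup C) := MonoidHom.transfer (MonoidHom.id ↥(S : Subgroup C)) with hτ
  have hidx : (S : Subgroup C).index = 15 := by
    have h := (S : Subgroup C).index_mul_card
    rw [hc, h8] at h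
    omega
  have hτt : τ t ≠ 1 := by
    intro h
    rw [hτ, MonoidHom.transfer_eq_pow _ t (fun k g _ => by
      rw [((show Commute g⁻¹ t from hcen g⁻¹).pow_right k).eq, inv_mul_cancel_right])] at h
    have h' := congrArg Subtype.val h
    simp only [MonoidHom.id_apply, OneMemClass.coe_one, hidx] at h'
    have := orderOf_dvd_of_pow_eq_one h'
    rw [ht] at this
    omega
  set K := τ.ker with hK
  have hKinj : Function.Injective (ψ.comp K.subtype) := by
    rw [injective_iff_map_eq_one]
    rintro ⟨u, hu⟩ h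
    rcases hker' u h with e | e
    · exact Subtype.ext e
    · exact absurd (e ▸ hu : t ∈ K) hτt
  haveI : IsSimpleGroup (alternatingGroup (Fin 5)) :=
    alternatingGroup.isSimpleGroup (by simp)
  haveI hKN : (K.map ψ).Normal := Subgroup.Normal.map inferInstance ψ hs
  have hKsurj : Function.Surjective (ψ.comp K.subtype) := by
    rcases hKN.eq_bot_or_eq_top with h | h
    · exfalso
      have hKb : K = ⊥ := by
        rw [Subgroup.eq_bot_iff_forall]
        intro u hu
        have h1 : ψ u ∈ K.map ψ := Subgroup.mem_map_of_mem ψ hu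
        rw [h, Subgroup.mem_bot] at h1
        exact congrArg Subtype.val (hKinj (a₁ := ⟨u, hu⟩) (a₂ := 1) (by simpa using h1))
      have h2 := Nat.card_le_card_of_injective τ (τ.ker_eq_bot_iff.1 hKb)
      omega
    · intro a
      obtain ⟨u, hu, rfl⟩ := (h ▸ Subgroup.mem_top a : a ∈ K.map ψ)
      exact ⟨⟨u, hu⟩, rfl⟩
  let eK : ↥K ≃* alternatingGroup (Fin 5) := MulEquiv.ofBijective _ ⟨hKinj, hKsurj⟩
  set Z := Subgroup.zpowers t with hZ
  have hZcomm : ∀ (z : ↥Z) (c : C), Commute (z : C) c := by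
    rintro ⟨z, hz⟩ c
    obtain ⟨n, rfl⟩ := Subgroup.mem_zpowers_iff.1 hz
    exact ((show Commute c t from hcen c).zpow_right n).symm
  let f : ↥Z × ↥K →* C := MonoidHom.noncommCoprod Z.subtype K.subtype fun z k => hZcomm z k
  have hf : ∀ z k, f (z, k) = (z : C) * k := fun z k => rfl
  have hfinj : Function.Injective f := by
    rw [injective_iff_map_eq_one]
    rintro ⟨⟨z, hz⟩, ⟨u, hu⟩⟩ h
    rw [hf] at h
    simp only at h
    have hzψ : ψ z = 1 := by rw [← MonoidHom.mem_ker, hker]; exact hz
    have hu1 : (⟨u, hu⟩ : ↥K) = 1 := hKinj (by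
      rw [map_one]
      have h' := congrArg ψ h
      rwa [map_mul, hzψ, one_mul, map_one] at h')
    have hu1' : u = 1 := congrArg Subtype.val hu1
    subst hu1'
    rw [mul_one] at h
    subst h
    rfl
  have hZ2 : Nat.card ↥Z = 2 := by rw [hZ, Nat.card_zpowers, ht]
  have hK60 : Nat.card ↥K = 60 := by
    have h := Nat.card_congr eK.toEquiv
    rw [h, Nat.card_eq_fintype_card]
    decide +kernel
  have hfb : Function.Bijective f :=
    hfinj.bijective_of_nat_card_le (by rw [Nat.card_prod, hZ2, hK60, hc])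
  haveI : IsCyclic ↥Z := Subgroup.isCyclic_zpowers t
  let eZ : ↥Z ≃* Multiplicative (ZMod 2) := mulEquivOfCyclicCardEq (by
    rw [hZ2]; exact (Nat.card_zmod 2).symm)
  exact ⟨(MulEquiv.ofBijective f hfb).symm.trans (eZ.prodCongr eK)⟩

end C120

attribute [local instance] Classical.propDecidable

variable {G : Type*} [Group G] [Finite G] [IsSimpleGroup G]

theorem E_two (hcard : Nat.card G = 175560) {t : G} (hall : ∀ i : G, orderOf i = 2 ↔ IsConj t i) {k : ℕ}
    (hk : Nat.card ↥(Subgroup.centralizer ({t} : Set G)) = 8 * k) (hk0 : k ∣ 21945) : E G 2 = 21945 / k := by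
  haveI : Fintype G := Fintype.ofFinite G
  rw [E, Nat.card_congr (Equiv.subtypeEquivRight hall), SmallGroupBasic.card_isConj_eq_index]
  have h := (Subgroup.centralizer ({t} : Set G)).index_mul_card
  rw [hk, hcard] at h
  exact (Nat.div_eq_of_eq_mul_left (Nat.pos_of_dvd_of_pos hk0 (by norm_num)) (by linarith)).symm

/-- The centralizer of an involution has order 120, with 20 and 24 elements of orders 3 and 5;
the centralizer of an element of order 3 has order 30. -/
theorem centralizer_data (hcard : Nat.card G = 175560) {t : G} (hT : IsTwoCentralInvolution t)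
    (hall : ∀ i : G, orderOf i = 2 ↔ IsConj t i) :
    Nat.card ↥(Subgroup.centralizer ({t} : Set G)) = 120 ∧ F t 3 = 20 ∧ F t 5 = 24 ∧
      ∀ x : G, orderOf x = 3 → Nat.card ↥(Subgroup.centralizer ({x} : Set G)) = 30 := by
  have hG : ¬ IsMulCommutative G := SimpleOrder.not_comm_of_not_prime (by rw [hcard]; norm_num)
  obtain ⟨ht, S, htS, hSt⟩ := hT
  set C := Subgroup.centralizer ({t} : Set G) with hC
  obtain ⟨k, hk⟩ : 8 ∣ Nat.card ↥C := by
    rw [← Ord175560Classes91.card_sylow_two hcard S]
    exact Subgroup.card_dvd_of_le fun x hx => Subgroup.mem_centralizer_singleton_iff.2 (hSt x hx)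
  have hk0 : k ∣ 21945 := by
    have h := C.index_mul_card
    rw [hk, hcard] at h
    exact ⟨C.index, by linarith⟩
  have hk1 : k ≠ 21945 := by
    intro h
    have htop : C = ⊤ := C.eq_top_of_card_eq (by rw [hk, h, hcard])
    exact Ord175560Classes91.not_central hG (fun e => by rw [e, orderOf_one] at ht; omega)
      (Subgroup.mem_center_iff.2 fun g => Subgroup.mem_centralizer_singleton_iff.1 (htop ▸ Subgroup.mem_top g))
  obtain ⟨n3, e3, c3, L3⟩ := exists_loc (G := G) hcard (p := 3) (by simp)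
  obtain ⟨n5, e5, c5, L5⟩ := exists_loc (G := G) hcard (p := 5) (by simp)
  obtain ⟨n7, e7, c7, L7⟩ := exists_loc (G := G) hcard (p := 7) (by simp)
  obtain ⟨n11, e11, c11, L11⟩ := exists_loc (G := G) hcard (p := 11) (by simp)
  obtain ⟨n19, e19, c19, L19⟩ := exists_loc (G := G) hcard (p := 19) (by simp)
  have hsum := sum_bound (G := G)
  rw [hcard, E_two hcard hall hk hk0, L3.E_eq, L5.E_eq, L7.E_eq, L11.E_eq, L19.E_eq] at hsum
  have t3 := tm_bound hcard hall hk hk0 L3
  have t5 := tm_bound hcard hall hk hk0 L5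
  have t7 := tm_bound hcard hall hk hk0 L7
  have t11 := tm_bound hcard hall hk hk0 L11
  have t19 := tm_bound hcard hall hk hk0 L19
  have u1 := pm_bound hcard L3 L5 (by norm_num)
  have u2 := pm_bound hcard L3 L7 (by norm_num)
  have u3 := pm_bound hcard L3 L11 (by norm_num)
  have u4 := pm_bound hcard L3 L19 (by norm_num)
  have u5 := pm_bound hcard L5 L7 (by norm_num)
  have u6 := pm_bound hcard L5 L11 (by norm_num)
  have u7 := pm_bound hcard L5 L19 (by norm_num)
  have u8 := pm_bound hcard L7 L11 (by norm_num)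
  have u9 := pm_bound hcard L7 L19 (by norm_num)
  have u10 := pm_bound hcard L11 L19 (by norm_num)
  have htot : total (n3, e3, c3) (n5, e5, c5) (n7, e7, c7) (n11, e11, c11) (n19, e19, c19) k + E G 12 ≤ 175560 := by
    unfold total part4 part3 part2 part1 evenPart
    simp only [show (3 : ℕ) - 1 = 2 from rfl, show (5 : ℕ) - 1 = 4 from rfl, show (7 : ℕ) - 1 = 6 from rfl,
      show (11 : ℕ) - 1 = 10 from rfl, show (19 : ℕ) - 1 = 18 from rfl] at hsum ⊢
    linarith
  obtain ⟨a3, b3, hb3, hFt3, hF32, hpar3, hP3, hP3'⟩ := two_data hcard hall hk hk0 L3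
  obtain ⟨a5, b5, hb5, hFt5, hF52, hpar5, hP5, hP5'⟩ := two_data hcard hall hk hk0 L5
  rw [hP3] at hP3'
  rw [hP5] at hP5'
  haveI : Fact (Nat.Prime 3) := ⟨Nat.prime_three⟩
  haveI : Fact (Nat.Prime 5) := ⟨by norm_num⟩
  obtain ⟨x, hx⟩ := exists_prime_orderOf_dvd_card' (G := G) 3 (by rw [hcard]; norm_num)
  rcases configuration L3.mem L5.mem L7.mem L11.mem L19.mem hk0 hk1 (le_trans (Nat.le_add_right _ _) htot)
    with ⟨rfl, h3, h5⟩ | ⟨rfl, h3, htt⟩ | ⟨rfl, h3, h5⟩
  · -- the genuine configuration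
    simp only [Prod.mk.injEq] at h3 h5
    obtain ⟨rfl, rfl, rfl⟩ := h3
    obtain ⟨rfl, rfl, rfl⟩ := h5
    norm_num at hP3' hP5' hpar3 hpar5 hb3 hb5
    have v3 := solve_fifteen.1 b3 hb3 (by omega) (by omega)
    have v5 := solve_fifteen.2 b5 hb5 (by omega) (by omega)
    refine ⟨by rw [hk], by rw [hFt3, v3], by rw [hFt5, v5], fun y hy => ?_⟩
    rw [L3.cent y hy]
  · exfalso
    simp only [Prod.mk.injEq] at h3
    obtain ⟨rfl, rfl, rfl⟩ := h3
    norm_num at hP3' hpar3 hb3
    have hb1 := solve_small.1 b3 hb3 (by omega)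
    have ha1 : F x 2 = 1 := by rw [hF32 x hx]; omega
    have hE : E G 12 = 0 := by omega
    set Cx := Subgroup.centralizer ({x} : Set G) with hCx
    have hCxc : Nat.card ↥Cx = 12 := L3.cent x hx
    haveI : Fact (Nat.Prime 2) := ⟨Nat.prime_two⟩
    obtain ⟨P, hP⟩ := Sylow.exists_subgroup_card_pow_prime (G := ↥Cx) 2 (n := 2) (by rw [hCxc]; norm_num)
    have hall2 : ∀ u : ↥P, u ≠ 1 → orderOf ((u : ↥Cx) : G) = 2 := by
      intro u hu
      rw [Subgroup.orderOf_coe, Subgroup.orderOf_coe]
      have hd : orderOf u ∣ 2 ^ 2 := hP ▸ orderOf_dvd_natCard u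
      obtain ⟨i, hi, hi'⟩ := (Nat.dvd_prime_pow Nat.prime_two).1 hd
      interval_cases i
      · exact absurd (orderOf_eq_one_iff.1 (by simpa using hi')) hu
      · simpa using hi'
      · exfalso
        rw [E, Nat.card_eq_zero] at hE
        rcases hE with hE | hE
        · refine hE.false ⟨x * ((u : ↥Cx) : G), ?_⟩
          have hco : Commute x ((u : ↥Cx) : G) :=
            (Subgroup.mem_centralizer_singleton_iff.1 (u : ↥Cx).2).symm
          have ho : orderOf ((u : ↥Cx) : G) = 4 := by
            rw [Subgroup.orderOf_coe, Subgroup.orderOf_coe, hi']; norm_num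
          rw [hco.orderOf_mul_eq_mul_orderOf_of_coprime (by rw [hx, ho]; norm_num), hx, ho]
        · exact not_finite {g : G // orderOf g = 12}
    have hle : Nat.card {u : ↥P // u ≠ 1} ≤ F x 2 :=
      Nat.card_le_card_of_injective (fun u => ⟨((u.1 : ↥Cx) : G), hall2 u.1 u.2,
        (Subgroup.mem_centralizer_singleton_iff.1 (u.1 : ↥Cx).2).symm⟩) fun a b e => by
          simp only [Subtype.mk.injEq] at e
          exact Subtype.ext (Subtype.ext (Subtype.ext e))
    have h1 : Nat.card {u : ↥P // u ≠ 1} = 3 := by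
      haveI : Fintype ↥P := Fintype.ofFinite _
      rw [Nat.card_eq_fintype_card, Fintype.card_subtype_compl, Fintype.card_subtype_eq,
        ← Nat.card_eq_fintype_card, hP]
      all_goals norm_num
    omega
  · exfalso
    simp only [Prod.mk.injEq] at h3 h5
    obtain ⟨rfl, rfl, rfl⟩ := h3
    obtain ⟨rfl, rfl, rfl⟩ := h5
    norm_num at hP3' hP5' hpar3 hpar5 hb3 hb5
    have v3 := solve_small.2.1 b3 hb3 (by omega) (by omega)
    have v5 := solve_small.2.2.1 b5 hb5 (by omega) (by omega)
    have ha1 : F x 2 = 1 := by rw [hF32 x hx]; omega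
    obtain ⟨a, ha, hFa⟩ := F_odd hcard L3 (q := 5) (by simp) (by norm_num) hx
    have ha' := solve_small.2.2.2 a ha
    obtain ⟨⟨y, hy, hxy⟩⟩ : Nonempty {y : G // orderOf y = 5 ∧ Commute x y} :=
      (Nat.card_pos_iff.1 (show 0 < F x 5 by omega)).1
    obtain ⟨hsub, ⟨i, hi, hxi⟩⟩ := Nat.card_eq_one_iff_unique.1 ha1
    have huniq : ∀ j : G, orderOf j = 2 → Commute x j → j = i := fun j hj hxj =>
      congrArg Subtype.val (hsub.elim ⟨j, hj, hxj⟩ ⟨i, hi, hxi⟩)
    have hyi : Commute y i := by
      have h : y * i * y⁻¹ = i := by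
        refine huniq _ (by rw [SmallGroupBasic.orderOf_conj, hi]) ?_
        exact (hxy.mul_right hxi).mul_right hxy.inv_right
      exact mul_inv_eq_iff_eq_mul.1 h
    set w := y * (x * i) with hw
    have hxi6 : orderOf (x * i) = 6 := by
      rw [hxi.orderOf_mul_eq_mul_orderOf_of_coprime (by rw [hx, hi]; norm_num), hx, hi]
    have hw30 : orderOf w = 30 := by
      rw [hw, (hxy.symm.mul_right hyi).orderOf_mul_eq_mul_orderOf_of_coprime (by rw [hy, hxi6]; norm_num),
        hy, hxi6]
    set Cy := Subgroup.centralizer ({y} : Set G) with hCy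
    have hle : Subgroup.zpowers w ≤ Cy := Subgroup.zpowers_le.2 (Subgroup.mem_centralizer_singleton_iff.2
      ((Commute.refl y).mul_right (hxy.symm.mul_right hyi)).symm.eq)
    have heq : Subgroup.zpowers w = Cy := Subgroup.eq_of_le_of_card_ge hle
      (by rw [L5.cent y hy, Nat.card_zpowers, hw30])
    have hle2 : F y 2 ≤ 1 := by
      rw [F, Finite.card_le_one_iff_subsingleton]
      refine ⟨fun a b => Subtype.ext ?_⟩
      have hcx : ∀ j : G, Commute y j → Commute x j := fun j hj => by
        have hjm : j ∈ Subgroup.zpowers w := heq ▸ Subgroup.mem_centralizer_singleton_iff.2 hj.symm.eq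
        obtain ⟨m, rfl⟩ := Subgroup.mem_zpowers_iff.1 hjm
        exact (hxy.mul_right ((Commute.refl x).mul_right hxi)).zpow_right m
      rw [huniq _ a.2.1 (hcx _ a.2.2), huniq _ b.2.1 (hcx _ b.2.2)]
    rw [hF52 y hy] at hle2
    omega

/-- The centralizer of an involution is `C₂ × A₅`. -/
theorem exists_centralizer_iso (hcard : Nat.card G = 175560) :
    ∃ t : G, IsTwoCentralInvolution t ∧
      Nonempty (Subgroup.centralizer ({t} : Set G) ≃* Multiplicative (ZMod 2) × alternatingGroup (Fin 5)) := by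
  obtain ⟨t, hT, hone⟩ := Ord175560Classes91.exists_involution hcard
  have ht := hT.1
  have hall : ∀ i : G, orderOf i = 2 ↔ IsConj t i :=
    fun i => ⟨hone i, fun h => (SmallGroupBasic.IsConj.orderOf_eq' h).trans ht⟩
  obtain ⟨hc, hF3, hF5, hx30⟩ := centralizer_data hcard hT hall
  have hG : ¬ IsMulCommutative G := SimpleOrder.not_comm_of_not_prime (by rw [hcard]; norm_num)
  set C := Subgroup.centralizer ({t} : Set G) with hC
  set t' : ↥C := ⟨t, Subgroup.mem_centralizer_singleton_iff.2 rfl⟩ with ht'def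
  have ht' : orderOf t' = 2 := by rw [← Subgroup.orderOf_coe]; exact ht
  have hcen : ∀ c : ↥C, c * t' = t' * c := fun c =>
    Subtype.ext (Subgroup.mem_centralizer_singleton_iff.1 c.2)
  have htt : t * t = 1 := by rw [← pow_two, ← ht]; exact pow_orderOf_eq_one t
  rw [F_eq_card] at hF3 hF5
  obtain ⟨ψ, hs, hker⟩ := exists_proj hc ht' hcen hF3 hF5 (by
    intro x k hx hxk hkt hk1 hkt' hkk
    have hxG : orderOf (x : G) = 3 := by rw [Subgroup.orderOf_coe]; exact hx
    have hk4 : ∀ n : ℕ, n = orderOf (k : G) → n = 2 ∨ n = 4 := by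
      rintro n rfl
      rw [Subgroup.orderOf_coe]
      have h4 : k ^ 4 = 1 := by
        have h2 : (k * k) ^ 2 = 1 :=
          orderOf_dvd_iff_pow_eq_one.1 ((orderOf_dvd_of_mem_zpowers hkk).trans (dvd_of_eq ht'))
        rwa [← pow_two, ← pow_mul] at h2
      obtain ⟨i, hi, hi'⟩ := (Nat.dvd_prime_pow Nat.prime_two).1 (show orderOf k ∣ 2 ^ 2 from orderOf_dvd_of_pow_eq_one h4)
      interval_cases i
      · exact absurd (orderOf_eq_one_iff.1 (by simpa using hi')) hk1
      · simp [hi']
      · simp [hi']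
    set Cx := Subgroup.centralizer ({(x : G)} : Set G) with hCx
    have hkm : (k : G) ∈ Cx :=
      Subgroup.mem_centralizer_singleton_iff.2 (congrArg Subtype.val hxk.eq).symm
    have htm : t ∈ Cx :=
      Subgroup.mem_centralizer_singleton_iff.2 (Subgroup.mem_centralizer_singleton_iff.1 x.2).symm
    have h30 : Nat.card ↥Cx = 30 := hx30 _ hxG
    rcases hk4 _ rfl with ho | ho
    · have hkk1 : (k : G) * k = 1 := by rw [← pow_two, ← ho]; exact pow_orderOf_eq_one _
      obtain ⟨E', hE'⟩ := KleinFourSimple54.exists_klein_of_commuting (G := ↥Cx) (a := ⟨k, hkm⟩) (b := ⟨t, htm⟩)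
        (Subtype.ext hkk1) (Subtype.ext htt) (Subtype.ext (show (k : G) * t = t * k from congrArg Subtype.val hkt.eq))
        (fun e => hk1 (Subtype.ext (congrArg (fun q : ↥Cx => (q : G)) e)))
        (fun e => by
          have : t = 1 := congrArg (fun q : ↥Cx => (q : G)) e
          rw [this, orderOf_one] at ht; omega)
        (fun e => hkt' (Subtype.ext (congrArg (fun q : ↥Cx => (q : G)) e)))
      have h := E'.card_subgroup_dvd_card
      rw [hE'.card_four, h30] at h
      norm_num at h
    · have h := Subgroup.orderOf_dvd_natCard Cx hkm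
      rw [ho, h30] at h
      norm_num at h)
  obtain ⟨E', hE'⟩ := KleinFourSimple54.exists_klein hG (by rw [hcard]; norm_num)
  obtain ⟨a, b, hab, ha, hb⟩ : ∃ a b : G, a ∈ E' ∧ b ∈ E' ∧ (a ≠ b ∧ orderOf a = 2 ∧ orderOf b = 2) := by
    haveI : Fintype ↥E' := Fintype.ofFinite _
    have h4 : Fintype.card ↥E' = 4 := by rw [← Nat.card_eq_fintype_card]; exact hE'.card_four
    obtain ⟨a, ha⟩ := Fintype.exists_ne_of_one_lt_card (by omega) (1 : ↥E')
    obtain ⟨b, hb, hb'⟩ : ∃ b : ↥E', b ≠ 1 ∧ b ≠ a := by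
      by_contra hno
      have hsub : (Finset.univ : Finset ↥E') ⊆ {1, a} := fun b _ => by
        by_contra hb
        simp only [Finset.mem_insert, Finset.mem_singleton, not_or] at hb
        exact hno ⟨b, hb⟩
      have h := (Finset.card_le_card hsub).trans Finset.card_le_two
      rw [Finset.card_univ] at h
      omega
    have ho : ∀ z : ↥E', z ≠ 1 → orderOf (z : G) = 2 := fun z hz => by
      rw [Subgroup.orderOf_coe]
      exact orderOf_eq_prime (by rw [← hE'.exponent_two]; exact Monoid.pow_exponent_eq_one z) hz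
    exact ⟨a, b, a.2, b.2, fun e => hb' (Subtype.ext e.symm), ho a ha, ho b hb⟩
  obtain ⟨hne, hao, hbo⟩ := hb
  haveI := hE'
  have hcomm : a * b = b * a := by
    exact congrArg (fun q : ↥E' => (q : G)) (mul_comm_of_exponent_two hE'.exponent_two ⟨a, hab⟩ ⟨b, ha⟩)
  obtain ⟨g, hg⟩ := isConj_iff.1 (((hall a).1 hao).symm)
  set j := g * b * g⁻¹ with hj
  have hjC : j ∈ C := by
    rw [hC, Subgroup.mem_centralizer_singleton_iff, ← hg, hj]
    calc g * b * g⁻¹ * (g * a * g⁻¹) = g * (b * a) * g⁻¹ := by group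
      _ = g * (a * b) * g⁻¹ := by rw [hcomm]
      _ = _ := by group
  refine ⟨t, hT, iso_of_proj hc ht' hcen hs hker (j := ⟨j, hjC⟩) ?_ ?_⟩
  · rw [← Subgroup.orderOf_coe, Subgroup.coe_mk, hj, SmallGroupBasic.orderOf_conj, hbo]
  · intro e
    have e' : j = t := congrArg Subtype.val e
    rw [← hg, hj] at e'
    exact hne (mul_left_cancel (mul_right_cancel e')).symm

end Cfsg.Agent.Ord175560Struct91
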