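import Mathlib

/-!
The group of order 320 whose derived group is a Suzuki 2-group of order 64: uniqueness.
-/

set_option autoImplicit false

namespace Cfsg.Agent.Order320Unique65

open Subgroup
open scoped commutatorElement

/-- The conjugates of `a` by the powers of `τ`. -/
def conjSeq {X : Type*} [Group X] (τ a : X) (i : ℕ) : X := τ ^ i * a * (τ ^ i)⁻¹

/-- The relations. -/
structure Rel {X : Type*} [Group X] (τ a : X) : Prop where
  pow5 : τ ^ 5 = 1
  commCentral : ∀ i j, ⁅conjSeq τ a i, conjSeq τ a j⁆ ∈ center X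
  commSq : ∀ i j, ⁅conjSeq τ a i, conjSeq τ a j⁆ * ⁅conjSeq τ a i, conjSeq τ a j⁆ = 1
  sqCentral : a * a ∈ center X
  sqSq : a * a * (a * a) = 1
  prod : conjSeq τ a 0 * conjSeq τ a 1 * conjSeq τ a 2 * conjSeq τ a 3 * conjSeq τ a 4 = 1

section General

variable {X : Type*} [Group X]

theorem comm_central {c : X} (hc : c ∈ center X) (g : X) : g * c = c * g := mem_center_iff.1 hc g

theorem sq_mul' {x y : X} (h : ⁅y, x⁆ ∈ center X) :
    (x * y) * (x * y) = ⁅y, x⁆ * (x * x * (y * y)) := by
  have e : y * x = ⁅y, x⁆ * (x * y) := by rw [commutatorElement_def]; group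
  calc x * y * (x * y) = x * (y * x) * y := by group
    _ = x * (⁅y, x⁆ * (x * y)) * y := by rw [← e]
    _ = ⁅y, x⁆ * x * (x * y) * y := by rw [← mul_assoc, comm_central h x]
    _ = _ := by group

theorem bracket_mul {x y z : X} (h : ⁅x, z⁆ ∈ center X) : ⁅x, y * z⁆ = ⁅x, y⁆ * ⁅x, z⁆ := by
  have e : ⁅x, y * z⁆ = ⁅x, y⁆ * (y * ⁅x, z⁆ * y⁻¹) := by
    simp only [commutatorElement_def]; group
  rw [e, comm_central h y, mul_inv_cancel_right]

theorem mem_normalizer_of_map_le [Finite X] {N : Subgroup X} {g : X}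
    (h : ∀ x ∈ N, g * x * g⁻¹ ∈ N) : g ∈ normalizer (N : Set X) := by
  have hle : N.map (MulAut.conj g).toMonoidHom ≤ N := by
    rintro _ ⟨x, hx, rfl⟩
    exact h x hx
  have he := Subgroup.eq_of_le_of_card_ge hle
    (Subgroup.card_map_of_injective (MulAut.conj g).injective).ge
  refine mem_normalizer_iff.2 fun x => ⟨h x, fun hx => ?_⟩
  obtain ⟨y, hy, e⟩ : g * x * g⁻¹ ∈ N.map (MulAut.conj g).toMonoidHom := by rw [he]; exact hx
  have : y = x := (MulAut.conj g).injective (a₁ := y) (a₂ := x) e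
  exact this ▸ hy

/-- Adjoining an element normalising `N` whose square is in `N`. -/
theorem card_sup_le [Finite X] {N : Subgroup X} {x : X} (hx : x ∈ normalizer (N : Set X))
    (h2 : x * x ∈ N) : Nat.card ↥(N ⊔ zpowers x) ≤ 2 * Nat.card N := by
  classical
  have hconj : ∀ n ∈ N, x * n * x⁻¹ ∈ N := fun n hn => (mem_normalizer_iff.1 hx n).1 hn
  have hconj' : ∀ n ∈ N, x⁻¹ * n * x ∈ N := fun n hn =>
    (mem_normalizer_iff.1 hx _).2 (by simpa [mul_assoc] using hn)
  let M : Subgroup X :=
    { carrier := {g | g ∈ N ∨ g * x⁻¹ ∈ N}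
      one_mem' := Or.inl N.one_mem
      mul_mem' := fun {g h} hg hh => by
        rcases hg with hg | hg <;> rcases hh with hh | hh
        · exact Or.inl (mul_mem hg hh)
        · exact Or.inr (by rw [mul_assoc]; exact mul_mem hg hh)
        · refine Or.inr ?_
          have e : g * h * x⁻¹ = g * x⁻¹ * (x * h * x⁻¹) := by group
          rw [e]; exact mul_mem hg (hconj h hh)
        · refine Or.inl ?_
          have e : g * h = g * x⁻¹ * (x * (h * x⁻¹) * x⁻¹) * (x * x) := by group
          rw [e]; exact mul_mem (mul_mem hg (hconj _ hh)) h2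
      inv_mem' := fun {g} hg => by
        rcases hg with hg | hg
        · exact Or.inl (inv_mem hg)
        · refine Or.inr ?_
          have e : g⁻¹ * x⁻¹ = x⁻¹ * (g * x⁻¹)⁻¹ * x * (x * x)⁻¹ := by group
          rw [e]; exact mul_mem (hconj' _ (inv_mem hg)) (inv_mem h2) }
  have hle : N ⊔ zpowers x ≤ M := sup_le (fun n hn => Or.inl hn)
    (zpowers_le.2 (Or.inr (by rw [mul_inv_cancel]; exact N.one_mem)))
  refine (Subgroup.card_le_of_le hle).trans ?_
  let f : N × Bool → M := fun p => bif p.2 then ⟨p.1.1 * x, Or.inr (by simp)⟩ else ⟨p.1.1, Or.inl p.1.2⟩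
  have hf : Function.Surjective f := by
    rintro ⟨g, hg | hg⟩
    · exact ⟨(⟨g, hg⟩, false), rfl⟩
    · exact ⟨(⟨g * x⁻¹, hg⟩, true), Subtype.ext (by simp [f])⟩
  refine (Nat.card_le_card_of_surjective f hf).trans ?_
  rw [Nat.card_prod, mul_comm]
  simp

theorem card_sup_zpowers [Finite X] {N : Subgroup X} {x : X} (hx : x ∈ normalizer (N : Set X))
    {n : ℕ} (hn : 0 < n) (h5 : x ^ n = 1) : Nat.card ↥(N ⊔ zpowers x) ≤ n * Nat.card N := by
  have hle : zpowers x ≤ normalizer (N : Set X) := zpowers_le.2 hx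
  let f : N × Fin n → ↥(N ⊔ zpowers x) := fun p =>
    ⟨p.1.1 * x ^ (p.2 : ℕ), mul_mem (mem_sup_left p.1.2) (mem_sup_right (npow_mem_zpowers x _))⟩
  have hf : Function.Surjective f := by
    rintro ⟨g, hg⟩
    have hg' : g ∈ ((N ⊔ zpowers x : Subgroup X) : Set X) := hg
    rw [Subgroup.coe_mul_of_right_le_normalizer_left N (zpowers x) hle] at hg'
    obtain ⟨m, hm, y, hy, rfl⟩ := hg'
    obtain ⟨k, rfl⟩ := mem_zpowers_iff.1 hy
    have hk0 : 0 ≤ k % (n : ℤ) := Int.emod_nonneg _ (by omega)
    have hk1 : k % (n : ℤ) < n := Int.emod_lt_of_pos _ (by omega)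
    refine ⟨(⟨m, hm⟩, ⟨(k % (n : ℤ)).toNat, by omega⟩), Subtype.ext ?_⟩
    show m * x ^ (k % (n : ℤ)).toNat = m * x ^ k
    rw [← zpow_natCast, Int.toNat_of_nonneg hk0, ← zpow_eq_zpow_emod' k h5]
  refine (Nat.card_le_card_of_surjective f hf).trans ?_
  rw [Nat.card_prod, Nat.card_fin, mul_comm]

variable {τ a : X}

theorem conjSeq_succ (i : ℕ) : τ * conjSeq τ a i * τ⁻¹ = conjSeq τ a (i + 1) := by
  simp only [conjSeq, pow_succ']; group

theorem conjSeq_five (h : Rel τ a) (i : ℕ) : conjSeq τ a (i + 5) = conjSeq τ a i := by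
  simp [conjSeq, pow_add, h.pow5]

theorem bracket_shift (h : Rel τ a) (i j : ℕ) :
    ⁅conjSeq τ a (i + 1), conjSeq τ a (j + 1)⁆ = ⁅conjSeq τ a i, conjSeq τ a j⁆ := by
  rw [← conjSeq_succ, ← conjSeq_succ, ← conjugate_commutatorElement,
    comm_central (h.commCentral i j) τ, mul_inv_cancel_right]

theorem bracket_shift' (h : Rel τ a) (k : ℕ) :
    ∀ i, ⁅conjSeq τ a i, conjSeq τ a (i + k)⁆ = ⁅conjSeq τ a 0, conjSeq τ a k⁆
  | 0 => by rw [Nat.zero_add]
  | i + 1 => by rw [show i + 1 + k = i + k + 1 by omega, bracket_shift h, bracket_shift' h k i]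

theorem bracket_symm (h : Rel τ a) (i j : ℕ) :
    ⁅conjSeq τ a i, conjSeq τ a j⁆ = ⁅conjSeq τ a j, conjSeq τ a i⁆ := by
  have e := inv_eq_of_mul_eq_one_right (h.commSq j i)
  rw [commutatorElement_inv] at e
  exact e

theorem sq_conjSeq (h : Rel τ a) (i : ℕ) : conjSeq τ a i * conjSeq τ a i = a * a := by
  have e : conjSeq τ a i * conjSeq τ a i = τ ^ i * (a * a) * (τ ^ i)⁻¹ := by
    simp only [conjSeq]; group
  rw [e, comm_central h.sqCentral, mul_inv_cancel_right]

/-- The group generated by `a` and `τ` has order at most 320. -/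
theorem card_bound [Finite X] (h : Rel τ a) : Nat.card ↥(closure ({a, τ} : Set X)) ≤ 320 := by
  classical
  set A := conjSeq τ a with hA
  set c₁ := ⁅A 0, A 1⁆ with hc₁
  set c₂ := ⁅A 0, A 2⁆ with hc₂
  have z₁ : c₁ ∈ center X := h.commCentral 0 1
  have z₂ : c₂ ∈ center X := h.commCentral 0 2
  have q₁ : c₁ * c₁ = 1 := h.commSq 0 1
  have q₂ : c₂ * c₂ = 1 := h.commSq 0 2
  have h03 : ⁅A 0, A 3⁆ = c₂ := by
    rw [hc₂, bracket_symm h 0 2, ← bracket_shift' h 3 2, show 2 + 3 = 0 + 5 from rfl, conjSeq_five h]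
  have h04 : ⁅A 0, A 4⁆ = c₁ := by
    rw [hc₁, bracket_symm h 0 1, ← bracket_shift' h 4 1, show 1 + 4 = 0 + 5 from rfl, conjSeq_five h]
  -- brackets among the five
  have hb : ∀ i j, i < 5 → j < 5 → ⁅A i, A j⁆ ∈ closure ({c₁, c₂} : Set X) := by
    intro i j hi hj
    wlog hij : i ≤ j generalizing i j
    · rw [bracket_symm h]; exact this j i hj hi (by omega)
    obtain ⟨k, rfl⟩ : ∃ k, j = i + k := ⟨j - i, by omega⟩
    rw [bracket_shift' h k i]
    rcases (show k = 0 ∨ k = 1 ∨ k = 2 ∨ k = 3 ∨ k = 4 by omega) with rfl | rfl | rfl | rfl | rfl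
    · rw [commutatorElement_self]; exact one_mem _
    · exact subset_closure (Or.inl rfl)
    · exact subset_closure (Or.inr rfl)
    · rw [h03]; exact subset_closure (Or.inr rfl)
    · rw [h04]; exact subset_closure (Or.inl rfl)
  -- the square
  have hs : a * a = c₁ * c₂ := by
    have hA4 : A 0 * A 1 * A 2 * A 3 = (A 4)⁻¹ := eq_inv_of_mul_eq_one_left h.prod
    have b10 : ⁅A 1, A 0⁆ = c₁ := bracket_symm h 1 0
    have b20 : ⁅A 2, A 0⁆ = c₂ := bracket_symm h 2 0
    have b21 : ⁅A 2, A 1⁆ = c₁ := (bracket_symm h 2 1).trans (bracket_shift' h 1 1)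
    have b30 : ⁅A 3, A 0⁆ = c₂ := by rw [bracket_symm h]; exact h03
    have b31 : ⁅A 3, A 1⁆ = c₂ := (bracket_symm h 3 1).trans (bracket_shift' h 2 1)
    have b32 : ⁅A 3, A 2⁆ = c₁ := (bracket_symm h 3 2).trans (bracket_shift' h 1 2)
    set s := a * a with hsdef
    have hzs : s ∈ center X := h.sqCentral
    have e2 : A 0 * A 1 * (A 0 * A 1) = c₁ * (s * s) := by
      rw [sq_mul' (by rw [b10]; exact z₁), b10, sq_conjSeq h, sq_conjSeq h]
    have e3 : A 0 * A 1 * A 2 * (A 0 * A 1 * A 2) = c₂ * s := by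
      have hbr : ⁅A 2, A 0 * A 1⁆ = c₂ * c₁ := by rw [bracket_mul (by rw [b21]; exact z₁), b20, b21]
      rw [sq_mul' (by rw [hbr]; exact mul_mem z₂ z₁), hbr, e2, sq_conjSeq h, h.sqSq, mul_one,
        mul_assoc c₂ c₁, ← mul_assoc c₁ c₁, q₁, one_mul]
    have e4 : A 0 * A 1 * A 2 * A 3 * (A 0 * A 1 * A 2 * A 3) = c₁ * c₂ := by
      have hbr : ⁅A 3, A 0 * A 1 * A 2⁆ = c₂ * c₂ * c₁ := by
        rw [bracket_mul (by rw [b32]; exact z₁), bracket_mul (by rw [b31]; exact z₂), b30, b31, b32]
      rw [sq_mul' (by rw [hbr]; exact mul_mem (mul_mem z₂ z₂) z₁), hbr, e3, sq_conjSeq h, q₂, one_mul,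
        mul_assoc c₂ s, h.sqSq, mul_one]
    rw [hA4, ← mul_inv_rev, sq_conjSeq h, inv_eq_of_mul_eq_one_right h.sqSq] at e4
    exact e4
  set W := closure ({c₁, c₂} : Set X) with hW
  have hWz : W ≤ center X := (closure_le _).2 (by rintro x (rfl | rfl) <;> assumption)
  have hWcard : Nat.card W ≤ 4 := by
    let M : Subgroup X :=
      { carrier := {g | g = 1 ∨ g = c₁ ∨ g = c₂ ∨ g = c₁ * c₂}
        one_mem' := Or.inl rfl
        mul_mem' := fun {x y} hx hy => by
          have e3 : c₁ * (c₁ * c₂) = c₂ := by rw [← mul_assoc, q₁, one_mul]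
          have e21 : c₂ * c₁ = c₁ * c₂ := comm_central z₁ c₂
          have e4 : c₂ * (c₁ * c₂) = c₁ := by rw [← mul_assoc, e21, mul_assoc, q₂, mul_one]
          have e5 : c₁ * c₂ * c₁ = c₂ := by rw [mul_assoc, e21, e3]
          have e6 : c₁ * c₂ * c₂ = c₁ := by rw [mul_assoc, q₂, mul_one]
          have e7 : c₁ * c₂ * (c₁ * c₂) = 1 := by rw [← mul_assoc, e5, q₂]
          rcases hx with hx | hx | hx | hx <;> rcases hy with hy | hy | hy | hy <;>
            simp only [Set.mem_setOf_eq, hx, hy, one_mul, mul_one, q₁, q₂, e3, e4, e5, e6, e7, e21,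
              eq_self_iff_true, true_or, or_true]
        inv_mem' := fun {x} hx => by
          have e7 : (c₁ * c₂)⁻¹ = c₁ * c₂ := by
            rw [mul_inv_rev, inv_eq_of_mul_eq_one_right q₁, inv_eq_of_mul_eq_one_right q₂,
              comm_central z₁ c₂]
          rcases hx with hx | hx | hx | hx <;>
            simp only [Set.mem_setOf_eq, hx, inv_one, inv_eq_of_mul_eq_one_right q₁,
              inv_eq_of_mul_eq_one_right q₂, e7, eq_self_iff_true, true_or, or_true] }
    have hle : W ≤ M := (closure_le _).2 (by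
      rintro x (rfl | rfl)
      exacts [Or.inr (Or.inl rfl), Or.inr (Or.inr (Or.inl rfl))])
    refine (Subgroup.card_le_of_le hle).trans ?_
    let f : Fin 4 → M := ![⟨1, Or.inl rfl⟩, ⟨c₁, Or.inr (Or.inl rfl)⟩,
      ⟨c₂, Or.inr (Or.inr (Or.inl rfl))⟩, ⟨c₁ * c₂, Or.inr (Or.inr (Or.inr rfl))⟩]
    have hf : Function.Surjective f := by
      rintro ⟨g, hg | hg | hg | hg⟩
      exacts [⟨0, Subtype.ext hg.symm⟩, ⟨1, Subtype.ext hg.symm⟩, ⟨2, Subtype.ext hg.symm⟩,
        ⟨3, Subtype.ext hg.symm⟩]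
    exact (Nat.card_le_card_of_surjective f hf).trans (Nat.card_fin 4).le
  have hsW : a * a ∈ W := by
    rw [hs]; exact mul_mem (subset_closure (Or.inl rfl)) (subset_closure (Or.inr rfl))
  -- `N i` is generated by `W` and `A 0, …, A (i-1)`
  let N : ℕ → Subgroup X := fun i => W ⊔ closure (A '' {j | j < i})
  have hNA : ∀ i, i < 5 → A i ∈ normalizer ((N i : Subgroup X) : Set X) := by
    intro i hi
    refine mem_normalizer_of_map_le fun x hx => ?_
    have : N i ≤ (N i).comap (MulAut.conj (A i)).toMonoidHom := by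
      refine sup_le (fun w hw => ?_) ((closure_le _).2 ?_)
      · show A i * w * (A i)⁻¹ ∈ N i
        rw [comm_central (hWz hw), mul_inv_cancel_right]
        exact mem_sup_left hw
      · rintro _ ⟨j, hj, rfl⟩
        have hj' : j < i := hj
        show A i * A j * (A i)⁻¹ ∈ N i
        rw [show A i * A j * (A i)⁻¹ = ⁅A i, A j⁆ * A j by rw [commutatorElement_def]; group]
        exact mul_mem (mem_sup_left (hb i j hi (by omega))) (mem_sup_right (subset_closure ⟨j, hj, rfl⟩))
    exact this hx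
  have hNstep : ∀ i, i < 5 → Nat.card ↥(N (i + 1)) ≤ 2 * Nat.card ↥(N i) := by
    intro i hi
    refine le_trans (Subgroup.card_le_of_le (?_ : N (i + 1) ≤ N i ⊔ zpowers (A i)))
      (card_sup_le (hNA i hi) (by rw [sq_conjSeq h]; exact mem_sup_left hsW))
    refine sup_le (le_sup_left.trans le_sup_left) ((closure_le _).2 ?_)
    rintro _ ⟨j, hj, rfl⟩
    have hj' : j < i + 1 := hj
    by_cases hji : j = i
    · exact mem_sup_right (hji ▸ mem_zpowers _)
    · exact mem_sup_left (mem_sup_right (subset_closure ⟨j, show j < i by omega, rfl⟩))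
  have hN4 : Nat.card ↥(N 4) ≤ 64 := by
    have h0 : Nat.card ↥(N 0) ≤ 4 := by
      refine le_trans (Subgroup.card_le_of_le (?_ : N 0 ≤ W)) hWcard
      exact sup_le le_rfl ((closure_le _).2 (by rintro _ ⟨j, hj, rfl⟩; exact absurd hj (Nat.not_lt_zero j)))
    have := hNstep 0 (by norm_num); have := hNstep 1 (by norm_num)
    have := hNstep 2 (by norm_num); have := hNstep 3 (by norm_num)
    simp only [zero_add, Nat.reduceAdd] at *
    omega
  have hmemA : ∀ i, i < 4 → A i ∈ N 4 := fun i hi => mem_sup_right (subset_closure ⟨i, hi, rfl⟩)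
  have hτN : τ ∈ normalizer ((N 4 : Subgroup X) : Set X) := by
    refine mem_normalizer_of_map_le fun x hx => ?_
    have : N 4 ≤ (N 4).comap (MulAut.conj τ).toMonoidHom := by
      refine sup_le (fun w hw => ?_) ((closure_le _).2 ?_)
      · show τ * w * τ⁻¹ ∈ N 4
        rw [comm_central (hWz hw), mul_inv_cancel_right]
        exact mem_sup_left hw
      · rintro _ ⟨j, hj, rfl⟩
        have hj' : j < 4 := hj
        show τ * A j * τ⁻¹ ∈ N 4
        rw [hA, conjSeq_succ]
        by_cases hj3 : j = 3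
        · subst hj3
          have e : A 4 = (A 0 * A 1 * A 2 * A 3)⁻¹ := eq_inv_of_mul_eq_one_right h.prod
          show A 4 ∈ N 4
          rw [e]
          exact inv_mem (mul_mem (mul_mem (mul_mem (hmemA 0 (by omega)) (hmemA 1 (by omega)))
            (hmemA 2 (by omega))) (hmemA 3 (by omega)))
        · exact hmemA (j + 1) (by omega)
    exact this hx
  refine le_trans (Subgroup.card_le_of_le (?_ : closure ({a, τ} : Set X) ≤ N 4 ⊔ zpowers τ))
    (le_trans (card_sup_zpowers hτN (by norm_num) h.pow5) (by omega))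
  rw [closure_le]
  rintro x (rfl | rfl)
  · have e : A 0 = x := by simp [hA, conjSeq]
    exact mem_sup_left (e ▸ hmemA 0 (by omega))
  · exact mem_sup_right (mem_zpowers _)

end General

section Hyp

variable {G : Type*} [Group G] [Finite G]

/-- An automorphism of 5-power order fixes a group of order dividing 8. -/
theorem eq_one_of_small {P : Type*} [Group P] [Finite P] (φ : MulAut P) (h5 : φ ^ 5 = 1)
    (hk : Nat.card P ∣ 8) (x : P) : φ x = x := by
  haveI : Fact (Nat.Prime 5) := ⟨by norm_num⟩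
  let F : Subgroup P := φ.toMonoidHom.eqLocus (MonoidHom.id P)
  have hp : IsPGroup 5 ↥(zpowers φ) := by
    rintro ⟨y, k, rfl⟩
    refine ⟨1, Subtype.ext ?_⟩
    show (φ ^ k) ^ (5 ^ 1) = 1
    rw [pow_one, ← zpow_natCast, zpow_comm, zpow_natCast, h5, one_zpow]
  have hmod := hp.card_modEq_card_fixedPoints P
  have hfix : Nat.card (MulAction.fixedPoints (↥(zpowers φ)) P) = Nat.card F := by
    refine Nat.card_congr (Equiv.subtypeEquivRight fun y => ?_)
    constructor
    · intro hy; exact hy ⟨φ, mem_zpowers φ⟩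
    · rintro hy ⟨ψ, k, rfl⟩
      show (φ ^ k) y = y
      have : φ ∈ MulAction.stabilizer (MulAut P) y := hy
      exact zpow_mem this k
  rw [hfix] at hmod
  have hd : Nat.card F ∣ Nat.card P := Subgroup.card_subgroup_dvd_card F
  have heq : Nat.card F = Nat.card P := by
    have h8 : ∀ n, n ∣ 8 → n = 1 ∨ n = 2 ∨ n = 4 ∨ n = 8 := by
      intro n hn
      have := Nat.le_of_dvd (by norm_num) hn
      interval_cases n <;> simp_all
    unfold Nat.ModEq at hmod
    rcases h8 _ hk with h | h | h | h <;> rcases h8 _ (hd.trans hk) with h' | h' | h' | h' <;> omega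
  have : F = ⊤ := Subgroup.eq_top_of_card_eq F heq
  exact (this ▸ mem_top x : x ∈ F)

theorem exists_rel (hG : Nat.card G = 320) (hD : Nat.card (commutator G) = 64)
    (hZ : IsKleinFour (center (commutator G))) :
    ∃ τ a : G, Rel τ a ∧ closure ({a, τ} : Set G) = ⊤ := by
  classical
  haveI : Fact (Nat.Prime 5) := ⟨by norm_num⟩
  obtain ⟨τ, hτ⟩ := exists_prime_orderOf_dvd_card' (G := G) 5 (by rw [hG]; norm_num)
  have hτ5 : τ ^ 5 = 1 := hτ ▸ pow_orderOf_eq_one τ
  set D := commutator G with hDdef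
  haveI : D.Normal := by rw [hDdef]; infer_instance
  have hτD : τ ∉ D := fun h => by
    have := orderOf_dvd_natCard (⟨τ, h⟩ : D)
    rw [← Subgroup.orderOf_coe, hτ, hD] at this
    norm_num at this
  have hgenD : D ⊔ zpowers τ = ⊤ := by
    refine Subgroup.eq_top_of_card_eq _ (Nat.eq_of_dvd_of_div_eq_one ?_ ?_)
    · exact Subgroup.card_subgroup_dvd_card _
    · have h1 : Nat.card D ∣ Nat.card ↥(D ⊔ zpowers τ) := Subgroup.card_dvd_of_le le_sup_left
      have h2 : 5 ∣ Nat.card ↥(D ⊔ zpowers τ) := by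
        have := Subgroup.card_dvd_of_le (le_sup_right : zpowers τ ≤ D ⊔ zpowers τ)
        rwa [Nat.card_zpowers, hτ] at this
      have h3 := Subgroup.card_subgroup_dvd_card (D ⊔ zpowers τ)
      rw [hD] at h1
      rw [hG] at h3 ⊢
      have h4 : 64 * 5 ∣ Nat.card ↥(D ⊔ zpowers τ) := Nat.Coprime.mul_dvd_of_dvd_of_dvd (by norm_num) h1 h2
      rw [Nat.dvd_antisymm h3 h4]
  set Z : Subgroup G := (center D).map D.subtype with hZdef
  have hZle : Z ≤ D := map_subtype_le _
  have hZcard : Nat.card Z = 4 := by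
    rw [hZdef, Subgroup.card_map_of_injective D.subtype_injective]; exact hZ.card_four
  have hZsq : ∀ z ∈ Z, z * z = 1 := by
    rintro _ ⟨z, hz, rfl⟩
    have := IsKleinFour.mul_self (G := center D) ⟨z, hz⟩
    exact congrArg (fun w : center D => ((w : D) : G)) this
  haveI : Z.Normal := ConjAct.normal_of_characteristic_of_normal
  -- `τ` centralises `Z`, hence `Z` is central
  have hτZ : ∀ z ∈ Z, τ * z * τ⁻¹ = z := by
    intro z hz
    have := eq_one_of_small (MulAut.conjNormal (H := Z) τ) (by rw [← map_pow, hτ5, map_one])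
      (by rw [hZcard]; norm_num) ⟨z, hz⟩
    simpa using congrArg Subtype.val this
  have hcom : ∀ g : G, (∀ z ∈ Z, g * z = z * g) := by
    have hle : D ⊔ zpowers τ ≤ centralizer (Z : Set G) := by
      refine sup_le ?_ (zpowers_le.2 ?_)
      · rintro d hd _ ⟨z, hz, rfl⟩
        exact (congrArg Subtype.val (mem_center_iff.1 hz ⟨d, hd⟩)).symm
      · intro z hz
        rw [← mul_inv_eq_iff_eq_mul.1 (hτZ z hz)]
    intro g z hz
    exact ((hgenD ▸ hle) (mem_top g) z hz).symm
  have hZc : Z ≤ center G := fun z hz => mem_center_iff.2 fun g => hcom g z hz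
  -- the quotient
  set π := QuotientGroup.mk' Z with hπ
  set E := D.map π with hEdef
  haveI : E.Normal := Subgroup.Normal.map inferInstance π (QuotientGroup.mk'_surjective Z)
  have hEcard : Nat.card E = 16 := by
    have h1 : E.index = D.index := Subgroup.index_map_eq _ (QuotientGroup.mk'_surjective Z)
      (by rw [QuotientGroup.ker_mk']; exact hZle)
    have h2 := E.card_mul_index
    have h3 := D.card_mul_index
    have h4 := Subgroup.card_eq_card_quotient_mul_card_subgroup Z
    rw [h1] at h2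
    rw [hD, hG] at h3
    rw [hG, hZcard] at h4
    have h5 : D.index = 5 := by omega
    rw [h5] at h2
    omega
  have hEcomm : E = commutator (G ⧸ Z) := by
    rw [hEdef, hDdef, _root_.commutator_def, Subgroup.map_commutator,
      Subgroup.map_top_of_surjective _ (QuotientGroup.mk'_surjective Z), ← _root_.commutator_def]
  have hgenQ : E ⊔ zpowers (π τ) = ⊤ := by
    rw [hEdef, ← MonoidHom.map_zpowers, ← Subgroup.map_sup, hgenD,
      Subgroup.map_top_of_surjective _ (QuotientGroup.mk'_surjective Z)]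
  -- `π τ` does not centralise `E` if `E` is abelian
  set φ : MulAut E := MulAut.conjNormal (H := E) (π τ) with hφ
  have hφ5 : φ ^ 5 = 1 := by rw [hφ, ← map_pow, ← map_pow, hτ5, map_one, map_one]
  have hφnt : ¬ ∀ x : E, φ x = x := by
    intro hall
    -- then the quotient is generated by `E` and a central element
    have hcen : π τ ∈ center (G ⧸ Z) := by
      rw [mem_center_iff]
      have hle : E ⊔ zpowers (π τ) ≤ centralizer ({π τ} : Set (G ⧸ Z)) := by
        refine sup_le (fun x hx => ?_) (zpowers_le.2 (mem_centralizer_singleton_iff.2 rfl))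
        rw [mem_centralizer_singleton_iff]
        have := congrArg Subtype.val (hall ⟨x, hx⟩)
        rw [hφ, MulAut.conjNormal_apply] at this
        exact (mul_inv_eq_iff_eq_mul.1 this).symm
      intro g
      exact mem_centralizer_singleton_iff.1 ((hgenQ ▸ hle) (mem_top g))
    -- so the derived group of the quotient is the derived group of `E`
    have hlt : ⁅E, E⁆ < E := by
      have hEp : IsPGroup 2 E := IsPGroup.of_card (n := 4) (by rw [hEcard]; norm_num)
      haveI : Group.IsNilpotent E := by haveI : Fact (Nat.Prime 2) := ⟨Nat.prime_two⟩; exact hEp.isNilpotent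
      haveI : Group.IsSolvable E := inferInstance
      haveI : Nontrivial E := by rw [← Finite.one_lt_card_iff_nontrivial, hEcard]; norm_num
      have h1 : commutator E < ⊤ := Group.IsSolvable.commutator_lt_top_of_nontrivial E
      have h2 := (Subgroup.map_lt_map_iff_of_injective E.subtype_injective).2 h1
      rw [_root_.commutator_def, Subgroup.map_commutator, ← MonoidHom.range_eq_map,
        Subgroup.range_subtype] at h2
      exact h2
    refine absurd hlt (not_lt_of_ge ?_)
    nth_rw 1 [hEcomm]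
    rw [_root_.commutator_def, ← hgenQ, Subgroup.commutator_le]
    intro x hx y hy
    rw [← SetLike.mem_coe, Subgroup.normal_mul] at hx hy
    obtain ⟨e, he, t, ht, rfl⟩ := hx
    obtain ⟨e', he', t', ht', rfl⟩ := hy
    have hzt : t ∈ center (G ⧸ Z) := zpowers_le.2 hcen ht
    have hzt' : t' ∈ center (G ⧸ Z) := zpowers_le.2 hcen ht'
    have e1 : ⁅e * t, e' * t'⁆ = ⁅e, e'⁆ := by
      rw [commutatorElement_def, commutatorElement_def]
      have k1 : e * t * (e' * t') = e * e' * (t * t') := by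
        rw [mul_assoc e t, ← mul_assoc t e', ← comm_central hzt e']; group
      have k2 : (e * t)⁻¹ * (e' * t')⁻¹ = (t' * t)⁻¹ * (e⁻¹ * e'⁻¹) := by
        have := comm_central (inv_mem hzt') e⁻¹
        rw [mul_inv_rev, mul_inv_rev, mul_inv_rev, mul_assoc t⁻¹, ← mul_assoc e⁻¹, this]; group
      have k3 : t * t' = t' * t := comm_central hzt' t
      calc e * t * (e' * t') * (e * t)⁻¹ * (e' * t')⁻¹
          = e * t * (e' * t') * ((e * t)⁻¹ * (e' * t')⁻¹) := by group
        _ = e * e' * (t * t') * ((t' * t)⁻¹ * (e⁻¹ * e'⁻¹)) := by rw [k1, k2]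
        _ = _ := by rw [k3]; group
    rw [e1]
    exact Subgroup.commutator_mem_commutator he he'
  -- `E` is abelian
  have hEab : ∀ x y : E, x * y = y * x := by
    by_contra hna
    have hEp : IsPGroup 2 E := IsPGroup.of_card (n := 4) (by rw [hEcard]; norm_num)
    haveI : Fact (Nat.Prime 2) := ⟨Nat.prime_two⟩
    haveI : Nontrivial E := by rw [← Finite.one_lt_card_iff_nontrivial, hEcard]; norm_num
    haveI := hEp.center_nontrivial
    have hne : center E ≠ ⊤ := fun h => hna fun x y => (mem_center_iff.1 (h ▸ mem_top y) x)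
    obtain ⟨k, hk, hck⟩ := (Nat.dvd_prime_pow Nat.prime_two).1
      (show Nat.card (center E) ∣ 2 ^ 4 from by
        have := Subgroup.card_subgroup_dvd_card (center E); rwa [hEcard] at this)
    have hlt : Nat.card (center E) < 16 := by
      refine lt_of_le_of_ne (hEcard ▸ Subgroup.card_le_card_group _) fun h => hne ?_
      exact Subgroup.eq_top_of_card_eq _ (h.trans hEcard.symm)
    have h8 : Nat.card (center E) ∣ 8 := by
      rw [hck]; refine pow_dvd_pow 2 ?_ |>.trans (by norm_num : 2 ^ 3 ∣ 8)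
      by_contra h
      have : k = 4 := by omega
      rw [hck, this] at hlt; norm_num at hlt
    have hgt : 1 < Nat.card (center E) := Finite.one_lt_card
    let φc : MulAut (center E) := Subgroup.centerCongr φ
    have hfix : ∀ z : center E, φ z = z := by
      intro z
      have h5' : φc ^ 5 = 1 := by
        ext w
        have hpow : ∀ (n : ℕ) (w : center E), (((φc ^ n) w : center E) : E) = (φ ^ n) (w : E) := by
          intro n
          induction n with
          | zero => intro w; rfl
          | succ n ih => intro w; rw [pow_succ, pow_succ, MulAut.mul_apply, MulAut.mul_apply, ih]; rfl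
        rw [hpow, hφ5]; rfl
      exact congrArg Subtype.val (eq_one_of_small φc h5' h8 z)
    -- and the quotient is small
    let φq : MulAut (E ⧸ center E) :=
      QuotientGroup.congr (center E) (center E) φ (by
        ext x
        show x ∈ (center E).map φ.toMonoidHom ↔ _
        rw [Subgroup.mem_map_equiv, mem_center_iff, mem_center_iff]
        exact ⟨fun h y => φ.symm.injective (by rw [map_mul, map_mul]; exact h _),
          fun h y => φ.injective (by rw [map_mul, map_mul, MulEquiv.apply_symm_apply]; exact h _)⟩)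
    have hq : ∀ w : E ⧸ center E, φq w = w := by
      refine eq_one_of_small φq ?_ ?_
      · ext w
        obtain ⟨x, rfl⟩ := QuotientGroup.mk_surjective w
        have hpow : ∀ (n : ℕ) (x : E), (φq ^ n) (x : E ⧸ center E) = (((φ ^ n) x : E) : E ⧸ center E) := by
          intro n
          induction n with
          | zero => intro x; rfl
          | succ n ih => intro x; rw [pow_succ, pow_succ, MulAut.mul_apply, MulAut.mul_apply, ← ih]; rfl
        rw [hpow, hφ5]; rfl
      · have h := Subgroup.card_eq_card_quotient_mul_card_subgroup (center E)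
        rw [hEcard, hck] at h
        rw [hck] at hgt
        have hk1 : 1 ≤ k := by
          by_contra hk0
          rw [show k = 0 by omega] at hgt
          norm_num at hgt
        refine ⟨2 ^ (k - 1), ?_⟩
        obtain ⟨k', rfl⟩ : ∃ k', k = k' + 1 := ⟨k - 1, by omega⟩
        rw [pow_succ] at h
        simp only [Nat.add_sub_cancel]
        refine Nat.eq_of_mul_eq_mul_right (show 0 < 2 by norm_num) ?_
        rw [mul_assoc, ← h]
    -- coprime action: trivial on the center and on the quotient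
    refine hφnt fun x => ?_
    have hc : x⁻¹ * φ x ∈ center E := QuotientGroup.eq.1 (hq x).symm
    have hpow : ∀ n : ℕ, (φ ^ n) x = x * (x⁻¹ * φ x) ^ n := by
      intro n
      induction n with
      | zero => simp
      | succ n ih =>
        rw [pow_succ', MulAut.mul_apply, ih, map_mul, map_pow, hfix ⟨_, hc⟩, pow_succ' (x⁻¹ * φ x),
          ← mul_assoc, mul_inv_cancel_left]
    have h5 := hpow 5
    rw [hφ5, MulAut.one_apply] at h5
    have h16 : (x⁻¹ * φ x) ^ 16 = 1 := hEcard ▸ pow_card_eq_one'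
    have h1 : x⁻¹ * φ x = 1 := by
      have e5 : (x⁻¹ * φ x) ^ 5 = 1 := mul_left_cancel (a := x) (by rw [← h5, mul_one])
      have : orderOf (x⁻¹ * φ x) ∣ 1 := Nat.dvd_gcd (orderOf_dvd_of_pow_eq_one e5) (orderOf_dvd_of_pow_eq_one h16)
      exact orderOf_eq_one_iff.1 (Nat.dvd_one.1 this)
    exact (inv_mul_eq_one.1 h1).symm
  -- fixed point free
  have hfpf : ∀ x : E, φ x = x → x = 1 := by
    let F : Subgroup E := φ.toMonoidHom.eqLocus (MonoidHom.id E)
    haveI : IsMulCommutative E := ⟨⟨hEab⟩⟩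
    intro x hx
    have hFne : F ≠ ⊤ := fun h => hφnt fun y => (h ▸ mem_top y : y ∈ F)
    have hp : IsPGroup 5 ↥(zpowers φ) := by
      rintro ⟨y, k, rfl⟩
      refine ⟨1, Subtype.ext ?_⟩
      show (φ ^ k) ^ (5 ^ 1) = 1
      rw [pow_one, ← zpow_natCast, zpow_comm, zpow_natCast, hφ5, one_zpow]
    have hmod := hp.card_modEq_card_fixedPoints E
    have hfix : Nat.card (MulAction.fixedPoints (↥(zpowers φ)) E) = Nat.card F := by
      refine Nat.card_congr (Equiv.subtypeEquivRight fun y => ?_)
      constructor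
      · intro hy; exact hy ⟨φ, mem_zpowers φ⟩
      · rintro hy ⟨ψ, k, rfl⟩
        show (φ ^ k) y = y
        have : φ ∈ MulAction.stabilizer (MulAut E) y := hy
        exact zpow_mem this k
    rw [hfix, hEcard] at hmod
    obtain ⟨k, hk, hck⟩ := (Nat.dvd_prime_pow Nat.prime_two).1
      (show Nat.card F ∣ 2 ^ 4 from by
        have := Subgroup.card_subgroup_dvd_card F; rwa [hEcard] at this)
    have hk0 : k = 0 := by
      rw [hck] at hmod
      unfold Nat.ModEq at hmod
      rcases (show k = 0 ∨ k = 1 ∨ k = 2 ∨ k = 3 ∨ k = 4 by omega) with rfl | rfl | rfl | rfl | rfl <;>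
        first
          | rfl
          | omega
          | exact absurd (Subgroup.eq_top_of_card_eq F (by rw [hck, hEcard]; norm_num)) hFne
    rw [hk0, pow_zero] at hck
    have hbot : F = ⊥ := Subgroup.eq_bot_of_card_eq F hck
    exact mem_bot.1 (hbot ▸ (hx : x ∈ F))
  have hexp : ∀ x : E, x * x = 1 := by
    intro x
    let f : E →* E := { toFun := fun y => y * y, map_one' := one_mul 1,
                        map_mul' := fun y z => by rw [mul_assoc y z, ← mul_assoc z y z, hEab z y]; group }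
    -- the kernel of squaring is invariant and nontrivial, so everything
    let K : Subgroup E := f.ker
    have hKinv : ∀ y ∈ K, φ y ∈ K := fun y hy => by
      show φ y * φ y = 1
      rw [← map_mul, show y * y = 1 from hy, map_one]
    let φK : MulAut K :=
      { toFun := fun y => ⟨φ y, hKinv y y.2⟩
        invFun := fun y => ⟨φ.symm y, by
          show φ.symm y * φ.symm y = 1
          rw [← map_mul, show (y : E) * y = 1 from y.2, map_one]⟩
        left_inv := fun y => Subtype.ext (φ.symm_apply_apply _)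
        right_inv := fun y => Subtype.ext (φ.apply_symm_apply _)
        map_mul' := fun y z => Subtype.ext (map_mul φ _ _) }
    by_cases h8 : Nat.card K ∣ 8
    · exfalso
      haveI : Fact (Nat.Prime 2) := ⟨Nat.prime_two⟩
      obtain ⟨y, hy⟩ := exists_prime_orderOf_dvd_card' (G := E) 2 (by rw [hEcard]; norm_num)
      have hy' : y ∈ K := by
        show y * y = 1
        rw [← pow_two, ← hy, pow_orderOf_eq_one]
      have h5' : φK ^ 5 = 1 := by
        ext w
        have hpow : ∀ (n : ℕ) (w : K), (((φK ^ n) w : K) : E) = (φ ^ n) (w : E) := by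
          intro n
          induction n with
          | zero => intro w; rfl
          | succ n ih => intro w; rw [pow_succ, pow_succ, MulAut.mul_apply, MulAut.mul_apply, ih]; rfl
        rw [hpow, hφ5]; rfl
      have := hfpf y (congrArg Subtype.val (eq_one_of_small φK h5' h8 ⟨y, hy'⟩))
      rw [this, orderOf_one] at hy
      norm_num at hy
    · obtain ⟨k, hk, hck⟩ := (Nat.dvd_prime_pow Nat.prime_two).1
        (show Nat.card K ∣ 2 ^ 4 from by
          have := Subgroup.card_subgroup_dvd_card K; rwa [hEcard] at this)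
      have : k = 4 := by
        by_contra hk4
        exact h8 (hck ▸ (pow_dvd_pow 2 (show k ≤ 3 by omega)).trans (by norm_num))
      have : K = ⊤ := Subgroup.eq_top_of_card_eq K (by rw [hck, this, hEcard]; norm_num)
      exact (this ▸ mem_top x : x ∈ K)
  -- back to `G`
  have hDsq : ∀ d ∈ D, d * d ∈ Z := by
    intro d hd
    rw [← QuotientGroup.eq_one_iff]
    exact congrArg Subtype.val (hexp ⟨π d, mem_map_of_mem π hd⟩)
  have hDcomm : ∀ d ∈ D, ∀ d' ∈ D, ⁅d, d'⁆ ∈ Z := by
    intro d hd d' hd'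
    rw [← QuotientGroup.eq_one_iff]
    show π ⁅d, d'⁆ = 1
    rw [map_commutatorElement, commutatorElement_eq_one_iff_mul_comm]
    exact congrArg Subtype.val (hEab ⟨π d, mem_map_of_mem π hd⟩ ⟨π d', mem_map_of_mem π hd'⟩)
  obtain ⟨a₀, ha₀D, ha₀Z⟩ : ∃ a ∈ D, a ∉ Z := by
    by_contra! h
    have := Subgroup.card_le_of_le h
    rw [hZcard, hD] at this
    omega
  have hAD : ∀ i, conjSeq τ a₀ i ∈ D := fun i =>
    (inferInstance : D.Normal).conj_mem _ ha₀D _
  set z := conjSeq τ a₀ 0 * conjSeq τ a₀ 1 * conjSeq τ a₀ 2 * conjSeq τ a₀ 3 * conjSeq τ a₀ 4 with hz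
  have hzZ : z ∈ Z := by
    have hzD : z ∈ D := mul_mem (mul_mem (mul_mem (mul_mem (hAD 0) (hAD 1)) (hAD 2)) (hAD 3)) (hAD 4)
    rw [← QuotientGroup.eq_one_iff]
    refine congrArg Subtype.val (hfpf ⟨π z, mem_map_of_mem π hzD⟩ (Subtype.ext ?_))
    rw [hφ, MulAut.conjNormal_apply]
    show π τ * π z * (π τ)⁻¹ = π z
    have e : τ * z * τ⁻¹ = conjSeq τ a₀ 1 * conjSeq τ a₀ 2 * conjSeq τ a₀ 3 * conjSeq τ a₀ 4 * conjSeq τ a₀ 0 := by
      have e5 : conjSeq τ a₀ 0 = conjSeq τ a₀ 5 := by simp [conjSeq, hτ5]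
      calc τ * z * τ⁻¹ = (τ * conjSeq τ a₀ 0 * τ⁻¹) * (τ * conjSeq τ a₀ 1 * τ⁻¹) *
            (τ * conjSeq τ a₀ 2 * τ⁻¹) * (τ * conjSeq τ a₀ 3 * τ⁻¹) * (τ * conjSeq τ a₀ 4 * τ⁻¹) := by
            rw [hz]; group
        _ = _ := by simp only [conjSeq_succ]; rw [e5]
    rw [← map_inv, ← map_mul, ← map_mul, e, hz]
    set B := fun i => π (conjSeq τ a₀ i) with hB
    have hc : ∀ i j, B i * B j = B j * B i := fun i j =>
      congrArg Subtype.val (hEab ⟨_, mem_map_of_mem π (hAD i)⟩ ⟨_, mem_map_of_mem π (hAD j)⟩)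
    simp only [map_mul]
    show B 1 * B 2 * B 3 * B 4 * B 0 = B 0 * B 1 * B 2 * B 3 * B 4
    rw [mul_assoc (B 1 * B 2 * B 3), hc 4 0, ← mul_assoc, mul_assoc (B 1 * B 2), hc 3 0, ← mul_assoc,
      mul_assoc (B 1), hc 2 0, ← mul_assoc, hc 1 0]
  have hzc : ∀ g : G, g * z = z * g := fun g => hcom g z hzZ
  set a := a₀ * z with ha
  have haD : a ∈ D := mul_mem ha₀D (hZle hzZ)
  have hAa : ∀ i, conjSeq τ a i = conjSeq τ a₀ i * z := fun i => by
    simp only [conjSeq, ha]
    rw [← mul_assoc (τ ^ i) a₀ z, mul_assoc (τ ^ i * a₀), ← hzc (τ ^ i)⁻¹, ← mul_assoc]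
  have hAaD : ∀ i, conjSeq τ a i ∈ D := fun i => (inferInstance : D.Normal).conj_mem _ haD _
  refine ⟨τ, a, ⟨hτ5, fun i j => hZc (hDcomm _ (hAaD i) _ (hAaD j)),
    fun i j => hZsq _ (hDcomm _ (hAaD i) _ (hAaD j)), hZc (hDsq a haD),
    hZsq _ (hDsq a haD), ?_⟩, ?_⟩
  · have e : ∀ p q : G, p * z * (q * z) = p * q * (z * z) := fun p q => by
      rw [mul_assoc p z, ← mul_assoc z q z, ← hzc q]; group
    simp only [hAa]
    rw [e, hZsq z hzZ, mul_one, ← mul_assoc _ (conjSeq τ a₀ 2) z, e, hZsq z hzZ, mul_one,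
      ← mul_assoc _ (conjSeq τ a₀ 4) z, ← hz, hZsq z hzZ]
  · set I := closure ({a, τ} : Set G) with hI
    have haI : a ∈ I := subset_closure (Or.inl rfl)
    have hτI : τ ∈ I := subset_closure (Or.inr rfl)
    -- the image of `I` contains `E`
    set J : Subgroup E := (I.map π).subgroupOf E with hJ
    have haE : π a ∈ E := mem_map_of_mem π haD
    have haJ : (⟨π a, haE⟩ : E) ∈ J := mem_map_of_mem π haI
    have hJinv : ∀ y ∈ J, φ y ∈ J := by
      intro y hy
      show (φ y : G ⧸ Z) ∈ I.map π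
      rw [hφ, MulAut.conjNormal_apply]
      exact mul_mem (mul_mem (mem_map_of_mem π hτI) hy) (inv_mem (mem_map_of_mem π hτI))
    have hJtop : J = ⊤ := by
      let φJ : MulAut J := MulEquiv.ofBijective
        ({ toFun := fun y => ⟨φ y, hJinv y y.2⟩
           map_one' := Subtype.ext (map_one φ)
           map_mul' := fun y z => Subtype.ext (map_mul φ _ _) } : J →* J)
        (Finite.injective_iff_bijective.1 fun y z h => Subtype.ext (φ.injective (congrArg Subtype.val h)))
      obtain ⟨k, hk, hck⟩ := (Nat.dvd_prime_pow Nat.prime_two).1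
        (show Nat.card J ∣ 2 ^ 4 from by
          have := Subgroup.card_subgroup_dvd_card J; rwa [hEcard] at this)
      by_contra hne
      have h8 : Nat.card J ∣ 8 := by
        rw [hck]
        refine (pow_dvd_pow 2 (?_ : k ≤ 3)).trans (by norm_num)
        by_contra h
        exact hne (Subgroup.eq_top_of_card_eq J (by rw [hck, show k = 4 by omega, hEcard]; norm_num))
      have h5' : φJ ^ 5 = 1 := by
        ext w
        have hpow : ∀ (n : ℕ) (w : J), (((φJ ^ n) w : J) : E) = (φ ^ n) (w : E) := by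
          intro n
          induction n with
          | zero => intro w; rfl
          | succ n ih => intro w; rw [pow_succ, pow_succ, MulAut.mul_apply, MulAut.mul_apply, ih]; rfl
        rw [hpow, hφ5]; rfl
      have h1 := hfpf _ (congrArg Subtype.val (eq_one_of_small φJ h5' h8 ⟨_, haJ⟩))
      have h1' : π a = 1 := congrArg Subtype.val h1
      rw [hπ, QuotientGroup.mk'_apply, QuotientGroup.eq_one_iff, ha] at h1'
      exact ha₀Z ((Subgroup.mul_mem_cancel_right Z hzZ).1 h1')
    have hIZ : I ⊔ Z = ⊤ := by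
      rw [eq_top_iff, ← hgenD, sup_le_iff, zpowers_le]
      refine ⟨fun d hd => ?_, mem_sup_left hτI⟩
      have hm : π d ∈ I.map π := by
        have : (⟨π d, mem_map_of_mem π hd⟩ : E) ∈ J := hJtop ▸ mem_top _
        exact this
      obtain ⟨i, hi, he⟩ := hm
      have hz' : i⁻¹ * d ∈ Z := QuotientGroup.eq.1 he
      have := mul_mem (mem_sup_left (T := Z) hi) (mem_sup_right (S := I) hz')
      rwa [mul_inv_cancel_left] at this
    -- hence `I` contains the derived group, and so `Z`
    have hDI : D ≤ I := by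
      rw [hDdef, _root_.commutator_def, Subgroup.commutator_le]
      intro x _ y _
      have hx : x ∈ I ⊔ Z := hIZ ▸ mem_top x
      have hy : y ∈ I ⊔ Z := hIZ ▸ mem_top y
      rw [← SetLike.mem_coe, Subgroup.mul_normal] at hx hy
      obtain ⟨i, hi, u, hu, rfl⟩ := hx
      obtain ⟨j, hj, v, hv, rfl⟩ := hy
      have e1 : ⁅i * u, j * v⁆ = ⁅i, j⁆ := by
        have hu' := hcom
        simp only [commutatorElement_def]
        have k1 : i * u * (j * v) = i * j * (u * v) := by
          rw [mul_assoc i u, ← mul_assoc u j, ← hu' j u hu]; group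
        have k2 : (i * u)⁻¹ * (j * v)⁻¹ = (v * u)⁻¹ * (i⁻¹ * j⁻¹) := by
          rw [mul_inv_rev, mul_inv_rev, mul_inv_rev, mul_assoc u⁻¹, ← mul_assoc i⁻¹, hu' i⁻¹ v⁻¹ (inv_mem hv)]
          group
        calc i * u * (j * v) * (i * u)⁻¹ * (j * v)⁻¹
            = i * u * (j * v) * ((i * u)⁻¹ * (j * v)⁻¹) := by group
          _ = i * j * (u * v) * ((v * u)⁻¹ * (i⁻¹ * j⁻¹)) := by rw [k1, k2]
          _ = _ := by rw [hu' u v hv]; group
      rw [e1, commutatorElement_def]
      exact mul_mem (mul_mem (mul_mem hi hj) (inv_mem hi)) (inv_mem hj)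
    rw [eq_top_iff, ← hIZ]
    exact sup_le le_rfl (hZle.trans hDI)

/-- Uniqueness. -/
theorem nonempty_equiv {H : Type*} [Group H] [Finite H]
    (hG : Nat.card G = 320) (hD : Nat.card (commutator G) = 64)
    (hZ : IsKleinFour (center (commutator G)))
    (hH : Nat.card H = 320) (hDH : Nat.card (commutator H) = 64)
    (hZH : IsKleinFour (center (commutator H))) : Nonempty (G ≃* H) := by
  obtain ⟨τ, a, hr, hg⟩ := exists_rel hG hD hZ
  obtain ⟨τ', a', hr', hg'⟩ := exists_rel hH hDH hZH
  have hcs : ∀ i, conjSeq (τ, τ') (a, a') i = (conjSeq τ a i, conjSeq τ' a' i) := fun i => rfl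
  have hcen : ∀ x : G × H, x.1 ∈ center G → x.2 ∈ center H → x ∈ center (G × H) := fun x h1 h2 =>
    mem_center_iff.2 fun g => Prod.ext (mem_center_iff.1 h1 g.1) (mem_center_iff.1 h2 g.2)
  have hrel : Rel (τ, τ') (a, a') :=
    { pow5 := Prod.ext hr.pow5 hr'.pow5
      commCentral := fun i j => by
        rw [hcs, hcs]; exact hcen _ (hr.commCentral i j) (hr'.commCentral i j)
      commSq := fun i j => by
        rw [hcs, hcs]; exact Prod.ext (hr.commSq i j) (hr'.commSq i j)
      sqCentral := hcen _ hr.sqCentral hr'.sqCentral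
      sqSq := Prod.ext hr.sqSq hr'.sqSq
      prod := by simp only [hcs]; exact Prod.ext hr.prod hr'.prod }
  set K := closure ({(a, a'), (τ, τ')} : Set (G × H)) with hK
  have hKcard : Nat.card K ≤ 320 := card_bound hrel
  let f : K →* G := (MonoidHom.fst G H).comp K.subtype
  let g : K →* H := (MonoidHom.snd G H).comp K.subtype
  have hf : Function.Surjective f := by
    rw [← MonoidHom.range_eq_top, MonoidHom.range_comp, Subgroup.range_subtype, hK,
      MonoidHom.map_closure, Set.image_pair]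
    exact hg
  have hg2 : Function.Surjective g := by
    rw [← MonoidHom.range_eq_top, MonoidHom.range_comp, Subgroup.range_subtype, hK,
      MonoidHom.map_closure, Set.image_pair]
    exact hg'
  have hcard : Nat.card K = 320 := le_antisymm hKcard (hG ▸ Nat.card_le_card_of_surjective f hf)
  have hfb : Function.Bijective f :=
    ⟨(Nat.bijective_iff_surjective_and_card f).2 ⟨hf, hcard.trans hG.symm⟩ |>.1, hf⟩
  have hgb : Function.Bijective g :=
    ⟨(Nat.bijective_iff_surjective_and_card g).2 ⟨hg2, hcard.trans hH.symm⟩ |>.1, hg2⟩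
  exact ⟨(MulEquiv.ofBijective f hfb).symm.trans (MulEquiv.ofBijective g hgb)⟩

end Hyp

end Cfsg.Agent.Order320Unique65
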