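import Mathlib
import Cfsg.Agent.Lib.SimpleSearch

/-!
A simple group of order 3960 cannot have 396 Sylow 5-subgroups and 45 Sylow 11-subgroups with
centralisers of order 44.
-/

set_option autoImplicit false

namespace Cfsg.Agent.Order3960Simple

open Subgroup

/-- An even involution fixes a number of points congruent to the degree modulo 4. -/
theorem four_dvd_moved {α : Type*} [Fintype α] [DecidableEq α] {σ : Equiv.Perm α}
    (h2 : σ ^ 2 = 1) (hs : Equiv.Perm.sign σ = 1) : 4 ∣ σ.support.card := by
  haveI : Fact (Nat.Prime 2) := ⟨Nat.prime_two⟩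
  have hc : ∀ n ∈ σ.cycleType, n = 2 := by
    intro n hn
    have h1 := Equiv.Perm.dvd_of_mem_cycleType hn
    have h3 : orderOf σ ∣ 2 := orderOf_dvd_of_pow_eq_one h2
    have h4 := Nat.le_of_dvd (by norm_num) (h1.trans h3)
    have h5 := Equiv.Perm.two_le_of_mem_cycleType hn
    omega
  have hrep : σ.cycleType = Multiset.replicate σ.cycleType.card 2 :=
    Multiset.eq_replicate_card.2 hc
  have hsum : σ.support.card = 2 * σ.cycleType.card := by
    rw [← Equiv.Perm.sum_cycleType, hrep, Multiset.sum_replicate, Multiset.card_replicate,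
      smul_eq_mul, mul_comm]
  have hsign := Equiv.Perm.sign_of_cycleType σ
  rw [Equiv.Perm.sum_cycleType, hsum, hs] at hsign
  rw [hsum]
  have heven : Even (2 * σ.cycleType.card + σ.cycleType.card) :=
    neg_one_pow_eq_one_iff_even (R := ℤˣ) (by decide) |>.1 hsign.symm
  obtain ⟨j, hj⟩ := heven
  omega

variable {N : Type*} [Group N] [Finite N] [IsSimpleGroup N]

/-- In a simple group every element induces an even permutation. -/
theorem four_dvd_moved_points (hN : ¬ IsMulCommutative N) {X : Type*} [MulAction N X] [Finite X]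
    {g : N} (hg : g ^ 2 = 1) :
    4 ∣ Nat.card X - Nat.card {x : X // g • x = x} := by
  classical
  haveI := Fintype.ofFinite X
  set φ := MulAction.toPermHom N X
  have hs : Equiv.Perm.sign (φ g) = 1 := by
    rcases SimpleOrder.eq_bot_or_top (Equiv.Perm.sign.comp φ).normal_ker with h | h
    · exact absurd ⟨⟨fun a b => (MonoidHom.ker_eq_bot_iff _).1 h (by rw [map_mul, map_mul, mul_comm])⟩⟩ hN
    · exact MonoidHom.mem_ker.1 (h.symm ▸ Subgroup.mem_top g : g ∈ (Equiv.Perm.sign.comp φ).ker)
  have h := four_dvd_moved (σ := φ g) (by rw [← map_pow, hg, map_one]) hs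
  have e : (φ g).support = Finset.univ.filter fun x => ¬ g • x = x := by
    ext x; simp [φ, Equiv.Perm.mem_support]
  have hsplit := Finset.card_filter_add_card_filter_not (s := (Finset.univ : Finset X)) (fun x => g • x = x)
  rw [e] at h
  rw [Nat.card_eq_fintype_card, Nat.card_eq_fintype_card, Fintype.card_subtype]
  rw [Finset.card_univ] at hsplit
  convert h using 2
  change _ = (Finset.univ.filter fun x => ¬ g • x = x).card
  omega

variable [Fact (Nat.Prime 11)]

theorem centralizer_le_normalizer_of_involution (hcard : Nat.card N = 3960)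
    (hnorm : ∀ P : Sylow 11 N, Nat.card (normalizer ((P : Subgroup N) : Set N)) = 88)
    (hcent : ∀ P : Sylow 11 N, Nat.card (centralizer ((P : Subgroup N) : Set N)) = 44)
    (hPcard : ∀ P : Sylow 11 N, Nat.card (P : Subgroup N) = 11)
    (P : Sylow 11 N) {u : N} (hu2 : orderOf u = 2)
    (hu : u ∈ centralizer ((P : Subgroup N) : Set N)) :
    centralizer ({u} : Set N) ≤ normalizer ((P : Subgroup N) : Set N) := by
  haveI : Fact (Nat.Prime 2) := ⟨Nat.prime_two⟩
  have hN : ¬ IsMulCommutative N := SimpleOrder.not_comm_of_not_prime (by rw [hcard]; norm_num)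
  set C := centralizer ({u} : Set N) with hC
  have hPC : (P : Subgroup N) ≤ C := fun x hx =>
    mem_centralizer_singleton_iff.2 (mem_centralizer_iff.1 hu x hx)
  have h11 : 11 ∣ Nat.card C := hPcard P ▸ Subgroup.card_dvd_of_le hPC
  have h4N : 4 ∣ Nat.card (normalizer ((P : Subgroup N) : Set N) ⊓ C : Subgroup N) := by
    set CP := centralizer ((P : Subgroup N) : Set N)
    have hp : IsPGroup 2 (zpowers (⟨u, hu⟩ : CP)) := by
      refine IsPGroup.of_card (n := 1) ?_
      rw [Nat.card_zpowers, Subgroup.orderOf_mk, hu2, pow_one]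
    obtain ⟨M, hM⟩ := hp.exists_le_sylow
    have hMc : Nat.card (M : Subgroup CP) = 2 ^ 2 := by
      rw [SimpleOrder.sylow_card_of_eq (k := 2) (m := 11) (by rw [hcent]; norm_num) (by norm_num) M]
    haveI := IsPGroup.isMulCommutative_of_card_eq_prime_sq (p := 2) hMc
    have hle : (M : Subgroup CP).map CP.subtype ≤ C := by
      rintro _ ⟨m, hm, rfl⟩
      refine mem_centralizer_singleton_iff.2 ?_
      have := IsMulCommutative.is_comm.comm (⟨m, hm⟩ : (M : Subgroup CP)) ⟨⟨u, hu⟩, hM (mem_zpowers _)⟩
      exact congrArg (fun z : (M : Subgroup CP) => ((z : CP) : N)) this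
    have hle' : (M : Subgroup CP).map CP.subtype ≤ normalizer ((P : Subgroup N) : Set N) ⊓ C :=
      le_inf ((Subgroup.map_subtype_le _).trans (centralizer_le_normalizer _)) hle
    have := Subgroup.card_dvd_of_le hle'
    rwa [Subgroup.card_map_of_injective CP.subtype_injective, hMc] at this
  have h4 : 4 ∣ Nat.card C := h4N.trans (Subgroup.card_dvd_of_le inf_le_right)
  have h11N : 11 ∣ Nat.card (normalizer ((P : Subgroup N) : Set N) ⊓ C : Subgroup N) :=
    (hPcard P).symm.dvd.trans <| Subgroup.card_dvd_of_le (le_inf le_normalizer hPC)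
  have hCtop : C ≠ ⊤ := by
    intro h
    have hcen : u ∈ center N := mem_center_iff.2 fun g =>
      mem_centralizer_singleton_iff.1 (h.symm ▸ mem_top g : g ∈ C)
    rcases SimpleOrder.eq_bot_or_top (inferInstance : (center N).Normal) with hb | hb
    · rw [hb, mem_bot] at hcen
      rw [hcen, orderOf_one] at hu2; norm_num at hu2
    · exact hN ⟨⟨fun a b => (mem_center_iff.1 (hb.symm ▸ mem_top b : b ∈ center N) a)⟩⟩
  have hidx := SimpleOrder.five_le_index hN C hCtop
  have hmul := C.card_mul_index
  rw [hcard] at hmul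
  set R : Sylow 11 C := P.subtype hPC
  have hRn : normalizer ((R : Subgroup C) : Set C) =
      (normalizer ((P : Subgroup N) : Set N)).subgroupOf C := by
    rw [show (R : Subgroup C) = (P : Subgroup N).subgroupOf C from Sylow.coe_subtype P hPC,
      ← Subgroup.subgroupOf_normalizer_eq hPC]
  have hn1 : (normalizer ((P : Subgroup N) : Set N)).subgroupOf C = ⊤ := by
    rw [← hRn, ← Subgroup.index_eq_one,
      show (normalizer ((R : Subgroup C) : Set C)).index = Nat.card (Sylow 11 C) from
        R.card_eq_index_normalizer.symm]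
    have hmod : Nat.card (Sylow 11 C) % 11 = 1 :=
      Eq.trans (card_sylow_modEq_one 11 C) (by norm_num)
    have hinf : (normalizer ((R : Subgroup C) : Set C)).index * Nat.card (normalizer ((R : Subgroup C) : Set C)) =
        Nat.card C := by rw [mul_comm]; exact Subgroup.card_mul_index _
    have hd : Nat.card (normalizer ((R : Subgroup C) : Set C)) ∣ 88 := by
      rw [hRn, ← hnorm P]
      exact Subgroup.card_comap_dvd_of_injective _ _ C.subtype_injective
    have hm44 : 44 ∣ Nat.card (normalizer ((R : Subgroup C) : Set C)) := by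
      rw [hRn, ← Subgroup.card_map_of_injective C.subtype_injective, Subgroup.subgroupOf_map_subtype]
      exact Nat.Coprime.mul_dvd_of_dvd_of_dvd (by norm_num : Nat.Coprime 4 11) h4N h11N
    rw [show (normalizer ((R : Subgroup C) : Set C)).index = Nat.card (Sylow 11 C) from
      R.card_eq_index_normalizer.symm] at hinf
    have hCd : Nat.card C ∈ Nat.divisors 3960 := Nat.mem_divisors.2 ⟨hcard ▸ C.card_subgroup_dvd_card, by norm_num⟩
    have hle : Nat.card (normalizer ((R : Subgroup C) : Set C)) ≤ 88 := Nat.le_of_dvd (by norm_num) hd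
    have hC5 : Nat.card C ≤ 792 := by nlinarith
    have h44' : 44 ∣ Nat.card C := Nat.Coprime.mul_dvd_of_dvd_of_dvd (by norm_num : Nat.Coprime 4 11) h4 h11
    have hnd : Nat.card (Sylow 11 C) ∣ Nat.card C / 11 := by
      obtain ⟨k, hk⟩ := h11
      rw [hk, Nat.mul_div_cancel_left _ (by norm_num)]
      refine SimpleOrder.card_sylow_dvd (k := 1) (by rw [hk, pow_one]) fun hh => ?_
      obtain ⟨j, rfl⟩ := hh
      have : 11 * 11 ∣ 3960 := Dvd.dvd.trans ⟨j, by rw [hk]; ring⟩ (hcard ▸ C.card_subgroup_dvd_card)
      norm_num at this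
    revert hmod hnd hinf hd hle h44' hC5 hm44
    generalize Nat.card (normalizer ((R : Subgroup C) : Set C)) = m
    generalize hc : Nat.card C = c at hCd ⊢
    generalize Nat.card (Sylow 11 C) = s
    intros
    exact key c s m (Nat.mem_divisors.1 hCd).1 ‹_› ‹_› ‹_› ‹_› ‹_› ‹_› ‹_›
  exact Subgroup.subgroupOf_eq_top.1 hn1
where
  key (c s m : ℕ) (hc : c ∣ 3960) (hc' : c ≤ 792) (h44 : 44 ∣ c) (hs : s ∣ c / 11) (hs1 : s % 11 = 1)
      (he : s * m = c) (hm : m ∣ 88) (hm' : 44 ∣ m) : s = 1 := by
    have h : ∀ c ∈ Nat.divisors 3960, c ≤ 792 → 44 ∣ c → ∀ s ∈ Nat.divisors (c / 11), s % 11 = 1 →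
        c / s ∣ 88 → 44 ∣ c / s → s = 1 := by decide +kernel
    have hc0 : 0 < c := Nat.pos_of_dvd_of_pos hc (by norm_num)
    have hs0 : 0 < s := Nat.pos_of_ne_zero fun h0 => by subst h0; norm_num at hs1
    refine h c (Nat.mem_divisors.2 ⟨hc, by norm_num⟩) hc' h44 s (Nat.mem_divisors.2 ⟨hs, ?_⟩) hs1 ?_ ?_
    · have := Nat.le_of_dvd hc0 h44
      omega
    · rwa [← he, Nat.mul_div_cancel_left _ hs0]
    · rwa [← he, Nat.mul_div_cancel_left _ hs0]

theorem false_of_data (hcard : Nat.card N = 3960) (hn5 : ∀ [Fact (Nat.Prime 5)], Nat.card (Sylow 5 N) = 396)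
    (hn11 : Nat.card (Sylow 11 N) = 45)
    (hnorm : ∀ P : Sylow 11 N, Nat.card (normalizer ((P : Subgroup N) : Set N)) = 88)
    (hcent : ∀ P : Sylow 11 N, Nat.card (centralizer ((P : Subgroup N) : Set N)) = 44) : False := by
  classical
  haveI : Fact (Nat.Prime 2) := ⟨Nat.prime_two⟩
  haveI : Fact (Nat.Prime 5) := ⟨by norm_num⟩
  have hN : ¬ IsMulCommutative N := SimpleOrder.not_comm_of_not_prime (by rw [hcard]; norm_num)
  have hP11 : ∀ P : Sylow 11 N, Nat.card (P : Subgroup N) = 11 := fun P => by
    rw [SimpleOrder.sylow_card_of_eq (k := 1) (m := 360) (by rw [hcard]; norm_num) (by norm_num) P, pow_one]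
  have hP5 : ∀ P : Sylow 5 N, Nat.card (P : Subgroup N) = 5 := fun P => by
    rw [SimpleOrder.sylow_card_of_eq (k := 1) (m := 792) (by rw [hcard]; norm_num) (by norm_num) P, pow_one]
  have hCN := centralizer_le_normalizer_of_involution hcard hnorm hcent hP11
  have heq : ∀ P Q : Sylow 11 N, (Q : Subgroup N) ≤ normalizer ((P : Subgroup N) : Set N) → Q = P :=
    fun P Q h => by
      haveI : ((P : Subgroup N).subgroupOf (normalizer ((P : Subgroup N) : Set N))).Normal :=
        Subgroup.normal_subgroupOf_iff_le_normalizer le_normalizer |>.2 le_rfl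
      haveI := Sylow.unique_of_normal (P.subtype le_normalizer) (by
        rw [Sylow.coe_subtype]; infer_instance)
      exact Sylow.subtype_injective (Subsingleton.elim (Q.subtype h) (P.subtype le_normalizer))
  have hQC : ∀ (Q : Sylow 11 N) {u : N}, u ∈ centralizer ((Q : Subgroup N) : Set N) →
      (Q : Subgroup N) ≤ centralizer ({u} : Set N) := fun Q u hu x hx =>
    mem_centralizer_singleton_iff.2 (mem_centralizer_iff.1 hu x hx)
  by_cases hinv : ∃ (P : Sylow 11 N) (g : N), g ∈ normalizer ((P : Subgroup N) : Set N) ∧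
      g ∉ centralizer ((P : Subgroup N) : Set N) ∧ orderOf g = 2
  · obtain ⟨P, g, hgN, hgC, hg2⟩ := hinv
    have hgg : g ^ 2 = 1 := by rw [← hg2]; exact pow_orderOf_eq_one g
    -- `g` is conjugate into some centraliser
    obtain ⟨M, hM⟩ : ∃ M : Sylow 2 (centralizer ((P : Subgroup N) : Set N)), True := ⟨default, trivial⟩
    set M' := (M : Subgroup (centralizer ((P : Subgroup N) : Set N))).map
      (centralizer ((P : Subgroup N) : Set N)).subtype
    have hM'c : Nat.card M' = 4 := by
      rw [Subgroup.card_map_of_injective (Subgroup.subtype_injective _),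
        SimpleOrder.sylow_card_of_eq (k := 2) (m := 11) (by rw [hcent]; norm_num) (by norm_num) M]
      norm_num
    have hidx : Nat.card (N ⧸ M') = 990 := by
      have := M'.card_mul_index
      rw [hM'c, hcard, Subgroup.index] at this
      omega
    obtain ⟨Q, hQ⟩ : ∃ Q : Sylow 11 N, g ∈ centralizer ((Q : Subgroup N) : Set N) := by
      by_cases hfix : ∃ x : N ⧸ M', g • x = x
      · obtain ⟨x, hx⟩ := hfix
        obtain ⟨h, rfl⟩ := QuotientGroup.mk_surjective x
        have hm : h⁻¹ * g * h ∈ M' := by
          rw [MulAction.Quotient.smul_mk, QuotientGroup.eq, smul_eq_mul] at hx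
          have e : h⁻¹ * g * h = ((g * h)⁻¹ * h)⁻¹ := by group
          rw [e]; exact inv_mem hx
        obtain ⟨m, -, hm⟩ := hm
        refine ⟨h • P, ?_⟩
        rw [mem_centralizer_iff]
        rintro _ ⟨y, hy, rfl⟩
        have hc : y * (h⁻¹ * g * h) = h⁻¹ * g * h * y := by
          rw [← hm]; exact mem_centralizer_iff.1 m.2 y hy
        show h * y * h⁻¹ * g = g * (h * y * h⁻¹)
        calc h * y * h⁻¹ * g = h * (y * (h⁻¹ * g * h)) * h⁻¹ := by group
          _ = g * (h * y * h⁻¹) := by rw [hc]; group
      · exfalso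
        push Not at hfix
        have h := four_dvd_moved_points hN (X := N ⧸ M') hgg
        rw [hidx, show Nat.card {x : N ⧸ M' // g • x = x} = 0 by
          rw [Nat.card_eq_zero]; exact Or.inl ⟨fun x => hfix x.1 x.2⟩] at h
        omega
    have hCg := hCN Q hg2 hQ
    -- points fixed by `g`
    set F := {R : Sylow 11 N // g • R = R}
    letI : MulAction (Q : Subgroup N) F :=
      { smul := fun x R => ⟨(x : N) • R.1, by
          rw [smul_smul, ← mem_centralizer_singleton_iff.1 (hQC Q hQ x.2), mul_smul, R.2]⟩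
        one_smul := fun R => Subtype.ext (one_smul N R.1)
        mul_smul := fun x y R => Subtype.ext (mul_smul (x : N) (y : N) R.1) }
    have hmod := Q.2.card_modEq_card_fixedPoints F
    have hfixQ : ∀ R : F, R ∈ MulAction.fixedPoints (Q : Subgroup N) F → R.1 = Q := by
      intro R hR
      refine (heq R.1 Q fun x hx => ?_).symm
      exact Sylow.smul_eq_iff_mem_normalizer.1 (congrArg Subtype.val (hR ⟨x, hx⟩))
    have hQF : g • Q = Q := Sylow.smul_eq_iff_mem_normalizer.2 (centralizer_le_normalizer _ hQ)
    have hone : Nat.card (MulAction.fixedPoints (Q : Subgroup N) F) = 1 := by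
      rw [Nat.card_eq_one_iff_unique]
      refine ⟨⟨fun a b => Subtype.ext (Subtype.ext ((hfixQ _ a.2).trans (hfixQ _ b.2).symm))⟩,
        ⟨⟨⟨Q, hQF⟩, fun x => Subtype.ext (Sylow.smul_eq_iff_mem_normalizer.2 (le_normalizer x.2))⟩⟩⟩
    have hPF : g • P = P := Sylow.smul_eq_iff_mem_normalizer.2 hgN
    have h2le : 2 ≤ Nat.card F := by
      haveI : Nontrivial F := ⟨⟨P, hPF⟩, ⟨Q, hQF⟩, fun h => by
        have e : P = Q := congrArg Subtype.val h
        subst e; exact hgC hQ⟩
      exact Finite.one_lt_card
    have hle : Nat.card F ≤ 45 := hn11 ▸ Nat.card_le_card_of_injective Subtype.val Subtype.val_injective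
    have h4 := four_dvd_moved_points hN (X := Sylow 11 N) hgg
    rw [hn11] at h4
    rw [hone] at hmod
    have hall : Nat.card F = 45 := by
      have : Nat.card F % 11 = 1 := hmod
      change 4 ∣ 45 - Nat.card F at h4
      omega
    have hker : g ∈ (MulAction.toPermHom N (Sylow 11 N)).ker := by
      rw [MonoidHom.mem_ker]
      refine Equiv.ext fun R => ?_
      have hb := (Nat.bijective_iff_injective_and_card (Subtype.val : F → Sylow 11 N)).2
        ⟨Subtype.val_injective, by rw [hall, hn11]⟩
      obtain ⟨R', rfl⟩ := hb.2 R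
      exact R'.2
    rcases SimpleOrder.eq_bot_or_top (MonoidHom.normal_ker (MulAction.toPermHom N (Sylow 11 N))) with h | h
    · rw [h, mem_bot] at hker
      rw [hker, orderOf_one] at hg2; norm_num at hg2
    · have hsub : Subsingleton (Sylow 11 N) := ⟨fun R R' => by
        obtain ⟨x, hx⟩ := MulAction.exists_smul_eq N R R'
        rw [← hx]
        exact (congrFun (congrArg DFunLike.coe (MonoidHom.mem_ker.1
          (h.symm ▸ mem_top x : x ∈ (MulAction.toPermHom N (Sylow 11 N)).ker))) R).symm⟩
      rw [Nat.card_eq_one_iff_unique.2 ⟨hsub, inferInstance⟩] at hn11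
      norm_num at hn11
  · push Not at hinv
    let Y := (P : Sylow 11 N) × {g : N // g ∈ normalizer ((P : Subgroup N) : Set N) ∧
      g ∉ centralizer ((P : Subgroup N) : Set N)}
    have hYc : ∀ P : Sylow 11 N, Nat.card {g : N // g ∈ normalizer ((P : Subgroup N) : Set N) ∧
        g ∉ centralizer ((P : Subgroup N) : Set N)} = 44 := by
      intro P
      have hd := Set.ncard_sdiff (s := (centralizer ((P : Subgroup N) : Set N) : Set N))
        (t := (normalizer ((P : Subgroup N) : Set N) : Set N)) (centralizer_le_normalizer _)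
      rw [show ((normalizer ((P : Subgroup N) : Set N) : Set N)).ncard = 88 from hnorm P,
        show ((centralizer ((P : Subgroup N) : Set N) : Set N)).ncard = 44 from hcent P] at hd
      exact hd
    have heven : ∀ (P : Sylow 11 N) (g : N), g ∈ normalizer ((P : Subgroup N) : Set N) →
        g ∉ centralizer ((P : Subgroup N) : Set N) → 2 ∣ orderOf g := by
      intro P g hgN hgC
      by_contra hodd
      apply hgC
      set CP := centralizer ((P : Subgroup N) : Set N)
      set NP := normalizer ((P : Subgroup N) : Set N)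
      have hi : (CP.subgroupOf NP).index = 2 := by
        have := (CP.subgroupOf NP).card_mul_index
        rw [Nat.card_congr (Subgroup.subgroupOfEquivOfLe (centralizer_le_normalizer _)).toEquiv, hcent,
          hnorm] at this
        omega
      have hsq := Subgroup.sq_mem_of_index_two hi ⟨g, hgN⟩
      have : g ^ 2 ∈ CP := hsq
      obtain ⟨j, hj⟩ : Odd (orderOf g) := Nat.not_even_iff_odd.1 fun h => hodd h.two_dvd
      have : g = (g ^ 2) ^ (j + 1) := by
        rw [← pow_mul, show 2 * (j + 1) = orderOf g + 1 by omega, pow_succ, pow_orderOf_eq_one, one_mul]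
      rw [this]
      exact pow_mem hsq _
    have hsum : Nat.card {y : N // orderOf y = 5} + (Nat.card {y : N // orderOf y = 11} + Nat.card Y) ≤
        Nat.card N := by
      rw [← Nat.card_sum, ← Nat.card_sum]
      refine Nat.card_le_card_of_injective (Sum.elim Subtype.val (Sum.elim Subtype.val fun y => y.2.1)) ?_
      rintro (⟨a, ha⟩ | ⟨a, ha⟩ | ⟨P, a, haN, haC⟩) (⟨b, hb⟩ | ⟨b, hb⟩ | ⟨R, b, hbN, hbC⟩) h <;>
        change a = b at h <;> subst h
      · rfl
      · omega
      · have := heven R a hbN hbC; omega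
      · omega
      · rfl
      · have := heven R a hbN hbC; omega
      · have := heven P a haN haC; omega
      · have := heven P a haN haC; omega
      · suffices P = R by subst this; rfl
        have he := heven P a haN haC
        set u := a ^ (orderOf a / 2)
        have hu : orderOf u = 2 := orderOf_pow_orderOf_div (orderOf_pos a).ne' he
        have huP : u ∈ centralizer ((P : Subgroup N) : Set N) := by
          by_contra h; exact hinv P u (pow_mem haN _) h hu
        have huR : u ∈ centralizer ((R : Subgroup N) : Set N) := by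
          by_contra h; exact hinv R u (pow_mem hbN _) h hu
        exact (heq P R ((hQC R huR).trans (hCN P hu huP))).symm
    haveI := Fintype.ofFinite (Sylow 11 N)
    rw [Nat.card_sigma, Finset.sum_congr rfl (fun P _ => hYc P), Finset.sum_const, Finset.card_univ,
      ← Nat.card_eq_fintype_card, hn11, SimpleSearch.card_orderOf hP5, SimpleSearch.card_orderOf hP11,
      hn5, hn11, hcard] at hsum
    norm_num at hsum

end Cfsg.Agent.Order3960Simple
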