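import Mathlib
import Cfsg.Agent.Lib.SimpleOrder

/-!
A group of order `12 * 3 ^ k` with four Sylow `3`-subgroups maps onto the alternating group of
degree `4`; and a commuting pair of involutions cannot act faithfully on a group of order `9` when
an automorphism permutes the three involutions cyclically.
-/

set_option autoImplicit false
set_option linter.style.haveILetI false

namespace Cfsg.Agent.Order5616

open Cfsg.Agent.SimpleOrder

/-- A double transposition. -/
def kp : Equiv.Perm (Fin 4) := Equiv.swap 0 1 * Equiv.swap 2 3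

/-- Another double transposition. -/
def kq : Equiv.Perm (Fin 4) := Equiv.swap 0 2 * Equiv.swap 1 3

/-- An element of order `3`. -/
def kr : Equiv.Perm (Fin 4) := Equiv.swap 1 3 * Equiv.swap 1 2

theorem kr_rel : kp * kp = 1 ∧ kq * kq = 1 ∧ kp * kq = kq * kp ∧ kr * kp * kr⁻¹ = kq ∧
    kr * kq * kr⁻¹ = kp * kq := by decide +kernel

theorem mem_alternating : kp ∈ alternatingGroup (Fin 4) ∧ kq ∈ alternatingGroup (Fin 4) ∧
    kr ∈ alternatingGroup (Fin 4) := by
  simp only [Equiv.Perm.mem_alternatingGroup]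
  decide +kernel

theorem kleinSet_closed : ∀ x ∈ [1, kp, kq, kp * kq], x⁻¹ ∈ [1, kp, kq, kp * kq] ∧
    ∀ y ∈ [1, kp, kq, kp * kq], x * y ∈ [1, kp, kq, kp * kq] := by decide +kernel

theorem kleinSet_normal : ∀ g : Equiv.Perm (Fin 4), ∀ x ∈ [1, kp, kq, kp * kq],
    g * x * g⁻¹ ∈ [1, kp, kq, kp * kq] := by decide +kernel

/-- The normal four-group of the symmetric group of degree `4`. -/
def kleinV : Subgroup (Equiv.Perm (Fin 4)) where
  carrier := {x | x ∈ [1, kp, kq, kp * kq]}
  mul_mem' hx hy := (kleinSet_closed _ hx).2 _ hy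
  one_mem' := List.mem_cons_self
  inv_mem' hx := (kleinSet_closed _ hx).1

instance kleinV_normal : kleinV.Normal := ⟨fun x hx g => kleinSet_normal g x hx⟩

theorem mem_kleinV {x : Equiv.Perm (Fin 4)} : x ∈ kleinV ↔ x = 1 ∨ x = kp ∨ x = kq ∨ x = kp * kq := by
  show x ∈ [1, kp, kq, kp * kq] ↔ _
  simp only [List.mem_cons, List.not_mem_nil, or_false]

theorem card_kleinV : Nat.card kleinV = 4 := by
  have h : (kleinV : Set (Equiv.Perm (Fin 4))) = (([1, kp, kq, kp * kq] : List _).toFinset : Set _) := by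
    ext x
    simp only [List.coe_toFinset, Set.mem_setOf_eq, SetLike.mem_coe]
    rfl
  rw [← SetLike.coe_sort_coe, Nat.card_coe_set_eq, h, Set.ncard_coe_finset]
  decide +kernel

theorem kleinV_le : kleinV ≤ alternatingGroup (Fin 4) := by
  intro x hx
  rcases mem_kleinV.1 hx with rfl | rfl | rfl | rfl
  exacts [one_mem _, mem_alternating.1, mem_alternating.2.1, mul_mem mem_alternating.1 mem_alternating.2.1]

variable {T : Type*} [Group T] [Finite T]

/-- A group with four self-normalising Sylow `3`-subgroups over a normal `3`-subgroup of index `12`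
is an extension of it by the alternating group of degree `4`. -/
theorem exists_klein (h4 : Nat.card (Sylow 3 T) = 4) {E : Subgroup T} [E.Normal] (hE : IsPGroup 3 E)
    (hT : Nat.card T = 12 * Nat.card E) :
    ∃ φ : T →* Equiv.Perm (Fin 4), φ.ker = E ∧ φ.range = alternatingGroup (Fin 4) := by
  haveI : Fact (Nat.Prime 3) := ⟨Nat.prime_three⟩
  obtain ⟨k, hk⟩ := hE.exists_card_eq
  have hT' : Nat.card T = 3 ^ (k + 1) * 4 := by rw [hT, hk, pow_succ]; ring
  have hR : ∀ R : Sylow 3 T, Nat.card ↥(R : Subgroup T) = 3 ^ (k + 1) := fun R =>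
    sylow_card_of_eq hT' (by norm_num) R
  have hN : ∀ R : Sylow 3 T, Subgroup.normalizer ((R : Subgroup T) : Set T) = (R : Subgroup T) := by
    intro R
    refine (Subgroup.eq_of_le_of_card_ge Subgroup.le_normalizer ?_).symm
    have h := (Subgroup.normalizer ((R : Subgroup T) : Set T)).card_mul_index
    rw [show (Subgroup.normalizer ((R : Subgroup T) : Set T)).index = Nat.card (Sylow 3 T) from
      R.card_eq_index_normalizer.symm, h4, hT'] at h
    rw [hR]
    omega
  have hER : ∀ R : Sylow 3 T, E ≤ (R : Subgroup T) := by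
    intro R
    obtain ⟨Q, hQ⟩ := hE.exists_le_sylow
    obtain ⟨g, hg⟩ := MulAction.exists_smul_eq T Q R
    intro x hx
    rw [← hg]
    refine ⟨g⁻¹ * x * g, hQ ?_, ?_⟩
    · simpa using (inferInstance : E.Normal).conj_mem x hx g⁻¹
    · simp [mul_assoc]
  let e : Sylow 3 T ≃ Fin 4 := (Finite.equivFinOfCardEq h4)
  let φ : T →* Equiv.Perm (Fin 4) := (e.permCongrHom : _ ≃* _).toMonoidHom.comp (MulAction.toPermHom T (Sylow 3 T))
  have hker0 : φ.ker = (MulAction.toPermHom T (Sylow 3 T)).ker := by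
    ext g
    simp [φ]
  have hEker : E ≤ φ.ker := by
    intro x hx
    rw [hker0, MonoidHom.mem_ker]
    refine Equiv.ext fun R => ?_
    exact Sylow.smul_eq_iff_mem_normalizer.2 (Subgroup.le_normalizer (hER R hx))
  have hkerR : ∀ R : Sylow 3 T, φ.ker ≤ (R : Subgroup T) := fun R g hg => by
    rw [hker0, MonoidHom.mem_ker] at hg
    rw [← hN R]
    exact Sylow.smul_eq_iff_mem_normalizer.1 (by simpa using Equiv.ext_iff.1 hg R)
  obtain ⟨R⟩ : Nonempty (Sylow 3 T) := inferInstance
  have hker : φ.ker = E := by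
    refine (Subgroup.eq_of_le_of_card_ge hEker ?_).symm
    obtain ⟨i, hi, hii⟩ := (Nat.dvd_prime_pow Nat.prime_three).1 (hR R ▸ Subgroup.card_dvd_of_le (hkerR R))
    rw [hk, hii]
    refine Nat.pow_le_pow_right (by norm_num) ?_
    by_contra hlt
    have he : φ.ker = (R : Subgroup T) := Subgroup.eq_of_le_of_card_ge (hkerR R)
      (by rw [hR, hii, show i = k + 1 by omega])
    haveI : (R : Subgroup T).Normal := he ▸ inferInstance
    have := (hN R).symm.trans (Subgroup.normalizer_eq_top_iff.2 inferInstance)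
    have hc := hR R
    rw [this, Subgroup.card_top, hT'] at hc
    have hpos : 0 < 3 ^ (k + 1) := pow_pos (by norm_num) _
    omega
  have hrange : φ.range = alternatingGroup (Fin 4) := by
    refine Equiv.Perm.eq_alternatingGroup_of_index_eq_two ?_
    have h1 := φ.range.card_mul_index
    have h2 := φ.ker.card_mul_index
    rw [Subgroup.index_ker, hker, hT] at h2
    rw [Nat.card_perm, Nat.card_fin] at h1
    have h0 : 0 < Nat.card E := Nat.card_pos
    have h3 : Nat.card φ.range = 12 := Nat.eq_of_mul_eq_mul_left h0 (by rw [h2]; ring)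
    rw [h3] at h1
    norm_num [Nat.factorial] at h1
    omega
  exact ⟨φ, hker, hrange⟩

variable {D : Type*} [CommGroup D] [Finite D]

/-- Two commuting involutory automorphisms of a group of order `9`, permuted cyclically with their
product by a third, are trivial. -/
theorem no_klein_cycle (h9 : Nat.card D = 9) (a b x : MulAut D) (ha2 : a * a = 1) (hb2 : b * b = 1)
    (hab : a * b = b * a) (hb : x * a * x⁻¹ = b) (hc : x * b * x⁻¹ = a * b) : a = 1 := by
  by_contra ha1
  have app : ∀ (f g : MulAut D) (y : D), (f * g) y = f (g y) := fun f g y => rfl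
  have hodd : ∀ y : D, y * y = 1 → y = 1 := fun y hy => by
    have h1 : orderOf y ∣ 2 := orderOf_dvd_of_pow_eq_one (by rw [pow_two, hy])
    have h2 : orderOf y ∣ 9 := h9 ▸ orderOf_dvd_natCard y
    have h3 := Nat.dvd_gcd h1 h2
    norm_num at h3
    exact h3
  have hb1 : b ≠ 1 := fun e => ha1 (conj_eq_one_iff.1 (hb.trans e))
  have hab1 : a * b ≠ 1 := fun e => hb1 (conj_eq_one_iff.1 (hc.trans e))
  have conjInv : ∀ f : MulAut D, (∀ y, f y = y⁻¹) → ∀ g : MulAut D, ∀ y, (g * f * g⁻¹) y = y⁻¹ := by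
    intro f hf g y
    rw [app, app, hf, map_inv, ← app, mul_inv_cancel]
    rfl
  have conjInv' : ∀ f f' g : MulAut D, g * f * g⁻¹ = f' → (∀ y, f' y = y⁻¹) → ∀ y, f y = y⁻¹ := by
    intro f f' g he hf' y
    have e : g⁻¹ * f' * g⁻¹⁻¹ = f := by rw [← he]; group
    exact e ▸ conjInv f' hf' g⁻¹ y
  -- none of the three involutions inverts everything
  have hainv : ¬ ∀ y, a y = y⁻¹ := by
    intro h
    have h' : ∀ y, b y = y⁻¹ := hb ▸ conjInv a h x
    refine hab1 (MulEquiv.ext fun y => ?_)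
    rw [app, h', h, inv_inv]
    rfl
  have hbinv : ¬ ∀ y, b y = y⁻¹ := fun h => hainv (conjInv' a b x hb h)
  have hcinv : ¬ ∀ y, (a * b) y = y⁻¹ := fun h => hbinv (conjInv' b (a * b) x hc h)
  have haa : ∀ y, a (a y) = y := fun y => by rw [← app, ha2]; rfl
  have hbb : ∀ y, b (b y) = y := fun y => by rw [← app, hb2]; rfl
  have hcomm : ∀ y, a (b y) = b (a y) := fun y => by rw [← app, hab]; rfl
  push Not at hainv
  obtain ⟨y₀, hy₀⟩ := hainv
  obtain ⟨y₁, hy₁⟩ : ∃ y, a y ≠ y := by
    by_contra h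
    push Not at h
    exact ha1 (MulEquiv.ext h)
  obtain ⟨d, hd, hd1⟩ : ∃ d, a d = d ∧ d ≠ 1 := ⟨y₀ * a y₀, by rw [map_mul, haa, mul_comm],
    fun e => hy₀ (eq_inv_of_mul_eq_one_right e)⟩
  obtain ⟨e, he, he1⟩ : ∃ e, a e = e⁻¹ ∧ e ≠ 1 := ⟨y₁⁻¹ * a y₁,
    by rw [map_mul, map_inv, haa, mul_inv_rev, inv_inv, mul_comm],
    fun e => hy₁ (inv_mul_eq_one.1 e).symm⟩
  have hdord : orderOf d = 3 ∧ (∀ y, a y = y → y ∈ Subgroup.zpowers d) := by
    let L : Subgroup D := MonoidHom.eqLocus a.toMonoidHom (MonoidHom.id D)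
    have hdL : d ∈ L := hd
    have hL : Nat.card L ∣ 9 := h9 ▸ L.card_subgroup_dvd_card
    have hne : L ≠ ⊤ := fun h => by
      refine he1 (hodd e ?_)
      have : a e = e := (h ▸ Subgroup.mem_top e : e ∈ L)
      rw [he] at this
      nth_rw 1 [← this]
      exact inv_mul_cancel e
    have h3 : orderOf d ∣ Nat.card L := Subgroup.orderOf_dvd_natCard L hdL
    have hne1 : orderOf d ≠ 1 := fun h => hd1 (orderOf_eq_one_iff.1 h)
    have hlt : Nat.card L ≠ 9 := fun h => hne (Subgroup.eq_top_of_card_eq _ (h.trans h9.symm))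
    have key : ∀ l ∈ List.range 10, ∀ o ∈ List.range 10, 9 % l = 0 → l % o = 0 → o ≠ 1 → l ≠ 9 →
        o = 3 ∧ l = 3 := by decide +kernel
    have hl := Nat.le_of_dvd (by norm_num) hL
    have ho := Nat.le_of_dvd Nat.card_pos h3
    obtain ⟨k1, k2⟩ := key _ (List.mem_range.2 (Nat.lt_succ_of_le hl)) _
      (List.mem_range.2 (by omega)) (Nat.mod_eq_zero_of_dvd hL) (Nat.mod_eq_zero_of_dvd h3) hne1 hlt
    refine ⟨k1, fun y hy => ?_⟩
    rw [Subgroup.eq_of_le_of_card_ge (Subgroup.zpowers_le.2 hdL) (by rw [Nat.card_zpowers, k1, k2])]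
    exact hy
  have heord : orderOf e = 3 ∧ (∀ y, a y = y⁻¹ → y ∈ Subgroup.zpowers e) := by
    let L : Subgroup D := MonoidHom.eqLocus a.toMonoidHom (invMonoidHom : D →* D)
    have hdL : e ∈ L := he
    have hL : Nat.card L ∣ 9 := h9 ▸ L.card_subgroup_dvd_card
    have hne : L ≠ ⊤ := fun h => hy₀ (h ▸ Subgroup.mem_top y₀ : y₀ ∈ L)
    have h3 : orderOf e ∣ Nat.card L := Subgroup.orderOf_dvd_natCard L hdL
    have hne1 : orderOf e ≠ 1 := fun h => he1 (orderOf_eq_one_iff.1 h)
    have hlt : Nat.card L ≠ 9 := fun h => hne (Subgroup.eq_top_of_card_eq _ (h.trans h9.symm))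
    have key : ∀ l ∈ List.range 10, ∀ o ∈ List.range 10, 9 % l = 0 → l % o = 0 → o ≠ 1 → l ≠ 9 →
        o = 3 ∧ l = 3 := by decide +kernel
    have hl := Nat.le_of_dvd (by norm_num) hL
    have ho := Nat.le_of_dvd Nat.card_pos h3
    obtain ⟨k1, k2⟩ := key _ (List.mem_range.2 (Nat.lt_succ_of_le hl)) _
      (List.mem_range.2 (by omega)) (Nat.mod_eq_zero_of_dvd hL) (Nat.mod_eq_zero_of_dvd h3) hne1 hlt
    refine ⟨k1, fun y hy => ?_⟩
    rw [Subgroup.eq_of_le_of_card_ge (Subgroup.zpowers_le.2 hdL) (by rw [Nat.card_zpowers, k1, k2])]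
    exact hy
  -- `b` is determined by its values at `d` and `e`
  have pick : ∀ {y z : D}, orderOf y = 3 → z ∈ Subgroup.zpowers y → z ≠ 1 → z = y ∨ z = y⁻¹ := by
    intro y z hy hz hz1
    classical
    rw [mem_zpowers_iff_mem_range_orderOf, hy] at hz
    obtain ⟨k, hk, rfl⟩ := Finset.mem_image.1 hz
    rw [Finset.mem_range] at hk
    have h3 : y ^ 3 = 1 := hy ▸ pow_orderOf_eq_one y
    interval_cases k
    · exact absurd (pow_zero y) hz1
    · exact Or.inl (pow_one y)
    · exact Or.inr (eq_inv_of_mul_eq_one_left (by rw [← pow_succ]; exact h3))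
  have hbd : b d = d ∨ b d = d⁻¹ := pick hdord.1 (hdord.2 _ (by rw [hcomm, hd]))
    (fun h => hd1 (by rw [← hbb d, h, map_one]))
  have hbe : b e = e ∨ b e = e⁻¹ := pick heord.1 (heord.2 _ (by rw [hcomm, he, map_inv]))
    (fun h => he1 (by rw [← hbb e, h, map_one]))
  have hgen : ∀ f g : D →* D, f d = g d → f e = g e → ∀ y, f y = g y := by
    intro f g h1 h2 y
    let L : Subgroup D := MonoidHom.eqLocus f g
    have hle : Subgroup.zpowers d ≤ L := Subgroup.zpowers_le.2 h1
    have h3 : 3 ∣ Nat.card L := hdord.1 ▸ Subgroup.orderOf_dvd_natCard L h1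
    have hne : Nat.card L ≠ 3 := fun h => by
      have he' : e ∈ Subgroup.zpowers d := by
        rw [Subgroup.eq_of_le_of_card_ge hle (by rw [Nat.card_zpowers, hdord.1, h])]
        exact h2
      rcases pick hdord.1 he' he1 with r | r
      · refine he1 (hodd e ?_)
        have : e⁻¹ = e := by rw [← he, r, hd]
        nth_rw 1 [← this]
        exact inv_mul_cancel e
      · refine he1 (hodd e ?_)
        have : e⁻¹ = e := by rw [← he, r, map_inv, hd]
        nth_rw 1 [← this]
        exact inv_mul_cancel e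
    have hL : Nat.card L ∣ 9 := h9 ▸ L.card_subgroup_dvd_card
    have key : ∀ l ∈ List.range 10, 9 % l = 0 → l % 3 = 0 → l ≠ 3 → l = 9 := by decide +kernel
    have hl := key _ (List.mem_range.2 (Nat.lt_succ_of_le (Nat.le_of_dvd (by norm_num) hL)))
      (Nat.mod_eq_zero_of_dvd hL) (Nat.mod_eq_zero_of_dvd h3) hne
    exact (Subgroup.eq_top_of_card_eq L (hl.trans h9.symm) ▸ Subgroup.mem_top y : y ∈ L)
  rcases hbd with h1 | h1 <;> rcases hbe with h2 | h2
  · exact hb1 (MulEquiv.ext (hgen b.toMonoidHom (MonoidHom.id D) h1 h2))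
  · refine hab1 (MulEquiv.ext fun y => ?_)
    rw [app]
    exact hgen (a.toMonoidHom.comp b.toMonoidHom) (MonoidHom.id D) (show a (b d) = d by rw [h1, hd])
      (show a (b e) = e by rw [h2, map_inv, he, inv_inv]) y
  · exact hcinv fun y => by
      rw [app]
      exact hgen (a.toMonoidHom.comp b.toMonoidHom) invMonoidHom (show a (b d) = d⁻¹ by rw [h1, map_inv, hd])
        (show a (b e) = e⁻¹ by rw [h2, he]) y
  · exact hbinv (hgen b.toMonoidHom invMonoidHom h1 h2)

end Cfsg.Agent.Order5616
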