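import Mathlib
import Cfsg.Agent.Lib.Order5616Klein81
import Cfsg.Agent.Lib.Order5616Degrees81
import Cfsg.Agent.Lib.TransferPow
import Cfsg.Agent.Lib.SimpleRangeCentralize30

/-!
A simple group of order `5616` has a subgroup of index `13` or `26`: two Sylow `3`-subgroups meet
in a subgroup of order `9`, and its normalizer, or the normalizer of a four-group, is large.
-/

set_option autoImplicit false
set_option linter.style.haveILetI false

namespace Cfsg.Agent.Order5616

open Cfsg.Agent.SimpleOrder Cfsg.Agent.SimpleRange30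

variable {G : Type*} [Group G] [Finite G] [IsSimpleGroup G]

theorem fact_three : Fact (Nat.Prime 3) := ⟨Nat.prime_three⟩

/-- Proper subgroups have order at most `432`. -/
theorem card_le (hG : ¬ IsMulCommutative G) (hn : Nat.card G = 5616) {H : Subgroup G} (hH : H ≠ ⊤) :
    13 ≤ H.index ∧ Nat.card H ≤ 432 := by
  have hi : 13 ≤ H.index := by
    have h := (Dvd.intro (2 * 432) (by rw [hn]; norm_num) : 13 ∣ 2 * Nat.card G).trans
      (two_mul_card_dvd_factorial_index hG H hH)
    exact ((by norm_num : Nat.Prime 13).dvd_factorial).1 h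
  refine ⟨hi, ?_⟩
  have h1 := H.card_mul_index
  rw [hn] at h1
  by_contra hlt
  have := Nat.mul_le_mul (Nat.succ_le_of_lt (not_le.1 hlt)) hi
  omega

theorem sylow_three_card (hn : Nat.card G = 5616) (P : Sylow 3 G) :
    Nat.card ↥(P : Subgroup G) = 27 := by
  haveI := fact_three
  rw [sylow_card_of_eq (p := 3) (k := 3) (m := 208) (by rw [hn]; norm_num) (by norm_num) P]
  norm_num

theorem normalizer_ne_top_of_card (hn : Nat.card G = 5616) {X : Subgroup G} (h1 : Nat.card X ≠ 1)
    (h2 : Nat.card X ≠ 5616) : Subgroup.normalizer (X : Set G) ≠ ⊤ := by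
  intro h
  rcases eq_bot_or_top (Subgroup.normalizer_eq_top_iff.1 h) with e | e
  · rw [e, Subgroup.card_bot] at h1; exact h1 rfl
  · rw [e, Subgroup.card_top, hn] at h2; exact h2 rfl

/-- Two Sylow subgroups of a subgroup containing a Sylow subgroup give two Sylow subgroups. -/
theorem relIndex_lift {H : Subgroup G} (hn : Nat.card G = 5616) (h27 : 27 ∣ Nat.card H)
    (h9 : Nat.card (Sylow 3 H) % 9 ≠ 1) :
    ∃ P Q : Sylow 3 G, P ≠ Q ∧ (Q : Subgroup G).relIndex (P : Subgroup G) = 3 := by
  haveI := fact_three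
  obtain ⟨P, Q, hPQ, hrel⟩ := exists_inter_relIndex_eq (G := H) (p := 3) (by norm_num; exact h9)
  obtain ⟨m, hm⟩ := h27
  have hm3 : ¬ 3 ∣ m := by
    rintro ⟨i, rfl⟩
    have h := Subgroup.card_subgroup_dvd_card H
    rw [hm, hn] at h
    have : 81 ∣ 5616 := (Dvd.intro i (by ring)).trans h
    norm_num at this
  have hc : ∀ R : Sylow 3 H, Nat.card ↥((R : Subgroup H).map H.subtype) = 3 ^ (Nat.card G).factorization 3 := by
    intro R
    rw [Subgroup.card_map_of_injective H.subtype_injective,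
      sylow_card_of_eq (p := 3) (k := 3) (m := m) (by rw [hm]; norm_num) hm3 R, hn,
      show (5616 : ℕ) = 3 ^ 3 * 208 by norm_num, Nat.factorization_mul (by norm_num) (by norm_num),
      Nat.Prime.factorization_pow Nat.prime_three, Finsupp.add_apply, Finsupp.single_eq_same,
      Nat.factorization_eq_zero_of_not_dvd (by norm_num), add_zero]
  refine ⟨Sylow.ofCard _ (hc P), Sylow.ofCard _ (hc Q), fun h => hPQ ?_, ?_⟩
  · have h' : (P : Subgroup H).map H.subtype = (Q : Subgroup H).map H.subtype :=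
      congrArg Sylow.toSubgroup h
    exact Sylow.ext (Subgroup.map_injective H.subtype_injective h')
  · show ((Q : Subgroup H).map H.subtype).relIndex ((P : Subgroup H).map H.subtype) = 3
    rw [Subgroup.relIndex_map_map_of_injective _ _ H.subtype_injective, hrel]

/-- Two Sylow `3`-subgroups meet in a subgroup of order `9`. -/
theorem exists_relIndex_three (hG : ¬ IsMulCommutative G) (hn : Nat.card G = 5616) :
    ∃ P Q : Sylow 3 G, P ≠ Q ∧ (Q : Subgroup G).relIndex (P : Subgroup G) = 3 := by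
  haveI := fact_three
  have hn' : Nat.card G = 3 ^ 3 * 208 := by rw [hn]; norm_num
  by_cases h9 : Nat.card (Sylow 3 G) % 9 ≠ 1
  · exact exists_inter_relIndex_eq (by norm_num; exact h9)
  push Not at h9
  obtain ⟨P⟩ : Nonempty (Sylow 3 G) := inferInstance
  have hidx : 13 ≤ Nat.card (Sylow 3 G) :=
    (card_le hG hn (normalizer_ne_top hG (by rw [hn]; norm_num) P)).1.trans
      P.card_eq_index_normalizer.symm.le
  have h208 : Nat.card (Sylow 3 G) = 208 := by
    have h1 := card_sylow_dvd (p := 3) hn' (by norm_num)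
    have key : ∀ d ∈ List.range 209, 208 % d = 0 → d % 9 = 1 → 13 ≤ d → d = 208 := by decide +kernel
    exact key _ (List.mem_range.2 (Nat.lt_succ_of_le (Nat.le_of_dvd (by norm_num) h1)))
      (Nat.mod_eq_zero_of_dvd h1) h9 hidx
  have hNS : ∀ S : Sylow 3 G, Subgroup.normalizer ((S : Subgroup G) : Set G) = (S : Subgroup G) := by
    intro S
    refine (Subgroup.eq_of_le_of_card_ge Subgroup.le_normalizer ?_).symm
    have h := (Subgroup.normalizer ((S : Subgroup G) : Set G)).card_mul_index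
    rw [show (Subgroup.normalizer ((S : Subgroup G) : Set G)).index = Nat.card (Sylow 3 G) from
      S.card_eq_index_normalizer.symm, h208, hn] at h
    rw [sylow_three_card hn]
    omega
  by_contra hcon
  push Not at hcon
  -- intersections of distinct Sylow subgroups are small
  have hsmall : ∀ (A B : Sylow 3 G) (X : Subgroup G), A ≠ B → X ≤ (A : Subgroup G) → X ≤ (B : Subgroup G) →
      Nat.card X ≠ 9 := by
    intro A B X hAB hXA hXB hX
    refine hcon A B hAB ?_
    have h1 := Subgroup.card_mul_index ((B : Subgroup G).subgroupOf (A : Subgroup G))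
    rw [sylow_three_card hn, ← Subgroup.inf_subgroupOf_left,
      Nat.card_congr (Subgroup.subgroupOfEquivOfLe (inf_le_left : (A : Subgroup G) ⊓ B ≤ _)).toEquiv] at h1
    rw [Subgroup.relIndex, ← Subgroup.inf_subgroupOf_left]
    set j := Nat.card ↥((A : Subgroup G) ⊓ (B : Subgroup G)) with hj
    have h2 : 9 ∣ j := hX ▸ Subgroup.card_dvd_of_le (le_inf hXA hXB)
    have h3 : j ≠ 27 := fun h => hAB (Sylow.ext (Subgroup.eq_of_le_of_card_ge
      (inf_eq_left.1 (Subgroup.eq_of_le_of_card_ge inf_le_left (by rw [sylow_three_card hn, ← hj, h])))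
      (by rw [sylow_three_card hn, sylow_three_card hn])))
    have h4 : j ∣ 27 := Dvd.intro _ h1
    have key : ∀ j ∈ List.range 28, j % 9 = 0 → 27 % j = 0 → j ≠ 27 → j = 9 := by decide +kernel
    rw [key j (List.mem_range.2 (Nat.lt_succ_of_le (Nat.le_of_dvd (by norm_num) h4)))
      (Nat.mod_eq_zero_of_dvd h2) (Nat.mod_eq_zero_of_dvd h4) h3] at h1
    omega
  have h27P : Nat.card ↥(P : Subgroup G) = 27 := sylow_three_card hn P
  have hPna : ¬ (P : Subgroup G) ≤ Subgroup.centralizer ((P : Subgroup G) : Set G) := fun h =>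
    not_normalizer_le_centralizer hG (by rw [hn]; norm_num) P ((hNS P).le.trans h)
  -- the centre of `P`
  set ZP : Subgroup ↥(P : Subgroup G) := Subgroup.center ↥(P : Subgroup G) with hZP
  set Z : Subgroup G := ZP.map (P : Subgroup G).subtype with hZ
  have hZ3 : Nat.card ZP = 3 := by
    haveI : Nontrivial ↥(P : Subgroup G) := Finite.one_lt_card_iff_nontrivial.1 (by rw [h27P]; norm_num)
    haveI : Nontrivial ZP := P.2.center_nontrivial
    have hdvd : Nat.card ZP ∣ 27 := h27P ▸ Subgroup.card_subgroup_dvd_card ZP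
    have hgt : 1 < Nat.card ZP := Finite.one_lt_card
    have h27 : Nat.card ZP ≠ 27 := fun h => hPna fun a ha => Subgroup.mem_centralizer_iff.2 fun b hb => by
      have hmem : (⟨a, ha⟩ : ↥(P : Subgroup G)) ∈ ZP :=
        Subgroup.eq_top_of_card_eq ZP (h.trans h27P.symm) ▸ Subgroup.mem_top _
      exact congrArg Subtype.val (Subgroup.mem_center_iff.1 hmem ⟨b, hb⟩)
    have h9' : Nat.card ZP ≠ 9 := fun h => hPna fun a ha => Subgroup.mem_centralizer_iff.2 fun b hb => by
      haveI : IsCyclic (↥(P : Subgroup G) ⧸ ZP) := isCyclic_of_prime_card (p := 3) (by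
        rw [← Subgroup.index_eq_card]
        have h1 := ZP.card_mul_index
        rw [h, h27P] at h1
        omega)
      exact congrArg Subtype.val (commutative_of_cyclic_center_quotient (QuotientGroup.mk' ZP)
        (by rw [QuotientGroup.ker_mk']) ⟨b, hb⟩ ⟨a, ha⟩)
    have key : ∀ z ∈ List.range 28, 27 % z = 0 → 1 < z → z ≠ 27 → z ≠ 9 → z = 3 := by decide +kernel
    exact key _ (List.mem_range.2 (Nat.lt_succ_of_le (Nat.le_of_dvd (by norm_num) hdvd)))
      (Nat.mod_eq_zero_of_dvd hdvd) hgt h27 h9'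
  have hZc : Nat.card Z = 3 := by
    rw [hZ, Subgroup.card_map_of_injective (P : Subgroup G).subtype_injective, hZ3]
  have hZP' : Z ≤ (P : Subgroup G) := Subgroup.map_subtype_le _
  have hmemZ : ∀ x (hx : x ∈ (P : Subgroup G)), x ∈ Z ↔ (⟨x, hx⟩ : ↥(P : Subgroup G)) ∈ ZP := fun x hx =>
    ⟨fun h => by
      obtain ⟨w, hw, e⟩ := h
      rwa [show (⟨x, hx⟩ : ↥(P : Subgroup G)) = w from Subtype.ext e.symm],
    fun h => ⟨_, h, rfl⟩⟩
  have hPZ : (P : Subgroup G) ≤ Subgroup.centralizer (Z : Set G) := fun a ha =>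
    Subgroup.mem_centralizer_iff.2 fun z hz =>
      (congrArg Subtype.val (Subgroup.mem_center_iff.1 ((hmemZ z (hZP' hz)).1 hz) ⟨a, ha⟩)).symm
  -- a noncentral element of `P` has a centralizer of small `3`-part
  have hC9 : ∀ y ∈ (P : Subgroup G), y ∉ Z →
      Nat.card ↥((P : Subgroup G) ⊓ Subgroup.centralizer ({y} : Set G)) = 9 ∧
        ¬ 27 ∣ Nat.card ↥(Subgroup.centralizer ({y} : Set G)) := by
    intro y hy hyZ
    set D := (P : Subgroup G) ⊓ Subgroup.centralizer ({y} : Set G) with hD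
    have hZD : Z ≤ D := le_inf hZP' fun z hz => Subgroup.mem_centralizer_singleton_iff.2
      (Subgroup.mem_centralizer_iff.1 (hPZ hy) z hz)
    have hyD : y ∈ D := ⟨hy, Subgroup.mem_centralizer_singleton_iff.2 rfl⟩
    have h1 : Nat.card D ∣ 27 := h27P ▸ Subgroup.card_dvd_of_le inf_le_left
    have h2 : 3 ∣ Nat.card D := hZc ▸ Subgroup.card_dvd_of_le hZD
    have h3 : Nat.card D ≠ 3 := fun h => hyZ (Subgroup.eq_of_le_of_card_ge hZD (by rw [h, hZc]) ▸ hyD)
    have h4 : Nat.card D ≠ 27 := fun h => hyZ ((hmemZ y hy).2 (Subgroup.mem_center_iff.2 fun b => by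
      have e : D = (P : Subgroup G) :=
        Subgroup.eq_of_le_of_card_ge (inf_le_left : D ≤ (P : Subgroup G)) (by rw [h27P, h])
      have hb : (b : G) ∈ D := by rw [e]; exact b.2
      exact Subtype.ext (Subgroup.mem_centralizer_singleton_iff.1 hb.2)))
    have key : ∀ d ∈ List.range 28, 27 % d = 0 → d % 3 = 0 → d ≠ 3 → d ≠ 27 → d = 9 := by decide +kernel
    have hD9 : Nat.card D = 9 := key _ (List.mem_range.2 (Nat.lt_succ_of_le (Nat.le_of_dvd (by norm_num) h1)))
      (Nat.mod_eq_zero_of_dvd h1) (Nat.mod_eq_zero_of_dvd h2) h3 h4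
    refine ⟨hD9, fun h27 => ?_⟩
    set C := Subgroup.centralizer ({y} : Set G) with hC
    obtain ⟨Rc, hRc⟩ := (IsPGroup.of_card (p := 3) (n := 2) (G := ↥(D.subgroupOf C))
      (by rw [Nat.card_congr (Subgroup.subgroupOfEquivOfLe inf_le_right).toEquiv, hD9]; norm_num)).exists_le_sylow
    obtain ⟨m, hm⟩ := h27
    have hm3 : ¬ 3 ∣ m := by
      rintro ⟨i, rfl⟩
      have h := Subgroup.card_subgroup_dvd_card C
      rw [hm, hn] at h
      have : 81 ∣ 5616 := (Dvd.intro i (by ring)).trans h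
      norm_num at this
    have hcard : Nat.card ↥((Rc : Subgroup C).map C.subtype) = 3 ^ (Nat.card G).factorization 3 := by
      rw [Subgroup.card_map_of_injective C.subtype_injective,
        sylow_card_of_eq (p := 3) (k := 3) (m := m) (by rw [hm]; norm_num) hm3 Rc, hn',
        Nat.factorization_mul (by norm_num) (by norm_num),
        Nat.Prime.factorization_pow Nat.prime_three, Finsupp.add_apply, Finsupp.single_eq_same,
        Nat.factorization_eq_zero_of_not_dvd (by norm_num), add_zero]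
    set R : Sylow 3 G := Sylow.ofCard _ hcard with hR
    have hDR : D ≤ (R : Subgroup G) := fun d hd =>
      ⟨⟨d, (inf_le_right : D ≤ C) hd⟩, hRc (Subgroup.mem_subgroupOf.2 hd), rfl⟩
    have hRP : P ≠ R := fun e => hyZ ((hmemZ y hy).2 (Subgroup.mem_center_iff.2 fun b => by
      obtain ⟨w, -, hw⟩ : (b : G) ∈ (R : Subgroup G) := e ▸ b.2
      refine Subtype.ext ?_
      show (b : G) * y = y * b
      rw [← hw]
      exact Subgroup.mem_centralizer_singleton_iff.1 w.2))
    exact hsmall P R D hRP inf_le_left hDR hD9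
  have hC27 : ∀ z ∈ Z, 27 ∣ Nat.card ↥(Subgroup.centralizer ({z} : Set G)) := fun z hz =>
    h27P ▸ Subgroup.card_dvd_of_le (hPZ.trans (Subgroup.centralizer_le (by simpa using hz)))
  have hcardconj : ∀ (g z : G), Nat.card ↥(Subgroup.centralizer ({g⁻¹ * z * g} : Set G)) =
      Nat.card ↥(Subgroup.centralizer ({z} : Set G)) := by
    intro g z
    refine Nat.card_congr ((MulAut.conj g).toEquiv.subtypeEquiv fun a => ?_)
    simp only [Subgroup.mem_centralizer_singleton_iff, MulEquiv.toEquiv_eq_coe, MulEquiv.coe_toEquiv,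
      MulAut.conj_apply]
    constructor
    · intro h
      calc g * a * g⁻¹ * z = g * (a * (g⁻¹ * z * g)) * g⁻¹ := by group
        _ = g * (g⁻¹ * z * g * a) * g⁻¹ := by rw [h]
        _ = z * (g * a * g⁻¹) := by group
    · intro h
      calc a * (g⁻¹ * z * g) = g⁻¹ * (g * a * g⁻¹ * z) * g := by group
        _ = g⁻¹ * (z * (g * a * g⁻¹)) * g := by rw [h]
        _ = g⁻¹ * z * g * a := by group
  -- the normalizer of `Z`
  have hNZ : Subgroup.normalizer (Z : Set G) = (P : Subgroup G) := by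
    set H := Subgroup.normalizer (Z : Set G) with hH
    have hPH : (P : Subgroup G) ≤ H := hPZ.trans (Subgroup.centralizer_le_normalizer _)
    have hHtop : H ≠ ⊤ := normalizer_ne_top_of_card hn (by rw [hZc]; norm_num) (by rw [hZc]; norm_num)
    obtain ⟨k, hk⟩ := Subgroup.card_dvd_of_le hPH
    rw [h27P] at hk
    have hk208 : k ∣ 208 := Nat.dvd_of_mul_dvd_mul_left (by norm_num : 0 < 27)
      (by rw [← hk, show 27 * 208 = Nat.card G by rw [hn]]; exact Subgroup.card_subgroup_dvd_card H)
    have hnorm : Subgroup.normalizer ((P.subtype hPH : Subgroup H) : Set H) = (P.subtype hPH : Subgroup H) := by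
      have := (Subgroup.subgroupOf_normalizer_eq (H := (P : Subgroup G)) hPH).symm
      rw [hNS P] at this
      exact this
    have hkn : Nat.card (Sylow 3 H) = k := by
      have hc := (Subgroup.normalizer ((P.subtype hPH : Subgroup H) : Set H)).card_mul_index
      rw [show (Subgroup.normalizer ((P.subtype hPH : Subgroup H) : Set H)).index = Nat.card (Sylow 3 H) from
        (P.subtype hPH).card_eq_index_normalizer.symm, hnorm, hk,
        show Nat.card ↥((P.subtype hPH : Sylow 3 H) : Subgroup H) = 27 from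
          (Nat.card_congr (Subgroup.subgroupOfEquivOfLe hPH).toEquiv).trans h27P] at hc
      omega
    refine (Subgroup.eq_of_le_of_card_ge hPH ?_).symm
    rw [h27P, hk]
    have hk16 : k ≤ 16 := by have := (card_le hG hn hHtop).2; omega
    have hk3 : k % 3 = 1 := hkn ▸ card_sylow_modEq_one 3 H
    have hk9 : k % 9 = 1 := by
      by_contra h
      obtain ⟨A, B, hAB, h'⟩ := relIndex_lift (H := H) hn (Dvd.intro k hk.symm) (hkn ▸ h)
      exact hcon A B hAB h'
    have key : ∀ k ∈ List.range 17, 208 % k = 0 → k % 9 = 1 → k = 1 := by decide +kernel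
    rw [key k (List.mem_range.2 (by omega)) (Nat.mod_eq_zero_of_dvd hk208) hk9]
  -- fusion is trivial modulo `Z`
  haveI : IsMulCommutative (↥(P : Subgroup G) ⧸ ZP) :=
    IsPGroup.isMulCommutative_of_card_eq_prime_sq (p := 3) (by
      rw [← Subgroup.index_eq_card]
      have h1 := ZP.card_mul_index
      rw [hZ3, h27P] at h1
      omega)
  letI : CommGroup (↥(P : Subgroup G) ⧸ ZP) :=
    { (inferInstance : Group (↥(P : Subgroup G) ⧸ ZP)) with mul_comm := IsMulCommutative.is_comm.comm }
  let ϕ : ↥(P : Subgroup G) →* ↥(P : Subgroup G) ⧸ ZP := QuotientGroup.mk' ZP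
  have hϕZ : ∀ x : ↥(P : Subgroup G), ϕ x = 1 ↔ (x : G) ∈ Z := fun x => by
    rw [hmemZ (x : G) x.2]
    exact QuotientGroup.eq_one_iff x
  have hfus : ∀ (x : ↥(P : Subgroup G)) (g : G) (h : g⁻¹ * (x : G) * g ∈ (P : Subgroup G)),
      ϕ ⟨_, h⟩ = ϕ x := by
    intro x g h
    by_cases hx : (x : G) ∈ Z
    · rw [(hϕZ x).2 hx, hϕZ]
      by_contra hy
      exact (hC9 _ h hy).2 (by rw [hcardconj]; exact hC27 _ hx)
    have hy : g⁻¹ * (x : G) * g ∉ Z := fun hy => (hC9 _ x.2 hx).2 (by rw [← hcardconj g]; exact hC27 _ hy)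
    obtain ⟨hDy, hCy⟩ := hC9 _ h hy
    obtain ⟨hDx, -⟩ := hC9 _ x.2 hx
    set y := g⁻¹ * (x : G) * g with hyd
    set C := Subgroup.centralizer ({y} : Set G) with hC
    set Dx := (P : Subgroup G) ⊓ Subgroup.centralizer ({(x : G)} : Set G) with hDxd
    set Dy := (P : Subgroup G) ⊓ C with hDyd
    have hA : Dx.map (MulAut.conj g⁻¹).toMonoidHom ≤ C := by
      rintro _ ⟨d, hd, rfl⟩
      refine Subgroup.mem_centralizer_singleton_iff.2 ?_
      have hcomm := Subgroup.mem_centralizer_singleton_iff.1 hd.2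
      simp only [MulEquiv.coe_toMonoidHom, MulAut.conj_apply, inv_inv, hyd]
      calc g⁻¹ * d * g * (g⁻¹ * x * g) = g⁻¹ * (d * x) * g := by group
        _ = g⁻¹ * (x * d) * g := by rw [hcomm]
        _ = g⁻¹ * x * g * (g⁻¹ * d * g) := by group
    set A := Dx.map (MulAut.conj g⁻¹).toMonoidHom with hAd
    have hA9 : Nat.card A = 9 := by
      rw [hAd, Subgroup.card_map_of_injective (MulAut.conj g⁻¹).injective, hDx]
    obtain ⟨m, hm⟩ : 9 ∣ Nat.card C := hA9 ▸ Subgroup.card_dvd_of_le hA
    have hm3 : ¬ 3 ∣ m := fun ⟨i, hi⟩ => hCy ⟨i, by rw [hm, hi]; ring⟩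
    have hsyl : ∀ B : Subgroup G, B ≤ C → Nat.card B = 9 →
        ∃ S : Sylow 3 C, (S : Subgroup C) = B.subgroupOf C := by
      intro B hB hB9
      refine ⟨Sylow.ofCard (B.subgroupOf C) ?_, rfl⟩
      rw [Nat.card_congr (Subgroup.subgroupOfEquivOfLe hB).toEquiv, hB9, hm,
        show 9 * m = 3 ^ 2 * m by ring, Nat.factorization_mul (by norm_num) (by rintro rfl; exact hm3 (dvd_zero 3)),
        Nat.Prime.factorization_pow Nat.prime_three, Finsupp.add_apply, Finsupp.single_eq_same,
        Nat.factorization_eq_zero_of_not_dvd hm3, add_zero]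
      norm_num
    obtain ⟨SA, hSA⟩ := hsyl A hA hA9
    obtain ⟨SD, hSD⟩ := hsyl Dy inf_le_right hDy
    obtain ⟨c, hc⟩ := MulAction.exists_smul_eq C SA SD
    set n := g * (c : G)⁻¹ with hn'd
    have hmap : ∀ d ∈ Dx, n⁻¹ * d * n ∈ Dy := by
      intro d hd
      have ha : g⁻¹ * d * g ∈ A := ⟨d, hd, by simp⟩
      have h1 : (⟨_, hA ha⟩ : C) ∈ (SA : Subgroup C) := hSA ▸ Subgroup.mem_subgroupOf.2 ha
      have h2 : c * ⟨_, hA ha⟩ * c⁻¹ ∈ (SD : Subgroup C) := by
        rw [← hc]
        exact ⟨_, h1, rfl⟩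
      rw [hSD, Subgroup.mem_subgroupOf] at h2
      convert h2 using 1
      rw [hn'd]
      simp only [Subgroup.coe_mul, Subgroup.coe_inv, mul_inv_rev, inv_inv]
      group
    have hxy : n⁻¹ * (x : G) * n = y := by
      have hc' := Subgroup.mem_centralizer_singleton_iff.1 c.2
      calc n⁻¹ * (x : G) * n = (c : G) * y * (c : G)⁻¹ := by rw [hn'd, hyd]; group
        _ = y := by rw [hc', mul_inv_cancel_right]
    have hnZ : n ∈ Subgroup.normalizer (Z : Set G) := by
      have hfwd : ∀ z ∈ Z, n⁻¹ * z * n ∈ Z := by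
        intro z hz
        have hmem := hmap z (le_inf hZP' (fun z hz => Subgroup.mem_centralizer_singleton_iff.2
          (Subgroup.mem_centralizer_iff.1 (hPZ x.2) z hz)) hz)
        by_contra hzn
        exact (hC9 _ hmem.1 hzn).2 (by rw [hcardconj]; exact hC27 _ hz)
      refine inv_mem_iff.1 ?_
      have hle : Z.map (MulAut.conj n⁻¹).toMonoidHom ≤ Z := by
        rintro _ ⟨z, hz, rfl⟩
        simpa using hfwd z hz
      have heq : Z.map (MulAut.conj n⁻¹).toMonoidHom = Z := Subgroup.eq_of_le_of_card_ge hle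
        (Subgroup.card_map_of_injective (f := (MulAut.conj n⁻¹).toMonoidHom)
          (MulAut.conj n⁻¹).injective).ge
      refine Subgroup.mem_normalizer_iff.2 fun w => ⟨fun hw => by simpa using hfwd w hw, fun hw => ?_⟩
      obtain ⟨z, hz, hzw⟩ := heq.symm ▸ hw
      simp only [MulEquiv.coe_toMonoidHom, MulAut.conj_apply, inv_inv] at hzw
      have : z = w := by simpa using hzw
      exact this ▸ hz
    rw [hNZ] at hnZ
    have he : (⟨y, h⟩ : ↥(P : Subgroup G)) = (⟨n, hnZ⟩)⁻¹ * x * ⟨n, hnZ⟩ := Subtype.ext hxy.symm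
    rw [show (⟨g⁻¹ * (x : G) * g, h⟩ : ↥(P : Subgroup G)) = ⟨y, h⟩ from rfl, he, map_mul, map_mul, map_inv,
      mul_comm ((ϕ ⟨n, hnZ⟩)⁻¹), mul_assoc, inv_mul_cancel, mul_one]
  -- transfer
  have htriv : MonoidHom.transfer ϕ = 1 := by
    rcases eq_bot_or_top (MonoidHom.normal_ker (MonoidHom.transfer ϕ)) with h' | h'
    · exact absurd ⟨⟨fun a b => (MonoidHom.ker_eq_bot_iff _).1 h' (by rw [map_mul, map_mul, mul_comm])⟩⟩ hG
    · exact MonoidHom.ext fun a => MonoidHom.mem_ker.1 (h' ▸ Subgroup.mem_top a)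
  have hall : ∀ x : ↥(P : Subgroup G), ϕ x = 1 := by
    intro x
    have h1 := TransferPow.transfer_eq_pow_index ϕ x (fun k g hk => by
      rw [← map_pow]
      exact hfus (x ^ k) g (by simpa using hk))
    rw [htriv, MonoidHom.one_apply, sylow_index_of_eq hn' (by norm_num) P] at h1
    have h2 : ϕ x ^ 27 = 1 := by
      rw [← map_pow, show x ^ 27 = 1 by rw [← h27P]; exact pow_card_eq_one', map_one]
    exact TransferPow.eq_one_of_pow_eq_one_of_coprime h1.symm h2 (by norm_num)
  have hle : (P : Subgroup G) ≤ Z := fun a ha => (hϕZ ⟨a, ha⟩).1 (hall _)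
  have := Subgroup.card_le_of_le hle
  omega

/-- There is a subgroup of order `216` or `432`. -/
theorem exists_large_subgroup (hG : ¬ IsMulCommutative G) (hn : Nat.card G = 5616) :
    ∃ H : Subgroup G, Nat.card H = 216 ∨ Nat.card H = 432 := by
  haveI := fact_three
  haveI : Fact (Nat.Prime 2) := ⟨Nat.prime_two⟩
  obtain ⟨P, Q, hPQ, hrel⟩ := exists_relIndex_three hG hn
  set D := (P : Subgroup G) ⊓ (Q : Subgroup G) with hDd
  have hD9 : Nat.card D = 9 := by
    have h1 := Subgroup.card_mul_index ((Q : Subgroup G).subgroupOf (P : Subgroup G))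
    rw [← Subgroup.relIndex, hrel, sylow_three_card hn, ← Subgroup.inf_subgroupOf_left,
      Nat.card_congr (Subgroup.subgroupOfEquivOfLe (inf_le_left : D ≤ _)).toEquiv] at h1
    rw [hDd]; omega
  have hnorm : ∀ R : Sylow 3 G, D ≤ (R : Subgroup G) → (R : Subgroup G) ≤ Subgroup.normalizer (D : Set G) := by
    intro R hR
    refine (Subgroup.normal_subgroupOf_iff_le_normalizer hR).1 ?_
    have hi : (D.subgroupOf (R : Subgroup G)).index = 3 := by
      have h1 := (D.subgroupOf (R : Subgroup G)).card_mul_index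
      rw [Nat.card_congr (Subgroup.subgroupOfEquivOfLe hR).toEquiv, hD9, sylow_three_card hn] at h1
      omega
    exact Subgroup.normal_of_index_eq_minFac_card (by rw [hi, sylow_three_card hn]; norm_num)
  set H := Subgroup.normalizer (D : Set G) with hH
  have hPH : (P : Subgroup G) ≤ H := hnorm P inf_le_left
  have hQH : (Q : Subgroup G) ≤ H := hnorm Q inf_le_right
  have hHtop : H ≠ ⊤ := normalizer_ne_top_of_card hn (by rw [hD9]; norm_num) (by rw [hD9]; norm_num)
  obtain ⟨m, hm⟩ := Subgroup.card_dvd_of_le hPH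
  rw [sylow_three_card hn] at hm
  have hm208 : m ∣ 208 := Nat.dvd_of_mul_dvd_mul_left (by norm_num : 0 < 27)
    (by rw [← hm, show 27 * 208 = Nat.card G by rw [hn]]; exact Subgroup.card_subgroup_dvd_card H)
  set q := Nat.card (Sylow 3 H) with hq
  have hq1 : q ≠ 1 := by
    intro h
    have := (Nat.card_eq_one_iff_unique.1 h).1
    exact hPQ (Sylow.subtype_injective (Subsingleton.elim (P.subtype hPH) (Q.subtype hQH)))
  have hq3 : q % 3 = 1 := card_sylow_modEq_one 3 H
  have hqm : q ∣ m := card_sylow_dvd (p := 3) (k := 3) (by rw [hm]; norm_num) (by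
    rintro ⟨i, rfl⟩
    have h3 := (dvd_mul_right 3 i).trans hm208
    norm_num at h3)
  have hm16 : m ≤ 16 := by have := (card_le hG hn hHtop).2; omega
  have hcases : m = 8 ∨ m = 16 ∨ m = 13 ∨ (m = 4 ∧ q = 4) := by
    have key : ∀ m ∈ List.range 17, ∀ q ∈ List.range 17, 208 % m = 0 → m % q = 0 → q % 3 = 1 → q ≠ 1 →
        m = 8 ∨ m = 16 ∨ m = 13 ∨ (m = 4 ∧ q = 4) := by decide +kernel
    have hm0 : 0 < m := Nat.pos_of_dvd_of_pos hm208 (by norm_num)
    have hqle := Nat.le_of_dvd hm0 hqm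
    exact key m (List.mem_range.2 (by omega)) q (List.mem_range.2 (by omega))
      (Nat.mod_eq_zero_of_dvd hm208) (Nat.mod_eq_zero_of_dvd hqm) hq3 hq1
  rcases hcases with e | e | e | ⟨e, eq4⟩
  · exact ⟨H, Or.inl (by rw [hm, e])⟩
  · exact ⟨H, Or.inr (by rw [hm, e])⟩
  · -- an element of order 13 would centralise `D`
    exfalso
    haveI := Fintype.ofFinite G
    obtain ⟨⟨g, hgH⟩, hg⟩ := exists_prime_orderOf_dvd_card' 13 (G := H) (by rw [hm, e]; norm_num)
    rw [Subgroup.orderOf_mk] at hg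
    have hA : IsPGroup 13 ↥(Subgroup.zpowers g) :=
      IsPGroup.of_card (n := 1) (by rw [Nat.card_zpowers, hg, pow_one])
    have hmod := card_inf_centralizer_modEq hA (R := D) (Subgroup.zpowers_le.2 hgH)
    have hdvd := Subgroup.card_dvd_of_le
      (inf_le_left : D ⊓ Subgroup.centralizer (Subgroup.zpowers g : Set G) ≤ D)
    set c := Nat.card ↥(D ⊓ Subgroup.centralizer (Subgroup.zpowers g : Set G)) with hc
    rw [hD9] at hmod hdvd
    have key : ∀ c ∈ List.range 10, 9 % c = 0 → 9 % 13 = c % 13 → c = 9 := by decide +kernel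
    have hc9 := key c (List.mem_range.2 (Nat.lt_succ_of_le (Nat.le_of_dvd (by norm_num) hdvd)))
      (Nat.mod_eq_zero_of_dvd hdvd) hmod
    have hDle : D ≤ Subgroup.centralizer (Subgroup.zpowers g : Set G) :=
      inf_eq_left.1 (Subgroup.eq_of_le_of_card_ge inf_le_left (by rw [hD9, ← hc, hc9]))
    obtain ⟨R, hR⟩ := hA.exists_le_sylow
    obtain ⟨hRc, hCR, -, -⟩ := thirteen_data hG hn R
    have hzR : Subgroup.zpowers g = (R : Subgroup G) :=
      Subgroup.eq_of_le_of_card_ge hR (by rw [Nat.card_zpowers, hg, hRc])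
    rw [hzR] at hDle
    have := Subgroup.card_dvd_of_le hDle
    rw [hD9, hCR] at this
    norm_num at this
  -- `|H| = 108`
  subst e
  have hH108 : Nat.card H = 108 := by rw [hm]
  set E := D.subgroupOf H with hE
  have hEn : E.Normal := Subgroup.normal_in_normalizer
  have hE9 : Nat.card E = 9 := by
    rw [hE, Nat.card_congr (Subgroup.subgroupOfEquivOfLe Subgroup.le_normalizer).toEquiv, hD9]
  haveI := hEn
  obtain ⟨φ, hker, hrange⟩ := exists_klein (T := H) eq4 (E := E)
    (IsPGroup.of_card (n := 2) (by rw [hE9]; norm_num)) (by rw [hH108, hE9])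
  obtain ⟨hkp, hkq, hkr⟩ := mem_alternating
  rw [← hrange] at hkp hkq hkr
  obtain ⟨u, hu⟩ := hkp
  obtain ⟨v, hv⟩ := hkq
  obtain ⟨w, hw⟩ := hkr
  obtain ⟨k1, k2, k3, k4, k5⟩ := kr_rel
  haveI hEc : IsMulCommutative E := IsPGroup.isMulCommutative_of_card_eq_prime_sq (p := 3) (by rw [hE9]; norm_num)
  letI : CommGroup E := { (inferInstance : Group E) with mul_comm := IsMulCommutative.is_comm.comm }
  let ψ : H →* MulAut E := MulAut.conjNormal
  have hψE : ∀ x ∈ E, ψ x = 1 := fun x hx => MulEquiv.ext fun y => Subtype.ext (by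
    rw [MulAut.conjNormal_apply]
    show x * (y : H) * x⁻¹ = y
    rw [show x * (y : H) = y * x from congrArg Subtype.val (mul_comm (⟨x, hx⟩ : E) y), mul_inv_cancel_right])
  have heq : ∀ x y : H, φ x = φ y → ψ x = ψ y := fun x y h => by
    have := hψE (x * y⁻¹) (by rw [← hker, MonoidHom.mem_ker, map_mul, map_inv, h, mul_inv_cancel])
    rwa [map_mul, map_inv, mul_inv_eq_one] at this
  have r1 : ψ u * ψ u = 1 := by
    rw [← map_mul, ← map_one ψ]; exact heq _ _ (by rw [map_mul, map_one, hu, k1])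
  have r2 : ψ v * ψ v = 1 := by
    rw [← map_mul, ← map_one ψ]; exact heq _ _ (by rw [map_mul, map_one, hv, k2])
  have r3 : ψ u * ψ v = ψ v * ψ u := by
    rw [← map_mul, ← map_mul]; exact heq _ _ (by rw [map_mul, map_mul, hu, hv, k3])
  have r4 : ψ w * ψ u * (ψ w)⁻¹ = ψ v := by
    rw [← map_mul, ← map_inv, ← map_mul]; exact heq _ _ (by simp only [map_mul, map_inv, hu, hv, hw, k4])
  have r5 : ψ w * ψ v * (ψ w)⁻¹ = ψ u * ψ v := by
    rw [← map_mul, ← map_inv, ← map_mul, ← map_mul]
    exact heq _ _ (by simp only [map_mul, map_inv, hu, hv, hw, k5])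
  have hu1 := no_klein_cycle hE9 (ψ u) (ψ v) (ψ w) r1 r2 r3 r4 r5
  have hv1 : ψ v = 1 := by rw [← r4, hu1, mul_one, mul_inv_cancel]
  set K : Subgroup H := kleinV.comap φ with hK
  have hEK : E ≤ K := fun x hx => by
    rw [hK, Subgroup.mem_comap, show φ x = 1 by rwa [← MonoidHom.mem_ker, hker]]
    exact one_mem _
  have hKC : K ≤ Subgroup.centralizer (E : Set H) := fun x hx => by
    have hψ : ψ x = 1 := by
      rcases mem_kleinV.1 (Subgroup.mem_comap.1 hx) with e | e | e | e
      · rw [← map_one ψ]; exact heq _ _ (by rw [e, map_one])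
      · rw [heq x u (e.trans hu.symm), hu1]
      · rw [heq x v (e.trans hv.symm), hv1]
      · rw [heq x (u * v) (by rw [e, map_mul, hu, hv]), map_mul, hu1, hv1, mul_one]
    refine Subgroup.mem_centralizer_iff.2 fun y hy => ?_
    have := congrArg (fun f : MulAut E => ((f ⟨y, hy⟩ : E) : H)) hψ
    simp only [ψ, MulAut.conjNormal_apply, MulAut.one_apply] at this
    exact (mul_inv_eq_iff_eq_mul.1 this).symm
  have hK36 : Nat.card K = 36 := by
    have h1 := K.card_mul_index
    have h2 := (kleinV.subgroupOf (alternatingGroup (Fin 4))).card_mul_index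
    rw [Nat.card_congr (Subgroup.subgroupOfEquivOfLe kleinV_le).toEquiv, card_kleinV,
      nat_card_alternatingGroup, Nat.card_fin] at h2
    rw [hK, Subgroup.index_comap, hrange, hH108, Subgroup.relIndex] at h1
    norm_num [Nat.factorial] at h2
    rw [← hK, show (kleinV.subgroupOf (alternatingGroup (Fin 4))).index = 3 by omega] at h1
    omega
  haveI hKnor : K.Normal := inferInstance
  obtain ⟨S⟩ : Nonempty (Sylow 2 K) := inferInstance
  have hS4 : Nat.card ↥(S : Subgroup K) = 4 := by
    rw [sylow_card_of_eq (p := 2) (k := 2) (m := 9) (by rw [hK36]; norm_num) (by norm_num) S]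
    norm_num
  have hSn : (S : Subgroup K).Normal := by
    refine Subgroup.normalizer_eq_top_iff.1 (Subgroup.eq_top_of_card_eq _ ?_)
    set NS := Subgroup.normalizer ((S : Subgroup K) : Set K) with hNS
    have h1 : E.subgroupOf K ≤ NS := le_trans (fun x hx => Subgroup.mem_centralizer_iff.2 fun y _ => Subtype.ext
      (Subgroup.mem_centralizer_iff.1 (hKC y.2) (x : H) hx).symm) (Subgroup.centralizer_le_normalizer _)
    have h2 : 9 ∣ Nat.card NS := by
      have := Subgroup.card_dvd_of_le h1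
      rwa [Nat.card_congr (Subgroup.subgroupOfEquivOfLe hEK).toEquiv, hE9] at this
    have h3 : 4 ∣ Nat.card NS := hS4 ▸ Subgroup.card_dvd_of_le Subgroup.le_normalizer
    have h4 : 36 ∣ Nat.card NS := Nat.Coprime.mul_dvd_of_dvd_of_dvd (by norm_num : Nat.Coprime 4 9) h3 h2
    have h5 := Subgroup.card_subgroup_dvd_card NS
    rw [hK36] at h5 ⊢
    exact Nat.dvd_antisymm h5 h4
  haveI := hSn
  haveI : (S : Subgroup K).Characteristic := S.characteristic_of_normal hSn
  set W := ((S : Subgroup K).map K.subtype).map H.subtype with hW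
  have hWcard : Nat.card W = 4 := by
    rw [hW, Subgroup.card_map_of_injective H.subtype_injective,
      Subgroup.card_map_of_injective K.subtype_injective, hS4]
  have hHW : H ≤ Subgroup.normalizer (W : Set G) := by
    have hn1 : ((S : Subgroup K).map K.subtype).Normal := ConjAct.normal_of_characteristic_of_normal
    refine SignalizerCoprime.le_normalizer_of_forall fun a ha x hx => ?_
    obtain ⟨x', hx', rfl⟩ := hx
    exact ⟨⟨a, ha⟩ * x' * ⟨a, ha⟩⁻¹, hn1.conj_mem x' hx' ⟨a, ha⟩, rfl⟩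
  set N := Subgroup.normalizer (W : Set G) with hN
  have h108 : 108 ∣ Nat.card N := hH108 ▸ Subgroup.card_dvd_of_le hHW
  obtain ⟨T2, hT2⟩ := (IsPGroup.of_card (p := 2) (n := 2) (G := ↥W) (by rw [hWcard]; norm_num)).exists_le_sylow
  have h8 : 8 ∣ Nat.card N := by
    have hT16 : Nat.card ↥(T2 : Subgroup G) = 16 := by
      rw [sylow_card_of_eq (p := 2) (k := 4) (m := 351) (by rw [hn]; norm_num) (by norm_num) T2]
      norm_num
    have hlt : W.subgroupOf (T2 : Subgroup G) < ⊤ := by
      refine lt_top_iff_ne_top.2 fun h => ?_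
      have := congrArg (fun X : Subgroup ↥(T2 : Subgroup G) => Nat.card X) h
      simp only [Nat.card_congr (Subgroup.subgroupOfEquivOfLe hT2).toEquiv, Subgroup.card_top, hWcard, hT16] at this
      omega
    haveI : Group.IsNilpotent ↥(T2 : Subgroup G) := T2.2.isNilpotent
    have hlt' := Group.normalizerCondition_of_isNilpotent _ hlt
    set NT := Subgroup.normalizer ((W.subgroupOf (T2 : Subgroup G)) : Set ↥(T2 : Subgroup G)) with hNT
    have h1 : Nat.card NT ∣ 16 := hT16 ▸ Subgroup.card_subgroup_dvd_card NT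
    have h2 : 4 ∣ Nat.card NT := by
      have := Subgroup.card_dvd_of_le hlt'.le
      rwa [Nat.card_congr (Subgroup.subgroupOfEquivOfLe hT2).toEquiv, hWcard] at this
    have h3 : Nat.card NT ≠ 4 := fun h => hlt'.ne (Subgroup.eq_of_le_of_card_ge hlt'.le
      (by rw [h, Nat.card_congr (Subgroup.subgroupOfEquivOfLe hT2).toEquiv, hWcard]))
    have key : ∀ x ∈ List.range 17, 16 % x = 0 → x % 4 = 0 → x ≠ 4 → x % 8 = 0 := by decide +kernel
    have h8' := Nat.dvd_of_mod_eq_zero (key _ (List.mem_range.2 (Nat.lt_succ_of_le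
      (Nat.le_of_dvd (by norm_num) h1))) (Nat.mod_eq_zero_of_dvd h1) (Nat.mod_eq_zero_of_dvd h2) h3)
    refine h8'.trans ?_
    rw [hNT, ← Subgroup.subgroupOf_normalizer_eq hT2,
      ← Subgroup.card_map_of_injective (T2 : Subgroup G).subtype_injective]
    refine Subgroup.card_dvd_of_le ?_
    rintro _ ⟨x, hx, rfl⟩
    exact Subgroup.mem_subgroupOf.1 hx
  have hNtop : N ≠ ⊤ := normalizer_ne_top_of_card hn (by rw [hWcard]; norm_num) (by rw [hWcard]; norm_num)
  have h216 : 216 ∣ Nat.card N := by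
    have := Nat.lcm_dvd h108 h8
    norm_num at this
    exact this
  refine ⟨N, ?_⟩
  obtain ⟨j, hj⟩ := h216
  have := (card_le hG hn hNtop).2
  have : 0 < Nat.card N := Nat.card_pos
  omega

end Cfsg.Agent.Order5616
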