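import Mathlib
import Cfsg.Agent.Lib.CharBasicPerm
import Cfsg.Agent.Lib.CharBasicInt

/-!
# Operators commuting with a representation: traces against the irreducible characters
-/

set_option autoImplicit false
set_option linter.unusedSectionVars false

open scoped ComplexConjugate

namespace Cfsg.Agent.PermCentralizer28

open Cfsg.Agent.CharBasic Cfsg.Agent.CharBasicOrth Cfsg.Agent.CharBasicDecomp

universe u v

variable {G : Type u} [Group G] [Fintype G] {V : Type v} [AddCommGroup V] [Module ℂ V]
  [FiniteDimensional ℂ V] (ρ : Representation ℂ G V)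

/-- An endomorphism commuting with a representation. -/
def Commutes (A : Module.End ℂ V) : Prop := ∀ g v, A (ρ g v) = ρ g (A v)

/-- The inclusion of a subrepresentation. -/
def incl (U : Subrepresentation ρ) : Representation.IntertwiningMap U.toRepresentation ρ :=
  ⟨U.toSubmodule.subtype, fun _ => rfl⟩

theorem incl_ne_zero (U : Subrepresentation ρ) [U.toRepresentation.IsIrreducible] :
    incl ρ U ≠ 0 := by
  intro h0
  obtain ⟨x, hx⟩ := Module.finrank_pos_iff_exists_ne_zero.1
    (finrank_pos_of_irreducible U.toRepresentation)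
  exact hx (Subtype.ext (congrArg (fun f : Representation.IntertwiningMap _ ρ => f x) h0))

theorem classInner_sub_ne_zero (U : Subrepresentation ρ) [U.toRepresentation.IsIrreducible] :
    Cfsg.classInner ρ.character U.toRepresentation.character ≠ 0 := by
  rw [classInner_character]
  have : Nontrivial (Representation.IntertwiningMap U.toRepresentation ρ) :=
    ⟨⟨incl ρ U, 0, incl_ne_zero ρ U⟩⟩
  exact Nat.cast_ne_zero.2 Module.finrank_pos.ne'

/-- A constituent occurring once absorbs every commuting operator as a scalar. -/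
theorem exists_scalar_sub (U : Subrepresentation ρ) [U.toRepresentation.IsIrreducible]
    (h1 : Cfsg.classInner ρ.character U.toRepresentation.character = 1)
    {A : Module.End ℂ V} (hA : Commutes ρ A) : ∃ l : ℂ, ∀ v ∈ U.toSubmodule, A v = l • v := by
  rw [classInner_character, Nat.cast_eq_one] at h1
  let f : Representation.IntertwiningMap U.toRepresentation ρ :=
    ⟨A ∘ₗ U.toSubmodule.subtype, fun g => LinearMap.ext fun x => hA g (x : V)⟩
  obtain ⟨l, hl⟩ := exists_smul_eq_of_finrank_eq_one h1 (incl_ne_zero ρ U) f
  exact ⟨l, fun v hv => (congrArg (fun f : Representation.IntertwiningMap _ ρ => f ⟨v, hv⟩) hl).symm⟩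

/-- A commuting operator killing all irreducible subrepresentations is zero. -/
theorem eq_zero_of_irreducible {A : Module.End ℂ V} (hA : Commutes ρ A)
    (h : ∀ U : Subrepresentation ρ, U.toRepresentation.IsIrreducible →
      ∀ v ∈ U.toSubmodule, A v = 0) : A = 0 := by
  let K : Subrepresentation ρ := ⟨LinearMap.ker A, fun g v hv => by
    rw [LinearMap.mem_ker] at hv ⊢
    rw [hA, hv, map_zero]⟩
  obtain ⟨R, hR⟩ := CharBasic.exists_isCompl K
  rcases subsingleton_or_nontrivial R.toSubmodule with hs | hn
  · have hb : R.toSubmodule = ⊥ := (Submodule.eq_bot_iff _).2 fun x hx =>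
      congrArg Subtype.val (Subsingleton.elim (⟨x, hx⟩ : R.toSubmodule) 0)
    have := hR.sup_eq_top
    rw [hb, sup_bot_eq] at this
    exact LinearMap.ker_eq_top.1 this
  · exfalso
    obtain ⟨T, hT⟩ := exists_irreducible_sub R.toRepresentation
    let U : Subrepresentation ρ := ⟨T.toSubmodule.map R.toSubmodule.subtype, fun g v hv => by
      obtain ⟨x, hx, rfl⟩ := Submodule.mem_map.1 hv
      exact Submodule.mem_map.2 ⟨R.toRepresentation g x, T.apply_mem_toSubmodule g hx, rfl⟩⟩
    have e : T.toRepresentation.Equiv U.toRepresentation := Representation.Equiv.mk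
      (Submodule.equivMapOfInjective R.toSubmodule.subtype Subtype.val_injective T.toSubmodule)
      fun g => by ext x; rfl
    haveI := isIrreducible_of_equiv e
    obtain ⟨x, hx⟩ := Module.finrank_pos_iff_exists_ne_zero.1
      (finrank_pos_of_irreducible T.toRepresentation)
    have hk : ((x : R.toSubmodule) : V) ∈ K.toSubmodule :=
      h U inferInstance _ (Submodule.mem_map.2 ⟨x, x.2, rfl⟩)
    have h0 : ((x : R.toSubmodule) : V) = 0 :=
      Submodule.disjoint_def.1 hR.disjoint _ hk (x : R.toSubmodule).2
    exact hx (Subtype.ext (Subtype.ext h0))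

/-- An irreducible constituent of the character is afforded by a subrepresentation. -/
theorem exists_sub {χ : G → ℂ} (hχ : Cfsg.IsIrrCharacter G χ)
    (h : Cfsg.classInner ρ.character χ ≠ 0) :
    ∃ U : Subrepresentation ρ, U.toRepresentation.IsIrreducible ∧ U.toRepresentation.character = χ := by
  obtain ⟨n, σ, hσ, rfl⟩ := hχ
  rw [classInner_character] at h
  have : Nontrivial (Representation.IntertwiningMap σ ρ) := by
    by_contra hn
    have := not_nontrivial_iff_subsingleton.1 hn
    exact h (by rw [Module.finrank_zero_of_subsingleton, Nat.cast_zero])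
  obtain ⟨f, hf⟩ := exists_ne (0 : Representation.IntertwiningMap σ ρ)
  have hinj := (Representation.IsIrreducible.injective_or_eq_zero f).resolve_right hf
  let φ : σ.Equiv f.range.toRepresentation :=
    Representation.Equiv.mk (LinearEquiv.ofInjective f.toLinearMap hinj) fun g => by
      refine LinearMap.ext fun x => Subtype.ext ?_
      exact f.isIntertwining σ ρ g x
  exact ⟨f.range, isIrreducible_of_equiv φ, (Representation.char_iso φ).symm⟩

/-- Commutativity of the commutant means that no constituent repeats. -/
theorem multiplicity_free_iff :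
    (∀ χ : G → ℂ, Cfsg.IsIrrCharacter G χ →
      Cfsg.classInner ρ.character χ = 0 ∨ Cfsg.classInner ρ.character χ = 1) ↔
    ∀ S T : Module.End ℂ V, Commutes ρ S → Commutes ρ T → S * T = T * S := by
  constructor
  · intro h S T hS hT
    rw [← sub_eq_zero]
    refine eq_zero_of_irreducible ρ (fun g v => ?_) fun U hU v hv => ?_
    · simp only [LinearMap.sub_apply, Module.End.mul_apply, map_sub, hS g, hT g]
    · haveI := hU
      have h1 := (h _ (isIrrCharacter_of_rep U.toRepresentation)).resolve_left
        (classInner_sub_ne_zero ρ U)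
      obtain ⟨a, ha⟩ := exists_scalar_sub ρ U h1 hS
      obtain ⟨b, hb⟩ := exists_scalar_sub ρ U h1 hT
      simp only [LinearMap.sub_apply, Module.End.mul_apply, ha v hv, hb v hv, map_smul, smul_smul,
        mul_comm a b, sub_self]
  · intro h χ hχ
    rw [or_iff_not_imp_left]
    intro h0
    obtain ⟨U, hU, rfl⟩ := exists_sub ρ hχ h0
    obtain ⟨R, hR⟩ := CharBasic.exists_isCompl U
    by_contra hne
    have hsplit : Cfsg.classInner ρ.character U.toRepresentation.character =
        1 + Cfsg.classInner R.toRepresentation.character U.toRepresentation.character := by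
      rw [character_of_isCompl U R hR, classInner_add_left, classInner_character_irreducible_self]
    have hn : Nontrivial (Representation.IntertwiningMap U.toRepresentation R.toRepresentation) := by
      by_contra hn
      have := not_nontrivial_iff_subsingleton.1 hn
      exact hne (by rw [hsplit, classInner_character R.toRepresentation,
        Module.finrank_zero_of_subsingleton, Nat.cast_zero, add_zero])
    obtain ⟨f, hf⟩ := exists_ne (0 : Representation.IntertwiningMap U.toRepresentation R.toRepresentation)
    let p : V →ₗ[ℂ] U.toSubmodule := Submodule.projectionOnto _ _ hR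
    have hp : ∀ g v, p (ρ g v) = U.toRepresentation g (p v) := by
      intro g v
      obtain ⟨a, ha, b, hb, rfl⟩ := Submodule.mem_sup.1
        (hR.sup_eq_top ▸ Submodule.mem_top : v ∈ U.toSubmodule ⊔ R.toSubmodule)
      rw [map_add, map_add, map_add]
      rw [Submodule.projectionOnto_apply_left hR ⟨a, ha⟩,
        (Submodule.projectionOnto_apply_eq_zero_iff hR).2 hb,
        Submodule.projectionOnto_apply_left hR ⟨ρ g a, U.apply_mem_toSubmodule g ha⟩,
        (Submodule.projectionOnto_apply_eq_zero_iff hR).2 (R.apply_mem_toSubmodule g hb),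
        add_zero, add_zero]
      rfl
    let E : Module.End ℂ V := U.toSubmodule.subtype ∘ₗ p
    let F : Module.End ℂ V := R.toSubmodule.subtype ∘ₗ f.toLinearMap ∘ₗ p
    have hE : Commutes ρ E := fun g v => congrArg Subtype.val (hp g v)
    have hF : Commutes ρ F := fun g v => by
      show ((f.toLinearMap (p (ρ g v)) : R.toSubmodule) : V) = ρ g (f.toLinearMap (p v) : V)
      rw [hp]
      exact congrArg Subtype.val (LinearMap.congr_fun (f.isIntertwining' g) (p v))
    apply hf
    ext x
    have e := LinearMap.congr_fun (h E F hE hF) (x : V)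
    change ((p (f.toLinearMap (p (x : V)) : V) : V)) =
      ((f.toLinearMap (p ((p (x : V) : V))) : R.toSubmodule) : V) at e
    rw [Submodule.projectionOnto_apply_left hR x, Submodule.projectionOnto_apply_left hR x,
      (Submodule.projectionOnto_apply_eq_zero_iff hR).2 (f.toLinearMap x).2] at e
    exact e.symm

/-! ### Trace functions -/

/-- The trace function of a commuting operator. -/
noncomputable def tf (A : Module.End ℂ V) : G → ℂ := fun g => LinearMap.trace ℂ V (A * ρ g)

theorem isClassFunction_tf {A : Module.End ℂ V} (hA : Commutes ρ A) :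
    Cfsg.IsClassFunction G (tf ρ A) := by
  intro g h
  have hc : A * ρ h = ρ h * A := LinearMap.ext fun v => hA h v
  simp only [tf, map_mul]
  rw [← mul_assoc, ← mul_assoc, hc, LinearMap.trace_mul_comm, ← mul_assoc, ← mul_assoc,
    ← map_mul, inv_mul_cancel, map_one, one_mul]

theorem tf_one_right (A : Module.End ℂ V) : tf ρ A 1 = LinearMap.trace ℂ V A := by
  rw [tf, map_one, mul_one]

theorem tf_add (A B : Module.End ℂ V) : tf ρ (A + B) = tf ρ A + tf ρ B := by
  funext g; simp [tf, add_mul]

theorem tf_smul (a : ℂ) (A : Module.End ℂ V) : tf ρ (a • A) = a • tf ρ A := by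
  funext g; simp [tf]

theorem tf_id : tf ρ 1 = ρ.character := by
  funext g; simp [tf, Representation.character]

/-- The generalised eigenspace as a subrepresentation. -/
noncomputable def eigSub {A : Module.End ℂ V} (hA : Commutes ρ A) (l : ℂ) : Subrepresentation ρ :=
  ⟨A.maxGenEigenspace l, fun g _ hv => Module.End.mapsTo_maxGenEigenspace_of_comm
    (f := A) (g := ρ g) (LinearMap.ext fun v => (hA g v)) l hv⟩

theorem finite_eig (A : Module.End ℂ V) : {l : ℂ | A.maxGenEigenspace l ≠ ⊥}.Finite :=
  WellFoundedGT.finite_ne_bot_of_iSupIndep A.independent_maxGenEigenspace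

theorem eig_internal (A : Module.End ℂ V) :
    DirectSum.IsInternal fun l : ↥(finite_eig A).toFinset => A.maxGenEigenspace (l : ℂ) := by
  rw [DirectSum.isInternal_submodule_iff_iSupIndep_and_iSup_eq_top]
  refine ⟨A.independent_maxGenEigenspace.comp Subtype.val_injective, ?_⟩
  rw [eq_top_iff, ← Module.End.iSup_maxGenEigenspace_eq_top A]
  refine iSup_le fun l => ?_
  by_cases hl : A.maxGenEigenspace l = ⊥
  · simp [hl]
  · exact le_iSup (fun l : ↥(finite_eig A).toFinset => A.maxGenEigenspace (l : ℂ))
      ⟨l, (finite_eig A).mem_toFinset.2 hl⟩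

theorem tf_eq_sum {A : Module.End ℂ V} (hA : Commutes ρ A) (g : G) :
    tf ρ A g = ∑ l ∈ (finite_eig A).toFinset, l * (eigSub ρ hA l).toRepresentation.character g := by
  classical
  have hB : Commute A (ρ g) := LinearMap.ext fun v => hA g v
  have hm : ∀ l : ↥(finite_eig A).toFinset,
      Set.MapsTo (A * ρ g) (A.maxGenEigenspace (l : ℂ)) (A.maxGenEigenspace (l : ℂ)) := fun l =>
    Module.End.mapsTo_maxGenEigenspace_of_comm ((Commute.refl A).mul_right hB) _
  rw [tf, LinearMap.trace_eq_sum_trace_restrict (eig_internal A) hm, ← Finset.sum_coe_sort (finite_eig A).toFinset]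
  refine Finset.sum_congr rfl fun l _ => ?_
  let W := A.maxGenEigenspace (l : ℂ)
  have hmA : Set.MapsTo (A - algebraMap ℂ (Module.End ℂ V) (l : ℂ)) W W :=
    Module.End.mapsTo_maxGenEigenspace_of_comm
      ((Commute.refl A).sub_right (Algebra.commute_algebraMap_right _ _)) _
  let N : Module.End ℂ (eigSub ρ hA (l : ℂ)).toSubmodule :=
    LinearMap.restrict (A - algebraMap ℂ (Module.End ℂ V) (l : ℂ)) hmA
  let R : Module.End ℂ (eigSub ρ hA (l : ℂ)).toSubmodule := (eigSub ρ hA (l : ℂ)).toRepresentation g
  have hN : IsNilpotent N :=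
    Module.End.isNilpotent_restrict_maxGenEigenspace_sub_algebraMap A _
  have hc : Commute N R := by
    refine LinearMap.ext fun x => Subtype.ext ?_
    show (A - algebraMap ℂ (Module.End ℂ V) (l : ℂ)) (ρ g (x : V)) =
      ρ g ((A - algebraMap ℂ (Module.End ℂ V) (l : ℂ)) (x : V))
    simp [hA g]
  have h0 := (LinearMap.isNilpotent_trace_of_isNilpotent (hc.isNilpotent_mul_right hN)).eq_zero
  have hsplit : LinearMap.restrict (A * ρ g) (hm l) = N * R + (l : ℂ) • R := by
    refine LinearMap.ext fun x => Subtype.ext ?_
    show A (ρ g (x : V)) =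
      (A - algebraMap ℂ (Module.End ℂ V) (l : ℂ)) (ρ g (x : V)) + (l : ℂ) • ρ g (x : V)
    simp
  have htr : LinearMap.trace ℂ (eigSub ρ hA (l : ℂ)).toSubmodule (N * R + (l : ℂ) • R) =
      (l : ℂ) * (eigSub ρ hA (l : ℂ)).toRepresentation.character g := by
    rw [map_add, h0, zero_add, map_smul, smul_eq_mul]
    rfl
  exact (congrArg _ hsplit).trans htr

theorem char_eq_sum {A : Module.End ℂ V} (hA : Commutes ρ A) (g : G) :
    ρ.character g = ∑ l ∈ (finite_eig A).toFinset, (eigSub ρ hA l).toRepresentation.character g := by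
  classical
  have hm : ∀ l : ↥(finite_eig A).toFinset,
      Set.MapsTo (ρ g) (A.maxGenEigenspace (l : ℂ)) (A.maxGenEigenspace (l : ℂ)) := fun l =>
    Module.End.mapsTo_maxGenEigenspace_of_comm (LinearMap.ext fun v => hA g v) _
  rw [Representation.character, LinearMap.trace_eq_sum_trace_restrict (eig_internal A) hm,
    ← Finset.sum_coe_sort (finite_eig A).toFinset]
  exact Finset.sum_congr rfl fun l _ => rfl

/-- The coefficient of an irreducible character in a trace function. -/
theorem exists_coeff {A : Module.End ℂ V} (hA : Commutes ρ A) {χ : G → ℂ}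
    (hχ : Cfsg.IsCharacter G χ) :
    ∃ n : ℂ → ℕ, (∀ l, Cfsg.classInner (eigSub ρ hA l).toRepresentation.character χ = n l) ∧
      Cfsg.classInner ρ.character χ = ∑ l ∈ (finite_eig A).toFinset, (n l : ℂ) ∧
      Cfsg.classInner (tf ρ A) χ = ∑ l ∈ (finite_eig A).toFinset, l * (n l : ℂ) := by
  choose n hn using fun l =>
    classInner_isCharacter (isCharacter_of_rep (eigSub ρ hA l).toRepresentation) hχ
  refine ⟨n, hn, ?_, ?_⟩
  · simp only [← hn]
    rw [← classInner_sum_left]
    congr 1
    funext g
    rw [Finset.sum_apply, char_eq_sum ρ hA]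
  · simp only [← hn, ← classInner_smul_left]
    rw [← classInner_sum_left]
    congr 1
    funext g
    rw [Finset.sum_apply, tf_eq_sum ρ hA]
    rfl

theorem classInner_tf_eq_zero {A : Module.End ℂ V} (hA : Commutes ρ A) {χ : G → ℂ}
    (hχ : Cfsg.IsCharacter G χ) (h0 : Cfsg.classInner ρ.character χ = 0) :
    Cfsg.classInner (tf ρ A) χ = 0 := by
  obtain ⟨n, -, h1, h2⟩ := exists_coeff ρ hA hχ
  rw [h0, eq_comm, ← Nat.cast_sum, Nat.cast_eq_zero, Finset.sum_eq_zero_iff] at h1
  rw [h2]
  exact Finset.sum_eq_zero fun l hl => by rw [h1 l hl, Nat.cast_zero, mul_zero]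

/-- The coefficient is an algebraic integer when the operator is integral. -/
theorem isIntegral_classInner_tf {A : Module.End ℂ V} (hA : Commutes ρ A)
    (hi : IsIntegral ℤ A) {χ : G → ℂ} (hχ : Cfsg.IsCharacter G χ) :
    IsIntegral ℤ (Cfsg.classInner (tf ρ A) χ) := by
  obtain ⟨n, -, -, h2⟩ := exists_coeff ρ hA hχ
  rw [h2]
  refine IsIntegral.sum _ fun l hl => IsIntegral.mul ?_ (map_natCast (algebraMap ℤ ℂ) (n l) ▸ isIntegral_algebraMap)
  have hne := (finite_eig A).mem_toFinset.1 hl
  obtain ⟨v, hv⟩ := (Module.End.hasUnifEigenvalue_iff_hasUnifEigenvalue_one (k := ⊤) (by decide)).1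
    (show A.HasUnifEigenvalue l ⊤ from hne) |>.exists_hasUnifEigenvector
  obtain ⟨p, hp, hpA⟩ := hi
  refine ⟨p, hp, ?_⟩
  have h := LinearMap.congr_fun (show Polynomial.aeval A (p.map (algebraMap ℤ ℂ)) = 0 by
    rw [Polynomial.aeval_map_algebraMap]; exact hpA) v
  rw [Module.End.aeval_apply_of_hasEigenvector hv, LinearMap.zero_apply, smul_eq_zero,
    or_iff_left hv.2, Polynomial.eval_map] at h
  exact h

/-- At a constituent occurring once the coefficient is the scalar by which the operator acts. -/
theorem classInner_tf_eq_scalar {A : Module.End ℂ V} (hA : Commutes ρ A) (U : Subrepresentation ρ)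
    [U.toRepresentation.IsIrreducible]
    (h1 : Cfsg.classInner ρ.character U.toRepresentation.character = 1) {l : ℂ}
    (hl : ∀ v ∈ U.toSubmodule, A v = l • v) :
    Cfsg.classInner (tf ρ A) U.toRepresentation.character = l := by
  obtain ⟨n, hn, hs, h2⟩ := exists_coeff ρ hA (isCharacter_of_rep U.toRepresentation)
  have hle : U.toSubmodule ≤ A.maxGenEigenspace l := fun v hv =>
    Module.End.eigenspace_le_maxGenEigenspace (Module.End.mem_eigenspace_iff.2 (hl v hv))
  have hmem : l ∈ (finite_eig A).toFinset := by
    rw [Set.Finite.mem_toFinset]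
    intro h
    obtain ⟨x, hx⟩ := Module.finrank_pos_iff_exists_ne_zero.1
      (finrank_pos_of_irreducible U.toRepresentation)
    exact hx (Subtype.ext ((Submodule.eq_bot_iff _).1 h _ (hle x.2)))
  have hpos : n l ≠ 0 := by
    intro h0
    have e := hn l
    rw [h0, Nat.cast_zero, classInner_character, Nat.cast_eq_zero] at e
    let f : Representation.IntertwiningMap U.toRepresentation (eigSub ρ hA l).toRepresentation :=
      ⟨Submodule.inclusion hle, fun g => rfl⟩
    have hs' := Module.finrank_zero_iff.1 e
    obtain ⟨x, hx⟩ := Module.finrank_pos_iff_exists_ne_zero.1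
      (finrank_pos_of_irreducible U.toRepresentation)
    have := congrArg (fun f : Representation.IntertwiningMap U.toRepresentation
      (eigSub ρ hA l).toRepresentation => f x) (Subsingleton.elim f 0)
    exact hx (Submodule.inclusion_injective hle (this.trans (map_zero _).symm))
  rw [h1, ← Nat.cast_sum, eq_comm, Nat.cast_eq_one] at hs
  rw [h2]
  classical
  rw [← Finset.add_sum_erase _ _ hmem] at hs ⊢
  have hn1 : n l = 1 := by omega
  have hz : ∑ x ∈ (finite_eig A).toFinset.erase l, n x = 0 := by omega
  rw [hn1, Nat.cast_one, mul_one, add_eq_left]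
  exact Finset.sum_eq_zero fun x hx => by
    rw [Finset.sum_eq_zero_iff.1 hz x hx, Nat.cast_zero, mul_zero]

end Cfsg.Agent.PermCentralizer28
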