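import Mathlib
import Cfsg.Prelude.Def_Perm
import Cfsg.Agent.Lib.PermCentralizer28

/-!
# Orbital matrices and the permutation character
-/

set_option autoImplicit false
set_option linter.unusedSectionVars false

open scoped ComplexConjugate

namespace Cfsg.Agent.PermOrbital28

open Cfsg.Agent.CharBasic Cfsg.Agent.CharBasicOrth Cfsg.Agent.CharBasicDecomp
open Cfsg.Agent.PermCentralizer28

universe u v

variable {G : Type u} [Group G] [Fintype G] {Ω : Type v} [Fintype Ω] [MulAction G Ω]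

/-- The permutation character. -/
noncomputable def pc (G : Type u) [Group G] (Ω : Type v) [MulAction G Ω] : G → ℂ :=
  fun g => (Nat.card (MulAction.fixedBy Ω g) : ℂ)

theorem character_eq : (Cfsg.permRep ℂ G Ω).character = pc G Ω := by
  have h : Cfsg.permRep ℂ G Ω = CharBasicPerm.permRep G Ω := rfl
  rw [h, CharBasicPerm.character_permRep]
  rfl

theorem isCharacter_pc : Cfsg.IsCharacter G (pc G Ω) := CharBasicPerm.isCharacter_fixedBy Ω

theorem pc_one : pc G Ω 1 = (Fintype.card Ω : ℂ) := by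
  rw [pc, show MulAction.fixedBy Ω (1 : G) = Set.univ from Set.eq_univ_of_forall fun x => one_smul G x,
    Nat.card_univ, Nat.card_eq_fintype_card]

/-- The operator with matrix `R`. -/
noncomputable def op (R : Ω → Ω → ℂ) : Module.End ℂ (Ω → ℂ) where
  toFun v x := ∑ y, R x y * v y
  map_add' v w := by funext x; simp [mul_add, Finset.sum_add_distrib]
  map_smul' c v := by funext x; simp [Finset.mul_sum, mul_left_comm]

theorem op_apply (R : Ω → Ω → ℂ) (v : Ω → ℂ) (x : Ω) : op R v x = ∑ y, R x y * v y := rfl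

theorem perm_apply (g : G) (v : Ω → ℂ) (x : Ω) : Cfsg.permRep ℂ G Ω g v x = v (g⁻¹ • x) := rfl

/-- Invariant matrices. -/
def Inv (G : Type u) [Group G] {Ω : Type v} [MulAction G Ω] (R : Ω → Ω → ℂ) : Prop :=
  ∀ (g : G) x y, R (g • x) (g • y) = R x y

theorem op_commutes {R : Ω → Ω → ℂ} (hR : Inv G R) : Commutes (Cfsg.permRep ℂ G Ω) (op R) := by
  intro g v
  funext x
  rw [perm_apply, op_apply, op_apply]
  refine Fintype.sum_equiv (MulAction.toPerm g⁻¹) _ _ fun y => ?_
  rw [perm_apply, MulAction.toPerm_apply, hR g⁻¹]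

theorem eq_op [DecidableEq Ω] (A : Module.End ℂ (Ω → ℂ)) :
    A = op fun x y => A (Pi.single y 1) x := by
  refine LinearMap.ext fun v => funext fun x => ?_
  conv_lhs => rw [← Finset.univ_sum_single v, map_sum, Finset.sum_apply]
  refine Finset.sum_congr rfl fun y _ => ?_
  rw [show Pi.single y (v y) = (v y) • Pi.single (M := fun _ : Ω => ℂ) y (1 : ℂ) by
    rw [← Pi.single_smul, smul_eq_mul, mul_one], map_smul, Pi.smul_apply, smul_eq_mul, mul_comm]

theorem inv_of_commutes [DecidableEq Ω] {A : Module.End ℂ (Ω → ℂ)}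
    (hA : Commutes (Cfsg.permRep ℂ G Ω) A) : Inv G fun x y => A (Pi.single y 1) x := by
  intro g x y
  have h : Cfsg.permRep ℂ G Ω g (Pi.single y 1) = Pi.single (g • y) 1 := by
    funext z
    rw [perm_apply, Pi.single_apply, Pi.single_apply]
    exact if_congr inv_smul_eq_iff rfl rfl
  show A (Pi.single (g • y) 1) (g • x) = A (Pi.single y 1) x
  rw [← h, hA, perm_apply, inv_smul_smul]

theorem tf_op (R : Ω → Ω → ℂ) (g : G) : tf (Cfsg.permRep ℂ G Ω) (op R) g = ∑ x, R x (g • x) := by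
  classical
  rw [tf, LinearMap.trace_eq_matrix_trace ℂ (Pi.basisFun ℂ Ω), Matrix.trace]
  refine Finset.sum_congr rfl fun x _ => ?_
  rw [Matrix.diag_apply, LinearMap.toMatrix_apply, Pi.basisFun_apply, Pi.basisFun_repr,
    Module.End.mul_apply, op_apply, Finset.sum_eq_single (g • x)]
  · rw [perm_apply, inv_smul_smul, Pi.single_eq_same, mul_one]
  · intro y _ hy
    rw [perm_apply, Pi.single_eq_of_ne (fun e => hy (inv_smul_eq_iff.1 e)), mul_zero]
  · exact fun h => absurd (Finset.mem_univ _) h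

theorem op_mul (R S : Ω → Ω → ℂ) : op R * op S = op fun x z => ∑ y, R x y * S y z := by
  refine LinearMap.ext fun v => funext fun x => ?_
  rw [Module.End.mul_apply, op_apply, op_apply]
  simp only [op_apply, Finset.mul_sum, Finset.sum_mul, mul_assoc]
  exact Finset.sum_comm

theorem isIntegral_op (Z : Ω → Ω → ℤ) : IsIntegral ℤ (op fun x y => (Z x y : ℂ)) := by
  classical
  have h := Matrix.isIntegral (R := ℤ) (Matrix.of Z)
  let φ : Matrix Ω Ω ℤ →+* Module.End ℂ (Ω → ℂ) :=
    (Matrix.toLinAlgEquiv' (R := ℂ) (n := Ω)).toRingEquiv.toRingHom.comp (Int.castRingHom ℂ).mapMatrix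
  have he : op (fun x y => (Z x y : ℂ)) = φ.toIntAlgHom (Matrix.of Z) := by
    refine LinearMap.ext fun v => funext fun x => ?_
    simp [φ, op_apply, Matrix.mulVec, dotProduct]
  rw [he]
  exact h.map φ.toIntAlgHom

/-- The transposed operator has the inverted trace function. -/
theorem tf_transpose {R : Ω → Ω → ℂ} (hR : Inv G R) (g : G) :
    tf (Cfsg.permRep ℂ G Ω) (op fun x y => R y x) g = tf (Cfsg.permRep ℂ G Ω) (op R) g⁻¹ := by
  rw [tf_op, tf_op]
  refine Finset.sum_congr rfl fun x _ => ?_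
  rw [← hR g⁻¹ (g • x) x, inv_smul_smul]

/-! ### Orbitals -/

/-- The indicator of the orbital containing a pair. -/
noncomputable def orbital (G : Type u) [Group G] {Ω : Type v} [MulAction G Ω] (a b : Ω) :
    Ω → Ω → ℤ := by
  classical
  exact fun x y => if ∃ g : G, g • a = x ∧ g • b = y then 1 else 0

theorem orbital_inv (a b : Ω) : Inv G fun x y => (orbital G a b x y : ℂ) := by
  classical
  intro g x y
  have h : (∃ k : G, k • a = g • x ∧ k • b = g • y) ↔ ∃ k : G, k • a = x ∧ k • b = y := by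
    refine ⟨fun ⟨h, h1, h2⟩ => ⟨g⁻¹ * h, ?_, ?_⟩, fun ⟨h, h1, h2⟩ => ⟨g * h, ?_, ?_⟩⟩
    · rw [mul_smul, h1, inv_smul_smul]
    · rw [mul_smul, h2, inv_smul_smul]
    · rw [mul_smul, h1]
    · rw [mul_smul, h2]
  simp only [orbital, h]
  congr

variable [MulAction.IsPretransitive G Ω]

theorem sum_orbital (a b x : Ω) :
    ∑ y, (orbital G a b x y : ℂ) = (Nat.card (MulAction.orbit (MulAction.stabilizer G a) b) : ℂ) := by
  classical
  obtain ⟨g, rfl⟩ := MulAction.exists_smul_eq G a x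
  have h : ∀ y, (∃ h : G, h • a = g • a ∧ h • b = y) ↔
      g⁻¹ • y ∈ MulAction.orbit (MulAction.stabilizer G a) b := by
    intro y
    constructor
    · rintro ⟨h, h1, rfl⟩
      refine ⟨⟨g⁻¹ * h, ?_⟩, mul_smul _ _ _⟩
      rw [MulAction.mem_stabilizer_iff, mul_smul, h1, inv_smul_smul]
    · rintro ⟨k, hk⟩
      refine ⟨g * k, ?_, ?_⟩
      · rw [mul_smul, MulAction.mem_stabilizer_iff.1 k.2]
      · rw [mul_smul, show (k : G) • b = g⁻¹ • y from hk, smul_inv_smul]
  simp only [orbital, h, Int.cast_ite, Int.cast_one, Int.cast_zero]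
  rw [Finset.sum_boole, ← Fintype.card_subtype, ← Nat.card_eq_fintype_card]
  exact congrArg _ (Nat.card_congr ((MulAction.toPerm g⁻¹).subtypeEquiv fun y => Iff.rfl))

theorem card_mul_sum_smul (f : Ω → ℂ) (x : Ω) :
    (Fintype.card Ω : ℂ) * ∑ g : G, f (g • x) = (Nat.card G : ℂ) * ∑ y, f y := by
  have h : ∀ x', ∑ g : G, f (g • x') = ∑ g : G, f (g • x) := fun x' => by
    obtain ⟨k, rfl⟩ := MulAction.exists_smul_eq G x x'
    exact Fintype.sum_equiv (Equiv.mulRight k) _ _ fun g => by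
      rw [Equiv.coe_mulRight, mul_smul]
  have h2 : ∑ x', ∑ g : G, f (g • x') = (Fintype.card Ω : ℂ) * ∑ g : G, f (g • x) := by
    simp only [h, Finset.sum_const, Finset.card_univ, nsmul_eq_mul]
  rw [← h2, Finset.sum_comm, Nat.card_eq_fintype_card]
  have h3 : ∀ g : G, ∑ x', f (g • x') = ∑ y, f y := fun g => Equiv.sum_comp (MulAction.toPerm g) f
  simp only [h3, Finset.sum_const, Finset.card_univ, nsmul_eq_mul]

/-- The coefficient at the principal character is the row sum. -/
theorem classInner_tf_op_one [Nonempty Ω] {R : Ω → Ω → ℂ} {d : ℂ} (hd : ∀ x, ∑ y, R x y = d) :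
    Cfsg.classInner (tf (Cfsg.permRep ℂ G Ω) (op R)) (fun _ => 1) = d := by
  refine mul_left_cancel₀ (Nat.cast_ne_zero.2 (Nat.card_pos (α := G)).ne' : (Nat.card G : ℂ) ≠ 0) ?_
  rw [card_mul_classInner]
  simp only [tf_op, map_one, mul_one]
  rw [Finset.sum_comm]
  refine mul_left_cancel₀ (Nat.cast_ne_zero.2 Fintype.card_ne_zero : (Fintype.card Ω : ℂ) ≠ 0) ?_
  rw [Finset.mul_sum]
  simp only [card_mul_sum_smul, hd, Finset.sum_const, Finset.card_univ, nsmul_eq_mul]

theorem classInner_pc_one [Nonempty Ω] : Cfsg.classInner (pc G Ω) (fun _ => 1) = 1 := by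
  have : Nat.card (MulAction.orbitRel.Quotient G Ω) = 1 := by
    rw [Nat.card_eq_one_iff_unique]
    exact ⟨MulAction.pretransitive_iff_subsingleton_quotient G Ω |>.1 inferInstance,
      ⟨Quotient.mk _ (Classical.arbitrary Ω)⟩⟩
  show Cfsg.classInner (fun g : G => (Nat.card (MulAction.fixedBy Ω g) : ℂ)) (fun _ => 1) = 1
  rw [CharBasicPerm.classInner_fixedBy_one, this, Nat.cast_one]

theorem card_orbitals (a : Ω) :
    Nat.card (MulAction.orbitRel.Quotient G (Ω × Ω)) =
      Nat.card (MulAction.orbitRel.Quotient (MulAction.stabilizer G a) Ω) := by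
  refine (Nat.card_eq_of_bijective (Quotient.map (fun x => (a, x)) ?_) ⟨?_, ?_⟩).symm
  · rintro x y ⟨k, hk⟩
    exact ⟨(k : G), Prod.ext (MulAction.mem_stabilizer_iff.1 k.2) hk⟩
  · intro q₁ q₂
    induction q₁ using Quotient.inductionOn with | _ x => ?_
    induction q₂ using Quotient.inductionOn with | _ y => ?_
    intro h
    rw [Quotient.map_mk, Quotient.map_mk, Quotient.eq] at h
    obtain ⟨g, hg⟩ := h
    exact Quotient.sound ⟨⟨g, congrArg Prod.fst hg⟩, congrArg Prod.snd hg⟩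
  · intro q
    induction q using Quotient.inductionOn with | _ p => ?_
    obtain ⟨g, hg⟩ := MulAction.exists_smul_eq G p.1 a
    exact ⟨Quotient.mk _ (g • p.2), Quotient.sound ⟨g, Prod.ext hg rfl⟩⟩

theorem classInner_pc_self (a : Ω) : Cfsg.classInner (pc G Ω) (pc G Ω) =
    (Nat.card (MulAction.orbitRel.Quotient (MulAction.stabilizer G a) Ω) : ℂ) := by
  show Cfsg.classInner (fun g : G => (Nat.card (MulAction.fixedBy Ω g) : ℂ))
    (fun g : G => (Nat.card (MulAction.fixedBy Ω g) : ℂ)) = _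
  rw [CharBasicPerm.classInner_fixedBy_self, card_orbitals a]

/-- The trace relation for the orbital of a pair of distinct points. -/
theorem orbital_relation [Nonempty Ω] {a b : Ω} (hab : b ≠ a) :
    ∃ c : Cfsg.IrrCharacter G → ℂ, (∀ χ, IsIntegral ℤ (c χ)) ∧
      (∀ χ : Cfsg.IrrCharacter G, Cfsg.classInner (pc G Ω) (χ : G → ℂ) = 0 → c χ = 0) ∧
      c (trivIrr G) = (Nat.card (MulAction.orbit (MulAction.stabilizer G a) b) : ℂ) ∧
      ∑ χ, c χ * (χ : G → ℂ) 1 = 0 := by
  classical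
  set R : Ω → Ω → ℂ := fun x y => (orbital G a b x y : ℂ) with hR
  have hA := op_commutes (G := G) (R := R) (orbital_inv a b)
  refine ⟨fun χ => Cfsg.classInner (tf (Cfsg.permRep ℂ G Ω) (op R)) (χ : G → ℂ),
    fun χ => isIntegral_classInner_tf _ hA (isIntegral_op _) (isCharacter_of_isIrrCharacter χ.2),
    fun χ h => classInner_tf_eq_zero _ hA (isCharacter_of_isIrrCharacter χ.2) (by rw [character_eq]; exact h),
    classInner_tf_op_one fun x => sum_orbital a b x, ?_⟩
  have h := congrFun (eq_sum_classInner (isClassFunction_tf _ hA)) 1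
  rw [tf_op, Finset.sum_apply] at h
  simp only [Pi.smul_apply, smul_eq_mul] at h
  rw [← h]
  refine Finset.sum_eq_zero fun x _ => ?_
  simp only [hR, orbital, one_smul]
  rw [if_neg, Int.cast_zero]
  rintro ⟨g, h1, h2⟩
  exact hab (MulAction.injective g (h2.trans h1.symm))

/-- A common divisor of the degrees of the non-principal constituents divides the subdegrees. -/
theorem dvd_subdegree [Nonempty Ω] (f : ℕ)
    (hf : ∀ χ : G → ℂ, Cfsg.IsIrrCharacter G χ → χ ≠ (fun _ => 1) →
      Cfsg.classInner (pc G Ω) χ ≠ 0 → ∃ m : ℕ, χ 1 = (f : ℂ) * m)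
    {a b : Ω} (hab : b ≠ a) : f ∣ Nat.card (MulAction.orbit (MulAction.stabilizer G a) b) := by
  classical
  obtain ⟨c, hint, hzero, htriv, hsum⟩ := orbital_relation (G := G) hab
  rw [← Finset.add_sum_erase _ _ (Finset.mem_univ (trivIrr G)), htriv] at hsum
  have hterm : ∀ χ ∈ (Finset.univ : Finset (Cfsg.IrrCharacter G)).erase (trivIrr G),
      ∃ z : ℂ, IsIntegral ℤ z ∧ c χ * (χ : G → ℂ) 1 = (f : ℂ) * z := by
    intro χ hχ
    by_cases h0 : Cfsg.classInner (pc G Ω) (χ : G → ℂ) = 0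
    · exact ⟨0, isIntegral_zero, by rw [hzero χ h0, zero_mul, mul_zero]⟩
    obtain ⟨m, hm⟩ := hf χ χ.2 (fun e => (Finset.mem_erase.1 hχ).1 (Subtype.ext e)) h0
    exact ⟨c χ * (m : ℂ), (hint χ).mul (map_natCast (algebraMap ℤ ℂ) m ▸ isIntegral_algebraMap),
      by rw [hm]; ring⟩
  choose! z hz1 hz2 using hterm
  rw [Finset.sum_congr rfl hz2, ← Finset.mul_sum, show (trivIrr G : G → ℂ) 1 = 1 from rfl, mul_one] at hsum
  rcases Nat.eq_zero_or_pos f with rfl | hpos
  · rw [Nat.cast_zero, zero_mul, add_zero] at hsum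
    exact zero_dvd_iff.2 (by exact_mod_cast hsum)
  · refine CharBasicInt.dvd_of_isIntegral_div hpos.ne' ?_
    rw [eq_neg_of_add_eq_zero_left hsum, neg_div, mul_div_cancel_left₀ _ (Nat.cast_ne_zero.2 hpos.ne')]
    exact (IsIntegral.sum _ hz1).neg

end Cfsg.Agent.PermOrbital28
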