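import Mathlib
import Cfsg.Agent.Lib.Order5616Sylow81
import Cfsg.Agent.Lib.Order5616Degrees81
import Cfsg.Agent.Lib.PermOrbital28

/-!
A simple group of order `5616` has a subgroup of index `13`, and acts doubly transitively on its
cosets, with permutation character `1 + χ` for the irreducible character `χ` of degree `12`.
-/

set_option autoImplicit false
set_option linter.style.haveILetI false
set_option linter.unusedSectionVars false

open scoped ComplexConjugate

namespace Cfsg.Agent.Order5616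

open Cfsg Cfsg.Agent.BlockPrincipal81 Cfsg.Agent.BlockCount91 Cfsg.Agent.PermOrbital28
  Cfsg.Agent.SimpleOrder

theorem suborbit_key : ∀ x ∈ List.range 26, ∀ y ∈ List.range 26, 216 % x = 0 → 216 % y = 0 →
    x + y = 25 → x = 1 ∨ y = 1 := by decide +kernel

attribute [local instance] Classical.propDecidable

variable {G : Type*} [Group G] [Fintype G] [IsSimpleGroup G]
variable {Ω : Type*} [Fintype Ω] [MulAction G Ω] [MulAction.IsPretransitive G Ω]

/-- The permutation character of a transitive action of degree `13` or `26`. -/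
theorem constituents (hG : ¬ IsMulCommutative G) (hn : Nat.card G = 5616) (a : Ω)
    (hΩ : Fintype.card Ω = 13 ∨ Fintype.card Ω = 26) :
    ∃ m : IrrCharacter G → ℕ, pc G Ω = ∑ ψ : IrrCharacter G, (m ψ : ℂ) • (ψ : G → ℂ) ∧
      m (oneChar G) = 1 ∧
      Nat.card (MulAction.orbitRel.Quotient (MulAction.stabilizer G a) Ω) =
        (if Fintype.card Ω = 13 then 2 else 3) ∧
      (Fintype.card Ω = 13 → ∀ ψ, ψ ≠ oneChar G → 0 < m ψ → m ψ = 1 ∧ deg ψ = 12) := by
  haveI : Nonempty Ω := ⟨a⟩
  obtain ⟨hdeg, huniq, -⟩ := characters hG hn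
  obtain ⟨m, hm, hdec⟩ := CharBasicDecomp.exists_mult (isCharacter_pc (G := G) (Ω := Ω))
  have hm1 : m (oneChar G) = 1 := by
    have h := hm (oneChar G)
    rw [show (oneChar G : G → ℂ) = fun _ => 1 from rfl, classInner_pc_one] at h
    exact_mod_cast h.symm
  have hsum : ∑ ψ : IrrCharacter G, m ψ * deg ψ = Fintype.card Ω := by
    have h := congrFun hdec 1
    rw [pc_one, Finset.sum_apply] at h
    simp only [Pi.smul_apply, smul_eq_mul, BlockCount91.apply_one] at h
    exact_mod_cast h.symm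
  rw [← Finset.add_sum_erase _ _ (Finset.mem_univ (oneChar G)), hm1, deg_one, one_mul] at hsum
  set E := (Finset.univ : Finset (IrrCharacter G)).erase (oneChar G) with hE
  have hsmall : ∀ ψ ∈ E, 0 < m ψ → deg ψ = 12 ∨ deg ψ = 13 ∨ deg ψ = 16 := by
    intro ψ hψ hpos
    have h1 : deg ψ ≤ 25 := by
      have h2 : m ψ * deg ψ ≤ ∑ η ∈ E, m η * deg η :=
        Finset.single_le_sum (f := fun η => m η * deg η) (fun _ _ => Nat.zero_le _) hψ
      have h3 : deg ψ ≤ m ψ * deg ψ := Nat.le_mul_of_pos_left _ hpos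
      omega
    have h0 := deg_pos ψ
    rcases hdeg ψ (Finset.mem_erase.1 hψ).1 with e | e | e | ⟨j, hj⟩ <;> omega
  set A := ∑ ψ ∈ E, if deg ψ = 12 then m ψ else 0 with hA
  set B := ∑ ψ ∈ E, if deg ψ = 13 then m ψ else 0 with hB
  set C := ∑ ψ ∈ E, if deg ψ = 16 then m ψ else 0 with hC
  have hABC : 12 * A + 13 * B + 16 * C + 1 = Fintype.card Ω := by
    rw [← hsum, hA, hB, hC, Finset.mul_sum, Finset.mul_sum, Finset.mul_sum, ← Finset.sum_add_distrib,
      ← Finset.sum_add_distrib, add_comm]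
    congr 1
    refine Finset.sum_congr rfl fun ψ hψ => ?_
    rcases Nat.eq_zero_or_pos (m ψ) with h0 | hpos
    · simp [h0]
    · rcases hsmall ψ hψ hpos with e | e | e <;> simp [e, mul_comm]
  have hone : ∀ ψ ∈ E, 0 < m ψ → m ψ = 1 ∧ (Fintype.card Ω = 13 → deg ψ = 12) := by
    intro ψ hψ hpos
    have hle : ∀ k, deg ψ = k → m ψ ≤ ∑ η ∈ E, if deg η = k then m η else 0 := fun k hk => by
      refine le_trans (le_of_eq ?_) (Finset.single_le_sum (f := fun η => if deg η = k then m η else 0)
        (fun _ _ => Nat.zero_le _) hψ)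
      rw [if_pos hk]
    rcases hsmall ψ hψ hpos with e | e | e <;> have := hle _ e <;>
      rcases hΩ with h | h <;> rw [h] at hABC ⊢ <;> refine ⟨by omega, fun _ => ?_⟩ <;> omega
  refine ⟨m, hdec, hm1, ?_, fun h13 ψ hψ hpos => ?_⟩
  · have hnorm : classInner (pc G Ω) (pc G Ω) = ((∑ ψ : IrrCharacter G, m ψ * m ψ : ℕ) : ℂ) := by
      conv_lhs => arg 1; rw [hdec]
      rw [CharBasicOrth.classInner_sum_left, Nat.cast_sum]
      refine Finset.sum_congr rfl fun ψ _ => ?_
      rw [CharBasicOrth.classInner_smul_left, ← CharBasicOrth.conj_classInner, hm ψ, map_natCast,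
        Nat.cast_mul]
    rw [classInner_pc_self a, Nat.cast_inj] at hnorm
    rw [hnorm, ← Finset.add_sum_erase _ _ (Finset.mem_univ (oneChar G)), hm1, ← hE,
      Finset.sum_congr rfl (g := fun ψ => (if deg ψ = 12 then m ψ else 0) + (if deg ψ = 13 then m ψ else 0) +
        (if deg ψ = 16 then m ψ else 0)) (fun ψ hψ => by
        rcases Nat.eq_zero_or_pos (m ψ) with h0 | hpos
        · simp [h0]
        · rw [(hone ψ hψ hpos).1]
          rcases hsmall ψ hψ hpos with e | e | e <;> simp [e]),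
      Finset.sum_add_distrib, Finset.sum_add_distrib, ← hA, ← hB, ← hC]
    rcases hΩ with h | h <;> rw [h] at hABC ⊢ <;> simp only [if_pos, Nat.reduceEqDiff, if_false] <;> omega
  · obtain ⟨h1, h2⟩ := hone ψ (Finset.mem_erase.2 ⟨hψ, Finset.mem_univ _⟩) hpos
    exact ⟨h1, h2 h13⟩

/-- No involution fixes `9` or `11` of `13` points. -/
theorem fixed_ne (hG : ¬ IsMulCommutative G) (hn : Nat.card G = 5616) (hΩ : Fintype.card Ω = 13)
    {t : G} (ht : orderOf t = 2) :
    Nat.card (MulAction.fixedBy Ω t) ≠ 9 ∧ Nat.card (MulAction.fixedBy Ω t) ≠ 11 := by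
  obtain ⟨a⟩ : Nonempty Ω := Fintype.card_pos_iff.1 (by omega)
  obtain ⟨m, hdec, hm1, -, hshape⟩ := constituents hG hn a (Or.inl hΩ)
  obtain ⟨-, huniq, hval⟩ := characters hG hn
  -- the nontrivial constituent
  obtain ⟨η, hη1, hηpos⟩ : ∃ η, η ≠ oneChar G ∧ 0 < m η := by
    by_contra h
    push Not at h
    have h1 := congrFun hdec 1
    rw [pc_one, Finset.sum_apply, hΩ, Finset.sum_eq_single (oneChar G) (fun ψ _ hψ => by
      simp [Nat.le_zero.1 (h ψ hψ)]) (fun h => absurd (Finset.mem_univ _) h), hm1] at h1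
    simp only [Pi.smul_apply, smul_eq_mul, BlockPrincipal81.oneChar] at h1
    norm_num at h1
  obtain ⟨hmη, hdη⟩ := hshape hΩ η hη1 hηpos
  have hpc : pc G Ω t = 1 + (η : G → ℂ) t := by
    rw [congrFun hdec t, Finset.sum_apply,
      ← Finset.add_sum_erase _ _ (Finset.mem_univ (oneChar G)), hm1,
      Finset.sum_eq_single η (fun ψ hψ hne => by
        obtain ⟨hψ1, -⟩ := Finset.mem_erase.1 hψ
        rcases Nat.eq_zero_or_pos (m ψ) with h0 | hpos
        · simp [h0]
        · exact absurd (huniq ψ η (hshape hΩ ψ hψ1 hpos).2 hdη) hne)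
        (fun h => absurd (Finset.mem_erase.2 ⟨hη1, Finset.mem_univ _⟩) h), hmη]
    simp [BlockPrincipal81.oneChar]
  obtain ⟨h8, h10⟩ := hval η hdη t ht
  unfold pc at hpc
  constructor <;> intro h <;> rw [h] at hpc
  · exact h8 (by push_cast at hpc; linear_combination -hpc)
  · exact h10 (by push_cast at hpc; linear_combination -hpc)

theorem sum_card_orbits {H : Subgroup G} [Fintype (MulAction.orbitRel.Quotient H Ω)] :
    ∑ q : MulAction.orbitRel.Quotient H Ω, Nat.card q.orbit = Fintype.card Ω := by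
  rw [← Nat.card_sigma, ← Nat.card_eq_fintype_card]
  exact (Nat.card_congr (MulAction.selfEquivSigmaOrbits' H Ω)).symm

/-- The action of degree `13` is doubly transitive. -/
theorem two_transitive (hG : ¬ IsMulCommutative G) (hn : Nat.card G = 5616) (hΩ : Fintype.card Ω = 13)
    {a x y : Ω} (hx : x ≠ a) (hy : y ≠ a) : ∃ g : G, g • a = a ∧ g • x = y := by
  obtain ⟨-, -, -, hcard, -⟩ := constituents hG hn a (Or.inl hΩ)
  rw [if_pos hΩ] at hcard
  set q : Ω → MulAction.orbitRel.Quotient (MulAction.stabilizer G a) Ω := fun z => Quotient.mk'' z with hq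
  have hne : ∀ z, z ≠ a → q z ≠ q a := by
    intro z hz h
    obtain ⟨g, hg⟩ := Quotient.exact' h
    have hg' : (g : G) • a = z := hg
    exact hz (hg'.symm.trans g.2)
  rw [Nat.card_eq_two_iff' (q a)] at hcard
  obtain ⟨g, hg⟩ := Quotient.exact' (hcard.unique (hne y hy) (hne x hx))
  exact ⟨g, g.2, hg⟩

end Cfsg.Agent.Order5616

namespace Cfsg.Agent.Order5616

open Cfsg.Agent.SimpleOrder

variable {G : Type*} [Group G] [Finite G] [IsSimpleGroup G]

/-- There is a subgroup of index `13`. -/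
theorem exists_index_thirteen (hG : ¬ IsMulCommutative G) (hn : Nat.card G = 5616) :
    ∃ H : Subgroup G, H.index = 13 := by
  haveI := Fintype.ofFinite G
  obtain ⟨H, hH⟩ := exists_large_subgroup hG hn
  have hidx : ∀ {K : Subgroup G}, Nat.card K = 432 → K.index = 13 := fun {K} h => by
    have h1 := K.card_mul_index
    rw [h, hn] at h1
    omega
  rcases hH with hH | hH
  swap
  · exact ⟨H, hidx hH⟩
  classical
  have hΩ : Fintype.card (G ⧸ H) = 26 := by
    rw [← Nat.card_eq_fintype_card, ← Subgroup.index_eq_card]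
    have h1 := H.card_mul_index
    rw [hH, hn] at h1
    omega
  set a : G ⧸ H := ((1 : G) : G ⧸ H) with ha
  obtain ⟨-, -, -, hcard, -⟩ := constituents hG hn a (Or.inr hΩ)
  rw [if_neg (by omega)] at hcard
  have hstab : MulAction.stabilizer G a = H := MulAction.stabilizer_quotient H
  set K := MulAction.stabilizer G a with hK
  set qa : MulAction.orbitRel.Quotient K (G ⧸ H) := Quotient.mk'' a with hqa
  have hsum : ∑ q : MulAction.orbitRel.Quotient K (G ⧸ H), Nat.card q.orbit = 26 :=
    (sum_card_orbits).trans hΩ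
  rw [Nat.card_eq_fintype_card] at hcard
  replace hcard : (Finset.univ : Finset (MulAction.orbitRel.Quotient K (G ⧸ H))).card = 3 := by
    rw [← hcard, ← Finset.card_univ]; exact congrArg Finset.card (Finset.ext fun _ => iff_of_true (Finset.mem_univ _) (Finset.mem_univ _))
  obtain ⟨q1, q2, hne, hq⟩ := Finset.card_eq_two.1
    (show (Finset.univ.erase qa).card = 2 by rw [Finset.card_erase_of_mem (Finset.mem_univ _), hcard])
  rw [← Finset.add_sum_erase _ _ (Finset.mem_univ qa), hq, Finset.sum_pair hne] at hsum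
  have hfix : Nat.card qa.orbit = 1 := by
    rw [hqa, MulAction.orbitRel.Quotient.orbit_mk, Nat.card_eq_one_iff_unique]
    refine ⟨⟨fun x y => ?_⟩, ⟨a, MulAction.mem_orbit_self a⟩⟩
    obtain ⟨g, hg⟩ := x.2
    obtain ⟨g', hg'⟩ := y.2
    exact Subtype.ext (hg.symm.trans ((g.2 : (g : G) • a = a).trans ((g'.2 : (g' : G) • a = a).symm.trans hg')))
  rw [hfix] at hsum
  have hdvd : ∀ q : MulAction.orbitRel.Quotient K (G ⧸ H), Nat.card q.orbit ∣ 216 := by
    intro q
    induction q using Quotient.inductionOn' with | _ x => ?_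
    rw [MulAction.orbitRel.Quotient.orbit_mk, Nat.card_coe_set_eq, ← MulAction.index_stabilizer]
    exact (Subgroup.index_dvd_card _).trans (by rw [hstab, hH])
  have hex : ∃ q ∈ Finset.univ.erase qa, Nat.card q.orbit = 1 := by
    rw [hq]
    rcases suborbit_key _ (List.mem_range.2 (by omega)) _ (List.mem_range.2 (by omega))
      (Nat.mod_eq_zero_of_dvd (hdvd q1)) (Nat.mod_eq_zero_of_dvd (hdvd q2)) (by omega) with h | h
    · exact ⟨q1, by simp, h⟩
    · exact ⟨q2, by simp, h⟩
  obtain ⟨q, hqne, hq1⟩ := hex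
  induction q using Quotient.inductionOn' with | _ b => ?_
  rw [MulAction.orbitRel.Quotient.orbit_mk] at hq1
  have hba : b ≠ a := fun e => (Finset.mem_erase.1 hqne).1 (by rw [e])
  have hall : ∀ h ∈ H, h • b = b := by
    intro h hh
    have hs := (Nat.card_eq_one_iff_unique.1 hq1).1
    have := hs.elim ⟨(⟨h, hstab.ge hh⟩ : K) • b, MulAction.mem_orbit _ _⟩ ⟨b, MulAction.mem_orbit_self b⟩
    exact congrArg Subtype.val this
  obtain ⟨g, rfl⟩ := QuotientGroup.mk_surjective b
  have hgH : g ∉ H := fun h => hba (QuotientGroup.eq.2 (by simpa using H.inv_mem h))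
  have hconj : ∀ h ∈ H, g⁻¹ * h * g ∈ H := by
    intro h hh
    have := hall h hh
    rw [MulAction.Quotient.smul_mk, QuotientGroup.eq] at this
    have h2 := H.inv_mem this
    simpa [mul_assoc] using h2
  have hgN : g⁻¹ ∈ Subgroup.normalizer (H : Set G) := by
    have hle : H.map (MulAut.conj g⁻¹).toMonoidHom ≤ H := by
      rintro _ ⟨x, hx, rfl⟩
      simpa using hconj x hx
    have heq := Subgroup.eq_of_le_of_card_ge hle
      (Subgroup.card_map_of_injective (f := (MulAut.conj g⁻¹).toMonoidHom) (MulAut.conj g⁻¹).injective).ge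
    refine Subgroup.mem_normalizer_iff.2 fun w => ⟨fun hw => by simpa using hconj w hw, fun hw => ?_⟩
    obtain ⟨z, hz, hzw⟩ := heq.symm ▸ hw
    simp only [MulEquiv.coe_toMonoidHom, MulAut.conj_apply, inv_inv] at hzw
    have : z = w := by simpa using hzw
    exact this ▸ hz
  set N := Subgroup.normalizer (H : Set G) with hN
  have hNtop : N ≠ ⊤ := normalizer_ne_top_of_card hn (by rw [hH]; norm_num) (by rw [hH]; norm_num)
  obtain ⟨j, hj⟩ := Subgroup.card_dvd_of_le (Subgroup.le_normalizer : H ≤ N)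
  rw [hH] at hj
  have hj1 : j ≠ 1 := fun e => hgH (inv_mem_iff.1 ((Subgroup.eq_of_le_of_card_ge
    (Subgroup.le_normalizer : H ≤ N) (by rw [hH, hj, e])).symm ▸ hgN))
  have hle := (card_le hG hn hNtop).2
  have hpos : 0 < Nat.card N := Nat.card_pos
  refine ⟨N, hidx ?_⟩
  rw [← hN] at hj
  omega

end Cfsg.Agent.Order5616
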