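import Mathlib
import Cfsg.Agent.Lib.Order5616Index81
import Cfsg.Agent.Lib.CommGraphL33Plane

/-!
A simple group of order `5616` is the collineation group of the projective plane of order `3`:
the fixed-point sets of the Sylow `3`-subgroups of two-point stabilizers are the lines.
-/

set_option autoImplicit false
set_option linter.style.haveILetI false
set_option maxRecDepth 4000

namespace Cfsg.Agent.Order5616

open MulAction Cfsg.Agent.SimpleOrder

/-- A planar difference set. -/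
def D0 : Finset (ZMod 13) := {0, 1, 3, 9}

/-- The labelling of the points by residues. -/
def toZ : Fin 13 → ZMod 13 := ![0, 11, 1, 4, 10, 9, 7, 12, 3, 2, 6, 8, 5]

/-- The inverse labelling. -/
def ofZ : ZMod 13 → Fin 13 := ![0, 2, 9, 8, 3, 12, 10, 6, 11, 5, 4, 1, 7]

/-- The translation attached to a line. -/
def lineShift : Fin 13 → ZMod 13 := ![11, 0, 10, 3, 5, 2, 12, 4, 8, 6, 1, 7, 9]

theorem toZ_spec : (∀ p, ofZ (toZ p) = p) ∧ (∀ i, toZ (ofZ i) = i) := by decide +kernel

/-- The labelling as a bijection. -/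
def toZEquiv : Fin 13 ≃ ZMod 13 := ⟨toZ, ofZ, toZ_spec.1, toZ_spec.2⟩

theorem inc_iff : ∀ p l, CommGraphL33.inc p l = true ↔ toZ p - lineShift l ∈ D0 := by decide +kernel

theorem lineShift_surj : ∀ s : ZMod 13, ∃ l, lineShift l = s := by decide +kernel

theorem D0_cover : ∀ i j : ZMod 13, ∃ s, i - s ∈ D0 ∧ j - s ∈ D0 := by decide +kernel

theorem D0_two : ∃ i j : ZMod 13, i ≠ j ∧ i ∈ D0 ∧ j ∈ D0 := by decide +kernel

theorem difference_set_key : ∀ a b : ZMod 13, ({0, 1, a, b} : Finset (ZMod 13)).card = 4 →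
    (∀ i ∈ ({0, 1, a, b} : Finset (ZMod 13)), ∀ j ∈ ({0, 1, a, b} : Finset (ZMod 13)),
      ∀ i' ∈ ({0, 1, a, b} : Finset (ZMod 13)), ∀ j' ∈ ({0, 1, a, b} : Finset (ZMod 13)),
        i ≠ j → j - i = j' - i' → i = i') →
    (∃ s : ZMod 13, ({0, 1, a, b} : Finset (ZMod 13)).image (fun x => 3 * x) =
      ({0, 1, a, b} : Finset (ZMod 13)).image (fun x => x + s)) →
    ∃ c t : ZMod 13, c ≠ 0 ∧ ({0, 1, a, b} : Finset (ZMod 13)) = D0.image (fun x => c * x + t) := by
  decide +kernel

theorem cube_key : ∀ k ∈ List.range 13, k ^ 3 % 13 = 1 → k ≠ 1 → k = 3 ∨ k = 9 := by decide +kernel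

variable {G : Type*} [Group G] [Finite G] [IsSimpleGroup G]
variable {Ω : Type*} [Fintype Ω] [MulAction G Ω] [IsPretransitive G Ω]

/-- A subgroup containing two Sylow `3`-subgroups of a group of order `36` is everything. -/
theorem eq_of_two_sylows {T S V W : Subgroup G} (hT : Nat.card T = 36) (hST : S ≤ T) (hV : V ≤ S)
    (hW : W ≤ S) (hV9 : Nat.card V = 9) (hW9 : Nat.card W = 9) (hne : V ≠ W) : S = T := by
  haveI := fact_three
  refine Subgroup.eq_of_le_of_card_ge hST ?_
  obtain ⟨i, hi⟩ := Subgroup.card_dvd_of_le hV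
  have h1 := Subgroup.card_dvd_of_le hST
  rw [hi, hV9, hT, show 36 = 9 * 4 by norm_num] at h1
  have hi4 : i ∣ 4 := Nat.dvd_of_mul_dvd_mul_left (by norm_num) h1
  have hi0 : 0 < i := Nat.pos_of_dvd_of_pos hi4 (by norm_num)
  have hi3 : ¬ 3 ∣ i := fun h => absurd (h.trans hi4) (by norm_num)
  have hs : ∀ X : Subgroup G, X ≤ S → Nat.card X = 9 →
      ∃ Y : Sylow 3 S, (Y : Subgroup S) = X.subgroupOf S := by
    intro X hX hX9
    refine ⟨Sylow.ofCard (X.subgroupOf S) ?_, rfl⟩
    rw [Nat.card_congr (Subgroup.subgroupOfEquivOfLe hX).toEquiv, hX9, hi, hV9,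
      show 9 * i = 3 ^ 2 * i by ring, Nat.factorization_mul (by norm_num) hi0.ne',
      Nat.Prime.factorization_pow Nat.prime_three, Finsupp.add_apply, Finsupp.single_eq_same,
      Nat.factorization_eq_zero_of_not_dvd hi3, add_zero]
    norm_num
  obtain ⟨YV, hYV⟩ := hs V hV hV9
  obtain ⟨YW, hYW⟩ := hs W hW hW9
  have hq1 : Nat.card (Sylow 3 S) ≠ 1 := by
    intro h
    have := (Nat.card_eq_one_iff_unique.1 h).1
    have h' : V.subgroupOf S = W.subgroupOf S := by rw [← hYV, ← hYW, Subsingleton.elim YV YW]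
    rw [Subgroup.subgroupOf_inj, inf_eq_left.2 hV, inf_eq_left.2 hW] at h'
    exact hne h'
  have hqd : Nat.card (Sylow 3 S) ∣ i := card_sylow_dvd (p := 3) (k := 2) (by rw [hi, hV9]; norm_num) hi3
  have hq3 : Nat.card (Sylow 3 S) % 3 = 1 := card_sylow_modEq_one 3 S
  have key : ∀ q ∈ List.range 5, ∀ i ∈ List.range 5, 4 % i = 0 → i % q = 0 → q % 3 = 1 → q ≠ 1 → i = 4 := by
    decide +kernel
  have h4 := Nat.le_of_dvd (by norm_num) hi4
  have hq4 := Nat.le_of_dvd hi0 hqd
  rw [hi, hV9, hT, key _ (List.mem_range.2 (by omega)) i (List.mem_range.2 (by omega))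
    (Nat.mod_eq_zero_of_dvd hi4) (Nat.mod_eq_zero_of_dvd hqd) hq3 hq1]

theorem faithful (hΩ : Fintype.card Ω = 13) {g : G} (h : ∀ x : Ω, g • x = x) : g = 1 := by
  have hk : g ∈ (toPermHom G Ω).ker := MonoidHom.mem_ker.2 (Equiv.ext h)
  rcases eq_bot_or_top (MonoidHom.normal_ker (toPermHom G Ω)) with e | e
  · rwa [e, Subgroup.mem_bot] at hk
  · exfalso
    obtain ⟨x, y, hxy⟩ := Fintype.exists_pair_of_one_lt_card (α := Ω) (by omega)
    obtain ⟨a, ha⟩ := exists_smul_eq G x y
    have hm : a ∈ (toPermHom G Ω).ker := e ▸ Subgroup.mem_top a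
    exact hxy ((Equiv.ext_iff.1 (MonoidHom.mem_ker.1 hm) x).symm.trans ha)

theorem card_pair_stabilizer (hG : ¬ IsMulCommutative G) (hn : Nat.card G = 5616) (hΩ : Fintype.card Ω = 13)
    {a b : Ω} (hab : a ≠ b) : Nat.card ↥(stabilizer G a ⊓ stabilizer G b) = 36 := by
  haveI := Fintype.ofFinite G
  set A := stabilizer G a with hA
  have hA432 : Nat.card A = 432 := by
    have h1 := A.card_mul_index
    rw [hA, index_stabilizer_of_transitive, Nat.card_eq_fintype_card (α := Ω), hΩ, ← hA, hn] at h1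
    omega
  have horb : (orbit A b).ncard = 12 := by
    have : orbit A b = {a}ᶜ := by
      ext x
      constructor
      · rintro ⟨g, rfl⟩ (hx : (g : G) • b = a)
        exact hab (MulAction.injective (g : G) ((g.2 : (g : G) • a = a).trans hx.symm))
      · intro hx
        obtain ⟨g, hg, hgx⟩ := two_transitive hG hn hΩ hab.symm (show x ≠ a from hx)
        exact ⟨⟨g, hg⟩, hgx⟩
    rw [this, Set.ncard_compl, Set.ncard_singleton, Nat.card_eq_fintype_card, hΩ]
  rw [← index_stabilizer] at horb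
  have h2 := (stabilizer A b).card_mul_index
  rw [horb, hA432] at h2
  have h3 : stabilizer A b = (A ⊓ stabilizer G b).subgroupOf A := by
    ext g
    simp [Subgroup.mem_subgroupOf, Subgroup.mem_inf, mem_stabilizer_iff, Subgroup.smul_def]
  rw [h3, Nat.card_congr (Subgroup.subgroupOfEquivOfLe inf_le_left).toEquiv] at h2
  omega

theorem no_three_cycle (hn : Nat.card G = 5616) (hΩ : Fintype.card Ω = 13) {g : G} (hg1 : g ≠ 1)
    (hg : g ^ 3 = 1) (hfix : 10 ≤ Nat.card (fixedBy Ω g)) : False := by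
  classical
  haveI := fact_three
  set φ := toPermHom G Ω with hφ
  set σ := φ g with hσ
  have hσ1 : σ ≠ 1 := fun h => hg1 (faithful hΩ fun x => Equiv.ext_iff.1 h x)
  have hsupp : σ.support.card + Nat.card (fixedBy Ω g) = 13 := by
    rw [Nat.card_eq_fintype_card, ← Set.toFinset_card, ← hΩ, ← Finset.card_univ,
      ← Finset.card_union_of_disjoint]
    · congr 1
      ext x
      simp [em, hσ, hφ, or_comm]
    · rw [Finset.disjoint_left]
      intro x hx hx'
      simp [hσ, hφ] at hx hx'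
      exact hx hx'
  have h3 : σ.IsThreeCycle := by
    refine card_support_eq_three_iff.1 ?_
    have h1 : 1 < σ.support.card := Equiv.Perm.one_lt_card_support_of_ne_one hσ1
    have hmod : 13 % 3 = Nat.card (fixedBy Ω g) % 3 := by
      have hp : IsPGroup 3 ↥(Subgroup.zpowers g) :=
        IsPGroup.of_card (n := 1) (by rw [Nat.card_zpowers, orderOf_eq_prime hg hg1, pow_one])
      have h := hp.card_modEq_card_fixedPoints Ω
      rw [Nat.card_eq_fintype_card (α := Ω), hΩ] at h
      refine h.trans (congrArg (· % 3) (Nat.card_congr (Equiv.setCongr ?_)))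
      ext x
      refine ⟨fun hx => hx ⟨g, Subgroup.mem_zpowers g⟩, fun hx => ?_⟩
      rintro ⟨w, hw⟩
      exact Subgroup.zpowers_le.2 (show g ∈ stabilizer G x from hx) hw
    omega
  haveI : IsPretransitive ↥φ.range Ω := ⟨fun x y => by
    obtain ⟨a, ha⟩ := exists_smul_eq G x y
    exact ⟨⟨φ a, a, rfl⟩, ha⟩⟩
  have hprim : IsPreprimitive ↥φ.range Ω := IsPreprimitive.of_prime_card (by
    rw [Nat.card_eq_fintype_card, hΩ]; norm_num)
  have hle := Subgroup.card_le_of_le
    (Equiv.Perm.alternatingGroup_le_of_isPreprimitive_of_isThreeCycle_mem hprim h3 ⟨g, rfl⟩)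
  haveI : Nontrivial Ω := Fintype.one_lt_card_iff_nontrivial.1 (by omega)
  rw [nat_card_alternatingGroup, Nat.card_eq_fintype_card (α := Ω), hΩ] at hle
  have h2 := Nat.card_le_card_of_surjective φ.rangeRestrict φ.rangeRestrict_surjective
  rw [hn] at h2
  have h13 : (13 : ℕ).factorial / 2 = 3113510400 := by decide +kernel
  rw [h13] at hle
  omega

theorem fix_mod {p : ℕ} [Fact p.Prime] {V : Subgroup G} (hV : IsPGroup p V) (hΩ : Fintype.card Ω = 13) :
    13 % p = (fixedPoints V Ω).ncard % p := by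
  have h := hV.card_modEq_card_fixedPoints Ω
  rw [Nat.card_eq_fintype_card (α := Ω), hΩ, Nat.card_coe_set_eq] at h
  exact h

theorem exists_fixed (hΩ : Fintype.card Ω = 13) {n : G} (hno : orderOf n = 3) : ∃ o : Ω, n • o = o := by
  haveI := fact_three
  have h := fix_mod (G := G) (Ω := Ω)
    (IsPGroup.of_card (G := Subgroup.zpowers n) (p := 3) (n := 1) (by rw [Nat.card_zpowers, hno, pow_one])) hΩ
  have hne : (fixedPoints (Subgroup.zpowers n) Ω).ncard ≠ 0 := fun h0 => by
    rw [h0] at h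
    norm_num at h
  obtain ⟨o, ho⟩ := Set.nonempty_of_ncard_ne_zero hne
  exact ⟨o, ho ⟨n, Subgroup.mem_zpowers n⟩⟩

theorem fix_four (hG : ¬ IsMulCommutative G) (hn : Nat.card G = 5616) (hΩ : Fintype.card Ω = 13)
    {V : Subgroup G} (hV : Nat.card V = 9) {a b : Ω} (hab : a ≠ b) (ha : a ∈ fixedPoints V Ω)
    (hb : b ∈ fixedPoints V Ω) : (fixedPoints V Ω).ncard = 4 := by
  haveI := fact_three
  have hmod := fix_mod (IsPGroup.of_card (G := V) (p := 3) (n := 2) (by rw [hV]; norm_num)) hΩ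
  have h2 : 2 ≤ (fixedPoints V Ω).ncard := by
    rw [← Set.ncard_pair hab]
    exact Set.ncard_le_ncard (by rintro x (rfl | rfl) <;> assumption) (Set.toFinite _)
  by_contra hne
  have h7 : 7 ≤ (fixedPoints V Ω).ncard := by omega
  haveI := IsPGroup.isMulCommutative_of_card_eq_prime_sq (p := 3) (show Nat.card V = 3 ^ 2 by rw [hV]; norm_num)
  obtain ⟨m, hm⟩ : ∃ m, m ∉ fixedPoints V Ω := by
    by_contra h
    push Not at h
    have : V = ⊥ := (Subgroup.eq_bot_iff_forall _).2 fun g hg => faithful hΩ fun x => h x ⟨g, hg⟩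
    rw [this, Subgroup.card_bot] at hV
    omega
  have hdisj : Disjoint (fixedPoints V Ω) (orbit V m) := Set.disjoint_left.2 fun x hx hxo => hm fun v => by
    obtain ⟨w, rfl⟩ := hxo
    have h := hx v
    rw [← mul_smul, IsMulCommutative.is_comm.comm v w, mul_smul] at h
    exact MulAction.injective w h
  have hsum : (fixedPoints V Ω).ncard + (orbit V m).ncard ≤ 13 := by
    rw [← Set.ncard_union_eq hdisj (Set.toFinite _) (Set.toFinite _), ← hΩ, ← Nat.card_eq_fintype_card,
      ← Set.ncard_univ]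
    exact Set.ncard_le_ncard (Set.subset_univ _) (Set.toFinite _)
  have horb : (orbit V m).ncard = 3 := by
    have h1 : (orbit V m).ncard ∣ 9 := by rw [← index_stabilizer, ← hV]; exact Subgroup.index_dvd_card _
    have h0 : 0 < (orbit V m).ncard := (Set.ncard_pos (Set.toFinite _)).2 ⟨m, mem_orbit_self m⟩
    have h1' : (orbit V m).ncard ≠ 1 := fun h => hm fun v =>
      (Set.ncard_le_one (Set.toFinite _)).1 h.le _ (mem_orbit m v) _ (mem_orbit_self m)
    have key : ∀ o ∈ List.range 7, 9 % o = 0 → 0 < o → o ≠ 1 → o = 3 := by decide +kernel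
    exact key _ (List.mem_range.2 (by omega)) (Nat.mod_eq_zero_of_dvd h1) h0 h1'
  have hstab := (stabilizer V m).card_mul_index
  rw [index_stabilizer, horb, hV] at hstab
  obtain ⟨⟨g, hgm⟩, hgo⟩ := exists_prime_orderOf_dvd_card' 3 (G := stabilizer V m)
    (by rw [show Nat.card (stabilizer V m) = 3 by omega])
  rw [Subgroup.orderOf_mk, ← Subgroup.orderOf_coe] at hgo
  refine no_three_cycle hn hΩ (g := (g : G)) (fun h => by rw [h, orderOf_one] at hgo; omega)
    (hgo ▸ pow_orderOf_eq_one _) ?_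
  rw [Nat.card_coe_set_eq]
  calc 10 ≤ (fixedPoints V Ω ∪ orbit V m).ncard := by
        rw [Set.ncard_union_eq hdisj (Set.toFinite _) (Set.toFinite _)]; omega
    _ ≤ _ := Set.ncard_le_ncard (fun x hx => by
        rcases hx with hx | ⟨w, rfl⟩
        · exact hx g
        · show g • w • m = w • m
          rw [← mul_smul, IsMulCommutative.is_comm.comm g w, mul_smul, hgm]) (Set.toFinite _)

theorem fix_unique (hG : ¬ IsMulCommutative G) (hn : Nat.card G = 5616) (hΩ : Fintype.card Ω = 13)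
    {V W : Subgroup G} (hV : Nat.card V = 9) (hW : Nat.card W = 9) {a b : Ω} (hab : a ≠ b)
    (haV : a ∈ fixedPoints V Ω) (hbV : b ∈ fixedPoints V Ω) (haW : a ∈ fixedPoints W Ω)
    (hbW : b ∈ fixedPoints W Ω) : fixedPoints V Ω = fixedPoints W Ω := by
  haveI := fact_three
  haveI : Fact (Nat.Prime 2) := ⟨Nat.prime_two⟩
  by_cases hVW : V = W
  · rw [hVW]
  set T := stabilizer G a ⊓ stabilizer G b with hTd
  have hT36 : Nat.card T = 36 := card_pair_stabilizer hG hn hΩ hab
  have hVT : V ≤ T := fun g hg => ⟨haV ⟨g, hg⟩, hbV ⟨g, hg⟩⟩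
  have hWT : W ≤ T := fun g hg => ⟨haW ⟨g, hg⟩, hbW ⟨g, hg⟩⟩
  set Z := V ⊓ W with hZd
  have hZ3 : Nat.card Z = 3 := by
    have h1 := (W.subgroupOf V).card_mul_index
    have hsub : Nat.card ↥(W.subgroupOf V) = Nat.card Z := by
      rw [← Subgroup.inf_subgroupOf_left]
      exact Nat.card_congr (Subgroup.subgroupOfEquivOfLe (inf_le_left : V ⊓ W ≤ V)).toEquiv
    rw [hsub, hV, ← Subgroup.relIndex] at h1
    have h2 : W.relIndex V ≤ W.relIndex T := Subgroup.relIndex_le_of_le_right hVT Subgroup.index_ne_zero_of_finite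
    have h3 : W.relIndex T = 4 := by
      have h := (W.subgroupOf T).card_mul_index
      rw [Nat.card_congr (Subgroup.subgroupOfEquivOfLe hWT).toEquiv, hW, hT36, ← Subgroup.relIndex] at h
      omega
    rw [h3] at h2
    have hdvd : Nat.card Z ∣ 9 := hV ▸ Subgroup.card_dvd_of_le inf_le_left
    have hne : Nat.card Z ≠ 9 := fun h => hVW (Subgroup.eq_of_le_of_card_ge
      (inf_eq_left.1 (Subgroup.eq_of_le_of_card_ge inf_le_left (by rw [hV, ← hZd, h]))) (by rw [hV, hW]))
    have key : ∀ z ∈ List.range 10, ∀ r ∈ List.range 5, 9 % z = 0 → z ≠ 9 → z * r = 9 → z = 3 := by decide +kernel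
    exact key _ (List.mem_range.2 (Nat.lt_succ_of_le (Nat.le_of_dvd (by norm_num) hdvd))) _
      (List.mem_range.2 (by omega)) (Nat.mod_eq_zero_of_dvd hdvd) hne h1
  haveI := IsPGroup.isMulCommutative_of_card_eq_prime_sq (p := 3) (show Nat.card V = 3 ^ 2 by rw [hV]; norm_num)
  haveI := IsPGroup.isMulCommutative_of_card_eq_prime_sq (p := 3) (show Nat.card W = 3 ^ 2 by rw [hW]; norm_num)
  have hTC : T ⊓ Subgroup.centralizer (Z : Set G) = T := by
    refine eq_of_two_sylows hT36 inf_le_left (le_inf hVT fun v hv => ?_) (le_inf hWT fun w hw => ?_) hV hW hVW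
    · exact Subgroup.mem_centralizer_iff.2 fun z hz =>
        congrArg Subtype.val (IsMulCommutative.is_comm.comm (⟨z, (inf_le_left : Z ≤ V) hz⟩ : V) ⟨v, hv⟩)
    · exact Subgroup.mem_centralizer_iff.2 fun z hz =>
        congrArg Subtype.val (IsMulCommutative.is_comm.comm (⟨z, (inf_le_right : Z ≤ W) hz⟩ : W) ⟨w, hw⟩)
  have hcomm : ∀ g ∈ T, ∀ z ∈ Z, g * z = z * g := fun g hg z hz =>
    (Subgroup.mem_centralizer_iff.1 (hTC.ge hg).2 z hz).symm
  have hFV : fixedPoints V Ω ⊆ fixedPoints Z Ω := fun x hx z => hx ⟨z, (inf_le_left : Z ≤ V) z.2⟩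
  have hFW : fixedPoints W Ω ⊆ fixedPoints Z Ω := fun x hx z => hx ⟨z, (inf_le_right : Z ≤ W) z.2⟩
  have hV4 := fix_four hG hn hΩ hV hab haV hbV
  have hW4 := fix_four hG hn hΩ hW hab haW hbW
  have hmod := fix_mod (IsPGroup.of_card (G := Z) (p := 3) (n := 1) (by rw [hZ3]; norm_num)) hΩ
  have hge := Set.ncard_le_ncard hFV (Set.toFinite _)
  obtain ⟨⟨z, hz⟩, hzo⟩ := exists_prime_orderOf_dvd_card' 3 (G := Z) (by rw [hZ3])
  rw [Subgroup.orderOf_mk] at hzo
  have hzZ : Subgroup.zpowers z = Z :=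
    Subgroup.eq_of_le_of_card_ge (Subgroup.zpowers_le.2 hz) (by rw [Nat.card_zpowers, hzo, hZ3])
  have hfixz : fixedPoints Z Ω = fixedBy Ω z := by
    ext x
    refine ⟨fun hx => hx ⟨z, hz⟩, fun hx w => ?_⟩
    have hw : (w : G) ∈ Subgroup.zpowers z := hzZ.ge w.2
    exact Subgroup.zpowers_le.2 (show z ∈ stabilizer G x from hx) hw
  have h10 : (fixedPoints Z Ω).ncard < 10 := by
    by_contra h
    refine no_three_cycle hn hΩ (g := z) (fun h' => by rw [h', orderOf_one] at hzo; omega)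
      (hzo ▸ pow_orderOf_eq_one _) ?_
    rw [Nat.card_coe_set_eq, ← hfixz]
    omega
  rcases (show (fixedPoints Z Ω).ncard = 4 ∨ (fixedPoints Z Ω).ncard = 7 by omega) with h4 | h7
  · rw [Set.eq_of_subset_of_ncard_le hFV (by omega) (Set.toFinite _),
      Set.eq_of_subset_of_ncard_le hFW (by omega) (Set.toFinite _)]
  exfalso
  -- an involution of `T` fixes every point moved by `Z`
  obtain ⟨⟨u, huT⟩, huo⟩ := exists_prime_orderOf_dvd_card' 2 (G := T) (by rw [hT36]; norm_num)
  rw [Subgroup.orderOf_mk] at huo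
  have horb3 : ∀ x, x ∉ fixedPoints Z Ω → (orbit Z x).ncard = 3 := fun x hx => by
    have h1 : (orbit Z x).ncard ∣ 3 := by rw [← index_stabilizer, ← hZ3]; exact Subgroup.index_dvd_card _
    refine ((Nat.dvd_prime Nat.prime_three).1 h1).resolve_left fun h => hx fun w => ?_
    exact (Set.ncard_le_one (Set.toFinite _)).1 h.le _ (mem_orbit x w) _ (mem_orbit_self x)
  have hmoved : ∀ g ∈ T, ∀ x, x ∉ fixedPoints Z Ω → g • x ∉ fixedPoints Z Ω := fun g hg x hx h => hx fun w => by
    have := h w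
    rw [Subgroup.smul_def, ← mul_smul, ← hcomm g hg w w.2, mul_smul] at this
    exact MulAction.injective g this
  have hu_fix : ∀ m, m ∉ fixedPoints Z Ω → u • m = m := by
    intro m hm
    let S : Subgroup G :=
      { carrier := {g | g ∈ T ∧ g • m ∈ orbit Z m}
        one_mem' := ⟨T.one_mem, by rw [one_smul]; exact mem_orbit_self m⟩
        mul_mem' := fun {g h} hg hh => ⟨T.mul_mem hg.1 hh.1, by
          obtain ⟨i, hi⟩ := hh.2
          obtain ⟨j, hj⟩ := hg.2
          refine ⟨i * j, ?_⟩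
          simp only [Subgroup.smul_def, Subgroup.coe_mul] at hi hj ⊢
          rw [mul_smul, mul_smul g h, ← hi, ← mul_smul g, hcomm g hg.1 i i.2, mul_smul, hj]⟩
        inv_mem' := fun {g} hg => ⟨T.inv_mem hg.1, by
          obtain ⟨i, hi⟩ := hg.2
          refine ⟨i⁻¹, ?_⟩
          simp only [Subgroup.smul_def, Subgroup.coe_inv] at hi ⊢
          rw [eq_inv_smul_iff, ← mul_smul, hcomm g hg.1 _ (Z.inv_mem i.2), mul_smul, inv_smul_eq_iff]
          exact hi.symm⟩ }
    have hST : S ≤ T := fun g hg => hg.1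
    have hpair : ∀ g h, g ∈ T → h ∈ T → g ∉ S → h ∉ S → g⁻¹ * h ∈ S := by
      intro g h hg hh hgS hhS
      set M := (fixedPoints Z Ω)ᶜ with hM
      have hMc : M.ncard = 6 := by rw [hM, Set.ncard_compl, h7, Nat.card_eq_fintype_card, hΩ]
      have hOM : orbit Z m ⊆ M := by
        rintro _ ⟨w, rfl⟩
        exact hmoved w ((inf_le_left.trans hVT : Z ≤ T) w.2) m hm
      have hgO : g • m ∉ orbit Z m := fun e => hgS ⟨hg, e⟩
      have hsub : orbit Z (g • m) ⊆ M \ orbit Z m := by
        rintro _ ⟨w, rfl⟩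
        refine ⟨hmoved w ((inf_le_left.trans hVT : Z ≤ T) w.2) _ (hmoved g hg m hm), fun e => hgO ?_⟩
        rw [← orbit_eq_iff.2 e]
        exact ⟨w⁻¹, inv_smul_smul w _⟩
      have heq : orbit Z (g • m) = M \ orbit Z m := Set.eq_of_subset_of_ncard_le hsub (by
        rw [Set.ncard_diff hOM (Set.toFinite _), hMc, horb3 m hm, horb3 _ (hmoved g hg m hm)]) (Set.toFinite _)
      have hh' : h • m ∈ M \ orbit Z m := ⟨hmoved h hh m hm, fun e => hhS ⟨hh, e⟩⟩
      rw [← heq] at hh'
      obtain ⟨i, hi⟩ := hh'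
      refine ⟨T.mul_mem (T.inv_mem hg) hh, i, ?_⟩
      simp only [Subgroup.smul_def] at hi ⊢
      rw [mul_smul, ← hi, eq_inv_smul_iff, ← mul_smul, ← mul_smul, hcomm g hg i i.2]
    have hodd : ∀ v ∈ T, v ^ 3 = 1 → v ∈ S := by
      intro v hv hv3
      by_contra hvS
      have h2 : v⁻¹⁻¹ * v ∈ S := hpair v⁻¹ v (T.inv_mem hv) hv (fun e => hvS (inv_mem_iff.1 e)) hvS
      refine hvS ?_
      have : v = (v⁻¹⁻¹ * v) * (v⁻¹⁻¹ * v) := by
        rw [inv_inv]
        calc v = v * v ^ 3 := by rw [hv3, mul_one]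
          _ = v * v * (v * v) := by simp only [pow_succ, pow_zero, one_mul, mul_assoc]
      rw [this]
      exact S.mul_mem h2 h2
    have h3 : ∀ X : Subgroup G, X ≤ T → Nat.card X = 9 → X ≤ S := by
      intro X hXT hX x hx
      have h9 : x ^ 9 = 1 := hX ▸ congrArg Subtype.val (pow_card_eq_one' (x := (⟨x, hx⟩ : X)))
      have hx3 : x ^ 3 ∈ S := hodd _ (T.pow_mem (hXT hx) 3) (by rw [← pow_mul]; exact h9)
      by_contra hxS
      have h2 : x⁻¹⁻¹ * x ∈ S := hpair x⁻¹ x (T.inv_mem (hXT hx)) (hXT hx) (fun e => hxS (inv_mem_iff.1 e)) hxS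
      refine hxS ?_
      have : x = x ^ 3 * (x⁻¹⁻¹ * x)⁻¹ := by group
      rw [this]
      exact S.mul_mem hx3 (S.inv_mem h2)
    have hS := eq_of_two_sylows hT36 hST (h3 V hVT hV) (h3 W hWT hW) hV hW hVW
    obtain ⟨i, hi⟩ := ((hS.ge huT : u ∈ S)).2
    simp only [Subgroup.smul_def] at hi
    have huu : u * u = 1 := by rw [← pow_two, ← huo]; exact pow_orderOf_eq_one u
    have hii : ((i : G) * i) • m = m := by
      rw [mul_smul, hi, ← mul_smul, ← hcomm u huT i i.2, mul_smul, hi, ← mul_smul, huu, one_smul]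
    have hi3 : (i : G) ^ 3 = 1 := by
      have := congrArg Subtype.val (pow_card_eq_one' (x := i))
      rwa [hZ3] at this
    have him : (i : G) • m = m := by
      have h4 : ((i : G) * i * (i * i)) • m = m := by rw [mul_smul, hii, hii]
      rwa [show (i : G) * i * (i * i) = i by
        calc (i : G) * i * (i * i) = i ^ 3 * i := by simp only [pow_succ, pow_zero, one_mul, mul_assoc]
          _ = i := by rw [hi3, one_mul]] at h4
    exact hi.symm.trans him
  have hu1 : u ≠ 1 := fun e => by rw [e, orderOf_one] at huo; omega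
  have hab' : Disjoint ({a, b} : Set Ω) (fixedPoints Z Ω)ᶜ := Set.disjoint_compl_right_iff_subset.2 (by
    rintro x (rfl | rfl)
    exacts [hFV haV, hFV hbV])
  have h8 : 8 ≤ (fixedBy Ω u).ncard := by
    refine le_trans (le_of_eq ?_) (Set.ncard_le_ncard (s := {a, b} ∪ (fixedPoints Z Ω)ᶜ) ?_ (Set.toFinite _))
    · rw [Set.ncard_union_eq hab' (Set.toFinite _) (Set.toFinite _), Set.ncard_pair hab, Set.ncard_compl, h7,
        Nat.card_eq_fintype_card, hΩ]
    · rintro x ((rfl | rfl) | hx)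
      exacts [huT.1, huT.2, hu_fix x hx]
  have hpar := fix_mod (IsPGroup.of_card (G := Subgroup.zpowers u) (p := 2) (n := 1)
    (by rw [Nat.card_zpowers, huo, pow_one])) hΩ
  have hfu : fixedPoints (Subgroup.zpowers u) Ω = fixedBy Ω u := by
    ext x
    refine ⟨fun hx => hx ⟨u, Subgroup.mem_zpowers u⟩, fun hx w => ?_⟩
    exact Subgroup.zpowers_le.2 (show u ∈ stabilizer G x from hx) w.2
  rw [hfu] at hpar
  have hle : (fixedBy Ω u).ncard ≤ 13 := by
    rw [← hΩ, ← Nat.card_eq_fintype_card, ← Set.ncard_univ]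
    exact Set.ncard_le_ncard (Set.subset_univ _) (Set.toFinite _)
  have h13 : (fixedBy Ω u).ncard ≠ 13 := fun h => hu1 (faithful hΩ fun x => by
    have he : fixedBy Ω u = Set.univ := Set.eq_of_subset_of_ncard_le (Set.subset_univ _)
      (by rw [Set.ncard_univ, Nat.card_eq_fintype_card, hΩ, h]) (Set.toFinite _)
    exact (he ▸ Set.mem_univ x : x ∈ fixedBy Ω u))
  haveI := Fintype.ofFinite G
  obtain ⟨h9, h11⟩ := fixed_ne hG hn hΩ huo
  rw [Nat.card_coe_set_eq] at h9 h11
  omega

/-- The lines. -/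
def IsLine (G : Type*) [Group G] {Ω : Type*} [MulAction G Ω] (L : Set Ω) : Prop :=
  ∃ (V : Subgroup G) (a b : Ω), Nat.card V = 9 ∧ a ≠ b ∧ a ∈ L ∧ b ∈ L ∧ L = fixedPoints V Ω

theorem exists_line (hG : ¬ IsMulCommutative G) (hn : Nat.card G = 5616) (hΩ : Fintype.card Ω = 13)
    {a b : Ω} (hab : a ≠ b) : ∃ L, IsLine G L ∧ a ∈ L ∧ b ∈ L := by
  haveI := fact_three
  obtain ⟨V0, hV0⟩ := Sylow.exists_subgroup_card_pow_prime (G := ↥(stabilizer G a ⊓ stabilizer G b)) 3 (n := 2)
    (by rw [card_pair_stabilizer hG hn hΩ hab]; norm_num)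
  set V := V0.map (stabilizer G a ⊓ stabilizer G b).subtype with hV
  have hVT : V ≤ stabilizer G a ⊓ stabilizer G b := Subgroup.map_subtype_le _
  have ha : a ∈ fixedPoints V Ω := fun g => (hVT g.2).1
  have hb : b ∈ fixedPoints V Ω := fun g => (hVT g.2).2
  exact ⟨_, ⟨V, a, b, by rw [hV, Subgroup.card_map_of_injective (Subgroup.subtype_injective _), hV0]; norm_num,
    hab, ha, hb, rfl⟩, ha, hb⟩

theorem line_unique (hG : ¬ IsMulCommutative G) (hn : Nat.card G = 5616) (hΩ : Fintype.card Ω = 13)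
    {L M : Set Ω} (hL : IsLine G L) (hM : IsLine G M) {a b : Ω} (hab : a ≠ b) (haL : a ∈ L) (hbL : b ∈ L)
    (haM : a ∈ M) (hbM : b ∈ M) : L = M := by
  obtain ⟨V, -, -, hV, -, -, -, rfl⟩ := hL
  obtain ⟨W, -, -, hW, -, -, -, rfl⟩ := hM
  exact fix_unique hG hn hΩ hV hW hab haL hbL haM hbM

theorem line_card (hG : ¬ IsMulCommutative G) (hn : Nat.card G = 5616) (hΩ : Fintype.card Ω = 13)
    {L : Set Ω} (hL : IsLine G L) : L.ncard = 4 := by
  obtain ⟨V, a, b, hV, hab, ha, hb, rfl⟩ := hL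
  exact fix_four hG hn hΩ hV hab ha hb

theorem line_smul {L : Set Ω} (hL : IsLine G L) (g : G) : IsLine G ((g • ·) '' L) := by
  obtain ⟨V, a, b, hV, hab, ha, hb, rfl⟩ := hL
  refine ⟨V.map (MulAut.conj g).toMonoidHom, g • a, g • b, ?_, fun h => hab (MulAction.injective g h),
    ⟨a, ha, rfl⟩, ⟨b, hb, rfl⟩, ?_⟩
  · rw [Subgroup.card_map_of_injective (f := (MulAut.conj g).toMonoidHom) (MulAut.conj g).injective, hV]
  ext x
  constructor
  · rintro ⟨y, hy, rfl⟩ ⟨_, v, hv, rfl⟩
    show (g * v * g⁻¹) • g • y = g • y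
    rw [← mul_smul, inv_mul_cancel_right, mul_smul, show v • y = y from hy ⟨v, hv⟩]
  · intro hx
    refine ⟨g⁻¹ • x, fun v => ?_, smul_inv_smul g x⟩
    have h : (g * (v : G) * g⁻¹) • x = x := hx ⟨_, v, v.2, rfl⟩
    show (v : G) • g⁻¹ • x = g⁻¹ • x
    rw [eq_inv_smul_iff, ← mul_smul, ← mul_smul, h]

/-- A simple group of order `5616` is isomorphic to the collineation group. -/
theorem nonempty_coll (hG : ¬ IsMulCommutative G) (hn : Nat.card G = 5616) :
    Nonempty (G ≃* CommGraphL33.Coll) := by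
  classical
  obtain ⟨H, hH⟩ := exists_index_thirteen hG hn
  haveI := Fintype.ofFinite G
  let Ω' := G ⧸ H
  haveI : Fintype Ω' := Fintype.ofFinite _
  have hΩ : Fintype.card Ω' = 13 := by rw [← Nat.card_eq_fintype_card, ← hH]; rfl
  obtain ⟨P⟩ : Nonempty (Sylow 13 G) := inferInstance
  obtain ⟨hP, hC, hN, -⟩ := thirteen_data hG hn P
  haveI := fact_three
  obtain ⟨⟨y, hyP⟩, hyo⟩ := exists_prime_orderOf_dvd_card' 13 (G := ↥(P : Subgroup G)) (by rw [hP])
  rw [Subgroup.orderOf_mk] at hyo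
  have hyP' : Subgroup.zpowers y = (P : Subgroup G) :=
    Subgroup.eq_of_le_of_card_ge (Subgroup.zpowers_le.2 hyP) (by rw [Nat.card_zpowers, hyo, hP])
  obtain ⟨⟨n, hnN⟩, hno⟩ := exists_prime_orderOf_dvd_card' 3
    (G := ↥(Subgroup.normalizer ((P : Subgroup G) : Set G))) (by rw [hN]; norm_num)
  rw [Subgroup.orderOf_mk] at hno
  have hn3 : n ^ 3 = 1 := hno ▸ pow_orderOf_eq_one n
  obtain ⟨k, hk13, hk⟩ : ∃ k < 13, n * y * n⁻¹ = y ^ k := by
    have hmem : n * y * n⁻¹ ∈ Subgroup.zpowers y := hyP' ▸ (Subgroup.mem_normalizer_iff.1 hnN y).1 hyP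
    rw [mem_zpowers_iff_mem_range_orderOf, hyo] at hmem
    obtain ⟨k, hk, he⟩ := Finset.mem_image.1 hmem
    exact ⟨k, Finset.mem_range.1 hk, he.symm⟩
  have hconjpow : ∀ i : ℕ, n * y ^ i * n⁻¹ = y ^ (k * i) := fun i => by rw [← conj_pow, hk, pow_mul]
  have hk39 : k = 3 ∨ k = 9 := by
    refine cube_key k (List.mem_range.2 hk13) ?_ ?_
    · have h1 : y ^ (k * (k * k)) = y := by
        rw [← hconjpow, ← hconjpow, ← hk]
        calc n * (n * (n * y * n⁻¹) * n⁻¹) * n⁻¹ = n ^ 3 * y * (n ^ 3)⁻¹ := by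
              simp only [pow_succ, pow_zero, one_mul, mul_inv_rev, mul_assoc]
          _ = y := by rw [hn3, one_mul, inv_one, mul_one]
      have h2 : y ^ (k * (k * k)) = y ^ 1 := by rw [h1, pow_one]
      rw [pow_eq_pow_iff_modEq, hyo] at h2
      rw [show k ^ 3 = k * (k * k) by ring]
      exact h2
    · intro h1
      rw [h1, pow_one] at hk
      have hnC : n ∈ Subgroup.centralizer ((P : Subgroup G) : Set G) := by
        rw [← hyP', Subgroup.zpowers_eq_closure, Subgroup.centralizer_closure,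
          Subgroup.mem_centralizer_singleton_iff]
        exact mul_inv_eq_iff_eq_mul.1 hk
      have := Subgroup.orderOf_dvd_natCard _ hnC
      rw [hno, hC] at this
      norm_num at this
  -- a point fixed by `n`
  obtain ⟨o, hno'⟩ := exists_fixed (Ω := Ω') hΩ hno
  have hynf : ∀ x : Ω', y • x ≠ x := by
    intro x hx
    have h1 := Subgroup.orderOf_dvd_natCard (stabilizer G x) (show y ∈ stabilizer G x from hx)
    have h2 := (stabilizer G x).card_mul_index
    rw [index_stabilizer_of_transitive, Nat.card_eq_fintype_card (α := Ω'), hΩ, hn] at h2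
    rw [hyo, show Nat.card (stabilizer G x) = 432 by omega] at h1
    norm_num at h1
  have hy13 : y ^ 13 = 1 := hyo ▸ pow_orderOf_eq_one y
  have hymod : ∀ i : ℕ, y ^ (i % 13) = y ^ i := fun i => by
    conv_rhs => rw [← Nat.mod_add_div i 13, pow_add, pow_mul, hy13, one_pow, mul_one]
  let e0 : ZMod 13 → Ω' := fun i => y ^ i.val • o
  have he_add : ∀ i s : ZMod 13, e0 (i + s) = y ^ s.val • e0 i := fun i s => by
    show y ^ (i + s).val • o = y ^ s.val • y ^ i.val • o
    rw [ZMod.val_add, hymod, ← mul_smul, ← pow_add, add_comm]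
  have he_mul : ∀ i : ZMod 13, e0 ((k : ZMod 13) * i) = n • e0 i := fun i => by
    show y ^ ((k : ZMod 13) * i).val • o = n • y ^ i.val • o
    rw [ZMod.val_mul, hymod, ZMod.val_natCast_of_lt hk13, ← hconjpow, mul_smul, mul_smul,
      show n⁻¹ • o = o by rw [inv_smul_eq_iff, hno']]
  have hinj : Function.Injective e0 := by
    intro i j h
    by_contra hne
    have hfix : y ^ (j - i).val • e0 i = e0 i := by rw [← he_add, add_sub_cancel, h]
    have hv : 0 < (j - i).val := Nat.pos_of_ne_zero fun h0 => hne (sub_eq_zero.1 ((ZMod.val_eq_zero _).1 h0)).symm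
    have hlt := ZMod.val_lt (j - i)
    have hy' : y ∈ Subgroup.zpowers (y ^ (j - i).val) := by
      have hle : Subgroup.zpowers (y ^ (j - i).val) ≤ Subgroup.zpowers y :=
        Subgroup.zpowers_le.2 (Subgroup.pow_mem _ (Subgroup.mem_zpowers y) _)
      rw [Subgroup.eq_of_le_of_card_ge hle (by
        rw [Nat.card_zpowers, Nat.card_zpowers, orderOf_pow, hyo,
          Nat.Coprime.gcd_eq_one ((Nat.Prime.coprime_iff_not_dvd (by norm_num)).2 fun h =>
            absurd (Nat.le_of_dvd hv h) (by omega)), Nat.div_one])]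
      exact Subgroup.mem_zpowers y
    exact hynf (e0 i) (Subgroup.zpowers_le.2 (show y ^ (j - i).val ∈ stabilizer G (e0 i) from hfix) hy')
  let e : ZMod 13 ≃ Ω' := Equiv.ofBijective e0
    ((Fintype.bijective_iff_injective_and_card e0).2 ⟨hinj, by rw [ZMod.card, hΩ]⟩)
  have he : ∀ i, e i = e0 i := fun i => rfl
  -- the first line
  have h01 : e 0 ≠ e 1 := fun h => absurd (e.injective h) (by decide)
  obtain ⟨L0, hL0, hL00, hL01⟩ := exists_line hG hn hΩ h01
  set D : Finset (ZMod 13) := Finset.univ.filter (fun i => e i ∈ L0) with hD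
  have hmemD : ∀ i, i ∈ D ↔ e i ∈ L0 := fun i => by simp [hD]
  have hD4 : D.card = 4 := by
    rw [← line_card hG hn hΩ hL0, ← Set.ncard_coe_finset,
      ← Set.ncard_image_of_injective (D : Set (ZMod 13)) e.injective]
    congr 1
    ext x
    simp only [Set.mem_image, Finset.mem_coe, hmemD]
    exact ⟨fun ⟨i, hi, h⟩ => h ▸ hi, fun h => ⟨e.symm x, by rw [Equiv.apply_symm_apply]; exact ⟨h, rfl⟩⟩⟩
  -- translates
  have htrans : ∀ s : ZMod 13, IsLine G ((y ^ s.val • ·) '' L0) ∧
      ∀ i, e i ∈ (y ^ s.val • ·) '' L0 ↔ i - s ∈ D := by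
    intro s
    refine ⟨line_smul hL0 _, fun i => ?_⟩
    rw [hmemD]
    have : e i = y ^ s.val • e (i - s) := by rw [he, he, ← he_add, sub_add_cancel]
    rw [this]
    exact (MulAction.injective _).mem_set_image
  have hsame : ∀ i j s : ZMod 13, i ≠ j → i ∈ D → j ∈ D → i + s ∈ D → j + s ∈ D → s = 0 := by
    intro i j s hij hi hj his hjs
    by_contra hs
    obtain ⟨hline, hmem⟩ := htrans s
    have heq : (y ^ s.val • ·) '' L0 = L0 := line_unique hG hn hΩ hline hL0 (a := e (i + s)) (b := e (j + s))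
      (fun h => hij (add_right_cancel (e.injective h)))
      ((hmem _).2 (by rwa [add_sub_cancel_right])) ((hmem _).2 (by rwa [add_sub_cancel_right]))
      ((hmemD _).1 his) ((hmemD _).1 hjs)
    have hstep : ∀ x, x ∈ D → x + s ∈ D := fun x hx => by
      rw [hmemD, ← heq]
      exact (hmem _).2 (by rwa [add_sub_cancel_right])
    have hall : ∀ m : ℕ, i + m * s ∈ D := by
      intro m
      induction m with
      | zero => simpa using hi
      | succ m ih =>
        have := hstep _ ih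
        rw [show i + ((m + 1 : ℕ) : ZMod 13) * s = i + (m : ZMod 13) * s + s by push_cast; ring]
        exact this
    have huniv : D = Finset.univ := Finset.eq_univ_of_forall fun x => by
      have := hall ((x - i) * s⁻¹).val
      rwa [ZMod.natCast_zmod_val, mul_assoc, inv_mul_cancel₀ hs, mul_one, add_sub_cancel] at this
    rw [huniv, Finset.card_univ, ZMod.card] at hD4
    omega
  have hdiff : ∀ i ∈ D, ∀ j ∈ D, ∀ i' ∈ D, ∀ j' ∈ D, i ≠ j → j - i = j' - i' → i = i' := by
    intro i hi j hj i' hi' j' hj' hij h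
    have hs := hsame i j (i' - i) hij hi hj (by rwa [add_sub_cancel]) (by
      rwa [show j + (i' - i) = j' by linear_combination h])
    exact (sub_eq_zero.1 hs).symm
  have hk0 : (k : ZMod 13) ≠ 0 := by rcases hk39 with rfl | rfl <;> decide
  have hcover : ∃ i ∈ D, ∃ j ∈ D, j - i = (k : ZMod 13) := by
    have hinj' : Set.InjOn (fun p : ZMod 13 × ZMod 13 => p.2 - p.1) (D.offDiag : Set _) := by
      rintro ⟨i, j⟩ hp ⟨i', j'⟩ hp' h
      simp only [Finset.mem_coe, Finset.mem_offDiag] at hp hp'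
      have e1 := hdiff i hp.1 j hp.2.1 i' hp'.1 j' hp'.2.1 hp.2.2 h
      have e2 : j = j' := by
        have h' : j - i = j' - i' := h
        rw [e1] at h'
        exact sub_left_injective h'
      rw [e1, e2]
    have hsub : D.offDiag.image (fun p => p.2 - p.1) ⊆ Finset.univ.erase 0 := by
      intro d hd
      obtain ⟨⟨i, j⟩, hp, rfl⟩ := Finset.mem_image.1 hd
      exact Finset.mem_erase.2 ⟨sub_ne_zero.2 (Finset.mem_offDiag.1 hp).2.2.symm, Finset.mem_univ _⟩
    have heq := Finset.eq_of_subset_of_card_le hsub (by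
      rw [Finset.card_image_of_injOn hinj', Finset.card_erase_of_mem (Finset.mem_univ _), Finset.card_univ,
        ZMod.card, Finset.offDiag_card, hD4])
    have hmem : (k : ZMod 13) ∈ D.offDiag.image (fun p => p.2 - p.1) :=
      heq ▸ Finset.mem_erase.2 ⟨hk0, Finset.mem_univ _⟩
    obtain ⟨⟨i, j⟩, hp, h⟩ := Finset.mem_image.1 hmem
    obtain ⟨hi, hj, -⟩ := Finset.mem_offDiag.1 hp
    exact ⟨i, hi, j, hj, h⟩
  -- the multiplier
  obtain ⟨s, hs⟩ : ∃ s : ZMod 13, D.image (fun x => (k : ZMod 13) * x) = D.image (fun x => x + s) := by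
    obtain ⟨i, hi, j, hj, hij⟩ := hcover
    refine ⟨-i, ?_⟩
    obtain ⟨hline, hmem⟩ := htrans (-i)
    have heq : (n • ·) '' L0 = (y ^ (-i).val • ·) '' L0 := line_unique hG hn hΩ (line_smul hL0 n) hline
      (a := e 0) (b := e (k : ZMod 13)) (fun h => hk0 (e.injective h).symm)
      ⟨e 0, hL00, by show n • e 0 = e 0; rw [he, ← he_mul, mul_zero]⟩
      ⟨e 1, hL01, by show n • e 1 = e k; rw [he, ← he_mul, mul_one, he]⟩
      ((hmem _).2 (by rwa [zero_sub, neg_neg]))
      ((hmem _).2 (by rwa [show (k : ZMod 13) - -i = j by linear_combination -hij]))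
    ext x
    simp only [Finset.mem_image]
    constructor
    · rintro ⟨d, hd, rfl⟩
      have h1 : e ((k : ZMod 13) * d) ∈ (y ^ (-i).val • ·) '' L0 :=
        heq ▸ ⟨e d, (hmemD d).1 hd, by show n • e d = _; rw [he, ← he_mul, he]⟩
      exact ⟨_, (hmem _).1 h1, sub_add_cancel _ _⟩
    · rintro ⟨d, hd, rfl⟩
      have h1 : e (d + -i) ∈ (n • ·) '' L0 := heq ▸ (hmem _).2 (by rwa [add_sub_cancel_right])
      obtain ⟨x, hx, hx'⟩ := h1
      refine ⟨e.symm x, (hmemD _).2 (by rwa [Equiv.apply_symm_apply]), e.injective ?_⟩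
      rw [he, he_mul, ← he, Equiv.apply_symm_apply]
      exact hx'
  have h3 : ∃ s : ZMod 13, D.image (fun x => 3 * x) = D.image (fun x => x + s) := by
    rcases hk39 with rfl | rfl
    · exact ⟨s, by simpa using hs⟩
    · refine ⟨9 * s + s, ?_⟩
      have h9 : ∀ x : ZMod 13, 3 * x = 9 * (9 * x) := fun x => by
        rw [← mul_assoc, show (9 : ZMod 13) * 9 = 3 by decide]
      calc D.image (fun x => 3 * x) = (D.image (fun x => (9 : ZMod 13) * x)).image (fun x => 9 * x) := by
            rw [Finset.image_image]; exact Finset.image_congr fun x _ => h9 x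
        _ = (D.image (fun x => x + s)).image (fun x => 9 * x) := by rw [← hs]; norm_num
        _ = (D.image (fun x => (9 : ZMod 13) * x)).image (fun x => x + 9 * s) := by
            rw [Finset.image_image, Finset.image_image]
            exact Finset.image_congr fun x _ => by simp [mul_add]
        _ = (D.image (fun x => x + s)).image (fun x => x + 9 * s) := by rw [← hs]; norm_num
        _ = D.image (fun x => x + (9 * s + s)) := by
            rw [Finset.image_image]
            exact Finset.image_congr fun x _ => by simp only [Function.comp_apply]; ring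
  have h0D : (0 : ZMod 13) ∈ D := (hmemD _).2 hL00
  have h1D : (1 : ZMod 13) ∈ D := (hmemD _).2 hL01
  obtain ⟨a, b, hab, hab'⟩ := Finset.card_eq_two.1 (show ((D.erase 0).erase 1).card = 2 by
    rw [Finset.card_erase_of_mem (Finset.mem_erase.2 ⟨by decide, h1D⟩), Finset.card_erase_of_mem h0D, hD4])
  have hDeq : D = ({0, 1, a, b} : Finset (ZMod 13)) := by
    rw [← hab', Finset.insert_erase (Finset.mem_erase.2 ⟨by decide, h1D⟩), Finset.insert_erase h0D]
  obtain ⟨c, t, hc, hct⟩ := difference_set_key a b (hDeq ▸ hD4) (hDeq ▸ hdiff) (hDeq ▸ h3)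
  rw [← hDeq] at hct
  -- the standard labelling
  let f : ZMod 13 ≃ Ω' :=
    ((Equiv.mulLeft₀ c hc).trans (Equiv.addRight t)).trans e
  have hf : ∀ i, f i = e (c * i + t) := fun i => rfl
  have hlines : ∀ s : ZMod 13, IsLine G {x | f.symm x - s ∈ D0} := by
    intro s
    obtain ⟨hline, hmem⟩ := htrans (c * s)
    convert hline using 1
    ext x
    obtain ⟨i, rfl⟩ := f.surjective x
    rw [Set.mem_setOf_eq, Equiv.symm_apply_apply, hf, hmem, hct, Finset.mem_image]
    constructor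
    · exact fun h => ⟨_, h, by ring⟩
    · rintro ⟨d, hd, h⟩
      have : c * (d - (i - s)) = 0 := by linear_combination h
      rwa [sub_eq_zero.1 ((mul_eq_zero.1 this).resolve_left hc)] at hd
  have hall : ∀ L : Set Ω', IsLine G L → ∃ s : ZMod 13, L = {x | f.symm x - s ∈ D0} := by
    intro L hL
    obtain ⟨V, p, q, hV, hpq, hp, hq, rfl⟩ := hL
    obtain ⟨s, h1, h2⟩ := D0_cover (f.symm p) (f.symm q)
    exact ⟨s, line_unique hG hn hΩ ⟨V, p, q, hV, hpq, hp, hq, rfl⟩ (hlines s) hpq hp hq h1 h2⟩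
  let F : Fin 13 ≃ Ω' := toZEquiv.trans f
  have hFl : ∀ p l, CommGraphL33.inc p l = true ↔ F p ∈ {x | f.symm x - lineShift l ∈ D0} := fun p l => by
    rw [inc_iff, Set.mem_setOf_eq]
    simp [F, toZEquiv]
  let θ : G →* Equiv.Perm (Fin 13) := (F.symm.permCongrHom : _ ≃* _).toMonoidHom.comp (toPermHom G Ω')
  have hθ : ∀ g p, θ g p = F.symm (g • F p) := fun g p => by simp [θ, Equiv.permCongrHom, Equiv.permCongr_apply]
  have hcoll : θ.range ≤ CommGraphL33.Coll := by
    rintro _ ⟨g, rfl⟩ l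
    obtain ⟨s, hs⟩ := hall _ (line_smul (hlines (lineShift l)) g)
    obtain ⟨m, rfl⟩ := lineShift_surj s
    refine ⟨m, fun p hp => ?_⟩
    rw [hFl, hθ, Equiv.apply_symm_apply, ← hs]
    exact ⟨F p, (hFl p l).1 hp, rfl⟩
  have hθi : Function.Injective θ := by
    rw [← MonoidHom.ker_eq_bot_iff, Subgroup.eq_bot_iff_forall]
    intro g hg
    refine faithful (Ω := Ω') hΩ fun x => ?_
    obtain ⟨p, rfl⟩ := F.surjective x
    have h := Equiv.ext_iff.1 (MonoidHom.mem_ker.1 hg) p
    rw [hθ, Equiv.Perm.one_apply, Equiv.symm_apply_eq] at h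
    exact h
  have hrange : θ.range = CommGraphL33.Coll := Subgroup.eq_of_le_of_card_ge hcoll (by
    rw [← Nat.card_congr (MonoidHom.ofInjective hθi).toEquiv, hn]
    exact CommGraphL33.card_Coll_le)
  exact ⟨(MonoidHom.ofInjective hθi).trans (MulEquiv.subgroupCongr hrange)⟩

/-- Any two simple groups of order `5616` are isomorphic. -/
theorem nonempty_iso {K : Type*} [Group K] [Finite K] [IsSimpleGroup K] (hG : Nat.card G = 5616)
    (hK : Nat.card K = 5616) : Nonempty (G ≃* K) := by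
  obtain ⟨e⟩ := nonempty_coll (not_comm_of_not_prime (G := G) (by rw [hG]; norm_num)) hG
  obtain ⟨e'⟩ := nonempty_coll (not_comm_of_not_prime (G := K) (by rw [hK]; norm_num)) hK
  exact ⟨e.trans e'.symm⟩

end Cfsg.Agent.Order5616
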