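import Cfsg.Agent.Lib.PSp4Orders
import Cfsg.Agent.Lib.DicksonSubfieldEmbed

/-!
Elements of order 65 in small classical groups over eight elements.
-/

set_option autoImplicit false

namespace Cfsg.Agent.Order65Groups14

open Matrix

/-- a lift of an element of a quotient has a power of the same order -/
theorem exists_of_hom {A B : Type*} [Group A] [Finite A] [Group B] (f : A →* B) (a : A) :
    ∃ a' : A, orderOf a' = orderOf (f a) := by
  obtain ⟨k, hk⟩ := orderOf_map_dvd f a
  have hne : k ≠ 0 := fun h => (orderOf_pos a).ne' (by rw [hk, h, mul_zero])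
  refine ⟨a ^ k, ?_⟩
  rw [orderOf_pow' a hne, hk, Nat.gcd_mul_left_left, Nat.mul_div_cancel _ (Nat.pos_of_ne_zero hne)]

/-- An injective map to a group whose image of the order stays faithful modulo the centre. -/
theorem exists_mod_center {A B : Type*} [Group A] [Group B] [Finite B] (φ : A →* B) (hφ : Function.Injective φ)
    {N : ℕ} (x : A ⧸ Subgroup.center A) (hx : orderOf x = N) :
    ∃ y : B ⧸ Subgroup.center B, orderOf y = N := by
  obtain ⟨a, rfl⟩ := QuotientGroup.mk_surjective x
  have hd : N ∣ orderOf (QuotientGroup.mk (φ a) : B ⧸ Subgroup.center B) := by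
    rw [← hx]
    refine orderOf_dvd_of_pow_eq_one ?_
    rw [← QuotientGroup.mk_pow, QuotientGroup.eq_one_iff, Subgroup.mem_center_iff]
    intro b
    apply hφ
    have h : (φ a) ^ orderOf (QuotientGroup.mk (φ a) : B ⧸ Subgroup.center B) ∈ Subgroup.center B := by
      rw [← QuotientGroup.eq_one_iff, QuotientGroup.mk_pow, pow_orderOf_eq_one]
    rw [map_mul, map_mul, map_pow]
    exact Subgroup.mem_center_iff.1 h (φ b)
  obtain ⟨k, hk⟩ := hd
  have hpos := orderOf_pos (QuotientGroup.mk (φ a) : B ⧸ Subgroup.center B)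
  have hne : k ≠ 0 := fun h => by rw [h, mul_zero] at hk; omega
  refine ⟨(QuotientGroup.mk (φ a) : B ⧸ Subgroup.center B) ^ k, ?_⟩
  rw [orderOf_pow' _ hne, hk, Nat.gcd_mul_left_left, Nat.mul_div_cancel _ (Nat.pos_of_ne_zero hne)]

variable {F : Type*} [Field F] [Fintype F]

theorem psl2 (hF : Fintype.card F = 64) :
    ∃ y : Matrix.ProjectiveSpecialLinearGroup (Fin 2) F, orderOf y = 65 := by
  classical
  obtain ⟨T, hT⟩ := PSp4Orders.exists_order_add_one (F := F)
  rw [hF] at hT
  norm_num at hT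
  refine ⟨QuotientGroup.mk T, Nat.dvd_antisymm (orderOf_dvd_of_pow_eq_one ?_) ?_⟩
  · rw [← QuotientGroup.mk_pow, show T ^ 65 = 1 by rw [← hT]; exact pow_orderOf_eq_one T, QuotientGroup.mk_one]
  · obtain ⟨n, hn⟩ : ∃ n, n = orderOf (QuotientGroup.mk T : Matrix.ProjectiveSpecialLinearGroup (Fin 2) F) := ⟨_, rfl⟩
    rw [← hn]
    have h : T ^ n ∈ Subgroup.center (Matrix.SpecialLinearGroup (Fin 2) F) := by
      rw [← QuotientGroup.eq_one_iff, QuotientGroup.mk_pow, hn]; exact pow_orderOf_eq_one _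
    obtain ⟨r, hr, hs⟩ := Matrix.SpecialLinearGroup.mem_center_iff.1 h
    have h2 : (T ^ n) ^ 2 = 1 := Subtype.ext (by
      rw [Matrix.SpecialLinearGroup.coe_pow, ← hs, ← map_pow,
        show r ^ 2 = 1 by simpa using hr, map_one]; rfl)
    rw [← pow_mul, ← orderOf_dvd_iff_pow_eq_one, hT] at h2
    exact (by norm_num : Nat.Coprime 65 2).dvd_of_dvd_mul_right h2

theorem psp4 (hF : Fintype.card F = 8) : ∃ y : Cfsg.PSp 2 F, orderOf y = 65 := by
  have h2 : Fact (Nat.Prime 2) := ⟨Nat.prime_two⟩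
  have : CharP F 2 := by
    obtain ⟨p, hp⟩ := CharP.exists F
    obtain ⟨n, hpp, hn⟩ := FiniteField.card F p
    rw [hF] at hn
    have : p ∣ 2 ^ 3 := by rw [show (2 : ℕ) ^ 3 = p ^ (n : ℕ) from hn]; exact dvd_pow_self p n.pos.ne'
    rwa [(Nat.prime_dvd_prime_iff_eq hpp Nat.prime_two).1 (hpp.dvd_of_dvd_pow this)] at hp
  obtain ⟨y, hy⟩ := PSp4Orders.dvd_elliptic (F := F) 2
  exact ⟨y, by rw [hy, hF]; rfl⟩

/-- the block index -/
def idx3 : (Fin 2 ⊕ Fin 2) ⊕ (Fin 1 ⊕ Fin 1) ≃ Fin 3 ⊕ Fin 3 where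
  toFun
    | .inl (.inl i) => .inl i.castSucc
    | .inl (.inr i) => .inr i.castSucc
    | .inr (.inl _) => .inl 2
    | .inr (.inr _) => .inr 2
  invFun
    | .inl i => if h : i.val < 2 then .inl (.inl ⟨i.val, h⟩) else .inr (.inl 0)
    | .inr i => if h : i.val < 2 then .inl (.inr ⟨i.val, h⟩) else .inr (.inr 0)
  left_inv := by decide
  right_inv := by decide

theorem J_int : Matrix.J (Fin 3) ℤ =
    reindex idx3 idx3 (fromBlocks (Matrix.J (Fin 2) ℤ) 0 0 (Matrix.J (Fin 1) ℤ)) := by decide +kernel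

theorem psp6 (hF : Fintype.card F = 8) : ∃ y : Cfsg.PSp 3 F, orderOf y = 65 := by
  classical
  have hJ : Matrix.J (Fin 3) F = reindex idx3 idx3 (fromBlocks (Matrix.J (Fin 2) F) 0 0 (Matrix.J (Fin 1) F)) := by
    rw [← Matrix.map_J (Fin 3) (Int.castRingHom F), J_int, reindex_apply, ← Matrix.submatrix_map, fromBlocks_map,
      Matrix.map_J, Matrix.map_J, Matrix.map_zero _ (map_zero _), Matrix.map_zero _ (map_zero _), reindex_apply]
  let E : Matrix (Fin 2 ⊕ Fin 2) (Fin 2 ⊕ Fin 2) F → Matrix (Fin 3 ⊕ Fin 3) (Fin 3 ⊕ Fin 3) F :=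
    fun A => reindexAlgEquiv F F idx3 (fromBlocks A 0 0 1)
  have hmul : ∀ A B, E (A * B) = E A * E B := fun A B => by
    simp only [E, ← map_mul, fromBlocks_multiply, Matrix.mul_zero, Matrix.zero_mul, add_zero, zero_add, Matrix.mul_one]
  have hmem : ∀ A ∈ symplecticGroup (Fin 2) F, E A ∈ symplecticGroup (Fin 3) F := by
    intro A hA
    rw [SymplecticGroup.mem_iff] at hA ⊢
    rw [hJ, show (E A)ᵀ = reindexAlgEquiv F F idx3 (fromBlocks A 0 0 1)ᵀ from rfl]
    show reindexAlgEquiv F F idx3 _ * reindexAlgEquiv F F idx3 _ * _ = _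
    rw [← map_mul, ← map_mul, fromBlocks_transpose, fromBlocks_multiply, fromBlocks_multiply]
    simp [hA]
  let φ : symplecticGroup (Fin 2) F →* symplecticGroup (Fin 3) F :=
    { toFun := fun A => ⟨E A, hmem A A.2⟩
      map_one' := Subtype.ext (by simp [E])
      map_mul' := fun A B => Subtype.ext (hmul A B) }
  obtain ⟨x, hx⟩ := psp4 hF
  refine exists_mod_center φ (fun A B h => Subtype.ext ?_) x hx
  have h1 := (reindexAlgEquiv F F idx3).injective (congrArg Subtype.val h)
  exact (fromBlocks_inj.1 h1).1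

theorem psl4 (hF : Fintype.card F = 8) :
    ∃ y : Matrix.ProjectiveSpecialLinearGroup (Fin 4) F, orderOf y = 65 := by
  classical
  let φ : symplecticGroup (Fin 2) F →* Matrix.SpecialLinearGroup (Fin 4) F :=
    { toFun := fun A => ⟨reindexAlgEquiv F F finSumFinEquiv A.1, by
        rw [reindexAlgEquiv_apply, det_reindex_self]; exact SymplecticGroup.det_eq_one A.2⟩
      map_one' := Subtype.ext (map_one _)
      map_mul' := fun A B => Subtype.ext (map_mul _ _ _) }
  obtain ⟨x, hx⟩ := psp4 hF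
  exact exists_mod_center φ
    (fun A B h => Subtype.ext ((reindexAlgEquiv F F finSumFinEquiv).injective (congrArg Subtype.val h))) x hx

theorem psu4 {K : Type*} [Field K] [Fintype K] (hF : Fintype.card F = 8) (hK : Fintype.card K = 64) :
    ∃ y : Cfsg.PSU 4 K 8, orderOf y = 65 := by
  classical
  obtain ⟨ι⟩ := DicksonSubfieldEmbed.exists_ringHom (F := K) (K := F) (m := 2)
    (by rw [Nat.card_eq_fintype_card, Nat.card_eq_fintype_card, hF, hK]; norm_num)
  have hι : ∀ x : F, ι x ^ 8 = ι x := fun x => by rw [← map_pow, ← hF, FiniteField.pow_card]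
  have h2 : (2 : K) = 0 := by
    have h := FiniteField.cast_card_eq_zero F
    rw [hF] at h
    have : (2 : F) ^ 3 = 0 := by rw [← h]; norm_num
    rw [show (2 : K) = ι 2 by simp [map_ofNat], pow_eq_zero_iff (n := 3) (by norm_num) |>.1 this, map_zero]
  have : CharP K 2 := (CharP.charP_iff_prime_eq_zero Nat.prime_two).2 (by exact_mod_cast h2)
  have hadd : ∀ x y : K, (x + y) ^ 8 = x ^ 8 + y ^ 8 := fun x y => by
    have : Fact (Nat.Prime 2) := ⟨Nat.prime_two⟩
    rw [show (8 : ℕ) = 2 ^ 3 by norm_num]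
    exact add_pow_char_pow x y 2 3
  -- an element of trace one
  obtain ⟨a, ha⟩ : ∃ a : K, a ^ 8 + a = 1 := by
    let tr : K →+ K := AddMonoidHom.mk' (fun a => a ^ 8 + a) fun x y => by rw [hadd]; ring
    set R := Finset.univ.image ι with hR
    have hRc : R.card = 8 := by rw [hR, Finset.card_image_of_injective _ ι.injective, Finset.card_univ, hF]
    set S := Finset.univ.filter fun b : K => b ^ 8 = b with hS
    set g : Polynomial K := Polynomial.X ^ 8 - Polynomial.X with hg
    have hg0 : g ≠ 0 := FiniteField.X_pow_card_sub_X_ne_zero K (by norm_num)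
    have hgd : g.natDegree ≤ 8 := (FiniteField.X_pow_card_sub_X_natDegree_eq K (by norm_num)).le
    have hSc : S.card ≤ 8 := by
      refine le_trans (Polynomial.card_le_degree_of_subset_roots (p := g) fun b hb => ?_) hgd
      rw [hS, Finset.filter_val, Multiset.mem_filter] at hb
      rw [Polynomial.mem_roots hg0, hg, Polynomial.IsRoot, Polynomial.eval_sub, Polynomial.eval_pow,
        Polynomial.eval_X, hb.2, sub_self]
    have hRS : R = S := by
      refine Finset.eq_of_subset_of_card_le (fun b hb => ?_) (hRc ▸ hSc)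
      obtain ⟨y, -, rfl⟩ := Finset.mem_image.1 hb
      exact Finset.mem_filter.2 ⟨Finset.mem_univ _, hι y⟩
    have hrange : (Finset.univ.image tr) ⊆ R := by
      intro b hb
      obtain ⟨x, -, rfl⟩ := Finset.mem_image.1 hb
      rw [hRS, hS, Finset.mem_filter]
      refine ⟨Finset.mem_univ _, ?_⟩
      show (x ^ 8 + x) ^ 8 = x ^ 8 + x
      have h64 : x ^ (8 * 8) = x := by
        rw [show 8 * 8 = Fintype.card K by rw [hK]]
        exact FiniteField.pow_card x
      rw [hadd, ← pow_mul, h64, add_comm]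
    set g' : Polynomial K := Polynomial.X ^ 8 + Polynomial.X with hg'
    have hg'd : g'.natDegree ≤ 8 := by rw [hg']; compute_degree
    have hg'0 : g' ≠ 0 := fun h => by
      have := congrArg (fun p => Polynomial.coeff p 1) h
      simp [hg', Polynomial.coeff_X_pow] at this
    have hker : (Finset.univ.filter fun a : K => tr a = 0).card ≤ 8 := by
      refine le_trans (Polynomial.card_le_degree_of_subset_roots (p := g') fun b hb => ?_) hg'd
      rw [Finset.filter_val, Multiset.mem_filter] at hb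
      rw [Polynomial.mem_roots hg'0, hg', Polynomial.IsRoot, Polynomial.eval_add, Polynomial.eval_pow,
        Polynomial.eval_X]
      exact hb.2
    have hbig : 8 ≤ (Finset.univ.image tr).card := by
      by_contra hlt
      have h64 : Fintype.card K ≤ ∑ b ∈ Finset.univ.image tr, (Finset.univ.filter fun a : K => tr a = b).card :=
        (Finset.card_eq_sum_card_image (fun a => tr a) Finset.univ).le
      have : ∀ b ∈ Finset.univ.image tr, (Finset.univ.filter fun a : K => tr a = b).card ≤ 8 := by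
        intro b hb
        obtain ⟨a₀, -, rfl⟩ := Finset.mem_image.1 hb
        refine le_trans (le_of_eq (Finset.card_equiv (Equiv.addRight (-a₀)) fun a => ?_)) hker
        simp [← sub_eq_add_neg, map_sub, sub_eq_zero]
      have := h64.trans (Finset.sum_le_card_nsmul _ _ _ this)
      rw [hK, smul_eq_mul] at this
      omega
    have h1 : (1 : K) ∈ Finset.univ.image tr := by
      rw [Finset.eq_of_subset_of_card_le hrange (hRc ▸ hbig), hR]
      exact Finset.mem_image.2 ⟨1, Finset.mem_univ _, map_one ι⟩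
    obtain ⟨a, -, ha⟩ := Finset.mem_image.1 h1
    exact ⟨a, ha⟩
  -- the change of basis
  let P : Matrix (Fin 2 ⊕ Fin 2) (Fin 2 ⊕ Fin 2) K := fromBlocks 1 (a • 1) 1 ((a + 1) • 1)
  let Pi' : Matrix (Fin 2 ⊕ Fin 2) (Fin 2 ⊕ Fin 2) K := fromBlocks ((a + 1) • 1) (a • 1) 1 1
  have hP : P * Pi' = 1 := by
    simp only [P, Pi', fromBlocks_multiply, one_mul, mul_one, ← add_smul, ← two_smul K, ← fromBlocks_one]
    congr 1
    · rw [show a + 1 + a = 1 by linear_combination a * h2]; simp
    · rw [h2, zero_smul]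
    · rw [h2, zero_smul]
    · rw [show a + (a + 1) = 1 by linear_combination a * h2]; simp
  have hP' : Pi' * P = 1 := mul_eq_one_comm.1 hP
  let r : K →+* K := RingHom.mk' ⟨⟨fun x => x ^ 8, one_pow 8⟩, fun x y => mul_pow x y 8⟩ hadd
  have hPP : Pᵀ * P.map r = (Matrix.J (Fin 2) F).map ι := by
    simp only [P, Matrix.J, fromBlocks_transpose, fromBlocks_map, transpose_smul, transpose_one, map_smul',
      Matrix.map_one _ (map_zero r) (map_one r), fromBlocks_multiply]
    have e1 : r a = 1 + a := by show a ^ 8 = 1 + a; linear_combination ha - a * h2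
    congr 1 <;> ext i j <;> by_cases hij : i = j <;>
      simp [hij, Matrix.mul_apply, Matrix.one_apply, Matrix.map_apply, e1] <;>
      grind
  let e := (finSumFinEquiv : Fin 2 ⊕ Fin 2 ≃ Fin 4)
  let ψ0 : symplecticGroup (Fin 2) F →* Matrix.SpecialLinearGroup (Fin 4) K :=
    { toFun := fun A => ⟨reindexAlgEquiv K K e (P * A.1.map ι * Pi'), by
        rw [reindexAlgEquiv_apply, det_reindex_self, det_mul, det_mul, ← RingHom.mapMatrix_apply, ← RingHom.map_det,
          SymplecticGroup.det_eq_one A.2, map_one, mul_one, ← det_mul, hP, det_one]⟩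
      map_one' := Subtype.ext (by
        show reindexAlgEquiv K K e (P * (1 : Matrix _ _ F).map ι * Pi') = _
        rw [Matrix.map_one _ (map_zero ι) (map_one ι), mul_one, hP, map_one]; rfl)
      map_mul' := fun A B => Subtype.ext (by
        show reindexAlgEquiv K K e (P * (A.1 * B.1).map ι * Pi') =
          reindexAlgEquiv K K e (P * A.1.map ι * Pi') * reindexAlgEquiv K K e (P * B.1.map ι * Pi')
        rw [← map_mul, Matrix.map_mul]
        congr 1
        simp only [mul_assoc]
        rw [← mul_assoc Pi' P, hP', one_mul]) }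
  have hmem : ∀ A, ψ0 A ∈ Cfsg.SU 4 K 8 := by
    intro A u v
    set B : Matrix (Fin 2 ⊕ Fin 2) (Fin 2 ⊕ Fin 2) K := P * A.1.map ι * Pi' with hB
    have hAι : (A.1.map ι).map r = A.1.map ι := by ext i j; exact hι _
    have hA := SymplecticGroup.mem_iff'.1 A.2
    have hPr : P.map r * Pi'.map r = 1 := by
      rw [← Matrix.map_mul, hP, Matrix.map_one _ (map_zero r) (map_one r)]
    have hBB : Bᵀ * B.map r = 1 := by
      rw [hB, transpose_mul, transpose_mul, Matrix.map_mul, Matrix.map_mul, hAι]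
      calc Pi'ᵀ * ((A.1.map ι)ᵀ * Pᵀ) * (P.map r * A.1.map ι * Pi'.map r)
          = Pi'ᵀ * ((A.1.map ι)ᵀ * (Pᵀ * P.map r) * A.1.map ι) * Pi'.map r := by simp only [mul_assoc]
        _ = Pi'ᵀ * (Pᵀ * P.map r) * Pi'.map r := by
            rw [hPP, ← Matrix.transpose_map, ← Matrix.map_mul, ← Matrix.map_mul, hA]
        _ = (P * Pi')ᵀ * (P.map r * Pi'.map r) := by simp only [transpose_mul, mul_assoc]
        _ = 1 := by rw [hP, hPr, transpose_one, one_mul]
    have hval : slToMat 4 K (ψ0 A) = reindexAlgEquiv K K e B := rfl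
    have hherm : ∀ x y : Fin 4 → K, Cfsg.hermForm 4 K 8 x y = x ⬝ᵥ (r ∘ y) := fun x y => rfl
    rw [hherm, hherm, hval]
    have hrM : ∀ M : Matrix (Fin 4) (Fin 4) K, (r ∘ (M *ᵥ v)) = (M.map r) *ᵥ (r ∘ v) := fun M =>
      funext fun i => RingHom.map_mulVec r M v i
    rw [hrM, dotProduct_mulVec, ← Matrix.vecMul_transpose, Matrix.vecMul_vecMul]
    have : (reindexAlgEquiv K K e B)ᵀ * (reindexAlgEquiv K K e B).map r = 1 := by
      rw [show (reindexAlgEquiv K K e B)ᵀ = reindexAlgEquiv K K e Bᵀ from rfl,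
        show (reindexAlgEquiv K K e B).map r = reindexAlgEquiv K K e (B.map r) from rfl, ← map_mul, hBB, map_one]
    rw [this, Matrix.vecMul_one]
  obtain ⟨x, hx⟩ := psp4 hF
  refine exists_mod_center (ψ0.codRestrict (Cfsg.SU 4 K 8) hmem) (fun A B h => Subtype.ext ?_) x hx
  have h1 := (reindexAlgEquiv K K e).injective (congrArg Subtype.val (congrArg Subtype.val h))
  have h2 := congrArg (fun M => Pi' * M * P) h1
  simp only [← mul_assoc, hP', one_mul] at h2
  simp only [mul_assoc, hP', mul_one] at h2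
  exact Matrix.map_injective ι.injective h2

end Cfsg.Agent.Order65Groups14
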