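import Mathlib
import Cfsg.Agent.Lib.SimpleSearch
import Cfsg.Agent.Lib.Order3960Simple
import Cfsg.Agent.Lib.PermMinimalNormal

/-!
A group of order 7920 with disconnected prime graph has no proper non-trivial normal subgroup.
-/

set_option autoImplicit false

namespace Cfsg.Agent.Order7920Graph

open Subgroup Cfsg.Agent.PermMinimalNormal

variable {G : Type*} [Group G] [Finite G]

/-- A partition of the primes respected by commuting elements. -/
def Side (G : Type*) [Group G] (side : ℕ → Prop) : Prop :=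
  ∀ a b : G, Commute a b → ∀ r p : ℕ, r.Prime → p.Prime → r ∣ orderOf a → p ∣ orderOf b →
    (side r ↔ side p)

variable {side : ℕ → Prop}

theorem side_centralizer (hs : Side G side) {r p : ℕ} (hr : r.Prime) (hp : p.Prime) (H : Subgroup G)
    (hH : r ∣ Nat.card H) (hC : p ∣ Nat.card (centralizer (H : Set G))) : side r ↔ side p := by
  haveI := Fact.mk hr
  haveI := Fact.mk hp
  obtain ⟨a, ha⟩ := exists_prime_orderOf_dvd_card' r hH
  obtain ⟨b, hb⟩ := exists_prime_orderOf_dvd_card' p hC
  refine hs a.1 b.1 (mem_centralizer_iff.1 b.2 a.1 a.2) r p hr hp ?_ ?_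
  · rw [Subgroup.orderOf_coe, ha]
  · rw [Subgroup.orderOf_coe, hb]

/-- An element of prime order fixes a small normalised subgroup pointwise. -/
theorem commute_of_small {q : ℕ} [hq : Fact q.Prime] {x : G} (hx : orderOf x = q) (N : Subgroup G)
    (hn : x ∈ normalizer (N : Set G))
    (hsmall : ∀ f, f ∣ Nat.card N → f % q = Nat.card N % q → f = Nat.card N) :
    ∀ n ∈ N, Commute x n := by
  classical
  have hP : IsPGroup q (zpowers x) := IsPGroup.of_card (n := 1) (by rw [Nat.card_zpowers, hx, pow_one])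
  have hle : zpowers x ≤ normalizer (N : Set G) := zpowers_le.2 hn
  letI : MulAction (zpowers x) N :=
    { smul := fun t n => ⟨t.1 * n.1 * t.1⁻¹, (mem_normalizer_iff.1 (hle t.2) n.1).1 n.2⟩
      one_smul := fun n => Subtype.ext (by show (1 : G) * n.1 * 1⁻¹ = n.1; group)
      mul_smul := fun s t n => Subtype.ext (by
        show (s.1 * t.1) * n.1 * (s.1 * t.1)⁻¹ = s.1 * (t.1 * n.1 * t.1⁻¹) * s.1⁻¹; group) }
  have hmod := hP.card_modEq_card_fixedPoints N
  have e : Nat.card (MulAction.fixedPoints (zpowers x) N) =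
      Nat.card (N ⊓ centralizer ({x} : Set G) : Subgroup G) := by
    refine Nat.card_congr
      { toFun := fun n => ⟨n.1.1, n.1.2, mem_centralizer_singleton_iff.2 ?_⟩
        invFun := fun n => ⟨⟨n.1, n.2.1⟩, ?_⟩
        left_inv := fun n => rfl
        right_inv := fun n => rfl }
    · have : x * n.1.1 * x⁻¹ = n.1.1 := congrArg Subtype.val (n.2 ⟨x, mem_zpowers x⟩)
      exact (mul_inv_eq_iff_eq_mul.1 this).symm
    · rintro ⟨t, ht⟩
      obtain ⟨k, rfl⟩ := mem_zpowers_iff.1 ht
      refine Subtype.ext ?_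
      have hc : Commute x n.1 := (mem_centralizer_singleton_iff.1 n.2.2).symm
      show x ^ k * n.1 * (x ^ k)⁻¹ = n.1
      rw [(hc.zpow_left k).eq, mul_inv_cancel_right]
  rw [e] at hmod
  have hd := Subgroup.card_dvd_of_le (inf_le_left : N ⊓ centralizer ({x} : Set G) ≤ N)
  have heq := Subgroup.eq_of_le_of_card_ge (inf_le_left : N ⊓ centralizer ({x} : Set G) ≤ N)
    (hsmall _ hd hmod.symm).ge
  intro n hnN
  exact (mem_centralizer_singleton_iff.1 ((heq.symm ▸ hnN : n ∈ N ⊓ centralizer ({x} : Set G)).2)).symm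

/-- A group too large to act freely on a normalised subgroup has a fixed point. -/
theorem exists_commute (T N : Subgroup G) (hn : T ≤ normalizer (N : Set G))
    (h : ¬ Nat.card T ∣ Nat.card N - 1) :
    ∃ t ∈ T, t ≠ 1 ∧ ∃ n ∈ N, n ≠ 1 ∧ Commute t n := by
  classical
  by_contra hcon
  push Not at hcon
  apply h
  letI : MulAction T {n : N // n ≠ 1} :=
    { smul := fun t n => ⟨⟨t.1 * n.1.1 * t.1⁻¹, (mem_normalizer_iff.1 (hn t.2) n.1.1).1 n.1.2⟩,
        fun e => n.2 (Subtype.ext (by simpa using congrArg Subtype.val e))⟩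
      one_smul := fun n => Subtype.ext (Subtype.ext (by show (1 : G) * n.1.1 * 1⁻¹ = n.1.1; group))
      mul_smul := fun s t n => Subtype.ext (Subtype.ext (by
        show (s.1 * t.1) * n.1.1 * (s.1 * t.1)⁻¹ = s.1 * (t.1 * n.1.1 * t.1⁻¹) * s.1⁻¹; group)) }
  have hfree : ∀ b : {n : N // n ≠ 1}, MulAction.stabilizer T b = ⊥ := by
    intro b
    rw [Subgroup.eq_bot_iff_forall]
    intro t ht
    by_contra hne
    have e : t.1 * b.1.1 * t.1⁻¹ = b.1.1 :=
      congrArg (fun z : {n : N // n ≠ 1} => z.1.1) (MulAction.mem_stabilizer_iff.1 ht)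
    exact hcon t.1 t.2 (fun e => hne (Subtype.ext e)) b.1.1 b.1.2 (fun e => b.2 (Subtype.ext e))
      (mul_inv_eq_iff_eq_mul.1 e)
  have hc := Nat.card_congr (MulAction.selfEquivOrbitsQuotientProd hfree)
  rw [Nat.card_prod] at hc
  have hN1 : Nat.card {n : N // n ≠ 1} = Nat.card N - 1 := by
    haveI := Fintype.ofFinite N
    rw [Nat.card_eq_fintype_card, Fintype.card_subtype_compl, Fintype.card_subtype_eq,
      Nat.card_eq_fintype_card]
  rw [← hN1, hc]
  exact dvd_mul_left _ _

theorem card_sup_dvd (A B : Subgroup G) [B.Normal] :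
    Nat.card (A ⊔ B : Subgroup G) ∣ Nat.card A * Nat.card B := by
  have h := (B.subgroupOf (A ⊔ B)).card_mul_index
  rw [Nat.card_congr (Subgroup.subgroupOfEquivOfLe le_sup_right).toEquiv, ← relIndex,
    relIndex_sup_right] at h
  rw [← h, mul_comm (Nat.card A)]
  exact mul_dvd_mul_left _ (relIndex_dvd_card _ _)

/-- Order of the normalizer of a subgroup of prime order. -/
theorem card_normalizer_dvd {q : ℕ} [hq : Fact q.Prime] (P : Subgroup G) (hP : Nat.card P = q) :
    Nat.card (normalizer (P : Set G)) ∣ Nat.card (centralizer (P : Set G)) * (q - 1) := by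
  have hcy : IsCyclic P := isCyclic_of_prime_card hP
  have key := Subgroup.card_dvd_of_injective _ (QuotientGroup.kerLift_injective P.normalizerMonoidHom)
  rw [Subgroup.normalizerMonoidHom_ker, ← Subgroup.index, hcy.card_mulAut, hP,
    Nat.totient_prime hq.out] at key
  rw [← ((centralizer (P : Set G)).subgroupOf (normalizer (P : Set G))).card_mul_index,
    Nat.card_congr (Subgroup.subgroupOfEquivOfLe (centralizer_le_normalizer _)).toEquiv]
  exact mul_dvd_mul_left _ key

theorem side_false (h23 : side 2 ↔ side 3) (h25 : side 2 ↔ side 5) (h211 : side 2 ↔ side 11)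
    (ha : ∃ a, side a ∧ a.Prime ∧ a ∣ 7920) (hb : ∃ b, ¬ side b ∧ b.Prime ∧ b ∣ 7920) : False := by
  have hmem : ∀ p : ℕ, p.Prime → p ∣ 7920 → (side p ↔ side 2) := by
    intro p hp hd
    have : p = 2 ∨ p = 3 ∨ p = 5 ∨ p = 11 := by
      rw [show 7920 = 2 ^ 4 * 3 ^ 2 * 5 * 11 by norm_num] at hd
      rcases hp.dvd_mul.1 hd with h | h
      · rcases hp.dvd_mul.1 h with h | h
        · rcases hp.dvd_mul.1 h with h | h
          · exact Or.inl ((Nat.prime_dvd_prime_iff_eq hp Nat.prime_two).1 (hp.dvd_of_dvd_pow h))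
          · exact Or.inr (Or.inl ((Nat.prime_dvd_prime_iff_eq hp Nat.prime_three).1 (hp.dvd_of_dvd_pow h)))
        · exact Or.inr (Or.inr (Or.inl ((Nat.prime_dvd_prime_iff_eq hp (by norm_num)).1 h)))
      · exact Or.inr (Or.inr (Or.inr ((Nat.prime_dvd_prime_iff_eq hp (by norm_num)).1 h)))
    rcases this with rfl | rfl | rfl | rfl
    · exact Iff.rfl
    · exact h23.symm
    · exact h25.symm
    · exact h211.symm
  obtain ⟨a, hsa, hap, had⟩ := ha
  obtain ⟨b, hsb, hbp, hbd⟩ := hb
  exact hsb ((hmem b hbp hbd).2 ((hmem a hap had).1 hsa))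

variable (hord : Nat.card G = 7920) (hs : Side G side)
include hord hs

/-- A normal subgroup of order 11 connects the graph. -/
theorem connect_eleven (P : Subgroup G) [P.Normal] (hP : Nat.card P = 11) :
    (side 2 ↔ side 3) ∧ (side 2 ↔ side 5) ∧ (side 2 ↔ side 11) := by
  haveI : Fact (Nat.Prime 11) := ⟨by norm_num⟩
  haveI : Fact (Nat.Prime 3) := ⟨Nat.prime_three⟩
  haveI : Fact (Nat.Prime 5) := ⟨by norm_num⟩
  have h := card_normalizer_dvd P hP
  rw [normalizer_eq_top, Subgroup.card_top, hord] at h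
  set C := centralizer (P : Set G) with hC
  change 7920 ∣ Nat.card C * 10 at h
  have hC2 : 2 ∣ Nat.card C := by omega
  have hC3 : 3 ∣ Nat.card C := by omega
  have hCd : Nat.card C ∣ 7920 := hord ▸ C.card_subgroup_dvd_card
  have e2 := side_centralizer hs (by norm_num) Nat.prime_two P hP.symm.dvd (p := 2) (r := 11) hC2
  have e3 := side_centralizer hs (by norm_num) Nat.prime_three P hP.symm.dvd (p := 3) (r := 11) hC3
  refine ⟨e2.symm.trans e3, ?_, e2.symm⟩
  by_cases h5 : 5 ∣ Nat.card C
  · exact e2.symm.trans (side_centralizer hs (by norm_num) (by norm_num) P hP.symm.dvd h5)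
  obtain ⟨R⟩ : Nonempty (Sylow 3 C) := inferInstance
  set R' := (R : Subgroup C).map C.subtype
  have hR : Nat.card R' = 9 := by
    rw [Subgroup.card_map_of_injective C.subtype_injective,
      SimpleOrder.sylow_card_of_eq (k := 2) (m := Nat.card C / 9) (by omega) ?_ R]
    · norm_num
    · intro hd
      have : 27 ∣ Nat.card C := by omega
      have := this.trans hCd
      norm_num at this
  have hN : Nat.card (normalizer (R' : Set G)) * Nat.card C % 5 = 0 := by
    have := card_sup_dvd (normalizer (R' : Set G)) C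
    rw [Sylow.normalizer_sup_eq_top R, Subgroup.card_top, hord] at this
    exact Nat.mod_eq_zero_of_dvd (dvd_trans (by norm_num) this)
  have h5N : 5 ∣ Nat.card (normalizer (R' : Set G)) :=
    ((by norm_num : Nat.Prime 5).dvd_mul.1 (Nat.dvd_of_mod_eq_zero hN)).resolve_right h5
  obtain ⟨y, hy⟩ := exists_prime_orderOf_dvd_card' 5 h5N
  have hc := commute_of_small (q := 5) (by rw [Subgroup.orderOf_coe]; exact hy) R' y.2 (by
    rw [hR]; intro f hf hf'
    have := Nat.le_of_dvd (by norm_num) hf
    interval_cases f <;> omega)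
  refine (e2.symm.trans e3).trans ?_
  refine side_centralizer hs Nat.prime_three (by norm_num) R' (by rw [hR]; norm_num) ?_
  have hmem : (y : G) ∈ centralizer (R' : Set G) := mem_centralizer_iff.2 fun r hr => (hc r hr).eq.symm
  have := Subgroup.orderOf_dvd_natCard _ hmem
  rwa [Subgroup.orderOf_coe, hy] at this

/-- A non-trivial normal p-subgroup connects the graph. -/
theorem connect_pgroup {p : ℕ} [hp : Fact p.Prime] (N : Subgroup G) [N.Normal] (hN : IsPGroup p N)
    (hne : N ≠ ⊥) : (side 2 ↔ side 3) ∧ (side 2 ↔ side 5) ∧ (side 2 ↔ side 11) := by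
  haveI : Fact (Nat.Prime 11) := ⟨by norm_num⟩
  haveI : Fact (Nat.Prime 5) := ⟨by norm_num⟩
  haveI : Fact (Nat.Prime 3) := ⟨Nat.prime_three⟩
  haveI : Fact (Nat.Prime 2) := ⟨Nat.prime_two⟩
  obtain ⟨k, hk⟩ := hN.exists_card_eq
  have hk0 : k ≠ 0 := fun h => hne (Subgroup.eq_bot_of_card_eq N (by rw [hk, h, pow_zero]))
  have hpN : p ∣ Nat.card N := hk ▸ dvd_pow_self p hk0
  have hmem : Nat.card N ∈ Nat.divisors 7920 :=
    Nat.mem_divisors.2 ⟨hord ▸ N.card_subgroup_dvd_card, by norm_num⟩
  have hnormal : ∀ x : G, x ∈ normalizer (N : Set G) := fun x => by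
    rw [normalizer_eq_top]; exact mem_top x
  -- elements of small prime order fixing `N`
  have hfix : ∀ r : ℕ, [Fact r.Prime] → r ∣ Nat.card G →
      (∀ f, f ∣ Nat.card N → f % r = Nat.card N % r → f = Nat.card N) → (side p ↔ side r) := by
    intro r _ hr hsmall
    obtain ⟨x, hx⟩ := exists_prime_orderOf_dvd_card' r hr
    refine side_centralizer hs hp.out Fact.out N hpN ?_
    have hc := commute_of_small hx N (hnormal x) hsmall
    exact hx ▸ Subgroup.orderOf_dvd_natCard _ (mem_centralizer_iff.2 fun n hn => (hc n hn).eq.symm)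
  have hfree : ∀ (r j : ℕ), [Fact r.Prime] → r ^ j ∣ Nat.card G → ¬ r ^ j ∣ Nat.card N - 1 →
      (side p ↔ side r) := by
    intro r j _ hr hnd
    obtain ⟨T, hT⟩ := Sylow.exists_subgroup_card_pow_prime r hr
    obtain ⟨t, ht, ht1, n, hn, hn1, hc⟩ := exists_commute T N (fun x _ => hnormal x) (hT.symm ▸ hnd)
    refine (hs t n hc r p Fact.out hp.out ?_ ?_).symm
    · obtain ⟨i, hi⟩ := (IsPGroup.of_card hT : IsPGroup r T) ⟨t, ht⟩
      have hd : orderOf t ∣ r ^ i := orderOf_dvd_of_pow_eq_one (congrArg Subtype.val hi)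
      obtain ⟨l, -, hl⟩ := (Nat.dvd_prime_pow Fact.out).1 hd
      rw [hl]
      refine dvd_pow_self r fun h => ht1 ?_
      rw [h, pow_zero, orderOf_eq_one_iff] at hl; exact hl
    · obtain ⟨i, hi⟩ := hN ⟨n, hn⟩
      have hd : orderOf n ∣ p ^ i := orderOf_dvd_of_pow_eq_one (congrArg Subtype.val hi)
      obtain ⟨l, -, hl⟩ := (Nat.dvd_prime_pow hp.out).1 hd
      rw [hl]
      refine dvd_pow_self p fun h => hn1 ?_
      rw [h, pow_zero, orderOf_eq_one_iff] at hl; exact hl
  have hpcases : Nat.card N = 11 ∨ Nat.card N = 5 ∨ (p = 3 ∧ (Nat.card N = 3 ∨ Nat.card N = 9)) ∨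
      (p = 2 ∧ (Nat.card N = 2 ∨ Nat.card N = 4 ∨ Nat.card N = 8 ∨ Nat.card N = 16)) := by
    have h : ∀ d ∈ Nat.divisors 7920, d = 1 ∨ (2 ∣ d ∧ (3 ∣ d ∨ 5 ∣ d ∨ 11 ∣ d)) ∨ (3 ∣ d ∧ (5 ∣ d ∨ 11 ∣ d)) ∨
        (5 ∣ d ∧ 11 ∣ d) ∨ d = 11 ∨ d = 5 ∨ d = 3 ∨ d = 9 ∨ d = 2 ∨ d = 4 ∨ d = 8 ∨ d = 16 := by decide +kernel
    have huniq : ∀ r : ℕ, r.Prime → r ∣ Nat.card N → r = p := fun r hr hd =>
      (Nat.prime_dvd_prime_iff_eq hr hp.out).1 (hr.dvd_of_dvd_pow (hk ▸ hd))
    rcases h _ hmem with h1 | ⟨a, b | b | b⟩ | ⟨a, b | b⟩ | ⟨a, b⟩ | h1 | h1 | h1 | h1 | h1 | h1 | h1 | h1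
    · exact absurd (Subgroup.eq_bot_of_card_eq N h1) hne
    all_goals first
      | (have := huniq 2 Nat.prime_two a; have := huniq 3 Nat.prime_three b; omega)
      | (have := huniq 2 Nat.prime_two a; have := huniq 5 (by norm_num) b; omega)
      | (have := huniq 2 Nat.prime_two a; have := huniq 11 (by norm_num) b; omega)
      | (have := huniq 3 Nat.prime_three a; have := huniq 5 (by norm_num) b; omega)
      | (have := huniq 3 Nat.prime_three a; have := huniq 11 (by norm_num) b; omega)
      | (have := huniq 5 (by norm_num) a; have := huniq 11 (by norm_num) b; omega)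
      | (exact Or.inl h1)
      | (exact Or.inr (Or.inl h1))
      | (have := huniq 3 Nat.prime_three (by omega); omega)
      | (have := huniq 2 Nat.prime_two (by omega); omega)
  rcases hpcases with h | h | ⟨rfl, h⟩ | ⟨rfl, h⟩
  · exact connect_eleven hord hs N h
  · have hd := card_normalizer_dvd N h
    rw [normalizer_eq_top, Subgroup.card_top, hord] at hd
    have e := fun r (hr : r.Prime) h' => side_centralizer hs (r := 5) (p := r) (by norm_num) hr N h.symm.dvd h'
    have e2 := e 2 Nat.prime_two (by omega)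
    have e3 := e 3 Nat.prime_three (by omega)
    have e11 := e 11 (by norm_num) (by omega)
    exact ⟨e2.symm.trans e3, e2.symm, e2.symm.trans e11⟩
  · have h5 := hfix 5 (by rw [hord]; norm_num) (by
      rcases h with h | h <;> rw [h] <;> intro f hf hf' <;>
        have := Nat.le_of_dvd (by norm_num) hf <;> interval_cases f <;> omega)
    have h11 := hfix 11 (by rw [hord]; norm_num) (by
      rcases h with h | h <;> rw [h] <;> intro f hf hf' <;>
        have := Nat.le_of_dvd (by norm_num) hf <;> interval_cases f <;> omega)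
    have h2 := hfree 2 4 (by rw [hord]; norm_num) (by rcases h with h | h <;> rw [h] <;> norm_num)
    exact ⟨h2.symm, h2.symm.trans h5, h2.symm.trans h11⟩
  · have h11 := hfix 11 (by rw [hord]; norm_num) (by
      rcases h with h | h | h | h <;> rw [h] <;> intro f hf hf' <;>
        have := Nat.le_of_dvd (by norm_num) hf <;> interval_cases f <;> omega)
    have h3 := hfree 3 2 (by rw [hord]; norm_num) (by rcases h with h | h | h | h <;> rw [h] <;> norm_num)
    rcases (by omega : (Nat.card N = 2 ∨ Nat.card N = 4 ∨ Nat.card N = 8) ∨ Nat.card N = 16) with h' | h'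
    · refine ⟨h3, hfix 5 (by rw [hord]; norm_num) (by
        rcases h' with h | h | h <;> rw [h] <;> intro f hf hf' <;>
          have := Nat.le_of_dvd (by norm_num) hf <;> interval_cases f <;> omega), h11⟩
    set C := centralizer (N : Set G)
    by_cases h5 : 5 ∣ Nat.card C
    · exact ⟨h3, side_centralizer hs Nat.prime_two (by norm_num) N hpN h5, h11⟩
    obtain ⟨x, hx⟩ := exists_prime_orderOf_dvd_card' (G := G) 11 (by rw [hord]; norm_num)
    have hxC : x ∈ C := mem_centralizer_iff.2 fun n hn =>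
      ((commute_of_small hx N (hnormal x) (by
        rw [h']; intro f hf hf'
        have := Nat.le_of_dvd (by norm_num) hf; interval_cases f <;> omega)) n hn).eq.symm
    obtain ⟨P⟩ : Nonempty (Sylow 11 C) := inferInstance
    set P' := (P : Subgroup C).map C.subtype
    have hC11 : 11 ∣ Nat.card C := hx ▸ Subgroup.orderOf_dvd_natCard _ hxC
    have hCd : Nat.card C ∣ 7920 := hord ▸ C.card_subgroup_dvd_card
    have hP : Nat.card P' = 11 := by
      rw [Subgroup.card_map_of_injective C.subtype_injective,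
        SimpleOrder.sylow_card_of_eq (k := 1) (m := Nat.card C / 11) (by omega) ?_ P, pow_one]
      intro hd
      have : 121 ∣ Nat.card C := by omega
      have := this.trans hCd
      norm_num at this
    set NP := normalizer (P' : Set G)
    have h5N : 5 ∣ Nat.card NP := by
      have := card_sup_dvd NP C
      rw [Sylow.normalizer_sup_eq_top P, Subgroup.card_top, hord] at this
      exact ((by norm_num : Nat.Prime 5).dvd_mul.1 (dvd_trans (by norm_num) this)).resolve_right h5
    have h16 : 16 ∣ Nat.card NP := h' ▸ Subgroup.card_dvd_of_le ((show N ≤ centralizer (P' : Set G) from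
      fun n hn => mem_centralizer_iff.2 fun y hy =>
        (mem_centralizer_iff.1 ((Subgroup.map_subtype_le _ hy : y ∈ C)) n hn).symm).trans
      (centralizer_le_normalizer _))
    have h11' : 11 ∣ Nat.card NP := hP ▸ Subgroup.card_dvd_of_le le_normalizer
    obtain ⟨P0, hP0⟩ := (IsPGroup.of_card (n := 1) (by rw [hP, pow_one]) : IsPGroup 11 P').exists_le_sylow
    have hP0eq : (P0 : Subgroup G) = P' := (Subgroup.eq_of_le_of_card_ge hP0 (by
      rw [SimpleOrder.sylow_card_of_eq (k := 1) (m := 720) (by rw [hord]; norm_num) (by norm_num) P0, pow_one,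
        hP])).symm
    have hs1 : Nat.card (Sylow 11 G) % 11 = 1 := Eq.trans (card_sylow_modEq_one 11 G) (by norm_num)
    rw [P0.card_eq_index_normalizer] at hs1
    change (normalizer ((P0 : Subgroup G) : Set G)).index % 11 = 1 at hs1
    rw [hP0eq] at hs1
    have hmul := NP.card_mul_index
    rw [hord] at hmul
    obtain ⟨j, hj⟩ : 880 ∣ Nat.card NP :=
      Nat.Coprime.mul_dvd_of_dvd_of_dvd (by norm_num : Nat.Coprime 80 11)
        (Nat.Coprime.mul_dvd_of_dvd_of_dvd (by norm_num : Nat.Coprime 16 5) h16 h5N) h11'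
    have hidx : NP.index ∣ 9 := ⟨j, by rw [hj] at hmul; nlinarith⟩
    have h1 : NP.index = 1 := by
      have := Nat.le_of_dvd (by norm_num) hidx
      change NP.index % 11 = 1 at hs1
      omega
    haveI : P'.Normal := normalizer_eq_top_iff.1 (Subgroup.index_eq_one.1 h1)
    exact connect_eleven hord hs P' hP

end Cfsg.Agent.Order7920Graph
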