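import Mathlib
import Cfsg.Prelude.Def_LieTypeDatum
import Cfsg.Agent.Lib.OrthUnitarySimilar
import Cfsg.Agent.Lib.AutOrth45Forms

/-!
The minus form over a finite field read over a field where its binary part factors: it becomes
the plus form.
-/

set_option autoImplicit false
set_option linter.unusedSectionVars false

namespace Cfsg.Agent.OrthBaseChange

open QuadraticMap Module
open scoped Matrix MatrixGroups
open Cfsg.Agent.OrthUnitaryQuad
open Cfsg.Agent.OrthUnitaryRefl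
open Cfsg.Agent.OrthUnitaryOmega
open Cfsg.Agent.OrthUnitaryPrelude
open Cfsg.Agent.OmegaClasses
open Cfsg.Agent.OrthUnitarySimAut
open Cfsg.Agent.OrthUnitarySimilar
open Cfsg.Agent.OrthUnitaryForms

section Ext

variable {F₀ : Type*} [Field F₀] {K : Type*} [Field K] (φ : F₀ →+* K) {ι : Type} [Fintype ι]
  [DecidableEq ι]

theorem single_rat (i : ι) :
    (Pi.single i (1 : K) : ι → K) = fun l => φ ((Pi.single i (1 : F₀) : ι → F₀) l) := by
  funext l; simp [Pi.single_apply, apply_ite φ]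

theorem map_mulVec (A : Matrix ι ι F₀) (v : ι → F₀) :
    A.map φ *ᵥ (fun i => φ (v i)) = fun i => φ ((A *ᵥ v) i) := by
  funext i; exact (RingHom.map_mulVec φ A v i).symm

/-- Linear maps agreeing on rational vectors are equal. -/
theorem lin_ext {W : Type*} [AddCommGroup W] [Module K W] (A B : (ι → K) →ₗ[K] W)
    (h : ∀ v : ι → F₀, A (fun i => φ (v i)) = B (fun i => φ (v i))) : A = B := by
  refine LinearMap.pi_ext' fun i => LinearMap.ext_ring ?_
  show A (Pi.single i 1) = B (Pi.single i 1)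
  rw [single_rat φ i]
  exact h _

/-- Forms agreeing on rational vectors are equal. -/
theorem form_ext (R R' : QuadraticForm K (ι → K))
    (h : ∀ v : ι → F₀, R (fun i => φ (v i)) = R' (fun i => φ (v i))) : R = R' := by
  have hadd : ∀ i j, R (Pi.single i 1 + Pi.single j 1) = R' (Pi.single i 1 + Pi.single j 1) := by
    intro i j
    rw [single_rat φ i, single_rat φ j]
    have := h (Pi.single i 1 + Pi.single j 1)
    simpa [Pi.add_def] using this
  have h1 : ∀ i, R (Pi.single i 1) = R' (Pi.single i 1) := fun i => by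
    rw [single_rat φ i]; exact h _
  have hb : polarBilin R = polarBilin R' := LinearMap.BilinForm.ext_basis (Pi.basisFun K ι)
    fun i j => by simp [Pi.basisFun_apply, polar, h1, hadd]
  have hp : ∀ x y, polar R x y = polar R' x y := fun x y =>
    congrArg (fun B : LinearMap.BilinForm K (ι → K) => B x y) hb
  refine QuadraticMap.ext fun x => ?_
  rw [pi_eq_sum_univ' x]
  induction (Finset.univ : Finset ι) using Finset.cons_induction with
  | empty => simp
  | cons a s ha ih =>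
    rw [Finset.sum_cons, QuadraticMap.map_add (⇑R), QuadraticMap.map_add (⇑R'), ih, hp,
      QuadraticMap.map_smul, QuadraticMap.map_smul, h1]

/-- A rational similarity of a rational form stays one. -/
theorem sim_map (R₀ : QuadraticForm F₀ (ι → F₀)) (R : QuadraticForm K (ι → K))
    (hR : ∀ v : ι → F₀, R (fun i => φ (v i)) = φ (R₀ v))
    (A : Matrix ι ι F₀) (μ : F₀) (hA : ∀ v, R₀ (A *ᵥ v) = μ * R₀ v) (w : ι → K) :
    R (A.map φ *ᵥ w) = φ μ * R w := by
  have e : R.comp (Matrix.toLin' (A.map φ)) = φ μ • R := by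
    refine form_ext φ _ _ fun v => ?_
    rw [QuadraticMap.comp_apply, Matrix.toLin'_apply, map_mulVec, hR, hA, map_mul, ← hR]
    rfl
  exact congrArg (fun T : QuadraticForm K (ι → K) => T w) e

end Ext

section Frame

variable {F₀ : Type*} [Field F₀] {K : Type*} [Field K]

/-- A factorisation of the binary form `z₁² + a z₁ z₂ + b z₂²` over `K`. -/
structure Frame (φ : F₀ →+* K) (a b : F₀) where
  ω : K
  ω' : K
  sum : ω + ω' = φ a
  prod : ω * ω' = φ b
  ne : ω ≠ ω'

variable {φ : F₀ →+* K} {a b : F₀} (S : Frame φ a b) (n : ℕ)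

theorem Frame.binary (z₁ z₂ : K) :
    (z₁ + S.ω * z₂) * (z₁ + S.ω' * z₂) = z₁ ^ 2 + φ a * z₁ * z₂ + φ b * z₂ ^ 2 := by
  rw [← S.sum, ← S.prod]; ring

/-- The coordinates in which the form is hyperbolic. -/
def Frame.L : ((Fin n ⊕ Fin n) ⊕ Fin 2 → K) ≃ₗ[K] (Fin (n + 1) ⊕ Fin (n + 1) → K) where
  toFun v := Sum.elim
    (Fin.lastCases (v (.inr 0) + S.ω * v (.inr 1)) fun i => v (.inl (.inl i)))
    (Fin.lastCases (v (.inr 0) + S.ω' * v (.inr 1)) fun i => v (.inl (.inr i)))
  map_add' u v := by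
    funext i
    rcases i with i | i <;> refine Fin.lastCases ?_ ?_ i <;> (try intro j) <;> simp <;> ring
  map_smul' t v := by
    funext i
    rcases i with i | i <;> refine Fin.lastCases ?_ ?_ i <;> (try intro j) <;> simp <;> ring
  invFun w := Sum.elim
    (Sum.elim (fun i => w (.inl i.castSucc)) fun i => w (.inr i.castSucc))
    ![(S.ω * w (.inr (Fin.last n)) - S.ω' * w (.inl (Fin.last n))) / (S.ω - S.ω'),
      (w (.inl (Fin.last n)) - w (.inr (Fin.last n))) / (S.ω - S.ω')]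
  left_inv v := by
    have := sub_ne_zero.2 S.ne
    funext i
    rcases i with (i | i) | i
    · simp
    · simp
    · fin_cases i <;> simp <;> field_simp <;> ring
  right_inv w := by
    have := sub_ne_zero.2 S.ne
    funext i
    rcases i with i | i <;> refine Fin.lastCases ?_ ?_ i <;> (try intro j) <;> simp <;> field_simp <;> ring

theorem Frame.L_form (v : (Fin n ⊕ Fin n) ⊕ Fin 2 → K) :
    QuadClassify.qPlus (n + 1) K (S.L n v) = QuadClassify.qMinus n K (φ a) (φ b) v := by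
  rw [QuadClassify.qPlus_apply, QuadClassify.qMinus_apply]
  simp [quadFormPlus, quadFormMinus, Fin.sum_univ_castSucc, Frame.L, S.binary]

theorem Frame.symm_form (w : Fin (n + 1) ⊕ Fin (n + 1) → K) :
    QuadClassify.qMinus n K (φ a) (φ b) ((S.L n).symm w) = QuadClassify.qPlus (n + 1) K w := by
  rw [← S.L_form, LinearEquiv.apply_symm_apply]

theorem qMinus_rat (v : (Fin n ⊕ Fin n) ⊕ Fin 2 → F₀) :
    QuadClassify.qMinus n K (φ a) (φ b) (fun i => φ (v i)) = φ (QuadClassify.qMinus n F₀ a b v) := by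
  simp [QuadClassify.qMinus_apply, quadFormMinus]

/-- Conjugation by the coordinate change. -/
noncomputable def Frame.conjM :
    Matrix ((Fin n ⊕ Fin n) ⊕ Fin 2) ((Fin n ⊕ Fin n) ⊕ Fin 2) K →*
      Matrix (Fin (n + 1) ⊕ Fin (n + 1)) (Fin (n + 1) ⊕ Fin (n + 1)) K :=
  ((LinearMap.toMatrixAlgEquiv' : _ ≃ₐ[K] _).toMonoidHom.comp
    (((S.L n).conjAlgEquiv K).toMonoidHom)).comp
    (Matrix.toLinAlgEquiv' : _ ≃ₐ[K] _).toMonoidHom

theorem Frame.conjM_mulVec (A : Matrix ((Fin n ⊕ Fin n) ⊕ Fin 2) ((Fin n ⊕ Fin n) ⊕ Fin 2) K)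
    (w : (Fin n ⊕ Fin n) ⊕ Fin 2 → K) : S.conjM n A *ᵥ S.L n w = S.L n (A *ᵥ w) := by
  show LinearMap.toMatrix' ((S.L n).conj (Matrix.toLin' A)) *ᵥ S.L n w = _
  rw [LinearMap.toMatrix'_mulVec, LinearEquiv.conj_apply]
  simp

/-- The base change of a matrix. -/
noncomputable def Frame.theta :
    GL ((Fin n ⊕ Fin n) ⊕ Fin 2) F₀ →* GL (Fin (n + 1) ⊕ Fin (n + 1)) K :=
  (Units.map (S.conjM n)).comp (Matrix.GeneralLinearGroup.map φ)

theorem Frame.theta_mulVec (g : GL ((Fin n ⊕ Fin n) ⊕ Fin 2) F₀)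
    (w : (Fin n ⊕ Fin n) ⊕ Fin 2 → K) :
    (S.theta n g).1 *ᵥ S.L n w = S.L n (g.1.map φ *ᵥ w) :=
  S.conjM_mulVec n _ w

theorem Frame.theta_rat (g : GL ((Fin n ⊕ Fin n) ⊕ Fin 2) F₀)
    (v : (Fin n ⊕ Fin n) ⊕ Fin 2 → F₀) :
    (S.theta n g).1 *ᵥ S.L n (fun i => φ (v i)) = S.L n (fun i => φ ((g.1 *ᵥ v) i)) := by
  rw [S.theta_mulVec, map_mulVec]

theorem Frame.theta_form {g : GL ((Fin n ⊕ Fin n) ⊕ Fin 2) F₀} {μ : F₀}
    (hg : ∀ v, QuadClassify.qMinus n F₀ a b (g.1 *ᵥ v) = μ * QuadClassify.qMinus n F₀ a b v)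
    (w : Fin (n + 1) ⊕ Fin (n + 1) → K) :
    QuadClassify.qPlus (n + 1) K ((S.theta n g).1 *ᵥ w) = φ μ * QuadClassify.qPlus (n + 1) K w := by
  obtain ⟨v, rfl⟩ := (S.L n).surjective w
  rw [S.theta_mulVec, S.L_form, S.L_form]
  exact sim_map φ _ _ (qMinus_rat n) g.1 μ hg v

/-- The base change of similarities. -/
noncomputable def Frame.simHom :
    Sim (QuadClassify.qMinus n F₀ a b) →* Sim (QuadClassify.qPlus (n + 1) K) :=
  ((S.theta n).comp (Sim (QuadClassify.qMinus n F₀ a b)).subtype).codRestrict _ fun g => by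
    obtain ⟨c, hc⟩ := g.2
    refine ⟨Units.map (φ : F₀ →* K) c, fun w => ?_⟩
    exact S.theta_form n hc w

theorem Frame.simHom_coe (g : Sim (QuadClassify.qMinus n F₀ a b)) :
    (S.simHom n g : GL (Fin (n + 1) ⊕ Fin (n + 1)) K) = S.theta n g := rfl

/-- The image of a rational vector. -/
def Frame.vec (v : (Fin n ⊕ Fin n) ⊕ Fin 2 → F₀) : Fin (n + 1) ⊕ Fin (n + 1) → K :=
  S.L n fun i => φ (v i)

theorem Frame.vec_value (v : (Fin n ⊕ Fin n) ⊕ Fin 2 → F₀) :
    QuadClassify.qPlus (n + 1) K (S.vec n v) = φ (QuadClassify.qMinus n F₀ a b v) := by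
  rw [Frame.vec, S.L_form, qMinus_rat]

theorem Frame.vec_ns {vs : List ((Fin n ⊕ Fin n) ⊕ Fin 2 → F₀)}
    (h : NS (QuadClassify.qMinus n F₀ a b) vs) :
    NS (QuadClassify.qPlus (n + 1) K) (vs.map (S.vec n)) := by
  intro w hw
  obtain ⟨v, hv, rfl⟩ := List.mem_map.1 hw
  rw [S.vec_value]
  exact (map_ne_zero φ).2 (h v hv)

theorem Frame.vec_prod (vs : List ((Fin n ⊕ Fin n) ⊕ Fin 2 → F₀)) :
    ((vs.map (S.vec n)).map (QuadClassify.qPlus (n + 1) K)).prod
      = φ (vs.map (QuadClassify.qMinus n F₀ a b)).prod := by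
  rw [map_list_prod, List.map_map, List.map_map]
  exact congrArg List.prod (List.map_congr_left fun v _ => S.vec_value n v)

variable [Fintype F₀] [Fintype K]

omit [Fintype F₀] in
theorem ofOrth_one {ι : Type} [Fintype ι] [DecidableEq ι] {R : QuadraticForm K (ι → K)} :
    ofOrth (1 : orth R) = 1 := Subtype.ext (by simp [ofOrth])

theorem Frame.simHom_refl {v : (Fin n ⊕ Fin n) ⊕ Fin 2 → F₀}
    (hv : QuadClassify.qMinus n F₀ a b v ≠ 0)
    (hv' : QuadClassify.qPlus (n + 1) K (S.vec n v) ≠ 0) :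
    S.simHom n (ofOrth (refl _ v hv)) = ofOrth (refl _ (S.vec n v) hv') := by
  set R := QuadClassify.qPlus (n + 1) K
  have key : (Matrix.toLin' (S.simHom n (ofOrth (refl _ v hv)) : GL _ K).1).comp
      (S.L n).toLinearMap = (refl R (S.vec n v) hv').1.toLinearMap.comp (S.L n).toLinearMap := by
    refine lin_ext φ _ _ fun u => ?_
    show Matrix.toLin' _ (S.L n fun i => φ (u i)) = (refl R (S.vec n v) hv').1 (S.vec n u)
    rw [Matrix.toLin'_apply, S.simHom_coe, S.theta_rat, ofOrth_mulVec, refl_apply, refl_apply]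
    have hp : polar R (S.vec n v) (S.vec n u)
        = φ (polar (QuadClassify.qMinus n F₀ a b) v u) := by
      have hadd : S.vec n v + S.vec n u = S.vec n (v + u) := by
        simp only [Frame.vec, ← map_add]
        congr 1
        funext i; simp
      simp only [polar, R, hadd, S.vec_value, map_sub]
    rw [hp, S.vec_value]
    show _ = S.L n _ - _ • S.L n _
    rw [← map_smul, ← map_sub]
    congr 1
    funext i; simp
  refine Subtype.ext (Units.ext (Matrix.ext_iff_mulVec.2 fun w => ?_))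
  obtain ⟨u, rfl⟩ := (S.L n).surjective w
  rw [ofOrth_mulVec]
  have := congrArg (fun A : _ →ₗ[K] _ => A u) key
  simpa [Matrix.toLin'_apply] using this

theorem Frame.simHom_rprod {vs : List ((Fin n ⊕ Fin n) ⊕ Fin 2 → F₀)}
    (h : NS (QuadClassify.qMinus n F₀ a b) vs) :
    S.simHom n (ofOrth (rprod _ vs)) = ofOrth (rprod _ (vs.map (S.vec n))) := by
  induction vs with
  | nil => simp only [List.map_nil, rprod_nil, ofOrth_one, map_one]
  | cons v vs ih =>
    have hn := S.vec_ns n h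
    rw [List.map_cons] at hn ⊢
    rw [rprod_cons h.head, rprod_cons hn.head, ofOrth_mul, ofOrth_mul, map_mul, ih h.tail,
      S.simHom_refl n h.head hn.head]

theorem Frame.simHom_scalar {g : Sim (QuadClassify.qMinus n F₀ a b)}
    (hg : g ∈ scalarSim _) : S.simHom n g ∈ scalarSim _ := by
  obtain ⟨l, hl, hl0⟩ := (mem_scalarSim _).1 hg
  refine (mem_scalarSim _).2 ⟨φ l, Matrix.ext_iff_mulVec.2 fun w => ?_, (map_ne_zero φ).2 hl0⟩
  obtain ⟨u, rfl⟩ := (S.L n).surjective w
  rw [S.simHom_coe, S.theta_mulVec, hl, Matrix.map_smul' φ l 1 (map_mul φ), Matrix.map_one φ (map_zero φ)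
    (map_one φ), Matrix.smul_mulVec, Matrix.one_mulVec, Matrix.smul_mulVec, Matrix.one_mulVec,
    map_smul]

/-- Scalars come from scalars. -/
theorem Frame.scalar_of_simHom {g : Sim (QuadClassify.qMinus n F₀ a b)}
    (hg : S.simHom n g ∈ scalarSim _) : g ∈ scalarSim _ := by
  obtain ⟨l, hl, hl0⟩ := (mem_scalarSim _).1 hg
  have h1 : ∀ w, ((g : GL ((Fin n ⊕ Fin n) ⊕ Fin 2) F₀).1.map φ) *ᵥ w = l • w := fun w =>
    (S.L n).injective (by
    rw [← S.theta_mulVec, ← S.simHom_coe, hl, Matrix.smul_mulVec, Matrix.one_mulVec, map_smul])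
  have h2 : (g : GL ((Fin n ⊕ Fin n) ⊕ Fin 2) F₀).1.map φ = l • 1 := Matrix.ext_iff_mulVec.2 fun w => by
    rw [h1, Matrix.smul_mulVec, Matrix.one_mulVec]
  obtain ⟨l₀, hl₀⟩ : ∃ l₀, φ l₀ = l := ⟨(g : GL ((Fin n ⊕ Fin n) ⊕ Fin 2) F₀).1 (.inr 0) (.inr 0), by
    simpa using congrFun₂ h2 (.inr 0) (.inr 0)⟩
  refine (mem_scalarSim _).2 ⟨l₀, ?_, fun e => hl0 (by rw [← hl₀, e, map_zero])⟩
  ext i j
  refine φ.injective ?_
  have := congrFun₂ h2 i j
  simp only [Matrix.map_apply, Matrix.smul_apply, Matrix.one_apply, smul_eq_mul] at this ⊢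
  rw [this, ← hl₀]
  split_ifs <;> simp

/-- The similarity multiplying the binary part by `z₁ + z₂ ω`. -/
def binScale (n : ℕ) (a b : F₀) (z : Fin 2 → F₀) :
    Matrix ((Fin n ⊕ Fin n) ⊕ Fin 2) ((Fin n ⊕ Fin n) ⊕ Fin 2) F₀ :=
  Matrix.fromBlocks
    (Matrix.fromBlocks 1 0 0 ((z 0 ^ 2 + a * z 0 * z 1 + b * z 1 ^ 2) • 1)) 0 0
    !![z 0, -(b * z 1); z 1, z 0 + a * z 1]

theorem binScale_det (z : Fin 2 → F₀) :
    (binScale n a b z).det = (z 0 ^ 2 + a * z 0 * z 1 + b * z 1 ^ 2) ^ (n + 1) := by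
  rw [binScale, Matrix.det_fromBlocks_zero₂₁, Matrix.det_fromBlocks_zero₂₁, Matrix.det_one,
    one_mul, Matrix.det_smul, Matrix.det_one, mul_one, Fintype.card_fin, Matrix.det_fin_two_of]
  ring

theorem binScale_form (z : Fin 2 → F₀) (v : (Fin n ⊕ Fin n) ⊕ Fin 2 → F₀) :
    QuadClassify.qMinus n F₀ a b (binScale n a b z *ᵥ v)
      = (z 0 ^ 2 + a * z 0 * z 1 + b * z 1 ^ 2) * QuadClassify.qMinus n F₀ a b v := by
  rw [QuadClassify.qMinus_apply, QuadClassify.qMinus_apply, binScale, Matrix.fromBlocks_mulVec]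
  simp [quadFormMinus, Matrix.fromBlocks_mulVec, Function.comp_def, Matrix.smul_mulVec,
    Finset.mul_sum, mul_add, Matrix.vecHead, Matrix.vecTail]
  have : ∀ i : Fin n, v (.inl (.inl i)) * ((z 0 ^ 2 + a * z 0 * z 1 + b * z 1 ^ 2)
      * v (.inl (.inr i))) = (z 0 ^ 2 + a * z 0 * z 1 + b * z 1 ^ 2)
      * (v (.inl (.inl i)) * v (.inl (.inr i))) := fun i => by ring
  simp [this]
  ring

/-- The value of a binary pair. -/
def bval (a b : F₀) (z : Fin 2 → F₀) : F₀ := z 0 ^ 2 + a * z 0 * z 1 + b * z 1 ^ 2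

/-- `binScale` as a similarity. -/
def binSim (n : ℕ) (z : Fin 2 → F₀) (hz : bval a b z ≠ 0) :
    Sim (QuadClassify.qMinus n F₀ a b) :=
  ⟨Matrix.GeneralLinearGroup.mkOfDetNeZero (binScale n a b z)
    (by rw [binScale_det]; exact pow_ne_zero _ hz), Units.mk0 _ hz, fun v => binScale_form n z v⟩

/-- Over `K` it is diagonal. -/
def Frame.dvec (z : Fin 2 → F₀) : Fin (n + 1) ⊕ Fin (n + 1) → K :=
  Sum.elim (Fin.lastCases (φ (z 0) + S.ω * φ (z 1)) fun _ => 1)
    (Fin.lastCases (φ (z 0) + S.ω' * φ (z 1)) fun _ => φ (bval a b z))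

theorem Frame.simHom_binSim (z : Fin 2 → F₀) (hz : bval a b z ≠ 0) :
    (S.simHom n (binSim n z hz) : GL (Fin (n + 1) ⊕ Fin (n + 1)) K).1
      = Matrix.diagonal (S.dvec n z) := by
  refine Matrix.ext_iff_mulVec.2 fun w => ?_
  obtain ⟨u, rfl⟩ := (S.L n).surjective w
  rw [S.simHom_coe, S.theta_mulVec]
  funext i
  rw [Matrix.mulVec_diagonal]
  have hb : (binSim n z hz : GL _ F₀).1 = binScale n a b z := rfl
  rw [hb, binScale]
  rcases i with i | i <;> refine Fin.lastCases ?_ ?_ i <;> (try intro j)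
  all_goals
    simp [Frame.L, Frame.dvec, Matrix.fromBlocks_map, Matrix.fromBlocks_mulVec, Function.comp_def,
      Matrix.smul_mulVec, bval, Matrix.mulVec, dotProduct, Fin.sum_univ_two, Matrix.one_apply,
      apply_ite φ, ite_mul]
  · linear_combination (-(φ (z 1) * u (.inr 1)) * S.ω) * S.sum + φ (z 1) * u (.inr 1) * S.prod
  · linear_combination (-(φ (z 1) * u (.inr 1)) * S.ω') * S.sum + φ (z 1) * u (.inr 1) * S.prod

end Frame

section Decomp

variable {F₀ : Type*} [Field F₀] [Fintype F₀] {a b : F₀}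

/-- Every similarity of the minus form is `binScale` times a product of reflections. -/
theorem exists_binSim_mul {n : ℕ} (hn : 2 ≤ n) (hab : IsAniso a b)
    (g : Sim (QuadClassify.qMinus n F₀ a b)) :
    ∃ (z : Fin 2 → F₀) (hz : bval a b z ≠ 0) (vs : List ((Fin n ⊕ Fin n) ⊕ Fin 2 → F₀)),
      NS (QuadClassify.qMinus n F₀ a b) vs ∧ g = binSim n z hz * ofOrth (rprod _ vs) := by
  obtain ⟨c, hc⟩ := g.2
  obtain ⟨z, hz⟩ := exists_map_eq (isReg_qfBin hab) (by simp) (c : F₀)
  rw [qfBin_apply] at hz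
  have hz0 : bval a b z ≠ 0 := by rw [bval, hz]; exact c.ne_zero
  set k := (binSim n z hz0)⁻¹ * g with hkdef
  have hk : (k : GL ((Fin n ⊕ Fin n) ⊕ Fin 2) F₀) ∈
      isometryGroup F₀ ⇑(QuadClassify.qMinus n F₀ a b) := by
    intro u v
    show QuadClassify.qMinus n F₀ a b ((k : GL ((Fin n ⊕ Fin n) ⊕ Fin 2) F₀).1 *ᵥ u)
      = QuadClassify.qMinus n F₀ a b u
    have e1 := binScale_form (n := n) (a := a) (b := b) z
      ((k : GL ((Fin n ⊕ Fin n) ⊕ Fin 2) F₀).1 *ᵥ u)
    have e2 : binScale n a b z *ᵥ ((k : GL ((Fin n ⊕ Fin n) ⊕ Fin 2) F₀).1 *ᵥ u)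
        = (g : GL ((Fin n ⊕ Fin n) ⊕ Fin 2) F₀).1 *ᵥ u := by
      rw [Matrix.mulVec_mulVec]
      congr 1
      show ((binSim n z hz0 * k : Sim _) : GL ((Fin n ⊕ Fin n) ⊕ Fin 2) F₀).1 = _
      rw [hkdef, mul_inv_cancel_left]
    rw [e2, hc, hz] at e1
    exact mul_left_cancel₀ c.ne_zero e1.symm
  have hnd := AutOrth45Forms.nondegenerate_qMinus hab n
  obtain ⟨vs, hvs, e⟩ := exists_rprod (reflGroup_top hnd (Or.inr (by
    rw [Module.finrank_pi]; simp; omega))) (iso (QuadClassify.qMinus n F₀ a b) ⟨_, hk⟩)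
  refine ⟨z, hz0, vs, hvs, ?_⟩
  rw [← e, show ofOrth (iso (QuadClassify.qMinus n F₀ a b) ⟨_, hk⟩) = k from
    Subtype.ext (by simp [ofOrth]), hkdef]
  rw [mul_inv_cancel_left]

theorem frame_ne {K : Type*} [Field K] (φ : F₀ →+* K) (hab : IsAniso a b) {ω : K}
    (hω : ω ^ 2 - φ a * ω + φ b = 0) : ω ≠ φ a - ω := by
  intro he
  by_cases h2 : (2 : F₀) = 0
  · apply a_ne_zero_of_two_eq_zero hab h2
    refine φ.injective ?_
    rw [map_zero]
    have : (2 : K) = 0 := by rw [← map_ofNat φ 2, h2, map_zero]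
    linear_combination -he + ω * this
  · obtain ⟨r, hr⟩ : ∃ r : F₀, φ r = ω := ⟨a / 2, by
      have h2K : (2 : K) ≠ 0 := by rw [← map_ofNat φ 2]; exact (map_ne_zero φ).2 h2
      rw [map_div₀, map_ofNat, div_eq_iff h2K]; linear_combination -he⟩
    have hr0 : r ^ 2 - a * r + b = 0 := φ.injective (by
      simp only [map_add, map_sub, map_mul, map_pow, hr, map_zero]; exact hω)
    exact one_ne_zero (hab (-r) 1 (by linear_combination hr0)).2

/-- The polynomial with root `ω`. -/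
noncomputable def poly (a b : F₀) : Polynomial F₀ :=
  Polynomial.X ^ 2 - Polynomial.C a * Polynomial.X + Polynomial.C b

theorem poly_degree : (poly a b).natDegree = 2 := by rw [poly]; compute_degree!

theorem poly_irreducible (hab : IsAniso a b) : Irreducible (poly a b) := by
  refine Polynomial.irreducible_of_degree_le_three_of_not_isRoot
    (by rw [poly_degree]; simp) fun r hr => ?_
  simp [poly, Polynomial.IsRoot] at hr
  exact one_ne_zero (hab (-r) 1 (by linear_combination hr)).2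

/-- In a quadratic extension the binary form factors. -/
theorem exists_frame {K : Type*} [Field K] [Algebra F₀ K] (hK : finrank F₀ K = 2)
    (hab : IsAniso a b) : Nonempty (Frame (algebraMap F₀ K) a b) := by
  haveI := Fact.mk (poly_irreducible hab)
  haveI : FiniteDimensional F₀ K := Module.finite_of_finrank_eq_succ hK
  haveI : Finite K := Module.finite_of_finite F₀
  have hE : finrank F₀ (AdjoinRoot (poly a b)) = 2 := by
    rw [(AdjoinRoot.powerBasis (poly_irreducible hab).ne_zero).finrank,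
      AdjoinRoot.powerBasis_dim, poly_degree]
  obtain ⟨f⟩ := FiniteField.nonempty_algHom_of_finrank_dvd (F := F₀)
    (K := AdjoinRoot (poly a b)) (L := K) (by rw [hE, hK])
  set ω := f (AdjoinRoot.root (poly a b))
  have hω : ω ^ 2 - algebraMap F₀ K a * ω + algebraMap F₀ K b = 0 := by
    have h : Polynomial.aeval (AdjoinRoot.root (poly a b)) (poly a b) = 0 := by
      rw [AdjoinRoot.aeval_eq, AdjoinRoot.mk_self]
    have h' : Polynomial.aeval ω (poly a b) = 0 := by
      rw [Polynomial.aeval_algHom_apply, h, map_zero]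
    generalize ω = t at h' ⊢
    simpa [poly] using h'
  exact ⟨⟨ω, algebraMap F₀ K a - ω, by ring, by linear_combination -hω,
    frame_ne _ hab hω⟩⟩

/-- A quadratic extension in the universe of the base field. -/
theorem exists_extension.{u} {F₀ : Type u} [Field F₀] [Fintype F₀] {a b : F₀} (hab : IsAniso a b) :
    ∃ (K : Type u) (_ : Field K) (_ : Algebra F₀ K), finrank F₀ K = 2 := by
  haveI := Fact.mk (poly_irreducible hab)
  refine ⟨AdjoinRoot (poly a b), inferInstance, inferInstance, ?_⟩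
  rw [(AdjoinRoot.powerBasis (poly_irreducible hab).ne_zero).finrank,
    AdjoinRoot.powerBasis_dim, poly_degree]

end Decomp

end Cfsg.Agent.OrthBaseChange
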