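import Mathlib
import Cfsg.Agent.Lib.SympSemisimpleClasses
import Cfsg.Agent.Lib.SelfReciprocalFactors

/-!
Elements of odd prime order `r ≠ p` of `Sp_2d(q)` with a single irreducible block of degree
`ord_r q`.
-/

set_option autoImplicit false

open Matrix Polynomial

namespace Cfsg.Agent.SympPrimeElements

open Cfsg.Agent.SymplecticBasic Cfsg.Agent.SelfReciprocalFactors Cfsg.Agent.PrimeOrderClassCount

variable {F : Type*} [Field F] {d : ℕ}

theorem exists_of_charpoly [Finite F] {p r : ℕ} [Fact p.Prime] [CharP F p] (hr : r ≠ 0)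
    (P : F[X]) (hPm : P.Monic) (hPmir : P.mirror = P) (hPd : P.natDegree = 2 * d)
    {N : ℕ} (hN : P ∣ (X ^ r - 1) ^ N) :
    ∃ g : symplecticGroup (Fin d) F, g ^ r = 1 ∧ g.1.charpoly = P := by
  classical
  have hp : p.Prime := Fact.out
  obtain ⟨g, hg⟩ := SympSemisimpleClasses.exists_halfCoeffs (F := F) (n := d) fun j => P.coeff (j + 1)
  obtain ⟨Z, hZ⟩ := hN
  have hPsym : ∀ k ≤ 2 * d, P.coeff k = P.coeff (2 * d - k) := by
    intro k hk
    have h0 : P.natTrailingDegree = 0 := by
      refine natTrailingDegree_eq_zero.2 (Or.inr fun hc => ?_)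
      have h1 := congrArg (eval 0) hZ
      rw [eval_mul, ← Polynomial.coeff_zero_eq_eval_zero P, hc, zero_mul] at h1
      simp [hr] at h1
    conv_lhs => rw [← hPmir, coeff_mirror, h0, hPd, add_zero, revAt_le hk]
  have hcard : Fintype.card (Fin d ⊕ Fin d) = 2 * d := by simp [two_mul]
  have h2m : g.1.charpoly.natDegree = 2 * d := by rw [Matrix.charpoly_natDegree_eq_dim, hcard]
  have hlow : ∀ k ≤ d, g.1.charpoly.coeff k = P.coeff k := by
    intro k hk
    rcases k with _ | j
    · rw [SympSemisimpleClasses.charpoly_coeff_palindromic g.2 (Nat.zero_le _),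
        hPsym 0 (Nat.zero_le _), Nat.sub_zero, show P.coeff (2 * d) = 1 from hPd ▸ hPm.coeff_natDegree,
        ← h2m]
      exact (Matrix.charpoly_monic g.1).coeff_natDegree
    · exact congrFun hg ⟨j, hk⟩
  have hgP : g.1.charpoly = P := by
    ext k
    rcases le_or_gt k d with hk | hk
    · exact hlow k hk
    rcases le_or_gt k (2 * d) with hk' | hk'
    · rw [SympSemisimpleClasses.charpoly_coeff_palindromic g.2 hk', hPsym k hk', hlow _ (by omega)]
    · rw [coeff_eq_zero_of_natDegree_lt (h2m ▸ hk'), coeff_eq_zero_of_natDegree_lt (hPd ▸ hk')]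
  obtain ⟨a, k, hco, hpow⟩ := SemisimpleConjGL.exists_regular_part p g
  have hc1 : (g ^ a).1.charpoly = P := by
    rw [← hgP]
    refine SemisimpleConjGL.charpoly_eq_of_pow_eq (p := p) (k := k) ?_
    rw [← SubmonoidClass.coe_pow, ← SubmonoidClass.coe_pow, hpow]
  refine ⟨g ^ a, ?_, hc1⟩
  rcases isEmpty_or_nonempty (Fin d ⊕ Fin d) with hι | hι
  · exact Subtype.ext (Subsingleton.elim _ _)
  have h0 : ((g ^ a).1 ^ r - 1) ^ N = 0 := by
    have := Matrix.aeval_self_charpoly (g ^ a).1
    rw [hc1] at this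
    have h2 := congrArg (aeval (g ^ a).1) hZ
    rw [map_mul, this, zero_mul] at h2
    simpa using h2
  obtain ⟨l, hl⟩ : ∃ l, N ≤ p ^ l := ⟨N, (Nat.lt_pow_self hp.one_lt).le⟩
  have h1 := pow_eq_zero_of_le hl h0
  rw [sub_pow_char_pow_of_commute (p := p) _ (Commute.one_right _), one_pow, sub_eq_zero,
    ← pow_mul, ← SubmonoidClass.coe_pow] at h1
  have h2 : (g ^ a) ^ (r * p ^ l) = 1 := Subtype.ext h1
  exact orderOf_dvd_iff_pow_eq_one.1
    ((Nat.Coprime.pow_right l hco).dvd_of_dvd_mul_right (orderOf_dvd_of_pow_eq_one h2))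

theorem pow_eq_comp [Fintype F] {q : ℕ} (hF : Fintype.card F = q) (h : F[X]) (k : ℕ) :
    h.comp (X ^ q ^ k) = h ^ q ^ k := by
  induction k with
  | zero => simp
  | succ k ih =>
    rw [pow_succ q k, pow_mul h, ← hF, ← FiniteField.expand_card, hF, expand_eq_comp_X_pow, ← ih,
      comp_assoc, X_pow_comp, ← pow_mul, mul_comm q (q ^ k)]

theorem aeval_pow_card [Fintype F] {q : ℕ} (hF : Fintype.card F = q) {R : Type*} [Ring R] [Algebra F R]
    (A : R) (h : F[X]) (k : ℕ) : aeval (A ^ q ^ k) h = aeval A h ^ q ^ k := by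
  rw [← map_pow, ← pow_eq_comp hF h k, aeval_comp, map_pow, aeval_X]

theorem pow_half_eq_neg_one {q r i k : ℕ} [Fact r.Prime] (hi : i = orderOf (q : ZMod r))
    (hk : i = k + k) (hk0 : 0 < k) : r ∣ q ^ k + 1 := by
  have hneg : (q : ZMod r) ^ k = -1 := by
    have h2 : (q : ZMod r) ^ k * (q : ZMod r) ^ k = 1 := by
      rw [← pow_add, ← hk, hi, pow_orderOf_eq_one]
    rcases mul_self_eq_one_iff.1 h2 with h1 | h1
    · have := orderOf_dvd_of_pow_eq_one h1
      rw [← hi] at this
      have := Nat.le_of_dvd hk0 this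
      omega
    · exact h1
  rw [← ZMod.natCast_eq_zero_iff]
  push_cast
  rw [hneg, neg_add_cancel]

theorem adj_aeval {A B : Module.End F (Fin d ⊕ Fin d → F)}
    (h : ∀ u v, sympForm d F (A u) v = sympForm d F u (B v)) (μ : F[X]) :
    ∀ u v, sympForm d F (aeval A μ u) v = sympForm d F u (aeval B μ v) := by
  induction μ using Polynomial.induction_on with
  | C a => intro u v; simp [Module.algebraMap_end_apply, form_smul_left, form_smul_right]
  | add a b ha hb =>
    intro u v
    simp only [map_add, LinearMap.add_apply, form_add_left, form_add_right, ha, hb]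
  | monomial n a ih =>
    intro u v
    rw [pow_succ, ← mul_assoc]
    conv_lhs => rw [map_mul, aeval_X, Module.End.mul_apply, ih, h]
    conv_rhs => rw [mul_comm, map_mul, aeval_X, Module.End.mul_apply]

theorem aeval_blocks {V Q : Type*} [AddCommGroup V] [Module F V] [AddCommGroup Q] [Module F Q]
    {g : F[X]} (A : Module.End F V) (c : Module.End F Q) (e : (AdjoinRoot g × Q) ≃ₗ[F] V)
    (he : ∀ y z, A (e (y, z)) = e (AdjoinRoot.root g * y, c z)) (h : F[X]) :
    ∀ y z, aeval A h (e (y, z)) = e (AdjoinRoot.mk g h * y, aeval c h z) := by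
  induction h using Polynomial.induction_on with
  | C a =>
    intro y z
    rw [aeval_C, aeval_C, Module.algebraMap_end_apply, Module.algebraMap_end_apply, ← map_smul,
      Prod.smul_mk, AdjoinRoot.mk_C, Algebra.smul_def, AdjoinRoot.algebraMap_eq]
  | add a b ha hb =>
    intro y z
    rw [map_add, map_add, map_add, LinearMap.add_apply, LinearMap.add_apply, ha, hb, ← map_add, Prod.mk_add_mk, add_mul]
  | monomial n a ih =>
    intro y z
    have e1 : aeval c (C a * X ^ n * X) z = aeval c (C a * X ^ n) (c z) := by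
      rw [map_mul (aeval c) (C a * X ^ n), Module.End.mul_apply, aeval_X]
    rw [pow_succ, ← mul_assoc, e1, map_mul (aeval A) (C a * X ^ n), Module.End.mul_apply, aeval_X, he, ih,
      map_mul (AdjoinRoot.mk g) (C a * X ^ n), AdjoinRoot.mk_X, mul_assoc]

/-- An element with a single block of dimension `i`. -/
structure Block (r i : ℕ) (x : symplecticGroup (Fin d) F)
    (M : Submodule F (Fin d ⊕ Fin d → F)) : Prop where
  pow : x ^ r = 1
  not_scalar : ∀ z : F, x.1 ≠ z • (1 : Matrix (Fin d ⊕ Fin d) (Fin d ⊕ Fin d) F)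
  finrank : Module.finrank F M = i
  stable : ∀ g : Module.End F (Fin d ⊕ Fin d → F), Commute g (Matrix.toLin' x.1) → ∀ v ∈ M, g v ∈ M
  cyclic : ∀ v ∈ M, v ≠ 0 → ∀ w ∈ M, ∃ h : F[X],
    aeval (Matrix.toLin' x.1 : Module.End F (Fin d ⊕ Fin d → F)) h v = w
  nondeg : Even i → ∀ v ∈ M, (∀ w ∈ M, sympForm d F v w = 0) → v = 0
  fixed : 2 * d ≤ Module.finrank F (LinearMap.ker
    ((Matrix.toLin' x.1 : Module.End F (Fin d ⊕ Fin d → F)) - 1)) + if Even i then i else 2 * i

/-- The fixed space of a semisimple endomorphism. -/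
theorem le_finrank_ker : ∀ (n : ℕ) {V : Type*} [AddCommGroup V] [Module F V] [FiniteDimensional F V]
    (b : Module.End F V), b.IsSemisimple → lin F ^ n ∣ b.charpoly →
      n ≤ Module.finrank F (LinearMap.ker (b - 1)) := by
  classical
  intro n
  induction n with
  | zero => intros; exact Nat.zero_le _
  | succ n ih =>
    intro V _ _ _ b hb hd
    obtain ⟨Q, c, e, hc, hconj, hcp, -⟩ := SemisimpleConjGL.exists_split b hb lin_irreducible lin_monic
      ((dvd_pow_self _ (Nat.succ_ne_zero n)).trans hd)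
    rw [hcp, pow_succ'] at hd
    have h1 := ih c hc ((mul_dvd_mul_iff_left lin_monic.ne_zero).1 hd)
    have he : ∀ y z, b (e (y, z)) = e (AdjoinRoot.root (lin F) * y, c z) := fun y z => by
      conv_lhs => rw [← hconj, LinearEquiv.conj_apply_apply, LinearEquiv.symm_apply_apply]
      rfl
    have hroot : AdjoinRoot.root (lin F) = 1 := by
      have := AdjoinRoot.mk_self (f := lin F)
      rwa [lin, map_sub, AdjoinRoot.mk_X, AdjoinRoot.mk_C, map_one, sub_eq_zero] at this
    let Φ : AdjoinRoot (lin F) × LinearMap.ker (c - 1) →ₗ[F] LinearMap.ker (b - 1) :=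
      (e.toLinearMap ∘ₗ LinearMap.prodMap LinearMap.id (LinearMap.ker (c - 1)).subtype).codRestrict _
        fun yz => by
          obtain ⟨y, z, hz⟩ := yz
          rw [LinearMap.mem_ker, LinearMap.sub_apply, sub_eq_zero] at hz ⊢
          show b (e (y, z)) = e (y, z)
          rw [he, hroot, one_mul, show c z = z from hz]
    have hΦ : Function.Injective Φ := fun a a' h => by
      have h2 := e.injective (congrArg Subtype.val h)
      exact Prod.ext (congrArg Prod.fst h2 :) (Subtype.ext (congrArg Prod.snd h2 :))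
    have : Module.Finite F (AdjoinRoot (lin F)) := lin_monic.finite_adjoinRoot
    have h2 := LinearMap.finrank_le_finrank_of_injective hΦ
    rw [Module.finrank_prod, (AdjoinRoot.powerBasis' lin_monic).finrank, AdjoinRoot.powerBasis'_dim,
      lin_natDegree] at h2
    omega

theorem exists_block [Fintype F] {p q r i : ℕ} [Fact p.Prime] [CharP F p]
    (hF : Fintype.card F = q) (hd : 2 ≤ d) (hr : r.Prime) (hr2 : r ≠ 2) (hrp : r ≠ p)
    (hi : i = orderOf (q : ZMod r)) (hfit : ∃ j, 1 ≤ j ∧ j ≤ d ∧ (q : ZMod r) ^ (2 * j) = 1) :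
    ∃ (x : symplecticGroup (Fin d) F) (M : Submodule F (Fin d ⊕ Fin d → F)), Block r i x M := by
  classical
  have := Fact.mk hr
  have hdvd : i ∣ r - 1 := by
    rcases eq_or_ne (q : ZMod r) 0 with h | h
    · obtain ⟨f, hp, hf⟩ := FiniteField.card F p
      have h1 : r ∣ q := (ZMod.natCast_eq_zero_iff q r).1 h
      rw [← hF, hf] at h1
      exact absurd ((Nat.prime_dvd_prime_iff_eq hr hp).1 (hr.dvd_of_dvd_pow h1)) hrp
    · exact hi ▸ ZMod.orderOf_dvd_card_sub_one h
  obtain ⟨t, ht⟩ := hdvd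
  obtain ⟨S, hScard, hi0, hSmem, hSdeg⟩ := exists_factors (p := p) hF hr hrp hi
    (t := t) (by rw [ht, mul_comm])
  obtain ⟨μ, hμS⟩ : S.Nonempty := by
    rw [← Finset.card_pos, hScard]
    by_contra h
    simp only [not_lt, Nat.le_zero] at h
    rw [h, mul_zero] at ht
    have := hr.two_le
    omega
  have hμ : IsFactor r μ := by
    obtain ⟨a, b, c, e⟩ := (hSmem μ).1 hμS; exact ⟨a, b, c, e⟩
  have hdeg : μ.natDegree = i := hSdeg μ hμS
  obtain ⟨j, hj1, hjd, hj⟩ := hfit
  have hij : i ∣ 2 * j := hi ▸ orderOf_dvd_of_pow_eq_one hj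
  have hlin : ¬ μ ∣ lin F := fun h =>
    hμ.ne (eq_of_monic_of_associated hμ.monic lin_monic (hμ.irr.associated_of_dvd lin_irreducible h))
  obtain ⟨R, hRm, hRμ, hPd, hPmir, ⟨N, hPN⟩, n, hn, hlR⟩ : ∃ R : F[X], R.Monic ∧ ¬ μ ∣ R ∧
      (μ * R).natDegree = 2 * d ∧ (μ * R).mirror = μ * R ∧ (∃ N, μ * R ∣ (X ^ r - 1) ^ N) ∧
      ∃ n, (2 * d ≤ n + if Even i then i else 2 * i) ∧ lin F ^ n ∣ μ * R := by
    have hlinm : ∀ c : ℕ, (lin F ^ (2 * c)).mirror = lin F ^ (2 * c) := fun c => by
      induction c with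
      | zero => rw [mul_zero, pow_zero, ← C_1, mirror_C]
      | succ c ih => rw [mul_add, mul_one, pow_add, mirror_mul_of_domain, ih, lin_sq_mirror]
    rcases Nat.even_or_odd i with hev | hodd
    · have hle : i ≤ 2 * d := (Nat.le_of_dvd (by omega) hij).trans (by omega)
      obtain ⟨k, hk⟩ := hev
      refine ⟨lin F ^ (2 * (d - k)), lin_monic.pow _, fun h => hlin (hμ.irr.prime.dvd_of_dvd_pow h),
        ?_, ?_, ⟨1 + 2 * (d - k), ?_⟩, 2 * (d - k), ?_, dvd_mul_left _ _⟩
      · rw [hμ.monic.natDegree_mul (lin_monic.pow _), natDegree_pow, lin_natDegree, hdeg]; omega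
      · rw [mirror_mul_of_domain, hlinm, eq_mirror_of_associated ?_ hμ.eval_one]
        have := assoc_st (μ := μ)
        rwa [st_of_even hF hr hi hi0 ⟨k, hk⟩ hμ] at this
      · rw [pow_add, pow_one]
        exact mul_dvd_mul hμ.dvd (pow_dvd_pow_of_dvd (lin_dvd_X_pow_sub_one r) _)
      · rw [if_pos ⟨k, hk⟩]; omega
    · have hle : i ≤ d := (Nat.le_of_dvd (by omega)
        ((Nat.Coprime.dvd_mul_left (Nat.coprime_two_right.2 hodd)).1 hij)).trans hjd
      refine ⟨st μ * lin F ^ (2 * (d - i)), hμ.isFactor_st.monic.mul (lin_monic.pow _), fun h => ?_,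
        ?_, ?_, ⟨2 + 2 * (d - i), ?_⟩, 2 * (d - i), ?_, (dvd_mul_left _ _).trans (dvd_mul_left _ _)⟩
      · rcases hμ.irr.prime.dvd_or_dvd h with h | h
        · exact st_of_odd hr hr2 hμ (hdeg ▸ hodd) (eq_of_monic_of_associated hμ.monic
            hμ.isFactor_st.monic (hμ.irr.associated_of_dvd hμ.isFactor_st.irr h)).symm
        · exact hlin (hμ.irr.prime.dvd_of_dvd_pow h)
      · rw [hμ.monic.natDegree_mul (hμ.isFactor_st.monic.mul (lin_monic.pow _)),
          hμ.isFactor_st.monic.natDegree_mul (lin_monic.pow _), natDegree_pow, lin_natDegree,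
          natDegree_st, hdeg]
        omega
      · rw [← mul_assoc, mirror_mul_of_domain, hlinm, eq_mirror_of_associated ?_ ?_]
        · rw [mirror_mul_of_domain, mul_comm μ]
          refine assoc_st.mul_mul ?_
          have := mirror_associated (assoc_st (μ := μ)).symm
          rwa [mirror_mirror] at this
        · rw [eval_mul]; exact mul_ne_zero hμ.eval_one hμ.isFactor_st.eval_one
      · rw [← mul_assoc, pow_add, pow_two]
        exact mul_dvd_mul (mul_dvd_mul hμ.dvd hμ.isFactor_st.dvd)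
          (pow_dvd_pow_of_dvd (lin_dvd_X_pow_sub_one r) _)
      · rw [if_neg (Nat.not_even_iff_odd.2 hodd)]; omega
  obtain ⟨x, hxr, hxP⟩ := exists_of_charpoly (p := p) hr.ne_zero (μ * R) (hμ.monic.mul hRm) hPmir hPd hPN
  set A : Module.End F (Fin d ⊕ Fin d → F) := Matrix.toLin' x.1 with hAdef
  have hAc : A.charpoly = μ * R := by rw [hAdef, Matrix.charpoly_toLin', hxP]
  have hco : (orderOf x).Coprime p :=
    Nat.Coprime.coprime_dvd_left (orderOf_dvd_of_pow_eq_one hxr) ((Nat.coprime_primes hr Fact.out).2 hrp)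
  have hss : A.IsSemisimple :=
    SemisimpleConjGL.isSemisimple_of_coprime (SympSemisimpleClasses.unitsHom d F) hco
  obtain ⟨Q, c, e, -, hconj, hcp, -⟩ := SemisimpleConjGL.exists_split A hss hμ.irr hμ.monic
    (hAc ▸ dvd_mul_right μ R)
  have hcR : c.charpoly = R := mul_left_cancel₀ hμ.monic.ne_zero (hcp.symm.trans hAc)
  have he : ∀ y z, A (e (y, z)) = e (AdjoinRoot.root μ * y, c z) := fun y z => by
    conv_lhs => rw [← hconj, LinearEquiv.conj_apply_apply, LinearEquiv.symm_apply_apply]
    rfl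
  have hblk := aeval_blocks A c e he
  obtain ⟨a, b, hab⟩ := hμ.irr.coprime_iff_not_dvd.2 hRμ
  have hunit : ∀ z, aeval c μ (aeval c a z) = z := fun z => by
    have := congrArg (fun h => aeval c h z) hab
    simp only [map_add, map_mul, LinearMap.add_apply, Module.End.mul_apply, map_one,
      Module.End.one_apply] at this
    rw [← hcR, LinearMap.aeval_self_charpoly, LinearMap.zero_apply, map_zero, add_zero] at this
    rw [← Module.End.mul_apply, ← map_mul, mul_comm, map_mul, Module.End.mul_apply, this]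
  have hinj : ∀ z, aeval c μ z = 0 → z = 0 := fun z hz => by
    rw [← hunit z, ← Module.End.mul_apply, ← map_mul, mul_comm, map_mul, Module.End.mul_apply, hz,
      map_zero]
  set M := LinearMap.ker (aeval A μ) with hM
  have hmemM : ∀ v, v ∈ M ↔ ∃ y, v = e (y, 0) := by
    intro v
    obtain ⟨⟨y, z⟩, rfl⟩ := e.surjective v
    rw [hM, LinearMap.mem_ker, hblk, AdjoinRoot.mk_self, zero_mul]
    constructor
    · intro h
      have h' : aeval c μ z = 0 := congrArg Prod.snd (e.map_eq_zero_iff.1 h)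
      exact ⟨y, by rw [hinj z h']⟩
    · rintro ⟨y', hy'⟩
      rw [show z = 0 from congrArg Prod.snd (e.injective hy'), map_zero]
      exact e.map_zero
  have hMrank : Module.finrank F M = i := by
    have : Module.Finite F (AdjoinRoot μ) := hμ.monic.finite_adjoinRoot
    let ι : AdjoinRoot μ →ₗ[F] (Fin d ⊕ Fin d → F) := e.toLinearMap ∘ₗ LinearMap.inl F _ _
    have : M = LinearMap.range ι := Submodule.ext fun v => by
      rw [hmemM, LinearMap.mem_range]
      exact exists_congr fun y => eq_comm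
    rw [this, LinearMap.finrank_range_of_inj (f := ι) (e.injective.comp fun _ _ h => congrArg Prod.fst h),
      (AdjoinRoot.powerBasis' hμ.monic).finrank, AdjoinRoot.powerBasis'_dim, hdeg]
  have hstable : ∀ g : Module.End F (Fin d ⊕ Fin d → F), Commute g A → ∀ v ∈ M, g v ∈ M := by
    intro g hg v hv
    have hcomm : ∀ h : F[X], Commute g (aeval A h) := by
      intro h
      induction h using Polynomial.induction_on' with
      | add a b ha hb => rw [map_add]; exact ha.add_right hb
      | monomial n a =>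
        rw [aeval_monomial]; exact (Algebra.commute_algebraMap_right a g).mul_right (hg.pow_right n)
    rw [hM, LinearMap.mem_ker] at hv ⊢
    rw [← Module.End.mul_apply, ← (hcomm μ).eq, Module.End.mul_apply, hv, map_zero]
  have := Fact.mk hμ.irr
  have hcyc : ∀ v ∈ M, v ≠ 0 → ∀ w ∈ M, ∃ h : F[X], aeval A h v = w := by
    intro v hv hv0 w hw
    obtain ⟨y, rfl⟩ := (hmemM v).1 hv
    obtain ⟨y', rfl⟩ := (hmemM w).1 hw
    have hy : y ≠ 0 := fun h => hv0 (by rw [h]; exact e.map_zero)
    obtain ⟨h, hh⟩ := AdjoinRoot.mk_surjective (y' * y⁻¹)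
    exact ⟨h, by rw [hblk, hh, mul_assoc, inv_mul_cancel₀ hy, mul_one, map_zero]⟩
  refine ⟨x, M, hxr, fun z hz => ?_, hMrank, hstable, hcyc, fun hev v hv hperp => ?_,
    hn.trans (Nat.add_le_add_right (le_finrank_ker n A hss (hAc ▸ hlR)) _)⟩
  · have hAz : ∀ h : F[X], ∀ v, aeval A h v = h.eval z • v := fun h v =>
      SemisimpleConjGL.aeval_apply_eigen A (by rw [hAdef, hz, Matrix.toLin'_apply, Matrix.smul_mulVec,
        Matrix.one_mulVec]) h
    obtain ⟨v, hv, hv0⟩ := Submodule.exists_mem_ne_zero_of_ne_bot (p := M) fun h => by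
      rw [h, finrank_bot] at hMrank; omega
    have hz0 : μ.eval z = 0 := by
      have := LinearMap.mem_ker.1 hv
      rw [hAz] at this
      exact (smul_eq_zero.1 this).resolve_right hv0
    have htop : M = ⊤ := eq_top_iff.2 fun w _ => by rw [hM, LinearMap.mem_ker, hAz, hz0, zero_smul]
    have hle : M ≤ Submodule.span F {v} := fun w hw => by
      obtain ⟨h, rfl⟩ := hcyc v hv hv0 w hw
      rw [hAz]; exact Submodule.smul_mem _ _ (Submodule.mem_span_singleton_self v)
    have := Submodule.finrank_mono hle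
    rw [finrank_span_singleton hv0, htop, finrank_top, Module.finrank_pi, Fintype.card_sum,
      Fintype.card_fin] at this
    omega
  · obtain ⟨k, hk⟩ := hev
    obtain ⟨l, hl⟩ := pow_half_eq_neg_one hi hk (by omega)
    have hAQ : A ^ q ^ k * A = 1 := by
      rw [← pow_succ, hl, hAdef, ← Matrix.toLin'_pow, pow_mul, ← SubmonoidClass.coe_pow, hxr]
      simp
      rfl
    have hadj : ∀ u w, sympForm d F ((A ^ q ^ k) u) w = sympForm d F u (A w) := fun u w => by
      conv_rhs => rw [← show (A * A ^ q ^ k) u = u by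
        rw [show A * A ^ q ^ k = 1 by rw [← hAQ, ← pow_succ', pow_succ]]; rfl]
      simp only [Module.End.mul_apply, hAdef, Matrix.toLin'_apply]
      exact (mem_sp_iff_form.1 x.2 _ _).symm
    have hv' : aeval (A ^ q ^ k) μ v = 0 := by
      obtain ⟨n, hn⟩ : ∃ n, q ^ k = n + 1 :=
        ⟨q ^ k - 1, (Nat.succ_pred_eq_of_pos (pow_pos (hF ▸ Fintype.card_pos) k)).symm⟩
      rw [aeval_pow_card hF, hn, pow_succ, Module.End.mul_apply, LinearMap.mem_ker.1 hv, map_zero]
    refine form_nondeg fun w => ?_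
    obtain ⟨⟨y, z⟩, rfl⟩ := e.surjective w
    have hsplit : e (y, z) = e (y, 0) + aeval A μ (e (0, aeval c a z)) := by
      rw [hblk, hunit, mul_zero, ← map_add, Prod.mk_add_mk, add_zero, zero_add]
    rw [hsplit, form_add_right, hperp _ ((hmemM _).2 ⟨y, rfl⟩), zero_add, ← adj_aeval hadj μ v, hv']
    simp [sympForm]

end Cfsg.Agent.SympPrimeElements
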