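import Mathlib
import Cfsg.Agent.Lib.QuadClassify
import Cfsg.Agent.Lib.OrthTypeCount73
import Cfsg.Agent.Lib.PrimeOrderModule84
import Cfsg.Agent.Lib.DecompPerm84
import Cfsg.Agent.Lib.SympPrimeElements
import Cfsg.Agent.Lib.SymplecticAlt

/-!
Isometries of odd prime order prime to the characteristic of a nondegenerate quadratic space: the
splitting into fixed vectors and nondegenerate blocks.
-/

set_option autoImplicit false
set_option linter.unusedSectionVars false

namespace Cfsg.Agent.OrthBlocks61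

open Module Polynomial
open QuadraticMap (polar polarBilin)
open Cfsg.Agent.QuadClassify (Nondeg)

variable {F V : Type*} [Field F] [AddCommGroup V] [Module F V] [FiniteDimensional F V]
variable {Q : QuadraticForm F V}

/-! ### Orthogonal complements -/

theorem pol_zero_left (v : V) : polar Q 0 v = 0 := by
  rw [← QuadraticMap.polarBilin_apply_apply, map_zero, LinearMap.zero_apply]

/-- The vectors orthogonal to `P`. -/
def perp (Q : QuadraticForm F V) (P : Submodule F V) : Submodule F V where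
  carrier := {v | ∀ w ∈ P, polar Q v w = 0}
  zero_mem' := fun w _ => pol_zero_left w
  add_mem' := fun hx hy w hw => by rw [QuadraticMap.polar_add_left, hx w hw, hy w hw, add_zero]
  smul_mem' := fun c x hx w hw => by rw [QuadraticMap.polar_smul_left, hx w hw, smul_zero]

theorem mem_perp {P : Submodule F V} {v : V} : v ∈ perp Q P ↔ ∀ w ∈ P, polar Q v w = 0 := Iff.rfl

theorem le_perp_comm {P R : Submodule F V} (h : R ≤ perp Q P) : P ≤ perp Q R :=
  fun x hx w hw => (QuadraticMap.polar_comm Q x w).trans (h hw x hx)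

theorem inf_perp_eq_bot {P : Submodule F V} (hP : Nondeg Q P) : P ⊓ perp Q P = ⊥ :=
  (Submodule.eq_bot_iff _).2 fun x hx => hP x hx.1 hx.2

theorem nd_of_inf_perp {P : Submodule F V} (hP : P ⊓ perp Q P = ⊥) : Nondeg Q P :=
  fun u hu h => (Submodule.eq_bot_iff _).1 hP u ⟨hu, h⟩

theorem sup_perp_eq_top {P : Submodule F V} (hP : Nondeg Q P) : P ⊔ perp Q P = ⊤ := by
  let φ : V →ₗ[F] (P →ₗ[F] F) := (LinearMap.lcomp F F P.subtype).comp (polarBilin Q)
  have hker : LinearMap.ker φ = perp Q P := by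
    ext v
    rw [LinearMap.mem_ker, LinearMap.ext_iff]
    exact ⟨fun h w hw => h ⟨w, hw⟩, fun h w => h w.1 w.2⟩
  have h1 := φ.finrank_range_add_finrank_ker
  rw [hker] at h1
  have h2 := Submodule.finrank_le (LinearMap.range φ)
  rw [Subspace.dual_finrank_eq] at h2
  refine Submodule.eq_top_of_finrank_eq ?_
  have h3 := Submodule.finrank_sup_add_finrank_inf_eq P (perp Q P)
  rw [inf_perp_eq_bot hP, finrank_bot, add_zero] at h3
  have := Submodule.finrank_le (P ⊔ perp Q P)
  omega

theorem nd_bot : Nondeg Q (⊥ : Submodule F V) := fun _ hu _ => (Submodule.mem_bot F).1 hu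

/-- Splitting off a nondegenerate subspace. -/
theorem split {W P : Submodule F V} (hPW : P ≤ W) (hP : Nondeg Q P) (hW : Nondeg Q W) :
    P ⊔ (W ⊓ perp Q P) = W ∧ Nondeg Q (W ⊓ perp Q P) ∧
      finrank F P + finrank F ↥(W ⊓ perp Q P) = finrank F W := by
  have hsup : P ⊔ (W ⊓ perp Q P) = W := by
    rw [inf_comm, ← sup_inf_assoc_of_le (perp Q P) hPW, sup_perp_eq_top hP, top_inf_eq]
  refine ⟨hsup, fun u hu h => hW u hu.1 fun z hz => ?_, ?_⟩
  · rw [← hsup, Submodule.mem_sup] at hz
    obtain ⟨a, ha, b, hb, rfl⟩ := hz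
    rw [QuadraticMap.polar_add_right, hu.2 a ha, h b hb, add_zero]
  · have h3 := Submodule.finrank_sup_add_finrank_inf_eq P (W ⊓ perp Q P)
    rw [hsup, show P ⊓ (W ⊓ perp Q P) = ⊥ from le_bot_iff.1
      ((inf_le_inf_left P inf_le_right).trans (inf_perp_eq_bot hP).le), finrank_bot, add_zero] at h3
    omega

theorem nd_sup {P R : Submodule F V} (hP : Nondeg Q P) (hR : Nondeg Q R) (h : R ≤ perp Q P) :
    Nondeg Q (P ⊔ R) := by
  intro u hu hz
  obtain ⟨a, ha, b, hb, rfl⟩ := Submodule.mem_sup.1 hu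
  have ha0 : a = 0 := hP a ha fun w hw => by
    have := hz w (Submodule.mem_sup_left hw)
    rwa [QuadraticMap.polar_add_left, h hb w hw, add_zero] at this
  subst ha0
  rw [zero_add] at hz ⊢
  exact hR b hb fun w hw => hz w (Submodule.mem_sup_right hw)

theorem finrank_sup {P R : Submodule F V} (hP : Nondeg Q P) (h : R ≤ perp Q P) :
    finrank F ↥(P ⊔ R) = finrank F P + finrank F R := by
  have := Submodule.finrank_sup_add_finrank_inf_eq P R
  rw [show P ⊓ R = ⊥ from le_bot_iff.1 ((inf_le_inf_left P h).trans (inf_perp_eq_bot hP).le),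
    finrank_bot, add_zero] at this
  exact this

theorem map_add_of_perp {a b : V} (h : polar Q a b = 0) : Q (a + b) = Q a + Q b := by
  rw [QuadraticMap.map_add Q, h, add_zero]

/-! ### Isometries of prime order -/

/-- An isometry of order dividing `r`. -/
structure Iso (Q : QuadraticForm F V) (r : ℕ) (g : Module.End F V) : Prop where
  form : ∀ v, Q (g v) = Q v
  pow : g ^ r = 1
  hr : (r : F) ≠ 0

variable {g : Module.End F V} {r : ℕ}

/-- The fixed space. -/
abbrev fixedSp (g : Module.End F V) : Submodule F V := LinearMap.ker (g - 1)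

theorem mem_fixedSp {v : V} : v ∈ fixedSp g ↔ g v = v := by simp [fixedSp, sub_eq_zero]

theorem Iso.polar_map (hi : Iso Q r g) (u v : V) : polar Q (g u) (g v) = polar Q u v := by
  simp only [polar, ← map_add, hi.form]

theorem pow_mem {W : Submodule F V} (hW : ∀ v ∈ W, g v ∈ W) {v : V} (hv : v ∈ W) :
    ∀ i : ℕ, (g ^ i) v ∈ W
  | 0 => hv
  | i + 1 => by rw [pow_succ', Module.End.mul_apply]; exact hW _ (pow_mem hW hv i)

theorem inv_sup {P R : Submodule F V} (hP : ∀ x ∈ P, g x ∈ P) (hR : ∀ x ∈ R, g x ∈ R) :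
    ∀ x ∈ P ⊔ R, g x ∈ P ⊔ R := by
  intro x hx
  obtain ⟨a, ha, b, hb, rfl⟩ := Submodule.mem_sup.1 hx
  rw [map_add]
  exact Submodule.add_mem_sup (hP a ha) (hR b hb)

variable [Fintype F] [Fact r.Prime]

theorem Iso.injective (hi : Iso Q r g) : Function.Injective g := by
  intro u v h
  have e : ∀ w, (g ^ (r - 1)) (g w) = w := fun w => by
    rw [← Module.End.mul_apply, ← pow_succ, Nat.sub_add_cancel (Fact.out : r.Prime).pos, hi.pow]; rfl
  rw [← e u, ← e v, h]

theorem Iso.surj (hi : Iso Q r g) {W : Submodule F V} (hW : ∀ v ∈ W, g v ∈ W) {v : V} (hv : v ∈ W) :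
    ∃ u ∈ W, g u = v :=
  ⟨(g ^ (r - 1)) v, pow_mem hW hv _, by
    rw [← Module.End.mul_apply, ← pow_succ', Nat.sub_add_cancel (Fact.out : r.Prime).pos, hi.pow]; rfl⟩

theorem Iso.inv_perp (hi : Iso Q r g) {P : Submodule F V} (hP : ∀ v ∈ P, g v ∈ P) :
    ∀ v ∈ perp Q P, g v ∈ perp Q P := by
  intro v hv w hw
  obtain ⟨u, hu, rfl⟩ := hi.surj hP hw
  rw [hi.polar_map]
  exact hv u hu

theorem Iso.fixed_perp_range (hi : Iso Q r g) : LinearMap.range (g - 1) ≤ perp Q (fixedSp g) := by
  rintro _ ⟨v, rfl⟩ w hw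
  rw [LinearMap.sub_apply, Module.End.one_apply, QuadraticMap.polar_sub_left]
  conv_lhs => arg 1; rw [← mem_fixedSp.1 hw]
  rw [hi.polar_map, sub_self]

theorem Iso.decompose (hi : Iso Q r g) {W : Submodule F V} (hW : ∀ v ∈ W, g v ∈ W) :
    W ⊓ fixedSp g ⊔ W ⊓ LinearMap.range (g - 1) = W := by
  refine le_antisymm (sup_le inf_le_left inf_le_left) fun v hv => ?_
  set s := (r : F)⁻¹ • (∑ i ∈ Finset.range r, g ^ i) v with hs
  have hsW : s ∈ W := W.smul_mem _ (by
    rw [LinearMap.sum_apply]; exact W.sum_mem fun i _ => pow_mem hW hv i)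
  have hsK : s ∈ fixedSp g := Submodule.smul_mem _ _ (DecompPerm84.sum_pow_mem_ker hi.pow v)
  refine Submodule.mem_sup.2 ⟨s, ⟨hsW, hsK⟩, v - s, ⟨W.sub_mem hv hsW, ?_⟩, add_sub_cancel _ _⟩
  have hsum : ∀ n : ℕ, (n : F) • v - (∑ i ∈ Finset.range n, g ^ i) v ∈ LinearMap.range (g - 1) := by
    intro n
    induction n with
    | zero => simp
    | succ n ih =>
      have h1 : v - (g ^ n) v ∈ LinearMap.range (g - 1) :=
        ⟨-((∑ i ∈ Finset.range n, g ^ i) v), by
          rw [map_neg, ← Module.End.mul_apply, mul_geom_sum, LinearMap.sub_apply, Module.End.one_apply,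
            neg_sub]⟩
      rw [Finset.sum_range_succ, LinearMap.add_apply, Nat.cast_succ, add_smul, one_smul, add_sub_add_comm]
      exact Submodule.add_mem _ ih h1
  have h2 := Submodule.smul_mem _ (r : F)⁻¹ (hsum r)
  rwa [smul_sub, smul_smul, inv_mul_cancel₀ hi.hr, one_smul] at h2

theorem Iso.nd_fixed (hi : Iso Q r g) {W : Submodule F V} (hW : Nondeg Q W) (hWg : ∀ v ∈ W, g v ∈ W) :
    Nondeg Q (W ⊓ fixedSp g) ∧ Nondeg Q (W ⊓ LinearMap.range (g - 1)) := by
  have hd := hi.decompose hWg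
  refine ⟨fun u hu h => hW u hu.1 fun v hv => ?_, fun u hu h => hW u hu.1 fun v hv => ?_⟩
  all_goals
    rw [← hd, Submodule.mem_sup] at hv
    obtain ⟨a, ha, b, hb, rfl⟩ := hv
    rw [QuadraticMap.polar_add_right]
  · rw [h a ha, QuadraticMap.polar_comm, hi.fixed_perp_range hb.2 u hu.2, add_zero]
  · rw [h b hb, hi.fixed_perp_range hu.2 a ha.2, add_zero]

theorem Iso.finrank_decompose (hi : Iso Q r g) {W : Submodule F V} (hWg : ∀ v ∈ W, g v ∈ W) :
    finrank F ↥(W ⊓ fixedSp g) + finrank F ↥(W ⊓ LinearMap.range (g - 1)) = finrank F W := by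
  have h := Submodule.finrank_sup_add_finrank_inf_eq (W ⊓ fixedSp g) (W ⊓ LinearMap.range (g - 1))
  rw [hi.decompose hWg, show W ⊓ fixedSp g ⊓ (W ⊓ LinearMap.range (g - 1)) = ⊥ from le_bot_iff.1
    ((inf_le_inf inf_le_right inf_le_right).trans
      (PrimeOrderModule84.disjoint_ker_range hi.hr hi.pow).eq_bot.le), finrank_bot, add_zero] at h
  exact h.symm

theorem Iso.fixed_eq_bot (hi : Iso Q r g) {S : Submodule F V} (hS : S ≤ LinearMap.range (g - 1)) :
    S ⊓ fixedSp g = ⊥ :=
  le_bot_iff.1 ((inf_le_inf_right _ hS).trans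
    ((PrimeOrderModule84.disjoint_ker_range hi.hr hi.pow).symm.eq_bot.le))

/-- Without fixed vectors the dimension is even. -/
theorem Iso.even_of_free (hi : Iso Q r g) (hr2 : r ≠ 2) {S : Submodule F V} (hS : Nondeg Q S)
    (hSg : ∀ v ∈ S, g v ∈ S) (hfree : S ⊓ fixedSp g = ⊥) : Even (finrank F S) := by
  classical
  by_cases h2 : (2 : F) = 0
  · exact SymplecticAlt.even_finrank (polarBilin Q) (fun v => by
      rw [QuadraticMap.polarBilin_apply_apply, QuadraticMap.polar_self, two_smul, ← two_mul, h2, zero_mul])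
      S hS
  let b := Module.finBasis F S
  set M := LinearMap.toMatrix b b (g.restrict hSg) with hM
  let G := LinearMap.toMatrix₂ b b ((polarBilin Q).compl₁₂ S.subtype S.subtype)
  have hcomp : ((polarBilin Q).compl₁₂ S.subtype S.subtype).compl₁₂ (g.restrict hSg) (g.restrict hSg) =
      (polarBilin Q).compl₁₂ S.subtype S.subtype :=
    LinearMap.ext fun x => LinearMap.ext fun y => hi.polar_map x.1 y.1
  have hG : M.transpose * G * M = G := by
    have := congrArg (LinearMap.toMatrix₂ b b) hcomp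
    rwa [LinearMap.toMatrix₂_compl₁₂ b b b b] at this
  have hMr : M ^ r = 1 := by
    rw [hM, LinearMap.toMatrix_pow, DecompPerm84.restrict_pow_one hi.pow hSg, LinearMap.toMatrix_one]
  have hdetM : M.det = 1 := by
    have h1 : M.det ^ r = 1 := by rw [← Matrix.det_pow, hMr, Matrix.det_one]
    have hGdet : G.det ≠ 0 := by
      refine (LinearMap.nondegenerate_iff_det_ne_zero b).1 ⟨fun x hx => ?_, fun x hx => ?_⟩
      · exact Subtype.ext (hS x.1 x.2 fun v hv => hx ⟨v, hv⟩)
      · exact Subtype.ext (hS x.1 x.2 fun v hv => (QuadraticMap.polar_comm Q x.1 v).trans (hx ⟨v, hv⟩))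
    have h3 : M.det * M.det = 1 := by
      have := congrArg Matrix.det hG
      rw [Matrix.det_mul, Matrix.det_mul, Matrix.det_transpose] at this
      refine mul_right_cancel₀ hGdet ?_
      linear_combination this
    obtain ⟨l, hl⟩ := (Fact.out : r.Prime).odd_of_ne_two hr2
    rw [hl, pow_succ, pow_mul, pow_two, h3, one_pow, one_mul] at h1
    exact h1
  have hne : (M - 1).det ≠ 0 := by
    rw [hM, ← LinearMap.toMatrix_one b, ← map_sub, LinearMap.det_toMatrix]
    rw [← isUnit_iff_ne_zero, ← LinearMap.isUnit_iff_isUnit_det, Module.End.isUnit_iff]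
    refine LinearMap.injective_iff_surjective (f := g.restrict hSg - 1).1 ?_ |> fun h => ⟨?_, h⟩
    all_goals
      rw [injective_iff_map_eq_zero]
      intro x hx
      have hx' := congrArg Subtype.val hx
      simp only [LinearMap.sub_apply, Module.End.one_apply, Submodule.coe_sub, ZeroMemClass.coe_zero,
        sub_eq_zero] at hx'
      exact Subtype.ext ((Submodule.eq_bot_iff _).1 hfree x.1 ⟨x.2, mem_fixedSp.2 hx'⟩)
  have hGdet : G.det ≠ 0 := by
    refine (LinearMap.nondegenerate_iff_det_ne_zero b).1 ⟨fun x hx => ?_, fun x hx => ?_⟩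
    · exact Subtype.ext (hS x.1 x.2 fun v hv => hx ⟨v, hv⟩)
    · exact Subtype.ext (hS x.1 x.2 fun v hv => (QuadraticMap.polar_comm Q x.1 v).trans (hx ⟨v, hv⟩))
  have key : (M - 1).transpose * G * M = -(G * (M - 1)) := by
    rw [Matrix.transpose_sub, Matrix.transpose_one, sub_mul, sub_mul, hG, one_mul, mul_sub, mul_one, neg_sub]
  have := congrArg Matrix.det key
  rw [Matrix.det_mul, Matrix.det_mul, Matrix.det_transpose, hdetM, mul_one, Matrix.det_neg,
    Matrix.det_mul, Fintype.card_fin] at this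
  rcases Nat.even_or_odd (finrank F S) with he | ho
  · exact he
  · rw [ho.neg_one_pow] at this
    exfalso
    refine mul_ne_zero (mul_ne_zero h2 hne) hGdet ?_
    linear_combination this

/-- The cyclic subspace of a vector. -/
noncomputable def cyc (g : Module.End F V) (v : V) : Submodule F V :=
  LinearMap.range ((LinearMap.applyₗ v).comp (aeval g).toLinearMap)

theorem self_mem_cyc (v : V) : v ∈ cyc g v := ⟨1, by simp⟩

theorem cyc_inv (v : V) : ∀ w ∈ cyc g v, g w ∈ cyc g v := by
  rintro _ ⟨P, rfl⟩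
  exact ⟨X * P, by simp⟩

theorem cyc_le {T : Submodule F V} (hT : ∀ w ∈ T, g w ∈ T) {v : V} (hv : v ∈ T) : cyc g v ≤ T := by
  rintro _ ⟨P, rfl⟩
  exact PrimeOrderModule84.aeval_mem (PrimeOrderModule84.map_le_iff'.2 hT) P hv

theorem finrank_cyc_le {v : V} {h : F[X]} (h0 : h ≠ 0) (hv : aeval g h v = 0) :
    finrank F (cyc g v) ≤ h.natDegree := by
  classical
  have hm : (normalize h).Monic := monic_normalize h0
  have hdeg : (normalize h).natDegree = h.natDegree :=
    natDegree_eq_of_degree_eq (degree_eq_degree_of_associated (normalize_associated h))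
  have hv' : aeval g (normalize h) v = 0 := by
    obtain ⟨u, hu⟩ := (normalize_associated h).symm
    rw [← hu, mul_comm, map_mul, Module.End.mul_apply, hv, map_zero]
  have hle : cyc g v ≤ (Polynomial.degreeLT F h.natDegree).map
      ((LinearMap.applyₗ v).comp (aeval g).toLinearMap) := by
    rintro _ ⟨P, rfl⟩
    refine ⟨P %ₘ normalize h, ?_, ?_⟩
    · rw [SetLike.mem_coe, Polynomial.mem_degreeLT, ← hdeg, ← degree_eq_natDegree hm.ne_zero]
      exact degree_modByMonic_lt _ hm
    · show aeval g (P %ₘ normalize h) v = aeval g P v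
      conv_rhs => rw [← modByMonic_add_div P (normalize h), map_add, LinearMap.add_apply, mul_comm,
        map_mul, Module.End.mul_apply, hv', map_zero, add_zero]
  haveI : Module.Finite F (Polynomial.degreeLT F h.natDegree) :=
    Module.Finite.equiv (Polynomial.degreeLTEquiv F h.natDegree).symm
  refine (Submodule.finrank_mono hle).trans ((Submodule.finrank_map_le _ _).trans ?_)
  rw [(Polynomial.degreeLTEquiv F h.natDegree).finrank_eq, Module.finrank_fin_fun]

/-- An irreducible piece without fixed points. -/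
theorem Iso.exists_irred (hi : Iso Q r g) {T : Submodule F V} (hT : ∀ v ∈ T, g v ∈ T)
    (hTr : T ≤ LinearMap.range (g - 1)) (hne : T ≠ ⊥) :
    ∃ M ≤ T, (∀ v ∈ M, g v ∈ M) ∧ finrank F M = orderOf (Fintype.card F : ZMod r) ∧
      ∃ h : F[X], ∀ v ∈ M, aeval g h v = 0 ∧
        ∀ u : V, aeval g h u = 0 → finrank F (cyc g u) ≤ orderOf (Fintype.card F : ZMod r) := by
  obtain ⟨v, hv, hv0⟩ := Submodule.exists_mem_ne_zero_of_ne_bot hne
  have hP : aeval g (X ^ r - 1 : F[X]) = 0 := by simp [hi.pow]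
  have hP0 : (X ^ r - 1 : F[X]) ≠ 0 := (monic_X_pow_sub_C 1 (Fact.out : r.Prime).ne_zero).ne_zero
  obtain ⟨h, w, hh, hd, hwT, hw, hhw⟩ := PrimeOrderModule84.exists_prime_step
    (PrimeOrderModule84.map_le_iff'.2 hT) hP hP0 hv (S := ⊥) (by rwa [Submodule.mem_bot])
  rw [Submodule.mem_bot] at hw hhw
  have hbound : ∀ u : V, aeval g h u = 0 → finrank F (cyc g u) ≤ orderOf (Fintype.card F : ZMod r) :=
    fun u hu => (finrank_cyc_le hh.ne_zero hu).trans (PrimeOrderModule84.natDegree_le_order hi.hr hh hd)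
  refine ⟨cyc g w, cyc_le hT hwT, cyc_inv w, le_antisymm (hbound w hhw) ?_, h, ?_⟩
  · refine Nat.le_of_dvd ?_ (PrimeOrderModule84.dvd_finrank_of_le_range hi.hr hi.pow
      (PrimeOrderModule84.map_le_iff'.2 (cyc_inv w)) ((cyc_le hT hwT).trans hTr))
    rw [pos_iff_ne_zero, Ne, Submodule.finrank_eq_zero]
    intro e
    exact hw ((Submodule.mem_bot F).1 (e ▸ self_mem_cyc w))
  · rintro _ ⟨P, rfl⟩
    refine ⟨?_, hbound⟩
    show aeval g h (aeval g P w) = 0
    rw [← Module.End.mul_apply, ← map_mul, mul_comm, map_mul, Module.End.mul_apply, hhw, map_zero]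

/-- The dimension of a nondegenerate block without fixed points. -/
noncomputable def blockDim (F : Type*) [Fintype F] (r : ℕ) : ℕ :=
  if Even (orderOf (Fintype.card F : ZMod r)) then orderOf (Fintype.card F : ZMod r)
  else 2 * orderOf (Fintype.card F : ZMod r)

theorem blockDim_pos (hr : (r : F) ≠ 0) : 0 < blockDim F r := by
  have := PrimeOrderModule84.orderOf_card_pos (F := F) (r := r) hr
  unfold blockDim
  split <;> omega

theorem blockDim_even : Even (blockDim F r) := by
  unfold blockDim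
  split_ifs with h
  exacts [h, even_two_mul _]

theorem Iso.adjoint (hi : Iso Q r g) (h : F[X]) : ∀ u v,
    polar Q (aeval g h u) v = polar Q u (aeval (g ^ (r - 1)) h v) := by
  have hr : 0 < r := (Fact.out : r.Prime).pos
  have hadj : ∀ u v, polar Q (g u) v = polar Q u ((g ^ (r - 1)) v) := fun u v => by
    conv_lhs => rw [show v = g ((g ^ (r - 1)) v) by
      rw [← Module.End.mul_apply, ← pow_succ', Nat.sub_add_cancel hr, hi.pow]; rfl]
    rw [hi.polar_map]
  induction h using Polynomial.induction_on' with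
  | add a b ha hb =>
    intro u v
    rw [map_add, map_add, LinearMap.add_apply, LinearMap.add_apply, QuadraticMap.polar_add_left,
      QuadraticMap.polar_add_right, ha, hb]
  | monomial n a =>
    induction n with
    | zero =>
      intro u v
      simp [Module.algebraMap_end_apply, QuadraticMap.polar_smul_left, QuadraticMap.polar_smul_right]
    | succ n ih =>
      intro u v
      rw [← monomial_mul_X, map_mul, map_mul, aeval_X, aeval_X, Module.End.mul_apply, Module.End.mul_apply,
        ih, hadj]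
      congr 1
      rw [← Module.End.mul_apply, ← Module.End.mul_apply]
      congr 1
      rw [aeval_monomial]
      exact (Algebra.commute_algebraMap_right a _).mul_right ((Commute.refl _).pow_right n)

/-- A nondegenerate block without fixed points. -/
theorem Iso.exists_block (hi : Iso Q r g) (hr2 : r ≠ 2) {W : Submodule F V} (hW : Nondeg Q W)
    (hWg : ∀ v ∈ W, g v ∈ W) (hne : W ⊓ LinearMap.range (g - 1) ≠ ⊥) :
    ∃ P ≤ W ⊓ LinearMap.range (g - 1), Nondeg Q P ∧ (∀ v ∈ P, g v ∈ P) ∧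
      finrank F P = blockDim F r := by
  have hrp : r.Prime := Fact.out
  set i := orderOf (Fintype.card F : ZMod r) with hidef
  have hipos : 0 < i := PrimeOrderModule84.orderOf_card_pos (F := F) hi.hr
  set U0 := W ⊓ LinearMap.range (g - 1) with hU0
  have hU0nd : Nondeg Q U0 := (hi.nd_fixed hW hWg).2
  have hU0g : ∀ v ∈ U0, g v ∈ U0 := fun v hv =>
    ⟨hWg v hv.1, PrimeOrderModule84.map_le_iff'.1 (PrimeOrderModule84.range_inv g) v hv.2⟩
  obtain ⟨M, hMU, hMg, hMd, h, hhM⟩ := hi.exists_irred hU0g inf_le_right hne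
  have hirr : ∀ {M : Submodule F V}, M ≤ U0 → finrank F M = i →
      ∀ S ≤ M, (∀ v ∈ S, g v ∈ S) → S = ⊥ ∨ S = M := by
    intro M hM hd S hS hSg
    by_cases h0 : S = ⊥
    · exact Or.inl h0
    refine Or.inr (Submodule.eq_of_le_of_finrank_le hS ?_)
    rw [hd]
    refine Nat.le_of_dvd ?_ (PrimeOrderModule84.dvd_finrank_of_le_range hi.hr hi.pow
      (PrimeOrderModule84.map_le_iff'.2 hSg) ((hS.trans hM).trans inf_le_right))
    rwa [pos_iff_ne_zero, Ne, Submodule.finrank_eq_zero]
  have hperpinf : ∀ {S : Submodule F V}, (∀ v ∈ S, g v ∈ S) → ∀ {R : Submodule F V},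
      (∀ v ∈ R, g v ∈ R) → ∀ v ∈ R ⊓ perp Q S, g v ∈ R ⊓ perp Q S := fun hS R hR v hv =>
    ⟨hR v hv.1, hi.inv_perp hS v hv.2⟩
  have single : ∀ {S : Submodule F V}, S ≤ U0 → (∀ v ∈ S, g v ∈ S) → finrank F S = i → Nondeg Q S →
      ∃ P ≤ U0, Nondeg Q P ∧ (∀ v ∈ P, g v ∈ P) ∧ finrank F P = blockDim F r := by
    intro S hS hSg hSd hSn
    refine ⟨S, hS, hSn, hSg, ?_⟩
    have := hi.even_of_free hr2 hSn hSg (hi.fixed_eq_bot (hS.trans inf_le_right))
    rw [hSd] at this
    rw [hSd, blockDim, if_pos this]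
  rcases hirr hMU hMd (M ⊓ perp Q M) inf_le_left (hperpinf hMg hMg) with h0 | htot
  · exact single hMU hMg hMd (nd_of_inf_perp h0)
  obtain ⟨C, hC, hCg, hCnot, hCd⟩ : ∃ C ≤ U0, (∀ v ∈ C, g v ∈ C) ∧ ¬ C ≤ perp Q M ∧
      finrank F C = i := by
    let T := U0 ⊓ perp Q M
    have hTg : ∀ v ∈ T, g v ∈ T := hperpinf hMg hU0g
    have hres : (g.restrict hU0g) ^ r = (1 : F) • (1 : Module.End F U0) :=
      DecompPerm84.restrict_pow (z := (1 : F)) (by rw [one_smul]; exact hi.pow) hU0g
    obtain ⟨T', hT', hT'g⟩ := DecompPerm84.exists_invt_compl hi.hr one_ne_zero hres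
      (W := T.comap U0.subtype) (by rintro _ ⟨v, hv, rfl⟩; exact hTg v.1 hv)
    have hmap : ∀ v ∈ T'.map U0.subtype, g v ∈ T'.map U0.subtype := by
      rintro _ ⟨v, hv, rfl⟩
      exact ⟨_, hT'g ⟨v, hv, rfl⟩, rfl⟩
    have hne : T'.map U0.subtype ≠ ⊥ := by
      rw [Ne, (Submodule.map_injective_of_injective U0.injective_subtype).eq_iff' (Submodule.map_bot _)]
      intro e
      have htop := hT'.sup_eq_top
      rw [e, sup_bot_eq, Submodule.comap_subtype_eq_top] at htop
      obtain ⟨x, hx, hx0⟩ := Submodule.exists_mem_ne_zero_of_ne_bot (p := M) (fun e => by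
        rw [e, finrank_bot] at hMd; omega)
      exact hx0 (hU0nd x (hMU hx) fun v hv => (QuadraticMap.polar_comm Q x v).trans ((htop hv).2 x hx))
    obtain ⟨C, hC, hCg, hCd, -⟩ := hi.exists_irred hmap ((Submodule.map_subtype_le _ _).trans inf_le_right) hne
    refine ⟨C, hC.trans (Submodule.map_subtype_le _ _), hCg, fun hle => ?_, hCd⟩
    have hCbot : C = ⊥ := by
      rw [Submodule.eq_bot_iff]
      intro x hx
      obtain ⟨y, hy, rfl⟩ := hC hx
      have := Submodule.disjoint_def.1 hT'.disjoint y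
        ⟨(hC.trans (Submodule.map_subtype_le _ _)) hx, hle hx⟩ hy
      rw [this, map_zero]
    rw [hCbot, finrank_bot] at hCd
    omega
  have hCM : C ⊓ perp Q M = ⊥ := (hirr hC hCd _ inf_le_left (hperpinf hMg hCg)).resolve_right
    fun e => hCnot (inf_eq_left.1 e)
  have hMC : M ⊓ perp Q C = ⊥ := (hirr hMU hMd _ inf_le_left (hperpinf hCg hMg)).resolve_right fun e =>
    hCnot (le_perp_comm (inf_eq_left.1 e))
  have hMiso : ∀ u ∈ M, ∀ v ∈ M, polar Q u v = 0 := fun u hu v hv => (htot.ge hu).2 v hv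
  by_cases hev : Even i
  · rcases hirr hC hCd (C ⊓ perp Q C) inf_le_left (hperpinf hCg hCg) with h0 | htot'
    · exact single hC hCg hCd (nd_of_inf_perp h0)
    have hCiso : ∀ u ∈ C, ∀ v ∈ C, polar Q u v = 0 := fun u hu v hv => (htot'.ge hu).2 v hv
    obtain ⟨v, hv, w, hw, hvw⟩ : ∃ v ∈ M, ∃ w ∈ C, polar Q (v + w) (g (v + w)) ≠ 0 := by
      by_contra hall
      push Not at hall
      obtain ⟨w, hw, hw0⟩ := Submodule.exists_mem_ne_zero_of_ne_bot (p := C) (fun e => by
        rw [e, finrank_bot] at hCd; omega)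
      obtain ⟨u, hu, rfl⟩ := hi.surj hCg hw
      have hsq : g (g u) + u = 0 := by
        refine (Submodule.eq_bot_iff _).1 hCM _ ⟨C.add_mem (hCg _ hw) hu, fun m hm => ?_⟩
        have h1 := hall m hm (g u) hw
        rw [map_add, QuadraticMap.polar_add_left, QuadraticMap.polar_add_right, QuadraticMap.polar_add_right,
          hMiso m hm _ (hMg m hm), hCiso _ hw _ (hCg _ hw), hi.polar_map, zero_add, add_zero] at h1
        rw [QuadraticMap.polar_add_left, QuadraticMap.polar_comm Q (g (g u)) m]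
        exact h1
      have hneg : g (g u) = -u := eq_neg_of_add_eq_zero_left hsq
      have h4 : (g ^ 4) u = u := by
        show g (g (g (g u))) = u
        rw [hneg, map_neg, map_neg, hneg, neg_neg]
      have h4' : ∀ k : ℕ, (g ^ (4 * k)) u = u := by
        intro k
        induction k with
        | zero => rfl
        | succ k ih => rw [Nat.mul_succ, pow_add, Module.End.mul_apply, h4, ih]
      obtain ⟨k, hk⟩ := hrp.odd_of_ne_two hr2
      have hgu : g u = u := by
        have hrk : ∀ t : ℕ, (g ^ (r * t)) u = u := fun t => by rw [pow_mul, hi.pow, one_pow]; rfl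
        rcases Nat.even_or_odd k with ⟨t, ht⟩ | ⟨t, ht⟩
        · have := hrk 1
          rw [mul_one, show r = 1 + 4 * t by omega, pow_add, Module.End.mul_apply, h4', pow_one] at this
          exact this
        · have := hrk 3
          rw [show r * 3 = 1 + 4 * (3 * t + 2) by omega, pow_add, Module.End.mul_apply, h4', pow_one] at this
          exact this
      exact hw0 ((Submodule.eq_bot_iff _).1 (hi.fixed_eq_bot (hC.trans inf_le_right)) _
        ⟨hw, mem_fixedSp.2 (by rw [hgu, hgu])⟩)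
    have hkill : ∀ c ∈ C, aeval g h c = 0 := by
      intro c hc
      refine (Submodule.eq_bot_iff _).1 hCM _ ⟨PrimeOrderModule84.aeval_mem
        (PrimeOrderModule84.map_le_iff'.2 hCg) h hc, fun m hm => ?_⟩
      obtain ⟨k, hk⟩ := hev
      obtain ⟨l, hl⟩ := SympPrimeElements.pow_half_eq_neg_one (q := Fintype.card F) hidef hk (by omega)
      have e : g ^ (r - 1) = g ^ Fintype.card F ^ k := by
        have h1 : g ^ (Fintype.card F ^ k + 1) = 1 := by rw [hl, pow_mul, hi.pow, one_pow]
        have h2 : g ^ (r - 1) * g = 1 := by rw [← pow_succ, Nat.sub_add_cancel hrp.pos, hi.pow]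
        calc g ^ (r - 1) = g ^ (r - 1) * g ^ (Fintype.card F ^ k + 1) := by rw [h1, mul_one]
          _ = _ := by rw [pow_succ', ← mul_assoc, h2, one_mul]
      obtain ⟨n, hn⟩ : ∃ n, Fintype.card F ^ k = n + 1 :=
        ⟨Fintype.card F ^ k - 1, (Nat.succ_pred_eq_of_pos (Nat.pow_pos Fintype.card_pos)).symm⟩
      rw [hi.adjoint, e, SympPrimeElements.aeval_pow_card rfl, hn, pow_succ,
        Module.End.mul_apply, (hhM m hm).1, map_zero]
      rw [QuadraticMap.polar_comm, pol_zero_left]
    have hS : cyc g (v + w) ≤ U0 := cyc_le hU0g (U0.add_mem (hMU hv) (hC hw))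
    have hh0 : aeval g h (v + w) = 0 := by rw [map_add, (hhM v hv).1, hkill w hw, add_zero]
    have hSne : cyc g (v + w) ≠ ⊥ := fun e => hvw (by
      have h' := self_mem_cyc (g := g) (v + w)
      rw [e, Submodule.mem_bot] at h'
      rw [h', pol_zero_left])
    have hSd : finrank F (cyc g (v + w)) = i := by
      refine le_antisymm ((hhM v hv).2 _ hh0) ?_
      refine Nat.le_of_dvd ?_ (PrimeOrderModule84.dvd_finrank_of_le_range hi.hr hi.pow
        (PrimeOrderModule84.map_le_iff'.2 (cyc_inv _)) (hS.trans inf_le_right))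
      rwa [pos_iff_ne_zero, Ne, Submodule.finrank_eq_zero]
    refine single hS (cyc_inv _) hSd (nd_of_inf_perp ?_)
    refine (hirr hS hSd _ inf_le_left (hperpinf (cyc_inv _) (cyc_inv _))).resolve_right fun e => hvw ?_
    exact (inf_eq_left.1 e) (self_mem_cyc _) _ (cyc_inv _ _ (self_mem_cyc _))
  · refine ⟨M ⊔ C, sup_le hMU hC, ?_, inv_sup hMg hCg, ?_⟩
    · refine nd_of_inf_perp ((Submodule.eq_bot_iff _).2 ?_)
      rintro x ⟨hx, hx'⟩
      obtain ⟨m, hm, c, hc, rfl⟩ := Submodule.mem_sup.1 hx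
      have hc0 : c = 0 := (Submodule.eq_bot_iff _).1 hCM c ⟨hc, fun y hy => by
        have := hx' y (Submodule.mem_sup_left hy)
        rwa [QuadraticMap.polar_add_left, hMiso m hm y hy, zero_add] at this⟩
      subst hc0
      rw [add_zero] at hx' ⊢
      exact (Submodule.eq_bot_iff _).1 hMC m ⟨hm, fun y hy => hx' y (Submodule.mem_sup_right hy)⟩
    · have h := Submodule.finrank_sup_add_finrank_inf_eq M C
      have hb : M ⊓ C = ⊥ := by
        rw [Submodule.eq_bot_iff]
        rintro x ⟨hx1, hx2⟩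
        exact (Submodule.eq_bot_iff _).1 hCM x ⟨hx2, fun y hy => hMiso x hx1 y hy⟩
      rw [hb, finrank_bot, add_zero, hMd, hCd] at h
      rw [h, blockDim, if_neg hev, two_mul]

/-- Nondegenerate invariant subspaces without fixed vectors of every possible dimension. -/
theorem Iso.exists_free (hi : Iso Q r g) (hr2 : r ≠ 2) : ∀ (n : ℕ) (W : Submodule F V), finrank F W = n →
    Nondeg Q W → (∀ v ∈ W, g v ∈ W) → W ≤ LinearMap.range (g - 1) →
    blockDim F r ∣ n ∧ ∀ j, j * blockDim F r ≤ n →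
      ∃ R ≤ W, Nondeg Q R ∧ (∀ v ∈ R, g v ∈ R) ∧ finrank F R = j * blockDim F r := by
  intro n
  induction n using Nat.strong_induction_on with
  | _ n ih =>
    intro W hn hW hWg hWR
    have hc := blockDim_pos (F := F) (r := r) hi.hr
    have hzero : ∃ R ≤ W, Nondeg Q R ∧ (∀ v ∈ R, g v ∈ R) ∧ finrank F R = 0 * blockDim F r :=
      ⟨⊥, bot_le, nd_bot, fun v hv => by simp_all, by rw [zero_mul, finrank_bot]⟩
    by_cases h0 : W ⊓ LinearMap.range (g - 1) = ⊥
    · rw [inf_eq_left.2 hWR] at h0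
      rw [h0, finrank_bot] at hn
      subst hn
      refine ⟨dvd_zero _, fun j hj => ?_⟩
      obtain rfl : j = 0 := by rcases Nat.eq_zero_or_pos j with h | h <;> [exact h; nlinarith]
      exact hzero
    obtain ⟨P, hP, hPn, hPg, hPd⟩ := hi.exists_block hr2 hW hWg h0
    obtain ⟨-, hn', hdim⟩ := split (hP.trans inf_le_left) hPn hW
    have hg' : ∀ v ∈ W ⊓ perp Q P, g v ∈ W ⊓ perp Q P := fun v hv =>
      ⟨hWg v hv.1, hi.inv_perp hPg v hv.2⟩
    obtain ⟨hd', hj'⟩ := ih _ (by omega) _ rfl hn' hg' (inf_le_left.trans hWR)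
    refine ⟨by rw [← hn, ← hdim, hPd]; exact dvd_add dvd_rfl hd', fun j hj => ?_⟩
    rcases j with _ | j
    · exact hzero
    rw [Nat.succ_mul] at hj
    obtain ⟨R, hR, hRn, hRg, hRd⟩ := hj' j (by omega)
    exact ⟨P ⊔ R, sup_le (hP.trans inf_le_left) (hR.trans inf_le_left),
      nd_sup hPn hRn (hR.trans inf_le_right), inv_sup hPg hRg,
      by rw [finrank_sup hPn (hR.trans inf_le_right), hPd, hRd, Nat.succ_mul, add_comm]⟩

theorem Iso.range_inv (hi : Iso Q r g) : ∀ v ∈ LinearMap.range (g - 1), g v ∈ LinearMap.range (g - 1) :=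
  PrimeOrderModule84.map_le_iff'.1 (PrimeOrderModule84.range_inv g)

theorem Iso.finrank_modEq (hi : Iso Q r g) (hr2 : r ≠ 2) {W : Submodule F V} (hW : Nondeg Q W)
    (hWg : ∀ v ∈ W, g v ∈ W) :
    finrank F W % blockDim F r = finrank F ↥(W ⊓ fixedSp g) % blockDim F r := by
  obtain ⟨t, ht⟩ := (hi.exists_free hr2 _ (W ⊓ LinearMap.range (g - 1)) rfl (hi.nd_fixed hW hWg).2
    (fun v hv => ⟨hWg v hv.1, hi.range_inv v hv.2⟩) inf_le_right).1
  rw [← hi.finrank_decompose hWg, ht, Nat.add_mul_mod_self_left]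

/-- The invariant of a space without fixed vectors. -/
theorem Iso.dvd_of_free (hi : Iso Q r g) {S : Submodule F V} (hSg : ∀ v ∈ S, g v ∈ S)
    (hfree : S ⊓ fixedSp g = ⊥) {N E : ℤ} (hP : OrthTypeCount73.Prof ⇑(Q.comp S.subtype) N E) :
    (r : ℤ) ∣ E - 1 := by
  haveI : Finite S := Module.finite_of_finite F
  refine OrthTypeCount73.dvd_of_free (Fact.out : r.Prime) _ hP (QuadraticMap.map_zero _) (g.restrict hSg)
    (fun v => hi.form v.1) (DecompPerm84.restrict_pow_one hi.pow hSg) fun v hv => Subtype.ext ?_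
  exact (Submodule.eq_bot_iff _).1 hfree v.1 ⟨v.2, mem_fixedSp.2 (congrArg Subtype.val hv)⟩

end Cfsg.Agent.OrthBlocks61
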