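import Mathlib

/-!
Every monic palindromic polynomial of even degree without the roots `± 1` is the characteristic
polynomial of an isometry of a non-degenerate quadratic space, in any characteristic.
-/

set_option autoImplicit false

namespace Cfsg.Agent.OrthPalindromeReal73

open Polynomial Module

universe u

variable {F : Type u} [Field F]

theorem reflect_basic (j : ℕ) :
    reflect (2 * j) ((X ^ 2 + 1 : F[X]) ^ j) = (X ^ 2 + 1) ^ j := by
  induction j with
  | zero => simp
  | succ j ih =>
    have h2 : (X ^ 2 + 1 : F[X]).natDegree ≤ 2 := by compute_degree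
    rw [pow_succ, show 2 * (j + 1) = 2 * j + 2 by ring,
      reflect_mul _ _ (natDegree_pow_le.trans (by
        rw [mul_comm]
        exact Nat.mul_le_mul_right j h2)) h2, ih]
    congr 1
    rw [← C_1, reflect_add, reflect_C, show (X ^ 2 : F[X]) = C 1 * X ^ 2 by simp, reflect_C_mul_X_pow]
    simp [revAt_le, add_comm]

/-- A palindrome is a polynomial in `x + x⁻¹`. -/
theorem exists_trace_poly (j : ℕ) : ∀ P : F[X], P.natDegree ≤ 2 * j → reflect (2 * j) P = P →
    ∃ T : F[X], T.natDegree ≤ j ∧ T.coeff j = P.coeff 0 ∧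
      ∀ (A : Type u) [Ring A] [Algebra F A] (x s : A), Commute x s → x * x + 1 = s * x →
        aeval x P = x ^ j * aeval s T := by
  induction j with
  | zero =>
    intro P hd _
    refine ⟨C (P.coeff 0), by simp, by simp, fun A _ _ x s _ _ => ?_⟩
    conv_lhs => rw [eq_C_of_natDegree_eq_zero (show P.natDegree = 0 by omega)]
    simp
  | succ j ih =>
    intro P hd hP
    set c := P.coeff 0 with hc
    set R := P - C c * (X ^ 2 + 1) ^ (j + 1) with hR
    have hRpal : reflect (2 * (j + 1)) R = R := by
      rw [hR, reflect_sub, reflect_C_mul, hP, reflect_basic]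
    have hsym : ∀ k ≤ 2 * (j + 1), R.coeff k = R.coeff (2 * (j + 1) - k) := fun k hk => by
      conv_lhs => rw [← hRpal, coeff_reflect, revAt_le hk]
    have hRd : R.natDegree ≤ 2 * (j + 1) := by
      refine (natDegree_sub_le _ _).trans (max_le hd ((natDegree_C_mul_le _ _).trans
        (natDegree_pow_le.trans ?_)))
      have h2 : (X ^ 2 + 1 : F[X]).natDegree ≤ 2 := by compute_degree
      calc (j + 1) * (X ^ 2 + 1 : F[X]).natDegree ≤ (j + 1) * 2 := Nat.mul_le_mul_left _ h2
        _ = 2 * (j + 1) := by ring
    have hR0 : R.coeff 0 = 0 := by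
      simp [hR, hc, coeff_zero_eq_eval_zero]
    have hcoeff : ∀ k, R.divX.coeff k = R.coeff (k + 1) := fun k => coeff_divX
    have hRdx : R.divX.natDegree ≤ 2 * j := by
      refine natDegree_le_iff_coeff_eq_zero.2 fun N hN => ?_
      rw [hcoeff]
      rcases eq_or_lt_of_le (show 2 * (j + 1) ≤ N + 1 by omega) with h | h
      · rw [← h, hsym _ le_rfl, Nat.sub_self, hR0]
      · exact coeff_eq_zero_of_natDegree_lt (by omega)
    have hRdp : reflect (2 * j) R.divX = R.divX := by
      refine Polynomial.ext fun k => ?_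
      rcases le_or_gt k (2 * j) with hk | hk
      · rw [coeff_reflect, revAt_le hk, hcoeff, hcoeff, hsym (k + 1) (by omega)]
        congr 1
        omega
      · rw [coeff_reflect, revAt_eq_self_of_lt hk]
    obtain ⟨T, hT, -, hTx⟩ := ih R.divX hRdx hRdp
    refine ⟨C c * X ^ (j + 1) + T, natDegree_add_le_of_degree_le
      ((natDegree_C_mul_X_pow_le _ _)) (by omega), ?_, fun A _ _ x s hxs hx => ?_⟩
    · rw [coeff_add, coeff_C_mul_X_pow, if_pos rfl, coeff_eq_zero_of_natDegree_lt (by omega), add_zero]
    · have hP' : P = C c * (X ^ 2 + 1) ^ (j + 1) + X * R.divX := by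
        conv_rhs => rw [show X * R.divX = R by
          conv_rhs => rw [← X_mul_divX_add R, hR0, C_0, add_zero]]
        rw [hR]; ring
      rw [hP', map_add, map_mul, map_mul, aeval_C, map_pow, map_add, map_pow, aeval_X, map_one,
        map_add, map_mul, aeval_C, map_pow, aeval_X, hTx A x s hxs hx, mul_add, ← mul_assoc,
        ← pow_succ', pow_two, hx, hxs.symm.mul_pow, ← mul_assoc (x ^ (j + 1)),
        ← Algebra.commutes c (x ^ (j + 1)), mul_assoc, (hxs.pow_pow _ _).eq]

/-- Monic palindromes without roots `± 1` are characteristic polynomials of isometries. -/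
theorem exists_isometry (j : ℕ) (P : F[X]) (hm : P.Monic) (hd : P.natDegree = 2 * j)
    (hP : reflect (2 * j) P = P) (h1 : P.eval 1 ≠ 0) (hn1 : P.eval (-1) ≠ 0) :
    ∃ Q : QuadraticForm F (Fin (2 * j) → F), (QuadraticMap.polarBilin Q).Nondegenerate ∧
      ∃ g : Module.End F (Fin (2 * j) → F), (∀ v, Q (g v) = Q v) ∧ g.charpoly = P := by
  obtain ⟨T, hTd, hTj, hTx⟩ := exists_trace_poly j P hd.le hP
  have hP0 : P.coeff 0 = 1 := by
    rw [← hP, coeff_reflect, revAt_le (Nat.zero_le _), Nat.sub_zero, ← hd]
    exact hm.coeff_natDegree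
  rw [hP0] at hTj
  have hTm : T.Monic := monic_of_natDegree_le_of_coeff_eq_one j hTd hTj
  have hTdeg : T.natDegree = j :=
    le_antisymm hTd (le_natDegree_of_ne_zero (by rw [hTj]; exact one_ne_zero))
  have hT2 : T.eval 2 ≠ 0 := fun h0 => h1 (by
    have := hTx F 1 2 (Commute.all _ _) (by norm_num)
    simp only [coe_aeval_eq_eval, h0, mul_zero] at this
    exact this)
  have hTn2 : T.eval (-2) ≠ 0 := fun h0 => hn1 (by
    have := hTx F (-1) (-2) (Commute.all _ _) (by norm_num)
    simp only [coe_aeval_eq_eval, h0, mul_zero] at this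
    exact this)
  let A := AdjoinRoot T
  let s : A := AdjoinRoot.root T
  haveI := hTm.finite_adjoinRoot
  have hAdim : finrank F A = j := by
    rw [(AdjoinRoot.powerBasis' hTm).finrank, AdjoinRoot.powerBasis'_dim, hTdeg]
  -- the functional
  let lam : A →ₗ[F] F := (lcoeff F (j - 1)).comp (AdjoinRoot.modByMonicHom hTm)
  have hlam : ∀ a : A, (∀ y : A, lam (a * y) = 0) → a = 0 := by
    intro a ha
    set p := AdjoinRoot.modByMonicHom hTm a with hp
    have hpa : AdjoinRoot.mk T p = a := AdjoinRoot.mk_leftInverse hTm a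
    by_contra hne
    have hp0 : p ≠ 0 := fun h => hne (by rw [← hpa, h, map_zero])
    have hpd : p.natDegree < j := by
      have : p.degree < T.degree := by
        rw [hp]
        induction a using AdjoinRoot.induction_on
        rename_i f
        rw [AdjoinRoot.modByMonicHom_mk]
        exact degree_modByMonic_lt _ hTm
      rw [← hTdeg]
      exact natDegree_lt_natDegree hp0 this
    have hlt : (p * X ^ (j - 1 - p.natDegree)).degree < T.degree := by
      refine lt_of_le_of_lt degree_le_natDegree ?_
      rw [degree_eq_natDegree hTm.ne_zero, hTdeg, natDegree_mul_X_pow _ hp0]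
      exact_mod_cast (by omega : p.natDegree + (j - 1 - p.natDegree) < j)
    have h2 := ha (AdjoinRoot.mk T (X ^ (j - 1 - p.natDegree)))
    rw [← hpa, ← map_mul] at h2
    have h3 : ∀ f : F[X], lam (AdjoinRoot.mk T f) = (f %ₘ T).coeff (j - 1) := fun f => rfl
    rw [h3] at h2
    rw [(modByMonic_eq_self_iff hTm).2 hlt, coeff_mul_X_pow', if_pos (by omega),
      show j - 1 - (j - 1 - p.natDegree) = p.natDegree by omega] at h2
    exact hp0 (leadingCoeff_eq_zero.1 h2)
  -- the space
  let φ : A →ₐ[F] Module.End F (A × A) := Algebra.lsmul F F (A × A)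
  let g : Module.End F (A × A) :=
    (-LinearMap.snd F A A).prod (LinearMap.fst F A A + (LinearMap.mulLeft F s).comp (LinearMap.snd F A A))
  have hg : ∀ a b : A, g (a, b) = (-b, a + s * b) := fun a b => rfl
  have hφ : ∀ c a b : A, φ c (a, b) = (c * a, c * b) := fun c a b => rfl
  have hcomm : Commute g (φ s) := LinearMap.ext fun ⟨a, b⟩ => by
    simp only [Module.End.mul_apply, hg, hφ]
    exact Prod.ext (by ring) (by ring)
  have hgg : g * g + 1 = φ s * g := LinearMap.ext fun ⟨a, b⟩ => by
    simp only [LinearMap.add_apply, Module.End.mul_apply, Module.End.one_apply, hg, hφ,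
      Prod.mk_add_mk]
    exact Prod.ext (by ring) (by ring)
  have hPg : aeval g P = 0 := by
    rw [hTx _ g (φ s) hcomm hgg, aeval_algHom_apply, AdjoinRoot.aeval_eq, AdjoinRoot.mk_self,
      map_zero, mul_zero]
  -- the vector (1, 0) is cyclic
  have hinv : ∃ q : F[X], g * aeval g q = 1 := by
    refine ⟨-P.divX, ?_⟩
    have h0 : g * aeval g (-P.divX) = aeval g (X * -P.divX) := by rw [map_mul (aeval g), aeval_X]
    rw [h0, show X * -P.divX = C (P.coeff 0) - P by linear_combination -(X_mul_divX_add P),
      hP0, C_1, map_sub, hPg, map_one, sub_zero]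
  obtain ⟨q, hq⟩ := hinv
  have hφs : φ s = aeval g (X + q) := by
    rw [map_add, aeval_X]
    calc φ s = φ s * (g * aeval g q) := by rw [hq, mul_one]
      _ = (g * g + 1) * aeval g q := by rw [← mul_assoc, hgg]
      _ = g + aeval g q := by rw [add_mul, mul_assoc, hq, mul_one, one_mul]
  have hrange : ∀ v : A × A, ∃ p : F[X], aeval g p ((1, 0) : A × A) = v := by
    rintro ⟨a, b⟩
    obtain ⟨fa, rfl⟩ := AdjoinRoot.mk_surjective a
    obtain ⟨fb, rfl⟩ := AdjoinRoot.mk_surjective b
    refine ⟨fa.comp (X + q) + fb.comp (X + q) * X, ?_⟩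
    rw [map_add, map_mul, aeval_X, aeval_comp, aeval_comp, ← hφs, aeval_algHom_apply,
      aeval_algHom_apply, AdjoinRoot.aeval_eq, AdjoinRoot.aeval_eq, LinearMap.add_apply,
      Module.End.mul_apply, hg, hφ, hφ]
    simp
  have hdimV : finrank F (A × A) = 2 * j := by rw [finrank_prod, hAdim]; ring
  have hchar : g.charpoly = P := by
    have hμm := minpoly.monic (Algebra.IsIntegral.isIntegral (R := F) g)
    have hle : 2 * j ≤ (minpoly F g).natDegree := by
      rw [← hdimV]
      let L : degreeLT F (minpoly F g).natDegree →ₗ[F] A × A :=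
        (LinearMap.applyₗ ((1, 0) : A × A)).comp
          ((aeval g).toLinearMap.comp (Submodule.subtype _))
      have hsurj : Function.Surjective L := by
        intro v
        obtain ⟨p, rfl⟩ := hrange v
        refine ⟨⟨p %ₘ minpoly F g, mem_degreeLT.2 ?_⟩, ?_⟩
        · rw [← degree_eq_natDegree hμm.ne_zero]
          exact degree_modByMonic_lt _ hμm
        · show aeval g (p %ₘ minpoly F g) ((1, 0) : A × A) = _
          rw [aeval_modByMonic_eq_self_of_root (minpoly.aeval F g)]
      haveI : Module.Finite F (degreeLT F (minpoly F g).natDegree) :=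
        Module.Finite.equiv (degreeLTEquiv F _).symm
      refine (LinearMap.finrank_le_finrank_of_surjective hsurj).trans ?_
      rw [(degreeLTEquiv F _).finrank_eq, finrank_fintype_fun_eq_card, Fintype.card_fin]
    have e1 : P = minpoly F g :=
      eq_of_monic_of_dvd_of_natDegree_le hμm hm (minpoly.dvd F g hPg) (by omega)
    have e2 : g.charpoly = minpoly F g :=
      eq_of_monic_of_dvd_of_natDegree_le hμm g.charpoly_monic g.minpoly_dvd_charpoly
        (by rw [LinearMap.charpoly_natDegree, hdimV]; exact hle)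
    rw [e2, ← e1]
  -- the form
  let B : LinearMap.BilinForm F (A × A) :=
    LinearMap.mk₂ F (fun u v => lam (u.1 * v.1 + s * u.1 * v.2 + u.2 * v.2))
      (fun u u' v => by
        rw [← map_add]; congr 1; simp only [Prod.fst_add, Prod.snd_add]; ring)
      (fun c u v => by
        rw [← map_smul]; congr 1
        simp only [Prod.smul_fst, Prod.smul_snd, smul_add, Algebra.mul_smul_comm, Algebra.smul_mul_assoc])
      (fun u v v' => by
        rw [← map_add]; congr 1; simp only [Prod.fst_add, Prod.snd_add]; ring)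
      (fun c u v => by
        rw [← map_smul]; congr 1
        simp only [Prod.smul_fst, Prod.smul_snd, smul_add, Algebra.mul_smul_comm, Algebra.smul_mul_assoc])
  let Q : QuadraticForm F (A × A) := LinearMap.BilinMap.toQuadraticMap B
  have hQ : ∀ v, Q v = lam (v.1 * v.1 + s * v.1 * v.2 + v.2 * v.2) := fun v => rfl
  have hQg : ∀ v, Q (g v) = Q v := by
    rintro ⟨a, b⟩
    rw [hQ, hQ, hg]
    congr 1
    ring
  have hnd : (QuadraticMap.polarBilin Q).Nondegenerate := by
    have hpol : ∀ u v : A × A, QuadraticMap.polar Q u v =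
        lam ((2 * u.1 + s * u.2) * v.1 + (s * u.1 + 2 * u.2) * v.2) := fun u v => by
      simp only [QuadraticMap.polar, hQ, ← map_sub, Prod.fst_add, Prod.snd_add]
      congr 1
      ring
    have key : ∀ u, (∀ v, QuadraticMap.polar Q u v = 0) → u = 0 := by
      intro u hu
      have e1 := hlam _ fun y => by simpa [hpol] using hu (y, 0)
      have e2 := hlam _ fun y => by simpa [hpol] using hu (0, y)
      have hunit : ∀ c : F, T.eval c ≠ 0 → IsUnit (s - algebraMap F A c) := by
        intro c hc
        have hdvd : X - C c ∣ T - C (T.eval c) := X_sub_C_dvd_sub_C_eval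
        obtain ⟨Z, hZ⟩ := hdvd
        have h2 := congrArg (AdjoinRoot.mk T) hZ
        rw [map_sub, AdjoinRoot.mk_self, zero_sub, map_mul, map_sub, AdjoinRoot.mk_X,
          AdjoinRoot.mk_C, AdjoinRoot.mk_C] at h2
        refine isUnit_of_mul_isUnit_left (y := AdjoinRoot.mk T Z) ?_
        rw [show s - algebraMap F A c = AdjoinRoot.root T - AdjoinRoot.of T c from rfl, ← h2]
        exact ((isUnit_iff_ne_zero.2 hc).map _).neg
      have hu2 := (hunit 2 hT2).mul (hunit (-2) hTn2)
      rw [map_neg, map_ofNat] at hu2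
      have z1 : (s - 2) * (s - -2) * u.1 = 0 := by linear_combination s * e2 - 2 * e1
      have z2 : (s - 2) * (s - -2) * u.2 = 0 := by linear_combination s * e1 - 2 * e2
      exact Prod.ext (hu2.mul_right_eq_zero.1 z1) (hu2.mul_right_eq_zero.1 z2)
    exact ⟨fun u hu => key u hu, fun u hu => key u fun v => by
      rw [QuadraticMap.polar_comm]; exact hu v⟩
  -- coordinates
  let b := (Module.finBasisOfFinrankEq F (A × A) hdimV).equivFun
  refine ⟨Q.comp (b.symm : (Fin (2 * j) → F) →ₗ[F] A × A), ?_, b.conj g, fun v => ?_, ?_⟩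
  · have key : ∀ x, (∀ y, QuadraticMap.polar Q (b.symm x) (b.symm y) = 0) → x = 0 := fun x hx =>
      b.symm.map_eq_zero_iff.1 (hnd.1 _ fun y => by simpa using hx (b y))
    have hp : ∀ x y, QuadraticMap.polarBilin (Q.comp (b.symm : (Fin (2 * j) → F) →ₗ[F] A × A)) x y =
        QuadraticMap.polar Q (b.symm x) (b.symm y) := fun x y => by
      simp [QuadraticMap.polar]
    exact ⟨fun x hx => key x fun y => (hp x y).symm.trans (hx y), fun x hx => key x fun y => by
      rw [QuadraticMap.polar_comm]; exact (hp y x).symm.trans (hx y)⟩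
  · simp [LinearEquiv.conj_apply, hQg]
  · rw [LinearEquiv.charpoly_conj, hchar]

end Cfsg.Agent.OrthPalindromeReal73
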