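import Mathlib
import Cfsg.Agent.Lib.NormHilbert90
import Cfsg.Agent.Lib.Witt

/-!
Over a finite field, isometries of odd order prime to the characteristic of a quadratic form with
nondegenerate polar are orthogonally conjugate as soon as they are linearly conjugate.
-/

set_option autoImplicit false

namespace Cfsg.Agent.OrthSemisimpleForms

open LinearMap (BilinForm)
open QuadraticMap

universe u v

variable {F : Type u} [Field F] {V : Type v} [AddCommGroup V] [Module F V]

/-- Two invariant symmetric forms of a fixed-point-free element of odd order. -/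
theorem exists_bilin_isometry [Finite F] [FiniteDimensional F V] {A : Module.End F V} {N : ℕ}
    (hN : 0 < N) (hA : A ^ N = 1) (hfix : ∀ x, A (A x) = x → x = 0) {B B' : BilinForm F V}
    (hs : ∀ x y, B x y = B y x) (hs' : ∀ x y, B' x y = B' y x)
    (hnd : ∀ x, (∀ y, B x y = 0) → x = 0) (hnd' : ∀ x, (∀ y, B' x y = 0) → x = 0)
    (hi : ∀ x y, B (A x) (A y) = B x y) (hi' : ∀ x y, B' (A x) (A y) = B' x y) :
    ∃ T : Module.End F V, T * A = A * T ∧ ∀ x y, B (T x) (T y) = B' x y := by
  haveI : Finite V := Module.finite_of_finite F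
  haveI : Finite (Module.End F V) := Finite.of_injective _ DFunLike.coe_injective
  obtain ⟨k, rfl⟩ : ∃ k, N = k + 1 := ⟨N - 1, by omega⟩
  have hAr : ∀ x, A ((A ^ k) x) = x := fun x => by
    rw [← Module.End.mul_apply, ← pow_succ', hA]; rfl
  have hb : B.Nondegenerate :=
    ⟨fun x h => hnd x h, fun y h => hnd y fun x => by rw [hs]; exact h x⟩
  have hext : ∀ f g : Module.End F V, (∀ x y, B (f x) y = B (g x) y) → f = g := fun f g h => by
    refine LinearMap.ext fun x => sub_eq_zero.1 (hnd _ fun y => ?_)
    simp [h x y]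
  let τ : Module.End F V → Module.End F V := fun φ => B.leftAdjointOfNondegenerate hb φ
  have hτ : ∀ φ x y, B (τ φ x) y = B x (φ y) := fun φ x y =>
    B.isAdjointPairLeftAdjointOfNondegenerate hb φ x y
  have hττ : ∀ φ, τ (τ φ) = φ := fun φ => hext _ _ fun x y => by rw [hτ, hs, hτ, hs]
  have hτadd : ∀ f g, τ (f + g) = τ f + τ g := fun f g => hext _ _ fun x y => by simp [hτ]
  have hτmul : ∀ f g, τ (f * g) = τ g * τ f := fun f g => hext _ _ fun x y => by
    rw [hτ, Module.End.mul_apply, Module.End.mul_apply, hτ, hτ]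
  have hτalg : ∀ c : F, τ (algebraMap F _ c) = algebraMap F _ c := fun c => hext _ _ fun x y => by
    simp [hτ]
  obtain ⟨S, hS⟩ : ∃ S : Module.End F V, ∀ x y, B (S x) y = B' x y :=
    ⟨B'.symmCompOfNondegenerate B hb, fun x y => B'.symmCompOfNondegenerate_left_apply hb y x⟩
  have hτA : τ A = A ^ k := hext _ _ fun x y => by
    rw [hτ, ← hi ((A ^ k) x) y, hAr]
  have hτS : τ S = S := hext _ _ fun x y => by
    rw [hτ, hs, hS, hs', hS]
  have hSA : A * S = S * A := hext _ _ fun x y => by
    rw [← hAr y]
    simp only [Module.End.mul_apply]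
    rw [hi, hS, hS, hi']
  let R := Algebra.adjoin F ({A, S} : Set (Module.End F V))
  letI : CommRing R := Algebra.adjoinCommRingOfComm F (by
    rintro a (rfl | rfl) b (rfl | rfl) <;> first | rfl | exact hSA | exact hSA.symm)
  have hAR : A ∈ R := Algebra.subset_adjoin (by simp)
  have hSR : S ∈ R := Algebra.subset_adjoin (by simp)
  have hR : ∀ x ∈ R, τ x ∈ R := fun x hx => by
    induction hx using Algebra.adjoin_induction with
    | mem y hy =>
      rcases hy with rfl | rfl
      · rw [hτA]; exact R.pow_mem hAR _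
      · rw [hτS]; exact hSR
    | algebraMap c => rw [hτalg]; exact R.algebraMap_mem _
    | add y z _ _ hy hz => rw [hτadd]; exact R.add_mem hy hz
    | mul y z _ _ hy hz => rw [hτmul]; exact R.mul_mem hz hy
  let τR : R →+* R :=
    { toFun := fun x => ⟨τ x.1, hR x.1 x.2⟩
      map_one' := Subtype.ext (by simpa using hτalg 1)
      map_mul' := fun x y => by
        rw [mul_comm (⟨τ x.1, _⟩ : R)]
        exact Subtype.ext (hτmul x.1 y.1)
      map_zero' := Subtype.ext (by simpa using hτalg 0)
      map_add' := fun x y => Subtype.ext (hτadd x.1 y.1) }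
  have hunit : ∀ r : R, (∀ x, r.1 x = 0 → x = 0) → IsUnit r := fun r hr => by
    have hinj : Function.Injective fun z : R => r * z := fun a b h => by
      refine Subtype.ext (LinearMap.ext fun x => ?_)
      have h' : r.1 (a.1 x) = r.1 (b.1 x) := LinearMap.congr_fun (congrArg Subtype.val h) x
      exact sub_eq_zero.1 (hr _ (by rw [map_sub, h', sub_self]))
    obtain ⟨z, hz⟩ := Finite.injective_iff_surjective.1 hinj 1
    exact IsUnit.of_mul_eq_one z hz
  let a : R := ⟨A, hAR⟩
  let s : R := ⟨S, hSR⟩
  have hc : IsUnit (a - τR a) := hunit _ fun x hx => by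
    refine hfix x ?_
    have hx' : A x - τ A x = 0 := hx
    rw [sub_eq_zero, hτA] at hx'
    rw [hx', hAr]
  have hsu : IsUnit s := hunit _ fun x hx => hnd' x fun y => by
    rw [← hS, show S x = 0 from hx]; simp
  obtain ⟨t, -, ht⟩ := NormHilbert90.exists_norm_eq τR (fun x => Subtype.ext (hττ x.1)) a hc s hsu
    (Subtype.ext hτS)
  refine ⟨t.1, congrArg Subtype.val (mul_comm t a), fun x y => ?_⟩
  rw [mul_comm] at ht
  rw [← hτ, ← Module.End.mul_apply, show τ t.1 * t.1 = S from congrArg Subtype.val ht, hS]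

/-- Linearly conjugate isometries of odd order prime to the characteristic are orthogonally conjugate. -/
theorem exists_orth_conj [Finite F] [FiniteDimensional F V] (Q : QuadraticForm F V)
    (hQ : (polarBilin Q).Nondegenerate) {A B : Module.End F V} {N : ℕ} (hodd : Odd N) (hA : A ^ N = 1)
    (hN : (N : F) ≠ 0) (hQA : ∀ v, Q (A v) = Q v) (hQB : ∀ v, Q (B v) = Q v)
    (P : V ≃ₗ[F] V) (hP : ∀ v, P (A v) = B (P v)) :
    ∃ R : V ≃ₗ[F] V, (∀ v, Q (R v) = Q v) ∧ ∀ v, R (B v) = A (R v) := by
  let Q' : QuadraticForm F V := Q.comp (P : V →ₗ[F] V)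
  have hQ' : ∀ v, Q' v = Q (P v) := fun v => rfl
  have hQ'A : ∀ v, Q' (A v) = Q' v := fun v => by rw [hQ', hQ', hP, hQB]
  let b : BilinForm F V := polarBilin Q
  let b' : BilinForm F V := polarBilin Q'
  have hb : ∀ x y, b x y = Q (x + y) - Q x - Q y := fun x y => rfl
  have hb' : ∀ x y, b' x y = Q' (x + y) - Q' x - Q' y := fun x y => rfl
  have hbA : ∀ x y, b (A x) (A y) = b x y := fun x y => by simp only [hb, ← map_add A, hQA]
  have hbA' : ∀ x y, b' (A x) (A y) = b' x y := fun x y => by simp only [hb', ← map_add A, hQ'A]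
  have hnd' : ∀ x, (∀ y, b' x y = 0) → x = 0 := fun x hx => P.map_eq_zero_iff.1 (hQ.1 _ fun y => by
    show b (P x) y = 0
    have := hx (P.symm y)
    rw [hb', hQ', hQ', hQ', map_add, LinearEquiv.apply_symm_apply] at this
    rwa [hb])
  let M : Module.End F V := A - 1
  have hM : ∀ x, M x = A x - x := fun x => rfl
  have hker : ∀ x, x ∈ LinearMap.ker M ↔ A x = x := fun x => by rw [LinearMap.mem_ker, hM, sub_eq_zero]
  have hdisj : Disjoint (LinearMap.ker M) (LinearMap.range M) := by
    rw [Submodule.disjoint_def]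
    rintro x hx ⟨y, rfl⟩
    rw [hker] at hx
    have key : ∀ n : ℕ, (A ^ n) y = y + (n : F) • M y := by
      intro n
      induction n with
      | zero => simp
      | succ n ih =>
        rw [pow_succ', Module.End.mul_apply, ih, map_add, map_smul, hx, show A y = y + M y by rw [hM]; abel]
        push_cast
        module
    have := key N
    rw [hA, Module.End.one_apply, eq_comm, add_eq_left, smul_eq_zero] at this
    exact this.resolve_left hN
  have hc : IsCompl (LinearMap.ker M) (LinearMap.range M) :=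
    Submodule.isCompl_iff_disjoint _ _ (by rw [add_comm, M.finrank_range_add_finrank_ker]) |>.2 hdisj
  have hW : ∀ x ∈ LinearMap.range M, A x ∈ LinearMap.range M := by
    rintro _ ⟨y, rfl⟩
    exact ⟨A y, by simp [hM, map_sub]⟩
  have hdec : ∀ y : V, ∃ u ∈ LinearMap.ker M, ∃ v ∈ LinearMap.range M, u + v = y := fun y =>
    Submodule.mem_sup.1 (hc.sup_eq_top ▸ Submodule.mem_top (x := y))
  have horth : ∀ C : BilinForm F V, (∀ x y, C (A x) (A y) = C x y) →
      ∀ x ∈ LinearMap.ker M, ∀ y ∈ LinearMap.range M, C x y = 0 := by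
    rintro C hC x hx _ ⟨y, rfl⟩
    rw [hker] at hx
    have := hC x y
    rw [hx] at this
    rw [hM, map_sub, this, sub_self]
  have hsym : ∀ x y, b x y = b y x := fun x y => by rw [hb, hb, add_comm]; ring
  have hsym' : ∀ x y, b' x y = b' y x := fun x y => by rw [hb', hb', add_comm]; ring
  have hres : ∀ C : BilinForm F V, (∀ x y, C (A x) (A y) = C x y) → (∀ x y, C x y = C y x) →
      (∀ x, (∀ y, C x y = 0) → x = 0) → ∀ x : LinearMap.range M, (∀ y : LinearMap.range M, C x y = 0) → x = 0 := by
    intro C hC hCs hCn x hx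
    refine Subtype.ext (hCn _ fun y => ?_)
    obtain ⟨u, hu, v, hv, rfl⟩ := hdec y
    rw [map_add, hCs, horth C hC u hu x x.2, hx ⟨v, hv⟩, add_zero]
  let A2 : Module.End F (LinearMap.range M) := A.restrict hW
  have hA2 : A2 ^ N = 1 := by
    rw [Module.End.pow_restrict]
    refine LinearMap.ext fun x => Subtype.ext ?_
    simp [hA]
  have hfix : ∀ x, A2 (A2 x) = x → x = 0 := by
    intro x hx
    have h2 : A (A (x : V)) = x := congrArg Subtype.val hx
    obtain ⟨j, hj⟩ := hodd
    have h1 : A (x : V) = x := by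
      have hpow : ∀ i : ℕ, (A ^ (2 * i)) (x : V) = x := by
        intro i
        induction i with
        | zero => simp
        | succ i ih =>
          rw [show 2 * (i + 1) = 2 * i + 2 by ring, pow_add, Module.End.mul_apply, pow_two, Module.End.mul_apply, h2, ih]
      conv_rhs => rw [← Module.End.one_apply (R := F) (x : V), ← hA, hj, pow_succ', Module.End.mul_apply, hpow]
    exact Subtype.ext (Submodule.disjoint_def.1 hdisj x ((hker x).2 h1) x.2)
  obtain ⟨σ, hσA, hσ⟩ := exists_bilin_isometry (A := A2) hodd.pos hA2 hfix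
    (B := b.restrict (LinearMap.range M)) (B' := b'.restrict (LinearMap.range M))
    (fun x y => hsym x y) (fun x y => hsym' x y) (hres b hbA hsym fun x h => hQ.1 x h) (hres b' hbA' hsym' hnd')
    (fun x y => hbA x y) (fun x y => hbA' x y)
  have hσb : ∀ x y, b (σ x : V) (σ y : V) = b' x y := hσ
  have hσA' : ∀ x, (σ (A2 x) : V) = A (σ x : V) := fun x => congrArg Subtype.val (LinearMap.congr_fun hσA x)
  -- the quadratic forms agree
  have hσQ : ∀ x : LinearMap.range M, Q (σ x : V) = Q' (x : V) := by
    let D : LinearMap.range M → F := fun x => Q (σ x : V) - Q' (x : V)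
    have hadd : ∀ x y, D (x + y) = D x + D y := fun x y => by
      have := hσb x y
      rw [hb, hb'] at this
      simp only [D, map_add, Submodule.coe_add]
      linear_combination this
    have hinv : ∀ x, D (A2 x) = D x := fun x => by
      simp only [D, hσA', hQA, show (A2 x : V) = A x from rfl, hQ'A]
    intro x
    have hinj : Function.Injective (A2 - 1 : Module.End F (LinearMap.range M)) := by
      rw [← LinearMap.ker_eq_bot, Submodule.eq_bot_iff]
      intro y hy
      rw [LinearMap.mem_ker, LinearMap.sub_apply, Module.End.one_apply, sub_eq_zero] at hy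
      exact hfix y (by rw [hy, hy])
    obtain ⟨y, hy⟩ := LinearMap.injective_iff_surjective.1 hinj x
    rw [LinearMap.sub_apply, Module.End.one_apply] at hy
    have h := hadd x y
    rw [← hy, sub_add_cancel, hinv] at h
    have : D (A2 y - y) = 0 := by linear_combination -h
    rw [hy] at this
    exact sub_eq_zero.1 this
  have hσinj : Function.Injective σ := by
    rw [← LinearMap.ker_eq_bot, Submodule.eq_bot_iff]
    intro x hx
    refine hres b' hbA' hsym' hnd' x fun y => ?_
    rw [← hσb, LinearMap.mem_ker.1 hx]; simp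
  have hσsurj : Function.Surjective σ := LinearMap.injective_iff_surjective.1 hσinj
  -- Witt extension
  let φ : ↥((LinearMap.range M).map (P : V →ₗ[F] V)) →ₗ[F] V :=
    (LinearMap.range M).subtype ∘ₗ σ ∘ₗ (P.submoduleMap (LinearMap.range M)).symm.toLinearMap
  have hφP : ∀ x : LinearMap.range M, φ (P.submoduleMap (LinearMap.range M) x) = (σ x : V) := fun x => by
    simp only [φ, LinearMap.comp_apply, LinearEquiv.coe_coe, LinearEquiv.symm_apply_apply]
    rfl
  obtain ⟨R, hR, hRφ⟩ := Witt.quad_extend Q hQ _ φ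
    (Subtype.val_injective.comp (hσinj.comp (P.submoduleMap _).symm.injective)) (fun a => by
      obtain ⟨x, rfl⟩ := (P.submoduleMap (LinearMap.range M)).surjective a
      rw [hφP, hσQ, hQ']
      rfl)
  have hTW : ∀ x : LinearMap.range M, R (P (x : V)) = (σ x : V) := fun x => by
    rw [← hφP]; exact hRφ (P.submoduleMap (LinearMap.range M) x)
  have hTb : ∀ u v, b (R (P u)) (R (P v)) = b' u v := fun u v => by
    rw [hb, hb', hQ', hQ', hQ', ← map_add R, hR, hR, hR, map_add P]
  have hTker : ∀ u ∈ LinearMap.ker M, R (P u) ∈ LinearMap.ker M := by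
    intro u hu
    obtain ⟨a, ha, c, hc', hac⟩ := hdec (R (P u))
    have hzero : (⟨c, hc'⟩ : LinearMap.range M) = 0 := by
      refine hres b hbA hsym (fun x h => hQ.1 x h) _ fun y => ?_
      obtain ⟨z, rfl⟩ := hσsurj y
      have h1 : b (R (P u)) (σ z : V) = 0 := by
        rw [← hTW, hTb, horth b' hbA' u hu z z.2]
      rw [← hac, map_add, LinearMap.add_apply, horth b hbA a ha _ (σ z).2, zero_add] at h1
      exact h1
    have hc0 : c = 0 := congrArg Subtype.val hzero
    rw [← hac, hc0, add_zero]; exact ha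
  have hTA : ∀ v, R (P (A v)) = A (R (P v)) := by
    intro v
    obtain ⟨u, hu, w, hw, rfl⟩ := hdec v
    simp only [map_add]
    rw [(hker u).1 hu, (hker _).1 (hTker u hu), hTW ⟨w, hw⟩, ← hσA', ← hTW]
    rfl
  refine ⟨R, hR, fun v => ?_⟩
  obtain ⟨w, rfl⟩ := P.surjective v
  rw [← hP, hTA]

end Cfsg.Agent.OrthSemisimpleForms
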