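import Mathlib
import Cfsg.Prelude.Def_Classical
import Cfsg.Agent.Lib.OrthTypeCount73
import Cfsg.Agent.Lib.OrthPalindromeReal73
import Cfsg.Agent.Lib.OrthSemisimpleForms
import Cfsg.Agent.Lib.SelfReciprocalFactors
import Cfsg.Agent.Lib.OmegaStd
import Cfsg.Agent.Lib.OmegaMaxGlue

/-!
Classes of elements of odd prime order different from the characteristic in orthogonal groups.
-/

set_option autoImplicit false

namespace Cfsg.Agent.OrthPrimeOrderClasses73

open Polynomial Module
open Cfsg.Agent.PrimeOrderClassCount (lin lin_monic lin_natDegree prods)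
open Cfsg.Agent.OrthTypeCount73

universe u

variable {F : Type u} [Field F]

/-- The inclusion of an isometry group into the units of the matrix ring. -/
def matHom {ι : Type} [Fintype ι] [DecidableEq ι] (Q : (ι → F) → F) :
    ↥(Cfsg.isometryGroup F Q) →* (Matrix ι ι F)ˣ :=
  (Cfsg.isometryGroup F Q).subtype

theorem matHom_apply {ι : Type} [Fintype ι] [DecidableEq ι] {Q : (ι → F) → F}
    (g : ↥(Cfsg.isometryGroup F Q)) (v : ι → F) :
    Q (Matrix.toLin' (matHom Q g : Matrix ι ι F) v) = Q v :=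
  g.2 v v

/-! ### Non-degeneracy -/

theorem nd_of_iso {V W : Type*} [AddCommGroup V] [Module F V] [AddCommGroup W] [Module F W]
    {Q : QuadraticForm F V} {Q' : QuadraticForm F W} (hQ' : (QuadraticMap.polarBilin Q').Nondegenerate)
    (g : V ≃ₗ[F] W) (hg : ∀ v, Q' (g v) = Q v) : (QuadraticMap.polarBilin Q).Nondegenerate := by
  have key : ∀ x, (∀ y, QuadraticMap.polar Q x y = 0) → x = 0 := fun x hx =>
    g.map_eq_zero_iff.1 (hQ'.1 _ fun y => by
      obtain ⟨y, rfl⟩ := g.surjective y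
      show QuadraticMap.polar Q' (g x) (g y) = 0
      rw [← hx y]
      simp only [QuadraticMap.polar, ← hg, map_add])
  exact ⟨fun x hx => key x hx, fun x hx => key x fun y => by
    rw [QuadraticMap.polar_comm]; exact hx y⟩

theorem nd_prod {V W : Type*} [AddCommGroup V] [Module F V] [AddCommGroup W] [Module F W]
    {Q : QuadraticForm F V} {Q' : QuadraticForm F W} (hQ : (QuadraticMap.polarBilin Q).Nondegenerate)
    (hQ' : (QuadraticMap.polarBilin Q').Nondegenerate) :
    (QuadraticMap.polarBilin (Q.prod Q')).Nondegenerate := by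
  have key : ∀ x : V × W, (∀ y, QuadraticMap.polar (Q.prod Q') x y = 0) → x = 0 := by
    rintro ⟨a, b⟩ h
    refine Prod.ext (hQ.1 a fun y => ?_) (hQ'.1 b fun y => ?_)
    · have := h (y, 0)
      simpa [QuadraticMap.polar] using this
    · have := h (0, y)
      simpa [QuadraticMap.polar] using this
  exact ⟨fun x hx => key x hx, fun x hx => key x fun y => by
    rw [QuadraticMap.polar_comm]; exact hx y⟩

theorem nd_minus [Finite F] (k : ℕ) {a b : F}
    (hab : ∀ z₁ z₂ : F, z₁ ^ 2 + a * z₁ * z₂ + b * z₂ ^ 2 = 0 → z₁ = 0 ∧ z₂ = 0) :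
    (QuadraticMap.polarBilin (QuadClassify.qMinus k F a b)).Nondegenerate := by
  have hb : (QuadraticMap.polarBilin (QuadClassify.qBin F a b)).Nondegenerate :=
    ⟨fun x hx => QuadClassify.qBin_nondeg hab x trivial fun y _ => hx y,
      fun x hx => QuadClassify.qBin_nondeg hab x trivial fun y _ => by
        rw [QuadraticMap.polar_comm]; exact hx y⟩
  exact nd_of_iso (nd_prod OmegaStd.nondeg_plus hb)
    (LinearEquiv.sumArrowLequivProdArrow (Fin k ⊕ Fin k) (Fin 2) F F) fun v => rfl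

theorem exists_aniso [Finite F] :
    ∃ a b : F, ∀ z₁ z₂ : F, z₁ ^ 2 + a * z₁ * z₂ + b * z₂ ^ 2 = 0 → z₁ = 0 ∧ z₂ = 0 := by
  obtain ⟨ζ, hζ⟩ : ∃ ζ : F, ∀ t : F, t ^ 2 + t ≠ ζ := by
    by_contra h
    push Not at h
    have hinj := (Finite.injective_iff_surjective (f := fun t : F => t ^ 2 + t)).2
      (fun y => h y) (show (fun t : F => t ^ 2 + t) 0 = (fun t : F => t ^ 2 + t) (-1) by
        simp only; ring)
    exact zero_ne_one (by linear_combination -hinj)
  refine ⟨1, -ζ, fun z₁ z₂ h0 => ?_⟩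
  by_cases hz2 : z₂ = 0
  · refine ⟨(pow_eq_zero_iff two_ne_zero).1 ?_, hz2⟩
    rw [hz2] at h0; linear_combination h0
  · refine absurd ?_ (hζ (z₁ / z₂))
    field_simp
    linear_combination h0

/-! ### The characteristic polynomial of an isometry -/

variable {ι : Type} [Fintype ι] [DecidableEq ι]

theorem assoc_mirror (q : QuadraticForm F (ι → F))
    (hnd : (QuadraticMap.polarBilin q).Nondegenerate) {A : Matrix ι ι F} (hu : IsUnit A)
    (hA : ∀ v, q (Matrix.toLin' A v) = q v) : Associated A.charpoly.mirror A.charpoly := by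
  classical
  set B := QuadraticMap.polarBilin q
  have hB : B.compl₁₂ (Matrix.toLin' A) (Matrix.toLin' A) = B := LinearMap.ext₂ fun x y => by
    show QuadraticMap.polar q (Matrix.toLin' A x) (Matrix.toLin' A y) = QuadraticMap.polar q x y
    simp only [QuadraticMap.polar, ← map_add, hA]
  set J := LinearMap.toMatrix₂' F B
  have hJ : A.transpose * J * A = J := by
    have h := LinearMap.toMatrix₂'_compl₁₂ B (Matrix.toLin' A) (Matrix.toLin' A)
    rw [hB, LinearMap.toMatrix'_toLin'] at h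
    exact h.symm
  have hJu : IsUnit J := by
    rw [← Matrix.mulVec_injective_iff_isUnit]
    intro x y hxy
    refine sub_eq_zero.1 (hnd.2 (x - y) fun z => ?_)
    rw [← Matrix.toLinearMap₂'_toMatrix' (R := F) B, Matrix.toLinearMap₂'_apply']
    rw [show J.mulVec (x - y) = 0 by rw [Matrix.mulVec_sub, hxy, sub_self]]
    simp
  obtain ⟨U, hU⟩ := hu
  obtain ⟨W, hW⟩ := hJu
  have h1 : A⁻¹ = (↑W⁻¹ : Matrix ι ι F) * A.transpose * (W : Matrix ι ι F) := by
    refine Matrix.inv_eq_left_inv ?_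
    rw [mul_assoc, mul_assoc, ← mul_assoc A.transpose, hW, hJ, ← hW, Units.inv_mul]
  have hu' : IsUnit A := ⟨U, hU⟩
  have h2 : A⁻¹.charpoly = A.charpoly := by
    rw [h1, Matrix.coe_units_inv, Matrix.charpoly_units_conj',
      Matrix.charpoly_transpose]
  rw [Matrix.charpoly_inv A hu'] at h2
  have hdet : IsUnit A.det := (Matrix.isUnit_iff_isUnit_det A).1 hu'
  have h3 : A.charpoly.mirror = A.charpolyRev := by
    rw [Polynomial.mirror, ← Matrix.reverse_charpoly]
    have : A.charpoly.natTrailingDegree = 0 := by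
      refine natTrailingDegree_eq_zero.2 (Or.inr ?_)
      intro h0
      have := Matrix.det_eq_sign_charpoly_coeff A
      rw [h0, mul_zero] at this
      exact hdet.ne_zero this
    rw [this, pow_zero, mul_one]
  rw [h3]
  conv_rhs => rw [← h2]
  refine (associated_unit_mul_left _ _ ?_).symm
  exact ((isUnit_one.neg).pow _).mul (isUnit_C.2 (hdet.ringInverse))

/-- Blocks as provided by `SelfReciprocalFactors.exists_blocks`. -/
structure Blocks [DecidableEq F] (r e : ℕ) (S : Finset F[X]) (ρ : F[X] → F[X]) : Prop where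
  e_pos : 0 < e
  e_even : Even e
  monic : ∀ B ∈ S, B.Monic
  deg : ∀ B ∈ S, B.natDegree = e
  mir : ∀ B ∈ S, B.mirror = B
  dvd : ∀ B ∈ S, B ∣ (X ^ r - 1) ^ 2
  rho_ne : ∀ B ∈ S, ρ B ≠ lin F
  rho : ∀ B ∈ S, ∀ B' ∈ S,
    PrimeOrderClassCount.cnt (ρ B) B' = if B = B' then 1 else 0
  cover : ∀ μ : F[X], SelfReciprocalFactors.IsFactor r μ →
    ∃ B ∈ S, ∀ P : F[X], P.mirror = P → μ ∣ P → B ∣ P

variable [DecidableEq F] {r e : ℕ} {S : Finset F[X]} {ρ : F[X] → F[X]}

theorem Blocks.eval_one (hS : Blocks r e S ρ) {B : F[X]} (hB : B ∈ S) : B.eval 1 ≠ 0 := by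
  have hc := hS.rho B hB B hB
  rw [if_pos rfl] at hc
  have hmem : ρ B ∈ UniqueFactorizationMonoid.normalizedFactors B :=
    Multiset.count_pos.1 (by rw [PrimeOrderClassCount.cnt] at hc; omega)
  have hirr := UniqueFactorizationMonoid.irreducible_of_normalized_factor _ hmem
  have hd := UniqueFactorizationMonoid.dvd_of_mem_normalizedFactors hmem
  have hf : SelfReciprocalFactors.IsFactor r (ρ B) := by
    refine ⟨?_, hirr, hirr.prime.dvd_of_dvd_pow (hd.trans (hS.dvd B hB)), hS.rho_ne B hB⟩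
    rw [← UniqueFactorizationMonoid.normalize_normalized_factor _ hmem]
    exact monic_normalize hirr.ne_zero
  obtain ⟨B', hB', hB'd⟩ := hS.cover _ hf
  have h1 : B' = B := (eq_of_monic_of_dvd_of_natDegree_le (hS.monic B' hB') (hS.monic B hB)
    (hB'd B (hS.mir B hB) hd) (by rw [hS.deg B hB, hS.deg B' hB'])).symm
  subst h1
  set μ := ρ B'
  have hne : (μ * SelfReciprocalFactors.st μ).eval 1 ≠ 0 := by
    rw [eval_mul]; exact mul_ne_zero hf.eval_one hf.isFactor_st.eval_one
  have hm : (μ * SelfReciprocalFactors.st μ).mirror = μ * SelfReciprocalFactors.st μ := by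
    refine SelfReciprocalFactors.eq_mirror_of_associated ?_ hne
    rw [mirror_mul_of_domain, mul_comm μ]
    refine SelfReciprocalFactors.assoc_st.mul_mul ?_
    have := SelfReciprocalFactors.mirror_associated (SelfReciprocalFactors.assoc_st (μ := μ)).symm
    rwa [mirror_mirror] at this
  obtain ⟨Z, hZ⟩ := hB'd _ hm (dvd_mul_right _ _)
  exact fun h0 => hne (by rw [hZ, eval_mul, h0, zero_mul])

theorem mirror_lin : (lin F).mirror = -lin F := by
  have h0 : (lin F).natTrailingDegree = 0 := natTrailingDegree_eq_zero.2 (Or.inr (by simp [lin]))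
  rw [Polynomial.mirror, h0, pow_zero, mul_one, lin, sub_eq_add_neg, ← C_neg, reverse_add_C]
  have : reverse (X : F[X]) = 1 := by
    rw [← mul_one (X : F[X]), reverse_X_mul, ← C_1, reverse_C]
  rw [this, natDegree_X, C_neg, C_1]
  ring

/-- The characteristic polynomial of an isometry with `A ^ r = 1` is a product of blocks. -/
theorem charpoly_mem_prods (hS : Blocks r e S ρ) (q : QuadraticForm F (ι → F))
    (hnd : (QuadraticMap.polarBilin q).Nondegenerate) {A : Matrix ι ι F} (hu : IsUnit A)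
    (hA : ∀ v, q (Matrix.toLin' A v) = q v) (hAr : A ^ r = 1) :
    A.charpoly ∈ prods S e (Fintype.card ι) := by
  classical
  set P := A.charpoly with hPdef
  have hPm : P.Monic := Matrix.charpoly_monic A
  set a := P.rootMultiplicity 1 with ha
  obtain ⟨P₀, hP₀, hnd1⟩ := exists_eq_pow_rootMultiplicity_mul_and_not_dvd P hPm.ne_zero 1
  rw [← ha] at hP₀
  have hP₀m : P₀.Monic := ((lin_monic (F := F)).pow a).of_mul_monic_left (by rw [lin, ← hP₀]; exact hPm)
  have h1 : P₀.eval 1 ≠ 0 := fun h => hnd1 (dvd_iff_isRoot.2 h)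
  have hmir : P₀.mirror = P₀ := by
    refine SelfReciprocalFactors.eq_mirror_of_associated ?_ h1
    have h := assoc_mirror q hnd hu hA
    rw [← hPdef, hP₀, mirror_mul_of_domain] at h
    have hl : Associated (((X : F[X]) - C 1) ^ a).mirror (((X : F[X]) - C 1) ^ a) := by
      induction a with
      | zero => rw [pow_zero, ← C_1, mirror_C]
      | succ k ih =>
        rw [pow_succ, mirror_mul_of_domain]
        refine ih.mul_mul ?_
        rw [show ((X : F[X]) - C 1) = lin F from rfl, mirror_lin]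
        exact (Associated.refl _).neg_left
    exact Associated.of_mul_left h hl
      (fun h0 => pow_ne_zero _ (X_sub_C_ne_zero (1 : F)) (Polynomial.mirror_eq_zero.1 h0))
  have hdvd : P₀ ∣ P := ⟨_, (hP₀.trans (mul_comm _ _))⟩
  obtain ⟨f, hf, hP₀f⟩ := PrimeOrderClassCount.mem_prods (S := S) hS.monic hS.deg
    (SelfReciprocalFactors.Adm r) (fun P h => h.1)
    (fun P μ hP hμ hirr hdv hne => by
      obtain ⟨B, hB, hBd⟩ := hS.cover μ ⟨hμ, hirr, hP.2.2 μ hμ hirr hdv, hne⟩
      obtain ⟨P', hP'⟩ := hBd P hP.2.1 hdv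
      exact ⟨B, hB, by rw [hS.deg B hB]; exact hS.e_pos.ne', P', hP',
        SelfReciprocalFactors.adm_of_dvd (hS.monic B hB) (hS.mir B hB) hP hP'⟩)
    P₀.natDegree P₀ ⟨hP₀m, hmir, fun μ _ hirr hdv =>
      PrimeOrderClassCount.dvd_of_pow_eq_one hAr hirr (hdv.trans hdvd)⟩ rfl
  have hprod : (∏ B ∈ S, B ^ f B).Monic := monic_prod_of_monic _ _ fun B hB => (hS.monic B hB).pow _
  have hzero : P₀.natDegree - e * ∑ B ∈ S, f B = 0 := by
    by_contra h0
    refine h1 ?_
    rw [hP₀f, eval_mul, eval_pow, show eval 1 (lin F) = 0 by simp [lin], zero_pow h0, zero_mul]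
  have hdeg : P.natDegree = a + P₀.natDegree := by
    rw [hP₀, ((monic_X_sub_C (1 : F)).pow a).natDegree_mul hP₀m, natDegree_pow, natDegree_X_sub_C,
      mul_one]
  rw [hPdef, Matrix.charpoly_natDegree_eq_dim] at hdeg
  refine ⟨f, by omega, ?_⟩
  rw [hP₀f, hzero, pow_zero, one_mul] at hP₀
  rw [hP₀, show Fintype.card ι - e * ∑ B ∈ S, f B = a by omega]
  rfl

omit [DecidableEq F] in
/-- A matrix without the eigenvalue one fixes only zero. -/
theorem fixed_zero {A : Matrix ι ι F} (h : A.charpoly.eval 1 ≠ 0) (v : ι → F)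
    (hv : Matrix.toLin' A v = v) : v = 0 := by
  by_contra hv0
  refine h ?_
  rw [Matrix.eval_charpoly]
  refine Matrix.exists_mulVec_eq_zero_iff.1 ⟨v, hv0, ?_⟩
  rw [Matrix.toLin'_apply] at hv
  rw [Matrix.sub_mulVec, hv]
  simp [Matrix.scalar]

/-! ### Existence and counting -/

omit [DecidableEq F] in
/-- An isometry of an abstract space carried to the matrix group. -/
theorem exists_group_elem {q : QuadraticForm F (ι → F)} {V : Type*} [AddCommGroup V] [Module F V]
    [FiniteDimensional F V] {Q : QuadraticForm F V} (g : Module.End F V) (hgQ : ∀ v, Q (g v) = Q v)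
    (hg0 : g.charpoly.coeff 0 ≠ 0) {c : F} (hc : c ≠ 0) (T : V ≃ₗ[F] (ι → F))
    (hT : ∀ v, q (T v) = c * Q v) :
    ∃ x : ↥(Cfsg.isometryGroup F ⇑q), (matHom ⇑q x : Matrix ι ι F).charpoly = g.charpoly := by
  set M := LinearMap.toMatrix' (T.conj g) with hM
  have hch : M.charpoly = g.charpoly := by
    rw [← Matrix.charpoly_toLin', hM, Matrix.toLin'_toMatrix', LinearEquiv.charpoly_conj]
  have hu : IsUnit M := by
    rw [Matrix.isUnit_iff_isUnit_det, isUnit_iff_ne_zero, Matrix.det_eq_sign_charpoly_coeff, hch]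
    exact mul_ne_zero (pow_ne_zero _ (neg_ne_zero.2 one_ne_zero)) hg0
  have hmem : hu.unit ∈ Cfsg.isometryGroup F ⇑q := fun v _ => by
    show q (M.mulVec v) = q v
    rw [← Matrix.toLin'_apply, hM, Matrix.toLin'_toMatrix', LinearEquiv.conj_apply]
    obtain ⟨w, rfl⟩ := T.surjective v
    simp [hT, hgQ]
  exact ⟨⟨hu.unit, hmem⟩, hch⟩

/-- The classes of elements of order `r`, given which full products occur. -/
theorem card_classes [Fintype F] {p : ℕ} [Fact p.Prime] [CharP F p] (hr : r.Prime) (hr2 : r ≠ 2)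
    (hrp : r ≠ p) (hS : Blocks r e S ρ) (q : QuadraticForm F (ι → F))
    (hnd : (QuadraticMap.polarBilin q).Nondegenerate) {n : ℕ} (hn : Fintype.card ι = n)
    (excl : Prop) [Decidable excl] (hn0 : excl → 0 < n)
    (hnec : ∀ A : Matrix ι ι F, (∀ v, q (Matrix.toLin' A v) = q v) → A ^ r = 1 →
      A.charpoly.eval 1 ≠ 0 → ¬ excl)
    (hsuf : ∀ (a : ℕ) (P₀ : F[X]), P₀.Monic → a + P₀.natDegree = n → Even P₀.natDegree →
      e ∣ P₀.natDegree → reflect P₀.natDegree P₀ = P₀ → P₀.eval 1 ≠ 0 → P₀.eval (-1) ≠ 0 →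
      P₀ ∣ (X ^ r - 1) ^ n → (a = 0 → ¬ excl) →
      ∃ g : ↥(Cfsg.isometryGroup F ⇑q),
        (matHom ⇑q g : Matrix ι ι F).charpoly = lin F ^ a * P₀) :
    Nat.card {C : ConjClasses ↥(Cfsg.isometryGroup F ⇑q) //
      ∃ g, ConjClasses.mk g = C ∧ orderOf g = r} =
      Nat.choose ((if excl then n - 1 else n) / e + S.card) S.card - 1 := by
  classical
  haveI : Finite F := Finite.of_fintype F
  haveI : Finite ↥(Cfsg.isometryGroup F ⇑q) := inferInstance
  haveI := Fintype.ofFinite ↥(Cfsg.isometryGroup F ⇑q)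
  set φ := matHom ⇑q
  have hp : p.Prime := Fact.out
  have hrF : (r : F) ≠ 0 := by
    rw [Ne, CharP.cast_eq_zero_iff F p, Nat.prime_dvd_prime_iff_eq hp hr]
    exact hrp.symm
  -- the polynomials which occur
  set n' := if excl then n - 1 else n with hn'
  set sh := if excl then 1 else 0 with hsh
  have hnn : n' + sh = n := by
    by_cases h : excl
    · simp only [hn', hsh, if_pos h]; have := hn0 h; omega
    · simp only [hn', hsh, if_neg h]; omega
  set T := (fun P => lin F ^ sh * P) '' prods S e n' with hT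
  have hinj : Function.Injective fun P : F[X] => lin F ^ sh * P :=
    fun a b h => mul_left_cancel₀ (pow_ne_zero _ lin_monic.ne_zero) h
  have hTcard : T.ncard = Nat.choose (n' / e + S.card) S.card := by
    rw [hT, Set.ncard_image_of_injective _ hinj,
      PrimeOrderClassCount.ncard_prods hS.e_pos hS.monic ρ hS.rho hS.rho_ne]
  have hone : ∀ f : F[X] → ℕ, (∏ B ∈ S, B ^ f B).eval 1 ≠ 0 := fun f => by
    rw [eval_prod]
    exact Finset.prod_ne_zero_iff.2 fun B hB => by
      rw [eval_pow]; exact pow_ne_zero _ (hS.eval_one hB)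
  -- elements of T
  have hTmem : ∀ P, P ∈ T ↔ ∃ f : F[X] → ℕ, e * (∑ B ∈ S, f B) ≤ n ∧
      (e * (∑ B ∈ S, f B) = n → ¬ excl) ∧
      P = lin F ^ (n - e * ∑ B ∈ S, f B) * ∏ B ∈ S, B ^ f B := by
    intro P
    constructor
    · rintro ⟨_, ⟨f, hf, rfl⟩, rfl⟩
      refine ⟨f, by omega, fun h hx => ?_, ?_⟩
      · have : sh = 1 := by rw [hsh, if_pos hx]
        omega
      · show lin F ^ sh * _ = _
        rw [← mul_assoc, ← pow_add]
        congr 2
        omega
    · rintro ⟨f, hf, hfx, rfl⟩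
      have hle : e * ∑ B ∈ S, f B ≤ n' := by
        by_cases hx : excl
        · have hne : e * ∑ B ∈ S, f B ≠ n := fun h => hfx h hx
          simp only [hn', if_pos hx]; omega
        · simp only [hn', if_neg hx]; omega
      refine ⟨_, ⟨f, hle, rfl⟩, ?_⟩
      show lin F ^ sh * _ = _
      rw [← mul_assoc, ← pow_add]
      congr 2
      omega
  have hconj : ∀ g h : ↥(Cfsg.isometryGroup F ⇑q), g ^ r = 1 → h ^ r = 1 →
      (φ g : Matrix ι ι F).charpoly = (φ h : Matrix ι ι F).charpoly → IsConj g h := by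
    intro g h hg hh hc
    have hpow : ∀ x : ↥(Cfsg.isometryGroup F ⇑q), x ^ r = 1 → (φ x : Matrix ι ι F) ^ r = 1 :=
      fun x hx => by rw [← Units.val_pow_eq_pow_val, ← map_pow, hx, map_one, Units.val_one]
    obtain ⟨P, hP⟩ := SemisimpleConjGL.exists_gl_conj
      (SemisimpleConjGL.isSemisimple_of_pow_eq_one hrF (hpow g hg))
      (SemisimpleConjGL.isSemisimple_of_pow_eq_one hrF (hpow h hh)) hc
    have hAN : (Matrix.toLin' (φ g : Matrix ι ι F)) ^ r = 1 := by
      rw [← Matrix.toLin'_pow, hpow g hg, Matrix.toLin'_one]; rfl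
    let P' : (ι → F) ≃ₗ[F] (ι → F) := Matrix.toLin'OfInv P.inv_mul P.mul_inv
    have hP' : ∀ v, P' (Matrix.toLin' (φ g : Matrix ι ι F) v) =
        Matrix.toLin' (φ h : Matrix ι ι F) (P' v) := by
      intro v
      show (P : Matrix ι ι F).mulVec ((φ g : Matrix ι ι F).mulVec v) =
        (φ h : Matrix ι ι F).mulVec ((P : Matrix ι ι F).mulVec v)
      rw [Matrix.mulVec_mulVec, Matrix.mulVec_mulVec, hP]
    obtain ⟨R, hR, hRB⟩ := OrthSemisimpleForms.exists_orth_conj q hnd (hr.odd_of_ne_two hr2) hAN hrF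
      (matHom_apply g) (matHom_apply h) P' hP'
    let m := LinearMap.toMatrix' (R : (ι → F) →ₗ[F] (ι → F))
    let m' := LinearMap.toMatrix' (R.symm : (ι → F) →ₗ[F] (ι → F))
    have hmv : ∀ v, m.mulVec v = R v := fun v => by rw [← Matrix.toLin'_apply]; simp [m]
    let u : GL ι F := ⟨m, m', by rw [← LinearMap.toMatrix'_comp]; simp, by
      rw [← LinearMap.toMatrix'_comp]; simp⟩
    have hu : u ∈ Cfsg.isometryGroup F ⇑q := fun x _ => by
      show q (m.mulVec x) = q x
      rw [hmv, hR]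
    refine (isConj_iff.2 ⟨⟨u, hu⟩, ?_⟩).symm
    rw [mul_inv_eq_iff_eq_mul]
    refine Subtype.ext (Units.ext (Matrix.toLin'.injective (LinearMap.ext fun v => ?_)))
    show Matrix.toLin' (m * (φ h : Matrix ι ι F)) v = Matrix.toLin' ((φ g : Matrix ι ι F) * m) v
    rw [Matrix.toLin'_mul, Matrix.toLin'_mul, LinearMap.comp_apply, LinearMap.comp_apply,
      Matrix.toLin'_apply m, Matrix.toLin'_apply m, hmv, hmv]
    exact hRB v
  have hin : ∀ g : ↥(Cfsg.isometryGroup F ⇑q), g ^ r = 1 → (φ g : Matrix ι ι F).charpoly ∈ T := by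
    intro g hg
    have hpow : (φ g : Matrix ι ι F) ^ r = 1 := by
      rw [← Units.val_pow_eq_pow_val, ← map_pow, hg, map_one, Units.val_one]
    obtain ⟨f, hf, hP⟩ := charpoly_mem_prods hS q hnd (φ g).isUnit (matHom_apply g) hpow
    rw [hn] at hf hP
    refine (hTmem _).2 ⟨f, hf, fun hfull => hnec _ (matHom_apply g) hpow ?_, hP⟩
    rw [hP, hfull, Nat.sub_self, pow_zero, one_mul]
    exact hone f
  have hsurj : ∀ P ∈ T, ∃ g : ↥(Cfsg.isometryGroup F ⇑q), (φ g : Matrix ι ι F).charpoly = P := by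
    intro P hP
    obtain ⟨f, hf, hfx, rfl⟩ := (hTmem P).1 hP
    set P₀ := ∏ B ∈ S, B ^ f B with hP₀
    have hm₀ : P₀.Monic := monic_prod_of_monic _ _ fun B hB => (hS.monic B hB).pow _
    have hd : P₀.natDegree = e * ∑ B ∈ S, f B := by
      rw [hP₀, natDegree_prod_of_monic _ _ fun B hB => (hS.monic B hB).pow _,
        Finset.sum_congr rfl fun B hB =>
          show (B ^ f B).natDegree = e * f B by rw [natDegree_pow, hS.deg B hB, mul_comm],
        ← Finset.mul_sum]
    have hpowm : ∀ (a : F[X]) (k : ℕ), a.mirror = a → (a ^ k).mirror = a ^ k := by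
      intro a k ha
      induction k with
      | zero => rw [pow_zero, ← C_1, mirror_C]
      | succ k ih => rw [pow_succ, mirror_mul_of_domain, ih, ha]
    have hmir : P₀.mirror = P₀ := Finset.prod_induction _ (fun a : F[X] => a.mirror = a)
      (fun a b ha hb => by rw [mirror_mul_of_domain, ha, hb]) (by rw [← C_1, mirror_C])
      fun B hB => hpowm B _ (hS.mir B hB)
    have hdvd : P₀ ∣ (X ^ r - 1) ^ n := by
      have h1 : P₀ ∣ (X ^ r - 1) ^ (∑ B ∈ S, 2 * f B) := by
        rw [← Finset.prod_pow_eq_pow_sum]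
        refine Finset.prod_dvd_prod_of_dvd _ _ fun B hB => ?_
        rw [pow_mul]
        exact pow_dvd_pow_of_dvd (hS.dvd B hB) _
      refine h1.trans (pow_dvd_pow _ ?_)
      rw [← Finset.mul_sum]
      have he2 : 2 ≤ e := by obtain ⟨k, hk⟩ := hS.e_even; have := hS.e_pos; omega
      exact (Nat.mul_le_mul_right _ he2).trans hf
    have hX0 : ((X : F[X]) ^ r - 1).eval 0 ≠ 0 := by simp [hr.ne_zero]
    have hroot : ∀ x : F, x ^ r ≠ 1 → P₀.eval x ≠ 0 := by
      intro x hx h0
      obtain ⟨Z, hZ⟩ := hdvd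
      have h1 := congrArg (eval x) hZ
      rw [eval_mul, h0, zero_mul, eval_pow, eval_sub, eval_pow, eval_X, eval_one] at h1
      exact hx (sub_eq_zero.1 (pow_eq_zero_iff'.1 h1).1)
    have hrefl : reflect P₀.natDegree P₀ = P₀ := by
      have htr : P₀.natTrailingDegree = 0 := natTrailingDegree_eq_zero.2 (Or.inr (by
        rw [coeff_zero_eq_eval_zero]
        exact hroot 0 (by rw [zero_pow hr.ne_zero]; exact zero_ne_one)))
      have h1 := hmir
      rw [Polynomial.mirror, htr, pow_zero, mul_one] at h1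
      exact h1
    have hn1 : P₀.eval (-1) ≠ 0 := by
      by_cases h2 : (-1 : F) = 1
      · rw [h2]; exact hone f
      · exact hroot _ (by rw [(hr.odd_of_ne_two hr2).neg_one_pow]; exact h2)
    obtain ⟨g, hg⟩ := hsuf (n - e * ∑ B ∈ S, f B) P₀ hm₀ (by rw [hd]; omega)
      (by rw [hd]; exact hS.e_even.mul_right _) (by rw [hd]; exact dvd_mul_right _ _) hrefl (hone f)
      hn1 hdvd (fun h0 => hfx (by omega))
    exact ⟨g, hg⟩
  have hTdvd : ∀ P ∈ T, ∃ N, P ∣ (X ^ r - 1) ^ N := by
    intro P hP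
    obtain ⟨f, hf, -, rfl⟩ := (hTmem P).1 hP
    refine ⟨(n - e * ∑ B ∈ S, f B) + ∑ B ∈ S, 2 * f B, ?_⟩
    rw [pow_add, ← Finset.prod_pow_eq_pow_sum]
    refine mul_dvd_mul (pow_dvd_pow_of_dvd (PrimeOrderClassCount.lin_dvd_X_pow_sub_one r) _)
      (Finset.prod_dvd_prod_of_dvd _ _ fun B hB => ?_)
    rw [pow_mul]
    exact pow_dvd_pow_of_dvd (hS.dvd B hB) _
  -- classes
  let A : Set (ConjClasses ↥(Cfsg.isometryGroup F ⇑q)) := {c | ∃ g, ConjClasses.mk g = c ∧ g ^ r = 1}
  let Bset : Set (ConjClasses ↥(Cfsg.isometryGroup F ⇑q)) :=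
    {c | ∃ g, ConjClasses.mk g = c ∧ orderOf g = r}
  have hAB : A = insert (ConjClasses.mk 1) Bset := by
    ext c
    constructor
    · rintro ⟨g, rfl, hg⟩
      rcases (Nat.dvd_prime hr).1 (orderOf_dvd_of_pow_eq_one hg) with h | h
      · exact Or.inl (by rw [orderOf_eq_one_iff.1 h])
      · exact Or.inr ⟨g, rfl, h⟩
    · rintro (rfl | ⟨g, rfl, h⟩)
      · exact ⟨1, rfl, one_pow r⟩
      · exact ⟨g, rfl, by rw [← h, pow_orderOf_eq_one]⟩
  have hnot : ConjClasses.mk (1 : ↥(Cfsg.isometryGroup F ⇑q)) ∉ Bset := by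
    rintro ⟨g, hg, ho⟩
    rw [ConjClasses.mk_eq_mk_iff_isConj, isConj_one_left] at hg
    rw [hg, orderOf_one] at ho
    exact hr.one_lt.ne ho
  have hφinj : Function.Injective φ := Subtype.val_injective
  have hA : A.ncard = T.ncard := by
    refine Set.ncard_congr (fun c hc => (φ hc.choose : Matrix ι ι F).charpoly)
      (fun c hc => hin _ hc.choose_spec.2) (fun c d hc hd h => ?_) (fun P hP => ?_)
    · rw [← hc.choose_spec.1, ← hd.choose_spec.1, ConjClasses.mk_eq_mk_iff_isConj]
      exact hconj _ _ hc.choose_spec.2 hd.choose_spec.2 h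
    · obtain ⟨g, hg⟩ := hsurj P hP
      obtain ⟨a, k, hco, hpow⟩ := SemisimpleConjGL.exists_regular_part p g
      have hc1 : (φ (g ^ a) : Matrix ι ι F).charpoly = P := by
        rw [← hg]
        refine SemisimpleConjGL.charpoly_eq_of_pow_eq (p := p) (k := k) ?_
        rw [← Units.val_pow_eq_pow_val, ← Units.val_pow_eq_pow_val, ← map_pow, ← map_pow, hpow]
      have hr1 : (g ^ a) ^ r = 1 := by
        rcases isEmpty_or_nonempty ι with hι | hι
        · exact hφinj (Units.ext (Subsingleton.elim _ _))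
        obtain ⟨N, Z, hZ⟩ := hTdvd P hP
        have h0 : ((φ (g ^ a) : Matrix ι ι F) ^ r - 1) ^ N = 0 := by
          have := Matrix.aeval_self_charpoly (φ (g ^ a) : Matrix ι ι F)
          rw [hc1] at this
          have h2 := congrArg (aeval (φ (g ^ a) : Matrix ι ι F)) hZ
          rw [map_mul, this, zero_mul] at h2
          simpa using h2
        obtain ⟨l, hl⟩ : ∃ l, N ≤ p ^ l := ⟨N, (Nat.lt_pow_self hp.one_lt).le⟩
        have h1 := pow_eq_zero_of_le hl h0
        rw [sub_pow_char_pow_of_commute (p := p) _ (Commute.one_right _), one_pow, sub_eq_zero,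
          ← pow_mul, ← Units.val_pow_eq_pow_val, ← map_pow] at h1
        have h2 : (g ^ a) ^ (r * p ^ l) = 1 :=
          hφinj (Units.ext (by rw [map_one, Units.val_one]; exact h1))
        exact orderOf_dvd_iff_pow_eq_one.1
          ((Nat.Coprime.pow_right l hco).dvd_of_dvd_mul_right (orderOf_dvd_of_pow_eq_one h2))
      have hmem : ConjClasses.mk (g ^ a) ∈ A := ⟨g ^ a, rfl, hr1⟩
      refine ⟨_, hmem, ?_⟩
      rw [← hc1]
      exact SemisimpleConjGL.charpoly_eq_of_isConj_val φ
        (ConjClasses.mk_eq_mk_iff_isConj.1 hmem.choose_spec.1)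
  show Nat.card Bset = _
  rw [Nat.card_coe_set_eq, ← hTcard, ← hA, hAB, Set.ncard_insert_of_notMem hnot (Set.toFinite _),
    Nat.add_sub_cancel]

/-- The blocks, in bundled form. -/
theorem exists_blocks73 [Fintype F] {p q i t : ℕ} [Fact p.Prime] [CharP F p]
    (hF : Fintype.card F = q) (hr : r.Prime) (hr2 : r ≠ 2) (hrp : r ≠ p)
    (hi : i = orderOf (q : ZMod r)) (ht : t * i = r - 1) :
    0 < i ∧ ∃ (S : Finset F[X]) (ρ : F[X] → F[X]),
      Blocks r (if Odd i then 2 * i else i) S ρ ∧ S.card = if Odd i then t / 2 else t := by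
  obtain ⟨hi0, S, ρ, hcard, hS, hρ, hcover⟩ :=
    SelfReciprocalFactors.exists_blocks (p := p) hF hr hr2 hrp hi ht
  refine ⟨hi0, S, ρ, ⟨by split_ifs <;> omega, ?_, fun B hB => (hS B hB).1, fun B hB => (hS B hB).2.1,
    fun B hB => (hS B hB).2.2.1, fun B hB => (hS B hB).2.2.2.1, fun B hB => (hS B hB).2.2.2.2, hρ,
    hcover⟩, hcard⟩
  split_ifs with h
  · exact even_two_mul i
  · exact Nat.not_odd_iff_even.1 h

omit [DecidableEq F] in
/-- Powers of `q` at multiples of the block length are `± 1` modulo `r`. -/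
theorem pow_half {q i : ℕ} [Fact r.Prime] (hi : i = orderOf (q : ZMod r)) (hi0 : 0 < i) (k : ℕ) :
    (Odd i → (q : ZMod r) ^ (i * k) = 1) ∧
      (∀ j, i = 2 * j → (q : ZMod r) ^ (j * k) = (-1) ^ k) := by
  refine ⟨fun _ => by rw [pow_mul, hi, pow_orderOf_eq_one, one_pow], fun j hj => ?_⟩
  have hneg : (q : ZMod r) ^ j = -1 := by
    have h2 : (q : ZMod r) ^ j * (q : ZMod r) ^ j = 1 := by
      rw [← pow_add, ← two_mul, ← hj, hi, pow_orderOf_eq_one]
    rcases mul_self_eq_one_iff.1 h2 with h1 | h1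
    · have := orderOf_dvd_of_pow_eq_one h1
      rw [← hi] at this
      have := Nat.le_of_dvd (by omega) this
      omega
    · exact h1
  rw [pow_mul, hneg]

omit [DecidableEq F] in
/-- Odd dimension: every product of blocks occurs. -/
theorem realise_odd [Fintype F] (h2 : (2 : F) ≠ 0) {m a : ℕ} {P₀ : F[X]} (hm₀ : P₀.Monic)
    (hdeg : a + P₀.natDegree = 2 * m + 1) (hev : Even P₀.natDegree)
    (hrefl : reflect P₀.natDegree P₀ = P₀) (h1 : P₀.eval 1 ≠ 0) (hn1 : P₀.eval (-1) ≠ 0) :
    ∃ g : ↥(Cfsg.isometryGroup F ⇑(QuadClassify.qOdd m F)),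
      (matHom _ g : Matrix (Unit ⊕ (Fin m ⊕ Fin m)) (Unit ⊕ (Fin m ⊕ Fin m)) F).charpoly =
        lin F ^ a * P₀ := by
  obtain ⟨j, hj⟩ := hev
  obtain ⟨b, hb⟩ : ∃ b, a = 2 * b + 1 := ⟨a / 2, by omega⟩
  obtain ⟨Q₀, hQ₀, g, hg, hgc⟩ :=
    OrthPalindromeReal73.exists_isometry j P₀ hm₀ (by omega) (by rwa [two_mul, ← hj]) h1 hn1
  have hdimR : finrank F (Unit ⊕ (Fin b ⊕ Fin b) → F) = a := by
    rw [Module.finrank_fintype_fun_eq_card]; simp; omega
  have hnd := nd_prod hQ₀ (OmegaMaxGlue.nondeg_odd (F := F) (m := b) h2)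
  obtain ⟨c, T, hc, hT⟩ := iso_odd (m := m) (Q₀.prod (QuadClassify.qOdd b F)) hnd (by
    rw [Module.finrank_prod, hdimR, Module.finrank_fintype_fun_eq_card, Fintype.card_fin]; omega)
  set G : Module.End F ((Fin (2 * j) → F) × (Unit ⊕ (Fin b ⊕ Fin b) → F)) :=
    LinearMap.prodMap g LinearMap.id
  have hGc : G.charpoly = lin F ^ a * P₀ := by
    rw [LinearMap.charpoly_prodMap, hgc, ← Module.End.one_eq_id, LinearMap.charpoly_one, hdimR, lin,
      map_one]
    ring
  obtain ⟨x, hx⟩ := exists_group_elem (q := QuadClassify.qOdd m F) (Q := Q₀.prod (QuadClassify.qOdd b F)) G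
    (fun v => by simp [G, hg]) (by
      rw [hGc, coeff_zero_eq_eval_zero, eval_mul, eval_pow, ← coeff_zero_eq_eval_zero P₀,
        show P₀.coeff 0 = 1 by
          rw [← hrefl, coeff_reflect, revAt_le (Nat.zero_le _), Nat.sub_zero]
          exact hm₀.coeff_natDegree]
      simp [lin]) hc T (fun v => by rw [QuadClassify.qOdd_apply]; exact hT v)
  exact ⟨x, hx.trans hGc⟩

omit [DecidableEq F] in
/-- Even dimension: a product occurs in the type compatible with it. -/
theorem realise_even [Fintype F] (hr : r.Prime) (hr2 : r ≠ 2) (q : QuadraticForm F (ι → F)) {m : ℕ}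
    {ε : ℤ} (hε : ε = 1 ∨ ε = -1)
    (hiso : ∀ (V : Type u) [AddCommGroup V] [Module F V] [FiniteDimensional F V]
      (Q : QuadraticForm F V), (QuadraticMap.polarBilin Q).Nondegenerate → finrank F V = 2 * m →
      (∃ N, Prof ⇑Q N (ε * (Fintype.card F : ℤ) ^ m)) → ∃ T : V ≃ₗ[F] (ι → F), ∀ v, q (T v) = Q v)
    {a : ℕ} {P₀ : F[X]} (hm₀ : P₀.Monic) (hdeg : a + P₀.natDegree = 2 * m)
    (hev : Even P₀.natDegree) (hrefl : reflect P₀.natDegree P₀ = P₀) (h1 : P₀.eval 1 ≠ 0)
    (hn1 : P₀.eval (-1) ≠ 0) (hdvd : P₀ ∣ (X ^ r - 1) ^ (2 * m)) {p : ℕ} [Fact p.Prime] [CharP F p]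
    (hrp : r ≠ p) (hfull : a = 0 → (r : ℤ) ∣ ε * (Fintype.card F : ℤ) ^ m - 1) :
    ∃ g : ↥(Cfsg.isometryGroup F ⇑q),
      (matHom _ g : Matrix ι ι F).charpoly = lin F ^ a * P₀ := by
  classical
  obtain ⟨j, hj⟩ := hev
  obtain ⟨b, hb⟩ : ∃ b, a = 2 * b := ⟨a / 2, by omega⟩
  obtain ⟨Q₀, hQ₀, g, hg, hgc⟩ :=
    OrthPalindromeReal73.exists_isometry j P₀ hm₀ (by omega) (by rwa [two_mul, ← hj]) h1 hn1
  have hd₀ : finrank F (Fin (2 * j) → F) = 2 * j := by simp
  obtain ⟨N₀, hN₀⟩ := exists_prof Q₀ hQ₀ hd₀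
  have hcoeff : P₀.coeff 0 = 1 := by
    rw [← hrefl, coeff_reflect, revAt_le (Nat.zero_le _), Nat.sub_zero]
    exact hm₀.coeff_natDegree
  obtain ⟨δ, hδ, hN⟩ : ∃ δ : ℤ, (δ = 1 ∨ δ = -1) ∧
      Prof ⇑Q₀ N₀ (δ * (Fintype.card F : ℤ) ^ j) := by
    rcases hN₀ with h | h
    · exact ⟨1, Or.inl rfl, by rwa [one_mul]⟩
    · exact ⟨-1, Or.inr rfl, by rwa [neg_one_mul]⟩
  -- a complement of the right type
  obtain ⟨ρt, hρt, R, hR, hRd, hRp⟩ : ∃ (ρt : Type) (_ : Fintype ρt) (R : QuadraticForm F (ρt → F)),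
      (QuadraticMap.polarBilin R).Nondegenerate ∧ Fintype.card ρt = a ∧
      ∃ M, Prof ⇑R M (ε * δ * (Fintype.card F : ℤ) ^ b) := by
    rcases (show ε * δ = 1 ∨ ε * δ = -1 by rcases hε with rfl | rfl <;> rcases hδ with rfl | rfl <;>
      norm_num) with h | h
    · obtain ⟨M, hM⟩ := prof_qPlus (F := F) b
      refine ⟨Fin b ⊕ Fin b, inferInstance, QuadClassify.qPlus b F, OmegaStd.nondeg_plus,
        by simp; omega, M, ?_⟩
      rw [h, one_mul, QuadClassify.qPlus_coe]
      exact hM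
    · obtain rfl | ⟨b', rfl⟩ : b = 0 ∨ ∃ b', b = b' + 1 := by
        rcases b with _ | b'
        · exact Or.inl rfl
        · exact Or.inr ⟨b', rfl⟩
      · exfalso
        have hjm : j = m := by omega
        subst hjm
        -- the type of a space with an isometry of order prime to fixed points
        obtain ⟨k, hk⟩ : ∃ k, g ^ (r * p ^ k) = 1 := by
          obtain ⟨Z, hZ⟩ := hdvd
          have h0 : (g ^ r - 1) ^ (2 * j) = 0 := by
            have h' := congrArg (aeval g) hZ
            rw [map_mul, ← hgc, LinearMap.aeval_self_charpoly, zero_mul] at h'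
            simpa using h'
          obtain ⟨l, hl⟩ : ∃ l, 2 * j ≤ p ^ l :=
            ⟨2 * j, (Nat.lt_pow_self (Fact.out : p.Prime).one_lt).le⟩
          refine ⟨l, ?_⟩
          rcases Nat.eq_zero_or_pos j with rfl | hj0
          · exact LinearMap.ext fun v => funext fun i => absurd i.2 (by omega)
          haveI : Nonempty (Fin (2 * j)) := ⟨⟨0, by omega⟩⟩
          have h1' := pow_eq_zero_of_le hl h0
          haveI : CharP (Module.End F (Fin (2 * j) → F)) p :=
            charP_of_injective_algebraMap (algebraMap F _).injective p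
          rw [sub_pow_char_pow_of_commute (p := p) _ (Commute.one_right _), one_pow, sub_eq_zero,
            ← pow_mul] at h1'
          exact h1'
        haveI : Finite F := Finite.of_fintype F
        have hfix : ∀ v, g v = v → v = 0 := by
          intro v hv
          by_contra hv0
          have hev' : g.HasEigenvalue 1 := Module.End.hasEigenvalue_of_hasEigenvector
            ⟨Module.End.mem_eigenspace_iff.2 (by rw [hv, one_smul]), hv0⟩
          rw [Module.End.hasEigenvalue_iff_isRoot_charpoly, hgc] at hev'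
          exact h1 hev'
        set A := g ^ (p ^ k) with hA
        have hAQ : ∀ (n : ℕ) v, Q₀ ((g ^ n) v) = Q₀ v := by
          intro n
          induction n with
          | zero => intro v; rfl
          | succ n ih => intro v; rw [pow_succ', Module.End.mul_apply, hg, ih]
        have hfixA : ∀ v, A v = v → v = 0 := by
          intro v hv
          rcases Nat.eq_zero_or_pos j with rfl | hj0
          · exact funext fun i => absurd i.2 (by omega)
          haveI : Nonempty (Fin (2 * j)) := ⟨⟨0, by omega⟩⟩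
          haveI : CharP (Module.End F (Fin (2 * j) → F)) p :=
            charP_of_injective_algebraMap (algebraMap F _).injective p
          have h0 : ((g - 1) ^ (p ^ k)) v = 0 := by
            rw [sub_pow_char_pow_of_commute (p := p) _ (Commute.one_right _), one_pow, ← hA,
              LinearMap.sub_apply, Module.End.one_apply, hv, sub_self]
          have hzero : ∀ (n : ℕ) (w : Fin (2 * j) → F), ((g - 1) ^ n) w = 0 → w = 0 := by
            intro n
            induction n with
            | zero => intro w hw; simpa using hw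
            | succ n ih =>
              intro w hw
              rw [pow_succ, Module.End.mul_apply] at hw
              have h' := ih _ hw
              rw [LinearMap.sub_apply, Module.End.one_apply, sub_eq_zero] at h'
              exact hfix w h'
          exact hzero _ v h0
        have hδr := dvd_of_free hr ⇑Q₀ hN (QuadraticMap.map_zero _) A (fun v => hAQ _ v)
          (by rw [hA, ← pow_mul, mul_comm (p ^ k) r, hk]) hfixA
        have hεr := hfull (by omega)
        have : δ = -ε := by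
          rcases hε with rfl | rfl <;> rcases hδ with rfl | rfl <;> simp_all
        rw [this] at hδr
        have h3 : (r : ℤ) ∣ 2 := by
          have := dvd_add hεr hδr
          rw [show ε * (Fintype.card F : ℤ) ^ j - 1 + (-ε * (Fintype.card F : ℤ) ^ j - 1) = -2 by ring,
            dvd_neg] at this
          exact this
        have h4 := Nat.le_of_dvd two_pos (Int.natCast_dvd_natCast.1 (by exact_mod_cast h3))
        have := hr.two_le
        omega
      · obtain ⟨c₁, c₂, hc⟩ := exists_aniso (F := F)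
        obtain ⟨M, hM⟩ := prof_qMinus b' hc
        refine ⟨(Fin b' ⊕ Fin b') ⊕ Fin 2, inferInstance, QuadClassify.qMinus b' F c₁ c₂,
          nd_minus b' hc, by simp; omega, M, ?_⟩
        rw [h, neg_one_mul, QuadClassify.qMinus_coe]
        exact hM
  obtain ⟨M, hM⟩ := hRp
  have hdimR : finrank F (ρt → F) = a := by rw [Module.finrank_fintype_fun_eq_card, hRd]
  haveI : Finite F := Finite.of_fintype F
  have hprof := hN.prod hM
  rw [show δ * (Fintype.card F : ℤ) ^ j * (ε * δ * (Fintype.card F : ℤ) ^ b)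
      = ε * (Fintype.card F : ℤ) ^ (j + b) by
    rw [pow_add]; rcases hδ with rfl | rfl <;> ring, show j + b = m by omega] at hprof
  obtain ⟨T, hT⟩ := hiso ((Fin (2 * j) → F) × (ρt → F)) (Q₀.prod R) (nd_prod hQ₀ hR)
    (by rw [Module.finrank_prod, hdimR, hd₀]; omega) ⟨_, hprof⟩
  set G : Module.End F ((Fin (2 * j) → F) × (ρt → F)) := LinearMap.prodMap g LinearMap.id
  have hGc : G.charpoly = lin F ^ a * P₀ := by
    rw [LinearMap.charpoly_prodMap, hgc, ← Module.End.one_eq_id, LinearMap.charpoly_one, hdimR, lin,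
      map_one]
    ring
  obtain ⟨x, hx⟩ := exists_group_elem (q := q) (Q := Q₀.prod R) G (fun v => by simp [G, hg]) (by
      rw [hGc, coeff_zero_eq_eval_zero, eval_mul, eval_pow, ← coeff_zero_eq_eval_zero P₀, hcoeff]
      simp [lin]) one_ne_zero T (fun v => by rw [one_mul]; exact hT v)
  exact ⟨x, hx.trans hGc⟩

/-! ### Arithmetic for the two types -/

omit [DecidableEq F] in
/-- The sign needed by a space filled by blocks is forced. -/
theorem sign_of_dvd {q i m : ℕ} [Fact r.Prime] (hi : i = orderOf (q : ZMod r)) (hi0 : 0 < i) :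
    (Odd i → i ∣ m → (r : ℤ) ∣ (q : ℤ) ^ m - 1) ∧
      (¬ Odd i → i ∣ 2 * m → (Even (2 * m / i) → (r : ℤ) ∣ (q : ℤ) ^ m - 1) ∧
        (Odd (2 * m / i) → (r : ℤ) ∣ (q : ℤ) ^ m + 1)) := by
  refine ⟨fun ho ⟨k, hk⟩ => ?_, fun hne hd => ?_⟩
  · rw [← ZMod.intCast_zmod_eq_zero_iff_dvd]
    push_cast
    rw [hk, (pow_half hi hi0 k).1 ho, sub_self]
  · obtain ⟨j, hj⟩ := Nat.not_odd_iff_even.1 hne
    obtain ⟨k, hk⟩ := hd
    rw [hk, Nat.mul_div_cancel_left _ hi0]
    have hm : m = j * k := by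
      refine Nat.eq_of_mul_eq_mul_left two_pos (hk.trans ?_)
      rw [hj]; ring
    have h := (pow_half hi hi0 k).2 j (by omega)
    rw [← hm] at h
    refine ⟨fun he => ?_, fun ho => ?_⟩ <;> rw [← ZMod.intCast_zmod_eq_zero_iff_dvd] <;> push_cast <;>
      rw [h]
    · rw [he.neg_one_pow, sub_self]
    · rw [ho.neg_one_pow, neg_add_cancel]

omit [DecidableEq F] in
/-- Not both signs. -/
theorem not_both (hr : r.Prime) (hr2 : r ≠ 2) {x : ℤ} (h1 : (r : ℤ) ∣ x - 1)
    (h2 : (r : ℤ) ∣ x + 1) : False := by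
  have h := dvd_sub h2 h1
  rw [show x + 1 - (x - 1) = ((2 : ℕ) : ℤ) by push_cast; ring, Int.natCast_dvd_natCast] at h
  exact hr2 ((Nat.prime_dvd_prime_iff_eq hr Nat.prime_two).1 h)

omit [DecidableEq F] in
/-- Removing the products of full degree. -/
theorem choose_excl {n K s : ℕ} (he : 0 < e) (hn : n = e * K) (hK : 0 < n) (hs : 0 < s) :
    Nat.choose ((n - 1) / e + s) s - 1 =
      Nat.choose (K + s) s - 1 - Nat.choose (K + s - 1) (s - 1) := by
  obtain ⟨K', rfl⟩ : ∃ K', K = K' + 1 := ⟨K - 1, by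
    rcases K with _ | K
    · simp [hn] at hK
    · rfl⟩
  obtain ⟨s', rfl⟩ : ∃ s', s = s' + 1 := ⟨s - 1, by omega⟩
  have hq : (n - 1) / e = K' := by
    rw [Nat.div_eq_iff he]
    rw [hn, mul_add, mul_one, mul_comm K']
    omega
  rw [hq, show K' + 1 + (s' + 1) = (K' + (s' + 1)) + 1 by omega, Nat.choose_succ_succ',
    Nat.add_sub_cancel, Nat.add_sub_cancel]
  omega

end Cfsg.Agent.OrthPrimeOrderClasses73
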