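import Mathlib
import Cfsg.Agent.Lib.OrthBlocks61
import Cfsg.Agent.Lib.OrthPrimeOrderClasses73
import Cfsg.Agent.Lib.OmegaClasses
import Cfsg.Agent.Lib.Witt

/-!
Isometry classes of nondegenerate subspaces of a quadratic space over a finite field: at most two in
each dimension, both occurring properly inside a larger subspace, and cancellation.
-/

set_option autoImplicit false
set_option linter.unusedSectionVars false

namespace Cfsg.Agent.OrthIsoClasses61

open Module
open QuadraticMap (polar polarBilin)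
open Cfsg.Agent.QuadClassify (Nondeg)
open Cfsg.Agent.OrthBlocks61
open Cfsg.Agent.OrthTypeCount73 (Prof)

variable {F V : Type*} [Field F] [AddCommGroup V] [Module F V] [FiniteDimensional F V]
variable {Q : QuadraticForm F V}

/-- The restriction of the form. -/
abbrev res (Q : QuadraticForm F V) (W : Submodule F V) : QuadraticForm F W := Q.comp W.subtype

theorem res_polar (W : Submodule F V) (a b : W) : polar (res Q W) a b = polar Q (a : V) b := rfl

theorem res_nd {W : Submodule F V} (hW : Nondeg Q W) : (polarBilin (res Q W)).Nondegenerate := by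
  have key : ∀ x : W, (∀ y : W, polar (res Q W) x y = 0) → x = 0 := fun x hx =>
    Subtype.ext (hW x.1 x.2 fun v hv => hx ⟨v, hv⟩)
  exact ⟨fun x hx => key x hx, fun x hx => key x fun y => by rw [QuadraticMap.polar_comm]; exact hx y⟩

/-- Some linear isomorphism preserves the form. -/
def Congr (Q : QuadraticForm F V) (W W' : Submodule F V) : Prop :=
  ∃ e : W ≃ₗ[F] W', ∀ w : W, Q ((e w : W') : V) = Q (w : V)

theorem Congr.refl (W : Submodule F V) : Congr Q W W := ⟨LinearEquiv.refl F W, fun _ => rfl⟩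

theorem Congr.symm {W W' : Submodule F V} (h : Congr Q W W') : Congr Q W' W := by
  obtain ⟨e, he⟩ := h
  exact ⟨e.symm, fun w => by conv_rhs => rw [← e.apply_symm_apply w, he]⟩

theorem Congr.trans {A B C : Submodule F V} (h : Congr Q A B) (h' : Congr Q B C) : Congr Q A C := by
  obtain ⟨e, he⟩ := h
  obtain ⟨f, hf⟩ := h'
  exact ⟨e.trans f, fun w => by rw [LinearEquiv.trans_apply, hf, he]⟩

theorem Congr.finrank_eq {W W' : Submodule F V} (h : Congr Q W W') : finrank F W = finrank F W' := by
  obtain ⟨e, -⟩ := h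
  exact e.finrank_eq

theorem Congr.nd {W W' : Submodule F V} (h : Congr Q W W') (hW : Nondeg Q W) : Nondeg Q W' := by
  obtain ⟨e, he⟩ := h
  intro u hu hz
  have key : ∀ a b : W, polar Q ((e a : W') : V) (e b : W') = polar Q (a : V) b := fun a b => by
    simp only [polar, ← Submodule.coe_add, ← map_add, he]
  have h0 : ((e.symm ⟨u, hu⟩ : W) : V) = 0 := hW _ (e.symm ⟨u, hu⟩).2 fun v hv => by
    have := key (e.symm ⟨u, hu⟩) ⟨v, hv⟩
    rw [e.apply_symm_apply] at this
    rw [← this]
    exact hz _ (e ⟨v, hv⟩).2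
  have : e.symm ⟨u, hu⟩ = 0 := Subtype.ext h0
  have := congrArg Subtype.val (e.symm.map_eq_zero_iff.1 this)
  exact this

theorem Congr.of_equiv {W W' : Submodule F V} {E : Type*} [AddCommGroup E] [Module F E] {q : E → F}
    (g : W ≃ₗ[F] E) (hg : ∀ w : W, q (g w) = Q (w : V)) (g' : W' ≃ₗ[F] E)
    (hg' : ∀ w : W', q (g' w) = Q (w : V)) : Congr Q W W' :=
  ⟨g.trans g'.symm, fun w => by rw [← hg', LinearEquiv.trans_apply, g'.apply_symm_apply, hg]⟩

theorem Congr.map (e : V ≃ₗ[F] V) (he : ∀ v, Q (e v) = Q v) (W : Submodule F V) :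
    Congr Q W (W.map (e : V →ₗ[F] V)) :=
  ⟨e.submoduleMap W, fun w => he w⟩

theorem Congr.sup {A A' B B' : Submodule F V} (hA : Nondeg Q A) (hB : B ≤ perp Q A)
    (hA' : Nondeg Q A') (hB' : B' ≤ perp Q A') (h : Congr Q A A') (h' : Congr Q B B') :
    Congr Q (A ⊔ B) (A' ⊔ B') := by
  have key : ∀ {A B : Submodule F V}, Nondeg Q A → B ≤ perp Q A →
      ∃ e : (A × B) ≃ₗ[F] ↥(A ⊔ B), ∀ p, Q (e p : V) = Q (p.1 : V) + Q (p.2 : V) := by
    intro A B hA hB
    let f : (A × B) →ₗ[F] ↥(A ⊔ B) :=
      (Submodule.inclusion le_sup_left).coprod (Submodule.inclusion le_sup_right)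
    have hf : Function.Bijective f := by
      refine ⟨?_, fun x => ?_⟩
      · rw [injective_iff_map_eq_zero]
        rintro ⟨a, b⟩ h
        have h0 : (a : V) + b = 0 := congrArg Subtype.val h
        have ha : (a : V) = 0 := (Submodule.eq_bot_iff _).1 (inf_perp_eq_bot hA) _
          ⟨a.2, by rw [eq_neg_of_add_eq_zero_left h0]; exact neg_mem (hB b.2)⟩
        have hb : (b : V) = 0 := by rwa [ha, zero_add] at h0
        exact Prod.ext (Subtype.ext ha) (Subtype.ext hb)
      · obtain ⟨a, ha, b, hb, e⟩ := Submodule.mem_sup.1 x.2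
        exact ⟨(⟨a, ha⟩, ⟨b, hb⟩), Subtype.ext e⟩
    refine ⟨LinearEquiv.ofBijective f hf, fun p => ?_⟩
    show Q ((p.1 : V) + p.2) = _
    exact map_add_of_perp ((QuadraticMap.polar_comm Q _ _).trans (hB p.2.2 _ p.1.2))
  obtain ⟨e, he⟩ := key hA hB
  obtain ⟨e', he'⟩ := key hA' hB'
  obtain ⟨a, ha⟩ := h
  obtain ⟨b, hb⟩ := h'
  exact ⟨e.symm.trans ((a.prodCongr b).trans e'), fun w => by
    rw [LinearEquiv.trans_apply, LinearEquiv.trans_apply, he', LinearEquiv.prodCongr_apply, ha, hb,
      ← he, e.apply_symm_apply]⟩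

/-- Cancellation inside one subspace. -/
theorem congr_compl {W P P' : Submodule F V} (hW : Nondeg Q W) (hPW : P ≤ W) (hP'W : P' ≤ W)
    (h : Congr Q P P') : Congr Q (W ⊓ perp Q P) (W ⊓ perp Q P') := by
  obtain ⟨e, he⟩ := h
  let φ : (P.comap W.subtype) →ₗ[F] W :=
    (Submodule.inclusion hP'W).comp (e.toLinearMap.comp
      (Submodule.comapSubtypeEquivOfLe hPW).toLinearMap)
  have hφ : ∀ a : P.comap W.subtype, res Q W (φ a) = res Q W (a : W) := fun a =>
    he (Submodule.comapSubtypeEquivOfLe hPW a)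
  have hφinj : Function.Injective φ := fun a b h =>
    (Submodule.comapSubtypeEquivOfLe hPW).injective (e.injective (Subtype.ext (congrArg (fun w : W => (w : V)) h)))
  obtain ⟨g, hg, hga⟩ := Witt.quad_extend (res Q W) (res_nd hW) _ φ hφinj hφ
  have hpol : ∀ a b : W, polar Q ((g a : W) : V) (g b : W) = polar Q (a : V) b := fun a b => by
    rw [← res_polar, ← res_polar]
    simp only [polar, ← map_add, hg]
  have himg : ∀ a : W, (g a : V) ∈ perp Q P' ↔ (a : V) ∈ perp Q P := by
    intro a
    constructor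
    · intro h p hp
      have h1 := hga ⟨⟨p, hPW hp⟩, hp⟩
      rw [← hpol a ⟨p, hPW hp⟩]
      refine h _ ?_
      rw [h1]
      exact (e ⟨p, hp⟩).2
    · intro h p hp
      obtain ⟨⟨p₀, hp₀⟩, hp0⟩ := e.surjective ⟨p, hp⟩
      have h1 : ((g ⟨p₀, hPW hp₀⟩ : W) : V) = p := by
        rw [hga ⟨⟨p₀, hPW hp₀⟩, hp₀⟩]
        exact congrArg Subtype.val hp0
      rw [← h1, hpol]
      exact h p₀ hp₀
  refine ⟨{ toFun := fun a => ⟨(g ⟨a.1, a.2.1⟩ : W), (g ⟨a.1, a.2.1⟩).2, (himg _).2 a.2.2⟩
            map_add' := fun a b => Subtype.ext (by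
              have h := congrArg Subtype.val (map_add g ⟨a.1, a.2.1⟩ ⟨b.1, b.2.1⟩)
              exact h)
            map_smul' := fun c a => Subtype.ext (by
              have h := congrArg Subtype.val (map_smul g c ⟨a.1, a.2.1⟩)
              exact h)
            invFun := fun a => ⟨(g.symm ⟨a.1, a.2.1⟩ : W), (g.symm ⟨a.1, a.2.1⟩).2,
              (himg _).1 (by rw [g.apply_symm_apply]; exact a.2.2)⟩
            left_inv := fun a => Subtype.ext (by simp)
            right_inv := fun a => Subtype.ext (by simp) }, fun a => ?_⟩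
  exact hg ⟨a.1, a.2.1⟩

theorem congr_perp (hQ : (polarBilin Q).Nondegenerate) {W W' : Submodule F V} (h : Congr Q W W') :
    Congr Q (perp Q W) (perp Q W') := by
  have := congr_compl (QuadClassify.nondeg_top hQ) le_top le_top h
  rwa [top_inf_eq, top_inf_eq] at this

theorem nd_perp (hQ : (polarBilin Q).Nondegenerate) {W : Submodule F V} (hW : Nondeg Q W) :
    Nondeg Q (perp Q W) ∧ finrank F W + finrank F ↥(perp Q W) = finrank F V ∧
      perp Q (perp Q W) = W := by
  obtain ⟨hsup, hn, hd⟩ := split le_top hW (QuadClassify.nondeg_top hQ)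
  rw [top_inf_eq] at hn hd
  rw [finrank_top] at hd
  refine ⟨hn, hd, ?_⟩
  obtain ⟨-, -, hd'⟩ := split le_top hn (QuadClassify.nondeg_top hQ)
  rw [top_inf_eq, finrank_top] at hd'
  exact (Submodule.eq_of_le_of_finrank_eq (le_perp_comm le_rfl) (by omega)).symm

section Finite

variable [Fintype F]

/-- There are at most two classes in each dimension. -/
theorem two_classes {m : ℕ} {W₁ W₂ W₃ : Submodule F V} (h₁ : Nondeg Q W₁) (h₂ : Nondeg Q W₂)
    (h₃ : Nondeg Q W₃) (d₁ : finrank F W₁ = m) (d₂ : finrank F W₂ = m) (d₃ : finrank F W₃ = m) :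
    Congr Q W₁ W₂ ∨ Congr Q W₁ W₃ ∨ Congr Q W₂ W₃ := by
  rcases Nat.even_or_odd' m with ⟨k, rfl | rfl⟩
  · obtain ⟨a, b, hab⟩ := OrthPrimeOrderClasses73.exists_aniso (F := F)
    rcases OrthTypeCount73.type_cases (res Q W₁) (res_nd h₁) d₁ with ⟨g₁, e₁⟩ | ⟨-, -, -, i₁⟩ <;>
    rcases OrthTypeCount73.type_cases (res Q W₂) (res_nd h₂) d₂ with ⟨g₂, e₂⟩ | ⟨-, -, -, i₂⟩ <;>
    rcases OrthTypeCount73.type_cases (res Q W₃) (res_nd h₃) d₃ with ⟨g₃, e₃⟩ | ⟨-, -, -, i₃⟩
    · exact Or.inl (Congr.of_equiv g₁ e₁ g₂ e₂)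
    · exact Or.inl (Congr.of_equiv g₁ e₁ g₂ e₂)
    · exact Or.inr (Or.inl (Congr.of_equiv g₁ e₁ g₃ e₃))
    · obtain ⟨g₂, e₂⟩ := i₂ a b hab
      obtain ⟨g₃, e₃⟩ := i₃ a b hab
      exact Or.inr (Or.inr (Congr.of_equiv g₂ e₂ g₃ e₃))
    · exact Or.inr (Or.inr (Congr.of_equiv g₂ e₂ g₃ e₃))
    · obtain ⟨g₁, e₁⟩ := i₁ a b hab
      obtain ⟨g₃, e₃⟩ := i₃ a b hab
      exact Or.inr (Or.inl (Congr.of_equiv g₁ e₁ g₃ e₃))
    · obtain ⟨g₁, e₁⟩ := i₁ a b hab
      obtain ⟨g₂, e₂⟩ := i₂ a b hab
      exact Or.inl (Congr.of_equiv g₁ e₁ g₂ e₂)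
    · obtain ⟨g₁, e₁⟩ := i₁ a b hab
      obtain ⟨g₂, e₂⟩ := i₂ a b hab
      exact Or.inl (Congr.of_equiv g₁ e₁ g₂ e₂)
  · obtain ⟨c₁, g₁, n₁, e₁⟩ := OrthTypeCount73.iso_odd (res Q W₁) (res_nd h₁) d₁
    obtain ⟨c₂, g₂, n₂, e₂⟩ := OrthTypeCount73.iso_odd (res Q W₂) (res_nd h₂) d₂
    obtain ⟨c₃, g₃, n₃, e₃⟩ := OrthTypeCount73.iso_odd (res Q W₃) (res_nd h₃) d₃
    have mk : ∀ {W W' : Submodule F V} (g : W ≃ₗ[F] (Unit ⊕ (Fin k ⊕ Fin k) → F))
        (g' : W' ≃ₗ[F] (Unit ⊕ (Fin k ⊕ Fin k) → F)) {c c' : F}, c ≠ 0 → c' ≠ 0 →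
        (∀ v, Cfsg.quadFormOdd k F (g v) = c * res Q W v) →
        (∀ v, Cfsg.quadFormOdd k F (g' v) = c' * res Q W' v) → IsSquare (c' * c) → Congr Q W W' := by
      intro W W' g g' c c' hc hc' hg hg' ⟨s, hs⟩
      have hs0 : s / c ≠ 0 := div_ne_zero (fun h => mul_ne_zero hc' hc (by rw [hs, h, mul_zero])) hc
      refine ⟨(g.trans ((LinearEquiv.smulOfUnit (Units.mk0 _ hs0)).trans g'.symm)), fun w => ?_⟩
      have h := hg' (g'.symm ((s / c) • g w))
      rw [g'.apply_symm_apply, ← QuadClassify.qOdd_apply, QuadraticMap.map_smul, smul_eq_mul,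
        QuadClassify.qOdd_apply, hg] at h
      refine mul_left_cancel₀ hc' ?_
      refine h.symm.trans ?_
      show _ = c' * Q (w : V)
      have hs' : s / c * (s / c) * c = c' := by
        field_simp
        linear_combination -hs
      show s / c * (s / c) * (c * Q (w : V)) = _
      linear_combination (Q (w : V)) * hs'
    have tri : IsSquare (c₂ * c₁) ∨ IsSquare (c₃ * c₁) ∨ IsSquare (c₃ * c₂) := by
      by_cases h2 : (2 : F) = 0
      · exact Or.inl (QuadClassify.isSquare_of_two_eq_zero h2 _)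
      classical
      by_contra hall
      push Not at hall
      have q := fun x => (quadraticChar_neg_one_iff_not_isSquare (F := F) (a := x)).2
      have h1 := q _ hall.1
      have h2' := q _ hall.2.1
      have h3 := q _ hall.2.2
      rw [map_mul] at h1 h2' h3
      rcases quadraticChar_dichotomy (F := F) n₁ with a | a <;>
        rcases quadraticChar_dichotomy (F := F) n₂ with b | b <;>
        rcases quadraticChar_dichotomy (F := F) n₃ with c | c <;>
        simp [a, b, c] at h1 h2' h3
    rcases tri with h | h | h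
    · exact Or.inl (mk g₁ g₂ n₁ n₂ e₁ e₂ h)
    · exact Or.inr (Or.inl (mk g₁ g₃ n₁ n₃ e₁ e₃ h))
    · exact Or.inr (Or.inr (mk g₂ g₃ n₂ n₃ e₂ e₃ h))

theorem congr_of_two {m : ℕ} {W₁ W₂ T : Submodule F V} (h₁ : Nondeg Q W₁) (h₂ : Nondeg Q W₂)
    (hT : Nondeg Q T) (d₁ : finrank F W₁ = m) (d₂ : finrank F W₂ = m) (dT : finrank F T = m)
    (hne : ¬ Congr Q W₁ W₂) : Congr Q W₁ T ∨ Congr Q W₂ T :=
  (two_classes h₁ h₂ hT d₁ d₂ dT).resolve_left hne

theorem span_pair_nd {x y : V}
    (h : ∀ a b : F, polar Q (a • x + b • y) x = 0 → polar Q (a • x + b • y) y = 0 → a = 0 ∧ b = 0) :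
    Nondeg Q (Submodule.span F {x, y}) ∧ finrank F ↥(Submodule.span F ({x, y} : Set V)) = 2 := by
  refine ⟨fun u hu hz => ?_, ?_⟩
  · obtain ⟨a, b, rfl⟩ := Submodule.mem_span_pair.1 hu
    obtain ⟨ha, hb⟩ := h a b (hz x (Submodule.subset_span (Set.mem_insert _ _)))
      (hz y (Submodule.subset_span (Set.mem_insert_of_mem _ rfl)))
    simp [ha, hb]
  · have hli : LinearIndependent F ![x, y] := LinearIndependent.pair_iff.2 fun a b hab =>
      h a b (by rw [hab, pol_zero_left]) (by rw [hab, pol_zero_left])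
    have := finrank_span_eq_card hli
    rwa [Matrix.range_cons, Matrix.range_cons, Matrix.range_empty, Set.union_empty, Set.singleton_union,
      Fintype.card_fin] at this

/-- A hyperbolic plane. -/
theorem exists_hyp_plane {U : Submodule F V} (hU : Nondeg Q U) (h3 : 3 ≤ finrank F U) :
    ∃ u f, u ∈ U ∧ f ∈ U ∧ u ≠ 0 ∧ Q u = 0 ∧ Q f = 0 ∧ polar Q u f = 1 ∧
      Submodule.span F {u, f} ≤ U ∧ Nondeg Q (Submodule.span F {u, f}) ∧
      finrank F ↥(Submodule.span F ({u, f} : Set V)) = 2 := by
  obtain ⟨u, hu, hu0, hQu⟩ := QuadClassify.exists_singular Q U h3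
  obtain ⟨f, hf, hQf, huf⟩ := QuadClassify.exists_partner Q hU hu hu0 hQu
  obtain ⟨h1, h2⟩ := span_pair_nd (Q := Q) (x := u) (y := f) fun a b ha hb => by
    simp only [QuadraticMap.polar_add_left, QuadraticMap.polar_smul_left, QuadraticMap.polar_self, hQu,
      hQf, huf, QuadraticMap.polar_comm Q f u, smul_eq_mul, smul_zero, mul_one, mul_zero, zero_add,
      add_zero] at ha hb
    exact ⟨hb, ha⟩
  refine ⟨u, f, hu, hf, hu0, hQu, hQf, huf, Submodule.span_le.2 ?_, h1, h2⟩
  rintro x (rfl | rfl) <;> assumption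

/-- Both classes occur properly inside a subspace. -/
theorem exists_two : ∀ (a : ℕ) (U : Submodule F V), Nondeg Q U → 1 ≤ a → a < finrank F U →
    ((2 : F) ≠ 0 ∨ Even a) →
    ∃ A B : Submodule F V, A ≤ U ∧ B ≤ U ∧ Nondeg Q A ∧ Nondeg Q B ∧ finrank F A = a ∧
      finrank F B = a ∧ ¬ Congr Q A B := by
  intro a
  induction a using Nat.strong_induction_on with
  | _ a ih =>
    intro U hU ha hau hpar
    rcases (show a = 1 ∨ a = 2 ∨ 3 ≤ a by omega) with rfl | rfl | h3
    · have h2 : (2 : F) ≠ 0 := hpar.resolve_right (by decide)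
      obtain ⟨ν, hν⟩ := FiniteField.exists_nonsquare (F := F) (fun hc => h2 (by
        have h := ringChar.Nat.cast_ringChar (R := F)
        rw [hc, Nat.cast_ofNat] at h
        exact h))
      obtain ⟨x, hx, hQx⟩ := OmegaClasses.nondeg_represents hU hau 1
      obtain ⟨y, hy, hQy⟩ := OmegaClasses.nondeg_represents hU hau ν
      have hν0 : ν ≠ 0 := fun e => hν (e ▸ IsSquare.zero)
      have hx0 : x ≠ 0 := fun e => by rw [e, QuadraticMap.map_zero] at hQx; exact zero_ne_one hQx
      have hy0 : y ≠ 0 := fun e => by rw [e, QuadraticMap.map_zero] at hQy; exact hν0 hQy.symm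
      have hnd : ∀ z : V, Q z ≠ 0 → Nondeg Q (F ∙ z) := by
        intro z hz u hu h
        obtain ⟨c, rfl⟩ := Submodule.mem_span_singleton.1 hu
        have := h z (Submodule.mem_span_singleton_self z)
        rw [QuadraticMap.polar_smul_left, QuadraticMap.polar_self, smul_eq_mul, two_smul, ← two_mul] at this
        rw [(mul_eq_zero.1 this).resolve_right (mul_ne_zero h2 hz), zero_smul]
      refine ⟨F ∙ x, F ∙ y, (Submodule.span_singleton_le_iff_mem _ _).2 hx,
        (Submodule.span_singleton_le_iff_mem _ _).2 hy, hnd x (by rw [hQx]; exact one_ne_zero),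
        hnd y (by rwa [hQy]), finrank_span_singleton hx0, finrank_span_singleton hy0, ?_⟩
      rintro ⟨e, he⟩
      obtain ⟨c, hc⟩ := Submodule.mem_span_singleton.1 (e ⟨x, Submodule.mem_span_singleton_self x⟩).2
      have h := he ⟨x, Submodule.mem_span_singleton_self x⟩
      rw [← hc, QuadraticMap.map_smul, hQy, hQx, smul_eq_mul] at h
      exact hν ⟨c⁻¹, by
        have hc0 : c ≠ 0 := fun e => by rw [e] at h; simp at h
        field_simp
        linear_combination h⟩
    · obtain ⟨u, f, hu, hf, hu0, hQu, hQf, huf, hHU, hH, hHd⟩ := exists_hyp_plane hU (by omega)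
      obtain ⟨ζ, hζ⟩ : ∃ ζ : F, ∀ t : F, t ^ 2 + t + ζ ≠ 0 := by
        obtain ⟨a, b, hab⟩ := OrthPrimeOrderClasses73.exists_aniso (F := F)
        obtain ⟨ζ, -, hζ, -⟩ := QuadClassify.exists_zeta hab
        exact ⟨ζ, hζ⟩
      -- an anisotropic plane
      obtain ⟨x, y, hx, hy, hxy1, hxy2, hxy3⟩ : ∃ x y, x ∈ U ∧ y ∈ U ∧ Q x = 1 ∧
          polar Q x y = 1 ∧ Q y = ζ := by
        obtain ⟨hU', hdim⟩ := QuadClassify.pair_complement Q hU hu hf hQu hQf huf
        set U' := U ⊓ LinearMap.ker (polarBilin Q u) ⊓ LinearMap.ker (polarBilin Q f)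
        have hperp : ∀ w ∈ U', polar Q u w = 0 ∧ polar Q f w = 0 := fun w hw => ⟨hw.1.2, hw.2⟩
        have hQef : Q (u + f) = 1 := by rw [QuadraticMap.map_add Q, hQu, hQf, huf]; simp
        rcases (show 2 ≤ finrank F U' ∨ finrank F U' = 1 by omega) with h2 | h1
        · obtain ⟨w, hw, hQw⟩ := OmegaClasses.nondeg_represents hU' h2 ζ
          refine ⟨u + f, f + w, U.add_mem hu hf, U.add_mem hf hw.1.1, hQef, ?_, ?_⟩
          · simp [QuadraticMap.polar_add_left, QuadraticMap.polar_add_right, huf, (hperp w hw).1,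
              (hperp w hw).2, QuadraticMap.polar_self, hQf]
          · rw [map_add_of_perp (hperp w hw).2, hQf, hQw, zero_add]
        · obtain ⟨w, hw, hw0⟩ := Submodule.exists_mem_ne_zero_of_ne_bot (p := U') (fun e => by
            rw [e, finrank_bot] at h1; omega)
          have hQw : Q w ≠ 0 := fun hQw => by
            refine hw0 (hU' w hw fun v hv => ?_)
            obtain ⟨c, rfl⟩ : ∃ c : F, c • w = v := by
              have := (finrank_eq_one_iff_of_nonzero' (⟨w, hw⟩ : U') (fun e => hw0 (congrArg Subtype.val e))).1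
                h1 ⟨v, hv⟩
              obtain ⟨c, hc⟩ := this
              exact ⟨c, congrArg Subtype.val hc⟩
            rw [QuadraticMap.polar_smul_right, QuadraticMap.polar_self, hQw, smul_zero, smul_zero]
          have h2 : (2 : F) ≠ 0 := fun e => by
            refine hw0 (hU' w hw fun v hv => ?_)
            obtain ⟨c, rfl⟩ : ∃ c : F, c • w = v := by
              have := (finrank_eq_one_iff_of_nonzero' (⟨w, hw⟩ : U') (fun e => hw0 (congrArg Subtype.val e))).1
                h1 ⟨v, hv⟩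
              obtain ⟨c, hc⟩ := this
              exact ⟨c, congrArg Subtype.val hc⟩
            rw [QuadraticMap.polar_smul_right, QuadraticMap.polar_self, two_smul, ← two_mul, e, zero_mul,
              smul_zero]
          -- `x = u + f`, `y = (x / 2) + z` with `z ⊥ x`
          have hζ4 : ζ - 1 / 4 ≠ 0 := by
            intro e
            have h4 : (4 : F) ≠ 0 := by rw [show (4 : F) = 2 * 2 by norm_num]; exact mul_ne_zero h2 h2
            have := hζ (-(1 / 2))
            apply this
            field_simp at e ⊢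
            linear_combination e
          obtain ⟨s, t, hst⟩ := QuadClassify.exists_two_squares h2 (a := -1) (neg_ne_zero.2 one_ne_zero)
            hQw (ζ - 1 / 4)
          have hxz : polar Q (u + f) (s • (u - f) + t • w) = 0 := by
            simp [QuadraticMap.polar_add_left, QuadraticMap.polar_add_right, QuadraticMap.polar_sub_right,
              QuadraticMap.polar_smul_right, huf, QuadraticMap.polar_comm Q f u, QuadraticMap.polar_self,
              hQu, hQf, (hperp w hw).1, (hperp w hw).2]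
          have hQz : Q (s • (u - f) + t • w) = ζ - 1 / 4 := by
            rw [map_add_of_perp (by
              simp [QuadraticMap.polar_sub_left, QuadraticMap.polar_smul_left, QuadraticMap.polar_smul_right,
                (hperp w hw).1, (hperp w hw).2]), QuadraticMap.map_smul, QuadraticMap.map_smul,
              sub_eq_add_neg, QuadraticMap.map_add Q, QuadraticMap.map_neg, hQu, hQf,
              QuadraticMap.polar_neg_right, huf, smul_eq_mul, smul_eq_mul, ← hst]
            ring
          refine ⟨u + f, (1 / 2 : F) • (u + f) + (s • (u - f) + t • w), U.add_mem hu hf,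
            U.add_mem (U.smul_mem _ (U.add_mem hu hf))
              (U.add_mem (U.smul_mem _ (U.sub_mem hu hf)) (U.smul_mem _ hw.1.1)), hQef, ?_, ?_⟩
          · rw [QuadraticMap.polar_add_right, QuadraticMap.polar_smul_right, QuadraticMap.polar_self, hQef,
              hxz, smul_eq_mul, add_zero, nsmul_eq_mul, Nat.cast_ofNat, mul_one, one_div, inv_mul_cancel₀ h2]
          · rw [map_add_of_perp (by rw [QuadraticMap.polar_smul_left, hxz, smul_zero]), QuadraticMap.map_smul,
              hQef, hQz, smul_eq_mul, show (4 : F) = 2 ^ 2 by norm_num]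
            field_simp
            ring
      obtain ⟨hP, hPd⟩ := span_pair_nd (Q := Q) (x := x) (y := y) fun a b ha hb => by
        simp only [QuadraticMap.polar_add_left, QuadraticMap.polar_smul_left, QuadraticMap.polar_self,
          hxy1, hxy2, hxy3, QuadraticMap.polar_comm Q y x, smul_eq_mul, nsmul_eq_mul, Nat.cast_ofNat] at ha hb
        have hd : (4 * ζ - 1 : F) ≠ 0 := by
          intro e
          by_cases h2 : (2 : F) = 0
          · exact one_ne_zero (α := F) (by linear_combination -e + 2 * ζ * h2)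
          · apply hζ (-(1 / 2))
            field_simp
            linear_combination e
        have hb0 : b = 0 := by
          have h0 : (4 * ζ - 1) * b = 0 := by linear_combination 2 * hb - ha
          exact (mul_eq_zero.1 h0).resolve_left hd
        refine ⟨?_, hb0⟩
        rw [hb0] at ha hb
        linear_combination hb
      refine ⟨Submodule.span F {u, f}, Submodule.span F {x, y}, hHU, Submodule.span_le.2 (by
        rintro z (rfl | rfl) <;> assumption), hH, hP, hHd, hPd, ?_⟩
      rintro ⟨e, he⟩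
      have hu' : u ∈ Submodule.span F ({u, f} : Set V) := Submodule.subset_span (Set.mem_insert _ _)
      obtain ⟨a, b, hab⟩ := Submodule.mem_span_pair.1 (e ⟨u, hu'⟩).2
      have h := he ⟨u, hu'⟩
      rw [← hab, QuadraticMap.map_add Q, QuadraticMap.map_smul, QuadraticMap.map_smul,
        QuadraticMap.polar_smul_left, QuadraticMap.polar_smul_right, hxy1, hxy2, hxy3, hQu,
        smul_eq_mul, smul_eq_mul, smul_eq_mul, smul_eq_mul] at h
      have hne : e ⟨u, hu'⟩ ≠ 0 := fun h' => hu0 (congrArg Subtype.val (e.map_eq_zero_iff.1 h'))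
      by_cases hb0 : b = 0
      · subst hb0
        have : a = 0 := by
          have h' : a * a = 0 := by linear_combination h
          exact mul_self_eq_zero.1 h'
        subst this
        exact hne (Subtype.ext (by rw [← hab]; simp))
      · apply hζ (a / b)
        field_simp
        linear_combination h
    · obtain ⟨u, f, hu, hf, -, hQu, hQf, huf, hHU, hH, hHd⟩ := exists_hyp_plane hU (by omega)
      obtain ⟨-, hU', hdim⟩ := split hHU hH hU
      obtain ⟨A, B, hA, hB, hAn, hBn, hAd, hBd, hne⟩ := ih (a - 2) (by omega) _ hU' (by omega) (by omega)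
        (hpar.imp_right fun h => (Nat.even_sub (by omega)).2 (iff_of_true h even_two))
      set H := Submodule.span F ({u, f} : Set V)
      refine ⟨H ⊔ A, H ⊔ B, sup_le hHU (hA.trans inf_le_left), sup_le hHU (hB.trans inf_le_left),
        nd_sup hH hAn (hA.trans inf_le_right), nd_sup hH hBn (hB.trans inf_le_right),
        by rw [finrank_sup hH (hA.trans inf_le_right)]; omega,
        by rw [finrank_sup hH (hB.trans inf_le_right)]; omega, fun hc => hne ?_⟩
      have hrec : ∀ {A : Submodule F V}, Nondeg Q A → A ≤ perp Q H → (H ⊔ A) ⊓ perp Q H = A := by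
        intro A _ hAp
        refine le_antisymm ?_ (le_inf le_sup_right hAp)
        rintro z ⟨hz, hz'⟩
        obtain ⟨h0, hh0, a0, ha0, rfl⟩ := Submodule.mem_sup.1 hz
        have h00 : h0 = 0 := (Submodule.eq_bot_iff _).1 (inf_perp_eq_bot hH) _
          ⟨hh0, by simpa using Submodule.sub_mem _ hz' (hAp ha0)⟩
        rw [h00, zero_add]; exact ha0
      obtain ⟨e, he⟩ := hc
      -- move `H` into the second sum
      let H' : Submodule F V := ((H.comap (H ⊔ A).subtype).map (e : _ →ₗ[F] _)).map (H ⊔ B).subtype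
      have hH' : Congr Q H H' :=
        ⟨((Submodule.comapSubtypeEquivOfLe (le_sup_left : H ≤ H ⊔ A)).symm.trans
            (e.submoduleMap _)).trans (Submodule.equivMapOfInjective _ (Submodule.injective_subtype _) _),
          fun w => he _⟩
      have h1 := congr_compl (nd_sup hH hBn (hB.trans inf_le_right)) le_sup_left
        (Submodule.map_subtype_le _ _) hH'
      rw [hrec hBn (hB.trans inf_le_right)] at h1
      refine Congr.trans ?_ h1.symm
      refine (show Congr Q A ((H ⊔ A) ⊓ perp Q H) by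
        rw [hrec hAn (hA.trans inf_le_right)]; exact Congr.refl _).trans ?_
      have hpol : ∀ a b : ↥(H ⊔ A), polar Q ((e a : _) : V) (e b : _) = polar Q (a : V) b := fun a b => by
        simp only [polar, ← Submodule.coe_add, ← map_add, he]
      let L : ↥((H ⊔ A) ⊓ perp Q H) →ₗ[F] ↥((H ⊔ B) ⊓ perp Q H') :=
        LinearMap.codRestrict _ ((H ⊔ B).subtype.comp (e.toLinearMap.comp (Submodule.inclusion inf_le_left)))
          fun w => ⟨(e _).2, by
            rintro _ ⟨_, ⟨z, hz, rfl⟩, rfl⟩
            exact (hpol _ _).trans (w.2.2 _ hz)⟩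
      have hinj : Function.Injective L := fun x y h => by
        have h' := congrArg (Subtype.val) h
        exact Submodule.inclusion_injective _ (e.injective (Submodule.injective_subtype _ h'))
      refine ⟨LinearEquiv.ofBijective L ⟨hinj, (LinearMap.injective_iff_surjective_of_finrank_eq_finrank
        (by rw [hrec hAn (hA.trans inf_le_right), h1.finrank_eq.symm]; omega)).1 hinj⟩, fun w => he _⟩

/-- A subspace of a prescribed class inside a larger subspace. -/
theorem exists_class {U T : Submodule F V} (hU : Nondeg Q U) (hT : Nondeg Q T) {a : ℕ}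
    (hTa : finrank F T = a) (ha : 1 ≤ a) (hau : a < finrank F U) (hpar : (2 : F) ≠ 0 ∨ Even a) :
    ∃ A ≤ U, Nondeg Q A ∧ Congr Q A T := by
  obtain ⟨A, B, hA, hB, hAn, hBn, hAd, hBd, hne⟩ := exists_two a U hU ha hau hpar
  rcases congr_of_two hAn hBn hT hAd hBd hTa hne with h | h
  exacts [⟨A, hA, hAn, h⟩, ⟨B, hB, hBn, h⟩]

/-! ### Types -/

/-- Totally singular of half the dimension inside. -/
def Plus (Q : QuadraticForm F V) (W : Submodule F V) : Prop :=
  ∃ U ≤ W, (∀ u ∈ U, Q u = 0) ∧ 2 * finrank F U = finrank F W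

theorem Congr.plus {W W' : Submodule F V} (h : Congr Q W W') (hp : Plus Q W) : Plus Q W' := by
  obtain ⟨e, he⟩ := h
  obtain ⟨U, hUW, hU, hd⟩ := hp
  refine ⟨((U.comap W.subtype).map (e : W →ₗ[F] W')).map W'.subtype, Submodule.map_subtype_le _ _, ?_, ?_⟩
  · rintro _ ⟨_, ⟨x, hx, rfl⟩, rfl⟩
    exact (he x).trans (hU _ hx)
  · rw [Submodule.finrank_map_subtype_eq, LinearEquiv.finrank_map_eq,
      (Submodule.comapSubtypeEquivOfLe hUW).finrank_eq, hd, e.finrank_eq]

theorem exists_hyp : ∀ (h : ℕ) (W U : Submodule F V), Nondeg Q W → finrank F W = 2 * h → U ≤ W →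
    (∀ u ∈ U, Q u = 0) → finrank F U = h →
    ∃ e f : Fin h → V, QuadClassify.Hyp Q e f ∧ (∀ i, e i ∈ W) ∧ ∀ i, f i ∈ W := by
  intro h
  induction h with
  | zero =>
    intro W U _ _ _ _ _
    exact ⟨Fin.elim0, Fin.elim0, ⟨fun i => i.elim0, fun i => i.elim0, fun i => i.elim0, fun i => i.elim0,
      fun i => i.elim0⟩, fun i => i.elim0, fun i => i.elim0⟩
  | succ h ih =>
    intro W U hW hWd hUW hU hUd
    obtain ⟨u, hu, hu0⟩ := Submodule.exists_mem_ne_zero_of_ne_bot (p := U) (fun e => by
      rw [e, finrank_bot] at hUd; omega)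
    obtain ⟨f₀, hf, hQf, huf⟩ := QuadClassify.exists_partner Q hW (hUW hu) hu0 (hU u hu)
    obtain ⟨hW', hdim⟩ := QuadClassify.pair_complement Q hW (hUW hu) hf (hU u hu) hQf huf
    set W' := W ⊓ LinearMap.ker (polarBilin Q u) ⊓ LinearMap.ker (polarBilin Q f₀)
    set U' := U ⊓ LinearMap.ker (polarBilin Q f₀)
    have hU'W : U' ≤ W' := fun x hx => ⟨⟨hUW hx.1, OmegaClasses.polar_of_sing hU hu hx.1⟩, hx.2⟩
    have h1 : finrank F U ≤ finrank F U' + 1 := QuadClassify.finrank_ker_inf U (polarBilin Q f₀)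
    have h2 : finrank F U' < finrank F U := by
      refine Submodule.finrank_lt_finrank_of_lt (lt_of_le_of_ne inf_le_left fun e => ?_)
      have : u ∈ U' := e ▸ hu
      have h0 : polar Q f₀ u = 0 := this.2
      rw [QuadraticMap.polar_comm, huf] at h0
      exact one_ne_zero h0
    obtain ⟨e, f, hH, he, hf'⟩ := ih W' U' hW' (by omega) hU'W (fun x hx => hU x hx.1) (by omega)
    have pu : ∀ i, polar Q u (e i) = 0 ∧ polar Q u (f i) = 0 ∧ polar Q f₀ (e i) = 0 ∧
        polar Q f₀ (f i) = 0 := fun i => ⟨(he i).1.2, (hf' i).1.2, (he i).2, (hf' i).2⟩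
    refine ⟨Fin.cons u e, Fin.cons f₀ f, ⟨?_, ?_, ?_, ?_, ?_⟩, ?_, ?_⟩
    · exact Fin.cases (by simpa using hU u hu) (fun i => by simpa using hH.qe i)
    · exact Fin.cases (by simpa using hQf) (fun i => by simpa using hH.qf i)
    · intro i j
      induction i using Fin.cases with
      | zero =>
        induction j using Fin.cases with
        | zero => simpa using huf
        | succ j => simp [(pu j).2.1, (Fin.succ_ne_zero j).symm]
      | succ i =>
        induction j using Fin.cases with
        | zero => simp [QuadraticMap.polar_comm Q (e i), (pu i).2.2.1, Fin.succ_ne_zero i]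
        | succ j => simp [hH.pef, Fin.succ_inj]
    · intro i j
      induction i using Fin.cases with
      | zero =>
        induction j using Fin.cases with
        | zero => simp [QuadraticMap.polar_self, hU u hu]
        | succ j => simp [(pu j).1]
      | succ i =>
        induction j using Fin.cases with
        | zero => simp [QuadraticMap.polar_comm Q (e i), (pu i).1]
        | succ j => simp [hH.pee]
    · intro i j
      induction i using Fin.cases with
      | zero =>
        induction j using Fin.cases with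
        | zero => simp [QuadraticMap.polar_self, hQf]
        | succ j => simp [(pu j).2.2.2]
      | succ i =>
        induction j using Fin.cases with
        | zero => simp [QuadraticMap.polar_comm Q (f i), (pu i).2.2.2]
        | succ j => simp [hH.pff]
    · exact Fin.cases (by simpa using hUW hu) (fun i => by simpa using (he i).1.1)
    · exact Fin.cases (by simpa using hf) (fun i => by simpa using (hf' i).1.1)

theorem plus_iff {W : Submodule F V} (hW : Nondeg Q W) {h : ℕ} (hd : finrank F W = 2 * h) :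
    Plus Q W ↔ ∃ g : W ≃ₗ[F] (Fin h ⊕ Fin h → F), ∀ v, Cfsg.quadFormPlus h F (g v) = res Q W v := by
  constructor
  · rintro ⟨U, hUW, hU, hUd⟩
    obtain ⟨e, f, hH, -, -⟩ := exists_hyp (Q := res Q W) h ⊤ (U.comap W.subtype)
      (QuadClassify.nondeg_top (res_nd hW)) (by rw [finrank_top, hd]) le_top (fun u hu => hU _ hu)
      (by rw [(Submodule.comapSubtypeEquivOfLe hUW).finrank_eq]; omega)
    exact QuadClassify.iso_plus _ hH hd
  · rintro ⟨g, hg⟩
    let L : (Fin h → F) →ₗ[F] W :=
      g.symm.toLinearMap ∘ₗ { toFun := fun x => Sum.elim x 0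
                              map_add' := fun x y => funext fun s => by rcases s with i | i <;> simp
                              map_smul' := fun c x => funext fun s => by rcases s with i | i <;> simp }
    have hL : Function.Injective L := fun x y hxy => funext fun i =>
      congrFun (g.symm.injective hxy) (Sum.inl i)
    refine ⟨(LinearMap.range L).map W.subtype, Submodule.map_subtype_le _ _, ?_, ?_⟩
    · rintro _ ⟨_, ⟨x, rfl⟩, rfl⟩
      show res Q W (L x) = 0
      rw [← hg]
      show Cfsg.quadFormPlus h F (g (g.symm (Sum.elim x 0))) = 0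
      rw [g.apply_symm_apply]
      simp [Cfsg.quadFormPlus]
    · rw [Submodule.finrank_map_subtype_eq, LinearMap.finrank_range_of_inj hL, Module.finrank_fin_fun, hd]

/-- The invariant of a subspace of even dimension. -/
theorem exists_prof {W : Submodule F V} (hW : Nondeg Q W) {h : ℕ} (hd : finrank F W = 2 * h) :
    (Plus Q W → ∃ N, Prof ⇑(res Q W) N ((Fintype.card F : ℤ) ^ h)) ∧
      (¬ Plus Q W → ∃ N, Prof ⇑(res Q W) N (-(Fintype.card F : ℤ) ^ h)) := by
  refine ⟨fun hp => ?_, fun hp => ?_⟩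
  · obtain ⟨g, hg⟩ := (plus_iff hW hd).1 hp
    obtain ⟨N, hN⟩ := OrthTypeCount73.prof_qPlus (F := F) h
    exact ⟨N, hN.map g.toEquiv.symm fun v => by rw [← hg]; simp⟩
  · rcases OrthTypeCount73.type_cases (res Q W) (res_nd hW) hd with hg | ⟨-, N, hN, -⟩
    · exact absurd ((plus_iff hW hd).2 hg) hp
    · exact ⟨N, hN⟩

theorem congr_iff_plus {W W' : Submodule F V} (hW : Nondeg Q W) (hW' : Nondeg Q W') {h : ℕ}
    (hd : finrank F W = 2 * h) (hd' : finrank F W' = 2 * h) :
    Congr Q W W' ↔ (Plus Q W ↔ Plus Q W') := by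
  refine ⟨fun hc => ⟨hc.plus, hc.symm.plus⟩, fun hiff => ?_⟩
  by_cases hp : Plus Q W
  · obtain ⟨g, hg⟩ := (plus_iff hW hd).1 hp
    obtain ⟨g', hg'⟩ := (plus_iff hW' hd').1 (hiff.1 hp)
    exact Congr.of_equiv g hg g' hg'
  · obtain ⟨a, b, hab⟩ := OrthPrimeOrderClasses73.exists_aniso (F := F)
    rcases OrthTypeCount73.type_cases (res Q W) (res_nd hW) hd with hg | ⟨-, -, -, i₁⟩
    · exact absurd ((plus_iff hW hd).2 hg) hp
    rcases OrthTypeCount73.type_cases (res Q W') (res_nd hW') hd' with hg | ⟨-, -, -, i₂⟩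
    · exact absurd ((plus_iff hW' hd').2 hg) fun e => hp (hiff.2 e)
    obtain ⟨g, hg⟩ := i₁ a b hab
    obtain ⟨g', hg'⟩ := i₂ a b hab
    exact Congr.of_equiv g hg g' hg'

end Finite

end Cfsg.Agent.OrthIsoClasses61
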