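import Mathlib
import Cfsg.Agent.Lib.OrthIsoClasses61
import Cfsg.Agent.Lib.OrthUnitaryQuad

/-!
Which classes of nondegenerate subspaces are stabilised by every isometry of a given odd prime order.
-/

set_option autoImplicit false
set_option linter.unusedSectionVars false

namespace Cfsg.Agent.OrthSubspaceFix61

open Module
open QuadraticMap (polar polarBilin)
open Cfsg.Agent.QuadClassify (Nondeg)
open Cfsg.Agent.OrthBlocks61 Cfsg.Agent.OrthIsoClasses61
open Cfsg.Agent.OrthTypeCount73 (Prof)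
open Cfsg.Agent.OrthUnitaryQuad (orth finite_orth)

variable {F V : Type*} [Field F] [AddCommGroup V] [Module F V] [FiniteDimensional F V] [Fintype F]
variable {Q : QuadraticForm F V} {r : ℕ} [Fact r.Prime]

/-- A subspace that some isometry of order `r` moves without fixed vectors. -/
def Free (Q : QuadraticForm F V) (r : ℕ) (W : Submodule F V) : Prop :=
  blockDim F r ∣ finrank F W ∧ ∀ N E, Prof ⇑(res Q W) N E → (r : ℤ) ∣ E - 1

theorem free_of_congr {W W' : Submodule F V} (h : Congr Q W W') (hf : Free Q r W) : Free Q r W' := by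
  obtain ⟨e, he⟩ := h
  refine ⟨e.finrank_eq ▸ hf.1, fun N E hP => hf.2 N E (hP.map e.toEquiv.symm fun w => ?_)⟩
  show Q ((e.symm w : W) : V) = Q (w : V)
  conv_rhs => rw [← e.apply_symm_apply w, he]

theorem free_of_iso {g : Module.End F V} (hi : Iso Q r g) (hr2 : r ≠ 2) {S : Submodule F V}
    (hS : Nondeg Q S) (hSg : ∀ v ∈ S, g v ∈ S) (hSR : S ≤ LinearMap.range (g - 1)) : Free Q r S :=
  ⟨(hi.exists_free hr2 _ S rfl hS hSg hSR).1, fun _ _ hP => hi.dvd_of_free hSg (hi.fixed_eq_bot hSR) hP⟩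

theorem free_half {W : Submodule F V} (hf : Free Q r W) : ∃ h, finrank F W = 2 * h := by
  obtain ⟨t, ht⟩ := hf.1
  obtain ⟨s, hs⟩ := blockDim_even (F := F) (r := r)
  exact ⟨s * t, by rw [ht, hs]; ring⟩

theorem free_congr (hr2 : r ≠ 2) {W W' : Submodule F V} (hW : Nondeg Q W) (hW' : Nondeg Q W')
    (hd : finrank F W = finrank F W') (hf : Free Q r W) (hf' : Free Q r W') : Congr Q W W' := by
  obtain ⟨h, hh⟩ := free_half hf
  refine (congr_iff_plus hW hW' hh (hd ▸ hh)).2 ?_
  have key : ∀ {A B : Submodule F V}, Nondeg Q A → Nondeg Q B → finrank F A = 2 * h → finrank F B = 2 * h →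
      Free Q r A → Free Q r B → Plus Q A → Plus Q B := by
    intro A B hA hB dA dB fA fB hp
    by_contra hn
    obtain ⟨N, hN⟩ := (exists_prof hA dA).1 hp
    obtain ⟨M, hM⟩ := (exists_prof hB dB).2 hn
    have h1 := fA.2 _ _ hN
    have h2 := dvd_neg.2 (fB.2 _ _ hM)
    exact OrthPrimeOrderClasses73.not_both (Fact.out : r.Prime) hr2 h1 (by
      rwa [neg_sub, sub_neg_eq_add, add_comm] at h2)
  exact ⟨key hW hW' hh (hd ▸ hh) hf hf', key hW' hW (hd ▸ hh) hh hf' hf⟩

/-- The invariant of an orthogonal sum. -/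
theorem prof_sup {A B : Submodule F V} (hA : Nondeg Q A) (hB : B ≤ perp Q A) {N M E E' : ℤ}
    (h : Prof ⇑(res Q A) N E) (h' : Prof ⇑(res Q B) M E') :
    ∃ K, Prof ⇑(res Q (A ⊔ B)) K (E * E') := by
  haveI : Finite A := Module.finite_of_finite F
  haveI : Finite B := Module.finite_of_finite F
  let f : (A × B) →ₗ[F] ↥(A ⊔ B) :=
    (Submodule.inclusion le_sup_left).coprod (Submodule.inclusion le_sup_right)
  have hf : Function.Bijective f := by
    refine ⟨?_, fun x => ?_⟩
    · rw [injective_iff_map_eq_zero]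
      rintro ⟨a, b⟩ h
      have h0 : (a : V) + b = 0 := congrArg Subtype.val h
      have ha : (a : V) = 0 := (Submodule.eq_bot_iff _).1 (inf_perp_eq_bot hA) _
        ⟨a.2, by rw [eq_neg_of_add_eq_zero_left h0]; exact neg_mem (hB b.2)⟩
      have hb : (b : V) = 0 := by rwa [ha, zero_add] at h0
      exact Prod.ext (Subtype.ext ha) (Subtype.ext hb)
    · obtain ⟨a, ha, b, hb, e⟩ := Submodule.mem_sup.1 x.2
      exact ⟨(⟨a, ha⟩, ⟨b, hb⟩), Subtype.ext e⟩
  exact ⟨_, (h.prod h').map (Equiv.ofBijective f hf) fun p =>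
    map_add_of_perp ((QuadraticMap.polar_comm Q _ _).trans (hB p.2.2 _ p.1.2))⟩

theorem exists_prof' {W : Submodule F V} (hW : Nondeg Q W) {h : ℕ} (hd : finrank F W = 2 * h) :
    ∃ N E, Prof ⇑(res Q W) N E := by
  by_cases hp : Plus Q W
  · obtain ⟨N, hN⟩ := (exists_prof hW hd).1 hp; exact ⟨N, _, hN⟩
  · obtain ⟨N, hN⟩ := (exists_prof hW hd).2 hp; exact ⟨N, _, hN⟩

/-- Two of the three being free forces the third. -/
theorem free_sup {A B : Submodule F V} (hA : Nondeg Q A) (hB : Nondeg Q B) (hp : B ≤ perp Q A)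
    (hfA : Free Q r A) :
    (Free Q r B → Free Q r (A ⊔ B)) ∧ (Free Q r (A ⊔ B) → Free Q r B) := by
  have hd := finrank_sup hA hp
  obtain ⟨a, ha⟩ := free_half hfA
  obtain ⟨N, E, hN⟩ := exists_prof' hA ha
  have h1 := hfA.2 _ _ hN
  constructor
  · intro hfB
    refine ⟨hd ▸ dvd_add hfA.1 hfB.1, fun K G hG => ?_⟩
    obtain ⟨b, hb⟩ := free_half hfB
    obtain ⟨M, E', hM⟩ := exists_prof' hB hb
    obtain ⟨K', hK'⟩ := prof_sup hA hp hN hM
    rw [Prof.unique hG hK']
    have h2 := hfB.2 _ _ hM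
    have := dvd_add (dvd_mul_of_dvd_left h1 E') h2
    rwa [show (E - 1) * E' + (E' - 1) = E * E' - 1 by ring] at this
  · intro hfS
    refine ⟨(Nat.dvd_add_right hfA.1).1 (hd ▸ hfS.1), fun M E' hM => ?_⟩
    obtain ⟨K', hK'⟩ := prof_sup hA hp hN hM
    have h2 := hfS.2 _ _ hK'
    have := dvd_sub h2 (dvd_mul_of_dvd_left h1 E')
    rwa [show E * E' - 1 - (E - 1) * E' = E' - 1 by ring] at this

/-- Some subspace of the class of `T` is invariant. -/
def Fix (Q : QuadraticForm F V) (g : Module.End F V) (T : Submodule F V) : Prop :=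
  ∃ W, Nondeg Q W ∧ (∀ v ∈ W, g v ∈ W) ∧ Congr Q W T

variable {g : Module.End F V}

/-- Blocks with a proper part of the fixed space. -/
theorem mix (hi : Iso Q r g) (hr2 : r ≠ 2) (hQ : (polarBilin Q).Nondegenerate) {T : Submodule F V}
    (hT : Nondeg Q T) (hpar : (2 : F) ≠ 0 ∨ Even (finrank F T)) {j : ℕ}
    (hj : j * blockDim F r ≤ finrank F ↥(LinearMap.range (g - 1)))
    (h1 : j * blockDim F r < finrank F T)
    (h2 : finrank F T < j * blockDim F r + finrank F ↥(fixedSp g)) : Fix Q g T := by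
  have hn := hi.nd_fixed (QuadClassify.nondeg_top hQ) (fun v _ => Submodule.mem_top (x := g v))
  rw [top_inf_eq, top_inf_eq] at hn
  obtain ⟨R, hR, hRn, hRg, hRd⟩ := (hi.exists_free hr2 _ _ rfl hn.2 hi.range_inv le_rfl).2 j hj
  obtain ⟨A, B, hA, hB, hAn, hBn, hAd, hBd, hne⟩ := exists_two (finrank F T - j * blockDim F r) (fixedSp g)
    hn.1 (by omega) (by omega) (hpar.imp_right fun h => (Nat.even_sub (by omega)).2
      (iff_of_true h ((blockDim_even (F := F) (r := r)).mul_left j)))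
  have hRA : ∀ {A : Submodule F V}, A ≤ fixedSp g → R ≤ perp Q A := fun hA x hx w hw =>
    hi.fixed_perp_range (hR hx) w (hA hw)
  have hinv : ∀ {A : Submodule F V}, A ≤ fixedSp g → ∀ v ∈ A ⊔ R, g v ∈ A ⊔ R := fun {A} hA =>
    inv_sup (fun v hv => by rw [mem_fixedSp.1 (hA hv)]; exact hv) hRg
  have hcancel : ¬ Congr Q (A ⊔ R) (B ⊔ R) := fun h => hne (by
    have hsub : ∀ {A : Submodule F V}, Nondeg Q A → A ≤ fixedSp g → (A ⊔ R) ⊓ perp Q R = A := by
      intro A _ hAK
      refine le_antisymm ?_ (le_inf le_sup_left (le_perp_comm (hRA hAK)))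
      rintro z ⟨hz, hz'⟩
      obtain ⟨a, ha, b, hb, rfl⟩ := Submodule.mem_sup.1 hz
      have hb0 : b = 0 := (Submodule.eq_bot_iff _).1 (inf_perp_eq_bot hRn) _
        ⟨hb, by simpa using Submodule.sub_mem _ hz' (le_perp_comm (hRA hAK) ha)⟩
      rw [hb0, add_zero]; exact ha
    obtain ⟨e, he⟩ := h
    let R' : Submodule F V := ((R.comap (A ⊔ R).subtype).map (e : _ →ₗ[F] _)).map (B ⊔ R).subtype
    have hR' : Congr Q R R' :=
      ⟨((Submodule.comapSubtypeEquivOfLe (le_sup_right : R ≤ A ⊔ R)).symm.trans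
          (e.submoduleMap _)).trans (Submodule.equivMapOfInjective _ (Submodule.injective_subtype _) _),
        fun w => he _⟩
    have h1 := congr_compl (nd_sup hBn hRn (hRA hB)) le_sup_right (Submodule.map_subtype_le _ _) hR'
    rw [hsub hBn hB] at h1
    refine Congr.trans ?_ h1.symm
    refine (show Congr Q A ((A ⊔ R) ⊓ perp Q R) by rw [hsub hAn hA]; exact Congr.refl _).trans ?_
    have hpol : ∀ a b : ↥(A ⊔ R), polar Q ((e a : _) : V) (e b : _) = polar Q (a : V) b := fun a b => by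
      simp only [polar, ← Submodule.coe_add, ← map_add, he]
    let L : ↥((A ⊔ R) ⊓ perp Q R) →ₗ[F] ↥((B ⊔ R) ⊓ perp Q R') :=
      LinearMap.codRestrict _ ((B ⊔ R).subtype.comp (e.toLinearMap.comp (Submodule.inclusion inf_le_left)))
        fun w => ⟨(e _).2, by
          rintro _ ⟨_, ⟨z, hz, rfl⟩, rfl⟩
          exact (hpol _ _).trans (w.2.2 _ hz)⟩
    have hinj : Function.Injective L := fun x y h => by
      have h' := congrArg (Subtype.val) h
      exact Submodule.inclusion_injective _ (e.injective (Submodule.injective_subtype _ h'))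
    refine ⟨LinearEquiv.ofBijective L ⟨hinj, (LinearMap.injective_iff_surjective_of_finrank_eq_finrank
      (by rw [hsub hAn hA, ← h1.finrank_eq]; omega)).1 hinj⟩, fun w => he _⟩)
  have hsA := nd_sup hAn hRn (hRA hA)
  have hsB := nd_sup hBn hRn (hRA hB)
  rcases congr_of_two hsA hsB hT (m := finrank F T) (by rw [finrank_sup hAn (hRA hA)]; omega)
      (by rw [finrank_sup hBn (hRA hB)]; omega) rfl hcancel with h | h
  exacts [⟨_, hsA, hinv hA, h⟩, ⟨_, hsB, hinv hB, h⟩]

/-- The sufficient conditions. -/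
theorem fix_of (hi : Iso Q r g) (hr2 : r ≠ 2) (hQ : (polarBilin Q).Nondegenerate) {T : Submodule F V}
    (hT : Nondeg Q T) (hpar : (2 : F) ≠ 0 ∨ Even (finrank F T)) (hm : 1 ≤ finrank F T)
    (hmn : finrank F T < finrank F V)
    (h : Free Q r T ∨ Free Q r (perp Q T) ∨
      (0 < finrank F T % blockDim F r ∧ finrank F T % blockDim F r < finrank F ↥(fixedSp g))) :
    Fix Q g T := by
  have hn := hi.nd_fixed (QuadClassify.nondeg_top hQ) (fun v _ => Submodule.mem_top (x := g v))
  have hdim := hi.finrank_decompose (W := ⊤) (fun v _ => Submodule.mem_top (x := g v))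
  rw [top_inf_eq, top_inf_eq] at hn
  rw [top_inf_eq, top_inf_eq, finrank_top] at hdim
  obtain ⟨⟨J, hJ⟩, hfree⟩ := hi.exists_free hr2 _ _ rfl hn.2 hi.range_inv le_rfl
  have hc := blockDim_pos (F := F) (r := r) hi.hr
  have hdm := Nat.div_add_mod (finrank F T) (blockDim F r)
  by_cases hbig : J < (finrank F T) / (blockDim F r)
  · have h1 : (blockDim F r) * (J + 1) ≤ (blockDim F r) * ((finrank F T) / (blockDim F r)) := Nat.mul_le_mul_left _ hbig
    rw [Nat.mul_succ] at h1
    exact mix hi hr2 hQ hT hpar (j := J) (by rw [hJ, mul_comm]) (by rw [mul_comm]; omega)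
      (by rw [mul_comm]; omega)
  have hle : (blockDim F r) * ((finrank F T) / (blockDim F r)) ≤ (blockDim F r) * J := Nat.mul_le_mul_left _ (not_lt.1 hbig)
  rcases h with hfT | hfT | ⟨h1, h2⟩
  · obtain ⟨R, hR, hRn, hRg, hRd⟩ := hfree ((finrank F T) / (blockDim F r)) (by rw [hJ, mul_comm]; exact hle)
    refine ⟨R, hRn, hRg, free_congr hr2 hRn hT ?_ (free_of_iso hi hr2 hRn hRg hR) hfT⟩
    rw [hRd, Nat.div_mul_cancel hfT.1]
  · obtain ⟨hPn, hPd, hPP⟩ := nd_perp hQ hT
    obtain ⟨t, ht⟩ := hfT.1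
    by_cases hbig' : J < t
    · have h1 : (blockDim F r) * (J + 1) ≤ (blockDim F r) * t := Nat.mul_le_mul_left _ hbig'
      rw [Nat.mul_succ] at h1
      exact mix hi hr2 hQ hT hpar (j := 0) (by simp) (by omega) (by rw [zero_mul]; omega)
    obtain ⟨R, hR, hRn, hRg, hRd⟩ := hfree t (by rw [hJ, mul_comm]; exact Nat.mul_le_mul_left _ (not_lt.1 hbig'))
    refine ⟨perp Q R, (nd_perp hQ hRn).1, hi.inv_perp hRg, ?_⟩
    have := congr_perp hQ (free_congr hr2 hRn hPn (by rw [hRd, ht, mul_comm]) (free_of_iso hi hr2 hRn hRg hR) hfT)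
    rwa [hPP] at this
  · exact mix hi hr2 hQ hT hpar (j := (finrank F T) / (blockDim F r)) (by rw [hJ, mul_comm]; exact hle) (by rw [mul_comm]; omega)
      (by rw [mul_comm]; omega)

/-- The necessary conditions, for a small fixed space. -/
theorem cond_of_fix (hi : Iso Q r g) (hr2 : r ≠ 2) (hQ : (polarBilin Q).Nondegenerate) {T : Submodule F V}
    (hf : finrank F ↥(fixedSp g) ≤ blockDim F r) (h : Fix Q g T) :
    Free Q r T ∨ Free Q r (perp Q T) ∨
      (0 < finrank F T % blockDim F r ∧ finrank F T % blockDim F r < finrank F ↥(fixedSp g)) := by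
  obtain ⟨W, hW, hWg, hWT⟩ := h
  have hmod := hi.finrank_modEq hr2 hW hWg
  rw [hWT.finrank_eq] at hmod
  have hle : finrank F ↥(W ⊓ fixedSp g) ≤ finrank F ↥(fixedSp g) := Submodule.finrank_mono inf_le_right
  rcases Nat.eq_zero_or_pos (finrank F ↥(W ⊓ fixedSp g)) with h0 | hpos
  · have hWR : W ≤ LinearMap.range (g - 1) := by
      rw [← hi.decompose hWg, Submodule.finrank_eq_zero.1 h0, bot_sup_eq]; exact inf_le_right
    exact Or.inl (free_of_congr hWT (free_of_iso hi hr2 hW hWg hWR))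
  rcases hle.lt_or_eq with hlt | heq
  · refine Or.inr (Or.inr ?_)
    rw [hmod, Nat.mod_eq_of_lt (by omega)]
    exact ⟨hpos, hlt⟩
  · have hK : fixedSp g ≤ W := inf_eq_right.1 (Submodule.eq_of_le_of_finrank_eq inf_le_right heq)
    have hn := hi.nd_fixed (QuadClassify.nondeg_top hQ) (fun v _ => Submodule.mem_top (x := g v))
    have hdim := hi.finrank_decompose (W := ⊤) (fun v _ => Submodule.mem_top (x := g v))
    rw [top_inf_eq, top_inf_eq] at hn
    rw [top_inf_eq, top_inf_eq, finrank_top] at hdim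
    have hRK : LinearMap.range (g - 1) = perp Q (fixedSp g) := by
      refine Submodule.eq_of_le_of_finrank_eq hi.fixed_perp_range ?_
      have := (nd_perp hQ hn.1).2.1
      omega
    refine Or.inr (Or.inl (free_of_congr (congr_perp hQ hWT)
      (free_of_iso hi hr2 (nd_perp hQ hW).1 (hi.inv_perp hWg) ?_)))
    rw [hRK]
    exact fun x hx w hw => hx w (hK hw)

theorem iso_one (hr : (r : F) ≠ 0) : Iso Q r (1 : Module.End F V) := ⟨fun _ => rfl, one_pow r, hr⟩

/-- An element with smallest possible fixed space. -/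
theorem exists_element (hQ : (polarBilin Q).Nondegenerate) (hr2 : r ≠ 2)
    {g₀ : Module.End F V} (hi₀ : Iso Q r g₀) (hne : g₀ ≠ 1) :
    ∀ (n : ℕ) (W : Submodule F V), finrank F W = n → Nondeg Q W →
      ∃ g, Iso Q r g ∧ (∀ v ∈ W, g v ∈ W) ∧ (∀ v ∈ perp Q W, g v = v) ∧
        finrank F ↥(W ⊓ fixedSp g) ≤ blockDim F r ∧ (Free Q r W → W ⊓ fixedSp g = ⊥) := by
  have hc := blockDim_pos (F := F) (r := r) hi₀.hr
  obtain ⟨P₀, hP₀, hP₀n, hP₀g, hP₀d⟩ := hi₀.exists_block hr2 (QuadClassify.nondeg_top hQ)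
    (fun v _ => Submodule.mem_top (x := g₀ v)) (by
      rw [top_inf_eq, Ne, LinearMap.range_eq_bot, sub_eq_zero]; exact hne)
  rw [top_inf_eq] at hP₀
  intro n
  induction n using Nat.strong_induction_on with
  | _ n ih =>
    intro W hn hW
    have triv : finrank F W ≤ blockDim F r → (Free Q r W → W = ⊥) →
        ∃ g, Iso Q r g ∧ (∀ v ∈ W, g v ∈ W) ∧ (∀ v ∈ perp Q W, g v = v) ∧
          finrank F ↥(W ⊓ fixedSp g) ≤ blockDim F r ∧ (Free Q r W → W ⊓ fixedSp g = ⊥) := fun h1 h2 =>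
      ⟨1, iso_one hi₀.hr, fun v hv => hv, fun v _ => rfl,
        (Submodule.finrank_mono inf_le_left).trans h1, fun hf => by rw [h2 hf, bot_inf_eq]⟩
    by_cases hP' : ∃ P ≤ W, Nondeg Q P ∧ Congr Q P₀ P
    swap
    · rcases lt_trichotomy (finrank F W) (blockDim F r) with hlt | heq | hgt
      · refine triv hlt.le fun hf => Submodule.finrank_eq_zero.1 ?_
        exact Nat.eq_zero_of_dvd_of_lt hf.1 hlt
      · refine triv heq.le fun hf => ?_
        exact absurd ⟨W, le_rfl, hW, free_congr hr2 hP₀n hW (hP₀d.trans heq.symm)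
          (free_of_iso hi₀ hr2 hP₀n hP₀g hP₀) hf⟩ hP'
      · obtain ⟨A, hA, hAn, hAc⟩ := exists_class hW hP₀n hP₀d hc hgt (Or.inr blockDim_even)
        exact absurd ⟨A, hA, hAn, hAc.symm⟩ hP'
    obtain ⟨P, hPW, hPn, hPc⟩ := hP'
    obtain ⟨hsup, hn', hdim⟩ := split hPW hPn hW
    have hPd : finrank F P = blockDim F r := hPc.finrank_eq.symm.trans hP₀d
    obtain ⟨g', hg', hg'W, hg'fix, hg'K, hg'free⟩ := ih _ (by omega) _ rfl hn'
    have hg'P : ∀ v ∈ P, g' v = v := fun v hv => hg'fix v fun w hw =>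
      (QuadraticMap.polar_comm Q v w).trans (hw.2 v hv)
    have hg'perp := hg'.inv_perp (fun v hv => (hg'P v hv).symm ▸ hv)
    obtain ⟨e, he⟩ := hPc
    let A : Module.End F P := e.toLinearMap ∘ₗ (g₀.restrict hP₀g) ∘ₗ e.symm.toLinearMap
    have hAQ : ∀ a : P, Q (A a : V) = Q (a : V) := fun a => by
      show Q (e (g₀.restrict hP₀g (e.symm a)) : V) = _
      rw [he]
      conv_rhs => rw [← e.apply_symm_apply a, he]
      exact hi₀.form _
    have hAr : ∀ a, (A ^ r) a = a := by
      have hk : ∀ (k : ℕ) a, (A ^ k) a = e ((g₀.restrict hP₀g ^ k) (e.symm a)) := by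
        intro k
        induction k with
        | zero => intro a; simp
        | succ k ihk =>
          intro a
          rw [pow_succ', Module.End.mul_apply, ihk, pow_succ', Module.End.mul_apply]
          simp [A]
      intro a
      rw [hk, DecompPerm84.restrict_pow_one hi₀.pow hP₀g, Module.End.one_apply, e.apply_symm_apply]
    have hAfree : ∀ a, A a = a → a = 0 := fun a ha => by
      have h0 : g₀.restrict hP₀g (e.symm a) = e.symm a := e.injective (by rw [e.apply_symm_apply]; exact ha)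
      have h1 : ((e.symm a : P₀) : V) = 0 := (Submodule.eq_bot_iff _).1 (hi₀.fixed_eq_bot hP₀) _
        ⟨(e.symm a).2, mem_fixedSp.2 (congrArg Subtype.val h0)⟩
      exact e.symm.map_eq_zero_iff.1 (Subtype.ext h1)
    have hcompl : IsCompl P (perp Q P) :=
      ⟨disjoint_iff.2 (inf_perp_eq_bot hPn), codisjoint_iff.2 (sup_perp_eq_top hPn)⟩
    let g : Module.End F V := LinearMap.ofIsCompl hcompl (P.subtype ∘ₗ A) (g' ∘ₗ (perp Q P).subtype)
    have hgP : ∀ a : P, g a = A a := fun a => LinearMap.ofIsCompl_left_apply hcompl a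
    have hgB : ∀ b ∈ perp Q P, g b = g' b := fun b hb =>
      LinearMap.ofIsCompl_right_apply hcompl (⟨b, hb⟩ : perp Q P)
    have hdec : ∀ v : V, ∃ a ∈ P, ∃ b ∈ perp Q P, v = a + b := fun v => by
      obtain ⟨a, ha, b, hb, e⟩ := Submodule.mem_sup.1 ((sup_perp_eq_top hPn).ge (Submodule.mem_top (x := v)))
      exact ⟨a, ha, b, hb, e.symm⟩
    have hpow : ∀ (k : ℕ) (a : P), (g ^ k) a = (A ^ k) a := by
      intro k
      induction k with
      | zero => intro a; rfl
      | succ k ihk => intro a; rw [pow_succ', Module.End.mul_apply, ihk, hgP, pow_succ', Module.End.mul_apply]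
    have hpowB : ∀ (k : ℕ), ∀ b ∈ perp Q P, (g ^ k) b = (g' ^ k) b := by
      intro k
      induction k with
      | zero => intro b _; rfl
      | succ k ihk =>
        intro b hb
        rw [pow_succ', Module.End.mul_apply, ihk b hb, hgB _ (OrthBlocks61.pow_mem hg'perp hb k), pow_succ',
          Module.End.mul_apply]
    have hi : Iso Q r g := by
      refine ⟨fun v => ?_, LinearMap.ext fun v => ?_, hi₀.hr⟩
      · obtain ⟨a, ha, b, hb, rfl⟩ := hdec v
        rw [map_add, show g a = (A ⟨a, ha⟩ : V) from hgP ⟨a, ha⟩, hgB b hb,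
          map_add_of_perp ((QuadraticMap.polar_comm Q _ _).trans (hg'perp b hb _ (A ⟨a, ha⟩).2)),
          map_add_of_perp ((QuadraticMap.polar_comm Q _ _).trans (hb a ha)), hAQ, hg'.form]
      · obtain ⟨a, ha, b, hb, rfl⟩ := hdec v
        rw [map_add, show (g ^ r) a = (((A ^ r) ⟨a, ha⟩ : P) : V) from hpow r ⟨a, ha⟩, hpowB r b hb, hAr,
          hg'.pow]
        rfl
    have hK : W ⊓ fixedSp g ≤ W ⊓ perp Q P ⊓ fixedSp g' := by
      rintro w ⟨hw, hwK⟩
      rw [← hsup] at hw
      obtain ⟨a, ha, b, hb, rfl⟩ := Submodule.mem_sup.1 hw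
      have h := mem_fixedSp.1 hwK
      rw [map_add, show g a = (A ⟨a, ha⟩ : V) from hgP ⟨a, ha⟩, hgB b hb.2] at h
      have ha' : (A ⟨a, ha⟩ : V) - a = 0 := (Submodule.eq_bot_iff _).1 (inf_perp_eq_bot hPn) _
        ⟨P.sub_mem (A ⟨a, ha⟩).2 ha, by
          rw [show (A ⟨a, ha⟩ : V) - a = b - g' b by linear_combination (norm := module) h]
          exact Submodule.sub_mem _ hb.2 (hg'perp b hb.2)⟩
      have ha0 : a = 0 := congrArg Subtype.val (hAfree ⟨a, ha⟩ (Subtype.ext (sub_eq_zero.1 ha')))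
      rw [sub_eq_zero.1 ha', add_left_cancel_iff] at h
      rw [ha0, zero_add]
      exact ⟨hb, mem_fixedSp.2 h⟩
    refine ⟨g, hi, ?_, ?_, (Submodule.finrank_mono hK).trans hg'K, fun hf => le_bot_iff.1 ?_⟩
    · intro v hv
      rw [← hsup] at hv ⊢
      obtain ⟨a, ha, b, hb, rfl⟩ := Submodule.mem_sup.1 hv
      rw [map_add, show g a = (A ⟨a, ha⟩ : V) from hgP ⟨a, ha⟩, hgB b hb.2]
      exact Submodule.add_mem_sup (A ⟨a, ha⟩).2 (hg'W b hb)
    · intro v hv
      rw [hgB v fun w hw => hv w (hPW hw)]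
      exact hg'fix v fun w hw => hv w hw.1
    · refine hK.trans (hg'free ?_).le
      refine (free_sup hPn hn' inf_le_right ?_).2 (by rwa [hsup])
      exact free_of_congr ⟨e, he⟩ (free_of_iso hi₀ hr2 hP₀n hP₀g hP₀)

/-! ### The count -/

/-- Nondegenerate subspaces of the class of `T`. -/
abbrev Cls (Q : QuadraticForm F V) (T : Submodule F V) :=
  {W : Submodule F V // Nondeg Q W ∧ Congr Q W T}

theorem exists_map (hQ : (polarBilin Q).Nondegenerate) {W W' : Submodule F V} (h : Congr Q W W') :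
    ∃ k : orth Q, W.map (k.1 : V →ₗ[F] V) = W' := by
  obtain ⟨e, he⟩ := h
  obtain ⟨g, hg, hgW⟩ := Witt.quad_extend Q hQ W (W'.subtype ∘ₗ e.toLinearMap)
    (fun a b h => e.injective (Submodule.injective_subtype _ h)) he
  refine ⟨⟨g, hg⟩, le_antisymm ?_ fun x hx => ⟨(e.symm ⟨x, hx⟩ : W), (e.symm ⟨x, hx⟩).2, ?_⟩⟩
  · rintro _ ⟨x, hx, rfl⟩
    show g x ∈ W'
    rw [hgW ⟨x, hx⟩]
    exact (e ⟨x, hx⟩).2
  · show g ((e.symm ⟨x, hx⟩ : W) : V) = x
    rw [hgW]
    show ((e (e.symm ⟨x, hx⟩) : W') : V) = x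
    rw [e.apply_symm_apply]

theorem coe_pow_orth (k : orth Q) (n : ℕ) :
    (((k ^ n : orth Q).1 : V ≃ₗ[F] V) : Module.End F V) = ((k.1 : V ≃ₗ[F] V) : Module.End F V) ^ n := by
  induction n with
  | zero => rfl
  | succ n ih => rw [pow_succ, pow_succ, ← ih]; rfl

/-- An element of order `r` in the orthogonal group. -/
theorem exists_iso (hr : (r : F) ≠ 0) (h : r ∣ Nat.card (orth Q)) :
    ∃ g : Module.End F V, Iso Q r g ∧ g ≠ 1 := by
  haveI : Finite V := Module.finite_of_finite F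
  haveI := finite_orth Q
  obtain ⟨k, hk⟩ := exists_prime_orderOf_dvd_card' r h
  refine ⟨((k.1 : V ≃ₗ[F] V) : Module.End F V), ⟨fun v => k.2 v, ?_, hr⟩, fun e => ?_⟩
  · rw [← coe_pow_orth, ← hk, pow_orderOf_eq_one]; rfl
  · have : k = 1 := Subtype.ext (LinearEquiv.toLinearMap_injective e)
    rw [this, orderOf_one] at hk
    exact (Fact.out : r.Prime).ne_one hk.symm

/-- The class is an orbit. -/
theorem card_cls_dvd (hQ : (polarBilin Q).Nondegenerate) {T : Submodule F V} (hT : Nondeg Q T) :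
    Nat.card (Cls Q T) ∣ Nat.card (orth Q) := by
  haveI : Finite V := Module.finite_of_finite F
  haveI := finite_orth Q
  let : MulAction (orth Q) (Cls Q T) :=
    { smul := fun k W => ⟨W.1.map (k.1 : V →ₗ[F] V), ((Congr.map k.1 k.2 W.1).nd W.2.1),
        (Congr.map k.1 k.2 W.1).symm.trans W.2.2⟩
      one_smul := fun W => Subtype.ext (Submodule.map_id W.1)
      mul_smul := fun a b W => Subtype.ext (Submodule.map_comp _ _ W.1) }
  have : MulAction.IsPretransitive (orth Q) (Cls Q T) := ⟨fun A B => by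
    obtain ⟨k, hk⟩ := exists_map hQ (A.2.2.trans B.2.2.symm)
    exact ⟨k, Subtype.ext hk⟩⟩
  rw [← MulAction.index_stabilizer_of_transitive (orth Q) (⟨T, hT, Congr.refl T⟩ : Cls Q T)]
  exact Subgroup.index_dvd_card _

theorem exists_of_dvd (hQ : (polarBilin Q).Nondegenerate) (hr : (r : F) ≠ 0) {T : Submodule F V}
    (hT : Nondeg Q T) (h : r ∣ Nat.card (Cls Q T)) :
    ∃ g : Module.End F V, Iso Q r g ∧ g ≠ 1 :=
  exists_iso hr (h.trans (card_cls_dvd hQ hT))

/-- When every element stabilises a member of the class, a block fits into it. -/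
theorem blockDim_le (hQ : (polarBilin Q).Nondegenerate) (hr2 : r ≠ 2) {T : Submodule F V}
    (hT : Nondeg Q T) (hΩ : r ∣ Nat.card (Cls Q T)) (hi : Iso Q r g)
    (hf : finrank F ↥(fixedSp g) ≤ blockDim F r)
    (hfree : Free Q r (⊤ : Submodule F V) → fixedSp g = ⊥) (hfix : Fix Q g T) :
    blockDim F r ≤ finrank F T := by
  haveI : Finite V := Module.finite_of_finite F
  by_contra hlt
  rw [not_le] at hlt
  have hc := blockDim_pos (F := F) (r := r) hi.hr
  have hn := hi.nd_fixed (QuadClassify.nondeg_top hQ) (fun v _ => Submodule.mem_top (x := g v))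
  rw [top_inf_eq, top_inf_eq] at hn
  set K := fixedSp g with hKdef
  have hinK : ∀ W : Submodule F V, Nondeg Q W → Congr Q W T → (∀ v ∈ W, g v ∈ W) → W ≤ K := by
    intro W hW hWT hWg
    have hd := (hi.exists_free hr2 _ (W ⊓ LinearMap.range (g - 1)) rfl (hi.nd_fixed hW hWg).2
      (fun v hv => ⟨hWg v hv.1, hi.range_inv v hv.2⟩) inf_le_right).1
    have h0 : W ⊓ LinearMap.range (g - 1) = ⊥ := Submodule.finrank_eq_zero.1
      (Nat.eq_zero_of_dvd_of_lt hd (lt_of_le_of_lt (Submodule.finrank_mono inf_le_left)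
        (hWT.finrank_eq ▸ hlt)))
    rw [← hi.decompose hWg, h0, sup_bot_eq]
    exact inf_le_right
  -- the fixed points
  let φ : Function.End (Cls Q T) := fun W => ⟨W.1.map g, by
    have hginj := hi.injective
    let e : V ≃ₗ[F] V := LinearEquiv.ofInjectiveEndo g hginj
    have h := Congr.map (Q := Q) e hi.form W.1
    exact ⟨h.nd W.2.1, h.symm.trans W.2.2⟩⟩
  have hφ : φ ^ r ^ 1 = 1 := by
    have hk : ∀ (k : ℕ) (W : Cls Q T), ((φ ^ k) W).1 = W.1.map (g ^ k) := by
      intro k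
      induction k with
      | zero => intro W; exact (Submodule.map_id W.1).symm
      | succ k ih =>
        intro W
        rw [pow_succ' φ, pow_succ' g]
        show Submodule.map g (((φ ^ k) W).1) = W.1.map (g * g ^ k)
        rw [ih, ← Submodule.map_comp]
        rfl
    exact funext fun W => Subtype.ext (by rw [pow_one, hk, hi.pow]; exact Submodule.map_id W.1)
  classical
  haveI : Fintype (Cls Q T) := Fintype.ofFinite _
  have hmod := Equiv.Perm.card_fixedPoints_modEq (f := φ) hφ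
  rw [← Nat.card_eq_fintype_card (α := Cls Q T)] at hmod
  have hdvd : r ∣ Fintype.card (Function.fixedPoints φ) :=
    Nat.modEq_zero_iff_dvd.1 (hmod.symm.trans (Nat.modEq_zero_iff_dvd.2 hΩ))
  obtain ⟨W₀, hW₀, hW₀g, hW₀T⟩ := hfix
  have hW₀K := hinK W₀ hW₀ hW₀T hW₀g
  set QK := res Q K
  have hQK := res_nd hn.1
  let T₀ : Submodule F K := W₀.comap K.subtype
  have hlift : ∀ {A B : Submodule F K}, Congr QK A B ↔ Congr Q (A.map K.subtype) (B.map K.subtype) := by
    intro A B
    let a := Submodule.equivMapOfInjective K.subtype K.injective_subtype A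
    let b := Submodule.equivMapOfInjective K.subtype K.injective_subtype B
    constructor
    · rintro ⟨e, he⟩
      exact ⟨(a.symm.trans e).trans b, fun w => by
        conv_rhs => rw [← a.apply_symm_apply w]
        exact he (a.symm w)⟩
    · rintro ⟨e, he⟩
      exact ⟨(a.trans e).trans b.symm, fun w => by
        have := he (a w)
        conv_lhs at this => rw [← b.apply_symm_apply (e (a w))]
        exact this⟩
  have hmapK : ∀ {W : Submodule F V}, W ≤ K → (W.comap K.subtype).map K.subtype = W := fun hW => by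
    rw [Submodule.map_comap_subtype, inf_eq_right.2 hW]
  have hndK : ∀ {W : Submodule F V}, W ≤ K → Nondeg Q W → Nondeg QK (W.comap K.subtype) :=
    fun hW hn u hu h => Subtype.ext (hn u.1 hu fun v hv => h ⟨v, hW hv⟩ hv)
  let e : Function.fixedPoints φ ≃ Cls QK T₀ :=
    { toFun := fun W => ⟨W.1.1.comap K.subtype, by
        have hg' : ∀ v ∈ W.1.1, g v ∈ W.1.1 := fun v hv =>
          (congrArg Subtype.val W.2).le ⟨v, hv, rfl⟩
        have hle := hinK _ W.1.2.1 W.1.2.2 hg'
        refine ⟨hndK hle W.1.2.1, hlift.2 ?_⟩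
        rw [hmapK hle, hmapK hW₀K]
        exact W.1.2.2.trans hW₀T.symm⟩
      invFun := fun W => ⟨⟨W.1.map K.subtype, by
        refine ⟨fun u hu h => ?_, ?_⟩
        · obtain ⟨u, hu, rfl⟩ := hu
          rw [W.2.1 u hu fun v hv => h v.1 ⟨v, hv, rfl⟩, map_zero]
        · have := hlift.1 W.2.2
          rw [hmapK hW₀K] at this
          exact this.trans hW₀T⟩, Subtype.ext (by
        show (W.1.map K.subtype).map g = W.1.map K.subtype
        rw [← Submodule.map_comp]
        congr 1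
        exact LinearMap.ext fun v => mem_fixedSp.1 v.2)⟩
      left_inv := fun W => Subtype.ext (Subtype.ext (hmapK (hinK _ W.1.2.1 W.1.2.2
        fun v hv => (congrArg Subtype.val W.2).le ⟨v, hv, rfl⟩)))
      right_inv := fun W => Subtype.ext (Submodule.comap_map_eq_of_injective K.injective_subtype W.1) }
  rw [← Nat.card_eq_fintype_card, Nat.card_congr e] at hdvd
  obtain ⟨h, hh, hh1⟩ := exists_of_dvd hQK hi.hr (hndK hW₀K hW₀) hdvd
  have htop : (⊤ : Submodule F K) ⊓ LinearMap.range (h - 1) ≠ ⊥ := by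
    rw [top_inf_eq, Ne, LinearMap.range_eq_bot, sub_eq_zero]; exact hh1
  obtain ⟨P, hP, hPn, hPh, hPd⟩ := hh.exists_block hr2 (QuadClassify.nondeg_top hQK)
    (fun v _ => Submodule.mem_top (x := h v)) htop
  have hPtop : P = ⊤ := Submodule.eq_top_of_finrank_eq (le_antisymm (Submodule.finrank_le P) (by
    rw [hPd]; exact hf))
  have hfK : Free Q r K := by
    have hfP := free_of_iso hh hr2 hPn hPh (hP.trans inf_le_right)
    rw [hPtop] at hfP
    refine ⟨by rw [← finrank_top (R := F) (M := K)]; exact hfP.1, fun N E hPr => hfP.2 N E ?_⟩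
    exact hPr.map (Submodule.topEquiv (R := F) (M := K)).symm.toEquiv fun w => rfl
  have hKbot : K = ⊥ := hfree (by
    have h2 := hi.decompose (W := ⊤) (fun v _ => Submodule.mem_top (x := g v))
    rw [top_inf_eq, top_inf_eq] at h2
    rw [← h2]
    exact (free_sup hn.1 hn.2 hi.fixed_perp_range hfK).1 (free_of_iso hi hr2 hn.2 hi.range_inv le_rfl))
  have : finrank F K = blockDim F r := by
    rw [← finrank_top (R := F) (M := K), ← hPtop, hPd]
  rw [hKbot, finrank_bot] at this
  omega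

end Cfsg.Agent.OrthSubspaceFix61
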