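import Mathlib
import Cfsg.Prelude.Def_GeometricClasses
import Cfsg.Agent.Lib.OrthSubspaceFix61
import Cfsg.Agent.Lib.OmegaClasses
import Cfsg.Agent.Lib.OmegaGeo

/-!
From matrices in the commutator subgroup to isometries, and the criterion in arithmetic form.
-/

set_option autoImplicit false
set_option linter.unusedSectionVars false

namespace Cfsg.Agent.OrthDerangeBase61

open Module
open QuadraticMap (polar polarBilin)
open Cfsg.Agent.QuadClassify (Nondeg)
open Cfsg.Agent.OrthBlocks61 Cfsg.Agent.OrthIsoClasses61 Cfsg.Agent.OrthSubspaceFix61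
open Cfsg.Agent.OrthUnitaryQuad Cfsg.Agent.OrthUnitaryRefl Cfsg.Agent.OrthUnitaryPrelude

variable {F : Type*} [Field F] [Fintype F]

section Abstract

variable {V : Type*} [AddCommGroup V] [Module F V] [FiniteDimensional F V]
variable {Q : QuadraticForm F V} {r : ℕ} [Fact r.Prime]

/-- The commutator subgroup contains every element of odd order. -/
theorem mem_commutator_of_pow (hgen : reflGroup Q = ⊤) (hr2 : r ≠ 2) (k : orth Q) (h : k ^ r = 1) :
    k ∈ commutator (orth Q) := by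
  set f := Abelianization.of (G := orth Q)
  have hsq : ∀ g : orth Q, f g * f g = 1 := by
    intro g
    have hg : g ∈ reflGroup Q := hgen ▸ Subgroup.mem_top g
    induction hg using Subgroup.closure_induction with
    | mem x hx =>
      obtain ⟨v, hv, rfl⟩ := hx
      rw [← map_mul, refl_sq v hv, map_one]
    | one => rw [map_one, mul_one]
    | mul a b _ _ ha hb => rw [map_mul, mul_mul_mul_comm, ha, hb, one_mul]
    | inv a _ ha => rw [map_inv, ← mul_inv, ha, inv_one]
  obtain ⟨l, hl⟩ := (Fact.out : r.Prime).odd_of_ne_two hr2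
  have h1 : f k ^ r = 1 := by rw [← map_pow, h, map_one]
  rw [hl, pow_succ, pow_mul, pow_two, hsq, one_pow, one_mul] at h1
  rwa [← Abelianization.ker_of, MonoidHom.mem_ker]

/-- The product of the invariants. -/
theorem plus_perp (hQ : (polarBilin Q).Nondegenerate) {T : Submodule F V} (hT : Nondeg Q T) {a b : ℕ}
    (hda : finrank F T = 2 * a) (hV : finrank F V = 2 * (a + b)) :
    Plus Q (perp Q T) ↔ (Plus Q T ↔ Plus Q (⊤ : Submodule F V)) := by
  obtain ⟨hPn, hPd, -⟩ := nd_perp hQ hT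
  have hdb : finrank F ↥(perp Q T) = 2 * b := by omega
  have hsup : T ⊔ perp Q T = ⊤ := sup_perp_eq_top hT
  have htd : finrank F ↥(⊤ : Submodule F V) = 2 * (a + b) := by rw [finrank_top, hV]
  have hq : (0 : ℤ) < (Fintype.card F : ℤ) := by exact_mod_cast Fintype.card_pos
  have key : ∀ {E E' G : ℤ} {N M K : ℤ}, OrthTypeCount73.Prof ⇑(res Q T) N E →
      OrthTypeCount73.Prof ⇑(res Q (perp Q T)) M E' →
      OrthTypeCount73.Prof ⇑(res Q (⊤ : Submodule F V)) K G → E * E' = G := by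
    intro E E' G N M K h1 h2 h3
    obtain ⟨K', hK'⟩ := prof_sup hT le_rfl h1 h2
    rw [hsup] at hK'
    exact OrthTypeCount73.Prof.unique hK' h3
  classical
  have ex : ∀ {W : Submodule F V} {h : ℕ}, Nondeg Q W → finrank F W = 2 * h →
      ∃ N, OrthTypeCount73.Prof ⇑(res Q W) N ((if Plus Q W then 1 else -1) * (Fintype.card F : ℤ) ^ h) := by
    intro W h hW hd
    split_ifs with hp
    · rw [one_mul]; exact (exists_prof hW hd).1 hp
    · rw [neg_one_mul]; exact (exists_prof hW hd).2 hp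
  obtain ⟨N, hN⟩ := ex hT hda
  obtain ⟨M, hM⟩ := ex hPn hdb
  obtain ⟨K, hK⟩ := ex (QuadClassify.nondeg_top hQ) htd
  have h := key hN hM hK
  rw [mul_mul_mul_comm, ← pow_add] at h
  have h' := mul_right_cancel₀ (pow_ne_zero _ hq.ne') h
  by_cases hA : Plus Q T <;> by_cases hB : Plus Q (perp Q T) <;>
    by_cases hC : Plus Q (⊤ : Submodule F V) <;> simp [hA, hB, hC] at h' ⊢

/-- Freeness in arithmetic terms. -/
theorem free_iff (hr : (r : F) ≠ 0) (hr2 : r ≠ 2) {W : Submodule F V} (hW : Nondeg Q W) {i c : ℕ}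
    (hi : i = orderOf (Fintype.card F : ZMod r)) (hc : c = blockDim F r) :
    Free Q r W ↔ c ∣ finrank F W ∧
      ((Odd i ∧ Plus Q W) ∨ (Even i ∧ (Even (finrank F W / i) ↔ Plus Q W))) := by
  subst hc
  have hi0 : 0 < i := hi ▸ PrimeOrderModule84.orderOf_card_pos (F := F) (r := r) hr
  have hr' : r.Prime := Fact.out
  refine ⟨fun hf => ⟨hf.1, ?_⟩, fun ⟨hd, h⟩ => ⟨hd, ?_⟩⟩
  · obtain ⟨h, hh⟩ := free_half hf
    have hdvd : (Plus Q W → (r : ℤ) ∣ (Fintype.card F : ℤ) ^ h - 1) ∧
        (¬ Plus Q W → (r : ℤ) ∣ (Fintype.card F : ℤ) ^ h + 1) := by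
      refine ⟨fun hp => ?_, fun hp => ?_⟩
      · obtain ⟨N, hN⟩ := (exists_prof hW hh).1 hp
        exact hf.2 _ _ hN
      · obtain ⟨N, hN⟩ := (exists_prof hW hh).2 hp
        have := dvd_neg.2 (hf.2 _ _ hN)
        rwa [neg_sub, sub_neg_eq_add, add_comm] at this
    have hs := OrthPrimeOrderClasses73.sign_of_dvd (q := Fintype.card F) (m := h) hi hi0
    rcases Nat.even_or_odd i with hev | hod
    · right
      have hdv : i ∣ 2 * h := by
        have := hf.1
        rwa [hh, blockDim, ← hi, if_pos hev] at this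
      obtain ⟨h1, h2⟩ := hs.2 (Nat.not_odd_iff_even.2 hev) hdv
      refine ⟨hev, fun he => ?_, fun hp => ?_⟩
      · rw [hh] at he
        by_contra hp
        exact OrthPrimeOrderClasses73.not_both hr' hr2 (h1 he) (hdvd.2 hp)
      · rw [hh]
        by_contra he
        exact OrthPrimeOrderClasses73.not_both hr' hr2 (hdvd.1 hp) (h2 (Nat.not_even_iff_odd.1 he))
    · refine Or.inl ⟨hod, ?_⟩
      have hdv : i ∣ h := by
        have := hf.1
        rw [hh, blockDim, ← hi, if_neg (Nat.not_even_iff_odd.2 hod)] at this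
        exact Nat.dvd_of_mul_dvd_mul_left two_pos this
      by_contra hp
      exact OrthPrimeOrderClasses73.not_both hr' hr2 (hs.1 hod hdv) (hdvd.2 hp)
  · intro N E hP
    obtain ⟨t, ht⟩ := hd
    obtain ⟨s, hs'⟩ := blockDim_even (F := F) (r := r)
    obtain ⟨e, hh⟩ : ∃ e, finrank F W = 2 * e := ⟨s * t, by rw [ht, hs']; ring⟩
    have hs := OrthPrimeOrderClasses73.sign_of_dvd (q := Fintype.card F) (m := e) hi hi0
    rcases h with ⟨hod, hp⟩ | ⟨hev, hiff⟩
    · obtain ⟨M, hM⟩ := (exists_prof hW hh).1 hp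
      rw [OrthTypeCount73.Prof.unique hP hM]
      refine hs.1 hod (Nat.dvd_of_mul_dvd_mul_left two_pos ⟨t, ?_⟩)
      rw [← hh, ht, blockDim, ← hi, if_neg (Nat.not_even_iff_odd.2 hod)]
    · have hdv : i ∣ 2 * e := ⟨t, by rw [← hh, ht, blockDim, ← hi, if_pos hev]⟩
      obtain ⟨h1, h2⟩ := hs.2 (Nat.not_odd_iff_even.2 hev) hdv
      rw [hh] at hiff
      by_cases hp : Plus Q W
      · obtain ⟨M, hM⟩ := (exists_prof hW hh).1 hp
        rw [OrthTypeCount73.Prof.unique hP hM]
        exact h1 (hiff.2 hp)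
      · obtain ⟨M, hM⟩ := (exists_prof hW hh).2 hp
        rw [OrthTypeCount73.Prof.unique hP hM]
        have h3 := h2 (Nat.not_even_iff_odd.1 fun he => hp (hiff.1 he))
        rw [show -(Fintype.card F : ℤ) ^ e - 1 = -((Fintype.card F : ℤ) ^ e + 1) by ring]
        exact dvd_neg.2 h3

/-- The condition on the class of `T`. -/
def Cond (Q : QuadraticForm F V) (r : ℕ) (T : Submodule F V) : Prop :=
  Free Q r T ∨ Free Q r (perp Q T) ∨
    (0 < finrank F T % blockDim F r ∧ (finrank F T % blockDim F r < finrank F V % blockDim F r ∨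
      (finrank F V % blockDim F r = 0 ∧ ¬ Free Q r (⊤ : Submodule F V))))

theorem fix_of_cond (hQ : (polarBilin Q).Nondegenerate) (hr2 : r ≠ 2) {T : Submodule F V}
    (hT : Nondeg Q T) (hpar : (2 : F) ≠ 0 ∨ Even (finrank F T)) (hm : 1 ≤ finrank F T)
    (hmn : finrank F T < finrank F V) (h : Cond Q r T) {g : Module.End F V} (hi : Iso Q r g) :
    Fix Q g T := by
  refine fix_of hi hr2 hQ hT hpar hm hmn (h.imp_right (Or.imp_right ?_))
  rintro ⟨h1, h2⟩
  refine ⟨h1, ?_⟩
  have hmod := hi.finrank_modEq hr2 (QuadClassify.nondeg_top hQ) (fun v _ => Submodule.mem_top (x := g v))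
  rw [top_inf_eq, finrank_top] at hmod
  rcases h2 with h2 | ⟨h2, h3⟩
  · exact lt_of_lt_of_le (hmod ▸ h2) (Nat.mod_le _ _)
  · by_contra hle
    refine h3 ?_
    have hf0 : finrank F ↥(fixedSp g) = 0 := by
      have := Nat.mod_lt (finrank F T) (blockDim_pos (F := F) (r := r) hi.hr)
      refine Nat.eq_zero_of_dvd_of_lt (Nat.dvd_of_mod_eq_zero (hmod ▸ h2)) ?_
      omega
    have hd := hi.decompose (W := ⊤) (fun v _ => Submodule.mem_top (x := g v))
    rw [top_inf_eq, top_inf_eq, Submodule.finrank_eq_zero.1 hf0, bot_sup_eq] at hd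
    exact free_of_iso hi hr2 (QuadClassify.nondeg_top hQ) (fun v _ => Submodule.mem_top) hd.ge

theorem allFix_iff (hQ : (polarBilin Q).Nondegenerate) (hr2 : r ≠ 2) (hr : (r : F) ≠ 0)
    {T : Submodule F V} (hT : Nondeg Q T) (hpar : (2 : F) ≠ 0 ∨ Even (finrank F T))
    (hm : 1 ≤ finrank F T) (hmn : finrank F T < finrank F V) (hΩ : r ∣ Nat.card (Cls Q T)) :
    (∀ g : Module.End F V, Iso Q r g → g ≠ 1 → Fix Q g T) ↔
      (blockDim F r ≤ finrank F T ∧ Cond Q r T) := by
  refine ⟨fun hall => ?_, fun h g hi _ => fix_of_cond hQ hr2 hT hpar hm hmn h.2 hi⟩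
  obtain ⟨g₀, hi₀, hne⟩ := exists_of_dvd hQ hr hT hΩ
  obtain ⟨g, hi, -, -, hf, hfree⟩ := exists_element hQ hr2 hi₀ hne _ ⊤ rfl (QuadClassify.nondeg_top hQ)
  rw [top_inf_eq] at hf hfree
  have hg1 : g ≠ 1 := by
    rintro rfl
    have htop : fixedSp (1 : Module.End F V) = ⊤ := eq_top_iff.2 fun v _ => mem_fixedSp.2 rfl
    rw [htop, finrank_top] at hf
    obtain ⟨P, hP, hPn, hPg, hPd⟩ := hi₀.exists_block hr2 (QuadClassify.nondeg_top hQ)
      (fun v _ => Submodule.mem_top (x := g₀ v)) (by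
        rw [top_inf_eq, Ne, LinearMap.range_eq_bot, sub_eq_zero]; exact hne)
    have hPt : P = ⊤ := Submodule.eq_top_of_finrank_eq (le_antisymm (Submodule.finrank_le P) (hPd ▸ hf))
    have hft : Free Q r (⊤ : Submodule F V) := hPt ▸ free_of_iso hi₀ hr2 hPn hPg (hP.trans inf_le_right)
    have hb := hfree hft
    rw [htop] at hb
    have hn0 : finrank F V = 0 := by rw [← finrank_top (R := F) (M := V), hb, finrank_bot]
    omega
  have hfix := hall g hi hg1
  refine ⟨blockDim_le hQ hr2 hT hΩ hi hf hfree hfix,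
    (cond_of_fix hi hr2 hQ hf hfix).imp_right (Or.imp_right ?_)⟩
  rintro ⟨h1, h2⟩
  refine ⟨h1, ?_⟩
  have hmod := hi.finrank_modEq hr2 (QuadClassify.nondeg_top hQ) (fun v _ => Submodule.mem_top (x := g v))
  rw [top_inf_eq, finrank_top] at hmod
  rcases hf.lt_or_eq with h | h
  · exact Or.inl (by rw [hmod, Nat.mod_eq_of_lt h]; exact h2)
  · refine Or.inr ⟨by rw [hmod, h, Nat.mod_self], fun hft => ?_⟩
    rw [hfree hft, finrank_bot] at h
    omega

end Abstract

section Concrete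

variable {ι : Type} [Fintype ι] [DecidableEq ι] {q : QuadraticForm F (ι → F)} {f : (ι → F) → F}

theorem nondeg_iff (hf : f = ⇑q) (W : Submodule F (ι → F)) :
    Cfsg.Geo.IsNondegenerateOn (QuadraticMap.polar f) W ↔ Nondeg q W := by
  subst hf
  constructor
  · intro h u hu hz
    by_contra hu0
    obtain ⟨-, x, hx, hne⟩ := h u hu hu0
    exact hne (hz x hx)
  · intro h u hu hu0
    obtain ⟨x, hx, hne⟩ : ∃ x ∈ W, polar q u x ≠ 0 := by
      by_contra hc
      push Not at hc
      exact hu0 (h u hu hc)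
    exact ⟨⟨x, hx, by rwa [QuadraticMap.polar_comm]⟩, x, hx, hne⟩

theorem isometric_iff (hf : f = ⇑q) (W W' : Submodule F (ι → F)) :
    Cfsg.Geo.AreIsometricFor f W W' ↔ Congr q W W' := by subst hf; rfl

theorem plusType_iff (hf : f = ⇑q) (W : Submodule F (ι → F)) :
    Cfsg.Geo.IsPlusTypeOn f W ↔ Plus q W := by subst hf; rfl

/-- An element of the commutator subgroup, seen as an isometry. -/
theorem form_of_mem (hf : f = ⇑q) {x : GL ι F} (hx : x ∈ Cfsg.Geo.omegaGL f) (v : ι → F) :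
    q (Matrix.toLin' (x : Matrix ι ι F) v) = q v := by
  subst hf
  obtain ⟨k, -, rfl⟩ := OmegaGeo.exists_of_mem_omegaGL hx
  rw [Matrix.toLin'_apply, OmegaGeo.toGL_mulVec]
  exact k.2 v

theorem scalar_isometry (hQ : (polarBilin q).Nondegenerate) [Nonempty ι] {w : F}
    (h : ∀ v, q (w • v) = q v) : w * w = 1 := by
  obtain ⟨j⟩ := ‹Nonempty ι›
  by_contra hne
  have h0 : ∀ v, q v = 0 := fun v => by
    have h' := h v
    rw [QuadraticMap.map_smul, smul_eq_mul] at h'
    have : (w * w - 1) * q v = 0 := by linear_combination h'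
    exact (mul_eq_zero.1 this).resolve_left (sub_ne_zero.2 hne)
  have hz := hQ.1 (Pi.single j 1) fun v => by
    show polar q _ v = 0
    simp [QuadraticMap.polar, h0]
  exact one_ne_zero (α := F) (by simpa using congrFun hz j)

variable {r : ℕ} [Fact r.Prime]

theorem exists_smul (hQ : (polarBilin q).Nondegenerate) [Nonempty ι] (hf : f = ⇑q) (hr2 : r ≠ 2)
    (hr : (r : F) ≠ 0) {x : GL ι F} (hx : x ∈ Cfsg.Geo.omegaGL f) {z : F}
    (hz : ((x ^ r : GL ι F) : Matrix ι ι F) = z • (1 : Matrix ι ι F)) :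
    ∃ w : F, w ≠ 0 ∧ Iso q r (w • (Matrix.toLin' (x : Matrix ι ι F) : Module.End F (ι → F))) := by
  set g : Module.End F (ι → F) := Matrix.toLin' (x : Matrix ι ι F)
  have hg : ∀ v, q (g v) = q v := form_of_mem hf hx
  have hgr : g ^ r = z • (1 : Module.End F (ι → F)) := by
    rw [← Matrix.toLin'_pow, ← Units.val_pow_eq_pow_val, hz, map_smul, Matrix.toLin'_one]; rfl
  have hgk : ∀ (k : ℕ) v, q ((g ^ k) v) = q v := by
    intro k
    induction k with
    | zero => intro v; rfl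
    | succ k ih => intro v; rw [pow_succ', Module.End.mul_apply, hg, ih]
  have hzz : z * z = 1 := scalar_isometry hQ fun v => by
    conv_rhs => rw [← hgk r v, hgr]
    rfl
  refine ⟨z, fun e => by rw [e, mul_zero] at hzz; exact zero_ne_one hzz, fun v => ?_, ?_, hr⟩
  · rw [LinearMap.smul_apply, QuadraticMap.map_smul, hzz, one_smul, hg]
  · obtain ⟨l, hl⟩ := (Fact.out : r.Prime).odd_of_ne_two hr2
    rw [_root_.smul_pow, hgr, smul_smul, ← pow_succ, hl, show 2 * l + 1 + 1 = 2 * (l + 1) by omega,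
      pow_mul, pow_two, hzz, one_pow, one_smul]

theorem exists_gl (hQ : (polarBilin q).Nondegenerate) [Nonempty ι] (hf : f = ⇑q)
    (hexc : Fintype.card F ≠ 2 ∨ finrank F (ι → F) ≠ 4) (hr2 : r ≠ 2) {g : Module.End F (ι → F)}
    (hi : Iso q r g) (hg1 : g ≠ 1) :
    ∃ x : GL ι F, x ∈ Cfsg.Geo.omegaGL f ∧ (Matrix.toLin' (x : Matrix ι ι F) : Module.End F (ι → F)) = g ∧
      ((x ^ r : GL ι F) : Matrix ι ι F) = (1 : F) • (1 : Matrix ι ι F) ∧
      (∀ z : F, (x : Matrix ι ι F) ≠ z • (1 : Matrix ι ι F)) ∧ orderOf x = r := by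
  subst hf
  let k : orth q := ⟨LinearEquiv.ofInjectiveEndo g hi.injective, hi.form⟩
  have hkg : ((k.1 : (ι → F) ≃ₗ[F] (ι → F)) : Module.End F (ι → F)) = g := LinearMap.ext fun v => rfl
  have hkr : k ^ r = 1 := Subtype.ext (LinearEquiv.toLinearMap_injective (by
    rw [coe_pow_orth, hkg, hi.pow]; rfl))
  have hmem := mem_commutator_of_pow (OmegaClasses.reflGroup_top hQ hexc) hr2 k hkr
  set x := OmegaGeo.toGL q k with hx
  have hlin : (Matrix.toLin' (x : Matrix ι ι F) : Module.End F (ι → F)) = g := LinearMap.ext fun v => by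
    rw [Matrix.toLin'_apply, hx, OmegaGeo.toGL_mulVec]; rfl
  have hpow : x ^ r = 1 := Units.ext (Matrix.toLin'.injective (by
    rw [Units.val_pow_eq_pow_val, Matrix.toLin'_pow, hlin, hi.pow, Units.val_one, Matrix.toLin'_one]; rfl))
  refine ⟨x, OmegaGeo.toGL_mem hmem, hlin, by rw [hpow, one_smul]; rfl, fun z hz => hg1 ?_,
    orderOf_eq_prime hpow fun e => hg1 ?_⟩
  · have hgz : g = z • (1 : Module.End F (ι → F)) := by
      rw [← hlin, hz, map_smul, Matrix.toLin'_one]; rfl
    have hzz : z * z = 1 := scalar_isometry hQ fun v => by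
      have := hi.form v
      rwa [hgz] at this
    obtain ⟨l, hl⟩ := (Fact.out : r.Prime).odd_of_ne_two hr2
    have h2 := hi.pow
    rw [hgz, _root_.smul_pow, one_pow, hl, pow_succ, pow_mul, pow_two, hzz, one_pow, one_mul] at h2
    rw [hgz]; exact h2
  · rw [← hlin, e, Units.val_one, Matrix.toLin'_one]; rfl

end Concrete

end Cfsg.Agent.OrthDerangeBase61
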