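import Mathlib
import Cfsg.Agent.Lib.OrthDerangeBase61

/-!
Elements of order two modulo scalars in odd characteristic, and the subspaces that they stabilise.
-/

set_option autoImplicit false
set_option linter.unusedSectionVars false

namespace Cfsg.Agent.OrthTwoElem61

open Module
open QuadraticMap (polar polarBilin)
open Cfsg.Agent.QuadClassify (Nondeg)
open Cfsg.Agent.OrthBlocks61 Cfsg.Agent.OrthIsoClasses61 Cfsg.Agent.OrthSubspaceFix61
open Cfsg.Agent.OrthUnitaryQuad Cfsg.Agent.OrthUnitaryRefl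
open Cfsg.Agent.OmegaClasses (NS rprod rprod_append rprod_cons rprod_singleton)

variable {F V : Type*} [Field F] [Fintype F] [AddCommGroup V] [Module F V] [FiniteDimensional F V]
variable {Q : QuadraticForm F V}

/-! ### Sums -/

/-- Cancellation of a common summand. -/
theorem congr_cancel {A B R : Submodule F V} (hA : Nondeg Q A) (hB : Nondeg Q B) (hR : Nondeg Q R)
    (hRA : R ≤ perp Q A) (hRB : R ≤ perp Q B) (h : Congr Q (A ⊔ R) (B ⊔ R)) : Congr Q A B := by
  have hsub : ∀ {A : Submodule F V}, R ≤ perp Q A → (A ⊔ R) ⊓ perp Q R = A := by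
    intro A hRA
    refine le_antisymm ?_ (le_inf le_sup_left (le_perp_comm hRA))
    rintro z ⟨hz, hz'⟩
    obtain ⟨a, ha, b, hb, rfl⟩ := Submodule.mem_sup.1 hz
    have hb0 : b = 0 := (Submodule.eq_bot_iff _).1 (inf_perp_eq_bot hR) _
      ⟨hb, by simpa using Submodule.sub_mem _ hz' (le_perp_comm hRA ha)⟩
    rw [hb0, add_zero]; exact ha
  have hdAB : finrank F A = finrank F B := by
    have := h.finrank_eq
    rw [finrank_sup hA hRA, finrank_sup hB hRB] at this
    omega
  obtain ⟨e, he⟩ := h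
  let R' : Submodule F V := ((R.comap (A ⊔ R).subtype).map (e : _ →ₗ[F] _)).map (B ⊔ R).subtype
  have hR' : Congr Q R R' :=
    ⟨((Submodule.comapSubtypeEquivOfLe (le_sup_right : R ≤ A ⊔ R)).symm.trans
        (e.submoduleMap _)).trans (Submodule.equivMapOfInjective _ (Submodule.injective_subtype _) _),
      fun w => he _⟩
  have h1 := congr_compl (nd_sup hB hR hRB) le_sup_right (Submodule.map_subtype_le _ _) hR'
  rw [hsub hRB] at h1
  refine Congr.trans ?_ h1.symm
  refine (show Congr Q A ((A ⊔ R) ⊓ perp Q R) by rw [hsub hRA]; exact Congr.refl _).trans ?_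
  have hpol : ∀ a b : ↥(A ⊔ R), polar Q ((e a : _) : V) (e b : _) = polar Q (a : V) b := fun a b => by
    simp only [polar, ← Submodule.coe_add, ← map_add, he]
  let L : ↥((A ⊔ R) ⊓ perp Q R) →ₗ[F] ↥((B ⊔ R) ⊓ perp Q R') :=
    LinearMap.codRestrict _ ((B ⊔ R).subtype.comp (e.toLinearMap.comp (Submodule.inclusion inf_le_left)))
      fun w => ⟨(e _).2, by
        rintro _ ⟨_, ⟨z, hz, rfl⟩, rfl⟩
        exact (hpol _ _).trans (w.2.2 _ hz)⟩
  have hinj : Function.Injective L := fun x y h => by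
    have h' := congrArg (Subtype.val) h
    exact Submodule.inclusion_injective _ (e.injective (Submodule.injective_subtype _ h'))
  refine ⟨LinearEquiv.ofBijective L ⟨hinj, (LinearMap.injective_iff_surjective_of_finrank_eq_finrank
    (by rw [hsub hRA, ← h1.finrank_eq, hdAB])).1 hinj⟩, fun w => he _⟩

/-- A nondegenerate subspace of each dimension. -/
theorem exists_dim (h2 : (2 : F) ≠ 0) {U : Submodule F V} (hU : Nondeg Q U) {l : ℕ}
    (hl : l ≤ finrank F U) : ∃ R ≤ U, Nondeg Q R ∧ finrank F R = l := by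
  rcases Nat.eq_zero_or_pos l with rfl | h0
  · exact ⟨⊥, bot_le, nd_bot, finrank_bot F V⟩
  · rcases hl.lt_or_eq with h | h
    · obtain ⟨A, -, hA, -, hAn, -, hAd, -, -⟩ := exists_two l U hU h0 h (Or.inl h2)
      exact ⟨A, hA, hAn, hAd⟩
    · exact ⟨U, le_rfl, hU, h.symm⟩

/-- A member of the class split along two orthogonal subspaces, with a proper part in the first. -/
theorem exists_in_sum (h2 : (2 : F) ≠ 0) {U₁ U₂ T : Submodule F V} (h₁ : Nondeg Q U₁)
    (h₂ : Nondeg Q U₂) (hp : U₂ ≤ perp Q U₁) (hT : Nondeg Q T) {j l : ℕ} (hj : 0 < j)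
    (hj' : j < finrank F U₁) (hl : l ≤ finrank F U₂) (hjl : j + l = finrank F T) :
    ∃ A R, A ≤ U₁ ∧ R ≤ U₂ ∧ Nondeg Q (A ⊔ R) ∧ Congr Q (A ⊔ R) T := by
  obtain ⟨R, hR, hRn, hRd⟩ := exists_dim h2 h₂ hl
  obtain ⟨A, B, hA, hB, hAn, hBn, hAd, hBd, hne⟩ := exists_two j U₁ h₁ hj hj' (Or.inl h2)
  have hperp : ∀ {A : Submodule F V}, A ≤ U₁ → R ≤ perp Q A := fun hA x hx w hw =>
    hp (hR hx) w (hA hw)
  have hsA := nd_sup hAn hRn (hperp hA)
  have hsB := nd_sup hBn hRn (hperp hB)
  rcases congr_of_two hsA hsB hT (m := finrank F T) (by rw [finrank_sup hAn (hperp hA)]; omega)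
      (by rw [finrank_sup hBn (hperp hB)]; omega) rfl
      (fun h => hne (congr_cancel hAn hBn hRn (hperp hA) (hperp hB) h)) with h | h
  exacts [⟨A, R, hA, hR, hsA, h⟩, ⟨B, R, hB, hR, hsB, h⟩]

theorem plus_bot : Plus Q (⊥ : Submodule F V) :=
  ⟨⊥, le_rfl, fun u hu => by rw [(Submodule.mem_bot F).1 hu, QuadraticMap.map_zero], by
    rw [finrank_bot]⟩

/-- The type of an orthogonal sum. -/
theorem plus_sup {A B : Submodule F V} (hA : Nondeg Q A) (hB : Nondeg Q B) (hp : B ≤ perp Q A)
    {a b : ℕ} (hda : finrank F A = 2 * a) (hdb : finrank F B = 2 * b) :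
    Plus Q (A ⊔ B) ↔ (Plus Q A ↔ Plus Q B) := by
  classical
  have hsd : finrank F ↥(A ⊔ B) = 2 * (a + b) := by rw [finrank_sup hA hp]; omega
  have hq : (0 : ℤ) < (Fintype.card F : ℤ) := by exact_mod_cast Fintype.card_pos
  have ex : ∀ {W : Submodule F V} {h : ℕ}, Nondeg Q W → finrank F W = 2 * h →
      ∃ N, OrthTypeCount73.Prof ⇑(res Q W) N ((if Plus Q W then 1 else -1) * (Fintype.card F : ℤ) ^ h) := by
    intro W h hW hd
    split_ifs with hpl
    · rw [one_mul]; exact (exists_prof hW hd).1 hpl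
    · rw [neg_one_mul]; exact (exists_prof hW hd).2 hpl
  obtain ⟨N, hN⟩ := ex hA hda
  obtain ⟨M, hM⟩ := ex hB hdb
  obtain ⟨K, hK⟩ := ex (nd_sup hA hB hp) hsd
  obtain ⟨K', hK'⟩ := prof_sup hA hp hN hM
  have h := OrthTypeCount73.Prof.unique hK' hK
  rw [mul_mul_mul_comm, ← pow_add] at h
  have h' := mul_right_cancel₀ (pow_ne_zero _ hq.ne') h
  by_cases h1 : Plus Q A <;> by_cases h2 : Plus Q B <;>
    by_cases h3 : Plus Q (A ⊔ B) <;> simp [h1, h2, h3] at h' ⊢

/-! ### Involutions -/

/-- Every involution stabilises a member of every class. -/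
theorem fix_invol (h2 : (2 : F) ≠ 0) (hQ : (polarBilin Q).Nondegenerate) (hn : 3 ≤ finrank F V)
    {g : Module.End F V} (hg : ∀ v, Q (g v) = Q v) (hgg : ∀ v, g (g v) = v) {T : Submodule F V}
    (hT : Nondeg Q T) (hm : 1 ≤ finrank F T) (hmn : finrank F T < finrank F V) : Fix Q g T := by
  have hpol : ∀ u v, polar Q (g u) (g v) = polar Q u v := fun u v => by simp [polar, ← map_add, hg]
  set U := LinearMap.ker (g - 1)
  set W := LinearMap.ker (g + 1)
  have hU : ∀ v, v ∈ U ↔ g v = v := fun v => by simp [U, sub_eq_zero]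
  have hW : ∀ v, v ∈ W ↔ g v = -v := fun v => by simp [W, add_eq_zero_iff_eq_neg]
  have hsplit : ∀ v, ∃ a ∈ U, ∃ b ∈ W, a + b = v := fun v =>
    ⟨(1 / 2 : F) • (v + g v), (hU _).2 (by rw [map_smul, map_add, hgg, add_comm]),
      (1 / 2 : F) • (v - g v), (hW _).2 (by rw [map_smul, map_sub, hgg, ← smul_neg, neg_sub]), by
        rw [← smul_add, add_add_sub_cancel, ← two_smul F, smul_smul, one_div, inv_mul_cancel₀ h2, one_smul]⟩
  have hperp : W ≤ perp Q U := fun w hw u hu => by
    have h := hpol w u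
    rw [(hW w).1 hw, (hU u).1 hu, QuadraticMap.polar_neg_left] at h
    have : (2 : F) * polar Q w u = 0 := by linear_combination -h
    exact (mul_eq_zero.1 this).resolve_left h2
  have hsup : U ⊔ W = ⊤ := eq_top_iff.2 fun v _ => by
    obtain ⟨a, ha, b, hb, rfl⟩ := hsplit v
    exact Submodule.add_mem_sup ha hb
  have hndU : Nondeg Q U := fun u hu hz => hQ.1 u fun v => by
    obtain ⟨a, ha, b, hb, rfl⟩ := hsplit v
    show polar Q u (a + b) = 0
    rw [QuadraticMap.polar_add_right, hz a ha, QuadraticMap.polar_comm, hperp hb u hu, add_zero]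
  have hndW : Nondeg Q W := fun u hu hz => hQ.1 u fun v => by
    obtain ⟨a, ha, b, hb, rfl⟩ := hsplit v
    show polar Q u (a + b) = 0
    rw [QuadraticMap.polar_add_right, hz b hb, hperp hu a ha, add_zero]
  have hd := finrank_sup hndU hperp
  rw [hsup, finrank_top] at hd
  have hinv : ∀ {A R : Submodule F V}, A ≤ U → R ≤ W → ∀ v ∈ A ⊔ R, g v ∈ A ⊔ R := fun hA hR =>
    inv_sup (fun x hx => by rw [(hU x).1 (hA hx)]; exact hx)
      (fun x hx => by rw [(hW x).1 (hR hx)]; exact neg_mem hx)
  set a := finrank F U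
  set b := finrank F W
  set m := finrank F T
  rcases (show (∃ j, 0 < j ∧ j < a ∧ j ≤ m ∧ m - j ≤ b) ∨ (∃ j, 0 < j ∧ j < b ∧ j ≤ m ∧ m - j ≤ a) by
    by_cases ha : 2 ≤ a
    · exact Or.inl ⟨max 1 (m - b), by omega, by omega, by omega, by omega⟩
    · exact Or.inr ⟨max 1 (m - a), by omega, by omega, by omega, by omega⟩) with
    ⟨j, h0, h1, h3, h4⟩ | ⟨j, h0, h1, h3, h4⟩
  · obtain ⟨A, R, hA, hR, hn, hc⟩ := exists_in_sum h2 hndU hndW hperp hT h0 h1 h4 (by omega)
    exact ⟨_, hn, hinv hA hR, hc⟩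
  · obtain ⟨A, R, hA, hR, hn, hc⟩ := exists_in_sum h2 hndW hndU (le_perp_comm hperp) hT h0 h1 h4 (by omega)
    rw [sup_comm] at hn hc
    exact ⟨_, hn, hinv hR hA, hc⟩

/-! ### Square roots of minus one -/

/-- The type of a space with a square root of minus one of dimension `2a`. -/
def Par (F : Type*) [Field F] (a : ℕ) : Prop := IsSquare (-1 : F) ∨ Even a

/-- The rotation of an orthogonal pair. -/
theorem rot (h2 : (2 : F) ≠ 0) {v w : V} (hp : polar Q v w = 0) (hc : Q w = Q v) (hv : Q v ≠ 0) :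
    NS Q [v - w, w] ∧ ([v - w, w].map Q).prod = 2 * (Q v * Q v) ∧
      (rprod Q [v - w, w]).1 v = w ∧ (rprod Q [v - w, w]).1 w = -v := by
  have hp' : polar Q w v = 0 := by rwa [QuadraticMap.polar_comm]
  have hd : Q (v - w) = 2 * Q v := by
    rw [sub_eq_add_neg, QuadraticMap.map_add Q, QuadraticMap.map_neg, QuadraticMap.polar_neg_right, hp,
      hc]
    ring
  have hd0 : Q (v - w) ≠ 0 := by rw [hd]; exact mul_ne_zero h2 hv
  have hw : Q w ≠ 0 := by rwa [hc]
  have hns : NS Q [v - w, w] := by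
    intro x hx
    rcases List.mem_cons.1 hx with rfl | hx
    · exact hd0
    · rw [List.mem_singleton.1 hx]; exact hw
  refine ⟨hns, ?_, ?_, ?_⟩
  · simp [hd, hc]; ring
  all_goals rw [rprod_cons hd0, rprod_singleton hw, orth_mul_apply, refl_apply, refl_apply]
  · rw [hp', mul_zero, zero_smul, sub_zero, QuadraticMap.polar_sub_left, QuadraticMap.polar_self, hp',
      sub_zero, hd, two_smul, ← two_mul, inv_mul_cancel₀ (mul_ne_zero h2 hv), one_smul, sub_sub_cancel]
  · rw [QuadraticMap.polar_self, two_smul]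
    have e1 : w - ((Q w)⁻¹ * (Q w + Q w)) • w = -w := by
      rw [← two_mul, ← mul_assoc, mul_comm _ (2 : F), mul_assoc, inv_mul_cancel₀ hw, mul_one, two_smul]
      abel
    rw [e1, QuadraticMap.polar_neg_right, QuadraticMap.polar_sub_left, hp, QuadraticMap.polar_self,
      two_smul, hc, zero_sub, neg_neg, hd, ← two_mul, inv_mul_cancel₀ (mul_ne_zero h2 hv), one_smul]
    abel

variable {g : Module.End F V}

theorem Plane (h2 : (2 : F) ≠ 0) {v w : V} (hp : polar Q v w = 0) (hc : Q w = Q v) (hv : Q v ≠ 0) :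
    Nondeg Q (Submodule.span F {v, w}) ∧ finrank F ↥(Submodule.span F ({v, w} : Set V)) = 2 ∧
      (Plus Q (Submodule.span F {v, w}) ↔ IsSquare (-1 : F)) := by
  have hp' : polar Q w v = 0 := by rwa [QuadraticMap.polar_comm]
  obtain ⟨hn, hd⟩ := span_pair_nd (Q := Q) (x := v) (y := w) fun a b ha hb => by
    simp only [QuadraticMap.polar_add_left, QuadraticMap.polar_smul_left, QuadraticMap.polar_self, hp, hp',
      hc, smul_eq_mul, nsmul_eq_mul, Nat.cast_ofNat, mul_zero, zero_add, add_zero] at ha hb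
    exact ⟨(mul_eq_zero.1 ha).resolve_right (mul_ne_zero h2 hv),
      (mul_eq_zero.1 hb).resolve_right (mul_ne_zero h2 hv)⟩
  have hQ2 : ∀ a b : F, Q (a • v + b • w) = (a * a + b * b) * Q v := fun a b => by
    rw [QuadraticMap.map_add Q, QuadraticMap.map_smul, QuadraticMap.map_smul,
      QuadraticMap.polar_smul_left, QuadraticMap.polar_smul_right, hp, hc, smul_zero, smul_zero, add_zero,
      smul_eq_mul, smul_eq_mul]
    ring
  refine ⟨hn, hd, fun ⟨U, hU, hsing, hUd⟩ => ?_, fun ⟨i, hi⟩ => ?_⟩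
  · obtain ⟨u, hu, hu0⟩ := Submodule.exists_mem_ne_zero_of_ne_bot (p := U) (fun e => by
      rw [e, finrank_bot] at hUd; omega)
    obtain ⟨a, b, rfl⟩ := Submodule.mem_span_pair.1 (hU hu)
    have h0 := hsing _ hu
    rw [hQ2] at h0
    have hab := (mul_eq_zero.1 h0).resolve_right hv
    have hb : b ≠ 0 := by
      rintro rfl
      rw [mul_zero, add_zero, mul_self_eq_zero] at hab
      exact hu0 (by simp [hab])
    exact ⟨a / b, by field_simp; linear_combination -hab⟩
  · have hu0 : i • v + w ≠ 0 := by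
      intro e
      have := congrArg (fun x => polar Q x w) e
      simp [QuadraticMap.polar_add_left, QuadraticMap.polar_smul_left, hp, QuadraticMap.polar_self, hc,
        h2, hv, pol_zero_left] at this
    refine ⟨F ∙ (i • v + w), (Submodule.span_singleton_le_iff_mem _ _).2 (Submodule.add_mem _
      (Submodule.smul_mem _ _ (Submodule.subset_span (Set.mem_insert _ _)))
      (Submodule.subset_span (Set.mem_insert_of_mem _ rfl))), ?_, by rw [finrank_span_singleton hu0, hd]⟩
    intro u hu
    obtain ⟨c, rfl⟩ := Submodule.mem_span_singleton.1 hu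
    have h := hQ2 i 1
    rw [one_smul] at h
    rw [QuadraticMap.map_smul, h, ← hi]
    simp

/-- The structure of an isometry with square minus one on an invariant subspace. -/
theorem rot_data (h2 : (2 : F) ≠ 0) (hg : ∀ v, Q (g v) = Q v) (hgg : ∀ v, g (g v) = -v) :
    ∀ (N : ℕ) (W : Submodule F V), finrank F W = N → Nondeg Q W → (∀ v ∈ W, g v ∈ W) →
      ∃ a, N = 2 * a ∧ (Plus Q W ↔ Par F a) ∧
        (∀ b ≤ a, ∃ W' ≤ W, Nondeg Q W' ∧ (∀ v ∈ W', g v ∈ W') ∧ finrank F W' = 2 * b) ∧
        ∃ (vs : List V) (s : F), (∀ v ∈ vs, v ∈ W) ∧ NS Q vs ∧ Even vs.length ∧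
          (vs.map Q).prod = 2 ^ a * (s * s) ∧ ∀ x ∈ W, (rprod Q vs).1 x = g x := by
  have hpol : ∀ u v, polar Q (g u) (g v) = polar Q u v := fun u v => by simp [polar, ← map_add, hg]
  intro N
  induction N using Nat.strong_induction_on with
  | _ N ih =>
    intro W hN hW hWg
    rcases Nat.eq_zero_or_pos N with h0 | h0
    · obtain rfl : W = ⊥ := Submodule.finrank_eq_zero.1 (hN.trans h0)
      refine ⟨0, by omega, iff_of_true plus_bot (Or.inr ⟨0, rfl⟩), fun b hb =>
        ⟨⊥, le_rfl, nd_bot, hWg, by rw [finrank_bot]; omega⟩, [], 1, by simp, by simp [NS], by simp, by simp,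
        fun x hx => by simp [(Submodule.mem_bot F).1 hx]⟩
    obtain ⟨v, hvW, hv⟩ : ∃ v ∈ W, Q v ≠ 0 := by
      by_contra hall
      push Not at hall
      obtain ⟨u, hu, hu0⟩ := Submodule.exists_mem_ne_zero_of_ne_bot (p := W) (fun e => by
        rw [e, finrank_bot] at hN; omega)
      exact hu0 (hW u hu fun x hx => by simp [polar, hall _ (W.add_mem hu hx), hall _ hu, hall _ hx])
    have hvw : polar Q v (g v) = 0 := by
      have h := hpol v (g v)
      rw [hgg, QuadraticMap.polar_neg_right, QuadraticMap.polar_comm Q (g v)] at h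
      have : (2 : F) * polar Q v (g v) = 0 := by linear_combination -h
      exact (mul_eq_zero.1 this).resolve_left h2
    obtain ⟨hPn, hPd, hPp⟩ := Plane h2 hvw (hg v) hv
    obtain ⟨hns, hprod, hr1, hr2⟩ := rot h2 hvw (hg v) hv
    set P := Submodule.span F ({v, g v} : Set V)
    have hPW : P ≤ W := Submodule.span_le.2 (by rintro x (rfl | rfl); exacts [hvW, hWg _ hvW])
    have hvP : v ∈ P := Submodule.subset_span (Set.mem_insert _ _)
    have hwP : g v ∈ P := Submodule.subset_span (Set.mem_insert_of_mem _ rfl)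
    have hPg : ∀ x ∈ P, g x ∈ P := by
      intro x hx
      obtain ⟨a, b, rfl⟩ := Submodule.mem_span_pair.1 hx
      rw [map_add, map_smul, map_smul, hgg]
      exact P.add_mem (P.smul_mem _ hwP) (P.smul_mem _ (P.neg_mem hvP))
    obtain ⟨hsup, hW'n, hdim⟩ := split hPW hPn hW
    have hW'g : ∀ x ∈ W ⊓ perp Q P, g x ∈ W ⊓ perp Q P := fun x hx => ⟨hWg x hx.1, fun y hy => by
      have h := hpol (g x) y
      rw [hgg, QuadraticMap.polar_neg_left] at h
      rw [← h, hx.2 _ (hPg y hy), neg_zero]⟩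
    obtain ⟨a, ha, hpl, hsub, vs, s, hvs, hvns, hlen, hvp, hact⟩ :=
      ih _ (by omega) _ rfl hW'n hW'g
    refine ⟨a + 1, by omega, ?_, fun b hb => ?_, [v - g v, g v] ++ vs, Q v * s, ?_, hns.append hvns,
      by rw [List.length_append]; exact (show Even (2 : ℕ) from even_two).add hlen, ?_, ?_⟩
    · rw [← hsup, plus_sup hPn hW'n inf_le_right (a := 1) (by omega) ha, hPp, hpl]
      unfold Par
      by_cases hs : IsSquare (-1 : F) <;> simp [hs, Nat.even_add_one]
    · rcases hb.lt_or_eq with h | h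
      · obtain ⟨W', hW', h'⟩ := hsub b (by omega)
        exact ⟨W', hW'.trans inf_le_left, h'⟩
      · exact ⟨W, le_rfl, hW, hWg, by omega⟩
    · intro x hx
      rcases List.mem_append.1 hx with hx | hx
      · rcases List.mem_cons.1 hx with rfl | hx
        · exact hPW (P.sub_mem hvP hwP)
        · rw [List.mem_singleton.1 hx]; exact hPW hwP
      · exact (hvs x hx).1
    · rw [List.map_append, List.prod_append, hprod, hvp, pow_succ]; ring
    · intro x hx
      rw [← hsup] at hx
      obtain ⟨p, hp, u, hu, rfl⟩ := Submodule.mem_sup.1 hx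
      rw [rprod_append, orth_mul_apply, map_add (rprod Q vs).1, hact u hu,
        OmegaClasses.rprod_fix hvns (fun z hz => (hvs z hz).2 p hp), map_add, map_add g,
        OmegaClasses.rprod_fix hns (x := g u) (fun z hz => ?_)]
      · congr 1
        obtain ⟨c, d, rfl⟩ := Submodule.mem_span_pair.1 hp
        rw [map_add, map_smul, map_smul, hr1, hr2, map_add, map_smul, map_smul, hgg]
      · rw [QuadraticMap.polar_comm]
        refine (hW'g u hu).2 z ?_
        rcases List.mem_cons.1 hz with rfl | hz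
        · exact P.sub_mem hvP hwP
        · rw [List.mem_singleton.1 hz]; exact hwP

theorem not_scalar_map (h2 : (2 : F) ≠ 0) (hQ : (polarBilin Q).Nondegenerate) (hn : 0 < finrank F V)
    (hg : ∀ v, Q (g v) = Q v) (hgg : ∀ v, g (g v) = -v) (z : F) : g ≠ z • 1 := by
  rintro rfl
  obtain ⟨a, ha, -, hsub, -⟩ := rot_data h2 hg hgg _ ⊤ rfl (QuadClassify.nondeg_top hQ) (fun _ _ => trivial)
  obtain ⟨v, -, hv⟩ : ∃ v ∈ (⊤ : Submodule F V), Q v ≠ 0 := by
    by_contra hall
    push Not at hall
    obtain ⟨u, hu⟩ : ∃ u : V, u ≠ 0 := by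
      haveI := Module.finrank_pos_iff.1 hn
      exact exists_ne 0
    exact hu (hQ.1 u fun x => show polar Q u x = 0 by simp [polar, hall])
  have h := hgg v
  simp only [LinearMap.smul_apply, Module.End.one_apply, smul_smul] at h
  have hz : z * z = -1 := by
    have h' : (z * z + 1) • v = 0 := by rw [add_smul, one_smul, h, neg_add_cancel]
    rcases smul_eq_zero.1 h' with h' | h'
    · linear_combination h'
    · exact absurd (by rw [h', QuadraticMap.map_zero]) hv
  have h' := hg v
  rw [LinearMap.smul_apply, Module.End.one_apply, QuadraticMap.map_smul, hz, smul_eq_mul] at h'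
  have : (2 : F) * Q v = 0 := by linear_combination -h'
  exact hv ((mul_eq_zero.1 this).resolve_left h2)

/-- Construction on a subspace of the right type. -/
theorem exists_rot (h2 : (2 : F) ≠ 0) : ∀ (a : ℕ) (U : Submodule F V), Nondeg Q U → finrank F U = 2 * a →
    (Plus Q U ↔ Par F a) →
    ∃ vs : List V, NS Q vs ∧ (∀ v ∈ vs, v ∈ U) ∧
      ∀ x ∈ U, (rprod Q vs).1 ((rprod Q vs).1 x) = -x := by
  intro a
  induction a with
  | zero =>
    intro U _ hd _
    obtain rfl : U = ⊥ := Submodule.finrank_eq_zero.1 (by simpa using hd)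
    exact ⟨[], by simp [NS], by simp, fun x hx => by simp [(Submodule.mem_bot F).1 hx]⟩
  | succ a ih =>
    intro U hU hd hpl
    obtain ⟨v, hvU, hv⟩ := OmegaClasses.nondeg_represents hU (by omega) 1
    have hv0 : v ≠ 0 := fun e => by rw [e, QuadraticMap.map_zero] at hv; exact zero_ne_one hv
    have hvn : Nondeg Q (F ∙ v) := fun u hu h => by
      obtain ⟨c, rfl⟩ := Submodule.mem_span_singleton.1 hu
      have := h v (Submodule.mem_span_singleton_self v)
      rw [QuadraticMap.polar_smul_left, QuadraticMap.polar_self, hv, smul_eq_mul, two_smul] at this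
      rw [(mul_eq_zero.1 this).resolve_right (by rw [one_add_one_eq_two]; exact h2), zero_smul]
    obtain ⟨hsup1, hU1n, hU1d⟩ := split ((Submodule.span_singleton_le_iff_mem _ _).2 hvU) hvn hU
    rw [finrank_span_singleton hv0] at hU1d
    obtain ⟨w, hwU, hw⟩ : ∃ w ∈ U ⊓ perp Q (F ∙ v), Q w = 1 := by
      rcases Nat.eq_zero_or_pos a with rfl | ha
      · obtain ⟨w, hw, hw0⟩ := Submodule.exists_mem_ne_zero_of_ne_bot
          (p := U ⊓ perp Q (F ∙ v)) (fun e => by rw [e, finrank_bot] at hU1d; omega)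
        have hspan : ∀ u ∈ U ⊓ perp Q (F ∙ v), ∃ c : F, c • w = u := fun u hu => by
          obtain ⟨c, hc⟩ := (finrank_eq_one_iff_of_nonzero' (⟨w, hw⟩ : ↥(U ⊓ perp Q (F ∙ v)))
            (fun e => hw0 (congrArg Subtype.val e))).1 (show finrank F ↥(U ⊓ perp Q (F ∙ v)) = 1 by omega) ⟨u, hu⟩
          exact ⟨c, congrArg Subtype.val hc⟩
        have hQw : Q w ≠ 0 := fun e => hw0 (hU1n w hw fun u hu => by
          obtain ⟨c, rfl⟩ := hspan u hu
          rw [QuadraticMap.polar_smul_right, QuadraticMap.polar_self, e, smul_zero, smul_zero])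
        have hvw : polar Q v w = 0 := by
          rw [QuadraticMap.polar_comm]; exact hw.2 v (Submodule.mem_span_singleton_self v)
        have hiff : IsSquare (-Q w) ↔ IsSquare (-1 : F) := by
          have hsimp : (Plus Q U ↔ IsSquare (-1 : F)) := by simpa [Par] using hpl
          refine Iff.trans ⟨fun ⟨i, hi⟩ => ?_, fun ⟨T, hT, hsing, hTd⟩ => ?_⟩ hsimp
          · have hu0 : i • v + w ≠ 0 := by
              intro e
              have := congrArg (fun x => polar Q x w) e
              simp [QuadraticMap.polar_add_left, QuadraticMap.polar_smul_left, hvw, QuadraticMap.polar_self,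
                h2, hQw, pol_zero_left] at this
            refine ⟨F ∙ (i • v + w), (Submodule.span_singleton_le_iff_mem _ _).2
              (U.add_mem (U.smul_mem _ hvU) hw.1), ?_, by rw [finrank_span_singleton hu0, hd]⟩
            intro u hu
            obtain ⟨c, rfl⟩ := Submodule.mem_span_singleton.1 hu
            rw [QuadraticMap.map_smul, map_add_of_perp (by rw [QuadraticMap.polar_smul_left, hvw, smul_zero]),
              QuadraticMap.map_smul, hv, smul_eq_mul, smul_eq_mul, mul_one, ← hi, neg_add_cancel, mul_zero]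
          · obtain ⟨u, hu, hu0⟩ := Submodule.exists_mem_ne_zero_of_ne_bot (p := T) (fun e => by
              rw [e, finrank_bot] at hTd; omega)
            have h0 := hsing u hu
            have hu' := hT hu
            rw [← hsup1] at hu'
            obtain ⟨p, hp, z, hz, rfl⟩ := Submodule.mem_sup.1 hu'
            obtain ⟨b, rfl⟩ := Submodule.mem_span_singleton.1 hp
            obtain ⟨c, rfl⟩ := hspan z hz
            rw [map_add_of_perp (by
              rw [QuadraticMap.polar_smul_left, QuadraticMap.polar_smul_right, hvw, smul_zero, smul_zero]),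
              QuadraticMap.map_smul, QuadraticMap.map_smul, hv, smul_eq_mul, smul_eq_mul, mul_one] at h0
            have hc : c ≠ 0 := by
              rintro rfl
              rw [mul_zero, zero_mul, add_zero, mul_self_eq_zero] at h0
              exact hu0 (by simp [h0])
            exact ⟨b / c, by field_simp; linear_combination -h0⟩
        obtain ⟨s, hs⟩ : IsSquare (Q w) := by
          classical
          have hm : quadraticChar F (-Q w) = quadraticChar F (-1) * quadraticChar F (Q w) := by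
            rw [← map_mul, neg_one_mul]
          by_cases hsq : IsSquare (-1 : F)
          · obtain ⟨i, hi⟩ := hsq
            obtain ⟨j, hj⟩ := hiff.2 ⟨i, hi⟩
            have hi0 : i ≠ 0 := fun e => one_ne_zero (α := F) (by rw [e, mul_zero] at hi; linear_combination -hi)
            exact ⟨j / i, by field_simp; linear_combination -(Q w) * hi + hj⟩
          · have h1 := (quadraticChar_neg_one_iff_not_isSquare (F := F)).2 hsq
            have h3 := (quadraticChar_neg_one_iff_not_isSquare (F := F)).2 (fun h => hsq (hiff.1 h))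
            rw [h1, h3] at hm
            exact (quadraticChar_one_iff_isSquare hQw).1 (by omega)
        have hs0 : s ≠ 0 := fun e => hQw (by rw [hs, e, mul_zero])
        exact ⟨s⁻¹ • w, Submodule.smul_mem _ _ hw, by
          rw [QuadraticMap.map_smul, hs, smul_eq_mul]; field_simp⟩
      · exact OmegaClasses.nondeg_represents hU1n (by omega) 1
    have hvw : polar Q v w = 0 := by
      rw [QuadraticMap.polar_comm]; exact hwU.2 v (Submodule.mem_span_singleton_self v)
    have hQv : Q v ≠ 0 := by rw [hv]; exact one_ne_zero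
    obtain ⟨hPn, hPd, hPp⟩ := Plane h2 hvw (hw.trans hv.symm) hQv
    obtain ⟨hns, -, hr1, hr2⟩ := rot h2 hvw (hw.trans hv.symm) hQv
    set P := Submodule.span F ({v, w} : Set V)
    have hPU : P ≤ U := Submodule.span_le.2 (by rintro x (rfl | rfl); exacts [hvU, hwU.1])
    obtain ⟨hsup, hU'n, hdim⟩ := split hPU hPn hU
    have hpl' : Plus Q (U ⊓ perp Q P) ↔ Par F a := by
      rw [← hsup, plus_sup hPn hU'n inf_le_right (a := 1) (b := a) (by omega) (by omega), hPp] at hpl
      unfold Par at hpl ⊢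
      by_cases hs : IsSquare (-1 : F) <;> simp [hs, Nat.even_add_one, ← Nat.not_even_iff_odd] at hpl ⊢ <;> tauto
    obtain ⟨vs, hvns, hvs, hact⟩ := ih _ hU'n (by omega) hpl'
    have hmemP : ∀ z ∈ [v - w, w], z ∈ P := by
      intro z hz
      rcases List.mem_cons.1 hz with rfl | hz
      · exact P.sub_mem (Submodule.subset_span (Set.mem_insert _ _))
          (Submodule.subset_span (Set.mem_insert_of_mem _ rfl))
      · rw [List.mem_singleton.1 hz]; exact Submodule.subset_span (Set.mem_insert_of_mem _ rfl)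
    refine ⟨[v - w, w] ++ vs, hns.append hvns, fun z hz => (List.mem_append.1 hz).elim
      (fun h => hPU (hmemP z h)) (fun h => (hvs z h).1), fun x hx => ?_⟩
    have hfP : ∀ p ∈ P, (rprod Q vs).1 p = p := fun p hp =>
      OmegaClasses.rprod_fix hvns fun z hz => (hvs z hz).2 p hp
    have hfU : ∀ u ∈ U ⊓ perp Q P, (rprod Q [v - w, w]).1 u = u := fun u hu =>
      OmegaClasses.rprod_fix hns fun z hz => by
        rw [QuadraticMap.polar_comm]; exact hu.2 z (hmemP z hz)
    have hperp : ∀ u ∈ U ⊓ perp Q P, (rprod Q vs).1 u ∈ U ⊓ perp Q P := by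
      intro u hu
      clear hact
      induction vs generalizing u with
      | nil => simpa using hu
      | cons z zs ihz =>
        rw [rprod_cons hvns.head, orth_mul_apply, refl_apply]
        exact Submodule.sub_mem _ (ihz hvns.tail (fun y hy => hvs y (List.mem_cons_of_mem _ hy))
          (fun p hp => OmegaClasses.rprod_fix hvns.tail fun y hy =>
            (hvs y (List.mem_cons_of_mem _ hy)).2 p hp) u hu)
          (Submodule.smul_mem _ _ (hvs z List.mem_cons_self))
    rw [← hsup] at hx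
    obtain ⟨p, hp, u, hu, rfl⟩ := Submodule.mem_sup.1 hx
    obtain ⟨c, d, rfl⟩ := Submodule.mem_span_pair.1 hp
    have hrP : ∀ c d : F, (rprod Q ([v - w, w] ++ vs)).1 (c • v + d • w) = c • w + d • (-v) := by
      intro c d
      rw [rprod_append, orth_mul_apply, hfP _ (P.add_mem
        (P.smul_mem _ (Submodule.subset_span (Set.mem_insert _ _)))
        (P.smul_mem _ (Submodule.subset_span (Set.mem_insert_of_mem _ rfl)))), map_add, map_smul, map_smul,
        hr1, hr2]
    have hrU : ∀ u ∈ U ⊓ perp Q P, (rprod Q ([v - w, w] ++ vs)).1 u = (rprod Q vs).1 u := fun u hu => by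
      rw [rprod_append, orth_mul_apply, hfU _ (hperp u hu)]
    rw [map_add, map_add, hrP, hrU u hu, hrU _ (hperp u hu), hact u hu, neg_add, add_left_inj]
    rw [show c • w + d • (-v) = (-d) • v + c • w by rw [smul_neg, neg_smul, add_comm], hrP]
    rw [neg_smul, smul_neg, neg_add, ← neg_smul, add_comm]

/-- Membership in the commutator subgroup. -/
theorem mem_commutator_iff (h2 : (2 : F) ≠ 0) (hQ : (polarBilin Q).Nondegenerate)
    (hexc : Fintype.card F ≠ 2 ∨ finrank F V ≠ 4) {d : ℕ} (hd : finrank F V = 2 * d) (k : orth Q)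
    (hk : ∀ v, k.1 (k.1 v) = -v) :
    k ∈ commutator (orth Q) ↔ IsSquare ((2 : F) ^ d) := by
  obtain ⟨a, ha, -, -, vs, s, -, hns, hlen, hprod, hact⟩ := rot_data (g := (k.1 : V →ₗ[F] V)) h2 k.2 hk
    _ ⊤ rfl (QuadClassify.nondeg_top hQ) (fun _ _ => trivial)
  rw [finrank_top] at ha
  obtain rfl : a = d := by omega
  have hke : rprod Q vs = k := orth_ext fun x => hact x trivial
  have hs : s ≠ 0 := fun e => OmegaClasses.prod_ne_zero hns (by rw [hprod, e]; simp)
  rw [← hke, OmegaClasses.rprod_mem_iff hQ hexc hns, hprod, and_iff_right hlen]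
  constructor
  · rintro ⟨t, ht⟩; exact ⟨t / s, by field_simp; linear_combination ht⟩
  · rintro ⟨t, ht⟩; exact ⟨t * s, by rw [ht]; ring⟩

/-- When every element of order two modulo scalars stabilises a member of the class. -/
theorem allFix_two_iff (h2 : (2 : F) ≠ 0) (hQ : (polarBilin Q).Nondegenerate)
    (hexc : Fintype.card F ≠ 2 ∨ finrank F V ≠ 4) {d : ℕ} (hd : finrank F V = 2 * d) (hd2 : 2 ≤ d)
    {T : Submodule F V} (hT : Nondeg Q T) (hm : 1 ≤ finrank F T) (hmn : finrank F T < finrank F V) :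
    (∀ k ∈ commutator (orth Q), (∃ z : F, ∀ v, k.1 (k.1 v) = z • v) →
      (∀ z : F, (k.1 : V →ₗ[F] V) ≠ z • 1) → Fix Q (k.1 : V →ₗ[F] V) T) ↔
    (¬ ((Plus Q (⊤ : Submodule F V) ↔ Par F d) ∧ IsSquare ((2 : F) ^ d)) ∨
      (Even (finrank F T) ∧ (Plus Q T ↔ Par F (finrank F T / 2)))) := by
  constructor
  · intro hall
    rw [or_iff_not_imp_left, not_not]
    rintro ⟨htype, hsq⟩
    obtain ⟨vs, -, -, hact⟩ := exists_rot h2 d ⊤ (QuadClassify.nondeg_top hQ) (by rw [finrank_top, hd]) htype
    set k := rprod Q vs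
    have hk : ∀ v, k.1 (k.1 v) = -v := fun v => hact v trivial
    obtain ⟨W, hW, hWg, hWT⟩ := hall k ((mem_commutator_iff h2 hQ hexc hd k hk).2 hsq)
      ⟨-1, fun v => by rw [hk, neg_one_smul]⟩
      (not_scalar_map h2 hQ (by omega) k.2 hk)
    obtain ⟨a, ha, hpl, -⟩ := rot_data (g := (k.1 : V →ₗ[F] V)) h2 k.2 hk _ W rfl hW hWg
    rw [← hWT.finrank_eq, ha]
    refine ⟨even_two_mul a, ?_⟩
    rw [show 2 * a / 2 = a by omega, ← hpl]
    exact ⟨hWT.symm.plus, hWT.plus⟩
  · intro h k hk hz _
    obtain ⟨z, hz⟩ := hz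
    obtain ⟨v, -, hv⟩ := OmegaClasses.nondeg_represents (QuadClassify.nondeg_top hQ)
      (by rw [finrank_top]; omega) 1
    have hzz : z * z = 1 := by
      have := (k.2 (k.1 v)).trans (k.2 v)
      rwa [hz, QuadraticMap.map_smul, hv, smul_eq_mul, mul_one] at this
    rcases mul_self_eq_one_iff.1 hzz with rfl | rfl
    · exact fix_invol h2 hQ (by omega) k.2 (fun v => (hz v).trans (one_smul F v)) hT hm hmn
    · have hk' : ∀ v, k.1 (k.1 v) = -v := fun v => (hz v).trans (neg_one_smul F v)
      obtain ⟨a, ha, hpl, hsub, -⟩ := rot_data (g := (k.1 : V →ₗ[F] V)) h2 k.2 hk' _ ⊤ rfl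
        (QuadClassify.nondeg_top hQ) (fun _ _ => trivial)
      rw [finrank_top] at ha
      obtain rfl : a = d := by omega
      rcases h with h | ⟨hev, hT'⟩
      · exact absurd ⟨hpl, (mem_commutator_iff h2 hQ hexc hd k hk').1 hk⟩ h
      obtain ⟨e, he⟩ := hev
      obtain ⟨W, -, hW, hWg, hWd⟩ := hsub e (by omega)
      obtain ⟨a', ha', hpl', -⟩ := rot_data (g := (k.1 : V →ₗ[F] V)) h2 k.2 hk' _ W rfl hW hWg
      refine ⟨W, hW, hWg, (congr_iff_plus hW hT (h := e) hWd (by omega)).2 ?_⟩
      rw [hpl', hT', show a' = finrank F T / 2 by omega]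

end Cfsg.Agent.OrthTwoElem61
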