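import Mathlib
import Cfsg.Prelude.Def_GeometricClasses
import Cfsg.Agent.Lib.OrthTwoElem61

/-!
From the matrix form of the statements about prime order elements to isometries.
-/

set_option autoImplicit false
set_option linter.unusedSectionVars false

namespace Cfsg.Agent.OrthDerangeGlue61

open Module
open QuadraticMap (polar polarBilin)
open Cfsg.Agent.QuadClassify (Nondeg)
open Cfsg.Agent.OrthBlocks61 Cfsg.Agent.OrthIsoClasses61 Cfsg.Agent.OrthSubspaceFix61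
open Cfsg.Agent.OrthDerangeBase61 Cfsg.Agent.OrthTwoElem61
open Cfsg.Agent.OrthUnitaryQuad Cfsg.Agent.OrthUnitaryRefl Cfsg.Agent.OrthUnitaryPrelude

variable {F : Type*} [Field F] [Fintype F] {ι : Type} [Fintype ι] [DecidableEq ι]
variable {q : QuadraticForm F (ι → F)} {f : (ι → F) → F}

/-- Some member with the property is stabilised. -/
def Stab (P : Submodule F (ι → F) → Prop) (x : GL ι F) : Prop :=
  ∃ W, P W ∧ W.map (Matrix.toLin' (x : Matrix ι ι F)) ≤ W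

/-- All elements of order `r` modulo scalars stabilise a member. -/
def AllProj (f : (ι → F) → F) (r : ℕ) (P : Submodule F (ι → F) → Prop) : Prop :=
  ∀ x : GL ι F, x ∈ Cfsg.Geo.omegaGL f →
    (∃ z : F, ((x ^ r : GL ι F) : Matrix ι ι F) = z • (1 : Matrix ι ι F)) →
    (∀ z : F, (x : Matrix ι ι F) ≠ z • (1 : Matrix ι ι F)) → Stab P x

/-- All elements of order `r` stabilise a member. -/
def AllOrd (f : (ι → F) → F) (r : ℕ) (P : Submodule F (ι → F) → Prop) : Prop :=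
  ∀ x : GL ι F, x ∈ Cfsg.Geo.omegaGL f → orderOf x = r → Stab P x

variable {P : Submodule F (ι → F) → Prop} {T : Submodule F (ι → F)}

theorem stab_of_fix (hP : ∀ W, P W ↔ Nondeg q W ∧ Congr q W T) {x : GL ι F} {g : Module.End F (ι → F)}
    {w : F} (hw : w ≠ 0) (hg : g = w • (Matrix.toLin' (x : Matrix ι ι F) : Module.End F (ι → F)))
    (h : Fix q g T) : Stab P x := by
  obtain ⟨W, hW, hWg, hWT⟩ := h
  refine ⟨W, (hP W).2 ⟨hW, hWT⟩, ?_⟩
  rintro _ ⟨v, hv, rfl⟩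
  have := W.smul_mem w⁻¹ (hWg v hv)
  rwa [hg, LinearMap.smul_apply, smul_smul, inv_mul_cancel₀ hw, one_smul] at this

theorem fix_of_stab (hP : ∀ W, P W ↔ Nondeg q W ∧ Congr q W T) {x : GL ι F} (h : Stab P x) :
    Fix q (Matrix.toLin' (x : Matrix ι ι F)) T := by
  obtain ⟨W, hW, hWx⟩ := h
  exact ⟨W, ((hP W).1 hW).1, fun v hv => hWx ⟨v, hv, rfl⟩, ((hP W).1 hW).2⟩

theorem not_scalar_of_ord (hQ : (polarBilin q).Nondegenerate) [Nonempty ι] (hf : f = ⇑q) {r : ℕ}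
    [Fact r.Prime] {x : GL ι F} (hx : x ∈ Cfsg.Geo.omegaGL f) (ho : orderOf x = r) :
    (∃ z : F, ((x ^ r : GL ι F) : Matrix ι ι F) = z • (1 : Matrix ι ι F)) ∧
      (r ≠ 2 → ∀ z : F, (x : Matrix ι ι F) ≠ z • (1 : Matrix ι ι F)) := by
  refine ⟨⟨1, by rw [← ho, pow_orderOf_eq_one, one_smul]; rfl⟩, fun hr2 z hz => ?_⟩
  have hzz : z * z = 1 := scalar_isometry hQ fun v => by
    have := form_of_mem hf hx v
    rwa [hz, map_smul, Matrix.toLin'_one] at this
  have h1 : x ^ 2 = 1 := Units.ext (by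
    rw [Units.val_pow_eq_pow_val, hz, _root_.smul_pow, one_pow, pow_two, hzz, one_smul, Units.val_one])
  have := (Nat.dvd_prime Nat.prime_two).1 (orderOf_dvd_of_pow_eq_one h1)
  rw [ho] at this
  rcases this with h | h
  · exact (Fact.out : r.Prime).ne_one h
  · exact hr2 h

section Odd

variable {r : ℕ} [Fact r.Prime]

theorem allProj_iff (hQ : (polarBilin q).Nondegenerate) [Nonempty ι] (hf : f = ⇑q)
    (hexc : Fintype.card F ≠ 2 ∨ finrank F (ι → F) ≠ 4) (hr2 : r ≠ 2) (hr : (r : F) ≠ 0)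
    (hP : ∀ W, P W ↔ Nondeg q W ∧ Congr q W T) :
    AllProj f r P ↔ ∀ g : Module.End F (ι → F), Iso q r g → g ≠ 1 → Fix q g T := by
  constructor
  · intro h g hi hg1
    obtain ⟨x, hx, hlin, hpow, hns, -⟩ := exists_gl hQ hf hexc hr2 hi hg1
    have := fix_of_stab hP (h x hx ⟨1, hpow⟩ hns)
    rwa [hlin] at this
  · intro h x hx hz hns
    obtain ⟨z, hz⟩ := hz
    obtain ⟨w, hw, hi⟩ := exists_smul hQ hf hr2 hr hx hz
    refine stab_of_fix hP hw rfl (h _ hi fun e => hns w⁻¹ (Matrix.toLin'.injective ?_))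
    have e' := congrArg (fun g : Module.End F (ι → F) => w⁻¹ • g) e
    simp only [smul_smul, inv_mul_cancel₀ hw, one_smul] at e'
    rw [map_smul, Matrix.toLin'_one]
    exact e'

theorem allOrd_iff (hQ : (polarBilin q).Nondegenerate) [Nonempty ι] (hf : f = ⇑q)
    (hexc : Fintype.card F ≠ 2 ∨ finrank F (ι → F) ≠ 4) (hr2 : r ≠ 2) (hr : (r : F) ≠ 0)
    (hP : ∀ W, P W ↔ Nondeg q W ∧ Congr q W T) :
    AllOrd f r P ↔ ∀ g : Module.End F (ι → F), Iso q r g → g ≠ 1 → Fix q g T := by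
  constructor
  · intro h g hi hg1
    obtain ⟨x, hx, hlin, -, -, ho⟩ := exists_gl hQ hf hexc hr2 hi hg1
    have := fix_of_stab hP (h x hx ho)
    rwa [hlin] at this
  · intro h x hx ho
    obtain ⟨hz, hns⟩ := not_scalar_of_ord hQ hf hx ho
    exact (allProj_iff hQ hf hexc hr2 hr hP).2 h x hx hz (hns hr2)

theorem card_eq (hP : ∀ W, P W ↔ Nondeg q W ∧ Congr q W T) :
    Nat.card {W : Submodule F (ι → F) // P W} = Nat.card (Cls q T) :=
  Nat.card_congr (Equiv.subtypeEquivRight hP)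

/-- The criterion, given that `r` divides the size of the class. -/
theorem allFix_cond (hQ : (polarBilin q).Nondegenerate) (hr2 : r ≠ 2) (hr : (r : F) ≠ 0)
    (hT : Nondeg q T) (hpar : (2 : F) ≠ 0 ∨ Even (finrank F T)) (hm : 1 ≤ finrank F T)
    (hmn : finrank F T < finrank F (ι → F)) (hP : ∀ W, P W ↔ Nondeg q W ∧ Congr q W T)
    (hΩ : r ∣ Nat.card {W : Submodule F (ι → F) // P W}) :
    ((∀ g : Module.End F (ι → F), Iso q r g → g ≠ 1 → Fix q g T) ↔ Cond q r T) ∧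
      (Cond q r T → blockDim F r ≤ finrank F T) := by
  have h := allFix_iff hQ hr2 hr hT hpar hm hmn (card_eq hP ▸ hΩ)
  exact ⟨⟨fun ha => (h.1 ha).2, fun hc g hi _ => fix_of_cond hQ hr2 hT hpar hm hmn hc hi⟩,
    fun hc => (h.1 fun g hi _ => fix_of_cond hQ hr2 hT hpar hm hmn hc hi).1⟩

end Odd

/-! ### Order two -/

theorem allOrd_two (h2 : (2 : F) ≠ 0) (hQ : (polarBilin q).Nondegenerate) (hf : f = ⇑q)
    (hn : 3 ≤ finrank F (ι → F)) (hT : Nondeg q T) (hm : 1 ≤ finrank F T)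
    (hmn : finrank F T < finrank F (ι → F)) (hP : ∀ W, P W ↔ Nondeg q W ∧ Congr q W T) :
    AllOrd f 2 P := by
  intro x hx ho
  refine stab_of_fix hP one_ne_zero (one_smul F _).symm
    (fix_invol h2 hQ hn (form_of_mem hf hx) (fun v => ?_) hT hm hmn)
  have h1 : ((x : Matrix ι ι F)) ^ 2 = 1 := by
    rw [← Units.val_pow_eq_pow_val, ← ho, pow_orderOf_eq_one]; rfl
  rw [← Matrix.toLin'_mul_apply, ← pow_two, h1, Matrix.toLin'_one]; rfl

theorem allProj_two_iff (h2 : (2 : F) ≠ 0) (hQ : (polarBilin q).Nondegenerate) (hf : f = ⇑q)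
    {d : ℕ} (hd : finrank F (ι → F) = 2 * d) (hd2 : 2 ≤ d)
    (hexc : Fintype.card F ≠ 2 ∨ finrank F (ι → F) ≠ 4) (hT : Nondeg q T) (hm : 1 ≤ finrank F T)
    (hmn : finrank F T < finrank F (ι → F)) (hP : ∀ W, P W ↔ Nondeg q W ∧ Congr q W T) :
    AllProj f 2 P ↔
      (¬ ((Plus q (⊤ : Submodule F (ι → F)) ↔ Par F d) ∧ IsSquare ((2 : F) ^ d)) ∨
        (Even (finrank F T) ∧ (Plus q T ↔ Par F (finrank F T / 2)))) := by
  rw [← allFix_two_iff h2 hQ hexc hd hd2 hT hm hmn]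
  subst hf
  have hlin : ∀ k : orth q, (Matrix.toLin' (OmegaGeo.toGL q k : Matrix ι ι F) : (ι → F) →ₗ[F] (ι → F)) =
      (k.1 : (ι → F) →ₗ[F] (ι → F)) := fun k => LinearMap.ext fun v => by
    rw [Matrix.toLin'_apply, OmegaGeo.toGL_mulVec]; rfl
  have hsq : ∀ (k : orth q) (z : F),
      ((((OmegaGeo.toGL q k) ^ 2 : GL ι F)) : Matrix ι ι F) = z • (1 : Matrix ι ι F) ↔
        ∀ v, k.1 (k.1 v) = z • v := by
    intro k z
    rw [Units.val_pow_eq_pow_val, pow_two, ← (Matrix.toLin' (R := F) (n := ι) (m := ι)).injective.eq_iff,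
      map_smul, Matrix.toLin'_one, Matrix.toLin'_mul, hlin, LinearMap.ext_iff]
    rfl
  have hsc : ∀ (k : orth q) (z : F), (OmegaGeo.toGL q k : Matrix ι ι F) = z • (1 : Matrix ι ι F) ↔
      (k.1 : (ι → F) →ₗ[F] (ι → F)) = z • 1 := by
    intro k z
    rw [← (Matrix.toLin' (R := F) (n := ι) (m := ι)).injective.eq_iff, map_smul, Matrix.toLin'_one, hlin]
    rfl
  constructor
  · intro h k hk hz hns
    obtain ⟨z, hz⟩ := hz
    have := fix_of_stab hP (h _ (OmegaGeo.toGL_mem hk) ⟨z, (hsq k z).2 hz⟩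
      fun w e => hns w ((hsc k w).1 e))
    rwa [hlin] at this
  · intro h x hx hz hns
    obtain ⟨k, hk, rfl⟩ := OmegaGeo.exists_of_mem_omegaGL hx
    obtain ⟨z, hz⟩ := hz
    exact stab_of_fix hP one_ne_zero ((one_smul F _).trans (hlin k)).symm
      (h k hk ⟨z, (hsq k z).1 hz⟩ fun w e => hns w ((hsc k w).2 e))

/-! ### The classes -/

theorem exists_types (hQ : (polarBilin q).Nondegenerate) {h : ℕ} (h1 : 1 ≤ h)
    (hn : 2 * h < finrank F (ι → F)) :
    (∃ T, Nondeg q T ∧ finrank F T = 2 * h ∧ Plus q T) ∧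
      ∃ T, Nondeg q T ∧ finrank F T = 2 * h ∧ ¬ Plus q T := by
  obtain ⟨A, B, -, -, hA, hB, hAd, hBd, hne⟩ := exists_two (2 * h) ⊤ (QuadClassify.nondeg_top hQ)
    (by omega) (by rwa [finrank_top]) (Or.inr (even_two_mul h))
  rw [congr_iff_plus hA hB hAd hBd] at hne
  by_cases hp : Plus q A
  · exact ⟨⟨A, hA, hAd, hp⟩, B, hB, hBd, fun h => hne (iff_of_true hp h)⟩
  · exact ⟨⟨B, hB, hBd, by by_contra hb; exact hne (iff_of_false hp hb)⟩, A, hA, hAd, hp⟩

theorem class_plus (hf : f = ⇑q) {h m : ℕ} (hmh : m = 2 * h) (hT : Nondeg q T) (hd : finrank F T = m)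
    (hp : Plus q T) (W : Submodule F (ι → F)) :
    (finrank F W = m ∧ Cfsg.Geo.IsNondegenerateOn (QuadraticMap.polar f) W ∧ Cfsg.Geo.IsPlusTypeOn f W) ↔
      (Nondeg q W ∧ Congr q W T) := by
  rw [nondeg_iff hf, plusType_iff hf]
  constructor
  · rintro ⟨h1, h2, h3⟩
    exact ⟨h2, (congr_iff_plus h2 hT (h1.trans hmh) (hd.trans hmh)).2 (iff_of_true h3 hp)⟩
  · rintro ⟨h2, h3⟩
    exact ⟨h3.finrank_eq.trans hd, h2, h3.symm.plus hp⟩

theorem class_minus (hf : f = ⇑q) {h m : ℕ} (hmh : m = 2 * h) (hT : Nondeg q T) (hd : finrank F T = m)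
    (hp : ¬ Plus q T) (W : Submodule F (ι → F)) :
    (finrank F W = m ∧ Cfsg.Geo.IsNondegenerateOn (QuadraticMap.polar f) W ∧ ¬ Cfsg.Geo.IsPlusTypeOn f W) ↔
      (Nondeg q W ∧ Congr q W T) := by
  rw [nondeg_iff hf, plusType_iff hf]
  constructor
  · rintro ⟨h1, h2, h3⟩
    exact ⟨h2, (congr_iff_plus h2 hT (h1.trans hmh) (hd.trans hmh)).2 (iff_of_false h3 hp)⟩
  · rintro ⟨h2, h3⟩
    exact ⟨h3.finrank_eq.trans hd, h2, fun h => hp (h3.plus h)⟩

theorem class_iso (hf : f = ⇑q) {m : ℕ} (hd : finrank F T = m) (W : Submodule F (ι → F)) :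
    (finrank F W = m ∧ Cfsg.Geo.IsNondegenerateOn (QuadraticMap.polar f) W ∧ Cfsg.Geo.AreIsometricFor f W T) ↔
      (Nondeg q W ∧ Congr q W T) := by
  rw [nondeg_iff hf, isometric_iff hf]
  exact ⟨fun h => h.2, fun h => ⟨h.2.finrank_eq.trans hd, h⟩⟩

/-! ### Arithmetic of the field -/

theorem par_iff {m : ℕ} (h4 : Fintype.card F % 2 = 1) :
    Par F m ↔ (Fintype.card F % 4 = 1 ∨ Even m) := by
  unfold Par
  rw [FiniteField.isSquare_neg_one_iff]
  exact or_congr_left (by omega)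

theorem isSquare_two_pow_iff (h4 : Fintype.card F % 2 = 1) {d : ℕ} :
    IsSquare ((2 : F) ^ d) ↔ (Even d ∨ Fintype.card F % 8 = 1 ∨ Fintype.card F % 8 = 7) := by
  have h2 : IsSquare (2 : F) ↔ (Fintype.card F % 8 = 1 ∨ Fintype.card F % 8 = 7) := by
    rw [FiniteField.isSquare_two_iff]; omega
  rcases Nat.even_or_odd' d with ⟨k, rfl | rfl⟩
  · exact iff_of_true ⟨2 ^ k, by rw [← pow_two, ← pow_mul, mul_comm]⟩ (Or.inl (even_two_mul k))
  · rw [← h2, or_iff_right (show ¬ Even (2 * k + 1) by simp)]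
    constructor
    · rintro ⟨t, ht⟩
      by_cases h20 : (2 : F) = 0
      · exact ⟨0, by rw [mul_zero, h20]⟩
      · exact ⟨t / 2 ^ k, by
          field_simp
          rw [← pow_two t] at ht
          linear_combination ht⟩
    · rintro ⟨t, ht⟩
      exact ⟨2 ^ k * t, by rw [pow_succ, show (2 : F) ^ (2 * k) = 2 ^ k * 2 ^ k by rw [two_mul, pow_add]]
                           linear_combination (2 : F) ^ k * 2 ^ k * ht⟩

theorem odd_card_two_ne (hodd : Odd (Fintype.card F)) : (2 : F) ≠ 0 :=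
  OmegaStd.two_ne_zero rfl hodd

end Cfsg.Agent.OrthDerangeGlue61
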