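import Mathlib
import Cfsg.Agent.Lib.OrthTwoElem61

/-!
Unipotent isometries: ranks of `g - 1` and `(g - 1) ^ 2` on invariant nondegenerate subspaces.
-/

set_option autoImplicit false
set_option linter.unusedSectionVars false

namespace Cfsg.Agent.OrthUnipInv61

open Module
open QuadraticMap (polar polarBilin)
open Cfsg.Agent.QuadClassify (Nondeg)
open Cfsg.Agent.OrthBlocks61 Cfsg.Agent.OrthIsoClasses61 Cfsg.Agent.OrthSubspaceFix61

variable {F V : Type*} [Field F] [AddCommGroup V] [Module F V] [FiniteDimensional F V]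

/-- The rank of an endomorphism on a subspace. -/
noncomputable def rk (f : Module.End F V) (W : Submodule F V) : ℕ := finrank F ↥(W.map f)

theorem map_ker (f : Module.End F V) (W : Submodule F V) :
    rk f W + finrank F ↥(W ⊓ LinearMap.ker f) = finrank F W := by
  have h := (f.comp W.subtype).finrank_range_add_finrank_ker
  rw [LinearMap.range_comp, Submodule.range_subtype] at h
  have e : finrank F ↥(LinearMap.ker (f.comp W.subtype)) = finrank F ↥(W ⊓ LinearMap.ker f) := by
    rw [LinearMap.ker_comp, ← Submodule.map_comap_subtype, Submodule.finrank_map_subtype_eq]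
  rw [e] at h
  exact h

theorem rk_top (f : Module.End F V) : rk f ⊤ = finrank F ↥(LinearMap.range f) := by
  rw [rk, Submodule.map_top]

theorem rk_add (f : Module.End F V) {A B : Submodule F V} (hAB : A ⊔ B = ⊤) (hd : A ⊓ B = ⊥)
    (hA : ∀ v ∈ A, f v ∈ A) (hB : ∀ v ∈ B, f v ∈ B) : rk f A + rk f B = rk f ⊤ := by
  have hle : A.map f ⊓ B.map f = ⊥ := le_bot_iff.1 (hd ▸ inf_le_inf (Submodule.map_le_iff_le_comap.2 hA)
    (Submodule.map_le_iff_le_comap.2 hB))
  have h := Submodule.finrank_sup_add_finrank_inf_eq (A.map f) (B.map f)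
  rw [hle, finrank_bot, add_zero, ← Submodule.map_sup, hAB] at h
  exact h.symm

variable {Q : QuadraticForm F V} {g : Module.End F V}

/-- An isometry with `(g - 1) ^ 3 = 0`. -/
structure Unip (Q : QuadraticForm F V) (g : Module.End F V) : Prop where
  form : ∀ v, Q (g v) = Q v
  cube : (g - 1) * (g - 1) * (g - 1) = 0
  sing : ∀ v ∈ LinearMap.range (g - 1) ⊓ LinearMap.ker (g - 1), Q v = 0

theorem Unip.polar_map (hu : Unip Q g) (a b : V) : polar Q (g a) (g b) = polar Q a b := by
  simp [polar, ← map_add, hu.form]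

theorem Unip.range_perp (hu : Unip Q g) {v k : V} (hv : v ∈ LinearMap.range (g - 1))
    (hk : k ∈ LinearMap.ker (g - 1)) : polar Q v k = 0 := by
  obtain ⟨w, rfl⟩ := hv
  have hgk : g k = k := sub_eq_zero.1 hk
  rw [LinearMap.sub_apply, Module.End.one_apply, QuadraticMap.polar_sub_left]
  nth_rw 1 [← hgk]
  rw [hu.polar_map, sub_self]

theorem sub_one_inv {W : Submodule F V} (hW : ∀ v ∈ W, g v ∈ W) :
    (∀ v ∈ W, (g - 1) v ∈ W) ∧ ∀ v ∈ W, ((g - 1) * (g - 1)) v ∈ W :=
  ⟨fun v hv => W.sub_mem (hW v hv) hv, fun v hv =>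
    (fun u hu => W.sub_mem (hW u hu) hu : ∀ u ∈ W, (g - 1) u ∈ W) _ (W.sub_mem (hW v hv) hv)⟩

/-- The values on one invariant subspace. -/
theorem Unip.data (hu : Unip Q g) {W : Submodule F V} (hW : Nondeg Q W) (hWg : ∀ v ∈ W, g v ∈ W) :
    rk ((g - 1) * (g - 1)) W ≤ rk (g - 1) W ∧
      2 * rk (g - 1) W ≤ finrank F W + rk ((g - 1) * (g - 1)) W ∧
      2 * (rk (g - 1) W - rk ((g - 1) * (g - 1)) W) ≤ finrank F W ∧
      ∃ L ≤ W, (∀ v ∈ L, Q v = 0) ∧ L = W.map (g - 1) ⊓ LinearMap.ker (g - 1) ∧
        finrank F L = rk (g - 1) W - rk ((g - 1) * (g - 1)) W := by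
  set N : Module.End F V := g - 1 with hN
  have hle : W.map N ≤ W := Submodule.map_le_iff_le_comap.2 (sub_one_inv hWg).1
  have h1 := map_ker N W
  have h2 := map_ker N (W.map N)
  have h3 : rk N (W.map N) = rk (N * N) W := by
    rw [rk, rk, ← Submodule.map_comp]; rfl
  rw [h3] at h2
  have h4 := Submodule.finrank_mono (inf_le_inf_right (LinearMap.ker N) hle)
  have hLW : W.map N ⊓ LinearMap.ker N ≤ W := inf_le_left.trans hle
  have hLs : ∀ v ∈ W.map N ⊓ LinearMap.ker N, Q v = 0 := fun v hv =>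
    hu.sing v ⟨(LinearMap.range_eq_map N) ▸ Submodule.map_mono le_top hv.1, hv.2⟩
  have h5 : 2 * finrank F ↥(W.map N ⊓ LinearMap.ker N) ≤ finrank F W := by
    have := OmegaClasses.two_finrank_le (res_nd hW) (U := (W.map N ⊓ LinearMap.ker N).comap W.subtype)
      (fun u hu => hLs _ hu)
    rwa [(Submodule.comapSubtypeEquivOfLe hLW).finrank_eq] at this
  unfold rk at *
  exact ⟨by omega, by omega, by omega, _, hLW, hLs, rfl, by omega⟩

theorem Unip.plus_of_eq (hu : Unip Q g) {W : Submodule F V} (hW : Nondeg Q W) (hWg : ∀ v ∈ W, g v ∈ W)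
    (h : finrank F W = 2 * (rk (g - 1) W - rk ((g - 1) * (g - 1)) W)) : Plus Q W := by
  obtain ⟨-, -, -, L, hL, hLs, -, hLd⟩ := hu.data hW hWg
  exact ⟨L, hL, hLs, by omega⟩

theorem Unip.perp_inv (hu : Unip Q g) {W : Submodule F V} (hW : ∀ v ∈ W, g v ∈ W) :
    ∀ v ∈ perp Q W, g v ∈ perp Q W := by
  intro v hv w hw
  have hginj : Function.Injective g := by
    rw [injective_iff_map_eq_zero]
    intro x hx
    have e : x + (g - 1) x = 0 := by simp [hx]
    have e1 : (g - 1) x + ((g - 1) * (g - 1)) x = 0 := by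
      have := congrArg (fun y => (g - 1) y) e; simpa only [map_add, map_zero, Module.End.mul_apply] using this
    have e2 : ((g - 1) * (g - 1)) x = 0 := by
      have := congrArg (fun y => (g - 1) y) e1
      simp only [map_add, map_zero] at this
      rwa [show (g - 1) ((g - 1) x) = ((g - 1) * (g - 1)) x from rfl,
        show (g - 1) (((g - 1) * (g - 1)) x) = ((g - 1) * (g - 1) * (g - 1)) x from rfl, hu.cube,
        LinearMap.zero_apply, add_zero] at this
    rw [e2, add_zero] at e1
    rwa [e1, add_zero] at e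
  obtain ⟨w', hw'⟩ : ∃ w' : W, g.restrict hW w' = ⟨w, hw⟩ :=
    LinearMap.injective_iff_surjective.1 (fun a b h => Subtype.ext (hginj (congrArg Subtype.val h))) _
  have hw'' : g w' = w := congrArg Subtype.val hw'
  rw [← hw'', hu.polar_map]
  exact hv _ w'.2

/-- Additivity over an invariant subspace and its perpendicular. -/
theorem Unip.add (hu : Unip Q g) {W : Submodule F V} (hW : Nondeg Q W) (hWg : ∀ v ∈ W, g v ∈ W) :
    rk (g - 1) W + rk (g - 1) (perp Q W) = rk (g - 1) ⊤ ∧
      rk ((g - 1) * (g - 1)) W + rk ((g - 1) * (g - 1)) (perp Q W) = rk ((g - 1) * (g - 1)) ⊤ := by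
  have hP := hu.perp_inv hWg
  exact ⟨rk_add _ (sup_perp_eq_top hW) (inf_perp_eq_bot hW) (sub_one_inv hWg).1 (sub_one_inv hP).1,
    rk_add _ (sup_perp_eq_top hW) (inf_perp_eq_bot hW) (sub_one_inv hWg).2 (sub_one_inv hP).2⟩

/-- In odd characteristic the rank is even. -/
theorem Unip.even_rk (hu : Unip Q g) (h2 : (2 : F) ≠ 0) {W : Submodule F V} (hW : Nondeg Q W)
    (hWg : ∀ v ∈ W, g v ∈ W) : Even (rk (g - 1) W) := by
  classical
  have hN := (sub_one_inv hWg).1
  let n : Module.End F W := (g - 1).restrict hN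
  have hrk : rk (g - 1) W = finrank F ↥(LinearMap.range n) := by
    have : (LinearMap.range n).map W.subtype = W.map (g - 1) := by
      rw [← LinearMap.range_comp]
      conv_rhs => rw [← Submodule.range_subtype W, ← LinearMap.range_comp]
      rfl
    rw [rk, ← this, Submodule.finrank_map_subtype_eq]
  rw [hrk]
  set R := LinearMap.range n
  obtain ⟨s, hs⟩ := LinearMap.exists_rightInverse_of_surjective n.rangeRestrict
    (LinearMap.range_rangeRestrict n)
  have hs' : ∀ a : R, n (s a) = a := fun a => congrArg Subtype.val (LinearMap.congr_fun hs a)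
  let χ : R →ₗ[F] R →ₗ[F] F := (polarBilin Q).compl₁₂ (W.subtype.comp R.subtype) (W.subtype.comp s)
  have hχ : ∀ a b : R, χ a b = polar Q (((a : W) : V)) ((s b : W) : V) := fun a b => rfl
  have hperp : ∀ (a : R) (w : W), n w = 0 → polar Q ((a : W) : V) (w : V) = 0 := by
    rintro ⟨_, u, rfl⟩ w hw
    exact hu.range_perp ⟨(u : V), rfl⟩ (congrArg Subtype.val hw)
  have hrepl : ∀ (a b : R) (w : W), n w = b → χ a b = polar Q ((a : W) : V) (w : V) := fun a b w hw => by
    have h := hperp a (s b - w) (by rw [map_sub, hs', hw, sub_self])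
    rw [Submodule.coe_sub, QuadraticMap.polar_sub_right, sub_eq_zero] at h
    rw [hχ, h]
  have hmem : ∀ a : R, n (a : W) ∈ R := fun a => ⟨(a : W), rfl⟩
  let m : Module.End F R := n.restrict (p := R) (q := R) (fun x _ => ⟨x, rfl⟩)
  let G : Module.End F R := 1 + m
  have hflip : χ.flip = -(χ.compl₂ G) := by
    refine LinearMap.ext fun a => LinearMap.ext fun b => ?_
    show χ b a = -χ a (G b)
    obtain ⟨u, hu'⟩ := a.2
    obtain ⟨v, hv'⟩ := b.2
    rw [hrepl b a u hu', hrepl a (G b) (v + n v) (by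
      show n (v + n v) = (b : W) + n (b : W)
      rw [map_add, hv'])]
    rw [← hu', ← hv']
    show polar Q ((g - 1) (v : V)) (u : V) = -polar Q ((g - 1) (u : V)) ((v : V) + (g - 1) (v : V))
    simp only [LinearMap.sub_apply, Module.End.one_apply, add_sub_cancel, QuadraticMap.polar_sub_left,
      QuadraticMap.polar_comm Q (g (v : V)) (u : V), QuadraticMap.polar_comm Q (v : V) (u : V),
      hu.polar_map]
    ring
  have hsep : χ.SeparatingLeft := fun a ha => by
    refine Subtype.ext (Subtype.ext ?_)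
    refine hW _ (a : W).2 fun w hw => ?_
    rw [← hrepl a ⟨n ⟨w, hw⟩, _, rfl⟩ ⟨w, hw⟩ rfl]
    exact ha _
  let b := Module.finBasis F R
  have hdet := (LinearMap.separatingLeft_iff_det_ne_zero (b := b)).1 hsep
  have hG : LinearMap.det G = 1 := by
    have hnil : IsNilpotent (-m) := by
      refine ⟨3, LinearMap.ext fun x => ?_⟩
      have hx : ((m (m (m x)) : R) : W) = 0 := Subtype.ext (by
        show ((g - 1) * (g - 1) * (g - 1)) ((x : W) : V) = _
        rw [hu.cube]; rfl)
      rw [show (3 : ℕ) = 1 + 1 + 1 from rfl, pow_add, pow_add, pow_one]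
      show (-m) ((-m) ((-m) x)) = 0
      simp only [LinearMap.neg_apply, map_neg, neg_neg]
      rw [show m (m (m x)) = 0 from Subtype.ext hx, neg_zero]
    have h := LinearMap.eval_charpoly (-m) 1
    rw [IsNilpotent.charpoly_eq_X_pow_finrank hnil, Polynomial.eval_pow, Polynomial.eval_X,
      one_pow, map_one] at h
    refine Eq.trans ?_ h.symm
    exact congrArg _ (LinearMap.ext fun x => by simp [G])
  have hmat : (LinearMap.toMatrix₂ b b χ).transpose =
      -(LinearMap.toMatrix₂ b b χ * LinearMap.toMatrix b b G) := by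
    rw [← LinearMap.toMatrix₂_compl₂ b b b]
    ext i j
    rw [Matrix.transpose_apply, Matrix.neg_apply, LinearMap.toMatrix₂_apply, LinearMap.toMatrix₂_apply,
      show χ (b j) (b i) = χ.flip (b i) (b j) from rfl, hflip]
    rfl
  have key := congrArg Matrix.det hmat
  rw [Matrix.det_transpose, Matrix.det_neg, Matrix.det_mul, LinearMap.det_toMatrix, hG, mul_one,
    Fintype.card_fin] at key
  rcases Nat.even_or_odd (finrank F R) with he | ho
  · exact he
  · rw [ho.neg_one_pow] at key
    exfalso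
    exact mul_ne_zero h2 hdet (by linear_combination key)

/-- Totally singular intersection in odd characteristic. -/
theorem sing_of_two (h2 : (2 : F) ≠ 0) (hg : ∀ v, Q (g v) = Q v) :
    ∀ v ∈ LinearMap.range (g - 1) ⊓ LinearMap.ker (g - 1), Q v = 0 := by
  rintro v ⟨⟨w, rfl⟩, hv⟩
  have hp : ∀ a b, polar Q (g a) (g b) = polar Q a b := fun a b => by simp [polar, ← map_add, hg]
  set k := (g - 1) w with hk
  have hgk : g k = k := sub_eq_zero.1 hv
  have hgw : g w = w + k := by simp [hk]
  have h := hp w k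
  rw [hgw, hgk, QuadraticMap.polar_add_left, add_eq_left, QuadraticMap.polar_self, two_smul, ← two_mul] at h
  exact (mul_eq_zero.1 h).resolve_left h2

end Cfsg.Agent.OrthUnipInv61
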