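import Mathlib
import Cfsg.Agent.Lib.OrthUnipInv61

/-!
Products of commuting Eichler transformations.
-/

set_option autoImplicit false
set_option linter.unusedSectionVars false

namespace Cfsg.Agent.OrthEichler61

open Module
open QuadraticMap (polar polarBilin)
open Cfsg.Agent.QuadClassify (Nondeg Hyp)
open Cfsg.Agent.OrthBlocks61 Cfsg.Agent.OrthUnipInv61

variable {F V : Type*} [Field F] [AddCommGroup V] [Module F V] [FiniteDimensional F V]
variable {Q : QuadraticForm F V} {κ : Type*} [Fintype κ] [DecidableEq κ]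

/-- Vectors for a product of Eichler transformations. -/
structure Pairs (Q : QuadraticForm F V) (u z w y : κ → V) : Prop where
  qu : ∀ i, Q (u i) = 0
  puu : ∀ i j, polar Q (u i) (u j) = 0
  puz : ∀ i j, polar Q (u i) (z j) = 0
  pzz : ∀ i j, i ≠ j → polar Q (z i) (z j) = 0
  puw : ∀ i j, polar Q (u i) (w j) = if i = j then 1 else 0
  pzw : ∀ i j, polar Q (z i) (w j) = 0
  puy : ∀ i j, Q (z j) = 0 → polar Q (u i) (y j) = 0
  pzy : ∀ i j, Q (z j) = 0 → polar Q (z i) (y j) = if i = j then 1 else 0
  ch : (2 : F) ≠ 0 ∨ ∀ i, Q (z i) = 0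

/-- The nilpotent part. -/
noncomputable def nil (Q : QuadraticForm F V) (u z : κ → V) : Module.End F V :=
  ∑ i, ((polarBilin Q (u i)).smulRight (z i) -
    (polarBilin Q (z i) + Q (z i) • polarBilin Q (u i)).smulRight (u i))

theorem nil_apply (u z : κ → V) (v : V) : nil Q u z v =
    ∑ i, (polar Q (u i) v • z i - (polar Q (z i) v + Q (z i) * polar Q (u i) v) • u i) := by
  simp [nil, LinearMap.sum_apply]

variable {u z w y : κ → V}

theorem Pairs.nil_u (h : Pairs Q u z w y) (j : κ) : nil Q u z (u j) = 0 := by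
  rw [nil_apply]
  exact Finset.sum_eq_zero fun i _ => by simp [h.puu, QuadraticMap.polar_comm Q (z i), h.puz]

theorem Pairs.nil_z (h : Pairs Q u z w y) (j : κ) : nil Q u z (z j) = -(2 * Q (z j)) • u j := by
  rw [nil_apply, Finset.sum_eq_single j]
  · simp only [h.puz, QuadraticMap.polar_self, zero_smul, mul_zero, add_zero, zero_sub, smul_eq_mul,
      nsmul_eq_mul, Nat.cast_ofNat, neg_smul]
  · intro i _ hij
    simp [h.puz, h.pzz i j hij]
  · intro hj; exact absurd (Finset.mem_univ j) hj

theorem Pairs.nil_w (h : Pairs Q u z w y) (j : κ) : nil Q u z (w j) = z j - Q (z j) • u j := by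
  rw [nil_apply, Finset.sum_eq_single j]
  · simp [h.puw, h.pzw]
  · intro i _ hij
    simp [h.puw, h.pzw, hij]
  · intro hj; exact absurd (Finset.mem_univ j) hj

theorem Pairs.nil_y (h : Pairs Q u z w y) (j : κ) (hj : Q (z j) = 0) : nil Q u z (y j) = -u j := by
  rw [nil_apply, Finset.sum_eq_single j]
  · simp [h.puy, h.pzy, hj]
  · intro i _ hij
    simp [h.puy _ _ hj, h.pzy _ _ hj, hij]
  · intro hj; exact absurd (Finset.mem_univ j) hj

theorem Pairs.nil_two (h : Pairs Q u z w y) (v : V) :
    nil Q u z (nil Q u z v) = ∑ i, (-(2 * Q (z i) * polar Q (u i) v)) • u i := by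
  conv_lhs => rw [nil_apply u z v]
  rw [map_sum]
  refine Finset.sum_congr rfl fun i _ => ?_
  rw [map_sub, map_smul, map_smul, h.nil_z, h.nil_u, smul_zero, sub_zero, smul_smul]
  congr 1
  ring

theorem map_add_sum {α : Type*} (s : Finset α) (x : α → V)
    (hx : ∀ i ∈ s, ∀ j ∈ s, i ≠ j → polar Q (x i) (x j) = 0) : Q (∑ i ∈ s, x i) = ∑ i ∈ s, Q (x i) := by
  classical
  induction s using Finset.induction_on with
  | empty => simp
  | @insert a s ha ih =>
    rw [Finset.sum_insert ha, Finset.sum_insert ha, map_add_of_perp, ih fun i hi j hj hij =>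
      hx i (Finset.mem_insert_of_mem hi) j (Finset.mem_insert_of_mem hj) hij]
    show polarBilin Q (x a) (∑ i ∈ s, x i) = 0
    rw [map_sum]
    exact Finset.sum_eq_zero fun j hj => hx a (Finset.mem_insert_self a s) j (Finset.mem_insert_of_mem hj)
      fun e => ha (e ▸ hj)

theorem Pairs.form (h : Pairs Q u z w y) (v : V) : Q (v + nil Q u z v) = Q v := by
  have h1 : polar Q v (nil Q u z v) = -∑ i, Q (z i) * (polar Q (u i) v * polar Q (u i) v) := by
    rw [nil_apply, show polar Q v _ = polarBilin Q v _ from rfl, map_sum, ← Finset.sum_neg_distrib]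
    refine Finset.sum_congr rfl fun i _ => ?_
    simp [QuadraticMap.polar_comm Q v (u i), QuadraticMap.polar_comm Q v (z i)]
    ring
  have h2 : Q (nil Q u z v) = ∑ i, Q (z i) * (polar Q (u i) v * polar Q (u i) v) := by
    rw [nil_apply, map_add_sum]
    · refine Finset.sum_congr rfl fun i _ => ?_
      rw [sub_eq_add_neg, map_add_of_perp (by
        simp [QuadraticMap.polar_comm Q (z i) (u i), h.puz]), QuadraticMap.map_smul, QuadraticMap.map_neg,
        QuadraticMap.map_smul, h.qu, smul_zero, add_zero, smul_eq_mul]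
      ring
    · intro i _ j _ hij
      simp [QuadraticMap.polar_sub_left, QuadraticMap.polar_sub_right, h.pzz i j hij,
        QuadraticMap.polar_comm Q (z i) (u j), h.puz, h.puu]
  rw [QuadraticMap.map_add Q, h1, h2]
  abel

/-- The element. -/
noncomputable def eich (Q : QuadraticForm F V) (u z : κ → V) : Module.End F V := 1 + nil Q u z

theorem eich_sub_one (u z : κ → V) : eich Q u z - 1 = nil Q u z := add_sub_cancel_left _ _

theorem Pairs.span_le (_h : Pairs Q u z w y) :
    LinearMap.range (nil Q u z) ≤ Submodule.span F (Set.range (Sum.elim u z)) := by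
  rintro _ ⟨v, rfl⟩
  rw [nil_apply]
  exact Submodule.sum_mem _ fun i _ => Submodule.sub_mem _
    (Submodule.smul_mem _ _ (Submodule.subset_span ⟨Sum.inr i, rfl⟩))
    (Submodule.smul_mem _ _ (Submodule.subset_span ⟨Sum.inl i, rfl⟩))

theorem Pairs.unip (h : Pairs Q u z w y) : Unip Q (eich Q u z) := by
  have hform : ∀ v, Q (eich Q u z v) = Q v := fun v => by
    rw [eich, LinearMap.add_apply, Module.End.one_apply]; exact h.form v
  refine ⟨hform, ?_, ?_⟩
  · rw [eich_sub_one]
    refine LinearMap.ext fun v => ?_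
    show nil Q u z (nil Q u z (nil Q u z v)) = 0
    rw [h.nil_two]
    have hz : ∀ i, polar Q (u i) (nil Q u z v) = 0 := fun i => by
      rw [show polar Q (u i) _ = polarBilin Q (u i) _ from rfl, nil_apply, map_sum]
      exact Finset.sum_eq_zero fun j _ => by simp [h.puu, h.puz]
    exact Finset.sum_eq_zero fun i _ => by simp [hz]
  · by_cases h2 : (2 : F) = 0
    · have hc := h.ch.resolve_left (not_not.2 h2)
      intro v hv
      rw [eich_sub_one] at hv
      obtain ⟨c, rfl⟩ := (Submodule.mem_span_range_iff_exists_fun F).1 (h.span_le hv.1)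
      rw [map_add_sum]
      · exact Finset.sum_eq_zero fun i _ => by rcases i with i | i <;> simp [QuadraticMap.map_smul, h.qu, hc]
      · rintro (i | i) _ (j | j) _ hij <;>
          simp [h.puu, h.puz, QuadraticMap.polar_comm Q (z i)]
        exact Or.inr (Or.inr (h.pzz j i fun e => hij (e ▸ rfl)))
    · exact sing_of_two h2 hform

theorem Pairs.independent (h : Pairs Q u z w y) : LinearIndependent F (Sum.elim u z) := by
  rw [Fintype.linearIndependent_iff]
  intro c hc
  rw [Fintype.sum_sum_type] at hc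
  simp only [Sum.elim_inl, Sum.elim_inr] at hc
  have hu : ∀ j, c (Sum.inl j) = 0 := fun j => by
    have := congrArg (fun v => polarBilin Q v (w j)) hc
    simpa [LinearMap.sum_apply, h.puw, h.pzw, pol_zero_left] using this
  have hz : ∀ j, c (Sum.inr j) = 0 := fun j => by
    simp only [hu, zero_smul, Finset.sum_const_zero, zero_add] at hc
    by_cases hj : Q (z j) = 0
    · have := congrArg (fun v => polarBilin Q v (y j)) hc
      simpa [LinearMap.sum_apply, h.pzy _ _ hj, pol_zero_left] using this
    · have := congrArg (fun v => polarBilin Q v (z j)) hc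
      simp only [map_sum, map_smul, LinearMap.sum_apply, LinearMap.smul_apply,
        QuadraticMap.polarBilin_apply_apply, map_zero, LinearMap.zero_apply] at this
      rw [Finset.sum_eq_single j (fun i _ hij => by rw [h.pzz i j hij, smul_zero])
        (fun hn => absurd (Finset.mem_univ j) hn), QuadraticMap.polar_self, two_smul, ← two_mul,
        smul_eq_mul] at this
      exact (mul_eq_zero.1 this).resolve_right (mul_ne_zero (h.ch.resolve_right fun hall => hj (hall j)) hj)
  rintro (j | j)
  exacts [hu j, hz j]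

theorem Pairs.rk_one (h : Pairs Q u z w y) :
    rk (eich Q u z - 1) ⊤ = 2 * Fintype.card κ := by
  have hu : ∀ i, u i ∈ LinearMap.range (nil Q u z) := fun i => by
    by_cases hi : Q (z i) = 0
    · exact ⟨-y i, by rw [map_neg, h.nil_y i hi, neg_neg]⟩
    · have hne := mul_ne_zero (h.ch.resolve_right fun hall => hi (hall i)) hi
      exact ⟨(-(2 * Q (z i)))⁻¹ • z i, by
        rw [map_smul, h.nil_z, smul_smul, inv_mul_cancel₀ (neg_ne_zero.2 hne), one_smul]⟩
  have heq : LinearMap.range (nil Q u z) = Submodule.span F (Set.range (Sum.elim u z)) := by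
    refine le_antisymm h.span_le (Submodule.span_le.2 ?_)
    rintro _ ⟨i | i, rfl⟩
    · exact hu i
    · have e := Submodule.add_mem _ (⟨w i, rfl⟩ : nil Q u z (w i) ∈ LinearMap.range (nil Q u z))
        (Submodule.smul_mem _ (Q (z i)) (hu i))
      rw [h.nil_w, sub_add_cancel] at e
      exact e
  rw [eich_sub_one, rk_top, heq, finrank_span_eq_card h.independent, Fintype.card_sum]
  omega

theorem Pairs.rk_two (h : Pairs Q u z w y) [DecidablePred fun i => Q (z i) ≠ 0] :
    rk ((eich Q u z - 1) * (eich Q u z - 1)) ⊤ = Fintype.card {i // Q (z i) ≠ 0} := by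
  have heq : LinearMap.range (nil Q u z * nil Q u z) =
      Submodule.span F (Set.range fun i : {i // Q (z i) ≠ 0} => u i.1) := by
    refine le_antisymm ?_ (Submodule.span_le.2 ?_)
    · rintro _ ⟨v, rfl⟩
      rw [Module.End.mul_apply, h.nil_two]
      refine Submodule.sum_mem _ fun i _ => ?_
      by_cases hi : Q (z i) = 0
      · simp [hi]
      · exact Submodule.smul_mem _ _ (Submodule.subset_span ⟨⟨i, hi⟩, rfl⟩)
    · rintro _ ⟨⟨i, hi⟩, rfl⟩
      have hne := mul_ne_zero (h.ch.resolve_right fun hall => hi (hall i)) hi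
      refine ⟨(-(2 * Q (z i)))⁻¹ • w i, ?_⟩
      rw [Module.End.mul_apply, map_smul, h.nil_w, map_smul, map_sub, map_smul, h.nil_z, h.nil_u,
        smul_zero, sub_zero, smul_smul, inv_mul_cancel₀ (neg_ne_zero.2 hne), one_smul]
  rw [eich_sub_one, rk_top, heq]
  exact finrank_span_eq_card (h.independent.comp (fun i => Sum.inl i.1)
    fun a b e => Subtype.ext (Sum.inl_injective e))

theorem Pairs.fixed (_h : Pairs Q u z w y) {v : V} (h1 : ∀ i, polar Q (u i) v = 0)
    (h2 : ∀ i, polar Q (z i) v = 0) : eich Q u z v = v := by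
  rw [eich, LinearMap.add_apply, Module.End.one_apply, nil_apply,
    Finset.sum_eq_zero fun i _ => by simp [h1, h2], add_zero]

/-- Vectors from hyperbolic pairs and mutually orthogonal nonsingular vectors. -/
theorem exists_elt {k s₀ s₁ : ℕ} {e f : Fin k → V} (hH : Hyp Q e f) (hs : 2 * s₀ + s₁ ≤ k)
    {x : Fin s₁ → V} (hxe : ∀ i j, polar Q (e i) (x j) = 0) (hxf : ∀ i j, polar Q (f i) (x j) = 0)
    (hxx : ∀ i j, i ≠ j → polar Q (x i) (x j) = 0) (hx0 : ∀ j, Q (x j) ≠ 0)
    (hch : (2 : F) ≠ 0 ∨ s₁ = 0) :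
    ∃ g : Module.End F V, Unip Q g ∧ rk (g - 1) ⊤ = 2 * (s₀ + s₁) ∧
      rk ((g - 1) * (g - 1)) ⊤ = s₁ ∧ (∀ i, g (e i) = e i) ∧
      ∀ v, (∀ i, polar Q (e i) v = 0) → (∀ j, polar Q (x j) v = 0) → g v = v := by
  classical
  let a : Fin s₀ → Fin k := fun i => ⟨2 * i.1, by omega⟩
  let b : Fin s₀ → Fin k := fun i => ⟨2 * i.1 + 1, by omega⟩
  let c : Fin s₁ → Fin k := fun i => ⟨2 * s₀ + i.1, by omega⟩
  have hab : ∀ i j, a i ≠ b j := fun i j h => by simp [a, b, Fin.ext_iff] at h; omega
  have hac : ∀ i j, a i ≠ c j := fun i j h => by simp [a, c, Fin.ext_iff] at h; omega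
  have hbc : ∀ i j, b i ≠ c j := fun i j h => by simp [b, c, Fin.ext_iff] at h; omega
  have ha : Function.Injective a := fun i j h => by simp [a, Fin.ext_iff] at h; exact Fin.ext h
  have hb : Function.Injective b := fun i j h => by simp [b, Fin.ext_iff] at h; exact Fin.ext h
  have hc : Function.Injective c := fun i j h => by simp [c, Fin.ext_iff] at h; exact Fin.ext h
  let u : Fin s₀ ⊕ Fin s₁ → V := Sum.elim (fun i => e (a i)) (fun i => e (c i))
  let z : Fin s₀ ⊕ Fin s₁ → V := Sum.elim (fun i => e (b i)) x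
  let w : Fin s₀ ⊕ Fin s₁ → V := Sum.elim (fun i => f (a i)) (fun i => f (c i))
  let y : Fin s₀ ⊕ Fin s₁ → V := Sum.elim (fun i => f (b i)) 0
  have hxf' : ∀ i j, polar Q (x i) (f j) = 0 := fun i j => by rw [QuadraticMap.polar_comm]; exact hxf j i
  have hxe' : ∀ i j, polar Q (x i) (e j) = 0 := fun i j => by rw [QuadraticMap.polar_comm]; exact hxe j i
  have hP : Pairs Q u z w y := by
    constructor
    · rintro (i | i) <;> exact hH.qe _
    · rintro (i | i) (j | j) <;> exact hH.pee _ _
    · rintro (i | i) (j | j) <;> first | exact hH.pee _ _ | exact hxe _ _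
    · rintro (i | i) (j | j) hij <;>
        first | exact hH.pee _ _ | exact hxe _ _ | exact hxe' _ _ | exact hxx _ _ fun e => hij (e ▸ rfl)
    · rintro (i | i) (j | j) <;>
        simp [u, w, hH.pef, ha.eq_iff, hc.eq_iff, hac, (hac _ _).symm]
    · rintro (i | i) (j | j) <;> simp [z, w, hH.pef, (hab _ _).symm, hbc, hxf']
    · rintro (i | i) (j | j) hj <;>
        first | exact absurd hj (hx0 j) | simp [u, y, hH.pef, hab, (hbc _ _).symm]
    · rintro (i | i) (j | j) hj <;>
        first | exact absurd hj (hx0 j) | simp [z, y, hH.pef, hb.eq_iff, hxf']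
    · refine hch.imp_right fun h0 i => ?_
      subst h0
      rcases i with i | i
      exacts [hH.qe _, i.elim0]
  refine ⟨eich Q u z, hP.unip, ?_, ?_, fun i => hP.fixed ?_ ?_, fun v hve hvx => hP.fixed ?_ ?_⟩
  · rw [hP.rk_one, Fintype.card_sum, Fintype.card_fin, Fintype.card_fin]
  · rw [hP.rk_two]
    refine (Fintype.card_congr ?_).trans (Fintype.card_fin s₁)
    exact { toFun := fun i => match i with
              | ⟨.inl j, hj⟩ => absurd (hH.qe _) hj
              | ⟨.inr j, _⟩ => j
            invFun := fun j => ⟨.inr j, hx0 j⟩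
            left_inv := fun i => match i with
              | ⟨.inl j, hj⟩ => absurd (hH.qe _) hj
              | ⟨.inr j, _⟩ => rfl
            right_inv := fun _ => rfl }
  · rintro (j | j) <;> exact hH.pee _ _
  · rintro (j | j)
    exacts [hH.pee _ _, hxe' _ _]
  · rintro (j | j) <;> exact hve _
  · rintro (j | j)
    exacts [hve _, hvx _]

end Cfsg.Agent.OrthEichler61
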