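import Mathlib
import Cfsg.Prelude.Def_GeometricClasses
import Cfsg.Agent.Lib.OrthEichler61
import Cfsg.Agent.Lib.OrthDerangeGlue61

/-!
Elements of order `p` that stabilise no member of a class of nondegenerate subspaces.
-/

set_option autoImplicit false
set_option linter.unusedSectionVars false

namespace Cfsg.Agent.OrthUnipDerange61

open Module
open QuadraticMap (polar polarBilin)
open Cfsg.Agent.QuadClassify (Nondeg Hyp)
open Cfsg.Agent.OrthBlocks61 Cfsg.Agent.OrthIsoClasses61 Cfsg.Agent.OrthSubspaceFix61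
open Cfsg.Agent.OrthUnipInv61 Cfsg.Agent.OrthTwoElem61 Cfsg.Agent.OrthEichler61
open Cfsg.Agent.OrthUnitaryQuad Cfsg.Agent.OrthUnitaryRefl Cfsg.Agent.OrthUnitaryPrelude

variable {F : Type*} [Field F] [Fintype F]

section Abstract

variable {V : Type*} [AddCommGroup V] [Module F V] [FiniteDimensional F V]
variable {Q : QuadraticForm F V} {g : Module.End F V}

/-! ### Pairs inside a space -/

theorem hyp_indep {k : ℕ} {e f : Fin k → V} (hH : Hyp Q e f) : LinearIndependent F e := by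
  rw [Fintype.linearIndependent_iff]
  intro c hc j
  have := congrArg (fun v => polarBilin Q v (f j)) hc
  simpa [LinearMap.sum_apply, hH.pef, pol_zero_left] using this

theorem hyp_sing {k : ℕ} {e f : Fin k → V} (hH : Hyp Q e f) :
    ∀ v ∈ Submodule.span F (Set.range e), Q v = 0 := by
  intro v hv
  obtain ⟨c, rfl⟩ := (Submodule.mem_span_range_iff_exists_fun F).1 hv
  rw [map_add_sum _ _ fun i _ j _ _ => by simp [hH.pee]]
  exact Finset.sum_eq_zero fun i _ => by simp [QuadraticMap.map_smul, hH.qe]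

/-- A plus subspace of smaller dimension. -/
theorem exists_plus {U : Submodule F V} (hU : Nondeg Q U) {l : ℕ} (hl : 2 * l < finrank F U) :
    ∃ B ≤ U, Nondeg Q B ∧ finrank F B = 2 * l ∧ Plus Q B := by
  rcases Nat.eq_zero_or_pos l with rfl | h0
  · exact ⟨⊥, bot_le, nd_bot, by rw [finrank_bot], plus_bot⟩
  obtain ⟨A, B, hA', hB', hA, hB, hAd, hBd, hne⟩ := exists_two (2 * l) U hU (by omega) hl
    (Or.inr (even_two_mul l))
  rw [congr_iff_plus hA hB hAd hBd] at hne
  by_cases hp : Plus Q A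
  · exact ⟨A, hA', hA, hAd, hp⟩
  · exact ⟨B, hB', hB, hBd, by by_contra hb; exact hne (iff_of_false hp hb)⟩

/-- Hyperbolic pairs with the perpendicular of what they span. -/
theorem exists_pairs (hQ : (polarBilin Q).Nondegenerate) {k : ℕ} (hk : 2 * k < finrank F V) :
    ∃ (e f : Fin k → V) (P : Submodule F V), Hyp Q e f ∧ Nondeg Q P ∧ Nondeg Q (perp Q P) ∧
      finrank F P = 2 * k ∧ Plus Q P ∧ finrank F P + finrank F ↥(perp Q P) = finrank F V ∧
      (∀ i, e i ∈ P) ∧ ∀ i, f i ∈ P := by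
  obtain ⟨P, -, hP, hPd, hpl⟩ := exists_plus (QuadClassify.nondeg_top hQ) (l := k) (by rwa [finrank_top])
  obtain ⟨U, hU, hsing, hUd⟩ := hpl
  obtain ⟨e, f, hH, he, hf⟩ := exists_hyp k P U hP hPd hU hsing (by omega)
  obtain ⟨hn, hd, -⟩ := nd_perp hQ hP
  exact ⟨e, f, P, hH, hP, hn, hPd, ⟨U, hU, hsing, hUd⟩, hd, he, hf⟩

/-! ### Invariant subspaces -/

/-- Invariant subspaces of even dimension are of plus type. -/
theorem plus_of_small (hu : Unip Q g) (hQ : (polarBilin Q).Nondegenerate) {W : Submodule F V}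
    (hW : Nondeg Q W) (hWg : ∀ v ∈ W, g v ∈ W) (hev : Even (finrank F W))
    (hE : finrank F V + 2 * rk ((g - 1) * (g - 1)) ⊤ ≤ 2 * rk (g - 1) ⊤ + 1 ∨
      (finrank F V + 2 * rk ((g - 1) * (g - 1)) ⊤ ≤ 2 * rk (g - 1) ⊤ + 2 ∧
        Even (finrank F V) ∧ Plus Q (⊤ : Submodule F V))) : Plus Q W := by
  obtain ⟨hPn, hd, -⟩ := nd_perp hQ hW
  obtain ⟨h1, -, h2, -⟩ := hu.data hW hWg
  obtain ⟨h1', -, h2', -⟩ := hu.data hPn (hu.perp_inv hWg)
  obtain ⟨a1, a2⟩ := hu.add hW hWg
  obtain ⟨a, ha⟩ := hev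
  by_cases h0 : finrank F W = 2 * (rk (g - 1) W - rk ((g - 1) * (g - 1)) W)
  · exact hu.plus_of_eq hW hWg h0
  rcases hE with hE | ⟨hE, ⟨b, hb⟩, htop⟩
  · omega
  · have hp : Plus Q (perp Q W) := hu.plus_of_eq hPn (hu.perp_inv hWg) (by omega)
    rw [OrthDerangeBase61.plus_perp hQ hW (a := a) (b := b - a) (by omega) (by omega)] at hp
    exact hp.2 htop

/-- Odd dimensions: the residue modulo four. -/
theorem mod_four (hu : Unip Q g) (hQ : (polarBilin Q).Nondegenerate) (h2 : (2 : F) ≠ 0)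
    {W : Submodule F V} (hW : Nondeg Q W) (hWg : ∀ v ∈ W, g v ∈ W) (hodd : Odd (finrank F W))
    (hev : Even (finrank F V))
    (hE : finrank F V + 2 * rk ((g - 1) * (g - 1)) ⊤ = 2 * rk (g - 1) ⊤ + 2) :
    (rk ((g - 1) * (g - 1)) ⊤ = 0 → finrank F W % 4 = 1) ∧
    (rk ((g - 1) * (g - 1)) ⊤ = 2 → finrank F W % 4 = 3) ∧
    (rk ((g - 1) * (g - 1)) ⊤ = 1 → finrank F W % 4 = 1 →
      rk ((g - 1) * (g - 1)) W = 0 ∧ finrank F W = 2 * rk (g - 1) W + 1) := by
  obtain ⟨hPn, hd, -⟩ := nd_perp hQ hW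
  obtain ⟨h1, h3, h4, -⟩ := hu.data hW hWg
  obtain ⟨h1', h3', h4', -⟩ := hu.data hPn (hu.perp_inv hWg)
  obtain ⟨a1, a2⟩ := hu.add hW hWg
  obtain ⟨s, hs⟩ := hu.even_rk h2 hW hWg
  obtain ⟨t, ht⟩ := hodd
  obtain ⟨b, hb⟩ := hev
  refine ⟨fun h => by omega, fun h => by omega, fun h h' => ?_⟩
  omega

/-- The class of the part that carries the fixed nonsingular vector. -/
theorem side_congr (hu : Unip Q g) {W : Submodule F V} (hW : Nondeg Q W) (hWg : ∀ v ∈ W, g v ∈ W)
    (h2 : (2 : F) ≠ 0)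
    (hr2 : rk ((g - 1) * (g - 1)) W = 0) (hd : finrank F W = 2 * rk (g - 1) W + 1)
    (hQ : (polarBilin Q).Nondegenerate) {z : V} (hz : g z = z) (hQz : Q z ≠ 0)
    (hker : finrank F V = 2 * rk (g - 1) ⊤ - rk ((g - 1) * (g - 1)) ⊤ + 1)
    {B : Submodule F V} (hB : Nondeg Q B) (hBd : finrank F B = 2 * rk (g - 1) W) (hBp : Plus Q B)
    (hzB : ∀ v ∈ B, polar Q z v = 0) : Congr Q W ((F ∙ z) ⊔ B) := by
  obtain ⟨-, -, -, L, hLW, hLs, hLe, hLd⟩ := hu.data hW hWg
  obtain ⟨hT1, -, -, LT, -, hLTs, hLTe, hLTd⟩ := hu.data (QuadClassify.nondeg_top hQ)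
    (fun v _ => Submodule.mem_top (x := g v))
  rw [Submodule.map_top] at hLTe
  set N : Module.End F V := g - 1 with hN
  have hzk : z ∈ LinearMap.ker N := by simp [N, hz]
  have hzL : z ∉ LT := fun h => hQz (hLTs z h)
  have hz0 : z ≠ 0 := fun e => hQz (by rw [e, QuadraticMap.map_zero])
  have hk := map_ker N ⊤
  rw [finrank_top, top_inf_eq] at hk
  have hkW := map_ker N W
  have hkerT : LT ⊔ (F ∙ z) = LinearMap.ker N := by
    refine Submodule.eq_of_le_of_finrank_le
      (sup_le (hLTe ▸ inf_le_right) ((Submodule.span_singleton_le_iff_mem _ _).2 hzk)) ?_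
    have h := Submodule.finrank_sup_add_finrank_inf_eq LT (F ∙ z)
    have hbot : LT ⊓ (F ∙ z) = ⊥ := (Submodule.eq_bot_iff _).2 fun x hx => by
      obtain ⟨c, rfl⟩ := Submodule.mem_span_singleton.1 hx.2
      rcases eq_or_ne c 0 with rfl | hc
      · exact zero_smul F z
      · exact absurd (by simpa [smul_smul, inv_mul_cancel₀ hc] using LT.smul_mem c⁻¹ hx.1) hzL
    rw [hbot, finrank_bot, add_zero, finrank_span_singleton hz0] at h
    unfold rk at *
    omega
  obtain ⟨u, hu', huL⟩ : ∃ u ∈ W ⊓ LinearMap.ker N, u ∉ L := by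
    by_contra hall
    push Not at hall
    have := Submodule.finrank_mono (show W ⊓ LinearMap.ker N ≤ L from hall)
    omega
  have huW : u ∈ W := hu'.1
  have hu2 : u ∈ LT ⊔ (F ∙ z) := hkerT ▸ hu'.2
  obtain ⟨x, hx, y, hy, hxy⟩ := Submodule.mem_sup.1 hu2
  obtain ⟨t, rfl⟩ := Submodule.mem_span_singleton.1 hy
  have hxrange : x ∈ LinearMap.range N := (hLTe ▸ hx).1
  have hxz : polar Q x z = 0 := hu.range_perp hxrange hzk
  have hQu : Q u = t * t * Q z := by
    rw [← hxy, map_add_of_perp (by rw [QuadraticMap.polar_smul_right, hxz, smul_zero]), hLTs x hx,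
      QuadraticMap.map_smul, zero_add, smul_eq_mul]
  have ht : t ≠ 0 := by
    rintro rfl
    rw [zero_smul, add_zero] at hxy
    subst hxy
    refine huL ?_
    rw [hLe]
    refine ⟨?_, hu'.2⟩
    obtain ⟨a, ha⟩ := hxrange
    have ha' : a ∈ W ⊔ perp Q W := sup_perp_eq_top hW ▸ Submodule.mem_top
    obtain ⟨w, hw, w', hw', rfl⟩ := Submodule.mem_sup.1 ha'
    have h0 : N w' = 0 := by
      refine (Submodule.eq_bot_iff _).1 (inf_perp_eq_bot hW) _
        ⟨?_, (sub_one_inv (hu.perp_inv hWg)).1 w' hw'⟩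
      rw [show N w' = x - N w from eq_sub_of_add_eq' (by rw [← map_add, ha])]
      exact W.sub_mem huW ((sub_one_inv hWg).1 w hw)
    exact ⟨w, hw, by rw [← ha, map_add, h0, add_zero]⟩
  have hQu0 : Q u ≠ 0 := by rw [hQu]; exact mul_ne_zero (mul_ne_zero ht ht) hQz
  have hu0 : u ≠ 0 := fun e => hQu0 (by rw [e, QuadraticMap.map_zero])
  have hndu : Nondeg Q (F ∙ u) := fun v hv h => by
    obtain ⟨c, rfl⟩ := Submodule.mem_span_singleton.1 hv
    have := h u (Submodule.mem_span_singleton_self u)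
    rw [QuadraticMap.polar_smul_left, QuadraticMap.polar_self, smul_eq_mul, two_smul, ← two_mul] at this
    rw [(mul_eq_zero.1 this).resolve_right (mul_ne_zero h2 hQu0), zero_smul]
  obtain ⟨hsup, hB'n, hB'd⟩ := split ((Submodule.span_singleton_le_iff_mem _ _).2 huW) hndu hW
  rw [finrank_span_singleton hu0] at hB'd
  have hB'p : Plus Q (W ⊓ perp Q (F ∙ u)) := by
    refine ⟨L, fun v hv => ⟨hLW hv, fun a ha => ?_⟩, hLs, by omega⟩
    obtain ⟨c, rfl⟩ := Submodule.mem_span_singleton.1 ha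
    rw [QuadraticMap.polar_smul_right, hu.range_perp ?_ hu'.2, smul_zero]
    rw [hLe] at hv
    exact (LinearMap.range_eq_map N).symm ▸ Submodule.map_mono le_top hv.1
  rw [← hsup]
  have hndz : Nondeg Q (F ∙ z) := fun v hv h => by
    obtain ⟨c, rfl⟩ := Submodule.mem_span_singleton.1 hv
    have := h z (Submodule.mem_span_singleton_self z)
    rw [QuadraticMap.polar_smul_left, QuadraticMap.polar_self, smul_eq_mul, two_smul, ← two_mul] at this
    rw [(mul_eq_zero.1 this).resolve_right (mul_ne_zero h2 hQz), zero_smul]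
  refine Congr.sup hndu inf_le_right hndz (fun v hv a ha => ?_) ?_
    ((congr_iff_plus hB'n hB (h := rk N W) (by omega) hBd).2 (iff_of_true hB'p hBp))
  · obtain ⟨c, rfl⟩ := Submodule.mem_span_singleton.1 ha
    rw [QuadraticMap.polar_smul_right, QuadraticMap.polar_comm, hzB v hv, smul_zero]
  · have hspan : (F ∙ (t • z)) = F ∙ z := Submodule.span_singleton_smul_eq (isUnit_iff_ne_zero.2 ht) z
    refine ⟨((LinearEquiv.toSpanNonzeroSingleton F V u hu0).symm.trans
      (LinearEquiv.toSpanNonzeroSingleton F V (t • z) (smul_ne_zero ht hz0))).trans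
      (LinearEquiv.ofEq _ _ hspan), ?_⟩
    intro w
    obtain ⟨c, rfl⟩ := (LinearEquiv.toSpanNonzeroSingleton F V u hu0).surjective w
    rw [LinearEquiv.trans_apply, LinearEquiv.trans_apply, LinearEquiv.symm_apply_apply]
    simp [LinearEquiv.toSpanNonzeroSingleton_apply, QuadraticMap.map_smul, hQu]

/-! ### The elements -/

/-- In odd dimension: every invariant subspace of even dimension has plus type. -/
theorem exists_plus_only_odd (hQ : (polarBilin Q).Nondegenerate) (h2 : (2 : F) ≠ 0) {d : ℕ}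
    (hd : finrank F V = 2 * d + 1) (hd1 : 1 ≤ d) :
    ∃ g : Module.End F V, Unip Q g ∧ g ≠ 1 ∧
      ∀ W, Nondeg Q W → (∀ v ∈ W, g v ∈ W) → Even (finrank F W) → Plus Q W := by
  obtain ⟨e, f, P, hH, hP, hPn, hPd, -, hdim, he, hf⟩ := exists_pairs hQ (k := d) (by omega)
  obtain ⟨x, hx, hx0⟩ := Submodule.exists_mem_ne_zero_of_ne_bot (p := perp Q P) (fun e => by
    rw [e, finrank_bot] at hdim; omega)
  have hQx : Q x ≠ 0 := fun h0 => hx0 (hPn x hx fun v hv => by
    obtain ⟨c, hc⟩ := (finrank_eq_one_iff_of_nonzero' (⟨x, hx⟩ : ↥(perp Q P))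
      (fun h => hx0 (congrArg Subtype.val h))).1 (show finrank F ↥(perp Q P) = 1 by omega) ⟨v, hv⟩
    rw [← show c • x = v from congrArg Subtype.val hc, QuadraticMap.polar_smul_right,
      QuadraticMap.polar_self, h0, smul_zero, smul_zero])
  have hxe : ∀ i, polar Q (e i) x = 0 := fun i => by rw [QuadraticMap.polar_comm]; exact hx _ (he i)
  have hxf : ∀ i, polar Q (f i) x = 0 := fun i => by rw [QuadraticMap.polar_comm]; exact hx _ (hf i)
  obtain ⟨g, hu, h1, h3, -, -⟩ : ∃ g : Module.End F V, Unip Q g ∧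
      rk (g - 1) ⊤ = 2 * (d / 2 + d % 2) ∧ rk ((g - 1) * (g - 1)) ⊤ = d % 2 ∧ _ ∧ _ :=
    exists_elt hH (s₀ := d / 2) (s₁ := d % 2) (by omega) (x := fun _ => x) (fun i _ => hxe i)
      (fun i _ => hxf i) (fun i j hij => absurd (Fin.ext (by omega)) hij) (fun _ => hQx) (Or.inl h2)
  refine ⟨g, hu, fun e1 => ?_, fun W hW hWg hev => plus_of_small hu hQ hW hWg hev (Or.inl (by omega))⟩
  rw [e1, sub_self, rk, Submodule.map_zero, finrank_bot] at h1
  omega

/-- In plus type: every invariant subspace of even dimension has plus type. -/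
theorem exists_plus_only_even (hQ : (polarBilin Q).Nondegenerate) {d : ℕ} (hd : finrank F V = 2 * d)
    (hd2 : 2 ≤ d) (htop : Plus Q (⊤ : Submodule F V)) :
    ∃ g : Module.End F V, Unip Q g ∧ g ≠ 1 ∧ ((g - 1) * (g - 1) = 0) ∧
      (∃ U, OmegaClasses.Lagr Q U ∧ ∀ v ∈ U, g v = v) ∧
      ∀ W, Nondeg Q W → (∀ v ∈ W, g v ∈ W) → Even (finrank F W) → Plus Q W := by
  obtain ⟨U, hU, hsing, hUd⟩ := htop
  rw [finrank_top] at hUd
  obtain ⟨e, f, hH, -, -⟩ := exists_hyp d ⊤ U (QuadClassify.nondeg_top hQ) (by rw [finrank_top, hd])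
    le_top hsing (by omega)
  obtain ⟨g, hu, h1, h3, hfix, -⟩ := exists_elt hH (s₀ := d / 2) (s₁ := 0) (by omega)
    (x := Fin.elim0) (fun _ j => j.elim0) (fun _ j => j.elim0) (fun j => j.elim0) (fun j => j.elim0)
    (Or.inr rfl)
  refine ⟨g, hu, fun e1 => ?_, ?_, ⟨Submodule.span F (Set.range e), ⟨hyp_sing hH, ?_⟩, fun v hv => ?_⟩,
    fun W hW hWg hev => plus_of_small hu hQ hW hWg hev (Or.inr ⟨by omega, ⟨d, by omega⟩,
      ⟨U, hU, hsing, by rw [finrank_top]; exact hUd⟩⟩)⟩
  · rw [e1, sub_self, rk, Submodule.map_zero, finrank_bot] at h1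
    omega
  · rw [rk_top] at h3
    exact LinearMap.range_eq_bot.1 (Submodule.finrank_eq_zero.1 h3)
  · rw [finrank_span_eq_card (hyp_indep hH), Fintype.card_fin, hd]
  · have : Submodule.span F (Set.range e) ≤ LinearMap.ker (g - 1) := Submodule.span_le.2 (by
      rintro _ ⟨i, rfl⟩; simp [hfix i])
    exact sub_eq_zero.1 (this hv)

/-- An element without invariant members in odd dimension. -/
theorem exists_odd_derange (hQ : (polarBilin Q).Nondegenerate) (h2 : (2 : F) ≠ 0) {d : ℕ}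
    (hd : finrank F V = 2 * d) (hd2 : 2 ≤ d) {T : Submodule F V} (hT : Nondeg Q T)
    (hodd : Odd (finrank F T)) :
    ∃ g : Module.End F V, Unip Q g ∧ g ≠ 1 ∧ ¬ Fix Q g T := by
  obtain ⟨t, ht⟩ := hodd
  have hne : ∀ {g : Module.End F V} {R : ℕ}, 0 < R → rk (g - 1) ⊤ = R → g ≠ 1 := by
    intro g R hR h1 e1
    rw [e1, sub_self, rk, Submodule.map_zero, finrank_bot] at h1
    omega
  rcases Nat.even_or_odd' d with ⟨d', rfl | rfl⟩
  · -- a triple, pairs, and a fixed line
    obtain ⟨e, f, P, hH, hP, hK, hPd, hPp, hdim, he, hf⟩ := exists_pairs hQ (k := 2 * d' - 1) (by omega)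
    obtain ⟨T', hT', hT'd, hkey⟩ : ∃ T', Nondeg Q T' ∧ finrank F T' % 4 = 1 ∧
        ∀ g, Unip Q g → Fix Q g T → Fix Q g T' := by
      rcases (show finrank F T % 4 = 1 ∨ finrank F T % 4 = 3 by omega) with h | h
      · exact ⟨T, hT, h, fun _ _ hf => hf⟩
      · obtain ⟨hn, hd', -⟩ := nd_perp hQ hT
        refine ⟨perp Q T, hn, by omega, fun g hu ⟨W, hW, hWg, hWT⟩ => ?_⟩
        exact ⟨perp Q W, (nd_perp hQ hW).1, hu.perp_inv hWg, congr_perp hQ hWT⟩
    have hT'n : finrank F T' ≤ finrank F V := Submodule.finrank_le _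
    set l := finrank F T' / 2 with hl
    have hl' : finrank F T' = 2 * l + 1 := by omega
    obtain ⟨B, hBP, hB, hBd, hBp⟩ : ∃ B ≤ P, Nondeg Q B ∧ finrank F B = 2 * l ∧ Plus Q B := by
      rcases (show 2 * l < finrank F P ∨ 2 * l = finrank F P by omega) with h | h
      · exact exists_plus hP h
      · exact ⟨P, le_rfl, hP, h.symm, hPp⟩
    obtain ⟨ν, hν⟩ := FiniteField.exists_nonsquare (F := F) (fun hc => h2 (by
      have h := ringChar.Nat.cast_ringChar (R := F)
      rw [hc, Nat.cast_ofNat] at h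
      exact h))
    have hν0 : ν ≠ 0 := fun e => hν (e ▸ IsSquare.zero)
    have hperpB : ∀ {z : V}, z ∈ perp Q P → ∀ v ∈ B, polar Q z v = 0 := fun hz v hv => hz v (hBP hv)
    have hnd : ∀ z : V, Q z ≠ 0 → Nondeg Q (F ∙ z) ∧ finrank F ↥(F ∙ z) = 1 := fun z hz =>
      ⟨fun v hv h => by
        obtain ⟨c, rfl⟩ := Submodule.mem_span_singleton.1 hv
        have := h z (Submodule.mem_span_singleton_self z)
        rw [QuadraticMap.polar_smul_left, QuadraticMap.polar_self, smul_eq_mul, two_smul, ← two_mul] at this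
        rw [(mul_eq_zero.1 this).resolve_right (mul_ne_zero h2 hz), zero_smul],
        finrank_span_singleton fun e => hz (by rw [e, QuadraticMap.map_zero])⟩
    obtain ⟨za, hza, hQa⟩ := OmegaClasses.nondeg_represents hK (by omega) 1
    obtain ⟨zb, hzb, hQb⟩ := OmegaClasses.nondeg_represents hK (by omega) ν
    have hBz : ∀ {z : V}, z ∈ perp Q P → B ≤ perp Q (F ∙ z) := fun hz v hv a ha => by
      obtain ⟨c, rfl⟩ := Submodule.mem_span_singleton.1 ha
      rw [QuadraticMap.polar_smul_right, QuadraticMap.polar_comm, hperpB hz v hv, smul_zero]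
    obtain ⟨z, hz, hQz, hMne⟩ : ∃ z ∈ perp Q P, Q z ≠ 0 ∧ ¬ Congr Q ((F ∙ z) ⊔ B) T' := by
      by_contra hall
      push Not at hall
      have ha := hall za hza (by rw [hQa]; exact one_ne_zero)
      have hb := hall zb hzb (by rwa [hQb])
      have hc := congr_cancel (hnd za (by rw [hQa]; exact one_ne_zero)).1 (hnd zb (by rwa [hQb])).1 hB
        (hBz hza) (hBz hzb) (ha.trans hb.symm)
      obtain ⟨φ, hφ⟩ := hc
      obtain ⟨c, hc⟩ := Submodule.mem_span_singleton.1 (φ ⟨za, Submodule.mem_span_singleton_self za⟩).2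
      have h := hφ ⟨za, Submodule.mem_span_singleton_self za⟩
      rw [← hc, QuadraticMap.map_smul, hQa, hQb, smul_eq_mul] at h
      have hc0 : c ≠ 0 := fun e => by rw [e] at h; simp at h
      exact hν ⟨c⁻¹, by field_simp; linear_combination h⟩
    obtain ⟨hsupK, -, hKd⟩ := split ((Submodule.span_singleton_le_iff_mem _ _).2 hz) (hnd z hQz).1 hK
    rw [(hnd z hQz).2] at hKd
    obtain ⟨x, hx, hx0⟩ := Submodule.exists_mem_ne_zero_of_ne_bot (p := perp Q P ⊓ perp Q (F ∙ z))
      (fun e => by rw [e, finrank_bot] at hKd; omega)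
    have hxz : polar Q x z = 0 := hx.2 z (Submodule.mem_span_singleton_self z)
    have hQx : Q x ≠ 0 := fun h0 => hx0 (hK x hx.1 fun v hv => by
      rw [← hsupK] at hv
      obtain ⟨a, ha, b, hb, rfl⟩ := Submodule.mem_sup.1 hv
      obtain ⟨c, rfl⟩ := Submodule.mem_span_singleton.1 ha
      obtain ⟨c', hc'⟩ := (finrank_eq_one_iff_of_nonzero' (⟨x, hx⟩ : ↥(perp Q P ⊓ perp Q (F ∙ z)))
        (fun h => hx0 (congrArg Subtype.val h))).1
        (show finrank F ↥(perp Q P ⊓ perp Q (F ∙ z)) = 1 by omega) ⟨b, hb⟩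
      rw [QuadraticMap.polar_add_right, QuadraticMap.polar_smul_right, hxz,
        ← show c' • x = b from congrArg Subtype.val hc', QuadraticMap.polar_smul_right,
        QuadraticMap.polar_self, h0]
      simp)
    have hpe : ∀ {v : V}, v ∈ perp Q P → ∀ i, polar Q (e i) v = 0 ∧ polar Q (f i) v = 0 := fun hv i =>
      ⟨by rw [QuadraticMap.polar_comm]; exact hv _ (he i), by rw [QuadraticMap.polar_comm]; exact hv _ (hf i)⟩
    obtain ⟨g, hu, h1, h3, -, hgfix⟩ := exists_elt hH (s₀ := d' - 1) (s₁ := 1) (by omega)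
      (x := fun _ => x) (fun i _ => (hpe hx.1 i).1) (fun i _ => (hpe hx.1 i).2)
      (fun i j hij => absurd (Subsingleton.elim i j) hij) (fun _ => hQx) (Or.inl h2)
    refine ⟨g, hu, hne (by omega) h1, fun hfix => ?_⟩
    obtain ⟨W, hW, hWg, hWT⟩ := hkey g hu hfix
    have hWd := hWT.finrank_eq
    have hgz : g z = z := hgfix z (fun i => (hpe hz i).1) fun _ => hxz
    obtain ⟨hr0, hWd'⟩ := (mod_four hu hQ h2 hW hWg (Nat.odd_iff.2 (by omega))
      (by rw [hd]; exact even_two_mul _) (by omega)).2.2 h3 (by omega)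
    refine hMne (Congr.trans (side_congr hu hW hWg h2 hr0 hWd' hQ hgz hQz (by omega) hB (by omega) hBp
      (hperpB hz)).symm hWT)
  · obtain ⟨e, f, P, hH, hP, hK, hPd, -, hdim, he, hf⟩ := exists_pairs hQ (k := 2 * d') (by omega)
    rcases (show finrank F T % 4 = 3 ∨ finrank F T % 4 = 1 by omega) with h4 | h4
    · obtain ⟨g, hu, h1, h3, -, -⟩ := exists_elt hH (s₀ := d') (s₁ := 0) (by omega)
        (x := Fin.elim0) (fun _ j => j.elim0) (fun _ j => j.elim0) (fun j => j.elim0) (fun j => j.elim0)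
        (Or.inr rfl)
      refine ⟨g, hu, hne (by omega) h1, fun ⟨W, hW, hWg, hWT⟩ => ?_⟩
      have hWd := hWT.finrank_eq
      have := (mod_four hu hQ h2 hW hWg (Nat.odd_iff.2 (by omega)) (by rw [hd]; exact even_two_mul _)
        (by omega)).1 h3
      omega
    · obtain ⟨za, hza, hQa⟩ := OmegaClasses.nondeg_represents hK (by omega) 1
      have hza0 : za ≠ 0 := fun e => by rw [e, QuadraticMap.map_zero] at hQa; exact zero_ne_one hQa
      have hnda : Nondeg Q (F ∙ za) := fun v hv h => by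
        obtain ⟨c, rfl⟩ := Submodule.mem_span_singleton.1 hv
        have := h za (Submodule.mem_span_singleton_self za)
        rw [QuadraticMap.polar_smul_left, QuadraticMap.polar_self, hQa, smul_eq_mul, two_smul] at this
        rw [(mul_eq_zero.1 this).resolve_right (by rw [one_add_one_eq_two]; exact h2), zero_smul]
      obtain ⟨hsupK, -, hKd⟩ := split ((Submodule.span_singleton_le_iff_mem _ _).2 hza) hnda hK
      rw [finrank_span_singleton hza0] at hKd
      obtain ⟨zb, hzb, hzb0⟩ := Submodule.exists_mem_ne_zero_of_ne_bot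
        (p := perp Q P ⊓ perp Q (F ∙ za)) (fun e => by rw [e, finrank_bot] at hKd; omega)
      have hab : polar Q zb za = 0 := hzb.2 za (Submodule.mem_span_singleton_self za)
      have hQb : Q zb ≠ 0 := fun h0 => hzb0 (hK zb hzb.1 fun v hv => by
        rw [← hsupK] at hv
        obtain ⟨a, ha, b, hb, rfl⟩ := Submodule.mem_sup.1 hv
        obtain ⟨c, rfl⟩ := Submodule.mem_span_singleton.1 ha
        obtain ⟨c', hc'⟩ := (finrank_eq_one_iff_of_nonzero' (⟨zb, hzb⟩ : ↥(perp Q P ⊓ perp Q (F ∙ za)))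
          (fun h => hzb0 (congrArg Subtype.val h))).1
          (show finrank F ↥(perp Q P ⊓ perp Q (F ∙ za)) = 1 by omega) ⟨b, hb⟩
        rw [QuadraticMap.polar_add_right, QuadraticMap.polar_smul_right, hab,
          ← show c' • zb = b from congrArg Subtype.val hc', QuadraticMap.polar_smul_right,
          QuadraticMap.polar_self, h0]
        simp)
      have hd0 : 1 ≤ d' := by omega
      have hpe : ∀ {v : V}, v ∈ perp Q P → ∀ i, polar Q (e i) v = 0 ∧ polar Q (f i) v = 0 := fun hv i =>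
        ⟨by rw [QuadraticMap.polar_comm]; exact hv _ (he i), by rw [QuadraticMap.polar_comm]; exact hv _ (hf i)⟩
      obtain ⟨g, hu, h1, h3, -, -⟩ := exists_elt hH (s₀ := d' - 1) (s₁ := 2) (by omega)
        (x := ![za, zb]) (fun i j => by fin_cases j; exacts [(hpe hza i).1, (hpe hzb.1 i).1])
        (fun i j => by fin_cases j; exacts [(hpe hza i).2, (hpe hzb.1 i).2])
        (fun i j hij => by
          fin_cases i <;> fin_cases j <;> simp at hij ⊢
          · rw [QuadraticMap.polar_comm]; exact hab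
          · exact hab)
        (fun j => by fin_cases j; exacts [by simp [hQa], hQb]) (Or.inl h2)
      refine ⟨g, hu, hne (by omega) h1, fun ⟨W, hW, hWg, hWT⟩ => ?_⟩
      have hWd := hWT.finrank_eq
      have := (mod_four hu hQ h2 hW hWg (Nat.odd_iff.2 (by omega)) (by rw [hd]; exact even_two_mul _)
        (by omega)).2.1 h3
      omega

end Abstract

/-! ### In the commutator subgroup -/

section Concrete

variable {ι : Type} [Fintype ι] [DecidableEq ι] {q : QuadraticForm F (ι → F)} {f : (ι → F) → F}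
variable {p : ℕ} [Fact p.Prime] [CharP F p]
variable {P : Submodule F (ι → F) → Prop} {T : Submodule F (ι → F)}

theorem exists_gl_unip (hQ : (polarBilin q).Nondegenerate) [Nonempty ι] (hf : f = ⇑q)
    (hexc : Fintype.card F ≠ 2 ∨ finrank F (ι → F) ≠ 4) {g : Module.End F (ι → F)}
    (hu : Unip q g) (hg1 : g ≠ 1)
    (hch : p ≠ 2 ∨ ((g - 1) * (g - 1) = 0 ∧ ∃ U, OmegaClasses.Lagr q U ∧ ∀ v ∈ U, g v = v)) :
    ∃ x : GL ι F, x ∈ Cfsg.Geo.omegaGL f ∧
      (Matrix.toLin' (x : Matrix ι ι F) : Module.End F (ι → F)) = g ∧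
      ((x ^ p : GL ι F) : Matrix ι ι F) = (1 : F) • (1 : Matrix ι ι F) ∧
      (∀ z : F, (x : Matrix ι ι F) ≠ z • (1 : Matrix ι ι F)) ∧ orderOf x = p := by
  subst hf
  have hp : p.Prime := Fact.out
  set N : Module.End F (ι → F) := g - 1 with hN
  have hgN : g = 1 + N := (add_sub_cancel _ _).symm
  haveI : CharP (Module.End F (ι → F)) p :=
    charP_of_injective_algebraMap (FaithfulSMul.algebraMap_injective F _) p
  have hNp : N ^ p = 0 := by
    rcases hch with h | ⟨h, -⟩
    · have h3 : N ^ 3 = 0 := by rw [pow_succ, pow_two]; exact hu.cube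
      exact pow_eq_zero_of_le (show 3 ≤ p by have := hp.two_le; omega) h3
    · exact pow_eq_zero_of_le hp.two_le (by rw [pow_two]; exact h)
  have hgp : g ^ p = 1 := by
    rw [hgN, add_pow_char_of_commute (p := p) (Commute.one_left N), one_pow, hNp, add_zero]
  have hinj : Function.Injective g := by
    intro a b hab
    have h := congrArg (fun v => (g ^ (p - 1)) v) hab
    simp only [← Module.End.mul_apply, ← pow_succ, show p - 1 + 1 = p from Nat.succ_pred_eq_of_pos hp.pos,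
      hgp, Module.End.one_apply] at h
    exact h
  let k : orth q := ⟨LinearEquiv.ofInjectiveEndo g hinj, hu.form⟩
  have hkg : ((k.1 : (ι → F) ≃ₗ[F] (ι → F)) : Module.End F (ι → F)) = g := LinearMap.ext fun v => rfl
  have hkp : k ^ p = 1 := Subtype.ext (LinearEquiv.toLinearMap_injective (by
    rw [coe_pow_orth, hkg, hgp]; rfl))
  have hgen := OmegaClasses.reflGroup_top hQ hexc
  have hmem : k ∈ commutator (orth q) := by
    rcases eq_or_ne p 2 with h2 | h2
    · obtain ⟨U, hU, hUfix⟩ := (hch.resolve_left fun h => h h2).2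
      obtain ⟨vs, hns, hk⟩ := OmegaClasses.exists_rprod hgen k
      have hpar := OmegaClasses.parity_rprod hQ hU hU hns
      have hmap : U.map (k.1 : (ι → F) →ₗ[F] (ι → F)) = U := by
        ext v
        refine ⟨?_, fun hv => ⟨v, hv, hUfix v hv⟩⟩
        rintro ⟨w, hw, rfl⟩
        rw [show (k.1 : (ι → F) →ₗ[F] (ι → F)) w = g w from rfl, hUfix w hw]
        exact hw
      rw [← hk, hmap, inf_idem] at hpar
      rw [hk, OmegaClasses.rprod_mem_iff hQ hexc hns]
      refine ⟨?_, QuadClassify.isSquare_of_two_eq_zero ?_ _⟩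
      · rcases hpar with ⟨a, ha⟩; exact Nat.even_iff.2 (by omega)
      · subst h2; exact CharP.cast_eq_zero F 2
    · exact OrthDerangeBase61.mem_commutator_of_pow hgen h2 k hkp
  set x := OmegaGeo.toGL q k with hx
  have hlin : (Matrix.toLin' (x : Matrix ι ι F) : Module.End F (ι → F)) = g := LinearMap.ext fun v => by
    rw [Matrix.toLin'_apply, hx, OmegaGeo.toGL_mulVec]; rfl
  have hpow : x ^ p = 1 := Units.ext (Matrix.toLin'.injective (by
    rw [Units.val_pow_eq_pow_val, Matrix.toLin'_pow, hlin, hgp, Units.val_one, Matrix.toLin'_one]; rfl))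
  refine ⟨x, OmegaGeo.toGL_mem hmem, hlin, by rw [hpow, one_smul]; rfl, fun z hz => hg1 ?_,
    orderOf_eq_prime hpow fun e => hg1 ?_⟩
  · obtain ⟨i⟩ := ‹Nonempty ι›
    have hgz : g = z • (1 : Module.End F (ι → F)) := by
      rw [← hlin, hz, map_smul, Matrix.toLin'_one]; rfl
    have h := hu.cube
    rw [hgz, show z • (1 : Module.End F (ι → F)) - 1 = (z - 1) • 1 from LinearMap.ext fun v => by simp [sub_smul],
      smul_mul_smul_comm, smul_mul_smul_comm, one_mul, one_mul] at h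
    have h' := congrFun (LinearMap.congr_fun h (Pi.single i 1)) i
    have h0 : z - 1 = 0 := by simpa using h'
    rw [hgz, sub_eq_zero.1 h0, one_smul]
  · rw [← hlin, e, Units.val_one, Matrix.toLin'_one]; rfl

open OrthDerangeGlue61 in
theorem not_allProj (hQ : (polarBilin q).Nondegenerate) [Nonempty ι] (hf : f = ⇑q)
    (hexc : Fintype.card F ≠ 2 ∨ finrank F (ι → F) ≠ 4) (hP : ∀ W, P W ↔ Nondeg q W ∧ Congr q W T)
    {g : Module.End F (ι → F)} (hu : Unip q g) (hg1 : g ≠ 1)
    (hch : p ≠ 2 ∨ ((g - 1) * (g - 1) = 0 ∧ ∃ U, OmegaClasses.Lagr q U ∧ ∀ v ∈ U, g v = v))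
    (hfix : ¬ Fix q g T) : ¬ AllProj f p P ∧ ¬ AllOrd f p P := by
  obtain ⟨x, hx, hlin, hpow, hns, ho⟩ := exists_gl_unip hQ hf hexc hu hg1 hch
  have hno : ¬ Stab P x := fun h => hfix (hlin ▸ fix_of_stab hP h)
  exact ⟨fun h => hno (h x hx ⟨1, hpow⟩ hns), fun h => hno (h x hx ho)⟩

end Concrete

end Cfsg.Agent.OrthUnipDerange61
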