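import Mathlib
import Cfsg.Agent.Lib.OrthUnipDerange61

/-!
The criterion for elements of prime order in even dimension, and the two standard spaces.
-/

set_option autoImplicit false
set_option linter.unusedSectionVars false

namespace Cfsg.Agent.OrthDerangeEven61

open Module
open QuadraticMap (polar polarBilin)
open Cfsg.Agent.QuadClassify (Nondeg)
open Cfsg.Agent.OrthBlocks61 Cfsg.Agent.OrthIsoClasses61 Cfsg.Agent.OrthSubspaceFix61
open Cfsg.Agent.OrthDerangeBase61

variable {F : Type*} [Field F] [Fintype F]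

section Abstract

variable {V : Type*} [AddCommGroup V] [Module F V] [FiniteDimensional F V]
variable {Q : QuadraticForm F V} {r i c : ℕ} [Fact r.Prime]

/-- Freeness from the dimension and the type. -/
def FreeDim (i c m : ℕ) (p : Prop) : Prop :=
  m % c = 0 ∧ ((Odd i ∧ p) ∨ (Even i ∧ (Even (m / i) ↔ p)))

theorem free_dim (hr : (r : F) ≠ 0) (hr2 : r ≠ 2) {W : Submodule F V} (hW : Nondeg Q W) {m : ℕ}
    (hd : finrank F W = m) (hi : i = orderOf (Fintype.card F : ZMod r)) (hc : c = blockDim F r) :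
    Free Q r W ↔ FreeDim i c m (Plus Q W) := by
  rw [free_iff hr hr2 hW hi hc, hd, Nat.dvd_iff_mod_eq_zero]; rfl

/-- The condition for a class of even dimension. -/
theorem cond_even (hQ : (polarBilin Q).Nondegenerate) (hr : (r : F) ≠ 0) (hr2 : r ≠ 2)
    (hi : i = orderOf (Fintype.card F : ZMod r)) (hc : c = blockDim F r) {d h : ℕ}
    (hd : finrank F V = 2 * d) {T : Submodule F V} (hT : Nondeg Q T) (hTd : finrank F T = 2 * h) :
    Cond Q r T ↔ (FreeDim i c (2 * h) (Plus Q T) ∨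
      FreeDim i c (2 * d - 2 * h) (Plus Q T ↔ Plus Q (⊤ : Submodule F V)) ∨
      (0 < 2 * h % c ∧ (2 * h % c < 2 * d % c ∨
        (2 * d % c = 0 ∧ ¬ FreeDim i c (2 * d) (Plus Q (⊤ : Submodule F V)))))) := by
  obtain ⟨hPn, hPd, -⟩ := nd_perp hQ hT
  unfold Cond
  rw [free_dim hr hr2 hT hTd hi hc, free_dim hr hr2 hPn (m := 2 * d - 2 * h) (by omega) hi hc,
    free_dim hr hr2 (QuadClassify.nondeg_top hQ) (m := 2 * d) (by rw [finrank_top, hd]) hi hc,
    plus_perp hQ hT (a := h) (b := d - h) hTd (by omega), hTd, hd, ← hc]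

/-- The condition for a class of odd dimension. -/
theorem cond_odd (hQ : (polarBilin Q).Nondegenerate) (hr : (r : F) ≠ 0) (hr2 : r ≠ 2)
    (hi : i = orderOf (Fintype.card F : ZMod r)) (hc : c = blockDim F r) {d m : ℕ}
    (hd : finrank F V = 2 * d) {T : Submodule F V} (hT : Nondeg Q T) (hTd : finrank F T = m)
    (hm : Odd m) :
    Cond Q r T ↔ (0 < m % c ∧ (m % c < 2 * d % c ∨
        (2 * d % c = 0 ∧ ¬ FreeDim i c (2 * d) (Plus Q (⊤ : Submodule F V))))) := by
  obtain ⟨hPn, hPd, -⟩ := nd_perp hQ hT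
  have hceven : Even c := hc ▸ blockDim_even
  have hno : ∀ W : Submodule F V, Odd (finrank F W) → ¬ Free Q r W := fun W hW hfr =>
    Nat.not_even_iff_odd.2 hW (hceven.trans_dvd (hc ▸ hfr.1))
  unfold Cond
  rw [free_dim hr hr2 (QuadClassify.nondeg_top hQ) (m := 2 * d) (by rw [finrank_top, hd]) hi hc,
    hTd, hd, ← hc]
  have h1 := hno T (hTd ▸ hm)
  have h2 := hno (perp Q T) (by rw [Nat.odd_iff] at hm ⊢; omega)
  simp only [h1, h2, false_or]

end Abstract

theorem div_facts {i m n : ℕ} (hi : 0 < i) (hmn : m ≤ n) :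
    ((n - m) % i = 0 ↔ m % i = n % i) ∧ m / i ≤ n / i ∧ (1 ≤ m / i ↔ i ≤ m) ∧
      (m % i = n % i → (n - m) / i = n / i - m / i ∧ (n + m - 2 * (n % i)) / i = n / i + m / i) := by
  have h1 := Nat.div_add_mod n i
  have h2 := Nat.div_add_mod m i
  refine ⟨?_, Nat.div_le_div_right hmn, Nat.one_le_div_iff hi, fun h => ⟨?_, ?_⟩⟩
  · rw [← Nat.dvd_iff_mod_eq_zero, ← Nat.modEq_iff_dvd' hmn]; rfl
  · refine Nat.div_eq_of_eq_mul_left hi ?_
    rw [Nat.sub_mul, mul_comm (n / i), mul_comm (m / i)]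
    omega
  · refine Nat.div_eq_of_eq_mul_left hi ?_
    rw [Nat.add_mul, mul_comm (n / i), mul_comm (m / i)]
    omega

theorem card_odd {p : ℕ} [Fact p.Prime] [CharP F p] (hp : p ≠ 2) : Odd (Fintype.card F) := by
  obtain ⟨n, -, hn⟩ := FiniteField.card F p
  rw [hn]
  exact ((Fact.out : p.Prime).odd_of_ne_two hp).pow

theorem plus_top_plus (d : ℕ) :
    Plus (QuadClassify.qPlus d F) (⊤ : Submodule F (Fin d ⊕ Fin d → F)) := by
  obtain ⟨h1, h2⟩ := OmegaStd.lagr_plus (F := F) (m := d)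
  exact ⟨_, le_top, h1, by rw [finrank_top, h2]⟩

theorem not_plus_top_minus (k : ℕ) {a b : F}
    (hab : ∀ z₁ z₂ : F, z₁ ^ 2 + a * z₁ * z₂ + b * z₂ ^ 2 = 0 → z₁ = 0 ∧ z₂ = 0) :
    ¬ Plus (QuadClassify.qMinus k F a b) (⊤ : Submodule F ((Fin k ⊕ Fin k) ⊕ Fin 2 → F)) := by
  intro hp
  have hQ := OrthPrimeOrderClasses73.nd_minus (F := F) k hab
  obtain ⟨N, hN⟩ := (exists_prof (QuadClassify.nondeg_top hQ) (h := k + 1) (by
    rw [finrank_top, Module.finrank_pi]; simp only [Fintype.card_sum, Fintype.card_fin]; omega)).1 hp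
  obtain ⟨M, hM⟩ := OrthTypeCount73.prof_qMinus (F := F) k hab
  have := OrthTypeCount73.Prof.unique hN (hM.map Submodule.topEquiv.symm.toEquiv fun v =>
    QuadClassify.qMinus_apply k a b v)
  have hq : (0 : ℤ) < (Fintype.card F : ℤ) ^ (k + 1) :=
    pow_pos (by exact_mod_cast Fintype.card_pos) _
  omega

end Cfsg.Agent.OrthDerangeEven61
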