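import Mathlib
import Cfsg.Prelude.Def_GeometricClasses
import Cfsg.Agent.Lib.OrthDerangeEven61
import Cfsg.Agent.Lib.SymplecticAlt

/-!
Involutions in characteristic two and the nondegenerate subspaces that they stabilise.
-/

set_option autoImplicit false
set_option linter.unusedSectionVars false

namespace Cfsg.Agent.OrthCharTwoInvol61

open Module
open QuadraticMap (polar polarBilin)
open Cfsg.Agent.QuadClassify (Nondeg Hyp)
open Cfsg.Agent.OrthBlocks61 Cfsg.Agent.OrthIsoClasses61 Cfsg.Agent.OrthSubspaceFix61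
open Cfsg.Agent.OrthUnipInv61 Cfsg.Agent.OrthTwoElem61 Cfsg.Agent.OrthEichler61
open Cfsg.Agent.OrthUnipDerange61
open Cfsg.Agent.OrthUnitaryQuad Cfsg.Agent.OrthUnitaryRefl Cfsg.Agent.OrthUnitaryPrelude

variable {F : Type*} [Field F] [Fintype F]

section Abstract

variable {V : Type*} [AddCommGroup V] [Module F V] [FiniteDimensional F V]
variable {Q : QuadraticForm F V} {g : Module.End F V}

theorem pol_self (h2 : (2 : F) = 0) (v : V) : polar Q v v = 0 := by
  rw [QuadraticMap.polar_self, two_smul, ← two_mul, h2, zero_mul]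

/-- A small invariant nondegenerate piece. -/
theorem exists_piece (h2 : (2 : F) = 0) (hQg : ∀ v, Q (g v) = Q v) (hgg : ∀ v, g (g v) = v)
    {W : Submodule F V} (hW : Nondeg Q W) (hWg : ∀ v ∈ W, g v ∈ W) {e : ℕ}
    (hd : finrank F W = 2 * e) (he : 1 ≤ e) :
    ∃ X ≤ W, Nondeg Q X ∧ (∀ v ∈ X, g v ∈ X) ∧
      (finrank F X = 2 ∨ (finrank F X = 4 ∧ Plus Q X)) := by
  set N : Module.End F V := g - 1 with hN
  have hgN : ∀ v, g v = v + N v := fun v => by simp [N]
  have hneg : ∀ v : V, -v = v := fun v => by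
    rw [neg_eq_iff_add_eq_zero, ← two_smul F v, h2, zero_smul]
  have hNN : ∀ v, N (N v) = 0 := fun v => by
    simp only [N, LinearMap.sub_apply, Module.End.one_apply, map_sub, hgg]
    rw [show v - g v - (g v - v) = (2 : F) • (v - g v) by module, h2, zero_smul]
  have hgNv : ∀ v, g (N v) = N v := fun v => by rw [hgN, hNN, add_zero]
  have hNW : ∀ v ∈ W, N v ∈ W := fun v hv => W.sub_mem (hWg v hv) hv
  have hpol : ∀ a b, polar Q (g a) (g b) = polar Q a b := fun a b => by simp [polar, ← map_add, hQg]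
  have hker : ∀ a b, polar Q (N a) (N b) = 0 := fun a b => by
    have h := hpol a (N b)
    rw [hgNv, hgN a, QuadraticMap.polar_add_left, add_eq_left] at h
    exact h
  have hdiag : ∀ v, polar Q v (N v) = -Q (N v) := fun v => by
    have h := hQg v
    rw [hgN, QuadraticMap.map_add Q] at h
    linear_combination h
  have hsym : ∀ a b, polar Q (N a) b = -polar Q a (N b) := fun a b => by
    have h := hpol a b
    rw [hgN a, hgN b, QuadraticMap.polar_add_left, QuadraticMap.polar_add_right,
      QuadraticMap.polar_add_right, hker] at h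
    linear_combination h
  by_cases h0 : ∀ v ∈ W, N v = 0
  · have hfix : ∀ X ≤ W, ∀ v ∈ X, g v ∈ X := fun X hX v hv => by
      rw [hgN, h0 v (hX hv), add_zero]; exact hv
    rcases he.lt_or_eq with h | h
    · obtain ⟨B, hBW, hB, hBd, -⟩ := exists_plus hW (l := 1) (by omega)
      exact ⟨B, hBW, hB, hfix B hBW, Or.inl hBd⟩
    · exact ⟨W, le_rfl, hW, hWg, Or.inl (by omega)⟩
  · by_cases hc : ∃ v ∈ W, Q (N v) ≠ 0
    · obtain ⟨v, hv, hne⟩ := hc
      obtain ⟨hn, hd2⟩ := span_pair_nd (Q := Q) (x := v) (y := N v) fun a b ha hb => by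
        rw [QuadraticMap.polar_add_left, QuadraticMap.polar_smul_left, QuadraticMap.polar_smul_left,
          pol_self h2, QuadraticMap.polar_comm Q (N v) v, hdiag, smul_zero, zero_add] at ha
        rw [QuadraticMap.polar_add_left, QuadraticMap.polar_smul_left, QuadraticMap.polar_smul_left,
          pol_self h2, hdiag, smul_zero, add_zero] at hb
        exact ⟨(smul_eq_zero.1 hb).resolve_right (neg_ne_zero.2 hne),
          (smul_eq_zero.1 ha).resolve_right (neg_ne_zero.2 hne)⟩
      refine ⟨Submodule.span F {v, N v}, Submodule.span_le.2 (by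
        rintro x (rfl | rfl); exacts [hv, hNW v hv]), hn, fun x hx => ?_, Or.inl hd2⟩
      obtain ⟨a, b, rfl⟩ := Submodule.mem_span_pair.1 hx
      rw [map_add, map_smul, map_smul, hgNv, hgN, smul_add, add_assoc, ← add_smul]
      exact Submodule.mem_span_pair.2 ⟨a, a + b, rfl⟩
    · push Not at hc h0
      obtain ⟨v, hv, hv0⟩ := h0
      obtain ⟨u₀, hu₀, hne⟩ : ∃ u ∈ W, polar Q (N v) u ≠ 0 := by
        by_contra hall
        push Not at hall
        exact hv0 (hW _ (hNW v hv) hall)
      obtain ⟨u, hu, hvu⟩ : ∃ u ∈ W, polar Q (N v) u = 1 :=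
        ⟨(polar Q (N v) u₀)⁻¹ • u₀, W.smul_mem _ hu₀, by
          rw [QuadraticMap.polar_smul_right, smul_eq_mul, inv_mul_cancel₀ hne]⟩
      have hd0 : ∀ x ∈ W, polar Q x (N x) = 0 := fun x hx => by rw [hdiag, hc x hx, neg_zero]
      have huv : polar Q u (N v) = 1 := by rw [QuadraticMap.polar_comm]; exact hvu
      have hvNu : polar Q v (N u) = -1 := by
        rw [← hvu, hsym, neg_neg]
      have hNuv : polar Q (N u) v = -1 := by rw [QuadraticMap.polar_comm]; exact hvNu
      let x : Fin 4 → V := ![v, u, N v, N u]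
      have hxW : Set.range x ⊆ W := by
        rintro _ ⟨i, rfl⟩; fin_cases i
        exacts [hv, hu, hNW v hv, hNW u hu]
      have hkey : ∀ c : Fin 4 → F, (∀ j, polar Q (∑ i, c i • x i) (x j) = 0) → c = 0 := by
        intro c hc'
        have e : ∑ i, c i • x i = c 0 • v + c 1 • u + c 2 • N v + c 3 • N u := by
          simp [Fin.sum_univ_four, x]
        rw [e] at hc'
        have hh : ∀ j, c 0 * polar Q v (x j) + c 1 * polar Q u (x j) + c 2 * polar Q (N v) (x j) +
            c 3 * polar Q (N u) (x j) = 0 := fun j => by simpa using hc' j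
        have h0' := hh 2
        have h1' := hh 3
        have h2' := hh 0
        have h3' := hh 1
        simp only [x, Matrix.cons_val, hd0 v hv, hd0 u hu, huv, hker, hvNu, hvu, hNuv, pol_self h2,
          QuadraticMap.polar_comm Q (N v) v, QuadraticMap.polar_comm Q (N u) u,
          mul_zero, mul_one, zero_add, add_zero] at h0' h1' h2' h3'
        have hc1 : c 1 = 0 := h0'
        have hc0 : c 0 = 0 := by simpa using h1'
        simp only [hc1, hc0, zero_mul, zero_add, add_zero] at h2' h3'
        have hc3 : c 3 = 0 := by simpa using h2'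
        have hc2 : c 2 = 0 := by simpa using h3'
        funext i; fin_cases i <;> assumption
      set X := Submodule.span F (Set.range x)
      have hn : Nondeg Q X := fun w hw hz => by
        obtain ⟨c, rfl⟩ := (Submodule.mem_span_range_iff_exists_fun F).1 hw
        rw [hkey c fun j => hz _ (Submodule.subset_span ⟨j, rfl⟩)]
        simp
      have hli : LinearIndependent F x := Fintype.linearIndependent_iff.2 fun c hc' i =>
        congrFun (hkey c fun j => by rw [hc', pol_zero_left]) i
      have hXd : finrank F X = 4 := (finrank_span_eq_card hli).trans (Fintype.card_fin 4)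
      have hm : ∀ i, x i ∈ X := fun i => Submodule.subset_span ⟨i, rfl⟩
      refine ⟨X, Submodule.span_le.2 hxW, hn, ?_, Or.inr ⟨hXd, ?_⟩⟩
      · suffices h : X ≤ X.comap g from fun w hw => h hw
        refine Submodule.span_le.2 ?_
        rintro _ ⟨i, rfl⟩
        show g (x i) ∈ X
        fin_cases i
        · show g v ∈ X; rw [hgN]; exact X.add_mem (hm 0) (hm 2)
        · show g u ∈ X; rw [hgN]; exact X.add_mem (hm 1) (hm 3)
        · show g (N v) ∈ X; rw [hgNv]; exact hm 2
        · show g (N u) ∈ X; rw [hgNv]; exact hm 3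
      · refine ⟨Submodule.span F {N v, N u}, Submodule.span_le.2 (by
          rintro w (rfl | rfl); exacts [hm 2, hm 3]), ?_, ?_⟩
        · intro w hw
          obtain ⟨a, b, rfl⟩ := Submodule.mem_span_pair.1 hw
          rw [← map_smul, ← map_smul, ← map_add]
          exact hc _ (W.add_mem (W.smul_mem _ hv) (W.smul_mem _ hu))
        · have hli2 : LinearIndependent F ![N v, N u] := LinearIndependent.pair_iff.2 fun a b hab => by
            have ha := congrArg (fun z => polar Q z u) hab
            have hb := congrArg (fun z => polar Q z v) hab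
            simp [QuadraticMap.polar_comm Q (N u) u, hd0 u hu, hvu, hNuv, QuadraticMap.polar_comm Q (N v) v,
              hd0 v hv, pol_zero_left] at ha hb
            exact ⟨ha, hb⟩
          have := finrank_span_eq_card hli2
          rw [Matrix.range_cons, Matrix.range_cons, Matrix.range_empty, Set.union_empty,
            Set.singleton_union, Fintype.card_fin] at this
          rw [this, hXd]

/-- Invariant subspaces of the same type. -/
theorem exists_sub (h2 : (2 : F) = 0) (hQg : ∀ v, Q (g v) = Q v) (hgg : ∀ v, g (g v) = v) :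
    ∀ (e : ℕ) (W : Submodule F V), finrank F W = 2 * e → Nondeg Q W → (∀ v ∈ W, g v ∈ W) →
      ∀ h ≤ e, (1 ≤ h ∨ Plus Q W) → (h % 2 = e % 2 ∨ ¬ (Plus Q W ↔ Even e)) →
        ∃ Z ≤ W, Nondeg Q Z ∧ (∀ v ∈ Z, g v ∈ Z) ∧ finrank F Z = 2 * h ∧ (Plus Q Z ↔ Plus Q W) := by
  have hpol : ∀ a b, polar Q (g a) (g b) = polar Q a b := fun a b => by simp [polar, ← map_add, hQg]
  have hinv : ∀ {W X : Submodule F V}, (∀ v ∈ W, g v ∈ W) → (∀ v ∈ X, g v ∈ X) →
      ∀ v ∈ W ⊓ perp Q X, g v ∈ W ⊓ perp Q X := fun hW hX v hv => ⟨hW v hv.1, fun y hy => by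
    rw [← hgg y, hpol]; exact hv.2 _ (hX y hy)⟩
  intro e
  induction e using Nat.strong_induction_on with
  | _ e ih =>
    -- the main step, avoiding the case of a plus space and `h = 1`
    have main : ∀ W : Submodule F V, finrank F W = 2 * e → Nondeg Q W → (∀ v ∈ W, g v ∈ W) →
        ∀ h ≤ e, (1 ≤ h ∨ Plus Q W) → (h % 2 = e % 2 ∨ ¬ (Plus Q W ↔ Even e)) →
          ¬ (Plus Q W ∧ h = 1 ∧ 1 < e) →
          ∃ Z ≤ W, Nondeg Q Z ∧ (∀ v ∈ Z, g v ∈ Z) ∧ finrank F Z = 2 * h ∧ (Plus Q Z ↔ Plus Q W) := by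
      intro W hd hW hWg h hh hpos hcond hexc
      rcases hh.lt_or_eq with hlt | rfl
      swap
      · exact ⟨W, le_rfl, hW, hWg, hd, Iff.rfl⟩
      rcases Nat.eq_zero_or_pos h with rfl | hh1
      · exact ⟨⊥, bot_le, nd_bot, fun v hv => by rw [(Submodule.mem_bot F).1 hv, map_zero]; exact zero_mem _,
          by rw [finrank_bot], iff_of_true plus_bot (hpos.resolve_left (by omega))⟩
      obtain ⟨X, hXW, hX, hXg, hXd⟩ := exists_piece h2 hQg hgg hW hWg hd (by omega)
      obtain ⟨hsup, hW'n, hdim⟩ := split hXW hX hW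
      have hW'g := hinv hWg hXg
      have hpX : ∀ {Z : Submodule F V}, Z ≤ W ⊓ perp Q X → Z ≤ perp Q X := fun hZ => hZ.trans inf_le_right
      rcases hXd with hXd | ⟨hXd, hXp⟩
      · have hpW : Plus Q W ↔ (Plus Q X ↔ Plus Q (W ⊓ perp Q X)) := by
          rw [← plus_sup hX hW'n inf_le_right (a := 1) (b := e - 1) (by omega) (by omega), hsup]
        have add : ∀ h', 2 * h' = 2 * h - 2 → ∀ Z ≤ W ⊓ perp Q X, Nondeg Q Z → (∀ v ∈ Z, g v ∈ Z) →
            finrank F Z = 2 * h' → (Plus Q Z ↔ Plus Q (W ⊓ perp Q X)) →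
            ∃ Z ≤ W, Nondeg Q Z ∧ (∀ v ∈ Z, g v ∈ Z) ∧ finrank F Z = 2 * h ∧ (Plus Q Z ↔ Plus Q W) :=
          fun h' hh' Z hZ hZn hZg hZd hZp => ⟨X ⊔ Z, sup_le hXW (hZ.trans inf_le_left),
            nd_sup hX hZn (hpX hZ), inv_sup hXg hZg, by rw [finrank_sup hX (hpX hZ)]; omega, by
              rw [plus_sup hX hZn (hpX hZ) (a := 1) (b := h') (by omega) hZd, hZp, hpW]⟩
        by_cases hXp : Plus Q X
        · have hpW' : Plus Q W ↔ Plus Q (W ⊓ perp Q X) := by rw [hpW]; simp [hXp]
          have hev : Even e ↔ ¬ Even (e - 1) := by rw [Nat.even_iff, Nat.even_iff]; omega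
          by_cases hc' : h % 2 = (e - 1) % 2 ∨ ¬ (Plus Q (W ⊓ perp Q X) ↔ Even (e - 1))
          · obtain ⟨Z, hZ, hZn, hZg, hZd, hZp⟩ := ih (e - 1) (by omega) _ (by omega) hW'n hW'g h
              (by omega) (Or.inl hh1) hc'
            exact ⟨Z, hZ.trans inf_le_left, hZn, hZg, hZd, hZp.trans hpW'.symm⟩
          · push Not at hc'
            have hpos' : 1 ≤ h - 1 ∨ Plus Q (W ⊓ perp Q X) := by
              by_cases h1 : h = 1
              · right
                by_contra hp
                have hev' : ¬ Even (e - 1) := fun he => hp (hc'.2.2 he)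
                rw [Nat.even_iff] at hev'
                omega
              · left; omega
            obtain ⟨Z, hZ, hZn, hZg, hZd, hZp⟩ := ih (e - 1) (by omega) _ (by omega) hW'n hW'g (h - 1)
              (by omega) hpos' (Or.inl (by omega))
            exact add (h - 1) (by omega) Z hZ hZn hZg hZd hZp
        · have hpW' : Plus Q W ↔ ¬ Plus Q (W ⊓ perp Q X) := by rw [hpW]; simp [hXp]
          have hev : Even e ↔ ¬ Even (e - 1) := by rw [Nat.even_iff, Nat.even_iff]; omega
          have hc' : (h - 1) % 2 = (e - 1) % 2 ∨ ¬ (Plus Q (W ⊓ perp Q X) ↔ Even (e - 1)) := by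
            rcases hcond with h' | h'
            · left; omega
            · right; rw [hpW', hev] at h'; tauto
          have hpos' : 1 ≤ h - 1 ∨ Plus Q (W ⊓ perp Q X) := by
            by_cases h1 : h = 1
            · by_cases hp : Plus Q W
              · exact absurd ⟨hp, h1, by omega⟩ hexc
              · rw [hpW', not_not] at hp; exact Or.inr hp
            · left; omega
          obtain ⟨Z, hZ, hZn, hZg, hZd, hZp⟩ := ih (e - 1) (by omega) _ (by omega) hW'n hW'g (h - 1)
            (by omega) hpos' hc'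
          exact add (h - 1) (by omega) Z hZ hZn hZg hZd hZp
      · have he2 : 2 ≤ e := by omega
        have hpW' : Plus Q W ↔ Plus Q (W ⊓ perp Q X) := by
          conv_lhs => rw [← hsup, plus_sup hX hW'n inf_le_right (a := 2) (b := e - 2) (by omega) (by omega)]
          simp [hXp]
        have hev : Even e ↔ Even (e - 2) := by rw [Nat.even_iff, Nat.even_iff]; omega
        have hc' : ∀ h', h' % 2 = h % 2 → (h' % 2 = (e - 2) % 2 ∨ ¬ (Plus Q (W ⊓ perp Q X) ↔ Even (e - 2))) :=
          fun h' hh' => hcond.imp (fun h'' => by omega) (fun h'' => by rw [← hpW', ← hev]; exact h'')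
        rcases (show h ≤ e - 2 ∨ h = e - 1 by omega) with h' | h'
        · obtain ⟨Z, hZ, hZn, hZg, hZd, hZp⟩ := ih (e - 2) (by omega) _ (by omega) hW'n hW'g h h'
            (Or.inl hh1) (hc' h rfl)
          exact ⟨Z, hZ.trans inf_le_left, hZn, hZg, hZd, hZp.trans hpW'.symm⟩
        · have hcd : ¬ (Plus Q W ↔ Even e) := hcond.resolve_left (by omega)
          have hpos' : 1 ≤ h - 2 ∨ Plus Q (W ⊓ perp Q X) := by
            by_cases hp : Plus Q W
            · exact Or.inr (hpW'.1 hp)
            · have : Even e := by by_contra hh; exact hcd (iff_of_false hp hh)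
              rw [Nat.even_iff] at this
              by_cases h3 : 3 ≤ h
              · left; omega
              · exfalso
                have he2' : e = 2 := by omega
                have hb : W ⊓ perp Q X = ⊥ := Submodule.finrank_eq_zero.1 (by omega)
                exact hp (hpW'.2 (hb ▸ plus_bot))
          have h2h : 2 ≤ h := by
            by_contra hh2
            have hb : W ⊓ perp Q X = ⊥ := Submodule.finrank_eq_zero.1 (by omega)
            exact hexc ⟨hpW'.2 (hb ▸ plus_bot), by omega, by omega⟩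
          obtain ⟨Z, hZ, hZn, hZg, hZd, hZp⟩ := ih (e - 2) (by omega) _ (by omega) hW'n hW'g (h - 2)
            (by omega) hpos' (hc' (h - 2) (by omega))
          refine ⟨X ⊔ Z, sup_le hXW (hZ.trans inf_le_left), nd_sup hX hZn (hpX hZ), inv_sup hXg hZg,
            by rw [finrank_sup hX (hpX hZ)]; omega, ?_⟩
          rw [plus_sup hX hZn (hpX hZ) (a := 2) (b := h - 2) (by omega) hZd, hZp, ← hpW']
          simp [hXp]
    intro W hd hW hWg h hh hpos hcond
    by_cases hexc : Plus Q W ∧ h = 1 ∧ 1 < e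
    · obtain ⟨hp, rfl, he⟩ := hexc
      have hodd : e % 2 = 1 := by
        rcases hcond with h' | h'
        · omega
        · by_contra hev; exact h' (iff_of_true hp (Nat.even_iff.2 (by omega)))
      obtain ⟨Z, hZ, hZn, hZg, hZd, hZp⟩ := main W hd hW hWg (e - 1) (by omega) (Or.inr hp)
        (Or.inr fun h' => by have := h'.1 hp; rw [Nat.even_iff] at this; omega) (fun h' => by omega)
      obtain ⟨hsup, hn, hdim⟩ := split hZ hZn hW
      refine ⟨W ⊓ perp Q Z, inf_le_left, hn, hinv hWg hZg, by omega, iff_of_true ?_ hp⟩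
      have h' := plus_sup hZn hn inf_le_right (a := e - 1) (b := 1) (by omega) (by omega)
      rw [hsup] at h'
      exact (h'.1 hp).1 (hZp.2 hp)
    · exact main W hd hW hWg h hh hpos hcond hexc

/-- Involutions of a minus space stabilise a minus subspace. -/
theorem fix_minus (h2 : (2 : F) = 0) (hQ : (polarBilin Q).Nondegenerate) (hQg : ∀ v, Q (g v) = Q v)
    (hgg : ∀ v, g (g v) = v) {d : ℕ} (hd : finrank F V = 2 * d)
    (htop : ¬ Plus Q (⊤ : Submodule F V)) {T : Submodule F V} (hT : Nondeg Q T) {h : ℕ}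
    (hTd : finrank F T = 2 * h) (hTp : ¬ Plus Q T) (h1 : 1 ≤ h) (hhd : h ≤ d)
    (hcond : Even d ∨ Odd h) : Fix Q g T := by
  obtain ⟨Z, -, hZ, hZg, hZd, hZp⟩ := exists_sub h2 hQg hgg d ⊤ (by rw [finrank_top, hd])
    (QuadClassify.nondeg_top hQ) (fun _ _ => trivial) h hhd (Or.inl h1) (by
      rcases Nat.even_or_odd d with hev | hodd
      · exact Or.inr fun h' => htop (h'.2 hev)
      · left
        have := hcond.resolve_left (Nat.not_even_iff_odd.2 hodd)
        rw [Nat.odd_iff] at hodd this
        omega)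
  exact ⟨Z, hZ, hZg, (congr_iff_plus hZ hT hZd hTd).2 (iff_of_false (fun h' => htop (hZp.1 h')) hTp)⟩

/-- An involution that stabilises no minus subspace of dimension divisible by four. -/
theorem exists_derange (h2 : (2 : F) = 0) (hQ : (polarBilin Q).Nondegenerate) {d : ℕ}
    (hd : finrank F V = 2 * d) (hd4 : 4 ≤ d) (hodd : Odd d) :
    ∃ k : orth Q, k ∈ commutator (orth Q) ∧ (∀ v, k.1 (k.1 v) = v) ∧ k ≠ 1 ∧
      ∀ W : Submodule F V, Nondeg Q W → (∀ v ∈ W, k.1 v ∈ W) → finrank F W % 8 = 0 ∨ finrank F W % 8 = 4 →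
        Plus Q W := by
  obtain ⟨e, f, P, hH, hP, hPn, hPd, -, hdim, he, hf⟩ := exists_pairs hQ (k := d - 1) (by omega)
  obtain ⟨d', hd'⟩ := hodd
  obtain ⟨g, hu, h1, h3, hfe, hfix⟩ := exists_elt hH (s₀ := d') (s₁ := 0) (by omega)
    (x := Fin.elim0) (fun _ j => j.elim0) (fun _ j => j.elim0) (fun j => j.elim0) (fun j => j.elim0)
    (Or.inr rfl)
  set N : Module.End F V := g - 1 with hN
  have hNN : N * N = 0 := by
    rw [rk_top] at h3
    exact LinearMap.range_eq_bot.1 (Submodule.finrank_eq_zero.1 h3)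
  have hgg : ∀ v, g (g v) = v := fun v => by
    have h := LinearMap.congr_fun hNN v
    simp only [N, Module.End.mul_apply, LinearMap.sub_apply, Module.End.one_apply, map_sub,
      LinearMap.zero_apply] at h
    have h' : g (g v) - v - (2 : F) • (g v - v) = 0 := by rw [← h]; module
    rwa [h2, zero_smul, sub_zero, sub_eq_zero] at h'
  have hgperp : ∀ v ∈ perp Q P, g v = v := fun v hv => hfix v
    (fun i => by rw [QuadraticMap.polar_comm]; exact hv _ (he i)) (fun j => j.elim0)
  have hPg : ∀ v ∈ P, g v ∈ P := by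
    intro v hv
    obtain ⟨-, -, hpp⟩ := nd_perp hQ hP
    rw [← hpp]
    intro w hw
    rw [← hgperp w hw, hu.polar_map, QuadraticMap.polar_comm]
    exact hw v hv
  let gP : Module.End F P := g.restrict hPg
  have hgP : ∀ v : P, gP (gP v) = v := fun v => Subtype.ext (hgg v)
  let kP : orth (res Q P) := ⟨LinearEquiv.ofInvolutive gP hgP, fun v => hu.form v⟩
  have hndP := res_nd hP
  have hgenP := OmegaClasses.reflGroup_top hndP (Or.inr (by omega))
  obtain ⟨vs, hns, hk⟩ := OmegaClasses.exists_rprod hgenP kP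
  have hle : Submodule.span F (Set.range e) ≤ P := Submodule.span_le.2 (by rintro _ ⟨i, rfl⟩; exact he i)
  have hL : OmegaClasses.Lagr (res Q P) ((Submodule.span F (Set.range e)).comap P.subtype) :=
    ⟨fun u hu => hyp_sing hH _ hu, by
      rw [(Submodule.comapSubtypeEquivOfLe hle).finrank_eq, finrank_span_eq_card (hyp_indep hH),
        Fintype.card_fin, hPd]⟩
  have hfixU : ∀ v ∈ (Submodule.span F (Set.range e)).comap P.subtype, kP.1 v = v := fun v hv => by
    refine Subtype.ext ?_
    show g (v : V) = v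
    have hker : Submodule.span F (Set.range e) ≤ LinearMap.ker (g - 1) := Submodule.span_le.2 (by
      rintro _ ⟨i, rfl⟩; simp [hfe i])
    exact sub_eq_zero.1 (hker hv)
  have hpar := OmegaClasses.parity_rprod hndP hL hL hns
  have hmap : ((Submodule.span F (Set.range e)).comap P.subtype).map (kP.1 : P →ₗ[F] P) =
      (Submodule.span F (Set.range e)).comap P.subtype := by
    ext v
    refine ⟨?_, fun hv => ⟨v, hv, hfixU v hv⟩⟩
    rintro ⟨w, hw, rfl⟩
    rw [show (kP.1 : P →ₗ[F] P) w = w from hfixU w hw]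
    exact hw
  rw [← hk, hmap, inf_idem] at hpar
  have hns' : OmegaClasses.NS Q (vs.map P.subtype) :=
    OmegaClasses.NS.map (Q := res Q P) (Q' := Q) P.subtype (fun _ => rfl) hns
  have hinj : Function.Involutive g := hgg
  let k : orth Q := ⟨LinearEquiv.ofInvolutive g hinj, hu.form⟩
  have hkeq : OmegaClasses.rprod Q (vs.map P.subtype) = k := orth_ext fun v => by
    have hv : v ∈ P ⊔ perp Q P := sup_perp_eq_top hP ▸ Submodule.mem_top
    obtain ⟨a, ha, b, hb, rfl⟩ := Submodule.mem_sup.1 hv
    show (OmegaClasses.rprod Q (vs.map P.subtype)).1 (a + b) = g (a + b)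
    rw [map_add (OmegaClasses.rprod Q (vs.map P.subtype)).1, map_add g]
    congr 1
    · have h := OmegaClasses.rprod_map (Q' := Q) P.subtype (fun _ => rfl) hns ⟨a, ha⟩
      rw [← hk] at h
      exact h
    · rw [OmegaClasses.rprod_fix hns' fun w hw => ?_, hgperp b hb]
      obtain ⟨w', -, rfl⟩ := List.mem_map.1 hw
      rw [QuadraticMap.polar_comm]
      exact hb _ w'.2
  refine ⟨k, ?_, hgg, fun e1 => ?_, fun W hW hWg hmod => ?_⟩
  · rw [← hkeq, OmegaClasses.rprod_mem_iff hQ (Or.inr (by omega)) hns', List.length_map]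
    refine ⟨?_, QuadClassify.isSquare_of_two_eq_zero h2 _⟩
    obtain ⟨a, ha⟩ := hpar
    exact Nat.even_iff.2 (by omega)
  · have hg1 : g = 1 := LinearMap.ext fun v => congrArg (fun k : orth Q => k.1 v) e1
    rw [hN, hg1, sub_self, rk, Submodule.map_zero, finrank_bot] at h1
    omega
  · obtain ⟨hPn', hdim', -⟩ := nd_perp hQ hW
    obtain ⟨a1, a2⟩ := hu.add hW hWg
    obtain ⟨b1, -, b2, -⟩ := hu.data hW hWg
    obtain ⟨c1, -, c2, -⟩ := hu.data hPn' (hu.perp_inv hWg)
    -- the rank on `W` is even
    obtain ⟨C₀, hC₀⟩ := (W ⊓ LinearMap.ker N).comap W.subtype |>.exists_isCompl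
    set C := C₀.map W.subtype
    have hCW : C ≤ W := Submodule.map_subtype_le _ _
    have hC : finrank F C = rk N W := by
      have h := Submodule.finrank_add_eq_of_isCompl hC₀
      rw [(Submodule.comapSubtypeEquivOfLe (inf_le_left : W ⊓ LinearMap.ker N ≤ W)).finrank_eq] at h
      have h' := map_ker N W
      rw [Submodule.finrank_map_subtype_eq]
      omega
    have hNQ : ∀ v, Q (N v) = 0 := fun v => hu.sing _ ⟨⟨v, rfl⟩, LinearMap.congr_fun hNN v⟩
    have heven : Even (finrank F C) := by
      refine SymplecticAlt.even_finrank ((polarBilin Q).comp N) (fun v => ?_) C fun u hu' h => ?_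
      · show polar Q (N v) v = 0
        have h' := hu.form v
        rw [show g v = v + N v by simp [N], QuadraticMap.map_add Q, hNQ v, add_zero, add_eq_left] at h'
        rw [QuadraticMap.polar_comm]; exact h'
      · have hNW := (sub_one_inv hWg).1
        have huW := hCW hu'
        have h0 : N u = 0 := hW _ (hNW u huW) fun w hw => by
          have hw' : (⟨w, hw⟩ : W) ∈ (W ⊓ LinearMap.ker N).comap W.subtype ⊔ C₀ := by
            rw [hC₀.sup_eq_top]; exact Submodule.mem_top
          obtain ⟨a, ha, b, hb, hab⟩ := Submodule.mem_sup.1 hw'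
          rw [show w = (a : V) + (b : V) from (congrArg Subtype.val hab).symm, QuadraticMap.polar_add_right,
            show polar Q (N u) (a : V) = 0 from hu.range_perp ⟨u, rfl⟩ ha.2, zero_add]
          exact h _ ⟨b, hb, rfl⟩
        obtain ⟨u', hu'', rfl⟩ := hu'
        have : u' = 0 := (Submodule.disjoint_def.1 hC₀.disjoint) u' ⟨u'.2, h0⟩ hu''
        rw [this]; rfl
    rw [hC] at heven
    obtain ⟨t, ht⟩ := heven
    rw [← hN] at a1 a2 b1 b2 c1 c2
    exact hu.plus_of_eq hW hWg (by rw [← hN]; omega)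

end Abstract

end Cfsg.Agent.OrthCharTwoInvol61
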