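import Mathlib
import Cfsg.Prelude.Def_Classical
import Cfsg.Agent.Lib.OrthUnitaryQuad
import Cfsg.Agent.Lib.QuadClassify

/-!
Characteristic two: the sign of a quadratic space as a Gauss sum, field models of both signs, and
elements of prescribed order in their isometry groups.
-/

set_option autoImplicit false

namespace Cfsg.Agent.OrthCharTwoModels

open QuadraticMap Module
open Cfsg.Agent.OrthUnitaryQuad (orth mem_orth map_orth polar_orth)

variable {F : Type*} [Field F] [Fintype F] [CharP F 2]

/-! ### A sign character -/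

theorem add_self_vec {U : Type*} [AddCommGroup U] [Module F U] (x : U) : x + x = 0 := by
  have h := (two_smul F x).symm
  rwa [CharTwo.two_eq_zero, zero_smul] at h

theorem exists_signChar : ∃ φ : F →+ ZMod 2, φ ≠ 0 := by
  letI := ZMod.algebra F 2
  obtain ⟨x, hx⟩ := Algebra.trace_surjective (ZMod 2) F 1
  exact ⟨(Algebra.trace (ZMod 2) F).toAddMonoidHom, fun h => by
    have := DFunLike.congr_fun h x
    simp [hx] at this⟩

/-- A fixed non-trivial additive character with values `±1`. -/
noncomputable def psi : AddChar F ℤ where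
  toFun x := if exists_signChar.choose x = 0 then 1 else -1
  map_zero_eq_one' := by simp
  map_add_eq_mul' x y := by
    rw [map_add]
    generalize exists_signChar.choose x = a
    generalize exists_signChar.choose y = b
    revert a b
    decide

theorem psi_ne_one : (psi : AddChar F ℤ) ≠ 1 := by
  intro h
  apply (exists_signChar (F := F)).choose_spec
  ext x
  have := DFunLike.congr_fun h x
  rw [AddChar.one_apply] at this
  by_contra hx
  simp [psi, show exists_signChar.choose x ≠ 0 from hx] at this

theorem sum_psi : ∑ x : F, psi x = 0 := AddChar.sum_eq_zero_of_ne_one psi_ne_one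

theorem psi_sq (x : F) : psi x * psi x = 1 := by
  rw [← AddChar.map_add_eq_mul, CharTwo.add_self_eq_zero, AddChar.map_zero_eq_one]

theorem sum_psi_linear {V : Type*} [AddCommGroup V] [Module F V] [Fintype V] (l : V →ₗ[F] F)
    (hl : l ≠ 0) : ∑ v, psi (l v) = 0 := by
  have hne : psi.compAddMonoidHom l.toAddMonoidHom ≠ 1 := by
    obtain ⟨v, hv⟩ : ∃ v, l v ≠ 0 := by
      by_contra h; push Not at h; exact hl (LinearMap.ext h)
    obtain ⟨x, hx⟩ : ∃ x : F, psi x ≠ 1 := by
      by_contra h; push Not at h; exact psi_ne_one (DFunLike.ext _ _ h)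
    intro h
    have := DFunLike.congr_fun h ((x / l v) • v)
    simp [div_mul_cancel₀ x hv] at this
    exact hx this
  exact AddChar.sum_eq_zero_of_ne_one hne

/-! ### The sign sum -/

variable {V W : Type*} [AddCommGroup V] [Module F V] [Fintype V] [AddCommGroup W] [Module F W]
  [Fintype W]

/-- The Gauss sum. -/
noncomputable def gauss (Q : QuadraticForm F V) : ℤ := ∑ v, psi (Q v)

theorem gauss_prod (Q : QuadraticForm F V) (Q' : QuadraticForm F W) :
    gauss (Q.prod Q') = gauss Q * gauss Q' := by
  rw [gauss, gauss, gauss, Fintype.sum_prod_type, Finset.sum_mul_sum]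
  simp [QuadraticMap.prod_apply, AddChar.map_add_eq_mul]

theorem gauss_congr (Q : QuadraticForm F V) (Q' : QuadraticForm F W) (e : V ≃ₗ[F] W)
    (h : ∀ v, Q' (e v) = Q v) : gauss Q' = gauss Q :=
  (Fintype.sum_equiv e.toEquiv _ _ fun v => by rw [← h v]; rfl).symm

theorem gauss_plus (m : ℕ) :
    gauss (QuadClassify.qPlus m F) = (Fintype.card F : ℤ) ^ m := by
  classical
  rw [gauss]
  have e1 : ∀ v, psi (QuadClassify.qPlus m F v) =
      psi (∑ i, v (Sum.inl i) * v (Sum.inr i)) := fun v => by
    rw [QuadClassify.qPlus_apply]; rfl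
  simp only [e1]
  rw [← Fintype.sum_equiv (Equiv.sumArrowEquivProdArrow (Fin m) (Fin m) F).symm
    (fun p => psi (∑ i, p.1 i * p.2 i)) _ (fun p => rfl), Fintype.sum_prod_type]
  rw [Finset.sum_eq_single (0 : Fin m → F)]
  · simp
  · intro x _ hx
    let l : (Fin m → F) →ₗ[F] F := ∑ i, x i • LinearMap.proj i
    have hl : ∀ y, l y = ∑ i, x i * y i := fun y => by simp [l]
    simp only [← hl]
    refine sum_psi_linear l fun h => hx (funext fun j => ?_)
    have := LinearMap.congr_fun h (Pi.single j 1)
    simpa [hl, Pi.single_apply] using this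
  · simp

/-- The square of the Gauss sum detects degeneracy. -/
theorem nondegenerate_of_gauss (Q : QuadraticForm F V) {k : ℕ}
    (hcard : Fintype.card V = Fintype.card F ^ (2 * k))
    (hQ : gauss Q = (Fintype.card F : ℤ) ^ k ∨ gauss Q = -(Fintype.card F : ℤ) ^ k) :
    (polarBilin Q).Nondegenerate := by
  classical
  have hsq : gauss Q * gauss Q = (Fintype.card V : ℤ) := by
    rw [hcard, Nat.cast_pow, two_mul, pow_add]
    rcases hQ with h | h <;> rw [h] <;> ring
  let R : Finset V := Finset.univ.filter fun d => ∀ w, polar Q d w = 0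
  have key : gauss Q * gauss Q = (Fintype.card V : ℤ) * ∑ d ∈ R, psi (Q d) := by
    calc gauss Q * gauss Q = ∑ w : V, ∑ d : V, psi (Q (d + w)) * psi (Q w) := by
          rw [gauss, Finset.mul_sum]
          refine Finset.sum_congr rfl fun w _ => ?_
          rw [Finset.sum_mul]
          exact (Fintype.sum_equiv (Equiv.addRight w) _ _ fun d => rfl).symm
      _ = ∑ d : V, psi (Q d) * ∑ w : V, psi (polarBilin Q d w) := by
          rw [Finset.sum_comm]
          refine Finset.sum_congr rfl fun d _ => ?_
          rw [Finset.mul_sum]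
          refine Finset.sum_congr rfl fun w _ => ?_
          rw [QuadraticMap.map_add (⇑Q), AddChar.map_add_eq_mul, AddChar.map_add_eq_mul,
            mul_right_comm, mul_assoc (psi (Q d)) (psi (Q w)), psi_sq, mul_one]
          rfl
      _ = ∑ d : V, if d ∈ R then psi (Q d) * (Fintype.card V : ℤ) else 0 := by
          refine Finset.sum_congr rfl fun d _ => ?_
          by_cases hd : d ∈ R
          · rw [if_pos hd]
            have hd' : ∀ w, polar Q d w = 0 := by simpa [R] using hd
            simp [hd']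
          · rw [if_neg hd, sum_psi_linear (polarBilin Q d) (fun h => hd ?_), mul_zero]
            simp only [R, Finset.mem_filter, Finset.mem_univ, true_and]
            exact fun w => LinearMap.congr_fun h w
      _ = _ := by
          rw [Finset.sum_ite_mem, Finset.univ_inter, Finset.mul_sum]
          exact Finset.sum_congr rfl fun d _ => mul_comm _ _
  have hone : ∑ d ∈ R, psi (Q d) = 1 := by
    rw [hsq] at key
    have hpos : (Fintype.card V : ℤ) ≠ 0 := by
      have := Fintype.card_pos (α := V); omega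
    exact (mul_right_eq_self₀.1 key.symm).resolve_right hpos
  have hR : ∀ d ∈ R, d = 0 := by
    intro d hd
    have hadd : ∀ a ∈ R, ∀ w, psi (Q (a + w)) = psi (Q a) * psi (Q w) := fun a ha w => by
      have ha' : ∀ w, polar Q a w = 0 := by simpa [R] using ha
      rw [QuadraticMap.map_add (⇑Q), ha', add_zero, AddChar.map_add_eq_mul]
    have h0 : (0 : V) ∈ R := by simp [R]
    have hclos : ∀ a ∈ R, a + d ∈ R := fun a ha => by
      simp only [R, Finset.mem_filter, Finset.mem_univ, true_and] at ha hd ⊢
      intro w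
      rw [polar_add_left, ha, hd, add_zero]
    have hdd : d + d = 0 := by rw [← two_smul F d, CharTwo.two_eq_zero, zero_smul]
    by_contra hne
    -- pair `a` with `a + d`
    have hs : (∑ a ∈ R, psi (Q a) : ℤ) = psi (Q d) * ∑ a ∈ R, psi (Q a) := by
      rw [Finset.mul_sum]
      refine Finset.sum_nbij' (fun a => a + d) (fun a => a + d) hclos hclos
        (fun a _ => by simp [add_assoc, hdd]) (fun a _ => by simp [add_assoc, hdd]) fun a ha => ?_
      rw [hadd a ha d, ← mul_assoc, mul_comm (psi (Q d)), mul_assoc, psi_sq, mul_one]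
    rw [hone, mul_one] at hs
    have heven : (2 : ℕ) ∣ R.card := by
      rw [← even_iff_two_dvd, ← ZMod.natCast_eq_zero_iff_even, Finset.card_eq_sum_ones, Nat.cast_sum]
      refine Finset.sum_involution (fun a _ => a + d) (fun a _ => by decide)
        (fun a _ _ h => hne (by simpa using h)) hclos (fun a _ => by simp [add_assoc, hdd])
    have hpar : ∀ a ∈ R, (psi (Q a) : ZMod 2) = 1 := fun a _ => by
      rcases Int.isUnit_iff.1 (IsUnit.of_mul_eq_one _ (psi_sq (Q a))) with h | h <;> rw [h] <;> decide
    have h2 : (((∑ a ∈ R, psi (Q a) : ℤ)) : ZMod 2) = (R.card : ZMod 2) := by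
      rw [Int.cast_sum, Finset.sum_congr rfl hpar]; simp
    rw [hone, (ZMod.natCast_eq_zero_iff_even).2 (even_iff_two_dvd.2 heven)] at h2
    exact absurd h2 (by decide)
  refine ⟨fun x hx => hR x (by simp only [R, Finset.mem_filter, Finset.mem_univ, true_and]; exact hx),
    fun x hx => hR x ?_⟩
  simp only [R, Finset.mem_filter, Finset.mem_univ, true_and]
  intro w
  rw [polar_comm]
  exact hx w

/-! ### Pieces -/

variable (F) in
/-- A space of dimension `2k`, sign `ε`, with an isometry of order `n`. -/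
def Piece (k : ℕ) (ε : ℤ) (n : ℕ) : Prop :=
  ∃ Q : QuadraticForm F (Fin (2 * k) → F),
    gauss Q = ε * (Fintype.card F : ℤ) ^ k ∧ ∃ g : orth Q, orderOf g = n

theorem piece_mk (Q : QuadraticForm F V) {k : ℕ} {ε : ℤ}
    (hcard : Fintype.card V = Fintype.card F ^ (2 * k))
    (hQ : gauss Q = ε * (Fintype.card F : ℤ) ^ k) (g : orth Q) : Piece F k ε (orderOf g) := by
  have hfr : finrank F V = 2 * k := by
    have := Module.card_eq_pow_finrank (K := F) (V := V)
    rw [hcard] at this
    exact (Nat.pow_right_injective Fintype.one_lt_card this).symm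
  let e : V ≃ₗ[F] (Fin (2 * k) → F) := LinearEquiv.ofFinrankEq _ _ (by rw [hfr, finrank_fin_fun])
  let Q' : QuadraticForm F (Fin (2 * k) → F) := Q.comp e.symm.toLinearMap
  have he : ∀ v, Q' (e v) = Q v := fun v => by simp [Q']
  let ε' := OrthUnitaryQuad.orthCongr (Q := Q) (Q' := Q') e he
  exact ⟨Q', by rw [gauss_congr Q Q' e he, hQ], ε' g, ε'.orderOf_eq g⟩

/-- The map to the orthogonal group of an orthogonal sum. -/
def orthProd (Q : QuadraticForm F V) (Q' : QuadraticForm F W) :
    orth Q × orth Q' →* orth (Q.prod Q') where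
  toFun p := ⟨p.1.1.prodCongr p.2.1, fun x => by
    simp [QuadraticMap.prod_apply, map_orth]⟩
  map_one' := Subtype.ext (LinearEquiv.ext fun x => rfl)
  map_mul' _ _ := Subtype.ext (LinearEquiv.ext fun x => rfl)

theorem orthProd_injective (Q : QuadraticForm F V) (Q' : QuadraticForm F W) :
    Function.Injective (orthProd Q Q') := by
  rintro ⟨a, b⟩ ⟨c, d⟩ h
  have h' : ∀ x, (orthProd Q Q' (a, b)).1 x = (orthProd Q Q' (c, d)).1 x := fun x => by rw [h]
  exact Prod.ext (Subtype.ext (LinearEquiv.ext fun x => congrArg Prod.fst (h' (x, 0))))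
    (Subtype.ext (LinearEquiv.ext fun x => congrArg Prod.snd (h' (0, x))))

theorem Piece.mul {k l : ℕ} {ε δ : ℤ} {n m : ℕ} (h : Piece F k ε n) (h' : Piece F l δ m) :
    Piece F (k + l) (ε * δ) (Nat.lcm n m) := by
  obtain ⟨Q, hQ, g, rfl⟩ := h
  obtain ⟨Q', hQ', g', rfl⟩ := h'
  have := piece_mk (Q.prod Q') (k := k + l) (ε := ε * δ)
    (by simp [Fintype.card_prod, ← pow_add, mul_add]) (by rw [gauss_prod, hQ, hQ']; ring)
    (orthProd Q Q' (g, g'))
  rwa [orderOf_injective _ (orthProd_injective Q Q'), Prod.orderOf] at this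

theorem Piece.of_dvd {k : ℕ} {ε : ℤ} {n d : ℕ} (h : Piece F k ε n) (hn : n ≠ 0) (hd : d ∣ n) :
    Piece F k ε d := by
  obtain ⟨Q, hQ, g, hg⟩ := h
  subst hg
  exact ⟨Q, hQ, g ^ (orderOf g / d), orderOf_pow_orderOf_div hn hd⟩

/-- The minus form of dimension eight receives every piece of sign minus. -/
theorem exists_minus_element {n : ℕ} (h : Piece F 4 (-1) n) {a b : F}
    (hab : ∀ z₁ z₂ : F, z₁ ^ 2 + a * z₁ * z₂ + b * z₂ ^ 2 = 0 → z₁ = 0 ∧ z₂ = 0) :
    ∃ g : Cfsg.isometryGroup F (Cfsg.quadFormMinus 3 F a b), orderOf g = n := by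
  classical
  obtain ⟨Q, hQ, g, hg⟩ := h
  have hnd := nondegenerate_of_gauss Q (k := 4) (by simp) (Or.inr (by rw [hQ]; ring))
  obtain ⟨k, e, f, W, hdec, hW⟩ := QuadClassify.exists_decomp Q hnd
  have hdim := hdec.2.2.2.2.2.1
  rw [finrank_top, finrank_fin_fun] at hdim
  rcases (show (finrank F W = 0 ∧ k = 4) ∨ (finrank F W = 2 ∧ k = 3) by omega) with ⟨-, rfl⟩ | ⟨hW2, rfl⟩
  · exfalso
    obtain ⟨σ, hσ⟩ := QuadClassify.iso_plus Q hdec.1 (by rw [finrank_fin_fun])
    have := gauss_congr Q (QuadClassify.qPlus 4 F) σ (fun v => by rw [QuadClassify.qPlus_apply, hσ])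
    rw [gauss_plus, hQ] at this
    have h1 : (0 : ℤ) < (Fintype.card F : ℤ) ^ 4 := by
      have := Fintype.card_pos (α := F); positivity
    linarith
  · obtain ⟨σ, hσ⟩ := QuadClassify.iso_minus Q hdec hW2 hab
    let Q' := QuadClassify.qMinus 3 F a b
    have he : ∀ v, Q' (σ v) = Q v := fun v => by rw [QuadClassify.qMinus_apply, hσ]
    let E := (OrthUnitaryQuad.isometryGroupEquiv Q' (Cfsg.quadFormMinus 3 F a b)
      fun v => (QuadClassify.qMinus_apply 3 a b v).symm).symm
    let C := OrthUnitaryQuad.orthCongr (Q := Q) (Q' := Q') σ he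
    exact ⟨E (C g), by rw [E.orderOf_eq, C.orderOf_eq, hg]⟩

/-! ### Field models -/

theorem unit_exists_orderOf {K : Type*} [Field K] [Finite K] {d : ℕ} (hd : d ∣ Nat.card K - 1) :
    ∃ u : Kˣ, orderOf u = d := by
  classical
  haveI := Fintype.ofFinite K
  obtain ⟨g, hg⟩ := IsCyclic.exists_ofOrder_eq_natCard (α := Kˣ)
  have hc : Nat.card Kˣ = Nat.card K - 1 := by
    rw [Nat.card_eq_fintype_card, Fintype.card_units, Nat.card_eq_fintype_card]
  have hd' : d ∣ orderOf g := by rw [hg, hc]; exact hd
  exact ⟨g ^ (orderOf g / d), orderOf_pow_orderOf_div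
    (by rw [hg]; exact Nat.card_pos.ne') hd'⟩

theorem orderOf_eq_two' {G : Type*} [Monoid G] {g : G} (h1 : g ^ 2 = 1) (h2 : g ≠ 1) : orderOf g = 2 :=
  orderOf_eq_prime (p := 2) h1 h2

section PlusModel

variable (F) in
/-- `L × L` with `(x, y) ↦ Tr (x y)`: a space of sign plus. -/
theorem plus_model (m : ℕ) (hm : m ≠ 0) :
    (∀ d, d ∣ Fintype.card F ^ m - 1 → Piece F m 1 d) ∧
      ∃ (Q : QuadraticForm F (Fin (2 * m) → F)) (g : orth Q),
        gauss Q = (Fintype.card F : ℤ) ^ m ∧ g ^ 2 = 1 ∧ g ≠ 1 := by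
  classical
  haveI : NeZero m := ⟨hm⟩
  let L := FiniteField.Extension F 2 m
  haveI : Fintype L := Fintype.ofFinite L
  have hL : Fintype.card L = Fintype.card F ^ m := by
    have := FiniteField.natCard_extension F 2 m
    rwa [Nat.card_eq_fintype_card, Nat.card_eq_fintype_card] at this
  let B : LinearMap.BilinMap F (L × L) F := LinearMap.mk₂ F (fun p q => Algebra.trace F L (p.1 * q.2))
    (fun a b c => by simp [add_mul])
    (fun r a c => by simp [Algebra.smul_mul_assoc])
    (fun a b c => by simp [mul_add])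
    (fun r a c => by simp [Algebra.mul_smul_comm])
  let Q : QuadraticForm F (L × L) := LinearMap.BilinMap.toQuadraticMap B
  have hQ : ∀ x y : L, Q (x, y) = Algebra.trace F L (x * y) := fun x y => rfl
  have hcard : Fintype.card (L × L) = Fintype.card F ^ (2 * m) := by
    rw [Fintype.card_prod, hL, two_mul, pow_add]
  have hg : gauss Q = (Fintype.card F : ℤ) ^ m := by
    rw [gauss, Fintype.sum_prod_type, Finset.sum_eq_single (0 : L)]
    · simp [hQ, hL]
    · intro x _ hx
      simp only [hQ]
      refine sum_psi_linear ((Algebra.trace F L).comp (LinearMap.mulLeft F x)) fun h => ?_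
      obtain ⟨z, hz⟩ := Algebra.trace_surjective F L 1
      have := LinearMap.congr_fun h (x⁻¹ * z)
      simp [← mul_assoc, mul_inv_cancel₀ hx, hz] at this
    · simp
  have hQ1 : gauss Q = 1 * (Fintype.card F : ℤ) ^ m := by rw [hg, one_mul]
  constructor
  · intro d hd
    obtain ⟨u, hu⟩ := unit_exists_orderOf (K := L) (d := d) (by rwa [Nat.card_eq_fintype_card, hL])
    let σ : Lˣ →* orth Q :=
      { toFun := fun v =>
          ⟨{ toFun := fun p => ((v : L) * p.1, (↑v⁻¹ : L) * p.2)
             map_add' := fun p q => by simp [mul_add]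
             map_smul' := fun r p => by simp [Algebra.mul_smul_comm]
             invFun := fun p => ((↑v⁻¹ : L) * p.1, (v : L) * p.2)
             left_inv := fun p => by simp [← mul_assoc]
             right_inv := fun p => by simp [← mul_assoc] },
           fun p => by
            obtain ⟨x, y⟩ := p
            show Q ((v : L) * x, (↑v⁻¹ : L) * y) = Q (x, y)
            rw [hQ, hQ, mul_mul_mul_comm, ← Units.val_mul, mul_inv_cancel, Units.val_one, one_mul]⟩
        map_one' := Subtype.ext (LinearEquiv.ext fun p => by simp)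
        map_mul' := fun v w => Subtype.ext (LinearEquiv.ext fun p => by
          show _ = ((v : L) * ((w : L) * p.1), (↑v⁻¹ : L) * ((↑w⁻¹ : L) * p.2))
          simp [mul_assoc, mul_comm, mul_left_comm]) }
    have hinj : Function.Injective σ := fun v w h => Units.ext (by
      have : (σ v).1 (1, 0) = (σ w).1 (1, 0) := by rw [h]
      simpa [σ] using congrArg Prod.fst this)
    have := piece_mk Q hcard hQ1 (σ u)
    rwa [orderOf_injective _ hinj, hu] at this
  · have hmem : (LinearEquiv.prodComm F L L) ∈ orth Q := fun p => by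
      obtain ⟨x, y⟩ := p
      show Q (y, x) = Q (x, y)
      rw [hQ, hQ, mul_comm]
    let g : orth Q := ⟨LinearEquiv.prodComm F L L, hmem⟩
    obtain ⟨Q', hQ', g', hg'⟩ := piece_mk Q hcard hQ1 g
    have h2 : orderOf g = 2 := orderOf_eq_two'
      (Subtype.ext (LinearEquiv.ext fun p => rfl)) (fun h => by
        have : g.1 ((1 : L), (0 : L)) = ((1 : L), (0 : L)) := by rw [h]; rfl
        simp [g] at this)
    rw [h2] at hg'
    refine ⟨Q', g', by rw [hQ', one_mul], orderOf_dvd_iff_pow_eq_one.1 hg'.dvd, fun h => ?_⟩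
    rw [h, orderOf_one] at hg'
    omega

end PlusModel

section MinusModel

variable (F) in
/-- A quadratic extension `K / L` with `x ↦ Tr (N x)`: a space of sign minus; with the automorphism
`x ↦ x ^ q` of `K`. -/
theorem minus_model (m : ℕ) (hm : m ≠ 0) :
    (∀ d, d ∣ Fintype.card F ^ m + 1 → Piece F m (-1) d) ∧
      ∃ (Q : QuadraticForm F (Fin (2 * m) → F)) (g : orth Q),
        gauss Q = -(Fintype.card F : ℤ) ^ m ∧ g ^ (2 * m) = 1 ∧
          ∃ w, (∑ i ∈ Finset.range (2 * m), (g ^ i).1 w) ≠ 0 := by
  classical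
  haveI : NeZero m := ⟨hm⟩
  let L := FiniteField.Extension F 2 m
  haveI : CharP L 2 := charP_of_injective_algebraMap (algebraMap F L).injective 2
  let K := FiniteField.Extension L 2 2
  haveI : Fintype L := Fintype.ofFinite L
  haveI : Fintype K := Fintype.ofFinite K
  letI algFK : Algebra F K := ((algebraMap L K).comp (algebraMap F L)).toAlgebra
  haveI : IsScalarTower F L K := IsScalarTower.of_algebraMap_eq' rfl
  haveI : Module.Finite F K := Module.Finite.of_finite
  have hL : Fintype.card L = Fintype.card F ^ m := by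
    have := FiniteField.natCard_extension F 2 m
    rwa [Nat.card_eq_fintype_card, Nat.card_eq_fintype_card] at this
  have hK : Fintype.card K = Fintype.card L ^ 2 := by
    have := FiniteField.natCard_extension L 2 2
    rwa [Nat.card_eq_fintype_card, Nat.card_eq_fintype_card] at this
  have hcard : Fintype.card K = Fintype.card F ^ (2 * m) := by
    rw [hK, hL, ← pow_mul, mul_comm]
  have hfr : finrank F K = 2 * m := by
    have := Module.card_eq_pow_finrank (K := F) (V := K)
    rw [hcard] at this
    exact (Nat.pow_right_injective Fintype.one_lt_card this).symm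
  let s : K ≃ₐ[L] K := FiniteField.Extension.frob L 2 2
  have hs : ∀ x : K, s x = x ^ Fintype.card L := fun x => by
    show FiniteField.Extension.frob L 2 2 x = _
    rw [FiniteField.Extension.frob_apply L 2 2, Nat.card_eq_fintype_card]
  have hN : ∀ x : K, algebraMap L K (Algebra.norm L x) = x * s x := fun x => by
    rw [FiniteField.algebraMap_norm_eq_prod_pow, FiniteField.finrank_extension]
    simp [Finset.prod_range_succ, hs, Nat.card_eq_fintype_card]
  obtain ⟨τ, hτ⟩ := LinearMap.exists_leftInverse_of_injective (Algebra.linearMap L K)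
    (LinearMap.ker_eq_bot.2 (algebraMap L K).injective)
  let π : K →ₗ[F] F := (Algebra.trace F L).comp (τ.restrictScalars F)
  let B : LinearMap.BilinMap F K F := LinearMap.mk₂ F (fun x y => π (x * s y))
    (fun a b c => by rw [add_mul, map_add]) (fun r a c => by rw [smul_mul_assoc, map_smul])
    (fun a b c => by rw [map_add, mul_add, map_add])
    (fun r a c => by
      rw [← IsScalarTower.algebraMap_smul L r c, map_smul, IsScalarTower.algebraMap_smul L r (s c),
        mul_smul_comm, map_smul])
  let Q : QuadraticForm F K := LinearMap.BilinMap.toQuadraticMap B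
  have hQ : ∀ x, Q x = Algebra.trace F L (Algebra.norm L x) := fun x => by
    show Algebra.trace F L (τ (x * s x)) = _
    rw [← hN]
    exact congrArg _ (LinearMap.congr_fun hτ _)
  have hg : gauss Q = -(Fintype.card F : ℤ) ^ m := by
    let S : ℤ := ∑ x ∈ (Finset.univ.erase (0 : K)), psi (Q x)
    have hS : gauss Q = 1 + S := by
      rw [gauss, ← Finset.add_sum_erase _ _ (Finset.mem_univ (0 : K))]
      simp [S]
    have hscale : ∀ c : L, c ≠ 0 → ∑ x ∈ Finset.univ.erase (0 : K),
        psi (Algebra.trace F L (c ^ 2 * Algebra.norm L x)) = S := by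
      intro c hc
      have hc' : algebraMap L K c ≠ 0 := by simpa using hc
      refine Finset.sum_equiv (Equiv.mulLeft₀ _ hc') (fun x => by simp [hc']) fun x _ => ?_
      show _ = psi (Q (algebraMap L K c * x))
      rw [hQ, map_mul (Algebra.norm L), Algebra.norm_algebraMap, FiniteField.finrank_extension]
    have hsum : ((Fintype.card L : ℤ) - 1) * S = -((Fintype.card K : ℤ) - 1) := by
      calc ((Fintype.card L : ℤ) - 1) * S = ∑ c ∈ Finset.univ.erase (0 : L), S := by
            rw [Finset.sum_const, Finset.card_erase_of_mem (Finset.mem_univ _), Finset.card_univ,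
              nsmul_eq_mul, Nat.cast_sub Fintype.card_pos, Nat.cast_one]
        _ = ∑ x ∈ Finset.univ.erase (0 : K), ∑ c ∈ Finset.univ.erase (0 : L),
              psi (Algebra.trace F L (c ^ 2 * Algebra.norm L x)) := by
            refine Eq.trans ?_ Finset.sum_comm
            exact Finset.sum_congr rfl fun c hc => (hscale c (Finset.mem_erase.1 hc).1).symm
        _ = ∑ x ∈ Finset.univ.erase (0 : K), (-1 : ℤ) := by
            refine Finset.sum_congr rfl fun x hx => ?_
            have hx0 : Algebra.norm L x ≠ 0 := by simpa using (Finset.mem_erase.1 hx).1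
            have hall : ∑ c : L, psi (Algebra.trace F L (c ^ 2 * Algebra.norm L x)) = 0 := by
              have hbij : Function.Bijective fun c : L => c ^ 2 * Algebra.norm L x :=
                Finite.injective_iff_bijective.1 fun a b h =>
                  frobenius_inj L 2 (mul_right_cancel₀ hx0 h)
              rw [Fintype.sum_bijective _ hbij _ (fun t => psi (Algebra.trace F L t)) fun c => rfl]
              refine sum_psi_linear (Algebra.trace F L) fun h => ?_
              obtain ⟨z, hz⟩ := Algebra.trace_surjective F L 1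
              rw [h] at hz
              exact zero_ne_one hz
            rw [← Finset.add_sum_erase _ _ (Finset.mem_univ (0 : L))] at hall
            simp only [zero_pow two_ne_zero, zero_mul, map_zero, AddChar.map_zero_eq_one] at hall
            linarith
        _ = _ := by
            rw [Finset.sum_const, Finset.card_erase_of_mem (Finset.mem_univ _), Finset.card_univ,
              nsmul_eq_mul, Nat.cast_sub Fintype.card_pos, Nat.cast_one]
            ring
    have h2 : (2 : ℤ) ≤ (Fintype.card L : ℤ) := by exact_mod_cast Fintype.one_lt_card (α := L)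
    have hK' : (Fintype.card K : ℤ) = (Fintype.card L : ℤ) ^ 2 := by exact_mod_cast hK
    have hval : S = -((Fintype.card L : ℤ) + 1) := by
      apply mul_left_cancel₀ (show ((Fintype.card L : ℤ) - 1) ≠ 0 by omega)
      rw [hsum, hK']; ring
    rw [hS, hval, hL]
    push_cast
    ring
  have hQ1 : gauss Q = -1 * (Fintype.card F : ℤ) ^ m := by rw [hg]; ring
  constructor
  · intro d hd
    obtain ⟨u, hu⟩ := unit_exists_orderOf (K := K) (d := d) (by
      rw [Nat.card_eq_fintype_card, hK, hL, ← one_pow 2, Nat.sq_sub_sq]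
      exact hd.mul_right _)
    let U : Subgroup Kˣ := (powMonoidHom (Fintype.card L + 1) : Kˣ →* Kˣ).ker
    have huU : u ∈ U := by
      rw [MonoidHom.mem_ker, powMonoidHom_apply]
      exact orderOf_dvd_iff_pow_eq_one.1 (by rw [hu, hL]; exact hd)
    let σ : U →* orth Q :=
      { toFun := fun v =>
          ⟨{ toFun := fun x => ((v : Kˣ) : K) * x
             map_add' := fun p q => mul_add _ _ _
             map_smul' := fun r p => by simp [Algebra.mul_smul_comm]
             invFun := fun x => (((v : Kˣ)⁻¹ : Kˣ) : K) * x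
             left_inv := fun p => by simp [← mul_assoc]
             right_inv := fun p => by simp [← mul_assoc] },
           fun x => by
            show Q (((v : Kˣ) : K) * x) = Q x
            have h1 : Algebra.norm L ((v : Kˣ) : K) = 1 := by
              apply (algebraMap L K).injective
              have := v.2
              rw [MonoidHom.mem_ker, powMonoidHom_apply] at this
              rw [hN, hs, ← pow_succ', ← Units.val_pow_eq_pow_val, this, map_one, Units.val_one]
            rw [hQ, hQ, map_mul, h1, one_mul]⟩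
        map_one' := Subtype.ext (LinearEquiv.ext fun p => by simp)
        map_mul' := fun v w => Subtype.ext (LinearEquiv.ext fun p => by
          show _ = ((v : Kˣ) : K) * (((w : Kˣ) : K) * p)
          simp [mul_assoc]) }
    have hinj : Function.Injective σ := fun v w h => Subtype.ext (Units.ext (by
      have : (σ v).1 1 = (σ w).1 1 := by rw [h]
      simpa [σ] using this))
    have := piece_mk Q hcard hQ1 (σ ⟨u, huU⟩)
    rwa [orderOf_injective _ hinj, Subgroup.orderOf_mk, hu] at this
  · let fr : K ≃ₐ[F] K := FiniteField.frobeniusAlgEquivOfAlgebraic F K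
    have hfr' : ∀ x : K, fr x = x ^ Fintype.card F := fun x => by simp [fr]
    let fl : L ≃ₐ[F] L := FiniteField.frobeniusAlgEquivOfAlgebraic F L
    have hmem : fr.toLinearEquiv ∈ orth Q := fun x => by
      show Q (fr x) = Q x
      rw [hQ, hQ, hfr', map_pow]
      have := Algebra.trace_eq_of_algEquiv fl (Algebra.norm L x)
      simpa [fl] using this
    let g : orth Q := ⟨fr.toLinearEquiv, hmem⟩
    have hpow : ∀ (i : ℕ) (x : K), (g ^ i).1 x = x ^ (Fintype.card F ^ i) := by
      intro i
      induction i with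
      | zero => intro x; simp
      | succ i ih =>
        intro x
        rw [pow_succ', pow_succ, pow_mul]
        show fr ((g ^ i).1 x) = _
        rw [ih, hfr']
    have hpow1 : g ^ (2 * m) = 1 := Subtype.ext (LinearEquiv.ext fun x => by
      rw [hpow, ← hcard, FiniteField.pow_card]; rfl)
    obtain ⟨w, hw⟩ := Algebra.trace_surjective F K 1
    have hw' : (∑ i ∈ Finset.range (2 * m), (g ^ i).1 w) ≠ 0 := by
      have := FiniteField.algebraMap_trace_eq_sum_pow F K w
      rw [hw, map_one, hfr, Nat.card_eq_fintype_card] at this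
      simp only [hpow, ← this]
      exact one_ne_zero
    let e : K ≃ₗ[F] (Fin (2 * m) → F) := LinearEquiv.ofFinrankEq _ _ (by rw [hfr, finrank_fin_fun])
    let Q' : QuadraticForm F (Fin (2 * m) → F) := Q.comp e.symm.toLinearMap
    have he : ∀ v, Q' (e v) = Q v := fun v => by simp [Q']
    let ε := OrthUnitaryQuad.orthCongr (Q := Q) (Q' := Q') e he
    refine ⟨Q', ε g, by rw [gauss_congr Q Q' e he, hg], by rw [← map_pow, hpow1, map_one], e w, ?_⟩
    have : ∀ i, (ε g ^ i).1 (e w) = e ((g ^ i).1 w) := fun i => by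
      rw [← map_pow]
      show e ((g ^ i).1 (e.symm (e w))) = _
      rw [e.symm_apply_apply]
    simp only [this, ← map_sum]
    rw [ne_eq, LinearEquiv.map_eq_zero_iff]
    exact hw'

end MinusModel

/-! ### Unipotent elements -/

/-- Wreathing an involution: order four with non-zero norm vector. -/
theorem wreath_four {m : ℕ} (Q : QuadraticForm F (Fin (2 * m) → F)) (h : orth Q) (h2 : h ^ 2 = 1)
    (hne : h ≠ 1) :
    ∃ g : orth (Q.prod Q), orderOf g = 4 ∧ ∃ w, (∑ i ∈ Finset.range 4, (g ^ i).1 w) ≠ 0 := by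
  let E := (LinearEquiv.prodComm F _ _).trans
    ((LinearEquiv.refl F (Fin (2 * m) → F)).prodCongr h.1)
  have hmem : E ∈ orth (Q.prod Q) := fun p => by
    obtain ⟨x, y⟩ := p
    show (Q.prod Q) (y, h.1 x) = (Q.prod Q) (x, y)
    rw [QuadraticMap.prod_apply, QuadraticMap.prod_apply, map_orth, add_comm]
  let g : orth (Q.prod Q) := ⟨E, hmem⟩
  have hh : ∀ x, h.1 (h.1 x) = x := fun x => by
    have := congrArg (fun k : orth Q => k.1 x) h2
    rwa [pow_two] at this
  obtain ⟨x, hx⟩ : ∃ x, h.1 x ≠ x := by
    by_contra hc; push Not at hc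
    exact hne (Subtype.ext (LinearEquiv.ext hc))
  have e : ∀ a b, g.1 (a, b) = (b, h.1 a) := fun a b => rfl
  have p2 : ∀ a b, (g ^ 2).1 (a, b) = (h.1 a, h.1 b) := fun a b => rfl
  refine ⟨g, orderOf_eq_prime_pow (p := 2) (n := 1) (fun hc => ?_) ?_, (x, 0), fun hc => ?_⟩
  · have := congrArg (fun k : orth (Q.prod Q) => k.1 (x, 0)) hc
    simp only [pow_one, p2, map_zero] at this
    exact hx (congrArg Prod.fst this)
  · refine Subtype.ext (LinearEquiv.ext fun p => ?_)
    obtain ⟨a, b⟩ := p
    show (g ^ 2).1 ((g ^ 2).1 (a, b)) = (a, b)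
    rw [p2, p2, hh, hh]
  · rw [Finset.sum_range_succ, Finset.sum_range_succ, Finset.sum_range_succ, Finset.sum_range_one] at hc
    have e3 : (g ^ 3).1 (x, 0) = g.1 ((g ^ 2).1 (x, 0)) := by rw [pow_succ']; rfl
    rw [e3, p2, e, pow_one, e, pow_zero] at hc
    have hcx := congrArg Prod.fst hc
    simp only [OneMemClass.coe_one, LinearEquiv.coe_one, id_eq, map_zero, Prod.fst_add, add_zero,
      Prod.fst_zero] at hcx
    apply hx
    have h1 := sub_eq_zero.1 (show h.1 x - x = 0 by
      rw [sub_eq_add_neg, show -x = x from neg_eq_iff_add_eq_zero.2 (add_self_vec (F := F) x), add_comm, hcx])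
    exact h1

/-- Adding a hyperbolic plane to an element of order four: order eight. -/
theorem order_eight (Q : QuadraticForm F W) (h : orth Q) (h4 : h ^ 4 = 1)
    (w : W) (hw : (∑ i ∈ Finset.range 4, (h ^ i).1 w) ≠ 0) {k : ℕ} {ε : ℤ}
    (hcard : Fintype.card W = Fintype.card F ^ (2 * k))
    (hQ : gauss Q = ε * (Fintype.card F : ℤ) ^ k) : Piece F (k + 1) ε 8 := by
  let Bh : LinearMap.BilinMap F (F × F) F := LinearMap.mk₂ F (fun p q => p.1 * q.2)
    (fun a b c => add_mul _ _ _) (fun r a c => mul_assoc _ _ _)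
    (fun a b c => mul_add _ _ _) (fun r a c => mul_left_comm _ _ _)
  let H : QuadraticForm F (F × F) := LinearMap.BilinMap.toQuadraticMap Bh
  have hH : ∀ a b : F, H (a, b) = a * b := fun a b => rfl
  have hHg : gauss H = (Fintype.card F : ℤ) := by
    rw [gauss, Fintype.sum_prod_type, Finset.sum_eq_single (0 : F)]
    · simp [hH]
    · intro a _ ha
      simp only [hH]
      exact sum_psi_linear (LinearMap.mulLeft F a) fun hc => ha (by
        have := LinearMap.congr_fun hc 1; simpa using this)
    · simp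
  let T : (F × F) × W →ₗ[F] (F × F) × W :=
    { toFun := fun p => ((p.1.1 + p.1.2 * Q w + polar Q (h.1 p.2) w, p.1.2), h.1 p.2 + p.1.2 • w)
      map_add' := fun p r => by
        refine Prod.ext (Prod.ext ?_ rfl) ?_
        · simp only [Prod.fst_add, Prod.snd_add, map_add, polar_add_left]; ring
        · simp only [Prod.fst_add, Prod.snd_add, map_add, add_smul]; abel
      map_smul' := fun r p => by
        refine Prod.ext (Prod.ext ?_ rfl) ?_
        · simp only [Prod.smul_fst, Prod.smul_snd, map_smul, polar_smul_left, RingHom.id_apply, smul_eq_mul]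
          ring
        · simp only [Prod.smul_fst, Prod.smul_snd, map_smul, smul_add, smul_smul, RingHom.id_apply,
            smul_eq_mul] }
  have hT : ∀ p, (H.prod Q) (T p) = (H.prod Q) p := by
    rintro ⟨⟨a, b⟩, x⟩
    show (H.prod Q) ((a + b * Q w + polar Q (h.1 x) w, b), h.1 x + b • w) = _
    rw [QuadraticMap.prod_apply, QuadraticMap.prod_apply, hH, hH, QuadraticMap.map_add (⇑Q),
      QuadraticMap.map_smul, polar_smul_right, map_orth]
    simp only [smul_eq_mul]
    linear_combination (b * b * Q w + b * polar Q (h.1 x) w) * CharTwo.two_eq_zero (R := F)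
  have hker : Function.Injective T := by
    rw [← LinearMap.ker_eq_bot, LinearMap.ker_eq_bot']
    rintro ⟨⟨a, b⟩, x⟩ hp
    simp only [T, LinearMap.coe_mk, AddHom.coe_mk, Prod.mk_eq_zero] at hp
    obtain ⟨⟨h1, rfl⟩, h3⟩ := hp
    rw [zero_smul, add_zero, LinearEquiv.map_eq_zero_iff] at h3
    subst h3
    simpa using h1
  let g : orth (H.prod Q) := ⟨LinearEquiv.ofInjectiveEndo T hker, fun p => by
    rw [LinearEquiv.coe_ofInjectiveEndo]; exact hT p⟩
  have happ : ∀ p, g.1 p = T p := fun p => by rw [LinearEquiv.coe_ofInjectiveEndo]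
  have hn : ∀ n p, ((g ^ n).1 p).1.2 = p.1.2 ∧
      ((g ^ n).1 p).2 = (h ^ n).1 p.2 + p.1.2 • ∑ i ∈ Finset.range n, (h ^ i).1 w := by
    intro n p
    induction n with
    | zero => simp
    | succ n ih =>
      obtain ⟨i1, i2⟩ := ih
      have es : (g ^ (n + 1)).1 p = T ((g ^ n).1 p) := by rw [pow_succ', ← happ]; rfl
      rw [es]
      refine ⟨i1, ?_⟩
      show h.1 ((g ^ n).1 p).2 + ((g ^ n).1 p).1.2 • w = _
      rw [i1, i2, map_add, map_smul, map_sum, Finset.sum_range_succ' _ n, pow_succ']
      have ei : ∀ i, (h ^ (i + 1)).1 w = h.1 ((h ^ i).1 w) := fun i => by rw [pow_succ']; rfl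
      simp only [ei, pow_zero, OneMemClass.coe_one, LinearEquiv.coe_one, id_eq, smul_add]
      rw [add_assoc]
      rfl
  have h8' : h ^ 8 = 1 := by rw [show 8 = 4 * 2 from rfl, pow_mul, h4, one_pow]
  have hsum8 : ∑ i ∈ Finset.range 8, (h ^ i).1 w = 0 := by
    rw [show 8 = 4 + 4 from rfl, Finset.sum_range_add]
    simp only [pow_add, h4, one_mul]
    exact add_self_vec (F := F) _
  have hW : ∀ p, ((g ^ 8).1 p).2 = p.2 := fun p => by
    rw [(hn 8 p).2, h8', hsum8, smul_zero, add_zero]; rfl
  have hb : ∀ p, ((g ^ 8).1 p).1.2 = p.1.2 := fun p => (hn 8 p).1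
  have hone : ∀ p : (F × F) × W, p.1.2 ≠ 0 → (g ^ 8).1 p = p := by
    rintro ⟨⟨a, b⟩, x⟩ (hbne : b ≠ 0)
    have hq := map_orth (g ^ 8) ((a, b), x)
    have e2 := hW ((a, b), x)
    have e1 := hb ((a, b), x)
    generalize (g ^ 8).1 ((a, b), x) = r at hq e1 e2
    obtain ⟨⟨a', b'⟩, x'⟩ := r
    simp only at e1 e2
    subst e1 e2
    rw [QuadraticMap.prod_apply, QuadraticMap.prod_apply, hH, hH, add_left_inj] at hq
    rw [mul_right_cancel₀ hbne hq]
  have hg8 : g ^ 8 = 1 := Subtype.ext (LinearEquiv.ext fun p => by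
    show (g ^ 8).1 p = p
    by_cases hp : p.1.2 = 0
    · have h1 := hone (p + ((0, 1), 0)) (by simp [hp])
      rw [map_add, hone ((0, 1), 0) one_ne_zero, add_left_inj] at h1
      exact h1
    · exact hone p hp)
  have hg4 : g ^ 4 ≠ 1 := fun hc => by
    have := (hn 4 ((0, 1), 0)).2
    rw [hc, map_zero, zero_add, one_smul] at this
    exact hw this.symm
  have ho : orderOf g = 8 := orderOf_eq_prime_pow (p := 2) (n := 2) hg4 hg8
  have := piece_mk (H.prod Q) (k := k + 1) (ε := ε)
    (by simp [Fintype.card_prod, hcard, pow_succ, mul_add]; ring) (by rw [gauss_prod, hHg, hQ]; ring) g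
  rwa [ho] at this

/-! ### All maximal orders -/

theorem pieces_basic :
    Piece F 1 1 2 ∧ Piece F 1 (-1) 2 ∧ Piece F 2 1 4 ∧ Piece F 3 1 8 ∧ Piece F 3 (-1) 8 := by
  obtain ⟨-, Qp, gp, hQp, hgp2, hgpne⟩ := plus_model F 1 one_ne_zero
  obtain ⟨-, Qm, gm, hQm, hgm2, w, hw⟩ := minus_model F 1 one_ne_zero
  obtain ⟨-, Qm', gm', hQm', hgm4, w', hw'⟩ := minus_model F 2 two_ne_zero
  have hgmne : gm ≠ 1 := fun h => by
    subst h
    apply hw
    simp only [one_pow, OneMemClass.coe_one, LinearEquiv.coe_one, id_eq, mul_one, Finset.sum_const, Finset.card_range, two_nsmul]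
    exact add_self_vec (F := F) w
  obtain ⟨g4, hg4, w4, hw4⟩ := wreath_four Qp gp hgp2 hgpne
  have hc4 : Fintype.card ((Fin (2 * 1) → F) × (Fin (2 * 1) → F)) = Fintype.card F ^ (2 * 2) := by
    simp [Fintype.card_prod, ← pow_add]
  have hq4 : gauss (Qp.prod Qp) = 1 * (Fintype.card F : ℤ) ^ 2 := by rw [gauss_prod, hQp]; ring
  refine ⟨⟨Qp, by rw [hQp, one_mul], gp, orderOf_eq_two' hgp2 hgpne⟩,
    ⟨Qm, by rw [hQm]; ring, gm, orderOf_eq_two' (by simpa using hgm2) hgmne⟩, ?_, ?_, ?_⟩
  · have := piece_mk _ hc4 hq4 g4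
    rwa [hg4] at this
  · exact order_eight _ g4 (hg4 ▸ pow_orderOf_eq_one g4) w4 hw4 hc4 hq4
  · exact order_eight _ gm' hgm4 w' hw' (k := 2) (ε := -1) (by simp) (by rw [hQm']; ring)

end Cfsg.Agent.OrthCharTwoModels
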