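import Mathlib
import Cfsg.Prelude.Def_LieTypeDatum
import Cfsg.Agent.Lib.OrthUnitarySimClasses

/-!
The two classes of maximal totally singular subspaces of a hyperbolic form and the similarities
that keep them, in any characteristic.
-/

set_option autoImplicit false
set_option linter.unusedSectionVars false

namespace Cfsg.Agent.OrthClassParity

open QuadraticMap Module
open scoped Matrix MatrixGroups
open Cfsg.Agent.OrthUnitaryQuad
open Cfsg.Agent.OrthUnitaryRefl
open Cfsg.Agent.OrthUnitaryOmega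
open Cfsg.Agent.OmegaClasses
open Cfsg.Agent.OrthUnitarySimAut
open Cfsg.Agent.OrthUnitarySimilar
open Cfsg.Agent.OrthUnitarySimClasses

variable {K : Type*} [Field K] [Fintype K] {ι : Type} [Fintype ι] [DecidableEq ι]
  {Q : QuadraticForm K (ι → K)}

theorem same_rprod (hnd : (polarBilin Q).Nondegenerate) {U : Submodule K (ι → K)} (hU : Lagr Q U)
    {vs : List (ι → K)} (hvs : NS Q vs) :
    SameParityClass U (U.map ((rprod Q vs).1 : (ι → K) →ₗ[K] (ι → K))) ↔ Even vs.length := by
  have h := parity_rprod hnd hU hU hvs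
  rw [inf_idem] at h
  have hle : finrank K ↥(U ⊓ U.map ((rprod Q vs).1 : (ι → K) →ₗ[K] (ι → K))) ≤ finrank K U :=
    Submodule.finrank_mono inf_le_left
  rw [SameParityClass, Nat.even_sub hle]
  rw [Nat.even_add, Nat.even_add] at h
  tauto

variable (hnd : (polarBilin Q).Nondegenerate) (hgen : reflGroup Q = ⊤)

include hnd hgen

theorem exists_rprod_map {U W : Submodule K (ι → K)} (hU : Lagr Q U) (hW : Lagr Q W) :
    ∃ vs, NS Q vs ∧ U.map ((rprod Q vs).1 : (ι → K) →ₗ[K] (ι → K)) = W := by
  obtain ⟨k, hk⟩ := exists_map_lagr hnd hU hW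
  obtain ⟨vs, hvs, rfl⟩ := exists_rprod hgen k
  exact ⟨vs, hvs, hk⟩

/-- Two classes. -/
theorem same_trans {U W X : Submodule K (ι → K)} (hU : Lagr Q U) (hW : Lagr Q W) (hX : Lagr Q X) :
    SameParityClass U X ↔ (SameParityClass U W ↔ SameParityClass W X) := by
  obtain ⟨vs, hvs, h1⟩ := exists_rprod_map hnd hgen hU hW
  obtain ⟨ws, hws, h2⟩ := exists_rprod_map hnd hgen hW hX
  have h3 : U.map ((rprod Q (ws ++ vs)).1 : (ι → K) →ₗ[K] (ι → K)) = X := by
    rw [rprod_append, ← h2, ← h1, ← Submodule.map_comp]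
    rfl
  have e1 := same_rprod hnd hU hvs
  have e2 := same_rprod hnd hW hws
  have e3 := same_rprod hnd hU (hws.append hvs)
  rw [h1] at e1
  rw [h2] at e2
  rw [h3, List.length_append, Nat.even_add] at e3
  rw [e1, e2, e3]
  tauto

omit hnd hgen in
theorem toLin_injective (g : Sim Q) :
    Function.Injective (Matrix.toLin' (g : GL ι K).1) := fun x y e =>
  sim_injective Q g (by simpa using e)

omit hnd hgen in
theorem finrank_image (g : Sim Q) (U : Submodule K (ι → K)) :
    finrank K ↥(imageSubmodule (g : GL ι K).1 U) = finrank K U :=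
  (Submodule.equivMapOfInjective _ (toLin_injective g) U).finrank_eq.symm

omit hnd hgen in
theorem lagr_image (g : Sim Q) {U : Submodule K (ι → K)} (hU : Lagr Q U) :
    Lagr Q (imageSubmodule (g : GL ι K).1 U) := by
  refine ⟨?_, by rw [finrank_image]; exact hU.2⟩
  rintro _ ⟨u, hu, rfl⟩
  obtain ⟨c, hc⟩ := g.2
  rw [Matrix.toLin'_apply, hc, hU.1 u hu, mul_zero]

omit hnd hgen in
theorem same_image (g : Sim Q) (U W : Submodule K (ι → K)) :
    SameParityClass (imageSubmodule (g : GL ι K).1 U) (imageSubmodule (g : GL ι K).1 W) ↔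
      SameParityClass U W := by
  unfold SameParityClass
  rw [show imageSubmodule (g : GL ι K).1 U ⊓ imageSubmodule (g : GL ι K).1 W
      = imageSubmodule (g : GL ι K).1 (U ⊓ W) from (Submodule.map_inf _ (toLin_injective g)).symm,
    finrank_image, finrank_image]

omit hnd hgen in
theorem image_mul (g k : Sim Q) (U : Submodule K (ι → K)) :
    imageSubmodule ((g * k : Sim Q) : GL ι K).1 U
      = imageSubmodule (g : GL ι K).1 (imageSubmodule (k : GL ι K).1 U) := by
  unfold imageSubmodule
  rw [← Submodule.map_comp, ← Matrix.toLin'_mul]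
  rfl

variable {U₀ : Submodule K (ι → K)} (hU₀ : Lagr Q U₀)

include hU₀

theorem preserves_iff_base (g : Sim Q) :
    PreservesSingularClasses (⇑Q) (g : GL ι K).1 ↔
      SameParityClass U₀ (imageSubmodule (g : GL ι K).1 U₀) := by
  refine ⟨fun h => h U₀ ((maxTS_iff hnd hU₀ U₀).2 hU₀), fun h U hU => ?_⟩
  rw [maxTS_iff hnd hU₀] at hU
  have a1 := same_trans hnd hgen hU hU₀ (lagr_image g hU)
  have a2 := same_trans hnd hgen hU₀ (lagr_image g hU₀) (lagr_image g hU)
  have a3 := same_trans hnd hgen hU hU₀ hU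
  have a4 : SameParityClass U U := by
    rw [SameParityClass, inf_idem, Nat.sub_self]
    exact Even.zero
  rw [same_image g U₀ U] at a2
  tauto

theorem preserves_mul (g k : Sim Q) :
    PreservesSingularClasses (⇑Q) ((g * k : Sim Q) : GL ι K).1 ↔
      (PreservesSingularClasses (⇑Q) (g : GL ι K).1 ↔
        PreservesSingularClasses (⇑Q) (k : GL ι K).1) := by
  rw [preserves_iff_base hnd hgen hU₀, preserves_iff_base hnd hgen hU₀,
    preserves_iff_base hnd hgen hU₀,
    same_trans hnd hgen hU₀ (lagr_image g hU₀) (lagr_image (g * k) hU₀), image_mul, same_image]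

theorem preserves_one : PreservesSingularClasses (⇑Q) ((1 : Sim Q) : GL ι K).1 := by
  rw [preserves_iff_base hnd hgen hU₀]
  have e : imageSubmodule ((1 : Sim Q) : GL ι K).1 U₀ = U₀ := by
    rw [imageSubmodule, OneMemClass.coe_one, Units.val_one, Matrix.toLin'_one]
    exact Submodule.map_id U₀
  rw [e, SameParityClass, inf_idem, Nat.sub_self]
  exact Even.zero

/-- The similarities keeping the two classes. -/
def keep : Subgroup (Sim Q) where
  carrier := {g | PreservesSingularClasses (⇑Q) (g : GL ι K).1}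
  mul_mem' {g k} hg hk := (preserves_mul hnd hgen hU₀ g k).2 (iff_of_true hg hk)
  one_mem' := preserves_one hnd hgen hU₀
  inv_mem' {g} hg := by
    have h := (preserves_mul hnd hgen hU₀ g g⁻¹).1
      (by rw [mul_inv_cancel]; exact preserves_one hnd hgen hU₀)
    exact h.1 hg

theorem mem_keep {g : Sim Q} :
    g ∈ keep hnd hgen hU₀ ↔ PreservesSingularClasses (⇑Q) (g : GL ι K).1 := Iff.rfl

theorem preserves_ofOrth {vs : List (ι → K)} (hvs : NS Q vs) :
    PreservesSingularClasses (⇑Q) (ofOrth (rprod Q vs) : GL ι K).1 ↔ Even vs.length := by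
  rw [preserves_iff_base hnd hgen hU₀, ← same_rprod hnd hU₀ hvs]
  have e : Matrix.toLin' (ofOrth (rprod Q vs) : GL ι K).1
      = ((rprod Q vs).1 : (ι → K) →ₗ[K] (ι → K)) :=
    LinearMap.ext fun x => by rw [Matrix.toLin'_apply, ofOrth_mulVec]; rfl
  rw [imageSubmodule, e]

theorem preserves_of_fix {g : Sim Q} (h : imageSubmodule (g : GL ι K).1 U₀ = U₀) :
    PreservesSingularClasses (⇑Q) (g : GL ι K).1 := by
  rw [preserves_iff_base hnd hgen hU₀, h, SameParityClass, inf_idem, Nat.sub_self]
  exact Even.zero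

theorem preserves_of_stable {g : Sim Q} (h : ∀ u ∈ U₀, (g : GL ι K).1 *ᵥ u ∈ U₀) :
    PreservesSingularClasses (⇑Q) (g : GL ι K).1 :=
  preserves_of_fix hnd hgen hU₀ (Submodule.eq_of_le_of_finrank_eq
    (by rintro _ ⟨u, hu, rfl⟩; rw [Matrix.toLin'_apply]; exact h u hu) (finrank_image g U₀))

theorem scalar_mem_keep {z : Sim Q} (hz : z ∈ scalarSim Q) : z ∈ keep hnd hgen hU₀ := by
  obtain ⟨l, hl, -⟩ := (mem_scalarSim Q).1 hz
  refine preserves_of_stable hnd hgen hU₀ fun u hu => ?_
  rw [hl, Matrix.smul_mulVec, Matrix.one_mulVec]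
  exact U₀.smul_mem l hu

end Cfsg.Agent.OrthClassParity
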