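import Mathlib
import Cfsg.Agent.Lib.InvolBlocks

/-!
A linear map whose square is a non-zero scalar is monomial, for an involutory permutation,
in a suitable basis.
-/

set_option autoImplicit false

namespace Cfsg.Agent.SquareScalarBasis

open Cfsg.Agent.InvolBlocks

variable {F V : Type*} [Field F] [AddCommGroup V] [Module F V] [FiniteDimensional F V]

/-- The conclusion: a basis in which `g` is monomial for the pair-swapping involution. -/
def HasMonomialBasis (g : V →ₗ[F] V) : Prop :=
  ∃ (k r : ℕ) (b : Module.Basis ((Fin k × Fin 2) ⊕ Fin r) F V),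
    ∀ i, ∃ c : F, g (b i) = c • b (swapPairs i)

theorem monomial_of_not_square (g : V →ₗ[F] V) (z : F) (hg : ∀ v, g (g v) = z • v)
    (hz : ∀ c : F, c * c ≠ z) : HasMonomialBasis g := by
  classical
  let fam : ∀ {k : ℕ}, (Fin k → V) → Fin k × Fin 2 → V :=
    fun v p => if p.2 = 0 then v p.1 else g (v p.1)
  have key : ∀ (j k : ℕ) (v : Fin k → V), LinearIndependent F (fam v) →
      Module.finrank F V ≤ 2 * k + j → HasMonomialBasis g := by
    intro j
    induction j with
    | zero =>
      intro k v hv hle
      have hc : Fintype.card (Fin k × Fin 2) = Module.finrank F V := by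
        apply le_antisymm hv.fintype_card_le_finrank
        simp; omega
      have hsp := (hv.span_eq_top_of_card_eq_finrank' hc).ge
      refine ⟨k, 0, (Module.Basis.mk hv hsp).reindex (Equiv.sumEmpty _ _).symm, ?_⟩
      rintro (⟨m, e⟩ | i)
      · simp only [swapPairs, Sum.map_inl, Module.Basis.reindex_apply, Equiv.symm_symm,
          Equiv.sumEmpty_apply_inl, Module.Basis.mk_apply]
        fin_cases e
        · exact ⟨1, by simp [fam]⟩
        · exact ⟨z, by simp [fam, hg]⟩
      · exact i.elim0
    | succ j ih =>
      intro k v hv hle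
      by_cases htop : Submodule.span F (Set.range (fam v)) = ⊤
      · have := finrank_span_eq_card hv
        rw [htop, finrank_top, Fintype.card_prod, Fintype.card_fin, Fintype.card_fin] at this
        exact ih k v hv (by omega)
      · obtain ⟨u, hu⟩ : ∃ u, u ∉ Submodule.span F (Set.range (fam v)) := by
          by_contra! h
          exact htop (Submodule.eq_top_iff'.mpr h)
        set W := Submodule.span F (Set.range (fam v)) with hW
        have hWinv : ∀ w ∈ W, g w ∈ W := by
          have : W ≤ W.comap g := by
            rw [hW, Submodule.span_le]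
            rintro _ ⟨⟨m, e⟩, rfl⟩
            fin_cases e
            · exact Submodule.subset_span ⟨(m, 1), by simp [fam]⟩
            · have : fam v (m, 0) ∈ W := Submodule.subset_span ⟨_, rfl⟩
              simpa [fam, hg, hW] using W.smul_mem z this
          exact fun w hw => this hw
        have hpair : ∀ c d : F, c • u + d • g u ∈ W → c = 0 ∧ d = 0 := by
          intro c d h
          have h2 : (c * c - d * d * z) • u ∈ W := by
            have := W.sub_mem (W.smul_mem c h) (W.smul_mem d (hWinv _ h))
            convert this using 1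
            simp only [map_add, map_smul, hg, sub_smul, mul_smul, smul_add]
            rw [smul_comm d c (g u)]
            abel
          have h3 : c * c = d * d * z := by
            by_contra hne
            exact hu ((W.smul_mem_iff (sub_ne_zero.mpr hne)).mp h2)
          by_cases hd : d = 0
          · subst hd; simp_all
          · exact absurd (show (c / d) * (c / d) = z by field_simp; linear_combination h3) (hz _)
        refine ih (k + 1) (Fin.snoc v u) ?_ (by omega)
        rw [Fintype.linearIndependent_iff]
        intro c hc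
        rw [Fintype.sum_prod_type, Fin.sum_univ_castSucc] at hc
        simp only [Fin.sum_univ_two, fam, Fin.snoc_castSucc, Fin.snoc_last, one_ne_zero,
          if_true, if_false] at hc
        have hmem : c (Fin.last k, 0) • u + c (Fin.last k, 1) • g u ∈ W := by
          rw [← neg_eq_of_add_eq_zero_right hc]
          refine W.neg_mem (W.sum_mem fun m _ => W.add_mem (W.smul_mem _ ?_) (W.smul_mem _ ?_))
          · exact Submodule.subset_span ⟨(m, 0), by simp [fam]⟩
          · exact Submodule.subset_span ⟨(m, 1), by simp [fam]⟩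
        obtain ⟨h0, h1⟩ := hpair _ _ hmem
        rw [h0, h1, zero_smul, zero_smul, add_zero, add_zero] at hc
        have h2 := Fintype.linearIndependent_iff.mp hv (fun p => c (p.1.castSucc, p.2)) (by
          rw [Fintype.sum_prod_type]
          simpa [Fin.sum_univ_two, fam] using hc)
        rintro ⟨m, e⟩
        refine Fin.lastCases ?_ (fun m => h2 (m, e)) m
        fin_cases e <;> assumption
  exact key (Module.finrank F V) 0 Fin.elim0 linearIndependent_empty_type (by omega)

theorem monomial_of_eigenvectors (g : V →ₗ[F] V)
    (h : ⊤ ≤ Submodule.span F {v | ∃ c : F, g v = c • v}) : HasMonomialBasis g := by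
  let b := Module.Basis.ofSpan h
  have hfin := Module.Finite.finite_basis b
  have := Fintype.ofFinite ↥((linearIndepOn_empty F _root_.id).extend
    (Set.empty_subset {v | ∃ c : F, g v = c • v}))
  refine ⟨0, _, b.reindex ((Fintype.equivFin _).trans (Equiv.emptySum _ _).symm), ?_⟩
  intro i
  rcases i with ⟨m, _⟩ | i
  · exact m.elim0
  · simp only [swapPairs, Sum.map_inr, id_eq, Module.Basis.reindex_apply]
    exact Module.Basis.ofSpan_subset h ⟨_, rfl⟩

theorem monomial_of_nilpotent (g : V →ₗ[F] V) (c z : F) (hg : ∀ v, g (g v) = z • v)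
    (hN : ∀ v, g (g v - c • v) = c • (g v - c • v)) : HasMonomialBasis g := by
  classical
  set N : V →ₗ[F] V := g - c • LinearMap.id with hNdef
  have hNa : ∀ v, N v = g v - c • v := fun v => by simp [hNdef]
  let ρ := Module.finBasis F (LinearMap.range N)
  have hu : ∀ m, ∃ u, N u = (ρ m : V) := fun m => (ρ m).2
  choose u hu using hu
  obtain ⟨Q, hQ⟩ := Submodule.exists_isCompl
    ((LinearMap.range N).comap (LinearMap.ker N).subtype)
  let β := Module.finBasis F Q
  have hle : LinearMap.range N ≤ LinearMap.ker N := by
    rintro _ ⟨v, rfl⟩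
    rw [LinearMap.mem_ker, hNa, hNa, hN, sub_self]
  let e : (Fin (Module.finrank F (LinearMap.range N)) × Fin 2) ⊕ Fin (Module.finrank F Q) → V :=
    Sum.elim (fun p => if p.2 = 0 then u p.1 else g (u p.1))
      (fun i => ((β i : LinearMap.ker N) : V))
  have hspan : ⊤ ≤ Submodule.span F (Set.range e) := by
    set S := Submodule.span F (Set.range e)
    have hu' : ∀ m, u m ∈ S := fun m => Submodule.subset_span ⟨Sum.inl (m, 0), by simp [e]⟩
    have hr : LinearMap.range N ≤ S := by
      intro x hx
      have := ρ.sum_repr ⟨x, hx⟩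
      apply_fun ((↑) : LinearMap.range N → V) at this
      rw [Submodule.coe_sum] at this
      rw [show x = _ from this.symm]
      refine S.sum_mem fun m _ => ?_
      rw [Submodule.coe_smul, ← hu m, hNa]
      exact S.smul_mem _ (S.sub_mem (Submodule.subset_span ⟨Sum.inl (m, 1), by simp [e]⟩)
        (S.smul_mem _ (hu' m)))
    have hk : LinearMap.ker N ≤ S := by
      intro x hx
      obtain ⟨y, hy, w, hw, hyw⟩ := Submodule.mem_sup.mp
        (hQ.sup_eq_top.ge (Submodule.mem_top (x := (⟨x, hx⟩ : LinearMap.ker N))))
      have : x = (y : V) + (w : V) := by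
        rw [← Submodule.coe_add, hyw]
      rw [this]
      refine S.add_mem (hr hy) ?_
      have := β.sum_repr ⟨w, hw⟩
      apply_fun ((↑) : Q → LinearMap.ker N) at this
      rw [Submodule.coe_sum] at this
      simp only at this
      rw [← this, Submodule.coe_sum]
      refine S.sum_mem fun i _ => ?_
      rw [Submodule.coe_smul, Submodule.coe_smul]
      exact S.smul_mem _ (Submodule.subset_span ⟨Sum.inr i, rfl⟩)
    intro x _
    set y := ∑ m, ρ.repr ⟨N x, x, rfl⟩ m • u m with hy
    have h1 : x - y ∈ LinearMap.ker N := by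
      rw [LinearMap.mem_ker, map_sub, hy, map_sum]
      simp only [map_smul, hu, ← Submodule.coe_smul, ← Submodule.coe_sum, ρ.sum_repr, sub_self]
    have h2 : y ∈ S := S.sum_mem fun m _ => S.smul_mem _ (hu' m)
    simpa using S.add_mem (hk h1) h2
  have hcard : Fintype.card ((Fin (Module.finrank F (LinearMap.range N)) × Fin 2) ⊕
      Fin (Module.finrank F Q)) = Module.finrank F V := by
    have h1 := LinearMap.finrank_range_add_finrank_ker N
    have h2 := Submodule.finrank_add_eq_of_isCompl hQ
    rw [LinearEquiv.finrank_eq (Submodule.comapSubtypeEquivOfLe hle)] at h2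
    simp only [Fintype.card_sum, Fintype.card_prod, Fintype.card_fin]
    omega
  refine ⟨_, _, basisOfTopLeSpanOfCardEqFinrank e hspan hcard, ?_⟩
  rw [coe_basisOfTopLeSpanOfCardEqFinrank]
  rintro (⟨m, ε⟩ | i)
  · fin_cases ε
    · exact ⟨1, by simp [e, swapPairs]⟩
    · exact ⟨z, by simp [e, swapPairs, hg]⟩
  · refine ⟨c, ?_⟩
    have : ((β i : LinearMap.ker N) : V) ∈ LinearMap.ker N := (β i : LinearMap.ker N).2
    rw [LinearMap.mem_ker, hNa, sub_eq_zero] at this
    simpa [e, swapPairs] using this

theorem hasMonomialBasis (g : V →ₗ[F] V) (z : F) (hz0 : z ≠ 0) (hg : ∀ v, g (g v) = z • v) :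
    HasMonomialBasis g := by
  by_cases hz : ∀ c : F, c * c ≠ z
  · exact monomial_of_not_square g z hg hz
  push Not at hz
  obtain ⟨c, rfl⟩ := hz
  have hc : c ≠ 0 := left_ne_zero_of_mul hz0
  by_cases h2 : (2 : F) = 0
  · refine monomial_of_nilpotent g c _ hg fun v => ?_
    rw [map_sub, map_smul, hg, smul_sub, smul_smul]
    have hneg : ∀ w : V, -w = w := fun w => by
      rw [neg_eq_iff_add_eq_zero, ← two_smul F, h2, zero_smul]
    rw [sub_eq_add_neg, hneg, sub_eq_add_neg, hneg, add_comm]
  · refine monomial_of_eigenvectors g fun v _ => ?_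
    have hc2 : (2 : F) * c ≠ 0 := mul_ne_zero h2 hc
    have hv : v = (2 * c)⁻¹ • (c • v + g v) + (2 * c)⁻¹ • (c • v - g v) := by
      rw [← smul_add, add_add_sub_cancel, ← two_smul F, smul_smul (2 : F) c, inv_smul_smul₀ hc2]
    rw [hv]
    refine Submodule.add_mem _ (Submodule.smul_mem _ _ (Submodule.subset_span ⟨c, ?_⟩))
      (Submodule.smul_mem _ _ (Submodule.subset_span ⟨-c, ?_⟩))
    · rw [map_add, map_smul, hg, smul_add, smul_smul, add_comm]
    · rw [map_sub, map_smul, hg, smul_sub, smul_smul, neg_mul, neg_smul, neg_smul]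
      abel

end Cfsg.Agent.SquareScalarBasis
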