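import Mathlib
import Cfsg.Agent.Lib.PrimeOrderModule84
import Cfsg.Agent.Lib.OrthTypeCount73
import Cfsg.Agent.Lib.OrthUnitaryForms
import Cfsg.Agent.Lib.OrthPrimeOrderClasses73
import Cfsg.Agent.Lib.SquareScalarBasis
import Cfsg.Agent.Lib.OmegaStd

/-!
Elements of prime order modulo scalars and similitudes of quadratic forms in odd characteristic.
-/

set_option autoImplicit false

namespace Cfsg.Agent.OrthDerange84

open Module QuadraticMap
open Cfsg.Agent.OrthTypeCount73

universe u v

variable {F : Type u} [Field F] {V : Type v} [AddCommGroup V] [Module F V] [FiniteDimensional F V]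

/-- `g` is a similitude of some form equivalent to `q`. -/
def Pres (q : QuadraticForm F V) (g : Module.End F V) : Prop :=
  ∃ (S : V ≃ₗ[F] V) (l : F), l ≠ 0 ∧ ∀ v, q (S (g v)) = l * q (S v)

omit [FiniteDimensional F V] in
theorem Pres.smul {q : QuadraticForm F V} {g : Module.End F V} {w : F} (hw : w ≠ 0) (h : Pres q g) :
    Pres q (w • g) := by
  obtain ⟨S, l, hl, h⟩ := h
  refine ⟨S, w * w * l, mul_ne_zero (mul_ne_zero hw hw) hl, fun v => ?_⟩
  rw [LinearMap.smul_apply, map_smul, QuadraticMap.map_smul, h, smul_eq_mul]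
  ring

omit [FiniteDimensional F V] in
theorem pres_smul_iff {q : QuadraticForm F V} {g : Module.End F V} {w : F} (hw : w ≠ 0) :
    Pres q (w • g) ↔ Pres q g := by
  refine ⟨fun h => ?_, Pres.smul hw⟩
  have := Pres.smul (inv_ne_zero hw) h
  rwa [smul_smul, inv_mul_cancel₀ hw, one_smul] at this

/-- Transport of a similitude. -/
theorem pres_of_model {W : Type*} [AddCommGroup W] [Module F W] {q : QuadraticForm F V}
    {g : Module.End F V} {Q : QuadraticForm F W} {J : Module.End F W} (φ : V ≃ₗ[F] W)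
    (hφ : ∀ v, φ (g v) = J (φ v)) {l : F} (hl : l ≠ 0) (hJ : ∀ w, Q (J w) = l * Q w)
    (hT : ∃ (T : W ≃ₗ[F] V) (c : F), c ≠ 0 ∧ ∀ w, q (T w) = c * Q w) : Pres q g := by
  obtain ⟨T, c, -, hc⟩ := hT
  refine ⟨φ.trans T, l, hl, fun v => ?_⟩
  show q (T (φ (g v))) = l * q (T (φ v))
  rw [hc, hc, hφ, hJ]
  ring

omit [FiniteDimensional F V] in
theorem exists_value {q : QuadraticForm F V} (hq : (polarBilin q).Nondegenerate) {v : V} (hv : v ≠ 0) :
    ∃ u, q u ≠ 0 := by
  by_contra h
  push Not at h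
  refine hv (hq.1 v fun u => ?_)
  show polar q v u = 0
  simp [polar, h]

omit [FiniteDimensional F V] in
theorem pow_apply_of_sim {q : V → F} {g : Module.End F V} {l : F} (h : ∀ v, q (g v) = l * q v)
    (i : ℕ) (v : V) : q ((g ^ i) v) = l ^ i * q v := by
  induction i generalizing v with
  | zero => simp
  | succ i ih => rw [pow_succ, Module.End.mul_apply, ih, h, pow_succ]; ring

omit [FiniteDimensional F V] in
/-- Unfolding: a nondegenerate form with a similitude of order `r`. -/
theorem Pres.unfold {q : QuadraticForm F V} (hq : (polarBilin q).Nondegenerate) {g : Module.End F V}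
    (hne : ∃ v : V, v ≠ 0) {r : ℕ} (hg : g ^ r = 1) (h : Pres q g) :
    ∃ (S : V ≃ₗ[F] V) (Q : QuadraticForm F V) (l : F), (∀ v, Q v = q (S v)) ∧
      (polarBilin Q).Nondegenerate ∧ l ≠ 0 ∧ l ^ r = 1 ∧ ∀ v, Q (g v) = l * Q v := by
  obtain ⟨S, l, hl, h⟩ := h
  let Q : QuadraticForm F V := q.comp (S : V →ₗ[F] V)
  have hQ : ∀ v, Q v = q (S v) := fun v => rfl
  have hQn : (polarBilin Q).Nondegenerate :=
    OrthPrimeOrderClasses73.nd_of_iso hq S fun v => (hQ v).symm
  have hgQ : ∀ v, Q (g v) = l * Q v := h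
  refine ⟨S, Q, l, hQ, hQn, hl, ?_, hgQ⟩
  obtain ⟨v, hv⟩ := hne
  obtain ⟨u, hu⟩ := exists_value hQn hv
  have h1 := pow_apply_of_sim (q := ⇑Q) hgQ r u
  rw [hg, Module.End.one_apply] at h1
  exact mul_right_cancel₀ hu (h1.symm.trans (one_mul _).symm)

omit [FiniteDimensional F V] in
theorem polar_sim {Q : QuadraticForm F V} {g : Module.End F V} {l : F} (h : ∀ v, Q (g v) = l * Q v)
    (u v : V) : polar Q (g u) (g v) = l * polar Q u v := by
  simp only [polar, ← map_add g, h]
  ring

/-- The eigenspaces of a similitude come in pairs. -/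
theorem finrank_eigen {Q : QuadraticForm F V} (hQ : (polarBilin Q).Nondegenerate) {g : Module.End F V}
    {l : F} (hl : l ≠ 0) (h : ∀ v, Q (g v) = l * Q v) (hg : Function.Bijective g) {a : F} (ha : a ≠ 0) :
    finrank F ↥(LinearMap.ker (g - a • 1)) = finrank F ↥(LinearMap.ker (g - (l * a⁻¹) • 1)) := by
  set B : LinearMap.BilinForm F V := polarBilin Q
  have hB : ∀ u v, B u v = polar Q u v := fun _ _ => rfl
  let e : V ≃ₗ[F] V := LinearEquiv.ofBijective g hg
  have key : ∀ u v, B ((g - a • 1) u) (g v) = -a * B u ((g - (l * a⁻¹) • 1) v) := fun u v => by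
    simp only [LinearMap.sub_apply, LinearMap.smul_apply, Module.End.one_apply, map_sub, map_smul,
      smul_eq_mul]
    rw [hB, hB, hB, polar_sim h]
    field_simp
    ring
  have hmap : (LinearMap.ker (g - (l * a⁻¹) • 1)).map (e : V →ₗ[F] V) =
      B.orthogonal (LinearMap.range (g - a • 1)) := by
    ext w
    obtain ⟨v, rfl⟩ := e.surjective w
    rw [LinearMap.BilinForm.mem_orthogonal_iff]
    constructor
    · rintro ⟨v', hv', hvv⟩ _ ⟨u, rfl⟩
      rw [← e.injective hvv]
      show B ((g - a • 1) u) (g v') = 0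
      rw [key, LinearMap.mem_ker.1 hv', map_zero, mul_zero]
    · intro hw
      refine ⟨v, ?_, rfl⟩
      rw [SetLike.mem_coe, LinearMap.mem_ker]
      refine hQ.2 _ fun u => ?_
      have h1 := hw _ ⟨u, rfl⟩
      change B ((g - a • 1) u) (g v) = 0 at h1
      rw [key, mul_eq_zero, neg_eq_zero] at h1
      exact h1.resolve_left ha
  have h1 := e.finrank_map_eq (LinearMap.ker (g - (l * a⁻¹) • 1))
  rw [hmap, LinearMap.BilinForm.finrank_orthogonal hQ] at h1
  have h2 := LinearMap.finrank_range_add_finrank_ker (g - a • 1)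
  omega

/-- A unipotent element moving only a line is not an isometry. -/
theorem not_isometry_transvection (h2 : (2 : F) ≠ 0) {Q : QuadraticForm F V}
    (hQ : (polarBilin Q).Nondegenerate) {g : Module.End F V} {N : ℕ} (hN : (g - 1) ^ N = 0)
    (h : ∀ v, Q (g v) = Q v) (hk : finrank F ↥(LinearMap.ker (g - 1)) + 1 = finrank F V) : False := by
  set M := g - 1 with hM
  have h1 := LinearMap.finrank_range_add_finrank_ker M
  obtain ⟨a, ha0, ha⟩ : ∃ a, a ≠ 0 ∧ LinearMap.range M = Submodule.span F {a} := by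
    obtain ⟨a, haR, ha0⟩ := Submodule.exists_mem_ne_zero_of_ne_bot (p := LinearMap.range M)
      (fun hb => by rw [hb, finrank_bot] at h1; omega)
    refine ⟨a, ha0, (Submodule.eq_of_le_of_finrank_eq ?_ ?_).symm⟩
    · rwa [Submodule.span_le, Set.singleton_subset_iff]
    · rw [finrank_span_singleton ha0]; omega
  have hMu : ∀ u, ∃ c : F, M u = c • a := fun u => by
    have : M u ∈ LinearMap.range M := ⟨u, rfl⟩
    rw [ha, Submodule.mem_span_singleton] at this
    obtain ⟨c, hc⟩ := this
    exact ⟨c, hc.symm⟩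
  obtain ⟨c, hc⟩ := hMu a
  have hMa : M a = 0 := by
    have hpow : ∀ i : ℕ, (M ^ i) a = c ^ i • a := by
      intro i
      induction i with
      | zero => simp
      | succ i ih => rw [pow_succ', Module.End.mul_apply, ih, map_smul, hc, smul_smul, pow_succ]
    have hzero := hpow N
    rw [hN, LinearMap.zero_apply, eq_comm, smul_eq_zero] at hzero
    rw [hc, eq_zero_of_pow_eq_zero (hzero.resolve_right ha0), zero_smul]
  have hgv : ∀ v, g v = v + M v := fun v => by simp [hM]
  have hpol : ∀ u v, polar Q (g u) (g v) = polar Q u v := fun u v => by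
    simp only [polar, ← map_add g, h]
  have hker : ∀ k, M k = 0 → polar Q a k = 0 := by
    intro k hk
    obtain ⟨u, hu⟩ : ∃ u, M u = a := by
      have : a ∈ LinearMap.range M := by rw [ha]; exact Submodule.mem_span_singleton_self a
      exact this
    have := hpol u k
    rw [hgv, hgv, hk, add_zero, hu, polar_add_left, add_eq_left] at this
    exact this
  have hQa : Q a = 0 := by
    have := hker a hMa
    rw [polar_self, nsmul_eq_mul, mul_eq_zero, Nat.cast_ofNat] at this
    exact this.resolve_left h2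
  refine ha0 (hQ.1 a fun u => ?_)
  show polar Q a u = 0
  by_cases hu : M u = 0
  · exact hker u hu
  · obtain ⟨c', hc'⟩ := hMu u
    have h3 := h u
    rw [hgv, hc', QuadraticMap.map_add ⇑Q, QuadraticMap.map_smul, hQa, smul_zero, add_zero,
      add_eq_left, polar_smul_right, smul_eq_mul, mul_eq_zero, polar_comm] at h3
    exact h3.resolve_left fun e => hu (by rw [hc', e, zero_smul])

/-- An isometry of odd order moves a space of even dimension. -/
theorem even_finrank_range (h2 : (2 : F) ≠ 0) {Q : QuadraticForm F V} (hQ : (polarBilin Q).Nondegenerate)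
    {g : Module.End F V} {r : ℕ} (hodd : Odd r) (hr : (r : F) ≠ 0) (hg : g ^ r = 1)
    (h : ∀ v, Q (g v) = Q v) : Even (finrank F ↥(LinearMap.range (g - 1))) := by
  classical
  set T := LinearMap.range (g - 1)
  set B : LinearMap.BilinForm F V := polarBilin Q
  have hB : ∀ u v, B u v = polar Q u v := fun _ _ => rfl
  have hpol : ∀ u v, B (g u) (g v) = B u v := fun u v => by
    simp only [hB, polar, ← map_add g, h]
  have hsym : ∀ u v, B u v = B v u := fun u v => polar_comm _ u v
  obtain ⟨j, hj⟩ := hodd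
  set gi : Module.End F V := g ^ (2 * j) with hgi
  have hginv : ∀ v, g (gi v) = v := fun v => by
    rw [hgi, ← Module.End.mul_apply, ← pow_succ', ← hj, hg]; rfl
  have hginv' : ∀ v, gi (g v) = v := fun v => by
    rw [hgi, ← Module.End.mul_apply, ← pow_succ, ← hj, hg]; rfl
  let C : LinearMap.BilinForm F V := B.compl₂ (g - gi)
  have hC : ∀ u v, C u v = B u (g v) - B u (gi v) := fun u v => by simp [C]
  have hskew : ∀ u v, C u v = -C v u := fun u v => by
    have e1 : B v (g u) = B u (gi v) := by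
      rw [hsym, ← hpol u (gi v), hginv]
    have e2 : B v (gi u) = B u (g v) := by
      rw [hsym, ← hpol (gi u) v, hginv]
    rw [hC, hC, e1, e2, neg_sub]
  -- the radical is the fixed space
  have hrad : ∀ v, (∀ u, C u v = 0) → (g - 1) v = 0 := by
    intro v hv
    have h1 : g v = gi v := sub_eq_zero.1 (hQ.2 _ fun u => by
      have := hv u
      rw [hC] at this
      show B u (g v - gi v) = 0
      rw [map_sub, this])
    have h2' : g (g v) = v := by rw [h1, hginv]
    have hp : ∀ i : ℕ, (g ^ (2 * i)) v = v := by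
      intro i
      induction i with
      | zero => simp
      | succ i ih =>
        rw [show 2 * (i + 1) = 2 * i + 2 by ring, pow_add, Module.End.mul_apply, pow_two,
          Module.End.mul_apply, h2', ih]
    rw [LinearMap.sub_apply, Module.End.one_apply, sub_eq_zero]
    conv_rhs => rw [← Module.End.one_apply (R := F) v, ← hg, hj, pow_succ', Module.End.mul_apply, hp]
  have hfix : ∀ k v, (g - 1) k = 0 → C k v = 0 := by
    intro k v hk
    rw [LinearMap.sub_apply, Module.End.one_apply, sub_eq_zero] at hk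
    have e : gi k = k := by conv_lhs => rw [← hk, hginv']
    rw [hskew, hC, hk, e, sub_self, neg_zero]
  have hcompl := PrimeOrderModule84.isCompl_ker_range hr hg
  let b := Module.finBasis F ↥T
  let CT : ↥T →ₗ[F] ↥T →ₗ[F] F := LinearMap.BilinForm.restrict C T
  have hCT : CT.SeparatingLeft := by
    intro x hx
    have hx0 : (g - 1) (x : V) = 0 := by
      refine hrad _ fun u => ?_
      obtain ⟨k, hk, t, ht, rfl⟩ := Submodule.mem_sup.1 (hcompl.sup_eq_top ▸ Submodule.mem_top (x := u))
      rw [map_add, LinearMap.add_apply, hfix k _ (LinearMap.mem_ker.1 hk), zero_add, hskew,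
        show C (x : V) t = CT x ⟨t, ht⟩ from rfl, hx, neg_zero]
    exact Subtype.ext (Submodule.disjoint_def.1 hcompl.disjoint _ (LinearMap.mem_ker.2 hx0) x.2)
  have hdet := (LinearMap.separatingLeft_iff_det_ne_zero b).1 hCT
  set M := LinearMap.toMatrix₂ b b CT with hM
  have hMt : M.transpose = -M := by
    ext i j
    rw [Matrix.transpose_apply, Matrix.neg_apply, hM, LinearMap.toMatrix₂_apply, LinearMap.toMatrix₂_apply]
    exact hskew (b j : V) (b i : V)
  by_contra hne
  apply hdet
  have h3 := congrArg Matrix.det hMt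
  rw [Matrix.det_transpose, Matrix.det_neg, Fintype.card_fin,
    (Nat.not_even_iff_odd.1 hne).neg_one_pow, neg_one_mul] at h3
  have h4 : (2 : F) * M.det = 0 := by linear_combination h3
  exact (mul_eq_zero.1 h4).resolve_left h2

section Classify

variable [Fintype F]

omit [FiniteDimensional F V] in
theorem prof_smul {f : V → F} {N E : ℤ} (h : Prof f N E) {c : F} (hc : c ≠ 0) :
    Prof (fun v => c * f v) N E := by
  have key : ∀ a, Nat.card {v // c * f v = a} = Nat.card {v // f v = c⁻¹ * a} := fun a =>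
    Nat.card_congr (Equiv.subtypeEquivRight fun v => ⟨fun e => by rw [← e, inv_mul_cancel_left₀ hc],
      fun e => by rw [e, mul_inv_cancel_left₀ hc]⟩)
  exact ⟨fun a ha => by rw [key]; exact h.1 _ (mul_ne_zero (inv_ne_zero hc) ha),
    by rw [key, mul_zero]; exact h.2⟩

/-- Odd dimension: all forms are similar. -/
theorem similar_odd {W : Type*} [AddCommGroup W] [Module F W] [FiniteDimensional F W]
    {q : QuadraticForm F V} (hq : (polarBilin q).Nondegenerate) {Q : QuadraticForm F W}
    (hQ : (polarBilin Q).Nondegenerate) {m : ℕ} (hV : finrank F V = 2 * m + 1)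
    (hW : finrank F W = 2 * m + 1) :
    ∃ (T : W ≃ₗ[F] V) (c : F), c ≠ 0 ∧ ∀ w, q (T w) = c * Q w := by
  obtain ⟨c₁, g₁, hc₁, h₁⟩ := iso_odd q hq hV
  obtain ⟨c₂, g₂, hc₂, h₂⟩ := iso_odd Q hQ hW
  refine ⟨g₂.trans g₁.symm, c₁⁻¹ * c₂, mul_ne_zero (inv_ne_zero hc₁) hc₂, fun w => ?_⟩
  have := h₁ (g₁.symm (g₂ w))
  rw [LinearEquiv.apply_symm_apply, h₂] at this
  show q (g₁.symm (g₂ w)) = _
  rw [mul_assoc, this, inv_mul_cancel_left₀ hc₁]

theorem exists_aniso_pair : ∃ a b : F, ∀ z₁ z₂ : F, z₁ ^ 2 + a * z₁ * z₂ + b * z₂ ^ 2 = 0 → z₁ = 0 ∧ z₂ = 0 :=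
  OrthPrimeOrderClasses73.exists_aniso

/-- Even dimension: the profile determines the form. -/
theorem similar_even {W : Type*} [AddCommGroup W] [Module F W] [FiniteDimensional F W]
    {q : QuadraticForm F V} (hq : (polarBilin q).Nondegenerate) {Q : QuadraticForm F W}
    (hQ : (polarBilin Q).Nondegenerate) {m : ℕ} (hV : finrank F V = 2 * m)
    (hW : finrank F W = 2 * m) {N N' E : ℤ} (h : Prof ⇑q N E) (h' : Prof ⇑Q N' E) :
    ∃ (T : W ≃ₗ[F] V) (c : F), c ≠ 0 ∧ ∀ w, q (T w) = c * Q w := by
  obtain ⟨N₀, h₀ | h₀⟩ := exists_prof q hq hV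
  · rw [h.unique h₀] at h'
    obtain ⟨g₁, e₁⟩ := iso_plus_of_prof q hq hV h₀
    obtain ⟨g₂, e₂⟩ := iso_plus_of_prof Q hQ hW h'
    refine ⟨g₂.trans g₁.symm, 1, one_ne_zero, fun w => ?_⟩
    rw [one_mul, ← e₂, LinearEquiv.trans_apply, ← e₁ (g₁.symm (g₂ w)), LinearEquiv.apply_symm_apply]
  · rw [h.unique h₀] at h'
    obtain ⟨a, b, hab⟩ := exists_aniso_pair (F := F)
    obtain ⟨g₁, e₁⟩ := iso_minus_of_prof q hq hV h₀ hab
    obtain ⟨g₂, e₂⟩ := iso_minus_of_prof Q hQ hW h' hab
    refine ⟨g₂.trans g₁.symm, 1, one_ne_zero, fun w => ?_⟩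
    rw [one_mul, ← e₂, LinearEquiv.trans_apply, ← e₁ (g₁.symm (g₂ w)), LinearEquiv.apply_symm_apply]

/-- A fixed-point-free similitude of multiplier one determines the type. -/
theorem dvd_of_pres {q : QuadraticForm F V} (hq : (polarBilin q).Nondegenerate) {N E : ℤ}
    (h : Prof ⇑q N E) {r : ℕ} [Fact r.Prime] {g : Module.End F V} (hg : g ^ r = 1)
    (hne : ∃ v : V, v ≠ 0) (hfix : ∀ v, g v = v → v = 0) (hp : Pres q g)
    (hroot : ∀ l : F, l ^ r = 1 → l = 1) : (r : ℤ) ∣ E - 1 := by
  haveI : Finite V := Module.finite_of_finite F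
  obtain ⟨S, Q, l, hQ, -, -, hlr, hgQ⟩ := hp.unfold hq hne hg
  have hP : Prof ⇑Q N E := h.map S.toEquiv.symm fun v => by
    rw [hQ]
    exact congrArg q (S.apply_symm_apply v)
  exact dvd_of_free Fact.out ⇑Q hP (QuadraticMap.map_zero _) g
    (fun v => by rw [hgQ, hroot l hlr, one_mul]) hg hfix

/-- For a non-square `z` there are planes of both types with a similitude of square `z`. -/
theorem exists_nonsquare_shift {p : ℕ} [Fact p.Prime] [CharP F p] {z : F} (hz : ∀ c : F, c ^ 2 ≠ z) :
    ∃ c : F, ∀ e : F, e ^ 2 ≠ c ^ 2 - z := by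
  by_contra h
  push Not at h
  have key : ∀ k : ℕ, ∃ e : F, e ^ 2 = -((k : F) * z) := by
    intro k
    induction k with
    | zero => exact ⟨0, by simp⟩
    | succ k ih =>
      obtain ⟨e, he⟩ := ih
      obtain ⟨e', he'⟩ := h e
      exact ⟨e', by rw [he', he]; push_cast; ring⟩
  obtain ⟨e, he⟩ := key (p - 1)
  rw [Nat.cast_sub (Fact.out : p.Prime).one_le, CharP.cast_eq_zero, Nat.cast_one, zero_sub, neg_one_mul,
    neg_neg] at he
  exact hz e he

omit [Fintype F] in
/-- A basis adapted to a map with non-square scalar square. -/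
theorem exists_pair_basis {g : Module.End F V} {z : F} (hz0 : z ≠ 0) (hz : ∀ c : F, c ^ 2 ≠ z)
    (hg : g ^ 2 = z • 1) :
    ∃ (k : ℕ) (B : Basis (Fin k × Fin 2) F V), ∀ m, g (B (m, 0)) = B (m, 1) ∧
      g (B (m, 1)) = z • B (m, 0) := by
  classical
  have hgg : ∀ v, g (g v) = z • v := fun v => by
    rw [← Module.End.mul_apply, ← _root_.sq, hg]; rfl
  have hz' : ∀ c : F, c * c ≠ z := fun c => by rw [← _root_.sq]; exact hz c
  obtain ⟨k, s, b, hb⟩ := SquareScalarBasis.monomial_of_not_square g z hgg hz'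
  have hs : IsEmpty (Fin s) := ⟨fun i => by
    obtain ⟨c, hc⟩ := hb (Sum.inr i)
    simp only [InvolBlocks.swapPairs, Sum.map_inr, id_eq] at hc
    have h1 := hgg (b (Sum.inr i))
    rw [hc, map_smul, hc, smul_smul] at h1
    exact hz' c (smul_left_injective F (b.ne_zero _) h1)⟩
  choose c hc using fun m : Fin k => hb (Sum.inl (m, 0))
  have hc0 : ∀ m, c m ≠ 0 := fun m e => by
    have h1 := hgg (b (Sum.inl (m, 0)))
    rw [hc, e, zero_smul, map_zero, eq_comm, smul_eq_zero] at h1
    rcases h1 with h1 | h1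
    · exact hz0 h1
    · exact b.ne_zero _ h1
  let B := (b.unitsSMul (fun x => Sum.elim
    (fun me : Fin k × Fin 2 => if me.2 = 0 then 1 else Units.mk0 (c me.1) (hc0 me.1)) (fun _ => 1) x)).reindex
    (Equiv.sumEmpty _ _)
  have h0 : ∀ m, B (m, 0) = b (Sum.inl (m, 0)) := fun m => by simp [B, Basis.unitsSMul_apply]
  have h1 : ∀ m, B (m, 1) = c m • b (Sum.inl (m, 1)) := fun m => by simp [B, Basis.unitsSMul_apply, Units.smul_def]
  have hB0 : ∀ m, g (B (m, 0)) = B (m, 1) := fun m => by
    rw [h0, h1, hc]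
    simp [InvolBlocks.swapPairs]
  exact ⟨k, B, fun m => ⟨hB0 m, by rw [← hB0, hgg]⟩⟩

theorem pres_nonsquare (h2 : (2 : F) ≠ 0) {p : ℕ} [Fact p.Prime] [CharP F p] {q : QuadraticForm F V}
    (hq : (polarBilin q).Nondegenerate) {g : Module.End F V} {z : F} (hz0 : z ≠ 0)
    (hz : ∀ c : F, c ^ 2 ≠ z) (hg : g ^ 2 = z • 1) : Pres q g := by
  classical
  obtain ⟨k, B, hB⟩ := exists_pair_basis hz0 hz hg
  have hV : finrank F V = 2 * k := by
    rw [finrank_eq_card_basis B, Fintype.card_prod, Fintype.card_fin, Fintype.card_fin, mul_comm]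
  obtain ⟨N, hN⟩ := exists_prof q hq hV
  rcases k with _ | j
  · refine ⟨LinearEquiv.refl F V, 1, one_ne_zero, fun v => ?_⟩
    rw [B.ext_elem (x := v) (y := 0) (fun i => i.1.elim0)]
    simp
  rcases hN with hN | hN
  · -- plus type
    let ε : Fin (j + 1) × Fin 2 ≃ Fin (j + 1) ⊕ Fin (j + 1) :=
      { toFun := fun me => if me.2 = 0 then Sum.inr me.1 else Sum.inl me.1
        invFun := Sum.elim (fun m => (m, 1)) (fun m => (m, 0))
        left_inv := fun me => by obtain ⟨m, e⟩ := me; fin_cases e <;> simp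
        right_inv := fun x => by rcases x with m | m <;> simp }
    let φ := (B.reindex ε).equivFun
    let J : Module.End F (Fin (j + 1) ⊕ Fin (j + 1) → F) := LinearMap.pi fun x =>
      Sum.elim (fun m => (LinearMap.proj (Sum.inr m) : _ →ₗ[F] F))
        (fun m => z • (LinearMap.proj (Sum.inl m) : _ →ₗ[F] F)) x
    have hφ : φ.toLinearMap ∘ₗ g = J ∘ₗ φ.toLinearMap := by
      refine B.ext fun me => funext fun x => ?_
      obtain ⟨m, e⟩ := me
      fin_cases e
      · show φ (g (B (m, 0))) x = J (φ (B (m, 0))) x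
        rw [(hB m).1]
        rcases x with y | y <;>
          simp [φ, J, ε, Basis.equivFun_apply, Finsupp.single_apply]
      · show φ (g (B (m, 1))) x = J (φ (B (m, 1))) x
        rw [(hB m).2]
        rcases x with y | y <;>
          simp [φ, J, ε, Basis.equivFun_apply, Finsupp.single_apply]
    obtain ⟨M, hM⟩ := prof_qPlus (F := F) (j + 1)
    refine pres_of_model (Q := QuadClassify.qPlus (j + 1) F) (J := J) φ (fun v => LinearMap.congr_fun hφ v) hz0
      (fun w => ?_) (similar_even hq OmegaStd.nondeg_plus hV (by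
        rw [Module.finrank_fintype_fun_eq_card]; simp; omega) hN (by rw [QuadClassify.qPlus_coe]; exact hM))
    rw [QuadClassify.qPlus_coe]
    simp only [Cfsg.quadFormPlus, J, LinearMap.pi_apply, Sum.elim_inl, Sum.elim_inr,
      LinearMap.smul_apply, LinearMap.proj_apply, smul_eq_mul, Finset.mul_sum]
    exact Finset.sum_congr rfl fun i _ => by ring
  · -- minus type
    obtain ⟨c, hc⟩ := exists_nonsquare_shift (p := p) hz
    have hab : ∀ z₁ z₂ : F, z₁ ^ 2 + (2 * c) * z₁ * z₂ + z * z₂ ^ 2 = 0 → z₁ = 0 ∧ z₂ = 0 := by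
      intro z₁ z₂ h
      by_cases hz2 : z₂ = 0
      · subst hz2
        exact ⟨pow_eq_zero_iff two_ne_zero |>.1 (by linear_combination h), rfl⟩
      · refine absurd ?_ (hc (z₁ / z₂ + c))
        field_simp
        linear_combination h
    let ε : Fin (j + 1) × Fin 2 ≃ (Fin j ⊕ Fin j) ⊕ Fin 2 :=
      { toFun := fun me => Fin.cases (Sum.inr me.2)
          (fun m => Sum.inl (if me.2 = 0 then Sum.inr m else Sum.inl m)) me.1
        invFun := Sum.elim (Sum.elim (fun m => (m.succ, 1)) (fun m => (m.succ, 0)))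
          (fun e => (0, e))
        left_inv := fun me => by
          obtain ⟨m, e⟩ := me
          cases m using Fin.cases <;> fin_cases e <;> simp
        right_inv := fun x => by
          rcases x with (m | m) | e
          · simp
          · simp
          · fin_cases e <;> simp }
    let φ := (B.reindex ε).equivFun
    let J : Module.End F ((Fin j ⊕ Fin j) ⊕ Fin 2 → F) := LinearMap.pi fun x =>
      Sum.elim (Sum.elim (fun m => (LinearMap.proj (Sum.inl (Sum.inr m)) : _ →ₗ[F] F))
          (fun m => z • (LinearMap.proj (Sum.inl (Sum.inl m)) : _ →ₗ[F] F)))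
        (fun e => if e = 0 then z • (LinearMap.proj (Sum.inr 1) : _ →ₗ[F] F)
          else (LinearMap.proj (Sum.inr 0) : _ →ₗ[F] F)) x
    have hε : ∀ (x : (Fin j ⊕ Fin j) ⊕ Fin 2), B (ε.symm x) = (B.reindex ε) x := fun x => by simp
    have hφ : φ.toLinearMap ∘ₗ g = J ∘ₗ φ.toLinearMap := by
      refine B.ext fun me => funext fun x => ?_
      obtain ⟨m, e⟩ := me
      fin_cases e
      · show φ (g (B (m, 0))) x = J (φ (B (m, 0))) x
        rw [(hB m).1]
        cases m using Fin.cases <;> rcases x with (y | y) | y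
        all_goals (try fin_cases y)
        all_goals simp [φ, J, ε, Basis.equivFun_apply, Finsupp.single_apply]
      · show φ (g (B (m, 1))) x = J (φ (B (m, 1))) x
        rw [(hB m).2]
        cases m using Fin.cases <;> rcases x with (y | y) | y
        all_goals (try fin_cases y)
        all_goals simp [φ, J, ε, Basis.equivFun_apply, Finsupp.single_apply]
    obtain ⟨M, hM⟩ := prof_qMinus j hab
    refine pres_of_model (Q := QuadClassify.qMinus j F (2 * c) z) (J := J) φ (fun v => LinearMap.congr_fun hφ v) hz0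
      (fun w => ?_) (similar_even hq (OrthPrimeOrderClasses73.nd_minus j hab) hV (by
        rw [Module.finrank_fintype_fun_eq_card]; simp; omega) hN (by rw [QuadClassify.qMinus_coe]; exact hM))
    rw [QuadClassify.qMinus_coe]
    simp only [Cfsg.quadFormMinus, J, LinearMap.pi_apply, Sum.elim_inl, Sum.elim_inr, if_true,
      one_ne_zero, if_false, LinearMap.smul_apply, LinearMap.proj_apply, smul_eq_mul, mul_add,
      Finset.mul_sum]
    congr 1
    · exact Finset.sum_congr rfl fun i _ => by ring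
    · ring

end Classify

end Cfsg.Agent.OrthDerange84
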