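import Mathlib
import Cfsg.Agent.Lib.FiniteFormClass
import Cfsg.Agent.Lib.OmegaClasses

/-!
Self-adjoint quadratic extension structures on an orthogonal space over a finite field of odd order:
coordinates, conjugacy, and adjusting a conjugating element into the commutator subgroup.
-/

set_option autoImplicit false

open QuadraticMap Module LinearMap

namespace Cfsg.Agent.OrthFieldExt93

open Cfsg.Agent.OrthUnitaryQuad Cfsg.Agent.OrthUnitaryRefl Cfsg.Agent.OmegaClasses
open Cfsg.Agent.OrthUnitaryPrelude Cfsg.Agent.OrthUnitaryOmega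

variable {F : Type*} [Field F] {V : Type*} [AddCommGroup V] [Module F V] {Q : QuadraticForm F V} {ε : F}

/-- A self-adjoint square root of the scalar `ε`. -/
structure IsStruct (Q : QuadraticForm F V) (ε : F) (M : Module.End F V) : Prop where
  sq : ∀ v, M (M v) = ε • v
  adj : ∀ u v, polar Q (M u) v = polar Q u (M v)

/-- `y` commutes or anticommutes with `M`. -/
def Norm (M : Module.End F V) (y : orth Q) : Prop :=
  (∀ v, y.1 (M v) = M (y.1 v)) ∨ ∀ v, y.1 (M v) = -M (y.1 v)

theorem Norm.conj {M M' : Module.End F V} (h : orth Q) (hh : ∀ v, h.1 (M v) = M' (h.1 v)) {y : orth Q}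
    (hy : Norm M' y) : Norm M (h⁻¹ * y * h) := by
  have hinv : ∀ w, h⁻¹.1 (M' w) = M (h⁻¹.1 w) := fun w => by
    obtain ⟨v, rfl⟩ := h.1.surjective w
    rw [← hh]
    show h.1.symm _ = M (h.1.symm _)
    rw [LinearEquiv.symm_apply_apply, LinearEquiv.symm_apply_apply]
  rcases hy with hy | hy
  · exact Or.inl fun v => by rw [orth_mul_apply, orth_mul_apply, hh, hy, hinv, orth_mul_apply, orth_mul_apply]
  · exact Or.inr fun v => by
      rw [orth_mul_apply, orth_mul_apply, hh, hy, map_neg, hinv, orth_mul_apply, orth_mul_apply]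

/-! ### The scalars -/

variable (ε) in
/-- The quadratic extension by a square root of `ε`. -/
abbrev L := QuadraticAlgebra F ε 0

theorem fact_of_not_isSquare (hε : ¬ IsSquare ε) : ∀ t : F, t ^ 2 ≠ ε + 0 * t := fun t h => hε ⟨t, by
  rw [zero_mul, add_zero] at h; rw [← h, pow_two]⟩

instance instFintypeL [Fintype F] : Fintype (L ε) := Fintype.ofEquiv _ (QuadraticAlgebra.equivProd ε 0).symm

theorem card_L [Fintype F] : Fintype.card (L ε) = Fintype.card F ^ 2 := by
  rw [Fintype.card_congr (QuadraticAlgebra.equivProd ε 0), Fintype.card_prod, pow_two]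

theorem two_ne_L (h2 : (2 : F) ≠ 0) : (2 : L ε) ≠ 0 := fun h =>
  h2 (by simpa [QuadraticAlgebra.re_ofNat] using congrArg QuadraticAlgebra.re h)

/-- An element with square norm is a square. -/
theorem isSquare_of_norm [Fintype F] (h2 : (2 : F) ≠ 0) (hε : ¬ IsSquare ε) {z : L ε}
    (hz : IsSquare z.norm) : IsSquare z := by
  classical
  obtain ⟨c, hc⟩ := hz
  rw [QuadraticAlgebra.norm_def] at hc
  obtain ⟨A, B⟩ := z
  simp only [mul_comm] at hc
  by_cases hB : B = 0
  · subst hB
    by_cases hA : IsSquare A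
    · obtain ⟨s, rfl⟩ := hA
      exact ⟨⟨s, 0⟩, by ext <;> simp⟩
    · have hε0 : ε ≠ 0 := fun h => hε (h ▸ IsSquare.zero)
      have hA0 : A ≠ 0 := fun h => hA (h ▸ IsSquare.zero)
      obtain ⟨t, ht⟩ : IsSquare (A / ε) := by
        have h1 := quadraticChar_neg_one_iff_not_isSquare.2 hε
        have h2' := quadraticChar_neg_one_iff_not_isSquare.2 hA
        refine (quadraticChar_one_iff_isSquare (div_ne_zero hA0 hε0)).1 ?_
        have h3 : quadraticChar F (A / ε) * quadraticChar F ε = quadraticChar F A := by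
          rw [← map_mul, div_mul_cancel₀ _ hε0]
        rw [h1, h2'] at h3
        linarith
      refine ⟨⟨0, t⟩, ?_⟩
      ext
      · simp
        rw [mul_assoc, ← ht, mul_div_cancel₀ _ hε0]
      · simp
  · have hε0 : ε ≠ 0 := fun h => hε (h ▸ IsSquare.zero)
    have h4 : (4 : F) ≠ 0 := by
      rw [show (4 : F) = 2 * 2 by norm_num]; exact mul_ne_zero h2 h2
    have hrhs : ε * (B * B) ≠ 0 := mul_ne_zero hε0 (mul_ne_zero hB hB)
    obtain ⟨u, hu⟩ : ∃ u, u = (A + c) / 2 := ⟨_, rfl⟩
    have hprod : 4 * u * (A - u) = ε * (B * B) := by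
      have : 2 * u = A + c := by rw [hu]; field_simp
      linear_combination (A - c) * this - 2 * u * this + hc
    have hu0 : u ≠ 0 := fun h => hrhs (by rw [← hprod, h]; ring)
    have hw0 : A - u ≠ 0 := fun h => hrhs (by rw [← hprod, h]; ring)
    obtain ⟨a, ⟨s, hs⟩, ha⟩ : ∃ a, IsSquare a ∧ 4 * a * (A - a) = ε * (B * B) := by
      by_cases hus : IsSquare u
      · exact ⟨u, hus, hprod⟩
      refine ⟨A - u, ?_, by linear_combination hprod⟩
      by_contra hws
      have h1 := quadraticChar_neg_one_iff_not_isSquare.2 hus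
      have h2' := quadraticChar_neg_one_iff_not_isSquare.2 hws
      have h3 := quadraticChar_neg_one_iff_not_isSquare.2 hε
      have h4' : quadraticChar F 4 = 1 := (quadraticChar_one_iff_isSquare h4).2 ⟨2, by norm_num⟩
      have h5 : quadraticChar F (B * B) = 1 :=
        (quadraticChar_one_iff_isSquare (mul_ne_zero hB hB)).2 ⟨B, rfl⟩
      have := congrArg (quadraticChar F) hprod
      simp only [map_mul] at this
      rw [map_mul] at h5
      rw [h1, h2', h3, h4', h5] at this
      norm_num at this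
    have hs0 : s ≠ 0 := fun h => hrhs (by rw [← ha, hs, h]; ring)
    refine ⟨⟨s, B / (2 * s)⟩, ?_⟩
    ext
    · simp
      field_simp
      rw [hs] at ha
      linear_combination ha
    · simp
      field_simp
      ring

/-- A product of two non-squares is a square. -/
theorem isSquare_mul_of_not [Fintype F] {a b : F} (ha : ¬ IsSquare a) (hb : ¬ IsSquare b) : IsSquare (a * b) := by
  classical
  refine (quadraticChar_one_iff_isSquare (mul_ne_zero (fun h => ha (by rw [h]; exact IsSquare.zero))
    fun h => hb (by rw [h]; exact IsSquare.zero))).1 ?_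
  rw [map_mul, quadraticChar_neg_one_iff_not_isSquare.2 ha, quadraticChar_neg_one_iff_not_isSquare.2 hb]
  rfl

/-! ### Coordinates -/

/-- The diagonal `(1, …, 1, δ)`. -/
def dl {n : ℕ} (δ : L ε) (i : Fin (n + 1)) : L ε := if i = Fin.last n then δ else 1

/-- The diagonal form over the extension. -/
def pair {n : ℕ} (δ : L ε) (x y : Fin (n + 1) → L ε) : L ε := ∑ i, dl δ i * (x i * y i)

variable [Fintype F] [FiniteDimensional F V] [Fact (∀ t : F, t ^ 2 ≠ ε + 0 * t)]

omit [Fintype F] [FiniteDimensional F V] in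
theorem eps_ne : ε ≠ 0 := fun h => (Fact.out : ∀ t : F, t ^ 2 ≠ ε + 0 * t) 0 (by simp [h])

omit [Fintype F] [FiniteDimensional F V] in
theorem not_isSquare_eps : ¬ IsSquare ε := fun ⟨t, ht⟩ =>
  (Fact.out : ∀ t : F, t ^ 2 ≠ ε + 0 * t) t (by rw [ht]; ring)

theorem coords (h2 : (2 : F) ≠ 0) (hnd : (polarBilin Q).Nondegenerate) {M : Module.End F V}
    (hM : IsStruct Q ε M) {n : ℕ} (hd : finrank F V = 2 * (n + 1)) :
    ∃ δ : L ε, δ ≠ 0 ∧ ∃ E : (Fin (n + 1) → L ε) ≃ₗ[F] V,
      (∀ (c : L ε) x, E (c • x) = c.re • E x + c.im • M (E x)) ∧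
      ∀ x y, polar Q (E x) (E y) = (pair δ x y).re := by
  classical
  let φ : L ε →ₐ[F] Module.End F V := QuadraticAlgebra.lift ⟨M, LinearMap.ext fun v => by
    simp [Module.End.mul_apply, hM.sq]⟩
  letI : Module (L ε) V := Module.compHom V φ.toRingHom
  have hsmul : ∀ (c : L ε) (v : V), c • v = c.re • v + c.im • M v := fun c v => by
    show φ c v = _
    simp [φ, QuadraticAlgebra.lift]
  haveI : IsScalarTower F (L ε) V := ⟨fun a c v => by
    rw [hsmul, hsmul, QuadraticAlgebra.re_smul, QuadraticAlgebra.im_smul, smul_add, smul_smul, smul_smul]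
    rfl⟩
  haveI : Module.Finite (L ε) V := Module.Finite.of_restrictScalars_finite F (L ε) V
  have hε := eps_ne (ε := ε)
  let bf : V → V → L ε := fun x y => ⟨polar Q x y, ε⁻¹ * polar Q (M x) y⟩
  have hsymm : ∀ x y, bf x y = bf y x := fun x y => by
    ext
    · exact polar_comm _ x y
    · show ε⁻¹ * _ = ε⁻¹ * _
      rw [polar_comm _ (M x) y, ← hM.adj]
  have hadd : ∀ x x' y, bf (x + x') y = bf x y + bf x' y := fun x x' y => by
    ext
    · exact polar_add_left Q x x' y
    · show ε⁻¹ * _ = ε⁻¹ * _ + ε⁻¹ * _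
      rw [map_add, polar_add_left, mul_add]
  have hmul : ∀ (c : L ε) x y, bf (c • x) y = c * bf x y := fun c x y => by
    rw [hsmul]
    ext
    · simp [bf, polar_add_left, polar_smul_left, QuadraticAlgebra.re_mul]
      field_simp
    · simp [bf, polar_add_left, polar_smul_left, hM.sq, QuadraticAlgebra.im_mul]
      field_simp
  let β : LinearMap.BilinForm (L ε) V := LinearMap.mk₂ (L ε) bf hadd
    (fun c x y => hmul c x y)
    (fun x y y' => by rw [hsymm, hadd, hsymm y, hsymm y'])
    (fun c x y => by rw [hsymm, hmul, hsymm y, smul_eq_mul])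
  have hβ : ∀ x y, β x y = bf x y := fun _ _ => rfl
  have key : ∀ x, (∀ y, β x y = 0) → x = 0 := fun x h => hnd.1 x fun y => by
    have := congrArg QuadraticAlgebra.re ((hβ x y).symm.trans (h y))
    simpa [bf] using this
  have hβn : β.Nondegenerate := ⟨key, fun y h => key y fun x => by rw [hβ, hsymm]; exact h x⟩
  have hV : finrank (L ε) V = n + 1 := by
    have := Module.finrank_mul_finrank F (L ε) V
    rw [QuadraticAlgebra.finrank_eq_two, hd] at this
    omega
  obtain ⟨b, δ, hδ, hb⟩ := FiniteFormClass.exists_isStd (two_ne_L h2) n β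
    (fun x y => by rw [hβ, hβ, hsymm]) hβn hV
  refine ⟨δ, hδ, b.equivFun.symm.restrictScalars F, fun c x => ?_, fun x y => ?_⟩
  · show b.equivFun.symm (c • x) = _
    rw [map_smul, hsmul]
    rfl
  · show polar Q (b.equivFun.symm x) (b.equivFun.symm y) = _
    have : β (b.equivFun.symm x) (b.equivFun.symm y) = pair δ x y := by
      simp only [Basis.equivFun_symm_apply, LinearMap.BilinForm.sum_left, LinearMap.BilinForm.sum_right,
        map_smul, LinearMap.smul_apply, hb _ _, smul_eq_mul, mul_ite, mul_zero, Finset.sum_ite_eq,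
        Finset.sum_ite_eq',
        Finset.mem_univ, if_true, pair, dl]
      exact Finset.sum_congr rfl fun i _ => by split_ifs <;> ring
    rw [← this]
    rfl

/-- The determinant class of the coordinates. -/
theorem isSquare_norm_mul {n : ℕ} {δ δ' : L ε} (hδ : δ ≠ 0) {E E' : (Fin (n + 1) → L ε) ≃ₗ[F] V}
    (hE : ∀ x y, polar Q (E x) (E y) = (pair δ x y).re)
    (hE' : ∀ x y, polar Q (E' x) (E' y) = (pair δ' x y).re) : IsSquare (δ.norm * δ'.norm) := by
  classical
  let c := (QuadraticAlgebra.basis ε 0).smulTower (Pi.basisFun (L ε) (Fin (n + 1)))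
  have hdet : ∀ (d : L ε) (G : (Fin (n + 1) → L ε) ≃ₗ[F] V),
      (∀ x y, polar Q (G x) (G y) = (pair d x y).re) →
      (QuadClassify.gram Q (c.map G)).det = ε ^ (n + 1) * d.norm := by
    intro d G hG
    let blk : Fin (n + 1) → Matrix (Fin 2) (Fin 2) F := fun i =>
      !![(dl d i).re, ε * (dl d i).im; ε * (dl d i).im, ε * (dl d i).re]
    have hg : QuadClassify.gram Q (c.map G) = Matrix.blockDiagonal blk := by
      ext ⟨a, i⟩ ⟨b, j⟩
      rw [QuadClassify.gram_apply, Basis.map_apply, Basis.map_apply, hG, Matrix.blockDiagonal_apply]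
      simp only [c, Basis.smulTower_apply, Pi.basisFun_apply, pair, Pi.smul_apply, smul_eq_mul, Pi.single_apply]
      by_cases hij : i = j
      · subst hij
        rw [Finset.sum_eq_single i (fun k _ hk => by simp [hk]) (by simp)]
        fin_cases a <;> fin_cases b <;>
          simp [blk, QuadraticAlgebra.basis, QuadraticAlgebra.re_mul, QuadraticAlgebra.im_mul,
            QuadraticAlgebra.linearEquivTuple, QuadraticAlgebra.equivProd] <;> ring
      · rw [if_neg hij, Finset.sum_eq_zero (fun k _ => by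
          by_cases hk : k = i
          · subst hk; simp [hij]
          · simp [hk])]
        simp
    rw [hg, Matrix.det_blockDiagonal]
    have : ∀ i, (blk i).det = ε * (dl d i).norm := fun i => by
      rw [Matrix.det_fin_two, QuadraticAlgebra.norm_def]
      simp [blk]
      ring
    rw [Finset.prod_congr rfl (fun i _ => this i), Finset.prod_mul_distrib, Finset.prod_const,
      Finset.card_univ, Fintype.card_fin, Finset.prod_eq_single (Fin.last n) (fun k _ hk => by
        simp [dl, hk]) (by simp)]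
    simp [dl]
  have h := QuadClassify.gram_change Q (c.map E) (c.map E')
  rw [hdet δ E hE, hdet δ' E' hE'] at h
  have hε := pow_ne_zero (n + 1) (eps_ne (ε := ε))
  set s := ((c.map E).toMatrix (c.map E')).det
  refine ⟨s * δ.norm, ?_⟩
  have : δ'.norm = s * s * δ.norm := mul_left_cancel₀ hε (by linear_combination h)
  rw [this]; ring

/-- All structures are conjugate under the orthogonal group. -/
theorem exists_conj (h2 : (2 : F) ≠ 0) (hnd : (polarBilin Q).Nondegenerate) {M M' : Module.End F V}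
    (hM : IsStruct Q ε M) (hM' : IsStruct Q ε M') {n : ℕ} (hd : finrank F V = 2 * (n + 1)) :
    ∃ h : orth Q, ∀ v, h.1 (M v) = M' (h.1 v) := by
  classical
  obtain ⟨δ, hδ, E, hEs, hE⟩ := coords h2 hnd hM hd
  obtain ⟨δ', hδ', E', hEs', hE'⟩ := coords h2 hnd hM' hd
  obtain ⟨r, hr⟩ := isSquare_of_norm h2 (not_isSquare_eps (ε := ε)) (z := δ * δ')
    (by rw [map_mul]; exact isSquare_norm_mul hδ hE hE')
  let w : Fin (n + 1) → L ε := fun i => if i = Fin.last n then r / δ' else 1
  have hr0 : r ≠ 0 := fun h => mul_ne_zero hδ hδ' (by rw [hr, h, mul_zero])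
  have hw0 : ∀ i, w i ≠ 0 := fun i => by
    simp only [w]; split_ifs
    · exact div_ne_zero hr0 hδ'
    · exact one_ne_zero
  let D : (Fin (n + 1) → L ε) ≃ₗ[L ε] (Fin (n + 1) → L ε) :=
    { toFun := fun x i => w i * x i
      invFun := fun x i => (w i)⁻¹ * x i
      map_add' := fun x y => funext fun i => mul_add _ _ _
      map_smul' := fun a x => funext fun i => by simp [mul_left_comm]
      left_inv := fun x => funext fun i => by simp [← mul_assoc, inv_mul_cancel₀ (hw0 i)]
      right_inv := fun x => funext fun i => by simp [← mul_assoc, mul_inv_cancel₀ (hw0 i)] }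
  have hD : ∀ x y, pair δ' (D x) (D y) = pair δ x y := fun x y => by
    refine Finset.sum_congr rfl fun i _ => ?_
    show dl δ' i * (w i * x i * (w i * y i)) = _
    have : dl δ' i * (w i * w i) = dl δ i := by
      simp only [dl, w]; split_ifs
      · field_simp; linear_combination -hr
      · simp
    rw [← this]; ring
  let f : V ≃ₗ[F] V := E.symm.trans ((D.restrictScalars F).trans E')
  have hf : f ∈ orth Q := fun x => by
    obtain ⟨u, rfl⟩ := E.surjective x
    have hp : polar Q (E' (D u)) (E' (D u)) = polar Q (E u) (E u) := by rw [hE', hE, hD]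
    rw [polar_self_mul, polar_self_mul] at hp
    simpa [f] using mul_left_cancel₀ h2 hp
  refine ⟨⟨f, hf⟩, fun v => ?_⟩
  obtain ⟨u, rfl⟩ := E.surjective v
  have h1 := hEs QuadraticAlgebra.omega u
  have h2' := hEs' QuadraticAlgebra.omega (D u)
  simp only [QuadraticAlgebra.omega_re, QuadraticAlgebra.omega_im, zero_smul, one_smul, zero_add] at h1 h2'
  rw [← h1]
  simp only [f, LinearEquiv.trans_apply, LinearEquiv.symm_apply_apply, LinearEquiv.restrictScalars_apply]
  rw [map_smul, h2']

/-- An anisotropic vector `a` with `a` orthogonal to `M a`. -/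
theorem exists_axis (h2 : (2 : F) ≠ 0) (hnd : (polarBilin Q).Nondegenerate) {M : Module.End F V}
    (hM : IsStruct Q ε M) {n : ℕ} (hd : finrank F V = 2 * (n + 1)) (hn : 0 < n) :
    ∃ a, Q a ≠ 0 ∧ polar Q a (M a) = 0 := by
  classical
  obtain ⟨δ, hδ, E, hEs, hE⟩ := coords h2 hnd hM hd
  let e : Fin (n + 1) → L ε := Pi.single 0 1
  have hlast : (0 : Fin (n + 1)) ≠ Fin.last n := by simp [Fin.ext_iff]; omega
  have hp : ∀ c : L ε, pair δ e (c • e) = c := fun c => by
    rw [pair, Finset.sum_eq_single 0 (fun k _ hk => by simp [e, hk]) (by simp)]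
    simp [e, dl, hlast]
  refine ⟨E e, fun h => ?_, ?_⟩
  · have := hE e ((1 : L ε) • e)
    rw [hp, one_smul, polar_self_mul, h, mul_zero, QuadraticAlgebra.re_one] at this
    exact zero_ne_one this
  · have h1 := hEs QuadraticAlgebra.omega e
    simp only [QuadraticAlgebra.omega_re, QuadraticAlgebra.omega_im, zero_smul, one_smul, zero_add] at h1
    rw [← h1, hE, hp, QuadraticAlgebra.omega_re]

/-- Adjusting a conjugating element into the commutator subgroup. -/
theorem omega_fix (h2 : (2 : F) ≠ 0) (hnd : (polarBilin Q).Nondegenerate) {M₀ M₁ : Module.End F V}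
    (hM₀ : IsStruct Q ε M₀) (hM₁ : IsStruct Q ε M₁) {n : ℕ} (hd : finrank F V = 2 * (n + 1)) (hn : 0 < n)
    {x : orth Q} (hx : Norm M₁ x) {v : V} (hv : Q v ≠ 0)
    (hgx : Norm M₁ ((refl Q v hv)⁻¹ * x * refl Q v hv)) :
    ∃ k ∈ commutator (orth Q), Norm M₀ (k⁻¹ * x * k) := by
  classical
  have hq2 : Fintype.card F ≠ 2 := fun h => by
    have := QuadClassify.card_odd (F := F) h2
    omega
  have hgen := reflGroup_top hnd (Or.inl hq2) (Q := Q)
  obtain ⟨h₀, hh₀⟩ := exists_conj h2 hnd hM₀ hM₁ hd
  obtain ⟨us, hus, hlen, hN⟩ : ∃ us, NS Q us ∧ Even us.length ∧ Norm M₀ ((rprod Q us)⁻¹ * x * rprod Q us) := by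
    obtain ⟨vs, hvs, hvs'⟩ := exists_rprod hgen h₀
    rcases Nat.even_or_odd vs.length with he | ho
    · exact ⟨vs, hvs, he, hvs' ▸ Norm.conj h₀ hh₀ hx⟩
    · refine ⟨v :: vs, List.forall_mem_cons.2 ⟨hv, hvs⟩, by
        rw [List.length_cons]; exact ho.add_one, ?_⟩
      have := Norm.conj h₀ hh₀ hgx
      rw [rprod_cons hv, ← hvs', mul_inv_rev]
      simpa only [mul_assoc] using this
  by_cases hsq : IsSquare (us.map Q).prod
  · exact ⟨_, (rprod_mem_iff hnd (Or.inl hq2) hus).2 ⟨hlen, hsq⟩, hN⟩
  obtain ⟨a, ha, haM⟩ := exists_axis h2 hnd hM₀ hd hn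
  have hMa : Q (M₀ a) = ε * Q a := by
    have := hM₀.adj a (M₀ a)
    rw [hM₀.sq, polar_smul_right, polar_self_mul, polar_self_mul, smul_eq_mul] at this
    exact mul_left_cancel₀ h2 (by linear_combination this)
  have hMa0 : Q (M₀ a) ≠ 0 := hMa ▸ mul_ne_zero eps_ne ha
  have hws : NS Q [a, M₀ a] := by simp [NS, ha, hMa0]
  have hpw : [a, M₀ a].Pairwise fun u w => polar Q u w = 0 := by simp [haM]
  have hc : ∀ w, (rprod Q [a, M₀ a]).1 (M₀ w) = M₀ ((rprod Q [a, M₀ a]).1 w) := fun w => by
    rw [rprod_orthogonal hws hpw, rprod_orthogonal hws hpw]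
    simp only [List.map_cons, List.map_nil, List.sum_cons, List.sum_nil, add_zero, map_sub, map_add,
      map_smul, hM₀.sq, hMa, smul_smul]
    rw [← hM₀.adj a w, show polar Q (M₀ a) (M₀ w) = ε * polar Q a w by
      rw [hM₀.adj, hM₀.sq, polar_smul_right, smul_eq_mul]]
    have hε := eps_ne (ε := ε)
    match_scalars <;> field_simp
  refine ⟨rprod Q us * rprod Q [a, M₀ a], ?_, ?_⟩
  · rw [← rprod_append]
    refine (rprod_mem_iff hnd (Or.inl hq2) (hus.append hws)).2
      ⟨by rw [List.length_append]; exact hlen.add (by simp), ?_⟩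
    rw [List.map_append, List.prod_append]
    refine isSquare_mul_of_not hsq ?_
    simp only [List.map_cons, List.map_nil, List.prod_cons, List.prod_nil, mul_one, hMa]
    rintro ⟨t, ht⟩
    exact not_isSquare_eps (ε := ε) ⟨t / Q a, by field_simp; linear_combination ht⟩
  · rw [mul_inv_rev]
    simpa only [mul_assoc] using Norm.conj (rprod Q [a, M₀ a]) hc hN

end Cfsg.Agent.OrthFieldExt93
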