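import Mathlib
import Cfsg.Agent.Lib.OrthFieldExt93
import Cfsg.Agent.Lib.OrthPrimeOrderClasses73

/-!
An element of odd prime order of an orthogonal group commuting with no self-adjoint square root of a
non-square scalar.
-/

set_option autoImplicit false

open Polynomial Module Matrix

namespace Cfsg.Agent.OrthFieldExtElement93

universe u

variable {F : Type u} [Field F] {ι : Type} [Fintype ι] [DecidableEq ι]

/-- The generalised eigenspace for `θ` is a line. -/
def Simple {E : Type*} [Field E] [Algebra F E] (A : Matrix ι ι F) (θ : E) : Prop :=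
  ∃ v : ι → E, v ≠ 0 ∧ A.map (algebraMap F E) *ᵥ v = θ • v ∧
    ∀ u, (A.map (algebraMap F E) - θ • 1) *ᵥ ((A.map (algebraMap F E) - θ • 1) *ᵥ u) = 0 → ∃ c : E, u = c • v

theorem map_algHom_mulVec {E : Type*} [Field E] [Algebra F E] (σ : E →ₐ[F] E) (A : Matrix ι ι F) (v : ι → E) :
    (fun i => σ ((A.map (algebraMap F E) *ᵥ v) i)) = A.map (algebraMap F E) *ᵥ fun i => σ (v i) := by
  funext i
  simp [Matrix.mulVec, dotProduct, map_sum]

theorem no_commuting {E : Type*} [Field E] [Algebra F E] (h2 : (2 : F) ≠ 0) {ε : F} (hε : ε ≠ 0)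
    (G A M : Matrix ι ι F) (hG : G.det ≠ 0) (hA : Aᵀ * G * A = G) (hMG : Mᵀ * G = G * M)
    (hMM : M * M = ε • 1) (hAM : A * M = M * A) {θ : E} (hθ : θ ≠ 0) (hS : Simple A θ)
    (hσ : (∀ μ : E, μ * μ ≠ algebraMap F E ε) ∨ ∃ σ : E →ₐ[F] E, Function.Bijective σ ∧ σ θ = θ⁻¹ ∧
      ∀ μ : E, μ * μ = algebraMap F E ε → σ μ = -μ) : False := by
  classical
  obtain ⟨v, hv0, hAv, hline⟩ := hS
  set A' := A.map (algebraMap F E) with hA'
  set M' := M.map (algebraMap F E) with hM'
  set G' := G.map (algebraMap F E) with hG'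
  have hAM' : A' * M' = M' * A' := by rw [hA', hM', ← Matrix.map_mul, hAM, Matrix.map_mul]
  have hMM' : M' * M' = algebraMap F E ε • 1 := by
    rw [hM', ← Matrix.map_mul, hMM, Matrix.map_smul' (hf := map_mul (algebraMap F E)),
      Matrix.map_one _ (map_zero _) (map_one _)]
  have hAMv : A' *ᵥ (M' *ᵥ v) = θ • (M' *ᵥ v) := by
    rw [mulVec_mulVec, hAM', ← mulVec_mulVec, hAv, mulVec_smul]
  obtain ⟨μ, hμ⟩ := hline (M' *ᵥ v) (by
    rw [sub_mulVec A' (θ • (1 : Matrix ι ι E)) (M' *ᵥ v), hAMv, smul_mulVec, one_mulVec, sub_self, mulVec_zero])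
  have hμ2 : μ * μ = algebraMap F E ε := by
    have h : M' *ᵥ (M' *ᵥ v) = (μ * μ) • v := by rw [hμ, mulVec_smul, hμ, smul_smul]
    rw [mulVec_mulVec, hMM', smul_mulVec, one_mulVec] at h
    by_contra hne
    have h' : (μ * μ - algebraMap F E ε) • v = 0 := by rw [sub_smul, ← h, sub_self]
    exact hv0 ((smul_eq_zero.1 h').resolve_left (sub_ne_zero.2 hne))
  rcases hσ with hσ | ⟨σ, hσb, hσθ, hσμ⟩
  · exact hσ μ hμ2
  set w : ι → E := fun i => σ (v i) with hw
  have hw0 : w ≠ 0 := fun h => hv0 (funext fun i => σ.toRingHom.injective (by simpa [w] using congrFun h i))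
  have hAw : A' *ᵥ w = θ⁻¹ • w := by
    rw [← map_algHom_mulVec, hAv]
    funext i
    simp [w, hσθ]
  have hMw : M' *ᵥ w = (-μ) • w := by
    rw [← map_algHom_mulVec, hμ]
    funext i
    simp [w, hσμ μ hμ2]
  have hMG' : M'ᵀ * G' = G' * M' := by rw [hM', hG', ← Matrix.transpose_map, ← Matrix.map_mul, hMG, Matrix.map_mul]
  have hA'G : A'ᵀ * G' * A' = G' := by
    rw [hA', hG', ← Matrix.transpose_map, ← Matrix.map_mul, ← Matrix.map_mul, hA]
  have hμ0 : μ ≠ 0 := fun h => hε ((map_eq_zero (algebraMap F E)).1 (by rw [← hμ2, h, mul_zero]))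
  have h2E : (2 : E) ≠ 0 := fun h => h2 ((map_eq_zero (algebraMap F E)).1 (by rw [map_ofNat, h]))
  have hb : v ⬝ᵥ G' *ᵥ w = 0 := by
    have h1 : (M' *ᵥ v) ⬝ᵥ G' *ᵥ w = v ⬝ᵥ G' *ᵥ (M' *ᵥ w) := by
      rw [← vecMul_transpose M' v, ← dotProduct_mulVec, mulVec_mulVec, hMG', ← mulVec_mulVec]
    rw [hμ, hMw, mulVec_smul, smul_dotProduct, dotProduct_smul, smul_eq_mul, smul_eq_mul] at h1
    have h3 : (2 * μ) * (v ⬝ᵥ G' *ᵥ w) = 0 := by linear_combination h1
    exact (mul_eq_zero.1 h3).resolve_left (mul_ne_zero h2E hμ0)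
  -- `v` is orthogonal to everything
  let T := Matrix.toLin' (A' - θ⁻¹ • 1)
  have hTw : ∀ u, T (T u) = 0 → ∃ c : E, u = c • w := fun u hu => by
    choose u₀ hu₀ using fun i => hσb.2 (u i)
    have hu' : u = fun i => σ (u₀ i) := funext fun i => (hu₀ i).symm
    have key : ∀ x : ι → E, (fun i => σ (((A' - θ • 1) *ᵥ x) i)) = (A' - θ⁻¹ • 1) *ᵥ fun i => σ (x i) := fun x => by
      rw [sub_mulVec, sub_mulVec, smul_mulVec, smul_mulVec, one_mulVec, one_mulVec, ← map_algHom_mulVec]
      funext i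
      simp [map_sub, hσθ, hA']
    obtain ⟨c, hc⟩ := hline u₀ (funext fun i => σ.toRingHom.injective (by
      show σ _ = σ 0
      rw [map_zero]
      have h := congrFun (key ((A' - θ • 1) *ᵥ u₀)) i
      rw [key u₀, ← hu'] at h
      rw [h]
      exact congrFun hu i))
    exact ⟨σ c, by rw [hu', hc]; funext i; simp [w]⟩
  have hTwz : T w = 0 := by
    show Matrix.toLin' _ w = 0
    rw [toLin'_apply, sub_mulVec, hAw, smul_mulVec, one_mulVec, sub_self]
  have hcompl : LinearMap.range T ⊔ LinearMap.ker T = ⊤ := by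
    refine Submodule.eq_top_of_disjoint _ _ (by rw [LinearMap.finrank_range_add_finrank_ker]) ?_
    rw [Submodule.disjoint_def]
    rintro _ ⟨u, rfl⟩ hu
    obtain ⟨c, rfl⟩ := hTw u hu
    rw [map_smul, hTwz, smul_zero]
  have hG'0 : G'.det ≠ 0 := by
    rw [hG', show G.map (algebraMap F E) = (algebraMap F E).mapMatrix G from rfl, ← RingHom.map_det]
    exact (_root_.map_ne_zero _).2 hG
  refine hv0 (Matrix.eq_zero_of_vecMul_eq_zero hG'0 (funext fun i => ?_))
  have hall : ∀ y, v ⬝ᵥ G' *ᵥ y = 0 := fun y => by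
    obtain ⟨_, ⟨u, rfl⟩, k, hk, rfl⟩ := Submodule.mem_sup.1 (hcompl ▸ Submodule.mem_top (x := y))
    obtain ⟨c, rfl⟩ := hTw k (by rw [LinearMap.mem_ker.1 hk, map_zero])
    have hu : v ⬝ᵥ G' *ᵥ (A' *ᵥ u) = θ⁻¹ * (v ⬝ᵥ G' *ᵥ u) := by
      have h : (A' *ᵥ v) ⬝ᵥ G' *ᵥ (A' *ᵥ u) = v ⬝ᵥ G' *ᵥ u := by
        rw [← vecMul_transpose A' v, ← dotProduct_mulVec, mulVec_mulVec, mulVec_mulVec, hA'G]
      rw [hAv, smul_dotProduct, smul_eq_mul] at h
      rw [← h, inv_mul_cancel_left₀ hθ]
    rw [mulVec_add, dotProduct_add, mulVec_smul, dotProduct_smul, hb, smul_zero, add_zero, toLin'_apply,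
      sub_mulVec, mulVec_sub, dotProduct_sub, hu, smul_mulVec, one_mulVec, mulVec_smul, dotProduct_smul,
      smul_eq_mul, sub_self]
  rw [Pi.zero_apply, ← dotProduct_single_one (v ᵥ* G') i, ← dotProduct_mulVec]
  exact hall _

/-- A power of the characteristic large and congruent to one modulo `r`. -/
theorem exists_pexp {p r : ℕ} [Fact p.Prime] [Fact r.Prime] (hrp : r ≠ p) (n : ℕ) :
    ∃ k, n ≤ p ^ k ∧ p ^ k % r = 1 := by
  have hp := (Fact.out : p.Prime)
  have hr := (Fact.out : r.Prime)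
  refine ⟨(r - 1) * n, ?_, ?_⟩
  · exact (Nat.le_mul_of_pos_left n (Nat.sub_pos_of_lt hr.one_lt)).trans (Nat.lt_pow_self hp.one_lt).le
  · have h : ((p : ZMod r)) ^ (r - 1) = 1 := ZMod.pow_card_sub_one_eq_one fun h =>
      hrp ((Nat.prime_dvd_prime_iff_eq hr hp).1 ((ZMod.natCast_eq_zero_iff _ _).1 h))
    have h' : ((p ^ ((r - 1) * n) : ℕ) : ZMod r) = ((1 : ℕ) : ZMod r) := by
      rw [Nat.cast_pow, pow_mul, h, one_pow, Nat.cast_one]
    rw [ZMod.natCast_eq_natCast_iff', Nat.mod_eq_of_lt hr.one_lt] at h'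
    exact h'

/-- Powering by `q` negates a square root of a non-square. -/
theorem pow_q_sqrt [Fintype F] (h2 : (2 : F) ≠ 0) {ε : F} (hε : ¬ IsSquare ε) {E : Type*} [Field E]
    [Algebra F E] {μ : E} (hμ : μ * μ = algebraMap F E ε) : μ ^ Fintype.card F = -μ := by
  have hc : ringChar F ≠ 2 := fun h => h2 (by
    have := ringChar.charP F
    rw [h] at this
    exact CharTwo.two_eq_zero)
  have hε0 : ε ≠ 0 := fun h => hε (h ▸ IsSquare.zero)
  have h1 : ε ^ (Fintype.card F / 2) = -1 := by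
    rcases FiniteField.pow_dichotomy hc hε0 with h | h
    · exact absurd ((FiniteField.isSquare_iff hc hε0).2 h) hε
    · exact h
  have hodd : Fintype.card F % 2 = 1 := FiniteField.odd_card_of_char_ne_two hc
  conv_lhs => rw [show Fintype.card F = 2 * (Fintype.card F / 2) + 1 by omega]
  rw [pow_succ, pow_mul, pow_two, hμ, ← map_pow, h1, map_neg, map_one, neg_one_mul]

theorem pow_q_pow_sqrt [Fintype F] (h2 : (2 : F) ≠ 0) {ε : F} (hε : ¬ IsSquare ε) {E : Type*} [Field E]
    [Algebra F E] {μ : E} (hμ : μ * μ = algebraMap F E ε) (h : ℕ) :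
    μ ^ (Fintype.card F ^ h) = (-1) ^ h * μ := by
  induction h with
  | zero => simp
  | succ h ih =>
    have hodd : Odd (Fintype.card F) := Nat.odd_iff.2 (FiniteField.odd_card_of_char_ne_two fun hc => h2 (by
      have := ringChar.charP F
      rw [hc] at this
      exact CharTwo.two_eq_zero))
    rw [pow_succ, pow_mul, ih, mul_pow, ← pow_mul, pow_q_sqrt h2 hε hμ, mul_comm h, pow_mul,
      hodd.neg_one_pow, pow_succ]
    ring

open QuadraticMap in
open Cfsg.Agent.PrimeOrderClassCount (lin) in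
open Cfsg.Agent.SelfReciprocalFactors in
open Cfsg.Agent.OrthTypeCount73 (Prof) in
/-- The element. -/
theorem exists_element [Fintype F] {p q r : ℕ} [Fact p.Prime] [CharP F p] [Fact r.Prime]
    (hq : Fintype.card F = q) (h2 : (2 : F) ≠ 0) (hr2 : r ≠ 2) (hrp : r ≠ p)
    (Qf : QuadraticForm F (ι → F)) (hnd : (polarBilin Qf).Nondegenerate) {d : ℕ} (hd : 2 ≤ d)
    (hι : Fintype.card ι = 2 * d) {s : ℤ} (hs : s = 1 ∨ s = -1)
    (hiso : ∀ (V : Type u) [AddCommGroup V] [Module F V] [FiniteDimensional F V]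
      (Q : QuadraticForm F V), (polarBilin Q).Nondegenerate → finrank F V = 2 * d →
      (∃ N, Prof ⇑Q N (s * (Fintype.card F : ℤ) ^ d)) → ∃ T : V ≃ₗ[F] (ι → F), ∀ v, Qf (T v) = Q v)
    {e : ℕ} (he : e = orderOf (q : ZMod r)) (h4 : ¬ 4 ∣ e)
    (hodd : Odd e → 2 * e ≤ 2 * d ∧ (2 * e = 2 * d → s = 1))
    (heven : Even e → e ≤ 2 * d ∧ (e = 2 * d → s = -1)) :
    ∃ y : ↥(Cfsg.isometryGroup F ⇑Qf), y ^ r = 1 ∧ (∀ c : F, OrthUnitaryPrelude.mat y ≠ c • 1) ∧
      ∀ (ε : F), ¬ IsSquare ε → ∀ M : Matrix ι ι F, M * M = ε • 1 →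
        (∀ u v, polar Qf (M *ᵥ u) v = polar Qf u (M *ᵥ v)) →
        OrthUnitaryPrelude.mat y * M ≠ M * OrthUnitaryPrelude.mat y := by
  classical
  have hp := (Fact.out : p.Prime)
  have hr := (Fact.out : r.Prime)
  have hq0 : (q : ZMod r) ≠ 0 := fun h => by
    obtain ⟨f, -, hf⟩ := FiniteField.card F p
    rw [← hq, hf, Nat.cast_pow] at h
    have := eq_zero_of_pow_eq_zero h
    rw [ZMod.natCast_eq_zero_iff] at this
    exact hrp ((Nat.prime_dvd_prime_iff_eq hr hp).1 this)
  have he0 : 0 < e := he ▸ Nat.pos_of_ne_zero (orderOf_pos_iff.2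
    (isOfFinOrder_iff_pow_eq_one.2 ⟨r - 1, Nat.sub_pos_of_lt hr.one_lt, ZMod.pow_card_sub_one_eq_one hq0⟩)).ne'
  haveI : NeZero e := ⟨he0.ne'⟩
  let E := FiniteField.Extension F p e
  haveI : Fintype E := Fintype.ofFinite E
  have hE : Fintype.card E = q ^ e := by
    rw [Fintype.card_eq_nat_card, FiniteField.natCard_extension, Nat.card_eq_fintype_card, hq]
  obtain ⟨θu, hθu⟩ : ∃ θ : Eˣ, orderOf θ = r := by
    refine exists_prime_orderOf_dvd_card' r ?_
    rw [Nat.card_eq_fintype_card, Fintype.card_units, hE, ← ZMod.natCast_eq_zero_iff,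
      Nat.cast_sub (Nat.one_le_pow _ _ (hq ▸ Fintype.card_pos)), Nat.cast_pow, he, pow_orderOf_eq_one]
    simp
  set θ : E := (θu : E) with hθdef
  have hθo : orderOf θ = r := by rw [hθdef, orderOf_units, hθu]
  have hθr : θ ^ r = 1 := hθo ▸ pow_orderOf_eq_one θ
  have hθ1 : θ ≠ 1 := fun h => hr.one_lt.ne' (by rw [← hθo, h, orderOf_one])
  -- the minimal polynomial
  set μ := minpoly F θ with hμdef
  have hint : IsIntegral F θ := IsIntegral.of_finite F θ
  have hμf : IsFactor r μ := by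
    refine ⟨minpoly.monic hint, minpoly.irreducible hint, minpoly.dvd F θ (by simp [hθr]), fun h => hθ1 ?_⟩
    have := minpoly.aeval F θ
    rw [← hμdef, h] at this
    simpa [lin, sub_eq_zero] using this
  haveI := Fact.mk hμf.irr
  have hdeg : μ.natDegree = e := by
    refine le_antisymm ?_ ?_
    · exact (minpoly.natDegree_le θ).trans_eq (FiniteField.finrank_extension F p e)
    · haveI : Finite (AdjoinRoot μ) := by
        haveI : Module.Finite F (AdjoinRoot μ) := (AdjoinRoot.powerBasis hμf.irr.ne_zero).finite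
        exact Module.finite_of_finite F
      haveI : Fintype (AdjoinRoot μ) := Fintype.ofFinite _
      obtain ⟨-, hord⟩ := root_facts hr hμf
      have h0 : AdjoinRoot.root μ ≠ 0 := fun h => by
        have := (root_facts hr hμf).1
        rw [h, zero_pow hr.ne_zero] at this
        exact zero_ne_one this
      have hdvd : r ∣ Fintype.card (AdjoinRoot μ) - 1 := by
        rw [← hord, ← Fintype.card_units, show AdjoinRoot.root μ = ((Units.mk0 _ h0 : (AdjoinRoot μ)ˣ) :
          AdjoinRoot μ) from rfl, orderOf_units]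
        exact orderOf_dvd_card
      rw [Module.card_eq_pow_finrank (K := F), (AdjoinRoot.powerBasis hμf.irr.ne_zero).finrank,
        AdjoinRoot.powerBasis_dim, hq, ← ZMod.natCast_eq_zero_iff,
        Nat.cast_sub (Nat.one_le_pow _ _ (hq ▸ Fintype.card_pos)), Nat.cast_pow, Nat.cast_one, sub_eq_zero] at hdvd
      exact Nat.le_of_dvd hμf.irr.natDegree_pos (he ▸ orderOf_dvd_of_pow_eq_one hdvd)
  have hrF : (r : F) ≠ 0 := fun h =>
    hrp ((Nat.prime_dvd_prime_iff_eq hp hr).1 ((CharP.cast_eq_zero_iff F p r).1 h)).symm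
  have hX1 : (X ^ r - 1 : F[X]).eval (-1) ≠ 0 := by
    rw [eval_sub, eval_pow, eval_X, eval_one, (hr.odd_of_ne_two hr2).neg_one_pow]
    intro h; exact h2 (by linear_combination -h)
  have hX0 : (X ^ r - 1 : F[X]).eval 0 ≠ 0 := by
    simp [zero_pow hr.ne_zero]
  -- the polynomial
  obtain ⟨P₀, hPm, hPdeg, hPmir, hPd, hP1, hPθ⟩ : ∃ P₀ : F[X], P₀.Monic ∧
      P₀.natDegree = (if Odd e then 2 * e else e) ∧ P₀.mirror = P₀ ∧ P₀ ∣ X ^ r - 1 ∧ P₀.eval 1 ≠ 0 ∧
      aeval θ P₀ = 0 := by
    rcases Nat.even_or_odd e with hev | hod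
    · refine ⟨μ, hμf.monic, by rw [if_neg (Nat.not_odd_iff_even.2 hev), hdeg],
        eq_mirror_of_associated ?_ hμf.eval_one, hμf.dvd, hμf.eval_one, minpoly.aeval F θ⟩
      have := assoc_st (μ := μ)
      rwa [st_of_even hq hr he he0 hev hμf] at this
    · have hst := hμf.isFactor_st
      have hne : st μ ≠ μ := st_of_odd hr hr2 hμf (hdeg.symm ▸ hod)
      have hcop : IsCoprime μ (st μ) := (Irreducible.coprime_iff_not_dvd hμf.irr).2 fun h =>
        hne (eq_of_monic_of_associated hst.monic hμf.monic (hμf.irr.associated_of_dvd hst.irr h).symm)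
      have h1 : (μ * st μ).eval 1 ≠ 0 := by rw [eval_mul]; exact mul_ne_zero hμf.eval_one hst.eval_one
      refine ⟨μ * st μ, hμf.monic.mul hst.monic, ?_, ?_, hcop.mul_dvd hμf.dvd hst.dvd, h1, by
        rw [map_mul, minpoly.aeval, zero_mul]⟩
      · rw [if_pos hod, natDegree_mul hμf.monic.ne_zero hst.monic.ne_zero, natDegree_st, hdeg]; ring
      · refine eq_mirror_of_associated ?_ h1
        rw [mirror_mul_of_domain, mul_comm μ]
        refine assoc_st.mul_mul ?_
        have := mirror_associated (assoc_st (μ := μ)).symm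
        rwa [mirror_mirror] at this
  have hP00 : P₀.eval 0 ≠ 0 := fun h => hX0 (by obtain ⟨Z, hZ⟩ := hPd; rw [hZ, eval_mul, h, zero_mul])
  have hrefl : reflect P₀.natDegree P₀ = P₀ := by
    have h : P₀.natTrailingDegree = 0 := natTrailingDegree_eq_zero.2 (Or.inr (by rwa [coeff_zero_eq_eval_zero]))
    have := hPmir
    rwa [Polynomial.mirror, h, pow_zero, mul_one] at this
  have hle : P₀.natDegree ≤ 2 * d := by
    rw [hPdeg]; split_ifs with h
    · exact (hodd h).1
    · exact (heven (Nat.not_odd_iff_even.1 h)).1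
  have hevd : Even P₀.natDegree := by
    rw [hPdeg]; split_ifs with h
    · exact even_two_mul e
    · exact Nat.not_odd_iff_even.1 h
  obtain ⟨x, hx⟩ := OrthPrimeOrderClasses73.realise_even (r := r) hr hr2 Qf (m := d) hs hiso
    (a := 2 * d - P₀.natDegree) hPm (by omega) hevd hrefl hP1
    (fun h => hX1 (by obtain ⟨Z, hZ⟩ := hPd; rw [hZ, eval_mul, h, zero_mul]))
    (dvd_pow hPd (by omega)) (p := p) hrp (fun ha => by
      rw [← ZMod.intCast_zmod_eq_zero_iff_dvd]
      push_cast
      rw [hq]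
      by_cases h : Odd e
      · rw [if_pos h] at hPdeg
        have hde : e = d := by omega
        rw [(hodd h).2 (by omega)]
        simp [← hde, he, pow_orderOf_eq_one]
      · have hev := Nat.not_odd_iff_even.1 h
        rw [if_neg h] at hPdeg
        have := (OrthPrimeOrderClasses73.pow_half (q := q) he he0 1).2 d (by omega)
        rw [(heven hev).2 (by omega), mul_one] at *
        rw [this]; simp)
  set a := 2 * d - P₀.natDegree
  set X₀ : Matrix ι ι F := OrthUnitaryPrelude.mat x with hX₀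
  have hch : X₀.charpoly = lin F ^ a * P₀ := hx
  obtain ⟨k, hkn, hkr⟩ := exists_pexp (p := p) hrp (2 * d)
  set P := p ^ k with hP
  have hd0 : (X ^ r - 1 : F[X]) ≠ 0 := X_pow_sub_C_ne_zero hr.pos 1
  have hchd : X₀.charpoly ∣ (X ^ r - 1) ^ (2 * d) := by
    rw [hch]
    have hlin : lin F ∣ X ^ r - 1 := dvd_iff_isRoot.2 (by simp)
    have h1 : lin F ^ a * P₀ ∣ (X ^ r - 1) ^ a * (X ^ r - 1) ^ P₀.natDegree :=
      mul_dvd_mul (pow_dvd_pow_of_dvd hlin a) (hPd.trans (dvd_pow_self _ (by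
        rw [hPdeg]; split_ifs <;> omega)))
    rwa [← pow_add, show a + P₀.natDegree = 2 * d by omega] at h1
  haveI : Nonempty ι := Fintype.card_pos_iff.1 (by omega)
  have hyr : (x ^ P) ^ r = 1 := by
    obtain ⟨Z, hZ⟩ := hchd
    have h0 : (X₀ ^ r - 1) ^ (2 * d) = 0 := by
      have h := congrArg (aeval X₀) hZ
      rw [map_mul, Matrix.aeval_self_charpoly, zero_mul] at h
      simpa using h
    have h1 := pow_eq_zero_of_le hkn h0
    rw [sub_pow_char_pow_of_commute (p := p) _ (Commute.one_right _), one_pow, sub_eq_zero, ← pow_mul] at h1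
    refine Subtype.ext (Units.ext ?_)
    simp only [SubmonoidClass.coe_pow, Units.val_pow_eq_pow_val, OneMemClass.coe_one, Units.val_one]
    rw [← pow_mul, mul_comm]
    exact h1
  have hmat : OrthUnitaryPrelude.mat (x ^ P) = X₀ ^ P := by simp [X₀, OrthUnitaryPrelude.mat]
  -- the line of the eigenvalue
  have hS : Simple (X₀ ^ P) θ := by
    set T : Module.End E (ι → E) := Matrix.toLin' (X₀.map (algebraMap F E)) with hT
    have hTc : T.charpoly = (lin F ^ a * P₀).map (algebraMap F E) := by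
      rw [hT, Matrix.charpoly_toLin', Matrix.charpoly_map, hch]
    have hroot : T.charpoly.rootMultiplicity θ = 1 := by
      rw [hTc, Polynomial.map_mul]
      have hne : (lin F ^ a).map (algebraMap F E) * P₀.map (algebraMap F E) ≠ 0 :=
        mul_ne_zero (map_ne_zero (pow_ne_zero _ (X_sub_C_ne_zero 1))) (map_ne_zero hPm.ne_zero)
      rw [rootMultiplicity_mul hne, rootMultiplicity_eq_zero (by
        simp [lin, IsRoot, sub_eq_zero, hθ1]), zero_add]
      refine le_antisymm (rootMultiplicity_le_one_of_separable ?_ θ) ?_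
      · refine Separable.map ?_
        exact ((Polynomial.X_pow_sub_one_separable_iff).2 hrF).of_dvd hPd
      · refine (rootMultiplicity_pos (map_ne_zero hPm.ne_zero)).2 ?_
        rw [IsRoot, eval_map, ← aeval_def, hPθ]
    have hgen : finrank E (T.maxGenEigenspace θ) = 1 := by
      rw [LinearMap.finrank_maxGenEigenspace_eq, hroot]
    obtain ⟨v, hv⟩ := Module.End.HasEigenvalue.exists_hasEigenvector
      ((Module.End.hasEigenvalue_iff_isRoot_charpoly T θ).2
        ((rootMultiplicity_pos T.charpoly_monic.ne_zero).1 (by rw [hroot]; exact one_pos)))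
    have hv0 : v ≠ 0 := hv.2
    have hTv : X₀.map (algebraMap F E) *ᵥ v = θ • v := by
      rw [← toLin'_apply, ← hT]; exact hv.apply_eq_smul
    have hmem : v ∈ T.maxGenEigenspace θ := by
      rw [Module.End.mem_maxGenEigenspace]
      exact ⟨1, by simp [hv.apply_eq_smul]⟩
    have hθP : θ ^ P = θ := by
      rw [← Nat.mod_add_div P r, hkr, pow_add, pow_one, pow_mul, hθr, one_pow, mul_one]
    haveI : CharP E p := charP_of_injective_algebraMap (algebraMap F E).injective p
    have hdiff : (X₀ ^ P).map (algebraMap F E) - θ • 1 = (X₀.map (algebraMap F E) - θ • 1) ^ P := by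
      rw [sub_pow_char_pow_of_commute (p := p) _ ((Commute.one_right _).smul_right θ), _root_.smul_pow, one_pow, hθP,
        show (X₀ ^ P).map (algebraMap F E) = X₀.map (algebraMap F E) ^ P from
          map_pow (algebraMap F E).mapMatrix X₀ P]
    have hTpow : ∀ (n : ℕ) u, (X₀.map (algebraMap F E) - θ • 1) ^ n *ᵥ u = ((T - θ • 1) ^ n) u := fun n u => by
      have h1 : T - θ • 1 = Matrix.toLinAlgEquiv' (X₀.map (algebraMap F E) - θ • 1) := by
        rw [map_sub, map_smul, map_one]; rfl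
      rw [h1, ← map_pow]
      rfl
    refine ⟨v, hv0, ?_, fun u hu => ?_⟩
    · have h : ∀ n : ℕ, X₀.map (algebraMap F E) ^ n *ᵥ v = θ ^ n • v := fun n => by
        induction n with
        | zero => simp
        | succ n ih => rw [pow_succ, ← mulVec_mulVec, hTv, mulVec_smul, ih, smul_smul, pow_succ']
      rw [show (X₀ ^ P).map (algebraMap F E) = X₀.map (algebraMap F E) ^ P from
        map_pow (algebraMap F E).mapMatrix X₀ P, h, hθP]
    · rw [hdiff, mulVec_mulVec, ← pow_add, hTpow] at hu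
      have humem : u ∈ T.maxGenEigenspace θ := by
        rw [Module.End.mem_maxGenEigenspace]
        exact ⟨_, hu⟩
      obtain ⟨c, hc⟩ := (finrank_eq_one_iff_of_nonzero' (⟨v, hmem⟩ : T.maxGenEigenspace θ)
        (fun h => hv0 (congrArg Subtype.val h))).1 hgen ⟨u, humem⟩
      exact ⟨c, (congrArg Subtype.val hc).symm⟩
  refine ⟨x ^ P, hyr, fun c hc => ?_, fun ε hε M hMM hadj hcomm => ?_⟩
  · obtain ⟨v, hv0, hAv, hline⟩ := hS
    rw [hmat] at hc
    rw [hc] at hAv hline
    have hmapc : (c • (1 : Matrix ι ι F)).map (algebraMap F E) = algebraMap F E c • 1 := by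
      rw [Matrix.map_smul' (hf := map_mul (algebraMap F E)), Matrix.map_one _ (map_zero _) (map_one _)]
    rw [hmapc, smul_mulVec, one_mulVec] at hAv
    have hcθ : algebraMap F E c = θ := by
      by_contra h
      exact hv0 ((smul_eq_zero.1 (show (algebraMap F E c - θ) • v = 0 by rw [sub_smul, hAv, sub_self])).resolve_left
        (sub_ne_zero.2 h))
    have htop : (⊤ : Submodule E (ι → E)) ≤ Submodule.span E {v} := fun u _ => by
      obtain ⟨t, ht⟩ := hline u (by rw [hmapc, hcθ, sub_self, zero_mulVec])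
      rw [ht]
      exact Submodule.smul_mem _ _ (Submodule.mem_span_singleton_self v)
    have := Submodule.finrank_mono htop
    rw [finrank_top, finrank_span_singleton hv0, Module.finrank_fintype_fun_eq_card, hι] at this
    omega
  · rw [hmat] at hcomm
    let G : Matrix ι ι F := LinearMap.toMatrix₂' F (polarBilin Qf)
    have hGf : ∀ u v, u ⬝ᵥ G *ᵥ v = polar Qf u v := fun u v => by
      rw [← Matrix.toLinearMap₂'_apply', Matrix.toLinearMap₂'_toMatrix']; rfl
    have hext : ∀ X Y : Matrix ι ι F, (∀ u v, u ⬝ᵥ X *ᵥ v = u ⬝ᵥ Y *ᵥ v) → X = Y := fun X Y h =>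
      Matrix.ext fun i j => by simpa using h (Pi.single i 1) (Pi.single j 1)
    refine no_commuting h2 (fun h => hε (by rw [h]; exact IsSquare.zero)) G (X₀ ^ P) M ?_ ?_ ?_ hMM hcomm
      (fun h => by rw [h, zero_pow hr.ne_zero] at hθr; exact zero_ne_one hθr) hS ?_
    · intro h0
      obtain ⟨v, hv0, hv⟩ := Matrix.exists_mulVec_eq_zero_iff.2 h0
      exact hv0 (hnd.2 v fun u => by
        show polar Qf u v = 0
        rw [← hGf, hv, dotProduct_zero])
    · refine hext _ _ fun u v => ?_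
      rw [← mulVec_mulVec, ← mulVec_mulVec, dotProduct_mulVec u (X₀ ^ P)ᵀ, vecMul_transpose, hGf, hGf, ← hmat,
        ← OrthUnitaryPrelude.iso_apply, ← OrthUnitaryPrelude.iso_apply]
      exact OrthUnitaryQuad.polar_orth _ u v
    · refine hext _ _ fun u v => ?_
      rw [← mulVec_mulVec, ← mulVec_mulVec, dotProduct_mulVec u Mᵀ, vecMul_transpose, hGf, hGf, hadj]
    · rcases Nat.even_or_odd e with hev | hod
      · obtain ⟨h, hh⟩ := hev
        have hho : Odd h := by
          rcases Nat.even_or_odd h with ⟨l, hl⟩ | hho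
          · exact absurd ⟨l, by omega⟩ h4
          · exact hho
        refine Or.inr ⟨(FiniteField.Extension.frob F p e ^ h : E ≃ₐ[F] E).toAlgHom,
          (FiniteField.Extension.frob F p e ^ h : E ≃ₐ[F] E).bijective, ?_, fun μ' hμ' => ?_⟩
        · show (FiniteField.Extension.frob F p e ^ h) θ = θ⁻¹
          rw [FiniteField.Extension.frob_iterate_apply, Nat.card_eq_fintype_card, hq]
          refine eq_inv_of_mul_eq_one_left ?_
          rw [← pow_succ]
          refine orderOf_dvd_iff_pow_eq_one.1 ?_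
          rw [hθo, ← ZMod.natCast_eq_zero_iff, Nat.cast_add, Nat.cast_pow, Nat.cast_one]
          have := (OrthPrimeOrderClasses73.pow_half (q := q) he he0 1).2 h (by omega)
          rw [mul_one, pow_one] at this
          rw [this]; ring
        · show (FiniteField.Extension.frob F p e ^ h) μ' = -μ'
          rw [FiniteField.Extension.frob_iterate_apply, Nat.card_eq_fintype_card, pow_q_pow_sqrt h2 hε hμ',
            hho.neg_one_pow, neg_one_mul]
      · refine Or.inl fun μ' hμ' => ?_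
        have h := pow_q_pow_sqrt h2 hε hμ' e
        rw [hod.neg_one_pow, neg_one_mul, hq, ← hE, FiniteField.pow_card] at h
        have h2E : (2 : E) ≠ 0 := fun h => h2 ((map_eq_zero (algebraMap F E)).1 (by rw [map_ofNat, h]))
        have hμ0 : μ' = 0 := (mul_eq_zero.1 (show (2 : E) * μ' = 0 by linear_combination h)).resolve_left h2E
        rw [hμ0, mul_zero] at hμ'
        exact hε (((map_eq_zero (algebraMap F E)).1 hμ'.symm).symm ▸ IsSquare.zero)

end Cfsg.Agent.OrthFieldExtElement93
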