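import Mathlib
import Cfsg.Agent.Lib.OrthFieldExt93
import Cfsg.Agent.Lib.OrthTypeCount73
import Cfsg.Agent.Lib.OrthUnitaryForms
import Cfsg.Agent.Lib.OrthPrimeOrderClasses73

/-!
The centraliser of a self-adjoint quadratic extension structure contains the orthogonal group over the
extension, and which primes divide its index.
-/

set_option autoImplicit false

open QuadraticMap Module

namespace Cfsg.Agent.OrthFieldExtIndex93

open Cfsg.Agent.OrthUnitaryQuad Cfsg.Agent.OrthFieldExt93 Cfsg.Agent.OrthTypeCount73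

variable {F : Type*} [Field F] {ε : F} [Fact (∀ t : F, t ^ 2 ≠ ε + 0 * t)]

/-- The diagonal quadratic form over the extension. -/
noncomputable def psi {n : ℕ} (δ : L ε) : QuadraticForm (L ε) (Fin (n + 1) → L ε) :=
  QuadraticMap.weightedSumSquares (L ε) (dl δ)

theorem psi_apply {n : ℕ} (δ : L ε) (x : Fin (n + 1) → L ε) : psi δ x = pair δ x x := by
  simp [psi, QuadraticMap.weightedSumSquares_apply, pair, smul_eq_mul]

theorem psi_nondeg (h2 : (2 : F) ≠ 0) {n : ℕ} {δ : L ε} (hδ : δ ≠ 0) :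
    (polarBilin (psi (n := n) δ)).Nondegenerate := by
  have hpol : ∀ x y, polar (psi (n := n) δ) x y = 2 * pair δ x y := fun x y => by
    simp only [QuadraticMap.polar, psi_apply, pair, Finset.mul_sum, ← Finset.sum_sub_distrib]
    exact Finset.sum_congr rfl fun i _ => by simp only [Pi.add_apply]; ring
  have key : ∀ x, (∀ y, polar (psi (n := n) δ) x y = 0) → x = 0 := fun x h => funext fun i => by
    have hi := h (Pi.single i 1)
    rw [hpol, pair, Finset.sum_eq_single i (fun k _ hk => by simp [hk]) (by simp), Pi.single_eq_same, mul_one] at hi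
    have hd : dl δ i ≠ 0 := by simp only [dl]; split_ifs <;> simp [hδ]
    exact (mul_eq_zero.1 ((mul_eq_zero.1 hi).resolve_left (two_ne_L h2))).resolve_left hd
  exact ⟨fun x h => key x h, fun y h => key y fun x => (polar_comm _ _ _).trans (h x)⟩

variable [Fintype F]

/-- Reading off the value counts over the base field. -/
theorem prof_re {α : Type*} [Finite α] {f : α → L ε} {N E : ℤ} (h : Prof f N E) :
    Prof (fun a => (f a).re) ((Fintype.card F : ℤ) * N) E := by
  classical
  have key : ∀ c : F, (Nat.card {a // (f a).re = c} : ℤ) =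
      ∑ b : F, (N + if (⟨c, b⟩ : L ε) = 0 then E else 0) := fun c => by
    let e : {a // (f a).re = c} ≃ Σ b : F, {a // f a = ⟨c, b⟩} :=
      { toFun := fun a => ⟨(f a.1).im, a.1, QuadraticAlgebra.ext a.2 rfl⟩
        invFun := fun p => ⟨p.2.1, by rw [p.2.2]⟩
        left_inv := fun a => rfl
        right_inv := fun p => by
          obtain ⟨b, a, ha⟩ := p
          obtain rfl : (f a).im = b := by rw [ha]
          rfl }
    rw [Nat.card_congr e, Nat.card_sigma, Nat.cast_sum]
    exact Finset.sum_congr rfl fun b _ => h.card_eq _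
  refine ⟨fun c hc => ?_, ?_⟩
  · rw [key c, Finset.sum_congr rfl (g := fun _ => N) fun b _ => by
      rw [if_neg fun he => hc (by simpa using congrArg QuadraticAlgebra.re he), add_zero]]
    simp
  · rw [key 0, Finset.sum_add_distrib, Finset.sum_eq_single (0 : F) (fun b _ hb => if_neg fun he => hb (by
      simpa using congrArg QuadraticAlgebra.im he)) (by simp), if_pos (by ext <;> simp)]
    simp

variable {V : Type*} [AddCommGroup V] [Module F V] [FiniteDimensional F V] {Q : QuadraticForm F V}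

/-- A large subgroup of the centraliser. -/
theorem exists_centralizer {q : ℕ} (hq : Fintype.card F = q) (hqo : Odd q) (h2 : (2 : F) ≠ 0)
    (hnd : (polarBilin Q).Nondegenerate) {M : Module.End F V} (hM : IsStruct Q ε M) {n : ℕ}
    (hd : finrank F V = 2 * (n + 1)) {s : ℤ} (hprof : ∃ N, Prof ⇑Q N (s * (q : ℤ) ^ (n + 1)))
    {T : ℕ} (hs : s = 1 ∨ s = -1) (hT : T = if s = 1 then q ^ (n + 1) - 1 else q ^ (n + 1) + 1) :
    ∃ C : Subgroup (orth Q), (∀ c ∈ C, ∀ v, c.1 (M v) = M (c.1 v)) ∧ ∃ a T' : ℕ,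
      Nat.card C = 2 * q ^ a * T' * ∏ k ∈ Finset.range (n / 2), (q ^ (4 * (k + 1)) - 1) ∧
        (T' = T ∨ (T' = 1 ∧ Even n)) := by
  classical
  obtain ⟨δ, hδ, E, hEs, hE⟩ := coords h2 hnd hM hd
  have hQE : ∀ x, Q (E x) = 2⁻¹ * (psi δ x).re := fun x => by
    rw [psi_apply, ← hE, polar_self_mul, inv_mul_cancel_left₀ h2]
  let Φ : orth (psi (n := n) δ) →* orth Q :=
    { toFun := fun g => ⟨E.symm.trans ((g.1.restrictScalars F).trans E), fun v => by
        obtain ⟨x, rfl⟩ := E.surjective v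
        simp only [LinearEquiv.trans_apply, LinearEquiv.symm_apply_apply, LinearEquiv.restrictScalars_apply]
        rw [hQE, hQE, map_orth g]⟩
      map_one' := Subtype.ext (LinearEquiv.ext fun v => by simp)
      map_mul' := fun g h => Subtype.ext (LinearEquiv.ext fun v => by simp) }
  have hΦ : Function.Injective Φ := fun g h he => Subtype.ext (LinearEquiv.ext fun x => E.injective (by
    have := LinearEquiv.congr_fun (congrArg Subtype.val he) (E x)
    simpa [Φ] using this))
  refine ⟨Φ.range, ?_, ?_⟩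
  · rintro _ ⟨g, rfl⟩ v
    obtain ⟨x, rfl⟩ := E.surjective v
    have h1 := hEs QuadraticAlgebra.omega x
    have h2' := hEs QuadraticAlgebra.omega (g.1 x)
    simp only [QuadraticAlgebra.omega_re, QuadraticAlgebra.omega_im, zero_smul, one_smul, zero_add] at h1 h2'
    rw [← h1]
    show E (g.1 (E.symm (E (_ • x)))) = M (E (g.1 (E.symm (E x))))
    rw [LinearEquiv.symm_apply_apply, LinearEquiv.symm_apply_apply, map_smul, h2']
  rw [← Nat.card_congr (MonoidHom.ofInjective hΦ).toEquiv]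
  have hL : Fintype.card (L ε) = q ^ 2 := by rw [card_L, hq]
  have hdim : finrank (L ε) (Fin (n + 1) → L ε) = n + 1 := by simp
  have hψ := psi_nondeg (ε := ε) h2 (n := n) hδ
  haveI : Finite (L ε) := Finite.of_fintype _
  rcases Nat.even_or_odd' n with ⟨j, rfl | rfl⟩
  · obtain ⟨c, g, hc, hg⟩ := iso_odd (psi δ) hψ (m := j) (by rw [hdim])
    refine ⟨2 * j ^ 2, 1, ?_, Or.inr ⟨rfl, even_two_mul j⟩⟩
    have hcard := OrthUnitaryForms.card_isometryGroup_odd (F := L ε) hL (hqo.pow) j
    rw [card_isometryGroup (c • psi δ) _ g (fun x => by rw [hg]; simp)] at hcard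
    have hsame : orth (c • psi (n := 2 * j) δ) = orth (psi δ) := by
      ext f
      refine ⟨fun h x => mul_left_cancel₀ hc (by simpa using h x), fun h x => by simp [h x]⟩
    rw [hsame] at hcard
    rw [hcard, ← pow_mul, Nat.mul_div_cancel_left _ (by omega : 0 < 2), mul_one]
    congr 1
    exact Finset.prod_congr rfl fun k _ => by rw [← pow_mul]; ring_nf
  · rw [show (2 * j + 1) / 2 = j by omega]
    have hdim' : finrank (L ε) (Fin (2 * j + 1 + 1) → L ε) = 2 * (j + 1) := by rw [hdim]; ring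
    obtain ⟨N₀, hN₀⟩ := hprof
    have hmk : ∀ s' : ℤ, (s' = 1 ∨ s' = -1) → (∃ N, Prof ⇑(psi (n := 2 * j + 1) δ) N (s' * (Fintype.card (L ε) : ℤ) ^ (j + 1))) →
        s = s' := by
      rintro s' hs' ⟨N, hN⟩
      haveI : Finite (Fin (2 * j + 1 + 1) → L ε) := inferInstance
      have h1 := prof_re hN
      have h2' : Prof (fun x => (2 : F)⁻¹ * (psi (n := 2 * j + 1) δ x).re) ((Fintype.card F : ℤ) * N)
          (s' * (Fintype.card (L ε) : ℤ) ^ (j + 1)) := by
        have h2i : (2 : F)⁻¹ ≠ 0 := inv_ne_zero h2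
        constructor
        · intro c hc
          rw [← h1.1 (2 * c) (mul_ne_zero h2 hc)]
          exact_mod_cast Nat.card_congr (Equiv.subtypeEquivRight fun x => by rw [inv_mul_eq_iff_eq_mul₀ h2])
        · rw [← h1.2]
          exact_mod_cast Nat.card_congr (Equiv.subtypeEquivRight fun x => by rw [inv_mul_eq_iff_eq_mul₀ h2, mul_zero])
      have h3 := (h2'.map E.toEquiv (g := ⇑Q) fun x => hQE x).unique hN₀
      rw [hL, Nat.cast_pow, ← pow_mul, show 2 * (j + 1) = 2 * j + 1 + 1 by ring] at h3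
      exact (mul_right_cancel₀ (pow_ne_zero _ (Nat.cast_ne_zero.2 hqo.pos.ne')) h3).symm
    rcases type_cases (psi δ) hψ hdim' with ⟨g, hg⟩ | ⟨-, N, hN, hiso⟩
    · obtain ⟨M', hM'⟩ := prof_qPlus (F := L ε) (j + 1)
      have hs1 := hmk 1 (Or.inl rfl) ⟨M', by
        rw [one_mul]; exact hM'.map g.toEquiv.symm fun v => by rw [← hg]; simp⟩
      refine ⟨2 * ((j + 1) * j), T, ?_, Or.inl rfl⟩
      rw [← card_isometryGroup (psi δ) _ g hg, OrthUnitaryForms.card_isometryGroup_plus hL j, ← pow_mul, hT,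
        if_pos hs1, ← pow_mul, show 2 * (j + 1) = 2 * j + 1 + 1 by ring]
      congr 1
      exact Finset.prod_congr rfl fun k _ => by rw [← pow_mul]; ring_nf
    · obtain ⟨a, b, hab⟩ := OrthPrimeOrderClasses73.exists_aniso (F := L ε)
      obtain ⟨g, hg⟩ := hiso a b hab
      have hs1 := hmk (-1) (Or.inr rfl) ⟨N, by rw [neg_one_mul]; exact hN⟩
      refine ⟨2 * ((j + 1) * j), T, ?_, Or.inl rfl⟩
      rw [← card_isometryGroup (psi δ) _ g hg, show j + 1 - 1 = j from rfl,
        OrthUnitaryForms.card_isometryGroup_minus hL hab j, ← pow_mul, hT, if_neg (by rw [hs1]; norm_num),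
        ← pow_mul, show 2 * (j + 1) = 2 * j + 1 + 1 by ring]
      congr 1
      exact Finset.prod_congr rfl fun k _ => by rw [← pow_mul]; ring_nf

/-- Splitting a product by parity. -/
theorem prod_parity (f : ℕ → ℕ) (n : ℕ) :
    ∏ i ∈ Finset.range n, f i =
      (∏ k ∈ Finset.range (n / 2), f (2 * k + 1)) * ∏ k ∈ Finset.range ((n + 1) / 2), f (2 * k) := by
  induction n with
  | zero => simp
  | succ n ih =>
    rw [Finset.prod_range_succ, ih]
    rcases Nat.even_or_odd' n with ⟨j, rfl | rfl⟩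
    · rw [show (2 * j) / 2 = j by omega, show (2 * j + 1) / 2 = j by omega,
        show (2 * j + 1 + 1) / 2 = j + 1 by omega, Finset.prod_range_succ]
      ring
    · rw [show (2 * j + 1) / 2 = j by omega, show (2 * j + 1 + 1) / 2 = j + 1 by omega,
        show (2 * j + 1 + 1 + 1) / 2 = j + 1 by omega, Finset.prod_range_succ (fun k => f (2 * k + 1))]
      ring

/-- The index of the centraliser is prime to `r` when four divides the order of `q`. -/
theorem not_dvd_index {q r : ℕ} [Fact r.Prime] (hq : Fintype.card F = q) (hqo : Odd q) (h2 : (2 : F) ≠ 0)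
    (hr2 : r ≠ 2) (hq0 : (q : ZMod r) ≠ 0) (hnd : (polarBilin Q).Nondegenerate) {M : Module.End F V}
    (hM : IsStruct Q ε M) {n : ℕ} (hd : finrank F V = 2 * (n + 1)) {s : ℤ}
    (hprof : ∃ N, Prof ⇑Q N (s * (q : ℤ) ^ (n + 1))) {T : ℕ} (hs : s = 1 ∨ s = -1)
    (hT : T = if s = 1 then q ^ (n + 1) - 1 else q ^ (n + 1) + 1) {b : ℕ}
    (hO : Nat.card (orth Q) = 2 * q ^ b * T * ∏ i ∈ Finset.range n, (q ^ (2 * (i + 1)) - 1))
    (h4 : 4 ∣ orderOf (q : ZMod r)) :
    ∃ C : Subgroup (orth Q), (∀ c ∈ C, ∀ v, c.1 (M v) = M (c.1 v)) ∧ ¬ r ∣ C.index := by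
  obtain ⟨C, hC, a, T', hcard, hT'⟩ := exists_centralizer hq hqo h2 hnd hM hd hprof hs hT
  refine ⟨C, hC, fun hdvd => ?_⟩
  have hr := (Fact.out : r.Prime)
  have hrq : ¬ r ∣ q := fun h => hq0 ((ZMod.natCast_eq_zero_iff _ _).2 h)
  have hr2' : ¬ r ∣ 2 := fun h => hr2 ((Nat.prime_dvd_prime_iff_eq hr Nat.prime_two).1 h)
  have hq1 : 1 < q := hq ▸ Fintype.one_lt_card
  have hpos : ∀ m, 0 < q ^ (m + 1) - 1 := fun m => Nat.sub_pos_of_lt (Nat.one_lt_pow (by omega) hq1)
  have hR : ¬ r ∣ ∏ k ∈ Finset.range ((n + 1) / 2), (q ^ (2 * (2 * k + 1)) - 1) := by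
    intro h
    obtain ⟨k, -, hk⟩ := (hr.prime.dvd_finsetProd_iff _).1 h
    rw [← ZMod.natCast_eq_zero_iff, Nat.cast_sub (Nat.one_le_pow _ _ (by omega)), Nat.cast_pow, Nat.cast_one,
      sub_eq_zero] at hk
    have := h4.trans (orderOf_dvd_of_pow_eq_one hk)
    omega
  have hTpos : 0 < T := by rw [hT]; split_ifs <;> [exact hpos n; omega]
  have hTr : T' ≠ T → ¬ r ∣ T := fun hne h => by
    obtain ⟨-, ⟨j, hj⟩⟩ := hT'.resolve_left hne
    have h' : (q : ZMod r) ^ (2 * (n + 1)) = 1 := by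
      rw [← ZMod.natCast_eq_zero_iff, hT] at h
      rw [mul_comm, pow_mul]
      rcases hs with rfl | rfl
      · rw [if_pos rfl, Nat.cast_sub (Nat.one_le_pow _ _ (by omega)), Nat.cast_pow, Nat.cast_one, sub_eq_zero] at h
        rw [h, one_pow]
      · rw [if_neg (by norm_num), Nat.cast_add, Nat.cast_pow, Nat.cast_one, add_eq_zero_iff_eq_neg] at h
        rw [h, neg_one_sq]
    have := h4.trans (orderOf_dvd_of_pow_eq_one h')
    omega
  rw [prod_parity (fun i => q ^ (2 * (i + 1)) - 1) n] at hO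
  set P := ∏ k ∈ Finset.range (n / 2), (q ^ (4 * (k + 1)) - 1) with hP
  set R := ∏ k ∈ Finset.range ((n + 1) / 2), (q ^ (2 * (2 * k + 1)) - 1) with hRdef
  rw [show ∏ k ∈ Finset.range (n / 2), (q ^ (2 * (2 * k + 1 + 1)) - 1) = P from
    Finset.prod_congr rfl fun k _ => by ring_nf] at hO
  have hPpos : 0 < P := Finset.prod_pos fun k _ => by
    rw [show 4 * (k + 1) = 4 * k + 3 + 1 by ring]; exact hpos _
  have hmul := C.card_mul_index
  rw [hcard, hO] at hmul
  obtain ⟨w, hw⟩ := hdvd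
  rcases eq_or_ne T' T with hTT | hne
  · have h : q ^ b * R = q ^ a * C.index := mul_left_cancel₀ (show 2 * T * P ≠ 0 by positivity) (by
      rw [hTT] at hmul; linear_combination -hmul)
    rcases (hr.dvd_mul).1 (show r ∣ q ^ b * R from ⟨q ^ a * w, by rw [h, hw]; ring⟩) with h' | h'
    · exact hrq (hr.dvd_of_dvd_pow h')
    · exact hR h'
  · obtain ⟨hT1, -⟩ := hT'.resolve_left hne
    have h : q ^ b * T * R = q ^ a * C.index := mul_left_cancel₀ (show 2 * P ≠ 0 by positivity) (by
      rw [hT1] at hmul; linear_combination -hmul)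
    rcases (hr.dvd_mul).1 (show r ∣ q ^ b * T * R from ⟨q ^ a * w, by rw [h, hw]; ring⟩) with h' | h'
    · rcases (hr.dvd_mul).1 h' with h'' | h''
      · exact hrq (hr.dvd_of_dvd_pow h'')
      · exact hTr hne h''
    · exact hR h'

end Cfsg.Agent.OrthFieldExtIndex93
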