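import Mathlib
import Cfsg.Agent.Lib.OrthFieldExt93

/-!
Elements of square `± 1` of an orthogonal commutator subgroup normalise a conjugate of a self-adjoint
quadratic extension structure.
-/

set_option autoImplicit false

open QuadraticMap Module LinearMap

namespace Cfsg.Agent.OrthFieldExtInvol93

open Cfsg.Agent.OrthUnitaryQuad Cfsg.Agent.OrthUnitaryRefl Cfsg.Agent.OmegaClasses
open Cfsg.Agent.OrthUnitaryPrelude Cfsg.Agent.OrthUnitaryOmega Cfsg.Agent.OrthFieldExt93

variable {F : Type*} [Field F] {V : Type*} [AddCommGroup V] [Module F V] {Q : QuadraticForm F V}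

/-- An orthogonal family of anisotropic vectors. -/
structure OFam {κ : Type*} (Q : QuadraticForm F V) (u : κ → V) : Prop where
  aniso : ∀ p, Q (u p) ≠ 0
  orth : ∀ p p', p ≠ p' → polar Q (u p) (u p') = 0

theorem OFam.polar_sum {κ : Type*} [Fintype κ] [DecidableEq κ] {u : κ → V} (hu : OFam Q u) (c : κ → F) (p : κ) :
    polar Q (u p) (∑ l, c l • u l) = c p * (2 * Q (u p)) := by
  have h : polar Q (u p) (∑ l, c l • u l) = ∑ l, c l * polar Q (u p) (u l) := by
    rw [← polarBilin_apply_apply, map_sum]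
    simp
  rw [h, Finset.sum_eq_single p (fun l _ hl => by rw [hu.orth p l (Ne.symm hl), mul_zero]) (by simp),
    polar_self_mul]

theorem OFam.linearIndependent (h2 : (2 : F) ≠ 0) {κ : Type*} [Fintype κ] {u : κ → V} (hu : OFam Q u) :
    LinearIndependent F u := by
  classical
  rw [Fintype.linearIndependent_iff]
  intro g hg p
  have := hu.polar_sum g p
  rw [hg, polar_zero_right] at this
  exact (mul_eq_zero.1 this.symm).resolve_right (mul_ne_zero h2 (hu.aniso p))

variable [FiniteDimensional F V]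

theorem exists_aniso_mem (h2 : (2 : F) ≠ 0) {W : Submodule F V} (hW : QuadClassify.Nondeg Q W)
    (h0 : W ≠ ⊥) : ∃ w ∈ W, Q w ≠ 0 := by
  by_contra h
  push Not at h
  obtain ⟨w, hw, hw0⟩ := Submodule.exists_mem_ne_zero_of_ne_bot h0
  refine hw0 (hW w hw fun v hv => ?_)
  rw [QuadraticMap.polar, h _ (W.add_mem hw hv), h _ hw, h _ hv]
  ring

/-- The orthogonal of an orthogonal anisotropic family inside a non-degenerate subspace. -/
theorem peel (h2 : (2 : F) ≠ 0) {W : Submodule F V} (hW : QuadClassify.Nondeg Q W) {k : ℕ}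
    {u : Fin k → V} (hu : OFam Q u) (hmem : ∀ j, u j ∈ W) :
    ∃ W' : Submodule F V, W' ≤ W ∧ QuadClassify.Nondeg Q W' ∧
      (∀ w ∈ W, w ∈ W' ↔ ∀ j, polar Q (u j) w = 0) ∧ finrank F W = k + finrank F W' := by
  classical
  let Φ : V →ₗ[F] (Fin k → F) := LinearMap.pi fun j => polarBilin Q (u j)
  have hΦ : ∀ w j, Φ w j = polar Q (u j) w := fun w j => rfl
  let c : V → Fin k → F := fun w j => polar Q (u j) w / (2 * Q (u j))
  have hproj : ∀ w ∈ W, w - ∑ j, c w j • u j ∈ W ⊓ LinearMap.ker Φ := fun w hw => by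
    refine ⟨W.sub_mem hw (W.sum_mem fun j _ => W.smul_mem _ (hmem j)), funext fun j => ?_⟩
    rw [hΦ, polar_sub_right, hu.polar_sum, div_mul_cancel₀ _ (mul_ne_zero h2 (hu.aniso j)), sub_self]
    rfl
  refine ⟨W ⊓ LinearMap.ker Φ, inf_le_left, fun z hz hall => ?_, fun w hw => ?_, ?_⟩
  · refine hW z hz.1 fun v hv => ?_
    have h := hall _ (hproj v hv)
    rw [polar_sub_right] at h
    have hs : polar Q z (∑ j, c v j • u j) = 0 := by
      rw [← polarBilin_apply_apply, map_sum]
      refine Finset.sum_eq_zero fun j _ => ?_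
      have : polar Q (u j) z = 0 := congrFun hz.2 j
      simp [polar_comm _ z, this]
    rwa [hs, sub_zero] at h
  · exact ⟨fun h j => congrFun h.2 j, fun h => ⟨hw, funext h⟩⟩
  · have h1 := LinearMap.finrank_range_add_finrank_ker (Φ.comp W.subtype)
    have hr : LinearMap.range (Φ.comp W.subtype) = ⊤ := LinearMap.range_eq_top.2 fun f => by
      refine ⟨⟨∑ j, (f j / (2 * Q (u j))) • u j, W.sum_mem fun j _ => W.smul_mem _ (hmem j)⟩,
        funext fun j => ?_⟩
      show polar Q (u j) (∑ j, (f j / (2 * Q (u j))) • u j) = f j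
      rw [hu.polar_sum, div_mul_cancel₀ _ (mul_ne_zero h2 (hu.aniso j))]
    rw [hr, finrank_top, Module.finrank_fin_fun] at h1
    have h3 : finrank F (LinearMap.ker (Φ.comp W.subtype)) = finrank F ↥(W ⊓ LinearMap.ker Φ) := by
      have : Submodule.comap W.subtype (W ⊓ LinearMap.ker Φ) = Submodule.comap W.subtype (LinearMap.ker Φ) := by
        simp [Submodule.comap_inf]
      rw [LinearMap.ker_comp, ← this]
      exact (Submodule.comapSubtypeEquivOfLe inf_le_left).finrank_eq
    omega

/-- Decomposition into orthogonal tuples. -/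
theorem frame_ind (h2 : (2 : F) ≠ 0) (x : orth Q) {z : F} (hz : z * z = 1) (hxx : ∀ v, x.1 (x.1 v) = z • v)
    {k : ℕ} (R : (Fin k → V) → Prop) (hk : 0 < k)
    (hstep : ∀ W : Submodule F V, QuadClassify.Nondeg Q W → (∀ w ∈ W, x.1 w ∈ W) → W ≠ ⊥ →
      ∃ u : Fin k → V, (∀ j, u j ∈ W) ∧ OFam Q u ∧ R u)
    (hspan : ∀ u, R u → ∀ j, ∃ c : Fin k → F, x.1 (u j) = ∑ l, c l • u l) :
    ∀ N : ℕ, ∀ W : Submodule F V, finrank F W = N → QuadClassify.Nondeg Q W → (∀ w ∈ W, x.1 w ∈ W) →
      ∃ m, N = k * m ∧ ∃ v : Fin m × Fin k → V, (∀ p, v p ∈ W) ∧ OFam Q v ∧ ∀ i, R fun j => v (i, j) := by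
  intro N
  induction N using Nat.strong_induction_on with
  | _ N ih =>
    intro W hN hW hst
    rcases eq_or_ne W ⊥ with rfl | h0
    · refine ⟨0, by rw [← hN, finrank_bot, mul_zero], fun p => p.1.elim0, fun p => p.1.elim0,
        ⟨fun p => p.1.elim0, fun p => p.1.elim0⟩, fun i => i.elim0⟩
    obtain ⟨u, humem, hu, hRu⟩ := hstep W hW hst h0
    obtain ⟨W', hle, hW', hW'mem, hfr⟩ := peel h2 hW hu humem
    have hst' : ∀ w ∈ W', x.1 w ∈ W' := fun w hw => by
      refine (hW'mem _ (hst w (hle hw))).2 fun j => ?_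
      obtain ⟨c, hc⟩ := hspan u hRu j
      have h1 : u j = z • x.1 (x.1 (u j)) := by rw [hxx, smul_smul, hz, one_smul]
      rw [h1, polar_smul_left, polar_orth, hc, polar_comm, ← polarBilin_apply_apply, map_sum,
        Finset.sum_eq_zero, smul_zero]
      intro l _
      simp [polar_comm _ w, (hW'mem w (hle hw)).1 hw l]
    obtain ⟨m, hm, v, hvm, hv, hRv⟩ := ih (finrank F W') (by omega) W' rfl hW' hst'
    refine ⟨m + 1, by rw [mul_add, ← hm, mul_one]; omega,
      fun p => Fin.cases (u p.2) (fun i => v (i, p.2)) p.1, ?_, ⟨?_, ?_⟩, ?_⟩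
    · rintro ⟨i, j⟩
      cases i using Fin.cases
      · exact humem j
      · exact hle (hvm _)
    · rintro ⟨i, j⟩
      cases i using Fin.cases
      · exact hu.aniso j
      · exact hv.aniso _
    · rintro ⟨i, j⟩ ⟨i', j'⟩ hne
      cases i using Fin.cases with
      | zero =>
        cases i' using Fin.cases with
        | zero => exact hu.orth j j' (fun h => hne (by rw [h]))
        | succ i' => exact (hW'mem _ (hle (hvm _))).1 (hvm _) j
      | succ i =>
        cases i' using Fin.cases with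
        | zero => exact (polar_comm _ _ _).trans ((hW'mem _ (hle (hvm _))).1 (hvm _) j')
        | succ i' => exact hv.orth _ _ (fun h => hne (by simp [Prod.ext_iff] at h ⊢; exact h))
    · intro i
      cases i using Fin.cases
      · simpa using hRu
      · simpa using hRv _

variable [Fintype F] {ε : F}

/-- A structure adapted to a decomposition into planes. -/
theorem exists_struct (h2 : (2 : F) ≠ 0) {d : ℕ} (b : Basis (Fin d × Fin 2) F V) (hb : OFam Q b) :
    ∃ M : Module.End F V, IsStruct Q ε M ∧ ∃ s t : Fin d → F, ∀ i,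
      M (b (i, 0)) = s i • b (i, 0) + t i • b (i, 1) ∧
        M (b (i, 1)) = (t i * (Q (b (i, 1)) / Q (b (i, 0)))) • b (i, 0) - s i • b (i, 1) := by
  classical
  let c : Fin d → F := fun i => Q (b (i, 1)) / Q (b (i, 0))
  have hc : ∀ i, c i ≠ 0 := fun i => div_ne_zero (hb.aniso _) (hb.aniso _)
  choose s t hst using fun i => QuadClassify.exists_two_squares h2 (one_ne_zero (α := F)) (hc i) ε
  let M : Module.End F V := b.constr F fun p =>
    if p.2 = 0 then s p.1 • b (p.1, 0) + t p.1 • b (p.1, 1)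
    else (t p.1 * c p.1) • b (p.1, 0) - s p.1 • b (p.1, 1)
  have h0 : ∀ i, M (b (i, 0)) = s i • b (i, 0) + t i • b (i, 1) := fun i => by
    rw [Basis.constr_basis]; simp
  have h1 : ∀ i, M (b (i, 1)) = (t i * c i) • b (i, 0) - s i • b (i, 1) := fun i => by
    rw [Basis.constr_basis]; simp
  refine ⟨M, ⟨fun v => ?_, fun u v => ?_⟩, s, t, fun i => ⟨h0 i, h1 i⟩⟩
  · have : M ∘ₗ M = ε • LinearMap.id := b.ext fun p => by
      obtain ⟨i, j⟩ := p
      simp only [c] at hst
      fin_cases j <;> simp [h0, h1, c] <;> match_scalars <;>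
        first | ring1 | linear_combination hst i | linear_combination -(hst i)
    exact LinearMap.congr_fun this v
  · have hB : ∀ p p', polar Q (b p) (b p') = if p = p' then 2 * Q (b p) else 0 := fun p p' => by
      split_ifs with h
      · rw [← h, polar_self_mul]
      · exact hb.orth p p' h
    have : (polarBilin Q).compl₁₂ M LinearMap.id = (polarBilin Q).compl₁₂ LinearMap.id M := by
      refine LinearMap.BilinForm.ext_basis b fun p p' => ?_
      obtain ⟨i, j⟩ := p
      obtain ⟨i', j'⟩ := p'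
      have hQ1 : Q (b (i, 1)) = c i * Q (b (i, 0)) := (div_mul_cancel₀ _ (hb.aniso _)).symm
      simp only [LinearMap.compl₁₂_apply, LinearMap.id_apply, polarBilin_apply_apply]
      by_cases hii : i = i'
      · subst hii
        fin_cases j <;> fin_cases j' <;>
          simp [h0, h1, polar_add_left, polar_add_right, polar_sub_left, polar_sub_right, hB, hQ1] <;> ring
      · fin_cases j <;> fin_cases j' <;>
          simp [h0, h1, polar_add_left, polar_add_right, polar_sub_left, polar_sub_right, hB, hii]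
    exact LinearMap.congr_fun (LinearMap.congr_fun this u) v

theorem commutator_det (x : orth Q) (hx : x ∈ commutator (orth Q)) :
    LinearMap.det (x.1 : V →ₗ[F] V) = 1 := by
  have h : detHom Q x = 1 := Abelianization.commutator_subset_ker (detHom Q) hx
  have h' := congrArg (fun u : Fˣ => (u : F)) h
  simpa [detHom] using h'

/-- Eigenvalue pairs. -/
theorem exists_pairing {d : ℕ} (h2 : (2 : F) ≠ 0) (s : Fin (2 * d) → F) (hs : ∀ i, s i * s i = 1)
    (hp : ∏ i, s i = 1) : ∃ e : Fin d × Fin 2 ≃ Fin (2 * d), ∀ i, s (e (i, 1)) = s (e (i, 0)) := by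
  classical
  have hval : ∀ i, s i = -1 ∨ s i = 1 := fun i => (mul_self_eq_one_iff.1 (hs i)).symm
  have hne : (-1 : F) ≠ 1 := fun h => h2 (by linear_combination -h)
  set Nset := Finset.univ.filter fun i => s i = -1
  have hprod : ∏ i, s i = (-1 : F) ^ Nset.card := by
    rw [← Finset.prod_filter_mul_prod_filter_not Finset.univ (fun i => s i = -1),
      Finset.prod_congr rfl (g := fun _ => (-1 : F)) (fun i hi => (Finset.mem_filter.1 hi).2),
      Finset.prod_const, Finset.prod_eq_one fun i hi => (hval i).resolve_left (Finset.mem_filter.1 hi).2,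
      mul_one]
  obtain ⟨w, hw⟩ : Even Nset.card := by
    by_contra h
    rw [hp, (Nat.not_even_iff_odd.1 h).neg_one_pow] at hprod
    exact hne hprod.symm
  have hle : Nset.card ≤ 2 * d := by simpa using Finset.card_le_univ Nset
  let eN : Fin w × Fin 2 ≃ {i // s i = -1} := Fintype.equivOfCardEq (by
    rw [Fintype.card_prod, Fintype.card_fin, Fintype.card_fin, Fintype.card_subtype]
    show w * 2 = Nset.card
    omega)
  let eP : Fin (d - w) × Fin 2 ≃ {i // ¬ s i = -1} := Fintype.equivOfCardEq (by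
    rw [Fintype.card_prod, Fintype.card_fin, Fintype.card_fin, Fintype.card_subtype_compl,
      Fintype.card_subtype, Fintype.card_fin]
    show (d - w) * 2 = 2 * d - Nset.card
    omega)
  let e0 : Fin d ≃ Fin w ⊕ Fin (d - w) := (finCongr (by omega)).trans finSumFinEquiv.symm
  let e : Fin d × Fin 2 ≃ Fin (2 * d) := (Equiv.prodCongr e0 (Equiv.refl _)).trans
    ((Equiv.sumProdDistrib _ _ _).trans ((Equiv.sumCongr eN eP).trans (Equiv.sumCompl fun i => s i = -1)))
  refine ⟨e, fun i => ?_⟩
  rcases h : e0 i with a | a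
  · have : ∀ j, s (e (i, j)) = -1 := fun j => by
      simp only [e, Equiv.trans_apply, Equiv.prodCongr_apply, Prod.map, h, Equiv.refl_apply,
        Equiv.sumProdDistrib_apply_left, Equiv.sumCongr_apply, Sum.map_inl, Equiv.sumCompl_apply_inl]
      exact (eN (a, j)).2
    rw [this, this]
  · have : ∀ j, s (e (i, j)) = 1 := fun j => by
      simp only [e, Equiv.trans_apply, Equiv.prodCongr_apply, Prod.map, h, Equiv.refl_apply,
        Equiv.sumProdDistrib_apply_right, Equiv.sumCongr_apply, Sum.map_inr, Equiv.sumCompl_apply_inr]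
      exact (hval _).resolve_left (eP (a, j)).2
    rw [this, this]

/-- Elements of square a scalar fix a point. -/
theorem exists_fix [Fact (∀ t : F, t ^ 2 ≠ ε + 0 * t)] (h2 : (2 : F) ≠ 0)
    (hnd : (polarBilin Q).Nondegenerate) {n : ℕ} (hd : finrank F V = 2 * (n + 1)) (hn : 0 < n)
    {M₀ : Module.End F V} (hM₀ : IsStruct Q ε M₀) (x : orth Q) (hx : x ∈ commutator (orth Q))
    {z : F} (hxx : ∀ v, x.1 (x.1 v) = z • v) :
    ∃ k ∈ commutator (orth Q), Norm M₀ (k⁻¹ * x * k) := by
  classical
  have htop := QuadClassify.nondeg_top hnd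
  have htop0 : (⊤ : Submodule F V) ≠ ⊥ := fun h => by
    have := congrArg (fun S : Submodule F V => finrank F S) h
    simp only [finrank_top, finrank_bot, hd] at this
    omega
  have hz : z * z = 1 := by
    obtain ⟨a, -, ha⟩ := exists_aniso_mem h2 htop htop0
    have := congrArg Q (hxx a)
    rw [map_orth x, map_orth x, QuadraticMap.map_smul, smul_eq_mul] at this
    exact mul_right_cancel₀ ha (by rw [one_mul]; exact this.symm)
  -- planes with the element acting uniformly
  obtain ⟨b, hb, σ, hσ, hrel⟩ : ∃ b : Basis (Fin (n + 1) × Fin 2) F V, OFam Q b ∧ ∃ σ : Fin (n + 1) → F,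
      (∀ i, σ i * σ i = 1) ∧
      ((∀ i j, x.1 (b (i, j)) = σ i • b (i, j)) ∨
        ∀ i, x.1 (b (i, 0)) = σ i • b (i, 1) ∧ x.1 (b (i, 1)) = -σ i • b (i, 0) ∧
          Q (b (i, 1)) = Q (b (i, 0))) := by
    rcases mul_self_eq_one_iff.1 hz with h1 | h1
    · subst h1
      have hstep : ∀ W : Submodule F V, QuadClassify.Nondeg Q W → (∀ w ∈ W, x.1 w ∈ W) → W ≠ ⊥ →
          ∃ u : Fin 1 → V, (∀ j, u j ∈ W) ∧ OFam Q u ∧ ∃ s : F, s * s = 1 ∧ x.1 (u 0) = s • u 0 := by
        intro W hW hst h0
        obtain ⟨w, hw, hw0⟩ := exists_aniso_mem h2 hW h0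
        have hsum : Q (w + x.1 w) + Q (w - x.1 w) = 4 * Q w := by
          rw [sub_eq_add_neg, QuadraticMap.map_add (⇑Q), QuadraticMap.map_add (⇑Q), polar_neg_right,
            QuadraticMap.map_neg, map_orth x]
          ring
        have h4 : (4 : F) ≠ 0 := by rw [show (4 : F) = 2 * 2 by norm_num]; exact mul_ne_zero h2 h2
        have mk : ∀ (u : V) (s : F), u ∈ W → Q u ≠ 0 → s * s = 1 → x.1 u = s • u →
            ∃ u : Fin 1 → V, (∀ j, u j ∈ W) ∧ OFam Q u ∧ ∃ s : F, s * s = 1 ∧ x.1 (u 0) = s • u 0 :=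
          fun u s hu hq hs hxu => ⟨fun _ => u, fun _ => hu,
            ⟨fun _ => hq, fun p p' h => absurd (Subsingleton.elim p p') h⟩, s, hs, hxu⟩
        by_cases hp : Q (w + x.1 w) = 0
        · refine mk _ (-1) (W.sub_mem hw (hst w hw)) (fun hm => mul_ne_zero h4 hw0 ?_) (by ring) ?_
          · rw [← hsum, hp, hm, add_zero]
          · rw [map_sub, hxx]; module
        · exact mk _ 1 (W.add_mem hw (hst w hw)) hp (by ring) (by rw [map_add, hxx]; module)
      obtain ⟨m, hm, v, -, hv, hR⟩ := frame_ind h2 x hz hxx (fun u => ∃ s : F, s * s = 1 ∧ x.1 (u 0) = s • u 0)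
        Nat.one_pos hstep (fun u hu j => by
          obtain ⟨s, -, hs⟩ := hu
          refine ⟨fun _ => s, ?_⟩
          rw [Subsingleton.elim j 0, hs]; simp)
        _ ⊤ rfl htop fun w _ => trivial
      obtain rfl : m = 2 * (n + 1) := by rw [finrank_top, hd, one_mul] at hm; exact hm.symm
      choose s hs hxs using hR
      let v' : Fin (2 * (n + 1)) → V := fun i => v (i, 0)
      have hv' : OFam Q v' := ⟨fun i => hv.aniso _, fun i i' h => hv.orth _ _ fun e => h (Prod.ext_iff.1 e).1⟩
      let bv := basisOfLinearIndependentOfCardEqFinrank (hv'.linearIndependent h2) (by rw [Fintype.card_fin, hd])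
      have hdet : ∏ i, s i = 1 := by
        rw [← commutator_det x hx, ← LinearMap.det_toMatrix bv]
        have : LinearMap.toMatrix bv bv (x.1 : V →ₗ[F] V) = Matrix.diagonal s := by
          ext i j
          have hbj : bv j = v (j, 0) := by simp [bv, v']
          have hxj : x.1 (bv j) = s j • bv j := by rw [hbj]; exact hxs j
          rw [LinearMap.toMatrix_apply, LinearEquiv.coe_coe, hxj,
            map_smul, Basis.repr_self, Finsupp.smul_single, smul_eq_mul, mul_one, Matrix.diagonal_apply,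
            Finsupp.single_apply]
          by_cases h : i = j
          · subst h; simp
          · simp [h, Ne.symm h]
        rw [this, Matrix.det_diagonal]
      obtain ⟨e, he⟩ := exists_pairing h2 s hs hdet
      have hbe : ∀ p, bv.reindex e.symm p = v (e p, 0) := fun p => by simp [bv, v']
      refine ⟨bv.reindex e.symm, ⟨fun p => by rw [hbe]; exact hv.aniso _, fun p p' h => by
        rw [hbe, hbe]; exact hv.orth _ _ fun h' => h (e.injective (Prod.ext_iff.1 h').1)⟩,
        fun i => s (e (i, 0)), fun i => hs _, Or.inl fun i j => ?_⟩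
      rw [hbe, hxs]
      fin_cases j
      · rfl
      · show s (e (i, 1)) • _ = _
        rw [he]
    · subst h1
      have hskew : ∀ w, polar Q w (x.1 w) = 0 := fun w => by
        have := polar_orth x w (x.1 w)
        rw [hxx, neg_one_smul, polar_neg_right, polar_comm _ (x.1 w) w] at this
        exact mul_left_cancel₀ h2 (by linear_combination -this)
      obtain ⟨m, hm, v, -, hv, hR⟩ := frame_ind h2 x hz hxx (fun u : Fin 2 → V => u 1 = x.1 (u 0)) two_pos
        (fun W hW hst h0 => by
          obtain ⟨w, hw, hw0⟩ := exists_aniso_mem h2 hW h0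
          refine ⟨![w, x.1 w], fun j => by fin_cases j <;> simp [hw, hst w hw],
            ⟨fun j => by fin_cases j <;> simp [hw0, map_orth x], fun j j' h => ?_⟩, by simp⟩
          fin_cases j <;> fin_cases j' <;> simp at h ⊢
          · exact hskew w
          · rw [polar_comm]; exact hskew w)
        (fun u hu j => by
          fin_cases j
          · exact ⟨![0, 1], by simp [Fin.sum_univ_two, hu]⟩
          · exact ⟨![-1, 0], by simp [Fin.sum_univ_two, hu, hxx]⟩)
        _ ⊤ rfl htop fun w _ => trivial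
      obtain rfl : m = n + 1 := by rw [finrank_top, hd] at hm; omega
      let bv := basisOfLinearIndependentOfCardEqFinrank (hv.linearIndependent h2) (by
        rw [Fintype.card_prod, Fintype.card_fin, Fintype.card_fin, hd]; ring)
      have hbv : ∀ p, bv p = v p := fun p => congrFun (coe_basisOfLinearIndependentOfCardEqFinrank _ _) p
      refine ⟨bv, ⟨fun p => by rw [hbv]; exact hv.aniso p, fun p p' h => by rw [hbv, hbv]; exact hv.orth p p' h⟩,
        fun _ => 1, fun _ => one_mul 1, Or.inr fun i => ?_⟩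
      rw [hbv, hbv]
      have h : v (i, 1) = x.1 (v (i, 0)) := hR i
      exact ⟨by rw [one_smul]; exact h.symm, by rw [h, hxx], by rw [h, map_orth x]⟩
  obtain ⟨M₁, hM₁, s, t, hM⟩ := exists_struct (ε := ε) h2 b hb
  let i₀ : Fin (n + 1) := 0
  have hg : ∀ p, (refl Q (b (i₀, 1)) (hb.aniso _)).1 (b p) = if p = (i₀, 1) then -b p else b p := fun p => by
    rw [refl_apply]
    split_ifs with h
    · subst h
      rw [polar_self_mul, mul_left_comm, inv_mul_cancel₀ (hb.aniso _), mul_one]
      module
    · rw [hb.orth _ _ (Ne.symm h), mul_zero, zero_smul, sub_zero]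
  set g := refl Q (b (i₀, 1)) (hb.aniso _) with hgdef
  have hginv : g⁻¹ = g := inv_eq_of_mul_eq_one_right (refl_sq _ _)
  rcases hrel with hrel | hrel
  · have key : ∀ y : orth Q, (∀ i j, y.1 (b (i, j)) = σ i • b (i, j)) → Norm M₁ y := fun y hy => Or.inl fun v => by
      have : (y.1 : V →ₗ[F] V) ∘ₗ M₁ = M₁ ∘ₗ (y.1 : V →ₗ[F] V) := b.ext fun p => by
        obtain ⟨i, j⟩ := p
        fin_cases j <;> simp [(hM i).1, (hM i).2, hy, smul_smul] <;> module
      exact LinearMap.congr_fun this v
    refine omega_fix h2 hnd hM₀ hM₁ hd hn (key x hrel) (hb.aniso (i₀, 1)) (key _ fun i j => ?_)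
    rw [← hgdef, hginv, orth_mul_apply, orth_mul_apply, hg]
    split_ifs with h
    · rw [map_neg, hrel, map_neg, map_smul, hg, if_pos h, smul_neg, neg_neg]
    · rw [hrel, map_smul, hg, if_neg h]
  · have key : ∀ (y : orth Q) (τ : Fin (n + 1) → F), (∀ i, y.1 (b (i, 0)) = τ i • b (i, 1) ∧
        y.1 (b (i, 1)) = -τ i • b (i, 0)) → Norm M₁ y := fun y τ hy => Or.inr fun v => by
      have : (y.1 : V →ₗ[F] V) ∘ₗ M₁ = -(M₁ ∘ₗ (y.1 : V →ₗ[F] V)) := b.ext fun p => by
        obtain ⟨i, j⟩ := p
        have hc : Q (b (i, 1)) / Q (b (i, 0)) = 1 := by rw [(hrel i).2.2, div_self (hb.aniso _)]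
        fin_cases j <;> simp [(hM i).1, (hM i).2, (hy i).1, (hy i).2, hc, smul_smul] <;> module
      exact LinearMap.congr_fun this v
    refine omega_fix h2 hnd hM₀ hM₁ hd hn (key x σ fun i => ⟨(hrel i).1, (hrel i).2.1⟩) (hb.aniso (i₀, 1))
      (key _ (fun i => if i = i₀ then -σ i else σ i) fun i => ?_)
    rw [← hgdef, hginv]
    simp only [orth_mul_apply, hg, Prod.mk.injEq, zero_ne_one, and_false, if_false, one_ne_zero,
      and_true]
    by_cases h : i = i₀
    · simp [h, map_neg, (hrel i₀).1, (hrel i₀).2.1, map_smul, hg]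
    · simp [h, (hrel i).1, (hrel i).2.1, map_smul, hg]

end Cfsg.Agent.OrthFieldExtInvol93
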