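import Mathlib
import Cfsg.Prelude.Def_GeometricClasses
import Cfsg.Agent.Lib.OrthFieldExtInvol93
import Cfsg.Agent.Lib.OrthFieldExtElement93
import Cfsg.Agent.Lib.OrthFieldExtIndex93

/-!
Elements of prime order of orthogonal groups fixing a self-adjoint quadratic extension structure.
-/

set_option autoImplicit false

open QuadraticMap Module Matrix

namespace Cfsg.Agent.OrthFieldExtMain93

open Cfsg.Agent.OrthUnitaryQuad Cfsg.Agent.OrthUnitaryRefl Cfsg.Agent.OmegaClasses Cfsg.Agent.OrthUnitaryPrelude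
open Cfsg.Agent.OrthFieldExt93 Cfsg.Agent.OrthTypeCount73

universe u

section Abstract

variable {F : Type*} [Field F] [Fintype F] {V : Type*} [AddCommGroup V] [Module F V] [FiniteDimensional F V]
  {Q : QuadraticForm F V}

theorem sq_mem (h2 : (2 : F) ≠ 0) (hnd : (polarBilin Q).Nondegenerate) (g : orth Q) :
    g * g ∈ commutator (orth Q) := by
  have hq2 : Fintype.card F ≠ 2 := fun h => by
    have := QuadClassify.card_odd (F := F) h2
    omega
  obtain ⟨vs, hvs, rfl⟩ := exists_rprod (reflGroup_top hnd (Or.inl hq2)) g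
  rw [← rprod_append]
  exact (rprod_mem_iff hnd (Or.inl hq2) (hvs.append hvs)).2
    ⟨by simp, by rw [List.map_append, List.prod_append]; exact ⟨_, rfl⟩⟩

theorem mem_of_pow_eq_one (h2 : (2 : F) ≠ 0) (hnd : (polarBilin Q).Nondegenerate) {g : orth Q} {r : ℕ}
    (hr : Odd r) (hg : g ^ r = 1) : g ∈ commutator (orth Q) := by
  obtain ⟨l, rfl⟩ := hr
  have h : g = (g * g) ^ (l + 1) := by
    rw [← pow_two, ← pow_mul, show 2 * (l + 1) = (2 * l + 1) + 1 by ring, pow_succ, hg, one_mul]
  rw [h]
  exact Subgroup.pow_mem _ (sq_mem h2 hnd g) _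

/-- A unipotent element fixing no structure. -/
theorem exists_unipotent {p : ℕ} [CharP F p] (h2 : (2 : F) ≠ 0) (hnd : (polarBilin Q).Nondegenerate)
    (hd : 4 ≤ finrank F V) :
    ∃ x : orth Q, x ^ p = 1 ∧ (∀ c : F, ∃ v, x.1 v ≠ c • v) ∧
      ∀ ε : F, ¬ IsSquare ε → ∀ M : Module.End F V, IsStruct Q ε M → ¬ ∀ v, x.1 (M v) = M (x.1 v) := by
  classical
  have htop := QuadClassify.nondeg_top hnd
  obtain ⟨u, -, hu0, hQu⟩ := QuadClassify.exists_singular Q ⊤ (by rw [finrank_top]; omega)
  obtain ⟨f, -, hQf, huf⟩ := QuadClassify.exists_partner Q htop trivial hu0 hQu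
  have hfu : polar Q f u = 1 := by rw [polar_comm, huf]
  have hQa : Q (u + f) = 1 := by rw [QuadraticMap.map_add (⇑Q), hQu, hQf, huf]; ring
  have hQb : Q (u - f) = -1 := by
    rw [sub_eq_add_neg, QuadraticMap.map_add (⇑Q), QuadraticMap.map_neg, hQu, hQf, polar_neg_right, huf]; ring
  have hab : polar Q (u + f) (u - f) = 0 := by
    rw [polar_add_left, polar_sub_right, polar_sub_right, polar_self_mul, polar_self_mul, hQu, hQf, huf, hfu]
    ring
  have hfam : OrthFieldExtInvol93.OFam Q ![u + f, u - f] := by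
    refine ⟨fun j => by fin_cases j <;> simp [hQa, hQb], fun j j' h => ?_⟩
    fin_cases j <;> fin_cases j' <;>
      first | exact absurd rfl h | exact hab | exact (polar_comm _ _ _).trans hab
  obtain ⟨W, -, hW, hWmem, hfr⟩ := OrthFieldExtInvol93.peel h2 htop hfam (fun _ => trivial)
  rw [finrank_top] at hfr
  obtain ⟨w, hw, hQw⟩ := OrthFieldExtInvol93.exists_aniso_mem h2 hW (fun h => by
    rw [h, finrank_bot] at hfr; omega)
  have huw : polar Q u w = 0 := by
    have h := (hWmem w trivial).1 hw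
    have h0 : polar Q u w + polar Q f w = 0 := by simpa [polar_add_left] using h 0
    have h1 : polar Q u w - polar Q f w = 0 := by simpa [polar_sub_left] using h 1
    exact mul_left_cancel₀ h2 (by linear_combination h0 + h1)
  set x := siegel Q u w hQu huw with hx
  have hpow : ∀ n : ℕ, ∀ v, (x ^ n).1 v =
      v + polar Q u v • ((n : F) • w) - (polar Q ((n : F) • w) v + Q ((n : F) • w) * polar Q u v) • u := by
    intro n
    induction n with
    | zero => intro v; simp
    | succ n ih =>
      intro v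
      have hn : polar Q u ((n : F) • w) = 0 := by rw [polar_smul_right, huw, smul_zero]
      have heq : x ^ n = siegel Q u ((n : F) • w) hQu hn :=
        orth_ext fun v => by rw [ih, siegel_apply]
      rw [pow_succ, heq, hx, siegel_mul, siegel_apply, Nat.cast_succ]
      simp only [add_smul, one_smul]
  refine ⟨x, orth_ext fun v => ?_, fun c => ?_, fun ε hε M hM hcomm => ?_⟩
  · rw [hpow, CharP.cast_eq_zero, zero_smul]
    simp
  · have hxu : x.1 u = u := by
      rw [hx, siegel_apply, polar_self_mul, hQu, mul_zero, polar_comm _ w u, huw]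
      simp
    by_contra h
    push Not at h
    have hc1 : c = 1 := by
      have h' : (c - 1) • u = 0 := by rw [sub_smul, one_smul, ← h u, hxu, sub_self]
      exact sub_eq_zero.1 ((smul_eq_zero.1 h').resolve_right hu0)
    have hf := h f
    rw [hc1, one_smul, hx, siegel_apply, huf, one_smul, mul_one] at hf
    have := congrArg (fun v => polar Q w v) hf
    simp only [polar_sub_right, polar_add_right, polar_smul_right, polar_self_mul, polar_comm _ w u, huw,
      smul_eq_mul, mul_zero, sub_zero] at this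
    exact hQw (mul_left_cancel₀ h2 (by linear_combination this))
  · have hform : ∀ v, x.1 v - v = polar Q u v • w - (polar Q w v + Q w * polar Q u v) • u := fun v => by
      rw [hx, siegel_apply]; abel
    have hM' : ∀ v, M (x.1 v - v) = x.1 (M v) - M v := fun v => by rw [map_sub, hcomm]
    have hMu : ∃ a b : F, M u = a • u + b • w ∧ b * (2 * Q w) = -polar Q u (M w) := by
      have h := hM' w
      rw [hform, hform, huw, zero_smul, mul_zero, add_zero, polar_self_mul, zero_sub, map_neg, map_smul] at h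
      have h2w : 2 * Q w ≠ 0 := mul_ne_zero h2 hQw
      refine ⟨(2 * Q w)⁻¹ * (polar Q w (M w) + Q w * polar Q u (M w)), -((2 * Q w)⁻¹ * polar Q u (M w)), ?_, ?_⟩
      · rw [← one_smul F (M u), ← inv_mul_cancel₀ h2w, mul_smul, ← neg_neg ((2 * Q w) • M u), h]
        module
      · field_simp
    obtain ⟨a, b, hab', hb⟩ := hMu
    have hb0 : b = 0 := by
      have h := hM' f
      rw [hform, hform, huf, one_smul, mul_one, map_sub, map_smul] at h
      have hMw : M w = polar Q u (M f) • w - (polar Q w (M f) + Q w * polar Q u (M f)) • u +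
          (polar Q w f + Q w) • M u := by rw [← h]; abel
      have h0 : polar Q u (M w) = 0 := by
        rw [hMw, hab']
        simp only [polar_sub_right, polar_add_right, polar_smul_right, polar_self_mul, huw, hQu, smul_eq_mul,
          mul_zero, add_zero, sub_zero]
      rw [h0, neg_zero] at hb
      exact (mul_eq_zero.1 hb).resolve_right (mul_ne_zero h2 hQw)
    rw [hb0, zero_smul, add_zero] at hab'
    have h := hM.sq u
    rw [hab', map_smul, hab', smul_smul] at h
    have h' : (a * a - ε) • u = 0 := by rw [sub_smul, h, sub_self]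
    exact hε ⟨a, (sub_eq_zero.1 ((smul_eq_zero.1 h').resolve_right hu0)).symm⟩

end Abstract

variable {F : Type u} [Field F] [Fintype F] {ι : Type} [Fintype ι] [DecidableEq ι]

/-- The generator of the extension. -/
theorem exists_gen (h2 : (2 : F) ≠ 0) [Nonempty ι] (K : Subalgebra F (Matrix ι ι F))
    (hK : Cfsg.Geo.IsFieldSubalgebra 2 K) :
    ∃ (ε : F) (M : Matrix ι ι F), M ∈ K ∧ M * M = ε • 1 ∧ ¬ IsSquare ε ∧
      (∀ k ∈ K, ∃ a b : F, k = a • 1 + b • M) ∧
      ∀ g : GL ι F, g ∈ Cfsg.Geo.subalgebraNormalizer K ↔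
        ((g : Matrix ι ι F) * M = M * g ∨ (g : Matrix ι ι F) * M = -(M * g)) := by
  classical
  obtain ⟨k, hkK, hk⟩ : ∃ k ∈ K, ∀ c : F, k ≠ c • (1 : Matrix ι ι F) := by
    by_contra h
    push Not at h
    have hle : Subalgebra.toSubmodule K ≤ Submodule.span F {(1 : Matrix ι ι F)} := fun k hk => by
      obtain ⟨c, hc⟩ := h k hk
      exact Submodule.mem_span_singleton.2 ⟨c, hc.symm⟩
    have := (Submodule.finrank_mono hle).trans (finrank_span_le_card ({(1 : Matrix ι ι F)} : Set _))
    have h' : finrank F ↥(Subalgebra.toSubmodule K) = 2 := hK.finrank_eq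
    rw [Set.toFinset_singleton, Finset.card_singleton] at this
    omega
  haveI : Module.Finite F K := Module.finite_of_finrank_eq_succ hK.finrank_eq
  have hli : LinearIndependent F ![(1 : K), ⟨k, hkK⟩] := by
    refine (LinearIndependent.pair_iff' ?_).2 fun a ha => hk a ?_
    · intro h
      exact one_ne_zero (α := Matrix ι ι F) (congrArg Subtype.val h)
    · simpa using (congrArg Subtype.val ha).symm
  have hspan : ∀ y ∈ K, ∃ a b : F, y = a • 1 + b • k := fun y hy => by
    have htop := hli.span_eq_top_of_card_eq_finrank (by rw [Fintype.card_fin]; exact hK.finrank_eq.symm)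
    obtain ⟨c, hc⟩ := (Submodule.mem_span_range_iff_exists_fun F).1 (htop ▸ Submodule.mem_top (x := (⟨y, hy⟩ : K)))
    refine ⟨c 0, c 1, ?_⟩
    have := congrArg Subtype.val hc
    simp [Fin.sum_univ_two] at this
    exact this.symm
  obtain ⟨a, b, hab⟩ := hspan (k * k) (K.mul_mem hkK hkK)
  set M := k - (b / 2) • (1 : Matrix ι ι F) with hMdef
  have hMK : M ∈ K := K.sub_mem hkK (K.smul_mem K.one_mem _)
  have hMM : M * M = (a + b * b / 4) • 1 := by
    have h4 : (4 : F) ≠ 0 := by rw [show (4 : F) = 2 * 2 by norm_num]; exact mul_ne_zero h2 h2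
    rw [hMdef, sub_mul, mul_sub, mul_sub, hab]
    simp only [smul_mul_assoc, mul_smul_comm, mul_one, one_mul]
    match_scalars <;> field_simp <;> ring
  have hMs : ∀ c : F, M ≠ c • 1 := fun c hc => hk (c + b / 2) (by
    rw [add_smul, ← hc, hMdef, sub_add_cancel])
  have hroots : ∀ X ∈ K, ∀ Y ∈ K, X * X = Y * Y → X = Y ∨ X = -Y := fun X hX Y hY h => by
    by_cases h0 : X - Y = 0
    · exact Or.inl (sub_eq_zero.1 h0)
    obtain ⟨z, hz, hz1⟩ := hK.inv _ (K.sub_mem hX hY) h0
    refine Or.inr (eq_neg_of_add_eq_zero_left ?_)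
    have h1 : (X - Y) * (X + Y) = 0 := by
      rw [sub_mul, mul_add, mul_add, h, hK.comm X hX Y hY]; abel
    calc X + Y = (X - Y) * z * (X + Y) := by rw [hz1, one_mul]
      _ = z * ((X - Y) * (X + Y)) := by rw [hK.comm _ (K.sub_mem hX hY) z hz, mul_assoc]
      _ = 0 := by rw [h1, mul_zero]
  have hnsq : ¬ IsSquare (a + b * b / 4) := fun ⟨c, hc⟩ => by
    rcases hroots M hMK (c • 1) (K.smul_mem K.one_mem c) (by
      rw [hMM, hc, smul_mul_smul_comm, one_mul]) with h | h
    · exact hMs c h
    · exact hMs (-c) (by rw [h, neg_smul])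
  have hspanM : ∀ y ∈ K, ∃ a b : F, y = a • 1 + b • M := fun y hy => by
    obtain ⟨c, e, rfl⟩ := hspan y hy
    exact ⟨c + e * (b / 2), e, by rw [hMdef]; module⟩
  refine ⟨_, M, hMK, hMM, hnsq, hspanM, fun g => ⟨fun hg => ?_, fun hg => ?_⟩⟩
  · have hX := (hg M).1 hMK
    rcases hroots _ hX M hMK (by
      rw [show (g : Matrix ι ι F) * M * (g⁻¹ : GL ι F).1 * ((g : Matrix ι ι F) * M * (g⁻¹ : GL ι F).1) =
        g.1 * M * ((g⁻¹).1 * g.1) * M * (g⁻¹).1 by simp only [mul_assoc], Units.inv_mul, mul_one,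
        mul_assoc g.1 M M, hMM, mul_smul_comm, mul_one, smul_mul_assoc, Units.mul_inv]) with h | h
    · left
      conv_rhs => rw [← h]
      rw [mul_assoc, Units.inv_mul, mul_one]
    · right
      have h' := congrArg (· * (g : Matrix ι ι F)) h
      simp only [mul_assoc, Units.inv_mul, mul_one, neg_mul] at h'
      exact h'
  · have key : ∀ g : GL ι F, ((g : Matrix ι ι F) * M = M * g ∨ (g : Matrix ι ι F) * M = -(M * g)) →
        ∀ y ∈ K, (g : Matrix ι ι F) * y * (g⁻¹ : GL ι F).1 ∈ K := fun g hg y hy => by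
      obtain ⟨c, e, rfl⟩ := hspanM y hy
      rw [mul_add, add_mul, mul_smul_comm, mul_smul_comm, smul_mul_assoc, smul_mul_assoc, mul_one, Units.mul_inv]
      refine K.add_mem (K.smul_mem K.one_mem _) (K.smul_mem ?_ _)
      rcases hg with hg | hg <;> rw [hg]
      · rw [mul_assoc, Units.mul_inv, mul_one]; exact hMK
      · rw [neg_mul, mul_assoc, Units.mul_inv, mul_one]; exact K.neg_mem hMK
    refine fun y => ⟨key g hg y, fun hy => ?_⟩
    have hinv : (g⁻¹ : GL ι F).1 * M = M * (g⁻¹ : GL ι F).1 ∨ (g⁻¹ : GL ι F).1 * M = -(M * (g⁻¹ : GL ι F).1) := by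
      rcases hg with hg | hg
      · left
        have := congrArg (fun X => (g⁻¹ : GL ι F).1 * X * (g⁻¹ : GL ι F).1) hg
        simp only [← mul_assoc, Units.inv_mul, one_mul] at this
        simp only [mul_assoc, Units.mul_inv, mul_one] at this
        exact this.symm
      · right
        have := congrArg (fun X => (g⁻¹ : GL ι F).1 * X * (g⁻¹ : GL ι F).1) hg
        simp only [← mul_assoc, Units.inv_mul, one_mul, mul_neg, neg_mul] at this
        simp only [mul_assoc, Units.mul_inv, mul_one] at this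
        rw [this, neg_neg]
    have := key g⁻¹ hinv _ hy
    rw [inv_inv, ← mul_assoc, ← mul_assoc, Units.inv_mul, one_mul, mul_assoc, Units.inv_mul, mul_one] at this
    exact this

/-- Membership in `Ω` of the matrix group. -/
theorem mem_omegaGL_iff {Qf : QuadraticForm F (ι → F)} (x : GL ι F) :
    x ∈ Cfsg.Geo.omegaGL ⇑Qf ↔ ∃ k ∈ commutator (orth Qf), ((iso Qf).symm k : GL ι F) = x := by
  constructor
  · rintro ⟨g, hg, rfl⟩
    exact ⟨iso Qf g, (mem_Omega_iff g).1 hg, by rw [MulEquiv.symm_apply_apply]; rfl⟩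
  · rintro ⟨k, hk, rfl⟩
    exact ⟨(iso Qf).symm k, (mem_Omega_iff _).2 (by rw [MulEquiv.apply_symm_apply]; exact hk), rfl⟩

theorem symm_mulVec {Qf : QuadraticForm F (ι → F)} (k : orth Qf) (v : ι → F) :
    (((iso Qf).symm k : GL ι F) : Matrix ι ι F) *ᵥ v = k.1 v := by
  rw [← iso_apply, MulEquiv.apply_symm_apply]

theorem main {p q r : ℕ} [Fact p.Prime] [CharP F p] [Fact r.Prime] (hq : Fintype.card F = q) (hodd : Odd q)
    (Qf : QuadraticForm F (ι → F)) (hnd : (polarBilin Qf).Nondegenerate) {d : ℕ} (hd : 4 ≤ d)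
    (hι : Fintype.card ι = 2 * d) {s : ℤ} (hs : s = 1 ∨ s = -1)
    (hprof : ∃ N, Prof ⇑Qf N (s * (q : ℤ) ^ d))
    (hiso : ∀ (V : Type u) [AddCommGroup V] [Module F V] [FiniteDimensional F V]
      (Q : QuadraticForm F V), (polarBilin Q).Nondegenerate → finrank F V = 2 * d →
      (∃ N, Prof ⇑Q N (s * (Fintype.card F : ℤ) ^ d)) → ∃ T : V ≃ₗ[F] (ι → F), ∀ v, Qf (T v) = Q v)
    {T : ℕ} (hT : T = if s = 1 then q ^ d - 1 else q ^ d + 1) {b : ℕ}
    (hcard : Nat.card (Cfsg.isometryGroup F ⇑Qf) =
      2 * q ^ b * T * ∏ i ∈ Finset.range (d - 1), (q ^ (2 * (i + 1)) - 1))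
    (K : Subalgebra F (Matrix ι ι F)) (hK : Cfsg.Geo.IsFieldSubalgebra 2 K)
    (hKf : Cfsg.Geo.IsSelfAdjointFor (QuadraticMap.polar ⇑Qf) K)
    (hΩ : r ∣ (Cfsg.Geo.subalgebraNormalizer K).relIndex (Cfsg.Geo.omegaGL ⇑Qf)) :
    (∀ x ∈ Cfsg.Geo.omegaGL ⇑Qf, (∃ z : F, ((x ^ r : GL ι F) : Matrix ι ι F) = z • (1 : Matrix ι ι F)) →
      (∀ z : F, (x : Matrix ι ι F) ≠ z • (1 : Matrix ι ι F)) →
      ∃ g ∈ Cfsg.Geo.omegaGL ⇑Qf, g⁻¹ * x * g ∈ Cfsg.Geo.subalgebraNormalizer K) ↔ r = 2 := by
  classical
  have h2 : (2 : F) ≠ 0 := OmegaStd.two_ne_zero hq hodd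
  haveI : Nonempty ι := Fintype.card_pos_iff.1 (by omega)
  obtain ⟨ε, M, hMK, hMM, hε, hspan, hN⟩ := exists_gen h2 K hK
  haveI := Fact.mk (fact_of_not_isSquare hε)
  have hd' : finrank F (ι → F) = 2 * (d - 1 + 1) := by rw [OrthUnitaryPrelude.finrank_pi, hι]; omega
  have hM₀ : IsStruct Qf ε (Matrix.toLin' M) := ⟨fun v => by
      rw [toLin'_apply, toLin'_apply, mulVec_mulVec, hMM, smul_mulVec, one_mulVec],
    fun u v => by rw [toLin'_apply, toLin'_apply]; exact hKf M hMK u v⟩
  have hNorm : ∀ k : orth Qf, Norm (Matrix.toLin' M) k →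
      ((iso Qf).symm k : GL ι F) ∈ Cfsg.Geo.subalgebraNormalizer K := fun k hk => by
    refine (hN _).2 ?_
    rcases hk with hk | hk
    · exact Or.inl (Matrix.ext_iff_mulVec.2 fun v => by
        simpa [← mulVec_mulVec, symm_mulVec] using hk v)
    · exact Or.inr (Matrix.ext_iff_mulVec.2 fun v => by
        simpa [← mulVec_mulVec, symm_mulVec, neg_mulVec] using hk v)
  constructor
  · intro hall
    by_contra hr2
    have hr := (Fact.out : r.Prime)
    have hrodd : Odd r := hr.odd_of_ne_two hr2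
    -- no element of order r commuting with no structure
    have hno : ∀ y : orth Qf, y ^ r = 1 → (∀ c : F, ∃ v, y.1 v ≠ c • v) →
        ¬ ∀ M' : Module.End F (ι → F), IsStruct Qf ε M' → ¬ ∀ v, y.1 (M' v) = M' (y.1 v) := by
      intro y hy hns hbad
      obtain ⟨g, hgΩ, hgN⟩ := hall _ ((mem_omegaGL_iff _).2 ⟨y, mem_of_pow_eq_one h2 hnd hrodd hy, rfl⟩)
        ⟨1, by rw [← SubmonoidClass.coe_pow, ← map_pow, hy, map_one, OneMemClass.coe_one, Units.val_one, one_smul]⟩
        (fun c hc => by
          obtain ⟨v, hv⟩ := hns c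
          exact hv (by rw [← symm_mulVec, hc, smul_mulVec, one_mulVec]))
      obtain ⟨k, -, rfl⟩ := (mem_omegaGL_iff _).1 hgΩ
      rw [← InvMemClass.coe_inv, ← Subgroup.coe_mul, ← Subgroup.coe_mul, ← map_inv, ← map_mul, ← map_mul] at hgN
      set z := k⁻¹ * y * k with hz
      have hzr : z ^ r = 1 := by
        have : z = MulAut.conj k⁻¹ y := by simp [z, MulAut.conj_apply]
        rw [this, ← map_pow, hy, map_one]
      rcases (hN _).1 hgN with h | h
      · let M' : Module.End F (ι → F) := k.1.toLinearMap ∘ₗ Matrix.toLin' M ∘ₗ k.1.symm.toLinearMap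
        refine hbad M' ⟨fun v => ?_, fun u v => ?_⟩ fun v => ?_
        · simp only [M', LinearMap.comp_apply, LinearEquiv.coe_coe, LinearEquiv.symm_apply_apply, hM₀.sq, map_smul,
            LinearEquiv.apply_symm_apply]
        · simp only [M', LinearMap.comp_apply, LinearEquiv.coe_coe]
          conv_lhs => rw [← k.1.apply_symm_apply v, polar_orth k, hM₀.adj]
          conv_rhs => rw [← k.1.apply_symm_apply u, polar_orth k]
        · obtain ⟨w, rfl⟩ := k.1.surjective v
          simp only [M', LinearMap.comp_apply, LinearEquiv.coe_coe, LinearEquiv.symm_apply_apply, toLin'_apply]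
          have hyk : ∀ a, y.1 (k.1 a) = k.1 (z.1 a) := fun a => by
            rw [← orth_mul_apply, ← orth_mul_apply]; congr 2; rw [hz]; group
          rw [hyk, hyk, LinearEquiv.symm_apply_apply]
          have hzM := congrArg (fun X : Matrix ι ι F => X *ᵥ w) h
          simp only [← mulVec_mulVec, symm_mulVec] at hzM
          rw [hzM]
      · clear_value z
        have hzM : ∀ v, z.1 (M *ᵥ v) = -(M *ᵥ z.1 v) := fun v => by
          have := congrArg (fun X : Matrix ι ι F => X *ᵥ v) h
          simpa [← mulVec_mulVec, symm_mulVec, neg_mulVec] using this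
        have hn : ∀ n : ℕ, ∀ v, (z ^ n).1 (M *ᵥ v) = (-1 : F) ^ n • (M *ᵥ (z ^ n).1 v) := by
          intro n
          induction n with
          | zero => intro v; simp
          | succ n ih =>
            intro v
            rw [pow_succ, orth_mul_apply, hzM, map_neg, ih, orth_mul_apply, pow_succ, mul_neg_one, neg_smul]
        have hM0 : M = 0 := Matrix.ext_iff_mulVec.2 fun v => by
          have := hn r v
          rw [hzr, hrodd.neg_one_pow, neg_one_smul] at this
          simp only [OneMemClass.coe_one, LinearEquiv.coe_one, id_eq] at this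
          rw [zero_mulVec]
          funext i
          have hi := congrFun this i
          simp only [Pi.neg_apply] at hi
          exact (mul_eq_zero.1 (show (2 : F) * (M *ᵥ v) i = 0 by linear_combination hi)).resolve_left h2
        rw [hM0, mul_zero] at hMM
        have hi := congrFun (congrFun hMM (Classical.arbitrary ι)) (Classical.arbitrary ι)
        simp at hi
        exact hε (hi ▸ IsSquare.zero)
    rcases eq_or_ne r p with hrp | hrp
    · subst hrp
      obtain ⟨y, hy, hns, hbad⟩ := exists_unipotent (p := r) h2 hnd (by rw [OrthUnitaryPrelude.finrank_pi, hι]; omega)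
      exact hno y hy hns fun M' hM' => hbad ε hε M' hM'
    -- the order divides
    have hq0 : (q : ZMod r) ≠ 0 := fun h => by
      obtain ⟨f, hpp, hf⟩ := FiniteField.card F p
      rw [← hq, hf, Nat.cast_pow] at h
      have := eq_zero_of_pow_eq_zero h
      rw [ZMod.natCast_eq_zero_iff] at this
      exact hrp ((Nat.prime_dvd_prime_iff_eq hr hpp).1 this)
    have hq1 : 1 < q := hq ▸ Fintype.one_lt_card
    have hle : Cfsg.Geo.omegaGL ⇑Qf ≤ Cfsg.isometryGroup F ⇑Qf := Subgroup.map_subtype_le _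
    have hdvd : r ∣ 2 * q ^ b * T * ∏ i ∈ Finset.range (d - 1), (q ^ (2 * (i + 1)) - 1) :=
      hcard ▸ (hΩ.trans (Subgroup.index_dvd_card _)).trans (Subgroup.card_dvd_of_le hle)
    obtain ⟨e, he⟩ : ∃ e, e = orderOf (q : ZMod r) := ⟨_, rfl⟩
    have h4 : ¬ 4 ∣ e := fun h4 => by
      obtain ⟨C, hC, hCr⟩ := OrthFieldExtIndex93.not_dvd_index (r := r) hq hodd h2 hr2 hq0 hnd hM₀ (n := d - 1) hd'
        (s := s) (by rw [show d - 1 + 1 = d by omega]; exact hprof) hs
        (T := T) (by rw [show d - 1 + 1 = d by omega]; exact hT) (b := b)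
        (by rw [← Nat.card_congr (iso Qf).toEquiv]; exact hcard) (he ▸ h4)
      refine hCr (hΩ.trans ?_)
      set Ω := Cfsg.Omega F ⇑Qf
      set N' := (Cfsg.Geo.subalgebraNormalizer K).comap (Cfsg.isometryGroup F ⇑Qf).subtype
      have h1 : (Cfsg.Geo.subalgebraNormalizer K).relIndex (Cfsg.Geo.omegaGL ⇑Qf) = N'.relIndex Ω :=
        (Subgroup.relIndex_comap _ _ _).symm
      have hCN : C.comap (iso Qf).toMonoidHom ≤ N' := fun g hg => by
        have := hNorm (iso Qf g) (Or.inl fun v => by
          exact hC _ hg v)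
        rwa [MulEquiv.symm_apply_apply] at this
      rw [h1]
      refine (Subgroup.relIndex_dvd_of_le_left (L := Ω) hCN).trans ?_
      rw [← Subgroup.index_comap_of_surjective C (f := (iso Qf).toMonoidHom) (iso Qf).surjective]
      set C' := C.comap (iso Qf).toMonoidHom
      have e1 : C'.relIndex Ω * Ω.index = (C' ⊓ Ω).index := by
        rw [← Subgroup.inf_relIndex_right, Subgroup.relIndex_mul_index inf_le_right]
      have e2 : Ω.relIndex C' * C'.index = (C' ⊓ Ω).index := by
        rw [← Subgroup.inf_relIndex_left, Subgroup.relIndex_mul_index inf_le_left]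
      refine Nat.dvd_of_mul_dvd_mul_right (Nat.pos_of_ne_zero Subgroup.index_ne_zero_of_finite) (k := Ω.index) ?_
      rw [e1, ← e2, mul_comm C'.index]
      exact Nat.mul_dvd_mul_right (Subgroup.relIndex_dvd_index_of_normal Ω C') _
    have hpm : (-1 : ZMod r) ≠ 1 := by
      haveI : Fact (2 < r) := ⟨lt_of_le_of_ne hr.two_le (Ne.symm hr2)⟩
      exact ZMod.neg_one_ne_one
    have hfit : (Odd e → 2 * e ≤ 2 * d ∧ (2 * e = 2 * d → s = 1)) ∧ (Even e → e ≤ 2 * d ∧ (e = 2 * d → s = -1)) := by
      have he0 : 0 < e := he ▸ Nat.pos_of_ne_zero (orderOf_pos_iff.2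
        (isOfFinOrder_iff_pow_eq_one.2 ⟨r - 1, Nat.sub_pos_of_lt hr.one_lt, ZMod.pow_card_sub_one_eq_one hq0⟩)).ne'
      have hcases : (∃ i, 0 < i ∧ i < d ∧ (q : ZMod r) ^ (2 * i) = 1) ∨ (q : ZMod r) ^ d = (s : ZMod r) := by
        rcases (hr.dvd_mul).1 hdvd with h | h
        · rcases (hr.dvd_mul).1 h with h | h
          · rcases (hr.dvd_mul).1 h with h | h
            · exact absurd ((Nat.prime_dvd_prime_iff_eq hr Nat.prime_two).1 h) hr2
            · exact absurd ((ZMod.natCast_eq_zero_iff _ _).2 (hr.dvd_of_dvd_pow h)) hq0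
          · right
            rw [← ZMod.natCast_eq_zero_iff, hT] at h
            rcases hs with rfl | rfl
            · rw [if_pos rfl, Nat.cast_sub (Nat.one_le_pow _ _ (by omega)), Nat.cast_pow, Nat.cast_one, sub_eq_zero] at h
              rw [h]; simp
            · rw [if_neg (by norm_num), Nat.cast_add, Nat.cast_pow, Nat.cast_one, add_eq_zero_iff_eq_neg] at h
              rw [h]; simp
        · obtain ⟨i, hi, hri⟩ := (hr.prime.dvd_finsetProd_iff _).1 h
          rw [← ZMod.natCast_eq_zero_iff, Nat.cast_sub (Nat.one_le_pow _ _ (by omega)), Nat.cast_pow, Nat.cast_one,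
            sub_eq_zero] at hri
          exact Or.inl ⟨i + 1, by omega, by have := Finset.mem_range.1 hi; omega, hri⟩
      rcases hcases with ⟨i, hi0, hid, hi⟩ | hqd
      · have hdv : e ∣ 2 * i := he ▸ orderOf_dvd_of_pow_eq_one hi
        refine ⟨fun ho => ?_, fun _ => ?_⟩
        · have := Nat.le_of_dvd hi0 ((Nat.Coprime.dvd_mul_left (Nat.coprime_two_right.2 ho)).1 hdv)
          exact ⟨by omega, fun h => absurd h (by omega)⟩
        · have := Nat.le_of_dvd (by omega) hdv
          exact ⟨by omega, fun h => absurd h (by omega)⟩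
      · have h2d : (q : ZMod r) ^ (2 * d) = 1 := by
          rw [mul_comm, pow_mul, hqd]; rcases hs with rfl | rfl <;> simp
        have hdv : e ∣ 2 * d := he ▸ orderOf_dvd_of_pow_eq_one h2d
        refine ⟨fun ho => ?_, fun _ => ⟨Nat.le_of_dvd (by omega) hdv, fun h => ?_⟩⟩
        · have hed := (Nat.Coprime.dvd_mul_left (Nat.coprime_two_right.2 ho)).1 hdv
          refine ⟨by have := Nat.le_of_dvd (by omega) hed; omega, fun h => ?_⟩
          have h1 : (q : ZMod r) ^ d = 1 := by
            rw [show d = e by omega, he]; exact pow_orderOf_eq_one _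
          rcases hs with rfl | rfl
          · rfl
          · exact absurd (by simpa [h1] using hqd.symm) hpm
        · have h1 := (OrthPrimeOrderClasses73.pow_half (q := q) he he0 1).2 d h
          rw [mul_one, pow_one] at h1
          rcases hs with rfl | rfl
          · exact absurd (by simpa [hqd] using h1.symm) hpm
          · rfl
    obtain ⟨y, hy, hns, hbad⟩ := OrthFieldExtElement93.exists_element (p := p) hq h2 hr2 hrp Qf hnd (d := d)
      (by omega) hι hs hiso he h4 hfit.1 hfit.2
    refine hno (iso Qf y) (by rw [← map_pow, hy, map_one]) (fun c => ?_) fun M' hM' hcomm => ?_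
    · by_contra h
      push Not at h
      exact hns c (Matrix.ext_iff_mulVec.2 fun v => by rw [← iso_apply, h v, smul_mulVec, one_mulVec])
    · refine hbad ε hε (LinearMap.toMatrix' M') ?_ (fun u v => ?_) ?_
      · refine Matrix.ext_iff_mulVec.2 fun v => ?_
        rw [← mulVec_mulVec, LinearMap.toMatrix'_mulVec, LinearMap.toMatrix'_mulVec, hM'.sq, smul_mulVec, one_mulVec]
      · rw [LinearMap.toMatrix'_mulVec, LinearMap.toMatrix'_mulVec, hM'.adj]
      · refine Matrix.ext_iff_mulVec.2 fun v => ?_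
        rw [← mulVec_mulVec, ← mulVec_mulVec, LinearMap.toMatrix'_mulVec, LinearMap.toMatrix'_mulVec,
          ← iso_apply, ← iso_apply, hcomm]
  · rintro rfl x hx ⟨z, hz⟩ -
    obtain ⟨k, hk, rfl⟩ := (mem_omegaGL_iff x).1 hx
    have hxx : ∀ v, k.1 (k.1 v) = z • v := fun v => by
      have := congrArg (fun X : Matrix ι ι F => X *ᵥ v) hz
      simpa [pow_two, ← mulVec_mulVec, symm_mulVec, smul_mulVec] using this
    obtain ⟨g, hg, hgN⟩ := OrthFieldExtInvol93.exists_fix (ε := ε) h2 hnd (n := d - 1) hd' (by omega) hM₀ k hk hxx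
    refine ⟨((iso Qf).symm g : GL ι F), (mem_omegaGL_iff _).2 ⟨g, hg, rfl⟩, ?_⟩
    rw [← InvMemClass.coe_inv, ← Subgroup.coe_mul, ← Subgroup.coe_mul, ← map_inv, ← map_mul, ← map_mul]
    exact hNorm _ hgN

end Cfsg.Agent.OrthFieldExtMain93
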