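import Cfsg.Prelude
import Cfsg.Agent.Lib.OmegaMaxGlue
import Cfsg.Agent.Lib.OmegaStabPair
import Cfsg.Agent.Lib.TensorMaxSympPlus
import Cfsg.Agent.Lib.TensorMaxQuadGlue

/-!
Generic forms (small lower bound on the dimension) of three maximality proofs for orthogonal
groups: the stabiliser of a pair of totally singular subspaces and the symplectic tensor stabiliser.
-/

set_option autoImplicit false
set_option maxHeartbeats 1000000
open Cfsg

namespace Cfsg.Agent.OrthGeoMax44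

section Pair
open Cfsg.Agent.OrthUnitaryQuad Cfsg.Agent.OrthUnitaryPrelude Cfsg.Agent.OmegaClasses Cfsg.Agent.OmegaGeo Cfsg.Agent.OmegaMaxGlue

/-- Stabiliser of a pair of totally singular subspaces of half dimension. -/
theorem pair {F : Type*} [Field F] [Fintype F] {n : ℕ} (hn : 12 ≤ n) (Q : (Fin n → F) → F) (hQ : Cfsg.Geo.IsNondegenerateQuadraticForm Q) (k : ℕ) (hk : 2 * k = n) (hke : Even k) (D : Fin 2 → Submodule F (Fin n → F)) (hD : Cfsg.Geo.IsMDecomposition k D) (hts : ∀ i, Cfsg.Geo.IsTotallySingularQuad Q (D i)) : Cfsg.Geo.IsMaximalIn (Cfsg.Geo.omegaGL Q) (Cfsg.Geo.decompositionStabilizer D ⊓ Cfsg.Geo.omegaGL Q) := by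
  classical
  obtain ⟨q, rfl, hnd⟩ := exists_quad hQ
  have hd : Module.finrank F (Fin n → F) = n := by simp
  have hL : ∀ i, Lagr q (D i) := fun i => ⟨hts i, by rw [hD.finrank_eq, hk, hd]⟩
  have hdisj : D 0 ⊓ D 1 = ⊥ :=
    disjoint_iff.1 (hD.indep.pairwiseDisjoint (show (0 : Fin 2) ≠ 1 by decide))
  have h01 : ∀ s : Fin 2, s = 0 ∨ s = 1 := by decide
  have hlin : ∀ (c : orth q) (X : Submodule F (Fin n → F)),
      X.map (Matrix.toLin' ((toGL q c : GL (Fin n) F) : Matrix (Fin n) (Fin n) F)) =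
        X.map (c.1 : (Fin n → F) →ₗ[F] (Fin n → F)) := fun c X => by
    congr 1
    exact LinearMap.ext fun x => by rw [LinearEquiv.coe_coe, Matrix.toLin'_apply, toGL_mulVec]
  have hiff : ∀ c : orth q, toGL q c ∈ Cfsg.Geo.decompositionStabilizer D ↔
      (((∀ x ∈ D 0, c.1 x ∈ D 0) ∧ (∀ x ∈ D 1, c.1 x ∈ D 1)) ∨
        ((∀ x ∈ D 0, c.1 x ∈ D 1) ∧ (∀ x ∈ D 1, c.1 x ∈ D 0))) := by
    intro c
    have hmap : ∀ i j, (∀ x ∈ D i, c.1 x ∈ D j) →
        (D i).map (c.1 : (Fin n → F) →ₗ[F] (Fin n → F)) = D j := fun i j h => by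
      refine Submodule.eq_of_le_of_finrank_eq ?_
        (by rw [LinearEquiv.finrank_map_eq, hD.finrank_eq, hD.finrank_eq])
      rintro _ ⟨x, hx, rfl⟩
      exact h x hx
    constructor
    · rintro ⟨σ, hσ⟩
      have h : ∀ i, ∀ x ∈ D i, c.1 x ∈ D (σ i) := fun i x hx => by
        rw [← hσ i, hlin]; exact Submodule.mem_map_of_mem hx
      rcases h01 (σ 0) with hs | hs
      · have hs1 : σ 1 = 1 := (h01 (σ 1)).resolve_left fun h1 =>
          absurd (σ.injective (h1.trans hs.symm)) (by decide)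
        exact Or.inl ⟨fun x hx => hs ▸ h 0 x hx, fun x hx => hs1 ▸ h 1 x hx⟩
      · have hs1 : σ 1 = 0 := (h01 (σ 1)).resolve_right fun h1 =>
          absurd (σ.injective (h1.trans hs.symm)) (by decide)
        exact Or.inr ⟨fun x hx => hs ▸ h 0 x hx, fun x hx => hs1 ▸ h 1 x hx⟩
    · rintro (⟨a, b⟩ | ⟨a, b⟩)
      · refine ⟨1, fun i => ?_⟩
        rw [hlin, Equiv.Perm.one_apply]
        rcases h01 i with rfl | rfl
        · exact hmap 0 0 a
        · exact hmap 1 1 b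
      · refine ⟨Equiv.swap 0 1, fun i => ?_⟩
        rw [hlin]
        rcases h01 i with rfl | rfl
        · rw [Equiv.swap_apply_left]; exact hmap 0 1 a
        · rw [Equiv.swap_apply_right]; exact hmap 1 0 b
  refine ⟨lt_of_le_of_ne inf_le_right fun h => ?_, fun M hHM hMΩ => ?_⟩
  · obtain ⟨e, he, he0⟩ := Submodule.exists_mem_ne_zero_of_ne_bot (p := D 0)
      (fun hb => by have := hD.finrank_eq 0; rw [hb, finrank_bot] at this; omega)
    obtain ⟨f, hf, hfe⟩ : ∃ f ∈ D 0, f ∉ Submodule.span F {e} := by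
      by_contra hc
      push Not at hc
      have := Submodule.finrank_mono (show D 0 ≤ Submodule.span F {e} from hc)
      rw [finrank_span_singleton he0, hD.finrank_eq] at this
      omega
    obtain ⟨c, hc, hact⟩ := exists_siegel hnd (by omega) (hts 0 e he) (hts 0 f hf)
      (polar_of_sing (hts 0) hf he)
    have hmem := toGL_mem hc
    rw [← h] at hmem
    obtain ⟨x, hx, hfx⟩ : ∃ x ∈ D 1, QuadraticMap.polar q f x ≠ 0 := by
      by_contra hall
      push Not at hall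
      have : f ∈ D 0 ⊓ D 1 := ⟨hf, mem_of_orth hnd (hL 1)
        fun u hu => (QuadraticMap.polar_comm _ u f).trans (hall u hu)⟩
      rw [hdisj, Submodule.mem_bot] at this
      exact hfe (this ▸ Submodule.zero_mem _)
    rcases (hiff c).1 hmem.1 with ⟨-, h1⟩ | ⟨h0, -⟩
    · have h1x := h1 x hx
      rw [hact, add_sub_assoc, (D 1).add_mem_iff_right hx] at h1x
      have : QuadraticMap.polar q f x • e - QuadraticMap.polar q e x • f ∈ D 0 ⊓ D 1 :=
        ⟨(D 0).sub_mem ((D 0).smul_mem _ he) ((D 0).smul_mem _ hf), h1x⟩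
      rw [hdisj, Submodule.mem_bot, sub_eq_zero] at this
      by_cases h0 : QuadraticMap.polar q e x = 0
      · rw [h0, zero_smul, smul_eq_zero] at this
        exact this.elim hfx he0
      · refine hfe (Submodule.mem_span_singleton.2 ⟨(QuadraticMap.polar q e x)⁻¹ * QuadraticMap.polar q f x, ?_⟩)
        rw [← smul_smul, this, smul_smul, inv_mul_cancel₀ h0, one_smul]
    · have h0e := h0 e he
      rw [hact, polar_of_sing (hts 0) hf he, polar_of_sing (hts 0) he he] at h0e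
      simp only [zero_smul, add_zero, sub_zero] at h0e
      have : e ∈ D 0 ⊓ D 1 := ⟨he, h0e⟩
      rw [hdisj, Submodule.mem_bot] at this
      exact he0 this
  · rcases eq_or_ne M (Cfsg.Geo.decompositionStabilizer D ⊓ Cfsg.Geo.omegaGL ⇑q) with h | h
    · exact Or.inl h
    refine Or.inr (le_antisymm hMΩ ?_)
    obtain ⟨x, hx, hxW⟩ := SetLike.exists_of_lt (lt_of_le_of_ne hHM (Ne.symm h))
    obtain ⟨g, hg, rfl⟩ := exists_of_mem_omegaGL (hMΩ hx)
    have hle := OmegaStabPair.commutator_le hnd (hL 0) (hL 1) hdisj (by rw [hD.finrank_eq]; omega)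
      (by rw [hD.finrank_eq]; exact hke) (M.comap (glHom q))
      (fun c hc hcD => hHM ⟨(hiff c).2 hcD, toGL_mem hc⟩) (g := g) hx
      (fun hcD => hxW ⟨(hiff g).2 hcD, toGL_mem hg⟩)
    intro y hy
    obtain ⟨c, hc, rfl⟩ := exists_of_mem_omegaGL hy
    exact hle hc

end Pair

section Tensor
open scoped Matrix MatrixGroups Kronecker
open QuadraticMap
open Cfsg.Agent.TensorMax Cfsg.Agent.TensorMaxGlue Cfsg.Agent.TransvectionMax Cfsg.Agent.OmegaGeo

/-- Stabiliser of a tensor decomposition into two symplectic factors. -/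
theorem tensor {F : Type*} [Field F] [Fintype F] {n : ℕ} (hn : 12 ≤ n) (Q : (Fin n → F) → F) (hQ : Cfsg.Geo.IsNondegenerateQuadraticForm Q) (n₁ n₂ : ℕ) (h12 : n₁ < n₂) (hl : 6 ≤ n₂) (hex : ¬ (Fintype.card F = 2 ∧ n₁ = 2)) (e : (Fin n) ≃ Fin n₁ × Fin n₂) (P : Matrix.GeneralLinearGroup (Fin n) F) (f₁ : (Fin n₁ → F) → (Fin n₁ → F) → F) (f₂ : (Fin n₂ → F) → (Fin n₂ → F) → F) (hf₁ : Cfsg.Geo.IsSymplecticForm f₁) (hf₂ : Cfsg.Geo.IsSymplecticForm f₂) (hT : Cfsg.Geo.IsTensorFormStructure id (QuadraticMap.polar Q) f₁ f₂ e P) (hpure : (∀ (x₁ : Fin n₁ → F) (x₂ : Fin n₂ → F), Q (Matrix.mulVec (P : Matrix (Fin n) (Fin n) F) ((fun a : Fin n₁ × Fin n₂ => x₁ a.1 * x₂ a.2) ∘ e)) = 0)) : Cfsg.Geo.IsMaximalIn (Cfsg.Geo.omegaGL Q) (Cfsg.Geo.tensorProductSubgroup n₁ n₂ e P ⊓ Cfsg.Geo.omegaGL Q) := by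
  classical
  obtain ⟨q, rfl, hnd⟩ := exists_quad hQ
  obtain ⟨c, hc, hT⟩ := hT
  have hb := hf₁.bilinear
  let g₁ : (Fin n₁ → F) → (Fin n₁ → F) → F := fun v w => c * f₁ v w
  have hg₁ : Cfsg.Geo.IsSymplecticForm g₁ := by
    refine ⟨⟨fun x y v => ?_, fun s x v => ?_, fun v x y => ?_, fun s v x => ?_⟩, fun v w => ?_, fun v => ?_,
      fun v hv => ?_⟩
    · show c * _ = c * _ + c * _; rw [hb.add_left, mul_add]
    · show c * _ = s * (c * _); rw [hb.smul_left]; ring
    · show c * _ = c * _ + c * _; rw [hb.add_right, mul_add]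
    · show c * _ = s * (c * _); rw [hb.smul_right]; ring
    · show c * _ = -(c * _); rw [hf₁.skew, mul_neg]
    · show c * _ = 0; rw [hf₁.alternating, mul_zero]
    · obtain ⟨⟨x, hx⟩, ⟨y, hy⟩⟩ := hf₁.nondegenerate v hv
      exact ⟨⟨x, mul_ne_zero hc hx⟩, ⟨y, mul_ne_zero hc hy⟩⟩
  set q' := q.comp (psi e P) with hq'
  have hpol : ∀ u w, polar q' u w = tForm (RingHom.id F) g₁ f₂ u w := fun u w => by
    have h := hT u w
    simp only [hq', tForm, Cfsg.Geo.formOfGram, Cfsg.Geo.gramMatrix, Matrix.kroneckerMap_apply, Finset.mul_sum,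
      RingHom.id_apply, id] at h ⊢
    rw [show polar (q.comp (psi e P)) u w = polar q (psi e P u) (psi e P w) by
      simp [QuadraticMap.polar, map_add], psi_apply, psi_apply, h]
    exact Finset.sum_congr rfl fun a _ => Finset.sum_congr rfl fun b _ => by simp only [g₁]; ring
  have hp : ∀ v a, q' (tp v a) = 0 := fun v a => hpure v a
  have hev : ∀ {m : ℕ} {f : (Fin m → F) → (Fin m → F) → F}, Cfsg.Geo.IsSymplecticForm f → Even m := by
    intro m f hf
    let B : (Fin m → F) →ₗ[F] (Fin m → F) →ₗ[F] F := LinearMap.mk₂ F f hf.bilinear.add_left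
      (fun c a b => by rw [hf.bilinear.smul_left, smul_eq_mul]) hf.bilinear.add_right
      (fun c a b => by rw [hf.bilinear.smul_right, smul_eq_mul])
    have := SymplecticAlt.even_finrank B hf.alternating ⊤ (fun u _ h => by
      by_contra h0
      obtain ⟨v, hv⟩ := (hf.nondegenerate u h0).2
      exact hv (h v Submodule.mem_top))
    rwa [finrank_top, Module.finrank_fin_fun] at this
  have hprod : n = n₁ * n₂ := by simpa using Fintype.card_congr e
  obtain ⟨a, ha⟩ := hev hf₁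
  obtain ⟨b, hb'⟩ := hev hf₂
  have hk : 2 ≤ n₁ := by
    rcases Nat.eq_zero_or_pos a with h0 | h0
    · rw [ha, h0] at hprod
      omega
    · omega
  have hq2 : n₁ ≤ 2 → ∃ t : F, t ≠ 0 ∧ t ≠ 1 := fun h2 => by
    have hne : Fintype.card F ≠ 2 := fun h => hex ⟨h, by omega⟩
    have h1 : 1 < Fintype.card F := Fintype.one_lt_card
    obtain ⟨t, ht⟩ := (({0, 1} : Finset F)ᶜ).card_pos.1 (by
      rw [Finset.card_compl]
      have := Finset.card_le_two (a := (0 : F)) (b := 1)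
      omega)
    exact ⟨t, by simpa using ht⟩
  have hnd' : (polarBilin q').Nondegenerate := nondeg_comp e P q hnd
  refine isMaximalIn_of e P _ ?_ (fun M h1' h2' => ?_)
  · let x : Fin n₁ → F := Pi.single ⟨0, by omega⟩ 1
    obtain ⟨z, hz⟩ := (hg₁.nondegenerate x (by simp [x])).2
    let a₀ : Fin n₂ → F := Pi.single ⟨0, by omega⟩ 1
    obtain ⟨b₀, hb₀⟩ := (hf₂.nondegenerate a₀ (by simp [a₀])).2
    obtain ⟨c₀, hc₀, hc₀0⟩ : ∃ c₀, (∀ i, f₂ c₀ (![a₀, b₀] i) = 0) ∧ c₀ ≠ 0 := by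
      obtain ⟨c₀, h0, h1⟩ := exists_perp (sform_symp hf₂) (show 2 < n₂ by omega) ![a₀, b₀]
      exact ⟨c₀, h1, h0⟩
    have hUX : polar q' (tp x a₀) (tp x b₀) = 0 := by
      rw [hpol, tForm_tp (sform_symp hf₂) (sform_symp hg₁), hg₁.alternating, zero_mul]
    obtain ⟨g, hg, hgN⟩ := el_siegel hnd' (le_trans (by omega) (Nat.mul_le_mul hk hl)) (hp x a₀) (hp x b₀) hUX
    refine ⟨g, ?_, fun hgk => ?_⟩
    · have h : g ∈ (Cfsg.Geo.omegaGL ⇑q).comap (phi e P).toMonoidHom := by rw [comap_omegaGL]; exact hg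
      exact h
    obtain ⟨α, β, rfl⟩ := exists_kr hgk
    have hact : ∀ v y, tp ((α : Matrix (Fin n₁) (Fin n₁) F) *ᵥ v) ((β : Matrix (Fin n₂) (Fin n₂) F) *ᵥ y) =
        tp v y + ((g₁ x v * f₂ a₀ y) • tp x b₀ - (g₁ x v * f₂ b₀ y) • tp x a₀) := by
      intro v y
      have h := LinearMap.congr_fun hgN (tp v y)
      rw [Matrix.toLin'_apply, kr_tp, LinearMap.add_apply, Module.End.one_apply, nsie_apply, hpol, hpol,
        tForm_tp (sform_symp hf₂) (sform_symp hg₁), tForm_tp (sform_symp hf₂) (sform_symp hg₁)] at h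
      exact h
    have e1 := hact z c₀
    rw [(sform_symp hf₂).symm_zero (show f₂ c₀ a₀ = 0 from hc₀ 0),
      (sform_symp hf₂).symm_zero (show f₂ c₀ b₀ = 0 from hc₀ 1)] at e1
    simp only [mul_zero, zero_smul, sub_zero, add_zero] at e1
    have e2 := hact z a₀
    rw [hf₂.alternating, mul_zero, zero_smul, zero_sub] at e2
    obtain ⟨j, hj⟩ : ∃ j, c₀ j ≠ 0 := Function.ne_iff.1 hc₀0
    set r := ((β : Matrix (Fin n₂) (Fin n₂) F) *ᵥ c₀) j * (c₀ j)⁻¹ with hr
    have e1' : ∀ i, z i = r * ((α : Matrix (Fin n₁) (Fin n₁) F) *ᵥ z) i := fun i => by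
      have h := congrFun e1 (i, j)
      simp only [tp] at h
      calc z i = z i * c₀ j * (c₀ j)⁻¹ := by rw [mul_assoc, mul_inv_cancel₀ hj, mul_one]
        _ = _ := by rw [← h, hr]; ring
    set s := ((β : Matrix (Fin n₂) (Fin n₂) F) *ᵥ a₀) ⟨0, by omega⟩ with hs
    set m := g₁ x z * f₂ b₀ a₀ with hm
    have hm0 : m ≠ 0 := mul_ne_zero hz (fun h => hb₀ ((sform_symp hf₂).symm_zero h))
    have e2' : ∀ i, ((α : Matrix (Fin n₁) (Fin n₁) F) *ᵥ z) i * s = z i - m * x i := fun i => by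
      have h := congrFun e2 (i, ⟨0, by omega⟩)
      simp only [tp, Pi.add_apply, Pi.neg_apply, Pi.smul_apply, smul_eq_mul] at h
      rw [hs, hm, h]
      simp [a₀]
      ring
    have hr0 : r ≠ 0 := fun h0 => by
      have : z = 0 := funext fun i => by rw [e1' i, h0, zero_mul, Pi.zero_apply]
      exact hz (by rw [this]; exact (sform_symp hg₁).zero_right x)
    have hxz : x = (m⁻¹ * (1 - s * r⁻¹)) • z := funext fun i => by
      have h := e2' i
      rw [show ((α : Matrix (Fin n₁) (Fin n₁) F) *ᵥ z) i = r⁻¹ * z i by rw [e1' i, inv_mul_cancel_left₀ hr0]] at h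
      calc x i = m⁻¹ * (m * x i) := by rw [inv_mul_cancel_left₀ hm0]
        _ = _ := by rw [Pi.smul_apply, smul_eq_mul, show m * x i = z i - r⁻¹ * z i * s by linear_combination h]; ring
    exact hz (by rw [hxz, hg₁.bilinear.smul_left, hg₁.alternating, mul_zero])
  · rw [comap_omegaGL] at h1' h2' ⊢
    exact symp_plus_maximal hg₁ hf₂ hpol hp hnd' (by omega) (by omega) hl hq2 h1' h2'

end Tensor

end Cfsg.Agent.OrthGeoMax44
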