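import Mathlib
import Cfsg.Prelude.Def_LieTypeDatum
import Cfsg.Agent.Lib.OrthUnitarySimilar
import Cfsg.Agent.Lib.SplitClassIndex

/-!
How the inner-diagonal class of an involutory similarity outside the inner-diagonal group splits
into inner classes, for even-dimensional forms over fields of odd order.
-/

set_option autoImplicit false
set_option linter.unusedSectionVars false

namespace Cfsg.Agent.OrthGraphSplit

open QuadraticMap Module
open scoped Matrix MatrixGroups commutatorElement
open Cfsg.Agent.OrthUnitaryQuad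
open Cfsg.Agent.OrthUnitaryRefl
open Cfsg.Agent.OrthUnitaryOmega
open Cfsg.Agent.OrthUnitaryPrelude
open Cfsg.Agent.OmegaClasses
open Cfsg.Agent.OrthUnitarySimAut
open Cfsg.Agent.OrthUnitarySimilar

section Centralising

variable {ι : Type} [Fintype ι] [DecidableEq ι] {F : Type*} [Field F] [Fintype F]
  {Q : QuadraticForm F (ι → F)} {M : ℕ} (h : Good Q M)

include h

/-- Two reflections as an element of `SOs` outside `Ω`. -/
theorem pair_mem (u v : ι → F) (hu : Q u ≠ 0) (hv : Q v ≠ 0) (hsq : ¬ IsSquare (Q u * Q v)) :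
    ofOrth (refl Q u hu * refl Q v hv) ∈ SOs Q ∧ ofOrth (refl Q u hu * refl Q v hv) ∉ omegaSim Q := by
  have hns : NS Q [u, v] := by
    intro w hw
    simp only [List.mem_cons, List.not_mem_nil, or_false] at hw
    rcases hw with rfl | rfl
    · exact hu
    · exact hv
  have e : refl Q u hu * refl Q v hv = rprod Q [u, v] := by
    rw [rprod_cons hu, rprod_singleton hv]
  rw [e]
  refine ⟨?_, ?_⟩
  · rw [mem_SOs h, mult_ofOrth, dHom_ofOrth, detHom_rprod hns]
    simp
  · rw [ofOrth_mem_omegaSim, rprod_mem_iff h.nd h.exc hns]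
    simp [hsq]

theorem commute_of (k : orth Q) (g : Sim Q)
    (hk : ∀ x, k.1 ((g : GL ι F).1 *ᵥ x) = (g : GL ι F).1 *ᵥ (k.1 x)) :
    ofOrth k * g = g * ofOrth k := by
  refine Subtype.ext (Units.ext (Matrix.ext_iff_mulVec.2 fun x => ?_))
  rw [Subgroup.coe_mul, Subgroup.coe_mul, Units.val_mul, Units.val_mul, ← Matrix.mulVec_mulVec,
    ← Matrix.mulVec_mulVec, ofOrth_mulVec, ofOrth_mulVec, hk]

/-- An element outside `Ω` of the special group commuting with a similarity of scalar square. -/
theorem exists_commuting {g : Sim Q} (hgg : g * g ∈ scalarSim Q) :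
    ∃ k ∈ SOs Q, k ∉ omegaSim Q ∧ k * g = g * k := by
  obtain ⟨l, hl, hl0⟩ := (mem_scalarSim Q).1 hgg
  set G := (g : GL ι F).1 with hG
  set μ := (mult h g : F) with hμdef
  have hμ0 : μ ≠ 0 := (mult h g).ne_zero
  have hGG : ∀ x, G *ᵥ (G *ᵥ x) = l • x := fun x => by
    rw [Matrix.mulVec_mulVec, show G * G = l • (1 : Matrix ι ι F) from hl, Matrix.smul_mulVec,
      Matrix.one_mulVec]
  have hQG : ∀ x, Q (G *ᵥ x) = μ * Q x := mult_spec h g
  have hBG : ∀ x y, polar Q (G *ᵥ x) (G *ᵥ y) = μ * polar Q x y := fun x y => by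
    simp only [polar, ← Matrix.mulVec_add, hQG]; ring
  have hadj : ∀ x y, l * polar Q (G *ᵥ x) y = μ * polar Q x (G *ᵥ y) := fun x y => by
    rw [← hBG, hGG, polar_smul_right, smul_eq_mul]
  have hμl : μ * μ = l * l := by
    obtain ⟨v, hv⟩ := h.exists_ne_zero
    have e := hQG (G *ᵥ v)
    rw [hGG, QuadraticMap.map_smul, hQG, smul_eq_mul, ← mul_assoc] at e
    exact (mul_right_cancel₀ hv e).symm
  have h2 := h.two
  obtain ⟨c, hc⟩ := FiniteField.exists_nonsquare (ringChar_ne_two h2)
  have hc0 : c ≠ 0 := fun e => hc (e ▸ IsSquare.zero)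
  rcases mul_self_eq_mul_self_iff.1 hμl with hμ | hμ
  · -- self-adjoint
    have hsym : ∀ x y, polar Q (G *ᵥ x) y = polar Q x (G *ᵥ y) := fun x y =>
      mul_left_cancel₀ hl0 (by rw [hadj, hμ])
    by_cases hls : IsSquare l
    · obtain ⟨r, hr⟩ := hls
      have hr0 : r ≠ 0 := fun e => hl0 (by rw [hr, e, mul_zero])
      set T := Matrix.toLin' G with hT
      set Ep := LinearMap.ker (T - r • LinearMap.id) with hEp
      set Em := LinearMap.ker (T + r • LinearMap.id) with hEm
      have hmp : ∀ x, x ∈ Ep ↔ G *ᵥ x = r • x := fun x => by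
        simp [hEp, hT, sub_eq_zero]
      have hmm : ∀ x, x ∈ Em ↔ G *ᵥ x = -(r • x) := fun x => by
        simp [hEm, hT, add_eq_zero_iff_eq_neg]
      have hsup : Ep ⊔ Em = ⊤ := by
        refine eq_top_iff.2 fun x _ => Submodule.mem_sup.2
          ⟨(2 * r)⁻¹ • (r • x + G *ᵥ x), ?_, (2 * r)⁻¹ • (r • x - G *ᵥ x), ?_, ?_⟩
        · rw [hmp, Matrix.mulVec_smul, Matrix.mulVec_add, Matrix.mulVec_smul, hGG, hr]
          module
        · rw [hmm, Matrix.mulVec_smul, Matrix.mulVec_sub, Matrix.mulVec_smul, hGG, hr]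
          module
        · match_scalars <;> field_simp <;> ring
      have horth : ∀ x ∈ Ep, ∀ y ∈ Em, polar Q x y = 0 := fun x hx y hy => by
        have e := hsym x y
        rw [(hmp x).1 hx, (hmm y).1 hy, polar_smul_left, polar_neg_right, polar_smul_right] at e
        have e' : (2 * r) * polar Q x y = 0 := by
          simp only [smul_eq_mul] at e; linear_combination e
        exact (mul_eq_zero.1 e').resolve_left (mul_ne_zero h2 hr0)
      have hval : ∀ E E' : Submodule F (ι → F), E ⊔ E' = ⊤ →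
          (∀ x ∈ E, ∀ y ∈ E', polar Q x y = 0) → 2 ≤ finrank F E → ∀ d, ∃ x ∈ E, Q x = d := by
        intro E E' hs ho hn d
        have hreg : IsReg (Q.restrict E) := by
          intro x hx _
          refine Subtype.ext (h.nd.1 x.1 fun y => ?_)
          obtain ⟨y₁, hy₁, y₂, hy₂, rfl⟩ := Submodule.mem_sup.1 (hs ▸ Submodule.mem_top (x := y))
          show polar Q x.1 (y₁ + y₂) = 0
          rw [polar_add_right, ho _ x.2 _ hy₂, add_zero]
          exact hx ⟨y₁, hy₁⟩
        obtain ⟨x, hx⟩ := exists_map_eq hreg hn d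
        exact ⟨x.1, x.2, hx⟩
      obtain ⟨E, hE, ε, hε, hev⟩ : ∃ E : Submodule F (ι → F), (∀ d, ∃ x ∈ E, Q x = d) ∧
          ∃ ε : F, ε * ε = l ∧ ∀ x ∈ E, G *ᵥ x = ε • x := by
        have hn := Submodule.finrank_add_le_finrank_add_finrank Ep Em
        rw [hsup, finrank_top, finrank_pi] at hn
        have := h.five
        by_cases hp : 2 ≤ finrank F Ep
        · exact ⟨Ep, hval Ep Em hsup horth hp, r, hr.symm, fun x hx => (hmp x).1 hx⟩
        · refine ⟨Em, hval Em Ep (by rwa [sup_comm]) (fun x hx y hy => ?_) (by omega), -r,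
            by rw [hr]; ring, fun x hx => by rw [(hmm x).1 hx, neg_smul]⟩
          rw [polar_comm]; exact horth y hy x hx
      obtain ⟨u, huE, hu⟩ := hE 1
      obtain ⟨v, hvE, hv⟩ := hE c
      have hu0 : Q u ≠ 0 := by rw [hu]; exact one_ne_zero
      have hv0 : Q v ≠ 0 := by rw [hv]; exact hc0
      obtain ⟨hmem, hnot⟩ := pair_mem h u v hu0 hv0 (by rw [hu, hv, one_mul]; exact hc)
      have hcomm : ∀ w (hw : Q w ≠ 0), w ∈ E → ∀ x,
          (refl Q w hw).1 (G *ᵥ x) = G *ᵥ ((refl Q w hw).1 x) := fun w hw hwE x => by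
        rw [refl_apply, refl_apply, Matrix.mulVec_sub, Matrix.mulVec_smul, hev w hwE, ← hsym,
          hev w hwE, polar_smul_left, smul_eq_mul]
        module
      refine ⟨_, hmem, hnot, commute_of h _ _ fun x => ?_⟩
      rw [← hG, orth_mul_apply, orth_mul_apply, hcomm v hv0 hvE, hcomm u hu0 huE]
    · -- no eigenvalue: a vector orthogonal to its image
      obtain ⟨u, hu, hPu⟩ : ∃ u, Q u ≠ 0 ∧ polar Q u (G *ᵥ u) = 0 := by
        by_contra hc'
        push Not at hc'
        -- every vector orthogonal to its image is singular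
        have hne : ∀ u, polar Q u (G *ᵥ u) = 0 → Q u = 0 := fun u hu => by
          by_contra hq; exact hc' u hq hu
        obtain ⟨e, he, he0⟩ : ∃ e, polar Q e (G *ᵥ e) = 0 ∧ e ≠ 0 := by
          let R : QuadraticForm F (ι → F) := Q.comp (1 + Matrix.toLin' G) - Q - Q.comp (Matrix.toLin' G)
          have hR : ∀ x, R x = polar Q x (G *ᵥ x) := fun x => by
            simp [R, polar]
          obtain ⟨e, he, he0⟩ := QuadClassify.exists_singular R ⊤
            (by rw [finrank_top, finrank_pi]; have := h.five; omega)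
          exact ⟨e, (hR e) ▸ he0.2, he0.1⟩
        have hQe : Q e = 0 := hne e he
        obtain ⟨y, hy⟩ : ∃ y, polar Q e y = 1 := by
          obtain ⟨y, hy⟩ : ∃ y, polar Q e y ≠ 0 := by
            by_contra hx
            push Not at hx
            exact he0 (h.nd.1 e hx)
          exact ⟨(polar Q e y)⁻¹ • y, by rw [polar_smul_right, smul_eq_mul, inv_mul_cancel₀ hy]⟩
        set E := LinearMap.ker ((polarBilin Q) e) with hEdef
        have hmE : ∀ x, x ∈ E ↔ polar Q e x = 0 := fun x => Iff.rfl
        obtain ⟨v₀, hv₀E, hv₀⟩ : ∃ v₀ ∈ E, polar Q e (G *ᵥ v₀) ≠ 0 := by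
          by_contra hx
          push Not at hx
          have hGe : G *ᵥ e = polar Q e (G *ᵥ y) • e := by
            refine sub_eq_zero.1 (h.nd.1 _ fun x => ?_)
            show polar Q _ x = 0
            have hx' := hx (x - polar Q e x • y) (by
              rw [hmE, polar_sub_right, polar_smul_right, hy, smul_eq_mul, mul_one, sub_self])
            rw [Matrix.mulVec_sub, Matrix.mulVec_smul, polar_sub_right, polar_smul_right,
              smul_eq_mul] at hx'
            rw [polar_sub_left, polar_smul_left, hsym, smul_eq_mul]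
            linear_combination hx'
          have h1 := hGG e
          rw [hGe, Matrix.mulVec_smul, hGe, smul_smul] at h1
          exact hls ⟨_, (smul_left_injective F he0 h1).symm⟩
        obtain ⟨v, hvE, hvL, hvQ⟩ : ∃ v ∈ E, polar Q e (G *ᵥ v) ≠ 0 ∧ Q v ≠ 0 := by
          by_contra hx
          push Not at hx
          have hz : ∀ x ∈ E, Q x = 0 := by
            intro x hxE
            set a := polar Q e (G *ᵥ x) / polar Q e (G *ᵥ v₀) with ha
            set w := x - a • v₀ with hw
            have hwE : w ∈ E := E.sub_mem hxE (E.smul_mem _ hv₀E)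
            have hwL : polar Q e (G *ᵥ w) = 0 := by
              rw [hw, Matrix.mulVec_sub, Matrix.mulVec_smul, polar_sub_right, polar_smul_right,
                smul_eq_mul, ha, div_mul_cancel₀ _ hv₀, sub_self]
            have h0 := hx v₀ hv₀E hv₀
            have hp := hx (v₀ + w) (E.add_mem hv₀E hwE) (by
              rwa [Matrix.mulVec_add, polar_add_right, hwL, add_zero])
            have hm := hx (v₀ - w) (E.sub_mem hv₀E hwE) (by
              rwa [Matrix.mulVec_sub, polar_sub_right, hwL, sub_zero])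
            rw [QuadraticMap.map_add (⇑Q), h0] at hp
            rw [sub_eq_add_neg, QuadraticMap.map_add (⇑Q), h0, QuadraticMap.map_neg,
              polar_neg_right] at hm
            have hw0 : Q w = 0 :=
              (mul_eq_zero.1 (show 2 * Q w = 0 by linear_combination hp + hm)).resolve_left h2
            have hvw : polar Q v₀ w = 0 := by linear_combination hp - hw0
            have ex : x = a • v₀ + w := by rw [hw]; abel
            rw [ex, QuadraticMap.map_add (⇑Q), QuadraticMap.map_smul, h0, hw0, polar_smul_left, hvw]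
            simp
          have h1 := two_finrank_le h.nd (U := E) hz
          have h3 := LinearMap.finrank_range_add_finrank_ker ((polarBilin Q) e)
          have h4 := Submodule.finrank_le (LinearMap.range ((polarBilin Q) e))
          rw [finrank_self] at h4
          rw [finrank_pi] at h1 h3
          have := h.five
          change _ + finrank F E = _ at h3
          omega
        set t := -(polar Q v (G *ᵥ v)) / (2 * polar Q e (G *ᵥ v)) with ht
        refine hc' (v + t • e) ?_ ?_
        · rwa [QuadraticMap.map_add (⇑Q), QuadraticMap.map_smul, hQe, polar_smul_right, polar_comm,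
            (hmE v).1 hvE, smul_zero, smul_zero, add_zero, add_zero]
        · have hve : polar Q v (G *ᵥ e) = polar Q e (G *ᵥ v) := by rw [← hsym, polar_comm]
          rw [Matrix.mulVec_add, Matrix.mulVec_smul]
          simp only [polar_add_left, polar_add_right, polar_smul_left, polar_smul_right, smul_eq_mul,
            he, hve]
          rw [ht]; field_simp; ring
      have hgu0 : Q (G *ᵥ u) ≠ 0 := by rw [hQG]; exact mul_ne_zero hμ0 hu
      obtain ⟨hmem, hnot⟩ := pair_mem h u (G *ᵥ u) hu hgu0 (by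
        rw [hQG, hμ]
        rintro ⟨s, hs⟩
        exact hls ⟨s / Q u, by field_simp; linear_combination hs⟩)
      refine ⟨_, hmem, hnot, commute_of h _ _ fun x => ?_⟩
      rw [← hG, orth_mul_apply, orth_mul_apply, refl_apply, refl_apply, refl_apply, refl_apply,
        polar_sub_right, polar_sub_right, polar_smul_right, polar_smul_right, hPu, hQG, hμ,
        Matrix.mulVec_sub, Matrix.mulVec_sub, Matrix.mulVec_smul, Matrix.mulVec_smul, hGG,
        ← hsym u x, hBG, hμ]
      simp only [smul_eq_mul, mul_zero, sub_zero]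
      match_scalars <;> field_simp <;> rw [← hαβ] <;> ring
  · -- skew
    have hskew : ∀ x y, polar Q (G *ᵥ x) y = -polar Q x (G *ᵥ y) := fun x y =>
      mul_left_cancel₀ hl0 (by rw [hadj, hμ]; ring)
    obtain ⟨u, hu⟩ := h.exists_ne_zero
    have hPu : polar Q u (G *ᵥ u) = 0 := by
      have e := hskew u u
      rw [polar_comm] at e
      exact (mul_eq_zero.1 (show 2 * polar Q u (G *ᵥ u) = 0 by linear_combination e)).resolve_left h2
    obtain ⟨α, β, hαβ⟩ : ∃ α β : F, α ^ 2 - l * β ^ 2 = c := by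
      obtain ⟨α, β, e⟩ := FiniteField.exists_root_sum_quadratic
        (f := Polynomial.X ^ 2) (g := Polynomial.C (-l) * Polynomial.X ^ 2 - Polynomial.C c)
        (Polynomial.degree_X_pow 2) (by
          rw [Polynomial.degree_sub_C]
          · exact Polynomial.degree_C_mul_X_pow 2 (neg_ne_zero.2 hl0)
          · rw [Polynomial.degree_C_mul_X_pow 2 (neg_ne_zero.2 hl0)]; exact Nat.cast_pos.2 two_pos)
        (FiniteField.odd_card_of_char_ne_two (ringChar_ne_two h2))
      exact ⟨α, β, by simp at e; linear_combination e⟩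
    set v := α • u + β • (G *ᵥ u) with hv
    have hQv : Q v = c * Q u := by
      rw [hv, QuadraticMap.map_add (⇑Q), QuadraticMap.map_smul, QuadraticMap.map_smul,
        polar_smul_left, polar_smul_right, hPu, hQG, hμ, ← hαβ]
      simp only [smul_eq_mul]; ring
    have hv0 : Q v ≠ 0 := by rw [hQv]; exact mul_ne_zero hc0 hu
    obtain ⟨hmem, hnot⟩ := pair_mem h v u hv0 hu (by
      rw [hQv]
      rintro ⟨s, hs⟩
      exact hc ⟨s / Q u, by field_simp; linear_combination hs⟩)
    have hvu : polar Q v u = α * (2 * Q u) := by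
      rw [hv, polar_add_left, polar_smul_left, polar_smul_left, polar_self, polar_comm Q (G *ᵥ u),
        hPu]
      simp [nsmul_eq_mul]
    refine ⟨_, hmem, hnot, commute_of h _ _ fun x => ?_⟩
    have e1 : ∀ y, polar Q v y = α * polar Q u y + β * polar Q (G *ᵥ u) y := fun y => by
      simp [hv, polar_add_left, polar_smul_left]
    have e2 : polar Q u (G *ᵥ x) = -polar Q (G *ᵥ u) x := by rw [hskew, neg_neg]
    have e3 : polar Q (G *ᵥ u) (G *ᵥ x) = -(l * polar Q u x) := by rw [hBG, hμ, neg_mul]
    rw [← hG, orth_mul_apply, orth_mul_apply, refl_apply, refl_apply, refl_apply, refl_apply,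
      polar_sub_right, polar_sub_right, polar_smul_right, polar_smul_right, hvu, hQv, e1, e1, e2, e3,
      hv]
    simp only [smul_eq_mul, Matrix.mulVec_sub, Matrix.mulVec_smul, Matrix.mulVec_add, hGG]
    match_scalars <;> field_simp <;> rw [← hαβ] <;> ring

/-- The comparison of commutators with a reflection, in the inner quotient. -/
theorem comm_not_inn (hneg : NegMem Q) {s g : Sim Q} (hs : s ∈ S1 h) (hg : g ∉ S1 h)
    (hsm : ¬ IsSquare (mult h s : F)) : ⁅s, g⁆ ∉ innSim Q := by
  obtain ⟨u, hu⟩ := h.exists_ne_zero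
  set t := ofOrth (refl Q u hu) with ht
  have htd : dHom h t = -1 := by rw [dHom_ofOrth, detHom_refl]
  have hs1 : t⁻¹ * g ∈ S1 h := by
    rw [mem_S1, map_mul, map_inv, htd]
    rcases dHom_cases h g with e | e
    · exact absurd ((mem_S1 h).2 e) hg
    · rw [e, inv_mul_cancel]
  have hab : ∀ a ∈ S1 h, ∀ b ∈ S1 h, ⁅a, b⁆ ∈ innSim Q := by
    intro a ha b hb
    obtain ⟨-, h4, hV⟩ := exists_S1_quotient h
    rcases Nat.even_or_odd M with hM | hM
    · obtain ⟨χ, -, hk⟩ := hV hneg hM
      have : ⁅(⟨a, ha⟩ : S1 h), ⟨b, hb⟩⁆ ∈ χ.ker := by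
        rw [MonoidHom.mem_ker, map_commutatorElement]
        exact commutatorElement_eq_one_iff_mul_comm.2 (mul_comm _ _)
      rw [hk] at this
      exact this
    · obtain ⟨χ, -, hk⟩ := h4 hneg hM
      have : ⁅(⟨a, ha⟩ : S1 h), ⟨b, hb⟩⁆ ∈ χ.ker := by
        rw [MonoidHom.mem_ker, map_commutatorElement]
        exact commutatorElement_eq_one_iff_mul_comm.2 (mul_comm _ _)
      rw [hk] at this
      exact this
  intro hc
  refine (comm_refl_not_mem h hneg hsm hu).2 ?_
  have e : ⁅s, g⁆ = ⁅s, t⁆ * (t * ⁅s, t⁻¹ * g⁆ * t⁻¹) := by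
    simp only [commutatorElement_def]; group
  rw [e] at hc
  exact (Subgroup.mul_mem_cancel_right _
    ((innSim_normal Q).conj_mem _ (hab s hs _ hs1) t)).1 hc

/-- The class of an involution outside the inner-diagonal group. -/
theorem split_count {g : Sim Q} (hg : g ∉ S1 h) (h2g : conjP Q g * conjP Q g = 1)
    (H : Subgroup (MulAut (POmega F ⇑Q))) (hH : H = (S1 h).map (conjP Q)) :
    (splitClassCount H (Inn (POmega F ⇑Q)) (conjP Q g) = 1 ∨
      splitClassCount H (Inn (POmega F ⇑Q)) (conjP Q g) = 2) ∧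
    (NegMem Q → splitClassCount H (Inn (POmega F ⇑Q)) (conjP Q g) = 2) := by
  have hgg : g * g ∈ scalarSim Q := by
    rw [← ker_conjP Q h.nd h.five, MonoidHom.mem_ker, map_mul, h2g]
  set S := S1 h
  set π := (conjP Q).comp S.subtype with hπ
  set N := (innSim Q).subgroupOf S with hN
  have hle : innSim Q ≤ S := (innSim_le_K h).trans (K_le_S1 h)
  have hrange : H = π.range := by
    rw [hH, hπ, MonoidHom.range_comp, Subgroup.range_subtype]
  have hinn : Inn (POmega F ⇑Q) = N.map π := by
    rw [hN, hπ, ← Subgroup.map_map, Subgroup.map_subgroupOf_eq_of_le hle]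
    refine (Subgroup.map_comap_eq_self ?_).symm
    rw [inn_eq]
    rintro _ ⟨x, -, rfl⟩
    exact ⟨x, rfl⟩
  rw [hinn, hrange, SplitClassIndex.splitClassCount_eq π N]
  set C := (Subgroup.centralizer ({conjP Q g} : Set (MulAut (POmega F ⇑Q)))).comap π
  have hsplit : NegMem Q → (N ⊔ C).index = 2 := by
    intro hneg
    have hC : ∀ s : S, s ∈ C ↔ ⁅(s : Sim Q), g⁆ ∈ scalarSim Q := fun s => by
      rw [← ker_conjP Q h.nd h.five, MonoidHom.mem_ker, map_commutatorElement,
        commutatorElement_eq_one_iff_mul_comm]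
      show π s ∈ Subgroup.centralizer _ ↔ _
      rw [Subgroup.mem_centralizer_singleton_iff]
      rfl
    set K' := (K h).subgroupOf S with hK'
    have hK'i : K'.index = 2 := by
      have e := Subgroup.relIndex_mul_index (K_le_S1 h)
      rw [index_S1 h, index_K h] at e
      show (K h).relIndex (S1 h) = 2
      omega
    have hNi : N.index = 4 := relIndex_S1 h hneg
    have hJK : N ⊔ C ≤ K' := by
      refine sup_le (fun x hx => innSim_le_K h hx) fun s hs => ?_
      rw [hK', Subgroup.mem_subgroupOf]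
      by_contra hsK
      refine comm_not_inn h hneg s.2 hg (fun hsq => hsK ((mem_K h).2 ⟨s.2, hsq⟩)) ?_
      rw [innSim_eq Q h.nd h.five]
      exact Subgroup.mem_sup_right ((hC s).1 hs)
    obtain ⟨k, hk, hk', hcomm⟩ := exists_commuting h hgg
    have hkS : k ∈ S := K_le_S1 h (SOs_le_K h hk)
    have hkC : (⟨k, hkS⟩ : S) ∈ C := by
      rw [hC, commutatorElement_eq_one_iff_mul_comm.2 hcomm]
      exact Subgroup.one_mem _
    have hne : N ⊔ C ≠ N := fun e => hk' ((mem_innSim_iff_of_neg h hneg hk).1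
      (show (⟨k, hkS⟩ : S) ∈ N from e ▸ Subgroup.mem_sup_right hkC))
    have h1 : (N ⊔ C).index ∣ 4 := hNi ▸ Subgroup.index_dvd_of_le le_sup_left
    have h2' : 2 ∣ (N ⊔ C).index := hK'i ▸ Subgroup.index_dvd_of_le hJK
    have h3 : (N ⊔ C).index ≠ 4 := fun e => hne (le_antisymm (by
      have hr := Subgroup.relIndex_mul_index (le_sup_left : N ≤ N ⊔ C)
      rw [e, hNi] at hr
      exact Subgroup.relIndex_eq_one.1 (by omega)) le_sup_left)
    have := Nat.le_of_dvd (by norm_num) h1
    interval_cases (N ⊔ C).index <;> omega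
  refine ⟨?_, hsplit⟩
  by_cases hneg : NegMem Q
  · exact Or.inr (hsplit hneg)
  · have hNi : N.index = 2 := by
      have e := Subgroup.relIndex_mul_index (show innSim Q ≤ S1 h from hle)
      rw [← K_eq_innSim h hneg, index_K h, index_S1 h] at e
      show (innSim Q).relIndex (S1 h) = 2
      rw [← K_eq_innSim h hneg]
      omega
    exact (Nat.dvd_prime Nat.prime_two).1 (hNi ▸ Subgroup.index_dvd_of_le le_sup_left)

end Centralising

end Cfsg.Agent.OrthGraphSplit

namespace Cfsg.Agent.OrthGraphSplit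

open scoped Matrix MatrixGroups
open Cfsg.Agent.OrthUnitarySimAut
open Cfsg.Agent.OrthUnitarySimilar

/-- The splitting, read at an equal function. -/
theorem split_count' {ι : Type} [Fintype ι] [DecidableEq ι] {F : Type*} [Field F] [Fintype F]
    {Q : QuadraticForm F (ι → F)} {M : ℕ} (h : Good Q M) (R : ((ι → F) → F) → GL ι F → Prop)
    (hR : ∀ g : Sim Q, R (⇑Q) (g : GL ι F) ↔ g ∈ S1 h)
    (f : (ι → F) → F) (hf : ⇑Q = f) (S : Subgroup (MulAut (POmega F f)))
    (hS : S = autSubgroupOf fun β => ∃ g : GL ι F, g ∈ Geo.quadSimilarityGroup (F := F) f ∧ R f g ∧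
      IsInducedBySemilinearPOmega f g (RingEquiv.refl F) β)
    (γ : MulAut (POmega F f))
    (hγ : ∃ g : GL ι F, g ∈ Geo.quadSimilarityGroup (F := F) f ∧ ¬ R f g ∧
      IsInducedBySemilinearPOmega f g (RingEquiv.refl F) γ)
    (hγ2 : orderOf γ = 2) :
    (splitClassCount S (Inn (POmega F f)) γ = 1 ∨ splitClassCount S (Inn (POmega F f)) γ = 2) ∧
    (NegMem Q → splitClassCount S (Inn (POmega F f)) γ = 2) := by
  subst hf
  obtain ⟨g, hg, hgR, hgi⟩ := hγ
  rw [(induced_iff Q g hg γ).1 hgi] at hγ2 ⊢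
  refine split_count h (fun hm => hgR ((hR ⟨g, hg⟩).2 hm)) ?_ S ?_
  · rw [← pow_two, ← hγ2, pow_orderOf_eq_one]
  · rw [hS]
    refine autSubgroupOf_eq Q _ (S1 h) fun β => ⟨?_, ?_⟩
    · rintro ⟨g, hg, hr, hi⟩
      exact ⟨⟨g, hg⟩, (hR ⟨g, hg⟩).1 hr, (induced_iff Q g hg β).1 hi⟩
    · rintro ⟨g, hg, rfl⟩
      exact ⟨g.1, g.2, (hR g).2 hg, (induced_iff Q g.1 g.2 _).2 rfl⟩

end Cfsg.Agent.OrthGraphSplit
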