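import Mathlib
import Cfsg.Prelude.Def_LieTypeDatum
import Cfsg.Agent.Lib.OrthGraphSplit
import Cfsg.Agent.Lib.OrthUnitarySimClasses

/-!
The case of half dimension even: an involutory similarity outside the inner-diagonal group is a
scalar times an isometry with eigenspaces of odd dimension, and its centraliser has square
multipliers.
-/

set_option autoImplicit false
set_option linter.unusedSectionVars false

namespace Cfsg.Agent.OrthGraphSplit

open QuadraticMap Module
open scoped Matrix MatrixGroups commutatorElement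
open Cfsg.Agent.OrthUnitaryQuad
open Cfsg.Agent.OrthUnitaryRefl
open Cfsg.Agent.OrthUnitaryOmega
open Cfsg.Agent.OrthUnitaryPrelude
open Cfsg.Agent.OmegaClasses
open Cfsg.Agent.OrthUnitarySimAut
open Cfsg.Agent.OrthUnitarySimilar

section Linear

variable {F V : Type*} [Field F] [AddCommGroup V] [Module F V] [FiniteDimensional F V]

/-- The determinant of an involution. -/
theorem det_involution (h2 : (2 : F) ≠ 0) (t : V →ₗ[F] V) (ht : ∀ x, t (t x) = x) :
    LinearMap.det t = (-1) ^ finrank F (LinearMap.ker (t + LinearMap.id)) := by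
  set P := LinearMap.ker (t - LinearMap.id) with hP
  set N := LinearMap.ker (t + LinearMap.id) with hN
  have hmP : ∀ x, x ∈ P ↔ t x = x := fun x => by simp [hP, sub_eq_zero]
  have hmN : ∀ x, x ∈ N ↔ t x = -x := fun x => by simp [hN, add_eq_zero_iff_eq_neg]
  have hc : IsCompl P N := by
    refine ⟨Submodule.disjoint_def.2 fun x hx hx' => ?_, codisjoint_iff.2 (eq_top_iff.2 fun x _ => ?_)⟩
    · have h : (2 : F) • x = 0 := by
        rw [two_smul]; nth_rewrite 1 [← (hmP x).1 hx]; rw [(hmN x).1 hx', neg_add_cancel]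
      exact (smul_eq_zero.1 h).resolve_left h2
    · refine Submodule.mem_sup.2 ⟨(2 : F)⁻¹ • (x + t x), ?_, (2 : F)⁻¹ • (x - t x), ?_, ?_⟩
      · rw [hmP, map_smul, map_add, ht, add_comm]
      · rw [hmN, map_smul, map_sub, ht, ← smul_neg, neg_sub]
      · match_scalars <;> field_simp <;> ring
  have e : t = (Submodule.prodEquivOfIsCompl P N hc : (P × N) →ₗ[F] V) ∘ₗ
      ((LinearMap.id : P →ₗ[F] P).prodMap (-LinearMap.id : N →ₗ[F] N)) ∘ₗ
      ((Submodule.prodEquivOfIsCompl P N hc).symm : V →ₗ[F] P × N) := by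
    refine LinearMap.ext fun x => ?_
    obtain ⟨p, rfl⟩ := (Submodule.prodEquivOfIsCompl P N hc).surjective x
    rw [LinearMap.comp_apply, LinearMap.comp_apply, LinearEquiv.coe_coe, LinearEquiv.coe_coe,
      LinearEquiv.symm_apply_apply, LinearMap.prodMap_apply]
    simp only [Submodule.coe_prodEquivOfIsCompl', LinearMap.id_apply, LinearMap.neg_apply,
      Submodule.coe_neg, map_add]
    rw [(hmP _).1 p.1.2, (hmN _).1 p.2.2]
  conv_lhs => rw [e, LinearMap.det_conj, LinearMap.det_prodMap]
  rw [show (-LinearMap.id : N →ₗ[F] N) = (-1 : F) • LinearMap.id from (neg_one_smul F _).symm, LinearMap.det_smul,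
    LinearMap.det_id, LinearMap.det_id, one_mul, mul_one]

/-- A map with square a non-square scalar. -/
theorem det_of_sq_nonsquare {M : ℕ} (hd : finrank F V = 2 * M) (T : V →ₗ[F] V) {l : F}
    (hT : ∀ x, T (T x) = l • x) (hl : ¬ IsSquare l) : LinearMap.det T = (-1) ^ M * l ^ M := by
  have key : ∀ k ≤ M, ∃ w : Fin k → V, LinearIndependent F (Sum.elim (fun i => T (w i)) w) := by
    intro k
    induction k with
    | zero => exact fun _ => ⟨Fin.elim0, linearIndependent_empty_type⟩
    | succ k ih =>
      intro hk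
      obtain ⟨w, hw⟩ := ih (by omega)
      set S := Submodule.span F (Set.range (Sum.elim (fun i => T (w i)) w)) with hS
      have hTS : ∀ x ∈ S, T x ∈ S := by
        intro x hx
        induction hx using Submodule.span_induction with
        | mem y hy =>
          obtain ⟨i | i, rfl⟩ := hy
          · simp only [Sum.elim_inl, hT]
            exact S.smul_mem _ (Submodule.subset_span ⟨Sum.inr i, rfl⟩)
          · exact Submodule.subset_span ⟨Sum.inl i, rfl⟩
        | zero => rw [map_zero]; exact S.zero_mem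
        | add a b _ _ ha hb => rw [map_add]; exact S.add_mem ha hb
        | smul a x _ hx => rw [map_smul]; exact S.smul_mem a hx
      obtain ⟨v, -, hv⟩ : ∃ v ∈ (⊤ : Submodule F V), v ∉ S := SetLike.not_le_iff_exists.1 fun htop => by
        have h1 := finrank_span_eq_card hw
        rw [Fintype.card_sum, Fintype.card_fin, ← hS, top_le_iff.1 htop, finrank_top, hd] at h1
        omega
      refine ⟨Fin.cons v w, ?_⟩
      rw [Fintype.linearIndependent_iff]
      intro g hg
      have hsum : g (.inl 0) • T v + g (.inr 0) • v +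
          ∑ j, Sum.elim (fun i : Fin k => g (.inl i.succ)) (fun i => g (.inr i.succ)) j •
            Sum.elim (fun i => T (w i)) w j = 0 := by
        rw [← hg, Fintype.sum_sum_type, Fintype.sum_sum_type, Fin.sum_univ_succ, Fin.sum_univ_succ]
        simp only [Sum.elim_inl, Sum.elim_inr, Fin.cons_zero, Fin.cons_succ]
        abel
      have hmem : g (.inl 0) • T v + g (.inr 0) • v ∈ S := by
        rw [add_eq_zero_iff_eq_neg.1 hsum]
        exact S.neg_mem (S.sum_mem fun j _ => S.smul_mem _ (Submodule.subset_span ⟨j, rfl⟩))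
      obtain ⟨ha, hb⟩ : g (.inl 0) = 0 ∧ g (.inr 0) = 0 := by
        set a := g (.inl 0)
        set b := g (.inr 0)
        by_cases ha : a = 0
        · refine ⟨ha, by_contra fun hb => hv ?_⟩
          have h := S.smul_mem b⁻¹ hmem
          rwa [ha, zero_smul, zero_add, smul_smul, inv_mul_cancel₀ hb, one_smul] at h
        · exfalso
          have h1 : T v + (b / a) • v ∈ S := by
            have h := S.smul_mem a⁻¹ hmem
            rwa [smul_add, smul_smul, smul_smul, inv_mul_cancel₀ ha, one_smul, mul_comm,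
              ← div_eq_mul_inv] at h
          have h2 := S.sub_mem (hTS _ h1) (S.smul_mem (b / a) h1)
          rw [map_add, map_smul, hT, smul_add, smul_smul] at h2
          have hne : l - b / a * (b / a) ≠ 0 := fun e => hl ⟨b / a, sub_eq_zero.1 e⟩
          refine hv ?_
          have h := S.smul_mem (l - b / a * (b / a))⁻¹ h2
          rw [show l • v + (b / a) • T v - ((b / a) • T v + (b / a * (b / a)) • v)
            = (l - b / a * (b / a)) • v by module, smul_smul, inv_mul_cancel₀ hne, one_smul] at h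
          exact h
      rw [ha, hb, zero_smul, zero_smul, zero_add, zero_add] at hsum
      have hz := Fintype.linearIndependent_iff.1 hw _ hsum
      rintro (i | i) <;> induction i using Fin.cases with
      | zero => assumption
      | succ i => first | exact hz (Sum.inl i) | exact hz (Sum.inr i)
  obtain ⟨w, hw⟩ := key M le_rfl
  rcases Nat.eq_zero_or_pos M with rfl | hM
  · haveI : Subsingleton V := Module.finrank_zero_iff.1 (by simpa using hd)
    rw [Subsingleton.elim T LinearMap.id, LinearMap.det_id, pow_zero, pow_zero, one_mul]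
  haveI : Nonempty (Fin M ⊕ Fin M) := ⟨Sum.inl ⟨0, hM⟩⟩
  set b := basisOfLinearIndependentOfCardEqFinrank hw (by simp [hd]; omega) with hb
  have hmat : LinearMap.toMatrix b b T = Matrix.fromBlocks 0 (1 : Matrix (Fin M) (Fin M) F) (l • 1) 0 := by
    ext i j
    rw [LinearMap.toMatrix_apply]
    rcases j with j | j
    · have : T (b (.inl j)) = l • b (.inr j) := by simp [hb, hT]
      rw [this, map_smul, Finsupp.smul_apply, b.repr_self, Finsupp.single_apply]
      rcases i with i | i <;> simp [Matrix.one_apply, eq_comm]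
    · have : T (b (.inr j)) = b (.inl j) := by simp [hb]
      rw [this, b.repr_self, Finsupp.single_apply]
      rcases i with i | i <;> simp [Matrix.one_apply, eq_comm]
  rw [← LinearMap.det_toMatrix b, hmat]
  rw [show Matrix.fromBlocks 0 (1 : Matrix (Fin M) (Fin M) F) (l • 1) 0 =
      Matrix.fromBlocks 1 0 0 (l • 1) * Matrix.fromBlocks 0 1 1 0 by simp [Matrix.fromBlocks_multiply],
    Matrix.det_mul, Matrix.det_fromBlocks_zero₂₁, FiniteFormClass.det_swap,
    Matrix.det_one, one_mul, Matrix.det_smul, Matrix.det_one, mul_one, Fintype.card_fin, mul_comm]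

/-- The multiplier of a similarity of an odd-dimensional regular form is a square. -/
theorem isSquare_mult_odd {R : QuadraticForm F V} (hnd : (polarBilin R).Nondegenerate)
    (hodd : Odd (finrank F V)) {μ : F} (f : V →ₗ[F] V) (hf : ∀ x, R (f x) = μ * R x)
    (hμ : μ ≠ 0) : IsSquare μ := by
  set b := Module.finBasis F V
  have hdet := (LinearMap.nondegenerate_iff_det_ne_zero b).1 hnd
  have e : (polarBilin R).compl₁₂ f f = μ • polarBilin R := LinearMap.ext₂ fun x y => by
    simp only [LinearMap.compl₁₂_apply, polarBilin_apply_apply, LinearMap.smul_apply, smul_eq_mul,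
      polar, ← map_add, hf]
    ring
  have h := LinearMap.toMatrix₂_compl₁₂ b b b b (polarBilin R) f f
  rw [e, map_smul] at h
  have h' := congrArg Matrix.det h
  rw [Matrix.det_smul, Matrix.det_mul, Matrix.det_mul, Matrix.det_transpose, Fintype.card_fin] at h'
  obtain ⟨r, hr⟩ := hodd
  set d := (LinearMap.toMatrix b b f).det
  have hμn : μ ^ finrank F V = d * d := mul_right_cancel₀ hdet (h'.trans (by ring))
  rw [hr, pow_succ, pow_mul'] at hμn
  refine ⟨d / μ ^ r, ?_⟩
  rw [div_mul_div_comm, ← hμn]
  field_simp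

end Linear

variable {ι : Type} [Fintype ι] [DecidableEq ι] {F : Type*} [Field F] [Fintype F]
  {Q : QuadraticForm F (ι → F)} {M : ℕ} (h : Good Q M)

include h

/-- An element commuting modulo scalars has square multiplier. -/
theorem isSquare_of_commute (hM : Even M) {g s : Sim Q} (hg : g ∉ S1 h)
    (hgg : g * g ∈ scalarSim Q) (hsg : ⁅s, g⁆ ∈ scalarSim Q) : IsSquare (mult h s : F) := by
  obtain ⟨l, hl, hl0⟩ := (mem_scalarSim Q).1 hgg
  set G := (g : GL ι F).1 with hG
  set μ := (mult h g : F) with hμdef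
  have h2 := h.two
  have hGG : ∀ x, G *ᵥ (G *ᵥ x) = l • x := fun x => by
    rw [Matrix.mulVec_mulVec, show G * G = l • (1 : Matrix ι ι F) from hl, Matrix.smul_mulVec,
      Matrix.one_mulVec]
  have hQG : ∀ x, Q (G *ᵥ x) = μ * Q x := mult_spec h g
  have hμl : μ * μ = l * l := by
    obtain ⟨v, hv⟩ := h.exists_ne_zero
    have e := hQG (G *ᵥ v)
    rw [hGG, QuadraticMap.map_smul, hQG, smul_eq_mul, ← mul_assoc] at e
    exact (mul_right_cancel₀ hv e).symm
  have hμpow : μ ^ M = l ^ M := by
    obtain ⟨k, hk⟩ := hM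
    rw [hk, ← two_mul, pow_mul, pow_mul, pow_two, pow_two, hμl]
  have hdne : G.det ≠ l ^ M := by
    rw [← hμpow]
    exact fun e => hg ((mem_S1 h).2 ((dHom_eq_one_iff h g).2 e))
  have hfr : finrank F (ι → F) = 2 * M := by rw [finrank_pi, h.card]
  by_cases hls : IsSquare l
  swap
  · refine absurd ?_ hdne
    have e := det_of_sq_nonsquare hfr (Matrix.toLin' G) (fun x => by simpa using hGG x) hls
    rwa [LinearMap.det_toLin', hM.neg_one_pow, one_mul] at e
  obtain ⟨r, hr⟩ := hls
  have hr0 : r ≠ 0 := fun e => hl0 (by rw [hr, e, mul_zero])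
  set t : (ι → F) →ₗ[F] (ι → F) := r⁻¹ • Matrix.toLin' G with ht
  have hta : ∀ x, t x = r⁻¹ • (G *ᵥ x) := fun x => by simp [ht]
  have htt : ∀ x, t (t x) = x := fun x => by
    rw [hta, hta, Matrix.mulVec_smul, hGG, smul_smul, smul_smul, hr]
    field_simp
    exact one_smul F x
  set N := LinearMap.ker (t + LinearMap.id) with hN
  set P := LinearMap.ker (t - LinearMap.id) with hP
  have hmN : ∀ x, x ∈ N ↔ t x = -x := fun x => by simp [hN, add_eq_zero_iff_eq_neg]
  have hmP : ∀ x, x ∈ P ↔ t x = x := fun x => by simp [hP, sub_eq_zero]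
  have hdecomp : ∀ y, ∃ p ∈ P, ∃ n ∈ N, y = p + n := fun y =>
    ⟨(2 : F)⁻¹ • (y + t y), by rw [hmP, map_smul, map_add, htt, add_comm],
      (2 : F)⁻¹ • (y - t y), by rw [hmN, map_smul, map_sub, htt, ← smul_neg, neg_sub],
      by match_scalars <;> field_simp <;> ring⟩
  have hsum : finrank F P + finrank F N = 2 * M := by
    rw [← hfr, ← Submodule.finrank_sup_add_finrank_inf_eq,
      show P ⊔ N = ⊤ from eq_top_iff.2 fun y _ => by
        obtain ⟨p, hp, n, hn, rfl⟩ := hdecomp y
        exact Submodule.add_mem_sup hp hn,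
      show P ⊓ N = ⊥ from eq_bot_iff.2 fun y hy => by
        have h' : (2 : F) • y = 0 := by
          rw [two_smul]; nth_rewrite 1 [← (hmP y).1 hy.1]; rw [(hmN y).1 hy.2, neg_add_cancel]
        exact (smul_eq_zero.1 h').resolve_left h2, finrank_top, finrank_bot, add_zero]
  have hdetN : G.det = (-1) ^ finrank F N * l ^ M := by
    have e := det_involution h2 t htt
    rw [ht, LinearMap.det_smul, LinearMap.det_toLin', hfr, ← hN] at e
    rw [← e, inv_pow, hr, ← pow_two r, ← pow_mul, mul_right_comm,
      inv_mul_cancel₀ (pow_ne_zero _ hr0), one_mul]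
  have hNodd : Odd (finrank F N) := by
    rcases Nat.even_or_odd (finrank F N) with he | ho
    · exact absurd (by rw [hdetN, he.neg_one_pow, one_mul]) hdne
    · exact ho
  have hμeq : μ = l := by
    refine (mul_self_eq_mul_self_iff.1 hμl).resolve_right fun hμ => ?_
    -- anti-isometry: both eigenspaces are totally singular
    have hz : ∀ x, (t x = x ∨ t x = -x) → Q x = 0 := fun x hx => by
      have e : Q (t x) = -Q x := by
        rw [hta, QuadraticMap.map_smul, hQG, hμ, hr, smul_eq_mul]; field_simp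
      have e' : Q (t x) = Q x := by
        rcases hx with hx | hx <;> rw [hx]
        exact QuadraticMap.map_neg _ _
      exact (mul_eq_zero.1 (show 2 * Q x = 0 by linear_combination e.symm.trans e' |>.symm)).resolve_left h2
    have h1 := two_finrank_le h.nd (U := N) fun x hx => hz x (Or.inr ((hmN x).1 hx))
    have h3 := two_finrank_le h.nd (U := P) fun x hx => hz x (Or.inl ((hmP x).1 hx))
    rw [finrank_pi, h.card] at h1 h3
    have : finrank F N = M := by omega
    exact Nat.not_even_iff_odd.2 hNodd (this ▸ hM)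
  have hQt : ∀ x, Q (t x) = Q x := fun x => by
    rw [hta, QuadraticMap.map_smul, hQG, hμeq, hr, smul_eq_mul]; field_simp
  have hPN : ∀ p ∈ P, ∀ n ∈ N, polar Q p n = 0 := fun p hp n hn => by
    have e : polar Q (t p) (t n) = polar Q p n := by simp only [polar, ← map_add, hQt]
    rw [(hmP p).1 hp, (hmN n).1 hn, polar_neg_right] at e
    exact (mul_eq_zero.1 (show 2 * polar Q p n = 0 by linear_combination -e)).resolve_left h2
  set S := (s : GL ι F).1 with hS
  obtain ⟨ν, hν, hν0⟩ := (mem_scalarSim Q).1 hsg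
  have hst : ∀ x, S *ᵥ (t x) = ν • t (S *ᵥ x) := fun x => by
    have e : (s : GL ι F) * (g : GL ι F) = (⁅s, g⁆ : Sim Q) * ((g : GL ι F) * (s : GL ι F)) := by
      simp only [commutatorElement_def, Subgroup.coe_mul, Subgroup.coe_inv]; group
    have e' := congrArg (fun u : GL ι F => u.1 *ᵥ x) e
    simp only [Units.val_mul, hν, Matrix.smul_mul, Matrix.one_mul, Matrix.smul_mulVec,
      ← Matrix.mulVec_mulVec] at e'
    rw [hta, hta, Matrix.mulVec_smul, ← hG] at *
    rw [show S *ᵥ G *ᵥ x = ν • G *ᵥ S *ᵥ x from e', smul_comm]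
  have hSinj : Function.Injective S.mulVec := sim_injective Q s
  have hνν : ν * ν = 1 := by
    obtain ⟨v, hv⟩ := h.exists_ne_zero
    have e := hst (t v)
    rw [htt, hst v, map_smul, htt, smul_smul] at e
    have hv0 : S *ᵥ v ≠ 0 := fun e' => hv (by
      rw [hSinj (e'.trans (Matrix.mulVec_zero S).symm), QuadraticMap.map_zero])
    exact smul_left_injective F hv0 (show (ν * ν) • (S *ᵥ v) = (1 : F) • (S *ᵥ v) by
      rw [one_smul]; exact e.symm)
  rcases mul_self_eq_mul_self_iff.1 (hνν.trans (one_mul 1).symm) with h1 | h1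
  · -- eigenspaces preserved
    have hSN : ∀ x ∈ N, S *ᵥ x ∈ N := fun x hx => by
      have e := hst x
      rw [(hmN x).1 hx, h1, one_smul, Matrix.mulVec_neg] at e
      exact (hmN _).2 e.symm
    have hnd : (polarBilin (Q.restrict N)).Nondegenerate := by
      refine nondegenerate_of_isReg h2 fun x hx _ => Subtype.ext (h.nd.1 x.1 fun y => ?_)
      obtain ⟨p, hp, n, hn, rfl⟩ := hdecomp y
      show polar Q x.1 (p + n) = 0
      rw [polar_add_right, polar_comm, hPN p hp _ x.2, zero_add]
      exact hx ⟨n, hn⟩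
    exact isSquare_mult_odd hnd hNodd
      ((Matrix.toLin' S).restrict (p := N) (q := N) fun x hx => by simpa using hSN x hx)
      (fun x => by
        show Q (Matrix.toLin' S x.1) = _
        rw [Matrix.toLin'_apply]; exact mult_spec h s x.1) (mult h s).ne_zero
  · -- eigenspaces exchanged
    exfalso
    have hNP : ∀ x ∈ N, S *ᵥ x ∈ P := fun x hx => by
      have e := hst x
      rw [(hmN x).1 hx, h1, neg_one_smul, Matrix.mulVec_neg, neg_inj] at e
      exact (hmP _).2 e.symm
    have hPN' : ∀ x ∈ P, S *ᵥ x ∈ N := fun x hx => by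
      have e := hst x
      rw [(hmP x).1 hx, h1, neg_one_smul] at e
      exact (hmN _).2 (neg_eq_iff_eq_neg.1 e.symm)
    have hle1 : finrank F N ≤ finrank F P := LinearMap.finrank_le_finrank_of_injective
      (f := (Matrix.toLin' S).restrict (p := N) (q := P) fun x hx => by simpa using hNP x hx)
      (fun a b e => Subtype.ext (hSinj (by simpa using congrArg Subtype.val e)))
    have hle2 : finrank F P ≤ finrank F N := LinearMap.finrank_le_finrank_of_injective
      (f := (Matrix.toLin' S).restrict (p := P) (q := N) fun x hx => by simpa using hPN' x hx)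
      (fun a b e => Subtype.ext (hSinj (by simpa using congrArg Subtype.val e)))
    have : finrank F N = M := by omega
    exact Nat.not_even_iff_odd.2 hNodd (this ▸ hM)


/-- For half dimension even the class always splits in two. -/
theorem split_count_even (hM : Even M) {g : Sim Q} (hg : g ∉ S1 h) (h2g : conjP Q g * conjP Q g = 1)
    (H : Subgroup (MulAut (POmega F ⇑Q))) (hH : H = (S1 h).map (conjP Q)) :
    splitClassCount H (Inn (POmega F ⇑Q)) (conjP Q g) = 2 := by
  by_cases hneg : NegMem Q
  · exact (split_count h hg h2g H hH).2 hneg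
  have hgg : g * g ∈ scalarSim Q := by
    rw [← ker_conjP Q h.nd h.five, MonoidHom.mem_ker, map_mul, h2g]
  have hle : innSim Q ≤ S1 h := (innSim_le_K h).trans (K_le_S1 h)
  set π := (conjP Q).comp (S1 h).subtype with hπ
  set N := (innSim Q).subgroupOf (S1 h) with hN
  have hinn : Inn (POmega F ⇑Q) = N.map π := by
    rw [hN, hπ, ← Subgroup.map_map, Subgroup.map_subgroupOf_eq_of_le hle]
    refine (Subgroup.map_comap_eq_self ?_).symm
    rw [inn_eq]
    rintro _ ⟨x, -, rfl⟩
    exact ⟨x, rfl⟩
  have hrange : H = π.range := by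
    rw [hH, hπ, MonoidHom.range_comp, Subgroup.range_subtype]
  rw [hinn, hrange, SplitClassIndex.splitClassCount_eq π N]
  have hNC : N ⊔ (Subgroup.centralizer ({conjP Q g} : Set (MulAut (POmega F ⇑Q)))).comap π = N := by
    refine sup_eq_left.2 fun s hs => ?_
    rw [Subgroup.mem_comap, Subgroup.mem_centralizer_singleton_iff] at hs
    have hsg : ⁅(s : Sim Q), g⁆ ∈ scalarSim Q := by
      rw [← ker_conjP Q h.nd h.five, MonoidHom.mem_ker, map_commutatorElement,
        commutatorElement_eq_one_iff_mul_comm]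
      exact hs
    rw [hN, Subgroup.mem_subgroupOf, ← K_eq_innSim h hneg, mem_K]
    exact ⟨s.2, isSquare_of_commute h hM hg hgg hsg⟩
  rw [hNC]
  have e := Subgroup.relIndex_mul_index hle
  rw [← K_eq_innSim h hneg, index_K h, index_S1 h] at e
  show (innSim Q).relIndex (S1 h) = 2
  rw [← K_eq_innSim h hneg]
  omega

omit h in
/-- The same, read at an equal function. -/
theorem split_count_even' (hG : Good Q M) (hM : Even M) (R : ((ι → F) → F) → GL ι F → Prop)
    (hR : ∀ g : Sim Q, R (⇑Q) (g : GL ι F) ↔ g ∈ S1 hG)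
    (f : (ι → F) → F) (hf : ⇑Q = f) (S : Subgroup (MulAut (POmega F f)))
    (hS : S = autSubgroupOf fun β => ∃ g : GL ι F, g ∈ Geo.quadSimilarityGroup (F := F) f ∧ R f g ∧
      IsInducedBySemilinearPOmega f g (RingEquiv.refl F) β)
    (γ : MulAut (POmega F f))
    (hγ : ∃ g : GL ι F, g ∈ Geo.quadSimilarityGroup (F := F) f ∧ ¬ R f g ∧
      IsInducedBySemilinearPOmega f g (RingEquiv.refl F) γ)
    (hγ2 : orderOf γ = 2) : splitClassCount S (Inn (POmega F f)) γ = 2 := by
  subst hf
  obtain ⟨g, hg, hgR, hgi⟩ := hγ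
  rw [(induced_iff Q g hg γ).1 hgi] at hγ2 ⊢
  refine split_count_even hG hM (fun hm => hgR ((hR ⟨g, hg⟩).2 hm)) ?_ S ?_
  · rw [← pow_two, ← hγ2, pow_orderOf_eq_one]
  · rw [hS]
    refine autSubgroupOf_eq Q _ (S1 hG) fun β => ⟨?_, ?_⟩
    · rintro ⟨g, hg, hr, hi⟩
      exact ⟨⟨g, hg⟩, (hR ⟨g, hg⟩).1 hr, (induced_iff Q g hg β).1 hi⟩
    · rintro ⟨g, hg, rfl⟩
      exact ⟨g.1, g.2, (hR g).2 hg, (induced_iff Q g.1 g.2 _).2 rfl⟩

end Cfsg.Agent.OrthGraphSplit
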