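import Mathlib
import Cfsg.Agent.Lib.OrthDerangeBase61
import Cfsg.Agent.Lib.OmegaStd

/-!
Subspaces of plus type stabilised by an isometry whose square is a scalar.
-/

set_option autoImplicit false
set_option linter.unusedSectionVars false

namespace Cfsg.Agent.OrthHypFix93

open Module
open QuadraticMap (polar polarBilin)
open Cfsg.Agent.QuadClassify (Nondeg)
open Cfsg.Agent.OrthBlocks61 Cfsg.Agent.OrthIsoClasses61 Cfsg.Agent.OrthSubspaceFix61

section Gen

variable {F V : Type*} [Field F] [Fintype F] [AddCommGroup V] [Module F V] [FiniteDimensional F V]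
variable {Q : QuadraticForm F V}

theorem plus_bot : Plus Q (⊥ : Submodule F V) :=
  ⟨⊥, le_rfl, fun u hu => by rw [(Submodule.mem_bot F).1 hu, QuadraticMap.map_zero], by
    rw [finrank_bot, mul_zero]⟩

/-- The type of an orthogonal sum. -/
theorem plus_sup {A B : Submodule F V} (hA : Nondeg Q A) (hB : Nondeg Q B) (hp : B ≤ perp Q A)
    {a b : ℕ} (hda : finrank F A = 2 * a) (hdb : finrank F B = 2 * b) :
    Plus Q (A ⊔ B) ↔ (Plus Q A ↔ Plus Q B) := by
  have hd : finrank F ↥(A ⊔ B) = 2 * (a + b) := by rw [finrank_sup hA hp]; omega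
  have hn := nd_sup hA hB hp
  have hq : (0 : ℤ) < (Fintype.card F : ℤ) := by exact_mod_cast Fintype.card_pos
  classical
  have ex : ∀ {W : Submodule F V} {h : ℕ}, Nondeg Q W → finrank F W = 2 * h →
      ∃ N, OrthTypeCount73.Prof ⇑(res Q W) N ((if Plus Q W then 1 else -1) * (Fintype.card F : ℤ) ^ h) := by
    intro W h hW hd
    split_ifs with hp
    · rw [one_mul]; exact (exists_prof hW hd).1 hp
    · rw [neg_one_mul]; exact (exists_prof hW hd).2 hp
  obtain ⟨N, hN⟩ := ex hA hda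
  obtain ⟨M, hM⟩ := ex hB hdb
  obtain ⟨K, hK⟩ := ex hn hd
  obtain ⟨K', hK'⟩ := prof_sup hA hp hN hM
  have h := OrthTypeCount73.Prof.unique hK' hK
  rw [mul_mul_mul_comm, ← pow_add] at h
  have h' := mul_right_cancel₀ (pow_ne_zero _ hq.ne') h
  by_cases hA' : Plus Q A <;> by_cases hB' : Plus Q B <;>
    by_cases hC : Plus Q (A ⊔ B) <;> simp [hA', hB', hC] at h' ⊢

/-- The type of a complement inside a larger subspace. -/
theorem plus_compl {W P : Submodule F V} (hPW : P ≤ W) (hP : Nondeg Q P) (hW : Nondeg Q W)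
    {a b : ℕ} (hda : finrank F P = 2 * a) (hdW : finrank F W = 2 * (a + b)) :
    finrank F ↥(W ⊓ perp Q P) = 2 * b ∧ (Plus Q W ↔ (Plus Q P ↔ Plus Q (W ⊓ perp Q P))) := by
  obtain ⟨hsup, hn, hd⟩ := split hPW hP hW
  have hb : finrank F ↥(W ⊓ perp Q P) = 2 * b := by omega
  refine ⟨hb, ?_⟩
  conv_lhs => rw [← hsup]
  exact plus_sup hP hn inf_le_right hda hb

/-- Both types occur in each even dimension below that of the ambient subspace. -/
theorem exists_plus_lt {U : Submodule F V} (hU : Nondeg Q U) {a : ℕ} (h : 2 * a < finrank F U) :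
    ∃ A ≤ U, Nondeg Q A ∧ finrank F A = 2 * a ∧ Plus Q A := by
  rcases Nat.eq_zero_or_pos a with rfl | ha
  · exact ⟨⊥, bot_le, nd_bot, finrank_bot .., plus_bot⟩
  obtain ⟨A, B, hA, hB, hAn, hBn, hAd, hBd, hne⟩ :=
    exists_two (2 * a) U hU (by omega) h (Or.inr (even_two_mul a))
  by_cases hp : Plus Q A
  · exact ⟨A, hA, hAn, hAd, hp⟩
  · refine ⟨B, hB, hBn, hBd, ?_⟩
    by_contra hq
    exact hne ((congr_iff_plus hAn hBn hAd hBd).2 (iff_of_false hp hq))

theorem exists_plus_le {U : Submodule F V} (hU : Nondeg Q U) (hp : Plus Q U) {a : ℕ}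
    (h : 2 * a ≤ finrank F U) : ∃ A ≤ U, Nondeg Q A ∧ finrank F A = 2 * a ∧ Plus Q A := by
  rcases h.lt_or_eq with h | h
  · exact exists_plus_lt hU h
  · exact ⟨U, le_rfl, hU, h.symm, hp⟩

theorem exists_ne_zero_value {W : Submodule F V} (hW : Nondeg Q W) (h0 : W ≠ ⊥) :
    ∃ w ∈ W, Q w ≠ 0 := by
  by_contra hc
  push Not at hc
  exact h0 ((Submodule.eq_bot_iff _).2 fun w hw => hW w hw fun v hv =>
    OmegaClasses.polar_of_sing hc hw hv)

variable {g : Module.End F V}

theorem inv_span {s : Set V} (h : ∀ v ∈ s, g v ∈ Submodule.span F s) :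
    ∀ v ∈ Submodule.span F s, g v ∈ Submodule.span F s := fun v hv => by
  have hle : Submodule.span F s ≤ (Submodule.span F s).comap g := Submodule.span_le.2 h
  exact hle hv

/-- The complement of an invariant subspace. -/
theorem inv_perp {z : F} (hz : z * z = 1) (hg : ∀ v, Q (g v) = Q v) (hg2 : ∀ v, g (g v) = z • v)
    {P : Submodule F V} (hP : ∀ v ∈ P, g v ∈ P) : ∀ v ∈ perp Q P, g v ∈ perp Q P := by
  intro v hv w hw
  have hw' : g ((z : F) • g w) = w := by rw [map_smul, hg2, smul_smul, hz, one_smul]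
  rw [← hw']
  have hpol : ∀ a b, polar Q (g a) (g b) = polar Q a b := fun a b => by
    simp only [polar, ← map_add, hg]
  rw [hpol]
  exact hv _ (P.smul_mem z (hP w hw))

theorem inv_inf {A B : Submodule F V} (hA : ∀ v ∈ A, g v ∈ A) (hB : ∀ v ∈ B, g v ∈ B) :
    ∀ v ∈ A ⊓ B, g v ∈ A ⊓ B := fun v hv => ⟨hA v hv.1, hB v hv.2⟩

theorem polar_map (hg : ∀ v, Q (g v) = Q v) (a b : V) : polar Q (g a) (g b) = polar Q a b := by
  simp only [polar, ← map_add, hg]

/-! ### Odd characteristic -/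

/-- An involution fixes subspaces of plus type. -/
theorem exists_fix_sq_one (h2 : (2 : F) ≠ 0) (hQ : (polarBilin Q).Nondegenerate)
    (hg : ∀ v, Q (g v) = Q v) (hg2 : ∀ v, g (g v) = v) {a : ℕ} (ha : 4 * a < finrank F V) :
    ∃ W, Nondeg Q W ∧ (∀ v ∈ W, g v ∈ W) ∧ finrank F W = 2 * a ∧ Plus Q W := by
  let Ep : Submodule F V := LinearMap.ker (g - 1)
  let Em : Submodule F V := LinearMap.ker (g + 1)
  have hEp : ∀ v, v ∈ Ep ↔ g v = v := fun v => by simp [Ep, sub_eq_zero]
  have hEm : ∀ v, v ∈ Em ↔ g v = -v := fun v => by simp [Em, eq_neg_iff_add_eq_zero]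
  have hperp : ∀ u ∈ Ep, ∀ v ∈ Em, polar Q u v = 0 := by
    intro u hu v hv
    have h := polar_map hg u v
    rw [(hEp u).1 hu, (hEm v).1 hv, QuadraticMap.polar_neg_right] at h
    have h' : (2 : F) * polar Q u v = 0 := by linear_combination -h
    exact (mul_eq_zero.1 h').resolve_left h2
  have hdec : ∀ v, ∃ u ∈ Ep, ∃ w ∈ Em, v = u + w := by
    intro v
    refine ⟨(2 : F)⁻¹ • (v + g v), ?_, (2 : F)⁻¹ • (v - g v), ?_, ?_⟩
    · rw [hEp, map_smul, map_add, hg2, add_comm]
    · rw [hEm, map_smul, map_sub, hg2, ← smul_neg, neg_sub]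
    · rw [← smul_add, show v + g v + (v - g v) = (2 : F) • v by rw [two_smul]; abel, smul_smul,
        inv_mul_cancel₀ h2, one_smul]
  have hnp : Nondeg Q Ep := fun u hu h => hQ.1 u fun v => by
    obtain ⟨p, hp, m, hm, rfl⟩ := hdec v
    show polar Q u (p + m) = 0
    rw [QuadraticMap.polar_add_right, h p hp, hperp u hu m hm, add_zero]
  have hnm : Nondeg Q Em := fun u hu h => hQ.1 u fun v => by
    obtain ⟨p, hp, m, hm, rfl⟩ := hdec v
    show polar Q u (p + m) = 0
    rw [QuadraticMap.polar_add_right, h m hm, QuadraticMap.polar_comm, hperp p hp u hu, add_zero]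
  have hdim : finrank F V ≤ finrank F Ep + finrank F Em := by
    have htop : Ep ⊔ Em = ⊤ := eq_top_iff.2 fun v _ => by
      obtain ⟨p, hp, m, hm, rfl⟩ := hdec v
      exact Submodule.add_mem_sup hp hm
    have := Submodule.finrank_sup_add_finrank_inf_eq Ep Em
    rw [htop, finrank_top] at this
    omega
  have key : ∀ (E : Submodule F V) (s : F), (∀ v, v ∈ E → g v = s • v) → Nondeg Q E →
      2 * a < finrank F E → ∃ W, Nondeg Q W ∧ (∀ v ∈ W, g v ∈ W) ∧ finrank F W = 2 * a ∧ Plus Q W := by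
    intro E s hs hn hlt
    obtain ⟨A, hA, hAn, hAd, hAp⟩ := exists_plus_lt hn hlt
    exact ⟨A, hAn, fun v hv => by rw [hs v (hA hv)]; exact A.smul_mem s hv, hAd, hAp⟩
  by_cases hbig : 2 * a < finrank F Ep
  · exact key Ep 1 (fun v hv => by rw [one_smul]; exact (hEp v).1 hv) hnp hbig
  · exact key Em (-1) (fun v hv => by rw [neg_one_smul]; exact (hEm v).1 hv) hnm (by omega)

/-- The plane through a vector and its image under a complex structure. -/
theorem complex_plane (h2 : (2 : F) ≠ 0) (hg : ∀ v, Q (g v) = Q v) (hg2 : ∀ v, g (g v) = -v)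
    {w : V} (hw : Q w ≠ 0) :
    let P := Submodule.span F ({w, g w} : Set V)
    Nondeg Q P ∧ (∀ v ∈ P, g v ∈ P) ∧ finrank F P = 2 * 1 ∧ (Plus Q P ↔ IsSquare (-1 : F)) := by
  intro P
  have hwg : polar Q w (g w) = 0 := by
    have h := polar_map hg w (g w)
    rw [hg2, QuadraticMap.polar_neg_right, QuadraticMap.polar_comm] at h
    have h' : (2 : F) * polar Q w (g w) = 0 := by linear_combination -h
    exact (mul_eq_zero.1 h').resolve_left h2
  have hgw : polar Q (g w) w = 0 := by rw [QuadraticMap.polar_comm]; exact hwg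
  have hval : ∀ α β : F, polar Q (α • w + β • g w) w = 2 * α * Q w ∧
      polar Q (α • w + β • g w) (g w) = 2 * β * Q w ∧
      Q (α • w + β • g w) = (α * α + β * β) * Q w := by
    intro α β
    refine ⟨?_, ?_, ?_⟩
    · rw [QuadraticMap.polar_add_left, QuadraticMap.polar_smul_left, QuadraticMap.polar_smul_left,
        QuadraticMap.polar_self, hgw]
      simp [two_smul]; ring
    · rw [QuadraticMap.polar_add_left, QuadraticMap.polar_smul_left, QuadraticMap.polar_smul_left,
        QuadraticMap.polar_self, hwg, hg]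
      simp [two_smul]; ring
    · rw [QuadraticMap.map_add Q, QuadraticMap.map_smul, QuadraticMap.map_smul, hg,
        QuadraticMap.polar_smul_left, QuadraticMap.polar_smul_right, hwg]
      simp; ring
  have hli : LinearIndependent F ![w, g w] := LinearIndependent.pair_iff.2 fun α β h => by
    obtain ⟨h1, h2', -⟩ := hval α β
    rw [h, pol_zero_left] at h1 h2'
    exact ⟨(mul_eq_zero.1 ((mul_eq_zero.1 h1.symm).resolve_right hw)).resolve_left h2,
      (mul_eq_zero.1 ((mul_eq_zero.1 h2'.symm).resolve_right hw)).resolve_left h2⟩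
  have hdim : finrank F P = 2 := by
    have := finrank_span_eq_card hli
    rwa [Matrix.range_cons_cons_empty, Fintype.card_fin] at this
  have hwP : w ∈ P := Submodule.subset_span (by simp)
  have hgwP : g w ∈ P := Submodule.subset_span (by simp)
  refine ⟨fun u hu h => ?_, inv_span fun v hv => ?_, hdim, ?_⟩
  · obtain ⟨α, β, rfl⟩ := Submodule.mem_span_pair.1 hu
    obtain ⟨h1, h2', -⟩ := hval α β
    rw [h w hwP] at h1
    rw [h _ hgwP] at h2'
    rw [(mul_eq_zero.1 ((mul_eq_zero.1 h1.symm).resolve_right hw)).resolve_left h2,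
      (mul_eq_zero.1 ((mul_eq_zero.1 h2'.symm).resolve_right hw)).resolve_left h2]
    simp
  · rcases hv with rfl | hv
    · exact hgwP
    · rw [Set.mem_singleton_iff.1 hv, hg2]
      exact neg_mem hwP
  constructor
  · rintro ⟨U, hUP, hU, hUd⟩
    obtain ⟨u, hu, hu0⟩ := Submodule.exists_mem_ne_zero_of_ne_bot (p := U) (fun e => by
      rw [e, finrank_bot, hdim] at hUd; omega)
    obtain ⟨α, β, rfl⟩ := Submodule.mem_span_pair.1 (hUP hu)
    have h0 := hU _ hu
    rw [(hval α β).2.2] at h0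
    have h0' := (mul_eq_zero.1 h0).resolve_right hw
    have hβ : β ≠ 0 := by
      intro e
      subst e
      have : α * α = 0 := by simpa using h0'
      exact hu0 (by simp [mul_self_eq_zero.1 this])
    refine ⟨α / β, ?_⟩
    field_simp
    linear_combination -h0'
  · rintro ⟨i, hi⟩
    set u := i • w + (1 : F) • g w
    have hu : Q u = 0 := by
      rw [(hval i 1).2.2, show i * i + 1 * 1 = 0 by linear_combination -hi, zero_mul]
    have hu0 : u ≠ 0 := fun e => one_ne_zero (LinearIndependent.pair_iff.1 hli i 1 e).2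
    refine ⟨Submodule.span F {u}, Submodule.span_le.2 ?_, ?_, ?_⟩
    · rintro _ rfl
      exact P.add_mem (P.smul_mem _ hwP) (P.smul_mem _ hgwP)
    · intro x hx
      obtain ⟨c, rfl⟩ := Submodule.mem_span_singleton.1 hx
      rw [QuadraticMap.map_smul, hu, smul_zero]
    · rw [finrank_span_singleton hu0, hdim]

/-- Invariant subspaces of a complex structure. -/
theorem complex_sub (h2 : (2 : F) ≠ 0) (hg : ∀ v, Q (g v) = Q v) (hg2 : ∀ v, g (g v) = -v) :
    ∀ (a : ℕ) (W : Submodule F V), Nondeg Q W → (∀ v ∈ W, g v ∈ W) → 2 * a ≤ finrank F W →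
      ∃ W' ≤ W, Nondeg Q W' ∧ (∀ v ∈ W', g v ∈ W') ∧ finrank F W' = 2 * a ∧
        (Plus Q W' ↔ (IsSquare (-1 : F) ∨ Even a)) := by
  intro a
  induction a with
  | zero =>
    intro W _ _ _
    exact ⟨⊥, bot_le, nd_bot, fun v hv => by rw [(Submodule.mem_bot F).1 hv, map_zero]; exact zero_mem _,
      finrank_bot .., iff_of_true plus_bot (Or.inr (by simp))⟩
  | succ a ih =>
    intro W hW hWg had
    obtain ⟨w, hw, hw0⟩ := exists_ne_zero_value hW (fun e => by rw [e, finrank_bot] at had; omega)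
    obtain ⟨hPn, hPg, hPd, hPp⟩ := complex_plane h2 hg hg2 hw0
    set P := Submodule.span F ({w, g w} : Set V)
    have hPW : P ≤ W := Submodule.span_le.2 (by
      rintro x (rfl | hx)
      · exact hw
      · rw [Set.mem_singleton_iff.1 hx]; exact hWg w hw)
    obtain ⟨-, hn, hd⟩ := split hPW hPn hW
    have hg2' : ∀ v, g (g v) = (-1 : F) • v := fun v => by rw [neg_one_smul]; exact hg2 v
    obtain ⟨R, hR, hRn, hRg, hRd, hRp⟩ := ih (W ⊓ perp Q P) hn
      (inv_inf hWg (inv_perp (by ring) hg hg2' hPg)) (by omega)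
    have hRperp : R ≤ perp Q P := hR.trans inf_le_right
    refine ⟨P ⊔ R, sup_le hPW (hR.trans inf_le_left), nd_sup hPn hRn hRperp, inv_sup hPg hRg,
      by rw [finrank_sup hPn hRperp]; omega, ?_⟩
    rw [plus_sup hPn hRn hRperp hPd hRd, hPp, hRp, Nat.even_add_one]
    tauto

theorem complex_plus_iff (h2 : (2 : F) ≠ 0) (hg : ∀ v, Q (g v) = Q v) (hg2 : ∀ v, g (g v) = -v)
    {W : Submodule F V} (hW : Nondeg Q W) (hWg : ∀ v ∈ W, g v ∈ W) {a : ℕ}
    (hd : finrank F W = 2 * a) : Plus Q W ↔ (IsSquare (-1 : F) ∨ Even a) := by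
  obtain ⟨W', hle, -, -, hd', hp⟩ := complex_sub h2 hg hg2 a W hW hWg hd.ge
  rwa [Submodule.eq_of_le_of_finrank_eq hle (hd'.trans hd.symm)] at hp

/-! ### Characteristic two -/

section CharTwo

variable (h2 : (2 : F) = 0) (hg : ∀ v, Q (g v) = Q v) (hg2 : ∀ v, g (g v) = v)

include h2 in
theorem add_self (v : V) : v + v = 0 := by rw [← two_smul F v, h2, zero_smul]

include h2 in
theorem polar_self_zero (v : V) : polar Q v v = 0 := by
  rw [QuadraticMap.polar_self, two_smul]
  linear_combination Q v * h2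

include hg hg2 in
theorem polar_swap (u v : V) : polar Q u (g v) = polar Q (g u) v := by
  conv_lhs => rw [← polar_map hg, hg2]

include h2 hg in
theorem value_move (v : V) : Q (g v + v) = polar Q v (g v) := by
  rw [QuadraticMap.map_add Q, hg, QuadraticMap.polar_comm]
  linear_combination Q v * h2

include h2 hg2 in
theorem move_fixed (v : V) : g (g v + v) = g v + v := by rw [map_add, hg2, add_comm]

/-- The four-dimensional block of a moved vector. -/
theorem exists_block {W : Submodule F V} (h2 : (2 : F) = 0) (hg : ∀ v, Q (g v) = Q v)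
    (hg2 : ∀ v, g (g v) = v) (hW : Nondeg Q W) (hWg : ∀ v ∈ W, g v ∈ W)
    (hA : ∀ v ∈ W, polar Q v (g v) = 0) {u : V} (hu : u ∈ W) (hmove : g u ≠ u) :
    ∃ P ≤ W, Nondeg Q P ∧ (∀ v ∈ P, g v ∈ P) ∧ finrank F P = 2 * 2 ∧ Plus Q P := by
  set a := g u + u with ha
  have ha0 : a ≠ 0 := fun e => hmove (by
    calc g u = g u + (u + u) := by rw [add_self h2, add_zero]
      _ = u := by rw [← add_assoc, ← ha, e, zero_add])
  have haW : a ∈ W := W.add_mem (hWg u hu) hu
  obtain ⟨v₀, hv₀, hne⟩ : ∃ v ∈ W, polar Q a v ≠ 0 := by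
    by_contra hc
    push Not at hc
    exact ha0 (hW a haW hc)
  set v := (polar Q a v₀)⁻¹ • v₀
  have hvW : v ∈ W := W.smul_mem _ hv₀
  have hav : polar Q a v = 1 := by
    rw [QuadraticMap.polar_smul_right, smul_eq_mul, inv_mul_cancel₀ hne]
  set b := g v + v with hb
  have hbW : b ∈ W := W.add_mem (hWg v hvW) hvW
  have hua : polar Q u a = 0 := by
    rw [ha, QuadraticMap.polar_add_right, hA u hu, polar_self_zero h2, add_zero]
  have hvb : polar Q v b = 0 := by
    rw [hb, QuadraticMap.polar_add_right, hA v hvW, polar_self_zero h2, add_zero]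
  have hub : polar Q u b = 1 := by
    rw [hb, QuadraticMap.polar_add_right, polar_swap hg hg2, ← QuadraticMap.polar_add_left, ← ha, hav]
  have hab : polar Q a b = 0 := by
    rw [ha, hb]
    simp only [QuadraticMap.polar_add_left, QuadraticMap.polar_add_right, polar_map hg,
      polar_swap hg hg2 u v]
    linear_combination (polar Q u v + polar Q (g u) v) * h2
  have hQa : Q a = 0 := by rw [ha, value_move h2 hg, hA u hu]
  have hQb : Q b = 0 := by rw [hb, value_move h2 hg, hA v hvW]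
  have hbu : polar Q b u = 1 := (QuadraticMap.polar_comm Q b u).trans hub
  have hau : polar Q a u = 0 := (QuadraticMap.polar_comm Q a u).trans hua
  have hva : polar Q v a = 1 := (QuadraticMap.polar_comm Q v a).trans hav
  have hbv : polar Q b v = 0 := (QuadraticMap.polar_comm Q b v).trans hvb
  have hba : polar Q b a = 0 := (QuadraticMap.polar_comm Q b a).trans hab
  set fam : Fin 4 → V := ![u, v, a, b]
  have key : ∀ c : Fin 4 → F, (∀ i, polar Q (∑ j, c j • fam j) (fam i) = 0) → c = 0 := by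
    intro c hc
    have e3 := hc 3
    have e2 := hc 2
    have e1 := hc 1
    have e0 := hc 0
    simp only [Fin.sum_univ_four, fam, Matrix.cons_val, QuadraticMap.polar_add_left,
      QuadraticMap.polar_smul_left, smul_eq_mul, hua, hvb, hub, hab, hbu, hau, hva, hbv, hba,
      hav, polar_self_zero h2, mul_zero, mul_one, add_zero, zero_add] at e0 e1 e2 e3
    rw [e2, mul_comm, ← QuadraticMap.polar_comm Q] at e0
    simp only [e3, zero_mul, mul_zero, zero_add, add_zero] at e0 e1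
    funext i
    fin_cases i <;> simp_all
  have hli : LinearIndependent F fam := Fintype.linearIndependent_iff.2 fun c hc i => by
    rw [key c (fun j => by rw [hc, pol_zero_left])]; rfl
  set P := Submodule.span F (Set.range fam)
  have hmem : ∀ i, fam i ∈ P := fun i => Submodule.subset_span ⟨i, rfl⟩
  have hd : finrank F P = 2 * 2 := (finrank_span_eq_card hli).trans (Fintype.card_fin 4)
  refine ⟨P, Submodule.span_le.2 ?_, fun z hz h => ?_, inv_span ?_, hd, ?_⟩
  · rintro _ ⟨i, rfl⟩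
    fin_cases i <;> assumption
  · obtain ⟨c, rfl⟩ := (Submodule.mem_span_range_iff_exists_fun F).1 hz
    rw [key c (fun i => h _ (hmem i))]
    simp
  · rintro _ ⟨i, rfl⟩
    have hgu : g u = a + u := by rw [ha, add_assoc, add_self h2, add_zero]
    have hgv : g v = b + v := by rw [hb, add_assoc, add_self h2, add_zero]
    fin_cases i
    · show g u ∈ P
      rw [hgu]; exact P.add_mem (hmem 2) (hmem 0)
    · show g v ∈ P
      rw [hgv]; exact P.add_mem (hmem 3) (hmem 1)
    · show g a ∈ P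
      rw [ha, move_fixed h2 hg2]; exact hmem 2
    · show g b ∈ P
      rw [hb, move_fixed h2 hg2]; exact hmem 3
  · have hli' : LinearIndependent F ![a, b] := by
      have h' := hli.comp ![(2 : Fin 4), 3] (by intro i j; fin_cases i <;> fin_cases j <;> simp)
      convert h' using 1
      funext i
      fin_cases i <;> rfl
    refine ⟨Submodule.span F (Set.range ![a, b]), Submodule.span_le.2 ?_, ?_, ?_⟩
    · rintro _ ⟨i, rfl⟩
      fin_cases i
      · exact hmem 2
      · exact hmem 3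
    · intro z hz
      rw [Matrix.range_cons_cons_empty] at hz
      obtain ⟨α, β, rfl⟩ := Submodule.mem_span_pair.1 hz
      rw [QuadraticMap.map_add Q, QuadraticMap.map_smul, QuadraticMap.map_smul, hQa, hQb,
        QuadraticMap.polar_smul_left, QuadraticMap.polar_smul_right, hab]
      simp
    · rw [finrank_span_eq_card hli', hd, Fintype.card_fin]

/-- Blocks until all vectors left are fixed. -/
theorem peel (h2 : (2 : F) = 0) (hg : ∀ v, Q (g v) = Q v) (hg2 : ∀ v, g (g v) = v) :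
    ∀ (j : ℕ) (W : Submodule F V), Nondeg Q W → (∀ v ∈ W, g v ∈ W) →
      (∀ v ∈ W, polar Q v (g v) = 0) →
      ∃ i ≤ j, ∃ R ≤ W, Nondeg Q R ∧ (∀ v ∈ R, g v ∈ R) ∧ finrank F R = 2 * (2 * i) ∧ Plus Q R ∧
        (i = j ∨ ∀ v ∈ W ⊓ perp Q R, g v = v) := by
  intro j
  induction j with
  | zero =>
    intro W _ _ _
    exact ⟨0, le_rfl, ⊥, bot_le, nd_bot,
      fun v hv => by rw [(Submodule.mem_bot F).1 hv, map_zero]; exact zero_mem _,
      finrank_bot .., plus_bot, Or.inl rfl⟩
  | succ j ih =>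
    intro W hW hWg hA
    obtain ⟨i, hij, R, hRW, hRn, hRg, hRd, hRp, hor⟩ := ih W hW hWg hA
    by_cases hfix : ∀ v ∈ W ⊓ perp Q R, g v = v
    · exact ⟨i, by omega, R, hRW, hRn, hRg, hRd, hRp, Or.inr hfix⟩
    have hi : i = j := hor.resolve_right hfix
    push Not at hfix
    obtain ⟨u, hu, hmove⟩ := hfix
    have hg2' : ∀ v, g (g v) = (1 : F) • v := fun v => by rw [one_smul]; exact hg2 v
    obtain ⟨P, hP, hPn, hPg, hPd, hPp⟩ := exists_block h2 hg hg2 (split hRW hRn hW).2.1
      (inv_inf hWg (inv_perp (one_mul 1) hg hg2' hRg)) (fun v hv => hA v hv.1) hu hmove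
    have hPR : P ≤ perp Q R := hP.trans inf_le_right
    refine ⟨j + 1, le_rfl, R ⊔ P, sup_le hRW (hP.trans inf_le_left), nd_sup hRn hPn hPR,
      inv_sup hRg hPg, by rw [finrank_sup hRn hPR]; omega, ?_, Or.inl rfl⟩
    exact (plus_sup hRn hPn hPR hRd hPd).2 (iff_of_true hRp hPp)

/-- The blocks and the fixed rest. -/
theorem blocks (h2 : (2 : F) = 0) (hg : ∀ v, Q (g v) = Q v) (hg2 : ∀ v, g (g v) = v)
    {W : Submodule F V} (hW : Nondeg Q W) (hWg : ∀ v ∈ W, g v ∈ W)
    (hA : ∀ v ∈ W, polar Q v (g v) = 0) :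
    ∃ i, ∃ R ≤ W, Nondeg Q R ∧ finrank F R = 2 * (2 * i) ∧ Plus Q R ∧
      ∀ v ∈ W ⊓ perp Q R, g v = v := by
  obtain ⟨i, -, R, hRW, hRn, -, hRd, hRp, hor⟩ := peel h2 hg hg2 (finrank F W + 1) W hW hWg hA
  refine ⟨i, R, hRW, hRn, hRd, hRp, hor.resolve_left fun e => ?_⟩
  have := Submodule.finrank_mono hRW
  omega

/-- No fixed anisotropic vector: the type is plus. -/
theorem plus_of_sing (h2 : (2 : F) = 0) (hg : ∀ v, Q (g v) = Q v) (hg2 : ∀ v, g (g v) = v)
    {W : Submodule F V} (hW : Nondeg Q W) (hWg : ∀ v ∈ W, g v ∈ W)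
    (hsing : ∀ v ∈ W, g v = v → Q v = 0) : Plus Q W ∧ ∃ i, finrank F W = 2 * (2 * i) := by
  have hA : ∀ v ∈ W, polar Q v (g v) = 0 := fun v hv => by
    rw [← value_move h2 hg]
    exact hsing _ (W.add_mem (hWg v hv) hv) (move_fixed h2 hg2 v)
  obtain ⟨i, R, hRW, hRn, hRd, hRp, hfix⟩ := blocks h2 hg hg2 hW hWg hA
  obtain ⟨hsup, hn, -⟩ := split hRW hRn hW
  have h0 : W ⊓ perp Q R = ⊥ := by
    by_contra hne
    obtain ⟨w, hw, hw0⟩ := exists_ne_zero_value hn hne
    exact hw0 (hsing w hw.1 (hfix w hw))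
  rw [h0, sup_bot_eq] at hsup
  subst hsup
  exact ⟨hRp, i, hRd⟩

theorem even_sub (h2 : (2 : F) = 0) (hg : ∀ v, Q (g v) = Q v) (hg2 : ∀ v, g (g v) = v)
    (hsing : ∀ v, g v = v → Q v = 0) {W : Submodule F V} (hW : Nondeg Q W)
    (hWg : ∀ v ∈ W, g v ∈ W) {a : ℕ} (hd : finrank F W = 2 * a) : Even a := by
  obtain ⟨-, i, hi⟩ := plus_of_sing h2 hg hg2 hW hWg fun v _ => hsing v
  exact ⟨i, by omega⟩

/-- Invariant subspaces of plus type, alternating case. -/
theorem alt_sub (h2 : (2 : F) = 0) (hg : ∀ v, Q (g v) = Q v) (hg2 : ∀ v, g (g v) = v)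
    {W : Submodule F V} (hW : Nondeg Q W) (hWg : ∀ v ∈ W, g v ∈ W)
    (hA : ∀ v ∈ W, polar Q v (g v) = 0) (hWp : Plus Q W) {δ : ℕ} (hd : finrank F W = 2 * δ)
    {a : ℕ} (ha : a ≤ δ) (hc : Even a ∨ Odd δ) :
    ∃ W' ≤ W, Nondeg Q W' ∧ (∀ v ∈ W', g v ∈ W') ∧ finrank F W' = 2 * a ∧ Plus Q W' := by
  have hg2' : ∀ v, g (g v) = (1 : F) • v := fun v => by rw [one_smul]; exact hg2 v
  have evenCase : ∀ (W : Submodule F V) (δ : ℕ), Nondeg Q W → (∀ v ∈ W, g v ∈ W) →
      (∀ v ∈ W, polar Q v (g v) = 0) → Plus Q W → finrank F W = 2 * δ → ∀ j, 2 * j ≤ δ →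
      ∃ W' ≤ W, Nondeg Q W' ∧ (∀ v ∈ W', g v ∈ W') ∧ finrank F W' = 2 * (2 * j) ∧ Plus Q W' := by
    intro W δ hW hWg hA hWp hd j hj
    obtain ⟨i, hij, R, hRW, hRn, hRg, hRd, hRp, hor⟩ := peel h2 hg hg2 j W hW hWg hA
    rcases eq_or_ne i j with rfl | hne
    · exact ⟨R, hRW, hRn, hRg, hRd, hRp⟩
    have hfix := hor.resolve_left hne
    obtain ⟨hd', hp'⟩ := plus_compl (b := δ - 2 * i) hRW hRn hW hRd (by omega)
    obtain ⟨A, hA', hAn, hAd, hAp⟩ := exists_plus_le (split hRW hRn hW).2.1 ((hp'.1 hWp).1 hRp)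
      (a := 2 * j - 2 * i) (by omega)
    have hAR : A ≤ perp Q R := hA'.trans inf_le_right
    refine ⟨R ⊔ A, sup_le hRW (hA'.trans inf_le_left), nd_sup hRn hAn hAR,
      inv_sup hRg (fun v hv => by rw [hfix v (hA' hv)]; exact hv),
      by rw [finrank_sup hRn hAR]; omega, (plus_sup hRn hAn hAR hRd hAd).2 (iff_of_true hRp hAp)⟩
  rcases Nat.even_or_odd a with ⟨j, hj⟩ | ⟨j, hj⟩
  · obtain ⟨W', h1, h2, h3, h4, h5⟩ := evenCase W δ hW hWg hA hWp hd j (by omega)
    exact ⟨W', h1, h2, h3, by omega, h5⟩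
  have hδ : Odd δ := hc.resolve_left (by rw [Nat.not_even_iff_odd]; exact ⟨j, hj⟩)
  -- an invariant plane
  obtain ⟨i, R, hRW, hRn, hRd, hRp, hfix⟩ := blocks h2 hg hg2 hW hWg hA
  have hle := Submodule.finrank_mono hRW
  obtain ⟨k, hk⟩ := hδ
  obtain ⟨hd', hp'⟩ := plus_compl (b := δ - 2 * i) hRW hRn hW hRd (by omega)
  obtain ⟨P, hP, hPn, hPd, hPp⟩ := exists_plus_le (split hRW hRn hW).2.1 ((hp'.1 hWp).1 hRp)
    (a := 1) (by omega)
  have hPg : ∀ v ∈ P, g v ∈ P := fun v hv => by rw [hfix v (hP hv)]; exact hv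
  have hPW : P ≤ W := hP.trans inf_le_left
  obtain ⟨hd'', hp''⟩ := plus_compl (b := δ - 1) hPW hPn hW hPd (by omega)
  obtain ⟨A, hA', hAn, hAg, hAd, hAp⟩ := evenCase (W ⊓ perp Q P) (δ - 1) (split hPW hPn hW).2.1
    (inv_inf hWg (inv_perp (one_mul 1) hg hg2' hPg)) (fun v hv => hA v hv.1)
    ((hp''.1 hWp).1 hPp) hd'' j (by omega)
  have hAP : A ≤ perp Q P := hA'.trans inf_le_right
  exact ⟨P ⊔ A, sup_le hPW (hA'.trans inf_le_left), nd_sup hPn hAn hAP, inv_sup hPg hAg,
    by rw [finrank_sup hPn hAP]; omega, (plus_sup hPn hAn hAP hPd hAd).2 (iff_of_true hPp hAp)⟩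

/-- A plane of plus type through a vector with non-alternating behaviour. -/
theorem exists_plane (h2 : (2 : F) = 0) (hg : ∀ v, Q (g v) = Q v) (hg2 : ∀ v, g (g v) = v)
    {W : Submodule F V} (hW : Nondeg Q W) (hWg : ∀ v ∈ W, g v ∈ W) (hWp : Plus Q W) {δ : ℕ}
    (hd : finrank F W = 2 * δ) {u : V} (hu : u ∈ W) (hne : polar Q u (g u) ≠ 0) :
    ∃ P ≤ W, Nondeg Q P ∧ (∀ v ∈ P, g v ∈ P) ∧ finrank F P = 2 * 1 ∧ Plus Q P := by
  have hg2' : ∀ v, g (g v) = (1 : F) • v := fun v => by rw [one_smul]; exact hg2 v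
  have mk : ∀ u ∈ W, polar Q u (g u) ≠ 0 → ∃ P ≤ W, Nondeg Q P ∧ (∀ v ∈ P, g v ∈ P) ∧
      finrank F P = 2 * 1 ∧ u ∈ P ∧ g u + u ∈ P := by
    intro u hu hne
    set a := g u + u with ha
    have hua : polar Q u a = polar Q u (g u) := by
      rw [ha, QuadraticMap.polar_add_right, polar_self_zero h2, add_zero]
    have hau : polar Q a u = polar Q u (g u) := (QuadraticMap.polar_comm Q a u).trans hua
    have hval : ∀ α β : F, polar Q (α • u + β • a) u = β * polar Q u (g u) ∧
        polar Q (α • u + β • a) a = α * polar Q u (g u) := fun α β => by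
      constructor <;>
        simp [QuadraticMap.polar_add_left, QuadraticMap.polar_smul_left, hua, hau, polar_self_zero h2,
          -QuadraticMap.polar_self]
    have hli : LinearIndependent F ![u, a] := LinearIndependent.pair_iff.2 fun α β h => by
      obtain ⟨h1, h2'⟩ := hval α β
      rw [h, pol_zero_left] at h1 h2'
      exact ⟨(mul_eq_zero.1 h2'.symm).resolve_right hne, (mul_eq_zero.1 h1.symm).resolve_right hne⟩
    set P := Submodule.span F ({u, a} : Set V)
    have hdim : finrank F P = 2 * 1 := by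
      have := finrank_span_eq_card hli
      rwa [Matrix.range_cons_cons_empty, Fintype.card_fin] at this
    have huP : u ∈ P := Submodule.subset_span (by simp)
    have haP : a ∈ P := Submodule.subset_span (by simp)
    refine ⟨P, Submodule.span_le.2 ?_, fun z hz h => ?_, inv_span fun v hv => ?_, hdim, huP, haP⟩
    · rintro x (rfl | hx)
      · exact hu
      · rw [Set.mem_singleton_iff.1 hx]; exact W.add_mem (hWg u hu) hu
    · obtain ⟨α, β, rfl⟩ := Submodule.mem_span_pair.1 hz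
      obtain ⟨h1, h2'⟩ := hval α β
      rw [h u huP] at h1
      rw [h a haP] at h2'
      rw [(mul_eq_zero.1 h2'.symm).resolve_right hne, (mul_eq_zero.1 h1.symm).resolve_right hne]
      simp
    · rcases hv with rfl | hv
      · rw [show g v = a + v by rw [ha, add_assoc, add_self h2, add_zero]]
        exact P.add_mem haP huP
      · rw [Set.mem_singleton_iff.1 hv, ha, move_fixed h2 hg2]
        exact haP
  obtain ⟨P, hPW, hPn, hPg, hPd, huP, haP⟩ := mk u hu hne
  obtain ⟨hd', hp'⟩ := plus_compl (b := δ - 1) hPW hPn hW hPd (by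
    have := Submodule.finrank_mono hPW
    omega)
  by_cases hk : ∃ k ∈ W ⊓ perp Q P, g k = k ∧ Q k ≠ 0
  · obtain ⟨k, hk, hkg, hk0⟩ := hk
    obtain ⟨c, hc⟩ := QuadClassify.isSquare_of_two_eq_zero h2 (Q u / Q k)
    have huk : polar Q u k = 0 := (QuadraticMap.polar_comm Q u k).trans (hk.2 u huP)
    set u' := u + c • k
    have hu' : Q u' = 0 := by
      rw [QuadraticMap.map_add Q, QuadraticMap.map_smul, QuadraticMap.polar_smul_right, huk,
        smul_eq_mul, ← hc, div_mul_cancel₀ _ hk0, smul_zero, add_zero]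
      linear_combination Q u * h2
    have hku : polar Q k (g u) = 0 := hk.2 _ (hPg u huP)
    have hne' : polar Q u' (g u') ≠ 0 := by
      rw [map_add, map_smul, hkg]
      simp only [u', QuadraticMap.polar_add_left, QuadraticMap.polar_add_right,
        QuadraticMap.polar_smul_left, QuadraticMap.polar_smul_right, polar_self_zero h2, huk, hku]
      simpa using hne
    obtain ⟨P', hP'W, hP'n, hP'g, hP'd, hu'P, -⟩ := mk u' (W.add_mem hu (W.smul_mem c hk.1)) hne'
    refine ⟨P', hP'W, hP'n, hP'g, hP'd, Submodule.span F {u'},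
      (Submodule.span_singleton_le_iff_mem _ _).2 hu'P, ?_, ?_⟩
    · intro x hx
      obtain ⟨c, rfl⟩ := Submodule.mem_span_singleton.1 hx
      rw [QuadraticMap.map_smul, hu', smul_zero]
    · rw [finrank_span_singleton (fun e => hne' (by rw [e, map_zero, pol_zero_left])), hP'd]
  · push Not at hk
    obtain ⟨hp, -⟩ := plus_of_sing h2 hg hg2 (split hPW hPn hW).2.1
      (inv_inf hWg (inv_perp (one_mul 1) hg hg2' hPg)) hk
    exact ⟨P, hPW, hPn, hPg, hPd, (hp'.1 hWp).2 hp⟩

/-- Invariant subspaces of plus type of an involution. -/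
theorem inv_sub (h2 : (2 : F) = 0) (hg : ∀ v, Q (g v) = Q v) (hg2 : ∀ v, g (g v) = v) :
    ∀ (δ : ℕ) (W : Submodule F V), Nondeg Q W → (∀ v ∈ W, g v ∈ W) → Plus Q W →
      finrank F W = 2 * δ → ∀ a ≤ δ, (Even a ∨ Odd δ ∨ ∃ v ∈ W, polar Q v (g v) ≠ 0) →
      ∃ W' ≤ W, Nondeg Q W' ∧ (∀ v ∈ W', g v ∈ W') ∧ finrank F W' = 2 * a ∧ Plus Q W' := by
  intro δ
  induction δ with
  | zero =>
    intro W hW hWg hWp hd a ha _
    exact ⟨W, le_rfl, hW, hWg, by omega, hWp⟩
  | succ δ ih =>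
    intro W hW hWg hWp hd a ha hc
    by_cases hA : ∀ v ∈ W, polar Q v (g v) = 0
    · exact alt_sub h2 hg hg2 hW hWg hA hWp hd ha
        (hc.imp_right fun h => h.resolve_right fun ⟨v, hv, h'⟩ => h' (hA v hv))
    push Not at hA
    obtain ⟨u, hu, hne⟩ := hA
    rcases eq_or_ne a (δ + 1) with rfl | hlt
    · exact ⟨W, le_rfl, hW, hWg, hd, hWp⟩
    rcases Nat.eq_zero_or_pos a with rfl | hpos
    · exact ⟨⊥, bot_le, nd_bot,
        fun v hv => by rw [(Submodule.mem_bot F).1 hv, map_zero]; exact zero_mem _, finrank_bot .., plus_bot⟩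
    obtain ⟨P, hPW, hPn, hPg, hPd, hPp⟩ := exists_plane h2 hg hg2 hW hWg hWp hd hu hne
    obtain ⟨hd', hp'⟩ := plus_compl (b := δ) hPW hPn hW hPd (by omega)
    have hW' := (split hPW hPn hW).2.1
    have hW'g := inv_inf hWg (inv_perp (one_mul (1 : F)) hg
      (fun v => by rw [one_smul]; exact hg2 v) hPg)
    have hW'p := (hp'.1 hWp).1 hPp
    by_cases hex : Even a ∧ ∀ v ∈ W ⊓ perp Q P, polar Q v (g v) = 0
    · obtain ⟨W', h1, h3, h4, h5, h6⟩ := alt_sub h2 hg hg2 hW' hW'g hex.2 hW'p hd' (a := a)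
        (by omega) (Or.inl hex.1)
      exact ⟨W', h1.trans inf_le_left, h3, h4, h5, h6⟩
    obtain ⟨A, hA', hAn, hAg, hAd, hAp⟩ := ih _ hW' hW'g hW'p hd' (a - 1) (by omega) (by
      rcases Nat.even_or_odd a with he | ho
      · refine Or.inr (Or.inr ?_)
        by_contra hc'
        push Not at hc'
        exact hex ⟨he, hc'⟩
      · obtain ⟨j, rfl⟩ := ho
        exact Or.inl (by simp))
    have hAP : A ≤ perp Q P := hA'.trans inf_le_right
    exact ⟨P ⊔ A, sup_le hPW (hA'.trans inf_le_left), nd_sup hPn hAn hAP, inv_sup hPg hAg,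
      by rw [finrank_sup hPn hAP]; omega, (plus_sup hPn hAn hAP hPd hAd).2 (iff_of_true hPp hAp)⟩

end CharTwo

end Gen

end Cfsg.Agent.OrthHypFix93
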