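import Mathlib
import Cfsg.Agent.Lib.OrthHypFix93
import Cfsg.Agent.Lib.OmegaGeo

/-!
Elements of the commutator subgroup of the hyperbolic orthogonal group squaring to a scalar and
stabilising few subspaces.
-/

set_option autoImplicit false
set_option linter.unusedSectionVars false

namespace Cfsg.Agent.OrthHypElems93

open Module
open QuadraticMap (polar polarBilin)
open Cfsg.Agent.QuadClassify (qPlus qPlus_coe)
open Cfsg.Agent.OrthUnitaryQuad Cfsg.Agent.OrthUnitaryRefl Cfsg.Agent.OrthUnitaryPrelude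

variable {F : Type*} [Field F] [Fintype F] {d : ℕ}

/-- Squares lie in the commutator subgroup. -/
theorem sq_mem_commutator {V : Type*} [AddCommGroup V] [Module F V] [FiniteDimensional F V]
    {Q : QuadraticForm F V} (hgen : reflGroup Q = ⊤) (k : orth Q) : k * k ∈ commutator (orth Q) := by
  set f := Abelianization.of (G := orth Q)
  have hsq : ∀ g : orth Q, f g * f g = 1 := by
    intro g
    have hg : g ∈ reflGroup Q := hgen ▸ Subgroup.mem_top g
    induction hg using Subgroup.closure_induction with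
    | mem x hx =>
      obtain ⟨v, hv, rfl⟩ := hx
      rw [← map_mul, refl_sq v hv, map_one]
    | one => rw [map_one, mul_one]
    | mul a b _ _ ha hb => rw [map_mul, mul_mul_mul_comm, ha, hb, one_mul]
    | inv a _ ha => rw [map_inv, ← mul_inv, ha, inv_one]
  rw [← Abelianization.ker_of, MonoidHom.mem_ker, map_mul]
  exact hsq k

theorem plus_top : OrthIsoClasses61.Plus (qPlus d F) ⊤ := by
  refine ⟨_, le_top, OmegaStd.lagr_plus.1, ?_⟩
  rw [finrank_top]
  exact OmegaStd.lagr_plus.2

/-- The partner index. -/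
def pr (hd : Even d) (j : Fin d) : Fin d :=
  ⟨if j.1 % 2 = 0 then j.1 + 1 else j.1 - 1, by
    have := j.2
    obtain ⟨t, rfl⟩ := hd
    split_ifs <;> omega⟩

theorem pr_pr (hd : Even d) (j : Fin d) : pr hd (pr hd j) = j := by
  apply Fin.ext
  simp only [pr]
  split_ifs <;> omega

theorem pr_val (hd : Even d) (j : Fin d) :
    (j.1 % 2 = 0 → (pr hd j).1 = j.1 + 1) ∧ (j.1 % 2 ≠ 0 → (pr hd j).1 = j.1 - 1) := by
  refine ⟨fun h => ?_, fun h => ?_⟩ <;> simp [pr, h]

theorem pr_bij (hd : Even d) : Function.Bijective (pr hd) :=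
  Function.Involutive.bijective (pr_pr hd)

/-- The sign of an index. -/
def sg (j : Fin d) : F := if j.1 % 2 = 0 then 1 else -1

theorem sg_pr (hd : Even d) (j : Fin d) : (sg (pr hd j) : F) = -sg j := by
  obtain ⟨h1, h2⟩ := pr_val hd j
  by_cases h : j.1 % 2 = 0
  · simp [sg, h, h1 h, Nat.add_mod]
  · have : (j.1 - 1) % 2 = 0 := by omega
    simp [sg, h, h2 h, this]

theorem sg_sq (j : Fin d) : (sg j : F) * sg j = 1 := by unfold sg; split_ifs <;> ring

/-- A square root of a complex structure. -/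
def root (hd : Even d) (a s : F) : (Fin d ⊕ Fin d → F) →ₗ[F] (Fin d ⊕ Fin d → F) where
  toFun v := Sum.elim (fun j => a * v (.inl j) + a * sg j * v (.inl (pr hd j)))
    (fun j => s * (a * v (.inr j) + a * sg j * v (.inr (pr hd j))))
  map_add' u v := funext fun i => by rcases i with j | j <;> simp <;> ring
  map_smul' c v := funext fun i => by rcases i with j | j <;> simp <;> ring

/-- An element of the commutator subgroup of square `-1`. -/
theorem exists_neg_one (h2 : (2 : F) ≠ 0) (hnsq : ¬ IsSquare (-1 : F)) (hd : Even d) :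
    ∃ x : GL (Fin d ⊕ Fin d) F, x ∈ Cfsg.Geo.omegaGL (Cfsg.quadFormPlus d F) ∧
      (∀ v, Matrix.toLin' (x : Matrix (Fin d ⊕ Fin d) (Fin d ⊕ Fin d) F)
        (Matrix.toLin' (x : Matrix (Fin d ⊕ Fin d) (Fin d ⊕ Fin d) F) v) = -v) := by
  classical
  obtain ⟨a, s, hs, ha⟩ : ∃ a s : F, s * s = 1 ∧ 2 * (a * a) = s := by
    by_cases h : IsSquare (2 : F)
    · obtain ⟨c, hc⟩ := h
      refine ⟨c / 2, 1, by ring, ?_⟩
      field_simp
      linear_combination -hc
    · have h' : IsSquare (-2 : F) := by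
        have e1 := quadraticChar_neg_one_iff_not_isSquare.2 h
        have e2 := quadraticChar_neg_one_iff_not_isSquare.2 hnsq
        rw [← quadraticChar_one_iff_isSquare (neg_ne_zero.2 h2), show (-2 : F) = (-1) * 2 by ring, map_mul,
          e1, e2]
        rfl
      obtain ⟨c, hc⟩ := h'
      refine ⟨c / 2, -1, by ring, ?_⟩
      field_simp
      linear_combination -hc
  set Q := qPlus d F
  set L : Module.End F (Fin d ⊕ Fin d → F) := root hd a s
  have hL2 : ∀ v, L (L v) = Sum.elim (fun j => s * sg j * v (.inl (pr hd j)))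
      (fun j => s * sg j * v (.inr (pr hd j))) := by
    intro v
    funext i
    rcases i with j | j <;>
      simp only [L, root, LinearMap.coe_mk, AddHom.coe_mk, Sum.elim_inl, Sum.elim_inr, pr_pr, sg_pr]
    · linear_combination (sg j * v (.inl (pr hd j))) * ha - a * a * v (.inl j) * sg_sq (F := F) j
    · linear_combination (s * s * sg j * v (.inr (pr hd j))) * ha -
        s * s * (a * a) * v (.inr j) * sg_sq (F := F) j + (s * sg j * v (.inr (pr hd j))) * hs
  have hL4 : ∀ v, L (L (L (L v))) = -v := by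
    intro v
    rw [hL2, hL2]
    funext i
    rcases i with j | j <;> simp only [Sum.elim_inl, Sum.elim_inr, Pi.neg_apply, pr_pr, sg_pr]
    · linear_combination -(v (.inl j)) * (sg j * sg j * hs + sg_sq (F := F) j)
    · linear_combination -(v (.inr j)) * (sg j * sg j * hs + sg_sq (F := F) j)
  have hLQ : ∀ v, Q (L v) = Q v := by
    intro v
    simp only [Q, qPlus_coe, Cfsg.quadFormPlus, L, root, LinearMap.coe_mk, AddHom.coe_mk, Sum.elim_inl,
      Sum.elim_inr]
    have e1 : ∑ j, v (.inl (pr hd j)) * v (.inr (pr hd j)) = ∑ j, v (.inl j) * v (.inr j) :=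
      Equiv.sum_comp (Equiv.ofBijective _ (pr_bij hd)) (fun j => v (.inl j) * v (.inr j))
    set C := ∑ j, (sg j : F) * (v (.inl (pr hd j)) * v (.inr j) + v (.inl j) * v (.inr (pr hd j)))
    have e2 : C = 0 := by
      have h := Equiv.sum_comp (Equiv.ofBijective _ (pr_bij hd))
        (fun j => (sg j : F) * (v (.inl (pr hd j)) * v (.inr j) + v (.inl j) * v (.inr (pr hd j))))
      simp only [Equiv.ofBijective_apply, pr_pr, sg_pr] at h
      have hC : -C = C := by
        rw [← Finset.sum_neg_distrib]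
        refine Eq.trans (Finset.sum_congr rfl fun j _ => ?_) h
        ring
      have : (2 : F) * C = 0 := by linear_combination -hC
      exact (mul_eq_zero.1 this).resolve_left h2
    calc _ = ∑ j, (s * (a * a) * (v (.inl j) * v (.inr j)) +
          s * (a * a) * (v (.inl (pr hd j)) * v (.inr (pr hd j))) +
          s * (a * a) * ((sg j : F) * (v (.inl (pr hd j)) * v (.inr j) + v (.inl j) * v (.inr (pr hd j))))) :=
        Finset.sum_congr rfl fun j _ => by
          linear_combination (s * (a * a) * (v (.inl (pr hd j)) * v (.inr (pr hd j)))) * sg_sq (F := F) j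
      _ = _ := by
        rw [Finset.sum_add_distrib, Finset.sum_add_distrib, ← Finset.mul_sum, ← Finset.mul_sum,
          ← Finset.mul_sum, e1, show (∑ j, (sg j : F) *
            (v (.inl (pr hd j)) * v (.inr j) + v (.inl j) * v (.inr (pr hd j)))) = 0 from e2, mul_zero,
          add_zero]
        linear_combination (∑ j, v (.inl j) * v (.inr j)) * (s * ha + hs)
  have hinj : Function.Injective L := fun u v h => neg_injective (by rw [← hL4 u, ← hL4 v, h])
  let y : orth Q := ⟨LinearEquiv.ofInjectiveEndo L hinj, hLQ⟩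
  have hexc : Fintype.card F ≠ 2 ∨ finrank F (Fin d ⊕ Fin d → F) ≠ 4 := by
    refine Or.inl fun hc => h2 ?_
    have h0 := Nat.cast_card_eq_zero F
    rw [hc] at h0
    exact_mod_cast h0
  have hmem := sq_mem_commutator (OmegaClasses.reflGroup_top OmegaStd.nondeg_plus hexc) y
  refine ⟨OmegaGeo.toGL Q (y * y), by rw [← qPlus_coe]; exact OmegaGeo.toGL_mem hmem, fun v => ?_⟩
  simp only [Matrix.toLin'_apply, OmegaGeo.toGL_mulVec]
  exact hL4 v

/-- An element of the commutator subgroup whose fixed vectors are singular. -/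
theorem exists_alt (h2 : (2 : F) = 0) (hd : Even d) (hd3 : 3 ≤ d) :
    ∃ x : GL (Fin d ⊕ Fin d) F, x ∈ Cfsg.Geo.omegaGL (Cfsg.quadFormPlus d F) ∧
      (∀ v, Matrix.toLin' (x : Matrix (Fin d ⊕ Fin d) (Fin d ⊕ Fin d) F)
        (Matrix.toLin' (x : Matrix (Fin d ⊕ Fin d) (Fin d ⊕ Fin d) F) v) = v) ∧
      (∀ v, Matrix.toLin' (x : Matrix (Fin d ⊕ Fin d) (Fin d ⊕ Fin d) F) v = v →
        Cfsg.quadFormPlus d F v = 0) := by
  set Q := qPlus d F
  have hnd : (polarBilin Q).Nondegenerate := OmegaStd.nondeg_plus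
  have step : ∀ k, 2 * k ≤ d → ∃ h ∈ commutator (orth Q), ∀ v (j : Fin d),
      h.1 v (.inl j) = v (.inl j) + (if j.1 < 2 * k then v (.inr (pr hd j)) else 0) ∧
      h.1 v (.inr j) = v (.inr j) := by
    intro k
    induction k with
    | zero => exact fun _ => ⟨1, one_mem _, fun v j => by simp⟩
    | succ k ih =>
      intro hk
      obtain ⟨h, hh, hform⟩ := ih (by omega)
      set i₀ : Fin d := ⟨2 * k, by omega⟩ with hi₀
      set i₁ : Fin d := ⟨2 * k + 1, by omega⟩ with hi₁
      obtain ⟨k₀, hk₀, hk₀f⟩ := OmegaGeo.exists_siegel hnd (by rw [OmegaStd.finrank_plus]; omega)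
        (e := (Pi.single (Sum.inl i₀) 1 : Fin d ⊕ Fin d → F))
        (f := (Pi.single (Sum.inl i₁) 1 : Fin d ⊕ Fin d → F)) (OmegaStd.qPlus_single _)
        (OmegaStd.qPlus_single _) (by rw [OmegaStd.polar_plus_single_inl]; simp)
      refine ⟨k₀ * h, mul_mem hk₀ hh, fun v j => ?_⟩
      have p0 : pr hd i₀ = i₁ := Fin.ext ((pr_val hd i₀).1 (by simp [i₀]))
      have p1 : pr hd i₁ = i₀ := by rw [← p0, pr_pr]
      rw [orth_mul_apply, hk₀f, OmegaStd.polar_plus_single_inl, OmegaStd.polar_plus_single_inl,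
        (hform v i₀).2, (hform v i₁).2]
      refine ⟨?_, by simp [(hform v j).2]⟩
      rw [Pi.sub_apply, Pi.add_apply, Pi.smul_apply, Pi.smul_apply, (hform v j).1]
      by_cases e0 : j = i₀
      · rw [e0, p0]
        have hne : i₀ ≠ i₁ := fun e => by simpa [i₀, i₁] using congrArg Fin.val e
        simp [i₀, hne, ← hi₁]
      by_cases e1 : j = i₁
      · rw [e1, p1]
        have hne : i₁ ≠ i₀ := fun e => by simpa [i₀, i₁] using congrArg Fin.val e
        simp only [Pi.single_apply, Sum.inl.injEq, if_neg hne, if_true, smul_eq_mul, mul_zero, mul_one,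
          add_zero, if_neg (show ¬ (i₁ : ℕ) < 2 * k by simp [i₁]),
          if_pos (show (i₁ : ℕ) < 2 * (k + 1) by simp [i₁]; omega)]
        linear_combination -(v (Sum.inr i₀)) * h2
      have h0 : j.1 ≠ 2 * k := fun e => e0 (Fin.ext e)
      have h1 : j.1 ≠ 2 * k + 1 := fun e => e1 (Fin.ext e)
      simp only [Pi.single_apply, Sum.inl.injEq, if_neg e0, if_neg e1, smul_eq_mul, mul_zero, add_zero,
        sub_zero]
      split_ifs <;> first | rfl | omega
  obtain ⟨t, ht⟩ := id hd
  obtain ⟨h, hh, hform⟩ := step t (by omega)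
  have hl : ∀ v (j : Fin d), h.1 v (.inl j) = v (.inl j) + v (.inr (pr hd j)) := fun v j => by
    rw [(hform v j).1, if_pos (by omega)]
  refine ⟨OmegaGeo.toGL Q h, by rw [← qPlus_coe]; exact OmegaGeo.toGL_mem hh, fun v => ?_, fun v hv => ?_⟩
  · simp only [Matrix.toLin'_apply, OmegaGeo.toGL_mulVec]
    funext i
    rcases i with j | j
    · rw [hl, hl, (hform v _).2]
      linear_combination v (Sum.inr (pr hd j)) * h2
    · rw [(hform _ j).2, (hform v j).2]
  · rw [Matrix.toLin'_apply, OmegaGeo.toGL_mulVec] at hv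
    refine Finset.sum_eq_zero fun j _ => ?_
    have := congrFun hv (Sum.inl (pr hd j))
    rw [hl, pr_pr, add_eq_left] at this
    rw [this, mul_zero]

end Cfsg.Agent.OrthHypElems93
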