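import Mathlib
import Cfsg.Agent.Lib.OrthMinDegree32Count
import Cfsg.Agent.Lib.SLMinDegree32

/-!
Complex representations of the group generated by singular root elements of
`hypExt (hypExt R)`, decomposed along the radical of the stabiliser of a singular vector.
-/

set_option autoImplicit false
set_option maxHeartbeats 800000

namespace Cfsg.Agent.OrthMinDegree32

open QuadraticMap
open Cfsg.Agent.OrthUnitaryQuad
open Cfsg.Agent.OrthUnitaryRefl
open Cfsg.Agent.OrthUnitaryOmega
open Cfsg.Agent.OrthUnitarySimple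
open Cfsg.Agent.OrthUnitaryStd
open Cfsg.Agent.OrthMinDegree32Geom
open Cfsg.Agent.OrthMinDegree32Count
open Cfsg.Agent.SUMinDegree32Eigen
open Cfsg.Agent.SLMinDegree32Spec
open Cfsg.Agent.SLMinDegree32 (phi0 phi0_ne)
open scoped commutatorElement

variable {F Z : Type*} [Field F] [Fintype F] [AddCommGroup Z] [Module F Z] [Fintype Z]
  [FiniteDimensional F Z]

/-! ### Characters of the radical -/

/-- The character attached to a vector. -/
noncomputable def chi {U : Type*} [AddCommGroup U] [Module F U] (P : QuadraticForm F U) (c : U) :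
    AddChar U ℂ where
  toFun w := phi0 (polar P c w)
  map_zero_eq_one' := by rw [polar_zero_right, AddChar.map_zero_eq_one]
  map_add_eq_mul' v w := by rw [polar_add_right, AddChar.map_add_eq_mul]

theorem chi_apply {U : Type*} [AddCommGroup U] [Module F U] (P : QuadraticForm F U) (c w : U) :
    chi P c w = phi0 (polar P c w) := rfl

theorem chi_zero {U : Type*} [AddCommGroup U] [Module F U] (P : QuadraticForm F U) :
    chi P 0 = 0 := by
  ext w; simp [chi_apply]

theorem chi_bijective {U : Type*} [AddCommGroup U] [Module F U] [Fintype U]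
    {P : QuadraticForm F U} (hP : (polarBilin P).Nondegenerate) :
    Function.Bijective (chi P) := by
  classical
  rw [Fintype.bijective_iff_injective_and_card]
  refine ⟨fun c c' h => ?_, AddChar.card_eq.symm⟩
  by_contra hne
  obtain ⟨w, hw⟩ : ∃ w, polar P (c - c') w ≠ 0 := by
    by_contra! h'
    exact hne (sub_eq_zero.1 (hP.1 _ h'))
  obtain ⟨t, ht⟩ := phi0_ne (F := F)
  apply ht
  have h1 := DFunLike.congr_fun h ((t / polar P (c - c') w) • w)
  rw [chi_apply, chi_apply, polar_smul_right, polar_smul_right, smul_eq_mul, smul_eq_mul] at h1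
  rw [polar_sub_left] at hw
  have e : t / polar P (c - c') w * polar P c w = t / polar P (c - c') w * polar P c' w + t := by
    rw [polar_sub_left]
    field_simp
    ring
  rw [e, AddChar.map_add_eq_mul] at h1
  exact mul_eq_left₀ (AddChar.val_isUnit _ _).ne_zero |>.1 h1

theorem sum_phi0 : ∑ t : F, (phi0 : AddChar F ℂ) t = 0 := by
  obtain ⟨a, ha⟩ := phi0_ne (F := F)
  exact AddChar.sum_eq_zero_of_ne_one (AddChar.ne_one_iff.2 ⟨a, ha⟩)

/-! ### The setting -/

variable {R : QuadraticForm F Z} (hR : (polarBilin R).Nondegenerate)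
  (h2 : 2 ≤ Module.finrank F Z)

include hR h2

theorem nondeg' : (polarBilin (hypExt R)).Nondegenerate := nondegenerate_hypExt hR

theorem three_le : 3 ≤ Module.finrank F ((F × F) × Z) := by
  rw [finrank_hypExt_space]; omega

theorem five_le : 5 ≤ Module.finrank F ((F × F) × (F × F) × Z) := by
  rw [finrank_hypExt_space, finrank_hypExt_space]; omega

/-- The root elements of the radical, in the group. -/
noncomputable def r (w : (F × F) × Z) : sGroup (hypExt (hypExt R)) :=
  ⟨rS (hypExt R) w, rS_mem (nondeg' hR h2) (three_le hR h2) w⟩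

theorem r_add (v w : (F × F) × Z) : r hR h2 (v + w) = r hR h2 v * r hR h2 w :=
  Subtype.ext (rS_add v w)

theorem r_zero : r hR h2 0 = 1 := Subtype.ext rS_zero

theorem hypLift_mem {g : orth (hypExt R)} (hg : g ∈ sGroup (hypExt R) ∨ g ∈ HS R) :
    hypLift (hypExt R) g ∈ sGroup (hypExt (hypExt R)) := by
  have key : ∀ S : Set (orth (hypExt R)),
      (∀ g ∈ S, ∃ a b ha hb, g = siegel (hypExt R) a b ha hb) →
      ∀ g ∈ Subgroup.closure S, hypLift (hypExt R) g ∈ sGroup (hypExt (hypExt R)) := by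
    intro S hS g hg
    induction hg using Subgroup.closure_induction with
    | mem g hg =>
      obtain ⟨a, b, ha, hb, rfl⟩ := hS g hg
      rw [hypLift_siegel]
      exact siegel_mem' (nondeg' hR h2) (three_le hR h2) _ _
    | one => rw [map_one]; exact Subgroup.one_mem _
    | mul a b _ _ ha hb => rw [map_mul]; exact Subgroup.mul_mem _ ha hb
    | inv a _ ha => rw [map_inv]; exact Subgroup.inv_mem _ ha
  rcases hg with hg | hg
  · refine key _ ?_ g hg
    rintro _ ⟨a, b, ha, hb, -, rfl⟩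
    exact ⟨a, b, ha, hb, rfl⟩
  · refine key _ ?_ g hg
    rintro _ (⟨w, rfl⟩ | ⟨w, rfl⟩)
    · exact ⟨_, _, _, _, rfl⟩
    · exact ⟨_, _, _, _, rfl⟩

/-- The Levi complement. -/
noncomputable def levi : sGroup (hypExt R) →* sGroup (hypExt (hypExt R)) :=
  ((hypLift (hypExt R)).comp (sGroup (hypExt R)).subtype).codRestrict _
    fun g => hypLift_mem hR h2 (Or.inl g.2)

theorem lift_r {g : orth (hypExt R)} (hg : hypLift (hypExt R) g ∈ sGroup (hypExt (hypExt R)))
    (a : (F × F) × Z) :
    (⟨_, hg⟩ : sGroup (hypExt (hypExt R))) * r hR h2 a = r hR h2 (g.1 a) * (⟨_, hg⟩ : sGroup (hypExt (hypExt R))) := by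
  apply Subtype.ext
  show hypLift (hypExt R) g * rS (hypExt R) a = rS (hypExt R) (g.1 a) * hypLift (hypExt R) g
  rw [← hypLift_conj_rS g a]
  group

variable {X : Type} [AddCommGroup X] [Module ℂ X]
  (ρ : Representation ℂ (sGroup (hypExt (hypExt R))) X)

/-- The operators of the radical. -/
noncomputable def D : (F × F) × Z → Module.End ℂ X := fun w => ρ (r hR h2 w)

theorem D_add (v w : (F × F) × Z) : D hR h2 ρ (v + w) = D hR h2 ρ v * D hR h2 ρ w := by
  rw [D, r_add, map_mul]; rfl

theorem D_zero : D hR h2 ρ 0 = 1 := by rw [D, r_zero, map_one]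

/-- The eigenspace of a vector. -/
noncomputable def E (c : (F × F) × Z) : Submodule ℂ X := eig (D hR h2 ρ) (chi (hypExt R) c)

omit hR h2 in
theorem rho_injective {G : Type*} [Group G] (σ : Representation ℂ G X) (g : G) :
    Function.Injective (σ g) := fun x y h => by
  have h' := congrArg (σ g⁻¹) h
  rwa [← Module.End.mul_apply, ← Module.End.mul_apply, ← map_mul, inv_mul_cancel, map_one] at h'

theorem map_E {x : sGroup (hypExt (hypExt R))} {c c' : (F × F) × Z}
    (h : ∀ a, ∃ a', x * r hR h2 a' = r hR h2 a * x ∧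
      polar (hypExt R) c' a = polar (hypExt R) c a') :
    ∀ v ∈ E hR h2 ρ c, ρ x v ∈ E hR h2 ρ c' := by
  intro v hv a
  obtain ⟨a', e, hp⟩ := h a
  show ρ (r hR h2 a) (ρ x v) = _
  rw [← Module.End.mul_apply, ← map_mul, ← e, map_mul, Module.End.mul_apply,
    show ρ (r hR h2 a') v = _ from hv a', map_smul, chi_apply, chi_apply, hp]

theorem map_E_lift {g : orth (hypExt R)}
    (hg : hypLift (hypExt R) g ∈ sGroup (hypExt (hypExt R))) (c : (F × F) × Z) :
    ∀ v ∈ E hR h2 ρ c, ρ ⟨_, hg⟩ v ∈ E hR h2 ρ (g.1 c) :=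
  map_E hR h2 ρ fun a => ⟨g.1.symm a, by
    rw [lift_r, LinearEquiv.apply_symm_apply], by
    rw [← polar_orth g c (g.1.symm a), LinearEquiv.apply_symm_apply]⟩

omit hR h2 in
theorem finrank_le_of_map [FiniteDimensional ℂ X] {G : Type*} [Group G]
    (σ : Representation ℂ G X) (x : G) {A B : Submodule ℂ X} (h : ∀ v ∈ A, σ x v ∈ B) :
    Module.finrank ℂ A ≤ Module.finrank ℂ B :=
  LinearMap.finrank_le_finrank_of_injective (f := (σ x).restrict h) fun _ _ e =>
    Subtype.ext (rho_injective σ x (congrArg Subtype.val e))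

omit [Fintype F] [Fintype Z] [FiniteDimensional F Z] hR h2 in
/-- The standard vector of a given norm. -/
theorem rep_ne (a : F) : ((a, 1), 0) ≠ (0 : (F × F) × Z) := by simp [Prod.ext_iff]

/-- The common dimension of the eigenspaces of one norm. -/
noncomputable def d (a : F) : ℕ := Module.finrank ℂ (E hR h2 ρ ((a, 1), 0))

variable [FiniteDimensional ℂ X]

theorem finrank_E {c : (F × F) × Z} (hc : c ≠ 0) :
    Module.finrank ℂ (E hR h2 ρ c) = d hR h2 ρ (hypExt R c) := by
  have key : ∀ c c' : (F × F) × Z, c ≠ 0 → c' ≠ 0 → hypExt R c = hypExt R c' →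
      Module.finrank ℂ (E hR h2 ρ c) ≤ Module.finrank ℂ (E hR h2 ρ c') := by
    intro c c' hc hc' h
    obtain ⟨g, hg, e⟩ := exists_mem_HS hR (isUniv_of_two_le hR h2) hc hc' h
    exact finrank_le_of_map ρ _ (e ▸ map_E_lift hR h2 ρ (hypLift_mem hR h2 (Or.inr hg)) c)
  have e : hypExt R ((hypExt R c, 1), (0 : Z)) = hypExt R c := by simp [hypExt_apply]
  exact le_antisymm (key _ _ hc (rep_ne _) e.symm) (key _ _ (rep_ne _) hc e)

/-- Scaling the norm. -/
theorem d_scale {t : F} (ht : t ≠ 0) (a : F) : d hR h2 ρ (t * t * a) = d hR h2 ρ a := by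
  suffices key : ∀ t a : F, t ≠ 0 → d hR h2 ρ a ≤ d hR h2 ρ (t * t * a) by
    refine le_antisymm ?_ (key t a ht)
    have h := key t⁻¹ (t * t * a) (inv_ne_zero ht)
    rwa [show t⁻¹ * t⁻¹ * (t * t * a) = a by field_simp] at h
  intro t a ht
  obtain ⟨w, hw⟩ := isUniv_hypExt (P := R) 1
  obtain ⟨w', hw'⟩ := isUniv_hypExt (P := R) t
  have hw0 : hypExt R w ≠ 0 := by rw [hw]; exact one_ne_zero
  have hw0' : hypExt R w' ≠ 0 := by rw [hw']; exact ht
  have hx : kW (hypExt R) w * kW (hypExt R) w' ∈ sGroup (hypExt (hypExt R)) := by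
    refine HS_le (nondeg' hR h2) (three_le hR h2) (Subgroup.mul_mem _ ?_ ?_) <;>
    · rw [kW]
      exact Subgroup.mul_mem _ (Subgroup.mul_mem _ (rS_mem_HS _) (sS_mem_HS _)) (rS_mem_HS _)
  set g := refl (hypExt R) w hw0 * refl (hypExt R) w' hw0' with hg
  have hne : t • g.1 ((a, 1), 0) ≠ 0 :=
    smul_ne_zero ht fun h => rep_ne a (g.1.map_eq_zero_iff.1 h)
  have hn : hypExt R (t • g.1 ((a, 1), 0)) = t * t * a := by
    rw [QuadraticMap.map_smul, map_orth g]
    simp [hypExt_apply]
  rw [← hn, ← finrank_E hR h2 ρ hne]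
  refine finrank_le_of_map ρ ⟨_, hx⟩ (map_E hR h2 ρ fun b => ⟨g.1.symm (t • b), ?_, ?_⟩)
  · apply Subtype.ext
    show kW (hypExt R) w * kW (hypExt R) w' * rS (hypExt R) (g.1.symm (t • b)) =
      rS (hypExt R) b * (kW (hypExt R) w * kW (hypExt R) w')
    rw [← mul_inv_eq_iff_eq_mul, kW_mul_conj_rS hw0 hw0', ← hg, LinearEquiv.apply_symm_apply,
      hw, hw', smul_smul, one_div, inv_mul_cancel₀ ht, one_smul]
  · rw [← polar_orth g ((a, 1), 0) (g.1.symm (t • b)), LinearEquiv.apply_symm_apply,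
      polar_smul_left, polar_smul_right]

/-- The number of non-zero vectors of a given norm. -/
noncomputable def O (R : QuadraticForm F Z) (a : F) : ℕ :=
  Nat.card {c : (F × F) × Z // c ≠ 0 ∧ hypExt R c = a}

omit hR h2 [FiniteDimensional F Z] [FiniteDimensional ℂ X] in
theorem O_eq [DecidableEq F] (a : F) :
    (O R a : ℤ) = lev (hypExt R) a - if a = 0 then 1 else 0 := by
  classical
  rw [O, lev, Nat.card_eq_fintype_card, Nat.card_eq_fintype_card, Fintype.card_subtype,
    Fintype.card_subtype]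
  by_cases ha : a = 0
  · subst ha
    rw [if_pos rfl, Finset.filter_congr (q := fun c => hypExt R c = 0 ∧ c ≠ 0)
        (fun c _ => and_comm), ← Finset.filter_filter, Finset.filter_ne',
      Finset.card_erase_of_mem (by simp), Nat.cast_sub (Finset.card_pos.2 ⟨0, by simp⟩)]
    rfl
  · rw [if_neg ha, sub_zero]
    congr 2
    ext c
    simp only [Finset.mem_filter, Finset.mem_univ, true_and, and_iff_right_iff_imp]
    rintro rfl rfl
    exact ha (QuadraticMap.map_zero _)

/-- The sum over eigenspaces, grouped by norm. -/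
theorem sum_E (φ : (F × F) × Z → ℂ) [DecidableEq F] [DecidableEq Z] :
    ∑ c : (F × F) × Z, φ c * Module.finrank ℂ (E hR h2 ρ c) =
      φ 0 * Module.finrank ℂ (eig (D hR h2 ρ) 0) + ∑ a : F, (d hR h2 ρ a : ℂ) *
        ∑ c : (F × F) × Z with c ≠ 0 ∧ hypExt R c = a, φ c := by
  rw [← Finset.add_sum_erase _ _ (Finset.mem_univ (0 : (F × F) × Z))]
  congr 1
  · rw [E, chi_zero]
  · rw [← Finset.sum_fiberwise (Finset.univ.erase (0 : (F × F) × Z)) (fun c => hypExt R c)]
    refine Finset.sum_congr rfl fun a _ => ?_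
    rw [Finset.mul_sum]
    refine Finset.sum_congr ?_ fun c hc => ?_
    · ext c; simp
    · obtain ⟨-, hc0, rfl⟩ := Finset.mem_filter.1 hc
      rw [finrank_E hR h2 ρ hc0, mul_comm]

/-- The trace on the radical in spectral components. -/
theorem trace_D (v : (F × F) × Z) :
    LinearMap.trace ℂ X (D hR h2 ρ v) =
      ∑ c : (F × F) × Z, chi (hypExt R) c v * Module.finrank ℂ (E hR h2 ρ c) := by
  classical
  conv_lhs => rw [← mul_one (D hR h2 ρ v), ← sum_P (D_zero hR h2 ρ), Finset.mul_sum, map_sum]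
  rw [← (Equiv.ofBijective _ (chi_bijective (nondeg' hR h2))).sum_comp]
  refine Finset.sum_congr rfl fun c _ => ?_
  rw [D_mul_P (D_add hR h2 ρ), map_smul, smul_eq_mul, trace_P (D_add hR h2 ρ)]
  rfl

theorem finrank_eq [DecidableEq F] :
    Module.finrank ℂ X =
      Module.finrank ℂ (eig (D hR h2 ρ) 0) + ∑ a : F, d hR h2 ρ a * O R a := by
  classical
  have h := trace_D hR h2 ρ 0
  simp only [AddChar.map_zero_eq_one] at h
  rw [sum_E hR h2 ρ (fun _ => 1), D_zero, LinearMap.trace_one, one_mul] at h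
  have e : ∀ a, (∑ _c : (F × F) × Z with _c ≠ 0 ∧ hypExt R _c = a, (1 : ℂ)) = (O R a : ℂ) :=
    fun a => by rw [Finset.sum_const, nsmul_one, O, Nat.card_eq_fintype_card, Fintype.card_subtype]
  simp only [e] at h
  exact_mod_cast h

omit [FiniteDimensional ℂ X] in
/-- The exponential sum over a level set at a singular vector. -/
theorem sum_orbit [DecidableEq F] [DecidableEq Z] {v : (F × F) × Z} (hv : hypExt R v = 0)
    (hv0 : v ≠ 0) (a : F) :
    ∑ c : (F × F) × Z with c ≠ 0 ∧ hypExt R c = a, chi (hypExt R) c v =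
      (O R a : ℂ) - (Fintype.card F : ℂ) * Fintype.card Z := by
  have hu : ((1, 0), 0) ≠ (0 : (F × F) × Z) := by simp [Prod.ext_iff]
  obtain ⟨g, -, e⟩ := exists_mem_HS hR (isUniv_of_two_le hR h2) hv0 hu
    (by rw [hv]; simp [hypExt_apply])
  set φ : (F × F) × Z → ℂ := fun c => phi0 c.1.2 with hφ
  have hS : ∑ c : (F × F) × Z with c ≠ 0 ∧ hypExt R c = a, chi (hypExt R) c v =
      ∑ c : (F × F) × Z with c ≠ 0 ∧ hypExt R c = a, φ c := by
    refine Finset.sum_equiv g.1.toEquiv (fun c => ?_) fun c _ => ?_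
    · simp [map_orth g]
    · rw [chi_apply, ← polar_orth g c v, e, hφ]
      show phi0 (polar (hypExt R) (g.1 c) ((1, 0), 0)) = phi0 (g.1 c).1.2
      obtain ⟨⟨x, y⟩, z⟩ := g.1 c
      rw [polar_hypExt, mul_zero, zero_add, one_mul, polar_zero_right, add_zero]
  -- the sum with the zero vector included
  have hfull : ∀ ψ : (F × F) × Z → ℂ, ψ 0 = 1 →
      ∑ c : (F × F) × Z with hypExt R c = a, ψ c =
        (∑ c : (F × F) × Z with c ≠ 0 ∧ hypExt R c = a, ψ c) + if a = 0 then 1 else 0 := by
    intro ψ hψ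
    by_cases ha : a = 0
    · subst ha
      rw [if_pos rfl, ← Finset.sum_erase_add _ _ (show (0 : (F × F) × Z) ∈
        Finset.univ.filter (fun c => hypExt R c = 0) by simp), hψ]
      congr 1
      refine Finset.sum_congr ?_ fun _ _ => rfl
      ext c; simp
    · rw [if_neg ha, add_zero]
      refine Finset.sum_congr ?_ fun _ _ => rfl
      ext c
      simp only [Finset.mem_filter, Finset.mem_univ, true_and, iff_and_self]
      rintro rfl rfl
      exact ha (QuadraticMap.map_zero _)
  have h1 : ∑ c : (F × F) × Z with hypExt R c = a, φ c =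
      (Fintype.card F : ℂ) * (lev R a : ℂ) - Fintype.card Z := by
    rw [Finset.sum_filter, Fintype.sum_prod_type, Fintype.sum_prod_type_right,
      ← Finset.add_sum_erase _ _ (Finset.mem_univ (0 : F))]
    have e0 : (∑ x : F, ∑ z : Z, if hypExt R ((x, 0), z) = a then φ ((x, 0), z) else 0) =
        (Fintype.card F : ℂ) * (lev R a : ℂ) := by
      simp only [hypExt_apply, mul_zero, zero_add, hφ, AddChar.map_zero_eq_one]
      rw [Finset.sum_const, Finset.card_univ, nsmul_eq_mul, ← Finset.sum_filter, Finset.sum_const,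
        nsmul_one, lev, Nat.card_eq_fintype_card, Fintype.card_subtype]
      push_cast
      rfl
    have e1 : ∀ y ∈ Finset.univ.erase (0 : F),
        (∑ x : F, ∑ z : Z, if hypExt R ((x, y), z) = a then φ ((x, y), z) else 0) =
          (Fintype.card Z : ℂ) * phi0 y := by
      intro y hy
      have hy0 := Finset.ne_of_mem_erase hy
      rw [Finset.sum_comm, Finset.sum_congr rfl (g := fun _ => phi0 y) fun z _ => ?_,
        Finset.sum_const, Finset.card_univ, nsmul_eq_mul]
      rw [Finset.sum_eq_single ((a - R z) / y)]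
      · rw [if_pos (by rw [hypExt_apply, div_mul_cancel₀ _ hy0, sub_add_cancel])]
      · intro x _ hx
        rw [if_neg fun h => hx ?_]
        rw [hypExt_apply] at h
        rw [eq_div_iff hy0]
        linear_combination h
      · simp
    rw [e0, Finset.sum_congr rfl e1, ← Finset.mul_sum,
      Finset.sum_erase_eq_sub (Finset.mem_univ (0 : F)), sum_phi0, AddChar.map_zero_eq_one]
    ring
  have h3 : ((O R a : ℤ) : ℂ) = ((lev (hypExt R) a - if a = 0 then 1 else 0 : ℤ) : ℂ) := by
    rw [O_eq]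
  rw [lev_hypExt, Nat.card_eq_fintype_card] at h3
  push_cast at h3
  have h4 := hfull φ (by simp [hφ])
  rw [h1] at h4
  rw [hS]
  split_ifs at h3 h4 <;> linear_combination -h3 - h4

/-- The value at singular elements of the radical. -/
theorem char_r [DecidableEq F] {v : (F × F) × Z} (hv : hypExt R v = 0) (hv0 : v ≠ 0) :
    ρ.character (r hR h2 v) = (Module.finrank ℂ X : ℂ) -
      (∑ a : F, d hR h2 ρ a : ℕ) * ((Fintype.card F : ℂ) * Fintype.card Z) := by
  classical
  show LinearMap.trace ℂ X (D hR h2 ρ v) = _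
  rw [trace_D, sum_E, finrank_eq hR h2 ρ, chi_apply, polar_zero_left, AddChar.map_zero_eq_one]
  simp only [sum_orbit hR h2 hv hv0, mul_sub, Finset.sum_sub_distrib]
  push_cast
  rw [Finset.sum_mul]
  ring

/-- A nontrivial representation has a nontrivial eigenspace. -/
theorem sum_d_pos [DecidableEq F] (hnt : ∃ g, ρ g ≠ 1) : 0 < ∑ a : F, d hR h2 ρ a := by
  classical
  by_contra hle
  obtain ⟨g, hg⟩ := hnt
  have hall : ∀ a, d hR h2 ρ a = 0 := fun a => Finset.sum_eq_zero_iff.1
    (Nat.le_zero.1 (not_lt.1 hle)) a (Finset.mem_univ a)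
  have htop : eig (D hR h2 ρ) 0 = ⊤ := by
    refine Submodule.eq_top_of_finrank_eq ?_
    rw [finrank_eq hR h2 ρ, Finset.sum_eq_zero (fun a _ => by rw [hall, zero_mul]), add_zero]
  have hr : ∀ w, r hR h2 w ∈ MonoidHom.ker ρ := fun w => LinearMap.ext fun x =>
    mem_eig_zero.1 (htop.ge Submodule.mem_top : x ∈ eig (D hR h2 ρ) 0) w
  exact hg ((eq_top_of_rS (nondeg' hR h2) (three_le hR h2) (MonoidHom.ker ρ) hr).ge
    (Subgroup.mem_top g))

omit [FiniteDimensional ℂ X] in
theorem levi_map_fix (g : sGroup (hypExt R)) :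
    ∀ v ∈ eig (D hR h2 ρ) 0, ρ (levi hR h2 g) v ∈ eig (D hR h2 ρ) 0 := by
  intro v hv
  have h := map_E_lift hR h2 ρ (hypLift_mem hR h2 (Or.inl g.2)) 0 v (by rwa [E, chi_zero])
  rwa [map_zero, E, chi_zero] at h

/-- The fixed space of the radical as a representation of the Levi complement. -/
noncomputable def fixRep : Representation ℂ (sGroup (hypExt R)) (eig (D hR h2 ρ) 0) where
  toFun g := (ρ (levi hR h2 g)).restrict (levi_map_fix hR h2 ρ g)
  map_one' := LinearMap.ext fun v => Subtype.ext (by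
    show ρ (levi hR h2 1) (v : X) = v
    rw [map_one, map_one, Module.End.one_apply])
  map_mul' g h := LinearMap.ext fun v => Subtype.ext (by
    show ρ (levi hR h2 (g * h)) (v : X) = ρ (levi hR h2 g) (ρ (levi hR h2 h) v)
    rw [map_mul, map_mul, Module.End.mul_apply])

omit [FiniteDimensional ℂ X] in
/-- An element of the commutator of a stabiliser fixes a one-dimensional eigenspace. -/
theorem fix_E {c : (F × F) × Z} (hd : Module.finrank ℂ (E hR h2 ρ c) = 1)
    (t : sGroup (hypExt R)) (ht : t.1 ∈ ⁅stabS (hypExt R) c, stabS (hypExt R) c⁆) :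
    ∀ v ∈ E hR h2 ρ c, ρ (levi hR h2 t) v = v := by
  obtain ⟨w, hw0, hw⟩ := finrank_eq_one_iff'.1 hd
  have hscal : ∀ g : stabS (hypExt R) c, ∃ l : ℂ,
      ρ ⟨_, hypLift_mem hR h2 (Or.inl g.2.1)⟩ (w : X) = l • (w : X) := by
    rintro ⟨g, hg1, hg2⟩
    have h := map_E_lift hR h2 ρ (hypLift_mem hR h2 (Or.inl hg1)) c _ w.2
    rw [hg2] at h
    obtain ⟨l, hl⟩ := hw ⟨_, h⟩
    exact ⟨l, congrArg Subtype.val hl.symm⟩
  choose l hl using hscal
  have hwX : (w : X) ≠ 0 := fun h => hw0 (Subtype.ext h)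
  let L : stabS (hypExt R) c →* ℂ :=
    { toFun := l
      map_one' := smul_left_injective ℂ hwX (by
        show l 1 • (w : X) = (1 : ℂ) • (w : X)
        rw [← hl, one_smul, show (⟨_, hypLift_mem hR h2 (Or.inl (1 : stabS (hypExt R) c).2.1)⟩ :
          sGroup (hypExt (hypExt R))) = 1 from Subtype.ext (map_one _), map_one,
          Module.End.one_apply])
      map_mul' := fun g h => smul_left_injective ℂ hwX (by
        show l (g * h) • (w : X) = (l g * l h) • (w : X)
        rw [← hl, show (⟨_, hypLift_mem hR h2 (Or.inl (g * h).2.1)⟩ :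
          sGroup (hypExt (hypExt R))) = ⟨_, hypLift_mem hR h2 (Or.inl g.2.1)⟩ *
            ⟨_, hypLift_mem hR h2 (Or.inl h.2.1)⟩ from Subtype.ext (map_mul _ _ _), map_mul,
          Module.End.mul_apply, hl, map_smul, hl, smul_smul, mul_comm]) }
  rw [← Subgroup.map_subtype_commutator] at ht
  obtain ⟨t', ht', e⟩ := ht
  have hker : commutator (stabS (hypExt R) c) ≤ L.toHomUnits.ker :=
    Abelianization.commutator_subset_ker _
  have h1 : l t' = 1 := congrArg Units.val (MonoidHom.mem_ker.1 (hker ht'))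
  intro v hv
  obtain ⟨k, hk⟩ := hw ⟨v, hv⟩
  have hk' : k • (w : X) = v := congrArg Subtype.val hk
  rw [← hk', map_smul, show levi hR h2 t = ⟨_, hypLift_mem hR h2 (Or.inl t'.2.1)⟩ from
    Subtype.ext (congrArg (hypLift (hypExt R)) e.symm), hl, h1, one_smul]

/-- The value on a Levi element fixing the eigenspaces of its fixed characters. -/
theorem char_levi [DecidableEq F] [DecidableEq Z] (t : sGroup (hypExt R))
    (hfix : ∀ c, c ≠ 0 → t.1.1 c = c → ∀ v ∈ E hR h2 ρ c, ρ (levi hR h2 t) v = v) :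
    ρ.character (levi hR h2 t) = (fixRep hR h2 ρ).character t +
      ∑ a : F, (d hR h2 ρ a : ℂ) *
        (Finset.univ.filter fun c => (c ≠ 0 ∧ hypExt R c = a) ∧ t.1.1 c = c).card := by
  classical
  let θ : ((F × F) × Z) ≃+ ((F × F) × Z) := t.1.1.toAddEquiv
  have hG : ∀ a, ρ (levi hR h2 t) * D hR h2 ρ a = D hR h2 ρ (θ a) * ρ (levi hR h2 t) := fun a => by
    rw [D, D, ← map_mul, ← map_mul]
    congr 1
    exact lift_r hR h2 _ a
  show LinearMap.trace ℂ X (ρ (levi hR h2 t)) = _
  rw [← one_mul (ρ (levi hR h2 t)), ← D_zero hR h2 ρ,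
    trace_D_mul (D_add hR h2 ρ) (D_zero hR h2 ρ) θ hG 0,
    ← (Equiv.ofBijective _ (chi_bijective (nondeg' hR h2))).sum_comp,
    ← Finset.add_sum_erase _ _ (Finset.mem_univ (0 : (F × F) × Z))]
  congr 1
  · simp only [Equiv.ofBijective_apply, chi_zero]
    rw [if_pos (by ext a; simp), AddChar.zero_apply, one_mul,
      trace_mul_P_zero (D_add hR h2 ρ) (levi_map_fix hR h2 ρ t)]
    rfl
  · have hiff : ∀ c, (chi (hypExt R) c).compAddMonoidHom θ.symm.toAddMonoidHom = chi (hypExt R) c ↔
        t.1.1 c = c := fun c => by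
      have e : (chi (hypExt R) c).compAddMonoidHom θ.symm.toAddMonoidHom =
          chi (hypExt R) (t.1.1 c) := by
        ext a
        show phi0 (polar (hypExt R) c (t.1.1.symm a)) = phi0 (polar (hypExt R) (t.1.1 c) a)
        rw [← polar_orth t.1 c (t.1.1.symm a), LinearEquiv.apply_symm_apply]
      rw [e, (chi_bijective (nondeg' hR h2)).1.eq_iff]
    simp only [Equiv.ofBijective_apply, hiff, AddChar.map_zero_eq_one, one_mul]
    rw [← Finset.sum_fiberwise (Finset.univ.erase (0 : (F × F) × Z)) (fun c => hypExt R c)]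
    refine Finset.sum_congr rfl fun a _ => ?_
    rw [← Finset.sum_filter, Finset.sum_congr rfl (g := fun _ => (d hR h2 ρ a : ℂ)) fun c hc => ?_,
      Finset.sum_const, nsmul_eq_mul, mul_comm]
    · congr 3
      ext c
      simp
    · simp only [Finset.mem_filter, Finset.mem_erase, Finset.mem_univ, and_true] at hc
      obtain ⟨⟨hc0, rfl⟩, hct⟩ := hc
      rw [trace_fix_mul_P (D_add hR h2 ρ) _ (hfix c hc0 hct)]
      show (Module.finrank ℂ (E hR h2 ρ c) : ℂ) = _
      rw [finrank_E hR h2 ρ hc0]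

/-- Root elements take the value of the singular radical elements. -/
theorem char_root [DecidableEq F] {a b : (F × F) × (F × F) × Z}
    (ha : hypExt (hypExt R) a = 0) (hb : hypExt (hypExt R) b = 0)
    (hab : polar (hypExt (hypExt R)) a b = 0) (hli : LinearIndependent F ![a, b])
    (hm : siegel _ a b ha hab ∈ sGroup (hypExt (hypExt R))) :
    ρ.character ⟨_, hm⟩ = (Module.finrank ℂ X : ℂ) -
      (∑ a : F, d hR h2 ρ a : ℕ) * ((Fintype.card F : ℂ) * Fintype.card Z) := by
  have ha0 : a ≠ 0 := hli.ne_zero 0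
  obtain ⟨g, hg, hga, e⟩ := exists_conj_rS (nondeg' hR h2) (three_le hR h2) ha hab ha0
  obtain ⟨⟨⟨t, s⟩, v⟩, hgb⟩ : ∃ x, g.1 b = x := ⟨_, rfl⟩
  have hperp := polar_orth g a b
  rw [hga, hgb, hab, polar_hypExt] at hperp
  obtain rfl : s = 0 := by simpa using hperp
  have hv : hypExt R v = 0 := by
    have h := map_orth g b
    rw [hgb, hb, hypExt_apply] at h
    simpa using h
  have hv0 : v ≠ 0 := by
    intro h
    have := (LinearIndependent.pair_iff.1 hli t (-1) (g.1.injective (by
      rw [map_add, map_smul, map_smul, hga, hgb, h, map_zero]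
      simp [Prod.ext_iff]))).2
    simp at this
  rw [← char_r hR h2 ρ hv hv0, ← Representation.char_conj ρ ⟨_, hm⟩ ⟨g, hg⟩]
  congr 1
  apply Subtype.ext
  show g * siegel _ a b ha hab * g⁻¹ = rS (hypExt R) v
  rw [e, hgb]

/-! ### Root elements and divisibility -/

omit [FiniteDimensional ℂ X] in
/-- The class sum of the root elements. -/
theorem exists_dvd [ρ.IsIrreducible] [FiniteDimensional ℂ X] (hd : ∑ a : F, d hR h2 ρ a = 1) :
    ∃ K : ℕ, Module.finrank ℂ X ∣ K * (Fintype.card F * Fintype.card Z) ∧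
      (K : ℤ) * ((Fintype.card F : ℤ) * ((Fintype.card F : ℤ) ^ 2 - 1)) =
        (lev (hypExt (hypExt R)) 0 - 1) * (Fintype.card F * (lev (hypExt R) 0 - 1)) := by
  classical
  haveI : Fintype (orth (hypExt (hypExt R))) := by
    haveI := finite_orth (hypExt (hypExt R))
    exact Fintype.ofFinite _
  set T : Finset (sGroup (hypExt (hypExt R))) := Finset.univ.filter fun g => ∃ p : {p : ((F × F) × (F × F) × Z) × ((F × F) × (F × F) × Z) // IsPair (hypExt (hypExt R)) p},
    root p = g.1 with hT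
  have hmem : ∀ p : {p : ((F × F) × (F × F) × Z) × ((F × F) × (F × F) × Z) // IsPair (hypExt (hypExt R)) p}, root p ∈ sGroup (hypExt (hypExt R)) := fun p =>
    siegel_mem' (nondeg' hR h2) (three_le hR h2) _ _
  refine ⟨T.card, ?_, ?_⟩
  · have hconj : ∀ x g, g ∈ T → x * g * x⁻¹ ∈ T := by
      intro x g hg
      simp only [hT, Finset.mem_filter, Finset.mem_univ, true_and] at hg ⊢
      obtain ⟨⟨⟨a, b⟩, ⟨ha, hb, hab⟩, hli⟩, hp⟩ := hg
      refine ⟨⟨(x.1.1 a, x.1.1 b), ⟨by rw [map_orth, ha], by rw [map_orth, hb],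
        by rw [polar_orth, hab]⟩, ?_⟩, ?_⟩
      · rw [show ![x.1.1 a, x.1.1 b] = (x.1.1 : ((F × F) × (F × F) × Z) →ₗ[F] ((F × F) × (F × F) × Z)) ∘ ![a, b] from
          funext fun i => by fin_cases i <;> rfl]
        exact hli.map' _ (LinearEquiv.ker _)
      · show siegel _ (x.1.1 a) (x.1.1 b) _ _ = x.1 * g.1 * x.1⁻¹
        rw [← hp]
        exact (conj_siegel x.1 a b ha hab).symm
    have hf : Cfsg.IsClassFunction (sGroup (hypExt (hypExt R))) (fun g => if g ∈ T then (1 : ℂ) else 0) :=
      fun g x => by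
        refine if_congr ⟨fun h => ?_, hconj x g⟩ rfl rfl
        have := hconj x⁻¹ _ h
        simpa [mul_assoc] using this
    have h := CharBasicInt.isIntegral_sum_mul_div ρ hf fun g => by
      split_ifs
      · exact isIntegral_one
      · exact isIntegral_zero
    simp only [ite_mul, one_mul, zero_mul, Finset.sum_ite_mem, Finset.univ_inter] at h
    rw [Finset.sum_congr rfl (g := fun _ => (Module.finrank ℂ X : ℂ) -
      (Fintype.card F : ℂ) * Fintype.card Z) (fun g hg => ?_), Finset.sum_const, nsmul_eq_mul,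
      mul_sub, sub_div, mul_div_cancel_right₀ _
        (Nat.cast_ne_zero.2 (CharBasic.finrank_pos_of_irreducible ρ).ne')] at h
    · have h' := (isIntegral_algebraMap (R := ℤ) (A := ℂ) (x := (T.card : ℤ))).sub h
      refine CharBasicInt.dvd_of_isIntegral_div (CharBasic.finrank_pos_of_irreducible ρ).ne' ?_
      simpa using h'
    · simp only [hT, Finset.mem_filter, Finset.mem_univ, true_and] at hg
      obtain ⟨⟨⟨a, b⟩, ⟨ha, hb, hab⟩, hli⟩, hp⟩ := hg
      obtain ⟨g, hg'⟩ := g
      obtain rfl : siegel (hypExt (hypExt R)) a b ha hab = g := hp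
      rw [char_root hR h2 ρ ha hb hab hli hg', hd, Nat.cast_one, one_mul]
  · rw [← card_pairs (nondeg' hR h2) isUniv_hypExt]
    have hq : (1 : ℕ) ≤ Fintype.card F ^ 2 := Nat.one_le_pow _ _ Fintype.card_pos
    rw [show (T.card : ℤ) * ((Fintype.card F : ℤ) * ((Fintype.card F : ℤ) ^ 2 - 1)) =
      ((T.card * (Fintype.card F * (Fintype.card F ^ 2 - 1)) : ℕ) : ℤ) by push_cast [hq]; ring]
    congr 1
    rw [Nat.card_eq_fintype_card, ← Finset.card_univ (α := {p : ((F × F) × (F × F) × Z) ×
        ((F × F) × (F × F) × Z) // IsPair (hypExt (hypExt R)) p}),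
      Finset.card_eq_sum_card_fiberwise (f := fun p : {p : ((F × F) × (F × F) × Z) × ((F × F) × (F × F) × Z) // IsPair (hypExt (hypExt R)) p} =>
        (⟨root p, hmem p⟩ : sGroup (hypExt (hypExt R)))) (t := T)
        (fun p _ => Finset.mem_filter.2 ⟨Finset.mem_univ _, p, rfl⟩),
      Finset.sum_congr rfl (g := fun _ => Fintype.card F * (Fintype.card F ^ 2 - 1))
        (fun g hg => ?_), Finset.sum_const, smul_eq_mul]
    simp only [hT, Finset.mem_filter, Finset.mem_univ, true_and] at hg
    obtain ⟨p, hp⟩ := hg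
    rw [← card_fibre_root (nondegenerate_hypExt (nondeg' hR h2)) p, Nat.card_eq_fintype_card,
      Fintype.card_subtype]
    congr 1
    ext p'
    simp only [Finset.mem_filter, Finset.mem_univ, true_and]
    exact ⟨fun h => (congrArg Subtype.val h).trans hp.symm, fun h => Subtype.ext (h.trans hp)⟩

end Cfsg.Agent.OrthMinDegree32
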