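import Mathlib
import Cfsg.Agent.Lib.OrthMinDegree32

/-!
The fixed space of the radical: the value at a root element of the Levi complement and existence
of vectors fixed by the next radical.
-/

set_option autoImplicit false
set_option maxHeartbeats 4000000

namespace Cfsg.Agent.OrthMinDegree32Fix

open QuadraticMap
open Cfsg.Agent.OrthUnitaryQuad
open Cfsg.Agent.OrthUnitaryRefl
open Cfsg.Agent.OrthUnitaryOmega
open Cfsg.Agent.OrthUnitarySimple
open Cfsg.Agent.OrthUnitaryStd
open Cfsg.Agent.OrthMinDegree32Geom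
open Cfsg.Agent.OrthMinDegree32Count
open Cfsg.Agent.OrthMinDegree32
open Cfsg.Agent.SUMinDegree32Eigen
open Cfsg.Agent.SLMinDegree32Spec
open scoped commutatorElement

variable {F Y : Type*} [Field F] [Fintype F] [AddCommGroup Y] [Module F Y] [Fintype Y]
  [FiniteDimensional F Y] {T : QuadraticForm F Y} (hT : (polarBilin T).Nondegenerate)
  (h2 : 2 ≤ Module.finrank F Y)

include hT h2

theorem hR : (polarBilin (hypExt T)).Nondegenerate := nondegenerate_hypExt hT

theorem hZ : 2 ≤ Module.finrank F ((F × F) × Y) := by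
  rw [finrank_hypExt_space]; omega

omit [Fintype F] [Fintype Y] [FiniteDimensional F Y] hT h2 in
theorem rS_fix_iff (z : (F × F) × Y) (hz : hypExt T z = 0) (hz0 : z ≠ 0)
    (c : (F × F) × (F × F) × Y) :
    (rS (hypExt T) z).1 c = c ↔ c.1.2 = 0 ∧ polar (hypExt T) z c.2 = 0 := by
  obtain ⟨⟨x, y⟩, v⟩ := c
  rw [rS_apply, hz]
  simp only [zero_mul, sub_zero, Prod.mk.injEq, sub_eq_self, and_true, add_eq_left, smul_eq_zero]
  exact ⟨fun h => ⟨h.2.resolve_right hz0, h.1⟩, fun h => ⟨h.2, Or.inl h.1⟩⟩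

/-- The condition under which the root element fixes one-dimensional eigenspaces. -/
def Scal (T : QuadraticForm F Y) (a : F) : Prop :=
  ∀ c : (F × F) × (F × F) × Y, hypExt (hypExt T) c = a →
    (rS (hypExt T) ((1, 0), 0)).1 c = c →
    rS (hypExt T) ((1, 0), 0) ∈ ⁅stabS (hypExt (hypExt T)) c, stabS (hypExt (hypExt T)) c⁆

theorem scal_of_large (hbig : 3 ≤ Module.finrank F Y) (a : F) : Scal T a := by
  intro c _ hct
  obtain ⟨h1, h2'⟩ := (rS_fix_iff _ (by simp [hypExt_apply]) (by simp [Prod.ext_iff]) c).1 hct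
  obtain ⟨⟨x, y⟩, v⟩ := c
  dsimp only at h1 h2'
  subst h1
  refine siegel_mem_stab_of_small (nondegenerate_hypExt (hR hT h2))
    (five_le (R := T) hT h2) (by simp [hypExt_apply]) (by simp [hypExt_apply]) _
    (by simp [polar_hypExt]) (by simpa [polar_hypExt] using h2')
    (Submodule.span F (Set.range ![((1, 0), 0), ((0, 0), ((1, 0), 0)), ((x, 0), v)]))
    (Submodule.subset_span ⟨0, rfl⟩) (Submodule.subset_span ⟨1, rfl⟩)
    (Submodule.subset_span ⟨2, rfl⟩) ?_
  have h3 := finrank_range_le_card (R := F)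
    (![((1, 0), 0), ((0, 0), ((1, 0), 0)), ((x, 0), v)] : Fin 3 → (F × F) × (F × F) × Y)
  rw [Fintype.card_fin, Set.finrank] at h3
  rw [finrank_hypExt_space, finrank_hypExt_space]
  omega

theorem scal_of_card (hq : 3 < Fintype.card F) (a : F) : Scal T a := by
  intro c _ hct
  obtain ⟨h1, h2'⟩ := (rS_fix_iff _ (by simp [hypExt_apply]) (by simp [Prod.ext_iff]) c).1 hct
  obtain ⟨⟨x, y⟩, v⟩ := c
  dsimp only at h1 h2'
  subst h1
  have hn := five_le (R := T) hT h2
  have hnd := nondegenerate_hypExt (hR hT h2)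
  set A : (F × F) × (F × F) × Y := ((1, 0), 0)
  set B : (F × F) × (F × F) × Y := ((0, 0), ((1, 0), 0))
  by_cases hv : v ∈ Submodule.span F ({((1, 0), 0)} : Set ((F × F) × Y))
  · refine siegel_mem_stab_of_small hnd hn (by simp [A, hypExt_apply]) (by simp [hypExt_apply]) _
      (by simp [polar_hypExt]) (by simpa [polar_hypExt] using h2')
      (Submodule.span F (Set.range ![A, B])) (Submodule.subset_span ⟨0, rfl⟩)
      (Submodule.subset_span ⟨1, rfl⟩) ?_ ?_
    · obtain ⟨r, rfl⟩ := Submodule.mem_span_singleton.1 hv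
      rw [show (((x, 0), r • ((1, 0), 0)) : (F × F) × (F × F) × Y) = x • A + r • B by
        simp [A, B, Prod.ext_iff]]
      exact Submodule.add_mem _ (Submodule.smul_mem _ _ (Submodule.subset_span ⟨0, rfl⟩))
        (Submodule.smul_mem _ _ (Submodule.subset_span ⟨1, rfl⟩))
    · have h3 := finrank_range_le_card (R := F) (![A, B] : Fin 2 → (F × F) × (F × F) × Y)
      rw [Fintype.card_fin, Set.finrank] at h3
      omega
  · refine siegel_mem_stab_of_card hnd hn hq (by simp [hypExt_apply]) _ (by simp [polar_hypExt])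
      (by simpa [polar_hypExt] using h2') fun hmem => hv ?_
    obtain ⟨r, s, hrs⟩ := Submodule.mem_span_pair.1 hmem
    have e1 := congrArg (fun p : (F × F) × (F × F) × Y => p.1.1) hrs
    have e2 := congrArg (fun p : (F × F) × (F × F) × Y => p.2) hrs
    simp at e1 e2
    have hs : s ≠ 0 := fun h => by simp [h] at e1
    refine Submodule.mem_span_singleton.2 ⟨-(r / s), ?_⟩
    have : s • v = -(r • (((1, 0), 0) : (F × F) × Y)) :=
      eq_neg_of_add_eq_zero_right ((by simp : r • (((1, 0), 0) : (F × F) × Y) + s • v = ((r, 0), 0) + s • v).trans e2)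
    rw [← inv_smul_smul₀ hs v, this, smul_neg, smul_smul, neg_smul, div_eq_inv_mul]

/-- In Witt index three, the condition holds for singular vectors. -/
theorem scal_of_aniso (hA : ∀ p, T p = 0 → p = 0) : Scal T 0 := by
  intro c hc hct
  obtain ⟨h1, h2'⟩ := (rS_fix_iff _ (by simp [hypExt_apply]) (by simp [Prod.ext_iff]) c).1 hct
  obtain ⟨⟨x, y⟩, v⟩ := c
  dsimp only at h1 h2'
  subst h1
  set A : (F × F) × (F × F) × Y := ((1, 0), 0) with hAdef
  set B : (F × F) × (F × F) × Y := ((0, 0), ((1, 0), 0)) with hBdef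
  have hmem : (((x, 0), v) : (F × F) × (F × F) × Y) ∈ Submodule.span F {A, B} := by
    refine mem_span_of_aniso hA (by simp [A, hypExt_apply]) (by simp [B, hypExt_apply]) hc
      (by simp [A, B, polar_hypExt]) (by simp [A, polar_hypExt])
      (by simpa [B, polar_hypExt] using h2') (by simp [A, Prod.ext_iff]) fun h => ?_
    obtain ⟨r, hr⟩ := Submodule.mem_span_singleton.1 h
    simp [A, B, Prod.ext_iff] at hr
  refine siegel_mem_stab_of_small (nondegenerate_hypExt (hR hT h2))
    (five_le (R := T) hT h2) (by simp [hypExt_apply]) (by simp [hypExt_apply]) _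
    (by simp [polar_hypExt]) (by simpa [polar_hypExt] using h2')
    (Submodule.span F {A, B}) (Submodule.subset_span (Or.inl rfl))
    (Submodule.subset_span (Or.inr rfl)) hmem ?_
  classical
  have h3 := finrank_span_finset_le_card (R := F) ({A, B} : Finset ((F × F) × (F × F) × Y))
  rw [Finset.coe_pair, Set.finrank] at h3
  have : ({A, B} : Finset ((F × F) × (F × F) × Y)).card ≤ 2 := Finset.card_le_two
  rw [finrank_hypExt_space, finrank_hypExt_space]
  omega

/-! ### The value at the Levi root element -/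

variable {X : Type} [AddCommGroup X] [Module ℂ X] [FiniteDimensional ℂ X]
  (ρ : Representation ℂ (sGroup (hypExt (hypExt (hypExt T)))) X)

/-- The standard root element of the Levi complement is that of the next radical. -/
theorem char_fixRep [DecidableEq F] {a : F}
    (ha : d (hR hT h2) (hZ hT h2) ρ a = 1)
    (hsum : ∑ b : F, d (hR hT h2) (hZ hT h2) ρ b = 1) (hscal : Scal T a) :
    (fixRep (hR hT h2) (hZ hT h2) ρ).character (r hT h2 ((1, 0), 0)) =
      (Module.finrank ℂ (eig (D (hR hT h2) (hZ hT h2) ρ) 0) : ℂ) -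
        (Fintype.card F : ℂ) * Fintype.card Y := by
  classical
  set hR' := hR hT h2
  set hZ' := hZ hT h2
  set z0 : (F × F) × Y := ((1, 0), 0) with hz0
  have hz : (hypExt T) z0 = 0 := by simp [z0, hypExt_apply]
  have hz0' : z0 ≠ 0 := by simp [z0, Prod.ext_iff]
  have hzero : ∀ b, b ≠ a → d hR' hZ' ρ b = 0 := fun b hb => by
    rw [← Finset.add_sum_erase _ _ (Finset.mem_univ a), ha, add_eq_left] at hsum
    exact Finset.sum_eq_zero_iff.1 hsum b (Finset.mem_erase.2 ⟨hb, Finset.mem_univ _⟩)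
  have hfix : ∀ c, c ≠ 0 → (r hT h2 z0).1.1 c = c → ∀ v ∈ E hR' hZ' ρ c,
      ρ (levi hR' hZ' (r hT h2 z0)) v = v := by
    intro c hc0 hct v hv
    have hfr := finrank_E hR' hZ' ρ hc0
    by_cases hca : hypExt (hypExt T) c = a
    · exact fix_E hR' hZ' ρ (by rw [hfr, hca, ha]) _ (hscal c hca hct) v hv
    · rw [hzero _ hca] at hfr
      rw [Submodule.finrank_eq_zero.1 hfr] at hv
      rw [(Submodule.mem_bot ℂ).1 hv, map_zero]
  have hlevi : levi hR' hZ' (r hT h2 z0) =
      ⟨siegel (hypExt (hypExt (hypExt T))) ((0, 0), ((1, 0), 0)) ((0, 0), ((0, 0), z0))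
        (by simp [hypExt_apply]) (by simp [polar_hypExt]),
        siegel_mem' (nondeg' hR' hZ') (three_le hR' hZ') _ _⟩ := by
    apply Subtype.ext
    show hypLift (hypExt (hypExt T)) (rS (hypExt T) z0) = _
    rw [rS, hypLift_siegel]
  have h1 := char_levi hR' hZ' ρ (r hT h2 z0) hfix
  rw [Finset.sum_eq_single a (fun b _ hb => by rw [hzero b hb, Nat.cast_zero, zero_mul]) (by simp),
    ha, Nat.cast_one, one_mul] at h1
  have h2' : ρ.character (levi hR' hZ' (r hT h2 z0)) =
      (Module.finrank ℂ X : ℂ) - ((Fintype.card F : ℂ) * Fintype.card ((F × F) × Y)) := by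
    rw [hlevi, char_root hR' hZ' ρ (by simp [hypExt_apply]) (by simp [hypExt_apply, hz]) _ _ _,
      hsum, Nat.cast_one, one_mul]
    refine LinearIndependent.pair_iff.2 fun s t h => ?_
    simp [z0, Prod.ext_iff] at h
    exact ⟨h.1, h.2⟩
  rw [finrank_eq hR' hZ' ρ, Finset.sum_eq_single a (fun b _ hb => by rw [hzero b hb, zero_mul])
    (by simp), ha, one_mul, Nat.cast_add] at h2'
  -- the fixed vectors
  have hcount : (Finset.univ.filter fun c : (F × F) × (F × F) × Y =>
      (c ≠ 0 ∧ hypExt (hypExt T) c = a) ∧ (r hT h2 z0).1.1 c = c).card + (if a = 0 then 1 else 0) =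
        Fintype.card F * (Fintype.card F * Nat.card {p : Y // T p = a}) := by
    have e : Fintype.card F * (Fintype.card F * Nat.card {p : Y // T p = a}) =
        (Finset.univ.filter fun c : (F × F) × (F × F) × Y =>
          hypExt (hypExt T) c = a ∧ (r hT h2 z0).1.1 c = c).card := by
      rw [← Fintype.card_subtype, ← Nat.card_eq_fintype_card (α := F), ← Nat.card_eq_fintype_card,
        ← Nat.card_prod, ← Nat.card_prod]
      refine Nat.card_congr
        { toFun := fun p => ⟨((p.1, 0), ((p.2.1, 0), p.2.2.1)), by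
            simp [hypExt_apply, p.2.2.2], (rS_fix_iff z0 hz hz0' _).2
              ⟨rfl, by simp [z0, polar_hypExt]⟩⟩
          invFun := fun c => (c.1.1.1, c.1.2.1.1, ⟨c.1.2.2, ?_⟩)
          left_inv := fun p => rfl
          right_inv := fun c => ?_ }
      · obtain ⟨⟨⟨x, y⟩, ⟨x', y'⟩, p⟩, hca, hct⟩ := c
        obtain ⟨h1, h2''⟩ := (rS_fix_iff z0 hz hz0' _).1 hct
        simp [z0, polar_hypExt] at h1 h2''
        subst h1 h2''
        simpa [hypExt_apply] using hca
      · obtain ⟨⟨⟨x, y⟩, ⟨x', y'⟩, p⟩, hca, hct⟩ := c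
        obtain ⟨h1, h2''⟩ := (rS_fix_iff z0 hz hz0' _).1 hct
        simp [z0, polar_hypExt] at h1 h2''
        subst h1 h2''
        rfl
    rw [e]
    by_cases ha0 : a = 0
    · subst ha0
      rw [if_pos rfl]
      have hm : (0 : (F × F) × (F × F) × Y) ∈ Finset.univ.filter
          (fun c : (F × F) × (F × F) × Y => hypExt (hypExt T) c = 0 ∧ (r hT h2 z0).1.1 c = c) := by simp
      rw [← Finset.card_erase_add_one hm]
      congr 2
      ext c
      simp [and_assoc]
    · rw [if_neg ha0, add_zero]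
      congr 1
      ext c
      simp only [Finset.mem_filter, Finset.mem_univ, true_and, and_congr_left_iff,
        and_iff_right_iff_imp]
      rintro - rfl rfl
      exact ha0 (QuadraticMap.map_zero _)
  have hO := O_eq (R := (hypExt T)) a
  rw [lev_hypExt, lev_hypExt, Nat.card_eq_fintype_card (α := (F × F) × Y),
    Nat.card_eq_fintype_card (α := Y), lev] at hO
  have hY : (Fintype.card ((F × F) × Y) : ℂ) =
      (Fintype.card F : ℂ) * Fintype.card F * Fintype.card Y := by
    rw [Fintype.card_prod, Fintype.card_prod]; push_cast; ring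
  have hO' : (O (hypExt T) a : ℂ) = (Fintype.card F - 1) * Fintype.card ((F × F) × Y) +
      Fintype.card F * ((Fintype.card F - 1) * Fintype.card Y +
        Fintype.card F * (Nat.card {p : Y // T p = a} : ℂ)) -
      if a = 0 then 1 else 0 := by
    have := congrArg (Int.cast : ℤ → ℂ) hO
    simp only [Int.cast_natCast, Int.cast_sub, Int.cast_add, Int.cast_mul, Int.cast_one] at this
    rw [this]
    split_ifs <;> simp
  have hc' := congrArg (Nat.cast : ℕ → ℂ) hcount
  simp only [Nat.cast_add, Nat.cast_mul] at hc'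
  rw [hY] at h2' hO'
  split_ifs at hc' hO' <;> simp only [Nat.cast_zero, Nat.cast_one] at hc' <;>
    linear_combination h2' - h1 + hO' - hc'

theorem levi_r_add (z' z : (F × F) × Y) (x : X) :
    ρ (levi (hR hT h2) (hZ hT h2) (r hT h2 z')) (ρ (levi (hR hT h2) (hZ hT h2) (r hT h2 z)) x) =
      ρ (levi (hR hT h2) (hZ hT h2) (r hT h2 (z' + z))) x := by
  rw [r_add, map_mul, map_mul]
  rfl

/-- If the radical has a nonzero fixed space, so has the next radical in it. -/
theorem exists_fixed [DecidableEq F] (hT0 : ∃ p, T p ≠ 0)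
    (hsum : d (hR hT h2) (hZ hT h2) ρ 0 = 1)
    (hzero : ∀ b, b ≠ 0 → d (hR hT h2) (hZ hT h2) ρ b = 0)
    (hne : eig (D (hR hT h2) (hZ hT h2) ρ) 0 ≠ ⊥) :
    eig (D hT h2 (fixRep (hR hT h2) (hZ hT h2) ρ)) 0 ≠ ⊥ := by
  classical
  set hR' := hR hT h2
  set hZ' := hZ hT h2
  intro hbot
  have hW : ∀ x ∈ eig (D hR' hZ' ρ) 0,
      (∀ z, ρ (levi hR' hZ' (r hT h2 z)) x = x) → x = 0 := by
    intro x hx hfx
    have hm : (⟨x, hx⟩ : eig (D hR' hZ' ρ) 0) ∈ eig (D hT h2 (fixRep hR' hZ' ρ)) 0 :=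
      mem_eig_zero.2 fun z => Subtype.ext (hfx z)
    rw [hbot, Submodule.mem_bot] at hm
    exact congrArg Subtype.val hm
  -- the reflection and the swap
  obtain ⟨p, hp⟩ := hT0
  have hp' : (hypExt T) ((0, 0), p) ≠ 0 := by simpa [hypExt_apply] using hp
  set w : (F × F) × (F × F) × Y := ((0, 0), ((0, 0), p)) with hw
  have hw0 : hypExt (hypExt T) w ≠ 0 := by simpa [w, hypExt_apply] using hp
  have hσ : refl (hypExt (hypExt T)) w hw0 = hypLift (hypExt T) (refl (hypExt T) ((0, 0), p) hp') := (hypLift_refl (hypExt T) _ hp').symm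
  have hk : kW (hypExt (hypExt T)) w ∈ sGroup (hypExt (hypExt (hypExt T))) := by
    refine HS_le (nondeg' hR' hZ') (three_le hR' hZ') ?_
    rw [kW]
    exact Subgroup.mul_mem _ (Subgroup.mul_mem _ (rS_mem_HS _) (sS_mem_HS _)) (rS_mem_HS _)
  set k : sGroup (hypExt (hypExt (hypExt T))) := ⟨_, hk⟩
  set U := (eig (D hR' hZ' ρ) 0).map (ρ k) with hU
  -- conjugating Levi elements by the swap
  have hconj : ∀ g : sGroup (hypExt (hypExt T)), ∃ g' : sGroup (hypExt (hypExt T)),
      levi hR' hZ' g * k = k * levi hR' hZ' g' ∧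
      g'.1 = (refl (hypExt (hypExt T)) w hw0)⁻¹ * g.1 * refl (hypExt (hypExt T)) w hw0 := by
    intro g
    refine ⟨⟨(refl (hypExt (hypExt T)) w hw0)⁻¹ * g.1 * refl (hypExt (hypExt T)) w hw0, ?_⟩, ?_, rfl⟩
    · simpa using (sGroup_normal (Q := hypExt (hypExt T))).conj_mem g.1 g.2 (refl (hypExt (hypExt T)) w hw0)⁻¹
    · apply Subtype.ext
      show hypLift (hypExt (hypExt T)) g.1 * kW (hypExt (hypExt T)) w = kW (hypExt (hypExt T)) w *
        hypLift (hypExt (hypExt T))
          ((refl (hypExt (hypExt T)) w hw0)⁻¹ * g.1 * refl (hypExt (hypExt T)) w hw0)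
      have h := kW_conj_hypLift hw0
        ((refl (hypExt (hypExt T)) w hw0)⁻¹ * g.1 * refl (hypExt (hypExt T)) w hw0)
      rw [show refl (hypExt (hypExt T)) w hw0 *
        ((refl (hypExt (hypExt T)) w hw0)⁻¹ * g.1 * refl (hypExt (hypExt T)) w hw0) *
        (refl (hypExt (hypExt T)) w hw0)⁻¹ = g.1 by group] at h
      exact (mul_inv_eq_iff_eq_mul.1 h).symm
  have hUinv : ∀ g : sGroup (hypExt (hypExt T)), ∀ x ∈ U, ρ (levi hR' hZ' g) x ∈ U := by
    rintro g _ ⟨y, hy, rfl⟩
    obtain ⟨g', e, -⟩ := hconj g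
    refine ⟨ρ (levi hR' hZ' g') y, levi_map_fix hR' hZ' ρ g' y hy, ?_⟩
    rw [← Module.End.mul_apply, ← map_mul, ← e, map_mul, Module.End.mul_apply]
  have hUfix : ∀ x ∈ U, (∀ z, ρ (levi hR' hZ' (r hT h2 z)) x = x) → x = 0 := by
    rintro _ ⟨y, hy, rfl⟩ hfx
    rw [hW y hy fun z => ?_, map_zero]
    obtain ⟨g', e, hg'⟩ := hconj (r hT h2 ((refl (hypExt T) ((0, 0), p) hp').1 z))
    have h := hfx ((refl (hypExt T) ((0, 0), p) hp').1 z)
    rw [← Module.End.mul_apply, ← map_mul, e, map_mul, Module.End.mul_apply] at h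
    have h' := rho_injective ρ k h
    rwa [show g' = r hT h2 z from Subtype.ext ?_] at h'
    rw [hg', hσ]
    show _ * rS (hypExt T) ((refl (hypExt T) ((0, 0), p) hp').1 z) * _ = rS (hypExt T) z
    rw [← hypLift_conj_rS]
    group
  -- projections
  have hPcomm : ∀ (g : sGroup (hypExt (hypExt T))) c, ρ (levi hR' hZ' g) * P (D hR' hZ' ρ) (chi (hypExt (hypExt T)) c) =
      P (D hR' hZ' ρ) (chi (hypExt (hypExt T)) (g.1.1 c)) * ρ (levi hR' hZ' g) := by
    intro g c
    rw [comm_P (D := D hR' hZ' ρ) g.1.1.toAddEquiv (fun a => ?_)]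
    · congr 2
      ext a
      show SLMinDegree32.phi0 (polar (hypExt (hypExt T)) c (g.1.1.symm a)) =
        SLMinDegree32.phi0 (polar (hypExt (hypExt T)) (g.1.1 c) a)
      rw [← polar_orth g.1 c (g.1.1.symm a), LinearEquiv.apply_symm_apply]
    · rw [D, D, ← map_mul, ← map_mul]
      congr 1
      exact lift_r hR' hZ' _ a
  set u : (F × F) × (F × F) × Y := ((1, 0), 0) with hu
  have hu0 : u ≠ 0 := by simp [u, Prod.ext_iff]
  have hQu : hypExt (hypExt T) u = 0 := by simp [u, hypExt_apply]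
  have hfixu : ∀ z, (r hT h2 z).1.1 u = u := fun z => by
    show (rS (hypExt T) z).1 ((1, 0), 0) = ((1, 0), 0)
    rw [rS_apply]; simp
  -- the radical of the Levi complement fixes the eigenline of `u`
  have hline : ∀ z, ∀ v ∈ E hR' hZ' ρ u, ρ (levi hR' hZ' (r hT h2 z)) v = v := by
    have hsing : ∀ z, (hypExt T) z = 0 → ∀ v ∈ E hR' hZ' ρ u, ρ (levi hR' hZ' (r hT h2 z)) v = v := by
      intro z hz
      refine fix_E hR' hZ' ρ (by rw [finrank_E hR' hZ' ρ hu0, hQu, hsum]) _ ?_
      refine siegel_mem_stab_of_small (nondegenerate_hypExt hR') (five_le (R := T) hT h2)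
        (by simp [hypExt_apply]) (by simpa [hypExt_apply] using hz) (by simp [polar_hypExt])
        (by simp [u, polar_hypExt, hypExt_apply]) (by simp [u, polar_hypExt, hypExt_apply])
        (Submodule.span F (Set.range ![u, ((0, 0), z)])) (Submodule.subset_span ⟨0, rfl⟩)
        (Submodule.subset_span ⟨1, rfl⟩) (Submodule.subset_span ⟨0, rfl⟩) ?_
      have h3 := finrank_range_le_card (R := F) (![u, ((0, 0), z)] : Fin 2 → (F × F) × (F × F) × Y)
      rw [Fintype.card_fin, Set.finrank] at h3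
      rw [finrank_hypExt_space, finrank_hypExt_space]
      omega
    intro z v hv
    obtain ⟨z₁, z₂, z₃, e₁, e₂, e₃, rfl⟩ := exists_three_singular
      (isReg_of_nondegenerate hR') (e := ((1, 0), 0)) (by simp [hypExt_apply])
      (by simp [Prod.ext_iff]) z
    rw [r_add, r_add, map_mul, map_mul, map_mul, map_mul, Module.End.mul_apply,
      Module.End.mul_apply, hsing z₃ e₃ v hv, hsing z₂ e₂ v hv, hsing z₁ e₁ v hv]
  have hPu : ∀ x ∈ U, P (D hR' hZ' ρ) (chi (hypExt (hypExt T)) u) x = 0 := by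
    intro x hx
    set S := ∑ z, ρ (levi hR' hZ' (r hT h2 z)) x with hS
    have hS0 : S = 0 := by
      refine hUfix S (U.sum_mem fun z _ => hUinv _ x hx) fun z' => ?_
      rw [hS, map_sum]
      refine Fintype.sum_equiv (Equiv.addLeft z') _ _ fun z => ?_
      exact levi_r_add hT h2 ρ z' z x
    have h := congrArg (P (D hR' hZ' ρ) (chi (hypExt (hypExt T)) u)) hS0
    rw [hS, map_sum, map_zero] at h
    have hterm : ∀ z, P (D hR' hZ' ρ) (chi (hypExt (hypExt T)) u) (ρ (levi hR' hZ' (r hT h2 z)) x) =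
        P (D hR' hZ' ρ) (chi (hypExt (hypExt T)) u) x := by
      intro z
      have e := congrArg (fun M : Module.End ℂ X => M x) (hPcomm (r hT h2 z) u)
      simp only [Module.End.mul_apply, hfixu z] at e
      rw [← e]
      exact hline z _ (P_mem (D_add hR' hZ' ρ) _ _)
    simp only [hterm, Finset.sum_const, Finset.card_univ, ← Nat.cast_smul_eq_nsmul ℂ] at h
    exact (smul_eq_zero.1 h).resolve_left (Nat.cast_ne_zero.2 Fintype.card_ne_zero)
  have hPc : ∀ x ∈ U, ∀ c, c ≠ 0 → P (D hR' hZ' ρ) (chi (hypExt (hypExt T)) c) x = 0 := by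
    intro x hx c hc
    by_cases hca : hypExt (hypExt T) c = 0
    · obtain ⟨g, hg, e⟩ := exists_mem_sGroup hR' (three_le hT h2) hc hu0 (by rw [hca, hQu])
      refine rho_injective ρ (levi hR' hZ' ⟨g, hg⟩) ?_
      rw [← Module.End.mul_apply, hPcomm, Module.End.mul_apply, e,
        hPu _ (hUinv _ x hx), map_zero]
    · have h0 := finrank_E hR' hZ' ρ hc
      rw [hzero _ hca] at h0
      have hm := P_mem (D_add hR' hZ' ρ) (chi (hypExt (hypExt T)) c) x
      rw [show eig (D hR' hZ' ρ) (chi (hypExt (hypExt T)) c) = ⊥ from Submodule.finrank_eq_zero.1 h0] at hm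
      exact (Submodule.mem_bot ℂ).1 hm
  have hle : U ≤ eig (D hR' hZ' ρ) 0 := by
    intro x hx
    have hs := congrArg (fun M : Module.End ℂ X => M x) (sum_P (D := D hR' hZ' ρ) (D_zero hR' hZ' ρ))
    simp only [LinearMap.sum_apply, Module.End.one_apply] at hs
    rw [← (Equiv.ofBijective _ (chi_bijective (nondeg' hR' hZ'))).sum_comp,
      ← Finset.add_sum_erase _ _ (Finset.mem_univ (0 : (F × F) × (F × F) × Y))] at hs
    simp only [Equiv.ofBijective_apply] at hs
    rw [Finset.sum_eq_zero (fun c hc => hPc x hx c (Finset.ne_of_mem_erase hc)), add_zero,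
      chi_zero] at hs
    rw [← hs]
    exact P_mem (D_add hR' hZ' ρ) 0 x
  have heq : U = eig (D hR' hZ' ρ) 0 := by
    refine Submodule.eq_of_le_of_finrank_le hle ?_
    exact LinearMap.finrank_le_finrank_of_injective
      (f := (ρ k).restrict (p := eig (D hR' hZ' ρ) 0) (q := U) fun v hv => ⟨v, hv, rfl⟩)
      fun a b e => Subtype.ext (rho_injective ρ k (congrArg Subtype.val e))
  -- everything fixes the fixed space
  obtain ⟨x, hx, hx0⟩ := Submodule.exists_mem_ne_zero_of_ne_bot hne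
  refine hx0 (hW x hx fun z => ?_)
  let Fx : Subgroup (orth (hypExt (hypExt (hypExt T)))) :=
    { carrier := {g | ∃ hg, ∀ y ∈ eig (D hR' hZ' ρ) 0,
        ρ (⟨g, hg⟩ : sGroup (hypExt (hypExt (hypExt T)))) y = y}
      one_mem' := ⟨Subgroup.one_mem _, fun y _ => by
        show ρ 1 y = y
        rw [map_one, Module.End.one_apply]⟩
      mul_mem' := fun {g h} ⟨hg, hg'⟩ ⟨hh, hh'⟩ => ⟨Subgroup.mul_mem _ hg hh, fun y hy => by
        show ρ (⟨g, hg⟩ * ⟨h, hh⟩) y = y
        rw [map_mul, Module.End.mul_apply, hh' y hy, hg' y hy]⟩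
      inv_mem' := fun {g} ⟨hg, hg'⟩ => ⟨Subgroup.inv_mem _ hg, fun y hy => by
        show ρ (⟨g, hg⟩⁻¹) y = y
        conv_lhs => rw [← hg' y hy]
        rw [← Module.End.mul_apply, ← map_mul, inv_mul_cancel, map_one, Module.End.one_apply]⟩ }
  have hHS : HS (hypExt (hypExt T)) ≤ Fx := by
    rw [HS, Subgroup.closure_le]
    rintro _ (⟨a, rfl⟩ | ⟨a, rfl⟩)
    · exact ⟨_, fun y hy => mem_eig_zero.1 hy a⟩
    · refine ⟨sS_mem (nondeg' hR' hZ') (three_le hR' hZ') a, fun y hy => ?_⟩
      rw [← heq] at hy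
      obtain ⟨y', hy', rfl⟩ := hy
      set a' := (refl (hypExt (hypExt T)) w hw0).1 ((-(hypExt (hypExt T) w)) • a) with ha'
      have e : (⟨sS (hypExt (hypExt T)) a, sS_mem (nondeg' hR' hZ') (three_le hR' hZ') a⟩ :
          sGroup (hypExt (hypExt (hypExt T)))) * k = k * r hR' hZ' a' := by
        apply Subtype.ext
        show sS (hypExt (hypExt T)) a * kW (hypExt (hypExt T)) w = kW (hypExt (hypExt T)) w * rS (hypExt (hypExt T)) a'
        rw [mul_inv_eq_iff_eq_mul.1 (kW_conj_rS hw0 a')]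
        congr 2
        rw [ha', show (refl (hypExt (hypExt T)) w hw0).1 ((refl (hypExt (hypExt T)) w hw0).1 _) = _ from
          reflMap_involutive hw0 _, smul_smul, neg_mul_neg, inv_mul_cancel₀ hw0, one_smul]
      rw [← Module.End.mul_apply, ← map_mul, e, map_mul, Module.End.mul_apply]
      exact congrArg (ρ k) (mem_eig_zero.1 hy' a')
  obtain ⟨_, h⟩ := (sGroup_le_HS (nondeg' hR' hZ') (three_le hR' hZ')).trans hHS
    (levi hR' hZ' (r hT h2 z)).2
  exact h x hx

end Cfsg.Agent.OrthMinDegree32Fix
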