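import Mathlib
import Cfsg.Agent.Lib.OrthUnitaryIsoCore
import Cfsg.Agent.Lib.PSLCard
import Cfsg.Agent.Lib.PSLSimple

/-!
The Klein correspondence: `SL_4` acting on alternating matrices preserves the Pfaffian.
-/

set_option autoImplicit false
set_option linter.unusedSectionVars false

namespace Cfsg.Agent.OrthUnitaryKlein

open QuadraticMap
open scoped Matrix MatrixGroups
open Cfsg.Agent.OrthUnitaryQuad
open Cfsg.Agent.OrthUnitaryForms
open Cfsg.Agent.OrthUnitaryStd

variable {F : Type*} [Field F]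

/-- Vectors as alternating `4 × 4` matrices, so that the form is the Pfaffian. -/
def toAlt : (Fin 3 ⊕ Fin 3 → F) →ₗ[F] Matrix (Fin 4) (Fin 4) F where
  toFun v := !![0, v (.inl 0), v (.inl 1), v (.inl 2);
    -v (.inl 0), 0, v (.inr 2), -v (.inr 1);
    -v (.inl 1), -v (.inr 2), 0, v (.inr 0);
    -v (.inl 2), v (.inr 1), -v (.inr 0), 0]
  map_add' u v := by
    ext i j
    fin_cases i <;> fin_cases j <;> simp [add_comm]
  map_smul' c v := by
    ext i j
    fin_cases i <;> fin_cases j <;> simp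

/-- The coordinates of an alternating matrix. -/
def ofAlt : Matrix (Fin 4) (Fin 4) F →ₗ[F] (Fin 3 ⊕ Fin 3 → F) where
  toFun M := Sum.elim ![M 0 1, M 0 2, M 0 3] ![M 2 3, -M 1 3, M 1 2]
  map_add' M N := by
    funext i
    rcases i with i | i <;> fin_cases i <;> simp [add_comm]
  map_smul' c M := by
    funext i
    rcases i with i | i <;> fin_cases i <;> simp

theorem ofAlt_toAlt (v : Fin 3 ⊕ Fin 3 → F) : ofAlt (toAlt v) = v := by
  funext i
  rcases i with i | i <;> fin_cases i <;> simp [ofAlt, toAlt]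

theorem toAlt_ofAlt {M : Matrix (Fin 4) (Fin 4) F} (hd : ∀ i, M i i = 0)
    (hs : ∀ i j, M j i = -M i j) : toAlt (ofAlt M) = M := by
  ext i j
  have e := hs 0 1
  have e1 := hs 0 2
  have e2 := hs 0 3
  have e3 := hs 1 2
  have e4 := hs 1 3
  have e5 := hs 2 3
  fin_cases i <;> fin_cases j <;> simp [ofAlt, toAlt, hd, e, e1, e2, e3, e4, e5]

theorem conj_self (g : Matrix (Fin 4) (Fin 4) F) (v : Fin 3 ⊕ Fin 3 → F) (i : Fin 4) :
    (g * toAlt v * gᵀ) i i = 0 := by
  simp [toAlt, Matrix.mul_apply, Matrix.transpose_apply, Fin.sum_univ_four]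
  ring

theorem conj_swap (g : Matrix (Fin 4) (Fin 4) F) (v : Fin 3 ⊕ Fin 3 → F) (i j : Fin 4) :
    (g * toAlt v * gᵀ) j i = -(g * toAlt v * gᵀ) i j := by
  simp [toAlt, Matrix.mul_apply, Matrix.transpose_apply, Fin.sum_univ_four]
  ring

theorem toAlt_ofAlt_conj (g : Matrix (Fin 4) (Fin 4) F) (v : Fin 3 ⊕ Fin 3 → F) :
    toAlt (ofAlt (g * toAlt v * gᵀ)) = g * toAlt v * gᵀ :=
  toAlt_ofAlt (conj_self g v) (conj_swap g v)

/-- The action of a matrix. -/
def act (g : Matrix (Fin 4) (Fin 4) F) : (Fin 3 ⊕ Fin 3 → F) →ₗ[F] (Fin 3 ⊕ Fin 3 → F) where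
  toFun v := ofAlt (g * toAlt v * gᵀ)
  map_add' u v := by rw [map_add, Matrix.mul_add, Matrix.add_mul, map_add]
  map_smul' c v := by rw [map_smul, Matrix.mul_smul, Matrix.smul_mul, map_smul, RingHom.id_apply]

theorem act_apply (g : Matrix (Fin 4) (Fin 4) F) (v : Fin 3 ⊕ Fin 3 → F) :
    act g v = ofAlt (g * toAlt v * gᵀ) := rfl

theorem act_mul (g h : Matrix (Fin 4) (Fin 4) F) (v : Fin 3 ⊕ Fin 3 → F) :
    act (g * h) v = act g (act h v) := by
  rw [act_apply, act_apply, act_apply, toAlt_ofAlt_conj, Matrix.transpose_mul]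
  simp only [Matrix.mul_assoc]

theorem act_one (v : Fin 3 ⊕ Fin 3 → F) : act 1 v = v := by
  rw [act_apply, Matrix.one_mul, Matrix.transpose_one, Matrix.mul_one, ofAlt_toAlt]

set_option maxHeartbeats 800000 in
theorem det_mul_pfaffian (g : Matrix (Fin 4) (Fin 4) F) (v : Fin 3 ⊕ Fin 3 → F) :
    quadFormPlus 3 F (act g v) = g.det * quadFormPlus 3 F v := by
  rw [Matrix.det_succ_row_zero]
  simp [act_apply, quadFormPlus, Fin.sum_univ_three, Fin.sum_univ_four, ofAlt, toAlt,
    Matrix.mul_apply, Matrix.det_fin_three, Fin.succAbove, Matrix.transpose_apply,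
    Matrix.submatrix_apply]
  ring

/-- The action of an element of `SL_4` as an equivalence. -/
def actEquiv (g : SL(4, F)) : (Fin 3 ⊕ Fin 3 → F) ≃ₗ[F] (Fin 3 ⊕ Fin 3 → F) :=
  { act g.1 with
    invFun := act g⁻¹.1
    left_inv := fun v => by
      show act g⁻¹.1 (act g.1 v) = v
      rw [← act_mul,
        show g⁻¹.1 * g.1 = 1 from congrArg Subtype.val (inv_mul_cancel g), act_one]
    right_inv := fun v => by
      show act g.1 (act g⁻¹.1 v) = v
      rw [← act_mul,
        show g.1 * g⁻¹.1 = 1 from congrArg Subtype.val (mul_inv_cancel g), act_one] }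

theorem actEquiv_mem (g : SL(4, F)) : actEquiv g ∈ orth (qfPlus F 3) := fun v => by
  rw [qfPlus_apply, qfPlus_apply]
  show quadFormPlus 3 F (act g.1 v) = _
  rw [det_mul_pfaffian, g.2, one_mul]

/-- The action of `SL_4` by isometries. -/
def kleinHom : SL(4, F) →* orth (qfPlus F 3) where
  toFun g := ⟨actEquiv g, actEquiv_mem g⟩
  map_one' := Subtype.ext (LinearEquiv.ext fun v => act_one v)
  map_mul' g h := Subtype.ext (LinearEquiv.ext fun v => act_mul g.1 h.1 v)

theorem kleinHom_apply (g : SL(4, F)) (v : Fin 3 ⊕ Fin 3 → F) :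
    (kleinHom g).1 v = act g.1 v := rfl

/-- A matrix fixing every decomposable two-vector is a scalar of square one. -/
theorem eq_one_or_neg_one_of_minors {n : ℕ} (hn : 3 ≤ n) (g : Matrix (Fin n) (Fin n) F)
    (h : ∀ a b i j, i ≠ j → g a i * g b j - g a j * g b i
      = (if a = i ∧ b = j then 1 else 0) - (if a = j ∧ b = i then 1 else 0)) :
    g = 1 ∨ g = -1 := by
  have hex : ∀ i k : Fin n, ∃ j, j ≠ i ∧ j ≠ k := fun i k => by
    have : ({i, k} : Finset (Fin n)).card < Fintype.card (Fin n) := by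
      rw [Fintype.card_fin]
      exact lt_of_le_of_lt Finset.card_le_two hn
    obtain ⟨j, -, hj⟩ := Finset.exists_mem_notMem_of_card_lt_card (this.trans_eq Finset.card_univ.symm)
    simp only [Finset.mem_insert, Finset.mem_singleton, not_or] at hj
    exact ⟨j, hj⟩
  have hoff : ∀ k i, k ≠ i → g k i = 0 := by
    intro k i hki
    obtain ⟨j, hji, hjk⟩ := hex i k
    have e1 := h i j i j hji.symm
    have e2 := h k j i j hji.symm
    have e3 := h i k i j hji.symm
    simp [hki, hki.symm, hji, hji.symm, hjk, hjk.symm] at e1 e2 e3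
    linear_combination -(g k i) * e1 + g i i * e2 + g j i * e3
  have hdiag : ∀ i j, i ≠ j → g i i * g j j = 1 := by
    intro i j hij
    have e1 := h i j i j hij
    simp [hoff i j hij, hij, hij.symm] at e1
    exact e1
  have heq : ∀ i j, g i i = g j j := by
    intro i j
    obtain ⟨k, hki, hkj⟩ := hex i j
    have h1 := hdiag i k hki.symm
    have h2 := hdiag j k hkj.symm
    exact mul_right_cancel₀ (right_ne_zero_of_mul_eq_one h1) (h1.trans h2.symm)
  let o : Fin n := ⟨0, by omega⟩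
  have hsq : g o o * g o o = 1 := by
    obtain ⟨k, hk, -⟩ := hex o o
    have := hdiag o k hk.symm
    rwa [heq k o] at this
  rcases mul_self_eq_one_iff.1 hsq with h1 | h1
  · left
    ext i j
    by_cases hij : i = j
    · subst hij; rw [heq i o, h1, Matrix.one_apply_eq]
    · rw [hoff i j hij, Matrix.one_apply_ne hij]
  · right
    ext i j
    by_cases hij : i = j
    · subst hij; rw [heq i o, h1, Matrix.neg_apply, Matrix.one_apply_eq]
    · rw [hoff i j hij, Matrix.neg_apply, Matrix.one_apply_ne hij, neg_zero]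

theorem minors_of_ker (g : SL(4, F)) (hg : g ∈ (kleinHom (F := F)).ker) (a b i j : Fin 4)
    (hij : i ≠ j) :
    g.1 a i * g.1 b j - g.1 a j * g.1 b i
      = (if a = i ∧ b = j then 1 else 0) - (if a = j ∧ b = i then 1 else 0) := by
  set E : Matrix (Fin 4) (Fin 4) F := Matrix.single i j 1 - Matrix.single j i 1 with hE
  have halt : toAlt (ofAlt E) = E := by
    refine toAlt_ofAlt (fun x => ?_) (fun x y => ?_)
    · simp [hE, Matrix.single_apply, and_comm]
    · simp [hE, Matrix.single_apply, and_comm]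
  have h1 : act g.1 (ofAlt E) = ofAlt E := by
    rw [← kleinHom_apply, MonoidHom.mem_ker.1 hg]; rfl
  have h2 := congrArg toAlt h1
  rw [act_apply, toAlt_ofAlt_conj, halt] at h2
  have h3 := congrFun (congrFun h2 a) b
  simp [hE, Matrix.mul_sub, sub_mul, ite_mul, Finset.sum_sub_distrib, Matrix.mul_apply, Matrix.single_apply,
    Finset.sum_ite_eq, Matrix.transpose_apply, ite_and] at h3 ⊢
  rw [h3]
  simp [eq_comm]

theorem card_ker_kleinHom [Fintype F] [DecidableEq F] :
    Nat.card (kleinHom (F := F)).ker ≤ (if (2 : F) = 0 then 1 else 2) ∧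
      (kleinHom (F := F)).ker ≤ Subgroup.center SL(4, F) := by
  let z : SL(4, F) := ⟨-1, by rw [Matrix.det_neg, Matrix.det_one]; simp [pow_succ]⟩
  have hmem : ∀ g ∈ (kleinHom (F := F)).ker, g = 1 ∨ g = z := fun g hg => by
    rcases eq_one_or_neg_one_of_minors (by norm_num) g.1 (minors_of_ker g hg) with h | h
    · exact Or.inl (Subtype.ext h)
    · exact Or.inr (Subtype.ext h)
  refine ⟨OrthUnitaryIsoCore.card_le_ite _ z hmem fun h2 => Subtype.ext ?_, fun g hg => ?_⟩
  · show (-1 : Matrix (Fin 4) (Fin 4) F) = 1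
    ext i j
    by_cases hij : i = j
    · subst hij
      simp only [Matrix.neg_apply, Matrix.one_apply_eq]
      linear_combination -h2
    · simp [hij]
  · rw [Subgroup.mem_center_iff]
    intro k
    rcases hmem g hg with rfl | rfl
    · simp
    · exact Subtype.ext (show k.1 * -1 = -1 * k.1 by simp)

theorem card_orth_eq [Fintype F] :
    Nat.card (isometryGroup F (quadFormPlus 3 F)) = 2 * Nat.card SL(4, F) := by
  have h := PSLCard.card_SL (F := F) 4
  have ho := card_isometryGroup_plus (F := F) rfl 2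
  rw [Fin.prod_univ_four, Nat.card_eq_fintype_card (α := F)] at h
  simp [Finset.prod_range_succ] at ho h
  rw [ho]
  have hq : 2 ≤ Fintype.card F := Fintype.one_lt_card
  set q := Fintype.card F
  apply Nat.eq_of_mul_eq_mul_left (show 0 < q - 1 by omega)
  rw [mul_left_comm (q - 1) 2 (Nat.card SL(4, F)), h]
  have e1 : 1 ≤ q ^ 4 := Nat.one_le_pow _ _ (by omega)
  have e2 : q ≤ q ^ 4 := Nat.le_self_pow (by norm_num) q
  have e3 : q ^ 2 ≤ q ^ 4 := Nat.pow_le_pow_right (by omega) (by norm_num)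
  have e4 : q ^ 3 ≤ q ^ 4 := Nat.pow_le_pow_right (by omega) (by norm_num)
  have e5 : 1 ≤ q ^ 2 := Nat.one_le_pow _ _ (by omega)
  have e6 : 1 ≤ q ^ 3 := Nat.one_le_pow _ _ (by omega)
  have e7 : 1 ≤ q := by omega
  zify [e1, e2, e3, e4, e5, e6, e7]
  ring

theorem nondegenerate_qfPlus (m : ℕ) : (polarBilin (qfPlus F m)).Nondegenerate :=
  nondegenerate_congr (eqPlus m) (fun x => by rw [qfPlus_apply, eqPlus_isometry])
    (nondegenerate_withBase nondegenerate_qfNil m)

/-- `PΩ⁺_6 ≅ PSL_4`, and `Ω⁺_6` is a quotient of `SL_4`. -/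
theorem klein [Fintype F] :
    Nonempty (POmega F (quadFormPlus 3 F) ≃* Matrix.ProjectiveSpecialLinearGroup (Fin 4) F) ∧
      Nonempty (SL(4, F) ⧸ (kleinHom (F := F)).ker ≃* Omega F (quadFormPlus 3 F)) := by
  classical
  exact OrthUnitaryIsoCore.nonempty_POmega_equiv_of_perfect (qfPlus F 3) (quadFormPlus 3 F)
    (fun v => (qfPlus_apply F 3 v).symm) (nondegenerate_qfPlus 3)
    (by simp) kleinHom (PSLSimple.commutator_SL_eq_top (by simp))
    card_ker_kleinHom.2 card_ker_kleinHom.1 card_orth_eq.le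

end Cfsg.Agent.OrthUnitaryKlein
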