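import Mathlib
import Cfsg.Agent.Lib.OrthMinDegree32Fix
import Cfsg.Agent.Lib.OrthUnitaryKlein
import Cfsg.Agent.Lib.SLMinDegree32

/-!
Lower bounds for the degrees of nontrivial complex representations of `Ω^±`.
-/

set_option autoImplicit false
set_option maxHeartbeats 1600000

namespace Cfsg.Agent.OrthMinDegree32Bound

open QuadraticMap
open Cfsg.Agent.OrthUnitaryQuad
open Cfsg.Agent.OrthUnitaryRefl
open Cfsg.Agent.OrthUnitaryOmega
open Cfsg.Agent.OrthUnitaryForms
open Cfsg.Agent.OrthUnitarySimple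
open Cfsg.Agent.OrthUnitaryStd
open Cfsg.Agent.OrthMinDegree32Geom
open Cfsg.Agent.OrthMinDegree32Count
open Cfsg.Agent.OrthMinDegree32
open Cfsg.Agent.OrthMinDegree32Fix
open Cfsg.Agent.SUMinDegree32Eigen
open scoped MatrixGroups commutatorElement

/-! ### Arithmetic -/

/-- The bound for plus type, at `n = m + 1`. -/
def bP (q : ℤ) : ℕ → ℤ
  | 0 => 1
  | m + 1 => bP q m + (q ^ (2 * m + 1) + q ^ (m + 1) - q ^ m)

/-- The bound for minus type, at `n = m + 1`. -/
def bM (q : ℤ) : ℕ → ℤ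
  | 0 => -1
  | m + 1 => bM q m + (q ^ (2 * m + 1) - q ^ (m + 1) + q ^ m)

theorem bP_spec (q : ℤ) : ∀ m : ℕ, (q ^ 2 - 1) * bP q m = (q ^ (m + 1) - 1) * (q ^ m + q)
  | 0 => by simp [bP]; ring
  | m + 1 => by rw [bP, mul_add, bP_spec q m]; ring

theorem bM_spec (q : ℤ) : ∀ m : ℕ, (q ^ 2 - 1) * bM q m = (q ^ (m + 1) + 1) * (q ^ m - q)
  | 0 => by simp [bM]; ring
  | m + 1 => by rw [bM, mul_add, bM_spec q m]; ring

theorem dvd_of_spec {q b c : ℤ} (h : (q ^ 2 - 1) * b = q * c) : q ∣ b :=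
  ⟨q * b - c, by linear_combination -h⟩

theorem no_eq_aux {q y N b K : ℤ} {j : ℕ} (hb : b = N + 1) (hqb : q ∣ b)
    (hK : K * q = b * (y ^ 2 - 1)) (hdvd : N ∣ K * q ^ j) : N ∣ y ^ 2 - 1 := by
  obtain ⟨c, hc⟩ := hqb
  have hcop : IsCoprime N q := ⟨-1, c, by linear_combination hb - hc⟩
  have h1 : N ∣ K := (hcop.pow_right).dvd_of_dvd_mul_right hdvd
  have h2 : N ∣ K * q := h1.mul_right q
  rw [hK, hb, add_mul, one_mul] at h2
  exact (dvd_add_right (dvd_mul_right N _)).1 h2

theorem no_eq_plus {q y N b K : ℤ} {j : ℕ} (hq : 2 ≤ q) (hy : q ^ 3 ≤ y) (hb : b = N + 1)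
    (hqb : q ∣ b) (hspec : (q ^ 2 - 1) * b = (q * y - 1) * (y + q))
    (hK : K * q = b * (y ^ 2 - 1)) (hdvd : N ∣ K * q ^ j) : False := by
  have h1 := no_eq_aux hb hqb hK hdvd
  have e : (q ^ 2 - 1) * N = q * (y ^ 2 - 1) + (q ^ 2 - 1) * (y - 1) := by
    linear_combination hspec - (q ^ 2 - 1) * hb
  have h2 : N ∣ (q ^ 2 - 1) * (y - 1) :=
    (dvd_add_right (h1.mul_left q)).1 (e ▸ dvd_mul_left N _)
  have hy1 : 1 < y := by nlinarith
  have hq1 : 0 < q ^ 2 - 1 := by nlinarith
  have hle := Int.le_of_dvd (mul_pos hq1 (by omega)) h2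
  have hmul := mul_le_mul_of_nonneg_left hle hq1.le
  have hqy : q ^ 4 ≤ q * y := by
    have := mul_le_mul_of_nonneg_left hy (show (0 : ℤ) ≤ q by omega)
    linarith [show q * q ^ 3 = q ^ 4 by ring]
  have hpos : 0 < q * (y + 1) + (q ^ 2 - 1) - (q ^ 2 - 1) ^ 2 := by nlinarith
  nlinarith [mul_pos (show (0 : ℤ) < y - 1 by omega) hpos]

theorem no_eq_minus {q y N b K : ℤ} {j : ℕ} (hq : 2 ≤ q) (hy : q ^ 3 ≤ y) (hb : b = N + 1)
    (hqb : q ∣ b) (hspec : (q ^ 2 - 1) * b = (q * y + 1) * (y - q))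
    (hK : K * q = b * (y ^ 2 - 1)) (hdvd : N ∣ K * q ^ j) : False := by
  have h1 := no_eq_aux hb hqb hK hdvd
  have e : (q ^ 2 - 1) * N = q * (y ^ 2 - 1) - (q ^ 2 - 1) * (y + 1) := by
    linear_combination hspec - (q ^ 2 - 1) * hb
  have h2 : N ∣ (q ^ 2 - 1) * (y + 1) :=
    (dvd_sub_right (h1.mul_left q)).1 (e ▸ dvd_mul_left N _)
  have hy1 : 0 < y + 1 := by nlinarith
  have hq1 : 0 < q ^ 2 - 1 := by nlinarith
  have hle := Int.le_of_dvd (mul_pos hq1 hy1) h2
  have hmul := mul_le_mul_of_nonneg_left hle hq1.le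
  have hqy : q ^ 4 ≤ q * y := by
    have := mul_le_mul_of_nonneg_left hy (show (0 : ℤ) ≤ q by omega)
    linarith [show q * q ^ 3 = q ^ 4 by ring]
  have hpos : 0 < q * (y - 1) - (q ^ 2 - 1) - (q ^ 2 - 1) ^ 2 := by nlinarith
  nlinarith [mul_pos hy1 hpos]

theorem two_min_plus {q y b O : ℤ} (hq : 2 ≤ q) (hy : q ^ 3 ≤ y)
    (hspec : (q ^ 2 - 1) * b = (q * y - 1) * (y + q)) (hO : y ^ 2 - y ≤ q * O) : b ≤ 2 * O := by
  have hq1 : 0 < q * (q ^ 2 - 1) := mul_pos (by omega) (by nlinarith)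
  refine le_of_mul_le_mul_left ?_ hq1
  have h3 : 0 ≤ y * (q ^ 2 - 2) - (q ^ 3 + 2 * q ^ 2 - q - 2) := by
    nlinarith [mul_le_mul_of_nonneg_right hy (show (0 : ℤ) ≤ q ^ 2 - 2 by nlinarith),
      mul_nonneg (mul_nonneg (show (0 : ℤ) ≤ q by omega) (show (0 : ℤ) ≤ q by omega))
        (show (0 : ℤ) ≤ q - 2 by omega)]
  calc q * (q ^ 2 - 1) * b = q * ((q * y - 1) * (y + q)) := by rw [mul_assoc, hspec]
    _ ≤ 2 * (q ^ 2 - 1) * (y ^ 2 - y) := by
      nlinarith [mul_nonneg (show (0 : ℤ) ≤ y by nlinarith) h3]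
    _ ≤ 2 * (q ^ 2 - 1) * (q * O) := mul_le_mul_of_nonneg_left hO (by nlinarith)
    _ = _ := by ring

theorem two_min_minus {q y b O : ℤ} (hq : 2 ≤ q) (hy : q ^ 3 ≤ y)
    (hspec : (q ^ 2 - 1) * b = (q * y + 1) * (y - q)) (hO : y ^ 2 - q * y + y - q ≤ q * O) :
    b ≤ 2 * O := by
  have hq1 : 0 < q * (q ^ 2 - 1) := mul_pos (by omega) (by nlinarith)
  refine le_of_mul_le_mul_left ?_ hq1
  have h3 : 2 * q ≤ y * (q ^ 2 - 2) - q ^ 3 + 2 * q ^ 2 + q - 2 := by
    nlinarith [mul_le_mul_of_nonneg_right hy (show (0 : ℤ) ≤ q ^ 2 - 2 by nlinarith),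
      mul_nonneg (mul_nonneg (show (0 : ℤ) ≤ q by omega) (show (0 : ℤ) ≤ q by omega))
        (show (0 : ℤ) ≤ q - 2 by omega)]
  have hyq : q ^ 2 ≤ y := by nlinarith
  calc q * (q ^ 2 - 1) * b = q * ((q * y + 1) * (y - q)) := by rw [mul_assoc, hspec]
    _ ≤ 2 * (q ^ 2 - 1) * (y ^ 2 - q * y + y - q) := by
      nlinarith [mul_le_mul_of_nonneg_left h3 (show (0 : ℤ) ≤ y by nlinarith),
        mul_le_mul_of_nonneg_left hyq (show (0 : ℤ) ≤ 2 * q by omega)]
    _ ≤ 2 * (q ^ 2 - 1) * (q * O) := mul_le_mul_of_nonneg_left hO (by nlinarith)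
    _ = _ := by ring

/-! ### Transport -/

universe u v w

variable {F : Type u} [Field F] [Fintype F]

/-- Every nontrivial representation of the root group of `Q` has degree at least `b`. -/
def Bd {V : Type v} [AddCommGroup V] [Module F V] (Q : QuadraticForm F V) (b : ℤ) : Prop :=
  ∀ (X : Type) [AddCommGroup X] [Module ℂ X] [FiniteDimensional ℂ X]
    (σ : Representation ℂ (sGroup Q) X), (∃ g, σ g ≠ 1) → b ≤ (Module.finrank ℂ X : ℤ)

theorem bd_congr {V : Type v} [AddCommGroup V] [Module F V] [FiniteDimensional F V]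
    {W : Type w} [AddCommGroup W] [Module F W] [FiniteDimensional F W]
    {Q : QuadraticForm F V} {Q' : QuadraticForm F W} (e : V ≃ₗ[F] W) (h : ∀ x, Q' (e x) = Q x)
    (hQ : (polarBilin Q).Nondegenerate) (hn : 5 ≤ Module.finrank F V) {b : ℤ} (hb : Bd Q b) :
    Bd Q' b := by
  have hQ' := nondegenerate_congr e h hQ
  have hn' : 5 ≤ Module.finrank F W := e.finrank_eq ▸ hn
  let φ : sGroup Q ≃* sGroup Q' :=
    (MulEquiv.subgroupCongr (commutator_eq_sGroup hQ hn).symm).trans
      (((orthCongr e h).subgroupMap _).trans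
        (MulEquiv.subgroupCongr ((map_commutator_equiv _).trans (commutator_eq_sGroup hQ' hn'))))
  intro X _ _ _ σ ⟨g, hg⟩
  exact hb X (σ.comp φ.toMonoidHom) ⟨φ.symm g, by simpa using hg⟩

variable {W : Type v} [AddCommGroup W] [Module F W] (B : QuadraticForm F W) (k : ℕ)

/-- Two planes over `withBase k`. -/
def e2 : ((F × F) × (F × F) × ((Fin k ⊕ Fin k → F) × W)) ≃ₗ[F]
    ((Fin (k + 2) ⊕ Fin (k + 2) → F) × W) :=
  ((LinearEquiv.refl F (F × F)).prodCongr (splitEquiv k)).trans (splitEquiv (k + 1))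

omit [Fintype F] in
theorem e2_isometry (x : (F × F) × (F × F) × ((Fin k ⊕ Fin k → F) × W)) :
    withBase (k + 2) B (e2 k x) = hypExt (hypExt (withBase k B)) x := by
  obtain ⟨⟨a, b⟩, y⟩ := x
  rw [e2, LinearEquiv.trans_apply, splitEquiv_isometry, LinearEquiv.prodCongr_apply, hypExt_apply,
    hypExt_apply, splitEquiv_isometry]
  rfl

/-- Three planes over `withBase k`. -/
def e3 : ((F × F) × (F × F) × (F × F) × ((Fin k ⊕ Fin k → F) × W)) ≃ₗ[F]
    ((Fin (k + 3) ⊕ Fin (k + 3) → F) × W) :=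
  ((LinearEquiv.refl F (F × F)).prodCongr (e2 k)).trans (splitEquiv (k + 2))

omit [Fintype F] in
theorem e3_isometry (x : (F × F) × (F × F) × (F × F) × ((Fin k ⊕ Fin k → F) × W)) :
    withBase (k + 3) B (e3 k x) = hypExt (hypExt (hypExt (withBase k B))) x := by
  obtain ⟨⟨a, b⟩, y⟩ := x
  rw [e3, LinearEquiv.trans_apply, splitEquiv_isometry, LinearEquiv.prodCongr_apply, hypExt_apply,
    hypExt_apply, e2_isometry]
  rfl

/-! ### The dichotomy -/

section

variable {Z : Type v} [AddCommGroup Z] [Module F Z] [Fintype Z] [FiniteDimensional F Z]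
  {R : QuadraticForm F Z} (hR : (polarBilin R).Nondegenerate) (h2 : 2 ≤ Module.finrank F Z)
  {X : Type} [AddCommGroup X] [Module ℂ X] [FiniteDimensional ℂ X]
  (ρ : Representation ℂ (sGroup (hypExt (hypExt R))) X)

theorem dichotomy [DecidableEq F] (hnt : ∃ g, ρ g ≠ 1) {L : ℤ}
    (hL : ∀ a, L ≤ (O R a : ℤ)) :
    2 * L ≤ (Module.finrank ℂ X : ℤ) ∨ ∃ a, d hR h2 ρ a = 1 ∧
      (∀ b, b ≠ a → d hR h2 ρ b = 0) ∧ ∑ b : F, d hR h2 ρ b = 1 ∧
      (Module.finrank ℂ X : ℤ) = Module.finrank ℂ (eig (D hR h2 ρ) 0) + O R a := by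
  have hpos := sum_d_pos hR h2 ρ hnt
  rw [finrank_eq hR h2 ρ]
  rcases Nat.lt_or_ge (∑ b : F, d hR h2 ρ b) 2 with h | h
  · right
    have h1 : ∑ b : F, d hR h2 ρ b = 1 := by omega
    obtain ⟨a, -, ha⟩ := Finset.exists_ne_zero_of_sum_ne_zero (h1.trans_ne one_ne_zero)
    have hle := Finset.single_le_sum (fun b _ => Nat.zero_le (d hR h2 ρ b)) (Finset.mem_univ a)
    have hs := Finset.add_sum_erase Finset.univ (fun b => d hR h2 ρ b) (Finset.mem_univ a)
    have ha1 : d hR h2 ρ a = 1 := by omega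
    have hz : ∀ b, b ≠ a → d hR h2 ρ b = 0 := fun b hb =>
      Finset.sum_eq_zero_iff.1 (show ∑ x ∈ Finset.univ.erase a, d hR h2 ρ x = 0 by omega) b
        (Finset.mem_erase.2 ⟨hb, Finset.mem_univ _⟩)
    refine ⟨a, ha1, hz, h1, ?_⟩
    rw [Finset.sum_eq_single a (fun b _ hb => by rw [hz b hb, zero_mul]) (by simp), ha1, one_mul]
    push_cast
    rfl
  · left
    rcases le_or_gt L 0 with hL0 | hL0
    · push_cast
      exact le_trans (by omega) (add_nonneg (Nat.cast_nonneg _)
        (Finset.sum_nonneg fun b _ => mul_nonneg (Nat.cast_nonneg _) (Nat.cast_nonneg _)))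
    push_cast
    have h2' : (2 : ℤ) ≤ ∑ b : F, (d hR h2 ρ b : ℤ) := by exact_mod_cast h
    have h3 : (∑ b : F, (d hR h2 ρ b : ℤ)) * L ≤ ∑ b : F, (d hR h2 ρ b : ℤ) * (O R b : ℤ) := by
      rw [Finset.sum_mul]
      exact Finset.sum_le_sum fun b _ => mul_le_mul_of_nonneg_left (hL b) (Nat.cast_nonneg _)
    have h4 := mul_le_mul_of_nonneg_right h2' hL0.le
    have h5 : (0 : ℤ) ≤ (Module.finrank ℂ (eig (D hR h2 ρ) 0) : ℤ) := Nat.cast_nonneg _
    linarith

end

theorem char_one_apply {G X : Type*} [Group G] [AddCommGroup X] [Module ℂ X]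
    [FiniteDimensional ℂ X]
    (σ : Representation ℂ G X) {g : G} (h : σ g = 1) :
    σ.character g = (Module.finrank ℂ X : ℂ) := by
  rw [Representation.character, h, LinearMap.trace_one]

/-! ### Plus type -/

theorem plus_base (hq : 3 < Fintype.card F) :
    Bd (withBase 3 (qfNil F)) (bP (Fintype.card F : ℤ) 2) := by
  classical
  have hnd := OrthUnitaryKlein.nondegenerate_qfPlus (F := F) 3
  have h6 : 5 ≤ Module.finrank F (Fin 3 ⊕ Fin 3 → F) := by simp
  refine bd_congr (eqPlus 3).symm (fun x => ?_) hnd h6 ?_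
  · rw [← eqPlus_isometry, LinearEquiv.apply_symm_apply, qfPlus_apply]
  intro X _ _ _ σ hnt
  have hperf : commutator SL(4, F) = ⊤ := PSLSimple.commutator_SL_eq_top (by simp)
  have hmem : ∀ g : SL(4, F), OrthUnitaryKlein.kleinHom g ∈ sGroup (qfPlus F 3) := fun g => by
    rw [← commutator_eq_sGroup hnd h6, commutator_def]
    have := Subgroup.mem_map_of_mem (OrthUnitaryKlein.kleinHom (F := F)) (Subgroup.mem_top g)
    rw [← hperf, commutator_def, Subgroup.map_commutator] at this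
    exact Subgroup.commutator_mono le_top le_top this
  let π : SL(4, F) →* sGroup (qfPlus F 3) := OrthUnitaryKlein.kleinHom.codRestrict _ hmem
  have hsig : ∃ g, σ (π g) ≠ 1 := by
    by_contra! hall
    haveI := isSimpleGroup_sGroup hnd h6
    set N := MonoidHom.ker σ
    set mk := QuotientGroup.mk' (Subgroup.center (sGroup (qfPlus F 3)))
    have hperf' : commutator (sGroup (qfPlus F 3)) = ⊤ := by
      rw [Subgroup.eq_top_iff']
      intro x
      have hx : x.1 ∈ ⁅sGroup (qfPlus F 3), sGroup (qfPlus F 3)⁆ := sGroup_le_bracket hnd h6 x.2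
      rw [← Subgroup.map_subtype_commutator] at hx
      obtain ⟨y, hy, e⟩ := hx
      rwa [← Subtype.ext e]
    rcases (Subgroup.Normal.map (inferInstance : N.Normal) mk
      (QuotientGroup.mk'_surjective _)).eq_bot_or_eq_top with h | h
    · rw [Subgroup.map_eq_bot_iff, QuotientGroup.ker_mk'] at h
      have hπ : ∀ g, π g = 1 := by
        intro g
        have hg : g ∈ commutator SL(4, F) := hperf ▸ Subgroup.mem_top g
        have hle : commutator SL(4, F) ≤ π.ker := by
          rw [commutator_def, Subgroup.commutator_le]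
          intro x _ y _
          rw [MonoidHom.mem_ker, map_commutatorElement, commutatorElement_eq_one_iff_mul_comm]
          exact (Subgroup.mem_center_iff.1 (h (hall y)) (π x))
        exact hle hg
      have hker : (OrthUnitaryKlein.kleinHom (F := F)).ker = ⊤ := by
        rw [Subgroup.eq_top_iff']
        exact fun g => congrArg Subtype.val (hπ g)
      have hc := OrthUnitaryKlein.card_ker_kleinHom (F := F)
      rw [hker] at hc
      have hcm : commutator SL(4, F) = ⊥ := by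
        rw [commutator_def, Subgroup.commutator_eq_bot_iff_le_centralizer]
        intro x _ y _
        exact Subgroup.mem_center_iff.1 (hc.2 (Subgroup.mem_top x)) y
      rw [hperf] at hcm
      have := hc.1
      rw [Subgroup.card_top, ← Subgroup.card_top (G := SL(4, F)), hcm, Subgroup.card_bot] at this
      haveI : Nontrivial SL(4, F) := ⟨⟨Matrix.SpecialLinearGroup.transvection
        (show (0 : Fin 4) ≠ 1 by decide) 1, 1, fun e => by
          have := congrFun (congrFun (congrArg Subtype.val e) 0) 1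
          simp [Matrix.SpecialLinearGroup.transvection, Matrix.transvection] at this⟩⟩
      exact absurd hcm top_ne_bot
    · obtain ⟨g, hg⟩ := hnt
      have hle : commutator (sGroup (qfPlus F 3)) ≤ N := by
        rw [commutator_def, Subgroup.commutator_le]
        intro x _ y _
        obtain ⟨x', hx', ex⟩ : mk x ∈ N.map mk := h ▸ Subgroup.mem_top _
        obtain ⟨y', hy', ey⟩ : mk y ∈ N.map mk := h ▸ Subgroup.mem_top _
        have cx : x'⁻¹ * x ∈ Subgroup.center _ := QuotientGroup.eq.1 ex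
        have cy : y'⁻¹ * y ∈ Subgroup.center _ := QuotientGroup.eq.1 ey
        have e : ⁅x, y⁆ = ⁅x', y'⁆ := by
          have c1 := fun z => Subgroup.mem_center_iff.1 cx z
          have c2 := fun z => Subgroup.mem_center_iff.1 cy z
          obtain ⟨a, rfl⟩ : ∃ a, x = x' * a := ⟨x'⁻¹ * x, by group⟩
          obtain ⟨b, rfl⟩ : ∃ b, y = y' * b := ⟨y'⁻¹ * y, by group⟩
          simp only [inv_mul_cancel_left] at c1 c2
          calc ⁅x' * a, y' * b⁆ = x' * a * (y' * b) * a⁻¹ * x'⁻¹ * (b⁻¹ * y'⁻¹) := by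
                rw [commutatorElement_def]; group
            _ = x' * (y' * b) * x'⁻¹ * (b⁻¹ * y'⁻¹) := by
                rw [show x' * a * (y' * b) = x' * (a * (y' * b)) by group, ← c1 (y' * b)]
                group
            _ = x' * y' * (b * (x'⁻¹ * b⁻¹)) * y'⁻¹ := by group
            _ = ⁅x', y'⁆ := by
                rw [← mul_assoc b, ← c2 x'⁻¹, commutatorElement_def]
                group
        rw [e]
        exact N.mul_mem (N.mul_mem (N.mul_mem hx' hy') (N.inv_mem hx')) (N.inv_mem hy')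
      exact hg (hle (hperf' ▸ Subgroup.mem_top g))
  have hgood : SLMinDegree32.Good 4 (Fintype.card F) := by
    simp only [SLMinDegree32.Good, ne_eq, Prod.mk.injEq]
    omega
  have h := SLMinDegree32.le_finrank 2 (by norm_num) hgood X (σ.comp π) hsig
  simp only [SLMinDegree32.geom, Finset.sum_range_succ, Finset.sum_range_zero] at h
  have h' : ((Fintype.card F * (0 + Fintype.card F ^ 0 + Fintype.card F ^ 1 + Fintype.card F ^ 2)
      : ℕ) : ℤ) ≤ (Module.finrank ℂ X : ℤ) := by exact_mod_cast h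
  refine le_trans (le_of_eq ?_) h'
  simp [bP]
  ring

theorem plus_step (hq : 3 < Fintype.card F)
    (ih : Bd (withBase (k + 3) (qfNil F)) (bP (Fintype.card F : ℤ) (k + 2))) :
    Bd (withBase (k + 4) (qfNil F)) (bP (Fintype.card F : ℤ) (k + 3)) := by
  classical
  letI : Fintype ((Fin (k + 1) ⊕ Fin (k + 1) → F) × (Fin 0 → F)) := Fintype.ofFinite _
  set T := withBase (k + 1) (qfNil F) with hTdef
  have hT : (polarBilin T).Nondegenerate := nondegenerate_withBase nondegenerate_qfNil _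
  have h2 : 2 ≤ Module.finrank F ((Fin (k + 1) ⊕ Fin (k + 1) → F) × (Fin 0 → F)) := by
    rw [finrank_withBase_space]; omega
  have hR' := hR hT h2
  have hZ' := hZ hT h2
  have hQ0 := nondegenerate_hypExt hR'
  have hn0 := five_le (R := T) hT h2
  have ihW : Bd (hypExt (hypExt T)) (bP (Fintype.card F : ℤ) (k + 2)) := by
    refine bd_congr (e2 (k + 1)).symm (fun x => ?_)
      (nondegenerate_withBase nondegenerate_qfNil (k + 3)) ?_ ih
    · rw [← e2_isometry, LinearEquiv.apply_symm_apply]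
    · rw [finrank_withBase_space]; omega
  refine bd_congr (e3 (k + 1)) (e3_isometry (qfNil F) (k + 1)) (nondegenerate_hypExt hQ0)
    (five_le (R := hypExt T) hR' hZ') ?_
  set q : ℤ := (Fintype.card F : ℤ) with hq'
  have hq2 : 2 ≤ q := by rw [hq']; exact_mod_cast Fintype.one_lt_card (α := F)
  set y : ℤ := q ^ (k + 3) with hy
  have hy3 : q ^ 3 ≤ y := pow_le_pow_right₀ (by omega) (by omega)
  have hlev : ∀ a : F, q * lev (hypExt (hypExt T)) a =
      y ^ 2 + y * (q * (if a = 0 then 1 else 0) - 1) := fun a => by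
    rw [lev_congr (e2 (k + 1)) (e2_isometry (qfNil F) (k + 1)) a,
      q_mul_lev_withBase (d := 0) (by simp) (qfNil F) a, lev_qfNil]
    ring
  have hlevV : q * lev (hypExt (hypExt (hypExt T))) 0 = (q * y) ^ 2 + q * y * (q - 1) := by
    rw [lev_congr (e3 (k + 1)) (e3_isometry (qfNil F) (k + 1)) 0,
      q_mul_lev_withBase (d := 0) (by simp) (qfNil F) 0, lev_qfNil, if_pos rfl]
    ring
  set b := bP q (k + 3) with hb
  have hspec : (q ^ 2 - 1) * b = (q * y - 1) * (y + q) := by
    rw [hb, bP_spec, hy]; ring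
  have hrec : q * b = q * bP q (k + 2) + q * lev (hypExt (hypExt T)) 0 := by
    rw [hb, bP, hlev, if_pos rfl, hy]; ring
  intro X _ _ _ σ hnt
  haveI : Finite (orth (hypExt (hypExt (hypExt T)))) := finite_orth _
  have hN := SLMinDegree32.bound_of_irreducible b.toNat (fun V _ _ _ ρ hirr hnt => ?_) _ X σ rfl hnt
  · exact le_trans (Int.self_le_toNat b) (by exact_mod_cast hN)
  suffices h : b ≤ (Module.finrank ℂ V : ℤ) by omega
  have hO : ∀ a, (O (hypExt T) a : ℤ) =
      lev (hypExt (hypExt T)) a - if a = 0 then 1 else 0 := fun a => O_eq a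
  have hOpos : ∀ a, y ^ 2 - y ≤ q * (O (hypExt T) a : ℤ) := by
    intro a
    rw [hO, mul_sub, hlev]
    split_ifs
    · nlinarith [mul_nonneg (show (0 : ℤ) ≤ q by omega)
        (show (0 : ℤ) ≤ y - 1 by nlinarith)]
    · linarith
  obtain ⟨L, hL, hLmem⟩ : ∃ L : ℤ, (∀ a, L ≤ (O (hypExt T) a : ℤ)) ∧ ∃ a, L = O (hypExt T) a := by
    obtain ⟨a, ha⟩ := Finite.exists_min fun a => O (hypExt T) a
    exact ⟨_, fun b => by exact_mod_cast ha b, a, rfl⟩
  rcases dichotomy hR' hZ' ρ hnt hL with h | ⟨a, ha, hz, hsum, hN⟩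
  · obtain ⟨a, rfl⟩ := hLmem
    exact le_trans (two_min_plus hq2 hy3 hspec (hOpos a)) h
  have ha0 : a = 0 := by
    by_contra hne
    obtain ⟨μ, hμ0, hμ⟩ := exists_sq_ne_one hq
    have h1 := d_scale hR' hZ' ρ hμ0 a
    rw [ha, hz (μ * μ * a) fun e => hμ (mul_right_cancel₀ hne (e.trans (one_mul a).symm))] at h1
    exact zero_ne_one h1
  subst ha0
  have hW := char_fixRep hT h2 ρ ha hsum (scal_of_card hT h2 hq 0)
  have hWnt : ∃ g, fixRep hR' hZ' ρ g ≠ 1 := by
    refine ⟨r hT h2 ((1, 0), 0), fun e => ?_⟩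
    rw [char_one_apply _ e] at hW
    have hW' := sub_eq_self.1 hW.symm
    simp [mul_eq_zero, Fintype.card_ne_zero] at hW'
  have hf := ihW _ (fixRep hR' hZ' ρ) hWnt
  have hb1 : b - 1 ≤ (Module.finrank ℂ V : ℤ) := by
    have e : b = bP q (k + 2) + lev (hypExt (hypExt T)) 0 :=
      mul_left_cancel₀ (show q ≠ 0 by omega) (by rw [hrec]; ring)
    rw [hN, hO, if_pos rfl]
    linarith
  rcases hb1.eq_or_lt with he | he
  swap
  · omega
  exfalso
  haveI := hirr
  obtain ⟨K, hdvd, hK⟩ := exists_dvd hR' hZ' ρ hsum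
  refine no_eq_plus hq2 hy3 (N := (Module.finrank ℂ V : ℤ)) (b := b) (K := (K : ℤ))
    (j := 2 * k + 5) (by omega)
    (dvd_of_spec (c := (q ^ (k + 4) - 1) * (q ^ (k + 2) + 1)) (by rw [hb, bP_spec]; ring))
    hspec ?_ ?_
  · refine mul_left_cancel₀ (show (q ^ 2 - 1 : ℤ) ≠ 0 by nlinarith) ?_
    refine mul_left_cancel₀ (show (q : ℤ) ≠ 0 by omega) ?_
    have e1 := hlev 0
    rw [if_pos rfl] at e1
    have e2' : q * (q ^ 2 - 1) * b = q * ((q * y - 1) * (y + q)) := by rw [mul_assoc, hspec]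
    linear_combination q * hK + (q * lev (hypExt (hypExt T)) 0 - q) * hlevV
      + ((q * y) ^ 2 + q * y * (q - 1) - q) * e1 - (y ^ 2 - 1) * e2'
  · have hcard : Fintype.card F * Fintype.card ((F × F) × (Fin (k + 1) ⊕ Fin (k + 1) → F) ×
        (Fin 0 → F)) = Fintype.card F ^ (2 * k + 5) := by
      rw [Fintype.card_prod, Fintype.card_prod, ← Nat.card_eq_fintype_card
        (α := (Fin (k + 1) ⊕ Fin (k + 1) → F) × (Fin 0 → F)), card_withBase_space (d := 0)
        (by simp)]
      ring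
    rw [hcard] at hdvd
    have h' := Int.natCast_dvd_natCast.2 hdvd
    push_cast at h'
    exact h'

theorem plus_bound (hq : 3 < Fintype.card F) :
    ∀ k : ℕ, Bd (withBase (k + 3) (qfNil F)) (bP (Fintype.card F : ℤ) (k + 2))
  | 0 => plus_base hq
  | k + 1 => plus_step k hq (plus_bound hq k)

/-! ### Minus type -/

theorem minus_step {α β : F} (hab : IsAniso α β)
    (ih : 1 ≤ k → Bd (withBase (k + 2) (qfBin α β)) (bM (Fintype.card F : ℤ) (k + 2))) :
    Bd (withBase (k + 3) (qfBin α β)) (bM (Fintype.card F : ℤ) (k + 3)) := by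
  classical
  letI : Fintype ((Fin k ⊕ Fin k → F) × (Fin 2 → F)) := Fintype.ofFinite _
  set T := withBase k (qfBin α β) with hTdef
  have hT : (polarBilin T).Nondegenerate := nondegenerate_withBase (nondegenerate_qfBin hab) _
  have h2 : 2 ≤ Module.finrank F ((Fin k ⊕ Fin k → F) × (Fin 2 → F)) := by
    rw [finrank_withBase_space, Module.finrank_fin_fun]; omega
  have hR' := hR hT h2
  have hZ' := hZ hT h2
  have hQ0 := nondegenerate_hypExt hR'
  refine bd_congr (e3 k) (e3_isometry (qfBin α β) k) (nondegenerate_hypExt hQ0)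
    (five_le (R := hypExt T) hR' hZ') ?_
  set q : ℤ := (Fintype.card F : ℤ) with hq'
  have hq2 : 2 ≤ q := by rw [hq']; exact_mod_cast Fintype.one_lt_card (α := F)
  set y : ℤ := q ^ (k + 3) with hy
  have hy3 : q ^ 3 ≤ y := pow_le_pow_right₀ (by omega) (by omega)
  have hcard2 : Nat.card (Fin 2 → F) = Fintype.card F ^ 2 := by
    rw [Nat.card_fun, Nat.card_eq_fintype_card (α := F), Nat.card_fin]
  have hlev : ∀ a : F, q * lev (hypExt (hypExt T)) a =
      y ^ 2 + y * (if a = 0 then 1 - q else 1) := fun a => by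
    rw [lev_congr (e2 k) (e2_isometry (qfBin α β) k) a,
      q_mul_lev_withBase hcard2 (qfBin α β) a, lev_qfBin hab]
    split_ifs <;> ring
  have hlevV : q * lev (hypExt (hypExt (hypExt T))) 0 = (q * y) ^ 2 + q * y * (1 - q) := by
    rw [lev_congr (e3 k) (e3_isometry (qfBin α β) k) 0,
      q_mul_lev_withBase hcard2 (qfBin α β) 0, lev_qfBin hab, if_pos rfl]
    ring
  set b := bM q (k + 3) with hb
  have hspec : (q ^ 2 - 1) * b = (q * y + 1) * (y - q) := by
    rw [hb, bM_spec, hy]; ring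
  have hrec : b = bM q (k + 2) + lev (hypExt (hypExt T)) 0 := by
    refine mul_left_cancel₀ (show q ≠ 0 by omega) ?_
    rw [mul_add, hlev, if_pos rfl, hb, bM, hy]; ring
  intro X _ _ _ σ hnt
  haveI : Finite (orth (hypExt (hypExt (hypExt T)))) := finite_orth _
  have hN := SLMinDegree32.bound_of_irreducible b.toNat (fun V _ _ _ ρ hirr hnt => ?_) _ X σ rfl hnt
  · exact le_trans (Int.self_le_toNat b) (by exact_mod_cast hN)
  suffices h : b ≤ (Module.finrank ℂ V : ℤ) by omega
  have hO : ∀ a, (O (hypExt T) a : ℤ) =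
      lev (hypExt (hypExt T)) a - if a = 0 then 1 else 0 := fun a => O_eq a
  have hOpos : ∀ a, y ^ 2 - q * y + y - q ≤ q * (O (hypExt T) a : ℤ) := by
    intro a
    rw [hO, mul_sub, hlev]
    split_ifs <;> nlinarith
  obtain ⟨L, hL, hLmem⟩ : ∃ L : ℤ, (∀ a, L ≤ (O (hypExt T) a : ℤ)) ∧ ∃ a, L = O (hypExt T) a := by
    obtain ⟨a, ha⟩ := Finite.exists_min fun a => O (hypExt T) a
    exact ⟨_, fun b => by exact_mod_cast ha b, a, rfl⟩
  rcases dichotomy hR' hZ' ρ hnt hL with h | ⟨a, ha, hz, hsum, hN⟩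
  · obtain ⟨a, rfl⟩ := hLmem
    exact le_trans (two_min_minus hq2 hy3 hspec (hOpos a)) h
  have hcardY : Fintype.card F * Fintype.card ((Fin k ⊕ Fin k → F) × (Fin 2 → F)) =
      Fintype.card F ^ (2 * k + 3) := by
    rw [← Nat.card_eq_fintype_card (α := (Fin k ⊕ Fin k → F) × (Fin 2 → F)),
      card_withBase_space hcard2]
    ring
  by_cases hk : k = 0 ∧ a ≠ 0
  · obtain ⟨rfl, hane⟩ := hk
    have e1 := hlev a
    rw [if_neg hane, hy] at e1
    have e2' : b = q ^ 5 + q := by
      rw [hb]; simp [bM]; ring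
    have e3' : lev (hypExt (hypExt T)) a = q ^ 5 + q ^ 2 :=
      mul_left_cancel₀ (show q ≠ 0 by omega) (by rw [e1]; ring)
    rw [hN, hO, if_neg hane, sub_zero, e3', e2']
    nlinarith
  have hscal : Scal T a := by
    rcases Nat.eq_zero_or_pos k with hk0 | hk0
    · have ha0 : a = 0 := by_contra fun h => hk ⟨hk0, h⟩
      subst hk0 ha0
      refine scal_of_aniso hT h2 fun p hp => ?_
      rw [hTdef, ← dropZero_isometry] at hp
      exact dropZero.injective ((eq_zero_of_qfBin hab hp).trans (map_zero _).symm)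
    · exact scal_of_large hT h2 (by rw [finrank_withBase_space, Module.finrank_fin_fun]; omega) a
  have hW := char_fixRep hT h2 ρ ha hsum hscal
  have hf : bM q (k + 2) ≤ (Module.finrank ℂ (eig (D hR' hZ' ρ) 0) : ℤ) := by
    rcases Nat.eq_zero_or_pos k with hk0 | hk0
    · -- dimension eight
      have ha0 : a = 0 := by_contra fun h => hk ⟨hk0, h⟩
      subst hk0 ha0
      set W := fixRep hR' hZ' ρ with hWdef
      have hv := char_r hT h2 W (v := ((1, 0), 0)) (by simp [hypExt_apply]) (by simp [Prod.ext_iff])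
      rw [hW] at hv
      have hd : ∑ c : F, d hT h2 W c = 1 := by
        have hne : ((Fintype.card F : ℂ) * Fintype.card ((Fin 0 ⊕ Fin 0 → F) × (Fin 2 → F))) ≠ 0 :=
          mul_ne_zero (Nat.cast_ne_zero.2 Fintype.card_ne_zero)
            (Nat.cast_ne_zero.2 Fintype.card_ne_zero)
        have h' := sub_right_injective hv
        exact_mod_cast (mul_eq_right₀ hne).1 h'.symm
      obtain ⟨c, -, hc⟩ := Finset.exists_ne_zero_of_sum_ne_zero (hd.trans_ne one_ne_zero)
      have hfe := finrank_eq hT h2 W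
      have hle : d hT h2 W c * O T c ≤ ∑ b : F, d hT h2 W b * O T b :=
        Finset.single_le_sum (f := fun b => d hT h2 W b * O T b) (fun b _ => Nat.zero_le _)
          (Finset.mem_univ c)
      have hle' : O T c ≤ d hT h2 W c * O T c := Nat.le_mul_of_pos_left _ (Nat.pos_of_ne_zero hc)
      have hlev1 : q * lev (hypExt T) c = q ^ 4 + q * (if c = 0 then q - q ^ 2 else q) := by
        rw [lev_congr (splitEquiv 0) (splitEquiv_isometry 0 (qfBin α β)) c,
          q_mul_lev_withBase hcard2 (qfBin α β) c, lev_qfBin hab]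
        split_ifs <;> ring
      have hOc := O_eq (R := T) c
      have hb2 : bM q 2 = q ^ 3 - q ^ 2 + q := by simp only [bM]; ring
      rw [show (0 : ℕ) + 2 = 2 from rfl, hb2]
      by_cases hc0 : c = 0
      · subst hc0
        rw [if_pos rfl] at hlev1 hOc
        have hl : lev (hypExt T) 0 = q ^ 3 + q - q ^ 2 :=
          mul_left_cancel₀ (show q ≠ 0 by omega) (by rw [hlev1]; ring)
        have hpos : 0 < O T 0 := by
          have : 0 < (O T 0 : ℤ) := by rw [hOc, hl]; nlinarith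
          exact_mod_cast this
        have hbot : eig (D hR' hZ' ρ) 0 ≠ ⊥ := by
          intro h
          have h0 := Submodule.finrank_eq_zero.2 h
          omega
        obtain ⟨p, hp⟩ := exists_map_ne_zero (isReg_of_nondegenerate hT) (by omega)
        have hfix := exists_fixed hT h2 ρ ⟨p, hp⟩ ha (fun b hb => hz b hb) hbot
        have h1 : 1 ≤ Module.finrank ℂ (eig (D hT h2 W) 0) :=
          Submodule.one_le_finrank_iff.2 hfix
        have h3 : (Module.finrank ℂ (eig (D hR' hZ' ρ) 0) : ℤ) ≥ O T 0 + 1 := by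
          have : O T 0 + 1 ≤ Module.finrank ℂ (eig (D hR' hZ' ρ) 0) := by omega
          exact_mod_cast this
        rw [hOc, hl] at h3
        linarith
      · rw [if_neg hc0] at hlev1 hOc
        have hl : lev (hypExt T) c = q ^ 3 + q :=
          mul_left_cancel₀ (show q ≠ 0 by omega) (by rw [hlev1]; ring)
        have h3 : (Module.finrank ℂ (eig (D hR' hZ' ρ) 0) : ℤ) ≥ O T c := by
          have : O T c ≤ Module.finrank ℂ (eig (D hR' hZ' ρ) 0) := by omega
          exact_mod_cast this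
        rw [hOc, hl] at h3
        nlinarith
    · have ihW : Bd (hypExt (hypExt T)) (bM q (k + 2)) := by
        refine bd_congr (e2 k).symm (fun x => ?_)
          (nondegenerate_withBase (nondegenerate_qfBin hab) (k + 2)) ?_ (ih hk0)
        · rw [← e2_isometry, LinearEquiv.apply_symm_apply]
        · rw [finrank_withBase_space, Module.finrank_fin_fun]; omega
      refine ihW _ (fixRep hR' hZ' ρ) ⟨r hT h2 ((1, 0), 0), fun e => ?_⟩
      rw [char_one_apply _ e] at hW
      have hW' := sub_eq_self.1 hW.symm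
      simp [mul_eq_zero, Fintype.card_ne_zero] at hW'
  by_cases ha0 : a = 0
  swap
  · rw [hN, hO, if_neg ha0, sub_zero, hrec]
    have e1 := hlev a
    rw [if_neg ha0] at e1
    have e0 := hlev 0
    rw [if_pos rfl] at e0
    have : q * lev (hypExt (hypExt T)) 0 ≤ q * lev (hypExt (hypExt T)) a := by
      rw [e1, e0]; nlinarith
    have := le_of_mul_le_mul_left this (show (0 : ℤ) < q by omega)
    linarith
  subst ha0
  have hb1 : b - 1 ≤ (Module.finrank ℂ V : ℤ) := by
    rw [hN, hO, if_pos rfl, hrec]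
    linarith
  rcases hb1.eq_or_lt with he | he
  swap
  · omega
  exfalso
  haveI := hirr
  obtain ⟨K, hdvd, hK⟩ := exists_dvd hR' hZ' ρ hsum
  refine no_eq_minus hq2 hy3 (N := (Module.finrank ℂ V : ℤ)) (b := b) (K := (K : ℤ))
    (j := 2 * k + 5) (by omega)
    (dvd_of_spec (c := (q ^ (k + 4) + 1) * (q ^ (k + 2) - 1)) (by rw [hb, bM_spec]; ring))
    hspec ?_ ?_
  · refine mul_left_cancel₀ (show (q ^ 2 - 1 : ℤ) ≠ 0 by nlinarith) ?_
    refine mul_left_cancel₀ (show (q : ℤ) ≠ 0 by omega) ?_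
    have e1 := hlev 0
    rw [if_pos rfl] at e1
    have e2' : q * (q ^ 2 - 1) * b = q * ((q * y + 1) * (y - q)) := by rw [mul_assoc, hspec]
    linear_combination q * hK + (q * lev (hypExt (hypExt T)) 0 - q) * hlevV
      + ((q * y) ^ 2 + q * y * (1 - q) - q) * e1 - (y ^ 2 - 1) * e2'
  · have hcard : Fintype.card F * Fintype.card ((F × F) × (Fin k ⊕ Fin k → F) × (Fin 2 → F)) =
        Fintype.card F ^ (2 * k + 5) := by
      rw [Fintype.card_prod, Fintype.card_prod, mul_left_comm, hcardY]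
      ring
    rw [hcard] at hdvd
    have h' := Int.natCast_dvd_natCast.2 hdvd
    push_cast at h'
    exact h'

theorem minus_bound {α β : F} (hab : IsAniso α β) :
    ∀ k : ℕ, Bd (withBase (k + 3) (qfBin α β)) (bM (Fintype.card F : ℤ) (k + 3))
  | 0 => minus_step 0 hab (fun h => absurd h (by omega))
  | k + 1 => minus_step (k + 1) hab (fun _ => minus_bound hab k)

/-! ### Transfer to `Omega` -/

theorem bd_omega {V : Type v} [AddCommGroup V] [Module F V] [FiniteDimensional F V] {ι : Type}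
    [Fintype ι] [DecidableEq ι] {Q : QuadraticForm F V} {f : (ι → F) → F} (e : V ≃ₗ[F] (ι → F))
    (h : ∀ x, f (e x) = Q x) (hQ : (polarBilin Q).Nondegenerate) (hn : 5 ≤ Module.finrank F V)
    {b : ℤ} (hb : Bd Q b) {d : ℕ} (ρ : Representation ℂ (Omega F f) (Fin d → ℂ))
    (hirr : ρ.IsIrreducible) (hd : 2 ≤ d) : b ≤ (d : ℤ) := by
  have hnt : ∃ g, ρ g ≠ 1 := by
    by_contra! hall
    haveI := hirr
    haveI : Nonempty (Fin d) := ⟨⟨0, by omega⟩⟩
    obtain ⟨v, hv⟩ := exists_ne (0 : Fin d → ℂ)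
    let S : Subrepresentation ρ := ⟨ℂ ∙ v, fun g x hx => by rw [hall g]; exact hx⟩
    rcases eq_bot_or_eq_top S with h | h
    · exact hv ((Submodule.span_singleton_eq_bot (R := ℂ)).1
        (congrArg Subrepresentation.toSubmodule h))
    · have h' : (ℂ ∙ v) = ⊤ := congrArg Subrepresentation.toSubmodule h
      have := finrank_span_singleton (K := ℂ) hv
      rw [h', finrank_top, Module.finrank_fin_fun] at this
      omega
  let ψ : Omega F f ≃* sGroup Q :=
    (omegaEquiv Q f e h).trans (MulEquiv.subgroupCongr (commutator_eq_sGroup hQ hn))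
  obtain ⟨g, hg⟩ := hnt
  have := hb (Fin d → ℂ) (ρ.comp ψ.symm.toMonoidHom) ⟨ψ g, by simpa using hg⟩
  rwa [Module.finrank_fin_fun] at this

end Cfsg.Agent.OrthMinDegree32Bound
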