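import Mathlib
import Cfsg.Prelude.Def_LieTypeDatum
import Cfsg.Agent.Lib.OrthClassParity
import Cfsg.Agent.Lib.OrthBaseChange

/-!
The similarities of a minus form keeping the two classes over a quadratic extension.
-/

set_option autoImplicit false
set_option linter.unusedSectionVars false

namespace Cfsg.Agent.OrthMinusKeep

open QuadraticMap Module
open scoped Matrix MatrixGroups
open Cfsg.Agent.OrthUnitaryQuad
open Cfsg.Agent.OrthUnitaryRefl
open Cfsg.Agent.OrthUnitaryOmega
open Cfsg.Agent.OmegaClasses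
open Cfsg.Agent.OrthUnitarySimAut
open Cfsg.Agent.OrthUnitarySimilar
open Cfsg.Agent.OrthBaseChange
open Cfsg.Agent.OrthUnitaryForms

section Transport

variable {K : Type*} [Field K] {ι κ : Type} [Fintype ι] [DecidableEq ι] [Fintype κ] [DecidableEq κ]

theorem ts_map (L : (ι → K) ≃ₗ[K] (κ → K)) {f : (ι → K) → K} {f' : (κ → K) → K}
    (hf : ∀ v, f' (L v) = f v) (U : Submodule K (ι → K)) :
    Geo.IsTotallySingularQuad f' (U.map L.toLinearMap) ↔ Geo.IsTotallySingularQuad f U :=
  ⟨fun h v hv => (hf v).symm.trans (h _ ⟨v, hv, rfl⟩),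
    fun h w hw => by obtain ⟨v, hv, rfl⟩ := hw; exact (hf v).trans (h v hv)⟩

theorem max_map (L : (ι → K) ≃ₗ[K] (κ → K)) {f : (ι → K) → K} {f' : (κ → K) → K}
    (hf : ∀ v, f' (L v) = f v) {U : Submodule K (ι → K)} (hU : IsMaxTotallySingular f U) :
    IsMaxTotallySingular f' (U.map L.toLinearMap) := by
  refine ⟨(ts_map L hf U).2 hU.1, fun W hW hle => ?_⟩
  have hWe : (W.map L.symm.toLinearMap).map L.toLinearMap = W := by
    rw [← Submodule.map_comp]; simp
  rw [← hWe] at hW ⊢
  congr 1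
  refine hU.2 _ ((ts_map L hf _).1 hW) fun u hu => ?_
  exact ⟨L u, hle ⟨u, hu, rfl⟩, L.symm_apply_apply u⟩

theorem preserves_of_conj (L : (ι → K) ≃ₗ[K] (κ → K)) {f : (ι → K) → K} {f' : (κ → K) → K}
    (hf : ∀ v, f' (L v) = f v) {A : Matrix ι ι K} {B : Matrix κ κ K}
    (hAB : ∀ v, B *ᵥ L v = L (A *ᵥ v)) (h : PreservesSingularClasses f' B) :
    PreservesSingularClasses f A := by
  intro U hU
  have h1 := h _ (max_map L hf hU)
  have e : imageSubmodule B (U.map L.toLinearMap) = (imageSubmodule A U).map L.toLinearMap := by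
    unfold imageSubmodule
    rw [← Submodule.map_comp, ← Submodule.map_comp]
    congr 1
    exact LinearMap.ext fun v => by simp [hAB]
  rwa [e, SameParityClass, ← Submodule.map_inf _ L.injective, LinearEquiv.finrank_map_eq,
    LinearEquiv.finrank_map_eq] at h1

theorem preserves_conj (L : (ι → K) ≃ₗ[K] (κ → K)) {f : (ι → K) → K} {f' : (κ → K) → K}
    (hf : ∀ v, f' (L v) = f v) {A : Matrix ι ι K} {B : Matrix κ κ K}
    (hAB : ∀ v, B *ᵥ L v = L (A *ᵥ v)) :
    PreservesSingularClasses f' B ↔ PreservesSingularClasses f A :=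
  ⟨preserves_of_conj L hf hAB, preserves_of_conj L.symm (fun v => by rw [← hf, L.apply_symm_apply])
    fun v => L.injective (by rw [← hAB, L.apply_symm_apply, L.apply_symm_apply])⟩

end Transport

section Plus

variable (n : ℕ) (K : Type*) [Field K] [Fintype K]

/-- The first half of the coordinates. -/
def U0 : Submodule K (Fin n ⊕ Fin n → K) :=
  LinearMap.ker (LinearMap.funLeft K K (Sum.inr : Fin n → Fin n ⊕ Fin n))

theorem lagr_U0 : Lagr (QuadClassify.qPlus n K) (U0 n K) := OmegaStd.lagr_plus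

theorem mem_U0 {v : Fin n ⊕ Fin n → K} : v ∈ U0 n K ↔ ∀ i, v (.inr i) = 0 := by
  simp [U0, LinearMap.mem_ker, funext_iff, LinearMap.funLeft_apply]

theorem gen_plus (hn : 3 ≤ n) : reflGroup (QuadClassify.qPlus n K) = ⊤ :=
  reflGroup_top OmegaStd.nondeg_plus (Or.inr (by rw [OmegaStd.finrank_plus]; omega))

variable {n K}

/-- The similarities of the plus form keeping the two classes. -/
def keepPlus (hn : 3 ≤ n) : Subgroup (Sim (QuadClassify.qPlus n K)) :=
  OrthClassParity.keep OmegaStd.nondeg_plus (gen_plus n K hn) (lagr_U0 n K)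

theorem mem_keepPlus (hn : 3 ≤ n) {g : Sim (QuadClassify.qPlus n K)} :
    g ∈ keepPlus hn ↔
      PreservesSingularClasses (quadFormPlus n K) (g : GL (Fin n ⊕ Fin n) K).1 := by
  rw [← QuadClassify.qPlus_coe]; exact Iff.rfl

theorem keep_ofOrth (hn : 3 ≤ n) {vs : List (Fin n ⊕ Fin n → K)}
    (hvs : NS (QuadClassify.qPlus n K) vs) :
    ofOrth (rprod _ vs) ∈ keepPlus hn ↔ Even vs.length :=
  OrthClassParity.preserves_ofOrth OmegaStd.nondeg_plus (gen_plus n K hn) (lagr_U0 n K) hvs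

theorem keep_diagonal (hn : 3 ≤ n) {g : Sim (QuadClassify.qPlus n K)} {d : Fin n ⊕ Fin n → K}
    (hg : (g : GL (Fin n ⊕ Fin n) K).1 = Matrix.diagonal d) : g ∈ keepPlus hn := by
  refine OrthClassParity.preserves_of_stable OmegaStd.nondeg_plus (gen_plus n K hn) (lagr_U0 n K)
    fun u hu => (mem_U0 n K).2 fun i => ?_
  rw [hg, Matrix.mulVec_diagonal, (mem_U0 n K).1 hu i, mul_zero]

theorem keep_mul (hn : 3 ≤ n) (g k : Sim (QuadClassify.qPlus n K)) :
    g * k ∈ keepPlus hn ↔ (g ∈ keepPlus hn ↔ k ∈ keepPlus hn) :=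
  OrthClassParity.preserves_mul OmegaStd.nondeg_plus (gen_plus n K hn) (lagr_U0 n K) g k

end Plus

section Minus

variable {F₀ : Type*} [Field F₀] [Fintype F₀] {a b : F₀} {n : ℕ}

theorem keep_simHom {K : Type*} [Field K] [Fintype K] {φ : F₀ →+* K} (S : Frame φ a b)
    (hn : 2 ≤ n) {z : Fin 2 → F₀} (hz : bval a b z ≠ 0)
    {vs : List ((Fin n ⊕ Fin n) ⊕ Fin 2 → F₀)} (hvs : NS (QuadClassify.qMinus n F₀ a b) vs) :
    S.simHom n (binSim n z hz * ofOrth (rprod _ vs)) ∈ keepPlus (show 3 ≤ n + 1 by omega)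
      ↔ Even vs.length := by
  rw [map_mul, keep_mul, iff_true_left (keep_diagonal _ (S.simHom_binSim n z hz)),
    S.simHom_rprod n hvs, keep_ofOrth _ (S.vec_ns n hvs), List.length_map]

variable {F : Type*} [Field F] [Fintype F] {φ : F₀ →+* F} (S : Frame φ a b)

theorem preserves_minus_map {K : Type*} [Field K] [Fintype K] {ψ : F₀ →+* K} (T : Frame ψ a b)
    (hn : 2 ≤ n) (g : Sim (QuadClassify.qMinus n F₀ a b)) :
    PreservesSingularClasses (quadFormMinus n K (ψ a) (ψ b))
        ((g : GL ((Fin n ⊕ Fin n) ⊕ Fin 2) F₀).1.map ψ)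
      ↔ T.simHom n g ∈ keepPlus (show 3 ≤ n + 1 by omega) := by
  rw [mem_keepPlus, ← QuadClassify.qPlus_coe, ← QuadClassify.qMinus_coe]
  refine (preserves_conj (T.L n) (T.L_form n) fun v => ?_).symm
  rw [T.simHom_coe, T.theta_mulVec]

/-- Keeping the classes of the minus form is read off in any field where it splits. -/
theorem preservesMinus_iff.{u} {F₀ : Type u} [Field F₀] [Fintype F₀] {a b : F₀} (hab : IsAniso a b)
    {F : Type*} [Field F] [Fintype F] {φ : F₀ →+* F} (S : Frame φ a b) {n : ℕ}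
    (hn : 2 ≤ n) (g : Sim (QuadClassify.qMinus n F₀ a b)) :
    PreservesSingularClassesMinus n a b (g : GL ((Fin n ⊕ Fin n) ⊕ Fin 2) F₀).1
      ↔ S.simHom n g ∈ keepPlus (show 3 ≤ n + 1 by omega) := by
  obtain ⟨z, hz, vs, hvs, rfl⟩ := exists_binSim_mul hn hab g
  rw [keep_simHom S hn hz hvs]
  constructor
  · rintro ⟨K, _, _, hK, hp⟩
    haveI : FiniteDimensional F₀ K := Module.finite_of_finrank_eq_succ hK
    haveI : Finite K := Module.finite_of_finite F₀
    letI := Fintype.ofFinite K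
    obtain ⟨T⟩ := exists_frame hK hab
    rwa [preserves_minus_map T hn, keep_simHom T hn hz hvs] at hp
  · intro he
    obtain ⟨K, _, _, hK⟩ := exists_extension hab
    haveI : FiniteDimensional F₀ K := Module.finite_of_finrank_eq_succ hK
    haveI : Finite K := Module.finite_of_finite F₀
    letI := Fintype.ofFinite K
    obtain ⟨T⟩ := exists_frame hK hab
    refine ⟨K, _, _, hK, ?_⟩
    rwa [preserves_minus_map T hn, keep_simHom T hn hz hvs]

end Minus

end Cfsg.Agent.OrthMinusKeep
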