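import Mathlib
import Cfsg.Agent.Lib.SLMinDegree32Spec

/-!
Linear algebra and arithmetic used for the odd dimensional orthogonal minimal degree.
-/

set_option autoImplicit false

namespace Cfsg.Agent.OrthOddMinDegree32Tools

open Cfsg.Agent.SUMinDegree32Eigen
open Cfsg.Agent.SLMinDegree32Spec

variable {A : Type*} [AddCommGroup A] [Fintype A] {V : Type*} [AddCommGroup V] [Module ℂ V]

/-- Averaging by conjugation with an abelian group keeps the diagonal blocks. -/
theorem sum_conj {D : A → Module.End ℂ V} (hadd : ∀ a b, D (a + b) = D a * D b) (h0 : D 0 = 1)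
    (Y : Module.End ℂ V) :
    ∑ a, D a * Y * D (-a) = (Fintype.card A : ℂ) • ∑ ψ : AddChar A ℂ, P D ψ * Y * P D ψ := by
  classical
  have hD : ∀ a, D a = ∑ ψ : AddChar A ℂ, ψ a • P D ψ := fun a => by
    conv_lhs => rw [← mul_one (D a), ← sum_P h0, Finset.mul_sum]
    simp only [D_mul_P hadd]
  calc ∑ a, D a * Y * D (-a)
      = ∑ a, ∑ ψ : AddChar A ℂ, ∑ φ : AddChar A ℂ, (ψ a * φ (-a)) • (P D ψ * Y * P D φ) := by
        refine Finset.sum_congr rfl fun a _ => ?_
        rw [hD a, hD (-a)]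
        simp only [Finset.sum_mul, smul_mul_assoc]
        refine Finset.sum_congr rfl fun ψ _ => ?_
        rw [Finset.mul_sum, Finset.smul_sum]
        exact Finset.sum_congr rfl fun φ _ => by rw [mul_smul_comm, smul_smul]
    _ = ∑ ψ : AddChar A ℂ, ∑ φ : AddChar A ℂ, (∑ a, ψ a * φ (-a)) • (P D ψ * Y * P D φ) := by
        rw [Finset.sum_comm]
        refine Finset.sum_congr rfl fun ψ _ => ?_
        rw [Finset.sum_comm]
        simp only [Finset.sum_smul]
    _ = _ := by
        rw [Finset.smul_sum]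
        refine Finset.sum_congr rfl fun ψ _ => ?_
        have e : ∀ φ : AddChar A ℂ, (∑ a, ψ a * φ (-a)) =
            if ψ = φ then (Fintype.card A : ℂ) else 0 := by
          intro φ
          have := AddChar.sum_eq_ite (ψ - φ)
          simp only [sub_eq_zero] at this
          rw [← this]
          refine Finset.sum_congr rfl fun a _ => ?_
          rw [AddChar.sub_apply]
        simp only [e, ite_smul, zero_smul, Finset.sum_ite_eq, Finset.mem_univ, if_true]

variable [FiniteDimensional ℂ V]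

/-- Compressing to a line. -/
theorem mid_eq {p : Module.End ℂ V} {U : Submodule ℂ V} (hp : LinearMap.IsProj U p)
    (h1 : Module.finrank ℂ U = 1) (Y : Module.End ℂ V) :
    p * Y * p = LinearMap.trace ℂ V (p * Y) • p := by
  obtain ⟨w, -, hw⟩ := finrank_eq_one_iff'.1 h1
  obtain ⟨μ, hμ⟩ := hw ⟨p (Y w), hp.map_mem _⟩
  have hμ' : μ • (w : V) = p (Y w) := congrArg Subtype.val hμ
  have e : p * Y * p = μ • p := LinearMap.ext fun x => by
    obtain ⟨l, hl⟩ := hw ⟨p x, hp.map_mem x⟩
    have hl' : l • (w : V) = p x := congrArg Subtype.val hl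
    show p (Y (p x)) = μ • p x
    rw [← hl', map_smul, map_smul, ← hμ', smul_comm]
  have hpp : p * p = p := LinearMap.ext fun x => hp.map_id _ (hp.map_mem x)
  have ht := congrArg (LinearMap.trace ℂ V) e
  rw [LinearMap.trace_mul_comm, ← mul_assoc, hpp, map_smul, hp.trace, h1, Nat.cast_one,
    smul_eq_mul, mul_one] at ht
  rw [e, ht]

theorem isProj_range {p : Module.End ℂ V} (hp : p * p = p) :
    LinearMap.IsProj (LinearMap.range p) p :=
  ⟨fun x => LinearMap.mem_range_self p x, fun x hx => by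
    obtain ⟨y, rfl⟩ := hx
    exact congrArg (fun T : Module.End ℂ V => T y) hp⟩

theorem exists_trace_nat {p : Module.End ℂ V} (hp : p * p = p) :
    ∃ n : ℕ, LinearMap.trace ℂ V p = (n : ℂ) :=
  ⟨_, (isProj_range hp).trace⟩

/-- A square root of a multiple of an idempotent has a trace with square `z j²`. -/
theorem exists_trace_sq {B A : Module.End ℂ V} {z : ℂ} {f : ℕ} (hB : B * B = B)
    (hf : LinearMap.trace ℂ V B = (f : ℂ)) (h1 : B * A = A) (h2 : A * B = A)
    (h3 : A * A = z • B) (hz : z ≠ 0) :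
    ∃ j : ℤ, (LinearMap.trace ℂ V A) ^ 2 = z * (j : ℂ) ^ 2 := by
  obtain ⟨r, hr⟩ := IsAlgClosed.exists_eq_mul_self z
  have hr0 : r ≠ 0 := fun h => hz (by rw [hr, h, mul_zero])
  set C := r⁻¹ • A with hC
  have hCC : C * C = B := by
    rw [hC, smul_mul_assoc, mul_smul_comm, smul_smul, h3, smul_smul, hr]
    field_simp
    exact one_smul ℂ B
  have hBC : B * C = C := by rw [hC, mul_smul_comm, h1]
  have hCB : C * B = C := by rw [hC, smul_mul_assoc, h2]
  have he : ((2 : ℂ)⁻¹ • (B + C)) * ((2 : ℂ)⁻¹ • (B + C)) = (2 : ℂ)⁻¹ • (B + C) := by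
    rw [smul_mul_assoc, mul_smul_comm, smul_smul, mul_add, add_mul, add_mul, hB, hCC, hBC, hCB]
    match_scalars <;> ring
  obtain ⟨n, hn⟩ := exists_trace_nat he
  rw [map_smul, map_add, hf, hC, map_smul, smul_eq_mul, smul_eq_mul] at hn
  refine ⟨2 * n - f, ?_⟩
  have e : LinearMap.trace ℂ V A = r * (2 * (n : ℂ) - f) := by
    field_simp at hn
    linear_combination hn
  rw [e, hr]
  push_cast
  ring

/-! ### Arithmetic -/

/-- No square of the shape `q^n (q^n ± (q² - 1))`. -/
theorem no_square {q : ℤ} {n : ℕ} {m ε : ℤ} (hε : ε = 1 ∨ ε = -1) (hq : 3 ≤ q) (hodd : Odd q)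
    (hn : 3 ≤ n) : q ^ n * (q ^ n + ε * (q ^ 2 - 1)) ≠ m ^ 2 := by
  intro h
  have hεε : ε * ε = 1 := by rcases hε with rfl | rfl <;> norm_num
  have hpow : q ^ 3 ≤ q ^ n := pow_le_pow_right₀ (by omega) hn
  have hq2 : q ^ 2 * 3 ≤ q ^ 3 := by nlinarith
  have hX : 0 < q ^ n + ε * (q ^ 2 - 1) := by
    rcases hε with rfl | rfl <;> nlinarith
  have hcop : IsCoprime q (q ^ n + ε * (q ^ 2 - 1)) := by
    refine ⟨ε * (q ^ (n - 1) + ε * q), -ε, ?_⟩
    have e : q ^ n = q ^ (n - 1) * q := by rw [← pow_succ, Nat.sub_add_cancel (by omega)]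
    rw [e]
    linear_combination (1 : ℤ) * hεε
  obtain ⟨s, hs⟩ := Int.sq_of_isCoprime (IsCoprime.pow_left (m := n) hcop) h
  obtain ⟨t, ht⟩ := Int.sq_of_isCoprime (IsCoprime.pow_left (m := n) hcop).symm
    ((mul_comm _ _).trans h)
  replace hs : q ^ n = |s| ^ 2 := by
    rw [sq_abs]
    rcases hs with hs | hs
    · exact hs
    · nlinarith [sq_nonneg s]
  replace ht : q ^ n + ε * (q ^ 2 - 1) = |t| ^ 2 := by
    rw [sq_abs]
    rcases ht with ht | ht
    · exact ht
    · nlinarith [sq_nonneg t]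
  have hs0 := abs_nonneg s
  have ht0 := abs_nonneg t
  generalize |s| = S at hs hs0
  generalize |t| = T at ht ht0
  rcases Nat.lt_or_ge n 4 with h4 | h4
  · obtain rfl : n = 3 := by omega
    obtain ⟨v, rfl⟩ : q ∣ S := by
      rw [← Int.pow_dvd_pow_iff (n := 2) (by norm_num)]
      exact ⟨q, by rw [← hs]; ring⟩
    have hv : q = v ^ 2 := mul_left_cancel₀ (pow_ne_zero 2 (show q ≠ 0 by omega))
      (by linear_combination hs)
    have hv0 : 0 ≤ v := nonneg_of_mul_nonneg_right hs0 (by omega)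
    obtain ⟨r, rfl⟩ : Odd v := by
      rw [hv, Int.odd_pow' (by norm_num)] at hodd
      exact hodd
    have hr : 1 ≤ r := by
      by_contra hr
      obtain rfl : r = 0 := by omega
      omega
    subst hv
    set V := 2 * r + 1 with hV
    have hV3 : 3 ≤ V := by omega
    have hrV : (r + 1) ^ 2 < V ^ 3 - 1 := by nlinarith [mul_le_mul hV3 hV3 (by norm_num) (by omega)]
    rcases hε with rfl | rfl
    · have h1 : (V ^ 3 + r) ^ 2 < T ^ 2 := by rw [← ht, hV]; nlinarith
      have h2 : T ^ 2 < (V ^ 3 + r + 1) ^ 2 := by rw [← ht, hV]; nlinarith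
      have := lt_of_pow_lt_pow_left₀ 2 ht0 h1
      have := lt_of_pow_lt_pow_left₀ 2 (by nlinarith) h2
      omega
    · have h1 : (V ^ 3 - r - 1) ^ 2 < T ^ 2 := by rw [← ht, hV]; nlinarith
      have h2 : T ^ 2 < (V ^ 3 - r) ^ 2 := by rw [← ht, hV]; nlinarith
      have := lt_of_pow_lt_pow_left₀ 2 ht0 h1
      have := lt_of_pow_lt_pow_left₀ 2 (by nlinarith) h2
      omega
  · have hpow4 : q ^ 4 ≤ q ^ n := pow_le_pow_right₀ (by omega) h4
    have hS : q ^ 2 ≤ S := by
      refine le_of_pow_le_pow_left₀ two_ne_zero hs0 ?_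
      rw [← hs]
      linarith [show (q ^ 2) ^ 2 = q ^ 4 by ring]
    rcases lt_trichotomy S T with hlt | heq | hgt
    · have := pow_le_pow_left₀ (by omega) (show S + 1 ≤ T by omega) 2
      rcases hε with rfl | rfl <;> nlinarith
    · subst heq
      rcases hε with rfl | rfl <;> nlinarith
    · have := pow_le_pow_left₀ ht0 (show T ≤ S - 1 by omega) 2
      rcases hε with rfl | rfl <;> nlinarith

end Cfsg.Agent.OrthOddMinDegree32Tools
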