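import Mathlib
import Cfsg.Agent.Lib.OrthMinDegree32
import Cfsg.Agent.Lib.OrthOddMinDegree32Tools

/-!
Representations of `sGroup (hypExt (hypExt R))` in which the radical has a single orbit of
one-dimensional eigenspaces at singular vectors: the relations between an invariant part of the
fixed space and its opposite.
-/

set_option autoImplicit false
set_option maxHeartbeats 1000000

namespace Cfsg.Agent.OrthOddMinDegree32Core

open QuadraticMap
open Cfsg.Agent.OrthUnitaryQuad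
open Cfsg.Agent.OrthUnitaryRefl
open Cfsg.Agent.OrthUnitaryOmega
open Cfsg.Agent.OrthUnitarySimple
open Cfsg.Agent.OrthUnitaryStd
open Cfsg.Agent.OrthMinDegree32Geom
open Cfsg.Agent.OrthMinDegree32Count
open Cfsg.Agent.OrthMinDegree32
open Cfsg.Agent.SUMinDegree32Eigen
open Cfsg.Agent.SLMinDegree32Spec
open Cfsg.Agent.SLMinDegree32 (phi0)
open Cfsg.Agent.OrthOddMinDegree32Tools

variable {F Z : Type*} [Field F] [Fintype F] [AddCommGroup Z] [Module F Z] [Fintype Z]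
  [FiniteDimensional F Z] {R : QuadraticForm F Z} (hR : (polarBilin R).Nondegenerate)
  (h2 : 2 ≤ Module.finrank F Z)

/-! ### Elements of the group -/

include hR h2

/-- The opposite radical. -/
noncomputable def sE (a : (F × F) × Z) : sGroup (hypExt (hypExt R)) :=
  ⟨sS (hypExt R) a, sS_mem (nondeg' hR h2) (three_le hR h2) a⟩

/-- The swapping element in the group. -/
noncomputable def kE (w : (F × F) × Z) : sGroup (hypExt (hypExt R)) :=
  ⟨kW (hypExt R) w, HS_le (nondeg' hR h2) (three_le hR h2) (by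
    rw [kW]
    exact Subgroup.mul_mem _ (Subgroup.mul_mem _ (rS_mem_HS _) (sS_mem_HS _)) (rS_mem_HS _))⟩

theorem sE_add (a b : (F × F) × Z) : sE hR h2 (a + b) = sE hR h2 a * sE hR h2 b := by
  apply Subtype.ext
  show sS (hypExt R) (a + b) = sS (hypExt R) a * sS (hypExt R) b
  rw [sS, sS, sS, siegel_mul]
  exact siegel_congr _ _ (by simp)

theorem sE_zero : sE hR h2 0 = 1 := by
  have h := sE_add hR h2 0 0
  rw [add_zero] at h
  exact mul_eq_left.1 h.symm

theorem sE_neg (a : (F × F) × Z) : sE hR h2 (-a) = (sE hR h2 a)⁻¹ := by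
  rw [eq_inv_iff_mul_eq_one, ← sE_add, neg_add_cancel, sE_zero]

theorem kE_sq {w : (F × F) × Z} (hw : hypExt R w ≠ 0) : kE hR h2 w * kE hR h2 w = 1 := by
  apply Subtype.ext
  apply orth_ext
  rintro ⟨⟨x, y⟩, m⟩
  show (kW (hypExt R) w * kW (hypExt R) w).1 ((x, y), m) = ((x, y), m)
  rw [orth_mul_apply, kW_apply hw, kW_apply hw]
  refine Prod.ext (Prod.ext ?_ ?_) (reflMap_involutive hw m) <;> field_simp

theorem kE_inv {w : (F × F) × Z} (hw : hypExt R w ≠ 0) : (kE hR h2 w)⁻¹ = kE hR h2 w :=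
  inv_eq_of_mul_eq_one_left (kE_sq hR h2 hw)

theorem kE_r {w : (F × F) × Z} (hw : hypExt R w ≠ 0) (z : (F × F) × Z) :
    kE hR h2 w * r hR h2 z =
      sE hR h2 ((-(hypExt R w)⁻¹) • (refl (hypExt R) w hw).1 z) * kE hR h2 w :=
  Subtype.ext (mul_inv_eq_iff_eq_mul.1 (kW_conj_rS hw z))

theorem refl_self {w : (F × F) × Z} (hw : hypExt R w ≠ 0) :
    (refl (hypExt R) w hw).1 w = -w := by
  rw [refl_apply, polar_self_mul, show (hypExt R w)⁻¹ * (2 * hypExt R w) = 2 by field_simp]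
  module

/-- A root element of the radical at a non-singular vector through the swapping element. -/
theorem r_eq {w : (F × F) × Z} (hw : hypExt R w ≠ 0) :
    r hR h2 w = sE hR h2 (-((hypExt R w)⁻¹ • w)) * kE hR h2 w *
      sE hR h2 (-((hypExt R w)⁻¹ • w)) := by
  set u := (hypExt R w)⁻¹ • w with hu
  have e1 : kE hR h2 w = r hR h2 w * sE hR h2 u * r hR h2 w := Subtype.ext rfl
  have e2 : kE hR h2 w * r hR h2 w = sE hR h2 u * kE hR h2 w := by
    rw [kE_r hR h2 hw w, refl_self hR h2 hw, smul_neg, neg_smul, neg_neg, hu]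
  have e3 : kE hR h2 w = sE hR h2 u * r hR h2 w * sE hR h2 u := by
    calc kE hR h2 w = sE hR h2 u * kE hR h2 w * (r hR h2 w)⁻¹ := by
          rw [← e2, mul_inv_cancel_right]
      _ = _ := by rw [e1]; group
  rw [sE_neg, e3]
  group

theorem lift_sE {g : orth (hypExt R)}
    (hg : hypLift (hypExt R) g ∈ sGroup (hypExt (hypExt R))) (a : (F × F) × Z) :
    (⟨_, hg⟩ : sGroup (hypExt (hypExt R))) * sE hR h2 a =
      sE hR h2 (g.1 a) * (⟨_, hg⟩ : sGroup (hypExt (hypExt R))) := by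
  apply Subtype.ext
  apply orth_ext
  rintro ⟨⟨x, y⟩, z⟩
  show (hypLift (hypExt R) g * sS (hypExt R) a).1 ((x, y), z) =
    (sS (hypExt R) (g.1 a) * hypLift (hypExt R) g).1 ((x, y), z)
  rw [orth_mul_apply, orth_mul_apply, sS_apply]
  show ((x, _), g.1 (z + x • a)) = (sS (hypExt R) (g.1 a)).1 ((x, y), g.1 z)
  rw [sS_apply, map_add, map_smul, polar_orth g, map_orth g]

theorem kE_lift {w : (F × F) × Z} (hw : hypExt R w ≠ 0) {g : orth (hypExt R)}
    (hg : hypLift (hypExt R) g ∈ sGroup (hypExt (hypExt R))) :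
    ∃ (g' : orth (hypExt R)) (hg' : hypLift (hypExt R) g' ∈ sGroup (hypExt (hypExt R))),
      kE hR h2 w * (⟨_, hg⟩ : sGroup (hypExt (hypExt R))) =
        (⟨_, hg'⟩ : sGroup (hypExt (hypExt R))) * kE hR h2 w := by
  refine ⟨refl (hypExt R) w hw * g * (refl (hypExt R) w hw)⁻¹, ?_,
    Subtype.ext (mul_inv_eq_iff_eq_mul.1 (kW_conj_hypLift hw g))⟩
  rw [← kW_conj_hypLift hw g]
  exact Subgroup.mul_mem _ (Subgroup.mul_mem _ (kE hR h2 w).2 hg)
    (Subgroup.inv_mem _ (kE hR h2 w).2)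

/-- The stabiliser of the second vector of the pair. -/
theorem eq_sE_mul_lift {h : sGroup (hypExt (hypExt R))}
    (hh : h.1.1 ((0, 1), 0) = ((0, 1), 0)) :
    ∃ (m : (F × F) × Z) (g : orth (hypExt R))
      (hg : hypLift (hypExt R) g ∈ sGroup (hypExt (hypExt R))),
      h = sE hR h2 m * (⟨_, hg⟩ : sGroup (hypExt (hypExt R))) := by
  set e : (F × F) × (F × F) × Z := ((1, 0), 0) with he
  set f : (F × F) × (F × F) × Z := ((0, 1), 0) with hf
  obtain ⟨⟨⟨x, y⟩, m⟩, hx⟩ : ∃ v, h.1.1 e = v := ⟨_, rfl⟩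
  have h1 := polar_orth h.1 e f
  rw [hh, hx, he, hf] at h1
  obtain rfl : x = 1 := by simpa [polar_hypExt] using h1
  have h3 : hypExt (hypExt R) ((1, y), m) = 0 := by
    rw [← hx, map_orth, he]
    simp [hypExt_apply]
  rw [hypExt_apply, one_mul] at h3
  obtain rfl : y = -hypExt R m := by
    linear_combination h3
  set k : sGroup (hypExt (hypExt R)) := (sE hR h2 m)⁻¹ * h with hk
  have hinv : ∀ v, (sS (hypExt R) m).1.symm ((sS (hypExt R) m).1 v) = v := fun v =>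
    (sS (hypExt R) m).1.symm_apply_apply v
  have ke : k.1.1 e = e := by
    show (sS (hypExt R) m).1.symm (h.1.1 e) = e
    rw [hx, LinearEquiv.symm_apply_eq, he, sS_apply]
    simp
  have kf : k.1.1 f = f := by
    show (sS (hypExt R) m).1.symm (h.1.1 f) = f
    rw [hh, LinearEquiv.symm_apply_eq, hf, sS_apply]
    simp
  have hblock : ∀ v : (F × F) × Z, k.1.1 ((0, 0), v) = ((0, 0), (k.1.1 ((0, 0), v)).2) := by
    intro v
    have p1 := polar_orth k.1 ((0, 0), v) e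
    have p2 := polar_orth k.1 ((0, 0), v) f
    rw [ke] at p1
    rw [kf] at p2
    generalize k.1.1 ((0, 0), v) = z at p1 p2
    obtain ⟨⟨c', d'⟩, y'⟩ := z
    simp [he, hf, polar_hypExt] at p1 p2
    simp [p1, p2]
  let L : ((F × F) × Z) →ₗ[F] ((F × F) × Z) :=
    LinearMap.snd F (F × F) _ ∘ₗ k.1.1.toLinearMap ∘ₗ LinearMap.inr F (F × F) _
  have hL : Function.Injective L := fun v v' hvv => by
    have : k.1.1 ((0, 0), v) = k.1.1 ((0, 0), v') := by
      rw [hblock v, hblock v']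
      exact congrArg (Prod.mk ((0 : F), (0 : F))) hvv
    exact congrArg Prod.snd (k.1.1.injective this)
  let g : orth (hypExt R) := ⟨LinearEquiv.ofBijective L
      ⟨hL, LinearMap.injective_iff_surjective.1 hL⟩, fun v => by
    show hypExt R (k.1.1 (((0 : F), (0 : F)), v)).2 = hypExt R v
    have h := map_orth k.1 ((0, 0), v)
    have h0 : ∀ u : (F × F) × Z, hypExt (hypExt R) ((0, 0), u) = hypExt R u := fun u => by
      rw [hypExt_apply, mul_zero, zero_add]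
    rw [hblock v, h0, h0] at h
    exact h⟩
  have hkg : k.1 = hypLift (hypExt R) g := by
    apply orth_ext
    rintro ⟨⟨a, b⟩, v⟩
    have hsplit : ((a, b), v) = a • e + b • f + (((0, 0), v) : (F × F) × (F × F) × Z) := by
      simp [he, hf]
    show _ = ((a, b), (k.1.1 (((0 : F), (0 : F)), v)).2)
    rw [hsplit, map_add, map_add, map_smul, map_smul, ke, kf, hblock v]
    simp [he, hf]
  refine ⟨m, g, hkg ▸ k.2, ?_⟩
  rw [show (⟨hypLift (hypExt R) g, hkg ▸ k.2⟩ : sGroup (hypExt (hypExt R))) = k from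
    Subtype.ext hkg.symm, hk, mul_inv_cancel_left]

/-! ### Invariant parts of the fixed space -/

variable {X : Type} [AddCommGroup X] [Module ℂ X] (ρ : Representation ℂ (sGroup (hypExt (hypExt R))) X)

/-- The projection on the fixed space of the radical. -/
noncomputable def E0 : Module.End ℂ X := P (D hR h2 ρ) 0

/-- The operator of the standard swapping element. -/
noncomputable def K0 : Module.End ℂ X := ρ (kE hR h2 ((1, 1), 0))

/-- The opposite of an operator. -/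
noncomputable def bar (E' : Module.End ℂ X) : Module.End ℂ X :=
  K0 hR h2 ρ * E' * K0 hR h2 ρ

omit hR h2 [Fintype F] [Fintype Z] [FiniteDimensional F Z] in
theorem w0_ne : hypExt R ((1, 1), 0) ≠ 0 := by simp [hypExt_apply]

theorem E0_commute {x : sGroup (hypExt (hypExt R))} (θ : ((F × F) × Z) ≃+ ((F × F) × Z))
    (h : ∀ a, x * r hR h2 a = r hR h2 (θ a) * x) : Commute (ρ x) (E0 hR h2 ρ) := by
  have e := comm_P (D := D hR h2 ρ) (G := ρ x) θ (fun a => by
    rw [D, D, ← map_mul, ← map_mul, h]) 0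
  rwa [show (0 : AddChar ((F × F) × Z) ℂ).compAddMonoidHom θ.symm.toAddMonoidHom = 0 from
    by ext a; simp] at e

theorem E0_lift {g : orth (hypExt R)}
    (hg : hypLift (hypExt R) g ∈ sGroup (hypExt (hypExt R))) :
    Commute (ρ ⟨_, hg⟩) (E0 hR h2 ρ) :=
  E0_commute hR h2 ρ g.1.toAddEquiv fun a => lift_r hR h2 hg a

theorem E0_kk {w w' : (F × F) × Z} (hw : hypExt R w ≠ 0) (hw' : hypExt R w' ≠ 0) :
    Commute (ρ (kE hR h2 w * kE hR h2 w')) (E0 hR h2 ρ) :=
  E0_commute hR h2 ρ ((refl (hypExt R) w hw * refl (hypExt R) w' hw').1.trans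
    (LinearEquiv.smulOfNeZero F _ _ (div_ne_zero hw hw'))).toAddEquiv fun a =>
      Subtype.ext (mul_inv_eq_iff_eq_mul.1 (kW_mul_conj_rS hw hw' a))

theorem D_E0 (a : (F × F) × Z) : D hR h2 ρ a * E0 hR h2 ρ = E0 hR h2 ρ := by
  rw [E0, D_mul_P (D_add hR h2 ρ), AddChar.zero_apply, one_smul]

theorem E0_D (a : (F × F) × Z) : E0 hR h2 ρ * D hR h2 ρ a = E0 hR h2 ρ := by
  show E0 hR h2 ρ * ρ (r hR h2 a) = _
  rw [← (E0_commute hR h2 ρ (x := r hR h2 a) (AddEquiv.refl _) fun b => by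
    rw [AddEquiv.refl_apply, ← r_add, ← r_add, add_comm]).eq]
  exact D_E0 hR h2 ρ a

/-- An idempotent below `E0` commuting with the Levi complement. -/
structure Sub (E' : Module.End ℂ X) : Prop where
  idem : E' * E' = E'
  left : E0 hR h2 ρ * E' = E'
  right : E' * E0 hR h2 ρ = E'
  lift : ∀ (g : orth (hypExt R)) (hg : hypLift (hypExt R) g ∈ sGroup (hypExt (hypExt R))),
    Commute (ρ ⟨_, hg⟩) E'
  kk : ∀ w w', hypExt R w ≠ 0 → hypExt R w' ≠ 0 → Commute (ρ (kE hR h2 w * kE hR h2 w')) E'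
  cross : E0 hR h2 ρ * bar hR h2 ρ E' = E' * bar hR h2 ρ E'

variable {hR h2 ρ} {E' : Module.End ℂ X} (hS : Sub hR h2 ρ E')

theorem K_sq {w : (F × F) × Z} (hw : hypExt R w ≠ 0) :
    ρ (kE hR h2 w) * ρ (kE hR h2 w) = 1 := by
  rw [← map_mul, kE_sq hR h2 hw, map_one]

include hS

theorem bar_eq {w : (F × F) × Z} (hw : hypExt R w ≠ 0) :
    ρ (kE hR h2 w) * E' * ρ (kE hR h2 w) = bar hR h2 ρ E' := by
  have hk := (hS.kk w _ hw w0_ne).eq
  rw [map_mul] at hk
  calc ρ (kE hR h2 w) * E' * ρ (kE hR h2 w)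
      = ρ (kE hR h2 w) * (E' * (ρ (kE hR h2 w) * K0 hR h2 ρ)) * K0 hR h2 ρ := by
        rw [show K0 hR h2 ρ = ρ (kE hR h2 ((1, 1), 0)) from rfl]
        simp only [mul_assoc, K_sq (hR := hR) (h2 := h2) w0_ne, mul_one]
    _ = ρ (kE hR h2 w) * ρ (kE hR h2 w) * K0 hR h2 ρ * E' * K0 hR h2 ρ := by
        rw [K0, ← hk]
        simp only [mul_assoc]
    _ = _ := by rw [K_sq hw, one_mul, bar]

theorem bar_idem : bar hR h2 ρ E' * bar hR h2 ρ E' = bar hR h2 ρ E' := by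
  rw [bar, K0]
  calc ρ (kE hR h2 ((1, 1), 0)) * E' * ρ (kE hR h2 ((1, 1), 0)) *
        (ρ (kE hR h2 ((1, 1), 0)) * E' * ρ (kE hR h2 ((1, 1), 0)))
      = ρ (kE hR h2 ((1, 1), 0)) * E' * (ρ (kE hR h2 ((1, 1), 0)) * ρ (kE hR h2 ((1, 1), 0)))
          * E' * ρ (kE hR h2 ((1, 1), 0)) := by simp only [mul_assoc]
    _ = _ := by rw [K_sq w0_ne, mul_one, mul_assoc (ρ (kE hR h2 ((1, 1), 0))) E' E', hS.idem]

theorem K_bar_K {w : (F × F) × Z} (hw : hypExt R w ≠ 0) :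
    ρ (kE hR h2 w) * bar hR h2 ρ E' * ρ (kE hR h2 w) = E' := by
  rw [← bar_eq hS hw]
  calc ρ (kE hR h2 w) * (ρ (kE hR h2 w) * E' * ρ (kE hR h2 w)) * ρ (kE hR h2 w)
      = ρ (kE hR h2 w) * ρ (kE hR h2 w) * E' * (ρ (kE hR h2 w) * ρ (kE hR h2 w)) := by
        simp only [mul_assoc]
    _ = _ := by rw [K_sq hw, one_mul, mul_one]

theorem D_E' (a : (F × F) × Z) : D hR h2 ρ a * E' = E' := by
  conv_lhs => rw [← hS.left, ← mul_assoc, D_E0 hR h2 ρ, hS.left]

theorem E'_D (a : (F × F) × Z) : E' * D hR h2 ρ a = E' := by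
  conv_lhs => rw [← hS.right, mul_assoc, E0_D hR h2 ρ, hS.right]

theorem sE_bar (a : (F × F) × Z) :
    ρ (sE hR h2 a) * bar hR h2 ρ E' = bar hR h2 ρ E' ∧
      bar hR h2 ρ E' * ρ (sE hR h2 a) = bar hR h2 ρ E' := by
  set w : (F × F) × Z := ((1, 1), 0) with hw0
  have hw : hypExt R w ≠ 0 := w0_ne
  obtain ⟨b, hb⟩ : ∃ b, kE hR h2 w * r hR h2 b = sE hR h2 a * kE hR h2 w := by
    refine ⟨(refl (hypExt R) w hw).1 ((-hypExt R w) • a), ?_⟩
    rw [kE_r hR h2 hw, show (refl (hypExt R) w hw).1 ((refl (hypExt R) w hw).1 _) = _ from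
      reflMap_involutive hw _, smul_smul, neg_mul_neg, inv_mul_cancel₀ hw, one_smul]
  have h1 : ρ (sE hR h2 a) * ρ (kE hR h2 w) = ρ (kE hR h2 w) * D hR h2 ρ b := by
    rw [D, ← map_mul, ← hb, map_mul]
  have h1' : ρ (kE hR h2 w) * ρ (sE hR h2 a) = D hR h2 ρ b * ρ (kE hR h2 w) := by
    have e : kE hR h2 w * sE hR h2 a = r hR h2 b * kE hR h2 w := by
      calc kE hR h2 w * sE hR h2 a
          = kE hR h2 w * (sE hR h2 a * kE hR h2 w) * kE hR h2 w := by
            simp only [mul_assoc, kE_sq hR h2 hw, mul_one]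
        _ = kE hR h2 w * kE hR h2 w * r hR h2 b * kE hR h2 w := by
            rw [← hb]; simp only [mul_assoc]
        _ = _ := by rw [kE_sq hR h2 hw, one_mul]
    rw [D, ← map_mul, e, map_mul]
  constructor
  · rw [← bar_eq hS hw, ← mul_assoc, ← mul_assoc, h1, mul_assoc (ρ (kE hR h2 w)), D_E' hS]
  · rw [← bar_eq hS hw, mul_assoc, h1', ← mul_assoc, mul_assoc (ρ (kE hR h2 w)) E' (D hR h2 ρ b),
      E'_D hS]

theorem bar_lift (g : orth (hypExt R))
    (hg : hypLift (hypExt R) g ∈ sGroup (hypExt (hypExt R))) :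
    Commute (ρ ⟨_, hg⟩) (bar hR h2 ρ E') := by
  obtain ⟨g', hg', e⟩ := kE_lift hR h2 (w := ((1, 1), 0)) w0_ne hg
  have e' : (⟨_, hg⟩ : sGroup (hypExt (hypExt R))) * kE hR h2 ((1, 1), 0) =
      kE hR h2 ((1, 1), 0) * (⟨_, hg'⟩ : sGroup (hypExt (hypExt R))) := by
    calc _ = kE hR h2 ((1, 1), 0) * (kE hR h2 ((1, 1), 0) * ⟨_, hg⟩) * kE hR h2 ((1, 1), 0) := by
          rw [← mul_assoc, kE_sq hR h2 w0_ne, one_mul]
      _ = _ := by rw [e, mul_assoc, mul_assoc, kE_sq hR h2 w0_ne, mul_one]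
  have e1 := congrArg ρ e
  have e2 := congrArg ρ e'
  rw [map_mul, map_mul] at e1 e2
  show _ * bar hR h2 ρ E' = bar hR h2 ρ E' * _
  rw [bar, K0, ← mul_assoc, ← mul_assoc, e2, mul_assoc (ρ (kE hR h2 _)), (hS.lift g' hg').eq,
    ← mul_assoc, mul_assoc, ← e1, ← mul_assoc]

theorem bar_kk (w w' : (F × F) × Z) (hw : hypExt R w ≠ 0) (hw' : hypExt R w' ≠ 0) :
    Commute (ρ (kE hR h2 w * kE hR h2 w')) (bar hR h2 ρ E') := by
  show _ = _
  rw [map_mul]
  calc ρ (kE hR h2 w) * ρ (kE hR h2 w') * bar hR h2 ρ E'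
      = ρ (kE hR h2 w) * E' * ρ (kE hR h2 w') := by
        rw [← bar_eq hS hw', show ρ (kE hR h2 w) * ρ (kE hR h2 w') *
          (ρ (kE hR h2 w') * E' * ρ (kE hR h2 w')) = ρ (kE hR h2 w) *
            (ρ (kE hR h2 w') * ρ (kE hR h2 w')) * E' * ρ (kE hR h2 w') by simp only [mul_assoc],
          K_sq hw', mul_one]
    _ = bar hR h2 ρ E' * (ρ (kE hR h2 w) * ρ (kE hR h2 w')) := by
        rw [← bar_eq hS hw, show ρ (kE hR h2 w) * E' * ρ (kE hR h2 w) *
          (ρ (kE hR h2 w) * ρ (kE hR h2 w')) = ρ (kE hR h2 w) * E' *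
            (ρ (kE hR h2 w) * ρ (kE hR h2 w)) * ρ (kE hR h2 w') by simp only [mul_assoc],
          K_sq hw, mul_one]

variable {z : ℂ} (hz : E' * bar hR h2 ρ E' * E' = z • E')

include hz

theorem bar_E'_bar : bar hR h2 ρ E' * E' * bar hR h2 ρ E' = z • bar hR h2 ρ E' := by
  set w : (F × F) × Z := ((1, 1), 0)
  have hw : hypExt R w ≠ 0 := w0_ne
  calc bar hR h2 ρ E' * E' * bar hR h2 ρ E'
      = ρ (kE hR h2 w) * E' * (ρ (kE hR h2 w) * E' * ρ (kE hR h2 w)) * E' * ρ (kE hR h2 w) := by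
        rw [← bar_eq hS hw]; simp only [mul_assoc]
    _ = ρ (kE hR h2 w) * (E' * bar hR h2 ρ E' * E') * ρ (kE hR h2 w) := by
        rw [bar_eq hS hw]; simp only [mul_assoc]
    _ = z • (ρ (kE hR h2 w) * E' * ρ (kE hR h2 w)) := by
        rw [hz, mul_smul_comm, smul_mul_assoc]
    _ = _ := by rw [bar_eq hS hw]

/-- Compressing a radical element at a non-singular vector. -/
theorem bar_D_bar {a : (F × F) × Z} (ha : hypExt R a ≠ 0) :
    bar hR h2 ρ E' * D hR h2 ρ a * bar hR h2 ρ E' =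
      bar hR h2 ρ E' * ρ (kE hR h2 a) * bar hR h2 ρ E' := by
  obtain ⟨l1, l2⟩ := sE_bar hS (-((hypExt R a)⁻¹ • a))
  rw [D, r_eq hR h2 ha, map_mul, map_mul, ← mul_assoc, ← mul_assoc, l2, mul_assoc, l1]

theorem bar_D_sq {a : (F × F) × Z} (ha : hypExt R a ≠ 0) :
    bar hR h2 ρ E' * D hR h2 ρ a * bar hR h2 ρ E' *
      (bar hR h2 ρ E' * D hR h2 ρ a * bar hR h2 ρ E') = z • bar hR h2 ρ E' := by
  rw [bar_D_bar hS hz ha]
  calc _ = bar hR h2 ρ E' * (ρ (kE hR h2 a) * (bar hR h2 ρ E' * bar hR h2 ρ E') *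
        ρ (kE hR h2 a)) * bar hR h2 ρ E' := by simp only [mul_assoc]
    _ = _ := by rw [bar_idem hS, K_bar_K hS ha, bar_E'_bar hS hz]

end Cfsg.Agent.OrthOddMinDegree32Core
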