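import Mathlib
import Cfsg.Agent.Lib.OrthOddMinDegree32Core

/-!
The scalar by which the fixed space meets its opposite: averaged identities and their consequences.
-/

set_option autoImplicit false
set_option maxHeartbeats 1000000

namespace Cfsg.Agent.OrthOddMinDegree32Sum

open QuadraticMap
open Cfsg.Agent.OrthUnitaryQuad
open Cfsg.Agent.OrthUnitaryRefl
open Cfsg.Agent.OrthUnitarySimple
open Cfsg.Agent.OrthUnitaryStd
open Cfsg.Agent.OrthMinDegree32Geom
open Cfsg.Agent.OrthMinDegree32Count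
open Cfsg.Agent.OrthMinDegree32
open Cfsg.Agent.SUMinDegree32Eigen
open Cfsg.Agent.SLMinDegree32Spec
open Cfsg.Agent.SLMinDegree32 (phi0)
open Cfsg.Agent.OrthOddMinDegree32Tools
open Cfsg.Agent.OrthOddMinDegree32Core

variable {F Z : Type*} [Field F] [Fintype F] [AddCommGroup Z] [Module F Z] [Fintype Z]
  [FiniteDimensional F Z] {R : QuadraticForm F Z} (hR : (polarBilin R).Nondegenerate)
  (h2 : 2 ≤ Module.finrank F Z)

/-! ### The norm classes -/

/-- The nonzero singular vectors. -/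
noncomputable def iso (R : QuadraticForm F Z) : Finset ((F × F) × Z) := by
  classical exact Finset.univ.filter fun c => c ≠ 0 ∧ hypExt R c = 0

/-- The non-singular vectors. -/
noncomputable def ani (R : QuadraticForm F Z) : Finset ((F × F) × Z) := by
  classical exact Finset.univ.filter fun c => hypExt R c ≠ 0

omit [FiniteDimensional F Z] in
theorem mem_iso {c : (F × F) × Z} : c ∈ iso R ↔ c ≠ 0 ∧ hypExt R c = 0 := by
  classical simp [iso]

omit [FiniteDimensional F Z] in
theorem mem_ani {c : (F × F) × Z} : c ∈ ani R ↔ hypExt R c ≠ 0 := by classical simp [ani]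

omit [FiniteDimensional F Z] in
theorem u_mem_iso : ((1, 0), 0) ∈ iso R :=
  mem_iso.2 ⟨by simp [Prod.ext_iff], by simp [hypExt_apply]⟩

omit [FiniteDimensional F Z] in
theorem w_mem_ani : ((1, 1), 0) ∈ ani R := mem_ani.2 (by simp [hypExt_apply])

omit [FiniteDimensional F Z] in
theorem sum_split {β : Type*} [AddCommMonoid β] (φ : (F × F) × Z → β) :
    ∑ c, φ c = φ 0 + ∑ c ∈ iso R, φ c + ∑ c ∈ ani R, φ c := by
  classical
  rw [← Finset.sum_filter_add_sum_filter_not Finset.univ (fun c => hypExt R c = 0) φ]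
  congr 1
  · rw [← Finset.add_sum_erase _ _ (show (0 : (F × F) × Z) ∈ Finset.univ.filter
      (fun c => hypExt R c = 0) by simp)]
    congr 2
    ext c
    simp [mem_iso]

omit [FiniteDimensional F Z] in
theorem card_iso : ((iso R).card : ℂ) = (O R 0 : ℂ) := by
  classical
  rw [O, Nat.card_eq_fintype_card, Fintype.card_subtype]
  congr 2

omit [FiniteDimensional F Z] in
theorem card_ani :
    ((ani R).card : ℂ) = (Fintype.card ((F × F) × Z) : ℂ) - 1 - (O R 0 : ℂ) := by
  have h := sum_split (R := R) (fun _ => (1 : ℂ))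
  simp only [Finset.sum_const, nsmul_one, Finset.card_univ] at h
  rw [h, card_iso]
  ring

/-- The exponential sum over the singular vectors. -/
noncomputable def S (R : QuadraticForm F Z) (a : (F × F) × Z) : ℂ :=
  ∑ c ∈ iso R, chi (hypExt R) c a

omit [FiniteDimensional F Z] in
theorem smul_mem_iso {t : F} (ht : t ≠ 0) {c : (F × F) × Z} (hc : c ∈ iso R) :
    t • c ∈ iso R := by
  obtain ⟨h0, h1⟩ := mem_iso.1 hc
  exact mem_iso.2 ⟨smul_ne_zero ht h0, by rw [QuadraticMap.map_smul, h1, smul_zero]⟩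

omit [FiniteDimensional F Z] in
theorem exists_rat_S (a : (F × F) × Z) : ∃ s : ℚ, S R a = (s : ℂ) := by
  classical
  have hinv : ∀ t : F, t ≠ 0 → S R (t • a) = S R a := fun t ht =>
    Finset.sum_bij' (fun c _ => t • c) (fun c _ => t⁻¹ • c)
      (fun c hc => smul_mem_iso ht hc) (fun c hc => smul_mem_iso (inv_ne_zero ht) hc)
      (fun c _ => inv_smul_smul₀ ht c) (fun c _ => smul_inv_smul₀ ht c)
      (fun c _ => by rw [chi_apply, chi_apply, polar_smul_left, polar_smul_right])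
  set n := ((iso R).filter fun c => polar (hypExt R) c a = 0).card with hn
  have h1 : ∑ t : F, S R (t • a) = (Fintype.card F : ℂ) * n := by
    simp only [S]
    rw [Finset.sum_comm, hn, Finset.card_filter, Nat.cast_sum, Finset.mul_sum]
    refine Finset.sum_congr rfl fun c _ => ?_
    simp only [chi_apply, polar_smul_right, smul_eq_mul]
    by_cases h : polar (hypExt R) c a = 0
    · simp [h]
    · rw [if_neg h, Nat.cast_zero, mul_zero,
        Fintype.sum_equiv (Equiv.mulRight₀ _ h) (fun t => phi0 (t * polar (hypExt R) c a))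
          (fun t => phi0 t) fun t => rfl, sum_phi0]
  have h0 : S R ((0 : F) • a) = ((iso R).card : ℂ) := by
    simp [S, chi_apply, polar_zero_right]
  rw [← Finset.add_sum_erase _ _ (Finset.mem_univ (0 : F)), h0,
    Finset.sum_congr rfl (fun t ht => hinv t (Finset.ne_of_mem_erase ht)), Finset.sum_const,
    Finset.card_erase_of_mem (Finset.mem_univ _), Finset.card_univ, nsmul_eq_mul] at h1
  have hq : (Fintype.card F - 1 : ℕ) ≠ 0 := by
    have := Fintype.one_lt_card (α := F)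
    omega
  refine ⟨((Fintype.card F : ℚ) * n - (iso R).card) / (Fintype.card F - 1 : ℕ), ?_⟩
  have hqC : ((Fintype.card F - 1 : ℕ) : ℂ) ≠ 0 := Nat.cast_ne_zero.2 hq
  rw [Rat.cast_div, Rat.cast_sub, Rat.cast_mul, Rat.cast_natCast, Rat.cast_natCast,
    Rat.cast_natCast, Rat.cast_natCast, eq_div_iff hqC]
  linear_combination h1

include hR

theorem sum_chi_apply [DecidableEq ((F × F) × Z)] (c : (F × F) × Z) :
    ∑ a, chi (hypExt R) c a = if c = 0 then (Fintype.card ((F × F) × Z) : ℂ) else 0 := by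
  classical
  rw [AddChar.sum_eq_ite]
  refine if_congr ⟨fun h => ?_, fun h => h ▸ chi_zero _⟩ rfl rfl
  exact (chi_bijective (nondegenerate_hypExt hR)).1 (h.trans (chi_zero _).symm)

theorem sum_S : ∑ a, S R a = 0 := by
  classical
  simp only [S]
  rw [Finset.sum_comm]
  refine Finset.sum_eq_zero fun c hc => ?_
  rw [sum_chi_apply hR, if_neg (mem_iso.1 hc).1]

theorem sum_S_sq :
    ∑ a, S R a * S R a = (Fintype.card ((F × F) × Z) : ℂ) * (O R 0 : ℂ) := by
  classical
  simp only [S, Finset.sum_mul, Finset.mul_sum]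
  rw [Finset.sum_comm, Finset.sum_congr rfl (g := fun _ => (Fintype.card ((F × F) × Z) : ℂ))
    fun c hc => ?_, Finset.sum_const, nsmul_eq_mul, card_iso, mul_comm]
  rw [Finset.sum_comm]
  have e : ∀ c' a, chi (hypExt R) c' a * chi (hypExt R) c a = chi (hypExt R) (c' + c) a := by
    intro c' a
    rw [chi_apply, chi_apply, chi_apply, polar_add_left, AddChar.map_add_eq_mul]
  simp only [e, sum_chi_apply hR]
  rw [Finset.sum_eq_single (-c)]
  · simp
  · intro c' _ hne
    rw [if_neg fun h => hne (eq_neg_of_add_eq_zero_left h)]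
  · intro h
    exact absurd (by
      obtain ⟨h0, h1⟩ := mem_iso.1 hc
      exact mem_iso.2 ⟨neg_ne_zero.2 h0, by rw [QuadraticMap.map_neg, h1]⟩) h

include h2

theorem S_iso (hM : Fintype.card ((F × F) × Z) = Fintype.card F * (O R 0 + 1))
    {a : (F × F) × Z} (ha : a ∈ iso R) : S R a = -1 := by
  classical
  obtain ⟨h0, h1⟩ := mem_iso.1 ha
  have e := sum_orbit hR h2 h1 h0 (0 : F)
  have hq : (Fintype.card F : ℂ) ≠ 0 := Nat.cast_ne_zero.2 Fintype.card_ne_zero
  have hZ : (Fintype.card F : ℂ) * Fintype.card Z = (O R 0 : ℂ) + 1 := by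
    rw [Fintype.card_prod, Fintype.card_prod] at hM
    refine mul_left_cancel₀ hq ?_
    have hM' := congrArg (Nat.cast : ℕ → ℂ) hM
    push_cast at hM'
    linear_combination hM'
  rw [hZ] at e
  rw [S, show iso R = Finset.univ.filter fun c => c ≠ 0 ∧ hypExt R c = 0 from
    Finset.ext fun c => by simp [mem_iso], e]
  ring

theorem sum_ani_S (hM : Fintype.card ((F × F) × Z) = Fintype.card F * (O R 0 + 1)) :
    ∑ a ∈ ani R, S R a = 0 ∧
      ∑ a ∈ ani R, S R a * S R a = (O R 0 : ℂ) * ((ani R).card : ℂ) := by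
  have h0 : S R 0 = (O R 0 : ℂ) := by simp [S, card_iso]
  constructor
  · have h := sum_S hR
    rw [sum_split (R := R), h0, Finset.sum_congr rfl (fun a ha => S_iso hR h2 hM ha),
      Finset.sum_const, nsmul_eq_mul, card_iso] at h
    linear_combination h
  · have h := sum_S_sq hR
    rw [sum_split (R := R), h0, Finset.sum_congr rfl (fun a ha => by
      rw [S_iso hR h2 hM ha, neg_mul_neg, one_mul]), Finset.sum_const, nsmul_one, card_iso] at h
    rw [card_ani]
    linear_combination h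

/-! ### Decompositions -/

variable {X : Type} [AddCommGroup X] [Module ℂ X] [FiniteDimensional ℂ X]
  {ρ : Representation ℂ (sGroup (hypExt (hypExt R))) X}
  (hd0 : d hR h2 ρ 0 = 1) (hdz : ∀ b, b ≠ 0 → d hR h2 ρ b = 0)

include hdz in
theorem P_ani {c : (F × F) × Z} (hc : c ∈ ani R) :
    P (D hR h2 ρ) (chi (hypExt R) c) = 0 := by
  have hc' := mem_ani.1 hc
  have h : Module.finrank ℂ (E hR h2 ρ c) = 0 := by
    rw [finrank_E hR h2 ρ (fun h => hc' (by rw [h, QuadraticMap.map_zero])), hdz _ hc']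
  refine LinearMap.ext fun v => ?_
  exact (Submodule.mem_bot ℂ).1
    ((Submodule.finrank_eq_zero.1 h).le (P_mem (D_add hR h2 ρ) _ v))

include hd0 in
theorem finrank_iso {c : (F × F) × Z} (hc : c ∈ iso R) :
    Module.finrank ℂ (E hR h2 ρ c) = 1 := by
  obtain ⟨h0, h1⟩ := mem_iso.1 hc
  rw [finrank_E hR h2 ρ h0, h1, hd0]

theorem sum_chars {β : Type*} [AddCommMonoid β] (φ : AddChar ((F × F) × Z) ℂ → β) :
    ∑ ψ, φ ψ = ∑ c, φ (chi (hypExt R) c) :=
  ((Equiv.ofBijective _ (chi_bijective (nondeg' hR h2))).sum_comp φ).symm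

include hdz in
theorem D_eq (a : (F × F) × Z) :
    D hR h2 ρ a = E0 hR h2 ρ +
      ∑ c ∈ iso R, chi (hypExt R) c a • P (D hR h2 ρ) (chi (hypExt R) c) := by
  classical
  conv_lhs => rw [← mul_one (D hR h2 ρ a), ← sum_P (D_zero hR h2 ρ), Finset.mul_sum]
  simp only [D_mul_P (D_add hR h2 ρ)]
  rw [sum_chars hR h2, sum_split (R := R), Finset.sum_eq_zero (s := ani R) fun c hc => by
    rw [P_ani hR h2 hdz hc, smul_zero], add_zero, chi_zero, AddChar.zero_apply, one_smul]
  rfl

variable {hR h2} {E' : Module.End ℂ X} (hS : Sub hR h2 ρ E') {z : ℂ}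
  (hz : E' * bar hR h2 ρ E' * E' = z • E') {f : ℕ} (hf : LinearMap.trace ℂ X E' = (f : ℂ))

/-- The trace of the opposite on a singular eigenline. -/
noncomputable def kc (hR : (polarBilin R).Nondegenerate) (h2 : 2 ≤ Module.finrank F Z)
    (ρ : Representation ℂ (sGroup (hypExt (hypExt R))) X) (E' : Module.End ℂ X) : ℂ :=
  LinearMap.trace ℂ X (P (D hR h2 ρ) (chi (hypExt R) ((1, 0), 0)) * bar hR h2 ρ E')

/-- The value at singular elements of the radical. -/
noncomputable def yc (hR : (polarBilin R).Nondegenerate) (h2 : 2 ≤ Module.finrank F Z)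
    (ρ : Representation ℂ (sGroup (hypExt (hypExt R))) X) (E' : Module.End ℂ X) : ℂ :=
  LinearMap.trace ℂ X (bar hR h2 ρ E' * D hR h2 ρ ((1, 0), 0) * bar hR h2 ρ E' *
    D hR h2 ρ (-((1, 0), 0)))

omit [FiniteDimensional ℂ X] in
theorem exists_lift {c : (F × F) × Z} (hc : c ∈ iso R) :
    ∃ (g : orth (hypExt R)) (_ : hypLift (hypExt R) g ∈ sGroup (hypExt (hypExt R))),
      g.1 ((1, 0), 0) = c := by
  obtain ⟨g, hg, e⟩ := exists_mem_HS hR (isUniv_of_two_le hR h2)
    (mem_iso.1 (u_mem_iso (R := R))).1 (mem_iso.1 hc).1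
    (by rw [(mem_iso.1 hc).2]; simp [hypExt_apply])
  exact ⟨g, hypLift_mem hR h2 (Or.inr hg), e⟩

omit hR h2 in
theorem trace_conj {G : Type*} [Group G] (σ : Representation ℂ G X) (x : G) (T : Module.End ℂ X) :
    LinearMap.trace ℂ X (σ x * T * σ x⁻¹) = LinearMap.trace ℂ X T := by
  rw [LinearMap.trace_mul_comm, ← mul_assoc, ← map_mul, inv_mul_cancel, map_one, one_mul]

include hS

omit [FiniteDimensional ℂ X] in
theorem rho_bar_fix {h : sGroup (hypExt (hypExt R))}
    (hh : h.1.1 ((0, 1), 0) = ((0, 1), 0)) :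
    ρ h * bar hR h2 ρ E' = bar hR h2 ρ E' * ρ h := by
  obtain ⟨m, g, hg, rfl⟩ := eq_sE_mul_lift hR h2 hh
  rw [map_mul, mul_assoc, (bar_lift hS g hg).eq, ← mul_assoc, (sE_bar hS m).1, ← mul_assoc,
    (sE_bar hS m).2]

theorem trace_P_bar {c : (F × F) × Z} (hc : c ∈ iso R) :
    LinearMap.trace ℂ X (P (D hR h2 ρ) (chi (hypExt R) c) * bar hR h2 ρ E') =
      kc hR h2 ρ E' := by
  obtain ⟨g, hg, e⟩ := exists_lift (hR := hR) (h2 := h2) hc
  have hP : ρ ⟨_, hg⟩ * P (D hR h2 ρ) (chi (hypExt R) ((1, 0), 0)) =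
      P (D hR h2 ρ) (chi (hypExt R) c) * ρ ⟨_, hg⟩ := by
    rw [comm_P (D := D hR h2 ρ) g.1.toAddEquiv (fun a => by
      rw [D, D, ← map_mul, ← map_mul]
      exact congrArg ρ (lift_r hR h2 hg a)), ← e]
    congr 2
    ext a
    show phi0 (polar (hypExt R) ((1, 0), 0) (g.1.symm a)) =
      phi0 (polar (hypExt R) (g.1 ((1, 0), 0)) a)
    rw [← polar_orth g ((1, 0), 0) (g.1.symm a), LinearEquiv.apply_symm_apply]
  rw [kc, ← trace_conj ρ ⟨_, hg⟩ (P (D hR h2 ρ) (chi (hypExt R) ((1, 0), 0)) * bar hR h2 ρ E'),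
    ← mul_assoc, hP, mul_assoc _ _ (bar hR h2 ρ E'), (bar_lift hS g hg).eq, mul_assoc, mul_assoc,
    ← map_mul, mul_inv_cancel, map_one, mul_one]

include hf in
theorem trace_bar : LinearMap.trace ℂ X (bar hR h2 ρ E') = (f : ℂ) := by
  rw [bar, LinearMap.trace_mul_comm, ← mul_assoc, K0, K_sq w0_ne, one_mul, hf]

include hz hf

theorem trace_E'_bar : LinearMap.trace ℂ X (E' * bar hR h2 ρ E') = z * f := by
  have e : E' * bar hR h2 ρ E' = E' * (E' * bar hR h2 ρ E') := by rw [← mul_assoc, hS.idem]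
  rw [e, LinearMap.trace_mul_comm, hz, map_smul, hf, smul_eq_mul]

theorem trace_E0_bar : LinearMap.trace ℂ X (E0 hR h2 ρ * bar hR h2 ρ E') = z * f := by
  rw [hS.cross, trace_E'_bar hS hz hf]

include hdz

theorem trace_D_bar (a : (F × F) × Z) :
    LinearMap.trace ℂ X (D hR h2 ρ a * bar hR h2 ρ E') = z * f + kc hR h2 ρ E' * S R a := by
  rw [D_eq hR h2 hdz, add_mul, map_add, trace_E0_bar hS hz hf, Finset.sum_mul, map_sum, S,
    Finset.mul_sum]
  congr 1
  refine Finset.sum_congr rfl fun c hc => ?_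
  rw [smul_mul_assoc, map_smul, trace_P_bar hS hc, smul_eq_mul, mul_comm]

theorem kc_eq : (f : ℂ) = z * f + (O R 0 : ℂ) * kc hR h2 ρ E' := by
  have h := trace_D_bar hdz hS hz hf 0
  rw [D_zero, one_mul, trace_bar hS hf, show S R (0 : (F × F) × Z) = (O R 0 : ℂ) by
    simp [S, card_iso]] at h
  linear_combination h

theorem trace_bar_D_bar (a : (F × F) × Z) :
    LinearMap.trace ℂ X (bar hR h2 ρ E' * D hR h2 ρ a * bar hR h2 ρ E') =
      z * f + kc hR h2 ρ E' * S R a := by
  rw [LinearMap.trace_mul_comm, ← mul_assoc, bar_idem hS, LinearMap.trace_mul_comm,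
    trace_D_bar hdz hS hz hf]

/-! ### The two averages -/

omit hdz in
theorem value_ani {a : (F × F) × Z} (ha : a ∈ ani R) :
    LinearMap.trace ℂ X (bar hR h2 ρ E' * D hR h2 ρ a * bar hR h2 ρ E' * D hR h2 ρ (-a)) =
      z * f := by
  have ha' := mem_ani.1 ha
  set u := (hypExt R a)⁻¹ • a with hu
  have e : D hR h2 ρ (-a) = ρ (sE hR h2 u) * ρ (kE hR h2 a) * ρ (sE hR h2 u) := by
    rw [D, ← map_mul, ← map_mul]
    congr 1
    have h : r hR h2 (-a) = (r hR h2 a)⁻¹ := by
      rw [eq_inv_iff_mul_eq_one, ← r_add, neg_add_cancel, r_zero]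
    rw [h, r_eq hR h2 ha', mul_inv_rev, mul_inv_rev, kE_inv hR h2 ha', sE_neg, inv_inv, ← hu,
      mul_assoc]
  rw [bar_D_bar hS hz ha', e, ← mul_assoc, LinearMap.trace_mul_comm]
  simp only [← mul_assoc]
  rw [(sE_bar hS u).1, mul_assoc _ (bar hR h2 ρ E') (ρ (sE hR h2 u)), (sE_bar hS u).2,
    mul_assoc, mul_assoc, ← mul_assoc (ρ (kE hR h2 a)) (bar hR h2 ρ E'), K_bar_K hS ha',
    LinearMap.trace_mul_comm, trace_E'_bar hS hz hf]

omit hdz hz hf in
theorem value_iso {a : (F × F) × Z} (ha : a ∈ iso R) :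
    LinearMap.trace ℂ X (bar hR h2 ρ E' * D hR h2 ρ a * bar hR h2 ρ E' * D hR h2 ρ (-a)) =
      yc hR h2 ρ E' := by
  obtain ⟨g, hg, e⟩ := exists_lift (hR := hR) (h2 := h2) ha
  set L : sGroup (hypExt (hypExt R)) := ⟨_, hg⟩
  have hD : ∀ b, D hR h2 ρ (g.1 b) = ρ L * D hR h2 ρ b * ρ L⁻¹ := fun b => by
    simp only [D]
    rw [← map_mul, ← map_mul, lift_r hR h2 hg b, mul_inv_cancel_right]
  have hb := (bar_lift hS g hg).eq
  have hL : ρ L⁻¹ * ρ L = 1 := by rw [← map_mul, inv_mul_cancel, map_one]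
  have key : ∀ T : Module.End ℂ X,
      bar hR h2 ρ E' * (ρ L * T * ρ L⁻¹) = ρ L * (bar hR h2 ρ E' * T) * ρ L⁻¹ := fun T => by
    simp only [← mul_assoc]
    rw [hb]
  rw [← e, ← map_neg, hD, hD, key, mul_assoc _ (bar hR h2 ρ E'), key,
    show ∀ A B : Module.End ℂ X, ρ L * A * ρ L⁻¹ * (ρ L * B * ρ L⁻¹) = ρ L * (A * B) * ρ L⁻¹ from
      fun A B => by
        calc _ = ρ L * A * (ρ L⁻¹ * ρ L) * (B * ρ L⁻¹) := by simp only [mul_assoc]
          _ = _ := by rw [hL, mul_one]; simp only [mul_assoc],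
    trace_conj, yc, ← mul_assoc]

include hd0

/-- The average over the radical. -/
theorem radical_avg :
    (f : ℂ) + (O R 0 : ℂ) * yc hR h2 ρ E' + ((ani R).card : ℂ) * (z * f) =
      (Fintype.card ((F × F) × Z) : ℂ) *
        (z * z * f + (O R 0 : ℂ) * (kc hR h2 ρ E' * kc hR h2 ρ E')) := by
  classical
  have h := congrArg (fun T => LinearMap.trace ℂ X (bar hR h2 ρ E' * T))
    (sum_conj (D_add hR h2 ρ) (D_zero hR h2 ρ) (bar hR h2 ρ E'))
  simp only [Finset.mul_sum, mul_smul_comm, map_sum, map_smul, smul_eq_mul, ← mul_assoc] at h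
  rw [sum_split (R := R), D_zero, neg_zero, D_zero, mul_one, mul_one, bar_idem hS,
    trace_bar hS hf, Finset.sum_congr rfl (fun a ha => value_iso hS ha),
    Finset.sum_congr rfl (s₁ := ani R) (fun a ha => value_ani hS hz hf ha),
    Finset.sum_const, Finset.sum_const, nsmul_eq_mul, nsmul_eq_mul, card_iso,
    sum_chars hR h2, sum_split (R := R)] at h
  rw [h, Finset.sum_eq_zero (s := ani R) fun c hc => by
    rw [P_ani hR h2 hdz hc, mul_zero, map_zero, mul_zero], add_zero, chi_zero, ← Finset.mul_sum,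
    ← mul_add]
  congr 1
  congr 1
  · show LinearMap.trace ℂ X (bar hR h2 ρ E' * E0 hR h2 ρ * bar hR h2 ρ E' * E0 hR h2 ρ) = _
    rw [LinearMap.trace_mul_comm, ← mul_assoc, ← mul_assoc, hS.cross, mul_assoc _ (E0 hR h2 ρ),
      hS.cross, ← mul_assoc, hz, smul_mul_assoc, map_smul, trace_E'_bar hS hz hf, smul_eq_mul]
    ring
  · rw [Finset.sum_congr rfl (g := fun _ => kc hR h2 ρ E' * kc hR h2 ρ E') fun c hc => ?_,
      Finset.sum_const, nsmul_eq_mul, card_iso]
    have hm := mid_eq (P_isProj (D_add hR h2 ρ) (chi (hypExt R) c))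
      (finrank_iso hR h2 hd0 hc) (bar hR h2 ρ E')
    rw [mul_assoc, mul_assoc, ← mul_assoc (P (D hR h2 ρ) _), hm, mul_smul_comm, map_smul,
      LinearMap.trace_mul_comm ℂ (bar hR h2 ρ E'), smul_eq_mul, trace_P_bar hS hc]

omit hR h2 hd0 hdz hz hf hS in
theorem sum_sing [DecidableEq F] [DecidableEq Z] (a b c : ℂ) :
    ∑ v : (F × F) × (F × F) × Z with v ≠ 0 ∧ hypExt (hypExt R) v = 0,
      (if v.1.1 ≠ 0 then a else if v.2 ≠ 0 then b else c) =
      ((Fintype.card F : ℂ) - 1) * Fintype.card ((F × F) × Z) * a +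
        (Fintype.card F : ℂ) * (O R 0 : ℂ) * b + ((Fintype.card F : ℂ) - 1) * c := by
  rw [Finset.sum_filter, Fintype.sum_prod_type, Fintype.sum_prod_type,
    ← Finset.add_sum_erase _ _ (Finset.mem_univ (0 : F))]
  have hx : ∀ x ∈ Finset.univ.erase (0 : F), (∑ y : F, ∑ m : (F × F) × Z,
      if (((x, y), m) : (F × F) × (F × F) × Z) ≠ 0 ∧ hypExt (hypExt R) ((x, y), m) = 0 then
        (if ((x, y), m).1.1 ≠ 0 then a else if ((x, y), m).2 ≠ 0 then b else c) else 0) =
      (Fintype.card ((F × F) × Z) : ℂ) * a := by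
    intro x hx
    have hx0 := Finset.ne_of_mem_erase hx
    rw [Finset.sum_comm, Finset.sum_congr rfl (g := fun _ => a) fun m _ => ?_, Finset.sum_const,
      Finset.card_univ, nsmul_eq_mul]
    rw [Finset.sum_eq_single (-(hypExt R m) / x)]
    · rw [if_pos ⟨fun h => hx0 (congrArg (fun v : (F × F) × (F × F) × Z => v.1.1) h),
        by rw [hypExt_apply, mul_div_cancel₀ _ hx0, neg_add_cancel]⟩, if_pos hx0]
    · intro y _ hy
      refine if_neg fun h => hy ?_
      rw [hypExt_apply] at h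
      rw [eq_div_iff hx0]
      linear_combination h.2
    · simp
  rw [Finset.sum_congr rfl hx, Finset.sum_const, Finset.card_erase_of_mem (Finset.mem_univ _),
    Finset.card_univ, nsmul_eq_mul, Nat.cast_sub Fintype.card_pos, Nat.cast_one]
  have h0 : ∀ y : F, (∑ m : (F × F) × Z,
      if (((0, y), m) : (F × F) × (F × F) × Z) ≠ 0 ∧ hypExt (hypExt R) ((0, y), m) = 0 then
        (if (((0 : F), y), m).1.1 ≠ 0 then a else if (((0 : F), y), m).2 ≠ 0 then b else c)
        else 0) = (if y = 0 then 0 else c) + (O R 0 : ℂ) * b := by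
    intro y
    have hv : ∀ m : (F × F) × Z, hypExt (hypExt R) ((0, y), m) = hypExt R m := fun m => by
      rw [hypExt_apply, zero_mul, zero_add]
    simp only [hv, ne_eq, not_true, if_false]
    rw [sum_split (R := R), Finset.sum_eq_zero (s := ani R) fun m hm => if_neg fun h =>
      mem_ani.1 hm h.2, add_zero, Finset.sum_congr rfl (g := fun _ => b) fun m hm => ?_,
      Finset.sum_const, nsmul_eq_mul, card_iso]
    · by_cases hy : y = 0
      · subst hy
        simp
      · rw [if_neg hy, if_pos ⟨fun h => hy (congrArg (fun v : (F × F) × (F × F) × Z => v.1.2) h),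
          QuadraticMap.map_zero _⟩]
        simp
    · obtain ⟨hm0, hm1⟩ := mem_iso.1 hm
      rw [if_pos ⟨fun h => hm0 (congrArg Prod.snd h), hm1⟩, if_pos hm0]
  rw [Finset.sum_congr rfl fun y _ => h0 y, Finset.sum_add_distrib, Finset.sum_const,
    Finset.card_univ, nsmul_eq_mul, ← Finset.add_sum_erase _ _ (Finset.mem_univ (0 : F)),
    if_pos rfl, zero_add, Finset.sum_congr rfl (g := fun _ => c) fun y hy =>
      if_neg (Finset.ne_of_mem_erase hy), Finset.sum_const,
    Finset.card_erase_of_mem (Finset.mem_univ _), Finset.card_univ, nsmul_eq_mul,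
    Nat.cast_sub Fintype.card_pos, Nat.cast_one]
  ring

omit hd0 hdz in
/-- The value on a double coset. -/
theorem value_group [DecidableEq F] [DecidableEq Z] (g : sGroup (hypExt (hypExt R))) :
    LinearMap.trace ℂ X (bar hR h2 ρ E' * ρ g * bar hR h2 ρ E' * ρ g⁻¹) =
      if (g.1.1 ((0, 1), 0)).1.1 ≠ 0 then z * f
      else if (g.1.1 ((0, 1), 0)).2 ≠ 0 then yc hR h2 ρ E' else (f : ℂ) := by
  set B := bar hR h2 ρ E' with hB
  have same : ∀ h : sGroup (hypExt (hypExt R)),
      h.1.1 ((0, 1), 0) = g.1.1 ((0, 1), 0) →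
      LinearMap.trace ℂ X (B * ρ g * B * ρ g⁻¹) = LinearMap.trace ℂ X (B * ρ h * B * ρ h⁻¹) := by
    intro h e
    obtain ⟨s, rfl⟩ : ∃ s, g = h * s := ⟨h⁻¹ * g, by group⟩
    have hs : s.1.1 ((0, 1), 0) = ((0, 1), 0) := (h.1.1.injective e).symm
    have hsB : ρ s * B * ρ s⁻¹ = B := by
      rw [hB, rho_bar_fix hS hs, mul_assoc, ← map_mul, mul_inv_cancel, map_one, mul_one]
    congr 1
    calc B * ρ (h * s) * B * ρ (h * s)⁻¹ = B * ρ h * (ρ s * B * ρ s⁻¹) * ρ h⁻¹ := by
          rw [mul_inv_rev, map_mul, map_mul]; simp only [mul_assoc]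
      _ = _ := by rw [hsB]
  obtain ⟨⟨⟨x, y⟩, m⟩, hv⟩ : ∃ v, g.1.1 ((0, 1), 0) = v := ⟨_, rfl⟩
  have hsing : x * y + hypExt R m = 0 := by
    rw [← hypExt_apply (hypExt R), ← hv, map_orth]
    simp [hypExt_apply]
  rw [hv]
  show _ = if x ≠ 0 then _ else if m ≠ 0 then _ else _
  by_cases hx : x = 0
  · subst hx
    rw [if_neg (not_not.2 rfl)]
    rw [zero_mul, zero_add] at hsing
    by_cases hm : m = 0
    · subst hm
      rw [if_neg (not_not.2 rfl)]
      have hy : y ≠ 0 := fun hy => by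
        subst hy
        have h' : g.1.1 ((0, 1), 0) = g.1.1 0 := by rw [hv, map_zero]; rfl
        have := congrArg (fun v : (F × F) × (F × F) × Z => v.1.2) (g.1.1.injective h')
        simp at this
      have hw : hypExt R ((1, 1), 0) ≠ 0 := w0_ne
      have hw' : hypExt R ((y, 1), 0) ≠ 0 := by simp [hypExt_apply, hy]
      rw [same (kE hR h2 ((1, 1), 0) * kE hR h2 ((y, 1), 0)) ?_]
      · rw [mul_assoc B _ B, (bar_kk hS _ _ hw hw').eq, ← mul_assoc, mul_assoc, ← map_mul,
          mul_inv_cancel, map_one, mul_one, hB, bar_idem hS, trace_bar hS hf]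
      · show (kW (hypExt R) ((1, 1), 0) * kW (hypExt R) ((y, 1), 0)).1 ((0, 1), 0) = _
        rw [hv, kW_mul_apply hw hw']
        simp [hypExt_apply]
    · rw [if_pos hm]
      obtain ⟨γ, hγ, e⟩ := exists_lift (hR := hR) (h2 := h2) (mem_iso.2 ⟨hm, hsing⟩)
      set L : sGroup (hypExt (hypExt R)) := ⟨_, hγ⟩
      set b : (F × F) × Z := ((0, 1 - y), 0)
      rw [same (L * sE hR h2 b * r hR h2 ((1, 0), 0)) ?_]
      · have hl := (bar_lift hS γ hγ).eq
        rw [map_mul ρ, map_mul ρ, mul_inv_rev, mul_inv_rev, map_mul ρ, map_mul ρ,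
          show (r hR h2 ((1, 0), 0))⁻¹ = r hR h2 (-((1, 0), 0)) by
            rw [inv_eq_iff_mul_eq_one, ← r_add, add_neg_cancel, r_zero],
          ← sE_neg]
        show LinearMap.trace ℂ X (B * (ρ L * ρ (sE hR h2 b) * D hR h2 ρ ((1, 0), 0)) * B *
          (D hR h2 ρ (-((1, 0), 0)) * (ρ (sE hR h2 (-b)) * ρ L⁻¹))) = _
        calc _ = LinearMap.trace ℂ X ((ρ L * (B * ρ (sE hR h2 b)) * D hR h2 ρ ((1, 0), 0) * B *
              D hR h2 ρ (-((1, 0), 0)) * ρ (sE hR h2 (-b))) * ρ L⁻¹) := by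
              simp only [← mul_assoc]
              rw [hB, ← hl]
          _ = LinearMap.trace ℂ X ((B * ρ (sE hR h2 b)) * D hR h2 ρ ((1, 0), 0) * B *
              D hR h2 ρ (-((1, 0), 0)) * ρ (sE hR h2 (-b))) := by
              conv_rhs => rw [← trace_conj ρ L]
              simp only [mul_assoc]
          _ = _ := by
              rw [hB, (sE_bar hS b).2, LinearMap.trace_mul_comm, ← mul_assoc, ← mul_assoc,
                ← mul_assoc, (sE_bar hS (-b)).1, yc]
      · show (hypLift (hypExt R) γ * sS (hypExt R) b * rS (hypExt R) ((1, 0), 0)).1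
          ((0, 1), 0) = _
        rw [hv, orth_mul_apply, orth_mul_apply, rS_apply, sS_apply]
        show ((_, _), γ.1 _) = _
        simp [b, polar_hypExt, hypExt_apply, e]
  · rw [if_pos hx]
    set w : (F × F) × Z := ((-x, 1), 0)
    have hw : hypExt R w ≠ 0 := by simp [w, hypExt_apply, hx]
    rw [same (sE hR h2 (x⁻¹ • m) * kE hR h2 w) ?_]
    · rw [mul_inv_rev, map_mul ρ, map_mul ρ, ← mul_assoc, ← mul_assoc, hB, (sE_bar hS _).2,
        ← sE_neg, kE_inv hR h2 hw, LinearMap.trace_mul_comm, ← mul_assoc, ← mul_assoc,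
        ← mul_assoc, (sE_bar hS _).1, mul_assoc, mul_assoc,
        ← mul_assoc (ρ (kE hR h2 w)) (bar hR h2 ρ E'), K_bar_K hS hw,
        LinearMap.trace_mul_comm, trace_E'_bar hS hz hf]
    · show (sS (hypExt R) (x⁻¹ • m) * kW (hypExt R) w).1 ((0, 1), 0) = _
      rw [hv, orth_mul_apply, kW_apply hw, sS_apply, QuadraticMap.map_smul, map_zero,
        polar_zero_right]
      have hwx : hypExt R w = -x := by simp [w, hypExt_apply]
      rw [hwx]
      refine Prod.ext (Prod.ext ?_ ?_) ?_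
      · simp
      · simp
        field_simp
        linear_combination -hsing
      · simp [smul_smul, hx]

variable [ρ.IsIrreducible]

omit hd0 hdz in
/-- The average over the group. -/
theorem group_avg :
    (Module.finrank ℂ X : ℂ) *
        (((Fintype.card F : ℂ) - 1) * Fintype.card ((F × F) × Z) * (z * f) +
          (Fintype.card F : ℂ) * (O R 0 : ℂ) * yc hR h2 ρ E' +
          ((Fintype.card F : ℂ) - 1) * f) =
      (((Fintype.card F : ℂ) - 1) * Fintype.card ((F × F) × Z) +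
          (Fintype.card F : ℂ) * (O R 0 : ℂ) + ((Fintype.card F : ℂ) - 1)) * (f : ℂ) ^ 2 := by
  classical
  haveI := finite_orth (hypExt (hypExt R))
  letI : Fintype (sGroup (hypExt (hypExt R))) := Fintype.ofFinite _
  set B := bar hR h2 ρ E' with hB
  set T := ∑ g, ρ g * B * ρ g⁻¹ with hT
  have hcomm : ∀ h v, T (ρ h v) = ρ h (T v) := by
    intro h v
    suffices e : T * ρ h = ρ h * T from congrArg (fun A : Module.End ℂ X => A v) e
    rw [hT, Finset.sum_mul, Finset.mul_sum]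
    refine Fintype.sum_equiv (Equiv.mulLeft h⁻¹) _ _ fun g => ?_
    simp only [Equiv.coe_mulLeft, mul_inv_rev, inv_inv, map_mul]
    rw [show ρ h * (ρ h⁻¹ * ρ g * B * (ρ g⁻¹ * ρ h)) = (ρ h * ρ h⁻¹) * ρ g * B * ρ g⁻¹ * ρ h by
      simp only [mul_assoc], ← map_mul ρ h, mul_inv_cancel, map_one, one_mul]
  obtain ⟨c, hc, htr⟩ := CharBasic.exists_scalar_of_commute ρ T hcomm
  have htr1 : LinearMap.trace ℂ X T = (Fintype.card (sGroup (hypExt (hypExt R))) : ℂ) * f := by
    rw [hT, map_sum, Finset.sum_congr rfl (g := fun _ => (f : ℂ)) fun g _ => by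
      rw [trace_conj, hB, trace_bar hS hf], Finset.sum_const, Finset.card_univ, nsmul_eq_mul]
  have hsum : ∑ g, LinearMap.trace ℂ X (B * ρ g * B * ρ g⁻¹) = c * f := by
    rw [← map_sum, show ∑ g, B * ρ g * B * ρ g⁻¹ = B * T by
      simp only [hT, Finset.mul_sum, ← mul_assoc], hc, mul_smul_comm, map_smul, smul_eq_mul]
    congr 1
    exact trace_bar hS hf
  set sing := (Finset.univ.filter fun v : (F × F) × (F × F) × Z =>
    v ≠ 0 ∧ hypExt (hypExt R) v = 0) with hsingdef
  have hmaps : ∀ g ∈ (Finset.univ : Finset (sGroup (hypExt (hypExt R)))),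
      g.1.1 ((0, 1), 0) ∈ sing := by
    intro g _
    simp only [hsingdef, Finset.mem_filter, Finset.mem_univ, true_and, ne_eq,
      LinearEquiv.map_eq_zero_iff, map_orth]
    simp [hypExt_apply, Prod.ext_iff]
  set n := (Finset.univ.filter fun g : sGroup (hypExt (hypExt R)) =>
    g.1.1 ((0, 1), 0) = ((0, 1), 0)).card with hn
  have hn0 : (n : ℂ) ≠ 0 := by
    rw [Nat.cast_ne_zero, hn]
    exact Finset.card_ne_zero.2 ⟨1, by simp⟩
  have hfib : ∀ v ∈ sing, (Finset.univ.filter fun g : sGroup (hypExt (hypExt R)) =>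
      g.1.1 ((0, 1), 0) = v).card = n := by
    intro v hv
    simp only [hsingdef, Finset.mem_filter, Finset.mem_univ, true_and] at hv
    obtain ⟨h, hh, e⟩ := exists_mem_sGroup (nondeg' hR h2) (three_le hR h2)
      (v := ((0, 1), 0)) (by simp [Prod.ext_iff]) hv.1 (by rw [hv.2]; simp [hypExt_apply])
    rw [hn]
    refine (Finset.card_equiv (Equiv.mulLeft (⟨h, hh⟩ : sGroup (hypExt (hypExt R))))
      fun g => ?_).symm
    simp only [Finset.mem_filter, Finset.mem_univ, true_and, Equiv.coe_mulLeft]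
    show _ ↔ (h * g.1).1 ((0, 1), 0) = v
    rw [orth_mul_apply, ← e]
    exact h.1.injective.eq_iff.symm
  have key : ∀ a b c : ℂ, ∑ g : sGroup (hypExt (hypExt R)),
      (if (g.1.1 ((0, 1), 0)).1.1 ≠ 0 then a else if (g.1.1 ((0, 1), 0)).2 ≠ 0 then b else c) =
      (n : ℂ) * (((Fintype.card F : ℂ) - 1) * Fintype.card ((F × F) × Z) * a +
        (Fintype.card F : ℂ) * (O R 0 : ℂ) * b + ((Fintype.card F : ℂ) - 1) * c) := by
    intro a b c
    rw [← sum_sing (R := R) a b c, Finset.mul_sum, ← Finset.sum_fiberwise_of_maps_to hmaps]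
    refine Finset.sum_congr rfl fun v hv => ?_
    rw [Finset.sum_congr rfl (g := fun _ => if v.1.1 ≠ 0 then a else if v.2 ≠ 0 then b else c)
      fun g hg => by rw [(Finset.mem_filter.1 hg).2], Finset.sum_const, hfib v hv, nsmul_eq_mul]
  have hG := key 1 1 1
  simp only [ite_self, Finset.sum_const, Finset.card_univ, nsmul_one] at hG
  rw [Finset.sum_congr rfl (fun g _ => value_group hS hz hf g), key] at hsum
  refine mul_left_cancel₀ hn0 ?_
  linear_combination (Module.finrank ℂ X : ℂ) * hsum + (f : ℂ) * (htr.symm.trans htr1) +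
    (f : ℂ) ^ 2 * hG

variable (hM : Fintype.card ((F × F) × Z) = Fintype.card F * (O R 0 + 1))

include hM

theorem main_eq : (Module.finrank ℂ X : ℂ) * ((Fintype.card F : ℂ) *
      Fintype.card ((F × F) × Z) *
        (z * z * f + (O R 0 : ℂ) * (kc hR h2 ρ E' * kc hR h2 ρ E'))) =
      (Module.finrank ℂ X : ℂ) * f +
        ((Fintype.card F : ℂ) * Fintype.card ((F × F) × Z) - 1) * (f : ℂ) ^ 2 := by
  have e1 := radical_avg hd0 hdz hS hz hf
  have e2 := group_avg hS hz hf
  rw [card_ani] at e1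
  have hM' := congrArg (Nat.cast : ℕ → ℂ) hM
  push_cast at hM'
  linear_combination e2 - (Module.finrank ℂ X : ℂ) * Fintype.card F * e1 +
    ((Module.finrank ℂ X : ℂ) * z * f - (f : ℂ) ^ 2) * hM'

/-- The extremal degree is impossible when the fixed space meets its opposite in a scalar. -/
theorem not_small {n : ℕ} (hn : 3 ≤ n) (hodd : Odd (Fintype.card F)) (hq : 3 ≤ Fintype.card F)
    (hpow : Fintype.card F * Fintype.card ((F × F) × Z) = Fintype.card F ^ (2 * n))
    (hfO : ((Fintype.card F : ℤ) ^ 2 - 1) * f = O R 0)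
    (hN : Module.finrank ℂ X = f + O R 0) : False := by
  classical
  have hmain := main_eq hd0 hdz hS hz hf hM
  have hk := kc_eq hdz hS hz hf
  have hO : (O R 0 : ℂ) = ((Fintype.card F : ℂ) ^ 2 - 1) * f := by
    have := congrArg (Int.cast : ℤ → ℂ) hfO
    push_cast at this
    exact this.symm
  have hOpos : 0 < O R 0 := by
    rw [O, Nat.card_eq_fintype_card]
    exact Fintype.card_pos_iff.2 ⟨⟨((1, 0), 0), mem_iso.1 u_mem_iso⟩⟩
  have hf0 : (f : ℂ) ≠ 0 := by
    intro h
    rw [h, mul_zero, Nat.cast_eq_zero] at hO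
    omega
  set q : ℂ := (Fintype.card F : ℂ) with hqdef
  have hD0 : q ^ 2 - 1 ≠ 0 := by
    intro h
    rw [h, zero_mul, Nat.cast_eq_zero] at hO
    omega
  have hN' : (Module.finrank ℂ X : ℂ) = q ^ 2 * f := by
    rw [hN, Nat.cast_add, hO]; ring
  have hM2 : q * (Fintype.card ((F × F) × Z) : ℂ) = q ^ (2 * n) := by
    rw [hqdef]; exact_mod_cast hpow
  set k := kc hR h2 ρ E' with hkdef
  have hk' : (q ^ 2 - 1) * k = 1 - z := mul_left_cancel₀ hf0 (by
    rw [hO] at hk; linear_combination -hk)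
  rw [hN', hO, hM2] at hmain
  have hmain' : q ^ 2 * (q ^ (2 * n) * ((q ^ 2 - 1) * (z * z) + (1 - z) ^ 2)) =
      (q ^ 2 - 1) * (q ^ 2 + (q ^ (2 * n) - 1)) := by
    refine mul_left_cancel₀ (pow_ne_zero 2 hf0) ?_
    linear_combination (q ^ 2 - 1) * hmain -
      q ^ 2 * (f : ℂ) ^ 2 * q ^ (2 * n) * ((q ^ 2 - 1) * k + (1 - z)) * hk'
  have hsq : (q ^ n * (q ^ 2 * z - 1)) ^ 2 = (q ^ 2 - 1) ^ 2 := by
    rw [mul_pow, ← pow_mul, mul_comm n 2]
    linear_combination hmain'
  obtain ⟨ε, hε, hze⟩ : ∃ ε : ℤ, (ε = 1 ∨ ε = -1) ∧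
      q ^ n * (q ^ 2 * z - 1) = (ε : ℂ) * (q ^ 2 - 1) := by
    rcases sq_eq_sq_iff_eq_or_eq_neg.1 hsq with h | h
    · exact ⟨1, Or.inl rfl, by rw [h]; push_cast; ring⟩
    · exact ⟨-1, Or.inr rfl, by rw [h]; push_cast; ring⟩
  set qq : ℚ := (Fintype.card F : ℚ) with hqq
  have hqq0 : qq ≠ 0 := Nat.cast_ne_zero.2 Fintype.card_ne_zero
  have hqc : q = (qq : ℂ) := by simp [hqdef, hqq]
  set zq : ℚ := (qq ^ n + (ε : ℚ) * (qq ^ 2 - 1)) / qq ^ (n + 2) with hzq
  have hzc : z = (zq : ℂ) := by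
    have hqn : q ≠ 0 := by rw [hqc]; exact_mod_cast hqq0
    rw [hzq]
    push_cast
    rw [← hqc, eq_div_iff (pow_ne_zero _ hqn)]
    linear_combination hze
  have hq3 : (3 : ℤ) ≤ Fintype.card F := by exact_mod_cast hq
  have hnum : 0 < (Fintype.card F : ℤ) ^ n + ε * ((Fintype.card F : ℤ) ^ 2 - 1) := by
    have := pow_le_pow_right₀ (show (1 : ℤ) ≤ Fintype.card F by omega) hn
    rcases hε with rfl | rfl <;> nlinarith
  have hzq0 : zq ≠ 0 := by
    refine div_ne_zero ?_ (pow_ne_zero _ hqq0)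
    rw [hqq]
    exact_mod_cast hnum.ne'
  have hz0 : z ≠ 0 := by rw [hzc]; exact_mod_cast hzq0
  obtain ⟨a, ha, hT⟩ : ∃ a ∈ ani R, z * f + k * S R a ≠ 0 := by
    by_contra! hall
    have h := Finset.sum_eq_zero (s := ani R) (f := fun a => z * f + k * S R a) hall
    rw [Finset.sum_add_distrib, Finset.sum_const, nsmul_eq_mul, ← Finset.mul_sum,
      (sum_ani_S hR h2 hM).1, mul_zero, add_zero] at h
    rcases mul_eq_zero.1 h with h' | h'
    · exact Finset.card_ne_zero.2 ⟨_, w_mem_ani (R := R)⟩ (Nat.cast_eq_zero.1 h')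
    · exact mul_ne_zero hz0 hf0 h'
  have ha' := mem_ani.1 ha
  obtain ⟨j, hj⟩ := exists_trace_sq (bar_idem hS) (trace_bar hS hf)
    (show bar hR h2 ρ E' * (bar hR h2 ρ E' * D hR h2 ρ a * bar hR h2 ρ E') = _ by
      rw [← mul_assoc, ← mul_assoc, bar_idem hS])
    (show bar hR h2 ρ E' * D hR h2 ρ a * bar hR h2 ρ E' * bar hR h2 ρ E' = _ by
      rw [mul_assoc _ (bar hR h2 ρ E'), bar_idem hS])
    (bar_D_sq hS hz ha') hz0
  rw [trace_bar_D_bar hdz hS hz hf a, ← hkdef] at hj
  obtain ⟨s, hs⟩ := exists_rat_S (R := R) a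
  set kq : ℚ := (1 - zq) / (qq ^ 2 - 1) with hkq
  have hkc : k = (kq : ℂ) := by
    rw [hkq]
    push_cast
    rw [← hqc, ← hzc, eq_div_iff hD0]
    linear_combination hk'
  have hTq : (zq * f + kq * s) ^ 2 = zq * (j : ℚ) ^ 2 := by
    rw [hs, hzc, hkc] at hj
    exact_mod_cast hj
  have hj0 : (j : ℚ) ≠ 0 := by
    intro h
    rw [h, zero_pow two_ne_zero, mul_zero] at hTq
    apply hT
    rw [hs, hzc, hkc]
    exact_mod_cast (sq_eq_zero_iff.1 hTq)
  have hsq' : IsSquare ((((Fintype.card F : ℤ) ^ n *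
      ((Fintype.card F : ℤ) ^ n + ε * ((Fintype.card F : ℤ) ^ 2 - 1))) : ℤ) : ℚ) := by
    refine ⟨(zq * f + kq * s) / j * qq ^ (n + 1), ?_⟩
    push_cast
    rw [← hqq]
    have e : qq ^ n + (ε : ℚ) * (qq ^ 2 - 1) = zq * qq ^ (n + 2) := by
      rw [hzq, div_mul_cancel₀ _ (pow_ne_zero _ hqq0)]
    rw [e]
    field_simp
    rw [hTq]
    ring
  obtain ⟨m, hm⟩ := Rat.isSquare_intCast_iff.1 hsq'
  exact no_square hε hq3 (by exact_mod_cast hodd) hn (hm.trans (pow_two m).symm)

/-- When the invariant part is a line the degree is determined. -/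
theorem line_case (hf1 : f = 1) : (Module.finrank ℂ X : ℂ) = 1 ∨
    (Module.finrank ℂ X : ℂ) * ((Fintype.card F : ℂ) ^ 2 - 1) + 1 =
      (Fintype.card F : ℂ) * Fintype.card ((F × F) × Z) := by
  classical
  subst hf1
  have hmain := main_eq hd0 hdz hS hz hf hM
  have hk := kc_eq hdz hS hz hf
  set k := kc hR h2 ρ E' with hkdef
  simp only [Nat.cast_one, mul_one, one_pow] at hmain hk
  have hrk : Module.finrank ℂ (LinearMap.range (bar hR h2 ρ E')) = 1 := by
    have h := (isProj_range (bar_idem hS)).trace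
    rw [trace_bar hS hf, Nat.cast_one] at h
    exact_mod_cast h.symm
  have hT : ∀ a ∈ ani R, (z + k * S R a) ^ 2 = z := by
    intro a ha
    have hA := mid_eq (isProj_range (bar_idem hS)) hrk (D hR h2 ρ a)
    have htA := trace_bar_D_bar hdz hS hz hf a
    rw [hA, map_smul, trace_bar hS hf, Nat.cast_one, smul_eq_mul, mul_one, mul_one, ← hkdef]
      at htA
    have hsq := congrArg (LinearMap.trace ℂ X) (bar_D_sq hS hz (mem_ani.1 ha))
    rw [hA, htA, smul_mul_assoc, mul_smul_comm, smul_smul, bar_idem hS, map_smul, map_smul,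
      trace_bar hS hf, Nat.cast_one, smul_eq_mul, smul_eq_mul, mul_one, mul_one] at hsq
    rw [pow_two, hsq]
  have h := Finset.sum_congr (s₁ := ani R) rfl hT
  simp only [add_sq, mul_pow, Finset.sum_add_distrib, Finset.sum_const, nsmul_eq_mul,
    ← Finset.mul_sum] at h
  rw [(sum_ani_S hR h2 hM).1, show ∑ a ∈ ani R, S R a ^ 2 = (O R 0 : ℂ) * ((ani R).card : ℂ) by
    simp only [pow_two]; exact (sum_ani_S hR h2 hM).2] at h
  have hz2 : z ^ 2 + (O R 0 : ℂ) * k ^ 2 = z := by
    refine mul_left_cancel₀ (Nat.cast_ne_zero.2 (Finset.card_ne_zero.2 ⟨_, w_mem_ani (R := R)⟩)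
      : ((ani R).card : ℂ) ≠ 0) ?_
    linear_combination h
  have hO : (O R 0 : ℂ) ≠ 0 := by
    rw [← card_iso]
    exact Nat.cast_ne_zero.2 (Finset.card_ne_zero.2 ⟨_, u_mem_iso⟩)
  have hprod : (1 - z) * (1 - z - (O R 0 : ℂ) * z) = 0 := by
    linear_combination (O R 0 : ℂ) * hz2 + (1 - z + (O R 0 : ℂ) * k) * hk
  have hM' := congrArg (Nat.cast : ℕ → ℂ) hM
  push_cast at hM'
  rcases mul_eq_zero.1 hprod with h1 | h1
  · left
    obtain rfl : z = 1 := by linear_combination -h1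
    rcases eq_or_ne k 0 with hk0 | hk0
    · rw [hk0] at hmain
      have hne : (Fintype.card F : ℂ) * Fintype.card ((F × F) × Z) - 1 ≠ 0 := by
        intro h0
        have h0' : Fintype.card F * Fintype.card ((F × F) × Z) = 1 := by
          exact_mod_cast sub_eq_zero.1 h0
        have := Fintype.one_lt_card (α := F)
        have := Nat.eq_one_of_mul_eq_one_right h0'
        omega
      refine mul_left_cancel₀ hne ?_
      linear_combination hmain
    · exact absurd (by linear_combination -hk) (mul_ne_zero hO hk0)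
  · right
    linear_combination hmain - (Module.finrank ℂ X : ℂ) * Fintype.card F *
      Fintype.card ((F × F) × Z) * hz2 -
      (Module.finrank ℂ X : ℂ) * Fintype.card F * z * hM' +
      (Module.finrank ℂ X : ℂ) * (Fintype.card F : ℂ) ^ 2 * h1

end Cfsg.Agent.OrthOddMinDegree32Sum
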