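import Mathlib
import Cfsg.Agent.Lib.OrthOddMinDegree32Sum

/-!
The fixed space of the radical against its opposite: the full fixed space, the part fixed by the
Levi complement, and Schur's lemma.
-/

set_option autoImplicit false
set_option maxHeartbeats 1000000

namespace Cfsg.Agent.OrthOddMinDegree32Scalar

open QuadraticMap
open Cfsg.Agent.OrthUnitaryQuad
open Cfsg.Agent.OrthUnitaryRefl
open Cfsg.Agent.OrthUnitarySimple
open Cfsg.Agent.OrthUnitaryStd
open Cfsg.Agent.OrthMinDegree32Geom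
open Cfsg.Agent.OrthMinDegree32
open Cfsg.Agent.SUMinDegree32Eigen
open Cfsg.Agent.SLMinDegree32Spec
open Cfsg.Agent.OrthOddMinDegree32Tools
open Cfsg.Agent.OrthOddMinDegree32Core
open Cfsg.Agent.OrthOddMinDegree32Sum

/-- A representation of least possible degree among nontrivial ones is irreducible. -/
theorem irreducible_of_bound {G : Type*} [Group G] [Finite G] {X : Type} [AddCommGroup X]
    [Module ℂ X] [FiniteDimensional ℂ X] (σ : Representation ℂ G X)
    (h : ∀ (U : Type) [AddCommGroup U] [Module ℂ U] [FiniteDimensional ℂ U]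
      (τ : Representation ℂ G U), (∃ g, τ g ≠ 1) → Module.finrank ℂ X ≤ Module.finrank ℂ U)
    (hnt : ∃ g, σ g ≠ 1) : σ.IsIrreducible := by
  obtain ⟨g, hg⟩ := hnt
  haveI : Nontrivial X := by
    by_contra hc
    haveI := not_nontrivial_iff_subsingleton.1 hc
    exact hg (LinearMap.ext fun v => Subsingleton.elim _ _)
  by_contra hirr
  obtain ⟨U, U', hc, -, -, h1, h2⟩ := CharBasic.exists_decomposition hirr
  by_cases hU : U.toRepresentation g = 1
  · have hU' : U'.toRepresentation g ≠ 1 := fun e => hg (LinearMap.ext fun v => by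
      obtain ⟨a, ha, b, hb, rfl⟩ := Submodule.mem_sup.1 (hc.sup_eq_top ▸ Submodule.mem_top :
        v ∈ U.toSubmodule ⊔ U'.toSubmodule)
      have e1 : σ g a = a := congrArg (fun T : Module.End ℂ U.toSubmodule => (T ⟨a, ha⟩ : X)) hU
      have e2 : σ g b = b := congrArg (fun T : Module.End ℂ U'.toSubmodule => (T ⟨b, hb⟩ : X)) e
      rw [map_add, e1, e2, Module.End.one_apply])
    exact absurd (h _ U'.toRepresentation ⟨g, hU'⟩) (not_le.2 h2)
  · exact absurd (h _ U.toRepresentation ⟨g, hU⟩) (not_le.2 h1)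

variable {F Z : Type*} [Field F] [Fintype F] [AddCommGroup Z] [Module F Z] [Fintype Z]
  [FiniteDimensional F Z] {R : QuadraticForm F Z} (hR : (polarBilin R).Nondegenerate)
  (h2 : 2 ≤ Module.finrank F Z) {X : Type} [AddCommGroup X] [Module ℂ X]
  (ρ : Representation ℂ (sGroup (hypExt (hypExt R))) X)

include hR h2

theorem sub_E0 : Sub hR h2 ρ (E0 hR h2 ρ) where
  idem := P_mul_P (D_add hR h2 ρ) 0
  left := P_mul_P (D_add hR h2 ρ) 0
  right := P_mul_P (D_add hR h2 ρ) 0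
  lift _ hg := E0_lift hR h2 ρ hg
  kk _ _ hw hw' := E0_kk hR h2 ρ hw hw'
  cross := rfl

theorem E0_levi (g : sGroup (hypExt R)) : Commute (ρ (levi hR h2 g)) (E0 hR h2 ρ) :=
  E0_lift hR h2 ρ (g := g.1) (hypLift_mem hR h2 (Or.inl g.2))

theorem kE_levi {w : (F × F) × Z} (hw : hypExt R w ≠ 0) (g : sGroup (hypExt R)) :
    kE hR h2 w * levi hR h2 g = levi hR h2 ⟨refl (hypExt R) w hw * g.1 * (refl (hypExt R) w hw)⁻¹,
      (sGroup_normal (Q := hypExt R)).conj_mem g.1 g.2 _⟩ * kE hR h2 w :=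
  Subtype.ext (mul_inv_eq_iff_eq_mul.1 (kW_conj_hypLift hw g.1))

/-- Schur's lemma on the fixed space. -/
theorem scalar_of_irreducible [FiniteDimensional ℂ X]
    (hirr : (fixRep hR h2 ρ).IsIrreducible) :
    ∃ z : ℂ, E0 hR h2 ρ * bar hR h2 ρ (E0 hR h2 ρ) * E0 hR h2 ρ = z • E0 hR h2 ρ := by
  haveI := hirr
  set A := E0 hR h2 ρ * bar hR h2 ρ (E0 hR h2 ρ) * E0 hR h2 ρ with hA
  have hmem : ∀ v, E0 hR h2 ρ v ∈ eig (D hR h2 ρ) 0 := P_mem (D_add hR h2 ρ) 0
  have hAmem : ∀ v ∈ eig (D hR h2 ρ) 0, A v ∈ eig (D hR h2 ρ) 0 := fun v _ => hmem _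
  obtain ⟨c, hc, -⟩ := CharBasic.exists_scalar_of_commute (fixRep hR h2 ρ) (A.restrict hAmem)
    fun g v => by
      apply Subtype.ext
      show A (ρ (levi hR h2 g) v) = ρ (levi hR h2 g) (A v)
      rw [← Module.End.mul_apply, ← Module.End.mul_apply]
      refine congrArg (fun T : Module.End ℂ X => T v) (Commute.eq ?_)
      refine Commute.symm ((Commute.mul_right ?_ ?_).mul_right (E0_levi hR h2 ρ g))
      · exact E0_levi hR h2 ρ g
      · exact bar_lift (sub_E0 hR h2 ρ) g.1 (hypLift_mem hR h2 (Or.inl g.2))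
  refine ⟨c, LinearMap.ext fun v => ?_⟩
  have h := congrArg (fun T : Module.End ℂ (eig (D hR h2 ρ) 0) => (T ⟨_, hmem v⟩ : X)) hc
  simp only [LinearMap.smul_apply, LinearMap.id_apply, Submodule.coe_smul] at h
  refine Eq.trans ?_ h
  show _ = A (E0 hR h2 ρ v)
  rw [← Module.End.mul_apply, hA, mul_assoc _ (E0 hR h2 ρ), (sub_E0 hR h2 ρ).idem]

/-! ### Vectors fixed by the Levi complement -/

/-- The average over the Levi complement, cut down to the fixed space. -/
noncomputable def avgE : Module.End ℂ X :=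
  haveI := finite_orth (hypExt R)
  letI : Fintype (sGroup (hypExt R)) := Fintype.ofFinite _
  (Nat.card (sGroup (hypExt R)) : ℂ)⁻¹ • (∑ g : sGroup (hypExt R), ρ (levi hR h2 g)) *
    E0 hR h2 ρ

theorem levi_avgE (g : sGroup (hypExt R)) :
    ρ (levi hR h2 g) * avgE hR h2 ρ = avgE hR h2 ρ := by
  haveI := finite_orth (hypExt R)
  letI : Fintype (sGroup (hypExt R)) := Fintype.ofFinite _
  rw [avgE, ← mul_assoc, mul_smul_comm, Finset.mul_sum]
  congr 2
  refine Fintype.sum_equiv (Equiv.mulLeft g) _ _ fun k => ?_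
  rw [← map_mul, ← map_mul, Equiv.coe_mulLeft]

theorem avgE_of_fixed {v : X} (hv : v ∈ eig (D hR h2 ρ) 0)
    (hfix : ∀ g, ρ (levi hR h2 g) v = v) : avgE hR h2 ρ v = v := by
  haveI := finite_orth (hypExt R)
  letI : Fintype (sGroup (hypExt R)) := Fintype.ofFinite _
  rw [avgE, Module.End.mul_apply, show E0 hR h2 ρ v = v from P_of_mem hv, LinearMap.smul_apply,
    LinearMap.sum_apply, Finset.sum_congr rfl (fun g _ => hfix g), Finset.sum_const,
    Finset.card_univ, ← Nat.cast_smul_eq_nsmul ℂ, ← Nat.card_eq_fintype_card,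
    inv_smul_smul₀ (Nat.cast_ne_zero.2 Nat.card_pos.ne')]

theorem avgE_commute {x : sGroup (hypExt (hypExt R))} (φ : orth (hypExt R))
    (h : ∀ g : sGroup (hypExt R), x * levi hR h2 g =
      levi hR h2 ⟨φ * g.1 * φ⁻¹, (sGroup_normal (Q := hypExt R)).conj_mem g.1 g.2 φ⟩ * x)
    (h0 : Commute (ρ x) (E0 hR h2 ρ)) : Commute (ρ x) (avgE hR h2 ρ) := by
  haveI := finite_orth (hypExt R)
  letI : Fintype (sGroup (hypExt R)) := Fintype.ofFinite _
  refine Commute.mul_right (Commute.smul_right ?_ _) h0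
  show _ = _
  rw [Finset.mul_sum, Finset.sum_mul]
  let e : sGroup (hypExt R) ≃ sGroup (hypExt R) :=
    { toFun := fun g => ⟨φ * g.1 * φ⁻¹, (sGroup_normal (Q := hypExt R)).conj_mem g.1 g.2 φ⟩
      invFun := fun g => ⟨φ⁻¹ * g.1 * φ⁻¹⁻¹, (sGroup_normal (Q := hypExt R)).conj_mem g.1 g.2 φ⁻¹⟩
      left_inv := fun g => Subtype.ext (by
        show φ⁻¹ * (φ * g.1 * φ⁻¹) * φ⁻¹⁻¹ = g.1
        group)
      right_inv := fun g => Subtype.ext (by
        show φ * (φ⁻¹ * g.1 * φ⁻¹⁻¹) * φ⁻¹ = g.1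
        group) }
  refine Fintype.sum_equiv e _ _ fun g => ?_
  rw [← map_mul, ← map_mul, h]
  rfl

theorem sub_avgE : Sub hR h2 ρ (avgE hR h2 ρ) := by
  haveI := finite_orth (hypExt R)
  letI : Fintype (sGroup (hypExt R)) := Fintype.ofFinite _
  have hidem : avgE hR h2 ρ * avgE hR h2 ρ = avgE hR h2 ρ := by
    refine LinearMap.ext fun v => avgE_of_fixed hR h2 ρ ?_ fun g =>
      congrArg (fun T : Module.End ℂ X => T v) (levi_avgE hR h2 ρ g)
    rw [avgE, Module.End.mul_apply, LinearMap.smul_apply, LinearMap.sum_apply]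
    exact Submodule.smul_mem _ _ (Submodule.sum_mem _ fun g _ =>
      levi_map_fix hR h2 ρ g _ (P_mem (D_add hR h2 ρ) 0 v))
  have hleft : E0 hR h2 ρ * avgE hR h2 ρ = avgE hR h2 ρ := by
    have hc : Commute (E0 hR h2 ρ)
        ((Nat.card (sGroup (hypExt R)) : ℂ)⁻¹ • ∑ g : sGroup (hypExt R), ρ (levi hR h2 g)) :=
      (Commute.sum_right _ _ _ fun g _ => (E0_levi hR h2 ρ g).symm).smul_right _
    rw [avgE, ← mul_assoc, hc.eq, mul_assoc, (sub_E0 hR h2 ρ).idem]
  have hlift : ∀ (g : orth (hypExt R)) (hg : hypLift (hypExt R) g ∈ sGroup (hypExt (hypExt R))),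
      Commute (ρ ⟨_, hg⟩) (avgE hR h2 ρ) := fun g hg =>
    avgE_commute hR h2 ρ g (fun k => Subtype.ext (by
      show hypLift (hypExt R) g * hypLift (hypExt R) k.1 =
        hypLift (hypExt R) (g * k.1 * g⁻¹) * hypLift (hypExt R) g
      rw [← map_mul, ← map_mul, inv_mul_cancel_right])) (E0_lift hR h2 ρ hg)
  have hkk : ∀ w w', hypExt R w ≠ 0 → hypExt R w' ≠ 0 →
      Commute (ρ (kE hR h2 w * kE hR h2 w')) (avgE hR h2 ρ) := fun w w' hw hw' =>
    avgE_commute hR h2 ρ (refl (hypExt R) w hw * refl (hypExt R) w' hw') (fun k => by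
      rw [mul_assoc, kE_levi hR h2 hw', ← mul_assoc, kE_levi hR h2 hw, mul_assoc]
      congr 2
      all_goals exact Subtype.ext (by group)) (E0_kk hR h2 ρ hw hw')
  refine ⟨hidem, hleft, ?_, hlift, hkk, ?_⟩
  · rw [avgE, mul_assoc, (sub_E0 hR h2 ρ).idem]
  have hb : ∀ g : sGroup (hypExt R),
      ρ (levi hR h2 g) * bar hR h2 ρ (avgE hR h2 ρ) = bar hR h2 ρ (avgE hR h2 ρ) := by
    intro g
    have e := kE_levi hR h2 (w := ((1, 1), 0)) w0_ne
      ⟨(refl (hypExt R) ((1, 1), 0) w0_ne)⁻¹ * g.1 * (refl (hypExt R) ((1, 1), 0) w0_ne)⁻¹⁻¹,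
        (sGroup_normal (Q := hypExt R)).conj_mem g.1 g.2 _⟩
    have e2 := congrArg ρ e
    rw [map_mul, map_mul] at e2
    rw [bar, K0, ← mul_assoc, ← mul_assoc]
    have hg : (⟨refl (hypExt R) ((1, 1), 0) w0_ne * ((refl (hypExt R) ((1, 1), 0) w0_ne)⁻¹ * g.1 *
        (refl (hypExt R) ((1, 1), 0) w0_ne)⁻¹⁻¹) * (refl (hypExt R) ((1, 1), 0) w0_ne)⁻¹,
        (sGroup_normal (Q := hypExt R)).conj_mem _
          ((sGroup_normal (Q := hypExt R)).conj_mem g.1 g.2 _) _⟩ : sGroup (hypExt R)) = g :=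
      Subtype.ext (by group)
    rw [hg] at e2
    rw [← e2, mul_assoc (ρ (kE hR h2 ((1, 1), 0))), levi_avgE]
  calc E0 hR h2 ρ * bar hR h2 ρ (avgE hR h2 ρ)
      = E0 hR h2 ρ * ((Nat.card (sGroup (hypExt R)) : ℂ)⁻¹ •
          (∑ g : sGroup (hypExt R), ρ (levi hR h2 g)) * bar hR h2 ρ (avgE hR h2 ρ)) := by
        congr 1
        rw [smul_mul_assoc, Finset.sum_mul, Finset.sum_congr rfl (fun g _ => hb g),
          Finset.sum_const, Finset.card_univ, ← Nat.cast_smul_eq_nsmul ℂ,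
          ← Nat.card_eq_fintype_card, inv_smul_smul₀ (Nat.cast_ne_zero.2 Nat.card_pos.ne')]
    _ = _ := by
        rw [← mul_assoc, avgE]
        congr 1
        exact ((Commute.sum_right _ _ _ fun g _ => (E0_levi hR h2 ρ g).symm).smul_right _).eq

variable [FiniteDimensional ℂ X] [ρ.IsIrreducible]

/-- The Levi complement fixes no vector of the fixed space outside one exceptional degree. -/
theorem fixed_eq_zero (h3 : 3 ≤ Module.finrank F Z) (hd0 : d hR h2 ρ 0 = 1)
    (hdz : ∀ b, b ≠ 0 → d hR h2 ρ b = 0)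
    (hM : Fintype.card ((F × F) × Z) = Fintype.card F * (O R 0 + 1))
    (hN1 : Module.finrank ℂ X ≠ 1)
    (hne : (Module.finrank ℂ X : ℂ) * ((Fintype.card F : ℂ) ^ 2 - 1) + 1 ≠
      (Fintype.card F : ℂ) * Fintype.card ((F × F) × Z))
    {v : X} (hv : v ∈ eig (D hR h2 ρ) 0) (hfix : ∀ g, ρ (levi hR h2 g) v = v) : v = 0 := by
  classical
  have hS := sub_avgE hR h2 ρ
  set E' := avgE hR h2 ρ with hE'
  set u : (F × F) × Z := ((1, 0), 0) with hu
  set U := LinearMap.range E' with hUdef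
  have hUmem : ∀ x ∈ U, x ∈ eig (D hR h2 ρ) 0 ∧ ∀ g, ρ (levi hR h2 g) x = x := by
    rintro _ ⟨y, rfl⟩
    refine ⟨mem_eig_zero.2 fun a => ?_, fun g => ?_⟩
    · exact congrArg (fun T : Module.End ℂ X => T y) (D_E' hS a)
    · exact congrArg (fun T : Module.End ℂ X => T y) (levi_avgE hR h2 ρ g)
  -- vectors killed by the compressed swap are fixed by everything
  have hker : ∀ x ∈ U, P (D hR h2 ρ) (chi (hypExt R) u) (K0 hR h2 ρ x) = 0 → x = 0 := by
    intro x hx h0
    obtain ⟨hxW, hxL⟩ := hUmem x hx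
    have hyL : ∀ g, ρ (levi hR h2 g) (K0 hR h2 ρ x) = K0 hR h2 ρ x := by
      intro g
      have hrefl : (refl (hypExt R) ((1, 1), 0) (w0_ne (R := R)))⁻¹ =
          refl (hypExt R) ((1, 1), 0) (w0_ne (R := R)) :=
        inv_eq_of_mul_eq_one_right (refl_sq _ _)
      have e := kE_levi hR h2 (w := ((1, 1), 0)) w0_ne
        ⟨refl (hypExt R) ((1, 1), 0) w0_ne * g.1 * (refl (hypExt R) ((1, 1), 0) w0_ne)⁻¹,
          (sGroup_normal (Q := hypExt R)).conj_mem g.1 g.2 _⟩
      have hg : ∀ hh, (⟨refl (hypExt R) ((1, 1), 0) w0_ne * (refl (hypExt R) ((1, 1), 0) w0_ne *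
          g.1 * (refl (hypExt R) ((1, 1), 0) w0_ne)⁻¹) * (refl (hypExt R) ((1, 1), 0) w0_ne)⁻¹,
          hh⟩ : sGroup (hypExt R)) = g := fun hh => Subtype.ext (by
        show _ * (_ * g.1 * _) * _ = g.1
        rw [hrefl]
        have h1 := refl_sq (Q := hypExt R) ((1, 1), 0) w0_ne
        simp only [← mul_assoc, h1, one_mul]
        simp only [mul_assoc, h1, mul_one])
      rw [hg] at e
      rw [K0, ← Module.End.mul_apply, ← map_mul, ← e, map_mul, Module.End.mul_apply, hxL]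
    have hPc : ∀ c ∈ iso R, P (D hR h2 ρ) (chi (hypExt R) c) (K0 hR h2 ρ x) = 0 := by
      intro c hc
      obtain ⟨g, hg, e⟩ := exists_mem_sGroup hR h3 (mem_iso.1 (u_mem_iso (R := R))).1
        (mem_iso.1 hc).1 (by rw [(mem_iso.1 hc).2]; simp [hypExt_apply])
      have hP : ρ (levi hR h2 ⟨g, hg⟩) * P (D hR h2 ρ) (chi (hypExt R) u) =
          P (D hR h2 ρ) (chi (hypExt R) c) * ρ (levi hR h2 ⟨g, hg⟩) := by
        rw [comm_P (D := D hR h2 ρ) g.1.toAddEquiv (fun a => by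
          rw [D, D, ← map_mul, ← map_mul]
          exact congrArg ρ (lift_r hR h2 _ a)), ← e]
        congr 2
        ext a
        show SLMinDegree32.phi0 (polar (hypExt R) u (g.1.symm a)) =
          SLMinDegree32.phi0 (polar (hypExt R) (g.1 u) a)
        rw [← polar_orth g u (g.1.symm a), LinearEquiv.apply_symm_apply]
      have h' := congrArg (fun T : Module.End ℂ X => T (K0 hR h2 ρ x)) hP
      simp only [Module.End.mul_apply, h0, map_zero, hyL] at h'
      exact h'.symm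
    have hyW : K0 hR h2 ρ x ∈ eig (D hR h2 ρ) 0 := by
      have hone := congrArg (fun T : Module.End ℂ X => T (K0 hR h2 ρ x))
        (D_eq hR h2 hdz (ρ := ρ) 0)
      simp only [LinearMap.add_apply, LinearMap.sum_apply, LinearMap.smul_apply, D_zero,
        Module.End.one_apply] at hone
      rw [Finset.sum_eq_zero (fun c hc => by rw [hPc c hc, smul_zero]), add_zero] at hone
      rw [hone]
      exact P_mem (D_add hR h2 ρ) 0 _
    let Fy : Subgroup (orth (hypExt (hypExt R))) :=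
      { carrier := {g | ∃ hg, ρ (⟨g, hg⟩ : sGroup (hypExt (hypExt R))) (K0 hR h2 ρ x) =
          K0 hR h2 ρ x}
        one_mem' := ⟨Subgroup.one_mem _, by
          show ρ 1 _ = _
          rw [map_one, Module.End.one_apply]⟩
        mul_mem' := fun {g h} ⟨hg, hg'⟩ ⟨hh, hh'⟩ => ⟨Subgroup.mul_mem _ hg hh, by
          show ρ (⟨g, hg⟩ * ⟨h, hh⟩) _ = _
          rw [map_mul, Module.End.mul_apply, hh', hg']⟩
        inv_mem' := fun {g} ⟨hg, hg'⟩ => ⟨Subgroup.inv_mem _ hg, by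
          show ρ (⟨g, hg⟩⁻¹) _ = _
          conv_lhs => rw [← hg']
          rw [← Module.End.mul_apply, ← map_mul, inv_mul_cancel, map_one, Module.End.one_apply]⟩ }
    have hHS : HS (hypExt R) ≤ Fy := by
      rw [HS, Subgroup.closure_le]
      rintro _ (⟨a, rfl⟩ | ⟨a, rfl⟩)
      · exact ⟨_, mem_eig_zero.1 hyW a⟩
      · refine ⟨sS_mem (nondeg' hR h2) (three_le hR h2) a, ?_⟩
        show ρ (sE hR h2 a) (K0 hR h2 ρ x) = K0 hR h2 ρ x
        have hx' : E' x = x := avgE_of_fixed hR h2 ρ hxW hxL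
        have hb : K0 hR h2 ρ x = bar hR h2 ρ E' (K0 hR h2 ρ x) := by
          rw [bar, Module.End.mul_apply, Module.End.mul_apply, ← Module.End.mul_apply (K0 hR h2 ρ)
            (K0 hR h2 ρ) x, K0, K_sq w0_ne, Module.End.one_apply, hx']
        rw [hb, ← Module.End.mul_apply, (sE_bar hS a).1]
    have hall : ∀ g, ρ g (K0 hR h2 ρ x) = K0 hR h2 ρ x := fun g => by
      obtain ⟨_, h⟩ := (sGroup_le_HS (nondeg' hR h2) (three_le hR h2)).trans hHS g.2
      exact h
    let L : Subrepresentation ρ := ⟨ℂ ∙ K0 hR h2 ρ x, fun g y hy => by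
      obtain ⟨c, rfl⟩ := Submodule.mem_span_singleton.1 hy
      rw [map_smul, hall]
      exact Submodule.smul_mem _ _ (Submodule.mem_span_singleton_self _)⟩
    have hy0 : K0 hR h2 ρ x = 0 := by
      by_contra hne'
      rcases eq_bot_or_eq_top L with h | h
      · exact hne' ((Submodule.span_singleton_eq_bot (R := ℂ)).1
          (congrArg Subrepresentation.toSubmodule h))
      · have h' : (ℂ ∙ K0 hR h2 ρ x) = ⊤ := congrArg Subrepresentation.toSubmodule h
        have hf := finrank_span_singleton (K := ℂ) hne'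
        rw [h', finrank_top] at hf
        exact hN1 hf
    exact rho_injective ρ _ (hy0.trans (map_zero _).symm)
  let Φ : U →ₗ[ℂ] E hR h2 ρ u := (P (D hR h2 ρ) (chi (hypExt R) u) ∘ₗ K0 hR h2 ρ ∘ₗ U.subtype)
    |>.codRestrict _ fun x => P_mem (D_add hR h2 ρ) _ _
  have hΦ : Function.Injective Φ := by
    rw [← LinearMap.ker_eq_bot, LinearMap.ker_eq_bot']
    intro x hx
    exact Subtype.ext (hker x x.2 (congrArg Subtype.val hx))
  have hle := LinearMap.finrank_le_finrank_of_injective hΦ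
  rw [finrank_iso hR h2 hd0 u_mem_iso] at hle
  have hvU : v ∈ U := ⟨v, avgE_of_fixed hR h2 ρ hv hfix⟩
  rcases Nat.le_one_iff_eq_zero_or_eq_one.1 hle with h0 | h1
  · rw [Submodule.finrank_eq_zero.1 h0] at hvU
    exact (Submodule.mem_bot ℂ).1 hvU
  exfalso
  have hproj := isProj_range hS.idem
  have htr : LinearMap.trace ℂ X E' = ((1 : ℕ) : ℂ) := by
    rw [hproj.trace, h1]
  have hz := mid_eq hproj h1 (bar hR h2 ρ E')
  rcases line_case hd0 hdz hS hz htr hM rfl with h | h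
  · exact hN1 (by exact_mod_cast h)
  · exact hne h

end Cfsg.Agent.OrthOddMinDegree32Scalar
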