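import Mathlib
import Cfsg.Agent.Lib.OrthOddMinDegree32Scalar
import Cfsg.Agent.Lib.OrthMinDegree32Fix

/-!
Seven dimensions: the fixed space of the radical, decomposed along the radical of the Levi
complement `sGroup (hypExt (hypExt T))`, where `T` is anisotropic of dimension one.
-/

set_option autoImplicit false
set_option maxHeartbeats 1600000

namespace Cfsg.Agent.OrthOddMinDegree32Base

open QuadraticMap
open Cfsg.Agent.OrthUnitaryQuad
open Cfsg.Agent.OrthUnitaryRefl
open Cfsg.Agent.OrthUnitaryOmega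
open Cfsg.Agent.OrthUnitarySimple
open Cfsg.Agent.OrthUnitaryStd
open Cfsg.Agent.OrthMinDegree32Geom
open Cfsg.Agent.OrthMinDegree32Count
open Cfsg.Agent.OrthMinDegree32
open Cfsg.Agent.OrthMinDegree32Fix (rS_fix_iff)
open Cfsg.Agent.SUMinDegree32Eigen
open Cfsg.Agent.SLMinDegree32Spec
open Cfsg.Agent.SLMinDegree32 (phi0 phi0_ne)
open Cfsg.Agent.OrthOddMinDegree32Tools
open Cfsg.Agent.OrthOddMinDegree32Core
open Cfsg.Agent.OrthOddMinDegree32Sum
open Cfsg.Agent.OrthOddMinDegree32Scalar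
open scoped commutatorElement

/-! ### Spectral tools -/

section Spec

variable {A : Type*} [AddCommGroup A] [Fintype A] {V : Type*} [AddCommGroup V] [Module ℂ V]
  {D : A → Module.End ℂ V} (hadd : ∀ a b, D (a + b) = D a * D b)

include hadd

theorem commute_P (a : A) (ψ : AddChar A ℂ) : Commute (D a) (P D ψ) := by
  have e := comm_P (D := D) (G := D a) (AddEquiv.refl A) (fun b => by
    rw [AddEquiv.refl_apply, ← hadd, ← hadd, add_comm]) ψ
  rwa [show ψ.compAddMonoidHom (AddEquiv.refl A).symm.toAddMonoidHom = ψ from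
    by ext b; rfl] at e

theorem P_eq_zero_of_scalar {v : V} {a : A} {c : ℂ} (hv : D a v = c • v) {ψ : AddChar A ℂ}
    (hne : ψ a ≠ c) : P D ψ v = 0 := by
  have h1 := congrArg (fun T : Module.End ℂ V => T v) (D_mul_P hadd a ψ)
  have h2 := congrArg (fun T : Module.End ℂ V => T v) (commute_P hadd a ψ).eq
  simp only [Module.End.mul_apply, LinearMap.smul_apply] at h1 h2
  rw [h1, hv, map_smul] at h2
  have h3 : (ψ a - c) • P D ψ v = 0 := by rw [sub_smul, h2, sub_self]
  exact (smul_eq_zero.1 h3).resolve_left (sub_ne_zero.2 hne)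

end Spec

theorem polar_hypExt' {F W : Type*} [Field F] [AddCommGroup W] [Module F W]
    (Q : QuadraticForm F W) (u v : (F × F) × W) :
    polar (hypExt Q) u v = u.1.1 * v.1.2 + v.1.1 * u.1.2 + polar Q u.2 v.2 :=
  polar_hypExt Q _ _ _ _ _ _

theorem hypExt_apply' {F W : Type*} [Field F] [AddCommGroup W] [Module F W]
    (Q : QuadraticForm F W) (u : (F × F) × W) : hypExt Q u = u.1.1 * u.1.2 + Q u.2 :=
  hypExt_apply Q _ _ _

variable {F Y : Type*} [Field F] [Fintype F] [AddCommGroup Y] [Module F Y] [Fintype Y]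
  [FiniteDimensional F Y] {T : QuadraticForm F Y} (hT : (polarBilin T).Nondegenerate)
  (hA : ∀ p, T p = 0 → p = 0) (hY : Module.finrank F Y = 1)

include hT hY

omit hY in
theorem hR3 : (polarBilin (hypExt T)).Nondegenerate := nondegenerate_hypExt hT

theorem h3 : 3 ≤ Module.finrank F ((F × F) × Y) := by rw [finrank_hypExt_space]; omega

theorem h23 : 2 ≤ Module.finrank F ((F × F) × Y) := by rw [finrank_hypExt_space]; omega

/-- The root elements of the radical of the Levi complement. -/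
noncomputable def rr (z : (F × F) × Y) : sGroup (hypExt (hypExt T)) :=
  ⟨rS (hypExt T) z, rS_mem (hR3 hT) (h3 hT hY) z⟩

theorem rr_add (v w : (F × F) × Y) : rr hT hY (v + w) = rr hT hY v * rr hT hY w :=
  Subtype.ext (rS_add v w)

theorem rr_zero : rr hT hY (0 : (F × F) × Y) = 1 := Subtype.ext rS_zero

variable {X : Type} [AddCommGroup X] [Module ℂ X]
  (ρ : Representation ℂ (sGroup (hypExt (hypExt (hypExt T)))) X)

/-- The operators of the radical of the Levi complement. -/
noncomputable def Dz : (F × F) × Y → Module.End ℂ X :=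
  fun z => ρ (levi (hR3 hT) (h23 hT hY) (rr hT hY z))

theorem Dz_add (v w : (F × F) × Y) : Dz hT hY ρ (v + w) = Dz hT hY ρ v * Dz hT hY ρ w := by
  rw [Dz, rr_add, map_mul, map_mul]; rfl

theorem Dz_zero : Dz hT hY ρ 0 = 1 := by rw [Dz, rr_zero, map_one, map_one]

/-- The part of the fixed space belonging to a vector. -/
noncomputable def EW (c : (F × F) × Y) : Submodule ℂ X :=
  eig (D (hR3 hT) (h23 hT hY) ρ) 0 ⊓ eig (Dz hT hY ρ) (chi (hypExt T) c)

theorem E0_Dz (a : (F × F) × Y) :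
    Commute (Dz hT hY ρ a) (E0 (hR3 hT) (h23 hT hY) ρ) :=
  E0_levi (hR3 hT) (h23 hT hY) ρ _

theorem P_E0_commute (ψ : AddChar ((F × F) × Y) ℂ) :
    Commute (P (Dz hT hY ρ) ψ) (E0 (hR3 hT) (h23 hT hY) ρ) := by
  rw [P]
  exact (Commute.sum_left _ _ _ fun a _ => (E0_Dz hT hY ρ a).smul_left _).smul_left _

theorem P_E0_isProj (c : (F × F) × Y) : LinearMap.IsProj (EW hT hY ρ c)
    (P (Dz hT hY ρ) (chi (hypExt T) c) * E0 (hR3 hT) (h23 hT hY) ρ) := by
  refine ⟨fun v => ⟨?_, P_mem (Dz_add hT hY ρ) _ _⟩, fun v hv => ?_⟩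
  · show (P (Dz hT hY ρ) (chi (hypExt T) c) * E0 (hR3 hT) (h23 hT hY) ρ) v ∈ _
    rw [(P_E0_commute hT hY ρ _).eq]
    exact P_mem (D_add _ _ ρ) 0 _
  · rw [Module.End.mul_apply, show E0 (hR3 hT) (h23 hT hY) ρ v = v from P_of_mem hv.1,
      P_of_mem hv.2]

variable [FiniteDimensional ℂ X]

theorem trace_Dz_E0 (z : (F × F) × Y) :
    LinearMap.trace ℂ X (Dz hT hY ρ z * E0 (hR3 hT) (h23 hT hY) ρ) =
      ∑ c, chi (hypExt T) c z * (Module.finrank ℂ (EW hT hY ρ c) : ℂ) := by
  classical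
  conv_lhs => rw [← mul_one (Dz hT hY ρ z), ← sum_P (Dz_zero hT hY ρ), Finset.mul_sum,
    Finset.sum_mul, map_sum]
  rw [← (Equiv.ofBijective _ (chi_bijective (hR3 hT))).sum_comp]
  refine Finset.sum_congr rfl fun c _ => ?_
  rw [D_mul_P (Dz_add hT hY ρ), smul_mul_assoc, map_smul, smul_eq_mul]
  exact congrArg _ (P_E0_isProj hT hY ρ c).trace

variable (hd0 : d (hR3 hT) (h23 hT hY) ρ 0 = 1)
  (hdz : ∀ b, b ≠ 0 → d (hR3 hT) (h23 hT hY) ρ b = 0)

/-! ### The swap of two planes -/

include hdz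

theorem EW_aniso {c : (F × F) × Y} (hc : hypExt T c ≠ 0) : EW hT hY ρ c = ⊥ := by
  classical
  rw [Submodule.eq_bot_iff]
  rintro v ⟨hv0, hvc⟩
  set hR := hR3 hT
  set h2 := h23 hT hY
  set e1 : (F × F) × (F × F) × (F × F) × Y := ((1, 0), 0) with he1
  set f1 : (F × F) × (F × F) × (F × F) × Y := ((0, 1), 0) with hf1
  set e2 : (F × F) × (F × F) × (F × F) × Y := ((0, 0), ((1, 0), 0)) with he2
  set f2 : (F × F) × (F × F) × (F × F) × Y := ((0, 0), ((0, 1), 0)) with hf2
  have hmem := fun (a b : (F × F) × (F × F) × (F × F) × Y) ha hb =>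
    siegel_mem' (nondeg' hR h2) (three_le hR h2) (a := a) (b := b) ha hb
  set u' : sGroup (hypExt (hypExt (hypExt T))) :=
    ⟨siegel (hypExt (hypExt (hypExt T))) e2 (-f1) (by simp [he2, hypExt_apply])
      (by simp [he2, hf1, polar_hypExt]), hmem _ _ _ _⟩ with hu'
  set l : sGroup (hypExt (hypExt (hypExt T))) :=
    ⟨siegel (hypExt (hypExt (hypExt T))) e1 f2 (by simp [he1, hypExt_apply])
      (by simp [he1, hf2, polar_hypExt]), hmem _ _ _ _⟩ with hl
  set s := u' * l * u' with hs
  have hse1 : s.1.1 e1 = e2 := by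
    show ((u'.1 * l.1) * u'.1).1 e1 = e2
    rw [orth_mul_apply, orth_mul_apply, hu', hl]
    simp only [siegel_apply]
    simp [he1, he2, hf1, hf2, polar_hypExt', hypExt_apply', Prod.ext_iff]
  have hse2 : s.1.1 e2 = -e1 := by
    show ((u'.1 * l.1) * u'.1).1 e2 = -e1
    rw [orth_mul_apply, orth_mul_apply, hu', hl]
    simp only [siegel_apply]
    simp [he1, he2, hf1, hf2, polar_hypExt', hypExt_apply', Prod.ext_iff]
  have hsz : ∀ z : (F × F) × Y, s.1.1 ((0, 0), ((0, 0), z)) = ((0, 0), ((0, 0), z)) := by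
    intro z
    show ((u'.1 * l.1) * u'.1).1 _ = _
    have hfix : ∀ g : sGroup (hypExt (hypExt (hypExt T))), g = u' ∨ g = l →
        g.1.1 ((0, 0), ((0, 0), z)) = ((0, 0), ((0, 0), z)) := by
      rintro g (rfl | rfl) <;>
      · simp only [hu', hl, siegel_apply]
        simp [he1, he2, hf1, hf2, polar_hypExt', hypExt_apply', Prod.ext_iff]
    rw [orth_mul_apply, orth_mul_apply, hfix u' (Or.inl rfl), hfix l (Or.inr rfl),
      hfix u' (Or.inl rfl)]
  -- the translate is an eigenvector of part of the radical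
  have hconj1 : ∀ t : F, s * r hR h2 ((t, 0), 0) = r hR h2 ((t, 0), 0) * s := by
    intro t
    apply Subtype.ext
    show s.1 * (r hR h2 ((t, 0), 0)).1 = (r hR h2 ((t, 0), 0)).1 * s.1
    rw [← mul_inv_eq_iff_eq_mul]
    show s.1 * siegel (hypExt (hypExt (hypExt T))) e1 ((0, 0), ((t, 0), 0))
      (by simp [he1, hypExt_apply']) (by simp [he1, polar_hypExt']) * s.1⁻¹ = _
    rw [conj_siegel]
    apply orth_ext
    intro x
    have e : ((0, 0), ((t, 0), 0)) = t • e2 := by simp [he2, Prod.ext_iff]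
    rw [siegel_apply]
    simp only [e, hse1, map_smul, hse2]
    obtain ⟨⟨a, b⟩, ⟨a', b'⟩, y⟩ := x
    show _ = (rS (hypExt (hypExt T)) ((t, 0), 0)).1 ((a, b), ((a', b'), y))
    rw [rS_apply]
    simp [he1, he2, polar_hypExt', hypExt_apply', Prod.ext_iff]
    constructor <;> ring
  have hconj2 : ∀ z : (F × F) × Y,
      s * r hR h2 ((0, 0), z) = levi hR h2 (rr hT hY z) * s := by
    intro z
    apply Subtype.ext
    show s.1 * (r hR h2 ((0, 0), z)).1 = (levi hR h2 (rr hT hY z)).1 * s.1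
    rw [← mul_inv_eq_iff_eq_mul]
    show s.1 * siegel (hypExt (hypExt (hypExt T))) e1 ((0, 0), ((0, 0), z))
      (by simp [he1, hypExt_apply']) (by simp [he1, polar_hypExt']) * s.1⁻¹ = _
    rw [conj_siegel]
    show _ = hypLift (hypExt (hypExt T)) (rS (hypExt T) z)
    rw [rS, hypLift_siegel]
    apply orth_ext
    intro x
    rw [siegel_apply, siegel_apply]
    simp only [hse1, hsz]
    rfl
  set v' := ρ s⁻¹ v with hv'
  have hback : ∀ (a : (F × F) × (F × F) × Y) (g : sGroup (hypExt (hypExt (hypExt T)))) (c' : ℂ),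
      s * r hR h2 a = g * s → ρ g v = c' • v → D hR h2 ρ a v' = c' • v' := by
    intro a g c' e hg
    have e' : r hR h2 a * s⁻¹ = s⁻¹ * g := by
      rw [eq_inv_mul_iff_mul_eq, ← mul_assoc, e, mul_inv_cancel_right]
    rw [hv', D, ← Module.End.mul_apply, ← map_mul, e', map_mul, Module.End.mul_apply, hg, map_smul]
  have heig1 : ∀ t : F, D hR h2 ρ ((t, 0), 0) v' = (1 : ℂ) • v' := fun t =>
    hback _ _ _ (hconj1 t) (by rw [one_smul]; exact mem_eig_zero.1 hv0 _)
  have heig2 : ∀ z, D hR h2 ρ ((0, 0), z) v' = chi (hypExt T) c z • v' := fun z =>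
    hback _ _ _ (hconj2 z) (hvc z)
  have hzero : ∀ c'' : (F × F) × (F × F) × Y,
      P (D hR h2 ρ) (chi (hypExt (hypExt T)) c'') v' = 0 := by
    intro c''
    by_contra hne
    have k1 : ∀ t : F, chi (hypExt (hypExt T)) c'' ((t, 0), 0) = 1 := fun t => by
      by_contra h
      exact hne (P_eq_zero_of_scalar (D_add hR h2 ρ) (heig1 t) h)
    have k2 : ∀ z, chi (hypExt (hypExt T)) c'' ((0, 0), z) = chi (hypExt T) c z := fun z => by
      by_contra h
      exact hne (P_eq_zero_of_scalar (D_add hR h2 ρ) (heig2 z) h)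
    obtain ⟨⟨x, y⟩, m⟩ := c''
    simp only [chi_apply, polar_hypExt, mul_zero, zero_mul, zero_add, polar_zero_right,
      add_zero] at k1 k2
    obtain rfl : y = 0 := by
      by_contra hy
      obtain ⟨t, ht⟩ := phi0_ne (F := F)
      exact ht (by simpa [div_mul_cancel₀ _ hy] using k1 (t / y))
    obtain rfl : m = c := (chi_bijective hR).1 (DFunLike.ext _ _ k2)
    have hm : hypExt (hypExt T) ((x, 0), m) ≠ 0 := by
      rwa [hypExt_apply, mul_zero, zero_add]
    refine hne ?_
    rw [P_ani hR h2 hdz (mem_ani.2 hm)]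
    rfl
  have hone := congrArg (fun L : Module.End ℂ X => L v') (sum_P (D_zero hR h2 ρ))
  simp only [LinearMap.sum_apply, Module.End.one_apply] at hone
  rw [sum_chars hR h2, Finset.sum_eq_zero fun c'' _ => hzero c''] at hone
  exact rho_injective ρ s⁻¹ (hone.symm.trans (map_zero _).symm)

/-! ### The value at a root element -/

include hA hd0

theorem trace_rr {z : (F × F) × Y} (hz : hypExt T z = 0) (hz0 : z ≠ 0) :
    LinearMap.trace ℂ X (Dz hT hY ρ z * E0 (hR3 hT) (h23 hT hY) ρ) =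
      (Module.finrank ℂ (eig (D (hR3 hT) (h23 hT hY) ρ) 0) : ℂ) - (Fintype.card F : ℂ) ^ 2 := by
  classical
  set hR := hR3 hT
  set h2 := h23 hT hY
  set A : (F × F) × (F × F) × Y := ((1, 0), 0) with hAdef
  set B : (F × F) × (F × F) × Y := ((0, 0), z) with hBdef
  have hcl : ∀ c : (F × F) × (F × F) × Y, hypExt (hypExt T) c = 0 →
      (rr hT hY z).1.1 c = c → c ∈ Submodule.span F {A, B} := by
    intro c hc hct
    obtain ⟨h1, h2'⟩ := (rS_fix_iff z hz hz0 c).1 hct
    obtain ⟨⟨x, y⟩, v⟩ := c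
    dsimp only at h1 h2'
    subst h1
    refine mem_span_of_aniso hA (by simp [A, hypExt_apply]) ?_ hc ?_ ?_ ?_
      (by simp [A, Prod.ext_iff]) fun h => ?_
    · rw [hBdef, hypExt_apply, hz]; simp
    · rw [hAdef, hBdef, polar_hypExt]; simp
    · rw [hAdef, polar_hypExt]; simp
    · rw [hBdef, polar_hypExt, h2']; simp
    · obtain ⟨t, ht⟩ := Submodule.mem_span_singleton.1 h
      have := congrArg Prod.snd ht
      simp [A, B] at this
      exact hz0 this.symm
  have hfix : ∀ c, c ≠ 0 → (rr hT hY z).1.1 c = c → ∀ v ∈ E hR h2 ρ c,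
      ρ (levi hR h2 (rr hT hY z)) v = v := by
    intro c hc0 hct v hv
    by_cases hca : hypExt (hypExt T) c = 0
    · refine fix_E hR h2 ρ (by rw [finrank_E hR h2 ρ hc0, hca, hd0]) _ ?_ v hv
      refine siegel_mem_stab_of_small (nondegenerate_hypExt hR)
        (by rw [finrank_hypExt_space, finrank_hypExt_space]; omega)
        (by simp [hypExt_apply]) (by rw [hypExt_apply, hz]; simp) (by simp [polar_hypExt]) ?_ ?_
        (Submodule.span F {A, B}) (Submodule.subset_span (Or.inl rfl))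
        (Submodule.subset_span (Or.inr rfl)) (hcl c hca hct) ?_
      · obtain ⟨h1, -⟩ := (rS_fix_iff z hz hz0 c).1 hct
        obtain ⟨⟨x, y⟩, v⟩ := c
        dsimp only at h1
        subst h1
        simp [polar_hypExt]
      · obtain ⟨-, h2'⟩ := (rS_fix_iff z hz hz0 c).1 hct
        obtain ⟨⟨x, y⟩, v⟩ := c
        rw [polar_hypExt, h2']
        simp
      · have h3' := finrank_span_finset_le_card (R := F) ({A, B} : Finset ((F × F) × (F × F) × Y))
        rw [Finset.coe_pair, Set.finrank] at h3'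
        have : ({A, B} : Finset ((F × F) × (F × F) × Y)).card ≤ 2 := Finset.card_le_two
        rw [finrank_hypExt_space, finrank_hypExt_space]
        omega
    · have h0 := finrank_E hR h2 ρ hc0
      rw [hdz _ hca] at h0
      rw [Submodule.finrank_eq_zero.1 h0] at hv
      rw [(Submodule.mem_bot ℂ).1 hv, map_zero]
  have hcount : (Finset.univ.filter fun c : (F × F) × (F × F) × Y =>
      (c ≠ 0 ∧ hypExt (hypExt T) c = 0) ∧ (rr hT hY z).1.1 c = c).card + 1 =
        Fintype.card F * Fintype.card F := by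
    have hinj : Function.Injective fun p : F × F =>
        (((p.1, 0), p.2 • z) : (F × F) × (F × F) × Y) := by
      intro p p' h
      simp only [Prod.mk.injEq] at h
      refine Prod.ext h.1.1 (sub_eq_zero.1 ((smul_eq_zero.1 ?_).resolve_right hz0))
      rw [sub_smul, h.2, sub_self]
    rw [show (Finset.univ.filter fun c : (F × F) × (F × F) × Y =>
      (c ≠ 0 ∧ hypExt (hypExt T) c = 0) ∧ (rr hT hY z).1.1 c = c) =
        ((Finset.univ : Finset (F × F)).erase 0).image fun p => ((p.1, 0), p.2 • z) from ?_,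
      Finset.card_image_of_injective _ hinj, Finset.card_erase_add_one (Finset.mem_univ _),
      Finset.card_univ, Fintype.card_prod]
    ext c
    simp only [Finset.mem_filter, Finset.mem_univ, true_and, Finset.mem_image, Finset.mem_erase,
      and_true]
    constructor
    · rintro ⟨⟨hc0, hc⟩, hct⟩
      obtain ⟨a, b, hab⟩ := Submodule.mem_span_pair.1 (hcl c hc hct)
      have e : c = ((a, 0), b • z) := by rw [← hab]; simp [A, B, Prod.ext_iff]
      refine ⟨(a, b), fun h => hc0 ?_, e.symm⟩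
      obtain ⟨rfl, rfl⟩ := Prod.mk.inj h
      simp [e]
    · rintro ⟨⟨a, b⟩, hab, rfl⟩
      refine ⟨⟨fun h => hab (hinj (a₂ := 0) (h.trans (by simp only [Prod.fst_zero, Prod.snd_zero, zero_smul]; rfl))), ?_⟩, ?_⟩
      · rw [hypExt_apply, QuadraticMap.map_smul, hz]; simp
      · refine (rS_fix_iff z hz hz0 _).2 ⟨rfl, ?_⟩
        rw [polar_smul_right, polar_self_mul, hz]; simp
  have hlev : levi hR h2 (rr hT hY z) =
      ⟨siegel (hypExt (hypExt (hypExt T))) ((0, 0), ((1, 0), 0)) ((0, 0), ((0, 0), z))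
        (by simp [hypExt_apply]) (by simp [polar_hypExt]),
        siegel_mem' (nondeg' hR h2) (three_le hR h2) _ _⟩ := by
    apply Subtype.ext
    show hypLift (hypExt (hypExt T)) (rS (hypExt T) z) = _
    rw [rS, hypLift_siegel]
  have hsum : ∑ b : F, d hR h2 ρ b = 1 := by
    rw [Finset.sum_eq_single (0 : F) (fun b _ hb => hdz b hb) (by simp), hd0]
  have h1 := char_levi hR h2 ρ (rr hT hY z) hfix
  rw [Finset.sum_eq_single (0 : F) (fun b _ hb => by rw [hdz b hb, Nat.cast_zero, zero_mul])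
    (by simp), hd0, Nat.cast_one, one_mul] at h1
  have h2' : ρ.character (levi hR h2 (rr hT hY z)) =
      (Module.finrank ℂ X : ℂ) - (Fintype.card F : ℂ) * Fintype.card ((F × F) × Y) := by
    rw [hlev, char_root hR h2 ρ (by simp [hypExt_apply]) (by
      rw [hypExt_apply, hypExt_apply, hz]; simp) _ _ _, hsum, Nat.cast_one, one_mul]
    refine LinearIndependent.pair_iff.2 fun s t h => ?_
    simp [Prod.ext_iff] at h
    refine ⟨h.1, ?_⟩
    by_contra ht
    exact hz0 (by simpa [Prod.ext_iff, ht] using h.2)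
  rw [finrank_eq hR h2 ρ, Finset.sum_eq_single (0 : F) (fun b _ hb => by rw [hdz b hb, zero_mul])
    (by simp), hd0, one_mul, Nat.cast_add] at h2'
  have hfr : (fixRep hR h2 ρ).character (rr hT hY z) =
      LinearMap.trace ℂ X (Dz hT hY ρ z * E0 hR h2 ρ) :=
    (trace_mul_P_zero (D_add hR h2 ρ) (levi_map_fix hR h2 ρ _)).symm
  have hOc : (O (hypExt T) 0 : ℂ) + 1 =
      (Fintype.card F : ℂ) * Fintype.card ((F × F) × Y) := by
    have hY' : Fintype.card Y = Fintype.card F := by
      rw [Module.card_eq_pow_finrank (K := F) (V := Y), hY, pow_one]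
    have hlT : lev T 0 = 1 := by
      rw [lev, OrthUnitaryForms.card_zero_of_aniso T hA]
      rfl
    have h := O_eq (R := hypExt T) (0 : F)
    rw [if_pos rfl, lev_hypExt, lev_hypExt, Nat.card_eq_fintype_card (α := (F × F) × Y),
      Nat.card_eq_fintype_card (α := Y), hlT, hY'] at h
    have h' := congrArg (Int.cast : ℤ → ℂ) h
    simp only [Fintype.card_prod, hY'] at h' ⊢
    push_cast at h' ⊢
    linear_combination h'
  have hc := congrArg (Nat.cast : ℕ → ℂ) hcount
  push_cast at hc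
  linear_combination h2' - h1 - hfr + hOc - hc

end Cfsg.Agent.OrthOddMinDegree32Base
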