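import Mathlib
import Cfsg.Agent.Lib.OrthOddMinDegree32Base

/-!
Seven dimensions: the fixed space of the radical has dimension at least `q² + 2`.
-/

set_option autoImplicit false
set_option maxHeartbeats 1600000

namespace Cfsg.Agent.OrthOddMinDegree32BaseBound

open QuadraticMap
open Cfsg.Agent.OrthUnitaryQuad
open Cfsg.Agent.OrthUnitaryRefl
open Cfsg.Agent.OrthUnitarySimple
open Cfsg.Agent.OrthUnitaryStd
open Cfsg.Agent.OrthMinDegree32Geom
open Cfsg.Agent.OrthMinDegree32Count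
open Cfsg.Agent.OrthMinDegree32
open Cfsg.Agent.SUMinDegree32Eigen
open Cfsg.Agent.SLMinDegree32Spec
open Cfsg.Agent.SLMinDegree32 (phi0)
open Cfsg.Agent.OrthOddMinDegree32Core
open Cfsg.Agent.OrthOddMinDegree32Sum
open Cfsg.Agent.OrthOddMinDegree32Scalar
open Cfsg.Agent.OrthOddMinDegree32Base

variable {F Y : Type*} [Field F] [Fintype F] [AddCommGroup Y] [Module F Y] [Fintype Y]
  [FiniteDimensional F Y] {T : QuadraticForm F Y} (hT : (polarBilin T).Nondegenerate)
  (hA : ∀ p, T p = 0 → p = 0) (hY : Module.finrank F Y = 1) {p1 : Y} (hp1 : T p1 = 1)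

include hT hY

theorem lift_HS {γ : orth (hypExt T)} (hγ : γ ∈ HS T) :
    hypLift (hypExt T) γ ∈ sGroup (hypExt (hypExt T)) := by
  induction hγ using Subgroup.closure_induction with
  | mem g hg =>
    rcases hg with ⟨w, rfl⟩ | ⟨w, rfl⟩
    · rw [rS, hypLift_siegel]
      exact siegel_mem' (hR3 hT) (h3 hT hY) _ _
    · rw [sS, hypLift_siegel]
      exact siegel_mem' (hR3 hT) (h3 hT hY) _ _
  | one => rw [map_one]; exact Subgroup.one_mem _
  | mul a b _ _ ha hb => rw [map_mul]; exact Subgroup.mul_mem _ ha hb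
  | inv a _ ha => rw [map_inv]; exact Subgroup.inv_mem _ ha

include hA hp1

omit [Fintype F] [Fintype Y] [FiniteDimensional F Y] hT hY in
theorem to_line {c : (F × F) × Y} (hc : hypExt T c = 0) (hc0 : c ≠ 0) :
    ∃ γ ∈ HS T, ∃ t : F, t ≠ 0 ∧ γ.1 c = t • ((1, 0), 0) := by
  obtain ⟨⟨x, y⟩, p⟩ := c
  by_cases hy : y = 0
  · subst hy
    rw [hypExt_apply, mul_zero, zero_add] at hc
    obtain rfl := hA p hc
    exact ⟨1, Subgroup.one_mem _, x, fun h => hc0 (by rw [h]; rfl), by simp⟩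
  obtain ⟨⟨⟨x', y'⟩, p'⟩, h1⟩ : ∃ v, (rS T (-(y⁻¹ • p))).1 ((x, y), p) = v := ⟨_, rfl⟩
  have hn := map_orth (rS T (-(y⁻¹ • p))) ((x, y), p)
  rw [h1, hc, hypExt_apply] at hn
  rw [rS_apply, smul_neg, smul_inv_smul₀ hy, add_neg_cancel] at h1
  simp only [Prod.mk.injEq] at h1
  obtain ⟨⟨hx', rfl⟩, rfl⟩ := h1
  rw [QuadraticMap.map_zero, add_zero] at hn
  have hx0 : x' = 0 := (mul_eq_zero.1 hn).resolve_right hy
  refine ⟨kW T p1 * rS T (-(y⁻¹ • p)), Subgroup.mul_mem _ ?_ (rS_mem_HS _), -y, neg_ne_zero.2 hy, ?_⟩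
  · rw [kW]
    exact Subgroup.mul_mem _ (Subgroup.mul_mem _ (rS_mem_HS _) (sS_mem_HS _)) (rS_mem_HS _)
  · rw [orth_mul_apply, rS_apply, smul_neg, smul_inv_smul₀ hy, add_neg_cancel, hx', hx0,
      kW_apply (w := p1) (by rw [hp1]; exact one_ne_zero), map_zero]
    simp [hp1]

omit hY hp1 in
theorem lev_T : lev T 0 = 1 := by
  rw [lev, OrthUnitaryForms.card_zero_of_aniso T hA]
  rfl

omit hA hp1 hT in
theorem card_Y : Fintype.card Y = Fintype.card F := by
  rw [Module.card_eq_pow_finrank (K := F) (V := Y), hY, pow_one]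

omit hp1 in
theorem lev_R : lev (hypExt T) 0 = (Fintype.card F : ℤ) ^ 2 := by
  rw [lev_hypExt, lev_T hT hA, Nat.card_eq_fintype_card, card_Y hY]
  ring

omit hp1 in
theorem O_T : (O T 0 : ℂ) = (Fintype.card F : ℂ) ^ 2 - 1 := by
  classical
  have h := O_eq (R := T) (0 : F)
  rw [if_pos rfl, lev_R hT hA hY] at h
  have := congrArg (Int.cast : ℤ → ℂ) h
  push_cast at this
  exact this

omit hY in
theorem cone_sum (hY : Module.finrank F Y = 1) {c : (F × F) × Y} (hc : c ∈ iso T) :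
    chi (hypExt T) c 0 + ∑ v ∈ iso T, chi (hypExt T) c v = 0 := by
  classical
  obtain ⟨γ, -, t, ht, he⟩ := to_line hA hp1 (mem_iso.1 hc).2 (mem_iso.1 hc).1
  set φ : (F × F) × Y → ℂ := fun v => if hypExt T v = 0 then phi0 (t * v.1.2) else 0 with hφ
  have h1 : ∑ v, φ v = chi (hypExt T) c 0 + ∑ v ∈ iso T, chi (hypExt T) c v := by
    have e : ∀ v, φ (γ.1 v) = if hypExt T v = 0 then chi (hypExt T) c v else 0 := by
      intro v
      simp only [hφ, map_orth γ, chi_apply]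
      congr 2
      rw [← polar_orth γ c v, he, polar_smul_left, polar_hypExt']
      simp
    have hsum : ∑ v, φ (γ.1 v) = ∑ v, φ v := Equiv.sum_comp γ.1.toEquiv φ
    rw [← hsum]
    simp only [e]
    rw [sum_split (R := T), if_pos (QuadraticMap.map_zero _),
      Finset.sum_congr rfl (fun v hv => if_pos (mem_iso.1 hv).2),
      Finset.sum_eq_zero (s := ani T) (fun v hv => if_neg (mem_ani.1 hv)), add_zero]
  rw [← h1, hφ]
  simp only [Fintype.sum_prod_type]
  rw [Finset.sum_comm, ← Finset.add_sum_erase _ _ (Finset.mem_univ (0 : F))]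
  have e0 : (∑ x : F, ∑ p : Y, if hypExt T ((x, 0), p) = 0 then phi0 (t * (0 : F)) else 0) =
      (Fintype.card F : ℂ) := by
    rw [Finset.sum_congr rfl (g := fun _ => (1 : ℂ)) fun x _ => ?_, Finset.sum_const,
      Finset.card_univ, nsmul_one]
    rw [Finset.sum_eq_single (0 : Y)]
    · simp [hypExt_apply]
    · intro p _ hp
      refine if_neg fun h => hp (hA p ?_)
      rwa [hypExt_apply, mul_zero, zero_add] at h
    · simp
  have e1 : ∀ y ∈ Finset.univ.erase (0 : F),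
      (∑ x : F, ∑ p : Y, if hypExt T ((x, y), p) = 0 then phi0 (t * y) else 0) =
        (Fintype.card F : ℂ) * phi0 (t * y) := by
    intro y hy
    have hy0 := Finset.ne_of_mem_erase hy
    rw [Finset.sum_comm, Finset.sum_congr rfl (g := fun _ => phi0 (t * y)) fun p _ => ?_,
      Finset.sum_const, Finset.card_univ, card_Y hY, nsmul_eq_mul]
    rw [Finset.sum_eq_single (-(T p) / y)]
    · rw [if_pos (by rw [hypExt_apply, div_mul_cancel₀ _ hy0, neg_add_cancel])]
    · intro x _ hx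
      refine if_neg fun h => hx ?_
      rw [hypExt_apply] at h
      rw [eq_div_iff hy0]
      linear_combination h
    · simp
  rw [e0, Finset.sum_congr rfl e1, ← Finset.mul_sum,
    Finset.sum_erase_eq_sub (Finset.mem_univ (0 : F)), mul_zero, AddChar.map_zero_eq_one,
    Fintype.sum_equiv (Equiv.mulLeft₀ t ht) (fun y => phi0 (t * y)) (fun y => phi0 y)
      (fun y => rfl), sum_phi0]
  ring

/-! ### Dimensions of the pieces -/

variable {X : Type} [AddCommGroup X] [Module ℂ X] [FiniteDimensional ℂ X]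
  (ρ : Representation ℂ (sGroup (hypExt (hypExt (hypExt T)))) X)

variable (hd0 : d (hR3 hT) (h23 hT hY) ρ 0 = 1)
  (hdz : ∀ b, b ≠ 0 → d (hR3 hT) (h23 hT hY) ρ b = 0)

omit hA hp1 in
/-- Two vectors with the same behaviour. -/
def Rel (c c' : (F × F) × Y) : Prop :=
  ∃ x, Commute (ρ x) (E0 (hR3 hT) (h23 hT hY) ρ) ∧
    Commute (ρ x) (bar (hR3 hT) (h23 hT hY) ρ (E0 (hR3 hT) (h23 hT hY) ρ)) ∧
    ∀ z, ∃ z', ρ x * Dz hT hY ρ z' = Dz hT hY ρ z * ρ x ∧
      polar (hypExt T) c' z = polar (hypExt T) c z'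

omit hA hp1 [FiniteDimensional ℂ X] in
theorem Rel.trans' {a b c : (F × F) × Y} (h : Rel hT hY ρ a b) (h' : Rel hT hY ρ b c) :
    Rel hT hY ρ a c := by
  obtain ⟨x, hx0, hxb, hx⟩ := h
  obtain ⟨y, hy0, hyb, hy⟩ := h'
  refine ⟨y * x, ?_, ?_, fun z => ?_⟩
  · rw [map_mul]; exact hy0.mul_left hx0
  · rw [map_mul]; exact hyb.mul_left hxb
  · obtain ⟨z', e1, p1⟩ := hy z
    obtain ⟨z'', e2, p2⟩ := hx z'
    refine ⟨z'', ?_, p1.trans p2⟩
    rw [map_mul, mul_assoc, e2, ← mul_assoc, e1, mul_assoc]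

omit hA hp1 [FiniteDimensional ℂ X] in
theorem rel_lift {γ : orth (hypExt T)} (hγ : γ ∈ HS T) (c : (F × F) × Y) :
    Rel hT hY ρ c (γ.1 c) := by
  refine ⟨levi (hR3 hT) (h23 hT hY) ⟨_, lift_HS hT hY hγ⟩, E0_levi _ _ ρ _,
    bar_lift (sub_E0 (hR3 hT) (h23 hT hY) ρ) (hypLift (hypExt T) γ)
      (hypLift_mem (hR3 hT) (h23 hT hY) (Or.inl (lift_HS hT hY hγ))),
    fun z => ⟨γ.1.symm z, ?_, ?_⟩⟩
  · simp only [Dz]
    rw [← map_mul ρ, ← map_mul ρ, ← map_mul, ← map_mul]
    congr 2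
    apply Subtype.ext
    show hypLift (hypExt T) γ * rS (hypExt T) (γ.1.symm z) = rS (hypExt T) z * hypLift (hypExt T) γ
    rw [← mul_inv_eq_iff_eq_mul, hypLift_conj_rS, LinearEquiv.apply_symm_apply]
  · rw [← polar_orth γ c (γ.1.symm z), LinearEquiv.apply_symm_apply]

omit hA hp1 [FiniteDimensional ℂ X] in
theorem rel_smul {t : F} (ht : t ≠ 0) (c : (F × F) × Y) : Rel hT hY ρ c (t • c) := by
  set w : (F × F) × (F × F) × Y := ((1, t), 0) with hw
  set w1 : (F × F) × (F × F) × Y := ((1, 1), 0) with hw1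
  have hw0 : hypExt (hypExt T) w ≠ 0 := by simp [hw, hypExt_apply', ht]
  have hw10 : hypExt (hypExt T) w1 ≠ 0 := by simp [hw1, hypExt_apply']
  refine ⟨kE (hR3 hT) (h23 hT hY) w * kE (hR3 hT) (h23 hT hY) w1, E0_kk _ _ ρ hw0 hw10,
    bar_kk (sub_E0 _ _ ρ) w w1 hw0 hw10, fun z => ⟨t • z, ?_, ?_⟩⟩
  · simp only [Dz]
    rw [← map_mul ρ, ← map_mul ρ, mul_assoc, kE_levi (hR3 hT) (h23 hT hY) hw10, ← mul_assoc,
      kE_levi (hR3 hT) (h23 hT hY) hw0, mul_assoc]
    congr 3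
    apply Subtype.ext
    set σ := refl (hypExt (hypExt T)) w hw0 * refl (hypExt (hypExt T)) w1 hw10 with hσ
    show refl (hypExt (hypExt T)) w hw0 * (refl (hypExt (hypExt T)) w1 hw10 *
      rS (hypExt T) (t • z) * (refl (hypExt (hypExt T)) w1 hw10)⁻¹) *
      (refl (hypExt (hypExt T)) w hw0)⁻¹ = rS (hypExt T) z
    rw [show refl (hypExt (hypExt T)) w hw0 * (refl (hypExt (hypExt T)) w1 hw10 *
      rS (hypExt T) (t • z) * (refl (hypExt (hypExt T)) w1 hw10)⁻¹) *
      (refl (hypExt (hypExt T)) w hw0)⁻¹ = σ * rS (hypExt T) (t • z) * σ⁻¹ by rw [hσ]; group,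
      rS, rS, conj_siegel]
    have hu : σ.1 ((1, 0), 0) = t⁻¹ • ((1, 0), 0) := by
      rw [hσ, orth_mul_apply, refl_apply, refl_apply]
      simp [hw, hw1, polar_hypExt', hypExt_apply', Prod.ext_iff]
      rw [inv_mul_cancel₀ ht, neg_add_cancel]
    have hz : ∀ v : (F × F) × Y, σ.1 ((0, 0), v) = ((0, 0), v) := by
      intro v
      rw [hσ, orth_mul_apply, refl_apply, refl_apply]
      simp [hw, hw1, polar_hypExt', hypExt_apply', Prod.ext_iff]
    apply orth_ext
    intro v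
    rw [siegel_apply, siegel_apply]
    simp only [hu, hz]
    rw [show (((0 : F), (0 : F)), t • z) = t • (((0 : F), (0 : F)), z) by simp]
    simp only [polar_smul_left, QuadraticMap.map_smul, smul_eq_mul]
    match_scalars <;> field_simp <;> ring
  · rw [polar_smul_left, polar_smul_right]

theorem rel_u {c : (F × F) × Y} (hc : c ∈ iso T) :
    Rel hT hY ρ ((1, 0), 0) c ∧ Rel hT hY ρ c ((1, 0), 0) := by
  obtain ⟨γ, hγ, t, ht, e⟩ := to_line hA hp1 (mem_iso.1 hc).2 (mem_iso.1 hc).1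
  constructor
  · refine Rel.trans' hT hY ρ (rel_smul hT hY ρ ht _) ?_
    have h := rel_lift hT hY ρ (Subgroup.inv_mem _ hγ) (γ.1 c)
    rw [show (γ⁻¹).1 (γ.1 c) = c from γ.1.symm_apply_apply c, e] at h
    exact h
  · refine Rel.trans' hT hY ρ (rel_lift hT hY ρ hγ c) ?_
    rw [e]
    have h := rel_smul hT hY ρ (inv_ne_zero ht) (t • (((1 : F), (0 : F)), (0 : Y)))
    rwa [inv_smul_smul₀ ht] at h

omit hA hp1 [FiniteDimensional ℂ X] in
theorem rel_map {c c' : (F × F) × Y} {x : sGroup (hypExt (hypExt (hypExt T)))}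
    (hx0 : Commute (ρ x) (E0 (hR3 hT) (h23 hT hY) ρ))
    (hx : ∀ z, ∃ z', ρ x * Dz hT hY ρ z' = Dz hT hY ρ z * ρ x ∧
      polar (hypExt T) c' z = polar (hypExt T) c z') :
    ∀ v ∈ EW hT hY ρ c, ρ x v ∈ EW hT hY ρ c' := by
  rintro v ⟨hv0, hvc⟩
  refine ⟨?_, fun z => ?_⟩
  · have e := congrArg (fun L : Module.End ℂ X => L v) hx0.eq
    simp only [Module.End.mul_apply] at e
    rw [show E0 (hR3 hT) (h23 hT hY) ρ v = v from P_of_mem hv0] at e
    show ρ x v ∈ eig _ 0
    rw [e]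
    exact P_mem (D_add _ _ ρ) 0 _
  · obtain ⟨z', e, p⟩ := hx z
    have e' := congrArg (fun L : Module.End ℂ X => L v) e
    simp only [Module.End.mul_apply] at e'
    rw [← e', hvc z', map_smul, chi_apply, chi_apply, p]

theorem finrank_EW_iso {c : (F × F) × Y} (hc : c ∈ iso T) :
    Module.finrank ℂ (EW hT hY ρ c) = Module.finrank ℂ (EW hT hY ρ ((1, 0), 0)) := by
  obtain ⟨⟨x, hx0, -, hx⟩, ⟨y, hy0, -, hy⟩⟩ := rel_u hT hA hY hp1 ρ hc
  exact le_antisymm (finrank_le_of_map ρ y (rel_map hT hY ρ hy0 hy))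
    (finrank_le_of_map ρ x (rel_map hT hY ρ hx0 hx))

include hd0 hdz

theorem finrank_fixed :
    Module.finrank ℂ (eig (D (hR3 hT) (h23 hT hY) ρ) 0) + 1 =
      Module.finrank ℂ (EW hT hY ρ 0) + Fintype.card F ^ 2 ∧
    Module.finrank ℂ (EW hT hY ρ ((1, 0), 0)) = 1 := by
  classical
  set W := eig (D (hR3 hT) (h23 hT hY) ρ) 0
  set m : (F × F) × Y → ℂ := fun c => (Module.finrank ℂ (EW hT hY ρ c) : ℂ) with hm
  have hW : LinearMap.trace ℂ X (Dz hT hY ρ 0 * E0 (hR3 hT) (h23 hT hY) ρ) =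
      (Module.finrank ℂ W : ℂ) := by
    rw [Dz_zero, one_mul]
    exact trace_P (D_add _ _ ρ) 0
  have hani : ∀ c ∈ ani T, m c = 0 := fun c hc => by
    rw [hm, Nat.cast_eq_zero, Submodule.finrank_eq_zero]
    exact EW_aniso hT hY ρ hdz (mem_ani.1 hc)
  have hiso : ∀ c ∈ iso T, m c = m ((1, 0), 0) := fun c hc => by
    simp only [hm, finrank_EW_iso hT hA hY hp1 ρ hc]
  have htr : ∀ v, LinearMap.trace ℂ X (Dz hT hY ρ v * E0 (hR3 hT) (h23 hT hY) ρ) =
      m 0 + m ((1, 0), 0) * ∑ c ∈ iso T, chi (hypExt T) c v := by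
    intro v
    rw [trace_Dz_E0, sum_split (R := T), chi_zero, AddChar.zero_apply, one_mul,
      Finset.sum_eq_zero (s := ani T) (fun c hc => by
        show _ * m c = 0
        rw [hani c hc, mul_zero]), add_zero, Finset.mul_sum]
    congr 1
    exact Finset.sum_congr rfl fun c hc => by
      show _ * m c = _
      rw [hiso c hc, mul_comm]
  have h0 := htr 0
  rw [hW] at h0
  simp only [AddChar.map_zero_eq_one, Finset.sum_const, nsmul_one] at h0
  rw [card_iso, O_T hT hA hY] at h0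
  have hrr : ∀ v ∈ iso T, LinearMap.trace ℂ X (Dz hT hY ρ v * E0 (hR3 hT) (h23 hT hY) ρ) =
      (Module.finrank ℂ W : ℂ) - (Fintype.card F : ℂ) ^ 2 := fun v hv =>
    trace_rr hT hA hY ρ hd0 hdz (mem_iso.1 hv).2 (mem_iso.1 hv).1
  have hsum : ∑ v ∈ iso T, LinearMap.trace ℂ X (Dz hT hY ρ v * E0 (hR3 hT) (h23 hT hY) ρ) =
      ((Fintype.card F : ℂ) ^ 2 - 1) *
        ((Module.finrank ℂ W : ℂ) - (Fintype.card F : ℂ) ^ 2) := by
    rw [Finset.sum_congr rfl hrr, Finset.sum_const, nsmul_eq_mul, card_iso, O_T hT hA hY]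
  simp only [htr, Finset.sum_add_distrib, Finset.sum_const, nsmul_eq_mul, ← Finset.mul_sum] at hsum
  rw [Finset.sum_comm, Finset.sum_congr rfl (g := fun _ => (-1 : ℂ)) (fun c hc => by
    have h := cone_sum hT hA hp1 hY hc
    rw [AddChar.map_zero_eq_one] at h
    linear_combination h), Finset.sum_const, nsmul_eq_mul, card_iso, O_T hT hA hY] at hsum
  have hq : (Fintype.card F : ℂ) ^ 2 - 1 ≠ 0 := by
    intro h
    have h' : Fintype.card F ^ 2 = 1 := by exact_mod_cast sub_eq_zero.1 h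
    have := Fintype.one_lt_card (α := F)
    nlinarith
  have hq2 : (Fintype.card F : ℂ) ^ 2 ≠ 0 := pow_ne_zero _ (Nat.cast_ne_zero.2 Fintype.card_ne_zero)
  have hmu : m ((1, 0), 0) = 1 := by
    refine mul_left_cancel₀ hq (mul_left_cancel₀ hq2 ?_)
    have e := mul_left_cancel₀ hq (a := ((Fintype.card F : ℂ) ^ 2 - 1))
      (b := m 0 - m ((1, 0), 0))
      (c := (Module.finrank ℂ W : ℂ) - (Fintype.card F : ℂ) ^ 2) (by linear_combination hsum)
    linear_combination ((Fintype.card F : ℂ) ^ 2 - 1) * (-h0 - e)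
  refine ⟨?_, ?_⟩
  · have : ((Module.finrank ℂ W + 1 : ℕ) : ℂ) =
        ((Module.finrank ℂ (EW hT hY ρ 0) + Fintype.card F ^ 2 : ℕ) : ℂ) := by
      push_cast
      rw [hmu] at h0
      simp only [hm] at h0
      linear_combination h0
    exact_mod_cast this
  · exact Nat.cast_injective (R := ℂ) (by simpa [hm] using hmu)

/-- Without fixed vectors of the Levi complement the fixed space meets its opposite in a scalar. -/
theorem scalar_base
    (hnofix : ∀ v ∈ eig (D (hR3 hT) (h23 hT hY) ρ) 0,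
      (∀ g, ρ (levi (hR3 hT) (h23 hT hY) g) v = v) → v = 0) :
    ∃ z : ℂ, E0 (hR3 hT) (h23 hT hY) ρ *
      bar (hR3 hT) (h23 hT hY) ρ (E0 (hR3 hT) (h23 hT hY) ρ) * E0 (hR3 hT) (h23 hT hY) ρ =
        z • E0 (hR3 hT) (h23 hT hY) ρ := by
  classical
  set hR := hR3 hT
  set h2 := h23 hT hY
  have hS := sub_E0 hR h2 ρ
  set E := E0 hR h2 ρ with hE
  set B := bar hR h2 ρ E with hB
  set A := E * B * E with hAdef
  have hAlevi : ∀ g, Commute (ρ (levi hR h2 g)) A := fun g =>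
    ((E0_levi hR h2 ρ g).mul_right (bar_lift hS g.1 (hypLift_mem hR h2 (Or.inl g.2)))).mul_right
      (E0_levi hR h2 ρ g)
  have hAW : ∀ v, A v ∈ eig (D hR h2 ρ) 0 := fun v => by
    rw [hAdef, mul_assoc, Module.End.mul_apply]
    exact P_mem (D_add hR h2 ρ) 0 _
  have hAEW : ∀ c, ∀ v ∈ EW hT hY ρ c, A v ∈ EW hT hY ρ c := fun c v hv => ⟨hAW v, fun z => by
    rw [← Module.End.mul_apply, show Dz hT hY ρ z * A = A * Dz hT hY ρ z from
      (hAlevi (rr hT hY z)).eq, Module.End.mul_apply, hv.2 z, map_smul]⟩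
  obtain ⟨w, hw0, hw⟩ :=
    finrank_eq_one_iff'.1 (finrank_fixed hT hA hY hp1 ρ hd0 hdz).2
  obtain ⟨z, hz⟩ := hw ⟨A w, hAEW _ _ w.2⟩
  have hz' : z • (w : X) = A w := congrArg Subtype.val hz
  refine ⟨z, ?_⟩
  set Yop := A - z • E with hY'
  have hYlevi : ∀ g, Commute (ρ (levi hR h2 g)) Yop := fun g =>
    (hAlevi g).sub_right ((E0_levi hR h2 ρ g).smul_right z)
  have hYW : ∀ v, Yop v ∈ eig (D hR h2 ρ) 0 := fun v => by
    rw [hY', LinearMap.sub_apply, LinearMap.smul_apply]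
    exact Submodule.sub_mem _ (hAW v) (Submodule.smul_mem _ _ (P_mem (D_add hR h2 ρ) 0 _))
  have hYiso : ∀ c ∈ iso T, ∀ v ∈ EW hT hY ρ c, Yop v = 0 := by
    intro c hc v hv
    obtain ⟨x, hx0, hxb, hx⟩ := (rel_u hT hA hY hp1 ρ hc).1
    have h1 : ρ x w ∈ EW hT hY ρ c := rel_map hT hY ρ hx0 hx _ w.2
    have hfr := (finrank_EW_iso hT hA hY hp1 ρ hc).trans (finrank_fixed hT hA hY hp1 ρ hd0 hdz).2
    obtain ⟨l, hl⟩ := exists_smul_eq_of_finrank_eq_one hfr (x := (⟨ρ x w, h1⟩ : EW hT hY ρ c))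
      (fun h => hw0 (Subtype.ext (rho_injective ρ x
        ((congrArg Subtype.val h).trans (map_zero _).symm)))) ⟨v, hv⟩
    have hl' : l • ρ x w = v := congrArg Subtype.val hl
    have hxA : Commute (ρ x) A := (hx0.mul_right hxb).mul_right hx0
    rw [← hl', map_smul, hY', LinearMap.sub_apply, LinearMap.smul_apply,
      ← Module.End.mul_apply A (ρ x), ← hxA.eq, Module.End.mul_apply, ← hz', map_smul,
      show E (ρ x w) = ρ x w from P_of_mem h1.1, sub_self, smul_zero]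
  have hfix0 : ∀ a v, Dz hT hY ρ a (Yop v) = Yop v := by
    intro a v
    have hv : Yop v = Yop (E v) := by
      rw [hY', LinearMap.sub_apply, LinearMap.sub_apply, LinearMap.smul_apply, LinearMap.smul_apply,
        hAdef, ← Module.End.mul_apply (E * B * E) E, ← Module.End.mul_apply E E, mul_assoc (E * B),
        hS.idem]
    have hdec := congrArg (fun L : Module.End ℂ X => Yop (L (E v))) (sum_P (Dz_zero hT hY ρ))
    simp only [LinearMap.sum_apply, Module.End.one_apply, map_sum] at hdec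
    rw [← (Equiv.ofBijective _ (chi_bijective (hR3 hT))).sum_comp, sum_split (R := T),
      Finset.sum_eq_zero (s := iso T) (fun c hc => hYiso c hc _ ?_),
      Finset.sum_eq_zero (s := ani T) (fun c hc => ?_), add_zero, add_zero] at hdec
    · rw [hv, ← hdec, ← Module.End.mul_apply,
        show Dz hT hY ρ a * Yop = Yop * Dz hT hY ρ a from (hYlevi (rr hT hY a)).eq,
        Module.End.mul_apply]
      show Yop (Dz hT hY ρ a _) = _
      rw [Equiv.ofBijective_apply, chi_zero]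
      exact congrArg Yop (mem_eig_zero.1 (P_mem (Dz_add hT hY ρ) 0 _) a)
    · have h := (P_E0_isProj hT hY ρ c).map_mem v
      rw [EW_aniso hT hY ρ hdz (mem_ani.1 hc), Submodule.mem_bot, Module.End.mul_apply] at h
      rw [show (Equiv.ofBijective _ (chi_bijective (hR3 hT))) c = chi (hypExt T) c from rfl, h,
        map_zero]
    · have h := (P_E0_isProj hT hY ρ c).map_mem (E v)
      rw [Module.End.mul_apply] at h
      have hEE : E (E v) = E v := congrArg (fun L : Module.End ℂ X => L v) hS.idem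
      rw [hE] at hEE
      rwa [hEE] at h
  let N : Subgroup (sGroup (hypExt (hypExt T))) :=
    { carrier := {g | ∀ v, ρ (levi hR h2 g) (Yop v) = Yop v}
      one_mem' := fun v => by rw [map_one, map_one, Module.End.one_apply]
      mul_mem' := fun {a b} ha hb v => by
        rw [map_mul, map_mul, Module.End.mul_apply, hb, ha]
      inv_mem' := fun {a} ha v => by
        conv_lhs => rw [← ha v]
        rw [← Module.End.mul_apply, ← map_mul, ← map_mul, inv_mul_cancel, map_one, map_one,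
          Module.End.one_apply] }
  haveI : N.Normal := ⟨fun a ha g v => by
    have e : ρ (levi hR h2 g⁻¹) (Yop v) = Yop (ρ (levi hR h2 g⁻¹) v) :=
      congrArg (fun L : Module.End ℂ X => L v) (hYlevi g⁻¹).eq
    rw [map_mul, map_mul, map_mul, map_mul, Module.End.mul_apply, Module.End.mul_apply, e, ha,
      ← e, ← Module.End.mul_apply, ← map_mul, ← map_mul, mul_inv_cancel, map_one, map_one,
      Module.End.one_apply]⟩
  have htop := eq_top_of_rS (hR3 hT) (h3 hT hY) N fun a v => hfix0 a v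
  have hY0 : Yop = 0 := LinearMap.ext fun v =>
    hnofix _ (hYW v) fun g => (htop.ge (Subgroup.mem_top g)) v
  exact sub_eq_zero.1 hY0

/-- The bound in seven dimensions for one orbit of singular lines. -/
theorem base_bound [ρ.IsIrreducible] (hodd : Odd (Fintype.card F)) (hq : 3 < Fintype.card F) :
    (Fintype.card F : ℤ) ^ 4 + (Fintype.card F : ℤ) ^ 2 + 1 ≤ (Module.finrank ℂ X : ℤ) := by
  classical
  set hR := hR3 hT
  set h2 := h23 hT hY
  set q : ℤ := (Fintype.card F : ℤ) with hqdef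
  have hq5 : 5 ≤ q := by
    rw [hqdef]
    have : Fintype.card F ≠ 4 := fun h => by rw [h] at hodd; exact absurd hodd (by decide)
    omega
  have hsum : ∑ b : F, d hR h2 ρ b = 1 := by
    rw [Finset.sum_eq_single (0 : F) (fun b _ hb => hdz b hb) (by simp), hd0]
  have hcardZ : Fintype.card ((F × F) × Y) = Fintype.card F ^ 3 := by
    rw [Fintype.card_prod, Fintype.card_prod, card_Y hY]; ring
  have hcardM : Fintype.card ((F × F) × (F × F) × Y) = Fintype.card F ^ 5 := by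
    rw [Fintype.card_prod, hcardZ, Fintype.card_prod]; ring
  have hlP : lev (hypExt (hypExt T)) 0 = q ^ 4 := by
    rw [lev_hypExt, lev_R hT hA hY, Nat.card_eq_fintype_card, hcardZ, hqdef]
    push_cast
    ring
  have hlV : lev (hypExt (hypExt (hypExt T))) 0 = q ^ 6 := by
    rw [lev_hypExt, hlP, Nat.card_eq_fintype_card, hcardM, hqdef]
    push_cast
    ring
  have hO : (O (hypExt T) 0 : ℤ) = q ^ 4 - 1 := by rw [O_eq, if_pos rfl, hlP]
  have hN : (Module.finrank ℂ X : ℤ) =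
      (Module.finrank ℂ (eig (D hR h2 ρ) 0) : ℤ) + (q ^ 4 - 1) := by
    rw [finrank_eq hR h2 ρ, Finset.sum_eq_single (0 : F)
      (fun b _ hb => by rw [hdz b hb, zero_mul]) (by simp), hd0, one_mul]
    push_cast
    rw [hO]
  obtain ⟨hf, -⟩ := finrank_fixed hT hA hY hp1 ρ hd0 hdz
  have hf' : (Module.finrank ℂ (eig (D hR h2 ρ) 0) : ℤ) + 1 =
      (Module.finrank ℂ (EW hT hY ρ 0) : ℤ) + q ^ 2 := by
    rw [hqdef]; exact_mod_cast hf
  obtain ⟨K, hdvd, hK⟩ := exists_dvd hR h2 ρ hsum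
  rw [hlP, hlV] at hK
  have hK' : (K : ℤ) = (q ^ 6 - 1) * (q ^ 2 + 1) := by
    refine mul_right_cancel₀ (show q * (q ^ 2 - 1) ≠ 0 by
      exact mul_ne_zero (by omega) (by nlinarith)) ?_
    rw [hK]
    ring
  have hdvd' : (Module.finrank ℂ X : ℤ) ∣ (q ^ 6 - 1) * (q ^ 2 + 1) * q ^ 4 := by
    rw [hcardZ] at hdvd
    have h := Int.natCast_dvd_natCast.2 hdvd
    push_cast at h
    rw [hK', ← hqdef] at h
    rw [show q ^ 4 = q * q ^ 3 by ring]
    exact h
  set e0 := Module.finrank ℂ (EW hT hY ρ 0)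
  rcases Nat.lt_or_ge e0 3 with he | he
  swap
  · have : (3 : ℤ) ≤ (e0 : ℤ) := by exact_mod_cast he
    rw [hN]; linarith
  exfalso
  interval_cases e0
  · -- `f = q² - 1`
    rw [Nat.cast_zero] at hf'
    have hN' : (Module.finrank ℂ X : ℤ) = (q ^ 2 + 2) * (q ^ 2 - 1) := by
      rw [hN]; linear_combination hf'
    rw [hN'] at hdvd'
    have h1 : q ^ 2 + 2 ∣ (36 : ℤ) := by
      have h := (dvd_mul_right _ _).trans hdvd'
      have e : (36 : ℤ) = (q ^ 6 - 1) * (q ^ 2 + 1) * q ^ 4 -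
          (q ^ 2 + 2) * (q ^ 10 - q ^ 8 + 2 * q ^ 6 - 5 * q ^ 4 + 9 * q ^ 2 - 18) := by ring
      rw [e]
      exact dvd_sub h (dvd_mul_right _ _)
    obtain ⟨j, hj⟩ := h1
    have hj1 : j = 1 := by
      have hpos : 0 < j := by nlinarith
      have : j < 2 := by nlinarith
      omega
    subst hj1
    have h6 : q < 6 := by nlinarith
    obtain rfl' : q = 5 := by omega
    rw [rfl'] at hj
    norm_num at hj
  · -- `f = q²`
    rw [Nat.cast_one] at hf'
    have hN' : (Module.finrank ℂ X : ℤ) = q ^ 4 + q ^ 2 - 1 := by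
      rw [hN]; linear_combination hf'
    rw [hN'] at hdvd'
    have hcop : IsCoprime (q ^ 4 + q ^ 2 - 1) q := ⟨-1, q ^ 3 + q, by ring⟩
    have h6 : q ^ 4 + q ^ 2 - 1 ∣ 2 * q ^ 6 := by
      have e : (2 : ℤ) * q ^ 6 = (q ^ 4 + q ^ 2 - 1) * (q ^ 4 * (q ^ 4 + 1)) -
          (q ^ 6 - 1) * (q ^ 2 + 1) * q ^ 4 := by ring
      rw [e]
      exact dvd_sub (dvd_mul_right _ _) hdvd'
    have h7 := (hcop.pow_right (n := 6)).dvd_of_dvd_mul_right h6
    have := Int.le_of_dvd (by norm_num) h7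
    nlinarith [mul_le_mul hq5 hq5 (by norm_num) (by omega)]
  · -- `f = q² + 1`
    have hN' : (Module.finrank ℂ X : ℤ) = q ^ 4 + q ^ 2 := by
      rw [hN]; push_cast at hf'; linear_combination hf'
    have hN1 : Module.finrank ℂ X ≠ 1 := by
      intro h
      rw [h] at hN'
      nlinarith
    have hM : Fintype.card ((F × F) × (F × F) × Y) =
        Fintype.card F * (O (hypExt T) 0 + 1) := by
      zify
      rw [hcardM, hO, ← hqdef]
      push_cast
      ring
    have hne : (Module.finrank ℂ X : ℂ) * ((Fintype.card F : ℂ) ^ 2 - 1) + 1 ≠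
        (Fintype.card F : ℂ) * Fintype.card ((F × F) × (F × F) × Y) := by
      intro h
      have h' : (Module.finrank ℂ X : ℤ) * (q ^ 2 - 1) + 1 =
          q * (Fintype.card ((F × F) × (F × F) × Y) : ℤ) := by
        rw [hqdef]; exact_mod_cast h
      rw [hN', hcardM, hqdef] at h'
      push_cast at h'
      rw [← hqdef] at h'
      nlinarith
    have hnofix : ∀ v ∈ eig (D hR h2 ρ) 0,
        (∀ g, ρ (levi hR h2 g) v = v) → v = 0 := fun v hv hfix =>
      fixed_eq_zero hR h2 ρ (h3 hT hY) hd0 hdz hM hN1 hne hv hfix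
    obtain ⟨z, hz⟩ := scalar_base hT hA hY hp1 ρ hd0 hdz hnofix
    refine not_small hd0 hdz (sub_E0 hR h2 ρ) hz
      (f := Module.finrank ℂ (eig (D hR h2 ρ) 0)) (trace_P (D_add hR h2 ρ) 0) hM (le_refl 3)
      hodd (by omega) ?_ ?_ ?_
    · rw [hcardM]; ring
    · rw [hO, ← hqdef]
      push_cast at hf'
      linear_combination (q ^ 2 - 1) * hf'
    · rw [finrank_eq hR h2 ρ, Finset.sum_eq_single (0 : F)
        (fun b _ hb => by rw [hdz b hb, zero_mul]) (by simp), hd0, one_mul]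

end Cfsg.Agent.OrthOddMinDegree32BaseBound
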