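import Mathlib
import Cfsg.Agent.Lib.OrthOddMinDegree32BaseBound
import Cfsg.Agent.Lib.OrthMinDegree32Bound

/-!
Lower bounds for the degrees of nontrivial complex representations of `Ω_{2n+1}`, `q` odd.
-/

set_option autoImplicit false
set_option maxHeartbeats 1600000

namespace Cfsg.Agent.OrthOddMinDegree32Bound

open QuadraticMap
open Cfsg.Agent.OrthUnitaryQuad
open Cfsg.Agent.OrthUnitaryRefl
open Cfsg.Agent.OrthUnitaryOmega
open Cfsg.Agent.OrthUnitaryForms
open Cfsg.Agent.OrthUnitarySimple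
open Cfsg.Agent.OrthUnitaryStd
open Cfsg.Agent.OrthMinDegree32Geom
open Cfsg.Agent.OrthMinDegree32Count
open Cfsg.Agent.OrthMinDegree32
open Cfsg.Agent.OrthMinDegree32Fix
open Cfsg.Agent.OrthMinDegree32Bound
open Cfsg.Agent.SUMinDegree32Eigen
open Cfsg.Agent.OrthOddMinDegree32Core
open Cfsg.Agent.OrthOddMinDegree32Sum
open Cfsg.Agent.OrthOddMinDegree32Scalar
open Cfsg.Agent.OrthOddMinDegree32BaseBound

/-- The bound for `Ω_{2n+1}`, at `n = k + 3`. -/
def bO (q : ℤ) : ℕ → ℤ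
  | 0 => q ^ 4 + q ^ 2 + 1
  | k + 1 => bO q k + q ^ (2 * k + 6)

theorem bO_spec (q : ℤ) : ∀ k : ℕ, (q ^ 2 - 1) * bO q k = q ^ (2 * k + 6) - 1
  | 0 => by rw [bO]; ring
  | k + 1 => by rw [bO, mul_add, bO_spec q k]; ring

theorem two_min {q y b L : ℤ} (hq : 3 ≤ q) (hy : q ^ 3 ≤ y)
    (hspec : (q ^ 2 - 1) * b = q ^ 2 * y ^ 2 - 1) (hL : y ^ 2 - y ≤ L) : b ≤ 2 * L := by
  have hq1 : 0 < q ^ 2 - 1 := by nlinarith
  refine le_of_mul_le_mul_left ?_ hq1
  have h3 : 0 ≤ y * (q ^ 2 - 2) - 2 * q ^ 2 + 2 := by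
    have h9 : (9 : ℤ) ≤ q ^ 2 := by nlinarith
    have hy' : (3 : ℤ) ≤ y := by nlinarith
    nlinarith [mul_le_mul_of_nonneg_right hy' (show (0 : ℤ) ≤ q ^ 2 - 2 by nlinarith)]
  calc (q ^ 2 - 1) * b = q ^ 2 * y ^ 2 - 1 := hspec
    _ ≤ 2 * (q ^ 2 - 1) * (y ^ 2 - y) := by
      nlinarith [mul_nonneg (show (0 : ℤ) ≤ y by nlinarith) h3]
    _ ≤ 2 * (q ^ 2 - 1) * L := mul_le_mul_of_nonneg_left hL (by nlinarith)
    _ = _ := by ring

universe u

variable {F : Type u} [Field F] [Fintype F]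

theorem lev_qfSq_zero : lev (qfSq F) 0 = 1 := by
  rw [lev, card_zero_of_aniso (qfSq F) fun x hx => funext fun u => by simpa [qfSq_apply] using hx]
  rfl

/-- Level sets of the odd-dimensional standard space. -/
theorem lev_bounds (m : ℕ) (a : F) :
    (Fintype.card F : ℤ) ^ (2 * m) - (Fintype.card F : ℤ) ^ m ≤ lev (withBase m (qfSq F)) a ∧
      lev (withBase m (qfSq F)) 0 = (Fintype.card F : ℤ) ^ (2 * m) := by
  have hq : (0 : ℤ) < Fintype.card F := by exact_mod_cast Fintype.card_pos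
  have h := fun b => q_mul_lev_withBase (d := 1) (W := Unit → F) (by simp) (qfSq F) b m
  constructor
  · refine le_of_mul_le_mul_left ?_ hq
    rw [h a]
    have h0 : 0 ≤ lev (qfSq F) a := Int.natCast_nonneg _
    have e1 : 0 ≤ (Fintype.card F : ℤ) ^ m * ((Fintype.card F : ℤ) * lev (qfSq F) a) :=
      mul_nonneg (pow_nonneg hq.le _) (mul_nonneg hq.le h0)
    have e2 : (Fintype.card F : ℤ) * ((Fintype.card F : ℤ) ^ (2 * m) - (Fintype.card F : ℤ) ^ m) =
      (Fintype.card F : ℤ) ^ (2 * m + 1) - (Fintype.card F : ℤ) ^ m * (Fintype.card F : ℤ) ^ 1 := by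
      ring
    rw [e2, mul_sub]
    linarith
  · refine mul_left_cancel₀ hq.ne' ?_
    rw [h 0, lev_qfSq_zero]
    ring

/-- The step. -/
theorem odd_step (hodd : Odd (Fintype.card F)) (hq : 3 < Fintype.card F) (k : ℕ)
    (ih : Bd (withBase (k + 3) (qfSq F)) (bO (Fintype.card F : ℤ) k)) :
    Bd (withBase (k + 4) (qfSq F)) (bO (Fintype.card F : ℤ) (k + 1)) := by
  classical
  have h2ne : (2 : F) ≠ 0 := two_ne_zero_of_odd rfl hodd
  letI : Fintype ((Fin (k + 1) ⊕ Fin (k + 1) → F) × (Unit → F)) := Fintype.ofFinite _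
  set T := withBase (k + 1) (qfSq F) with hTdef
  have hT : (polarBilin T).Nondegenerate := nondegenerate_withBase (nondegenerate_qfSq h2ne) _
  have h2 : 2 ≤ Module.finrank F ((Fin (k + 1) ⊕ Fin (k + 1) → F) × (Unit → F)) := by
    rw [finrank_withBase_space]; omega
  have hR' := hR hT h2
  have hZ' := hZ hT h2
  have hQ0 := nondegenerate_hypExt hR'
  have hn0 := five_le (R := T) hT h2
  have ihW : Bd (hypExt (hypExt T)) (bO (Fintype.card F : ℤ) k) := by
    refine bd_congr (e2 (k + 1)).symm (fun x => ?_)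
      (nondegenerate_withBase (nondegenerate_qfSq h2ne) (k + 3)) ?_ ih
    · rw [← e2_isometry, LinearEquiv.apply_symm_apply]
    · rw [finrank_withBase_space]; omega
  refine bd_congr (e3 (k + 1)) (e3_isometry (qfSq F) (k + 1)) (nondegenerate_hypExt hQ0)
    (five_le (R := hypExt T) hR' hZ') ?_
  set q : ℤ := (Fintype.card F : ℤ) with hq'
  have hq3 : 3 ≤ q := by rw [hq']; exact_mod_cast hq.le
  set b := bO q (k + 1) with hb
  have hlev : ∀ a : F, q ^ (2 * (k + 3)) - q ^ (k + 3) ≤ lev (hypExt (hypExt T)) a ∧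
      lev (hypExt (hypExt T)) 0 = q ^ (2 * (k + 3)) := fun a => by
    rw [lev_congr (e2 (k + 1)) (e2_isometry (qfSq F) (k + 1)) a,
      lev_congr (e2 (k + 1)) (e2_isometry (qfSq F) (k + 1)) 0]
    exact lev_bounds (k + 3) a
  have hO : ∀ a, (O (hypExt T) a : ℤ) =
      lev (hypExt (hypExt T)) a - if a = 0 then 1 else 0 := fun a => O_eq a
  intro X _ _ _ σ hnt
  haveI : Finite (orth (hypExt (hypExt (hypExt T)))) := finite_orth _
  have hN := SLMinDegree32.bound_of_irreducible b.toNat (fun V _ _ _ ρ hirr hnt => ?_) _ X σ rfl hnt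
  · exact le_trans (Int.self_le_toNat b) (by exact_mod_cast hN)
  suffices h : b ≤ (Module.finrank ℂ V : ℤ) by omega
  have hy3 : q ^ 3 ≤ q ^ (k + 3) := pow_le_pow_right₀ (by omega) (by omega)
  have hL : ∀ a, q ^ (2 * (k + 3)) - q ^ (k + 3) ≤ (O (hypExt T) a : ℤ) := by
    intro a
    rw [hO]
    split_ifs with ha
    · subst ha
      rw [(hlev 0).2]
      have := pow_le_pow_right₀ (show (1 : ℤ) ≤ q by omega) (show 0 ≤ k + 3 by omega)
      rw [pow_zero] at this
      linarith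
    · rw [sub_zero]; exact (hlev a).1
  rcases dichotomy hR' hZ' ρ hnt hL with h | ⟨a, ha, hz, hsum, hN⟩
  · refine le_trans (two_min (L := q ^ (2 * (k + 3)) - q ^ (k + 3)) hq3 hy3 ?_ ?_) h
    · rw [hb, bO_spec]; ring
    · exact le_of_eq (by ring)
  have ha0 : a = 0 := by
    by_contra hne
    obtain ⟨μ, hμ0, hμ⟩ := exists_sq_ne_one hq
    have h1 := d_scale hR' hZ' ρ hμ0 a
    rw [ha, hz (μ * μ * a) fun e => hμ (mul_right_cancel₀ hne (e.trans (one_mul a).symm))] at h1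
    exact zero_ne_one h1
  subst ha0
  have hW := char_fixRep hT h2 ρ ha hsum (scal_of_card hT h2 hq 0)
  have hWnt : ∃ g, fixRep hR' hZ' ρ g ≠ 1 := by
    refine ⟨r hT h2 ((1, 0), 0), fun e => ?_⟩
    rw [char_one_apply _ e] at hW
    have hW' := sub_eq_self.1 hW.symm
    simp [mul_eq_zero, Fintype.card_ne_zero] at hW'
  have hf := ihW _ (fixRep hR' hZ' ρ) hWnt
  have hO0 : (O (hypExt T) 0 : ℤ) = q ^ (2 * k + 6) - 1 := by
    rw [hO, if_pos rfl, (hlev 0).2]; ring
  rw [hO0] at hN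
  rw [hb, bO]
  rcases hf.lt_or_eq with hlt | heq
  · rw [hN]; linarith
  exfalso
  haveI := hirr
  haveI : Finite (orth (hypExt (hypExt T))) := finite_orth _
  have hWirr : (fixRep hR' hZ' ρ).IsIrreducible := by
    refine irreducible_of_bound _ (fun U _ _ _ τ hτ => ?_) hWnt
    have := ihW _ τ hτ
    rw [heq] at this
    exact_mod_cast this
  obtain ⟨z, hzs⟩ := scalar_of_irreducible hR' hZ' ρ hWirr
  have hcard : Fintype.card ((F × F) × (F × F) ×
      (Fin (k + 1) ⊕ Fin (k + 1) → F) × (Unit → F)) = Fintype.card F ^ (2 * k + 7) := by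
    rw [Fintype.card_prod, Fintype.card_prod (α := F × F),
      ← Nat.card_eq_fintype_card (α := (Fin (k + 1) ⊕ Fin (k + 1) → F) × (Unit → F)),
      card_withBase_space (d := 1) (by simp), Fintype.card_prod]
    ring
  refine not_small ha (fun b hb => hz b hb) (sub_E0 hR' hZ' ρ) hzs
    (f := Module.finrank ℂ (eig (D hR' hZ' ρ) 0))
    (SLMinDegree32Spec.trace_P (D_add hR' hZ' ρ) 0) ?_ (n := k + 4) (by omega) hodd (by omega)
    ?_ ?_ ?_
  · zify
    rw [hcard, hO0]
    push_cast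
    rw [← hq']
    ring
  · rw [hcard]; ring
  · rw [hO0, ← hq', ← heq, bO_spec]
  · have hN' : (Module.finrank ℂ V : ℤ) =
        (Module.finrank ℂ (eig (D hR' hZ' ρ) 0) : ℤ) + (O (hypExt T) 0 : ℤ) := by
      rw [hN, hO0]
    exact_mod_cast hN'

/-- Seven dimensions. -/
theorem odd_base (hodd : Odd (Fintype.card F)) (hq : 3 < Fintype.card F) :
    Bd (withBase 3 (qfSq F)) (bO (Fintype.card F : ℤ) 0) := by
  classical
  have h2ne : (2 : F) ≠ 0 := two_ne_zero_of_odd rfl hodd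
  letI : Fintype ((Fin 0 ⊕ Fin 0 → F) × (Unit → F)) := Fintype.ofFinite _
  set T := withBase 0 (qfSq F) with hTdef
  have hT : (polarBilin T).Nondegenerate := nondegenerate_withBase (nondegenerate_qfSq h2ne) _
  have hA : ∀ p, T p = 0 → p = 0 := by
    rintro ⟨v, x⟩ hp
    have hv : v = 0 := Subsingleton.elim _ _
    subst hv
    have hx : qfSq F x = 0 := by
      simpa [hTdef, withBase_apply, quadFormPlus] using hp
    rw [qfSq_apply, mul_self_eq_zero] at hx
    exact Prod.ext rfl (funext fun _ => hx)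
  have hY : Module.finrank F ((Fin 0 ⊕ Fin 0 → F) × (Unit → F)) = 1 := by
    rw [finrank_withBase_space]; simp
  have hp1 : T (0, fun _ => 1) = 1 := by
    simp [hTdef, withBase_apply, quadFormPlus, qfSq_apply]
  have hR' := OrthOddMinDegree32Base.hR3 (F := F) hT
  have hZ' := OrthOddMinDegree32Base.h23 (F := F) hT hY
  refine bd_congr (e3 0) (e3_isometry (qfSq F) 0) (nondegenerate_hypExt (nondegenerate_hypExt hR'))
    (five_le (R := hypExt T) hR' hZ') ?_
  set q : ℤ := (Fintype.card F : ℤ) with hq'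
  have hq3 : 3 ≤ q := by rw [hq']; exact_mod_cast hq.le
  have hlev : ∀ a : F, q ^ (2 * 2) - q ^ 2 ≤ lev (hypExt (hypExt T)) a ∧
      lev (hypExt (hypExt T)) 0 = q ^ (2 * 2) := fun a => by
    rw [lev_congr (e2 0) (e2_isometry (qfSq F) 0) a,
      lev_congr (e2 0) (e2_isometry (qfSq F) 0) 0]
    exact lev_bounds 2 a
  intro X _ _ _ σ hnt
  haveI : Finite (orth (hypExt (hypExt (hypExt T)))) := finite_orth _
  have hN := SLMinDegree32.bound_of_irreducible (bO q 0).toNat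
    (fun V _ _ _ ρ hirr hnt => ?_) _ X σ rfl hnt
  · exact le_trans (Int.self_le_toNat _) (by exact_mod_cast hN)
  suffices h : bO q 0 ≤ (Module.finrank ℂ V : ℤ) by omega
  have hL : ∀ a, q ^ 4 - q ^ 2 ≤ (O (hypExt T) a : ℤ) := by
    intro a
    rw [O_eq]
    split_ifs with ha
    · subst ha
      rw [(hlev 0).2, show (2 * 2 : ℕ) = 4 from rfl]
      nlinarith
    · rw [sub_zero]; exact (hlev a).1
  rcases dichotomy hR' hZ' ρ hnt hL with h | ⟨a, ha, hz, hsum, hN⟩
  · refine le_trans ?_ h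
    rw [bO]
    have h9 : (9 : ℤ) ≤ q ^ 2 := by nlinarith
    nlinarith [mul_le_mul_of_nonneg_right h9 (show (0 : ℤ) ≤ q ^ 2 by nlinarith)]
  have ha0 : a = 0 := by
    by_contra hne
    obtain ⟨μ, hμ0, hμ⟩ := exists_sq_ne_one hq
    have h1 := d_scale hR' hZ' ρ hμ0 a
    rw [ha, hz (μ * μ * a) fun e => hμ (mul_right_cancel₀ hne (e.trans (one_mul a).symm))] at h1
    exact zero_ne_one h1
  subst ha0
  haveI := hirr
  rw [bO]
  exact base_bound hT hA hY hp1 ρ ha (fun b hb => hz b hb) hodd hq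

/-- The bound for every `n ≥ 3`. -/
theorem odd_bound (hodd : Odd (Fintype.card F)) (hq : 3 < Fintype.card F) :
    ∀ k : ℕ, Bd (withBase (k + 3) (qfSq F)) (bO (Fintype.card F : ℤ) k)
  | 0 => odd_base hodd hq
  | k + 1 => odd_step hodd hq k (odd_bound hodd hq k)

end Cfsg.Agent.OrthOddMinDegree32Bound
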