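import Mathlib
import Cfsg.Prelude.Def_LieTypeDatum
import Cfsg.Agent.Lib.OrthMinusKeep
import Cfsg.Agent.Lib.AutOrth45Forms
import Cfsg.Agent.Lib.GaloisDescentGL
import Cfsg.Agent.Lib.Witt

/-!
Involutory graph-field automorphisms of the plus-type orthogonal groups: a canonical
representative and its centraliser.
-/

set_option autoImplicit false
set_option linter.unusedSectionVars false

namespace Cfsg.Agent.OrthPlusGraphField

open QuadraticMap Module
open scoped Matrix MatrixGroups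
open Cfsg.Agent.OrthUnitaryQuad
open Cfsg.Agent.OrthUnitaryRefl
open Cfsg.Agent.OrthUnitaryOmega
open Cfsg.Agent.OrthUnitaryPrelude
open Cfsg.Agent.OmegaClasses
open Cfsg.Agent.OrthUnitarySimAut
open Cfsg.Agent.OrthUnitarySimilar
open Cfsg.Agent.OrthBaseChange
open Cfsg.Agent.OrthMinusKeep
open Cfsg.Agent.OrthUnitaryForms

variable {F : Type*} [Field F] [Fintype F]

theorem inv_plus (m : ℕ) : AutOrth45Api.Inv (QuadClassify.qPlus m F) := fun σ v => by
  simp [QuadClassify.qPlus_apply, quadFormPlus, map_sum]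

section Sim

variable {ι : Type} [Fintype ι] [DecidableEq ι] {Q : QuadraticForm F (ι → F)}

/-- Entrywise image of a similarity. -/
def mapSim (hinv : AutOrth45Api.Inv Q) (σ : F ≃+* F) : Sim Q →* Sim Q :=
  ((Matrix.GeneralLinearGroup.map (σ : F →+* F)).comp (Sim Q).subtype).codRestrict _ fun g => by
    obtain ⟨c, hc⟩ := g.2
    refine ⟨Units.map (σ : F →* F) c, fun v => ?_⟩
    show Q ((g : GL ι F).1.map σ *ᵥ v) = _
    have e : v = fun i => σ (σ.symm (v i)) := by funext i; simp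
    conv_lhs => rw [e, AutOrth45Api.map_mulVec_comp, hinv, hc, map_mul, ← hinv, ← e]
    rfl

theorem mapSim_mulVec (hinv : AutOrth45Api.Inv Q) (σ : F ≃+* F) (g : Sim Q) (u : ι → F) :
    (mapSim hinv σ g : GL ι F).1 *ᵥ (fun i => σ (u i))
      = fun i => σ (((g : GL ι F).1 *ᵥ u) i) :=
  AutOrth45Api.map_mulVec_comp σ (g : GL ι F).1 u

theorem fd_conjP (h : AutOrth45.Good Q) (hinv : AutOrth45Api.Inv Q) (σ : F ≃+* F) (g : Sim Q) :
    AutOrth45Api.fd h hinv σ * conjP Q g = conjP Q (mapSim hinv σ g) * AutOrth45Api.fd h hinv σ := by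
  rw [AutOrth45Api.conjP_eq h, AutOrth45Api.conjP_eq h, AutOrth45Api.fd_apply,
    AutOrth45Api.semiAut_mul, AutOrth45Api.semiAut_mul]
  refine AutOrth45Api.semiAut_congr h _ _ ?_ ?_
  · rw [map_one, mul_one, one_mul]; rfl
  · exact RingEquiv.ext fun x => rfl

/-- Conjugation of a reflection by a similarity. -/
theorem mul_refl_of_map {v w : ι → F} (hv : Q v ≠ 0) (hw : Q w ≠ 0) (g : Sim Q) {t : F} (ht : t ≠ 0)
    (hgv : (g : GL ι F).1 *ᵥ v = t • w) :
    g * ofOrth (refl Q v hv) = ofOrth (refl Q w hw) * g := by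
  obtain ⟨c, hc⟩ := g.2
  refine Subtype.ext (Units.ext (Matrix.ext_iff_mulVec.2 fun x => ?_))
  rw [Subgroup.coe_mul, Subgroup.coe_mul, Units.val_mul, Units.val_mul, ← Matrix.mulVec_mulVec,
    ← Matrix.mulVec_mulVec, ofOrth_mulVec, ofOrth_mulVec, refl_apply, refl_apply,
    Matrix.mulVec_sub, Matrix.mulVec_smul, hgv, smul_smul]
  congr 2
  have hp : (c : F) * polar Q v x = t * polar Q w ((g : GL ι F).1 *ᵥ x) := by
    rw [← smul_eq_mul t, ← polar_smul_left, ← hgv]
    simp only [polar, ← Matrix.mulVec_add, hc]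
    ring
  have hq : (c : F) * Q v = t * t * Q w := by
    rw [← hc, hgv, QuadraticMap.map_smul, smul_eq_mul]
  have hc0 : (c : F) ≠ 0 := c.ne_zero
  field_simp
  refine mul_left_cancel₀ hc0 ?_
  linear_combination (t * Q w) * hp - polar Q w ((g : GL ι F).1 *ᵥ x) * hq

theorem map_refl (hinv : AutOrth45Api.Inv Q) (σ : F ≃+* F) {v : ι → F} (hv : Q v ≠ 0)
    (hfix : ∀ i, σ (v i) = v i) :
    mapSim hinv σ (ofOrth (refl Q v hv)) = ofOrth (refl Q v hv) := by
  refine Subtype.ext (Units.ext (Matrix.ext_iff_mulVec.2 fun x => ?_))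
  obtain ⟨u, rfl⟩ : ∃ u : ι → F, (fun i => σ (u i)) = x :=
    ⟨fun i => σ.symm (x i), funext fun i => σ.apply_symm_apply _⟩
  rw [mapSim_mulVec, ofOrth_mulVec, ofOrth_mulVec, refl_apply, refl_apply]
  have hQv : σ (Q v) = Q v := by rw [← hinv, show (fun i => σ (v i)) = v from funext hfix]
  have hp : polar Q v (fun i => σ (u i)) = σ (polar Q v u) := by
    have e : v + (fun i => σ (u i)) = fun i => σ ((v + u) i) := by funext i; simp [hfix]
    rw [polar, polar, e, hinv, hinv, map_sub, map_sub, hQv]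
  funext i
  simp [hp, hQv, hfix]

end Sim

section Field

variable {F₀ : Type*} [Field F₀] [Fintype F₀] {σ : F ≃+* F}

/-- The fixed field of an involution is the image of a field of square root cardinality. -/
theorem exists_emb (hσ : orderOf σ = 2)
    (hcard : Fintype.card F₀ * Fintype.card F₀ = Fintype.card F) :
    ∃ φ : F₀ →+* F, (∀ y, σ (φ y) = φ y) ∧ ∀ x, σ x = x → ∃ y, φ y = x := by
  classical
  let K : Subfield F := RingHom.eqLocusField (σ : F →+* F) (RingHom.id F)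
  have e : Fintype.card K = Fintype.card F₀ := by
    have h := GaloisDescentGL.card_fixed σ
    rw [hσ, Nat.card_eq_fintype_card (α := F), ← hcard, ← pow_two] at h
    have h' := Nat.pow_left_injective two_ne_zero h
    rw [← h', ← Nat.card_eq_fintype_card]
    exact Nat.card_congr (Equiv.subtypeEquivRight fun x => Iff.rfl)
  let ψ : F₀ ≃+* K := FiniteField.ringEquivOfCardEq e.symm
  exact ⟨K.subtype.comp ψ.toRingHom, fun y => (ψ y).2,
    fun x hx => ⟨ψ.symm ⟨x, hx⟩, by simp⟩⟩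

theorem apply_apply (hσ : orderOf σ = 2) (x : F) : σ (σ x) = x := by
  have h : σ ^ 2 = 1 := hσ ▸ pow_orderOf_eq_one σ
  rw [pow_two] at h
  exact RingEquiv.congr_fun h x

theorem exists_frame (hσ : orderOf σ = 2) {φ : F₀ →+* F} (hφ : ∀ x, σ x = x → ∃ y, φ y = x)
    (hφσ : ∀ y, σ (φ y) = φ y) :
    ∃ (a b : F₀), IsAniso a b ∧ ∃ S : Frame φ a b, S.ω' = σ S.ω := by
  obtain ⟨ω, hω⟩ : ∃ ω, σ ω ≠ ω := by
    by_contra hc
    push Not at hc
    have : σ = 1 := RingEquiv.ext hc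
    simp [this] at hσ
  obtain ⟨a, ha⟩ := hφ (ω + σ ω) (by rw [map_add, apply_apply hσ, add_comm])
  obtain ⟨b, hb⟩ := hφ (ω * σ ω) (by rw [map_mul, apply_apply hσ, mul_comm])
  refine ⟨a, b, fun z₁ z₂ hz => ?_, ⟨⟨ω, σ ω, ha.symm, hb.symm, Ne.symm hω⟩, rfl⟩⟩
  have e : (φ z₁ + ω * φ z₂) * (φ z₁ + σ ω * φ z₂) = 0 := by
    have := congrArg φ hz
    simp only [map_add, map_mul, map_pow, map_zero] at this
    linear_combination this - (φ z₁ * φ z₂) * ha - φ z₂ ^ 2 * hb
  have h2 : z₂ = 0 := by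
    by_contra hne
    have hne' : φ z₂ ≠ 0 := (map_ne_zero φ).2 hne
    rcases mul_eq_zero.1 e with h | h
    · refine hω ?_
      have : ω = φ (-z₁ / z₂) := by
        rw [map_div₀, map_neg, eq_div_iff hne']; linear_combination h
      rw [this, hφσ]
    · refine hω ?_
      have : σ ω = φ (-z₁ / z₂) := by
        rw [map_div₀, map_neg, eq_div_iff hne']; linear_combination h
      have h2 := congrArg σ this
      rw [apply_apply hσ, hφσ] at h2
      rw [this, ← h2]
  subst h2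
  refine ⟨?_, rfl⟩
  simpa using hz

end Field

variable {n : ℕ}

/-- The vector of the canonical reflection. -/
def v0 (n : ℕ) (K : Type*) [Field K] : Fin (n + 1) ⊕ Fin (n + 1) → K :=
  Pi.single (.inl (Fin.last n)) 1 - Pi.single (.inr (Fin.last n)) 1

theorem q_v0 (n : ℕ) (K : Type*) [Field K] : QuadClassify.qPlus (n + 1) K (v0 n K) = -1 := by
  simp [QuadClassify.qPlus_apply, quadFormPlus, v0, Pi.single_apply, Fin.sum_univ_castSucc]

theorem v0_ns (n : ℕ) : QuadClassify.qPlus (n + 1) F (v0 n F) ≠ 0 := by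
  rw [q_v0]; exact neg_ne_zero.2 one_ne_zero

/-- The canonical reflection. -/
noncomputable def R0 (n : ℕ) (F : Type*) [Field F] [Fintype F] :
    Sim (QuadClassify.qPlus (n + 1) F) :=
  ofOrth (refl _ (v0 n F) (v0_ns n))

/-- Interchange of the last pair. -/
def sw (n : ℕ) : Fin (n + 1) ⊕ Fin (n + 1) → Fin (n + 1) ⊕ Fin (n + 1)
  | .inl i => if i = Fin.last n then .inr i else .inl i
  | .inr i => if i = Fin.last n then .inl i else .inr i

theorem R0_mulVec (n : ℕ) (w : Fin (n + 1) ⊕ Fin (n + 1) → F) :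
    (R0 n F : GL (Fin (n + 1) ⊕ Fin (n + 1)) F).1 *ᵥ w = fun i => w (sw n i) := by
  have hp : polar (QuadClassify.qPlus (n + 1) F) (v0 n F) w
      = w (.inr (Fin.last n)) - w (.inl (Fin.last n)) := by
    simp [polar, QuadClassify.qPlus_apply, quadFormPlus, v0, Pi.single_apply,
      Fin.sum_univ_castSucc, Fin.castSucc_ne_last]
    ring
  rw [R0, ofOrth_mulVec, refl_apply, q_v0, hp]
  funext i
  rcases i with i | i <;> refine Fin.lastCases ?_ ?_ i <;> (try intro j) <;>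
    simp [v0, sw, Pi.single_apply, Fin.castSucc_ne_last]

theorem R0_not_keep (hn : 2 ≤ n) :
    R0 n F ∉ keepPlus (K := F) (show 3 ≤ n + 1 by omega) := by
  rw [R0, ← rprod_singleton (v0_ns n), keep_ofOrth _ (by intro w hw; simp at hw; subst hw; exact v0_ns n)]
  simp

/-- The canonical involution. -/
noncomputable def x0 (hn : 4 ≤ n) (σ : F ≃+* F) :
    MulAut (POmega F ⇑(QuadClassify.qPlus (n + 1) F)) :=
  conjP _ (R0 n F) *
    AutOrth45Api.fd (AutOrth45Forms.good_plus (show 5 ≤ n + 1 by omega)) (inv_plus _) σ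

/-- The inner-diagonal group. -/
noncomputable def inndiag (hn : 4 ≤ n) :
    Subgroup (MulAut (POmega F ⇑(QuadClassify.qPlus (n + 1) F))) :=
  (keepPlus (K := F) (show 3 ≤ n + 1 by omega)).map (conjP _)

section Conj

variable {F₀ : Type*} [Field F₀] [Fintype F₀] {σ : F ≃+* F} {φ : F₀ →+* F}

/-- A fixed similarity moving a fixed vector to the canonical one. -/
theorem exists_move (hφσ : ∀ y, σ (φ y) = φ y) (hφ : ∀ x, σ x = x → ∃ y, φ y = x)
    {v : Fin (n + 1) ⊕ Fin (n + 1) → F} (hv : QuadClassify.qPlus (n + 1) F v ≠ 0)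
    (hfix : ∀ i, σ (v i) = v i) :
    ∃ k : Sim (QuadClassify.qPlus (n + 1) F), mapSim (inv_plus _) σ k = k ∧
      (k : GL (Fin (n + 1) ⊕ Fin (n + 1)) F).1 *ᵥ v = v0 n F := by
  choose u hu using fun i => hφ (v i) (hfix i)
  set Q₀ := QuadClassify.qPlus (n + 1) F₀
  have hrat : ∀ w : Fin (n + 1) ⊕ Fin (n + 1) → F₀, QuadClassify.qPlus (n + 1) F (fun i => φ (w i)) = φ (Q₀ w) := fun w => by
    simp [Q₀, QuadClassify.qPlus_apply, quadFormPlus, map_sum]
  have hvu : v = fun i => φ (u i) := funext fun i => (hu i).symm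
  set α := Q₀ u
  have hα : α ≠ 0 := fun e => hv (by rw [hvu, hrat, show Q₀ u = α from rfl, e, map_zero])
  have hu0 : u ≠ 0 := fun e => hα (by simp [α, e])
  set w : Fin (n + 1) ⊕ Fin (n + 1) → F₀ := Pi.single (.inl (Fin.last n)) 1 + α • Pi.single (.inr (Fin.last n)) 1
  have hw : Q₀ w = α := by
    simp [w, Q₀, QuadClassify.qPlus_apply, quadFormPlus, Pi.single_apply, Fin.sum_univ_castSucc,
      Fin.castSucc_ne_last]
  have hw0 : w ≠ 0 := fun e => hα (by rw [← hw, e, QuadraticMap.map_zero])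
  obtain ⟨g, hg, hgu⟩ := Witt.quad_extend Q₀ OmegaStd.nondeg_plus (Submodule.span F₀ {u})
    ((LinearMap.toSpanSingleton F₀ (Fin (n + 1) ⊕ Fin (n + 1) → F₀) w).comp
      (LinearEquiv.toSpanNonzeroSingleton F₀ (Fin (n + 1) ⊕ Fin (n + 1) → F₀) u hu0).symm.toLinearMap)
    (by
      rw [LinearMap.coe_comp]
      exact Function.Injective.comp (fun a b e => smul_left_injective F₀ hw0 (by simpa using e))
        (LinearEquiv.injective _))
    (fun a => by
      obtain ⟨t, rfl⟩ := (LinearEquiv.toSpanNonzeroSingleton F₀ (Fin (n + 1) ⊕ Fin (n + 1) → F₀) u hu0).surjective a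
      simp only [LinearMap.comp_apply, LinearEquiv.coe_coe, LinearEquiv.symm_apply_apply,
        LinearMap.toSpanSingleton_apply, QuadraticMap.map_smul, hw]
      show _ = Q₀ (t • u)
      rw [QuadraticMap.map_smul])
  have hgu' : g u = w := by
    have := hgu ⟨u, Submodule.mem_span_singleton_self u⟩
    rw [this]
    have e : (LinearEquiv.toSpanNonzeroSingleton F₀ (Fin (n + 1) ⊕ Fin (n + 1) → F₀) u hu0) 1
        = ⟨u, Submodule.mem_span_singleton_self u⟩ := Subtype.ext (one_smul F₀ u)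
    rw [LinearMap.comp_apply, LinearEquiv.coe_coe, ← e, LinearEquiv.symm_apply_apply]
    simp
  set d : Fin (n + 1) ⊕ Fin (n + 1) → F₀ := Sum.elim (fun _ => 1) (fun _ => -α⁻¹)
  have hd : (Matrix.diagonal d).det ≠ 0 := by
    rw [Matrix.det_diagonal, Finset.prod_ne_zero_iff]
    rintro (i | i) - <;> simp [d, hα]
  set A : GL (Fin (n + 1) ⊕ Fin (n + 1)) F₀ := Matrix.GeneralLinearGroup.mkOfDetNeZero (Matrix.diagonal d) hd *
    Matrix.GeneralLinearGroup.mkOfDetNeZero (LinearMap.toMatrix' g.toLinearMap)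
      (by rw [LinearMap.det_toMatrix']; exact g.isUnit_det'.ne_zero) with hA
  have hAv : ∀ x, A.1 *ᵥ x = fun i => d i * g x i := fun x => by
    rw [hA, Units.val_mul, ← Matrix.mulVec_mulVec]
    funext i
    rw [Matrix.GeneralLinearGroup.val_mkOfDetNeZero, Matrix.GeneralLinearGroup.val_mkOfDetNeZero,
      Matrix.mulVec_diagonal, LinearMap.toMatrix'_mulVec]
    rfl
  have hAQ : ∀ x, Q₀ (A.1 *ᵥ x) = -α⁻¹ * Q₀ x := fun x => by
    rw [hAv, ← hg x]
    simp only [Q₀, QuadClassify.qPlus_apply, quadFormPlus, d, Sum.elim_inl, Sum.elim_inr, one_mul,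
      Finset.mul_sum]
    exact Finset.sum_congr rfl fun i _ => by ring
  refine ⟨⟨Matrix.GeneralLinearGroup.map φ A, Units.mk0 (φ (-α⁻¹))
    ((map_ne_zero φ).2 (neg_ne_zero.2 (inv_ne_zero hα))),
    fun x => sim_map φ Q₀ _ hrat A.1 _ hAQ x⟩, ?_, ?_⟩
  · refine Subtype.ext (Units.ext ?_)
    show ((A.1).map φ).map σ = (A.1).map φ
    rw [Matrix.map_map]
    exact Matrix.ext fun i j => hφσ _
  · show (A.1).map φ *ᵥ v = _
    rw [hvu, map_mulVec, hAv, hgu']
    funext i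
    rcases i with i | i <;> refine Fin.lastCases ?_ ?_ i <;> (try intro j) <;>
      simp [w, d, v0, Pi.single_apply, Fin.castSucc_ne_last, hα]

theorem isConj_x0 (hn : 4 ≤ n) (hφσ : ∀ y, σ (φ y) = φ y) (hφ : ∀ x, σ x = x → ∃ y, φ y = x)
    (g : Sim (QuadClassify.qPlus (n + 1) F)) {v : Fin (n + 1) ⊕ Fin (n + 1) → F}
    (hv : QuadClassify.qPlus (n + 1) F v ≠ 0) (hfix : ∀ i, σ (v i) = v i) :
    IsConjUnder (inndiag hn)
      (conjP _ g * (conjP _ (ofOrth (refl _ v hv)) * AutOrth45Api.fd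
        (AutOrth45Forms.good_plus (show 5 ≤ n + 1 by omega)) (inv_plus _) σ) * (conjP _ g)⁻¹)
      (x0 hn σ) := by
  obtain ⟨k, hk, hkv⟩ := exists_move hφσ hφ hv hfix
  set hg45 := AutOrth45Forms.good_plus (F := F) (show 5 ≤ n + 1 by omega)
  set P := conjP (QuadClassify.qPlus (n + 1) F)
  set r := ofOrth (refl _ v hv)
  set D := AutOrth45Api.fd hg45 (inv_plus (n + 1)) σ
  have hkr : k * r = R0 n F * k := mul_refl_of_map hv (v0_ns n) k one_ne_zero (by rw [hkv, one_smul])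
  have hDk : D * P k = P k * D := by
    have := fd_conjP hg45 (inv_plus (n + 1)) σ k
    rwa [hk] at this
  have hDr : D * P r = P r * D := by
    have := fd_conjP hg45 (inv_plus (n + 1)) σ r
    rwa [map_refl (inv_plus (n + 1)) σ hv hfix] at this
  have main : P k * (P r * D) * (P k)⁻¹ = x0 hn σ := by
    show _ = P (R0 n F) * D
    rw [← mul_assoc, ← map_mul, hkr, map_mul, mul_assoc (P (R0 n F)), ← hDk]
    group
  have main2 : P (k * r) * (P r * D) * (P (k * r))⁻¹ = x0 hn σ := by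
    rw [← main, map_mul]
    have : P r * (P r * D) * (P r)⁻¹ = P r * D := by
      rw [mul_inv_eq_iff_eq_mul, mul_assoc (P r) D, hDr]
    conv_rhs => rw [← this]
    group
  have hr : r ∉ keepPlus (K := F) (show 3 ≤ n + 1 by omega) := by
    simp only [r]
    rw [← rprod_singleton hv, keep_ofOrth _ (by intro w hw; simp at hw; subst hw; exact hv)]
    simp
  by_cases hc : k * g⁻¹ ∈ keepPlus (K := F) (show 3 ≤ n + 1 by omega)
  · refine ⟨P (k * g⁻¹), ⟨_, hc, rfl⟩, ?_⟩
    rw [map_mul, map_inv, ← main]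
    group
  · refine ⟨P (k * r * g⁻¹), ⟨_, ?_, rfl⟩, ?_⟩
    · show k * r * g⁻¹ ∈ keepPlus _
      rw [keep_mul] at hc
      rw [keep_mul, keep_mul]
      tauto
    · rw [map_mul (f := P) (x := k * r), map_inv, ← main2]
      group

end Conj

section Centraliser

variable {F₀ : Type*} [Field F₀] [Fintype F₀] {σ : F ≃+* F} {φ : F₀ →+* F} {a b : F₀}
  (S : Frame φ a b)

/-- The semilinear involution attached to the canonical element. -/
def Sw (n : ℕ) (σ : F ≃+* F) (w : Fin (n + 1) ⊕ Fin (n + 1) → F) :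
    Fin (n + 1) ⊕ Fin (n + 1) → F := fun i => σ (w (sw n i))

theorem Sw_L (hσ : orderOf σ = 2) (hω : S.ω' = σ S.ω) (u : (Fin n ⊕ Fin n) ⊕ Fin 2 → F) :
    Sw n σ (S.L n u) = S.L n (fun i => σ (u i)) := by
  funext i
  rcases i with i | i <;> refine Fin.lastCases ?_ ?_ i <;> (try intro j) <;>
    simp [Sw, sw, Frame.L, Fin.castSucc_ne_last, hω, apply_apply hσ]

theorem comm_iff (hn : 4 ≤ n) (g : Sim (QuadClassify.qPlus (n + 1) F)) :
    conjP _ g * x0 hn σ = x0 hn σ * conjP _ g ↔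
      ∃ l : F, l ≠ 0 ∧ ∀ w, (g : GL (Fin (n + 1) ⊕ Fin (n + 1)) F).1 *ᵥ Sw n σ w
        = l • Sw n σ ((g : GL (Fin (n + 1) ⊕ Fin (n + 1)) F).1 *ᵥ w) := by
  set hg45 := AutOrth45Forms.good_plus (F := F) (show 5 ≤ n + 1 by omega)
  set hi := inv_plus (F := F) (n + 1)
  have e1 : x0 hn σ * conjP _ g
      = conjP _ (R0 n F * mapSim hi σ g) * AutOrth45Api.fd hg45 hi σ := by
    show conjP _ (R0 n F) * AutOrth45Api.fd hg45 hi σ * conjP _ g = _
    rw [mul_assoc, fd_conjP, map_mul, mul_assoc]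
  have e2 : conjP _ g * x0 hn σ = conjP _ (g * R0 n F) * AutOrth45Api.fd hg45 hi σ := by
    show conjP _ g * (conjP _ (R0 n F) * AutOrth45Api.fd hg45 hi σ) = _
    rw [map_mul, mul_assoc]
  rw [e1, e2, mul_left_inj, eq_comm, ← inv_mul_eq_one, ← map_inv, ← map_mul, ← MonoidHom.mem_ker,
    ker_conjP _ hg45.nd (by simp; omega), mem_scalarSim]
  set G := g * R0 n F
  set H := R0 n F * mapSim hi σ g
  have key : ∀ l : F, ((H⁻¹ * G : Sim _) : GL (Fin (n + 1) ⊕ Fin (n + 1)) F).1 = l • 1 ↔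
      ∀ w, (g : GL (Fin (n + 1) ⊕ Fin (n + 1)) F).1 *ᵥ Sw n σ w
        = l • Sw n σ ((g : GL (Fin (n + 1) ⊕ Fin (n + 1)) F).1 *ᵥ w) := by
    intro l
    have hG : ∀ w : Fin (n + 1) ⊕ Fin (n + 1) → F,
        (G : GL (Fin (n + 1) ⊕ Fin (n + 1)) F).1 *ᵥ (fun i => σ (w i))
          = (g : GL (Fin (n + 1) ⊕ Fin (n + 1)) F).1 *ᵥ Sw n σ w := fun w => by
      rw [Subgroup.coe_mul, Units.val_mul, ← Matrix.mulVec_mulVec, R0_mulVec]; rfl
    have hH : ∀ w : Fin (n + 1) ⊕ Fin (n + 1) → F,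
        (H : GL (Fin (n + 1) ⊕ Fin (n + 1)) F).1 *ᵥ (fun i => σ (w i))
          = Sw n σ ((g : GL (Fin (n + 1) ⊕ Fin (n + 1)) F).1 *ᵥ w) := fun w => by
      rw [Subgroup.coe_mul, Units.val_mul, ← Matrix.mulVec_mulVec, mapSim_mulVec, R0_mulVec]; rfl
    have h1 : ((H⁻¹ * G : Sim _) : GL (Fin (n + 1) ⊕ Fin (n + 1)) F).1 = l • 1 ↔
        (G : GL (Fin (n + 1) ⊕ Fin (n + 1)) F).1
          = l • (H : GL (Fin (n + 1) ⊕ Fin (n + 1)) F).1 := by
      rw [Subgroup.coe_mul, Subgroup.coe_inv, Units.val_mul, Units.inv_mul_eq_iff_eq_mul,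
        Matrix.mul_smul, Matrix.mul_one]
    rw [h1]
    constructor
    · intro e w
      rw [← hG, ← hH, e, Matrix.smul_mulVec]
    · intro e
      refine Matrix.ext_iff_mulVec.2 fun w => ?_
      have hw : w = fun i => σ (σ.symm (w i)) := by funext i; simp
      rw [hw, hG, Matrix.smul_mulVec, hH, e]
  simp only [key]
  exact exists_congr fun l => and_comm

theorem comm_simHom (hn : 4 ≤ n) (hσ : orderOf σ = 2) (hω : S.ω' = σ S.ω)
    (hφσ : ∀ y, σ (φ y) = φ y) (g : Sim (QuadClassify.qMinus n F₀ a b)) :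
    conjP _ (S.simHom n g) * x0 hn σ = x0 hn σ * conjP _ (S.simHom n g) := by
  refine (comm_iff hn _).2 ⟨1, one_ne_zero, fun w => ?_⟩
  obtain ⟨u, rfl⟩ := (S.L n).surjective w
  rw [one_smul, Sw_L S hσ hω, S.simHom_coe, S.theta_mulVec, S.theta_mulVec, Sw_L S hσ hω]
  congr 1
  have e : ((g : GL ((Fin n ⊕ Fin n) ⊕ Fin 2) F₀).1.map φ).map σ
      = (g : GL ((Fin n ⊕ Fin n) ⊕ Fin 2) F₀).1.map φ := by
    rw [Matrix.map_map]
    exact Matrix.ext fun i j => hφσ _
  conv_lhs => rw [← e]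
  exact AutOrth45Api.map_mulVec_comp σ _ u

theorem exists_simHom (hn : 4 ≤ n) (hσ : orderOf σ = 2) (hω : S.ω' = σ S.ω)
    (hφ : ∀ x, σ x = x → ∃ y, φ y = x) {g : Sim (QuadClassify.qPlus (n + 1) F)}
    (hg : conjP _ g * x0 hn σ = x0 hn σ * conjP _ g) :
    ∃ g₀ : Sim (QuadClassify.qMinus n F₀ a b), ∃ z ∈ scalarSim _, g = z * S.simHom n g₀ := by
  obtain ⟨l, hl0, hl⟩ := (comm_iff hn g).1 hg
  set G := (g : GL (Fin (n + 1) ⊕ Fin (n + 1)) F).1
  set ι₀ := (Fin n ⊕ Fin n) ⊕ Fin 2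
  set h : Matrix ι₀ ι₀ F := LinearMap.toMatrix'
    (((S.L n).symm.toLinearMap.comp (Matrix.toLin' G)).comp (S.L n).toLinearMap) with hh
  have hLh : ∀ u, S.L n (h *ᵥ u) = G *ᵥ S.L n u := fun u => by
    rw [hh, LinearMap.toMatrix'_mulVec]; simp
  have hcol : ∀ i j, h i j = l * σ (h i j) := by
    intro i j
    have e := hl (S.L n (Pi.single j 1))
    rw [Sw_L S hσ hω, ← hLh, ← hLh, Sw_L S hσ hω, ← map_smul] at e
    have e' := congrFun ((S.L n).injective e) i
    rw [show (fun k => σ ((Pi.single j (1 : F) : ι₀ → F) k)) = Pi.single j 1 from funext fun k => by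
      by_cases hk : k = j <;> simp [hk]] at e'
    simpa [Matrix.mulVec_single] using e'
  have hinj : Function.Injective h.mulVec := fun u v e => by
    have := congrArg (S.L n) e
    rw [hLh, hLh] at this
    exact (S.L n).injective (sim_injective _ g this)
  have hdet : h.det ≠ 0 :=
    ((Matrix.isUnit_iff_isUnit_det h).1 (Matrix.mulVec_injective_iff_isUnit.1 hinj)).ne_zero
  obtain ⟨i₀, j₀, hc⟩ : ∃ i j, h i j ≠ 0 := by
    by_contra hc
    push Not at hc
    haveI : Nonempty ι₀ := ⟨.inr 0⟩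
    exact hdet (by rw [show h = 0 from Matrix.ext hc, Matrix.det_zero])
  set c := h i₀ j₀
  have hfix : ∀ i j, σ (h i j / c) = h i j / c := by
    intro i j
    have hσc : σ c ≠ 0 := (map_ne_zero σ).2 hc
    rw [map_div₀, div_eq_div_iff hσc hc]
    linear_combination σ (h i j) * hcol i₀ j₀ - σ c * hcol i j
  choose A hA using fun i j => hφ _ (hfix i j)
  have hhA : h = c • (Matrix.of A).map φ := by
    ext i j
    rw [Matrix.smul_apply, Matrix.map_apply, Matrix.of_apply, hA, smul_eq_mul, mul_div_cancel₀ _ hc]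
  have hAdet : (Matrix.of A).det ≠ 0 := fun e => hdet (by
    rw [hhA, Matrix.det_smul, ← RingHom.mapMatrix_apply, ← RingHom.map_det, e, map_zero, mul_zero])
  obtain ⟨μ, hμ⟩ := g.2
  have hform : ∀ v, φ (QuadClassify.qMinus n F₀ a b (Matrix.of A *ᵥ v))
      = ((μ : F) / (c * c)) * φ (QuadClassify.qMinus n F₀ a b v) := by
    intro v
    have e : QuadClassify.qPlus (n + 1) F (G *ᵥ S.vec n v)
        = (μ : F) * QuadClassify.qPlus (n + 1) F (S.vec n v) := hμ _
    rw [Frame.vec, ← hLh, hhA, Matrix.smul_mulVec, map_mulVec, map_smul, QuadraticMap.map_smul,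
      smul_eq_mul] at e
    have e1 : ∀ u, QuadClassify.qPlus (n + 1) F (S.L n fun i => φ (u i))
        = φ (QuadClassify.qMinus n F₀ a b u) := S.vec_value n
    rw [e1, e1] at e
    field_simp
    linear_combination e
  set v₁ : ι₀ → F₀ := Pi.single (.inr 0) 1
  have hv₁ : QuadClassify.qMinus n F₀ a b v₁ = 1 := by
    simp [v₁, ι₀, QuadClassify.qMinus_apply, quadFormMinus, Pi.single_apply]
  set μ₀ := QuadClassify.qMinus n F₀ a b (Matrix.of A *ᵥ v₁)
  have hμ₀ : φ μ₀ = (μ : F) / (c * c) := by rw [hform, hv₁, map_one, mul_one]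
  have hμ₀ne : μ₀ ≠ 0 := fun e => by
    rw [e, map_zero] at hμ₀
    exact div_ne_zero μ.ne_zero (mul_ne_zero hc hc) hμ₀.symm
  let g₀ : Sim (QuadClassify.qMinus n F₀ a b) :=
    ⟨Matrix.GeneralLinearGroup.mkOfDetNeZero (Matrix.of A) hAdet, Units.mk0 μ₀ hμ₀ne, fun v =>
      φ.injective (by
        rw [map_mul, Units.val_mk0, hμ₀]
        exact hform v)⟩
  refine ⟨g₀, scalarOf _ (Units.mk0 c hc), scalarOf_mem _, ?_⟩
  refine Subtype.ext (Units.ext (Matrix.ext_iff_mulVec.2 fun w => ?_))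
  obtain ⟨u, rfl⟩ := (S.L n).surjective w
  rw [Subgroup.coe_mul, Units.val_mul, scalarOf_coe, Matrix.smul_mul, Matrix.one_mul,
    Matrix.smul_mulVec, S.simHom_coe, S.theta_mulVec, ← map_smul]
  show G *ᵥ S.L n u = _
  rw [← hLh, hhA, Matrix.smul_mulVec]
  rfl

/-- The similarities of the minus form that keep the classes. -/
noncomputable def keep0 (hn : 4 ≤ n) : Subgroup (Sim (QuadClassify.qMinus n F₀ a b)) :=
  (keepPlus (K := F) (show 3 ≤ n + 1 by omega)).comap (S.simHom n)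

theorem centraliser_eq (hn : 4 ≤ n) (hσ : orderOf σ = 2) (hω : S.ω' = σ S.ω)
    (hφσ : ∀ y, σ (φ y) = φ y) (hφ : ∀ x, σ x = x → ∃ y, φ y = x) :
    inndiag hn ⊓ Subgroup.centralizer {x0 hn σ}
      = (keep0 S hn).map ((conjP _).comp (S.simHom n)) := by
  ext y
  rw [Subgroup.mem_inf, Subgroup.mem_centralizer_singleton_iff]
  constructor
  · rintro ⟨⟨g, hg, rfl⟩, hy⟩
    obtain ⟨g₀, z, hz, rfl⟩ := exists_simHom S hn hσ hω hφ hy
    refine ⟨g₀, ?_, ?_⟩
    · show S.simHom n g₀ ∈ keepPlus (show 3 ≤ n + 1 by omega)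
      exact ((keepPlus (show 3 ≤ n + 1 by omega)).mul_mem_cancel_left (OrthClassParity.scalar_mem_keep _ _ _ hz)).1 hg
    · rw [MonoidHom.comp_apply, map_mul, MonoidHom.mem_ker.1 (scalarSim_le_ker _ hz), one_mul]
  · rintro ⟨g₀, hg₀, rfl⟩
    exact ⟨⟨S.simHom n g₀, hg₀, rfl⟩, comm_simHom S hn hσ hω hφσ g₀⟩

theorem centraliser_iso (hn : 4 ≤ n) (hab : IsAniso a b) (hσ : orderOf σ = 2)
    (hω : S.ω' = σ S.ω) (hφσ : ∀ y, σ (φ y) = φ y) (hφ : ∀ x, σ x = x → ∃ y, φ y = x) :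
    Nonempty (↥(inndiag hn ⊓ Subgroup.centralizer {x0 hn σ}) ≃*
      ↥((keep0 S hn).map (conjP (QuadClassify.qMinus n F₀ a b)))) := by
  rw [centraliser_eq S hn hσ hω hφσ hφ]
  set f := ((conjP (QuadClassify.qPlus (n + 1) F)).comp (S.simHom n)).comp (keep0 S hn).subtype
  set k := (conjP (QuadClassify.qMinus n F₀ a b)).comp (keep0 S hn).subtype
  have hker : f.ker = k.ker := by
    ext g
    show conjP _ (S.simHom n g.1) = 1 ↔ conjP _ g.1 = 1
    rw [← MonoidHom.mem_ker, ← MonoidHom.mem_ker,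
      ker_conjP _ OmegaStd.nondeg_plus (by simp; omega),
      ker_conjP _ (AutOrth45Forms.nondegenerate_qMinus hab n) (by simp; omega)]
    exact ⟨S.scalar_of_simHom n, S.simHom_scalar n⟩
  refine ⟨(MulEquiv.subgroupCongr ?_).trans (((QuotientGroup.quotientKerEquivRange f).symm.trans
    ((QuotientGroup.quotientMulEquivOfEq hker).trans (QuotientGroup.quotientKerEquivRange k))).trans
    (MulEquiv.subgroupCongr ?_))⟩
  · rw [MonoidHom.range_comp, Subgroup.range_subtype]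
  · rw [MonoidHom.range_comp, Subgroup.range_subtype]

end Centraliser

end Cfsg.Agent.OrthPlusGraphField
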