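import Mathlib
import Cfsg.Prelude.Def_LieTypeDatum
import Cfsg.Agent.Lib.OrthUnitarySimAut
import Cfsg.Agent.Lib.OmegaClasses

/-!
Semisimilarities of a quadratic form acting on `PΩ`: the group they generate, and the field
automorphism of an element acting trivially.
-/

set_option autoImplicit false
set_option linter.unusedSectionVars false

namespace Cfsg.Agent.OrthSemilinear

open QuadraticMap
open scoped Matrix MatrixGroups commutatorElement
open Cfsg.Agent.OrthUnitaryQuad
open Cfsg.Agent.OrthUnitaryRefl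
open Cfsg.Agent.OrthUnitaryOmega
open Cfsg.Agent.OrthUnitaryPrelude
open Cfsg.Agent.OrthUnitarySimple
open Cfsg.Agent.OrthUnitarySimAut

variable {ι : Type} [Fintype ι] [DecidableEq ι] {F : Type*} [Field F]

/-- Entrywise application of a field automorphism. -/
abbrev mapGL (σ : F ≃+* F) : GL ι F →* GL ι F :=
  Units.map (RingHom.mapMatrix (σ : F →+* F)).toMonoidHom

theorem mapGL_coe (σ : F ≃+* F) (s : GL ι F) : (mapGL σ s).1 = s.1.map σ := rfl

/-- Conjugation by the semilinear map of `(g, σ)`. -/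
def semiConj (g : GL ι F) (σ : F ≃+* F) : GL ι F →* GL ι F :=
  (MulAut.conj g).toMonoidHom.comp (mapGL σ)

theorem semiConj_apply (g : GL ι F) (σ : F ≃+* F) (s : GL ι F) :
    semiConj g σ s = g * mapGL σ s * g⁻¹ := rfl

theorem semiConj_coe (g : GL ι F) (σ : F ≃+* F) (s : GL ι F) :
    (semiConj g σ s).1 = g.1 * s.1.map σ * (g⁻¹ : GL ι F).1 := rfl

theorem map_mulVec (σ : F ≃+* F) (A : Matrix ι ι F) (v : ι → F) :
    A.map σ *ᵥ (fun i => σ (v i)) = fun i => σ ((A *ᵥ v) i) := by
  funext i
  exact (RingHom.map_mulVec (σ : F →+* F) A v i).symm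

/-- The composite of two semisimilarities. -/
theorem pair_mul {Q : (ι → F) → F} {g g' : GL ι F} {σ σ' : F ≃+* F}
    (h : IsSemisimilarityPair Q g σ) (h' : IsSemisimilarityPair Q g' σ') :
    IsSemisimilarityPair Q (g * mapGL σ g') (σ'.trans σ) := by
  obtain ⟨c, hc⟩ := h
  obtain ⟨c', hc'⟩ := h'
  refine ⟨c * Units.map (σ : F →+* F).toMonoidHom c', fun v => ?_⟩
  rw [Units.val_mul, ← Matrix.mulVec_mulVec, mapGL_coe,
    show (fun i => (σ'.trans σ) (v i)) = fun i => σ ((fun j => σ' (v j)) i) from rfl,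
    map_mulVec, hc, hc', map_mul, Units.val_mul, RingEquiv.trans_apply]
  simp only [Units.coe_map, RingHom.toMonoidHom_eq_coe, MonoidHom.coe_coe, RingEquiv.coe_toRingHom,
    mul_assoc]

theorem semiConj_mul (g g' : GL ι F) (σ σ' : F ≃+* F) (s : GL ι F) :
    semiConj (g * mapGL σ g') (σ'.trans σ) s = semiConj g σ (semiConj g' σ' s) := by
  have e : mapGL (σ'.trans σ) s = mapGL σ (mapGL σ' s) :=
    Units.ext (by simp only [mapGL_coe, Matrix.map_map]; rfl)
  rw [semiConj_apply, semiConj_apply, semiConj_apply, map_mul, map_mul, map_inv, e, mul_inv_rev]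
  simp only [mul_assoc]

variable {Q : (ι → F) → F}

theorem semiConj_mem {g : GL ι F} {σ : F ≃+* F} (h : IsSemisimilarityPair Q g σ) {s : GL ι F}
    (hs : s ∈ isometryGroup F Q) : semiConj g σ s ∈ isometryGroup F Q := by
  obtain ⟨c, hc⟩ := h
  intro u v
  show Q ((semiConj g σ s).1 *ᵥ u) = Q u
  set w := (g⁻¹ : GL ι F).1 *ᵥ u
  have hw : g.1 *ᵥ w = u := by
    rw [Matrix.mulVec_mulVec, ← Units.val_mul, mul_inv_cancel, Units.val_one, Matrix.one_mulVec]
  have hw' : w = fun i => σ (σ.symm (w i)) := by simp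
  rw [semiConj_coe, ← Matrix.mulVec_mulVec, ← Matrix.mulVec_mulVec, show (g⁻¹ : GL ι F).1 *ᵥ u = w
    from rfl, hw', map_mulVec, hc, show Q (s.1 *ᵥ fun i => σ.symm (w i)) = Q (fun i => σ.symm (w i))
    from hs _ v, ← hc, ← hw', hw]

/-- The endomorphism of the isometry group of a semisimilarity. -/
def isoSemi {g : GL ι F} {σ : F ≃+* F} (h : IsSemisimilarityPair Q g σ) :
    isometryGroup F Q →* isometryGroup F Q where
  toFun s := ⟨semiConj g σ s.1, semiConj_mem h s.2⟩
  map_one' := Subtype.ext (map_one _)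
  map_mul' a b := Subtype.ext (map_mul (semiConj g σ) a.1 b.1)

theorem isoSemi_mem {g : GL ι F} {σ : F ≃+* F} (h : IsSemisimilarityPair Q g σ)
    {s : isometryGroup F Q} (hs : s ∈ Omega F Q) : isoSemi h s ∈ Omega F Q := by
  have hle : (Omega F Q).map (isoSemi h) ≤ Omega F Q := by
    rw [Omega, commutator_def, Subgroup.map_commutator]
    exact Subgroup.commutator_mono le_top le_top
  exact hle (Subgroup.mem_map_of_mem _ hs)

/-- The image of an element of `Ω`. -/
def omegaSemi {g : GL ι F} {σ : F ≃+* F} (h : IsSemisimilarityPair Q g σ) :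
    Omega F Q →* Omega F Q :=
  ((isoSemi h).comp (Omega F Q).subtype).codRestrict _ fun s => isoSemi_mem h s.2

theorem induced_apply {g : GL ι F} {σ : F ≃+* F} (h : IsSemisimilarityPair Q g σ)
    {β : POmega F Q ≃* POmega F Q} (hβ : IsInducedBySemilinearPOmega Q g σ β) (s : Omega F Q) :
    β (QuotientGroup.mk s) = QuotientGroup.mk (omegaSemi h s) :=
  hβ s (omegaSemi h s) rfl

/-- `β` is induced by a semisimilarity. -/
def IsSemi (Q : (ι → F) → F) (β : MulAut (POmega F Q)) : Prop :=
  ∃ (g : GL ι F) (σ : F ≃+* F), IsSemisimilarityPair Q g σ ∧ IsInducedBySemilinearPOmega Q g σ β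

theorem induced_mul {g g' : GL ι F} {σ σ' : F ≃+* F} (h : IsSemisimilarityPair Q g σ)
    (h' : IsSemisimilarityPair Q g' σ') {β β' : MulAut (POmega F Q)}
    (hβ : IsInducedBySemilinearPOmega Q g σ β) (hβ' : IsInducedBySemilinearPOmega Q g' σ' β') :
    IsInducedBySemilinearPOmega Q (g * mapGL σ g') (σ'.trans σ) (β * β') := by
  intro s t ht
  show β (β' (QuotientGroup.mk s)) = _
  rw [induced_apply h' hβ', induced_apply h hβ]
  congr 1
  refine Subtype.ext (Subtype.ext (Units.ext ?_))
  rw [ht, ← semiConj_coe, semiConj_mul]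
  rfl

theorem isSemi_of_mem [Finite F] {β : MulAut (POmega F Q)} (hβ : β ∈ gammaPOmega F Q) :
    IsSemi Q β := by
  have hone : IsSemi Q (1 : MulAut (POmega F Q)) := by
    refine ⟨1, RingEquiv.refl F, ⟨1, fun v => by simp⟩, fun s t ht => ?_⟩
    rw [MulAut.one_apply]
    congr 1
    refine Subtype.ext (Subtype.ext (Units.ext ?_))
    rw [ht]; simp
  have hmul : ∀ a b, IsSemi Q a → IsSemi Q b → IsSemi Q (a * b) := by
    rintro a b ⟨g, σ, h, ha⟩ ⟨g', σ', h', hb⟩
    exact ⟨_, _, pair_mul h h', induced_mul h h' ha hb⟩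
  haveI : Finite (MulAut (POmega F Q)) :=
    Finite.of_injective (fun a => (a : POmega F Q → POmega F Q)) DFunLike.coe_injective
  rw [gammaPOmega, autSubgroupOf, ← Subgroup.mem_toSubmonoid,
    Subgroup.closure_toSubmonoid_of_finite] at hβ
  induction hβ using Submonoid.closure_induction with
  | mem a ha => exact ha
  | one => exact hone
  | mul a b _ _ ha hb => exact hmul a b ha hb

/-! ### Trivial action -/

section Trivial

variable {Qf : QuadraticForm F (ι → F)}

theorem omega_perfect [Fintype F] (hQ : (polarBilin Qf).Nondegenerate) (hn : 5 ≤ Fintype.card ι) :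
    commutator (Omega F ⇑Qf) = ⊤ := by
  have hn' : 5 ≤ Module.finrank F (ι → F) := by rwa [Module.finrank_pi]
  refine eq_top_iff.2 fun s _ => ?_
  have hs : iso Qf s.1 ∈ commutator (orth Qf) := (mem_Omega_iff s.1).1 s.2
  rw [commutator_eq_sGroup hQ hn'] at hs
  have h2 := sGroup_le_bracket hQ hn' hs
  rw [← commutator_eq_sGroup hQ hn'] at h2
  set f : Omega F ⇑Qf →* orth Qf := (iso Qf).toMonoidHom.comp (Omega F ⇑Qf).subtype with hf
  have hrange : f.range = commutator (orth Qf) := by
    ext k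
    constructor
    · rintro ⟨t, rfl⟩
      exact (mem_Omega_iff t.1).1 t.2
    · intro hk
      obtain ⟨t, rfl⟩ := (iso Qf).surjective k
      exact ⟨⟨t, (mem_Omega_iff t).2 hk⟩, rfl⟩
  rw [← hrange, MonoidHom.range_eq_map, ← Subgroup.map_commutator] at h2
  obtain ⟨t, ht, hts⟩ := h2
  rw [commutator_def]
  rwa [← Subtype.ext ((iso Qf).injective hts)]

/-- An endomorphism trivial modulo the centre fixes a perfect group. -/
theorem fix_of_perfect {G : Type*} [Group G] (hp : commutator G = ⊤) (φ : G →* G)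
    (h : ∀ x, x⁻¹ * φ x ∈ Subgroup.center G) (x : G) : φ x = x := by
  have hx : x ∈ commutator G := hp ▸ Subgroup.mem_top x
  rw [commutator_def, Subgroup.commutator_def] at hx
  induction hx using Subgroup.closure_induction with
  | mem y hy =>
    obtain ⟨a, -, b, -, rfl⟩ := hy
    obtain ⟨z, hz, ha⟩ : ∃ z ∈ Subgroup.center G, φ a = a * z := ⟨_, h a, by group⟩
    obtain ⟨w, hw, hb⟩ : ∃ w ∈ Subgroup.center G, φ b = b * w := ⟨_, h b, by group⟩
    have hz' : ∀ y, z * y = y * z := fun y => (Subgroup.mem_center_iff.1 hz y).symm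
    have hw' : ∀ y, w * y = y * w := fun y => (Subgroup.mem_center_iff.1 hw y).symm
    rw [map_commutatorElement, ha, hb, commutatorElement_def, commutatorElement_def, mul_inv_rev,
      mul_inv_rev]
    calc a * z * (b * w) * (z⁻¹ * a⁻¹) * (w⁻¹ * b⁻¹)
        = a * (z * (b * w)) * z⁻¹ * a⁻¹ * w⁻¹ * b⁻¹ := by group
      _ = a * b * w * a⁻¹ * w⁻¹ * b⁻¹ := by rw [hz']; group
      _ = a * b * (w * a⁻¹) * w⁻¹ * b⁻¹ := by group
      _ = a * b * a⁻¹ * b⁻¹ := by rw [hw']; group
  | one => exact map_one φ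
  | mul a b _ _ ha hb => rw [map_mul, ha, hb]
  | inv a _ ha => rw [map_inv, ha]

theorem field_fix {σ : F ≃+* F} (h2 : (2 : F) ≠ 0)
    (h : ∀ c : F, c ≠ 0 → σ (c + c⁻¹) = c + c⁻¹) : σ = RingEquiv.refl F := by
  refine RingEquiv.ext fun c => ?_
  show σ c = c
  by_contra hne
  have key : ∀ d : F, σ d ≠ d → σ d * d = 1 := by
    intro d hd
    have hd0 : d ≠ 0 := fun e => hd (by rw [e, map_zero])
    have hs0 : σ d ≠ 0 := (map_ne_zero σ).2 hd0
    have e := h d hd0
    rw [map_add, map_inv₀] at e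
    have e' : (σ d - d) * (σ d * d - 1) = 0 := by
      field_simp at e
      linear_combination e
    exact sub_eq_zero.1 ((mul_eq_zero.1 e').resolve_left (sub_ne_zero.2 hd))
  have h0 := key c hne
  have h1 := key (c + 1) (by rw [map_add, map_one]; exact fun e => hne (add_right_cancel e))
  have h3 := key (c + 2) (by rw [map_add, map_ofNat]; exact fun e => hne (add_right_cancel e))
  rw [map_add, map_one] at h1
  rw [map_add, map_ofNat] at h3
  exact h2 (by linear_combination h3 - 2 * h1 + h0)

theorem trace_pair {V : Type*} [AddCommGroup V] [Module F V] [Module.Free F V] [Module.Finite F V]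
    (φ : V →ₗ[F] F) (e : V) (d : F) :
    LinearMap.trace F V (d • φ.smulRight e) = d * φ e := by
  rw [map_smul, LinearMap.trace_smulRight, smul_eq_mul]

variable [Fintype F]

/-- The field automorphism of a semisimilarity acting trivially is trivial. -/
theorem sigma_eq_refl (h2 : (2 : F) ≠ 0) (hQ : (polarBilin Qf).Nondegenerate)
    (hn : 5 ≤ Fintype.card ι) {e f e' f' : ι → F} (he : Qf e = 0) (hf : Qf f = 0)
    (hef : polar Qf e f = 1) (he' : Qf e' = 0) (hf' : Qf f' = 0) (hef' : polar Qf e' f' = 1)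
    (h₁ : polar Qf e e' = 0) (h₂ : polar Qf e f' = 0) (h₃ : polar Qf f e' = 0)
    (h₄ : polar Qf f f' = 0)
    {g : GL ι F} {σ : F ≃+* F} (h : IsSemisimilarityPair (⇑Qf) g σ)
    (hβ : IsInducedBySemilinearPOmega (⇑Qf) g σ (1 : MulAut (POmega F ⇑Qf))) :
    σ = RingEquiv.refl F := by
  have hfix := fix_of_perfect (omega_perfect hQ hn) (omegaSemi h) fun s => by
    have e := induced_apply h hβ s
    rw [MulAut.one_apply] at e
    exact QuotientGroup.eq.1 e
  have htr : ∀ s : Omega F ⇑Qf, σ ((s : isometryGroup F ⇑Qf) : GL ι F).1.trace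
      = ((s : isometryGroup F ⇑Qf) : GL ι F).1.trace := fun s => by
    have e : semiConj g σ ((s : isometryGroup F ⇑Qf) : GL ι F) = ((s : isometryGroup F ⇑Qf) : GL ι F) :=
      congrArg (fun t : Omega F ⇑Qf => ((t : isometryGroup F ⇑Qf) : GL ι F)) (hfix s)
    conv_rhs => rw [← e, semiConj_coe, Matrix.trace_mul_cycle, ← Units.val_mul, inv_mul_cancel,
      Units.val_one, one_mul]
    exact (AddMonoidHom.map_trace (σ : F →+* F).toAddMonoidHom _)
  refine field_fix h2 fun c hc => ?_
  have hns : OmegaClasses.NS Qf [e - f, e - c • f, e' - f', e' - c • f'] := by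
    intro w hw
    simp only [List.mem_cons, List.not_mem_nil, or_false] at hw
    rcases hw with rfl | rfl | rfl | rfl <;>
      simp [sub_eq_add_neg, QuadraticMap.map_add (⇑Qf), he, hf, he', hf', hef, hef',
        QuadraticMap.map_smul, polar_smul_right, ← neg_smul, hc]
  have hk : OmegaClasses.rprod Qf [e - f, e - c • f, e' - f', e' - c • f'] ∈ commutator (orth Qf) := by
    rw [OmegaClasses.rprod_mem_iff hQ (Or.inr (by rw [Module.finrank_pi]; omega)) hns]
    refine ⟨by simp [Nat.even_iff], c, ?_⟩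
    simp [sub_eq_add_neg, QuadraticMap.map_add (⇑Qf), he, hf, he', hf', hef, hef',
      QuadraticMap.map_smul, polar_smul_right, ← neg_smul]
  obtain ⟨s, hs⟩ := (iso Qf).surjective (OmegaClasses.rprod Qf [e - f, e - c • f, e' - f', e' - c • f'])
  have hsΩ : s ∈ Omega F ⇑Qf := by rw [mem_Omega_iff, hs]; exact hk
  set B := polarBilin Qf
  set T : (ι → F) →ₗ[F] (ι → F) := LinearMap.id + ((c - 1) • (B f).smulRight e
    + (c⁻¹ - 1) • (B e).smulRight f) + ((c - 1) • (B f').smulRight e'
    + (c⁻¹ - 1) • (B e').smulRight f') with hT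
  have hmat : (s : GL ι F).1 = LinearMap.toMatrix' T := by
    refine Matrix.ext_iff_mulVec.2 fun x => ?_
    rw [LinearMap.toMatrix'_mulVec]
    refine (iso_apply s x).symm.trans ?_
    have hpair : ∀ (e f : ι → F), Qf e = 0 → Qf f = 0 → polar Qf e f = 1 →
        ∀ (hw : OmegaClasses.NS Qf [e - f, e - c • f]) (y : ι → F),
        (OmegaClasses.rprod Qf [e - f, e - c • f]).1 y
          = y + (c - 1) • (polar Qf f y • e) + (c⁻¹ - 1) • (polar Qf e y • f) := by
      intro e f he hf hef hw y
      have hQ1 : Qf (e - f) = -1 := by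
        simp [sub_eq_add_neg, QuadraticMap.map_add (⇑Qf), he, hf, hef]
      have hQ2 : Qf (e - c • f) = -c := by
        simp [sub_eq_add_neg, QuadraticMap.map_add (⇑Qf), he, hf, hef, QuadraticMap.map_smul,
          polar_smul_right, ← neg_smul]
      have hee : polar Qf e e = 0 := by rw [QuadraticMap.polar_self, he, smul_zero]
      have hff : polar Qf f f = 0 := by rw [QuadraticMap.polar_self, hf, smul_zero]
      have hfe : polar Qf f e = 1 := by rw [polar_comm, hef]
      rw [OmegaClasses.rprod_cons hw.head, OmegaClasses.rprod_singleton hw.tail.head, orth_mul_apply,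
        refl_apply, refl_apply, hQ1, hQ2]
      simp only [polar_sub_left, polar_sub_right, polar_smul_left, polar_smul_right, smul_eq_mul,
        hee, hff, hef, hfe]
      match_scalars <;> field_simp <;> ring
    rw [hs, show [e - f, e - c • f, e' - f', e' - c • f'] = [e - f, e - c • f] ++ [e' - f', e' - c • f']
      from rfl, OmegaClasses.rprod_append, orth_mul_apply,
      hpair e' f' he' hf' hef' (fun w hw => hns w (by simp only [List.mem_cons, List.not_mem_nil, or_false] at hw ⊢; tauto)),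
      hpair e f he hf hef (fun w hw => hns w (by simp only [List.mem_cons, List.not_mem_nil, or_false] at hw ⊢; tauto))]
    simp only [hT, LinearMap.add_apply, LinearMap.id_apply, LinearMap.smul_apply,
      LinearMap.smulRight_apply, B, polarBilin_apply_apply, polar_add_right, polar_smul_right,
      polar_comm Qf f' e, polar_comm Qf e' e, polar_comm Qf f' f, polar_comm Qf e' f, h₁, h₂, h₃, h₄,
      smul_eq_mul, mul_zero, add_zero]
    module
  have hval : (s : GL ι F).1.trace = (Fintype.card ι : F) + 2 * (c + c⁻¹ - 2) := by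
    rw [hmat, ← Matrix.trace_toLin'_eq, Matrix.toLin'_toMatrix', hT]
    simp only [map_add, trace_pair, LinearMap.trace_id, Module.finrank_pi, B, polarBilin_apply_apply]
    rw [polar_comm Qf f e, polar_comm Qf f' e', hef, hef']
    ring
  have e := htr ⟨s, hsΩ⟩
  rw [hval, map_add, map_natCast, map_mul, map_ofNat, map_sub, map_ofNat] at e
  exact mul_left_cancel₀ h2 (by linear_combination e)

end Trivial

end Cfsg.Agent.OrthSemilinear
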