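import Mathlib
import Cfsg.Prelude.Def_LieTypeDatum
import Cfsg.Agent.Lib.OrthSemilinear
import Cfsg.Agent.Lib.OrthUnitarySimClasses

/-!
An involutory automorphism of an orthogonal group of non-square discriminant in the image of the
semisimilarities comes from a similarity.
-/

set_option autoImplicit false
set_option linter.unusedSectionVars false

namespace Cfsg.Agent.OrthSemiInvolution

open QuadraticMap
open scoped Matrix MatrixGroups
open Cfsg.Agent.OrthUnitaryRefl
open Cfsg.Agent.OrthUnitaryOmega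
open Cfsg.Agent.OrthUnitarySimAut
open Cfsg.Agent.OrthSemilinear

variable {F : Type*} [Field F] [Fintype F]

/-- An element fixed by an involution of a finite field of odd order is a square. -/
theorem isSquare_of_fixed (h2 : (2 : F) ≠ 0) {σ : F ≃+* F} (hσ : ∀ x, σ (σ x) = x)
    (hne : σ ≠ RingEquiv.refl F) {f : F} (hf : σ f = f) : IsSquare f := by
  classical
  obtain ⟨θ, hθ, hθ0⟩ : ∃ θ, σ θ = -θ ∧ θ ≠ 0 := by
    obtain ⟨z, hz⟩ : ∃ z, σ z ≠ z := by
      by_contra hc
      push Not at hc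
      exact hne (RingEquiv.ext hc)
    exact ⟨z - σ z, by rw [map_sub, hσ, neg_sub], sub_ne_zero.2 (Ne.symm hz)⟩
  let K : Subfield F := RingHom.eqLocusField (σ : F →+* F) (RingHom.id F)
  have hmK : ∀ x, x ∈ K ↔ σ x = x := fun x => Iff.rfl
  let e : F ≃ K × K :=
    { toFun := fun z => (⟨(z + σ z) / 2, (hmK _).2 (by rw [map_div₀, map_add, hσ, map_ofNat, add_comm])⟩,
        ⟨(z - σ z) / (2 * θ), (hmK _).2 (by
          rw [map_div₀, map_sub, hσ, map_mul, map_ofNat, hθ, mul_neg, div_neg, ← neg_div, neg_sub])⟩)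
      invFun := fun p => p.1.1 + θ * p.2.1
      left_inv := fun z => by field_simp; ring
      right_inv := fun p => by
        have e1 : σ (p.1.1 + θ * p.2.1) = p.1.1 - θ * p.2.1 := by
          rw [map_add, map_mul, (hmK _).1 p.1.2, (hmK _).1 p.2.2, hθ]; ring
        refine Prod.ext (Subtype.ext ?_) (Subtype.ext ?_) <;>
          (simp only [e1]; field_simp; ring) }
  have hcard : Fintype.card F = Fintype.card K * Fintype.card K := by
    rw [Fintype.card_congr e, Fintype.card_prod]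
  by_cases hf0 : f = 0
  · exact hf0 ▸ IsSquare.zero
  have hr := ringChar_ne_two h2
  rw [FiniteField.isSquare_iff hr hf0]
  have hodd := FiniteField.odd_card_of_char_ne_two hr
  have hk : (f : F) ^ (Fintype.card K - 1) = 1 := by
    have := FiniteField.pow_card_sub_one_eq_one (K := K) ⟨f, (hmK f).2 hf⟩
      (fun h => hf0 (congrArg Subtype.val h))
    exact congrArg Subtype.val this
  rw [hcard] at hodd ⊢
  obtain ⟨r, hr'⟩ := Nat.Odd.of_mul_left (Nat.odd_iff.2 hodd)
  have : Fintype.card K * Fintype.card K / 2 = (Fintype.card K - 1) * (r + 1) := by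
    rw [hr', Nat.add_sub_cancel,
      show (2 * r + 1) * (2 * r + 1) = 1 + 2 * (2 * r * (r + 1)) by ring,
      Nat.add_mul_div_left _ _ two_pos]
    simp
  rw [this, pow_mul, hk, one_pow]

variable {ι : Type} [Fintype ι] [DecidableEq ι] {Q : QuadraticForm F (ι → F)}

/-- The two relevant coordinate pairs. -/
def HasPairs (Q : QuadraticForm F (ι → F)) : Prop :=
  ∃ e f e' f' : ι → F, Q e = 0 ∧ Q f = 0 ∧ polar Q e f = 1 ∧ Q e' = 0 ∧ Q f' = 0 ∧
    polar Q e' f' = 1 ∧ polar Q e e' = 0 ∧ polar Q e f' = 0 ∧ polar Q f e' = 0 ∧ polar Q f f' = 0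

theorem sigma_refl_of_pairs (h2 : (2 : F) ≠ 0) (hQ : (polarBilin Q).Nondegenerate)
    (hn : 5 ≤ Fintype.card ι) (hp : HasPairs Q) {g : GL ι F} {σ : F ≃+* F}
    (h : IsSemisimilarityPair (⇑Q) g σ)
    (hβ : IsInducedBySemilinearPOmega (⇑Q) g σ (1 : MulAut (POmega F ⇑Q))) :
    σ = RingEquiv.refl F := by
  obtain ⟨e, f, e', f', a1, a2, a3, a4, a5, a6, a7, a8, a9, a10⟩ := hp
  exact sigma_eq_refl h2 hQ hn a1 a2 a3 a4 a5 a6 a7 a8 a9 a10 h hβ

theorem sim_of_involution (h2 : (2 : F) ≠ 0) (hQ : (polarBilin Q).Nondegenerate)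
    (hn : 5 ≤ Fintype.card ι) (hp : HasPairs Q) {M : ℕ} (hcard : Fintype.card ι = 2 * M)
    (hdisc : IsSquare (-1 : F) → ¬ IsSquare (LinearMap.toMatrix₂' F (polarBilin Q)).det)
    {γ : MulAut (POmega F ⇑Q)} (hγ : γ ∈ gammaPOmega F ⇑Q) (hγ2 : γ * γ = 1) :
    ∃ g : GL ι F, g ∈ Sim Q ∧ IsInducedBySemilinearPOmega (⇑Q) g (RingEquiv.refl F) γ := by
  obtain ⟨g, σ, h, hi⟩ := isSemi_of_mem hγ
  have h22 := pair_mul h h
  have hi2 := induced_mul h h hi hi
  rw [hγ2] at hi2
  have hσσ : σ.trans σ = RingEquiv.refl F := sigma_refl_of_pairs h2 hQ hn hp h22 hi2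
  have hσ : ∀ x, σ (σ x) = x := fun x => RingEquiv.congr_fun hσσ x
  obtain ⟨c, hc⟩ := h
  by_cases hne : σ = RingEquiv.refl F
  · subst hne
    exact ⟨g, ⟨c, fun v => by simpa using hc v⟩, hi⟩
  exfalso
  rw [hσσ] at h22 hi2
  obtain ⟨c₂, hc₂⟩ := h22
  have hg2 : g * mapGL σ g ∈ Sim Q := ⟨c₂, fun v => by simpa using hc₂ v⟩
  have hker : (⟨_, hg2⟩ : Sim Q) ∈ scalarSim Q := by
    rw [← ker_conjP Q hQ hn, MonoidHom.mem_ker]
    exact ((induced_iff Q _ hg2 1).1 hi2).symm
  obtain ⟨l, hl, hl0⟩ := (mem_scalarSim Q).1 hker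
  have hl' : g.1 * g.1.map σ = l • (1 : Matrix ι ι F) := hl
  have hc0 : (c : F) ≠ 0 := c.ne_zero
  have hsc0 : σ (c : F) ≠ 0 := (map_ne_zero σ).2 hc0
  have hcl : (c : F) * σ (c : F) = l * l := by
    obtain ⟨v, hv⟩ := exists_map_ne_zero (isReg_of_nondegenerate hQ)
      (by rw [Module.finrank_pi]; omega)
    refine mul_right_cancel₀ hv ?_
    have e1 := hc (g.1 *ᵥ fun i => σ (v i))
    have e2 : (fun i => σ ((g.1 *ᵥ fun j => σ (v j)) i)) = g.1.map σ *ᵥ v := by
      rw [← map_mulVec]; simp [hσ]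
    rw [e2, Matrix.mulVec_mulVec, hl', Matrix.smul_mulVec, Matrix.one_mulVec, hc, map_mul, hσ,
      QuadraticMap.map_smul, smul_eq_mul] at e1
    rw [mul_assoc]; exact e1.symm
  set A := LinearMap.toMatrix₂' F (polarBilin Q) with hA
  have hgram : g.1ᵀ * A * g.1 = (c : F) • A.map σ := by
    have hs : ∀ i, (fun j => σ ((Pi.single i (1 : F) : ι → F) j)) = Pi.single i 1 := fun i => by
      funext j; by_cases hj : j = i <;> simp [hj]
    ext i j
    have e := LinearMap.toMatrix₂'_compl₁₂ (polarBilin Q) (Matrix.toLin' g.1) (Matrix.toLin' g.1)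
    rw [LinearMap.toMatrix'_toLin'] at e
    rw [hA, ← e, LinearMap.toMatrix₂'_apply, Matrix.smul_apply, Matrix.map_apply,
      LinearMap.toMatrix₂'_apply]
    simp only [LinearMap.compl₁₂_apply, Matrix.toLin'_apply, polarBilin_apply_apply, smul_eq_mul]
    conv_lhs => rw [← hs i, ← hs j]
    simp only [polar, ← Matrix.mulVec_add, map_sub]
    rw [show (fun l => σ ((Pi.single i (1 : F) : ι → F) l)) + (fun l => σ ((Pi.single j (1 : F) : ι → F) l))
      = fun l => σ ((Pi.single i (1 : F) + Pi.single j 1 : ι → F) l) from funext fun l => by simp,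
      hc, hc, hc]
    ring
  have hdet := congrArg Matrix.det hgram
  rw [Matrix.det_mul, Matrix.det_mul, Matrix.det_transpose, Matrix.det_smul, hcard] at hdet
  have hdm : (A.map σ).det = σ A.det := (RingHom.map_det (σ : F →+* F) A).symm
  have hdg : g.1.det * σ g.1.det = l ^ (2 * M) := by
    have e := congrArg Matrix.det hl'
    rw [Matrix.det_mul, Matrix.det_smul, Matrix.det_one, mul_one, hcard] at e
    rwa [show (g.1.map σ).det = σ g.1.det from (RingHom.map_det (σ : F →+* F) g.1).symm] at e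
  rw [hdm] at hdet
  set δ := A.det
  set D := g.1.det / (c : F) ^ M with hD
  have hDD : D * σ D = 1 := by
    rw [hD, map_div₀, map_pow, div_mul_div_comm, hdg, ← mul_pow, hcl, pow_mul, pow_two,
      div_self (pow_ne_zero _ (mul_ne_zero hl0 hl0))]
  have hδσ : σ δ = D * D * δ := by
    rw [hD]; field_simp; linear_combination -hdet
  obtain ⟨z, hz⟩ : ∃ z, z + σ D * σ z ≠ 0 := by
    by_contra hc'
    push Not at hc'
    have h1 := hc' 1
    rw [map_one, mul_one] at h1
    refine hne (RingEquiv.ext fun z => ?_)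
    show σ z = z
    linear_combination -hc' z + σ z * h1
  set w := z + σ D * σ z with hw
  have hσw : σ w = D * w := by
    rw [hw, map_add, map_mul, hσ, hσ]
    linear_combination -(σ z) * hDD
  have hD0 : D ≠ 0 := fun e => one_ne_zero (by rw [← hDD, e, zero_mul])
  have hfix : σ (δ / (w * w)) = δ / (w * w) := by
    rw [map_div₀, map_mul, hσw, hδσ]; field_simp
  obtain ⟨s, hs⟩ := isSquare_of_fixed h2 hσ hne hfix
  refine hdisc (isSquare_of_fixed h2 hσ hne (by simp)) ⟨s * w, ?_⟩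
  show δ = _
  rw [div_eq_iff (mul_ne_zero hz hz)] at hs
  rw [hs]; ring

/-- The same, read at an equal function. -/
theorem sim_of_involution' (h2 : (2 : F) ≠ 0) (hQ : (polarBilin Q).Nondegenerate)
    (hn : 5 ≤ Fintype.card ι) (hp : HasPairs Q) {M : ℕ} (hcard : Fintype.card ι = 2 * M)
    (hdisc : IsSquare (-1 : F) → ¬ IsSquare (LinearMap.toMatrix₂' F (polarBilin Q)).det)
    (f : (ι → F) → F) (hf : ⇑Q = f)
    {γ : MulAut (POmega F f)} (hγ : γ ∈ gammaPOmega F f) (hγ2 : γ * γ = 1) :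
    ∃ g : GL ι F, g ∈ Geo.quadSimilarityGroup (F := F) f ∧
      IsInducedBySemilinearPOmega f g (RingEquiv.refl F) γ := by
  subst hf
  exact sim_of_involution h2 hQ hn hp hcard hdisc hγ hγ2

section Minus

open Cfsg.Agent.OrthUnitarySimClasses

theorem hasPairs_minus {m : ℕ} (hm : 2 ≤ m) (a b : F) : HasPairs (QuadClassify.qMinus m F a b) := by
  refine ⟨Pi.single (.inl (.inl ⟨0, by omega⟩)) 1, Pi.single (.inl (.inr ⟨0, by omega⟩)) 1,
    Pi.single (.inl (.inl ⟨1, by omega⟩)) 1, Pi.single (.inl (.inr ⟨1, by omega⟩)) 1, ?_⟩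
  simp [polar, QuadClassify.qMinus_apply, quadFormMinus, quadFormPlus, Pi.single_apply]

theorem disc_minus {m : ℕ} (h2 : (2 : F) ≠ 0) {a b : F}
    (hab : ∀ z₁ z₂ : F, z₁ ^ 2 + a * z₁ * z₂ + b * z₂ ^ 2 = 0 → z₁ = 0 ∧ z₂ = 0)
    (hneg : IsSquare (-1 : F)) :
    ¬ IsSquare (LinearMap.toMatrix₂' F (polarBilin (QuadClassify.qMinus m F a b))).det := by
  have e : LinearMap.toMatrix₂' F (polarBilin (QuadClassify.qMinus m F a b)) =
      Matrix.fromBlocks (Matrix.fromBlocks 0 (1 : Matrix (Fin m) (Fin m) F) 1 0) 0 0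
        !![2, a; a, 2 * b] := by
    ext i j
    rw [LinearMap.toMatrix₂'_apply]
    rcases i with (i | i) | i <;> rcases j with (j | j) | j <;>
      simp [polar, QuadClassify.qMinus_apply, quadFormMinus, quadFormPlus, Pi.single_apply,
        Finset.sum_add_distrib, Matrix.one_apply, eq_comm] <;>
      (try fin_cases i) <;> (try fin_cases j) <;> simp <;> ring
  rw [e, Matrix.det_fromBlocks_zero₂₁, FiniteFormClass.det_swap, Matrix.det_fin_two_of]
  rintro ⟨s, hs⟩
  obtain ⟨t, ht⟩ := hneg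
  have ht0 : t ^ m ≠ 0 := pow_ne_zero _ fun e => by simp [e] at ht
  have hs' : s * s = (t * t) ^ m * (2 * (2 * b) - a * a) := by rw [← ht, hs]
  set r := t * s / t ^ m with hr
  have hrr : r * r = a * a - 4 * b := by
    rw [hr, div_mul_div_comm, mul_mul_mul_comm, hs', ← ht, div_eq_iff (mul_ne_zero ht0 ht0),
      ← mul_pow t t m, ← ht]
    ring
  refine one_ne_zero (hab ((-a + r) / 2) 1 ?_).2
  field_simp
  linear_combination hrr

end Minus

end Cfsg.Agent.OrthSemiInvolution
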