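import Mathlib
import Cfsg.Prelude.Def_LieTypeDatum
import Cfsg.Agent.Lib.OrthPlusGraphField
import Cfsg.Agent.Lib.OrthGraphSplit
import Cfsg.Agent.Lib.OrthSemiInvolution

/-!
The number of inner classes in the class of an involutory graph-field automorphism of a plus-type
orthogonal group.
-/

set_option autoImplicit false
set_option linter.unusedSectionVars false

namespace Cfsg.Agent.OrthPlusGraphFieldSplit

open QuadraticMap Module
open scoped Matrix MatrixGroups
open Cfsg.Agent.OrthUnitaryQuad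
open Cfsg.Agent.OrthUnitaryRefl
open Cfsg.Agent.OrthUnitaryOmega
open Cfsg.Agent.OrthUnitaryPrelude
open Cfsg.Agent.OmegaClasses
open Cfsg.Agent.OrthUnitarySimAut
open Cfsg.Agent.OrthUnitarySimilar
open Cfsg.Agent.OrthBaseChange
open Cfsg.Agent.OrthMinusKeep
open Cfsg.Agent.OrthUnitaryForms
open Cfsg.Agent.OrthPlusGraphField

theorem count_eq_one {X : Type*} [Group X] {H K : Subgroup X} (h : H ≤ K) (x : X) :
    splitClassCount H K x = 1 := by
  rw [splitClassCount, Nat.card_eq_one_iff_unique]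
  refine ⟨⟨fun u v => ?_⟩, ⟨Quot.mk _ ⟨x, 1, one_mem H, by simp⟩⟩⟩
  induction u using Quot.ind with
  | mk y =>
    induction v using Quot.ind with
    | mk z =>
      obtain ⟨a, ha, hy⟩ := y.2
      obtain ⟨b, hb, hz⟩ := z.2
      exact Quot.sound ⟨b * a⁻¹, h (H.mul_mem hb (H.inv_mem ha)), by rw [hy, hz]; group⟩

variable {F : Type*} [Field F] [Fintype F]

theorem isSquare_mul_iff (h2 : (2 : F) ≠ 0) {a b : F} (ha : ¬ IsSquare a) (hb : b ≠ 0) :
    IsSquare (a * b) ↔ ¬ IsSquare b := by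
  classical
  have ha0 : a ≠ 0 := fun e => ha (e ▸ IsSquare.zero)
  rw [← quadraticChar_one_iff_isSquare (mul_ne_zero ha0 hb), ← quadraticChar_one_iff_isSquare hb,
    map_mul, quadraticChar_neg_one_iff_not_isSquare.2 ha]
  rcases quadraticChar_dichotomy hb with e | e <;> simp [e]

section Diag

variable {m : ℕ}

/-- A diagonal torus element as a product of reflections. -/
theorem exists_diag (e : Fin m → F) (he : ∀ i, e i ≠ 0) (s : Finset (Fin m)) :
    ∃ vs : List (Fin m ⊕ Fin m → F), NS (QuadClassify.qPlus m F) vs ∧ Even vs.length ∧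
      (vs.map (QuadClassify.qPlus m F)).prod = ∏ i ∈ s, e i ∧
      ∀ x i, (rprod (QuadClassify.qPlus m F) vs).1 x i
        = Sum.elim (fun j => if j ∈ s then e j else 1) (fun j => if j ∈ s then (e j)⁻¹ else 1) i
          * x i := by
  classical
  induction s using Finset.induction_on with
  | empty =>
    refine ⟨[], by simp [NS], by simp, by simp, fun x i => ?_⟩
    rcases i with i | i <;> simp
  | insert j s hj ih =>
    obtain ⟨vs, hns, hev, hprod, hact⟩ := ih
    set Q := QuadClassify.qPlus m F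
    set E : Fin m ⊕ Fin m → F := Pi.single (.inl j) 1
    set G : Fin m ⊕ Fin m → F := Pi.single (.inr j) 1
    have hQE : Q E = 0 := by simp [Q, E, QuadClassify.qPlus_apply, quadFormPlus, Pi.single_apply]
    have hQG : Q G = 0 := by simp [Q, G, QuadClassify.qPlus_apply, quadFormPlus, Pi.single_apply]
    have hEx : ∀ x, polar Q E x = x (.inr j) := fun x => by
      simp [polar, Q, E, QuadClassify.qPlus_apply, quadFormPlus, Pi.single_apply, add_mul,
        Finset.sum_add_distrib]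
    have hGx : ∀ x, polar Q G x = x (.inl j) := fun x => by
      simp [polar, Q, G, QuadClassify.qPlus_apply, quadFormPlus, Pi.single_apply, mul_add,
        Finset.sum_add_distrib]
    obtain ⟨hns', hprod', hact'⟩ :=
      scale_apply hQE hQG (by rw [hEx]; simp [G]) (he j)
    refine ⟨[E - G, E - e j • G] ++ vs, hns'.append hns, ?_, ?_, fun x i => ?_⟩
    · rw [List.length_append]; exact (even_two).add hev
    · rw [List.map_append, List.prod_append, hprod', hprod, Finset.prod_insert hj]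
    · rw [rprod_append, orth_mul_apply, hact', hEx, hGx, hact, hact]
      rcases i with i | i <;> by_cases hij : i = j
      · subst hij
        simp [E, G, hact, hj]
        ring
      · simp [E, G, hact, hij, hj, Pi.single_apply]
      · subst hij
        simp [E, G, hact, hj]
        ring
      · simp [E, G, hact, hij, hj, Pi.single_apply]

end Diag

theorem keep_scalar_mul {m : ℕ} (hm : 3 ≤ m) {z : Sim (QuadClassify.qPlus m F)}
    (hz : z ∈ scalarSim _) (g : Sim (QuadClassify.qPlus m F)) :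
    z * g ∈ keepPlus hm ↔ g ∈ keepPlus hm :=
  Subgroup.mul_mem_cancel_left _ (OrthClassParity.scalar_mem_keep _ _ _ hz)

variable {F₀ : Type*} [Field F₀] [Fintype F₀] {φ : F₀ →+* F} {σ : F ≃+* F} {a b : F₀}
  (S : Frame φ a b) {n : ℕ}

theorem two_F₀ (φ : F₀ →+* F) (h2 : (2 : F) ≠ 0) : (2 : F₀) ≠ 0 := fun e => h2 (by
  rw [← map_ofNat φ 2, e, map_zero])

theorem norm_eq (hω : S.ω' = σ S.ω) (hφσ : ∀ y, σ (φ y) = φ y) (z : Fin 2 → F₀) :
    (φ (z 0) + S.ω * φ (z 1)) * σ (φ (z 0) + S.ω * φ (z 1)) = φ (bval a b z) := by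
  rw [map_add, map_mul, hφσ, hφσ, ← hω, S.binary]
  simp [bval]

theorem sigma_ne (hσ : orderOf σ = 2) : σ ≠ RingEquiv.refl F := fun e => by
  rw [show σ = 1 from e, orderOf_one] at hσ
  omega

/-- Squareness passes to norms and back. -/
theorem isSquare_norm (h2 : (2 : F) ≠ 0) (hab : IsAniso a b) (hσ : orderOf σ = 2)
    (hω : S.ω' = σ S.ω) (hφσ : ∀ y, σ (φ y) = φ y) (hφ : ∀ x, σ x = x → ∃ y, φ y = x)
    {x : F} {c : F₀} (hx : x * σ x = φ c) (hc0 : c ≠ 0) : IsSquare x ↔ IsSquare c := by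
  have hN : ∀ w : F, ∃ ν, φ ν = w * σ w := fun w =>
    hφ _ (by rw [map_mul, apply_apply hσ, mul_comm])
  constructor
  · rintro ⟨w, rfl⟩
    obtain ⟨ν, hν⟩ := hN w
    refine ⟨ν, φ.injective ?_⟩
    rw [← hx, map_mul φ, hν, map_mul]
    ring
  · rintro ⟨μ, rfl⟩
    by_contra hns
    have hx0 : x ≠ 0 := fun e => hns (e ▸ IsSquare.zero)
    obtain ⟨c₁, hc₁⟩ := FiniteField.exists_nonsquare (ringChar_ne_two (two_F₀ φ h2))
    obtain ⟨z, hz⟩ := exists_map_eq (isReg_qfBin hab) (by simp) c₁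
    rw [qfBin_apply] at hz
    set y := φ (z 0) + S.ω * φ (z 1)
    have hy : y * σ y = φ c₁ := by rw [norm_eq S hω hφσ, bval, hz]
    have hc10 : c₁ ≠ 0 := fun e => hc₁ (e ▸ IsSquare.zero)
    have hy0 : y ≠ 0 := fun e => (map_ne_zero φ).2 hc10 (by rw [← hy, e, zero_mul])
    have hyn : ¬ IsSquare y := by
      rintro ⟨w, hw⟩
      obtain ⟨ν, hν⟩ := hN w
      exact hc₁ ⟨ν, φ.injective (by rw [← hy, map_mul, hw, map_mul σ, hν]; ring)⟩
    obtain ⟨w, hw⟩ := (isSquare_mul_iff h2 hns hy0).2 hyn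
    obtain ⟨ν, hν⟩ := hN w
    have hμ : μ ≠ 0 := left_ne_zero_of_mul hc0
    refine hc₁ ⟨ν / μ, φ.injective ?_⟩
    rw [map_mul, map_div₀, hν, div_mul_div_comm, eq_div_iff (mul_ne_zero ((map_ne_zero φ).2 hμ)
      ((map_ne_zero φ).2 hμ))]
    rw [← hy, ← map_mul φ μ μ, ← hx,
      show w * σ w * (w * σ w) = (w * w) * σ (w * w) by rw [map_mul]; ring, ← hw, map_mul]
    ring

theorem good_m (h2 : (2 : F) ≠ 0) (hn : 4 ≤ n) :
    Good (QuadClassify.qPlus (n + 1) F) (n + 1) :=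
  OrthUnitarySimClasses.good_plus (by omega) h2

theorem keep_eq_S1 (h2 : (2 : F) ≠ 0) (hn : 4 ≤ n) :
    keepPlus (K := F) (show 3 ≤ n + 1 by omega) = S1 (good_m h2 hn) := by
  ext g
  rw [mem_keepPlus, mem_S1, dHom_eq_one_iff,
    OrthUnitarySimClasses.preserves_plus (show 3 ≤ n + 1 by omega) h2
      (mult (good_m h2 hn) g).ne_zero
      (fun v => by simpa [QuadClassify.qPlus_apply] using mult_spec (good_m h2 hn) g v)
      (Matrix.GeneralLinearGroup.det_ne_zero _)]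

theorem neg_mem (h2 : (2 : F) ≠ 0) (hcard : Fintype.card F₀ * Fintype.card F₀ = Fintype.card F)
    (φ : F₀ →+* F) : NegMem (QuadClassify.qPlus (n + 1) F) := by
  have hodd : Odd (Fintype.card F) :=
    Nat.odd_iff.2 (FiniteField.odd_card_of_char_ne_two (ringChar_ne_two h2))
  refine (OrthUnitarySimClasses.negMem_plus hodd).2 fun hc => ?_
  have h0 := FiniteField.odd_card_of_char_ne_two (ringChar_ne_two (two_F₀ φ h2))
  have : Fintype.card F % 4 = 1 := by
    rw [← hcard]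
    obtain ⟨k, hk⟩ : ∃ k, Fintype.card F₀ = 2 * k + 1 := ⟨Fintype.card F₀ / 2, by omega⟩
    rw [hk, show (2 * k + 1) * (2 * k + 1) = 4 * (k * k + k) + 1 by ring, Nat.mul_add_mod]
  omega

theorem rprod_mem (hn : 4 ≤ n) {ws : List (Fin (n + 1) ⊕ Fin (n + 1) → F)}
    (hws : NS (QuadClassify.qPlus (n + 1) F) ws) :
    ofOrth (rprod _ ws) ∈ omegaSim (QuadClassify.qPlus (n + 1) F) ↔
      Even ws.length ∧ IsSquare (ws.map (QuadClassify.qPlus (n + 1) F)).prod := by
  rw [ofOrth_mem_omegaSim, rprod_mem_iff OmegaStd.nondeg_plus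
    (Or.inr (by rw [OmegaStd.finrank_plus]; omega)) hws]

/-- Membership of the canonical torus elements in the inner group. -/
theorem binSim_mem_inn (h2 : (2 : F) ≠ 0) (hn : 4 ≤ n) (hneg : NegMem (QuadClassify.qPlus (n + 1) F))
    (hω : S.ω' = σ S.ω) (hφσ : ∀ y, σ (φ y) = φ y) {z : Fin 2 → F₀} (hz : bval a b z ≠ 0)
    {r : F} (hr : r * r = φ (bval a b z)) :
    S.simHom n (binSim n z hz) ∈ innSim (QuadClassify.qPlus (n + 1) F) ↔
      IsSquare ((φ (z 0) + S.ω * φ (z 1)) / r * (r⁻¹) ^ n) := by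
  set Q := QuadClassify.qPlus (n + 1) F
  have hg := good_m (F := F) h2 hn
  set ζ := φ (z 0) + S.ω * φ (z 1) with hζdef
  have hr0 : r ≠ 0 := fun e => (map_ne_zero φ).2 hz (by rw [← hr, e, zero_mul])
  have hN := norm_eq S hω hφσ z
  have hζ : ζ ≠ 0 := fun e => (map_ne_zero φ).2 hz (by rw [← hN, ← hζdef, e, zero_mul])
  set e : Fin (n + 1) → F := Fin.lastCases (ζ / r) fun _ => r⁻¹
  have he : ∀ i, e i ≠ 0 := fun i => by
    refine Fin.lastCases ?_ ?_ i <;> simp [e, hζ, hr0]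
  obtain ⟨vs, hns, hev, hprod, hact⟩ := exists_diag e he Finset.univ
  have hdec : S.simHom n (binSim n z hz) = scalarOf Q (Units.mk0 r hr0) * ofOrth (rprod Q vs) := by
    refine Subtype.ext (Units.ext (Matrix.ext_iff_mulVec.2 fun x => ?_))
    rw [Subgroup.coe_mul, Units.val_mul, scalarOf_coe, Matrix.smul_mul, Matrix.one_mul,
      Matrix.smul_mulVec, ofOrth_mulVec, S.simHom_binSim]
    have hζ' : σ ζ / r = (ζ / r)⁻¹ := by
      field_simp
      rw [mul_comm, hN, ← hr]; ring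
    funext i
    rw [Matrix.mulVec_diagonal, Pi.smul_apply, smul_eq_mul, hact, Units.val_mk0, ← mul_assoc]
    congr 1
    rcases i with i | i <;> refine Fin.lastCases ?_ ?_ i <;> (try intro j) <;>
      simp [Frame.dvec, e, ← hζdef]
    · field_simp
    · field_simp
    · rw [hω, show φ (z 0) + σ S.ω * φ (z 1) = σ ζ by rw [hζdef]; simp [hφσ]]
      rw [eq_comm] at hζ'
      field_simp
      linear_combination hN - hr
    · rw [← hr]
  have hscal : scalarOf Q (Units.mk0 r hr0) ∈ innSim Q := by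
    rw [innSim_eq Q hg.nd hg.five]
    exact Subgroup.mem_sup_right (scalarOf_mem _)
  have hSO : ofOrth (rprod Q vs) ∈ SOs Q := by
    rw [mem_SOs hg, mult_ofOrth, dHom_ofOrth, detHom_rprod hns, hev.neg_one_pow]
    exact ⟨rfl, rfl⟩
  rw [hdec, Subgroup.mul_mem_cancel_left _ hscal, mem_innSim_iff_of_neg hg hneg hSO,
    rprod_mem hn hns, and_iff_right hev, hprod, Fin.prod_univ_castSucc]
  simp only [e, Fin.lastCases_last, Fin.lastCases_castSucc, Finset.prod_const, Finset.card_univ,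
    Fintype.card_fin, mul_comm]

/-- The criterion. -/
theorem binSim_mem_iff (h2 : (2 : F) ≠ 0) (hn : 4 ≤ n)
    (hneg : NegMem (QuadClassify.qPlus (n + 1) F)) (hab : IsAniso a b) (hσ : orderOf σ = 2)
    (hω : S.ω' = σ S.ω) (hφσ : ∀ y, σ (φ y) = φ y) (hφ : ∀ x, σ x = x → ∃ y, φ y = x)
    {z : Fin 2 → F₀} (hz : bval a b z ≠ 0) :
    S.simHom n (binSim n z hz) ∈ innSim (QuadClassify.qPlus (n + 1) F) ↔
      IsSquare (bval a b z) ∨ (Odd (n + 1) ∧ IsSquare (-1 : F₀)) := by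
  set c := bval a b z
  obtain ⟨r, hr⟩ := OrthSemiInvolution.isSquare_of_fixed h2 (apply_apply hσ) (sigma_ne hσ) (hφσ c)
  rw [binSim_mem_inn S h2 hn hneg hω hφσ hz hr.symm]
  set ζ := φ (z 0) + S.ω * φ (z 1) with hζdef
  have hN : ζ * σ ζ = φ c := norm_eq S hω hφσ z
  have hr0 : r ≠ 0 := fun e => (map_ne_zero φ).2 hz (by rw [hr, e, zero_mul])
  have hζ0 : ζ ≠ 0 := fun e => (map_ne_zero φ).2 hz (by rw [← hN, e, zero_mul])
  have hζsq : IsSquare ζ ↔ IsSquare c := isSquare_norm S h2 hab hσ hω hφσ hφ hN hz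
  have hne : (r : F) ^ (n + 1) ≠ 0 := pow_ne_zero _ hr0
  have e1 : IsSquare (ζ / r * r⁻¹ ^ n) ↔ IsSquare (ζ * r ^ (n + 1)) := by
    have : ζ * r ^ (n + 1) = ζ / r * r⁻¹ ^ n * (r ^ (n + 1)) ^ 2 := by
      rw [inv_pow, pow_succ r n]; field_simp
    rw [this]
    exact ⟨fun h => h.mul (IsSquare.sq _), fun h => by
      simpa [mul_assoc, mul_inv_cancel₀ (pow_ne_zero 2 hne)] using
        h.mul ((IsSquare.sq (r ^ (n + 1))⁻¹))⟩
  rw [e1]
  by_cases hc : IsSquare c
  · simp only [hc, true_or, iff_true]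
    have hrs : IsSquare r := by
      obtain ⟨μ, hμ⟩ := hc
      have : r * r = φ μ * φ μ := by rw [← hr, hμ, map_mul]
      rcases mul_self_eq_mul_self_iff.1 this with e | e
      · exact OrthSemiInvolution.isSquare_of_fixed h2 (apply_apply hσ) (sigma_ne hσ) (by rw [e, hφσ])
      · exact OrthSemiInvolution.isSquare_of_fixed h2 (apply_apply hσ) (sigma_ne hσ)
          (by rw [e, map_neg, hφσ])
    exact (hζsq.2 hc).mul (hrs.pow _)
  · simp only [hc, false_or]
    have hζn : ¬ IsSquare ζ := fun e => hc (hζsq.1 e)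
    rw [isSquare_mul_iff h2 hζn hne]
    have hσr : σ r = -r := by
      have : σ r * σ r = r * r := by rw [← map_mul, ← hr, hφσ]
      rcases mul_self_eq_mul_self_iff.1 this with e | e
      · obtain ⟨y, hy⟩ := hφ r e
        exact absurd ⟨y, φ.injective (by rw [hr, map_mul, hy])⟩ hc
      · exact e
    have hNr : r * σ r = φ (-c) := by rw [hσr, map_neg, hr]; ring
    have hrsq : IsSquare r ↔ ¬ IsSquare (-1 : F₀) := by
      rw [isSquare_norm S h2 hab hσ hω hφσ hφ hNr (neg_ne_zero.2 hz),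
        show -c = c * -1 by ring,
        isSquare_mul_iff (two_F₀ φ h2) hc (neg_ne_zero.2 one_ne_zero)]
    rcases Nat.even_or_odd (n + 1) with he | ho
    · simp [Nat.not_odd_iff_even.2 he, he.isSquare_pow r]
    · obtain ⟨k, hk⟩ := ho
      have : IsSquare (r ^ (n + 1)) ↔ IsSquare r := by
        rw [hk, pow_succ, pow_mul']
        refine ⟨fun h => ?_, fun h => (IsSquare.sq _).mul h⟩
        have e := (IsSquare.sq ((r ^ k)⁻¹)).mul h
        rwa [← mul_assoc, ← mul_pow, inv_mul_cancel₀ (pow_ne_zero k hr0), one_pow, one_mul] at e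
      rw [this, hrsq]
      simp [show Odd (n + 1) from ⟨k, hk⟩]

theorem mult_fixed (h2 : (2 : F) ≠ 0) (hn : 4 ≤ n) (hφσ : ∀ y, σ (φ y) = φ y)
    (g₀ : Sim (QuadClassify.qMinus n F₀ a b)) :
    σ (mult (good_m h2 hn) (S.simHom n g₀) : F) = (mult (good_m h2 hn) (S.simHom n g₀) : F) := by
  obtain ⟨c, hc⟩ := g₀.2
  have e : mult (good_m h2 hn) (S.simHom n g₀) = Units.map (φ : F₀ →* F) c := by
    refine mult_eq _ fun w => ?_
    exact S.theta_form n hc w
  rw [e]
  exact hφσ _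

/-- An element commuting with the canonical involution, up to inner similarities. -/
theorem centraliser_decomp (h2 : (2 : F) ≠ 0) (hn : 4 ≤ n) (hab : IsAniso a b)
    (hσ : orderOf σ = 2) (hω : S.ω' = σ S.ω) (hφσ : ∀ y, σ (φ y) = φ y)
    (hφ : ∀ x, σ x = x → ∃ y, φ y = x) (s : Sim (QuadClassify.qPlus (n + 1) F))
    (hsS : s ∈ S1 (good_m h2 hn)) (hs : conjP _ s * x0 hn σ = x0 hn σ * conjP _ s) :
    ∃ (z : Fin 2 → F₀) (hz : bval a b z ≠ 0), IsSquare (mult (good_m h2 hn) s : F) ∧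
      (s ∈ innSim _ ↔ S.simHom n (binSim n z hz) ∈ innSim _) := by
  obtain ⟨g₀, y, hy, rfl⟩ := exists_simHom S hn hσ hω hφ hs
  obtain ⟨z, hz, vs, hvs, hg₀⟩ := exists_binSim_mul (show 2 ≤ n by omega) hab g₀
  refine ⟨z, hz, ?_, ?_⟩
  · rw [map_mul, Units.val_mul]
    exact ((mem_K _).1 (scalarSim_le_K (good_m h2 hn) hy)).2.mul
      (OrthSemiInvolution.isSquare_of_fixed h2 (apply_apply hσ) (sigma_ne hσ)
        (mult_fixed S h2 hn hφσ g₀))
  · have hev : Even vs.length := by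
      rw [← keep_eq_S1 h2 hn, keep_scalar_mul _ hy, hg₀] at hsS
      rwa [keep_simHom S (show 2 ≤ n by omega) hz hvs] at hsS
    have hyI : y ∈ innSim (QuadClassify.qPlus (n + 1) F) := by
      rw [innSim_eq _ (good_m h2 hn).nd (good_m (F := F) h2 hn).five]
      exact Subgroup.mem_sup_right hy
    have hI : S.simHom n (ofOrth (rprod _ vs)) ∈ innSim (QuadClassify.qPlus (n + 1) F) := by
      rw [innSim_eq _ (good_m h2 hn).nd (good_m (F := F) h2 hn).five, S.simHom_rprod n hvs]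
      refine Subgroup.mem_sup_left ((rprod_mem hn (S.vec_ns n hvs)).2 ⟨?_, ?_⟩)
      · rwa [List.length_map]
      · rw [S.vec_prod]
        exact OrthSemiInvolution.isSquare_of_fixed h2 (apply_apply hσ) (sigma_ne hσ) (hφσ _)
    rw [Subgroup.mul_mem_cancel_left _ hyI, hg₀, map_mul, Subgroup.mul_mem_cancel_right _ hI]

theorem count_odd (h2 : (2 : F) ≠ 0) (hn : 4 ≤ n) (hab : IsAniso a b) (hσ : orderOf σ = 2)
    (hω : S.ω' = σ S.ω) (hφσ : ∀ y, σ (φ y) = φ y) (hφ : ∀ x, σ x = x → ∃ y, φ y = x)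
    (hcard : Fintype.card F₀ * Fintype.card F₀ = Fintype.card F) :
    (Odd (n + 1) ∧ IsSquare (-1 : F₀) → splitClassCount (inndiag hn)
        (Inn (POmega F ⇑(QuadClassify.qPlus (n + 1) F))) (x0 hn σ) = 4) ∧
    (¬ (Odd (n + 1) ∧ IsSquare (-1 : F₀)) → splitClassCount (inndiag hn)
        (Inn (POmega F ⇑(QuadClassify.qPlus (n + 1) F))) (x0 hn σ) = 2) := by
  set Q := QuadClassify.qPlus (n + 1) F
  have hg := good_m (F := F) h2 hn
  have hneg : NegMem Q := neg_mem h2 hcard φ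
  set π := (conjP Q).comp (S1 hg).subtype with hπ
  set N := (innSim Q).subgroupOf (S1 hg) with hN
  have hle : innSim Q ≤ S1 hg := (innSim_le_K hg).trans (K_le_S1 hg)
  have hrange : inndiag hn = π.range := by
    rw [inndiag, keep_eq_S1 h2 hn, hπ, MonoidHom.range_comp, Subgroup.range_subtype]
  have hinn : Inn (POmega F ⇑Q) = N.map π := by
    rw [hN, hπ, ← Subgroup.map_map, Subgroup.map_subgroupOf_eq_of_le hle]
    refine (Subgroup.map_comap_eq_self ?_).symm
    rw [inn_eq]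
    rintro _ ⟨x, -, rfl⟩
    exact ⟨x, rfl⟩
  rw [hinn, hrange, SplitClassIndex.splitClassCount_eq π N]
  set C := (Subgroup.centralizer ({x0 hn σ} : Set (MulAut (POmega F ⇑Q)))).comap π
  have hC : ∀ s : S1 hg, s ∈ C ↔ conjP Q s.1 * x0 hn σ = x0 hn σ * conjP Q s.1 := fun s => by
    show π s ∈ Subgroup.centralizer _ ↔ _
    rw [Subgroup.mem_centralizer_singleton_iff]
    rfl
  have hNi : N.index = 4 := relIndex_S1 hg hneg
  have hdecomp : ∀ s ∈ C, ∃ (z : Fin 2 → F₀) (hz : bval a b z ≠ 0),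
      IsSquare (mult hg (s : Sim Q) : F) ∧
        ((s : Sim Q) ∈ innSim Q ↔ S.simHom n (binSim n z hz) ∈ innSim Q) := fun s hs =>
    centraliser_decomp S h2 hn hab hσ hω hφσ hφ s.1 s.2 ((hC s).1 hs)
  refine ⟨fun hA => ?_, fun hB => ?_⟩
  · have hCN : C ≤ N := by
      intro s hs
      obtain ⟨z, hz, -, h⟩ := hdecomp s hs
      exact h.2 ((binSim_mem_iff S h2 hn hneg hab hσ hω hφσ hφ hz).2 (Or.inr hA))
    rw [sup_eq_left.2 hCN, hNi]
  · set K' := (K hg).subgroupOf (S1 hg) with hK'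
    have hK'i : K'.index = 2 := by
      have e := Subgroup.relIndex_mul_index (K_le_S1 hg)
      rw [index_S1 hg, index_K hg] at e
      show (K hg).relIndex (S1 hg) = 2
      omega
    have hJK : N ⊔ C ≤ K' := by
      refine sup_le (fun x hx => innSim_le_K hg hx) fun s hs => ?_
      obtain ⟨z, hz, hsq, -⟩ := hdecomp s hs
      exact (mem_K hg).2 ⟨(mem_S1 hg).1 s.2, hsq⟩
    obtain ⟨c₁, hc₁⟩ := FiniteField.exists_nonsquare (ringChar_ne_two (two_F₀ φ h2))
    obtain ⟨z, hz⟩ := exists_map_eq (isReg_qfBin hab) (by simp) c₁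
    rw [qfBin_apply] at hz
    have hbv : bval a b z = c₁ := hz
    have hz0 : bval a b z ≠ 0 := by rw [hbv]; exact fun e => hc₁ (e ▸ IsSquare.zero)
    have hgS : S.simHom n (binSim n z hz0) ∈ S1 hg := by
      rw [← keep_eq_S1 h2 hn]; exact keep_diagonal _ (S.simHom_binSim n z hz0)
    have hgC : (⟨_, hgS⟩ : S1 hg) ∈ C := (hC _).2 (comm_simHom S hn hσ hω hφσ _)
    have hne : N ⊔ C ≠ N := fun e => by
      have h1 : (⟨_, hgS⟩ : S1 hg) ∈ N := e ▸ Subgroup.mem_sup_right hgC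
      rcases (binSim_mem_iff S h2 hn hneg hab hσ hω hφσ hφ hz0).1 h1 with h | h
      · exact hc₁ (hbv ▸ h)
      · exact hB h
    have h1 : (N ⊔ C).index ∣ 4 := hNi ▸ Subgroup.index_dvd_of_le le_sup_left
    have h2' : 2 ∣ (N ⊔ C).index := hK'i ▸ Subgroup.index_dvd_of_le hJK
    have h3 : (N ⊔ C).index ≠ 4 := fun e => hne (le_antisymm (by
      have hr := Subgroup.relIndex_mul_index (le_sup_left : N ≤ N ⊔ C)
      rw [e, hNi] at hr
      exact Subgroup.relIndex_eq_one.1 (by omega)) le_sup_left)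
    have := Nat.le_of_dvd (by norm_num) h1
    interval_cases (N ⊔ C).index <;> omega

/-- In characteristic two every inner-diagonal automorphism is inner. -/
theorem inndiag_le_inn (h2 : (2 : F) = 0) (hn : 4 ≤ n) :
    inndiag (F := F) hn ≤ Inn (POmega F ⇑(QuadClassify.qPlus (n + 1) F)) := by
  rintro _ ⟨g, hg, rfl⟩
  obtain ⟨c, hc⟩ := g.2
  obtain ⟨r, hr⟩ := QuadClassify.isSquare_of_two_eq_zero h2 (c : F)
  have hr0 : r ≠ 0 := fun e => c.ne_zero (by rw [hr, e, zero_mul])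
  have hgk : ∀ z : Sim (QuadClassify.qPlus (n + 1) F),
      z = (scalarOf _ (Units.mk0 r hr0))⁻¹ * g → g = scalarOf _ (Units.mk0 r hr0) * z := by
    rintro z rfl
    rw [mul_inv_cancel_left]
  generalize hkdef : (scalarOf (QuadClassify.qPlus (n + 1) F) (Units.mk0 r hr0))⁻¹ * g = k at hgk
  have hgk' := hgk k rfl
  have hk : (k : GL (Fin (n + 1) ⊕ Fin (n + 1)) F) ∈
      isometryGroup F ⇑(QuadClassify.qPlus (n + 1) F) := by
    intro u v
    show QuadClassify.qPlus (n + 1) F ((k : GL (Fin (n + 1) ⊕ Fin (n + 1)) F).1 *ᵥ u)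
      = QuadClassify.qPlus (n + 1) F u
    have e : (g : GL (Fin (n + 1) ⊕ Fin (n + 1)) F).1 *ᵥ u
        = r • ((k : GL (Fin (n + 1) ⊕ Fin (n + 1)) F).1 *ᵥ u) := by
      rw [hgk', Subgroup.coe_mul, Units.val_mul, scalarOf_coe, Matrix.smul_mul, Matrix.one_mul,
        Matrix.smul_mulVec, Units.val_mk0]
    have e2 := hc u
    rw [e, QuadraticMap.map_smul, smul_eq_mul, hr] at e2
    exact mul_left_cancel₀ (mul_ne_zero hr0 hr0) e2
  obtain ⟨vs, hvs, e⟩ := exists_rprod (gen_plus (n + 1) F (by omega))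
    (iso (QuadClassify.qPlus (n + 1) F) ⟨_, hk⟩)
  have hkr : k = ofOrth (rprod _ vs) := by rw [← e]; exact Subtype.ext (by simp [ofOrth])
  have hg' : g ∈ keepPlus (K := F) (show 3 ≤ n + 1 by omega) := hg
  rw [hgk', hkr, keep_scalar_mul _ (scalarOf_mem _), keep_ofOrth _ hvs] at hg'
  rw [hgk', hkr, map_mul, MonoidHom.mem_ker.1 (scalarSim_le_ker _ (scalarOf_mem _)), one_mul, inn_eq]
  exact ⟨_, (rprod_mem hn hvs).2 ⟨hg', QuadClassify.isSquare_of_two_eq_zero h2 _⟩, rfl⟩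

end Cfsg.Agent.OrthPlusGraphFieldSplit
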