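import Mathlib
import Cfsg.Prelude.Def_Classical
import Cfsg.Agent.Lib.OrthUnitaryOmega

/-!
Projective orthogonal groups over isomorphic fields.
-/

set_option autoImplicit false

namespace Cfsg.Agent.OrthRingTransfer60

open scoped Matrix

universe u v

variable {F : Type u} [Field F] {K : Type v} [Field K] {ι : Type} [Fintype ι] [DecidableEq ι]
  (φ : F ≃+* K) {q : (ι → F) → F} {q' : (ι → K) → K}

/-- The general linear groups correspond. -/
def glEquiv : Matrix.GeneralLinearGroup ι F ≃* Matrix.GeneralLinearGroup ι K :=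
  Units.mapEquiv φ.mapMatrix.toMulEquiv

theorem glEquiv_mulVec (g : Matrix.GeneralLinearGroup ι F) (v : ι → F) :
    (glEquiv φ g).1 *ᵥ (fun i => φ (v i)) = fun i => φ ((g.1 *ᵥ v) i) :=
  funext fun i => (RingHom.map_mulVec φ.toRingHom g.1 v i).symm

theorem nonempty_pomega (h : ∀ v : ι → F, q' (fun i => φ (v i)) = φ (q v)) :
    Nonempty (Cfsg.POmega F q ≃* Cfsg.POmega K q') := by
  have hmem : ∀ g : Matrix.GeneralLinearGroup ι F,
      g ∈ Cfsg.isometryGroup F q ↔ glEquiv φ g ∈ Cfsg.isometryGroup K q' := by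
    intro g
    constructor
    · intro hg w _
      obtain ⟨v, rfl⟩ : ∃ v : ι → F, (fun i => φ (v i)) = w := ⟨fun i => φ.symm (w i), by simp⟩
      show q' ((glEquiv φ g).1 *ᵥ _) = q' (fun i => φ (v i))
      rw [glEquiv_mulVec, h, h, show q (g.1 *ᵥ v) = q v from hg v 0]
    · intro hg v _
      have e : q' ((glEquiv φ g).1 *ᵥ fun i => φ (v i)) = q' (fun i => φ (v i)) := hg _ 0
      rw [glEquiv_mulVec, h, h] at e
      exact φ.injective e
  let e1 : Cfsg.isometryGroup F q ≃* Cfsg.isometryGroup K q' :=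
    { toFun := fun g => ⟨glEquiv φ g.1, (hmem _).1 g.2⟩
      invFun := fun g => ⟨(glEquiv φ).symm g.1, (hmem _).2 (by rw [MulEquiv.apply_symm_apply]; exact g.2)⟩
      left_inv := fun g => Subtype.ext ((glEquiv φ).symm_apply_apply _)
      right_inv := fun g => Subtype.ext ((glEquiv φ).apply_symm_apply _)
      map_mul' := fun g k => Subtype.ext (map_mul (glEquiv φ) _ _) }
  let e2 : Cfsg.Omega F q ≃* Cfsg.Omega K q' :=
    (e1.subgroupMap _).trans (MulEquiv.subgroupCongr (OrthUnitaryOmega.map_commutator_equiv e1))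
  refine ⟨QuotientGroup.congr _ _ e2 (le_antisymm ?_ ?_)⟩
  · rintro _ ⟨y, hy, rfl⟩
    exact Subgroup.mem_center_iff.2 fun z => by
      obtain ⟨z, rfl⟩ := e2.surjective z
      show e2 z * e2 y = e2 y * e2 z
      rw [← map_mul, ← map_mul, Subgroup.mem_center_iff.1 hy z]
  · intro x hx
    exact ⟨e2.symm x, Subgroup.mem_center_iff.2 fun z => e2.injective (by
      rw [map_mul, map_mul, MulEquiv.apply_symm_apply, Subgroup.mem_center_iff.1 hx (e2 z)]),
      e2.apply_symm_apply x⟩

end Cfsg.Agent.OrthRingTransfer60
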