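import Mathlib
import Cfsg.Agent.Lib.OrthSemisimpleForms
import Cfsg.Agent.Lib.OmegaClasses
import Cfsg.Agent.Lib.FiniteFormClass
import Cfsg.Agent.Lib.SymplecticAlt

/-!
An isometry of odd order prime to the characteristic of an even-dimensional form commutes with
similarities of every multiplier `c` of determinant `c ^ M`.
-/

set_option autoImplicit false
set_option linter.unusedSectionVars false

namespace Cfsg.Agent.OrthSemisimpleMult

open QuadraticMap Module
open scoped Matrix
open Cfsg.Agent.OrthUnitaryQuad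
open Cfsg.Agent.OrthUnitaryRefl
open Cfsg.Agent.OrthUnitaryOmega
open Cfsg.Agent.OmegaClasses

variable {F V : Type*} [Field F] [AddCommGroup V] [Module F V] [FiniteDimensional F V]

/-- A similitude of a non-degenerate alternating form has determinant a power of the multiplier. -/
theorem det_alt (Ω : V →ₗ[F] V →ₗ[F] F) (halt : ∀ v, Ω v v = 0) (hnd : ∀ u, (∀ v, Ω u v = 0) → u = 0)
    {c : F} (hc : c ≠ 0) (T : V →ₗ[F] V) (hT : ∀ u v, Ω (T u) (T v) = c * Ω u v) :
    ∃ k, finrank F V = 2 * k ∧ LinearMap.det T = c ^ k := by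
  classical
  obtain ⟨k, hk, e, -, he⟩ := SymplecticAlt.exists_symp_basis Ω halt _ ⊤ rfl fun u _ h =>
    hnd u fun v => h v trivial
  rw [finrank_top] at hk
  let Φ : (Fin k ⊕ Fin k → F) →ₗ[F] V := Fintype.linearCombination F e
  have hΦs : ∀ s, Φ (Pi.single s 1) = e s := fun s => by
    simp [Φ, Fintype.linearCombination_apply, Pi.single_apply, ite_smul]
  let Sf : (Fin k ⊕ Fin k → F) →ₗ[F] (Fin k ⊕ Fin k → F) →ₗ[F] F :=
    LinearMap.mk₂ F (fun u v => sympForm k F u v) SymplecticBasic.form_add_left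
      (fun a u v => by rw [SymplecticBasic.form_smul_left, smul_eq_mul])
      SymplecticBasic.form_add_right
      (fun a u v => by rw [SymplecticBasic.form_smul_right, smul_eq_mul])
  have hform : ∀ x y, Ω (Φ x) (Φ y) = sympForm k F x y := by
    have e' : Ω.compl₁₂ Φ Φ = Sf := LinearMap.ext_basis (Pi.basisFun F _) (Pi.basisFun F _) fun s t => by
      simp [Sf, hΦs, he]
    exact fun x y => LinearMap.congr_fun (LinearMap.congr_fun e' x) y
  have hinj : Function.Injective Φ := by
    rw [← LinearMap.ker_eq_bot, LinearMap.ker_eq_bot']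
    intro x hx
    exact SymplecticBasic.form_nondeg fun y => by rw [← hform, hx, map_zero, LinearMap.zero_apply]
  let Φe : (Fin k ⊕ Fin k → F) ≃ₗ[F] V :=
    LinearMap.linearEquivOfInjective Φ hinj (by rw [finrank_pi, Fintype.card_sum, Fintype.card_fin, hk]; omega)
  have hΦe : ∀ x, Φe x = Φ x := fun x => LinearMap.linearEquivOfInjective_apply hinj _ x
  set A := LinearMap.toMatrix' ((Φe.symm : V →ₗ[F] (Fin k ⊕ Fin k → F)) ∘ₗ T ∘ₗ (Φe : (Fin k ⊕ Fin k → F) →ₗ[F] V)) with hA
  set D : Matrix (Fin k ⊕ Fin k) (Fin k ⊕ Fin k) F := Matrix.fromBlocks 1 0 0 (c⁻¹ • 1)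
  have hAv : ∀ x, Φ (A *ᵥ x) = T (Φ x) := fun x => by
    rw [hA, LinearMap.toMatrix'_mulVec, ← hΦe, LinearMap.comp_apply, LinearMap.comp_apply,
      LinearEquiv.coe_coe, LinearEquiv.coe_coe, Φe.apply_symm_apply, hΦe]
  have hDv : ∀ x y, sympForm k F (D *ᵥ x) (D *ᵥ y) = c⁻¹ * sympForm k F x y := fun x y => by
    simp only [SymplecticBasic.form_eq_sum, D, Matrix.fromBlocks_mulVec, Matrix.one_mulVec,
      Matrix.zero_mulVec, add_zero, zero_add, Matrix.smul_mulVec, Sum.elim_inl, Sum.elim_inr,
      Function.comp_apply, Pi.smul_apply, smul_eq_mul, Finset.mul_sum]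
    exact Finset.sum_congr rfl fun i _ => by ring
  have hmem : A * D ∈ Matrix.symplecticGroup (Fin k) F := SymplecticBasic.mem_sp_iff_form.2 fun u v => by
    rw [← Matrix.mulVec_mulVec, ← Matrix.mulVec_mulVec, ← hform, hAv, hAv, hT, hform, hDv,
      ← mul_assoc, mul_inv_cancel₀ hc, one_mul]
  have hdet := SymplecticGroup.det_eq_one hmem
  rw [Matrix.det_mul, Matrix.det_fromBlocks_zero₂₁, Matrix.det_one, one_mul, Matrix.det_smul,
    Matrix.det_one, mul_one, Fintype.card_fin, inv_pow, mul_inv_eq_one₀ (pow_ne_zero _ hc), hA,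
    LinearMap.det_toMatrix'] at hdet
  refine ⟨k, hk, ?_⟩
  rw [← hdet]
  exact (LinearMap.det_conj T Φe.symm).symm

variable [Fintype F] {Q : QuadraticForm F V}

set_option maxHeartbeats 1000000 in
/-- Commuting similarities of all multipliers. -/
theorem exists_mult (h2 : (2 : F) ≠ 0) (hQ : (polarBilin Q).Nondegenerate) {M : ℕ}
    (hdim : finrank F V = 2 * M) (g : orth Q) {r : ℕ} (hr : Odd r)
    (hrF : (r : F) ≠ 0) (hgr : g ^ r = 1) {c : F} (hc : c ≠ 0) :
    ∃ s : V →ₗ[F] V, (∀ x, s (g.1 x) = g.1 (s x)) ∧ (∀ x, Q (s x) = c * Q x) ∧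
      LinearMap.det s = c ^ M := by
  classical
  set A : Module.End F V := g.1.toLinearMap with hAdef
  have hA1 : A ^ r = 1 := by
    have hpow : ∀ (j : ℕ) x, (g ^ j).1 x = (A ^ j) x := by
      intro j
      induction j with
      | zero => intro x; rfl
      | succ j ih => intro x; rw [pow_succ', pow_succ', orth_mul_apply, ih]; rfl
    exact LinearMap.ext fun x => by rw [← hpow, hgr]; rfl
  set b : LinearMap.BilinForm F V := polarBilin Q with hbdef
  have hbA : ∀ x y, b (A x) (A y) = b x y := fun x y => polar_orth g x y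
  set M0 : Module.End F V := A - 1
  have hM : ∀ x, M0 x = A x - x := fun x => rfl
  set W := LinearMap.ker M0
  set V1 := LinearMap.range M0
  have hker : ∀ x, x ∈ W ↔ A x = x := fun x => by rw [LinearMap.mem_ker, hM, sub_eq_zero]
  have hdisj : Disjoint W V1 := by
    rw [Submodule.disjoint_def]
    rintro x hx ⟨y, rfl⟩
    rw [hker] at hx
    have key : ∀ n : ℕ, (A ^ n) y = y + (n : F) • M0 y := by
      intro n
      induction n with
      | zero => simp
      | succ n ih =>
        rw [pow_succ', Module.End.mul_apply, ih, map_add, map_smul, hx, show A y = y + M0 y by rw [hM]; abel]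
        push_cast
        module
    have := key r
    rw [hA1, Module.End.one_apply, eq_comm, add_eq_left, smul_eq_zero] at this
    exact this.resolve_left hrF
  have hcompl : IsCompl W V1 :=
    Submodule.isCompl_iff_disjoint _ _ (by rw [add_comm, M0.finrank_range_add_finrank_ker]) |>.2 hdisj
  have hAV : ∀ x ∈ V1, A x ∈ V1 := by
    rintro _ ⟨y, rfl⟩
    exact ⟨A y, by simp [hM, map_sub]⟩
  have horth : ∀ x ∈ W, ∀ y ∈ V1, b x y = 0 := by
    rintro x hx _ ⟨y, rfl⟩
    rw [hker] at hx
    have := hbA x y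
    rw [hx] at this
    rw [hM, map_sub, this, sub_self]
  have hsym : ∀ x y, b x y = b y x := fun x y => polar_comm Q x y
  have hres : ∀ X Y : Submodule F V, X ⊔ Y = ⊤ → (∀ x ∈ X, ∀ y ∈ Y, b x y = 0) →
      ∀ x : X, (∀ y : X, b x y = 0) → x = 0 := by
    intro X Y hs ho x hx
    refine Subtype.ext (hQ.1 _ fun y => ?_)
    obtain ⟨u, hu, v, hv, rfl⟩ := Submodule.mem_sup.1 (hs ▸ Submodule.mem_top (x := y))
    rw [map_add, hx ⟨u, hu⟩, ho _ x.2 v hv, add_zero]
  have hresV := hres V1 W (by rw [sup_comm]; exact hcompl.sup_eq_top)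
    (fun x hx y hy => by rw [hsym]; exact horth y hy x hx)
  have hresW := hres W V1 hcompl.sup_eq_top horth
  -- on the moved part
  set A1 : Module.End F V1 := A.restrict hAV
  have hA1r : A1 ^ r = 1 := by
    rw [Module.End.pow_restrict]
    exact LinearMap.ext fun x => Subtype.ext (by simp [hA1])
  have hfix : ∀ x, A1 (A1 x) = x → x = 0 := by
    intro x hx
    have h2' : A (A (x : V)) = x := congrArg Subtype.val hx
    obtain ⟨j, hj⟩ := hr
    have hpow : ∀ i : ℕ, (A ^ (2 * i)) (x : V) = x := by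
      intro i
      induction i with
      | zero => simp
      | succ i ih =>
        rw [show 2 * (i + 1) = 2 * i + 2 by ring, pow_add, Module.End.mul_apply, pow_two, Module.End.mul_apply, h2', ih]
    have h1 : A (x : V) = x := by
      conv_rhs => rw [← Module.End.one_apply (R := F) (x : V), ← hA1, hj, pow_succ', Module.End.mul_apply, hpow]
    exact Subtype.ext (Submodule.disjoint_def.1 hdisj x ((hker x).2 h1) x.2)
  obtain ⟨T, hTA, hT⟩ := OrthSemisimpleForms.exists_bilin_isometry (A := A1) hr.pos hA1r hfix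
    (B := b.restrict V1) (B' := c • b.restrict V1)
    (fun x y => hsym x y) (fun x y => by simp only [LinearMap.smul_apply]; exact congrArg _ (hsym x y))
    hresV
    (fun x hx => hresV x fun y => (mul_eq_zero.1 (hx y : c * b (x : V) y = 0)).resolve_left hc)
    (fun x y => hbA x y) (fun x y => by simp only [LinearMap.smul_apply]; exact congrArg _ (hbA x y))
  have hTb : ∀ x y : V1, b (T x : V) (T y) = c * b (x : V) y := hT
  have hTc : ∀ x, T (A1 x) = A1 (T x) := fun x => LinearMap.congr_fun hTA x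
  -- its determinant
  set Ω : V1 →ₗ[F] V1 →ₗ[F] F := LinearMap.comp (b.restrict V1) (A1 - A1 ^ (r - 1))
  have hΩ : ∀ u v, Ω u v = b ((A1 u : V1) : V) v - b (((A1 ^ (r - 1)) u : V1) : V) v := fun u v => by
    simp [Ω, map_sub]
  have hAA : ∀ u, A1 ((A1 ^ (r - 1)) u) = u := fun u => by
    rw [← Module.End.mul_apply, ← pow_succ', Nat.sub_add_cancel hr.pos, hA1r]; rfl
  have halt : ∀ u, Ω u u = 0 := fun u => by
    rw [hΩ, ← hbA (((A1 ^ (r - 1)) u : V1) : V) u, show A (((A1 ^ (r - 1)) u : V1) : V) = (u : V) from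
      congrArg Subtype.val (hAA u), hsym (u : V)]
    exact sub_self _
  obtain ⟨k, hk, hdetT⟩ := det_alt Ω halt (fun u hu => hfix u (by
    have h0 : A1 u - (A1 ^ (r - 1)) u = 0 := hresV _ fun y => by
      rw [Submodule.coe_sub, map_sub, LinearMap.sub_apply, ← hΩ]; exact hu y
    have h' := congrArg A1 (sub_eq_zero.1 h0)
    rwa [hAA] at h')) hc T (fun u v => by
    have hc' : ∀ j : ℕ, ∀ u, (A1 ^ j) (T u) = T ((A1 ^ j) u) := by
      intro j
      induction j with
      | zero => intro u; rfl
      | succ j ih => intro u; rw [pow_succ', Module.End.mul_apply, Module.End.mul_apply, ih, hTc]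
    rw [hΩ, hΩ, ← hTc, hc', hTb, hTb, mul_sub])
  -- on the fixed part
  obtain ⟨SW, hSW⟩ : ∃ SW : W →ₗ[F] W, ∀ x y : W, b (SW x : V) (SW y) = c * b (x : V) y := by
    have hdimW : finrank F W + finrank F V1 = 2 * M := by
      rw [← hdim, Submodule.finrank_add_eq_of_isCompl hcompl]
    rcases Nat.eq_zero_or_pos (finrank F W) with h0 | h0
    · haveI : Subsingleton W := Module.finrank_zero_iff.1 h0
      exact ⟨0, fun x y => by simp [Subsingleton.elim x 0]⟩
    set bW := Module.finBasis F W
    set BW : LinearMap.BilinForm F W := b.restrict W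
    have hBWs : ∀ x y, BW x y = BW y x := fun x y => hsym x y
    have hBWn : BW.Nondegenerate :=
      ⟨fun x hx => hresW x hx, fun x hx => hresW x fun y => (hsym _ _).trans (hx y)⟩
    have hcBn : (c • BW).Nondegenerate := by
      refine ⟨fun x hx => hresW x fun y => (mul_eq_zero.1 (hx y : c * b (x : V) y = 0)).resolve_left hc,
        fun x hx => hresW x fun y => (hsym _ _).trans
          ((mul_eq_zero.1 (hx y : c * b (y : V) x = 0)).resolve_left hc)⟩
    have hev : finrank F W = 2 * (finrank F W / 2) := by omega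
    have hdisc : IsSquare ((LinearMap.BilinForm.toMatrix bW (c • BW)).det *
        (LinearMap.BilinForm.toMatrix bW BW).det) := by
      rw [map_smul, Matrix.det_smul, Fintype.card_fin]
      refine ⟨c ^ ((finrank F W) / 2) * (LinearMap.BilinForm.toMatrix bW BW).det, ?_⟩
      rw [show c ^ finrank F W = c ^ (finrank F W / 2) * c ^ (finrank F W / 2) by
        rw [← pow_add, ← two_mul, ← hev]]
      ring
    obtain ⟨e, he⟩ := FiniteFormClass.exists_isometry h2 (c • BW) BW
      (fun x y => by simp only [LinearMap.smul_apply]; exact congrArg _ (hBWs x y)) hBWs hcBn hBWn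
      (n := finrank F W - 1) (by omega) (by omega) bW bW hdisc
    exact ⟨e, fun x y => he x y⟩
  -- glue
  set s : V →ₗ[F] V := W.subtype.comp (SW.comp (W.projectionOnto V1 hcompl)) +
    V1.subtype.comp (T.comp (V1.projectionOnto W hcompl.symm)) with hs
  have hsval : ∀ (x : W) (y : V1), s ((x : V) + y) = (SW x : V) + (T y : V) := fun x y => by
    simp only [hs, LinearMap.add_apply, LinearMap.comp_apply, map_add, Submodule.subtype_apply,
      Submodule.projectionOnto_apply_left, Submodule.linearProjOfIsCompl_apply_right' hcompl y.2,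
      Submodule.linearProjOfIsCompl_apply_right' hcompl.symm x.2, map_zero, ZeroMemClass.coe_zero,
      add_zero, zero_add]
  have hdec : ∀ z : V, ∃ (x : W) (y : V1), z = (x : V) + y := fun z => by
    obtain ⟨u, hu, v, hv, rfl⟩ := Submodule.mem_sup.1 (hcompl.sup_eq_top ▸ Submodule.mem_top (x := z))
    exact ⟨⟨u, hu⟩, ⟨v, hv⟩, rfl⟩
  have hscomm : ∀ z, s (g.1 z) = g.1 (s z) := fun z => by
    obtain ⟨x, y, rfl⟩ := hdec z
    show s (A _) = A (s _)
    rw [map_add, (hker _).1 x.2, show A (y : V) = ((A1 y : V1) : V) from rfl, hsval, hsval, hTc, map_add,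
      (hker _).1 (SW x).2]
    rfl
  have hsQ : ∀ z, Q (s z) = c * Q z := fun z => by
    obtain ⟨x, y, rfl⟩ := hdec z
    have hb2 : ∀ u, b u u = 2 * Q u := fun u => polar_self_mul Q u
    refine mul_left_cancel₀ h2 ?_
    rw [← hb2, mul_left_comm, ← hb2, hsval]
    simp only [map_add, LinearMap.add_apply, hSW, hTb, horth _ x.2 _ y.2,
      horth _ (SW x).2 _ (T y).2, hsym (y : V) x, hsym (T y : V) (SW x : V)]
    ring
  by_cases hW0 : finrank F W = 0
  · refine ⟨s, hscomm, hsQ, ?_⟩
    haveI : Subsingleton W := Module.finrank_zero_iff.1 hW0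
    have hV1 : V1 = ⊤ := by
      rw [← hcompl.sup_eq_top, Submodule.finrank_eq_zero.1 hW0, bot_sup_eq]
    have hk' : M = k := by
      rw [hV1, finrank_top, hdim] at hk; omega
    have hconj : s = ((LinearEquiv.ofTop V1 hV1 : V1 →ₗ[F] V)) ∘ₗ T ∘ₗ
        ((LinearEquiv.ofTop V1 hV1).symm : V →ₗ[F] V1) := by
      refine LinearMap.ext fun z => ?_
      obtain ⟨y, rfl⟩ := (LinearEquiv.ofTop V1 hV1).surjective z
      rw [LinearMap.comp_apply, LinearMap.comp_apply, LinearEquiv.coe_coe, LinearEquiv.coe_coe,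
        LinearEquiv.symm_apply_apply]
      have := hsval 0 y
      rw [map_zero, Submodule.coe_zero, zero_add, zero_add] at this
      exact this
    rw [hconj, LinearMap.det_conj, hdetT, hk']
  · -- adjust by a reflection fixing `g`
    have hdet2 : LinearMap.det s * LinearMap.det s = c ^ (2 * M) := by
      rw [← hdim]
      have bV := Module.finBasis F V
      have e : b.compl₁₂ s s = c • b := LinearMap.ext₂ fun x y => by
        simp only [LinearMap.compl₁₂_apply, LinearMap.smul_apply, smul_eq_mul, b,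
          polarBilin_apply_apply, polar, ← map_add, hsQ]
        ring
      have h := LinearMap.toMatrix₂_compl₁₂ bV bV bV bV b s s
      rw [e, map_smul] at h
      have h' := congrArg Matrix.det h
      rw [Matrix.det_smul, Matrix.det_mul, Matrix.det_mul, Matrix.det_transpose, LinearMap.det_toMatrix,
        Fintype.card_fin] at h'
      exact mul_right_cancel₀ ((LinearMap.nondegenerate_iff_det_ne_zero bV).1 hQ)
        ((h'.trans (by ring)).symm)
    rw [pow_mul', pow_two, mul_self_eq_mul_self_iff] at hdet2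
    rcases hdet2 with hd | hd
    · exact ⟨s, hscomm, hsQ, hd⟩
    obtain ⟨u, hu, hu0⟩ : ∃ u ∈ W, Q u ≠ 0 := by
      by_contra hall
      push Not at hall
      obtain ⟨x, hx, hx0⟩ := Submodule.exists_mem_ne_zero_of_ne_bot
        (fun e => hW0 (Submodule.finrank_eq_zero.2 e))
      refine hx0 (congrArg Subtype.val (hresW ⟨x, hx⟩ fun y => ?_))
      show Q _ - Q _ - Q _ = 0
      rw [hall _ (W.add_mem hx y.2), hall _ hx, hall _ y.2]
      simp
    refine ⟨(refl Q u hu0).1.toLinearMap.comp s, fun z => ?_, fun z => ?_, ?_⟩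
    · have hug : g.1 u = u := (hker u).1 hu
      have hrg : ∀ y, (refl Q u hu0).1 (g.1 y) = g.1 ((refl Q u hu0).1 y) := fun y => by
        rw [refl_apply, refl_apply, map_sub, map_smul, hug,
          show polar Q u (g.1 y) = polar Q u y from by
            conv_lhs => rw [← hug]
            exact polar_orth g u y]
      show (refl Q u hu0).1 (s (g.1 z)) = g.1 ((refl Q u hu0).1 (s z))
      rw [hscomm, hrg]
    · show Q ((refl Q u hu0).1 (s z)) = _
      rw [(refl Q u hu0).2, hsQ]
    · rw [LinearMap.det_comp, hd, ← LinearEquiv.coe_det,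
        show LinearEquiv.det (refl Q u hu0).1 = detHom Q (refl Q u hu0) from rfl, detHom_refl]
      simp

end Cfsg.Agent.OrthSemisimpleMult
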