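import Mathlib
import Cfsg.Agent.Lib.OmegaClasses
import Cfsg.Agent.Lib.SemisimpleConjGL
import Cfsg.Agent.Lib.FiniteFormClass

/-!
An isometry of odd order prime to the characteristic commutes with a special isometry of non-trivial
spinor norm: a product of two involutions, each negating a line over the field generated by `g + g⁻¹`.
-/

set_option autoImplicit false
set_option linter.unusedSectionVars false

namespace Cfsg.Agent.OrthSemisimpleSpinor

open QuadraticMap Module Polynomial
open Cfsg.Agent.OrthUnitaryQuad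
open Cfsg.Agent.OrthUnitaryRefl
open Cfsg.Agent.OrthUnitaryOmega
open Cfsg.Agent.OmegaClasses

variable {F V : Type*} [Field F] [Fintype F] [AddCommGroup V] [Module F V] [FiniteDimensional F V]
  {Q : QuadraticForm F V}

/-- The product of the reflections in pairwise orthogonal vectors. -/
theorem rprod_orth {vs : List V} (hns : NS Q vs) (ho : vs.Pairwise fun a b => polar Q a b = 0) (x : V) :
    (rprod Q vs).1 x = x - (vs.map fun v => ((Q v)⁻¹ * polar Q v x) • v).sum := by
  induction vs with
  | nil => simp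
  | cons v vs ih =>
    rw [List.pairwise_cons] at ho
    rw [rprod_cons hns.head, orth_mul_apply, ih hns.tail ho.2, refl_apply, List.map_cons, List.sum_cons]
    have h0 : polar Q v (vs.map fun w => ((Q w)⁻¹ * polar Q w x) • w).sum = 0 := by
      rw [← polarBilin_apply_apply, map_list_sum, List.map_map]
      refine List.sum_eq_zero fun t ht => ?_
      obtain ⟨w, hw, rfl⟩ := List.mem_map.1 ht
      simp [ho.1 w hw]
    rw [polar_sub_right, h0, sub_zero]
    abel

/-- An element of the algebra generated by a semisimple map has the kernel of its square. -/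
theorem ker_sq {G T : Module.End F V} (hG : G.IsSemisimple) (hT : T ∈ Algebra.adjoin F ({G} : Set (Module.End F V)))
    {x : V} (hx : T (T x) = 0) : T x = 0 := by
  set P := LinearMap.ker (T * T)
  have hs : ∀ y ∈ P, T y ∈ P := fun y hy => by
    simp only [P, LinearMap.mem_ker, Module.End.mul_apply] at hy ⊢
    rw [hy, map_zero]
  have hinv : P ∈ T.invtSubmodule := hs
  have h0 : T.restrict hs = 0 := Module.End.eq_zero_of_isNilpotent_isSemisimple
    ⟨2, LinearMap.ext fun y => Subtype.ext (by
      rw [pow_two, Module.End.mul_apply]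
      exact y.2)⟩
    (Module.End.IsSemisimple.restrict hinv (Module.End.IsSemisimple.of_mem_adjoin_singleton hG hT))
  exact congrArg Subtype.val (LinearMap.congr_fun h0 ⟨x, hx⟩)

theorem aeval_restrict {P : Submodule F V} {T : Module.End F V} (hs : ∀ y ∈ P, T y ∈ P) (p : F[X]) (y : P) :
    ((aeval (T.restrict hs) p y : P) : V) = aeval T p (y : V) := by
  induction p using Polynomial.induction_on' with
  | add p q hp hq => simp [hp, hq]
  | monomial k c =>
    have hk : ∀ j : ℕ, (((T.restrict hs) ^ j) y : V) = (T ^ j) (y : V) := by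
      intro j
      induction j with
      | zero => rfl
      | succ j ih => rw [pow_succ', pow_succ', Module.End.mul_apply, Module.End.mul_apply, ← ih]; rfl
    simp [aeval_monomial, Module.algebraMap_end_apply, hk]

section Line

variable {K : Type*} [Field K] [Algebra F K] [FiniteDimensional F K] (φ : K →ₗ[F] Module.End F V)
  (hmul : ∀ a b u, φ (a * b) u = φ a (φ b u))
  (hadj : ∀ a u v, polar Q (φ a u) v = polar Q u (φ a v))

include hmul hadj

theorem polar_line (a b : K) (u : V) : polar Q (φ a u) (φ b u) = polar Q (φ (a * b) u) u := by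
  rw [← hadj, ← hmul, mul_comm]

/-- The involution negating a nondegenerate line over `K`. -/
theorem line_refl (h2 : (2 : F) ≠ 0) (u : V) (ℓ : K →ₗ[F] F) (hℓ : ∀ z, ℓ z = polar Q (φ z u) u)
    (hnd : ∀ z, z ≠ 0 → ∃ z', ℓ (z * z') ≠ 0) :
    ∃ (vs : List V) (c : Basis (Fin (finrank F K)) F K), vs.length = finrank F K ∧ NS Q vs ∧
      (LinearMap.BilinForm.toMatrix c ((LinearMap.mul F K).compr₂ ℓ)).det
        = 2 ^ finrank F K * (vs.map Q).prod ∧
      ∀ x y, (∀ z, ℓ (z * y) = polar Q (φ z u) x) → (rprod Q vs).1 x = x - (2 : F) • φ y u := by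
  haveI : Invertible (2 : F) := invertibleOfNonzero h2
  set β : LinearMap.BilinForm F K := (LinearMap.mul F K).compr₂ ℓ with hβdef
  have hβ : ∀ a b, β a b = ℓ (a * b) := fun a b => rfl
  have hsym : LinearMap.IsSymm β := ⟨fun a b => by simp [hβ, mul_comm]⟩
  obtain ⟨c, hc⟩ := LinearMap.BilinForm.exists_orthogonal_basis hsym
  have horth : ∀ i j, i ≠ j → ℓ (c i * c j) = 0 := fun i j h => hc h
  have hne : ∀ i, ℓ (c i * c i) ≠ 0 := by
    intro i h
    obtain ⟨z', hz'⟩ := hnd (c i) (c.ne_zero i)
    refine hz' ?_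
    have e : (ℓ.comp (LinearMap.mulLeft F (c i))) = 0 := c.ext fun j => by
      by_cases hij : i = j
      · subst hij; exact h
      · exact horth i j hij
    exact LinearMap.congr_fun e z'
  have hQ : ∀ a, 2 * Q (φ a u) = ℓ (a * a) := fun a => by
    rw [hℓ, ← polar_line φ hmul hadj, polar_self_mul]
  set vs := List.ofFn fun i => φ (c i) u with hvs
  have hns : NS Q vs := by
    intro v hv
    obtain ⟨i, rfl⟩ := List.mem_ofFn.1 hv
    intro e
    exact hne i (by rw [← hQ, e, mul_zero])
  refine ⟨vs, c, by rw [hvs, List.length_ofFn], hns, ?_, fun x y hy => ?_⟩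
  · have e : LinearMap.BilinForm.toMatrix c β = Matrix.diagonal fun i => 2 * Q (φ (c i) u) := by
      ext i j
      rw [LinearMap.BilinForm.toMatrix_apply, hβ, Matrix.diagonal_apply]
      split_ifs with h
      · subst h; rw [hQ]
      · exact horth i j h
    rw [e, Matrix.det_diagonal, hvs, List.map_ofFn, List.prod_ofFn, Finset.prod_mul_distrib,
      Finset.prod_const, Finset.card_univ, Fintype.card_fin]
    rfl
  · have hpw : vs.Pairwise fun a b => polar Q a b = 0 := by
      rw [hvs, List.pairwise_ofFn]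
      intro i j hij
      rw [polar_line φ hmul hadj, ← hℓ]
      exact horth i j (ne_of_lt hij)
    rw [rprod_orth hns hpw, hvs, List.map_ofFn, List.sum_ofFn]
    congr 1
    set y' := ∑ i, ((Q (φ (c i) u))⁻¹ * polar Q (φ (c i) u) x) • c i with hy'
    have e : y' = (2 : F) • y := by
      by_contra hne'
      obtain ⟨z', hz'⟩ := hnd _ (sub_ne_zero.2 hne')
      refine hz' ?_
      have key : ∀ j, ℓ (c j * (y' - (2 : F) • y)) = 0 := by
        intro j
        rw [mul_sub, map_sub, mul_smul_comm, map_smul, hy, hy', Finset.mul_sum, map_sum,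
          Finset.sum_eq_single j]
        · have hj : Q (φ (c j) u) ≠ 0 := hns _ (List.mem_ofFn.2 ⟨j, rfl⟩)
          rw [mul_smul_comm, map_smul, ← hQ, smul_eq_mul, smul_eq_mul]
          field_simp
          ring
        · intro i _ hij
          rw [mul_smul_comm, map_smul, horth j i (Ne.symm hij), smul_zero]
        · intro h; exact absurd (Finset.mem_univ j) h
      have e : (ℓ.comp (LinearMap.mulLeft F (y' - (2 : F) • y))) = 0 := c.ext fun j => by
        show ℓ (_ * c j) = 0
        rw [mul_comm]; exact key j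
      exact LinearMap.congr_fun e z'
    rw [← LinearMap.smul_apply, ← map_smul, ← e, hy', map_sum, LinearMap.sum_apply]
    exact Finset.sum_congr rfl fun i _ => by simp [Function.comp_def]

end Line

set_option maxHeartbeats 1000000 in
/-- An isometry of odd order prime to the characteristic, not the identity, commutes with an isometry
of determinant one outside the commutator subgroup. -/
theorem exists_spinor (h2 : (2 : F) ≠ 0) (hQ : (polarBilin Q).Nondegenerate)
    (hexc : Fintype.card F ≠ 2 ∨ finrank F V ≠ 4) (g : orth Q) {r : ℕ} (hr : Odd r)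
    (hrF : (r : F) ≠ 0) (hgr : g ^ r = 1) (hg : g ≠ 1) :
    ∃ k : orth Q, detHom Q k = 1 ∧ k ∉ commutator (orth Q) ∧ ∀ x, k.1 (g.1 x) = g.1 (k.1 x) := by
  classical
  set G : Module.End F V := g.1.toLinearMap with hGdef
  set G' : Module.End F V := g.1.symm.toLinearMap with hG'def
  have hGG' : ∀ x, G (G' x) = x := g.1.apply_symm_apply
  have hG'G : ∀ x, G' (G x) = x := g.1.symm_apply_apply
  have hBG : ∀ x y, polar Q (G x) (G y) = polar Q x y := fun x y => polar_orth g x y
  have hadjG : ∀ x y, polar Q (G x) y = polar Q x (G' y) := fun x y => by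
    conv_lhs => rw [← hGG' y]
    rw [hBG]
  have hpow : ∀ (j : ℕ) x, (g ^ j).1 x = (G ^ j) x := by
    intro j
    induction j with
    | zero => intro x; rfl
    | succ j ih => intro x; rw [pow_succ', pow_succ', orth_mul_apply, ih]; rfl
  have hGr : G ^ r = 1 := LinearMap.ext fun x => by rw [← hpow, hgr]; rfl
  have hG1 : G ≠ 1 := fun e => hg (orth_ext fun x => LinearMap.congr_fun e x)
  have hGss : G.IsSemisimple := Module.End.isSemisimple_of_squarefree_aeval_eq_zero
    (p := X ^ r - 1) (X_pow_sub_one_separable_iff.2 hrF).squarefree (by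
      rw [map_sub, map_pow, aeval_X, map_one, hGr, sub_self])
  set A := Algebra.adjoin F ({G} : Set (Module.End F V))
  have hGA : G ∈ A := Algebra.self_mem_adjoin_singleton F G
  have hG'A : G' ∈ A := by
    have : G' = G ^ (r - 1) := LinearMap.ext fun x => by
      have h : G ((G ^ (r - 1)) x) = x := by
        rw [← Module.End.mul_apply, ← pow_succ', Nat.sub_add_cancel hr.pos, hGr]; rfl
      conv_lhs => rw [← h]
      rw [hG'G]
    rw [this]; exact pow_mem hGA _
  set S := G + G' with hSdef
  have hSA : S ∈ A := add_mem hGA hG'A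
  have hSadj : ∀ x y, polar Q (S x) y = polar Q x (S y) := fun x y => by
    have e1 : polar Q (G' x) y = polar Q x (G y) := by rw [polar_comm, ← hadjG, polar_comm]
    rw [hSdef, LinearMap.add_apply, LinearMap.add_apply, polar_add_left, polar_add_right, hadjG, e1]
    ring
  have hSG : ∀ x, S (G x) = G (S x) := fun x => by
    simp only [hSdef, LinearMap.add_apply, map_add, hGG', hG'G]
  -- an irreducible factor
  set W := LinearMap.range (S - 2)
  have hWne : W ≠ ⊥ := fun e => by
    have hS2 : ∀ x, S x = (2 : Module.End F V) x := fun x => sub_eq_zero.1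
      (LinearMap.congr_fun (LinearMap.range_eq_bot.1 e) x)
    refine hG1 (LinearMap.ext fun x => sub_eq_zero.1 (ker_sq hGss (T := G - 1) (sub_mem hGA (one_mem _)) ?_))
    have h := congrArg G (hS2 x)
    simp only [hSdef, LinearMap.add_apply, map_add, hGG', Module.End.ofNat_apply, two_smul] at h
    simp only [LinearMap.sub_apply, Module.End.one_apply, map_sub]
    linear_combination (norm := abel) h
  have hsW : ∀ y ∈ W, S y ∈ W := by
    rintro _ ⟨x, rfl⟩
    exact ⟨S x, by simp [LinearMap.sub_apply, map_sub, Module.End.ofNat_apply, two_smul]⟩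
  set SW := S.restrict hsW with hSW
  have hnu : ¬ IsUnit SW.charpoly := fun hu => hWne (Submodule.finrank_eq_zero.1 (by
    rw [← LinearMap.charpoly_natDegree SW]; exact natDegree_eq_zero_of_isUnit hu))
  obtain ⟨f, hfm, hf, hfd⟩ := Polynomial.exists_monic_irreducible_factor SW.charpoly hnu
  obtain ⟨x0, hx00, hx0⟩ := SemisimpleConjGL.exists_ker_of_dvd_charpoly SW hf hfd
  have hTx0 : aeval S f (x0 : V) = 0 := by rw [← aeval_restrict hsW, hx0]; rfl
  have hf2 : f.eval 2 ≠ 0 := by
    intro e
    have hX : X - C (2 : F) = f := eq_of_monic_of_associated (monic_X_sub_C 2) hfm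
      ((irreducible_X_sub_C 2).associated_of_dvd hf (dvd_iff_isRoot.2 e))
    obtain ⟨y, hy⟩ := x0.2
    rw [← hX, map_sub, aeval_X, aeval_C] at hTx0
    have h1 : (S - 2) ((S - 2) y) = 0 := by
      rw [hy]
      simpa [Module.algebraMap_end_apply, Module.End.ofNat_apply, two_smul] using hTx0
    refine hx00 (Subtype.ext ?_)
    rw [← hy]
    exact ker_sq hGss (sub_mem hSA (by rw [show (2 : Module.End F V) = 1 + 1 from one_add_one_eq_two.symm]; exact add_mem (one_mem _) (one_mem _))) h1
  -- the isotypic space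
  set T := aeval S f with hTdef
  have hTA : T ∈ A := Algebra.adjoin_le (Set.singleton_subset_iff.2 hSA) (aeval_mem_adjoin_singleton F S)
  have hadjp : ∀ (p : F[X]) x y, polar Q (aeval S p x) y = polar Q x (aeval S p y) := by
    intro p
    induction p using Polynomial.induction_on with
    | C a => intro x y; simp [Module.algebraMap_end_apply, polar_smul_left, polar_smul_right]
    | add p q hp hq => intro x y; simp [polar_add_left, polar_add_right, hp, hq]
    | monomial k a ih =>
      intro x y
      have e : ∀ z, aeval S (C a * X ^ (k + 1)) z = aeval S (C a * X ^ k) (S z) := fun z => by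
        rw [pow_succ, ← mul_assoc, map_mul, aeval_X, Module.End.mul_apply]
      have e' : ∀ z, aeval S (C a * X ^ (k + 1)) z = S (aeval S (C a * X ^ k) z) := fun z => by
        rw [pow_succ', mul_left_comm, map_mul, aeval_X, Module.End.mul_apply]
      rw [e, e', ih, hSadj]
  have hGp : ∀ (p : F[X]) x, aeval S p (G x) = G (aeval S p x) := fun p x => by
    have hc : Commute S G := LinearMap.ext fun x => hSG x
    have := Algebra.commute_of_mem_adjoin_singleton_of_commute (aeval_mem_adjoin_singleton F S (p := p)) hc.symm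
    exact (LinearMap.congr_fun this.eq x).symm
  set U := LinearMap.ker T with hU
  have hsup : U ⊔ LinearMap.range T = ⊤ := by
    refine Submodule.eq_top_of_disjoint _ _ ?_ (Submodule.disjoint_def.2 ?_)
    · rw [add_comm, T.finrank_range_add_finrank_ker]
    · rintro x hx ⟨y, rfl⟩
      exact ker_sq hGss hTA hx
  have hsU : ∀ y ∈ U, S y ∈ U := fun y hy => by
    rw [hU, LinearMap.mem_ker, hTdef] at hy ⊢
    have e := congrArg (aeval S) (mul_comm f X)
    simp only [map_mul, aeval_X] at e
    rw [← Module.End.mul_apply, e, Module.End.mul_apply, hy, map_zero]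
  obtain ⟨w, hwU, hw⟩ : ∃ w ∈ U, Q w ≠ 0 := by
    by_contra hc
    push Not at hc
    have hUne : (x0 : V) ≠ 0 := fun e => hx00 (Subtype.ext e)
    refine hUne (hQ.1 _ fun y => ?_)
    obtain ⟨a, ha, _, ⟨b, rfl⟩, rfl⟩ := Submodule.mem_sup.1 (hsup ▸ Submodule.mem_top (x := y))
    show polar Q (x0 : V) (a + T b) = 0
    rw [polar_add_right, ← hadjp, hTx0, polar_zero_left, add_zero]
    show Q _ - Q _ - Q _ = 0
    rw [hc _ (U.add_mem hTx0 ha), hc _ hTx0, hc _ ha]
    simp
  haveI := Fact.mk hf
  set K := AdjoinRoot f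
  haveI : FiniteDimensional F K := (AdjoinRoot.powerBasis' hfm).finite
  haveI : Finite K := Module.finite_of_finite F
  letI : Fintype K := Fintype.ofFinite K
  -- the action of `K`, extended by zero outside `U`
  have hdisj : Disjoint U (LinearMap.range T) := Submodule.disjoint_def.2 (by
    rintro x hx ⟨y, rfl⟩
    exact ker_sq hGss hTA hx)
  have hcompl : IsCompl U (LinearMap.range T) := ⟨hdisj, codisjoint_iff.2 hsup⟩
  set pr := U.projectionOnto (LinearMap.range T) hcompl
  have hpr : ∀ y : U, pr y = y := Submodule.projectionOnto_apply_left hcompl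
  have hperp : ∀ (u : U) (v : V), polar Q (u : V) v = polar Q (u : V) (pr v) := fun u v => by
    obtain ⟨a, ha, _, ⟨b, rfl⟩, rfl⟩ := Submodule.mem_sup.1 (hsup ▸ Submodule.mem_top (x := v))
    have e0 : pr (T b) = 0 := Submodule.linearProjOfIsCompl_apply_right' hcompl ⟨b, rfl⟩
    rw [map_add, hpr ⟨a, ha⟩, e0, add_zero, polar_add_right, ← hadjp, show T (u : V) = 0 from u.2,
      polar_zero_left, add_zero]
  set S₀ := S.restrict hsU with hS₀
  set L := Algebra.adjoin F ({S₀} : Set (Module.End F U))
  have hz : Polynomial.eval₂ (Algebra.ofId F L : F →+* L) (⟨S₀, Algebra.self_mem_adjoin_singleton F S₀⟩ : L) f = 0 := by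
    show aeval (⟨S₀, _⟩ : L) f = 0
    refine Subtype.ext ?_
    rw [aeval_subalgebra_coe]
    refine LinearMap.ext fun y => Subtype.ext ?_
    rw [aeval_restrict hsU]
    exact y.2
  let li := AdjoinRoot.liftAlgHom (T := L) (S := F) f (Algebra.ofId F L) ⟨S₀, Algebra.self_mem_adjoin_singleton F S₀⟩ hz
  set ψ : K →ₐ[F] Module.End F U := L.val.comp li with hψ
  have hψmk : ∀ p, ψ (AdjoinRoot.mk f p) = aeval S₀ p := fun p => by
    rw [hψ, AlgHom.comp_apply, show li _ = _ from AdjoinRoot.liftAlgHom_mk _ _ _ hz p]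
    show L.val (aeval _ p) = _
    rw [← aeval_algHom_apply]; rfl
  have hψv : ∀ p (y : U), ((ψ (AdjoinRoot.mk f p) y : U) : V) = aeval S p (y : V) := fun p y => by
    rw [hψmk, aeval_restrict hsU]
  set φ : K →ₗ[F] Module.End F V :=
    { toFun := fun z => U.subtype.comp ((ψ z).comp pr)
      map_add' := fun a b => by ext x; simp
      map_smul' := fun a b => by ext x; simp } with hφdef
  have hφa : ∀ z (y : U), φ z (y : V) = (ψ z y : V) := fun z y => by
    show (ψ z (pr y) : V) = _
    rw [hpr]
  have hφU : ∀ z x, φ z x ∈ U := fun z x => (ψ z (pr x)).2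
  have hmul : ∀ a b u, φ (a * b) u = φ a (φ b u) := fun a b u => by
    show _ = φ a ((ψ b (pr u) : U) : V)
    rw [hφa]
    show (ψ (a * b) (pr u) : V) = _
    rw [map_mul, Module.End.mul_apply]
  have hadj : ∀ a u v, polar Q (φ a u) v = polar Q u (φ a v) := fun a u v => by
    show polar Q ((ψ a (pr u) : U) : V) v = polar Q u ((ψ a (pr v) : U) : V)
    rw [hperp, polar_comm Q u, hperp _ u, polar_comm Q _ (pr u : V)]
    obtain ⟨p, rfl⟩ := AdjoinRoot.mk_surjective a
    rw [hψv, hψv, hadjp]
  have hφG : ∀ a (u : V), u ∈ U → φ a (G u) = G (φ a u) := fun a u hu => by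
    have hGu : G u ∈ U := by
      rw [hU, LinearMap.mem_ker] at hu ⊢
      rw [hTdef, hGp, ← hTdef, hu, map_zero]
    obtain ⟨p, rfl⟩ := AdjoinRoot.mk_surjective a
    rw [show φ _ (G u) = _ from hφa _ ⟨G u, hGu⟩, show φ _ u = _ from hφa _ ⟨u, hu⟩, hψv, hψv]
    exact hGp p u
  have hφ1 : ∀ u, u ∈ U → φ 1 u = u := fun u hu => by
    rw [show φ 1 u = _ from hφa 1 ⟨u, hu⟩, map_one]; rfl
  set σ : K := AdjoinRoot.root f
  have hσ : ∀ u, u ∈ U → φ σ u = G u + G' u := fun u hu => by
    rw [show φ σ u = _ from hφa σ ⟨u, hu⟩, show σ = AdjoinRoot.mk f X from (AdjoinRoot.mk_X).symm, hψv,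
      aeval_X]; rfl
  have hσ2 : σ - 2 ≠ 0 := fun e => hf2 (by
    have h := AdjoinRoot.eval₂_root f
    rw [show AdjoinRoot.root f = algebraMap F K 2 by rw [map_ofNat]; exact sub_eq_zero.1 e,
      show (AdjoinRoot.of f) = algebraMap F K from rfl, eval₂_at_apply] at h
    exact (algebraMap F K).injective (h.trans (map_zero _).symm))
  have hσn : σ + 2 ≠ 0 := fun e => by
    have h1 : φ (σ + 2) w = 0 := by rw [e, map_zero]; rfl
    have h22 : φ 2 w = (2 : F) • w := by
      rw [show (2 : K) = (2 : F) • (1 : K) by rw [Algebra.smul_def, map_ofNat, mul_one], map_smul,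
        LinearMap.smul_apply, hφ1 w hwU]
    rw [map_add, LinearMap.add_apply, hσ w hwU, h22] at h1
    have h3 := congrArg G h1
    rw [map_add, map_add, hGG', map_zero, map_smul, two_smul] at h3
    have h4 := ker_sq hGss (T := G + 1) (add_mem hGA (one_mem _)) (x := w) (by
      simp only [LinearMap.add_apply, Module.End.one_apply, map_add]
      linear_combination (norm := abel) h3)
    simp only [LinearMap.add_apply, Module.End.one_apply] at h4
    have hGw : G w = -w := eq_neg_of_add_eq_zero_left h4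
    have hpw : ∀ j : ℕ, (G ^ j) w = (-1 : F) ^ j • w := fun j => by
      induction j with
      | zero => simp
      | succ j ih => rw [pow_succ', Module.End.mul_apply, ih, map_smul, hGw, pow_succ, mul_smul,
          neg_one_smul]
    have h5 := hpw r
    rw [hGr, hr.neg_one_pow, neg_one_smul, Module.End.one_apply] at h5
    have h6 : (2 : F) • w = 0 := by rw [two_smul]; nth_rewrite 1 [h5]; exact neg_add_cancel _
    exact hw (by rw [(smul_eq_zero.1 h6).resolve_left h2, QuadraticMap.map_zero])
  have h2K : (2 : K) ≠ 0 := fun e => h2 ((algebraMap F K).injective (by rw [map_ofNat, e, map_zero]))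
  obtain ⟨n, hn⟩ : ∃ n : K, ¬ IsSquare (Algebra.norm F n) := by
    obtain ⟨c, hc⟩ := FiniteField.exists_nonsquare (ringChar_ne_two h2)
    obtain ⟨n, hn⟩ := FiniteField.norm_surjective F K c
    exact ⟨n, hn ▸ hc⟩
  have hn0 : n ≠ 0 := fun e => hn (by rw [e, Algebra.norm_zero]; exact IsSquare.zero)
  obtain ⟨α, β, hαβ⟩ : ∃ α β : K, α ^ 2 + α * β * σ + β ^ 2 = n := by
    have he : (4 - σ ^ 2) / 4 ≠ 0 := div_ne_zero
      (by rw [show 4 - σ ^ 2 = -((σ - 2) * (σ + 2)) by ring]; exact neg_ne_zero.2 (mul_ne_zero hσ2 hσn))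
      (by rw [show (4 : K) = 2 * 2 by norm_num]; exact mul_ne_zero h2K h2K)
    obtain ⟨a, b, e⟩ := FiniteFormClass.exists_sq_add h2K one_ne_zero he n
    have h4 : (4 : K) ≠ 0 := by rw [show (4 : K) = 2 * 2 by norm_num]; exact mul_ne_zero h2K h2K
    refine ⟨a - b * σ / 2, b, ?_⟩
    obtain ⟨t, ht⟩ : ∃ t : K, 2 * t = 1 := ⟨2⁻¹, mul_inv_cancel₀ h2K⟩
    rw [← e, show (4 - σ ^ 2) / 4 = (4 - σ ^ 2) * t * t by
        rw [div_eq_iff h4]; linear_combination (-(4 - σ ^ 2) * (2 * t + 1)) * ht,
      show b * σ / 2 = b * σ * t by rw [div_eq_iff h2K]; linear_combination (-(b * σ)) * ht]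
    linear_combination (-(a * b * σ) + b ^ 2 * σ ^ 2 * t - b ^ 2 * (2 * t + 1)) * ht
  -- the two lines
  set ℓ : K →ₗ[F] F := ((polarBilin Q).flip w).comp (φ.flip w) with hℓdef
  have hℓ : ∀ z, ℓ z = polar Q (φ z w) w := fun z => rfl
  have hℓnd : ∀ z, z ≠ 0 → ∃ z', ℓ (z * z') ≠ 0 := fun z hz => ⟨z⁻¹, by
    rw [mul_inv_cancel₀ hz, hℓ, hφ1 w hwU, polar_self_mul]
    exact mul_ne_zero h2 hw⟩
  set w' := φ α w + G (φ β w) with hw'
  have hw'U : w' ∈ U := U.add_mem (hφU _ _) (by
    rw [hU, LinearMap.mem_ker, hTdef, hGp, show aeval S f (φ β w) = 0 from hφU β w, map_zero])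
  have hhalf : ∀ z, polar Q (φ z w) (G w) = (2 : F)⁻¹ * ℓ (z * σ) := fun z => by
    have e1 : polar Q (φ z w) (G w) = polar Q (φ z w) (G' w) := by
      rw [hadj, hφG z w hwU, polar_comm, hadjG]
    have e2 : ℓ (z * σ) = polar Q (φ z w) (G w) + polar Q (φ z w) (G' w) := by
      rw [hℓ, hmul, hσ w hwU, hadj, polar_add_left, polar_comm Q (G w), polar_comm Q (G' w)]
    rw [e2, ← e1, ← two_mul, inv_mul_cancel_left₀ h2]
  have hφw' : ∀ z, φ z w' = φ (z * α) w + G (φ (z * β) w) := fun z => by
    rw [hw', map_add, hφG z _ (hφU _ _), ← hmul, ← hmul]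
  have hpair : ∀ a b, polar Q (φ a w) (φ b w) = ℓ (a * b) := fun a b =>
    (polar_line φ hmul hadj a b w).trans (hℓ _).symm
  have hpairG : ∀ a b, polar Q (φ a w) (G (φ b w)) = (2 : F)⁻¹ * ℓ (a * b * σ) := fun a b => by
    rw [← hφG b w hwU, ← hadj, ← hmul, hhalf, mul_comm b a]
  have hℓ' : ∀ z, (ℓ.comp (LinearMap.mulLeft F n)) z = polar Q (φ z w') w' := fun z => by
    rw [hφw', hw', polar_add_left, polar_add_right, polar_add_right, hpair, hpairG, hBG, hpair,
      polar_comm Q (G _) (φ α w), hpairG]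
    show ℓ (n * z) = _
    rw [show n * z = z * α * α + (z * α * β * σ) + z * β * β by rw [← hαβ]; ring, map_add, map_add,
      show α * (z * β) * σ = z * α * β * σ by ring]
    field_simp
    ring
  have hℓ'nd : ∀ z, z ≠ 0 → ∃ z', (ℓ.comp (LinearMap.mulLeft F n)) (z * z') ≠ 0 := fun z hz => by
    obtain ⟨z', hz'⟩ := hℓnd (n * z) (mul_ne_zero hn0 hz)
    exact ⟨z', by show ℓ (n * (z * z')) ≠ 0; rwa [← mul_assoc]⟩
  obtain ⟨vs, c, hlen, hns, hdet, hrefl⟩ := line_refl φ hmul hadj h2 w ℓ hℓ hℓnd
  obtain ⟨vs', c', hlen', hns', hdet', hrefl'⟩ :=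
    line_refl φ hmul hadj h2 w' (ℓ.comp (LinearMap.mulLeft F n)) hℓ' hℓ'nd
  have hnsa : NS Q (vs' ++ vs) := fun v hv => (List.mem_append.1 hv).elim (hns' v) (hns v)
  refine ⟨rprod Q (vs' ++ vs), ?_, ?_, ?_⟩
  · rw [detHom_rprod hnsa, List.length_append, hlen, hlen', ← two_mul, pow_mul, neg_one_sq, one_pow]
  · rw [rprod_mem_iff hQ hexc hnsa, List.map_append, List.prod_append]
    rintro ⟨-, hsq⟩
    set β₁ : LinearMap.BilinForm F K := (LinearMap.mul F K).compr₂ ℓ
    have e : ((LinearMap.mul F K).compr₂ (ℓ.comp (LinearMap.mulLeft F n)) : LinearMap.BilinForm F K)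
        = β₁.compLeft (LinearMap.mulLeft F n) := LinearMap.ext₂ fun a b => by
      show ℓ (n * (a * b)) = ℓ (n * a * b)
      rw [mul_assoc]
    obtain ⟨t, ht, hcc⟩ := FiniteFormClass.det_congr (β₁.compLeft (LinearMap.mulLeft F n)) c c'
    have hA : (LinearMap.BilinForm.toMatrix c (β₁.compLeft (LinearMap.mulLeft F n))).det =
        Algebra.norm F n * (2 ^ finrank F K * (vs.map Q).prod) := by
      rw [LinearMap.BilinForm.toMatrix_compLeft, Matrix.det_mul, Matrix.det_transpose,
        LinearMap.det_toMatrix, hdet, show LinearMap.det (LinearMap.mulLeft F n) =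
          Algebra.norm F n from (Algebra.norm_apply F n).symm]
    rw [hA, ← e, hdet'] at hcc
    have hd : (2 : F) ^ finrank F K ≠ 0 := pow_ne_zero _ h2
    have hP : (vs'.map Q).prod = t ^ 2 * Algebra.norm F n * (vs.map Q).prod :=
      mul_left_cancel₀ hd (hcc.trans (by ring))
    obtain ⟨u, hu⟩ := hsq
    rw [hP] at hu
    have hPne : (vs.map Q).prod ≠ 0 := List.prod_ne_zero (by
      intro h
      obtain ⟨v, hv, hv'⟩ := List.mem_map.1 h
      exact hns v hv hv')
    exact hn ⟨u / (t * (vs.map Q).prod), by field_simp; linear_combination hu⟩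
  · -- commutation
    have hfun : ∀ x, ∃ a, ∀ z, ℓ (z * a) = polar Q (φ z w) x := by
      intro x
      let Φ : K →ₗ[F] (K →ₗ[F] F) :=
        { toFun := fun a => ℓ.comp (LinearMap.mulRight F a)
          map_add' := fun a b => by ext c; simp [mul_add]
          map_smul' := fun s a => by ext c; simp [mul_smul_comm] }
      have hinj : Function.Injective Φ := fun a b h => by
        by_contra hne
        obtain ⟨z', hz'⟩ := hℓnd _ (sub_ne_zero.2 hne)
        exact hz' (by rw [mul_comm, mul_sub, map_sub]; exact sub_eq_zero.2 (LinearMap.congr_fun h z'))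
      obtain ⟨a, ha⟩ := (LinearMap.injective_iff_surjective_of_finrank_eq_finrank
        (by rw [Module.finrank_linearMap, finrank_self, mul_one])).1 hinj
        (((polarBilin Q).flip x).comp (φ.flip w))
      exact ⟨a, fun z => LinearMap.congr_fun ha z⟩
    intro x
    obtain ⟨a, ha⟩ := hfun x
    obtain ⟨b, hb'⟩ := hfun (G' x)
    have hb : ∀ z, ℓ (z * b) = polar Q (G (φ z w)) x := fun z => by rw [hb', hadjG]
    have ha' : ∀ z, ℓ (z * (σ * a - b)) = polar Q (φ z w) (G x) := fun z => by
      have hG'U : G' w ∈ U := by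
        have h := U.sub_mem (hφU σ w) (show G w ∈ U by
          rw [hU, LinearMap.mem_ker, hTdef, hGp, show aeval S f w = 0 from hwU, map_zero])
        rwa [hσ w hwU, add_sub_cancel_left] at h
      rw [mul_sub, map_sub, ← mul_assoc, ha, hb, hmul, hσ w hwU, map_add, polar_add_left,
        hφG z w hwU, add_sub_cancel_left, ← hBG, ← hφG z (G' w) hG'U, hGG']
    have hb2 : ∀ z, ℓ (z * a) = polar Q (G (φ z w)) (G x) := fun z => by rw [hBG, ha]
    have key : ∀ y p q, (∀ z, ℓ (z * p) = polar Q (φ z w) y) → (∀ z, ℓ (z * q) = polar Q (G (φ z w)) y) →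
        (rprod Q (vs' ++ vs)).1 y = y - (2 : F) • φ p w -
          (2 : F) • φ ((-(α * p) + β * q - β * σ * p) / n) w' := by
      intro y p q hp hq
      rw [rprod_append, orth_mul_apply, hrefl y p hp, hrefl' _ ((-(α * p) + β * q - β * σ * p) / n) ?_]
      intro z
      rw [hφw', polar_sub_right, polar_add_left, polar_smul_right, polar_add_left, ← hp, ← hq, hpair,
        polar_comm Q (G (φ (z * β) w)) (φ p w), hpairG, smul_eq_mul]
      show ℓ (n * (z * _)) = _
      rw [show n * (z * ((-(α * p) + β * q - β * σ * p) / n)) =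
          z * α * p + z * β * q - (z * α * p + z * α * p) - z * β * p * σ by
            rw [mul_left_comm, mul_div_cancel₀ _ hn0]; ring,
        map_sub, map_sub, map_add, map_add, show p * (z * β) * σ = z * β * p * σ by ring]
      field_simp
      ring
    rw [show g.1 x = G x from rfl, key (G x) _ a ha' hb2, key x a b ha hb]
    show _ = G _
    have hG2 : ∀ z, G (G (φ z w)) = G (φ (σ * z) w) - φ z w := fun z => by
      rw [hmul, hσ _ (hφU z w), map_add, hGG', add_sub_cancel_right]
    set A1 := (-(α * (σ * a - b)) + β * a - β * σ * (σ * a - b)) / n with hA1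
    set A2 := (-(α * a) + β * b - β * σ * a) / n with hA2
    have hA1n : A1 * n = -(α * (σ * a - b)) + β * a - β * σ * (σ * a - b) := div_mul_cancel₀ _ hn0
    have hA2n : A2 * n = -(α * a) + β * b - β * σ * a := div_mul_cancel₀ _ hn0
    have e1 : (σ * a - b) + A1 * α = -(A2 * β) := by
      refine mul_right_cancel₀ hn0 ?_
      rw [add_mul, mul_right_comm A1, hA1n, neg_mul, mul_right_comm A2, hA2n, ← hαβ]
      ring
    have e2 : A1 * β = a + A2 * α + σ * (A2 * β) := by
      refine mul_right_cancel₀ hn0 ?_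
      rw [add_mul, add_mul, mul_right_comm A1, hA1n, mul_right_comm A2, hA2n, mul_assoc σ,
        mul_right_comm A2 β, hA2n, ← hαβ]
      ring
    have f1 : φ (σ * a - b) w + φ (A1 * α) w = -φ (A2 * β) w := by
      rw [← LinearMap.add_apply, ← map_add, e1, map_neg]; rfl
    rw [hφw', hφw', e2]
    simp only [map_sub, map_add, map_smul, LinearMap.add_apply, hG2, smul_add, smul_sub] at f1 ⊢
    linear_combination (norm := module) (-2 : F) • f1

end Cfsg.Agent.OrthSemisimpleSpinor
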