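import Mathlib
import Cfsg.Prelude.Def_LieTypeDatum
import Cfsg.Agent.Lib.OrthUnitarySimilar
import Cfsg.Agent.Lib.OrthSemisimpleSpinor
import Cfsg.Agent.Lib.OrthSemisimpleMult

/-!
Fusion of semisimple automorphisms of odd prime order of even-dimensional orthogonal groups.
-/

set_option autoImplicit false
set_option linter.unusedSectionVars false

namespace Cfsg.Agent.OrthSemisimpleFusion

open QuadraticMap
open scoped Matrix MatrixGroups
open Cfsg.Agent.OrthUnitaryQuad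
open Cfsg.Agent.OrthUnitaryRefl
open Cfsg.Agent.OrthUnitaryOmega
open Cfsg.Agent.OrthUnitaryPrelude
open Cfsg.Agent.OrthUnitarySimAut
open Cfsg.Agent.OrthUnitarySimilar

variable {ι : Type} [Fintype ι] [DecidableEq ι] {F : Type*} [Field F] [Fintype F]
  {Q : QuadraticForm F (ι → F)} {M : ℕ} (h : Good Q M)

include h

/-- An automorphism of odd prime order induced by a similarity comes from an isometry of that order. -/
theorem exists_lift {x : MulAut (POmega F ⇑Q)} (hx : x ∈ pgoAut F ⇑Q) {r : ℕ} (hr : r.Prime)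
    (hro : Odd r) (hxr : orderOf x = r) :
    ∃ g : orth Q, g ^ r = 1 ∧ g ≠ 1 ∧ conjP Q (ofOrth g) = x := by
  rw [pgoAut_eq] at hx
  obtain ⟨G, -, rfl⟩ := hx
  have hker : ∀ z, z ∈ scalarSim Q → conjP Q z = 1 := fun z hz =>
    MonoidHom.mem_ker.1 (scalarSim_le_ker Q hz)
  obtain ⟨l, hl, hl0⟩ : ∃ l : F, ((G ^ r : Sim Q) : GL ι F).1 = l • (1 : Matrix ι ι F) ∧ l ≠ 0 := by
    rw [← mem_scalarSim, ← ker_conjP Q h.nd h.five, MonoidHom.mem_ker, map_pow, ← hxr, pow_orderOf_eq_one]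
  obtain ⟨e, he⟩ := hro
  set L := Units.mk0 l hl0
  have hGr : G ^ r = scalarOf Q L :=
    Subtype.ext (Units.ext (hl.trans (scalarOf_coe (Q := Q) L).symm))
  have hμ : mult h G ^ r = L * L := by rw [← map_pow, hGr, mult_scalarOf]
  set ν := L / mult h G ^ e with hν
  have hνν : mult h G = ν * ν := by
    rw [hν, div_mul_div_comm, ← hμ, ← pow_add, he, show e + e = 2 * e by ring, pow_succ,
      mul_div_cancel_left]
  set G1 := G * (scalarOf Q ν)⁻¹ with hG1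
  obtain ⟨k, hk⟩ : ∃ k, G1 = ofOrth k := exists_ofOrth h (by
    rw [hG1, map_mul, map_inv, mult_scalarOf, hνν, mul_inv_cancel])
  have hconj : conjP Q (ofOrth k) = conjP Q G := by
    rw [← hk, hG1, map_mul, map_inv, hker _ (scalarOf_mem ν), inv_one, mul_one]
  have hn0 : ∀ g : orth Q, conjP Q (ofOrth g) = conjP Q G → g ≠ 1 := fun g hg e1 => by
    subst e1
    have h1 : ofOrth (1 : orth Q) = 1 := Subtype.ext (by simp [ofOrth])
    rw [h1, map_one] at hg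
    rw [← hg, orderOf_one] at hxr
    exact hr.one_lt.ne hxr
  have hpow : ∀ (g : orth Q) (j : ℕ), ofOrth (g ^ j) = ofOrth g ^ j := fun g j => by
    induction j with
    | zero => exact Subtype.ext (by simp [ofOrth])
    | succ j ih => rw [pow_succ, ofOrth_mul, ih, pow_succ]
  obtain ⟨z, hz, hz0⟩ : ∃ z : F, (ofOrth (k ^ r) : GL ι F).1 = z • (1 : Matrix ι ι F) ∧ z ≠ 0 := by
    rw [← mem_scalarSim, ← ker_conjP Q h.nd h.five, MonoidHom.mem_ker, hpow, map_pow, hconj, ← hxr,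
      pow_orderOf_eq_one]
  have hkv : ∀ v, (k ^ r).1 v = z • v := fun v => by
    rw [← ofOrth_mulVec, hz, Matrix.smul_mulVec, Matrix.one_mulVec]
  have hzz : z * z = 1 := by
    obtain ⟨v, hv⟩ := h.exists_ne_zero
    have e := (k ^ r).2 v
    rw [hkv, QuadraticMap.map_smul, smul_eq_mul] at e
    exact (mul_eq_right₀ hv).1 e
  rcases mul_self_eq_mul_self_iff.1 (hzz.trans (one_mul 1).symm) with hz1 | hz1
  · exact ⟨k, orth_ext fun v => by rw [hkv, hz1, one_smul]; rfl, hn0 k hconj, hconj⟩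
  · -- absorb the sign
    obtain ⟨n, hn⟩ : ∃ n : orth Q, ∀ v, n.1 v = -v :=
      ⟨⟨LinearEquiv.neg F, fun v => QuadraticMap.map_neg Q v⟩, fun v => rfl⟩
    have hc : Commute k n := orth_ext fun v => by
      rw [orth_mul_apply, orth_mul_apply, hn, hn, map_neg]
    have hnpow : ∀ j : ℕ, ∀ v, (n ^ j).1 v = (-1 : F) ^ j • v := by
      intro j
      induction j with
      | zero => intro v; simp
      | succ j ih => intro v; rw [pow_succ', orth_mul_apply, ih, hn, pow_succ, mul_neg_one, neg_smul]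
    refine ⟨k * n, orth_ext fun v => ?_, ?_, ?_⟩
    · rw [hc.mul_pow, orth_mul_apply, hnpow, hkv, hz1, smul_smul, Odd.neg_one_pow ⟨e, he⟩]
      norm_num
    all_goals
      have hcn : conjP Q (ofOrth (k * n)) = conjP Q G := by
        rw [ofOrth_mul, map_mul, hker (ofOrth n) ((mem_scalarSim Q).2 ⟨-1,
          Matrix.ext_iff_mulVec.2 fun v => by
            rw [ofOrth_mulVec, hn, Matrix.smul_mulVec, Matrix.one_mulVec, neg_one_smul],
          neg_ne_zero.2 one_ne_zero⟩), mul_one, hconj]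
    · exact hn0 _ hcn
    · exact hcn

/-- The similarities centralising a semisimple automorphism cover the outer parts. -/
theorem cover {g : orth Q} {r : ℕ} (hro : Odd r) (hrF : (r : F) ≠ 0) (hgr : g ^ r = 1) (hg : g ≠ 1) :
    (∀ t ∈ S1 h, ∃ i ∈ innSim Q, ∃ z : Sim Q, z * ofOrth g = ofOrth g * z ∧ t = i * z) ∧
    (∀ t : Sim Q, ∃ o : Sim Q, ((o : GL ι F) ∈ isometryGroup F ⇑Q) ∧ ∃ z : Sim Q,
      conjP Q z * conjP Q (ofOrth g) = conjP Q (ofOrth g) * conjP Q z ∧ conjP Q t = conjP Q o * conjP Q z) := by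
  have hexc : Fintype.card F ≠ 2 ∨ Module.finrank F (ι → F) ≠ 4 := h.exc
  obtain ⟨k, hkdet, hk, hkg⟩ :=
    OrthSemisimpleSpinor.exists_spinor h.two h.nd hexc g hro hrF hgr hg
  obtain ⟨c, hc⟩ := FiniteField.exists_nonsquare (ringChar_ne_two h.two)
  have hc0 : c ≠ 0 := fun e => hc (e ▸ IsSquare.zero)
  obtain ⟨s, hsg, hsQ, hsdet⟩ := OrthSemisimpleMult.exists_mult h.two h.nd
    (show Module.finrank F (ι → F) = 2 * M by rw [Module.finrank_pi, h.card]) g hro hrF hgr hc0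
  set A := LinearMap.toMatrix' s
  have hAdet : A.det = c ^ M := by rw [LinearMap.det_toMatrix', hsdet]
  have hAv : ∀ v, A *ᵥ v = s v := fun v => LinearMap.toMatrix'_mulVec s v
  set S : Sim Q := ⟨Matrix.GeneralLinearGroup.mkOfDetNeZero A (by rw [hAdet]; exact pow_ne_zero _ hc0),
    Units.mk0 c hc0, fun v => by
      show Q (A *ᵥ v) = _
      rw [hAv, hsQ]; rfl⟩
  have hSm : mult h S = Units.mk0 c hc0 := mult_eq h fun v => by
    show Q (A *ᵥ v) = _
    rw [hAv, hsQ]; rfl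
  have hS1 : S ∈ S1 h := by
    rw [mem_S1, dHom_eq_one_iff, hSm]
    exact hAdet
  have hSg : S * ofOrth g = ofOrth g * S := Subtype.ext (Units.ext (Matrix.ext_iff_mulVec.2 fun v => by
    rw [Subgroup.coe_mul, Subgroup.coe_mul, Units.val_mul, Units.val_mul, ← Matrix.mulVec_mulVec,
      ← Matrix.mulVec_mulVec, ofOrth_mulVec, ofOrth_mulVec]
    show A *ᵥ (g.1 v) = g.1 (A *ᵥ v)
    rw [hAv, hAv, hsg]))
  have hKg : ofOrth k * ofOrth g = ofOrth g * ofOrth k := by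
    rw [← ofOrth_mul, ← ofOrth_mul, show k * g = g * k from orth_ext fun v => hkg v]
  have hKm : ofOrth k ∈ SOs Q := by
    rw [mem_SOs h, mult_ofOrth, dHom_ofOrth, hkdet]
    exact ⟨rfl, rfl⟩
  have hKnot : ofOrth k ∉ omegaSim Q := fun e => hk ((ofOrth_mem_omegaSim k).1 e)
  have key : ∀ t ∈ K h, ∃ i ∈ innSim Q, ∃ z : Sim Q, z * ofOrth g = ofOrth g * z ∧ t = i * z := by
    intro t ht
    by_cases hneg : NegMem Q
    swap
    · exact ⟨t, K_eq_innSim h hneg ▸ ht, 1, by simp, (mul_one t).symm⟩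
    have hKnot' : ofOrth k ∉ innSim Q := fun e => hKnot ((mem_innSim_iff_of_neg h hneg hKm).1 e)
    by_cases hti : t ∈ innSim Q
    · exact ⟨t, hti, 1, by simp, (mul_one t).symm⟩
    · refine ⟨t * (ofOrth k)⁻¹, ?_, ofOrth k, hKg, by simp⟩
      have hkk := mul_mem_innSim_of_K h hneg (SOs_le_K h hKm) (SOs_le_K h hKm) hKnot' hKnot'
      have htk := mul_mem_innSim_of_K h hneg ht (SOs_le_K h hKm) hti hKnot'
      have e : t * (ofOrth k)⁻¹ = t * ofOrth k * (ofOrth k * ofOrth k)⁻¹ := by group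
      rw [e]
      exact Subgroup.mul_mem _ htk (Subgroup.inv_mem _ hkk)
  refine ⟨fun t ht => ?_, fun t => ?_⟩
  · by_cases hsq : IsSquare (mult h t : F)
    · exact key t ((mem_K h).2 ⟨ht, hsq⟩)
    · obtain ⟨i, hi, z, hz, e⟩ := key (t * S⁻¹) ((mem_K h).2 ⟨Subgroup.mul_mem _ ht (Subgroup.inv_mem _ hS1), by
        rw [map_mul, map_inv, hSm, Units.val_mul, Units.val_inv_eq_inv_val, ← div_eq_mul_inv]
        exact isSquare_div_of_not hc hsq⟩)
      refine ⟨i, hi, z * S, ?_, by rw [← mul_assoc, ← e, inv_mul_cancel_right]⟩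
      rw [mul_assoc, hSg, ← mul_assoc, hz, mul_assoc]
  · have sq : ∀ t : Sim Q, IsSquare (mult h t : F) → ∃ o : Sim Q, (o : GL ι F) ∈ isometryGroup F ⇑Q ∧
        conjP Q t = conjP Q o := by
      intro t ht
      obtain ⟨a, ha⟩ := ht
      have ha0 : a ≠ 0 := fun e => (mult h t).ne_zero (by rw [ha, e, mul_zero])
      refine ⟨t * (scalarOf Q (Units.mk0 a ha0))⁻¹, (mult_eq_one_iff h _).1 ?_, ?_⟩
      · rw [map_mul, map_inv, mult_scalarOf, mul_inv_eq_one]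
        exact Units.ext ha
      · rw [map_mul, map_inv, MonoidHom.mem_ker.1 (scalarSim_le_ker Q (scalarOf_mem _)), inv_one, mul_one]
    by_cases hsq : IsSquare (mult h t : F)
    · obtain ⟨o, ho, e⟩ := sq t hsq
      exact ⟨o, ho, 1, by simp, by rw [e, map_one, mul_one]⟩
    · obtain ⟨o, ho, e⟩ := sq (t * S⁻¹) (by
        rw [map_mul, map_inv, hSm, Units.val_mul, Units.val_inv_eq_inv_val, ← div_eq_mul_inv]
        exact isSquare_div_of_not hc hsq)
      refine ⟨o, ho, S, by rw [← map_mul, ← map_mul, hSg], ?_⟩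
      rw [← e, ← map_mul, inv_mul_cancel_right]

omit h in
theorem conj_drop {G : Type*} [Group G] {x a b : G} (hb : b * x = x * b) :
    (a * b) * x * (a * b)⁻¹ = a * x * a⁻¹ := by
  rw [mul_inv_rev, mul_assoc a b, hb]; group

/-- The fusion statement. -/
theorem fusion (hchar : ∀ r : ℕ, (r.Prime ∧ Odd r ∧ r ≠ ringChar F) → (r : F) ≠ 0)
    (H : Subgroup (MulAut (POmega F ⇑Q))) (hH : H = (S1 h).map (conjP Q))
    {x : MulAut (POmega F ⇑Q)} (hx : x ∈ pgoAut F ⇑Q) {r : ℕ} (hr : r.Prime) (hro : Odd r)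
    (hrp : r ≠ ringChar F) (hxr : orderOf x = r) :
    (∀ y, (IsConjUnder (Inn (POmega F ⇑Q)) x y ↔ IsConjUnder H x y) ∧
      (IsConjUnder (psoAut F ⇑Q) x y ↔ IsConjUnder H x y)) ∧
    (∀ y, IsConjUnder (poAut F ⇑Q) x y ↔ IsConjUnder (pgoAut F ⇑Q) x y) := by
  obtain ⟨g, hgr, hg, hgx⟩ := exists_lift h hx hr hro hxr
  obtain ⟨c1, c2⟩ := cover h hro (hchar r ⟨hr, hro, hrp⟩) hgr hg
  have hinnH : Inn (POmega F ⇑Q) ≤ H := by
    rw [hH, inn_eq]
    exact Subgroup.map_mono ((omegaSim_le_SOs h).trans ((SOs_le_K h).trans (K_le_S1 h)))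
  have hpsoH : psoAut F ⇑Q ≤ H := by
    rw [hH, psoAut_eq]
    exact Subgroup.map_mono ((SOs_le_K h).trans (K_le_S1 h))
  have hinnpso : Inn (POmega F ⇑Q) ≤ psoAut F ⇑Q := by
    rw [psoAut_eq, inn_eq]
    exact Subgroup.map_mono (omegaSim_le_SOs h)
  have hback : ∀ y, IsConjUnder H x y → IsConjUnder (Inn (POmega F ⇑Q)) x y := by
    rintro y ⟨t, ht, rfl⟩
    rw [hH] at ht
    obtain ⟨t, ht, rfl⟩ := ht
    obtain ⟨i, hi, z, hz, rfl⟩ := c1 t ht
    refine ⟨conjP Q i, hi, ?_⟩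
    rw [map_mul, ← hgx, conj_drop (by rw [← map_mul, ← map_mul, hz])]
  refine ⟨fun y => ⟨⟨fun ⟨t, ht, e⟩ => ⟨t, hinnH ht, e⟩, hback y⟩,
    ⟨fun ⟨t, ht, e⟩ => ⟨t, hpsoH ht, e⟩, fun hy => ?_⟩⟩, fun y => ⟨?_, ?_⟩⟩
  · obtain ⟨t, ht, e⟩ := hback y hy
    exact ⟨t, hinnpso ht, e⟩
  · rintro ⟨t, ht, e⟩
    refine ⟨t, ?_, e⟩
    rw [pgoAut_eq]; rw [poAut_eq] at ht
    exact Subgroup.map_mono le_top ht
  · rintro ⟨t, ht, rfl⟩
    rw [pgoAut_eq] at ht
    obtain ⟨t, -, rfl⟩ := ht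
    obtain ⟨o, ho, z, hz, e⟩ := c2 t
    refine ⟨conjP Q o, by rw [poAut_eq]; exact ⟨o, ho, rfl⟩, ?_⟩
    rw [e, ← hgx, conj_drop hz]

omit h in
/-- The same, read at an equal function. -/
theorem fusion' (hG : Good Q M) (R : ((ι → F) → F) → GL ι F → Prop)
    (hR : ∀ g : Sim Q, R (⇑Q) (g : GL ι F) ↔ g ∈ S1 hG)
    (f : (ι → F) → F) (hf : ⇑Q = f) (S : Subgroup (MulAut (POmega F f)))
    (hS : S = autSubgroupOf fun β => ∃ g : GL ι F, g ∈ Geo.quadSimilarityGroup (F := F) f ∧ R f g ∧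
      IsInducedBySemilinearPOmega f g (RingEquiv.refl F) β)
    {p : ℕ} [Fact p.Prime] [CharP F p]
    (x : MulAut (POmega F f)) (hx : x ∈ pgoAut F f) {r : ℕ} (hr : r.Prime) (hro : Odd r) (hrp : r ≠ p)
    (hxr : orderOf x = r) :
    (∀ y, (IsConjUnder (Inn (POmega F f)) x y ↔ IsConjUnder S x y) ∧
      (IsConjUnder (psoAut F f) x y ↔ IsConjUnder S x y)) ∧
    (∀ y, IsConjUnder (poAut F f) x y ↔ IsConjUnder (pgoAut F f) x y) := by
  subst hf
  have hp : ringChar F = p := ringChar.eq F p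
  refine fusion hG (fun r' hr' e => hr'.2.2 ?_) S ?_ hx hr hro (by rw [hp]; exact hrp) hxr
  · rw [hp]
    exact ((Nat.prime_dvd_prime_iff_eq Fact.out hr'.1).1 ((CharP.cast_eq_zero_iff F p r').1 e)).symm
  · rw [hS]
    refine autSubgroupOf_eq Q _ (S1 hG) fun β => ⟨?_, ?_⟩
    · rintro ⟨g, hg, hr, hi⟩
      exact ⟨⟨g, hg⟩, (hR ⟨g, hg⟩).1 hr, (induced_iff Q g hg β).1 hi⟩
    · rintro ⟨g, hg, rfl⟩
      exact ⟨g.1, g.2, (hR g).2 hg, (induced_iff Q g.1 g.2 _).2 rfl⟩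

end Cfsg.Agent.OrthSemisimpleFusion
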