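import Cfsg.Agent.Lib.OrthStemLifts
import Mathlib

/-!
The commutator of lifts of `S u z` and `S w z'` depends only on the pair and on the pairing of `z` and
`z'`; this gives a canonical lift of every root element.
-/

set_option autoImplicit false

namespace Cfsg.Agent.OrthStemCanon

open QuadraticMap
open Cfsg.Agent.OrthUnitaryQuad Cfsg.Agent.OrthUnitaryRefl Cfsg.Agent.OrthUnitaryOmega
open Cfsg.Agent.OrthStemGeom Cfsg.Agent.OrthStemLifts
open scoped commutatorElement

universe uF uV uD

variable {F : Type uF} {V : Type uV} [Field F] [Fintype F] [AddCommGroup V] [Module F V]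
  [FiniteDimensional F V] {Q : QuadraticForm F V} {Δ : Type uD} [Group Δ] (E : Ext Q Δ)

/-- The commutator of lifts. -/
noncomputable def br (u w z z' : V) : Δ := ⁅L E u z, L E w z'⁆

variable {u w : V} (h : Pair Q u w)

include h in
theorem br_image {z z' : V} (h1 : polar Q u z = 0) (h2 : polar Q w z = 0) (h3 : polar Q u z' = 0)
    (h4 : polar Q w z' = 0) : E.τ (br E u w z z') = S Q u (polar Q z z' • w) := by
  rw [br, map_commutatorElement, L_spec, L_spec, S_bracket h.hu h.hw h.huw h1 h2 h3 h4]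

omit [Fintype F] [FiniteDimensional F V] in
theorem Pair.smul {u w : V} (h : Pair Q u w) {s : F} (hs : s ≠ 0) : Pair Q u (s • w) :=
  ⟨h.hu, by rw [QuadraticMap.map_smul, h.hw, smul_zero], by rw [polar_smul_right, h.huw, smul_zero],
    fun α β e => by
      obtain ⟨ha, hb⟩ := h.ind α (β * s) (by rw [mul_smul]; exact e)
      exact ⟨ha, (mul_eq_zero.1 hb).resolve_right hs⟩⟩

include h in
theorem root_comm_left {s : F} {δ : Δ} (hδ : E.τ δ = S Q u (s • w)) {z : V} (h1 : polar Q u z = 0)
    (h2 : polar Q w z = 0) : Commute δ (L E u z) := by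
  by_cases hs : s = 0
  · subst hs
    rw [zero_smul, S_zero] at hδ
    exact commute_congr E (a' := 1) (by rw [hδ, map_one]) rfl (Commute.one_left _)
  · exact commute_congr E (by rw [hδ, L_spec]) rfl
      (comm_left E (Pair.smul h hs) h1 (by rw [polar_smul_left, h2, smul_zero]))

include h in
theorem root_comm_right {s : F} {δ : Δ} (hδ : E.τ δ = S Q u (s • w)) {z : V} (h1 : polar Q u z = 0)
    (h2 : polar Q w z = 0) : Commute δ (L E w z) := by
  by_cases hs : s = 0
  · subst hs
    rw [zero_smul, S_zero] at hδ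
    exact commute_congr E (a' := 1) (by rw [hδ, map_one]) rfl (Commute.one_left _)
  · have h5 := comm_right E (Pair.smul h hs) (z := s⁻¹ • z) (by rw [polar_smul_right, h1, smul_zero])
      (by rw [polar_smul_left, polar_smul_right, h2, smul_zero, smul_zero])
    refine commute_congr E (by rw [hδ, L_spec]) ?_ h5
    rw [L_spec, L_spec, S_smul h.hw (by rw [polar_smul_right, h2, smul_zero]), smul_smul,
      mul_inv_cancel₀ hs, one_smul]

include h in
theorem root_comm_root {s t : F} {δ δ' : Δ} (hδ : E.τ δ = S Q u (s • w))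
    (hδ' : E.τ δ' = S Q u (t • w)) : Commute δ δ' := by
  obtain ⟨u', w', W, hf⟩ := exists_frame' h E.nd
  obtain ⟨a, ha, hQa, ha0⟩ := hf.singular E
  obtain ⟨a', ha', -, haa⟩ := hf.nd.exists_partner ha ha0 hQa
  obtain ⟨p1, p2, -, -⟩ := hf.perp a ha
  obtain ⟨p3, p4, -, -⟩ := hf.perp (t • a') (W.smul_mem _ ha')
  have q : ∀ c : F, polar Q u (c • w) = 0 := fun c => by rw [polar_smul_right, h.huw, smul_zero]
  refine commute_bracket E (a := L E u a) (b := L E w (t • a')) ?_ ?_ ?_
  · rw [hδ, L_spec]; exact S_commute_same h.hu (q s) p1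
  · rw [hδ, L_spec, ← S_smul h.hu h.huw, S_symm h.hw (by rw [QuadraticMap.map_smul, h.hu, smul_zero])
      (by rw [polar_comm, polar_smul_left, h.huw, smul_zero])]
    exact S_commute_same h.hw (by rw [polar_neg_right, polar_smul_right, polar_comm, h.huw, smul_zero,
      neg_zero]) p4
  · rw [hδ', L_spec, L_spec, S_bracket h.hu h.hw h.huw p1 p2 p3 p4, polar_smul_right, haa,
      smul_eq_mul, mul_one]

include h in
theorem br_add_left {z z₁ z' : V} (h1 : polar Q u z = 0) (h2 : polar Q w z = 0) (h3 : polar Q u z₁ = 0)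
    (h4 : polar Q w z₁ = 0) (h5 : polar Q u z' = 0) (h6 : polar Q w z' = 0) :
    br E u w (z + z₁) z' = br E u w z z' * br E u w z₁ z' := by
  have e : br E u w (z + z₁) z' = ⁅L E u z * L E u z₁, L E w z'⁆ :=
    br_congr E (by rw [map_mul, L_spec, L_spec, L_spec, S_mul h.hu h1 h3]) rfl
  have e2 : ⁅L E u z * L E u z₁, L E w z'⁆ =
      L E u z * br E u w z₁ z' * (L E u z)⁻¹ * br E u w z z' := by
    simp only [br, commutatorElement_def]; group
  rw [e, e2, (root_comm_left E h (br_image E h h3 h4 h5 h6) h1 h2).symm.eq, mul_inv_cancel_right,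
    (root_comm_root E h (br_image E h h3 h4 h5 h6) (br_image E h h1 h2 h5 h6)).eq]

include h in
theorem br_add_right {z z' z₁ : V} (h1 : polar Q u z = 0) (h2 : polar Q w z = 0) (h3 : polar Q u z' = 0)
    (h4 : polar Q w z' = 0) (h5 : polar Q u z₁ = 0) (h6 : polar Q w z₁ = 0) :
    br E u w z (z' + z₁) = br E u w z z' * br E u w z z₁ := by
  have e : br E u w z (z' + z₁) = ⁅L E u z, L E w z' * L E w z₁⁆ :=
    br_congr E rfl (by rw [map_mul, L_spec, L_spec, L_spec, S_mul h.hw h4 h6])
  have e2 : ⁅L E u z, L E w z' * L E w z₁⁆ =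
      br E u w z z' * (L E w z' * br E u w z z₁ * (L E w z')⁻¹) := by
    simp only [br, commutatorElement_def]; group
  rw [e, e2, (root_comm_right E h (br_image E h h1 h2 h5 h6) h3 h4).symm.eq, mul_inv_cancel_right]

theorem br_zero_left (u w z' : V) : br E u w 0 z' = 1 := by
  rw [br, commutatorElement_eq_one_iff_commute]
  exact (commute_one E (r := L E w z') (S_zero u)).symm

theorem br_zero_right (u w z : V) : br E u w z 0 = 1 := by
  rw [br, commutatorElement_eq_one_iff_commute]; exact commute_one E (S_zero w)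

variable {u' w' : V} {W : Submodule F V} (hf : Frame Q u w u' w' W)

include h hf in
theorem br_invariant {a b : V} (ha : a ∈ W) (hQa : Q a = 0) (hb : b ∈ W) (hab : polar Q a b = 0)
    {z z' : V} (hz : z ∈ W) (hz' : z' ∈ W) :
    br E u w ((S Q a b).1 z) ((S Q a b).1 z') = br E u w z z' := by
  by_cases ha0 : a = 0
  · subst ha0
    rw [S_zero_left]; rfl
  obtain ⟨pu, pw, pu', pw'⟩ := hf.perp a ha
  obtain ⟨qu, qw, -, -⟩ := hf.perp b hb
  obtain ⟨zu, zw, -, -⟩ := hf.perp z hz
  obtain ⟨zu', zw', -, -⟩ := hf.perp z' hz'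
  have hind : ∀ α β γ : F, α • u + β • w + γ • a = 0 → α = 0 ∧ β = 0 ∧ γ = 0 := by
    intro α β γ e
    have e1 : α = 0 := by
      simpa [polar_add_right, polar_smul_right, polar_comm Q u' u, hf.huu, polar_comm Q u' w, hf.hwu',
        pu'] using congrArg (polar Q u') e
    have e2 : β = 0 := by
      simpa [polar_add_right, polar_smul_right, polar_comm Q w' w, hf.hww, polar_comm Q w' u, hf.huw',
        pw'] using congrArg (polar Q w') e
    subst e1 e2
    simp only [zero_smul, zero_add, smul_eq_zero] at e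
    exact ⟨rfl, rfl, e.resolve_right ha0⟩
  have fu : (S Q a b).1 u = u := S_fix hQa hab (by rw [polar_comm, pu]) (by rw [polar_comm, qu])
  have fw : (S Q a b).1 w = w := S_fix hQa hab (by rw [polar_comm, pw]) (by rw [polar_comm, qw])
  have h1 : L E a b * br E u w z z' * (L E a b)⁻¹ = br E u w ((S Q a b).1 z) ((S Q a b).1 z') := by
    rw [br, conjugate_commutatorElement]
    refine br_congr E ?_ ?_ <;> rw [map_mul, map_mul, map_inv, L_spec, L_spec, L_spec, S_conj]
    · rw [fu]
    · rw [fw]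
  rw [← h1]
  have hc : Commute (L E a b) (br E u w z z') := by
    by_cases hs : polar Q z z' = 0
    · refine (commute_congr E (a' := 1) ?_ rfl (Commute.one_left _)).symm
      rw [br_image E h zu zw zu' zw', hs, zero_smul, S_zero, map_one]
    · refine (commute_congr E (by rw [br_image E h zu zw zu' zw', L_spec]) rfl
        (comm_disjoint E (Pair.smul h hs) hQa pu (by rw [polar_smul_left, pw, smul_zero])
          (fun α β γ e => ?_) qu (by rw [polar_smul_left, qw, smul_zero]) hab)).symm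
      obtain ⟨e1, e2, e3⟩ := hind α (β * polar Q z z') γ (by rw [mul_smul]; exact e)
      exact ⟨e1, (mul_eq_zero.1 e2).resolve_right hs, e3⟩
  rw [hc.eq, mul_inv_cancel_right]

include h hf in
theorem br_kill {c x : V} (hc : c ∈ W) (hQc : Q c = 0) (hx : x ∈ W) (hcx : polar Q c x = 0) :
    br E u w c x = 1 ∧ br E u w x c = 1 := by
  by_cases hc0 : c = 0
  · subst hc0; exact ⟨br_zero_left E _ _ _, br_zero_right E _ _ _⟩
  obtain ⟨c', hc', hQc', hcc⟩ := hf.nd.exists_partner hc hc0 hQc
  have hd := finrank_split hc hc' hQc hQc' hcc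
  have := hf.dim E
  have hne : split Q W c c' ≠ ⊥ := fun e => by rw [e, finrank_bot] at hd; omega
  obtain ⟨b, hb, hb0⟩ := Submodule.exists_mem_ne_zero_of_ne_bot hne
  obtain ⟨z, hz, hbz⟩ := (Nd.split hc hc' hQc hQc' hcc hf.nd).exists_ne hb hb0
  obtain ⟨hbW, hcb, -⟩ := mem_split.1 hb
  obtain ⟨hzW, hcz, -⟩ := mem_split.1 hz
  have hp : ∀ v ∈ W, polar Q u v = 0 ∧ polar Q w v = 0 := fun v hv => ⟨(hf.perp v hv).1, (hf.perp v hv).2.1⟩
  have hself : polar Q c c = 0 := by rw [polar_self_mul, hQc, mul_zero]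
  -- multiples of `c` itself
  have k1 : ∀ t : F, br E u w c (t • c) = 1 ∧ br E u w (t • c) c = 1 := by
    intro t
    have hcb' : polar Q c ((-t) • b) = 0 := by rw [polar_smul_right, hcb, smul_zero]
    have e : (S Q c ((-t) • b)).1 z = z + t • c := by
      rw [S_apply hQc hcb', hcz, polar_smul_left, hbz]; module
    have e' : (S Q c ((-t) • b)).1 c = c :=
      S_fix hQc hcb' hself (by rw [polar_comm, hcb'])
    have i1 := br_invariant E h hf hc hQc (W.smul_mem _ hbW) hcb' hc hzW
    have i2 := br_invariant E h hf hc hQc (W.smul_mem _ hbW) hcb' hzW hc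
    rw [e, e', br_add_right E h (hp c hc).1 (hp c hc).2 (hp z hzW).1 (hp z hzW).2
      (hp _ (W.smul_mem _ hc)).1 (hp _ (W.smul_mem _ hc)).2] at i1
    rw [e, e', br_add_left E h (hp z hzW).1 (hp z hzW).2 (hp _ (W.smul_mem _ hc)).1
      (hp _ (W.smul_mem _ hc)).2 (hp c hc).1 (hp c hc).2] at i2
    exact ⟨mul_eq_left.1 i1, mul_eq_left.1 i2⟩
  have e : (S Q c x).1 c' = c' + (x + (-(polar Q x c' + Q x)) • c) := by
    rw [S_apply hQc hcx, hcc]; module
  have e' : (S Q c x).1 c = c := S_fix hQc hcx hself (by rw [polar_comm, hcx])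
  have m := W.add_mem hx (W.smul_mem (-(polar Q x c' + Q x)) hc)
  have i1 := br_invariant E h hf hc hQc hx hcx hc hc'
  have i2 := br_invariant E h hf hc hQc hx hcx hc' hc
  have m2 := W.smul_mem (-(polar Q x c' + Q x)) hc
  rw [e, e', br_add_right E h (hp c hc).1 (hp c hc).2 (hp c' hc').1 (hp c' hc').2 (hp _ m).1 (hp _ m).2,
    br_add_right E h (hp c hc).1 (hp c hc).2 (hp x hx).1 (hp x hx).2 (hp _ m2).1 (hp _ m2).2,
    (k1 _).1, mul_one] at i1
  rw [e, e', br_add_left E h (hp c' hc').1 (hp c' hc').2 (hp _ m).1 (hp _ m).2 (hp c hc).1 (hp c hc).2,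
    br_add_left E h (hp x hx).1 (hp x hx).2 (hp _ m2).1 (hp _ m2).2 (hp c hc).1 (hp c hc).2,
    (k1 _).2, mul_one] at i2
  exact ⟨mul_eq_left.1 i1, mul_eq_left.1 i2⟩

include h hf in
/-- The value on a pair orthogonal to a hyperbolic pair is read off on that pair. -/
theorem br_pair {e e' b c : V} (he : e ∈ W) (he' : e' ∈ W) (hQe : Q e = 0) (hQe' : Q e' = 0)
    (hee : polar Q e e' = 1) (hb : b ∈ split Q W e e') (hc : c ∈ split Q W e e') :
    br E u w b c = br E u w e' (polar Q b c • e) := by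
  obtain ⟨hbW, heb, he'b⟩ := mem_split.1 hb
  obtain ⟨hcW, hec, he'c⟩ := mem_split.1 hc
  have hp : ∀ v ∈ W, polar Q u v = 0 ∧ polar Q w v = 0 := fun v hv => ⟨(hf.perp v hv).1, (hf.perp v hv).2.1⟩
  have i := br_invariant E h hf he hQe hbW heb he' hcW
  have e1 : (S Q e b).1 e' = e' + (b + (-Q b) • e) := by
    rw [S_apply hQe heb, hee, polar_comm Q b e', he'b]; module
  have e2 : (S Q e b).1 c = c + (-polar Q b c) • e := by
    rw [S_apply hQe heb, hec]; module
  rw [e1, e2] at i
  have mb := W.smul_mem (-Q b) he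
  have mc := W.smul_mem (-polar Q b c) he
  have mbb := W.add_mem hbW mb
  have mcc := W.add_mem hcW mc
  have hee0 : polar Q e e = 0 := by rw [polar_self_mul, hQe, mul_zero]
  rw [br_add_left E h (hp e' he').1 (hp e' he').2 (hp _ mbb).1 (hp _ mbb).2 (hp _ mcc).1 (hp _ mcc).2,
    br_add_left E h (hp b hbW).1 (hp b hbW).2 (hp _ mb).1 (hp _ mb).2 (hp _ mcc).1 (hp _ mcc).2,
    br_add_right E h (hp e' he').1 (hp e' he').2 (hp c hcW).1 (hp c hcW).2 (hp _ mc).1 (hp _ mc).2,
    br_add_right E h (hp b hbW).1 (hp b hbW).2 (hp c hcW).1 (hp c hcW).2 (hp _ mc).1 (hp _ mc).2,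
    (br_kill E h hf mb (by rw [QuadraticMap.map_smul, hQe, smul_zero]) mcc
      (by rw [polar_smul_left, polar_add_right, polar_smul_right, hec, hee0]; simp)).1,
    (br_kill E h hf mc (by rw [QuadraticMap.map_smul, hQe, smul_zero]) hbW
      (by rw [polar_smul_left, heb, smul_zero])).2, mul_one, mul_one, mul_assoc] at i
  have i' : br E u w e' ((-polar Q b c) • e) * br E u w b c = 1 := mul_eq_left.1 i
  rw [eq_inv_of_mul_eq_one_right i']
  refine inv_eq_of_mul_eq_one_right ?_
  have mp := W.smul_mem (polar Q b c) he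
  rw [← br_add_right E h (hp e' he').1 (hp e' he').2 (hp _ mc).1 (hp _ mc).2 (hp _ mp).1 (hp _ mp).2,
    ← add_smul, neg_add_cancel, zero_smul, br_zero_right]

include h hf in
theorem exists_value : ∃ K : F → Δ, ∀ z z', z ∈ W → z' ∈ W → br E u w z z' = K (polar Q z z') := by
  obtain ⟨e, he, hQe, he0⟩ := hf.singular E
  obtain ⟨e', he', hQe', hee⟩ := hf.nd.exists_partner he he0 hQe
  refine ⟨fun s => br E u w e' (s • e), fun z z' hz hz' => ?_⟩
  show _ = br E u w e' (polar Q z z' • e)
  have hd := finrank_split he he' hQe hQe' hee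
  have hnd := Nd.split he he' hQe hQe' hee hf.nd
  have := hf.dim E
  have hne : split Q W e e' ≠ ⊥ := fun e'' => by rw [e'', finrank_bot] at hd; omega
  obtain ⟨b₀, hb₀, hb₀0⟩ := Submodule.exists_mem_ne_zero_of_ne_bot hne
  obtain ⟨c₀, hc₀, hbc⟩ := hnd.exists_ne hb₀ hb₀0
  have hee' : polar Q e' e = 1 := by rw [polar_comm, hee]
  have hself : polar Q e e = 0 := by rw [polar_self_mul, hQe, mul_zero]
  have hself' : polar Q e' e' = 0 := by rw [polar_self_mul, hQe', mul_zero]
  have hp : ∀ v ∈ W, polar Q u v = 0 ∧ polar Q w v = 0 := fun v hv => ⟨(hf.perp v hv).1, (hf.perp v hv).2.1⟩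
  have hw' : ∀ {f f' : V} {v : V}, v ∈ split Q W f f' → v ∈ W := fun hv => (mem_split.1 hv).1
  -- scaled and exchanged pairs give the same values
  have hscale : ∀ (r s : F), r ≠ 0 →
      br E u w (r • e') ((s * r⁻¹) • e) = br E u w e' (s • e) ∧
      br E u w (r • e) ((s * r⁻¹) • e') = br E u w e' (s • e) := by
    intro r s hr
    have hsc : s • c₀ ∈ split Q W e e' := (split Q W e e').smul_mem _ hc₀
    have base := br_pair E h hf he he' hQe hQe' hee hb₀ hsc
    rw [polar_smul_right, hbc, smul_eq_mul, mul_one] at base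
    have hmem : ∀ {p q : F} {v : V}, v ∈ split Q W e e' →
        v ∈ split Q W (p • e) (q • e') ∧ v ∈ split Q W (p • e') (q • e) := by
      intro p q v hv
      obtain ⟨h1, h2, h3⟩ := mem_split.1 hv
      exact ⟨mem_split.2 ⟨h1, by rw [polar_smul_left, h2, smul_zero], by rw [polar_smul_left, h3, smul_zero]⟩,
        mem_split.2 ⟨h1, by rw [polar_smul_left, h3, smul_zero], by rw [polar_smul_left, h2, smul_zero]⟩⟩
    have h1 : Q (r⁻¹ • e) = 0 := by rw [QuadraticMap.map_smul, hQe, smul_zero]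
    have h2 : Q (r • e') = 0 := by rw [QuadraticMap.map_smul, hQe', smul_zero]
    have h3 : Q (r⁻¹ • e') = 0 := by rw [QuadraticMap.map_smul, hQe', smul_zero]
    have h4 : Q (r • e) = 0 := by rw [QuadraticMap.map_smul, hQe, smul_zero]
    have A := br_pair E h hf (W.smul_mem _ he) (W.smul_mem _ he') h1 h2
      (by rw [polar_smul_left, polar_smul_right, hee]; simp [hr]) (hmem hb₀).1 (hmem hsc).1
    have B := br_pair E h hf (W.smul_mem _ he') (W.smul_mem _ he) h3 h4
      (by rw [polar_smul_left, polar_smul_right, hee']; simp [hr]) (hmem hb₀).2 (hmem hsc).2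
    rw [polar_smul_right, hbc, smul_eq_mul, mul_one, smul_smul, base] at A B
    exact ⟨A.symm, B.symm⟩
  obtain ⟨α, β, b, hb, rfl⟩ := exists_split_eq he he' hQe hQe' hee hz
  obtain ⟨γ, δ, c, hc, rfl⟩ := exists_split_eq he he' hQe hQe' hee hz'
  obtain ⟨hbW, heb, he'b⟩ := mem_split.1 hb
  obtain ⟨hcW, hec, he'c⟩ := mem_split.1 hc
  have mα := W.smul_mem α he; have mβ := W.smul_mem β he'
  have mγ := W.smul_mem γ he; have mδ := W.smul_mem δ he'
  have mz := W.add_mem mα mβ; have mz' := W.add_mem mγ mδ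
  have mall := W.add_mem mz' hcW
  have qe : ∀ t : F, Q (t • e) = 0 := fun t => by rw [QuadraticMap.map_smul, hQe, smul_zero]
  have qe' : ∀ t : F, Q (t • e') = 0 := fun t => by rw [QuadraticMap.map_smul, hQe', smul_zero]
  have k1 : br E u w (α • e) (δ • e') = br E u w e' ((α * δ) • e) := by
    by_cases hα : α = 0
    · subst hα; rw [zero_smul, br_zero_left, zero_mul, zero_smul, br_zero_right]
    · have := (hscale α (α * δ) hα).2
      rwa [show α * δ * α⁻¹ = δ by field_simp] at this
  have k2 : br E u w (β • e') (γ • e) = br E u w e' ((β * γ) • e) := by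
    by_cases hβ : β = 0
    · subst hβ; rw [zero_smul, br_zero_left, zero_mul, zero_smul, br_zero_right]
    · have := (hscale β (β * γ) hβ).1
      rwa [show β * γ * β⁻¹ = γ by field_simp] at this
  rw [br_add_left E h (hp _ mz).1 (hp _ mz).2 (hp b hbW).1 (hp b hbW).2 (hp _ mall).1 (hp _ mall).2,
    br_add_left E h (hp _ mα).1 (hp _ mα).2 (hp _ mβ).1 (hp _ mβ).2 (hp _ mall).1 (hp _ mall).2]
  simp only [br_add_right E h (hp _ mα).1 (hp _ mα).2 (hp _ mz').1 (hp _ mz').2 (hp c hcW).1 (hp c hcW).2,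
    br_add_right E h (hp _ mα).1 (hp _ mα).2 (hp _ mγ).1 (hp _ mγ).2 (hp _ mδ).1 (hp _ mδ).2,
    br_add_right E h (hp _ mβ).1 (hp _ mβ).2 (hp _ mz').1 (hp _ mz').2 (hp c hcW).1 (hp c hcW).2,
    br_add_right E h (hp _ mβ).1 (hp _ mβ).2 (hp _ mγ).1 (hp _ mγ).2 (hp _ mδ).1 (hp _ mδ).2,
    br_add_right E h (hp b hbW).1 (hp b hbW).2 (hp _ mz').1 (hp _ mz').2 (hp c hcW).1 (hp c hcW).2,
    br_add_right E h (hp b hbW).1 (hp b hbW).2 (hp _ mγ).1 (hp _ mγ).2 (hp _ mδ).1 (hp _ mδ).2]
  rw [(br_kill E h hf mα (qe α) mγ (by simp [polar_smul_left, polar_smul_right, hself])).1,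
    (br_kill E h hf mα (qe α) hcW (by rw [polar_smul_left, hec, smul_zero])).1,
    (br_kill E h hf mβ (qe' β) mδ (by simp [polar_smul_left, polar_smul_right, hself'])).1,
    (br_kill E h hf mβ (qe' β) hcW (by rw [polar_smul_left, he'c, smul_zero])).1,
    (br_kill E h hf mγ (qe γ) hbW (by rw [polar_smul_left, heb, smul_zero])).2,
    (br_kill E h hf mδ (qe' δ) hbW (by rw [polar_smul_left, he'b, smul_zero])).2,
    k1, k2, br_pair E h hf he he' hQe hQe' hee hb hc]
  simp only [one_mul, mul_one]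
  have ms : ∀ t : F, polar Q u (t • e) = 0 ∧ polar Q w (t • e) = 0 := fun t => hp _ (W.smul_mem _ he)
  rw [← br_add_right E h (hp e' he').1 (hp e' he').2 (ms _).1 (ms _).2 (ms _).1 (ms _).2,
    ← br_add_right E h (hp e' he').1 (hp e' he').2 (by simp [polar_add_right, ms])
      (by simp [polar_add_right, ms]) (ms _).1 (ms _).2, ← add_smul, ← add_smul]
  congr 2
  simp [polar_add_left, polar_add_right, polar_smul_left, polar_smul_right, hself, hself', hee, hee',
    hec, he'c, polar_comm Q b e, heb, polar_comm Q b e', he'b]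
  ring

include h in
theorem br_eq {z z' y y' : V} (h1 : polar Q u z = 0) (h2 : polar Q w z = 0) (h3 : polar Q u z' = 0)
    (h4 : polar Q w z' = 0) (h5 : polar Q u y = 0) (h6 : polar Q w y = 0) (h7 : polar Q u y' = 0)
    (h8 : polar Q w y' = 0) (he : polar Q z z' = polar Q y y') : br E u w z z' = br E u w y y' := by
  obtain ⟨u', w', W, hf⟩ := exists_frame' h E.nd
  obtain ⟨K, hK⟩ := exists_value E h hf
  have hww : polar Q w w = 0 := by rw [polar_self_mul, h.hw, mul_zero]
  have huu : polar Q u u = 0 := by rw [polar_self_mul, h.hu, mul_zero]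
  have hwu : polar Q w u = 0 := by rw [polar_comm, h.huw]
  have red : ∀ {z z' : V}, polar Q u z = 0 → polar Q w z = 0 → polar Q u z' = 0 → polar Q w z' = 0 →
      br E u w z z' = K (polar Q z z') := by
    intro z z' h1 h2 h3 h4
    obtain ⟨α, β, x, hx, rfl⟩ := hf.decomp z h1 h2
    obtain ⟨γ, δ, x', hx', rfl⟩ := hf.decomp z' h3 h4
    obtain ⟨xu, xw, -, -⟩ := hf.perp x hx
    obtain ⟨xu', xw', -, -⟩ := hf.perp x' hx'
    have a1 : polar Q u (α • u + β • w) = 0 ∧ polar Q w (α • u + β • w) = 0 := by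
      simp [polar_add_right, polar_smul_right, huu, hwu, h.huw, hww]
    have a2 : polar Q u (γ • u + δ • w) = 0 ∧ polar Q w (γ • u + δ • w) = 0 := by
      simp [polar_add_right, polar_smul_right, huu, hwu, h.huw, hww]
    have e1 : ∀ v, polar Q u v = 0 → polar Q w v = 0 → br E u w (α • u + β • w) v = 1 := by
      intro v hv hv'
      rw [br, commutatorElement_eq_one_iff_commute]
      refine root_comm_right E h (s := β) ?_ hv hv'
      rw [L_spec, add_comm, S_shift h.hu (by rw [polar_smul_right, h.huw, smul_zero])]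
    have e2 : ∀ v, polar Q u v = 0 → polar Q w v = 0 → br E u w v (γ • u + δ • w) = 1 := by
      intro v hv hv'
      rw [br, commutatorElement_eq_one_iff_commute]
      refine (root_comm_left E h (s := -γ) ?_ hv hv').symm
      rw [L_spec, S_shift h.hw (by rw [polar_smul_right, hwu, smul_zero]),
        ← S_smul h.hw hwu, S_symm h.hu (by rw [QuadraticMap.map_smul, h.hw, smul_zero])
          (by rw [polar_smul_right, h.huw, smul_zero])]
      simp
    rw [br_add_left E h a1.1 a1.2 xu xw h3 h4, e1 _ h3 h4, one_mul,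
      br_add_right E h xu xw a2.1 a2.2 xu' xw', e2 _ xu xw, one_mul, hK x x' hx hx']
    congr 1
    simp [polar_add_left, polar_add_right, polar_smul_left, polar_smul_right, huu, hwu, h.huw, hww,
      xu', xw', polar_comm Q x u, xu, polar_comm Q x w, xw]
  rw [red h1 h2 h3 h4, red h5 h6 h7 h8, he]

end Cfsg.Agent.OrthStemCanon
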