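import Cfsg.Agent.Lib.OrthStemStep
import Mathlib

/-!
The covering of singular vectors: the kernel of a group with equivariant Siegel lifts lies over the
orthogonal group of the complement of a hyperbolic plane.
-/

set_option autoImplicit false

namespace Cfsg.Agent.OrthStemCover

open QuadraticMap
open Cfsg.Agent.OrthUnitaryQuad Cfsg.Agent.OrthUnitaryRefl Cfsg.Agent.OrthUnitaryOmega
open Cfsg.Agent.OrthStemGeom Cfsg.Agent.OrthStemSys Cfsg.Agent.OrthStemLifts Cfsg.Agent.OrthStemStep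

universe uF uV uD

variable {F : Type uF} {V : Type uV} [Field F] [Fintype F] [AddCommGroup V] [Module F V]
  [FiniteDimensional F V] {Q : QuadraticForm F V} {Δ : Type uD} [Group Δ] (Y : Sys Q Δ)

/-- A non-degenerate space of dimension at least two represents every non-zero scalar. -/
theorem exists_value {W : Submodule F V} (hW : Nd Q W) (hr : 2 ≤ Module.finrank F W) {s : F} :
    ∃ w ∈ W, Q w = s := by
  by_cases hs : s = 0
  · exact ⟨0, W.zero_mem, by rw [hs, QuadraticMap.map_zero]⟩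
  obtain ⟨x, hx, hx0⟩ := Submodule.exists_mem_ne_zero_of_ne_bot
    (show W ≠ ⊥ from fun e => by rw [e, finrank_bot] at hr; omega)
  by_cases hQx : Q x = 0
  · obtain ⟨f, hf, hQf, hxf⟩ := hW.exists_partner hx hx0 hQx
    refine ⟨x + s • f, W.add_mem hx (W.smul_mem _ hf), ?_⟩
    rw [QuadraticMap.map_add (⇑Q), QuadraticMap.map_smul, hQx, hQf, polar_smul_right, hxf]
    simp
  by_cases h2 : (2 : F) = 0
  · have : CharP F 2 := CharTwo.of_one_ne_zero_of_two_eq_zero one_ne_zero h2
    obtain ⟨t, ht⟩ := FiniteField.isSquare_of_char_two (ringChar.eq F 2) (s / Q x)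
    refine ⟨t • x, W.smul_mem _ hx, ?_⟩
    rw [QuadraticMap.map_smul, smul_eq_mul, ← ht, div_mul_cancel₀ _ hQx]
  obtain ⟨y, hy, hyx⟩ : ∃ y ∈ W, y ∉ Submodule.span F {x} := by
    by_contra hne
    push Not at hne
    have := Submodule.finrank_mono (show W ≤ Submodule.span F {x} from hne)
    rw [finrank_span_singleton hx0] at this
    omega
  set z := y - (polar Q x y / (2 * Q x)) • x with hz
  have hxz : polar Q x z = 0 := by
    rw [hz, polar_sub_right, polar_smul_right, polar_self_mul, smul_eq_mul,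
      div_mul_cancel₀ _ (mul_ne_zero h2 hQx), sub_self]
  have hzW : z ∈ W := W.sub_mem hy (W.smul_mem _ hx)
  have hz0 : z ≠ 0 := fun e => hyx (by
    rw [hz, sub_eq_zero] at e
    rw [e]; exact Submodule.smul_mem _ _ (Submodule.mem_span_singleton_self x))
  by_cases hQz : Q z = 0
  · obtain ⟨f, hf, hQf, hzf⟩ := hW.exists_partner hzW hz0 hQz
    refine ⟨z + s • f, W.add_mem hzW (W.smul_mem _ hf), ?_⟩
    rw [QuadraticMap.map_add (⇑Q), QuadraticMap.map_smul, hQz, hQf, polar_smul_right, hzf]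
    simp
  obtain ⟨a, b, hab⟩ := FiniteField.exists_root_sum_quadratic
    (f := Polynomial.C (Q x) * Polynomial.X ^ 2 + Polynomial.C 0 * Polynomial.X + Polynomial.C (-s))
    (g := Polynomial.C (Q z) * Polynomial.X ^ 2 + Polynomial.C 0 * Polynomial.X + Polynomial.C 0)
    (Polynomial.degree_quadratic hQx) (Polynomial.degree_quadratic hQz)
    (OrthUnitaryOmega.card_mod_two h2)
  simp at hab
  refine ⟨a • x + b • z, W.add_mem (W.smul_mem _ hx) (W.smul_mem _ hzW), ?_⟩
  rw [QuadraticMap.map_add (⇑Q), QuadraticMap.map_smul, QuadraticMap.map_smul, polar_smul_left,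
    polar_smul_right, hxz]
  simp only [smul_eq_mul]
  linear_combination hab

theorem exists_flip {W : Submodule F V} (hW : Nd Q W) (hr : 4 ≤ Module.finrank F W) {e f : V}
    (he : e ∈ W) (hf : f ∈ W) (hQe : Q e = 0) (hQf : Q f = 0) (hef : polar Q e f = 1) {s : F}
    (hs : s ≠ 0) : ∃ δ ∈ subgroupOf Y W, (Y.σ δ).1 e = s • f := by
  have hd := finrank_split he hf hQe hQf hef
  obtain ⟨w, hw, hQw⟩ := exists_value (Nd.split he hf hQe hQf hef hW) (by omega) (s := -s)
  obtain ⟨hwW, hew, hfw⟩ := mem_split.1 hw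
  set w' := (-s)⁻¹ • w
  have hw'W : w' ∈ W := W.smul_mem _ hwW
  have hew' : polar Q e w' = 0 := by simp [w', polar_smul_right, hew]
  have hfw' : polar Q w' f = 0 := by simp [w', polar_smul_left, polar_comm Q w f, hfw]
  have hQw' : Q w' = (-s)⁻¹ := by
    simp only [w', QuadraticMap.map_smul, hQw, smul_eq_mul]
    field_simp
  have hww : polar Q w' w = 2 := by
    simp only [w', polar_smul_left, polar_self_mul, hQw, smul_eq_mul]
    field_simp
  have hee : polar Q e e = 0 := by rw [polar_self_mul, hQe, mul_zero]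
  refine ⟨Y.Λ e w' * Y.Λ f w, mul_mem (Subgroup.subset_closure ⟨e, w', he, hw'W, hQe, hew', rfl⟩)
    (Subgroup.subset_closure ⟨f, w, hf, hwW, hQf, hfw, rfl⟩), ?_⟩
  rw [map_mul, orth_mul_apply, Y.map_Λ f w hQf hfw, Y.map_Λ e w' hQe hew', S_apply hQf hfw, polar_comm Q f e,
    hef, polar_comm Q w e, hew, hQw]
  simp only [map_add, map_sub, map_smul]
  rw [S_fix hQe hew' hee (by rw [polar_comm, hew']), S_apply hQe hew', S_apply hQe hew', hew, hef, hfw',
    hww, hQw']
  simp only [w']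
  match_scalars <;> field_simp <;> ring

theorem exists_trans {W : Submodule F V} (hW : Nd Q W) (hr : 4 ≤ Module.finrank F W) {b b' : V}
    (hb : b ∈ W) (hb' : b' ∈ W) (hQb : Q b = 0) (hQb' : Q b' = 0) (hb0 : b ≠ 0) (hb'0 : b' ≠ 0) :
    ∃ δ ∈ subgroupOf Y W, (Y.σ δ).1 b = b' := by
  have key : ∀ p r : V, p ∈ W → r ∈ W → Q p = 0 → Q r = 0 → polar Q p r ≠ 0 →
      ∃ δ ∈ subgroupOf Y W, (Y.σ δ).1 p = r := by
    intro p r hp hr' hQp hQr hpr
    obtain ⟨δ, hδ, hd⟩ := exists_flip Y hW hr hp (W.smul_mem (polar Q p r)⁻¹ hr') hQp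
      (by rw [QuadraticMap.map_smul, hQr, smul_zero])
      (by rw [polar_smul_right, smul_eq_mul, inv_mul_cancel₀ hpr]) hpr
    exact ⟨δ, hδ, by rw [hd, smul_smul, mul_inv_cancel₀ hpr, one_smul]⟩
  by_cases hbb : polar Q b b' = 0
  · obtain ⟨z₁, hz₁, h1⟩ := hW.exists_ne hb hb0
    obtain ⟨z₂, hz₂, h2⟩ := hW.exists_ne hb' hb'0
    obtain ⟨z, hz, hbz, hb'z⟩ : ∃ z ∈ W, polar Q b z ≠ 0 ∧ polar Q b' z ≠ 0 := by
      by_cases c1 : polar Q b' z₁ = 0
      · by_cases c2 : polar Q b z₂ = 0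
        · exact ⟨z₁ + z₂, W.add_mem hz₁ hz₂, by rw [polar_add_right, h1, c2, add_zero]; exact one_ne_zero,
            by rw [polar_add_right, c1, h2, zero_add]; exact one_ne_zero⟩
        · exact ⟨z₂, hz₂, c2, by rw [h2]; exact one_ne_zero⟩
      · exact ⟨z₁, hz₁, by rw [h1]; exact one_ne_zero, c1⟩
    set z' := z + (-(Q z / polar Q b z)) • b
    have hQz' : Q z' = 0 := by
      simp only [z']
      rw [QuadraticMap.map_add (⇑Q), QuadraticMap.map_smul, hQb, polar_smul_right, polar_comm Q z b]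
      simp only [smul_eq_mul]
      field_simp
      ring
    have hbb0 : polar Q b b = 0 := by rw [polar_self_mul, hQb, mul_zero]
    obtain ⟨δ₁, hδ₁, e1⟩ := key b z' hb (W.add_mem hz (W.smul_mem _ hb)) hQb hQz'
      (by simp only [z', polar_add_right, polar_smul_right, hbb0, smul_zero, add_zero]; exact hbz)
    obtain ⟨δ₂, hδ₂, e2⟩ := key z' b' (W.add_mem hz (W.smul_mem _ hb)) hb' hQz' hQb'
      (by simp only [z', polar_add_left, polar_smul_left, hbb, smul_zero, add_zero]
          rw [polar_comm]; exact hb'z)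
    exact ⟨δ₂ * δ₁, mul_mem hδ₂ hδ₁, by rw [map_mul, orth_mul_apply, e1, e2]⟩
  · exact key b b' hb hb' hQb hQb' hbb

variable (hnd : (polarBilin Q).Nondegenerate) (hdim : 6 ≤ Module.finrank F V)

omit [Fintype F] [FiniteDimensional F V] in
theorem pair_mk {a d g : V} (ha : Q a = 0) (hd : Q d = 0) (had : polar Q a d = 0) (hga : polar Q g a = 1)
    (hgd : polar Q g d = 0) (hd0 : d ≠ 0) : Pair Q a d :=
  ⟨ha, hd, had, fun α β q => by
    have e : α = 0 := by
      simpa [polar_add_right, polar_smul_right, hga, hgd] using congrArg (polar Q g) q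
    subst e
    simp [hd0] at q
    exact ⟨rfl, q⟩⟩

include hnd hdim in
theorem finrank_top_split {e f : V} (he : Q e = 0) (hf : Q f = 0) (hef : polar Q e f = 1) :
    Nd Q (split Q ⊤ e f) ∧ 4 ≤ Module.finrank F (split Q ⊤ e f) := by
  have hd := finrank_split (W := (⊤ : Submodule F V)) Submodule.mem_top Submodule.mem_top he hf hef
  rw [finrank_top] at hd
  exact ⟨Nd.split (W := ⊤) Submodule.mem_top Submodule.mem_top he hf hef (nd_top hnd), by omega⟩

include hnd hdim in
theorem exists_neighbour {a : V} (ha : Q a = 0) (ha0 : a ≠ 0) {u : V} (hu : Q u = 0) :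
    ∃ c, Pair Q a c ∧ polar Q u c = 0 ∧ (u = 0 ∨ Pair Q c u) := by
  obtain ⟨f, -, hf, haf⟩ := (nd_top hnd).exists_partner Submodule.mem_top ha0 ha
  obtain ⟨hn, h4⟩ := finrank_top_split hnd hdim ha hf haf
  obtain ⟨d, hd, hQd, hd0⟩ := hn.exists_singular (by omega)
  obtain ⟨-, had, hfd⟩ := mem_split.1 hd
  have hp : Pair Q a d := pair_mk ha hQd had (by rw [polar_comm, haf]) hfd hd0
  by_cases hau : polar Q a u = 0
  · by_cases hspan : ∃ t : F, u = t • a
    · obtain ⟨t, rfl⟩ := hspan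
      refine ⟨d, hp, by rw [polar_smul_left, had, smul_zero], ?_⟩
      by_cases ht : t = 0
      · exact Or.inl (by rw [ht, zero_smul])
      · exact Or.inr (Pair.smul_left hp.symm ht)
    · have hau' : ∀ α β : F, α • a + β • u = 0 → α = 0 ∧ β = 0 := by
        intro α β e
        have hβ : β = 0 := by
          by_contra hβ
          refine hspan ⟨-(α / β), ?_⟩
          calc u = β⁻¹ • (β • u) := by rw [inv_smul_smul₀ hβ]
            _ = _ := by rw [eq_neg_of_add_eq_zero_right e, ← neg_smul, smul_smul]; congr 1; field_simp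
        subst hβ
        simp [ha0] at e
        exact ⟨e, rfl⟩
      have haa : polar Q a a = 0 := by rw [polar_self_mul, ha, mul_zero]
      have huu : polar Q u u = 0 := by rw [polar_self_mul, hu, mul_zero]
      have hQs : Q (a + u) = 0 := by rw [QuadraticMap.map_add (⇑Q), ha, hu, hau]; simp
      refine ⟨a + u, ⟨ha, hQs, by rw [polar_add_right, haa, hau, add_zero], fun α β e => ?_⟩,
        by rw [polar_add_right, polar_comm, hau, huu, add_zero],
        Or.inr ⟨hQs, hu, by rw [polar_add_left, hau, huu, add_zero], fun α β e => ?_⟩⟩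
      · obtain ⟨e1, e2⟩ := hau' (α + β) β (by rw [← e]; module)
        rw [e2] at e1
        exact ⟨by simpa using e1, e2⟩
      · obtain ⟨e1, e2⟩ := hau' α (α + β) (by rw [← e]; module)
        rw [e1] at e2
        exact ⟨e1, by simpa using e2⟩
  · set f' := (polar Q a u)⁻¹ • u
    have hf' : Q f' = 0 := by simp [f', QuadraticMap.map_smul, hu]
    have haf' : polar Q a f' = 1 := by simp [f', polar_smul_right, hau]
    obtain ⟨hn', h4'⟩ := finrank_top_split hnd hdim ha hf' haf'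
    obtain ⟨c, hc, hQc, hc0⟩ := hn'.exists_singular (by omega)
    obtain ⟨-, hac, hf'c⟩ := mem_split.1 hc
    have huc : polar Q u c = 0 := by
      have : u = polar Q a u • f' := by simp [f', smul_smul, hau]
      rw [this, polar_smul_left, hf'c, smul_zero]
    refine ⟨c, pair_mk ha hQc hac (by rw [polar_comm, haf']) hf'c hc0, huc,
      Or.inr ⟨hQc, hu, by rw [polar_comm, huc], fun α β e => ?_⟩⟩
    have hβ : β = 0 := by
      simpa [polar_add_right, polar_smul_right, hac, hau] using congrArg (polar Q a) e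
    subst hβ
    simp [hc0] at e
    exact ⟨e, rfl⟩

variable {X : Type uD} [MulAction Δ X]

include hnd hdim in
/-- Transitivity on the common neighbours of two vectors by lifts fixing both. -/
theorem exists_fix {a v : V} (ha : Q a = 0) (hv : Q v = 0) (hv0 : v ≠ 0) (hav : ¬ Pair Q a v) {b b' : V}
    (hb : Pair Q a b) (hbv : Pair Q b v) (hb' : Pair Q a b') (hb'v : Pair Q b' v) :
    ∃ δ, (Y.σ δ).1 b = b' ∧ (Y.σ δ).1 a = a ∧ (Y.σ δ).1 v = v ∧
      (∀ x : X, Good Y a x → δ • x = x) ∧ (∀ y : X, Good Y v y → δ • y = y) := by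
  have ha0 : a ≠ 0 := fun e => one_ne_zero (hb.ind 1 0 (by rw [e]; simp)).1
  have mk : ∀ δ, δ ∈ Subgroup.closure {δ | ∃ u d, Q u = 0 ∧ polar Q u d = 0 ∧ polar Q a u = 0 ∧
      polar Q a d = 0 ∧ polar Q v u = 0 ∧ polar Q v d = 0 ∧ δ = Y.Λ u d} →
      (Y.σ δ).1 a = a ∧ (Y.σ δ).1 v = v ∧
      (∀ x : X, Good Y a x → δ • x = x) ∧ (∀ y : X, Good Y v y → δ • y = y) := by
    intro δ hδ
    induction hδ using Subgroup.closure_induction with
    | mem δ h =>
      obtain ⟨u, d, h1, h2, h3, h4, h5, h6, rfl⟩ := h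
      exact ⟨by rw [Y.map_Λ u d h1 h2, S_fix h1 h2 (by rw [polar_comm, h3]) (by rw [polar_comm, h4])],
        by rw [Y.map_Λ u d h1 h2, S_fix h1 h2 (by rw [polar_comm, h5]) (by rw [polar_comm, h6])],
        fun x hx => hx u d h1 h2 h3 h4, fun y hy => hy u d h1 h2 h5 h6⟩
    | one => exact ⟨by rw [map_one]; rfl, by rw [map_one]; rfl, fun x _ => one_smul Δ x,
        fun y _ => one_smul Δ y⟩
    | mul p r _ _ hp hr =>
      exact ⟨by rw [map_mul, orth_mul_apply, hr.1, hp.1], by rw [map_mul, orth_mul_apply, hr.2.1, hp.2.1],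
        fun x hx => by rw [mul_smul, hr.2.2.1 x hx, hp.2.2.1 x hx],
        fun y hy => by rw [mul_smul, hr.2.2.2 y hy, hp.2.2.2 y hy]⟩
    | inv p _ hp =>
      refine ⟨?_, ?_, fun x hx => by rw [inv_smul_eq_iff, hp.2.2.1 x hx],
        fun y hy => by rw [inv_smul_eq_iff, hp.2.2.2 y hy]⟩
      · rw [map_inv]; conv_lhs => rw [← hp.1, ← orth_mul_apply, inv_mul_cancel]
        rfl
      · rw [map_inv]; conv_lhs => rw [← hp.2.1, ← orth_mul_apply, inv_mul_cancel]
        rfl
  suffices h : ∃ δ ∈ Subgroup.closure {δ | ∃ u d, Q u = 0 ∧ polar Q u d = 0 ∧ polar Q a u = 0 ∧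
      polar Q a d = 0 ∧ polar Q v u = 0 ∧ polar Q v d = 0 ∧ δ = Y.Λ u d}, (Y.σ δ).1 b = b' by
    obtain ⟨δ, hδ, e⟩ := h
    exact ⟨δ, e, mk δ hδ⟩
  have hab0 : ∀ {c : V}, Pair Q a c → c ≠ 0 := fun hc e => one_ne_zero (hc.ind 0 1 (by rw [e]; simp)).2
  have hle : ∀ W : Submodule F V, (∀ z ∈ W, polar Q a z = 0 ∧ polar Q v z = 0) →
      subgroupOf Y W ≤ Subgroup.closure {δ | ∃ u d, Q u = 0 ∧ polar Q u d = 0 ∧ polar Q a u = 0 ∧
      polar Q a d = 0 ∧ polar Q v u = 0 ∧ polar Q v d = 0 ∧ δ = Y.Λ u d} := fun W hW =>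
    Subgroup.closure_mono (by
      rintro δ ⟨u, d, hu, hd, h1, h2, rfl⟩
      exact ⟨u, d, h1, h2, (hW u hu).1, (hW d hd).1, (hW u hu).2, (hW d hd).2, rfl⟩)
  by_cases hBav : polar Q a v = 0
  · obtain ⟨t, ht⟩ : ∃ t : F, v = t • a := by
      by_contra hne
      refine hav ⟨ha, hv, hBav, fun α β e => ?_⟩
      have hβ : β = 0 := by
        by_contra hβ
        refine hne ⟨-(α / β), ?_⟩
        calc v = β⁻¹ • (β • v) := by rw [inv_smul_smul₀ hβ]
          _ = _ := by rw [eq_neg_of_add_eq_zero_right e, ← neg_smul, smul_smul]; congr 1; field_simp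
      subst hβ
      simp [ha0] at e
      exact ⟨e, rfl⟩
    obtain ⟨f, -, hf, haf⟩ := (nd_top hnd).exists_partner Submodule.mem_top ha0 ha
    obtain ⟨hn, h4⟩ := finrank_top_split hnd hdim ha hf haf
    have haa : polar Q a a = 0 := by rw [polar_self_mul, ha, mul_zero]
    have dec : ∀ c, Pair Q a c → ∃ (α : F) (c₀ : V), c₀ ∈ split Q ⊤ a f ∧ Q c₀ = 0 ∧ c₀ ≠ 0 ∧
        c = α • a + c₀ := by
      intro c hc
      obtain ⟨α, β, c₀, hc₀, rfl⟩ :=
        exists_split_eq (W := ⊤) Submodule.mem_top Submodule.mem_top ha hf haf (Submodule.mem_top (x := c))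
      obtain ⟨-, hac, -⟩ := mem_split.1 hc₀
      have hβ : β = 0 := by
        have := hc.huw
        simpa [polar_add_right, polar_smul_right, haa, haf, hac] using this
      subst hβ
      have hQ := hc.hw
      simp [QuadraticMap.map_add (⇑Q), QuadraticMap.map_smul, ha, polar_smul_left, hac] at hQ
      refine ⟨α, c₀, hc₀, hQ, fun e => ?_, by module⟩
      subst e
      exact one_ne_zero (hc.ind (-α) 1 (by module)).2
    obtain ⟨α, b₀, hb₀, hQb₀, hb₀0, rfl⟩ := dec b hb
    obtain ⟨α', b₀', hb₀', hQb₀', hb₀'0, rfl⟩ := dec b' hb'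
    obtain ⟨δ, hδ, e⟩ := exists_trans Y hn h4 hb₀ hb₀' hQb₀ hQb₀' hb₀0 hb₀'0
    obtain ⟨c₁, hc₁, hc₁b⟩ := hn.exists_ne hb₀' hb₀'0
    obtain ⟨-, hac, -⟩ := mem_split.1 hc₁
    have hacs : polar Q a ((α - α') • c₁) = 0 := by rw [polar_smul_right, hac, smul_zero]
    have hW : ∀ z ∈ split Q ⊤ a f, polar Q a z = 0 ∧ polar Q v z = 0 := fun z hz => by
      obtain ⟨-, h1, -⟩ := mem_split.1 hz
      exact ⟨h1, by rw [ht, polar_smul_left, h1, smul_zero]⟩
    refine ⟨Y.Λ a ((α - α') • c₁) * δ, mul_mem (Subgroup.subset_closure ⟨a, _, ha, hacs, haa, hacs,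
      by rw [ht, polar_smul_left, haa, smul_zero], by rw [ht, polar_smul_left, hacs, smul_zero], rfl⟩)
      (hle _ hW hδ), ?_⟩
    have hfa : (Y.σ δ).1 a = a := (mk δ (hle _ hW hδ)).1
    rw [map_mul, orth_mul_apply, map_add (Y.σ δ).1, map_smul, hfa, e, Y.map_Λ _ _ ha hacs,
      S_apply ha hacs, polar_add_right, polar_smul_right, haa, (mem_split.1 hb₀').2.1, polar_add_right,
      polar_smul_left, polar_smul_left, polar_smul_right, polar_comm Q c₁ a, hac, polar_comm Q c₁ b₀', hc₁b]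
    simp only [smul_eq_mul]
    match_scalars <;> ring
  · set f := (polar Q a v)⁻¹ • v
    have hf : Q f = 0 := by simp [f, QuadraticMap.map_smul, hv]
    have haf : polar Q a f = 1 := by simp [f, polar_smul_right, hBav]
    obtain ⟨hn, h4⟩ := finrank_top_split hnd hdim ha hf haf
    have hvf : ∀ z, polar Q f z = 0 → polar Q v z = 0 := fun z hz => by
      have : v = polar Q a v • f := by simp [f, smul_smul, hBav]
      rw [this, polar_smul_left, hz, smul_zero]
    have memW : ∀ {c : V}, Pair Q a c → Pair Q c v → c ∈ split Q ⊤ a f := fun h1 h2 =>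
      mem_split.2 ⟨Submodule.mem_top, h1.huw, by simp [f, polar_smul_left, polar_comm Q v, h2.huw]⟩
    obtain ⟨δ, hδ, e⟩ := exists_trans Y hn h4 (memW hb hbv) (memW hb' hb'v) hb.hw hb'.hw (hab0 hb) (hab0 hb')
    refine ⟨δ, hle _ (fun z hz => ?_) hδ, e⟩
    obtain ⟨-, h1, h2⟩ := mem_split.1 hz
    exact ⟨h1, hvf z h2⟩

/-- `y` is the point over `v` reached from `x` over `a`. -/
def Rel (a : V) (x : X) (v : V) (y : X) : Prop :=
  Q v = 0 ∧ v ≠ 0 ∧ ((Pair Q a v ∧ Sect Y a x v y) ∨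
    (¬ Pair Q a v ∧ ∃ b yb, Pair Q a b ∧ Pair Q b v ∧ Sect Y a x b yb ∧ Sect Y b yb v y))

variable (htri : TriCol Y)

include hnd htri in
theorem rel_of_path {a b v : V} {x yb y : X} (hx : Good Y a x) (hab : Pair Q a b) (hbv : Pair Q b v)
    (h1 : Sect Y a x b yb) (h2 : Sect Y b yb v y) : Rel Y a x v y := by
  refine ⟨hbv.hw, fun e => one_ne_zero (hbv.ind 0 1 (by rw [e]; simp)).2, ?_⟩
  by_cases hav : Pair Q a v
  · refine Or.inl ⟨hav, ?_⟩
    by_cases hcol : ∃ α β : F, v = α • a + β • b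
    · exact htri X a b v x yb y hab hbv hav hcol hx h1 h2
    · refine tri_indep Y hnd hab hbv hav (fun α β γ e => ?_) hx h1 h2
      have hγ : γ = 0 := by
        by_contra hγ
        refine hcol ⟨-(α / γ), -(β / γ), ?_⟩
        have e' : γ • v = (-α) • a + (-β) • b := by rw [eq_neg_of_add_eq_zero_right e]; module
        calc v = γ⁻¹ • (γ • v) := by rw [inv_smul_smul₀ hγ]
          _ = _ := by rw [e', smul_add, smul_smul, smul_smul]; congr 2 <;> field_simp
      subst hγ
      rw [zero_smul, add_zero] at e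
      obtain ⟨p, r⟩ := hab.ind α β e
      exact ⟨p, r, rfl⟩
  · exact Or.inr ⟨hav, b, yb, hab, hbv, h1, h2⟩

include hnd hdim in
theorem rel_unique {a v : V} {x y y' : X} (ha : Q a = 0) (hx : Good Y a x) (h : Rel Y a x v y)
    (h' : Rel Y a x v y') : y = y' := by
  obtain ⟨hv, hv0, h⟩ := h
  obtain ⟨-, -, h'⟩ := h'
  rcases h with ⟨hp, h⟩ | ⟨hp, b, yb, hab, hbv, h1, h2⟩
  · rcases h' with ⟨-, h'⟩ | ⟨hp', -⟩
    · exact sect_unique Y hx hp h h'
    · exact absurd hp hp'
  · rcases h' with ⟨hp', -⟩ | ⟨-, b', yb', hab', hb'v, h1', h2'⟩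
    · exact absurd hp' hp
    obtain ⟨δ, db, da, dv, dx, dy⟩ := exists_fix Y hnd hdim ha hv hv0 hp hab hbv hab' hb'v (X := X)
    have e1 := sect_equiv Y hab h1 δ
    rw [da, db, dx x hx] at e1
    have e2 := sect_equiv Y hbv h2 δ
    rw [db, dv] at e2
    have hy : Good Y v y := sect_good Y (sect_good Y hx hab h1) hbv h2
    rw [dy y hy] at e2
    have e3 : δ • yb = yb' := sect_unique Y hx hab' e1 h1'
    rw [e3] at e2
    exact sect_unique Y (sect_good Y hx hab' h1') hb'v e2 h2'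

include hnd hdim htri in
theorem rel_agree {a c v : V} {x xc y : X} (hx : Good Y a x) (hac : Pair Q a c) (hc : Sect Y a x c xc)
    (h : Rel Y c xc v y) : Rel Y a x v y := by
  have hxc := sect_good Y hx hac hc
  obtain ⟨hv, hv0, h⟩ := h
  rcases h with ⟨hcv, h⟩ | ⟨hcv, b, yb, hcb, hbv, h1, h2⟩
  · exact rel_of_path Y hnd htri hx hac hcv hc h
  by_cases hav : Pair Q a v
  · refine ⟨hv, hv0, Or.inl ⟨hav, ?_⟩⟩
    obtain ⟨y', hy'⟩ := exists_sect Y hnd hav x
    have hp : Rel Y c xc v y' := rel_of_path Y hnd htri hxc hac.symm hav (sect_symm Y hac hc) hy'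
    rw [rel_unique Y hnd hdim hac.hw hxc ⟨hv, hv0, Or.inr ⟨hcv, b, yb, hcb, hbv, h1, h2⟩⟩ hp]
    exact hy'
  · have hv' : polar Q a v ≠ 0 := by
      intro e
      obtain ⟨t, ht⟩ : ∃ t : F, v = t • a := by
        by_contra hne
        refine hav ⟨hac.hu, hv, e, fun α β q => ?_⟩
        have hβ : β = 0 := by
          by_contra hβ
          refine hne ⟨-(α / β), ?_⟩
          calc v = β⁻¹ • (β • v) := by rw [inv_smul_smul₀ hβ]
            _ = _ := by rw [eq_neg_of_add_eq_zero_right q, ← neg_smul, smul_smul]; congr 1; field_simp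
        subst hβ
        have : a ≠ 0 := fun e => one_ne_zero (hac.ind 1 0 (by rw [e]; simp)).1
        simp [this] at q
        exact ⟨q, rfl⟩
      refine hcv ?_
      have ht0 : t ≠ 0 := fun e0 => hv0 (by rw [ht, e0, zero_smul])
      rw [ht]
      exact Pair.smul_left hac.symm ht0
    set r := polar Q c v / polar Q a v
    have hr : r ≠ 0 := by
      intro e
      have hcv0 : polar Q c v = 0 := (div_eq_zero_iff.1 e).resolve_right hv'
      refine hcv ⟨hac.hw, hv, hcv0, fun α β q => ?_⟩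
      have hβ : β = 0 := by
        simpa [polar_add_right, polar_smul_right, hac.huw, hv'] using congrArg (polar Q a) q
      subst hβ
      have : c ≠ 0 := fun e => one_ne_zero (hac.ind 0 1 (by rw [e]; simp)).2
      simp [this] at q
      exact ⟨q, rfl⟩
    set b' := c + (-r) • a with hb'
    have hQb' : Q b' = 0 := by
      rw [hb', QuadraticMap.map_add (⇑Q), QuadraticMap.map_smul, hac.hu, hac.hw, polar_smul_right,
        polar_comm, hac.huw]
      simp
    have haa : polar Q a a = 0 := by rw [polar_self_mul, hac.hu, mul_zero]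
    have hcc : polar Q c c = 0 := by rw [polar_self_mul, hac.hw, mul_zero]
    have hab' : Pair Q a b' := ⟨hac.hu, hQb', by simp [hb', polar_add_right, polar_smul_right, hac.huw, haa],
      fun α β q => by
        obtain ⟨p1, p2⟩ := hac.ind (α + β * -r) β (by rw [← q, hb']; module)
        rw [p2] at p1
        exact ⟨by simpa using p1, p2⟩⟩
    have hcb' : Pair Q c b' := ⟨hac.hw, hQb', by
      simp [hb', polar_add_right, polar_smul_right, polar_comm Q c a, hac.huw, hcc], fun α β q => by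
        obtain ⟨p1, p2⟩ := hac.ind (β * -r) (α + β) (by rw [← q, hb']; module)
        have hβ : β = 0 := (mul_eq_zero.1 p1).resolve_right (neg_ne_zero.2 hr)
        rw [hβ] at p2
        exact ⟨by simpa using p2, hβ⟩⟩
    have hbv' : polar Q b' v = 0 := by
      simp [hb', polar_add_left, polar_smul_left, r, hv']
    have hb'v : Pair Q b' v := ⟨hQb', hv, hbv', fun α β q => by
      have hβ : β = 0 := by
        simpa [polar_add_right, polar_smul_right, hab'.huw, hv'] using congrArg (polar Q a) q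
      subst hβ
      have : b' ≠ 0 := fun e => one_ne_zero (hab'.ind 0 1 (by rw [e]; simp)).2
      simp [this] at q
      exact ⟨q, rfl⟩⟩
    obtain ⟨y₁, hy₁⟩ := exists_sect Y hnd hcb' xc
    obtain ⟨y₂, hy₂⟩ := exists_sect Y hnd hb'v y₁
    rw [rel_unique Y hnd hdim hac.hw hxc ⟨hv, hv0, Or.inr ⟨hcv, b, yb, hcb, hbv, h1, h2⟩⟩
      (rel_of_path Y hnd htri hxc hcb' hb'v hy₁ hy₂)]
    obtain ⟨-, -, hd⟩ := rel_of_path Y hnd htri hx hac hcb' hc hy₁
    rcases hd with ⟨-, hd⟩ | ⟨hn, -⟩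
    · exact rel_of_path Y hnd htri hx hab' hb'v hd hy₂
    · exact absurd hab' hn

theorem rel_equiv {a v : V} {x y : X} (h : Rel Y a x v y) (δ : Δ) :
    Rel Y ((Y.σ δ).1 a) (δ • x) ((Y.σ δ).1 v) (δ • y) := by
  obtain ⟨hv, hv0, h⟩ := h
  have hm : ∀ {p r : V}, Pair Q p r → Pair Q ((Y.σ δ).1 p) ((Y.σ δ).1 r) := fun h => Pair.map_orth h _
  refine ⟨by rw [map_orth, hv], fun e => hv0 ((Y.σ δ).1.map_eq_zero_iff.1 e), ?_⟩
  rcases h with ⟨hp, h⟩ | ⟨hp, b, yb, hab, hbv, h1, h2⟩
  · exact Or.inl ⟨hm hp, sect_equiv Y hp h δ⟩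
  · refine Or.inr ⟨fun hn => hp ?_, _, δ • yb, hm hab, hm hbv, sect_equiv Y hab h1 δ, sect_equiv Y hbv h2 δ⟩
    have := Pair.map_orth hn (Y.σ δ)⁻¹
    rwa [← orth_mul_apply, ← orth_mul_apply, inv_mul_cancel] at this

omit X in
include hnd hdim htri in
/-- The kernel lies over the complement of a hyperbolic plane. -/
theorem ker_mem {e f : V} (he : Q e = 0) (hf : Q f = 0) (hef : polar Q e f = 1) {g : Δ}
    (hg : Y.σ g = 1) : g ∈ subgroupOf Y (split Q ⊤ e f) := by
  set x₀ : Δ ⧸ stab Y e := ((1 : Δ) : Δ ⧸ stab Y e)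
  have hx₀ : Good Y e x₀ := by
    intro u d h1 h2 h3 h4
    show ((Y.Λ u d * 1 : Δ) : Δ ⧸ stab Y e) = ((1 : Δ) : Δ ⧸ stab Y e)
    rw [QuotientGroup.eq, mul_one, mul_one]
    exact (stab Y e).inv_mem (Subgroup.subset_closure ⟨u, d, h1, h2, h3, h4, rfl⟩)
  have he0 : e ≠ 0 := fun h => by simp [h] at hef
  have hee : ¬ Pair Q e e := fun h => one_ne_zero (h.ind 1 (-1) (by module)).1
  have hstep : ∀ u d, Q u = 0 → polar Q u d = 0 → ∀ v (y : Δ ⧸ stab Y e), Rel Y e x₀ v y →
      Rel Y e x₀ ((Y.σ (Y.Λ u d)).1 v) (Y.Λ u d • y) := by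
    intro u d hu hud v y hrel
    obtain ⟨c, hec, huc, hcu⟩ := exists_neighbour hnd hdim he he0 hu
    obtain ⟨xc, hxc⟩ := exists_sect Y hnd hec x₀
    have hgc := sect_good Y hx₀ hec hxc
    have h1 : Rel Y c xc v y := rel_agree Y hnd hdim htri hgc hec.symm (sect_symm Y hec hxc) hrel
    have h2 := rel_equiv Y h1 (Y.Λ u d)
    have hS : (Y.σ (Y.Λ u d)).1 c = c + (-polar Q d c) • u := by
      rw [Y.map_Λ u d hu hud, S_apply hu hud, huc]; module
    refine rel_agree Y hnd hdim htri hx₀ hec hxc ?_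
    by_cases hk : polar Q d c = 0
    · rw [hS, hk, neg_zero, zero_smul, add_zero,
        hgc u d hu hud (by rw [polar_comm, huc]) (by rw [polar_comm, hk])] at h2
      exact h2
    · rcases hcu with hu0 | hcu
      · subst hu0
        have hl : Y.Λ (0 : V) d = 1 := by
          rw [← zero_smul F (0 : V), Y.smul 0 _ _ hu hud, zero_smul, Y.zero hu]
        rw [hl, map_one, one_smul] at h2 ⊢
        rw [one_smul] at h2
        exact h2
      rw [hS] at h2
      have hQg : Q (c + (-polar Q d c) • u) = 0 := by rw [← hS, map_orth, hec.hw]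
      have hcc : polar Q c c = 0 := by rw [polar_self_mul, hec.hw, mul_zero]
      have hp : Pair Q c (c + (-polar Q d c) • u) := ⟨hec.hw, hQg, by
        simp [polar_add_right, polar_smul_right, hcc, hcu.huw], fun α β q => by
        obtain ⟨p1, p2⟩ := hcu.ind (α + β) (β * -polar Q d c) (by rw [← q]; module)
        have hβ : β = 0 := (mul_eq_zero.1 p2).resolve_right (neg_ne_zero.2 hk)
        rw [hβ] at p1
        exact ⟨by simpa using p1, hβ⟩⟩
      refine rel_agree Y hnd hdim htri hgc hp ⟨(-(polar Q d c)⁻¹) • d, ?_, ?_, ?_⟩ h2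
      · rw [polar_smul_left, smul_eq_mul]; field_simp
      · rw [polar_add_right, polar_smul_right, polar_smul_left, polar_smul_left, polar_comm Q d u, hud]
        simp only [smul_eq_mul, mul_zero, add_zero]
        field_simp
      · rw [add_sub_cancel_left, Y.smul _ u _ hu (by rw [polar_smul_right, hud, smul_zero]), smul_smul,
          neg_mul_neg, mul_inv_cancel₀ hk, one_smul]
  obtain ⟨b, heb, -, -⟩ := exists_neighbour hnd hdim he he0 he
  obtain ⟨yb, hyb⟩ := exists_sect Y hnd heb x₀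
  have hbase : Rel Y e x₀ e x₀ :=
    ⟨he, he0, Or.inr ⟨hee, b, yb, heb, heb.symm, hyb, sect_symm Y heb hyb⟩⟩
  have hall : ∀ δ : Δ, Rel Y e x₀ ((Y.σ δ).1 e) (δ • x₀) := by
    intro δ
    have hd : δ ∈ Subgroup.closure {δ | ∃ u z, Q u = 0 ∧ polar Q u z = 0 ∧ δ = Y.Λ u z} :=
      Y.gen ▸ Subgroup.mem_top δ
    induction hd using Subgroup.closure_induction_left with
    | one => rw [map_one, one_smul]; exact hbase
    | mul_left a ha b _ hb =>
      obtain ⟨u, d, hu, hud, rfl⟩ := ha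
      rw [map_mul, orth_mul_apply, mul_smul]
      exact hstep u d hu hud _ _ hb
    | inv_mul_cancel a ha b _ hb =>
      obtain ⟨u, d, hu, hud, rfl⟩ := ha
      rw [Y.inv hu hud, map_mul, orth_mul_apply, mul_smul]
      exact hstep u (-d) hu (by rw [polar_neg_right, hud, neg_zero]) _ _ hb
  have h := hall g
  rw [hg] at h
  have hzx : g • x₀ = x₀ := rel_unique Y hnd hdim he hx₀ h hbase
  refine mem_of_stab Y he hf hef hnd ?_ hg
  have h' : ((g * 1 : Δ) : Δ ⧸ stab Y e) = ((1 : Δ) : Δ ⧸ stab Y e) := hzx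
  rw [QuotientGroup.eq, mul_one, mul_one] at h'
  exact (stab Y e).inv_mem_iff.1 h'

end Cfsg.Agent.OrthStemCover
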