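import Mathlib
import Cfsg.Agent.Lib.CosetCertFi22S2
import Cfsg.Agent.Lib.CosetCertFi22S3
import Cfsg.Agent.Lib.CosetCertFi22S4

/-!
Groups generated by seven elements satisfying the commutation and braid relations of the diagram E7.
If they are involutions and the ninth power of a Coxeter element is trivial, the order is at most 1451520.
-/

set_option autoImplicit false
set_option maxRecDepth 100000

namespace Cfsg.Agent.PSp62MultiplierE7

universe u v

open scoped commutatorElement
open Cfsg.Agent.CosetCertCore Cfsg.Agent.CosetCertTable Cfsg.Agent.CosetCertOrder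

/-- adjacency in the diagram E7: the path 0,1,2,3,4,5 with 6 attached to 2 -/
def adj (i j : Fin 7) : Bool :=
  decide ((i.val, j.val) ∈ [(0, 1), (1, 0), (1, 2), (2, 1), (2, 3), (3, 2), (3, 4), (4, 3), (4, 5),
    (5, 4), (2, 6), (6, 2)])

/-- commutation and braid relations -/
structure Braids {Γ : Type u} [Group Γ] (T : Fin 7 → Γ) : Prop where
  comm : ∀ i j, adj i j = false → T i * T j = T j * T i
  braid : ∀ i j, adj i j = true → T i * T j * T i = T j * T i * T j

/-- the Coxeter element -/
def cox {Γ : Type u} [Group Γ] (T : Fin 7 → Γ) : Γ := T 0 * T 1 * T 2 * T 3 * T 4 * T 5 * T 6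

theorem Braids.map {Γ : Type u} {Δ : Type v} [Group Γ] [Group Δ] {T : Fin 7 → Γ} (h : Braids T)
    (f : Γ →* Δ) : Braids fun i => f (T i) :=
  ⟨fun i j e => by rw [← map_mul, h.comm i j e, map_mul],
    fun i j e => by simp only [← map_mul]; rw [h.braid i j e]⟩

theorem map_cox {Γ : Type u} {Δ : Type v} [Group Γ] [Group Δ] (T : Fin 7 → Γ)
    (f : Γ →* Δ) : f (cox T) = cox fun i => f (T i) := by simp [cox]

theorem val_append {G : Type} [Group G] (g : Nat → G) (v w : List Nat) :
    val g (v ++ w) = val g v * val g w := by simp [val]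

section TypeZero

variable {G : Type} [Group G] {T : Fin 7 → G}

/-- the generators indexed by naturals -/
def gg (T : Fin 7 → G) (x : Nat) : G := if h : x < 7 then T ⟨x, h⟩ else 1

theorem gg_sq (hs : ∀ i, T i * T i = 1) (x : Nat) : gg T x * gg T x = 1 := by
  unfold gg; split
  · exact hs _
  · exact one_mul _

/-- a pair word is trivial -/
theorem pair_rel (hb : Braids T) (hs : ∀ i, T i * T i = 1) (i j : Fin 7) :
    (adj i j = true → val (gg T) [i.val, j.val, i.val, j.val, i.val, j.val] = 1) ∧
      (adj i j = false → val (gg T) [i.val, j.val, i.val, j.val] = 1) := by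
  have e : ∀ k : Fin 7, gg T k.val = T k := fun k => by simp [gg, k.isLt]
  simp only [val, List.map_cons, List.map_nil, List.prod_cons, List.prod_nil, e, mul_one]
  constructor
  · intro h
    calc T i * (T j * (T i * (T j * (T i * T j))))
        = (T i * T j * T i) * (T j * T i * T j) := by group
      _ = (T i * T j * T i) * (T i * T j * T i) := by rw [hb.braid i j h]
      _ = T i * (T j * (T i * T i) * T j) * T i := by group
      _ = 1 := by rw [hs, mul_one, hs, mul_one, hs]
  · intro h
    calc T i * (T j * (T i * T j)) = T i * (T j * T i) * T j := by group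
      _ = T i * (T i * T j) * T j := by rw [hb.comm i j h]
      _ = (T i * T i) * (T j * T j) := by group
      _ = 1 := by rw [hs, hs, one_mul]

/-- the relator words -/
def relWords : List (List Nat) :=
  ((List.finRange 7).flatMap fun i => (List.finRange 7).map fun j =>
      if i = j then [i.val, i.val] else if adj i j then [i.val, j.val, i.val, j.val, i.val, j.val]
      else [i.val, j.val, i.val, j.val]) ++
    [(List.replicate 9 [0, 1, 2, 3, 4, 5, 6]).flatten]

theorem val_replicate (n : Nat) (w : List Nat) :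
    val (gg T) (List.replicate n w).flatten = val (gg T) w ^ n := by
  induction n with
  | zero => simp [val]
  | succ n ih => rw [List.replicate_succ, List.flatten_cons, val_append, ih, pow_succ']

theorem relWords_val (hb : Braids T) (hs : ∀ i, T i * T i = 1) (h9 : cox T ^ 9 = 1) :
    ∀ w ∈ relWords, val (gg T) w = 1 := by
  intro w hw
  rw [relWords, List.mem_append] at hw
  rcases hw with hw | hw
  · simp only [List.mem_flatMap, List.mem_map, List.mem_finRange, true_and] at hw
    obtain ⟨i, j, rfl⟩ := hw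
    split_ifs with h1 h2
    · simpa [val] using gg_sq hs i.val
    · exact (pair_rel hb hs i j).1 h2
    · exact (pair_rel hb hs i j).2 (Bool.eq_false_iff.mpr h2)
  · rw [List.mem_singleton] at hw
    rw [hw, val_replicate]
    convert h9 using 2
    simp [val, gg, cox, mul_assoc]

theorem rels_of (hb : Braids T) (hs : ∀ i, T i * T i = 1) (h9 : cox T ^ 9 = 1) {C : Cert} {σ : List Nat}
    (h : (C.rels.all fun w => decide (w.map (ren σ) ∈ relWords)) = true) :
    ∀ w ∈ C.rels, val (gg T) (w.map (ren σ)) = 1 := by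
  intro w hw
  simp only [List.all_eq_true, decide_eq_true_eq] at h
  exact relWords_val hb hs h9 _ (h w hw)

theorem sgens_of {C : Cert} {σ τ : List Nat}
    (h : C.sgens.map (List.map (ren σ)) = τ.map fun i => [i]) :
    ∀ w ∈ C.sgens, val (gg T) (w.map (ren σ)) ∈ span (gg T) τ := by
  intro w hw
  have h1 : w.map (ren σ) ∈ τ.map fun i => [i] := h ▸ List.mem_map_of_mem hw
  obtain ⟨i, hi, hiw⟩ := List.mem_map.mp h1
  rw [← hiw, val_cons, val_nil, mul_one]
  exact Subgroup.subset_closure ⟨i, hi, rfl⟩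

theorem bound_zero (hb : Braids T) (hs : ∀ i, T i * T i = 1) (h9 : cox T ^ 9 = 1) :
    Finite (span (gg T) [0, 1, 2, 3, 4, 5, 6]) ∧
      Nat.card (span (gg T) [0, 1, 2, 3, 4, 5, 6]) ≤ 1451520 := by
  have h4 := span_card_le (gg T) (gg_sq hs) CosetCertFi22S4.closed (σ := [2, 3, 4, 5, 6])
    (by decide +kernel) (by simp) (rels_of hb hs h9 (by decide +kernel)) (τ := []) (by decide +kernel)
    (sgens_of (by decide +kernel)) (span_nil_card _)
  have h3 := span_card_le (gg T) (gg_sq hs) CosetCertFi22S3.closed (σ := [1, 2, 3, 4, 5, 6])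
    (by decide +kernel) (by simp) (rels_of hb hs h9 (by decide +kernel)) (τ := [2, 3, 4, 5, 6])
    (by decide +kernel) (sgens_of (by decide +kernel)) h4
  have h2 := span_card_le (gg T) (gg_sq hs) CosetCertFi22S2.closed (σ := [0, 1, 2, 3, 4, 5, 6])
    (by decide +kernel) (by simp) (rels_of hb hs h9 (by decide +kernel)) (τ := [1, 2, 3, 4, 5, 6])
    (by decide +kernel) (sgens_of (by decide +kernel)) h3
  exact ⟨h2.1, h2.2.trans_eq (by decide +kernel)⟩

end TypeZero

/-- The order bound. -/
theorem card_le {Γ : Type u} [Group Γ] [Finite Γ] {T : Fin 7 → Γ} (hb : Braids T)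
    (hs : ∀ i, T i * T i = 1) (h9 : cox T ^ 9 = 1) (hgen : Subgroup.closure (Set.range T) = ⊤) :
    Nat.card Γ ≤ 1451520 := by
  classical
  let e : Γ ≃ Fin (Nat.card Γ) := Finite.equivFin Γ
  let f : Γ →* Equiv.Perm (Fin (Nat.card Γ)) :=
    e.permCongrHom.toMonoidHom.comp (MulAction.toPermHom Γ Γ)
  have hf : Function.Injective f := by
    intro a b h
    exact MulAction.toPerm_injective (e.permCongrHom.injective h)
  obtain ⟨-, hc⟩ := bound_zero (hb.map f) (fun i => by rw [← map_mul, hs, map_one])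
    (by rw [← map_cox, ← map_pow, h9, map_one])
  have hle : f.range ≤ span (gg fun i => f (T i)) [0, 1, 2, 3, 4, 5, 6] := by
    rw [MonoidHom.range_eq_map, ← hgen, MonoidHom.map_closure, Subgroup.closure_le]
    rintro _ ⟨_, ⟨i, rfl⟩, rfl⟩
    refine Subgroup.subset_closure ⟨i.val, ?_, by simp [gg, i.isLt]⟩
    fin_cases i <;> simp
  rw [Nat.card_congr (MonoidHom.ofInjective hf).toEquiv]
  exact (Nat.card_le_card_of_injective _ (Subgroup.inclusion_injective hle)).trans hc

section Square

variable {Γ : Type u} [Group Γ] {T : Fin 7 → Γ}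

theorem rot {x y z : Γ} (hz : z ∈ Subgroup.center Γ) (h : (x * y) ^ 9 = z) : (y * x) ^ 9 = z := by
  have : y * x = x⁻¹ * (x * y) * x := by group
  rw [this, show x⁻¹ * (x * y) * x = x⁻¹ * (x * y) * (x⁻¹)⁻¹ by rw [inv_inv], conj_pow, h,
    Subgroup.mem_center_iff.mp hz x⁻¹, mul_assoc, mul_inv_cancel, mul_one]

/-- A central ninth power of the Coxeter element squares to the 63rd power of the common square. -/
theorem cox_sq (hb : Braids T) {e z : Γ} (he : e ∈ Subgroup.center Γ) (hs : ∀ i, T i * T i = e)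
    (hz : z ∈ Subgroup.center Γ) (h : cox T ^ 9 = z) : z * z = e ^ 63 := by
  have sw : ∀ i j, adj i j = false → ∀ x, T i * (T j * x) = T j * (T i * x) := fun i j hij x => by
    rw [← mul_assoc, hb.comm i j hij, mul_assoc]
  have h1 : ((T 2 * T 3 * T 4 * T 5 * T 6) * (T 0 * T 1)) ^ 9 = z :=
    rot hz (by rw [← h, cox]; congr 1; group)
  have h2 : ((T 4 * T 5 * T 6 * T 0 * T 1) * (T 2 * T 3)) ^ 9 = z :=
    rot hz (by rw [← h1]; congr 1; group)
  have hc : (T 4 * T 5) * (T 6 * T 0 * T 1) = (T 6 * T 0 * T 1) * (T 4 * T 5) := by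
    have c : ∀ i j, adj i j = false → Commute (T i) (T j) := hb.comm
    exact Commute.mul_left
      (((c 4 6 (by decide)).mul_right (c 4 0 (by decide))).mul_right (c 4 1 (by decide)))
      (((c 5 6 (by decide)).mul_right (c 5 0 (by decide))).mul_right (c 5 1 (by decide)))
  have h3 : ((T 4 * T 5 * T 2 * T 3) * (T 6 * T 0 * T 1)) ^ 9 = z :=
    rot hz (by
      rw [← h2]; congr 1
      calc T 6 * T 0 * T 1 * (T 4 * T 5 * T 2 * T 3)
          = (T 6 * T 0 * T 1 * (T 4 * T 5)) * (T 2 * T 3) := by group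
        _ = ((T 4 * T 5) * (T 6 * T 0 * T 1)) * (T 2 * T 3) := by rw [hc]
        _ = _ := by group)
  set a := T 0 * T 2 * T 4 with ha
  set b := T 1 * T 3 * T 5 * T 6 with hb'
  have h4 : (a * b) ^ 9 = z := by
    rw [← h3]; congr 1
    simp only [ha, hb', mul_assoc]
    rw [sw 5 2 (by decide), sw 4 2 (by decide), sw 6 0 (by decide), sw 3 0 (by decide),
      sw 5 0 (by decide), sw 4 0 (by decide), sw 2 0 (by decide), hb.comm 6 1 (by decide),
      sw 3 1 (by decide), sw 5 1 (by decide), sw 5 3 (by decide)]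
  have hec : ∀ g : Γ, g * e = e * g := Subgroup.mem_center_iff.mp he
  have sq2 : ∀ x y : Γ, ∀ k l : ℕ, Commute x y → x * x = e ^ k → y * y = e ^ l →
      (x * y) * (x * y) = e ^ (k + l) := by
    intro x y k l hxy hx hy
    rw [mul_assoc, ← mul_assoc y x y, ← hxy.eq, mul_assoc x y y, ← mul_assoc x x, hx, hy, pow_add]
  have s1 : ∀ i, T i * T i = e ^ 1 := fun i => by rw [pow_one, hs]
  have c : ∀ i j, adj i j = false → Commute (T i) (T j) := hb.comm
  have haa : a * a = e ^ 3 :=
    sq2 _ _ 2 1 ((c 0 4 (by decide)).mul_left (c 2 4 (by decide)))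
      (sq2 _ _ 1 1 (c 0 2 (by decide)) (s1 0) (s1 2)) (s1 4)
  have hbb : b * b = e ^ 4 :=
    sq2 _ _ 3 1 (((c 1 6 (by decide)).mul_left (c 3 6 (by decide))).mul_left (c 5 6 (by decide)))
      (sq2 _ _ 2 1 ((c 1 5 (by decide)).mul_left (c 3 5 (by decide)))
        (sq2 _ _ 1 1 (c 1 3 (by decide)) (s1 1) (s1 3)) (s1 5)) (s1 6)
  have h5 : (b * a) ^ 9 = z := rot hz h4
  have hee : ∀ k : ℕ, ∀ g : Γ, g * e ^ k = e ^ k * g := fun k g =>
    ((show Commute g e from hec g).pow_right k).eq
  have habba : (a * b) * (b * a) = e ^ 7 := by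
    rw [mul_assoc, ← mul_assoc b b a, hbb, ← hee 4 a, ← mul_assoc, haa, ← pow_add]
  have hcomm : Commute (a * b) (b * a) := by
    have e1 : b * a = (a * b)⁻¹ * e ^ 7 := by rw [← habba]; group
    rw [e1]
    exact ((Commute.refl (a * b)).inv_right).mul_right (hee 7 _)
  calc z * z = (a * b) ^ 9 * (b * a) ^ 9 := by rw [h4, h5]
    _ = ((a * b) * (b * a)) ^ 9 := (hcomm.mul_pow 9).symm
    _ = e ^ 63 := by rw [habba, ← pow_mul]

end Square

/-- A perfect group generated by seven involutions with the E7 relations and a central ninth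
power of the Coxeter element has order at most 1451520. -/
theorem card_le_perfect {Γ : Type u} [Group Γ] [Finite Γ] {T : Fin 7 → Γ} (hb : Braids T)
    (hs : ∀ i, T i * T i = 1) (hperf : commutator Γ = ⊤)
    (hgen : Subgroup.closure (Set.range T) = ⊤) (hzc : cox T ^ 9 ∈ Subgroup.center Γ) :
    Nat.card Γ ≤ 1451520 := by
  classical
  set z := cox T ^ 9 with hzdef
  have hz2 : z * z = 1 := by
    rw [cox_sq hb (Subgroup.one_mem _) hs hzc hzdef.symm, one_pow]
  let w : Multiplicative (ZMod 2) := Multiplicative.ofAdd 1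
  let U : Fin 7 → Γ × Multiplicative (ZMod 2) := fun i => (T i, w)
  have hU : Braids U :=
    ⟨fun i j e => Prod.ext (hb.comm i j e) (mul_comm _ _), fun i j e => Prod.ext (hb.braid i j e) rfl⟩
  have hww : w * w = 1 := by decide
  have hUs : ∀ i, U i * U i = 1 := fun i => Prod.ext (hs i) hww
  have hw63 : (w * w * w * w * w * w * w) ^ 9 = w := by decide
  have hU9 : cox U ^ 9 = (z, w) := Prod.ext (by simp [cox, hzdef, U]) (by simpa [cox, U] using hw63)
  set K := Subgroup.closure (Set.range U) with hK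
  have hfst : K.map (MonoidHom.fst Γ (Multiplicative (ZMod 2))) = ⊤ := by
    rw [hK, MonoidHom.map_closure, ← hgen]
    congr 1
    rw [← Set.range_comp]; rfl
  have hKtop : K = ⊤ := by
    have h1 : ∀ x : Γ, (x, (1 : Multiplicative (ZMod 2))) ∈ K := by
      intro x
      have hx : x ∈ (⁅K, K⁆).map (MonoidHom.fst Γ (Multiplicative (ZMod 2))) := by
        rw [Subgroup.map_commutator, hfst, ← commutator_def, hperf]; trivial
      obtain ⟨y, hy, rfl⟩ := hx
      have hy2 : y.2 = 1 := by
        have : ⁅K, K⁆ ≤ (MonoidHom.snd Γ (Multiplicative (ZMod 2))).ker := by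
          rw [Subgroup.commutator_le]
          intro p _ q _
          rw [MonoidHom.mem_ker, map_commutatorElement, commutatorElement_eq_one_iff_mul_comm]
          exact mul_comm _ _
        exact this hy
      have : y = (y.1, 1) := Prod.ext rfl hy2
      simp only [MonoidHom.coe_fst]
      rw [← this]
      exact (Subgroup.commutator_le.mpr fun p hp q hq =>
        K.mul_mem (K.mul_mem (K.mul_mem hp hq) (K.inv_mem hp)) (K.inv_mem hq)) hy
    have h2 : U 0 ∈ K := Subgroup.subset_closure ⟨0, rfl⟩
    rw [eq_top_iff]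
    rintro ⟨x, y⟩ -
    have hy : y = 1 ∨ y = w := by revert y; decide
    rcases hy with rfl | rfl
    · exact h1 x
    · have := K.mul_mem (h1 (x * (T 0)⁻¹)) h2
      simpa [U] using this
  set Z := Subgroup.zpowers ((z, w) : Γ × Multiplicative (ZMod 2)) with hZ
  have hzw : ((z, w) : Γ × Multiplicative (ZMod 2)) ∈ Subgroup.center _ := by
    rw [Subgroup.mem_center_iff]
    intro g
    exact Prod.ext (Subgroup.mem_center_iff.mp hzc g.1) (mul_comm _ _)
  haveI hn : Z.Normal := ⟨fun n hn g => by
    rw [Subgroup.mem_center_iff.mp (Subgroup.zpowers_le.mpr hzw hn) g]; simpa using hn⟩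
  have hq : Nat.card ((Γ × Multiplicative (ZMod 2)) ⧸ Z) ≤ 1451520 := by
    refine card_le (hU.map (QuotientGroup.mk' Z)) (fun i => by rw [← map_mul, hUs, map_one]) ?_ ?_
    · rw [← map_cox, ← map_pow, hU9]
      exact (QuotientGroup.eq_one_iff _).mpr (Subgroup.mem_zpowers _)
    · rw [← Function.comp_def, Set.range_comp, ← MonoidHom.map_closure, ← hK, hKtop,
        ← MonoidHom.range_eq_map, QuotientGroup.range_mk']
  have hZc : Nat.card Z ≤ 2 := by
    rw [hZ, Nat.card_zpowers]
    exact Nat.le_of_dvd two_pos (orderOf_dvd_of_pow_eq_one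
      (Prod.ext (by simp [pow_two, hz2]) (by simp [pow_two, w]; decide)))
  have hI := Subgroup.card_eq_card_quotient_mul_card_subgroup Z
  rw [Nat.card_prod, Nat.card_eq_fintype_card (α := Multiplicative (ZMod 2))] at hI
  simp at hI
  nlinarith [Nat.mul_le_mul hq hZc]

/-- A perfect central extension with lifts satisfying the relations is an isomorphism. -/
theorem ker_eq_bot {Γ : Type u} {G : Type v} [Group Γ] [Group G] [Finite Γ]
    (hG : Nat.card G = 1451520) (σ : Γ →* G) (hσ : Function.Surjective σ)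
    (hc : σ.ker ≤ Subgroup.center Γ) (hperf : commutator Γ = ⊤) {T : Fin 7 → Γ} (hb : Braids T)
    (hs : ∀ i, σ (T i) * σ (T i) = 1) (h9 : cox (fun i => σ (T i)) ^ 9 = 1)
    (hgen : Subgroup.closure (Set.range fun i => σ (T i)) = ⊤) : σ.ker = ⊥ := by
  classical
  have top_of : ∀ H : Subgroup Γ, H.map σ = ⊤ → H = ⊤ := by
    intro H hH
    rw [eq_top_iff, ← hperf, commutator_def, Subgroup.commutator_le]
    intro a _ b _
    obtain ⟨a', ha', haa⟩ : σ a ∈ H.map σ := hH ▸ Subgroup.mem_top _
    obtain ⟨b', hb', hbb⟩ : σ b ∈ H.map σ := hH ▸ Subgroup.mem_top _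
    have e1 : a'⁻¹ * a ∈ Subgroup.center Γ := hc (by simp [MonoidHom.mem_ker, haa])
    have e2 : b'⁻¹ * b ∈ Subgroup.center Γ := hc (by simp [MonoidHom.mem_ker, hbb])
    have e3 : ⁅a, b⁆ = ⁅a', b'⁆ := by
      have ea : a = a' * (a'⁻¹ * a) := by group
      have eb : b = b' * (b'⁻¹ * b) := by group
      have ca := Subgroup.mem_center_iff.mp e1
      have cb := Subgroup.mem_center_iff.mp e2
      rw [ea, eb]
      generalize a'⁻¹ * a = p at ca
      generalize b'⁻¹ * b = q at cb
      calc ⁅a' * p, b' * q⁆ = a' * (p * (b' * q)) * p⁻¹ * a'⁻¹ * (b' * q)⁻¹ := by group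
        _ = a' * ((b' * q) * p) * p⁻¹ * a'⁻¹ * (b' * q)⁻¹ := by rw [ca]
        _ = a' * b' * (q * a'⁻¹) * (b' * q)⁻¹ := by group
        _ = a' * b' * (a'⁻¹ * q) * (b' * q)⁻¹ := by rw [cb a'⁻¹]
        _ = ⁅a', b'⁆ := by group
    rw [e3]
    exact H.mul_mem (H.mul_mem (H.mul_mem ha' hb') (H.inv_mem ha')) (H.inv_mem hb')
  have squares : ∀ (T : Fin 7 → Γ), Braids T → ∀ i, T i * T i ∈ Subgroup.center Γ →
      ∀ j, adj i j = true → T j * T j = T i * T i := by
    intro T hb i hci j hij
    have h := hb.braid i j hij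
    have e1 : T j = (T i * T j) * T i * (T i * T j)⁻¹ := by rw [h]; group
    calc T j * T j = (T i * T j) * (T i * T i) * (T i * T j)⁻¹ := by
          conv_lhs => rw [e1]
          group
      _ = T i * T i := by rw [Subgroup.mem_center_iff.mp hci (T i * T j)]; group
  have hTc : ∀ i, T i * T i ∈ Subgroup.center Γ := fun i =>
    hc (by rw [MonoidHom.mem_ker, map_mul, hs])
  set e := T 0 * T 0 with he
  have hsq : ∀ i, T i * T i = e := by
    have h := fun i j hij => squares T hb i (hTc i) j hij
    have h1 := h 0 1 (by decide)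
    have h2 := (h 1 2 (by decide)).trans h1
    have h3 := (h 2 3 (by decide)).trans h2
    have h4 := (h 3 4 (by decide)).trans h3
    have h5 := (h 4 5 (by decide)).trans h4
    have h6 := (h 2 6 (by decide)).trans h2
    intro i; fin_cases i <;> assumption
  have hTgen : Subgroup.closure (Set.range T) = ⊤ :=
    top_of _ (by rw [MonoidHom.map_closure, ← Set.range_comp]; exact hgen)
  set z := cox T ^ 9 with hzdef
  have hzk : z ∈ σ.ker := by rw [MonoidHom.mem_ker, hzdef, map_pow, map_cox, h9]
  have hek : e ∈ σ.ker := by rw [MonoidHom.mem_ker, he, map_mul, hs]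
  have hz2 : z * z = e ^ 63 := cox_sq hb (hTc 0) hsq (hc hzk) hzdef.symm
  have count := Subgroup.card_eq_card_quotient_mul_card_subgroup σ.ker
  rw [Nat.card_congr (QuotientGroup.quotientKerEquivOfSurjective σ hσ).toEquiv, hG] at count
  -- the kernel is spanned by e
  set Z := Subgroup.zpowers e with hZ
  have hZk : Z ≤ σ.ker := Subgroup.zpowers_le.mpr hek
  haveI hn : Z.Normal := ⟨fun n hn g => by
    rw [Subgroup.mem_center_iff.mp (hc (hZk hn)) g]; simpa using hn⟩
  have hq : Nat.card (Γ ⧸ Z) ≤ 1451520 := by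
    refine card_le_perfect (hb.map (QuotientGroup.mk' Z)) (fun i => ?_) ?_ ?_ ?_
    · rw [← map_mul, hsq]
      exact (QuotientGroup.eq_one_iff _).mpr (Subgroup.mem_zpowers _)
    · rw [commutator_def, ← Subgroup.map_top_of_surjective _ (QuotientGroup.mk'_surjective Z),
        ← Subgroup.map_commutator, ← commutator_def, hperf]
    · rw [← Function.comp_def, Set.range_comp, ← MonoidHom.map_closure, hTgen,
        ← MonoidHom.range_eq_map, QuotientGroup.range_mk']
    · rw [← map_cox, ← map_pow, Subgroup.mem_center_iff]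
      intro g
      obtain ⟨g, rfl⟩ := QuotientGroup.mk'_surjective Z g
      rw [← map_mul, ← map_mul, Subgroup.mem_center_iff.mp (hc hzk) g]
  have hcount2 := Subgroup.card_eq_card_quotient_mul_card_subgroup Z
  have hkerZ : σ.ker = Z := by
    refine (SetLike.coe_injective (Set.eq_of_subset_of_ncard_le hZk ?_ (Set.toFinite _))).symm
    simp only [Set.ncard_def]
    show (σ.ker : Set Γ).ncard ≤ (Z : Set Γ).ncard
    rw [← Nat.card_coe_set_eq, ← Nat.card_coe_set_eq]
    show Nat.card σ.ker ≤ Nat.card Z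
    nlinarith
  obtain ⟨k, hk⟩ : ∃ k : ℤ, e ^ k = z := Subgroup.mem_zpowers_iff.mp (by rw [← hZ, ← hkerZ]; exact hzk)
  have hodd : Odd (orderOf e) := by
    have h1 : e ^ (k + k - 63) = 1 := by
      rw [zpow_sub, zpow_add, hk, hz2, ← zpow_natCast]; simp
    have h2 := orderOf_dvd_iff_zpow_eq_one.mpr h1
    rcases Nat.even_or_odd (orderOf e) with he2 | ho
    · exfalso
      obtain ⟨d, hd⟩ := he2
      obtain ⟨l, hl⟩ := h2
      rw [hd] at hl
      have h3 : (2 : ℤ) ∣ k + k - 63 := ⟨(d : ℤ) * l, by rw [hl]; push_cast; ring⟩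
      omega
    · exact ho
  obtain ⟨d, hd⟩ := hodd
  set f := e ^ d with hf
  have hfc : f ∈ Subgroup.center Γ := Subgroup.pow_mem _ (hTc 0) d
  have hfk : f ∈ σ.ker := Subgroup.pow_mem _ hek d
  have hff : e * (f * f) = 1 := by
    rw [hf, ← pow_add, ← pow_succ', show d + d + 1 = orderOf e by omega, pow_orderOf_eq_one]
  have cf := Subgroup.mem_center_iff.mp hfc
  have move : ∀ a b : Γ, a * f * (b * f) = a * b * (f * f) := fun a b => by
    rw [mul_assoc a f, ← mul_assoc f b, ← cf b]; group
  have hb' : Braids fun i => T i * f := by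
    refine ⟨fun i j hij => ?_, fun i j hij => ?_⟩
    · rw [move, move, hb.comm i j hij]
    · have m3 : ∀ a b c : Γ, a * f * (b * f) * (c * f) = a * b * c * (f * f * f) := fun a b c => by
        rw [move, mul_assoc (a * b), ← mul_assoc (f * f) c, ← (show c * (f * f) = f * f * c by
          rw [← mul_assoc, cf c, mul_assoc, cf c, mul_assoc])]
        group
      rw [m3, m3, hb.braid i j hij]
  have hs' : ∀ i, (T i * f) * (T i * f) = 1 := fun i => by rw [move, hsq, hff]
  have hσf : ∀ i, σ (T i * f) = σ (T i) := fun i => by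
    rw [map_mul, MonoidHom.mem_ker.mp hfk, mul_one]
  have hfin : Nat.card Γ ≤ 1451520 := by
    refine card_le_perfect hb' hs' hperf ?_ (hc ?_)
    · refine top_of _ ?_
      rw [MonoidHom.map_closure, ← Set.range_comp]
      convert hgen using 3
      funext i; exact hσf i
    · rw [MonoidHom.mem_ker, map_pow, map_cox]
      simp only [hσf]; exact h9
  have hpos : Nat.card σ.ker ≤ 1 := by
    have := Subgroup.card_eq_card_quotient_mul_card_subgroup σ.ker
    rw [Nat.card_congr (QuotientGroup.quotientKerEquivOfSurjective σ hσ).toEquiv, hG] at this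
    omega
  exact σ.ker.eq_bot_of_card_le hpos

end Cfsg.Agent.PSp62MultiplierE7
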