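import Mathlib
import Cfsg.Prelude.Def_Classical
import Cfsg.Agent.Lib.SymplecticBasic
import Cfsg.Agent.Lib.PSp62MultiplierE7

/-!
Seven transvections of Sp6(2) with the E7 relations generating the group, and seven permutations
of degree 28 (the action on forms of minus type) with the same relations, each of six cycles of length two.
-/

set_option autoImplicit false
set_option maxRecDepth 100000

namespace Cfsg.Agent.PSp62MultiplierData

open Cfsg.Agent.SymplecticBasic Cfsg.Agent.PSp62MultiplierE7 Matrix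

/-- the vectors as bit strings -/
abbrev V6 := Fin 3 ⊕ Fin 3 → ZMod 2

/-- decoding of a bit string -/
def vec (n : ℕ) : V6 := Sum.elim (fun i => if n.testBit i.val then 1 else 0)
  (fun i => if n.testBit (i.val + 3) then 1 else 0)

/-- the seven vectors -/
def vv : Fin 7 → ℕ := ![1, 8, 3, 16, 6, 32, 48]

/-- the seven transvections -/
def t (i : Fin 7) : symplecticGroup (Fin 3) (ZMod 2) := transv (vec (vv i)) 1

/-- the form on bit strings -/
def frm (u v : ℕ) : Bool :=
  ((u.testBit 0 && v.testBit 3) ^^ (u.testBit 3 && v.testBit 0)) ^^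
  ((u.testBit 1 && v.testBit 4) ^^ (u.testBit 4 && v.testBit 1)) ^^
  ((u.testBit 2 && v.testBit 5) ^^ (u.testBit 5 && v.testBit 2))

/-- the action on bit strings -/
def tn (i : Fin 7) (x : ℕ) : ℕ := if frm x (vv i) then x ^^^ vv i else x

theorem tn_lt : ∀ (i : Fin 7) (n : Fin 64), tn i n.val < 64 := by decide +kernel

theorem tn_ok : ∀ (i : Fin 7) (n : Fin 64),
    vec n.val + (1 * sympForm 3 (ZMod 2) (vec n.val) (vec (vv i))) • vec (vv i) = vec (tn i n.val) := by
  decide +kernel

theorem t_smul (i : Fin 7) (n : ℕ) (hn : n < 64) : t i • vec n = vec (tn i n) :=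
  (transv_smul _ _ _).trans (tn_ok i ⟨n, hn⟩)

/-- the action of a word on a bit string -/
def wn : List (Fin 7) → ℕ → ℕ
  | [], x => x
  | i :: w, x => tn i (wn w x)

theorem wn_lt : ∀ (w : List (Fin 7)) {x : ℕ}, x < 64 → wn w x < 64
  | [], _, h => h
  | i :: w, _, h => tn_lt i ⟨_, wn_lt w h⟩

theorem prod_smul : ∀ (w : List (Fin 7)) {x : ℕ}, x < 64 → (w.map t).prod • vec x = vec (wn w x)
  | [], _, _ => one_smul _ _
  | i :: w, _, h => by
    rw [List.map_cons, List.prod_cons, mul_smul, prod_smul w h, t_smul i _ (wn_lt w h)]; rfl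

theorem basis_vec : ∀ k : Fin 3 ⊕ Fin 3, ∃ n : Fin 64, (Pi.single k 1 : V6) = vec n.val := by
  decide +kernel

theorem eq_one_of_wn (w : List (Fin 7)) (h : ∀ n : Fin 64, wn w n.val = n.val) : (w.map t).prod = 1 := by
  refine ext_smul_single fun k => ?_
  obtain ⟨n, hn⟩ := basis_vec k
  rw [one_smul, hn, prod_smul w n.isLt, h n]

theorem t_sq (i : Fin 7) : t i * t i = 1 := by
  have h := eq_one_of_wn [i, i] (by revert i; decide +kernel)
  simpa using h

theorem t_cox : cox t ^ 9 = 1 := by
  have h := eq_one_of_wn (List.replicate 9 ([0, 1, 2, 3, 4, 5, 6] : List (Fin 7))).flatten (by decide +kernel)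
  rw [← h, List.map_flatten, List.map_replicate, List.prod_flatten, List.map_replicate,
    List.prod_replicate]
  simp [cox, mul_assoc]

theorem t_braids : Braids t := by
  have hinv : ∀ i, (t i)⁻¹ = t i := fun i => inv_eq_of_mul_eq_one_right (t_sq i)
  constructor
  · intro i j h
    have e := eq_one_of_wn [i, j, i, j] (by revert i j; decide +kernel)
    have e' : (t i * t j) * (t i * t j) = 1 := by simpa [mul_assoc] using e
    rw [eq_inv_of_mul_eq_one_left e', _root_.mul_inv_rev, hinv, hinv]
  · intro i j h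
    have e := eq_one_of_wn [i, j, i, j, i, j] (by revert i j; decide +kernel)
    have e' : (t i * t j * t i) * (t j * t i * t j) = 1 := by simpa [mul_assoc] using e
    rw [eq_inv_of_mul_eq_one_left e', _root_.mul_inv_rev, _root_.mul_inv_rev, hinv, hinv, mul_assoc]

/-- each vector is reached from the seven -/
def reach : List (Fin 64 × Fin 7 × Fin 64) := [(9, 1, 1), (11, 2, 8), (19, 3, 3), (51, 6, 3), (22, 4, 16), (38, 5, 6), (10, 2, 9), (27, 3, 11), (59, 6, 11), (21, 4, 19), (35, 6, 19), (54, 5, 22), (26, 3, 10), (58, 6, 10), (29, 4, 27), (43, 6, 27), (53, 5, 21), (37, 6, 21), (28, 4, 26), (42, 6, 26), (61, 5, 29), (45, 6, 29), (40, 2, 43), (5, 6, 53), (60, 5, 28), (44, 6, 28), (41, 2, 42), (13, 6, 61), (46, 2, 45), (12, 6, 60), (47, 2, 44), (33, 1, 41), (14, 2, 13), (62, 3, 46), (15, 2, 12), (39, 1, 47), (63, 3, 47), (30, 3, 14), (7, 1, 15), (31, 3, 15), (55, 3, 39), (24, 4, 30), (23, 3, 7), (25, 4, 31), (52, 2, 55), (20, 2, 23), (17, 4, 23), (4, 6, 52), (18, 4, 20), (36, 6, 20), (2, 3, 18),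 (34, 6, 18), (50, 6, 2), (49, 2, 50), (57, 1, 49), (56, 0, 57)]

/-- the vectors reached along the list -/
def reached : List (Fin 64 × Fin 7 × Fin 64) → List ℕ → List ℕ
  | [], acc => acc
  | (y, i, x) :: L, acc =>
      if acc.contains x.val && tn i x.val == y.val then reached L (y.val :: acc) else reached L acc

theorem reach_all : ∀ n : Fin 64, n.val ≠ 0 →
    (reached reach [1, 8, 3, 16, 6, 32, 48]).contains n.val = true := by decide +kernel

theorem vec_surj : ∀ x : V6, ∃ n : Fin 64, x = vec n.val := by decide +kernel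

theorem t_gen : Subgroup.closure (Set.range t) = ⊤ := by
  set K := Subgroup.closure (Set.range t)
  have step : ∀ L acc, (∀ n ∈ acc, n < 64 ∧ transv (vec n) 1 ∈ K) →
      ∀ n ∈ reached L acc, n < 64 ∧ transv (vec n) 1 ∈ K := by
    intro L
    induction L with
    | nil => exact fun acc h => h
    | cons a L ih =>
      obtain ⟨y, i, x⟩ := a
      intro acc h
      rw [reached]
      split_ifs with hc
      · refine ih _ fun n hn => ?_
        rcases List.mem_cons.mp hn with rfl | hn
        · simp only [Bool.and_eq_true, List.contains_iff_mem, beq_iff_eq] at hc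
          refine ⟨y.isLt, ?_⟩
          rw [← hc.2, ← t_smul i x.val x.isLt, ← transv_conj]
          have hti : t i ∈ K := Subgroup.subset_closure ⟨i, rfl⟩
          exact K.mul_mem (K.mul_mem hti (h _ hc.1).2) (K.inv_mem hti)
        · exact h n hn
      · exact ih _ h
  refine eq_top_of_transv fun v c => ?_
  obtain ⟨n, rfl⟩ := vec_surj v
  have hc : c = 0 ∨ c = 1 := by revert c; decide
  rcases hc with rfl | rfl
  · rw [transv_zero]; exact K.one_mem
  · by_cases hn : n.val = 0
    · have : vec n.val = 0 := by rw [hn]; decide +kernel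
      rw [this, transv_vec_zero]; exact K.one_mem
    · have hm := reach_all n hn
      rw [List.contains_iff_mem] at hm
      refine (step reach _ ?_ _ hm).2
      intro k hk
      simp only [List.mem_cons, List.not_mem_nil, or_false] at hk
      have key : ∀ i : Fin 7, vv i < 64 ∧ transv (vec (vv i)) 1 ∈ K := fun i =>
        ⟨by revert i; decide, Subgroup.subset_closure ⟨i, rfl⟩⟩
      rcases hk with rfl | rfl | rfl | rfl | rfl | rfl | rfl
      exacts [key 0, key 1, key 2, key 3, key 4, key 5, key 6]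

/-- six disjoint cycles of length two for each generator -/
def pairs : Fin 7 → List (Fin 28 × Fin 28) := ![
  [(4, 5), (6, 7), (12, 13), (14, 15), (20, 21), (22, 23)],
  [(4, 9), (6, 11), (12, 18), (14, 19), (20, 25), (22, 26)],
  [(8, 9), (10, 11), (12, 15), (13, 14), (24, 25), (26, 27)],
  [(0, 8), (2, 10), (12, 22), (13, 23), (16, 24), (18, 26)],
  [(0, 3), (1, 2), (20, 22), (21, 23), (24, 27), (25, 26)],
  [(0, 16), (1, 17), (4, 20), (5, 21), (8, 24), (9, 25)],
  [(0, 24), (3, 27), (6, 14), (7, 15), (8, 16), (11, 19)]]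

/-- the a-th swap of generator i -/
def pr (i : Fin 7) (a : Fin 6) : Fin 28 × Fin 28 := (pairs i).getD a.val (0, 0)

/-- the permutations -/
def p (i : Fin 7) : Equiv.Perm (Fin 28) :=
  (Equiv.swap (pr i 0).1 (pr i 0).2 * Equiv.swap (pr i 1).1 (pr i 1).2) *
  (Equiv.swap (pr i 2).1 (pr i 2).2 * Equiv.swap (pr i 3).1 (pr i 3).2) *
  (Equiv.swap (pr i 4).1 (pr i 4).2 * Equiv.swap (pr i 5).1 (pr i 5).2)

theorem p_sq : ∀ i, p i * p i = 1 := by decide +kernel

theorem p_braids : Braids p := ⟨by decide +kernel, by decide +kernel⟩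

theorem p_cox : cox p ^ 9 = 1 := by decide +kernel

theorem pr_distinct : ∀ i a b, (pr i a).1 ≠ (pr i a).2 ∧ (a ≠ b →
    (pr i a).1 ≠ (pr i b).1 ∧ (pr i a).1 ≠ (pr i b).2 ∧ (pr i a).2 ≠ (pr i b).1 ∧ (pr i a).2 ≠ (pr i b).2) := by
  decide +kernel

end Cfsg.Agent.PSp62MultiplierData
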