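import Mathlib
import Cfsg.Prelude.Def_KGroupFacts
import Cfsg.Agent.Lib.PSp62MultiplierData
import Cfsg.Agent.Lib.AltDoubleCover
import Cfsg.Agent.Lib.SchurMultiplierBasic
import Cfsg.Agent.S0245
import Cfsg.Agent.S0246
import Cfsg.Agent.S0270

/-!
The Schur multiplier of PSp6(2) has order two.
-/

set_option autoImplicit false

namespace Cfsg.Agent.PSp62Multiplier

universe u v

open Cfsg.Agent.PSp62MultiplierE7 Cfsg.Agent.PSp62MultiplierData Matrix
open scoped commutatorElement

/-- A symplectic matrix transported along a ring isomorphism. -/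
def spMap {R : Type v} {S : Type u} [CommRing R] [CommRing S] (f : R ≃+* S) :
    symplecticGroup (Fin 3) R →* symplecticGroup (Fin 3) S where
  toFun A := ⟨(A : Matrix (Fin 3 ⊕ Fin 3) (Fin 3 ⊕ Fin 3) R).map f, by
    have h := congrArg (fun M : Matrix (Fin 3 ⊕ Fin 3) (Fin 3 ⊕ Fin 3) R => M.map (f : R →+* S))
      (SymplecticGroup.mem_iff.mp A.2)
    simp only [Matrix.map_mul] at h
    have hJ : (J (Fin 3) R).map (f : R →+* S) = J (Fin 3) S := by
      simp [J, Matrix.fromBlocks_map, Matrix.map_neg, Matrix.map_one]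
    rw [hJ] at h
    exact SymplecticGroup.mem_iff.mpr h⟩
  map_one' := Subtype.ext (by simp)
  map_mul' A B := Subtype.ext (by simp)

theorem spMap_surjective {R : Type v} {S : Type u} [CommRing R] [CommRing S] (f : R ≃+* S) :
    Function.Surjective (spMap f) := fun A =>
  ⟨spMap f.symm A, Subtype.ext (Matrix.ext fun i j => by simp [spMap])⟩

variable {F : Type u} [Field F] [Fintype F]

theorem card_psp (hF : Fintype.card F = 2) : Nat.card (Cfsg.PSp 3 F) = 1451520 := by
  have h1 := Cfsg.Agent.S0245.result hF 3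
  have h2 := Cfsg.Agent.S0246.result hF 3 (by norm_num)
  have h3 := Subgroup.card_eq_card_quotient_mul_card_subgroup
    (Subgroup.center (symplecticGroup (Fin 3) F))
  rw [h1, h2] at h3
  norm_num [Finset.prod_range_succ] at h3
  exact h3.symm

theorem psp_perfect (hF : Fintype.card F = 2) : commutator (Cfsg.PSp 3 F) = ⊤ := by
  haveI := Cfsg.Agent.S0270.result (F := F) 3 (by norm_num) (by norm_num)
  haveI : Finite (Cfsg.PSp 3 F) := inferInstance
  rcases (Subgroup.commutator_normal (⊤ : Subgroup (Cfsg.PSp 3 F)) ⊤).eq_bot_or_eq_top with h | h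
  · exfalso
    have hc : ∀ a b : Cfsg.PSp 3 F, a * b = b * a := fun a b => by
      have := Subgroup.commutator_mem_commutator (Subgroup.mem_top a) (Subgroup.mem_top b)
      rw [h, Subgroup.mem_bot, commutatorElement_eq_one_iff_mul_comm] at this
      exact this
    letI : CommGroup (Cfsg.PSp 3 F) := { (inferInstance : Group (Cfsg.PSp 3 F)) with mul_comm := hc }
    have hp := (IsSimpleGroup.prime_card (α := Cfsg.PSp 3 F))
    rw [card_psp hF] at hp
    norm_num at hp
  · rw [commutator_def]; exact h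

/-- the quotient map from Sp6 over ZMod 2 -/
noncomputable def phi (hF : Fintype.card F = 2) : symplecticGroup (Fin 3) (ZMod 2) →* Cfsg.PSp 3 F :=
  (QuotientGroup.mk' _).comp (spMap (ZMod.ringEquivOfPrime F Nat.prime_two hF))

/-- the images of the seven transvections -/
noncomputable def tF (hF : Fintype.card F = 2) (i : Fin 7) : Cfsg.PSp 3 F := phi hF (t i)

theorem phi_surjective (hF : Fintype.card F = 2) : Function.Surjective (phi hF) :=
  (QuotientGroup.mk'_surjective _).comp (spMap_surjective _)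

theorem tF_sq (hF : Fintype.card F = 2) (i : Fin 7) : tF hF i * tF hF i = 1 :=
  by rw [tF, ← map_mul, t_sq, map_one]

theorem tF_braids (hF : Fintype.card F = 2) : Braids (tF hF) := t_braids.map (phi hF)

theorem tF_cox (hF : Fintype.card F = 2) : cox (tF hF) ^ 9 = 1 := by
  show cox (fun i => phi hF (t i)) ^ 9 = 1
  rw [← map_cox, ← map_pow, t_cox, map_one]

theorem tF_gen (hF : Fintype.card F = 2) : Subgroup.closure (Set.range (tF hF)) = ⊤ := by
  show Subgroup.closure (Set.range (phi hF ∘ t)) = ⊤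
  rw [Set.range_comp, ← MonoidHom.map_closure, t_gen, ← MonoidHom.range_eq_map,
    MonoidHom.range_eq_top.mpr (phi_surjective hF)]

set_option maxHeartbeats 800000 in
/-- Stem extensions have kernel of order at most two. -/
theorem upper (hF : Fintype.card F = 2) {Γ : Type u} [Group Γ] [Finite Γ] (σ : Γ →* Cfsg.PSp 3 F)
    (hσ : Cfsg.IsStemExtension σ) :
    ∃ π : Multiplicative (ZMod 2) →* σ.ker, Function.Surjective π := by
  classical
  obtain ⟨hsur, hcen, hcom⟩ := hσ
  have hperf : commutator Γ = ⊤ := by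
    have h : (commutator Γ).map σ = ⊤ := by
      rw [commutator_def, Subgroup.map_commutator, Subgroup.map_top_of_surjective _ hsur,
        ← commutator_def, psp_perfect hF]
    rw [eq_top_iff]
    intro x _
    obtain ⟨c, hc, hcx⟩ : σ x ∈ (commutator Γ).map σ := h ▸ Subgroup.mem_top _
    have : c⁻¹ * x ∈ σ.ker := by simp [MonoidHom.mem_ker, hcx]
    simpa using (commutator Γ).mul_mem hc (hcom this)
  have cen : ∀ {x : Γ}, σ x = 1 → x ∈ Subgroup.center Γ := fun h => hcen (MonoidHom.mem_ker.mpr h)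
  choose S hS using fun i => hsur (tF hF i)
  let nxt : Fin 7 → Γ → Γ := fun j a => (a * S j) * a * (a * S j)⁻¹
  let T0 := S 0
  let T1 := nxt 1 T0
  let T2 := nxt 2 T1
  let T3 := nxt 3 T2
  let T4 := nxt 4 T3
  let T5 := nxt 5 T4
  let T6 := nxt 6 T2
  let T : Fin 7 → Γ := ![T0, T1, T2, T3, T4, T5, T6]
  have hnxt : ∀ p j a, adj p j = true → σ a = tF hF p → σ (nxt j a) = tF hF j ∧
      a * nxt j a * a = nxt j a * a * nxt j a := by
    intro p j a hpj ha
    have hb := (tF_braids hF).braid p j hpj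
    have h1 : σ (nxt j a) = tF hF j := by
      simp only [nxt, map_mul, map_inv, ha, hS]
      rw [hb]; group
    refine ⟨h1, ?_⟩
    have hc : (S j)⁻¹ * nxt j a ∈ Subgroup.center Γ := cen (by simp [h1, hS])
    obtain ⟨c, hc, hcj⟩ : ∃ c ∈ Subgroup.center Γ, nxt j a = S j * c := ⟨_, hc, by group⟩
    have cc := Subgroup.mem_center_iff.mp hc
    have h2 : nxt j a = (a * nxt j a) * a * (a * nxt j a)⁻¹ := by
      conv_rhs => rw [hcj]
      calc nxt j a = (a * S j) * a * (a * S j)⁻¹ := rfl
        _ = (a * S j) * (a * c) * c⁻¹ * (a * S j)⁻¹ := by group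
        _ = (a * S j) * (c * a) * c⁻¹ * (a * S j)⁻¹ := by rw [cc a]
        _ = _ := by group
    calc a * nxt j a * a = ((a * nxt j a) * a * (a * nxt j a)⁻¹) * (a * nxt j a) := by group
      _ = nxt j a * (a * nxt j a) := by rw [← h2]
      _ = _ := by group
  have s0 : σ T0 = tF hF 0 := hS 0
  obtain ⟨s1, b1⟩ := hnxt 0 1 T0 (by decide) s0
  obtain ⟨s2, b2⟩ := hnxt 1 2 T1 (by decide) s1
  obtain ⟨s3, b3⟩ := hnxt 2 3 T2 (by decide) s2
  obtain ⟨s4, b4⟩ := hnxt 3 4 T3 (by decide) s3
  obtain ⟨s5, b5⟩ := hnxt 4 5 T4 (by decide) s4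
  obtain ⟨s6, b6⟩ := hnxt 2 6 T2 (by decide) s2
  have sT : ∀ i, σ (T i) = tF hF i := fun i => by fin_cases i <;> assumption
  have bT : ∀ i j, adj i j = true → T i * T j * T i = T j * T i * T j := by
    intro i j h
    fin_cases i <;> fin_cases j <;> first | exact absurd h (by decide) | assumption | (exact Eq.symm ‹_›)
  -- commutators of commuting generators
  set g : Fin 7 → Fin 7 → Γ := fun i j => ⁅T i, T j⁆ with hg
  have gker : ∀ i j, adj i j = false → σ (g i j) = 1 := by
    intro i j h
    rw [hg, map_commutatorElement, sT, sT, commutatorElement_eq_one_iff_mul_comm]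
    exact (tF_braids hF).comm i j h
  have gsq : ∀ i j, adj i j = false → g i j * g i j = 1 := by
    intro i j h
    have c1 := Subgroup.mem_center_iff.mp (cen (gker i j h))
    have c2 := Subgroup.mem_center_iff.mp (cen (x := T j * T j) (by rw [map_mul, sT, tF_sq]))
    have e : T i * T j = g i j * T j * T i := by simp only [hg, commutatorElement_def]; group
    have e2 : T i * (T j * T j) = g i j * g i j * (T j * T j) * T i := by
      calc T i * (T j * T j) = (T i * T j) * T j := by group
        _ = (g i j * T j * T i) * T j := by rw [← e]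
        _ = g i j * T j * (T i * T j) := by group
        _ = g i j * T j * (g i j * T j * T i) := by rw [e]
        _ = g i j * (T j * g i j) * T j * T i := by group
        _ = g i j * (g i j * T j) * T j * T i := by rw [c1 (T j)]
        _ = _ := by group
    rw [c2 (T i)] at e2
    calc g i j * g i j = (g i j * g i j * (T j * T j) * T i) * ((T j * T j) * T i)⁻¹ := by group
      _ = 1 := by rw [← e2]; group
  have gsymm : ∀ i j, adj i j = false → g j i = g i j := by
    intro i j h
    have : g j i = (g i j)⁻¹ := (commutatorElement_inv _ _).symm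
    rw [this]
    exact inv_eq_of_mul_eq_one_right (gsq i j h)
  have move : ∀ i j k, adj j k = true → adj i j = false → adj i k = false → g i k = g i j := by
    intro i j k hjk hij hik
    set u := T j * T k with hu
    have ek : T k = u * T j * u⁻¹ := by rw [hu, bT j k hjk]; group
    have hz : σ (u⁻¹ * T i * u * (T i)⁻¹) = 1 := by
      have c1 := (tF_braids hF).comm i j hij
      have c2 := (tF_braids hF).comm i k hik
      rw [hu]
      simp only [map_mul, map_inv, sT]
      calc (tF hF j * tF hF k)⁻¹ * tF hF i * (tF hF j * tF hF k) * (tF hF i)⁻¹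
          = (tF hF j * tF hF k)⁻¹ * ((tF hF i * tF hF j) * tF hF k) * (tF hF i)⁻¹ := by group
        _ = (tF hF j * tF hF k)⁻¹ * (tF hF j * (tF hF i * tF hF k)) * (tF hF i)⁻¹ := by rw [c1]; group
        _ = 1 := by rw [c2]; group
    have c3 := Subgroup.mem_center_iff.mp (cen hz)
    obtain ⟨c, hcc, hc⟩ : ∃ c, (∀ y, y * c = c * y) ∧ u⁻¹ * T i * u = c * T i :=
      ⟨_, c3, by group⟩
    have c4 := Subgroup.mem_center_iff.mp (cen (gker i j hij))
    show ⁅T i, T k⁆ = g i j
    calc ⁅T i, T k⁆ = u * ((u⁻¹ * T i * u) * T j * (u⁻¹ * T i * u)⁻¹ * (T j)⁻¹) * u⁻¹ := by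
          rw [ek]; simp only [commutatorElement_def]; group
      _ = u * ((c * T i) * T j * (c * T i)⁻¹ * (T j)⁻¹) * u⁻¹ := by rw [hc]
      _ = u * (c * (T i * T j * (T i)⁻¹) * c⁻¹ * (T j)⁻¹) * u⁻¹ := by group
      _ = u * ((T i * T j * (T i)⁻¹) * c * c⁻¹ * (T j)⁻¹) * u⁻¹ := by rw [← hcc (T i * T j * (T i)⁻¹)]
      _ = u * g i j * u⁻¹ := by simp only [hg, commutatorElement_def]; group
      _ = g i j := by rw [c4 u]; group
  set c := g 0 2 with hcdef
  have d03 : g 0 3 = c := (move 0 2 3 (by decide) (by decide) (by decide)).trans hcdef.symm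
  have d04 : g 0 4 = c := (move 0 3 4 (by decide) (by decide) (by decide)).trans d03
  have d05 : g 0 5 = c := (move 0 4 5 (by decide) (by decide) (by decide)).trans d04
  have d06 : g 0 6 = c := (move 0 2 6 (by decide) (by decide) (by decide)).trans hcdef.symm
  have d15 : g 1 5 = c := by
    rw [← gsymm 1 5 (by decide), move 5 0 1 (by decide) (by decide) (by decide), gsymm 0 5 (by decide), d05]
  have d25 : g 2 5 = c := by
    rw [← gsymm 2 5 (by decide), move 5 1 2 (by decide) (by decide) (by decide), gsymm 1 5 (by decide), d15]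
  have d35 : g 3 5 = c := by
    rw [← gsymm 3 5 (by decide), move 5 2 3 (by decide) (by decide) (by decide), gsymm 2 5 (by decide), d25]
  have d65 : g 5 6 = c := by
    rw [move 5 2 6 (by decide) (by decide) (by decide), gsymm 2 5 (by decide), d25]
  have d14 : g 1 4 = c := (move 1 5 4 (by decide) (by decide) (by decide)).trans d15
  have d13 : g 1 3 = c := (move 1 4 3 (by decide) (by decide) (by decide)).trans d14
  have d16 : g 1 6 = c := by
    rw [← gsymm 1 6 (by decide), move 6 0 1 (by decide) (by decide) (by decide), gsymm 0 6 (by decide), d06]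
  have d24 : g 2 4 = c := by
    rw [← gsymm 2 4 (by decide), move 4 1 2 (by decide) (by decide) (by decide), gsymm 1 4 (by decide), d14]
  have d46 : g 4 6 = c := by
    rw [← gsymm 4 6 (by decide), move 6 5 4 (by decide) (by decide) (by decide), gsymm 5 6 (by decide), d65]
  have d36 : g 3 6 = c := by
    rw [← gsymm 3 6 (by decide), move 6 4 3 (by decide) (by decide) (by decide), gsymm 4 6 (by decide), d46]
  have hall : ∀ i j, adj i j = false → g i j = 1 ∨ g i j = c := by
    have aux : ∀ i j : Fin 7, i < j → adj i j = false → g i j = c := by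
      intro i j hij h
      have hmem : (i, j) ∈ [((0 : Fin 7), (2 : Fin 7)), (0, 3), (0, 4), (0, 5), (0, 6), (1, 3), (1, 4),
          (1, 5), (1, 6), (2, 4), (2, 5), (3, 5), (3, 6), (4, 6), (5, 6)] := by
        revert hij h; revert i j; decide
      simp only [List.mem_cons, Prod.mk.injEq, List.not_mem_nil, or_false] at hmem
      rcases hmem with ⟨rfl, rfl⟩ | ⟨rfl, rfl⟩ | ⟨rfl, rfl⟩ | ⟨rfl, rfl⟩ | ⟨rfl, rfl⟩ | ⟨rfl, rfl⟩ | ⟨rfl, rfl⟩ |
        ⟨rfl, rfl⟩ | ⟨rfl, rfl⟩ | ⟨rfl, rfl⟩ | ⟨rfl, rfl⟩ | ⟨rfl, rfl⟩ | ⟨rfl, rfl⟩ | ⟨rfl, rfl⟩ | ⟨rfl, rfl⟩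
      exacts [hcdef.symm, d03, d04, d05, d06, d13, d14, d15, d16, d24, d25, d35, d36, d46, d65]
    intro i j h
    rcases lt_trichotomy i j with hij | rfl | hij
    · exact Or.inr (aux i j hij h)
    · exact Or.inl (by rw [hg]; exact commutatorElement_self _)
    · have h' : adj j i = false := by revert h; revert i j; decide
      exact Or.inr ((gsymm j i h').trans (aux j i hij h'))
  set Z := Subgroup.zpowers c with hZ
  have hcz : σ c = 1 := gker 0 2 (by decide)
  have hZk : Z ≤ σ.ker := Subgroup.zpowers_le.mpr hcz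
  haveI hn : Z.Normal := ⟨fun n hn g => by
    rw [Subgroup.mem_center_iff.mp (hcen (hZk hn)) g]; simpa using hn⟩
  let σ' : Γ ⧸ Z →* Cfsg.PSp 3 F := QuotientGroup.lift Z σ hZk
  have hsur' : Function.Surjective σ' := fun y => by
    obtain ⟨x, rfl⟩ := hsur y; exact ⟨QuotientGroup.mk' Z x, rfl⟩
  have hb : Braids fun i => QuotientGroup.mk' Z (T i) := by
    refine ⟨fun i j h => ?_, fun i j h => by simp only [← map_mul]; rw [bT i j h]⟩
    rw [← commutatorElement_eq_one_iff_mul_comm, ← map_commutatorElement]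
    refine (QuotientGroup.eq_one_iff _).mpr ?_
    rcases hall i j h with h1 | h1 <;> simp only [hg] at h1 <;> rw [h1]
    · exact Z.one_mem
    · exact Subgroup.mem_zpowers _
  have hbot : σ'.ker = ⊥ := by
    refine ker_eq_bot (card_psp hF) σ' hsur' ?_ ?_ hb ?_ ?_ ?_
    · intro x hx
      obtain ⟨x, rfl⟩ := QuotientGroup.mk'_surjective Z x
      rw [Subgroup.mem_center_iff]
      intro y
      obtain ⟨y, rfl⟩ := QuotientGroup.mk'_surjective Z y
      rw [← map_mul, ← map_mul, Subgroup.mem_center_iff.mp (cen hx) y]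
    · rw [commutator_def, ← Subgroup.map_top_of_surjective _ (QuotientGroup.mk'_surjective Z),
        ← Subgroup.map_commutator, ← commutator_def, hperf]
    · intro i
      show σ (T i) * σ (T i) = 1
      rw [sT, tF_sq]
    · have : (fun i => σ' (QuotientGroup.mk' Z (T i))) = tF hF := funext sT
      rw [this, tF_cox]
    · have : (fun i => σ' (QuotientGroup.mk' Z (T i))) = tF hF := funext sT
      rw [this, tF_gen]
  have hker : ∀ x : σ.ker, x.1 ∈ Z := by
    intro x
    have : QuotientGroup.mk' Z x.1 ∈ σ'.ker := x.2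
    rw [hbot, Subgroup.mem_bot] at this
    exact (QuotientGroup.eq_one_iff _).mp this
  refine Cfsg.Agent.SchurMultiplierBasic.exists_surjective_zmod 2 (⟨c, hcz⟩ : σ.ker)
    (Subtype.ext (by rw [pow_two]; exact gsq 0 2 (by decide))) fun y => ?_
  obtain ⟨k, hk⟩ := hker y
  exact ⟨k, Subtype.ext (by simpa using hk)⟩

/-- A homomorphism to the alternating group of degree 28 sending each transvection to six swaps. -/
theorem exists_pi (hF : Fintype.card F = 2) :
    ∃ π : Cfsg.PSp 3 F →* Equiv.Perm (Fin 28), (∀ i, π (tF hF i) = p i) ∧ ∀ g, π g ∈ alternatingGroup (Fin 28) := by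
  classical
  let U : Fin 7 → Cfsg.PSp 3 F × Equiv.Perm (Fin 28) := fun i => (tF hF i, p i)
  set K := Subgroup.closure (Set.range U) with hK
  let U' : Fin 7 → K := fun i => ⟨U i, Subgroup.subset_closure ⟨i, rfl⟩⟩
  have hU : Braids U' :=
    ⟨fun i j e => Subtype.ext (Prod.ext ((tF_braids hF).comm i j e) (p_braids.comm i j e)),
      fun i j e => Subtype.ext (Prod.ext ((tF_braids hF).braid i j e) (p_braids.braid i j e))⟩
  have hgen : Subgroup.closure (Set.range U') = ⊤ := by
    refine Subgroup.map_injective K.subtype_injective ?_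
    rw [MonoidHom.map_closure, ← Set.range_comp, ← MonoidHom.range_eq_map, Subgroup.range_subtype]
    rfl
  have hK' : Nat.card K ≤ 1451520 :=
    card_le hU (fun i => Subtype.ext (Prod.ext (tF_sq hF i) (p_sq i)))
      (Subtype.ext (Prod.ext (by simpa [cox, U', U] using tF_cox hF) (by simpa [cox, U', U] using p_cox)))
      hgen
  let q : K →* Cfsg.PSp 3 F := (MonoidHom.fst _ _).comp K.subtype
  have hq : Function.Surjective q := by
    rw [← MonoidHom.range_eq_top, eq_top_iff, ← tF_gen hF, Subgroup.closure_le]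
    rintro _ ⟨i, rfl⟩
    exact ⟨U' i, rfl⟩
  have hbij : Function.Bijective q :=
    (Nat.bijective_iff_surjective_and_card q).mpr ⟨hq, by
      refine le_antisymm (by rw [card_psp hF]; exact hK') (Nat.card_le_card_of_surjective q hq)⟩
  let e : K ≃* Cfsg.PSp 3 F := MulEquiv.ofBijective q hbij
  have he : ∀ i, e.symm (tF hF i) = U' i := fun i => by
    rw [MulEquiv.symm_apply_eq]; rfl
  refine ⟨((MonoidHom.snd _ _).comp K.subtype).comp e.symm.toMonoidHom, fun i => by simp [he, U', U], ?_⟩
  have hle : K ≤ (alternatingGroup (Fin 28)).comap (MonoidHom.snd (Cfsg.PSp 3 F) _) := by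
    rw [hK, Subgroup.closure_le]
    rintro _ ⟨i, rfl⟩
    show p i ∈ alternatingGroup (Fin 28)
    rw [Equiv.Perm.mem_alternatingGroup]
    have hs : ∀ a, Equiv.Perm.sign (Equiv.swap (pr i a).1 (pr i a).2) = -1 := fun a =>
      Equiv.Perm.sign_swap (pr_distinct i a a).1
    simp [p, hs]
  exact fun g => hle (e.symm g).2

/-- The double cover. -/
theorem exists_cover (hF : Fintype.card F = 2) :
    ∃ (Γ : Type u) (_ : Group Γ) (_ : Finite Γ) (σ : Γ →* Cfsg.PSp 3 F),
      Cfsg.IsStemExtension σ ∧ Nonempty (σ.ker ≃* Multiplicative (ZMod 2)) := by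
  classical
  obtain ⟨π, hπ, hA⟩ := exists_pi hF
  let π' : Cfsg.PSp 3 F →* alternatingGroup (Fin 28) := π.codRestrict _ hA
  let K : Subgroup (Cfsg.PSp 3 F × AltDoubleCover.cover 28) :=
    (π'.comp (MonoidHom.fst _ _)).eqLocus ((AltDoubleCover.proj 28).comp (MonoidHom.snd _ _))
  let σ : K →* Cfsg.PSp 3 F := (MonoidHom.fst _ _).comp K.subtype
  have hsur : Function.Surjective σ := fun g => by
    obtain ⟨x, hx⟩ := AltDoubleCover.proj_surjective 28 (π' g)
    exact ⟨⟨(g, x), hx.symm⟩, rfl⟩
  let zK : K := ⟨(1, AltDoubleCover.z 28), by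
    show π' 1 = AltDoubleCover.proj 28 (AltDoubleCover.z 28)
    rw [map_one, AltDoubleCover.proj_z]⟩
  have hker : ∀ x : K, σ x = 1 → x = 1 ∨ x = zK := by
    rintro ⟨⟨g, x⟩, hgx⟩ (rfl : g = 1)
    have : AltDoubleCover.proj 28 x = 1 := by
      rw [← map_one π']; exact hgx.symm
    rcases AltDoubleCover.eq_one_or_z this with rfl | rfl
    · exact Or.inl rfl
    · exact Or.inr rfl
  have hz : σ zK = 1 := rfl
  have hcen : σ.ker ≤ Subgroup.center K := by
    intro x hx
    rcases hker x hx with rfl | rfl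
    · exact Subgroup.one_mem _
    · rw [Subgroup.mem_center_iff]
      intro g
      exact Subtype.ext (Prod.ext (by simp [zK])
        (Subgroup.mem_center_iff.mp (AltDoubleCover.z_mem_center 28) g.1.2))
  -- lifts of the first transvection square to the central involution
  let d : ∀ a b : Fin 6, a ≠ b → AltDoubleCover.Disj (pr 0 a).1 (pr 0 a).2 (pr 0 b).1 (pr 0 b).2 :=
    fun a b h => (pr_distinct 0 a b).2 h
  let P : Fin 6 → Fin 6 → AltDoubleCover.cover 28 := fun a b =>
    AltDoubleCover.pairLift (pr 0 a).1 (pr 0 a).2 (pr 0 b).1 (pr 0 b).2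
      (pr_distinct 0 a a).1 (pr_distinct 0 b b).1
  have hP : ∀ a b, a ≠ b → P a b * P a b = AltDoubleCover.z 28 := fun a b h =>
    AltDoubleCover.pairLift_sq _ _ (d a b h)
  have hC : ∀ a b c e, a ≠ c → a ≠ e → b ≠ c → b ≠ e → Commute (P a b) (P c e) :=
    fun a b c e h1 h2 h3 h4 =>
      AltDoubleCover.pairLift_comm _ _ _ _ (d a c h1) (d a e h2) (d b c h3) (d b e h4)
  let x0 := P 0 1 * P 2 3 * P 4 5
  have hx0 : x0 * x0 = AltDoubleCover.z 28 := by
    have c1 := hC 0 1 2 3 (by decide) (by decide) (by decide) (by decide)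
    have c2 := (hC 0 1 4 5 (by decide) (by decide) (by decide) (by decide)).mul_left
      (hC 2 3 4 5 (by decide) (by decide) (by decide) (by decide))
    calc x0 * x0 = (P 0 1 * P 2 3) * (P 4 5 * (P 0 1 * P 2 3)) * P 4 5 := by simp only [x0]; group
      _ = (P 0 1 * P 2 3) * ((P 0 1 * P 2 3) * P 4 5) * P 4 5 := by rw [c2.eq]
      _ = P 0 1 * (P 2 3 * P 0 1) * P 2 3 * (P 4 5 * P 4 5) := by group
      _ = P 0 1 * (P 0 1 * P 2 3) * P 2 3 * (P 4 5 * P 4 5) := by rw [c1.eq]
      _ = (P 0 1 * P 0 1) * (P 2 3 * P 2 3) * (P 4 5 * P 4 5) := by group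
      _ = _ := by
        rw [hP 0 1 (by decide), hP 2 3 (by decide), hP 4 5 (by decide), AltDoubleCover.z_sq, one_mul]
  have hx0p : AltDoubleCover.proj 28 x0 = π' (tF hF 0) := by
    apply Subtype.ext
    show (AltDoubleCover.proj 28 x0 : Equiv.Perm (Fin 28)) = π (tF hF 0)
    rw [hπ]
    simp only [x0, P, map_mul, Subgroup.coe_mul, AltDoubleCover.proj_pairLift]
    rfl
  have hcom : σ.ker ≤ commutator K := by
    by_contra hne
    have hb : ∀ x : K, x ∈ commutator K → σ x = 1 → x = 1 := by
      intro x hx hx1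
      rcases hker x hx1 with rfl | rfl
      · rfl
      · refine absurd (fun y hy => ?_) hne
        rcases hker y hy with rfl | rfl
        · exact Subgroup.one_mem _
        · exact hx
    have hmap : (commutator K).map σ = ⊤ := by
      rw [commutator_def, Subgroup.map_commutator, Subgroup.map_top_of_surjective _ hsur,
        ← commutator_def, psp_perfect hF]
    obtain ⟨w, hw, hwt⟩ : tF hF 0 ∈ (commutator K).map σ := hmap ▸ Subgroup.mem_top _
    have hw2 : w * w = 1 := hb _ (Subgroup.mul_mem _ hw hw) (by rw [map_mul, hwt, tF_sq])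
    have hwp : AltDoubleCover.proj 28 w.1.2 = π' (tF hF 0) := by
      rw [← hwt]; exact w.2.symm
    have hdiff : AltDoubleCover.proj 28 (x0⁻¹ * w.1.2) = 1 := by
      rw [map_mul, map_inv, hx0p, hwp, inv_mul_cancel]
    have hw22 : w.1.2 * w.1.2 = 1 := by
      have := congrArg (fun x : K => (x : Cfsg.PSp 3 F × AltDoubleCover.cover 28).2) hw2
      simpa only [Subgroup.coe_mul, Prod.snd_mul, Subgroup.coe_one, Prod.snd_one] using this
    have hzc := Subgroup.mem_center_iff.mp (AltDoubleCover.z_mem_center 28)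
    refine AltDoubleCover.z_ne_one 28 ?_
    rcases AltDoubleCover.eq_one_or_z hdiff with h | h
    · rw [inv_mul_eq_one] at h
      rw [← hx0, h, hw22]
    · rw [inv_mul_eq_iff_eq_mul] at h
      calc AltDoubleCover.z 28 = (x0 * x0) * (AltDoubleCover.z 28 * AltDoubleCover.z 28) := by
            rw [AltDoubleCover.z_sq, mul_one, hx0]
        _ = x0 * (x0 * AltDoubleCover.z 28) * AltDoubleCover.z 28 := by group
        _ = x0 * (AltDoubleCover.z 28 * x0) * AltDoubleCover.z 28 := by rw [hzc x0]
        _ = w.1.2 * w.1.2 := by rw [h]; group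
        _ = 1 := hw22
  refine ⟨K, inferInstance, inferInstance, σ, ⟨hsur, hcen, hcom⟩, ?_⟩
  have hzne : zK ≠ 1 := fun h => AltDoubleCover.z_ne_one 28 (congrArg (fun x : K => x.1.2) h)
  have hcard : Nat.card σ.ker = 2 := by
    rw [Nat.card_eq_two_iff]
    refine ⟨⟨1, map_one σ⟩, ⟨zK, hz⟩, fun h => hzne (Subtype.ext_iff.mp h).symm, ?_⟩
    ext x
    simp only [Set.mem_insert_iff, Set.mem_singleton_iff, Set.mem_univ, iff_true]
    rcases hker x.1 x.2 with h | h
    · exact Or.inl (Subtype.ext h)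
    · exact Or.inr (Subtype.ext h)
  exact ⟨mulEquivOfPrimeCardEq (p := 2) hcard (by simp)⟩

/-- The Schur multiplier of PSp6(2). -/
theorem hasMultiplier (hF : Fintype.card F = 2) : Cfsg.HasCyclicSchurMultiplier (Cfsg.PSp 3 F) 2 :=
  ⟨exists_cover hF, fun _ _ _ σ hσ => upper hF σ hσ⟩

end Cfsg.Agent.PSp62Multiplier
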