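import Cfsg.Agent.Lib.OrthStemOdd
import Cfsg.Agent.Lib.SymplecticAlt
import Cfsg.Agent.Lib.PSp62Multiplier
import Cfsg.Agent.Lib.SteinbergOrth
import Mathlib

/-!
In characteristic two the kernel of a group with equivariant lifts of Siegel transformations is trivial:
the lifts inside the orthogonal complement of a non-singular vector give a stem extension of a
symplectic group.
-/

set_option autoImplicit false

namespace Cfsg.Agent.OrthStemEven

open QuadraticMap Matrix
open Cfsg.Agent.OrthUnitaryQuad Cfsg.Agent.OrthUnitaryRefl Cfsg.Agent.OrthUnitaryOmega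
open Cfsg.Agent.SymplecticBasic
open Cfsg.Agent.OrthStemGeom Cfsg.Agent.OrthStemSys Cfsg.Agent.OrthStemStep
open Cfsg.Agent.OrthStemRestrict

universe uF uV

variable {F : Type uF} [Field F] {V : Type uV} [AddCommGroup V] [Module F V] {m : ℕ}

local notation "𝕏" => (Fin m ⊕ Fin m → F)

/-- Symplectic coordinates on the complement of a hyperbolic pair. -/
structure Coord (Q : QuadraticForm F V) (m : ℕ) where
  e : V
  f : V
  he : Q e = 0
  hf : Q f = 0
  hef : polar Q e f = 1
  ι : (Fin m ⊕ Fin m → F) →ₗ[F] V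
  κ : V →ₗ[F] (Fin m ⊕ Fin m → F)
  ι_mem : ∀ c, ι c ∈ split Q ⊤ e f
  κι : ∀ c, κ (ι c) = c
  ι_surj : ∀ y ∈ split Q ⊤ e f, ι (κ y) = y
  form : ∀ u v, polar Q (ι u) (ι v) = sympForm m F u v
  κe : κ e = 0
  κf : κ f = 0
  two : (2 : F) = 0

theorem exists_coord [FiniteDimensional F V] {Q : QuadraticForm F V} (h2 : (2 : F) = 0)
    (hnd : (polarBilin Q).Nondegenerate) {e f : V} (he : Q e = 0) (hf : Q f = 0) (hef : polar Q e f = 1) :
    ∃ m, Module.finrank F V = 2 * m + 2 ∧ ∃ C : Coord Q m, C.e = e ∧ C.f = f := by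
  classical
  have hW := Nd.split (W := ⊤) Submodule.mem_top Submodule.mem_top he hf hef (nd_top hnd)
  have hd := finrank_split (W := ⊤) Submodule.mem_top Submodule.mem_top he hf hef
  rw [finrank_top] at hd
  have halt : ∀ v, polarBilin Q v v = 0 := fun v => by
    rw [polarBilin_apply_apply, polar_self_mul, h2, zero_mul]
  obtain ⟨k, hk, b, hb, hB⟩ := SymplecticAlt.exists_symp_basis (polarBilin Q) halt _ (split Q ⊤ e f) rfl
    (fun u hu h => hW u hu fun y hy => h y hy)
  let ι : (Fin k ⊕ Fin k → F) →ₗ[F] V := Fintype.linearCombination F b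
  have hι1 : ∀ s, ι (Pi.single s 1) = b s := fun s => by
    simp [ι, Fintype.linearCombination_apply, Pi.single_apply]
  have hmem : ∀ c, ι c ∈ split Q ⊤ e f := fun c => by
    show Fintype.linearCombination F b c ∈ _
    rw [Fintype.linearCombination_apply]
    exact Submodule.sum_mem _ fun s _ => Submodule.smul_mem _ _ (hb s)
  have hform : ∀ u v, polar Q (ι u) (ι v) = sympForm k F u v := by
    intro u v
    have h : (polarBilin Q).compl₁₂ ι ι = LinearMap.mk₂ F (sympForm k F) form_add_left form_smul_left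
        form_add_right form_smul_right := by
      refine LinearMap.ext_basis (Pi.basisFun F _) (Pi.basisFun F _) fun s t => ?_
      simp only [Pi.basisFun_apply, LinearMap.compl₁₂_apply, LinearMap.mk₂_apply, hι1]
      exact hB s t
    exact congrArg (fun B => B u v) h
  let κ : V →ₗ[F] (Fin k ⊕ Fin k → F) := LinearMap.pi fun s => (polarBilin Q).flip (b s.swap)
  have hκι : ∀ c, κ (ι c) = c := fun c => funext fun s => by
    show polar Q (ι c) (b s.swap) = c s
    rw [← hι1, hform]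
    have hneg : ∀ x : F, -x = x := fun x => by linear_combination -x * h2
    rcases s with i | i <;> simp [form_single_inl_right, form_single_inr_right, hneg]
  have hinj : Function.Injective ι := fun a c h => by rw [← hκι a, ← hκι c, h]
  have hrange : LinearMap.range ι = split Q ⊤ e f := by
    refine Submodule.eq_of_le_of_finrank_eq ?_ ?_
    · rintro _ ⟨c, rfl⟩; exact hmem c
    · rw [LinearMap.finrank_range_of_inj hinj]
      simp
      omega
  have hperp : ∀ s, polar Q e (b s) = 0 ∧ polar Q f (b s) = 0 := fun s => (mem_split.1 (hb s)).2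
  refine ⟨k, by omega, ⟨e, f, he, hf, hef, ι, κ, hmem, hκι, ?_, hform, funext fun s => ?_,
    funext fun s => ?_, h2⟩, rfl, rfl⟩
  · intro y hy
    rw [← hrange] at hy
    obtain ⟨c, rfl⟩ := hy
    rw [hκι]
  · exact (hperp s.swap).1
  · exact (hperp s.swap).2

variable {Q : QuadraticForm F V} (C : Coord Q m)

/-- The non-singular vector. -/
def Coord.d : V := C.e + C.f

/-- Its orthogonal complement. -/
def Coord.W : Submodule F V := Perp Q {C.d}

theorem Coord.Qd : Q C.d = 1 := by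
  rw [Coord.d, QuadraticMap.map_add (⇑Q), C.he, C.hf, C.hef]; simp

theorem Coord.dd : polar Q C.d C.d = 0 := by rw [polar_self_mul, C.two, zero_mul]

theorem Coord.κd : C.κ C.d = 0 := by rw [Coord.d, map_add, C.κe, C.κf, add_zero]

include C in
theorem Coord.neg (x : F) : -x = x := by linear_combination -x * C.two

theorem Coord.mem_W {x : V} : x ∈ C.W ↔ polar Q C.d x = 0 := by
  rw [Coord.W, mem_perp]; simp

theorem Coord.split_le : split Q ⊤ C.e C.f ≤ C.W := fun x hx => by
  obtain ⟨-, h1, h2⟩ := mem_split.1 hx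
  rw [C.mem_W, Coord.d, polar_add_left, h1, h2, add_zero]

theorem Coord.d_mem : C.d ∈ C.W := C.mem_W.2 C.dd

theorem Coord.decomp {x : V} (hx : x ∈ C.W) : ∃ t : F, x = C.ι (C.κ x) + t • C.d := by
  obtain ⟨α, β, y, hy, rfl⟩ :=
    exists_split_eq (W := ⊤) Submodule.mem_top Submodule.mem_top C.he C.hf C.hef (Submodule.mem_top (x := x))
  obtain ⟨-, hey, hfy⟩ := mem_split.1 hy
  have h := C.mem_W.1 hx
  simp [Coord.d, polar_add_left, polar_add_right, polar_smul_right, polar_self_mul, C.he, C.hf, C.hef,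
    polar_comm Q C.f C.e, hey, hfy, C.two] at h
  have hβ : β = α := by linear_combination h - α * C.two
  refine ⟨α, ?_⟩
  simp only [map_add, map_smul, C.κe, C.κf, smul_zero, zero_add, map_zero]
  rw [C.ι_surj y hy, hβ, Coord.d, smul_add]
  abel

theorem Coord.Q_W (c : 𝕏) (t : F) : Q (C.ι c + t • C.d) = Q (C.ι c) + t ^ 2 := by
  rw [QuadraticMap.map_add (⇑Q), QuadraticMap.map_smul, C.Qd, polar_smul_right, polar_comm,
    C.mem_W.1 (C.split_le (C.ι_mem c))]
  simp [pow_two]

theorem Coord.polar_W {x y : V} (hx : x ∈ C.W) (hy : y ∈ C.W) :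
    polar Q x y = sympForm m F (C.κ x) (C.κ y) := by
  obtain ⟨t, ht⟩ := C.decomp hx
  conv_lhs => rw [ht, polar_add_left, polar_smul_left, C.mem_W.1 hy, smul_zero, add_zero]
  obtain ⟨s, hs⟩ := C.decomp hy
  conv_lhs => rw [hs, polar_add_right, polar_smul_right, polar_comm Q _ C.d,
    C.mem_W.1 (C.split_le (C.ι_mem _)), smul_zero, add_zero]
  exact C.form _ _

include C in
theorem Coord.sq_inj {s t : F} (h : s ^ 2 = t ^ 2) : s = t := by
  have h' : (s - t) ^ 2 = 0 := by linear_combination h + (t ^ 2 - s * t) * C.two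
  exact sub_eq_zero.1 (pow_eq_zero_iff two_ne_zero |>.1 h')

variable [Fintype F]

include C in
theorem Coord.exists_sqrt (x : F) : ∃ r : F, r ^ 2 = x := by
  have : CharP F 2 := CharTwo.of_one_ne_zero_of_two_eq_zero one_ne_zero C.two
  obtain ⟨r, hr⟩ := FiniteField.isSquare_of_char_two (ringChar.eq F 2) x
  exact ⟨r, by rw [hr, pow_two]⟩

/-- A square root. -/
noncomputable def Coord.rt (x : F) : F := (C.exists_sqrt x).choose

theorem Coord.rt_sq (x : F) : C.rt x ^ 2 = x := (C.exists_sqrt x).choose_spec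

/-- The singular vector over a symplectic vector. -/
noncomputable def Coord.sing (v : 𝕏) : V := C.ι v + C.rt (Q (C.ι v)) • C.d

theorem Coord.sing_mem (v : 𝕏) : C.sing v ∈ C.W :=
  C.W.add_mem (C.split_le (C.ι_mem v)) (C.W.smul_mem _ C.d_mem)

theorem Coord.Q_sing (v : 𝕏) : Q (C.sing v) = 0 := by
  rw [Coord.sing, C.Q_W, C.rt_sq]
  linear_combination Q (C.ι v) * C.two

theorem Coord.κ_sing (v : 𝕏) : C.κ (C.sing v) = v := by
  rw [Coord.sing, map_add, map_smul, C.κd, smul_zero, add_zero, C.κι]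

theorem Coord.eq_sing {x : V} (hx : x ∈ C.W) (h : Q x = 0) : x = C.sing (C.κ x) := by
  obtain ⟨t, ht⟩ := C.decomp hx
  have h' := C.Q_W (C.κ x) t
  rw [← ht, h] at h'
  have : t = C.rt (Q (C.ι (C.κ x))) := C.sq_inj (by
    rw [C.rt_sq]; linear_combination -h' - Q (C.ι (C.κ x)) * C.two)
  conv_lhs => rw [ht, this]
  rfl

theorem Coord.polar_sing_d (v : 𝕏) (l : F) : polar Q (C.sing v) (l • C.d) = 0 := by
  rw [polar_smul_right, polar_comm, C.mem_W.1 (C.sing_mem v), smul_zero]

section Sys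

variable {Δ : Type uF} [Group Δ] (Y : Sys Q Δ)

/-- The lifts inside the complement of `d`. -/
abbrev LW : Subgroup Δ := subgroupOf Y C.W

omit [Fintype F] in
theorem fix_d {δ : Δ} (hδ : δ ∈ LW C Y) : (Y.σ δ).1 C.d = C.d :=
  subgroupOf_fix Y (fun y hy => by rw [polar_comm]; exact C.mem_W.1 hy) hδ

/-- The matrix of an element. -/
noncomputable def mat (δ : Δ) : Matrix (Fin m ⊕ Fin m) (Fin m ⊕ Fin m) F :=
  LinearMap.toMatrix' (C.κ.comp ((Y.σ δ).1.toLinearMap.comp C.ι))

omit [Fintype F] in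
theorem mat_mulVec (δ : Δ) (c : 𝕏) : mat C Y δ *ᵥ c = C.κ ((Y.σ δ).1 (C.ι c)) := by
  rw [mat, LinearMap.toMatrix'_mulVec]; rfl

omit [Fintype F] in
theorem κ_map {δ : Δ} (hδ : δ ∈ LW C Y) {x : V} (hx : x ∈ C.W) :
    C.κ ((Y.σ δ).1 x) = mat C Y δ *ᵥ C.κ x := by
  obtain ⟨t, ht⟩ := C.decomp hx
  conv_lhs => rw [ht, map_add, map_smul, fix_d C Y hδ, map_add, map_smul, C.κd, smul_zero, add_zero]
  rw [mat_mulVec]

omit [Fintype F] in
theorem mat_mem {δ : Δ} (hδ : δ ∈ LW C Y) : mat C Y δ ∈ symplecticGroup (Fin m) F := by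
  rw [mem_sp_iff_form]
  intro u v
  rw [mat_mulVec, mat_mulVec, ← C.polar_W (map_mem Y C.W hδ (C.split_le (C.ι_mem u)))
    (map_mem Y C.W hδ (C.split_le (C.ι_mem v))), polar_orth, C.form]

/-- The action on the symplectic space. -/
noncomputable def Φ : LW C Y →* symplecticGroup (Fin m) F where
  toFun δ := ⟨mat C Y δ.1, mat_mem C Y δ.2⟩
  map_one' := Subtype.ext (Matrix.ext_iff_mulVec.2 fun c => by
    show mat C Y (1 : Δ) *ᵥ c = (1 : Matrix (Fin m ⊕ Fin m) (Fin m ⊕ Fin m) F) *ᵥ c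
    rw [mat_mulVec, map_one, Matrix.one_mulVec]
    exact C.κι c)
  map_mul' a b := Subtype.ext (Matrix.ext_iff_mulVec.2 fun c => by
    show mat C Y (a.1 * b.1) *ᵥ c = (mat C Y a.1 * mat C Y b.1) *ᵥ c
    rw [← Matrix.mulVec_mulVec, mat_mulVec, mat_mulVec C Y b.1, map_mul, orth_mul_apply,
      κ_map C Y a.2 (map_mem Y C.W b.2 (C.split_le (C.ι_mem c)))])

omit [Fintype F] in
theorem Φ_smul (δ : LW C Y) {x : V} (hx : x ∈ C.W) : C.κ ((Y.σ δ.1).1 x) = Φ C Y δ • C.κ x :=
  κ_map C Y δ.2 hx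

/-- The lift of a transvection. -/
noncomputable def T (v : 𝕏) (c : F) : LW C Y :=
  ⟨Y.Λ (C.sing v) (C.rt c • C.d),
    mem_subgroupOf Y C.W (C.sing_mem v) (C.W.smul_mem _ C.d_mem) (C.Q_sing v) (C.polar_sing_d v _)⟩

theorem Φ_T (v : 𝕏) (c : F) : Φ C Y (T C Y v c) = transv v c := by
  refine ext_smul fun x => ?_
  rw [transv_smul]
  conv_lhs => rw [← C.κι x, ← Φ_smul C Y _ (C.split_le (C.ι_mem x))]
  show C.κ ((Y.σ (Y.Λ (C.sing v) (C.rt c • C.d))).1 (C.ι x)) = _
  rw [Y.map_Λ _ _ (C.Q_sing v) (C.polar_sing_d v _), S_apply (C.Q_sing v) (C.polar_sing_d v _),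
    map_sub, map_add, map_smul, map_smul, map_smul, C.κd, smul_zero, smul_zero, add_zero, C.κι,
    C.κ_sing, polar_smul_left, C.mem_W.1 (C.split_le (C.ι_mem x)), QuadraticMap.map_smul, C.Qd,
    C.polar_W (C.sing_mem v) (C.split_le (C.ι_mem x)), C.κ_sing, C.κι, form_swap x v]
  have hc := C.rt_sq c
  match_scalars
  · ring
  · simp only [smul_eq_mul]
    linear_combination (sympForm m F x v) * hc

theorem Φ_surjective : Function.Surjective (Φ C Y) := by
  rw [← MonoidHom.range_eq_top]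
  exact eq_top_of_transv fun v c => ⟨T C Y v c, Φ_T C Y v c⟩

theorem T_equiv (δ : LW C Y) (v : 𝕏) (c : F) : δ * T C Y v c * δ⁻¹ = T C Y (Φ C Y δ • v) c := by
  apply Subtype.ext
  show δ.1 * Y.Λ _ _ * δ.1⁻¹ = Y.Λ _ _
  rw [Y.conj _ _ _ (C.Q_sing v) (C.polar_sing_d v _), map_smul, fix_d C Y δ.2]
  congr 1
  rw [C.eq_sing (map_mem Y C.W δ.2 (C.sing_mem v)) (by rw [OrthUnitaryQuad.map_orth]; exact C.Q_sing v),
    Φ_smul C Y δ (C.sing_mem v), C.κ_sing]

theorem T_sq (v : 𝕏) (c : F) : T C Y v c * T C Y v c = 1 := by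
  apply Subtype.ext
  show Y.Λ _ _ * Y.Λ _ _ = 1
  rw [← Y.add _ _ _ (C.Q_sing v) (C.polar_sing_d v _) (C.polar_sing_d v _), ← add_smul,
    show C.rt c + C.rt c = 0 by linear_combination C.rt c * C.two, zero_smul, Y.zero (C.Q_sing v)]

variable [FiniteDimensional F V]

theorem Φ_ker (hnd : (polarBilin Q).Nondegenerate) (hd : 5 ≤ Module.finrank F V) (δ : LW C Y)
    (h : Φ C Y δ = 1) : Y.σ δ.1 = 1 := by
  classical
  set g := Y.σ δ.1
  have hgd : g.1 C.d = C.d := fix_d C Y δ.2
  have hV0 : ∀ y ∈ split Q ⊤ C.e C.f, g.1 y = y := by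
    intro y hy
    have hgW := map_mem Y C.W δ.2 (C.split_le hy)
    obtain ⟨t, ht⟩ := C.decomp hgW
    rw [Φ_smul C Y δ (C.split_le hy), h, one_smul, C.ι_surj y hy] at ht
    have h' := congrArg Q ht
    rw [OrthUnitaryQuad.map_orth, ← C.ι_surj y hy, C.Q_W] at h'
    have ht0 : t = 0 := C.sq_inj (by linear_combination -h')
    rw [ht, ht0, zero_smul, add_zero]
  obtain ⟨α, β, z, hz, hge⟩ := exists_split_eq (W := ⊤) Submodule.mem_top Submodule.mem_top C.he C.hf C.hef
    (Submodule.mem_top (x := g.1 C.e))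
  have hz0 : z = 0 := by
    refine Nd.split (W := ⊤) Submodule.mem_top Submodule.mem_top C.he C.hf C.hef (nd_top hnd) z hz
      fun y hy => ?_
    obtain ⟨-, hey, hfy⟩ := mem_split.1 hy
    have := polar_orth g C.e y
    rw [hV0 y hy, hge, hey] at this
    simpa [polar_add_left, polar_smul_left, hey, hfy] using this
  subst hz0
  rw [add_zero] at hge
  have h1 : α + β = 1 := by
    have := polar_orth g C.e C.d
    rw [hgd, hge] at this
    simp [Coord.d, polar_add_left, polar_add_right, polar_smul_left, polar_self_mul, C.he, C.hf,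
      C.hef, polar_comm Q C.f C.e, C.two] at this
    linear_combination this
  have h0 : α * β = 0 := by
    have := OrthUnitaryQuad.map_orth g C.e
    rw [hge] at this
    simpa [QuadraticMap.map_add (⇑Q), QuadraticMap.map_smul, C.he, C.hf, polar_smul_left,
      polar_smul_right, C.hef, or_comm] using this
  have hgf : g.1 C.f = C.d - g.1 C.e := by
    rw [← hgd, Coord.d, map_add, add_sub_cancel_left]
  have hext : ∀ k : orth Q, k.1 C.e = g.1 C.e → k.1 C.f = g.1 C.f →
      (∀ y ∈ split Q ⊤ C.e C.f, k.1 y = y) → g = k := by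
    intro k ke kf ky
    refine orth_ext fun x => ?_
    obtain ⟨a, b, y, hy, rfl⟩ := exists_split_eq (W := ⊤) Submodule.mem_top Submodule.mem_top C.he C.hf
      C.hef (Submodule.mem_top (x := x))
    simp only [map_add, map_smul, ke, kf, ky y hy, hV0 y hy]
  rcases mul_eq_zero.1 h0 with hα | hβ
  · -- the transvection of `d` is outside the commutator subgroup
    exfalso
    subst hα
    rw [zero_add] at h1
    subst h1
    rw [zero_smul, zero_add, one_smul] at hge
    have hQd : Q C.d ≠ 0 := by rw [C.Qd]; exact one_ne_zero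
    have hneg : ∀ x : V, -x = x := fun x => by
      rw [← neg_one_smul F x, C.neg, one_smul]
    have hg : g = refl Q C.d hQd := by
      refine hext _ ?_ ?_ ?_
      · rw [refl_apply, C.Qd, hge]
        simp [Coord.d, polar_add_left, polar_self_mul, C.he, polar_comm Q C.f C.e, C.hef]
        exact hneg _
      · rw [refl_apply, C.Qd, hgf, hge]
        simp [Coord.d, polar_add_left, polar_self_mul, C.hf, C.hef]
        exact hneg _
      · intro y hy
        rw [refl_apply, C.mem_W.1 (C.split_le hy)]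
        simp
    obtain ⟨D, hD⟩ := exists_dickson C.two hnd
    have hmem : g ∈ commutator (orth Q) := by
      rw [OrthUnitarySimple.commutator_eq_sGroup hnd hd, ← range_eq Y hnd hd]
      exact ⟨δ.1, rfl⟩
    have h3 := Abelianization.commutator_subset_ker D hmem
    rw [MonoidHom.mem_ker, hg, hD, ofAdd_eq_one] at h3
    exact one_ne_zero h3
  · subst hβ
    rw [add_zero] at h1
    subst h1
    rw [one_smul, zero_smul, add_zero] at hge
    refine hext 1 hge.symm ?_ fun _ _ => rfl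
    rw [hgf, hge, Coord.d, add_sub_cancel_left]
    rfl

variable [Finite Δ]

/-- The symplectic stem extension. -/
theorem isStem (hnd : (polarBilin Q).Nondegenerate) (hd : 7 ≤ Module.finrank F V) :
    Y.σ.ker ≤ LW C Y ∧ Cfsg.IsStemExtension (Φ C Y) := by
  have hd' : 5 ≤ Module.finrank F V := by omega
  have hW0 := Nd.split (W := ⊤) Submodule.mem_top Submodule.mem_top C.he C.hf C.hef (nd_top hnd)
  have hd0 := finrank_split (W := ⊤) Submodule.mem_top Submodule.mem_top C.he C.hf C.hef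
  rw [finrank_top] at hd0
  have hker : ∀ g, Y.σ g = 1 → g ∈ ⁅LW C Y, LW C Y⁆ := fun g hg => by
    have hle : subgroupOf Y (split Q ⊤ C.e C.f) ≤ LW C Y := by
      refine (Subgroup.closure_le _).2 ?_
      rintro _ ⟨u, z, hu, hz, hQu, huz, rfl⟩
      exact mem_subgroupOf Y C.W (C.split_le hu) (C.split_le hz) hQu huz
    exact Subgroup.commutator_mono hle hle (subgroupOf_le_commutator Y _ hW0 (by omega)
      (OrthStemCover.ker_mem Y hnd (by omega) (OrthStemOdd.triCol Y hnd hd) C.he C.hf C.hef hg))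
  refine ⟨fun g hg => Subgroup.commutator_le_self _ (hker g (MonoidHom.mem_ker.1 hg)),
    Φ_surjective C Y, fun δ hδ => ?_, fun δ hδ => ?_⟩
  · have h := Φ_ker C Y hnd hd' δ (MonoidHom.mem_ker.1 hδ)
    exact Subgroup.mem_center_iff.2 fun g => Subtype.ext
      (Subgroup.mem_center_iff.1 (Y.central (MonoidHom.mem_ker.2 h)) g.1)
  · have h := hker δ.1 (Φ_ker C Y hnd hd' δ (MonoidHom.mem_ker.1 hδ))
    rw [← Subgroup.map_subtype_commutator] at h
    obtain ⟨δ', hδ', he⟩ := h
    rwa [← Subtype.ext (show (δ' : Δ) = δ from he)]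

omit [Fintype F] [FiniteDimensional F V] [Finite Δ] in
theorem ker_eq_bot_of_Φ (hle : Y.σ.ker ≤ LW C Y) (hΦ : (Φ C Y).ker = ⊥) : Y.σ.ker = ⊥ := by
  rw [Subgroup.eq_bot_iff_forall]
  intro g hg
  have : (⟨g, hle hg⟩ : LW C Y) ∈ (Φ C Y).ker := by
    rw [MonoidHom.mem_ker]
    refine Subtype.ext (Matrix.ext_iff_mulVec.2 fun c => ?_)
    show mat C Y g *ᵥ c = (1 : Matrix (Fin m ⊕ Fin m) (Fin m ⊕ Fin m) F) *ᵥ c
    rw [mat_mulVec, MonoidHom.mem_ker.1 hg, Matrix.one_mulVec]
    exact C.κι c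
  rw [hΦ, Subgroup.mem_bot] at this
  exact congrArg Subtype.val this

end Sys

open PSp62MultiplierData PSp62MultiplierE7 PSp62Multiplier in
theorem six_two {Q : QuadraticForm F V} (C : Coord Q 3) [FiniteDimensional F V] {Δ : Type uF} [Group Δ]
    [Finite Δ] (Y : Sys Q Δ) (hnd : (polarBilin Q).Nondegenerate) (hd : 7 ≤ Module.finrank F V)
    (hF : Fintype.card F = 2) : Y.σ.ker = ⊥ := by
  classical
  obtain ⟨hle, hstem⟩ := isStem C Y hnd hd
  refine ker_eq_bot_of_Φ C Y hle ?_
  have hperfSp : commutator (symplecticGroup (Fin 3) F) = ⊤ := SymplecticSimple.perfect 3 (Or.inl le_rfl)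
  have hperf := StemBasic.commutator_eq_top_of_stem hstem hperfSp
  have hz : Subgroup.center (symplecticGroup (Fin 3) F) = ⊥ := by
    rw [← Subgroup.card_eq_one, SymplecticSimple.card_center hF (by omega)]
    decide
  set φ := ZMod.ringEquivOfPrime F Nat.prime_two hF
  let w : ℕ → (Fin 3 ⊕ Fin 3 → F) := fun n => φ ∘ vec n
  have hmap : ∀ (g : symplecticGroup (Fin 3) (ZMod 2)) (x : Fin 3 ⊕ Fin 3 → ZMod 2),
      spMap φ g • (φ ∘ x) = φ ∘ (g • x) := fun g x => funext fun i =>
    (RingHom.map_mulVec (φ : ZMod 2 →+* F) g.1 x i).symm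
  have hform : ∀ x y : Fin 3 ⊕ Fin 3 → ZMod 2, sympForm 3 F (φ ∘ x) (φ ∘ y) = φ (sympForm 3 (ZMod 2) x y) :=
    fun x y => by simp [form_eq_sum, map_sum]
  have htr : ∀ i : Fin 7, spMap φ (t i) = transv (w (vv i)) 1 := by
    intro i
    refine ext_smul fun y => ?_
    obtain ⟨x, rfl⟩ : ∃ x, φ ∘ x = y := ⟨φ.symm ∘ y, funext fun j => φ.apply_symm_apply _⟩
    rw [hmap, t, transv_smul, transv_smul, hform]
    funext j
    simp [w]
  have hmove : ∀ i j : Fin 7, transv (w (vv i)) (1 : F) • w (vv j) = w (tn i (vv j)) := by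
    intro i j
    rw [← htr, hmap, t_smul i (vv j) (by revert j; decide)]
  have key : ∀ i j : Fin 7, tn i (vv j) = if adj i j then vv i ^^^ vv j else vv j := by decide +kernel
  let ψ : LW C Y →* Cfsg.PSp 3 F := (QuotientGroup.mk' _).comp (Φ C Y)
  have hψ : ψ.ker = (Φ C Y).ker := by
    rw [← MonoidHom.comap_ker, QuotientGroup.ker_mk', hz, MonoidHom.comap_bot]
  let T' : Fin 7 → LW C Y := fun i => T C Y (w (vv i)) 1
  have hT : ∀ i, ψ (T' i) = tF hF i := fun i => by
    show QuotientGroup.mk' _ (Φ C Y (T C Y (w (vv i)) 1)) = QuotientGroup.mk' _ (spMap φ (t i))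
    rw [Φ_T, htr]
  have hconj : ∀ i j, T' i * T' j * (T' i)⁻¹ = T C Y (w (if adj i j then vv i ^^^ vv j else vv j)) 1 :=
    fun i j => by rw [T_equiv, Φ_T, hmove, key]
  have hb : Braids T' := by
    constructor
    · intro i j h
      have := hconj i j
      rw [if_neg (by simp [h])] at this
      exact mul_inv_eq_iff_eq_mul.1 this
    · intro i j h
      have h' : adj j i = true := by revert h; revert i j; decide
      have hi : (T' i)⁻¹ = T' i := inv_eq_of_mul_eq_one_right (T_sq C Y _ _)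
      have hj : (T' j)⁻¹ = T' j := inv_eq_of_mul_eq_one_right (T_sq C Y _ _)
      have e1 := hconj i j
      have e2 := hconj j i
      rw [if_pos h, hi] at e1
      rw [if_pos h', hj, Nat.xor_comm] at e2
      rw [e1, e2]
  rw [← hψ]
  refine PSp62MultiplierE7.ker_eq_bot (card_psp hF) ψ
    ((QuotientGroup.mk'_surjective _).comp (Φ_surjective C Y)) ?_ hperf hb ?_ ?_ ?_
  · rw [hψ]; exact hstem.2.1
  · intro i; rw [hT, tF_sq]
  · rw [show (fun i => ψ (T' i)) = tF hF from funext hT]; exact tF_cox hF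
  · rw [show (fun i => ψ (T' i)) = tF hF from funext hT]; exact tF_gen hF

/-- Characteristic two: the kernel is trivial. -/
theorem ker_eq_bot {Q : QuadraticForm F V} [FiniteDimensional F V] {Δ : Type uF} [Group Δ] [Finite Δ]
    (Y : Sys Q Δ) (h2 : (2 : F) = 0) (hnd : (polarBilin Q).Nondegenerate)
    (hd : 7 ≤ Module.finrank F V) : Y.σ.ker = ⊥ := by
  obtain ⟨e, he, hQe, he0⟩ := (nd_top hnd).exists_singular (by rw [finrank_top]; omega)
  obtain ⟨f, hf, hQf, hef⟩ := (nd_top hnd).exists_partner he he0 hQe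
  obtain ⟨k, hk, C, -, -⟩ := exists_coord h2 hnd hQe hQf hef
  by_cases h3 : k = 3 ∧ Fintype.card F = 2
  · obtain ⟨rfl, hF⟩ := h3
    exact six_two C Y hnd hd hF
  · obtain ⟨hle, hstem⟩ := isStem C Y hnd hd
    refine ker_eq_bot_of_Φ C Y hle (StemSp.ker_eq_bot (by omega) ?_ hstem)
    by_contra hh
    push Not at hh
    have := Fintype.one_lt_card (α := F)
    exact h3 ⟨by omega, by omega⟩

end Cfsg.Agent.OrthStemEven
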