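import Cfsg.Agent.Lib.OrthUnitarySimple
import Mathlib

/-!
Orthogonal geometry used for central extensions of orthogonal groups: total Siegel transformations, their
commutators, and hyperbolic splittings of non-degenerate subspaces.
-/

set_option autoImplicit false

namespace Cfsg.Agent.OrthStemGeom

open QuadraticMap
open Cfsg.Agent.OrthUnitaryQuad Cfsg.Agent.OrthUnitaryRefl Cfsg.Agent.OrthUnitaryOmega
open Cfsg.Agent.OrthUnitarySimple
open scoped commutatorElement

variable {F V : Type*} [Field F] [AddCommGroup V] [Module F V] (Q : QuadraticForm F V)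

open scoped Classical in
/-- The Siegel transformation, `1` if undefined. -/
noncomputable def S (u w : V) : orth Q :=
  if h : Q u = 0 ∧ polar Q u w = 0 then siegel Q u w h.1 h.2 else 1

variable {Q}

theorem S_def {u w : V} (hu : Q u = 0) (hw : polar Q u w = 0) :
    S Q u w = siegel Q u w hu hw := dif_pos ⟨hu, hw⟩

theorem S_apply {u w : V} (hu : Q u = 0) (hw : polar Q u w = 0) (x : V) :
    (S Q u w).1 x = x + polar Q u x • w - (polar Q w x + Q w * polar Q u x) • u := by
  rw [S_def hu hw, siegel_apply]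

theorem S_fix {u w x : V} (hu : Q u = 0) (hw : polar Q u w = 0) (h1 : polar Q u x = 0)
    (h2 : polar Q w x = 0) : (S Q u w).1 x = x := by
  rw [S_apply hu hw, h1, h2]; simp

theorem S_conj (g : orth Q) (u w : V) : g * S Q u w * g⁻¹ = S Q (g.1 u) (g.1 w) := by
  by_cases h : Q u = 0 ∧ polar Q u w = 0
  · rw [S_def h.1 h.2, conj_siegel, S_def]
  · rw [S, dif_neg h, S, dif_neg (by rwa [map_orth g, polar_orth g])]
    group

theorem S_mul {u w₁ w₂ : V} (hu : Q u = 0) (h₁ : polar Q u w₁ = 0) (h₂ : polar Q u w₂ = 0) :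
    S Q u w₁ * S Q u w₂ = S Q u (w₁ + w₂) := by
  rw [S_def hu h₁, S_def hu h₂, S_def hu (by rw [polar_add_right, h₁, h₂, add_zero]), siegel_mul]

theorem S_zero (u : V) : S Q u 0 = 1 := by
  by_cases h : Q u = 0 ∧ polar Q u 0 = 0
  · rw [S_def h.1 h.2]; exact siegel_eq_one _ _ (a := 0) (zero_smul F u).symm
  · rw [S, dif_neg h]

theorem S_zero_left (w : V) : S Q 0 w = 1 := by
  rw [S_def (QuadraticMap.map_zero Q) (polar_zero_left Q w)]
  exact siegel_zero_left _ _

theorem S_inv {u w : V} (hu : Q u = 0) (hw : polar Q u w = 0) : (S Q u w)⁻¹ = S Q u (-w) := by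
  refine inv_eq_of_mul_eq_one_right ?_
  rw [S_mul hu hw (by rw [polar_neg_right, hw, neg_zero]), add_neg_cancel, S_zero]

theorem S_smul {u w : V} (hu : Q u = 0) (hw : polar Q u w = 0) (t : F) :
    S Q (t • u) w = S Q u (t • w) := by
  refine orth_ext fun x => ?_
  rw [S_apply (by rw [QuadraticMap.map_smul, hu, smul_zero]) (by rw [polar_smul_left, hw, smul_zero]),
    S_apply hu (by rw [polar_smul_right, hw, smul_zero]), polar_smul_left, polar_smul_left,
    QuadraticMap.map_smul]
  simp only [smul_eq_mul]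
  module

theorem S_shift {u w : V} (hu : Q u = 0) (hw : polar Q u w = 0) (t : F) :
    S Q u (w + t • u) = S Q u w := by
  have h : polar Q u u = 0 := by rw [polar_self_mul, hu, mul_zero]
  rw [← S_mul hu hw (by rw [polar_smul_right, h, smul_zero]),
    show S Q u (t • u) = 1 by
      rw [S_def hu (by rw [polar_smul_right, h, smul_zero])]; exact siegel_eq_one _ _ rfl, mul_one]

theorem S_symm {u w : V} (hu : Q u = 0) (hw : Q w = 0) (h : polar Q u w = 0) :
    S Q w u = S Q u (-w) := by
  refine orth_ext fun x => ?_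
  rw [S_apply hw (by rw [polar_comm, h]), S_apply hu (by rw [polar_neg_right, h, neg_zero]),
    polar_neg_left, QuadraticMap.map_neg, hu, hw]
  module

theorem S_add_left {w w' z : V} (hw : Q w = 0) (hw' : Q w' = 0) (hww : polar Q w w' = 0)
    (h1 : polar Q w z = 0) (h2 : polar Q w' z = 0) :
    S Q (w + w') z = S Q w z * S Q w' z * S Q w (-(Q z) • w') := by
  refine orth_ext fun x => ?_
  have hws : Q (w + w') = 0 := by rw [QuadraticMap.map_add (⇑Q), hw, hw', hww]; simp
  have h3 : polar Q w (-(Q z) • w') = 0 := by rw [polar_smul_right, hww, smul_zero]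
  rw [orth_mul_apply, orth_mul_apply, S_apply hws (by rw [polar_add_left, h1, h2, add_zero]),
    S_apply hw h3 x, S_apply hw' h2, S_apply hw h1]
  simp only [polar_add_right, polar_sub_right, polar_smul_right, polar_add_left, polar_smul_left,
    polar_self_mul, smul_eq_mul, QuadraticMap.map_smul, hw, hw', hww, polar_comm Q w' w, h1, h2, polar_comm Q z w,
    polar_comm Q z w']
  module

theorem S_bracket {u w z z' : V} (hu : Q u = 0) (hw : Q w = 0) (huw : polar Q u w = 0)
    (h1 : polar Q u z = 0) (h2 : polar Q w z = 0) (h3 : polar Q u z' = 0) (h4 : polar Q w z' = 0) :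
    ⁅S Q u z, S Q w z'⁆ = S Q u (polar Q z z' • w) := by
  rw [commutatorElement_def, S_conj, S_fix hu h1 huw (by rw [polar_comm, h2])]
  have e : (S Q u z).1 z' = z' + -(polar Q z z') • u := by
    rw [S_apply hu h1, h3]; module
  have hwu : ∀ c : F, polar Q w (c • u) = 0 := fun c => by
    rw [polar_smul_right, polar_comm, huw, smul_zero]
  rw [e, ← S_mul hw h4 (hwu _), S_inv hw h4]
  have hc : polar Q w (-(polar Q z z') • u) = 0 := hwu _
  rw [S_mul hw h4 hc, S_mul hw (by rw [polar_add_right, h4, hc, add_zero])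
    (by rw [polar_neg_right, h4, neg_zero]), show z' + -(polar Q z z') • u + -z' =
      -(polar Q z z') • u by abel,
    S_symm (by rw [QuadraticMap.map_smul, hu, smul_zero]) hw
      (by rw [polar_comm, hc]), S_smul hu (by rw [polar_neg_right, huw, neg_zero])]
  congr 1
  module

theorem S_commute {u w z z' : V} (hu : Q u = 0) (hw : Q w = 0) (huw : polar Q u w = 0)
    (h1 : polar Q u z = 0) (h2 : polar Q w z = 0) (h3 : polar Q u z' = 0) (h4 : polar Q w z' = 0)
    (h5 : polar Q z z' = 0) : Commute (S Q u z) (S Q w z') := by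
  rw [← commutatorElement_eq_one_iff_commute, S_bracket hu hw huw h1 h2 h3 h4, h5, zero_smul, S_zero]

theorem S_commute_same {u z z' : V} (hu : Q u = 0) (h1 : polar Q u z = 0) (h2 : polar Q u z' = 0) :
    Commute (S Q u z) (S Q u z') := by
  show _ = _
  rw [S_mul hu h1 h2, S_mul hu h2 h1, add_comm]

/-! ### Subspaces -/

/-- `x` is orthogonal to every member of `s`. -/
def Perp (Q : QuadraticForm F V) (s : Set V) : Submodule F V :=
  ⨅ y ∈ s, LinearMap.ker (polarBilin Q y)

theorem mem_perp {s : Set V} {x : V} : x ∈ Perp Q s ↔ ∀ y ∈ s, polar Q y x = 0 := by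
  simp [Perp]

variable (hQ : (polarBilin Q).Nondegenerate) [FiniteDimensional F V]

include hQ in
theorem exists_perp {U : Submodule F V} {x : V} (hx : x ∉ U) :
    ∃ z, (∀ u ∈ U, polar Q z u = 0) ∧ polar Q z x = 1 := by
  obtain ⟨φ, hφx, hφ⟩ := Submodule.exists_dual_map_eq_bot_of_notMem hx inferInstance
  obtain ⟨z, hz⟩ := (LinearMap.BilinForm.toDual (polarBilin Q) hQ).surjective ((φ x)⁻¹ • φ)
  have hzy : ∀ y, polar Q z y = (φ x)⁻¹ * φ y := fun y => by
    have := LinearMap.congr_fun hz y
    simp only [LinearMap.BilinForm.toDual_def, LinearMap.smul_apply, smul_eq_mul, polarBilin_apply_apply] at this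
    exact this
  refine ⟨z, fun u hu => ?_, by rw [hzy, inv_mul_cancel₀ hφx]⟩
  have : φ u ∈ U.map φ := Submodule.mem_map_of_mem hu
  rw [hφ, Submodule.mem_bot] at this
  rw [hzy, this, mul_zero]

/-- The restriction of the form to `W` is non-degenerate. -/
def Nd (Q : QuadraticForm F V) (W : Submodule F V) : Prop :=
  ∀ x ∈ W, (∀ y ∈ W, polar Q x y = 0) → x = 0

omit [FiniteDimensional F V] in
theorem nd_top (hQ : (polarBilin Q).Nondegenerate) : Nd Q ⊤ :=
  fun x _ h => hQ.1 x fun y => h y trivial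

omit [FiniteDimensional F V] in
theorem Nd.exists_ne {W : Submodule F V} (hW : Nd Q W) {x : V} (hx : x ∈ W) (hx0 : x ≠ 0) :
    ∃ y ∈ W, polar Q x y = 1 := by
  by_contra hne
  refine hx0 (hW x hx fun y hy => ?_)
  by_contra h
  exact hne ⟨(polar Q x y)⁻¹ • y, W.smul_mem _ hy,
    by rw [polar_smul_right, smul_eq_mul, inv_mul_cancel₀ h]⟩

omit [FiniteDimensional F V] in
theorem Nd.isReg {W : Submodule F V} (hW : Nd Q W) : IsReg (Q.restrict W) :=
  fun x hx _ => Subtype.ext (hW x x.2 fun y hy => hx ⟨y, hy⟩)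

omit [FiniteDimensional F V] in
theorem Nd.exists_partner {W : Submodule F V} (hW : Nd Q W) {e : V} (he : e ∈ W) (he0 : e ≠ 0)
    (hQe : Q e = 0) : ∃ f ∈ W, Q f = 0 ∧ polar Q e f = 1 := by
  obtain ⟨y, hy, hey⟩ := hW.exists_ne he he0
  refine ⟨y - Q y • e, W.sub_mem hy (W.smul_mem _ he), ?_, ?_⟩
  · rw [sub_eq_add_neg, ← neg_smul, QuadraticMap.map_add (⇑Q), QuadraticMap.map_smul, hQe,
      polar_smul_right, polar_comm Q y e, hey]
    simp
  · rw [polar_sub_right, polar_smul_right, hey, polar_self_mul, hQe]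
    simp

theorem Nd.exists_singular [Fintype F] {W : Submodule F V} (hW : Nd Q W)
    (h : 3 ≤ Module.finrank F W) : ∃ a ∈ W, Q a = 0 ∧ a ≠ 0 := by
  obtain ⟨x, hx, hx0⟩ := OrthUnitarySimple.exists_singular hW.isReg h
  exact ⟨x, x.2, hx, fun h => hx0 (Subtype.ext h)⟩

/-- `W` split along a hyperbolic pair. -/
def split (Q : QuadraticForm F V) (W : Submodule F V) (e f : V) : Submodule F V :=
  W ⊓ Perp Q {e, f}

omit [FiniteDimensional F V] in
theorem mem_split {W : Submodule F V} {e f x : V} :
    x ∈ split Q W e f ↔ x ∈ W ∧ polar Q e x = 0 ∧ polar Q f x = 0 := by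
  simp [split, mem_perp]

section Split

variable {W : Submodule F V} {e f : V} (he : e ∈ W) (hf : f ∈ W) (hQe : Q e = 0) (hQf : Q f = 0)
  (hef : polar Q e f = 1)

omit [FiniteDimensional F V] in
include he hf hQe hQf hef in
theorem sub_mem_split {x : V} (hx : x ∈ W) :
    x - polar Q f x • e - polar Q e x • f ∈ split Q W e f := by
  refine mem_split.2 ⟨W.sub_mem (W.sub_mem hx (W.smul_mem _ he)) (W.smul_mem _ hf), ?_, ?_⟩ <;>
    simp [polar_sub_right, polar_smul_right, polar_self_mul, hQe, hQf, hef, polar_comm Q f e]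

omit [FiniteDimensional F V] in
include he hf hQe hQf hef in
theorem exists_split_eq {x : V} (hx : x ∈ W) :
    ∃ (α β : F) (y : V), y ∈ split Q W e f ∧ x = α • e + β • f + y :=
  ⟨_, _, _, sub_mem_split he hf hQe hQf hef hx, by abel⟩

omit [FiniteDimensional F V] in
include he hf hQe hQf hef in
theorem Nd.split (hW : Nd Q W) : Nd Q (OrthStemGeom.split Q W e f) := by
  intro x hx h
  obtain ⟨hxW, hxe, hxf⟩ := mem_split.1 hx
  refine hW x hxW fun y hy => ?_
  obtain ⟨α, β, y', hy', rfl⟩ := exists_split_eq he hf hQe hQf hef hy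
  rw [polar_add_right, polar_add_right, polar_smul_right, polar_smul_right, polar_comm Q x e,
    polar_comm Q x f, hxe, hxf, h y' hy']
  simp

include he hf hQe hQf hef in
theorem finrank_split : Module.finrank F (split Q W e f) + 2 = Module.finrank F W := by
  let φ : W ≃ₗ[F] (F × F) × split Q W e f :=
    { toFun := fun x => ((polar Q f (x : V), polar Q e (x : V)),
        ⟨_, sub_mem_split he hf hQe hQf hef x.2⟩)
      map_add' := fun x y => by
        refine Prod.ext (Prod.ext ?_ ?_) (Subtype.ext ?_) <;>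
          simp [polar_add_right, add_smul]
        abel
      map_smul' := fun c x => by
        refine Prod.ext (Prod.ext ?_ ?_) (Subtype.ext ?_) <;>
          simp [polar_smul_right, smul_sub, smul_smul]
      invFun := fun p => ⟨p.1.1 • e + p.1.2 • f + p.2, W.add_mem (W.add_mem (W.smul_mem _ he)
        (W.smul_mem _ hf)) (mem_split.1 p.2.2).1⟩
      left_inv := fun x => Subtype.ext (by simp)
      right_inv := fun p => by
        obtain ⟨⟨a, b⟩, y, hy⟩ := p
        obtain ⟨-, hye, hyf⟩ := mem_split.1 hy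
        refine Prod.ext (Prod.ext ?_ ?_) (Subtype.ext ?_) <;>
          simp [polar_add_right, polar_smul_right, polar_self_mul, hQe, hQf, hef, polar_comm Q f e,
            hye, hyf]
        abel }
  rw [φ.finrank_eq, Module.finrank_prod, Module.finrank_prod, Module.finrank_self]
  omega

end Split

omit [FiniteDimensional F V] in
/-- A property closed under sums and true for singular vectors holds on an isotropic subspace. -/
theorem Nd.singular_induction {W : Submodule F V} (hW : Nd Q W) {a : V} (ha : a ∈ W) (hQa : Q a = 0)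
    (ha0 : a ≠ 0) {P : V → Prop} (hadd : ∀ x ∈ W, ∀ y ∈ W, P x → P y → P (x + y))
    (hs : ∀ x ∈ W, Q x = 0 → P x) {z : V} (hz : z ∈ W) : P z := by
  obtain ⟨z₁, z₂, z₃, h₁, h₂, h₃, he⟩ := exists_three_singular hW.isReg (e := ⟨a, ha⟩)
    (by simpa using hQa) (fun h => ha0 (congrArg Subtype.val h)) ⟨z, hz⟩
  have : z = z₁ + z₂ + z₃ := congrArg Subtype.val he
  rw [this]
  exact hadd _ (W.add_mem z₁.2 z₂.2) _ z₃.2 (hadd _ z₁.2 _ z₂.2 (hs _ z₁.2 h₁) (hs _ z₂.2 h₂))
    (hs _ z₃.2 h₃)

include hQ in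
/-- An independent singular orthogonal pair completed to two orthogonal hyperbolic pairs, the new
vectors being orthogonal to given vectors outside. -/
theorem exists_duals {u w : V} (hu : Q u = 0) (hw : Q w = 0) (huw : polar Q u w = 0)
    (U : Submodule F V) (hU : ∀ x ∈ U, polar Q u x = 0 ∧ polar Q w x = 0)
    (h1 : u ∉ Submodule.span F {w} ⊔ U) (h2 : w ∉ Submodule.span F {u} ⊔ U) :
    ∃ u' w', Q u' = 0 ∧ Q w' = 0 ∧ polar Q u u' = 1 ∧ polar Q w w' = 1 ∧ polar Q u w' = 0 ∧
      polar Q w u' = 0 ∧ polar Q u' w' = 0 ∧ ∀ x ∈ U, polar Q u' x = 0 ∧ polar Q w' x = 0 := by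
  obtain ⟨z, hz, hzu⟩ := exists_perp hQ h1
  obtain ⟨y, hy, hyw⟩ := exists_perp hQ h2
  have hzw : polar Q z w = 0 := hz w (Submodule.mem_sup_left (Submodule.mem_span_singleton_self w))
  have hyu : polar Q y u = 0 := hy u (Submodule.mem_sup_left (Submodule.mem_span_singleton_self u))
  have huu : polar Q u u = 0 := by rw [polar_self_mul, hu, mul_zero]
  have hww : polar Q w w = 0 := by rw [polar_self_mul, hw, mul_zero]
  set u' := z - Q z • u with hu'
  have hu'u : polar Q u u' = 1 := by
    rw [hu', polar_sub_right, polar_smul_right, huu, polar_comm, hzu]; simp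
  have hu'w : polar Q w u' = 0 := by
    rw [hu', polar_sub_right, polar_smul_right, polar_comm Q w u, huw, polar_comm, hzw]; simp
  have hQu' : Q u' = 0 := by
    rw [hu', sub_eq_add_neg, ← neg_smul, QuadraticMap.map_add (⇑Q), QuadraticMap.map_smul, hu,
      polar_smul_right, hzu]
    simp
  set y₁ := y - polar Q u' y • u with hy₁
  have hy₁u : polar Q u y₁ = 0 := by
    rw [hy₁, polar_sub_right, polar_smul_right, huu, polar_comm, hyu]; simp
  have hy₁w : polar Q w y₁ = 1 := by
    rw [hy₁, polar_sub_right, polar_smul_right, polar_comm Q w u, huw, polar_comm, hyw]; simp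
  have hy₁u' : polar Q u' y₁ = 0 := by
    rw [hy₁, polar_sub_right, polar_smul_right, polar_comm Q u' u, hu'u]; simp
  refine ⟨u', y₁ - Q y₁ • w, hQu', ?_, hu'u, ?_, ?_, hu'w, ?_, fun x hx => ⟨?_, ?_⟩⟩
  · rw [sub_eq_add_neg, ← neg_smul, QuadraticMap.map_add (⇑Q), QuadraticMap.map_smul, hw,
      polar_smul_right, polar_comm Q y₁ w, hy₁w]
    simp
  · rw [polar_sub_right, polar_smul_right, hy₁w, hww]; simp
  · rw [polar_sub_right, polar_smul_right, hy₁u, huw]; simp
  · rw [polar_sub_right, polar_smul_right, hy₁u', polar_comm, hu'w]; simp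
  · rw [hu', polar_sub_left, polar_smul_left, hz x (Submodule.mem_sup_right hx), (hU x hx).1]; simp
  · rw [polar_sub_left, polar_smul_left, hy₁, polar_sub_left, polar_smul_left,
      hy x (Submodule.mem_sup_right hx), (hU x hx).1, (hU x hx).2]
    simp

end Cfsg.Agent.OrthStemGeom
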