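import Cfsg.Agent.Lib.OrthStemGeom
import Cfsg.Agent.Lib.StemPairing
import Mathlib

/-!
Lifts of Siegel transformations in a central extension of a group containing the commutator subgroup of
an orthogonal group: which lifts commute.
-/

set_option autoImplicit false

namespace Cfsg.Agent.OrthStemLifts

open QuadraticMap
open Cfsg.Agent.OrthUnitaryQuad Cfsg.Agent.OrthUnitaryRefl Cfsg.Agent.OrthUnitaryOmega
open Cfsg.Agent.OrthUnitarySimple Cfsg.Agent.OrthUnitaryCentre
open Cfsg.Agent.OrthStemGeom
open scoped commutatorElement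

universe uF uV uD

variable {F : Type uF} {V : Type uV} [Field F] [Fintype F] [AddCommGroup V] [Module F V]
  [FiniteDimensional F V]

/-- Four mutually orthogonal singular vectors do not occur independently. -/
def NoTot4 (Q : QuadraticForm F V) : Prop :=
  ∀ v : Fin 4 → V, LinearIndependent F v → (∀ i j, polar Q (v i) (v j) = 0) → (∀ i, Q (v i) = 0) → False

/-- Three hyperbolic pairs `(p i, p (i + 3))` and a vector orthogonal to all of them. -/
structure HypFrame (Q : QuadraticForm F V) (p : Fin 6 → V) (x : V) : Prop where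
  hQ : ∀ i, Q (p i) = 0
  dual : ∀ i j, i ≠ j → polar Q (p i) (p j) = if i.val + 3 = j.val ∨ j.val + 3 = i.val then 1 else 0
  perp : ∀ i, polar Q (p i) x = 0

/-- A central extension to be lifted. -/
structure Ext (Q : QuadraticForm F V) (Δ : Type uD) [Group Δ] where
  τ : Δ →* orth Q
  nd : (polarBilin Q).Nondegenerate
  dim : 7 ≤ Module.finrank F V
  central : τ.ker ≤ Subgroup.center Δ
  range : commutator (orth Q) ≤ τ.range
  small : 9 ≤ Module.finrank F V ∨ 4 ≤ Fintype.card F ∨
    (Module.finrank F V = 8 ∧ (Fintype.card F = 3 ∨ NoTot4 Q)) ∨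
    (Module.finrank F V = 7 ∧ ∀ (p : Fin 6 → V) (x : V), HypFrame Q p x → Q x ≠ 0 →
      ∀ δ δ' : Δ, τ δ = S Q (p 0) (p 1) → τ δ' = S Q (p 2) x → Commute δ δ')

/-- An independent orthogonal singular pair. -/
structure Pair (Q : QuadraticForm F V) (u w : V) : Prop where
  hu : Q u = 0
  hw : Q w = 0
  huw : polar Q u w = 0
  ind : ∀ α β : F, α • u + β • w = 0 → α = 0 ∧ β = 0

variable {Q : QuadraticForm F V} {Δ : Type uD} [Group Δ] (E : Ext Q Δ)

omit [Fintype F] [FiniteDimensional F V] in
theorem Pair.symm {u w : V} (h : Pair Q u w) : Pair Q w u :=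
  ⟨h.hw, h.hu, by rw [polar_comm, h.huw], fun α β e => (h.ind β α (by rw [← e]; abel)).symm⟩

theorem S_mem_range (u w : V) : S Q u w ∈ E.τ.range := by
  by_cases h : Q u = 0 ∧ polar Q u w = 0
  · rw [S_def h.1 h.2]
    have := E.dim
    exact E.range (sGroup_le_commutator E.nd (by omega) (siegel_mem E.nd (by omega) h.1 h.2))
  · rw [S, dif_neg h]; exact one_mem _

/-- A lift of a Siegel transformation. -/
noncomputable def L (u w : V) : Δ := Classical.choose (S_mem_range E u w)

theorem L_spec (u w : V) : E.τ (L E u w) = S Q u w := Classical.choose_spec (S_mem_range E u w)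

theorem br_congr {a a' b b' : Δ} (ha : E.τ a = E.τ a') (hb : E.τ b = E.τ b') : ⁅a, b⁆ = ⁅a', b'⁆ :=
  StemPairing.bracket_congr E.central ha hb

theorem commute_congr {a a' b b' : Δ} (ha : E.τ a = E.τ a') (hb : E.τ b = E.τ b') (h : Commute a' b') :
    Commute a b := by
  rw [← commutatorElement_eq_one_iff_commute, br_congr E ha hb,
    commutatorElement_eq_one_iff_commute]
  exact h

theorem commute_bracket {r a b δ : Δ} (h1 : Commute (E.τ r) (E.τ a)) (h2 : Commute (E.τ r) (E.τ b))
    (h : E.τ δ = ⁅E.τ a, E.τ b⁆) : Commute r δ := by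
  refine commute_congr E (a' := r) (b' := ⁅a, b⁆) rfl (by rw [h, map_commutatorElement]) ?_
  have e : r * ⁅a, b⁆ * r⁻¹ = ⁅a, b⁆ := by
    rw [conjugate_commutatorElement]
    refine br_congr E ?_ ?_
    · rw [map_mul, map_mul, map_inv, h1.eq, mul_inv_cancel_right]
    · rw [map_mul, map_mul, map_inv, h2.eq, mul_inv_cancel_right]
  exact mul_inv_eq_iff_eq_mul.1 e

/-- The common commutant of a lift, seen on one root subgroup. -/
theorem commute_add {r : Δ} {a z z' : V} (ha : Q a = 0) (h : polar Q a z = 0) (h' : polar Q a z' = 0)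
    (c : Commute r (L E a z)) (c' : Commute r (L E a z')) : Commute r (L E a (z + z')) :=
  commute_congr E rfl (by rw [map_mul, L_spec, L_spec, L_spec, S_mul ha h h']) (c.mul_right c')

theorem commute_one {r : Δ} {a z : V} (h : S Q a z = 1) : Commute r (L E a z) :=
  commute_congr E (a' := r) (b' := 1) rfl (by rw [L_spec, h, map_one]) (Commute.one_right r)

theorem L_inv {a b c d : V} (h : S Q a b = (S Q c d)⁻¹) {r : Δ} (hc : Commute r (L E c d)) :
    Commute r (L E a b) :=
  commute_congr E rfl (by rw [map_inv, L_spec, L_spec, h]) hc.inv_right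

omit [Fintype F] [FiniteDimensional F V] in
theorem S_symm' {u w : V} (hu : Q u = 0) (hw : Q w = 0) (h : polar Q u w = 0) :
    S Q w u = (S Q u w)⁻¹ := by
  rw [S_inv hu h, S_symm hu hw h]

/-- The complement of two orthogonal hyperbolic planes. -/
structure Frame (Q : QuadraticForm F V) (u w u' w' : V) (W : Submodule F V) : Prop where
  nd : Nd Q W
  rank : Module.finrank F W + 4 = Module.finrank F V
  hu' : Q u' = 0
  hw' : Q w' = 0
  huu : polar Q u u' = 1
  hww : polar Q w w' = 1
  huw' : polar Q u w' = 0
  hwu' : polar Q w u' = 0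
  huw'' : polar Q u' w' = 0
  perp : ∀ y ∈ W, polar Q u y = 0 ∧ polar Q w y = 0 ∧ polar Q u' y = 0 ∧ polar Q w' y = 0
  mem : ∀ y, polar Q u y = 0 → polar Q w y = 0 → polar Q u' y = 0 → polar Q w' y = 0 → y ∈ W
  decomp : ∀ z, polar Q u z = 0 → polar Q w z = 0 → ∃ (α β : F) (y : V), y ∈ W ∧ z = α • u + β • w + y

theorem exists_frame {u w : V} (h : Pair Q u w) (U : Submodule F V)
    (hU : ∀ x ∈ U, polar Q u x = 0 ∧ polar Q w x = 0)
    (h1 : u ∉ Submodule.span F {w} ⊔ U) (h2 : w ∉ Submodule.span F {u} ⊔ U)
    (hnd : (polarBilin Q).Nondegenerate) :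
    ∃ (u' w' : V) (W : Submodule F V), Frame Q u w u' w' W ∧ U ≤ W := by
  obtain ⟨u', w', hu', hw', huu, hww, huw', hwu', huw'', hUp⟩ :=
    exists_duals hnd h.hu h.hw h.huw U hU h1 h2
  set W₁ := split Q ⊤ u u' with hW₁
  have hw1 : w ∈ W₁ := mem_split.2 ⟨Submodule.mem_top, h.huw, by rw [polar_comm, hwu']⟩
  have hw'1 : w' ∈ W₁ := mem_split.2 ⟨Submodule.mem_top, huw', huw''⟩
  have mem : ∀ y, polar Q u y = 0 → polar Q w y = 0 → polar Q u' y = 0 → polar Q w' y = 0 →
      y ∈ split Q W₁ w w' := fun y a b c d => mem_split.2 ⟨mem_split.2 ⟨Submodule.mem_top, a, c⟩, b, d⟩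
  have perp : ∀ y ∈ split Q W₁ w w',
      polar Q u y = 0 ∧ polar Q w y = 0 ∧ polar Q u' y = 0 ∧ polar Q w' y = 0 := by
    intro y hy
    obtain ⟨hy1, hyw, hyw'⟩ := mem_split.1 hy
    obtain ⟨-, hyu, hyu'⟩ := mem_split.1 hy1
    exact ⟨hyu, hyw, hyu', hyw'⟩
  refine ⟨u', w', split Q W₁ w w',
    ⟨(Nd.split (W := ⊤) Submodule.mem_top Submodule.mem_top h.hu hu' huu (nd_top hnd)).split hw1 hw'1 h.hw hw' hww, ?_, hu', hw',
      huu, hww, huw', hwu', huw'', perp, mem, ?_⟩,
    fun x hx => mem x (hU x hx).1 (hU x hx).2 (hUp x hx).1 (hUp x hx).2⟩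
  · have e1 : Module.finrank F (split Q W₁ w w') + 2 = Module.finrank F W₁ :=
      finrank_split (W := W₁) hw1 hw'1 h.hw hw' hww
    have e2 : Module.finrank F W₁ + 2 = Module.finrank F (⊤ : Submodule F V) := finrank_split (W := (⊤ : Submodule F V)) Submodule.mem_top Submodule.mem_top h.hu hu' huu
    rw [finrank_top] at e2
    omega
  · intro z hzu hzw
    refine ⟨polar Q u' z, polar Q w' z, z - polar Q u' z • u - polar Q w' z • w, ?_, by abel⟩
    have huu0 : polar Q u u = 0 := by rw [polar_self_mul, h.hu, mul_zero]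
    have hww0 : polar Q w w = 0 := by rw [polar_self_mul, h.hw, mul_zero]
    refine mem _ ?_ ?_ ?_ ?_ <;>
      simp [polar_sub_right, polar_smul_right, hzu, hzw, huu0, hww0, h.huw, polar_comm Q w u,
        polar_comm Q u' u, huu, polar_comm Q u' w, hwu', polar_comm Q w' u, huw', polar_comm Q w' w, hww]

omit [Fintype F] [FiniteDimensional F V] in
theorem Pair.notMem {u w : V} (h : Pair Q u w) : u ∉ Submodule.span F {w} ⊔ ⊥ := by
  rw [sup_bot_eq, Submodule.mem_span_singleton]
  rintro ⟨β, hβ⟩
  exact one_ne_zero (h.ind 1 (-β) (by rw [← hβ]; module)).1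

theorem exists_frame' {u w : V} (h : Pair Q u w) (hnd : (polarBilin Q).Nondegenerate) :
    ∃ (u' w' : V) (W : Submodule F V), Frame Q u w u' w' W := by
  obtain ⟨u', w', W, hf, -⟩ := exists_frame h ⊥ (fun x hx => by
    rw [Submodule.mem_bot] at hx; subst hx; simp) h.notMem h.symm.notMem hnd
  exact ⟨u', w', W, hf⟩

include E in
theorem Frame.dim {u w u' w' : V} {W : Submodule F V} (hf : Frame Q u w u' w' W) :
    3 ≤ Module.finrank F W := by
  have := E.dim; have := hf.rank; omega

include E in
theorem Frame.singular {u w u' w' : V} {W : Submodule F V} (hf : Frame Q u w u' w' W) :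
    ∃ a ∈ W, Q a = 0 ∧ a ≠ 0 :=
  hf.nd.exists_singular (hf.dim E)

/-- Lifts of a root element commute with lifts of the Siegel transformations of its vectors. -/
theorem comm_right {u w z : V} (h : Pair Q u w) (hzu : polar Q u z = 0) (hzw : polar Q w z = 0) :
    Commute (L E u w) (L E w z) := by
  obtain ⟨u', w', W, hf⟩ := exists_frame' h E.nd
  have hwu : polar Q w u = 0 := by rw [polar_comm, h.huw]
  have hww : polar Q w w = 0 := by rw [polar_self_mul, h.hw, mul_zero]
  have huu : polar Q u u = 0 := by rw [polar_self_mul, h.hu, mul_zero]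
  -- a bracket inside the centraliser
  have key : ∀ a b x : V, Q a = 0 → polar Q u a = 0 → polar Q w a = 0 → polar Q u b = 0 →
      polar Q w b = 0 → polar Q u x = 0 → polar Q w x = 0 → polar Q a b = 0 → polar Q a x = 0 →
      Commute (L E u w) (L E a (polar Q b x • w)) := by
    intro a b x ha hua hwa hub hwb hux hwx hab hax
    have hsw : Commute (S Q u w) (S Q a b) := by
      show S Q u w * S Q a b = S Q a b * S Q u w
      have e := S_conj (S Q a b) u w
      rw [S_fix ha hab (by rw [polar_comm, hua]) (by rw [polar_comm, hub]),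
        S_fix ha hab (by rw [polar_comm, hwa]) (by rw [polar_comm, hwb])] at e
      exact (mul_inv_eq_iff_eq_mul.1 e).symm
    refine commute_bracket E (r := L E u w) (a := L E a b) (b := L E w x) ?_ ?_ ?_
    · rw [L_spec, L_spec]; exact hsw
    · rw [L_spec, L_spec]
      have e := S_conj (S Q u w) w x
      rw [S_fix h.hu h.huw h.huw hww, S_fix h.hu h.huw hux hwx] at e
      exact mul_inv_eq_iff_eq_mul.1 e
    · rw [L_spec, L_spec, L_spec, S_bracket ha h.hw (by rw [polar_comm, hwa]) hab hwb hax hwx]
  obtain ⟨α, β, y, hy, rfl⟩ := hf.decomp z hzu hzw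
  have hp := hf.perp y hy
  have hαu : ∀ α : F, polar Q w (α • u) = 0 := fun α => by rw [polar_smul_right, hwu, smul_zero]
  have hβw : ∀ β : F, polar Q w (β • w) = 0 := fun β => by rw [polar_smul_right, hww, smul_zero]
  refine commute_add E h.hw (by rw [polar_add_right, hαu, hβw, add_zero]) hp.2.1
    (commute_add E h.hw (hαu _) (hβw _) ?_ ?_) ?_
  · obtain ⟨a, ha, hQa, ha0⟩ := hf.singular E
    obtain ⟨a', ha', -, haa⟩ := hf.nd.exists_partner ha ha0 hQa
    obtain ⟨hua, hwa, -, -⟩ := hf.perp a ha
    have p' := hf.perp ((-α) • a') (W.smul_mem _ ha')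
    -- `S w (α u)` as the commutator of `S u a` and `S w a'`
    have hb : ⁅S Q u a, S Q w ((-α) • a')⁆ = S Q w (α • u) := by
      rw [S_bracket h.hu h.hw h.huw hua hwa p'.1 p'.2.1, polar_smul_right, haa, smul_eq_mul, mul_one,
        S_symm (by rw [QuadraticMap.map_smul, h.hu, smul_zero]) h.hw
          (by rw [polar_comm, hαu]), S_smul h.hu (by rw [polar_neg_right, h.huw, neg_zero])]
      congr 1; module
    refine commute_bracket E (r := L E u w) (a := L E u a) (b := L E w ((-α) • a')) ?_ ?_ ?_
    · rw [L_spec, L_spec]; exact S_commute_same h.hu h.huw hua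
    · rw [L_spec, L_spec, ← inv_inv (S Q u w), ← S_symm' h.hu h.hw h.huw]
      exact (S_commute_same h.hw hwu p'.2.1).inv_left
    · rw [L_spec, L_spec, L_spec, hb]
  · exact commute_one E (by rw [S_def h.hw (hβw _)]; exact siegel_eq_one _ _ rfl)
  · obtain ⟨a, ha, hQa, ha0⟩ := hf.singular E
    refine hf.nd.singular_induction ha hQa ha0 (P := fun y => Commute (L E u w) (L E w y))
      (fun x hx x' hx' c c' => commute_add E h.hw (hf.perp x hx).2.1 (hf.perp x' hx').2.1 c c') ?_ hy
    intro x hx hQx
    by_cases hx0 : x = 0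
    · subst hx0; exact commute_one E (S_zero w)
    obtain ⟨x', hx', hQx', hxx⟩ := hf.nd.exists_partner hx hx0 hQx
    have hd := finrank_split hx hx' hQx hQx' hxx
    have := hf.dim E
    have hne : (split Q W x x') ≠ ⊥ := fun e => by rw [e, finrank_bot] at hd; omega
    obtain ⟨b, hb, hb0⟩ := Submodule.exists_mem_ne_zero_of_ne_bot hne
    obtain ⟨c, hc, hbc⟩ := (Nd.split hx hx' hQx hQx' hxx hf.nd).exists_ne hb hb0
    obtain ⟨hbW, hxb, -⟩ := mem_split.1 hb
    obtain ⟨hcW, hxc, -⟩ := mem_split.1 hc
    have pc := hf.perp ((-1 : F) • c) (W.smul_mem _ hcW)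
    have := key x b ((-1 : F) • c) hQx (hf.perp x hx).1 (hf.perp x hx).2.1 (hf.perp b hbW).1
      (hf.perp b hbW).2.1 pc.1 pc.2.1 hxb (by rw [polar_smul_right, hxc, smul_zero])
    rw [polar_smul_right, hbc, smul_eq_mul, mul_one] at this
    refine commute_congr E rfl ?_ this
    rw [L_spec, L_spec, S_symm hQx h.hw (by rw [polar_comm, (hf.perp x hx).2.1]), neg_one_smul]

/-- The same for the first vector. -/
theorem comm_left {u w z : V} (h : Pair Q u w) (hzu : polar Q u z = 0) (hzw : polar Q w z = 0) :
    Commute (L E u w) (L E u z) :=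
  (L_inv E (S_symm' h.hw h.hu h.symm.huw) (comm_right E h.symm hzw hzu).symm).symm

/-- The commutator of a lift of a root element with a lift of `S a b`. -/
noncomputable def f (u w a b : V) : Δ := ⁅L E u w, L E a b⁆

theorem f_add {u w a b b' : V} (hR : ∀ x, polar Q a x = 0 → polar Q u x = 0 → polar Q w x = 0 →
      Commute (S Q u w) (S Q a x))
    (ha : Q a = 0) (h1 : polar Q a b = 0) (h2 : polar Q a b' = 0) (h3 : polar Q u b' = 0)
    (h4 : polar Q w b' = 0) :
    f E u w a (b + b') = f E u w a b * f E u w a b' := by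
  unfold f
  rw [← StemPairing.bracket_mul_right E.central (a := L E u w) (b := L E a b) (b' := L E a b')
    (by rw [L_spec, L_spec]; exact hR b' h2 h3 h4)]
  exact br_congr E rfl (by rw [map_mul, L_spec, L_spec, L_spec, S_mul ha h1 h2])

/-- Conjugation by an element of the commutator subgroup. -/
theorem f_conj {u w a b : V} (hc : Commute (S Q u w) (S Q a b)) {g : orth Q}
    (hg : g ∈ commutator (orth Q)) : f E (g.1 u) (g.1 w) (g.1 a) (g.1 b) = f E u w a b := by
  obtain ⟨δ, rfl⟩ := E.range hg
  refine StemPairing.bracket_conj E.central δ (by rw [L_spec, L_spec]; exact hc) ?_ ?_ <;>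
    rw [map_mul, map_mul, map_inv, L_spec, L_spec, S_conj]

/-- Scaling by a square on a hyperbolic pair, inside the commutator subgroup. -/
theorem exists_scale (hnd : (polarBilin Q).Nondegenerate) {e e' : V} (he : Q e = 0) (he' : Q e' = 0)
    (hee : polar Q e e' = 1) {s : F} (hs : s ≠ 0) :
    ∃ g ∈ commutator (orth Q), g.1 e = (s ^ 2) • e ∧
      ∀ x, polar Q e x = 0 → polar Q e' x = 0 → g.1 x = x := by
  have hee0 : polar Q e e = 0 := by rw [polar_self_mul, he, mul_zero]
  have hQ : ∀ r : F, r ≠ 0 → Q (r • e + r⁻¹ • e') = 1 := fun r hr => by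
    rw [QuadraticMap.map_add (⇑Q), QuadraticMap.map_smul, QuadraticMap.map_smul, he, he',
      polar_smul_left, polar_smul_right, hee]
    simp [hr]
  set x := s • e + s⁻¹ • e' with hx
  set y := (1 : F) • e + (1 : F)⁻¹ • e' with hy
  have hx1 : Q x ≠ 0 := by rw [hx, hQ s hs]; exact one_ne_zero
  have hy1 : Q y ≠ 0 := by rw [hy, hQ 1 one_ne_zero]; exact one_ne_zero
  refine ⟨refl Q x hx1 * refl Q y hy1,
    refl_mul_mem_commutator hnd _ _ (by rw [hx, hy, hQ s hs, hQ 1 one_ne_zero]), ?_, fun v hv hv' => ?_⟩
  · rw [orth_mul_apply, refl_apply, refl_apply,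
      show Q x = 1 from hQ s hs, show Q y = 1 from hQ 1 one_ne_zero]
    simp only [hx, hy, inv_one, one_mul, one_smul, polar_add_left,
      polar_sub_right, polar_smul_left, polar_smul_right, polar_add_right, smul_eq_mul, hee0,
      polar_comm Q e' e, hee, polar_self_mul, he']
    match_scalars <;> field_simp <;> ring
  · have : polar Q x v = 0 ∧ polar Q y v = 0 := by
      simp [hx, hy, polar_add_left, polar_smul_left, hv, hv']
    rw [orth_mul_apply, refl_apply Q y, this.2]
    simp only [mul_zero, zero_smul, sub_zero]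
    rw [refl_apply, this.1]
    simp

omit [Fintype F] [FiniteDimensional F V] in
theorem commute_of_fix {u w a b : V} (ha : Q a = 0) (hab : polar Q a b = 0) (hau : polar Q a u = 0)
    (haw : polar Q a w = 0) (hbu : polar Q b u = 0) (hbw : polar Q b w = 0) :
    Commute (S Q u w) (S Q a b) := by
  have e := S_conj (S Q a b) u w
  rw [S_fix ha hab hau hbu, S_fix ha hab haw hbw] at e
  exact (mul_inv_eq_iff_eq_mul.1 e).symm

theorem S_mem_commutator (hnd : (polarBilin Q).Nondegenerate) (hn : 5 ≤ Module.finrank F V) (u w : V) :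
    S Q u w ∈ commutator (orth Q) := by
  by_cases h : Q u = 0 ∧ polar Q u w = 0
  · rw [S_def h.1 h.2]
    exact sGroup_le_commutator hnd hn (siegel_mem hnd hn h.1 h.2)
  · rw [S, dif_neg h]; exact one_mem _

/-- An additive map on an anisotropic plane over a field with two or three elements, invariant under the
products of two reflections, is trivial. -/
theorem aniso_kill (hnd : (polarBilin Q).Nondegenerate) {W : Submodule F V} (hW : Nd Q W)
    (hr : Module.finrank F W = 2) (hcard : Fintype.card F = 2 ∨ Fintype.card F = 3)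
    (hiso : ∀ c ∈ W, Q c = 0 → c = 0) {M : Type*} [Group M] (φ : V → M)
    (hadd : ∀ x ∈ W, ∀ y ∈ W, φ (x + y) = φ x * φ y)
    (hinv : ∀ g ∈ commutator (orth Q), (∀ v, (∀ y ∈ W, polar Q v y = 0) → g.1 v = v) →
      ∀ x ∈ W, φ (g.1 x) = φ x) : ∀ b ∈ W, φ b = 1 := by
  classical
  have hp2 : (Fintype.card F).Prime := by rcases hcard with e | e <;> rw [e] <;> norm_num
  have hrep : ∀ α : F, ∃ k : ℕ, α = k := by
    haveI := Fact.mk hp2
    haveI : CharP F (Fintype.card F) := charP_of_card_eq_prime rfl
    intro α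
    obtain ⟨r, rfl⟩ := (ZMod.castHom_bijective F (n := Fintype.card F) rfl).2 α
    exact ⟨r.val, by rw [← map_natCast (ZMod.castHom (dvd_refl _) F) r.val, ZMod.natCast_zmod_val]⟩
  have hzero : φ 0 = 1 := by
    have := hadd 0 W.zero_mem 0 W.zero_mem
    rw [add_zero] at this
    exact right_eq_mul.1 this
  have hsmul : ∀ x ∈ W, φ x = 1 → ∀ α : F, φ (α • x) = 1 := by
    intro x hx h1 α
    obtain ⟨k, rfl⟩ := hrep α
    induction k with
    | zero => rw [Nat.cast_zero, zero_smul, hzero]
    | succ k ih => rw [Nat.cast_succ, add_smul, one_smul, hadd _ (W.smul_mem _ hx) x hx, ih, h1, mul_one]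
  have hspan : ∀ x y : V, x ∈ W → y ∈ W → LinearIndependent F ![x, y] → φ x = 1 → φ y = 1 →
      ∀ b ∈ W, φ b = 1 := by
    intro x y hx hy hli e1 e2 b hb
    have hle : Submodule.span F (Set.range ![x, y]) ≤ W := by
      rw [Submodule.span_le]; rintro _ ⟨i, rfl⟩; fin_cases i <;> assumption
    have heq := Submodule.eq_of_le_of_finrank_eq hle
      (by rw [finrank_span_eq_card hli, Fintype.card_fin, hr])
    rw [← heq, Matrix.range_cons, Matrix.range_cons, Matrix.range_empty, Set.union_empty,
      Set.singleton_union, Submodule.mem_span_pair] at hb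
    obtain ⟨α, β, rfl⟩ := hb
    rw [hadd _ (W.smul_mem _ hx) _ (W.smul_mem _ hy), hsmul x hx e1, hsmul y hy e2, mul_one]
  have hmove : ∀ p r : V, p ∈ W → r ∈ W → ∀ (hp0 : Q p ≠ 0) (hr0 : Q r ≠ 0), Q p = Q r →
      ∀ x ∈ W, ∀ d ∈ W, (refl Q p hp0 * refl Q r hr0).1 x = x + d → φ d = 1 := by
    intro p r hpW hrW hp0 hr0 he x hx d hd hxd
    have hfix : ∀ v, (∀ y ∈ W, polar Q v y = 0) → (refl Q p hp0 * refl Q r hr0).1 v = v := by
      intro v hv
      rw [orth_mul_apply, refl_apply Q r, polar_comm Q r v, hv r hrW]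
      simp only [mul_zero, zero_smul, sub_zero]
      rw [refl_apply, polar_comm Q p v, hv p hpW]
      simp
    have h := hinv _ (refl_mul_mem_commutator hnd _ _ he) hfix x hx
    rw [hxd, hadd x hx d hd] at h
    exact mul_eq_left.1 h
  obtain ⟨x, hx, hx0⟩ := Submodule.exists_mem_ne_zero_of_ne_bot
    (show W ≠ ⊥ from fun e => by rw [e, finrank_bot] at hr; omega)
  have hQx : Q x ≠ 0 := fun e => hx0 (hiso x hx e)
  rcases hcard with h2 | h3
  · obtain ⟨y, hy, hxy⟩ := hW.exists_ne hx hx0
    have hcu := Fintype.card_units (α := F)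
    rw [h2] at hcu
    haveI : Subsingleton Fˣ := Fintype.card_le_one_iff_subsingleton.1 (by omega)
    have htwo : ∀ α : F, α ≠ 0 → α = 1 := fun α hα =>
      congrArg Units.val (Subsingleton.elim (Units.mk0 α hα) 1)
    have hF2 : (2 : F) = 0 := by
      have : Fact (Nat.Prime 2) := ⟨Nat.prime_two⟩
      have : CharP F 2 := charP_of_card_eq_prime h2
      simpa using CharP.cast_eq_zero F 2
    have hy0 : y ≠ 0 := fun e => by simp [e] at hxy
    have hQy : Q y ≠ 0 := fun e => hy0 (hiso y hy e)
    have hxx : polar Q x x = 0 := by rw [polar_self_mul, hF2, zero_mul]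
    have hyy : polar Q y y = 0 := by rw [polar_self_mul, hF2, zero_mul]
    have hli : LinearIndependent F ![x, y] := by
      rw [LinearIndependent.pair_iff]
      intro α β hαβ
      have e1 : β = 0 := by simpa [polar_add_right, polar_smul_right, hxy, hxx] using congrArg (polar Q x) hαβ
      rw [e1, zero_smul, add_zero, smul_eq_zero] at hαβ
      exact ⟨hαβ.resolve_right hx0, e1⟩
    have hQ1 : Q x = Q y := by rw [htwo _ hQx, htwo _ hQy]
    have e1 : (refl Q x hQx * refl Q y hQy).1 y = y + x := by
      rw [orth_mul_apply, refl_apply Q y, hyy]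
      simp only [mul_zero, zero_smul, sub_zero]
      rw [refl_apply, htwo _ hQx, hxy]
      match_scalars <;> first | linear_combination hF2 | linear_combination -hF2 | linear_combination (0 : F) * hF2
    have e2 : (refl Q x hQx * refl Q y hQy).1 x = x + (y + (-1 : F) • x) := by
      rw [orth_mul_apply, refl_apply Q y, htwo _ hQy, polar_comm Q y x, hxy, map_sub, map_smul,
        refl_apply, refl_apply, htwo _ hQx, hxy, hxx]
      match_scalars <;> first | linear_combination hF2 | linear_combination -hF2 | linear_combination (0 : F) * hF2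
    have k1 := hmove x y hx hy hQx hQy hQ1 y hy x hx e1
    have k2 := hmove x y hx hy hQx hQy hQ1 x hx _ (W.add_mem hy (W.smul_mem _ hx)) e2
    rw [hadd y hy _ (W.smul_mem _ hx), hsmul x hx k1, mul_one] at k2
    exact hspan x y hx hy hli k1 k2
  · haveI := Fact.mk Nat.prime_three
    haveI : CharP F 3 := charP_of_card_eq_prime h3
    have h30 : (3 : F) = 0 := by simpa using CharP.cast_eq_zero F 3
    have h20 : (2 : F) ≠ 0 := fun e => one_ne_zero (show (1 : F) = 0 by linear_combination h30 - e)
    have hall : ∀ α : F, α = 0 ∨ α = 1 ∨ α = -1 := by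
      intro α
      have hsq : α = 0 ∨ α ^ 2 = 1 := by
        by_cases hα : α = 0
        · exact Or.inl hα
        · exact Or.inr (by simpa [h3] using FiniteField.pow_card_sub_one_eq_one α hα)
      rcases hsq with e | e
      · exact Or.inl e
      · exact Or.inr (sq_eq_one_iff.1 e)
    obtain ⟨y, hy, hyx⟩ : ∃ y ∈ W, y ∉ Submodule.span F {x} := by
      by_contra hne
      push Not at hne
      have := Submodule.finrank_mono (show W ≤ Submodule.span F {x} from hne)
      rw [finrank_span_singleton hx0, hr] at this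
      omega
    set z := y - (polar Q x y / (2 * Q x)) • x with hzdef
    have hz : z ∈ W := W.sub_mem hy (W.smul_mem _ hx)
    have hz0 : z ≠ 0 := fun e => hyx (by
      rw [hzdef, sub_eq_zero] at e
      rw [e]; exact Submodule.smul_mem _ _ (Submodule.mem_span_singleton_self x))
    have hxz : polar Q x z = 0 := by
      rw [hzdef, polar_sub_right, polar_smul_right, polar_self_mul, smul_eq_mul,
        div_mul_cancel₀ _ (mul_ne_zero h20 hQx), sub_self]
    clear_value z
    have hQz : Q z ≠ 0 := fun e => hz0 (hiso z hz e)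
    have hxx : polar Q x x ≠ 0 := by rw [polar_self_mul]; exact mul_ne_zero h20 hQx
    have hli : LinearIndependent F ![x, z] := by
      rw [LinearIndependent.pair_iff]
      intro α β hαβ
      have e1 : α = 0 := by
        have e := congrArg (polar Q x) hαβ
        rw [polar_add_right, polar_smul_right, polar_smul_right, hxz, polar_zero_right] at e
        simpa [polar_self_mul, h20, hQx] using e
      rw [e1, zero_smul, zero_add, smul_eq_zero] at hαβ
      exact ⟨e1, hαβ.resolve_right hz0⟩
    have heq : Q x = Q z := by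
      by_contra hne
      have hs : Q (x + z) = 0 := by
        rw [QuadraticMap.map_add (⇑Q), hxz, add_zero]
        rcases (hall (Q x)).resolve_left hQx with e | e <;>
          rcases (hall (Q z)).resolve_left hQz with e' | e' <;>
          first
            | exact absurd (e.trans e'.symm) hne
            | rw [e, e']; ring
      exact one_ne_zero (hli.eq_zero_of_pair (s := 1) (t := 1) (by
        rw [one_smul, one_smul]; exact hiso _ (W.add_mem hx hz) hs)).1
    have e1 : (refl Q x hQx * refl Q z hQz).1 x = x + x := by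
      rw [orth_mul_apply, refl_apply Q z, polar_comm Q z x, hxz]
      simp only [mul_zero, zero_smul, sub_zero]
      rw [refl_apply, polar_self_mul]
      match_scalars
      field_simp
      linear_combination -h30
    have e2 : (refl Q x hQx * refl Q z hQz).1 z = z + z := by
      rw [orth_mul_apply, refl_apply Q z, polar_self_mul, map_sub, map_smul, refl_apply, hxz]
      match_scalars
      · field_simp; linear_combination -h30
      · ring
    exact hspan x z hx hz hli (hmove x z hx hz hQx hQz heq x hx x hx e1)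
      (hmove x z hx hz hQx hQz heq z hz z hz e2)

/-- An element of the commutator subgroup exchanging two orthogonal hyperbolic planes. -/
theorem exists_swap (hnd : (polarBilin Q).Nondegenerate) (hn : 5 ≤ Module.finrank F V) {u a u' a' : V}
    (hu : Q u = 0) (ha : Q a = 0) (huu : polar Q u u' = 1) (haa : polar Q a a' = 1) (hua : polar Q u a = 0)
    (hua' : polar Q u a' = 0) (hau' : polar Q a u' = 0) :
    ∃ g ∈ commutator (orth Q), g.1 u = -a ∧ g.1 a = u ∧
      ∀ x, polar Q u x = 0 → polar Q a x = 0 → polar Q u' x = 0 → polar Q a' x = 0 → g.1 x = x := by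
  set T := S Q a u'
  set T' := (S Q u a')⁻¹ with hT'
  have hua'' : polar Q u (-a') = 0 := by rw [polar_neg_right, hua', neg_zero]
  have e1 : T.1 u = u - a := by
    rw [S_apply ha hau', polar_comm Q a u, hua, polar_comm Q u' u, huu]; module
  have e2 : T.1 a = a := S_fix ha hau' (by rw [polar_self_mul, ha, mul_zero]) (by rw [polar_comm, hau'])
  have e3 : T'.1 u = u := by
    rw [hT', S_inv hu hua']
    exact S_fix hu hua'' (by rw [polar_self_mul, hu, mul_zero]) (by rw [polar_comm, hua''])
  have e4 : T'.1 a = a + u := by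
    rw [hT', S_inv hu hua', S_apply hu hua'', hua, polar_neg_left, polar_comm Q a' a, haa]; module
  refine ⟨T * T' * T, Subgroup.mul_mem _ (Subgroup.mul_mem _ (S_mem_commutator hnd hn _ _)
    (Subgroup.inv_mem _ (S_mem_commutator hnd hn _ _))) (S_mem_commutator hnd hn _ _), ?_, ?_,
    fun x h1 h2 h3 h4 => ?_⟩
  · rw [orth_mul_apply, orth_mul_apply, e1, map_sub, e3, e4, map_sub, map_add, e1, e2]; abel
  · rw [orth_mul_apply, orth_mul_apply, e2, e4, map_add, e2, e1]; abel
  · have f1 : T.1 x = x := S_fix ha hau' h2 h3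
    have f2 : T'.1 x = x := by
      rw [hT', S_inv hu hua']
      exact S_fix hu hua'' h1 (by rw [polar_neg_left, h4, neg_zero])
    rw [orth_mul_apply, orth_mul_apply, f1, f2, f1]

/-- Lifts of a root element commute with lifts of disjoint Siegel transformations. -/
theorem comm_disjoint {u w a b : V} (h : Pair Q u w) (ha : Q a = 0) (hua : polar Q u a = 0)
    (hwa : polar Q w a = 0) (hind : ∀ α β γ : F, α • u + β • w + γ • a = 0 → α = 0 ∧ β = 0 ∧ γ = 0)
    (hub : polar Q u b = 0) (hwb : polar Q w b = 0) (hab : polar Q a b = 0) :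
    Commute (L E u w) (L E a b) := by
  classical
  have hau : polar Q a u = 0 := by rw [polar_comm, hua]
  have haw : polar Q a w = 0 := by rw [polar_comm, hwa]
  have haa : polar Q a a = 0 := by rw [polar_self_mul, ha, mul_zero]
  obtain ⟨u', w', W, hf, hUW⟩ := exists_frame h (Submodule.span F {a}) (fun x hx => by
      obtain ⟨c, rfl⟩ := Submodule.mem_span_singleton.1 hx
      simp [polar_smul_right, hua, hwa])
    (fun hm => by
      rw [← Submodule.span_insert, Submodule.mem_span_pair] at hm
      obtain ⟨c, d, he⟩ := hm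
      exact one_ne_zero (hind 1 (-c) (-d) (by rw [← he]; module)).1)
    (fun hm => by
      rw [← Submodule.span_insert, Submodule.mem_span_pair] at hm
      obtain ⟨c, d, he⟩ := hm
      exact one_ne_zero (hind (-c) 1 (-d) (by rw [← he]; module)).2.1)
    E.nd
  have haW : a ∈ W := hUW (Submodule.mem_span_singleton_self a)
  have ha0 : a ≠ 0 := fun e => one_ne_zero (hind 0 0 1 (by rw [e]; simp)).2.2
  obtain ⟨a', ha', hQa', haa'⟩ := hf.nd.exists_partner haW ha0 ha
  set W₃ := split Q W a a' with hW₃
  have hd : Module.finrank F W₃ + 2 = Module.finrank F W := finrank_split haW ha' ha hQa' haa'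
  have hn₃ : Nd Q W₃ := Nd.split haW ha' ha hQa' haa' hf.nd
  have hp : ∀ x ∈ W₃, polar Q u x = 0 ∧ polar Q w x = 0 ∧ polar Q a x = 0 ∧ polar Q a' x = 0 ∧
      polar Q u' x = 0 ∧ polar Q w' x = 0 := fun x hx => by
    obtain ⟨hxW, h1, h2⟩ := mem_split.1 hx
    obtain ⟨h3, h4, h5, h6⟩ := hf.perp x hxW
    exact ⟨h3, h4, h1, h2, h5, h6⟩
  have hcS : ∀ x, polar Q a x = 0 → polar Q u x = 0 → polar Q w x = 0 →
      Commute (S Q u w) (S Q a x) := fun x h1 h2 h3 =>
    commute_of_fix ha h1 hau haw (by rw [polar_comm, h2]) (by rw [polar_comm, h3])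
  have hadd : ∀ x ∈ W₃, ∀ y ∈ W₃, f E u w a (x + y) = f E u w a x * f E u w a y := fun x hx y hy =>
    f_add E hcS ha (hp x hx).2.2.1 (hp y hy).2.2.1 (hp y hy).1 (hp y hy).2.1
  have hzero : f E u w a 0 = 1 := by
    rw [f, commutatorElement_eq_one_iff_commute]; exact commute_one E (S_zero a)
  -- invariance under isometries fixing the three vectors
  have hinv : ∀ g ∈ commutator (orth Q), g.1 u = u → g.1 w = w → g.1 a = a → ∀ x ∈ W₃,
      f E u w a (g.1 x) = f E u w a x := by
    intro g hg e1 e2 e3 x hx
    conv_lhs => rw [← e1, ← e2, ← e3]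
    exact f_conj E (hcS x (hp x hx).2.2.1 (hp x hx).1 (hp x hx).2.1) hg
  -- the kernel of `f`
  have hkill : ∀ b₃ ∈ W₃, f E u w a b₃ = 1 := by
    intro b₃ hb₃
    by_cases hq : 4 ≤ Fintype.card F
    · obtain ⟨s, hs0, hs⟩ : ∃ s : F, s ≠ 0 ∧ s ^ 2 ≠ 1 := by
        by_contra hne
        push Not at hne
        have hsub : (Finset.univ : Finset F) ⊆ {0, 1, -1} := fun x _ => by
          by_cases hx : x = 0
          · simp [hx]
          · have := hne x hx
            rcases sq_eq_one_iff.1 this with e | e <;> simp [e]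
        have := (Finset.card_le_card hsub).trans Finset.card_le_three
        rw [Finset.card_univ] at this
        omega
      obtain ⟨g, hg, hge, hgx⟩ := exists_scale E.nd ha hQa' haa' hs0
      obtain ⟨hfu, hfw, -, -⟩ := hf.perp a' ha'
      have key : ∀ x ∈ W₃, f E u w a ((s ^ 2) • x) = f E u w a x := by
        intro x hx
        have h5 := f_conj E (hcS x (hp x hx).2.2.1 (hp x hx).1 (hp x hx).2.1) hg
        rw [hgx u hau (by rw [polar_comm, hfu]), hgx w haw (by rw [polar_comm, hfw]), hge,
          hgx x (hp x hx).2.2.1 (hp x hx).2.2.2.1] at h5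
        rw [← h5]
        exact br_congr E rfl (by rw [L_spec, L_spec, S_smul ha (hp x hx).2.2.1])
      set x := (s ^ 2 - 1)⁻¹ • b₃
      have hx : x ∈ W₃ := W₃.smul_mem _ hb₃
      have e : (s ^ 2) • x = x + b₃ := by
        simp only [x, smul_smul]
        match_scalars
        field_simp [sub_ne_zero.2 hs]
        ring
      have h6 := key x hx
      rw [e, hadd x hx b₃ hb₃] at h6
      exact mul_eq_left.1 h6
    · have hcard : Fintype.card F = 2 ∨ Fintype.card F = 3 := by
        have := Fintype.one_lt_card (α := F); omega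
      -- a move killing a vector
      have hmove : ∀ g ∈ commutator (orth Q), g.1 u = u → g.1 w = w → g.1 a = a → ∀ x ∈ W₃,
          g.1 x - x ∈ W₃ → f E u w a (g.1 x - x) = 1 := by
        intro g hg e1 e2 e3 x hx hd
        have h5 := hinv g hg e1 e2 e3 x hx
        conv_lhs at h5 => rw [show g.1 x = x + (g.1 x - x) by abel, hadd x hx _ hd]
        exact mul_eq_left.1 h5
      have hrank : Module.finrank F W₃ + 6 = Module.finrank F V := by
        have := hf.rank; omega
      rcases E.small with h9 | h4 | ⟨h8, hsm⟩ | ⟨h7, hcom⟩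
      · obtain ⟨c₀, hc₀, hQc₀, hc₀0⟩ := hn₃.exists_singular (by omega)
        refine hn₃.singular_induction hc₀ hQc₀ hc₀0 (P := fun y => f E u w a y = 1)
          (fun x hx y hy e1 e2 => by rw [hadd x hx y hy, e1, e2, mul_one]) ?_ hb₃
        intro c hc hQc
        by_cases hc0 : c = 0
        · rw [hc0, hzero]
        obtain ⟨c', hc', hQc', hcc⟩ := hn₃.exists_partner hc hc0 hQc
        have hd4 := finrank_split hc hc' hQc hQc' hcc
        have hne : split Q W₃ c c' ≠ ⊥ := fun e => by rw [e, finrank_bot] at hd4; omega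
        obtain ⟨p, hp', hp0⟩ := Submodule.exists_mem_ne_zero_of_ne_bot hne
        obtain ⟨z, hz, hpz⟩ := (Nd.split hc hc' hQc hQc' hcc hn₃).exists_ne hp' hp0
        obtain ⟨hpW, hcp, -⟩ := mem_split.1 hp'
        obtain ⟨hzW, hcz, -⟩ := mem_split.1 hz
        have hgmem : S Q c p ∈ commutator (orth Q) := by
          have := E.dim
          rw [S_def hQc hcp]
          exact sGroup_le_commutator E.nd (by omega) (siegel_mem E.nd (by omega) hQc hcp)
        have hfix : ∀ v, polar Q v c = 0 → polar Q v p = 0 → (S Q c p).1 v = v := fun v h1 h2 =>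
          S_fix hQc hcp (by rw [polar_comm, h1]) (by rw [polar_comm, h2])
        have he : (S Q c p).1 z - z = -c := by
          rw [S_apply hQc hcp, hcz, hpz]; module
        have h7 := hmove (S Q c p) hgmem (hfix u (hp c hc).1 (hp p hpW).1)
          (hfix w (hp c hc).2.1 (hp p hpW).2.1) (hfix a (hp c hc).2.2.1 (hp p hpW).2.2.1) z hzW
          (by rw [he]; exact W₃.neg_mem hc)
        rw [he] at h7
        have h8 := hadd c hc (-c) (W₃.neg_mem hc)
        rw [add_neg_cancel, h7, mul_one, hzero] at h8
        exact h8.symm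
      · exact absurd h4 hq
      · have hr2 : Module.finrank F W₃ = 2 := by omega
        by_cases hiso : ∃ c ∈ W₃, Q c = 0 ∧ c ≠ 0
        · -- the three vectors and `c` span a totally singular space
          obtain ⟨c₀, hc₀, hQc₀, hc₀0⟩ := hiso
          refine hn₃.singular_induction hc₀ hQc₀ hc₀0 (P := fun y => f E u w a y = 1)
            (fun x hx y hy e1 e2 => by rw [hadd x hx y hy, e1, e2, mul_one]) ?_ hb₃
          intro c hc hQc
          by_cases hc0 : c = 0
          · rw [hc0, hzero]
          obtain ⟨c', hc', hQc', hcc⟩ := hn₃.exists_partner hc hc0 hQc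
          obtain ⟨hcu, hcw, hca, hca', hcu', hcw'⟩ := hp c hc
          obtain ⟨hc'u, hc'w, hc'a, hc'a', hc'u', hc'w'⟩ := hp c' hc'
          obtain ⟨-, -, hau', haw'⟩ := hf.perp a haW
          obtain ⟨ha'u, ha'w, ha'u', ha'w'⟩ := hf.perp a' ha'
          rcases hsm with h3 | hno
          · have h5 : 5 ≤ Module.finrank F V := by omega
            obtain ⟨g₁, hg₁, g1u, g1a, g1x⟩ := exists_swap E.nd h5 h.hu ha hf.huu haa' hua ha'u
              (by rw [polar_comm, hau'])
            obtain ⟨g₂, hg₂, g2w, g2c, g2x⟩ := exists_swap E.nd h5 h.hw hQc hf.hww hcc hcw hc'w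
              (by rw [polar_comm, hcw'])
            have hfc := f_conj E (hcS c hca hcu hcw) (Subgroup.mul_mem _ hg₁ hg₂)
            simp only [orth_mul_apply] at hfc
            rw [g2x u (by rw [polar_comm, h.huw]) (by rw [polar_comm, hcu]) (by rw [polar_comm, hf.huw'])
                (by rw [polar_comm, hc'u]), g1u, g2w, map_neg,
              g2x a hwa (by rw [polar_comm, hca]) haw' (by rw [polar_comm, hc'a]), g1a, g2c,
              g1x w h.huw (by rw [polar_comm, hwa]) (by rw [polar_comm, hf.hwu']) (by rw [polar_comm, ha'w]),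
              g1x c hcu hca hcu' hca'] at hfc
            have hinvf : f E u w a c = (f E u w a c)⁻¹ := by
              conv_rhs => rw [f, commutatorElement_inv]
              conv_lhs => rw [← hfc]
              refine br_congr E ?_ rfl
              rw [L_spec, L_spec, ← neg_one_smul F a, S_smul ha (by rw [polar_neg_right, hca, neg_zero]),
                neg_one_smul, neg_neg]
            have hF3 : CharP F 3 := by
              have : Fact (Nat.Prime 3) := ⟨Nat.prime_three⟩
              exact charP_of_card_eq_prime h3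
            have h0 : c + c + c = 0 := by
              have e : (3 : F) = 0 := by simpa using CharP.cast_eq_zero F 3
              rw [show c + c + c = (3 : F) • c by module, e, zero_smul]
            have h6 := hadd (c + c) (W₃.add_mem hc hc) c hc
            rw [h0, hzero, hadd c hc c hc] at h6
            nth_rewrite 1 [hinvf] at h6
            rwa [inv_mul_cancel, one_mul, eq_comm] at h6
          · exfalso
            refine hno ![u, w, a, c] ?_ ?_ ?_
            · rw [Fintype.linearIndependent_iff]
              intro k hk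
              simp [Fin.sum_univ_four] at hk
              have k1 := congrArg (polar Q u') hk
              have k2 := congrArg (polar Q w') hk
              have k3 := congrArg (polar Q a') hk
              have k4 := congrArg (polar Q c') hk
              simp [polar_add_right, polar_smul_right, polar_comm Q u' u, hf.huu, polar_comm Q u' w,
                hf.hwu', hau', hcu'] at k1
              simp [polar_add_right, polar_smul_right, polar_comm Q w' w, hf.hww, polar_comm Q w' u,
                hf.huw', haw', hcw'] at k2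
              simp [polar_add_right, polar_smul_right, polar_comm Q a' a, haa', polar_comm Q a' u,
                ha'u, polar_comm Q a' w, ha'w, hca'] at k3
              simp [polar_add_right, polar_smul_right, polar_comm Q c' u, hc'u, polar_comm Q c' w,
                hc'w, polar_comm Q c' a, hc'a, polar_comm Q c' c, hcc] at k4
              intro i
              fin_cases i <;> assumption
            · have hself : ∀ x, Q x = 0 → polar Q x x = 0 := fun x hx => by
                rw [polar_self_mul, hx, mul_zero]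
              intro i j
              fin_cases i <;> fin_cases j <;>
                simp [hself, h.hu, h.hw, ha, hQc, h.huw, polar_comm Q w u, hua, hau, hwa, haw, hcu, hcw,
                  hca, polar_comm Q c u, polar_comm Q c w, polar_comm Q c a]
            · intro i
              fin_cases i <;> simp [h.hu, h.hw, ha, hQc]
        · push Not at hiso
          refine aniso_kill E.nd hn₃ hr2 hcard hiso (fun x => f E u w a x) hadd ?_ b₃ hb₃
          intro g hg hfix x hx
          exact hinv g hg
            (hfix u fun y hy => (hp y hy).1)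
            (hfix w fun y hy => (hp y hy).2.1)
            (hfix a fun y hy => (hp y hy).2.2.1) x hx
      · by_cases hb0 : b₃ = 0
        · rw [hb0, hzero]
        have h1 : Module.finrank F W₃ = 1 := by omega
        have hQb : Q b₃ ≠ 0 := by
          intro e
          obtain ⟨y, hy, hby⟩ := hn₃.exists_ne hb₃ hb0
          obtain ⟨c, hc⟩ := exists_smul_eq_of_finrank_eq_one h1
            (x := (⟨b₃, hb₃⟩ : W₃)) (fun h => hb0 (congrArg Subtype.val h)) ⟨y, hy⟩
          have hc' : c • b₃ = y := congrArg Subtype.val hc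
          rw [← hc', polar_smul_right, polar_self_mul, e, mul_zero, smul_zero] at hby
          exact zero_ne_one hby
        obtain ⟨hau₁, haw₁, hau', haw'⟩ := hf.perp a haW
        obtain ⟨ha'u, ha'w, ha'u', ha'w'⟩ := hf.perp a' ha'
        obtain ⟨qu, qw, qa, qa', qu', qw'⟩ := hp b₃ hb₃
        refine commutatorElement_eq_one_iff_commute.2
          (hcom ![u, w, a, u', w', a'] b₃ ⟨?_, ?_, ?_⟩ hQb _ _ (L_spec E u w) (L_spec E a b₃))
        · intro i; fin_cases i <;> simp [h.hu, h.hw, ha, hf.hu', hf.hw', hQa']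
        · intro i j hij
          fin_cases i <;> fin_cases j <;>
            first
              | exact absurd rfl hij
              | simp [h.huw, polar_comm Q w u, hua, hau, hwa, haw, hf.huu, polar_comm Q u' u, hf.hww,
                  polar_comm Q w' w, hf.huw', polar_comm Q w' u, hf.hwu', polar_comm Q u' w, hf.huw'',
                  polar_comm Q w' u', hau', polar_comm Q a u', haw', polar_comm Q a w', ha'u,
                  polar_comm Q a' u, ha'w, polar_comm Q a' w, ha'u', polar_comm Q a' u', ha'w',
                  polar_comm Q a' w', haa', polar_comm Q a' a]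
        · intro i; fin_cases i <;> simp [qu, qw, qa, qa', qu', qw']
  obtain ⟨α, β, b₂, hb₂, hbeq⟩ := hf.decomp b hub hwb
  subst hbeq
  obtain ⟨γ, δ, b₃, hb₃, hb₂eq⟩ := exists_split_eq haW ha' ha hQa' haa' hb₂
  subst hb₂eq
  obtain ⟨hb₃u, hb₃w, hb₃a, -, -, -⟩ := hp b₃ hb₃
  have hδ : δ = 0 := by
    have := hab
    simpa [polar_add_right, polar_smul_right, hau, haw, haa, haa', hb₃a] using this
  subst hδ
  rw [zero_smul, add_zero]
  have q1 : ∀ c : F, polar Q a (c • u) = 0 := fun c => by rw [polar_smul_right, hau, smul_zero]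
  have q2 : ∀ c : F, polar Q a (c • w) = 0 := fun c => by rw [polar_smul_right, haw, smul_zero]
  have q3 : ∀ c : F, polar Q a (c • a) = 0 := fun c => by rw [polar_smul_right, haa, smul_zero]
  refine commute_add E ha (by rw [polar_add_right, q1, q2, add_zero])
    (by rw [polar_add_right, q3, hb₃a, add_zero]) (commute_add E ha (q1 _) (q2 _) ?_ ?_)
    (commute_add E ha (q3 _) hb₃a (commute_one E (by rw [S_def ha (q3 _)]; exact siegel_eq_one _ _ rfl))
      (commutatorElement_eq_one_iff_commute.1 (hkill b₃ hb₃)))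
  · refine commute_congr E rfl (b' := L E u ((-α) • a)) ?_ (comm_left E h ?_ ?_)
    · rw [L_spec, L_spec, ← S_smul ha hau α, S_symm h.hu (by rw [QuadraticMap.map_smul, ha, smul_zero])
        (by rw [polar_smul_right, hua, smul_zero]), neg_smul]
    · rw [polar_smul_right, hua, smul_zero]
    · rw [polar_smul_right, hwa, smul_zero]
  · refine commute_congr E rfl (b' := L E w ((-β) • a)) ?_ (comm_right E h ?_ ?_)
    · rw [L_spec, L_spec, ← S_smul ha haw β, S_symm h.hw (by rw [QuadraticMap.map_smul, ha, smul_zero])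
        (by rw [polar_smul_right, hwa, smul_zero]), neg_smul]
    · rw [polar_smul_right, hua, smul_zero]
    · rw [polar_smul_right, hwa, smul_zero]

end Cfsg.Agent.OrthStemLifts
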