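import Mathlib
import Cfsg.Agent.Lib.OrthUnitaryKlein
import Cfsg.Agent.Lib.OrthUnitaryLowDim
import Cfsg.Agent.Lib.SymplecticOrder
import Cfsg.Agent.Lib.SymplecticSimple

/-!
The symplectic group of rank two inside the Klein correspondence: odd dimension five.
-/

set_option autoImplicit false
set_option linter.unusedSectionVars false

namespace Cfsg.Agent.OrthUnitaryFive

open QuadraticMap
open scoped Matrix MatrixGroups
open Cfsg.Agent.OrthUnitaryQuad
open Cfsg.Agent.OrthUnitaryForms
open Cfsg.Agent.OrthUnitaryStd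
open Cfsg.Agent.OrthUnitaryKlein
open Cfsg.Agent.OrthUnitaryIsoCore
open Cfsg.Agent.OrthUnitaryLowDim

variable {F : Type*} [Field F]

/-- The vector of the symplectic form. -/
def omega6 (F : Type*) [Field F] : Fin 3 ⊕ Fin 3 → F := Sum.elim ![0, -1, 0] ![0, 1, 0]

/-- Four indices as two pairs. -/
def idx : Fin 2 ⊕ Fin 2 ≃ Fin 4 := finSumFinEquiv

theorem reindex_J : Matrix.reindex idx idx (Matrix.J (Fin 2) F) = toAlt (omega6 F) := by
  ext i j
  obtain ⟨a, rfl⟩ := idx.surjective i
  obtain ⟨b, rfl⟩ := idx.surjective j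
  rw [Matrix.reindex_apply, Matrix.submatrix_apply, Equiv.symm_apply_apply,
    Equiv.symm_apply_apply]
  rcases a with a | a <;> rcases b with b | b <;> fin_cases a <;> fin_cases b <;>
    simp [idx, finSumFinEquiv, Matrix.J, toAlt, omega6, Fin.castAdd, Fin.natAdd]

theorem map_omega (A : Matrix.symplecticGroup (Fin 2) F) :
    act (Matrix.reindex idx idx A.1) (omega6 F) = omega6 F := by
  rw [act_apply, ← reindex_J, Matrix.transpose_reindex]
  simp only [Matrix.reindex_apply, Matrix.submatrix_mul_equiv]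
  rw [SymplecticGroup.mem_iff.1 A.2, ← Matrix.reindex_apply, reindex_J, ofAlt_toAlt]

theorem det_one (A : Matrix.symplecticGroup (Fin 2) F) :
    (Matrix.reindex idx idx A.1).det = 1 := by
  have h := det_mul_pfaffian (Matrix.reindex idx idx A.1) (omega6 F)
  rw [map_omega] at h
  have hw : quadFormPlus 3 F (omega6 F) = -1 := by
    simp [quadFormPlus, omega6, Fin.sum_univ_three]
  rw [hw] at h
  linear_combination h

/-- The embedding into `SL_4`. -/
def toSL : Matrix.symplecticGroup (Fin 2) F →* SL(4, F) where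
  toFun A := ⟨Matrix.reindex idx idx A.1, det_one A⟩
  map_one' := Subtype.ext (by
    show Matrix.reindex idx idx (1 : Matrix (Fin 2 ⊕ Fin 2) (Fin 2 ⊕ Fin 2) F) = 1
    simp)
  map_mul' A B := Subtype.ext (by
    show Matrix.reindex idx idx (A.1 * B.1) = Matrix.reindex idx idx A.1 * Matrix.reindex idx idx B.1
    simp [Matrix.submatrix_mul_equiv])

/-- The orthogonal complement of `omega6`, in coordinates. -/
def emb5 : (Unit ⊕ (Fin 2 ⊕ Fin 2) → F) →ₗ[F] (Fin 3 ⊕ Fin 3 → F) where
  toFun v := Sum.elim ![v (.inr (.inl 0)), v (.inl ()), v (.inr (.inl 1))]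
    ![v (.inr (.inr 0)), v (.inl ()), v (.inr (.inr 1))]
  map_add' u v := by
    funext i
    rcases i with i | i <;> fin_cases i <;> simp
  map_smul' c v := by
    funext i
    rcases i with i | i <;> fin_cases i <;> simp

/-- Its inverse. -/
def proj5 : (Fin 3 ⊕ Fin 3 → F) →ₗ[F] (Unit ⊕ (Fin 2 ⊕ Fin 2) → F) where
  toFun v := Sum.elim (fun _ => v (.inl 1))
    (Sum.elim ![v (.inl 0), v (.inl 2)] ![v (.inr 0), v (.inr 2)])
  map_add' u v := by
    funext i
    rcases i with i | i | i <;> first | rfl | (fin_cases i <;> simp)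
  map_smul' c v := by
    funext i
    rcases i with i | i | i <;> first | rfl | (fin_cases i <;> simp)

theorem proj5_emb5 (v : Unit ⊕ (Fin 2 ⊕ Fin 2) → F) : proj5 (emb5 v) = v := by
  funext i
  rcases i with i | i | i
  · rfl
  all_goals fin_cases i <;> simp [proj5, emb5]

theorem quad_emb5 (v : Unit ⊕ (Fin 2 ⊕ Fin 2) → F) :
    quadFormPlus 3 F (emb5 v) = quadFormOdd 2 F v := by
  simp [quadFormPlus, quadFormOdd, emb5, Fin.sum_univ_three, Fin.sum_univ_two]
  ring

theorem emb5_proj5 {v : Fin 3 ⊕ Fin 3 → F} (h : v (.inl 1) = v (.inr 1)) :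
    emb5 (proj5 v) = v := by
  funext i
  rcases i with i | i <;> fin_cases i <;> simp [proj5, emb5, h]

theorem polar_omega (v : Fin 3 ⊕ Fin 3 → F) :
    quadFormPlus 3 F (v + omega6 F) - quadFormPlus 3 F v - quadFormPlus 3 F (omega6 F)
      = v (.inl 1) - v (.inr 1) := by
  simp [quadFormPlus, omega6, Fin.sum_univ_three]
  ring

theorem stable (A : Matrix.symplecticGroup (Fin 2) F) (v : Unit ⊕ (Fin 2 ⊕ Fin 2) → F) :
    act (toSL A).1 (emb5 v) (.inl 1) = act (toSL A).1 (emb5 v) (.inr 1) := by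
  rw [← sub_eq_zero, ← polar_omega]
  have h : act (toSL A).1 (omega6 F) = omega6 F := map_omega A
  conv_lhs => rw [← h]
  rw [← map_add, det_mul_pfaffian, det_mul_pfaffian, det_mul_pfaffian, (toSL A).2, one_mul,
    one_mul, one_mul, polar_omega]
  simp [emb5]

/-- The action on the complement. -/
def act5 (A : Matrix.symplecticGroup (Fin 2) F) :
    (Unit ⊕ (Fin 2 ⊕ Fin 2) → F) →ₗ[F] (Unit ⊕ (Fin 2 ⊕ Fin 2) → F) :=
  proj5 ∘ₗ act (toSL A).1 ∘ₗ emb5

theorem act5_apply (A : Matrix.symplecticGroup (Fin 2) F) (v : Unit ⊕ (Fin 2 ⊕ Fin 2) → F) :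
    act5 A v = proj5 (act (toSL A).1 (emb5 v)) := by
  simp only [act5, LinearMap.comp_apply]

theorem act5_one (v : Unit ⊕ (Fin 2 ⊕ Fin 2) → F) : act5 1 v = v := by
  show proj5 (act (toSL (1 : Matrix.symplecticGroup (Fin 2) F)).1 (emb5 v)) = v
  rw [map_one]
  show proj5 (act 1 (emb5 v)) = v
  rw [OrthUnitaryKlein.act_one, proj5_emb5]

theorem act5_mul (A B : Matrix.symplecticGroup (Fin 2) F) (v : Unit ⊕ (Fin 2 ⊕ Fin 2) → F) :
    act5 (A * B) v = act5 A (act5 B v) := by
  rw [act5_apply, act5_apply, act5_apply]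
  rw [emb5_proj5 (stable B v), map_mul,
    show (toSL A * toSL B).1 = (toSL A).1 * (toSL B).1 from rfl, OrthUnitaryKlein.act_mul]

theorem act5_map (A : Matrix.symplecticGroup (Fin 2) F) (v : Unit ⊕ (Fin 2 ⊕ Fin 2) → F) :
    quadFormOdd 2 F (act5 A v) = quadFormOdd 2 F v := by
  show quadFormOdd 2 F (proj5 (act (toSL A).1 (emb5 v))) = _
  rw [← quad_emb5, emb5_proj5 (stable A v), det_mul_pfaffian, (toSL A).2, one_mul, quad_emb5]

theorem nonempty_five [Fintype F] (h2 : (2 : F) ≠ 0) :
    Nonempty (POmega F (quadFormOdd 2 F) ≃* PSp 2 F) := by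
  classical
  set Q := (withBase 2 (qfSq F)).comp (eqOdd (F := F) 2).symm.toLinearMap with hQdef
  have hf := comp_symm_apply (withBase 2 (qfSq F)) (quadFormOdd 2 F) (eqOdd 2) (eqOdd_isometry 2)
  have hQ : (polarBilin Q).Nondegenerate :=
    nondegenerate_congr (eqOdd 2) (fun x => by simp [hQdef])
      (nondegenerate_withBase (nondegenerate_qfSq h2) 2)
  let φ := bundleHom (Q := Q) act5 act5_one act5_mul (fun g v => by rw [← hf, ← hf, act5_map])
  have hinj : Function.Injective (toSL (F := F)) := fun A B h =>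
    Subtype.ext ((Matrix.reindex idx idx).injective (congrArg Subtype.val h))
  have hker : ∀ A ∈ φ.ker, A.1 = 1 ∨ A.1 = -1 := by
    intro A hA
    have h1 := bundleHom_ker _ act5_one act5_mul _ hA
    have hk : toSL A ∈ (kleinHom (F := F)).ker := by
      rw [MonoidHom.mem_ker]
      refine Subtype.ext (LinearEquiv.ext fun v => ?_)
      show act (toSL A).1 v = v
      set d := v (.inl 1) - v (.inr 1) with hd
      have hsplit : v = emb5 (proj5 (v + (d / 2) • omega6 F)) - (d / 2) • omega6 F := by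
        rw [emb5_proj5, add_sub_cancel_right]
        simp [omega6, hd]
        field_simp
        ring
      have hw : act (toSL A).1 (omega6 F) = omega6 F := map_omega A
      conv_lhs => rw [hsplit]
      rw [map_sub, map_smul, hw]
      have h3 := congrArg emb5 (h1 (proj5 (v + (d / 2) • omega6 F)))
      rw [show act5 A (proj5 (v + (d / 2) • omega6 F))
        = proj5 (act (toSL A).1 (emb5 (proj5 (v + (d / 2) • omega6 F)))) from rfl,
        emb5_proj5 (stable A _)] at h3
      rw [h3, ← hsplit]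
    rcases eq_one_or_neg_one_of_minors (by norm_num) _ (minors_of_ker _ hk) with h | h
    · have h' : Matrix.reindex idx idx A.1 = 1 := h
      exact Or.inl ((Matrix.reindex idx idx).injective (h'.trans (by simp)))
    · have h' : Matrix.reindex idx idx A.1 = -1 := h
      exact Or.inr ((Matrix.reindex idx idx).injective (h'.trans (by simp [Matrix.submatrix_neg])))
  have hperf := SymplecticSimple.perfect (F := F) 2 (Or.inr (Or.inl ⟨rfl, by
    have := OrthUnitaryOmega.card_mod_two h2
    have := Fintype.one_lt_card (α := F)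
    omega⟩))
  have hc : φ.ker ≤ Subgroup.center _ := fun A hA => by
    rw [Subgroup.mem_center_iff]
    intro B
    apply Subtype.ext
    show B.1 * A.1 = A.1 * B.1
    rcases hker A hA with h | h <;> rw [h] <;> simp
  have hk : Nat.card φ.ker ≤ if (2 : F) = 0 then 1 else 2 := by
    rw [if_neg h2]
    calc Nat.card φ.ker
        ≤ Nat.card ({1, -1} : Set (Matrix (Fin 2 ⊕ Fin 2) (Fin 2 ⊕ Fin 2) F)) :=
          Nat.card_le_card_of_injective (fun A => ⟨A.1.1, hker A.1 A.2⟩)
            (fun a b hab => Subtype.ext (Subtype.ext (congrArg Subtype.val hab :)))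
      _ ≤ 2 := (Nat.card_coe_set_eq _).trans_le ((Set.ncard_insert_le _ _).trans (by simp))
  exact (nonempty_POmega_equiv_of_perfect Q _ hf hQ (by simp) φ hperf hc hk (by
    rw [card_isometryGroup_odd rfl (Nat.odd_iff.2 (OrthUnitaryOmega.card_mod_two h2)) 2,
      SymplecticOrder.card_symplectic rfl 2]
    simp [mul_assoc])).1

end Cfsg.Agent.OrthUnitaryFive
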