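import Cfsg.Agent.Lib.OrthStemRestrict
import Cfsg.Agent.Lib.OrthStemCover
import Cfsg.Agent.Lib.OrthUnitaryFive
import Cfsg.Agent.Lib.StemSp
import Mathlib

/-!
In odd characteristic the kernel of a group with equivariant lifts of Siegel transformations has
order at most two, by descent to dimension five and the symplectic group of rank two.
-/

set_option autoImplicit false

namespace Cfsg.Agent.OrthStemOdd

open QuadraticMap
open Cfsg.Agent.OrthUnitaryQuad Cfsg.Agent.OrthUnitaryRefl Cfsg.Agent.OrthUnitaryOmega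
open Cfsg.Agent.OrthUnitaryForms Cfsg.Agent.OrthUnitaryStd
open Cfsg.Agent.OrthStemGeom Cfsg.Agent.OrthStemSys Cfsg.Agent.OrthStemStep
open Cfsg.Agent.OrthStemRestrict Cfsg.Agent.OrthStemLifts

universe uF uV

variable {F : Type uF} [Field F] [Fintype F] {V : Type uV} [AddCommGroup V] [Module F V]
  [FiniteDimensional F V] {Q : QuadraticForm F V}

omit [Fintype F] in
/-- `-1` lies outside the commutator subgroup in odd dimension. -/
theorem negOne_notMem (h2 : (2 : F) ≠ 0) (hodd : Odd (Module.finrank F V)) :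
    OrthUnitaryCentre.negOne Q ∉ commutator (orth Q) := by
  intro h
  have h1 := Abelianization.commutator_subset_ker (detHom Q) h
  rw [MonoidHom.mem_ker] at h1
  have h3 : (OrthUnitaryCentre.negOne Q).1.toLinearMap = (-1 : F) • LinearMap.id :=
    LinearMap.ext fun x => by
      show -x = (-1 : F) • x
      rw [neg_one_smul]
  have h4 : (detHom Q (OrthUnitaryCentre.negOne Q) : F) = -1 := by
    show ((LinearEquiv.det (OrthUnitaryCentre.negOne Q).1 : Fˣ) : F) = -1
    rw [LinearEquiv.coe_det, h3, LinearMap.det_smul, LinearMap.det_id, mul_one, hodd.neg_one_pow]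
  rw [h1, Units.val_one] at h4
  exact h2 (by linear_combination h4)

/-- A five dimensional space is similar to the standard one. -/
theorem exists_similar_five (h2 : (2 : F) ≠ 0) (hnd : (polarBilin Q).Nondegenerate)
    (h5 : Module.finrank F V = 5) :
    ∃ (s : F) (e : V ≃ₗ[F] (Unit ⊕ (Fin 2 ⊕ Fin 2) → F)), s ≠ 0 ∧
      ∀ x, quadFormOdd 2 F (e x) = (s • Q) x := by
  have hW := nd_top hnd
  obtain ⟨a, ha, hQa, ha0⟩ := hW.exists_singular (by rw [finrank_top]; omega)
  obtain ⟨a', ha', hQa', haa'⟩ := hW.exists_partner ha ha0 hQa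
  have hV3 := hW.split ha ha' hQa hQa' haa'
  have hd3 := finrank_split ha ha' hQa hQa' haa'
  rw [finrank_top] at hd3
  obtain ⟨b, hb, hQb, hb0⟩ := hV3.exists_singular (by omega)
  obtain ⟨b', hb', hQb', hbb'⟩ := hV3.exists_partner hb hb0 hQb
  have hV1 := hV3.split hb hb' hQb hQb' hbb'
  have hd1 := finrank_split hb hb' hQb hQb' hbb'
  obtain ⟨x, hx, hx0⟩ := Submodule.exists_mem_ne_zero_of_ne_bot
    (show split Q (split Q ⊤ a a') b b' ≠ ⊥ from fun h => by rw [h, finrank_bot] at hd1; omega)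
  obtain ⟨hxV, hbx, hb'x⟩ := mem_split.1 hx
  obtain ⟨-, hax, ha'x⟩ := mem_split.1 hxV
  obtain ⟨-, hab, ha'b⟩ := mem_split.1 hb
  obtain ⟨-, hab', ha'b'⟩ := mem_split.1 hb'
  have hQx : Q x ≠ 0 := by
    intro h
    obtain ⟨y, hy, hxy⟩ := hV1.exists_ne hx hx0
    have h1 : Module.finrank F (split Q (split Q ⊤ a a') b b') = 1 := by omega
    obtain ⟨c, hc⟩ := (finrank_eq_one_iff_of_nonzero' (⟨x, hx⟩ : split Q (split Q ⊤ a a') b b')
      (fun e => hx0 (congrArg Subtype.val e))).1 h1 ⟨y, hy⟩
    have hc' : c • x = y := congrArg Subtype.val hc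
    rw [← hc', polar_smul_right, polar_self_mul, h] at hxy
    simp at hxy
  let L : (Unit ⊕ (Fin 2 ⊕ Fin 2) → F) →ₗ[F] V :=
    { toFun := fun c => c (.inl ()) • x + c (.inr (.inl 0)) • a + (c (.inr (.inr 0)) * Q x) • a' +
        c (.inr (.inl 1)) • b + (c (.inr (.inr 1)) * Q x) • b'
      map_add' := fun c d => by simp only [Pi.add_apply]; module
      map_smul' := fun t c => by simp only [Pi.smul_apply, smul_eq_mul, RingHom.id_apply]; module }
  have hsym : ∀ {u w : V}, polar Q u w = 0 → polar Q w u = 0 := fun h => by rwa [polar_comm]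
  have hzero := polar_zero_right Q
  have e1 := hsym hax
  have e2 := hsym ha'x
  have e3 := hsym hbx
  have e4 := hsym hb'x
  have e5 := hsym hab
  have e6 := hsym ha'b
  have e7 := hsym hab'
  have e8 := hsym ha'b'
  have hinj : Function.Injective L := by
    rw [injective_iff_map_eq_zero]
    intro c hc
    have hp : ∀ v, polar Q v (c (.inl ()) • x + c (.inr (.inl 0)) • a + (c (.inr (.inr 0)) * Q x) • a' +
        c (.inr (.inl 1)) • b + (c (.inr (.inr 1)) * Q x) • b') = 0 := fun v => by
      rw [show c (.inl ()) • x + c (.inr (.inl 0)) • a + (c (.inr (.inr 0)) * Q x) • a' +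
        c (.inr (.inl 1)) • b + (c (.inr (.inr 1)) * Q x) • b' = 0 from hc]
      exact hzero v
    have q1 := hp x
    have q2 := hp a
    have q3 := hp a'
    have q4 := hp b
    have q5 := hp b'
    simp [polar_add_right, polar_smul_right, polar_self_mul, hQa, hQa', hQb, hQb', haa', hbb',
      polar_comm Q a' a, polar_comm Q b' b, hax, ha'x, hbx, hb'x, hab, ha'b, hab', ha'b', e1, e2, e3, e4,
      e5, e6, e7, e8, hQx, h2] at q1 q2 q3 q4 q5
    funext i
    rcases i with ⟨⟩ | i | i
    · exact q1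
    · fin_cases i <;> assumption
    · fin_cases i <;> assumption
  let e := LinearMap.linearEquivOfInjective L hinj (by simp [Module.finrank_pi, h5])
  refine ⟨(Q x)⁻¹, e.symm, inv_ne_zero hQx, fun y => ?_⟩
  obtain ⟨c, rfl⟩ := e.surjective y
  rw [e.symm_apply_apply]
  show _ = (Q x)⁻¹ * Q (c (.inl ()) • x + c (.inr (.inl 0)) • a + (c (.inr (.inr 0)) * Q x) • a' +
        c (.inr (.inl 1)) • b + (c (.inr (.inr 1)) * Q x) • b')
  simp only [QuadraticMap.map_add (⇑Q), QuadraticMap.map_smul, polar_add_left, polar_smul_left,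
    polar_smul_right, smul_eq_mul, hQa, hQa', hQb, hQb', haa', hbb', e1, e2, e3, e4, hab, ha'b, hab', ha'b']
  simp [quadFormOdd, Fin.sum_univ_two]
  field_simp
  ring

theorem card_ker_five (h2 : (2 : F) ≠ 0) {Δ : Type uF} [Group Δ] [Finite Δ] (Y : Sys Q Δ)
    (hnd : (polarBilin Q).Nondegenerate) (h5 : Module.finrank F V = 5) : Nat.card Y.σ.ker ≤ 2 := by
  classical
  have : Finite V := Module.finite_of_finite F
  have hq : 3 ≤ Fintype.card F := by
    have := OrthUnitaryOmega.card_mod_two h2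
    have := Fintype.one_lt_card (α := F)
    omega
  obtain ⟨s, e, hs, he⟩ := exists_similar_five h2 hnd h5
  have hoeq : orth Q = orth (s • Q) := by
    refine Subgroup.ext fun g => ⟨fun h x => ?_, fun h x => ?_⟩
    · show s * Q (g x) = s * Q x
      rw [h x]
    · exact mul_left_cancel₀ hs (h x)
  let θ : orth Q ≃* isometryGroup F (quadFormOdd 2 F) :=
    (MulEquiv.subgroupCongr hoeq).trans (stdIso (s • Q) (quadFormOdd 2 F) e he).symm
  have hΩ : Y.σ.range = commutator (orth Q) := by
    rw [range_eq Y hnd h5.ge, OrthUnitarySimple.commutator_eq_sGroup hnd h5.ge]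
  let τ : Δ →* Omega F (quadFormOdd 2 F) := (θ.toMonoidHom.comp Y.σ).codRestrict _ fun δ =>
    (mem_commutator_iff θ _).1 (hΩ ▸ ⟨δ, rfl⟩)
  have hτs : Function.Surjective τ := fun g => by
    obtain ⟨δ, hδ⟩ : θ.symm g.1 ∈ Y.σ.range := by
      rw [hΩ, mem_commutator_iff θ, θ.apply_symm_apply]
      exact g.2
    exact ⟨δ, Subtype.ext (by
      show θ (Y.σ δ) = g.1
      rw [hδ, θ.apply_symm_apply])⟩
  have hz : Subgroup.center (Omega F (quadFormOdd 2 F)) = ⊥ := by
    obtain ⟨a, -, hQa, ha0⟩ := (nd_top hnd).exists_singular (by rw [finrank_top]; omega)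
    let Ψ : Omega F (quadFormOdd 2 F) ≃* commutator (orth Q) :=
      (θ.symm.subgroupMap (Omega F (quadFormOdd 2 F))).trans
        (MulEquiv.subgroupCongr (map_commutator_equiv θ.symm))
    rw [← Subgroup.card_eq_one, Nat.card_congr (Subgroup.centerCongr Ψ).toEquiv,
      OrthUnitaryCentre.card_center_commutator hnd hQa ha0 (by omega), if_neg]
    exact fun h => negOne_notMem h2 ⟨2, h5⟩ h.2
  obtain ⟨iso⟩ := OrthUnitaryFive.nonempty_five (F := F) h2
  let ψ : Δ →* Cfsg.PSp 2 F := iso.toMonoidHom.comp ((QuotientGroup.mk' _).comp τ)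
  have hker : ψ.ker = Y.σ.ker := by
    refine Subgroup.ext fun δ => ?_
    rw [MonoidHom.mem_ker, MonoidHom.mem_ker]
    show iso (QuotientGroup.mk' _ (τ δ)) = 1 ↔ _
    rw [MulEquiv.map_eq_one_iff, QuotientGroup.mk'_apply, QuotientGroup.eq_one_iff, hz, Subgroup.mem_bot]
    constructor
    · intro h
      exact θ.map_eq_one_iff.1 (congrArg Subtype.val h)
    · intro h
      exact Subtype.ext (θ.map_eq_one_iff.2 h)
  have hstem : Cfsg.IsStemExtension ψ := by
    refine ⟨iso.surjective.comp ((QuotientGroup.mk'_surjective _).comp hτs), ?_, ?_⟩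
    · rw [hker]; exact Y.central
    · rw [OrthStemRestrict.perfect Y hnd h5.ge]; exact le_top
  obtain ⟨f, hf⟩ := (StemSp.hasCyclicSchurMultiplier_PSp (F := F) le_rfl (Or.inl hq)).2 Δ ψ hstem
  rw [← hker]
  have : NeZero (Nat.gcd 2 (Fintype.card F - 1)) :=
    ⟨(Nat.gcd_pos_of_pos_left _ two_pos).ne'⟩
  calc Nat.card ψ.ker ≤ Nat.card (Multiplicative (ZMod (Nat.gcd 2 (Fintype.card F - 1)))) :=
        Nat.card_le_card_of_surjective f hf
    _ ≤ 2 := by
      rw [Nat.card_congr Multiplicative.toAdd, Nat.card_zmod]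
      exact Nat.le_of_dvd two_pos (Nat.gcd_dvd_left _ _)

/-- In dimension at least seven lifts on collinear triangles compose. -/
theorem triCol {Δ : Type*} [Group Δ] (Y : Sys Q Δ) (hnd : (polarBilin Q).Nondegenerate)
    (hd : 7 ≤ Module.finrank F V) : TriCol Y := by
  refine triCol_of_singular Y hnd fun a b h => ?_
  obtain ⟨a', b', W, hf⟩ := exists_frame' h hnd
  obtain ⟨d, hd', hQd, hd0⟩ : ∃ d ∈ W, Q d = 0 ∧ d ≠ 0 := by
    refine Nd.exists_singular hf.nd ?_
    have := hf.rank
    omega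
  obtain ⟨had, hbd, ha'd, hb'd⟩ := hf.perp d hd'
  have hind : ∀ α β γ : F, α • a + β • b + γ • d = 0 → α = 0 ∧ β = 0 ∧ γ = 0 := by
    intro α β γ e
    have e1 := congrArg (polar Q a') e
    have e2 := congrArg (polar Q b') e
    simp [polar_add_right, polar_smul_right, polar_comm Q a' a, hf.huu, polar_comm Q a' b, hf.hwu',
      ha'd] at e1
    simp [polar_add_right, polar_smul_right, polar_comm Q b' a, hf.huw', polar_comm Q b' b, hf.hww,
      hb'd] at e2
    subst e1 e2
    refine ⟨rfl, rfl, ?_⟩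
    simpa [hd0] using e
  refine ⟨d, ⟨h.hu, hQd, had, fun α γ e => ?_⟩, ⟨h.hw, hQd, hbd, fun β γ e => ?_⟩, hind⟩
  · obtain ⟨h1, -, h3⟩ := hind α 0 γ (by rw [zero_smul, add_zero]; exact e)
    exact ⟨h1, h3⟩
  · obtain ⟨-, h2, h3⟩ := hind 0 β γ (by rw [zero_smul, zero_add]; exact e)
    exact ⟨h2, h3⟩

/-- The kernel lies over the complement of some hyperbolic plane. -/
theorem exists_plane {Δ : Type*} [Group Δ] (Y : Sys Q Δ) (hnd : (polarBilin Q).Nondegenerate)
    (hd : 7 ≤ Module.finrank F V) :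
    ∃ e f, Q e = 0 ∧ Q f = 0 ∧ polar Q e f = 1 ∧ Y.σ.ker ≤ subgroupOf Y (split Q ⊤ e f) := by
  obtain ⟨e, he, hQe, he0⟩ := (nd_top hnd).exists_singular (by rw [finrank_top]; omega)
  obtain ⟨f, hf, hQf, hef⟩ := (nd_top hnd).exists_partner he he0 hQe
  exact ⟨e, f, hQe, hQf, hef, fun g hg => OrthStemCover.ker_mem Y hnd (by omega) (triCol Y hnd hd)
    hQe hQf hef (MonoidHom.mem_ker.1 hg)⟩

theorem restrict_nondegenerate {W : Submodule F V} (hW : Nd Q W) :
    (polarBilin (Q.restrict W)).Nondegenerate := by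
  have h : ∀ x : W, (∀ y : W, polarBilin (Q.restrict W) x y = 0) → x = 0 := fun x hx =>
    Subtype.ext (hW x x.2 fun y hy => hx ⟨y, hy⟩)
  exact ⟨h, fun y hy => h y fun x => by
    rw [polarBilin_apply_apply, polar_comm]
    exact hy x⟩

theorem card_ker_odd (h2 : (2 : F) ≠ 0) : ∀ (k : ℕ) {V : Type uV} [AddCommGroup V] [Module F V]
    [FiniteDimensional F V] {Q : QuadraticForm F V} {Δ : Type uF} [Group Δ] [Finite Δ] (Y : Sys Q Δ),
    (polarBilin Q).Nondegenerate → Module.finrank F V = 2 * k + 5 → Nat.card Y.σ.ker ≤ 2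
  | 0, _, _, _, _, _, _, _, _, Y, hnd, hd => card_ker_five h2 Y hnd hd
  | k + 1, _, _, _, _, Q, _, _, _, Y, hnd, hd => by
    obtain ⟨e, f, he, hf, hef, hk⟩ := exists_plane Y hnd (by omega)
    have hW := Nd.split (W := ⊤) Submodule.mem_top Submodule.mem_top he hf hef (nd_top hnd)
    have hdW := finrank_split (W := ⊤) Submodule.mem_top Submodule.mem_top he hf hef
    rw [finrank_top, hd] at hdW
    refine (card_ker_le Y _ hk).trans (card_ker_odd h2 k _ (restrict_nondegenerate hW) ?_)
    show Module.finrank F (split Q ⊤ e f) = _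
    omega

/-- Odd characteristic: the kernel has order at most two. -/
theorem card_ker_le_two (h2 : (2 : F) ≠ 0) {Δ : Type uF} [Group Δ] [Finite Δ] (Y : Sys Q Δ)
    (hnd : (polarBilin Q).Nondegenerate) (hd : 7 ≤ Module.finrank F V) : Nat.card Y.σ.ker ≤ 2 := by
  rcases Nat.even_or_odd (Module.finrank F V) with ⟨k, hk⟩ | ⟨k, hk⟩
  · obtain ⟨e, f, he, hf, hef, hker⟩ := exists_plane Y hnd hd
    set d := e + f with hdd
    have hQd : Q d = 1 := by
      rw [hdd, QuadraticMap.map_add (⇑Q), he, hf, hef]; simp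
    set W := Perp Q {d}
    have hle : split Q ⊤ e f ≤ W := fun x hx => by
      obtain ⟨-, h1, h2⟩ := mem_split.1 hx
      rw [mem_perp]
      intro y hy
      rw [Set.mem_singleton_iff.1 hy, hdd, polar_add_left, h1, h2, add_zero]
    have hdd2 : polar Q d d = 2 := by rw [polar_self_mul, hQd, mul_one]
    have hW : Nd Q W := by
      intro x hx h
      refine hnd.1 x fun y => ?_
      have hy : y - (polar Q d y / 2) • d ∈ W := by
        rw [mem_perp]
        intro z hz
        rw [Set.mem_singleton_iff.1 hz, polar_sub_right, polar_smul_right, hdd2, smul_eq_mul,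
          div_mul_cancel₀ _ h2, sub_self]
      have := h _ hy
      have hxd : polar Q x d = 0 := by rw [polar_comm]; exact mem_perp.1 hx d rfl
      rw [polar_sub_right, polar_smul_right, hxd, smul_zero, sub_zero] at this
      exact this
    have hdW : Module.finrank F W + 1 = Module.finrank F V := by
      have hker : W = LinearMap.ker (polarBilin Q d) := Submodule.ext fun x => by
        rw [mem_perp, LinearMap.mem_ker]
        simp
      have hsurj : Function.Surjective (polarBilin Q d) := fun t => ⟨(t / 2) • d, by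
        rw [map_smul, polarBilin_apply_apply, hdd2, smul_eq_mul, div_mul_cancel₀ _ h2]⟩
      have := LinearMap.finrank_range_add_finrank_ker (polarBilin Q d)
      rw [LinearMap.range_eq_top.2 hsurj, finrank_top, Module.finrank_self, ← hker] at this
      omega
    refine (card_ker_le Y W (hker.trans ?_)).trans
      (card_ker_odd h2 (k - 3) (rSys Y W) (restrict_nondegenerate hW) (by omega))
    refine (Subgroup.closure_le _).2 ?_
    rintro _ ⟨u, z, hu, hz, hQu, huz, rfl⟩
    exact mem_subgroupOf Y W (hle hu) (hle hz) hQu huz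
  · exact card_ker_odd h2 (k - 2) Y hnd (by omega)

end Cfsg.Agent.OrthStemOdd
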