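import Cfsg.Agent.Lib.OrthStemStep
import Cfsg.Agent.Lib.OrthUnitaryLowDim
import Mathlib

/-!
Groups with equivariant lifts of Siegel transformations restricted to non-degenerate subspaces, and
their perfection.
-/

set_option autoImplicit false

namespace Cfsg.Agent.OrthStemRestrict

open QuadraticMap
open Cfsg.Agent.OrthUnitaryQuad Cfsg.Agent.OrthUnitaryRefl Cfsg.Agent.OrthUnitaryOmega
open Cfsg.Agent.OrthStemGeom Cfsg.Agent.OrthStemSys Cfsg.Agent.OrthStemStep
open Cfsg.Agent.OrthUnitaryLowDim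
open scoped commutatorElement

universe uF uV uD

variable {F : Type uF} {V : Type uV} [Field F] [AddCommGroup V] [Module F V]
  {Q : QuadraticForm F V} {Δ : Type uD} [Group Δ] (Y : Sys Q Δ) (W : Submodule F V)

theorem mem_subgroupOf {u d : V} (hu : u ∈ W) (hd : d ∈ W) (hQu : Q u = 0) (hud : polar Q u d = 0) :
    Y.Λ u d ∈ subgroupOf Y W :=
  Subgroup.subset_closure ⟨u, d, hu, hd, hQu, hud, rfl⟩

theorem map_mem {δ : Δ} (hδ : δ ∈ subgroupOf Y W) {x : V} (hx : x ∈ W) : (Y.σ δ).1 x ∈ W := by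
  suffices h : ∀ x ∈ W, (Y.σ δ).1 x ∈ W ∧ (Y.σ δ⁻¹).1 x ∈ W from (h x hx).1
  induction hδ using Subgroup.closure_induction with
  | mem δ hδ =>
    obtain ⟨u, d, hu, hd, hQu, hud, rfl⟩ := hδ
    have hud' : polar Q u (-d) = 0 := by rw [polar_neg_right, hud, neg_zero]
    intro x hx
    constructor
    · rw [Y.map_Λ u d hQu hud, S_apply hQu hud]
      exact W.sub_mem (W.add_mem hx (W.smul_mem _ hd)) (W.smul_mem _ hu)
    · rw [Y.inv hQu hud, Y.map_Λ u _ hQu hud', S_apply hQu hud']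
      exact W.sub_mem (W.add_mem hx (W.smul_mem _ (W.neg_mem hd))) (W.smul_mem _ hu)
  | one => intro x hx; simp only [inv_one, map_one]; exact ⟨hx, hx⟩
  | mul a b _ _ ha hb =>
    intro x hx
    rw [mul_inv_rev, map_mul, map_mul, orth_mul_apply, orth_mul_apply]
    exact ⟨(ha _ (hb x hx).1).1, (hb _ (ha x hx).2).2⟩
  | inv a _ ha => intro x hx; rw [inv_inv]; exact (ha x hx).symm

/-- The action on the subspace. -/
def rσ : subgroupOf Y W →* orth (Q.restrict W) :=
  bundleHom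
    (fun δ => ((Y.σ δ.1).1.toLinearMap.restrict fun _ hx => map_mem Y W δ.2 hx))
    (fun v => Subtype.ext (by
      show (Y.σ 1).1 v = v
      rw [map_one]; rfl))
    (fun g h v => Subtype.ext (by
      show (Y.σ (g.1 * h.1)).1 v = (Y.σ g.1).1 ((Y.σ h.1).1 v)
      rw [map_mul, orth_mul_apply]))
    (fun g v => OrthUnitaryQuad.map_orth (Y.σ g.1) v)

theorem rσ_apply (δ : subgroupOf Y W) (x : W) :
    (((rσ Y W δ).1 x : W) : V) = (Y.σ δ.1).1 x := rfl

theorem rσ_eq_one {δ : subgroupOf Y W} (h : Y.σ δ.1 = 1) : rσ Y W δ = 1 :=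
  orth_ext fun x => Subtype.ext (by rw [rσ_apply, h]; rfl)

open scoped Classical in
/-- The restricted lifts. -/
noncomputable def rΛ (e z : W) : subgroupOf Y W :=
  if h : Q (e : V) = 0 ∧ polar Q (e : V) z = 0 then ⟨Y.Λ e z, mem_subgroupOf Y W e.2 z.2 h.1 h.2⟩
  else 1

theorem coe_rΛ {e z : W} (he : Q (e : V) = 0) (hz : polar Q (e : V) z = 0) :
    (rΛ Y W e z : Δ) = Y.Λ e z := by rw [rΛ, dif_pos ⟨he, hz⟩]

/-- The restricted system. -/
noncomputable def rSys : Sys (Q.restrict W) (subgroupOf Y W) where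
  σ := rσ Y W
  Λ := rΛ Y W
  map_Λ e z he hz := orth_ext fun x => Subtype.ext (by
    rw [rσ_apply, coe_rΛ Y W he hz, Y.map_Λ _ _ he hz, S_apply he hz,
      S_apply (Q := Q) (u := (e : V)) (w := (z : V)) he hz]
    rfl)
  add e z z' he hz hz' := Subtype.ext (by
    have h : polar Q (e : V) ((z + z' : W) : V) = 0 := by
      rw [Submodule.coe_add, polar_add_right, show polar Q (e : V) z = 0 from hz,
        show polar Q (e : V) z' = 0 from hz', add_zero]
    rw [Subgroup.coe_mul, coe_rΛ Y W he hz, coe_rΛ Y W he hz', coe_rΛ Y W he h, Submodule.coe_add]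
    exact Y.add _ _ _ he hz hz')
  conj δ e z he hz := Subtype.ext (by
    rw [Subgroup.coe_mul, Subgroup.coe_mul, Subgroup.coe_inv, coe_rΛ Y W he hz,
      coe_rΛ Y W (by rw [rσ_apply, OrthUnitaryQuad.map_orth]; exact he)
        (by rw [rσ_apply, rσ_apply, polar_orth]; exact hz)]
    exact Y.conj δ.1 _ _ he hz)
  smul t e z he hz := Subtype.ext (by
    have h1 : Q ((t • e : W) : V) = 0 := by
      rw [Submodule.coe_smul, QuadraticMap.map_smul, show Q (e : V) = 0 from he, smul_zero]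
    have h2 : polar Q ((t • e : W) : V) z = 0 := by
      rw [Submodule.coe_smul, polar_smul_left, show polar Q (e : V) z = 0 from hz, smul_zero]
    have h3 : polar Q (e : V) ((t • z : W) : V) = 0 := by
      rw [Submodule.coe_smul, polar_smul_right, show polar Q (e : V) z = 0 from hz, smul_zero]
    rw [coe_rΛ Y W h1 h2, coe_rΛ Y W he h3]
    exact Y.smul t _ _ he hz)
  shift t e z he hz := Subtype.ext (by
    have h : polar Q (e : V) ((z + t • e : W) : V) = 0 := by
      rw [Submodule.coe_add, Submodule.coe_smul, polar_add_right, polar_smul_right, polar_self_mul,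
        show Q (e : V) = 0 from he, show polar Q (e : V) z = 0 from hz]
      simp
    rw [coe_rΛ Y W he h, coe_rΛ Y W he hz]
    exact Y.shift t _ _ he hz)
  symm e w he hw h := Subtype.ext (by
    have h' : polar Q (e : V) ((-w : W) : V) = 0 := by
      rw [Submodule.coe_neg, polar_neg_right, show polar Q (e : V) w = 0 from h, neg_zero]
    rw [coe_rΛ Y W hw (by rw [polar_comm]; exact h), coe_rΛ Y W he h']
    exact Y.symm _ _ he hw h)
  gen := by
    rw [eq_top_iff, ← Subgroup.map_le_map_iff_of_injective (f := (subgroupOf Y W).subtype)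
      Subtype.val_injective, ← MonoidHom.range_eq_map, Subgroup.range_subtype, MonoidHom.map_closure]
    refine (Subgroup.closure_le _).2 ?_
    rintro _ ⟨u, d, hu, hd, hQu, hud, rfl⟩
    exact Subgroup.subset_closure ⟨rΛ Y W ⟨u, hu⟩ ⟨d, hd⟩, ⟨⟨u, hu⟩, ⟨d, hd⟩, hQu, hud, rfl⟩,
      coe_rΛ Y W (e := ⟨u, hu⟩) (z := ⟨d, hd⟩) hQu hud⟩

variable [FiniteDimensional F V]

/-- A kernel inside the subgroup of a subspace is bounded by the kernel of the restricted system. -/
theorem card_ker_le [Finite Δ] (h : Y.σ.ker ≤ subgroupOf Y W) :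
    Nat.card Y.σ.ker ≤ Nat.card (rSys Y W).σ.ker :=
  Nat.card_le_card_of_injective
    (fun g => ⟨⟨g.1, h g.2⟩, MonoidHom.mem_ker.2 (rσ_eq_one Y W (MonoidHom.mem_ker.1 g.2))⟩)
    fun a b hab => Subtype.ext (congrArg (fun g : (rSys Y W).σ.ker => (g.1 : Δ)) hab)

variable [Fintype F]

/-- Non-degenerate subspaces of dimension at least five give perfect groups. -/
theorem subgroupOf_le_commutator (hW : Nd Q W) (hd : 5 ≤ Module.finrank F W) :
    subgroupOf Y W ≤ ⁅subgroupOf Y W, subgroupOf Y W⁆ := by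
  refine (Subgroup.closure_le _).2 ?_
  rintro _ ⟨e, z, he, hz, hQe, hez, rfl⟩
  rw [SetLike.mem_coe]
  by_cases he0 : e = 0
  · subst he0
    rw [← zero_smul F (0 : V), Y.smul 0 _ _ hQe hez, zero_smul, Y.zero hQe]
    exact one_mem _
  obtain ⟨f, hf, hQf, hef⟩ := hW.exists_partner he he0 hQe
  obtain ⟨α, β, z0, hz0, rfl⟩ := exists_split_eq he hf hQe hQf hef hz
  obtain ⟨-, hez0, -⟩ := mem_split.1 hz0
  have hβ : β = 0 := by
    simpa [polar_add_right, polar_smul_right, polar_self_mul, hQe, hef, hez0] using hez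
  subst hβ
  rw [zero_smul, add_zero, add_comm, Y.shift α e z0 hQe hez0]
  have hV3 := hW.split he hf hQe hQf hef
  have hd3 := finrank_split he hf hQe hQf hef
  obtain ⟨a₀, ha₀, hQa₀, ha₀0⟩ := hV3.exists_singular (by omega)
  refine Nd.singular_induction hV3 ha₀ hQa₀ ha₀0
    (P := fun z => Y.Λ e z ∈ ⁅subgroupOf Y W, subgroupOf Y W⁆) ?_ ?_ hz0
  · intro x hx y hy h1 h2
    rw [Y.add e x y hQe (mem_split.1 hx).2.1 (mem_split.1 hy).2.1]
    exact mul_mem h1 h2
  intro a ha hQa
  show Y.Λ e a ∈ ⁅subgroupOf Y W, subgroupOf Y W⁆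
  by_cases ha0 : a = 0
  · rw [ha0, Y.zero hQe]; exact one_mem _
  obtain ⟨a', ha', hQa', haa'⟩ := hV3.exists_partner ha ha0 hQa
  have hR := hV3.split ha ha' hQa hQa' haa'
  have hdR := finrank_split ha ha' hQa hQa' haa'
  obtain ⟨x, hx, hx0⟩ := Submodule.exists_mem_ne_zero_of_ne_bot
    (show split Q (split Q W e f) a a' ≠ ⊥ from fun h => by rw [h, finrank_bot] at hdR; omega)
  obtain ⟨y, hy, hxy⟩ := hR.exists_ne hx hx0
  obtain ⟨hxV, hax, -⟩ := mem_split.1 hx
  obtain ⟨hyV, hay, -⟩ := mem_split.1 hy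
  obtain ⟨hxW, hex, -⟩ := mem_split.1 hxV
  obtain ⟨hyW, hey, -⟩ := mem_split.1 hyV
  obtain ⟨haW, hea, -⟩ := mem_split.1 ha
  have hw : polar Q e (-y) = 0 := by rw [polar_neg_right, hey, neg_zero]
  have hge : (Y.σ (Y.Λ a x)).1 e = e := by
    rw [Y.map_Λ _ _ hQa hax, S_fix hQa hax (by rw [polar_comm, hea]) (by rw [polar_comm, hex])]
  have hgw : (Y.σ (Y.Λ a x)).1 (-y) = -y + a := by
    rw [Y.map_Λ _ _ hQa hax, S_apply hQa hax, polar_neg_right, polar_neg_right, hay, hxy]
    simp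
  have key : ⁅Y.Λ a x, Y.Λ e (-y)⁆ = Y.Λ e a := by
    rw [commutatorElement_def, Y.conj _ e (-y) hQe hw, hge, hgw,
      Y.inv hQe hw, ← Y.add e _ _ hQe (by rw [polar_add_right, hw, hea, add_zero])
        (by rw [polar_neg_right, hw, neg_zero])]
    congr 1
    abel
  rw [← key]
  exact Subgroup.commutator_mem_commutator (mem_subgroupOf Y W haW hxW hQa hax)
    (mem_subgroupOf Y W he (W.neg_mem hyW) hQe hw)

theorem subgroupOf_top : subgroupOf Y ⊤ = ⊤ := by
  rw [eq_top_iff, ← Y.gen, Subgroup.closure_le]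
  rintro _ ⟨e, z, he, hz, rfl⟩
  exact mem_subgroupOf Y ⊤ trivial trivial he hz

include Y in
theorem perfect (hnd : (polarBilin Q).Nondegenerate) (hd : 5 ≤ Module.finrank F V) :
    commutator Δ = ⊤ := by
  rw [eq_top_iff, _root_.commutator_def]
  have := subgroupOf_le_commutator Y ⊤ (nd_top hnd) (by rw [finrank_top]; exact hd)
  rwa [subgroupOf_top Y] at this

/-- The image of a system is the group generated by the Siegel transformations. -/
theorem range_eq (hnd : (polarBilin Q).Nondegenerate) (hd : 5 ≤ Module.finrank F V) :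
    Y.σ.range = OrthUnitarySimple.sGroup Q := by
  refine le_antisymm ?_ ?_
  · rw [MonoidHom.range_eq_map, ← Y.gen, MonoidHom.map_closure, Subgroup.closure_le]
    rintro _ ⟨_, ⟨e, z, he, hz, rfl⟩, rfl⟩
    rw [SetLike.mem_coe, Y.map_Λ e z he hz, S_def he hz]
    exact OrthUnitarySimple.siegel_mem hnd hd he hz
  · refine (Subgroup.closure_le _).2 ?_
    rintro g hg
    obtain ⟨u, w, hu, hw, -, rfl⟩ := hg
    exact ⟨Y.Λ u w, by rw [Y.map_Λ u w hu hw, S_def hu hw]⟩

end Cfsg.Agent.OrthStemRestrict
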