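import Cfsg.Agent.Lib.OrthStemGeom
import Mathlib

/-!
Groups with equivariant lifts of all Siegel transformations, and their subgroups on smaller spaces.
-/

set_option autoImplicit false

namespace Cfsg.Agent.OrthStemSys

open QuadraticMap
open Cfsg.Agent.OrthUnitaryQuad
open Cfsg.Agent.OrthStemGeom

universe uF uV uD

variable {F : Type uF} {V : Type uV} [Field F] [AddCommGroup V] [Module F V]

/-- Equivariant additive lifts of the Siegel transformations. -/
structure Sys (Q : QuadraticForm F V) (Δ : Type uD) [Group Δ] where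
  σ : Δ →* orth Q
  Λ : V → V → Δ
  map_Λ : ∀ e z, Q e = 0 → polar Q e z = 0 → σ (Λ e z) = S Q e z
  add : ∀ e z z', Q e = 0 → polar Q e z = 0 → polar Q e z' = 0 → Λ e (z + z') = Λ e z * Λ e z'
  conj : ∀ (δ : Δ) e z, Q e = 0 → polar Q e z = 0 → δ * Λ e z * δ⁻¹ = Λ ((σ δ).1 e) ((σ δ).1 z)
  smul : ∀ (t : F) e z, Q e = 0 → polar Q e z = 0 → Λ (t • e) z = Λ e (t • z)
  shift : ∀ (t : F) e z, Q e = 0 → polar Q e z = 0 → Λ e (z + t • e) = Λ e z
  symm : ∀ e w, Q e = 0 → Q w = 0 → polar Q e w = 0 → Λ w e = Λ e (-w)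
  gen : Subgroup.closure {δ | ∃ e z, Q e = 0 ∧ polar Q e z = 0 ∧ δ = Λ e z} = ⊤

variable {Q : QuadraticForm F V} {Δ : Type uD} [Group Δ] (Y : Sys Q Δ)

namespace Sys

theorem zero {e : V} (he : Q e = 0) : Y.Λ e 0 = 1 := by
  have h := Y.add e 0 0 he (polar_zero_right Q e) (polar_zero_right Q e)
  rw [add_zero] at h
  exact right_eq_mul.1 h

theorem inv {e z : V} (he : Q e = 0) (hz : polar Q e z = 0) : (Y.Λ e z)⁻¹ = Y.Λ e (-z) := by
  refine inv_eq_of_mul_eq_one_right ?_
  rw [← Y.add e z (-z) he hz (by rw [polar_neg_right, hz, neg_zero]), add_neg_cancel, Y.zero he]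

theorem commute {e z z' : V} (he : Q e = 0) (hz : polar Q e z = 0) (hz' : polar Q e z' = 0) :
    Commute (Y.Λ e z) (Y.Λ e z') := by
  show _ = _
  rw [← Y.add e z z' he hz hz', ← Y.add e z' z he hz' hz, add_comm]

theorem central : Y.σ.ker ≤ Subgroup.center Δ := by
  intro k hk
  rw [Subgroup.mem_center_iff]
  intro δ
  have hd : δ ∈ Subgroup.centralizer ({k} : Set Δ) := by
    have hle : Subgroup.closure {δ | ∃ e z, Q e = 0 ∧ polar Q e z = 0 ∧ δ = Y.Λ e z} ≤
        Subgroup.centralizer ({k} : Set Δ) := by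
      rw [Subgroup.closure_le]
      rintro _ ⟨e, z, he, hz, rfl⟩
      rw [SetLike.mem_coe, Subgroup.mem_centralizer_iff]
      intro x hx
      rw [Set.mem_singleton_iff] at hx
      subst x
      have h := Y.conj k e z he hz
      rw [MonoidHom.mem_ker.1 hk] at h
      exact mul_inv_eq_iff_eq_mul.1 h
    exact hle (Y.gen ▸ Subgroup.mem_top δ)
  exact ((Subgroup.mem_centralizer_iff.1 hd) k rfl).symm

end Sys

end Cfsg.Agent.OrthStemSys
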