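import Cfsg.Agent.Lib.OrthStemCanon
import Cfsg.Agent.Lib.OrthStemSys
import Mathlib

/-!
The canonical lift of a root element is equivariant and additive, and extends to equivariant additive
lifts of all Siegel transformations.
-/

set_option autoImplicit false

namespace Cfsg.Agent.OrthStemRoot

open QuadraticMap
open Cfsg.Agent.OrthUnitaryQuad Cfsg.Agent.OrthUnitaryRefl Cfsg.Agent.OrthUnitaryOmega
open Cfsg.Agent.OrthUnitarySimple
open Cfsg.Agent.OrthStemGeom Cfsg.Agent.OrthStemLifts Cfsg.Agent.OrthStemCanon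
open scoped commutatorElement

universe uF uV uD

variable {F : Type uF} {V : Type uV} [Field F] [Fintype F] [AddCommGroup V] [Module F V]
  [FiniteDimensional F V] {Q : QuadraticForm F V} {Δ : Type uD} [Group Δ] (E : Ext Q Δ)

omit [Fintype F] [FiniteDimensional F V] in
theorem Frame.symm {u w u' w' : V} {W : Submodule F V} (hf : Frame Q u w u' w' W) :
    Frame Q w u w' u' W :=
  { nd := hf.nd, rank := hf.rank, hu' := hf.hw', hw' := hf.hu', huu := hf.hww, hww := hf.huu,
    huw' := hf.hwu', hwu' := hf.huw', huw'' := by rw [polar_comm, hf.huw''],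
    perp := fun y hy => ⟨(hf.perp y hy).2.1, (hf.perp y hy).1, (hf.perp y hy).2.2.2, (hf.perp y hy).2.2.1⟩,
    mem := fun y a b c d => hf.mem y b a d c,
    decomp := fun z a b => by
      obtain ⟨α, β, y, hy, rfl⟩ := hf.decomp z b a
      exact ⟨β, α, y, hy, by abel⟩ }

include E in
theorem exists_unit_pair {u w : V} (h : Pair Q u w) {u' w' : V} {W : Submodule F V}
    (hf : Frame Q u w u' w' W) : ∃ z ∈ W, ∃ z' ∈ W, polar Q z z' = 1 := by
  have _ := h
  obtain ⟨a, ha, hQa, ha0⟩ := hf.singular E
  obtain ⟨a', ha', -, haa⟩ := hf.nd.exists_partner ha ha0 hQa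
  exact ⟨a, ha, a', ha', haa⟩

/-- In characteristic two an exchange of the vectors of a root shows that one transvection centralises. -/
theorem comm_two (h2 : (2 : F) = 0) {u w u' w' : V} {W : Submodule F V} (h : Pair Q u w)
    (hf : Frame Q u w u' w' W) (t : F) : Commute (L E u w) (L E u (t • w')) := by
  by_cases ht : t = 0
  · rw [ht, zero_smul]; exact commute_one E (S_zero u)
  obtain ⟨z, hz, z', hz', hzz⟩ := exists_unit_pair E h hf
  obtain ⟨zu, zw, zu', zw'⟩ := hf.perp z hz
  obtain ⟨yu, yw, yu', yw'⟩ := hf.perp z' hz'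
  have hwu : polar Q w u = 0 := by rw [polar_comm, h.huw]
  have huu0 : polar Q u u = 0 := by rw [polar_self_mul, h.hu, mul_zero]
  have hww0 : polar Q w w = 0 := by rw [polar_self_mul, h.hw, mul_zero]
  set X := br E u w z z'
  have hX : E.τ X = S Q u w := by rw [br_image E h zu zw yu yw, hzz, one_smul]
  have hT : polar Q w (t⁻¹ • u') = 0 := by rw [polar_smul_right, hf.hwu', smul_zero]
  have hT' : polar Q u (t • w') = 0 := by rw [polar_smul_right, hf.huw', smul_zero]
  have Tu : (S Q w (t⁻¹ • u')).1 u = u + t⁻¹ • w := by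
    rw [S_apply h.hw hT, hwu, polar_smul_left, polar_comm Q u' u, hf.huu]
    match_scalars <;> first | linear_combination (0 : F) * h2 | linear_combination (-t⁻¹) * h2
  have Tw : (S Q w (t⁻¹ • u')).1 w = w := S_fix h.hw hT hww0 (by rw [polar_comm, hT])
  have T'u : (S Q u (t • w')).1 u = u := S_fix h.hu hT' huu0 (by rw [polar_comm, hT'])
  have T'w : (S Q u (t • w')).1 w = w + t • u := by
    rw [S_apply h.hu hT', h.huw, polar_smul_left, polar_comm Q w' w, hf.hww]
    match_scalars <;> first | linear_combination (0 : F) * h2 | linear_combination (-t) * h2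
  set δ := L E w (t⁻¹ • u') * L E u (t • w') * L E w (t⁻¹ • u') with hδ
  have gu : (E.τ δ).1 u = t⁻¹ • w := by
    rw [hδ, map_mul, map_mul, L_spec, L_spec, orth_mul_apply, orth_mul_apply, Tu, map_add, map_smul,
      T'u, T'w]
    simp only [map_add, map_smul, Tu, Tw]
    match_scalars <;> field_simp <;> first | linear_combination (0 : F) * h2 | linear_combination h2
  have gw : (E.τ δ).1 w = t • u := by
    rw [hδ, map_mul, map_mul, L_spec, L_spec, orth_mul_apply, orth_mul_apply, Tw, T'w]
    simp only [map_add, map_smul, Tu, Tw]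
    match_scalars <;> field_simp <;> first | linear_combination (0 : F) * h2 | linear_combination h2
  have gfix : ∀ y, polar Q u y = 0 → polar Q w y = 0 → polar Q u' y = 0 → polar Q w' y = 0 →
      (E.τ δ).1 y = y := by
    intro y a b c d
    have e1 : (S Q w (t⁻¹ • u')).1 y = y := S_fix h.hw hT b (by rw [polar_smul_left, c, smul_zero])
    rw [hδ, map_mul, map_mul, L_spec, L_spec, orth_mul_apply, orth_mul_apply, e1,
      S_fix h.hu hT' a (by rw [polar_smul_left, d, smul_zero]), e1]
  have hconj : δ * X * δ⁻¹ = X⁻¹ := by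
    have e1 : br E u w z z' = br E u w (t • z') (t⁻¹ • z) := br_eq E h zu zw yu yw
      (by rw [polar_smul_right, yu, smul_zero]) (by rw [polar_smul_right, yw, smul_zero])
      (by rw [polar_smul_right, zu, smul_zero]) (by rw [polar_smul_right, zw, smul_zero])
      (by rw [polar_smul_left, polar_smul_right, polar_comm Q z' z, hzz]; simp [ht])
    have e2 : δ * X * δ⁻¹ = ⁅L E w (t⁻¹ • z), L E u (t • z')⁆ := by
      simp only [X, br]
      rw [conjugate_commutatorElement]
      refine br_congr E ?_ ?_ <;> rw [map_mul, map_mul, map_inv, L_spec, L_spec, S_conj]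
      · rw [gu, gfix z zu zw zu' zw', S_smul h.hw zw]
      · rw [gw, gfix z' yu yw yu' yw', S_smul h.hu yu]
    rw [e2, show X = br E u w (t • z') (t⁻¹ • z) from e1, br, commutatorElement_inv]
  have hsq : X * X = 1 := by
    simp only [X]
    rw [← br_add_right E h zu zw yu yw yu yw, show z' + z' = (2 : F) • z' by module, h2, zero_smul,
      br_zero_right]
  have hcδ : Commute (L E u w) δ := by
    refine commute_congr E (a' := X) (by rw [L_spec, hX]) rfl ?_
    rw [inv_eq_of_mul_eq_one_right hsq] at hconj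
    exact (mul_inv_eq_iff_eq_mul.1 hconj).symm
  have hRT : Commute (E.τ (L E u w)) (E.τ (L E w (t⁻¹ • u'))) := by
    rw [L_spec, L_spec]
    have e := S_conj (S Q w (t⁻¹ • u')) u w
    rw [Tu, Tw] at e
    rw [show S Q (u + t⁻¹ • w) w = S Q u w by
      rw [S_symm h.hw (by rw [QuadraticMap.map_add (⇑Q), QuadraticMap.map_smul, h.hu, h.hw,
          polar_smul_right, h.huw]; simp) (by rw [polar_add_right, polar_smul_right, hwu, hww0]; simp),
        neg_add, ← neg_smul, S_shift h.hw (by rw [polar_neg_right, hwu, neg_zero]),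
        ← S_symm h.hw h.hu hwu]] at e
    exact (mul_inv_eq_iff_eq_mul.1 e).symm
  have hRT' : Commute (E.τ (L E u w)) (E.τ (L E u (t • w'))) := by
    rw [L_spec, L_spec]; exact S_commute_same h.hu h.huw hT'
  have hb := (commutatorElement_eq_one_iff_commute.2 hcδ)
  rw [hδ, StemPairing.bracket_mul_right E.central hRT, StemPairing.bracket_mul_right E.central hRT'] at hb
  have hzc := StemBasic.ker_comm E.central (StemPairing.bracket_mem_ker hRT)
  have hsqT : ⁅L E u w, L E w (t⁻¹ • u')⁆ * ⁅L E u w, L E w (t⁻¹ • u')⁆ = 1 := by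
    rw [← StemPairing.bracket_mul_right E.central hRT, commutatorElement_eq_one_iff_commute]
    refine commute_congr E (a' := L E u w) (b' := 1) rfl ?_ (Commute.one_right _)
    rw [map_mul, L_spec, S_mul h.hw hT hT, ← add_smul, show t⁻¹ + t⁻¹ = (2 : F) * t⁻¹ by ring, h2,
      zero_mul, zero_smul, S_zero, map_one]
  rw [mul_assoc, hzc ⁅L E u w, L E u (t • w')⁆, ← mul_assoc, hsqT, one_mul] at hb
  exact commutatorElement_eq_one_iff_commute.1 hb

/-- A lift of a root element commutes with every lift `S w z`. -/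
theorem comm_gen {u w z : V} (h : Pair Q u w) (hzw : polar Q w z = 0) :
    Commute (L E u w) (L E w z) := by
  obtain ⟨u', w', W, hf⟩ := exists_frame' h E.nd
  set s := polar Q u z with hs
  have hwu : polar Q w u = 0 := by rw [polar_comm, h.huw]
  have hu'0 : ∀ r : F, polar Q w (r • u') = 0 := fun r => by rw [polar_smul_right, hf.hwu', smul_zero]
  have hz0 : polar Q u (z - s • u') = 0 ∧ polar Q w (z - s • u') = 0 := by
    refine ⟨?_, by rw [polar_sub_right, hzw, hu'0, sub_zero]⟩
    rw [polar_sub_right, polar_smul_right, hf.huu, hs]; simp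
  suffices key : Commute (L E u w) (L E w (s • u')) by
    have := commute_add E h.hw hz0.2 (hu'0 s) (comm_right E h hz0.1 hz0.2) key
    rwa [sub_add_cancel] at this
  by_cases h2 : (2 : F) = 0
  · exact (L_inv E (S_symm' h.hw h.hu hwu) (comm_two E h2 h.symm (Frame.symm hf) s).symm).symm
  -- odd characteristic: the pairing is symmetric and alternating
  let g : V → V → Δ := fun x y => ⁅L E w x, L E w y⁆
  have gl : ∀ x x' y, polar Q w x = 0 → polar Q w x' = 0 → polar Q w y = 0 →
      g (x + x') y = g x y * g x' y := fun x x' y a b c => by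
    simp only [g]
    rw [← StemPairing.bracket_mul_left E.central (a := L E w x)
      (by rw [L_spec, L_spec]; exact S_commute_same h.hw b c)]
    exact br_congr E (by rw [map_mul, L_spec, L_spec, L_spec, S_mul h.hw a b]) rfl
  have gr : ∀ x y y', polar Q w x = 0 → polar Q w y = 0 → polar Q w y' = 0 →
      g x (y + y') = g x y * g x y' := fun x y y' a b c => by
    simp only [g]
    rw [← StemPairing.bracket_mul_right E.central (b := L E w y)
      (by rw [L_spec, L_spec]; exact S_commute_same h.hw a c)]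
    exact br_congr E rfl (by rw [map_mul, L_spec, L_spec, L_spec, S_mul h.hw b c])
  have gsing : ∀ a y, Pair Q a w → polar Q a y = 0 → polar Q w y = 0 → g a y = 1 := fun a y ha h1 h3 =>
    commutatorElement_eq_one_iff_commute.2
      (L_inv E (S_symm' ha.hu ha.hw ha.huw) (comm_right E ha h1 h3).symm).symm
  have ident : ∀ e e', e ∈ W → e' ∈ W → Q e = 0 → polar Q e e' = 1 →
      ∀ r : F, g u (r • u') = g e (r • e') := by
    intro e e' he he' hQe hee r
    obtain ⟨eu, ew, eu', ew'⟩ := hf.perp e he
    obtain ⟨fu, fw, fu', fw'⟩ := hf.perp e' he'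
    have hr : polar Q w (r • e') = 0 := by rw [polar_smul_right, fw, smul_zero]
    have hr' : polar Q w ((-r) • e') = 0 := by rw [polar_smul_right, fw, smul_zero]
    have pe : Pair Q e w := ⟨hQe, h.hw, by rw [polar_comm, ew], fun α β q => by
      have e1 : β = 0 := by
        simpa [polar_add_right, polar_smul_right, polar_comm Q w' w, hf.hww, ew'] using congrArg (polar Q w') q
      have e2 : α = 0 := by
        simpa [e1, polar_add_right, polar_smul_right, polar_comm Q e' e, hee] using congrArg (polar Q e') q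
      exact ⟨e2, e1⟩⟩
    have pa : Pair Q (u + e) w := ⟨by rw [QuadraticMap.map_add (⇑Q), h.hu, hQe, eu]; simp, h.hw,
      by rw [polar_add_left, h.huw, polar_comm, ew, add_zero], fun α β q => by
      have e2 : α = 0 := by
        simpa [polar_add_right, polar_smul_right, polar_comm Q u' u, hf.huu, polar_comm Q u' w, hf.hwu', eu']
          using congrArg (polar Q u') q
      have e1 : β = 0 := by
        simpa [e2, polar_add_right, polar_smul_right, polar_comm Q w' w, hf.hww] using congrArg (polar Q w') q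
      exact ⟨e2, e1⟩⟩
    have k := gsing (u + e) (r • u' + (-r) • e') pa
      (by simp [polar_add_left, polar_add_right, polar_smul_right, hf.huu, fu, polar_comm Q e u',
        eu', hee]) (by rw [polar_add_right, hu'0, hr', add_zero])
    rw [gl u e _ hwu ew (by rw [polar_add_right, hu'0, hr', add_zero]),
      gr u _ _ hwu (hu'0 r) hr', gr e _ _ ew (hu'0 r) hr',
      gsing u ((-r) • e') h (by rw [polar_smul_right, fu, smul_zero]) hr', mul_one,
      gsing e (r • u') pe (by rw [polar_smul_right, polar_comm, eu', smul_zero]) (hu'0 r), one_mul] at k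
    have k2 := gr e (r • e') ((-r) • e') ew hr hr'
    rw [← add_smul, add_neg_cancel, zero_smul] at k2
    have k3 : g e 0 = 1 := commutatorElement_eq_one_iff_commute.2 (commute_one E (S_zero w))
    rw [k3] at k2
    calc g u (r • u') = g u (r • u') * (g e (r • e') * g e ((-r) • e')) := by rw [← k2, mul_one]
      _ = g u (r • u') * (g e ((-r) • e') * g e (r • e')) := by
          rw [mul_eq_one_comm.1 k2.symm, ← k2]
      _ = g e (r • e') := by rw [← mul_assoc, k, one_mul]
  obtain ⟨e, he, hQe, he0⟩ := hf.singular E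
  obtain ⟨e', he', hQe', hee⟩ := hf.nd.exists_partner he he0 hQe
  have sq : ∀ r : F, g u (r • u') * g u (r • u') = 1 := by
    intro r
    by_cases hr : r = 0
    · rw [hr, zero_smul]
      simp only [g]
      rw [commutatorElement_eq_one_iff_commute.2 (commute_one E (S_zero w)), one_mul]
    have k1 := ident (r • e) (r⁻¹ • e') (W.smul_mem _ he) (W.smul_mem _ he')
      (by rw [QuadraticMap.map_smul, hQe, smul_zero])
      (by rw [polar_smul_left, polar_smul_right, hee]; simp [hr]) r
    rw [smul_smul, mul_inv_cancel₀ hr, one_smul] at k1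
    have k2 := ident e' e he' he hQe' (by rw [polar_comm, hee]) r
    nth_rewrite 1 [k1]
    rw [k2]
    simp only [g]
    rw [← commutatorElement_inv (L E w e') (L E w (r • e)), inv_mul_cancel]
  have hg1 : g u (s • u') = 1 := by
    have := gr u ((s / 2) • u') ((s / 2) • u') hwu (hu'0 _) (hu'0 _)
    rw [← add_smul, show s / 2 + s / 2 = s by field_simp; ring, sq] at this
    exact this
  exact (L_inv E (S_symm' h.hw h.hu hwu) (commutatorElement_eq_one_iff_commute.1 hg1).symm).symm

/-- The same for the first vector. -/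
theorem comm_gen_left {u w z : V} (h : Pair Q u w) (hzu : polar Q u z = 0) :
    Commute (L E u w) (L E u z) :=
  (L_inv E (S_symm' h.hw h.hu h.symm.huw) (comm_gen E h.symm hzu).symm).symm

open scoped Classical in
/-- The canonical lift of a root element. -/
noncomputable def X (u w : V) : Δ :=
  if h : Pair Q u w then
    br E u w (Classical.choose (show ∃ z z', polar Q u z = 0 ∧ polar Q w z = 0 ∧ polar Q u z' = 0 ∧
        polar Q w z' = 0 ∧ polar Q z z' = 1 by
      obtain ⟨u', w', W, hf⟩ := exists_frame' h E.nd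
      obtain ⟨z, hz, z', hz', hzz⟩ := exists_unit_pair E h hf
      exact ⟨z, z', (hf.perp z hz).1, (hf.perp z hz).2.1, (hf.perp z' hz').1, (hf.perp z' hz').2.1, hzz⟩))
      (Classical.choose (Classical.choose_spec (show ∃ z z', polar Q u z = 0 ∧ polar Q w z = 0 ∧
        polar Q u z' = 0 ∧ polar Q w z' = 0 ∧ polar Q z z' = 1 by
      obtain ⟨u', w', W, hf⟩ := exists_frame' h E.nd
      obtain ⟨z, hz, z', hz', hzz⟩ := exists_unit_pair E h hf
      exact ⟨z, z', (hf.perp z hz).1, (hf.perp z hz).2.1, (hf.perp z' hz').1, (hf.perp z' hz').2.1, hzz⟩)))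
  else 1

theorem X_eq {u w z z' : V} (h : Pair Q u w) (h1 : polar Q u z = 0) (h2 : polar Q w z = 0)
    (h3 : polar Q u z' = 0) (h4 : polar Q w z' = 0) (h5 : polar Q z z' = 1) :
    X E u w = br E u w z z' := by
  rw [X, dif_pos h]
  generalize_proofs hz
  obtain ⟨a, b, c, d, e⟩ := Classical.choose_spec (Classical.choose_spec hz)
  exact br_eq E h a b c d h1 h2 h3 h4 (by rw [e, h5])

theorem X_not {u w : V} (h : ¬ Pair Q u w) : X E u w = 1 := dif_neg h

theorem exists_X {u w : V} (h : Pair Q u w) : ∃ z z', polar Q u z = 0 ∧ polar Q w z = 0 ∧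
    polar Q u z' = 0 ∧ polar Q w z' = 0 ∧ polar Q z z' = 1 ∧ X E u w = br E u w z z' := by
  obtain ⟨u', w', W, hf⟩ := exists_frame' h E.nd
  obtain ⟨z, hz, z', hz', hzz⟩ := exists_unit_pair E h hf
  exact ⟨z, z', (hf.perp z hz).1, (hf.perp z hz).2.1, (hf.perp z' hz').1, (hf.perp z' hz').2.1, hzz,
    X_eq E h (hf.perp z hz).1 (hf.perp z hz).2.1 (hf.perp z' hz').1 (hf.perp z' hz').2.1 hzz⟩

omit [Fintype F] [FiniteDimensional F V] in
theorem S_of_not_pair {u w : V} (hu : Q u = 0) (hw : Q w = 0) (huw : polar Q u w = 0)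
    (h : ¬ Pair Q u w) : S Q u w = 1 := by
  by_cases hu0 : u = 0
  · subst hu0; exact S_zero_left w
  obtain ⟨c, hc⟩ : ∃ c : F, w = c • u := by
    by_contra hne
    refine h ⟨hu, hw, huw, fun α β e => ?_⟩
    by_cases hβ : β = 0
    · subst hβ; simp [hu0] at e; exact ⟨e, rfl⟩
    · exfalso
      refine hne ⟨-(α / β), ?_⟩
      have : β • w = (-α) • u := by rw [neg_smul]; exact eq_neg_of_add_eq_zero_right e
      calc w = β⁻¹ • (β • w) := by rw [inv_smul_smul₀ hβ]
        _ = _ := by rw [this, smul_smul]; congr 1; field_simp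
  rw [S_def hu huw]
  exact siegel_eq_one _ _ hc

theorem X_image {u w : V} (hu : Q u = 0) (hw : Q w = 0) (huw : polar Q u w = 0) :
    E.τ (X E u w) = S Q u w := by
  by_cases h : Pair Q u w
  · obtain ⟨z, z', a, b, c, d, e, hX⟩ := exists_X E h
    rw [hX, br_image E h a b c d, e, one_smul]
  · rw [X_not E h, map_one, S_of_not_pair hu hw huw h]

omit [Fintype F] [FiniteDimensional F V] in
theorem Pair.map {u w : V} (h : Pair Q u w) (g : orth Q) : Pair Q (g.1 u) (g.1 w) :=
  ⟨by rw [map_orth g, h.hu], by rw [map_orth g, h.hw], by rw [polar_orth g, h.huw], fun α β e => by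
    rw [← map_smul, ← map_smul, ← map_add, LinearEquiv.map_eq_zero_iff] at e
    exact h.ind α β e⟩

theorem X_conj (δ : Δ) (u w : V) : δ * X E u w * δ⁻¹ = X E ((E.τ δ).1 u) ((E.τ δ).1 w) := by
  by_cases h : Pair Q u w
  · obtain ⟨z, z', a, b, c, d, e, hX⟩ := exists_X E h
    have h' := Pair.map h (E.τ δ)
    rw [hX, X_eq E h' (z := (E.τ δ).1 z) (z' := (E.τ δ).1 z') (by rw [polar_orth, a])
      (by rw [polar_orth, b]) (by rw [polar_orth, c]) (by rw [polar_orth, d]) (by rw [polar_orth, e])]
    simp only [br]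
    rw [conjugate_commutatorElement]
    refine br_congr E ?_ ?_ <;> rw [map_mul, map_mul, map_inv, L_spec, L_spec, S_conj]
  · rw [X_not E h, mul_one, mul_inv_cancel, X_not E]
    intro h'
    have := Pair.map h' (E.τ δ)⁻¹
    rw [← orth_mul_apply, ← orth_mul_apply, inv_mul_cancel] at this
    exact h this

theorem X_smul_eq {u w z z' : V} (h : Pair Q u w) (h1 : polar Q u z = 0) (h2 : polar Q w z = 0)
    (h3 : polar Q u z' = 0) (h4 : polar Q w z' = 0) (h5 : polar Q z z' = 1) (s : F) :
    X E u (s • w) = br E u w z (s • z') := by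
  by_cases hs : s = 0
  · rw [hs, zero_smul, zero_smul, br_zero_right, X_not E]
    exact fun h' => one_ne_zero (h'.ind 0 1 (by simp)).2
  rw [X_eq E (Pair.smul h hs) h1 (by rw [polar_smul_left, h2, smul_zero]) h3
    (by rw [polar_smul_left, h4, smul_zero]) h5]
  exact br_congr E rfl (by rw [L_spec, L_spec, S_smul h.hw h4])

theorem X_symm {u w : V} : X E w u = (X E u w)⁻¹ := by
  by_cases h : Pair Q u w
  · obtain ⟨z, z', a, b, c, d, e, hX⟩ := exists_X E h
    rw [hX, X_eq E h.symm d c b a (by rw [polar_comm, e]), br, br, commutatorElement_inv]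
  · rw [X_not E h, X_not E (fun h' => h h'.symm), inv_one]

theorem X_smul (t : F) (u w : V) : X E (t • u) w = X E u (t • w) := by
  by_cases ht : t = 0
  · subst ht
    rw [zero_smul, zero_smul, X_not E, X_not E]
    · exact fun h => one_ne_zero (h.ind 0 1 (by simp)).2
    · exact fun h => one_ne_zero (h.ind 1 0 (by simp)).1
  by_cases h : Pair Q u w
  · obtain ⟨z, z', a, b, c, d, e, hX⟩ := exists_X E h
    have h' : Pair Q (t • u) w := (Pair.smul h.symm ht).symm
    rw [X_smul_eq E h a b c d e, X_eq E h' (by rw [polar_smul_left, a, smul_zero]) b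
      (by rw [polar_smul_left, c, smul_zero]) d e]
    have h7 : br E (t • u) w z z' = br E u w (t • z) z' :=
      br_congr E (by rw [L_spec, L_spec, S_smul h.hu a]) rfl
    rw [h7]
    exact br_eq E h (by rw [polar_smul_right, a, smul_zero]) (by rw [polar_smul_right, b, smul_zero]) c d
      a b (by rw [polar_smul_right, c, smul_zero]) (by rw [polar_smul_right, d, smul_zero])
      (by rw [polar_smul_left, polar_smul_right])
  · rw [X_not E, X_not E]
    · intro h'
      refine h ?_
      have := Pair.smul h' (inv_ne_zero ht)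
      rwa [inv_smul_smul₀ ht] at this
    · intro h'
      refine h ?_
      have := (Pair.smul h'.symm (inv_ne_zero ht)).symm
      rwa [inv_smul_smul₀ ht] at this

theorem X_root_add {u w : V} (h : Pair Q u w) (s t : F) :
    X E u ((s + t) • w) = X E u (s • w) * X E u (t • w) := by
  obtain ⟨z, z', a, b, c, d, e, -⟩ := exists_X E h
  rw [X_smul_eq E h a b c d e, X_smul_eq E h a b c d e, X_smul_eq E h a b c d e, add_smul,
    br_add_right E h a b (by rw [polar_smul_right, c, smul_zero]) (by rw [polar_smul_right, d, smul_zero])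
      (by rw [polar_smul_right, c, smul_zero]) (by rw [polar_smul_right, d, smul_zero])]

theorem X_shift {u w : V} (hu : Q u = 0) (huw : polar Q u w = 0) (hw : Q w = 0) (t : F) :
    X E u (w + t • u) = X E u w := by
  by_cases h : Pair Q u w
  · obtain ⟨u', w', W, hf⟩ := exists_frame' h E.nd
    have hd : polar Q u ((-t) • w') = 0 := by rw [polar_smul_right, hf.huw', smul_zero]
    have hc : Commute (L E u ((-t) • w')) (X E u w) :=
      (commute_congr E (by rw [X_image E hu hw huw, L_spec]) rfl (comm_gen_left E h hd)).symm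
    have e := X_conj E (L E u ((-t) • w')) u w
    rw [hc.eq, mul_inv_cancel_right, L_spec,
      S_fix hu hd (by rw [polar_self_mul, hu, mul_zero]) (by rw [polar_comm, hd]),
      S_apply hu hd, huw, polar_smul_left, polar_comm Q w' w, hf.hww] at e
    rw [e]
    congr 1
    module
  · rw [X_not E h, X_not E]
    intro h'
    refine h ⟨h'.hu, hw, huw, fun α β e => ?_⟩
    obtain ⟨h1, h2⟩ := h'.ind (α - β * t) β (by rw [← e]; module)
    rw [h2] at h1
    exact ⟨by simpa using h1, h2⟩

theorem X_add {u w w' : V} (hu : Q u = 0) (hw : Q w = 0) (hw' : Q w' = 0) (h1 : polar Q u w = 0)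
    (h2 : polar Q u w' = 0) (h3 : polar Q w w' = 0) : X E u (w + w') = X E u w * X E u w' := by
  by_cases hu0 : u = 0
  · subst hu0
    have : ∀ x : V, X E (0 : V) x = 1 := fun x => X_not E fun h => one_ne_zero (h.ind 1 0 (by simp)).1
    rw [this, this, this, one_mul]
  by_cases h : Pair Q u w
  swap
  · rw [X_not E h, one_mul]
    obtain ⟨c, hc⟩ : ∃ c : F, w = c • u := by
      by_contra hne
      refine h ⟨hu, hw, h1, fun α β e => ?_⟩
      by_cases hβ : β = 0
      · subst hβ; simp [hu0] at e; exact ⟨e, rfl⟩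
      · exfalso
        refine hne ⟨-(α / β), ?_⟩
        have : β • w = (-α) • u := by rw [neg_smul]; exact eq_neg_of_add_eq_zero_right e
        calc w = β⁻¹ • (β • w) := by rw [inv_smul_smul₀ hβ]
          _ = _ := by rw [this, smul_smul]; congr 1; field_simp
    rw [hc, add_comm, X_shift E hu h2 hw']
  by_cases hspan : ∃ α β : F, w' = α • u + β • w
  · obtain ⟨α, β, rfl⟩ := hspan
    have hb : ∀ b : F, Q (b • w) = 0 ∧ polar Q u (b • w) = 0 := fun b =>
      ⟨by rw [QuadraticMap.map_smul, hw, smul_zero], by rw [polar_smul_right, h1, smul_zero]⟩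
    rw [show w + (α • u + β • w) = (1 + β) • w + α • u by module, X_shift E hu (hb _).2 (hb _).1,
      add_comm (α • u), X_shift E hu (hb _).2 (hb _).1, X_root_add E h, one_smul]
  have hind : ∀ α β γ : F, α • u + β • w + γ • w' = 0 → α = 0 ∧ β = 0 ∧ γ = 0 := by
    intro α β γ e
    have hγ : γ = 0 := by
      by_contra hγ
      refine hspan ⟨-(α / γ), -(β / γ), ?_⟩
      have e' : γ • w' = (-α) • u + (-β) • w := by
        rw [eq_neg_of_add_eq_zero_right e]; module
      calc w' = γ⁻¹ • (γ • w') := by rw [inv_smul_smul₀ hγ]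
        _ = _ := by rw [e', smul_add, smul_smul, smul_smul]; congr 2 <;> field_simp
    subst hγ
    rw [zero_smul, add_zero] at e
    obtain ⟨a, b⟩ := h.ind α β e
    exact ⟨a, b, rfl⟩
  obtain ⟨u', v', W, hf, hUW⟩ := exists_frame h (Submodule.span F {w'}) (fun x hx => by
      obtain ⟨c, rfl⟩ := Submodule.mem_span_singleton.1 hx
      simp [polar_smul_right, h2, h3])
    (fun hm => by
      rw [← Submodule.span_insert, Submodule.mem_span_pair] at hm
      obtain ⟨c, d, he⟩ := hm
      exact one_ne_zero (hind 1 (-c) (-d) (by rw [← he]; module)).1)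
    (fun hm => by
      rw [← Submodule.span_insert, Submodule.mem_span_pair] at hm
      obtain ⟨c, d, he⟩ := hm
      exact one_ne_zero (hind (-c) 1 (-d) (by rw [← he]; module)).2.1) E.nd
  have hwW : w' ∈ W := hUW (Submodule.mem_span_singleton_self w')
  have hw'0 : w' ≠ 0 := fun e => one_ne_zero (hind 0 0 1 (by rw [e]; simp)).2.2
  obtain ⟨c', hc', hQc', hcc⟩ := hf.nd.exists_partner hwW hw'0 hw'
  have hd := finrank_split hwW hc' hw' hQc' hcc
  have := hf.dim E
  have hne : split Q W w' c' ≠ ⊥ := fun e => by rw [e, finrank_bot] at hd; omega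
  obtain ⟨z, hz, hz0⟩ := Submodule.exists_mem_ne_zero_of_ne_bot hne
  obtain ⟨z', hz', hzz⟩ := (Nd.split hwW hc' hw' hQc' hcc hf.nd).exists_ne hz hz0
  obtain ⟨hzW, hwz, -⟩ := mem_split.1 hz
  obtain ⟨hzW', hwz', -⟩ := mem_split.1 hz'
  obtain ⟨a, b, -, -⟩ := hf.perp z hzW
  obtain ⟨c, d, -, -⟩ := hf.perp z' hzW'
  have hws : Q (w + w') = 0 := by rw [QuadraticMap.map_add (⇑Q), hw, hw', h3]; simp
  have hp : Pair Q u (w + w') := ⟨hu, hws, by rw [polar_add_right, h1, h2, add_zero], fun α β e => by
    obtain ⟨x, y, -⟩ := hind α β β (by rw [← e]; module); exact ⟨x, y⟩⟩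
  have hp' : Pair Q u w' := ⟨hu, hw', h2, fun α β e => by
    obtain ⟨x, -, y⟩ := hind α 0 β (by rw [← e]; module); exact ⟨x, y⟩⟩
  rw [X_eq E hp a (by rw [polar_add_left, b, hwz, add_zero]) c (by rw [polar_add_left, d, hwz', add_zero])
    hzz, X_eq E h a b c d hzz, X_eq E hp' a hwz c hwz' hzz]
  have hr3 : Commute (L E u z) (L E w (-(Q z') • w')) := by
    by_cases hq : -(Q z') = 0
    · rw [hq, zero_smul]; exact commute_one E (S_zero w)
    · refine (comm_disjoint E (u := w) (w := -(Q z') • w') (a := u) (b := z)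
        (Pair.smul ⟨hw, hw', h3, fun α β e => ?_⟩ hq) hu (by rw [polar_comm, h1])
        (by rw [polar_smul_left, polar_comm, h2, smul_zero]) (fun α β γ e => ?_) b
        (by rw [polar_smul_left, hwz, smul_zero]) a).symm
      · obtain ⟨-, y, x⟩ := hind 0 α β (by rw [← e]; module); exact ⟨y, x⟩
      · obtain ⟨x, y, y'⟩ := hind γ α (β * (-(Q z'))) (by rw [← e]; module)
        exact ⟨y, (mul_eq_zero.1 y').resolve_right hq, x⟩
  have hb : Commute (L E w z') (br E u w' z z') := by
    refine (commute_congr E (a' := L E u w') ?_ rfl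
      (comm_disjoint E hp' hw h1 (by rw [polar_comm, h3]) (fun α β γ e => ?_) c hwz' d)).symm
    · rw [br_image E hp' a hwz c hwz', hzz, one_smul, L_spec]
    · obtain ⟨x, y, y'⟩ := hind α γ β (by rw [← e]; module); exact ⟨x, y', y⟩
  have e1 : br E u (w + w') z z' = ⁅L E u z, L E w z' * L E w' z' * L E w (-(Q z') • w')⁆ := by
    refine br_congr E rfl ?_
    rw [map_mul, map_mul, L_spec, L_spec, L_spec, L_spec, S_add_left hw hw' h3 d hwz']
  have e2 : ∀ p q r : Δ, ⁅p, q * r⁆ = ⁅p, q⁆ * (q * ⁅p, r⁆ * q⁻¹) := fun p q r => by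
    simp only [commutatorElement_def]; group
  rw [e1, e2, commutatorElement_eq_one_iff_commute.2 hr3, mul_one, mul_inv_cancel, mul_one, e2]
  show br E u w z z' * (L E w z' * br E u w' z z' * (L E w z')⁻¹) = _
  rw [hb.eq, mul_inv_cancel_right]

end Cfsg.Agent.OrthStemRoot
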