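import Cfsg.Agent.Lib.OrthUnitaryForms
import Mathlib

/-!
Spinor representations of the standard quadratic forms: linear maps into endomorphisms of a finite
space squaring to the form.
-/

set_option autoImplicit false

namespace Cfsg.Agent.OrthStemSpinor

open QuadraticMap
open Cfsg.Agent.OrthUnitaryQuad Cfsg.Agent.OrthUnitaryForms

universe u w w'

variable {F : Type u} [Field F]

/-- A finite Clifford module. -/
def HasSpinor {W : Type w} [AddCommGroup W] [Module F W] (Q : QuadraticForm F W) : Prop :=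
  ∃ (M : Type u) (_ : AddCommGroup M) (_ : Module F M) (_ : Finite M) (_ : Nontrivial M)
    (ρ : W →ₗ[F] Module.End F M), ∀ v, ρ v * ρ v = Q v • 1

theorem hasSpinor_congr {W : Type w} [AddCommGroup W] [Module F W] {W' : Type w'} [AddCommGroup W']
    [Module F W'] {Q : QuadraticForm F W} {Q' : QuadraticForm F W'} (e : W ≃ₗ[F] W')
    (h : ∀ x, Q' (e x) = Q x) (hQ : HasSpinor Q) : HasSpinor Q' := by
  obtain ⟨M, i1, i2, i3, i4, ρ, hρ⟩ := hQ
  refine ⟨M, i1, i2, i3, i4, ρ.comp e.symm.toLinearMap, fun v => ?_⟩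
  conv_rhs => rw [← e.apply_symm_apply v, h]
  exact hρ _

/-- Doubling. -/
theorem hasSpinor_hypExt {W : Type w} [AddCommGroup W] [Module F W] {Q : QuadraticForm F W}
    (hQ : HasSpinor Q) : HasSpinor (hypExt Q) := by
  obtain ⟨M, i1, i2, i3, i4, ρ, hρ⟩ := hQ
  let T : (F × F) × W → Module.End F (M × M) := fun p =>
    { toFun := fun m => (ρ p.2 m.1 + p.1.1 • m.2, p.1.2 • m.1 - ρ p.2 m.2)
      map_add' := fun m n => by
        refine Prod.ext ?_ ?_
        · show ρ p.2 (m.1 + n.1) + p.1.1 • (m.2 + n.2) = _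
          rw [map_add, smul_add]
          simp only [Prod.fst_add]
          abel
        · show p.1.2 • (m.1 + n.1) - ρ p.2 (m.2 + n.2) = _
          rw [map_add, smul_add]
          simp only [Prod.snd_add]
          abel
      map_smul' := fun c m => by
        refine Prod.ext ?_ ?_
        · show ρ p.2 (c • m.1) + p.1.1 • (c • m.2) = c • (ρ p.2 m.1 + p.1.1 • m.2)
          rw [map_smul, smul_comm, smul_add]
        · show p.1.2 • (c • m.1) - ρ p.2 (c • m.2) = c • (p.1.2 • m.1 - ρ p.2 m.2)
          rw [map_smul, smul_comm, smul_sub] }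
  refine ⟨M × M, inferInstance, inferInstance, inferInstance, inferInstance,
    { toFun := T, map_add' := fun p r => ?_, map_smul' := fun c p => ?_ }, fun p => ?_⟩
  · refine LinearMap.ext fun m => Prod.ext ?_ ?_
    · show ρ (p.2 + r.2) m.1 + (p.1.1 + r.1.1) • m.2 =
        (ρ p.2 m.1 + p.1.1 • m.2) + (ρ r.2 m.1 + r.1.1 • m.2)
      rw [map_add, LinearMap.add_apply, add_smul]; abel
    · show (p.1.2 + r.1.2) • m.1 - ρ (p.2 + r.2) m.2 =
        (p.1.2 • m.1 - ρ p.2 m.2) + (r.1.2 • m.1 - ρ r.2 m.2)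
      rw [map_add, LinearMap.add_apply, add_smul]; abel
  · refine LinearMap.ext fun m => Prod.ext ?_ ?_
    · show ρ (c • p.2) m.1 + (c • p.1.1) • m.2 = c • (ρ p.2 m.1 + p.1.1 • m.2)
      rw [map_smul, LinearMap.smul_apply, smul_eq_mul, mul_smul, smul_add]
    · show (c • p.1.2) • m.1 - ρ (c • p.2) m.2 = c • (p.1.2 • m.1 - ρ p.2 m.2)
      rw [map_smul, LinearMap.smul_apply, smul_eq_mul, mul_smul, smul_sub]
  · obtain ⟨⟨a, b⟩, v⟩ := p
    refine LinearMap.ext fun m => Prod.ext ?_ ?_
    · show ρ v (ρ v m.1 + a • m.2) + a • (b • m.1 - ρ v m.2) = hypExt Q ((a, b), v) • m.1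
      rw [hypExt_apply, map_add, map_smul, ← Module.End.mul_apply, hρ, smul_sub]
      simp only [LinearMap.smul_apply, Module.End.one_apply]
      module
    · show b • (ρ v m.1 + a • m.2) - ρ v (b • m.1 - ρ v m.2) = hypExt Q ((a, b), v) • m.2
      rw [hypExt_apply, map_sub, map_smul, ← Module.End.mul_apply, hρ]
      simp only [LinearMap.smul_apply, Module.End.one_apply]
      module

theorem hasSpinor_withBase {W : Type w} [AddCommGroup W] [Module F W] {Q : QuadraticForm F W}
    (hQ : HasSpinor Q) : ∀ m, HasSpinor (withBase m Q)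
  | 0 => hasSpinor_congr
      { toFun := fun x => (0, x)
        invFun := fun p => p.2
        map_add' := fun a b => by simp
        map_smul' := fun c a => by simp
        left_inv := fun x => rfl
        right_inv := fun p => Prod.ext (Subsingleton.elim _ _) rfl }
      (fun x => by simp [withBase_apply, quadFormPlus]) hQ
  | m + 1 => hasSpinor_congr (splitEquiv m) (splitEquiv_isometry m Q)
      (hasSpinor_hypExt (hasSpinor_withBase hQ m))

variable [Finite F]

theorem hasSpinor_qfNil : HasSpinor (qfNil F) := by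
  refine ⟨F, inferInstance, inferInstance, inferInstance, inferInstance, 0, fun v => ?_⟩
  simp [qfNil]

theorem hasSpinor_qfSq : HasSpinor (qfSq F) := by
  refine ⟨F, inferInstance, inferInstance, inferInstance, inferInstance,
    (LinearMap.toSpanSingleton F (Module.End F F) 1).comp (LinearMap.proj ()), fun v => ?_⟩
  simp [qfSq_apply, smul_smul]

theorem hasSpinor_qfBin (h2 : (2 : F) ≠ 0) (a b : F) : HasSpinor (qfBin a b) := by
  let A : Matrix (Fin 2) (Fin 2) F := !![1, 0; 0, -1]
  let B : Matrix (Fin 2) (Fin 2) F := !![a / 2, b - a ^ 2 / 4; 1, -(a / 2)]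
  let R : (Fin 2 → F) →ₗ[F] Matrix (Fin 2) (Fin 2) F :=
    (LinearMap.toSpanSingleton F _ A).comp (LinearMap.proj 0) +
      (LinearMap.toSpanSingleton F _ B).comp (LinearMap.proj 1)
  refine ⟨Fin 2 → F, inferInstance, inferInstance, inferInstance, inferInstance,
    (Matrix.toLinAlgEquiv' (R := F) (n := Fin 2)).toLinearMap.comp R, fun v => ?_⟩
  show Matrix.toLinAlgEquiv' (R v) * Matrix.toLinAlgEquiv' (R v) = qfBin a b v • 1
  rw [← map_mul, ← map_one (Matrix.toLinAlgEquiv' (R := F) (n := Fin 2)), ← map_smul]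
  congr 1
  have h4 : (4 : F) ≠ 0 := by
    rw [show (4 : F) = 2 * 2 by norm_num]; exact mul_ne_zero h2 h2
  ext i j
  fin_cases i <;> fin_cases j <;>
    simp [R, A, B, Matrix.mul_apply, qfBin_apply, Fin.sum_univ_two] <;> field_simp <;> ring

end Cfsg.Agent.OrthStemSpinor
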