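import Cfsg.Agent.Lib.OrthStemOdd
import Cfsg.Agent.Lib.OrthStemSpinor
import Mathlib

/-!
The spin group of a non-degenerate quadratic form in odd characteristic, with its equivariant lifts
of Siegel transformations, and lifts of `-1`.
-/

set_option autoImplicit false

namespace Cfsg.Agent.OrthStemSpin

open QuadraticMap
open Cfsg.Agent.OrthUnitaryQuad Cfsg.Agent.OrthUnitaryRefl Cfsg.Agent.OrthUnitaryOmega
open Cfsg.Agent.OrthUnitaryLowDim
open Cfsg.Agent.OrthStemGeom Cfsg.Agent.OrthStemSys Cfsg.Agent.OrthStemLifts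

universe uF uV

section Algebra

variable {F A : Type*} [CommRing F] [Ring A] [Algebra F A]

theorem conj_formula {e z x : A} {a b c : F} (hee : e * e = 0) (hzz : z * z = c • 1)
    (hez : e * z = -(z * e)) (hex : e * x = a • 1 - x * e) (hxz : x * z = b • 1 - z * x) :
    (1 + z * e) * x * (1 - z * e) = x + a • z - (b + c * a) • e := by
  have e1 : z * (e * x) = a • z - z * x * e := by
    rw [hex, mul_sub, mul_smul_comm, mul_one, mul_assoc]
  have e2 : x * z * e = b • e - z * x * e := by
    rw [hxz, sub_mul, smul_mul_assoc, one_mul]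
  have e3 : z * (e * x) * (z * e) = (a * c) • e := by
    rw [e1, sub_mul, smul_mul_assoc]
    have h1 : z * (z * e) = c • e := by rw [← mul_assoc, hzz, smul_mul_assoc, one_mul]
    have h2 : z * x * e * (z * e) = 0 := by
      rw [mul_assoc, ← mul_assoc e z e, hez, neg_mul, mul_assoc z e e, hee, mul_zero, neg_zero, mul_zero]
    rw [h1, h2, sub_zero, smul_smul]
  calc (1 + z * e) * x * (1 - z * e)
      = x + z * (e * x) - x * z * e - z * (e * x) * (z * e) := by noncomm_ring
    _ = _ := by rw [e3, e2, e1]; module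

end Algebra

variable {F : Type uF} [Field F] [Fintype F] {V : Type uV} [AddCommGroup V] [Module F V]
  [FiniteDimensional F V] {Q : QuadraticForm F V} {M : Type uF} [AddCommGroup M] [Module F M]
  [Finite M] [Nontrivial M]

/-- The data of the construction. -/
structure Data (Q : QuadraticForm F V) (M : Type uF) [AddCommGroup M] [Module F M] where
  h2 : (2 : F) ≠ 0
  nd : (polarBilin Q).Nondegenerate
  dim : 7 ≤ Module.finrank F V
  ρ : V →ₗ[F] Module.End F M
  sq : ∀ v, ρ v * ρ v = Q v • (1 : Module.End F M)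

variable (R : Data Q M)

omit [Fintype F] [FiniteDimensional F V] [Finite M] [Nontrivial M] in
theorem anti (u w : V) : R.ρ u * R.ρ w + R.ρ w * R.ρ u = polar Q u w • 1 := by
  have h := R.sq (u + w)
  rw [map_add, add_mul, mul_add, mul_add, R.sq u, R.sq w, QuadraticMap.map_add (⇑Q), add_smul,
    add_smul] at h
  linear_combination (norm := abel) h

omit [Fintype F] [FiniteDimensional F V] [Finite M] in
theorem smul_one_inj {c : F} (h : c • (1 : Module.End F M) = 0) : c = 0 := by
  obtain ⟨m, hm⟩ := exists_ne (0 : M)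
  have h' : c • m = 0 := LinearMap.congr_fun h m
  exact (smul_eq_zero.1 h').resolve_right hm

omit [Fintype F] [FiniteDimensional F V] [Finite M] in
theorem rho_inj {v w : V} (h : R.ρ v = R.ρ w) : v = w := by
  rw [← sub_eq_zero]
  refine R.nd.1 _ fun y => smul_one_inj (M := M) ?_
  rw [polarBilin_apply_apply, ← anti R, map_sub, h, sub_self, zero_mul, mul_zero, add_zero]

omit [Fintype F] [FiniteDimensional F V] [Finite M] [Nontrivial M] in
theorem ze_sq {e z : V} (he : Q e = 0) (hz : polar Q e z = 0) :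
    R.ρ e * R.ρ e = 0 ∧ R.ρ e * R.ρ z = -(R.ρ z * R.ρ e) := by
  refine ⟨by rw [R.sq, he, zero_smul], eq_neg_of_add_eq_zero_left ?_⟩
  rw [anti, hz, zero_smul]

omit [Fintype F] [FiniteDimensional F V] [Finite M] [Nontrivial M] in
theorem mul_ze {e z z' : V} (he : Q e = 0) (hz' : polar Q e z' = 0) :
    R.ρ z * R.ρ e * (R.ρ z' * R.ρ e) = 0 := by
  obtain ⟨h1, h2⟩ := ze_sq R he hz'
  rw [mul_assoc, ← mul_assoc (R.ρ e), h2, neg_mul, mul_assoc (R.ρ z'), h1, mul_zero, neg_zero, mul_zero]

open scoped Classical in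
/-- The lift of a Siegel transformation. -/
noncomputable def X (e z : V) : (Module.End F M)ˣ :=
  if h : Q e = 0 ∧ polar Q e z = 0 then
    { val := 1 + R.ρ z * R.ρ e
      inv := 1 - R.ρ z * R.ρ e
      val_inv := by
        have := mul_ze R (z := z) h.1 h.2
        simp [mul_sub, add_mul, this]
      inv_val := by
        have := mul_ze R (z := z) h.1 h.2
        simp [mul_add, sub_mul, this] }
  else 1

omit [Fintype F] [FiniteDimensional F V] [Finite M] [Nontrivial M] in
theorem X_val {e z : V} (he : Q e = 0) (hz : polar Q e z = 0) :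
    ((X R e z : (Module.End F M)ˣ) : Module.End F M) = 1 + R.ρ z * R.ρ e ∧
      (((X R e z)⁻¹ : (Module.End F M)ˣ) : Module.End F M) = 1 - R.ρ z * R.ρ e := by
  rw [X, dif_pos ⟨he, hz⟩]; exact ⟨rfl, rfl⟩

/-- `g` conjugates the image of `x` to that of `y`. -/
def Moves (g : (Module.End F M)ˣ) (x y : V) : Prop :=
  (g : Module.End F M) * R.ρ x * ((g⁻¹ : (Module.End F M)ˣ) : Module.End F M) = R.ρ y

omit [Fintype F] [FiniteDimensional F V] [Finite M] in
theorem Moves.unique {g : (Module.End F M)ˣ} {x y y' : V} (h : Moves R g x y) (h' : Moves R g x y') :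
    y = y' :=
  rho_inj R (h.symm.trans h')

omit [Fintype F] [FiniteDimensional F V] [Finite M] [Nontrivial M] in
theorem Moves.mul {g h : (Module.End F M)ˣ} {x y z : V} (h1 : Moves R h x y) (h2 : Moves R g y z) :
    Moves R (g * h) x z := by
  unfold Moves at *
  rw [← h2, ← h1]
  simp [mul_assoc]

omit [Fintype F] [FiniteDimensional F V] [Finite M] [Nontrivial M] in
theorem Moves.inv {g : (Module.End F M)ˣ} {x y : V} (h : Moves R g x y) : Moves R g⁻¹ y x := by
  unfold Moves at *
  rw [← h, inv_inv]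
  simp [mul_assoc]

omit [Fintype F] [FiniteDimensional F V] [Finite M] [Nontrivial M] in
theorem moves_X {e z : V} (he : Q e = 0) (hz : polar Q e z = 0) (x : V) :
    Moves R (X R e z) x ((S Q e z).1 x) := by
  obtain ⟨h1, h2⟩ := ze_sq R he hz
  rw [Moves, (X_val R he hz).1, (X_val R he hz).2, S_apply he hz,
    conj_formula h1 (R.sq z) h2 (a := polar Q e x) (b := polar Q z x) (eq_sub_of_add_eq (anti R e x))
      (eq_sub_of_add_eq (by rw [polar_comm]; exact anti R x z))]
  simp

/-- The units normalising the image of `V`. -/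
def G0 : Subgroup (Module.End F M)ˣ where
  carrier := {g | (∀ x, ∃ y, Moves R g x y) ∧ ∀ x, ∃ y, Moves R g⁻¹ x y}
  one_mem' := ⟨fun x => ⟨x, by simp [Moves]⟩, fun x => ⟨x, by simp [Moves]⟩⟩
  mul_mem' {a b} ha hb := by
    refine ⟨fun x => ?_, fun x => ?_⟩
    · obtain ⟨y, hy⟩ := hb.1 x
      obtain ⟨z, hz⟩ := ha.1 y
      exact ⟨z, hy.mul R hz⟩
    · obtain ⟨y, hy⟩ := ha.2 x
      obtain ⟨z, hz⟩ := hb.2 y
      exact ⟨z, by rw [mul_inv_rev]; exact hy.mul R hz⟩
  inv_mem' {a} ha := ⟨ha.2, by rw [inv_inv]; exact ha.1⟩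

/-- The spin group. -/
noncomputable def spin : Subgroup (Module.End F M)ˣ :=
  Subgroup.closure {g | ∃ e z, Q e = 0 ∧ polar Q e z = 0 ∧ g = X R e z}

omit [Fintype F] [FiniteDimensional F V] [Finite M] [Nontrivial M] in
theorem spin_le : spin R ≤ G0 R := by
  refine (Subgroup.closure_le _).2 ?_
  rintro _ ⟨e, z, he, hz, rfl⟩
  refine ⟨fun x => ⟨_, moves_X R he hz x⟩, fun x => ⟨(S Q e z)⁻¹.1 x, ?_⟩⟩
  have h := (moves_X R he hz ((S Q e z)⁻¹.1 x)).inv R
  rwa [← orth_mul_apply, mul_inv_cancel] at h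

/-- The image of a vector. -/
noncomputable def act (g : spin R) (x : V) : V := ((spin_le R g.2).1 x).choose

omit [Fintype F] [FiniteDimensional F V] [Finite M] [Nontrivial M] in
theorem act_moves (g : spin R) (x : V) : Moves R g.1 x (act R g x) :=
  ((spin_le R g.2).1 x).choose_spec

/-- The vector representation. -/
noncomputable def π : spin R →* orth Q :=
  bundleHom
    (fun g =>
      { toFun := act R g
        map_add' := fun x y => (act_moves R g (x + y)).unique R (by
          unfold Moves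
          rw [map_add, mul_add, add_mul, act_moves R g x, act_moves R g y, map_add])
        map_smul' := fun c x => (act_moves R g (c • x)).unique R (by
          unfold Moves
          rw [map_smul, mul_smul_comm, smul_mul_assoc, act_moves R g x, RingHom.id_apply, map_smul]) })
    (fun v => (act_moves R 1 v).unique R (by simp [Moves]))
    (fun g h v => (act_moves R (g * h) v).unique R ((act_moves R h v).mul R (act_moves R g _)))
    (fun g v => by
      show Q (act R g v) = Q v
      have h := R.sq (act R g v)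
      rw [← act_moves R g v] at h
      refine sub_eq_zero.1 (smul_one_inj (M := M) ?_)
      rw [sub_smul, ← h, sub_eq_zero]
      calc (g.1 : Module.End F M) * R.ρ v * ((g.1⁻¹ : (Module.End F M)ˣ) : Module.End F M) *
            ((g.1 : Module.End F M) * R.ρ v * ((g.1⁻¹ : (Module.End F M)ˣ) : Module.End F M))
          = (g.1 : Module.End F M) * (R.ρ v * R.ρ v) * ((g.1⁻¹ : (Module.End F M)ˣ) : Module.End F M) := by
            simp [mul_assoc]
        _ = Q v • 1 := by rw [R.sq]; simp)

omit [Fintype F] [FiniteDimensional F V] [Finite M] in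
theorem π_moves (g : spin R) (x : V) : Moves R g.1 x ((π R g).1 x) := act_moves R g x

omit [Fintype F] [FiniteDimensional F V] [Finite M] in
theorem π_eq (g : spin R) {x y : V} (h : Moves R g.1 x y) : (π R g).1 x = y :=
  (π_moves R g x).unique R h

open scoped Classical in
/-- The lifts as elements of the spin group. -/
noncomputable def XΓ (e z : V) : spin R :=
  if h : Q e = 0 ∧ polar Q e z = 0 then ⟨X R e z, Subgroup.subset_closure ⟨e, z, h.1, h.2, rfl⟩⟩ else 1

omit [Fintype F] [FiniteDimensional F V] [Finite M] [Nontrivial M] in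
theorem coe_XΓ {e z : V} (he : Q e = 0) (hz : polar Q e z = 0) : (XΓ R e z).1 = X R e z := by
  rw [XΓ, dif_pos ⟨he, hz⟩]

/-- The spin group has equivariant lifts. -/
noncomputable def sys : Sys Q (spin R) where
  σ := π R
  Λ := XΓ R
  map_Λ e z he hz := orth_ext fun x => π_eq R _ (by rw [coe_XΓ R he hz]; exact moves_X R he hz x)
  add e z z' he hz hz' := by
    have hs : polar Q e (z + z') = 0 := by rw [polar_add_right, hz, hz', add_zero]
    refine Subtype.ext (Units.ext ?_)
    rw [Subgroup.coe_mul, Units.val_mul, coe_XΓ R he hs, coe_XΓ R he hz, coe_XΓ R he hz',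
      (X_val R he hs).1, (X_val R he hz).1, (X_val R he hz').1, map_add]
    simp only [mul_add, add_mul, mul_one, one_mul, mul_ze R he hz', add_zero]
    abel
  conj δ e z he hz := by
    have he' : Q ((π R δ).1 e) = 0 := by rw [OrthUnitaryQuad.map_orth, he]
    have hz' : polar Q ((π R δ).1 e) ((π R δ).1 z) = 0 := by rw [polar_orth, hz]
    refine Subtype.ext (Units.ext ?_)
    rw [Subgroup.coe_mul, Subgroup.coe_mul, Subgroup.coe_inv, Units.val_mul, Units.val_mul,
      coe_XΓ R he hz, coe_XΓ R he' hz', (X_val R he hz).1, (X_val R he' hz').1,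
      ← π_moves R δ z, ← π_moves R δ e]
    simp [mul_add, add_mul, mul_assoc]
  smul t e z he hz := by
    have h1 : Q (t • e) = 0 := by rw [QuadraticMap.map_smul, he, smul_zero]
    have h2 : polar Q (t • e) z = 0 := by rw [polar_smul_left, hz, smul_zero]
    have h3 : polar Q e (t • z) = 0 := by rw [polar_smul_right, hz, smul_zero]
    refine Subtype.ext (Units.ext ?_)
    rw [coe_XΓ R h1 h2, coe_XΓ R he h3, (X_val R h1 h2).1, (X_val R he h3).1, map_smul, map_smul,
      mul_smul_comm, smul_mul_assoc]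
  shift t e z he hz := by
    have h1 : polar Q e (z + t • e) = 0 := by
      rw [polar_add_right, polar_smul_right, polar_self_mul, he, hz]; simp
    refine Subtype.ext (Units.ext ?_)
    rw [coe_XΓ R he h1, coe_XΓ R he hz, (X_val R he h1).1, (X_val R he hz).1, map_add, map_smul,
      add_mul, smul_mul_assoc, R.sq, he, zero_smul, smul_zero, add_zero]
  symm e w he hw h := by
    have h' : polar Q w e = 0 := by rw [polar_comm, h]
    have h'' : polar Q e (-w) = 0 := by rw [polar_neg_right, h, neg_zero]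
    refine Subtype.ext (Units.ext ?_)
    rw [coe_XΓ R hw h', coe_XΓ R he h'', (X_val R hw h').1, (X_val R he h'').1, map_neg, neg_mul,
      (ze_sq R he h).2]
  gen := by
    rw [eq_top_iff, ← Subgroup.map_le_map_iff_of_injective (f := (spin R).subtype) Subtype.val_injective,
      ← MonoidHom.range_eq_map, Subgroup.range_subtype, MonoidHom.map_closure]
    refine (Subgroup.closure_le _).2 ?_
    rintro _ ⟨e, z, he, hz, rfl⟩
    exact Subgroup.subset_closure ⟨XΓ R e z, ⟨e, z, he, hz, rfl⟩, coe_XΓ R he hz⟩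

instance : Finite (Module.End F M) := Finite.of_injective _ DFunLike.coe_injective

theorem perfect : commutator (spin R) = ⊤ :=
  OrthStemRestrict.perfect (sys R) R.nd (by have := R.dim; omega)

theorem range_π : (π R).range = commutator (orth Q) := by
  have := R.dim
  rw [OrthUnitarySimple.commutator_eq_sGroup R.nd (by omega)]
  exact OrthStemRestrict.range_eq (sys R) R.nd (by omega)

omit [Fintype F] [Finite M] in
/-- The conjugation by a vector. -/
theorem exists_vecUnit {y : V} (hy : Q y ≠ 0) :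
    ∃ Y : (Module.End F M)ˣ, (Y : Module.End F M) = R.ρ y ∧
      ((Y⁻¹ : (Module.End F M)ˣ) : Module.End F M) = (Q y)⁻¹ • R.ρ y ∧
      ∀ v, (Y : Module.End F M) * R.ρ v * ((Y⁻¹ : (Module.End F M)ˣ) : Module.End F M) =
        -R.ρ ((refl Q y hy).1 v) := by
  refine ⟨⟨R.ρ y, (Q y)⁻¹ • R.ρ y, by rw [mul_smul_comm, R.sq, smul_smul, inv_mul_cancel₀ hy, one_smul],
    by rw [smul_mul_assoc, R.sq, smul_smul, inv_mul_cancel₀ hy, one_smul]⟩, rfl, rfl, fun v => ?_⟩
  show R.ρ y * R.ρ v * ((Q y)⁻¹ • R.ρ y) = _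
  have h : R.ρ y * R.ρ v = polar Q y v • 1 - R.ρ v * R.ρ y := eq_sub_of_add_eq (anti R y v)
  rw [h, sub_mul, smul_mul_assoc, one_mul, mul_assoc, mul_smul_comm, R.sq, smul_smul (Q y)⁻¹,
    inv_mul_cancel₀ hy, one_smul, mul_one, refl_apply, map_sub, map_smul, neg_sub, smul_smul,
    mul_comm (polar Q y v)]

/-- Products of two vectors of equal value. -/
theorem exists_pairElem {x y : V} (hx : Q x ≠ 0) (hxy : Q x = Q y) :
    ∃ r : spin R, (r.1 : Module.End F M) = (Q x)⁻¹ • (R.ρ x * R.ρ y) ∧
      π R r = refl Q x hx * refl Q y (hxy ▸ hx) := by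
  have hy : Q y ≠ 0 := hxy ▸ hx
  obtain ⟨g, hg, hgy⟩ := OrthUnitarySimple.exists_move_norm R.nd (by have := R.dim; omega) hy hxy.symm
  obtain ⟨γ, hγ⟩ : g ∈ (π R).range := by
    have := R.dim
    rw [range_π, OrthUnitarySimple.commutator_eq_sGroup R.nd (by omega)]; exact hg
  obtain ⟨Y, hY, hY', hYc⟩ := exists_vecUnit R hy
  obtain ⟨X', hX, hX', hXc⟩ := exists_vecUnit R hx
  have hN : ∀ s ∈ spin R, Y * s * Y⁻¹ ∈ spin R := by
    have hle : spin R ≤ (spin R).comap (MulAut.conj Y).toMonoidHom := by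
      refine (Subgroup.closure_le _).2 ?_
      rintro _ ⟨e, z, he, hz, rfl⟩
      show Y * X R e z * Y⁻¹ ∈ spin R
      have he' : Q ((refl Q y hy).1 e) = 0 := by rw [OrthUnitaryQuad.map_orth, he]
      have hz' : polar Q ((refl Q y hy).1 e) ((refl Q y hy).1 z) = 0 := by rw [polar_orth, hz]
      refine Subgroup.subset_closure ⟨_, _, he', hz', Units.ext ?_⟩
      have h2 : R.ρ ((refl Q y hy).1 z) * R.ρ ((refl Q y hy).1 e) =
          (Y : Module.End F M) * R.ρ z * ((Y⁻¹ : (Module.End F M)ˣ) : Module.End F M) *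
            ((Y : Module.End F M) * R.ρ e * ((Y⁻¹ : (Module.End F M)ˣ) : Module.End F M)) := by
        rw [hYc z, hYc e, neg_mul_neg]
      rw [Units.val_mul, Units.val_mul, (X_val R he hz).1, (X_val R he' hz').1, h2]
      simp [mul_add, add_mul, mul_assoc]
    exact fun s hs => hle hs
  have hmem : γ.1 * (Y * γ.1⁻¹ * Y⁻¹) ∈ spin R :=
    mul_mem γ.2 (hN _ (inv_mem γ.2))
  have hconj : (γ.1 : Module.End F M) * R.ρ y * ((γ.1⁻¹ : (Module.End F M)ˣ) : Module.End F M) = R.ρ x := by
    have h := π_moves R γ y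
    rw [hγ, hgy] at h
    exact h
  have hval : ((γ.1 * (Y * γ.1⁻¹ * Y⁻¹) : (Module.End F M)ˣ) : Module.End F M) =
      (Q x)⁻¹ • (R.ρ x * R.ρ y) := by
    rw [Units.val_mul, Units.val_mul, Units.val_mul, hY, hY', ← hconj, ← hxy, mul_smul_comm,
      mul_smul_comm]
    simp [mul_assoc]
  refine ⟨⟨_, hmem⟩, hval, orth_ext fun v => π_eq R _ ?_⟩
  have hu : γ.1 * (Y * γ.1⁻¹ * Y⁻¹) = X' * Y⁻¹ := by
    refine Units.ext ?_
    rw [hval, Units.val_mul, hX, hY', hxy, mul_smul_comm]
  show ((γ.1 * (Y * γ.1⁻¹ * Y⁻¹) : (Module.End F M)ˣ) : Module.End F M) * R.ρ v *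
      (((γ.1 * (Y * γ.1⁻¹ * Y⁻¹))⁻¹ : (Module.End F M)ˣ) : Module.End F M) = _
  rw [hu, orth_mul_apply, mul_inv_rev, inv_inv, Units.val_mul, Units.val_mul]
  have h1 : ((Y⁻¹ : (Module.End F M)ˣ) : Module.End F M) * R.ρ v * (Y : Module.End F M) =
      -R.ρ ((refl Q y hy).1 v) := by
    rw [← hYc v, hY, hY']
    simp [smul_mul_assoc, mul_smul_comm, mul_assoc]
  calc (X' : Module.End F M) * ((Y⁻¹ : (Module.End F M)ˣ) : Module.End F M) * R.ρ v *
        ((Y : Module.End F M) * ((X'⁻¹ : (Module.End F M)ˣ) : Module.End F M))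
      = (X' : Module.End F M) * (((Y⁻¹ : (Module.End F M)ˣ) : Module.End F M) * R.ρ v * (Y : Module.End F M)) *
          ((X'⁻¹ : (Module.End F M)ˣ) : Module.End F M) := by simp [mul_assoc]
    _ = _ := by rw [h1, mul_neg, neg_mul, hXc, neg_neg]

/-- `-1` lies in the spin group. -/
theorem exists_neg_one : ∃ ζ : spin R, (ζ.1 : Module.End F M) = -1 ∧ π R ζ = 1 := by
  have := R.dim
  obtain ⟨x, -, hx⟩ := OrthStemCover.exists_value (s := (1 : F)) (nd_top R.nd) (by rw [finrank_top]; omega)
  obtain ⟨r, hr, hπ⟩ := exists_pairElem R (x := x) (y := -x) (by rw [hx]; exact one_ne_zero)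
    (by rw [QuadraticMap.map_neg])
  refine ⟨r, ?_, ?_⟩
  · rw [hr, hx, inv_one, one_smul, map_neg, mul_neg, R.sq, hx, one_smul]
  · refine orth_ext fun v => ?_
    show (π R r).1 v = v
    refine π_eq R r ?_
    show (r.1 : Module.End F M) * R.ρ v * ((r.1⁻¹ : (Module.End F M)ˣ) : Module.End F M) = R.ρ v
    have h1 : (r.1 : Module.End F M) = -1 := by
      rw [hr, hx, inv_one, one_smul, map_neg, mul_neg, R.sq, hx, one_smul]
    rw [show ((r.1⁻¹ : (Module.End F M)ˣ) : Module.End F M) = -1 from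
      Units.inv_eq_of_mul_eq_one_right (by rw [h1, neg_mul_neg, one_mul]), h1]
    simp

omit [Fintype F] [FiniteDimensional F V] [Finite M] [Nontrivial M] in
theorem end_neg_one_ne (R : Data Q M) [Nontrivial M] : (-1 : Module.End F M) ≠ 1 := fun h => by
  have h' : ((-1 : F) - 1) • (1 : Module.End F M) = 0 := by rw [sub_smul, neg_smul, one_smul, h, sub_self]
  exact R.h2 (by linear_combination -(smul_one_inj h'))

/-- The kernel is `{1, -1}`. -/
theorem ker_cases : (∀ g, π R g = 1 → (g.1 : Module.End F M) = 1 ∨ (g.1 : Module.End F M) = -1) ∧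
    Nat.card (π R).ker = 2 := by
  classical
  obtain ⟨ζ, hζ, hπ⟩ := exists_neg_one R
  have hle : Nat.card (π R).ker ≤ 2 := OrthStemOdd.card_ker_le_two R.h2 (sys R) R.nd R.dim
  have hne : (⟨ζ, MonoidHom.mem_ker.2 hπ⟩ : (π R).ker) ≠ 1 := fun h => end_neg_one_ne R (by
    rw [← hζ]; exact congrArg (fun g : (π R).ker => (g.1.1 : Module.End F M)) h)
  have hcard : Nat.card (π R).ker = 2 := by
    refine le_antisymm hle ?_
    have : Nontrivial (π R).ker := ⟨_, _, hne⟩
    exact Finite.one_lt_card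
  refine ⟨fun g hg => ?_, hcard⟩
  by_cases h1 : (⟨g, MonoidHom.mem_ker.2 hg⟩ : (π R).ker) = 1
  · exact Or.inl (congrArg (fun g : (π R).ker => (g.1.1 : Module.End F M)) h1)
  · right
    have := ((Nat.card_eq_two_iff' (1 : (π R).ker)).1 hcard).unique h1 hne
    rw [← hζ]
    exact congrArg (fun g : (π R).ker => (g.1.1 : Module.End F M)) this

end Cfsg.Agent.OrthStemSpin
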