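import Cfsg.Agent.Lib.OrthStemSys
import Cfsg.Agent.Lib.OrthStemLifts
import Mathlib

/-!
A group with equivariant lifts of Siegel transformations, acting on the cosets of the lifted stabiliser of
a singular vector, covers the singular vectors once: the kernel lies over the orthogonal group of a
smaller space.
-/

set_option autoImplicit false

namespace Cfsg.Agent.OrthStemStep

open QuadraticMap
open Cfsg.Agent.OrthUnitaryQuad Cfsg.Agent.OrthUnitaryRefl Cfsg.Agent.OrthUnitaryOmega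
open Cfsg.Agent.OrthStemGeom Cfsg.Agent.OrthStemSys Cfsg.Agent.OrthStemLifts

universe uF uV uD uX

variable {F : Type uF} {V : Type uV} [Field F] [AddCommGroup V] [Module F V]
  {Q : QuadraticForm F V} {Δ : Type uD} [Group Δ] (Y : Sys Q Δ)

/-- The lifts of the Siegel transformations inside a subspace. -/
def subgroupOf (W : Submodule F V) : Subgroup Δ :=
  Subgroup.closure {δ | ∃ u d, u ∈ W ∧ d ∈ W ∧ Q u = 0 ∧ polar Q u d = 0 ∧ δ = Y.Λ u d}

theorem subgroupOf_fix {W : Submodule F V} {x : V} (hx : ∀ y ∈ W, polar Q y x = 0) {δ : Δ}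
    (hδ : δ ∈ subgroupOf Y W) : (Y.σ δ).1 x = x := by
  induction hδ using Subgroup.closure_induction with
  | mem δ hδ =>
    obtain ⟨u, d, hu, hd, hQu, hud, rfl⟩ := hδ
    rw [Y.map_Λ u d hQu hud, S_fix hQu hud (hx u hu) (hx d hd)]
  | one => rw [map_one]; rfl
  | mul a b _ _ ha hb => rw [map_mul, orth_mul_apply, hb, ha]
  | inv a _ ha =>
    rw [map_inv]
    conv_lhs => rw [← ha, ← orth_mul_apply, inv_mul_cancel]
    rfl

/-- The lift of the stabiliser of a vector. -/
def stab (e : V) : Subgroup Δ :=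
  Subgroup.closure {δ | ∃ u d, Q u = 0 ∧ polar Q u d = 0 ∧ polar Q e u = 0 ∧ polar Q e d = 0 ∧
    δ = Y.Λ u d}

section Stab

variable {e f : V} (he : Q e = 0) (hf : Q f = 0) (hef : polar Q e f = 1)

include he hf hef in
theorem split_stab (hnd : (polarBilin Q).Nondegenerate) {g : Δ} (hg : g ∈ stab Y e) :
    ∃ c l, polar Q e c = 0 ∧ l ∈ subgroupOf Y (split Q ⊤ e f) ∧ g = Y.Λ e c * l := by
  set V₀ := split Q ⊤ e f
  have hV0 : ∀ y ∈ V₀, polar Q e y = 0 ∧ polar Q f y = 0 := fun y hy => (mem_split.1 hy).2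
  have hee : polar Q e e = 0 := by rw [polar_self_mul, he, mul_zero]
  have hl : ∀ l ∈ subgroupOf Y V₀, (Y.σ l).1 e = e ∧ (Y.σ l).1 f = f := fun l hl =>
    ⟨subgroupOf_fix Y (fun y hy => by rw [polar_comm]; exact (hV0 y hy).1) hl,
      subgroupOf_fix Y (fun y hy => by rw [polar_comm]; exact (hV0 y hy).2) hl⟩
  have hswap : ∀ l ∈ subgroupOf Y V₀, ∀ c, polar Q e c = 0 →
      l * Y.Λ e c * l⁻¹ = Y.Λ e ((Y.σ l).1 c) ∧ polar Q e ((Y.σ l).1 c) = 0 := by
    intro l hll c hc
    refine ⟨by rw [Y.conj l e c he hc, (hl l hll).1], ?_⟩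
    have := polar_orth (Y.σ l) e c
    rwa [(hl l hll).1, hc] at this
  have hone : ∀ c, polar Q e c = 0 → ∃ c' l, polar Q e c' = 0 ∧ l ∈ subgroupOf Y V₀ ∧
      Y.Λ e c = Y.Λ e c' * l := fun c hc => ⟨c, 1, hc, one_mem _, (mul_one _).symm⟩
  induction hg using Subgroup.closure_induction with
  | mem g hg =>
    obtain ⟨u, d, hu, hud, heu, hed, rfl⟩ := hg
    obtain ⟨α, β', u₀, hu₀, rfl⟩ :=
      exists_split_eq (W := ⊤) Submodule.mem_top Submodule.mem_top he hf hef (Submodule.mem_top (x := u))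
    obtain ⟨β, δ', d₀, hd₀, rfl⟩ :=
      exists_split_eq (W := ⊤) Submodule.mem_top Submodule.mem_top he hf hef (Submodule.mem_top (x := d))
    obtain ⟨heu₀, hfu₀⟩ := hV0 u₀ hu₀
    obtain ⟨hed₀, hfd₀⟩ := hV0 d₀ hd₀
    have hβ' : β' = 0 := by simpa [polar_add_right, polar_smul_right, hee, hef, heu₀] using heu
    have hδ' : δ' = 0 := by simpa [polar_add_right, polar_smul_right, hee, hef, hed₀] using hed
    subst hβ' hδ'
    simp only [zero_smul, add_zero] at hu hud heu hed ⊢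
    have hue : polar Q u₀ e = 0 := by rw [polar_comm, heu₀]
    have hde : polar Q d₀ e = 0 := by rw [polar_comm, hed₀]
    have hQu₀ : Q u₀ = 0 := by
      simpa [QuadraticMap.map_add (⇑Q), QuadraticMap.map_smul, he, polar_smul_left, heu₀] using hu
    have hud₀ : polar Q u₀ d₀ = 0 := by
      simpa [polar_add_left, polar_add_right, polar_smul_left, polar_smul_right, hee, heu₀, hed₀, hue]
        using hud
    by_cases hu0 : u₀ = 0
    · subst hu0
      rw [add_zero, Y.smul α e _ he hed]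
      exact hone _ (by rw [polar_smul_right, hed, smul_zero])
    · -- move `u₀` by an element of the radical
      have hn0 := Nd.split (W := (⊤ : Submodule F V)) Submodule.mem_top Submodule.mem_top he hf hef
        (nd_top hnd)
      obtain ⟨c₁, hc₁, hc₁u⟩ := hn0.exists_ne hu₀ hu0
      set c := (-α) • c₁ with hcdef
      have hcu : polar Q c u₀ = -α := by
        rw [hcdef, polar_smul_left, polar_comm, hc₁u]; simp
      obtain ⟨hec, hfc⟩ := hV0 c (Submodule.smul_mem _ _ hc₁)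
      have hce : polar Q c e = 0 := by rw [polar_comm, hec]
      set γ := β + polar Q c d₀
      have e1 : (S Q e c).1 u₀ = α • e + u₀ := by rw [S_apply he hec, heu₀, hcu]; module
      have e2 : (S Q e c).1 (d₀ + γ • e) = β • e + d₀ := by
        rw [S_apply he hec, polar_add_right, polar_add_right, polar_smul_right, polar_smul_right, hee,
          hed₀, hce]
        simp only [smul_zero, add_zero, zero_smul, mul_zero, γ]
        module
      have hud' : polar Q u₀ (d₀ + γ • e) = 0 := by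
        rw [polar_add_right, polar_smul_right, hud₀, hue, smul_zero, add_zero]
      have hQγ : Q (γ • e) = 0 := by rw [QuadraticMap.map_smul, he, smul_zero]
      have hγu : polar Q (γ • e) u₀ = 0 := by rw [polar_smul_left, heu₀, smul_zero]
      have hrest : Y.Λ u₀ (γ • e) = Y.Λ e (γ • (-u₀)) := by
        rw [Y.symm (γ • e) u₀ hQγ hQu₀ hγu, Y.smul γ e (-u₀) he (by rw [polar_neg_right, heu₀, neg_zero])]
      have hkey : Y.Λ (α • e + u₀) (β • e + d₀) =
          Y.Λ e c * (Y.Λ u₀ d₀ * Y.Λ e (γ • (-u₀))) * (Y.Λ e c)⁻¹ := by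
        rw [← hrest, ← Y.add u₀ d₀ _ hQu₀ hud₀ (by rw [polar_smul_right, hue, smul_zero]),
          Y.conj _ _ _ hQu₀ hud', Y.map_Λ e c he hec, e1, e2]
      have hl0 : Y.Λ u₀ d₀ ∈ subgroupOf Y V₀ :=
        Subgroup.subset_closure ⟨u₀, d₀, hu₀, hd₀, hQu₀, hud₀, rfl⟩
      have hq1 : polar Q e (γ • (-u₀)) = 0 := by
        rw [polar_smul_right, polar_neg_right, heu₀, neg_zero, smul_zero]
      have hnc : polar Q e (-c) = 0 := by rw [polar_neg_right, hec, neg_zero]
      obtain ⟨s1, p1⟩ := hswap _ hl0 _ hq1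
      obtain ⟨s2, p2⟩ := hswap _ hl0 _ hnc
      refine ⟨c + ((Y.σ (Y.Λ u₀ d₀)).1 (γ • (-u₀)) + (Y.σ (Y.Λ u₀ d₀)).1 (-c)), Y.Λ u₀ d₀,
        by rw [polar_add_right, polar_add_right, hec, p1, p2]; simp, hl0, ?_⟩
      rw [hkey, Y.add e c _ he hec (by rw [polar_add_right, p1, p2, add_zero]), Y.add e _ _ he p1 p2,
        ← s1, ← s2, Y.inv he hec]
      group
  | one => exact ⟨0, 1, polar_zero_right Q e, one_mem _, by rw [Y.zero he, one_mul]⟩
  | mul a b _ _ ha hb =>
    obtain ⟨c, l, hc, hll, rfl⟩ := ha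
    obtain ⟨c', l', hc', hll', rfl⟩ := hb
    obtain ⟨h1, h2⟩ := hswap l hll c' hc'
    refine ⟨c + (Y.σ l).1 c', l * l', by rw [polar_add_right, hc, h2, add_zero], mul_mem hll hll', ?_⟩
    rw [Y.add e c _ he hc h2, ← h1]
    group
  | inv a _ ha =>
    obtain ⟨c, l, hc, hll, rfl⟩ := ha
    have hnc : polar Q e (-c) = 0 := by rw [polar_neg_right, hc, neg_zero]
    obtain ⟨h1, h2⟩ := hswap l⁻¹ (inv_mem hll) (-c) hnc
    refine ⟨(Y.σ l⁻¹).1 (-c), l⁻¹, h2, inv_mem hll, ?_⟩
    rw [← h1, ← Y.inv he hc]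
    group

include he hf hef in
theorem mem_of_stab (hnd : (polarBilin Q).Nondegenerate) {g : Δ} (hg : g ∈ stab Y e) (h1 : Y.σ g = 1) :
    g ∈ subgroupOf Y (split Q ⊤ e f) := by
  obtain ⟨c, l, hc, hl, rfl⟩ := split_stab Y he hf hef hnd hg
  have h2 := congrArg (fun x : orth Q => x.1 f) h1
  simp only [map_mul, orth_mul_apply] at h2
  rw [subgroupOf_fix Y (fun y hy => by rw [polar_comm]; exact (mem_split.1 hy).2.2) hl,
    Y.map_Λ e c he hc, S_apply he hc, hef] at h2
  have h4 : f + (1 : F) • c - (polar Q c f + Q c * 1) • e = f := h2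
  have h3 : c = 0 + (polar Q c f + Q c) • e := by
    rw [one_smul, mul_one, add_sub_assoc, add_eq_left, sub_eq_zero] at h4
    rw [zero_add]; exact h4
  rw [h3, Y.shift _ e 0 he (polar_zero_right Q e), Y.zero he, one_mul]
  exact hl

end Stab

theorem Pair.smul_left {a b : V} (h : Pair Q a b) {t : F} (ht : t ≠ 0) : Pair Q a (t • b) :=
  ⟨h.hu, by rw [QuadraticMap.map_smul, h.hw, smul_zero], by rw [polar_smul_right, h.huw, smul_zero],
    fun α β e => by
      obtain ⟨ha, hb⟩ := h.ind α (β * t) (by rw [mul_smul]; exact e)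
      exact ⟨ha, (mul_eq_zero.1 hb).resolve_right ht⟩⟩

theorem Pair.map_orth {a b : V} (h : Pair Q a b) (g : orth Q) : Pair Q (g.1 a) (g.1 b) :=
  ⟨by rw [OrthUnitaryQuad.map_orth g, h.hu], by rw [OrthUnitaryQuad.map_orth g, h.hw],
    by rw [polar_orth g, h.huw], fun α β e => by
    rw [← map_smul, ← map_smul, ← map_add, LinearEquiv.map_eq_zero_iff] at e
    exact h.ind α β e⟩

/-! ### Paths between singular vectors -/

/-- Independent orthogonal singular vectors. -/
def Adj (a b : V) : Prop := Pair Q a b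

section Paths

variable {X : Type uX} [MulAction Δ X]

/-- The lifts fixing `a` fix `x`. -/
def Good (a : V) (x : X) : Prop :=
  ∀ u d, Q u = 0 → polar Q u d = 0 → polar Q a u = 0 → polar Q a d = 0 → Y.Λ u d • x = x

/-- `y` is the translate of `x` by a lift moving `a` to `v`. -/
def Sect (a : V) (x : X) (v : V) (y : X) : Prop :=
  ∃ w, polar Q w a = -1 ∧ polar Q w v = -1 ∧ y = Y.Λ (v - a) w • x

theorem diff_facts {a v : V} (h : Pair Q a v) {w : V} (h1 : polar Q w a = -1) (h2 : polar Q w v = -1) :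
    Q (v - a) = 0 ∧ polar Q (v - a) w = 0 ∧ polar Q a (v - a) = 0 ∧ polar Q v (v - a) = 0 := by
  have haa : polar Q a a = 0 := by rw [polar_self_mul, h.hu, mul_zero]
  have hvv : polar Q v v = 0 := by rw [polar_self_mul, h.hw, mul_zero]
  refine ⟨?_, ?_, by rw [polar_sub_right, h.huw, haa, sub_zero],
    by rw [polar_sub_right, hvv, polar_comm, h.huw, sub_zero]⟩
  · rw [sub_eq_add_neg, QuadraticMap.map_add (⇑Q), QuadraticMap.map_neg, h.hu, h.hw, polar_neg_right,
      polar_comm, h.huw]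
    simp
  · rw [polar_comm, polar_sub_right, h1, h2, sub_self]

theorem sect_move {a v : V} (h : Pair Q a v) {w : V} (h1 : polar Q w a = -1) (h2 : polar Q w v = -1) :
    (Y.σ (Y.Λ (v - a) w)).1 a = v := by
  obtain ⟨q1, q2, q3, -⟩ := diff_facts h h1 h2
  rw [Y.map_Λ _ _ q1 q2, S_apply q1 q2, polar_comm Q (v - a) a, q3, h1]
  module

theorem sect_unique {a v : V} {x y y' : X} (hx : Good Y a x) (h : Pair Q a v) (hy : Sect Y a x v y)
    (hy' : Sect Y a x v y') : y = y' := by
  obtain ⟨w, h1, h2, rfl⟩ := hy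
  obtain ⟨w', h1', h2', rfl⟩ := hy'
  obtain ⟨q1, q2, q3, -⟩ := diff_facts h h1 h2
  obtain ⟨-, q2', -, -⟩ := diff_facts h h1' h2'
  have hd : polar Q (v - a) (w' - w) = 0 := by rw [polar_sub_right, q2', q2, sub_zero]
  have hfix := hx (v - a) (w' - w) q1 hd q3 (by rw [polar_comm, polar_sub_left, h1', h1, sub_self])
  conv_rhs => rw [show w' = w + (w' - w) by abel, Y.add _ _ _ q1 q2 hd, mul_smul, hfix]

theorem good_conj {a : V} {x : X} (hx : Good Y a x) (δ : Δ) : Good Y ((Y.σ δ).1 a) (δ • x) := by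
  intro u d hu hud hau had
  set g := (Y.σ δ)⁻¹ with hg
  have hga : g.1 ((Y.σ δ).1 a) = a := by rw [hg, ← orth_mul_apply, inv_mul_cancel]; rfl
  have e := Y.conj δ⁻¹ u d hu hud
  rw [inv_inv, map_inv] at e
  have h1 := hx _ _ (by rw [map_orth g, hu]) (by rw [polar_orth g, hud])
    (by rw [← hga, polar_orth g, hau]) (by rw [← hga, polar_orth g, had])
  rw [← e, mul_smul, mul_smul, inv_smul_eq_iff] at h1
  exact h1

theorem sect_good {a v : V} {x y : X} (hx : Good Y a x) (h : Pair Q a v) (hy : Sect Y a x v y) :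
    Good Y v y := by
  obtain ⟨w, h1, h2, rfl⟩ := hy
  have := good_conj Y hx (Y.Λ (v - a) w)
  rwa [sect_move Y h h1 h2] at this

theorem sect_equiv {a v : V} {x y : X} (h : Pair Q a v) (hy : Sect Y a x v y) (δ : Δ) :
    Sect Y ((Y.σ δ).1 a) (δ • x) ((Y.σ δ).1 v) (δ • y) := by
  obtain ⟨w, h1, h2, rfl⟩ := hy
  obtain ⟨q1, q2, -, -⟩ := diff_facts h h1 h2
  refine ⟨(Y.σ δ).1 w, by rw [polar_orth, h1], by rw [polar_orth, h2], ?_⟩
  rw [← map_sub, ← Y.conj δ _ _ q1 q2, ← mul_smul, ← mul_smul, inv_mul_cancel_right]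

theorem sect_symm {a v : V} {x y : X} (h : Pair Q a v) (hy : Sect Y a x v y) : Sect Y v y a x := by
  obtain ⟨w, h1, h2, rfl⟩ := hy
  obtain ⟨q1, q2, -, -⟩ := diff_facts h h1 h2
  refine ⟨w, h2, h1, ?_⟩
  rw [← neg_sub v a, ← neg_one_smul F, Y.smul _ _ _ q1 q2, neg_one_smul, ← Y.inv q1 q2, inv_smul_smul]

variable (hnd : (polarBilin Q).Nondegenerate) [FiniteDimensional F V]

include hnd in
theorem exists_w {a b v : V} (ha : Q a = 0) (hab : polar Q a b = 0) (hav : polar Q a v = 0)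
    (hind : ∀ α β γ : F, α • a + β • b + γ • v = 0 → α = 0 ∧ β = 0 ∧ γ = 0) :
    ∃ w, Q w = 0 ∧ polar Q w a = -1 ∧ polar Q w b = -1 ∧ polar Q w v = -1 := by
  have n1 : a ∉ Submodule.span F {b, v} := by
    rw [Submodule.mem_span_pair]
    rintro ⟨c, d, he⟩
    exact one_ne_zero (hind 1 (-c) (-d) (by rw [← he]; module)).1
  have n2 : b ∉ Submodule.span F {a, v} := by
    rw [Submodule.mem_span_pair]
    rintro ⟨c, d, he⟩
    exact one_ne_zero (hind (-c) 1 (-d) (by rw [← he]; module)).2.1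
  have n3 : v ∉ Submodule.span F {a, b} := by
    rw [Submodule.mem_span_pair]
    rintro ⟨c, d, he⟩
    exact one_ne_zero (hind (-c) (-d) 1 (by rw [← he]; module)).2.2
  obtain ⟨z1, hz1, k1⟩ := exists_perp hnd n1
  obtain ⟨z2, hz2, k2⟩ := exists_perp hnd n2
  obtain ⟨z3, hz3, k3⟩ := exists_perp hnd n3
  set w₀ := -(z1 + z2 + z3)
  have e1 : polar Q w₀ a = -1 := by
    simp [w₀, polar_add_left, k1, hz2 a (Submodule.subset_span (by simp)),
      hz3 a (Submodule.subset_span (by simp))]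
  have e2 : polar Q w₀ b = -1 := by
    simp [w₀, polar_add_left, k2, hz1 b (Submodule.subset_span (by simp)),
      hz3 b (Submodule.subset_span (by simp))]
  have e3 : polar Q w₀ v = -1 := by
    simp [w₀, polar_add_left, k3, hz1 v (Submodule.subset_span (by simp)),
      hz2 v (Submodule.subset_span (by simp))]
  refine ⟨w₀ + Q w₀ • a, ?_, ?_, ?_, ?_⟩
  · rw [QuadraticMap.map_add (⇑Q), QuadraticMap.map_smul, ha, polar_smul_right, e1]; simp
  · rw [polar_add_left, polar_smul_left, e1, polar_self_mul, ha]; simp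
  · rw [polar_add_left, polar_smul_left, e2, hab]; simp
  · rw [polar_add_left, polar_smul_left, e3, hav]; simp

include hnd in
theorem exists_sect {a v : V} (h : Pair Q a v) (x : X) : ∃ y, Sect Y a x v y := by
  obtain ⟨z1, hz1, k1⟩ := exists_perp hnd (U := Submodule.span F {v}) (x := a) (by
    have := h.notMem; rwa [sup_bot_eq] at this)
  obtain ⟨z2, hz2, k2⟩ := exists_perp hnd (U := Submodule.span F {a}) (x := v) (by
    have := h.symm.notMem; rwa [sup_bot_eq] at this)
  refine ⟨_, -(z1 + z2), ?_, ?_, rfl⟩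
  · simp [polar_add_left, k1, hz2 a (Submodule.mem_span_singleton_self a)]
  · simp [polar_add_left, k2, hz1 v (Submodule.mem_span_singleton_self v)]

include hnd in
theorem tri_indep {a b v : V} (hab : Pair Q a b) (hbv : Pair Q b v) (hav : Pair Q a v)
    (hind : ∀ α β γ : F, α • a + β • b + γ • v = 0 → α = 0 ∧ β = 0 ∧ γ = 0) {x y z : X}
    (hx : Good Y a x) (h1 : Sect Y a x b y) (h2 : Sect Y b y v z) : Sect Y a x v z := by
  obtain ⟨w, hw, wa, wb, wv⟩ := exists_w hnd hab.hu hab.huw hav.huw hind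
  have e1 := sect_unique Y hx hab h1 ⟨w, wa, wb, rfl⟩
  have e2 := sect_unique Y (sect_good Y hx hab h1) hbv h2 ⟨w, wb, wv, rfl⟩
  refine ⟨w, wa, wv, ?_⟩
  obtain ⟨p1, p2, -, -⟩ := diff_facts hbv wb wv
  obtain ⟨r1, r2, -, -⟩ := diff_facts hab wa wb
  obtain ⟨s1, s2, -, -⟩ := diff_facts hav wa wv
  have hflip : ∀ {u : V}, Q u = 0 → polar Q u w = 0 → Y.Λ u w = Y.Λ w (-u) := fun hu huw =>
    Y.symm w _ hw hu (by rw [polar_comm, huw])
  have hn : ∀ {u : V}, polar Q u w = 0 → polar Q w (-u) = 0 := fun huw => by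
    rw [polar_neg_right, polar_comm, huw, neg_zero]
  rw [e2, e1, ← mul_smul, hflip p1 p2, hflip r1 r2, hflip s1 s2, ← Y.add w _ _ hw (hn p2) (hn r2)]
  congr 2
  abel

end Paths

/-- Lifts on a collinear triangle compose. -/
def TriCol : Prop :=
  ∀ (X : Type uD) [MulAction Δ X] (a b v : V) (x y z : X), Pair Q a b → Pair Q b v → Pair Q a v →
    (∃ α β : F, v = α • a + β • b) → Good Y a x → Sect Y a x b y → Sect Y b y v z → Sect Y a x v z

theorem triCol_of_singular (hnd : (polarBilin Q).Nondegenerate) [FiniteDimensional F V]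
    (hs : ∀ a b : V, Pair Q a b → ∃ d, Pair Q a d ∧ Pair Q b d ∧
      ∀ α β γ : F, α • a + β • b + γ • d = 0 → α = 0 ∧ β = 0 ∧ γ = 0) :
    TriCol Y := by
  intro X _ a b v x y z hab hbv hav ⟨α, β, hv⟩ hx h1 h2
  obtain ⟨d, had, hbd, hind⟩ := hs a b hab
  have hα : α ≠ 0 := fun e => by
    rw [e, zero_smul, zero_add] at hv
    exact one_ne_zero (hbv.ind (-β) 1 (by rw [hv]; module)).2
  have hβ : β ≠ 0 := fun e => by
    rw [e, zero_smul, add_zero] at hv
    exact one_ne_zero (hav.ind (-α) 1 (by rw [hv]; module)).2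
  have hind₁ : ∀ p q r : F, p • b + q • d + r • v = 0 → p = 0 ∧ q = 0 ∧ r = 0 := fun p q r e => by
    obtain ⟨e1, e2, e3⟩ := hind (r * α) (p + r * β) q (by rw [← e, hv]; module)
    have hr : r = 0 := (mul_eq_zero.1 e1).resolve_right hα
    refine ⟨?_, e3, hr⟩
    rw [hr, zero_mul, add_zero] at e2
    exact e2
  have hind₂ : ∀ p q r : F, p • a + q • d + r • v = 0 → p = 0 ∧ q = 0 ∧ r = 0 := fun p q r e => by
    obtain ⟨e1, e2, e3⟩ := hind (p + r * α) (r * β) q (by rw [← e, hv]; module)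
    have hr : r = 0 := (mul_eq_zero.1 e2).resolve_right hβ
    refine ⟨?_, e3, hr⟩
    rw [hr, zero_mul, add_zero] at e1
    exact e1
  have hdv : Pair Q d v := ⟨had.hw, hav.hw, by
    rw [hv, polar_add_right, polar_smul_right, polar_smul_right, polar_comm, had.huw, polar_comm,
      hbd.huw]; simp, fun p q e => (hind₁ 0 p q (by rw [← e]; module)).2⟩
  obtain ⟨yd, hyd⟩ := exists_sect Y hnd had x
  have hy := sect_good Y hx hab h1
  obtain ⟨yd', hyd'⟩ := exists_sect Y hnd hbd y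
  have hcomp : Sect Y a x d yd' := tri_indep Y hnd hab hbd had hind hx h1 hyd'
  -- from `b` through `d` to `v`
  obtain ⟨z', hz'⟩ := exists_sect Y hnd hdv yd'
  have e : z = z' := sect_unique Y hy hbv h2 (tri_indep Y hnd hbd hdv hbv hind₁ hy hyd' hz')
  subst e
  exact tri_indep Y hnd had hdv hav hind₂ hx hcomp hz'

end Cfsg.Agent.OrthStemStep
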