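import Mathlib
import Cfsg.Agent.Lib.SymplecticAlt
import Cfsg.Agent.Lib.PrimeOrderModule84
import Cfsg.Agent.Lib.DecompPerm84
import Cfsg.Agent.Lib.SemisimpleConjGL

/-!
Invariant totally isotropic subspaces of semisimple isometries of alternating forms.
-/

set_option autoImplicit false

namespace Cfsg.Agent.SympIsoInvariant84

open Module Polynomial Cfsg.Agent.PrimeOrderModule84

variable {F V : Type*} [Field F] [AddCommGroup V] [Module F V] [FiniteDimensional F V]
  {B : LinearMap.BilinForm F V} {A : Module.End F V}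

/-- `B` is non-degenerate on `R`. -/
def ND (B : LinearMap.BilinForm F V) (R : Submodule F V) : Prop :=
  ∀ u ∈ R, (∀ v ∈ R, B u v = 0) → u = 0

/-- `W` is totally isotropic. -/
def TI (B : LinearMap.BilinForm F V) (W : Submodule F V) : Prop := ∀ u ∈ W, ∀ v ∈ W, B u v = 0

omit [FiniteDimensional F V] in
theorem swap (hB : ∀ v, B v v = 0) (u v : V) : B u v = - B v u := by
  have h := hB (u + v)
  simp only [map_add, LinearMap.add_apply, hB] at h
  linear_combination h

omit [FiniteDimensional F V] in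
theorem zero_comm (hB : ∀ v, B v v = 0) {u v : V} (h : B u v = 0) : B v u = 0 := by
  rw [swap hB v u, h, neg_zero]

omit [FiniteDimensional F V] in
theorem restrict_nondeg (hB : ∀ v, B v v = 0) {R : Submodule F V} (hR : ND B R) :
    (B.restrict R).Nondegenerate :=
  ⟨fun u h => Subtype.ext (hR u u.2 fun v hv => h ⟨v, hv⟩),
    fun u h => Subtype.ext (hR u u.2 fun v hv => zero_comm hB (h ⟨v, hv⟩))⟩

theorem finrank_orth (hB : ∀ v, B v v = 0) {R U : Submodule F V} (hR : ND B R) (hU : U ≤ R) :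
    finrank F ↥(R ⊓ B.orthogonal U) + finrank F ↥U = finrank F ↥R := by
  have hmap : ((B.restrict R).orthogonal (U.comap R.subtype)).map R.subtype = R ⊓ B.orthogonal U := by
    ext v
    constructor
    · rintro ⟨⟨x, hx⟩, h, rfl⟩
      exact ⟨hx, fun u hu => h ⟨u, hU hu⟩ hu⟩
    · rintro ⟨hv, h⟩
      exact ⟨⟨v, hv⟩, fun u hu => h u hu, rfl⟩
  have e1 : finrank F ↥(U.comap R.subtype) = finrank F ↥U :=
    (Submodule.comapSubtypeEquivOfLe hU).finrank_eq
  have h := LinearMap.BilinForm.finrank_orthogonal (restrict_nondeg hB hR) (U.comap R.subtype)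
  have hle := Submodule.finrank_mono hU
  rw [← hmap, Submodule.finrank_map_subtype_eq]
  omega

theorem two_mul_le (hB : ∀ v, B v v = 0) {R U : Submodule F V} (hR : ND B R) (hU : U ≤ R) (hT : TI B U) :
    2 * finrank F ↥U ≤ finrank F ↥R := by
  have h := finrank_orth hB hR hU
  have h2 : finrank F ↥U ≤ finrank F ↥(R ⊓ B.orthogonal U) :=
    Submodule.finrank_mono (le_inf hU fun v hv u hu => hT u hu v hv)
  omega

theorem even_of_nd (hB : ∀ v, B v v = 0) {R : Submodule F V} (hR : ND B R) : Even (finrank F ↥R) :=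
  SymplecticAlt.even_finrank B hB R hR

theorem map_eq (hAi : Function.Injective A) {U : Submodule F V} (hU : U.map A ≤ U) : U.map A = U :=
  Submodule.eq_of_le_of_finrank_eq hU ((Submodule.equivMapOfInjective A hAi U).finrank_eq).symm

theorem orth_invariant (hA : ∀ u v, B (A u) (A v) = B u v) (hAi : Function.Injective A)
    {U : Submodule F V} (hU : U.map A ≤ U) : (B.orthogonal U).map A ≤ B.orthogonal U := by
  rintro _ ⟨v, hv, rfl⟩ u hu
  rw [← map_eq hAi hU] at hu
  obtain ⟨w, hw, rfl⟩ := hu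
  show B (A w) (A v) = 0
  rw [hA]
  exact hv w hw

/-- Removing an invariant totally isotropic subspace. -/
theorem exists_reduct (hB : ∀ v, B v v = 0) (hA : ∀ u v, B (A u) (A v) = B u v) {r : ℕ} {z : F}
    (hr : (r : F) ≠ 0) (hz : z ≠ 0) (hAr : A ^ r = z • 1) (hAi : Function.Injective A)
    {R U : Submodule F V} (hR : ND B R) (hRi : R.map A ≤ R) (hUR : U ≤ R) (hUi : U.map A ≤ U)
    (hU : TI B U) :
    ∃ R', R' ≤ R ∧ R'.map A ≤ R' ∧ ND B R' ∧ finrank F ↥R' + 2 * finrank F ↥U = finrank F ↥R ∧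
      R' ⊓ U = ⊥ ∧ ∀ v ∈ R', ∀ u ∈ U, B u v = 0 := by
  set O := R ⊓ B.orthogonal U with hO
  have hOi : O.map A ≤ O := le_inf ((Submodule.map_mono inf_le_left).trans hRi)
    ((Submodule.map_mono inf_le_right).trans (orth_invariant hA hAi hUi))
  have hUO : U ≤ O := le_inf hUR fun v hv u hu => hU u hu v hv
  obtain ⟨C, hC, hCi⟩ := DecompPerm84.exists_invt_compl hr hz hAr hUi
  have hdisj : (C ⊓ O) ⊓ U = ⊥ := by
    rw [eq_bot_iff, ← hC.inf_eq_bot]
    exact fun v hv => ⟨hv.2, hv.1.1⟩
  have hsup : U ⊔ (C ⊓ O) = O := by rw [← sup_inf_assoc_of_le C hUO, hC.sup_eq_top, top_inf_eq]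
  have hdim : finrank F ↥(C ⊓ O : Submodule F V) + finrank F ↥U = finrank F ↥O := by
    have h := Submodule.finrank_sup_add_finrank_inf_eq U (C ⊓ O)
    rw [hsup, inf_comm, hdisj, finrank_bot] at h
    omega
  have hfin := finrank_orth hB hR hUR
  rw [← hO] at hfin
  refine ⟨C ⊓ O, inf_le_right.trans inf_le_left, le_inf ((Submodule.map_mono inf_le_left).trans hCi)
    ((Submodule.map_mono inf_le_right).trans hOi), ?_, by omega, hdisj, fun v hv u hu => hv.2.2 u hu⟩
  intro v hv h
  have hvO : ∀ w ∈ O, B w v = 0 := by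
    intro w hw
    rw [← hsup] at hw
    obtain ⟨a, ha, b, hb, rfl⟩ := Submodule.mem_sup.1 hw
    rw [map_add, LinearMap.add_apply, hv.2.2 a ha, zero_comm hB (h b hb), add_zero]
  have hvU : v ∈ U := by
    have h1 := finrank_orth hB hR (U := O) inf_le_left
    have hle : U ≤ R ⊓ B.orthogonal O := le_inf hUR fun u hu w hw => zero_comm hB (hw.2 u hu)
    have heq : U = R ⊓ B.orthogonal O := Submodule.eq_of_le_of_finrank_eq hle (by omega)
    rw [heq]
    exact ⟨hv.2.1, hvO⟩
  have : v ∈ (C ⊓ O) ⊓ U := ⟨hv, hvU⟩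
  rwa [hdisj, Submodule.mem_bot] at this

/-- Iterating one step. -/
theorem exists_iter (hB : ∀ v, B v v = 0) (hA : ∀ u v, B (A u) (A v) = B u v) {r : ℕ} {z : F}
    (hr : (r : F) ≠ 0) (hz : z ≠ 0) (hAr : A ^ r = z • 1) (hAi : Function.Injective A) {T : Submodule F V}
    {i N : ℕ}
    (step : ∀ R ≤ T, R.map A ≤ R → ND B R → N ≤ finrank F ↥R →
      ∃ U, U ≤ R ∧ U.map A ≤ U ∧ TI B U ∧ finrank F ↥U = i) :
    ∀ b : ℕ, ∀ R ≤ T, R.map A ≤ R → ND B R → (b = 0 ∨ 2 * i * (b - 1) + N ≤ finrank F ↥R) →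
      ∃ W, W ≤ R ∧ W.map A ≤ W ∧ TI B W ∧ finrank F ↥W = b * i := by
  intro b
  induction b with
  | zero =>
    intro R _ _ _ _
    exact ⟨⊥, bot_le, by simp, fun u hu v _ => by rw [(Submodule.mem_bot F).1 hu, map_zero, LinearMap.zero_apply],
      by simp⟩
  | succ b ih =>
    intro R hRT hRi hR hd
    replace hd : 2 * i * b + N ≤ finrank F ↥R := by
      rcases hd with h | h
      · omega
      · simpa using h
    obtain ⟨U, hUR, hUi, hU, hUd⟩ := step R hRT hRi hR (by omega)
    obtain ⟨R', hR'R, hR'i, hR', hR'd, hdisj, horth⟩ := exists_reduct hB hA hr hz hAr hAi hR hRi hUR hUi hU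
    obtain ⟨W, hW, hWi, hWT, hWd⟩ := ih R' (hR'R.trans hRT) hR'i hR' (by
      rcases Nat.eq_zero_or_pos b with h | h
      · exact Or.inl h
      · right
        obtain ⟨c, rfl⟩ : ∃ c, b = c + 1 := ⟨b - 1, by omega⟩
        rw [Nat.mul_add, Nat.mul_one] at hd
        simp only [Nat.add_sub_cancel]
        omega)
    refine ⟨U ⊔ W, sup_le hUR (hW.trans hR'R), by rw [Submodule.map_sup]; exact sup_le_sup hUi hWi, ?_, ?_⟩
    · intro u hu v hv
      obtain ⟨a, ha, c, hc, rfl⟩ := Submodule.mem_sup.1 hu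
      obtain ⟨a', ha', c', hc', rfl⟩ := Submodule.mem_sup.1 hv
      simp only [map_add, LinearMap.add_apply, hU a ha a' ha', hWT c hc c' hc', horth c' (hW hc') a ha,
        zero_comm hB (horth c (hW hc) a' ha'), add_zero]
    · have h := Submodule.finrank_sup_add_finrank_inf_eq U W
      have hb : U ⊓ W = ⊥ := by
        rw [eq_bot_iff, ← hdisj]
        exact fun v hv => ⟨hW hv.2, hv.1⟩
      rw [hb, finrank_bot, hUd, hWd] at h
      rw [Nat.succ_mul]
      omega

/-- The step for a scalar action. -/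
theorem step_scalar (hB : ∀ v, B v v = 0) {a : F} {R : Submodule F V} (hRa : ∀ v ∈ R, A v = a • v)
    (hd : 2 ≤ finrank F ↥R) : ∃ U, U ≤ R ∧ U.map A ≤ U ∧ TI B U ∧ finrank F ↥U = 1 := by
  have hne : R ≠ ⊥ := fun h => by rw [h, finrank_bot] at hd; omega
  obtain ⟨v, hv, hv0⟩ := Submodule.exists_mem_ne_zero_of_ne_bot hne
  refine ⟨F ∙ v, (Submodule.span_singleton_le_iff_mem _ _).2 hv, ?_, ?_, finrank_span_singleton hv0⟩
  · rw [Submodule.map_span, Set.image_singleton, Submodule.span_singleton_le_iff_mem, hRa v hv]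
    exact Submodule.smul_mem _ _ (Submodule.mem_span_singleton_self v)
  · intro x hx y hy
    obtain ⟨c, rfl⟩ := Submodule.mem_span_singleton.1 hx
    obtain ⟨d, rfl⟩ := Submodule.mem_span_singleton.1 hy
    simp [hB]

/-- Common zeros of quadratic functions. -/
theorem exists_common_zero [Fintype F] {ι : Type*} [Fintype ι] (C : ι → LinearMap.BilinForm F V)
    (R : Submodule F V) (h : 2 * Fintype.card ι < finrank F ↥R) :
    ∃ v ∈ R, v ≠ 0 ∧ ∀ j, C j v v = 0 := by
  classical
  obtain ⟨p, hp⟩ := CharP.exists F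
  have hpp : p.Prime := (CharP.char_is_prime_or_zero F p).resolve_right (CharP.char_ne_zero_of_finite F p)
  let b := Module.finBasis F ↥R
  let f : ι → MvPolynomial (Fin (finrank F ↥R)) F := fun j =>
    ∑ a, ∑ c, MvPolynomial.C (C j (b a : V) (b c : V)) * MvPolynomial.X a * MvPolynomial.X c
  have hdeg : ∀ j, (f j).totalDegree ≤ 2 := fun j => by
    refine (MvPolynomial.totalDegree_finset_sum _ _).trans (Finset.sup_le fun a _ => ?_)
    refine (MvPolynomial.totalDegree_finset_sum _ _).trans (Finset.sup_le fun c _ => ?_)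
    refine (MvPolynomial.totalDegree_mul _ _).trans ?_
    refine (Nat.add_le_add (MvPolynomial.totalDegree_mul _ _) le_rfl).trans ?_
    simp
  have heval : ∀ j (x : Fin (finrank F ↥R) → F), MvPolynomial.eval x (f j) =
      C j (∑ a, x a • (b a : V)) (∑ c, x c • (b c : V)) := fun j x => by
    simp only [f, map_sum, map_mul, MvPolynomial.eval_C, MvPolynomial.eval_X, LinearMap.sum_apply, map_smul,
      LinearMap.smul_apply, smul_eq_mul, Finset.mul_sum]
    rw [Finset.sum_comm]
    exact Finset.sum_congr rfl fun a _ => Finset.sum_congr rfl fun c _ => by ring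
  have hsum : (∑ j, (f j).totalDegree) < Fintype.card (Fin (finrank F ↥R)) := by
    refine lt_of_le_of_lt (Finset.sum_le_sum fun j _ => hdeg j) ?_
    rw [Finset.sum_const, Finset.card_univ, smul_eq_mul, Fintype.card_fin]
    omega
  have hdvd := char_dvd_card_solutions_of_fintype_sum_lt p hsum
  obtain ⟨⟨x, hx⟩, hx0⟩ : ∃ s : {x : Fin (finrank F ↥R) → F // ∀ j, MvPolynomial.eval x (f j) = 0},
      s.1 ≠ 0 := by
    by_contra hall
    push Not at hall
    have h1 : Fintype.card {x : Fin (finrank F ↥R) → F // ∀ j, MvPolynomial.eval x (f j) = 0} = 1 :=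
      Fintype.card_eq_one_iff.2 ⟨⟨0, fun j => by rw [heval]; simp⟩, fun s => Subtype.ext (hall s)⟩
    rw [h1, Nat.dvd_one] at hdvd
    exact hpp.ne_one hdvd
  have hmem : ∑ a, x a • (b a : V) = ((∑ a, x a • b a : ↥R) : V) := by simp
  refine ⟨∑ a, x a • (b a : V), by rw [hmem]; exact Submodule.coe_mem _, fun e => ?_,
    fun j => by rw [← heval]; exact hx j⟩
  rw [hmem, Submodule.coe_eq_zero] at e
  exact hx0 (funext fun a => Fintype.linearIndependent_iff.1 b.linearIndependent x e a)

omit [FiniteDimensional F V] in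
theorem pow_mem {R : Submodule F V} (hR : R.map A ≤ R) {v : V} (hv : v ∈ R) : ∀ k : ℕ, (A ^ k) v ∈ R
  | 0 => by simpa using hv
  | k + 1 => by
    rw [pow_succ', Module.End.mul_apply]
    exact map_le_iff'.1 hR _ (pow_mem hR hv k)

/-- The step for the square roots of a non-square. -/
theorem step_nonsquare [Fintype F] (hB : ∀ v, B v v = 0) (hA : ∀ u v, B (A u) (A v) = B u v)
    (hsq : ∀ v, A (A v) = -v) (hn1 : ∀ a : F, a * a ≠ -1) {R : Submodule F V} (hRi : R.map A ≤ R)
    (hd : 3 ≤ finrank F ↥R) : ∃ U, U ≤ R ∧ U.map A ≤ U ∧ TI B U ∧ finrank F ↥U = 2 := by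
  obtain ⟨v, hv, hv0, hz⟩ := exists_common_zero (fun _ : Unit => B.compl₂ A) R (by simp; omega)
  have hvA : B v (A v) = 0 := hz ()
  have hli : LinearIndependent F ![v, A v] := by
    rw [LinearIndependent.pair_iff' hv0]
    intro a ha
    have h := hsq v
    rw [← ha, map_smul, ← ha, smul_smul] at h
    have h2 : (a * a + 1) • v = 0 := by rw [add_smul, h, one_smul, neg_add_cancel]
    exact hn1 a (eq_neg_of_add_eq_zero_left ((smul_eq_zero.1 h2).resolve_right hv0))
  refine ⟨Submodule.span F (Set.range ![v, A v]), ?_, ?_, ?_, by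
    rw [finrank_span_eq_card hli, Fintype.card_fin]⟩
  · rw [Submodule.span_le]
    rintro _ ⟨k, rfl⟩
    fin_cases k
    · exact hv
    · exact map_le_iff'.1 hRi _ hv
  · rw [Submodule.map_span, Submodule.span_le]
    rintro _ ⟨_, ⟨k, rfl⟩, rfl⟩
    fin_cases k
    · exact Submodule.subset_span ⟨1, rfl⟩
    · show A (A v) ∈ _
      rw [hsq]
      exact Submodule.neg_mem _ (Submodule.subset_span ⟨0, rfl⟩)
  · intro x hx y hy
    rw [Matrix.range_cons, Matrix.range_cons, Matrix.range_empty, Set.union_empty, Set.singleton_union,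
      Submodule.mem_span_pair] at hx hy
    obtain ⟨a, c, rfl⟩ := hx
    obtain ⟨a', c', rfl⟩ := hy
    simp [hB, hvA, zero_comm hB hvA]

section Order

variable [Fintype F] {r : ℕ} [Fact r.Prime]

/-- Inside a non-zero invariant subspace there is one of dimension the order of `q`. -/
theorem exists_simple (hr : (r : F) ≠ 0) (hAr : A ^ r = 1) {W : Submodule F V}
    (hW : W ≤ LinearMap.range (A - 1)) (hWi : W.map A ≤ W) (hne : W ≠ ⊥) :
    ∃ U, U ≤ W ∧ U.map A ≤ U ∧ finrank F ↥U = orderOf (Fintype.card F : ZMod r) := by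
  obtain ⟨U, -, hU, hUi, hUd⟩ := exists_step A (P := (X ^ r - 1 : F[X])) (by simp [hAr])
    (monic_X_pow_sub_C (1 : F) (Fact.out : r.Prime).ne_zero).ne_zero (fun h => natDegree_le_order hr) W hWi
    (fun W' h h' => dvd_finrank_of_le_range hr hAr h' (h.trans hW)) ⊥ bot_le (by simp) (Ne.symm hne)
  exact ⟨U, hU, hUi, by rw [hUd, finrank_bot, zero_add]⟩

theorem step_odd (hB : ∀ v, B v v = 0) (hA : ∀ u v, B (A u) (A v) = B u v) (hr : (r : F) ≠ 0)
    (hAr : A ^ r = 1) (hAi : Function.Injective A) (hodd : Odd (orderOf (Fintype.card F : ZMod r)))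
    {R : Submodule F V} (hRT : R ≤ LinearMap.range (A - 1)) (hRi : R.map A ≤ R) (hd : R ≠ ⊥) :
    ∃ U, U ≤ R ∧ U.map A ≤ U ∧ TI B U ∧ finrank F ↥U = orderOf (Fintype.card F : ZMod r) := by
  obtain ⟨U, hU, hUi, hUd⟩ := exists_simple hr hAr hRT hRi hd
  refine ⟨U, hU, hUi, fun u hu v hv => ?_, hUd⟩
  by_cases hbot : U ⊓ B.orthogonal U = ⊥
  · exfalso
    have hnd : ND B U := fun u hu h => by
      have : u ∈ U ⊓ B.orthogonal U := ⟨hu, fun w hw => zero_comm hB (h w hw)⟩
      rwa [hbot, Submodule.mem_bot] at this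
    exact (Nat.not_even_iff_odd.2 hodd) (hUd ▸ even_of_nd hB hnd)
  · have hdvd := dvd_finrank_of_le_range hr hAr
      (le_inf ((Submodule.map_mono inf_le_left).trans hUi)
        ((Submodule.map_mono inf_le_right).trans (orth_invariant hA hAi hUi)))
      ((inf_le_left : U ⊓ B.orthogonal U ≤ U).trans (hU.trans hRT))
    have hpos : 0 < finrank F ↥(U ⊓ B.orthogonal U : Submodule F V) :=
      Nat.pos_of_ne_zero fun e => hbot (Submodule.finrank_eq_zero.1 e)
    have heq : U ⊓ B.orthogonal U = U := Submodule.eq_of_le_of_finrank_le inf_le_left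
      (by rw [hUd]; exact Nat.le_of_dvd hpos hdvd)
    rw [← heq] at hv
    exact hv.2 u hu

theorem step_many (hB : ∀ v, B v v = 0) (hA : ∀ u v, B (A u) (A v) = B u v) (hr : (r : F) ≠ 0)
    (hr2 : r ≠ 2) (hAr : A ^ r = 1) {R : Submodule F V} (hRT : R ≤ LinearMap.range (A - 1))
    (hRi : R.map A ≤ R) (hd : r ≤ finrank F ↥R) :
    ∃ U, U ≤ R ∧ U.map A ≤ U ∧ TI B U ∧ finrank F ↥U = orderOf (Fintype.card F : ZMod r) := by
  have hrp : r.Prime := Fact.out
  obtain ⟨h, hh⟩ := hrp.odd_of_ne_two hr2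
  obtain ⟨v, hv, hv0, hz⟩ := exists_common_zero (fun j : Fin h => B.compl₂ (A ^ ((j : ℕ) + 1))) R
    (by rw [Fintype.card_fin]; omega)
  have hall : ∀ k : ℕ, B v ((A ^ k) v) = 0 := by
    intro k
    have key : ∀ a b : ℕ, B ((A ^ a) v) ((A ^ (a + b)) v) = B v ((A ^ b) v) := by
      intro a b
      induction a with
      | zero => simp
      | succ a ih =>
        rw [pow_succ', Module.End.mul_apply, Nat.succ_add, pow_succ', Module.End.mul_apply, hA, ih]
    have hsmall : ∀ k < r, B v ((A ^ k) v) = 0 := by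
      intro k hk
      rcases Nat.eq_zero_or_pos k with h0 | h0
      · simp [h0, hB]
      rcases Nat.lt_or_ge h k with h1 | h1
      · have h2 := key k (r - k)
        rw [show k + (r - k) = r by omega, hAr, Module.End.one_apply] at h2
        have h3 := hz ⟨r - k - 1, by omega⟩
        rw [LinearMap.compl₂_apply, show ((⟨r - k - 1, by omega⟩ : Fin h) : ℕ) + 1 = r - k by simp; omega,
          ← h2] at h3
        exact zero_comm hB h3
      · have h3 := hz ⟨k - 1, by omega⟩
        rwa [LinearMap.compl₂_apply, show ((⟨k - 1, by omega⟩ : Fin h) : ℕ) + 1 = k by simp; omega] at h3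
    rw [← Nat.mod_add_div k r, pow_add, pow_mul, hAr, one_pow, mul_one]
    exact hsmall _ (Nat.mod_lt _ hrp.pos)
  set W := Submodule.span F (Set.range fun k : ℕ => (A ^ k) v) with hW
  have hWR : W ≤ R := by
    rw [hW, Submodule.span_le]
    rintro _ ⟨k, rfl⟩
    exact pow_mem hRi hv k
  have hWi : W.map A ≤ W := by
    rw [hW, Submodule.map_span, Submodule.span_le]
    rintro _ ⟨_, ⟨k, rfl⟩, rfl⟩
    exact Submodule.subset_span ⟨k + 1, by simp only; rw [pow_succ', Module.End.mul_apply]⟩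
  have hWT : TI B W := by
    have hgen : ∀ a b : ℕ, B ((A ^ a) v) ((A ^ b) v) = 0 := by
      have key : ∀ a b : ℕ, B ((A ^ a) v) ((A ^ (a + b)) v) = B v ((A ^ b) v) := by
        intro a b
        induction a with
        | zero => simp
        | succ a ih =>
          rw [pow_succ', Module.End.mul_apply, Nat.succ_add, pow_succ', Module.End.mul_apply, hA, ih]
      intro a b
      rcases le_total a b with hle | hle
      · rw [← Nat.add_sub_cancel' hle, key]; exact hall _
      · refine zero_comm hB ?_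
        rw [← Nat.add_sub_cancel' hle, key]; exact hall _
    intro x hx y hy
    induction hx using Submodule.span_induction with
    | mem x hx =>
      obtain ⟨a, rfl⟩ := hx
      induction hy using Submodule.span_induction with
      | mem y hy => obtain ⟨b, rfl⟩ := hy; exact hgen a b
      | zero => simp
      | add y z _ _ h1 h2 => simp [h1, h2]
      | smul c y _ h1 => simp [h1]
    | zero => simp
    | add x z _ _ h1 h2 => simp [h1, h2]
    | smul c x _ h1 => simp [h1]
  have hne : W ≠ ⊥ := fun e => hv0 (by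
    have hm : v ∈ W := Submodule.subset_span ⟨0, by simp⟩
    rwa [e, Submodule.mem_bot] at hm)
  obtain ⟨U, hU, hUi, hUd⟩ := exists_simple hr hAr (hWR.trans hRT) hWi hne
  exact ⟨U, hU.trans hWR, hUi, fun a ha b hb => hWT a (hU ha) b (hU hb), hUd⟩

end Order

/-! ### Primary decompositions -/

omit [FiniteDimensional F V] in
theorem aeval_adj (hA : ∀ u v, B (A u) (A v) = B u v) {C : Module.End F V} (hAC : ∀ v, A (C v) = v)
    (P : F[X]) : ∀ u v, B (aeval C P u) v = B u (aeval A P v) := by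
  have h : ∀ u v, B (C u) v = B u (A v) := fun u v => by rw [← hA (C u) v, hAC]
  induction P using Polynomial.induction_on with
  | C a => intro u v; simp [Module.algebraMap_end_apply]
  | add a b ha hb => intro u v; simp [map_add, ha, hb]
  | monomial n a ih =>
    intro u v
    rw [pow_succ, ← mul_assoc]
    conv_lhs => rw [map_mul, aeval_X, Module.End.mul_apply, ih, h]
    conv_rhs => rw [mul_comm, map_mul, aeval_X, Module.End.mul_apply]

omit [FiniteDimensional F V] in
theorem aeval_inv_mirror {r : ℕ} (hr : 0 < r) (hAr : A ^ r = 1) {G : F[X]} (hG : G.mirror = G)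
    (hG0 : G.coeff 0 ≠ 0) {u : V} (hu : aeval A G u = 0) : aeval (A ^ (r - 1)) G u = 0 := by
  classical
  let M : F[X] := X ^ r - 1
  let x : AdjoinRoot M := AdjoinRoot.root M
  have hxr : x ^ r = 1 := by
    have := AdjoinRoot.eval₂_root M
    rwa [eval₂_sub, eval₂_pow, eval₂_X, eval₂_one, sub_eq_zero] at this
  have hx : x * x ^ (r - 1) = 1 := by rw [← pow_succ', show r - 1 + 1 = r by omega, hxr]
  let y : AdjoinRoot M := x ^ (r - 1)
  letI : Invertible y := ⟨x, hx, by rw [mul_comm]; exact hx⟩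
  have hrev : G.reverse = G := by
    have : G.natTrailingDegree = 0 := natTrailingDegree_eq_zero.2 (Or.inr hG0)
    conv_rhs => rw [← hG, Polynomial.mirror, this, pow_zero, mul_one]
  have h1 := eval₂_reverse_mul_pow (AdjoinRoot.of M) y G
  rw [hrev, show ⅟y = x from rfl] at h1
  have h2 : (M : F[X]) ∣ G * (X ^ (r - 1)) ^ G.natDegree - G.comp (X ^ (r - 1)) := by
    rw [← AdjoinRoot.mk_eq_zero, map_sub, map_mul, map_pow, map_pow, AdjoinRoot.mk_X,
      ← AdjoinRoot.aeval_eq, ← AdjoinRoot.aeval_eq, aeval_comp, map_pow, aeval_X, sub_eq_zero]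
    exact h1
  obtain ⟨Q, hQ⟩ := h2
  have h3 := congrArg (fun P : F[X] => aeval A P u) hQ
  have hM : aeval A M = 0 := by simp [M, hAr]
  simp only [map_sub, map_mul, LinearMap.sub_apply, hM, zero_mul, LinearMap.zero_apply] at h3
  rw [← map_mul, mul_comm G, map_mul, Module.End.mul_apply, hu, map_zero, zero_sub, neg_eq_zero,
    aeval_comp, map_pow, aeval_X] at h3
  exact h3

omit [FiniteDimensional F V] in
theorem kers (hB : ∀ v, B v v = 0) (hnd : ND B ⊤) (hA : ∀ u v, B (A u) (A v) = B u v) {r : ℕ} (hr : 0 < r)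
    (hAr : A ^ r = 1) {G H : F[X]} (hco : IsCoprime G H) (h0 : aeval A (G * H) = 0) (hG : G.mirror = G)
    (hG0 : G.coeff 0 ≠ 0) :
    IsCompl (LinearMap.ker (aeval A G)) (LinearMap.ker (aeval A H)) ∧
      ND B (LinearMap.ker (aeval A G)) ∧ ND B (LinearMap.ker (aeval A H)) := by
  obtain ⟨a, b, hab⟩ := hco
  have hsplit : ∀ v, v = aeval A (a * G) v + aeval A (b * H) v := fun v => by
    rw [← LinearMap.add_apply, ← map_add, hab, map_one]; rfl
  have hGH : ∀ v, aeval A G (aeval A H v) = 0 := fun v => by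
    rw [← Module.End.mul_apply, ← map_mul, h0]; rfl
  have hHG : ∀ v, aeval A H (aeval A G v) = 0 := fun v => by
    rw [← Module.End.mul_apply, ← map_mul, mul_comm, h0]; rfl
  have h1 : ∀ v, aeval A (b * H) v ∈ LinearMap.ker (aeval A G) := fun v => by
    rw [LinearMap.mem_ker, mul_comm b, map_mul, Module.End.mul_apply, hGH]
  have h2 : ∀ v, aeval A (a * G) v ∈ LinearMap.ker (aeval A H) := fun v => by
    rw [LinearMap.mem_ker, mul_comm a, map_mul, Module.End.mul_apply, hHG]
  have hc : IsCompl (LinearMap.ker (aeval A G)) (LinearMap.ker (aeval A H)) := by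
    refine ⟨Submodule.disjoint_def.2 fun v hv hv' => ?_, codisjoint_iff.2 (eq_top_iff.2 fun v _ => ?_)⟩
    · rw [hsplit v, map_mul, map_mul, Module.End.mul_apply, Module.End.mul_apply,
        LinearMap.mem_ker.1 hv, LinearMap.mem_ker.1 hv', map_zero, map_zero, add_zero]
    · rw [hsplit v, add_comm]
      exact Submodule.add_mem_sup (h1 v) (h2 v)
  have horth : ∀ u ∈ LinearMap.ker (aeval A G), ∀ v ∈ LinearMap.ker (aeval A H), B u v = 0 := by
    intro u hu v hv
    have hv2 : v = aeval A G (aeval A a v) := by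
      conv_lhs => rw [hsplit v]
      rw [map_mul (aeval A) b, Module.End.mul_apply, LinearMap.mem_ker.1 hv, map_zero, add_zero, mul_comm a,
        map_mul, Module.End.mul_apply]
    have hAC : ∀ w, A ((A ^ (r - 1)) w) = w := fun w => by
      rw [← Module.End.mul_apply, ← pow_succ', show r - 1 + 1 = r by omega, hAr]; rfl
    rw [hv2, ← aeval_adj hA hAC, aeval_inv_mirror hr hAr hG hG0 (LinearMap.mem_ker.1 hu), map_zero,
      LinearMap.zero_apply]
  have htop : ∀ w : V, w ∈ LinearMap.ker (aeval A G) ⊔ LinearMap.ker (aeval A H) := fun w => by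
    rw [hc.sup_eq_top]; exact Submodule.mem_top
  refine ⟨hc, fun u hu h => hnd u trivial fun w _ => ?_, fun u hu h => hnd u trivial fun w _ => ?_⟩
  · obtain ⟨x, hx, y, hy, rfl⟩ := Submodule.mem_sup.1 (htop w)
    rw [map_add, h x hx, horth u hu y hy, add_zero]
  · obtain ⟨x, hx, y, hy, rfl⟩ := Submodule.mem_sup.1 (htop w)
    rw [map_add, h y hy, zero_comm hB (horth x hx u hu), add_zero]

theorem finrank_split {G H : F[X]} (hco : IsCoprime G H) {W : Submodule F V} (hW : W.map A ≤ W)
    (hW0 : ∀ v ∈ W, aeval A (G * H) v = 0) :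
    finrank F ↥W = finrank F ↥(W ⊓ LinearMap.ker (aeval A G) : Submodule F V) +
      finrank F ↥(W ⊓ LinearMap.ker (aeval A H) : Submodule F V) := by
  obtain ⟨a, b, hab⟩ := hco
  have hsplit : ∀ v, v = aeval A (a * G) v + aeval A (b * H) v := fun v => by
    rw [← LinearMap.add_apply, ← map_add, hab, map_one]; rfl
  have hsup : (W ⊓ LinearMap.ker (aeval A G)) ⊔ (W ⊓ LinearMap.ker (aeval A H)) = W := by
    refine le_antisymm (sup_le inf_le_left inf_le_left) fun v hv => ?_
    rw [hsplit v, add_comm]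
    refine Submodule.add_mem_sup ⟨aeval_mem hW _ hv, ?_⟩ ⟨aeval_mem hW _ hv, ?_⟩
    · rw [SetLike.mem_coe, LinearMap.mem_ker, ← Module.End.mul_apply, ← map_mul,
        show G * (b * H) = b * (G * H) by ring, map_mul, Module.End.mul_apply, hW0 v hv, map_zero]
    · rw [SetLike.mem_coe, LinearMap.mem_ker, ← Module.End.mul_apply, ← map_mul,
        show H * (a * G) = a * (G * H) by ring, map_mul, Module.End.mul_apply, hW0 v hv, map_zero]
  have hdisj : (W ⊓ LinearMap.ker (aeval A G)) ⊓ (W ⊓ LinearMap.ker (aeval A H)) = ⊥ := by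
    refine eq_bot_iff.2 fun v hv => ?_
    rw [Submodule.mem_bot, hsplit v, map_mul, map_mul, Module.End.mul_apply, Module.End.mul_apply,
      LinearMap.mem_ker.1 hv.1.2, LinearMap.mem_ker.1 hv.2.2, map_zero, map_zero, add_zero]
  have h := Submodule.finrank_sup_add_finrank_inf_eq (W ⊓ LinearMap.ker (aeval A G))
    (W ⊓ LinearMap.ker (aeval A H))
  rw [hsup, hdisj, finrank_bot] at h
  omega

/-- Dimensions of primary components. -/
theorem finrank_ker_aeval {G H G₁ H₁ : F[X]} (hco : IsCoprime G H) (h0 : aeval A (G * H) = 0)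
    (hch : A.charpoly = G₁ * H₁) {N : ℕ} (hG₁ : G₁ ∣ G ^ N) (hH₁ : H₁ ∣ H ^ N) (hG₁m : G₁.Monic) :
    finrank F ↥(LinearMap.ker (aeval A G)) = G₁.natDegree := by
  classical
  set K := LinearMap.ker (aeval A G) with hK
  set L := LinearMap.ker (aeval A H) with hL
  have hinv : ∀ P : F[X], ∀ v ∈ LinearMap.ker (aeval A P), A v ∈ LinearMap.ker (aeval A P) := fun P v hv => by
    rw [LinearMap.mem_ker] at hv ⊢
    have e : aeval A P * A = A * aeval A P := by
      nth_rw 2 [← aeval_X (R := F) A]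
      nth_rw 3 [← aeval_X (R := F) A]
      rw [← map_mul, ← map_mul, mul_comm]
    rw [← Module.End.mul_apply, e, Module.End.mul_apply, hv, map_zero]
  obtain ⟨a, b, hab⟩ := id hco
  have hsplit : ∀ v, v = aeval A (a * G) v + aeval A (b * H) v := fun v => by
    rw [← LinearMap.add_apply, ← map_add, hab, map_one]; rfl
  have hc : IsCompl K L := by
    refine ⟨Submodule.disjoint_def.2 fun v hv hv' => ?_, codisjoint_iff.2 (eq_top_iff.2 fun v _ => ?_)⟩
    · rw [hsplit v, map_mul, map_mul, Module.End.mul_apply, Module.End.mul_apply,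
        LinearMap.mem_ker.1 hv, LinearMap.mem_ker.1 hv', map_zero, map_zero, add_zero]
    · rw [hsplit v, add_comm]
      refine Submodule.add_mem_sup ?_ ?_
      · rw [hK, LinearMap.mem_ker, ← Module.End.mul_apply, ← map_mul,
          show G * (b * H) = b * (G * H) by ring, map_mul, h0, mul_zero, LinearMap.zero_apply]
      · rw [hL, LinearMap.mem_ker, ← Module.End.mul_apply, ← map_mul,
          show H * (a * G) = a * (G * H) by ring, map_mul, h0, mul_zero, LinearMap.zero_apply]
  set AK := A.restrict (hinv G) with hAK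
  set AL := A.restrict (hinv H) with hAL
  have hprod : A.charpoly = AK.charpoly * AL.charpoly := by
    let e := Submodule.prodEquivOfIsCompl K L hc
    have he : e.conj (AK.prodMap AL) = A := by
      refine LinearMap.ext fun v => ?_
      rw [LinearEquiv.conj_apply_apply]
      obtain ⟨⟨x, y⟩, rfl⟩ := e.surjective v
      rw [LinearEquiv.symm_apply_apply]
      simp [e, AK, AL, Submodule.coe_prodEquivOfIsCompl', LinearMap.restrict_apply]
    conv_lhs => rw [← he]
    rw [LinearEquiv.charpoly_conj, LinearMap.charpoly_prodMap]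
  have hres : ∀ (P : F[X]) (S : Submodule F V) (hS : ∀ v ∈ S, A v ∈ S) (x : ↥S),
      ((aeval (A.restrict hS) P) x : V) = aeval A P x := by
    intro P S hS
    induction P using Polynomial.induction_on with
    | C a => intro x; simp [Module.algebraMap_end_apply]
    | add p q hp hq => intro x; simp [hp, hq]
    | monomial k a ih =>
      intro x
      rw [pow_succ, ← mul_assoc]
      conv_lhs => rw [map_mul, aeval_X, Module.End.mul_apply, ih]
      conv_rhs => rw [map_mul, aeval_X, Module.End.mul_apply]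
      rfl
  have hcop : ∀ (P Q : F[X]), IsCoprime P Q → ∀ (hP : ∀ v ∈ LinearMap.ker (aeval A P), A v ∈ LinearMap.ker (aeval A P)),
      IsCoprime (A.restrict hP).charpoly (Q ^ N) := by
    intro P Q hPQ hP
    refine IsRelPrime.isCoprime fun D hD hD' => ?_
    by_contra hu
    have hD0 : D ≠ 0 := fun e => (LinearMap.charpoly_monic (A.restrict hP)).ne_zero
      (zero_dvd_iff.1 (e ▸ hD))
    obtain ⟨h, hh, hhD⟩ := WfDvdMonoid.exists_irreducible_factor hu hD0
    obtain ⟨x, hx0, hx⟩ := SemisimpleConjGL.exists_ker_of_dvd_charpoly _ hh (hhD.trans hD)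
    obtain ⟨c, rfl⟩ := hh.prime.dvd_of_dvd_pow (hhD.trans hD')
    obtain ⟨a, b, hab⟩ := hPQ
    apply hx0
    apply Subtype.ext
    have h1 : aeval A h (x : V) = 0 := by rw [← hres h _ hP x, hx]; rfl
    have h2 := congrArg (fun R : F[X] => aeval A R (x : V)) hab
    simp only [map_add, map_one, LinearMap.add_apply, Module.End.one_apply] at h2
    rw [map_mul, Module.End.mul_apply, LinearMap.mem_ker.1 x.2, map_zero, zero_add,
      show b * (h * c) = b * c * h by ring, map_mul, Module.End.mul_apply, h1, map_zero] at h2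
    exact h2.symm
  have hK1 : AK.charpoly ∣ G₁ :=
    ((hcop G H hco (hinv G)).of_isCoprime_of_dvd_right hH₁).dvd_of_dvd_mul_right
      (hch ▸ hprod ▸ dvd_mul_right _ _)
  have hL1 : AL.charpoly ∣ H₁ :=
    ((hcop H G hco.symm (hinv H)).of_isCoprime_of_dvd_right hG₁).dvd_of_dvd_mul_left
      (hch ▸ hprod ▸ dvd_mul_left _ _)
  have hne : G₁ * H₁ ≠ 0 := hch ▸ (LinearMap.charpoly_monic A).ne_zero
  have d1 := natDegree_le_of_dvd hK1 (left_ne_zero_of_mul hne)
  have d2 := natDegree_le_of_dvd hL1 (right_ne_zero_of_mul hne)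
  have d3 := congrArg natDegree (hch.symm.trans hprod)
  rw [natDegree_mul (left_ne_zero_of_mul hne) (right_ne_zero_of_mul hne),
    (LinearMap.charpoly_monic AK).natDegree_mul (LinearMap.charpoly_monic AL)] at d3
  rw [← LinearMap.charpoly_natDegree AK]
  omega

end Cfsg.Agent.SympIsoInvariant84
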