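import Mathlib
import Cfsg.Agent.Lib.PrimeOrderModule84
import Cfsg.Agent.Lib.DecompPerm84
import Cfsg.Agent.Lib.SympIsoInvariant84
import Cfsg.Agent.Lib.QuadClassify

/-!
Invariant totally singular subspaces of semisimple isometries of quadratic forms, in every characteristic.
-/

set_option autoImplicit false

namespace Cfsg.Agent.QuadInvariant97

open Module Polynomial QuadraticMap Cfsg.Agent.PrimeOrderModule84
open Cfsg.Agent.SympIsoInvariant84 (map_eq exists_common_zero exists_simple pow_mem)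

variable {F V : Type*} [Field F] [AddCommGroup V] [Module F V] [FiniteDimensional F V]
  {Q : QuadraticForm F V} {A : Module.End F V}

/-- The polar form as a bilinear form. -/
def pB (Q : QuadraticForm F V) : LinearMap.BilinForm F V := polarBilin Q

omit [FiniteDimensional F V] in
theorem pB_apply (Q : QuadraticForm F V) (u v : V) : pB Q u v = polar Q u v := rfl

/-- The orthogonal of `U`. -/
def perp (Q : QuadraticForm F V) (U : Submodule F V) : Submodule F V := (pB Q).orthogonal U

omit [FiniteDimensional F V] in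
theorem mem_perp {U : Submodule F V} {v : V} : v ∈ perp Q U ↔ ∀ u ∈ U, polar Q u v = 0 := Iff.rfl

/-- The polar form of `Q` is non-degenerate on `R`. -/
def ND (Q : QuadraticForm F V) (R : Submodule F V) : Prop :=
  ∀ u ∈ R, (∀ v ∈ R, polar Q u v = 0) → u = 0

/-- `Q` vanishes on `W`. -/
def TS (Q : QuadraticForm F V) (W : Submodule F V) : Prop := ∀ w ∈ W, Q w = 0

omit [FiniteDimensional F V] in
theorem TS.polar {W : Submodule F V} (hW : TS Q W) {u v : V} (hu : u ∈ W) (hv : v ∈ W) :
    polar Q u v = 0 := by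
  simp [QuadraticMap.polar, hW u hu, hW v hv, hW _ (W.add_mem hu hv)]

omit [FiniteDimensional F V] in
theorem TS.bot : TS Q ⊥ := fun w hw => by rw [(Submodule.mem_bot F).1 hw, QuadraticMap.map_zero]

omit [FiniteDimensional F V] in
theorem TS.mono {U W : Submodule F V} (hW : TS Q W) (h : U ≤ W) : TS Q U := fun u hu => hW u (h hu)

omit [FiniteDimensional F V] in
theorem TS.sup {U W : Submodule F V} (hU : TS Q U) (hW : TS Q W)
    (h : ∀ u ∈ U, ∀ w ∈ W, QuadraticMap.polar Q u w = 0) : TS Q (U ⊔ W) := by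
  intro x hx
  obtain ⟨u, hu, w, hw, rfl⟩ := Submodule.mem_sup.1 hx
  rw [QuadraticMap.map_add Q, hU u hu, hW w hw, h u hu w hw, add_zero, add_zero]

theorem finrank_orth {R U : Submodule F V} (hR : ND Q R) (hU : U ≤ R) :
    finrank F ↥(R ⊓ perp Q U) + finrank F ↥U = finrank F ↥R := by
  have hnd : ((pB Q).restrict R).Nondegenerate :=
    ⟨fun u h => Subtype.ext (hR u u.2 fun v hv => h ⟨v, hv⟩),
      fun u h => Subtype.ext (hR u u.2 fun v hv => by rw [polar_comm]; exact h ⟨v, hv⟩)⟩
  have hmap : (((pB Q).restrict R).orthogonal (U.comap R.subtype)).map R.subtype =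
      R ⊓ perp Q U := by
    ext v
    constructor
    · rintro ⟨⟨x, hx⟩, h, rfl⟩
      exact ⟨hx, fun u hu => h ⟨u, hU hu⟩ hu⟩
    · rintro ⟨hv, h⟩
      exact ⟨⟨v, hv⟩, fun u hu => h u hu, rfl⟩
  have e1 : finrank F ↥(U.comap R.subtype) = finrank F ↥U :=
    (Submodule.comapSubtypeEquivOfLe hU).finrank_eq
  have h := LinearMap.BilinForm.finrank_orthogonal hnd (U.comap R.subtype)
  have hle := Submodule.finrank_mono hU
  rw [← hmap, Submodule.finrank_map_subtype_eq]
  omega

theorem two_mul_le {R U : Submodule F V} (hR : ND Q R) (hU : U ≤ R) (hT : TS Q U) :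
    2 * finrank F ↥U ≤ finrank F ↥R := by
  have h := finrank_orth hR hU
  have h2 : finrank F ↥U ≤ finrank F ↥(R ⊓ perp Q U) :=
    Submodule.finrank_mono (le_inf hU fun v hv u hu => hT.polar hu hv)
  omega

omit [FiniteDimensional F V] in
theorem polar_map (hA : ∀ v, Q (A v) = Q v) (u v : V) :
    polar Q (A u) (A v) = polar Q u v := by
  simp only [QuadraticMap.polar, ← map_add, hA]

theorem orth_invariant (hA : ∀ v, Q (A v) = Q v) (hAi : Function.Injective A) {U : Submodule F V}
    (hU : U.map A ≤ U) : (perp Q U).map A ≤ perp Q U := by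
  rintro _ ⟨v, hv, rfl⟩ u hu
  rw [← map_eq hAi hU] at hu
  obtain ⟨w, hw, rfl⟩ := hu
  show polar Q (A w) (A v) = 0
  rw [polar_map hA]
  exact hv w hw

/-- Removing an invariant totally singular subspace. -/
theorem exists_reduct (hA : ∀ v, Q (A v) = Q v) {r : ℕ} {z : F}
    (hr : (r : F) ≠ 0) (hz : z ≠ 0) (hAr : A ^ r = z • 1) (hAi : Function.Injective A)
    {R U : Submodule F V} (hR : ND Q R) (hRi : R.map A ≤ R) (hUR : U ≤ R) (hUi : U.map A ≤ U)
    (hU : TS Q U) :
    ∃ R', R' ≤ R ∧ R'.map A ≤ R' ∧ ND Q R' ∧ finrank F ↥R' + 2 * finrank F ↥U = finrank F ↥R ∧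
      R' ⊓ U = ⊥ ∧ ∀ v ∈ R', ∀ u ∈ U, polar Q u v = 0 := by
  set O := R ⊓ perp Q U with hO
  have hOi : O.map A ≤ O := le_inf ((Submodule.map_mono inf_le_left).trans hRi)
    ((Submodule.map_mono inf_le_right).trans (orth_invariant hA hAi hUi))
  have hUO : U ≤ O := le_inf hUR fun v hv u hu => hU.polar hu hv
  obtain ⟨C, hC, hCi⟩ := DecompPerm84.exists_invt_compl hr hz hAr hUi
  have hdisj : (C ⊓ O) ⊓ U = ⊥ := by
    rw [eq_bot_iff, ← hC.inf_eq_bot]
    exact fun v hv => ⟨hv.2, hv.1.1⟩
  have hsup : U ⊔ (C ⊓ O) = O := by rw [← sup_inf_assoc_of_le C hUO, hC.sup_eq_top, top_inf_eq]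
  have hdim : finrank F ↥(C ⊓ O : Submodule F V) + finrank F ↥U = finrank F ↥O := by
    have h := Submodule.finrank_sup_add_finrank_inf_eq U (C ⊓ O)
    rw [hsup, inf_comm, hdisj, finrank_bot] at h
    omega
  have hfin := finrank_orth hR hUR
  rw [← hO] at hfin
  refine ⟨C ⊓ O, inf_le_right.trans inf_le_left, le_inf ((Submodule.map_mono inf_le_left).trans hCi)
    ((Submodule.map_mono inf_le_right).trans hOi), ?_, by omega, hdisj, fun v hv u hu => hv.2.2 u hu⟩
  intro v hv h
  have hvO : ∀ w ∈ O, polar Q w v = 0 := by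
    intro w hw
    rw [← hsup] at hw
    obtain ⟨a, ha, b, hb, rfl⟩ := Submodule.mem_sup.1 hw
    rw [polar_add_left, polar_comm Q b v, h b hb, show polar Q a v = 0 from hv.2.2 a ha, add_zero]
  have hvU : v ∈ U := by
    have h1 := finrank_orth hR (U := O) inf_le_left
    have hle : U ≤ R ⊓ perp Q O :=
      le_inf hUR fun u hu w hw => by
        show polar Q w u = 0
        rw [polar_comm]; exact hw.2 u hu
    have heq : U = R ⊓ perp Q O := Submodule.eq_of_le_of_finrank_eq hle (by omega)
    rw [heq]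
    exact ⟨hv.2.1, hvO⟩
  have : v ∈ (C ⊓ O) ⊓ U := ⟨hv, hvU⟩
  rwa [hdisj, Submodule.mem_bot] at this

/-- Iterating one step. -/
theorem exists_iter (hA : ∀ v, Q (A v) = Q v) {r : ℕ} {z : F}
    (hr : (r : F) ≠ 0) (hz : z ≠ 0) (hAr : A ^ r = z • 1) (hAi : Function.Injective A)
    {T : Submodule F V} {i N : ℕ}
    (step : ∀ R ≤ T, R.map A ≤ R → ND Q R → N ≤ finrank F ↥R →
      ∃ U, U ≤ R ∧ U.map A ≤ U ∧ TS Q U ∧ finrank F ↥U = i) :
    ∀ b : ℕ, ∀ R ≤ T, R.map A ≤ R → ND Q R → (b = 0 ∨ 2 * i * (b - 1) + N ≤ finrank F ↥R) →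
      ∃ W, W ≤ R ∧ W.map A ≤ W ∧ TS Q W ∧ finrank F ↥W = b * i := by
  intro b
  induction b with
  | zero =>
    intro R _ _ _ _
    exact ⟨⊥, bot_le, by simp, TS.bot, by simp⟩
  | succ b ih =>
    intro R hRT hRi hR hd
    replace hd : 2 * i * b + N ≤ finrank F ↥R := by
      rcases hd with h | h
      · omega
      · simpa using h
    obtain ⟨U, hUR, hUi, hU, hUd⟩ := step R hRT hRi hR (by omega)
    obtain ⟨R', hR'R, hR'i, hR', hR'd, hdisj, horth⟩ := exists_reduct hA hr hz hAr hAi hR hRi hUR hUi hU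
    obtain ⟨W, hW, hWi, hWT, hWd⟩ := ih R' (hR'R.trans hRT) hR'i hR' (by
      rcases Nat.eq_zero_or_pos b with h | h
      · exact Or.inl h
      · right
        obtain ⟨c, rfl⟩ : ∃ c, b = c + 1 := ⟨b - 1, by omega⟩
        rw [Nat.mul_add, Nat.mul_one] at hd
        simp only [Nat.add_sub_cancel]
        omega)
    refine ⟨U ⊔ W, sup_le hUR (hW.trans hR'R), by rw [Submodule.map_sup]; exact sup_le_sup hUi hWi,
      hU.sup hWT fun u hu w hw => horth w (hW hw) u hu, ?_⟩
    have h := Submodule.finrank_sup_add_finrank_inf_eq U W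
    have hb : U ⊓ W = ⊥ := by
      rw [eq_bot_iff, ← hdisj]
      exact fun v hv => ⟨hW hv.2, hv.1⟩
    rw [hb, finrank_bot, hUd, hWd] at h
    rw [Nat.succ_mul]
    omega

section Order

variable {r : ℕ}

omit [FiniteDimensional F V] in
theorem injective_of_pow (hr : 0 < r) (hAr : A ^ r = 1) : Function.Injective A := fun u v h => by
  have e : ∀ x, (A ^ (r - 1)) (A x) = x := fun x => by
    rw [← Module.End.mul_apply, ← pow_succ, show r - 1 + 1 = r by omega, hAr, Module.End.one_apply]
  rw [← e u, ← e v, h]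

omit [FiniteDimensional F V] in
/-- The value at a vector is determined by its polar products with its translates. -/
theorem value_eq (hA : ∀ v, Q (A v) = Q v) (hr : (r : F) ≠ 0) (hAr : A ^ r = 1) {v : V}
    (hv : v ∈ LinearMap.range (A - 1))
    (hpol : ∀ a b : ℕ, polar Q ((A ^ a) v) ((A ^ b) v) = 0 ∨ a % r = b % r) : Q v = 0 := by
  obtain ⟨u, rfl⟩ := hv
  set w := (A - 1) u
  have hsum : ∑ k ∈ Finset.range r, (A ^ k) w = 0 := by
    rw [← LinearMap.sum_apply]
    show (∑ k ∈ Finset.range r, A ^ k) ((A - 1) u) = 0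
    rw [← Module.End.mul_apply, geom_sum_mul, hAr, sub_self, LinearMap.zero_apply]
  have hpow : ∀ k, Q ((A ^ k) w) = Q w := by
    intro k
    induction k with
    | zero => simp
    | succ k ih => rw [pow_succ', Module.End.mul_apply, hA, ih]
  have h1 : Q (∑ k ∈ Finset.range r, (A ^ k) w) = ∑ k ∈ Finset.range r, Q ((A ^ k) w) := by
    refine QuadClassify.map_sum_ortho Q _ _ fun a ha b hb hab => (hpol a b).resolve_right ?_
    rw [Nat.mod_eq_of_lt (Finset.mem_range.1 ha), Nat.mod_eq_of_lt (Finset.mem_range.1 hb)]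
    exact hab
  rw [hsum, QuadraticMap.map_zero, Finset.sum_congr rfl fun k _ => hpow k, Finset.sum_const,
    Finset.card_range, nsmul_eq_mul, eq_comm, mul_eq_zero] at h1
  exact h1.resolve_left hr

variable [Fintype F] [Fact r.Prime]

omit [Fintype F] in
/-- An invariant non-degenerate subspace in the moved part has even dimension. -/
theorem even_of_moved (hA : ∀ v, Q (A v) = Q v) (hr : (r : F) ≠ 0) (hr2 : r ≠ 2) (hAr : A ^ r = 1)
    {R : Submodule F V} (hR : ND Q R) (hRT : R ≤ LinearMap.range (A - 1)) (hRi : R.map A ≤ R) :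
    Even (finrank F ↥R) := by
  let S : LinearMap.BilinForm F V :=
    (polarBilin Q).compl₂ A - (polarBilin Q).comp A
  have hS : ∀ u v, S u v = polar Q u (A v) - polar Q (A u) v := fun u v => rfl
  refine SymplecticAlt.even_finrank S (fun v => by rw [hS, polar_comm Q (A v) v, sub_self]) R fun u hu h => ?_
  -- `A² u = u`
  have hAu : A u ∈ R := map_le_iff'.1 hRi u hu
  have hAAu : A (A u) ∈ R := map_le_iff'.1 hRi _ hAu
  have hinj := injective_of_pow (Fact.out : r.Prime).pos hAr
  have h2 : A (A u) - u = 0 := hR _ (R.sub_mem hAAu hu) fun w hw => by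
    obtain ⟨w', hw', rfl⟩ : w ∈ R.map A := by rw [map_eq hinj hRi]; exact hw
    have := h w' hw'
    rw [hS] at this
    rw [polar_sub_left, polar_map hA (A u) w', ← neg_sub, this, neg_zero]
  rw [sub_eq_zero] at h2
  have hfix : A u = u := by
    obtain ⟨k, hk⟩ := (Fact.out : r.Prime).odd_of_ne_two hr2
    have e : ∀ j, (A ^ (2 * j)) u = u := by
      intro j
      induction j with
      | zero => simp
      | succ j ih =>
        rw [show 2 * (j + 1) = 2 * j + 1 + 1 by ring, pow_succ, pow_succ, Module.End.mul_apply,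
          Module.End.mul_apply, h2, ih]
    calc A u = A ((A ^ (2 * k)) u) := by rw [e]
      _ = (A ^ r) u := by rw [← Module.End.mul_apply, ← pow_succ', ← hk]
      _ = u := by rw [hAr]; rfl
  exact (Submodule.disjoint_def.1 (disjoint_ker_range hr hAr)) u
    (by rw [LinearMap.mem_ker, LinearMap.sub_apply, hfix, Module.End.one_apply, sub_self]) (hRT hu)

theorem step_odd (hA : ∀ v, Q (A v) = Q v) (hr : (r : F) ≠ 0) (hr2 : r ≠ 2)
    (hAr : A ^ r = 1) (hodd : Odd (orderOf (Fintype.card F : ZMod r)))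
    {R : Submodule F V} (hRT : R ≤ LinearMap.range (A - 1)) (hRi : R.map A ≤ R) (hd : R ≠ ⊥) :
    ∃ U, U ≤ R ∧ U.map A ≤ U ∧ TS Q U ∧ finrank F ↥U = orderOf (Fintype.card F : ZMod r) := by
  have hAi := injective_of_pow (Fact.out : r.Prime).pos hAr
  obtain ⟨U, hU, hUi, hUd⟩ := exists_simple hr hAr hRT hRi hd
  have hpol : ∀ u ∈ U, ∀ v ∈ U, polar Q u v = 0 := by
    by_cases hbot : U ⊓ perp Q U = ⊥
    · exfalso
      have hnd : ND Q U := fun u hu h => by
        have : u ∈ U ⊓ perp Q U := ⟨hu, fun w hw => by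
          show polar Q w u = 0
          rw [polar_comm]; exact h w hw⟩
        rwa [hbot, Submodule.mem_bot] at this
      exact (Nat.not_even_iff_odd.2 hodd) (hUd ▸ even_of_moved hA hr hr2 hAr hnd (hU.trans hRT) hUi)
    · have hdvd := dvd_finrank_of_le_range hr hAr
        (le_inf ((Submodule.map_mono inf_le_left).trans hUi)
          ((Submodule.map_mono inf_le_right).trans (orth_invariant hA hAi hUi)))
        ((inf_le_left : U ⊓ perp Q U ≤ U).trans (hU.trans hRT))
      have hpos : 0 < finrank F ↥(U ⊓ perp Q U : Submodule F V) :=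
        Nat.pos_of_ne_zero fun e => hbot (Submodule.finrank_eq_zero.1 e)
      have heq : U ⊓ perp Q U = U := Submodule.eq_of_le_of_finrank_le inf_le_left
        (by rw [hUd]; exact Nat.le_of_dvd hpos hdvd)
      intro u hu v hv
      rw [← heq] at hv
      exact hv.2 u hu
  exact ⟨U, hU, hUi, fun v hv => value_eq hA hr hAr (hRT (hU hv))
    (fun a b => Or.inl (hpol _ (pow_mem hUi hv a) _ (pow_mem hUi hv b))),
    hUd⟩

theorem step_many (hA : ∀ v, Q (A v) = Q v) (hr : (r : F) ≠ 0)
    (hr2 : r ≠ 2) (hAr : A ^ r = 1) {R : Submodule F V} (hRT : R ≤ LinearMap.range (A - 1))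
    (hRi : R.map A ≤ R) (hd : r ≤ finrank F ↥R) :
    ∃ U, U ≤ R ∧ U.map A ≤ U ∧ TS Q U ∧ finrank F ↥U = orderOf (Fintype.card F : ZMod r) := by
  have hrp : r.Prime := Fact.out
  obtain ⟨h, hh⟩ := hrp.odd_of_ne_two hr2
  obtain ⟨v, hv, hv0, hz⟩ := exists_common_zero
    (fun j : Fin h => (polarBilin Q).compl₂ (A ^ ((j : ℕ) + 1))) R (by rw [Fintype.card_fin]; omega)
  have hk : ∀ k, k % r ≠ 0 → polar Q v ((A ^ k) v) = 0 := by
    have hmod : ∀ k, A ^ k = A ^ (k % r) := fun k => by
      conv_lhs => rw [← Nat.mod_add_div k r, pow_add, pow_mul, hAr, one_pow, mul_one]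
    intro k hk
    rw [hmod k]
    have hlt := Nat.mod_lt k hrp.pos
    have hpos : 0 < k % r := Nat.pos_of_ne_zero hk
    generalize k % r = j at hlt hpos
    rcases Nat.lt_or_ge h j with h1 | h1
    · have h3 := hz ⟨r - j - 1, by omega⟩
      rw [LinearMap.compl₂_apply, polarBilin_apply_apply,
        show ((⟨r - j - 1, by omega⟩ : Fin h) : ℕ) + 1 = r - j by simp; omega] at h3
      have e : ∀ n : ℕ, ∀ a b : V, polar Q ((A ^ n) a) ((A ^ n) b) = polar Q a b := by
        intro n
        induction n with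
        | zero => simp
        | succ n ih => intro a b; rw [pow_succ', Module.End.mul_apply, Module.End.mul_apply, polar_map hA, ih]
      rw [← e j v ((A ^ (r - j)) v), ← Module.End.mul_apply, ← pow_add, show j + (r - j) = r by omega, hAr,
        Module.End.one_apply, polar_comm] at h3
      exact h3
    · have h3 := hz ⟨j - 1, by omega⟩
      rwa [LinearMap.compl₂_apply, polarBilin_apply_apply,
        show ((⟨j - 1, by omega⟩ : Fin h) : ℕ) + 1 = j by simp; omega] at h3
  have hgen' : ∀ a b : ℕ, polar Q ((A ^ a) v) ((A ^ b) v) = 0 ∨ a % r = b % r := by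
    intro a b
    by_cases hab : a % r = b % r
    · exact Or.inr hab
    left
    have key : ∀ a b : ℕ, polar Q ((A ^ a) v) ((A ^ (a + b)) v) = polar Q v ((A ^ b) v) := by
      intro a b
      induction a with
      | zero => simp
      | succ a ih =>
        rw [pow_succ', Module.End.mul_apply, Nat.succ_add, pow_succ', Module.End.mul_apply, polar_map hA, ih]
    rcases le_total a b with hle | hle
    · rw [← Nat.add_sub_cancel' hle, key]
      refine hk _ fun h0 => hab ?_
      exact ((Nat.modEq_iff_dvd' hle).2 (Nat.dvd_of_mod_eq_zero h0))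
    · rw [polar_comm, ← Nat.add_sub_cancel' hle, key]
      refine hk _ fun h0 => hab ?_
      exact ((Nat.modEq_iff_dvd' hle).2 (Nat.dvd_of_mod_eq_zero h0)).symm
  have hQv : Q v = 0 := value_eq hA hr hAr (hRT hv) hgen'
  have hgen : ∀ a b : ℕ, polar Q ((A ^ a) v) ((A ^ b) v) = 0 := by
    intro a b
    rcases hgen' a b with h | h
    · exact h
    have e : A ^ a = A ^ b := by
      rw [← Nat.mod_add_div a r, ← Nat.mod_add_div b r, pow_add, pow_add, pow_mul, pow_mul, hAr,
        one_pow, one_pow, h]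
    have hQb : Q ((A ^ b) v) = 0 := by
      clear h e
      induction b with
      | zero => simpa using hQv
      | succ b ih => rw [pow_succ', Module.End.mul_apply, hA, ih]
    rw [e, polar_self, hQb, smul_zero]
  set W := Submodule.span F (Set.range fun k : ℕ => (A ^ k) v) with hW
  have hWR : W ≤ R := by
    rw [hW, Submodule.span_le]
    rintro _ ⟨k, rfl⟩
    exact pow_mem hRi hv k
  have hWi : W.map A ≤ W := by
    rw [hW, Submodule.map_span, Submodule.span_le]
    rintro _ ⟨_, ⟨k, rfl⟩, rfl⟩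
    exact Submodule.subset_span ⟨k + 1, by simp only; rw [pow_succ', Module.End.mul_apply]⟩
  have hWT : TS Q W := by
    intro x hx
    have hpol : ∀ y ∈ W, ∀ k : ℕ, polar Q y ((A ^ k) v) = 0 := by
      intro y hy k
      induction hy using Submodule.span_induction with
      | mem y hy => obtain ⟨a, rfl⟩ := hy; exact hgen a k
      | zero => simp
      | add y z _ _ h1 h2 => simp [h1, h2]
      | smul c y _ h1 => simp [h1]
    have hpol2 : ∀ y ∈ W, ∀ z ∈ W, polar Q y z = 0 := by
      intro y hy z hz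
      induction hz using Submodule.span_induction with
      | mem z hz => obtain ⟨k, rfl⟩ := hz; exact hpol y hy k
      | zero => simp
      | add a b _ _ h3 h4 => simp [h3, h4]
      | smul c a _ h3 => simp [h3]
    induction hx using Submodule.span_induction with
    | mem x hx =>
      obtain ⟨k, rfl⟩ := hx
      have : ∀ n : ℕ, Q ((A ^ n) v) = 0 := by
        intro n
        induction n with
        | zero => simpa using hQv
        | succ n ih => rw [pow_succ', Module.End.mul_apply, hA, ih]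
      exact this k
    | zero => simp
    | add x z hx hz h1 h2 =>
      rw [QuadraticMap.map_add Q, h1, h2, zero_add, zero_add]
      exact hpol2 x hx z hz
    | smul c x _ h1 => rw [QuadraticMap.map_smul, h1, smul_zero]
  have hne : W ≠ ⊥ := fun e => hv0 (by
    have hm : v ∈ W := Submodule.subset_span ⟨0, by simp⟩
    rwa [e, Submodule.mem_bot] at hm)
  obtain ⟨U, hU, hUi, hUd⟩ := exists_simple hr hAr (hWR.trans hRT) hWi hne
  exact ⟨U, hU.trans hWR, hUi, hWT.mono hU, hUd⟩

end Order

end Cfsg.Agent.QuadInvariant97
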