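import Mathlib
import Cfsg.Agent.Lib.QuadInvariant97
import Cfsg.Agent.Lib.OrthPrimeOrderClasses73
import Cfsg.Agent.Lib.Witt

/-!
The anisotropic dimension of a non-degenerate quadratic space over a finite field, its additivity
along orthogonal sums, and models of each kind.
-/

set_option autoImplicit false

namespace Cfsg.Agent.OrthTSKind97

open Module QuadraticMap
open Cfsg.Agent.QuadInvariant97 (TS ND)
open Cfsg.Agent.OrthTypeCount73 (Prof prof_qPlus prof_qMinus iso_odd)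

universe u v v'

variable {F : Type u} [Field F] {V : Type v} [AddCommGroup V] [Module F V]
  {V' : Type v'} [AddCommGroup V'] [Module F V']

/-- The anisotropic dimension is `κ`. -/
def Ty (Q : QuadraticForm F V) (κ : ℕ) : Prop :=
  ∃ w, finrank F V = 2 * w + κ ∧ κ ≤ 2 ∧ (∃ U, TS Q U ∧ finrank F ↥U = w) ∧
    ∀ U, TS Q U → finrank F ↥U ≤ w

/-- The sign attached to a kind. -/
def sgn (κ : ℕ) : ℤ := if κ = 2 then -1 else 1

/-- The kind of the complement of a summand of kind `b`. -/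
def fl (b κ : ℕ) : ℕ := if b = 2 then 2 - κ else κ

variable {Q : QuadraticForm F V} {κ : ℕ}

theorem Ty.le_two (h : Ty Q κ) : κ ≤ 2 := h.choose_spec.2.1

theorem Ty.le_finrank (h : Ty Q κ) : κ ≤ finrank F V := by
  obtain ⟨w, h1, -⟩ := h; omega

theorem Ty.mod_two (h : Ty Q κ) : finrank F V % 2 = κ % 2 := by
  obtain ⟨w, h1, -⟩ := h; omega

theorem Ty.bound (h : Ty Q κ) {U : Submodule F V} (hU : TS Q U) :
    2 * finrank F ↥U + κ ≤ finrank F V := by
  obtain ⟨w, h1, -, -, h4⟩ := h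
  have := h4 U hU
  omega

theorem Ty.exists_ts [FiniteDimensional F V] (h : Ty Q κ) {s : ℕ} (hs : 2 * s + κ ≤ finrank F V) :
    ∃ U, TS Q U ∧ finrank F ↥U = s := by
  obtain ⟨w, h1, -, ⟨U, hU, hUd⟩, -⟩ := h
  obtain ⟨S, -, hSU, hSd⟩ := PrimeOrderModule84.exists_between (S := ⊥) (T := U) bot_le (k := s)
    (by simp) (by omega)
  exact ⟨S, hU.mono hSU, hSd⟩

theorem Ty.unique (h : Ty Q κ) {κ' : ℕ} (h' : Ty Q κ') : κ = κ' := by
  obtain ⟨w, h1, -, ⟨U, hU, hUd⟩, h4⟩ := h
  obtain ⟨w', h1', -, ⟨U', hU', hUd'⟩, h4'⟩ := h'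
  have := h4 U' hU'
  have := h4' U hU
  omega

/-- Transport along a similitude. -/
theorem Ty.of_sim (h : Ty Q κ) {Q' : QuadraticForm F V'} (φ : V ≃ₗ[F] V') {c : F} (hc : c ≠ 0)
    (hφ : ∀ v, Q' (φ v) = c * Q v) : Ty Q' κ := by
  obtain ⟨w, h1, h2, ⟨U, hU, hUd⟩, h4⟩ := h
  refine ⟨w, by rw [← φ.finrank_eq, h1], h2, ⟨U.map (φ : V →ₗ[F] V'), ?_,
    by rw [LinearEquiv.finrank_map_eq, hUd]⟩, fun W hW => ?_⟩
  · rintro _ ⟨u, hu, rfl⟩
    show Q' (φ u) = 0
    rw [hφ, hU u hu, mul_zero]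
  · rw [← LinearEquiv.finrank_map_eq φ.symm W]
    refine h4 _ ?_
    rintro _ ⟨u, hu, rfl⟩
    show Q (φ.symm u) = 0
    have := hφ (φ.symm u)
    rw [φ.apply_symm_apply, hW u hu] at this
    exact (mul_eq_zero.1 this.symm).resolve_left hc

theorem nd_restrict {R : Submodule F V} (hR : ND Q R) :
    (polarBilin (Q.restrict R)).Nondegenerate := by
  have key : ∀ x : R, (∀ y : R, polar Q (x : V) y = 0) → x = 0 := fun x hx =>
    Subtype.ext (hR x x.2 fun v hv => hx ⟨v, hv⟩)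
  refine ⟨fun x hx => key x fun y => ?_, fun x hx => key x fun y => ?_⟩
  · exact hx y
  · rw [polar_comm]
    exact hx y

theorem nd_top (hQ : (polarBilin Q).Nondegenerate) : ND Q ⊤ :=
  fun u _ h => hQ.1 u fun v => h v trivial

/-- An orthogonal complement is non-degenerate. -/
theorem nd_of_compl (hQ : (polarBilin Q).Nondegenerate) {R T : Submodule F V} (hc : IsCompl R T)
    (ho : ∀ a ∈ R, ∀ b ∈ T, polar Q a b = 0) : ND Q R := by
  intro u hu h
  refine hQ.1 u fun v => ?_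
  obtain ⟨a, ha, b, hb, rfl⟩ := Submodule.mem_sup.1 (hc.sup_eq_top ▸ (Submodule.mem_top : v ∈ ⊤))
  show polar Q u (a + b) = 0
  rw [polar_add_right, h a ha, ho u hu b hb, add_zero]

/-- The sum of an orthogonal decomposition, as an isometry. -/
theorem exists_iso_compl {R T : Submodule F V} (hc : IsCompl R T)
    (ho : ∀ a ∈ R, ∀ b ∈ T, polar Q a b = 0) :
    ∀ p : R × T, Q (Submodule.prodEquivOfIsCompl R T hc p) = (Q.restrict R).prod (Q.restrict T) p := by
  rintro ⟨a, b⟩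
  simp [QuadraticMap.map_add Q, ho a a.2 b b.2]

section Finite

variable [Fintype F] [FiniteDimensional F V]

omit [Fintype F] in
theorem ty_of_decomp {k : ℕ} {e f : Fin k → V} {W : Submodule F V}
    (hQ : (polarBilin Q).Nondegenerate) (h : QuadClassify.Decomp Q ⊤ k e f W)
    (hW : finrank F ↥W ≤ 2) : Ty Q (finrank F ↥W) := by
  obtain ⟨hH, -, -, -, horth, hd, han, hnd⟩ := h
  rw [finrank_top] at hd
  have hli : LinearIndependent F e := by
    rw [Fintype.linearIndependent_iff]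
    intro g hg i
    have := congrArg (fun v => polar Q v (f i)) hg
    rw [← polarBilin_apply_apply, map_sum, LinearMap.sum_apply] at this
    simpa [hH.pef] using this
  set E := Submodule.span F (Set.range e) with hE
  have hEd : finrank F ↥E = k := by rw [hE, finrank_span_eq_card hli, Fintype.card_fin]
  have hET : TS Q E := by
    intro x hx
    obtain ⟨c, rfl⟩ := Submodule.mem_span_range_iff_exists_fun F |>.1 hx
    rw [QuadClassify.map_sum_ortho Q _ _ fun i _ j _ _ => by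
      simp [polar_smul_left, polar_smul_right, hH.pee]]
    simp [QuadraticMap.map_smul, hH.qe]
  refine ⟨k, hd.symm, hW, ⟨E, hET, hEd⟩, fun U hU => ?_⟩
  by_contra hlt
  push Not at hlt
  obtain ⟨U₀, -, hU₀, hU₀d⟩ := PrimeOrderModule84.exists_between (S := ⊥) (T := U) bot_le (k := k)
    (by simp) hlt.le
  obtain ⟨g, hg, hgE⟩ : ∃ g : V ≃ₗ[F] V, (∀ v, Q (g v) = Q v) ∧ ∀ v ∈ E, g v ∈ U₀ := by
    let φ₀ : E ≃ₗ[F] U₀ := LinearEquiv.ofFinrankEq E U₀ (by rw [hEd, hU₀d])
    obtain ⟨g, hg, hgX⟩ := Witt.quad_extend Q hQ E (U₀.subtype.comp φ₀.toLinearMap)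
      (Subtype.val_injective.comp φ₀.injective) fun a => by
        show Q ((φ₀ a : U₀) : V) = Q a
        rw [hU _ (hU₀ (φ₀ a).2), hET _ a.2]
    exact ⟨g, hg, fun v hv => by rw [hgX ⟨v, hv⟩]; exact (φ₀ ⟨v, hv⟩).2⟩
  set U' := U.comap (g : V →ₗ[F] V) with hU'
  have hEU : E ≤ U' := fun v hv => hU₀ (hgE v hv)
  have hU'T : TS Q U' := fun v hv => by rw [← hg v]; exact hU _ hv
  have hlt' : E < U' := by
    refine lt_of_le_of_ne hEU fun he => ?_
    have h2 : U'.map (g : V →ₗ[F] V) = U := Submodule.map_comap_eq_of_surjective g.surjective U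
    have h1 := LinearEquiv.finrank_map_eq g U'
    rw [h2, ← he] at h1
    omega
  obtain ⟨x, hx, hxE⟩ := SetLike.exists_of_lt hlt'
  refine hxE ?_
  have hspan : ∀ y ∈ W, ∀ a b : Fin k → F,
      (∀ i, polar Q (e i) ((∑ j, a j • e j) + (∑ j, b j • f j) + y) = b i) := by
    intro y hy a b i
    rw [← polarBilin_apply_apply, map_add, map_add, map_sum, map_sum]
    simp [hH.pee, hH.pef, (horth i y hy).1]
  -- a basis adapted to the decomposition
  let z := Module.finBasis F ↥W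
  obtain ⟨B, hBe, hBf, hBz, -⟩ := hH.exists_basis (z := fun l => ((z l : ↥W) : V))
    (z.linearIndependent.map' W.subtype (Submodule.ker_subtype W))
    (fun i l => (horth i _ (z l).2).1) (fun i l => (horth i _ (z l).2).2) (by simp; omega)
  have hdec := B.sum_repr x
  rw [Fintype.sum_sum_type, Fintype.sum_sum_type] at hdec
  simp only [hBe, hBf, hBz] at hdec
  set y := ∑ l, B.repr x (.inr l) • ((z l : ↥W) : V)
  have hy : y ∈ W := W.sum_mem fun l _ => W.smul_mem _ (z l).2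
  have hb : ∀ i, B.repr x (.inl (.inr i)) = 0 := by
    intro i
    rw [← hspan y hy (fun i => B.repr x (.inl (.inl i))) (fun i => B.repr x (.inl (.inr i))) i, hdec]
    exact hU'T.polar (hEU (Submodule.subset_span ⟨i, rfl⟩)) hx
  simp only [hb, zero_smul, Finset.sum_const_zero, add_zero] at hdec
  have hQy : Q y = 0 := by
    rw [← hU'T x hx, ← hdec, QuadraticMap.map_add Q, hET _ (Submodule.sum_mem _ fun i _ =>
      Submodule.smul_mem _ _ (Submodule.subset_span ⟨i, rfl⟩)), zero_add, left_eq_add]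
    simp only [← polarBilin_apply_apply, map_sum, map_smul, LinearMap.sum_apply, LinearMap.smul_apply]
    simp [(horth _ y hy).1]
  rw [han y hy hQy, add_zero] at hdec
  rw [← hdec]
  exact Submodule.sum_mem _ fun i _ => Submodule.smul_mem _ _ (Submodule.subset_span ⟨i, rfl⟩)

theorem exists_ty (hQ : (polarBilin Q).Nondegenerate) : ∃ κ, Ty Q κ := by
  obtain ⟨k, e, f, W, h, hW⟩ := QuadClassify.exists_decomp Q hQ
  exact ⟨_, ty_of_decomp hQ h hW⟩

theorem Ty.exists_decomp (hQ : (polarBilin Q).Nondegenerate) (h : Ty Q κ) :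
    ∃ (k : ℕ) (e f : Fin k → V) (W : Submodule F V), QuadClassify.Decomp Q ⊤ k e f W ∧
      finrank F ↥W = κ ∧ finrank F V = 2 * k + κ := by
  obtain ⟨k, e, f, W, hd, hW⟩ := QuadClassify.exists_decomp Q hQ
  have he : finrank F ↥W = κ := (ty_of_decomp hQ hd hW).unique h
  have := hd.2.2.2.2.2.1
  rw [finrank_top] at this
  exact ⟨k, e, f, W, hd, he, by omega⟩

omit [Fintype F] in
/-- A totally singular subspace lies in one of the largest dimension. -/
theorem Ty.extend (hQ : (polarBilin Q).Nondegenerate) (h : Ty Q κ) {U : Submodule F V} (hU : TS Q U) :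
    ∃ L, U ≤ L ∧ TS Q L ∧ 2 * finrank F ↥L + κ = finrank F V := by
  obtain ⟨w, h1, -, ⟨L₀, hL₀, hL₀d⟩, h4⟩ := h
  obtain ⟨U₀, -, hU₀, hU₀d⟩ := PrimeOrderModule84.exists_between (S := ⊥) (T := L₀) bot_le
    (k := finrank F ↥U) (by simp) (by rw [hL₀d]; exact h4 U hU)
  let φ₀ : U₀ ≃ₗ[F] U := LinearEquiv.ofFinrankEq U₀ U hU₀d
  obtain ⟨g, hg, hgX⟩ := Witt.quad_extend Q hQ U₀ (U.subtype.comp φ₀.toLinearMap)
    (Subtype.val_injective.comp φ₀.injective) fun a => by
      show Q ((φ₀ a : U) : V) = Q a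
      rw [hU _ (φ₀ a).2, hL₀ _ (hU₀ a.2)]
  refine ⟨L₀.map (g : V →ₗ[F] V), fun u hu => ⟨(φ₀.symm ⟨u, hu⟩ : U₀), hU₀ (φ₀.symm ⟨u, hu⟩).2, ?_⟩,
    ?_, by rw [LinearEquiv.finrank_map_eq, hL₀d]; omega⟩
  · show g ((φ₀.symm ⟨u, hu⟩ : U₀) : V) = u
    rw [hgX]
    simp
  · rintro _ ⟨x, hx, rfl⟩
    show Q (g x) = 0
    rw [hg, hL₀ x hx]

theorem Ty.prof (hQ : (polarBilin Q).Nondegenerate) (h : Ty Q κ) (he : κ ≠ 1) :
    ∃ N, Prof ⇑Q N (sgn κ * (Fintype.card F : ℤ) ^ (finrank F V / 2)) := by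
  have := h.le_two
  obtain ⟨k, e, f, W, hd, hW, hn⟩ := h.exists_decomp hQ
  rcases (show κ = 0 ∨ κ = 2 by omega) with rfl | rfl
  · obtain ⟨g, hg⟩ := QuadClassify.iso_plus Q hd.1 (by omega)
    obtain ⟨N, hN⟩ := prof_qPlus (F := F) k
    refine ⟨N, ?_⟩
    rw [sgn, if_neg (by omega), one_mul, show finrank F V / 2 = k by omega]
    exact hN.map g.toEquiv.symm fun v => by rw [← hg]; simp
  · obtain ⟨a, b, hab⟩ := OrthPrimeOrderClasses73.exists_aniso (F := F)
    obtain ⟨g, hg⟩ := QuadClassify.iso_minus Q hd hW hab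
    obtain ⟨N, hN⟩ := prof_qMinus k hab
    refine ⟨N, ?_⟩
    rw [sgn, if_pos rfl, show finrank F V / 2 = k + 1 by omega, neg_one_mul]
    exact hN.map g.toEquiv.symm fun v => by rw [← hg]; simp

omit [FiniteDimensional F V] in
theorem card_pow_pos (m : ℕ) : (0 : ℤ) < (Fintype.card F : ℤ) ^ m :=
  pow_pos (by exact_mod_cast Fintype.card_pos) _

theorem sgn_inj {a b : ℕ} {m : ℕ} (ha : a ≤ 2) (hb : b ≤ 2) (ha1 : a ≠ 1) (hb1 : b ≠ 1)
    (h : sgn a * (Fintype.card F : ℤ) ^ m = sgn b * (Fintype.card F : ℤ) ^ m) : a = b := by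
  have h2 := mul_right_cancel₀ (card_pow_pos (F := F) m).ne' h
  unfold sgn at h2
  split_ifs at h2 <;> omega

/-- Non-degenerate spaces of the same dimension and kind are similar. -/
theorem exists_sim [FiniteDimensional F V'] {Q' : QuadraticForm F V'}
    (hQ : (polarBilin Q).Nondegenerate) (hQ' : (polarBilin Q').Nondegenerate) (h : Ty Q κ)
    (h' : Ty Q' κ) (hdim : finrank F V = finrank F V') :
    ∃ (φ : V ≃ₗ[F] V') (c : F), c ≠ 0 ∧ ∀ v, Q' (φ v) = c * Q v := by
  have := h.le_two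
  obtain ⟨k, e, f, W, hd, hW, hn⟩ := h.exists_decomp hQ
  obtain ⟨k', e', f', W', hd', hW', hn'⟩ := h'.exists_decomp hQ'
  rcases (show κ = 1 ∨ κ = 0 ∨ κ = 2 by omega) with rfl | h02
  · obtain ⟨c, g, hc, hg⟩ := iso_odd Q hQ (m := k) hn
    obtain ⟨c', g', hc', hg'⟩ := iso_odd Q' hQ' (m := k) (by omega)
    refine ⟨g.trans g'.symm, c / c', div_ne_zero hc hc', fun v => ?_⟩
    have h1 := hg' (g'.symm (g v))
    rw [g'.apply_symm_apply, hg] at h1
    rw [LinearEquiv.trans_apply, div_mul_eq_mul_div, eq_div_iff hc', mul_comm _ c', ← h1]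
  · obtain rfl : k = k' := by omega
    obtain ⟨g, hg⟩ := QuadClassify.iso_of_decomp Q Q' hd hd' (hW'.trans hW.symm) (by omega)
    exact ⟨g, 1, one_ne_zero, fun v => by rw [hg, one_mul]⟩

theorem ty_prod [FiniteDimensional F V'] {Q' : QuadraticForm F V'} {a b : ℕ}
    (hQ : (polarBilin Q).Nondegenerate) (hQ' : (polarBilin Q').Nondegenerate) (ha : Ty Q a)
    (ha0 : a = 0 ∨ a = 2) (hb : Ty Q' b) : Ty (Q.prod Q') (fl a b) := by
  have hnd := OrthPrimeOrderClasses73.nd_prod hQ hQ'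
  obtain ⟨c, hc⟩ := exists_ty hnd
  suffices h : c = fl a b by rwa [← h]
  have hm := ha.mod_two
  have hm' := hb.mod_two
  have hmc := hc.mod_two
  rw [Module.finrank_prod] at hmc
  have := hb.le_two
  have := hc.le_two
  by_cases hb1 : b = 1
  · subst hb1
    unfold fl
    split_ifs <;> omega
  obtain ⟨N, hN⟩ := ha.prof hQ (by omega)
  obtain ⟨M, hM⟩ := hb.prof hQ' hb1
  obtain ⟨L, hL⟩ := hc.prof hnd (by omega)
  have : Finite V := Module.finite_of_finite F
  have : Finite V' := Module.finite_of_finite F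
  have h1 : sgn c * (Fintype.card F : ℤ) ^ (finrank F (V × V') / 2) =
      sgn (fl a b) * (Fintype.card F : ℤ) ^ (finrank F (V × V') / 2) := by
    refine (hL.unique ((hN.prod hM).map (Equiv.refl _) fun p => by
      simp [QuadraticMap.prod_apply])).trans ?_
    rw [Module.finrank_prod, show (finrank F V + finrank F V') / 2 = finrank F V / 2 + finrank F V' / 2
      by omega, pow_add]
    have hs : sgn (fl a b) = sgn a * sgn b := by
      rcases ha0 with rfl | rfl <;> rcases (show b = 0 ∨ b = 2 by omega) with rfl | rfl <;>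
        norm_num [fl, sgn]
    rw [hs]
    ring
  exact sgn_inj hc.le_two (by unfold fl; split_ifs <;> omega) (by omega)
    (by unfold fl; split_ifs <;> omega) h1

/-- The kind of an orthogonal complement. -/
theorem ty_compl {R T : Submodule F V} (hQ : (polarBilin Q).Nondegenerate) (hc : IsCompl R T)
    (ho : ∀ a ∈ R, ∀ b ∈ T, polar Q a b = 0) {a b : ℕ} (hκ : Ty Q κ) (ha : Ty (Q.restrict T) a)
    (ha0 : a = 0 ∨ a = 2) (hb : Ty (Q.restrict R) b) : b = fl a κ := by
  have hR := nd_of_compl hQ hc ho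
  have hT := nd_of_compl hQ hc.symm fun x hx y hy => by rw [polar_comm]; exact ho y hy x hx
  have h := ty_prod (nd_restrict hT) (nd_restrict hR) ha ha0 hb
  have h' := h.of_sim ((LinearEquiv.prodComm F T R).trans (Submodule.prodEquivOfIsCompl R T hc))
    one_ne_zero (Q' := Q) fun p => by
      rw [LinearEquiv.trans_apply, exists_iso_compl hc ho, one_mul, LinearEquiv.prodComm_apply]
      simp [QuadraticMap.prod_apply, add_comm]
  have := hκ.unique h'
  have := hb.le_two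
  unfold fl at *
  split_ifs at * <;> omega

end Finite

/-- A space of each kind exists in each dimension. -/
theorem exists_model [Fintype F] {n κ : ℕ} (hκ : κ ≤ 2) (hn : κ ≤ n) (hmod : n % 2 = κ % 2)
    (h2 : κ = 1 → (2 : F) ≠ 0) :
    ∃ Q : QuadraticForm F (Fin n → F), (polarBilin Q).Nondegenerate ∧ Ty Q κ := by
  classical
  suffices h : ∃ (ι : Type) (_ : Fintype ι) (Q : QuadraticForm F (ι → F)),
      Fintype.card ι = n ∧ (polarBilin Q).Nondegenerate ∧ Ty Q κ by
    obtain ⟨ι, _, Q, hc, hQ, hT⟩ := h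
    let φ := LinearEquiv.funCongrLeft F F (Fintype.equivFinOfCardEq hc)
    refine ⟨Q.comp (φ : (Fin n → F) →ₗ[F] (ι → F)), ?_, ?_⟩
    · exact OrthPrimeOrderClasses73.nd_of_iso hQ φ fun v => rfl
    · exact hT.of_sim φ.symm one_ne_zero fun v => by
        show Q (φ (φ.symm v)) = 1 * Q v
        rw [φ.apply_symm_apply, one_mul]
  rcases (show κ = 0 ∨ κ = 1 ∨ κ = 2 by omega) with rfl | rfl | rfl
  · refine ⟨Fin (n / 2) ⊕ Fin (n / 2), inferInstance, QuadClassify.qPlus (n / 2) F, by simp; omega,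
      OmegaStd.nondeg_plus, ?_⟩
    refine ⟨n / 2, by simp; omega, by omega, ⟨_, OmegaStd.lagr_plus.1, ?_⟩, fun U hU => ?_⟩
    · have := OmegaStd.finrank_ker_funLeft (F := F)
        (j := (Sum.inr : Fin (n / 2) → Fin (n / 2) ⊕ Fin (n / 2))) Sum.inr_injective
      simp at this
      omega
    · have := QuadInvariant97.two_mul_le (nd_top OmegaStd.nondeg_plus) (le_top : U ≤ ⊤) hU
      simp at this
      omega
  · have hnd := OmegaMaxGlue.nondeg_odd (F := F) (m := n / 2) (h2 rfl)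
    obtain ⟨c, hc⟩ := exists_ty hnd
    refine ⟨Unit ⊕ (Fin (n / 2) ⊕ Fin (n / 2)), inferInstance, _, by simp; omega, hnd, ?_⟩
    have hm := hc.mod_two
    have := hc.le_two
    simp at hm
    obtain rfl : c = 1 := by omega
    exact hc
  · obtain ⟨a, b, hab⟩ := OrthPrimeOrderClasses73.exists_aniso (F := F)
    have hnd := OrthPrimeOrderClasses73.nd_minus (n / 2 - 1) hab
    obtain ⟨c, hc⟩ := exists_ty hnd
    refine ⟨(Fin (n / 2 - 1) ⊕ Fin (n / 2 - 1)) ⊕ Fin 2, inferInstance, _, by simp; omega, hnd, ?_⟩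
    have hm := hc.mod_two
    have := hc.le_two
    simp at hm
    obtain ⟨N, hN⟩ := hc.prof hnd (by omega)
    obtain ⟨M, hM⟩ := prof_qMinus (n / 2 - 1) hab
    have h := hN.unique (hM.map (g := ⇑(QuadClassify.qMinus (n / 2 - 1) F a b)) (Equiv.refl _) fun v => by
      rw [QuadClassify.qMinus_coe]; rfl)
    suffices c = 2 by rwa [this] at hc
    by_contra hc2
    rw [sgn, if_neg hc2, one_mul] at h
    have h1 := card_pow_pos (F := F) (finrank F ((Fin (n / 2 - 1) ⊕ Fin (n / 2 - 1)) ⊕ Fin 2 → F) / 2)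
    have h2 := card_pow_pos (F := F) (n / 2 - 1 + 1)
    omega

end Cfsg.Agent.OrthTSKind97
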