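import Mathlib
import Cfsg.Agent.Lib.OrthTSKind97

/-!
Isometries of odd prime order `r ≠ p`: the fixed space, the moved space and their invariant
totally singular subspaces.
-/

set_option autoImplicit false

namespace Cfsg.Agent.OrthTSSplit97

open Module QuadraticMap Polynomial
open Cfsg.Agent.QuadInvariant97 (TS ND)
open Cfsg.Agent.OrthTSKind97
open Cfsg.Agent.PrimeOrderModule84 (map_le_iff')

universe u v

/-- Half the dimension of one block. -/
def bet (i : ℕ) : ℕ := if Even i then i / 2 else i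

/-- The kind of the fixed space when the moved space has `K` blocks. -/
def kap (i κ K : ℕ) : ℕ := if Even i ∧ Odd K then 2 - κ else κ

/-- `K` blocks fit in. -/
def Valid (i n κ K : ℕ) : Prop := bet i * K + kap i κ K / 2 ≤ n / 2

/-- The largest totally singular dimension in the fixed space. -/
def wit (i n κ K : ℕ) : ℕ := n / 2 - (bet i * K + kap i κ K / 2)

/-- The isometry `A` fixes some totally singular `m`-space. -/
def Fixes {F : Type u} [Field F] {V : Type v} [AddCommGroup V] [Module F V]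
    (Q : QuadraticForm F V) (A : Module.End F V) (m : ℕ) : Prop :=
  ∃ W : Submodule F V, finrank F ↥W = m ∧ TS Q W ∧ W.map A ≤ W

variable {F : Type u} [Field F] {V : Type v} [AddCommGroup V] [Module F V]
  {Q : QuadraticForm F V} {A : Module.End F V}

theorem orth_ker_range (hA : ∀ v, Q (A v) = Q v) :
    ∀ a ∈ LinearMap.ker (A - 1), ∀ b ∈ LinearMap.range (A - 1), polar Q a b = 0 := by
  rintro a ha _ ⟨w, rfl⟩
  rw [LinearMap.mem_ker, LinearMap.sub_apply, Module.End.one_apply, sub_eq_zero] at ha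
  rw [LinearMap.sub_apply, Module.End.one_apply, polar_sub_right]
  nth_rewrite 1 [← ha]
  rw [QuadInvariant97.polar_map hA, sub_self]

variable [Fintype F] [FiniteDimensional F V] {r i : ℕ} [Fact r.Prime]

omit [FiniteDimensional F V] [Fintype F] in
theorem kind_even {i : ℕ} (h : Even i) : bet i = i / 2 ∧ 2 * bet i = i := by
  obtain ⟨j, rfl⟩ := h
  rw [bet, if_pos ⟨j, rfl⟩]
  omega

theorem two_bet (i : ℕ) : (Even i → 2 * bet i = i) ∧ (Odd i → bet i = i) := by
  refine ⟨fun h => (kind_even h).2, fun h => ?_⟩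
  rw [bet, if_neg (Nat.not_even_iff_odd.2 h)]

theorem bet_pos {i : ℕ} (hi : 0 < i) : 0 < bet i := by
  rcases Nat.even_or_odd i with h | h
  · have := (two_bet i).1 h; omega
  · rw [(two_bet i).2 h]; exact hi

/-- A free isometry of odd prime order lives on a space of forced kind. -/
theorem kind_free (hQ : (polarBilin Q).Nondegenerate) (hA : ∀ v, Q (A v) = Q v) (hr2 : r ≠ 2)
    (hAr : A ^ r = 1) (hfix : ∀ v, A v = v → v = 0) (hi : i = orderOf (Fintype.card F : ZMod r))
    (hi0 : 0 < i) {K : ℕ} (hd : finrank F V = 2 * (bet i * K)) :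
    Ty Q (if Even i ∧ Odd K then 2 else 0) := by
  obtain ⟨c, hc⟩ := exists_ty hQ
  have hm := hc.mod_two
  have h2 := hc.le_two
  obtain ⟨N, hN⟩ := hc.prof hQ (by omega)
  have : Finite V := Module.finite_of_finite F
  have hdvd := OrthTypeCount73.dvd_of_free (Fact.out : r.Prime) ⇑Q hN (QuadraticMap.map_zero Q) A hA hAr hfix
  rw [hd, Nat.mul_div_cancel_left _ two_pos] at hdvd
  suffices h : c = if Even i ∧ Odd K then 2 else 0 by rwa [← h]
  have hp := OrthPrimeOrderClasses73.pow_half (r := r) hi hi0 K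
  rw [← ZMod.intCast_zmod_eq_zero_iff_dvd] at hdvd
  push_cast at hdvd
  have hr3 : (2 : ZMod r) ≠ 0 := by
    have h2' : ((2 : ℕ) : ZMod r) ≠ 0 := by
      rw [Ne, ZMod.natCast_eq_zero_iff, Nat.prime_dvd_prime_iff_eq (Fact.out : r.Prime) Nat.prime_two]
      exact hr2
    exact_mod_cast h2'
  rcases Nat.even_or_odd i with he | ho
  · rw [hp.2 (bet i) ((two_bet i).1 he).symm] at hdvd
    rcases Nat.even_or_odd K with hK | hK
    · rw [if_neg (by simp [Nat.not_odd_iff_even.2 hK])]
      rw [hK.neg_one_pow, sgn] at hdvd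
      split_ifs at hdvd with h
      · exact absurd (by push_cast at hdvd; linear_combination -hdvd) hr3
      · omega
    · rw [if_pos ⟨he, hK⟩]
      rw [hK.neg_one_pow, sgn] at hdvd
      split_ifs at hdvd with h
      · exact h
      · exact absurd (by push_cast at hdvd; linear_combination -hdvd) hr3
  · rw [if_neg (by simp [Nat.not_even_iff_odd.2 ho])]
    rw [(two_bet i).2 ho, hp.1 ho, sgn] at hdvd
    split_ifs at hdvd with h
    · exact absurd (by push_cast at hdvd; linear_combination -hdvd) hr3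
    · omega

/-- The dimensions and kinds of the fixed and the moved space. -/
theorem exists_K (hQ : (polarBilin Q).Nondegenerate) (hA : ∀ v, Q (A v) = Q v) (hr : (r : F) ≠ 0)
    (hr2 : r ≠ 2) (hAr : A ^ r = 1) (hi : i = orderOf (Fintype.card F : ZMod r)) {κ : ℕ}
    (hκ : Ty Q κ) :
    ∃ K, finrank F ↥(LinearMap.range (A - 1)) = 2 * (bet i * K) ∧ (A ≠ 1 → 1 ≤ K) ∧
      Valid i (finrank F V) κ K ∧ Ty (Q.restrict (LinearMap.ker (A - 1))) (kap i κ K) ∧
      finrank F ↥(LinearMap.ker (A - 1)) + 2 * (bet i * K) = finrank F V := by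
  have hi0 : 0 < i := hi ▸ PrimeOrderModule84.orderOf_card_pos hr
  set R := LinearMap.ker (A - 1) with hR
  set T := LinearMap.range (A - 1) with hT
  have hc : IsCompl R T := PrimeOrderModule84.isCompl_ker_range hr hAr
  have ho := orth_ker_range hA
  have hTi : T.map A ≤ T := PrimeOrderModule84.range_inv A
  have hTnd : ND Q T := nd_of_compl hQ hc.symm fun x hx y hy => by rw [polar_comm]; exact ho y hy x hx
  obtain ⟨a, ha⟩ := QuadInvariant97.even_of_moved hA hr hr2 hAr hTnd le_rfl hTi
  have hdvd : i ∣ finrank F ↥T := hi ▸ PrimeOrderModule84.dvd_finrank_of_le_range hr hAr hTi le_rfl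
  obtain ⟨K, hK⟩ : ∃ K, finrank F ↥T = 2 * (bet i * K) := by
    rcases Nat.even_or_odd i with he | hoi
    · obtain ⟨K, hK⟩ := hdvd
      exact ⟨K, by rw [← mul_assoc, (two_bet i).1 he, hK]⟩
    · rw [ha, ← two_mul] at hdvd
      obtain ⟨K, hK⟩ := (Nat.Coprime.dvd_of_dvd_mul_left (Nat.coprime_two_right.2 hoi) hdvd)
      exact ⟨K, by rw [(two_bet i).2 hoi, ha, ← hK]; omega⟩
  let AT : Module.End F ↥T := A.restrict (map_le_iff'.1 hTi)
  have hATr : AT ^ r = 1 := by
    refine LinearMap.ext fun v => Subtype.ext ?_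
    rw [Module.End.pow_restrict, LinearMap.coe_restrict_apply, hAr]
    rfl
  have hfix : ∀ v : ↥T, AT v = v → v = 0 := fun v hv => Subtype.ext
    (Submodule.disjoint_def.1 hc.disjoint _ (by
      rw [hR, LinearMap.mem_ker, LinearMap.sub_apply, Module.End.one_apply, sub_eq_zero]
      exact congrArg Subtype.val hv) v.2)
  have hTty : Ty (Q.restrict T) (if Even i ∧ Odd K then 2 else 0) :=
    kind_free (nd_restrict hTnd) (fun v => hA v) hr2 hATr hfix hi hi0 hK
  obtain ⟨b, hb⟩ := exists_ty (nd_restrict (nd_of_compl hQ hc ho))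
  obtain rfl : b = kap i κ K := by
    rw [ty_compl hQ hc ho hκ hTty (by split_ifs <;> simp) hb, fl, kap]
    by_cases h : Even i ∧ Odd K <;> simp [h]
  have hdim : finrank F ↥R + 2 * (bet i * K) = finrank F V := by
    rw [← hK, Submodule.finrank_add_eq_of_isCompl hc]
  refine ⟨K, hK, fun hA1 => ?_, ?_, hb, hdim⟩
  · by_contra h
    refine hA1 (sub_eq_zero.1 (LinearMap.range_eq_bot.1 ?_))
    rw [← hT, ← Submodule.finrank_eq_zero, hK, show K = 0 by omega]
    simp
  · have h1 := hb.le_finrank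
    have h2 := hb.mod_two
    unfold Valid
    omega

/-- The invariant totally singular subspaces which exist. -/
theorem fixes_of (hQ : (polarBilin Q).Nondegenerate) (hA : ∀ v, Q (A v) = Q v) (hr : (r : F) ≠ 0)
    (hr2 : r ≠ 2) (hAr : A ^ r = 1) (hi : i = orderOf (Fintype.card F : ZMod r)) {t : ℕ}
    (ht : t * i = r - 1) {κ K : ℕ}
    (hT : finrank F ↥(LinearMap.range (A - 1)) = 2 * (bet i * K))
    (hR : Ty (Q.restrict (LinearMap.ker (A - 1))) (kap i κ K))
    (hdim : finrank F ↥(LinearMap.ker (A - 1)) + 2 * (bet i * K) = finrank F V)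
    {j s m : ℕ} (hj : j = 0 ∨ (Odd i ∧ j ≤ K) ∨ 2 * j + t ≤ K + 1)
    (hs : s ≤ wit i (finrank F V) κ K) (hm : m = j * i + s) : Fixes Q A m := by
  have hi0 : 0 < i := hi ▸ PrimeOrderModule84.orderOf_card_pos hr
  have hAi := QuadInvariant97.injective_of_pow (Fact.out : r.Prime).pos hAr
  set R := LinearMap.ker (A - 1)
  set T := LinearMap.range (A - 1)
  have hc : IsCompl R T := PrimeOrderModule84.isCompl_ker_range hr hAr
  have ho := orth_ker_range hA
  have hTi : T.map A ≤ T := PrimeOrderModule84.range_inv A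
  have hTnd : ND Q T := nd_of_compl hQ hc.symm fun x hx y hy => by rw [polar_comm]; exact ho y hy x hx
  obtain ⟨U, hUT, hUi, hU, hUd⟩ : ∃ U, U ≤ T ∧ U.map A ≤ U ∧ TS Q U ∧ finrank F ↥U = j * i := by
    by_cases hj0 : j = 0
    · exact ⟨⊥, bot_le, by simp, TS.bot, by simp [hj0]⟩
    obtain ⟨j, rfl⟩ : ∃ l, j = l + 1 := ⟨j - 1, by omega⟩
    rcases hj.resolve_left hj0 with ⟨hoi, hjK⟩ | hjK
    · refine QuadInvariant97.exists_iter hA hr one_ne_zero (by rw [one_smul, hAr]) hAi (N := 1)
        (fun R' h1 h2 _ h3 => ?_) (j + 1) T le_rfl hTi hTnd (Or.inr ?_)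
      · obtain ⟨U, a, b, c, d⟩ := QuadInvariant97.step_odd hA hr hr2 hAr (hi ▸ hoi) h1 h2
          (fun e => by rw [e, finrank_bot] at h3; omega)
        exact ⟨U, a, b, c, d.trans hi.symm⟩
      · rw [hT, Nat.add_sub_cancel, (two_bet i).2 hoi]
        have : i * (j + 1) ≤ i * K := Nat.mul_le_mul_left i hjK
        rw [Nat.mul_add, Nat.mul_one] at this
        rw [mul_assoc]
        omega
    · refine QuadInvariant97.exists_iter hA hr one_ne_zero (by rw [one_smul, hAr]) hAi (N := r)
        (fun R' h1 h2 _ h3 => ?_) (j + 1) T le_rfl hTi hTnd (Or.inr ?_)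
      · obtain ⟨U, a, b, c, d⟩ := QuadInvariant97.step_many hA hr hr2 hAr h1 h2 h3
        exact ⟨U, a, b, c, d.trans hi.symm⟩
      · rw [hT, Nat.add_sub_cancel]
        have hr1 := (Fact.out : r.Prime).pos
        have h1 : i * (2 * j + t + 1) ≤ i * K := Nat.mul_le_mul_left i (by omega)
        have h2 : i * K ≤ 2 * (bet i * K) := by
          rw [← mul_assoc]
          refine Nat.mul_le_mul_right K ?_
          rcases Nat.even_or_odd i with he | hoi
          · rw [(two_bet i).1 he]
          · rw [(two_bet i).2 hoi]; omega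
        rw [Nat.mul_add, Nat.mul_add, Nat.mul_one, mul_comm i t, ht] at h1
        rw [show 2 * i * j = i * (2 * j) by ring]
        omega
  obtain ⟨S, hS, hSd⟩ := hR.exists_ts (s := s) (by
    have h1 := hR.le_finrank
    have h2 := hR.mod_two
    unfold wit at hs
    omega)
  refine ⟨U ⊔ S.map R.subtype, ?_, ?_, ?_⟩
  · have h := Submodule.finrank_sup_add_finrank_inf_eq U (S.map R.subtype)
    have hb : U ⊓ S.map R.subtype = ⊥ := by
      rw [eq_bot_iff, ← hc.symm.inf_eq_bot]
      exact fun v hv => ⟨hUT hv.1, Submodule.map_subtype_le R S hv.2⟩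
    rw [hb, finrank_bot, Submodule.finrank_map_subtype_eq, hUd, hSd] at h
    omega
  · refine hU.sup ?_ fun u hu w hw => ?_
    · rintro _ ⟨x, hx, rfl⟩
      exact hS x hx
    · rw [polar_comm]
      exact ho w (Submodule.map_subtype_le R S hw) u (hUT hu)
  · rw [Submodule.map_sup]
    exact sup_le_sup hUi (PrimeOrderModule84.map_le_of_le_ker (Submodule.map_subtype_le R S))

omit [Fintype F] [Fact r.Prime] in
/-- An invariant subspace splits along the fixed and the moved space. -/
theorem finrank_split (hr : (r : F) ≠ 0) (hAr : A ^ r = 1) {W : Submodule F V} (hW : W.map A ≤ W) :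
    finrank F ↥W = finrank F ↥(W ⊓ LinearMap.ker (A - 1) : Submodule F V) +
      finrank F ↥(W ⊓ LinearMap.range (A - 1) : Submodule F V) := by
  have hc := PrimeOrderModule84.isCompl_ker_range hr hAr
  have hsup : (W ⊓ LinearMap.ker (A - 1)) ⊔ (W ⊓ LinearMap.range (A - 1)) = W := by
    refine le_antisymm (sup_le inf_le_left inf_le_left) fun v hv => ?_
    set u := (r : F)⁻¹ • ∑ k ∈ Finset.range r, (A ^ k) v with hu
    have huW : u ∈ W := W.smul_mem _ (W.sum_mem fun k _ => SympIsoInvariant84.pow_mem hW hv k)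
    refine Submodule.mem_sup.2 ⟨u, ⟨huW, ?_⟩, v - u, ⟨W.sub_mem hv huW, ?_⟩, add_sub_cancel _ _⟩
    · show (A - 1) u = 0
      rw [hu, map_smul, ← LinearMap.sum_apply, ← Module.End.mul_apply, mul_geom_sum, hAr, sub_self,
        LinearMap.zero_apply, smul_zero]
    · have hv' : v - u = (r : F)⁻¹ • ∑ k ∈ Finset.range r, (v - (A ^ k) v) := by
        rw [Finset.sum_sub_distrib, Finset.sum_const, Finset.card_range, smul_sub, hu,
          ← Nat.cast_smul_eq_nsmul F, smul_smul, inv_mul_cancel₀ hr, one_smul]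
      rw [hv']
      refine Submodule.smul_mem _ _ (Submodule.sum_mem _ fun k _ => ⟨-(∑ l ∈ Finset.range k, A ^ l) v, ?_⟩)
      rw [map_neg, ← Module.End.mul_apply, mul_geom_sum, LinearMap.sub_apply, Module.End.one_apply, neg_sub]
  have h := Submodule.finrank_sup_add_finrank_inf_eq (W ⊓ LinearMap.ker (A - 1))
    (W ⊓ LinearMap.range (A - 1))
  have hb : (W ⊓ LinearMap.ker (A - 1)) ⊓ (W ⊓ LinearMap.range (A - 1)) = ⊥ := by
    rw [eq_bot_iff, ← hc.inf_eq_bot]
    exact fun x hx => ⟨hx.1.2, hx.2.2⟩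
  rw [hsup, hb, finrank_bot] at h
  omega

/-- The dimension of an invariant totally singular subspace. -/
theorem dim_invariant (hr : (r : F) ≠ 0) (hAr : A ^ r = 1)
    (hi : i = orderOf (Fintype.card F : ZMod r)) {κ K : ℕ}
    (hR : Ty (Q.restrict (LinearMap.ker (A - 1))) (kap i κ K))
    (hdim : finrank F ↥(LinearMap.ker (A - 1)) + 2 * (bet i * K) = finrank F V)
    {W : Submodule F V} (hW : TS Q W) (hWi : W.map A ≤ W) :
    ∃ j s, s ≤ wit i (finrank F V) κ K ∧ finrank F ↥W = j * i + s ∧
      finrank F ↥(W ⊓ LinearMap.range (A - 1) : Submodule F V) = j * i := by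
  set R := LinearMap.ker (A - 1)
  obtain ⟨j, hj⟩ : i ∣ finrank F ↥(W ⊓ LinearMap.range (A - 1) : Submodule F V) :=
    hi ▸ PrimeOrderModule84.dvd_finrank_of_le_range hr hAr
      (le_inf ((Submodule.map_mono inf_le_left).trans hWi)
        ((Submodule.map_mono inf_le_right).trans (PrimeOrderModule84.range_inv A))) inf_le_right
  refine ⟨j, finrank F ↥(W ⊓ R : Submodule F V), ?_, ?_, by rw [hj, mul_comm]⟩
  · have h := hR.bound (U := W.comap R.subtype) fun x hx => hW _ hx
    have he : finrank F ↥(W.comap R.subtype) = finrank F ↥(W ⊓ R : Submodule F V) := by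
      rw [← Submodule.finrank_map_subtype_eq R, Submodule.map_comap_subtype, inf_comm]
    have h2 := hR.mod_two
    have h3 := hR.le_finrank
    unfold wit
    omega
  · rw [finrank_split hr hAr hWi, hj, mul_comm]
    ring

end Cfsg.Agent.OrthTSSplit97
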