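import Mathlib
import Cfsg.Agent.Lib.OrthTSSplit97

/-!
Arithmetic of the number of blocks.
-/

set_option autoImplicit false

namespace Cfsg.Agent.OrthTSArith97

open Cfsg.Agent.OrthTSSplit97

theorem divmod {n c a b : ℕ} (h : n = c * a + b) (hb : b < c) : n / c = a ∧ n % c = b := by
  subst h
  have hc : 0 < c := by omega
  rw [Nat.mul_add_div hc, Nat.div_eq_of_lt hb, Nat.mul_add_mod, Nat.mod_eq_of_lt hb]
  simp

/-- The largest number of blocks when the kind never obstructs. -/
theorem max_div {n κ i K₀ : ℕ} (hb : 0 < bet i) (hK : K₀ = n / 2 / bet i)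
    (hle : bet i * K₀ + kap i κ K₀ / 2 ≤ n / 2) :
    Valid i n κ K₀ ∧ ∀ K, Valid i n κ K → K ≤ K₀ := by
  refine ⟨hle, fun K hV => ?_⟩
  unfold Valid at hV
  rw [hK, Nat.le_div_iff_mul_le hb, mul_comm]
  omega

/-- For even `i` the largest number of blocks drops by one when the last kind obstructs. -/
theorem max_even {d κ i : ℕ} (he : Even i) (hb : 0 < bet i) (hd : 0 < d) (hκ : κ = 0 ∨ κ = 2) :
    ∃ K₀, Valid i (2 * d) κ K₀ ∧ (∀ K, Valid i (2 * d) κ K → K ≤ K₀) ∧
      ((d % bet i = 0 ∧ (d / bet i + κ / 2) % 2 = 1 ∧ K₀ + 1 = d / bet i ∧ wit i (2 * d) κ K₀ = bet i) ∨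
        (¬ (d % bet i = 0 ∧ (d / bet i + κ / 2) % 2 = 1) ∧ K₀ = d / bet i ∧
          wit i (2 * d) κ K₀ = d % bet i - (d / bet i + κ / 2) % 2)) := by
  have hkap : ∀ K, kap i κ K / 2 = (K + κ / 2) % 2 := fun K => by
    unfold kap
    by_cases h : Odd K
    · rw [if_pos ⟨he, h⟩]
      rw [Nat.odd_iff] at h
      omega
    · rw [if_neg (fun h' => h h'.2)]
      rw [Nat.odd_iff] at h
      omega
  have hdm := Nat.div_add_mod d (bet i)
  have hlt := Nat.mod_lt d hb
  have hmax : ∀ K, Valid i (2 * d) κ K → K ≤ d / bet i := fun K hV => by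
    unfold Valid at hV
    rw [Nat.le_div_iff_mul_le hb, mul_comm]
    omega
  by_cases hs : d % bet i = 0 ∧ (d / bet i + κ / 2) % 2 = 1
  · obtain ⟨K, hK⟩ : ∃ K, d / bet i = K + 1 := by
      refine ⟨d / bet i - 1, ?_⟩
      rcases Nat.eq_zero_or_pos (d / bet i) with h | h
      · rw [h, mul_zero] at hdm; omega
      · omega
    refine ⟨K, ?_, fun K' hV => ?_, Or.inl ⟨hs.1, hs.2, hK.symm, ?_⟩⟩
    · unfold Valid
      rw [hkap]
      rw [hK, Nat.mul_add] at hdm
      omega
    · have h1 := hmax K' hV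
      rcases Nat.lt_or_ge K' (d / bet i) with h | h
      · omega
      · exfalso
        unfold Valid at hV
        rw [hkap, show K' = d / bet i by omega] at hV
        omega
    · unfold wit
      rw [hkap]
      rw [hK, Nat.mul_add] at hdm
      omega
  · refine ⟨d / bet i, ?_, hmax, Or.inr ⟨hs, rfl, ?_⟩⟩
    · unfold Valid
      rw [hkap]
      omega
    · unfold wit
      rw [hkap]
      omega

end Cfsg.Agent.OrthTSArith97
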