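import Mathlib
import Cfsg.Agent.Lib.OrthTSSplit97

/-!
Isometries of odd prime order `r ≠ p` without invariant totally singular subspaces of a given
dimension, and the number of totally singular subspaces modulo `r`.
-/

set_option autoImplicit false

namespace Cfsg.Agent.OrthTSModels97

open Module QuadraticMap Polynomial
open Cfsg.Agent.QuadInvariant97 (TS ND)
open Cfsg.Agent.OrthTSKind97
open Cfsg.Agent.OrthTSSplit97
open Cfsg.Agent.SelfReciprocalFactors (IsFactor st)
open Cfsg.Agent.PrimeOrderClassCount (lin)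
open Cfsg.Agent.PrimeOrderModule84 (map_le_iff')

universe u v

variable {F : Type u} [Field F] [Fintype F] {r i t : ℕ} [Fact r.Prime]

/-- The data of one block. -/
def IsBlock (r e : ℕ) (P : F[X]) : Prop :=
  P.Monic ∧ P.natDegree = e ∧ P.mirror = P ∧ P ∣ X ^ r - 1 ∧ P.eval 1 ≠ 0

omit [Fintype F] in
theorem exists_isometry_of_block (hr2 : r ≠ 2) {b : ℕ} {P : F[X]} (hP : IsBlock r (2 * b) P) :
    ∃ (Q : QuadraticForm F (Fin (2 * b) → F)) (g : Module.End F (Fin (2 * b) → F)),
      (polarBilin Q).Nondegenerate ∧ (∀ v, Q (g v) = Q v) ∧ g ^ r = 1 ∧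
      (∀ v, g v = v → v = 0) ∧ aeval g P = 0 ∧ g.charpoly = P := by
  obtain ⟨hm, hd, hmir, hdvd, h1⟩ := hP
  have h0 : P.coeff 0 ≠ 0 := fun h0 => by
    obtain ⟨Z, hZ⟩ := hdvd
    have := congrArg (eval 0) hZ
    rw [eval_mul, ← coeff_zero_eq_eval_zero P, h0, zero_mul] at this
    simp [(Fact.out : r.Prime).ne_zero] at this
  have hrefl : reflect (2 * b) P = P := by
    rw [← hd]
    have := hmir
    rwa [Polynomial.mirror, natTrailingDegree_eq_zero.2 (Or.inr h0), pow_zero, mul_one] at this
  have hn1 : P.eval (-1) ≠ 0 := fun h => by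
    obtain ⟨Z, hZ⟩ := hdvd
    have h' := congrArg (eval (-1)) hZ
    rw [eval_mul, h, zero_mul] at h'
    simp only [eval_sub, eval_pow, eval_X, eval_one,
      ((Fact.out : r.Prime).odd_of_ne_two hr2).neg_one_pow] at h'
    have e : (-1 : F) = 1 := by linear_combination h'
    rw [e] at h
    exact h1 h
  obtain ⟨Q, hQ, g, hg, hgc⟩ := OrthPalindromeReal73.exists_isometry b P hm hd hrefl h1 hn1
  have hz : aeval g P = 0 := by rw [← hgc]; exact LinearMap.aeval_self_charpoly g
  refine ⟨Q, g, hQ, hg, ?_, fun v hv => ?_, hz, hgc⟩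
  · obtain ⟨Z, hZ⟩ := hdvd
    have := congrArg (aeval g) hZ
    rwa [map_sub, map_pow, aeval_X, map_one, map_mul, hz, zero_mul, sub_eq_zero] at this
  · by_contra hv0
    have hev : g.HasEigenvalue 1 := Module.End.hasEigenvalue_of_hasEigenvector
      ⟨Module.End.mem_eigenspace_iff.2 (by rw [hv, one_smul]), hv0⟩
    rw [Module.End.hasEigenvalue_iff_isRoot_charpoly, hgc] at hev
    exact h1 hev

/-- A space with `K` blocks, given by their characteristic polynomials. -/
theorem exists_moved (hr : (r : F) ≠ 0) (hr2 : r ≠ 2) {b K : ℕ} (μ : Fin K → F[X])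
    (hμ : ∀ l, IsBlock r (2 * b) (μ l)) :
    ∃ (Q : QuadraticForm F (Fin K → Fin (2 * b) → F)) (g : Module.End F (Fin K → Fin (2 * b) → F)),
      (polarBilin Q).Nondegenerate ∧ (∀ v, Q (g v) = Q v) ∧ g ^ r = 1 ∧ (∀ v, g v = v → v = 0) ∧
      (2 * b = orderOf (Fintype.card F : ZMod r) → (∀ l k, l ≠ k → IsCoprime (μ l) (μ k)) →
        ∀ U : Submodule F (Fin K → Fin (2 * b) → F), TS Q U → U.map g ≤ U → U = ⊥) := by
  classical
  choose Qf gf hQf hgf hgr hfix hz _hc using fun l => exists_isometry_of_block hr2 (hμ l)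
  let Q := QuadraticMap.pi Qf
  let g : Module.End F (Fin K → Fin (2 * b) → F) :=
    LinearMap.pi fun l => (gf l).comp (LinearMap.proj l)
  have hgap : ∀ v l, g v l = gf l (v l) := fun v l => rfl
  have hgk : ∀ (k : ℕ) v l, (g ^ k) v l = (gf l ^ k) (v l) := by
    intro k
    induction k with
    | zero => intro v l; rfl
    | succ k ih => intro v l; rw [pow_succ', pow_succ', Module.End.mul_apply, Module.End.mul_apply, hgap, ih]
  have hQnd : (polarBilin Q).Nondegenerate := by
    have key : ∀ x, (∀ y, polar Q x y = 0) → x = 0 := fun x hx => funext fun l =>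
      (hQf l).1 _ fun y => by
        have := hx (Pi.single l y)
        rw [QuadraticMap.Ring.polar_pi, Finset.sum_eq_single l] at this
        · rwa [Pi.single_eq_same] at this
        · intro k _ hk; rw [Pi.single_eq_of_ne hk]; simp
        · simp
    exact ⟨fun x hx => key x hx, fun x hx => key x fun y => by rw [polar_comm]; exact hx y⟩
  refine ⟨Q, g, hQnd, fun v => ?_, LinearMap.ext fun v => funext fun l => by rw [hgk, hgr]; rfl,
    fun v hv => funext fun l => hfix l _ (by rw [← hgap, hv]), fun hb hcop U hU hUi => ?_⟩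
  · simp only [Q, QuadraticMap.pi_apply, hgap, hgf]
  by_contra hne
  obtain ⟨u, hu, hu0⟩ := Submodule.exists_mem_ne_zero_of_ne_bot hne
  obtain ⟨l, hl⟩ : ∃ l, u l ≠ 0 := by
    by_contra h
    push Not at h
    exact hu0 (funext h)
  set P := ∏ k ∈ Finset.univ.erase l, μ k with hP
  have hap : ∀ (p : F[X]) v k, aeval g p v k = aeval (gf k) p (v k) := by
    intro p v k
    induction p using Polynomial.induction_on' with
    | add p q hp hq => rw [map_add, map_add, LinearMap.add_apply, LinearMap.add_apply, Pi.add_apply, hp, hq]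
    | monomial n c => simp [aeval_monomial, hgk]
  set w := aeval g P u with hw
  have hwU : w ∈ U := PrimeOrderModule84.aeval_mem hUi P hu
  have hwk : ∀ k, k ≠ l → w k = 0 := fun k hk => by
    obtain ⟨Z, hZ⟩ : μ k ∣ P := Finset.dvd_prod_of_mem μ (Finset.mem_erase.2 ⟨hk, Finset.mem_univ k⟩)
    rw [hw, hap, hZ, map_mul, hz, zero_mul, LinearMap.zero_apply]
  have hwl : w l ≠ 0 := by
    obtain ⟨a, c, hac⟩ : IsCoprime P (μ l) :=
      IsCoprime.prod_left fun k hk => hcop k l (Finset.ne_of_mem_erase hk)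
    intro h0
    refine hl ?_
    have h1 := DFunLike.congr_fun (congrArg (aeval (gf l)) hac) (u l)
    rw [map_add, map_mul, map_mul, hz, mul_zero, add_zero, map_one, Module.End.mul_apply,
      Module.End.one_apply, ← hap P, ← hw, h0, map_zero] at h1
    exact h1.symm
  let S := U.comap (LinearMap.single F (fun _ : Fin K => Fin (2 * b) → F) l)
  have hwS : w l ∈ S := by
    show Pi.single l (w l) ∈ U
    convert hwU using 1
    funext k
    by_cases hk : k = l
    · subst hk; simp
    · rw [Pi.single_eq_of_ne hk, hwk k hk]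
  have hST : TS (Qf l) S := fun x hx => by
    have h := hU _ hx
    simp only [Q, QuadraticMap.pi_apply, LinearMap.single_apply] at h
    rwa [Finset.sum_eq_single l (fun k _ hk => by rw [Pi.single_eq_of_ne hk, QuadraticMap.map_zero])
      (fun h => absurd (Finset.mem_univ l) h), Pi.single_eq_same] at h
  have hSi : S.map (gf l) ≤ S := by
    rintro _ ⟨x, hx, rfl⟩
    show Pi.single l (gf l x) ∈ U
    have h1 : g (Pi.single l x) ∈ U := map_le_iff'.1 hUi _ hx
    convert h1 using 1
    funext k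
    rw [hgap]
    by_cases hk : k = l
    · subst hk; simp
    · rw [Pi.single_eq_of_ne hk, Pi.single_eq_of_ne hk, map_zero]
  have hdim := PrimeOrderModule84.dvd_finrank_of_le_range hr (hgr l) hSi (by
    intro x _
    exact (LinearMap.injective_iff_surjective.1 ((injective_iff_map_eq_zero _).2 fun y hy =>
      hfix l y (sub_eq_zero.1 hy))) x)
  have hle := QuadInvariant97.two_mul_le (nd_top (hQf l)) (le_top : S ≤ ⊤) hST
  rw [finrank_top, Module.finrank_fintype_fun_eq_card, Fintype.card_fin] at hle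
  have hpos : 0 < finrank F ↥S := Nat.pos_of_ne_zero fun e => hwl (by
    have := Submodule.finrank_eq_zero.1 e
    rwa [this, Submodule.mem_bot] at hwS)
  rw [← hb] at hdim
  have := Nat.le_of_dvd hpos hdim
  omega

/-- Blocks of the right degree. -/
theorem exists_blocks {p : ℕ} [Fact p.Prime] [CharP F p] (hrp : r ≠ p) (hr2 : r ≠ 2)
    (hi : i = orderOf (Fintype.card F : ZMod r)) (ht : t * i = r - 1) :
    (∃ P : F[X], IsBlock r (2 * bet i) P) ∧
      (Even i → ∀ K ≤ t, ∃ μ : Fin K → F[X], (∀ l, IsBlock r (2 * bet i) (μ l)) ∧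
        ∀ l k, l ≠ k → IsCoprime (μ l) (μ k)) := by
  classical
  have hr := (Fact.out : r.Prime)
  obtain ⟨S, hcard, hi0, hmem, hdeg⟩ :=
    PrimeOrderClassCount.exists_factors (p := p) rfl hr hrp hi ht
  have hfac : ∀ μ ∈ S, IsFactor r μ := fun μ hμ => by
    obtain ⟨a, b, c, d⟩ := (hmem μ).1 hμ; exact ⟨a, b, c, d⟩
  have hblk : Even i → ∀ μ ∈ S, IsBlock r (2 * bet i) μ := fun he μ hμ => by
    refine ⟨(hfac μ hμ).monic, by rw [(two_bet i).1 he, hdeg μ hμ], ?_, (hfac μ hμ).dvd,
      (hfac μ hμ).eval_one⟩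
    refine SelfReciprocalFactors.eq_mirror_of_associated ?_ (hfac μ hμ).eval_one
    have := SelfReciprocalFactors.assoc_st (μ := μ)
    rwa [SelfReciprocalFactors.st_of_even rfl hr hi hi0 he (hfac μ hμ)] at this
  have hne : S.Nonempty := by
    rw [← Finset.card_pos, hcard]
    have := hr.two_le
    rcases Nat.eq_zero_or_pos t with h | h
    · rw [h, zero_mul] at ht; omega
    · exact h
  obtain ⟨μ, hμ⟩ := hne
  refine ⟨?_, fun he K hK => ?_⟩
  · rcases Nat.even_or_odd i with he | ho
    · exact ⟨μ, hblk he μ hμ⟩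
    have hf := hfac μ hμ
    have hne' := SelfReciprocalFactors.st_of_odd hr hr2 hf (by rw [hdeg μ hμ]; exact ho)
    refine ⟨μ * st μ, hf.monic.mul hf.isFactor_st.monic, ?_, ?_, ?_, ?_⟩
    · rw [hf.monic.natDegree_mul hf.isFactor_st.monic, SelfReciprocalFactors.natDegree_st, hdeg μ hμ,
        (two_bet i).2 ho]
      omega
    · refine SelfReciprocalFactors.eq_mirror_of_associated ?_ ?_
      · rw [mirror_mul_of_domain, mul_comm μ]
        refine SelfReciprocalFactors.assoc_st.mul_mul ?_
        have := SelfReciprocalFactors.mirror_associated (SelfReciprocalFactors.assoc_st (μ := μ)).symm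
        rwa [mirror_mirror] at this
      · rw [eval_mul]; exact mul_ne_zero hf.eval_one hf.isFactor_st.eval_one
    · refine IsCoprime.mul_dvd (hf.irr.coprime_iff_not_dvd.2 fun hd => hne' ?_) hf.dvd hf.isFactor_st.dvd
      exact (eq_of_monic_of_associated hf.monic hf.isFactor_st.monic
        (hf.irr.associated_of_dvd hf.isFactor_st.irr hd)).symm
    · rw [eval_mul]; exact mul_ne_zero hf.eval_one hf.isFactor_st.eval_one
  · let e := S.equivFinOfCardEq hcard
    refine ⟨fun l => (e.symm (Fin.castLE hK l) : F[X]), fun l => hblk he _ (e.symm _).2, fun l k hlk => ?_⟩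
    refine ((hfac _ (e.symm _).2).irr.coprime_iff_not_dvd.2 fun hd => hlk ?_)
    have := eq_of_monic_of_associated (hfac _ (e.symm _).2).monic (hfac _ (e.symm _).2).monic
      ((hfac _ (e.symm _).2).irr.associated_of_dvd (hfac _ (e.symm _).2).irr hd)
    exact Fin.castLE_injective hK (e.symm.injective (Subtype.ext this))

variable {V : Type v} [AddCommGroup V] [Module F V] [FiniteDimensional F V] {Q : QuadraticForm F V}

/-- Transfer of a moved space into `V`. -/
theorem exists_transfer (hQ : (polarBilin Q).Nondegenerate) {κ K : ℕ} (hκ : Ty Q κ)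
    (hV : Valid i (finrank F V) κ K) (hr : (r : F) ≠ 0) (hr2 : r ≠ 2)
    (hi : i = orderOf (Fintype.card F : ZMod r))
    {QT : QuadraticForm F (Fin K → Fin (2 * bet i) → F)}
    {g : Module.End F (Fin K → Fin (2 * bet i) → F)} (hQT : (polarBilin QT).Nondegenerate)
    (hg : ∀ v, QT (g v) = QT v) (hgr : g ^ r = 1) (hfix : ∀ v, g v = v → v = 0) :
    ∃ A : Module.End F V, (∀ v, Q (A v) = Q v) ∧ A ^ r = 1 ∧
      finrank F ↥(LinearMap.range (A - 1)) = 2 * (bet i * K) ∧
      ((∀ U, TS QT U → U.map g ≤ U → U = ⊥) →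
        ∀ W, TS Q W → W.map A ≤ W → W ≤ LinearMap.range (A - 1) → W = ⊥) := by
  have hi0 : 0 < i := hi ▸ PrimeOrderModule84.orderOf_card_pos hr
  have hdT : finrank F (Fin K → Fin (2 * bet i) → F) = 2 * (bet i * K) := by
    simp [Module.finrank_pi_fintype]; ring
  have hTT := kind_free hQT hg hr2 hgr hfix hi hi0 hdT
  have hk2 := hκ.le_two
  have hmod := hκ.mod_two
  set n0 := finrank F V - 2 * (bet i * K)
  have hle : kap i κ K ≤ 2 ∧ kap i κ K % 2 = κ % 2 := by unfold kap; split_ifs <;> omega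
  unfold Valid at hV
  obtain ⟨QR, hQR, hR⟩ := exists_model (F := F) (n := n0) (κ := kap i κ K) hle.1 (by omega) (by omega)
    (fun h1 h2 => by
      -- odd dimension needs odd characteristic
      have hκ1 : κ = 1 := by omega
      subst hκ1
      have hp := hQ.1
      obtain ⟨k, hk⟩ : ∃ k, finrank F V = 2 * k + 1 := ⟨finrank F V / 2, by omega⟩
      have heven : Even (finrank F ↥(⊤ : Submodule F V)) :=
        SymplecticAlt.even_finrank (QuadInvariant97.pB Q) (fun v => by
          rw [QuadInvariant97.pB_apply, polar_self, two_smul, ← two_mul, h2, zero_mul]) ⊤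
          fun u _ h => hp u fun v => h v trivial
      rw [finrank_top, hk] at heven
      simp [parity_simps] at heven)
  have hM := ty_prod hQT hQR hTT (by split_ifs <;> simp) hR
  have hfl : fl (if Even i ∧ Odd K then 2 else 0) (kap i κ K) = κ := by
    unfold fl kap
    by_cases h : Even i ∧ Odd K
    · simp only [if_pos h, if_true]; omega
    · simp [if_neg h]
  rw [hfl] at hM
  obtain ⟨φ, c, hc, hφ⟩ := exists_sim (Q := QT.prod QR) (OrthPrimeOrderClasses73.nd_prod hQT hQR) hQ hM hκ
    (by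
      rw [Module.finrank_prod, hdT, Module.finrank_fintype_fun_eq_card, Fintype.card_fin]
      show 2 * (bet i * K) + (finrank F V - 2 * (bet i * K)) = finrank F V
      omega)
  set G : Module.End F ((Fin K → Fin (2 * bet i) → F) × (Fin n0 → F)) := g.prodMap 1
  refine ⟨φ.conj G, fun v => ?_, ?_, ?_, fun hU W hW hWi hWT => ?_⟩
  · obtain ⟨x, rfl⟩ := φ.surjective v
    rw [LinearEquiv.conj_apply_apply, φ.symm_apply_apply, hφ, hφ]
    simp [G, QuadraticMap.prod_apply, hg]
  · have hk : ∀ k, φ.conj G ^ k = φ.conj (G ^ k) := by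
      intro k
      induction k with
      | zero =>
        refine LinearMap.ext fun v => ?_
        simp
      | succ k ih => rw [pow_succ, pow_succ, ih]; exact (φ.conj_comp _ _).symm
    have hG : ∀ k, G ^ k = (g ^ k).prodMap 1 := by
      intro k
      induction k with
      | zero => exact LinearMap.ext fun x => rfl
      | succ k ih => rw [pow_succ, pow_succ, ih]; exact LinearMap.ext fun x => rfl
    rw [hk, hG, hgr]
    exact LinearMap.ext fun v => by simp
  · have hr1 : LinearMap.range (φ.conj G - 1) =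
        (⊤ : Submodule F (Fin K → Fin (2 * bet i) → F)).map
          ((φ : _ →ₗ[F] V).comp (LinearMap.inl F _ (Fin n0 → F))) := by
      apply le_antisymm
      · rintro _ ⟨v, rfl⟩
        obtain ⟨⟨a, b⟩, rfl⟩ := φ.surjective v
        refine ⟨g a - a, trivial, ?_⟩
        simp [G, LinearEquiv.conj_apply_apply, ← map_sub]
      · rintro _ ⟨a, -, rfl⟩
        obtain ⟨y, hy⟩ := LinearMap.injective_iff_surjective.1
          ((injective_iff_map_eq_zero (g - 1)).2 fun y hy => hfix y (sub_eq_zero.1 hy)) a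
        refine ⟨φ (y, 0), ?_⟩
        simp [G, LinearEquiv.conj_apply_apply, ← map_sub, ← hy]
    rw [hr1, ← hdT, ← finrank_top F (Fin K → Fin (2 * bet i) → F)]
    refine ((Submodule.equivMapOfInjective _ ?_ ⊤).finrank_eq).symm
    exact φ.injective.comp LinearMap.inl_injective
  · set e := (φ : _ →ₗ[F] V).comp (LinearMap.inl F (Fin K → Fin (2 * bet i) → F) (Fin n0 → F))
    have hUbot := hU (W.comap e) (fun a ha => by
      have := hW _ ha
      simp only [e, LinearMap.comp_apply, LinearEquiv.coe_coe, hφ, LinearMap.inl_apply,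
        QuadraticMap.prod_apply, QuadraticMap.map_zero, add_zero, mul_eq_zero] at this
      exact this.resolve_left hc) (by
      rintro _ ⟨a, ha, rfl⟩
      have := map_le_iff'.1 hWi _ ha
      show φ (g a, 0) ∈ W
      simpa [e, G, LinearEquiv.conj_apply_apply] using this)
    refine (Submodule.eq_bot_iff W).2 fun v hv => ?_
    obtain ⟨x, hx⟩ := hWT hv
    obtain ⟨⟨a, b⟩, rfl⟩ := φ.surjective x
    have hv2 : v = e (g a - a) := by
      rw [← hx]
      simp [e, G, LinearEquiv.conj_apply_apply, ← map_sub]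
    have : g a - a ∈ W.comap e := by rw [Submodule.mem_comap, ← hv2]; exact hv
    rw [hUbot, Submodule.mem_bot] at this
    rw [hv2, this, map_zero]

/-- An isometry with `K` blocks. -/
theorem exists_elem {p : ℕ} [Fact p.Prime] [CharP F p] (hrp : r ≠ p)
    (hQ : (polarBilin Q).Nondegenerate) {κ K : ℕ} (hκ : Ty Q κ) (hV : Valid i (finrank F V) κ K)
    (hK : 1 ≤ K) (hr : (r : F) ≠ 0) (hr2 : r ≠ 2) (hi : i = orderOf (Fintype.card F : ZMod r))
    (ht : t * i = r - 1) :
    ∃ A : Module.End F V, (∀ v, Q (A v) = Q v) ∧ A ^ r = 1 ∧ A ≠ 1 ∧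
      Ty (Q.restrict (LinearMap.ker (A - 1))) (kap i κ K) ∧
      finrank F ↥(LinearMap.ker (A - 1)) + 2 * (bet i * K) = finrank F V ∧
      ∀ W, TS Q W → W.map A ≤ W → ∃ j s, s ≤ wit i (finrank F V) κ K ∧
        finrank F ↥W = j * i + s ∧ (Even i → K ≤ t → j = 0) := by
  have hi0 : 0 < i := hi ▸ PrimeOrderModule84.orderOf_card_pos hr
  obtain ⟨⟨P, hP⟩, hdis⟩ := exists_blocks (p := p) hrp hr2 hi ht
  obtain ⟨μ, hμ, hcop⟩ : ∃ μ : Fin K → F[X], (∀ l, IsBlock r (2 * bet i) (μ l)) ∧
      (Even i → K ≤ t → ∀ l k, l ≠ k → IsCoprime (μ l) (μ k)) := by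
    by_cases h : Even i ∧ K ≤ t
    · obtain ⟨μ, h1, h2⟩ := hdis h.1 K h.2
      exact ⟨μ, h1, fun _ _ => h2⟩
    · exact ⟨fun _ => P, fun _ => hP, fun a b => absurd ⟨a, b⟩ h⟩
  obtain ⟨QT, g, hQT, hg, hgr, hfix, hno⟩ := exists_moved hr hr2 μ hμ
  obtain ⟨A, hA, hAr, hAd, hAno⟩ := exists_transfer hQ hκ hV hr hr2 hi hQT hg hgr hfix
  obtain ⟨K', hK', -, -, hR, hdim⟩ := exists_K hQ hA hr hr2 hAr hi hκ
  obtain rfl : K' = K := by
    rw [hAd] at hK'
    exact (Nat.eq_of_mul_eq_mul_left (bet_pos hi0) (by omega)).symm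
  refine ⟨A, hA, hAr, fun h => ?_, hR, hdim, fun W hW hWi => ?_⟩
  · rw [h, sub_self, LinearMap.range_zero, finrank_bot] at hAd
    have := Nat.mul_pos (bet_pos hi0) hK
    omega
  · obtain ⟨j, s, hs, hd, hj⟩ := dim_invariant hr hAr hi hR hdim hW hWi
    refine ⟨j, s, hs, hd, fun he hKt => ?_⟩
    have hb := hAno (fun U => hno (((two_bet i).1 he).trans hi) (hcop he hKt) U) (W ⊓ LinearMap.range (A - 1))
      (hW.mono inf_le_left) (le_inf ((Submodule.map_mono inf_le_left).trans hWi)
        ((Submodule.map_mono inf_le_right).trans (PrimeOrderModule84.range_inv A))) inf_le_right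
    rw [hb, finrank_bot] at hj
    exact (Nat.mul_eq_zero.1 hj.symm).resolve_right hi0.ne'

end Cfsg.Agent.OrthTSModels97
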