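import Mathlib
import Cfsg.Agent.Lib.OrthTSModels97
import Cfsg.Agent.Lib.OmegaGeo
import Cfsg.Agent.Lib.OmegaClasses

/-!
When every isometry of odd prime order `r ≠ p` fixes a totally singular `m`-space, given that `r`
divides the number of these spaces.
-/

set_option autoImplicit false

namespace Cfsg.Agent.OrthTSIff97

open Module QuadraticMap
open Cfsg.Agent.QuadInvariant97 (TS ND)
open Cfsg.Agent.OrthTSKind97
open Cfsg.Agent.OrthTSSplit97
open Cfsg.Agent.OrthUnitaryQuad
open Cfsg.Agent.PrimeOrderModule84 (map_le_iff')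

universe u v

variable {F : Type u} [Field F] {V : Type v} [AddCommGroup V] [Module F V]

/-- The totally singular `m`-subspaces. -/
abbrev Sm (Q : QuadraticForm F V) (m : ℕ) :=
  {W : Submodule F V // finrank F ↥W = m ∧ ∀ w ∈ W, Q w = 0}

/-- Every isometry of order `r` fixes a totally singular `m`-space. -/
def AllFix (Q : QuadraticForm F V) (r m : ℕ) : Prop :=
  ∀ A : Module.End F V, (∀ v, Q (A v) = Q v) → A ^ r = 1 → A ≠ 1 → Fixes Q A m

omit [AddCommGroup V] [Module F V] in
theorem kap_add {i κ K K' : ℕ} (hκ : κ ≤ 2) : kap i (kap i κ K) K' = kap i κ (K + K') := by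
  unfold kap
  by_cases he : Even i
  · rcases Nat.even_or_odd K with h | h <;> rcases Nat.even_or_odd K' with h' | h'
    · simp [he, Nat.not_odd_iff_even.2 h, Nat.not_odd_iff_even.2 h', Nat.not_odd_iff_even.2 (h.add h')]
    · simp [he, Nat.not_odd_iff_even.2 h, h', h.add_odd h']
    · simp [he, h, Nat.not_odd_iff_even.2 h', h.add_even h']
    · simp [he, h, h', Nat.not_odd_iff_even.2 (h.add_odd h')]
      omega
  · simp [he]

variable [Fintype F] [FiniteDimensional F V] {Q : QuadraticForm F V} {r i t : ℕ} [Fact r.Prime]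

/-- Without isometries of order `r`, `r` does not divide the number of the subspaces. -/
theorem not_dvd_of_no_elem (hQ : (polarBilin Q).Nondegenerate) {κ m : ℕ} (hκ : Ty Q κ)
    (hm : 2 * m + κ ≤ finrank F V)
    (hno : ∀ A : Module.End F V, (∀ v, Q (A v) = Q v) → A ^ r = 1 → A = 1) :
    ¬ r ∣ Nat.card (Sm Q m) := by
  intro hdvd
  have : Finite V := Module.finite_of_finite F
  have : Finite (orth Q) := finite_orth Q
  obtain ⟨W₀, hW₀, hW₀d⟩ := hκ.exists_ts hm
  let act : MulAction (orth Q) (Submodule F V) :=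
    { smul := fun g W => W.map (g.1 : V →ₗ[F] V)
      one_smul := fun W => Submodule.map_id W
      mul_smul := fun g h W => Submodule.map_comp (h.1 : V →ₗ[F] V) (g.1 : V →ₗ[F] V) W }
  let _ := act
  have horb : MulAction.orbit (orth Q) W₀ = {W : Submodule F V | finrank F ↥W = m ∧ ∀ w ∈ W, Q w = 0} := by
    ext W
    constructor
    · rintro ⟨g, rfl⟩
      refine ⟨by rw [← hW₀d]; exact LinearEquiv.finrank_map_eq g.1 W₀, ?_⟩
      rintro _ ⟨w, hw, rfl⟩
      show Q (g.1 w) = 0
      rw [map_orth, hW₀ w hw]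
    · rintro ⟨hd, hT⟩
      let φ : W₀ ≃ₗ[F] W := LinearEquiv.ofFinrankEq W₀ W (hW₀d.trans hd.symm)
      obtain ⟨g, hg, hgX⟩ := Witt.quad_extend Q hQ W₀ (W.subtype.comp φ.toLinearMap)
        (Subtype.val_injective.comp φ.injective) fun a => by
          show Q ((φ a : W) : V) = Q a
          rw [hT _ (φ a).2, hW₀ _ a.2]
      refine ⟨⟨g, hg⟩, Submodule.eq_of_le_of_finrank_eq ?_ ?_⟩
      · rintro _ ⟨w, hw, rfl⟩
        show g w ∈ W
        rw [hgX ⟨w, hw⟩]
        exact (φ ⟨w, hw⟩).2
      · exact (LinearEquiv.finrank_map_eq g W₀).trans (hW₀d.trans hd.symm)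
  have h1 : Nat.card (Sm Q m) = (MulAction.orbit (orth Q) W₀).ncard := by
    rw [horb, ← Nat.card_coe_set_eq]
    rfl
  rw [h1, ← MulAction.index_stabilizer] at hdvd
  obtain ⟨g, hg⟩ := exists_prime_orderOf_dvd_card' (G := orth Q) r
    (hdvd.trans (Subgroup.index_dvd_card _))
  have hpow : ∀ k v, ((g.1 : V →ₗ[F] V) ^ k) v = (g ^ k).1 v := by
    intro k
    induction k with
    | zero => intro v; rfl
    | succ k ih => intro v; rw [pow_succ', pow_succ', Module.End.mul_apply, ih]; rfl
  have hA := hno (g.1 : V →ₗ[F] V) (fun v => map_orth g v) (LinearMap.ext fun v => by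
    rw [hpow, ← hg, pow_orderOf_eq_one]; rfl)
  have hg1 : g = 1 := Subtype.ext (LinearEquiv.ext fun v => DFunLike.congr_fun hA v)
  rw [hg1, orderOf_one] at hg
  exact (Fact.out : r.Prime).ne_one hg.symm

theorem valid_pos_of_ne (hQ : (polarBilin Q).Nondegenerate) (hr : (r : F) ≠ 0) (hr2 : r ≠ 2)
    (hi : i = orderOf (Fintype.card F : ZMod r)) {κ : ℕ} (hκ : Ty Q κ) {A : Module.End F V}
    (hA : ∀ v, Q (A v) = Q v) (hAr : A ^ r = 1) (hA1 : A ≠ 1) :
    ∃ K, 1 ≤ K ∧ Valid i (finrank F V) κ K := by
  obtain ⟨K, -, h1, h2, -⟩ := exists_K hQ hA hr hr2 hAr hi hκ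
  exact ⟨K, h1 hA1, h2⟩

/-- Below the order of `q` there are no such divisibilities. -/
theorem not_dvd_lt {p : ℕ} [Fact p.Prime] [CharP F p] (hrp : r ≠ p)
    (hQ : (polarBilin Q).Nondegenerate) (hr : (r : F) ≠ 0) (hr2 : r ≠ 2)
    (hi : i = orderOf (Fintype.card F : ZMod r)) (ht : t * i = r - 1) {κ m K₀ : ℕ} (hκ : Ty Q κ)
    (hV : Valid i (finrank F V) κ K₀) (hmax : ∀ K, Valid i (finrank F V) κ K → K ≤ K₀)
    (hmi : m < i) (hm : m ≤ wit i (finrank F V) κ K₀) : ¬ r ∣ Nat.card (Sm Q m) := by
  classical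
  have hk2 := hκ.le_two
  have hmod := hκ.mod_two
  have hle := hκ.le_finrank
  rcases Nat.eq_zero_or_pos K₀ with rfl | hK₀
  · refine not_dvd_of_no_elem hQ hκ ?_ fun A hA hAr => ?_
    · unfold wit kap at hm
      simp at hm
      omega
    · by_contra hA1
      obtain ⟨K, h1, h2⟩ := valid_pos_of_ne hQ hr hr2 hi hκ hA hAr hA1
      have := hmax K h2
      omega
  obtain ⟨A, hA, hAr, -, hR, hdim, -⟩ :=
    OrthTSModels97.exists_elem (p := p) hrp hQ hκ hV hK₀ hr hr2 hi ht
  have : Finite V := Module.finite_of_finite F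
  set R := LinearMap.ker (A - 1)
  have hAi := QuadInvariant97.injective_of_pow (Fact.out : r.Prime).pos hAr
  let f : Function.End (Sm Q m) := fun W => ⟨W.1.map A,
    ⟨((Submodule.equivMapOfInjective A hAi W.1).finrank_eq).symm.trans W.2.1, by
      rintro _ ⟨w, hw, rfl⟩; rw [hA, W.2.2 w hw]⟩⟩
  have hfk : ∀ (k : ℕ) W, ((f ^ k) W).1 = W.1.map (A ^ k) := by
    intro k
    induction k with
    | zero => intro W; exact (Submodule.map_id W.1).symm
    | succ k ih =>
      intro W
      rw [pow_succ', pow_succ', Module.End.mul_eq_comp, Submodule.map_comp, ← ih]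
      rfl
  have hfr : f ^ r ^ 1 = 1 := funext fun W => Subtype.ext (by
    rw [pow_one, hfk, hAr]
    exact Submodule.map_id W.1)
  have : Fintype (Sm Q m) := Fintype.ofFinite _
  have hmodEq := Equiv.Perm.card_fixedPoints_modEq (f := f) hfr
  have hinv : ∀ W : Sm Q m, f W = W → W.1 ≤ R := by
    intro W hW
    have hWi : W.1.map A ≤ W.1 := le_of_eq (congrArg Subtype.val hW)
    obtain ⟨j, s, -, hd, hj⟩ := dim_invariant hr hAr hi hR hdim W.2.2 hWi
    have hj0 : j = 0 := by
      by_contra h
      have : i ≤ j * i := Nat.le_mul_of_pos_left i (Nat.pos_of_ne_zero h)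
      rw [W.2.1] at hd
      omega
    have hs := finrank_split hr hAr hWi
    rw [hj, hj0, zero_mul, add_zero] at hs
    have heq := Submodule.eq_of_le_of_finrank_eq (inf_le_left : W.1 ⊓ R ≤ W.1) hs.symm
    exact heq ▸ inf_le_right
  let e : Function.fixedPoints f ≃ Sm (Q.restrict R) m :=
    { toFun := fun W => ⟨W.1.1.comap R.subtype, by
        rw [← Submodule.finrank_map_subtype_eq R, Submodule.map_comap_subtype,
          inf_eq_right.2 (hinv W.1 W.2)]
        exact W.1.2.1, fun x hx => W.1.2.2 _ hx⟩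
      invFun := fun U => ⟨⟨U.1.map R.subtype, by rw [Submodule.finrank_map_subtype_eq]; exact U.2.1,
        by rintro _ ⟨x, hx, rfl⟩; exact U.2.2 x hx⟩, Subtype.ext (QuadInvariant97.injective_of_pow
          (Fact.out : r.Prime).pos hAr |> fun h => SympIsoInvariant84.map_eq h
            (PrimeOrderModule84.map_le_of_le_ker (Submodule.map_subtype_le R U.1)))⟩
      left_inv := fun W => Subtype.ext (Subtype.ext (by
        show (W.1.1.comap R.subtype).map R.subtype = W.1.1
        rw [Submodule.map_comap_subtype, inf_eq_right.2 (hinv W.1 W.2)]))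
      right_inv := fun U => Subtype.ext (Submodule.comap_map_eq_of_injective R.injective_subtype U.1) }
  rw [← Nat.card_eq_fintype_card, ← Nat.card_eq_fintype_card, Nat.card_congr e] at hmodEq
  intro hdvd
  have hRd := hR.le_finrank
  have hdim' : finrank F ↥R + 2 * (bet i * K₀) = finrank F V := hdim
  have hRm := hR.mod_two
  refine not_dvd_of_no_elem (nd_restrict (nd_of_compl hQ (PrimeOrderModule84.isCompl_ker_range hr hAr)
    (orth_ker_range hA))) hR (m := m) ?_ (fun A' hA' hAr' => ?_)
    ((Nat.ModEq.dvd_iff hmodEq dvd_rfl).1 hdvd)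
  · change 2 * m + _ ≤ finrank F ↥R
    unfold wit at hm
    omega
  · by_contra hA1
    obtain ⟨K, h1, h2⟩ := valid_pos_of_ne (nd_restrict (nd_of_compl hQ
      (PrimeOrderModule84.isCompl_ker_range hr hAr) (orth_ker_range hA))) hr hr2 hi hR hA' hAr' hA1
    change Valid i (finrank F ↥R) _ K at h2
    have : Valid i (finrank F V) κ (K₀ + K) := by
      unfold Valid at h2 hV ⊢
      rw [← kap_add hk2, Nat.mul_add]
      have : kap i κ K₀ % 2 = κ % 2 := by unfold kap; split_ifs <;> omega
      omega
    have := hmax _ this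
    omega

/-- The criterion. -/
theorem allFix_iff {p : ℕ} [Fact p.Prime] [CharP F p] (hrp : r ≠ p)
    (hQ : (polarBilin Q).Nondegenerate) (hr : (r : F) ≠ 0) (hr2 : r ≠ 2)
    (hi : i = orderOf (Fintype.card F : ZMod r)) (ht : t * i = r - 1) {κ m K₀ : ℕ} (hκ : Ty Q κ)
    (hm : 2 * m + κ ≤ finrank F V)
    (hV : Valid i (finrank F V) κ K₀) (hmax : ∀ K, Valid i (finrank F V) κ K → K ≤ K₀)
    (hdvd : r ∣ Nat.card (Sm Q m)) :
    AllFix Q r m ↔
      i ≤ m ∧ (Even i → t + 2 * (m / i) ≤ K₀) ∧ m % i ≤ wit i (finrank F V) κ K₀ := by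
  have hi0 : 0 < i := hi ▸ PrimeOrderModule84.orderOf_card_pos hr
  have hb0 := bet_pos hi0
  have hk2 := hκ.le_two
  have hmod := hκ.mod_two
  have hmdiv := Nat.div_add_mod m i
  have hmlt := Nat.mod_lt m hi0
  have htb := two_bet i
  set D := finrank F V / 2
  have hD : m + κ / 2 ≤ D := by omega
  have hkap : ∀ K, kap i κ K / 2 ≤ 1 ∧ (Odd i → kap i κ K = κ) := fun K => by
    refine ⟨by unfold kap; split_ifs <;> omega, fun h => ?_⟩
    unfold kap; rw [if_neg (by simp [Nat.not_even_iff_odd.2 h])]
  have hpar : ∀ K K', K % 2 = K' % 2 → kap i κ K = kap i κ K' := fun K K' h => by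
    unfold kap
    simp only [Nat.odd_iff, h]
  have hpos : i ≤ m → 1 ≤ K₀ := fun him => by
    refine hmax 1 ?_
    show bet i * 1 + kap i κ 1 / 2 ≤ D
    rcases Nat.even_or_odd i with he | ho
    · have := htb.1 he; have := (hkap 1).1; omega
    · rw [(hkap 1).2 ho, htb.2 ho]; omega
  have hderange : ∀ K, 1 ≤ K → Valid i (finrank F V) κ K →
      (∀ j s, s ≤ wit i (finrank F V) κ K → (Even i → K ≤ t → j = 0) → j * i + s ≠ m) →
      ¬ AllFix Q r m := by
    intro K hK hVK hbad hall
    obtain ⟨A, hA, hAr, hA1, -, -, hinv⟩ :=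
      OrthTSModels97.exists_elem (p := p) hrp hQ hκ hVK hK hr hr2 hi ht
    obtain ⟨W, hWd, hW, hWi⟩ := hall A hA hAr hA1
    obtain ⟨j, s, hs, hd, hj⟩ := hinv W hW hWi
    exact hbad j s hs hj (hd.symm.trans hWd)
  constructor
  · intro hall
    have him : i ≤ m := by
      by_contra him
      push Not at him
      by_cases hw : m ≤ wit i (finrank F V) κ K₀
      · exact not_dvd_lt (p := p) hrp hQ hr hr2 hi ht hκ hV hmax him hw hdvd
      · refine hderange K₀ ?_ hV (fun j s hs _ hjs => hw ?_) hall
        · rcases Nat.eq_zero_or_pos K₀ with rfl | h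
          · refine absurd ?_ hw
            show m ≤ D - (bet i * 0 + kap i κ 0 / 2)
            rw [show kap i κ 0 = κ by unfold kap; simp]
            omega
          · exact h
        · rcases Nat.eq_zero_or_pos j with rfl | hj
          · omega
          · have : i ≤ j * i := Nat.le_mul_of_pos_left i hj
            omega
    have hK₀ := hpos him
    refine ⟨him, fun he => ?_, ?_⟩
    · by_contra hlt
      push Not at hlt
      have ht0 : 1 ≤ t := by
        rcases Nat.eq_zero_or_pos t with rfl | h
        · have := (Fact.out : r.Prime).two_le; omega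
        · exact h
      have hi2 := htb.1 he
      have hK1 : ¬ Valid i (finrank F V) κ (K₀ + 1) := fun h => by have := hmax _ h; omega
      unfold Valid at hK1 hV
      change ¬ (bet i * (K₀ + 1) + kap i κ (K₀ + 1) / 2 ≤ D) at hK1
      have h1 := (hkap (K₀ + 1)).1
      rcases Nat.lt_or_ge t K₀ with htK | htK
      · have hVt : Valid i (finrank F V) κ t := by
          unfold Valid
          have h2 : bet i * (t + 1) ≤ bet i * K₀ := Nat.mul_le_mul_left _ htK
          have := (hkap t).1
          rw [Nat.mul_add, Nat.mul_one] at h2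
          omega
        refine hderange t ht0 hVt (fun j s hs hj hjs => ?_) hall
        rw [hj he le_rfl, zero_mul, zero_add] at hjs
        unfold wit at hs
        change s ≤ D - (bet i * t + kap i κ t / 2) at hs
        rcases Nat.lt_or_ge (K₀ + 1) (t + 2 * (m / i)) with h3 | h3
        · have h4 : bet i * (K₀ + 1 + 1) ≤ bet i * (t + 2 * (m / i)) := Nat.mul_le_mul_left _ h3
          have h5 : bet i * (2 * (m / i)) = i * (m / i) := by rw [← mul_assoc, mul_comm (bet i) 2, hi2]
          rw [Nat.mul_add, Nat.mul_add, Nat.mul_add, h5, Nat.mul_one] at h4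
          rw [Nat.mul_add, Nat.mul_one] at hK1
          have := (hkap t).1
          omega
        · have h4 : K₀ + 1 = t + 2 * (m / i) := by omega
          have h5 : bet i * (2 * (m / i)) = i * (m / i) := by rw [← mul_assoc, mul_comm (bet i) 2, hi2]
          rw [hpar (K₀ + 1) t (by omega), h4, Nat.mul_add, h5] at hK1
          omega
      · refine hderange K₀ hK₀ hV (fun j s hs hj hjs => ?_) hall
        rw [hj he htK, zero_mul, zero_add] at hjs
        unfold wit at hs
        change s ≤ D - (bet i * K₀ + kap i κ K₀ / 2) at hs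
        rw [Nat.mul_add, Nat.mul_one] at hK1
        omega
    · by_contra hw
      refine hderange K₀ hK₀ hV (fun j s hs _ hjs => hw ?_) hall
      have : s % i = m % i := by rw [← hjs, Nat.add_comm, Nat.add_mul_mod_self_right]
      have := Nat.mod_le s i
      omega
  · rintro ⟨him, hte, hw⟩ A hA hAr hA1
    obtain ⟨K, hT, -, hVK, hR, hdim⟩ := exists_K hQ hA hr hr2 hAr hi hκ
    have hKK := hmax K hVK
    have fix := fun j s => fixes_of hQ hA hr hr2 hAr hi ht hT hR hdim (j := j) (s := s) (m := m)
    unfold Valid at hVK hV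
    unfold wit at hw fix
    change bet i * K + kap i κ K / 2 ≤ D at hVK
    change m % i ≤ D - (bet i * K₀ + kap i κ K₀ / 2) at hw
    change bet i * K₀ + kap i κ K₀ / 2 ≤ D at hV
    have hbK : bet i * K + bet i * (K₀ - K) = bet i * K₀ := by
      rw [← Nat.mul_add, Nat.add_sub_cancel' hKK]
    rcases Nat.even_or_odd i with he | ho
    · have hte' := hte he
      have hi2 := htb.1 he
      set J := (K + 1 - t) / 2
      have hp1 := (hkap K).1
      have hp0 := (hkap K₀).1
      rcases Nat.lt_or_ge J (m / i) with hJ | hJ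
      · refine fix J (m - J * i) ?_ ?_ ?_
        · by_cases h0 : J = 0
          · exact Or.inl h0
          · exact Or.inr (Or.inr (by omega))
        · show m - J * i ≤ D - (bet i * K + kap i κ K / 2)
          obtain ⟨d, hd⟩ : ∃ d, m / i = J + d := ⟨m / i - J, by omega⟩
          have h5 : J * i + bet i * (2 * d) + m % i = m := by
            have h6 : bet i * (2 * d) = i * d := by rw [← mul_assoc, mul_comm (bet i) 2, hi2]
            rw [hd, Nat.mul_add] at hmdiv
            rw [mul_comm J i, h6]
            omega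
          rcases Nat.lt_or_ge (2 * d) (K₀ - K) with h7 | h7
          · have h8 : bet i * (2 * d + 1) ≤ bet i * (K₀ - K) := Nat.mul_le_mul_left _ h7
            rw [Nat.mul_add, Nat.mul_one] at h8
            omega
          · have h9 : 2 * d = K₀ - K := by omega
            rw [hpar K K₀ (by omega)]
            rw [← h9] at hbK
            omega
        · have : J * i ≤ m := by
            have : J * i ≤ m / i * i := Nat.mul_le_mul_right i hJ.le
            rw [mul_comm (m / i) i] at this
            omega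
          omega
      · refine fix (m / i) (m % i) ?_ ?_ (by rw [mul_comm, hmdiv])
        · by_cases h0 : m / i = 0
          · exact Or.inl h0
          · exact Or.inr (Or.inr (by omega))
        · show m % i ≤ D - (bet i * K + kap i κ K / 2)
          rcases Nat.eq_or_lt_of_le hKK with rfl | hlt
          · omega
          · have h7 : bet i * 1 ≤ bet i * (K₀ - K) := Nat.mul_le_mul_left _ (by omega)
            omega
    · have hb := htb.2 ho
      rw [hb] at hbK hV hw hVK
      rw [(hkap K₀).2 ho] at hV hw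
      rw [(hkap K).2 ho] at hVK
      rcases Nat.lt_or_ge K (m / i) with hK | hK
      · have h1 : K * i ≤ m := by
          have : K * i ≤ m / i * i := Nat.mul_le_mul_right i hK.le
          rw [mul_comm (m / i) i] at this
          omega
        refine fix K (m - K * i) (Or.inr (Or.inl ⟨ho, le_rfl⟩)) ?_ (by omega)
        show m - K * i ≤ D - (bet i * K + kap i κ K / 2)
        rw [hb, (hkap K).2 ho, mul_comm K i]
        omega
      · refine fix (m / i) (m % i) (Or.inr (Or.inl ⟨ho, hK⟩)) ?_ (by rw [mul_comm, hmdiv])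
        show m % i ≤ D - (bet i * K + kap i κ K / 2)
        rw [hb, (hkap K).2 ho]
        omega

end Cfsg.Agent.OrthTSIff97
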