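import Mathlib
import Cfsg.Agent.Lib.OrthTSIff97

/-!
Elements of odd prime order of the commutator subgroup of an orthogonal group as isometries.
-/

set_option autoImplicit false

namespace Cfsg.Agent.OrthTSBridge97

open Module QuadraticMap
open Cfsg.Agent.OrthTSSplit97 (Fixes)
open Cfsg.Agent.OrthTSIff97 (AllFix)
open Cfsg.Agent.OrthUnitaryQuad
open Cfsg.Agent.PrimeOrderModule84 (map_le_iff')

universe u v

variable {F : Type u} [Field F] {V : Type v} [AddCommGroup V] [Module F V] [Fintype F]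
  [FiniteDimensional F V] {Q : QuadraticForm F V}

/-- Squares lie in the commutator subgroup. -/
theorem sq_mem (hQ : (polarBilin Q).Nondegenerate) (hexc : Fintype.card F ≠ 2 ∨ finrank F V ≠ 4)
    (g : orth Q) : g * g ∈ commutator (orth Q) := by
  obtain ⟨vs, hvs, rfl⟩ := OmegaClasses.exists_rprod (OmegaClasses.reflGroup_top hQ hexc) g
  rw [← Abelianization.ker_of, MonoidHom.mem_ker, map_mul]
  induction vs with
  | nil => simp [OmegaClasses.rprod]
  | cons v vs ih =>
    rw [OmegaClasses.rprod_cons hvs.head, map_mul, mul_mul_mul_comm, ih hvs.tail, mul_one, ← map_mul]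
    have : refl Q v hvs.head * refl Q v hvs.head = 1 := by
      refine OrthUnitaryRefl.orth_ext fun x => ?_
      exact reflMap_involutive hvs.head x
    rw [this, map_one]

omit [Fintype F] [FiniteDimensional F V] in
theorem coe_pow (g : orth Q) (k : ℕ) :
    ((g ^ k).1 : V →ₗ[F] V) = ((g.1 : V →ₗ[F] V) ^ k : Module.End F V) := by
  induction k with
  | zero => rfl
  | succ k ih => rw [pow_succ, pow_succ, ← ih]; rfl

/-- An isometry of odd order is an element of the commutator subgroup. -/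
theorem exists_mem_commutator (hQ : (polarBilin Q).Nondegenerate)
    (hexc : Fintype.card F ≠ 2 ∨ finrank F V ≠ 4) {r : ℕ} (hr : Odd r) {A : Module.End F V}
    (hA : ∀ v, Q (A v) = Q v) (hAr : A ^ r = 1) :
    ∃ k ∈ commutator (orth Q), (k.1 : V →ₗ[F] V) = A := by
  have hAi := QuadInvariant97.injective_of_pow hr.pos hAr
  let e : V ≃ₗ[F] V := LinearEquiv.ofInjectiveEndo A hAi
  let k : orth Q := ⟨e, fun v => hA v⟩
  have hk : (k.1 : V →ₗ[F] V) = A := rfl
  have hkr : k ^ r = 1 := Subtype.ext (LinearEquiv.toLinearMap_injective (by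
    rw [coe_pow, hk, hAr]; rfl))
  obtain ⟨l, hl⟩ := hr
  refine ⟨k, ?_, hk⟩
  have h2 : k = k ^ (l + 1) * k ^ (l + 1) := by
    rw [← pow_add, show l + 1 + (l + 1) = r + 1 by omega, pow_succ, hkr, one_mul]
  rw [h2]
  exact sq_mem hQ hexc _

section GLn

variable {ι : Type} [Fintype ι] [DecidableEq ι] {q : QuadraticForm F (ι → F)}

omit [Fintype F] in
theorem toLin_toGL (k : orth q) :
    Matrix.toLin' (OmegaGeo.toGL q k : Matrix ι ι F) = (k.1 : (ι → F) →ₗ[F] (ι → F)) :=
  LinearMap.ext fun v => by rw [Matrix.toLin'_apply, OmegaGeo.toGL_mulVec]; rfl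

omit [Fintype F] in
theorem toGL_smul {k : orth q} {z : F} (h : (OmegaGeo.toGL q k : Matrix ι ι F) = z • 1) :
    (k.1 : (ι → F) →ₗ[F] (ι → F)) = z • (1 : Module.End F (ι → F)) := by
  rw [← toLin_toGL, h, map_smul, Matrix.toLin'_one]
  rfl

omit [Fintype F] in
theorem toLin_pow (x : GL ι F) (k : ℕ) :
    Matrix.toLin' ((x ^ k : GL ι F) : Matrix ι ι F) =
      ((Matrix.toLin' (x : Matrix ι ι F)) ^ k : Module.End F (ι → F)) := by
  rw [Units.val_pow_eq_pow_val, Matrix.toLin'_pow]

omit [Fintype F] [Fintype ι] [DecidableEq ι] in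
theorem exists_value (hq : (polarBilin q).Nondegenerate) [Nonempty ι] : ∃ v, q v ≠ 0 := by
  by_contra h
  push Not at h
  obtain ⟨i₀⟩ := ‹Nonempty ι›
  have h1 : (fun _ : ι => (1 : F)) = 0 := hq.1 _ fun v => by
    rw [polarBilin_apply_apply, QuadraticMap.polar, h, h, h, sub_zero, sub_zero]
  exact one_ne_zero (congrFun h1 i₀)

omit [Fintype F] [Fintype ι] [DecidableEq ι] in
theorem sq_scalar (hq : (polarBilin q).Nondegenerate) [Nonempty ι] {A : Module.End F (ι → F)}
    (hA : ∀ v, q (A v) = q v) {z : F} {r : ℕ} (h : A ^ r = z • 1) : z * z = 1 := by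
  obtain ⟨v, hv⟩ := exists_value hq
  have hk : ∀ k v, q ((A ^ k) v) = q v := by
    intro k
    induction k with
    | zero => simp
    | succ k ih => intro v; rw [pow_succ', Module.End.mul_apply, hA, ih]
  have := hk r v
  rw [h, LinearMap.smul_apply, Module.End.one_apply, QuadraticMap.map_smul, smul_eq_mul] at this
  exact mul_right_cancel₀ hv (this.trans (one_mul _).symm)

/-- The version with scalar `r`-th power. -/
theorem bridge_scalar (hq : (polarBilin q).Nondegenerate) [Nonempty ι]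
    (hexc : Fintype.card F ≠ 2 ∨ finrank F (ι → F) ≠ 4) {r m : ℕ} (hr : r.Prime) (hr2 : r ≠ 2) :
    (∀ x : GL ι F, x ∈ Cfsg.Geo.omegaGL ⇑q →
      (∃ z : F, ((x ^ r : GL ι F) : Matrix ι ι F) = z • (1 : Matrix ι ι F)) →
      (∀ z : F, (x : Matrix ι ι F) ≠ z • (1 : Matrix ι ι F)) →
      ∃ W : Submodule F (ι → F), finrank F ↥W = m ∧ (∀ w ∈ W, q w = 0) ∧
        W.map (Matrix.toLin' (x : Matrix ι ι F)) ≤ W) ↔ AllFix q r m := by
  have hodd := hr.odd_of_ne_two hr2
  constructor
  · intro h A hA hAr hA1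
    obtain ⟨k, hk, hkA⟩ := exists_mem_commutator hq hexc hodd hA hAr
    obtain ⟨W, hWd, hW, hWi⟩ := h (OmegaGeo.toGL q k) (OmegaGeo.toGL_mem hk) ⟨1, by
        refine Matrix.toLin'.injective ?_
        rw [toLin_pow, toLin_toGL, hkA, hAr, one_smul, Matrix.toLin'_one]; rfl⟩
      fun z hz => by
        have hz' := toGL_smul hz
        rw [hkA] at hz'
        have h1 := sq_scalar hq hA (r := 1) (by rw [pow_one, hz'])
        refine hA1 ?_
        rw [hz', smul_pow, one_pow] at hAr
        obtain ⟨l, hl⟩ := hodd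
        rw [hz', show z = 1 from ?_, one_smul]
        obtain ⟨v, hv⟩ := exists_value hq
        have h3 := congrArg (fun B : Module.End F (ι → F) => B v) hAr
        simp only [LinearMap.smul_apply, Module.End.one_apply] at h3
        rw [hl, pow_succ, pow_mul, _root_.sq, h1, one_pow, one_mul] at h3
        by_contra hz1
        have h4 : (z - 1) • v = 0 := by rw [sub_smul, h3, one_smul, sub_self]
        rw [smul_eq_zero, sub_eq_zero] at h4
        exact hv (by rw [h4.resolve_left hz1, QuadraticMap.map_zero])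
    exact ⟨W, hWd, hW, by rwa [toLin_toGL, hkA] at hWi⟩
  · intro h x hx ⟨z, hz⟩ hns
    obtain ⟨k, -, rfl⟩ := OmegaGeo.exists_of_mem_omegaGL hx
    set A : Module.End F (ι → F) := (k.1 : (ι → F) →ₗ[F] (ι → F)) with hAdef
    have hA : ∀ v, q (A v) = q v := fun v => map_orth k v
    have hAr : A ^ r = z • 1 := by
      rw [hAdef, ← toLin_toGL, ← toLin_pow, hz, map_smul, Matrix.toLin'_one]; rfl
    have hz2 := sq_scalar hq hA hAr
    have hz0 : z ≠ 0 := fun h0 => by rw [h0, zero_mul] at hz2; exact zero_ne_one hz2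
    obtain ⟨W, hWd, hW, hWi⟩ := h (z • A) (fun v => by
        rw [LinearMap.smul_apply, QuadraticMap.map_smul, hA, smul_eq_mul, hz2, one_mul]) (by
        obtain ⟨l, hl⟩ := hodd
        rw [smul_pow, hAr, smul_smul, ← pow_succ, hl, show 2 * l + 1 + 1 = 2 * (l + 1) by ring, pow_mul,
          _root_.sq, hz2, one_pow, one_smul])
      fun h1 => hns z (by
        refine Matrix.toLin'.injective ?_
        rw [toLin_toGL, map_smul, Matrix.toLin'_one]
        show A = z • (1 : Module.End F (ι → F))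
        rw [← h1, smul_smul, hz2, one_smul])
    refine ⟨W, hWd, hW, ?_⟩
    rw [toLin_toGL, map_le_iff']
    intro v hv
    have h5 := W.smul_mem z (map_le_iff'.1 hWi v hv)
    rw [LinearMap.smul_apply, smul_smul, hz2, one_smul] at h5
    exact h5

/-- The version with elements of order `r`. -/
theorem bridge_order (hq : (polarBilin q).Nondegenerate)
    (hexc : Fintype.card F ≠ 2 ∨ finrank F (ι → F) ≠ 4) {r m : ℕ} (hr : r.Prime) (hr2 : r ≠ 2) :
    (∀ x : GL ι F, x ∈ Cfsg.Geo.omegaGL ⇑q → orderOf x = r →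
      ∃ W : Submodule F (ι → F), finrank F ↥W = m ∧ (∀ w ∈ W, q w = 0) ∧
        W.map (Matrix.toLin' (x : Matrix ι ι F)) ≤ W) ↔ AllFix q r m := by
  have : Fact r.Prime := ⟨hr⟩
  constructor
  · intro h A hA hAr hA1
    obtain ⟨k, hk, hkA⟩ := exists_mem_commutator hq hexc (hr.odd_of_ne_two hr2) hA hAr
    obtain ⟨W, hWd, hW, hWi⟩ := h (OmegaGeo.toGL q k) (OmegaGeo.toGL_mem hk) (orderOf_eq_prime (by
        refine Units.ext (Matrix.toLin'.injective ?_)
        rw [toLin_pow, toLin_toGL, hkA, hAr, Units.val_one, Matrix.toLin'_one]; rfl)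
      fun h1 => hA1 (by
        rw [← hkA, ← toLin_toGL, h1, Units.val_one, Matrix.toLin'_one]; rfl))
    exact ⟨W, hWd, hW, by rwa [toLin_toGL, hkA] at hWi⟩
  · intro h x hx ho
    obtain ⟨k, -, rfl⟩ := OmegaGeo.exists_of_mem_omegaGL hx
    obtain ⟨W, hWd, hW, hWi⟩ := h (k.1 : (ι → F) →ₗ[F] (ι → F)) (fun v => map_orth k v) (by
        rw [← toLin_toGL, ← toLin_pow, ← ho, pow_orderOf_eq_one, Units.val_one, Matrix.toLin'_one]; rfl)
      fun h1 => by
        have : OmegaGeo.toGL q k = 1 := Units.ext (Matrix.toLin'.injective (by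
          rw [toLin_toGL, Units.val_one, Matrix.toLin'_one]; exact h1))
        rw [this, orderOf_one] at ho
        exact hr.ne_one ho.symm
    exact ⟨W, hWd, hW, by rw [toLin_toGL]; exact hWi⟩

end GLn

end Cfsg.Agent.OrthTSBridge97
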