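import Mathlib
import Cfsg.Agent.Lib.QuadInvariant97
import Cfsg.Agent.Lib.OrthTSKind97
import Cfsg.Agent.Lib.OrthUnitaryRefl

/-!
The number of totally singular `m`-subspaces is `1` modulo the characteristic when `2 m` is less
than the dimension.
-/

set_option autoImplicit false

namespace Cfsg.Agent.OrthTSCountP97

open Module QuadraticMap
open Cfsg.Agent.QuadInvariant97 (TS ND)
open Cfsg.Agent.OrthUnitaryQuad

universe u v

variable {F : Type u} [Field F] [Fintype F] {p : ℕ} [Fact p.Prime] [CharP F p]

theorem count_modEq : ∀ (m : ℕ) (V : Type v) [AddCommGroup V] [Module F V] [FiniteDimensional F V]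
    (Q : QuadraticForm F V), (polarBilin Q).Nondegenerate → 2 * m < finrank F V →
    (∃ U, TS Q U ∧ finrank F ↥U = m) →
    Nat.card {W : Submodule F V // finrank F ↥W = m ∧ ∀ w ∈ W, Q w = 0} ≡ 1 [MOD p] := by
  intro m
  induction m with
  | zero =>
    intro V _ _ _ Q _ _ _
    have : Nat.card {W : Submodule F V // finrank F ↥W = 0 ∧ ∀ w ∈ W, Q w = 0} = 1 := by
      refine Nat.card_eq_one_iff_unique.2 ⟨⟨fun a b => Subtype.ext ?_⟩, ⟨⟨⊥, by simp, fun w hw => ?_⟩⟩⟩
      · rw [Submodule.finrank_eq_zero.1 a.2.1, Submodule.finrank_eq_zero.1 b.2.1]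
      · rw [(Submodule.mem_bot F).1 hw, QuadraticMap.map_zero]
    rw [this]
  | succ m ih =>
    intro V _ _ _ Q hQ hn ⟨U, hU, hUd⟩
    have : Finite V := Module.finite_of_finite F
    obtain ⟨e, heU, he0⟩ := Submodule.exists_mem_ne_zero_of_ne_bot (p := U)
      (fun h => by rw [h, finrank_bot] at hUd; omega)
    have hQe := hU e heU
    obtain ⟨f, -, hQf, hef⟩ :=
      QuadClassify.exists_partner Q (QuadClassify.nondeg_top hQ) (u := e) trivial he0 hQe
    obtain ⟨hR, hRd⟩ := QuadClassify.pair_complement Q (QuadClassify.nondeg_top hQ)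
      (u := e) trivial trivial hQe hQf hef
    set R := ⊤ ⊓ LinearMap.ker (polarBilin Q e) ⊓ LinearMap.ker (polarBilin Q f) with hRdef
    rw [finrank_top] at hRd
    have hmem : ∀ v, v ∈ R ↔ polar Q e v = 0 ∧ polar Q f v = 0 := fun v => by
      simp [hRdef]
    have hee : polar Q e e = 0 := by rw [polar_self_mul, hQe, mul_zero]
    have hfe : polar Q f e = 1 := by rw [polar_comm]; exact hef
    -- splitting a totally singular subspace containing `e`
    have split : ∀ W : Submodule F V, TS Q W → e ∈ W →
        W = F ∙ e ⊔ (W ⊓ R) ∧ finrank F ↥W = finrank F ↥(W ⊓ R : Submodule F V) + 1 := by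
      intro W hW he
      have h1 : W = F ∙ e ⊔ (W ⊓ R) := by
        refine le_antisymm (fun v hv => ?_) (sup_le ((Submodule.span_singleton_le_iff_mem e W).2 he) inf_le_left)
        refine Submodule.mem_sup.2 ⟨polar Q f v • e, Submodule.smul_mem _ _ (Submodule.mem_span_singleton_self e),
          v - polar Q f v • e, ⟨W.sub_mem hv (W.smul_mem _ he), (hmem _).2 ⟨?_, ?_⟩⟩, add_sub_cancel _ _⟩
        · rw [polar_sub_right, hW.polar he hv, polar_smul_right, hee, smul_zero, sub_zero]
        · rw [polar_sub_right, polar_smul_right, hfe, smul_eq_mul, mul_one, sub_self]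
      refine ⟨h1, ?_⟩
      have h2 : (F ∙ e) ⊓ (W ⊓ R) = ⊥ := (Submodule.eq_bot_iff _).2 fun v hv => by
        obtain ⟨c, rfl⟩ := Submodule.mem_span_singleton.1 hv.1
        have := ((hmem _).1 hv.2.2).2
        rw [polar_smul_right, hfe, smul_eq_mul, mul_one] at this
        rw [this, zero_smul]
      have h3 := Submodule.finrank_sup_add_finrank_inf_eq (F ∙ e) (W ⊓ R)
      rw [← h1, h2, finrank_bot, finrank_span_singleton he0] at h3
      omega
    have hUR := split U hU heU
    have ih' := ih ↥R (Q.restrict R) (OrthTSKind97.nd_restrict hR) (by omega)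
      ⟨(U ⊓ R).comap R.subtype, fun x hx => hU _ hx.1, by
        rw [← Submodule.finrank_map_subtype_eq R, Submodule.map_comap_subtype,
          inf_eq_right.2 inf_le_right]
        omega⟩
    -- the group
    let O := LinearMap.ker (polarBilin Q e)
    let sg : Multiplicative O →* orth Q :=
      MonoidHom.mk' (fun w => siegel Q e (w.toAdd : V) hQe w.toAdd.2) fun a b =>
        (OrthUnitaryRefl.siegel_mul hQe a.toAdd.2 b.toAdd.2).symm
    let Sm1 := {W : Submodule F V // finrank F ↥W = m + 1 ∧ ∀ w ∈ W, Q w = 0}
    let act : MulAction (Multiplicative O) Sm1 :=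
      { smul := fun a W => ⟨W.1.map ((sg a).1 : V →ₗ[F] V),
          (LinearEquiv.finrank_map_eq (sg a).1 W.1).trans W.2.1, by
            rintro _ ⟨w, hw, rfl⟩
            show Q ((sg a).1 w) = 0
            rw [map_orth, W.2.2 w hw]⟩
        one_smul := fun W => Subtype.ext (by
          show W.1.map ((sg 1).1 : V →ₗ[F] V) = W.1
          rw [map_one]
          exact Submodule.map_id W.1)
        mul_smul := fun a b W => Subtype.ext (by
          show W.1.map ((sg (a * b)).1 : V →ₗ[F] V) =
            (W.1.map ((sg b).1 : V →ₗ[F] V)).map ((sg a).1 : V →ₗ[F] V)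
          rw [map_mul, ← Submodule.map_comp]
          rfl) }
    let _ := act
    have hP : IsPGroup p (Multiplicative O) := by
      obtain ⟨k, -, hk⟩ := FiniteField.card F p
      refine IsPGroup.of_card (n := (k : ℕ) * finrank F ↥O) ?_
      rw [show Nat.card (Multiplicative O) = Nat.card O from rfl,
        Module.natCard_eq_pow_finrank (K := F), Nat.card_eq_fintype_card, hk, pow_mul]
    have hsg : ∀ (w : O) x, (sg (Multiplicative.ofAdd w)).1 x =
        x + polar Q e x • (w : V) - (polar Q w x + Q w * polar Q e x) • e := fun w x =>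
      siegel_apply Q e w hQe w.2 x
    have hfix : ∀ W : Sm1, W ∈ MulAction.fixedPoints (Multiplicative O) Sm1 ↔ e ∈ W.1 := by
      intro W
      constructor
      · intro hW
        have hW' : ∀ (w : O), ∀ x ∈ W.1,
            x + polar Q e x • (w : V) - (polar Q w x + Q w * polar Q e x) • e ∈ W.1 := fun w x hx => by
          rw [← hsg]
          have h := congrArg Subtype.val (hW (Multiplicative.ofAdd w))
          exact h.le ⟨x, hx, rfl⟩
        by_contra he
        by_cases hperp : ∀ x ∈ W.1, polar Q e x = 0
        · -- `W` is orthogonal to `e`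
          obtain ⟨x, hx, hx0⟩ := Submodule.exists_mem_ne_zero_of_ne_bot (p := W.1)
            (fun h => by have := W.2.1; rw [h, finrank_bot] at this; omega)
          have hzero : ∀ w : O, polar Q (w : V) x = 0 := fun w => by
            have h := hW' w x hx
            rw [hperp x hx, zero_smul, add_zero, mul_zero, add_zero] at h
            by_contra hne
            refine he ?_
            have h2 := W.1.smul_mem (polar Q (w : V) x)⁻¹ (W.1.sub_mem hx h)
            rwa [sub_sub_cancel, smul_smul, inv_mul_cancel₀ hne, one_smul] at h2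
          have hxe : x = polar Q f x • e := sub_eq_zero.1 (hQ.1 _ fun v => by
            show polar Q (x - polar Q f x • e) v = 0
            have h1 := hzero ⟨v - polar Q e v • f, by
              show polar Q e (v - polar Q e v • f) = 0
              rw [polar_sub_right, polar_smul_right, hef, smul_eq_mul, mul_one, sub_self]⟩
            rw [polar_sub_left, polar_smul_left, polar_comm Q f e] at *
            simp only [polar_comm Q v x, smul_eq_mul] at h1 ⊢
            rw [mul_comm]
            exact h1)
          have hc : polar Q f x ≠ 0 := fun h => hx0 (by rw [hxe, h, zero_smul])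
          refine he ?_
          have h3 := W.1.smul_mem (polar Q f x)⁻¹ hx
          rwa [hxe, smul_smul, ← hxe, inv_mul_cancel₀ hc, one_smul] at h3
        · push Not at hperp
          obtain ⟨x, hx, hx0⟩ := hperp
          -- the orthogonal of `e` lies in `W + ⟨e⟩`
          have hle : O ≤ W.1 ⊔ F ∙ e := fun w hw => by
            have h := W.1.smul_mem (polar Q e x)⁻¹ (W.1.sub_mem (hW' ⟨w, hw⟩ x hx) hx)
            rw [Submodule.mem_sup]
            refine ⟨_, h, ((polar Q e x)⁻¹ * (polar Q w x + Q w * polar Q e x)) • e,
              Submodule.smul_mem _ _ (Submodule.mem_span_singleton_self e), ?_⟩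
            rw [smul_sub, smul_sub, smul_add, smul_smul, smul_smul, inv_mul_cancel₀ hx0, one_smul]
            abel
          have hOd : finrank F V ≤ finrank F ↥O + 1 := by
            have h := LinearMap.finrank_range_add_finrank_ker (polarBilin Q e)
            have h' := (LinearMap.range (polarBilin Q e)).finrank_le
            rw [Module.finrank_self] at h'
            show finrank F V ≤ finrank F ↥(LinearMap.ker (polarBilin Q e)) + 1
            omega
          have h1 := Submodule.finrank_mono hle
          have h2 := Submodule.finrank_sup_add_finrank_inf_eq W.1 (F ∙ e)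
          rw [finrank_span_singleton he0, W.2.1] at h2
          have hlt : finrank F ↥O < finrank F ↥(W.1 ⊔ F ∙ e) ∨ O = W.1 ⊔ F ∙ e := by
            by_cases h : O = W.1 ⊔ F ∙ e
            · exact Or.inr h
            · exact Or.inl (Submodule.finrank_lt_finrank_of_lt (lt_of_le_of_ne hle h))
          rcases hlt with h | h
          · omega
          · have : x ∈ O := h ▸ Submodule.mem_sup_left hx
            exact hx0 this
      · intro he a
        refine Subtype.ext (Submodule.eq_of_le_of_finrank_eq ?_ (LinearEquiv.finrank_map_eq (sg a).1 W.1))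
        rintro _ ⟨x, hx, rfl⟩
        show (sg (Multiplicative.ofAdd a.toAdd)).1 x ∈ W.1
        rw [hsg, TS.polar (Q := Q) W.2.2 he hx, zero_smul, add_zero]
        exact W.1.sub_mem hx (W.1.smul_mem _ he)
    -- the fixed points are the subspaces through `e`
    let Φ : MulAction.fixedPoints (Multiplicative O) Sm1 ≃
        {W : Submodule F ↥R // finrank F ↥W = m ∧ ∀ w ∈ W, Q.restrict R w = 0} :=
      { toFun := fun W => ⟨(W.1.1 ⊓ R).comap R.subtype, by
          rw [← Submodule.finrank_map_subtype_eq R, Submodule.map_comap_subtype, inf_eq_right.2 inf_le_right]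
          have := (split _ W.1.2.2 ((hfix W.1).1 W.2)).2
          rw [W.1.2.1] at this
          omega, fun w hw => W.1.2.2 _ hw.1⟩
        invFun := fun U => ⟨⟨F ∙ e ⊔ U.1.map R.subtype, by
            have h := Submodule.finrank_sup_add_finrank_inf_eq (F ∙ e) (U.1.map R.subtype)
            have h2 : (F ∙ e) ⊓ U.1.map R.subtype = ⊥ := (Submodule.eq_bot_iff _).2 fun v hv => by
              obtain ⟨c, rfl⟩ := Submodule.mem_span_singleton.1 hv.1
              have := ((hmem _).1 (Submodule.map_subtype_le R U.1 hv.2)).2
              rw [polar_smul_right, hfe, smul_eq_mul, mul_one] at this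
              rw [this, zero_smul]
            rw [h2, finrank_bot, finrank_span_singleton he0, Submodule.finrank_map_subtype_eq, U.2.1] at h
            omega, by
            intro v hv
            obtain ⟨a, ha, b, ⟨y, hy, rfl⟩, rfl⟩ := Submodule.mem_sup.1 hv
            obtain ⟨c, rfl⟩ := Submodule.mem_span_singleton.1 ha
            rw [QuadraticMap.map_add Q, QuadraticMap.map_smul, hQe, smul_zero, zero_add, polar_smul_left]
            have h4 : polar Q e (R.subtype y) = 0 := ((hmem _).1 y.2).1
            rw [h4, smul_zero, add_zero]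
            exact U.2.2 y hy⟩,
          (hfix _).2 (Submodule.mem_sup_left (Submodule.mem_span_singleton_self e))⟩
        left_inv := fun W => Subtype.ext (Subtype.ext (by
          show F ∙ e ⊔ ((W.1.1 ⊓ R).comap R.subtype).map R.subtype = W.1.1
          rw [Submodule.map_comap_subtype, inf_eq_right.2 inf_le_right]
          exact (split _ W.1.2.2 ((hfix W.1).1 W.2)).1.symm))
        right_inv := fun U => Subtype.ext (by
          show ((F ∙ e ⊔ U.1.map R.subtype) ⊓ R).comap R.subtype = U.1
          refine le_antisymm ?_ fun x hx => ⟨Submodule.mem_sup_right ⟨x, hx, rfl⟩, x.2⟩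
          rintro x ⟨hx, -⟩
          obtain ⟨a, ha, b, ⟨y, hy, rfl⟩, hab⟩ := Submodule.mem_sup.1 hx
          obtain ⟨c, rfl⟩ := Submodule.mem_span_singleton.1 ha
          have h := congrArg (polar Q f) hab
          rw [polar_add_right, polar_smul_right, hfe, smul_eq_mul, mul_one] at h
          have h5 : polar Q f (R.subtype y) = 0 := ((hmem _).1 y.2).2
          have h6 : polar Q f (R.subtype x) = 0 := ((hmem _).1 x.2).2
          rw [h5, h6, add_zero] at h
          rw [h, zero_smul, zero_add] at hab
          rwa [← R.injective_subtype hab]) }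
    have := hP.card_modEq_card_fixedPoints Sm1
    rw [Nat.card_congr Φ] at this
    exact this.trans ih'

/-- The characteristic does not divide the number of the subspaces. -/
theorem not_dvd {V : Type v} [AddCommGroup V] [Module F V] [FiniteDimensional F V]
    {Q : QuadraticForm F V} (hQ : (polarBilin Q).Nondegenerate) {κ m : ℕ}
    (hκ : OrthTSKind97.Ty Q κ) (hm : 2 * m + κ ≤ finrank F V) (hlt : 2 * m < finrank F V) :
    ¬ p ∣ Nat.card {W : Submodule F V // finrank F ↥W = m ∧ ∀ w ∈ W, Q w = 0} := by
  intro h
  have h1 := count_modEq (p := p) m V Q hQ hlt (hκ.exists_ts hm)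
  have h2 := (Nat.modEq_zero_iff_dvd.2 h).symm.trans h1
  exact (Fact.out : p.Prime).ne_one (Nat.dvd_one.1 (Nat.modEq_zero_iff_dvd.1 h2.symm))

end Cfsg.Agent.OrthTSCountP97
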