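import Mathlib
import Cfsg.Agent.Lib.OrthTSSplit97
import Cfsg.Agent.Lib.OrthTwoRank92
import Cfsg.Agent.Lib.OmegaClasses
import Cfsg.Agent.Lib.OrthSemisimpleSpinor

/-!
Isometries `A` with `A ^ 2 = ± 1` in odd characteristic and their invariant totally singular
subspaces.
-/

set_option autoImplicit false

namespace Cfsg.Agent.OrthTSTwo97

open Module QuadraticMap
open Cfsg.Agent.QuadInvariant97 (TS ND)
open Cfsg.Agent.OrthTSKind97
open Cfsg.Agent.OrthTSSplit97 (Fixes)
open Cfsg.Agent.OrthUnitaryQuad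
open Cfsg.Agent.OmegaClasses (rprod NS rprod_cons rprod_fix rprod_mem_iff)
open Cfsg.Agent.PrimeOrderModule84 (map_le_iff')

universe u v

variable {F : Type u} [Field F] [Fintype F] {V : Type v} [AddCommGroup V] [Module F V]
  [FiniteDimensional F V] {Q : QuadraticForm F V} {A : Module.End F V}

omit [Fintype F] [FiniteDimensional F V] in
theorem polar_map (hA : ∀ v, Q (A v) = Q v) (u v : V) : polar Q (A u) (A v) = polar Q u v :=
  QuadInvariant97.polar_map hA u v

omit [Fintype F] [FiniteDimensional F V] in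
/-- The eigenspaces of an involution. -/
theorem invol_compl (h2 : (2 : F) ≠ 0) (hA : ∀ v, Q (A v) = Q v) (hA2 : A * A = 1) :
    IsCompl (LinearMap.ker (A - 1)) (LinearMap.ker (A + 1)) ∧
      ∀ a ∈ LinearMap.ker (A - 1), ∀ b ∈ LinearMap.ker (A + 1), polar Q a b = 0 := by
  have hAA : ∀ v, A (A v) = v := fun v => DFunLike.congr_fun hA2 v
  refine ⟨⟨Submodule.disjoint_def.2 fun v h1 h1' => ?_, codisjoint_iff.2 (eq_top_iff.2 fun v _ => ?_)⟩,
    fun a ha b hb => ?_⟩
  · simp only [LinearMap.mem_ker, LinearMap.sub_apply, LinearMap.add_apply, Module.End.one_apply,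
      sub_eq_zero] at h1 h1'
    rw [h1, ← two_smul F] at h1'
    exact (smul_eq_zero.1 h1').resolve_left h2
  · refine Submodule.mem_sup.2 ⟨(2 : F)⁻¹ • (v + A v), ?_, (2 : F)⁻¹ • (v - A v), ?_, ?_⟩
    · simp [hAA, add_comm]
    · simp [hAA]
    · rw [← smul_add, show v + A v + (v - A v) = (2 : F) • v by rw [two_smul]; abel, smul_smul,
        inv_mul_cancel₀ h2, one_smul]
  · simp only [LinearMap.mem_ker, LinearMap.sub_apply, LinearMap.add_apply, Module.End.one_apply,
      sub_eq_zero, add_eq_zero_iff_eq_neg] at ha hb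
    have h := polar_map hA a b
    rw [ha, hb, polar_neg_right, eq_comm, ← sub_eq_zero, sub_neg_eq_add, ← two_mul] at h
    exact (mul_eq_zero.1 h).resolve_left h2

omit [Fintype F] in
/-- A sum of totally singular subspaces of the two eigenspaces. -/
theorem fix_invol (h2 : (2 : F) ≠ 0) (hA : ∀ v, Q (A v) = Q v) (hA2 : A * A = 1) {a b m : ℕ}
    (ha : Ty (Q.restrict (LinearMap.ker (A - 1))) a) (hb : Ty (Q.restrict (LinearMap.ker (A + 1))) b)
    (hm : 2 * m + a + b ≤ finrank F V) : Fixes Q A m := by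
  obtain ⟨hc, ho⟩ := invol_compl h2 hA hA2
  have hd := Submodule.finrank_add_eq_of_isCompl hc
  have := ha.le_finrank
  have := hb.le_finrank
  have := ha.mod_two
  have := hb.mod_two
  set P := LinearMap.ker (A - 1)
  set M := LinearMap.ker (A + 1)
  set s := min m ((finrank F ↥P - a) / 2)
  obtain ⟨S, hS, hSd⟩ := ha.exists_ts (s := s) (by omega)
  obtain ⟨T, hT, hTd⟩ := hb.exists_ts (s := m - s) (by omega)
  refine ⟨S.map P.subtype ⊔ T.map M.subtype, ?_, ?_, ?_⟩
  · have h := Submodule.finrank_sup_add_finrank_inf_eq (S.map P.subtype) (T.map M.subtype)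
    have hbot : S.map P.subtype ⊓ T.map M.subtype = ⊥ := by
      rw [eq_bot_iff, ← hc.inf_eq_bot]
      exact fun v hv => ⟨Submodule.map_subtype_le P S hv.1, Submodule.map_subtype_le M T hv.2⟩
    rw [hbot, finrank_bot, Submodule.finrank_map_subtype_eq, Submodule.finrank_map_subtype_eq, hSd,
      hTd] at h
    omega
  · refine TS.sup ?_ ?_ fun x hx y hy =>
      ho x (Submodule.map_subtype_le P S hx) y (Submodule.map_subtype_le M T hy)
    · rintro _ ⟨x, hx, rfl⟩; exact hS x hx
    · rintro _ ⟨x, hx, rfl⟩; exact hT x hx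
  · rw [map_le_iff']
    intro v hv
    obtain ⟨x, hx, y, hy, rfl⟩ := Submodule.mem_sup.1 hv
    have hx' := Submodule.map_subtype_le P S hx
    have hy' := Submodule.map_subtype_le M T hy
    simp only [P, M, LinearMap.mem_ker, LinearMap.sub_apply, LinearMap.add_apply, Module.End.one_apply,
      sub_eq_zero, add_eq_zero_iff_eq_neg] at hx' hy'
    rw [map_add, hx', hy']
    exact Submodule.add_mem_sup hx ((T.map M.subtype).neg_mem hy)

/-- An orthogonal basis with all values one but the last. -/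
theorem exists_family_one (h2 : (2 : F) ≠ 0) {W : Submodule F V} (hW : ND Q W) :
    ∃ v : Fin (finrank F ↥W) → V, (∀ i, v i ∈ W ∧ Q (v i) ≠ 0) ∧
      (∀ i j, i ≠ j → polar Q (v i) (v j) = 0) ∧
      ∀ i : Fin (finrank F ↥W), (i : ℕ) + 1 < finrank F ↥W → Q (v i) = 1 := by
  obtain ⟨v, hv, ho⟩ := OrthTwoRank92.exists_family h2 (fun _ => True) (fun d v => 2 ≤ d → Q v = 1)
    (fun W' hW' _ hpos => by
      by_cases hd : 2 ≤ finrank F ↥W'
      · have hreg : IsReg (Q.restrict W') := fun x hx _ => Subtype.ext (hW' x x.2 fun y hy => by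
          simpa [QuadraticMap.polar] using hx ⟨y, hy⟩)
        obtain ⟨x, hx⟩ := OrthUnitaryOmega.exists_map_eq hreg hd 1
        rw [QuadraticMap.restrict_apply] at hx
        exact ⟨x, x.2, hx ▸ one_ne_zero, fun _ => hx, trivial⟩
      · obtain ⟨v, hv, hQv⟩ := OrthTwoRank92.exists_anisotropic h2 hW'
          (fun e => by rw [e, finrank_bot] at hpos; omega)
        exact ⟨v, hv, hQv, fun h => absurd h hd, trivial⟩)
    _ W rfl hW trivial
  exact ⟨v, fun i => ⟨(hv i).1, (hv i).2.1⟩, ho, fun i hi => (hv i).2.2 (by omega)⟩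

/-- The reflections in an orthogonal family spanning `W` negate `W`. -/
theorem rprod_neg (h2 : (2 : F) ≠ 0) {W : Submodule F V} {N : ℕ} (v : Fin N → V)
    (hd : finrank F ↥W = N) (hv : ∀ i, v i ∈ W ∧ Q (v i) ≠ 0)
    (ho : ∀ i j, i ≠ j → polar Q (v i) (v j) = 0) :
    NS Q (List.ofFn v) ∧ (∀ x ∈ W, (rprod Q (List.ofFn v)).1 x = -x) ∧
      ∀ x, (∀ w ∈ W, polar Q w x = 0) → (rprod Q (List.ofFn v)).1 x = x := by
  have hns : NS Q (List.ofFn v) := fun x hx => by
    obtain ⟨i, rfl⟩ := List.mem_ofFn.1 hx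
    exact (hv i).2
  have hp : (List.ofFn v).Pairwise fun a b => polar Q a b = 0 :=
    List.pairwise_ofFn.2 fun i j hij => ho i j (Fin.ne_of_lt hij)
  refine ⟨hns, fun x hx => ?_, fun x hx => rprod_fix hns fun y hy => by
    obtain ⟨i, rfl⟩ := List.mem_ofFn.1 hy
    exact hx _ (hv i).1⟩
  have hli : LinearIndependent F v := by
    rw [Fintype.linearIndependent_iff]
    intro g hg i
    have := congrArg (polarBilin Q (v i)) hg
    simp only [map_sum, map_smul, polarBilin_apply_apply, map_zero, smul_eq_mul] at this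
    rw [Finset.sum_eq_single i (fun j _ hj => by rw [ho i j hj.symm, mul_zero])
      (fun h => absurd (Finset.mem_univ i) h), polar_self_mul] at this
    exact (mul_eq_zero.1 this).resolve_right (mul_ne_zero h2 (hv i).2)
  have hspan : Submodule.span F (Set.range v) = W := by
    refine Submodule.eq_of_le_of_finrank_eq (Submodule.span_le.2 ?_) ?_
    · rintro _ ⟨i, rfl⟩; exact (hv i).1
    · rw [finrank_span_eq_card hli, Fintype.card_fin, hd]
  rw [← hspan] at hx
  induction hx using Submodule.span_induction with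
  | mem x hx =>
    obtain ⟨i, rfl⟩ := hx
    rw [OrthSemisimpleSpinor.rprod_orth hns hp, List.map_ofFn, List.sum_ofFn,
      Finset.sum_eq_single i (fun j _ hj => by simp [ho j i hj]) (fun h => absurd (Finset.mem_univ i) h)]
    simp only [Function.comp_apply, polar_self_mul]
    rw [mul_comm 2, inv_mul_cancel_left₀ (hv i).2, two_smul]
    abel
  | zero => simp
  | add a b _ _ h1 h1' => rw [map_add, h1, h1', neg_add]
  | smul c a _ h1 => rw [LinearEquiv.map_smul, h1, smul_neg]

/-- When `-1` is a square, the negated space of an involution in the commutator subgroup is of plus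
type. -/
theorem invol_plus (hQ : (polarBilin Q).Nondegenerate) (hexc : Fintype.card F ≠ 2 ∨ finrank F V ≠ 4)
    (h2 : (2 : F) ≠ 0) (hi : IsSquare (-1 : F)) {k : orth Q} (hk : k ∈ commutator (orth Q))
    (hk2 : (k.1 : Module.End F V) * (k.1 : Module.End F V) = 1) :
    Ty (Q.restrict (LinearMap.ker ((k.1 : Module.End F V) + 1))) 0 := by
  set A := (k.1 : Module.End F V) with hAdef
  have hA : ∀ v, Q (A v) = Q v := fun v => map_orth k v
  obtain ⟨hc, ho⟩ := invol_compl h2 hA hk2
  set P := LinearMap.ker (A - 1) with hPdef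
  set M := LinearMap.ker (A + 1) with hMdef
  have hM : ND Q M := nd_of_compl hQ hc.symm fun x hx y hy => by rw [polar_comm]; exact ho y hy x hx
  obtain ⟨v, hv, horth, hone⟩ := exists_family_one h2 hM
  obtain ⟨hns, hneg, hfix⟩ := rprod_neg h2 v rfl hv horth
  have hkeq : k = rprod Q (List.ofFn v) := by
    refine OrthUnitaryRefl.orth_ext fun x => ?_
    obtain ⟨a, ha, b, hb, rfl⟩ := Submodule.mem_sup.1 (hc.sup_eq_top ▸ (Submodule.mem_top : x ∈ ⊤))
    rw [map_add, map_add, hneg b hb, hfix a fun w hw => by rw [polar_comm]; exact ho a ha w hw]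
    simp only [hPdef, hMdef, LinearMap.mem_ker, LinearMap.sub_apply, LinearMap.add_apply,
      Module.End.one_apply, sub_eq_zero, add_eq_zero_iff_eq_neg] at ha hb
    show A a + A b = a + -b
    rw [ha, hb]
  obtain ⟨hev, hsq⟩ := (rprod_mem_iff hQ hexc hns).1 (hkeq ▸ hk)
  rw [List.length_ofFn] at hev
  obtain ⟨ii, hii⟩ := hi
  obtain ⟨h, hh⟩ := hev
  -- all values can be made one
  rw [List.map_ofFn, List.prod_ofFn] at hsq
  obtain ⟨w, hw, hworth, hwone⟩ : ∃ w : Fin (finrank F ↥M) → V, (∀ j, w j ∈ M) ∧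
      (∀ j l, j ≠ l → polar Q (w j) (w l) = 0) ∧ ∀ j, Q (w j) = 1 := by
    rcases Nat.eq_zero_or_pos (finrank F ↥M) with h0 | hpos
    · exact ⟨v, fun j => (hv j).1, horth, fun j => absurd j.2 (by omega)⟩
    let last : Fin (finrank F ↥M) := ⟨finrank F ↥M - 1, by omega⟩
    have hlast : IsSquare (Q (v last)) := by
      rw [Finset.prod_eq_single last (fun j _ hj => ?_) (fun h => absurd (Finset.mem_univ _) h)] at hsq
      · exact hsq
      · refine hone j ?_
        have h3 : (j : ℕ) ≠ finrank F ↥M - 1 := fun h => hj (Fin.ext h)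
        have := j.2
        omega
    obtain ⟨s, hs⟩ := hlast
    have hs0 : s ≠ 0 := fun h0 => (hv last).2 (by rw [hs, h0, mul_zero])
    refine ⟨fun j => (if j = last then s⁻¹ else 1) • v j, fun j => M.smul_mem _ (hv j).1,
      fun j l hjl => by rw [polar_smul_left, polar_smul_right, horth j l hjl, smul_zero, smul_zero],
      fun j => ?_⟩
    rw [QuadraticMap.map_smul]
    split_ifs with hj
    · subst hj
      rw [hs, smul_eq_mul]
      field_simp
    · rw [hone j (by
        have h3 : (j : ℕ) ≠ finrank F ↥M - 1 := fun h => hj (Fin.ext h)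
        have := j.2
        omega)]
      simp
  let z : Fin h → M := fun j => ⟨w ⟨2 * j, by omega⟩ + ii • w ⟨2 * j + 1, by omega⟩,
    M.add_mem (hw _) (M.smul_mem _ (hw _))⟩
  have hzz : ∀ j l, j ≠ l → polar (Q.restrict M) (z j) (z l) = 0 := fun j l hjl => by
    have hv' : (j : ℕ) ≠ l := fun e => hjl (Fin.ext e)
    show polar Q (z j : V) (z l : V) = 0
    simp only [z, polar_add_left, polar_add_right, polar_smul_left, polar_smul_right]
    rw [hworth _ _ (by simp [Fin.ext_iff]; omega), hworth _ _ (by simp [Fin.ext_iff]; omega),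
      hworth _ _ (by simp [Fin.ext_iff]; omega), hworth _ _ (by simp [Fin.ext_iff]; omega)]
    simp
  have hzq : ∀ j, Q.restrict M (z j) = 0 := fun j => by
    show Q (z j : V) = 0
    simp only [z]
    rw [QuadraticMap.map_add Q, QuadraticMap.map_smul, polar_smul_right, hwone, hwone,
      hworth _ _ (by simp [Fin.ext_iff]), smul_eq_mul, smul_zero, mul_one, ← hii]
    ring
  have hzli : LinearIndependent F z := by
    rw [Fintype.linearIndependent_iff]
    intro g hg l
    have h3 := congrArg (fun x : M => polar Q (w ⟨2 * l, by omega⟩) (x : V)) hg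
    simp only [Submodule.coe_sum, Submodule.coe_smul, Submodule.coe_zero, polar_zero_right] at h3
    rw [← polarBilin_apply_apply, map_sum] at h3
    rw [Finset.sum_eq_single l (fun j _ hj => ?_) (fun h => absurd (Finset.mem_univ _) h)] at h3
    · simp only [z, map_smul, map_add, polarBilin_apply_apply, polar_self_mul, hwone,
        smul_eq_mul] at h3
      rw [hworth ⟨2 * l, _⟩ ⟨2 * l + 1, _⟩ (by simp [Fin.ext_iff]), mul_zero, add_zero] at h3
      exact (mul_eq_zero.1 h3).resolve_right (mul_ne_zero h2 one_ne_zero)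
    · have hv' : (j : ℕ) ≠ l := fun e => hj (Fin.ext e)
      simp only [z, map_smul, map_add, polarBilin_apply_apply, smul_eq_mul]
      rw [hworth _ _ (by simp [Fin.ext_iff]; omega), hworth _ _ (by simp [Fin.ext_iff]; omega)]
      simp
  have hZ : TS (Q.restrict M) (Submodule.span F (Set.range z)) := by
    intro x hx
    obtain ⟨g, rfl⟩ := Submodule.mem_span_range_iff_exists_fun F |>.1 hx
    rw [QuadClassify.map_sum_ortho _ _ _ fun j _ l _ hjl => by
      rw [polar_smul_left, polar_smul_right, hzz j l hjl, smul_zero, smul_zero]]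
    exact Finset.sum_eq_zero fun j _ => by rw [QuadraticMap.map_smul, hzq, smul_zero]
  obtain ⟨c, hcT⟩ := exists_ty (nd_restrict hM)
  have hb := hcT.bound hZ
  rw [finrank_span_eq_card hzli, Fintype.card_fin] at hb
  obtain rfl : c = 0 := by omega
  exact hcT

omit [Fintype F] in
/-- For `A² = -1` with square `-1` the space is the sum of two totally singular eigenspaces. -/
theorem eigen_split (h2 : (2 : F) ≠ 0) (hA : ∀ v, Q (A v) = Q v) (hA2 : ∀ v, A (A v) = -v) {ii : F}
    (hii : ii * ii = -1) :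
    ∃ U W : Submodule F V, TS Q U ∧ TS Q W ∧ finrank F ↥U + finrank F ↥W = finrank F V ∧
      (∀ u ∈ U, A u = ii • u) ∧ ∀ w ∈ W, A w = (-ii) • w := by
  refine ⟨LinearMap.ker (A - ii • 1), LinearMap.ker (A + ii • 1), ?_, ?_, ?_, fun u hu => ?_,
    fun w hw => ?_⟩
  · intro u hu
    simp only [LinearMap.mem_ker, LinearMap.sub_apply, LinearMap.smul_apply, Module.End.one_apply,
      sub_eq_zero] at hu
    have h := hA u
    rw [hu, QuadraticMap.map_smul, hii, smul_eq_mul, neg_one_mul, eq_comm, ← sub_eq_zero,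
      sub_neg_eq_add, ← two_mul] at h
    exact (mul_eq_zero.1 h).resolve_left h2
  · intro u hu
    simp only [LinearMap.mem_ker, LinearMap.add_apply, LinearMap.smul_apply, Module.End.one_apply,
      add_eq_zero_iff_eq_neg] at hu
    have h := hA u
    rw [hu, QuadraticMap.map_neg, QuadraticMap.map_smul, hii, smul_eq_mul, neg_one_mul, eq_comm,
      ← sub_eq_zero, sub_neg_eq_add, ← two_mul] at h
    exact (mul_eq_zero.1 h).resolve_left h2
  · have hi0 : ii ≠ 0 := fun h => by rw [h, mul_zero] at hii; exact one_ne_zero (neg_eq_zero.1 hii.symm)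
    refine Submodule.finrank_add_eq_of_isCompl ⟨Submodule.disjoint_def.2 fun v hv hv' => ?_,
      codisjoint_iff.2 (eq_top_iff.2 fun v _ => ?_)⟩
    · simp only [LinearMap.mem_ker, LinearMap.sub_apply, LinearMap.add_apply, LinearMap.smul_apply,
        Module.End.one_apply, sub_eq_zero] at hv hv'
      rw [hv, ← add_smul, ← two_mul, smul_eq_zero] at hv'
      exact hv'.resolve_left (mul_ne_zero h2 hi0)
    · refine Submodule.mem_sup.2 ⟨(2 * ii)⁻¹ • (A v + ii • v), ?_, (2 * ii)⁻¹ • (-(A v) + ii • v), ?_, ?_⟩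
      · simp only [LinearMap.mem_ker, LinearMap.sub_apply, LinearMap.smul_apply, Module.End.one_apply,
          map_smul, map_add, hA2, smul_add, smul_smul]
        match_scalars
        · linear_combination -(2 * ii)⁻¹ * hii
        · ring
      · simp only [LinearMap.mem_ker, LinearMap.add_apply, LinearMap.smul_apply, Module.End.one_apply,
          map_smul, map_add, map_neg, hA2, smul_add, smul_smul]
        match_scalars
        · linear_combination (2 * ii)⁻¹ * hii
        · ring
      · rw [← smul_add, show A v + ii • v + (-(A v) + ii • v) = (2 * ii) • v by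
          rw [mul_smul, two_smul]; abel, smul_smul, inv_mul_cancel₀ (mul_ne_zero h2 hi0), one_smul]
  · simp only [LinearMap.mem_ker, LinearMap.sub_apply, LinearMap.smul_apply, Module.End.one_apply,
      sub_eq_zero] at hu
    exact hu
  · simp only [LinearMap.mem_ker, LinearMap.add_apply, LinearMap.smul_apply, Module.End.one_apply,
      add_eq_zero_iff_eq_neg] at hw
    rw [hw, neg_smul]

omit [Fintype F] in
/-- An invariant subspace of a square root of a non-square `-1` has even dimension. -/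
theorem even_invariant (hA2 : ∀ v, A (A v) = -v) (hn : ¬ IsSquare (-1 : F)) {W : Submodule F V}
    (hW : W.map A ≤ W) : Even (finrank F ↥W) := by
  by_contra ho
  rw [Nat.not_even_iff_odd] at ho
  let B : Module.End F ↥W := A.restrict (map_le_iff'.1 hW)
  have h : B * B = (-1 : F) • 1 := LinearMap.ext fun v => Subtype.ext (by
    simp [B, hA2])
  have h' := congrArg LinearMap.det h
  rw [map_mul, LinearMap.det_smul, ho.neg_one_pow, map_one, mul_one] at h'
  exact hn ⟨LinearMap.det B, h'.symm⟩

omit [Fintype F] [FiniteDimensional F V] in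
/-- The plane spanned by a singular vector and its image. -/
theorem plane_of_singular (hA : ∀ v, Q (A v) = Q v) (h2 : (2 : F) ≠ 0) (hA2 : ∀ v, A (A v) = -v)
    (hn : ¬ IsSquare (-1 : F)) {R : Submodule F V} (hR : R.map A ≤ R) {v : V} (hv : v ∈ R) (hv0 : v ≠ 0)
    (hQv : Q v = 0) : ∃ U, U ≤ R ∧ U.map A ≤ U ∧ TS Q U ∧ finrank F ↥U = 2 := by
  have hAv := map_le_iff'.1 hR v hv
  have hp : polar Q v (A v) = 0 := by
    have h := polar_map hA v (A v)
    rw [hA2, polar_neg_right, polar_comm Q (A v) v, eq_comm, ← sub_eq_zero, sub_neg_eq_add, ← two_mul] at h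
    exact (mul_eq_zero.1 h).resolve_left h2
  have hli : LinearIndependent F ![v, A v] := by
    rw [LinearIndependent.pair_iff' hv0]
    intro a ha
    have h := hA2 v
    rw [← ha, map_smul, ← ha, smul_smul] at h
    refine hn ⟨a, ?_⟩
    have h3 : (a * a + 1) • v = 0 := by rw [add_smul, h, one_smul, neg_add_cancel]
    linear_combination -(smul_eq_zero.1 h3).resolve_right hv0
  refine ⟨Submodule.span F (Set.range ![v, A v]), ?_, ?_, ?_, by
    rw [finrank_span_eq_card hli, Fintype.card_fin]⟩
  · rw [Submodule.span_le]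
    rintro _ ⟨j, rfl⟩
    fin_cases j
    · exact hv
    · exact hAv
  · rw [Submodule.map_span, Submodule.span_le]
    rintro _ ⟨_, ⟨j, rfl⟩, rfl⟩
    fin_cases j
    · exact Submodule.subset_span ⟨1, rfl⟩
    · show A (A v) ∈ _
      rw [hA2]
      exact Submodule.neg_mem _ (Submodule.subset_span ⟨0, rfl⟩)
  · intro x hx
    rw [Matrix.range_cons, Matrix.range_cons, Matrix.range_empty, Set.union_empty, Set.singleton_union,
      Submodule.mem_span_pair] at hx
    obtain ⟨a, c, rfl⟩ := hx
    rw [QuadraticMap.map_add Q, QuadraticMap.map_smul, QuadraticMap.map_smul, hA, hQv, polar_smul_left,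
      polar_smul_right, hp]
    simp

/-- Invariant totally singular subspaces of even dimension. -/
theorem exists_even (hQ : (polarBilin Q).Nondegenerate) (hA : ∀ v, Q (A v) = Q v) (h2 : (2 : F) ≠ 0)
    (hA2 : ∀ v, A (A v) = -v) (hn : ¬ IsSquare (-1 : F)) {b : ℕ} (hb : 4 * b ≤ finrank F V + 1) :
    ∃ W : Submodule F V, TS Q W ∧ W.map A ≤ W ∧ finrank F ↥W = 2 * b := by
  have hAA : A ^ 2 = (-1 : F) • 1 := LinearMap.ext fun v => by simp [pow_two, hA2]
  have hAi : Function.Injective A := fun x y h => by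
    have := congrArg A h
    rw [hA2, hA2] at this
    exact neg_injective this
  obtain ⟨W, -, hWi, hW, hWd⟩ := QuadInvariant97.exists_iter (T := ⊤) hA (r := 2)
    (by exact_mod_cast h2) (neg_ne_zero.2 one_ne_zero) hAA hAi (i := 2) (N := 3)
    (fun R _ hRi _ h3 => by
      obtain ⟨v, hv, hv0, hQv⟩ := QuadClassify.exists_singular Q R h3
      exact plane_of_singular hA h2 hA2 hn hRi hv hv0 hQv)
    b ⊤ le_rfl le_top (nd_top hQ) (by
      rw [finrank_top]
      rcases Nat.eq_zero_or_pos b with h | h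
      · exact Or.inl h
      · right; omega)
  exact ⟨W, hW, hWi, by rw [hWd, mul_comm]⟩

/-- The kind of a space with a square root of a non-square `-1` follows its dimension. -/
theorem kind_of_neg (hQ : (polarBilin Q).Nondegenerate) (hA : ∀ v, Q (A v) = Q v) (h2 : (2 : F) ≠ 0)
    (hA2 : ∀ v, A (A v) = -v) (hn : ¬ IsSquare (-1 : F)) {κ d : ℕ} (hκ : Ty Q κ)
    (hd : finrank F V = 2 * d) : (Even d → κ = 0) ∧ (Odd d → κ = 2) := by
  have := hκ.le_two
  have := hκ.mod_two
  constructor
  · rintro ⟨b, hb⟩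
    obtain ⟨W, hW, -, hWd⟩ := exists_even hQ hA h2 hA2 hn (b := b) (by omega)
    have := hκ.bound hW
    omega
  · rintro ⟨b, hb⟩
    by_contra hk
    obtain rfl : κ = 0 := by omega
    obtain ⟨W, hW, hWi, hWd⟩ := exists_even hQ hA h2 hA2 hn (b := b) (by omega)
    obtain ⟨L, hWL, hL, hLd⟩ := hκ.extend hQ hW
    have hAi : Function.Injective A := fun x y h => by
      have := congrArg A h
      rw [hA2, hA2] at this
      exact neg_injective this
    obtain ⟨R', -, hR'i, hR', hR'd, hdisj, horth⟩ := QuadInvariant97.exists_reduct hA (r := 2)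
      (by exact_mod_cast h2) (neg_ne_zero.2 one_ne_zero)
      (LinearMap.ext fun v => by simp [pow_two, hA2] : A ^ 2 = (-1 : F) • 1) hAi (nd_top hQ) le_top
      le_top hWi hW
    rw [finrank_top, hWd] at hR'd
    have hle : W ⊔ R' ≤ QuadInvariant97.perp Q W := sup_le (fun x hx u hu => hW.polar hu hx)
      fun x hx u hu => horth x hx u hu
    have hpd := QuadInvariant97.finrank_orth (nd_top hQ) (le_top : W ≤ ⊤)
    rw [top_inf_eq, finrank_top, hWd] at hpd
    have hsum := Submodule.finrank_sup_add_finrank_inf_eq W R'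
    rw [inf_comm, hdisj, finrank_bot, hWd] at hsum
    have heq := Submodule.eq_of_le_of_finrank_eq hle (by omega)
    obtain ⟨l, hl, hlW⟩ := SetLike.exists_of_lt (lt_of_le_of_ne hWL fun e => by
      rw [← e, hWd] at hLd; omega)
    obtain ⟨w, hw, x, hx, hwx⟩ := Submodule.mem_sup.1 (heq.ge fun u hu => hL.polar (hWL hu) hl :
      l ∈ W ⊔ R')
    have hx0 : x ≠ 0 := fun h0 => hlW (by rw [← hwx, h0, add_zero]; exact hw)
    have hQx : Q x = 0 := by
      have := hL l hl
      rwa [← hwx, QuadraticMap.map_add Q, hW w hw, zero_add, horth x hx w hw, add_zero] at this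
    obtain ⟨U, hUR, -, hU, hUd⟩ := plane_of_singular hA h2 hA2 hn hR'i hx hx0 hQx
    have := QuadInvariant97.two_mul_le hR' hUR hU
    omega

omit [Fintype F] in
/-- A square root of `-1` as a product of reflections. -/
theorem exists_list (hA : ∀ v, Q (A v) = Q v) (h2 : (2 : F) ≠ 0) (hA2 : ∀ v, A (A v) = -v) :
    ∀ (n : ℕ) (R : Submodule F V), finrank F ↥R = n → R.map A ≤ R → OrthTwoRank92.RegOn Q R →
      ∃ (vs : List V) (j : ℕ) (s : F), NS Q vs ∧ (∀ v ∈ vs, v ∈ R) ∧ n = 2 * j ∧ vs.length = 2 * j ∧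
        (vs.map Q).prod = 2 ^ j * (s * s) ∧ s ≠ 0 ∧ ∀ x ∈ R, (rprod Q vs).1 x = A x := by
  intro n
  induction n using Nat.strong_induction_on with
  | _ n ih =>
    intro R hn hRi hR
    rcases eq_or_ne R ⊥ with rfl | hne
    · rw [finrank_bot] at hn
      refine ⟨[], 0, 1, by simp [NS], by simp, by omega, rfl, by simp, one_ne_zero, fun x hx => ?_⟩
      rw [(Submodule.mem_bot F).1 hx, map_zero, map_zero]
    obtain ⟨v, hv, hQv⟩ := OrthTwoRank92.exists_anisotropic h2 hR hne
    set w := A v with hw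
    have hwR : w ∈ R := map_le_iff'.1 hRi v hv
    have hQw : Q w = Q v := hA v
    have hvw : polar Q v w = 0 := by
      have h := polar_map hA v (A v)
      rw [hA2, polar_neg_right, polar_comm Q (A v) v, eq_comm, ← sub_eq_zero, sub_neg_eq_add, ← two_mul] at h
      exact (mul_eq_zero.1 h).resolve_left h2
    have hAw : A w = -v := hA2 v
    set u := v - w with hu
    have hQu : Q u = 2 * Q v := by
      rw [hu, sub_eq_add_neg, QuadraticMap.map_add Q, QuadraticMap.map_neg, hQw, polar_neg_right, hvw]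
      ring
    have hQu0 : Q u ≠ 0 := by rw [hQu]; exact mul_ne_zero h2 hQv
    have hw1 : w ∈ OrthTwoRank92.perp Q R v := OrthTwoRank92.mem_perp.2 ⟨hwR, hvw⟩
    set R' := OrthTwoRank92.perp Q (OrthTwoRank92.perp Q R v) w with hR'def
    have hR' : OrthTwoRank92.RegOn Q R' :=
      OrthTwoRank92.regOn_perp h2 (OrthTwoRank92.regOn_perp h2 hR hv hQv) hw1 (hQw ▸ hQv)
    have hd1 := OrthTwoRank92.finrank_perp h2 hv hQv
    have hd2 := OrthTwoRank92.finrank_perp h2 hw1 (hQw ▸ hQv)
    rw [← hR'def] at hd2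
    have hmem : ∀ x, x ∈ R' ↔ x ∈ R ∧ polar Q v x = 0 ∧ polar Q w x = 0 := fun x => by
      rw [hR'def, OrthTwoRank92.mem_perp, OrthTwoRank92.mem_perp, and_assoc]
    have hR'i : R'.map A ≤ R' := by
      rw [map_le_iff']
      intro x hx
      obtain ⟨h1, hvx, hwx⟩ := (hmem x).1 hx
      refine (hmem _).2 ⟨map_le_iff'.1 hRi x h1, ?_, by rw [hw, polar_map hA, hvx]⟩
      have h3 := polar_map hA (-w) x
      rw [map_neg, hAw, neg_neg, polar_neg_left, hwx, neg_zero] at h3
      exact h3
    obtain ⟨vs, j, s, hns, hmemR, hj, hlen, hprod, hs, hact⟩ := ih (finrank F ↥R') (by omega) R' rfl hR'i hR'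
    have hfix : ∀ x, (∀ y ∈ R', polar Q y x = 0) → (rprod Q vs).1 x = x := fun x hx =>
      rprod_fix hns fun y hy => hx y (hmemR y hy)
    refine ⟨v :: u :: vs, j + 1, Q v * s, ?_, ?_, by omega, by simp [hlen]; omega, ?_, mul_ne_zero hQv hs,
      fun x hx => ?_⟩
    · simp [NS, hQv, hQu0]
      exact hns
    · simp [hv, hu, R.sub_mem hv hwR]
      exact fun y hy => ((hmem y).1 (hmemR y hy)).1
    · rw [List.map_cons, List.map_cons, List.prod_cons, List.prod_cons, hprod, hQu]
      ring
    · obtain ⟨a, z, hz, rfl⟩ := OrthTwoRank92.exists_decomp h2 hv hQv hx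
      obtain ⟨b, y, hy, rfl⟩ := OrthTwoRank92.exists_decomp h2 hw1 (hQw ▸ hQv) hz
      rw [← hR'def] at hy
      rw [rprod_cons hQv, rprod_cons hQu0, OrthUnitaryRefl.orth_mul_apply, OrthUnitaryRefl.orth_mul_apply]
      have hvv : (rprod Q vs).1 v = v := hfix v fun y hy => by
        rw [polar_comm]; exact ((hmem y).1 hy).2.1
      have hww : (rprod Q vs).1 w = w := hfix w fun y hy => by
        rw [polar_comm]; exact ((hmem y).1 hy).2.2
      obtain ⟨hyR, hvy, hwy⟩ := (hmem _).1 (map_le_iff'.1 hR'i y hy)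
      simp only [map_add, LinearEquiv.map_smul, hvv, hww, hact y hy]
      have huv : polar Q u v = 2 * Q v := by
        rw [hu, polar_sub_left, polar_self_mul, polar_comm Q w v, hvw, sub_zero]
      have huw : polar Q u w = -(2 * Q v) := by
        rw [hu, polar_sub_left, polar_self_mul, hvw, hQw, zero_sub]
      have huy : polar Q u (A y) = 0 := by rw [hu, polar_sub_left, hvy, hwy, sub_zero]
      have e1 : (refl Q u hQu0).1 v = w := by
        rw [refl_apply, huv, hQu, inv_mul_cancel₀ (mul_ne_zero h2 hQv), one_smul, hu]; abel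
      have e2 : (refl Q u hQu0).1 w = v := by
        rw [refl_apply, huw, hQu, mul_neg, inv_mul_cancel₀ (mul_ne_zero h2 hQv), neg_smul, one_smul, hu]; abel
      have e3 : (refl Q u hQu0).1 (A y) = A y := by rw [refl_apply, huy, mul_zero, zero_smul, sub_zero]
      have e4 : (refl Q v hQv).1 w = w := by rw [refl_apply, hvw, mul_zero, zero_smul, sub_zero]
      have e5 : (refl Q v hQv).1 v = -v := by
        rw [refl_apply, polar_self_mul, mul_comm 2, inv_mul_cancel_left₀ hQv, two_smul]; abel
      have e6 : (refl Q v hQv).1 (A y) = A y := by rw [refl_apply, hvy, mul_zero, zero_smul, sub_zero]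
      rw [e1, e2, e3, e4, e5, e6, map_smul, map_smul, hAw]

/-- Membership of a square root of `-1` in the commutator subgroup. -/
theorem neg_mem_iff (hQ : (polarBilin Q).Nondegenerate) (hexc : Fintype.card F ≠ 2 ∨ finrank F V ≠ 4)
    (h2 : (2 : F) ≠ 0) {k : orth Q} (hk : ∀ v, k.1 (k.1 v) = -v) {d : ℕ} (hd : finrank F V = 2 * d) :
    k ∈ commutator (orth Q) ↔ IsSquare ((2 : F) ^ d) := by
  obtain ⟨vs, j, s, hns, -, hj, hlen, hprod, hs, hact⟩ :=
    exists_list (Q := Q) (A := (k.1 : Module.End F V)) (fun v => map_orth k v) h2 hk (finrank F V) ⊤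
      (finrank_top F V) le_top (OrthTwoRank92.regOn_top hQ)
  have hkeq : k = rprod Q vs := OrthUnitaryRefl.orth_ext fun x => (hact x trivial).symm
  obtain rfl : j = d := by omega
  rw [hkeq, rprod_mem_iff hQ hexc hns, hlen, hprod, and_iff_right (even_two_mul j)]
  refine ⟨fun ⟨c, hc⟩ => ⟨c / s, by field_simp; linear_combination hc⟩, fun h => h.mul ⟨s, rfl⟩⟩

end Cfsg.Agent.OrthTSTwo97
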