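import Mathlib
import Cfsg.Agent.Lib.OrthTSTwo97
import Cfsg.Agent.Lib.OrthTSBridge97

/-!
When every element of order two of the commutator subgroup of an orthogonal group in odd
characteristic fixes a totally singular `m`-space.
-/

set_option autoImplicit false

namespace Cfsg.Agent.OrthTSTwoIff97

open Module QuadraticMap
open Cfsg.Agent.QuadInvariant97 (TS ND)
open Cfsg.Agent.OrthTSKind97
open Cfsg.Agent.OrthTSTwo97
open Cfsg.Agent.OrthTSSplit97 (Fixes)
open Cfsg.Agent.OrthUnitaryQuad
open Cfsg.Agent.OmegaClasses (rprod NS rprod_mem_iff)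
open Cfsg.Agent.PrimeOrderModule84 (map_le_iff')

universe u v

variable {F : Type u} [Field F] [Fintype F] {V : Type v} [AddCommGroup V] [Module F V]
  [FiniteDimensional F V] {Q : QuadraticForm F V}

/-- The kinds of the two eigenspaces of an involution. -/
theorem eigen_kinds (hQ : (polarBilin Q).Nondegenerate) (h2 : (2 : F) ≠ 0) {A : Module.End F V}
    (hA : ∀ v, Q (A v) = Q v) (hA2 : A * A = 1) {κ : ℕ} (hκ : Ty Q κ) :
    ∃ a b, Ty (Q.restrict (LinearMap.ker (A - 1))) a ∧ Ty (Q.restrict (LinearMap.ker (A + 1))) b ∧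
      finrank F V % 2 = (a + b) % 2 ∧ (b = 0 ∨ b = 2 → a = fl b κ) := by
  obtain ⟨hc, ho⟩ := invol_compl h2 hA hA2
  have ho' : ∀ a ∈ LinearMap.ker (A + 1), ∀ b ∈ LinearMap.ker (A - 1), polar Q a b = 0 :=
    fun x hx y hy => by rw [polar_comm]; exact ho y hy x hx
  obtain ⟨a, ha⟩ := exists_ty (nd_restrict (nd_of_compl hQ hc ho))
  obtain ⟨b, hb⟩ := exists_ty (nd_restrict (nd_of_compl hQ hc.symm ho'))
  refine ⟨a, b, ha, hb, ?_, fun h => ty_compl hQ hc ho hκ hb h ha⟩
  have h1 := ha.mod_two
  have h2 := hb.mod_two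
  rw [← Submodule.finrank_add_eq_of_isCompl hc]
  omega

/-- A product of two reflections fixing only small totally singular subspaces. -/
theorem exists_refl_pair (hQ : (polarBilin Q).Nondegenerate)
    (hexc : Fintype.card F ≠ 2 ∨ finrank F V ≠ 4) (h2 : (2 : F) ≠ 0) (hn : ¬ IsSquare (-1 : F))
    {κ : ℕ} (hκ : Ty Q κ) (hd : 3 ≤ finrank F V) :
    ∃ k ∈ commutator (orth Q), (k.1 : Module.End F V) * (k.1 : Module.End F V) = 1 ∧
      (∀ z : F, (k.1 : Module.End F V) ≠ z • 1) ∧
      ∀ m, Fixes Q (k.1 : Module.End F V) m → 2 * m + fl 2 κ + 2 ≤ finrank F V := by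
  have hN : finrank F ↥(⊤ : Submodule F V) = finrank F V := finrank_top F V
  obtain ⟨v, hv, horth, hone⟩ := exists_family_one h2 (nd_top hQ)
  let w : Fin 2 → V := fun j => v (Fin.castLE (by omega) j)
  have hw1 : ∀ j, Q (w j) = 1 := fun j => hone _ (by
    show (j : ℕ) + 1 < finrank F ↥(⊤ : Submodule F V)
    have := j.2
    omega)
  have hworth : ∀ j l, j ≠ l → polar Q (w j) (w l) = 0 := fun j l h =>
    horth _ _ fun e => h (Fin.castLE_injective _ e)
  set M := Submodule.span F (Set.range w) with hM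
  have hli : LinearIndependent F w := by
    rw [Fintype.linearIndependent_iff]
    intro g hg i
    have := congrArg (polarBilin Q (w i)) hg
    simp only [map_sum, map_smul, polarBilin_apply_apply, map_zero, smul_eq_mul] at this
    rw [Finset.sum_eq_single i (fun j _ hj => by rw [hworth i j hj.symm, mul_zero])
      (fun h => absurd (Finset.mem_univ i) h), polar_self_mul, hw1, mul_one] at this
    exact (mul_eq_zero.1 this).resolve_right h2
  have hMd : finrank F ↥M = 2 := by rw [hM, finrank_span_eq_card hli, Fintype.card_fin]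
  obtain ⟨hns, hneg, hfix⟩ := rprod_neg h2 w hMd
    (fun i => ⟨Submodule.subset_span ⟨i, rfl⟩, by rw [hw1]; exact one_ne_zero⟩) hworth
  set k := rprod Q (List.ofFn w) with hk
  refine ⟨k, ?_, ?_, ?_, ?_⟩
  · rw [hk, rprod_mem_iff hQ hexc hns]
    refine ⟨by simp, ?_⟩
    rw [List.map_ofFn, List.prod_ofFn]
    simp [hw1]
  all_goals
    have hMnd : ∀ x, ∃ a ∈ M, x - a ∈ QuadInvariant97.perp Q M := fun x => by
      refine ⟨∑ j, (polar Q (w j) x / 2) • w j, Submodule.sum_mem _ fun j _ =>
        M.smul_mem _ (Submodule.subset_span ⟨j, rfl⟩), fun y hy => ?_⟩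
      show polar Q y (x - _) = 0
      induction hy using Submodule.span_induction with
      | mem y hy =>
        obtain ⟨i, rfl⟩ := hy
        rw [polar_sub_right, ← polarBilin_apply_apply, ← polarBilin_apply_apply, map_sum,
          Finset.sum_eq_single i (fun j _ hj => by simp [hworth i j hj.symm])
            (fun h => absurd (Finset.mem_univ i) h), map_smul, polarBilin_apply_apply, polarBilin_apply_apply,
          polar_self_mul, hw1, smul_eq_mul]
        field_simp
        ring
      | zero => exact polar_zero_left _ _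
      | add y z _ _ h1 h1' => rw [polar_add_left, h1, h1', add_zero]
      | smul c y _ h1 => rw [polar_smul_left, h1, smul_zero]
    have hfix' : ∀ x ∈ QuadInvariant97.perp Q M, (k.1 : Module.End F V) x = x := fun x hx =>
      hfix x fun y hy => hx y hy
    have hneg' : ∀ x ∈ M, (k.1 : Module.End F V) x = -x := hneg
  · refine LinearMap.ext fun x => ?_
    obtain ⟨a, ha, hp⟩ := hMnd x
    rw [show x = a + (x - a) by abel, Module.End.mul_apply, map_add, map_add, hneg' a ha, hfix' _ hp,
      map_neg, hneg' a ha, hfix' _ hp, neg_neg]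
    rfl
  · intro z hz
    have hw0 : w 0 ≠ 0 := hli.ne_zero 0
    have h1 := hneg' (w 0) (Submodule.subset_span ⟨0, rfl⟩)
    rw [hz, LinearMap.smul_apply, Module.End.one_apply] at h1
    have hz1 : z = -1 := by
      have h3 : (z + 1) • w 0 = 0 := by rw [add_smul, h1, one_smul, neg_add_cancel]
      linear_combination (smul_eq_zero.1 h3).resolve_right hw0
    have hlt : 0 < finrank F ↥(QuadInvariant97.perp Q M) := by
      have := QuadInvariant97.finrank_orth (nd_top hQ) (le_top : M ≤ ⊤)
      rw [top_inf_eq, hMd, finrank_top] at this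
      omega
    obtain ⟨x, hx, hx0⟩ := Submodule.exists_mem_ne_zero_of_ne_bot (p := QuadInvariant97.perp Q M)
      fun e => by rw [e, finrank_bot] at hlt; omega
    have h3 := hfix' x hx
    rw [hz, hz1, LinearMap.smul_apply, Module.End.one_apply, neg_one_smul, eq_comm, ← sub_eq_zero,
      sub_neg_eq_add, ← two_smul F] at h3
    exact hx0 ((smul_eq_zero.1 h3).resolve_left h2)
  · rintro m ⟨W, rfl, hW, hWi⟩
    set A := (k.1 : Module.End F V) with hAdef
    have hA : ∀ v, Q (A v) = Q v := fun v => map_orth k v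
    have hA2 : A * A = 1 := by
      refine LinearMap.ext fun x => ?_
      obtain ⟨a, ha, hp⟩ := hMnd x
      rw [show x = a + (x - a) by abel, Module.End.mul_apply, map_add, map_add, hneg' a ha, hfix' _ hp,
        map_neg, hneg' a ha, hfix' _ hp, neg_neg]
      rfl
    obtain ⟨hc, ho⟩ := invol_compl h2 hA hA2
    have hM' : LinearMap.ker (A + 1) = M := by
      refine le_antisymm (fun x hx => ?_) fun x hx => by
        rw [LinearMap.mem_ker, LinearMap.add_apply, hneg' x hx, Module.End.one_apply, neg_add_cancel]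
      obtain ⟨a, ha, hp⟩ := hMnd x
      have hx' : A x = -x := by
        rw [LinearMap.mem_ker, LinearMap.add_apply, Module.End.one_apply] at hx
        exact eq_neg_of_add_eq_zero_left hx
      have h3 : A (x - a) = -(x - a) := by rw [map_sub, hx', hneg' a ha]; abel
      rw [hfix' _ hp, eq_comm, ← sub_eq_zero, ← neg_add', neg_eq_zero, ← two_smul F] at h3
      rwa [sub_eq_zero.1 ((smul_eq_zero.1 h3).resolve_left h2)]
    have haniso : ∀ x ∈ M, Q x = 0 → x = 0 := fun x hx hQx => by
      obtain ⟨g, rfl⟩ := Submodule.mem_span_range_iff_exists_fun F |>.1 hx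
      rw [QuadClassify.map_sum_ortho Q _ _ fun j _ l _ hjl => by simp [hworth j l hjl]] at hQx
      simp only [Fin.sum_univ_two, QuadraticMap.map_smul, hw1, smul_eq_mul, mul_one] at hQx
      by_cases h1 : g 1 = 0
      · rw [h1, mul_zero, add_zero, mul_self_eq_zero] at hQx
        simp [Fin.sum_univ_two, h1, hQx]
      · refine absurd ⟨g 0 / g 1, ?_⟩ hn
        field_simp
        linear_combination -hQx
    obtain ⟨a, b, ha, hb, -, hab⟩ := eigen_kinds hQ h2 hA hA2 hκ
    have hdM : finrank F ↥(LinearMap.ker (A + 1)) = 2 := by rw [hM', hMd]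
    have hb2 : b = 2 := by
      have hm := hb.mod_two
      have := hb.le_two
      have := hb.le_finrank
      by_contra hne
      obtain ⟨U, hU, hUd⟩ := hb.exists_ts (s := 1) (by omega)
      obtain ⟨y, hy, hy0⟩ := Submodule.exists_mem_ne_zero_of_ne_bot (p := U)
        (fun e => by rw [e, finrank_bot] at hUd; omega)
      exact hy0 (Subtype.ext (haniso _ (hM' ▸ y.2) (hU y hy)))
    subst hb2
    have hWP : W ≤ LinearMap.ker (A - 1) := fun x hx => by
      have h3 : A x - x ∈ M := by
        rw [← hM', LinearMap.mem_ker, LinearMap.add_apply, Module.End.one_apply, map_sub,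
          show A (A x) = x from DFunLike.congr_fun hA2 x]
        abel
      rw [LinearMap.mem_ker, LinearMap.sub_apply, Module.End.one_apply]
      exact haniso _ h3 (hW _ (W.sub_mem (map_le_iff'.1 hWi x hx) hx))
    have hb' := ha.bound (U := W.comap (LinearMap.ker (A - 1)).subtype) fun x hx => hW _ hx
    have hWd : finrank F ↥(W.comap (LinearMap.ker (A - 1)).subtype) = finrank F ↥W :=
      (Submodule.comapSubtypeEquivOfLe hWP).finrank_eq
    have hd' := Submodule.finrank_add_eq_of_isCompl hc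
    rw [hdM] at hd'
    rw [hab (Or.inr rfl)] at hb'
    omega

/-- A square root of `-1` in dimension `2 d`. -/
theorem exists_sqrt_neg (hQ : (polarBilin Q).Nondegenerate)
    (h2 : (2 : F) ≠ 0) (hn : ¬ IsSquare (-1 : F)) {κ d : ℕ} (hκ : Ty Q κ)
    (hd : finrank F V = 2 * d) (hpar : (Even d → κ = 0) ∧ (Odd d → κ = 2)) :
    ∃ k : orth Q, ∀ v, k.1 (k.1 v) = -v := by
  let q2 : QuadraticForm F (Fin 2 → F) := QuadClassify.qBin F 0 1
  have hab : ∀ z₁ z₂ : F, z₁ ^ 2 + 0 * z₁ * z₂ + 1 * z₂ ^ 2 = 0 → z₁ = 0 ∧ z₂ = 0 := by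
    intro z₁ z₂ h
    by_cases hz : z₂ = 0
    · exact ⟨(pow_eq_zero_iff two_ne_zero).1 (by rw [hz] at h; linear_combination h), hz⟩
    · exact absurd ⟨z₁ / z₂, by field_simp; linear_combination -h⟩ hn
  let QM : QuadraticForm F (Fin d → Fin 2 → F) := QuadraticMap.pi fun _ => q2
  have hQM : (polarBilin QM).Nondegenerate := by
    have hb : ∀ x : Fin 2 → F, (∀ y, polar q2 x y = 0) → x = 0 := fun x hx =>
      QuadClassify.qBin_nondeg hab x trivial fun y _ => hx y
    have key : ∀ x, (∀ y, polar QM x y = 0) → x = 0 := fun x hx => funext fun l => hb _ fun y => by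
      have := hx (Pi.single l y)
      rw [QuadraticMap.Ring.polar_pi, Finset.sum_eq_single l] at this
      · rwa [Pi.single_eq_same] at this
      · intro k _ hk; rw [Pi.single_eq_of_ne hk]; simp
      · simp
    exact ⟨fun x hx => key x hx, fun x hx => key x fun y => by rw [polar_comm]; exact hx y⟩
  let J : Module.End F (Fin d → Fin 2 → F) := LinearMap.pi fun l =>
    (LinearMap.pi (![-(LinearMap.proj 1), LinearMap.proj 0] : Fin 2 → (Fin 2 → F) →ₗ[F] F)).comp (LinearMap.proj l)
  have hJ : ∀ v, QM (J v) = QM v := fun v => by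
    simp only [QM, QuadraticMap.pi_apply, J, LinearMap.pi_apply, LinearMap.comp_apply, LinearMap.proj_apply]
    refine Finset.sum_congr rfl fun l _ => ?_
    simp [q2, QuadClassify.qBin_apply]
    ring
  have hJ2 : ∀ v, J (J v) = -v := fun v => funext fun l => funext fun e => by
    fin_cases e <;> simp [J]
  obtain ⟨c, hc⟩ := exists_ty hQM
  have hdM : finrank F (Fin d → Fin 2 → F) = 2 * d := by simp [Module.finrank_pi_fintype]; ring
  have hck : c = κ := by
    obtain ⟨h1, h1'⟩ := kind_of_neg hQM hJ h2 hJ2 hn hc hdM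
    rcases Nat.even_or_odd d with h | h
    · rw [h1 h, hpar.1 h]
    · rw [h1' h, hpar.2 h]
  subst hck
  obtain ⟨φ, e, he, hφ⟩ := exists_sim hQM hQ hc hκ (hdM.trans hd.symm)
  let f : V ≃ₗ[F] V := LinearEquiv.ofLinearMap (φ.conj J) (φ.conj (-J))
    (LinearMap.ext fun v => by simp [LinearEquiv.conj_apply, hJ2])
    (LinearMap.ext fun v => by simp [LinearEquiv.conj_apply, hJ2])
  refine ⟨⟨f, fun v => ?_⟩, fun v => ?_⟩
  · show Q (φ.conj J v) = Q v
    obtain ⟨x, rfl⟩ := φ.surjective v
    rw [LinearEquiv.conj_apply_apply, φ.symm_apply_apply, hφ, hφ, hJ]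
  · show φ.conj J (φ.conj J v) = -v
    simp [LinearEquiv.conj_apply_apply, hJ2]

/-- Every non-scalar element with scalar square fixes a totally singular `m`-space. -/
def AllFix2 (Q : QuadraticForm F V) (m : ℕ) : Prop :=
  ∀ k ∈ commutator (orth Q), ∀ z : F, (k.1 : Module.End F V) * (k.1 : Module.End F V) = z • 1 →
    (∀ c : F, (k.1 : Module.End F V) ≠ c • 1) → Fixes Q (k.1 : Module.End F V) m

theorem odd_iff (hQ : (polarBilin Q).Nondegenerate) (hexc : Fintype.card F ≠ 2 ∨ finrank F V ≠ 4)
    (h2 : (2 : F) ≠ 0) {d m : ℕ} (hd : finrank F V = 2 * d + 1) (hd1 : 1 ≤ d) (hm : m ≤ d) :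
    (∀ k ∈ commutator (orth Q), (k.1 : Module.End F V) * (k.1 : Module.End F V) = 1 →
      (k.1 : Module.End F V) ≠ 1 → Fixes Q (k.1 : Module.End F V) m) ↔ m < d ∨ IsSquare (-1 : F) := by
  obtain ⟨κ, hκ⟩ := exists_ty hQ
  obtain rfl : κ = 1 := by
    have := hκ.mod_two; have := hκ.le_two; omega
  constructor
  · intro h
    by_contra hc
    push Not at hc
    obtain ⟨k, hk, hk2, hns, hbad⟩ := exists_refl_pair hQ hexc h2 hc.2 hκ (by omega)
    have := hbad m (h k hk hk2 fun e => hns 1 (by rw [e, one_smul]))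
    simp only [fl, if_true] at this
    omega
  · intro h k hk hk2 _
    set A := (k.1 : Module.End F V)
    have hA : ∀ v, Q (A v) = Q v := fun v => map_orth k v
    obtain ⟨a, b, ha, hb, hpar, hab⟩ := eigen_kinds hQ h2 hA hk2 hκ
    refine fix_invol h2 hA hk2 ha hb ?_
    have := ha.le_two
    have := hb.le_two
    rcases h with h | h
    · omega
    · obtain rfl := hb.unique (invol_plus hQ hexc h2 h hk hk2)
      have := hab (Or.inl rfl)
      simp [fl] at this
      omega

/-- The even dimensional criteria. -/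
theorem even_iff (hQ : (polarBilin Q).Nondegenerate) (hexc : Fintype.card F ≠ 2 ∨ finrank F V ≠ 4)
    (h2 : (2 : F) ≠ 0) {d m κ : ℕ} (hd : finrank F V = 2 * d) (hd2 : 2 ≤ d) (hκ : Ty Q κ)
    (hm : m < d) :
    (κ = 0 → (AllFix2 Q m ↔ IsSquare (-1 : F) ∨ (¬ IsSquare (-1 : F) ∧ m + 2 ≤ d ∧ (Even m ∨ Odd d)))) ∧
      (κ = 2 → (AllFix2 Q m ↔
        Even d ∨ Even m ∨ IsSquare (-1 : F) ∨ ¬ IsSquare ((2 : F) ^ d))) := by
  have hsc : ∀ {A : Module.End F V}, (∀ v, Q (A v) = Q v) → ∀ z : F, A * A = z • 1 → z = 1 ∨ z = -1 := by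
    intro A hA z hz
    obtain ⟨v, -, hv⟩ := OrthTwoRank92.exists_anisotropic h2 (OrthTwoRank92.regOn_top hQ)
      (fun e => by have := congrArg (fun X : Submodule F V => finrank F ↥X) e; simp at this; omega)
    have h1 := hA (A v)
    rw [← Module.End.mul_apply, hz, LinearMap.smul_apply, Module.End.one_apply,
      QuadraticMap.map_smul, hA, smul_eq_mul] at h1
    exact mul_self_eq_one_iff.1 (mul_right_cancel₀ hv (h1.trans (one_mul _).symm))
  have hJns : ∀ {A : Module.End F V}, (∀ v, A (A v) = -v) → ¬ IsSquare (-1 : F) →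
      ∀ c : F, A ≠ c • 1 := by
    intro A hA hn c hc
    have hne : (⊤ : Submodule F V) ≠ ⊥ := fun e => by
      have := congrArg (fun X : Submodule F V => finrank F ↥X) e; simp at this; omega
    obtain ⟨v, -, hv⟩ := Submodule.exists_mem_ne_zero_of_ne_bot hne
    have := hA v
    simp only [hc, LinearMap.smul_apply, Module.End.one_apply, smul_smul] at this
    have h3 : (c * c + 1) • v = 0 := by rw [add_smul, this, one_smul, neg_add_cancel]
    exact hn ⟨c, by linear_combination -(smul_eq_zero.1 h3).resolve_right hv⟩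
  -- the involutions
  have hinv : ∀ k ∈ commutator (orth Q), (k.1 : Module.End F V) * (k.1 : Module.End F V) = 1 →
      (IsSquare (-1 : F) ∨ κ = 2 ∨ m + 2 ≤ d) → Fixes Q (k.1 : Module.End F V) m := by
    intro k hk hk2 h
    set A := (k.1 : Module.End F V)
    have hA : ∀ v, Q (A v) = Q v := fun v => map_orth k v
    obtain ⟨a, b, ha, hb, hpar, hab⟩ := eigen_kinds hQ h2 hA hk2 hκ
    refine fix_invol h2 hA hk2 ha hb ?_
    have := ha.le_two
    have := hb.le_two
    have := hκ.le_two
    rcases h with h | h | h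
    · obtain rfl := hb.unique (invol_plus hQ hexc h2 h hk hk2)
      have := hab (Or.inl rfl)
      simp [fl] at this
      omega
    · subst h
      by_cases hb1 : b = 1
      · omega
      · have := hab (by omega)
        simp [fl] at this
        split_ifs at this <;> omega
    · omega
  -- elements with square `-1`
  have hneg : ∀ k : orth Q, (∀ v, k.1 (k.1 v) = -v) → ¬ IsSquare (-1 : F) → Even m →
      Fixes Q (k.1 : Module.End F V) m := by
    rintro k hk hn ⟨b, rfl⟩
    obtain ⟨W, hW, hWi, hWd⟩ := exists_even hQ (A := (k.1 : Module.End F V)) (fun v => map_orth k v) h2 hk hn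
      (b := b) (by omega)
    exact ⟨W, by omega, hW, hWi⟩
  have hodd : ∀ k : orth Q, (∀ v, k.1 (k.1 v) = -v) → ¬ IsSquare (-1 : F) →
      Fixes Q (k.1 : Module.End F V) m → Even m := by
    rintro k hk hn ⟨W, rfl, -, hWi⟩
    exact even_invariant hk hn hWi
  have heig : ∀ k : orth Q, (∀ v, k.1 (k.1 v) = -v) → IsSquare (-1 : F) →
      κ = 0 ∧ Fixes Q (k.1 : Module.End F V) m := by
    rintro k hk ⟨ii, hii⟩
    obtain ⟨U, W, hU, hW, hsum, hUe, hWe⟩ :=
      eigen_split (A := (k.1 : Module.End F V)) h2 (fun v => map_orth k v) hk hii.symm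
    have hbU := hκ.bound hU
    have hbW := hκ.bound hW
    refine ⟨by omega, ?_⟩
    obtain ⟨S, -, hSU, hSd⟩ := PrimeOrderModule84.exists_between (S := ⊥) (T := U) bot_le (k := m)
      (by simp) (by omega)
    exact ⟨S, hSd, hU.mono hSU, map_le_iff'.2 fun v hv => by rw [hUe v (hSU hv)]; exact S.smul_mem _ hv⟩
  have htoneg : ∀ k : orth Q, (k.1 : Module.End F V) * (k.1 : Module.End F V) = (-1 : F) • 1 →
      ∀ v, k.1 (k.1 v) = -v := fun k h v => by
    have := DFunLike.congr_fun h v
    simp only [Module.End.mul_apply, neg_one_smul] at this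
    exact this
  have hsplit : ∀ k ∈ commutator (orth Q), ∀ z : F,
      (k.1 : Module.End F V) * (k.1 : Module.End F V) = z • 1 →
      ((k.1 : Module.End F V) * (k.1 : Module.End F V) = 1 ∨ ∀ v, k.1 (k.1 v) = -v) := fun k _ z hz => by
    rcases hsc (A := (k.1 : Module.End F V)) (fun v => map_orth k v) z hz with rfl | rfl
    · exact Or.inl (by rw [hz, one_smul])
    · exact Or.inr (htoneg k hz)
  have hJ2 : ∀ k : orth Q, (∀ v, k.1 (k.1 v) = -v) →
      (k.1 : Module.End F V) * (k.1 : Module.End F V) = (-1 : F) • 1 := fun k h => LinearMap.ext fun v => by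
    simp [h v]
  constructor <;> rintro rfl
  · constructor
    · intro h
      by_cases hn : IsSquare (-1 : F)
      · exact Or.inl hn
      refine Or.inr ⟨hn, ?_, ?_⟩
      · obtain ⟨k, hk, hk2, hns, hbad⟩ := exists_refl_pair hQ hexc h2 hn hκ (by omega)
        have := hbad m (h k hk 1 (by rw [hk2, one_smul]) hns)
        simp [fl] at this
        omega
      · by_cases hdo : Odd d
        · exact Or.inr hdo
        rw [Nat.not_odd_iff_even] at hdo
        obtain ⟨k, hk⟩ := exists_sqrt_neg hQ h2 hn hκ hd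
          ⟨fun _ => rfl, fun h' => absurd h' (Nat.not_odd_iff_even.2 hdo)⟩
        have hmem : k ∈ commutator (orth Q) := by
          rw [neg_mem_iff hQ hexc h2 hk hd]
          obtain ⟨e, rfl⟩ := hdo
          exact ⟨2 ^ e, by rw [pow_add]⟩
        exact Or.inl (hodd k hk hn (h k hmem (-1) (hJ2 k hk) (hJns hk hn)))
    · intro h k hk z hz hns
      rcases hsplit k hk z hz with h1 | h1
      · exact hinv k hk h1 (h.imp id fun h' => Or.inr h'.2.1)
      · rcases h with h | ⟨hn, -, h | h⟩
        · exact (heig k h1 h).2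
        · exact hneg k h1 hn h
        · exact absurd ((kind_of_neg hQ (A := (k.1 : Module.End F V)) (fun v => map_orth k v) h2 h1 hn hκ
            hd).2 h) (by omega)
  · constructor
    · intro h
      by_contra hc
      push Not at hc
      obtain ⟨hde, hme, hn, hsq⟩ := hc
      obtain ⟨k, hk⟩ := exists_sqrt_neg hQ h2 hn hκ hd
        ⟨fun h' => absurd h' hde, fun _ => rfl⟩
      exact hme (hodd k hk hn (h k ((neg_mem_iff hQ hexc h2 hk hd).2 hsq) (-1) (hJ2 k hk) (hJns hk hn)))
    · intro h k hk z hz hns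
      rcases hsplit k hk z hz with h1 | h1
      · exact hinv k hk h1 (Or.inr (Or.inl rfl))
      · by_cases hn : IsSquare (-1 : F)
        · exact absurd (heig k h1 hn).1 (by omega)
        · rcases h with h | h | h | h
          · exact absurd ((kind_of_neg hQ (A := (k.1 : Module.End F V)) (fun v => map_orth k v) h2 h1 hn hκ
              hd).1 h) (by omega)
          · exact hneg k h1 hn h
          · exact absurd h hn
          · exact absurd ((neg_mem_iff hQ hexc h2 h1 hd).1 hk) h

section GLn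

variable {ι : Type} [Fintype ι] [DecidableEq ι] {q : QuadraticForm F (ι → F)}

omit [Fintype F] in
/-- The statements about matrices. -/
theorem bridge_scalar_two {m : ℕ} :
    (∀ x : GL ι F, x ∈ Cfsg.Geo.omegaGL ⇑q →
      (∃ z : F, ((x ^ 2 : GL ι F) : Matrix ι ι F) = z • (1 : Matrix ι ι F)) →
      (∀ z : F, (x : Matrix ι ι F) ≠ z • (1 : Matrix ι ι F)) →
      ∃ W : Submodule F (ι → F), finrank F ↥W = m ∧ (∀ w ∈ W, q w = 0) ∧
        W.map (Matrix.toLin' (x : Matrix ι ι F)) ≤ W) ↔ AllFix2 q m := by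
  constructor
  · intro h k hk z hz hns
    obtain ⟨W, hWd, hW, hWi⟩ := h (OmegaGeo.toGL q k) (OmegaGeo.toGL_mem hk) ⟨z, by
      refine Matrix.toLin'.injective ?_
      rw [OrthTSBridge97.toLin_pow, OrthTSBridge97.toLin_toGL, pow_two, hz, map_smul, Matrix.toLin'_one]
      rfl⟩ fun c hc => hns c (OrthTSBridge97.toGL_smul hc)
    exact ⟨W, hWd, hW, by rwa [OrthTSBridge97.toLin_toGL] at hWi⟩
  · intro h x hx ⟨z, hz⟩ hns
    obtain ⟨k, hk, rfl⟩ := OmegaGeo.exists_of_mem_omegaGL hx
    obtain ⟨W, hWd, hW, hWi⟩ := h k hk z (by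
        rw [← pow_two, ← OrthTSBridge97.toLin_toGL, ← OrthTSBridge97.toLin_pow, hz, map_smul,
          Matrix.toLin'_one]
        rfl) fun c hc => hns c (Matrix.toLin'.injective (by
          rw [OrthTSBridge97.toLin_toGL, hc, map_smul, Matrix.toLin'_one]; rfl))
    exact ⟨W, hWd, hW, by rw [OrthTSBridge97.toLin_toGL]; exact hWi⟩

omit [Fintype F] in
theorem bridge_order_two {m : ℕ} :
    (∀ x : GL ι F, x ∈ Cfsg.Geo.omegaGL ⇑q → orderOf x = 2 →
      ∃ W : Submodule F (ι → F), finrank F ↥W = m ∧ (∀ w ∈ W, q w = 0) ∧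
        W.map (Matrix.toLin' (x : Matrix ι ι F)) ≤ W) ↔
    (∀ k ∈ commutator (orth q), (k.1 : Module.End F (ι → F)) * (k.1 : Module.End F (ι → F)) = 1 →
      (k.1 : Module.End F (ι → F)) ≠ 1 → Fixes q (k.1 : Module.End F (ι → F)) m) := by
  constructor
  · intro h k hk hk2 hne
    obtain ⟨W, hWd, hW, hWi⟩ := h (OmegaGeo.toGL q k) (OmegaGeo.toGL_mem hk) (orderOf_eq_prime (by
        refine Units.ext (Matrix.toLin'.injective ?_)
        rw [OrthTSBridge97.toLin_pow, OrthTSBridge97.toLin_toGL, pow_two, hk2, Units.val_one,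
          Matrix.toLin'_one]; rfl)
      fun h1 => hne (by rw [← OrthTSBridge97.toLin_toGL, h1, Units.val_one, Matrix.toLin'_one]; rfl))
    exact ⟨W, hWd, hW, by rwa [OrthTSBridge97.toLin_toGL] at hWi⟩
  · intro h x hx ho
    obtain ⟨k, hk, rfl⟩ := OmegaGeo.exists_of_mem_omegaGL hx
    obtain ⟨W, hWd, hW, hWi⟩ := h k hk (by
        rw [← pow_two, ← OrthTSBridge97.toLin_toGL, ← OrthTSBridge97.toLin_pow, ← ho, pow_orderOf_eq_one,
          Units.val_one, Matrix.toLin'_one]; rfl) fun h1 => by
        have : OmegaGeo.toGL q k = 1 := Units.ext (Matrix.toLin'.injective (by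
          rw [OrthTSBridge97.toLin_toGL, Units.val_one, Matrix.toLin'_one]; exact h1))
        rw [this, orderOf_one] at ho
        exact absurd ho (by norm_num)
    exact ⟨W, hWd, hW, by rw [OrthTSBridge97.toLin_toGL]; exact hWi⟩

end GLn

end Cfsg.Agent.OrthTSTwoIff97
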