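import Mathlib
import Cfsg.Agent.Lib.OrthUnitaryOmega
import Cfsg.Agent.S2904

/-!
For odd `q` and `m ≥ 2` a regular quadratic space of dimension `2m+3` over `F_q` has no isometry with
trivial determinant and spinor sign whose order is divisible by `p (q^m + 1)`: the semisimple part is
`1` on a three-space and generates the elliptic torus of the orthogonal `2m`-space, whose spinor
sign is `-1` because it has an odd number of cycles on the vectors of norm one.
-/

set_option autoImplicit false
set_option linter.style.haveILetI false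
set_option linter.unusedSectionVars false

namespace Cfsg.Agent.OrthTorusSpinor

open QuadraticMap
open Cfsg.Agent.OrthUnitaryQuad
open Cfsg.Agent.OrthUnitaryOmega

variable {F : Type*} [Field F]

/-! ### Parity -/

/-- An involutive permutation with given fixed points gives the parity of a subtype. -/
theorem card_parity {α : Type*} [Finite α] (σ : α → α) (hσ : ∀ x, σ (σ x) = x) :
    Nat.card α % 2 = Nat.card {x // σ x = x} % 2 := by
  classical
  haveI := Fintype.ofFinite α
  haveI : Fact (Nat.Prime 2) := ⟨Nat.prime_two⟩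
  let σ' : Function.End α := σ
  have h : σ' ^ 2 ^ 1 = 1 := by
    rw [pow_one, pow_two]; funext x; exact hσ x
  have := Equiv.Perm.card_fixedPoints_modEq (p := 2) h
  rw [Nat.card_eq_fintype_card, Nat.card_eq_fintype_card,
    show Fintype.card {x // σ x = x} = Fintype.card (Function.fixedPoints σ') from
      Fintype.card_congr (Equiv.subtypeEquivRight fun x => Iff.rfl)]
  exact this

variable [Fintype F]

/-- The number of vectors of given norm has the parity of the indicator of zero. -/
theorem card_norm_parity {W : Type*} [AddCommGroup W] [Module F W] [Finite W] (h2 : (2 : F) ≠ 0)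
    (Q : QuadraticForm F W) (d : F) :
    (Nat.card {w : W // Q w = d} : ZMod 2) = open Classical in if d = 0 then 1 else 0 := by
  classical
  let σ : {w : W // Q w = d} → {w : W // Q w = d} := fun w => ⟨-w.1, by rw [QuadraticMap.map_neg, w.2]⟩
  have key := card_parity σ fun w => Subtype.ext (neg_neg _)
  have hfix : ∀ w : {w : W // Q w = d}, σ w = w ↔ w.1 = 0 := by
    intro w
    rw [Subtype.ext_iff]
    show -w.1 = w.1 ↔ _
    constructor
    · intro h
      have : (2 : F) • w.1 = 0 := by rw [two_smul]; nth_rw 1 [← h]; exact neg_add_cancel _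
      exact (smul_eq_zero.1 this).resolve_left h2
    · intro h; rw [h, neg_zero]
  rw [ZMod.natCast_eq_natCast_iff' _ _ 2 |>.2 key]
  split_ifs with hd
  · have : Nat.card {w : {w : W // Q w = d} // σ w = w} = 1 := Nat.card_eq_one_iff_unique.2
      ⟨⟨fun a b => Subtype.ext (Subtype.ext (((hfix _).1 a.2).trans ((hfix _).1 b.2).symm))⟩,
        ⟨⟨⟨0, by rw [hd, map_zero]⟩, (hfix _).2 rfl⟩⟩⟩
    rw [this, Nat.cast_one]
  · haveI : IsEmpty {w : {w : W // Q w = d} // σ w = w} := ⟨fun a => hd (by
      have := a.1.2; rw [(hfix _).1 a.2, map_zero] at this; exact this.symm)⟩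
    rw [Nat.card_of_isEmpty, Nat.cast_zero]

/-! ### Semiregular operators -/

/-- A fixed-point-free operator of prime order has dimension a multiple of the order of `q` mod `r`. -/
theorem dvd_finrank {U : Type*} [AddCommGroup U] [Module F U] [Finite U] {r e : ℕ} (he0 : 0 < e) (hr : r.Prime)
    (he : r ∣ Fintype.card F ^ e - 1) (hprim : ∀ k, 0 < k → k < e → ¬ r ∣ Fintype.card F ^ k - 1)
    (y : Module.End F U) (hy : y ^ r = 1) (hfix : ∀ a, y a = a → a = 0) :
    e ∣ Module.finrank F U := by
  classical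
  haveI := Fintype.ofFinite U
  haveI := Fact.mk hr
  let y' : Function.End U := ⇑y
  have h : y' ^ r ^ 1 = 1 := by
    rw [pow_one]; funext a
    have : ∀ n : ℕ, (y' ^ n) a = (y ^ n) a := by
      intro n
      induction n with
      | zero => rfl
      | succ n ih => rw [pow_succ', pow_succ']; show y ((y' ^ n) a) = y ((y ^ n) a); rw [ih]
    rw [this, hy]; rfl
  have h1 := Equiv.Perm.card_fixedPoints_modEq (p := r) h
  have h3 : Fintype.card (Function.fixedPoints y') = 1 :=
    Fintype.card_eq_one_iff.2 ⟨⟨0, map_zero y⟩, fun a => Subtype.ext (hfix a.1 a.2)⟩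
  have h2 : Fintype.card U = Fintype.card F ^ Module.finrank F U := Module.card_eq_pow_finrank
  set d := Module.finrank F U
  rw [show Fintype.card (Function.fixedPoints y') = 1 by convert h3, h2] at h1
  have hd : r ∣ Fintype.card F ^ d - 1 :=
    (Nat.modEq_iff_dvd' (Nat.one_le_pow _ _ Fintype.card_pos)).1 h1.symm
  have hg := Nat.dvd_gcd he hd
  rw [Nat.pow_sub_one_gcd_pow_sub_one] at hg
  rcases (Nat.gcd_le_left d he0).lt_or_eq with hlt | heq
  · exact absurd hg (hprim _ (Nat.gcd_pos_of_pos_left _ he0) hlt)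
  · exact heq ▸ Nat.gcd_dvd_right e d

section Torus

variable {U : Type*} [AddCommGroup U] [Module F U] [Finite U]

theorem torus (h2 : (2 : F) ≠ 0) {p : ℕ} [Fact p.Prime] [CharP F p] {m r : ℕ} (hm : 1 ≤ m)
    (hdim : Module.finrank F U = 2 * m) (hr : r.Prime) (hrQ : r ∣ Fintype.card F ^ m + 1)
    (he : r ∣ Fintype.card F ^ (2 * m) - 1)
    (hprim : ∀ k, 0 < k → k < 2 * m → ¬ r ∣ Fintype.card F ^ k - 1)
    (QU : QuadraticForm F U) (hQ : IsReg QU) (y : Module.End F U) (hy : y ^ r = 1)
    (hyQ : ∀ a, QU (y a) = QU a) (hfix : ∀ a, y a = a → a = 0) :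
    (∀ f : Module.End F U, Commute f y → f ^ p = 1 → f = 1) ∧
      (∀ f : Module.End F U, Commute f y → f ^ (Fintype.card F ^ m + 1) = 1 → LinearMap.det f = 1) ∧
      ∀ S : F → ℕ, (∀ d, (S d : ZMod 2) = open Classical in if d = 0 then 1 else 0) →
        ∃ T : ℕ, Odd T ∧ (∑ᶠ a ∈ {a : U | a ≠ 0}, S (1 - QU a)) = (Fintype.card F ^ m + 1) * T := by
  classical
  haveI := Fintype.ofFinite U
  haveI : Nontrivial U := Module.nontrivial_of_finrank_pos (R := F) (by omega)
  set q := Fintype.card F with hq
  set Q := q ^ m with hQdef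
  -- the invariant subspaces
  have hinv : ∀ P : Submodule F U, (∀ a ∈ P, y a ∈ P) → P = ⊥ ∨ P = ⊤ := by
    intro P hP
    have h := dvd_finrank (U := P) (by omega) hr he hprim (y.restrict hP)
      (by rw [Module.End.pow_restrict r hP]; ext a; simp [hy])
      (fun a ha => Subtype.ext (hfix a.1 (by simpa [Subtype.ext_iff] using ha)))
    rcases Nat.eq_zero_or_pos (Module.finrank F P) with h0 | h0
    · exact Or.inl (Submodule.finrank_eq_zero.1 h0)
    · refine Or.inr (Submodule.eq_top_of_finrank_eq (le_antisymm (Submodule.finrank_le P) ?_))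
      rw [hdim]; exact Nat.le_of_dvd h0 h
  obtain ⟨v, hv⟩ := exists_ne (0 : U)
  let L := Algebra.adjoin F ({y} : Set (Module.End F U))
  have hyL : y ∈ L := Algebra.self_mem_adjoin_singleton F y
  have hcy : ∀ x ∈ L, Commute x y := fun x hx => by
    induction hx using Algebra.adjoin_induction with
    | mem z hz => rw [Set.mem_singleton_iff.1 hz]
    | algebraMap c => exact Algebra.commute_algebraMap_left c y
    | add a b _ _ ha hb => exact ha.add_left hb
    | mul a b _ _ ha hb => exact ha.mul_left hb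
  have hker : ∀ f : Module.End F U, Commute f y → ∀ a : U, a ≠ 0 → f a = 0 → f = 0 := by
    intro f hf a ha hfa
    rcases hinv (LinearMap.ker f) (fun c hc => by
      rw [LinearMap.mem_ker] at hc ⊢
      rw [← Module.End.mul_apply, hf.eq, Module.End.mul_apply, hc, map_zero]) with h | h
    · exact absurd ((Submodule.mem_bot F).1 (h ▸ (LinearMap.mem_ker.2 hfa))) ha
    · exact LinearMap.ker_eq_top.1 h
  let ev : L →ₗ[F] U :=
    { toFun := fun x => x.1 v, map_add' := fun a b => rfl, map_smul' := fun c a => rfl }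
  have hev_inj : Function.Injective ev := by
    rw [← LinearMap.ker_eq_bot, LinearMap.ker_eq_bot']
    intro x hx
    exact Subtype.ext (hker x.1 (hcy _ x.2) v hv hx)
  have hev_surj : Function.Surjective ev := by
    rw [← LinearMap.range_eq_top]
    rcases hinv (LinearMap.range ev) (fun a ha => by
      obtain ⟨x, rfl⟩ := ha
      exact ⟨⟨y, hyL⟩ * x, rfl⟩) with h | h
    · exact absurd ((Submodule.mem_bot F).1 (h ▸ (⟨1, rfl⟩ : ev 1 ∈ LinearMap.range ev))) hv
    · exact h
  let evE : L ≃ₗ[F] U := LinearEquiv.ofBijective ev ⟨hev_inj, hev_surj⟩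
  letI : Fintype L := Fintype.ofEquiv U evE.symm.toEquiv
  have hLcomm : ∀ a b : L, a * b = b * a := fun a b => mul_comm a b
  haveI : IsDomain L := by
    haveI : Nontrivial L := evE.toEquiv.nontrivial
    haveI : NoZeroDivisors L := ⟨fun {a b} hab => by
      by_cases hb : b = 0
      · exact Or.inr hb
      · left
        have hbv : (b : Module.End F U) v ≠ 0 := fun h => hb (hev_inj (a₂ := 0) (h.trans (map_zero ev).symm))
        exact Subtype.ext (hker a.1 (hcy _ a.2) _ hbv (by
          have := congrArg (fun z : L => (z : Module.End F U) v) hab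
          simpa using this))⟩
    exact NoZeroDivisors.to_isDomain L
  haveI : CharP L p := charP_of_injective_algebraMap (algebraMap F L).injective p
  have hmemL : ∀ f : Module.End F U, Commute f y → f ∈ L := by
    intro f hf
    obtain ⟨x, hx⟩ := hev_surj (f v)
    have h0 : f - x.1 = 0 := hker _ (hf.sub_left (hcy _ x.2)) v hv (by
      rw [LinearMap.sub_apply]; exact sub_eq_zero.2 hx.symm)
    rw [sub_eq_zero.1 h0]; exact x.2
  -- the multiplicative group
  have hcardL : Fintype.card L = Q * Q := by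
    rw [Fintype.card_congr evE.toEquiv, Module.card_eq_pow_finrank (K := F) (V := U), hdim, hQdef, ← pow_add, two_mul]
  obtain ⟨g, hg⟩ := IsCyclic.exists_ofOrder_eq_natCard (α := Lˣ)
  have hQ1 : 2 ≤ Q := le_trans Fintype.one_lt_card (Nat.le_self_pow (by omega) q)
  have hunit : ∀ x : L, x ≠ 0 → IsUnit x := fun x hx => by
    obtain ⟨z, hz⟩ := Finite.surjective_of_injective (mul_right_injective₀ hx) 1
    exact isUnit_iff_exists.2 ⟨z, hz, by rw [hLcomm]; exact hz⟩
  have hcardU : Nat.card Lˣ = (Q + 1) * (Q - 1) := by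
    let e : Lˣ ≃ {x : L // x ≠ 0} :=
      Equiv.ofBijective (fun z => ⟨z.1, z.ne_zero⟩) ⟨fun a b h => Units.ext (congrArg Subtype.val h),
        fun x => ⟨(hunit _ x.2).unit, rfl⟩⟩
    rw [Nat.card_congr e, Nat.card_eq_fintype_card, Fintype.card_subtype_compl, Fintype.card_subtype_eq,
      hcardL, ← Nat.sq_sub_sq, one_pow, pow_two]
  rw [hcardU] at hg
  have hgen : ∀ z : Lˣ, ∃ k : ℕ, g ^ k = z := fun z => by
    have htop : Subgroup.zpowers g = ⊤ :=
      Subgroup.eq_top_of_card_eq _ (by rw [Nat.card_zpowers, hg, hcardU])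
    have hz : z ∈ Subgroup.zpowers g := htop ▸ Subgroup.mem_top z
    exact (Submonoid.mem_powers_iff z g).1 ((isOfFinOrder_of_finite g).mem_powers_iff_mem_zpowers.2 hz)
  have hroot : ∀ (x : L) (a : ℕ) (c : ℕ), a * c = (Q + 1) * (Q - 1) → 0 < a → x ^ a = 1 →
      ∃ j : ℕ, x = (g : L) ^ (c * j) := by
    intro x a c hac ha hx
    have hu : IsUnit x := .of_pow_eq_one hx ha.ne'
    obtain ⟨k, hk⟩ := hgen hu.unit
    have h1 : g ^ (k * a) = 1 := by
      rw [pow_mul, hk]; exact Units.ext (by rw [Units.val_pow_eq_pow_val, IsUnit.unit_spec, hx, Units.val_one])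
    have h3 := orderOf_dvd_of_pow_eq_one h1
    rw [hg, ← hac, mul_comm k a] at h3
    obtain ⟨j, hj⟩ := Nat.dvd_of_mul_dvd_mul_left ha h3
    exact ⟨j, by rw [← hj, ← Units.val_pow_eq_pow_val, hk, IsUnit.unit_spec]⟩
  refine ⟨fun f hf hfp => ?_, fun f hf hfQ => ?_, fun S hS => ?_⟩
  · have hxp : (⟨f, hmemL f hf⟩ : L) ^ p = 1 := Subtype.ext hfp
    have h0 : ((⟨f, hmemL f hf⟩ : L) - 1) ^ p = 0 := by rw [sub_pow_char, hxp, one_pow, sub_self]
    exact congrArg Subtype.val (sub_eq_zero.1 (eq_zero_of_pow_eq_zero h0))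
  · obtain ⟨j, hj⟩ := hroot ⟨f, hmemL f hf⟩ (Q + 1) (Q - 1) rfl (Nat.succ_pos _) (Subtype.ext hfQ)
    have hgd : LinearMap.det (g : L).1 ≠ 0 := by
      intro h
      have h' : (g : L).1 * (g⁻¹ : Lˣ).1.1 = 1 := congrArg Subtype.val g.mul_inv
      have := congrArg LinearMap.det h'
      rw [map_mul, map_one, h, zero_mul] at this
      exact zero_ne_one this
    have hdiv : q - 1 ∣ Q - 1 := by
      simpa [hQdef] using Nat.sub_dvd_pow_sub_pow q 1 m
    obtain ⟨i, hi⟩ := hdiv
    rw [show f = ((g : L).1) ^ ((Q - 1) * j) from congrArg Subtype.val hj, map_pow, hi, mul_assoc, pow_mul,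
      hq, FiniteField.pow_card_sub_one_eq_one _ hgd, one_pow]
  -- the adjoint is the field automorphism
  have hpol : ∀ a c, polar QU (y a) (y c) = polar QU a c := fun a c => by
    simp only [polar, ← map_add, hyQ]
  obtain ⟨n0, -, hn0⟩ := FiniteField.card F p
  let φQ : L →+* L := iterateFrobenius L p (n0 * m)
  have hφQ : ∀ x, φQ x = x ^ Q := fun x => by
    show iterateFrobenius L p (n0 * m) x = _
    rw [iterateFrobenius_def, hQdef, hq, hn0, ← pow_mul]
  have hφF : ∀ c : F, φQ (algebraMap F L c) = algebraMap F L c := fun c => by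
    rw [hφQ, ← map_pow, hQdef, hq, FiniteField.pow_card_pow]
  have hadj : ∀ x : L, ∀ a c, polar QU (x.1 a) c = polar QU a ((φQ x).1 c) := by
    intro x
    obtain ⟨x, hx⟩ := x
    induction hx using Algebra.adjoin_induction with
    | mem z hz =>
      intro a c
      obtain rfl : z = y := Set.mem_singleton_iff.1 hz
      have hyQ1 : (⟨z, hyL⟩ : L) * φQ ⟨z, hyL⟩ = 1 := by
        obtain ⟨i, hi⟩ := hrQ
        rw [hφQ, ← pow_succ', hi, pow_mul]
        rw [show (⟨z, hyL⟩ : L) ^ r = 1 from Subtype.ext hy, one_pow]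
      have hc : z ((φQ ⟨z, hyL⟩).1 c) = c := by
        have := congrArg (fun t : L => t.1 c) hyQ1
        simpa using this
      conv_lhs => rw [← hc]
      exact hpol _ _
    | algebraMap c' =>
      intro a c
      have : (φQ ⟨algebraMap F (Module.End F U) c', Subalgebra.algebraMap_mem _ c'⟩).1 =
          algebraMap F (Module.End F U) c' := congrArg Subtype.val (hφF c')
      rw [this]
      simp [Module.algebraMap_end_apply, polar_smul_left, polar_smul_right]
    | add a' b' ha' hb' iha ihb =>
      intro a c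
      have : (φQ ⟨a' + b', Subalgebra.add_mem _ ha' hb'⟩).1 = (φQ ⟨a', ha'⟩).1 + (φQ ⟨b', hb'⟩).1 :=
        congrArg Subtype.val (map_add φQ ⟨a', ha'⟩ ⟨b', hb'⟩)
      rw [this, LinearMap.add_apply, LinearMap.add_apply, polar_add_left, polar_add_right, ← iha, ← ihb]
    | mul a' b' ha' hb' iha ihb =>
      intro a c
      have : (φQ ⟨a' * b', Subalgebra.mul_mem _ ha' hb'⟩).1 = ((φQ ⟨b', hb'⟩) * (φQ ⟨a', ha'⟩)).1 :=
        congrArg Subtype.val ((map_mul φQ ⟨a', ha'⟩ ⟨b', hb'⟩).trans (hLcomm _ _))
      rw [this]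
      show polar QU (a' (b' a)) c = polar QU a ((φQ ⟨b', hb'⟩).1 ((φQ ⟨a', ha'⟩).1 c))
      rw [← ihb, ← iha]
  let φ : L →ₗ[F] F :=
    { toFun := fun z => (2 : F)⁻¹ * polar QU v (z.1 v)
      map_add' := fun a b => by simp [polar_add_right, mul_add]
      map_smul' := fun c a => by simp [polar_smul_right, mul_left_comm] }
  have hQx : ∀ x : L, QU (x.1 v) = φ (x ^ (Q + 1)) := by
    intro x
    show _ = (2 : F)⁻¹ * polar QU v _
    have h1 : polar QU (x.1 v) (x.1 v) = polar QU v ((x ^ (Q + 1)).1 v) := by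
      rw [hadj x, hφQ, pow_succ]; rfl
    rw [← h1, polar_self_mul, ← mul_assoc, inv_mul_cancel₀ h2, one_mul]
  -- the fixed field
  let P : Submodule F L :=
    { carrier := {z | φQ z = z}
      zero_mem' := map_zero φQ
      add_mem' := fun {a b} ha hb => by
        show φQ (a + b) = a + b
        rw [map_add, ha, hb]
      smul_mem' := fun c a ha => by
        show φQ (c • a) = c • a
        rw [Algebra.smul_def, map_mul, hφF, ha] }
  set h : L := (g : L) ^ (Q + 1) with hh
  have hQ2 : ((g : L) ^ ((Q + 1) * (Q - 1))) = 1 := by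
    rw [← hg, ← Units.val_pow_eq_pow_val, pow_orderOf_eq_one, Units.val_one]
  have hhQ : h ^ (Q - 1) = 1 := by rw [hh, ← pow_mul, hQ2]
  have hhP : ∀ i, h ^ i ∈ P := by
    intro i
    show φQ (h ^ i) = h ^ i
    rw [hφQ, ← pow_mul, mul_comm, pow_mul]
    congr 1
    nth_rw 1 [← Nat.sub_add_cancel (by omega : 1 ≤ Q)]
    rw [pow_succ, hhQ, one_mul]
  have hPh : ∀ z ∈ P, z ≠ 0 → ∃ i < Q - 1, z = h ^ i := by
    intro z hz hz0
    have h1 : z ^ (Q - 1) = 1 := mul_right_cancel₀ hz0 (by
      rw [← pow_succ, Nat.sub_add_cancel (by omega : 1 ≤ Q), one_mul, ← hφQ]; exact hz)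
    obtain ⟨j, hj⟩ := hroot z (Q - 1) (Q + 1) (mul_comm _ _) (by omega) h1
    refine ⟨j % (Q - 1), Nat.mod_lt _ (by omega), ?_⟩
    rw [← pow_eq_pow_mod j hhQ, hj, hh, ← pow_mul]
  have hhinj : ∀ i < Q - 1, ∀ j < Q - 1, h ^ i = h ^ j → i = j := by
    have hord : orderOf (g ^ (Q + 1)) = Q - 1 := by
      rw [orderOf_pow' g (Nat.succ_ne_zero Q), hg, Nat.gcd_eq_right (dvd_mul_right _ _),
        Nat.mul_div_cancel_left _ (Nat.succ_pos Q)]
    intro i hi j hj hij
    refine pow_injOn_Iio_orderOf (x := g ^ (Q + 1)) (by simpa [hord] using hi) (by simpa [hord] using hj) ?_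
    exact Units.ext (by simpa [hh] using hij)
  obtain ⟨z0, hz0P, hz0⟩ : ∃ z ∈ P, φ z = 1 := by
    by_contra hc
    push Not at hc
    have hzero : ∀ z ∈ P, φ z = 0 := fun z hz => by
      by_contra h0
      exact hc ((φ z)⁻¹ • z) (P.smul_mem _ hz) (by rw [map_smul, smul_eq_mul, inv_mul_cancel₀ h0])
    have hQ0 : ∀ a : U, QU a = 0 := fun a => by
      obtain ⟨x, rfl⟩ := hev_surj a
      show QU (x.1 v) = 0
      rw [hQx]
      by_cases hx : x = 0
      · rw [hx, zero_pow (Nat.succ_ne_zero Q), map_zero]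
      · obtain ⟨k, hk⟩ := hgen (hunit x hx).unit
        have : x = (g : L) ^ k := by rw [← Units.val_pow_eq_pow_val, hk, IsUnit.unit_spec]
        rw [this, ← pow_mul, mul_comm, pow_mul, ← hh]
        exact hzero _ (hhP k)
    exact hv (hQ v (fun c => by simp [polar, hQ0]) (hQ0 v))
  let A := {z : L // z ∈ P ∧ φ z = 1}
  let τ : A → A := fun z => ⟨(2 : F) • z0 - z.1, P.sub_mem (P.smul_mem _ hz0P) z.2.1, by
    rw [map_sub, map_smul, hz0, z.2.2, smul_eq_mul, mul_one]; norm_num⟩
  have hA : Nat.card A % 2 = 1 := by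
    rw [card_parity τ fun z => Subtype.ext (sub_sub_cancel _ _)]
    rw [show Nat.card {z // τ z = z} = 1 from Nat.card_eq_one_iff_unique.2 ⟨⟨fun a b => ?_⟩,
      ⟨⟨⟨z0, hz0P, hz0⟩, Subtype.ext (by show (2 : F) • z0 - z0 = z0; rw [two_smul, add_sub_cancel_right])⟩⟩⟩]
    have fx : ∀ a : {z // τ z = z}, a.1.1 = z0 := fun a => by
      have ha : (2 : F) • z0 - a.1.1 = a.1.1 := congrArg Subtype.val a.2
      have : (2 : F) • (z0 - a.1.1) = 0 := by
        rw [smul_sub, two_smul F a.1.1, ← sub_sub, ha, sub_self]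
      exact (sub_eq_zero.1 ((smul_eq_zero.1 this).resolve_left h2)).symm
    exact Subtype.ext (Subtype.ext ((fx a).trans (fx b).symm))
  let T := ∑ i ∈ Finset.range (Q - 1), S (1 - φ (h ^ i))
  refine ⟨T, ?_, ?_⟩
  · rw [← ZMod.natCast_eq_one_iff_odd, Nat.cast_sum]
    simp only [hS, sub_eq_zero]
    rw [Finset.sum_boole, ZMod.natCast_eq_one_iff_odd, Nat.odd_iff]
    rw [show ((Finset.range (Q - 1)).filter fun i => 1 = φ (h ^ i)).card = Nat.card A by
      rw [Nat.card_eq_fintype_card]
      refine Finset.card_bij (fun i _ => (⟨h ^ i, hhP i, ?_⟩ : A)) (fun _ _ => Finset.mem_univ _) ?_ ?_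
      · rename_i hi; exact (Finset.mem_filter.1 hi).2.symm
      · intro i hi j hj hij
        exact hhinj i (Finset.mem_range.1 (Finset.mem_filter.1 hi).1) j
          (Finset.mem_range.1 (Finset.mem_filter.1 hj).1) (congrArg Subtype.val hij)
      · intro z _
        have hz0' : z.1 ≠ 0 := fun h0 => by
          have := z.2.2; rw [h0, map_zero] at this; exact zero_ne_one this
        obtain ⟨i, hi, he⟩ := hPh z.1 z.2.1 hz0'
        exact ⟨i, Finset.mem_filter.2 ⟨Finset.mem_range.2 hi, by rw [← he, z.2.2]⟩, Subtype.ext he.symm⟩]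
    exact hA
  · rw [finsum_mem_eq_finite_toFinset_sum _ (Set.toFinite _)]
    have step1 : ∑ a ∈ (Set.toFinite {a : U | a ≠ 0}).toFinset, S (1 - QU a)
        = ∑ k ∈ Finset.range ((Q + 1) * (Q - 1)), S (1 - φ (h ^ k)) := by
      symm
      refine Finset.sum_bij (fun k _ => ((g : L) ^ k).1 v) ?_ ?_ ?_ ?_
      · intro k _
        simp only [Set.Finite.mem_toFinset, Set.mem_setOf_eq]
        intro h0
        have hz : ((g : L) ^ k) = 0 := hev_inj (a₂ := 0) (h0.trans (map_zero ev).symm)
        exact (g ^ k).ne_zero (by rw [Units.val_pow_eq_pow_val]; exact hz)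
      · intro i hi j hj hij
        have e : (g : L) ^ i = (g : L) ^ j := hev_inj hij
        exact pow_injOn_Iio_orderOf (x := g) (by simpa [hg] using hi) (by simpa [hg] using hj)
          (Units.ext (by simpa using e))
      · intro a ha
        simp only [Set.Finite.mem_toFinset, Set.mem_setOf_eq] at ha
        obtain ⟨x, rfl⟩ := hev_surj a
        have hx : x ≠ 0 := fun h0 => ha (by rw [h0, map_zero])
        obtain ⟨k, hk⟩ := hgen (hunit x hx).unit
        refine ⟨k % ((Q + 1) * (Q - 1)), Finset.mem_range.2 (Nat.mod_lt _ (Nat.mul_pos (by omega) (by omega))), ?_⟩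
        show ev _ = ev x
        rw [← pow_eq_pow_mod k hQ2, ← Units.val_pow_eq_pow_val, hk, IsUnit.unit_spec]
      · intro k _
        rw [hQx, hh, ← pow_mul, ← pow_mul, mul_comm]
    rw [step1]
    have per : ∀ c, ∑ k ∈ Finset.range (c * (Q - 1)), S (1 - φ (h ^ k)) = c * T := by
      intro c
      induction c with
      | zero => simp
      | succ c ih =>
        rw [add_mul, one_mul, Finset.sum_range_add, ih, add_mul, one_mul]
        refine congrArg _ (Finset.sum_congr rfl fun i _ => ?_)
        rw [pow_add, mul_comm c, pow_mul, hhQ, one_pow, one_mul]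
    exact per _

end Torus

section ThreeSpace

variable {W : Type*} [AddCommGroup W] [Module F W] [Finite W]

/-- In a regular three-space a semisimple isometry commuting with a nontrivial unipotent one is `±1`. -/
theorem three_space (h2 : (2 : F) ≠ 0) {p : ℕ} [Fact p.Prime] [CharP F p] (hp3 : 3 ≤ p)
    (hdim : Module.finrank F W = 3) (QW : QuadraticForm F W) (hQ : IsReg QW) (u s : Module.End F W)
    (hu : u ^ p = 1) (hu1 : u ≠ 1) (huQ : ∀ a, QW (u a) = QW a) (hsQ : ∀ a, QW (s a) = QW a)
    (hcomm : Commute s u) {e : ℕ} (he : p.Coprime e) (hs : s ^ e = 1) : s = 1 ∨ s = -1 := by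
  classical
  have hp := (Fact.out : p.Prime)
  haveI : Nontrivial W := Module.nontrivial_of_finrank_pos (R := F) (by omega)
  haveI : CharP (Module.End F W) p :=
    charP_of_injective_algebraMap (algebraMap F (Module.End F W)).injective p
  set N : Module.End F W := u - 1 with hN
  have huN : ∀ a, u a = a + N a := fun a => by simp [hN]
  have hNnil : IsNilpotent N := by
    refine ⟨p, ?_⟩
    rw [hN, sub_pow_char_of_commute p (Commute.one_right u), hu, one_pow, sub_self]
  have hN3 : ∀ a, N (N (N a)) = 0 := fun a => by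
    have h := (LinearMap.charpoly_nilpotent_tfae N).out 0 1
    have h' := LinearMap.aeval_self_charpoly N
    rw [h.1 hNnil, hdim, map_pow, Polynomial.aeval_X] at h'
    have := LinearMap.congr_fun h' a
    simpa [pow_succ, Module.End.mul_apply] using this
  have hpolu : ∀ a c, polar QW (u a) (u c) = polar QW a c := fun a c => by
    simp only [polar, ← map_add, huQ]
  have hreg : ∀ a, (∀ c, polar QW a c = 0) → a = 0 := fun a ha =>
    (nondegenerate_of_isReg h2 hQ).1 a ha
  have horth : ∀ a c, N c = 0 → polar QW (N a) c = 0 := fun a c hc => by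
    have := hpolu a c
    rw [huN, huN c, hc, add_zero, polar_add_left] at this
    linear_combination this
  obtain ⟨w, hw⟩ : ∃ w, N (N w) ≠ 0 := by
    by_contra hc
    push Not at hc
    obtain ⟨a, ha⟩ : ∃ a, N a ≠ 0 := by
      by_contra h
      push Not at h
      exact hu1 (LinearMap.ext fun x => by rw [huN, h, add_zero]; rfl)
    have hle : LinearMap.range N ≤ LinearMap.ker N := by
      rintro _ ⟨x, rfl⟩; exact hc x
    have hr1 : Module.finrank F (LinearMap.range N) = 1 := by
      have h1 := LinearMap.finrank_range_add_finrank_ker N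
      have h2' := Submodule.finrank_mono hle
      have h3 : 1 ≤ Module.finrank F (LinearMap.range N) := by
        rw [Nat.one_le_iff_ne_zero, Ne, Submodule.finrank_eq_zero]
        intro h; exact ha ((Submodule.mem_bot F).1 (h ▸ ⟨a, rfl⟩))
      omega
    have hskew : ∀ x z, polar QW (N x) z = - polar QW (N z) x := fun x z => by
      have h := hpolu x z
      rw [huN, huN z, polar_add_left, polar_add_right, polar_add_right, horth x (N z) (hc z),
        polar_comm QW x (N z)] at h
      linear_combination h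
    have hNaa : polar QW (N a) a = 0 := by
      have h := hskew a a
      have h' : (2 : F) * polar QW (N a) a = 0 := by linear_combination h
      exact (mul_eq_zero.1 h').resolve_left h2
    apply ha
    apply hreg
    intro z
    obtain ⟨c, hcz⟩ := (finrank_eq_one_iff_of_nonzero' (⟨N a, a, rfl⟩ : LinearMap.range N)
      (by simpa [Subtype.ext_iff] using ha)).1 hr1 ⟨N z, z, rfl⟩
    have hcz' : c • N a = N z := congrArg Subtype.val hcz
    rw [hskew, ← hcz', polar_smul_left, hNaa, smul_zero, neg_zero]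
  have hind : LinearIndependent F ![w, N w, N (N w)] := by
    rw [Fintype.linearIndependent_iff]
    intro c hc
    simp [Fin.sum_univ_three] at hc
    have e1 := congrArg N hc
    simp [hN3] at e1
    have e2 := congrArg N e1
    simp [hN3] at e2
    have c0 : c 0 = 0 := e2.resolve_right hw
    rw [c0, zero_smul, zero_add] at e1
    have c1 : c 1 = 0 := (smul_eq_zero.1 e1).resolve_right hw
    rw [c0, c1, zero_smul, zero_smul, zero_add, zero_add] at hc
    have c2 : c 2 = 0 := (smul_eq_zero.1 hc).resolve_right hw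
    intro i; fin_cases i <;> assumption
  have hspan := hind.span_eq_top_of_card_eq_finrank (by rw [Fintype.card_fin, hdim])
  obtain ⟨c, hc⟩ := (Submodule.mem_span_range_iff_exists_fun F).1 (hspan ▸ Submodule.mem_top (x := s w))
  simp [Fin.sum_univ_three] at hc
  set M : Module.End F W := c 1 • N + c 2 • (N * N) with hM
  have hcN : Commute s N := hN ▸ hcomm.sub_right (Commute.one_right s)
  have hsN : ∀ x, s (N x) = N (s x) := fun x => LinearMap.congr_fun hcN.eq x
  have hsM : s = c 0 • (1 : Module.End F W) + M := by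
    refine LinearMap.ext_on hspan ?_
    rintro _ ⟨i, rfl⟩
    fin_cases i
    · show s w = _
      simp [hM, ← hc]; abel
    · show s (N w) = _
      rw [hsN, ← hc]
      simp [hM, hN3]
    · show s (N (N w)) = _
      rw [hsN, hsN, ← hc]
      simp [hM, hN3]
  have hM3 : M ^ 3 = 0 := LinearMap.ext fun x => by
    simp [hM, pow_succ, Module.End.mul_apply, hN3, map_add, map_smul]
  have hMp : M ^ p = 0 := pow_eq_zero_of_le hp3 hM3
  have hscomm : Commute (c 0 • (1 : Module.End F W)) M := (Commute.one_left M).smul_left _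
  have hsp : s ^ p = (c 0) ^ p • (1 : Module.End F W) := by
    rw [hsM, add_pow_char_of_commute p hscomm, hMp, add_zero, smul_pow, one_pow]
  have hs1 : s = s ^ (p * (Nat.gcdA p e % e).toNat) := by
    have he0 : e ≠ 0 := by
      rintro rfl
      exact hp.one_lt.ne' (by simpa using he)
    have h1 : p * (Nat.gcdA p e % e).toNat % e = 1 % e := by
      have hb := Nat.gcd_eq_gcd_ab p e
      rw [he.gcd_eq_one] at hb
      have : ((p * (Nat.gcdA p e % e).toNat : ℕ) : ℤ) % e = (1 : ℤ) % e := by
        rw [Nat.cast_mul, Int.toNat_of_nonneg (Int.emod_nonneg _ (by exact_mod_cast he0)), Int.mul_emod,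
          Int.emod_emod_of_dvd _ dvd_rfl, ← Int.mul_emod]
        rw [Int.emod_eq_emod_iff_emod_sub_eq_zero]
        exact Int.emod_eq_zero_of_dvd ⟨-Nat.gcdB p e, by rw [Nat.cast_one] at hb; linarith⟩
      exact_mod_cast this
    rw [pow_eq_pow_mod _ hs, h1, ← pow_eq_pow_mod _ hs, pow_one]
  rw [pow_mul, hsp, smul_pow, one_pow] at hs1
  set α := ((c 0) ^ p) ^ (Nat.gcdA p e % e).toNat
  have hα : α ^ 2 = 1 := by
    obtain ⟨a, ha⟩ : ∃ a, QW a ≠ 0 := by
      by_contra h
      push Not at h
      exact hw (hreg _ fun z => by simp [polar, h])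
    have := hsQ a
    rw [hs1] at this
    simp [QuadraticMap.map_smul] at this
    rw [pow_two]
    exact mul_right_cancel₀ ha (by rw [one_mul]; exact this)
  rcases sq_eq_one_iff.1 hα with h | h
  · left; rw [hs1, h, one_smul]
  · right; rw [hs1, h, neg_smul, one_smul]

end ThreeSpace

section Main

variable {V : Type*} [AddCommGroup V] [Module F V] [Finite V]

theorem coe_pow_orth {Q : QuadraticForm F V} (g : orth Q) (k : ℕ) :
    (((g ^ k : orth Q).1 : V ≃ₗ[F] V) : Module.End F V) = (g.1 : Module.End F V) ^ k := by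
  induction k with
  | zero => rfl
  | succ k ih => rw [pow_succ, pow_succ, ← ih]; rfl

theorem orth_eq_one_iff {Q : QuadraticForm F V} (g : orth Q) :
    g = 1 ↔ (g.1 : Module.End F V) = 1 := by
  refine ⟨fun h => h ▸ rfl, fun h => Subtype.ext (LinearEquiv.toLinearMap_injective h)⟩

/-- The obstruction. -/
theorem not_dvd_orderOf (h2 : (2 : F) ≠ 0) {p : ℕ} [Fact p.Prime] [CharP F p] {m : ℕ} (hm : 2 ≤ m)
    (hdim : Module.finrank F V = 2 * m + 3) (Q : QuadraticForm F V) (hQ : IsReg Q) (g : orth Q)
    (hg : g ∈ commutator (orth Q)) : ¬ p * (Fintype.card F ^ m + 1) ∣ orderOf g := by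
  classical
  intro hdiv
  haveI := finite_orth Q
  haveI : Nontrivial V := Module.nontrivial_of_finrank_pos (R := F) (by omega)
  have hp := (Fact.out : p.Prime)
  obtain ⟨nn, -, hn⟩ := FiniteField.card F p
  set q := Fintype.card F with hq
  have hp3 : 3 ≤ p := by
    have := hp.two_le
    rcases eq_or_ne p 2 with rfl | h
    · exact absurd (CharTwo.two_eq_zero (R := F)) h2
    · omega
  -- replace `g` by a power of the exact order
  obtain ⟨g, hgc, hord⟩ : ∃ g' : orth Q, g' ∈ commutator (orth Q) ∧ orderOf g' = p * (q ^ m + 1) :=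
    ⟨g ^ (orderOf g / (p * (q ^ m + 1))), Subgroup.pow_mem _ hg _,
      orderOf_pow_orderOf_div (orderOf_pos g).ne' hdiv⟩
  have hcop : p.Coprime (q ^ m + 1) := by
    rw [hp.coprime_iff_not_dvd]
    intro h
    have hpq : p ∣ q ^ m := by rw [hn]; exact (dvd_pow_self p nn.pos.ne').trans (dvd_pow_self _ (by omega))
    exact hp.not_dvd_one ((Nat.dvd_add_right hpq).1 h)
  set s := g ^ p with hs
  set u := g ^ (q ^ m + 1) with hu
  have hos : orderOf s = q ^ m + 1 := by
    rw [hs, orderOf_pow' g hp.pos.ne', hord, Nat.gcd_eq_right (dvd_mul_right _ _),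
      Nat.mul_div_cancel_left _ hp.pos]
  have hou : orderOf u = p := by
    rw [hu, orderOf_pow' g (Nat.succ_ne_zero _), hord, Nat.gcd_eq_right (dvd_mul_left _ _),
      Nat.mul_div_cancel _ (Nat.succ_pos _)]
  have hq3 : 3 ≤ q := hn ▸ le_trans hp3 (Nat.le_self_pow nn.pos.ne' p)
  obtain ⟨r, hr, hre, hprim⟩ := S2904.result q (2 * m) (by omega) (by omega) (by omega) (by omega)
  have hrQ : r ∣ q ^ m + 1 := by
    have h1 : r ∣ (q ^ m + 1) * (q ^ m - 1) := by
      rw [← Nat.sq_sub_sq, one_pow, ← pow_mul, mul_comm m]; exact hre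
    exact (hr.dvd_mul.1 h1).resolve_right (hprim m (by omega) (by omega))
  set yy := s ^ ((q ^ m + 1) / r) with hyy
  have hoy : orderOf yy = r := by
    have h := orderOf_pow_orderOf_div (x := s) (n := r) (orderOf_pos s).ne' (hos.symm ▸ hrQ)
    rwa [hos] at h
  let Y : Module.End F V := yy.1
  let Se : Module.End F V := s.1
  let Ue : Module.End F V := u.1
  have hY : Y ^ r = 1 := by rw [← coe_pow_orth, ← hoy, pow_orderOf_eq_one]; rfl
  have hSU : Commute Se Ue := by
    show (((s * u : orth Q).1 : V ≃ₗ[F] V) : Module.End F V) = ((u * s : orth Q).1 : V ≃ₗ[F] V)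
    rw [show s * u = u * s from (Commute.pow_pow_self g p (q ^ m + 1)).eq]
  have hSY : Commute Se Y := by
    show Commute Se ((s ^ ((q ^ m + 1) / r) : orth Q).1 : V ≃ₗ[F] V)
    rw [coe_pow_orth]; exact Commute.self_pow Se _
  have hUY : Commute Ue Y := by
    show Commute Ue ((s ^ ((q ^ m + 1) / r) : orth Q).1 : V ≃ₗ[F] V)
    rw [coe_pow_orth]; exact hSU.symm.pow_right _
  -- the splitting
  set W := LinearMap.ker (Y - 1) with hW
  set U := LinearMap.range (Y - 1) with hU
  have memW : ∀ {a}, a ∈ W ↔ Y a = a := fun {a} => by simp [hW, sub_eq_zero]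
  have hr0 : (r : F) ≠ 0 := by
    intro h
    rw [CharP.cast_eq_zero_iff F p, Nat.prime_dvd_prime_iff_eq hp hr] at h
    subst h
    exact hprim 1 one_pos (by omega) (by
      exfalso; exact (hp.coprime_iff_not_dvd.1 hcop) hrQ)
  have hdisj : W ⊓ U = ⊥ := by
    rw [Submodule.eq_bot_iff]
    rintro v ⟨hv, w, rfl⟩
    have hv' := memW.1 hv
    have hk : ∀ k : ℕ, (Y ^ k) w = w + (k : F) • (Y - 1) w := by
      intro k
      induction k with
      | zero => simp
      | succ k ih =>
        rw [pow_succ', Module.End.mul_apply, ih, map_add, map_smul, hv']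
        have : Y w = w + (Y - 1) w := by simp
        rw [this]; push_cast; rw [add_smul, one_smul]; abel
    have h := hk r
    rw [hY, Module.End.one_apply, left_eq_add, smul_eq_zero] at h
    exact h.resolve_left hr0
  have hfr : Module.finrank F U + Module.finrank F W = Module.finrank F V :=
    LinearMap.finrank_range_add_finrank_ker (Y - 1)
  have hcompl : IsCompl U W := by
    refine IsCompl.of_eq (by rw [inf_comm, hdisj]) (Submodule.eq_top_of_finrank_eq ?_)
    have := Submodule.finrank_sup_add_finrank_inf_eq U W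
    rw [inf_comm, hdisj, finrank_bot] at this
    omega
  have stabW : ∀ f : Module.End F V, Commute f Y → ∀ a ∈ W, f a ∈ W := fun f hf a ha => by
    rw [memW] at ha ⊢
    rw [← Module.End.mul_apply, ← hf.eq, Module.End.mul_apply, ha]
  have stabU : ∀ f : Module.End F V, Commute f Y → ∀ a ∈ U, f a ∈ U := fun f hf a ha => by
    obtain ⟨b, rfl⟩ := ha
    exact ⟨f b, (LinearMap.congr_fun (hf.sub_right (Commute.one_right f)).eq b).symm⟩
  have hortho : ∀ a ∈ U, ∀ b ∈ W, polar Q a b = 0 := by
    rintro _ ⟨c, rfl⟩ b hb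
    have h := polar_orth yy c b
    rw [show yy.1 b = b from memW.1 hb] at h
    show polar Q (Y c - c) b = 0
    rw [sub_eq_add_neg, polar_add_left, polar_neg_left]
    linear_combination h
  have hQadd : ∀ (a : U) (b : W), Q ((a : V) + b) = Q a + Q b := fun a b => by
    have := hortho a a.2 b b.2
    rw [polar] at this
    linear_combination this
  let e : (↥U × ↥W) ≃ₗ[F] V := Submodule.prodEquivOfIsCompl U W hcompl
  have he : ∀ x : ↥U × ↥W, e x = (x.1 : V) + x.2 := fun x => rfl
  have hregr : ∀ (A B : Submodule F V), A ⊔ B = ⊤ → (∀ a ∈ A, ∀ b ∈ B, polar Q a b = 0) →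
      IsReg (Q.comp A.subtype) := by
    intro A B hAB hab a ha _
    apply Subtype.ext
    refine (nondegenerate_of_isReg h2 hQ).1 _ fun z => ?_
    obtain ⟨x, hx, w, hw, rfl⟩ := Submodule.mem_sup.1 (hAB ▸ Submodule.mem_top (x := z))
    show polar Q _ _ = 0
    rw [polar_add_right, hab _ a.2 w hw, add_zero]
    exact ha ⟨x, hx⟩
  have hUreg : IsReg (Q.comp U.subtype) := hregr U W hcompl.sup_eq_top hortho
  have hWreg : IsReg (Q.comp W.subtype) := hregr W U hcompl.symm.sup_eq_top fun a ha b hb => by
    rw [polar_comm]; exact hortho b hb a ha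
  -- dimensions
  let Yu : Module.End F U := Y.restrict (stabU Y (Commute.refl Y))
  have hYu : Yu ^ r = 1 := by rw [Module.End.pow_restrict]; ext a; simp [hY]
  have hYfix : ∀ a, Yu a = a → a = 0 := fun a ha => Subtype.ext ((Submodule.eq_bot_iff _).1 hdisj a.1
    ⟨memW.2 (by simpa [Yu, Subtype.ext_iff] using ha), a.2⟩)
  have hdvdU := dvd_finrank (U := U) (by omega) hr hre (fun k hk hk' => hprim k hk hk') Yu hYu hYfix
  have hU0 : Module.finrank F U ≠ 0 := by
    rw [Ne, Submodule.finrank_eq_zero]
    intro h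
    have h1 : yy = 1 := (orth_eq_one_iff yy).2 (sub_eq_zero.1 (LinearMap.range_eq_bot.1 h))
    rw [h1, orderOf_one] at hoy
    exact hr.one_lt.ne hoy
  have hdimU : Module.finrank F U = 2 * m := by
    obtain ⟨c, hc⟩ := hdvdU
    have hle := Submodule.finrank_le U
    rw [hdim, hc] at hle
    rcases Nat.lt_or_ge c 2 with h | h
    · interval_cases c
      · simp at hc; exact absurd (Submodule.finrank_eq_zero.2 hc) hU0
      · rw [hc, mul_one]
    · nlinarith
  have hdimW : Module.finrank F W = 3 := by
    omega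
  -- the torus
  obtain ⟨hunip, hdetU, hpar⟩ := torus (U := U) h2 (p := p) (m := m) (by omega) hdimU hr hrQ hre
    (fun k hk hk' => hprim k hk hk') (Q.comp U.subtype) hUreg Yu hYu (fun a => map_orth yy _) hYfix
  let Uu : Module.End F U := Ue.restrict (stabU Ue hUY)
  let Su : Module.End F U := Se.restrict (stabU Se hSY)
  let Uw : Module.End F W := Ue.restrict (stabW Ue hUY)
  let Sw : Module.End F W := Se.restrict (stabW Se hSY)
  have hUe : Ue ^ p = 1 := by rw [← coe_pow_orth, ← hou, pow_orderOf_eq_one]; rfl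
  have hSe : Se ^ (q ^ m + 1) = 1 := by rw [← coe_pow_orth, ← hos, pow_orderOf_eq_one]; rfl
  have hUu : Uu = 1 := hunip Uu (LinearMap.ext fun a => Subtype.ext (LinearMap.congr_fun hUY.eq a.1))
    (by rw [Module.End.pow_restrict]; ext a; simp [hUe])
  have hUw : Uw ≠ 1 := by
    intro h
    have : u = 1 := (orth_eq_one_iff u).2 (LinearMap.ext fun v => by
      obtain ⟨⟨a, b⟩, rfl⟩ := e.surjective v
      rw [he, map_add]
      show (Uu a : V) + (Uw b : V) = _
      rw [hUu, h]; rfl)
    rw [this, orderOf_one] at hou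
    exact hp.one_lt.ne hou
  rcases three_space h2 hp3 hdimW (Q.comp W.subtype) hWreg Uw Sw
      (by rw [Module.End.pow_restrict]; ext a; simp [hUe]) hUw (fun a => map_orth u _) (fun a => map_orth s _)
      (LinearMap.ext fun a => Subtype.ext (LinearMap.congr_fun hSU.eq a.1)) (e := q ^ m + 1) hcop
      (by rw [Module.End.pow_restrict]; ext a; simp [hSe]) with hSw | hSw
  swap
  · -- determinant
    have hdet : LinearMap.det Se = LinearMap.det Su * LinearMap.det Sw := by
      rw [← LinearMap.det_prodMap, ← LinearMap.det_conj (LinearMap.prodMap Su Sw) e]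
      congr 1
      ext v
      obtain ⟨⟨a, b⟩, rfl⟩ := e.surjective v
      simp only [LinearMap.coe_comp, LinearEquiv.coe_coe, Function.comp_apply, LinearEquiv.symm_apply_apply,
        LinearMap.prodMap_apply]
      rw [he, he, map_add]
      rfl
    have h1 : LinearMap.det Se = 1 := by
      have hc := ((odd_main h2 hQ).1 s).1 (Subgroup.pow_mem _ hgc p)
      have := congrArg Units.val hc.1
      simpa [detHom, Se] using this
    rw [hdetU Su (LinearMap.ext fun a => Subtype.ext (LinearMap.congr_fun hSY.eq a.1))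
      (by rw [Module.End.pow_restrict]; ext a; simp [← hq, hSe]), one_mul, h1, hSw,
      show (-1 : Module.End F W) = (-1 : F) • (1 : Module.End F W) from
        (neg_one_smul F (1 : Module.End F W)).symm,
      LinearMap.det_smul, hdimW, map_one, mul_one] at hdet
    exact h2 (by linear_combination hdet)
  -- the spinor sign
  have hθ : theta Q s = 1 := (((odd_main h2 hQ).1 s).1 (Subgroup.pow_mem _ hgc p)).2
  letI := Fintype.ofFinite (Sphere Q)
  letI := Classical.decEq (Sphere Q)
  rw [theta, MonoidHom.comp_apply] at hθ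
  have hpow : ∀ (k : ℕ) (x : Sphere Q), ((permHom Q s ^ k) x).1 = (Se ^ k) x.1 := fun k x => by
    rw [← map_pow, ← coe_pow_orth]; rfl
  have hSfix : ∀ b : W, Se b = b := fun b => by
    have := LinearMap.congr_fun hSw b
    exact congrArg Subtype.val this
  have hfixiff : ∀ (k : ℕ) (a : U) (b : W), (Se ^ k) ((a : V) + b) = a + b ↔ a = 0 ∨ q ^ m + 1 ∣ k := by
    intro k a b
    have hb : (Se ^ k) (b : V) = b := by
      induction k with
      | zero => rfl
      | succ k ih => rw [pow_succ, Module.End.mul_apply, hSfix, ih]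
    rw [map_add, hb, add_left_inj]
    constructor
    · intro h
      by_cases ha : a = 0
      · exact Or.inl ha
      · right
        have hker : (Se ^ k : Module.End F V).restrict (stabU _ (hSY.pow_left k)) = 1 := by
          set f := (Se ^ k : Module.End F V).restrict (stabU _ (hSY.pow_left k))
          have hfY : Commute f Yu :=
            LinearMap.ext fun z => Subtype.ext (LinearMap.congr_fun (hSY.pow_left k).eq z.1)
          have hinv : ∀ z ∈ LinearMap.ker (f - 1), Yu z ∈ LinearMap.ker (f - 1) := fun z hz => by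
            rw [LinearMap.mem_ker] at hz ⊢
            rw [← Module.End.mul_apply, (hfY.sub_left (Commute.one_left Yu)).eq, Module.End.mul_apply, hz,
              map_zero]
          have hd := dvd_finrank (U := LinearMap.ker (f - 1)) (by omega) hr hre
            (fun j hj hj' => hprim j hj hj') (Yu.restrict hinv)
            (by rw [Module.End.pow_restrict]; ext z; simp [hYu])
            (fun z hz => Subtype.ext (hYfix z.1 (congrArg Subtype.val hz)))
          have hne : LinearMap.ker (f - 1) ≠ ⊥ := fun hb' => ha ((Submodule.mem_bot F).1 (hb' ▸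
            LinearMap.mem_ker.2 (Subtype.ext (by
              show (Se ^ k) (a : V) - a = 0
              rw [h, sub_self]))))
          have htop : LinearMap.ker (f - 1) = ⊤ := Submodule.eq_top_of_finrank_eq
            (le_antisymm (Submodule.finrank_le _) (hdimU ▸ Nat.le_of_dvd
              (Nat.pos_of_ne_zero fun h0 => hne (Submodule.finrank_eq_zero.1 h0)) hd))
          exact sub_eq_zero.1 (LinearMap.ker_eq_top.1 htop)
        have hone : s ^ k = 1 := (orth_eq_one_iff _).2 (LinearMap.ext fun v => by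
          obtain ⟨⟨a', b'⟩, rfl⟩ := e.surjective v
          rw [coe_pow_orth, he, map_add]
          show (Se ^ k) (a' : V) + (Se ^ k) (b' : V) = _
          have hb' : (Se ^ k) (b' : V) = b' := by
            clear hker h hb
            induction k with
            | zero => rfl
            | succ k ih => rw [pow_succ, Module.End.mul_apply, hSfix, ih]
          rw [hb', show (Se ^ k) (a' : V) = a' from congrArg Subtype.val (LinearMap.congr_fun hker a')]
          rfl)
        exact hos ▸ orderOf_dvd_of_pow_eq_one hone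
    · rintro (rfl | ⟨j, rfl⟩)
      · simp
      · rw [pow_mul, hSe, one_pow]; rfl
  set σ := permHom Q s with hσ
  have hfix1 : ∀ x : Sphere Q, σ x = x ↔ (e.symm x.1).1 = 0 := fun x => by
    rw [Subtype.ext_iff]
    have h1 : (σ x).1 = (Se ^ 1) x.1 := by rw [← hpow, pow_one]
    rw [h1]
    conv_lhs => rw [← e.apply_symm_apply x.1, he]
    rw [hfixiff]
    exact ⟨fun h => h.resolve_right (fun hd => absurd (Nat.le_of_dvd one_pos hd) (by
      have := Nat.one_le_pow m q (by omega); omega)), Or.inl⟩
  have hcyc : σ.cycleType = Multiset.replicate σ.cycleType.card (q ^ m + 1) := by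
    refine Multiset.eq_replicate_card.2 fun k hk => ?_
    have hdvd : k ∣ q ^ m + 1 :=
      hos ▸ (Equiv.Perm.dvd_of_mem_cycleType hk).trans (orderOf_map_dvd _ s)
    obtain ⟨c, τ, hcτ, hdis, hcyc, hck⟩ := Equiv.Perm.mem_cycleType_iff.1 hk
    obtain ⟨x, hx⟩ := hcyc.nonempty_support
    have hτx : ∀ y ∈ c.support, τ y = y := fun y hy => (hdis y).resolve_left (Equiv.Perm.mem_support.1 hy)
    have hσx : ∀ j : ℕ, (σ ^ j) x = (c ^ j) x := by
      intro j
      rw [hcτ, hdis.commute.mul_pow, Equiv.Perm.mul_apply,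
        Function.IsFixedPt.perm_pow (hτx x hx) j]
    have hne : σ x ≠ x := by
      have := hσx 1
      rw [pow_one, pow_one] at this
      rw [this]; exact Equiv.Perm.mem_support.1 hx
    have hkx : (σ ^ k) x = x := by
      rw [hσx, ← hck, ← hcyc.orderOf, pow_orderOf_eq_one]; rfl
    have h2' : (Se ^ k) x.1 = x.1 := by rw [← hpow]; exact congrArg Subtype.val hkx
    rw [← e.apply_symm_apply x.1, he, hfixiff] at h2'
    exact Nat.dvd_antisymm hdvd (h2'.resolve_left fun h0 => hne ((hfix1 x).2 h0))
  rw [Equiv.Perm.sign_of_cycleType_eq_replicate (Nat.succ_pos _) hcyc] at hθ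
  have hqodd : Odd q := hn ▸ (hp.odd_of_ne_two (by omega)).pow
  rw [if_neg (by rw [Nat.not_odd_iff_even]; exact (hqodd.pow).add_one)] at hθ
  -- count the moved points
  let S : F → ℕ := fun d => Nat.card {b : W // Q.comp W.subtype b = d}
  obtain ⟨T, hT, hsum⟩ := hpar S fun d => card_norm_parity h2 _ d
  haveI := Fintype.ofFinite U
  have hsph : Nat.card (Sphere Q) = ∑ a : U, S (1 - Q (a : V)) := by
    rw [← Nat.card_sigma]
    refine Nat.card_congr
      { toFun := fun x => ⟨(e.symm x.1).1, (e.symm x.1).2, ?_⟩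
        invFun := fun t => ⟨e (t.1, t.2.1), ?_⟩
        left_inv := fun x => Subtype.ext (e.apply_symm_apply x.1)
        right_inv := ?_ }
    · show Q ((e.symm x.1).2 : V) = 1 - Q ((e.symm x.1).1 : V)
      have := hQadd (e.symm x.1).1 (e.symm x.1).2
      rw [← he, e.apply_symm_apply, x.2] at this
      linear_combination -this
    · rw [he, hQadd]
      have : Q (t.2.1 : V) = 1 - Q (t.1 : V) := t.2.2
      rw [this]; ring
    · rintro ⟨a, b, hb⟩
      apply Sigma.subtype_ext <;> simp
  have hfp : Nat.card (Function.fixedPoints σ) = S 1 := by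
    refine Nat.card_congr
      { toFun := fun x => ⟨(e.symm x.1.1).2, ?_⟩
        invFun := fun b => ⟨⟨(b.1 : V), b.2⟩, (hfix1 _).2 ?_⟩
        left_inv := fun x => ?_
        right_inv := fun b => ?_ }
    · have h0 := (hfix1 x.1).1 x.2
      have := hQadd (e.symm x.1.1).1 (e.symm x.1.1).2
      rw [← he, e.apply_symm_apply, x.1.2, h0] at this
      simpa using this.symm
    · show (e.symm (b.1 : V)).1 = 0
      simp [e]
    · apply Subtype.ext; apply Subtype.ext
      have h0 := (hfix1 x.1).1 x.2
      have := e.apply_symm_apply x.1.1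
      rw [he, h0] at this
      simpa using this
    · apply Subtype.ext
      show (e.symm (b.1 : V)).2 = b.1
      simp [e]
  have hdiff : Fintype.card (Sphere Q) - Fintype.card (Function.fixedPoints σ) = (q ^ m + 1) * T := by
    rw [← Nat.card_eq_fintype_card, ← Nat.card_eq_fintype_card, hsph, hfp, ← hsum,
      ← Finset.add_sum_erase Finset.univ _ (Finset.mem_univ (0 : U))]
    simp only [Submodule.coe_zero, map_zero, sub_zero, Nat.add_sub_cancel_left]
    rw [finsum_mem_eq_finite_toFinset_sum _ (Set.toFinite _)]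
    refine Finset.sum_congr ?_ fun a _ => rfl
    ext a; simp
  rw [hdiff, Nat.mul_div_cancel_left _ (Nat.succ_pos _), hT.neg_one_pow] at hθ
  exact absurd hθ (by decide)

end Main

end Cfsg.Agent.OrthTorusSpinor
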