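/-
Aschbacher's theorem for the three-dimensional unitary groups: the two properness lemmas missing from the
prime-dimension library, and the resulting case list.
-/
import Cfsg.Agent.Lib.AschPrimeUnitary

set_option autoImplicit false

namespace Cfsg.Agent.OrthUnitarySUThree

open scoped Matrix commutatorElement
open Cfsg Cfsg.Geo Cfsg.Agent.AschPrimeBasic Cfsg.Agent.AschPrimeClifford Cfsg.Agent.AschPrimeExtra
  Cfsg.Agent.AschPrimeCore Cfsg.Agent.AschPrimeForms Cfsg.Agent.AschPrimeUnitaryProper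
  Cfsg.Agent.AschPrimeUnitary
open Cfsg.Agent.OrthUnitaryHerm (IsU)

variable {F : Type*} [Field F] [Fintype F] {q : ℕ}

/-- SU_3(q), q ≥ 3, is not monomial in any basis. -/
lemma su_not_le_lines3 (hF : Fintype.card F = q ^ 2) (hq : 3 ≤ q)
    {D : Fin (Fintype.card (Fin 3)) → Submodule F (Fin 3 → F)} (hD : IsMDecomposition 1 D) :
    ¬ suGL 3 F q ≤ decompositionStabilizer D := by
  classical
  intro hle
  obtain ⟨B, hB⟩ := lines_mono' hD
  obtain ⟨c, hc0, hc⟩ := exists_parameter hF
  -- every isotropic vector has exactly two coordinates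
  have hsupp : ∀ b : Fin 3 → F, b ≠ 0 → hermForm 3 F q b b = 0 → ∃ i j, i ≠ j ∧
      ∀ k, (((B⁻¹ : GL (Fin 3) F) : Matrix (Fin 3) (Fin 3) F) *ᵥ b) k ≠ 0 ↔ k = i ∨ k = j := by
    intro b hb0 hb
    set y := ((B⁻¹ : GL (Fin 3) F) : Matrix (Fin 3) (Fin 3) F) *ᵥ b with hy
    have hy0 : y ≠ 0 := fun h => hb0 (by
      have := mulVec_inv_mulVec B b
      rw [← hy, h, Matrix.mulVec_zero] at this
      exact this.symm)
    have hby : (B : Matrix (Fin 3) (Fin 3) F) *ᵥ y = b := mulVec_inv_mulVec B b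
    obtain ⟨i, hi⟩ : ∃ i, hermForm 3 F q ((B : Matrix (Fin 3) (Fin 3) F) *ᵥ Pi.single i 1) b ≠ 0 := by
      by_contra hall
      push Not at hall
      apply hb0
      refine OrthUnitaryHerm.eq_zero_of_herm_eq_zero hF fun x => ?_
      have h0 : hermForm 3 F q x b = 0 := by
        let L : (Fin 3 → F) →ₗ[F] F :=
          { toFun := fun v => hermForm 3 F q v b
            map_add' := fun u v => OrthUnitaryHerm.herm_add_left u v b
            map_smul' := fun c v => OrthUnitaryHerm.herm_smul_left c v b }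
        have h1 : L.comp (act B : (Fin 3 → F) →ₗ[F] (Fin 3 → F)) = 0 :=
          (Pi.basisFun F (Fin 3)).ext fun i => by simpa [L] using hall i
        have := LinearMap.congr_fun h1 (((B⁻¹ : GL (Fin 3) F) : Matrix (Fin 3) (Fin 3) F) *ᵥ x)
        simpa [L, mulVec_inv_mulVec] using this
      rw [OrthUnitaryHerm.herm_conj hF x b, h0, OrthUnitaryHerm.zero_pow_q hF]
    obtain ⟨T, hT, hTv, -⟩ := exists_transvection hF hb hc
    obtain ⟨π, d, hd, hM⟩ := hB T (hle hT)
    set t := c * hermForm 3 F q ((B : Matrix (Fin 3) (Fin 3) F) *ᵥ Pi.single i 1) b with ht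
    have ht0 : t ≠ 0 := mul_ne_zero hc0 hi
    have hcol : ∀ k, (Pi.single i (1 : F) : Fin 3 → F) k + t * y k = if k = π i then d i else 0 := by
      intro k
      rw [← hM]
      have h1 : ((B⁻¹ * T * B : GL (Fin 3) F) : Matrix (Fin 3) (Fin 3) F) *ᵥ Pi.single i 1 =
          Pi.single i 1 + t • y := by
        rw [Units.val_mul, Units.val_mul, ← Matrix.mulVec_mulVec, ← Matrix.mulVec_mulVec, hTv,
          Matrix.mulVec_add, Matrix.mulVec_smul, inv_mulVec_mulVec]
      have h2 := congrFun h1 k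
      simpa [Matrix.mulVec_single_one] using h2.symm
    have hoff : ∀ k, k ≠ i → k ≠ π i → y k = 0 := fun k h1 h2 => by
      simpa [h1, h2, ht0] using hcol k
    have hπ : π i ≠ i := by
      intro h
      have hy1 : y = y i • (Pi.single i 1 : Fin 3 → F) := by
        funext k
        by_cases hk : k = i
        · subst hk; simp
        · simp [hk, hoff k hk (by rw [h]; exact hk)]
      have hyi : y i ≠ 0 := fun h0 => hy0 (by rw [hy1, h0, zero_smul])
      have h3 : hermForm 3 F q b b = y i * hermForm 3 F q ((B : Matrix (Fin 3) (Fin 3) F) *ᵥ Pi.single i 1) b := by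
        conv_lhs => arg 4; rw [← hby, hy1, Matrix.mulVec_smul]
        rw [OrthUnitaryHerm.herm_smul_left]
      exact mul_ne_zero hyi hi (h3.symm.trans hb)
    refine ⟨i, π i, hπ.symm, fun k => ⟨fun hk => ?_, ?_⟩⟩
    · by_contra hkk
      push Not at hkk
      exact hk (hoff k hkk.1 hkk.2)
    · rintro (rfl | rfl) h0
      · simpa [hπ.symm, h0] using hcol k
      · have h1 := hcol (π i)
        rw [h0, mul_zero, add_zero, Pi.single_eq_of_ne hπ, if_pos rfl] at h1
        exact hd i h1.symm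
  -- count the isotropic vectors
  have hex : ∀ v : {v : Fin 3 → F // hermForm 3 F q v v = 0 ∧ v ≠ 0}, ∃ p : Fin 3 × Fˣ × Fˣ,
      let y := ((B⁻¹ : GL (Fin 3) F) : Matrix (Fin 3) (Fin 3) F) *ᵥ v.1
      y p.1 = 0 ∧ y (p.1 + 1) = p.2.1 ∧ y (p.1 + 2) = p.2.2 := by
    intro v
    obtain ⟨i, j, hij, hk⟩ := hsupp v.1 v.2.2 v.2.1
    set y := ((B⁻¹ : GL (Fin 3) F) : Matrix (Fin 3) (Fin 3) F) *ᵥ v.1 with hy
    obtain ⟨m, hmi, hmj, h1, h2⟩ : ∃ m : Fin 3, m ≠ i ∧ m ≠ j ∧ (m + 1 = i ∨ m + 1 = j) ∧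
        (m + 2 = i ∨ m + 2 = j) := by
      revert hij; clear hk; revert i j; decide
    refine ⟨(m, Units.mk0 _ ((hk _).2 h1), Units.mk0 _ ((hk _).2 h2)), ?_, rfl, rfl⟩
    by_contra h0
    rcases (hk m).1 h0 with h | h
    · exact hmi h
    · exact hmj h
  choose Φ hΦ using hex
  have hinj : Function.Injective Φ := by
    intro v w h
    apply Subtype.ext
    have e : ((B⁻¹ : GL (Fin 3) F) : Matrix (Fin 3) (Fin 3) F) *ᵥ v.1 =
        ((B⁻¹ : GL (Fin 3) F) : Matrix (Fin 3) (Fin 3) F) *ᵥ w.1 := by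
      have hv := hΦ v
      have hw := hΦ w
      rw [h] at hv
      funext k
      rcases (show ∀ m k : Fin 3, k = m ∨ k = m + 1 ∨ k = m + 2 by decide) (Φ w).1 k with rfl | rfl | rfl
      · rw [hv.1, hw.1]
      · rw [hv.2.1, hw.2.1]
      · rw [hv.2.2, hw.2.2]
    have := congrArg (fun z => (B : Matrix (Fin 3) (Fin 3) F) *ᵥ z) e
    simpa [mulVec_inv_mulVec] using this
  have h1 := Nat.card_le_card_of_injective Φ hinj
  rw [Nat.card_prod, Nat.card_prod, Nat.card_eq_fintype_card (α := Fin 3), Fintype.card_fin,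
    OrthUnitaryHerm.card_units_eq hF] at h1
  have h2 : Nat.card {v : Fin 3 → F // hermForm 3 F q v v = 0} ≤
      Nat.card {v : Fin 3 → F // hermForm 3 F q v v = 0 ∧ v ≠ 0} + 1 := by
    have : Nat.card {v : Fin 3 → F // hermForm 3 F q v v = 0} ≤
        Nat.card (Option {v : Fin 3 → F // hermForm 3 F q v v = 0 ∧ v ≠ 0}) :=
      Nat.card_le_card_of_injective (fun v => if h : v.1 = 0 then none else some ⟨v.1, v.2, h⟩) (by
        intro v w h
        dsimp only at h
        split_ifs at h with hv hw hw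
        · exact Subtype.ext (hv.trans hw.symm)
        · simpa [Subtype.ext_iff] using h)
    rwa [Finite.card_option] at this
  have h3 := OrthUnitaryHerm.q_mul_card_norm_zero hF 3
  have h4 : ((q + 1) * (q - 1) : ℕ) = ((q : ℤ) + 1) * ((q : ℤ) - 1) := by
    push_cast [show 1 ≤ q by omega]; ring
  have h5 : (Nat.card {v : Fin 3 → F // hermForm 3 F q v v = 0} : ℤ) ≤
      3 * ((((q : ℤ) + 1) * ((q : ℤ) - 1)) * (((q : ℤ) + 1) * ((q : ℤ) - 1))) + 1 := by
    rw [← h4]; exact_mod_cast h2.trans (Nat.add_le_add_right h1 1)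
  have hq' : (3 : ℤ) ≤ q := by exact_mod_cast hq
  have h6 := mul_le_mul_of_nonneg_left h5 (show (0 : ℤ) ≤ q by omega)
  rw [h3] at h6
  have e3 : ((-1 : ℤ)) ^ 3 = -1 := by norm_num
  rw [e3] at h6
  rcases eq_or_lt_of_le hq' with h7 | h7
  · rw [← h7] at h6; norm_num at h6
  · have h8 : (4 : ℤ) ≤ q := by omega
    have k1 : (0 : ℤ) ≤ (q : ℤ) ^ 5 * ((q : ℤ) - 4) := mul_nonneg (by positivity) (by omega)
    have k2 : (0 : ℤ) ≤ (q : ℤ) ^ 4 * ((q : ℤ) - 1) := mul_nonneg (by positivity) (by omega)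
    have k3 : (16 : ℤ) ≤ (q : ℤ) * q := by nlinarith
    have k4 : (0 : ℤ) < (q : ℤ) * (7 * ((q : ℤ) * q) - 4) := mul_pos (by omega) (by omega)
    ring_nf at h6 k1 k2 k4
    linarith

lemma card_fixed (hF : Fintype.card F = q ^ 2) : Nat.card {μ : F // μ ^ q = μ} = q := by
  classical
  have hq := OrthUnitaryHerm.two_le_q hF
  have e : {μ : F // μ ^ q = μ} ≃ Option {u : Fˣ // u ^ (q - 1) = 1} :=
    { toFun := fun μ => if h : μ.1 = 0 then none else some ⟨Units.mk0 _ h, by
        apply Units.ext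
        rw [Units.val_pow_eq_pow_val, Units.val_mk0, Units.val_one]
        exact mul_left_cancel₀ h (by rw [mul_one, ← pow_succ', Nat.sub_add_cancel (by omega)]; exact μ.2)⟩
      invFun := fun o => match o with
        | none => ⟨0, OrthUnitaryHerm.zero_pow_q hF⟩
        | some u => ⟨(u.1 : F), by
            have := congrArg Units.val u.2
            rw [Units.val_pow_eq_pow_val, Units.val_one] at this
            calc (u.1 : F) ^ q = (u.1 : F) ^ (q - 1) * (u.1 : F) := by rw [← pow_succ, Nat.sub_add_cancel (by omega)]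
              _ = u.1 := by rw [this, one_mul]⟩
      left_inv := fun μ => by
        by_cases h : μ.1 = 0
        · simp [h]; exact Subtype.ext h.symm
        · simp [h]
      right_inv := fun o => by
        rcases o with _ | u
        · simp
        · simp }
  rw [Nat.card_congr e, Finite.card_option, OrthUnitaryHerm.card_fixedUnits hF]
  omega

/-- SU_3(q), q ≥ 3, does not normalise a group of order 27 of class two. -/
lemma su_not_le_subgroupNormalizer3 (hF : Fintype.card F = q ^ 2) (hq : 3 ≤ q)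
    {R : Subgroup (GL (Fin 3) F)} (hR : Data R) (hcard : Nat.card R = 27) :
    ¬ suGL 3 F q ≤ subgroupNormalizer R := by
  classical
  intro hle
  -- a non-scalar element and an isotropic vector which is no eigenvector
  have hnsc : ¬ R ≤ scalars (Fin 3) F := by
    intro hsc
    have hinv : Inv R (Submodule.span F {(Pi.single 0 1 : Fin 3 → F)}) := by
      intro g hg w hw
      obtain ⟨l, hl⟩ := (mem_scalars_iff g).1 (hsc hg)
      rw [hl, Matrix.smul_mulVec, Matrix.one_mulVec]
      exact Submodule.smul_mem _ _ hw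
    have hv : (Pi.single 0 1 : Fin 3 → F) ≠ 0 := fun h => by simpa using congrFun h 0
    rcases hR.abs.irred _ hinv with h | h
    · exact hv (Submodule.span_singleton_eq_bot.1 h)
    · have := finrank_span_singleton (K := F) hv
      rw [h, finrank_top, Module.finrank_pi, Fintype.card_fin] at this
      omega
  obtain ⟨x, hx, hxs⟩ := Set.not_subset.1 hnsc
  obtain ⟨b, hb0, hb, hbe⟩ : ∃ b : Fin 3 → F, b ≠ 0 ∧ hermForm 3 F q b b = 0 ∧
      ∀ l : F, (x : Matrix (Fin 3) (Fin 3) F) *ᵥ b ≠ l • b := by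
    by_contra hcon
    push Not at hcon
    obtain ⟨a, ha⟩ := scalar_of_iso_eigen hF (by norm_num) (M := (x : Matrix (Fin 3) (Fin 3) F))
      fun b h0 h => hcon b h0 h
    exact hxs (mem_scalars_of_comm ha)
  -- a vector fixed by all the commutators
  obtain ⟨v, hv0, hv1, hv2⟩ := exists_vec_two (φ := hL (q := q) b)
    (ψ := (hL (q := q) b).comp (Matrix.toLin' ((x⁻¹ : GL (Fin 3) F) : Matrix (Fin 3) (Fin 3) F)))
    (le_refl 3)
  change hermForm 3 F q v b = 0 at hv1
  change hermForm 3 F q (((x⁻¹ : GL (Fin 3) F) : Matrix (Fin 3) (Fin 3) F) *ᵥ v) b = 0 at hv2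
  obtain ⟨c₀, hc0, hc⟩ := exists_parameter hF
  have hT : ∀ μ : {μ : F // μ ^ q = μ}, ∃ T ∈ suGL 3 F q, ∀ y, (T : Matrix (Fin 3) (Fin 3) F) *ᵥ y =
      y + ((μ.1 * c₀) * hermForm 3 F q y b) • b := fun μ => by
    obtain ⟨T, hT, hTv, -⟩ := exists_transvection hF hb (c := μ.1 * c₀)
      (by rw [mul_pow, μ.2, ← mul_add, hc, mul_zero])
    exact ⟨T, hT, hTv⟩
  choose T hTm hTv using hT
  let D : {μ : F // μ ^ q = μ} → GL (Fin 3) F := fun μ => T μ * x * (T μ)⁻¹ * x⁻¹
  have hDR : ∀ μ, D μ ∈ R := fun μ =>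
    R.mul_mem ((Subgroup.mem_normalizer_iff.1 (hle (hTm μ)) x).1 hx) (R.inv_mem hx)
  have hDv : ∀ μ, (D μ : Matrix (Fin 3) (Fin 3) F) *ᵥ v = v := by
    intro μ
    set w := ((x⁻¹ : GL (Fin 3) F) : Matrix (Fin 3) (Fin 3) F) *ᵥ v with hw
    have hTi : (((T μ)⁻¹ : GL (Fin 3) F) : Matrix (Fin 3) (Fin 3) F) *ᵥ w = w := by
      have h4 := inv_mulVec_mulVec (T μ) w
      rwa [hTv, hv2, mul_zero, zero_smul, add_zero] at h4
    show ((T μ * x * (T μ)⁻¹ * x⁻¹ : GL (Fin 3) F) : Matrix (Fin 3) (Fin 3) F) *ᵥ v = v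
    rw [Units.val_mul, Units.val_mul, Units.val_mul, ← Matrix.mulVec_mulVec, ← hw,
      ← Matrix.mulVec_mulVec, hTi, ← Matrix.mulVec_mulVec, hw, mulVec_inv_mulVec, hTv, hv1, mul_zero,
      zero_smul, add_zero]
  -- the elements of R fixing v
  let S : Subgroup R :=
    { carrier := {g | ((g : GL (Fin 3) F) : Matrix (Fin 3) (Fin 3) F) *ᵥ v = v}
      mul_mem' := fun {g h} hg hh => by
        show ((g * h : R) : GL (Fin 3) F).val *ᵥ v = v
        rw [Subgroup.coe_mul, Units.val_mul, ← Matrix.mulVec_mulVec, hh, hg]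
      one_mem' := by simp
      inv_mem' := fun {g} hg => by
        show ((g⁻¹ : R) : GL (Fin 3) F).val *ᵥ v = v
        have := inv_mulVec_mulVec (g : GL (Fin 3) F) v
        rw [hg] at this
        rw [Subgroup.coe_inv]
        exact this }
  -- scalars fixing v are trivial
  have hsv : ∀ g : GL (Fin 3) F, g ∈ scalars (Fin 3) F → (g : Matrix (Fin 3) (Fin 3) F) *ᵥ v = v → g = 1 := by
    intro g hg hgv
    obtain ⟨l, hl⟩ := (mem_scalars_iff g).1 hg
    rw [hl, Matrix.smul_mulVec, Matrix.one_mulVec] at hgv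
    obtain ⟨i, hi⟩ := Function.ne_iff.1 hv0
    have h6 : (l : F) = 1 := mul_right_cancel₀ hi (by rw [one_mul]; exact congrFun hgv i)
    apply Units.ext
    rw [hl, h6, one_smul, Units.val_one]
  have hS : Nat.card S ≤ 3 := by
    have hdvd : Nat.card S ∣ 27 := hcard ▸ Subgroup.card_subgroup_dvd_card S
    by_contra hlt
    push Not at hlt
    have hcomm : ∀ g ∈ S, ∀ h ∈ S, g * h = h * g := by
      intro g hg h hh
      have h1 : ⁅g, h⁆ ∈ S := by
        rw [commutatorElement_def]
        exact S.mul_mem (S.mul_mem (S.mul_mem hg hh) (S.inv_mem hg)) (S.inv_mem hh)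
      have h2 := hsv ((⁅g, h⁆ : R) : GL (Fin 3) F) (by
        have := hR.comm _ g.2 _ h.2
        simpa [commutatorElement_def] using this) h1
      exact (commutatorElement_eq_one_iff_mul_comm).1 (Subtype.ext h2)
    have hcen : Nat.card (Subgroup.center R) ≠ 1 := by
      haveI : Fact (Nat.Prime 3) := ⟨Nat.prime_three⟩
      haveI : Nontrivial R := Finite.one_lt_card_iff_nontrivial.1 (by omega)
      have hp : IsPGroup 3 R := IsPGroup.of_card (n := 3) (by rw [hcard]; norm_num)
      exact fun h => by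
        have := hp.center_nontrivial
        exact absurd h (Finite.one_lt_card_iff_nontrivial.2 this).ne'
    -- a non-trivial central element is a scalar
    obtain ⟨z, hz, hz1⟩ : ∃ z ∈ Subgroup.center R, z ≠ 1 := by
      by_contra hall
      push Not at hall
      exact hcen (Subgroup.card_eq_one.2 ((Subgroup.eq_bot_iff_forall _).2 hall))
    have hzs : (z : GL (Fin 3) F) ∈ scalars (Fin 3) F := hR.abs.scalar_of_comm fun y hy =>
      congrArg Subtype.val ((Subgroup.mem_center_iff.1 hz ⟨y, hy⟩).symm)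
    have hzS : z ∉ S := fun h => hz1 (Subtype.ext (hsv _ hzs h))
    set A : Subgroup R := S ⊔ Subgroup.zpowers z with hA
    have hlt' : Nat.card S < Nat.card A := by
      refine lt_of_le_of_ne (Subgroup.card_le_of_le le_sup_left) fun h => hzS ?_
      have := Subgroup.eq_of_le_of_card_ge (le_sup_left : S ≤ A) h.ge
      rw [this]; exact le_sup_right (a := S) (Subgroup.mem_zpowers z)
    have hdA : Nat.card A ∣ 27 := hcard ▸ Subgroup.card_subgroup_dvd_card A
    have hA27 : A = ⊤ := by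
      apply Subgroup.eq_top_of_card_eq
      rw [hcard]
      have h27 : ∀ k, k ∣ 27 → k = 1 ∨ k = 3 ∨ k = 9 ∨ k = 27 := by
        intro k hk
        have := Nat.le_of_dvd (by norm_num) hk
        interval_cases k <;> norm_num at hk <;> omega
      have h1 := h27 _ hdvd
      have h2 := h27 _ hdA
      omega
    apply hnsc
    intro g hg
    refine hR.abs.scalar_of_comm fun y hy => ?_
    have hmem : ∀ r : R, r ∈ S ⊔ Subgroup.zpowers z := fun r => hA ▸ hA27 ▸ Subgroup.mem_top r
    have key : ∀ a b : R, a * b = b * a := by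
      intro a b
      have e : ∀ r : R, ∃ s ∈ S, ∃ k : ℤ, r = s * z ^ k := by
        intro r
        haveI : (Subgroup.zpowers z).Normal := ⟨fun n hn g => by
          obtain ⟨k, rfl⟩ := Subgroup.mem_zpowers_iff.1 hn
          rw [(Subgroup.mem_center_iff.1 ((Subgroup.center R).zpow_mem hz k) g), mul_inv_cancel_right]
          exact Subgroup.zpow_mem_zpowers z k⟩
        obtain ⟨s, hs, w, hw, rfl⟩ := Subgroup.mem_sup_of_normal_right.1 (hmem r)
        obtain ⟨k, rfl⟩ := Subgroup.mem_zpowers_iff.1 hw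
        exact ⟨s, hs, k, rfl⟩
      obtain ⟨s, hs, k, rfl⟩ := e a
      obtain ⟨t, ht, l, rfl⟩ := e b
      have c1 : ∀ (r : R) (k : ℤ), Commute r (z ^ k) := fun r k =>
        Subgroup.mem_center_iff.1 ((Subgroup.center R).zpow_mem hz k) r
      exact ((Commute.mul_left (hcomm s hs t ht) (c1 t k).symm).mul_right
        ((c1 s l).mul_left (c1 (z ^ k) l))).eq
    exact congrArg Subtype.val (key ⟨g, hg⟩ ⟨y, hy⟩)
  -- the commutators are distinct
  have hinj : Function.Injective fun μ => (⟨⟨D μ, hDR μ⟩, hDv μ⟩ : S) := by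
    intro μ ν h
    have h1 : D μ = D ν := congrArg (fun g : S => ((g : R) : GL (Fin 3) F)) h
    by_contra hne
    set U := (T ν)⁻¹ * T μ with hU
    have h2 : U * x = x * U := by
      have h2' : T μ * x * (T μ)⁻¹ = T ν * x * (T ν)⁻¹ := mul_right_cancel h1
      calc U * x = (T ν)⁻¹ * (T μ * x * (T μ)⁻¹) * T μ := by rw [hU]; group
        _ = x * U := by rw [h2', hU]; group
    set δ := (μ.1 - ν.1) * c₀ with hδ
    have hUv : ∀ y, (U : Matrix (Fin 3) (Fin 3) F) *ᵥ y = y + (δ * hermForm 3 F q y b) • b := by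
      intro y
      have e : (T ν : Matrix (Fin 3) (Fin 3) F) *ᵥ (y + (δ * hermForm 3 F q y b) • b) =
          (T μ : Matrix (Fin 3) (Fin 3) F) *ᵥ y := by
        rw [hTv, hTv, OrthUnitaryHerm.herm_add_left, OrthUnitaryHerm.herm_smul_left, hb, mul_zero, add_zero,
          add_assoc, ← add_smul, hδ]
        congr 2
        ring
      rw [hU, Units.val_mul, ← Matrix.mulVec_mulVec, ← e, inv_mulVec_mulVec]
    obtain ⟨x', hx'⟩ : ∃ v, hermForm 3 F q v b ≠ 0 := by
      by_contra hall
      push Not at hall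
      exact hb0 (OrthUnitaryHerm.eq_zero_of_herm_eq_zero hF fun v => by
        rw [OrthUnitaryHerm.herm_conj hF v b, hall, OrthUnitaryHerm.zero_pow_q hF])
    have h3 := congrArg (fun A : GL (Fin 3) F => (A : Matrix (Fin 3) (Fin 3) F) *ᵥ x') h2
    simp only [Units.val_mul, ← Matrix.mulVec_mulVec, hUv, Matrix.mulVec_add, Matrix.mulVec_smul] at h3
    have h4 := add_left_cancel h3
    have hδ0 : δ ≠ 0 := mul_ne_zero (sub_ne_zero.2 fun h => hne (Subtype.ext h)) hc0
    refine hbe ((δ * hermForm 3 F q ((x : Matrix (Fin 3) (Fin 3) F) *ᵥ x') b) / (δ * hermForm 3 F q x' b)) ?_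
    rw [div_eq_inv_mul, mul_smul, h4, inv_smul_smul₀ (mul_ne_zero hδ0 hx')]
  have hq' : q ≤ 3 := by
    have h1 := Nat.card_le_card_of_injective _ hinj
    have h2 : Nat.card {μ : F // μ ^ q = μ} = q := OrthUnitarySUThree.card_fixed hF
    omega
  -- q = 3 is the characteristic of R, which is impossible
  have hq3 : q = 3 := by omega
  have h3 : ((3 : ℕ) : F) = 0 := by
    obtain ⟨p, m, hp, hpc, hm, hqp⟩ := OrthUnitaryHerm.exists_prime_pow hF
    have : p ∣ 3 := by
      rw [← hq3, hqp]; exact dvd_pow_self p hm.ne'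
    rw [(Nat.prime_dvd_prime_iff_eq hp Nat.prime_three).1 this] at hpc
    exact CharP.cast_eq_zero F 3
  obtain ⟨y, hy, hne⟩ : ∃ y ∈ R, x * y ≠ y * x := by
    by_contra hcon
    push Not at hcon
    exact hxs (hR.abs.scalar_of_comm hcon)
  obtain ⟨c, hc'⟩ := exists_cm hR.comm hy hx
  have hcn := cm_pow_eq_one hc'
  rw [Fintype.card_fin] at hcn
  have : c = 1 := by
    have h4 : (c - 1) ^ 3 = 0 := by
      linear_combination hcn - (c ^ 2 - c) * h3
    exact sub_eq_zero.1 (eq_zero_of_pow_eq_zero h4)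
  exact hne ((Cm.comm_iff.1 (this ▸ hc')).symm)

/-- The case list for SU_3(q), q ≥ 3. -/
theorem unitary_cases3 (hq3 : 3 ≤ q) (hF : Fintype.card F = q ^ 2)
    {H : Subgroup (GL (Fin 3) F)} (hH : IsMaximalIn (suGL 3 F q) H) :
    (∃ W : Submodule F (Fin 3 → F), W ≠ ⊥ ∧ IsTotallySingularFor (hermForm 3 F q) W ∧
      H = subspaceStabilizer W ⊓ suGL 3 F q) ∨
    (∃ W : Submodule F (Fin 3 → F), W ≠ ⊥ ∧ IsNondegenerateOn (hermForm 3 F q) W ∧
      2 * Module.finrank F W < 3 ∧ H = subspaceStabilizer W ⊓ suGL 3 F q) ∨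
    (∃ D : Fin 3 → Submodule F (Fin 3 → F), IsNondegenerateMDecomposition (hermForm 3 F q) 1 D ∧
      H = decompositionStabilizer D ⊓ suGL 3 F q) ∨
    (∃ K : Subalgebra F (Matrix (Fin 3) (Fin 3) F), IsFieldSubalgebra 3 K ∧
      IsAdjointClosedFor (hermForm 3 F q) K ∧ H = subalgebraNormalizer K ⊓ suGL 3 F q) ∨
    (∃ (F₀ : Subfield F) (r : ℕ) (P : GL (Fin 3) F), r.Prime ∧ Odd r ∧ Fintype.card F = Nat.card F₀ ^ r ∧
      IsFormRationalStructure (hermForm 3 F q) F₀ 1 P ∧ H = subfieldSubgroup F₀ P ⊓ suGL 3 F q) ∨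
    (Odd q ∧ ∃ (F₀ : Subfield F) (P : GL (Fin 3) F), Fintype.card F = Nat.card F₀ ^ 2 ∧
      IsFormRationalStructure (hermForm 3 F q) F₀ 1 P ∧ H = subfieldSubgroup F₀ P ⊓ suGL 3 F q) ∨
    (∃ (p m : ℕ) (R : Subgroup (GL (Fin 3) F)), p.Prime ∧ CharP F p ∧ q = p ^ m ∧ 0 < m ∧
      3 ∣ q + 1 ∧ 2 * m ∣ 3 - 1 ∧ (∀ d, 0 < d → d < 2 * m → ¬ 3 ∣ p ^ d - 1) ∧
      IsSymplecticTypeGroup 3 R ∧ ActsAbsolutelyIrreducibly (matrixSet R) ∧ R ≤ suGL 3 F q ∧
      Nat.card R = 3 ^ 3 ∧ Nat.card (Subgroup.center R) = 3 ∧ H = subgroupNormalizer R ⊓ suGL 3 F q) ∨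
    InUnitaryResidualClass H := by
  classical
  have : Nonempty (Fin 3) := ⟨⟨0, by omega⟩⟩
  have hn : Nat.Prime 3 := Nat.prime_three
  have hodd : Odd 3 := by decide
  have hnι : (Fintype.card (Fin 3)).Prime := by rw [Fintype.card_fin]; exact hn
  have hoddι : Odd (Fintype.card (Fin 3)) := by rw [Fintype.card_fin]; exact hodd
  have hGU : H ≤ Cfsg.GU 3 F q := hH.1.le.trans inf_le_left
  have hsl : H ≤ specialLinear (Fin 3) F := hH.1.le.trans inf_le_right
  have hq2 := OrthUnitaryHerm.two_le_q hF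
  by_cases hirr : ¬ Irred H
  · unfold Irred at hirr
    push Not at hirr
    obtain ⟨W, hW, hb, ht⟩ := hirr
    have hWp : Inv H (perp hF W) := by
      intro g hg v hv w hw
      have h1 := hW g⁻¹ (H.inv_mem hg) w hw
      have h2 := hGU hg v (((g⁻¹ : GL (Fin 3) F) : Matrix (Fin 3) (Fin 3) F) *ᵥ w)
      simp only [Units.coeHom_apply, mulVec_inv_mulVec] at h2
      rw [h2]
      exact hv _ h1
    by_cases hU : W ⊓ perp hF W = ⊥
    · right; left
      have hnd : ∀ U : Submodule F (Fin 3 → F), (∀ u ∈ U, (∀ x ∈ U, hermForm 3 F q u x = 0) → u = 0) →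
          IsNondegenerateOn (hermForm 3 F q) U := by
        intro U h w hw hw0
        obtain ⟨x, hx, hne⟩ : ∃ x ∈ U, hermForm 3 F q w x ≠ 0 := by
          by_contra hall
          push Not at hall
          exact hw0 (h w hw hall)
        refine ⟨⟨x, hx, fun h0 => hne ?_⟩, x, hx, hne⟩
        rw [OrthUnitaryHerm.herm_conj hF x w, h0, OrthUnitaryHerm.zero_pow_q hF]
      have hWnd : IsNondegenerateOn (hermForm 3 F q) W := hnd W fun u hu h =>
        (Submodule.eq_bot_iff _).1 hU u ⟨hu, h⟩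
      -- dimension of the orthogonal
      let bW := Module.finBasis F W
      let L : (Fin 3 → F) →ₗ[F] (Fin (Module.finrank F W) → F) :=
        LinearMap.pi fun k => hL (q := q) (bW k : Fin 3 → F)
      have hker : LinearMap.ker L ≤ perp hF W := by
        intro v hv w hw
        have hv' : ∀ k, hermForm 3 F q v (bW k : Fin 3 → F) = 0 := fun k => congrFun hv k
        have hmem : (⟨w, hw⟩ : W) ∈ Submodule.span F (Set.range bW) := bW.mem_span _
        have key : ∀ x ∈ Submodule.span F (Set.range bW), hermForm 3 F q v (x : Fin 3 → F) = 0 := by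
          intro x hx
          induction hx using Submodule.span_induction with
          | mem x hx => obtain ⟨k, rfl⟩ := hx; exact hv' k
          | zero => simp [hermForm, OrthUnitaryHerm.zero_pow_q hF]
          | add y z _ _ hy hz => rw [Submodule.coe_add, OrthUnitaryHerm.herm_add_right hF, hy, hz, add_zero]
          | smul c y _ hy => rw [Submodule.coe_smul, OrthUnitaryHerm.herm_smul_right, hy, mul_zero]
        exact key _ hmem
      have hdim : 3 ≤ Module.finrank F W + Module.finrank F (perp hF W) := by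
        have h1 := LinearMap.finrank_range_add_finrank_ker L
        have h2 : Module.finrank F (LinearMap.range L) ≤ Module.finrank F W :=
          (Submodule.finrank_le _).trans (by simp)
        have h3 := Submodule.finrank_mono hker
        rw [Module.finrank_pi, Fintype.card_fin] at h1
        omega
      have hsum := Submodule.finrank_sup_add_finrank_inf_eq W (perp hF W)
      rw [hU, finrank_bot, add_zero] at hsum
      have htop : W ⊔ perp hF W = ⊤ := by
        apply Submodule.eq_top_of_finrank_eq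
        have := Submodule.finrank_le (W ⊔ perp hF W)
        rw [Module.finrank_pi, Fintype.card_fin] at this ⊢
        omega
      have hsz : Module.finrank F W + Module.finrank F (perp hF W) = 3 := by
        rw [← hsum, htop, finrank_top, Module.finrank_pi, Fintype.card_fin]
      by_cases h2 : 2 * Module.finrank F W < 3
      · exact ⟨W, hb, hWnd, h2, eq_of_maximal hH ((inv_iff_le_stabilizer _ _).1 hW)
          (su_not_le_subspaceStabilizer hF (by omega) hb ht)⟩
      have hpb : perp hF W ≠ ⊥ := fun h => ht (by rwa [h, sup_bot_eq] at htop)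
      refine ⟨perp hF W, hpb, hnd _ fun u hu h => ?_, ?_, eq_of_maximal hH ((inv_iff_le_stabilizer _ _).1 hWp)
        (su_not_le_subspaceStabilizer hF (by omega) hpb fun h => ?_)⟩
      · refine OrthUnitaryHerm.eq_zero_of_herm_eq_zero hF fun x => ?_
        obtain ⟨w, hw, w', hw', rfl⟩ := Submodule.mem_sup.1 (show x ∈ W ⊔ perp hF W by rw [htop]; trivial)
        rw [OrthUnitaryHerm.herm_add_right hF, hu w hw, h w' hw', add_zero]
      · rcases Nat.lt_or_gt_of_ne (fun h : 2 * Module.finrank F W = 3 => Nat.not_even_iff_odd.2 hodd ⟨_, h ▸ two_mul _⟩)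
          with h' | h'
        · exact absurd h' h2
        · omega
      · rw [h, inf_top_eq] at hU
        exact hb hU
    · left
      refine ⟨W ⊓ perp hF W, hU, fun u hu v hv => hu.2 v hv.1, eq_of_maximal hH
        ((inv_iff_le_stabilizer _ _).1 fun g hg x hx => ⟨hW g hg x hx.1, hWp g hg x hx.2⟩)
        (su_not_le_subspaceStabilizer hF (by omega) hU fun h => ht (eq_top_iff.2 (h ▸ inf_le_left)))⟩
  push Not at hirr
  refine Or.inr (Or.inr ?_)
  -- imprimitive or field
  by_cases hp : Prim H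
  swap
  · unfold Prim at hp
    push Not at hp
    obtain ⟨N, hNle, hNn, hNc, hNs⟩ := hp
    rcases alternative hnι hirr hNn with h | h | ⟨-, h⟩
    · exact absurd h hNs
    · exact absurd (fun x hx => h.scalar_of_comm fun y hy => hNc x hx y hy) hNs
    · rcases h with ⟨D, hD, hle, χ, hχ, hDe⟩ | ⟨K, hK, hle, hKN, -⟩
      · left
        have hnd := lines_orthogonal hF hodd hGU hirr hNle (Fintype.card_fin 3) hD hle hχ hDe
        have e := (Fintype.card_fin 3).symm
        refine ⟨D ∘ Fin.cast e, ⟨AschPrimeLinear.isMDecomposition_cast e hD, fun i => hnd.nondegenerate _,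
          fun i j hij => hnd.orthogonal _ _ fun h => hij (Fin.cast_injective _ h)⟩, ?_⟩
        rw [AschPrimeLinear.decompositionStabilizer_cast]
        exact eq_of_maximal hH hle (su_not_le_lines3 hF hq3 hD)
      · right; left
        rw [Fintype.card_fin] at hK
        refine ⟨K, hK, ?_, eq_of_maximal hH hle (su_not_le_subalgebraNormalizer hF (by omega) (by omega) hK)⟩
        rw [hKN]
        exact commutant_adjointClosed hF (hNle.trans hGU)
  refine Or.inr (Or.inr ?_)
  have subCase : ∀ (S : Subgroup (GL (Fin 3) F)), AbsIrred S → NormalBy H S → S ≤ H →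
      ∀ (φ : F ≃+* F) (r : ℕ) (B : GL (Fin 3) F), r.Prime → Fintype.card F = Nat.card (fixedField φ) ^ r →
      (∀ s ∈ S, ∀ i j, φ (((B * s * B⁻¹ : GL (Fin 3) F) : Matrix (Fin 3) (Fin 3) F) i j) =
        ((B * s * B⁻¹ : GL (Fin 3) F) : Matrix (Fin 3) (Fin 3) F) i j) →
      (∃ (F₀ : Subfield F) (r : ℕ) (P : GL (Fin 3) F), r.Prime ∧ Odd r ∧ Fintype.card F = Nat.card F₀ ^ r ∧
        IsFormRationalStructure (hermForm 3 F q) F₀ 1 P ∧ H = subfieldSubgroup F₀ P ⊓ suGL 3 F q) ∨
      (Odd q ∧ ∃ (F₀ : Subfield F) (P : GL (Fin 3) F), Fintype.card F = Nat.card F₀ ^ 2 ∧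
        IsFormRationalStructure (hermForm 3 F q) F₀ 1 P ∧ H = subfieldSubgroup F₀ P ⊓ suGL 3 F q) := by
    intro S hS hSn hSH φ r B hr hcard hfix
    obtain ⟨P, hle, hrat, hcase⟩ := rational_structure hF (by omega) hodd hS hSn (hSH.trans hGU) hr hcard hfix
    have heq := eq_of_maximal hH hle (su_not_le_subfieldSubgroup hF (by omega) (card_eq_pow_ne_top hr hcard) P)
    rcases hcase with h | ⟨rfl, hq⟩
    · exact Or.inl ⟨_, r, P, hr, h, hcard, hrat, heq⟩
    · exact Or.inr ⟨hq, _, P, hcard, hrat, heq⟩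
  rcases structure_theorem hnι hoddι hsl hirr hp with ⟨R, ζ, B, hR⟩ | ⟨P, hP⟩
  · obtain ⟨p, m, hpp, hpc, hm, hqp⟩ := OrthUnitaryHerm.exists_prime_pow hF
    haveI := Fact.mk hpp
    have hcard : Fintype.card F = p ^ (2 * m) := by rw [hF, hqp, ← pow_mul, mul_comm]
    have hprimζ := hR.extra.prim
    have hRD : Data R := ⟨hnι, hoddι, hR.le.trans hsl, hR.absIrred, hR.comm⟩
    have hq' : 3 ∣ p ^ (2 * m) - 1 := by
      rw [← hcard]
      simpa using hprimζ.dvd_of_pow_eq_one _
        (FiniteField.pow_card_sub_one_eq_one _ (hprimζ.ne_zero hnι.ne_zero))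
    by_cases hmin : ∃ d, 0 < d ∧ d < 2 * m ∧ 3 ∣ p ^ d - 1
    · obtain ⟨d, hd0, hde, hdd⟩ := hmin
      set g := Nat.gcd d (2 * m) with hg
      have hgd : 3 ∣ p ^ g - 1 := by
        rw [hg, ← Nat.pow_sub_one_gcd_pow_sub_one]
        exact Nat.dvd_gcd hdd hq'
      have hge : g < 2 * m := lt_of_le_of_lt (Nat.le_of_dvd hd0 (Nat.gcd_dvd_left d _)) hde
      obtain ⟨φ, r, hr, hcardφ, hfix⟩ := exists_maximal_subfield (F := F) hcard (Nat.gcd_dvd_right d _) hge
      rcases subCase R hR.absIrred hR.normal hR.le φ r B⁻¹ hr hcardφ (fun s hs i j => by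
          apply hfix
          obtain ⟨π, a, ha, hM⟩ := hR.extra.mono s hs
          rw [inv_inv, hM]
          split_ifs
          · obtain ⟨k, hk⟩ := hgd
            have hpos : 1 ≤ p ^ g := Nat.one_le_pow _ _ hpp.pos
            have ha' := ha i
            rw [Fintype.card_fin] at ha'
            have ha'' := ha j
            rw [Fintype.card_fin] at ha''
            conv_lhs => rw [show p ^ g = 3 * k + 1 by omega, pow_add, pow_one, pow_mul]
            simp [ha'']
          · exact zero_pow (pow_ne_zero _ hpp.ne_zero)) with h | h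
      · exact Or.inl h
      · exact Or.inr (Or.inl h)
    push Not at hmin
    refine Or.inr (Or.inr (Or.inl ⟨p, m, R, hpp, hpc, hqp, hm, ?_, ?_, hmin, ?_, hR.absIrred,
      hR.le.trans hH.1.le, ?_, ?_, eq_of_maximal hH ?_ (su_not_le_subgroupNormalizer3 hF hq3 hRD (by rw [hR.extra.card_eq, Fintype.card_fin]; norm_num))⟩))
    · -- a central element
      obtain ⟨⟨z, hzc⟩, hz1⟩ : ∃ z : Subgroup.center R, z ≠ 1 := by
        by_contra hall
        push Not at hall
        haveI : Subsingleton (Subgroup.center R) := ⟨fun a b => (hall a).trans (hall b).symm⟩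
        have := hR.extra.center_eq
        rw [Nat.card_unique, Fintype.card_fin] at this
        omega
      have hzs : (z : GL (Fin 3) F) ∈ scalars (Fin 3) F := by
        refine hR.absIrred.scalar_of_comm fun y hy => ?_
        exact congrArg Subtype.val ((Subgroup.mem_center_iff.1 hzc ⟨y, hy⟩).symm)
      obtain ⟨s, hs⟩ := (mem_scalars_iff _).1 hzs
      have hs1 : (s : F) ≠ 1 := fun h => hz1 (Subtype.ext (Subtype.ext (Units.ext (by rw [hs, h, one_smul]; rfl))))
      have hsn : (s : F) ^ 3 = 1 := by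
        have h1 := (mem_sl_iff _).1 (hsl (hR.le z.2))
        rw [hs, Matrix.det_smul, Matrix.det_one, mul_one, Fintype.card_fin] at h1
        exact h1
      have hsq : (s : F) ^ (q + 1) = 1 := by
        have h1 := iso_matrix hF (hGU (hR.le z.2))
        rw [hs] at h1
        have h2 := congrFun (congrFun h1 ⟨0, by omega⟩) ⟨0, by omega⟩
        simp at h2
        rw [pow_succ']
        exact h2
      haveI : Fact (Nat.Prime 3) := ⟨hn⟩
      rw [← orderOf_eq_prime hsn hs1]
      exact orderOf_dvd_of_pow_eq_one hsq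
    · exact AschPrimeLinear.exp_dvd hn hpp (by omega) hq' hmin
    · simpa using hR.symp
    · rw [hR.extra.card_eq, Fintype.card_fin]
    · rw [hR.extra.center_eq, Fintype.card_fin]
    · intro h hh
      refine Subgroup.mem_normalizer_iff.2 fun x => ⟨hR.normal h hh x, fun hx => ?_⟩
      simpa [mul_assoc] using hR.normal h⁻¹ (H.inv_mem hh) _ hx
  · by_cases hreal : ∃ F₀ : Subfield F, F₀ ≠ ⊤ ∧ RealisableOver F₀ (matrixSet P)
    · obtain ⟨F₀, hne, C, hC⟩ := hreal
      obtain ⟨φ, r, hr, hcard, hfix⟩ := exists_maximal_above hne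
      rcases subCase P hP.absIrred hP.normal hP.le φ r C hr hcard
        (fun s hs i j => hfix _ (by simpa using hC _ ⟨s, hs, rfl⟩ i j)) with h | h
      · exact Or.inl h
      · exact Or.inr (Or.inl h)
    push Not at hreal
    refine Or.inr (Or.inr (Or.inr ⟨P, ⟨hP.le, hP.normal, hP.perfect, hP.simple, hP.nonabelian,
      hP.centralizer_scalar, hP.absIrred, hreal⟩, ?_, fun ⟨f, hf, _⟩ => no_symplectic hoddι ⟨f, hf⟩⟩))
    rintro ⟨Q, hQ, hfix⟩
    exact hreal _ (fixed_fr_ne_top hF)
      (realisable_of_quad hF (by omega) hP.absIrred (hP.le.trans hGU) hQ hfix)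


end Cfsg.Agent.OrthUnitarySUThree
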