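/-
Coded arithmetic in the field with p² elements (p = 3, 5) as F_p[t], t² = 2, and line sets stabilised by coded
three-by-three matrices.
-/
import Cfsg.Agent.Lib.OrthUnitarySUThree

set_option autoImplicit false

namespace Cfsg.Agent.OrthUnitarySUThreeCode

open scoped Matrix
open Cfsg Cfsg.Geo Cfsg.Agent.AschPrimeBasic Cfsg.Agent.AschPrimeUnitaryProper Cfsg.Agent.AschPrimeUnitary
open Cfsg.Agent.OrthUnitaryHerm (IsU)

/-! ### Arithmetic of codes: `x` stands for `(x % p) + (x / p) t` -/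

abbrev V3 := ℕ × ℕ × ℕ
abbrev M3 := V3 × V3 × V3

def cn (p x : ℕ) : ℕ := x % p + p * ((x / p) % p)
def ad (p x y : ℕ) : ℕ := (x % p + y % p) % p + p * ((x / p + y / p) % p)
def ml (p x y : ℕ) : ℕ :=
  (x % p * (y % p) + 2 * ((x / p) % p) * ((y / p) % p)) % p +
    p * ((x % p * ((y / p) % p) + (x / p) % p * (y % p)) % p)
def cj (p x : ℕ) : ℕ := x % p + p * ((p - (x / p) % p) % p)
def ng (p x : ℕ) : ℕ := (p - x % p) % p + p * ((p - (x / p) % p) % p)
def inv' (p x : ℕ) : ℕ :=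
  ml p (cj p x) (((x % p * (x % p) + (p - 2) * ((x / p) % p) * ((x / p) % p)) % p) ^ (p - 2) % p)

def dot (p : ℕ) (u v : V3) : ℕ := ad p (ad p (ml p u.1 v.1) (ml p u.2.1 v.2.1)) (ml p u.2.2 v.2.2)
def mv (p : ℕ) (A : M3) (v : V3) : V3 := (dot p A.1 v, dot p A.2.1 v, dot p A.2.2 v)
def trM (A : M3) : M3 :=
  ((A.1.1, A.2.1.1, A.2.2.1), (A.1.2.1, A.2.1.2.1, A.2.2.2.1), (A.1.2.2, A.2.1.2.2, A.2.2.2.2))
def mapV (f : ℕ → ℕ) (v : V3) : V3 := (f v.1, f v.2.1, f v.2.2)
def mapM (f : ℕ → ℕ) (A : M3) : M3 := (mapV f A.1, mapV f A.2.1, mapV f A.2.2)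
def mm (p : ℕ) (A B : M3) : M3 := trM (mv p A (trM B).1, mv p A (trM B).2.1, mv p A (trM B).2.2)
def one3 : M3 := ((1, 0, 0), (0, 1, 0), (0, 0, 1))
def ofCols (u v w : V3) : M3 := trM (u, v, w)
def smulV (p c : ℕ) (v : V3) : V3 := mapV (ml p c) v
def smulM (p c : ℕ) (A : M3) : M3 := mapM (ml p c) A
def cross (p : ℕ) (u v : V3) : V3 :=
  (ad p (ml p u.2.1 v.2.2) (ng p (ml p u.2.2 v.2.1)),
    ad p (ml p u.2.2 v.1) (ng p (ml p u.1 v.2.2)),
    ad p (ml p u.1 v.2.1) (ng p (ml p u.2.1 v.1)))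
def detM (p : ℕ) (A : M3) : ℕ := dot p A.1 (cross p A.2.1 A.2.2)
def eqV (p : ℕ) (u v : V3) : Bool := mapV (cn p) u == mapV (cn p) v
def eqM (p : ℕ) (A B : M3) : Bool := mapM (cn p) A == mapM (cn p) B
def isU (p : ℕ) (A : M3) : Bool := eqM p (mm p (trM A) (mapM (cj p) A)) one3
def isSU (p : ℕ) (A : M3) : Bool := isU p A && (cn p (detM p A) == cn p 1)
def nrm (p : ℕ) (v : V3) : V3 :=
  if cn p v.1 != 0 then smulV p (inv' p v.1) v
  else if cn p v.2.1 != 0 then smulV p (inv' p v.2.1) v else smulV p (inv' p v.2.2) v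
def inB (B : List (List V3)) (v : V3) : Bool := (B.getD v.2.1 []).contains v
def stable (p : ℕ) (S : List (List V3)) (A : M3) : Bool := S.flatten.all fun o => inB S (nrm p (mv p A o))
def nonzero (p : ℕ) (S : List (List V3)) : Bool := S.flatten.all fun o => !eqV p o (0, 0, 0)
def moves (p : ℕ) (S : List (List V3)) (A : M3) : Bool :=
  S.flatten.any fun o => S.flatten.all fun o' => !eqV p (cross p (mv p A o) o') (0, 0, 0)
def allV (Q : ℕ) : List V3 :=
  (List.range Q).flatMap fun a => (List.range Q).flatMap fun b => (List.range Q).map fun c => (a, b, c)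
def pw (p : ℕ) (A : M3) : ℕ → M3
  | 0 => one3
  | k + 1 => mm p (pw p A k) A

lemma mem_flatten_of_inB {B : List (List V3)} {v : V3} (e : inB B v = true) : v ∈ B.flatten := by
  have h1 : v ∈ B.getD v.2.1 [] := List.contains_iff_mem.1 e
  rcases Nat.lt_or_ge v.2.1 B.length with h | h
  · rw [List.getD_eq_getElem _ _ h] at h1
    exact List.mem_flatten.2 ⟨_, List.getElem_mem h, h1⟩
  · rw [List.getD_eq_default _ _ h] at h1
    simp at h1

/-! ### Semantics -/

/-- `F` is the field with p² elements and `t` a square root of 2. -/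
structure Code {F : Type*} [Field F] [Fintype F] (p : ℕ) (t : F) : Prop where
  prime : p.Prime
  card : Fintype.card F = p ^ 2
  char : (p : F) = 0
  sq : t * t = 2
  frob : t ^ p = -t
  indep : ∀ a b : ℕ, (a : F) + (b : F) * t = 0 → p ∣ a ∧ p ∣ b

variable {F : Type*} [Field F] [Fintype F]

lemma exists_code {p : ℕ} (hp : p = 3 ∨ p = 5) (hF : Fintype.card F = p ^ 2) :
    ∃ t : F, Code p t := by
  classical
  have hpp : p.Prime := by rcases hp with rfl | rfl <;> norm_num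
  haveI : Fact p.Prime := ⟨hpp⟩
  have hchar : CharP F p := by
    obtain ⟨l, m, hl, hc, hm, hqp⟩ := OrthUnitaryHerm.exists_prime_pow hF
    have : l ∣ p := by rw [hqp]; exact dvd_pow_self l hm.ne'
    rwa [(Nat.prime_dvd_prime_iff_eq hl hpp).1 this] at hc
  have hp0 : (p : F) = 0 := CharP.cast_eq_zero F p
  have hpodd : p ≠ 2 := by omega
  have hcF : ringChar F ≠ 2 := by rw [ringChar.eq F p]; exact hpodd
  have h20 : (2 : F) ≠ 0 := Ring.two_ne_zero hcF
  have hsq : IsSquare (2 : F) := by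
    rw [FiniteField.isSquare_iff hcF h20, hF]
    rcases hp with rfl | rfl
    · norm_num
      linear_combination (5 : F) * hp0
    · norm_num
      linear_combination (819 : F) * hp0
  obtain ⟨t, ht⟩ := hsq
  have hfrob : t ^ p = -t := by
    rcases hp with rfl | rfl
    · linear_combination t * hp0 - t * ht
    · linear_combination t * hp0 - t * (t * t + 2) * ht
  refine ⟨t, hpp, hF, hp0, ht.symm, hfrob, fun a b h => ?_⟩
  have ht0 : t ≠ 0 := fun h0 => h20 (by rw [ht, h0, mul_zero])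
  have hfix : ∀ k : ℕ, (k : F) ^ p = k := fun k => by
    rw [← frobenius_def, map_natCast]
  have h' : (a : F) - (b : F) * t = 0 := by
    have := congrArg (fun x => x ^ p) h
    simp only [add_pow_char, mul_pow, hfix, hfrob, zero_pow hpp.ne_zero] at this
    linear_combination this
  have hb : (b : F) = 0 := by
    have : (2 : F) * ((b : F) * t) = 0 := by linear_combination h - h'
    simpa [h20, ht0] using this
  have ha : (a : F) = 0 := by
    rw [hb, zero_mul, add_zero] at h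
    exact h
  exact ⟨(CharP.cast_eq_zero_iff F p a).1 ha, (CharP.cast_eq_zero_iff F p b).1 hb⟩

/-- the value of a code -/
def φ (p : ℕ) (t : F) (x : ℕ) : F := ((x % p : ℕ) : F) + ((x / p : ℕ) : F) * t

/-- the value of a coded vector -/
def φV (p : ℕ) (t : F) (v : V3) : Fin 3 → F := ![φ p t v.1, φ p t v.2.1, φ p t v.2.2]

/-- the value of a coded matrix -/
def φM (p : ℕ) (t : F) (A : M3) : Matrix (Fin 3) (Fin 3) F :=
  Matrix.of ![φV p t A.1, φV p t A.2.1, φV p t A.2.2]

variable {p : ℕ} {t : F} (h : Code p t)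
include h

lemma Code.castMod (a : ℕ) : ((a % p : ℕ) : F) = a := by
  conv_rhs => rw [← Nat.mod_add_div a p, Nat.cast_add, Nat.cast_mul, h.char, zero_mul, add_zero]

lemma Code.castSub (a : ℕ) : ((p - a % p : ℕ) : F) = -(a : F) := by
  rw [Nat.cast_sub (Nat.mod_lt _ h.prime.pos).le, h.char, zero_sub, h.castMod]

lemma Code.split (a b : ℕ) : φ p t (a % p + p * b) = (a : F) + (b : F) * t := by
  have hlt := Nat.mod_lt a h.prime.pos
  rw [φ, Nat.add_mul_mod_self_left, Nat.mod_mod, h.castMod,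
    Nat.add_mul_div_left _ _ h.prime.pos, Nat.div_eq_of_lt hlt, zero_add]

lemma Code.φ_cn (x : ℕ) : φ p t (cn p x) = φ p t x := by
  rw [cn, h.split, φ, h.castMod, h.castMod]

lemma Code.φ_ad (x y : ℕ) : φ p t (ad p x y) = φ p t x + φ p t y := by
  rw [ad, h.split, φ, φ]
  push_cast [h.castMod]
  ring

lemma Code.φ_ml (x y : ℕ) : φ p t (ml p x y) = φ p t x * φ p t y := by
  rw [ml, h.split, φ, φ]
  push_cast [h.castMod]
  linear_combination (-((x / p : ℕ) : F) * ((y / p : ℕ) : F)) * h.sq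

lemma Code.φ_ng (x : ℕ) : φ p t (ng p x) = -φ p t x := by
  rw [ng, h.split, h.castMod, h.castSub, h.castSub, φ, h.castMod]
  ring

lemma Code.φ_cj (x : ℕ) : φ p t (cj p x) = φ p t x ^ p := by
  have hp2 := h.prime.two_le
  haveI : Fact p.Prime := ⟨h.prime⟩
  haveI : CharP F p := (CharP.charP_iff_prime_eq_zero h.prime).2 h.char
  rw [cj, h.split, h.castMod, h.castSub, φ, add_pow_char, mul_pow, h.frob, h.castMod]
  rw [← frobenius_def, map_natCast, ← frobenius_def, map_natCast]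
  ring

lemma Code.cn_eq {x y : ℕ} (e : φ p t x = φ p t y) : cn p x = cn p y := by
  have h1 := h.indep (x % p + (p - y % p)) (x / p + (p - (y / p) % p)) (by
    push_cast [h.castSub, h.castMod]
    simp only [φ, h.castMod] at e
    linear_combination e)
  have key : ∀ a b : ℕ, p ∣ a + (p - b % p) → a % p = b % p := by
    intro a b hd
    have hb := Nat.mod_lt b h.prime.pos
    have h2 : p ∣ a % p + (p - b % p) := by
      rwa [Nat.dvd_iff_mod_eq_zero, Nat.mod_add_mod, ← Nat.dvd_iff_mod_eq_zero]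
    have ha := Nat.mod_lt a h.prime.pos
    obtain ⟨k, hk⟩ := h2
    have hk2 : k < 2 := by
      by_contra hge
      push Not at hge
      have := Nat.mul_le_mul_left p hge
      omega
    interval_cases k <;> omega
  have h2 := key _ _ h1.1
  rw [Nat.mod_mod] at h2
  rw [cn, cn, h2, key _ _ h1.2]

omit h in
lemma φ_zero : φ p t 0 = 0 := by simp [φ]

lemma Code.φ_one : φ p t 1 = 1 := by
  have := h.prime.two_le
  simp [φ, Nat.mod_eq_of_lt (show 1 < p by omega), Nat.div_eq_of_lt (show 1 < p by omega)]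

lemma Code.surj (x : F) : ∃ a < p * p, φ p t a = x := by
  classical
  have hp := h.prime.pos
  have hinj : Function.Injective fun a : Fin (p * p) => φ p t a := by
    intro a b e
    have h1 := h.cn_eq e
    have hid : ∀ c : Fin (p * p), cn p c = c := fun c => by
      have h2 : (c : ℕ) / p < p := Nat.div_lt_of_lt_mul c.2
      rw [cn, Nat.mod_eq_of_lt h2]
      exact Nat.mod_add_div _ _
    rw [hid, hid] at h1
    exact Fin.ext h1
  obtain ⟨a, ha⟩ := ((Fintype.bijective_iff_injective_and_card _).2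
    ⟨hinj, by rw [Fintype.card_fin, h.card, pow_two]⟩).2 x
  exact ⟨a, a.2, ha⟩

lemma Code.surjV (v : Fin 3 → F) : ∃ u ∈ allV (p * p), φV p t u = v := by
  obtain ⟨a, ha, hae⟩ := h.surj (v 0)
  obtain ⟨b, hb, hbe⟩ := h.surj (v 1)
  obtain ⟨c, hc, hce⟩ := h.surj (v 2)
  refine ⟨(a, b, c), ?_, ?_⟩
  · simp only [allV, List.mem_flatMap, List.mem_map, List.mem_range]
    exact ⟨a, ha, b, hb, c, hc, rfl⟩
  · funext i
    fin_cases i <;> simp [φV, hae, hbe, hce]

lemma Code.φ_dot (u v : V3) :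
    φ p t (dot p u v) = φ p t u.1 * φ p t v.1 + φ p t u.2.1 * φ p t v.2.1 + φ p t u.2.2 * φ p t v.2.2 := by
  simp [dot, h.φ_ad, h.φ_ml]

lemma Code.φV_mv (A : M3) (v : V3) : φV p t (mv p A v) = φM p t A *ᵥ φV p t v := by
  funext i
  fin_cases i <;> simp [mv, φV, φM, h.φ_dot, Matrix.mulVec, dotProduct, Fin.sum_univ_three]

omit h in
lemma φM_trM (A : M3) : φM p t (trM A) = (φM p t A)ᵀ := by
  ext i j
  fin_cases i <;> fin_cases j <;> rfl

lemma Code.φM_mm (A B : M3) : φM p t (mm p A B) = φM p t A * φM p t B := by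
  ext i j
  fin_cases i <;> fin_cases j <;>
    simp [mm, trM, mv, φV, φM, h.φ_dot, Matrix.mul_apply, Fin.sum_univ_three]

lemma Code.φM_one : φM p t one3 = 1 := by
  ext i j
  fin_cases i <;> fin_cases j <;> simp [one3, φV, φM, φ_zero, h.φ_one]

lemma Code.φM_smul (c : ℕ) (A : M3) : φM p t (smulM p c A) = φ p t c • φM p t A := by
  ext i j
  fin_cases i <;> fin_cases j <;> simp [smulM, mapM, mapV, φV, φM, h.φ_ml]

lemma Code.φV_smul (c : ℕ) (v : V3) : φV p t (smulV p c v) = φ p t c • φV p t v := by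
  funext i
  fin_cases i <;> simp [smulV, mapV, φV, h.φ_ml]

lemma Code.φM_cj (A : M3) : φM p t (mapM (cj p) A) = (φM p t A).map (fr h.card) := by
  ext i j
  fin_cases i <;> fin_cases j <;> simp [mapM, mapV, φV, φM, h.φ_cj]

lemma Code.φV_of_eqV {u v : V3} (e : eqV p u v = true) : φV p t u = φV p t v := by
  have e' : mapV (cn p) u = mapV (cn p) v := eq_of_beq e
  funext i
  have := congrArg (φV p t) e'
  fin_cases i <;>
    · first
      | (have h0 := congrFun this 0; simpa [φV, mapV, h.φ_cn] using h0)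
      | (have h0 := congrFun this 1; simpa [φV, mapV, h.φ_cn] using h0)
      | (have h0 := congrFun this 2; simpa [φV, mapV, h.φ_cn] using h0)

lemma Code.φM_of_eqM {A B : M3} (e : eqM p A B = true) : φM p t A = φM p t B := by
  have e' : mapM (cn p) A = mapM (cn p) B := eq_of_beq e
  have h1 : ∀ C : M3, φM p t (mapM (cn p) C) = φM p t C := fun C => by
    ext i j
    fin_cases i <;> fin_cases j <;> simp [mapM, mapV, φV, φM, h.φ_cn]
  rw [← h1 A, e', h1]

lemma Code.eqM_of_φM {A B : M3} (e : φM p t A = φM p t B) : eqM p A B = true := by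
  have e' : ∀ i j, φM p t A i j = φM p t B i j := fun i j => by rw [e]
  have : mapM (cn p) A = mapM (cn p) B := by
    simp only [mapM, mapV, Prod.mk.injEq]
    exact ⟨⟨h.cn_eq (e' 0 0), h.cn_eq (e' 0 1), h.cn_eq (e' 0 2)⟩, ⟨h.cn_eq (e' 1 0), h.cn_eq (e' 1 1),
      h.cn_eq (e' 1 2)⟩, h.cn_eq (e' 2 0), h.cn_eq (e' 2 1), h.cn_eq (e' 2 2)⟩
  simp [eqM, this]

lemma Code.eqV_of_φV {u v : V3} (e : φV p t u = φV p t v) : eqV p u v = true := by
  have : mapV (cn p) u = mapV (cn p) v := by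
    simp only [mapV, Prod.mk.injEq]
    exact ⟨h.cn_eq (congrFun e 0), h.cn_eq (congrFun e 1), h.cn_eq (congrFun e 2)⟩
  simp [eqV, this]

lemma Code.φ_detM (A : M3) : φ p t (detM p A) = (φM p t A).det := by
  rw [Matrix.det_fin_three]
  simp [detM, cross, φM, φV, h.φ_dot, h.φ_ad, h.φ_ml, h.φ_ng]
  ring

lemma Code.isU_of_gram {M : Matrix (Fin 3) (Fin 3) F} (e : Mᵀ * M.map (fr h.card) = 1) : IsU p M := by
  intro u v
  have := ((AschPrimeForms.sesq_of_unitary (herm_unitary (n := 3) h.card)).similar_iff M 1).2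
    (by rw [gram_herm h.card, mul_one, one_smul]; exact e) u v
  rwa [one_mul] at this

lemma Code.exists_gu {A : M3} (e : isU p A = true) :
    ∃ g ∈ Cfsg.GU 3 F p, (g : Matrix (Fin 3) (Fin 3) F) = φM p t A := by
  have h1 := h.φM_of_eqM e
  rw [h.φM_mm, φM_trM, h.φM_cj, h.φM_one] at h1
  exact ⟨_, (OrthUnitaryHerm.mkGU h.card _ (h.isU_of_gram h1)).2, OrthUnitaryHerm.mkGU_coe _ _ _⟩

lemma Code.exists_su {A : M3} (e : isSU p A = true) :
    ∃ g ∈ suGL 3 F p, (g : Matrix (Fin 3) (Fin 3) F) = φM p t A := by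
  rw [isSU, Bool.and_eq_true] at e
  obtain ⟨g, hg, hgv⟩ := h.exists_gu e.1
  refine ⟨g, ⟨hg, (mem_sl_iff _).2 ?_⟩, hgv⟩
  rw [hgv, ← h.φ_detM, ← h.φ_cn, eq_of_beq e.2, h.φ_cn, h.φ_one]

lemma Code.isU_of_mem {g : GL (Fin 3) F} (hg : g ∈ Cfsg.GU 3 F p) {A : M3}
    (e : (g : Matrix (Fin 3) (Fin 3) F) = φM p t A) : isU p A = true := by
  refine h.eqM_of_φM ?_
  rw [h.φM_mm, φM_trM, h.φM_cj, h.φM_one, ← e]
  exact iso_matrix h.card hg

lemma Code.isSU_of_mem {g : GL (Fin 3) F} (hg : g ∈ suGL 3 F p) {A : M3}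
    (e : (g : Matrix (Fin 3) (Fin 3) F) = φM p t A) : isSU p A = true := by
  rw [isSU, Bool.and_eq_true]
  refine ⟨h.isU_of_mem hg.1 e, ?_⟩
  have := h.cn_eq (x := detM p A) (y := 1) (by rw [h.φ_detM, ← e, (mem_sl_iff _).1 hg.2, h.φ_one])
  simp [this]

/-! ### Line sets -/

omit h in
/-- the vectors on the listed lines -/
def lineSet (p : ℕ) (t : F) (S : List (List V3)) : Set (Fin 3 → F) :=
  {v | ∃ c : F, c ≠ 0 ∧ ∃ o ∈ S.flatten, c • v = φV p t o}

omit h in
/-- the stabiliser of a line set -/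
def lineStab (p : ℕ) (t : F) (S : List (List V3)) : Subgroup (GL (Fin 3) F) :=
  stabilizing (Units.coeHom (Matrix (Fin 3) (Fin 3) F)) (lineSet p t S)

lemma Code.φV_ne_zero {S : List (List V3)} (hS : nonzero p S = true) {o : V3} (ho : o ∈ S.flatten) : φV p t o ≠ 0 := by
  intro e
  have h1 := List.all_eq_true.1 hS o ho
  rw [h.eqV_of_φV (v := (0, 0, 0)) (by rw [e]; funext i; fin_cases i <;> simp [φV, φ_zero])] at h1
  simp at h1

lemma Code.mem_lineStab {S : List (List V3)} (hS : nonzero p S = true) {g : GL (Fin 3) F} {A : M3} {s : F}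
    (hs : s ≠ 0) (e : (g : Matrix (Fin 3) (Fin 3) F) = s • φM p t A) (hA : stable p S A = true) :
    g ∈ lineStab p t S := by
  have hmaps : Set.MapsTo (fun v => (g : Matrix (Fin 3) (Fin 3) F) *ᵥ v) (lineSet p t S) (lineSet p t S) := by
    rintro v ⟨c, hc, o, ho, hv⟩
    have h1 : nrm p (mv p A o) ∈ S.flatten := mem_flatten_of_inB (List.all_eq_true.1 hA o ho)
    obtain ⟨d, hd⟩ : ∃ d : ℕ, φV p t (nrm p (mv p A o)) = φ p t d • φV p t (mv p A o) := by
      unfold nrm
      split_ifs <;> exact ⟨_, h.φV_smul _ _⟩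
    have hd0 : φ p t d ≠ 0 := fun h0 => h.φV_ne_zero hS h1 (by rw [hd, h0, zero_smul])
    refine ⟨φ p t d * (c * s⁻¹), mul_ne_zero hd0 (mul_ne_zero hc (inv_ne_zero hs)), _, h1, ?_⟩
    show _ • ((g : Matrix (Fin 3) (Fin 3) F) *ᵥ v) = _
    rw [hd, h.φV_mv, ← hv, e, Matrix.mulVec_smul, Matrix.smul_mulVec, smul_smul, smul_smul]
    congr 1
    field_simp
  intro v
  have hinj : Function.Injective fun v : Fin 3 → F => (g : Matrix (Fin 3) (Fin 3) F) *ᵥ v :=
    fun u u' hu => by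
      simpa [inv_mulVec_mulVec] using congrArg (fun z => ((g⁻¹ : GL (Fin 3) F) : Matrix (Fin 3) (Fin 3) F) *ᵥ z) hu
  refine ⟨fun hv => hmaps hv, fun hv => ?_⟩
  obtain ⟨⟨u, hu⟩, he⟩ := Finite.surjective_of_injective
    (f := fun q : lineSet p t S => (⟨(g : Matrix (Fin 3) (Fin 3) F) *ᵥ (q : Fin 3 → F), hmaps q.2⟩ : lineSet p t S))
    (fun q q' hq => Subtype.ext (hinj (congrArg Subtype.val hq))) ⟨_, hv⟩
  replace he := congrArg Subtype.val he
  exact hinj he ▸ hu

lemma Code.not_mem_lineStab {S : List (List V3)} {g : GL (Fin 3) F} {A : M3}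
    (e : (g : Matrix (Fin 3) (Fin 3) F) = φM p t A) (hA : moves p S A = true) :
    g ∉ lineStab p t S := by
  intro hg
  obtain ⟨o, ho, hall⟩ := List.any_eq_true.1 hA
  obtain ⟨c, hc, o', ho', hc'⟩ := (hg (φV p t o)).1 ⟨1, one_ne_zero, o, ho, one_smul _ _⟩
  have h1 := List.all_eq_true.1 hall o' ho'
  rw [Units.coeHom_apply, e, ← h.φV_mv] at hc'
  have hw : ∀ i, c * φV p t (mv p A o) i = φV p t o' i := fun i => by
    simpa using congrFun hc' i
  have w0 := hw 0
  have w1 := hw 1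
  have w2 := hw 2
  simp only [φV, Matrix.cons_val_zero, Matrix.cons_val_one, Matrix.head_cons, Matrix.cons_val] at w0 w1 w2
  rw [h.eqV_of_φV (v := (0, 0, 0)) (by
    funext i
    fin_cases i <;>
      simp only [cross, φV, h.φ_ad, h.φ_ml, h.φ_ng, φ_zero, ← w0, ← w1, ← w2] <;>
      simp <;> ring)] at h1
  simp at h1

/-- A maximal subgroup inside a proper line-set stabiliser contains all of it. -/
lemma Code.absurd_overgroup {H : Subgroup (GL (Fin 3) F)} (hH : IsMaximalIn (suGL 3 F p) H) {S : List (List V3)}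
    (hle : H ≤ lineStab p t S) {D C : M3} (hD : isSU p D = true) (hDm : moves p S D = true)
    (hS : nonzero p S = true) (hC : isSU p C = true) (hCs : stable p S C = true)
    (hCH : ∀ g ∈ H, (g : Matrix (Fin 3) (Fin 3) F) ≠ φM p t C) : False := by
  obtain ⟨d, hd, hdv⟩ := h.exists_su hD
  obtain ⟨c, hc, hcv⟩ := h.exists_su hC
  have heq := eq_of_maximal hH hle fun hh => h.not_mem_lineStab hdv hDm (hh hd)
  refine hCH c ?_ hcv
  rw [heq]
  exact ⟨h.mem_lineStab hS one_ne_zero (by rw [hcv, one_smul]) hCs, hc⟩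

omit h in
/-- maximality is invariant under conjugation by a normalising element -/
lemma isMaximalIn_conj {G : Type*} [Group G] {K H : Subgroup G} (hH : IsMaximalIn K H) {x : G}
    (hx : ∀ k ∈ K, x * k * x⁻¹ ∈ K) (hx' : ∀ k ∈ K, x⁻¹ * k * x ∈ K) :
    IsMaximalIn K (H.map (MulAut.conj x).toMonoidHom) := by
  have hK : K.map (MulAut.conj x).toMonoidHom = K := by
    ext y
    simp only [Subgroup.mem_map, MulEquiv.coe_toMonoidHom, MulAut.conj_apply]
    exact ⟨fun ⟨k, hk, e⟩ => e ▸ hx k hk, fun hy => ⟨x⁻¹ * y * x, hx' y hy, by group⟩⟩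
  refine ⟨lt_of_lt_of_eq ((Subgroup.map_lt_map_iff_of_injective (MulAut.conj x).injective).2 hH.1) hK,
    fun M h1 h2 => ?_⟩
  have hM : (M.comap (MulAut.conj x).toMonoidHom).map (MulAut.conj x).toMonoidHom = M :=
    Subgroup.map_comap_eq_self_of_surjective (MulAut.conj x).surjective _
  rcases hH.2 (M.comap (MulAut.conj x).toMonoidHom) (Subgroup.map_le_iff_le_comap.1 h1) (by
      intro y hy
      have h3 : x * y * x⁻¹ ∈ K := h2 hy
      simpa [mul_assoc] using hx' _ h3) with h3 | h3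
  · left; rw [← hM, h3]
  · right; rw [← hM, h3, hK]

end Cfsg.Agent.OrthUnitarySUThreeCode
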