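/-
Explicit data for the small exceptional cases of the three-dimensional unitary groups over 9 and 25 elements,
with their kernel-checked properties.
-/
import Cfsg.Agent.Lib.OrthUnitarySUThreeCode

set_option autoImplicit false
set_option maxRecDepth 100000

namespace Cfsg.Agent.OrthUnitarySUThreeData

open Cfsg.Agent.OrthUnitarySUThreeCode

def traceA (p : ℕ) (A : M3) : ℕ := ad p (ad p A.1.1 A.2.1.2.1) A.2.2.2.2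

def ev (i a : ℕ) : V3 := (if i == 0 then a else 0, if i == 1 then a else 0, if i == 2 then a else 0)

def monA (i j k a b c : ℕ) : M3 := ofCols (ev i a) (ev j b) (ev k c)

def units (p : ℕ) : List ℕ := (List.range (p * p)).filter fun a => cn p (ml p a (cj p a)) == cn p 1

def diagAll (p : ℕ) (S : List (List V3)) : Bool :=
  (units p).all fun a => (units p).all fun b => (units p).all fun c =>
    !(cn p (ml p (ml p (ml p a b) c) (ml p (ml p a b) c)) == cn p 1) || stable p S (monA 0 1 2 a b c)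

def permAll (p : ℕ) (S : List (List V3)) : Bool :=
  (List.range 3).all fun i => (List.range 3).all fun j => (List.range 3).all fun k =>
    (i == j || i == k || j == k) || (isU p (monA i j k 1 1 1) && stable p S (monA i j k 1 1 1))

def orth (p : ℕ) (u v : V3) : Bool := cn p (dot p u v) == 0

def orthAll (p : ℕ) (S : List (List V3)) (i : ℕ) : Bool :=
  let U := (allV p).filter fun v => cn p (dot p v v) == cn p 1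
  U.all fun u => u.1 != i || U.all fun v => !orth p u v || U.all fun w =>
    !(orth p u w && orth p v w && cn p (detM p (ofCols u v w)) == cn p 1) || stable p S (ofCols u v w)

def kry (p : ℕ) (a : M3) (v : V3) : M3 := ofCols v (mv p a v) (mv p a (mv p a v))

def cenAll (p : ℕ) (S : List (List V3)) (a Bi : M3) (i : ℕ) : Bool :=
  (allV (p * p)).all fun v => v.1 % p != i || !(cn p (dot p v (mapV (cj p) v)) == cn p 1) ||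
    (let A := mm p (kry p a v) Bi; !isSU p A || stable p S A)

def s0 : List (List V3) :=
  [[(1, 0, 6)],
  [(0, 1, 1), (1, 1, 5)],
  [(1, 2, 4)],
  [(1, 3, 0)],
  [(1, 4, 3), (1, 4, 7), (1, 4, 8)],
  [(1, 5, 3), (1, 5, 7), (1, 5, 8)],
  [(1, 6, 4), (1, 6, 5), (1, 6, 7), (1, 6, 8)],
  [(1, 7, 2), (1, 7, 3), (1, 7, 5)],
  [(1, 8, 1), (1, 8, 3), (1, 8, 4)]]

def d0 : M3 :=
  ((5, 3, 2), (6, 2, 8), (3, 7, 3))

def x3 : M3 :=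
  ((0, 5, 4), (1, 0, 0), (0, 7, 4))

def bi3 : M3 :=
  ((1, 0, 1), (0, 1, 0), (0, 0, 8))

def ys3 : List (ℕ × M3) :=
  [(1, ((1, 0, 0), (0, 1, 0), (0, 0, 1))), (2, ((2, 3, 4), (5, 8, 0), (3, 1, 5))), (4, ((8, 3, 3), (5, 2, 2), (0, 7, 5)))]

def cf3 : M3 :=
  ((2, 0, 0), (0, 0, 1), (0, 1, 0))

def x5 : M3 :=
  ((11, 11, 0), (3, 2, 14), (2, 3, 14))

def bi5 : M3 :=
  ((1, 1, 23), (0, 24, 22), (0, 22, 22))

def ys5 : List (ℕ × M3) :=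
  [(1, ((1, 0, 0), (0, 1, 0), (0, 0, 1))), (2, ((0, 1, 0), (0, 0, 4), (4, 0, 0))), (4, ((0, 0, 4), (1, 0, 0), (0, 4, 0)))]

def cf5 : M3 :=
  ((0, 0, 1), (1, 0, 0), (0, 1, 0))

def s1 : List (List V3) :=
  [[(0, 0, 1), (1, 0, 0), (1, 0, 1), (1, 0, 4), (1, 0, 12), (1, 0, 13), (1, 0, 17), (1, 0, 18)],
  [(0, 1, 0), (0, 1, 1), (0, 1, 4), (0, 1, 12), (0, 1, 13), (0, 1, 17), (0, 1, 18), (1, 1, 0), (1, 1, 8), (1, 1, 9), (1, 1, 13), (1, 1, 17), (1, 1, 21), (1, 1, 22)],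
  [(1, 2, 9), (1, 2, 13), (1, 2, 17), (1, 2, 21)],
  [(1, 3, 9), (1, 3, 13), (1, 3, 17), (1, 3, 21)],
  [(1, 4, 0), (1, 4, 8), (1, 4, 9), (1, 4, 13), (1, 4, 17), (1, 4, 21), (1, 4, 22)],
  [(1, 5, 11), (1, 5, 19)],
  [(1, 6, 6), (1, 6, 12), (1, 6, 18), (1, 6, 24)],
  [(1, 7, 12), (1, 7, 18)],
  [(1, 8, 1), (1, 8, 4)],
  [(1, 9, 1), (1, 9, 2), (1, 9, 3), (1, 9, 4)],
  [(1, 10, 13), (1, 10, 17)],
  [(1, 11, 5), (1, 11, 20)],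
  [(1, 12, 0), (1, 12, 6), (1, 12, 7), (1, 12, 12), (1, 12, 18), (1, 12, 23), (1, 12, 24)],
  [(1, 13, 0), (1, 13, 1), (1, 13, 2), (1, 13, 3), (1, 13, 4), (1, 13, 10), (1, 13, 15)],
  [(1, 14, 14), (1, 14, 16)],
  [(1, 15, 13), (1, 15, 17)],
  [(1, 16, 14), (1, 16, 16)],
  [(1, 17, 0), (1, 17, 1), (1, 17, 2), (1, 17, 3), (1, 17, 4), (1, 17, 10), (1, 17, 15)],
  [(1, 18, 0), (1, 18, 6), (1, 18, 7), (1, 18, 12), (1, 18, 18), (1, 18, 23), (1, 18, 24)],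
  [(1, 19, 5), (1, 19, 20)],
  [(1, 20, 11), (1, 20, 19)],
  [(1, 21, 1), (1, 21, 2), (1, 21, 3), (1, 21, 4)],
  [(1, 22, 1), (1, 22, 4)],
  [(1, 23, 12), (1, 23, 18)],
  [(1, 24, 6), (1, 24, 12), (1, 24, 18), (1, 24, 24)]]

def d1 : M3 :=
  ((10, 16, 1), (4, 23, 16), (16, 12, 7))

def c1 : M3 :=
  ((5, 2, 6), (20, 2, 6), (0, 11, 5))

def s2 : List (List V3) :=
  [[(0, 0, 1), (1, 0, 0), (1, 0, 1), (1, 0, 4), (1, 0, 12), (1, 0, 13), (1, 0, 17), (1, 0, 18)],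
  [(0, 1, 0), (0, 1, 1), (0, 1, 4), (0, 1, 12), (0, 1, 13), (0, 1, 17), (0, 1, 18), (1, 1, 0), (1, 1, 1), (1, 1, 2), (1, 1, 3), (1, 1, 4), (1, 1, 10), (1, 1, 15)],
  [(1, 2, 1), (1, 2, 2), (1, 2, 3), (1, 2, 4)],
  [(1, 3, 1), (1, 3, 2), (1, 3, 3), (1, 3, 4)],
  [(1, 4, 0), (1, 4, 1), (1, 4, 2), (1, 4, 3), (1, 4, 4), (1, 4, 10), (1, 4, 15)],
  [(1, 5, 5), (1, 5, 20)],
  [(1, 6, 9), (1, 6, 13), (1, 6, 17), (1, 6, 21)],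
  [(1, 7, 13), (1, 7, 17)],
  [(1, 8, 12), (1, 8, 18)],
  [(1, 9, 6), (1, 9, 12), (1, 9, 18), (1, 9, 24)],
  [(1, 10, 1), (1, 10, 4)],
  [(1, 11, 14), (1, 11, 16)],
  [(1, 12, 0), (1, 12, 8), (1, 12, 9), (1, 12, 13), (1, 12, 17), (1, 12, 21), (1, 12, 22)],
  [(1, 13, 0), (1, 13, 6), (1, 13, 7), (1, 13, 12), (1, 13, 18), (1, 13, 23), (1, 13, 24)],
  [(1, 14, 11), (1, 14, 19)],
  [(1, 15, 1), (1, 15, 4)],
  [(1, 16, 11), (1, 16, 19)],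
  [(1, 17, 0), (1, 17, 6), (1, 17, 7), (1, 17, 12), (1, 17, 18), (1, 17, 23), (1, 17, 24)],
  [(1, 18, 0), (1, 18, 8), (1, 18, 9), (1, 18, 13), (1, 18, 17), (1, 18, 21), (1, 18, 22)],
  [(1, 19, 14), (1, 19, 16)],
  [(1, 20, 5), (1, 20, 20)],
  [(1, 21, 6), (1, 21, 12), (1, 21, 18), (1, 21, 24)],
  [(1, 22, 12), (1, 22, 18)],
  [(1, 23, 13), (1, 23, 17)],
  [(1, 24, 9), (1, 24, 13), (1, 24, 17), (1, 24, 21)]]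

def d2 : M3 :=
  ((12, 22, 5), (17, 13, 9), (2, 19, 21))

def c2 : M3 :=
  ((0, 0, 12), (0, 1, 0), (13, 0, 0))

def s3 : List (List V3) :=
  [[(1, 0, 4), (1, 0, 13), (1, 0, 18)],
  [(0, 1, 4), (0, 1, 13), (0, 1, 18), (1, 1, 2), (1, 1, 4), (1, 1, 10), (1, 1, 15)],
  [(1, 2, 1)],
  [(1, 3, 3)],
  [(1, 4, 0), (1, 4, 1), (1, 4, 4)],
  [(1, 5, 5)],
  [(1, 6, 21)],
  [(1, 7, 17)],
  [(1, 8, 12)],
  [(1, 9, 12)],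
  [(1, 10, 1)],
  [(1, 11, 14)],
  [(1, 12, 8), (1, 12, 9), (1, 12, 13), (1, 12, 22)],
  [(1, 13, 0), (1, 13, 12), (1, 13, 18)],
  [(1, 14, 11)],
  [(1, 15, 1)],
  [(1, 16, 19)],
  [(1, 17, 7), (1, 17, 18), (1, 17, 23), (1, 17, 24)],
  [(1, 18, 0), (1, 18, 13), (1, 18, 17)],
  [(1, 19, 16)],
  [(1, 20, 20)],
  [(1, 21, 6)],
  [(1, 22, 12)],
  [(1, 23, 17)],
  [(1, 24, 17)]]

def d3 : M3 :=
  ((1, 13, 21), (2, 24, 5), (13, 17, 3))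

def c3 : M3 :=
  ((3, 2, 5), (20, 20, 0), (2, 3, 5))

def r5 : List M3 :=
  [((0, 0, 1), (1, 0, 0), (0, 1, 0)), ((0, 0, 1), (12, 0, 0), (0, 17, 0)),
  ((0, 0, 1), (17, 0, 0), (0, 12, 0)), ((0, 0, 12), (1, 0, 0), (0, 17, 0)),
  ((0, 0, 12), (12, 0, 0), (0, 12, 0)), ((0, 0, 12), (17, 0, 0), (0, 1, 0)),
  ((0, 0, 17), (1, 0, 0), (0, 12, 0)), ((0, 0, 17), (12, 0, 0), (0, 1, 0)),
  ((0, 0, 17), (17, 0, 0), (0, 17, 0)), ((0, 1, 0), (0, 0, 1), (1, 0, 0)),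
  ((0, 1, 0), (0, 0, 12), (17, 0, 0)), ((0, 1, 0), (0, 0, 17), (12, 0, 0)),
  ((0, 12, 0), (0, 0, 1), (17, 0, 0)), ((0, 12, 0), (0, 0, 12), (12, 0, 0)),
  ((0, 12, 0), (0, 0, 17), (1, 0, 0)), ((0, 17, 0), (0, 0, 1), (12, 0, 0)),
  ((0, 17, 0), (0, 0, 12), (1, 0, 0)), ((0, 17, 0), (0, 0, 17), (17, 0, 0)),
  ((1, 0, 0), (0, 1, 0), (0, 0, 1)), ((1, 0, 0), (0, 12, 0), (0, 0, 17)),
  ((1, 0, 0), (0, 17, 0), (0, 0, 12)), ((12, 0, 0), (0, 1, 0), (0, 0, 17)),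
  ((12, 0, 0), (0, 12, 0), (0, 0, 12)), ((12, 0, 0), (0, 17, 0), (0, 0, 1)),
  ((17, 0, 0), (0, 1, 0), (0, 0, 12)), ((17, 0, 0), (0, 12, 0), (0, 0, 1)),
  ((17, 0, 0), (0, 17, 0), (0, 0, 17))]

def rd : M3 :=
  ((1, 0, 0), (0, 12, 0), (0, 0, 17))

def rc : M3 :=
  ((0, 1, 0), (0, 0, 1), (1, 0, 0))

def w5 : ℕ :=
  17

def om5 : ℕ :=
  12

def tab : List (M3 × M3 × M3) :=
  [(((0, 0, 1), (1, 0, 0), (0, 1, 0)), ((0, 0, 1), (12, 0, 0), (0, 17, 0)), ((15, 8, 15), (15, 7, 7), (15, 15, 8))),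
  (((0, 0, 1), (1, 0, 0), (0, 1, 0)), ((0, 0, 12), (17, 0, 0), (0, 1, 0)), ((15, 7, 7), (15, 15, 8), (15, 8, 15))),
  (((0, 0, 1), (1, 0, 0), (0, 1, 0)), ((0, 0, 17), (1, 0, 0), (0, 12, 0)), ((15, 15, 8), (15, 8, 15), (15, 7, 7))),
  (((0, 0, 1), (1, 0, 0), (0, 1, 0)), ((0, 1, 0), (0, 0, 12), (17, 0, 0)), ((8, 15, 8), (8, 8, 15), (8, 7, 7))),
  (((0, 0, 1), (1, 0, 0), (0, 1, 0)), ((0, 12, 0), (0, 0, 17), (1, 0, 0)), ((8, 8, 15), (8, 7, 7), (8, 15, 8))),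
  (((0, 0, 1), (1, 0, 0), (0, 1, 0)), ((0, 17, 0), (0, 0, 1), (12, 0, 0)), ((8, 7, 7), (8, 15, 8), (8, 8, 15))),
  (((0, 0, 1), (1, 0, 0), (0, 1, 0)), ((1, 0, 0), (0, 12, 0), (0, 0, 17)), ((7, 7, 7), (7, 15, 8), (7, 8, 15))),
  (((0, 0, 1), (1, 0, 0), (0, 1, 0)), ((12, 0, 0), (0, 17, 0), (0, 0, 1)), ((7, 15, 8), (7, 8, 15), (7, 7, 7))),
  (((0, 0, 1), (1, 0, 0), (0, 1, 0)), ((17, 0, 0), (0, 1, 0), (0, 0, 12)), ((7, 8, 15), (7, 7, 7), (7, 15, 8))),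
  (((0, 0, 1), (12, 0, 0), (0, 17, 0)), ((0, 0, 1), (17, 0, 0), (0, 12, 0)), ((7, 15, 7), (8, 15, 15), (7, 7, 15))),
  (((0, 0, 1), (12, 0, 0), (0, 17, 0)), ((0, 0, 12), (1, 0, 0), (0, 17, 0)), ((7, 8, 8), (8, 8, 7), (7, 15, 7))),
  (((0, 0, 1), (12, 0, 0), (0, 17, 0)), ((0, 0, 17), (12, 0, 0), (0, 1, 0)), ((7, 7, 15), (8, 7, 8), (7, 8, 8))),
  (((0, 0, 1), (12, 0, 0), (0, 17, 0)), ((0, 1, 0), (0, 0, 1), (1, 0, 0)), ((15, 15, 7), (7, 15, 15), (15, 7, 15))),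
  (((0, 0, 1), (12, 0, 0), (0, 17, 0)), ((0, 12, 0), (0, 0, 12), (12, 0, 0)), ((15, 8, 8), (7, 8, 7), (15, 15, 7))),
  (((0, 0, 1), (12, 0, 0), (0, 17, 0)), ((0, 17, 0), (0, 0, 17), (17, 0, 0)), ((15, 7, 15), (7, 7, 8), (15, 8, 8))),
  (((0, 0, 1), (12, 0, 0), (0, 17, 0)), ((1, 0, 0), (0, 12, 0), (0, 0, 17)), ((8, 8, 8), (15, 8, 7), (8, 15, 7))),
  (((0, 0, 1), (12, 0, 0), (0, 17, 0)), ((12, 0, 0), (0, 17, 0), (0, 0, 1)), ((8, 7, 15), (15, 7, 8), (8, 8, 8))),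
  (((0, 0, 1), (12, 0, 0), (0, 17, 0)), ((17, 0, 0), (0, 1, 0), (0, 0, 12)), ((8, 15, 7), (15, 15, 15), (8, 7, 15))),
  (((0, 0, 1), (17, 0, 0), (0, 12, 0)), ((0, 0, 1), (1, 0, 0), (0, 1, 0)), ((8, 7, 8), (7, 8, 8), (8, 8, 7))),
  (((0, 0, 1), (17, 0, 0), (0, 12, 0)), ((0, 0, 12), (12, 0, 0), (0, 12, 0)), ((8, 15, 15), (7, 7, 15), (8, 7, 8))),
  (((0, 0, 1), (17, 0, 0), (0, 12, 0)), ((0, 0, 17), (17, 0, 0), (0, 17, 0)), ((8, 8, 7), (7, 15, 7), (8, 15, 15))),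
  (((0, 0, 1), (17, 0, 0), (0, 12, 0)), ((0, 1, 0), (0, 0, 17), (12, 0, 0)), ((7, 15, 15), (15, 7, 15), (7, 7, 8))),
  (((0, 0, 1), (17, 0, 0), (0, 12, 0)), ((0, 12, 0), (0, 0, 1), (17, 0, 0)), ((7, 8, 7), (15, 15, 7), (7, 15, 15))),
  (((0, 0, 1), (17, 0, 0), (0, 12, 0)), ((0, 17, 0), (0, 0, 12), (1, 0, 0)), ((7, 7, 8), (15, 8, 8), (7, 8, 7))),
  (((0, 0, 1), (17, 0, 0), (0, 12, 0)), ((1, 0, 0), (0, 12, 0), (0, 0, 17)), ((15, 15, 15), (8, 7, 15), (15, 7, 8))),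
  (((0, 0, 1), (17, 0, 0), (0, 12, 0)), ((12, 0, 0), (0, 17, 0), (0, 0, 1)), ((15, 8, 7), (8, 15, 7), (15, 15, 15))),
  (((0, 0, 1), (17, 0, 0), (0, 12, 0)), ((17, 0, 0), (0, 1, 0), (0, 0, 12)), ((15, 7, 8), (8, 8, 8), (15, 8, 7))),
  (((0, 0, 12), (1, 0, 0), (0, 17, 0)), ((0, 0, 1), (1, 0, 0), (0, 1, 0)), ((8, 8, 7), (8, 7, 8), (7, 8, 8))),
  (((0, 0, 12), (1, 0, 0), (0, 17, 0)), ((0, 0, 12), (12, 0, 0), (0, 12, 0)), ((8, 7, 8), (8, 15, 15), (7, 7, 15))),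
  (((0, 0, 12), (1, 0, 0), (0, 17, 0)), ((0, 0, 17), (17, 0, 0), (0, 17, 0)), ((8, 15, 15), (8, 8, 7), (7, 15, 7))),
  (((0, 0, 12), (1, 0, 0), (0, 17, 0)), ((0, 1, 0), (0, 0, 17), (12, 0, 0)), ((7, 8, 7), (7, 7, 8), (15, 8, 8))),
  (((0, 0, 12), (1, 0, 0), (0, 17, 0)), ((0, 12, 0), (0, 0, 1), (17, 0, 0)), ((7, 7, 8), (7, 15, 15), (15, 7, 15))),
  (((0, 0, 12), (1, 0, 0), (0, 17, 0)), ((0, 17, 0), (0, 0, 12), (1, 0, 0)), ((7, 15, 15), (7, 8, 7), (15, 15, 7))),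
  (((0, 0, 12), (1, 0, 0), (0, 17, 0)), ((1, 0, 0), (0, 12, 0), (0, 0, 17)), ((15, 15, 15), (15, 8, 7), (8, 15, 7))),
  (((0, 0, 12), (1, 0, 0), (0, 17, 0)), ((12, 0, 0), (0, 17, 0), (0, 0, 1)), ((15, 8, 7), (15, 7, 8), (8, 8, 8))),
  (((0, 0, 12), (1, 0, 0), (0, 17, 0)), ((17, 0, 0), (0, 1, 0), (0, 0, 12)), ((15, 7, 8), (15, 15, 15), (8, 7, 15))),
  (((0, 0, 12), (12, 0, 0), (0, 12, 0)), ((0, 0, 1), (12, 0, 0), (0, 17, 0)), ((15, 15, 8), (7, 15, 7), (8, 15, 15))),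
  (((0, 0, 12), (12, 0, 0), (0, 12, 0)), ((0, 0, 12), (17, 0, 0), (0, 1, 0)), ((15, 8, 15), (7, 8, 8), (8, 8, 7))),
  (((0, 0, 12), (12, 0, 0), (0, 12, 0)), ((0, 0, 17), (1, 0, 0), (0, 12, 0)), ((15, 7, 7), (7, 7, 15), (8, 7, 8))),
  (((0, 0, 12), (12, 0, 0), (0, 12, 0)), ((0, 1, 0), (0, 0, 12), (17, 0, 0)), ((8, 8, 15), (15, 8, 8), (7, 8, 7))),
  (((0, 0, 12), (12, 0, 0), (0, 12, 0)), ((0, 12, 0), (0, 0, 17), (1, 0, 0)), ((8, 7, 7), (15, 7, 15), (7, 7, 8))),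
  (((0, 0, 12), (12, 0, 0), (0, 12, 0)), ((0, 17, 0), (0, 0, 1), (12, 0, 0)), ((8, 15, 8), (15, 15, 7), (7, 15, 15))),
  (((0, 0, 12), (12, 0, 0), (0, 12, 0)), ((1, 0, 0), (0, 12, 0), (0, 0, 17)), ((7, 7, 7), (8, 7, 15), (15, 7, 8))),
  (((0, 0, 12), (12, 0, 0), (0, 12, 0)), ((12, 0, 0), (0, 17, 0), (0, 0, 1)), ((7, 15, 8), (8, 15, 7), (15, 15, 15))),
  (((0, 0, 12), (12, 0, 0), (0, 12, 0)), ((17, 0, 0), (0, 1, 0), (0, 0, 12)), ((7, 8, 15), (8, 8, 8), (15, 8, 7))),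
  (((0, 0, 12), (17, 0, 0), (0, 1, 0)), ((0, 0, 1), (17, 0, 0), (0, 12, 0)), ((7, 7, 15), (15, 8, 15), (15, 7, 7))),
  (((0, 0, 12), (17, 0, 0), (0, 1, 0)), ((0, 0, 12), (1, 0, 0), (0, 17, 0)), ((7, 15, 7), (15, 7, 7), (15, 15, 8))),
  (((0, 0, 12), (17, 0, 0), (0, 1, 0)), ((0, 0, 17), (12, 0, 0), (0, 1, 0)), ((7, 8, 8), (15, 15, 8), (15, 8, 15))),
  (((0, 0, 12), (17, 0, 0), (0, 1, 0)), ((0, 1, 0), (0, 0, 1), (1, 0, 0)), ((15, 8, 8), (8, 15, 8), (8, 8, 15))),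
  (((0, 0, 12), (17, 0, 0), (0, 1, 0)), ((0, 12, 0), (0, 0, 12), (12, 0, 0)), ((15, 7, 15), (8, 8, 15), (8, 7, 7))),
  (((0, 0, 12), (17, 0, 0), (0, 1, 0)), ((0, 17, 0), (0, 0, 17), (17, 0, 0)), ((15, 15, 7), (8, 7, 7), (8, 15, 8))),
  (((0, 0, 12), (17, 0, 0), (0, 1, 0)), ((1, 0, 0), (0, 12, 0), (0, 0, 17)), ((8, 8, 8), (7, 15, 8), (7, 8, 15))),
  (((0, 0, 12), (17, 0, 0), (0, 1, 0)), ((12, 0, 0), (0, 17, 0), (0, 0, 1)), ((8, 7, 15), (7, 8, 15), (7, 7, 7))),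
  (((0, 0, 12), (17, 0, 0), (0, 1, 0)), ((17, 0, 0), (0, 1, 0), (0, 0, 12)), ((8, 15, 7), (7, 7, 7), (7, 15, 8))),
  (((0, 0, 17), (1, 0, 0), (0, 12, 0)), ((0, 0, 1), (17, 0, 0), (0, 12, 0)), ((7, 8, 8), (7, 7, 15), (8, 7, 8))),
  (((0, 0, 17), (1, 0, 0), (0, 12, 0)), ((0, 0, 12), (1, 0, 0), (0, 17, 0)), ((7, 7, 15), (7, 15, 7), (8, 15, 15))),
  (((0, 0, 17), (1, 0, 0), (0, 12, 0)), ((0, 0, 17), (12, 0, 0), (0, 1, 0)), ((7, 15, 7), (7, 8, 8), (8, 8, 7))),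
  (((0, 0, 17), (1, 0, 0), (0, 12, 0)), ((0, 1, 0), (0, 0, 1), (1, 0, 0)), ((15, 7, 15), (15, 15, 7), (7, 15, 15))),
  (((0, 0, 17), (1, 0, 0), (0, 12, 0)), ((0, 12, 0), (0, 0, 12), (12, 0, 0)), ((15, 15, 7), (15, 8, 8), (7, 8, 7))),
  (((0, 0, 17), (1, 0, 0), (0, 12, 0)), ((0, 17, 0), (0, 0, 17), (17, 0, 0)), ((15, 8, 8), (15, 7, 15), (7, 7, 8))),
  (((0, 0, 17), (1, 0, 0), (0, 12, 0)), ((1, 0, 0), (0, 12, 0), (0, 0, 17)), ((8, 8, 8), (8, 7, 15), (15, 7, 8))),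
  (((0, 0, 17), (1, 0, 0), (0, 12, 0)), ((12, 0, 0), (0, 17, 0), (0, 0, 1)), ((8, 7, 15), (8, 15, 7), (15, 15, 15))),
  (((0, 0, 17), (1, 0, 0), (0, 12, 0)), ((17, 0, 0), (0, 1, 0), (0, 0, 12)), ((8, 15, 7), (8, 8, 8), (15, 8, 7))),
  (((0, 0, 17), (12, 0, 0), (0, 1, 0)), ((0, 0, 1), (1, 0, 0), (0, 1, 0)), ((8, 15, 15), (15, 15, 8), (15, 8, 15))),
  (((0, 0, 17), (12, 0, 0), (0, 1, 0)), ((0, 0, 12), (12, 0, 0), (0, 12, 0)), ((8, 8, 7), (15, 8, 15), (15, 7, 7))),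
  (((0, 0, 17), (12, 0, 0), (0, 1, 0)), ((0, 0, 17), (17, 0, 0), (0, 17, 0)), ((8, 7, 8), (15, 7, 7), (15, 15, 8))),
  (((0, 0, 17), (12, 0, 0), (0, 1, 0)), ((0, 1, 0), (0, 0, 17), (12, 0, 0)), ((7, 7, 8), (8, 7, 7), (8, 15, 8))),
  (((0, 0, 17), (12, 0, 0), (0, 1, 0)), ((0, 12, 0), (0, 0, 1), (17, 0, 0)), ((7, 15, 15), (8, 15, 8), (8, 8, 15))),
  (((0, 0, 17), (12, 0, 0), (0, 1, 0)), ((0, 17, 0), (0, 0, 12), (1, 0, 0)), ((7, 8, 7), (8, 8, 15), (8, 7, 7))),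
  (((0, 0, 17), (12, 0, 0), (0, 1, 0)), ((1, 0, 0), (0, 12, 0), (0, 0, 17)), ((15, 15, 15), (7, 15, 8), (7, 8, 15))),
  (((0, 0, 17), (12, 0, 0), (0, 1, 0)), ((12, 0, 0), (0, 17, 0), (0, 0, 1)), ((15, 8, 7), (7, 8, 15), (7, 7, 7))),
  (((0, 0, 17), (12, 0, 0), (0, 1, 0)), ((17, 0, 0), (0, 1, 0), (0, 0, 12)), ((15, 7, 8), (7, 7, 7), (7, 15, 8))),
  (((0, 0, 17), (17, 0, 0), (0, 17, 0)), ((0, 0, 1), (12, 0, 0), (0, 17, 0)), ((15, 7, 7), (8, 8, 7), (7, 15, 7))),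
  (((0, 0, 17), (17, 0, 0), (0, 17, 0)), ((0, 0, 12), (17, 0, 0), (0, 1, 0)), ((15, 15, 8), (8, 7, 8), (7, 8, 8))),
  (((0, 0, 17), (17, 0, 0), (0, 17, 0)), ((0, 0, 17), (1, 0, 0), (0, 12, 0)), ((15, 8, 15), (8, 15, 15), (7, 7, 15))),
  (((0, 0, 17), (17, 0, 0), (0, 17, 0)), ((0, 1, 0), (0, 0, 12), (17, 0, 0)), ((8, 7, 7), (7, 8, 7), (15, 15, 7))),
  (((0, 0, 17), (17, 0, 0), (0, 17, 0)), ((0, 12, 0), (0, 0, 17), (1, 0, 0)), ((8, 15, 8), (7, 7, 8), (15, 8, 8))),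
  (((0, 0, 17), (17, 0, 0), (0, 17, 0)), ((0, 17, 0), (0, 0, 1), (12, 0, 0)), ((8, 8, 15), (7, 15, 15), (15, 7, 15))),
  (((0, 0, 17), (17, 0, 0), (0, 17, 0)), ((1, 0, 0), (0, 12, 0), (0, 0, 17)), ((7, 7, 7), (15, 8, 7), (8, 15, 7))),
  (((0, 0, 17), (17, 0, 0), (0, 17, 0)), ((12, 0, 0), (0, 17, 0), (0, 0, 1)), ((7, 15, 8), (15, 7, 8), (8, 8, 8))),
  (((0, 0, 17), (17, 0, 0), (0, 17, 0)), ((17, 0, 0), (0, 1, 0), (0, 0, 12)), ((7, 8, 15), (15, 15, 15), (8, 7, 15))),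
  (((0, 1, 0), (0, 0, 1), (1, 0, 0)), ((0, 0, 1), (17, 0, 0), (0, 12, 0)), ((23, 22, 23), (23, 10, 10), (23, 23, 22))),
  (((0, 1, 0), (0, 0, 1), (1, 0, 0)), ((0, 0, 12), (1, 0, 0), (0, 17, 0)), ((23, 23, 22), (23, 22, 23), (23, 10, 10))),
  (((0, 1, 0), (0, 0, 1), (1, 0, 0)), ((0, 0, 17), (12, 0, 0), (0, 1, 0)), ((23, 10, 10), (23, 23, 22), (23, 22, 23))),
  (((0, 1, 0), (0, 0, 1), (1, 0, 0)), ((0, 1, 0), (0, 0, 17), (12, 0, 0)), ((22, 23, 22), (22, 22, 23), (22, 10, 10))),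
  (((0, 1, 0), (0, 0, 1), (1, 0, 0)), ((0, 12, 0), (0, 0, 1), (17, 0, 0)), ((22, 10, 10), (22, 23, 22), (22, 22, 23))),
  (((0, 1, 0), (0, 0, 1), (1, 0, 0)), ((0, 17, 0), (0, 0, 12), (1, 0, 0)), ((22, 22, 23), (22, 10, 10), (22, 23, 22))),
  (((0, 1, 0), (0, 0, 1), (1, 0, 0)), ((1, 0, 0), (0, 17, 0), (0, 0, 12)), ((10, 10, 10), (10, 23, 22), (10, 22, 23))),
  (((0, 1, 0), (0, 0, 1), (1, 0, 0)), ((12, 0, 0), (0, 1, 0), (0, 0, 17)), ((10, 22, 23), (10, 10, 10), (10, 23, 22))),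
  (((0, 1, 0), (0, 0, 1), (1, 0, 0)), ((17, 0, 0), (0, 12, 0), (0, 0, 1)), ((10, 23, 22), (10, 22, 23), (10, 10, 10))),
  (((0, 1, 0), (0, 0, 12), (17, 0, 0)), ((0, 0, 1), (12, 0, 0), (0, 17, 0)), ((10, 22, 22), (10, 10, 23), (22, 10, 22))),
  (((0, 1, 0), (0, 0, 12), (17, 0, 0)), ((0, 0, 12), (17, 0, 0), (0, 1, 0)), ((10, 23, 10), (10, 22, 22), (22, 22, 10))),
  (((0, 1, 0), (0, 0, 12), (17, 0, 0)), ((0, 0, 17), (1, 0, 0), (0, 12, 0)), ((10, 10, 23), (10, 23, 10), (22, 23, 23))),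
  (((0, 1, 0), (0, 0, 12), (17, 0, 0)), ((0, 1, 0), (0, 0, 1), (1, 0, 0)), ((23, 10, 23), (23, 23, 10), (10, 23, 23))),
  (((0, 1, 0), (0, 0, 12), (17, 0, 0)), ((0, 12, 0), (0, 0, 12), (12, 0, 0)), ((23, 22, 22), (23, 10, 23), (10, 10, 22))),
  (((0, 1, 0), (0, 0, 12), (17, 0, 0)), ((0, 17, 0), (0, 0, 17), (17, 0, 0)), ((23, 23, 10), (23, 22, 22), (10, 22, 10))),
  (((0, 1, 0), (0, 0, 12), (17, 0, 0)), ((1, 0, 0), (0, 17, 0), (0, 0, 12)), ((22, 22, 22), (22, 10, 23), (23, 10, 22))),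
  (((0, 1, 0), (0, 0, 12), (17, 0, 0)), ((12, 0, 0), (0, 1, 0), (0, 0, 17)), ((22, 23, 10), (22, 22, 22), (23, 22, 10))),
  (((0, 1, 0), (0, 0, 12), (17, 0, 0)), ((17, 0, 0), (0, 12, 0), (0, 0, 1)), ((22, 10, 23), (22, 23, 10), (23, 23, 23))),
  (((0, 1, 0), (0, 0, 17), (12, 0, 0)), ((0, 0, 1), (1, 0, 0), (0, 1, 0)), ((22, 22, 10), (22, 10, 22), (10, 22, 22))),
  (((0, 1, 0), (0, 0, 17), (12, 0, 0)), ((0, 0, 12), (12, 0, 0), (0, 12, 0)), ((22, 23, 23), (22, 22, 10), (10, 23, 10))),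
  (((0, 1, 0), (0, 0, 17), (12, 0, 0)), ((0, 0, 17), (17, 0, 0), (0, 17, 0)), ((22, 10, 22), (22, 23, 23), (10, 10, 23))),
  (((0, 1, 0), (0, 0, 17), (12, 0, 0)), ((0, 1, 0), (0, 0, 12), (17, 0, 0)), ((10, 22, 10), (10, 10, 22), (23, 22, 22))),
  (((0, 1, 0), (0, 0, 17), (12, 0, 0)), ((0, 12, 0), (0, 0, 17), (1, 0, 0)), ((10, 23, 23), (10, 22, 10), (23, 23, 10))),
  (((0, 1, 0), (0, 0, 17), (12, 0, 0)), ((0, 17, 0), (0, 0, 1), (12, 0, 0)), ((10, 10, 22), (10, 23, 23), (23, 10, 23))),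
  (((0, 1, 0), (0, 0, 17), (12, 0, 0)), ((1, 0, 0), (0, 17, 0), (0, 0, 12)), ((23, 23, 23), (23, 22, 10), (22, 23, 10))),
  (((0, 1, 0), (0, 0, 17), (12, 0, 0)), ((12, 0, 0), (0, 1, 0), (0, 0, 17)), ((23, 10, 22), (23, 23, 23), (22, 10, 23))),
  (((0, 1, 0), (0, 0, 17), (12, 0, 0)), ((17, 0, 0), (0, 12, 0), (0, 0, 1)), ((23, 22, 10), (23, 10, 22), (22, 22, 22))),
  (((0, 12, 0), (0, 0, 1), (17, 0, 0)), ((0, 0, 1), (1, 0, 0), (0, 1, 0)), ((22, 23, 23), (23, 23, 22), (23, 22, 23))),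
  (((0, 12, 0), (0, 0, 1), (17, 0, 0)), ((0, 0, 12), (12, 0, 0), (0, 12, 0)), ((22, 10, 22), (23, 10, 10), (23, 23, 22))),
  (((0, 12, 0), (0, 0, 1), (17, 0, 0)), ((0, 0, 17), (17, 0, 0), (0, 17, 0)), ((22, 22, 10), (23, 22, 23), (23, 10, 10))),
  (((0, 12, 0), (0, 0, 1), (17, 0, 0)), ((0, 1, 0), (0, 0, 12), (17, 0, 0)), ((10, 10, 22), (22, 10, 10), (22, 23, 22))),
  (((0, 12, 0), (0, 0, 1), (17, 0, 0)), ((0, 12, 0), (0, 0, 17), (1, 0, 0)), ((10, 22, 10), (22, 22, 23), (22, 10, 10))),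
  (((0, 12, 0), (0, 0, 1), (17, 0, 0)), ((0, 17, 0), (0, 0, 1), (12, 0, 0)), ((10, 23, 23), (22, 23, 22), (22, 22, 23))),
  (((0, 12, 0), (0, 0, 1), (17, 0, 0)), ((1, 0, 0), (0, 17, 0), (0, 0, 12)), ((23, 23, 23), (10, 23, 22), (10, 22, 23))),
  (((0, 12, 0), (0, 0, 1), (17, 0, 0)), ((12, 0, 0), (0, 1, 0), (0, 0, 17)), ((23, 10, 22), (10, 10, 10), (10, 23, 22))),
  (((0, 12, 0), (0, 0, 1), (17, 0, 0)), ((17, 0, 0), (0, 12, 0), (0, 0, 1)), ((23, 22, 10), (10, 22, 23), (10, 10, 10))),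
  (((0, 12, 0), (0, 0, 12), (12, 0, 0)), ((0, 0, 1), (17, 0, 0), (0, 12, 0)), ((23, 23, 22), (10, 23, 10), (22, 23, 23))),
  (((0, 12, 0), (0, 0, 12), (12, 0, 0)), ((0, 0, 12), (1, 0, 0), (0, 17, 0)), ((23, 10, 10), (10, 10, 23), (22, 10, 22))),
  (((0, 12, 0), (0, 0, 12), (12, 0, 0)), ((0, 0, 17), (12, 0, 0), (0, 1, 0)), ((23, 22, 23), (10, 22, 22), (22, 22, 10))),
  (((0, 12, 0), (0, 0, 12), (12, 0, 0)), ((0, 1, 0), (0, 0, 17), (12, 0, 0)), ((22, 22, 23), (23, 22, 22), (10, 22, 10))),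
  (((0, 12, 0), (0, 0, 12), (12, 0, 0)), ((0, 12, 0), (0, 0, 1), (17, 0, 0)), ((22, 23, 22), (23, 23, 10), (10, 23, 23))),
  (((0, 12, 0), (0, 0, 12), (12, 0, 0)), ((0, 17, 0), (0, 0, 12), (1, 0, 0)), ((22, 10, 10), (23, 10, 23), (10, 10, 22))),
  (((0, 12, 0), (0, 0, 12), (12, 0, 0)), ((1, 0, 0), (0, 17, 0), (0, 0, 12)), ((10, 10, 10), (22, 10, 23), (23, 10, 22))),
  (((0, 12, 0), (0, 0, 12), (12, 0, 0)), ((12, 0, 0), (0, 1, 0), (0, 0, 17)), ((10, 22, 23), (22, 22, 22), (23, 22, 10))),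
  (((0, 12, 0), (0, 0, 12), (12, 0, 0)), ((17, 0, 0), (0, 12, 0), (0, 0, 1)), ((10, 23, 22), (22, 23, 10), (23, 23, 23))),
  (((0, 12, 0), (0, 0, 17), (1, 0, 0)), ((0, 0, 1), (12, 0, 0), (0, 17, 0)), ((10, 23, 10), (22, 23, 23), (10, 10, 23))),
  (((0, 12, 0), (0, 0, 17), (1, 0, 0)), ((0, 0, 12), (17, 0, 0), (0, 1, 0)), ((10, 10, 23), (22, 10, 22), (10, 22, 22))),
  (((0, 12, 0), (0, 0, 17), (1, 0, 0)), ((0, 0, 17), (1, 0, 0), (0, 12, 0)), ((10, 22, 22), (22, 22, 10), (10, 23, 10))),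
  (((0, 12, 0), (0, 0, 17), (1, 0, 0)), ((0, 1, 0), (0, 0, 1), (1, 0, 0)), ((23, 23, 10), (10, 23, 23), (23, 10, 23))),
  (((0, 12, 0), (0, 0, 17), (1, 0, 0)), ((0, 12, 0), (0, 0, 12), (12, 0, 0)), ((23, 10, 23), (10, 10, 22), (23, 22, 22))),
  (((0, 12, 0), (0, 0, 17), (1, 0, 0)), ((0, 17, 0), (0, 0, 17), (17, 0, 0)), ((23, 22, 22), (10, 22, 10), (23, 23, 10))),
  (((0, 12, 0), (0, 0, 17), (1, 0, 0)), ((1, 0, 0), (0, 17, 0), (0, 0, 12)), ((22, 22, 22), (23, 22, 10), (22, 23, 10))),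
  (((0, 12, 0), (0, 0, 17), (1, 0, 0)), ((12, 0, 0), (0, 1, 0), (0, 0, 17)), ((22, 23, 10), (23, 23, 23), (22, 10, 23))),
  (((0, 12, 0), (0, 0, 17), (1, 0, 0)), ((17, 0, 0), (0, 12, 0), (0, 0, 1)), ((22, 10, 23), (23, 10, 22), (22, 22, 22))),
  (((0, 17, 0), (0, 0, 1), (12, 0, 0)), ((0, 0, 1), (12, 0, 0), (0, 17, 0)), ((10, 10, 23), (23, 22, 23), (23, 10, 10))),
  (((0, 17, 0), (0, 0, 1), (12, 0, 0)), ((0, 0, 12), (17, 0, 0), (0, 1, 0)), ((10, 22, 22), (23, 23, 22), (23, 22, 23))),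
  (((0, 17, 0), (0, 0, 1), (12, 0, 0)), ((0, 0, 17), (1, 0, 0), (0, 12, 0)), ((10, 23, 10), (23, 10, 10), (23, 23, 22))),
  (((0, 17, 0), (0, 0, 1), (12, 0, 0)), ((0, 1, 0), (0, 0, 1), (1, 0, 0)), ((23, 22, 22), (22, 23, 22), (22, 22, 23))),
  (((0, 17, 0), (0, 0, 1), (12, 0, 0)), ((0, 12, 0), (0, 0, 12), (12, 0, 0)), ((23, 23, 10), (22, 10, 10), (22, 23, 22))),
  (((0, 17, 0), (0, 0, 1), (12, 0, 0)), ((0, 17, 0), (0, 0, 17), (17, 0, 0)), ((23, 10, 23), (22, 22, 23), (22, 10, 10))),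
  (((0, 17, 0), (0, 0, 1), (12, 0, 0)), ((1, 0, 0), (0, 17, 0), (0, 0, 12)), ((22, 22, 22), (10, 23, 22), (10, 22, 23))),
  (((0, 17, 0), (0, 0, 1), (12, 0, 0)), ((12, 0, 0), (0, 1, 0), (0, 0, 17)), ((22, 23, 10), (10, 10, 10), (10, 23, 22))),
  (((0, 17, 0), (0, 0, 1), (12, 0, 0)), ((17, 0, 0), (0, 12, 0), (0, 0, 1)), ((22, 10, 23), (10, 22, 23), (10, 10, 10))),
  (((0, 17, 0), (0, 0, 12), (1, 0, 0)), ((0, 0, 1), (1, 0, 0), (0, 1, 0)), ((22, 10, 22), (10, 22, 22), (22, 22, 10))),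
  (((0, 17, 0), (0, 0, 12), (1, 0, 0)), ((0, 0, 12), (12, 0, 0), (0, 12, 0)), ((22, 22, 10), (10, 23, 10), (22, 23, 23))),
  (((0, 17, 0), (0, 0, 12), (1, 0, 0)), ((0, 0, 17), (17, 0, 0), (0, 17, 0)), ((22, 23, 23), (10, 10, 23), (22, 10, 22))),
  (((0, 17, 0), (0, 0, 12), (1, 0, 0)), ((0, 1, 0), (0, 0, 12), (17, 0, 0)), ((10, 23, 23), (23, 10, 23), (10, 10, 22))),
  (((0, 17, 0), (0, 0, 12), (1, 0, 0)), ((0, 12, 0), (0, 0, 17), (1, 0, 0)), ((10, 10, 22), (23, 22, 22), (10, 22, 10))),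
  (((0, 17, 0), (0, 0, 12), (1, 0, 0)), ((0, 17, 0), (0, 0, 1), (12, 0, 0)), ((10, 22, 10), (23, 23, 10), (10, 23, 23))),
  (((0, 17, 0), (0, 0, 12), (1, 0, 0)), ((1, 0, 0), (0, 17, 0), (0, 0, 12)), ((23, 23, 23), (22, 10, 23), (23, 10, 22))),
  (((0, 17, 0), (0, 0, 12), (1, 0, 0)), ((12, 0, 0), (0, 1, 0), (0, 0, 17)), ((23, 10, 22), (22, 22, 22), (23, 22, 10))),
  (((0, 17, 0), (0, 0, 12), (1, 0, 0)), ((17, 0, 0), (0, 12, 0), (0, 0, 1)), ((23, 22, 10), (22, 23, 10), (23, 23, 23))),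
  (((0, 17, 0), (0, 0, 17), (17, 0, 0)), ((0, 0, 1), (17, 0, 0), (0, 12, 0)), ((23, 10, 10), (22, 22, 10), (10, 23, 10))),
  (((0, 17, 0), (0, 0, 17), (17, 0, 0)), ((0, 0, 12), (1, 0, 0), (0, 17, 0)), ((23, 22, 23), (22, 23, 23), (10, 10, 23))),
  (((0, 17, 0), (0, 0, 17), (17, 0, 0)), ((0, 0, 17), (12, 0, 0), (0, 1, 0)), ((23, 23, 22), (22, 10, 22), (10, 22, 22))),
  (((0, 17, 0), (0, 0, 17), (17, 0, 0)), ((0, 1, 0), (0, 0, 17), (12, 0, 0)), ((22, 10, 10), (10, 22, 10), (23, 23, 10))),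
  (((0, 17, 0), (0, 0, 17), (17, 0, 0)), ((0, 12, 0), (0, 0, 1), (17, 0, 0)), ((22, 22, 23), (10, 23, 23), (23, 10, 23))),
  (((0, 17, 0), (0, 0, 17), (17, 0, 0)), ((0, 17, 0), (0, 0, 12), (1, 0, 0)), ((22, 23, 22), (10, 10, 22), (23, 22, 22))),
  (((0, 17, 0), (0, 0, 17), (17, 0, 0)), ((1, 0, 0), (0, 17, 0), (0, 0, 12)), ((10, 10, 10), (23, 22, 10), (22, 23, 10))),
  (((0, 17, 0), (0, 0, 17), (17, 0, 0)), ((12, 0, 0), (0, 1, 0), (0, 0, 17)), ((10, 22, 23), (23, 23, 23), (22, 10, 23))),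
  (((0, 17, 0), (0, 0, 17), (17, 0, 0)), ((17, 0, 0), (0, 12, 0), (0, 0, 1)), ((10, 23, 22), (23, 10, 22), (22, 22, 22))),
  (((1, 0, 0), (0, 12, 0), (0, 0, 17)), ((0, 1, 0), (0, 0, 1), (1, 0, 0)), ((1, 0, 0), (0, 1, 0), (0, 0, 1))),
  (((1, 0, 0), (0, 12, 0), (0, 0, 17)), ((0, 1, 0), (0, 0, 12), (17, 0, 0)), ((17, 0, 0), (0, 17, 0), (0, 0, 12))),
  (((1, 0, 0), (0, 12, 0), (0, 0, 17)), ((0, 1, 0), (0, 0, 17), (12, 0, 0)), ((12, 0, 0), (0, 12, 0), (0, 0, 17))),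
  (((1, 0, 0), (0, 12, 0), (0, 0, 17)), ((0, 12, 0), (0, 0, 1), (17, 0, 0)), ((12, 0, 0), (0, 1, 0), (0, 0, 1))),
  (((1, 0, 0), (0, 12, 0), (0, 0, 17)), ((0, 12, 0), (0, 0, 12), (12, 0, 0)), ((1, 0, 0), (0, 17, 0), (0, 0, 12))),
  (((1, 0, 0), (0, 12, 0), (0, 0, 17)), ((0, 12, 0), (0, 0, 17), (1, 0, 0)), ((17, 0, 0), (0, 12, 0), (0, 0, 17))),
  (((1, 0, 0), (0, 12, 0), (0, 0, 17)), ((0, 17, 0), (0, 0, 1), (12, 0, 0)), ((17, 0, 0), (0, 1, 0), (0, 0, 1))),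
  (((1, 0, 0), (0, 12, 0), (0, 0, 17)), ((0, 17, 0), (0, 0, 12), (1, 0, 0)), ((12, 0, 0), (0, 17, 0), (0, 0, 12))),
  (((1, 0, 0), (0, 12, 0), (0, 0, 17)), ((0, 17, 0), (0, 0, 17), (17, 0, 0)), ((1, 0, 0), (0, 12, 0), (0, 0, 17))),
  (((1, 0, 0), (0, 17, 0), (0, 0, 12)), ((0, 0, 1), (1, 0, 0), (0, 1, 0)), ((4, 0, 0), (0, 0, 4), (0, 4, 0))),
  (((1, 0, 0), (0, 17, 0), (0, 0, 12)), ((0, 0, 1), (12, 0, 0), (0, 17, 0)), ((18, 0, 0), (0, 0, 13), (0, 18, 0))),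
  (((1, 0, 0), (0, 17, 0), (0, 0, 12)), ((0, 0, 1), (17, 0, 0), (0, 12, 0)), ((13, 0, 0), (0, 0, 18), (0, 13, 0))),
  (((1, 0, 0), (0, 17, 0), (0, 0, 12)), ((0, 0, 12), (1, 0, 0), (0, 17, 0)), ((13, 0, 0), (0, 0, 13), (0, 18, 0))),
  (((1, 0, 0), (0, 17, 0), (0, 0, 12)), ((0, 0, 12), (12, 0, 0), (0, 12, 0)), ((4, 0, 0), (0, 0, 18), (0, 13, 0))),
  (((1, 0, 0), (0, 17, 0), (0, 0, 12)), ((0, 0, 12), (17, 0, 0), (0, 1, 0)), ((18, 0, 0), (0, 0, 4), (0, 4, 0))),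
  (((1, 0, 0), (0, 17, 0), (0, 0, 12)), ((0, 0, 17), (1, 0, 0), (0, 12, 0)), ((18, 0, 0), (0, 0, 18), (0, 13, 0))),
  (((1, 0, 0), (0, 17, 0), (0, 0, 12)), ((0, 0, 17), (12, 0, 0), (0, 1, 0)), ((13, 0, 0), (0, 0, 4), (0, 4, 0))),
  (((1, 0, 0), (0, 17, 0), (0, 0, 12)), ((0, 0, 17), (17, 0, 0), (0, 17, 0)), ((4, 0, 0), (0, 0, 13), (0, 18, 0))),
  (((12, 0, 0), (0, 1, 0), (0, 0, 17)), ((0, 0, 1), (1, 0, 0), (0, 1, 0)), ((0, 4, 0), (4, 0, 0), (0, 0, 4))),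
  (((12, 0, 0), (0, 1, 0), (0, 0, 17)), ((0, 0, 1), (12, 0, 0), (0, 17, 0)), ((0, 18, 0), (13, 0, 0), (0, 0, 18))),
  (((12, 0, 0), (0, 1, 0), (0, 0, 17)), ((0, 0, 1), (17, 0, 0), (0, 12, 0)), ((0, 13, 0), (18, 0, 0), (0, 0, 13))),
  (((12, 0, 0), (0, 1, 0), (0, 0, 17)), ((0, 0, 12), (1, 0, 0), (0, 17, 0)), ((0, 13, 0), (13, 0, 0), (0, 0, 18))),
  (((12, 0, 0), (0, 1, 0), (0, 0, 17)), ((0, 0, 12), (12, 0, 0), (0, 12, 0)), ((0, 4, 0), (18, 0, 0), (0, 0, 13))),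
  (((12, 0, 0), (0, 1, 0), (0, 0, 17)), ((0, 0, 12), (17, 0, 0), (0, 1, 0)), ((0, 18, 0), (4, 0, 0), (0, 0, 4))),
  (((12, 0, 0), (0, 1, 0), (0, 0, 17)), ((0, 0, 17), (1, 0, 0), (0, 12, 0)), ((0, 18, 0), (18, 0, 0), (0, 0, 13))),
  (((12, 0, 0), (0, 1, 0), (0, 0, 17)), ((0, 0, 17), (12, 0, 0), (0, 1, 0)), ((0, 13, 0), (4, 0, 0), (0, 0, 4))),
  (((12, 0, 0), (0, 1, 0), (0, 0, 17)), ((0, 0, 17), (17, 0, 0), (0, 17, 0)), ((0, 4, 0), (13, 0, 0), (0, 0, 18))),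
  (((12, 0, 0), (0, 17, 0), (0, 0, 1)), ((0, 1, 0), (0, 0, 1), (1, 0, 0)), ((0, 1, 0), (0, 0, 1), (1, 0, 0))),
  (((12, 0, 0), (0, 17, 0), (0, 0, 1)), ((0, 1, 0), (0, 0, 12), (17, 0, 0)), ((0, 17, 0), (0, 0, 17), (12, 0, 0))),
  (((12, 0, 0), (0, 17, 0), (0, 0, 1)), ((0, 1, 0), (0, 0, 17), (12, 0, 0)), ((0, 12, 0), (0, 0, 12), (17, 0, 0))),
  (((12, 0, 0), (0, 17, 0), (0, 0, 1)), ((0, 12, 0), (0, 0, 1), (17, 0, 0)), ((0, 12, 0), (0, 0, 1), (1, 0, 0))),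
  (((12, 0, 0), (0, 17, 0), (0, 0, 1)), ((0, 12, 0), (0, 0, 12), (12, 0, 0)), ((0, 1, 0), (0, 0, 17), (12, 0, 0))),
  (((12, 0, 0), (0, 17, 0), (0, 0, 1)), ((0, 12, 0), (0, 0, 17), (1, 0, 0)), ((0, 17, 0), (0, 0, 12), (17, 0, 0))),
  (((12, 0, 0), (0, 17, 0), (0, 0, 1)), ((0, 17, 0), (0, 0, 1), (12, 0, 0)), ((0, 17, 0), (0, 0, 1), (1, 0, 0))),
  (((12, 0, 0), (0, 17, 0), (0, 0, 1)), ((0, 17, 0), (0, 0, 12), (1, 0, 0)), ((0, 12, 0), (0, 0, 17), (12, 0, 0))),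
  (((12, 0, 0), (0, 17, 0), (0, 0, 1)), ((0, 17, 0), (0, 0, 17), (17, 0, 0)), ((0, 1, 0), (0, 0, 12), (17, 0, 0))),
  (((17, 0, 0), (0, 1, 0), (0, 0, 12)), ((0, 1, 0), (0, 0, 1), (1, 0, 0)), ((0, 0, 1), (1, 0, 0), (0, 1, 0))),
  (((17, 0, 0), (0, 1, 0), (0, 0, 12)), ((0, 1, 0), (0, 0, 12), (17, 0, 0)), ((0, 0, 17), (17, 0, 0), (0, 12, 0))),
  (((17, 0, 0), (0, 1, 0), (0, 0, 12)), ((0, 1, 0), (0, 0, 17), (12, 0, 0)), ((0, 0, 12), (12, 0, 0), (0, 17, 0))),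
  (((17, 0, 0), (0, 1, 0), (0, 0, 12)), ((0, 12, 0), (0, 0, 1), (17, 0, 0)), ((0, 0, 12), (1, 0, 0), (0, 1, 0))),
  (((17, 0, 0), (0, 1, 0), (0, 0, 12)), ((0, 12, 0), (0, 0, 12), (12, 0, 0)), ((0, 0, 1), (17, 0, 0), (0, 12, 0))),
  (((17, 0, 0), (0, 1, 0), (0, 0, 12)), ((0, 12, 0), (0, 0, 17), (1, 0, 0)), ((0, 0, 17), (12, 0, 0), (0, 17, 0))),
  (((17, 0, 0), (0, 1, 0), (0, 0, 12)), ((0, 17, 0), (0, 0, 1), (12, 0, 0)), ((0, 0, 17), (1, 0, 0), (0, 1, 0))),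
  (((17, 0, 0), (0, 1, 0), (0, 0, 12)), ((0, 17, 0), (0, 0, 12), (1, 0, 0)), ((0, 0, 12), (17, 0, 0), (0, 12, 0))),
  (((17, 0, 0), (0, 1, 0), (0, 0, 12)), ((0, 17, 0), (0, 0, 17), (17, 0, 0)), ((0, 0, 1), (12, 0, 0), (0, 17, 0))),
  (((17, 0, 0), (0, 12, 0), (0, 0, 1)), ((0, 0, 1), (1, 0, 0), (0, 1, 0)), ((0, 0, 4), (0, 4, 0), (4, 0, 0))),
  (((17, 0, 0), (0, 12, 0), (0, 0, 1)), ((0, 0, 1), (12, 0, 0), (0, 17, 0)), ((0, 0, 18), (0, 13, 0), (18, 0, 0))),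
  (((17, 0, 0), (0, 12, 0), (0, 0, 1)), ((0, 0, 1), (17, 0, 0), (0, 12, 0)), ((0, 0, 13), (0, 18, 0), (13, 0, 0))),
  (((17, 0, 0), (0, 12, 0), (0, 0, 1)), ((0, 0, 12), (1, 0, 0), (0, 17, 0)), ((0, 0, 13), (0, 13, 0), (18, 0, 0))),
  (((17, 0, 0), (0, 12, 0), (0, 0, 1)), ((0, 0, 12), (12, 0, 0), (0, 12, 0)), ((0, 0, 4), (0, 18, 0), (13, 0, 0))),
  (((17, 0, 0), (0, 12, 0), (0, 0, 1)), ((0, 0, 12), (17, 0, 0), (0, 1, 0)), ((0, 0, 18), (0, 4, 0), (4, 0, 0))),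
  (((17, 0, 0), (0, 12, 0), (0, 0, 1)), ((0, 0, 17), (1, 0, 0), (0, 12, 0)), ((0, 0, 18), (0, 18, 0), (13, 0, 0))),
  (((17, 0, 0), (0, 12, 0), (0, 0, 1)), ((0, 0, 17), (12, 0, 0), (0, 1, 0)), ((0, 0, 13), (0, 4, 0), (4, 0, 0))),
  (((17, 0, 0), (0, 12, 0), (0, 0, 1)), ((0, 0, 17), (17, 0, 0), (0, 17, 0)), ((0, 0, 4), (0, 13, 0), (18, 0, 0)))]

theorem nonzero0 : nonzero 3 s0 = true := by
  decide +kernel

theorem moved0 : (isSU 3 d0 && moves 3 s0 d0) = true := by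
  decide +kernel

theorem nonzero1 : nonzero 5 s1 = true := by
  decide +kernel

theorem moved1 : (isSU 5 d1 && moves 5 s1 d1) = true := by
  decide +kernel

theorem nonzero2 : nonzero 5 s2 = true := by
  decide +kernel

theorem moved2 : (isSU 5 d2 && moves 5 s2 d2) = true := by
  decide +kernel

theorem nonzero3 : nonzero 5 s3 = true := by
  decide +kernel

theorem moved3 : (isSU 5 d3 && moves 5 s3 d3) = true := by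
  decide +kernel

theorem diag5 : diagAll 5 s1 = true := by
  decide +kernel

theorem perm5 : permAll 5 s1 = true := by
  decide +kernel

theorem frame5_wit : (isSU 5 c1 && stable 5 s1 c1) = true := by
  decide +kernel

theorem frame5_not : (List.range 3).any (fun j => let v := mv 5 c1 (ev j 1); (cn 5 v.1 != 0 && cn 5 v.2.1 != 0) || (cn 5 v.1 != 0 && cn 5 v.2.2 != 0) || (cn 5 v.2.1 != 0 && cn 5 v.2.2 != 0)) = true := by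
  decide +kernel

theorem orth5_0 : orthAll 5 s2 0 = true := by
  decide +kernel

theorem orth5_1 : orthAll 5 s2 1 = true := by
  decide +kernel

theorem orth5_2 : orthAll 5 s2 2 = true := by
  decide +kernel

theorem orth5_3 : orthAll 5 s2 3 = true := by
  decide +kernel

theorem orth5_4 : orthAll 5 s2 4 = true := by
  decide +kernel

theorem orth5_wit : (isSU 5 c2 && stable 5 s2 c2) = true := by
  decide +kernel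

theorem orth5_not : [c2.1.1, c2.1.2.1, c2.1.2.2, c2.2.1.1, c2.2.1.2.1, c2.2.1.2.2, c2.2.2.1, c2.2.2.2.1, c2.2.2.2.2].any (fun x => [c2.1.1, c2.1.2.1, c2.1.2.2, c2.2.1.1, c2.2.1.2.1, c2.2.1.2.2, c2.2.2.1, c2.2.2.2.1, c2.2.2.2.2].any fun y => cn 5 (ml 5 x (cj 5 y)) / 5 != 0) = true := by
  decide +kernel

theorem cen3_0 : cenAll 3 s0 x3 bi3 0 = true := by
  decide +kernel

theorem cen3_1 : cenAll 3 s0 x3 bi3 1 = true := by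
  decide +kernel

theorem cen3_2 : cenAll 3 s0 x3 bi3 2 = true := by
  decide +kernel

theorem bi3_eq : (isSU 3 x3 && eqM 3 (mm 3 (kry 3 x3 (1, 0, 0)) bi3) one3 && eqM 3 (pw 3 x3 7) one3 && !eqM 3 x3 one3 && stable 3 s0 x3) = true := by
  decide +kernel

theorem trace3 : (List.range 7).all (fun j => (j == 1 || j == 2 || j == 4) || cn 3 (traceA 3 (pw 3 x3 j)) != cn 3 (traceA 3 x3)) = true := by
  decide +kernel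

theorem ys3_ok : ([1, 2, 4].all fun j => ys3.any fun e => e.1 == j && (isSU 3 e.2 && stable 3 s0 e.2 && eqM 3 (mm 3 e.2 x3) (mm 3 (pw 3 x3 j) e.2))) = true := by
  decide +kernel

theorem field3_wit : (isSU 3 cf3 && stable 3 s0 cf3 && (List.range 7).all fun j => !eqM 3 (mm 3 cf3 x3) (mm 3 (pw 3 x3 j) cf3)) = true := by
  decide +kernel

theorem cen5_0 : cenAll 5 s1 x5 bi5 0 = true := by
  decide +kernel

theorem cen5_1 : cenAll 5 s1 x5 bi5 1 = true := by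
  decide +kernel

theorem cen5_2 : cenAll 5 s1 x5 bi5 2 = true := by
  decide +kernel

theorem cen5_3 : cenAll 5 s1 x5 bi5 3 = true := by
  decide +kernel

theorem cen5_4 : cenAll 5 s1 x5 bi5 4 = true := by
  decide +kernel

theorem bi5_eq : (isSU 5 x5 && eqM 5 (mm 5 (kry 5 x5 (1, 0, 0)) bi5) one3 && eqM 5 (pw 5 x5 7) one3 && !eqM 5 x5 one3 && stable 5 s1 x5) = true := by
  decide +kernel

theorem trace5 : (List.range 7).all (fun j => (j == 1 || j == 2 || j == 4) || cn 5 (traceA 5 (pw 5 x5 j)) != cn 5 (traceA 5 x5)) = true := by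
  decide +kernel

theorem ys5_ok : ([1, 2, 4].all fun j => ys5.any fun e => e.1 == j && (isSU 5 e.2 && stable 5 s1 e.2 && eqM 5 (mm 5 e.2 x5) (mm 5 (pw 5 x5 j) e.2))) = true := by
  decide +kernel

theorem field5_wit : (isSU 5 cf5 && stable 5 s1 cf5 && (List.range 7).all fun j => !eqM 5 (mm 5 cf5 x5) (mm 5 (pw 5 x5 j) cf5)) = true := by
  decide +kernel

theorem r5_closed : (r5.all fun A => isSU 5 A && r5.any fun B => eqM 5 (mm 5 A B) one3) = true := by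
  decide +kernel

theorem r5_mul : (r5.all fun A => r5.all fun B => r5.any fun C => eqM 5 (mm 5 A B) C) = true := by
  decide +kernel

theorem r5_one : (r5.any (fun A => eqM 5 A one3) && r5.any (fun A => eqM 5 A rd) && r5.any (fun A => eqM 5 A rc)) = true := by
  decide +kernel

theorem r5_nodup : (r5.map (mapM (cn 5))).Nodup := by
  decide +kernel

theorem rd_rc : (eqM 5 rd ((1, 0, 0), (0, om5, 0), (0, 0, ml 5 om5 om5)) && eqM 5 rc ((0, 1, 0), (0, 0, 1), (1, 0, 0)) && eqM 5 (mm 5 rd rc) (smulM 5 w5 (mm 5 rc rd)) && cn 5 om5 != cn 5 1 && cn 5 (ml 5 om5 om5) != cn 5 1 && cn 5 (ml 5 om5 om5) != cn 5 om5) = true := by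
  decide +kernel

theorem tab_ok : (tab.all fun e => isU 5 e.2.2 && eqM 5 (mm 5 e.2.2 rd) (mm 5 e.1 e.2.2) && eqM 5 (mm 5 e.2.2 rc) (mm 5 e.2.1 e.2.2) && (cn 5 (ml 5 (detM 5 e.2.2) (detM 5 e.2.2)) != cn 5 1 || stable 5 s3 e.2.2)) = true := by
  decide +kernel

theorem tab_cover : (r5.all fun X => r5.all fun C => !eqM 5 (mm 5 X C) (smulM 5 w5 (mm 5 C X)) || tab.any fun e => eqM 5 e.1 X && eqM 5 e.2.1 C) = true := by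
  decide +kernel

theorem r5_wit : (isSU 5 c3 && stable 5 s3 c3 && r5.all fun X => !eqM 5 (mm 5 c3 rc) (mm 5 X c3)) = true := by
  decide +kernel

end Cfsg.Agent.OrthUnitarySUThreeData
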