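import Mathlib
import Cfsg.Agent.S2581
import Cfsg.Agent.Lib.HermitianFactor

/-!
The diagonal blocks of the commutant of a unipotent Jordan matrix, and the hermitian forms that an invariant
hermitian form induces on the multiplicity spaces.
-/

set_option autoImplicit false

namespace Cfsg.Agent.OrthUnitaryUnipotent

open Matrix Cfsg.Agent.JordanType Cfsg.Agent.S2581 Cfsg.Agent.HermitianFactor

variable {K : Type*} [Field K] [Fintype K] {t : ℕ} {d : Fin t → ℕ}

/-- the commutant of the Jordan matrix -/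
def comm (d : Fin t → ℕ) (K : Type*) [Field K] : Subalgebra K (Matrix (Ix d) (Ix d) K) :=
  Subalgebra.centralizer K {sh d K 1}

theorem mem_comm {Y : Matrix (Ix d) (Ix d) K} : Y ∈ comm d K ↔ Y * sh d K 1 = sh d K 1 * Y := by
  simp [comm, Subalgebra.mem_centralizer_iff, eq_comm]

/-- the block of the sizes `j` -/
noncomputable def bl (hd : ∀ k, 1 ≤ d k) (Y : Matrix (Ix d) (Ix d) K) (j : ℕ) :
    Matrix (Fin (cnt d j)) (Fin (cnt d j)) K :=
  Matrix.of fun x y => Y ⟨(fe d j x).1, ⟨0, hd _⟩⟩ ⟨(fe d j y).1, ⟨0, hd _⟩⟩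

theorem bl_mkX (hd : ∀ k, 1 ≤ d k) (w : Ix d → Fin t → K) (j : ℕ) : bl hd (mkX w) j = blockT hd w j := by
  ext x y
  simp [bl, blockT, mkX]

theorem apply_eq_zero_of_lt (hd : ∀ k, 1 ≤ d k) {Y : Matrix (Ix d) (Ix d) K} (hY : Y ∈ comm d K) (p : Ix d)
    (a : Fin t) (h : (p.2 : ℕ) + d a < d p.1) : Y p ⟨a, ⟨0, hd a⟩⟩ = 0 := by
  obtain ⟨w, rfl⟩ := exists_mkX hd Y (mem_comm.1 hY)
  simpa [mkX] using w.2 p a h

theorem apply_top (hd : ∀ k, 1 ≤ d k) {Y : Matrix (Ix d) (Ix d) K} (hY : Y ∈ comm d K) (p q : Ix d) :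
    Y p q = if (q.2 : ℕ) ≤ p.2 then Y ⟨p.1, ⟨p.2 - q.2, lt_of_le_of_lt (Nat.sub_le _ _) p.2.2⟩⟩ ⟨q.1, ⟨0, hd q.1⟩⟩
      else 0 := by
  obtain ⟨w, rfl⟩ := exists_mkX hd Y (mem_comm.1 hY)
  simp [mkX]

theorem apply_first_row (hd : ∀ k, 1 ≤ d k) {Y : Matrix (Ix d) (Ix d) K} (hY : Y ∈ comm d K) (b : Fin t)
    (q : Ix d) (h : 0 < (q.2 : ℕ)) : Y ⟨b, ⟨0, hd b⟩⟩ q = 0 := by
  rw [apply_top hd hY, if_neg (by simp only; omega)]

theorem sigma_eq {a b : Fin t} (h : a = b) (i : Fin (d a)) (k : Fin (d b)) (hik : (i : ℕ) = k) :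
    (⟨a, i⟩ : Ix d) = ⟨b, k⟩ := by
  subst h; rw [Fin.ext hik]

theorem bl_one (hd : ∀ k, 1 ≤ d k) (j : ℕ) : bl hd (1 : Matrix (Ix d) (Ix d) K) j = 1 := by
  ext x y
  by_cases h : x = y
  · subst h; simp [bl]
  · have h' : (fe d j x).1 ≠ (fe d j y).1 := fun he => h ((fe d j).injective (Subtype.ext he))
    simp [bl, h, h']

theorem bl_add (hd : ∀ k, 1 ≤ d k) (Y Z : Matrix (Ix d) (Ix d) K) (j : ℕ) :
    bl hd (Y + Z) j = bl hd Y j + bl hd Z j := rfl

theorem bl_sub (hd : ∀ k, 1 ≤ d k) (Y Z : Matrix (Ix d) (Ix d) K) (j : ℕ) :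
    bl hd (Y - Z) j = bl hd Y j - bl hd Z j := rfl

theorem bl_smul (hd : ∀ k, 1 ≤ d k) (c : K) (Y : Matrix (Ix d) (Ix d) K) (j : ℕ) :
    bl hd (c • Y) j = c • bl hd Y j := rfl

theorem bl_zero (hd : ∀ k, 1 ≤ d k) (j : ℕ) : bl hd (0 : Matrix (Ix d) (Ix d) K) j = 0 := rfl

theorem bl_mul (hd : ∀ k, 1 ≤ d k) {Y Z : Matrix (Ix d) (Ix d) K} (hY : Y ∈ comm d K) (hZ : Z ∈ comm d K) (j : ℕ) :
    bl hd (Y * Z) j = bl hd Y j * bl hd Z j := by
  ext x y
  have hinj : Function.Injective fun z : Fin (cnt d j) => (⟨(fe d j z).1, ⟨0, hd _⟩⟩ : Ix d) := by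
    intro z z' h
    exact (fe d j).injective (Subtype.ext (congrArg Sigma.fst h))
  simp only [bl, Matrix.of_apply, Matrix.mul_apply]
  refine (Fintype.sum_of_injective _ hinj _ _ ?_ fun z => rfl).symm
  rintro ⟨c, i⟩ hr
  by_cases hi : (i : ℕ) = 0
  · have hi' : i = ⟨0, hd c⟩ := Fin.ext hi
    subst hi'
    have hc : d c ≠ j := fun hc => hr ⟨(fe d j).symm ⟨c, hc⟩, sigma_eq (by rw [Equiv.apply_symm_apply]) _ _ rfl⟩
    rcases lt_or_gt_of_ne hc with hlt | hlt
    · rw [apply_eq_zero_of_lt hd hY _ c (by simp only; rw [(fe d j x).2]; omega), zero_mul]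
    · rw [apply_eq_zero_of_lt hd hZ ⟨c, ⟨0, hd c⟩⟩ _ (by simp only; rw [(fe d j y).2]; omega), mul_zero]
  · rw [apply_first_row hd hY _ ⟨c, i⟩ (by simp only; omega), zero_mul]

theorem isUnit_of_bl (hd : ∀ k, 1 ≤ d k) {Y : Matrix (Ix d) (Ix d) K} (hY : Y ∈ comm d K)
    (h : ∀ j, IsUnit (bl hd Y j)) : IsUnit Y := by
  obtain ⟨w, rfl⟩ := exists_mkX hd Y (mem_comm.1 hY)
  rw [mkX_injective_iff hd w, socMap_injective_iff hd w]
  exact fun j => bl_mkX hd w.1 j ▸ h j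

/-- entries of a form, extended by zero -/
def gE (G : Matrix (Ix d) (Ix d) K) (c : Fin t) (l : ℕ) (a : Fin t) (m : ℕ) : K :=
  if h : l < d c ∧ m < d a then G ⟨c, ⟨l, h.1⟩⟩ ⟨a, ⟨m, h.2⟩⟩ else 0

theorem gE_apply (G : Matrix (Ix d) (Ix d) K) (p q : Ix d) : gE G p.1 p.2 q.1 q.2 = G p q := by
  simp [gE]

theorem ct_sh (σ : K →+* K) (k : ℕ) : ct σ (sh d K k) = (sh d K k)ᵀ := by
  ext p q
  simp only [ct, sh, Matrix.transpose_apply, Matrix.map_apply, Matrix.of_apply]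
  split_ifs <;> simp

variable {σ : K →+* K} {G : Matrix (Ix d) (Ix d) K}

theorem gE_rec (hJ : ct σ (1 + sh d K 1) * G * (1 + sh d K 1) = G) {c a : Fin t} {l m : ℕ} (hl : l < d c)
    (hm : m < d a) : gE G c (l + 1) a m + gE G c l a (m + 1) + gE G c (l + 1) a (m + 1) = 0 := by
  have hR : ∀ X : Matrix (Ix d) (Ix d) K, ∀ p q, (X * sh d K 1) p q = gE X p.1 p.2 q.1 (q.2 + 1) := by
    intro X p q
    rw [mul_sh_apply]
    by_cases h : (q.2 : ℕ) + 1 < d q.1
    · rw [dif_pos h, gE, dif_pos ⟨p.2.2, h⟩]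
    · rw [dif_neg h, gE, dif_neg fun h' => h h'.2]
  have hL : ∀ X : Matrix (Ix d) (Ix d) K, ∀ p q, ((sh d K 1)ᵀ * X) p q = gE X p.1 (p.2 + 1) q.1 q.2 := by
    intro X p q
    rw [← Matrix.transpose_transpose X, ← Matrix.transpose_mul, Matrix.transpose_apply, hR]
    simp only [gE, Matrix.transpose_apply, and_comm]
  rw [ct_add, ct_one, ct_sh] at hJ
  have h0 : (sh d K 1)ᵀ * G + G * sh d K 1 + (sh d K 1)ᵀ * (G * sh d K 1) = 0 := by
    have : (1 + (sh d K 1)ᵀ) * G * (1 + sh d K 1) - G = 0 := sub_eq_zero.2 hJ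
    rw [← this]; noncomm_ring
  have := congrFun (congrFun h0 ⟨c, ⟨l, hl⟩⟩) ⟨a, ⟨m, hm⟩⟩
  simp only [Matrix.add_apply, Matrix.zero_apply, hL, hR] at this
  rw [← this]
  congr 1
  conv_rhs => rw [gE]
  by_cases h : l + 1 < d c ∧ m < d a
  · rw [dif_pos h, hR]
  · rw [dif_neg h, gE, dif_neg]
    exact fun h' => h ⟨h'.1, hm⟩

theorem gE_eq_zero (hJ : ct σ (1 + sh d K 1) * G * (1 + sh d K 1) = G) (c a : Fin t) :
    ∀ l m, d a ≤ l + m → gE G c l a m = 0 := by
  intro l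
  induction l with
  | zero => intro m h; rw [gE, dif_neg]; omega
  | succ l ih =>
    suffices ∀ k m, d a - m ≤ k → d a ≤ l + 1 + m → gE G c (l + 1) a m = 0 from
      fun m h => this _ m le_rfl h
    intro k
    induction k with
    | zero => intro m hk h; rw [gE, dif_neg]; omega
    | succ k ihk =>
      intro m hk h
      by_cases hb : l < d c ∧ m < d a
      · have := gE_rec hJ hb.1 hb.2
        rwa [ih (m + 1) (by omega), ihk (m + 1) (by omega) (by omega), add_zero, add_zero] at this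
      · rw [gE, dif_neg]; omega

theorem gE_conj {ε : K} (hG : ct σ G = ε • G) (c a : Fin t) (l m : ℕ) : σ (gE G c l a m) = ε * gE G a m c l := by
  unfold gE
  by_cases h : l < d c ∧ m < d a
  · rw [dif_pos h, dif_pos h.symm]
    exact congrFun (congrFun hG ⟨a, ⟨m, h.2⟩⟩) ⟨c, ⟨l, h.1⟩⟩
  · rw [dif_neg h, dif_neg fun h' => h h'.symm, map_zero, mul_zero]

theorem gE_eq_zero' {ε : K} (hε : ε ≠ 0) (hJ : ct σ (1 + sh d K 1) * G * (1 + sh d K 1) = G) (hG : ct σ G = ε • G)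
    (c a : Fin t) (l m : ℕ) (h : d c ≤ l + m) : gE G c l a m = 0 := by
  have := gE_conj hG a c m l
  rw [gE_eq_zero hJ a c m l (by omega), map_zero] at this
  exact (mul_eq_zero.1 this.symm).resolve_left hε

theorem gE_shift (hJ : ct σ (1 + sh d K 1) * G * (1 + sh d K 1) = G) (c a : Fin t) :
    ∀ l m, l + m + 1 = d a → l < d c → gE G c l a m = (-1 : K) ^ l * gE G c 0 a (l + m) := by
  intro l
  induction l with
  | zero => intro m _ _; simp
  | succ l ih =>
    intro m h hl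
    have := gE_rec hJ (c := c) (a := a) (l := l) (m := m) (by omega) (by omega)
    rw [gE_eq_zero hJ c a (l + 1) (m + 1) (by omega), add_zero, ih (m + 1) (by omega) (by omega)] at this
    rw [show l + 1 + m = l + (m + 1) by omega, pow_succ]
    linear_combination this

/-- the induced form on the multiplicity space of the sizes `j` -/
noncomputable def blockH (G : Matrix (Ix d) (Ix d) K) (j : ℕ) : Matrix (Fin (cnt d j)) (Fin (cnt d j)) K :=
  Matrix.of fun x y => gE G (fe d j x).1 0 (fe d j y).1 (j - 1)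

theorem ct_blockH {ε : K} (hd : ∀ k, 1 ≤ d k) (hJ : ct σ (1 + sh d K 1) * G * (1 + sh d K 1) = G)
    (hG : ct σ G = ε • G) (j : ℕ) : ct σ (blockH G j) = (ε * (-1 : K) ^ (j - 1)) • blockH G j := by
  ext x y
  simp only [ct, blockH, Matrix.transpose_apply, Matrix.map_apply, Matrix.of_apply, Matrix.smul_apply, smul_eq_mul]
  rw [gE_conj hG]
  have hx := (fe d j x).2
  have hy := (fe d j y).2
  have := hd (fe d j x).1
  rw [gE_shift hJ _ _ (j - 1) 0 (by omega) (by omega), add_zero, mul_assoc]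

theorem isUnit_blockH {ε : K} (hε : ε ≠ 0) (hd : ∀ k, 1 ≤ d k) (hJ : ct σ (1 + sh d K 1) * G * (1 + sh d K 1) = G)
    (hG : ct σ G = ε • G) (hU : IsUnit G) (j : ℕ) : IsUnit (blockH G j) := by
  let w : W d K := ⟨fun p a => if (p.2 : ℕ) + d a = d p.1 then gE G p.1 0 a (d a - 1) else 0, fun p a h => if_neg (by omega)⟩
  have hb : ∀ i, blockT hd w.1 i = blockH G i := by
    intro i; ext x y
    simp only [blockT, blockH, Matrix.of_apply, w]
    rw [if_pos (by rw [(fe d i x).2, (fe d i y).2, zero_add]), (fe d i y).2]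
  rw [← hb]
  refine (socMap_injective_iff hd w).1 ?_ j
  have hval : ∀ z, G *ᵥ soc d z = fun p => if (p.2 : ℕ) = 0 then socMap d hd w.1 z p.1 else 0 := by
    intro z
    funext p
    obtain ⟨c, l⟩ := p
    simp only [Matrix.mulVec, dotProduct]
    rw [Fintype.sum_sigma]
    have hcol : ∀ a, ∑ i : Fin (d a), G ⟨c, l⟩ ⟨a, i⟩ * soc d z ⟨a, i⟩ = gE G c l a (d a - 1) * z a := by
      intro a
      have := hd a
      rw [Finset.sum_eq_single (⟨d a - 1, by omega⟩ : Fin (d a))]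
      · rw [soc, if_pos (by simp only; omega), gE, dif_pos ⟨l.2, by omega⟩]
      · intro i _ hi
        rw [soc, if_neg (fun h => hi (Fin.ext (by simp only at h ⊢; omega))), mul_zero]
      · simp
    rw [Finset.sum_congr rfl fun a _ => hcol a]
    by_cases hl : (l : ℕ) = 0
    · rw [if_pos hl, socMap]
      refine Finset.sum_congr rfl fun a _ => ?_
      have := hd a
      have := hd c
      by_cases hac : d a ≤ d c
      · rw [if_pos hac]
        simp only [w]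
        rw [if_pos (by omega), hl]
      · rw [if_neg hac, gE_eq_zero' hε hJ hG c a _ _ (by omega), zero_mul]
    · rw [if_neg hl]
      refine Finset.sum_eq_zero fun a _ => ?_
      have := hd a
      rw [gE_eq_zero hJ c a _ _ (by omega), zero_mul]
  intro z z' h
  have h2 : G *ᵥ soc d z = G *ᵥ soc d z' := by rw [hval, hval, h]
  have h3 := Matrix.mulVec_injective_iff_isUnit.2 hU h2
  funext a
  have := congrFun h3 ⟨a, ⟨d a - 1, by have := hd a; omega⟩⟩
  simpa [soc, Nat.sub_add_cancel (hd a)] using this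

theorem blockH_mul {ε : K} (hε : ε ≠ 0) (hd : ∀ k, 1 ≤ d k) (hJ : ct σ (1 + sh d K 1) * G * (1 + sh d K 1) = G)
    (hG : ct σ G = ε • G) {Z : Matrix (Ix d) (Ix d) K} (hZ : Z ∈ comm d K) (j : ℕ) :
    blockH (G * Z) j = blockH G j * bl hd Z j := by
  ext x y
  have hy := (fe d j y).2
  have hx := (fe d j x).2
  have hj : j - 1 < d (fe d j y).1 := by have := hd (fe d j y).1; omega
  let p : Ix d := ⟨(fe d j x).1, ⟨0, hd _⟩⟩
  let r : Ix d := ⟨(fe d j y).1, ⟨j - 1, hj⟩⟩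
  show gE (G * Z) _ _ _ _ = _
  rw [gE, dif_pos ⟨hd _, hj⟩]
  show (G * Z) p r = _
  rw [Matrix.mul_apply, Matrix.mul_apply]
  have hb : ∀ z : Fin (cnt d j), j - 1 < d (fe d j z).1 := fun z => by
    have := (fe d j z).2; have := hd (fe d j z).1; omega
  have hinj : Function.Injective fun z : Fin (cnt d j) => (⟨(fe d j z).1, ⟨j - 1, hb z⟩⟩ : Ix d) := by
    intro z z' h'
    exact (fe d j).injective (Subtype.ext (congrArg Sigma.fst h'))
  refine (Fintype.sum_of_injective _ hinj _ _ ?_ fun z => ?_).symm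
  · rintro ⟨c, i⟩ hr
    rw [apply_top hd hZ]
    simp only [r]
    by_cases hij : j - 1 ≤ (i : ℕ)
    · rw [if_pos hij]
      by_cases hi : (i : ℕ) = j - 1
      · have hc : d c ≠ j := fun hc => hr ⟨(fe d j).symm ⟨c, hc⟩,
          sigma_eq (by rw [Equiv.apply_symm_apply]) _ _ hi.symm⟩
        rw [apply_eq_zero_of_lt hd hZ _ _ (by have := i.2; simp only; omega), mul_zero]
      · rw [← gE_apply G, gE_eq_zero' hε hJ hG _ c _ _ (by simp only [p]; omega), zero_mul]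
    · rw [if_neg hij, mul_zero]
  · rw [apply_top hd hZ, if_pos le_rfl, ← gE_apply G]
    refine congrArg₂ (· * ·) rfl ?_
    simp only [bl, r, Matrix.of_apply, Nat.sub_self]

theorem adjoint_bl {ε : K} (hε : ε ≠ 0) (hd : ∀ k, 1 ≤ d k) (hJ : ct σ (1 + sh d K 1) * G * (1 + sh d K 1) = G)
    (hG : ct σ G = ε • G) {Y Z : Matrix (Ix d) (Ix d) K} (hY : Y ∈ comm d K) (hZ : Z ∈ comm d K)
    (h : G * Z = ct σ Y * G) (j : ℕ) :
    ct σ (bl hd Y j) * blockH G j = blockH G j * bl hd Z j := by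
  rw [← blockH_mul hε hd hJ hG hZ, h]
  ext x y
  have hy := (fe d j y).2
  have hx := (fe d j x).2
  have hj : j - 1 < d (fe d j y).1 := by have := hd (fe d j y).1; omega
  let p : Ix d := ⟨(fe d j x).1, ⟨0, hd _⟩⟩
  let r : Ix d := ⟨(fe d j y).1, ⟨j - 1, hj⟩⟩
  show _ = gE (ct σ Y * G) _ _ _ _
  rw [gE, dif_pos ⟨hd _, hj⟩]
  show _ = (ct σ Y * G) p r
  have h1 : (ct σ Y * G) p r = (ct σ (bl hd Y j) * blockH G j) x y := by
    rw [Matrix.mul_apply, Matrix.mul_apply]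
    have hinj : Function.Injective fun z : Fin (cnt d j) => (⟨(fe d j z).1, ⟨0, hd _⟩⟩ : Ix d) := by
      intro z z' h'
      exact (fe d j).injective (Subtype.ext (congrArg Sigma.fst h'))
    refine (Fintype.sum_of_injective _ hinj _ _ ?_ fun z => ?_).symm
    · rintro ⟨c, i⟩ hr
      rw [← gE_apply G]
      by_cases hi : (i : ℕ) = 0
      · have hi' : i = ⟨0, hd c⟩ := Fin.ext hi
        subst hi'
        have hc : d c ≠ j := fun hc => hr ⟨(fe d j).symm ⟨c, hc⟩, sigma_eq (by rw [Equiv.apply_symm_apply]) _ _ rfl⟩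
        rcases lt_or_gt_of_ne hc with hlt | hlt
        · rw [gE_eq_zero' hε hJ hG c _ _ _ (by simp only [r]; omega), mul_zero]
        · rw [ct, Matrix.transpose_apply, Matrix.map_apply,
            apply_eq_zero_of_lt hd hY ⟨c, ⟨0, hd c⟩⟩ _ (by simp only; omega), map_zero, zero_mul]
      · rw [gE_eq_zero hJ c _ _ _ (by simp only [r]; omega), mul_zero]
    · rw [← gE_apply G]; rfl
  exact h1.symm

end Cfsg.Agent.OrthUnitaryUnipotent
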