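import Mathlib
import Cfsg.Agent.Lib.OrthUnitaryUnipotentBlocks
import Cfsg.Agent.Lib.OrthUnitaryHerm

/-!
The isometries of an invariant hermitian form among the matrices commuting with a unipotent Jordan matrix:
their number is `q ^ γ` times the orders of the unitary groups of the multiplicity spaces.
-/

set_option autoImplicit false

namespace Cfsg.Agent.OrthUnitaryUnipotent

open Matrix Cfsg.Agent.JordanType Cfsg.Agent.S2581 Cfsg.Agent.HermitianFactor

variable {K : Type*} [Field K] [Fintype K] {t : ℕ} {d : Fin t → ℕ}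

/-- the exponent of the radical -/
def gam (d : Fin t → ℕ) : ℕ :=
  2 * (∑ i ∈ Finset.range (Finset.univ.sup d + 1), ∑ j ∈ Finset.range (Finset.univ.sup d + 1),
      if i < j then i * cnt d i * cnt d j else 0) +
    ∑ i ∈ Finset.range (Finset.univ.sup d + 1), (i - 1) * cnt d i ^ 2

/-- the blocks of any family lift into the commutant -/
theorem exists_lift (hd : ∀ k, 1 ≤ d k) (T : ∀ j, Matrix (Fin (cnt d j)) (Fin (cnt d j)) K) :
    ∃ Y ∈ comm d K, ∀ j, bl hd Y j = T j := by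
  let w : W d K := ⟨fun p a => if h : (p.2 : ℕ) = 0 ∧ d p.1 = d a then
      T (d a) ((fe d (d a)).symm ⟨p.1, h.2⟩) ((fe d (d a)).symm ⟨a, rfl⟩) else 0,
    fun p a h => dif_neg fun h' => by omega⟩
  refine ⟨mkX w.1, mem_comm.2 (mkX_commute w), fun j => ?_⟩
  rw [bl_mkX]
  ext x y
  have key : ∀ (i : ℕ) (a b : {a // d a = i}) (hba : d b.1 = d a.1),
      T (d a.1) ((fe d (d a.1)).symm ⟨b.1, hba⟩) ((fe d (d a.1)).symm ⟨a.1, rfl⟩) =
        T i ((fe d i).symm b) ((fe d i).symm a) := by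
    rintro i ⟨a, ha⟩ ⟨b, hb⟩ hba
    subst ha
    rfl
  simp only [blockT, Matrix.of_apply, w]
  rw [dif_pos ⟨trivial, (fe d j x).2.trans (fe d j y).2.symm⟩, key j (fe d j y) (fe d j x), Equiv.symm_apply_apply,
    Equiv.symm_apply_apply]

/-- the size of the radical of the commutant -/
theorem card_rad {Q : ℕ} (hQ : Fintype.card K = Q) (hd : ∀ k, 1 ≤ d k) :
    Nat.card {Y : Matrix (Ix d) (Ix d) K // Y ∈ comm d K ∧ ∀ j, bl hd Y j = 0} = Q ^ gam d := by
  classical
  let M := Finset.univ.sup d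
  have hM : ∀ a, d a < M + 1 := fun a => Nat.lt_succ_of_le (Finset.le_sup (Finset.mem_univ a))
  let P : Ix d × Fin t → Prop := fun x => d x.1.1 ≤ (x.1.2 : ℕ) + d x.2
  let D : Ix d × Fin t → Prop := fun x => (x.1.2 : ℕ) = 0 ∧ d x.1.1 = d x.2
  let R := {x : Ix d × Fin t // P x ∧ ¬ D x}
  let toW : (R → K) → W d K := fun r => ⟨fun p a => if h : P (p, a) ∧ ¬ D (p, a) then r ⟨(p, a), h⟩ else 0,
    fun p a h => dif_neg fun h' => by have := h'.1; simp only [P] at this; omega⟩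
  let E : (R → K) ≃ {Y : Matrix (Ix d) (Ix d) K // Y ∈ comm d K ∧ ∀ j, bl hd Y j = 0} :=
    { toFun := fun r => ⟨mkX (toW r).1, mem_comm.2 (mkX_commute _), fun j => by
        rw [bl_mkX]
        ext x y
        simp only [blockT, Matrix.of_apply, toW, Matrix.zero_apply]
        rw [dif_neg]
        exact fun h => h.2 ⟨rfl, (fe d j x).2.trans (fe d j y).2.symm⟩⟩
      invFun := fun Y x => Y.1 x.1.1 ⟨x.1.2, ⟨0, hd _⟩⟩
      left_inv := fun r => by
        funext x
        simp only [mkX, Matrix.of_apply, toW]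
        rw [if_pos (Nat.zero_le _), dif_pos]
        · simp only [Nat.sub_zero, Fin.eta, Sigma.eta, Prod.mk.eta]
          rfl
        · simpa using x.2
      right_inv := fun Y => by
        obtain ⟨Y, hY, hb⟩ := Y
        obtain ⟨w, rfl⟩ := exists_mkX hd Y (mem_comm.1 hY)
        refine Subtype.ext (congrArg mkX (funext fun p => funext fun a => ?_))
        simp only [toW]
        by_cases h : P (p, a) ∧ ¬ D (p, a)
        · rw [dif_pos h]; simp [mkX]
        · rw [dif_neg h]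
          rcases Classical.em (P (p, a)) with hP | hP
          · have hD : D (p, a) := not_not.1 fun hD => h ⟨hP, hD⟩
            obtain ⟨b, l⟩ := p
            obtain ⟨hl, hba⟩ := hD
            have hl' : l = ⟨0, hd b⟩ := Fin.ext hl
            subst hl'
            have := congrFun (congrFun (hb (d a)) ((fe d (d a)).symm ⟨b, hba⟩)) ((fe d (d a)).symm ⟨a, rfl⟩)
            rw [bl_mkX] at this
            simp only [blockT, Matrix.of_apply, Matrix.zero_apply] at this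
            have hgen : ∀ (c : Fin t) (hc : c = b) (e : Fin t) (he : e = a),
                w.1 ⟨c, ⟨0, hd c⟩⟩ e = w.1 ⟨b, ⟨0, hd b⟩⟩ a := by
              rintro c rfl e rfl; rfl
            rw [hgen _ (by rw [Equiv.apply_symm_apply]) _ (by rw [Equiv.apply_symm_apply])] at this
            exact this.symm
          · simp only [P, not_le] at hP
            exact (w.2 p a hP).symm }
  rw [← Nat.card_congr E, Nat.card_pi, Finset.prod_const, Finset.card_univ, Nat.card_eq_fintype_card, hQ]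
  congr 1
  have hR : Fintype.card R = Fintype.card {x // P x} - Fintype.card {x // D x} := by
    simp only [R, Fintype.card_subtype]
    have hsub : Finset.univ.filter D ⊆ Finset.univ.filter P := fun x hx => by
      simp only [Finset.mem_filter, Finset.mem_univ, true_and, D, P] at hx ⊢
      omega
    rw [← Finset.card_sdiff_of_subset hsub]
    congr 1
    ext x
    simp [and_comm]
  have hPc : Fintype.card {x // P x} = ∑ a, ∑ b, min (d a) (d b) := by
    rw [Fintype.card_subtype, Finset.card_filter, Fintype.sum_prod_type_right]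
    refine Finset.sum_congr rfl fun a _ => ?_
    rw [Fintype.sum_sigma]
    refine Finset.sum_congr rfl fun b _ => ?_
    rw [← card_fin_window (d b) (d a), Finset.card_filter]
  have hDc : Fintype.card {x // D x} = ∑ i ∈ Finset.range (M + 1), cnt d i ^ 2 := by
    rw [Fintype.card_subtype, Finset.card_filter, Fintype.sum_prod_type_right]
    have hone : ∀ a : Fin t, ∑ p : Ix d, (if D (p, a) then 1 else 0) = cnt d (d a) := by
      intro a
      rw [Fintype.sum_sigma, cnt, Finset.card_filter]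
      refine Finset.sum_congr rfl fun b _ => ?_
      rw [Finset.sum_eq_single (⟨0, hd b⟩ : Fin (d b))]
      · simp [D]
      · intro i _ hi
        rw [if_neg]
        exact fun h => hi (Fin.ext h.1)
      · simp
    rw [Finset.sum_congr rfl fun a _ => hone a,
      ← Finset.sum_fiberwise_of_maps_to (g := d) (t := Finset.range (M + 1)) fun a _ => Finset.mem_range.2 (hM a)]
    refine Finset.sum_congr rfl fun i _ => ?_
    rw [Finset.sum_congr rfl fun a ha => by rw [(Finset.mem_filter.1 ha).2], Finset.sum_const, smul_eq_mul, sq]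
    rfl
  rw [hR, hPc, hDc, ← sum_min d hd]
  simp only [gam, cnt, M]
  omega

variable {q : ℕ} {σ : K →+* K}

omit [Fintype K] in
theorem ct_smul {ι : Type*} (a : K) (X : Matrix ι ι K) : ct σ (a • X) = σ a • ct σ X := by
  ext i j; simp [ct]

/-- isometries of a (skew) hermitian form -/
theorem card_isometry (hK : Fintype.card K = q ^ 2) (hq : ∀ x, σ x = x ^ q) (hσ : ∀ x, σ (σ x) = x) (c : K)
    (hc : σ c ≠ c) {n : ℕ} (H : Matrix (Fin n) (Fin n) K) (hu : IsUnit H) (ε : K) (hε : ε = 1 ∨ ε = -1)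
    (hH : ct σ H = ε • H) :
    Nat.card {T : Matrix (Fin n) (Fin n) K // ct σ T * H * T = H} = Nat.card ↥(Cfsg.GU n K q) := by
  obtain ⟨s, hs0, hs⟩ : ∃ s : K, s ≠ 0 ∧ σ s * ε = s := by
    rcases hε with rfl | rfl
    · exact ⟨1, one_ne_zero, by simp⟩
    · exact ⟨c - σ c, sub_ne_zero.2 (Ne.symm hc), by rw [map_sub, hσ]; ring⟩
  have hP : ct σ (s • H) = s • H := by rw [ct_smul, hH, smul_smul, hs]
  have huP : IsUnit (s • H) := by
    rw [Algebra.smul_def]
    exact (hs0.isUnit.map _).mul hu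
  obtain ⟨S, -, hS, hSS⟩ := exists_factor hσ c hc huP hP
  obtain ⟨S, rfl⟩ := hS
  have hiff : ∀ T : Matrix (Fin n) (Fin n) K, ct σ T * H * T = H ↔
      ct σ ((S : Matrix (Fin n) (Fin n) K) * T * ((S⁻¹ : (Matrix (Fin n) (Fin n) K)ˣ) : Matrix (Fin n) (Fin n) K)) *
        ((S : Matrix (Fin n) (Fin n) K) * T * ((S⁻¹ : (Matrix (Fin n) (Fin n) K)ˣ) : Matrix (Fin n) (Fin n) K)) = 1 := by
    intro T
    have hSi : ct σ ((S⁻¹ : (Matrix (Fin n) (Fin n) K)ˣ) : Matrix (Fin n) (Fin n) K) * ct σ (S : Matrix (Fin n) (Fin n) K) = 1 := by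
      rw [← ct_mul, Units.mul_inv, ct_one]
    have hSi' : ct σ (S : Matrix (Fin n) (Fin n) K) * ct σ ((S⁻¹ : (Matrix (Fin n) (Fin n) K)ˣ) : Matrix (Fin n) (Fin n) K) = 1 :=
      mul_eq_one_comm.1 hSi
    have e1 : ct σ T * (s • H) * T = s • H ↔ ct σ T * H * T = H := by
      rw [Matrix.mul_smul, Matrix.smul_mul]
      exact ⟨fun h => smul_right_injective _ hs0 h, fun h => by rw [h]⟩
    rw [← e1, ← hSS, ct_mul, ct_mul]
    simp only [mul_assoc]
    constructor
    · intro h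
      rw [show ct σ T * (ct σ (S : Matrix (Fin n) (Fin n) K) * ((S : Matrix (Fin n) (Fin n) K) * (T * ((S⁻¹ : (Matrix (Fin n) (Fin n) K)ˣ) : Matrix (Fin n) (Fin n) K)))) =
          ct σ T * (ct σ (S : Matrix (Fin n) (Fin n) K) * ((S : Matrix (Fin n) (Fin n) K) * T)) * ((S⁻¹ : (Matrix (Fin n) (Fin n) K)ˣ) : Matrix (Fin n) (Fin n) K) by
        simp only [mul_assoc], h, mul_assoc, Units.mul_inv, mul_one, hSi]
    · intro h
      have h' := congrArg (fun X => ct σ (S : Matrix (Fin n) (Fin n) K) * X * (S : Matrix (Fin n) (Fin n) K)) h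
      simp only [← mul_assoc, hSi', one_mul, mul_one, Units.inv_mul_cancel_right] at h'
      simpa only [mul_assoc] using h'
  let f : {T : Matrix (Fin n) (Fin n) K // ct σ T * H * T = H} → ↥(Cfsg.GU n K q) := fun T =>
    ⟨⟨_, _, mul_eq_one_comm.1 ((hiff T.1).1 T.2), (hiff T.1).1 T.2⟩, (mem_GU_iff hq hσ _).2 ((hiff T.1).1 T.2)⟩
  refine Nat.card_eq_of_bijective f ⟨fun T T' h => Subtype.ext ?_, fun g => ?_⟩
  · have h' := congrArg (fun g : ↥(Cfsg.GU n K q) => ((g : GL (Fin n) K) : Matrix (Fin n) (Fin n) K)) h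
    exact S.isUnit.mul_left_cancel ((S⁻¹).isUnit.mul_right_cancel h')
  · refine ⟨⟨((S⁻¹ : (Matrix (Fin n) (Fin n) K)ˣ) : Matrix (Fin n) (Fin n) K) * (g : GL (Fin n) K) * (S : Matrix (Fin n) (Fin n) K), ?_⟩, Subtype.ext (Units.ext ?_)⟩
    · rw [hiff]
      have := (mem_GU_iff hq hσ _).1 g.2
      simpa only [← mul_assoc, Units.mul_inv, one_mul, Units.mul_inv_cancel_right] using this
    · show (S : Matrix (Fin n) (Fin n) K) * _ * _ = _
      simp only [← mul_assoc, Units.mul_inv, one_mul, Units.mul_inv_cancel_right]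

/-- `|GU_a(q)|` over the integers -/
theorem card_GU_int (hK : Fintype.card K = q ^ 2) (a : ℕ) : (Nat.card ↥(Cfsg.GU a K q) : ℤ) =
    (q : ℤ) ^ (a * (a - 1) / 2) * ∏ j : Fin a, ((q : ℤ) ^ ((j : ℕ) + 1) - (-1) ^ ((j : ℕ) + 1)) := by
  have hq : 1 ≤ q := Nat.one_le_iff_ne_zero.2 fun h => by
    have := Fintype.card_pos (α := K)
    simp [hK, h] at this
  rw [Cfsg.Agent.OrthUnitaryHerm.card_GU hK, Nat.cast_mul, Nat.cast_pow, Nat.cast_prod,
    Fin.prod_univ_eq_prod_range (fun j => (q : ℤ) ^ (j + 1) - (-1) ^ (j + 1)) a]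
  congr 1
  refine Finset.prod_congr rfl fun i _ => ?_
  by_cases hi : Even i
  · rw [if_pos hi, (hi.add_one).neg_one_pow]; push_cast; ring
  · rw [if_neg hi, ((Nat.not_even_iff_odd.1 hi).add_one).neg_one_pow, Nat.cast_sub (Nat.one_le_pow _ _ hq)]
    push_cast; ring

/-- unitary elements of the commutant -/
theorem card_unitary (hK : Fintype.card K = q ^ 2) (hq : ∀ x, σ x = x ^ q) (hσ : ∀ x, σ (σ x) = x) (c : K)
    (hc : σ c ≠ c) (hd : ∀ k, 1 ≤ d k) {G : Matrix (Ix d) (Ix d) K} (hU : IsUnit G) (hG : ct σ G = G)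
    (hJ : ct σ (1 + sh d K 1) * G * (1 + sh d K 1) = G) :
    Nat.card {Y : Matrix (Ix d) (Ix d) K // Y ∈ comm d K ∧ ct σ Y * G * Y = G} =
      q ^ gam d * ∏ j : Fin (Finset.univ.sup d + 1), Nat.card ↥(Cfsg.GU (cnt d j) K q) := by
  classical
  obtain ⟨Gu, hGu⟩ := id hU
  let Gi : Matrix (Ix d) (Ix d) K := ((Gu⁻¹ : (Matrix (Ix d) (Ix d) K)ˣ) : Matrix (Ix d) (Ix d) K)
  have hGiG : Gi * G = 1 := by rw [← hGu]; exact Gu.inv_mul
  have hGGi : G * Gi = 1 := by rw [← hGu]; exact Gu.mul_inv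
  let τ : Matrix (Ix d) (Ix d) K → Matrix (Ix d) (Ix d) K := fun Y => Gi * ct σ Y * G
  have hGτ : ∀ Y, G * τ Y = ct σ Y * G := fun Y => by
    simp only [τ, ← mul_assoc, hGGi, one_mul]
  have hτadd : ∀ x y, τ (x + y) = τ x + τ y := fun x y => by simp only [τ, ct_add, mul_add, add_mul]
  have hτmul : ∀ x y, τ (x * y) = τ y * τ x := fun x y => by
    simp only [τ, ct_mul, mul_assoc]
    rw [← mul_assoc G Gi, hGGi, one_mul]
  have hτalg : ∀ a, τ (algebraMap K _ a) = algebraMap K _ (σ a) := fun a => by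
    simp only [τ, ct_algebraMap]
    rw [← Algebra.commutes, mul_assoc, hGiG, mul_one]
  have hττ : ∀ Y, τ (τ Y) = Y := by
    intro Y
    have hGi : ct σ Gi = Gi := by
      apply hU.mul_right_cancel
      conv_lhs => rw [← hG]
      rw [← ct_mul, hGGi, ct_one, hGiG]
    simp only [τ, ct_mul, ct_ct hσ, hG, hGi]
    simp only [← mul_assoc, hGiG, one_mul]
    rw [mul_assoc, hGiG, mul_one]
  have hτ1 : τ 1 = 1 := by simpa using hτalg 1
  have hτsmul : ∀ (a : K) Y, τ (a • Y) = σ a • τ Y := fun a Y => by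
    simp only [τ, ct_smul, Matrix.mul_smul, Matrix.smul_mul]
  have hJu : IsUnit (1 + sh d K 1) := by
    have h2 : Gi * (ct σ (1 + sh d K 1) * G * (1 + sh d K 1)) = 1 := by rw [hJ, hGiG]
    rw [← mul_assoc] at h2
    have h1 := mul_eq_one_comm.1 h2
    exact IsUnit.of_mul_eq_one _ h1
  have hcJ : IsUnit (ct σ (1 + sh d K 1) * G) := (isUnit_ct hJu).mul hU
  have hmemJ : ∀ {Y : Matrix (Ix d) (Ix d) K}, Y ∈ comm d K ↔ Y * (1 + sh d K 1) = (1 + sh d K 1) * Y := by
    intro Y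
    rw [mem_comm, mul_add, add_mul, mul_one, one_mul, add_right_inj]
  have hτA : ∀ {Y}, Y ∈ comm d K → τ Y ∈ comm d K := by
    intro Y hY
    rw [hmemJ] at hY ⊢
    refine hcJ.mul_left_cancel ?_
    calc ct σ (1 + sh d K 1) * G * (τ Y * (1 + sh d K 1))
        = ct σ (1 + sh d K 1) * (G * τ Y) * (1 + sh d K 1) := by simp only [mul_assoc]
      _ = ct σ (Y * (1 + sh d K 1)) * G * (1 + sh d K 1) := by rw [hGτ, ct_mul]; simp only [mul_assoc]
      _ = ct σ Y * (ct σ (1 + sh d K 1) * G * (1 + sh d K 1)) := by rw [hY, ct_mul]; simp only [mul_assoc]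
      _ = G * τ Y := by rw [hJ, hGτ]
      _ = ct σ (1 + sh d K 1) * G * (1 + sh d K 1) * τ Y := by rw [hJ]
      _ = ct σ (1 + sh d K 1) * G * ((1 + sh d K 1) * τ Y) := by simp only [mul_assoc]
  have hG1 : ct σ G = (1 : K) • G := by rw [one_smul, hG]
  have hadj : ∀ {Y}, Y ∈ comm d K → ∀ j, ct σ (bl hd Y j) * blockH G j =
      blockH G j * bl hd (τ Y) j := fun {Y} hY j =>
    adjoint_bl one_ne_zero hd hJ hG1 hY (hτA hY) (hGτ Y) j
  have hH : ∀ j, IsUnit (blockH G j) := isUnit_blockH one_ne_zero hd hJ hG1 hU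
  have hτbl : ∀ {Y}, Y ∈ comm d K → ∀ (a : K), (∀ j, bl hd Y j = a • 1) → ∀ j, bl hd (τ Y) j = σ a • 1 := by
    intro Y hY a ha j
    have := hadj hY j
    rw [ha, ct_smul, ct_one, smul_mul_assoc, one_mul] at this
    refine (hH j).mul_left_cancel ?_
    rw [← this, mul_smul_comm, mul_one]
  -- matrices with trivial blocks
  let P1 := {Y : Matrix (Ix d) (Ix d) K // Y ∈ comm d K ∧ ∀ j, bl hd Y j = 1}
  have hτP1 : ∀ {Y}, Y ∈ comm d K → (∀ j, bl hd Y j = 1) → ∀ j, bl hd (τ Y) j = 1 := by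
    intro Y hY h j
    simpa using hτbl hY 1 (by simpa using h) j
  have hnorm : ∀ h, h ∈ comm d K → (∀ j, bl hd h j = 1) → τ h = h →
      ∃ s ∈ comm d K, IsUnit s ∧ (∀ j, bl hd s j = 1) ∧ τ s * s = h := by
    intro h hh hb hfix
    have hu : IsUnit h := isUnit_of_bl hd hh fun j => by rw [hb]; exact isUnit_one
    obtain ⟨s, hs, hsu, hss⟩ := (adjoin_hilbert90 (σ := σ) τ hτadd hτmul hτalg
      (by rw [hfix]; exact Algebra.subset_adjoin rfl) (fun x _ => hττ x) c hc).2 hu hfix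
    have hle : Algebra.adjoin K {h} ≤ comm d K := Algebra.adjoin_le (Set.singleton_subset_iff.2 hh)
    have hsc : ∃ a : K, ∀ j, bl hd s j = a • 1 := by
      clear hsu hss
      induction hs using Algebra.adjoin_induction with
      | mem y hy => exact ⟨1, fun j => by rw [Set.mem_singleton_iff.1 hy, hb, one_smul]⟩
      | algebraMap r => exact ⟨r, fun j => by rw [Algebra.algebraMap_eq_smul_one, bl_smul, bl_one]⟩
      | add y z _ _ hy hz =>
        obtain ⟨a, ha⟩ := hy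
        obtain ⟨b, hb'⟩ := hz
        exact ⟨a + b, fun j => by rw [bl_add, ha, hb', add_smul]⟩
      | mul y z hy' hz' hy hz =>
        obtain ⟨a, ha⟩ := hy
        obtain ⟨b, hb'⟩ := hz
        exact ⟨a * b, fun j => by rw [bl_mul hd (hle hy') (hle hz'), ha, hb', smul_mul_smul_comm, one_mul]⟩
    obtain ⟨a, ha⟩ := hsc
    by_cases ht : t = 0
    · refine ⟨s, hle hs, hsu, fun j => ?_, hss⟩
      haveI : IsEmpty (Fin (cnt d j)) := ⟨fun x => by have := (fe d j x).1.2; omega⟩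
      exact Subsingleton.elim _ _
    · have hne : Nonempty (Fin (cnt d (d ⟨0, Nat.pos_of_ne_zero ht⟩))) := ⟨(fe d _).symm ⟨_, rfl⟩⟩
      obtain ⟨x⟩ := hne
      have hn : σ a * a = 1 := by
        have h1 := congrFun (congrFun (hb (d ⟨0, Nat.pos_of_ne_zero ht⟩)) x) x
        rw [← hss, bl_mul hd (hτA (hle hs)) (hle hs), hτbl (hle hs) a ha, ha, smul_mul_smul_comm, one_mul] at h1
        simpa using h1
      have ha0 : a ≠ 0 := fun h0 => by simp [h0] at hn
      refine ⟨a⁻¹ • s, (comm d K).smul_mem (hle hs) _, ?_, fun j => ?_, ?_⟩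
      · rw [Algebra.smul_def]
        exact ((inv_ne_zero ha0).isUnit.map _).mul hsu
      · rw [bl_smul, ha, smul_smul, inv_mul_cancel₀ ha0, one_smul]
      · rw [hτsmul, smul_mul_smul_comm, hss, map_inv₀, ← mul_inv, hn, inv_one, one_smul]
  let H1 := {Y : P1 // τ Y.1 = Y.1}
  let K1 := {Y : P1 // τ Y.1 * Y.1 = 1}
  let sec : H1 → P1 := fun h =>
    ⟨(hnorm h.1.1 h.1.2.1 h.1.2.2 h.2).choose, (hnorm h.1.1 h.1.2.1 h.1.2.2 h.2).choose_spec.1,
      (hnorm h.1.1 h.1.2.1 h.1.2.2 h.2).choose_spec.2.2.1⟩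
  have hsec : ∀ h : H1, τ (sec h).1 * (sec h).1 = h.1.1 := fun h =>
    (hnorm h.1.1 h.1.2.1 h.1.2.2 h.2).choose_spec.2.2.2
  have hinv : ∀ Y : P1, ∃ Z : P1, Z.1 * Y.1 = 1 ∧ Y.1 * Z.1 = 1 := by
    intro Y
    obtain ⟨u, hu⟩ := isUnit_of_bl hd Y.2.1 fun j => by rw [Y.2.2]; exact isUnit_one
    have hm : ((u⁻¹ : (Matrix (Ix d) (Ix d) K)ˣ) : Matrix (Ix d) (Ix d) K) ∈ comm d K :=
      inv_mem_of_finite _ u (hu ▸ Y.2.1)
    refine ⟨⟨_, hm, fun j => ?_⟩, by rw [← hu]; exact u.inv_mul, by rw [← hu]; exact u.mul_inv⟩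
    have := congrArg (fun X => bl hd X j) u.inv_mul
    rw [bl_mul hd hm (hu ▸ Y.2.1), bl_one, hu, Y.2.2, mul_one] at this
    exact this
  choose inv hinv1 hinv2 using hinv
  have hP1mul : ∀ Y Z : P1, Y.1 * Z.1 ∈ comm d K ∧ ∀ j, bl hd (Y.1 * Z.1) j = 1 := fun Y Z =>
    ⟨mul_mem Y.2.1 Z.2.1, fun j => by rw [bl_mul hd Y.2.1 Z.2.1, Y.2.2, Z.2.2, one_mul]⟩
  let mulP : P1 → P1 → P1 := fun Y Z => ⟨Y.1 * Z.1, hP1mul Y Z⟩
  let phi : P1 → H1 := fun Y => ⟨mulP ⟨τ Y.1, hτA Y.2.1, hτP1 Y.2.1 Y.2.2⟩ Y, by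
    show τ (τ Y.1 * Y.1) = τ Y.1 * Y.1
    rw [hτmul, hττ]⟩
  have hτinv : ∀ Y : P1, τ (inv Y).1 * τ Y.1 = 1 := fun Y => by rw [← hτmul, hinv2, hτ1]
  let Ef : P1 ≃ H1 × K1 :=
    { toFun := fun Y => (phi Y, ⟨mulP Y (inv (sec (phi Y))), by
        show τ (Y.1 * (inv (sec (phi Y))).1) * (Y.1 * (inv (sec (phi Y))).1) = 1
        rw [hτmul, mul_assoc, ← mul_assoc (τ Y.1), show τ Y.1 * Y.1 = τ (sec (phi Y)).1 * (sec (phi Y)).1 from
          (hsec (phi Y)).symm, ← mul_assoc, ← mul_assoc, hτinv, one_mul, hinv2]⟩)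
      invFun := fun x => mulP x.2.1 (sec x.1)
      left_inv := fun Y => Subtype.ext (by
        show Y.1 * (inv (sec (phi Y))).1 * (sec (phi Y)).1 = Y.1
        rw [mul_assoc, hinv1, mul_one])
      right_inv := fun x => by
        have hphi : phi (mulP x.2.1 (sec x.1)) = x.1 := by
          refine Subtype.ext (Subtype.ext ?_)
          show τ (x.2.1.1 * (sec x.1).1) * (x.2.1.1 * (sec x.1).1) = x.1.1.1
          rw [hτmul, mul_assoc, ← mul_assoc (τ x.2.1.1), x.2.2, one_mul, hsec]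
        refine Prod.ext hphi (Subtype.ext (Subtype.ext ?_))
        show x.2.1.1 * (sec x.1).1 * (inv (sec (phi (mulP x.2.1 (sec x.1))))).1 = x.2.1.1
        rw [hphi, mul_assoc, hinv2, mul_one] }
  -- the radical
  let J : AddSubgroup (Matrix (Ix d) (Ix d) K) :=
    { carrier := {Y | Y ∈ comm d K ∧ ∀ j, bl hd Y j = 0}
      zero_mem' := ⟨zero_mem _, fun j => bl_zero hd j⟩
      add_mem' := fun {x y} hx hy => ⟨add_mem hx.1 hy.1, fun j => by rw [bl_add, hx.2, hy.2, add_zero]⟩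
      neg_mem' := fun {x} hx => ⟨neg_mem hx.1, fun j => by
        rw [← zero_sub, bl_sub, bl_zero, hx.2, sub_self]⟩ }
  have hτJ : ∀ {Y}, Y ∈ J → τ Y ∈ J := fun {Y} hY => ⟨hτA hY.1, fun j => by
    simpa using hτbl hY.1 0 (by simpa using hY.2) j⟩
  let f : J →+ J :=
    { toFun := fun Y => ⟨Y.1 + τ Y.1, add_mem Y.2 (hτJ Y.2)⟩
      map_zero' := Subtype.ext (by
        show (0 : Matrix (Ix d) (Ix d) K) + τ 0 = 0
        rw [show (0 : Matrix (Ix d) (Ix d) K) = (0 : K) • 0 by simp, hτsmul, map_zero, zero_smul, zero_smul, add_zero])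
      map_add' := fun x y => Subtype.ext (by
        show x.1 + y.1 + τ (x.1 + y.1) = x.1 + τ x.1 + (y.1 + τ y.1)
        rw [hτadd]; abel) }
  obtain ⟨z, hz⟩ : ∃ z : K, z + σ z ≠ 0 := by
    by_cases h : c + σ c = 0
    · refine ⟨1, fun h1 => hc ?_⟩
      rw [map_one] at h1
      linear_combination h - c * h1
    · exact ⟨c, h⟩
  let μ := c - σ c
  have hμ0 : μ ≠ 0 := sub_ne_zero.2 (Ne.symm hc)
  have hμ : σ μ = -μ := by simp only [μ, map_sub, hσ]; ring
  let Herm := {Y : J // τ Y.1 = Y.1}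
  have hker : Nat.card f.ker = Nat.card Herm := by
    refine Nat.card_congr
      { toFun := fun Y => ⟨⟨μ⁻¹ • Y.1.1, (comm d K).smul_mem Y.1.2.1 _, fun j => by
          rw [bl_smul, Y.1.2.2, smul_zero]⟩, by
            have hY : Y.1.1 + τ Y.1.1 = 0 := congrArg Subtype.val Y.2
            show τ (μ⁻¹ • Y.1.1) = μ⁻¹ • Y.1.1
            rw [hτsmul, map_inv₀, hμ, eq_neg_of_add_eq_zero_right hY, smul_neg, inv_neg, neg_smul, neg_neg]⟩
        invFun := fun Y => ⟨⟨μ • Y.1.1, (comm d K).smul_mem Y.1.2.1 _, fun j => by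
          rw [bl_smul, Y.1.2.2, smul_zero]⟩, Subtype.ext (by
            show μ • Y.1.1 + τ (μ • Y.1.1) = 0
            rw [hτsmul, hμ, Y.2, neg_smul, add_neg_cancel])⟩
        left_inv := fun Y => Subtype.ext (Subtype.ext (by
          show μ • μ⁻¹ • Y.1.1 = Y.1.1
          rw [smul_smul, mul_inv_cancel₀ hμ0, one_smul]))
        right_inv := fun Y => Subtype.ext (Subtype.ext (by
          show μ⁻¹ • μ • Y.1.1 = Y.1.1
          rw [smul_smul, inv_mul_cancel₀ hμ0, one_smul])) }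
  have hrange : Nat.card f.range = Nat.card Herm := by
    refine Nat.card_congr (Equiv.subtypeEquivRight fun Y => ?_)
    constructor
    · rintro ⟨X, rfl⟩
      show τ (X.1 + τ X.1) = X.1 + τ X.1
      rw [hτadd, hττ, add_comm]
    · intro hY
      refine ⟨⟨(z / (z + σ z)) • Y.1, (comm d K).smul_mem Y.2.1 _, fun j => by rw [bl_smul, Y.2.2, smul_zero]⟩,
        Subtype.ext ?_⟩
      show (z / (z + σ z)) • Y.1 + τ ((z / (z + σ z)) • Y.1) = Y.1
      rw [hτsmul, hY, ← add_smul, map_div₀, map_add, hσ, add_comm (σ z) z, ← add_div, div_self hz, one_smul]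
  have hJcard : Nat.card J = (q ^ 2) ^ gam d := card_rad hK hd
  have hsq : Nat.card Herm * Nat.card Herm = (q ^ 2) ^ gam d := by
    rw [← hJcard, AddSubgroup.card_eq_card_quotient_mul_card_addSubgroup f.ker,
      Nat.card_congr (QuotientAddGroup.quotientKerEquivRange f).toEquiv, hker, hrange]
  have hP1c : Nat.card P1 = (q ^ 2) ^ gam d := by
    rw [← hJcard]
    exact Nat.card_congr
      { toFun := fun Y => ⟨Y.1 - 1, sub_mem Y.2.1 (one_mem _), fun j => by rw [bl_sub, Y.2.2, bl_one, sub_self]⟩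
        invFun := fun Y => ⟨Y.1 + 1, add_mem Y.2.1 (one_mem _), fun j => by rw [bl_add, Y.2.2, bl_one, zero_add]⟩
        left_inv := fun Y => Subtype.ext (sub_add_cancel _ _)
        right_inv := fun Y => Subtype.ext (add_sub_cancel_right _ _) }
  have hH1c : Nat.card H1 = Nat.card Herm := by
    exact Nat.card_congr
      { toFun := fun Y => ⟨⟨Y.1.1 - 1, sub_mem Y.1.2.1 (one_mem _), fun j => by
          rw [bl_sub, Y.1.2.2, bl_one, sub_self]⟩, by
            show τ (Y.1.1 - 1) = Y.1.1 - 1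
            rw [eq_sub_iff_add_eq]
            nth_rewrite 2 [← hτ1]
            rw [← hτadd, sub_add_cancel, Y.2]⟩
        invFun := fun Y => ⟨⟨Y.1.1 + 1, add_mem Y.1.2.1 (one_mem _), fun j => by
          rw [bl_add, Y.1.2.2, bl_one, zero_add]⟩, by
            show τ (Y.1.1 + 1) = Y.1.1 + 1
            rw [hτadd, Y.2, hτ1]⟩
        left_inv := fun Y => Subtype.ext (Subtype.ext (sub_add_cancel _ _))
        right_inv := fun Y => Subtype.ext (Subtype.ext (add_sub_cancel_right _ _)) }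
  have hK1c : Nat.card K1 = q ^ gam d := by
    have hHerm : Nat.card Herm = q ^ gam d := by
      have : Nat.card Herm ^ 2 = (q ^ gam d) ^ 2 := by rw [sq, hsq, pow_right_comm]
      exact Nat.pow_left_injective two_ne_zero this
    have hpos : 0 < q ^ gam d := by
      refine pow_pos (Nat.pos_of_ne_zero fun h => ?_) _
      have := Fintype.card_pos (α := K)
      simp [hK, h] at this
    have := hP1c
    rw [Nat.card_congr Ef, Nat.card_prod, hH1c, hHerm, pow_right_comm, sq] at this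
    exact Nat.eq_of_mul_eq_mul_left hpos this
  -- the targets
  let M := Finset.univ.sup d
  have hM : ∀ a, d a < M + 1 := fun a => Nat.lt_succ_of_le (Finset.le_sup (Finset.mem_univ a))
  let Tg := ∀ j : Fin (M + 1), {T : Matrix (Fin (cnt d j)) (Fin (cnt d j)) K //
    ct σ T * blockH G j * T = blockH G j}
  have hsub : ∀ j, ¬ j < M + 1 → IsEmpty (Fin (cnt d j)) := fun j hj =>
    ⟨fun x => by have := (fe d j x).2; have := hM (fe d j x).1; omega⟩
  let C := {Y : Matrix (Ix d) (Ix d) K // Y ∈ comm d K ∧ ct σ Y * G * Y = G}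
  have hCiff : ∀ Y, ct σ Y * G * Y = G ↔ τ Y * Y = 1 := by
    intro Y
    rw [← hGτ, mul_assoc G]
    exact ⟨fun h => hU.mul_left_cancel (h.trans (mul_one _).symm), fun h => by rw [h, mul_one]⟩
  have hlift : ∀ T : Tg, ∃ Y : C, ∀ j : Fin (M + 1), bl hd Y.1 j = (T j).1 := by
    intro T
    obtain ⟨a, ha, hab⟩ := exists_lift hd (fun j => if h : j < M + 1 then (T ⟨j, h⟩).1 else 1)
    have hfix : τ (τ a * a) = τ a * a := by rw [hτmul, hττ]
    have hblP : ∀ j, bl hd (τ a * a) j = 1 := by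
      intro j
      by_cases hj : j < M + 1
      · refine (hH j).mul_left_cancel ?_
        rw [bl_mul hd (hτA ha) ha, ← mul_assoc, ← hadj ha, hab, dif_pos hj, mul_one]
        exact (T ⟨j, hj⟩).2
      · haveI := hsub j hj
        exact Subsingleton.elim _ _
    obtain ⟨s, hs, hsu, hsb, hss⟩ := hnorm _ (mul_mem (hτA ha) ha) hblP hfix
    let si := inv ⟨s, hs, hsb⟩
    refine ⟨⟨a * si.1, mul_mem ha si.2.1, (hCiff _).2 ?_⟩, fun j => ?_⟩
    · rw [hτmul, mul_assoc, ← mul_assoc (τ a), ← hss, ← mul_assoc, ← mul_assoc,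
        hτinv ⟨s, hs, hsb⟩, one_mul]
      exact hinv2 ⟨s, hs, hsb⟩
    · rw [bl_mul hd ha si.2.1, si.2.2, mul_one, hab, dif_pos j.2]
  choose lift hlift' using hlift
  let blT : C → Tg := fun Y j => ⟨bl hd Y.1 j, by
    rw [hadj Y.2.1, mul_assoc, ← bl_mul hd (hτA Y.2.1) Y.2.1, (hCiff _).1 Y.2.2, bl_one, mul_one]⟩
  have hCmul : ∀ Y Z : C, Y.1 * Z.1 ∈ comm d K ∧ ct σ (Y.1 * Z.1) * G * (Y.1 * Z.1) = G :=
    fun Y Z => ⟨mul_mem Y.2.1 Z.2.1, (hCiff _).2 (by
      rw [hτmul, mul_assoc, ← mul_assoc (τ Y.1), (hCiff _).1 Y.2.2, one_mul, (hCiff _).1 Z.2.2])⟩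
  have hblall : ∀ {Y : Matrix (Ix d) (Ix d) K}, (∀ j : Fin (M + 1), bl hd Y j = 1) → ∀ j, bl hd Y j = 1 := by
    intro Y h j
    by_cases hj : j < M + 1
    · exact h ⟨j, hj⟩
    · haveI := hsub j hj
      exact Subsingleton.elim _ _
  have hCinv : ∀ Y : C, τ Y.1 ∈ comm d K ∧ ct σ (τ Y.1) * G * τ Y.1 = G :=
    fun Y => ⟨hτA Y.2.1, (hCiff _).2 (by rw [hττ]; exact mul_eq_one_comm.1 ((hCiff _).1 Y.2.2))⟩
  let Ec : C ≃ Tg × K1 :=
    { toFun := fun Y => (blT Y, ⟨⟨τ (lift (blT Y)).1 * Y.1, mul_mem (hCinv _).1 Y.2.1, hblall fun j => by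
        rw [bl_mul hd (hCinv _).1 Y.2.1]
        refine (hH j).mul_left_cancel ?_
        rw [← mul_assoc, ← hadj (lift (blT Y)).2.1, mul_one, hlift']
        exact (blT Y j).2⟩, (hCiff _).1 (hCmul ⟨_, hCinv _⟩ Y).2⟩)
      invFun := fun x => ⟨(lift x.1).1 * x.2.1.1, (hCmul (lift x.1) ⟨x.2.1.1, x.2.1.2.1, (hCiff _).2 x.2.2⟩)⟩
      left_inv := fun Y => Subtype.ext (by
        show (lift (blT Y)).1 * (τ (lift (blT Y)).1 * Y.1) = Y.1
        rw [← mul_assoc, mul_eq_one_comm.1 ((hCiff _).1 (lift (blT Y)).2.2), one_mul])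
      right_inv := fun x => by
        have h1 : blT ⟨(lift x.1).1 * x.2.1.1, (hCmul (lift x.1) ⟨x.2.1.1, x.2.1.2.1, (hCiff _).2 x.2.2⟩)⟩ = x.1 := by
          funext j
          refine Subtype.ext ?_
          show bl hd ((lift x.1).1 * x.2.1.1) j = _
          rw [bl_mul hd (lift x.1).2.1 x.2.1.2.1, x.2.1.2.2, mul_one, hlift']
        refine Prod.ext h1 (Subtype.ext (Subtype.ext ?_))
        show τ (lift (blT _)).1 * ((lift x.1).1 * x.2.1.1) = x.2.1.1
        rw [h1, ← mul_assoc, (hCiff _).1 (lift x.1).2.2, one_mul] }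
  rw [Nat.card_congr Ec, Nat.card_prod, hK1c, Nat.card_pi, mul_comm]
  congr 1
  refine Finset.prod_congr rfl fun j _ => ?_
  exact card_isometry hK hq hσ c hc _ (hH j) _ (neg_one_pow_eq_or K ((j : ℕ) - 1)) ((ct_blockH hd hJ hG1 j).trans (by rw [one_mul]))

end Cfsg.Agent.OrthUnitaryUnipotent
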