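import Mathlib
import Cfsg.Agent.Lib.OrthUnitaryUnipotentBlocks
import Cfsg.Agent.Lib.OrthUnitaryUnipotentCount
import Cfsg.Agent.Lib.FormCongruence
import Cfsg.Agent.Lib.JordanTypeForms

/-!
Alternating forms invariant under a unipotent Jordan matrix, in odd characteristic: they are determined up to
the centraliser by the square classes of the determinants of the induced forms on the even multiplicity spaces.
-/

set_option autoImplicit false

namespace Cfsg.Agent.OrthUnitarySympUnipotent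

open Matrix Cfsg.Agent.JordanType Cfsg.Agent.S2581 Cfsg.Agent.HermitianFactor Cfsg.Agent.OrthUnitaryUnipotent
open Cfsg.Agent.FormCongruence

variable {F : Type*} [Field F] [Fintype F]

theorem ct_id {ι : Type*} (X : Matrix ι ι F) : ct (RingHom.id F) X = Xᵀ := by
  ext i j; simp [ct]

theorem isSquare_sq_mul {s : F} (hs : s ≠ 0) (x : F) : IsSquare (s ^ 2 * x) ↔ IsSquare x := by
  constructor
  · rintro ⟨r, hr⟩
    exact ⟨r / s, by field_simp; linear_combination hr⟩
  · rintro ⟨r, rfl⟩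
    exact ⟨s * r, by ring⟩

/-- symmetric matrices with determinants in the same square class are congruent -/
theorem congr_of_det (h2 : (2 : F) ≠ 0) {n : ℕ} {A B : Matrix (Fin n) (Fin n) F} (hA : Aᵀ = A) (hB : Bᵀ = B)
    (hAd : A.det ≠ 0) (hBd : B.det ≠ 0) (h : IsSquare A.det ↔ IsSquare B.det) :
    ∃ T : Matrix (Fin n) (Fin n) F, IsUnit T ∧ Tᵀ * A * T = B := by
  have fin : Congr B A → ∃ T : Matrix (Fin n) (Fin n) F, IsUnit T ∧ Tᵀ * A * T = B := by
    rintro ⟨T, T', h1, h2', h3⟩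
    exact ⟨T, ⟨⟨T, T', h1, h2'⟩, rfl⟩, h3.symm⟩
  rcases Nat.even_or_odd' n with ⟨m, rfl | rfl⟩
  · rcases Nat.eq_zero_or_pos m with rfl | hm
    · exact fin ⟨1, 1, one_mul _, one_mul _, by ext i; exact absurd i.2 (by simp)⟩
    obtain ⟨a, b, hab⟩ := exists_aniso h2
    have hdisc := disc_not_square h2 hab
    have h2d : ∀ M : Matrix (Fin (2 * m)) (Fin (2 * m)) F, ((2 : F) • M).det = (2 ^ m) ^ 2 * M.det := fun M => by
      rw [Matrix.det_smul, Fintype.card_fin, ← pow_mul, mul_comm m 2]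
    have h2m : (2 : F) ^ m ≠ 0 := pow_ne_zero _ h2
    have hclass : ∀ M : Matrix (Fin (2 * m)) (Fin (2 * m)) F, M.det ≠ 0 →
        Congr ((2 : F) • M) (pPlus m F) → (IsSquare M.det ↔ IsSquare ((-1 : F) ^ m)) := by
      intro M _ hM
      obtain ⟨s, hs, he⟩ := hM.det_eq
      rw [h2d, det_pPlus] at he
      rw [← isSquare_sq_mul h2m, he, isSquare_sq_mul hs]
    have hclass' : ∀ M : Matrix (Fin (2 * m)) (Fin (2 * m)) F, M.det ≠ 0 →
        Congr ((2 : F) • M) (pMinus (m - 1) F a b) → (IsSquare M.det ↔ ¬ IsSquare ((-1 : F) ^ m)) := by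
      intro M _ hM
      obtain ⟨s, hs, he⟩ := hM.det_eq
      rw [h2d, det_pMinus, Nat.sub_add_cancel hm] at he
      rw [← isSquare_sq_mul h2m, he, isSquare_sq_mul hs]
      have hd0 : a ^ 2 - 4 * b ≠ 0 := fun h0 => hdisc (h0 ▸ IsSquare.zero)
      constructor
      · intro h1 hp
        refine hdisc ?_
        have := h1.div hp
        rwa [mul_div_cancel_left₀ _ (pow_ne_zero _ (neg_ne_zero.2 one_ne_zero))] at this
      · intro h1
        exact isSquare_mul_of_not h2 h1 hdisc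
    have hcancel : ∀ {κ : Type} [Fintype κ] [DecidableEq κ] (N : Matrix κ κ F), Congr ((2 : F) • A) N →
        Congr ((2 : F) • B) N → Congr B A := by
      intro κ _ _ N hA' hB'
      have := (hB'.trans hA'.symm).smul (2 : F)⁻¹
      rwa [smul_smul, smul_smul, inv_mul_cancel₀ h2, one_smul, one_smul] at this
    rcases classify_even h2 rfl hab hA hAd with hA' | hA' <;> rcases classify_even h2 rfl hab hB hBd with hB' | hB'
    · exact fin (hcancel _ hA' hB')
    · exfalso; have := hclass A hAd hA'; have := hclass' B hBd hB'; tauto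
    · exfalso; have := hclass' A hAd hA'; have := hclass B hBd hB'; tauto
    · exact fin (hcancel _ hA' hB')
  · obtain ⟨u, hu, hA'⟩ := classify_odd h2 rfl hA hAd
    obtain ⟨v, hv, hB'⟩ := classify_odd h2 rfl hB hBd
    have huv : IsSquare u ↔ IsSquare v := by
      obtain ⟨s, hs, hAe⟩ := hA'.det_eq
      obtain ⟨r, hr, hBe⟩ := hB'.det_eq
      have hc : Fintype.card (Unit ⊕ (Fin m ⊕ Fin m)) = 2 * m + 1 := by simp; omega
      have key : ∀ x : F, x ≠ 0 → (IsSquare (x ^ (2 * m + 1) * (pOdd m F).det) ↔ IsSquare (x * (pOdd m F).det)) :=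
        fun x hx => by
          rw [show x ^ (2 * m + 1) * (pOdd m F).det = (x ^ m) ^ 2 * (x * (pOdd m F).det) by ring,
            isSquare_sq_mul (pow_ne_zero _ hx)]
      rw [hAe, hBe, Matrix.det_smul, Matrix.det_smul, hc, isSquare_sq_mul hs, isSquare_sq_mul hr, key u hu,
        key v hv] at h
      have hP : (pOdd m F).det ≠ 0 := by
        rw [det_pOdd]; exact mul_ne_zero h2 (pow_ne_zero _ (neg_ne_zero.2 one_ne_zero))
      by_cases hPs : IsSquare (pOdd m F).det
      · exact ⟨fun hx => by simpa [mul_div_cancel_right₀ _ hP] using (h.1 (hx.mul hPs)).div hPs,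
          fun hx => by simpa [mul_div_cancel_right₀ _ hP] using (h.2 (hx.mul hPs)).div hPs⟩
      · have key2 : ∀ x, x ≠ 0 → (IsSquare (x * (pOdd m F).det) ↔ ¬ IsSquare x) := fun x hx =>
          ⟨fun hx' hxs => hPs (by simpa [mul_div_cancel_left₀ _ hx] using hx'.div hxs),
            fun hxs => isSquare_mul_of_not h2 hxs hPs⟩
        rw [key2 u hu, key2 v hv] at h
        exact not_iff_not.1 h
    obtain ⟨w, hw⟩ : IsSquare (v / u) := by
      by_cases hus : IsSquare u
      · exact (huv.1 hus).div hus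
      · have hvs : ¬ IsSquare v := fun hvs => hus (huv.2 hvs)
        obtain ⟨w, hw⟩ := isSquare_mul_of_not h2 hvs hus
        exact ⟨w / u, by field_simp; linear_combination hw⟩
    have h1 : Congr B ((w * w) • A) := by
      have := hA'.symm.smul (v / u)
      rw [smul_smul, div_mul_cancel₀ _ hu, hw] at this
      exact hB'.trans this
    have hw0 : w ≠ 0 := fun h0 => by simp [h0, hv, hu] at hw
    have h2' : Congr ((w * w) • A) A :=
      ⟨w • (1 : Matrix _ _ F), w⁻¹ • (1 : Matrix _ _ F), by simp [smul_smul, hw0], by simp [smul_smul, hw0],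
        by simp [smul_smul]⟩
    exact fin (h1.trans h2')

/-- alternating matrices of the same size are congruent, and the size is even -/
theorem congr_alt (h2 : (2 : F) ≠ 0) {n : ℕ} {A B : Matrix (Fin n) (Fin n) F} (hA : Aᵀ = -A) (hB : Bᵀ = -B)
    (hAd : A.det ≠ 0) (hBd : B.det ≠ 0) :
    Even n ∧ ∃ T : Matrix (Fin n) (Fin n) F, IsUnit T ∧ Tᵀ * A * T = B := by
  have h0 : ∀ M : Matrix (Fin n) (Fin n) F, Mᵀ = -M → ∀ v, v ⬝ᵥ (M *ᵥ v) = 0 := fun M hM v =>
    alt_dot M hM (fun i => by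
      have h := congrFun (congrFun hM i) i
      simp only [Matrix.transpose_apply, Matrix.neg_apply] at h
      have : (2 : F) * M i i = 0 := by linear_combination h
      exact (mul_eq_zero.1 this).resolve_left h2) v
  obtain ⟨m, hm, hA'⟩ := classify_alt (h0 A hA) hAd
  obtain ⟨m', hm', hB'⟩ := classify_alt (h0 B hB) hBd
  obtain rfl : m = m' := by omega
  obtain ⟨T, T', h1, h2', h3⟩ := hB'.trans hA'.symm
  exact ⟨⟨m, by omega⟩, T, ⟨⟨T, T', h1, h2'⟩, rfl⟩, h3.symm⟩

variable {t : ℕ} {d : Fin t → ℕ}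

/-- an alternating nondegenerate form invariant under the Jordan matrix -/
structure IsForm (G : Matrix (Ix d) (Ix d) F) : Prop where
  skew : Gᵀ = -G
  unit : IsUnit G
  inv : (1 + sh d F 1)ᵀ * G * (1 + sh d F 1) = G

theorem IsForm.hG {G : Matrix (Ix d) (Ix d) F} (h : IsForm G) : ct (RingHom.id F) G = (-1 : F) • G := by
  rw [ct_id, h.skew, neg_one_smul]

theorem IsForm.hJ {G : Matrix (Ix d) (Ix d) F} (h : IsForm G) :
    ct (RingHom.id F) (1 + sh d F 1) * G * (1 + sh d F 1) = G := by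
  rw [ct_id, h.inv]

theorem IsForm.isUnit_blockH {G : Matrix (Ix d) (Ix d) F} (h : IsForm G) (hd : ∀ k, 1 ≤ d k) (j : ℕ) :
    IsUnit (blockH G j) :=
  OrthUnitaryUnipotent.isUnit_blockH (neg_ne_zero.2 one_ne_zero) hd h.hJ h.hG h.unit j

theorem IsForm.det_ne {G : Matrix (Ix d) (Ix d) F} (h : IsForm G) (hd : ∀ k, 1 ≤ d k) (j : ℕ) :
    (blockH G j).det ≠ 0 := ((Matrix.isUnit_iff_isUnit_det _).1 (h.isUnit_blockH hd j)).ne_zero

theorem IsForm.transpose_blockH {G : Matrix (Ix d) (Ix d) F} (h : IsForm G) (hd : ∀ k, 1 ≤ d k) (j : ℕ) :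
    (blockH G j)ᵀ = ((-1 : F) * (-1) ^ (j - 1)) • blockH G j := by
  rw [← ct_id, OrthUnitaryUnipotent.ct_blockH hd h.hJ h.hG j]

theorem IsForm.symm_of_even {G : Matrix (Ix d) (Ix d) F} (h : IsForm G) (hd : ∀ k, 1 ≤ d k) {j : ℕ} (hj : Even j) :
    (blockH G j)ᵀ = blockH G j := by
  rcases Nat.eq_zero_or_pos j with rfl | hj0
  · haveI : IsEmpty (Fin (cnt d 0)) := ⟨fun x => by have := (fe d 0 x).2; have := hd (fe d 0 x).1; omega⟩
    exact Subsingleton.elim _ _
  · rw [h.transpose_blockH hd, ← pow_succ', Nat.sub_add_cancel hj0, hj.neg_one_pow, one_smul]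

theorem IsForm.skew_of_odd {G : Matrix (Ix d) (Ix d) F} (h : IsForm G) (hd : ∀ k, 1 ≤ d k) {j : ℕ} (hj : Odd j) :
    (blockH G j)ᵀ = -blockH G j := by
  rw [h.transpose_blockH hd, ← pow_succ', Nat.sub_add_cancel hj.pos, hj.neg_one_pow, neg_one_smul]

theorem IsForm.even_cnt (h2 : (2 : F) ≠ 0) {G : Matrix (Ix d) (Ix d) F} (h : IsForm G) (hd : ∀ k, 1 ≤ d k) {j : ℕ}
    (hj : Odd j) : Even (cnt d j) :=
  (congr_alt h2 (h.skew_of_odd hd hj) (h.skew_of_odd hd hj) (h.det_ne hd j) (h.det_ne hd j)).1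

/-- the blocks of a transported form -/
theorem blockH_congr (hd : ∀ k, 1 ≤ d k) {G a : Matrix (Ix d) (Ix d) F} (hG : IsForm G) (ha : a ∈ comm d F)
    (j : ℕ) : blockH (aᵀ * G * a) j = (bl hd a j)ᵀ * blockH G j * bl hd a j := by
  obtain ⟨Gu, hGu⟩ := hG.unit
  let Gi : Matrix (Ix d) (Ix d) F := ((Gu⁻¹ : (Matrix (Ix d) (Ix d) F)ˣ) : Matrix (Ix d) (Ix d) F)
  have hGGi : G * Gi = 1 := by rw [← hGu]; exact Gu.mul_inv
  let b := Gi * aᵀ * G
  have hGb : G * b = aᵀ * G := by simp only [b, ← mul_assoc, hGGi, one_mul]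
  have hb : b ∈ comm d F := by
    rw [mem_comm]
    have hN := mem_comm.1 ha
    have hu : IsUnit ((1 + sh d F 1)ᵀ * G) := by
      refine IsUnit.of_mul_eq_one ((1 + sh d F 1) * Gi) ?_
      rw [← mul_assoc, hG.inv, hGGi]
    have : b * (1 + sh d F 1) = (1 + sh d F 1) * b := by
      refine hu.mul_left_cancel ?_
      calc (1 + sh d F 1)ᵀ * G * (b * (1 + sh d F 1)) = (1 + sh d F 1)ᵀ * (G * b) * (1 + sh d F 1) := by
            simp only [mul_assoc]
        _ = (a * (1 + sh d F 1))ᵀ * G * (1 + sh d F 1) := by rw [hGb, Matrix.transpose_mul]; simp only [mul_assoc]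
        _ = aᵀ * ((1 + sh d F 1)ᵀ * G * (1 + sh d F 1)) := by
            rw [show a * (1 + sh d F 1) = (1 + sh d F 1) * a by rw [mul_add, add_mul, hN, one_mul, mul_one],
              Matrix.transpose_mul]
            simp only [mul_assoc]
        _ = G * b := by rw [hG.inv, hGb]
        _ = (1 + sh d F 1)ᵀ * G * (1 + sh d F 1) * b := by rw [hG.inv]
        _ = (1 + sh d F 1)ᵀ * G * ((1 + sh d F 1) * b) := by simp only [mul_assoc]
    rwa [mul_add, add_mul, mul_one, one_mul, add_right_inj] at this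
  rw [← hGb, mul_assoc, blockH_mul (neg_ne_zero.2 one_ne_zero) hd hG.hJ hG.hG (mul_mem hb ha), bl_mul hd hb ha,
    ← mul_assoc]
  congr 1
  have := adjoint_bl (neg_ne_zero.2 one_ne_zero) hd hG.hJ hG.hG ha hb (by rw [hGb, ct_id]) j
  rw [ct_id] at this
  exact this.symm

/-- transporting by the centraliser keeps the square classes -/
theorem isSquare_iff_of_congr (hd : ∀ k, 1 ≤ d k) {G a : Matrix (Ix d) (Ix d) F} (hG : IsForm G) (ha : a ∈ comm d F)
    (hau : IsUnit a) (j : ℕ) : IsSquare (blockH (aᵀ * G * a) j).det ↔ IsSquare (blockH G j).det := by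
  obtain ⟨u, hu⟩ := hau
  have hi : ((u⁻¹ : (Matrix (Ix d) (Ix d) F)ˣ) : Matrix (Ix d) (Ix d) F) ∈ comm d F :=
    inv_mem_of_finite _ u (hu ▸ ha)
  have h1 : (bl hd a j).det * (bl hd ((u⁻¹ : (Matrix (Ix d) (Ix d) F)ˣ) : Matrix (Ix d) (Ix d) F) j).det = 1 := by
    rw [← Matrix.det_mul, ← bl_mul hd ha hi, ← hu, u.mul_inv, bl_one, Matrix.det_one]
  rw [blockH_congr hd hG ha, Matrix.det_mul, Matrix.det_mul, Matrix.det_transpose,
    show (bl hd a j).det * (blockH G j).det * (bl hd a j).det = (bl hd a j).det ^ 2 * (blockH G j).det by ring,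
    isSquare_sq_mul (left_ne_zero_of_mul_eq_one h1)]

/-- odd order of the unipotent part gives square roots inside the commutant -/
theorem exists_sqrt (hF : Odd (Fintype.card F)) (hd : ∀ k, 1 ≤ d k) {h : Matrix (Ix d) (Ix d) F}
    (hh : h ∈ comm d F) (hb : ∀ j, bl hd h j = 1) : ∃ k : ℕ, (h ^ k) * (h ^ k) = h := by
  classical
  let S : Subgroup (Matrix (Ix d) (Ix d) F)ˣ :=
    { carrier := {u | (u : Matrix (Ix d) (Ix d) F) ∈ comm d F ∧ ∀ j, bl hd (u : Matrix (Ix d) (Ix d) F) j = 1}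
      one_mem' := ⟨one_mem _, bl_one hd⟩
      mul_mem' := fun {x y} hx hy => ⟨mul_mem hx.1 hy.1, fun j => by
        rw [Units.val_mul, bl_mul hd hx.1 hy.1, hx.2, hy.2, one_mul]⟩
      inv_mem' := fun {x} hx => by
        have hi := inv_mem_of_finite (comm d F) x hx.1
        refine ⟨hi, fun j => ?_⟩
        have := congrArg (fun X => bl hd X j) x.inv_mul
        rwa [bl_mul hd hi hx.1, bl_one, hx.2, mul_one] at this }
  have hu : IsUnit h := isUnit_of_bl hd hh fun j => by rw [hb]; exact isUnit_one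
  have hcard : Nat.card S = Fintype.card F ^ gam d := by
    rw [← card_rad (K := F) rfl hd]
    exact Nat.card_congr
      { toFun := fun u => ⟨(u.1 : Matrix (Ix d) (Ix d) F) - 1, sub_mem u.2.1 (one_mem _), fun j => by
          rw [bl_sub, u.2.2, bl_one, sub_self]⟩
        invFun := fun Y =>
          ⟨(isUnit_of_bl hd (add_mem Y.2.1 (one_mem _)) fun j => by
              rw [bl_add, Y.2.2, bl_one, zero_add]; exact isUnit_one).unit,
            show _ ∧ _ by
              simp only [IsUnit.unit_spec]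
              exact ⟨add_mem Y.2.1 (one_mem _), fun j => by rw [bl_add, Y.2.2, bl_one, zero_add]⟩⟩
        left_inv := fun u => Subtype.ext (Units.ext (by simp))
        right_inv := fun Y => Subtype.ext (by simp) }
  have hodd : Odd (Nat.card S) := by rw [hcard]; exact hF.pow
  let x : S := ⟨hu.unit, by
    show _ ∧ _
    simp only [IsUnit.unit_spec]
    exact ⟨hh, hb⟩⟩
  obtain ⟨r, hr⟩ := hodd
  refine ⟨r + 1, ?_⟩
  rw [← pow_add, show r + 1 + (r + 1) = Nat.card S + 1 by omega]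
  have := congrArg (fun y : S => ((y.1 : (Matrix (Ix d) (Ix d) F)ˣ) : Matrix (Ix d) (Ix d) F)) (pow_card_eq_one' (x := x))
  simp only [SubmonoidClass.coe_pow, Units.val_pow_eq_pow_val, OneMemClass.coe_one, Units.val_one, x,
    IsUnit.unit_spec] at this
  rw [pow_succ, this, one_mul]

/-- forms with the same invariants are congruent under the centraliser -/
theorem exists_congr (h2 : (2 : F) ≠ 0) (hF : Odd (Fintype.card F)) (hd : ∀ k, 1 ≤ d k)
    {G G' : Matrix (Ix d) (Ix d) F} (hG : IsForm G) (hG' : IsForm G')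
    (h : ∀ j, Even j → (IsSquare (blockH G' j).det ↔ IsSquare (blockH G j).det)) :
    ∃ a ∈ comm d F, IsUnit a ∧ aᵀ * G' * a = G := by
  have hT : ∀ j, ∃ T : Matrix (Fin (cnt d j)) (Fin (cnt d j)) F, IsUnit T ∧ Tᵀ * blockH G' j * T = blockH G j := by
    intro j
    rcases Nat.even_or_odd j with hj | hj
    · exact congr_of_det h2 (hG'.symm_of_even hd hj) (hG.symm_of_even hd hj) (hG'.det_ne hd j) (hG.det_ne hd j) (h j hj)
    · exact (congr_alt h2 (hG'.skew_of_odd hd hj) (hG.skew_of_odd hd hj) (hG'.det_ne hd j) (hG.det_ne hd j)).2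
  choose T hTu hT using hT
  obtain ⟨a, ha, hab⟩ := exists_lift hd T
  have hau : IsUnit a := isUnit_of_bl hd ha fun j => by rw [hab]; exact hTu j
  have hN := mem_comm.1 ha
  have haJ : a * (1 + sh d F 1) = (1 + sh d F 1) * a := by rw [mul_add, add_mul, hN, one_mul, mul_one]
  let G'' := aᵀ * G' * a
  have hG'' : IsForm G'' := by
    refine ⟨?_, (((Matrix.isUnit_transpose a).2 hau).mul hG'.unit).mul hau, ?_⟩
    · simp only [G'', Matrix.transpose_mul, Matrix.transpose_transpose, hG'.skew, neg_mul, mul_neg, mul_assoc]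
    · calc (1 + sh d F 1)ᵀ * (aᵀ * G' * a) * (1 + sh d F 1)
          = (a * (1 + sh d F 1))ᵀ * G' * (a * (1 + sh d F 1)) := by rw [Matrix.transpose_mul]; simp only [mul_assoc]
        _ = aᵀ * ((1 + sh d F 1)ᵀ * G' * (1 + sh d F 1)) * a := by
          rw [haJ, Matrix.transpose_mul]; simp only [mul_assoc]
        _ = _ := by rw [hG'.inv]
  have hbl : ∀ j, blockH G'' j = blockH G j := fun j => by rw [blockH_congr hd hG' ha, hab, hT]
  obtain ⟨Gu, hGu⟩ := hG.unit
  let Gi : Matrix (Ix d) (Ix d) F := ((Gu⁻¹ : (Matrix (Ix d) (Ix d) F)ˣ) : Matrix (Ix d) (Ix d) F)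
  have hGGi : G * Gi = 1 := by rw [← hGu]; exact Gu.mul_inv
  let k := Gi * G''
  have hGk : G * k = G'' := by simp only [k, ← mul_assoc, hGGi, one_mul]
  have hJu : IsUnit ((1 + sh d F 1)ᵀ * G) := by
    refine IsUnit.of_mul_eq_one ((1 + sh d F 1) * Gi) ?_
    rw [← mul_assoc, hG.inv, hGGi]
  have hk : k ∈ comm d F := by
    rw [mem_comm]
    have : k * (1 + sh d F 1) = (1 + sh d F 1) * k := by
      refine hJu.mul_left_cancel ?_
      calc (1 + sh d F 1)ᵀ * G * (k * (1 + sh d F 1)) = (1 + sh d F 1)ᵀ * (G * k) * (1 + sh d F 1) := by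
            simp only [mul_assoc]
        _ = G * k := by rw [hGk, hG''.inv]
        _ = (1 + sh d F 1)ᵀ * G * (1 + sh d F 1) * k := by rw [hG.inv]
        _ = (1 + sh d F 1)ᵀ * G * ((1 + sh d F 1) * k) := by simp only [mul_assoc]
    rwa [mul_add, add_mul, mul_one, one_mul, add_right_inj] at this
  have hkb : ∀ j, bl hd k j = 1 := fun j => by
    refine (hG.isUnit_blockH hd j).mul_left_cancel ?_
    rw [← blockH_mul (neg_ne_zero.2 one_ne_zero) hd hG.hJ hG.hG hk, hGk, hbl, mul_one]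
  obtain ⟨e, he⟩ := exists_sqrt hF hd hk hkb
  have hkT : kᵀ * G = G * k := by
    have h1 : (G * k)ᵀ = -(G * k) := by rw [hGk, hG''.skew]
    rw [Matrix.transpose_mul, hG.skew, mul_neg, neg_inj] at h1
    exact h1
  have hse : (k ^ e)ᵀ * G = G * k ^ e := by
    clear he
    induction e with
    | zero => simp
    | succ e ih =>
      rw [pow_succ, Matrix.transpose_mul, mul_assoc, ih, ← mul_assoc, hkT, mul_assoc, ← pow_succ', ← pow_succ]
  have hsu : IsUnit (k ^ e) := (isUnit_of_bl hd hk fun j => by rw [hkb]; exact isUnit_one).pow e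
  obtain ⟨su, hsu'⟩ := hsu
  let si : Matrix (Ix d) (Ix d) F := ((su⁻¹ : (Matrix (Ix d) (Ix d) F)ˣ) : Matrix (Ix d) (Ix d) F)
  have hssi : k ^ e * si = 1 := by rw [← hsu']; exact su.mul_inv
  have hsim : si ∈ comm d F := inv_mem_of_finite _ su (by rw [hsu']; exact pow_mem hk e)
  have hsG : (k ^ e)ᵀ * G * k ^ e = G'' := by rw [hse, mul_assoc, he, hGk]
  refine ⟨a * si, mul_mem ha hsim, hau.mul (su⁻¹).isUnit, ?_⟩
  calc (a * si)ᵀ * G' * (a * si) = siᵀ * G'' * si := by
        simp only [G'', Matrix.transpose_mul, mul_assoc]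
    _ = (k ^ e * si)ᵀ * G * (k ^ e * si) := by
        rw [← hsG, Matrix.transpose_mul]; simp only [mul_assoc]
    _ = G := by rw [hssi, Matrix.transpose_one, one_mul, mul_one]

/-- every choice of square classes occurs -/
theorem exists_form (h2 : (2 : F) ≠ 0) (hd : ∀ k, 1 ≤ d k) (hpar : ∀ j, Odd j → Even (cnt d j)) (u : ℕ → F)
    (hu : ∀ j, u j ≠ 0) :
    ∃ G : Matrix (Ix d) (Ix d) F, IsForm G ∧
      ∀ j, Even j → 0 < cnt d j → (IsSquare (blockH G j).det ↔ IsSquare (u j)) := by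
  classical
  obtain ⟨π, hπ, hdπ, hP⟩ := exists_pairing d (fun j => Even j) fun j hj => hpar j (Nat.not_even_iff_odd.1 hj)
  have hK : ∀ a, π a = a → IsTable (d a) (altTable F (d a)) := fun a ha => altTable_table (hP a ha)
  have hε : (-1 : F) ≠ 0 := neg_ne_zero.2 one_ne_zero
  let G0 := JordanType.gram d π (altTable F) (-1)
  have hG0 : IsForm G0 := by
    refine ⟨?_, ?_, ?_⟩
    · ext p q
      simp only [G0, Matrix.transpose_apply, Matrix.neg_apply, JordanType.gram, Matrix.of_apply]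
      rw [gTab_swap hπ (by ring : (-1 : F) * -1 = 1) (fun e i j => by rw [altTable_swap, neg_one_mul]), neg_one_mul]
    · rw [← Matrix.mulVec_injective_iff_isUnit]
      intro v w hvw
      exact sub_eq_zero.1 (gram_mulVec_injective hπ hdπ hK hε (by rw [Matrix.mulVec_sub, hvw, sub_self]))
    · have := gram_invariant hπ hdπ hK hε
      rw [jordanTypeMatrix_eq] at this
      exact this
  let D : ∀ j, Matrix (Fin (cnt d j)) (Fin (cnt d j)) F := fun j =>
    Matrix.diagonal fun x => if (x : ℕ) = 0 then u j else 1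
  let X : ∀ j, Matrix (Fin (cnt d j)) (Fin (cnt d j)) F := fun j =>
    if Even j then (blockH G0 j)⁻¹ * D j else 1
  have hdet0 : ∀ j, IsUnit (blockH G0 j).det := fun j => (Matrix.isUnit_iff_isUnit_det _).1 (hG0.isUnit_blockH hd j)
  have hX : ∀ j, IsUnit (X j) ∧ (X j)ᵀ * blockH G0 j = blockH G0 j * X j := by
    intro j
    by_cases hj : Even j
    · simp only [X, if_pos hj]
      refine ⟨((Matrix.isUnit_nonsing_inv_iff.2 (hG0.isUnit_blockH hd j))).mul ?_, ?_⟩
      · rw [Matrix.isUnit_iff_isUnit_det, Matrix.det_diagonal, isUnit_iff_ne_zero, Finset.prod_ne_zero_iff]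
        intro x _
        split_ifs
        exacts [hu j, one_ne_zero]
      · rw [Matrix.transpose_mul, Matrix.transpose_nonsing_inv, hG0.symm_of_even hd hj, mul_assoc,
          Matrix.nonsing_inv_mul _ (hdet0 j), mul_one, ← mul_assoc, Matrix.mul_nonsing_inv _ (hdet0 j), one_mul,
          Matrix.diagonal_transpose]
    · simp only [X, if_neg hj]
      exact ⟨isUnit_one, by rw [Matrix.transpose_one, one_mul, mul_one]⟩
  obtain ⟨a, ha, hab⟩ := exists_lift hd X
  obtain ⟨Gu, hGu⟩ := hG0.unit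
  let Gi : Matrix (Ix d) (Ix d) F := ((Gu⁻¹ : (Matrix (Ix d) (Ix d) F)ˣ) : Matrix (Ix d) (Ix d) F)
  have hGGi : G0 * Gi = 1 := by rw [← hGu]; exact Gu.mul_inv
  let b := Gi * aᵀ * G0
  have hGb : G0 * b = aᵀ * G0 := by simp only [b, ← mul_assoc, hGGi, one_mul]
  let h := (2 : F)⁻¹ • (a + b)
  have hJu : IsUnit ((1 + sh d F 1)ᵀ * G0) := by
    refine IsUnit.of_mul_eq_one ((1 + sh d F 1) * Gi) ?_
    rw [← mul_assoc, hG0.inv, hGGi]
  have haJ : a * (1 + sh d F 1) = (1 + sh d F 1) * a := by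
    rw [mul_add, add_mul, mem_comm.1 ha, one_mul, mul_one]
  have hb : b ∈ comm d F := by
    rw [mem_comm]
    have : b * (1 + sh d F 1) = (1 + sh d F 1) * b := by
      refine hJu.mul_left_cancel ?_
      calc (1 + sh d F 1)ᵀ * G0 * (b * (1 + sh d F 1)) = (1 + sh d F 1)ᵀ * (G0 * b) * (1 + sh d F 1) := by
            simp only [mul_assoc]
        _ = (a * (1 + sh d F 1))ᵀ * G0 * (1 + sh d F 1) := by rw [hGb, Matrix.transpose_mul]; simp only [mul_assoc]
        _ = aᵀ * ((1 + sh d F 1)ᵀ * G0 * (1 + sh d F 1)) := by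
            rw [haJ, Matrix.transpose_mul]; simp only [mul_assoc]
        _ = G0 * b := by rw [hG0.inv, hGb]
        _ = (1 + sh d F 1)ᵀ * G0 * (1 + sh d F 1) * b := by rw [hG0.inv]
        _ = (1 + sh d F 1)ᵀ * G0 * ((1 + sh d F 1) * b) := by simp only [mul_assoc]
    rwa [mul_add, add_mul, mul_one, one_mul, add_right_inj] at this
  have hh : h ∈ comm d F := (comm d F).smul_mem (add_mem ha hb) _
  have hblh : ∀ j, bl hd h j = X j := by
    intro j
    refine (hG0.isUnit_blockH hd j).mul_left_cancel ?_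
    have h1 := adjoint_bl (neg_ne_zero.2 one_ne_zero) hd hG0.hJ hG0.hG ha hb (by rw [hGb, ct_id]) j
    rw [ct_id, hab, (hX j).2] at h1
    simp only [h, bl_smul, bl_add, hab, Matrix.mul_smul, mul_add, ← h1]
    rw [← two_smul F, smul_smul, inv_mul_cancel₀ h2, one_smul]
  refine ⟨G0 * h, ⟨?_, hG0.unit.mul (isUnit_of_bl hd hh fun j => by rw [hblh]; exact (hX j).1), ?_⟩, ?_⟩
  · have hbT : bᵀ * G0 = G0 * a := by
      have := congrArg Matrix.transpose hGb
      rw [Matrix.transpose_mul G0 b, Matrix.transpose_mul aᵀ G0, Matrix.transpose_transpose, hG0.skew, mul_neg, neg_mul,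
        neg_inj] at this
      exact this
    rw [Matrix.transpose_mul, hG0.skew, mul_neg]
    simp only [h, Matrix.transpose_smul, Matrix.transpose_add, Matrix.smul_mul, Matrix.mul_smul, add_mul, mul_add,
      hbT, ← hGb]
    rw [add_comm]
  · have hhJ : h * (1 + sh d F 1) = (1 + sh d F 1) * h := by
      rw [mul_add, add_mul, mem_comm.1 hh, one_mul, mul_one]
    calc (1 + sh d F 1)ᵀ * (G0 * h) * (1 + sh d F 1) = (1 + sh d F 1)ᵀ * G0 * (h * (1 + sh d F 1)) := by
          simp only [mul_assoc]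
      _ = (1 + sh d F 1)ᵀ * G0 * (1 + sh d F 1) * h := by rw [hhJ]; simp only [mul_assoc]
      _ = _ := by rw [hG0.inv]
  · intro j hj hc
    rw [blockH_mul (neg_ne_zero.2 one_ne_zero) hd hG0.hJ hG0.hG hh, hblh]
    simp only [X, if_pos hj]
    rw [← mul_assoc, Matrix.mul_nonsing_inv _ (hdet0 j), one_mul, Matrix.det_diagonal,
      Finset.prod_eq_single (⟨0, hc⟩ : Fin (cnt d j))]
    · simp
    · intro x _ hx
      rw [if_neg]
      exact fun h => hx (Fin.ext h)
    · simp

end Cfsg.Agent.OrthUnitarySympUnipotent
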