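/-
The small exceptional cases of Aschbacher's theorem for the three-dimensional unitary groups: over 9 and 25
elements certain geometric stabilisers lie in larger subgroups.
-/
import Cfsg.Agent.Lib.OrthUnitarySUThreeData
import Cfsg.Agent.Lib.OrthUnitarySympUnipotentForms

set_option autoImplicit false
set_option maxHeartbeats 1000000
set_option maxRecDepth 100000

namespace Cfsg.Agent.OrthUnitarySUThreeExc

open scoped Matrix
open Cfsg Cfsg.Geo Cfsg.Agent.AschPrimeBasic Cfsg.Agent.AschPrimeUnitaryProper Cfsg.Agent.AschPrimeUnitary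
  Cfsg.Agent.OrthUnitarySUThreeCode Cfsg.Agent.OrthUnitarySUThreeData
open Cfsg.Agent.OrthUnitaryHerm (IsU)
open Cfsg.Agent.AschPrimeForms (map_mul_map)

variable {F : Type*} [Field F] [Fintype F] {p : ℕ} {t : F}

/-! ### Generalities -/

omit [Fintype F] in
lemma conj_su {q : ℕ} {U g : GL (Fin 3) F} (hU : U ∈ Cfsg.GU 3 F q) (hg : g ∈ suGL 3 F q) :
    U * g * U⁻¹ ∈ suGL 3 F q := by
  refine ⟨(Cfsg.GU 3 F q).mul_mem ((Cfsg.GU 3 F q).mul_mem hU hg.1) ((Cfsg.GU 3 F q).inv_mem hU), ?_⟩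
  exact conj_mem_sl _ _ hg.2

omit [Fintype F] in
lemma conj_maximal {q : ℕ} {H : Subgroup (GL (Fin 3) F)} (hH : IsMaximalIn (suGL 3 F q) H) {U : GL (Fin 3) F}
    (hU : U ∈ Cfsg.GU 3 F q) :
    IsMaximalIn (suGL 3 F q) (H.map (MulAut.conj U⁻¹).toMonoidHom) :=
  isMaximalIn_conj hH (fun k hk => conj_su ((Cfsg.GU 3 F q).inv_mem hU) hk)
    fun k hk => by simpa using conj_su hU hk

omit [Fintype F] in
lemma mem_conj {H : Subgroup (GL (Fin 3) F)} {U g : GL (Fin 3) F} :
    g ∈ H.map (MulAut.conj U⁻¹).toMonoidHom ↔ ∃ h ∈ H, U⁻¹ * h * U = g := by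
  simp [Subgroup.mem_map, MulAut.conj_apply]

lemma φM_ofCols (u v w : V3) (r c : Fin 3) :
    φM p t (ofCols u v w) r c = ![φV p t u, φV p t v, φV p t w] c r := by
  rw [ofCols, φM_trM]
  fin_cases r <;> fin_cases c <;> rfl

lemma φV_ev (a : ℕ) (i : Fin 3) : φV p t (ev i a) = Pi.single i (φ p t a) := by
  funext r
  fin_cases i <;> fin_cases r <;> simp [ev, φV, φ_zero]

lemma φV_ev' (a : ℕ) (i r : Fin 3) : φV p t (ev i a) r = if r = i then φ p t a else 0 := by
  fin_cases i <;> fin_cases r <;> simp [ev, φV, φ_zero]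

lemma φM_monA (i j k : Fin 3) (a b c : ℕ) (r s : Fin 3) :
    φM p t (monA i j k a b c) r s = if r = ![i, j, k] s then ![φ p t a, φ p t b, φ p t c] s else 0 := by
  rw [monA, φM_ofCols]
  fin_cases s <;> simp [φV_ev']
  all_goals exact if_congr Iff.rfl rfl rfl

lemma mul_ofCols (h : Code p t) {g : Matrix (Fin 3) (Fin 3) F} {u v w u' v' w' : V3}
    (hu : g *ᵥ φV p t u = φV p t u') (hv : g *ᵥ φV p t v = φV p t v') (hw : g *ᵥ φV p t w = φV p t w') :
    g * φM p t (ofCols u v w) = φM p t (ofCols u' v' w') := by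
  have := h.prime
  ext r c
  rw [φM_ofCols, Matrix.mul_apply]
  simp only [φM_ofCols]
  fin_cases c
  · exact congrFun hu r
  · exact congrFun hv r
  · exact congrFun hw r

lemma φM_pw (h : Code p t) (A : M3) : ∀ k : ℕ, φM p t (pw p A k) = φM p t A ^ k
  | 0 => by rw [pw, h.φM_one, pow_zero]
  | k + 1 => by rw [pw, h.φM_mm, φM_pw h A k, pow_succ]

lemma φ_traceA (h : Code p t) (A : M3) : φ p t (traceA p A) = (φM p t A).trace := by
  simp [traceA, h.φ_ad, Matrix.trace_fin_three, φM, φV]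

lemma ne_zero_of_cn (h : Code p t) {x : ℕ} (hx : (cn p x != 0) = true) : φ p t x ≠ 0 := by
  intro e
  have := h.cn_eq (y := 0) (by rw [e, φ_zero])
  rw [this] at hx
  simp [cn] at hx

/-! ### The orthogonal frame over 25 elements -/

lemma not_frame (h : Code 5 t) {H : Subgroup (GL (Fin 3) F)} (hH : IsMaximalIn (suGL 3 F 5) H)
    {D : Fin 3 → Submodule F (Fin 3 → F)} (hD : IsNondegenerateMDecomposition (hermForm 3 F 5) 1 D)
    (hle : H ≤ decompositionStabilizer D) : False := by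
  classical
  have hF := h.card
  -- an orthonormal basis adapted to the frame
  have hv : ∀ i, ∃ v ∈ D i, hermForm 3 F 5 v v = 1 ∧ ∀ x ∈ D i, ∃ c : F, x = c • v := by
    intro i
    obtain ⟨w, hw0, hsp⟩ := (finrank_eq_one_iff' (K := F) (V := D i)).1 (hD.decomp.finrank_eq i)
    have hw : (w : Fin 3 → F) ≠ 0 := fun e => hw0 (Subtype.ext e)
    obtain ⟨⟨x, hx, hne⟩, -⟩ := hD.nondegenerate i _ w.2 hw
    obtain ⟨c, hc⟩ := hsp ⟨x, hx⟩
    have hc' : x = c • (w : Fin 3 → F) := by simpa using (congrArg Subtype.val hc).symm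
    have hww : hermForm 3 F 5 (w : Fin 3 → F) w ≠ 0 := fun e => hne (by
      rw [hc', OrthUnitaryHerm.herm_smul_left, e, mul_zero])
    obtain ⟨e, he⟩ := OrthUnitaryHerm.exists_norm_eq hF (OrthUnitaryHerm.herm_self_pow hF (w : Fin 3 → F))
    have he0 : e ≠ 0 := fun h0 => hww (by rw [← he, h0]; simp)
    refine ⟨e⁻¹ • (w : Fin 3 → F), (D i).smul_mem _ w.2, ?_, fun y hy => ?_⟩
    · rw [OrthUnitaryHerm.herm_smul_left, OrthUnitaryHerm.herm_smul_right, ← mul_assoc, ← he, inv_pow]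
      field_simp
      first | done | ring
    · obtain ⟨d, hd⟩ := hsp ⟨y, hy⟩
      refine ⟨d * e, ?_⟩
      rw [smul_smul, mul_assoc, mul_inv_cancel₀ he0, mul_one]
      simpa using (congrArg Subtype.val hd).symm
  choose v hvD hv1 hvs using hv
  let M : Matrix (Fin 3) (Fin 3) F := Matrix.of fun r c => v c r
  have hM : Mᵀ * M.map (fr hF) = 1 := by
    ext i j
    have e : (Mᵀ * M.map (fr hF)) i j = hermForm 3 F 5 (v i) (v j) := by
      simp [Matrix.mul_apply, M, hermForm]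
    rw [e, Matrix.one_apply]
    split_ifs with hij
    · rw [hij, hv1]
    · exact hD.orthogonal _ _ hij _ (hvD i) _ (hvD j)
  obtain ⟨U, hU, hUv⟩ : ∃ U ∈ Cfsg.GU 3 F 5, (U : Matrix (Fin 3) (Fin 3) F) = M :=
    ⟨_, (OrthUnitaryHerm.mkGU hF _ (h.isU_of_gram hM)).2, OrthUnitaryHerm.mkGU_coe _ _ _⟩
  have hUe : ∀ i, (U : Matrix (Fin 3) (Fin 3) F) *ᵥ Pi.single i 1 = v i := fun i => by
    rw [hUv, Matrix.mulVec_single_one]; rfl
  -- the conjugate consists of monomial matrices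
  have hmono : ∀ g ∈ H.map (MulAut.conj U⁻¹).toMonoidHom, ∃ (σ : Equiv.Perm (Fin 3)) (d : Fin 3 → F),
      ∀ r c, (g : Matrix (Fin 3) (Fin 3) F) r c = if r = σ c then d c else 0 := by
    intro g hg
    obtain ⟨x, hx, rfl⟩ := mem_conj.1 hg
    obtain ⟨σ, hσ⟩ := hle hx
    have hcol : ∀ c, ∃ d : F, (x : Matrix (Fin 3) (Fin 3) F) *ᵥ v c = d • v (σ c) := fun c =>
      hvs (σ c) _ (hσ c ▸ ⟨v c, hvD c, rfl⟩)
    choose d hd using hcol
    refine ⟨σ, d, fun r c => ?_⟩
    have e : ((U⁻¹ * x * U : GL (Fin 3) F) : Matrix (Fin 3) (Fin 3) F) *ᵥ Pi.single c 1 =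
        d c • Pi.single (σ c) 1 := by
      rw [Units.val_mul, Units.val_mul, ← Matrix.mulVec_mulVec, ← Matrix.mulVec_mulVec, hUe, hd,
        Matrix.mulVec_smul, ← hUe, inv_mulVec_mulVec]
    have := congrFun e r
    rw [Matrix.mulVec_single_one, Matrix.col_apply, Pi.smul_apply, Pi.single_apply, smul_eq_mul] at this
    rw [this]
    split_ifs <;> simp
  have hH' := conj_maximal hH hU
  have hw := frame5_wit
  rw [Bool.and_eq_true] at hw
  have hm := moved1
  rw [Bool.and_eq_true] at hm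
  refine h.absurd_overgroup hH' (S := s1) ?_ hm.1 hm.2 nonzero1 hw.1 hw.2 ?_
  · intro g hg
    obtain ⟨σ, d, hgd⟩ := hmono g hg
    have hgU : g ∈ suGL 3 F 5 := hH'.1.le hg
    have hcheck := perm5
    simp only [permAll, List.all_eq_true, List.mem_range, Bool.or_eq_true, Bool.and_eq_true, beq_iff_eq] at hcheck
    have hne : ∀ a b : Fin 3, a ≠ b → (σ a : ℕ) ≠ σ b := fun a b hab e => hab (σ.injective (Fin.ext e))
    rcases hcheck _ (σ 0).2 _ (σ 1).2 _ (σ 2).2 with hh | ⟨hPU, hPs⟩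
    · rcases hh with (hh | hh) | hh
      · exact absurd hh (hne 0 1 (by decide))
      · exact absurd hh (hne 0 2 (by decide))
      · exact absurd hh (hne 1 2 (by decide))
    obtain ⟨P, hP, hPv⟩ := h.exists_gu hPU
    have hPe : ∀ r c, (P : Matrix (Fin 3) (Fin 3) F) r c = if r = σ c then 1 else 0 := fun r c => by
      rw [hPv, φM_monA]
      fin_cases c <;> simp [h.φ_one]
    choose a ha hae using fun i : Fin 3 => h.surj (d (σ.symm i))
    let A : M3 := monA 0 1 2 (a 0) (a 1) (a 2)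
    have hA : ∀ r c, φM 5 t A r c = if r = c then d (σ.symm c) else 0 := fun r c => by
      rw [show A = monA ((0 : Fin 3) : ℕ) ((1 : Fin 3) : ℕ) ((2 : Fin 3) : ℕ) (a 0) (a 1) (a 2) from rfl,
        φM_monA]
      fin_cases c <;> simp [hae]
    have hgA : (g : Matrix (Fin 3) (Fin 3) F) = φM 5 t A * (P : Matrix (Fin 3) (Fin 3) F) := by
      ext r c
      rw [Matrix.mul_apply, Finset.sum_eq_single r (fun x _ hx => by rw [hA, if_neg hx.symm, zero_mul])
        (by simp), hA, if_pos rfl, hPe, hgd]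
      split_ifs with hrc
      · rw [hrc, Equiv.symm_apply_apply, mul_one]
      · rw [mul_zero]
    set Δ := g * P⁻¹ with hΔ
    have hΔv : (Δ : Matrix (Fin 3) (Fin 3) F) = φM 5 t A := by
      rw [hΔ, Units.val_mul, hgA, mul_assoc, ← Units.val_mul, mul_inv_cancel, Units.val_one, mul_one]
    have hΔU : Δ ∈ Cfsg.GU 3 F 5 := (Cfsg.GU 3 F 5).mul_mem hgU.1 ((Cfsg.GU 3 F 5).inv_mem hP)
    have hiso := iso_matrix hF hΔU
    have hnorm : ∀ i, φ 5 t (a i) * φ 5 t (a i) ^ 5 = 1 := fun i => by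
      have := congrFun (congrFun hiso i) i
      rw [Matrix.mul_apply, Finset.sum_eq_single i (fun x _ hx => by
        rw [Matrix.transpose_apply, hΔv, hA, if_neg hx, zero_mul]) (by simp)] at this
      simpa [hΔv, hA, hae] using this
    have hdet : (φ 5 t (a 0) * φ 5 t (a 1) * φ 5 t (a 2)) * (φ 5 t (a 0) * φ 5 t (a 1) * φ 5 t (a 2)) = 1 := by
      have e1 : (φM 5 t A).det = φ 5 t (a 0) * φ 5 t (a 1) * φ 5 t (a 2) := by
        rw [Matrix.det_fin_three]; simp [hA, hae]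
      have e2 : (Δ : Matrix (Fin 3) (Fin 3) F).det * (P : Matrix (Fin 3) (Fin 3) F).det = 1 := by
        rw [← Matrix.det_mul, hΔv, ← hgA]; exact (mem_sl_iff _).1 hgU.2
      rw [hΔv, e1] at e2
      have e3 : (P : Matrix (Fin 3) (Fin 3) F).det * (P : Matrix (Fin 3) (Fin 3) F).det = 1 := by
        have : (P : Matrix (Fin 3) (Fin 3) F)ᵀ * (P : Matrix (Fin 3) (Fin 3) F) = 1 := by
          ext r c
          simp [Matrix.mul_apply, hPe, Matrix.one_apply, eq_comm]
        have := congrArg Matrix.det this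
        rwa [Matrix.det_mul, Matrix.det_transpose, Matrix.det_one] at this
      linear_combination (-(φ 5 t (a 0) * φ 5 t (a 1) * φ 5 t (a 2)) * (φ 5 t (a 0) * φ 5 t (a 1) * φ 5 t (a 2))) * e3
        + (φ 5 t (a 0) * φ 5 t (a 1) * φ 5 t (a 2) * (P : Matrix (Fin 3) (Fin 3) F).det + 1) * e2
    have hcheck2 := diag5
    simp only [diagAll, units, List.all_eq_true, List.mem_filter, List.mem_range, Bool.or_eq_true,
      Bool.not_eq_true'] at hcheck2
    have hu : ∀ i, a i < 5 * 5 ∧ (cn 5 (ml 5 (a i) (cj 5 (a i))) == cn 5 1) = true := fun i =>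
      ⟨ha i, beq_iff_eq.2 (h.cn_eq (by rw [h.φ_ml, h.φ_cj, h.φ_one]; exact hnorm i))⟩
    rcases hcheck2 _ (hu 0) _ (hu 1) _ (hu 2) with hh | hh
    · rw [beq_eq_false_iff_ne] at hh
      exact absurd (h.cn_eq (by rw [h.φ_ml, h.φ_ml, h.φ_ml, h.φ_one]; exact hdet)) hh
    · have h1 : Δ ∈ lineStab 5 t s1 := h.mem_lineStab nonzero1 one_ne_zero (by rw [hΔv, one_smul]) hh
      have h2 : P ∈ lineStab 5 t s1 := h.mem_lineStab nonzero1 one_ne_zero (by rw [hPv, one_smul]) hPs
      simpa [hΔ] using (lineStab 5 t s1).mul_mem h1 h2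
  · intro g hg hgc
    obtain ⟨σ, d, hgd⟩ := hmono g hg
    obtain ⟨j, hj, hj2⟩ := List.any_eq_true.1 frame5_not
    rw [List.mem_range] at hj
    have hcolz : ∀ r : Fin 3, r ≠ σ ⟨j, hj⟩ → φV 5 t (mv 5 c1 (ev j 1)) r = 0 := by
      intro r hr
      rw [h.φV_mv, show φV 5 t (ev j 1) = _ from φV_ev 1 (⟨j, hj⟩ : Fin 3), h.φ_one,
        Matrix.mulVec_single_one, Matrix.col_apply, ← hgc, hgd, if_neg hr]
    simp only [Bool.or_eq_true, Bool.and_eq_true] at hj2
    have two : ∀ r r' : Fin 3, r ≠ r' → φV 5 t (mv 5 c1 (ev j 1)) r ≠ 0 →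
        φV 5 t (mv 5 c1 (ev j 1)) r' ≠ 0 → False := fun r r' hne h1 h2 => by
      by_cases e : r = σ ⟨j, hj⟩
      · exact h2 (hcolz r' fun e' => hne (e.trans e'.symm))
      · exact h1 (hcolz r e)
    rcases hj2 with (⟨h1, h2⟩ | ⟨h1, h2⟩) | ⟨h1, h2⟩
    · exact two 0 1 (by decide) (ne_zero_of_cn h h1) (ne_zero_of_cn h h2)
    · exact two 0 2 (by decide) (ne_zero_of_cn h h1) (ne_zero_of_cn h h2)
    · exact two 1 2 (by decide) (ne_zero_of_cn h h1) (ne_zero_of_cn h h2)

/-! ### The subfield of index two -/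

lemma rational_nat (h : Code p t) (hp2 : p ≠ 2) {x : F} (hx : x ^ p = x) : ∃ a : ℕ, a < p ∧ φ p t a = x := by
  obtain ⟨a, ha, rfl⟩ := h.surj x
  have e := h.cn_eq (x := cj p a) (y := a) (by rw [h.φ_cj, hx])
  have hpp := h.prime.pos
  have hlt : a / p < p := Nat.div_lt_of_lt_mul ha
  have e' := congrArg (fun z => z / p % p) e
  simp only [cn, cj, Nat.add_mul_div_left _ _ hpp, Nat.div_eq_of_lt (Nat.mod_lt _ hpp), zero_add,
    Nat.add_mul_mod_self_left, Nat.mod_mod, Nat.mod_eq_of_lt hlt] at e'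
  refine ⟨a, ?_, rfl⟩
  have hb : a / p = 0 := by
    by_contra hb
    rw [Nat.mod_eq_of_lt (show p - a / p < p by omega)] at e'
    have : Odd p := h.prime.odd_of_ne_two hp2
    obtain ⟨k, hk⟩ := this
    omega
  exact (Nat.div_eq_zero_iff.1 hb).resolve_left hpp.ne'

/-- a form-rational subfield structure of index two is standard up to a unitary change of coordinates -/
lemma rational_normal (h : Code p t) (hp2 : p ≠ 2) {F₀ : Subfield F} (hcard : Fintype.card F = Nat.card F₀ ^ 2)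
    {P : GL (Fin 3) F} (hP : IsFormRationalStructure (hermForm 3 F p) F₀ 1 P) :
    ∃ U ∈ Cfsg.GU 3 F p, ∀ x ∈ subfieldSubgroup F₀ P, ∃ (s : F) (M : Matrix (Fin 3) (Fin 3) F),
      (∀ r c, M r c ^ p = M r c) ∧ ((U⁻¹ * x * U : GL (Fin 3) F) : Matrix (Fin 3) (Fin 3) F) = s • M := by
  classical
  have hF := h.card
  have hc0 : Nat.card F₀ = p := Nat.pow_left_injective two_ne_zero (hcard.symm.trans hF)
  haveI : Fintype F₀ := Fintype.ofFinite F₀
  have hfix : ∀ x : F₀, (x : F) ^ p = x := fun x => by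
    have := FiniteField.pow_card x
    rw [← Nat.card_eq_fintype_card, hc0] at this
    exact_mod_cast congrArg Subtype.val this
  have hse : ∀ i j : Fin 3, (Pi.single i (1 : F) : Fin 3 → F) j ∈ F₀ := fun i j => by
    rw [Pi.single_apply]; split_ifs <;> simp [F₀.one_mem, F₀.zero_mem]
  let G : Matrix (Fin 3) (Fin 3) F₀ := Matrix.of fun i j =>
    ⟨hermForm 3 F p ((P : Matrix (Fin 3) (Fin 3) F) *ᵥ Pi.single i 1)
      ((P : Matrix (Fin 3) (Fin 3) F) *ᵥ Pi.single j 1), by simpa using hP _ _ (hse i) (hse j)⟩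
  let ι0 : F₀ →+* F := F₀.subtype
  have hG : ι0.mapMatrix G = (P : Matrix (Fin 3) (Fin 3) F)ᵀ * (P : Matrix (Fin 3) (Fin 3) F).map (fr hF) := by
    ext i j
    simp [ι0, G, Matrix.mul_apply, hermForm]
  have hGs : Gᵀ = G := by
    ext i j
    show (G j i : F) = G i j
    simp only [G, Matrix.of_apply]
    rw [OrthUnitaryHerm.herm_conj hF]
    exact hfix (G i j)
  have hGd : G.det ≠ 0 := by
    intro e
    have h5 := RingHom.map_det ι0 G
    rw [e, map_zero, hG, Matrix.det_mul, Matrix.det_transpose] at h5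
    have hd := (Matrix.isUnits_det_units P).ne_zero
    have : ((P : Matrix (Fin 3) (Fin 3) F).map (fr hF)).det = fr hF (P : Matrix (Fin 3) (Fin 3) F).det :=
      ((fr hF : F →+* F).map_det _).symm
    rcases mul_eq_zero.1 (by rw [this] at h5; exact h5.symm : (P : Matrix (Fin 3) (Fin 3) F).det * fr hF (P : Matrix (Fin 3) (Fin 3) F).det = 0) with h0 | h0
    · exact hd h0
    · exact hd ((fr hF).map_eq_zero_iff.1 h0)
  haveI : CharP F p := (CharP.charP_iff_prime_eq_zero h.prime).2 h.char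
  have h2 : (2 : F₀) ≠ 0 := fun e => by
    have e' : ((2 : ℕ) : F) = 0 := by
      have := congrArg ι0 e
      rw [map_ofNat, map_zero] at this
      exact_mod_cast this
    exact hp2 ((Nat.prime_dvd_prime_iff_eq h.prime Nat.prime_two).1 ((CharP.cast_eq_zero_iff F p 2).1 e'))
  have hBd : ((G.det : F₀) • (1 : Matrix (Fin 3) (Fin 3) F₀)).det = G.det ^ 2 * G.det := by
    rw [Matrix.det_smul, Matrix.det_one, Fintype.card_fin, mul_one, pow_succ]
  obtain ⟨T, hT, hTG⟩ := OrthUnitarySympUnipotent.congr_of_det h2 hGs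
    (B := (G.det : F₀) • (1 : Matrix (Fin 3) (Fin 3) F₀)) (by simp) hGd
    (by rw [hBd]; exact mul_ne_zero (pow_ne_zero _ hGd) hGd)
    (by rw [hBd, OrthUnitarySympUnipotent.isSquare_sq_mul hGd])
  obtain ⟨e, he⟩ := OrthUnitaryHerm.exists_norm_eq hF (hfix G.det)
  have he0 : e ≠ 0 := fun h0 => hGd (Subtype.ext (by rw [← he, h0]; simp))
  set T' : Matrix (Fin 3) (Fin 3) F := ι0.mapMatrix T with hT'
  have hT'fix : T'.map (fr hF) = T' := by
    ext r c; exact hfix _
  have hM1 : ((e⁻¹ • ((P : Matrix (Fin 3) (Fin 3) F) * T'))ᵀ *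
      (e⁻¹ • ((P : Matrix (Fin 3) (Fin 3) F) * T')).map (fr hF)) = 1 := by
    have e1 : (e⁻¹ • ((P : Matrix (Fin 3) (Fin 3) F) * T')).map (fr hF) =
        (e⁻¹ ^ p) • ((P : Matrix (Fin 3) (Fin 3) F).map (fr hF) * T') := by
      conv_rhs => rw [← hT'fix]
      rw [← map_mul_map]
      ext r c
      simp only [Matrix.map_apply, Matrix.smul_apply, smul_eq_mul, map_mul, fr_apply]
    rw [e1, Matrix.transpose_smul, Matrix.smul_mul, Matrix.mul_smul, smul_smul, Matrix.transpose_mul,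
      mul_assoc, ← mul_assoc (P : Matrix (Fin 3) (Fin 3) F)ᵀ, ← hG, hT']
    have := congrArg ι0.mapMatrix hTG
    rw [map_mul, map_mul] at this
    have et : ι0.mapMatrix Tᵀ = (ι0.mapMatrix T)ᵀ := by ext r c; rfl
    rw [et, mul_assoc] at this
    rw [this]
    ext r c
    simp only [RingHom.mapMatrix_apply, Matrix.smul_apply, Matrix.map_apply, Matrix.one_apply, smul_eq_mul]
    split_ifs
    · simp only [mul_one, ι0, Subfield.coe_subtype]
      rw [← he, inv_pow]
      field_simp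
      first | done | ring
    · simp
  obtain ⟨U, hU, hUv⟩ : ∃ U ∈ Cfsg.GU 3 F p, (U : Matrix (Fin 3) (Fin 3) F) =
      e⁻¹ • ((P : Matrix (Fin 3) (Fin 3) F) * T') :=
    ⟨_, (OrthUnitaryHerm.mkGU hF _ (h.isU_of_gram hM1)).2, OrthUnitaryHerm.mkGU_coe _ _ _⟩
  refine ⟨U, hU, fun x hx => ?_⟩
  obtain ⟨z, hz, rfl⟩ := hx
  haveI : (scalars (Fin 3) F).Normal := ⟨fun n hn g => by
    obtain ⟨c, hc⟩ := (mem_scalars_iff n).1 hn
    refine (mem_scalars_iff _).2 ⟨c, ?_⟩
    rw [Units.val_mul, Units.val_mul, hc, Matrix.mul_smul, Matrix.smul_mul, mul_one, ← Units.val_mul,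
      mul_inv_cancel, Units.val_one]⟩
  obtain ⟨_, ⟨g0, rfl⟩, s', hs', rfl⟩ := Subgroup.mem_sup_of_normal_right.1 hz
  obtain ⟨s, hs⟩ := (mem_scalars_iff s').1 hs'
  obtain ⟨Tu, hTu⟩ := hT
  refine ⟨s, ι0.mapMatrix (((Tu⁻¹ : (Matrix (Fin 3) (Fin 3) F₀)ˣ) : Matrix (Fin 3) (Fin 3) F₀) *
    (g0 : Matrix (Fin 3) (Fin 3) F₀) * T), fun r c => hfix _, ?_⟩
  rw [Units.val_mul, Units.val_mul, mul_assoc]
  have key : (U : Matrix (Fin 3) (Fin 3) F) * ((s : F) • ι0.mapMatrix
      (((Tu⁻¹ : (Matrix (Fin 3) (Fin 3) F₀)ˣ) : Matrix (Fin 3) (Fin 3) F₀) *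
        (g0 : Matrix (Fin 3) (Fin 3) F₀) * T)) =
      (((MulAut.conj P).toMonoidHom (Matrix.GeneralLinearGroup.map (F₀.subtype : F₀ →+* F) g0 * s') :
        GL (Fin 3) F) : Matrix (Fin 3) (Fin 3) F) * (U : Matrix (Fin 3) (Fin 3) F) := by
    have eT : T' * ι0.mapMatrix (((Tu⁻¹ : (Matrix (Fin 3) (Fin 3) F₀)ˣ)) : Matrix (Fin 3) (Fin 3) F₀) = 1 := by
      rw [hT', ← map_mul, ← hTu, ← Units.val_mul, mul_inv_cancel, Units.val_one, map_one]
    have eP : ((P⁻¹ : GL (Fin 3) F) : Matrix (Fin 3) (Fin 3) F) * (P : Matrix (Fin 3) (Fin 3) F) = 1 := by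
      rw [← Units.val_mul, inv_mul_cancel, Units.val_one]
    have eg : ((Matrix.GeneralLinearGroup.map (F₀.subtype : F₀ →+* F) g0 : GL (Fin 3) F) :
        Matrix (Fin 3) (Fin 3) F) = ι0.mapMatrix (g0 : Matrix (Fin 3) (Fin 3) F₀) := rfl
    rw [MulEquiv.coe_toMonoidHom, MulAut.conj_apply, Units.val_mul, Units.val_mul, Units.val_mul, hs, hUv, eg,
      map_mul, map_mul, ← hT']
    simp only [Matrix.smul_mul, Matrix.mul_smul, smul_smul, mul_one, mul_assoc]
    rw [← mul_assoc ((P⁻¹ : GL (Fin 3) F) : Matrix (Fin 3) (Fin 3) F), eP, one_mul, ← mul_assoc T', eT, one_mul,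
      mul_comm e⁻¹]
  rw [← key, ← mul_assoc, ← Units.val_mul, inv_mul_cancel, Units.val_one, one_mul]

/-- a rational multiple in the special unitary group is a multiple of an orthogonal matrix -/
lemma rational_orth (h : Code p t) (hp2 : p ≠ 2) {g : GL (Fin 3) F} (hg : g ∈ suGL 3 F p) {s : F}
    {M : Matrix (Fin 3) (Fin 3) F} (hM : ∀ r c, M r c ^ p = M r c)
    (hgv : (g : Matrix (Fin 3) (Fin 3) F) = s • M) :
    ∃ (z : F) (u v w : V3), z ≠ 0 ∧ u ∈ allV p ∧ v ∈ allV p ∧ w ∈ allV p ∧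
      (g : Matrix (Fin 3) (Fin 3) F) = z • φM p t (ofCols u v w) ∧
      (φM p t (ofCols u v w))ᵀ * φM p t (ofCols u v w) = 1 ∧ (φM p t (ofCols u v w)).det = 1 := by
  have hF := h.card
  have h1 := iso_matrix hF hg.1
  have hMm : M.map (fr hF) = M := by ext r c; exact hM r c
  have e1 : (s • M).map (fr hF) = (s ^ p) • M := by
    conv_rhs => rw [← hMm]
    ext r c
    simp [mul_pow]
  rw [hgv, e1, Matrix.transpose_smul, Matrix.smul_mul, Matrix.mul_smul, smul_smul] at h1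
  have hs0 : s * s ^ p ≠ 0 := fun e => by
    rw [e, zero_smul] at h1
    exact zero_ne_one (congrFun (congrFun h1 0) 0)
  set l := (s * s ^ p)⁻¹ with hl
  have h2 : Mᵀ * M = l • 1 := by rw [hl, ← h1, inv_smul_smul₀ hs0]
  have hd : M.det * M.det = l ^ 3 := by
    have := congrArg Matrix.det h2
    rwa [Matrix.det_mul, Matrix.det_transpose, Matrix.det_smul, Matrix.det_one, mul_one, Fintype.card_fin] at this
  have hl0 : l ≠ 0 := inv_ne_zero hs0
  set r := M.det / l with hr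
  have hr2 : r * r = l := by rw [hr]; field_simp; linear_combination hd
  have hr0 : r ≠ 0 := fun e => hl0 (by rw [← hr2, e, zero_mul])
  have hlfix : l ^ p = l := by
    rw [hl, inv_pow, mul_pow, OrthUnitaryHerm.pow_q_q hF, mul_comm (s ^ p)]
  have hrfix : r ^ p = r := by
    rw [hr, div_pow, hlfix]
    congr 1
    have := ((fr hF : F →+* F).map_det M)
    rw [show ((fr hF : F →+* F).mapMatrix M) = M from hMm] at this
    simpa using this
  -- normalise the determinant
  have hd1 : (r⁻¹ • M).det * (r⁻¹ • M).det = 1 := by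
    rw [Matrix.det_smul, Fintype.card_fin]
    field_simp
    linear_combination hd - (r ^ 4 + r ^ 2 * l + l ^ 2) * hr2
  set ε := (r⁻¹ • M).det with hε
  have hεfix : ε ^ p = ε := by
    rcases mul_self_eq_one_iff.1 hd1 with e | e
    · rw [e, one_pow]
    · rw [e, (h.prime.odd_of_ne_two hp2).neg_one_pow]
  set N := (ε * r⁻¹) • M with hN
  have hNfix : ∀ a b, N a b ^ p = N a b := fun a b => by
    simp [hN, mul_pow, inv_pow, hrfix, hεfix, hM]
  have hcols : ∀ c : Fin 3, ∃ u ∈ allV p, φV p t u = fun a => N a c := by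
    intro c
    obtain ⟨a, ha, hae⟩ := rational_nat h hp2 (hNfix 0 c)
    obtain ⟨b, hb, hbe⟩ := rational_nat h hp2 (hNfix 1 c)
    obtain ⟨d, hd', hde⟩ := rational_nat h hp2 (hNfix 2 c)
    refine ⟨(a, b, d), by simp only [allV, List.mem_flatMap, List.mem_map, List.mem_range]; exact ⟨a, ha, b, hb, d, hd', rfl⟩, ?_⟩
    funext i
    fin_cases i <;> simp [φV, hae, hbe, hde]
  choose col hcolm hcole using hcols
  have hNA : φM p t (ofCols (col 0) (col 1) (col 2)) = N := by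
    ext a b
    rw [φM_ofCols]
    fin_cases b <;> simp [hcole]
  refine ⟨s * r * ε, col 0, col 1, col 2, ?_, hcolm 0, hcolm 1, hcolm 2, ?_, ?_, ?_⟩
  · exact mul_ne_zero (mul_ne_zero (fun e => hs0 (by rw [e, zero_mul])) hr0)
      (fun e => by rw [e, zero_mul] at hd1; exact zero_ne_one hd1)
  · rw [hgv, hNA, hN, smul_smul]
    congr 1
    field_simp
    linear_combination (-s) * hd1
  · rw [hNA, hN, Matrix.transpose_smul, Matrix.smul_mul, Matrix.mul_smul, smul_smul, h2, smul_smul]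
    rw [show ε * r⁻¹ * (ε * r⁻¹) * l = 1 by
      rw [← hr2]; field_simp; linear_combination hd1, one_smul]
  · rw [hNA, hN, mul_smul, Matrix.det_smul, ← hε, Fintype.card_fin]
    linear_combination (ε ^ 2 + 1) * hd1

lemma not_subfield5 (h : Code 5 t) {H : Subgroup (GL (Fin 3) F)} (hH : IsMaximalIn (suGL 3 F 5) H)
    {F₀ : Subfield F} (hcard : Fintype.card F = Nat.card F₀ ^ 2) {P : GL (Fin 3) F}
    (hP : IsFormRationalStructure (hermForm 3 F 5) F₀ 1 P) (hle : H ≤ subfieldSubgroup F₀ P) : False := by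
  obtain ⟨U, hU, hnorm⟩ := rational_normal h (by norm_num) hcard hP
  have hH' := conj_maximal hH hU
  have hw := orth5_wit
  rw [Bool.and_eq_true] at hw
  have hm := moved2
  rw [Bool.and_eq_true] at hm
  refine h.absurd_overgroup hH' (S := s2) ?_ hm.1 hm.2 nonzero2 hw.1 hw.2 ?_
  · intro g hg
    have hgS := hH'.1.le hg
    obtain ⟨x, hx, rfl⟩ := mem_conj.1 hg
    obtain ⟨s, M, hMfix, hgv⟩ := hnorm x (hle hx)
    obtain ⟨z, u, v, w, hz, hu, hv, hw', hgz, horth, hdet⟩ := rational_orth h (by norm_num) hgS hMfix hgv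
    have hdot : ∀ i j : Fin 3, φ 5 t (dot 5 (![u, v, w] i) (![u, v, w] j)) =
        if i = j then 1 else 0 := by
      intro i j
      have := congrFun (congrFun horth i) j
      rw [Matrix.mul_apply, Fin.sum_univ_three, Matrix.one_apply] at this
      simp only [Matrix.transpose_apply, φM_ofCols] at this
      rw [h.φ_dot, ← this]
      fin_cases i <;> fin_cases j <;> simp [φV]
    have hunit : ∀ i, (cn 5 (dot 5 (![u, v, w] i) (![u, v, w] i)) == cn 5 1) = true := fun i =>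
      beq_iff_eq.2 (h.cn_eq (by rw [hdot, if_pos rfl, h.φ_one]))
    have hzero : ∀ i j : Fin 3, i ≠ j → orth 5 (![u, v, w] i) (![u, v, w] j) = true := fun i j hij =>
      beq_iff_eq.2 ((h.cn_eq (y := 0) (by rw [hdot, if_neg hij, φ_zero])).trans (by simp [cn]))
    have hu5 : u.1 < 5 := by
      simp only [allV, List.mem_flatMap, List.mem_map, List.mem_range] at hu
      obtain ⟨a, ha, b, -, c, -, rfl⟩ := hu
      exact ha
    obtain ⟨i, hi, hcheck⟩ : ∃ i, u.1 = i ∧ orthAll 5 s2 i = true := by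
      refine ⟨_, rfl, ?_⟩
      exact match u.1, hu5 with
        | 0, _ => orth5_0
        | 1, _ => orth5_1
        | 2, _ => orth5_2
        | 3, _ => orth5_3
        | 4, _ => orth5_4
        | _ + 5, hn => absurd hn (by omega)
    simp only [orthAll, List.all_eq_true, List.mem_filter, Bool.or_eq_true] at hcheck
    rcases hcheck u ⟨hu, hunit 0⟩ with hh | hh
    · simp [hi] at hh
    rcases hh v ⟨hv, hunit 1⟩ with hh | hh
    · simp [show orth 5 u v = true from hzero 0 1 (by decide)] at hh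
    rcases hh w ⟨hw', hunit 2⟩ with hh | hh
    · have h3 : (cn 5 (detM 5 (ofCols u v w)) == cn 5 1) = true :=
        beq_iff_eq.2 (h.cn_eq (by rw [h.φ_detM, hdet, h.φ_one]))
      simp [show orth 5 u w = true from hzero 0 2 (by decide), show orth 5 v w = true from hzero 1 2 (by decide),
        h3] at hh
    exact h.mem_lineStab nonzero2 hz hgz hh
  · intro g hg hgc
    obtain ⟨x, hx, rfl⟩ := mem_conj.1 hg
    obtain ⟨s, M, hMfix, hgv⟩ := hnorm x (hle hx)
    obtain ⟨a, ha, ha2⟩ := List.any_eq_true.1 orth5_not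
    obtain ⟨b, hb, hab⟩ := List.any_eq_true.1 ha2
    have hmem : ∀ y ∈ ([c2.1.1, c2.1.2.1, c2.1.2.2, c2.2.1.1, c2.2.1.2.1, c2.2.1.2.2, c2.2.2.1, c2.2.2.2.1,
        c2.2.2.2.2] : List ℕ), ∃ i j, φM 5 t c2 i j = φ 5 t y := by
      intro y hy
      simp only [List.mem_cons, List.not_mem_nil, or_false] at hy
      rcases hy with rfl | rfl | rfl | rfl | rfl | rfl | rfl | rfl | rfl
      exacts [⟨0, 0, rfl⟩, ⟨0, 1, rfl⟩, ⟨0, 2, rfl⟩, ⟨1, 0, rfl⟩, ⟨1, 1, rfl⟩, ⟨1, 2, rfl⟩, ⟨2, 0, rfl⟩,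
        ⟨2, 1, rfl⟩, ⟨2, 2, rfl⟩]
    obtain ⟨i, j, hij⟩ := hmem a ha
    obtain ⟨k, l, hkl⟩ := hmem b hb
    have hprod : φ 5 t (ml 5 a (cj 5 b)) ^ 5 = φ 5 t (ml 5 a (cj 5 b)) := by
      rw [h.φ_ml, h.φ_cj, ← hij, ← hkl, ← hgc, hgv]
      simp only [Matrix.smul_apply, smul_eq_mul, mul_pow, OrthUnitaryHerm.pow_q_q h.card, hMfix]
      ring
    obtain ⟨c, hc, hce⟩ := rational_nat h (by norm_num) hprod
    have := h.cn_eq hce
    rw [← this] at hab
    simp [cn, Nat.mod_eq_of_lt hc, Nat.div_eq_of_lt hc] at hab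

/-- over nine elements the index-two subfield group stabilises an orthogonal frame -/
lemma subfield3_frame (h : Code 3 t) {H : Subgroup (GL (Fin 3) F)} (hH : IsMaximalIn (suGL 3 F 3) H)
    {F₀ : Subfield F} (hcard : Fintype.card F = Nat.card F₀ ^ 2) {P : GL (Fin 3) F}
    (hP : IsFormRationalStructure (hermForm 3 F 3) F₀ 1 P) (hle : H ≤ subfieldSubgroup F₀ P) :
    ∃ D : Fin 3 → Submodule F (Fin 3 → F), IsNondegenerateMDecomposition (hermForm 3 F 3) 1 D ∧
      H = decompositionStabilizer D ⊓ suGL 3 F 3 := by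
  classical
  obtain ⟨U, hU, hnorm⟩ := rational_normal h (by norm_num) hcard hP
  let v : Fin 3 → (Fin 3 → F) := fun i => (U : Matrix (Fin 3) (Fin 3) F) *ᵥ Pi.single i 1
  let D : Fin 3 → Submodule F (Fin 3 → F) := fun i => Submodule.span F {v i}
  have hvv : ∀ i j, hermForm 3 F 3 (v i) (v j) = if i = j then 1 else 0 := by
    intro i j
    rw [OrthUnitaryHerm.isU_of_mem ⟨U, hU⟩ _ _, OrthUnitaryHerm.herm_single_right h.card, Pi.single_apply]
    exact if_congr eq_comm rfl rfl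
  have hv0 : ∀ i, v i ≠ 0 := fun i e => by
    have := hvv i i
    rw [e, if_pos rfl] at this
    simp [hermForm] at this
  have hli : LinearIndependent F v := by
    rw [Fintype.linearIndependent_iff]
    intro c hc i
    have e : (U : Matrix (Fin 3) (Fin 3) F) *ᵥ c = 0 := by
      rw [← hc]
      funext r
      simp [v, Matrix.mulVec, dotProduct, Finset.sum_apply, Pi.single_apply, mul_comm]
    have := congrArg (fun z => ((U⁻¹ : GL (Fin 3) F) : Matrix (Fin 3) (Fin 3) F) *ᵥ z) e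
    simp only [inv_mulVec_mulVec, Matrix.mulVec_zero] at this
    exact congrFun this i
  have hD : IsNondegenerateMDecomposition (hermForm 3 F 3) 1 D := by
    refine ⟨⟨by norm_num, one_pos, fun i => finrank_span_singleton (hv0 i), hli.iSupIndep_span_singleton, ?_⟩,
      fun i w hw hw0 => ?_, fun i j hij a ha b hb => ?_⟩
    · rw [← Submodule.span_range_eq_iSup]
      exact hli.span_eq_top_of_card_eq_finrank (by simp)
    · obtain ⟨c, rfl⟩ := Submodule.mem_span_singleton.1 hw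
      have hc : c ≠ 0 := fun e => hw0 (by rw [e, zero_smul])
      refine ⟨⟨v i, Submodule.mem_span_singleton_self _, ?_⟩, v i, Submodule.mem_span_singleton_self _, ?_⟩
      · rw [OrthUnitaryHerm.herm_smul_right, hvv, if_pos rfl, mul_one]
        exact pow_ne_zero _ hc
      · rw [OrthUnitaryHerm.herm_smul_left, hvv, if_pos rfl, mul_one]
        exact hc
    · obtain ⟨c, rfl⟩ := Submodule.mem_span_singleton.1 ha
      obtain ⟨d, rfl⟩ := Submodule.mem_span_singleton.1 hb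
      rw [OrthUnitaryHerm.herm_smul_left, OrthUnitaryHerm.herm_smul_right, hvv, if_neg hij, mul_zero, mul_zero]
  refine ⟨D, hD, eq_of_maximal hH ?_ ?_⟩
  · intro x hx
    have hgS : U⁻¹ * x * U ∈ suGL 3 F 3 := by
      simpa using conj_su ((Cfsg.GU 3 F 3).inv_mem hU) (hH.1.le hx)
    obtain ⟨s, M, hMfix, hgv⟩ := hnorm x (hle hx)
    obtain ⟨z, a, b, c, hz, ha, hb, hc, hgz, horth, -⟩ := rational_orth h (by norm_num) hgS hMfix hgv
    have hone : ∀ u ∈ allV 3, cn 3 (dot 3 u u) = cn 3 1 →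
        ∃ k : Fin 3, ∃ l : ℕ, l ≠ 0 ∧ l < 3 ∧ u = ev k l := by
      have : ((allV 3).all fun u => !(cn 3 (dot 3 u u) == cn 3 1) ||
          (List.range 3).any fun k => (List.range 3).any fun l => l != 0 && u == ev k l) = true := by
        decide +kernel
      intro u hu hcu
      simp only [List.all_eq_true, Bool.or_eq_true, List.any_eq_true, List.mem_range, Bool.and_eq_true] at this
      rcases this u hu with hh | ⟨k, hk, l, hl, hl0, hul⟩
      · simp [hcu] at hh
      · exact ⟨⟨k, hk⟩, l, bne_iff_ne.1 hl0, hl, eq_of_beq hul⟩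
    have hcol : ∀ j : Fin 3, ∃ k : Fin 3, ∃ d : F, d ≠ 0 ∧
        ((U⁻¹ * x * U : GL (Fin 3) F) : Matrix (Fin 3) (Fin 3) F) *ᵥ Pi.single j 1 = d • Pi.single k 1 := by
      intro j
      have hj : ![a, b, c] j ∈ allV 3 := by fin_cases j <;> assumption
      have e1 : φ 3 t (dot 3 (![a, b, c] j) (![a, b, c] j)) = 1 := by
        have := congrFun (congrFun horth j) j
        rw [Matrix.mul_apply, Fin.sum_univ_three, Matrix.one_apply_eq] at this
        simp only [Matrix.transpose_apply, φM_ofCols] at this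
        rw [h.φ_dot, ← this]
        fin_cases j <;> simp [φV]
      obtain ⟨k, l, hl, hl3, hul⟩ := hone _ hj (h.cn_eq (by rw [e1, h.φ_one]))
      refine ⟨k, z * φ 3 t l, mul_ne_zero hz (fun e0 => hl ?_), ?_⟩
      · have := h.cn_eq (y := 0) (by rw [e0, φ_zero])
        simpa [cn, Nat.mod_eq_of_lt hl3, Nat.div_eq_of_lt hl3] using this
      rw [hgz, Matrix.mulVec_single_one]
      funext r
      rw [Matrix.col_apply, Matrix.smul_apply, φM_ofCols]
      have : φV 3 t (![a, b, c] j) = Pi.single k (φ 3 t l) := by rw [hul, φV_ev]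
      have e2 : (![φV 3 t a, φV 3 t b, φV 3 t c] : Fin 3 → Fin 3 → F) j = φV 3 t (![a, b, c] j) := by
        fin_cases j <;> rfl
      rw [e2, this]
      simp [Pi.single_apply, mul_comm]
    choose σ d hd hσ using hcol
    have hinj : Function.Injective σ := by
      intro i j hij
      by_contra hne
      have e : ((U⁻¹ * x * U : GL (Fin 3) F) : Matrix (Fin 3) (Fin 3) F) *ᵥ
          (d j • (Pi.single i 1 : Fin 3 → F) - d i • Pi.single j 1) = 0 := by
        rw [Matrix.mulVec_sub, Matrix.mulVec_smul, Matrix.mulVec_smul, hσ, hσ, hij, smul_comm, sub_self]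
      have e' := congrArg (fun y => (((U⁻¹ * x * U)⁻¹ : GL (Fin 3) F) : Matrix (Fin 3) (Fin 3) F) *ᵥ y) e
      simp only [inv_mulVec_mulVec, Matrix.mulVec_zero] at e'
      exact hd j (by simpa [hne] using congrFun e' i)
    refine ⟨Equiv.ofBijective σ (Finite.injective_iff_bijective.1 hinj), fun i => ?_⟩
    have e : (x : Matrix (Fin 3) (Fin 3) F) *ᵥ v i = d i • v (σ i) := by
      show (x : Matrix (Fin 3) (Fin 3) F) *ᵥ ((U : Matrix (Fin 3) (Fin 3) F) *ᵥ _) = _
      rw [Matrix.mulVec_mulVec, ← Units.val_mul, show x * U = U * (U⁻¹ * x * U) by group, Units.val_mul,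
        ← Matrix.mulVec_mulVec, hσ, Matrix.mulVec_smul]
    simp only [D, Submodule.map_span, Set.image_singleton, Matrix.toLin'_apply, e, Equiv.ofBijective_apply]
    exact Submodule.span_singleton_smul_eq (IsUnit.mk0 _ (hd i)) _
  · have e := (Fintype.card_fin 3)
    intro hsu
    exact OrthUnitarySUThree.su_not_le_lines3 h.card le_rfl (D := D ∘ Fin.cast e)
      (AschPrimeLinear.isMDecomposition_cast e.symm hD.decomp)
      (by rw [AschPrimeLinear.decompositionStabilizer_cast]; exact hsu)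

/-! ### Normalisers of cubic subfields -/

omit [Fintype F] in
lemma not_dvd_card_gu {q : ℕ} (hq : q = 3 ∨ q = 5) :
    ¬ 49 ∣ q ^ (3 * (3 - 1) / 2) *
      ∏ i ∈ Finset.range 3, (if Even i then q ^ (i + 1) + 1 else q ^ (i + 1) - 1) := by
  rcases hq with rfl | rfl <;> norm_num [Finset.prod_range_succ, Nat.even_iff]

lemma conj_of_order_seven (h : Code p t) (hp : p = 3 ∨ p = 5) {y a : GL (Fin 3) F} (hy : y ∈ suGL 3 F p)
    (ha : a ∈ suGL 3 F p) (hy7 : orderOf y = 7) (ha7 : orderOf a = 7) :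
    ∃ g ∈ suGL 3 F p, ∃ k : ℕ, g * y * g⁻¹ = a ^ k := by
  haveI : Fact (Nat.Prime 7) := ⟨by norm_num⟩
  set I := suGL 3 F p
  have hsyl : ∀ z : I, orderOf z = 7 → ∃ Q : Sylow 7 I, (Q : Subgroup I) = Subgroup.zpowers z := by
    intro z hz
    have hc : Nat.card (Subgroup.zpowers z) = 7 := by rw [Nat.card_zpowers, hz]
    refine ⟨Sylow.ofCard (Subgroup.zpowers z) ?_, rfl⟩
    rw [hc]
    have hpos : 0 < Nat.card I := Nat.card_pos
    have hle : (Nat.card I).factorization 7 ≤ 1 := by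
      by_contra hlt
      push Not at hlt
      have h1 : 7 ^ 2 ∣ Nat.card I :=
        ((by norm_num : Nat.Prime 7).pow_dvd_iff_le_factorization hpos.ne').2 hlt
      have h2 : Nat.card I ∣ Nat.card (Cfsg.GU 3 F p) := Subgroup.card_dvd_of_le inf_le_left
      have h3 := h1.trans h2
      rw [OrthUnitaryHerm.card_GU h.card] at h3
      exact not_dvd_card_gu hp h3
    have hge : 1 ≤ (Nat.card I).factorization 7 :=
      ((by norm_num : Nat.Prime 7).pow_dvd_iff_le_factorization hpos.ne').1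
        (by rw [pow_one, ← hc]; exact Subgroup.card_subgroup_dvd_card _)
    rw [show (Nat.card I).factorization 7 = 1 by omega, pow_one]
  obtain ⟨Q₁, hQ₁⟩ := hsyl ⟨y, hy⟩ (by rw [← hy7]; exact (Subgroup.orderOf_coe _).symm)
  obtain ⟨Q₂, hQ₂⟩ := hsyl ⟨a, ha⟩ (by rw [← ha7]; exact (Subgroup.orderOf_coe _).symm)
  obtain ⟨g, hg⟩ := MulAction.exists_smul_eq I Q₁ Q₂
  refine ⟨g, g.2, ?_⟩
  have h1 : g * ⟨y, hy⟩ * g⁻¹ ∈ (Q₂ : Subgroup I) := by
    rw [← hg, Sylow.coe_subgroup_smul, Subgroup.mem_pointwise_smul_iff_inv_smul_mem]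
    have : (MulAut.conj g)⁻¹ • (g * ⟨y, hy⟩ * g⁻¹) = (⟨y, hy⟩ : I) := by
      rw [← map_inv, MulAut.smul_def, MulAut.conj_apply]
      group
    rw [this, hQ₁]
    exact Subgroup.mem_zpowers _
  rw [hQ₂] at h1
  obtain ⟨k, hk⟩ := (isOfFinOrder_of_finite (⟨a, ha⟩ : I)).mem_powers_iff_mem_zpowers.2 h1
  exact ⟨k, by simpa using (congrArg Subtype.val hk).symm⟩

/-- an adjoint-closed cubic field contains an element of order seven of the special unitary group -/
lemma exists_seven (h : Code p t) (hp : p = 3 ∨ p = 5) {K : Subalgebra F (Matrix (Fin 3) (Fin 3) F)}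
    (hK : IsFieldSubalgebra 3 K) (hadj : IsAdjointClosedFor (hermForm 3 F p) K) :
    ∃ y ∈ suGL 3 F p, orderOf y = 7 ∧
      ∀ g ∈ subalgebraNormalizer K, ∃ k : ℕ, g * y * g⁻¹ = y ^ k := by
  classical
  have hF := h.card
  have hpp := h.prime
  have hstar : ∀ k ∈ K, star' hF k ∈ K := by
    intro k hk
    obtain ⟨k', hk', he⟩ := hadj k hk
    have : k' = star' hF k := by
      apply Matrix.toLin'.injective
      refine LinearMap.ext fun v => ?_
      rw [Matrix.toLin'_apply, Matrix.toLin'_apply, ← sub_eq_zero]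
      refine OrthUnitaryHerm.eq_zero_of_herm_eq_zero hF fun u => ?_
      rw [OrthUnitaryHerm.herm_conj hF u, OrthUnitaryHerm.herm_sub_right hF, ← he, ← herm_adjoint hF, sub_self,
        OrthUnitaryHerm.zero_pow_q hF]
    exact this ▸ hk'
  letI : CommRing K := { (inferInstance : Ring K) with
    mul_comm := fun a b => Subtype.ext (hK.comm _ a.2 _ b.2) }
  haveI : Finite K := inferInstance
  have hfield : IsField K := by
    refine ⟨⟨0, 1, fun e => ?_⟩, mul_comm, fun {a} ha => ?_⟩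
    · have := congrFun (congrFun (congrArg Subtype.val e) (0 : Fin 3)) (0 : Fin 3)
      simp at this
    obtain ⟨b, hb, hab⟩ := hK.inv _ a.2 (fun e => ha (Subtype.ext e))
    exact ⟨⟨b, hb⟩, Subtype.ext hab⟩
  letI : Field K := hfield.toField
  letI : Fintype K := Fintype.ofFinite K
  have hcard : Fintype.card K = p ^ 6 := by
    rw [Module.card_eq_pow_finrank (K := F), hK.finrank_eq, hF, ← pow_mul]
  haveI : Fact p.Prime := ⟨hpp⟩
  haveI : CharP F p := (CharP.charP_iff_prime_eq_zero hpp).2 h.char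
  haveI : CharP K p := charP_of_injective_algebraMap (algebraMap F K).injective p
  -- the adjoint as a field automorphism
  let τ : K ≃+* K :=
    { toFun := fun k => ⟨star' hF k, hstar _ k.2⟩
      invFun := fun k => ⟨star' hF k, hstar _ k.2⟩
      left_inv := fun k => Subtype.ext (star'_star' hF _)
      right_inv := fun k => Subtype.ext (star'_star' hF _)
      map_mul' := fun a b => Subtype.ext (by
        show star' hF ((a : Matrix (Fin 3) (Fin 3) F) * (b : Matrix (Fin 3) (Fin 3) F)) =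
          star' hF (a : Matrix (Fin 3) (Fin 3) F) * star' hF (b : Matrix (Fin 3) (Fin 3) F)
        rw [star'_mul]
        exact hK.comm _ (hstar _ b.2) _ (hstar _ a.2))
      map_add' := fun a b => Subtype.ext (by
        show star' hF ((a : Matrix (Fin 3) (Fin 3) F) + (b : Matrix (Fin 3) (Fin 3) F)) =
          star' hF (a : Matrix (Fin 3) (Fin 3) F) + star' hF (b : Matrix (Fin 3) (Fin 3) F)
        ext i j
        simp [star', OrthUnitaryHerm.add_pow_q hF]) }
  letI : Algebra (ZMod p) K := ZMod.algebra K p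
  let τ' : K ≃ₐ[ZMod p] K := AlgEquiv.ofRingEquiv (f := τ) fun r => by
    exact RingHom.congr_fun
      (RingHom.ext_zmod ((τ : K →+* K).comp (algebraMap (ZMod p) K)) (algebraMap (ZMod p) K)) r
  obtain ⟨⟨i, hi6⟩, hi⟩ := (FiniteField.bijective_frobeniusAlgEquivOfAlgebraic_pow (ZMod p) K).2 τ'
  have hrank : Module.finrank (ZMod p) K = 6 := by
    have h1 := Module.card_eq_pow_finrank (K := ZMod p) (V := K)
    rw [hcard, ZMod.card] at h1
    exact (Nat.pow_right_injective hpp.two_le h1.symm)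
  rw [hrank] at hi6
  have hpow : ∀ x : K, τ x = x ^ p ^ i := fun x => by
    have h' := congrArg (fun e : K ≃ₐ[ZMod p] K => e x) hi
    simp only [FiniteField.coe_frobeniusAlgEquivOfAlgebraic_iterate, AlgEquiv.coe_pow,
      Nat.card_zmod, ZMod.card] at h'
    exact h'.symm
  obtain ⟨g, hg⟩ := IsCyclic.exists_generator (α := Kˣ)
  have hord : orderOf g = p ^ 6 - 1 := by
    rw [orderOf_eq_card_of_forall_mem_zpowers hg, Nat.card_units, Nat.card_eq_fintype_card, hcard]
  have hi3 : i = 3 := by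
    have h1 : ((g : K)) ^ (p ^ i * p ^ i) = (g : K) := by
      rw [pow_mul, ← hpow, ← hpow]
      exact Subtype.ext (star'_star' hF _)
    have h2 : g ^ (p ^ i * p ^ i) = g ^ 1 := by
      apply Units.ext
      rw [Units.val_pow_eq_pow_val, h1, pow_one]
    rw [pow_eq_pow_iff_modEq, hord] at h2
    have hodd : i ≠ 0 := by
      rintro rfl
      have h3 := congrFun (congrFun (congrArg Subtype.val (hpow (algebraMap F K t))) 0) 0
      rw [pow_zero, pow_one,
        show (((algebraMap F K t) : K) : Matrix (Fin 3) (Fin 3) F) = algebraMap F _ t from rfl] at h3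
      simp [τ, star', Algebra.algebraMap_eq_smul_one, h.frob] at h3
      have h4 : (2 : ℕ) * t = 0 := by push_cast; linear_combination -h3
      have := (h.indep 0 2 (by push_cast; simpa using h4)).2
      rcases hp with rfl | rfl <;> omega
    unfold Nat.ModEq at h2
    rcases hp with rfl | rfl <;> interval_cases i <;> simp_all
  subst hi3
  obtain ⟨m, hm⟩ : ∃ m, p ^ 6 - 1 = 7 * m := by
    rcases hp with rfl | rfl
    · exact ⟨104, by norm_num⟩
    · exact ⟨2232, by norm_num⟩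
  have hm0 : 0 < m := by
    have : 1 < p ^ 6 := Nat.one_lt_pow (by norm_num) hpp.one_lt
    omega
  set k₀ : K := ((g ^ m : Kˣ) : K) with hk₀
  have hk7 : k₀ ^ 7 = 1 := by
    rw [hk₀, ← Units.val_pow_eq_pow_val, ← pow_mul, show m * 7 = orderOf g by rw [hord, hm]; ring,
      pow_orderOf_eq_one, Units.val_one]
  have hk1 : k₀ ≠ 1 := by
    rw [hk₀]
    intro e
    have h1 : g ^ m = 1 := Units.ext e
    have := Nat.le_of_dvd hm0 (orderOf_dvd_of_pow_eq_one h1)
    omega
  haveI : Fact (Nat.Prime 7) := ⟨by norm_num⟩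
  have hprim : IsPrimitiveRoot k₀ 7 := IsPrimitiveRoot.iff_orderOf.2 (orderOf_eq_prime hk7 hk1)
  have hdet7 : (k₀ : Matrix (Fin 3) (Fin 3) F).det ^ 7 = 1 := by
    rw [← Matrix.det_pow, ← SubmonoidClass.coe_pow, hk7]
    simp
  have hdet0 : (k₀ : Matrix (Fin 3) (Fin 3) F).det ≠ 0 := fun e => by simp [e] at hdet7
  have hdet1 : (k₀ : Matrix (Fin 3) (Fin 3) F).det = 1 := by
    have h3 := FiniteField.pow_card_sub_one_eq_one _ hdet0
    have := pow_gcd_eq_one.2 ⟨hdet7, h3⟩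
    rw [hF] at this
    rwa [show Nat.gcd 7 (p ^ 2 - 1) = 1 by rcases hp with rfl | rfl <;> rfl, pow_one] at this
  have hunit : IsU p (k₀ : Matrix (Fin 3) (Fin 3) F) := by
    intro u v
    have h1 : τ k₀ * k₀ = 1 := by
      rw [hpow, ← pow_succ]
      have : 7 ∣ p ^ 3 + 1 := by rcases hp with rfl | rfl <;> norm_num
      obtain ⟨c, hc⟩ := this
      rw [hc, pow_mul, hk7, one_pow]
    have h2 : star' hF (k₀ : Matrix (Fin 3) (Fin 3) F) * (k₀ : Matrix (Fin 3) (Fin 3) F) = 1 :=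
      congrArg Subtype.val h1
    rw [herm_adjoint hF, Matrix.mulVec_mulVec, h2, Matrix.one_mulVec]
  obtain ⟨y, hy, hyv⟩ := exists_mem_of_isU hF hunit hdet1
  have hy7 : y ^ 7 = 1 := Units.ext (by
    rw [Units.val_pow_eq_pow_val, hyv, ← SubmonoidClass.coe_pow, hk7]; rfl)
  refine ⟨y, hy, orderOf_eq_prime hy7 (fun e => hk1 (Subtype.ext (by rw [← hyv, e]; rfl))), fun x hx => ?_⟩
  have hmem := (hx (y : Matrix (Fin 3) (Fin 3) F)).1 (hyv ▸ k₀.2)
  set z : K := ⟨_, hmem⟩ with hz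
  have hz7 : z ^ 7 = 1 := Subtype.ext (by
    rw [SubmonoidClass.coe_pow]
    show ((x * y * x⁻¹ : GL (Fin 3) F) : Matrix (Fin 3) (Fin 3) F) ^ 7 = _
    rw [← Units.val_pow_eq_pow_val, conj_pow, hy7, mul_one, mul_inv_cancel]
    rfl)
  obtain ⟨k, -, hk⟩ := hprim.eq_pow_of_pow_eq_one hz7
  refine ⟨k, Units.ext ?_⟩
  have := congrArg Subtype.val hk
  rw [Units.val_pow_eq_pow_val, hyv]
  simpa [hz] using this.symm

lemma not_field (h : Code p t) (hp : p = 3 ∨ p = 5) {H : Subgroup (GL (Fin 3) F)}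
    (hH : IsMaximalIn (suGL 3 F p) H) {K : Subalgebra F (Matrix (Fin 3) (Fin 3) F)}
    (hK : IsFieldSubalgebra 3 K) (hadj : IsAdjointClosedFor (hermForm 3 F p) K)
    (hle : H ≤ subalgebraNormalizer K) {S : List (List V3)} {x bi cf d : M3} {ys : List (ℕ × M3)}
    (hS : nonzero p S = true) (hd : (isSU p d && moves p S d) = true)
    (hx : (isSU p x && eqM p (mm p (kry p x (1, 0, 0)) bi) one3 && eqM p (pw p x 7) one3 && !eqM p x one3 &&
      stable p S x) = true)
    (hcen : ∀ i < p, cenAll p S x bi i = true)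
    (htr : ((List.range 7).all fun j => (j == 1 || j == 2 || j == 4) ||
      cn p (traceA p (pw p x j)) != cn p (traceA p x)) = true)
    (hys : ([1, 2, 4].all fun j => ys.any fun e => e.1 == j && (isSU p e.2 && stable p S e.2 &&
      eqM p (mm p e.2 x) (mm p (pw p x j) e.2))) = true)
    (hcf : (isSU p cf && stable p S cf && (List.range 7).all fun j =>
      !eqM p (mm p cf x) (mm p (pw p x j) cf)) = true) : False := by
  classical
  simp only [Bool.and_eq_true, Bool.not_eq_true'] at hx hd hcf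
  obtain ⟨⟨⟨⟨hxU, hbi⟩, hx7⟩, hx1⟩, hxs⟩ := hx
  obtain ⟨a, ha, hav⟩ := h.exists_su hxU
  haveI : Fact (Nat.Prime 7) := ⟨by norm_num⟩
  have ha7 : a ^ 7 = 1 := Units.ext (by
    rw [Units.val_pow_eq_pow_val, hav, ← φM_pw h, h.φM_of_eqM hx7, h.φM_one, Units.val_one])
  have haord : orderOf a = 7 := orderOf_eq_prime ha7 fun e => by
    rw [h.eqM_of_φM (B := one3) (by rw [← hav, e, Units.val_one, h.φM_one])] at hx1
    exact Bool.noConfusion hx1
  obtain ⟨y, hy, hy7, hynorm⟩ := exists_seven h hp hK hadj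
  obtain ⟨g, hg, k, hk⟩ := conj_of_order_seven h hp hy ha hy7 haord
  -- the centraliser
  have hcent : ∀ c ∈ suGL 3 F p, c * a = a * c → c ∈ lineStab p t S := by
    intro c hc hca
    obtain ⟨v, hvm, hv⟩ := h.surjV ((c : Matrix (Fin 3) (Fin 3) F) *ᵥ φV p t (1, 0, 0))
    have hca' : (c : Matrix (Fin 3) (Fin 3) F) * φM p t x = φM p t x * (c : Matrix (Fin 3) (Fin 3) F) := by
      simpa [hav] using congrArg Units.val hca
    have hk : (c : Matrix (Fin 3) (Fin 3) F) * φM p t (kry p x (1, 0, 0)) = φM p t (kry p x v) := by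
      refine mul_ofCols h hv.symm ?_ ?_
      · rw [h.φV_mv, h.φV_mv, Matrix.mulVec_mulVec, hca', ← Matrix.mulVec_mulVec, hv]
      · rw [h.φV_mv, h.φV_mv, h.φV_mv, h.φV_mv, Matrix.mulVec_mulVec, hca', ← Matrix.mulVec_mulVec,
          Matrix.mulVec_mulVec _ (c : Matrix (Fin 3) (Fin 3) F), hca', ← Matrix.mulVec_mulVec, hv]
    have hb := h.φM_of_eqM hbi
    rw [h.φM_mm, h.φM_one] at hb
    have hcv : (c : Matrix (Fin 3) (Fin 3) F) = φM p t (mm p (kry p x v) bi) := by
      rw [h.φM_mm, ← hk, mul_assoc, hb, mul_one]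
    have hlt : v.1 % p < p := Nat.mod_lt _ h.prime.pos
    have hchk := hcen _ hlt
    simp only [cenAll, List.all_eq_true, Bool.or_eq_true, Bool.not_eq_true'] at hchk
    have hnorm : (cn p (dot p v (mapV (cj p) v)) == cn p 1) = true := by
      refine beq_iff_eq.2 (h.cn_eq ?_)
      have e := hc.1 (φV p t (1, 0, 0)) (φV p t (1, 0, 0))
      simp only [Units.coeHom_apply, ← hv] at e
      rw [h.φ_one, h.φ_dot]
      simpa [hermForm, Fin.sum_univ_three, φV, mapV, h.φ_cj, h.φ_one, φ_zero,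
        OrthUnitaryHerm.zero_pow_q h.card] using e
    rcases hchk v hvm with (hh | hh) | hh
    · simp at hh
    · simp [hnorm] at hh
    · rcases hh with hh | hh
      · rw [h.isSU_of_mem hc hcv] at hh
        simp at hh
      · exact h.mem_lineStab hS one_ne_zero (by rw [hcv, one_smul]) hh
  -- the normaliser
  have hnorm : ∀ c ∈ suGL 3 F p, ∀ j : ℕ, c * a * c⁻¹ = a ^ j → c ∈ lineStab p t S := by
    intro c hc j hj
    have hj' : c * a * c⁻¹ = a ^ (j % 7) := by
      rw [hj]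
      conv_lhs => rw [← pow_mod_orderOf, haord]
    have hj7 : j % 7 < 7 := Nat.mod_lt _ (by norm_num)
    have htr' := List.all_eq_true.1 htr (j % 7) (List.mem_range.2 hj7)
    have hjmem : j % 7 ∈ [1, 2, 4] := by
      simp only [Bool.or_eq_true, beq_iff_eq, bne_iff_ne, ne_eq] at htr'
      rcases htr' with ((e | e) | e) | e
      · simp [e]
      · simp [e]
      · simp [e]
      · refine absurd (h.cn_eq ?_) e
        rw [φ_traceA h, φ_traceA h, φM_pw h, ← hav, ← Units.val_pow_eq_pow_val, ← hj', Units.val_mul,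
          Units.val_mul, Matrix.trace_units_conj]
    simp only [List.all_eq_true, List.any_eq_true, Bool.and_eq_true] at hys
    obtain ⟨e, -, -, ⟨heU, hes⟩, hee⟩ := hys _ hjmem
    obtain ⟨b, hb, hbv⟩ := h.exists_su heU
    have hba : b * a = a ^ (j % 7) * b := Units.ext (by
      rw [Units.val_mul, Units.val_mul, Units.val_pow_eq_pow_val, hbv, hav, ← φM_pw h, ← h.φM_mm, ← h.φM_mm]
      exact h.φM_of_eqM hee)
    have h3 : (b⁻¹ * c) * a = a * (b⁻¹ * c) := by
      calc (b⁻¹ * c) * a = b⁻¹ * (c * a * c⁻¹) * c := by group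
        _ = b⁻¹ * (a ^ (j % 7) * b) * b⁻¹ * c := by rw [hj']; group
        _ = a * (b⁻¹ * c) := by rw [← hba]; group
    have h4 := hcent _ ((suGL 3 F p).mul_mem ((suGL 3 F p).inv_mem hb) hc) h3
    have h5 : b ∈ lineStab p t S := h.mem_lineStab hS one_ne_zero (by rw [hbv, one_smul]) hes
    simpa using (lineStab p t S).mul_mem h5 h4
  -- conjugate
  obtain ⟨k', hk'⟩ : ∃ k' : ℕ, a = (g * y * g⁻¹) ^ k' := by
    have hco : Nat.Coprime 7 k := by
      rw [(by norm_num : Nat.Prime 7).coprime_iff_not_dvd]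
      intro hdvd
      rw [← haord] at hdvd
      rw [orderOf_dvd_iff_pow_eq_one.1 hdvd, conj_eq_one_iff] at hk
      rw [hk, orderOf_one] at hy7
      norm_num at hy7
    obtain ⟨u, -, hu⟩ := Nat.exists_mul_mod_eq_one_of_coprime (k := 7) hco.symm (by norm_num)
    refine ⟨u, ?_⟩
    rw [hk, ← pow_mul, ← pow_mod_orderOf, haord, hu, pow_one]
  have hpow : ∀ z ∈ H.map (MulAut.conj g).toMonoidHom, ∃ j : ℕ, z * a * z⁻¹ = a ^ j := by
    rintro _ ⟨x', hx', rfl⟩
    obtain ⟨s, hs⟩ := hynorm x' (hle hx')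
    refine ⟨k * s * k', ?_⟩
    simp only [MulEquiv.coe_toMonoidHom, MulAut.conj_apply]
    conv_lhs => rw [hk']
    rw [← conj_pow, show g * x' * g⁻¹ * (g * y * g⁻¹) * (g * x' * g⁻¹)⁻¹ = g * (x' * y * x'⁻¹) * g⁻¹ by group,
      hs, ← conj_pow, hk, ← pow_mul, ← pow_mul, mul_assoc]
  have hH' : IsMaximalIn (suGL 3 F p) (H.map (MulAut.conj g).toMonoidHom) :=
    isMaximalIn_conj hH (fun z hz => conj_su hg.1 hz)
      fun z hz => by simpa using conj_su ((Cfsg.GU 3 F p).inv_mem hg.1) hz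
  refine h.absurd_overgroup hH' (S := S) (fun z hz => ?_) hd.1 hd.2 hS hcf.1.1 hcf.1.2 fun z hz hzc => ?_
  · obtain ⟨j, hj⟩ := hpow z hz
    exact hnorm z (hH'.1.le hz) j hj
  · obtain ⟨j, hj⟩ := hpow z hz
    have h1 := List.all_eq_true.1 hcf.2 (j % 7) (List.mem_range.2 (Nat.mod_lt _ (by norm_num)))
    rw [h.eqM_of_φM (by
      rw [h.φM_mm, h.φM_mm, φM_pw h, ← hzc, ← hav, ← Units.val_pow_eq_pow_val, ← Units.val_mul,
        ← Units.val_mul, ← haord, pow_mod_orderOf, ← hj]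
      group)] at h1
    simp at h1

lemma not_field3 (h : Code 3 t) {H : Subgroup (GL (Fin 3) F)} (hH : IsMaximalIn (suGL 3 F 3) H)
    {K : Subalgebra F (Matrix (Fin 3) (Fin 3) F)} (hK : IsFieldSubalgebra 3 K)
    (hadj : IsAdjointClosedFor (hermForm 3 F 3) K) (hle : H ≤ subalgebraNormalizer K) : False :=
  not_field h (Or.inl rfl) hH hK hadj hle nonzero0 moved0 bi3_eq
    (fun i hi => match i, hi with
      | 0, _ => cen3_0
      | 1, _ => cen3_1
      | 2, _ => cen3_2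
      | _ + 3, hn => absurd hn (by omega))
    trace3 ys3_ok field3_wit

lemma not_field5 (h : Code 5 t) {H : Subgroup (GL (Fin 3) F)} (hH : IsMaximalIn (suGL 3 F 5) H)
    {K : Subalgebra F (Matrix (Fin 3) (Fin 3) F)} (hK : IsFieldSubalgebra 3 K)
    (hadj : IsAdjointClosedFor (hermForm 3 F 5) K) (hle : H ≤ subalgebraNormalizer K) : False :=
  not_field h (Or.inr rfl) hH hK hadj hle nonzero1 moved1 bi5_eq
    (fun i hi => match i, hi with
      | 0, _ => cen5_0
      | 1, _ => cen5_1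
      | 2, _ => cen5_2
      | 3, _ => cen5_3
      | 4, _ => cen5_4
      | _ + 5, hn => absurd hn (by omega))
    trace5 ys5_ok field5_wit

/-! ### The group of order 27 over 25 elements -/

/-- the standard group of order 27 -/
def r0 (h : Code 5 t) : Subgroup (GL (Fin 3) F) where
  carrier := {g | ∃ A ∈ r5, (g : Matrix (Fin 3) (Fin 3) F) = φM 5 t A}
  mul_mem' := by
    rintro a b ⟨A, hA, ha⟩ ⟨B, hB, hb⟩
    obtain ⟨C, hC, e⟩ := List.any_eq_true.1 (List.all_eq_true.1 (List.all_eq_true.1 r5_mul A hA) B hB)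
    exact ⟨C, hC, by rw [Units.val_mul, ha, hb, ← h.φM_mm, h.φM_of_eqM e]⟩
  one_mem' := by
    have e0 := r5_one
    simp only [Bool.and_eq_true] at e0
    obtain ⟨A, hA, e⟩ := List.any_eq_true.1 e0.1.1
    exact ⟨A, hA, by rw [h.φM_of_eqM e, h.φM_one, Units.val_one]⟩
  inv_mem' := by
    rintro a ⟨A, hA, ha⟩
    have h1 := List.all_eq_true.1 r5_closed A hA
    rw [Bool.and_eq_true] at h1
    obtain ⟨B, hB, e⟩ := List.any_eq_true.1 h1.2
    refine ⟨B, hB, Units.inv_eq_of_mul_eq_one_right ?_⟩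
    rw [ha, ← h.φM_mm, h.φM_of_eqM e, h.φM_one]

lemma card_su5 (h : Code 5 t) : Nat.card (suGL 3 F 5) = 378000 := by
  let e : suGL 3 F 5 ≃ Cfsg.SU 3 F 5 :=
    { toFun := fun g => OrthUnitaryHerm.mkSU ((g : GL (Fin 3) F) : Matrix (Fin 3) (Fin 3) F)
        ((mem_sl_iff _).1 g.2.2) (OrthUnitaryHerm.isU_of_mem ⟨g.1, g.2.1⟩)
      invFun := fun g => ⟨(OrthUnitaryHerm.suToGU g : GL (Fin 3) F),
        ⟨(OrthUnitaryHerm.suToGU g).2, (mem_sl_iff _).2 g.1.2⟩⟩
      left_inv := fun g => Subtype.ext (Units.ext rfl)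
      right_inv := fun g => Subtype.ext (Subtype.ext rfl) }
  have h1 := OrthUnitaryHerm.card_GU_eq_mul_card_SU (n := 3) h.card (by norm_num)
  rw [OrthUnitaryHerm.card_GU h.card, ← Nat.card_congr e] at h1
  norm_num [Finset.prod_range_succ, Nat.even_iff] at h1
  show Nat.card {x // x ∈ Cfsg.GU 3 F 5 ∧ x ∈ specialLinear (Fin 3) F} = _
  omega

lemma not_extraspecial (h : Code 5 t) {H : Subgroup (GL (Fin 3) F)} (hH : IsMaximalIn (suGL 3 F 5) H)
    {R : Subgroup (GL (Fin 3) F)} (hR : R ≤ suGL 3 F 5) (hcard : Nat.card R = 27)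
    (hle : H ≤ subgroupNormalizer R) : False := by
  classical
  haveI : Fact (Nat.Prime 3) := ⟨Nat.prime_three⟩
  have hr0 : r0 h ≤ suGL 3 F 5 := by
    rintro g ⟨A, hA, hg⟩
    have h1 := List.all_eq_true.1 r5_closed A hA
    rw [Bool.and_eq_true] at h1
    obtain ⟨g', hg', hg'v⟩ := h.exists_su h1.1
    rwa [show g = g' from Units.ext (hg.trans hg'v.symm)]
  have hr0card : Nat.card (r0 h) = 27 := by
    have hgl : ∀ A ∈ r5, ∃ g : r0 h, ((g : GL (Fin 3) F) : Matrix (Fin 3) (Fin 3) F) = φM 5 t A := by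
      intro A hA
      have h1 := List.all_eq_true.1 r5_closed A hA
      rw [Bool.and_eq_true] at h1
      obtain ⟨g', -, hg'v⟩ := h.exists_su h1.1
      exact ⟨⟨g', A, hA, hg'v⟩, hg'v⟩
    choose f hf using fun A : {A // A ∈ r5} => hgl A.1 A.2
    have hlen : r5.length = 27 := rfl
    let F' : Fin r5.length → r0 h := fun i => f ⟨r5[i.1], List.getElem_mem i.2⟩
    have hb : Function.Bijective F' := by
      refine ⟨fun i j e => Fin.ext ?_, fun g => ?_⟩
      · have e' : φM 5 t r5[i.1] = φM 5 t r5[j.1] := by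
          rw [← hf ⟨_, List.getElem_mem i.2⟩, ← hf ⟨_, List.getElem_mem j.2⟩]
          exact congrArg (fun g : r0 h => ((g : GL (Fin 3) F) : Matrix (Fin 3) (Fin 3) F)) e
        have e'' : mapM (cn 5) r5[i.1] = mapM (cn 5) r5[j.1] := eq_of_beq (h.eqM_of_φM e')
        have := (List.Nodup.getElem_inj_iff r5_nodup (hi := by rw [List.length_map]; exact i.2) (hj := by rw [List.length_map]; exact j.2)).1
          (by simpa using e'')
        exact this
      · obtain ⟨A, hA, hg⟩ := g.2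
        obtain ⟨i, hi, rfl⟩ := List.getElem_of_mem hA
        exact ⟨⟨i, hi⟩, Subtype.ext (Units.ext ((hf _).trans hg.symm))⟩
    rw [← Nat.card_eq_of_bijective F' hb, Nat.card_eq_fintype_card, Fintype.card_fin, hlen]
  have hsyl : ∀ Q : Subgroup (GL (Fin 3) F), Q ≤ suGL 3 F 5 → Nat.card Q = 27 →
      ∃ S : Sylow 3 (suGL 3 F 5), (S : Subgroup (suGL 3 F 5)) = Q.subgroupOf (suGL 3 F 5) := by
    intro Q hQ hQc
    refine ⟨Sylow.ofCard (Q.subgroupOf _) ?_, rfl⟩
    rw [Nat.card_congr (Subgroup.subgroupOfEquivOfLe hQ).toEquiv, hQc, card_su5 h]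
    have : (378000 : ℕ).factorization 3 = 3 := by
      rw [show (378000 : ℕ) = 3 ^ 3 * 14000 by norm_num,
        Nat.factorization_mul (by norm_num) (by norm_num), Finsupp.add_apply,
        Nat.Prime.factorization_pow Nat.prime_three, Finsupp.single_eq_same,
        Nat.factorization_eq_zero_of_not_dvd (by norm_num)]
    rw [this]
    norm_num
  obtain ⟨S₁, hS₁⟩ := hsyl R hR hcard
  obtain ⟨S₂, hS₂⟩ := hsyl (r0 h) hr0 hr0card
  obtain ⟨g, hg⟩ := MulAction.exists_smul_eq (suGL 3 F 5) S₁ S₂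
  have hconj : ∀ x : GL (Fin 3) F, x ∈ r0 h ↔ (g : GL (Fin 3) F)⁻¹ * x * g ∈ R := by
    intro x
    have key : ∀ y : suGL 3 F 5, y ∈ (S₂ : Subgroup (suGL 3 F 5)) ↔ g⁻¹ * y * g ∈ (S₁ : Subgroup (suGL 3 F 5)) := by
      intro y
      rw [← hg, Sylow.coe_subgroup_smul, Subgroup.mem_pointwise_smul_iff_inv_smul_mem, ← map_inv,
        MulAut.smul_def, MulAut.conj_apply, inv_inv]
    rw [hS₁, hS₂] at key
    constructor
    · intro hx
      simpa [Subgroup.mem_subgroupOf] using (key ⟨x, hr0 hx⟩).1 (by simpa [Subgroup.mem_subgroupOf] using hx)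
    · intro hx
      have hxs : x ∈ suGL 3 F 5 := by
        have := (suGL 3 F 5).mul_mem ((suGL 3 F 5).mul_mem g.2 (hR hx)) ((suGL 3 F 5).inv_mem g.2)
        simpa [mul_assoc] using this
      simpa [Subgroup.mem_subgroupOf] using (key ⟨x, hxs⟩).2 (by simpa [Subgroup.mem_subgroupOf] using hx)
  have hH' : IsMaximalIn (suGL 3 F 5) (H.map (MulAut.conj (g : GL (Fin 3) F)).toMonoidHom) :=
    isMaximalIn_conj hH (fun z hz => conj_su g.2.1 hz)
      fun z hz => by simpa using conj_su ((Cfsg.GU 3 F 5).inv_mem g.2.1) hz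
  have hnormal : ∀ z ∈ H.map (MulAut.conj (g : GL (Fin 3) F)).toMonoidHom, ∀ x ∈ r0 h,
      z * x * z⁻¹ ∈ r0 h := by
    rintro _ ⟨y, hy, rfl⟩ x hx
    rw [hconj]
    have := (Subgroup.mem_normalizer_iff.1 (hle hy) _).1 ((hconj x).1 hx)
    simpa [MulAut.conj_apply, mul_assoc] using this
  have hr1 := r5_one
  simp only [Bool.and_eq_true] at hr1
  obtain ⟨⟨-, hD⟩, hC⟩ := hr1
  obtain ⟨DA, hDA, hDe⟩ := List.any_eq_true.1 hD
  obtain ⟨CA, hCA, hCe⟩ := List.any_eq_true.1 hC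
  have hrel := rd_rc
  simp only [Bool.and_eq_true, bne_iff_ne, ne_eq] at hrel
  obtain ⟨⟨⟨⟨⟨hrd, hrc⟩, hcomm⟩, hw1⟩, hw2⟩, hw3⟩ := hrel
  have hDv : φM 5 t DA = φM 5 t rd := h.φM_of_eqM hDe
  have hCv : φM 5 t CA = φM 5 t rc := h.φM_of_eqM hCe
  obtain ⟨D₀, hD₀, hD₀v⟩ := h.exists_su (Bool.and_eq_true _ _ |>.mp (List.all_eq_true.1 r5_closed DA hDA)).1
  obtain ⟨C₀, hC₀, hC₀v⟩ := h.exists_su (Bool.and_eq_true _ _ |>.mp (List.all_eq_true.1 r5_closed CA hCA)).1
  have hw := r5_wit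
  simp only [Bool.and_eq_true] at hw
  have hm := moved3
  rw [Bool.and_eq_true] at hm
  refine h.absurd_overgroup hH' (S := s3) (fun z hz => ?_) hm.1 hm.2 nonzero3 hw.1.1 hw.1.2 fun z hz hzc => ?_
  · obtain ⟨X, hX, hXv⟩ := hnormal z hz D₀ ⟨DA, hDA, hD₀v⟩
    obtain ⟨Y, hY, hYv⟩ := hnormal z hz C₀ ⟨CA, hCA, hC₀v⟩
    have hzD : (z : Matrix (Fin 3) (Fin 3) F) * φM 5 t rd = φM 5 t X * (z : Matrix (Fin 3) (Fin 3) F) := by
      rw [← hDv, ← hD₀v, ← hXv, ← Units.val_mul, ← Units.val_mul]; group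
    have hzC : (z : Matrix (Fin 3) (Fin 3) F) * φM 5 t rc = φM 5 t Y * (z : Matrix (Fin 3) (Fin 3) F) := by
      rw [← hCv, ← hC₀v, ← hYv, ← Units.val_mul, ← Units.val_mul]; group
    have hXY : eqM 5 (mm 5 X Y) (smulM 5 w5 (mm 5 Y X)) = true := by
      refine h.eqM_of_φM ?_
      have e0 := h.φM_of_eqM hcomm
      rw [h.φM_mm, h.φM_smul, h.φM_mm] at e0 ⊢
      have cancel : ∀ A B : Matrix (Fin 3) (Fin 3) F,
          A * (z : Matrix (Fin 3) (Fin 3) F) = B * (z : Matrix (Fin 3) (Fin 3) F) → A = B := fun A B e => by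
        have := congrArg (fun M => M * ((z⁻¹ : GL (Fin 3) F) : Matrix (Fin 3) (Fin 3) F)) e
        simpa [mul_assoc, ← Units.val_mul] using this
      apply cancel
      rw [mul_assoc, ← hzC, ← mul_assoc, ← hzD, mul_assoc, e0, Matrix.mul_smul, Matrix.smul_mul, mul_assoc _ (φM 5 t X),
        ← hzD, ← mul_assoc (φM 5 t Y), ← hzC, mul_assoc]
    have hcov := List.all_eq_true.1 (List.all_eq_true.1 tab_cover X hX) Y hY
    rw [hXY, Bool.not_true, Bool.false_or] at hcov
    obtain ⟨e, he, heq⟩ := List.any_eq_true.1 hcov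
    rw [Bool.and_eq_true] at heq
    have hok := List.all_eq_true.1 tab_ok e he
    simp only [Bool.and_eq_true, Bool.or_eq_true, bne_iff_ne, ne_eq] at hok
    obtain ⟨⟨⟨heU, heD⟩, heC⟩, hst⟩ := hok
    obtain ⟨b, hb, hbv⟩ := h.exists_gu heU
    have hbD : (b : Matrix (Fin 3) (Fin 3) F) * φM 5 t rd = φM 5 t X * (b : Matrix (Fin 3) (Fin 3) F) := by
      have := h.φM_of_eqM heD
      rwa [h.φM_mm, h.φM_mm, h.φM_of_eqM heq.1, ← hbv] at this
    have hbC : (b : Matrix (Fin 3) (Fin 3) F) * φM 5 t rc = φM 5 t Y * (b : Matrix (Fin 3) (Fin 3) F) := by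
      have := h.φM_of_eqM heC
      rwa [h.φM_mm, h.φM_mm, h.φM_of_eqM heq.2, ← hbv] at this
    set U := b⁻¹ * z with hU
    have comm : ∀ (A B : Matrix (Fin 3) (Fin 3) F),
        (z : Matrix (Fin 3) (Fin 3) F) * A = B * (z : Matrix (Fin 3) (Fin 3) F) →
        (b : Matrix (Fin 3) (Fin 3) F) * A = B * (b : Matrix (Fin 3) (Fin 3) F) →
        (U : Matrix (Fin 3) (Fin 3) F) * A = A * (U : Matrix (Fin 3) (Fin 3) F) := by
      intro A B h1 h2
      have h3 : ((b⁻¹ : GL (Fin 3) F) : Matrix (Fin 3) (Fin 3) F) * B =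
          A * ((b⁻¹ : GL (Fin 3) F) : Matrix (Fin 3) (Fin 3) F) := by
        have := congrArg (fun M => ((b⁻¹ : GL (Fin 3) F) : Matrix (Fin 3) (Fin 3) F) * M *
          ((b⁻¹ : GL (Fin 3) F) : Matrix (Fin 3) (Fin 3) F)) h2
        simp only [← mul_assoc, ← Units.val_mul, inv_mul_cancel, Units.val_one, one_mul] at this
        simp only [mul_assoc, ← Units.val_mul, mul_inv_cancel, Units.val_one, mul_one] at this
        exact this.symm
      rw [hU, Units.val_mul, mul_assoc, h1, ← mul_assoc, h3, mul_assoc]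
    have hUD := comm _ _ hzD hbD
    have hUC := comm _ _ hzC hbC
    rw [h.φM_of_eqM hrd] at hUD
    rw [h.φM_of_eqM hrc] at hUC
    set w := φ 5 t om5 with hwdef
    have hwne : w ≠ 1 := fun e => hw1 (h.cn_eq (by rw [← hwdef, e, h.φ_one]))
    have hw2ne : w * w ≠ 1 := fun e => hw2 (h.cn_eq (by rw [h.φ_ml, ← hwdef, e, h.φ_one]))
    have hwwne : w * w ≠ w := fun e => hw3 (h.cn_eq (by rw [h.φ_ml, ← hwdef, e]))
    set u := (U : Matrix (Fin 3) (Fin 3) F) with hu
    have eD := fun r c => congrFun (congrFun hUD r) c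
    have eC := fun r c => congrFun (congrFun hUC r) c
    simp [Matrix.mul_apply, Fin.sum_univ_three, φM, φV, φ_zero, h.φ_one, h.φ_ml, ← hwdef, Fin.forall_fin_succ]
      at eD eC
    obtain ⟨u01, u02⟩ : u 0 1 = 0 ∧ u 0 2 = 0 := by
      constructor
      · refine (mul_eq_zero.1 (show (w - 1) * u 0 1 = 0 by linear_combination eD.1.1)).resolve_left ?_
        exact sub_ne_zero.2 hwne
      · refine (mul_eq_zero.1 (show (w * w - 1) * u 0 2 = 0 by linear_combination eD.1.2)).resolve_left ?_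
        exact sub_ne_zero.2 hw2ne
    obtain ⟨u10, u12⟩ : u 1 0 = 0 ∧ u 1 2 = 0 := by
      constructor
      · refine (mul_eq_zero.1 (show (w - 1) * u 1 0 = 0 by linear_combination -eD.2.1.1)).resolve_left ?_
        exact sub_ne_zero.2 hwne
      · refine (mul_eq_zero.1 (show (w * w - w) * u 1 2 = 0 by linear_combination eD.2.1.2.2)).resolve_left ?_
        exact sub_ne_zero.2 hwwne
    obtain ⟨u20, u21⟩ : u 2 0 = 0 ∧ u 2 1 = 0 := by
      constructor
      · refine (mul_eq_zero.1 (show (w * w - 1) * u 2 0 = 0 by linear_combination -eD.2.2.1)).resolve_left ?_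
        exact sub_ne_zero.2 hw2ne
      · refine (mul_eq_zero.1 (show (w * w - w) * u 2 1 = 0 by linear_combination -eD.2.2.2.1)).resolve_left ?_
        exact sub_ne_zero.2 hwwne
    have e11 : u 1 1 = u 0 0 := eC.1.2.1.symm
    have e22 : u 2 2 = u 0 0 := eC.2.1.2.2.symm.trans e11
    set s := u 0 0 with hs
    have hscal : u = s • (1 : Matrix (Fin 3) (Fin 3) F) := by
      ext r c
      fin_cases r <;> fin_cases c <;> simp [hs, u01, u02, u10, u12, u20, u21, e11, e22]
    have hzv : (z : Matrix (Fin 3) (Fin 3) F) = s • φM 5 t e.2.2 := by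
      rw [← hbv, show z = b * U by rw [hU]; group, Units.val_mul, ← hu, hscal, Matrix.mul_smul, mul_one]
    have hs0 : s ≠ 0 := fun e0 => z.ne_zero (by rw [hzv, e0, zero_smul])
    rcases hst with hne | hst
    · refine absurd (h.cn_eq ?_) hne
      have hUu : U ∈ Cfsg.GU 3 F 5 := (Cfsg.GU 3 F 5).mul_mem ((Cfsg.GU 3 F 5).inv_mem hb) (hH'.1.le hz).1
      have h6 := congrFun (congrFun (iso_matrix h.card hUu) 0) 0
      rw [← hu, hscal] at h6
      simp [Matrix.mul_apply, Fin.sum_univ_three] at h6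
      have hd1 := (mem_sl_iff _).1 (hH'.1.le hz).2
      rw [hzv, Matrix.det_smul, Fintype.card_fin] at hd1
      rw [h.φ_ml, h.φ_detM, h.φ_one]
      linear_combination (s ^ 3 * (φM 5 t e.2.2).det + 1) * hd1 - (φM 5 t e.2.2).det ^ 2 * h6
    · exact h.mem_lineStab nonzero3 hs0 hzv hst
  · obtain ⟨X, hX, hXv⟩ := hnormal z hz C₀ ⟨CA, hCA, hC₀v⟩
    have h1 := List.all_eq_true.1 hw.2 X hX
    rw [h.eqM_of_φM (by
      rw [h.φM_mm, h.φM_mm, ← hzc, ← hCv, ← hC₀v, ← hXv, ← Units.val_mul, ← Units.val_mul]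
      group)] at h1
    simp at h1

end Cfsg.Agent.OrthUnitarySUThreeExc
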