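import Mathlib
import Cfsg.Agent.Lib.OrthUnitaryKlein
import Cfsg.Agent.Lib.OrthUnitaryMinusFour
import Cfsg.Agent.Lib.OrthUnitaryPSU

/-!
`SU_4` inside the Klein correspondence: minus type in dimension six.
-/

set_option autoImplicit false
set_option linter.unusedSectionVars false

namespace Cfsg.Agent.OrthUnitarySix

open QuadraticMap
open scoped Matrix MatrixGroups
open Cfsg.Agent.OrthUnitaryQuad
open Cfsg.Agent.OrthUnitaryForms
open Cfsg.Agent.OrthUnitaryStd
open Cfsg.Agent.OrthUnitaryKlein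
open Cfsg.Agent.OrthUnitaryIsoCore
open Cfsg.Agent.OrthUnitaryLowDim
open Cfsg.Agent.OrthUnitaryHerm
open Cfsg.Agent.UnitaryEmbed

section Field

variable {K : Type*} [Field K]

/-- Exchanging the two halves. -/
def swap6 (v : Fin 3 ⊕ Fin 3 → K) : Fin 3 ⊕ Fin 3 → K :=
  Sum.elim (fun i => v (.inr i)) (fun i => v (.inl i))

theorem dot_swap (u v : Fin 3 ⊕ Fin 3 → K) :
    u ⬝ᵥ swap6 v = quadFormPlus 3 K (u + v) - quadFormPlus 3 K u - quadFormPlus 3 K v := by
  simp [swap6, dotProduct, quadFormPlus, Fintype.sum_sum_type, Fin.sum_univ_three]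
  ring

theorem act_adjoint (M : Matrix (Fin 4) (Fin 4) K) (u v : Fin 3 ⊕ Fin 3 → K) :
    act M u ⬝ᵥ v = u ⬝ᵥ act Mᵀ v := by
  simp [act_apply, dotProduct, Fintype.sum_sum_type, Fin.sum_univ_three, ofAlt, toAlt,
    Matrix.mul_apply, Fin.sum_univ_four, Matrix.transpose_apply]
  ring

theorem swap6_act (g : SL(4, K)) (v : Fin 3 ⊕ Fin 3 → K) :
    swap6 (act g.1 v) = act (g⁻¹).1ᵀ (swap6 v) := by
  refine dotProduct_eq _ _ fun u => ?_
  rw [dotProduct_comm, dotProduct_comm (act _ (swap6 v)), ← act_adjoint, dot_swap, dot_swap]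
  obtain ⟨u', rfl⟩ : ∃ u', u = act g.1 u' := ⟨act g⁻¹.1 u, by
    rw [← OrthUnitaryKlein.act_mul,
      show g.1 * g⁻¹.1 = 1 from congrArg Subtype.val (mul_inv_cancel g), OrthUnitaryKlein.act_one]⟩
  rw [← OrthUnitaryKlein.act_mul,
    show g⁻¹.1 * g.1 = 1 from congrArg Subtype.val (inv_mul_cancel g), OrthUnitaryKlein.act_one,
    ← map_add, det_mul_pfaffian, det_mul_pfaffian, det_mul_pfaffian, g.2, one_mul, one_mul,
    one_mul]

theorem map_act {L : Type*} [Field L] (s : K →+* L) (M : Matrix (Fin 4) (Fin 4) K)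
    (v : Fin 3 ⊕ Fin 3 → K) : (fun i => s (act M v i)) = act (M.map s) (fun i => s (v i)) := by
  have h1 : ∀ A : Matrix (Fin 4) (Fin 4) K, (fun i => s (ofAlt A i)) = ofAlt (A.map s) :=
    fun A => by
      funext i
      rcases i with i | i <;> fin_cases i <;> simp [ofAlt]
  have h2 : (toAlt v).map s = toAlt (fun i => s (v i)) := by
    ext i j
    fin_cases i <;> fin_cases j <;> simp [toAlt]
  show (fun i => s (ofAlt (M * toAlt v * Mᵀ) i)) = ofAlt (M.map s * toAlt _ * (M.map s)ᵀ)
  rw [h1, Matrix.map_mul, Matrix.map_mul, h2, Matrix.transpose_map]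

end Field

variable {K F : Type*} [Field K] [Fintype K] [Field F] [Fintype F] {q : ℕ}

/-- Vectors whose two halves are conjugate. -/
def IsReal (q : ℕ) (v : Fin 3 ⊕ Fin 3 → K) : Prop := ∀ i, v (.inr i) = v (.inl i) ^ q

theorem transpose_mul_map (hK : Fintype.card K = q ^ 2) {s : K →+* K} (hs : ∀ x, s x = x ^ q)
    (g : SU 4 K q) : (g.1.1)ᵀ * g.1.1.map s = 1 := by
  ext i j
  rw [Matrix.mul_apply]
  have h := g.2 (Pi.single i 1) (Pi.single j 1)
  rw [show (slToMat 4 K) g.1 = g.1.1 from rfl, Matrix.mulVec_single_one, Matrix.mulVec_single_one,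
    herm_single_right hK, hermForm] at h
  simp only [Matrix.transpose_apply, Matrix.map_apply, hs]
  refine h.trans ?_
  rw [Pi.single_apply, Matrix.one_apply]
  simp [eq_comm]

theorem isReal_act (hK : Fintype.card K = q ^ 2) (g : SU 4 K q) {v : Fin 3 ⊕ Fin 3 → K}
    (hv : IsReal q v) : IsReal q (act g.1.1 v) := by
  obtain ⟨s, hs⟩ := exists_frobHom hK
  have hv' : (fun i => s (v i)) = swap6 v := by
    funext i
    rcases i with i | i
    · rw [hs]; exact (hv i).symm
    · rw [hs, hv i, pow_q_q hK]; rfl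
  have hM : g.1.1.map s = (g.1⁻¹).1ᵀ := by
    calc g.1.1.map s = ((g.1⁻¹).1ᵀ * (g.1.1)ᵀ) * g.1.1.map s := by
          rw [← Matrix.transpose_mul,
            show g.1.1 * (g.1⁻¹).1 = 1 from congrArg Subtype.val (mul_inv_cancel g.1),
            Matrix.transpose_one, Matrix.one_mul]
      _ = (g.1⁻¹).1ᵀ := by rw [Matrix.mul_assoc, transpose_mul_map hK hs, Matrix.mul_one]
  have key : (fun i => s (act g.1.1 v i)) = swap6 (act g.1.1 v) := by
    rw [map_act, hv', hM, swap6_act]
  intro i
  have := congrFun key (.inl i)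
  simp only [hs] at this
  exact this.symm

section Model

variable [Algebra F K]

/-- The coordinates of a vector of the six-dimensional space. -/
def coords (q : ℕ) (θ : K) (e f : Fin 2 → K) :
    (((Fin 2 ⊕ Fin 2) ⊕ Fin 2) → F) →+ (Fin 3 → K) where
  toFun v :=
    ![(algebraMap F K (v (.inl (.inl 0))) + algebraMap F K (v (.inl (.inl 1))) * θ) * e 0
        + (algebraMap F K (v (.inl (.inr 1))) - θ * algebraMap F K (v (.inl (.inr 0))))
          / (θ ^ q - θ) * f 0,
      (algebraMap F K (v (.inl (.inl 0))) + algebraMap F K (v (.inl (.inl 1))) * θ) * e 1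
        + (algebraMap F K (v (.inl (.inr 1))) - θ * algebraMap F K (v (.inl (.inr 0))))
          / (θ ^ q - θ) * f 1,
      algebraMap F K (v (.inr 0)) + algebraMap F K (v (.inr 1)) * θ]
  map_zero' := by
    funext i
    fin_cases i <;> simp
  map_add' u v := by
    funext i
    fin_cases i <;> simp <;> ring

theorem coords_smul (θ : K) (e f : Fin 2 → K) (c : F) (v : ((Fin 2 ⊕ Fin 2) ⊕ Fin 2) → F) :
    coords q θ e f (c • v) = algebraMap F K c • coords q θ e f v := by
  funext i
  fin_cases i <;> simp [coords] <;> ring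

theorem sum_norm_coords (hK : Fintype.card K = q ^ 2) (hF : Fintype.card F = q) {a b : F} {θ : K}
    (hne : θ ^ q ≠ θ) (hsum : θ + θ ^ q = algebraMap F K a) (hprod : θ * θ ^ q = algebraMap F K b)
    {e f : Fin 2 → K} (hee : hermForm 2 K q e e = 0) (hff : hermForm 2 K q f f = 0)
    (hef : hermForm 2 K q e f = 1) (hfe : hermForm 2 K q f e = 1)
    (v : ((Fin 2 ⊕ Fin 2) ⊕ Fin 2) → F) :
    ∑ i, coords q θ e f v i * coords q θ e f v i ^ q
      = algebraMap F K (quadFormMinus 2 F a b v) := by
  set X0 := algebraMap F K (v (.inl (.inl 0))) with hX0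
  set X1 := algebraMap F K (v (.inl (.inl 1))) with hX1
  set Y0 := algebraMap F K (v (.inl (.inr 0))) with hY0
  set Y1 := algebraMap F K (v (.inl (.inr 1))) with hY1
  set u := X0 + X1 * θ with hu
  set w := (Y1 - θ * Y0) / (θ ^ q - θ) with hw
  have h0 : coords q θ e f v 0 = u * e 0 + w * f 0 := rfl
  have h1 : coords q θ e f v 1 = u * e 1 + w * f 1 := rfl
  have h2 : coords q θ e f v 2
      = algebraMap F K (v (.inr 0)) + algebraMap F K (v (.inr 1)) * θ := rfl
  have hsub : θ ^ q - θ ≠ 0 := sub_ne_zero.2 hne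
  have hsub' : θ - θ ^ q ≠ 0 := sub_ne_zero.2 hne.symm
  have hpl : (u * e 0 + w * f 0) * (u * e 0 + w * f 0) ^ q
      + (u * e 1 + w * f 1) * (u * e 1 + w * f 1) ^ q = u * w ^ q + w * u ^ q := by
    have h : hermForm 2 K q (u • e + w • f) (u • e + w • f) = u * w ^ q + w * u ^ q := by
      simp only [herm_add_left, herm_add_right hK, herm_smul_left, herm_smul_right, hee, hff, hef,
        hfe]
      ring
    simpa [hermForm, Fin.sum_univ_two] using h
  rw [Fin.sum_univ_three, h0, h1, h2, hpl]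
  have hwq : w ^ q = (Y1 - θ ^ q * Y0) / (θ - θ ^ q) := by
    rw [hw, div_pow, sub_pow_q hK, sub_pow_q hK, mul_pow, pow_q_q hK, hY0, hY1, alg_pow hF,
      alg_pow hF]
  have huq : u ^ q = X0 + X1 * θ ^ q := by
    rw [hu, add_pow_q hK, mul_pow, hX0, hX1, alg_pow hF, alg_pow hF]
  rw [hwq, huq, hu, hw, add_pow_q hK, mul_pow, alg_pow hF, alg_pow hF]
  simp only [quadFormMinus, Fin.sum_univ_two, map_add, map_mul, map_pow, ← hX0, ← hX1, ← hY0,
    ← hY1]
  rw [show (Y1 - θ * Y0) / (θ ^ q - θ) = -((Y1 - θ * Y0) / (θ - θ ^ q)) by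
    rw [← div_neg, neg_sub]]
  field_simp
  linear_combination (θ - θ ^ q) * (algebraMap F K (v (.inr 0)) * algebraMap F K (v (.inr 1))) * hsum
    + (θ - θ ^ q) * algebraMap F K (v (.inr 1)) ^ 2 * hprod

theorem exists_hom (hK : Fintype.card K = q ^ 2) (hF : Fintype.card F = q) {a b : F}
    (hab : IsAniso a b) (Q : QuadraticForm F (((Fin 2 ⊕ Fin 2) ⊕ Fin 2) → F))
    (hf : ∀ v, quadFormMinus 2 F a b v = Q v) (hQ : (polarBilin Q).Nondegenerate) :
    ∃ φ : SU 4 K q →* orth Q, ∀ g ∈ φ.ker, g.1.1 = 1 ∨ g.1.1 = -1 := by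
  classical
  obtain ⟨θ, hne, hsum, hprod⟩ := OrthUnitaryMinusFour.exists_root hK hF hab
  obtain ⟨e, he0, hee⟩ := OrthUnitaryTransvection.exists_isotropic (F := K) hK (le_refl 2)
  obtain ⟨f, hff, hfe, hef⟩ := OrthUnitaryTransvection.exists_hyp hK he0 hee
  let E : (((Fin 2 ⊕ Fin 2) ⊕ Fin 2) → F) →+ (Fin 3 ⊕ Fin 3 → K) :=
    { toFun := fun v => Sum.elim (coords q θ e f v) (fun i => coords q θ e f v i ^ q)
      map_zero' := by
        funext i
        rcases i with i | i <;> simp [zero_pow_q hK]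
      map_add' := fun u v => by
        funext i
        rcases i with i | i <;> simp [add_pow_q hK] }
  have hE : ∀ v, quadFormPlus 3 K (E v) = algebraMap F K (quadFormMinus 2 F a b v) := fun v => by
    rw [← sum_norm_coords hK hF hne hsum hprod hee hff hef hfe v]
    rfl
  have hEs : ∀ (c : F) v, E (c • v) = algebraMap F K c • E v := fun c v => by
    funext i
    rcases i with i | i
    · show coords q θ e f (c • v) i = algebraMap F K c * coords q θ e f v i
      rw [coords_smul]
      rfl
    · show coords q θ e f (c • v) i ^ q = algebraMap F K c * coords q θ e f v i ^ q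
      rw [coords_smul, Pi.smul_apply, smul_eq_mul, mul_pow, alg_pow hF]
  have hinj : Function.Injective E := by
    rw [injective_iff_map_eq_zero]
    intro v hv
    refine hQ.1 v fun y => ?_
    show Q (v + y) - Q v - Q y = 0
    apply (algebraMap F K).injective
    rw [map_sub, map_sub, map_zero, ← hf, ← hf, ← hf, ← hE, ← hE, ← hE, map_add, hv, zero_add]
    simp [quadFormPlus]
  have hreal : ∀ v, IsReal q (E v) := fun v i => rfl
  have hsurj : ∀ w, IsReal q w → ∃ v, E v = w := by
    have hfin : Finite (((Fin 2 ⊕ Fin 2) ⊕ Fin 2) → F) := inferInstance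
    have hbij : Function.Bijective fun v => (fun i => E v (.inl i) : Fin 3 → K) := by
      rw [Nat.bijective_iff_injective_and_card]
      refine ⟨fun u v huv => hinj (funext fun i => ?_), ?_⟩
      · rcases i with i | i
        · exact congrFun huv i
        · rw [hreal u i, hreal v i]
          exact congrArg (· ^ q) (congrFun huv i)
      · simp [Nat.card_eq_fintype_card, hK, hF]
        ring
    intro w hw
    obtain ⟨v, hv⟩ := hbij.2 fun i => w (.inl i)
    refine ⟨v, funext fun i => ?_⟩
    rcases i with i | i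
    · exact congrFun hv i
    · rw [hreal v i, hw i]
      exact congrArg (· ^ q) (congrFun hv i)
  choose T hT using fun (g : SU 4 K q) v => hsurj _ (isReal_act hK g (hreal v))
  let L : SU 4 K q →
      (((Fin 2 ⊕ Fin 2) ⊕ Fin 2) → F) →ₗ[F] (((Fin 2 ⊕ Fin 2) ⊕ Fin 2) → F) := fun g =>
    { toFun := T g
      map_add' := fun u v => hinj (by rw [hT, map_add, map_add, map_add, hT, hT])
      map_smul' := fun c v => hinj (by rw [hT, RingHom.id_apply, hEs, hEs, hT, map_smul]) }
  have h1 : ∀ v, L 1 v = v := fun v => hinj (by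
    show E (T 1 v) = E v
    rw [hT]
    exact OrthUnitaryKlein.act_one _)
  have hmul : ∀ g h v, L (g * h) v = L g (L h v) := fun g h v => hinj (by
    show E (T (g * h) v) = E (T g (T h v))
    rw [hT, hT, hT]
    exact OrthUnitaryKlein.act_mul _ _ _)
  have hQ' : ∀ g v, Q (L g v) = Q v := fun g v => by
    apply (algebraMap F K).injective
    rw [← hf, ← hf, ← hE, ← hE]
    show quadFormPlus 3 K (E (T g v)) = _
    rw [hT, det_mul_pfaffian, g.1.2, one_mul]
  refine ⟨bundleHom L h1 hmul hQ', fun g hg => ?_⟩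
  have hfix : ∀ w, IsReal q w → act g.1.1 w = w := by
    intro w hw
    obtain ⟨v, rfl⟩ := hsurj w hw
    rw [← hT]
    exact congrArg E (bundleHom_ker L h1 hmul hQ' hg v)
  have hk : g.1 ∈ (kleinHom (F := K)).ker := by
    rw [MonoidHom.mem_ker]
    refine Subtype.ext (LinearEquiv.ext fun v => ?_)
    show act g.1.1 v = v
    -- every vector is a combination of two real ones
    set sv : Fin 3 ⊕ Fin 3 → K :=
      Sum.elim (fun i => v (.inr i) ^ q) (fun i => v (.inl i) ^ q) with hsv
    have hp : IsReal q (v + sv) := fun i => by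
      simp [hsv, add_pow_q hK, pow_q_q hK, add_comm]
    have hp' : IsReal q (θ • v + θ ^ q • sv) := fun i => by
      simp [hsv, add_pow_q hK, mul_pow, pow_q_q hK, add_comm]
    have hv : v = (θ ^ q - θ)⁻¹ • (θ ^ q • (v + sv) - (θ • v + θ ^ q • sv)) := by
      rw [show θ ^ q • (v + sv) - (θ • v + θ ^ q • sv) = (θ ^ q - θ) • v by module,
        inv_smul_smul₀ (sub_ne_zero.2 hne)]
    conv_lhs => rw [hv, map_smul, map_sub, map_smul, hfix _ hp, hfix _ hp']
    exact hv.symm
  exact eq_one_or_neg_one_of_minors (by norm_num) _ (minors_of_ker g.1 hk)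

end Model

theorem nonempty_six (hF : Fintype.card F = q) (hK : Fintype.card K = q ^ 2) {a b : F}
    (hab : IsAniso a b) :
    Nonempty (POmega F (quadFormMinus 2 F a b) ≃* PSU 4 K q) := by
  classical
  obtain ⟨ι⟩ := exists_algebra (K := K) (F := F) hK hF
  letI := ι.toAlgebra
  have h2iff : (2 : K) = 0 ↔ (2 : F) = 0 := by
    rw [← map_ofNat (algebraMap F K) 2, map_eq_zero]
  set Q := (withBase 2 (qfBin a b)).comp (eqMinus (F := F) 2).symm.toLinearMap with hQdef
  have hf := comp_symm_apply (withBase 2 (qfBin a b)) (quadFormMinus 2 F a b) (eqMinus 2)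
    (eqMinus_isometry 2 a b)
  have hQ : (polarBilin Q).Nondegenerate :=
    nondegenerate_congr (eqMinus 2) (fun x => by simp [hQdef])
      (nondegenerate_withBase (nondegenerate_qfBin hab) 2)
  obtain ⟨φ, hker⟩ := exists_hom (F := F) hK hF hab Q hf hQ
  have hperf := OrthUnitaryPSU.commutator_eq_top (F := K) (n := 4) hK (by norm_num) (by simp)
  have hc : φ.ker ≤ Subgroup.center (SU 4 K q) := fun g hg => by
    rw [Subgroup.mem_center_iff]
    intro k
    apply Subtype.ext; apply Subtype.ext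
    show k.1.1 * g.1.1 = g.1.1 * k.1.1
    rcases hker g hg with h | h <;> rw [h] <;> simp
  have hneg : IsU q (-1 : Matrix (Fin 4) (Fin 4) K) := fun u v => by
    rw [Matrix.neg_mulVec, Matrix.neg_mulVec, Matrix.one_mulVec, Matrix.one_mulVec,
      ← neg_one_smul K u, ← neg_one_smul K v, herm_smul_left, herm_smul_right, neg_pow_q hK,
      one_pow]
    ring
  let z : SU 4 K q := mkSU (-1) (by rw [Matrix.det_neg, Matrix.det_one]; simp [pow_succ]) hneg
  have hk := card_le_ite (F := F) φ.ker z (fun g hg => (hker g hg).imp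
      (fun h => Subtype.ext (Subtype.ext h)) (fun h => Subtype.ext (Subtype.ext h)))
    fun h => Subtype.ext (Subtype.ext (by
      show (-1 : Matrix (Fin 4) (Fin 4) K) = 1
      ext i j
      by_cases hij : i = j
      · subst hij
        simp only [Matrix.neg_apply, Matrix.one_apply_eq]
        linear_combination -(h2iff.2 h)
      · simp [hij]))
  exact (nonempty_POmega_equiv_of_perfect Q _ hf hQ (by simp) φ hperf hc hk (by
    have h := card_GU_eq_mul_card_SU (F := K) (n := 4) hK (by norm_num)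
    rw [card_GU hK, Finset.prod_range_succ, Finset.prod_range_succ, Finset.prod_range_succ,
      Finset.prod_range_one, if_pos (by decide), if_neg (by decide), if_pos (by decide),
      if_neg (by decide)] at h
    rw [card_isometryGroup_minus hF hab 2, Finset.prod_range_succ, Finset.prod_range_one]
    refine Nat.le_of_mul_le_mul_left (le_of_eq ?_) (show 0 < q + 1 by omega)
    rw [mul_left_comm (q + 1) 2 (Nat.card (SU 4 K q)), h]
    ring)).1

end Cfsg.Agent.OrthUnitarySix
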