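import Cfsg.Agent.S5318

/-!
A Sylow `2`-subgroup `Q` of `SL 2 F`, `F` of odd order: generators and normaliser.
-/

set_option autoImplicit false

namespace Cfsg.Agent.SympTwoQuat

open Matrix
open Cfsg.Agent.S5318 hiding core result
open scoped MatrixGroups

variable {F : Type*} [Field F]

local notation "L2" => SpecialLinearGroup (Fin 2) F

theorem extL {A B : SpecialLinearGroup (Fin 2) F} (h00 : A.1 0 0 = B.1 0 0) (h01 : A.1 0 1 = B.1 0 1)
    (h10 : A.1 1 0 = B.1 1 0) (h11 : A.1 1 1 = B.1 1 1) : A = B := by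
  refine Subtype.ext ?_
  ext i j
  fin_cases i <;> fin_cases j <;> assumption

@[simp] theorem lmul (A B : L2) (i j : Fin 2) :
    (A * B).1 i j = A.1 i 0 * B.1 0 j + A.1 i 1 * B.1 1 j := by
  show (A.1 * B.1) i j = _
  rw [Matrix.mul_apply, Fin.sum_univ_two]

@[simp] theorem lone (i j : Fin 2) : (1 : L2).1 i j = if i = j then 1 else 0 := by
  show (1 : Matrix (Fin 2) (Fin 2) F) i j = _
  rw [Matrix.one_apply]

theorem det_L (A : L2) : A.1 0 0 * A.1 1 1 - A.1 0 1 * A.1 1 0 = 1 := by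
  rw [← Matrix.det_fin_two]; exact A.2

theorem linv (A : L2) : (A⁻¹).1 = !![A.1 1 1, -A.1 0 1; -A.1 1 0, A.1 0 0] := by
  show Matrix.adjugate A.1 = _
  exact Matrix.adjugate_fin_two _

/-- `-1`. -/
def negOne : SpecialLinearGroup (Fin 2) F := ⟨!![-1, 0; 0, -1], by simp⟩

/-- `[[0, -1], [1, 0]]`. -/
def jM : SpecialLinearGroup (Fin 2) F := ⟨!![0, -1; 1, 0], by simp⟩

theorem negOne_val : (negOne : L2).1 = !![-1, 0; 0, -1] := rfl
theorem jM_val : (jM : L2).1 = !![0, -1; 1, 0] := rfl

theorem negOne_comm (A : L2) : A * negOne = negOne * A :=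
  extL (by simp [negOne_val]) (by simp [negOne_val]) (by simp [negOne_val]) (by simp [negOne_val])

theorem negOne_sq : (negOne : L2) * negOne = 1 :=
  extL (by simp [negOne_val]) (by simp [negOne_val]) (by simp [negOne_val]) (by simp [negOne_val])

theorem jM_sq : (jM : L2) * jM = negOne :=
  extL (by simp [jM_val, negOne_val]) (by simp [jM_val, negOne_val]) (by simp [jM_val, negOne_val])
    (by simp [jM_val, negOne_val])

theorem negOne_ne_one (h2 : (2 : F) ≠ 0) : (negOne : L2) ≠ 1 := fun h => by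
  have := congrArg (fun A : L2 => A.1 0 0) h
  simp [negOne_val] at this
  exact h2 (by linear_combination -this)

/-- An element of trace `1` has cube `-1`. -/
theorem cube_of_trace {A : L2} (h : A.1 0 0 + A.1 1 1 = 1) : A * A * A = negOne := by
  have hd := det_L A
  have h1 : A.1 1 1 = 1 - A.1 0 0 := by linear_combination h
  rw [h1] at hd
  refine extL ?_ ?_ ?_ ?_ <;> simp [negOne_val, h1]
  · linear_combination (-(A.1 0 0) - 1) * hd
  · linear_combination (-(A.1 0 1)) * hd
  · linear_combination (-(A.1 1 0)) * hd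
  · linear_combination (A.1 0 0 - 2) * hd

/-- The torus `[[a, -b], [b, a]]`. -/
def IsRot (A : SpecialLinearGroup (Fin 2) F) : Prop := A.1 0 0 = A.1 1 1 ∧ A.1 1 0 = -A.1 0 1

/-- The coset `[[a, b], [b, -a]]`. -/
def IsRef (A : SpecialLinearGroup (Fin 2) F) : Prop := A.1 1 1 = -A.1 0 0 ∧ A.1 1 0 = A.1 0 1

theorem IsRot.comm {A B : L2} (hA : IsRot A) (hB : IsRot B) : A * B = B * A := by
  obtain ⟨a1, a2⟩ := hA
  obtain ⟨b1, b2⟩ := hB
  refine extL ?_ ?_ ?_ ?_ <;> simp only [lmul, a1, a2, b1, b2] <;> ring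

theorem IsRot.mul_ref {A B : L2} (hA : IsRot A) (hB : IsRef B) : IsRef (A * B) := by
  obtain ⟨a1, a2⟩ := hA
  obtain ⟨b1, b2⟩ := hB
  constructor <;> simp only [lmul, a1, a2, b1, b2] <;> ring

theorem IsRef.mul_rot {A B : L2} (hA : IsRef A) (hB : IsRot B) : IsRef (A * B) := by
  obtain ⟨a1, a2⟩ := hA
  obtain ⟨b1, b2⟩ := hB
  constructor <;> simp only [lmul, a1, a2, b1, b2] <;> ring

theorem IsRef.mul_ref {A B : L2} (hA : IsRef A) (hB : IsRef B) : IsRot (A * B) := by
  obtain ⟨a1, a2⟩ := hA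
  obtain ⟨b1, b2⟩ := hB
  constructor <;> simp only [lmul, a1, a2, b1, b2] <;> ring

theorem IsRef.sq {A : L2} (hA : IsRef A) : A * A = negOne := by
  obtain ⟨a1, a2⟩ := hA
  have hd := det_L A
  rw [a1, a2] at hd
  refine extL ?_ ?_ ?_ ?_ <;> simp [negOne_val, a1, a2]
  · linear_combination -hd
  · ring
  · ring
  · linear_combination -hd

theorem IsRef.conj_rot {A r : L2} (hA : IsRef A) (hr : IsRot r) : A * r = r⁻¹ * A := by
  obtain ⟨a1, a2⟩ := hA
  obtain ⟨b1, b2⟩ := hr
  refine extL ?_ ?_ ?_ ?_ <;> simp [linv, Matrix.adjugate_fin_two, a1, a2, b1, b2] <;> ring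

theorem rot_jM : IsRot (jM : L2) := by simp [IsRot, jM_val]

theorem rot_negOne : IsRot (negOne : L2) := by simp [IsRot, negOne_val]

theorem rot_of_comm_rot {c A : L2} (hc : IsRot c) (hb : c.1 0 1 ≠ 0) (h : A * c = c * A) :
    IsRot A := by
  obtain ⟨c1, c2⟩ := hc
  have e0 := congrArg (fun X : L2 => X.1 0 0) h
  have e1 := congrArg (fun X : L2 => X.1 0 1) h
  simp only [lmul, c1, c2] at e0 e1
  exact ⟨mul_right_cancel₀ hb (by linear_combination e1),
    mul_right_cancel₀ hb (by linear_combination -e0)⟩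

theorem ref_of_anticomm_jM (h2 : (2 : F) ≠ 0) {A : L2} (h : A * jM = negOne * (jM * A)) :
    IsRef A := by
  have e0 := congrArg (fun X : L2 => X.1 0 0) h
  have e1 := congrArg (fun X : L2 => X.1 0 1) h
  simp [jM_val, negOne_val] at e0 e1
  exact ⟨by linear_combination -e1, by linear_combination -e0⟩

/-- An element of square `-1` is conjugate to `jM`. -/
theorem exists_conj_jM [Finite F] (h2 : (2 : F) ≠ 0) {x : L2} (hx : x * x = negOne) :
    ∃ g : L2, x = g * jM * g⁻¹ := by
  have hd := det_L x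
  have e0 := congrArg (fun X : L2 => X.1 0 0) hx
  have e1 := congrArg (fun X : L2 => X.1 0 1) hx
  have e2 := congrArg (fun X : L2 => X.1 1 0) hx
  have e3 := congrArg (fun X : L2 => X.1 1 1) hx
  simp [negOne_val] at e0 e1 e2 e3
  have key : ∀ v0 v1 : F, v0 * (x.1 1 0 * v0 + x.1 1 1 * v1) - (x.1 0 0 * v0 + x.1 0 1 * v1) * v1 ≠ 0 →
      ∃ g : L2, x = g * jM * g⁻¹ := by
    intro v0 v1 hne
    have := Fintype.ofFinite F
    set δ := v0 * (x.1 1 0 * v0 + x.1 1 1 * v1) - (x.1 0 0 * v0 + x.1 0 1 * v1) * v1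
    obtain ⟨a, b, hab⟩ := FiniteField.exists_root_sum_quadratic
      (f := Polynomial.X ^ 2 - Polynomial.C δ⁻¹) (g := Polynomial.X ^ 2)
      (by rw [Polynomial.degree_sub_C (by simp)]; simp) (by simp) (FiniteField.odd_card_of_char_ne_two fun hc => h2 (by
        have := CharP.cast_eq_zero F (ringChar F)
        rw [hc] at this; exact_mod_cast this))
    simp at hab
    let y0 := x.1 0 0 * v0 + x.1 0 1 * v1
    let y1 := x.1 1 0 * v0 + x.1 1 1 * v1
    obtain ⟨g, hg⟩ : ∃ g : L2, g.1 =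
        !![v0 * a + y0 * b, v0 * -b + y0 * a; v1 * a + y1 * b, v1 * -b + y1 * a] := by
      refine ⟨⟨_, ?_⟩, rfl⟩
      rw [Matrix.det_fin_two_of]
      simp only [y0, y1]
      have h1 : δ * (a ^ 2 + b ^ 2) = 1 := by
        rw [show a ^ 2 + b ^ 2 = δ⁻¹ by linear_combination hab, mul_inv_cancel₀ hne]
      linear_combination h1
    refine ⟨g, ?_⟩
    · rw [eq_mul_inv_iff_mul_eq]
      refine extL ?_ ?_ ?_ ?_ <;> simp [hg, jM_val, y0, y1]
      · linear_combination b * v0 * e0 + b * v1 * e1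
      · linear_combination a * v0 * e0 + a * v1 * e1
      · linear_combination b * v0 * e2 + b * v1 * e3
      · linear_combination a * v0 * e2 + a * v1 * e3
  by_cases h10 : x.1 1 0 = 0
  · by_cases h01 : x.1 0 1 = 0
    · refine key 1 1 fun h => ?_
      rw [h10, h01] at h hd
      simp [h10, h01] at e0
      exact h2 (by linear_combination e0 - hd + x.1 0 0 * h)
    · exact key 0 1 (by simpa using h01)
  · exact key 1 0 (by simpa using h10)

variable [Finite F]

/-- A Sylow `2`-subgroup of `SL 2 F`. -/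
def Q (F : Type*) [Field F] [Finite F] : Subgroup (SpecialLinearGroup (Fin 2) F) :=
  (P F).comap SpecialLinearGroup.toGL

theorem two_pow_of_mem {x : L2} (hx : x ∈ Q F) : ∃ e : ℕ, x ^ 2 ^ e = 1 := by
  obtain ⟨e, he⟩ := isPGroup_P (F := F) ⟨_, hx⟩
  refine ⟨e, SpecialLinearGroup.toGL_injective ?_⟩
  rw [map_pow, map_one]
  exact congrArg Subtype.val he

theorem rot_or_ref {x : L2} (hx : x ∈ Q F) : IsRot x ∨ IsRef x := by
  rcases hx with h | h
  · exact Or.inl h.1
  · obtain ⟨r1, r2⟩ := h.1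
    simp [sM] at r1 r2
    exact Or.inr ⟨by linear_combination r1, r2⟩

theorem mem_Q_of_rot {x : L2} (hx : IsRot x) {e : ℕ} (he : x ^ 2 ^ e = 1) : x ∈ Q F :=
  Or.inl ⟨hx, e, by rw [← map_pow, he, map_one]⟩

theorem jM_mem : (jM : L2) ∈ Q F :=
  mem_Q_of_rot rot_jM (e := 2) (by
    rw [show (2 : ℕ) ^ 2 = 2 + 2 by norm_num, pow_add, pow_two, jM_sq, negOne_sq])

theorem negOne_mem : (negOne : L2) ∈ Q F := by
  rw [← jM_sq]; exact mul_mem jM_mem jM_mem

theorem exists_ref (h2 : (2 : F) ≠ 0) : ∃ x : L2, x ∈ Q F ∧ IsRef x := by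
  have := Fintype.ofFinite F
  obtain ⟨a, b, hab⟩ := FiniteField.exists_root_sum_quadratic
    (f := Polynomial.X ^ 2 - Polynomial.C (-1 : F)) (g := Polynomial.X ^ 2)
    (by rw [Polynomial.degree_sub_C (by simp)]; simp) (by simp) (FiniteField.odd_card_of_char_ne_two fun hc => h2 (by
        have := CharP.cast_eq_zero F (ringChar F)
        rw [hc] at this; exact_mod_cast this))
  simp at hab
  let r : GL (Fin 2) F := mk2 a (-b) b a (by
    rw [show a * a - -b * b = -1 by linear_combination hab]; simp)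
  have hr : Rot r := by simp [r, Rot]
  obtain ⟨k, m, hm, he⟩ := Nat.exists_eq_two_pow_mul_odd (orderOf_pos r).ne'
  have hD : r ^ m ∈ D F := ⟨hr.pow m, k, by rw [← pow_mul, mul_comm, ← he, pow_orderOf_eq_one]⟩
  have hP : sM * r ^ m ∈ P F := mul_mem sM_mem_P (Or.inl hD)
  have hdet : (sM * r ^ m).1.det = 1 := by
    rw [Units.val_mul, Matrix.det_mul, Units.val_pow_eq_pow_val, Matrix.det_pow]
    simp only [sM, r, mk2_val, Matrix.det_fin_two_of]
    rw [show a * a - -b * b = -1 by linear_combination hab, hm.neg_one_pow]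
    ring
  obtain ⟨h1, h2'⟩ := hr.pow m
  refine ⟨⟨(sM * r ^ m).1, hdet⟩, ?_, ?_⟩
  · show SpecialLinearGroup.toGL _ ∈ P F
    convert hP using 1
    exact Units.ext rfl
  · constructor
    · show (sM * r ^ m).1 1 1 = -(sM * r ^ m).1 0 0
      rw [S5318.mul11, S5318.mul00]
      simp [sM, h1]
    · show (sM * r ^ m).1 1 0 = (sM * r ^ m).1 0 1
      rw [S5318.mul10, S5318.mul01]
      simp [sM, h2']

/-- `Q` is generated by its elements of square `-1`. -/
theorem exists_sq_mul (h2 : (2 : F) ≠ 0) {x : L2} (hx : x ∈ Q F) :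
    ∃ u v : L2, u ∈ Q F ∧ v ∈ Q F ∧ u * u = negOne ∧ v * v = negOne ∧ x = u * v := by
  rcases rot_or_ref hx with h | h
  · obtain ⟨K, hK, hK'⟩ := exists_ref h2
    exact ⟨x * K, K⁻¹, mul_mem hx hK, inv_mem hK, (h.mul_ref hK').sq,
      by rw [← _root_.mul_inv_rev, hK'.sq, inv_eq_of_mul_eq_one_right negOne_sq],
      by rw [mul_inv_cancel_right]⟩
  · exact ⟨jM⁻¹, jM * x, inv_mem jM_mem, mul_mem jM_mem hx,
      by rw [← _root_.mul_inv_rev, jM_sq, inv_eq_of_mul_eq_one_right negOne_sq],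
      (rot_jM.mul_ref h).sq, by rw [inv_mul_cancel_left]⟩

/-- The centre of `Q`. -/
theorem center_Q (h2 : (2 : F) ≠ 0) {a : L2} (h : ∀ x ∈ Q F, a * x = x * a) :
    a = 1 ∨ a = negOne := by
  obtain ⟨K, hK, hK'⟩ := exists_ref h2
  have hr : IsRot a := rot_of_comm_rot rot_jM (by simp [jM_val]) (h _ jM_mem)
  have hinv : a = a⁻¹ := by
    have := hK'.conj_rot hr
    rw [← h K hK] at this
    exact mul_right_cancel this
  have e00 := congrArg (fun X : L2 => X.1 0 1) hinv
  simp [linv, Matrix.adjugate_fin_two] at e00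
  have hb : a.1 0 1 = 0 :=
    (mul_eq_zero.1 (show (2 : F) * a.1 0 1 = 0 by linear_combination e00)).resolve_left h2
  have hd := det_L a
  obtain ⟨r1, r2⟩ := hr
  rw [hb, r1] at hd
  rw [zero_mul, sub_zero] at hd
  rcases mul_self_eq_one_iff.1 hd with h1 | h1
  · exact Or.inl (extL (by simp [r1, h1]) (by simp [hb]) (by simp [r2, hb]) (by simp [h1]))
  · exact Or.inr (extL (by simp [negOne_val, r1, h1]) (by simp [negOne_val, hb])
      (by simp [negOne_val, r2, hb]) (by simp [negOne_val, h1]))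

theorem rot_sq_negOne {x : L2} (h2 : (2 : F) ≠ 0) (hr : IsRot x) (hx : x * x = negOne) :
    x = jM ∨ x = negOne * jM := by
  have hd := det_L x
  have e0 := congrArg (fun X : L2 => X.1 0 0) hx
  obtain ⟨r1, r2⟩ := hr
  simp [negOne_val, r1, r2] at e0
  rw [r1, r2] at hd
  have ha : x.1 1 1 = 0 := by
    have h4 : (2 : F) * (x.1 1 1 * x.1 1 1) = 0 := by linear_combination e0 + hd
    exact mul_self_eq_zero.1 ((mul_eq_zero.1 h4).resolve_left h2)
  rw [ha] at hd
  rcases mul_self_eq_one_iff.1 (show x.1 0 1 * x.1 0 1 = 1 by linear_combination hd) with h | h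
  · exact Or.inr (extL (by simp [negOne_val, jM_val, r1, ha]) (by simp [negOne_val, jM_val, h])
      (by simp [negOne_val, jM_val, r2, h]) (by simp [negOne_val, jM_val, ha]))
  · exact Or.inl (extL (by simp [jM_val, r1, ha]) (by simp [jM_val, h])
      (by simp [jM_val, r2, h]) (by simp [jM_val, ha]))

/-- An element normalising `Q` and fixing `±jM` lies in `Q`. -/
theorem mem_of_fix (h2 : (2 : F) ≠ 0) {a : L2} (hn : ∀ x ∈ Q F, a * x * a⁻¹ ∈ Q F)
    (hJ : a * jM * a⁻¹ = jM ∨ a * jM * a⁻¹ = negOne * jM) : a ∈ Q F := by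
  obtain ⟨K, hK, hK'⟩ := exists_ref h2
  have key : ∀ b : L2, IsRot b → (∀ x ∈ Q F, b * x * b⁻¹ ∈ Q F) → b ∈ Q F := by
    intro b hb hbn
    have hb' : b * K * b⁻¹ = b * b * K := by
      rw [mul_inv_eq_iff_eq_mul, mul_assoc (b * b), hK'.conj_rot hb, ← mul_assoc (b * b),
        mul_inv_cancel_right]
    have hbb : b * b ∈ Q F := by
      have h := mul_mem (hb' ▸ hbn K hK) (inv_mem hK)
      rwa [mul_inv_cancel_right] at h
    obtain ⟨e, he⟩ := two_pow_of_mem hbb
    exact mem_Q_of_rot hb (e := e + 1) (by rw [pow_succ', pow_mul, pow_two, he])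
  rcases hJ with h | h
  · exact key a (rot_of_comm_rot rot_jM (by simp [jM_val]) (mul_inv_eq_iff_eq_mul.1 h)) hn
  · have href : IsRef a := ref_of_anticomm_jM h2 (by
      rw [← mul_assoc]; exact mul_inv_eq_iff_eq_mul.1 h)
    have := key (a * K) (href.mul_ref hK') fun x hx => by
      rw [_root_.mul_inv_rev, ← mul_assoc]
      have := hn _ (mul_mem (mul_mem hK hx) (inv_mem hK))
      simpa [mul_assoc] using this
    have := mul_mem this (inv_mem hK)
    rwa [mul_inv_cancel_right] at this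

/-- `(1 + jM + X + jM X) / 2`. -/
def Tw (X t : SpecialLinearGroup (Fin 2) F) : Prop :=
  t.1 = (2 : F)⁻¹ • (1 + (jM : L2).1 + X.1 + (jM : L2).1 * X.1)

/-- The normaliser of `Q`. -/
theorem normalizer_Q (h2 : (2 : F) ≠ 0) {a : L2} (hn : ∀ x ∈ Q F, a * x * a⁻¹ ∈ Q F) :
    a ∈ Q F ∨ ∃ X t : L2, X ∈ Q F ∧ IsRef X ∧ Tw X t ∧ (∀ x ∈ Q F, t * x * t⁻¹ ∈ Q F) ∧
      (∀ x ∈ Q F, x * x = 1 ∨ x * x = negOne) ∧ t⁻¹ * a ∈ Q F ∧ t * t * t ∈ Q F := by
  by_cases hJ : a * jM * a⁻¹ = jM ∨ a * jM * a⁻¹ = negOne * jM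
  · exact Or.inl (mem_of_fix h2 hn hJ)
  refine Or.inr ?_
  set X := a * jM * a⁻¹ with hXdef
  have hXQ : X ∈ Q F := hn _ jM_mem
  have hXX : X * X = negOne := by
    rw [hXdef, conj_mul, jM_sq, negOne_comm, mul_inv_cancel_right]
  have hX : IsRef X := (rot_or_ref hXQ).resolve_left fun hr => hJ (rot_sq_negOne h2 hr hXX)
  have hsq : ∀ x ∈ Q F, x * x = 1 ∨ x * x = negOne := by
    intro x hx
    rcases rot_or_ref hx with hr | hr
    · have hd := det_L x
      have hr' := hr
      obtain ⟨r1, r2⟩ := hr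
      rw [r1, r2] at hd
      by_cases h01 : x.1 0 1 = 0
      · left
        rw [h01] at hd
        refine extL ?_ ?_ ?_ ?_ <;> simp [r1, r2, h01] <;>
          first | linear_combination hd | linear_combination -hd
      by_cases h00 : x.1 1 1 = 0
      · right
        rw [h00] at hd
        refine extL ?_ ?_ ?_ ?_ <;> simp [negOne_val, r1, r2, h00] <;>
          first | linear_combination -hd | linear_combination hd
      exfalso
      have hy : a * x * a⁻¹ ∈ Q F := hn x hx
      rcases rot_or_ref hy with hyr | hyr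
      · have hcomm : X * (a * x * a⁻¹) = a * x * a⁻¹ * X := by
          rw [hXdef, conj_mul, conj_mul, rot_jM.comm hr']
        by_cases hy01 : (a * x * a⁻¹).1 0 1 = 0
        · -- then `x` is central
          have hz : ∀ z : L2, (a * x * a⁻¹) * z = z * (a * x * a⁻¹) := by
            intro z
            generalize hgy : a * x * a⁻¹ = y at hy01 hyr
            refine extL ?_ ?_ ?_ ?_ <;> simp only [lmul, hyr.2, hy01, hyr.1] <;> ring
          have hx' : x * jM = jM * x := rot_jM.comm hr' |>.symm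
          obtain ⟨K, hK, hK'⟩ := exists_ref h2
          have h1 := hz (a * K * a⁻¹)
          rw [conj_mul, conj_mul, mul_left_inj, mul_right_inj] at h1
          have h3 := hK'.conj_rot hr'
          rw [← h1] at h3
          have e := congrArg (fun Y : L2 => Y.1 0 1) (mul_right_cancel h3)
          simp [linv, Matrix.adjugate_fin_two] at e
          exact h01 ((mul_eq_zero.1 (show (2 : F) * x.1 0 1 = 0 by linear_combination e)).resolve_left h2)
        · exact hJ (rot_sq_negOne h2 (rot_of_comm_rot hyr hy01 hcomm) hXX)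
      · have h := hyr.sq
        rw [conj_mul] at h
        have hxx : x * x = negOne := by
          rw [mul_inv_eq_iff_eq_mul, ← negOne_comm] at h
          exact mul_left_cancel h
        have e := congrArg (fun Y : L2 => Y.1 0 1) hxx
        simp [negOne_val, r1] at e
        exact mul_ne_zero (mul_ne_zero h2 h00) h01 (by linear_combination e)
    · exact Or.inr hr.sq
  have hd := det_L X
  obtain ⟨x1, x2⟩ := hX
  rw [x1, x2] at hd
  have h4 : (4 : F) ≠ 0 := by
    rw [show (4 : F) = 2 * 2 by norm_num]; exact mul_ne_zero h2 h2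
  obtain ⟨t, ht⟩ : ∃ t : L2, t.1 = (2 : F)⁻¹ • !![1 + X.1 0 0 - X.1 0 1,
      -1 + X.1 0 1 + X.1 0 0; 1 + X.1 0 1 + X.1 0 0, 1 - X.1 0 0 + X.1 0 1] := by
    refine ⟨⟨_, ?_⟩, rfl⟩
    simp [Matrix.det_fin_two]
    field_simp
    linear_combination 2 * hd
  have hTw : Tw X t := by
    rw [Tw, ht]
    congr 1
    ext i j
    fin_cases i <;> fin_cases j <;>
      simp [jM_val, Matrix.mul_apply, Matrix.vecMul, dotProduct, Fin.sum_univ_two, x1, x2] <;> ring
  have tJ : t * jM = X * t := by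
    refine extL ?_ ?_ ?_ ?_ <;> simp [ht, jM_val, x1, x2] <;>
      field_simp <;> first | linear_combination hd | linear_combination -hd | ring
  have tX : t * X = jM * X * t := by
    refine extL ?_ ?_ ?_ ?_ <;> simp [ht, jM_val, x1, x2] <;>
      field_simp <;> first | linear_combination hd | linear_combination -hd | ring
  have t3 : t * t * t = negOne := cube_of_trace (by simp [ht]; field_simp; ring)
  have hX' : IsRef X := ⟨x1, x2⟩
  have hJn : t * jM * t⁻¹ = X := by rw [tJ, mul_inv_cancel_right]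
  have hXn : t * X * t⁻¹ = jM * X := by rw [tX, mul_inv_cancel_right]
  have hgen : ∀ x ∈ Q F, t * x * t⁻¹ ∈ Q F := by
    have hneg : t * negOne * t⁻¹ = negOne := by rw [negOne_comm, mul_inv_cancel_right]
    have hrot : ∀ x ∈ Q F, IsRot x → t * x * t⁻¹ ∈ Q F := by
      intro x hx hr
      rcases hsq x hx with h | h
      · have : x = 1 ∨ x = negOne := center_Q h2 fun y hy => by
          rcases rot_or_ref hy with hy' | hy'
          · exact hr.comm hy'
          · have := hy'.conj_rot hr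
            rw [inv_eq_of_mul_eq_one_right h] at this
            exact this.symm
        rcases this with rfl | rfl
        · simp
        · rw [hneg]; exact negOne_mem
      · rcases rot_sq_negOne h2 hr h with rfl | rfl
        · rw [hJn]; exact hXQ
        · rw [← conj_mul, hneg, hJn]; exact mul_mem negOne_mem hXQ
    intro x hx
    rcases rot_or_ref hx with hr | hr
    · exact hrot x hx hr
    · have := mul_mem (hrot _ (mul_mem hx (inv_mem hXQ))
        (hr.mul_ref (by
          constructor <;> simp [linv, Matrix.adjugate_fin_two, x1, x2])))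
        (show t * X * t⁻¹ ∈ Q F by rw [hXn]; exact mul_mem jM_mem hXQ)
      rwa [conj_mul, inv_mul_cancel_right] at this
  refine ⟨X, t, hXQ, hX', hTw, hgen, hsq, ?_, ?_⟩
  · refine mem_of_fix h2 (fun x hx => ?_) (Or.inl ?_)
    · have h1 := hn x hx
      -- the inverse of `t` normalises `Q` as well
      have h2' : ∀ y ∈ Q F, t⁻¹ * y * t ∈ Q F := by
        intro y hy
        have e : t⁻¹ * y * t = t * (t * y * t⁻¹) * t⁻¹ := by
          calc t⁻¹ * y * t = t⁻¹ * (y * (t * t * t)) * (t⁻¹ * t⁻¹) := by group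
            _ = t⁻¹ * (t * t * t * y) * (t⁻¹ * t⁻¹) := by rw [t3, negOne_comm]
            _ = _ := by group
        rw [e]; exact hgen _ (hgen y hy)
      simpa [mul_assoc] using h2' _ h1
    · rw [_root_.mul_inv_rev, inv_inv]
      calc t⁻¹ * a * jM * (a⁻¹ * t) = t⁻¹ * X * t := by rw [hXdef]; group
        _ = jM := by rw [mul_assoc, ← tJ, inv_mul_cancel_left]
  · rw [t3]; exact negOne_mem

end Cfsg.Agent.SympTwoQuat
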