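import Mathlib
import Cfsg.Agent.S4623
import Cfsg.Agent.Lib.SympTwoQuat
import Cfsg.Agent.Lib.PSLCard

/-!
Sylow `2`-subgroups of classical groups in odd characteristic, built from blocks in `GL 2 F` and
permutations of the blocks: all squares lie in the derived subgroup.
-/

set_option autoImplicit false
set_option linter.unusedVariables false

namespace Cfsg.Agent.WreathTwo85

open Matrix
open Cfsg.Agent.S5318 (P mem_P mem_D sM nM sM_sq nM_sq nM_comm sM_mem_P isPGroup_P maximal_P mk2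
  mk2_val ext2 mul00 mul01 mul10 mul11 Rot D det_ne)
open Cfsg.Agent.SympTwoQuat (Q IsRot IsRef negOne jM rot_or_ref exists_ref jM_mem jM_sq rot_jM)
open scoped MatrixGroups commutatorElement

/-! ### Squares in the derived subgroup -/

section Squares

variable {G : Type*} [Group G]

/-- The elements of `K` whose square lies in the derived subgroup of `K`. -/
def sqKer (K : Subgroup G) : Subgroup G :=
  (((powMonoidHom 2).comp (Abelianization.of (G := K))).ker).map K.subtype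

theorem mem_sqKer {K : Subgroup G} {x : G} : x ∈ sqKer K ↔ x ∈ K ∧ x ^ 2 ∈ ⁅K, K⁆ := by
  rw [← Subgroup.map_subtype_commutator K]
  constructor
  · rintro ⟨y, hy, rfl⟩
    have h : Abelianization.of (y ^ 2) = 1 := by rw [map_pow]; exact hy
    rw [← MonoidHom.mem_ker, Abelianization.ker_of] at h
    exact ⟨y.2, y ^ 2, h, rfl⟩
  · rintro ⟨hx, y, hy, hyx⟩
    refine ⟨⟨x, hx⟩, ?_, rfl⟩
    have : y = ⟨x, hx⟩ ^ 2 := Subtype.ext hyx
    rw [this, SetLike.mem_coe, ← Abelianization.ker_of, MonoidHom.mem_ker, map_pow] at hy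
    exact hy

theorem mem_sqKer_of_sq_one {K : Subgroup G} {x : G} (hx : x ∈ K) (h : x ^ 2 = 1) :
    x ∈ sqKer K := mem_sqKer.2 ⟨hx, h ▸ one_mem _⟩

theorem map_sqKer_le {H : Type*} [Group H] (f : H →* G) {R : Subgroup H} {K : Subgroup G}
    (hRK : R.map f ≤ K) (hR : ∀ x ∈ R, x ^ 2 ∈ ⁅R, R⁆) {x : H} (hx : x ∈ R) :
    f x ∈ sqKer K := by
  refine mem_sqKer.2 ⟨hRK (Subgroup.mem_map_of_mem f hx), ?_⟩
  have h := Subgroup.mem_map_of_mem f (hR x hx)
  rw [Subgroup.map_commutator, map_pow] at h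
  exact Subgroup.commutator_mono hRK hRK h

theorem mem_sqKer_of_inverted {K : Subgroup G} {x t : G} (hx : x ∈ K) (ht : t ∈ K)
    (h : t * x * t⁻¹ = x⁻¹) : x ∈ sqKer K := by
  refine mem_sqKer.2 ⟨hx, ?_⟩
  have h' : t * x⁻¹ * t⁻¹ = x := by
    have := congrArg (·⁻¹) h
    simpa [mul_assoc] using this
  have : x ^ 2 = ⁅x, t⁆ := by
    rw [commutatorElement_def, mul_assoc x t, mul_assoc x, h', pow_two]
  rw [this]
  exact Subgroup.commutator_mem_commutator hx ht

theorem good_of_le {K : Subgroup G} (h : K ≤ sqKer K) : S4623.Good 2 K := by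
  intro x
  obtain ⟨y, hy, hyx⟩ := h x.2
  obtain rfl : y = x := Subtype.ext hyx
  rw [← Abelianization.ker_of, MonoidHom.mem_ker, map_pow]
  exact hy

/-- A sufficiently large `2`-subgroup with all squares in its derived subgroup. -/
theorem sylow_good [Finite G] {K : Subgroup G} (hK : IsPGroup 2 K)
    (hc : 2 ^ (Nat.card G).factorization 2 ≤ Nat.card K) (hg : S4623.Good 2 K) (S : Sylow 2 G) :
    ∀ x : (S : Subgroup G), x ^ 2 ∈ commutator (S : Subgroup G) := by
  have : Fact (Nat.Prime 2) := ⟨Nat.prime_two⟩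
  obtain ⟨T, hT⟩ := hK.exists_le_sylow
  have hTK : (T : Subgroup G) = K :=
    (Subgroup.eq_of_le_of_card_ge hT (T.card_eq_multiplicity ▸ hc)).symm
  exact S4623.good_of_mulEquiv ((MulEquiv.subgroupCongr hTK.symm).trans (Sylow.equiv T S)) hg

theorem sylow_good_of_map [Finite G] {M : Type*} [Group M] (f : M →* G)
    (hf : Function.Injective f) {K : Subgroup M} (hK : IsPGroup 2 K)
    (hc : 2 ^ (Nat.card G).factorization 2 ≤ Nat.card K) (hg : K ≤ sqKer K) (S : Sylow 2 G) :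
    ∀ x : (S : Subgroup G), x ^ 2 ∈ commutator (S : Subgroup G) :=
  sylow_good (hK.map f) (by rwa [Subgroup.card_map_of_injective hf])
    (S4623.good_of_mulEquiv (K.equivMapOfInjective f hf) (good_of_le hg)) S

theorem sylow_good_of_comap [Finite G] {M : Type*} [Group M] (f : G →* M)
    (hf : Function.Injective f) {K : Subgroup M} (hr : K ≤ f.range) (hK : IsPGroup 2 K)
    (hc : 2 ^ (Nat.card G).factorization 2 ≤ Nat.card K) (hg : K ≤ sqKer K) (S : Sylow 2 G) :
    ∀ x : (S : Subgroup G), x ^ 2 ∈ commutator (S : Subgroup G) := by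
  have h1 : (K.comap f).map f = K := Subgroup.map_comap_eq_self hr
  let e : K.comap f ≃* K := ((K.comap f).equivMapOfInjective f hf).trans (MulEquiv.subgroupCongr h1)
  exact sylow_good (hK.comap_of_injective f hf) (by rwa [Nat.card_congr e.toEquiv])
    (S4623.good_of_mulEquiv e.symm (good_of_le hg)) S

end Squares

/-! ### Sylow subgroups of symmetric groups -/

theorem exists_gen_sylow {ι : Type*} [Fintype ι] [DecidableEq ι] (S₀ : Subgroup (Equiv.Perm ι))
    (h₀ : IsPGroup 2 S₀) :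
    ∃ T : Sylow 2 (Equiv.Perm ι), S₀ ≤ T ∧ S4623.Gen 2 (T : Subgroup (Equiv.Perm ι)) := by
  have : Fact (Nat.Prime 2) := ⟨Nat.prime_two⟩
  obtain ⟨T, hT⟩ := h₀.exists_le_sylow
  refine ⟨T, hT, ?_⟩
  obtain ⟨T₁, hg, -⟩ := S4623.has 2 (Fintype.card ι)
  let φ : Equiv.Perm (Fin (Fintype.card ι)) ≃* Equiv.Perm ι :=
    (Fintype.equivFin ι).symm.permCongrHom
  let f : Equiv.Perm (Fin (Fintype.card ι)) →* Equiv.Perm ι := φ.toMonoidHom
  have hf : Function.Injective f := φ.injective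
  let W : Subgroup (Equiv.Perm (Fin (Fintype.card ι))) := T₁
  have hW2 : IsPGroup 2 W := T₁.isPGroup'
  have hWg : S4623.Gen 2 W := hg
  have hWi : ¬ 2 ∣ W.index := T₁.not_dvd_index
  have hidx : ¬ 2 ∣ (W.map f).index := by
    rw [Subgroup.index_map_of_bijective φ.bijective W]
    exact hWi
  let T₂ : Sylow 2 (Equiv.Perm ι) := (hW2.map f).toSylow hidx
  obtain ⟨g, hgT⟩ := MulAction.exists_smul_eq (Equiv.Perm ι) T₂ T
  rw [← hgT]
  exact S4623.gen_map (MulAut.conj g).toMonoidHom (S4623.gen_map f hWg)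

/-- The translations of a group of exponent two form a transitive `2`-group of involutions. -/
theorem exists_swaps (j : ℕ) : ∃ S : Subgroup (Equiv.Perm (Fin j → ZMod 2)), IsPGroup 2 S ∧
    ∀ a b : Fin j → ZMod 2, ∃ τ ∈ S, τ * τ = 1 ∧ τ a = b := by
  let f : Multiplicative (Fin j → ZMod 2) →* Equiv.Perm (Fin j → ZMod 2) :=
    { toFun := fun v => Equiv.addLeft (Multiplicative.toAdd v)
      map_one' := Equiv.ext fun a => by simp
      map_mul' := fun v w => Equiv.ext fun a => by simp [add_assoc] }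
  have hdouble : ∀ v : Fin j → ZMod 2, v + v = 0 := fun v => funext fun i => CharTwo.add_self_eq_zero _
  have hsq : ∀ v, f v * f v = 1 := fun v => by
    rw [← map_mul, show v * v = 1 from Multiplicative.toAdd.injective (hdouble _), map_one]
  refine ⟨f.range, fun g => ⟨1, Subtype.ext ?_⟩, fun a b => ⟨f (Multiplicative.ofAdd (a + b)),
    ⟨_, rfl⟩, hsq _, ?_⟩⟩
  · obtain ⟨v, hv⟩ := g.2
    rw [pow_one, Subgroup.coe_pow, ← hv, pow_two, hsq]
    rfl
  · show a + b + a = b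
    rw [add_right_comm, hdouble, zero_add]

/-! ### Blocks and permutations of blocks -/

variable {F : Type*} [Field F] {ι : Type*} [Fintype ι] [DecidableEq ι]

/-- Block diagonal matrices. -/
def bd : (ι → GL (Fin 2) F) →* GL (Fin 2 × ι) F :=
  (Units.map (blockDiagonalRingHom (Fin 2) ι F).toMonoidHom).comp
    MulEquiv.piUnits.symm.toMonoidHom

theorem bd_val (v : ι → GL (Fin 2) F) :
    (bd v).1 = blockDiagonal fun i => (v i).1 := rfl

/-- Permutations of the blocks. -/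
def pm : Equiv.Perm ι →* GL (Fin 2 × ι) F :=
  ((Matrix.permMatrixHom (n := Fin 2 × ι) (R := F)).comp
    { toFun := fun σ => Equiv.prodCongrRight fun _ : Fin 2 => σ
      map_one' := Equiv.ext fun a => rfl
      map_mul' := fun σ τ => Equiv.ext fun a => rfl }).toHomUnits

theorem pm_val (σ : Equiv.Perm ι) :
    (pm σ : GL (Fin 2 × ι) F).1 = Equiv.Perm.permMatrix F (Equiv.prodCongrRight fun _ : Fin 2 => σ⁻¹) := rfl

theorem bd_injective : Function.Injective (bd : (ι → GL (Fin 2) F) → GL (Fin 2 × ι) F) := by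
  intro v w h
  have := congrArg Units.val h
  rw [bd_val, bd_val] at this
  exact funext fun i => Units.ext (congrFun (blockDiagonal_injective this) i)

theorem conj_bd (σ : Equiv.Perm ι) (v : ι → GL (Fin 2) F) :
    pm σ * bd v * (pm σ)⁻¹ = bd fun i => v (σ⁻¹ i) := by
  rw [mul_inv_eq_iff_eq_mul]
  refine Units.ext ?_
  rw [Units.val_mul, Units.val_mul, bd_val, bd_val, pm_val]
  rw [Equiv.Perm.permMatrix, PEquiv.toMatrix_toPEquiv_mul, PEquiv.mul_toMatrix_toPEquiv]
  refine Matrix.ext fun a b => ?_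
  obtain ⟨a, i⟩ := a
  obtain ⟨b, k⟩ := b
  simp only [submatrix_apply, id_eq, blockDiagonal_apply, Equiv.prodCongrRight_apply]
  have hs : (Equiv.prodCongrRight fun _ : Fin 2 => σ⁻¹).symm (b, k) = (b, σ k) := by
    rw [Equiv.symm_apply_eq]; simp
  rw [hs]
  simp only [Equiv.Perm.inv_def]
  exact if_congr (Equiv.symm_apply_eq σ) rfl rfl

theorem eq_one_of_pm_eq_bd {σ : Equiv.Perm ι} {v : ι → GL (Fin 2) F}
    (h : (pm σ : GL (Fin 2 × ι) F) = bd v) : σ = 1 := by
  refine Equiv.ext fun i => ?_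
  have e : (pm σ : GL (Fin 2 × ι) F).1 ((0 : Fin 2), σ i) ((0 : Fin 2), i) =
      (bd v).1 ((0 : Fin 2), σ i) ((0 : Fin 2), i) := by rw [h]
  rw [pm_val, bd_val] at e
  simp [PEquiv.toMatrix_apply, blockDiagonal_apply, Equiv.toPEquiv_apply] at e
  by_contra hne
  rw [Equiv.Perm.one_apply] at hne
  rw [if_neg hne] at e
  exact one_ne_zero e

theorem pair_injective : Function.Injective
    fun x : (ι → GL (Fin 2) F) × Equiv.Perm ι => bd x.1 * pm x.2 := by
  rintro ⟨v, σ⟩ ⟨w, τ⟩ h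
  have h' : (pm (σ * τ⁻¹) : GL (Fin 2 × ι) F) = bd (v⁻¹ * w) := by
    rw [map_mul, map_inv, map_mul, map_inv]
    calc pm σ * (pm τ)⁻¹ = (bd v)⁻¹ * (bd v * pm σ) * (pm τ)⁻¹ := by group
      _ = (bd v)⁻¹ * (bd w * pm τ) * (pm τ)⁻¹ := by rw [show bd v * pm σ = bd w * pm τ from h]
      _ = (bd v)⁻¹ * bd w := by group
  have hs : σ = τ := mul_inv_eq_one.1 (eq_one_of_pm_eq_bd h')
  subst hs
  simp only [Prod.mk.injEq, and_true]
  exact bd_injective (mul_right_cancel (show bd v * pm σ = bd w * pm σ from h))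

/-- The group of block diagonal elements from `B` and block permutations from `T`. -/
def wr (B : Subgroup (ι → GL (Fin 2) F)) (T : Subgroup (Equiv.Perm ι)) :
    Subgroup (GL (Fin 2 × ι) F) :=
  B.map bd ⊔ T.map pm

variable {B : Subgroup (ι → GL (Fin 2) F)} {T : Subgroup (Equiv.Perm ι)}

theorem bd_mem {v : ι → GL (Fin 2) F} (h : v ∈ B) : bd v ∈ wr B T :=
  (le_sup_left : _ ≤ wr B T) (Subgroup.mem_map_of_mem _ h)

theorem pm_mem {σ : Equiv.Perm ι} (h : σ ∈ T) : pm σ ∈ wr B T :=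
  (le_sup_right : _ ≤ wr B T) (Subgroup.mem_map_of_mem _ h)

theorem isPGroup_wr (hB : IsPGroup 2 B) (hT : IsPGroup 2 T)
    (hinv : ∀ σ : Equiv.Perm ι, ∀ v ∈ B, (fun i => v (σ i)) ∈ B) : IsPGroup 2 (wr B T) := by
  refine (hB.map bd).to_sup_of_normal_left' (hT.map pm) ?_
  rintro _ ⟨σ, -, rfl⟩
  rw [Subgroup.mem_normalizer_iff]
  intro g
  constructor
  · rintro ⟨v, hv, rfl⟩
    exact ⟨_, hinv σ⁻¹ v hv, (conj_bd σ v).symm⟩
  · rintro ⟨v, hv, hv'⟩
    refine ⟨_, hinv σ v hv, ?_⟩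
    have := conj_bd σ⁻¹ v
    rw [hv', map_inv, inv_inv, inv_inv] at this
    rw [← this]
    group

theorem le_card_wr [Finite F] : Nat.card B * Nat.card T ≤ Nat.card (wr B T) := by
  rw [← Nat.card_prod]
  refine Nat.card_le_card_of_injective
    (fun x : B × T => (⟨bd x.1.1 * pm x.2.1, mul_mem (bd_mem x.1.2) (pm_mem x.2.2)⟩ : wr B T)) ?_
  rintro ⟨v, σ⟩ ⟨w, τ⟩ h
  have := @pair_injective F _ ι _ _ (v.1, σ.1) (w.1, τ.1) (congrArg Subtype.val h)
  simp only [Prod.mk.injEq] at this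
  exact Prod.ext (Subtype.ext this.1) (Subtype.ext this.2)

theorem wr_le_sqKer (hTg : S4623.Gen 2 T) (hBg : ∀ v ∈ B, bd v ∈ sqKer (wr B T)) :
    wr B T ≤ sqKer (wr B T) := by
  refine sup_le ?_ ((S4623.gen_map pm hTg).trans ((Subgroup.closure_le _).2 ?_))
  · rintro _ ⟨v, hv, rfl⟩
    exact hBg v hv
  · rintro g ⟨hg, h2⟩
    exact mem_sqKer_of_sq_one ((le_sup_right : _ ≤ wr B T) hg) h2

theorem single_mem_sqKer {R : Subgroup (GL (Fin 2) F)} (hR : ∀ x ∈ R, x ^ 2 ∈ ⁅R, R⁆)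
    (hsingle : ∀ i, ∀ x ∈ R, (Pi.mulSingle i x : ι → GL (Fin 2) F) ∈ B)
    {v : ι → GL (Fin 2) F} (hv : ∀ i, v i ∈ R) : bd v ∈ sqKer (wr B T) := by
  refine Subgroup.pi_mem_of_mulSingle_mem (H := (sqKer (wr B T)).comap bd) v fun i => ?_
  exact map_sqKer_le (bd.comp (MonoidHom.mulSingle (fun _ : ι => GL (Fin 2) F) i))
    (by rintro _ ⟨x, hx, rfl⟩; exact bd_mem (hsingle i x hx)) hR (hv i)

/-! ### Blocks in `GL 2 F` -/

section Two

variable [Finite F]

/-- The Sylow subgroup `Q` of `SL 2 F` inside `GL 2 F`. -/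
def Q2 (F : Type*) [Field F] [Finite F] : Subgroup (GL (Fin 2) F) :=
  (Q F).map SpecialLinearGroup.toGL

theorem Q2_le : Q2 F ≤ P F := by
  rintro _ ⟨x, hx, rfl⟩
  exact hx

theorem mem_Q2 {x : GL (Fin 2) F} : x ∈ Q2 F ↔ x ∈ P F ∧ x.1.det = 1 := by
  constructor
  · rintro ⟨y, hy, rfl⟩
    exact ⟨hy, y.2⟩
  · rintro ⟨hx, hd⟩
    exact ⟨⟨x.1, hd⟩, show SpecialLinearGroup.toGL _ ∈ P F by
      convert hx using 1; exact Units.ext rfl, Units.ext rfl⟩

theorem sq_mem_Q (h2 : (2 : F) ≠ 0) {x : SpecialLinearGroup (Fin 2) F} (hx : x ∈ Q F) :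
    x ^ 2 ∈ ⁅Q F, Q F⁆ := by
  obtain ⟨K, hK, hK'⟩ := exists_ref h2
  have hrot : ∀ r ∈ Q F, IsRot r → r ^ 2 ∈ ⁅Q F, Q F⁆ := by
    intro r hr hrr
    have hinv : IsRot r⁻¹ := by
      obtain ⟨r1, r2⟩ := hrr
      constructor <;> simp [SympTwoQuat.linv, Matrix.adjugate_fin_two, r1, r2]
    have : r ^ 2 = ⁅r, K⁆ := by
      rw [commutatorElement_def, mul_assoc r K, hK'.conj_rot hinv, inv_inv, ← mul_assoc,
        mul_inv_cancel_right, pow_two]
    rw [this]
    exact Subgroup.commutator_mem_commutator hr hK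
  rcases rot_or_ref hx with h | h
  · exact hrot x hx h
  · rw [pow_two, h.sq, ← jM_sq, ← pow_two]
    exact hrot _ jM_mem rot_jM

theorem sq_mem_Q2 (h2 : (2 : F) ≠ 0) : ∀ x ∈ Q2 F, x ^ 2 ∈ ⁅Q2 F, Q2 F⁆ := by
  rintro _ ⟨y, hy, rfl⟩
  rw [← map_pow, Q2, ← Subgroup.map_commutator]
  exact Subgroup.mem_map_of_mem _ (sq_mem_Q h2 hy)

omit [Finite F] in
theorem det_conj_rot {d : GL (Fin 2) F} (hd : Rot d) :
    (d * (sM * d * sM)).1 = Matrix.diagonal fun _ => d.1.det := by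
  obtain ⟨r1, r2⟩ := hd
  refine Matrix.ext fun a b => ?_
  fin_cases a <;> fin_cases b <;>
    simp [sM, Matrix.mul_apply, Fin.sum_univ_two, Matrix.det_fin_two, r1, r2] <;> ring

theorem orderOf_det_dvd {x : GL (Fin 2) F} (hx : x ∈ P F) :
    ∃ e : ℕ, orderOf (GeneralLinearGroup.det x) = 2 ^ e ∧
      orderOf (GeneralLinearGroup.det x) ∣ Nat.card F - 1 := by
  obtain ⟨e, he⟩ := (isPGroup_P (F := F)) ⟨x, hx⟩
  have : GeneralLinearGroup.det x ^ 2 ^ e = 1 := by
    rw [← map_pow, show x ^ 2 ^ e = 1 from congrArg Subtype.val he, map_one]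
  obtain ⟨j, -, hj⟩ := (Nat.dvd_prime_pow Nat.prime_two).1 (orderOf_dvd_of_pow_eq_one this)
  exact ⟨j, hj, Nat.card_units F ▸ orderOf_dvd_natCard _⟩

theorem det_eq_or (h4 : ¬ 4 ∣ Nat.card F - 1) {x : GL (Fin 2) F} (hx : x ∈ P F) :
    x.1.det = 1 ∨ x.1.det = -1 := by
  obtain ⟨e, he, hdvd⟩ := orderOf_det_dvd hx
  have hle : e ≤ 1 := by
    by_contra hlt
    exact h4 ((Nat.pow_dvd_pow 2 (show 2 ≤ e by omega)).trans (he ▸ hdvd))
  have h1 : GeneralLinearGroup.det x ^ 2 = 1 :=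
    orderOf_dvd_iff_pow_eq_one.1 (he ▸ (by simpa using Nat.pow_dvd_pow 2 hle))
  have h' := congrArg Units.val h1
  rw [Units.val_pow_eq_pow_val, Units.val_one, pow_two] at h'
  exact mul_self_eq_one_iff.1 h'

theorem sq_mem_P (h2 : (2 : F) ≠ 0) (h4 : ¬ 4 ∣ Nat.card F - 1) :
    ∀ x ∈ P F, x ^ 2 ∈ ⁅P F, P F⁆ := by
  have hn : (nM : GL (Fin 2) F) ∈ ⁅P F, P F⁆ := by
    have h := sq_mem_Q2 h2 _ (Subgroup.mem_map_of_mem SpecialLinearGroup.toGL (jM_mem (F := F)))
    refine Subgroup.commutator_mono Q2_le Q2_le ?_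
    convert h using 1
    rw [← map_pow, pow_two, jM_sq]
    exact Units.ext rfl
  have key : ∀ d ∈ D F, d * (sM * d * sM) = 1 ∨ d * (sM * d * sM) = nM := by
    intro d hd
    rcases det_eq_or h4 (mem_P.2 (Or.inl hd)) with h | h
    · left
      refine Units.ext ?_
      rw [det_conj_rot hd.1, h, Units.val_one, Matrix.diagonal_one]
    · right
      refine Units.ext ?_
      rw [det_conj_rot hd.1, h]
      ext a b
      fin_cases a <;> fin_cases b <;> simp [nM]
  intro x hx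
  rcases mem_P.1 hx with hd | hd
  · have hc : ⁅x, sM⁆ ∈ ⁅P F, P F⁆ := Subgroup.commutator_mem_commutator hx sM_mem_P
    rw [commutatorElement_def, inv_eq_of_mul_eq_one_right (sM_sq (F := F))] at hc
    rcases key x hd with h | h
    · rw [inv_eq_of_mul_eq_one_right h] at hc
      simp only [mul_assoc, sM_sq, mul_one] at hc
      rw [← mul_assoc sM sM, sM_sq, one_mul] at hc
      rwa [pow_two]
    · have hi : x⁻¹ = sM * x * sM * nM :=
        inv_eq_of_mul_eq_one_right (by rw [← mul_assoc, h, nM_sq])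
      rw [hi] at hc
      simp only [mul_assoc] at hc
      rw [← mul_assoc sM sM, sM_sq, one_mul, ← nM_comm sM, ← mul_assoc sM sM, sM_sq, one_mul,
        ← mul_assoc] at hc
      have := mul_mem hc hn
      rwa [mul_assoc, nM_sq, mul_one, ← pow_two] at this
  · have hxd : x = sM * (sM * x) := by rw [← mul_assoc, sM_sq, one_mul]
    set d := sM * x
    have hcomm : d * (sM * d * sM) = (sM * d * sM) * d := hd.1.comm hd.1.conj_sM
    have e : x ^ 2 = (sM * d * sM) * d := by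
      rw [pow_two, hxd]; simp only [mul_assoc]
    rw [e, ← hcomm]
    rcases key d hd with h | h <;> rw [h]
    · exact one_mem _
    · exact hn

theorem card_P (h2 : (2 : F) ≠ 0) :
    Nat.card (P F) = 2 ^ (Nat.card (GL (Fin 2) F)).factorization 2 := by
  have : Fact (Nat.Prime 2) := ⟨Nat.prime_two⟩
  exact Sylow.card_eq_multiplicity
    ⟨P F, isPGroup_P, fun hQ hle => maximal_P h2 hQ hle⟩

theorem card_le_ker {H : Type*} [Group H] [Finite H] (hH : IsPGroup 2 H) (f : H →* Fˣ) :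
    Nat.card H ≤ Nat.card f.ker * 2 ^ (Nat.card F - 1).factorization 2 := by
  have : Fact (Nat.Prime 2) := ⟨Nat.prime_two⟩
  rw [← f.ker.card_mul_index, Subgroup.index_ker]
  refine Nat.mul_le_mul_left _ ?_
  obtain ⟨j, hj⟩ := IsPGroup.iff_card.1 (hH.of_surjective f.rangeRestrict f.rangeRestrict_surjective)
  rw [hj]
  refine Nat.pow_le_pow_right (by norm_num) ?_
  have hdvd : 2 ^ j ∣ Nat.card F - 1 := hj ▸ Nat.card_units F ▸ Subgroup.card_subgroup_dvd_card _
  exact (Nat.prime_two.pow_dvd_iff_le_factorization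
    (Nat.sub_ne_zero_of_lt (Finite.one_lt_card (α := F)))).1 hdvd

end Two

/-! ### Arithmetic -/

theorem fact_two_sub {q : ℕ} (hq : 1 < q) (ho : Odd q) {i : ℕ} (hi : i ≠ 0) :
    (q ^ (2 * i) - 1).factorization 2 = (q ^ 2 - 1).factorization 2 + i.factorization 2 := by
  have hx : ¬ 2 ∣ q := Nat.two_dvd_ne_zero.2 (Nat.odd_iff.1 ho)
  have h := padicValNat.pow_two_sub_one (n := 2 * i) hq hx (by omega) (even_two_mul i)
  have h1 := padicValNat.pow_two_sub_one (n := 2) hq hx two_ne_zero even_two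
  rw [padicValNat.mul two_ne_zero hi, padicValNat.self one_lt_two] at h
  rw [padicValNat.self one_lt_two] at h1
  simp only [Nat.factorization_def _ Nat.prime_two]
  omega

theorem fact_odd_sub {q : ℕ} (hq : 1 < q) (ho : Odd q) (i : ℕ) :
    (q ^ (2 * i + 1) - 1).factorization 2 = (q - 1).factorization 2 := by
  have hs : (∑ k ∈ Finset.range (2 * i + 1), q ^ k) * (q - 1) = q ^ (2 * i + 1) - 1 := by
    have h := geom_sum_mul_of_one_le (x := q) (by omega) (2 * i + 1)
    exact h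
  have hodd : Odd (∑ k ∈ Finset.range (2 * i + 1), q ^ k) := by
    rw [Finset.odd_sum_iff_odd_card_odd, Finset.filter_true_of_mem fun k _ => ho.pow,
      Finset.card_range]
    exact ⟨i, rfl⟩
  rw [← hs, Nat.factorization_mul hodd.pos.ne' (by omega), Finsupp.add_apply,
    Nat.factorization_eq_zero_of_not_dvd (Nat.two_dvd_ne_zero.2 (Nat.odd_iff.1 hodd)), zero_add]

theorem fact_prod_even {q : ℕ} (hq : 1 < q) (ho : Odd q) (n : ℕ) :
    (∏ i ∈ Finset.range n, (q ^ (2 * (i + 1)) - 1)).factorization 2 =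
      n * (q ^ 2 - 1).factorization 2 + n.factorial.factorization 2 := by
  induction n with
  | zero => simp
  | succ n ih =>
    have h0 : ∀ i, q ^ (2 * (i + 1)) - 1 ≠ 0 := fun i =>
      Nat.sub_ne_zero_of_lt (Nat.one_lt_pow (by omega) hq)
    rw [Finset.prod_range_succ, Nat.factorization_mul (Finset.prod_ne_zero_iff.2 fun i _ => h0 i)
      (h0 n), Finsupp.add_apply, ih, fact_two_sub hq ho (Nat.succ_ne_zero n), Nat.factorial_succ,
      Nat.factorization_mul (Nat.succ_ne_zero n) n.factorial_ne_zero, Finsupp.add_apply]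
    ring

theorem fact_prod_all {q : ℕ} (hq : 1 < q) (ho : Odd q) (n : ℕ) :
    (∏ j ∈ Finset.range (2 * n), (q ^ (j + 1) - 1)).factorization 2 =
      n * ((q ^ 2 - 1).factorization 2 + (q - 1).factorization 2) + n.factorial.factorization 2 := by
  induction n with
  | zero => simp
  | succ n ih =>
    have h0 : ∀ j, q ^ (j + 1) - 1 ≠ 0 := fun j =>
      Nat.sub_ne_zero_of_lt (Nat.one_lt_pow (by omega) hq)
    have hp : ∀ s : Finset ℕ, ∏ j ∈ s, (q ^ (j + 1) - 1) ≠ 0 := fun s =>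
      Finset.prod_ne_zero_iff.2 fun i _ => h0 i
    rw [show 2 * (n + 1) = 2 * n + 1 + 1 by ring, Finset.prod_range_succ, Finset.prod_range_succ,
      Nat.factorization_mul (mul_ne_zero (hp _) (h0 _)) (h0 _),
      Nat.factorization_mul (hp _) (h0 _), Finsupp.add_apply, Finsupp.add_apply, ih,
      fact_odd_sub hq ho, show 2 * n + 1 + 1 = 2 * (n + 1) by ring,
      fact_two_sub hq ho (Nat.succ_ne_zero n), Nat.factorial_succ,
      Nat.factorization_mul (Nat.succ_ne_zero n) n.factorial_ne_zero, Finsupp.add_apply]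
    ring

theorem fact_GL {q : ℕ} (hq : 1 < q) (ho : Odd q) (N : ℕ) :
    (∏ i : Fin N, (q ^ N - q ^ (i : ℕ))).factorization 2 =
      (∏ j ∈ Finset.range N, (q ^ (j + 1) - 1)).factorization 2 := by
  have hr := Finset.prod_range_reflect (fun j => q ^ (j + 1) - 1) N
  have : ∀ i : Fin N, q ^ N - q ^ (i : ℕ) = q ^ (i : ℕ) * (q ^ (N - 1 - (i : ℕ) + 1) - 1) := by
    intro i
    rw [Nat.mul_sub, mul_one, ← pow_add]
    congr 2
    omega
  rw [Finset.prod_congr rfl fun i _ => this i, Finset.prod_mul_distrib,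
    Fin.prod_univ_eq_prod_range (fun i => q ^ (N - 1 - i + 1) - 1), hr,
    Finset.prod_pow_eq_pow_sum, Nat.factorization_mul (pow_ne_zero _ (by omega))
      (Finset.prod_ne_zero_iff.2 fun j _ =>
        Nat.sub_ne_zero_of_lt (Nat.one_lt_pow (by omega) hq)),
    Finsupp.add_apply, Nat.factorization_eq_zero_of_not_dvd
      (Nat.two_dvd_ne_zero.2 (Nat.odd_iff.1 ho.pow)), zero_add]

end Cfsg.Agent.WreathTwo85
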