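import Mathlib
import Cfsg.Agent.Lib.OrthUnitaryStd
import Cfsg.Agent.Lib.WreathTwo85

/-!
A Sylow 2-subgroup of the commutator subgroup of an orthogonal group in odd characteristic is
generated by involutions: orthogonal sums of planes `x² + y²` and a space of dimension at most two.
-/

set_option autoImplicit false
set_option linter.unusedSectionVars false

namespace Cfsg.Agent.OrthUnitarySylowTwo

open QuadraticMap Module
open Cfsg.Agent.OrthUnitaryQuad
open Cfsg.Agent.OrthUnitaryRefl
open Cfsg.Agent.OrthUnitaryOmega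

/-! ### Words in reflections -/

section Words

variable {G : Type*} [Group G]

/-- An element of trivial class in a group generated by involutions of two classes lies in a
subgroup containing the products of two involutions of one class. -/
theorem mem_of_words {A : Type*} [CommGroup A] (δ : G →* A) (θ : G →* ℤˣ) {u : A} (hu : u ≠ 1)
    {L : Set G} {W : Subgroup G} (h2 : ∀ x ∈ L, x * x = 1) (hδ : ∀ x ∈ L, δ x = u)
    (hconj : ∀ x ∈ L, ∀ y ∈ L, x * y * x ∈ L) (hW : ∀ x ∈ L, ∀ z ∈ W, x * z * x ∈ W)
    (hpair : ∀ x ∈ L, ∀ y ∈ L, θ x = θ y → x * y ∈ W) {a b : G} (ha : a ∈ L) (hb : b ∈ L)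
    (hθa : θ a = 1) (hθb : θ b = -1) (hWker : ∀ z ∈ W, δ z = 1 ∧ θ z = 1) {g : G} (hg : g ∈ Subgroup.closure L) (h1 : δ g = 1)
    (h1' : θ g = 1) : g ∈ W := by
  have hu2 : u * u = 1 := by rw [← hδ a ha, ← map_mul, h2 a ha, map_one]
  have hinv : ∀ x ∈ L, x⁻¹ = x := fun x hx => inv_eq_of_mul_eq_one_right (h2 x hx)
  have haa : ∀ z, a * (a * z) = z := fun z => by rw [← mul_assoc, h2 a ha, one_mul]
  have hbb : ∀ z, b * (b * z) = z := fun z => by rw [← mul_assoc, h2 b hb, one_mul]
  -- left multiplication by a reflection permutes four representatives modulo `W`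
  have step : ∀ x ∈ L, ∀ y : G, (∃ z ∈ W, y = z ∨ y = z * a ∨ y = z * b ∨ y = z * (a * b)) →
      ∃ z ∈ W, x * y = z ∨ x * y = z * a ∨ x * y = z * b ∨ x * y = z * (a * b) := by
    intro x hx y ⟨z, hz, hy⟩
    have hxx : ∀ w, x * (x * w) = w := fun w => by rw [← mul_assoc, h2 x hx, one_mul]
    have hz' := hW x hx z hz
    rcases Int.units_eq_one_or (θ x) with hθ | hθ
    · have hp : x * a ∈ W := hpair x hx a ha (hθ.trans hθa.symm)
      have hz2 := W.mul_mem hz' hp
      rcases hy with rfl | rfl | rfl | rfl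
      · exact ⟨_, hz2, Or.inr (Or.inl (by simp only [mul_assoc, hxx, h2 a ha, mul_one]))⟩
      · exact ⟨_, hz2, Or.inl (by simp only [mul_assoc, hxx])⟩
      · exact ⟨_, hz2, Or.inr (Or.inr (Or.inr (by simp only [mul_assoc, haa, hxx])))⟩
      · exact ⟨_, hz2, Or.inr (Or.inr (Or.inl (by simp only [mul_assoc, hxx])))⟩
    · have hp : x * b ∈ W := hpair x hx b hb (hθ.trans hθb.symm)
      have hxaθ : θ (a * x * a) = -1 := by rw [map_mul, map_mul, hθa, hθ]; simp
      have hp' : a * x * a * b ∈ W := hpair _ (hconj a ha x hx) b hb (hxaθ.trans hθb.symm)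
      have hp'' : a * (a * x * a * b) * a ∈ W := hW a ha _ hp'
      rcases hy with rfl | rfl | rfl | rfl
      · exact ⟨_, W.mul_mem hz' hp, Or.inr (Or.inr (Or.inl
          (by simp only [mul_assoc, hxx, h2 b hb, mul_one])))⟩
      · refine ⟨_, W.mul_mem hz' hp'', Or.inr (Or.inr (Or.inr ?_))⟩
        simp only [mul_assoc, hxx, haa, h2 b hb, mul_one]
      · exact ⟨_, W.mul_mem hz' hp, Or.inl (by simp only [mul_assoc, hxx])⟩
      · refine ⟨_, W.mul_mem hz' hp'', Or.inr (Or.inl ?_)⟩
        simp only [mul_assoc, hxx, haa, h2 a ha, mul_one]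
  have key : ∀ g ∈ Subgroup.closure L,
      ∃ z ∈ W, g = z ∨ g = z * a ∨ g = z * b ∨ g = z * (a * b) := by
    intro g hg
    induction hg using Subgroup.closure_induction_left with
    | one => exact ⟨1, W.one_mem, Or.inl rfl⟩
    | mul_left x hx y _ ih => exact step x hx y ih
    | inv_mul_cancel x hx y _ ih => rw [hinv x hx]; exact step x hx y ih
  obtain ⟨z, hz, hgz⟩ := key g hg
  -- the class of `z` is determined by the class of `g`
  have hne : ∀ y : G, (δ y = u ∧ θ y = 1) ∨ (δ y = u ∧ θ y = -1) ∨ (δ y = 1 ∧ θ y = -1) →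
      δ z = 1 → θ z = 1 → g ≠ z * y := by
    intro y hy hδz hθz he
    rw [he, map_mul, hδz, one_mul] at h1
    rw [he, map_mul, hθz, one_mul] at h1'
    rcases hy with ⟨e, -⟩ | ⟨e, -⟩ | ⟨-, e⟩
    · exact hu (e.symm.trans h1)
    · exact hu (e.symm.trans h1)
    · rw [h1'] at e; exact absurd e (by decide)
  obtain ⟨hδz, hθz⟩ := hWker z hz
  rcases hgz with rfl | e | e | e
  · exact hz
  · exact absurd e (hne a (Or.inl ⟨hδ a ha, hθa⟩) hδz hθz)
  · exact absurd e (hne b (Or.inr (Or.inl ⟨hδ b hb, hθb⟩)) hδz hθz)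
  · exact absurd e (hne (a * b) (Or.inr (Or.inr
      ⟨by rw [map_mul, hδ a ha, hδ b hb, hu2], by rw [map_mul, hθa, hθb, one_mul]⟩)) hδz hθz)

end Words

variable {F : Type*} [Field F]

/-! ### Planes and small spaces -/

section Small

variable {V : Type*} [AddCommGroup V] [Module F V] [FiniteDimensional F V] {Q : QuadraticForm F V}

/-- An isometry of a space of dimension at most two fixing a non-singular vector. -/
theorem fix_cases (h2 : (2 : F) ≠ 0) (hQ : (polarBilin Q).Nondegenerate)
    (hn : finrank F V ≤ 2) {v : V} (hv : Q v ≠ 0) {h : orth Q} (hh : h.1 v = v) :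
    h = 1 ∨ ∃ (w : V) (hw : Q w ≠ 0), polar Q v w = 0 ∧ h = refl Q w hw := by
  set K := LinearMap.ker (polarBilin Q v) with hK
  have hvv : polar Q v v ≠ 0 := by rw [polar_self_mul]; exact mul_ne_zero h2 hv
  have hd : ∀ x : V, x - (polar Q v x / polar Q v v) • v ∈ K := fun x => by
    simp only [hK, LinearMap.mem_ker, polarBilin_apply_apply, polar_sub_right, polar_smul_right,
      smul_eq_mul]
    field_simp
    ring
  have hext : ∀ k : orth Q, k.1 v = v → (∀ x ∈ K, h.1 x = k.1 x) → h = k := fun k hk hx =>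
    orth_ext fun x => by
      conv_lhs => rw [← sub_add_cancel x ((polar Q v x / polar Q v v) • v)]
      conv_rhs => rw [← sub_add_cancel x ((polar Q v x / polar Q v v) • v)]
      rw [map_add, map_add, map_smul, map_smul, hh, hk, hx _ (hd x)]
  have hrank : finrank F K ≤ 1 := by
    have h1 := LinearMap.finrank_range_add_finrank_ker (polarBilin Q v)
    have h3 : 1 ≤ finrank F (LinearMap.range (polarBilin Q v)) := by
      rw [Nat.one_le_iff_ne_zero, ne_eq, Submodule.finrank_eq_zero, LinearMap.range_eq_bot]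
      intro e
      exact hvv (LinearMap.congr_fun e v)
    rw [← hK] at h1
    omega
  by_cases hK0 : K = ⊥
  · exact Or.inl (hext 1 rfl fun x hx => by
      rw [hK0, Submodule.mem_bot] at hx; rw [hx, map_zero]; rfl)
  obtain ⟨w, hwK, hw0⟩ := Submodule.exists_mem_ne_zero_of_ne_bot hK0
  have hspan : ∀ x ∈ K, ∃ c : F, x = c • w := by
    intro x hx
    have hle : Submodule.span F {w} ≤ K := (Submodule.span_singleton_le_iff_mem _ _).2 hwK
    have heq := Submodule.eq_of_le_of_finrank_le hle (by rw [finrank_span_singleton hw0]; exact hrank)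
    rw [← heq, Submodule.mem_span_singleton] at hx
    obtain ⟨c, rfl⟩ := hx
    exact ⟨c, rfl⟩
  have hvw : polar Q v w = 0 := hwK
  have hwv : polar Q w v = 0 := (polar_comm _ w v).trans hvw
  have hw : Q w ≠ 0 := by
    intro hw
    refine hw0 (hQ.1 w fun y => ?_)
    obtain ⟨c, hc⟩ := hspan _ (hd y)
    rw [polarBilin_apply_apply, ← sub_add_cancel y ((polar Q v y / polar Q v v) • v), hc,
      polar_add_right, polar_smul_right, polar_smul_right, polar_self_mul, hw, hwv]
    simp
  have hhw : h.1 w ∈ K := by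
    rw [hK, LinearMap.mem_ker, polarBilin_apply_apply, ← hh, polar_orth, hvw]
  obtain ⟨c, hc⟩ := hspan _ hhw
  have hcc : c * c = 1 := by
    have e : Q (h.1 w) = Q w := map_orth h w
    rw [hc, QuadraticMap.map_smul, smul_eq_mul] at e
    exact mul_right_cancel₀ hw (e.trans (one_mul _).symm)
  rcases mul_self_eq_one_iff.1 hcc with rfl | rfl
  · refine Or.inl (hext 1 rfl fun x hx => ?_)
    obtain ⟨c, rfl⟩ := hspan x hx
    rw [map_smul, hc, one_smul]; rfl
  · refine Or.inr ⟨w, hw, hvw, hext _ ?_ fun x hx => ?_⟩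
    · rw [refl_apply, hwv, mul_zero, zero_smul, sub_zero]
    · obtain ⟨c, rfl⟩ := hspan x hx
      rw [map_smul, map_smul, hc, refl_apply, polar_self_mul]
      match_scalars
      field_simp
      ring

/-- In dimension at most two an isometry of determinant `-1` is an involution. -/
theorem sq_of_det (h2 : (2 : F) ≠ 0) (hQ : (polarBilin Q).Nondegenerate) (hn : finrank F V ≤ 2)
    {g : orth Q} (hg : detHom Q g = -1) : g * g = 1 := by
  have hne : (1 : Fˣ) ≠ -1 := fun e => h2 (by
    have := congrArg Units.val e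
    simp only [Units.val_neg, Units.val_one] at this
    linear_combination this)
  by_cases hn0 : finrank F V = 0
  · haveI : Subsingleton V := Module.finrank_zero_iff.1 hn0
    exact orth_ext fun x => Subsingleton.elim _ _
  obtain ⟨v, hv⟩ := exists_map_ne_zero (isReg_of_nondegenerate hQ) hn0
  by_cases hd : Q (g.1 v - v) = 0
  · have hs : Q (g.1 v + v) ≠ 0 := fun e => by
      have h4 : (2 : F) * 2 * Q v = 0 := by
        have h1 := QuadraticMap.map_add (⇑Q) (g.1 v) v
        have h3 := QuadraticMap.map_add (⇑Q) (g.1 v) (-v)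
        rw [← sub_eq_add_neg, hd, QuadraticMap.map_neg, polar_neg_right] at h3
        rw [e] at h1
        simp only [map_orth] at h1 h3
        linear_combination -(h1 + h3)
      exact mul_ne_zero (mul_ne_zero h2 h2) hv h4
    set r := refl Q (g.1 v + v) hs
    have hr : r.1 (g.1 v) = -v := by
      have hpol : polar Q (g.1 v + v) (g.1 v) = Q (g.1 v + v) := by
        rw [QuadraticMap.map_add (⇑Q), polar_add_left, polar_self_mul, map_orth,
          polar_comm Q v]
        ring
      rw [refl_apply, hpol, inv_mul_cancel₀ hs, one_smul]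
      abel
    have hrv : (refl Q v hv * r * g).1 v = v := by
      rw [orth_mul_apply, orth_mul_apply, hr, map_neg, refl_apply, polar_self_mul,
        show (Q v)⁻¹ * (2 * Q v) = 2 by field_simp, two_smul]
      abel
    have hg' : g = r * refl Q v hv * (refl Q v hv * r * g) := by
      rw [← mul_assoc, ← mul_assoc, mul_assoc r, refl_sq, mul_one, refl_sq, one_mul]
    rcases fix_cases h2 hQ hn hv hrv with e | ⟨w, hw, hvw, e⟩
    · rw [e, mul_one] at hg'
      rw [hg', map_mul, detHom_refl, detHom_refl] at hg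
      simp only [neg_mul, one_mul, neg_neg] at hg
      exact absurd hg hne
    · rw [e] at hg'
      -- the product of the two orthogonal reflections is minus the identity
      have hneg : ∀ x, (refl Q v hv * refl Q w hw).1 x = -x := by
        have hwv : polar Q w v = 0 := (polar_comm _ w v).trans hvw
        have hli : LinearIndependent F ![v, w] := by
          rw [LinearIndependent.pair_iff]
          intro s t hst
          have e1 := congrArg (polar Q v) hst
          have e2 := congrArg (polar Q w) hst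
          simp only [polar_add_right, polar_smul_right, polar_self_mul, hvw, hwv, polar_zero_right,
            smul_eq_mul, mul_zero, add_zero, zero_add, mul_eq_zero, h2, hv, hw, or_false,
            false_or] at e1 e2
          exact ⟨e1, e2⟩
        have hsp : Submodule.span F (Set.range ![v, w]) = ⊤ :=
          Submodule.eq_top_of_finrank_eq (le_antisymm (Submodule.finrank_le _) (by
            rw [finrank_span_eq_card hli, Fintype.card_fin]; exact hn))
        intro x
        have hx : x ∈ Submodule.span F (Set.range ![v, w]) := hsp ▸ Submodule.mem_top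
        rw [Matrix.range_cons_cons_empty, Submodule.mem_span_pair] at hx
        obtain ⟨s, t, rfl⟩ := hx
        simp only [orth_mul_apply, refl_apply, polar_add_right, polar_smul_right, polar_self_mul,
          polar_sub_right, hvw, hwv, smul_eq_mul]
        match_scalars <;> field_simp <;> ring
      rw [hg', mul_assoc r]
      refine orth_ext fun x => ?_
      rw [orth_mul_apply, orth_mul_apply r, hneg, orth_mul_apply r, hneg, map_neg,
        ← orth_mul_apply r r, refl_sq]
      exact neg_neg x
  · set r := refl Q (g.1 v - v) hd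
    have hfix : (r * g).1 v = v := by rw [orth_mul_apply, refl_sub_apply (map_orth g v) hd]
    have hg' : g = r * (r * g) := by rw [← mul_assoc, refl_sq, one_mul]
    rcases fix_cases h2 hQ hn hv hfix with e | ⟨w, hw, -, e⟩
    · rw [e, mul_one] at hg'
      rw [hg', refl_sq]
    · rw [hg', e, map_mul, detHom_refl, detHom_refl] at hg
      simp only [neg_mul, one_mul, neg_neg] at hg
      exact absurd hg hne

end Small

/-! ### The model -/

/-- The plane `x² + y²`. -/
def qN (F : Type*) [Field F] : QuadraticForm F (Fin 2 → F) :=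
  QuadraticMap.linMulLin (LinearMap.proj 0) (LinearMap.proj 0) +
    QuadraticMap.linMulLin (LinearMap.proj 1) (LinearMap.proj 1)

theorem qN_apply (x : Fin 2 → F) : qN F x = x 0 * x 0 + x 1 * x 1 := by simp [qN]

theorem polar_qN (x y : Fin 2 → F) : polar (qN F) x y = 2 * (x 0 * y 0 + x 1 * y 1) := by
  simp [polar, qN_apply]; ring

theorem nd_qN (h2 : (2 : F) ≠ 0) : (polarBilin (qN F)).Nondegenerate := by
  refine OrthUnitaryStd.nondegenerate_iff_left _ fun x hx => funext fun i => ?_
  have h := hx (Pi.single i 1)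
  rw [polar_qN] at h
  fin_cases i <;> simpa [h2] using h

variable {W : Type*} [AddCommGroup W] [Module F W] (k : ℕ) (R : QuadraticForm F W)

/-- `k` planes `x² + y²` and the space of `R`. -/
noncomputable def model : QuadraticForm F ((Fin k → Fin 2 → F) × W) :=
  (QuadraticMap.pi fun _ : Fin k => qN F).prod R

theorem model_apply (p : (Fin k → Fin 2 → F) × W) :
    model k R p = (∑ i, qN F (p.1 i)) + R p.2 := by
  simp [model, QuadraticMap.pi_apply]

theorem polar_model (p p' : (Fin k → Fin 2 → F) × W) :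
    polar (model k R) p p' = (∑ i, polar (qN F) (p.1 i) (p'.1 i)) + polar R p.2 p'.2 := by
  simp only [polar, model_apply, Prod.fst_add, Prod.snd_add, Pi.add_apply, Finset.sum_sub_distrib]
  ring

theorem nd_model (h2 : (2 : F) ≠ 0) (hR : (polarBilin R).Nondegenerate) :
    (polarBilin (model k R)).Nondegenerate := by
  classical
  refine OrthUnitaryStd.nondegenerate_iff_left _ fun x hx => Prod.ext (funext fun i => ?_) ?_
  · refine (nd_qN h2).1 _ fun y => ?_
    have := hx (Pi.single i y, 0)
    rw [polar_model, Finset.sum_eq_single i (fun j _ hj => by simp [hj]) (by simp)] at this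
    simpa using this
  · exact hR.1 _ fun y => by simpa [polar_model] using hx (0, y)

variable {k R}

/-- Componentwise isometries. -/
def base : ((Fin k → orth (qN F)) × orth R) →* orth (model k R) where
  toFun fr := ⟨(LinearEquiv.piCongrRight fun i => (fr.1 i).1).prodCongr fr.2.1, fun p => by
    simp [model_apply, map_orth]⟩
  map_one' := orth_ext fun p => rfl
  map_mul' _ _ := orth_ext fun p => rfl

theorem base_apply (fr : (Fin k → orth (qN F)) × orth R) (p : (Fin k → Fin 2 → F) × W) :
    (base fr).1 p = (fun i => (fr.1 i).1 (p.1 i), fr.2.1 p.2) := rfl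

/-- Permutations of the planes. -/
def permG : Equiv.Perm (Fin k) →* orth (model k R) where
  toFun σ := ⟨(LinearEquiv.funCongrLeft F (Fin 2 → F) σ.symm).prodCongr (LinearEquiv.refl F W),
    fun p => by
      simp only [model_apply]
      congr 1
      exact Equiv.sum_comp σ.symm fun i => qN F (p.1 i)⟩
  map_one' := orth_ext fun p => rfl
  map_mul' _ _ := orth_ext fun p => rfl

theorem permG_apply (σ : Equiv.Perm (Fin k)) (p : (Fin k → Fin 2 → F) × W) :
    (permG (R := R) σ).1 p = (fun i => p.1 (σ.symm i), p.2) := rfl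

theorem conj_base (σ : Equiv.Perm (Fin k)) (fr : (Fin k → orth (qN F)) × orth R) :
    permG σ * base fr * (permG σ)⁻¹ = base (fun i => fr.1 (σ.symm i), fr.2) := by
  rw [mul_inv_eq_iff_eq_mul]
  refine orth_ext fun p => ?_
  simp [orth_mul_apply, base_apply, permG_apply]

theorem base_injective : Function.Injective (base : ((Fin k → orth (qN F)) × orth R) → _) := by
  intro a b h
  refine Prod.ext (funext fun i => orth_ext fun x => ?_) (orth_ext fun x => ?_)
  · exact congrFun (congrArg (fun g : orth (model k R) => (g.1 (Pi.single i x, 0)).1) h) i |>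
      fun e => by simpa [base_apply] using e
  · simpa [base_apply] using congrArg (fun g : orth (model k R) => (g.1 (0, x)).2) h

theorem pair_injective : Function.Injective
    fun x : ((Fin k → orth (qN F)) × orth R) × Equiv.Perm (Fin k) => base x.1 * permG x.2 := by
  rintro ⟨a, σ⟩ ⟨b, τ⟩ h
  have hs : σ = τ := by
    apply Equiv.ext
    intro j
    by_contra hne
    have e := congrFun (congrArg (fun g : orth (model k R) =>
      (g.1 (Pi.single j (Pi.single 0 1), 0)).1) h) (σ j)
    simp only [orth_mul_apply, base_apply, permG_apply, Equiv.symm_apply_apply, Pi.single_eq_same]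
      at e
    rw [Pi.single_eq_of_ne (fun e' => hne ((Equiv.symm_apply_eq τ).1 e')), map_zero] at e
    have e0 := congrArg (a.1 (σ j)).1.symm e
    rw [LinearEquiv.symm_apply_apply, map_zero] at e0
    simpa using congrFun e0 0
  subst hs
  exact Prod.ext (base_injective (mul_right_cancel h)) rfl

/-! ### Classes of the embedded isometries -/

/-- An isometry of one plane. -/
noncomputable def emb (i : Fin k) : orth (qN F) →* orth (model k R) :=
  base.comp ((MonoidHom.inl _ _).comp (MonoidHom.mulSingle (fun _ : Fin k => orth (qN F)) i))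

/-- An isometry of the small space. -/
noncomputable def embR : orth R →* orth (model k R) :=
  base.comp (MonoidHom.inr (Fin k → orth (qN F)) (orth R))

theorem emb_apply (i : Fin k) (a : orth (qN F)) (p : (Fin k → Fin 2 → F) × W) :
    (emb (R := R) i a).1 p = (Function.update p.1 i (a.1 (p.1 i)), p.2) := by
  refine Prod.ext (funext fun j => ?_) rfl
  by_cases hj : j = i
  · subst hj; simp [emb, base_apply]
  · simp [emb, base_apply, hj]

theorem embR_apply (a : orth R) (p : (Fin k → Fin 2 → F) × W) :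
    (embR (k := k) a).1 p = (p.1, a.1 p.2) := rfl

theorem emb_refl (i : Fin k) (u : Fin 2 → F) (hu : qN F u ≠ 0) :
    ∃ h : model k R (Pi.single i u, 0) ≠ 0,
      emb (R := R) i (refl (qN F) u hu) = refl (model k R) (Pi.single i u, 0) h := by
  classical
  have hv : model k R (Pi.single i u, 0) = qN F u := by
    rw [model_apply, Finset.sum_eq_single i (fun j _ hj => by simp [hj]) (by simp)]; simp
  refine ⟨by rwa [hv], orth_ext fun p => ?_⟩
  have hp : polar (model k R) (Pi.single i u, 0) p = polar (qN F) u (p.1 i) := by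
    rw [polar_model, Finset.sum_eq_single i (fun j _ hj => by simp [hj]) (by simp)]; simp
  rw [emb_apply, refl_apply, refl_apply, hv, hp]
  refine Prod.ext (funext fun j => ?_) (by simp)
  by_cases hj : j = i
  · subst hj; simp
  · simp [hj]

theorem embR_refl (u : W) (hu : R u ≠ 0) :
    ∃ h : model k R (0, u) ≠ 0, embR (k := k) (refl R u hu) = refl (model k R) (0, u) h := by
  refine ⟨by simpa [model_apply] using hu, orth_ext fun p => ?_⟩
  rw [embR_apply, refl_apply, refl_apply]
  refine Prod.ext (by simp) ?_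
  simp [model_apply, polar_model]

variable [Fintype F] [FiniteDimensional F W] [Finite W]

/-- A homomorphism respecting reflections respects determinant and spinor sign. -/
theorem class_eq {U : Type*} [AddCommGroup U] [Module F U] [FiniteDimensional F U] [Finite U]
    {S : QuadraticForm F U} {U' : Type*} [AddCommGroup U'] [Module F U'] [FiniteDimensional F U']
    [Finite U'] {S' : QuadraticForm F U'} (h2 : (2 : F) ≠ 0) (hS : (polarBilin S).Nondegenerate)
    (f : orth S →* orth S') (hf : ∀ u hu, ∃ w hw, f (refl S u hu) = refl S' w hw ∧ S' w = S u)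
    (a : orth S) : detHom S' (f a) = detHom S a ∧ theta S' (f a) = theta S a := by
  classical
  have hgen : reflGroup S = ⊤ := reflGroup_eq_top (isReg_of_nondegenerate hS)
    (Or.inl (exists_ne_zero_one (fun e => by have := card_mod_two (F := F) h2; omega)))
  have ha : a ∈ reflGroup S := hgen ▸ Subgroup.mem_top a
  induction ha using Subgroup.closure_induction with
  | mem x hx =>
    obtain ⟨u, hu, rfl⟩ := hx
    obtain ⟨w, hw, e, hval⟩ := hf u hu
    rw [e, detHom_refl, detHom_refl, theta_refl h2, theta_refl h2, hval]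
    exact ⟨rfl, rfl⟩
  | one => simp
  | mul x y _ _ hx hy => simp [map_mul, hx.1, hx.2, hy.1, hy.2]
  | inv x _ hx => simp [map_inv, hx.1, hx.2]

theorem class_emb (h2 : (2 : F) ≠ 0) (i : Fin k) (a : orth (qN F)) :
    detHom (model k R) (emb i a) = detHom (qN F) a ∧
      theta (model k R) (emb i a) = theta (qN F) a := by
  classical
  refine class_eq h2 (nd_qN h2) (emb (R := R) i) (fun u hu => ?_) a
  obtain ⟨h, e⟩ := emb_refl (R := R) i u hu
  refine ⟨_, h, e, ?_⟩
  rw [model_apply, Finset.sum_eq_single i (fun j _ hj => by simp [hj]) (by simp)]; simp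

theorem class_embR (h2 : (2 : F) ≠ 0) (hR : (polarBilin R).Nondegenerate) (a : orth R) :
    detHom (model k R) (embR a) = detHom R a ∧ theta (model k R) (embR a) = theta R a := by
  refine class_eq h2 hR (embR (k := k)) (fun u hu => ?_) a
  obtain ⟨h, e⟩ := embR_refl (k := k) u hu
  exact ⟨_, h, e, by simp [model_apply]⟩

theorem permG_swap (i j : Fin k) (hij : i ≠ j) (h2 : (2 : F) ≠ 0)
    (hR : (polarBilin R).Nondegenerate) :
    permG (R := R) (Equiv.swap i j) ∈ commutator (orth (model k R)) := by
  classical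
  set d : Fin 2 → (Fin k → Fin 2 → F) × W :=
    fun l => (Pi.single i (Pi.single l 1) - Pi.single j (Pi.single l 1), 0)
  have hval : ∀ l, model k R (d l) = 2 := fun l => by
    rw [model_apply, show (2 : F) = 1 + 1 by ring]
    simp only [d, QuadraticMap.map_zero, add_zero]
    rw [← Finset.sum_subset (Finset.subset_univ {i, j}) (fun x _ hx => by
      simp only [Finset.mem_insert, Finset.mem_singleton, not_or] at hx
      simp [hx.1, hx.2]), Finset.sum_pair hij]
    fin_cases l <;> simp [qN_apply, hij, Ne.symm hij]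
  have hd : ∀ l, model k R (d l) ≠ 0 := fun l => by rw [hval]; exact h2
  have hpol : ∀ l p, polar (model k R) (d l) p = 2 * (p.1 i l - p.1 j l) := fun l p => by
    rw [polar_model]
    simp only [d, polar_zero_left, add_zero]
    rw [← Finset.sum_subset (Finset.subset_univ {i, j}) (fun x _ hx => by
      simp only [Finset.mem_insert, Finset.mem_singleton, not_or] at hx
      simp [hx.1, hx.2]), Finset.sum_pair hij]
    fin_cases l <;> simp [polar_qN, hij, Ne.symm hij] <;> ring
  have e : permG (R := R) (Equiv.swap i j) =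
      refl (model k R) (d 0) (hd 0) * refl (model k R) (d 1) (hd 1) := by
    refine orth_ext fun p => ?_
    rw [orth_mul_apply, refl_apply (v := d 1), refl_apply, polar_sub_right, polar_smul_right,
      hval, hval, hpol, hpol, hpol, permG_apply, Equiv.symm_swap]
    simp only [d, Prod.smul_mk, smul_zero]
    refine Prod.ext (funext fun x => funext fun l => ?_) (by simp)
    by_cases hxi : x = i
    · subst hxi
      fin_cases l <;> simp [hij, h2]
    · by_cases hxj : x = j
      · subst hxj
        fin_cases l <;> simp [Ne.symm hij, h2]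
      · simp [Equiv.swap_apply_of_ne_of_ne hxi hxj, hxi, hxj]
  haveI : Finite ((Fin k → Fin 2 → F) × W) := inferInstance
  rw [e]
  by_cases hs : IsSquare (2 : F) <;>
  · refine ((OrthUnitaryOmega.odd_main h2 ?_).1 _).2 ⟨?_, ?_⟩
    · exact isReg_of_nondegenerate (nd_model k R h2 hR)
    · simp [map_mul, detHom_refl]
    · simp [map_mul, theta_refl h2, hval, hs]

/-! ### The Sylow subgroup -/

theorem det_cases {U : Type*} [AddCommGroup U] [Module F U] [FiniteDimensional F U] [Finite U]
    {S : QuadraticForm F U} (h2 : (2 : F) ≠ 0) (hS : (polarBilin S).Nondegenerate) (a : orth S) :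
    detHom S a = 1 ∨ detHom S a = -1 := by
  have hgen : reflGroup S = ⊤ := reflGroup_eq_top (isReg_of_nondegenerate hS)
    (Or.inl (exists_ne_zero_one (fun e => by have := card_mod_two (F := F) h2; omega)))
  have ha : a ∈ reflGroup S := hgen ▸ Subgroup.mem_top a
  induction ha using Subgroup.closure_induction with
  | mem x hx => obtain ⟨u, hu, rfl⟩ := hx; exact Or.inr (detHom_refl u hu)
  | one => simp
  | mul x y _ _ hx hy => rcases hx with hx | hx <;> rcases hy with hy | hy <;> simp [hx, hy]
  | inv x _ hx => rcases hx with hx | hx <;> simp [hx]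

/-- A Sylow subgroup contains a conjugate of every involution. -/
theorem exists_conj_mem {G : Type*} [Group G] [Finite G] (D : Sylow 2 G) {x : G} (hx : x * x = 1) :
    ∃ g : G, g * x * g⁻¹ ∈ D := by
  have : Fact (Nat.Prime 2) := ⟨Nat.prime_two⟩
  have hp : IsPGroup 2 (Subgroup.zpowers x) := fun y => ⟨1, Subtype.ext (by
    obtain ⟨j, hj⟩ := y.2
    simp only [pow_one, Subgroup.coe_pow, Subgroup.coe_one, ← hj]
    rw [← zpow_natCast, ← zpow_mul, mul_comm, zpow_mul, zpow_natCast, pow_two, hx, one_zpow])⟩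
  obtain ⟨T, hT⟩ := hp.exists_le_sylow
  obtain ⟨g, rfl⟩ := MulAction.exists_smul_eq G T D
  exact ⟨g, Subgroup.mem_map_of_mem (MulAut.conj g).toMonoidHom (hT (Subgroup.mem_zpowers x))⟩

section Blocks

variable [Finite (orth (qN F))] [Finite (orth R)]
  (D : Sylow 2 (orth (qN F))) (E : Sylow 2 (orth R)) (T : Sylow 2 (Equiv.Perm (Fin k)))

/-- The product of the Sylow subgroups of the summands. -/
def B0 : Subgroup ((Fin k → orth (qN F)) × orth R) :=
  (Subgroup.pi Set.univ fun _ => (D : Subgroup (orth (qN F)))).prod (E : Subgroup (orth R))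

theorem mem_B0 {fr : (Fin k → orth (qN F)) × orth R} :
    fr ∈ B0 (k := k) D E ↔ (∀ i, fr.1 i ∈ D) ∧ fr.2 ∈ E := by
  constructor
  · exact fun h => ⟨fun i => h.1 i trivial, h.2⟩
  · exact fun h => ⟨fun i _ => h.1 i, h.2⟩

/-- The 2-subgroup of the model. -/
noncomputable def PP : Subgroup (orth (model k R)) :=
  (B0 (k := k) D E).map base ⊔ (T : Subgroup (Equiv.Perm (Fin k))).map permG

theorem card_B0 : Nat.card (B0 (k := k) D E) = 2 ^ (k * (Nat.card (orth (qN F))).factorization 2
    + (Nat.card (orth R)).factorization 2) := by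
  have : Fact (Nat.Prime 2) := ⟨Nat.prime_two⟩
  have hD : Nat.card D = 2 ^ (Nat.card (orth (qN F))).factorization 2 := D.card_eq_multiplicity
  have hE : Nat.card E = 2 ^ (Nat.card (orth R)).factorization 2 := E.card_eq_multiplicity
  have eB : B0 (k := k) D E ≃ (Fin k → D) × E :=
    { toFun := fun x => (fun i => ⟨x.1.1 i, ((mem_B0 D E).1 x.2).1 i⟩, ⟨x.1.2, ((mem_B0 D E).1 x.2).2⟩)
      invFun := fun x => ⟨(fun i => (x.1 i).1, x.2.1),
        (mem_B0 D E).2 ⟨fun i => (x.1 i).2, x.2.2⟩⟩
      left_inv := fun x => rfl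
      right_inv := fun x => rfl }
  rw [Nat.card_congr eB, Nat.card_prod, Nat.card_fun, Nat.card_fin]
  erw [hD, hE]
  rw [← pow_mul, ← pow_add, mul_comm]

theorem normalizes : (T : Subgroup (Equiv.Perm (Fin k))).map permG ≤
    Subgroup.normalizer (((B0 (k := k) D E).map base : Subgroup (orth (model k R))) :
      Set (orth (model k R))) := by
  have hone : ∀ σ : Equiv.Perm (Fin k), ∀ g ∈ (B0 (k := k) D E).map base,
      permG σ * g * (permG (R := R) σ)⁻¹ ∈ (B0 (k := k) D E).map base := by
    rintro σ _ ⟨fr, hfr, rfl⟩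
    rw [conj_base]
    exact Subgroup.mem_map_of_mem base ((mem_B0 D E).2
      ⟨fun i => ((mem_B0 D E).1 hfr).1 (σ.symm i), ((mem_B0 D E).1 hfr).2⟩)
  rintro _ ⟨σ, -, rfl⟩
  rw [Subgroup.mem_normalizer_iff]
  intro g
  refine ⟨hone σ g, fun hg => ?_⟩
  have := hone σ⁻¹ _ hg
  simpa [mul_assoc] using this

theorem isPGroup_PP : IsPGroup 2 (PP D E T) :=
  ((IsPGroup.of_card (card_B0 (k := k) D E)).map base).to_sup_of_normal_left'
    (T.isPGroup'.map permG) (normalizes D E T)

theorem card_PP : 2 ^ (k * (Nat.card (orth (qN F))).factorization 2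
    + k.factorial.factorization 2 + (Nat.card (orth R)).factorization 2) ≤ Nat.card (PP D E T) := by
  classical
  have : Fact (Nat.Prime 2) := ⟨Nat.prime_two⟩
  haveI := finite_orth (model k R)
  let f : B0 (k := k) D E × (T : Subgroup (Equiv.Perm (Fin k))) → PP D E T := fun x =>
    ⟨base x.1.1 * permG x.2.1,
      mul_mem (Subgroup.mem_sup_left (Subgroup.mem_map_of_mem _ x.1.2))
        (Subgroup.mem_sup_right (Subgroup.mem_map_of_mem _ x.2.2))⟩
  have hf : Function.Injective f := fun x y hxy => by
    have := pair_injective (a₁ := (x.1.1, x.2.1)) (a₂ := (y.1.1, y.2.1)) (congrArg Subtype.val hxy)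
    simp only [Prod.mk.injEq] at this
    exact Prod.ext (Subtype.ext this.1) (Subtype.ext this.2)
  have hT : Nat.card (T : Subgroup (Equiv.Perm (Fin k))) = 2 ^ k.factorial.factorization 2 := by
    rw [T.card_eq_multiplicity, Nat.card_perm, Nat.card_fin]
  refine le_trans (le_of_eq ?_) (Nat.card_le_card_of_injective f hf)
  rw [Nat.card_prod, card_B0, hT, ← pow_add]
  ring_nf

/-- The reflections of the summands inside the Sylow subgroups. -/
def Letters : Set (orth (model k R)) :=
  {x | ∃ i a, a ∈ D ∧ detHom (qN F) a = -1 ∧ x = emb i a} ∪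
    {x | ∃ a, a ∈ E ∧ detHom R a = -1 ∧ x = embR a}

theorem emb_mem (i : Fin k) {a : orth (qN F)} (ha : a ∈ D) : emb (R := R) i a ∈ PP D E T := by
  refine Subgroup.mem_sup_left ⟨_, (mem_B0 D E).2 ⟨fun j => ?_, one_mem (E : Subgroup (orth R))⟩, rfl⟩
  by_cases hj : j = i
  · subst hj; simpa using ha
  · show Pi.mulSingle (M := fun _ => orth (qN F)) i a j ∈ (D : Subgroup (orth (qN F)))
    rw [Pi.mulSingle_eq_of_ne hj]; exact one_mem _

theorem embR_mem {a : orth R} (ha : a ∈ E) : embR (k := k) a ∈ PP D E T :=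
  Subgroup.mem_sup_left ⟨_, (mem_B0 D E).2 ⟨fun _ => one_mem (D : Subgroup (orth (qN F))), ha⟩, rfl⟩

theorem commute_emb {i j : Fin k} (hij : i ≠ j) (a b : orth (qN F)) :
    Commute (emb (R := R) i a) (emb j b) :=
  ((Pi.mulSingle_commute (f := fun _ : Fin k => orth (qN F)) hij a b).map
    (MonoidHom.inl _ (orth R))).map base

theorem commute_embR (i : Fin k) (a : orth (qN F)) (b : orth R) :
    Commute (emb (R := R) i a) (embR b) :=
  ((MonoidHom.commute_inl_inr (Pi.mulSingle (M := fun _ : Fin k => orth (qN F)) i a) b)).map base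

theorem letters_spec (h2 : (2 : F) ≠ 0) (hR : (polarBilin R).Nondegenerate) (hW : finrank F W ≤ 2)
    {x : orth (model k R)} (hx : x ∈ Letters D E) :
    x ∈ PP D E T ∧ x * x = 1 ∧ detHom (model k R) x = -1 := by
  rcases hx with ⟨i, a, ha, hd, rfl⟩ | ⟨a, ha, hd, rfl⟩
  · refine ⟨emb_mem D E T i ha, ?_, by rw [(class_emb h2 i a).1, hd]⟩
    rw [← map_mul, sq_of_det h2 (nd_qN h2) (by simp) hd, map_one]
  · refine ⟨embR_mem D E T ha, ?_, by rw [(class_embR h2 hR a).1, hd]⟩
    rw [← map_mul, sq_of_det h2 hR hW hd, map_one]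

theorem letters_conj (h2 : (2 : F) ≠ 0) (hR : (polarBilin R).Nondegenerate) (hW : finrank F W ≤ 2)
    {x y : orth (model k R)} (hx : x ∈ Letters D E) (hy : y ∈ Letters D E) :
    x * y * x ∈ Letters D E := by
  have : Fact (Nat.Prime 2) := ⟨Nat.prime_two⟩
  obtain ⟨T⟩ : Nonempty (Sylow 2 (Equiv.Perm (Fin k))) := inferInstance
  have hxx := (letters_spec D E T h2 hR hW hx).2.1
  have hfix : Commute x y → x * y * x ∈ Letters D E := fun e => by
    rwa [e.eq, mul_assoc, hxx, mul_one]
  rcases hx with ⟨i, a, ha, hd, rfl⟩ | ⟨a, ha, hd, rfl⟩ <;>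
    rcases hy with ⟨j, b, hb, hdb, rfl⟩ | ⟨b, hb, hdb, rfl⟩
  · by_cases hij : i = j
    · subst hij
      exact Or.inl ⟨i, a * b * a, mul_mem (mul_mem ha hb) ha, by simp [hd, hdb], by simp⟩
    · exact hfix (commute_emb hij a b)
  · exact hfix (commute_embR i a b)
  · exact hfix (commute_embR j b a).symm
  · exact Or.inr ⟨a * b * a, mul_mem (mul_mem ha hb) ha, by simp [hd, hdb], by simp⟩

theorem exists_class (h2 : (2 : F) ≠ 0) (s : ℤˣ) :
    ∃ a ∈ D, detHom (qN F) a = -1 ∧ theta (qN F) a = s := by
  classical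
  obtain ⟨c, hc⟩ := FiniteField.exists_nonsquare (ringChar_ne_two h2)
  obtain ⟨u, hu, hs⟩ : ∃ u, qN F u ≠ 0 ∧ (IsSquare (qN F u) ↔ s = -1) := by
    rcases Int.units_eq_one_or s with rfl | rfl
    · obtain ⟨u, hu⟩ := exists_map_eq (isReg_of_nondegenerate (nd_qN h2)) (by simp) c
      exact ⟨u, by rw [hu]; exact fun e => hc (e ▸ IsSquare.zero), by rw [hu]; simp [hc]⟩
    · exact ⟨Pi.single 0 1, by simp [qN_apply], by simp [qN_apply]⟩
  obtain ⟨g, hg⟩ := exists_conj_mem D (refl_sq u hu)
  refine ⟨_, hg, by simp [detHom_refl], ?_⟩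
  rw [map_mul, map_mul, map_inv, mul_inv_cancel_comm, theta_refl h2]
  rcases Int.units_eq_one_or s with rfl | rfl <;> simp_all

theorem pair_exists (h2 : (2 : F) ≠ 0) (hk : 2 ≤ k)
    {x y : orth (model k R)} (hx : x ∈ Letters D E) (hy : y ∈ Letters D E) (e : ¬ Commute x y) :
    ∃ w ∈ Letters (k := k) (R := R) D E,
      theta (model k R) x = theta (model k R) w ∧ Commute x w ∧ Commute w y := by
  obtain ⟨a', ha', hd', hθ'⟩ := exists_class D h2 (theta (model k R) x)
  haveI : Nontrivial (Fin k) := Fin.nontrivial_iff_two_le.2 hk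
  rcases hx with ⟨i, a, ha, hd, rfl⟩ | ⟨a, ha, hd, rfl⟩ <;>
    rcases hy with ⟨j, b, hb, hdb, rfl⟩ | ⟨b, hb, hdb, rfl⟩
  · obtain rfl : i = j := by_contra fun hij => e (commute_emb hij a b)
    obtain ⟨l, hl⟩ := exists_ne i
    exact ⟨emb l a', Or.inl ⟨l, a', ha', hd', rfl⟩, by rw [(class_emb h2 l a').2, hθ'],
      commute_emb hl.symm a a', commute_emb hl a' b⟩
  · exact absurd (commute_embR i a b) e
  · exact absurd (commute_embR j b a).symm e
  · exact ⟨emb ⟨0, by omega⟩ a', Or.inl ⟨_, a', ha', hd', rfl⟩,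
      by rw [(class_emb h2 _ a').2, hθ'], (commute_embR _ a' a).symm, commute_embR _ a' b⟩

theorem base_le (h2 : (2 : F) ≠ 0) (hR : (polarBilin R).Nondegenerate) :
    (B0 (k := k) D E).map base ≤ Subgroup.closure (Letters D E) := by
  rintro _ ⟨⟨f, r⟩, hfr, rfl⟩
  obtain ⟨hf, hr⟩ := (mem_B0 D E).1 hfr
  obtain ⟨a₀, ha₀, hd₀, -⟩ := exists_class D h2 1
  have hp : ∀ (i : Fin k), ∀ a ∈ D, emb (R := R) i a ∈ Subgroup.closure (Letters D E) := by
    intro i a ha
    rcases det_cases h2 (nd_qN h2) a with hd | hd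
    · rw [← inv_mul_cancel_right a a₀, map_mul]
      refine Subgroup.mul_mem _ (Subgroup.subset_closure (Or.inl ⟨i, _, mul_mem ha (inv_mem ha₀),
        by simp [hd, hd₀], rfl⟩)) (Subgroup.subset_closure (Or.inl ⟨i, a₀, ha₀, hd₀, rfl⟩))
    · exact Subgroup.subset_closure (Or.inl ⟨i, a, ha, hd, rfl⟩)
  have hr' : embR (k := k) r ∈ Subgroup.closure (Letters D E) := by
    by_cases h0 : finrank F W = 0
    · haveI : Subsingleton W := Module.finrank_zero_iff.1 h0
      rw [show r = 1 from orth_ext fun x => Subsingleton.elim _ _, map_one]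
      exact Subgroup.one_mem _
    obtain ⟨u, hu⟩ := exists_map_ne_zero (isReg_of_nondegenerate hR) h0
    obtain ⟨g, hg⟩ := exists_conj_mem E (refl_sq u hu)
    rcases det_cases h2 hR r with hd | hd
    · rw [← inv_mul_cancel_right r (g * refl R u hu * g⁻¹), map_mul]
      exact Subgroup.mul_mem _
        (Subgroup.subset_closure (Or.inr ⟨_, mul_mem hr (inv_mem hg), by simp [hd, detHom_refl], rfl⟩))
        (Subgroup.subset_closure (Or.inr ⟨_, hg, by simp [detHom_refl], rfl⟩))
    · exact Subgroup.subset_closure (Or.inr ⟨r, hr, hd, rfl⟩)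
  have e : ((f, r) : (Fin k → orth (qN F)) × orth R) = (f, 1) * (1, r) := by simp
  rw [e, map_mul]
  refine Subgroup.mul_mem _ ?_ hr'
  exact Subgroup.pi_mem_of_mulSingle_mem
    (H := (Subgroup.closure (Letters D E)).comap
      (base.comp (MonoidHom.inl (Fin k → orth (qN F)) (orth R)))) f
    fun i => hp i (f i) (hf i)

theorem gen_inf (h2 : (2 : F) ≠ 0) (hR : (polarBilin R).Nondegenerate) (hW : finrank F W ≤ 2)
    (hk : 2 ≤ k) (hTg : S4623.Gen 2 (T : Subgroup (Equiv.Perm (Fin k)))) :
    S4623.Gen 2 (PP D E T ⊓ commutator (orth (model k R))) := by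
  classical
  set Qm := model k R
  set C := commutator (orth Qm)
  have hmain := (odd_main h2 (isReg_of_nondegenerate (nd_model k R h2 hR))).1
  set Wc := Subgroup.closure {g : orth Qm | g ∈ PP D E T ⊓ C ∧ g ^ 2 = 1}
  have hperm : ∀ σ : Equiv.Perm (Fin k), permG (R := R) σ ∈ C := by
    intro σ
    induction σ using Equiv.Perm.swap_induction_on with
    | one => rw [map_one]; exact Subgroup.one_mem _
    | swap_mul f x y hxy ih => rw [map_mul]; exact Subgroup.mul_mem _ (permG_swap x y hxy h2 hR) ih
  have hTW : (T : Subgroup (Equiv.Perm (Fin k))).map permG ≤ Wc := by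
    refine (S4623.gen_map permG hTg).trans (Subgroup.closure_mono ?_)
    rintro g ⟨hg, hg2⟩
    refine ⟨⟨Subgroup.mem_sup_right hg, ?_⟩, hg2⟩
    obtain ⟨σ, -, rfl⟩ := hg
    exact hperm σ
  have hWnorm : ∀ x ∈ Letters (k := k) (R := R) D E, ∀ z ∈ Wc, x * z * x ∈ Wc := by
    intro x hx z hz
    obtain ⟨hxP, hxx, -⟩ := letters_spec D E T h2 hR hW hx
    have hxi : x⁻¹ = x := inv_eq_of_mul_eq_one_right hxx
    induction hz using Subgroup.closure_induction with
    | mem g hg =>
      obtain ⟨⟨hgP, hgC⟩, hg2⟩ := hg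
      refine Subgroup.subset_closure ⟨⟨mul_mem (mul_mem hxP hgP) hxP, ?_⟩, ?_⟩
      · have h := Subgroup.Normal.conj_mem inferInstance g hgC x
        rwa [hxi] at h
      · have e : x * g * x = x * g * x⁻¹ := by rw [hxi]
        rw [e, conj_pow, hg2]; simp
    | one => rw [mul_one, hxx]; exact Subgroup.one_mem _
    | mul g g' _ _ h h' =>
      have e : x * (g * g') * x = (x * g * x) * (x * g' * x) := by
        simp only [mul_assoc, ← mul_assoc x x, hxx, one_mul]
      rw [e]; exact Subgroup.mul_mem _ h h'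
    | inv g _ h =>
      have e : x * g⁻¹ * x = (x * g * x)⁻¹ := by simp [mul_assoc, hxi]
      rw [e]; exact Subgroup.inv_mem _ h
  have hpairJ : ∀ x ∈ Letters (k := k) (R := R) D E, ∀ y ∈ Letters (k := k) (R := R) D E,
      theta Qm x = theta Qm y → Commute x y → x * y ∈ Wc := by
    intro x hx y hy hθ e
    obtain ⟨hxP, hxx, hxd⟩ := letters_spec D E T h2 hR hW hx
    obtain ⟨hyP, hyy, hyd⟩ := letters_spec D E T h2 hR hW hy
    refine Subgroup.subset_closure ⟨⟨mul_mem hxP hyP, (hmain _).2 ⟨?_, ?_⟩⟩, ?_⟩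
    · rw [map_mul, hxd, hyd]; simp
    · rw [map_mul, hθ]; exact Int.units_mul_self _
    · rw [e.mul_pow, pow_two, pow_two, hxx, hyy, one_mul]
  have hpair : ∀ x ∈ Letters (k := k) (R := R) D E, ∀ y ∈ Letters (k := k) (R := R) D E,
      theta Qm x = theta Qm y → x * y ∈ Wc := by
    intro x hx y hy hθ
    by_cases e : Commute x y
    · exact hpairJ x hx y hy hθ e
    obtain ⟨w, hw, hθw, hxw, hwy⟩ := pair_exists D E h2 hk hx hy e
    obtain ⟨-, hww, -⟩ := letters_spec D E T h2 hR hW hw
    have := Subgroup.mul_mem _ (hpairJ x hx w hw hθw hxw) (hpairJ w hw y hy (hθw.symm.trans hθ) hwy)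
    rwa [show x * w * (w * y) = x * y by rw [mul_assoc, ← mul_assoc w w, hww, one_mul]] at this
  have hne : (-1 : Fˣ) ≠ 1 := fun e => h2 (by
    have := congrArg Units.val e
    simp only [Units.val_neg, Units.val_one] at this
    linear_combination -this)
  rintro g ⟨hgP, hgC⟩
  have hg' : g ∈ ((T : Subgroup (Equiv.Perm (Fin k))).map permG ⊔ (B0 (k := k) D E).map base :
      Subgroup (orth Qm)) := by
    rw [sup_comm]; exact hgP
  rw [← SetLike.mem_coe, Subgroup.coe_mul_of_left_le_normalizer_right _ _ (normalizes D E T)] at hg'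
  obtain ⟨t, ht, b, hb, rfl⟩ := hg'
  refine Subgroup.mul_mem _ (hTW ht) ?_
  obtain ⟨σ, -, rfl⟩ := ht
  have hbC : b ∈ C := (Subgroup.mul_mem_cancel_left _ (hperm σ)).1 hgC
  obtain ⟨hb1, hb2⟩ := (hmain b).1 hbC
  obtain ⟨a, ha, hda, hθa⟩ := exists_class D h2 1
  obtain ⟨c, hc, hdc, hθc⟩ := exists_class D h2 (-1)
  let i₀ : Fin k := ⟨0, by omega⟩
  refine mem_of_words (detHom Qm) (theta Qm) hne (fun x hx => (letters_spec D E T h2 hR hW hx).2.1)
    (fun x hx => (letters_spec D E T h2 hR hW hx).2.2)
    (fun x hx y hy => letters_conj D E h2 hR hW hx hy) hWnorm hpair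
    (a := emb i₀ a) (b := emb i₀ c)
    (Or.inl ⟨_, a, ha, hda, rfl⟩) (Or.inl ⟨_, c, hc, hdc, rfl⟩)
    (by rw [(class_emb h2 _ a).2, hθa]) (by rw [(class_emb h2 _ c).2, hθc]) ?_
    (base_le D E h2 hR hb) hb1 hb2
  intro z hz
  exact (hmain z).1 ((Subgroup.closure_le _).2 (fun x hx => hx.1.2) hz)

end Blocks

/-- A Sylow 2-subgroup of the commutator subgroup of the model is generated by involutions. -/
theorem model_good (h2 : (2 : F) ≠ 0) (hR : (polarBilin R).Nondegenerate) (hW : finrank F W ≤ 2)
    (hk : 2 ≤ k)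
    (hcard : (Nat.card (orth (model k R))).factorization 2 ≤
      k * (Nat.card (orth (qN F))).factorization 2 + k.factorial.factorization 2
        + (Nat.card (orth R)).factorization 2)
    (S : Sylow 2 (commutator (orth (model k R)))) :
    ∀ x : (S : Subgroup (commutator (orth (model k R)))),
      x ^ 2 ∈ commutator (S : Subgroup (commutator (orth (model k R)))) := by
  classical
  have : Fact (Nat.Prime 2) := ⟨Nat.prime_two⟩
  haveI := finite_orth (qN F)
  haveI := finite_orth R
  haveI := finite_orth (model k R)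
  obtain ⟨D⟩ : Nonempty (Sylow 2 (orth (qN F))) := inferInstance
  obtain ⟨E⟩ : Nonempty (Sylow 2 (orth R)) := inferInstance
  obtain ⟨T, -, hTg⟩ :=
    WreathTwo85.exists_gen_sylow (⊥ : Subgroup (Equiv.Perm (Fin k))) IsPGroup.of_bot
  set P := PP D E T
  have hP : 2 ^ (Nat.card (orth (model k R))).factorization 2 ≤ Nat.card P :=
    (Nat.pow_le_pow_right two_pos hcard).trans (card_PP D E T)
  have e : (P ⊓ (commutator (orth (model k R)))).subgroupOf (commutator (orth (model k R))) ≃* (P ⊓ (commutator (orth (model k R))) : Subgroup (orth (model k R))) :=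
    Subgroup.subgroupOfEquivOfLe inf_le_right
  refine WreathTwo85.sylow_good (((isPGroup_PP D E T).to_le inf_le_left).of_equiv e.symm) ?_
    (S4623.good_of_mulEquiv e.symm (S4623.good_of_gen (gen_inf D E T h2 hR hW hk hTg))) S
  rw [Nat.card_congr e.toEquiv]
  have hidx : (commutator (orth (model k R))).index = 4 :=
    (odd_main h2 (isReg_of_nondegenerate (nd_model k R h2 hR))).2 (by
      rw [Module.finrank_prod, Module.finrank_pi_fintype]; simp; omega)
  have h1 : Nat.card P ≤ Nat.card (P ⊓ (commutator (orth (model k R))) : Subgroup (orth (model k R))) * 4 := by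
    have hr : (commutator (orth (model k R))).relIndex P ≤ 4 := hidx ▸ Nat.le_of_dvd (by omega) (Subgroup.relIndex_dvd_index_of_normal (commutator (orth (model k R))) P)
    have hmul : Nat.card (P ⊓ (commutator (orth (model k R))) : Subgroup (orth (model k R))) * (commutator (orth (model k R))).relIndex P = Nat.card P := by
      rw [← Subgroup.inf_relIndex_right, inf_comm (commutator (orth (model k R))) P,
        Subgroup.relIndex,
        ← Nat.card_congr (Subgroup.subgroupOfEquivOfLe
          (inf_le_left : P ⊓ commutator (orth (model k R)) ≤ P)).toEquiv]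
      exact Subgroup.card_mul_index _
    rw [← hmul]
    exact Nat.mul_le_mul_left _ hr
  have hpos : Nat.card (commutator (orth (model k R))) ≠ 0 := Nat.card_pos.ne'
  rw [← (commutator (orth (model k R))).card_mul_index, hidx, Nat.factorization_mul hpos (by norm_num), Finsupp.add_apply,
    show (4 : ℕ).factorization 2 = 2 by
      rw [show (4 : ℕ) = 2 ^ 2 by norm_num, Nat.Prime.factorization_pow Nat.prime_two,
        Finsupp.single_eq_same], pow_add] at hP
  omega

end Cfsg.Agent.OrthUnitarySylowTwo
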