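import Mathlib
import Cfsg.Agent.Lib.OrthUnitarySylowTwo
import Cfsg.Agent.Lib.OrthUnitaryStd
import Cfsg.Agent.Lib.FiniteFormClass

/-!
The standard forms as sums of planes `x² + y²` and a space of dimension at most two, and the
squares of a Sylow 2-subgroup of their commutator subgroups.
-/

set_option autoImplicit false
set_option linter.unusedSectionVars false

namespace Cfsg.Agent.OrthUnitarySylowTwoStd

open QuadraticMap Module
open Cfsg.Agent.OrthUnitaryQuad
open Cfsg.Agent.OrthUnitaryOmega
open Cfsg.Agent.OrthUnitaryForms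
open Cfsg.Agent.OrthUnitarySylowTwo

variable {F : Type*} [Field F]

section Isom

variable {U U' U'' : Type*} [AddCommGroup U] [Module F U] [AddCommGroup U'] [Module F U']
  [AddCommGroup U''] [Module F U'']

/-- Two forms are isometric. -/
def Isom (Q : QuadraticForm F U) (Q' : QuadraticForm F U') : Prop :=
  ∃ e : U ≃ₗ[F] U', ∀ x, Q' (e x) = Q x

theorem Isom.trans {Q : QuadraticForm F U} {Q' : QuadraticForm F U'} {Q'' : QuadraticForm F U''}
    (h : Isom Q Q') (h' : Isom Q' Q'') : Isom Q Q'' := by
  obtain ⟨e, he⟩ := h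
  obtain ⟨e', he'⟩ := h'
  exact ⟨e.trans e', fun x => by rw [LinearEquiv.trans_apply, he', he]⟩

theorem Isom.symm {Q : QuadraticForm F U} {Q' : QuadraticForm F U'} (h : Isom Q Q') : Isom Q' Q := by
  obtain ⟨e, he⟩ := h
  exact ⟨e.symm, fun x => by rw [← he, e.apply_symm_apply]⟩

theorem Isom.hyp {Q : QuadraticForm F U} {Q' : QuadraticForm F U'} (h : Isom Q Q') :
    Isom (hypExt Q) (hypExt Q') := by
  obtain ⟨e, he⟩ := h
  exact ⟨(LinearEquiv.refl F (F × F)).prodCongr e, fun ⟨⟨a, b⟩, x⟩ => by
    simp [hypExt_apply, he]⟩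

theorem isom_split (m : ℕ) (Q : QuadraticForm F U) :
    Isom (hypExt (withBase m Q)) (withBase (m + 1) Q) :=
  ⟨splitEquiv m, splitEquiv_isometry m Q⟩

theorem Isom.card {Q : QuadraticForm F U} {Q' : QuadraticForm F U'} (h : Isom Q Q') :
    Nat.card (orth Q) = Nat.card (orth Q') := by
  obtain ⟨e, he⟩ := h
  exact Nat.card_congr (orthCongr e he).toEquiv

end Isom

/-- Appending a plane. -/
def snocE (k : ℕ) : ((Fin k → Fin 2 → F) × (Fin 2 → F)) ≃ₗ[F] (Fin (k + 1) → Fin 2 → F) where
  toFun p := Fin.snoc p.1 p.2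
  invFun g := (fun i => g i.castSucc, g (Fin.last k))
  map_add' p p' := by
    funext i
    refine Fin.lastCases ?_ (fun i => ?_) i <;> simp
  map_smul' c p := by
    funext i
    refine Fin.lastCases ?_ (fun i => ?_) i <;> simp
  left_inv p := by simp
  right_inv g := Fin.snoc_init_self g

variable {W W' : Type*} [AddCommGroup W] [Module F W] [AddCommGroup W'] [Module F W']

/-- A hyperbolic plane and a small space become one more plane and another small space. -/
theorem absorb {R : QuadraticForm F W} {R' : QuadraticForm F W'} (k : ℕ)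
    (θ : ((F × F) × W) ≃ₗ[F] ((Fin 2 → F) × W'))
    (hθ : ∀ p : (F × F) × W, qN F (θ p).1 + R' (θ p).2 = p.1.1 * p.1.2 + R p.2) :
    Isom (hypExt (model k R)) (model (k + 1) R') := by
  let φ : ((F × F) × ((Fin k → Fin 2 → F) × W)) ≃ₗ[F] ((Fin (k + 1) → Fin 2 → F) × W') :=
    ((LinearEquiv.prodAssoc F (F × F) (Fin k → Fin 2 → F) W).symm.trans
      ((LinearEquiv.prodComm F (F × F) (Fin k → Fin 2 → F)).prodCongr (LinearEquiv.refl F W))).trans
    ((LinearEquiv.prodAssoc F (Fin k → Fin 2 → F) (F × F) W).trans
      (((LinearEquiv.refl F (Fin k → Fin 2 → F)).prodCongr θ).trans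
        ((LinearEquiv.prodAssoc F (Fin k → Fin 2 → F) (Fin 2 → F) W').symm.trans
          ((snocE k).prodCongr (LinearEquiv.refl F W')))))
  have hφ : ∀ a b v w, φ ((a, b), v, w) =
      (Fin.snoc v (θ ((a, b), w)).1, (θ ((a, b), w)).2) := fun a b v w => rfl
  refine ⟨φ, fun ⟨⟨a, b⟩, v, w⟩ => ?_⟩
  rw [hφ, hypExt_apply, model_apply, model_apply, Fin.sum_univ_castSucc]
  simp only [Fin.snoc_castSucc, Fin.snoc_last]
  linear_combination hθ ((a, b), w)

theorem absorb2 {R : QuadraticForm F W} (k : ℕ) (h2 : (2 : F) ≠ 0) {a b : F}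
    (hab : a ^ 2 + b ^ 2 = -1) :
    Isom (hypExt (hypExt (model k R))) (model (k + 1 + 1) R) := by
  let θ : ((F × F) × ((F × F) × W)) ≃ₗ[F] ((Fin 2 → F) × ((Fin 2 → F) × W)) :=
    { toFun := fun p => (![(p.1.1 + p.1.2) / 2, (p.2.1.1 + p.2.1.2) / 2],
        (![-(a * ((p.1.1 - p.1.2) / 2) - b * ((p.2.1.1 - p.2.1.2) / 2)),
          -(b * ((p.1.1 - p.1.2) / 2) + a * ((p.2.1.1 - p.2.1.2) / 2))], p.2.2))
      invFun := fun p => ((p.1 0 + (a * p.2.1 0 + b * p.2.1 1), p.1 0 - (a * p.2.1 0 + b * p.2.1 1)),
        ((p.1 1 + (-(b * p.2.1 0) + a * p.2.1 1), p.1 1 - (-(b * p.2.1 0) + a * p.2.1 1)), p.2.2))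
      map_add' := fun p p' => by
        refine Prod.ext (funext fun i => ?_) (Prod.ext (funext fun i => ?_) rfl) <;>
          fin_cases i <;> simp <;> field_simp <;> ring
      map_smul' := fun c p => by
        refine Prod.ext (funext fun i => ?_) (Prod.ext (funext fun i => ?_) rfl) <;>
          fin_cases i <;> simp <;> field_simp <;> ring
      left_inv := fun p => by
        refine Prod.ext (Prod.ext ?_ ?_) (Prod.ext (Prod.ext ?_ ?_) rfl) <;> simp <;> field_simp
        · linear_combination -(p.1.1 - p.1.2) * hab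
        · linear_combination (p.1.1 - p.1.2) * hab
        · linear_combination -(p.2.1.1 - p.2.1.2) * hab
        · linear_combination (p.2.1.1 - p.2.1.2) * hab
      right_inv := fun p => by
        refine Prod.ext (funext fun i => ?_) (Prod.ext (funext fun i => ?_) rfl) <;>
          fin_cases i <;> simp <;> field_simp
        · ring
        · ring
        · linear_combination -2 * (p.2.1 0) * hab
        · linear_combination -2 * (p.2.1 1) * hab }
  let φ : ((F × F) × ((F × F) × ((Fin k → Fin 2 → F) × W))) ≃ₗ[F]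
      ((Fin (k + 1 + 1) → Fin 2 → F) × W) :=
    { toFun := fun p => (Fin.snoc (Fin.snoc p.2.2.1 (θ (p.1, p.2.1, p.2.2.2)).1)
          (θ (p.1, p.2.1, p.2.2.2)).2.1, p.2.2.2)
      invFun := fun g =>
        let r := θ.symm (g.1 (Fin.last k).castSucc, g.1 (Fin.last (k + 1)), g.2)
        (r.1, r.2.1, fun i => g.1 i.castSucc.castSucc, g.2)
      map_add' := fun p p' => by
        have e : θ (p.1 + p'.1, p.2.1 + p'.2.1, p.2.2.2 + p'.2.2.2) =
            θ (p.1, p.2.1, p.2.2.2) + θ (p'.1, p'.2.1, p'.2.2.2) := θ.map_add (_, _, _) (_, _, _)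
        simp only [Prod.fst_add, Prod.snd_add, e]
        refine Prod.ext (funext fun i => ?_) rfl
        refine Fin.lastCases ?_ (fun i => ?_) i
        · simp
        · refine Fin.lastCases ?_ (fun i => ?_) i <;> simp
      map_smul' := fun c p => by
        have e : θ (c • p.1, c • p.2.1, c • p.2.2.2) = c • θ (p.1, p.2.1, p.2.2.2) :=
          θ.map_smul c (_, _, _)
        simp only [Prod.smul_fst, Prod.smul_snd, e, RingHom.id_apply]
        refine Prod.ext (funext fun i => ?_) rfl
        refine Fin.lastCases ?_ (fun i => ?_) i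
        · simp
        · refine Fin.lastCases ?_ (fun i => ?_) i <;> simp
      left_inv := fun p => by
        have e := θ.symm_apply_apply (p.1, p.2.1, p.2.2.2)
        have h3 : (θ (p.1, p.2.1, p.2.2.2)).2.2 = p.2.2.2 := rfl
        simp only [Fin.snoc_castSucc, Fin.snoc_last]
        have hp : ((θ (p.1, p.2.1, p.2.2.2)).1, (θ (p.1, p.2.1, p.2.2.2)).2.1, p.2.2.2) =
            θ (p.1, p.2.1, p.2.2.2) := rfl
        rw [hp, e]
      right_inv := fun g => by
        refine Prod.ext (funext fun i => ?_) rfl
        simp only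
        have e := θ.apply_symm_apply (g.1 (Fin.last k).castSucc, g.1 (Fin.last (k + 1)), g.2)
        have h3 : (θ.symm (g.1 (Fin.last k).castSucc, g.1 (Fin.last (k + 1)), g.2)).2.2 = g.2 := rfl
        have hp : ((θ.symm (g.1 (Fin.last k).castSucc, g.1 (Fin.last (k + 1)), g.2)).1,
            (θ.symm (g.1 (Fin.last k).castSucc, g.1 (Fin.last (k + 1)), g.2)).2.1, g.2) =
            θ.symm (g.1 (Fin.last k).castSucc, g.1 (Fin.last (k + 1)), g.2) := Prod.ext rfl (Prod.ext rfl h3.symm)
        rw [hp, e]
        refine Fin.lastCases ?_ (fun i => ?_) i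
        · simp
        · refine Fin.lastCases ?_ (fun i => ?_) i <;> simp }
  refine ⟨φ, fun ⟨⟨x, y⟩, ⟨x', y'⟩, v, w⟩ => ?_⟩
  show model (k + 1 + 1) R (Fin.snoc (Fin.snoc v (θ ((x, y), (x', y'), w)).1)
    (θ ((x, y), (x', y'), w)).2.1, w) = _
  rw [hypExt_apply, hypExt_apply, model_apply, model_apply, Fin.sum_univ_castSucc,
    Fin.sum_univ_castSucc]
  simp only [Fin.snoc_castSucc, Fin.snoc_last, θ, LinearEquiv.coe_mk, LinearMap.coe_mk,
    AddHom.coe_mk, qN_apply, Matrix.cons_val_zero, Matrix.cons_val_one]
  field_simp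
  linear_combination (((x - y) ^ 2) + ((x' - y') ^ 2)) * hab

/-- The hyperbolic plane as the plane `x² + y²`. -/
theorem theta_one (h2 : (2 : F) ≠ 0) {i : F} (hi : i * i = -1) :
    ∃ θ : ((F × F) × W) ≃ₗ[F] ((Fin 2 → F) × W), ∀ p : (F × F) × W,
      (θ p).2 = p.2 ∧ qN F (θ p).1 = p.1.1 * p.1.2 := by
  have hi0 : i ≠ 0 := fun e => by simp [e] at hi
  refine ⟨{ toFun := fun p => (![(p.1.1 + p.1.2) / 2, (p.1.1 - p.1.2) / (2 * i)], p.2)
            invFun := fun p => ((p.1 0 + i * p.1 1, p.1 0 - i * p.1 1), p.2)
            map_add' := fun p p' => by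
              refine Prod.ext (funext fun j => ?_) rfl
              fin_cases j <;> simp <;> field_simp <;> ring
            map_smul' := fun c p => by
              refine Prod.ext (funext fun j => ?_) rfl
              fin_cases j <;> simp <;> field_simp
            left_inv := fun p => by
              refine Prod.ext (Prod.ext ?_ ?_) rfl <;> simp <;> field_simp <;> ring
            right_inv := fun p => by
              refine Prod.ext (funext fun j => ?_) rfl
              fin_cases j <;> simp <;> field_simp <;> ring }, fun p => ⟨rfl, ?_⟩⟩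
  simp [qN_apply]
  field_simp
  linear_combination (p.1.1 + p.1.2) ^ 2 * hi - 4 * p.1.1 * p.1.2 * hi

variable [Fintype F]

/-- `-x²`. -/
noncomputable def negSq (F : Type*) [Field F] : QuadraticForm F (Unit → F) := (-1 : F) • qfSq F

theorem step_sq (k : ℕ) (h2 : (2 : F) ≠ 0) :
    Isom (hypExt (model k (qfSq F))) (model (k + 1) (negSq F)) :=
  absorb k
    { toFun := fun p => (![p.2 (), (p.1.1 + p.1.2) / 2], fun _ => (p.1.1 - p.1.2) / 2)
      invFun := fun p => ((p.1 1 + p.2 (), p.1 1 - p.2 ()), fun _ => p.1 0)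
      map_add' := fun p p' => by
        refine Prod.ext (funext fun j => ?_) (funext fun _ => ?_)
        · fin_cases j <;> simp <;> field_simp <;> ring
        · simp; field_simp; ring
      map_smul' := fun c p => by
        refine Prod.ext (funext fun j => ?_) (funext fun _ => ?_)
        · fin_cases j <;> simp <;> field_simp
        · simp; field_simp
      left_inv := fun p => by
        refine Prod.ext (Prod.ext ?_ ?_) (funext fun _ => rfl) <;> simp <;> field_simp <;> ring
      right_inv := fun p => by
        refine Prod.ext (funext fun j => ?_) (funext fun _ => ?_)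
        · fin_cases j <;> simp <;> field_simp <;> ring
        · simp; field_simp; ring }
    (fun p => by simp [qN_apply, negSq, qfSq_apply]; field_simp; ring)

theorem step_bin (k : ℕ) (h2 : (2 : F) ≠ 0) {a b s : F} (hs : s * s = b - a ^ 2 / 4) (hs0 : s ≠ 0) :
    Isom (hypExt (model k (qfBin a b))) (model (k + 1) (withBase 1 (qfNil F))) :=
  absorb k
    { toFun := fun p => (![p.2 0 + a / 2 * p.2 1, s * p.2 1],
        (Sum.elim (fun _ => p.1.1) (fun _ => p.1.2), (0 : Fin 0 → F)))
      invFun := fun p => ((p.2.1 (Sum.inl 0), p.2.1 (Sum.inr 0)),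
        ![p.1 0 - a / 2 * (p.1 1 / s), p.1 1 / s])
      map_add' := fun p p' => by
        refine Prod.ext (funext fun j => ?_) (Prod.ext (funext fun j => ?_) (Subsingleton.elim _ _))
        · fin_cases j <;> simp <;> ring
        · rcases j with j | j <;> simp
      map_smul' := fun c p => by
        refine Prod.ext (funext fun j => ?_) (Prod.ext (funext fun j => ?_) (Subsingleton.elim _ _))
        · fin_cases j <;> simp <;> ring
        · rcases j with j | j <;> simp
      left_inv := fun p => by
        refine Prod.ext (by simp) (funext fun j => ?_)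
        fin_cases j <;> simp <;> field_simp <;> ring
      right_inv := fun p => by
        refine Prod.ext (funext fun j => ?_) (Prod.ext (funext fun j => ?_) (Subsingleton.elim _ _))
        · fin_cases j <;> simp <;> field_simp <;> ring
        · rcases j with j | j <;> simp [Subsingleton.elim j 0] }
    (fun p => by
      have h4 : (4 : F) ≠ 0 := by
        rw [show (4 : F) = 2 * 2 by ring]; exact mul_ne_zero h2 h2
      field_simp at hs
      simp [qN_apply, qfBin_apply, withBase_apply, quadFormPlus, qfNil]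
      field_simp
      linear_combination (p.2 1) ^ 2 * hs)

theorem step_hyp (k : ℕ) :
    Isom (hypExt (model k (qfNil F))) (model k (withBase 1 (qfNil F))) := by
  refine ⟨{ toFun := fun p => (p.2.1, Sum.elim (fun _ => p.1.1) (fun _ => p.1.2), (0 : Fin 0 → F))
            invFun := fun p => ((p.2.1 (Sum.inl 0), p.2.1 (Sum.inr 0)), p.1, (0 : Fin 0 → F))
            map_add' := fun p p' => by
              refine Prod.ext rfl (Prod.ext (funext fun j => ?_) (Subsingleton.elim _ _))
              rcases j with j | j <;> simp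
            map_smul' := fun c p => by
              refine Prod.ext rfl (Prod.ext (funext fun j => ?_) (Subsingleton.elim _ _))
              rcases j with j | j <;> simp
            left_inv := fun p => Prod.ext (by simp) (Prod.ext rfl (Subsingleton.elim _ _))
            right_inv := fun p => by
              refine Prod.ext rfl (Prod.ext (funext fun j => ?_) (Subsingleton.elim _ _))
              rcases j with j | j <;> simp [Subsingleton.elim j 0] }, fun ⟨⟨a, b⟩, v, w⟩ => ?_⟩
  simp [hypExt_apply, model_apply, withBase_apply, quadFormPlus, qfNil]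
  ring

variable {U : Type*} [AddCommGroup U] [Module F U]

theorem model_zero (R : QuadraticForm F U) : Isom (withBase 0 R) (model 0 R) := by
  refine ⟨{ toFun := fun p => (0, p.2)
            invFun := fun p => (0, p.2)
            map_add' := fun p p' => Prod.ext (Subsingleton.elim _ _) rfl
            map_smul' := fun c p => Prod.ext (Subsingleton.elim _ _) rfl
            left_inv := fun p => Prod.ext (Subsingleton.elim _ _) rfl
            right_inv := fun p => Prod.ext (Subsingleton.elim _ _) rfl }, fun ⟨v, x⟩ => ?_⟩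
  simp [model_apply, withBase_apply, quadFormPlus]

/-- An even number of hyperbolic planes is a sum of planes `x² + y²`. -/
theorem model_even (h2 : (2 : F) ≠ 0) (R : QuadraticForm F U) (j : ℕ) :
    Isom (withBase (2 * j) R) (model (2 * j) R) := by
  induction j with
  | zero => exact model_zero R
  | succ j ih =>
    obtain ⟨a, b, hab⟩ := FiniteFormClass.exists_sq_add h2 one_ne_zero one_ne_zero (-1 : F)
    exact (((isom_split (2 * j + 1) R).symm.trans (isom_split (2 * j) R).symm.hyp).trans
      ih.hyp.hyp).trans (absorb2 (2 * j) h2 (by simpa using hab))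

/-- With `-1` a square every hyperbolic plane is a plane `x² + y²`. -/
theorem model_square (h2 : (2 : F) ≠ 0) {i : F} (hi : i * i = -1) (R : QuadraticForm F U) (m : ℕ) :
    Isom (withBase m R) (model m R) := by
  induction m with
  | zero => exact model_zero R
  | succ m ih =>
    obtain ⟨θ, hθ⟩ := theta_one (W := U) h2 hi
    exact (isom_split m R).symm.trans (ih.hyp.trans (absorb m θ fun p => by
      rw [(hθ p).1, (hθ p).2]))

/-! ### Orders -/

theorem odd_card (h2 : (2 : F) ≠ 0) : Odd (Fintype.card F) := Nat.odd_iff.2 (card_mod_two h2)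

theorem nonsquare_neg_one (h3 : Fintype.card F % 4 = 3) : ¬ IsSquare (-1 : F) := fun e =>
  FiniteField.isSquare_neg_one_iff.1 e h3

theorem card_hyp : Nat.card (orth (withBase 1 (qfNil F))) = 2 * (Fintype.card F - 1) := by
  have h := card_isometryGroup_plus (F := F) rfl 0
  rw [OrthUnitaryQuad.card_isometryGroup _ _ (eqPlus 1) (eqPlus_isometry 1)] at h
  simpa using h

theorem fact_mul_two (h2 : (2 : F) ≠ 0) (x : ℕ) (hx : x ≠ 0) :
    (2 * x).factorization 2 = 1 + x.factorization 2 := by
  rw [Nat.factorization_mul two_ne_zero hx, Finsupp.add_apply,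
    Nat.Prime.factorization_self Nat.prime_two]

theorem fact_sq (h2 : (2 : F) ≠ 0) : (Fintype.card F ^ 2 - 1).factorization 2 =
    (Fintype.card F - 1).factorization 2 + (Fintype.card F + 1).factorization 2 := by
  have hq : 1 < Fintype.card F := Fintype.one_lt_card
  rw [show Fintype.card F ^ 2 - 1 = (Fintype.card F - 1) * (Fintype.card F + 1) by
    rw [mul_comm, ← Nat.sq_sub_sq, one_pow], Nat.factorization_mul (by omega) (by omega),
    Finsupp.add_apply]

theorem fact_half {x : ℕ} (hx : x % 4 = 2) : x.factorization 2 = 1 := by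
  obtain ⟨y, rfl⟩ : ∃ y, x = 2 * y := ⟨x / 2, by omega⟩
  rw [Nat.factorization_mul two_ne_zero (by omega), Finsupp.add_apply,
    Nat.Prime.factorization_self Nat.prime_two, Nat.factorization_eq_zero_of_not_dvd (by omega)]

theorem isAniso_zero_one (h3 : Fintype.card F % 4 = 3) : IsAniso (0 : F) 1 := by
  intro z₁ z₂ h
  by_cases hz : z₂ = 0
  · subst hz
    exact ⟨by simpa using h, rfl⟩
  · refine absurd ⟨z₁ / z₂, ?_⟩ (nonsquare_neg_one h3)
    field_simp
    linear_combination -h

/-- The 2-part of the order of the isometry group of a plane `x² + y²`. -/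
theorem fact_qN (h2 : (2 : F) ≠ 0) :
    (Nat.card (orth (qN F))).factorization 2 = (Fintype.card F ^ 2 - 1).factorization 2 := by
  have hq : 1 < Fintype.card F := Fintype.one_lt_card
  have hodd := card_mod_two (F := F) h2
  rw [fact_sq h2]
  by_cases h3 : Fintype.card F % 4 = 3
  · have e : Nat.card (orth (qN F)) = Nat.card (orth (qfBin (0 : F) 1)) :=
      Isom.card ⟨LinearEquiv.refl F _, fun x => by simp [qfBin_apply, qN_apply]; ring⟩
    rw [e, card_orth_qfBin (isAniso_zero_one h3), fact_mul_two h2 _ (by omega),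
      fact_half (x := Fintype.card F - 1) (by omega)]
  · obtain ⟨i, hi⟩ := FiniteField.isSquare_neg_one_iff.2 h3
    obtain ⟨θ, hθ⟩ := theta_one (W := Fin 0 → F) h2 hi.symm
    have e : Nat.card (orth (qN F)) = Nat.card (orth (withBase 1 (qfNil F))) := by
      refine Isom.card ⟨(LinearEquiv.prodUnique : ((Fin 2 → F) × (Fin 0 → F)) ≃ₗ[F] (Fin 2 → F)).symm
        |>.trans (θ.symm.trans ((LinearEquiv.refl F (F × F)).prodCongr
          (OrthUnitaryStd.dropZero (F := F) (W := Fin 0 → F)).symm |>.trans (splitEquiv 0))), fun x => ?_⟩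
      simp only [LinearEquiv.trans_apply]
      rw [splitEquiv_isometry]
      set r := θ.symm ((LinearEquiv.prodUnique : ((Fin 2 → F) × (Fin 0 → F)) ≃ₗ[F] (Fin 2 → F)).symm x)
      have hx : x = (θ r).1 := by
        rw [LinearEquiv.apply_symm_apply]; rfl
      obtain ⟨⟨r₁, r₂⟩, r₃⟩ := r
      rw [hx, (hθ _).2]
      have hz : (OrthUnitaryStd.dropZero (F := F) (W := Fin 0 → F)).symm r₃ = 0 := Subsingleton.elim _ _
      simp [hypExt_apply, hz]
    rw [e, card_hyp, fact_mul_two h2 _ (by omega), fact_half (x := Fintype.card F + 1) (by omega)]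
    omega

/-! ### The statements -/

section Transfer

variable {ι : Type} [Fintype ι] [DecidableEq ι]

theorem good_of_model {W : Type*} [AddCommGroup W] [Module F W] [FiniteDimensional F W] [Finite W]
    {U : Type*} [AddCommGroup U] [Module F U] {Q : QuadraticForm F U} {R : QuadraticForm F W}
    (h2 : (2 : F) ≠ 0) (hR : (polarBilin R).Nondegenerate) (hW : finrank F W ≤ 2) {k : ℕ}
    (hk : 2 ≤ k) (f : (ι → F) → F) (e : U ≃ₗ[F] (ι → F)) (he : ∀ x, f (e x) = Q x)
    (hiso : Isom Q (model k R))
    (hcard : (Nat.card (isometryGroup F f)).factorization 2 ≤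
      k * (Fintype.card F ^ 2 - 1).factorization 2 + k.factorial.factorization 2
        + (Nat.card (orth R)).factorization 2)
    (P : Sylow 2 (Omega F f)) : ∀ x : (P : Subgroup (Omega F f)),
      x ^ 2 ∈ commutator (P : Subgroup (Omega F f)) := by
  have : Fact (Nat.Prime 2) := ⟨Nat.prime_two⟩
  obtain ⟨g, hg⟩ := hiso
  have he' : ∀ x, f ((g.symm.trans e) x) = model k R x := fun x => by
    rw [LinearEquiv.trans_apply, he, ← hg, g.apply_symm_apply]
  haveI := finite_orth (model k R)
  rw [Nat.card_congr (OrthUnitaryStd.stdIso (model k R) f _ he').toEquiv, ← fact_qN h2] at hcard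
  set ψ := OrthUnitaryStd.omegaEquiv (model k R) f _ he'
  obtain ⟨S⟩ : Nonempty (Sylow 2 (commutator (orth (model k R)))) := inferInstance
  have hS := model_good h2 hR hW hk hcard S
  have hsurj : Function.Surjective ψ.symm.toMonoidHom := ψ.symm.surjective
  let S' : Sylow 2 (Omega F f) := S.mapSurjective hsurj
  have eq : (S : Subgroup (commutator (orth (model k R)))) ≃* (S' : Subgroup (Omega F f)) :=
    ((S : Subgroup (commutator (orth (model k R)))).equivMapOfInjective _ ψ.symm.injective).trans
      (MulEquiv.subgroupCongr (Sylow.coe_mapSurjective hsurj S).symm)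
  exact S4623.good_of_mulEquiv (eq.trans (Sylow.equiv S' P)) hS

end Transfer

theorem nd_nil : (polarBilin (qfNil F)).Nondegenerate := OrthUnitaryStd.nondegenerate_qfNil

theorem nd_negSq (h2 : (2 : F) ≠ 0) : (polarBilin (negSq F)).Nondegenerate := by
  refine OrthUnitaryStd.nondegenerate_iff_left _ fun x hx => funext fun u => ?_
  have h := hx fun _ => 1
  simp [polar, negSq, qfSq_apply] at h
  have h' : (2 : F) * x () = 0 := by linear_combination -h
  exact (mul_eq_zero.1 h').resolve_left h2

theorem card_negSq (h2 : (2 : F) ≠ 0) : (Nat.card (orth (negSq F))).factorization 2 = 1 := by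
  have e : orth (negSq F) = orth (qfSq F) := by
    ext g
    simp [mem_orth, negSq]
  rw [e, card_orth_qfSq h2, Nat.Prime.factorization_self Nat.prime_two]

theorem fact_odd_mul {m : ℕ} {q : ℕ} (hq : 1 < q) (ho : Odd q) (e x : ℕ) (hx : x ≠ 0) :
    (2 * q ^ e * x * ∏ i ∈ Finset.range m, (q ^ (2 * (i + 1)) - 1)).factorization 2 =
      1 + x.factorization 2 + (m * (q ^ 2 - 1).factorization 2 + m.factorial.factorization 2) := by
  rw [Nat.factorization_mul (mul_ne_zero (mul_ne_zero two_ne_zero (pow_ne_zero _ (by omega))) hx)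
      (Finset.prod_ne_zero_iff.2 fun i _ => Nat.sub_ne_zero_of_lt (Nat.one_lt_pow (by omega) hq)),
    Nat.factorization_mul (mul_ne_zero two_ne_zero (pow_ne_zero _ (by omega))) hx,
    Nat.factorization_mul two_ne_zero (pow_ne_zero _ (by omega)), Finsupp.add_apply,
    Finsupp.add_apply, Finsupp.add_apply, Nat.Prime.factorization_self Nat.prime_two,
    Nat.factorization_eq_zero_of_not_dvd (Nat.two_dvd_ne_zero.2 (Nat.odd_iff.1 ho.pow)),
    WreathTwo85.fact_prod_even hq ho m]

theorem odd_good (hodd : Odd (Fintype.card F)) {m : ℕ} (hm : 2 ≤ m)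
    (P : Sylow 2 (Omega F (quadFormOdd m F))) : ∀ x : (P : Subgroup (Omega F (quadFormOdd m F))),
      x ^ 2 ∈ commutator (P : Subgroup (Omega F (quadFormOdd m F))) := by
  have h2 : (2 : F) ≠ 0 := two_ne_zero_of_odd rfl hodd
  have hq : 1 < Fintype.card F := Fintype.one_lt_card
  have hc : (Nat.card (isometryGroup F (quadFormOdd m F))).factorization 2 =
      1 + m * (Fintype.card F ^ 2 - 1).factorization 2 + m.factorial.factorization 2 := by
    rw [card_isometryGroup_odd rfl hodd]
    have := fact_odd_mul (m := m) hq hodd (m ^ 2) 1 one_ne_zero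
    rw [mul_one] at this
    rw [this]; simp; ring
  rcases Nat.even_or_odd' m with ⟨j, rfl | rfl⟩
  · refine good_of_model h2 (OrthUnitaryStd.nondegenerate_qfSq h2) (by simp) hm _ (eqOdd _)
      (eqOdd_isometry _) (model_even h2 (qfSq F) j) ?_ P
    rw [hc, card_orth_qfSq h2, Nat.Prime.factorization_self Nat.prime_two]; omega
  · refine good_of_model h2 (nd_negSq h2) (by simp) hm _ (eqOdd _) (eqOdd_isometry _)
      ((isom_split _ _).symm.trans ((model_even h2 (qfSq F) j).hyp.trans (step_sq _ h2))) ?_ P
    rw [hc, card_negSq h2]; omega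

theorem plus_good (hodd : Odd (Fintype.card F)) {m : ℕ} (hm : 1 ≤ m) (hm' : Even m ∨ 4 ≤ m)
    (P : Sylow 2 (Omega F (quadFormPlus m F))) : ∀ x : (P : Subgroup (Omega F (quadFormPlus m F))),
      x ^ 2 ∈ commutator (P : Subgroup (Omega F (quadFormPlus m F))) := by
  have h2 : (2 : F) ≠ 0 := two_ne_zero_of_odd rfl hodd
  have hq : 1 < Fintype.card F := Fintype.one_lt_card
  obtain ⟨n, rfl⟩ : ∃ n, m = n + 1 := ⟨m - 1, by omega⟩
  have hm2 : 2 ≤ n + 1 := by
    rcases hm' with ⟨r, hr⟩ | h <;> omega
  have hc : (Nat.card (isometryGroup F (quadFormPlus (n + 1) F))).factorization 2 =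
      1 + (Fintype.card F ^ (n + 1) - 1).factorization 2 +
        (n * (Fintype.card F ^ 2 - 1).factorization 2 + n.factorial.factorization 2) := by
    rw [card_isometryGroup_plus rfl]
    exact fact_odd_mul hq hodd _ _ (Nat.sub_ne_zero_of_lt (Nat.one_lt_pow (by omega) hq))
  have hfac : (n + 1).factorial.factorization 2 = (n + 1).factorization 2 + n.factorial.factorization 2 := by
    rw [Nat.factorial_succ, Nat.factorization_mul (by omega) n.factorial_ne_zero, Finsupp.add_apply]
  have hnil : (Nat.card (orth (qfNil F))).factorization 2 = 0 := by simp [card_orth_qfNil]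
  have hs := fact_sq (F := F) h2
  rcases Nat.even_or_odd' (n + 1) with ⟨j, hj | hj⟩
  · refine good_of_model h2 nd_nil (by simp) hm2 _ (eqPlus _) (eqPlus_isometry _)
      (by rw [hj]; exact model_even h2 (qfNil F) j) ?_ P
    rw [hc, hnil, hfac, hj, WreathTwo85.fact_two_sub hq hodd (i := j) (by omega),
      fact_mul_two h2 j (by omega)]
    obtain rfl : n = 2 * j - 1 := by omega
    have : 2 * j * (Fintype.card F ^ 2 - 1).factorization 2 =
        (2 * j - 1) * (Fintype.card F ^ 2 - 1).factorization 2 + (Fintype.card F ^ 2 - 1).factorization 2 := by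
      rw [← Nat.succ_mul]; congr 1; omega
    omega
  · have hn : n = 2 * j := by omega
    subst hn
    have hfn : (2 * j + 1).factorization 2 = 0 := Nat.factorization_eq_zero_of_not_dvd (by omega)
    by_cases h3 : Fintype.card F % 4 = 3
    · refine good_of_model (k := 2 * j) h2 (OrthUnitaryStd.nondegenerate_withBase nd_nil 1)
        (by simp) (by rcases hm' with ⟨r, hr⟩ | h <;> omega) _ (eqPlus _) (eqPlus_isometry _)
        ((isom_split _ _).symm.trans ((model_even h2 (qfNil F) j).hyp.trans (step_hyp _))) ?_ P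
      rw [hc, card_hyp, fact_mul_two h2 _ (by omega), WreathTwo85.fact_odd_sub hq hodd]
      omega
    · obtain ⟨i, hi⟩ := FiniteField.isSquare_neg_one_iff.2 h3
      refine good_of_model h2 nd_nil (by simp) hm2 _ (eqPlus _) (eqPlus_isometry _)
        (model_square h2 hi.symm (qfNil F) (2 * j + 1)) ?_ P
      have h1 := fact_half (x := Fintype.card F + 1) (by have := card_mod_two (F := F) h2; omega)
      rw [hc, hnil, WreathTwo85.fact_odd_sub hq hodd, hfac, hfn, add_mul, one_mul]
      omega

theorem minus_good (hodd : Odd (Fintype.card F)) {m : ℕ} (hm : 2 ≤ m) {a b : F} (hab : IsAniso a b)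
    (P : Sylow 2 (Omega F (quadFormMinus m F a b))) :
    ∀ x : (P : Subgroup (Omega F (quadFormMinus m F a b))),
      x ^ 2 ∈ commutator (P : Subgroup (Omega F (quadFormMinus m F a b))) := by
  have h2 : (2 : F) ≠ 0 := two_ne_zero_of_odd rfl hodd
  have hq : 1 < Fintype.card F := Fintype.one_lt_card
  have hmod := card_mod_two (F := F) h2
  have hc : (Nat.card (isometryGroup F (quadFormMinus m F a b))).factorization 2 =
      1 + (Fintype.card F ^ (m + 1) + 1).factorization 2 +
        (m * (Fintype.card F ^ 2 - 1).factorization 2 + m.factorial.factorization 2) := by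
    rw [card_isometryGroup_minus rfl hab]
    exact fact_odd_mul hq hodd _ _ (by omega)
  have hs := fact_sq (F := F) h2
  have hbin : (Nat.card (orth (qfBin a b))).factorization 2 =
      1 + (Fintype.card F + 1).factorization 2 := by
    rw [card_orth_qfBin hab, fact_mul_two h2 _ (by omega)]
  -- the 2-part of `q^(m+1) + 1`
  have hev : ∀ r, (Fintype.card F ^ (2 * r) + 1).factorization 2 = 1 := fun r => by
    refine fact_half ?_
    have e : Fintype.card F ^ 2 % 4 = 1 := by
      rw [Nat.pow_mod]; rcases (show Fintype.card F % 4 = 1 ∨ Fintype.card F % 4 = 3 by omega) with h | h <;> rw [h] <;> rfl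
    rw [pow_mul, Nat.add_mod, Nat.pow_mod, e, one_pow]; rfl
  have hod : ∀ r, (Fintype.card F ^ (2 * r + 1) + 1).factorization 2 =
      (Fintype.card F + 1).factorization 2 := fun r => by
    have h1 := WreathTwo85.fact_two_sub hq hodd (i := 2 * r + 1) (by omega)
    have h3 := WreathTwo85.fact_odd_sub hq hodd r
    have h0 : (2 * r + 1).factorization 2 = 0 := Nat.factorization_eq_zero_of_not_dvd (by omega)
    have e : Fintype.card F ^ (2 * (2 * r + 1)) - 1 =
        (Fintype.card F ^ (2 * r + 1) - 1) * (Fintype.card F ^ (2 * r + 1) + 1) := by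
      rw [mul_comm (Fintype.card F ^ (2 * r + 1) - 1), ← Nat.sq_sub_sq, one_pow, ← pow_mul,
        mul_comm (2 * r + 1) 2]
    rw [e, Nat.factorization_mul (Nat.sub_ne_zero_of_lt (Nat.one_lt_pow (by omega) hq)) (by omega),
      Finsupp.add_apply, h3, h0] at h1
    omega
  by_cases h3 : Fintype.card F % 4 = 3
  · rcases Nat.even_or_odd' m with ⟨j, rfl | rfl⟩
    · refine good_of_model h2 (OrthUnitaryStd.nondegenerate_qfBin hab) (by simp) hm _ (eqMinus _)
        (eqMinus_isometry _ a b) (model_even h2 (qfBin a b) j) ?_ P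
      rw [hc, hbin, hod j]; omega
    · have hD : IsSquare (b - a ^ 2 / 4) := by
        have hdn : ¬ IsSquare (a ^ 2 / 4 - b) := by
          rintro ⟨r, hr⟩
          refine one_ne_zero (hab (-(a / 2) + r) 1 ?_).2
          have h4 : (4 : F) ≠ 0 := by
            rw [show (4 : F) = 2 * 2 by ring]; exact mul_ne_zero h2 h2
          field_simp at hr ⊢
          linear_combination -hr
        have e := isSquare_div_of_not (nonsquare_neg_one h3) hdn
        rwa [div_neg, div_one, neg_sub] at e
      obtain ⟨s, hs⟩ := hD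
      have hs0 : s ≠ 0 := by
        rintro rfl
        refine one_ne_zero (hab (-(a / 2)) 1 ?_).2
        have h4 : (4 : F) ≠ 0 := by
          rw [show (4 : F) = 2 * 2 by ring]; exact mul_ne_zero h2 h2
        field_simp at hs ⊢
        linear_combination hs
      refine good_of_model h2 (OrthUnitaryStd.nondegenerate_withBase nd_nil 1) (by simp) hm _
        (eqMinus _) (eqMinus_isometry _ a b)
        ((isom_split _ _).symm.trans ((model_even h2 (qfBin a b) j).hyp.trans
          (step_bin _ h2 hs.symm hs0))) ?_ P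
      rw [hc, show 2 * j + 1 + 1 = 2 * (j + 1) by ring, hev (j + 1), card_hyp,
        fact_mul_two h2 _ (by omega), fact_half (x := Fintype.card F - 1) (by omega)]
      omega
  · obtain ⟨i, hi⟩ := FiniteField.isSquare_neg_one_iff.2 h3
    refine good_of_model h2 (OrthUnitaryStd.nondegenerate_qfBin hab) (by simp) hm _ (eqMinus _)
      (eqMinus_isometry _ a b) (model_square h2 hi.symm (qfBin a b) m) ?_ P
    have h1 := fact_half (x := Fintype.card F + 1) (by omega)
    rw [hc, hbin]
    rcases Nat.even_or_odd' m with ⟨j, rfl | rfl⟩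
    · rw [hod j]; omega
    · rw [show 2 * j + 1 + 1 = 2 * (j + 1) by ring, hev (j + 1)]; omega

end Cfsg.Agent.OrthUnitarySylowTwoStd
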