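import Mathlib
import Cfsg.Prelude.Def_GeometricClasses
import Cfsg.Agent.Lib.TransvectionMax

/-!
Maximality of stabilisers of tensor decompositions `V₁ ⊗ V₂`, the common part: root elements `1 ⊗ (1 + b ψ)`, the
rulers `V₁ ⊗ c`, and the descent showing that a group in which ruler stabilisers lie in the tensor stabiliser is
itself contained in it.
-/

set_option autoImplicit false
set_option linter.unusedSectionVars false

namespace Cfsg.Agent.TensorMax

open scoped Matrix MatrixGroups Kronecker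
open Cfsg.Agent.TransvectionMax

variable {F : Type*} [Field F] {k l : ℕ}

/-- The Kronecker product of invertible matrices. -/
def kr (a : GL (Fin k) F) (b : GL (Fin l) F) : GL (Fin k × Fin l) F :=
  ⟨(a : Matrix (Fin k) (Fin k) F) ⊗ₖ (b : Matrix (Fin l) (Fin l) F),
    ((a⁻¹ : GL (Fin k) F) : Matrix (Fin k) (Fin k) F) ⊗ₖ ((b⁻¹ : GL (Fin l) F) : Matrix (Fin l) (Fin l) F),
    by rw [← Matrix.mul_kronecker_mul, ← Units.val_mul, ← Units.val_mul, mul_inv_cancel, mul_inv_cancel,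
      Units.val_one, Units.val_one, Matrix.one_kronecker_one],
    by rw [← Matrix.mul_kronecker_mul, ← Units.val_mul, ← Units.val_mul, inv_mul_cancel, inv_mul_cancel,
      Units.val_one, Units.val_one, Matrix.one_kronecker_one]⟩

theorem kr_val (a : GL (Fin k) F) (b : GL (Fin l) F) :
    (kr a b : Matrix (Fin k × Fin l) (Fin k × Fin l) F) =
      (a : Matrix (Fin k) (Fin k) F) ⊗ₖ (b : Matrix (Fin l) (Fin l) F) := rfl

theorem kr_mem (a : GL (Fin k) F) (b : GL (Fin l) F) : kr a b ∈ Cfsg.Geo.kroneckerSubgroup k l F :=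
  ⟨a, b, rfl⟩

theorem kr_mul (a a' : GL (Fin k) F) (b b' : GL (Fin l) F) : kr a b * kr a' b' = kr (a * a') (b * b') :=
  Units.ext (by rw [Units.val_mul, kr_val, kr_val, kr_val, ← Matrix.mul_kronecker_mul, Units.val_mul, Units.val_mul])

theorem kr_one_one : kr (1 : GL (Fin k) F) (1 : GL (Fin l) F) = 1 :=
  Units.ext (by rw [kr_val, Units.val_one, Units.val_one, Matrix.one_kronecker_one, Units.val_one])

theorem kr_inv (a : GL (Fin k) F) (b : GL (Fin l) F) : (kr a b)⁻¹ = kr a⁻¹ b⁻¹ :=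
  inv_eq_of_mul_eq_one_right (by rw [kr_mul, mul_inv_cancel, mul_inv_cancel, kr_one_one])

theorem exists_kr {g : GL (Fin k × Fin l) F} (hg : g ∈ Cfsg.Geo.kroneckerSubgroup k l F) :
    ∃ a b, g = kr a b := by
  obtain ⟨a, b, h⟩ := hg
  exact ⟨a, b, Units.ext h⟩

theorem kr_det (a : GL (Fin k) F) (b : GL (Fin l) F) :
    (kr a b : Matrix (Fin k × Fin l) (Fin k × Fin l) F).det =
      (a : Matrix (Fin k) (Fin k) F).det ^ l * (b : Matrix (Fin l) (Fin l) F).det ^ k := by
  rw [kr_val, Matrix.det_kronecker, Fintype.card_fin, Fintype.card_fin]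

/-- The pure tensor. -/
def tp (v : Fin k → F) (c : Fin l → F) : Fin k × Fin l → F := fun p => v p.1 * c p.2

theorem kr_tp (a : GL (Fin k) F) (b : GL (Fin l) F) (v : Fin k → F) (c : Fin l → F) :
    (kr a b : Matrix (Fin k × Fin l) (Fin k × Fin l) F) *ᵥ tp v c =
      tp ((a : Matrix (Fin k) (Fin k) F) *ᵥ v) ((b : Matrix (Fin l) (Fin l) F) *ᵥ c) := by
  funext p
  simp only [kr_val, Matrix.mulVec, dotProduct, tp, Matrix.kroneckerMap_apply, Fintype.sum_prod_type,
    Finset.sum_mul_sum]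
  exact Finset.sum_congr rfl fun _ _ => Finset.sum_congr rfl fun _ _ => by ring

/-- `v ↦ v ⊗ c`. -/
def J (c : Fin l → F) : (Fin k → F) →ₗ[F] (Fin k × Fin l → F) where
  toFun v := tp v c
  map_add' u v := funext fun p => by simp [tp, add_mul]
  map_smul' s v := funext fun p => by simp [tp, mul_assoc]

/-- The contraction of the second factor with `ψ`. -/
def P (ψ : Fin l → F) : (Fin k × Fin l → F) →ₗ[F] (Fin k → F) where
  toFun u := fun i => ψ ⬝ᵥ fun j => u (i, j)
  map_add' u v := funext fun i => dotProduct_add ψ (fun j => u (i, j)) (fun j => v (i, j))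
  map_smul' s v := funext fun i => dotProduct_smul s ψ (fun j => v (i, j))

theorem J_apply (c : Fin l → F) (v : Fin k → F) : J c v = tp v c := rfl

theorem P_apply (ψ : Fin l → F) (u : Fin k × Fin l → F) (i : Fin k) :
    P ψ u i = ψ ⬝ᵥ fun j => u (i, j) := rfl

theorem P_tp (ψ c : Fin l → F) (v : Fin k → F) : P ψ (tp v c) = (ψ ⬝ᵥ c) • v := by
  funext i
  simp only [P_apply, tp, Pi.smul_apply, smul_eq_mul, dotProduct, Finset.sum_mul]
  exact Finset.sum_congr rfl fun j _ => by ring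

theorem J_smul (s : F) (c : Fin l → F) (v : Fin k → F) : J (s • c) v = s • J c v := by
  funext p
  simp only [J_apply, tp, Pi.smul_apply, smul_eq_mul]
  ring

theorem J_injective {c : Fin l → F} (hc : c ≠ 0) : Function.Injective (J (k := k) c) := by
  obtain ⟨j, hj⟩ := Function.ne_iff.1 hc
  intro u v h
  funext i
  exact mul_right_cancel₀ hj (congrFun h (i, j))

theorem P_surjective {ψ : Fin l → F} (hψ : ψ ≠ 0) : Function.Surjective (P (k := k) ψ) := by
  obtain ⟨j, hj⟩ := Function.ne_iff.1 hψ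
  intro v
  exact ⟨tp v (Pi.single j (ψ j)⁻¹), by rw [P_tp, dotProduct_single, mul_inv_cancel₀ hj, one_smul]⟩

/-- `g` maps the ruler at `b` into the ruler at `c`. -/
def MapsRuler (g : GL (Fin k × Fin l) F) (b c : Fin l → F) : Prop :=
  ∀ v, ∃ w, (g : Matrix (Fin k × Fin l) (Fin k × Fin l) F) *ᵥ tp v b = tp w c

/-- The root element `1 ⊗ (1 + b ψ)`. -/
noncomputable def xr (k : ℕ) {l : ℕ} (b ψ : Fin l → F) : GL (Fin k × Fin l) F := kr 1 (tv b ψ)

theorem xr_act {b ψ : Fin l → F} (h : ψ ⬝ᵥ b = 0) (u : Fin k × Fin l → F) :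
    (xr k b ψ : Matrix (Fin k × Fin l) (Fin k × Fin l) F) *ᵥ u = u + J b (P ψ u) := by
  funext p
  obtain ⟨i, j⟩ := p
  have key := congrFun (tv_act h (fun j' => u (i, j'))) j
  simp only [xr, kr_val, Units.val_one, Matrix.mulVec, dotProduct, Matrix.kroneckerMap_apply,
    Fintype.sum_prod_type, Matrix.one_apply, ite_mul, one_mul, zero_mul, Finset.sum_ite_irrel,
    Finset.sum_const_zero, Finset.sum_ite_eq, Finset.mem_univ, if_true, Pi.add_apply] at key ⊢
  rw [key]
  simp only [J_apply, tp, P_apply, Pi.smul_apply, smul_eq_mul, dotProduct]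

/-- A conjugate of a root element in the tensor stabiliser comes from a ruler mapped to a ruler. -/
theorem mapsRuler_of_conj_mem (hkl : k < l) {b ψ : Fin l → F} (hb : b ≠ 0) (hψ : ψ ≠ 0) (h : ψ ⬝ᵥ b = 0)
    (g : GL (Fin k × Fin l) F) (hy : g * xr k b ψ * g⁻¹ ∈ Cfsg.Geo.kroneckerSubgroup k l F) :
    ∃ c, MapsRuler g b c := by
  classical
  obtain ⟨α, β, hαβ⟩ := exists_kr hy
  let G := Matrix.toLin' (g : Matrix (Fin k × Fin l) (Fin k × Fin l) F)
  let Y := Matrix.toLin' (kr α β : Matrix (Fin k × Fin l) (Fin k × Fin l) F) - LinearMap.id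
  have hY : ∀ u, Y u = G (J b (P ψ (((g⁻¹ : GL (Fin k × Fin l) F) : Matrix (Fin k × Fin l) (Fin k × Fin l) F) *ᵥ u))) := fun u => by
    simp only [Y, G, LinearMap.sub_apply, Matrix.toLin'_apply, LinearMap.id_apply, ← hαβ]
    rw [mul_act, mul_act, xr_act h, Matrix.mulVec_add, act_inv_act]
    abel
  have hYrange : LinearMap.range Y ≤ LinearMap.range (G.comp (J b)) := by
    rintro _ ⟨u, rfl⟩
    exact ⟨_, (hY u).symm⟩
  have hrange : ∀ v, ∃ u, Y u = (g : Matrix (Fin k × Fin l) (Fin k × Fin l) F) *ᵥ tp v b := fun v => by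
    obtain ⟨u, hu⟩ := P_surjective hψ v
    exact ⟨(g : Matrix (Fin k × Fin l) (Fin k × Fin l) F) *ᵥ u, by rw [hY, inv_act_act, hu]; rfl⟩
  have hrk : Module.finrank F (LinearMap.range Y) ≤ k :=
    (Submodule.finrank_mono hYrange).trans ((LinearMap.finrank_range_le _).trans (by simp))
  -- the first factor is scalar
  obtain ⟨d, hd⟩ : ∃ d : F, ∀ v, (α : Matrix (Fin k) (Fin k) F) *ᵥ v = d • v := by
    by_cases hsc : ∀ v, (α : Matrix (Fin k) (Fin k) F) *ᵥ v ∈ F ∙ v
    · obtain ⟨d, hd⟩ := LinearMap.exists_eq_smul_id_of_forall_notLinearIndependent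
        (f := Matrix.toLin' (α : Matrix (Fin k) (Fin k) F)) (fun v hli => by
          obtain ⟨s, hs⟩ := Submodule.mem_span_singleton.1 (hsc v)
          rw [LinearIndependent.pair_iff] at hli
          have := (hli s (-1) (by rw [Matrix.toLin'_apply, hs, neg_one_smul, add_neg_cancel])).2
          exact one_ne_zero (neg_eq_zero.1 this))
      exact ⟨d, fun v => by simpa using LinearMap.congr_fun hd v⟩
    · exfalso
      push_neg at hsc
      obtain ⟨v, hv⟩ := hsc
      obtain ⟨θ, hθ0, hθ1⟩ : ∃ θ : (Fin k → F) →ₗ[F] F, θ v = 0 ∧ θ ((α : Matrix (Fin k) (Fin k) F) *ᵥ v) = 1 := by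
        obtain ⟨θ, hθ, hker⟩ := Submodule.exists_le_ker_of_notMem hv
        refine ⟨(θ ((α : Matrix (Fin k) (Fin k) F) *ᵥ v))⁻¹ • θ, ?_, ?_⟩
        · rw [LinearMap.smul_apply, LinearMap.mem_ker.1 (hker (Submodule.mem_span_singleton_self v)), smul_zero]
        · rw [LinearMap.smul_apply, smul_eq_mul, inv_mul_cancel₀ hθ]
      let C : (Fin k × Fin l → F) →ₗ[F] (Fin l → F) :=
        LinearMap.pi fun j => θ.comp (LinearMap.funLeft F F fun i => (i, j))
      have hC : ∀ x c, C (tp x c) = θ x • c := fun x c => by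
        funext j
        show θ (fun i => tp x c (i, j)) = _
        rw [show (fun i => tp x c (i, j)) = c j • x from funext fun i => by simp [tp, mul_comm], map_smul,
          Pi.smul_apply, smul_eq_mul, smul_eq_mul, mul_comm]
      have hsurj : (LinearMap.range Y).map C = ⊤ := by
        rw [eq_top_iff]
        intro c _
        refine ⟨_, ⟨tp v (((β⁻¹ : GL (Fin l) F) : Matrix (Fin l) (Fin l) F) *ᵥ c), rfl⟩, ?_⟩
        simp only [Y, LinearMap.sub_apply, Matrix.toLin'_apply, LinearMap.id_apply, kr_tp, map_sub, hC, hθ1, hθ0,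
          act_inv_act, zero_smul, one_smul, sub_zero]
      have := (Submodule.finrank_map_le C (LinearMap.range Y))
      rw [hsurj, finrank_top, Module.finrank_fin_fun] at this
      omega
  -- the second factor moves at most a line
  set D := Matrix.toLin' (d • (β : Matrix (Fin l) (Fin l) F)) - LinearMap.id
  have hYtp : ∀ x c, Y (tp x c) = tp x (D c) := fun x c => by
    simp only [Y, D, LinearMap.sub_apply, Matrix.toLin'_apply, LinearMap.id_apply, kr_tp, hd, Matrix.smul_mulVec]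
    funext p
    simp only [tp, Pi.sub_apply, Pi.smul_apply, smul_eq_mul]
    ring
  have hYimg : ∀ u, ∀ i, (fun j => Y u (i, j)) = D (fun j => u (i, j)) := fun u i => by
    funext j
    have hu : u = ∑ a, tp (Pi.single a 1) (fun j => u (a, j)) := by
      funext p
      simp [tp, Finset.sum_apply, Pi.single_apply]
    conv_lhs => rw [hu]
    simp [map_sum, hYtp, tp, Finset.sum_apply, Pi.single_apply]
  rcases Nat.eq_zero_or_pos k with hk | hk
  · subst hk
    exact ⟨b, fun v => ⟨v, funext fun p => p.1.elim0⟩⟩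
  by_cases hD0 : LinearMap.range D = ⊥
  · refine ⟨0, fun v => ⟨0, ?_⟩⟩
    obtain ⟨u, hu⟩ := hrange v
    rw [← hu]
    funext p
    have := congrFun (hYimg u p.1) p.2
    rw [LinearMap.range_eq_bot.1 hD0] at this
    simpa [tp] using this
  obtain ⟨_, ⟨c₀, rfl⟩, hc₀⟩ := Submodule.exists_mem_ne_zero_of_ne_bot hD0
  refine ⟨D c₀, fun v => ?_⟩
  have heq : LinearMap.range (J (k := k) (D c₀)) = LinearMap.range Y := by
    refine Submodule.eq_of_le_of_finrank_le ?_ ?_
    · rintro _ ⟨x, rfl⟩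
      exact ⟨tp x c₀, hYtp x c₀⟩
    · rw [LinearMap.finrank_range_of_inj (J_injective hc₀), Module.finrank_fin_fun]
      exact hrk
  obtain ⟨u, hu⟩ := hrange v
  obtain ⟨w, hw⟩ : Y u ∈ LinearMap.range (J (k := k) (D c₀)) := by rw [heq]; exact ⟨u, rfl⟩
  exact ⟨w, by rw [← hu, ← hw]; rfl⟩

/-- The block at `(b', ψ')` of the root element at `(b, ψ)` conjugated by `g`. -/
def blockT (g : GL (Fin k × Fin l) F) (b ψ b' ψ' : Fin l → F) : (Fin k → F) →ₗ[F] (Fin k → F) :=
  (P ψ').comp ((Matrix.toLin' (g : Matrix (Fin k × Fin l) (Fin k × Fin l) F)).comp ((J b).comp ((P ψ).comp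
    ((Matrix.toLin' ((g⁻¹ : GL (Fin k × Fin l) F) : Matrix (Fin k × Fin l) (Fin k × Fin l) F)).comp (J b')))))

/-- The descent: if ruler stabilisers in `M` lie in `H`, and roots with a small block can be chosen, then `M ≤ H`. -/
theorem le_of_pick {M H : Subgroup (GL (Fin k × Fin l) F)} (hkl : k < l) (hk : 0 < k)
    (hHk : H ≤ Cfsg.Geo.kroneckerSubgroup k l F)
    (hMk : ∀ g ∈ M, g ∈ Cfsg.Geo.kroneckerSubgroup k l F → g ∈ H)
    (Root : (Fin l → F) → (Fin l → F) → Prop)
    (hroot : ∀ b ψ, Root b ψ → b ≠ 0 ∧ ψ ≠ 0 ∧ ψ ⬝ᵥ b = 0 ∧ xr k b ψ ∈ M)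
    {b₀ ψ₀ : Fin l → F} (h₀ : Root b₀ ψ₀)
    (hF1 : ∀ g ∈ M, ∀ b ψ c, Root b ψ → MapsRuler g b c → g ∈ H)
    (pick : ∀ g ∈ M, ∀ b ψ, Root b ψ → ∀ c χ, Root c χ → ∀ A : Submodule F (Fin k → F),
      Module.finrank F A < k → (∀ v ∈ A, ∃ w, (g : Matrix (Fin k × Fin l) (Fin k × Fin l) F) *ᵥ tp w b = tp v c) →
      ∃ b' ψ', Root b' ψ' ∧
        Module.finrank F (LinearMap.range (blockT g b ψ b' ψ')) + Module.finrank F A < k) :
    M ≤ H := by
  classical
  have hback : ∀ g ∈ M, ∀ b ψ, Root b ψ → g * xr k b ψ * g⁻¹ ∈ H → g ∈ H := by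
    intro g hg b ψ hr hy
    obtain ⟨hb, hψ, h, -⟩ := hroot b ψ hr
    obtain ⟨c, hc⟩ := mapsRuler_of_conj_mem hkl hb hψ h g (hHk hy)
    exact hF1 g hg b ψ c hr hc
  have main : ∀ r, ∀ g ∈ M, ∀ b ψ b' ψ', Root b ψ → Root b' ψ' →
      Module.finrank F (LinearMap.range (blockT g b ψ b' ψ')) ≤ r →
      g ∈ H := by
    intro r
    induction r using Nat.strong_induction_on with
    | _ r ih =>
    intro g hg b ψ b' ψ' hr hr' hT
    obtain ⟨hb, hψ, h, hx⟩ := hroot b ψ hr
    obtain ⟨hb', hψ', h', hx'⟩ := hroot b' ψ' hr'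
    set G := Matrix.toLin' (g : Matrix (Fin k × Fin l) (Fin k × Fin l) F) with hG
    set y := g * xr k b ψ * g⁻¹ with hy
    have hyM : y ∈ M := M.mul_mem (M.mul_mem hg hx) (M.inv_mem hg)
    set y₁ := y * xr k b' ψ' * y⁻¹ with hy₁
    have hy₁M : y₁ ∈ M := M.mul_mem (M.mul_mem hyM hx') (M.inv_mem hyM)
    have hyinv : ∀ u, ((y⁻¹ : GL (Fin k × Fin l) F) : Matrix (Fin k × Fin l) (Fin k × Fin l) F) *ᵥ u =
        u - G (J b (P ψ (((g⁻¹ : GL (Fin k × Fin l) F) : Matrix (Fin k × Fin l) (Fin k × Fin l) F) *ᵥ u))) := by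
      intro u
      apply act_injective y
      show (y : Matrix (Fin k × Fin l) (Fin k × Fin l) F) *ᵥ _ = (y : Matrix (Fin k × Fin l) (Fin k × Fin l) F) *ᵥ _
      rw [act_inv_act, hy, mul_act, mul_act, Matrix.mulVec_sub, hG, Matrix.toLin'_apply, inv_act_act,
        xr_act h, map_sub, J_apply b (P ψ _), P_tp, h, zero_smul, sub_zero]
      simp only [J_apply, Matrix.mulVec_add, Matrix.mulVec_sub, act_inv_act]
      abel
    set T := blockT g b ψ b' ψ' with hTdef
    have hTr : Module.finrank F (LinearMap.range T) ≤ r := hT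
    set K := LinearMap.ker T
    have hfix : ∀ v ∈ K, (y₁ : Matrix (Fin k × Fin l) (Fin k × Fin l) F) *ᵥ tp v b' = tp v b' := by
      intro v hv
      have hv' : T v = 0 := hv
      rw [hy₁, mul_act, mul_act, xr_act h', hyinv, map_sub, P_tp, h', zero_smul, zero_sub]
      have e : P ψ' (G (J b (P ψ (((g⁻¹ : GL (Fin k × Fin l) F) : Matrix (Fin k × Fin l) (Fin k × Fin l) F) *ᵥ tp v b')))) = 0 := by
        rw [← hv', hTdef, blockT]
        simp [hG, Matrix.toLin'_apply, J_apply]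
      rw [e, neg_zero, map_zero, add_zero, ← hyinv, act_inv_act]
    have hK : Module.finrank F (LinearMap.range T) + Module.finrank F K = k := by
      rw [LinearMap.finrank_range_add_finrank_ker, Module.finrank_fin_fun]
    suffices hy₁H : y₁ ∈ H from hback g hg b ψ hr (hback y hyM b' ψ' hr' hy₁H)
    rcases Nat.eq_zero_or_pos r with hr0 | hr0
    · have : K = ⊤ := LinearMap.ker_eq_top.2 (LinearMap.range_eq_bot.1 (Submodule.finrank_eq_zero.1 (by omega)))
      exact hF1 y₁ hy₁M b' ψ' b' hr' fun v => ⟨v, hfix v (this ▸ Submodule.mem_top)⟩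
    obtain ⟨A, hAK, hA⟩ : ∃ A ≤ K, Module.finrank F A = k - r := by
      have : k - r ≤ Module.finrank F K := by omega
      obtain ⟨s, hs⟩ : ∃ s : Fin (k - r) → K, LinearIndependent F s := exists_linearIndependent_of_le_finrank this
      refine ⟨Submodule.span F (Set.range fun i => (s i : Fin k → F)), Submodule.span_le.2 ?_, ?_⟩
      · rintro _ ⟨i, rfl⟩
        exact (s i).2
      · rw [finrank_span_eq_card (b := fun i => (s i : Fin k → F)) (hs.map' K.subtype K.ker_subtype), Fintype.card_fin]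
    obtain ⟨b₂, ψ₂, hr₂, hlt⟩ := pick y₁ hy₁M b' ψ' hr' b' ψ' hr' A (by omega) fun v hv => ⟨v, hfix v (hAK hv)⟩
    exact ih _ (by omega) y₁ hy₁M b' ψ' b₂ ψ₂ hr' hr₂ le_rfl
  intro g hg
  obtain ⟨b', ψ', hr', hlt⟩ := pick g hg b₀ ψ₀ h₀ b₀ ψ₀ h₀ ⊥ (by rw [finrank_bot]; exact hk) (fun v hv => by
    rw [Submodule.mem_bot] at hv
    exact ⟨0, by subst hv; simp [show tp (0 : Fin k → F) b₀ = 0 from funext fun p => by simp [tp]]⟩)
  exact main _ g hg b₀ ψ₀ b' ψ' h₀ hr' le_rfl

end Cfsg.Agent.TensorMax
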