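import Cfsg.Agent.Lib.OmegaMaxGlue
import Cfsg.Agent.Lib.OmegaStabTools
import Cfsg.Agent.Lib.TensorMaxBasic

/-!
The tensor product of a three-dimensional orthogonal space and a four-dimensional one of minus type, in adapted
coordinates: matrices of three-by-three blocks, the isometry condition, Siegel elements.
-/

set_option autoImplicit false
set_option linter.unusedSectionVars false
set_option linter.style.haveILetI false

namespace Cfsg.Agent.OrthUnitaryTensorThreeFour

open QuadraticMap Module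
open scoped Matrix MatrixGroups Kronecker
open Cfsg.Agent.OrthUnitaryQuad Cfsg.Agent.OrthUnitaryPrelude Cfsg.Agent.OmegaClasses Cfsg.Agent.OmegaGeo
  Cfsg.Agent.TensorMax

variable {F : Type*} [Field F]

/-- The index set. -/
abbrev I := Fin 3 × Fin 4

/-- Three-by-three matrices. -/
abbrev A3 (F : Type*) := Matrix (Fin 3) (Fin 3) F

/-- Matrices on the twelve-dimensional space. -/
abbrev M12 (F : Type*) := Matrix I I F

/-- The Gram matrix of the first factor. -/
def GA : A3 F := !![0, 0, 1; 0, 1, 0; 1, 0, 0]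

/-- The Gram matrix of the second factor. -/
def GB (c d : F) : Matrix (Fin 4) (Fin 4) F := !![0, 0, 0, 1; 0, c, 0, 0; 0, 0, d, 0; 1, 0, 0, 0]

/-- A block. -/
def blk (g : M12 F) (j k : Fin 4) : A3 F := Matrix.of fun a b => g (a, j) (b, k)

/-- A matrix from its blocks. -/
def mk (Z : Fin 4 → Fin 4 → A3 F) : M12 F := Matrix.of fun p r => Z p.2 r.2 p.1 r.1

theorem blk_mk (Z : Fin 4 → Fin 4 → A3 F) (j k : Fin 4) : blk (mk Z) j k = Z j k := rfl

theorem ext_blk {g h : M12 F} (e : ∀ j k, blk g j k = blk h j k) : g = h :=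
  Matrix.ext fun p r => congrFun (congrFun (e p.2 r.2) p.1) r.1

theorem blk_mul (g h : M12 F) (j k : Fin 4) : blk (g * h) j k = ∑ t, blk g j t * blk h t k := by
  ext a b
  simp only [blk, Matrix.of_apply, Matrix.mul_apply, Matrix.sum_apply, Fintype.sum_prod_type]
  exact Finset.sum_comm

theorem blk_add (g h : M12 F) (j k : Fin 4) : blk (g + h) j k = blk g j k + blk h j k := rfl

theorem blk_sub (g h : M12 F) (j k : Fin 4) : blk (g - h) j k = blk g j k - blk h j k := rfl

theorem blk_smul (s : F) (g : M12 F) (j k : Fin 4) : blk (s • g) j k = s • blk g j k := rfl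

theorem blk_one (j k : Fin 4) : blk (1 : M12 F) j k = if j = k then 1 else 0 := by
  ext a b
  simp only [blk, Matrix.of_apply, Matrix.one_apply, Prod.mk.injEq]
  by_cases h : j = k <;> simp [h, Matrix.one_apply]

theorem blk_kron (X : A3 F) (Y : Matrix (Fin 4) (Fin 4) F) (j k : Fin 4) :
    blk (X ⊗ₖ Y) j k = Y j k • X := by
  ext a b
  simp [blk, Matrix.kroneckerMap_apply, mul_comm]

theorem blk_transpose (g : M12 F) (j k : Fin 4) : blk gᵀ j k = (blk g k j)ᵀ := rfl

/-- The adjoint on the first factor. -/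
def st (X : A3 F) : A3 F := GA * Xᵀ * GA

theorem GA_mul_GA : (GA : A3 F) * GA = 1 := by
  ext i j; fin_cases i <;> fin_cases j <;> simp [GA, Matrix.mul_apply, Fin.sum_univ_three]

theorem GA_transpose : (GA : A3 F)ᵀ = GA := by
  ext i j; fin_cases i <;> fin_cases j <;> rfl

theorem GB_transpose (c d : F) : (GB c d)ᵀ = GB c d := by
  ext i j; fin_cases i <;> fin_cases j <;> rfl

theorem st_apply (X : A3 F) (i j : Fin 3) : st X i j = X (Fin.rev j) (Fin.rev i) := by
  fin_cases i <;> fin_cases j <;>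
    simp [st, GA, Matrix.mul_apply, Matrix.vecMul, dotProduct, Fin.sum_univ_three, Fin.rev]

theorem st_st (X : A3 F) : st (st X) = X := by
  ext i j; rw [st_apply, st_apply, Fin.rev_rev, Fin.rev_rev]

theorem st_mul (X Y : A3 F) : st (X * Y) = st Y * st X := by
  simp only [st, Matrix.transpose_mul]
  calc GA * (Yᵀ * Xᵀ) * GA = GA * Yᵀ * (1 * (Xᵀ * GA)) := by simp [mul_assoc]
    _ = _ := by rw [← GA_mul_GA]; simp only [mul_assoc]

theorem st_one : st (1 : A3 F) = 1 := by rw [st, Matrix.transpose_one, mul_one, GA_mul_GA]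

theorem st_zero : st (0 : A3 F) = 0 := by simp [st]

theorem st_add (X Y : A3 F) : st (X + Y) = st X + st Y := by simp [st, mul_add, add_mul]

theorem st_neg (X : A3 F) : st (-X) = - st X := by simp [st]

theorem st_sub (X Y : A3 F) : st (X - Y) = st X - st Y := by rw [sub_eq_add_neg, st_add, st_neg, sub_eq_add_neg]

theorem st_smul (s : F) (X : A3 F) : st (s • X) = s • st X := by simp [st]

theorem GA_mul_st (X : A3 F) : GA * st X = Xᵀ * GA := by
  rw [st, ← mul_assoc, ← mul_assoc, GA_mul_GA, one_mul]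

/-- The standing hypotheses. -/
structure Std (q : QuadraticForm F (I → F)) (c d : F) : Prop where
  pol : ∀ u v, polar q u v = u ⬝ᵥ ((GA ⊗ₖ GB c d) *ᵥ v)
  two : (2 : F) ≠ 0
  aniso : ∀ x y : F, c * x ^ 2 + d * y ^ 2 = 0 → x = 0 ∧ y = 0

/-- The matrix preserves the bilinear form. -/
def Iso (c d : F) (g : M12 F) : Prop := gᵀ * (GA ⊗ₖ GB c d) * g = GA ⊗ₖ GB c d

theorem gram_blk (c d : F) (j k : Fin 4) : blk (GA ⊗ₖ GB c d) j k = GB c d j k • (GA : A3 F) := blk_kron _ _ _ _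

theorem blk_gram_mul (c d : F) (g : M12 F) (i l : Fin 4) :
    blk (gᵀ * (GA ⊗ₖ GB c d) * g) i l =
      GA * (st (blk g 0 i) * blk g 3 l + c • (st (blk g 1 i) * blk g 1 l) + d • (st (blk g 2 i) * blk g 2 l)
        + st (blk g 3 i) * blk g 0 l) := by
  simp only [blk_mul, blk_transpose, gram_blk, Fin.sum_univ_four, mul_add, add_mul, Matrix.mul_smul,
    Matrix.smul_mul, ← mul_assoc, GA_mul_st]
  simp [GB]
  abel

theorem Std.c_ne {q : QuadraticForm F (I → F)} {c d : F} (hs : Std q c d) : c ≠ 0 := fun h =>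
  one_ne_zero (hs.aniso 1 0 (by rw [h]; ring)).1

theorem Std.d_ne {q : QuadraticForm F (I → F)} {c d : F} (hs : Std q c d) : d ≠ 0 := fun h =>
  one_ne_zero (hs.aniso 0 1 (by rw [h]; ring)).2

variable {q : QuadraticForm F (I → F)} {c d : F}

theorem Std.self (hs : Std q c d) (u : I → F) : 2 * q u = u ⬝ᵥ ((GA ⊗ₖ GB c d) *ᵥ u) := by
  rw [← hs.pol, polar_self_mul]

theorem iso_dot (g : M12 F) (hg : Iso c d g) (u v : I → F) :
    (g *ᵥ u) ⬝ᵥ ((GA ⊗ₖ GB c d) *ᵥ (g *ᵥ v)) = u ⬝ᵥ ((GA ⊗ₖ GB c d) *ᵥ v) := by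
  conv_rhs => rw [← hg]
  rw [← Matrix.mulVec_mulVec, ← Matrix.mulVec_mulVec, Matrix.dotProduct_mulVec u gᵀ,
    Matrix.vecMul_transpose]

theorem gram_inv (hs : Std q c d) :
    (GA ⊗ₖ GB c d : M12 F) * (GA ⊗ₖ GB c⁻¹ d⁻¹) = 1 := by
  rw [← Matrix.mul_kronecker_mul, GA_mul_GA, show GB c d * GB c⁻¹ d⁻¹ = 1 by
    ext i j
    fin_cases i <;> fin_cases j <;> simp [GB, Matrix.mul_apply, Fin.sum_univ_four, hs.c_ne, hs.d_ne],
    Matrix.one_kronecker_one]

theorem Std.nondeg (hs : Std q c d) : (polarBilin q).Nondegenerate := by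
  have key : ∀ x, (∀ y, polar q x y = 0) → x = 0 := by
    intro x hx
    funext p
    have h := hx ((GA ⊗ₖ GB c⁻¹ d⁻¹) *ᵥ Pi.single p 1)
    rwa [hs.pol, Matrix.mulVec_mulVec, gram_inv hs, Matrix.one_mulVec, dotProduct_single, mul_one] at h
  exact ⟨fun x hx => key x hx, fun x hx => key x fun y => by rw [polar_comm]; exact hx y⟩

theorem finrank_I : finrank F (I → F) = 12 := by simp

/-- The matrix of an orthogonal map. -/
noncomputable def mt (q : QuadraticForm F (I → F)) : orth q →* M12 F :=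
  (Units.coeHom _).comp (OmegaMaxGlue.glHom q)

theorem mt_mulVec (g : orth q) (x : I → F) : mt q g *ᵥ x = g.1 x := toGL_mulVec g x

theorem mt_injective : Function.Injective (mt q) := fun g h e =>
  Subtype.ext <| LinearEquiv.ext fun x => by rw [← mt_mulVec, ← mt_mulVec, e]

theorem mt_inv_mul (g : orth q) : mt q g⁻¹ * mt q g = 1 := by rw [← map_mul, inv_mul_cancel, map_one]

theorem mt_mul_inv (g : orth q) : mt q g * mt q g⁻¹ = 1 := by rw [← map_mul, mul_inv_cancel, map_one]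

theorem eq_of_dot {A B : M12 F} (h : ∀ u v, u ⬝ᵥ (A *ᵥ v) = u ⬝ᵥ (B *ᵥ v)) : A = B := by
  ext a b
  have := h (Pi.single a 1) (Pi.single b 1)
  simpa [Matrix.mulVec_single] using this

theorem mt_iso (hs : Std q c d) (g : orth q) : Iso c d (mt q g) := eq_of_dot fun u v => by
  rw [← Matrix.mulVec_mulVec, ← Matrix.mulVec_mulVec, Matrix.dotProduct_mulVec u (mt q g)ᵀ,
    Matrix.vecMul_transpose, mt_mulVec, mt_mulVec, ← hs.pol, ← hs.pol, polar_orth]

theorem exists_mt (hs : Std q c d) {g : M12 F} (hg : Iso c d g) : ∃ k : orth q, mt q k = g := by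
  have hinv : ((GA ⊗ₖ GB c⁻¹ d⁻¹) * (gᵀ * (GA ⊗ₖ GB c d))) * g = (1 : M12 F) := by
    rw [mul_assoc _ _ g, show gᵀ * (GA ⊗ₖ GB c d) * g = _ from hg]
    exact mul_eq_one_comm.1 (gram_inv hs)
  let e : (I → F) ≃ₗ[F] (I → F) := LinearEquiv.ofLinearMap g.mulVecLin
    ((GA ⊗ₖ GB c⁻¹ d⁻¹) * (gᵀ * (GA ⊗ₖ GB c d))).mulVecLin
    (by rw [← Matrix.mulVecLin_mul, mul_eq_one_comm.1 hinv, Matrix.mulVecLin_one])
    (by rw [← Matrix.mulVecLin_mul, hinv, Matrix.mulVecLin_one])
  refine ⟨⟨e, fun x => mul_left_cancel₀ hs.two ?_⟩, ?_⟩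
  · rw [hs.self, hs.self]
    exact iso_dot g hg x x
  · refine Matrix.ext_of_mulVec_single fun i => ?_
    rw [mt_mulVec]
    rfl

theorem Iso.mul {g h : M12 F} (hg : Iso c d g) (hh : Iso c d h) : Iso c d (g * h) := by
  unfold Iso at *
  calc (g * h)ᵀ * (GA ⊗ₖ GB c d) * (g * h) = hᵀ * (gᵀ * (GA ⊗ₖ GB c d) * g) * h := by
        simp only [Matrix.transpose_mul, mul_assoc]
    _ = _ := by rw [hg, hh]

theorem iso_kron {a : A3 F} {b : Matrix (Fin 4) (Fin 4) F} {s : F} (ha : st a * a = s • 1)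
    (hb : s • (bᵀ * GB c d * b) = GB c d) : Iso c d (a ⊗ₖ b) := by
  have h : aᵀ * GA * a = s • GA := by
    rw [← GA_mul_st, mul_assoc, ha, Matrix.mul_smul, mul_one]
  rw [Iso, ← Matrix.kroneckerMap_transpose, ← Matrix.mul_kronecker_mul, ← Matrix.mul_kronecker_mul, h,
    Matrix.smul_kronecker, ← Matrix.kronecker_smul, hb]

variable [Fintype F]

/-- Squares lie in the commutator subgroup. -/
theorem sq_mem_commutator (hs : Std q c d) (g : orth q) : g * g ∈ commutator (orth q) := by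
  have hexc : Fintype.card F ≠ 2 ∨ finrank F (I → F) ≠ 4 := Or.inr (by simp)
  obtain ⟨vs, hns, rfl⟩ := exists_rprod (reflGroup_top hs.nondeg hexc) g
  rw [← rprod_append, rprod_mem_iff hs.nondeg hexc (hns.append hns)]
  simp only [List.length_append, List.map_append, List.prod_append]
  exact ⟨⟨vs.length, rfl⟩, ⟨_, rfl⟩⟩

end Cfsg.Agent.OrthUnitaryTensorThreeFour
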