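import Cfsg.Agent.Lib.OrthUnitaryTensorThreeFourBase

/-!
Elements of the tensor product of the two orthogonal groups in adapted coordinates, and their presence in an
overgroup.
-/

set_option autoImplicit false
set_option linter.unusedSectionVars false
set_option linter.style.haveILetI false

namespace Cfsg.Agent.OrthUnitaryTensorThreeFour

open QuadraticMap Module
open scoped Matrix MatrixGroups Kronecker
open Cfsg.Agent.OrthUnitaryQuad Cfsg.Agent.OrthUnitaryPrelude Cfsg.Agent.OmegaClasses Cfsg.Agent.OmegaGeo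
  Cfsg.Agent.TensorMax

variable {F : Type*} [Field F] {q : QuadraticForm F (I → F)} {c d : F}

/-- Upper unipotent isometries of the first factor. -/
def xA (s : F) : A3 F := !![1, s, -(s * s / 2); 0, 1, -s; 0, 0, 1]

/-- Lower unipotent isometries of the first factor. -/
def yA (s : F) : A3 F := !![1, 0, 0; s, 1, 0; -(s * s / 2), -s, 1]

/-- The torus of the first factor. -/
def tA (l : F) : A3 F := !![l, 0, 0; 0, 1, 0; 0, 0, l⁻¹]

/-- An element exchanging the two singular coordinate lines of the first factor. -/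
def wA : A3 F := xA 1 * yA (-2) * xA 1

/-- Upper unipotent isometries of the second factor. -/
def eB (c d x y : F) : Matrix (Fin 4) (Fin 4) F :=
  !![1, x, y, -((x * x / c + y * y / d) / 2); 0, 1, 0, -(x / c); 0, 0, 1, -(y / d); 0, 0, 0, 1]

/-- Lower unipotent isometries of the second factor. -/
def fB (c d x y : F) : Matrix (Fin 4) (Fin 4) F :=
  !![1, 0, 0, 0; -(x / c), 1, 0, 0; -(y / d), 0, 1, 0; -((x * x / c + y * y / d) / 2), x, y, 1]

/-- An element exchanging two singular coordinate lines of the second factor. -/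
def wB (c d : F) : Matrix (Fin 4) (Fin 4) F := eB c d 1 0 * fB c d (2 * c) 0 * eB c d 1 0

section Identities

variable (h2 : (2 : F) ≠ 0)
include h2

theorem xA_add (s t : F) : xA s * xA t = xA (s + t) := by
  ext i j; fin_cases i <;> fin_cases j <;> simp [xA, Matrix.mul_apply, Fin.sum_univ_three] <;> (try field_simp) <;> ring

theorem yA_add (s t : F) : yA s * yA t = yA (s + t) := by
  ext i j; fin_cases i <;> fin_cases j <;> simp [yA, Matrix.mul_apply, Fin.sum_univ_three] <;> (try field_simp) <;> ring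

theorem eB_add (x y x' y' : F) : eB c d x y * eB c d x' y' = eB c d (x + x') (y + y') := by
  ext i j; fin_cases i <;> fin_cases j <;> simp [eB, Matrix.mul_apply, Fin.sum_univ_four] <;> (try field_simp) <;> ring

theorem fB_add (x y x' y' : F) : fB c d x y * fB c d x' y' = fB c d (x + x') (y + y') := by
  ext i j; fin_cases i <;> fin_cases j <;> simp [fB, Matrix.mul_apply, Fin.sum_univ_four] <;> (try field_simp) <;> ring

theorem st_xA (s : F) : st (xA s) * xA s = (1 : F) • 1 := by
  ext i j; fin_cases i <;> fin_cases j <;>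
    simp [xA, Matrix.mul_apply, Fin.sum_univ_three, st_apply, Fin.rev] <;> (try field_simp) <;> ring

theorem st_yA (s : F) : st (yA s) * yA s = (1 : F) • 1 := by
  ext i j; fin_cases i <;> fin_cases j <;>
    simp [yA, Matrix.mul_apply, Fin.sum_univ_three, st_apply, Fin.rev] <;> (try field_simp) <;> ring

end Identities

theorem st_tA {l : F} (hl : l ≠ 0) : st (tA l) * tA l = (1 : F) • 1 := by
  ext i j; fin_cases i <;> fin_cases j <;>
    simp [tA, Matrix.mul_apply, Fin.sum_univ_three, st_apply, Fin.rev, hl]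

theorem tA_mul (l m : F) : tA l * tA m = tA (l * m) := by
  ext i j; fin_cases i <;> fin_cases j <;> simp [tA, Matrix.mul_apply, Fin.sum_univ_three, mul_comm]

theorem xA_zero : xA (0 : F) = 1 := by
  ext i j; fin_cases i <;> fin_cases j <;> simp [xA]

theorem yA_zero : yA (0 : F) = 1 := by
  ext i j; fin_cases i <;> fin_cases j <;> simp [yA]

theorem tA_one : tA (1 : F) = 1 := by
  ext i j; fin_cases i <;> fin_cases j <;> simp [tA]

theorem eB_zero : eB c d 0 0 = 1 := by
  ext i j; fin_cases i <;> fin_cases j <;> simp [eB]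

theorem eB_iso (hs : Std q c d) (x y : F) : (1 : F) • ((eB c d x y)ᵀ * GB c d * eB c d x y) = GB c d := by
  have := hs.c_ne; have := hs.d_ne; have := hs.two
  ext i j; fin_cases i <;> fin_cases j <;>
    simp [eB, GB, Matrix.mul_apply, Fin.sum_univ_four] <;> (try field_simp) <;> ring

theorem fB_iso (hs : Std q c d) (x y : F) : (1 : F) • ((fB c d x y)ᵀ * GB c d * fB c d x y) = GB c d := by
  have := hs.c_ne; have := hs.d_ne; have := hs.two
  ext i j; fin_cases i <;> fin_cases j <;>
    simp [fB, GB, Matrix.mul_apply, Fin.sum_univ_four] <;> (try field_simp) <;> ring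

theorem one_iso_A : st (1 : A3 F) * 1 = (1 : F) • 1 := by rw [st_one, one_mul, one_smul]

theorem one_iso_B : (1 : F) • ((1 : Matrix (Fin 4) (Fin 4) F)ᵀ * GB c d * 1) = GB c d := by simp

/-- The product of the two groups, cut down to the commutator subgroup, lies in `M`. -/
def HM (q : QuadraticForm F (I → F)) (M : Subgroup (orth q)) : Prop :=
  ∀ g ∈ commutator (orth q), (∃ a b, mt q g = a ⊗ₖ b) → g ∈ M

/-- Some element of `M` has matrix `g`. -/
def InM (q : QuadraticForm F (I → F)) (M : Subgroup (orth q)) (g : M12 F) : Prop := ∃ k ∈ M, mt q k = g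

variable {M : Subgroup (orth q)}

theorem InM.mul {g h : M12 F} (hg : InM q M g) (hh : InM q M h) : InM q M (g * h) := by
  obtain ⟨k, hk, rfl⟩ := hg
  obtain ⟨l, hl, rfl⟩ := hh
  exact ⟨k * l, M.mul_mem hk hl, map_mul _ _ _⟩

theorem InM.one : InM q M 1 := ⟨1, M.one_mem, map_one _⟩

theorem InM.iso {g : M12 F} (hs : Std q c d) (hg : InM q M g) : Iso c d g := by
  obtain ⟨k, -, rfl⟩ := hg
  exact mt_iso hs k

variable [Fintype F]

theorem inM_sq (hs : Std q c d) (hM : HM q M) {a : A3 F} {b : Matrix (Fin 4) (Fin 4) F} {s : F}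
    (ha : st a * a = s • 1) (hb : s • (bᵀ * GB c d * b) = GB c d) : InM q M ((a * a) ⊗ₖ (b * b)) := by
  obtain ⟨g, hg⟩ := exists_mt hs (iso_kron ha hb)
  have h : mt q (g * g) = (a * a) ⊗ₖ (b * b) := by rw [map_mul, hg, ← Matrix.mul_kronecker_mul]
  exact ⟨g * g, hM _ (sq_mem_commutator hs g) ⟨_, _, h⟩, h⟩

variable (hs : Std q c d) (hM : HM q M)
include hs hM

theorem inM_xA (s : F) : InM q M (xA s ⊗ₖ 1) := by
  haveI := NeZero.mk hs.two
  have := inM_sq hs hM (st_xA hs.two (s / 2)) (one_iso_B (c := c) (d := d))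
  rwa [xA_add hs.two, add_halves, mul_one] at this

theorem inM_yA (s : F) : InM q M (yA s ⊗ₖ 1) := by
  haveI := NeZero.mk hs.two
  have := inM_sq hs hM (st_yA hs.two (s / 2)) (one_iso_B (c := c) (d := d))
  rwa [yA_add hs.two, add_halves, mul_one] at this

theorem inM_tA {l : F} (hl : l ≠ 0) : InM q M (tA (l * l) ⊗ₖ 1) := by
  haveI := NeZero.mk hs.two
  have := inM_sq hs hM (st_tA hl) (one_iso_B (c := c) (d := d))
  rwa [tA_mul, mul_one] at this

theorem inM_eB (x y : F) : InM q M ((1 : A3 F) ⊗ₖ eB c d x y) := by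
  haveI := NeZero.mk hs.two
  have := inM_sq hs hM (one_iso_A (F := F)) (eB_iso hs (x / 2) (y / 2))
  rwa [eB_add hs.two, add_halves, add_halves, mul_one] at this

theorem inM_fB (x y : F) : InM q M ((1 : A3 F) ⊗ₖ fB c d x y) := by
  haveI := NeZero.mk hs.two
  have := inM_sq hs hM (one_iso_A (F := F)) (fB_iso hs (x / 2) (y / 2))
  rwa [fB_add hs.two, add_halves, add_halves, mul_one] at this

theorem inM_wA : InM q M ((wA : A3 F) ⊗ₖ 1) := by
  have := ((inM_xA hs hM 1).mul (inM_yA hs hM (-2))).mul (inM_xA hs hM 1)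
  rwa [← Matrix.mul_kronecker_mul, ← Matrix.mul_kronecker_mul, mul_one, mul_one] at this

theorem inM_wB : InM q M ((1 : A3 F) ⊗ₖ wB c d) := by
  have := ((inM_eB hs hM 1 0).mul (inM_fB hs hM (2 * c) 0)).mul (inM_eB hs hM 1 0)
  rwa [← Matrix.mul_kronecker_mul, ← Matrix.mul_kronecker_mul, mul_one, mul_one] at this

end Cfsg.Agent.OrthUnitaryTensorThreeFour
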