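import Cfsg.Agent.Lib.OrthUnitaryTensorThreeFourRadical

/-!
An overgroup of the tensor product that contains a non-trivial pure radical element is the whole commutator group.
-/

set_option autoImplicit false
set_option linter.unusedSectionVars false
set_option linter.style.haveILetI false

namespace Cfsg.Agent.OrthUnitaryTensorThreeFour

open QuadraticMap Module
open scoped Matrix MatrixGroups Kronecker
open Cfsg.Agent.OrthUnitaryQuad Cfsg.Agent.OrthUnitaryPrelude Cfsg.Agent.OmegaClasses Cfsg.Agent.OmegaGeo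
  Cfsg.Agent.TensorMax Cfsg.Agent.OrthUnitarySimple Cfsg.Agent.OrthUnitaryRefl

variable {F : Type*} [Field F] {q : QuadraticForm F (I → F)} {c d : F}

theorem dot_tp {k l : ℕ} (v v' : Fin k → F) (b b' : Fin l → F) :
    tp v b ⬝ᵥ tp v' b' = (v ⬝ᵥ v') * (b ⬝ᵥ b') := by
  simp only [dotProduct, tp, Fintype.sum_prod_type, Finset.sum_mul_sum]
  exact Finset.sum_congr rfl fun _ _ => Finset.sum_congr rfl fun _ _ => by ring

theorem kron_tp {k l : ℕ} (a : Matrix (Fin k) (Fin k) F) (b : Matrix (Fin l) (Fin l) F) (v : Fin k → F)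
    (x : Fin l → F) : (a ⊗ₖ b) *ᵥ tp v x = tp (a *ᵥ v) (b *ᵥ x) := by
  funext p
  simp only [Matrix.mulVec, dotProduct, tp, Matrix.kroneckerMap_apply, Fintype.sum_prod_type, Finset.sum_mul_sum]
  exact Finset.sum_congr rfl fun _ _ => Finset.sum_congr rfl fun _ _ => by ring

theorem tp_smul_left {k l : ℕ} (s : F) (v : Fin k → F) (x : Fin l → F) : tp (s • v) x = s • tp v x := by
  funext p; simp [tp, mul_assoc]

theorem tp_smul_right {k l : ℕ} (s : F) (v : Fin k → F) (x : Fin l → F) : tp v (s • x) = s • tp v x := by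
  funext p; simp only [tp, Pi.smul_apply, smul_eq_mul]; ring

theorem tp_add_right {k l : ℕ} (v : Fin k → F) (x y : Fin l → F) : tp v (x + y) = tp v x + tp v y := by
  funext p; simp [tp, mul_add]

theorem Std.polar_tp (hs : Std q c d) (v v' : Fin 3 → F) (b b' : Fin 4 → F) :
    polar q (tp v b) (tp v' b') = (v ⬝ᵥ (GA *ᵥ v')) * (b ⬝ᵥ (GB c d *ᵥ b')) := by
  rw [hs.pol, kron_tp, dot_tp]

theorem Std.sing_tp (hs : Std q c d) (v : Fin 3 → F) (b : Fin 4 → F)
    (h : v ⬝ᵥ (GA *ᵥ v) = 0 ∨ b ⬝ᵥ (GB c d *ᵥ b) = 0) : q (tp v b) = 0 := by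
  refine mul_left_cancel₀ hs.two ?_
  rw [mul_zero, ← polar_self_mul, hs.polar_tp, mul_eq_zero]
  exact h

/-- The Siegel element at `u`, `w` lies in `M`. -/
def Sg (q : QuadraticForm F (I → F)) (M : Subgroup (orth q)) (u w : I → F) : Prop :=
  ∀ (hu : q u = 0) (hw : polar q u w = 0), siegel q u w hu hw ∈ M

variable {M : Subgroup (orth q)}

theorem Sg.map {u w u' w' : I → F} (h : Sg q M u w) {g : M12 F} (hg : InM q M g) (h1 : g *ᵥ u = u')
    (h2 : g *ᵥ w = w') : Sg q M u' w' := by
  intro hu hw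
  obtain ⟨k, hk, rfl⟩ := hg
  rw [mt_mulVec] at h1 h2
  subst h1 h2
  rw [← conj_siegel k u w (by rwa [map_orth k] at hu) (by rwa [polar_orth k] at hw)]
  exact M.mul_mem (M.mul_mem hk (h _ _)) (M.inv_mem hk)

theorem siegel_swap {u w : I → F} (hu : q u = 0) (hw : q w = 0) (h : polar q u w = 0)
    (h' : polar q w (-u) = 0) : siegel q u w hu h = siegel q w (-u) hw h' := by
  refine Subtype.ext (LinearEquiv.ext fun x => ?_)
  rw [siegel_apply, siegel_apply]
  simp only [QuadraticMap.map_neg, hu, hw, polar_neg_left, zero_mul, add_zero]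
  module

theorem Sg.swap {u w : I → F} (hu : q u = 0) (hw : q w = 0) (h : Sg q M u w) : Sg q M w (-u) := by
  intro hw' h'
  have h0 : polar q u w = 0 := by
    rw [polar_neg_right, neg_eq_zero] at h'
    rw [polar_comm]; exact h'
  rw [← siegel_swap hu hw h0 h']
  exact h hu h0

theorem Sg.scale {u w : I → F} {s : F} (hu : q u = 0) (h : Sg q M u (s • w)) :
    Sg q M (s • u) w := by
  intro hu' hw'
  rw [siegel_scale hu' hw' hu (by rw [polar_smul_right]; rw [polar_smul_left] at hw'; exact hw')]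
  exact h _ _

theorem Sg.unscale {u w : I → F} {s : F} (hs : s ≠ 0) (h : Sg q M (s • u) w) : Sg q M u (s • w) := by
  intro hu hw
  have hu' : q (s • u) = 0 := by rw [QuadraticMap.map_smul, hu, smul_zero]
  have hw' : polar q (s • u) w = 0 := by rw [polar_smul_left, ← polar_smul_right]; exact hw
  rw [← siegel_scale hu' hw' hu hw]
  exact h _ _

theorem Sg.step {u y v z : I → F} (hu : q u = 0) (hy : Sg q M u y) (hv : Sg q M v z) (hqv : q v = 0)
    (hqz : q z = 0) (huy : polar q u y = 0) (huv : polar q u v = 0) (huz : polar q u z = 0)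
    (hyz : polar q y z = 0) (hvz : polar q v z = 0) :
    Sg q M u (-(polar q y v) • z) := by
  set g := siegel q u y hu huy
  have hg : g ∈ M := hy _ _
  have hgz : g.1 z = z := by rw [siegel_apply, huz, hyz]; simp
  have hgv : g.1 v = v + (-(polar q y v)) • u := by rw [siegel_apply, huv]; simp; module
  have h1 : siegel q v z hqv hvz ∈ M := hv _ _
  have h2 : Sg q M (v + (-(polar q y v)) • u) z := by
    intro a b
    have := conj_siegel g v z hqv hvz
    simp only [hgz, hgv] at this
    rw [← this]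
    exact M.mul_mem (M.mul_mem hg h1) (M.inv_mem hg)
  have hqs : q ((-(polar q y v)) • u) = 0 := by rw [QuadraticMap.map_smul, hu, smul_zero]
  have hq' : q (v + (-(polar q y v)) • u) = 0 := by
    rw [QuadraticMap.map_add (⇑q), hqv, hqs, polar_smul_right, polar_comm _ v u, huv, smul_zero, add_zero, add_zero]
  have h3 := h2.swap hq' hqz
  have h4 := (show Sg q M v z from hv).swap hqv hqz
  -- the difference of the two
  have hzv : polar q z (-v) = 0 := by rw [polar_neg_right, polar_comm, hvz, neg_zero]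
  have hzu : polar q z ((-(polar q y v)) • u) = 0 := by rw [polar_smul_right, polar_comm _ z u, huz, smul_zero]
  have h5 : Sg q M z ((polar q y v) • u) := by
    intro a b
    have e : siegel q z (-v) a hzv * siegel q z ((polar q y v) • u) a b =
        siegel q z (-(v + (-(polar q y v)) • u)) a (by
          rw [polar_neg_right, polar_add_right, hzu, polar_comm _ z v, hvz, add_zero, neg_zero]) := by
      rw [siegel_mul]
      exact siegel_congr _ _ (by rw [neg_add, ← neg_smul, neg_neg])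
    exact (Subgroup.mul_mem_cancel_left _ (h4 a hzv)).1 (e ▸ h3 a _)
  have h6 := h5.swap hqz (by rw [QuadraticMap.map_smul, hu, smul_zero])
  rcases eq_or_ne (polar q y v) 0 with h0 | h0
  · intro a b
    have e : siegel q u (-(polar q y v) • z) a b = 1 := siegel_eq_one a b (a := 0) (by simp [h0])
    rw [e]
    exact M.one_mem
  · have := h6.unscale h0
    rwa [smul_neg, ← neg_smul] at this

section Main

variable [Fintype F] (hs : Std q c d) (hM : HM q M)

/-- Unit vectors of the first factor. -/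
def aU (i : Fin 3) : Fin 3 → F := Pi.single i 1

/-- Unit vectors of the second factor. -/
def bU (j : Fin 4) : Fin 4 → F := Pi.single j 1

/-- A singular vector of the second factor off the hyperplane at `bU 0`. -/
def bS (c d x y : F) : Fin 4 → F := eB c d x y *ᵥ bU 3

theorem wB_b0 (hc : c ≠ 0) (h2 : (2 : F) ≠ 0) : wB c d *ᵥ bU 0 = (-(2 * c)) • bU 3 := by
  funext i
  fin_cases i <;>
    simp [wB, eB, fB, bU, Matrix.mulVec, dotProduct, Matrix.mul_apply, Fin.sum_univ_four] <;> (try field_simp) <;> ring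

theorem wA_a0 (h2 : (2 : F) ≠ 0) : (wA : A3 F) *ᵥ aU 0 = (-(2 : F)) • aU 2 := by
  funext i
  fin_cases i <;>
    simp [wA, xA, yA, aU, Matrix.mulVec, dotProduct, Matrix.mul_apply, Fin.sum_univ_three] <;> (try field_simp) <;>
      ring

theorem rs_pure_eq (E : A3 F) :
    rs c d 0 0 E = 1 + E ⊗ₖ Matrix.single (0 : Fin 4) (3 : Fin 4) (1 : F) := by
  refine ext_blk fun j k => ?_
  rw [blk_add, blk_one, blk_kron]
  fin_cases j <;> fin_cases k <;> simp [rs, blk_mk, st_zero, Matrix.single]

theorem rs_pure_mulVec (E : A3 F) (x : I → F) (i : Fin 3) (j : Fin 4) :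
    (rs c d 0 0 E *ᵥ x) (i, j) = x (i, j) + if j = 0 then ∑ b, E i b * x (b, 3) else 0 := by
  rw [rs_pure_eq, Matrix.add_mulVec, Matrix.one_mulVec, Pi.add_apply]
  congr 1
  by_cases hj : j = 0
  · subst hj
    simp [Matrix.mulVec, dotProduct, Fintype.sum_prod_type, Matrix.single]
  · simp [Matrix.mulVec, dotProduct, Fintype.sum_prod_type, Matrix.single, hj, Ne.symm hj]

include hs in
theorem polar_unit (i : Fin 3) (x : I → F) : polar q (tp (aU i) (bU 0)) x = x (Fin.rev i, 3) := by
  rw [hs.pol]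
  fin_cases i <;>
    simp [tp, aU, bU, GA, GB, Matrix.mulVec, dotProduct, Fintype.sum_prod_type, Fin.sum_univ_four, Fin.sum_univ_three,
      Fin.rev]

include hs hM

set_option maxHeartbeats 1000000 in
-- one long computation
/-- The main theorem. -/
theorem commutator_le_of_pure {E : A3 F} (hE : E ∈ Pure q M c d) (h0 : E ≠ 0) : commutator (orth q) ≤ M := by
  haveI := NeZero.mk hs.two
  have hc := hs.c_ne
  have hd := hs.d_ne
  have h2 := hs.two
  obtain ⟨hN, hH⟩ := pure_all hs hM hE h0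
  -- evaluation rules
  have hsU : ∀ i : Fin 3, (aU i : Fin 3 → F) ⬝ᵥ (GA *ᵥ aU i) = if i = 1 then 1 else 0 := fun i => by
    fin_cases i <;> simp [aU, GA, Matrix.mulVec, dotProduct, Fin.sum_univ_three]
  have hbS : ∀ x y, bS c d x y ⬝ᵥ (GB c d *ᵥ bS c d x y) = 0 := fun x y => by
    simp [bS, bU, eB, GB, Matrix.mulVec, dotProduct, Fin.sum_univ_four]
    field_simp
    ring
  have hb0S : ∀ x y, (bU 0 : Fin 4 → F) ⬝ᵥ (GB c d *ᵥ bS c d x y) = 1 := fun x y => by
    simp [bS, bU, eB, GB, Matrix.mulVec, dotProduct, Fin.sum_univ_four]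
  have hb00 : (bU 0 : Fin 4 → F) ⬝ᵥ (GB c d *ᵥ bU 0) = 0 := by
    simp [bU, GB, Matrix.mulVec, dotProduct, Fin.sum_univ_four]
  have hp : ∀ i i' b b', polar q (tp (aU i) b) (tp (aU i') b') =
      (if i' = Fin.rev i then 1 else 0) * (b ⬝ᵥ (GB c d *ᵥ b')) := fun i i' b b' => by
    rw [hs.polar_tp]
    congr 1
    fin_cases i <;> fin_cases i' <;> simp [aU, GA, Matrix.mulVec, dotProduct, Fin.sum_univ_three, Fin.rev]
  set u : I → F := tp (aU 0) (bU 0) with hu_def
  have hu : q u = 0 := hs.sing_tp _ _ (Or.inr hb00)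
  -- the two kinds of pure roots
  have hroot : ∀ {X : A3 F} {w : I → F}, X ∈ Pure q M c d → polar q u w = 0 →
      (∀ x, rs c d 0 0 X *ᵥ x = x + polar q u x • w - (polar q w x + q w * polar q u x) • u) → Sg q M u w := by
    intro X w hX huw hact hu' hw'
    obtain ⟨k, hk, hkX⟩ := hX
    convert hk
    refine Subtype.ext (LinearEquiv.ext fun x => ?_)
    rw [← mt_mulVec k, hkX, hact, siegel_apply]
  have R1 : ∀ β : F, Sg q M u (β • tp (aU 1) (bU 0)) := by
    intro β
    have hw : q (β • tp (aU 1) (bU 0)) = 0 := by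
      rw [QuadraticMap.map_smul, hs.sing_tp _ _ (Or.inr hb00), smul_zero]
    refine hroot (hN (-β)) (by rw [polar_smul_right, hp, hb00, mul_zero, smul_zero]) fun x => ?_
    funext ⟨i, j⟩
    simp only [rs_pure_mulVec, hw, polar_smul_left, u, polar_unit hs, zero_mul, add_zero, Pi.sub_apply,
      Pi.add_apply, Pi.smul_apply, smul_eq_mul]
    fin_cases i <;> fin_cases j <;> simp [sk, tp, aU, bU, Fin.sum_univ_three, Fin.rev] <;> ring
  have R2 : ∀ β : F, Sg q M u (β • tp (aU 2) (bU 0)) := by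
    intro β
    have hw : q (β • tp (aU 2) (bU 0)) = 0 := by
      rw [QuadraticMap.map_smul, hs.sing_tp _ _ (Or.inr hb00), smul_zero]
    refine hroot (hH (-β)) (by rw [polar_smul_right, hp, hb00, mul_zero, smul_zero]) fun x => ?_
    funext ⟨i, j⟩
    simp only [rs_pure_mulVec, hw, polar_smul_left, u, polar_unit hs, zero_mul, add_zero, Pi.sub_apply,
      Pi.add_apply, Pi.smul_apply, smul_eq_mul]
    fin_cases i <;> fin_cases j <;> simp [sk, tp, aU, bU, Fin.sum_univ_three, Fin.rev] <;> ring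
  -- the roots at the other singular lines of the second factor
  have R3 : ∀ (x y β : F), Sg q M (tp (aU 0) (bS c d x y)) (β • tp (aU 1) (bS c d x y)) := by
    intro x y β
    have hk : -(2 * c) ≠ 0 := neg_ne_zero.2 (mul_ne_zero h2 hc)
    have hg := (inM_eB hs hM x y).mul (inM_wB hs hM)
    rw [← Matrix.mul_kronecker_mul, one_mul] at hg
    have hb : (eB c d x y * wB c d) *ᵥ bU 0 = (-(2 * c)) • bS c d x y := by
      rw [← Matrix.mulVec_mulVec, wB_b0 hc h2, Matrix.mulVec_smul]; rfl
    have h1 := (R1 (β / (-(2 * c)) / (-(2 * c)))).map hg (u' := (-(2 * c)) • tp (aU 0) (bS c d x y))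
      (w' := (β / (-(2 * c))) • tp (aU 1) (bS c d x y))
      (by rw [kron_tp, Matrix.one_mulVec, hb, tp_smul_right])
      (by rw [Matrix.mulVec_smul, kron_tp, Matrix.one_mulVec, hb, tp_smul_right, smul_smul, div_mul_cancel₀ _ hk])
    have := h1.unscale hk
    rwa [smul_smul, mul_div_cancel₀ _ hk] at this
  -- the roots at a second singular line of the first factor
  have R4 : ∀ {w : Fin 4 → F}, Sg q M u (tp (aU 0) w) → Sg q M (tp (aU 2) (bU 0)) ((4 : F) • tp (aU 2) w) := by
    intro w hw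
    have h1 := hw.map (inM_wA hs hM) (u' := (-(2 : F)) • tp (aU 2) (bU 0)) (w' := (-(2 : F)) • tp (aU 2) w)
      (by rw [kron_tp, Matrix.one_mulVec, wA_a0 h2, tp_smul_left])
      (by rw [kron_tp, Matrix.one_mulVec, wA_a0 h2, tp_smul_left])
    have := h1.unscale (neg_ne_zero.2 h2)
    rwa [smul_smul, show -(2 : F) * -2 = 4 by norm_num] at this
  -- the set of partners of `u`
  let Y : AddSubgroup (I → F) :=
    { carrier := {w | polar q u w = 0 ∧ Sg q M u w}
      zero_mem' := ⟨polar_zero_right q u, fun a b => by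
        rw [siegel_eq_one a b (a := 0) (zero_smul _ _).symm]; exact M.one_mem⟩
      add_mem' := fun {w w'} h h' => ⟨by rw [polar_add_right, h.1, h'.1, add_zero], fun a b => by
        rw [← siegel_mul a h.1 h'.1]; exact M.mul_mem (h.2 _ _) (h'.2 _ _)⟩
      neg_mem' := fun {w} h => ⟨by rw [polar_neg_right, h.1, neg_zero], fun a b => by
        have e := siegel_mul a b h.1
        have e' : siegel q u (-w + w) a (by rw [neg_add_cancel, polar_zero_right]) = 1 :=
          siegel_eq_one _ _ (a := 0) (by simp)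
        rw [e', mul_eq_one_iff_eq_inv] at e
        rw [e]; exact M.inv_mem (h.2 _ _)⟩ }
  -- first row
  have hA : ∀ x y β : F, β • tp (aU 0) (bS c d x y) ∈ Y := by
    intro x y β
    refine ⟨by rw [polar_smul_right, hp]; simp, ?_⟩
    have hq1 : q (tp (aU 0) (bS c d x y)) = 0 := hs.sing_tp _ _ (Or.inr (hbS x y))
    have hq2 : q (tp (aU 1) (bS c d x y)) = 0 := hs.sing_tp _ _ (Or.inr (hbS x y))
    have hq3 : q (β • tp (aU 1) (bS c d x y)) = 0 := by rw [QuadraticMap.map_smul, hq2, smul_zero]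
    have hq4 : q (-(β • tp (aU 0) (bS c d x y))) = 0 := by
      rw [QuadraticMap.map_neg, QuadraticMap.map_smul, hq1, smul_zero]
    have hv : Sg q M (tp (aU 1) (bS c d x y)) (-(β • tp (aU 0) (bS c d x y))) := by
      rcases eq_or_ne β 0 with rfl | hβ
      · intro a b
        rw [siegel_eq_one a b (a := 0) (by simp)]
        exact M.one_mem
      · have h := ((R3 x y β).swap hq1 hq3).unscale hβ
        rwa [smul_neg] at h
    have h := Sg.step hu (by simpa using R1 1) hv hq2 hq4 (by rw [hp]; simp) (by rw [hp]; simp)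
      (by rw [polar_neg_right, polar_smul_right, hp]; simp)
      (by rw [polar_neg_right, polar_smul_right, hp]; simp)
      (by rw [polar_neg_right, polar_smul_right, hp]; simp)
    rw [hp, hb0S] at h
    simpa using h
  have hA3 : ∀ β : F, β • tp (aU 0) (bU 3) ∈ Y := fun β => by
    have e : bS c d (0 : F) 0 = bU 3 := by rw [bS, eB_zero, Matrix.one_mulVec]
    simpa [e] using hA 0 0 β
  have hA0 : ∀ β : F, β • tp (aU 0) (bU 0) ∈ Y := fun β =>
    ⟨by rw [polar_smul_right, hp]; simp, fun a b => by rw [siegel_eq_one a b (a := β) rfl]; exact M.one_mem⟩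
  have hA12 : ∀ (x y : F), tp (aU 0) (-(x / c) • bU 1 + -(y / d) • bU 2) ∈ Y := by
    intro x y
    have h := sub_mem (sub_mem (hA x y 1) (hA3 1)) (hA0 (-((x * x / c + y * y / d) / 2)))
    convert h using 1
    funext ⟨i, j⟩
    fin_cases i <;> fin_cases j <;> simp [bS, aU, bU, eB, tp, Matrix.mulVec, dotProduct, Fin.sum_univ_four]
  -- second row
  have hB : ∀ x y β : F, β • tp (aU 1) (bS c d x y) ∈ Y := by
    intro x y β
    refine ⟨by rw [polar_smul_right, hp]; simp, ?_⟩
    have hq1 : q (tp (aU 0) (bS c d x y)) = 0 := hs.sing_tp _ _ (Or.inr (hbS x y))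
    have hq2 : q ((-β) • tp (aU 1) (bS c d x y)) = 0 := by
      rw [QuadraticMap.map_smul, hs.sing_tp _ _ (Or.inr (hbS x y)), smul_zero]
    have h := Sg.step hu (by simpa using R2 1) (R3 x y (-β)) hq1 hq2 (by rw [hp, hb00]; simp) (by rw [hp]; simp)
      (by rw [polar_smul_right, hp]; simp) (by rw [polar_smul_right, hp]; simp)
      (by rw [polar_smul_right, hp]; simp)
    rw [hp] at h
    simpa [hb0S, smul_smul] using h
  have hB0 : ∀ β : F, β • tp (aU 1) (bU 0) ∈ Y := fun β => ⟨by rw [polar_smul_right, hp]; simp, R1 β⟩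
  have hB3 : ∀ β : F, β • tp (aU 1) (bU 3) ∈ Y := fun β => by
    have e : bS c d (0 : F) 0 = bU 3 := by rw [bS, eB_zero, Matrix.one_mulVec]
    simpa [e] using hB 0 0 β
  have hB12 : ∀ (x y : F), tp (aU 1) (-(x / c) • bU 1 + -(y / d) • bU 2) ∈ Y := by
    intro x y
    have h := sub_mem (sub_mem (hB x y 1) (hB3 1)) (hB0 (-((x * x / c + y * y / d) / 2)))
    convert h using 1
    funext ⟨i, j⟩
    fin_cases i <;> fin_cases j <;> simp [bS, aU, bU, eB, tp, Matrix.mulVec, dotProduct, Fin.sum_univ_four]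
  -- third row
  have hC : ∀ (s t : F), tp (aU 2) (s • bU 1 + t • bU 2) ∈ Y := by
    intro s t
    have hy := (hA3 (1 : F)).2
    have hw0 := (hA12 (s * c / 4) (t * d / 4)).2
    have h1 := R4 hw0
    have e : (4 : F) • tp (aU 2 : Fin 3 → F) (-(s * c / 4 / c) • bU 1 + -(t * d / 4 / d) • bU 2) =
        -tp (aU 2) (s • bU 1 + t • bU 2) := by
      have h4 : (4 : F) ≠ 0 := by rw [show (4 : F) = 2 * 2 by norm_num]; exact mul_ne_zero h2 h2
      funext p
      simp [tp]
      field_simp
      ring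
    rw [e] at h1
    refine ⟨by rw [hp]; simp [bU, GB, Matrix.mulVec, dotProduct, Fin.sum_univ_four], ?_⟩
    have hq : q (tp (aU 2) (bU 0)) = 0 := hs.sing_tp _ _ (Or.inr hb00)
    have hqz : q (-tp (aU 2) (s • bU 1 + t • bU 2)) = 0 := by
      rw [QuadraticMap.map_neg]
      exact hs.sing_tp _ _ (Or.inl (by simpa using hsU 2))
    have h := Sg.step hu hy h1 hq hqz (hA3 1).1 (by rw [hp, hb00]; simp)
      (by rw [polar_neg_right, hp]; simp [bU, GB, Matrix.mulVec, dotProduct, Fin.sum_univ_four])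
      (by rw [one_smul, polar_neg_right, hp]; simp [bU, GB, Matrix.mulVec, dotProduct, Fin.sum_univ_four])
      (by rw [polar_neg_right, hp]; simp)
    rw [one_smul, hp, show (bU 3 : Fin 4 → F) ⬝ᵥ (GB c d *ᵥ bU 0) = 1 by
      simp [bU, GB, Matrix.mulVec, dotProduct, Fin.sum_univ_four]] at h
    simpa using h
  have hfull : OmegaStabTools.Full M u := by
    intro w hu' hw
    suffices w ∈ Y from this.2 _ _
    have hw23 : w (2, 3) = 0 := by
      rw [hs.pol] at hw
      simpa [u, tp, aU, bU, GA, GB, Matrix.mulVec, dotProduct, Fintype.sum_prod_type, Fin.sum_univ_four,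
        Fin.sum_univ_three] using hw
    have e : w = w (0, 0) • tp (aU 0) (bU 0) + w (0, 3) • tp (aU 0) (bU 3) +
        tp (aU 0) (-(-(w (0, 1) * c) / c) • bU 1 + -(-(w (0, 2) * d) / d) • bU 2) +
        w (1, 0) • tp (aU 1) (bU 0) + w (1, 3) • tp (aU 1) (bU 3) +
        tp (aU 1) (-(-(w (1, 1) * c) / c) • bU 1 + -(-(w (1, 2) * d) / d) • bU 2) +
        w (2, 0) • tp (aU 2) (bU 0) + tp (aU 2) (w (2, 1) • bU 1 + w (2, 2) • bU 2) := by
      funext ⟨i, j⟩
      fin_cases i <;> fin_cases j <;> simp [tp, aU, bU, hw23] <;> field_simp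
    rw [e]
    exact add_mem (add_mem (add_mem (add_mem (add_mem (add_mem (add_mem (hA0 _) (hA3 _)) (hA12 _ _)) (hB0 _))
      (hB3 _)) (hB12 _ _)) ⟨by rw [polar_smul_right, hp, hb00]; simp, R2 _⟩) (hC _ _)
  obtain ⟨k, hk, hkm⟩ := (inM_wA hs hM).mul (inM_wB hs hM)
  have hku : k.1 u = ((-(2 : F)) * (-(2 * c))) • tp (aU 2) (bU 3) := by
    rw [← mt_mulVec, hkm, ← Matrix.mul_kronecker_mul, mul_one, one_mul, kron_tp, wA_a0 h2, wB_b0 hc h2,
      tp_smul_left, tp_smul_right, smul_smul]
  refine OmegaStabTools.commutator_le_of_full hs.nondeg (by simp) hu (f := k.1 u) (by rw [map_orth k, hu]) ?_ hfull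
    (hfull.of_mem hk)
  rw [hku, polar_smul_right, hp]
  simp [bU, GB, Matrix.mulVec, dotProduct, Fin.sum_univ_four, h2, hc]

end Main

end Cfsg.Agent.OrthUnitaryTensorThreeFour
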