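import Cfsg.Agent.Lib.OrthUnitaryTensorThreeFourStab
import Cfsg.Agent.Lib.OrthUnitaryTensorThreeFourRoot

/-!
An element of the overgroup that carries a unipotent element of the second factor to a tensor is a tensor.
-/

set_option autoImplicit false
set_option linter.unusedSectionVars false

namespace Cfsg.Agent.OrthUnitaryTensorThreeFour

open QuadraticMap Module
open scoped Matrix MatrixGroups Kronecker
open Cfsg.Agent.OrthUnitaryQuad Cfsg.Agent.OrthUnitaryPrelude Cfsg.Agent.TensorMax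

variable {F : Type*} [Field F] {q : QuadraticForm F (I → F)} {c d : F}

theorem kron_pow (a : A3 F) (b : Matrix (Fin 4) (Fin 4) F) (n : ℕ) : (a ⊗ₖ b) ^ n = (a ^ n) ⊗ₖ (b ^ n) := by
  induction n with
  | zero => simp
  | succ n ih => rw [pow_succ, pow_succ, pow_succ, ih, Matrix.mul_kronecker_mul]

theorem kron_mulVec_col (a : A3 F) (b : Matrix (Fin 4) (Fin 4) F) (v : I → F) (i : Fin 3) (j : Fin 4) :
    ((a ⊗ₖ b) *ᵥ v) (i, j) = ∑ k, a i k * ∑ l, b j l * v (k, l) := by
  simp only [Matrix.mulVec, dotProduct, Fintype.sum_prod_type, Matrix.kroneckerMap_apply, Finset.mul_sum]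
  exact Finset.sum_congr rfl fun _ _ => Finset.sum_congr rfl fun _ _ => by ring

/-- A unipotent matrix `a` with one block has at most four independent fixed vectors in `a ⊗ b`. -/
theorem fixed_inj {N : A3 F} {b b' : Matrix (Fin 4) (Fin 4) F} (hb : b' * b = 1) (hN : N ^ 3 = 0)
    {u : Fin 3 → F} {i0 : Fin 3} (hu : (N ^ 2 *ᵥ u) i0 ≠ 0) {v : I → F} (hv : ((1 + N) ⊗ₖ b) *ᵥ v = v)
    (h0 : ∀ j, v (i0, j) = 0) : v = 0 := by
  set T : M12 F := N ⊗ₖ (1 : Matrix (Fin 4) (Fin 4) F) with hT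
  have hTU : ∀ w, ((1 + N) ⊗ₖ b) *ᵥ w = w → T *ᵥ w = ((1 : A3 F) ⊗ₖ (b' - 1)) *ᵥ w := fun w hw => by
    have e : ((1 + N) ⊗ₖ (1 : Matrix (Fin 4) (Fin 4) F)) *ᵥ w = ((1 : A3 F) ⊗ₖ b') *ᵥ w := by
      conv_rhs => rw [← hw, Matrix.mulVec_mulVec, ← Matrix.mul_kronecker_mul, one_mul, hb]
    rw [Matrix.add_kronecker, Matrix.one_kronecker_one, Matrix.add_mulVec, Matrix.one_mulVec, ← hT] at e
    rw [show (1 : A3 F) ⊗ₖ (b' - 1) = (1 : A3 F) ⊗ₖ b' - 1 from eq_sub_of_add_eq (by
        rw [← Matrix.one_kronecker_one, ← Matrix.kronecker_add, sub_add_cancel]), Matrix.sub_mulVec, Matrix.one_mulVec, ← e]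
    abel
  have hW : ∀ w, ((1 + N) ⊗ₖ b) *ᵥ w = w → (∀ j, w (i0, j) = 0) →
      ((1 + N) ⊗ₖ b) *ᵥ (T *ᵥ w) = T *ᵥ w ∧ ∀ j, (T *ᵥ w) (i0, j) = 0 := fun w hw h => by
    constructor
    · have hc : ((1 + N) ⊗ₖ b) * T = T * ((1 + N) ⊗ₖ b) := by
        rw [hT, ← Matrix.mul_kronecker_mul, ← Matrix.mul_kronecker_mul, mul_one, one_mul,
          show (1 + N) * N = N * (1 + N) by noncomm_ring]
      rw [Matrix.mulVec_mulVec, hc, ← Matrix.mulVec_mulVec, hw]
    · intro j
      rw [hTU w hw, kron_mulVec_col]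
      simp [Matrix.one_apply, h]
  have hker : ∀ w, T *ᵥ w = 0 → (∀ j, w (i0, j) = 0) → w = 0 := by
    intro w hw h
    funext ⟨i, j⟩
    set z : Fin 3 → F := fun k => w (k, j) with hz
    have hNz : N *ᵥ z = 0 := funext fun k => by
      have := congrFun hw (k, j)
      rw [hT, kron_mulVec_col] at this
      simpa [Matrix.one_apply, hz, Matrix.mulVec, dotProduct] using this
    have n2 : N * N = N ^ 2 := (pow_two N).symm
    have n3 : N ^ 2 * N = 0 := by rw [← pow_succ, hN]
    have n3' : N * N ^ 2 = 0 := by rw [← pow_succ', hN]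
    have n4 : N ^ 2 * N ^ 2 = 0 := by rw [pow_two, mul_assoc, ← mul_assoc N N N, n2, n3, mul_zero]
    have hind : LinearIndependent F ![u, N *ᵥ u, N ^ 2 *ᵥ u] := by
      rw [Fintype.linearIndependent_iff]
      intro g hg
      simp only [Fin.sum_univ_three, Matrix.cons_val_zero, Matrix.cons_val_one, Matrix.cons_val_two, Matrix.tail_cons,
        Matrix.head_cons] at hg
      have h3 : N ^ 2 *ᵥ u ≠ 0 := fun e => hu (by rw [e]; rfl)
      have e1 := congrArg (fun x => N ^ 2 *ᵥ x) hg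
      simp only [Matrix.mulVec_add, Matrix.mulVec_smul, Matrix.mulVec_mulVec, Matrix.mulVec_zero,
        n3, n4, Matrix.zero_mulVec, smul_zero, add_zero] at e1
      have g0 : g 0 = 0 := by simpa [h3] using e1
      simp only [g0, zero_smul, zero_add] at hg
      have e2 := congrArg (fun x => N *ᵥ x) hg
      simp only [Matrix.mulVec_add, Matrix.mulVec_smul, Matrix.mulVec_mulVec, Matrix.mulVec_zero, n2, n3',
        Matrix.zero_mulVec, smul_zero, add_zero] at e2
      have g1 : g 1 = 0 := by simpa [h3] using e2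
      simp only [g1, zero_smul, zero_add] at hg
      intro k
      fin_cases k
      · exact g0
      · exact g1
      · simpa [h3] using hg
    obtain ⟨g, hg⟩ := (Submodule.mem_span_range_iff_exists_fun F).1
      ((hind.span_eq_top_of_card_eq_finrank (by simp)).symm ▸ Submodule.mem_top (x := z))
    simp only [Fin.sum_univ_three, Matrix.cons_val_zero, Matrix.cons_val_one, Matrix.cons_val_two, Matrix.tail_cons,
      Matrix.head_cons] at hg
    have e1 := congrArg (fun x => N *ᵥ x) hg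
    simp only [Matrix.mulVec_add, Matrix.mulVec_smul, Matrix.mulVec_mulVec, hNz, n2, n3',
      Matrix.zero_mulVec, smul_zero, add_zero] at e1
    have hind2 := Fintype.linearIndependent_iff.1 hind ![0, g 0, g 1] (by simpa [Fin.sum_univ_three] using e1)
    have g0 : g 0 = 0 := by simpa using hind2 1
    have g1 : g 1 = 0 := by simpa using hind2 2
    rw [g0, g1, zero_smul, zero_smul, zero_add, zero_add] at hg
    have e3 := congrFun hg i0
    simp only [Pi.smul_apply, smul_eq_mul, hz, h, mul_eq_zero, hu, or_false] at e3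
    have := congrFun hg i
    simpa [e3, hz] using this.symm
  obtain ⟨f1, z1⟩ := hW v hv h0
  obtain ⟨-, z2⟩ := hW _ f1 z1
  have h3 : T *ᵥ (T *ᵥ (T *ᵥ v)) = 0 := by
    rw [Matrix.mulVec_mulVec, Matrix.mulVec_mulVec, hT, ← Matrix.mul_kronecker_mul, ← Matrix.mul_kronecker_mul,
      show N * N * N = N ^ 3 by noncomm_ring, hN, Matrix.zero_kronecker, Matrix.zero_mulVec]
  exact hker v (hker _ (hker _ h3 z2) z1) h0

variable [Fintype F] {M : Subgroup (orth q)} (hs : Std q c d) (hM : HM q M)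
include hs

theorem unipotent_factor {p : ℕ} [Fact p.Prime] [CharP F p] (a : A3 F) (b : Matrix (Fin 4) (Fin 4) F)
    (hy : Iso c d (a ⊗ₖ b)) (hp : (a ⊗ₖ b) ^ p = 1) : ∃ (N : A3 F) (b1 b1' : Matrix (Fin 4) (Fin 4) F),
      a ⊗ₖ b = (1 + N) ⊗ₖ b1 ∧ b1' * b1 = 1 ∧ N ^ 3 = 0 ∧ (N ^ 2 = 0 → N = 0) := by
  haveI := NeZero.mk hs.two
  rw [kron_pow] at hp
  have hbl : ∀ j k, (b ^ p) j k • a ^ p = if j = k then (1 : A3 F) else 0 := fun j k => by
    rw [← blk_kron, hp, blk_one]
  have hne : (b ^ p) 0 0 ≠ 0 := fun h => by simpa [h] using hbl 0 0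
  have hap : a ^ p = ((b ^ p) 0 0)⁻¹ • 1 := by
    rw [eq_inv_smul_iff₀ hne]; simpa using hbl 0 0
  have hbp : b ^ p = (b ^ p) 0 0 • 1 := by
    ext j k
    have := congrFun (congrFun (hbl j k) 0) 0
    rw [hap] at this
    by_cases hjk : j = k
    · subst hjk
      simp at this ⊢
      field_simp at this
      exact this
    · simp [hjk] at this ⊢
      exact this.resolve_right hne
  obtain ⟨μ, hμ⟩ : ∃ μ : F, μ ^ p = (b ^ p) 0 0 :=
    ⟨(frobeniusEquiv F p).symm _, (frobeniusEquiv F p).apply_symm_apply _⟩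
  have hμ0 : μ ≠ 0 := fun h => hne (by rw [← hμ, h, zero_pow (Fact.out : p.Prime).ne_zero])
  set a1 := μ • a with ha1
  set b1 := μ⁻¹ • b with hb1
  have hab : a ⊗ₖ b = a1 ⊗ₖ b1 := by
    rw [ha1, hb1, Matrix.smul_kronecker, Matrix.kronecker_smul, smul_smul, mul_inv_cancel₀ hμ0, one_smul]
  have ha1p : a1 ^ p = 1 := by rw [ha1, smul_pow, hap, hμ, smul_smul, mul_inv_cancel₀ hne, one_smul]
  have hb1p : b1 ^ p = 1 := by rw [hb1, smul_pow, hbp, inv_pow, hμ, smul_smul, inv_mul_cancel₀ hne, one_smul]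
  rw [hab] at hy
  obtain ⟨s, hsa⟩ : ∃ s : F, st a1 * a1 = s • 1 := by
    have h := congrArg (fun g => GA * blk g 0 3) hy
    simp only [blk_gram_mul, gram_blk, blk_kron, ← mul_assoc, Matrix.mul_smul, Matrix.smul_mul, st_smul, GA_mul_GA,
      one_mul, smul_smul, ← add_smul] at h
    simp [GB] at h
    set k := b1 3 3 * b1 0 0 + c * (b1 1 3 * b1 1 0) + d * (b1 2 3 * b1 2 0) + b1 0 3 * b1 3 0 with hk
    refine ⟨k⁻¹, ?_⟩
    have hk0 : k ≠ 0 := fun h0 => by
      have : (1 : A3 F) = 0 := by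
        rw [← h, ← zero_smul F (st a1 * a1), ← h0, hk]
        congr 1
        ring
      exact one_ne_zero this
    rw [eq_inv_smul_iff₀ hk0, ← h, hk]
    congr 1
    ring
  have hs1 : s = 1 := by
    have hcomm : Commute (st a1) a1 := by
      have h9 : s ≠ 0 := fun h => by
        rw [h, zero_smul] at hsa
        have hp' : 1 ≤ p := (Fact.out : p.Prime).one_le
        have e : a1 * a1 ^ (p - 1) = 1 := by rw [← pow_succ', Nat.sub_add_cancel hp', ha1p]
        have := congrArg (fun X => X * a1 ^ (p - 1)) hsa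
        simp only [mul_assoc, e, mul_one, zero_mul] at this
        have := congrArg st this
        rw [st_st, st_zero] at this
        rw [this, zero_pow (Fact.out : p.Prime).ne_zero] at ha1p
        exact zero_ne_one ha1p
      have h' : (s⁻¹ • st a1) * a1 = 1 := by rw [Matrix.smul_mul, hsa, smul_smul, inv_mul_cancel₀ h9, one_smul]
      have h8 := congrArg (fun Z => s • Z) (mul_eq_one_comm.1 h')
      simp only [Matrix.mul_smul, smul_smul, mul_inv_cancel₀ h9, one_smul] at h8
      exact hsa.trans h8.symm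
    have hst : ∀ n : ℕ, (st a1) ^ n = st (a1 ^ n) := fun n => by
      induction n with
      | zero => simp [st_one]
      | succ n ih => rw [pow_succ, pow_succ', ih, st_mul]
    have := congrArg (fun Z => Z ^ p) hsa
    simp only [hcomm.mul_pow, hst, ha1p, st_one, one_mul, smul_pow, one_pow] at this
    have e := congrFun (congrFun this 0) 0
    simp at e
    exact frobenius_inj F p (by simp [frobenius_def, ← e])
  subst hs1
  rw [one_smul] at hsa
  set N := a1 - 1 with hN
  have hNp : N ^ p = 0 := by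
    haveI : CharP (A3 F) p := Matrix.charP p
    rw [hN, sub_pow_char_of_commute _ (Commute.one_right a1), one_pow, ha1p, sub_self]
  have hN3 : N ^ 3 = 0 := by
    have h := (Matrix.isNilpotent_charpoly_sub_pow_of_isNilpotent ⟨p, hNp⟩).eq_zero
    rw [sub_eq_zero] at h
    have := Matrix.aeval_self_charpoly N
    rw [h] at this
    simpa using this
  refine ⟨N, b1, b1 ^ (p - 1), by rw [hab, hN, add_sub_cancel],
    by rw [← pow_succ, Nat.sub_add_cancel (Fact.out : p.Prime).one_le, hb1p], hN3, fun h2 => ?_⟩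
  have hskew : st N = -N := by
    have e1 : (1 + st N) * (1 + N) = 1 := by
      rw [hN, st_sub, st_one, add_sub_cancel, add_sub_cancel, hsa]
    have e2 : (1 + N) * (1 - N) = 1 := by
      rw [mul_sub, mul_one, add_mul, one_mul, ← pow_two, h2]; abel
    have := congrArg (fun Z => Z * (1 - N)) e1
    simp only [mul_assoc, e2, mul_one, one_mul] at this
    linear_combination (norm := abel) this
  obtain ⟨α, β, γ, e⟩ := exists_sk hs.two hskew
  rw [e, pow_two] at h2
  have h00 := congrFun (congrFun h2 0) 0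
  have h02 := congrFun (congrFun h2 0) 2
  have h20 := congrFun (congrFun h2 2) 0
  simp [sk, Matrix.mul_apply, Fin.sum_univ_three, Matrix.vecMul, dotProduct] at h02 h20
  subst h02 h20
  simp [sk, Matrix.mul_apply, Fin.sum_univ_three, Matrix.vecMul, dotProduct] at h00
  subst h00
  rw [e]
  ext i j
  fin_cases i <;> fin_cases j <;> simp [sk]

include hM

/-- Fusion. -/
theorem fusion_kron (hle : M ≤ commutator (orth q))
    (hR : ∀ {X Y E : A3 F}, InM q M (rs c d X Y E) → ∃ x y, rs c d X Y E = (1 : A3 F) ⊗ₖ eB c d x y)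
    {g k : orth q} {x y : F} (hg : g ∈ M) (hk : mt q k = (1 : A3 F) ⊗ₖ eB c d x y) (hxy : x ≠ 0 ∨ y ≠ 0)
    (h : ∃ a b, mt q (g⁻¹ * k * g) = a ⊗ₖ b) : ∃ a b, mt q g = a ⊗ₖ b := by
  haveI := NeZero.mk hs.two
  have hc := hs.c_ne
  have hd := hs.d_ne
  obtain ⟨a, b, hab⟩ := h
  obtain ⟨p, hchar⟩ := CharP.exists F
  haveI := hchar
  haveI : Fact p.Prime := ⟨CharP.char_is_prime F p⟩
  haveI : CharP (M12 F) p := Matrix.charP p
  have hconj : mt q g * (a ⊗ₖ b) = ((1 : A3 F) ⊗ₖ eB c d x y) * mt q g := by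
    rw [← hab, ← hk, ← map_mul, ← map_mul, mul_assoc g⁻¹ k g, mul_inv_cancel_left]
  have heBn : ∀ n : ℕ, eB c d x y ^ n = eB c d ((n : F) * x) ((n : F) * y) := fun n => by
    induction n with
    | zero => simp [eB_zero]
    | succ n ih => rw [pow_succ, ih, eB_add hs.two]; push_cast; ring_nf
  have hyp : (a ⊗ₖ b) ^ p = 1 := by
    have hkp : k ^ p = 1 := mt_injective (by
      rw [map_pow, hk, kron_pow, one_pow, heBn, CharP.cast_eq_zero, zero_mul, zero_mul, eB_zero,
        Matrix.one_kronecker_one, map_one])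
    rw [← hab, ← map_pow, show (g⁻¹ * k * g) ^ p = 1 by
      rw [show g⁻¹ * k * g = MulAut.conj g⁻¹ k by simp, ← map_pow, hkp, map_one], map_one]
  obtain ⟨N, b1, b1', e1, hb1, hN3, hN2⟩ := unipotent_factor hs a b (hab ▸ mt_iso hs _) hyp
  rw [e1] at hconj
  have hN : N = 0 := by
    refine hN2 (by_contra fun h2 => ?_)
    obtain ⟨u, hu⟩ : ∃ u : Fin 3 → F, N ^ 2 *ᵥ u ≠ 0 := by
      by_contra hh
      push Not at hh
      exact h2 (Matrix.ext_of_mulVec_single fun i => by rw [hh, Matrix.zero_mulVec])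
    obtain ⟨i0, hi0⟩ := Function.ne_iff.1 hu
    let ψ : (Fin 3 × Fin 2 → F) →ₗ[F] (I → F) :=
      { toFun := fun v p => ![v (p.1, 0), v (p.1, 1) * y, -(v (p.1, 1) * x), 0] p.2
        map_add' := fun v w => by funext ⟨i, j⟩; fin_cases j <;> simp <;> ring
        map_smul' := fun r v => by funext ⟨i, j⟩; fin_cases j <;> simp <;> ring }
    have hψ : ∀ v, ((1 : A3 F) ⊗ₖ eB c d x y) *ᵥ ψ v = ψ v := fun v => by
      funext ⟨i, j⟩
      rw [kron_mulVec_col]
      fin_cases j <;> simp [ψ, Matrix.one_apply, eB, Fin.sum_univ_four] <;> ring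
    have hψi : Function.Injective ψ := by
      intro v w e
      funext ⟨i, j⟩
      have h0 : v (i, 0) = w (i, 0) := congrFun e (i, 0)
      have hy' : v (i, 1) * y = w (i, 1) * y := congrFun e (i, 1)
      have hx' : -(v (i, 1) * x) = -(w (i, 1) * x) := congrFun e (i, 2)
      have h1 : v (i, 1) = w (i, 1) := by
        rcases hxy with hx | hy
        · exact mul_right_cancel₀ hx (neg_inj.1 hx')
        · exact mul_right_cancel₀ hy hy'
      fin_cases j
      · exact h0
      · exact h1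
    let P : (I → F) →ₗ[F] (Fin 4 → F) :=
      { toFun := fun v j => v (i0, j), map_add' := fun _ _ => rfl, map_smul' := fun _ _ => rfl }
    let Φ := P.comp ((Matrix.mulVecLin (mt q g⁻¹)).comp ψ)
    have hΦ : Function.Injective Φ := by
      rw [← LinearMap.ker_eq_bot, LinearMap.ker_eq_bot']
      intro v hv
      have hfix : ((1 + N) ⊗ₖ b1) *ᵥ (mt q g⁻¹ *ᵥ ψ v) = mt q g⁻¹ *ᵥ ψ v := by
        rw [Matrix.mulVec_mulVec, show ((1 + N) ⊗ₖ b1) * mt q g⁻¹ = mt q g⁻¹ * ((1 : A3 F) ⊗ₖ eB c d x y) by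
          calc ((1 + N) ⊗ₖ b1) * mt q g⁻¹ = mt q g⁻¹ * (mt q g * ((1 + N) ⊗ₖ b1)) * mt q g⁻¹ := by
                rw [← mul_assoc (mt q g⁻¹), mt_inv_mul, one_mul]
            _ = _ := by rw [hconj, mul_assoc, mul_assoc, mt_mul_inv, mul_one],
          ← Matrix.mulVec_mulVec, hψ]
      have h0 := fixed_inj hb1 hN3 hi0 hfix (fun j => congrFun hv j)
      refine hψi ?_
      rw [map_zero]
      have := congrArg (fun w => mt q g *ᵥ w) h0
      simpa [Matrix.mulVec_mulVec, mt_mul_inv] using this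
    simpa using LinearMap.finrank_le_finrank_of_injective hΦ
  subst hN
  rw [add_zero] at hconj
  set G := mt q g with hG
  set k0 : F := -(x * x / c + y * y / d)
  set E03 : Matrix (Fin 4) (Fin 4) F := Matrix.single 0 3 1 with hE03
  have hk0 : k0 ≠ 0 := by
    intro h0
    obtain ⟨hx, hy⟩ := hs.aniso (x / c) (y / d) (by
      simp only [k0, neg_eq_zero] at h0
      rw [← h0]; field_simp)
    simp [hc, hd] at hx hy
    exact hxy.elim (fun h => h hx) (fun h => h hy)
  have hsq : (eB c d x y - 1) ^ 2 = k0 • E03 := by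
    rw [pow_two]
    ext i j
    fin_cases i <;> fin_cases j <;>
      simp [eB, E03, k0, Matrix.mul_apply, Fin.sum_univ_four, Matrix.single, Matrix.one_apply] <;> ring
  set W := (b1 - 1) ^ 2 with hW
  have hGW : G * ((1 : A3 F) ⊗ₖ W) = ((1 : A3 F) ⊗ₖ (k0 • E03)) * G := by
    have hm : ∀ Z Z' : Matrix (Fin 4) (Fin 4) F, G * ((1 : A3 F) ⊗ₖ Z) = ((1 : A3 F) ⊗ₖ Z') * G →
        G * ((1 : A3 F) ⊗ₖ (Z - 1)) = ((1 : A3 F) ⊗ₖ (Z' - 1)) * G := fun Z Z' e => by
      have hsub : ∀ Z : Matrix (Fin 4) (Fin 4) F, (1 : A3 F) ⊗ₖ (Z - 1) = (1 : A3 F) ⊗ₖ Z - 1 := fun Z =>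
        eq_sub_of_add_eq (by rw [← Matrix.one_kronecker_one, ← Matrix.kronecker_add, sub_add_cancel])
      rw [hsub, hsub, mul_sub, sub_mul, e, mul_one, one_mul]
    have e2 := hm _ _ hconj
    rw [← hsq, hW, pow_two, pow_two, ← one_mul (1 : A3 F), Matrix.mul_kronecker_mul, Matrix.mul_kronecker_mul,
      ← mul_assoc, e2, mul_assoc, e2, ← mul_assoc]
  obtain ⟨l, hl⟩ : ∃ l, ∃ i, W i l ≠ 0 := by
    by_contra hh
    push Not at hh
    rw [show W = 0 from Matrix.ext fun i j => hh j i, Matrix.kronecker_zero, mul_zero] at hGW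
    have h0 := congrArg (fun Z => Z * mt q g⁻¹) hGW
    simp only [zero_mul, mul_assoc, hG, mt_mul_inv, mul_one] at h0
    have := congrFun (congrFun h0 (0, 0)) (0, 3)
    simp [E03, Matrix.single] at this
    exact hk0 this.symm
  set w : Fin 4 → F := fun i => W i l with hw_def
  have hwG : ∀ j : Fin 4, j ≠ 0 → ∑ t, w t • blk G j t = 0 := fun j hj => by
    have := congrArg (fun Z => blk Z j l) hGW
    simp only [blk_mul, blk_kron, Matrix.smul_apply, smul_eq_mul, E03, Matrix.single, Matrix.of_apply, Matrix.mul_smul,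
      Matrix.smul_mul, mul_one, one_mul] at this
    rw [this]
    simp [hj.symm]
  have hsing : w ⬝ᵥ (GB c d *ᵥ w) = 0 := by
    have himg : ∀ p : I, p.2 ≠ 0 → (G *ᵥ tp (aU 1) w) p = 0 := fun p hp => by
      have := congrFun (congrFun (hwG p.2 hp) p.1) 1
      simp only [Matrix.sum_apply, Matrix.smul_apply, blk, Matrix.of_apply, smul_eq_mul, Matrix.zero_apply] at this
      rw [← this]
      simp [Matrix.mulVec, dotProduct, Fintype.sum_prod_type, tp, aU, Fin.sum_univ_three, mul_comm]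
    have h1 := iso_dot G (mt_iso hs g) (tp (aU 1) w) (tp (aU 1) w)
    rw [← hs.pol, ← hs.pol, hs.polar_tp] at h1
    set z := G *ᵥ tp (aU 1) w with hz
    have hz2 : z = tp (fun i => z (i, 0)) (bU 0) := by
      funext ⟨i, j⟩
      fin_cases j <;> simp [tp, bU] <;> exact himg _ (by simp)
    rw [hz2, hs.polar_tp] at h1
    simpa [bU, aU, GA, GB, Matrix.mulVec, dotProduct, Fin.sum_univ_four, Fin.sum_univ_three] using h1.symm
  have hw0 : w ≠ 0 := fun h => hl.elim fun i hi => hi (congrFun h i)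
  by_cases hw3 : w 3 = 0
  · have h12 : c * (w 1) ^ 2 + d * (w 2) ^ 2 = 0 := by
      simp [GB, Matrix.mulVec, dotProduct, Fin.sum_univ_four, hw3] at hsing
      linear_combination hsing
    obtain ⟨hw1, hw2⟩ := hs.aniso (w 1) (w 2) (by linear_combination h12)
    have hw00 : w 0 ≠ 0 := fun h => hw0 (by funext i; fin_cases i <;> assumption)
    have hz : ∀ j : Fin 4, j ≠ 0 → blk G j 0 = 0 := fun j hj => by
      have := hwG j hj
      simpa [Fin.sum_univ_four, hw1, hw2, hw3, hw00] using this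
    exact stab_kron hs hM hle hR hg (hz 1 (by decide)) (hz 2 (by decide)) (hz 3 (by decide))
  · set x' := -(c * w 1 / w 3) with hx'
    set y' := -(d * w 2 / w 3) with hy'
    obtain ⟨k1, hk1, hk1m⟩ := (inM_eB hs hM x' y').mul (inM_wB hs hM)
    set K : Matrix (Fin 4) (Fin 4) F := eB c d x' y' * wB c d with hK
    set K' : Matrix (Fin 4) (Fin 4) F := eB c d (-1) 0 * fB c d (-(2 * c)) 0 * eB c d (-1) 0 * eB c d (-x') (-y')
      with hK'
    have hKK : K * K' = 1 := by
      have h1 : eB c d 1 0 * eB c d (-1) 0 = 1 := by rw [eB_add hs.two, add_neg_cancel, add_zero, eB_zero]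
      have h2 : fB c d (2 * c) 0 * fB c d (-(2 * c)) 0 = 1 := by
        rw [fB_add hs.two, add_neg_cancel, add_zero]
        ext i j; fin_cases i <;> fin_cases j <;> simp [fB]
      have h3 : eB c d x' y' * eB c d (-x') (-y') = 1 := by
        rw [eB_add hs.two, add_neg_cancel, add_neg_cancel, eB_zero]
      calc K * K' = eB c d x' y' * (eB c d 1 0 * (fB c d (2 * c) 0 * (eB c d 1 0 * eB c d (-1) 0) *
            fB c d (-(2 * c)) 0) * eB c d (-1) 0) * eB c d (-x') (-y') := by
            simp only [hK, hK', wB, mul_assoc]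
        _ = 1 := by rw [h1, mul_one, h2, mul_one, h1, mul_one, h3]
    rw [← Matrix.mul_kronecker_mul, one_mul, ← hK] at hk1m
    have hcol : ∀ t, K t 0 = (-(2 * c)) / w 3 * w t := by
      intro t
      have e := congrFun (wB_b0 (c := c) (d := d) hc hs.two) t
      have hK0 : K t 0 = (-(2 * c)) * bS c d x' y' t := by
        have : K *ᵥ bU 0 = (-(2 * c)) • bS c d x' y' := by
          rw [hK, ← Matrix.mulVec_mulVec, wB_b0 hc hs.two, Matrix.mulVec_smul]; rfl
        have := congrFun this t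
        simpa [bU, Matrix.mulVec_single] using this
      rw [hK0, bS]
      simp [GB, Matrix.mulVec, dotProduct, Fin.sum_univ_four] at hsing
      have h2 := hs.two
      fin_cases t <;> simp [eB, bU, Matrix.mulVec, dotProduct, Fin.sum_univ_four, hx', hy'] <;> field_simp
      linear_combination hsing
    have hz : ∀ j : Fin 4, j ≠ 0 → blk (mt q (g * k1)) j 0 = 0 := fun j hj => by
      rw [map_mul, hk1m, blk_mul, ← hG]
      simp only [blk_kron, hcol, Matrix.mul_smul, mul_one, ← smul_smul, ← Finset.smul_sum, hwG j hj, smul_zero]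
    obtain ⟨a2, b2, h2⟩ := stab_kron hs hM hle hR (M.mul_mem hg hk1) (hz 1 (by decide)) (hz 2 (by decide))
      (hz 3 (by decide))
    refine ⟨a2, b2 * K', ?_⟩
    rw [map_mul, hk1m] at h2
    calc G = G * ((1 : A3 F) ⊗ₖ K) * ((1 : A3 F) ⊗ₖ K') := by
          rw [mul_assoc, ← Matrix.mul_kronecker_mul, one_mul, hKK, Matrix.one_kronecker_one, mul_one]
      _ = _ := by rw [h2, ← Matrix.mul_kronecker_mul, mul_one]

end Cfsg.Agent.OrthUnitaryTensorThreeFour
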