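import Cfsg.Agent.Lib.OrthUnitaryTensorThreeFourTrace
import Cfsg.Agent.Lib.TensorMaxQuadGlue
import Cfsg.Agent.Lib.QuadClassify

/-!
The stabiliser of a tensor decomposition of a three-space and a four-space of minus type is maximal in Omega.
-/

set_option autoImplicit false
set_option linter.unusedSectionVars false

namespace Cfsg.Agent.OrthUnitaryTensorThreeFour

open QuadraticMap Module
open scoped Matrix MatrixGroups Kronecker
open Cfsg.Agent.OrthUnitaryQuad Cfsg.Agent.OrthUnitaryPrelude Cfsg.Agent.OmegaGeo Cfsg.Agent.TensorMax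

variable {F : Type*} [Field F] [Fintype F]

section Core

variable {q : QuadraticForm F (I → F)} {c d : F} (hs : Std q c d) (hq : 5 ≤ Fintype.card F)
include hs hq

/-- An overgroup consists of tensors or contains the commutator group. -/
theorem kron_or_full {M : Subgroup (orth q)} (hM : HM q M) (hle : M ≤ commutator (orth q)) :
    (∀ g ∈ M, ∃ a b, mt q g = a ⊗ₖ b) ∨ commutator (orth q) ≤ M := by
  classical
  by_cases hP : ∀ E ∈ Pure q M c d, E = 0
  · obtain ⟨s, hs0, hs1⟩ : ∃ s : F, s ≠ 0 ∧ s * s ≠ 1 := by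
      by_contra hh
      push Not at hh
      have hsub : (Finset.univ : Finset F) ⊆ {0, 1, -1} := fun s _ => by
        rcases eq_or_ne s 0 with h | h
        · simp [h]
        · rcases mul_self_eq_one_iff.1 (hh s h) with h' | h' <;> simp [h']
      have := (Finset.card_le_card hsub).trans Finset.card_le_three
      rw [Finset.card_univ] at this
      omega
    exact Or.inl fun g hg => all_kron hs hM hle (fun h => rs_mem_scalar hs hM hP ⟨s, hs0, hs1⟩ h) hq ⟨g, hg⟩
  · push Not at hP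
    obtain ⟨E, hE, h0⟩ := hP
    exact Or.inr (commutator_le_of_pure hs hM hE h0)

/-- There is an element of the commutator group outside the tensors. -/
theorem exists_not_kron : ∃ g ∈ commutator (orth q), ¬ ∃ a b, mt q g = a ⊗ₖ b := by
  obtain ⟨g, hg⟩ := exists_mt hs (iso_rs_pure (E := sk 0 1 0) hs (st_sk 0 1 0))
  refine ⟨g, rs_sq_comm hs hg, ?_⟩
  rintro ⟨a, b, hab⟩
  rw [hg] at hab
  have h00 : b 0 0 • a = 1 := by
    have := congrArg (fun Y => blk Y 0 0) hab
    simpa [rs, blk_mk, blk_kron] using this.symm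
  have h03 : b 0 3 • a = sk 0 1 0 := by
    have := congrArg (fun Y => blk Y 0 3) hab
    simpa [rs, blk_mk, blk_kron] using this.symm
  have e1 := congrFun (congrFun h00 0) 1
  have e2 := congrFun (congrFun h03 0) 1
  simp [sk] at e1 e2
  rcases e1 with h | h
  · exact one_ne_zero (h00.symm.trans (by rw [h, zero_smul]))
  · rw [h, mul_zero] at e2
    exact zero_ne_one e2

/-- Maximality in standard coordinates. -/
theorem isMaximalIn_std {ι : Type} [Fintype ι] [DecidableEq ι] (e : ι ≃ Fin 3 × Fin 4) (P : GL ι F)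
    (q₀ : QuadraticForm F (ι → F)) (h : q = q₀.comp (TensorMaxGlue.psi e P)) :
    Cfsg.Geo.IsMaximalIn (Cfsg.Geo.omegaGL ⇑q₀)
      (Cfsg.Geo.tensorProductSubgroup 3 4 e P ⊓ Cfsg.Geo.omegaGL ⇑q₀) := by
  subst h
  set q := q₀.comp (TensorMaxGlue.psi e P) with hqdef
  have hmem : ∀ (g : orth q) (a : A3 F) (b : Matrix (Fin 4) (Fin 4) F), mt q g = a ⊗ₖ b →
      toGL q g ∈ Cfsg.Geo.kroneckerSubgroup 3 4 F := fun g a b hab => by
    have hdet : (a ⊗ₖ b).det ≠ 0 := fun h0 => by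
      have h1 := congrArg Matrix.det (mt_mul_inv g)
      rw [Matrix.det_mul, hab, h0, zero_mul, Matrix.det_one] at h1
      exact zero_ne_one h1
    rw [Matrix.det_kronecker, mul_ne_zero_iff, pow_ne_zero_iff (by simp), pow_ne_zero_iff (by simp)] at hdet
    exact ⟨Matrix.GeneralLinearGroup.mkOfDetNeZero a hdet.1, Matrix.GeneralLinearGroup.mkOfDetNeZero b hdet.2, hab⟩
  have hback : ∀ g : orth q, toGL q g ∈ Cfsg.Geo.kroneckerSubgroup 3 4 F → ∃ a b, mt q g = a ⊗ₖ b :=
    fun g ⟨a, b, hab⟩ => ⟨_, _, hab⟩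
  refine TensorMaxGlue.isMaximalIn_of e P _ ?_ fun M' h1 h2 => ?_
  · obtain ⟨g, hg, hgk⟩ := exists_not_kron hs hq
    refine ⟨toGL q g, ?_, fun h => hgk (hback g h)⟩
    show toGL q g ∈ (Cfsg.Geo.omegaGL ⇑q₀).comap (TensorMaxGlue.phi e P).toMonoidHom
    rw [TensorMaxGlue.comap_omegaGL]
    exact toGL_mem hg
  · rw [TensorMaxGlue.comap_omegaGL, ← hqdef] at h1 h2 ⊢
    set M : Subgroup (orth q) := M'.comap (OmegaMaxGlue.glHom q) with hMdef
    have hinj : ∀ g g' : orth q, toGL q g = toGL q g' → g = g' := fun g g' hh =>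
      mt_injective (congrArg Units.val hh)
    have hle : M ≤ commutator (orth q) := fun g hg => by
      obtain ⟨g', hg', hgg⟩ := exists_of_mem_omegaGL (h2 hg)
      exact hinj _ _ hgg ▸ hg'
    have hM : HM q M := fun g hg ⟨a, b, hab⟩ => h1 ⟨hmem g a b hab, toGL_mem hg⟩
    rcases kron_or_full hs hq hM hle with hk | hfull
    · refine Or.inl fun x hx => ?_
      obtain ⟨g, hg, rfl⟩ := exists_of_mem_omegaGL (h2 hx)
      obtain ⟨a, b, hab⟩ := hk g hx
      exact hmem g a b hab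
    · refine Or.inr fun x hx => ?_
      obtain ⟨g, hg, rfl⟩ := exists_of_mem_omegaGL hx
      exact hfull hg

end Core

section Coordinates

theorem form_eq_dot {n : ℕ} {f : (Fin n → F) → (Fin n → F) → F} (hf : Cfsg.Geo.IsBilinearForm f) (x y : Fin n → F) :
    f x y = x ⬝ᵥ (Cfsg.Geo.gramMatrix f *ᵥ y) := by
  set B : (Fin n → F) →ₗ[F] (Fin n → F) →ₗ[F] F :=
    LinearMap.mk₂ F f hf.add_left hf.smul_left hf.add_right hf.smul_right
  have h : LinearMap.toMatrix₂' F B = Cfsg.Geo.gramMatrix f := by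
    ext i j
    rw [LinearMap.toMatrix₂'_apply]
    rfl
  rw [← Matrix.toLinearMap₂'_apply', ← h, Matrix.toLinearMap₂'_toMatrix']
  rfl

theorem gram_symm_det {n : ℕ} {f : (Fin n → F) → (Fin n → F) → F} (hf : Cfsg.Geo.IsSymmetricForm f) :
    (Cfsg.Geo.gramMatrix f)ᵀ = Cfsg.Geo.gramMatrix f ∧ (Cfsg.Geo.gramMatrix f).det ≠ 0 := by
  refine ⟨Matrix.ext fun i j => hf.symm _ _, fun h0 => ?_⟩
  obtain ⟨v, hv, hGv⟩ := Matrix.exists_mulVec_eq_zero_iff.2 h0
  obtain ⟨⟨x, hx⟩, -⟩ := hf.nondegenerate v hv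
  exact hx (by rw [form_eq_dot hf.bilinear, hGv, dotProduct_zero])

/-- The quadratic form with polar matrix `G`. -/
noncomputable def qOf {n : ℕ} (G : Matrix (Fin n) (Fin n) F) : QuadraticForm F (Fin n → F) :=
  LinearMap.BilinMap.toQuadraticMap ((2 : F)⁻¹ • Matrix.toLinearMap₂' F G)

theorem polar_qOf {n : ℕ} (h2 : (2 : F) ≠ 0) {G : Matrix (Fin n) (Fin n) F} (hG : Gᵀ = G) (x y : Fin n → F) :
    polar (qOf G) x y = x ⬝ᵥ (G *ᵥ y) := by
  rw [qOf, LinearMap.BilinMap.polar_toQuadraticMap]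
  simp only [LinearMap.smul_apply, Matrix.toLinearMap₂'_apply', smul_eq_mul]
  have e : y ⬝ᵥ (G *ᵥ x) = x ⬝ᵥ (G *ᵥ y) := by
    rw [Matrix.dotProduct_mulVec, ← Matrix.mulVec_transpose, hG, dotProduct_comm]
  rw [e]
  field_simp
  ring

theorem qOf_nondeg {n : ℕ} (h2 : (2 : F) ≠ 0) {G : Matrix (Fin n) (Fin n) F} (hG : Gᵀ = G) (hd : G.det ≠ 0) :
    QuadClassify.Nondeg (qOf G) ⊤ := by
  intro x _ hx
  by_contra h0
  refine hd (Matrix.exists_mulVec_eq_zero_iff.1 ⟨x, h0, funext fun i => ?_⟩)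
  have := hx (Pi.single i 1) trivial
  rw [polar_comm, polar_qOf h2 hG] at this
  simpa [single_dotProduct] using this

theorem gram_cols {n : ℕ} (G : Matrix (Fin n) (Fin n) F) (w : Fin n → Fin n → F) (i j : Fin n) :
    ((Matrix.of fun r s => w s r)ᵀ * G * (Matrix.of fun r s => w s r)) i j = w i ⬝ᵥ (G *ᵥ w j) := by
  simp only [Matrix.mul_apply, Matrix.transpose_apply, Matrix.of_apply, Matrix.mulVec, dotProduct, Finset.sum_mul,
    Finset.mul_sum]
  rw [Finset.sum_comm]
  exact Finset.sum_congr rfl fun _ _ => Finset.sum_congr rfl fun _ _ => by ring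

theorem exists_basis_three (h2 : (2 : F) ≠ 0) {G : A3 F} (hG : Gᵀ = G) (hd : G.det ≠ 0) :
    ∃ (A : A3 F) (α : F), α ≠ 0 ∧ A.det ≠ 0 ∧ Aᵀ * G * A = α • GA := by
  haveI := NeZero.mk h2
  have hn := qOf_nondeg h2 hG hd
  obtain ⟨u, -, hu0, hu⟩ := QuadClassify.exists_singular (qOf G) ⊤ (by simp)
  obtain ⟨f, -, hf, huf⟩ := QuadClassify.exists_partner _ hn Submodule.mem_top hu0 hu
  obtain ⟨hU, hdim⟩ := QuadClassify.pair_complement _ hn Submodule.mem_top Submodule.mem_top hu hf huf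
  set U := (⊤ : Submodule F (Fin 3 → F)) ⊓ LinearMap.ker (polarBilin (qOf G) u) ⊓
    LinearMap.ker (polarBilin (qOf G) f)
  rw [finrank_top, Module.finrank_fin_fun] at hdim
  obtain ⟨v, hv, hv0⟩ := Submodule.exists_mem_ne_zero_of_ne_bot (p := U) (fun hb => by rw [hb, finrank_bot] at hdim; omega)
  have huv : polar (qOf G) u v = 0 := hv.1.2
  have hfv : polar (qOf G) f v = 0 := hv.2
  set α := polar (qOf G) v v with hα_def
  have hα : α ≠ 0 := by
    intro h0
    refine hv0 (hU v hv fun w hw => ?_)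
    have hline : ∃ r : F, w = r • v := by
      have h1 : finrank F U = 1 := by omega
      obtain ⟨b, hb, hspan⟩ := finrank_eq_one_iff'.1 h1
      obtain ⟨r, hr⟩ := hspan ⟨v, hv⟩
      obtain ⟨r', hr'⟩ := hspan ⟨w, hw⟩
      have hr0 : r ≠ 0 := fun h => hv0 (by
        have := congrArg Subtype.val hr
        simpa [h] using this.symm)
      refine ⟨r' / r, ?_⟩
      have e1 : r • (b : Fin 3 → F) = v := congrArg Subtype.val hr
      have e2 : r' • (b : Fin 3 → F) = w := congrArg Subtype.val hr'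
      rw [← e1, ← e2, smul_smul, div_mul_cancel₀ _ hr0]
    obtain ⟨r, rfl⟩ := hline
    rw [polar_smul_right, ← hα_def, h0, smul_zero]
  set w : Fin 3 → Fin 3 → F := ![u, v, α • f] with hw
  have e : (Matrix.of fun r s => w s r)ᵀ * G * (Matrix.of fun r s => w s r) = α • GA := by
    ext i j
    rw [gram_cols, ← polar_qOf h2 hG]
    fin_cases i <;> fin_cases j <;>
      simp [hw, GA, QuadraticMap.map_smul, polar_smul_left, polar_smul_right, polar_self, hu, hf, huf, huv, hfv,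
        polar_comm (⇑(qOf G)) v u, polar_comm (⇑(qOf G)) v f, polar_comm (⇑(qOf G)) f u]
    all_goals (rw [hα_def, polar_self]; simp [two_mul])
  refine ⟨_, α, hα, fun h0 => ?_, e⟩
  have := congrArg Matrix.det e
  rw [Matrix.det_mul, Matrix.det_mul, h0, mul_zero, Matrix.det_smul] at this
  simp [GA, Matrix.det_fin_three, hα] at this

theorem exists_basis_four (h2 : (2 : F) ≠ 0) {G : Matrix (Fin 4) (Fin 4) F} (hG : Gᵀ = G) (hd : G.det ≠ 0)
    (hm : ∀ U : Submodule F (Fin 4 → F), (∀ z ∈ U, z ⬝ᵥ (G *ᵥ z) = 0) → finrank F U ≠ 2) :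
    ∃ (B : Matrix (Fin 4) (Fin 4) F) (c d : F), (∀ x y : F, c * x ^ 2 + d * y ^ 2 = 0 → x = 0 ∧ y = 0) ∧
      B.det ≠ 0 ∧ Bᵀ * G * B = GB c d := by
  haveI := NeZero.mk h2
  have hn := qOf_nondeg h2 hG hd
  obtain ⟨u, -, hu0, hu⟩ := QuadClassify.exists_singular (qOf G) ⊤ (by simp)
  obtain ⟨f, -, hf, huf⟩ := QuadClassify.exists_partner _ hn Submodule.mem_top hu0 hu
  obtain ⟨hU, hdim⟩ := QuadClassify.pair_complement _ hn Submodule.mem_top Submodule.mem_top hu hf huf
  set U := (⊤ : Submodule F (Fin 4 → F)) ⊓ LinearMap.ker (polarBilin (qOf G) u) ⊓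
    LinearMap.ker (polarBilin (qOf G) f)
  rw [finrank_top, Module.finrank_fin_fun] at hdim
  have han : ∀ z ∈ U, qOf G z = 0 → z = 0 := by
    intro z hz hqz
    by_contra hz0
    have huz : polar (qOf G) u z = 0 := hz.1.2
    refine hm (Submodule.span F (Set.range ![u, z])) (fun t ht => ?_) ?_
    · obtain ⟨g, rfl⟩ := (Submodule.mem_span_range_iff_exists_fun F).1 ht
      rw [← polar_qOf h2 hG]
      simp [Fin.sum_univ_two, QuadraticMap.map_add (⇑(qOf G)), QuadraticMap.map_smul, polar_add_left, polar_add_right, polar_smul_left, polar_smul_right, polar_self, hu, hqz,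
        huz, polar_comm (⇑(qOf G)) z u]
    · rw [finrank_span_eq_card (b := ![u, z]), Fintype.card_fin]
      rw [LinearIndependent.pair_iff' hu0]
      intro r hr
      have hfz : polar (qOf G) f z = 0 := hz.2
      rw [← hr, polar_smul_right, polar_comm, huf, smul_eq_mul, mul_one] at hfz
      exact hz0 (by rw [← hr, hfz, zero_smul])
  obtain ⟨v, hv, hv0⟩ := Submodule.exists_mem_ne_zero_of_ne_bot (p := U) (fun hb => by rw [hb, finrank_bot] at hdim; omega)
  obtain ⟨w', hw', hvw, hw0⟩ := QuadClassify.exists_mem_ker U (polarBilin (qOf G) v) (by omega)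
  have huv : polar (qOf G) u v = 0 := hv.1.2
  have hfv : polar (qOf G) f v = 0 := hv.2
  have huw : polar (qOf G) u w' = 0 := hw'.1.2
  have hfw : polar (qOf G) f w' = 0 := hw'.2
  have hvw' : polar (qOf G) v w' = 0 := hvw
  set c := polar (qOf G) v v with hc_def
  set d := polar (qOf G) w' w' with hd_def
  have hc : c ≠ 0 := fun h => hv0 (han v hv ((mul_eq_zero.1 (by
    rw [hc_def, polar_self, two_smul, ← two_mul] at h; exact h)).resolve_left h2))
  have haniso : ∀ x y : F, c * x ^ 2 + d * y ^ 2 = 0 → x = 0 ∧ y = 0 := by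
    intro x y hxy
    have hz : x • v + y • w' = 0 := han _ (U.add_mem (U.smul_mem x hv) (U.smul_mem y hw')) (by
      refine mul_left_cancel₀ h2 ?_
      rw [mul_zero, two_mul, ← two_smul ℕ, ← polar_self]
      simp only [polar_add_left, polar_add_right, polar_smul_left, polar_smul_right, hvw',
        polar_comm (⇑(qOf G)) w' v, ← hc_def, ← hd_def, smul_eq_mul]
      linear_combination hxy)
    have hx : x = 0 := by
      have := congrArg (fun t => polar (qOf G) v t) hz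
      simp [polar_add_right, polar_smul_right, hvw', ← hc_def, hc] at this
      exact this
    exact ⟨hx, by simpa [hx, hw0] using hz⟩
  set w : Fin 4 → Fin 4 → F := ![u, v, w', f] with hw
  have e : (Matrix.of fun r s => w s r)ᵀ * G * (Matrix.of fun r s => w s r) = GB c d := by
    ext i j
    rw [gram_cols, ← polar_qOf h2 hG]
    fin_cases i <;> fin_cases j <;>
      simp [hw, GB, ← hc_def, ← hd_def, polar_self, hu, hf, huf, huv, hfv, huw, hfw, hvw',
        polar_comm (⇑(qOf G)) v u, polar_comm (⇑(qOf G)) v f, polar_comm (⇑(qOf G)) f u,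
        polar_comm (⇑(qOf G)) w' u, polar_comm (⇑(qOf G)) w' f, polar_comm (⇑(qOf G)) w' v]
    all_goals first
      | (rw [hc_def, polar_self]; simp [two_mul])
      | (rw [hd_def, polar_self]; simp [two_mul])
  refine ⟨_, c, d, haniso, fun h0 => ?_, e⟩
  have := congrArg Matrix.det e
  rw [Matrix.det_mul, Matrix.det_mul, h0, mul_zero] at this
  have hd0 : d ≠ 0 := fun h => one_ne_zero (haniso 0 1 (by rw [h]; ring)).2
  simp [GB, Matrix.det_succ_row_zero, Fin.sum_univ_succ, Fin.succAbove, hc, hd0] at this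

end Coordinates

/-- The stabiliser of a decomposition `3 ⊗ 4⁻` is maximal. -/
theorem isMaximalIn {ι : Type} [Fintype ι] [DecidableEq ι] (q₀ : QuadraticForm F (ι → F)) (h2 : (2 : F) ≠ 0)
    (hq : 5 ≤ Fintype.card F) (e : ι ≃ Fin 3 × Fin 4) (P : GL ι F)
    (f₁ : (Fin 3 → F) → (Fin 3 → F) → F) (f₂ : (Fin 4 → F) → (Fin 4 → F) → F)
    (hf₁ : Cfsg.Geo.IsSymmetricForm f₁) (hf₂ : Cfsg.Geo.IsSymmetricForm f₂)
    (hm : ¬ Cfsg.Geo.IsPlusTypeOn (fun v : Fin 4 → F => f₂ v v) ⊤)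
    (hP : Cfsg.Geo.IsTensorFormStructure id (QuadraticMap.polar q₀) f₁ f₂ e P) :
    Cfsg.Geo.IsMaximalIn (Cfsg.Geo.omegaGL ⇑q₀)
      (Cfsg.Geo.tensorProductSubgroup 3 4 e P ⊓ Cfsg.Geo.omegaGL ⇑q₀) := by
  classical
  obtain ⟨c0, hc0, hP⟩ := hP
  obtain ⟨s1, d1⟩ := gram_symm_det hf₁
  obtain ⟨s2, d2⟩ := gram_symm_det hf₂
  obtain ⟨A, α, hα, hA, eA⟩ := exists_basis_three h2 s1 d1
  have hne : c0 * α ≠ 0 := mul_ne_zero hc0 hα
  obtain ⟨B, c, d, han, hB, eB'⟩ := exists_basis_four h2 (G := (c0 * α) • Cfsg.Geo.gramMatrix f₂)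
    (by rw [Matrix.transpose_smul, s2]) (by
      rw [Matrix.det_smul]; exact mul_ne_zero (pow_ne_zero _ hne) d2) (by
    intro U hU h
    refine hm ⟨U, le_top, fun z hz => ?_, by rw [h, finrank_top, Module.finrank_fin_fun]⟩
    have := hU z hz
    rw [Matrix.smul_mulVec, dotProduct_smul, smul_eq_zero, or_iff_right hne, ← form_eq_dot hf₂.bilinear] at this
    exact this)
  set D : GL (Fin 3 × Fin 4) F :=
    Matrix.GeneralLinearGroup.mkOfDetNeZero (A ⊗ₖ B) (by
      rw [Matrix.det_kronecker]; exact mul_ne_zero (pow_ne_zero _ hA) (pow_ne_zero _ hB)) with hD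
  have hDk : D ∈ Cfsg.Geo.kroneckerSubgroup 3 4 F :=
    ⟨Matrix.GeneralLinearGroup.mkOfDetNeZero A hA, Matrix.GeneralLinearGroup.mkOfDetNeZero B hB, rfl⟩
  set P' : GL ι F := P * Cfsg.Geo.glReindex e.symm D with hP'
  have hphi : ∀ g, TensorMaxGlue.phi e P' g = TensorMaxGlue.phi e P (D * g * D⁻¹) := fun g => by
    simp [TensorMaxGlue.phi, hP', map_mul, map_inv, mul_assoc]
  have hsub : Cfsg.Geo.tensorProductSubgroup 3 4 e P = Cfsg.Geo.tensorProductSubgroup 3 4 e P' := by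
    rw [TensorMaxGlue.tensorProductSubgroup_eq, TensorMaxGlue.tensorProductSubgroup_eq]
    ext x
    constructor
    · rintro ⟨g, hg, rfl⟩
      refine ⟨D⁻¹ * g * D, mul_mem (mul_mem (inv_mem hDk) hg) hDk, ?_⟩
      show TensorMaxGlue.phi e P' _ = TensorMaxGlue.phi e P g
      rw [hphi]; congr 1; group
    · rintro ⟨g, hg, rfl⟩
      exact ⟨D * g * D⁻¹, mul_mem (mul_mem hDk hg) (inv_mem hDk), (hphi g).symm⟩
  rw [hsub]
  have hpsi : ∀ x, TensorMaxGlue.psi e P' x = TensorMaxGlue.psi e P ((A ⊗ₖ B) *ᵥ x) := fun x => by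
    rw [TensorMaxGlue.psi_apply, TensorMaxGlue.psi_apply, hP', Units.val_mul, ← Matrix.mulVec_mulVec]
    congr 1
    show ((A ⊗ₖ B).submatrix e e) *ᵥ (x ∘ e) = ((A ⊗ₖ B) *ᵥ x) ∘ e
    rw [Matrix.submatrix_mulVec_equiv, Function.comp_assoc, Equiv.self_comp_symm, Function.comp_id]
  have hs : Std (q₀.comp (TensorMaxGlue.psi e P')) c d := by
    refine ⟨fun u v => ?_, h2, han⟩
    have h0 : polar (q₀.comp (TensorMaxGlue.psi e P')) u v =
        polar q₀ (TensorMaxGlue.psi e P' u) (TensorMaxGlue.psi e P' v) := by simp [polar, map_add]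
    rw [h0, hpsi, hpsi, TensorMaxGlue.psi_apply, TensorMaxGlue.psi_apply, hP]
    have hform : ∀ (G : M12 F) (x y : I → F), Cfsg.Geo.formOfGram id G x y = x ⬝ᵥ (G *ᵥ y) := fun G x y => by
      simp [Cfsg.Geo.formOfGram, Matrix.mulVec, dotProduct, Finset.mul_sum, mul_assoc]
    rw [hform, Matrix.dotProduct_mulVec, Matrix.vecMul_mulVec, ← Matrix.dotProduct_mulVec, Matrix.mulVec_mulVec,
      ← smul_eq_mul, ← dotProduct_smul, ← Matrix.smul_mulVec, ← Matrix.kroneckerMap_transpose,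
      ← Matrix.mul_kronecker_mul, ← Matrix.mul_kronecker_mul, eA, Matrix.smul_kronecker, smul_smul,
      ← Matrix.kronecker_smul]
    congr 2
    rw [← eB', Matrix.mul_smul, Matrix.smul_mul]
  exact isMaximalIn_std hs hq e P' q₀ rfl

end Cfsg.Agent.OrthUnitaryTensorThreeFour
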