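import Cfsg.Agent.Lib.OrthUnitaryTensorThreeFourRadical

/-!
An overgroup of the tensor product without pure radical elements meets the radical in the second factor.
-/

set_option autoImplicit false
set_option linter.unusedSectionVars false

namespace Cfsg.Agent.OrthUnitaryTensorThreeFour

open QuadraticMap Module
open scoped Matrix MatrixGroups Kronecker
open Cfsg.Agent.OrthUnitaryQuad Cfsg.Agent.OrthUnitaryPrelude

variable {F : Type*} [Field F] [Fintype F] {q : QuadraticForm F (I → F)} {c d : F} {M : Subgroup (orth q)}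

/-- A self-adjoint matrix. -/
def sy (a b e f g h : F) : A3 F := !![a, b, e; f, g, b; h, f, a]

theorem eq_sy {X : A3 F} (h : st X = X) : X = sy (X 0 0) (X 0 1) (X 0 2) (X 1 0) (X 1 1) (X 2 0) := by
  have e : ∀ i j, X (Fin.rev j) (Fin.rev i) = X i j := fun i j => (st_apply X i j).symm.trans (congrFun (congrFun h i) j)
  ext i j
  fin_cases i <;> fin_cases j <;> simp [sy]
  · simpa [Fin.rev] using (e 1 2).symm
  · simpa [Fin.rev] using (e 2 1).symm
  · simpa [Fin.rev] using (e 2 2).symm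

theorem st_sy (a b e f g h : F) : st (sy a b e f g h) = sy a b e f g h := by
  ext i j
  fin_cases i <;> fin_cases j <;> simp [sy, st_apply, Fin.rev]

theorem conj_sy (h2 : (2 : F) ≠ 0) (s a b e f g : F) :
    xA s * sy a b e f g 0 * xA (-s) =
      sy (a + s * f) (b + s * (g - a) - 3 * s * s * f / 2) (e + 2 * s * b + (g - a) * s * s - s * s * s * f)
        f (g - 2 * s * f) 0 := by
  ext i j
  fin_cases i <;> fin_cases j <;>
    simp [xA, sy, Matrix.mul_apply, Fin.sum_univ_three] <;> (try field_simp) <;> ring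

/-- The middle parts of the radical elements in `M`. -/
def Mid (q : QuadraticForm F (I → F)) (M : Subgroup (orth q)) (c d : F) (X Y : A3 F) : Prop :=
  ∃ E, InM q M (rs c d X Y E)

variable (hs : Std q c d) (hM : HM q M) (hP : ∀ E ∈ Pure q M c d, E = 0)
include hs hM hP

theorem pure_diff {X Y E E' : A3 F} (h : InM q M (rs c d X Y E)) (h' : InM q M (rs c d X Y E')) : E = E' := by
  refine sub_eq_zero.1 (hP _ ?_)
  obtain ⟨k, hk, hkE⟩ := h
  obtain ⟨l, hl, hlE⟩ := h'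
  refine ⟨k * l⁻¹, M.mul_mem hk (M.inv_mem hl), ?_⟩
  have e : rs c d X Y E = rs c d 0 0 (E - E') * mt q l := by
    rw [hlE, rs_mul]
    simp
  rw [map_mul, hkE, e, mul_assoc, mt_mul_inv, mul_one]

theorem mid_comm {X Y X' Y' : A3 F} (h : Mid q M c d X Y) (h' : Mid q M c d X' Y') :
    c⁻¹ • (X * st X' - X' * st X) + d⁻¹ • (Y * st Y' - Y' * st Y) = 0 := by
  obtain ⟨E, h⟩ := h
  obtain ⟨E', h'⟩ := h'
  have h1 := h.mul h'
  have h2 := h'.mul h
  rw [rs_mul] at h1 h2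
  rw [add_comm X' X, add_comm Y' Y] at h2
  have e := pure_diff hs hM hP h1 h2
  have key : c⁻¹ • (X * st X' - X' * st X) + d⁻¹ • (Y * st Y' - Y' * st Y) =
      (E' + E - c⁻¹ • (X' * st X) - d⁻¹ • (Y' * st Y)) - (E + E' - c⁻¹ • (X * st X') - d⁻¹ • (Y * st Y')) := by
    module
  rw [key, ← e, sub_self]

theorem mid_scalar (x y : F) : Mid q M c d (x • 1) (y • 1) := by
  refine ⟨(-((x * x / c + y * y / d) / 2)) • 1, ?_⟩
  rw [rs_scalar]
  exact inM_eB hs hM x y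

theorem mid_sa {X Y : A3 F} (h : Mid q M c d X Y) : st X = X ∧ st Y = Y := by
  have h1 := mid_comm hs hM hP h (mid_scalar hs hM hP 1 0)
  have h2 := mid_comm hs hM hP h (mid_scalar hs hM hP 0 1)
  simp only [one_smul, zero_smul, st_one, st_zero, mul_zero, zero_mul, sub_zero, smul_zero, add_zero,
    zero_add, mul_one, one_mul, smul_eq_zero, inv_eq_zero, hs.c_ne, hs.d_ne, false_or, sub_eq_zero] at h1 h2
  exact ⟨h1.symm, h2.symm⟩

theorem mid_sub {X Y X' Y' : A3 F} (h : Mid q M c d X Y) (h' : Mid q M c d X' Y') :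
    Mid q M c d (X - X') (Y - Y') := by
  obtain ⟨E, h⟩ := h
  obtain ⟨E', k, hk, hkE⟩ := h'
  obtain ⟨l, hl, hlE⟩ := h
  refine ⟨E - E' + c⁻¹ • ((X - X') * st X') + d⁻¹ • ((Y - Y') * st Y'), l * k⁻¹, M.mul_mem hl (M.inv_mem hk), ?_⟩
  have e : mt q l = rs c d (X - X') (Y - Y') (E - E' + c⁻¹ • ((X - X') * st X') + d⁻¹ • ((Y - Y') * st Y')) *
      mt q k := by
    rw [hlE, hkE, rs_mul]
    congr 1 <;> module
  rw [map_mul, e, mul_assoc, mt_mul_inv, mul_one]

theorem mid_conjX (s : F) {X Y : A3 F} (h : Mid q M c d X Y) :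
    Mid q M c d (xA s * X * xA (-s)) (xA s * Y * xA (-s)) :=
  let ⟨_, h⟩ := h; ⟨_, conjX hs hM s h⟩

theorem mid_conjY (s : F) {X Y : A3 F} (h : Mid q M c d X Y) :
    Mid q M c d (yA s * X * yA (-s)) (yA s * Y * yA (-s)) :=
  let ⟨_, h⟩ := h; ⟨_, conjY hs hM s h⟩

theorem mid_corner {a a' u u' : F} (h : Mid q M c d (sy a 0 u 0 a 0) (sy a' 0 u' 0 a' 0)) : u = 0 ∧ u' = 0 := by
  have h2 := hs.two
  have hw := mid_conjX hs hM hP 1 (mid_conjY hs hM hP (-2) (mid_conjX hs hM hP 1 h))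
  have e : ∀ a u : F, xA 1 * (yA (-2) * (xA 1 * sy a 0 u 0 a 0 * xA (-1)) * yA (- -2)) * xA (-1) =
      sy a 0 0 0 a (4 * u) := fun a u => by
    rw [conj_sy h2]
    ext i j
    fin_cases i <;> fin_cases j <;>
      simp [xA, yA, sy, Matrix.mul_apply, Fin.sum_univ_three] <;> (try field_simp) <;> ring
  rw [e, e] at hw
  have h0 := congrFun (congrFun (mid_comm hs hM hP h hw) 0) 0
  simp [st_sy] at h0
  simp [sy, Matrix.mul_apply, Fin.sum_univ_three, Matrix.vecMul, dotProduct] at h0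
  have h4 : (4 : F) ≠ 0 := by rw [show (4 : F) = 2 * 2 by norm_num]; exact mul_ne_zero h2 h2
  have hc := hs.c_ne
  have hd := hs.d_ne
  have key : c * (u / c) ^ 2 + d * (u' / d) ^ 2 = 0 := by
    refine mul_left_cancel₀ h4 ?_
    rw [mul_zero]
    field_simp at h0 ⊢
    linear_combination h0
  obtain ⟨k1, k2⟩ := hs.aniso (u / c) (u' / d) (by linear_combination key)
  simp [hc, hd] at k1 k2
  exact ⟨k1, k2⟩

theorem mid_step_a {X Y : A3 F} (h : Mid q M c d X Y) (hX1 : X 1 0 = 0) (hX2 : X 2 0 = 0) (hY1 : Y 1 0 = 0)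
    (hY2 : Y 2 0 = 0) : X = X 0 0 • 1 ∧ Y = Y 0 0 • 1 := by
  have h2 := hs.two
  obtain ⟨hX, hY⟩ := mid_sa hs hM hP h
  obtain ⟨a, b, e, g, rfl⟩ : ∃ a b e g, X = sy a b e 0 g 0 :=
    ⟨_, _, _, _, by rw [eq_sy hX, hX1, hX2]⟩
  obtain ⟨a', b', e', g', rfl⟩ : ∃ a b e g, Y = sy a b e 0 g 0 :=
    ⟨_, _, _, _, by rw [eq_sy hY, hY1, hY2]⟩
  have D := mid_sub hs hM hP (mid_conjX hs hM hP 1 h) h
  have eD : ∀ a b e g : F, xA 1 * sy a b e 0 g 0 * xA (-1) - sy a b e 0 g 0 =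
      sy 0 (g - a) (2 * b + (g - a)) 0 0 0 := fun a b e g => by
    rw [conj_sy h2]
    ext i j
    fin_cases i <;> fin_cases j <;> simp [sy] <;> ring
  rw [eD, eD] at D
  have D2 := mid_sub hs hM hP (mid_conjX hs hM hP 1 D) D
  have eD2 : ∀ v w : F, xA 1 * sy 0 v w 0 0 0 * xA (-1) - sy 0 v w 0 0 0 = sy 0 0 (2 * v) 0 0 0 := fun v w => by
    rw [eD]
    simp
  rw [eD2, eD2] at D2
  obtain ⟨h1, h1'⟩ := mid_corner hs hM hP D2
  simp only [mul_eq_zero, h2, false_or, sub_eq_zero] at h1 h1'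
  subst h1 h1'
  obtain ⟨h3, h3'⟩ := mid_corner hs hM hP (by simpa using D :
    Mid q M c d (sy 0 0 (2 * b) 0 0 0) (sy 0 0 (2 * b') 0 0 0))
  simp only [mul_eq_zero, h2, false_or] at h3 h3'
  subst h3 h3'
  obtain ⟨h4, h4'⟩ := mid_corner hs hM hP h
  subst h4 h4'
  constructor <;> (ext i j; fin_cases i <;> fin_cases j <;> simp [sy])

theorem mid_step_b (hF : ∃ s : F, s ≠ 0 ∧ s * s ≠ 1) {X Y : A3 F} (h : Mid q M c d X Y) (hX2 : X 2 0 = 0)
    (hY2 : Y 2 0 = 0) : X = X 0 0 • 1 ∧ Y = Y 0 0 • 1 := by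
  have h2 := hs.two
  obtain ⟨hX, hY⟩ := mid_sa hs hM hP h
  suffices X 1 0 = 0 ∧ Y 1 0 = 0 from mid_step_a hs hM hP h this.1 hX2 this.2 hY2
  obtain ⟨a, b, e, f, g, rfl⟩ : ∃ a b e f g, X = sy a b e f g 0 :=
    ⟨_, _, _, _, _, by rw [eq_sy hX, hX2]⟩
  obtain ⟨a', b', e', f', g', rfl⟩ : ∃ a b e f g, Y = sy a b e f g 0 :=
    ⟨_, _, _, _, _, by rw [eq_sy hY, hY2]⟩
  obtain ⟨s0, hs0, hs1⟩ := hF
  have key : ∀ {a b e f g : F}, (∀ s : F, xA s * sy a b e f g 0 * xA (-s) - sy a b e f g 0 =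
      ((xA s * sy a b e f g 0 * xA (-s) - sy a b e f g 0) 0 0) • (1 : A3 F)) → f = 0 := by
    intro a b e f g H
    have H' : ∀ s : F, s * f = -(2 * s * f) ∧ s * (g - a) - 3 * s * s * f / 2 = 0 ∧
        2 * s * b + (g - a) * s * s - s * s * s * f = 0 := fun s => by
      have e0 := H s
      rw [conj_sy h2] at e0
      have e1 := congrFun (congrFun e0 1) 1
      have e2 := congrFun (congrFun e0 0) 1
      have e3 := congrFun (congrFun e0 0) 2
      simp [sy] at e1 e2 e3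
      exact ⟨e1.symm, by linear_combination e2, by linear_combination e3⟩
    obtain ⟨k1, k2, k3⟩ := H' 1
    have h3f : 3 * f = 0 := by linear_combination k1
    have hga : g - a = 0 := by
      field_simp at k2
      refine mul_left_cancel₀ h2 ?_
      linear_combination k2 + h3f
    obtain ⟨-, -, l3⟩ := H' s0
    have l3' : s0 * (2 * b - s0 * s0 * f) = 0 := by linear_combination l3 - s0 * s0 * hga
    have l4 : (s0 * s0 - 1) * f = 0 := by
      linear_combination k3 - hga - (mul_eq_zero.1 l3').resolve_left hs0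
    exact (mul_eq_zero.1 l4).resolve_left (sub_ne_zero.2 hs1)
  have hD : ∀ s : F, _ ∧ _ := fun s => mid_step_a hs hM hP (mid_sub hs hM hP (mid_conjX hs hM hP s h) h)
    (by rw [conj_sy h2]; simp [sy]) (by rw [conj_sy h2]; simp [sy]) (by rw [conj_sy h2]; simp [sy])
    (by rw [conj_sy h2]; simp [sy])
  exact ⟨by simpa [sy] using key fun s => (hD s).1, by simpa [sy] using key fun s => (hD s).2⟩

theorem mid_scalar_of (hF : ∃ s : F, s ≠ 0 ∧ s * s ≠ 1) {X Y : A3 F} (h : Mid q M c d X Y) :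
    X = X 0 0 • 1 ∧ Y = Y 0 0 • 1 := by
  have e20 : ∀ X : A3 F, (xA 1 * X * xA (-1) - X : A3 F) 2 0 = 0 := fun X => by
    simp [xA, Matrix.mul_apply, Fin.sum_univ_three, Matrix.vecMul, dotProduct]
  have e10 : ∀ X : A3 F, (xA 1 * X * xA (-1) - X : A3 F) 1 0 = -X 2 0 := fun X => by
    simp [xA, Matrix.mul_apply, Fin.sum_univ_three, Matrix.vecMul, dotProduct]
  obtain ⟨hX, hY⟩ := mid_step_b hs hM hP hF (mid_sub hs hM hP (mid_conjX hs hM hP 1 h) h) (e20 X) (e20 Y)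
  have h1 := congrFun (congrFun hX 1) 0
  have h2 := congrFun (congrFun hY 1) 0
  simp [e10] at h1 h2
  exact mid_step_b hs hM hP hF h h1 h2

/-- The radical elements in `M` come from the second factor. -/
theorem rs_mem_scalar (hF : ∃ s : F, s ≠ 0 ∧ s * s ≠ 1) {X Y E : A3 F} (h : InM q M (rs c d X Y E)) :
    ∃ x y, rs c d X Y E = (1 : A3 F) ⊗ₖ eB c d x y := by
  obtain ⟨hX, hY⟩ := mid_scalar_of hs hM hP hF ⟨E, h⟩
  refine ⟨X 0 0, Y 0 0, ?_⟩
  have h' := inM_eB hs hM (X 0 0) (Y 0 0)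
  rw [← rs_scalar, ← hX, ← hY] at h'
  rw [pure_diff hs hM hP h h', ← rs_scalar, ← hX, ← hY]

end Cfsg.Agent.OrthUnitaryTensorThreeFour
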