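import Cfsg.Agent.Lib.OrthUnitaryTensorThreeFourElems

/-!
The unipotent radical of the stabiliser of the singular three-space `A ⊗ b₀`, in blocks.
-/

set_option autoImplicit false
set_option linter.unusedSectionVars false
set_option linter.style.haveILetI false

namespace Cfsg.Agent.OrthUnitaryTensorThreeFour

open QuadraticMap Module
open scoped Matrix MatrixGroups Kronecker
open Cfsg.Agent.OrthUnitaryQuad Cfsg.Agent.OrthUnitaryPrelude Cfsg.Agent.OmegaClasses Cfsg.Agent.OmegaGeo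
  Cfsg.Agent.TensorMax

variable {F : Type*} [Field F] {q : QuadraticForm F (I → F)} {c d : F}

/-- An element of the radical. -/
def rs (c d : F) (X Y E : A3 F) : M12 F :=
  mk ![![1, X, Y, E], ![0, 1, 0, -(c⁻¹ • st X)], ![0, 0, 1, -(d⁻¹ • st Y)], ![0, 0, 0, 1]]

theorem rs_mul (X Y E X' Y' E' : A3 F) :
    rs c d X Y E * rs c d X' Y' E' =
      rs c d (X + X') (Y + Y') (E + E' - c⁻¹ • (X * st X') - d⁻¹ • (Y * st Y')) := by
  refine ext_blk fun j k => ?_
  rw [blk_mul, Fin.sum_univ_four]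
  fin_cases j <;> fin_cases k <;> simp [rs, blk_mk, st_add] <;> abel

theorem rs_zero : rs c d 0 0 0 = (1 : M12 F) := by
  refine ext_blk fun j k => ?_
  fin_cases j <;> fin_cases k <;> simp [rs, blk_mk, blk_one, st_zero]

theorem rs_inj {X Y E X' Y' E' : A3 F} (h : rs c d X Y E = rs c d X' Y' E') : X = X' ∧ Y = Y' ∧ E = E' :=
  ⟨congrArg (fun g => blk g 0 1) h, congrArg (fun g => blk g 0 2) h, congrArg (fun g => blk g 0 3) h⟩

theorem iso_rs_iff (hs : Std q c d) (X Y E : A3 F) :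
    Iso c d (rs c d X Y E) ↔ st E + E + c⁻¹ • (X * st X) + d⁻¹ • (Y * st Y) = 0 := by
  have := hs.c_ne; have := hs.d_ne
  constructor
  · intro h
    have h1 := congrArg (fun g => GA * blk g 3 3) h
    simp only [blk_gram_mul, gram_blk, ← mul_assoc, GA_mul_GA, one_mul] at h1
    simpa [rs, blk_mk, GB, st_neg, st_smul, st_st, st_zero, st_one, smul_smul, add_comm, add_left_comm,
      add_assoc, show c * (c⁻¹ * c⁻¹) = c⁻¹ by field_simp, show d * (d⁻¹ * d⁻¹) = d⁻¹ by field_simp] using h1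
  · intro h
    refine ext_blk fun j k => ?_
    rw [blk_gram_mul, gram_blk]
    fin_cases j <;> fin_cases k <;>
      simp [rs, blk_mk, GB, st_neg, st_smul, st_st, st_zero, st_one, smul_smul, hs.c_ne, hs.d_ne]
    rw [show st E + c⁻¹ • (X * st X) + d⁻¹ • (Y * st Y) + E =
      st E + E + c⁻¹ • (X * st X) + d⁻¹ • (Y * st Y) by abel, h, mul_zero]

theorem iso_rs_pure (hs : Std q c d) {E : A3 F} (h : st E = -E) : Iso c d (rs c d 0 0 E) :=
  (iso_rs_iff hs 0 0 E).2 (by simp [h, st_zero])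

theorem rs_scalar (x y : F) : rs c d (x • 1) (y • 1) ((-((x * x / c + y * y / d) / 2)) • (1 : A3 F)) =
    (1 : A3 F) ⊗ₖ eB c d x y := by
  refine ext_blk fun j k => ?_
  rw [blk_kron]
  fin_cases j <;> fin_cases k <;> simp [rs, blk_mk, eB, st_smul, st_one, smul_smul, div_eq_inv_mul]

theorem kron_conj_rs {a a' : A3 F} (ha : a * a' = 1) (h' : st a = a') (X Y E : A3 F) :
    (a ⊗ₖ (1 : Matrix (Fin 4) (Fin 4) F)) * rs c d X Y E * (a' ⊗ₖ 1) =
      rs c d (a * X * a') (a * Y * a') (a * E * a') := by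
  have h'' : st a' = a := by rw [← h', st_st]
  have hm : ∀ Z : A3 F, st (a * Z * a') = a * st Z * a' := fun Z => by
    rw [st_mul, st_mul, h'', h', mul_assoc]
  refine ext_blk fun j k => ?_
  simp only [blk_mul, blk_kron, Fin.sum_univ_four]
  fin_cases j <;> fin_cases k <;> simp [rs, blk_mk, ha, hm, Matrix.one_apply]

/-- A skew element. -/
def sk (α β γ : F) : A3 F := !![α, β, 0; γ, 0, -β; 0, -γ, -α]

theorem st_sk (α β γ : F) : st (sk α β γ) = -sk α β γ := by
  ext i j; fin_cases i <;> fin_cases j <;> simp [sk, st_apply, Fin.rev]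

theorem exists_sk (h2 : (2 : F) ≠ 0) {E : A3 F} (h : st E = -E) : ∃ α β γ, E = sk α β γ := by
  have h' : ∀ i j, E (Fin.rev j) (Fin.rev i) = -E i j := fun i j => by
    rw [← st_apply E i j, h]; rfl
  have hz : ∀ x : F, x = -x → x = 0 := fun x hx =>
    (mul_eq_zero.1 (show (2 : F) * x = 0 by linear_combination hx)).resolve_left h2
  refine ⟨E 0 0, E 0 1, E 1 0, ?_⟩
  ext i j
  fin_cases i <;> fin_cases j <;> simp [sk]
  · exact hz _ (h' 0 2)
  · exact hz _ (h' 1 1)
  · exact h' 0 1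
  · exact hz _ (h' 2 0)
  · exact h' 1 0
  · exact h' 0 0

variable [Fintype F] {M : Subgroup (orth q)} (hs : Std q c d) (hM : HM q M)

/-- The radical elements with no middle part that lie in `M`. -/
def Pure (q : QuadraticForm F (I → F)) (M : Subgroup (orth q)) (c d : F) : AddSubgroup (A3 F) where
  carrier := {E | InM q M (rs c d 0 0 E)}
  zero_mem' := by rw [Set.mem_setOf_eq, rs_zero]; exact InM.one
  add_mem' := fun {E E'} h h' => by
    have := InM.mul h h'
    rw [rs_mul] at this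
    simpa [st_zero] using this
  neg_mem' := fun {E} h => by
    obtain ⟨k, hk, hkE⟩ := h
    refine ⟨k⁻¹, M.inv_mem hk, left_inv_eq_right_inv (mt_inv_mul k) ?_⟩
    rw [hkE, rs_mul]
    simp [st_zero, rs_zero]

theorem mem_Pure {E : A3 F} : E ∈ Pure q M c d ↔ InM q M (rs c d 0 0 E) := Iff.rfl

include hs hM

theorem inM_conj_rs {a a' : A3 F} (h : InM q M (a ⊗ₖ 1)) (h0 : InM q M (a' ⊗ₖ 1)) (ha : a * a' = 1) (h' : st a = a')
    {X Y E : A3 F} (hr : InM q M (rs c d X Y E)) : InM q M (rs c d (a * X * a') (a * Y * a') (a * E * a')) := by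
  rw [← kron_conj_rs ha h']
  exact (h.mul hr).mul h0

theorem xA_neg (s : F) : xA s * xA (-s) = (1 : A3 F) ∧ st (xA s) = xA (-s) := by
  refine ⟨by rw [xA_add hs.two, add_neg_cancel, xA_zero], ?_⟩
  ext i j; fin_cases i <;> fin_cases j <;> simp [xA, st_apply, Fin.rev]

theorem yA_neg (s : F) : yA s * yA (-s) = (1 : A3 F) ∧ st (yA s) = yA (-s) := by
  refine ⟨by rw [yA_add hs.two, add_neg_cancel, yA_zero], ?_⟩
  ext i j; fin_cases i <;> fin_cases j <;> simp [yA, st_apply, Fin.rev]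

theorem tA_inv {l : F} (hl : l ≠ 0) : tA l * tA l⁻¹ = (1 : A3 F) ∧ st (tA l) = tA l⁻¹ := by
  refine ⟨by rw [tA_mul, mul_inv_cancel₀ hl, tA_one], ?_⟩
  ext i j; fin_cases i <;> fin_cases j <;> simp [tA, st_apply, Fin.rev]

theorem conjX (s : F) {X Y E : A3 F} (hr : InM q M (rs c d X Y E)) :
    InM q M (rs c d (xA s * X * xA (-s)) (xA s * Y * xA (-s)) (xA s * E * xA (-s))) :=
  inM_conj_rs hs hM (inM_xA hs hM s) (inM_xA hs hM (-s)) (xA_neg hs hM s).1 (xA_neg hs hM s).2 hr

theorem conjY (s : F) {X Y E : A3 F} (hr : InM q M (rs c d X Y E)) :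
    InM q M (rs c d (yA s * X * yA (-s)) (yA s * Y * yA (-s)) (yA s * E * yA (-s))) :=
  inM_conj_rs hs hM (inM_yA hs hM s) (inM_yA hs hM (-s)) (yA_neg hs hM s).1 (yA_neg hs hM s).2 hr

theorem conjT {l : F} (hl : l ≠ 0) {X Y E : A3 F} (hr : InM q M (rs c d X Y E)) :
    InM q M (rs c d (tA (l * l) * X * tA (l * l)⁻¹) (tA (l * l) * Y * tA (l * l)⁻¹)
      (tA (l * l) * E * tA (l * l)⁻¹)) := by
  have h := tA_inv hs hM (mul_ne_zero hl hl)
  have h1 : InM q M (tA (l * l)⁻¹ ⊗ₖ 1) := by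
    rw [mul_inv]; exact inM_tA hs hM (inv_ne_zero hl)
  exact inM_conj_rs hs hM (inM_tA hs hM hl) h1 h.1 h.2 hr

theorem pure_conjX (s α β γ : F) (h : sk α β γ ∈ Pure q M c d) :
    sk (α + s * γ) (β - s * α - s * s * γ / 2) γ ∈ Pure q M c d := by
  have h1 := conjX hs hM s h
  rw [mem_Pure]
  have e : xA s * sk α β γ * xA (-s) = sk (α + s * γ) (β - s * α - s * s * γ / 2) γ := by
    have := hs.two
    ext i j; fin_cases i <;> fin_cases j <;>
      simp [xA, sk, Matrix.mul_apply, Fin.sum_univ_three] <;> (try field_simp) <;> ring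
  simpa [e] using h1

/-- A non-zero pure element gives all of them. -/
theorem pure_all {E : A3 F} (hE : E ∈ Pure q M c d) (h0 : E ≠ 0) :
    (∀ β : F, sk 0 β 0 ∈ Pure q M c d) ∧ ∀ α : F, sk α 0 0 ∈ Pure q M c d := by
  have h2 := hs.two
  have hsub : ∀ {α β γ α' β' γ' : F}, sk α β γ ∈ Pure q M c d → sk α' β' γ' ∈ Pure q M c d →
      sk (α - α') (β - β') (γ - γ') ∈ Pure q M c d := by
    intro α β γ α' β' γ' h h'
    have e : sk α β γ - sk α' β' γ' = sk (α - α') (β - β') (γ - γ') := by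
      ext i j; fin_cases i <;> fin_cases j <;> simp [sk] <;> ring
    rw [← e]
    exact sub_mem h h'
  have hskew : st E = -E := by
    obtain ⟨k, -, hk⟩ := hE
    have := (iso_rs_iff hs 0 0 E).1 (hk ▸ mt_iso hs k)
    simp only [st_zero, mul_zero, smul_zero, add_zero] at this
    exact eq_neg_of_add_eq_zero_left this
  obtain ⟨α, β, γ, rfl⟩ := exists_sk h2 hskew
  obtain ⟨b, hb, hbm⟩ : ∃ b : F, b ≠ 0 ∧ sk 0 b 0 ∈ Pure q M c d := by
    have step : ∀ {a b : F}, a ≠ 0 → sk a b 0 ∈ Pure q M c d → ∃ b' : F, b' ≠ 0 ∧ sk 0 b' 0 ∈ Pure q M c d :=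
      fun {a b} ha h => ⟨-a, neg_ne_zero.2 ha, by
        have := hsub (pure_conjX hs hM 1 a b 0 h) h
        simpa using this⟩
    by_cases hγ : γ = 0
    · subst hγ
      by_cases hα : α = 0
      · subst hα
        exact ⟨β, fun h => h0 (by subst h; ext i j; fin_cases i <;> fin_cases j <;> simp [sk]), hE⟩
      · exact step hα hE
    · have := hsub (pure_conjX hs hM 1 α β γ hE) hE
      simp only [one_mul, add_sub_cancel_left, sub_self] at this
      exact step hγ this
  have hall : ∀ x : F, sk 0 x 0 ∈ Pure q M c d := by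
    have hsq : ∀ m : F, sk 0 (m * m * b) 0 ∈ Pure q M c d := by
      intro m
      rcases eq_or_ne m 0 with rfl | hm
      · simpa using hsub hbm hbm
      · have h1 := conjT hs hM hm hbm
        rw [mem_Pure]
        have e : tA (m * m) * sk 0 b 0 * tA (m * m)⁻¹ = sk 0 (m * m * b) 0 := by
          ext i j; fin_cases i <;> fin_cases j <;>
            simp [tA, sk, Matrix.mul_apply, Fin.sum_univ_three] <;> field_simp
        rw [e] at h1
        simpa using h1
    intro x
    have := hsub (hsq ((x / b + 1) / 2)) (hsq ((x / b - 1) / 2))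
    simp only [sub_self] at this
    convert this using 2
    field_simp
    ring
  refine ⟨hall, fun a => ?_⟩
  have e : ∀ s x : F, yA s * sk 0 x 0 * yA (-s) = sk (-(s * x)) x (-(s * s * x / 2)) := fun s x => by
    ext i j; fin_cases i <;> fin_cases j <;>
      simp [yA, sk, Matrix.mul_apply, Fin.sum_univ_three] <;> (try field_simp) <;> ring
  have hy : ∀ s x : F, sk (-(s * x)) x (-(s * s * x / 2)) ∈ Pure q M c d := fun s x => by
    have h1 := conjY hs hM s (hall x)
    rw [mem_Pure, ← e]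
    simpa using h1
  have := hsub (hy (-1) (a / 2)) (hy 1 (a / 2))
  simp only [sub_self, one_mul, neg_mul, neg_neg] at this
  convert this using 2 <;> field_simp <;> ring

end Cfsg.Agent.OrthUnitaryTensorThreeFour
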