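import Cfsg.Agent.Lib.OrthUnitaryTensorThreeFourLocal

/-!
Elements of the overgroup that stabilise the first singular summand of the tensor product are tensors.
-/

set_option autoImplicit false
set_option linter.unusedSectionVars false

namespace Cfsg.Agent.OrthUnitaryTensorThreeFour

open QuadraticMap Module
open scoped Matrix MatrixGroups Kronecker
open Cfsg.Agent.OrthUnitaryQuad Cfsg.Agent.OrthUnitaryPrelude

variable {F : Type*} [Field F] {q : QuadraticForm F (I → F)} {c d : F}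

/-- Block upper triangular for the flag of the second factor. -/
def Tri (g : M12 F) : Prop :=
  blk g 1 0 = 0 ∧ blk g 2 0 = 0 ∧ blk g 3 0 = 0 ∧ blk g 3 1 = 0 ∧ blk g 3 2 = 0

/-- The diagonal part. -/
def dg (g : M12 F) : M12 F :=
  mk ![![blk g 0 0, 0, 0, 0], ![0, blk g 1 1, blk g 1 2, 0], ![0, blk g 2 1, blk g 2 2, 0], ![0, 0, 0, blk g 3 3]]

theorem tri_dg (g : M12 F) : Tri (dg g) := by
  refine ⟨?_, ?_, ?_, ?_, ?_⟩ <;> simp [dg, blk_mk]

theorem dg_dg (g : M12 F) : dg (dg g) = dg g := by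
  refine ext_blk fun j k => ?_
  fin_cases j <;> fin_cases k <;> simp [dg, blk_mk]

theorem Tri.mul {g h : M12 F} (hg : Tri g) (hh : Tri h) : Tri (g * h) ∧ dg (g * h) = dg g * dg h := by
  obtain ⟨g1, g2, g3, g4, g5⟩ := hg
  obtain ⟨h1, h2, h3, h4, h5⟩ := hh
  refine ⟨?_, ext_blk fun j k => ?_⟩
  · refine ⟨?_, ?_, ?_, ?_, ?_⟩ <;> simp [blk_mul, Fin.sum_univ_four, g1, g2, g3, g4, g5, h1, h2, h3, h4, h5]
  · fin_cases j <;> fin_cases k <;>
      simp [dg, blk_mk, blk_mul, Fin.sum_univ_four, g1, g2, g3, g4, g5, h1, h2, h3, h4, h5]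

theorem dg_one : dg (1 : M12 F) = 1 := by
  refine ext_blk fun j k => ?_
  fin_cases j <;> fin_cases k <;> simp [dg, blk_mk, blk_one]

theorem tri_scalar (x y : F) : Tri ((1 : A3 F) ⊗ₖ eB c d x y) ∧ dg ((1 : A3 F) ⊗ₖ eB c d x y) = 1 := by
  refine ⟨?_, ext_blk fun j k => ?_⟩
  · refine ⟨?_, ?_, ?_, ?_, ?_⟩ <;> simp [blk_kron, eB]
  · fin_cases j <;> fin_cases k <;> simp [dg, blk_mk, blk_kron, blk_one, eB]

variable (hs : Std q c d)
include hs

theorem gram_eq {g : M12 F} (hg : Iso c d g) (i l : Fin 4) :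
    st (blk g 0 i) * blk g 3 l + c • (st (blk g 1 i) * blk g 1 l) + d • (st (blk g 2 i) * blk g 2 l)
        + st (blk g 3 i) * blk g 0 l = GB c d i l • (1 : A3 F) := by
  have h := congrArg (fun g => GA * blk g i l) hg
  simpa only [blk_gram_mul, gram_blk, ← mul_assoc, Matrix.mul_smul, GA_mul_GA, one_mul] using h

theorem iso_tri {g : M12 F} (hg : Iso c d g) (h1 : blk g 1 0 = 0) (h2 : blk g 2 0 = 0) (h3 : blk g 3 0 = 0) :
    Tri g ∧ st (blk g 0 0) * blk g 3 3 = 1 := by
  have e : ∀ l, st (blk g 0 0) * blk g 3 l = GB c d 0 l • (1 : A3 F) := fun l => by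
    simpa [h1, h2, h3, st_zero] using gram_eq hs hg 0 l
  have e3 : st (blk g 0 0) * blk g 3 3 = 1 := by simpa [GB] using e 3
  have z : ∀ {X : A3 F}, st (blk g 0 0) * X = 0 → X = 0 := fun {X} h => by
    have := congrArg (fun Y => blk g 3 3 * Y) h
    simpa [← mul_assoc, mul_eq_one_comm.1 e3] using this
  exact ⟨⟨h1, h2, h3, z (by simpa [GB] using e 1), z (by simpa [GB] using e 2)⟩, e3⟩

theorem iso_eq_rs {g : M12 F} (hg : Iso c d g) (ht : Tri g) (hd : dg g = 1) :
    g = rs c d (blk g 0 1) (blk g 0 2) (blk g 0 3) := by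
  obtain ⟨t1, t2, t3, t4, t5⟩ := ht
  have d00 : blk g 0 0 = 1 := by simpa [dg, blk_mk, blk_one] using congrArg (fun g => blk g 0 0) hd
  have d11 : blk g 1 1 = 1 := by simpa [dg, blk_mk, blk_one] using congrArg (fun g => blk g 1 1) hd
  have d12 : blk g 1 2 = 0 := by simpa [dg, blk_mk, blk_one] using congrArg (fun g => blk g 1 2) hd
  have d21 : blk g 2 1 = 0 := by simpa [dg, blk_mk, blk_one] using congrArg (fun g => blk g 2 1) hd
  have d22 : blk g 2 2 = 1 := by simpa [dg, blk_mk, blk_one] using congrArg (fun g => blk g 2 2) hd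
  have d33 : blk g 3 3 = 1 := by simpa [dg, blk_mk, blk_one] using congrArg (fun g => blk g 3 3) hd
  have e1 := gram_eq hs hg 1 3
  have e2 := gram_eq hs hg 2 3
  simp [GB, t4, t5, d11, d12, d21, d22, d33, st_one, st_zero] at e1 e2
  have z : ∀ {k : F} {X Z : A3 F}, k ≠ 0 → st X + k • Z = 0 → Z = -(k⁻¹ • st X) := fun {k X Z} hk h => by
    rw [eq_neg_of_add_eq_zero_left h, smul_neg, smul_smul, inv_mul_cancel₀ hk, one_smul, neg_neg]
  refine ext_blk fun j k => ?_
  fin_cases j <;> fin_cases k <;>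
    simp [rs, blk_mk, t1, t2, t3, t4, t5, d00, d11, d12, d21, d22, d33, z hs.c_ne e1, z hs.d_ne e2]

variable [Fintype F] {M : Subgroup (orth q)} (hM : HM q M)

theorem rs_sq_comm {k : orth q} {X Y E : A3 F} (hk : mt q k = rs c d X Y E) : k ∈ commutator (orth q) := by
  haveI := NeZero.mk hs.two
  have hE := (iso_rs_iff hs X Y E).1 (hk ▸ mt_iso hs k)
  set X' : A3 F := (2 : F)⁻¹ • X with hX'
  set Y' : A3 F := (2 : F)⁻¹ • Y with hY'
  set E' : A3 F := (2 : F)⁻¹ • (E + c⁻¹ • (X' * st X') + d⁻¹ • (Y' * st Y')) with hE'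
  have hi : Iso c d (rs c d X' Y' E') := by
    refine (iso_rs_iff hs X' Y' E').2 ?_
    simp only [hE', hX', hY', st_smul, st_add, st_mul, st_st, Matrix.smul_mul, Matrix.mul_smul, smul_smul]
    have h2 := hs.two
    linear_combination (norm := (match_scalars <;> field_simp <;> ring)) (2 : F)⁻¹ • hE
  obtain ⟨l, hl⟩ := exists_mt hs hi
  have e : k = l * l := mt_injective (by
    rw [map_mul, hl, rs_mul, hk]
    have half : ∀ Z : A3 F, (2 : F)⁻¹ • Z + (2 : F)⁻¹ • Z = Z := fun Z => by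
      rw [← add_smul, ← two_mul, mul_inv_cancel₀ hs.two, one_smul]
    have e3 : E' + E' - c⁻¹ • (X' * st X') - d⁻¹ • (Y' * st Y') = E := by
      rw [hE', half]; abel
    rw [e3, hX', hY', half, half])
  exact e ▸ sq_mem_commutator hs l

include hM

/-- Elements of `M` that stabilise the first singular summand. -/
theorem stab_kron (hle : M ≤ commutator (orth q))
    (hR : ∀ {X Y E : A3 F}, InM q M (rs c d X Y E) → ∃ x y, rs c d X Y E = (1 : A3 F) ⊗ₖ eB c d x y)
    {g : orth q} (hg : g ∈ M) (h1 : blk (mt q g) 1 0 = 0) (h2 : blk (mt q g) 2 0 = 0)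
    (h3 : blk (mt q g) 3 0 = 0) : ∃ a b, mt q g = a ⊗ₖ b := by
  haveI := NeZero.mk hs.two
  set G := mt q g with hG
  set A : A3 F := blk G 0 0 with hAdef
  obtain ⟨hT, hA3⟩ := iso_tri hs (mt_iso hs g) h1 h2 h3
  have hA0 : A ≠ 0 := fun h => by
    rw [← hAdef, h, st_zero, zero_mul] at hA3
    exact zero_ne_one hA3
  have hT' : Tri (mt q g⁻¹) := by
    have z : ∀ {X : A3 F}, X * A = 0 → X = 0 := fun {X} h => by
      have := congrArg (fun Y => Y * st (blk G 3 3)) h
      have e : A * st (blk G 3 3) = 1 := by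
        have := congrArg st hA3
        rw [st_mul, st_st, st_one] at this
        exact mul_eq_one_comm.1 this
      simpa [mul_assoc, e] using this
    have e : ∀ j : Fin 4, blk (mt q g⁻¹) j 0 * A = if j = 0 then 1 else 0 := fun j => by
      rw [← blk_one, ← mt_inv_mul g, blk_mul, Fin.sum_univ_four, ← hG, h1, h2, h3]
      simp [hAdef]
    exact (iso_tri hs (mt_iso hs g⁻¹) (z (by simpa using e 1)) (z (by simpa using e 2))
      (z (by simpa using e 3))).1
  have hnorm : ∀ x y : F, ∃ x' y', G * ((1 : A3 F) ⊗ₖ eB c d x y) = ((1 : A3 F) ⊗ₖ eB c d x' y') * G := by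
    intro x y
    obtain ⟨k, hk, hkm⟩ := inM_eB hs hM x y
    obtain ⟨tu, du⟩ := tri_scalar (c := c) (d := d) x y
    obtain ⟨t1, d1⟩ := hT.mul tu
    obtain ⟨t2, d2⟩ := t1.mul hT'
    have hd : dg (G * ((1 : A3 F) ⊗ₖ eB c d x y) * mt q g⁻¹) = 1 := by
      rw [d2, d1, du, mul_one, ← (hT.mul hT').2, mt_mul_inv, dg_one]
    have e : mt q (g * k * g⁻¹) = G * ((1 : A3 F) ⊗ₖ eB c d x y) * mt q g⁻¹ := by
      rw [map_mul, map_mul, hkm, hG]
    have hh := iso_eq_rs hs (e ▸ mt_iso hs (g * k * g⁻¹)) t2 hd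
    obtain ⟨x', y', hxy⟩ := hR ⟨_, M.mul_mem (M.mul_mem hg hk) (M.inv_mem hg), e.trans hh⟩
    refine ⟨x', y', ?_⟩
    rw [← hxy, ← hh, mul_assoc _ (mt q g⁻¹) G, hG, mt_inv_mul, mul_one]
  obtain ⟨x1, y1, n1⟩ := hnorm 1 0
  obtain ⟨x2, y2, n2⟩ := hnorm 0 1
  obtain ⟨-, -, -, t31, t32⟩ := hT
  rw [← hG] at t31 t32
  have a11 := congrArg (fun g => blk g 0 1) n1
  have a12 := congrArg (fun g => blk g 0 2) n1
  have a21 := congrArg (fun g => blk g 0 1) n2
  have a22 := congrArg (fun g => blk g 0 2) n2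
  simp [blk_mul, blk_kron, Fin.sum_univ_four, eB, t31, t32, ← hAdef] at a11 a12 a21 a22
  have e11 : A = x1 • blk G 1 1 + y1 • blk G 2 1 := by linear_combination (norm := module) a11
  have e12 : 0 = x1 • blk G 1 2 + y1 • blk G 2 2 := by linear_combination (norm := module) a12
  have e21 : 0 = x2 • blk G 1 1 + y2 • blk G 2 1 := by linear_combination (norm := module) a21
  have e22 : A = x2 • blk G 1 2 + y2 • blk G 2 2 := by linear_combination (norm := module) a22
  set D := x1 * y2 - y1 * x2 with hD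
  have hD0 : D ≠ 0 := by
    intro h0
    have k1 : y2 • A = D • blk G 1 1 := by rw [hD]; linear_combination (norm := module) y2 • e11 - y1 • e21
    have k2 : (-x2) • A = D • blk G 2 1 := by rw [hD]; linear_combination (norm := module) (-x2) • e11 + x1 • e21
    simp only [h0, zero_smul, smul_eq_zero, hA0, or_false, neg_eq_zero] at k1 k2
    rw [k1, k2] at e22
    exact hA0 (by simpa using e22)
  have f11 : blk G 1 1 = (y2 / D) • A := by
    rw [div_eq_inv_mul, ← smul_smul, eq_inv_smul_iff₀ hD0, hD]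
    linear_combination (norm := module) -y2 • e11 + y1 • e21
  have f21 : blk G 2 1 = (-x2 / D) • A := by
    rw [div_eq_inv_mul, ← smul_smul, eq_inv_smul_iff₀ hD0, hD]
    linear_combination (norm := module) x2 • e11 - x1 • e21
  have f12 : blk G 1 2 = (-y1 / D) • A := by
    rw [div_eq_inv_mul, ← smul_smul, eq_inv_smul_iff₀ hD0, hD]
    linear_combination (norm := module) -y2 • e12 + y1 • e22
  have f22 : blk G 2 2 = (x1 / D) • A := by
    rw [div_eq_inv_mul, ← smul_smul, eq_inv_smul_iff₀ hD0, hD]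
    linear_combination (norm := module) x2 • e12 - x1 • e22
  have eA : (c * (y2 / D) ^ 2 + d * (-x2 / D) ^ 2) • (st A * A) = c • (1 : A3 F) := by
    have := gram_eq hs (mt_iso hs g) 1 1
    simp [GB, ← hG, t31, f11, f21, st_zero, st_smul, smul_smul] at this
    rw [← this]
    module
  set s := c / (c * (y2 / D) ^ 2 + d * (-x2 / D) ^ 2) with hs_def
  have hk0 : c * (y2 / D) ^ 2 + d * (-x2 / D) ^ 2 ≠ 0 := fun h => by
    rw [h, zero_smul] at eA
    exact smul_ne_zero hs.c_ne one_ne_zero eA.symm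
  have hss : st A * A = s • 1 := by
    rw [hs_def, div_eq_inv_mul, ← smul_smul, ← eA, inv_smul_smul₀ hk0]
  have hsne : s ≠ 0 := div_ne_zero hs.c_ne hk0
  have f33 : blk G 3 3 = s⁻¹ • A := by
    have e1 : st A * (s⁻¹ • A) = 1 := by rw [Matrix.mul_smul, hss, smul_smul, inv_mul_cancel₀ hsne, one_smul]
    have e2 := mul_eq_one_comm.1 hA3
    calc blk G 3 3 = blk G 3 3 * (st A * (s⁻¹ • A)) := by rw [e1, mul_one]
      _ = s⁻¹ • A := by rw [← mul_assoc, e2, one_mul]
  have hT : Tri G := ⟨h1, h2, h3, t31, t32⟩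
  set b : Matrix (Fin 4) (Fin 4) F := !![1, 0, 0, 0; 0, y2 / D, -y1 / D, 0; 0, -x2 / D, x1 / D, 0; 0, 0, 0, s⁻¹]
  have hn : dg G = A ⊗ₖ b := by
    refine ext_blk fun j k => ?_
    rw [blk_kron]
    fin_cases j <;> fin_cases k <;> simp [dg, blk_mk, b, hAdef.symm, f11, f12, f21, f22, f33]
  have hni : Iso c d (dg G) := by
    refine ext_blk fun i l => ?_
    rw [blk_gram_mul, gram_blk]
    have E := fun i l => gram_eq hs (mt_iso hs g) i l
    have key : ∀ i l, GA * (GB c d i l • (1 : A3 F)) = GB c d i l • GA := fun i l => by simp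
    rw [← key i l]
    congr 1
    have e := E i l
    rw [← hG] at e
    fin_cases i <;> fin_cases l <;>
      simp [dg, blk_mk, st_zero, GB, h1, h2, h3, t31, t32] at e ⊢ <;> assumption
  obtain ⟨n, hnm⟩ := exists_mt hs hni
  have hn' : Tri (mt q n⁻¹) := by
    obtain ⟨u1, u2, u3, -, -⟩ := tri_dg G
    have hA' : ∀ {X : A3 F}, X * A = 0 → X = 0 := fun {X} h => by
      have := congrArg (fun Y => Y * (s⁻¹ • st A)) h
      simpa [mul_assoc, Matrix.mul_smul, smul_smul, hsne,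
        show A * st A = s • 1 from by
          have h9 : (s⁻¹ • st A) * A = 1 := by rw [Matrix.smul_mul, hss, smul_smul, inv_mul_cancel₀ hsne, one_smul]
          have h8 := congrArg (fun Z => s • Z) (mul_eq_one_comm.1 h9)
          simpa [Matrix.mul_smul, smul_smul, hsne] using h8] using this
    have e : ∀ j : Fin 4, blk (mt q n⁻¹) j 0 * A = if j = 0 then 1 else 0 := fun j => by
      rw [← blk_one, ← mt_inv_mul n, blk_mul, Fin.sum_univ_four, hnm, u1, u2, u3]
      simp [dg, blk_mk, hAdef]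
    exact (iso_tri hs (mt_iso hs n⁻¹) (hA' (by simpa using e 1)) (hA' (by simpa using e 2))
      (hA' (by simpa using e 3))).1
  have hdr : dg (mt q (n⁻¹ * g)) = 1 := by
    rw [map_mul, (hn'.mul hT).2, ← dg_dg G, ← hnm, ← (hn'.mul (hnm ▸ tri_dg G)).2, mt_inv_mul, dg_one]
  have hr := iso_eq_rs hs (mt_iso hs (n⁻¹ * g)) (by rw [map_mul]; exact (hn'.mul hT).1) hdr
  have hrc := rs_sq_comm hs hr
  have hnc : n ∈ commutator (orth q) := by
    have := Subgroup.mul_mem _ (hle hg) (Subgroup.inv_mem _ hrc)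
    simpa using this
  have hnM : n ∈ M := hM n hnc ⟨A, b, hnm.trans hn⟩
  obtain ⟨x, y, hxy⟩ := hR ⟨_, M.mul_mem (M.inv_mem hnM) hg, hr⟩
  refine ⟨A, b * eB c d x y, ?_⟩
  calc G = mt q n * mt q (n⁻¹ * g) := by rw [← map_mul, mul_inv_cancel_left]
    _ = _ := by rw [hr, hxy, hnm, hn, ← Matrix.mul_kronecker_mul, mul_one]

end Cfsg.Agent.OrthUnitaryTensorThreeFour
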