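import Cfsg.Agent.Lib.OrthUnitaryTensorThreeFourFusion

/-!
An overgroup of the tensor product that is small on the radical normalises the first factor:
a relative trace of the projection onto the first factor is the projection itself.
-/

set_option autoImplicit false
set_option linter.unusedSectionVars false

namespace Cfsg.Agent.OrthUnitaryTensorThreeFour

open QuadraticMap Module
open scoped Matrix MatrixGroups Kronecker
open Cfsg.Agent.OrthUnitaryQuad Cfsg.Agent.OrthUnitaryPrelude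

theorem sum_free {G X V : Type*} [Group G] [Fintype G] [MulAction G X] [Fintype X] [AddCommMonoid V] (f : X → V)
    (x0 : X) (hfix : ∀ g : G, g • x0 = x0) (hfree : ∀ x ≠ x0, ∀ g : G, g • x = x → g = 1)
    (hzero : ∀ x ≠ x0, ∑ g : G, f (g • x) = 0) : ∑ x, f x = f x0 := by
  classical
  let π : X → MulAction.orbitRel.Quotient G X := Quotient.mk _
  rw [← Finset.sum_fiberwise Finset.univ π f, Finset.sum_eq_single (π x0)]
  · rw [show Finset.univ.filter (fun x => π x = π x0) = {x0} by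
      ext x
      simp only [Finset.mem_filter, Finset.mem_univ, true_and, Finset.mem_singleton]
      refine ⟨fun h => ?_, fun h => h ▸ rfl⟩
      obtain ⟨g, hg⟩ := Quotient.exact h
      exact hg.symm.trans (hfix g), Finset.sum_singleton]
  · intro ω _ hω
    obtain ⟨x, rfl⟩ := Quotient.exists_rep ω
    have hx : x ≠ x0 := fun h => hω (by rw [h])
    rw [show Finset.univ.filter (fun y => π y = π x) = Finset.univ.image (fun g : G => g • x) by
      ext y
      simp only [Finset.mem_filter, Finset.mem_univ, true_and, Finset.mem_image]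
      exact ⟨fun h => Quotient.exact h, fun ⟨g, hg⟩ => Quotient.sound ⟨g, hg⟩⟩,
      Finset.sum_image]
    · exact hzero x hx
    · intro g _ g' _ h
      have e : (g'⁻¹ * g) • x = x := by rw [mul_smul, show g • x = g' • x from h, inv_smul_smul]
      exact (eq_of_inv_mul_eq_one (hfree x hx _ e)).symm
  · exact fun h => absurd (Finset.mem_univ _) h

variable {F : Type*} [Field F] {q : QuadraticForm F (I → F)} {c d : F}

/-- Coefficients of the upper unipotent isometries of the second factor. -/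
def ePart (c d : F) : Fin 5 → Matrix (Fin 4) (Fin 4) F :=
  ![1, Matrix.single 0 1 1 - c⁻¹ • Matrix.single 1 3 1, Matrix.single 0 2 1 - d⁻¹ • Matrix.single 2 3 1,
    -(c⁻¹ / 2) • Matrix.single 0 3 1, -(d⁻¹ / 2) • Matrix.single 0 3 1]

/-- The exponent of the first variable. -/
def ePow : Fin 5 → ℕ := ![0, 1, 0, 2, 0]

/-- The exponent of the second variable. -/
def ePow' : Fin 5 → ℕ := ![0, 0, 1, 0, 2]

theorem eB_expand (x y : F) : eB c d x y = ∑ k, (x ^ ePow k * y ^ ePow' k) • ePart c d k := by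
  ext i j
  simp only [Fin.sum_univ_succ, Finset.univ_eq_empty, Finset.sum_empty]
  fin_cases i <;> fin_cases j <;>
    simp [eB, ePart, ePow, ePow', Matrix.single, Matrix.one_apply] <;> ring

theorem extract_linear [Fintype F] (hq : 5 ≤ Fintype.card F) (L : Submodule F (Matrix (Fin 4) (Fin 4) F)) :
    ∀ (f : F → Matrix (Fin 4) (Fin 4) F) (A0 A1 A2 A3' A4 : Matrix (Fin 4) (Fin 4) F),
      (∀ s, f s = A0 + s • A1 + s ^ 2 • A2 + s ^ 3 • A3' + s ^ 4 • A4) → (∀ s, f s ∈ L) → A1 ∈ L := by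
  intro f A0 A1 A2 A3' A4 hf hfL
  classical
  set n := Fintype.card F - 2 with hn
  have hsum : ∀ k, k ≤ 4 → ∑ s : F, s ^ n * s ^ k = if k = 1 then -1 else 0 := by
    intro k hk
    simp only [← pow_add]
    rcases Nat.lt_or_ge k 1 with h | h
    · rw [if_neg (by omega), FiniteField.sum_pow_lt_card_sub_one F (n + k) (by omega)]
    · have e : ∀ s : F, s ^ (n + k) = if s = 0 then 0 else s ^ (k - 1) := fun s => by
        by_cases h0 : s = 0
        · rw [if_pos h0, h0, zero_pow (by omega)]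
        · rw [if_neg h0, show n + k = Fintype.card F - 1 + (k - 1) by omega, pow_add,
            FiniteField.pow_card_sub_one_eq_one s h0, one_mul]
      simp only [e]
      have e2 : ∀ s : F, (if s = 0 then 0 else s ^ (k - 1)) = s ^ (k - 1) - if s = 0 then (0 : F) ^ (k - 1) else 0 :=
        fun s => by by_cases h0 : s = 0 <;> simp [h0]
      simp only [e2, Finset.sum_sub_distrib, Finset.sum_ite_eq', Finset.mem_univ, if_true,
        FiniteField.sum_pow_lt_card_sub_one F (k - 1) (by omega)]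
      by_cases h1 : k = 1
      · subst h1; simp
      · rw [if_neg h1, zero_pow (by omega), sub_zero]
  have := L.sum_mem (t := Finset.univ) (f := fun s => s ^ n • f s) fun s _ => L.smul_mem _ (hfL s)
  have e : ∑ s : F, s ^ n • f s = -A1 := by
    simp only [hf, smul_add, smul_smul, Finset.sum_add_distrib, ← Finset.sum_smul]
    have h0 := hsum 0 (by norm_num); simp only [pow_zero, mul_one] at h0
    have h1 := hsum 1 (by norm_num); simp only [pow_one] at h1
    rw [h0, h1, hsum 2 (by norm_num), hsum 3 (by norm_num), hsum 4 le_rfl]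
    simp
  rw [e] at this
  simpa using L.neg_mem this

/-- The derivative of the lower unipotent isometries in the first variable. -/
def mX (c : F) : Matrix (Fin 4) (Fin 4) F := Matrix.single 3 1 1 - c⁻¹ • Matrix.single 1 0 1

/-- The derivative of the lower unipotent isometries in the second variable. -/
def mY (d : F) : Matrix (Fin 4) (Fin 4) F := Matrix.single 3 2 1 - d⁻¹ • Matrix.single 2 0 1

theorem ad_mem_X [Fintype F] (hq : 5 ≤ Fintype.card F) (L : Submodule F (Matrix (Fin 4) (Fin 4) F))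
    (hconj : ∀ (x y : F) (Y : Matrix (Fin 4) (Fin 4) F), Y ∈ L → fB c d x y * Y * fB c d (-x) (-y) ∈ L) :
    ∀ Y ∈ L, mX c * Y - Y * mX c ∈ L := by
  intro Y hY
  have e : ∀ s : F, fB c d s 0 = 1 + s • (mX c) + (-(s ^ 2 * c⁻¹) / 2) • (Matrix.single (3 : Fin 4) (0 : Fin 4) (1 : F)) := fun s => by
    ext i j; fin_cases i <;> fin_cases j <;> simp [fB, mX,  Matrix.single, Matrix.one_apply] <;> ring
  refine extract_linear hq L (fun s => fB c d s 0 * Y * fB c d (-s) 0) Y _ (-((mX c) * Y * (mX c)) + (-c⁻¹ / 2) • ((Matrix.single (3 : Fin 4) (0 : Fin 4) (1 : F)) * Y + Y * (Matrix.single (3 : Fin 4) (0 : Fin 4) (1 : F))))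
    ((-c⁻¹ / 2) • ((mX c) * Y * (Matrix.single (3 : Fin 4) (0 : Fin 4) (1 : F)) - (Matrix.single (3 : Fin 4) (0 : Fin 4) (1 : F)) * Y * (mX c))) (((-c⁻¹ / 2) * (-c⁻¹ / 2)) • ((Matrix.single (3 : Fin 4) (0 : Fin 4) (1 : F)) * Y * (Matrix.single (3 : Fin 4) (0 : Fin 4) (1 : F)))) (fun s => ?_)
    (fun s => by simpa using hconj s 0 Y hY)
  simp only [e]
  simp only [mul_add, add_mul, mul_one, one_mul, Matrix.smul_mul, Matrix.mul_smul, smul_smul, smul_add, smul_sub]
  module

theorem ad_mem_Y [Fintype F] (hq : 5 ≤ Fintype.card F) (L : Submodule F (Matrix (Fin 4) (Fin 4) F))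
    (hconj : ∀ (x y : F) (Y : Matrix (Fin 4) (Fin 4) F), Y ∈ L → fB c d x y * Y * fB c d (-x) (-y) ∈ L) :
    ∀ Y ∈ L, mY d * Y - Y * mY d ∈ L := by
  intro Y hY
  have e : ∀ s : F, fB c d 0 s = 1 + s • (mY d) + (-(s ^ 2 * d⁻¹) / 2) • (Matrix.single (3 : Fin 4) (0 : Fin 4) (1 : F)) := fun s => by
    ext i j; fin_cases i <;> fin_cases j <;> simp [fB, mY,  Matrix.single, Matrix.one_apply] <;> ring
  refine extract_linear hq L (fun s => fB c d 0 s * Y * fB c d 0 (-s)) Y _ (-((mY d) * Y * (mY d)) + (-d⁻¹ / 2) • ((Matrix.single (3 : Fin 4) (0 : Fin 4) (1 : F)) * Y + Y * (Matrix.single (3 : Fin 4) (0 : Fin 4) (1 : F))))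
    ((-d⁻¹ / 2) • ((mY d) * Y * (Matrix.single (3 : Fin 4) (0 : Fin 4) (1 : F)) - (Matrix.single (3 : Fin 4) (0 : Fin 4) (1 : F)) * Y * (mY d))) (((-d⁻¹ / 2) * (-d⁻¹ / 2)) • ((Matrix.single (3 : Fin 4) (0 : Fin 4) (1 : F)) * Y * (Matrix.single (3 : Fin 4) (0 : Fin 4) (1 : F)))) (fun s => ?_)
    (fun s => by simpa using hconj 0 s Y hY)
  simp only [e]
  simp only [mul_add, add_mul, mul_one, one_mul, Matrix.smul_mul, Matrix.mul_smul, smul_smul, smul_add, smul_sub]
  module

set_option maxHeartbeats 1000000 in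
-- sixteen matrix units
theorem unit_mem (h2 : (2 : F) ≠ 0) (hc : c ≠ 0) (hd : d ≠ 0) (L : Submodule F (Matrix (Fin 4) (Fin 4) F))
    (adA : ∀ Y ∈ L, mX c * Y - Y * mX c ∈ L) (adB : ∀ Y ∈ L, mY d * Y - Y * mY d ∈ L) (hone : (1 : Matrix (Fin 4) (Fin 4) F) ∈ L)
    (h03 : Matrix.single 0 3 1 ∈ L) (hN1 : Matrix.single 0 1 1 - c⁻¹ • Matrix.single 1 3 1 ∈ L)
    (hN2 : Matrix.single 0 2 1 - d⁻¹ • Matrix.single 2 3 1 ∈ L) : ∀ i j, Matrix.single i j (1 : F) ∈ L := by
  let U : Fin 4 → Fin 4 → Matrix (Fin 4) (Fin 4) F := fun i j => Matrix.single i j 1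
  have hP1 : -(U 0 1 + c⁻¹ • U 1 3) ∈ L := by
    convert adA _ h03 using 1
    simp [U, mX, sub_mul, mul_sub] <;> module
  have hP2 : -(U 0 2 + d⁻¹ • U 2 3) ∈ L := by
    convert adB _ h03 using 1
    simp [U, mY, sub_mul, mul_sub] <;> module
  have scal : ∀ {r : F} {Z : Matrix (Fin 4) (Fin 4) F}, r ≠ 0 → r • Z ∈ L → Z ∈ L := fun {r Z} hr h => by
    simpa [smul_smul, hr] using L.smul_mem r⁻¹ h
  have h01 : U 0 1 ∈ L := scal h2 (by convert L.sub_mem hN1 hP1 using 1; module)
  have h02 : U 0 2 ∈ L := scal h2 (by convert L.sub_mem hN2 hP2 using 1; module)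
  have h13 : U 1 3 ∈ L := scal (inv_ne_zero hc) (by convert L.sub_mem h01 hN1 using 1; module)
  have h23 : U 2 3 ∈ L := scal (inv_ne_zero hd) (by convert L.sub_mem h02 hN2 using 1; module)
  have d10 : U 1 1 - U 0 0 ∈ L := scal (neg_ne_zero.2 (inv_ne_zero hc)) (by
    convert adA _ h01 using 1
    ext i j; fin_cases i <;> fin_cases j <;> simp [U, mX, Matrix.mul_apply, Fin.sum_univ_four, Matrix.single])
  have d31 : U 3 3 - U 1 1 ∈ L := by
    convert adA _ h13 using 1
    simp [U, mX, sub_mul, mul_sub] <;> module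
  have d20 : U 2 2 - U 0 0 ∈ L := scal (neg_ne_zero.2 (inv_ne_zero hd)) (by
    convert adB _ h02 using 1
    ext i j; fin_cases i <;> fin_cases j <;> simp [U, mY, Matrix.mul_apply, Fin.sum_univ_four, Matrix.single])
  have h12 : U 1 2 ∈ L := scal (neg_ne_zero.2 (inv_ne_zero hc)) (by
    convert adA _ h02 using 1
    simp [U, mX, sub_mul, mul_sub] <;> module)
  have h21 : U 2 1 ∈ L := scal (neg_ne_zero.2 (inv_ne_zero hd)) (by
    convert adB _ h01 using 1
    simp [U, mY, sub_mul, mul_sub] <;> module)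
  have h4 : (4 : F) ≠ 0 := by rw [show (4 : F) = 2 * 2 by norm_num]; exact mul_ne_zero h2 h2
  have h00 : U 0 0 ∈ L := scal h4 (by
    convert L.sub_mem (L.sub_mem (L.sub_mem hone (L.add_mem d10 d31)) d10) d20 using 1
    ext i j; fin_cases i <;> fin_cases j <;> simp [U, Matrix.single, Matrix.one_apply]; norm_num)
  have h11 : U 1 1 ∈ L := by simpa using L.add_mem d10 h00
  have h22 : U 2 2 ∈ L := by simpa using L.add_mem d20 h00
  have h33 : U 3 3 ∈ L := by simpa using L.add_mem d31 h11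
  have h10 : U 1 0 ∈ L := scal (neg_ne_zero.2 (inv_ne_zero hc)) (by
    convert adA _ h00 using 1
    simp [U, mX, sub_mul, mul_sub] <;> module)
  have h20 : U 2 0 ∈ L := scal (neg_ne_zero.2 (inv_ne_zero hd)) (by
    convert adB _ h00 using 1
    simp [U, mY, sub_mul, mul_sub] <;> module)
  have h30 : U 3 0 ∈ L := by
    convert adA _ h10 using 1
    simp [U, mX, sub_mul, mul_sub] <;> module
  have h31 : U 3 1 ∈ L := by
    convert L.sub_mem (adA _ h11) (L.smul_mem c⁻¹ h10) using 1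
    simp [U, mX, sub_mul, mul_sub] <;> module
  have h32 : U 3 2 ∈ L := by
    convert L.sub_mem (adB _ h22) (L.smul_mem d⁻¹ h20) using 1
    simp [U, mY, sub_mul, mul_sub] <;> module
  have hU : ∀ i j, U i j ∈ L := by
    intro i j
    fin_cases i <;> fin_cases j <;> assumption
  exact hU

variable [Fintype F]

theorem sum_pow_two_zero (hq : 5 ≤ Fintype.card F) (i j : ℕ) (h : i + j ≤ 4) :
    ∑ η : Multiplicative (F × F), η.toAdd.1 ^ i * η.toAdd.2 ^ j = (0 : F) := by
  rw [Equiv.sum_comp Multiplicative.toAdd (fun η : F × F => η.1 ^ i * η.2 ^ j), Fintype.sum_prod_type]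
  simp only [← Finset.mul_sum, ← Finset.sum_mul]
  rcases le_or_gt (Fintype.card F - 1) i with hi | hi
  · rw [FiniteField.sum_pow_lt_card_sub_one F j (by omega), mul_zero]
  · rw [FiniteField.sum_pow_lt_card_sub_one F i hi, zero_mul]

theorem sum_conj_eB (hq : 5 ≤ Fintype.card F) (Φ : M12 F) :
    ∑ η : Multiplicative (F × F), ((1 : A3 F) ⊗ₖ eB c d η.toAdd.1 η.toAdd.2) * Φ *
      ((1 : A3 F) ⊗ₖ eB c d (-η.toAdd.1) (-η.toAdd.2)) = 0 := by
  have h : ∀ x y : F, (1 : A3 F) ⊗ₖ eB c d x y = ∑ k, (x ^ ePow k * y ^ ePow' k) • ((1 : A3 F) ⊗ₖ ePart c d k) := by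
    intro x y
    ext ⟨i, j⟩ ⟨i', j'⟩
    rw [eB_expand, Matrix.sum_apply, Matrix.kroneckerMap_apply, Matrix.sum_apply, Finset.mul_sum]
    refine Finset.sum_congr rfl fun k _ => ?_
    simp only [Matrix.smul_apply, Matrix.kroneckerMap_apply, smul_eq_mul]
    ring
  simp only [h, Finset.sum_mul, Finset.mul_sum, Matrix.smul_mul, Matrix.mul_smul, smul_smul]
  rw [Finset.sum_comm]
  refine Finset.sum_eq_zero fun a _ => ?_
  rw [Finset.sum_comm]
  refine Finset.sum_eq_zero fun b _ => ?_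
  rw [← Finset.sum_smul]
  convert zero_smul F _
  rw [← mul_zero ((-1 : F) ^ (ePow a + ePow' a)),
    ← sum_pow_two_zero hq (ePow a + ePow b) (ePow' a + ePow' b) (by revert a b; decide), Finset.mul_sum]
  refine Finset.sum_congr rfl fun η _ => ?_
  rw [neg_pow η.toAdd.1, neg_pow η.toAdd.2, pow_add, pow_add, pow_add]
  ring

/-- The projection onto the first factor. -/
noncomputable def pr (X : M12 F) : M12 F := ((4 : F)⁻¹ • ∑ j, blk X j j) ⊗ₖ (1 : Matrix (Fin 4) (Fin 4) F)

theorem pr_kron (h4 : (4 : F) ≠ 0) (A : A3 F) : pr (A ⊗ₖ (1 : Matrix (Fin 4) (Fin 4) F)) = A ⊗ₖ 1 := by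
  rw [pr]
  congr 1
  simp only [blk_kron, Matrix.one_apply_eq, one_smul, Finset.sum_const, Finset.card_univ, Fintype.card_fin]
  rw [← Nat.cast_smul_eq_nsmul F, smul_smul, show ((4 : ℕ) : F) = 4 by norm_num, inv_mul_cancel₀ h4, one_smul]

/-- The projection as a linear map. -/
noncomputable def prL : M12 F →ₗ[F] M12 F where
  toFun := pr
  map_add' X Y := by simp only [pr, blk_add, Finset.sum_add_distrib, smul_add, Matrix.add_kronecker]
  map_smul' r X := by
    simp only [pr, blk_smul, ← Finset.smul_sum, RingHom.id_apply, smul_comm (4 : F)⁻¹ r, Matrix.smul_kronecker]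

/-- Conjugation. -/
noncomputable def cj (g : orth q) : M12 F →ₗ[F] M12 F :=
  (LinearMap.mulLeft F (mt q g)).comp (LinearMap.mulRight F (mt q g⁻¹))

theorem cj_apply (g : orth q) (X : M12 F) : cj g X = mt q g * X * mt q g⁻¹ := by
  simp [cj, mul_assoc]

theorem cj_mul (g h : orth q) : cj (g * h) = (cj g).comp (cj h) := by
  refine LinearMap.ext fun X => ?_
  simp only [LinearMap.comp_apply, cj_apply, mul_inv_rev, map_mul, mul_assoc]

theorem cj_one : cj (1 : orth q) = LinearMap.id := LinearMap.ext fun X => by simp [cj_apply]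

theorem pr_equivariant (h : orth q) (ha : ∃ a b, mt q h = a ⊗ₖ b) (ha' : ∃ a b, mt q h⁻¹ = a ⊗ₖ b) (X : M12 F) :
    pr (cj h X) = cj h (pr X) := by
  obtain ⟨a, b, hab⟩ := ha
  obtain ⟨a', b', hab'⟩ := ha'
  have h1 : (a' * a) ⊗ₖ (b' * b) = (1 : M12 F) := by rw [Matrix.mul_kronecker_mul, ← hab, ← hab', mt_inv_mul]
  have hbl : ∀ j k, (b' * b) j k • (a' * a) = if j = k then (1 : A3 F) else 0 := fun j k => by
    rw [← blk_kron, h1, blk_one]
  set μ := (b' * b) 0 0 with hμ
  have hne : μ ≠ 0 := fun e => by simpa [← hμ, e] using hbl 0 0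
  have haa : a' * a = μ⁻¹ • 1 := by rw [eq_inv_smul_iff₀ hne]; simpa using hbl 0 0
  have hbb : b' * b = μ • 1 := by
    ext j k
    have := congrFun (congrFun (hbl j k) 0) 0
    rw [haa] at this
    by_cases hjk : j = k
    · subst hjk
      simp at this ⊢
      field_simp at this
      exact this
    · simp [hjk] at this ⊢
      exact this.resolve_right hne
  have hbb2 : b * b' = μ • 1 := by
    have h5 : (μ⁻¹ • b') * b = 1 := by rw [Matrix.smul_mul, hbb, smul_smul, inv_mul_cancel₀ hne, one_smul]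
    have h6 := congrArg (fun Z => μ • Z) (mul_eq_one_comm.1 h5)
    simpa [Matrix.mul_smul, smul_smul, hne] using h6
  have key : ∑ j, blk (cj h X) j j = μ • (a * (∑ j, blk X j j) * a') := by
    simp only [cj_apply, hab, hab', blk_mul, blk_kron, Finset.sum_mul, Finset.mul_sum, Matrix.smul_mul, Matrix.mul_smul,
      smul_smul, Finset.smul_sum]
    rw [Finset.sum_comm]
    refine Finset.sum_congr rfl fun u _ => ?_
    rw [Finset.sum_comm]
    simp only [← Finset.sum_smul]
    have e : ∀ t, ∑ j, b' u j * b j t = if u = t then μ else 0 := fun t => by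
      rw [← Matrix.mul_apply, hbb]; simp [Matrix.one_apply]
    simp only [e]
    rw [Finset.sum_eq_single u (fun t _ ht => by simp [Ne.symm ht]) (fun hh => absurd (Finset.mem_univ _) hh), if_pos rfl]
  rw [show pr (cj h X) = ((4 : F)⁻¹ • ∑ j, blk (cj h X) j j) ⊗ₖ (1 : Matrix (Fin 4) (Fin 4) F) from rfl, key, cj_apply, hab, hab', pr, ← Matrix.mul_kronecker_mul, ← Matrix.mul_kronecker_mul, mul_one, hbb2,
    Matrix.kronecker_smul, Matrix.mul_smul, Matrix.smul_mul, Matrix.smul_kronecker, Matrix.smul_kronecker,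
    Matrix.smul_kronecker, smul_comm]

variable {M : Subgroup (orth q)}

/-- The tensors in `M`. -/
noncomputable def Hs (M : Subgroup (orth q)) : Subgroup M where
  carrier := {g | ∃ (a : A3 F) (b : Matrix (Fin 4) (Fin 4) F), mt q g.1 = a ⊗ₖ b}
  one_mem' := ⟨1, 1, by rw [Subgroup.coe_one, map_one, Matrix.one_kronecker_one]⟩
  mul_mem' := fun {g h} ⟨a, b, hg⟩ ⟨a', b', hh⟩ => ⟨a * a', b * b', by
    rw [Subgroup.coe_mul, map_mul, hg, hh, Matrix.mul_kronecker_mul]⟩
  inv_mem' := fun {g} ⟨a, b, hg⟩ => by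
    haveI : Finite (orth q) := Finite.of_injective (mt q) mt_injective
    have hpos := orderOf_pos g.1
    refine ⟨a ^ (orderOf g.1 - 1), b ^ (orderOf g.1 - 1), ?_⟩
    rw [← kron_pow, ← hg, ← map_pow, Subgroup.coe_inv]
    congr 1
    refine inv_eq_of_mul_eq_one_right ?_
    rw [← pow_succ', Nat.sub_add_cancel hpos, pow_orderOf_eq_one]

/-- A term of the relative trace. -/
noncomputable def term (g : M) : M12 F →ₗ[F] M12 F := (cj g.1).comp (prL.comp (cj g.1⁻¹))

theorem term_apply (g : M) (X : M12 F) : term g X = cj g.1 (pr (cj g.1⁻¹ X)) := rfl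

theorem term_coset {g g' : M} (h : g⁻¹ * g' ∈ Hs M) (X : M12 F) : term g' X = term g X := by
  obtain ⟨k, rfl⟩ : ∃ k, g' = g * k := ⟨g⁻¹ * g', (mul_inv_cancel_left _ _).symm⟩
  rw [inv_mul_cancel_left] at h
  simp only [term_apply, Subgroup.coe_mul, mul_inv_rev, cj_mul, LinearMap.comp_apply]
  rw [← pr_equivariant _ h ((Hs M).inv_mem h)]
  rw [← LinearMap.comp_apply (cj k.1), ← cj_mul, mul_inv_cancel, cj_one, LinearMap.id_apply]

theorem term_mul (k g : M) (X : M12 F) : term (k * g) (cj k.1 X) = cj k.1 (term g X) := by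
  simp only [term_apply, Subgroup.coe_mul, mul_inv_rev, cj_mul, LinearMap.comp_apply]
  rw [← LinearMap.comp_apply (cj k.1⁻¹), ← cj_mul, inv_mul_cancel, cj_one, LinearMap.id_apply]

/-- The relative trace. -/
noncomputable def tr (M : Subgroup (orth q)) : M12 F →ₗ[F] M12 F :=
  haveI : Finite (orth q) := Finite.of_injective (mt q) mt_injective
  letI := Fintype.ofFinite (M ⧸ Hs M)
  ∑ C : M ⧸ Hs M, term C.out

theorem tr_equivariant (k : M) (X : M12 F) : tr M (cj k.1 X) = cj k.1 (tr M X) := by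
  haveI : Finite (orth q) := Finite.of_injective (mt q) mt_injective
  letI := Fintype.ofFinite (M ⧸ Hs M)
  simp only [tr, LinearMap.sum_apply, map_sum]
  refine (Fintype.sum_equiv (MulAction.toPerm k) _ _ fun C => ?_).symm
  rw [← term_mul]
  refine (term_coset ?_ _).symm
  rw [← QuotientGroup.eq, MulAction.toPerm_apply, QuotientGroup.out_eq']
  conv_rhs => rw [← QuotientGroup.out_eq' C]
  rfl

variable (hs : Std q c d) (hM : HM q M) (hle : M ≤ commutator (orth q))
  (hR : ∀ {X Y E : A3 F}, InM q M (rs c d X Y E) → ∃ x y, rs c d X Y E = (1 : A3 F) ⊗ₖ eB c d x y)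
  (hq : 5 ≤ Fintype.card F)
include hs hM hle hR hq

theorem tr_eq_pr {X : M12 F}
    (hX : ∀ x y : F, ((1 : A3 F) ⊗ₖ eB c d x y) * X * ((1 : A3 F) ⊗ₖ eB c d (-x) (-y)) = X) :
    tr M X = pr X := by
  classical
  haveI : Finite (orth q) := Finite.of_injective (mt q) mt_injective
  letI := Fintype.ofFinite (M ⧸ Hs M)
  choose e heM he using fun η : Multiplicative (F × F) => inM_eB hs hM η.toAdd.1 η.toAdd.2
  let φ : Multiplicative (F × F) →* M :=
    { toFun := fun η => ⟨e η, heM η⟩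
      map_one' := Subtype.ext (mt_injective (by
        rw [Subgroup.coe_one, map_one, he]; simp [eB_zero, Matrix.one_kronecker_one]))
      map_mul' := fun η η' => Subtype.ext (mt_injective (by
        rw [Subgroup.coe_mul, map_mul, he, he, he, ← Matrix.mul_kronecker_mul, one_mul, eB_add hs.two]; rfl)) }
  have hinv : ∀ η, mt q (e η)⁻¹ = (1 : A3 F) ⊗ₖ eB c d (-η.toAdd.1) (-η.toAdd.2) := fun η => by
    have h1 : (φ η⁻¹).1 = (φ η).1⁻¹ := by rw [map_inv, Subgroup.coe_inv]
    rw [← show e η⁻¹ = (e η)⁻¹ from h1, he]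
    rfl
  have hcj : ∀ η Z, cj (e η) Z = ((1 : A3 F) ⊗ₖ eB c d η.toAdd.1 η.toAdd.2) * Z *
      ((1 : A3 F) ⊗ₖ eB c d (-η.toAdd.1) (-η.toAdd.2)) := fun η Z => by rw [cj_apply, he, hinv]
  have hH : ∀ η, φ η ∈ Hs M := fun η => ⟨1, _, he η⟩
  letI : MulAction (Multiplicative (F × F)) (M ⧸ Hs M) := MulAction.compHom _ φ
  simp only [tr, LinearMap.sum_apply]
  have hsm : ∀ η (C : M ⧸ Hs M), η • C = QuotientGroup.mk (φ η * C.out) := fun η C => by
    conv_lhs => rw [← QuotientGroup.out_eq' C]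
    rfl
  have hterm : ∀ η (C : M ⧸ Hs M), term (η • C).out X = cj (e η) (term C.out X) := fun η C => by
    rw [hsm]
    have h1 := term_mul (φ η) C.out X
    rw [show cj (φ η).1 X = X from (hcj η X).trans (hX _ _)] at h1
    exact (term_coset (QuotientGroup.eq.1 (QuotientGroup.out_eq' _).symm) X).trans h1
  rw [sum_free (G := Multiplicative (F × F)) (fun C => term C.out X) (QuotientGroup.mk 1)]
  · rw [term_coset (g := 1) (by
      rw [inv_one, one_mul]
      have := QuotientGroup.eq.1 (QuotientGroup.out_eq' (QuotientGroup.mk (1 : M) : M ⧸ Hs M)).symm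
      simpa using this) X]
    simp [term_apply, cj_one]
  · intro η
    rw [hsm, QuotientGroup.eq, mul_one]
    refine (Hs M).inv_mem ((Hs M).mul_mem (hH η) ?_)
    have := QuotientGroup.eq.1 (QuotientGroup.out_eq' (QuotientGroup.mk (1 : M) : M ⧸ Hs M)).symm
    simpa using this
  · intro C hC η hη
    rw [hsm] at hη
    have h1 : (C.out : M)⁻¹ * φ η * C.out ∈ Hs M := by
      have := QuotientGroup.eq.1 ((QuotientGroup.out_eq' C).trans hη.symm)
      rwa [← mul_assoc] at this
    by_contra hne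
    have hxy : η.toAdd.1 ≠ 0 ∨ η.toAdd.2 ≠ 0 := by
      by_contra hh
      push Not at hh
      exact hne (Multiplicative.toAdd.injective (Prod.ext hh.1 hh.2))
    obtain ⟨a, b, hab⟩ := fusion_kron hs hM hle hR C.out.2 (he η) hxy h1
    exact hC (by
      rw [← QuotientGroup.out_eq' C, QuotientGroup.eq]
      exact (Hs M).mul_mem ((Hs M).inv_mem ⟨a, b, hab⟩) (Hs M).one_mem)
  · intro C _
    simp only [hterm, hcj]
    exact sum_conj_eB hq _

set_option maxHeartbeats 1000000 in
-- commutation with the unipotent group by entries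
theorem tr_eq_pr_all (X : M12 F) : tr M X = pr X := by
  haveI := NeZero.mk hs.two
  have hc := hs.c_ne
  have hd := hs.d_ne
  let L : Submodule F (Matrix (Fin 4) (Fin 4) F) :=
    { carrier := {Y | ∀ P : A3 F, tr M (P ⊗ₖ Y) = prL (P ⊗ₖ Y)}
      zero_mem' := fun P => by simp [Matrix.kronecker_zero]
      add_mem' := fun {Y Y'} h h' P => by rw [Matrix.kronecker_add, map_add, map_add, h P, h' P]
      smul_mem' := fun r Y h P => by rw [Matrix.kronecker_smul, map_smul, map_smul, h P] }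
  have hfix : ∀ Y : Matrix (Fin 4) (Fin 4) F, (∀ x y, eB c d x y * Y = Y * eB c d x y) → Y ∈ L := by
    intro Y hY P
    refine tr_eq_pr hs hM hle hR hq fun x y => ?_
    rw [← Matrix.mul_kronecker_mul, ← Matrix.mul_kronecker_mul, one_mul, mul_one, hY, mul_assoc,
      eB_add hs.two, add_neg_cancel, add_neg_cancel, eB_zero, mul_one]
  -- conjugation by lower unipotent elements
  have hconj : ∀ (x y : F) (Y : Matrix (Fin 4) (Fin 4) F), Y ∈ L → fB c d x y * Y * fB c d (-x) (-y) ∈ L := by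
    intro x y Y hY P
    obtain ⟨k, hk, hkm⟩ := inM_fB hs hM x y
    obtain ⟨k', hk', hkm'⟩ := inM_fB hs hM (-x) (-y)
    have hi : k⁻¹ = k' := inv_eq_of_mul_eq_one_right (mt_injective (by
      rw [map_mul, hkm, hkm', ← Matrix.mul_kronecker_mul, one_mul, fB_add hs.two, add_neg_cancel, add_neg_cancel, map_one,
        show fB c d 0 0 = 1 by ext i j; fin_cases i <;> fin_cases j <;> simp [fB], Matrix.one_kronecker_one]))
    have e : P ⊗ₖ (fB c d x y * Y * fB c d (-x) (-y)) = cj k (P ⊗ₖ Y) := by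
      rw [cj_apply, hi, hkm, hkm', ← Matrix.mul_kronecker_mul, ← Matrix.mul_kronecker_mul, one_mul, mul_one]
    rw [e, show tr M (cj k (P ⊗ₖ Y)) = cj k (tr M (P ⊗ₖ Y)) from tr_equivariant ⟨k, hk⟩ _, hY P]
    exact (pr_equivariant k ⟨_, _, hkm⟩ ⟨_, _, hi ▸ hkm'⟩ _).symm
  have adA := ad_mem_X hq L hconj
  have adB := ad_mem_Y hq L hconj
  let U : Fin 4 → Fin 4 → Matrix (Fin 4) (Fin 4) F := fun i j => Matrix.single i j 1
  have hone : (1 : Matrix (Fin 4) (Fin 4) F) ∈ L := hfix 1 fun x y => by rw [mul_one, one_mul]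
  have h03 : U 0 3 ∈ L := hfix _ fun x y => by
    ext i j; fin_cases i <;> fin_cases j <;> simp [U, eB, Matrix.mul_apply, Fin.sum_univ_four, Matrix.single]
  have hN1 : U 0 1 - c⁻¹ • U 1 3 ∈ L := hfix _ fun x y => by
    ext i j
    fin_cases i <;> fin_cases j <;>
      simp [U, eB, Matrix.mul_apply, Fin.sum_univ_four, Matrix.single] <;> ring
  have hN2 : U 0 2 - d⁻¹ • U 2 3 ∈ L := hfix _ fun x y => by
    ext i j
    fin_cases i <;> fin_cases j <;>
      simp [U, eB, Matrix.mul_apply, Fin.sum_univ_four, Matrix.single] <;> ring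
  have hU : ∀ i j, U i j ∈ L := unit_mem hs.two hc hd L adA adB hone h03 hN1 hN2
  have e : X = ∑ j, ∑ k, blk X j k ⊗ₖ U j k := by
    refine ext_blk fun j k => ?_
    ext a b
    simp [blk, U, Matrix.sum_apply, Matrix.single, ite_and]
  rw [e, map_sum, show pr (∑ j, ∑ k, blk X j k ⊗ₖ U j k) = prL (∑ j, ∑ k, blk X j k ⊗ₖ U j k) from rfl, map_sum]
  exact Finset.sum_congr rfl fun j _ => by
    rw [map_sum, map_sum]; exact Finset.sum_congr rfl fun k _ => hU j k _

/-- `M` consists of tensors. -/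
theorem all_kron (g : M) : ∃ a b, mt q g.1 = a ⊗ₖ b := by
  have h4 : (4 : F) ≠ 0 := by rw [show (4 : F) = 2 * 2 by norm_num]; exact mul_ne_zero hs.two hs.two
  set G := mt q g.1 with hG
  have hZ : ∀ A : A3 F, ∃ Z : A3 F, ∀ j k, blk G j k * A = Z * blk G j k := by
    intro A
    have h := tr_equivariant g (A ⊗ₖ (1 : Matrix (Fin 4) (Fin 4) F))
    rw [tr_eq_pr_all hs hM hle hR hq, tr_eq_pr_all hs hM hle hR hq, pr_kron h4] at h
    refine ⟨(4 : F)⁻¹ • ∑ j, blk (cj g.1 (A ⊗ₖ (1 : Matrix (Fin 4) (Fin 4) F))) j j, fun j k => ?_⟩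
    have h' := congrArg (fun Y => Y * G) h
    simp only [cj_apply, mul_assoc, hG, mt_inv_mul, mul_one] at h'
    rw [← mul_assoc] at h'
    have := congrArg (fun Y => blk Y j k) h'
    simp only [pr, cj_apply, blk_mul, blk_kron, Matrix.smul_mul, Matrix.mul_smul, mul_assoc] at this ⊢
    simpa [Matrix.one_apply, Finset.sum_ite_eq, Finset.sum_ite_eq'] using this.symm
  obtain ⟨j0, k0, hne⟩ : ∃ j k, blk G j k ≠ 0 := by
    by_contra hh
    push Not at hh
    have h0 : G = 0 := ext_blk fun j k => hh j k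
    exact zero_ne_one (α := M12 F) (by rw [← mt_mul_inv g.1, ← hG, h0, zero_mul])
  set G0 := blk G j0 k0 with hG0
  have hinj : Function.Injective (G0.mulVecLin) := by
    rw [← LinearMap.ker_eq_bot, LinearMap.ker_eq_bot']
    intro v hv
    by_contra hv0
    obtain ⟨i, hi⟩ := Function.ne_iff.1 hv0
    refine hne (Matrix.ext_of_mulVec_single fun l => ?_)
    obtain ⟨Z, hZ⟩ := hZ (Matrix.single l i (v i)⁻¹)
    have e := congrArg (fun Y => Y *ᵥ v) (hZ j0 k0)
    simp only [← Matrix.mulVec_mulVec, ← hG0, show G0 *ᵥ v = 0 from hv, Matrix.mulVec_zero] at e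
    rw [show Matrix.single l i (v i)⁻¹ *ᵥ v = Pi.single l 1 by
      funext r
      by_cases hr : r = l
      · subst hr
        rw [Pi.single_eq_same]
        simp [Matrix.mulVec, dotProduct, Matrix.single, Finset.sum_ite_eq, inv_mul_cancel₀ (show v i ≠ 0 from hi)]
      · rw [Pi.single_eq_of_ne hr]
        simp [Matrix.mulVec, dotProduct, Matrix.single, Ne.symm hr]] at e
    rw [e, Matrix.zero_mulVec]
  obtain ⟨u, hu⟩ := Matrix.mulVec_injective_iff_isUnit.1 hinj
  set G0' : A3 F := ↑u⁻¹ with hG0'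
  have hG'G : G0' * G0 = 1 := by rw [hG0', hG0, ← hu, Units.inv_mul]
  have hGG' : G0 * G0' = 1 := by rw [hG0', hG0, ← hu, Units.mul_inv]
  refine ⟨G0, Matrix.of fun j k => (G0' * blk G j k) 0 0, ext_blk fun j k => ?_⟩
  rw [blk_kron, Matrix.of_apply]
  have hcomm : ∀ A : A3 F, A * (G0' * blk G j k) = G0' * blk G j k * A := by
    intro A
    obtain ⟨Z, hZ⟩ := hZ A
    have hZ' : Z = G0 * A * G0' := by rw [hG0, hZ j0 k0, ← hG0, mul_assoc, hGG', mul_one]
    rw [mul_assoc G0' (blk G j k) A, hZ j k, hZ']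
    simp only [← mul_assoc]
    rw [hG'G, one_mul]
  obtain ⟨r, hr⟩ := Matrix.mem_range_scalar_of_commute_single (M := G0' * blk G j k)
    (fun i l _ => hcomm (Matrix.single i l 1))
  have e : G0' * blk G j k = r • 1 := by rw [← hr, Matrix.smul_one_eq_diagonal, Matrix.scalar_apply]
  rw [e]
  calc blk G j k = G0 * (G0' * blk G j k) := by rw [← mul_assoc, hGG', one_mul]
    _ = _ := by rw [e]; simp

end Cfsg.Agent.OrthUnitaryTensorThreeFour
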