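import Mathlib
import Cfsg.Prelude.Def_KGroupFacts
import Cfsg.Agent.Lib.AutFixSylow67
import Cfsg.Agent.Lib.FrattiniTuples
import Cfsg.Agent.Lib.AnisoQuadSolvable

/-!
Glauberman's criteria for solvability of the outer automorphism group of a simple group, given
that groups of odd order are solvable and the Z*-theorem.
-/

set_option autoImplicit false
set_option linter.style.haveILetI false

namespace Cfsg.Agent.OutSolvable67

open Subgroup
open scoped Pointwise

universe u

variable {G : Type u} [Group G] [Finite G]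

/-- The automorphisms that normalise `S`. -/
def autStab (S : Subgroup G) : Subgroup (MulAut G) where
  carrier := {φ | ∀ x, φ x ∈ S ↔ x ∈ S}
  one_mem' := fun x => by simp
  mul_mem' := fun {a b} ha hb x => by rw [MulAut.mul_apply, ha, hb]
  inv_mem' := fun {a} ha x => by
    have h := ha (a⁻¹ x)
    rw [MulAut.apply_inv_self] at h
    exact h.symm

/-- Restriction to `S`. -/
def restrict (S : Subgroup G) : autStab S →* MulAut S where
  toFun φ :=
    { toFun := fun x => ⟨(φ : MulAut G) x, (φ.2 x).2 x.2⟩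
      invFun := fun x => ⟨((φ⁻¹ : autStab S) : MulAut G) x, ((φ⁻¹ : autStab S).2 x).2 x.2⟩
      left_inv := fun x => Subtype.ext (by simp)
      right_inv := fun x => Subtype.ext (by simp)
      map_mul' := fun x y => Subtype.ext (by simp) }
  map_one' := by ext; simp
  map_mul' φ ψ := by ext; simp

omit [Finite G] in
theorem restrict_apply (S : Subgroup G) (φ : autStab S) (x : S) :
    ((restrict S φ x : S) : G) = (φ : MulAut G) x := rfl

/-- `Out G` is solvable if the group induced on a Sylow 2-subgroup by the automorphisms normalising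
it is solvable. -/
theorem out_solvable (hFT : ∀ (X : Type u) [Group X] [Finite X], Odd (Nat.card X) → Group.IsSolvable X)
    (hZ : L2BalanceAut.ZStarProp.{u})
    (hO : ∀ N : Subgroup G, N.Normal → Odd (Nat.card N) → N = ⊥) (S : Sylow 2 G)
    (hR : Group.IsSolvable (restrict (S : Subgroup G)).range) :
    Group.IsSolvable (Cfsg.Out G) := by
  haveI := Fact.mk Nat.prime_two
  set N := autStab (S : Subgroup G)
  let C : Subgroup (MulAut G) :=
    { carrier := {φ | ∀ s : G, s ∈ S → φ s = s}
      one_mem' := fun s _ => rfl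
      mul_mem' := fun {a b} ha hb s hs => by rw [MulAut.mul_apply, hb s hs, ha s hs]
      inv_mem' := fun {a} ha s hs => by
        conv_lhs => rw [← ha s hs]
        simp }
  haveI hC := (AutFixSylow67.main hFT hZ hO S C fun φ => Iff.rfl).2
  haveI hN : Group.IsSolvable ↥N := by
    haveI : Group.IsSolvable (restrict (S : Subgroup G)).ker := by
      refine Group.isSolvable_of_isSolvable_injective (f := ((N.subtype.comp
        (restrict (S : Subgroup G)).ker.subtype).codRestrict C fun φ s hs => ?_)) ?_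
      · exact congrArg Subtype.val (DFunLike.congr_fun (MonoidHom.mem_ker.mp φ.2) ⟨s, hs⟩)
      · exact fun a b h => Subtype.ext (Subtype.ext (congrArg (fun c : C => (c : MulAut G)) h))
    exact Group.isSolvable_of_ker_le_range (restrict (S : Subgroup G)).ker.subtype
      (restrict (S : Subgroup G)).rangeRestrict (by
        intro x hx
        exact ⟨⟨x, by simpa using hx⟩, rfl⟩)
  refine Group.isSolvable_of_surjective (f := (QuotientGroup.mk' (Cfsg.Inn G)).comp N.subtype)
    fun q => ?_
  obtain ⟨α, rfl⟩ := QuotientGroup.mk'_surjective (Cfsg.Inn G) q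
  obtain ⟨g, hg⟩ := MulAction.exists_smul_eq G
    (S.mapSurjective (f := α.toMonoidHom) α.surjective) S
  have hmap : ∀ x : G, g * α x * g⁻¹ ∈ S ↔ x ∈ S := by
    intro x
    have e : (S : Subgroup G) = ((S : Subgroup G).map α.toMonoidHom).map
        (MulAut.conj g).toMonoidHom := by
      conv_lhs => rw [← hg]
      rfl
    constructor
    · intro h
      have h1 : g * α x * g⁻¹ ∈ (S : Subgroup G) := h
      rw [e] at h1
      obtain ⟨_, ⟨y, hy, rfl⟩, he⟩ := h1
      have : α x = α y := by
        have h2 : g * α y * g⁻¹ = g * α x * g⁻¹ := he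
        exact (mul_left_cancel (mul_right_cancel h2)).symm
      exact α.injective this ▸ hy
    · intro h
      show g * α x * g⁻¹ ∈ (S : Subgroup G)
      rw [e]
      exact ⟨_, ⟨x, h, rfl⟩, rfl⟩
  refine ⟨⟨MulAut.conj g * α, hmap⟩, ?_⟩
  show QuotientGroup.mk' (Cfsg.Inn G) (MulAut.conj g * α) = _
  rw [map_mul, (QuotientGroup.eq_one_iff (N := Cfsg.Inn G) _).2 ⟨g, rfl⟩ |> (fun h => show
    QuotientGroup.mk' (Cfsg.Inn G) (MulAut.conj g) = 1 from h), one_mul]

/-- A nonabelian simple group of even order has no nontrivial normal subgroup of odd order. -/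
theorem odd_normal_eq_bot [IsSimpleGroup G] (S : Sylow 2 G) (hS1 : (S : Subgroup G) ≠ ⊥) :
    ∀ N : Subgroup G, N.Normal → Odd (Nat.card N) → N = ⊥ := by
  intro N hN hodd
  refine hN.eq_bot_or_eq_top.resolve_right fun h => hS1 ?_
  rw [h, Subgroup.card_top] at hodd
  haveI := Fact.mk Nat.prime_two
  obtain ⟨k, hk⟩ := IsPGroup.iff_card.mp S.isPGroup'
  rw [← Subgroup.card_eq_one]
  exact Nat.eq_one_of_dvd_coprimes ((Nat.coprime_two_left.2 hodd).pow_left k) hk.dvd
    (Subgroup.card_subgroup_dvd_card _)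

/-- Two generators: `Aut S` is a `{2,3}`-group; three generators: primes 2, 3, 7. -/
theorem card_mulAut_dvd_of_gens {S : Type*} [Group S] [Finite S] (hS : IsPGroup 2 S) {r : ℕ}
    (f : Fin r → S) (hf : closure (Set.range f) = ⊤) :
    ∃ m k : ℕ, k ≤ r ∧ Nat.card (MulAut S) ∣ 2 ^ m * ∏ i ∈ Finset.range k, (2 ^ k - 2 ^ i) := by
  haveI := Fact.mk Nat.prime_two
  classical
  obtain ⟨hc, hpow⟩ := PGroupsBasic.quotient_frattini_elementary hS
  obtain ⟨n, hn⟩ := IsPGroup.iff_card.mp hS
  obtain ⟨k, hk⟩ := IsPGroup.iff_card.mp (hS.to_quotient (frattini S))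
  have hidx : (frattini S).index = 2 ^ k := by rw [Subgroup.index_eq_card]; exact hk
  refine ⟨k * (n - k), k, ?_, FrattiniTuples.card_mulAut_dvd hn hidx⟩
  have h1 := PGroupsBasic.card_closure_le_pow (p := 2) hc hpow
    (Finset.univ.image fun i => (f i : S ⧸ frattini S))
  rw [Finset.coe_image, Finset.coe_univ, Set.image_univ] at h1
  have h2 : closure (Set.range fun i => (f i : S ⧸ frattini S)) = ⊤ := by
    rw [show (Set.range fun i => (f i : S ⧸ frattini S)) =
      (QuotientGroup.mk' (frattini S)) '' Set.range f from Set.range_comp _ f,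
      ← MonoidHom.map_closure, hf,
      Subgroup.map_top_of_surjective _ (QuotientGroup.mk'_surjective _)]
  rw [h2, Subgroup.card_top, hk] at h1
  have h3 := (Nat.pow_le_pow_iff_right (le_refl 2)).mp h1
  exact h3.trans (Finset.card_image_le.trans (by simp))

theorem solvable_mulAut_two_gen {S : Type*} [Group S] [Finite S] (hS : IsPGroup 2 S) (a b : S)
    (h : closure ({a, b} : Set S) = ⊤) : Group.IsSolvable (MulAut S) := by
  haveI : Finite (MulAut S) := inferInstance
  obtain ⟨m, k, hk, hd⟩ := card_mulAut_dvd_of_gens hS ![a, b]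
    (by rw [← h]; congr 1; ext y; simp [eq_comm]; tauto)
  refine AnisoQuadSolvable.solvable_of_primes 2 3 Nat.prime_two Nat.prime_three fun r hr hrd => ?_
  rcases (Nat.Prime.dvd_mul hr).mp (hrd.trans hd) with h1 | h1
  · exact .inl ((Nat.prime_dvd_prime_iff_eq hr Nat.prime_two).mp (hr.dvd_of_dvd_pow h1))
  · interval_cases k
    · exact absurd (Nat.dvd_one.mp (by simpa using h1)) hr.ne_one
    · exact absurd (Nat.dvd_one.mp (by simpa [Finset.prod_range_succ] using h1)) hr.ne_one
    · have h6 : r ∣ 2 * 3 := by simpa [Finset.prod_range_succ, mul_comm] using h1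
      rcases hr.dvd_mul.mp h6 with h2 | h2
      · exact .inl ((Nat.prime_dvd_prime_iff_eq hr Nat.prime_two).mp h2)
      · exact .inr ((Nat.prime_dvd_prime_iff_eq hr Nat.prime_three).mp h2)

/-- Three generators: a group of automorphisms with a nontrivial normal solvable subgroup
containing a nontrivial element of odd order is solvable. -/
theorem solvable_three_gen {S : Type*} [Group S] [Finite S] (hS : IsPGroup 2 S) (a b c : S)
    (h : closure ({a, b, c} : Set S) = ⊤) (R : Subgroup (MulAut S)) (M : Subgroup R) [M.Normal]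
    [Group.IsSolvable M] (x : R) (hx : x ∈ M) (hx1 : x ≠ 1) (hxo : Odd (orderOf x)) :
    Group.IsSolvable R := by
  haveI : Finite (MulAut S) := inferInstance
  haveI : Finite R := inferInstance
  obtain ⟨m, k, hk, hd⟩ := card_mulAut_dvd_of_gens hS ![a, b, c]
    (by rw [← h]; congr 1; ext y; simp [eq_comm]; tauto)
  have hall : ∃ j, Nat.card R ∣ 2 ^ j * 21 := by
    refine ⟨m + 3, (Subgroup.card_subgroup_dvd_card R).trans (hd.trans ?_)⟩
    rw [pow_add, mul_assoc]
    refine mul_dvd_mul_left _ ?_
    interval_cases k <;> simp [Finset.prod_range_succ] <;> decide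
  obtain ⟨j, hj⟩ := hall
  obtain ⟨q, hq, hqx⟩ := Nat.exists_prime_and_dvd (mt orderOf_eq_one_iff.mp hx1)
  have hq2 : q ≠ 2 := fun e => by
    subst e; exact hxo.not_two_dvd_nat hqx
  have hqM : q ∣ Nat.card M := hqx.trans (Subgroup.orderOf_dvd_natCard _ hx)
  have hq37 : q = 3 ∨ q = 7 := by
    have h1 : q ∣ 2 ^ j * 21 := (hqM.trans (Subgroup.card_subgroup_dvd_card M)).trans hj
    rcases hq.dvd_mul.mp h1 with h2 | h2
    · exact absurd ((Nat.prime_dvd_prime_iff_eq hq Nat.prime_two).mp (hq.dvd_of_dvd_pow h2)) hq2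
    · rcases hq.dvd_mul.mp (show q ∣ 3 * 7 from h2) with h3 | h3
      · exact .inl ((Nat.prime_dvd_prime_iff_eq hq Nat.prime_three).mp h3)
      · exact .inr ((Nat.prime_dvd_prime_iff_eq hq (by norm_num)).mp h3)
  have hquot : Nat.card (R ⧸ M) * q ∣ 2 ^ j * 21 := by
    refine (mul_dvd_mul_left _ hqM).trans ?_
    rw [← Subgroup.card_eq_card_quotient_mul_card_subgroup]
    exact hj
  haveI : Group.IsSolvable (R ⧸ M) := by
    rcases hq37 with rfl | rfl
    · have h1 : Nat.card (R ⧸ M) ∣ 2 ^ j * 7 := Nat.dvd_of_mul_dvd_mul_right (by norm_num)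
        (hquot.trans (dvd_of_eq (by ring)) : Nat.card (R ⧸ M) * 3 ∣ (2 ^ j * 7) * 3)
      refine AnisoQuadSolvable.solvable_of_primes 2 7 Nat.prime_two (by norm_num) fun r hr hrd => ?_
      rcases hr.dvd_mul.mp (hrd.trans h1) with h2 | h2
      · exact .inl ((Nat.prime_dvd_prime_iff_eq hr Nat.prime_two).mp (hr.dvd_of_dvd_pow h2))
      · exact .inr ((Nat.prime_dvd_prime_iff_eq hr (by norm_num)).mp h2)
    · have h1 : Nat.card (R ⧸ M) ∣ 2 ^ j * 3 := Nat.dvd_of_mul_dvd_mul_right (by norm_num)
        (hquot.trans (dvd_of_eq (by ring)) : Nat.card (R ⧸ M) * 7 ∣ (2 ^ j * 3) * 7)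
      refine AnisoQuadSolvable.solvable_of_primes 2 3 Nat.prime_two Nat.prime_three fun r hr hrd => ?_
      rcases hr.dvd_mul.mp (hrd.trans h1) with h2 | h2
      · exact .inl ((Nat.prime_dvd_prime_iff_eq hr Nat.prime_two).mp (hr.dvd_of_dvd_pow h2))
      · exact .inr ((Nat.prime_dvd_prime_iff_eq hr Nat.prime_three).mp h2)
  exact (Group.isSolvable_iff_subgroup_quotient M).mpr ⟨inferInstance, inferInstance⟩

end Cfsg.Agent.OutSolvable67
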