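import Mathlib
import Cfsg.Agent.Lib.FrobeniusPrimeAct
import Cfsg.Agent.Lib.FrobeniusFPF

/-!
An abelian group of automorphisms `D` of a group `V` of order `p ^ q`, `q` an odd prime, normalised by an
automorphism `w` with `w ^ q = 1` such that `⟨D, w⟩` acts irreducibly: either `D` acts irreducibly (and is
cyclic), or `V` is spanned by the `w`-translates of a `D`-invariant line; and there is no non-trivial
`D`-invariant alternating pairing on `V`.
-/

set_option autoImplicit false

namespace Cfsg.Agent.PFLineAct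

universe u

open Subgroup

variable {V : Type u} [CommGroup V] [Finite V]

/-- `X` is mapped into itself by `Z`. -/
def Inv (Z : Set (MulAut V)) (X : Subgroup V) : Prop := ∀ z ∈ Z, ∀ x ∈ X, z x ∈ X

theorem dichotomy {p q : ℕ} (hp : p.Prime) (hq : q.Prime) (hV : Nat.card V = p ^ q)
    (D : Subgroup (MulAut V)) (w : MulAut V) (hwD : ∀ z ∈ D, w⁻¹ * z * w ∈ D) (hwq : w ^ q = 1)
    (hmin : ∀ X : Subgroup V, Inv (D : Set (MulAut V)) X → (∀ x ∈ X, w x ∈ X) → X = ⊥ ∨ X = ⊤) :
    (∀ X : Subgroup V, Inv (D : Set (MulAut V)) X → X = ⊥ ∨ X = ⊤) ∨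
      ∃ l : Subgroup V, Nat.card l = p ∧ Inv (D : Set (MulAut V)) l ∧
        ∀ E : Subgroup V, (∀ i : ℕ, ∀ x ∈ l, (w ^ i) x ∈ E) → E = ⊤ := by
  haveI : Nontrivial V := Finite.one_lt_card_iff_nontrivial.1
    (hV ▸ Nat.one_lt_pow hq.ne_zero hp.one_lt)
  obtain ⟨U, hU, hUi, hUmin⟩ := FrobeniusPrimeAct.exists_minimal_invariant (D : Set (MulAut V))
  have hwi : w⁻¹ = w ^ (q - 1) :=
    inv_eq_of_mul_eq_one_right (by rw [← pow_succ', Nat.sub_add_cancel hq.one_le, hwq])
  have hN : ∀ g ∈ zpowers w, ∀ z ∈ D, g⁻¹ * z * g ∈ D := by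
    intro g hg
    obtain ⟨n, rfl⟩ := (mem_powers_iff_mem_zpowers).2 hg
    induction n with
    | zero => intro z hz; simpa using hz
    | succ n ih =>
      intro z hz
      have h2 := hwD _ (ih (mem_zpowers_iff.2 ⟨n, zpow_natCast w n⟩) z hz)
      simp only [pow_succ, mul_inv_rev, mul_assoc] at h2 ⊢
      exact h2
  obtain ⟨W, m, hUW, hcard, hWi, hWw, hWmin⟩ :=
    FrobeniusPrimeAct.translates (D : Set (MulAut V)) (zpowers w) hN U hUi hUmin
  have hWtop : W = ⊤ := by
    refine (hmin W hWi fun x hx => hWw w (mem_zpowers w) x hx).resolve_left fun h => hU ?_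
    rw [h] at hUW
    exact le_bot_iff.1 hUW
  subst hWtop
  rw [Subgroup.card_top, hV] at hcard
  obtain ⟨d, hd, hdU⟩ := (Nat.dvd_prime_pow hp).1 (hV ▸ U.card_subgroup_dvd_card)
  rw [hdU, ← pow_mul] at hcard
  have hdm : q = d * m := Nat.pow_right_injective hp.two_le hcard
  rcases hq.eq_one_or_self_of_dvd d ⟨m, hdm⟩ with h | h
  · refine Or.inr ⟨U, by rw [hdU, h, pow_one], hUi, fun E hE => top_le_iff.1 (hWmin E ?_)⟩
    intro g hg x hx
    obtain ⟨n, rfl⟩ := (mem_powers_iff_mem_zpowers).2 hg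
    exact hE n x hx
  · refine Or.inl fun X hX => ?_
    have hUtop : U = ⊤ := U.eq_top_of_card_eq (by rw [hdU, h, hV])
    subst hUtop
    exact hUmin X le_top hX

/-- An abelian group acting irreducibly is cyclic. -/
theorem isCyclic_of_irreducible [Nontrivial V] (D : Subgroup (MulAut V))
    (hD : ∀ a ∈ D, ∀ b ∈ D, a * b = b * a)
    (hirr : ∀ X : Subgroup V, Inv (D : Set (MulAut V)) X → X = ⊥ ∨ X = ⊤) : IsCyclic D := by
  refine FrobeniusFPF.isCyclic_of_comm (W := V) ?_ fun a b => Subtype.ext (hD a a.2 b b.2)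
  intro a ha v hv
  let X : Subgroup V := ((a : MulAut V).toMonoidHom).eqLocus (MonoidHom.id V)
  have hX : Inv (D : Set (MulAut V)) X := by
    intro z hz x hx
    show (a : MulAut V) (z x) = z x
    rw [← MulAut.mul_apply, hD a a.2 z hz, MulAut.mul_apply]
    exact congrArg z hx
  rcases hirr X hX with h | h
  · have : v ∈ X := hv
    rwa [h, mem_bot] at this
  · refine absurd (Subtype.ext (MulEquiv.ext fun x => ?_)) ha
    have : x ∈ X := h ▸ mem_top x
    exact this

/-- The order of a group with a non-degenerate alternating pairing of exponent `p` is a square. -/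
theorem isSquare_card {p : ℕ} (hp : p.Prime) :
    ∀ (n : ℕ) (V : Type u) [CommGroup V] [Finite V], Nat.card V ≤ n → (∀ v : V, v ^ p = 1) →
      ∀ B : V →* V →* ℂˣ, (∀ v, B v v = 1) → (∀ v, (∀ x, B v x = 1) → v = 1) →
        IsSquare (Nat.card V) := by
  intro n
  induction n with
  | zero => intro V _ _ h; exact absurd h (Nat.card_pos (α := V)).ne'.bot_lt.not_ge
  | succ n ih =>
    intro V _ _ hn hexp B halt hnd
    by_cases hV : Subsingleton V
    · exact ⟨1, by simp [Nat.card_unique]⟩
    rw [not_subsingleton_iff_nontrivial] at hV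
    obtain ⟨v, hv⟩ := exists_ne (1 : V)
    obtain ⟨w, hw⟩ : ∃ w, B v w ≠ 1 := by
      by_contra h
      push Not at h
      exact hv (hnd v h)
    haveI := Fact.mk hp
    have hskew : ∀ x y, B x y * B y x = 1 := fun x y => by
      have h := halt (x * y)
      simpa [halt, mul_comm] using h
    have hpow : ∀ x y, B x y ^ p = 1 := fun x y => by rw [← map_pow, hexp, map_one]
    set a := B v w with ha
    have hao : orderOf a = p := orderOf_eq_prime (hpow v w) hw
    have hroots : ∀ t : ℂˣ, t ^ p = 1 → t ∈ zpowers a := by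
      have he : zpowers a = rootsOfUnity p ℂ := by
        refine eq_of_le_of_card_ge ((zpowers_le).2 ((mem_rootsOfUnity _ _).2 (hpow v w))) ?_
        haveI : NeZero p := ⟨hp.ne_zero⟩
        rw [Nat.card_zpowers, hao, Complex.card_rootsOfUnity]
      intro t ht
      rw [he]
      exact (mem_rootsOfUnity _ _).2 ht
    let f : V →* zpowers a × zpowers a :=
      { toFun := fun x => (⟨B x v, hroots _ (hpow x v)⟩, ⟨B x w, hroots _ (hpow x w)⟩)
        map_one' := by ext <;> simp
        map_mul' := fun x y => by ext <;> simp }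
    have hwv : B w v = a⁻¹ := eq_inv_of_mul_eq_one_left (hskew w v)
    have hf : Function.Surjective f := by
      rintro ⟨⟨_, i, rfl⟩, ⟨_, j, rfl⟩⟩
      refine ⟨v ^ j * (w ^ i)⁻¹, ?_⟩
      ext <;> simp [f, halt, hwv, ← ha]
    have hk : Nat.card V = Nat.card f.ker * (p * p) := by
      rw [f.ker.card_eq_card_quotient_mul_card_subgroup,
        Nat.card_congr (QuotientGroup.quotientKerEquivOfSurjective f hf).toEquiv, Nat.card_prod,
        Nat.card_zpowers, hao, mul_comm]
    have hlt : Nat.card f.ker ≤ n := by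
      have h2 : 2 ≤ p * p := by nlinarith [hp.two_le]
      have h1 := Nat.card_pos (α := f.ker)
      nlinarith [hn, hk]
    let B' : f.ker →* f.ker →* ℂˣ :=
      { toFun := fun x => (B (x : V)).comp f.ker.subtype
        map_one' := by ext; simp
        map_mul' := fun x y => by ext; simp }
    have hnd' : ∀ x : f.ker, (∀ y, B' x y = 1) → x = 1 := by
      intro x hx
      refine Subtype.ext (hnd x fun y => ?_)
      obtain ⟨hxv, hxw⟩ := Prod.ext_iff.1 (x.2 : f x = 1)
      have hxv : B x v = 1 := congrArg Subtype.val hxv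
      have hxw : B x w = 1 := congrArg Subtype.val hxw
      rcases hy : f y with ⟨⟨_, i, rfl⟩, ⟨_, j, rfl⟩⟩
      have hz : y * (v ^ j * (w ^ i)⁻¹)⁻¹ ∈ f.ker := by
        rw [MonoidHom.mem_ker, map_mul, map_inv, hy, mul_inv_eq_one]
        ext <;> simp [f, halt, hwv, ← ha]
      have h1 : B x (y * (v ^ j * (w ^ i)⁻¹)⁻¹) = 1 := hx ⟨_, hz⟩
      simpa [hxv, hxw] using h1
    obtain ⟨c, hc⟩ := ih f.ker hlt (fun x => Subtype.ext (hexp x)) B' (fun x => halt x) hnd'
    exact ⟨c * p, by rw [hk, hc]; ring⟩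

/-- No non-trivial `D`-invariant alternating pairing. -/
theorem no_alt {p q : ℕ} (hp : p.Prime) (hq : q.Prime) (hq2 : q ≠ 2) (hV : Nat.card V = p ^ q)
    (hexp : ∀ v : V, v ^ p = 1) (D : Subgroup (MulAut V)) (hDodd : ∀ z ∈ D, Odd (orderOf z))
    (hD1 : D ≠ ⊥) (w : MulAut V) (hwD : ∀ z ∈ D, w⁻¹ * z * w ∈ D) (hwq : w ^ q = 1)
    (hmin : ∀ X : Subgroup V, Inv (D : Set (MulAut V)) X → (∀ x ∈ X, w x ∈ X) → X = ⊥ ∨ X = ⊤)
    (B : V →* V →* ℂˣ) (halt : ∀ v, B v v = 1) (hBD : ∀ z ∈ D, ∀ x y, B (z x) (z y) = B x y) :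
    ∀ x y, B x y = 1 := by
  haveI := Fact.mk hp
  rcases dichotomy hp hq hV D w hwD hwq hmin with hirr | ⟨l, hl, hli, hgen⟩
  · let R : Subgroup V := B.ker
    have hR : Inv (D : Set (MulAut V)) R := by
      intro z hz x hx
      refine MonoidHom.mem_ker.2 (MonoidHom.ext fun y => ?_)
      have h := hBD z hz x (z⁻¹ y)
      rw [MulAut.apply_inv_self] at h
      rw [h, MonoidHom.mem_ker.1 hx]
      rfl
    rcases hirr R hR with h | h
    · exfalso
      obtain ⟨c, hc⟩ := isSquare_card hp _ V le_rfl hexp B halt fun v hv => by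
        have : v ∈ R := MonoidHom.mem_ker.2 (MonoidHom.ext hv)
        rwa [h, mem_bot] at this
      rw [hV] at hc
      obtain ⟨i, -, rfl⟩ := (Nat.dvd_prime_pow hp).1 (Dvd.intro c hc.symm)
      rw [← pow_add] at hc
      have hqi : q = i + i := Nat.pow_right_injective hp.two_le hc
      exact hq2 ((hq.eq_one_or_self_of_dvd 2 ⟨i, by omega⟩).resolve_left (by omega)).symm
    · intro x y
      have : x ∈ R := h ▸ mem_top x
      rw [show B x = 1 from MonoidHom.mem_ker.1 this]
      rfl
  · intro x₀ y₀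
    by_contra hne
    have key : ∃ i j : ℕ, ∃ x ∈ l, ∃ y ∈ l, B ((w ^ i) x) ((w ^ j) y) ≠ 1 := by
      by_contra h
      push Not at h
      refine hne ?_
      have h1 : ∀ i, ∀ x ∈ l, B ((w ^ i) x) y₀ = 1 := by
        intro i x hx
        have : (B ((w ^ i) x)).ker = ⊤ :=
          hgen _ fun j y hy => MonoidHom.mem_ker.2 (h i j x hx y hy)
        exact MonoidHom.mem_ker.1 (this ▸ mem_top y₀)
      have : (B.flip y₀).ker = ⊤ := hgen _ fun i x hx => MonoidHom.mem_ker.2 (h1 i x hx)
      exact MonoidHom.mem_ker.1 (this.symm ▸ mem_top x₀ : x₀ ∈ (B.flip y₀).ker)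
    obtain ⟨i, j, x, hx, y, hy, hxy⟩ := key
    have hD' : ∀ (k : ℕ) (z : MulAut V), z ∈ D → (w ^ k)⁻¹ * z * w ^ k ∈ D := by
      intro k
      induction k with
      | zero => intro z hz; simpa using hz
      | succ k ih =>
        intro z hz
        have h2 := hwD _ (ih z hz)
        simp only [pow_succ, mul_inv_rev, mul_assoc] at h2 ⊢
        exact h2
    have hwinv : ∀ k, (w ^ k)⁻¹ = w ^ ((q - 1) * k) := fun k => by
      refine inv_eq_of_mul_eq_one_right ?_
      rw [← pow_add, show k + (q - 1) * k = q * k from by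
        conv_lhs => rw [← one_mul k, ← mul_assoc, mul_one, ← add_mul,
          Nat.add_sub_cancel' hq.one_le]]
      rw [pow_mul, hwq, one_pow]
    have hgen1 : ∀ t ∈ l, ∀ s ∈ l, t ≠ 1 → ∃ a : ℕ, s = t ^ a := by
      intro t ht s hs ht1
      have hz : zpowers t = l := eq_of_le_of_card_ge ((zpowers_le).2 ht) (by
        rw [hl, Nat.card_zpowers, orderOf_eq_prime (hexp t) ht1])
      rw [← hz] at hs
      obtain ⟨a, rfl⟩ := (mem_powers_iff_mem_zpowers).2 hs
      exact ⟨a, rfl⟩
    have hx1 : x ≠ 1 := fun h => hxy (by simp [h])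
    have hy1 : y ≠ 1 := fun h => hxy (by simp [h])
    -- automorphisms in `D` act on `l` by powers
    have hact : ∀ z ∈ D, ∃ a : ℕ, ∀ t ∈ l, z t = t ^ a := by
      intro z hz
      obtain ⟨a, ha⟩ := hgen1 x hx (z x) (hli z hz x hx) hx1
      refine ⟨a, fun t ht => ?_⟩
      obtain ⟨b, rfl⟩ := hgen1 x hx t ht hx1
      rw [map_pow, ha, ← pow_mul, ← pow_mul, mul_comm]
    set k := (q - 1) * i + j with hk
    set σ : MulAut V → MulAut V := fun z => (w ^ k)⁻¹ * z * w ^ k with hσ
    have hrel : ∀ z ∈ D, ∀ t ∈ l, z (σ z t) = t := by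
      intro z hz t ht
      set z' := w ^ i * z * (w ^ i)⁻¹ with hz'
      have hz'D : z' ∈ D := by
        have := hD' ((q - 1) * i) z hz
        rwa [← hwinv, inv_inv] at this
      obtain ⟨a, ha⟩ := hact _ hz
      obtain ⟨c, hc⟩ := hact _ (hD' k z hz)
      have h1 : z' ((w ^ i) x) = (w ^ i) x ^ a := by
        rw [← map_pow, ← ha x hx]
        simp [hz']
      have h2 : z' ((w ^ j) y) = (w ^ j) y ^ c := by
        have e : σ z = (w ^ j)⁻¹ * z' * w ^ j := by
          rw [hσ, hz', hk]
          simp only [pow_add, ← hwinv, mul_inv_rev, inv_inv, mul_assoc]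
        rw [← map_pow, ← hc y hy, show ((w ^ k)⁻¹ * z * w ^ k) = σ z from rfl, e]
        simp
      have h3 := hBD z' hz'D ((w ^ i) x) ((w ^ j) y)
      rw [h1, h2, map_pow, map_pow, MonoidHom.pow_apply, ← pow_mul] at h3
      have hord : orderOf (B ((w ^ i) x) ((w ^ j) y)) = p :=
        orderOf_eq_prime (by rw [← map_pow, hexp, map_one]) hxy
      have hmod : c * a ≡ 1 [MOD p] := by
        rw [← hord, ← pow_eq_pow_iff_modEq, pow_one]
        rwa [mul_comm c a]
      show z (σ z t) = t
      rw [hc t ht, map_pow, ha t ht, ← pow_mul]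
      have ht' : orderOf t ∣ p := orderOf_dvd_of_pow_eq_one (hexp t)
      have := pow_eq_pow_iff_modEq.2 ((mul_comm c a ▸ hmod).of_dvd ht')
      rwa [pow_one] at this
    have hσD : ∀ z ∈ D, σ z ∈ D := fun z hz => hD' k z hz
    have hfix : ∀ z ∈ D, ∀ t ∈ l, z t = t := by
      have hstep : ∀ z ∈ D, ∀ t ∈ l, σ (σ z) t = z t := by
        intro z hz t ht
        have h1 := hrel (σ z) (hσD z hz) t ht
        obtain ⟨a, ha⟩ := hact z hz
        obtain ⟨c, hc⟩ := hact _ (hσD z hz)
        have h2 : σ z (z t) = t := by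
          have := hrel z hz t ht
          rw [hc t ht, map_pow, ha t ht, ← pow_mul] at this
          rw [ha t ht, map_pow, hc t ht, ← pow_mul, mul_comm]
          exact this
        exact (σ z).injective (h1.trans h2.symm)
      have hiter : ∀ (m : ℕ), ∀ z ∈ D, ∀ t ∈ l, σ^[2 * m] z t = z t := by
        intro m
        induction m with
        | zero => intro z _ t _; rfl
        | succ m ih =>
          intro z hz t ht
          rw [show 2 * (m + 1) = 2 * m + 2 from rfl, Function.iterate_add_apply]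
          exact (ih _ (hσD _ (hσD z hz)) t ht).trans (hstep z hz t ht)
      intro z hz t ht
      obtain ⟨r, hr⟩ := hq.odd_of_ne_two hq2
      have hσq : ∀ m, σ^[m] z = (w ^ (k * m))⁻¹ * z * w ^ (k * m) := by
        intro m
        induction m with
        | zero => simp
        | succ m ih =>
          rw [Function.iterate_succ_apply', ih, Nat.mul_succ, pow_add]
          simp only [hσ, mul_inv_rev, mul_assoc]
      have hz1 : σ z t = z t := by
        have h := hiter (r + 1) z hz t ht
        rw [hσq, show k * (2 * (r + 1)) = q * k + k from by rw [hr]; ring, pow_add, pow_mul, hwq,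
          one_pow, one_mul] at h
        exact h
      have h2 : (z ^ 2) t = t := by
        have := hrel z hz t ht
        rw [hz1] at this
        rw [pow_two, MulAut.mul_apply]
        exact this
      obtain ⟨m, hm⟩ := hDodd z hz
      have hzz : z = (z ^ 2) ^ (m + 1) := by
        rw [← pow_mul, show 2 * (m + 1) = (2 * m + 1) + 1 from by ring, pow_succ, ← hm,
          pow_orderOf_eq_one, one_mul]
      have h3 : ∀ e, ((z ^ 2) ^ e) t = t := fun e => by
        induction e with
        | zero => simp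
        | succ e ih => rw [pow_succ, MulAut.mul_apply, h2, ih]
      rw [hzz]
      exact h3 _
    refine hD1 ((eq_bot_iff_forall D).2 fun z hz => MulEquiv.ext fun v => ?_)
    have : (z : MulAut V).toMonoidHom.eqLocus (MonoidHom.id V) = ⊤ := hgen _ fun m t ht => by
      show z ((w ^ m) t) = (w ^ m) t
      have h := hfix _ (hD' m z hz) t ht
      simpa [MulAut.mul_apply] using congrArg (w ^ m) h
    exact (this ▸ mem_top v : v ∈ (z : MulAut V).toMonoidHom.eqLocus (MonoidHom.id V))

end Cfsg.Agent.PFLineAct
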