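import Mathlib
import Cfsg.Agent.S2904
import Cfsg.Agent.Lib.PFLineAct46
import Cfsg.Agent.Lib.FrattiniTuples
import Cfsg.Agent.Lib.AnisoQuadSolvable

/-!
If a group of automorphisms of an elementary abelian 2-group is transitive on the non-identity
elements, then any group normalising it is solvable modulo it.
-/

set_option autoImplicit false
set_option linter.style.haveILetI false
set_option linter.unusedSectionVars false

namespace Cfsg.Agent.TransLinearQuot57

universe u

variable {V : Type u} [CommGroup V] [Finite V]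

/-- The fixed subgroup. -/
def fixSub (a : MulAut V) : Subgroup V := a.toMonoidHom.eqLocus (MonoidHom.id V)

theorem mem_fixSub {a : MulAut V} {x : V} : x ∈ fixSub a ↔ a x = x := Iff.rfl

theorem fixSub_invariant {a b : MulAut V} (h : Commute a b) {x : V} (hx : x ∈ fixSub a) :
    b x ∈ fixSub a := by
  show a (b x) = b x
  rw [← MulAut.mul_apply, h.eq, MulAut.mul_apply, show a x = x from hx]

theorem eq_one_of_fixSub {a : MulAut V} (h : fixSub a = ⊤) : a = 1 :=
  MulEquiv.ext fun x => (h ▸ Subgroup.mem_top x : x ∈ fixSub a)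

/-- Counting fixed points of an element of prime power order on an invariant subgroup. -/
theorem card_fix_modEq {q k : ℕ} [Fact q.Prime] {a : MulAut V} (ha : a ^ q ^ k = 1)
    (X : Subgroup V) (hX : ∀ x ∈ X, a x ∈ X) :
    Nat.card X ≡ Nat.card ↥(X ⊓ fixSub a) [MOD q] := by
  have hX' : ∀ g ∈ Subgroup.zpowers a, ∀ x ∈ X, g x ∈ X := by
    intro g hg
    obtain ⟨i, rfl⟩ := (mem_powers_iff_mem_zpowers (x := a)).2 hg
    clear hg
    induction i with
    | zero => intro x hx; simpa using hx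
    | succ i ih => intro x hx; simp only [pow_succ', MulAut.mul_apply]; exact hX _ (ih x hx)
  letI : MulAction (Subgroup.zpowers a) X :=
    { smul := fun g x => ⟨(g : MulAut V) x, hX' g g.2 x x.2⟩
      one_smul := fun x => Subtype.ext rfl
      mul_smul := fun g h x => Subtype.ext rfl }
  have hP : IsPGroup q (Subgroup.zpowers a) := by
    rintro ⟨g, hg⟩
    obtain ⟨i, rfl⟩ := (mem_powers_iff_mem_zpowers (x := a)).2 hg
    exact ⟨k, Subtype.ext (by
      show (a ^ i) ^ q ^ k = 1
      rw [← pow_mul, mul_comm, pow_mul, ha, one_pow])⟩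
  have h := hP.card_modEq_card_fixedPoints (α := X)
  rwa [Nat.card_congr (β := ↥(X ⊓ fixSub a))
    (show MulAction.fixedPoints (Subgroup.zpowers a) X ≃ ↥(X ⊓ fixSub a) from
    { toFun := fun x => ⟨x.1.1, x.1.2,
        congrArg Subtype.val (x.2 ⟨a, Subgroup.mem_zpowers a⟩)⟩
      invFun := fun x => ⟨⟨x.1, x.2.1⟩, fun g => Subtype.ext (by
        show (g : MulAut V) x.1 = x.1
        obtain ⟨i, hi⟩ := (mem_powers_iff_mem_zpowers (x := a)).2 g.2
        rw [← show a ^ i = (g : MulAut V) from hi]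
        clear hi
        induction i with
        | zero => rfl
        | succ i ih => rw [pow_succ', MulAut.mul_apply, ih]; exact x.2.2)⟩
      left_inv := fun x => Subtype.ext rfl
      right_inv := fun x => Subtype.ext rfl })] at h

theorem isPGroup_two (hV : ∀ x : V, x * x = 1) : IsPGroup 2 V :=
  fun x => ⟨1, by rw [pow_one, sq]; exact hV x⟩

/-- Automorphisms commuting with an irreducible automorphism commute with one another. -/
theorem commute_of_irr {a c d : MulAut V}
    (irr : ∀ X : Subgroup V, (∀ x ∈ X, a x ∈ X) → X = ⊥ ∨ X = ⊤)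
    (hc : Commute a c) (hd : Commute a d) : Commute c d := by
  refine MulEquiv.ext fun x => ?_
  show c (d x) = d (c x)
  rcases subsingleton_or_nontrivial V with h | h
  · exact Subsingleton.elim _ _
  obtain ⟨v₀, hv₀⟩ := exists_ne (1 : V)
  let M : Subgroup V :=
    { carrier := {y | ∃ e : V →* V, (∀ f : MulAut V, Commute a f → ∀ z, e (f z) = f (e z)) ∧ e v₀ = y}
      one_mem' := ⟨1, fun f _ z => by rw [MonoidHom.one_apply, MonoidHom.one_apply, map_one], rfl⟩
      mul_mem' := by
        rintro _ _ ⟨e, he, rfl⟩ ⟨e', he', rfl⟩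
        exact ⟨e * e', fun f hf z => by
          rw [MonoidHom.mul_apply, MonoidHom.mul_apply, he f hf, he' f hf, map_mul], rfl⟩
      inv_mem' := by
        rintro _ ⟨e, he, rfl⟩
        exact ⟨e⁻¹, fun f hf z => by
          rw [MonoidHom.inv_apply, MonoidHom.inv_apply, he f hf, map_inv], rfl⟩ }
  have hv : v₀ ∈ M := ⟨MonoidHom.id V, fun f _ z => rfl, rfl⟩
  have hM : M = ⊤ := (irr M (by
    rintro _ ⟨e, he, rfl⟩
    exact ⟨a.toMonoidHom.comp e, fun f hf z => by
      show a (e (f z)) = f (a (e z))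
      rw [he f hf, ← MulAut.mul_apply, hf.eq, MulAut.mul_apply], rfl⟩)).resolve_left
    fun e => hv₀ (Subgroup.mem_bot.1 (e ▸ hv))
  obtain ⟨e, he, hev⟩ : c v₀ ∈ M := hM ▸ Subgroup.mem_top _
  have hL : e.eqLocus c.toMonoidHom = ⊤ := (irr _ (by
    intro z hz
    have hz' : e z = c z := hz
    show e (a z) = c (a z)
    rw [he a (Commute.refl a), hz', ← MulAut.mul_apply, hc.eq, MulAut.mul_apply])).resolve_left
    fun e' => hv₀ (Subgroup.mem_bot.1 (e' ▸ (hev : v₀ ∈ e.eqLocus c.toMonoidHom)))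
  have hec : ∀ z, e z = c z := fun z => (hL ▸ Subgroup.mem_top z : z ∈ e.eqLocus c.toMonoidHom)
  rw [← hec, he d hd, hec]

/-- A group normalising a group that is centralised by an irreducible element of it is solvable. -/
theorem solvable_of_normalizes (H R : Subgroup (MulAut V)) {a : MulAut V} (ha : a ∈ R)
    (irr : ∀ X : Subgroup V, (∀ x ∈ X, a x ∈ X) → X = ⊥ ∨ X = ⊤)
    (hRa : ∀ b ∈ R, Commute a b) (hH : H ≤ Subgroup.normalizer (R : Set (MulAut V))) :
    Group.IsSolvable H := by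
  rcases subsingleton_or_nontrivial V with h | h
  · haveI : Subsingleton H := ⟨fun p q => Subtype.ext (MulEquiv.ext fun x => Subsingleton.elim _ _)⟩
    exact Group.isSolvable_of_comm fun p q => Subsingleton.elim _ _
  haveI hR : IsCyclic R := PFLineAct.isCyclic_of_irreducible R
    (fun b hb c hc => commute_of_irr irr (hRa b hb) (hRa c hc))
    fun X hX => irr X (hX a ha)
  let f : H →* MulAut R :=
    (Subgroup.normalizerMonoidHom R).comp (Subgroup.inclusion hH)
  haveI : Group.IsSolvable f.range := Group.isSolvable_of_comm fun p q => Subtype.ext (by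
    have e := IsCyclic.mulAutMulEquiv R
    exact e.injective (by rw [Subgroup.coe_mul, Subgroup.coe_mul, map_mul, map_mul, mul_comm]))
  haveI : Group.IsSolvable f.ker := Group.isSolvable_of_comm fun p q => by
    have hmem : ∀ t : f.ker, Commute a ((t : H) : MulAut V) := fun t => by
      have h1 : (Subgroup.inclusion hH (t : H)) ∈ (Subgroup.normalizerMonoidHom R).ker := t.2
      rw [Subgroup.normalizerMonoidHom_ker] at h1
      exact Subgroup.mem_centralizer_iff.1 h1 a ha
    exact Subtype.ext (Subtype.ext (commute_of_irr irr (hmem p) (hmem q)).eq)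
  exact Group.isSolvable_of_ker_le_range f.ker.subtype f.rangeRestrict
    (by intro x hx; exact ⟨⟨x, by simpa using hx⟩, rfl⟩)

/-- An element of prime order primitive for `2 ^ n - 1` is irreducible. -/
theorem irr_of_primitive (hV : ∀ x : V, x * x = 1) {n r : ℕ} (hn : Nat.card V = 2 ^ n)
    (hr : r.Prime) (hr2 : r ≠ 2) (hppd : ∀ k, 0 < k → k < n → ¬ r ∣ 2 ^ k - 1) {a : MulAut V}
    (ha : orderOf a = r) (X : Subgroup V) (hX : ∀ x ∈ X, a x ∈ X) : X = ⊥ ∨ X = ⊤ := by
  haveI := Fact.mk hr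
  haveI : Fact (Nat.Prime 2) := ⟨Nat.prime_two⟩
  have key : ∀ Z : Subgroup V, (∀ x ∈ Z, a x ∈ Z) →
      Z ≤ fixSub a ∨ (Z = ⊤ ∧ Z ⊓ fixSub a = ⊥) := by
    intro Z hZ
    obtain ⟨k, hk⟩ := IsPGroup.iff_card.mp ((isPGroup_two hV).to_subgroup Z)
    obtain ⟨j, hj⟩ := IsPGroup.iff_card.mp ((isPGroup_two hV).to_subgroup (Z ⊓ fixSub a))
    have hm := card_fix_modEq (q := r) (k := 1) (by rw [pow_one, ← ha]; exact pow_orderOf_eq_one a) Z hZ
    rw [hk, hj] at hm
    have hjk : j ≤ k := (Nat.pow_le_pow_iff_right (le_refl 2)).1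
      (hj ▸ hk ▸ Subgroup.card_le_of_le inf_le_left)
    have hkn : k ≤ n := (Nat.pow_le_pow_iff_right (le_refl 2)).1
      (hk ▸ hn ▸ Subgroup.card_le_card_group Z)
    rcases eq_or_lt_of_le hjk with he | hlt
    · left
      have : Z ⊓ fixSub a = Z := Subgroup.eq_of_le_of_card_ge inf_le_left (by rw [hk, hj, he])
      exact inf_eq_left.1 this
    · right
      have h1 : r ∣ 2 ^ j * (2 ^ (k - j) - 1) := by
        rw [Nat.mul_sub_one, ← pow_add, Nat.add_sub_cancel' hjk]
        exact (Nat.modEq_iff_dvd' (Nat.pow_le_pow_right (by norm_num) hjk)).1 hm.symm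
      have h2 : r ∣ 2 ^ (k - j) - 1 := (hr.dvd_mul.1 h1).resolve_left fun h =>
        hr2 ((Nat.prime_dvd_prime_iff_eq hr Nat.prime_two).1 (hr.dvd_of_dvd_pow h))
      have h3 : n ≤ k - j := not_lt.1 fun hl => hppd _ (by omega) hl h2
      have hkn' : k = n := by omega
      have hj0 : j = 0 := by omega
      refine ⟨Subgroup.eq_top_of_card_eq _ (by rw [hk, hn, hkn']), ?_⟩
      exact Subgroup.card_eq_one.1 (by rw [hj, hj0, pow_zero])
  have hfix : fixSub a = ⊥ := by
    rcases key ⊤ (fun x _ => Subgroup.mem_top _) with h | ⟨-, h⟩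
    · have := eq_one_of_fixSub (top_le_iff.1 h)
      rw [this, orderOf_one] at ha
      exact absurd ha.symm hr.ne_one
    · rwa [top_inf_eq] at h
  rcases key X hX with h | ⟨h, -⟩
  · exact Or.inl (le_bot_iff.1 (hfix ▸ h))
  · exact Or.inr h

theorem card_mulAut_dvd' {P : Type*} [Group P] [Finite P] {p n : ℕ} [Fact p.Prime]
    (hP : Nat.card P = p ^ n) :
    ∃ k ≤ n, Nat.card (MulAut P) ∣ p ^ (k * (n - k)) * ∏ i ∈ Finset.range k, (p ^ k - p ^ i) := by
  obtain ⟨k, hk, he⟩ := (Nat.dvd_prime_pow (Fact.out : p.Prime)).1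
    (hP ▸ (frattini P).index_dvd_card)
  exact ⟨k, hk, FrattiniTuples.card_mulAut_dvd hP he⟩

theorem prime_dvd_mulAut {P : Type*} [Group P] [Finite P] {p n : ℕ} [hp : Fact p.Prime]
    (hP : Nat.card P = p ^ n) {q : ℕ} (hq : q.Prime) (h : q ∣ Nat.card (MulAut P)) :
    q = p ∨ ∃ j, 1 ≤ j ∧ j ≤ n ∧ q ∣ p ^ j - 1 := by
  obtain ⟨k, hk, hd⟩ := card_mulAut_dvd' hP
  rcases hq.dvd_mul.1 (h.trans hd) with h1 | h1
  · exact Or.inl ((Nat.prime_dvd_prime_iff_eq hq hp.out).1 (hq.dvd_of_dvd_pow h1))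
  · obtain ⟨i, hi, h2⟩ := (Prime.dvd_finsetProd_iff hq.prime _).1 h1
    rw [Finset.mem_range] at hi
    rw [show p ^ k - p ^ i = p ^ i * (p ^ (k - i) - 1) by
      rw [Nat.mul_sub_one, ← pow_add, Nat.add_sub_cancel' hi.le]] at h2
    rcases hq.dvd_mul.1 h2 with h3 | h3
    · exact Or.inl ((Nat.prime_dvd_prime_iff_eq hq hp.out).1 (hq.dvd_of_dvd_pow h3))
    · exact Or.inr ⟨k - i, by omega, by omega, h3⟩

/-- An element of prime order normalising a group whose automorphism group has order prime to it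
centralises the group. -/
theorem commute_of_normalizes (R : Subgroup (MulAut V)) {f : MulAut V}
    (hf : f ∈ Subgroup.normalizer (R : Set (MulAut V))) {q : ℕ} (hq : q.Prime) (ho : orderOf f = q)
    (hnd : ¬ q ∣ Nat.card (MulAut R)) : ∀ b ∈ R, Commute f b := by
  intro b hb
  let φ := Subgroup.normalizerMonoidHom R
  have h1 : orderOf (φ ⟨f, hf⟩) ∣ q := by
    have := orderOf_map_dvd φ ⟨f, hf⟩
    rw [← Subgroup.orderOf_coe] at this
    exact this.trans ho.dvd
  have h2 : φ ⟨f, hf⟩ = 1 := orderOf_eq_one_iff.1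
    (((Nat.dvd_prime hq).1 h1).resolve_right fun e => hnd (e ▸ orderOf_dvd_natCard _))
  have h3 : (⟨f, hf⟩ : Subgroup.normalizer (R : Set (MulAut V))) ∈ φ.ker := h2
  rw [Subgroup.normalizerMonoidHom_ker] at h3
  exact (Subgroup.mem_centralizer_iff.1 h3 b hb).symm

section Six

variable (hV : ∀ x : V, x * x = 1) (h6 : Nat.card V = 2 ^ 6)
include hV h6

theorem exists_exp (X : Subgroup V) : ∃ i ≤ 6, Nat.card X = 2 ^ i := by
  haveI : Fact (Nat.Prime 2) := ⟨Nat.prime_two⟩
  obtain ⟨k, hk⟩ := IsPGroup.iff_card.mp ((isPGroup_two hV).to_subgroup X)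
  exact ⟨k, (Nat.pow_le_pow_iff_right (le_refl 2)).1 (hk ▸ h6 ▸ Subgroup.card_le_card_group X), hk⟩

theorem eq_top_of_six {X : Subgroup V} (h : Nat.card X = 2 ^ 6) : X = ⊤ :=
  Subgroup.eq_top_of_card_eq X (by rw [h, h6])

omit hV in
theorem fix_top_modEq {q k : ℕ} [Fact q.Prime] {a : MulAut V} (ha : a ^ q ^ k = 1) :
    2 ^ 6 ≡ Nat.card ↥(fixSub a) [MOD q] := by
  have h := card_fix_modEq ha ⊤ (fun x _ => Subgroup.mem_top _)
  rwa [top_inf_eq, Subgroup.card_top, h6] at h

theorem no_commuting {q : ℕ} (hq : q = 5 ∨ q = 31) {f a : MulAut V} (hf : orderOf f = q)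
    (ha : orderOf a = 7) (hc : Commute f a) : False := by
  haveI : Fact (Nat.Prime 7) := ⟨by norm_num⟩
  haveI : Fact q.Prime := ⟨by rcases hq with rfl | rfl <;> norm_num⟩
  obtain ⟨j, hj6, hj⟩ := exists_exp hV h6 (fixSub f)
  obtain ⟨i, hi6, hi⟩ := exists_exp hV h6 (fixSub a)
  obtain ⟨l, hl6, hl⟩ := exists_exp hV h6 (fixSub f ⊓ fixSub a)
  have e1 := fix_top_modEq h6 (q := q) (k := 1) (a := f) (by rw [pow_one, ← hf]; exact pow_orderOf_eq_one f)
  have e2 := fix_top_modEq h6 (q := 7) (k := 1) (a := a) (by rw [pow_one, ← ha]; exact pow_orderOf_eq_one a)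
  have e3 := card_fix_modEq (q := 7) (k := 1) (a := a) (by rw [pow_one, ← ha]; exact pow_orderOf_eq_one a)
    (fixSub f) (fun x hx => fixSub_invariant hc hx)
  have e4 := card_fix_modEq (q := q) (k := 1) (a := f) (by rw [pow_one, ← hf]; exact pow_orderOf_eq_one f)
    (fixSub a) (fun x hx => fixSub_invariant hc.symm hx)
  rw [inf_comm (fixSub a)] at e4
  rw [hj] at e1
  rw [hi] at e2
  rw [hj, hl] at e3
  rw [hi, hl] at e4
  have hlj : l ≤ j := (Nat.pow_le_pow_iff_right (le_refl 2)).1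
    (hl ▸ hj ▸ Subgroup.card_le_of_le inf_le_left)
  have hli : l ≤ i := (Nat.pow_le_pow_iff_right (le_refl 2)).1
    (hl ▸ hi ▸ Subgroup.card_le_of_le inf_le_right)
  have hj' : j ≠ 6 := fun e => by
    rw [show f = 1 from eq_one_of_fixSub (eq_top_of_six hV h6 (e ▸ hj)), orderOf_one] at hf
    rcases hq with rfl | rfl <;> omega
  have hi' : i ≠ 6 := fun e => by
    rw [show a = 1 from eq_one_of_fixSub (eq_top_of_six hV h6 (e ▸ hi)), orderOf_one] at ha
    omega
  unfold Nat.ModEq at e1 e2 e3 e4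
  rcases hq with rfl | rfl <;>
    interval_cases j <;> interval_cases i <;> interval_cases l <;> simp_all

theorem no_fix_of_commute {f g : MulAut V} (hf : orderOf f = 7) (hg : orderOf g = 3)
    (hc : Commute f g) : fixSub g = ⊥ ∨ ¬ fixSub f ≤ fixSub g := by
  haveI : Fact (Nat.Prime 7) := ⟨by norm_num⟩
  haveI : Fact (Nat.Prime 3) := ⟨Nat.prime_three⟩
  obtain ⟨j, hj6, hj⟩ := exists_exp hV h6 (fixSub f)
  obtain ⟨i, hi6, hi⟩ := exists_exp hV h6 (fixSub g)
  by_contra hcon
  push Not at hcon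
  obtain ⟨hne, hle⟩ := hcon
  have e1 := fix_top_modEq h6 (q := 7) (k := 1) (a := f) (by rw [pow_one, ← hf]; exact pow_orderOf_eq_one f)
  have e2 := fix_top_modEq h6 (q := 3) (k := 1) (a := g) (by rw [pow_one, ← hg]; exact pow_orderOf_eq_one g)
  have e3 := card_fix_modEq (q := 7) (k := 1) (a := f) (by rw [pow_one, ← hf]; exact pow_orderOf_eq_one f)
    (fixSub g) (fun x hx => fixSub_invariant hc.symm hx)
  rw [inf_eq_right.2 hle] at e3
  rw [hj] at e1
  rw [hi] at e2
  rw [hi, hj] at e3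
  have hi' : i ≠ 6 := fun e => by
    rw [show g = 1 from eq_one_of_fixSub (eq_top_of_six hV h6 (e ▸ hi)), orderOf_one] at hg
    omega
  have hi0 : i ≠ 0 := fun e => hne (Subgroup.card_eq_one.1 (by rw [hi, e, pow_zero]))
  have hji : j ≤ i := (Nat.pow_le_pow_iff_right (le_refl 2)).1
    (hj ▸ hi ▸ Subgroup.card_le_of_le hle)
  unfold Nat.ModEq at e1 e2 e3
  interval_cases i <;> interval_cases j <;> simp_all

end Six

theorem card_aut_six (h6 : Nat.card V = 2 ^ 6) :
    ¬ 7 ^ 3 ∣ Nat.card (MulAut V) ∧ ¬ 3 ^ 5 ∣ Nat.card (MulAut V) := by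
  haveI : Fact (Nat.Prime 2) := ⟨Nat.prime_two⟩
  obtain ⟨k, hk, hd⟩ := card_mulAut_dvd' h6
  have key : ∀ m < 7, ¬ 7 ^ 3 ∣ 2 ^ (m * (6 - m)) * ∏ i ∈ Finset.range m, (2 ^ m - 2 ^ i) ∧
      ¬ 3 ^ 5 ∣ 2 ^ (m * (6 - m)) * ∏ i ∈ Finset.range m, (2 ^ m - 2 ^ i) := by decide +kernel
  exact ⟨fun h => (key k (by omega)).1 (h.trans hd), fun h => (key k (by omega)).2 (h.trans hd)⟩

variable (hV : ∀ x : V, x * x = 1) {X Y : Subgroup (MulAut V)} (hle : X ≤ Y)
  [(X.subgroupOf Y).Normal]
  (htr : ∀ v w : V, v ≠ 1 → w ≠ 1 → ∃ x ∈ X, x v = w)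
include hV hle htr

omit hle [(X.subgroupOf Y).Normal] in
theorem card_sub_one_dvd [Nontrivial V] : Nat.card V - 1 ∣ Nat.card X := by
  obtain ⟨v, hv⟩ := exists_ne (1 : V)
  letI : MulAction X V := MulAction.compHom V X.subtype
  have horb : MulAction.orbit X v = {w | w ≠ 1} := by
    ext w
    constructor
    · rintro ⟨x, rfl⟩ e
      exact hv ((x : MulAut V).injective (e.trans (map_one (x : MulAut V)).symm))
    · intro hw
      obtain ⟨x, hx, hxv⟩ := htr v w hv hw
      exact ⟨⟨x, hx⟩, hxv⟩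
  have h1 : Nat.card (MulAction.orbit X v) = Nat.card V - 1 := by
    rw [horb, Nat.card_coe_set_eq, show {w : V | w ≠ 1} = ({1} : Set V)ᶜ by ext; simp,
      Set.ncard_compl, Set.ncard_singleton]
  rw [← h1, ← Nat.card_congr (MulAction.orbitEquivQuotientStabilizer X v).symm]
  exact Subgroup.index_dvd_card _

omit hV htr in
/-- The Frattini argument. -/
theorem exists_normalizer {r : ℕ} [Fact r.Prime] :
    ∃ R H : Subgroup (MulAut V), IsPGroup r R ∧ R ≤ X ∧ ¬ r ∣ R.relIndex X ∧
      H ≤ Subgroup.normalizer (R : Set (MulAut V)) ∧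
      ∃ f : H →* Y ⧸ X.subgroupOf Y, Function.Surjective f := by
  haveI : Finite (MulAut V) := inferInstance
  set N := X.subgroupOf Y with hN
  obtain ⟨P⟩ : Nonempty (Sylow r N) := inferInstance
  let R₀ : Subgroup Y := (P : Subgroup N).map N.subtype
  let H₀ := Subgroup.normalizer (R₀ : Set Y)
  have hsup : H₀ ⊔ N = ⊤ := Sylow.normalizer_sup_eq_top P
  refine ⟨R₀.map Y.subtype, H₀.map Y.subtype, (P.isPGroup'.map _).map _, ?_, ?_,
    Subgroup.le_normalizer_map _, ((QuotientGroup.mk' N).comp H₀.subtype).comp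
      (H₀.equivMapOfInjective Y.subtype Y.subtype_injective).symm.toMonoidHom, ?_⟩
  · rintro _ ⟨_, ⟨x, -, rfl⟩, rfl⟩
    exact x.2
  · have h1 : (R₀.map Y.subtype).relIndex X = (P : Subgroup N).index := by
      conv_lhs => rw [← Subgroup.map_subgroupOf_eq_of_le hle]
      rw [Subgroup.relIndex_map_map_of_injective _ _ Y.subtype_injective,
        ← Subgroup.relIndex_top_right, ← hN]
      conv_rhs => rw [← Subgroup.relIndex_map_map_of_injective _ _ N.subtype_injective]
      rw [← MonoidHom.range_eq_map, N.range_subtype]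
    rw [h1]
    exact P.not_dvd_index
  · intro q
    obtain ⟨y, rfl⟩ := QuotientGroup.mk'_surjective N q
    obtain ⟨h, hh, z, hz, rfl⟩ := Subgroup.mem_sup_of_normal_right.1
      (hsup ▸ Subgroup.mem_top y : y ∈ H₀ ⊔ N)
    refine ⟨H₀.equivMapOfInjective Y.subtype Y.subtype_injective ⟨h, hh⟩, ?_⟩
    rw [map_mul, show QuotientGroup.mk' N z = 1 from (QuotientGroup.eq_one_iff _).2 hz, mul_one]
    show QuotientGroup.mk' N ((H₀.equivMapOfInjective Y.subtype Y.subtype_injective).symm
      (H₀.equivMapOfInjective Y.subtype Y.subtype_injective ⟨h, hh⟩) : Y) = _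
    rw [MulEquiv.symm_apply_apply]

omit hle [(X.subgroupOf Y).Normal] hV htr in
theorem dvd_of_not_dvd_relIndex {r m : ℕ} (hr : r.Prime) {R : Subgroup (MulAut V)} (hR : R ≤ X)
    (hrel : ¬ r ∣ R.relIndex X) (hd : r ^ m ∣ Nat.card X) : r ^ m ∣ Nat.card R := by
  have h := Subgroup.relIndex_mul_relIndex ⊥ R X bot_le hR
  rw [Subgroup.relIndex_bot_left, Subgroup.relIndex_bot_left] at h
  rw [← h] at hd
  exact (Nat.Coprime.pow_left m ((Nat.Prime.coprime_iff_not_dvd hr).2 hrel)).dvd_of_dvd_mul_right hd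

set_option maxHeartbeats 1000000 in
theorem solvable_six (h6 : Nat.card V = 2 ^ 6) : Group.IsSolvable (Y ⧸ X.subgroupOf Y) := by
  haveI : Nontrivial V := Finite.one_lt_card_iff_nontrivial.1 (by rw [h6]; norm_num)
  haveI : Fact (Nat.Prime 2) := ⟨Nat.prime_two⟩
  haveI : Fact (Nat.Prime 3) := ⟨Nat.prime_three⟩
  haveI : Fact (Nat.Prime 7) := ⟨by norm_num⟩
  haveI : Finite (MulAut V) := inferInstance
  have h63 : 63 ∣ Nat.card X := by
    have h := card_sub_one_dvd hV htr
    rw [h6] at h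
    exact h
  obtain ⟨hno7, hno3⟩ := card_aut_six h6
  have lift : ∀ q : ℕ, q.Prime → q ∣ Nat.card (Y ⧸ X.subgroupOf Y) →
      ∀ H : Subgroup (MulAut V), (∃ f : H →* Y ⧸ X.subgroupOf Y, Function.Surjective f) →
        ∃ f ∈ H, orderOf f = q := by
    intro q hq hd H ⟨φ, hφ⟩
    haveI := Fact.mk hq
    obtain ⟨f, hf⟩ := exists_prime_orderOf_dvd_card' (G := H) q
      (hd.trans (Subgroup.card_dvd_of_surjective φ hφ))
    exact ⟨f, f.2, by rw [Subgroup.orderOf_coe]; exact hf⟩
  have hcardQ : ∀ q : ℕ, q.Prime → q ∣ Nat.card (Y ⧸ X.subgroupOf Y) →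
      q = 2 ∨ q = 3 ∨ q = 7 := by
    intro q hq hd
    have hq5 : q = 2 ∨ q = 3 ∨ q = 7 ∨ q = 5 ∨ q = 31 := by
      rcases prime_dvd_mulAut h6 hq (hd.trans ((Subgroup.card_quotient_dvd_card _).trans
        (Subgroup.card_subgroup_dvd_card Y))) with h | ⟨j, hj1, hj6, hjd⟩
      · exact Or.inl h
      · have hle' : q ≤ 2 ^ j - 1 := Nat.le_of_dvd (Nat.sub_pos_of_lt
          (Nat.one_lt_pow (by omega) one_lt_two)) hjd
        have hq64 : q < 64 := lt_of_le_of_lt hle' (lt_of_lt_of_le (Nat.sub_lt (Nat.two_pow_pos j) one_pos)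
          ((Nat.pow_le_pow_right (by norm_num) hj6).trans (by norm_num)))
        have key : ∀ j ∈ Finset.range 7, 1 ≤ j → ∀ q ∈ Finset.range 64, Nat.Prime q → q ∣ 2 ^ j - 1 →
            q = 2 ∨ q = 3 ∨ q = 7 ∨ q = 5 ∨ q = 31 := by decide +kernel
        exact key j (Finset.mem_range.2 (by omega)) hj1 q (Finset.mem_range.2 hq64) hq hjd
    rcases hq5 with h | h | h | h
    · exact Or.inl h
    · exact Or.inr (Or.inl h)
    · exact Or.inr (Or.inr h)
    exfalso
    obtain ⟨R, H, hR, hRX, hrel, hH, hsurj⟩ := exists_normalizer (r := 7) hle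
    obtain ⟨f, hfH, hf⟩ := lift q hq hd H hsurj
    have h7 : 7 ^ 1 ∣ Nat.card R := dvd_of_not_dvd_relIndex (by norm_num) hRX hrel
      (by rw [pow_one]; exact (by norm_num : 7 ∣ 63).trans h63)
    obtain ⟨m, hm⟩ := IsPGroup.iff_card.mp hR
    have hm2 : m ≤ 2 := by
      by_contra hcon
      exact hno7 ((pow_dvd_pow 7 (by omega : 3 ≤ m)).trans
        (hm ▸ Subgroup.card_subgroup_dvd_card R))
    obtain ⟨⟨a, haR⟩, ha⟩ := exists_prime_orderOf_dvd_card' (G := R) 7 (by rwa [pow_one] at h7)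
    rw [← Subgroup.orderOf_coe] at ha
    refine no_commuting hV h6 h hf ha (commute_of_normalizes R (hH hfH) hq hf ?_ a haR)
    intro hdiv
    rcases prime_dvd_mulAut hm hq hdiv with h' | ⟨j, hj1, hjm, hjd⟩
    · rcases h with h | h <;> omega
    · interval_cases m <;> interval_cases j <;> rcases h with h | h <;> subst h <;> norm_num at hjd
  by_cases h7Q : 7 ∣ Nat.card (Y ⧸ X.subgroupOf Y)
  swap
  · refine AnisoQuadSolvable.solvable_of_primes 2 3 Nat.prime_two Nat.prime_three fun q hq hd => ?_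
    rcases hcardQ q hq hd with h | h | h
    · exact Or.inl h
    · exact Or.inr h
    · exact absurd (h ▸ hd) h7Q
  obtain ⟨T, H, hT, hTX, hrel, hH, φ, hφ⟩ := exists_normalizer (r := 3) hle
  obtain ⟨f, hfH, hf⟩ := lift 7 (by norm_num) h7Q H ⟨φ, hφ⟩
  have h9 : 3 ^ 2 ∣ Nat.card T := dvd_of_not_dvd_relIndex Nat.prime_three hTX hrel
    ((by norm_num : 3 ^ 2 ∣ 63).trans h63)
  obtain ⟨m, hm⟩ := IsPGroup.iff_card.mp hT
  have hm4 : m ≤ 4 := by
    by_contra hcon
    exact hno3 ((pow_dvd_pow 3 (by omega : 5 ≤ m)).trans (hm ▸ Subgroup.card_subgroup_dvd_card T))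
  have hcf : ∀ b ∈ T, Commute f b := commute_of_normalizes T (hH hfH) (by norm_num) hf (by
    intro hdiv
    rcases prime_dvd_mulAut hm (by norm_num) hdiv with h' | ⟨j, hj1, hjm, hjd⟩
    · omega
    · interval_cases m <;> interval_cases j <;> norm_num at hjd)
  -- every non-identity element of `T` has a power of order three
  have hpow : ∀ g ∈ T, g ≠ 1 → ∃ g₁ ∈ T, orderOf g₁ = 3 ∧ fixSub g ≤ fixSub g₁ := by
    intro g hg hg1
    obtain ⟨k, hk⟩ := (IsPGroup.iff_orderOf.mp hT) ⟨g, hg⟩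
    rw [← Subgroup.orderOf_coe] at hk
    have hk0 : k ≠ 0 := fun e => hg1 (orderOf_eq_one_iff.1 (by rw [e, pow_zero] at hk; exact hk))
    refine ⟨g ^ 3 ^ (k - 1), T.pow_mem hg _, ?_, fun x hx => ?_⟩
    · rw [orderOf_pow' _ (by positivity), hk, Nat.gcd_eq_right (pow_dvd_pow 3 (by omega)),
        Nat.pow_div (by omega) (by norm_num), show k - (k - 1) = 1 by omega, pow_one]
    · have : ∀ i : ℕ, (g ^ i) x = x := fun i => by
        induction i with
        | zero => rfl
        | succ i ih => rw [pow_succ', MulAut.mul_apply, ih]; exact hx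
      exact this _
  obtain ⟨j, hj6, hj⟩ := exists_exp hV h6 (fixSub f)
  have hj03 : j = 0 ∨ j = 3 := by
    have e := fix_top_modEq h6 (q := 7) (k := 1) (a := f) (by rw [pow_one, ← hf]; exact pow_orderOf_eq_one f)
    rw [hj] at e
    have hj' : j ≠ 6 := fun e' => by
      rw [show f = 1 from eq_one_of_fixSub (eq_top_of_six hV h6 (e' ▸ hj)), orderOf_one] at hf
      omega
    unfold Nat.ModEq at e
    interval_cases j <;> norm_num at *
  rcases hj03 with rfl | rfl
  · -- `T` acts fixed point freely, so it is cyclic of order nine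
    have hbot : fixSub f = ⊥ := Subgroup.card_eq_one.1 (by rw [hj, pow_zero])
    letI : MulDistribMulAction T V := MulDistribMulAction.compHom V T.subtype
    have hfree : FrobeniusFPF.IsFPF T V := by
      intro g hg v hv
      obtain ⟨g₁, hg₁, ho, hle'⟩ := hpow g g.2 (fun e => hg (Subtype.ext e))
      rcases no_fix_of_commute hV h6 hf ho (hcf g₁ hg₁) with h | h
      · exact Subgroup.mem_bot.1 (h ▸ hle' (hv : v ∈ fixSub (g : MulAut V)))
      · exact absurd (hbot ▸ bot_le) h
    have h63' : Nat.card T ∣ 2 ^ 6 - 1 := h6 ▸ FrobeniusFPF.card_dvd_sub_one hfree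
    have hm2 : m = 2 := by
      rw [hm] at h63' h9
      have := (Nat.pow_dvd_pow_iff_le_right (by norm_num : 1 < 3)).1 h9
      interval_cases m <;> first | rfl | norm_num at h63'
    subst hm2
    haveI : Nontrivial V := Finite.one_lt_card_iff_nontrivial.1 (by rw [h6]; norm_num)
    haveI hcyc : IsCyclic T := FrobeniusFPF.isCyclic_of_comm hfree fun p q => by
      haveI : IsMulCommutative T := IsPGroup.isMulCommutative_of_card_eq_prime_sq hm
      exact mul_comm' p q
    obtain ⟨⟨g, hg⟩, hgen⟩ := IsCyclic.exists_generator (α := T)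
    have hgo : orderOf g = 9 := by
      have := orderOf_eq_card_of_forall_mem_zpowers hgen
      rw [← Subgroup.orderOf_coe, hm] at this
      exact this
    have irr : ∀ W : Subgroup V, (∀ x ∈ W, g x ∈ W) → W = ⊥ ∨ W = ⊤ := by
      intro W hW
      have hW' : ∀ t ∈ T, ∀ x ∈ W, t x ∈ W := by
        intro t ht
        obtain ⟨i, hi⟩ := (mem_powers_iff_mem_zpowers (x := (⟨g, hg⟩ : T))).2 (hgen ⟨t, ht⟩)
        have hi' : g ^ i = t := congrArg Subtype.val hi
        subst hi'
        clear hi ht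
        induction i with
        | zero => intro x hx; simpa using hx
        | succ i ih => intro x hx; rw [pow_succ', MulAut.mul_apply]; exact hW _ (ih x hx)
      letI : MulDistribMulAction T W :=
        { smul := fun t x => ⟨(t : MulAut V) x, hW' t t.2 x x.2⟩
          one_smul := fun x => Subtype.ext rfl
          mul_smul := fun s t x => Subtype.ext rfl
          smul_mul := fun t x y => Subtype.ext (map_mul (t : MulAut V) (x : V) y)
          smul_one := fun t => Subtype.ext (map_one (t : MulAut V)) }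
      have hd : Nat.card T ∣ Nat.card W - 1 := FrobeniusFPF.card_dvd_sub_one fun t ht w hw =>
        Subtype.ext (hfree t ht w (congrArg Subtype.val hw))
      obtain ⟨i, hi6, hi⟩ := exists_exp hV h6 W
      rw [hi, hm] at hd
      interval_cases i <;> norm_num at hd
      · exact Or.inl (Subgroup.card_eq_one.1 hi)
      · exact Or.inr (eq_top_of_six hV h6 hi)
    haveI := solvable_of_normalizes H T hg irr (fun b hb => by
      obtain ⟨i, hi⟩ := (mem_powers_iff_mem_zpowers (x := (⟨g, hg⟩ : T))).2 (hgen ⟨b, hb⟩)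
      rw [← show g ^ i = b from congrArg Subtype.val hi]
      exact Commute.self_pow g i) hH
    exact Group.isSolvable_of_surjective hφ
  · -- `T` embeds into the automorphisms of the fixed points of `f`
    exfalso
    let F := fixSub f
    have hinv : ∀ t ∈ T, ∀ x ∈ F, t x ∈ F := fun t ht x hx => fixSub_invariant (hcf t ht) hx
    let ρ : T →* MulAut F :=
      { toFun := fun t =>
          { toFun := fun x => ⟨(t : MulAut V) x, hinv t t.2 x x.2⟩
            invFun := fun x => ⟨((t⁻¹ : T) : MulAut V) x, hinv _ (t⁻¹ : T).2 x x.2⟩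
            left_inv := fun x => Subtype.ext (MulEquiv.symm_apply_apply _ _)
            right_inv := fun x => Subtype.ext (MulEquiv.apply_symm_apply _ _)
            map_mul' := fun x y => Subtype.ext (map_mul (t : MulAut V) (x : V) y) }
        map_one' := MulEquiv.ext fun x => Subtype.ext rfl
        map_mul' := fun s t => MulEquiv.ext fun x => Subtype.ext rfl }
    have hinj : Function.Injective ρ := by
      rw [injective_iff_map_eq_one]
      intro t ht
      by_contra ht1
      obtain ⟨g₁, hg₁, ho, hle'⟩ := hpow t t.2 (fun e => ht1 (Subtype.ext e))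
      have hFt : F ≤ fixSub (t : MulAut V) := fun x hx =>
        (congrArg Subtype.val (DFunLike.congr_fun ht (⟨x, hx⟩ : F)) :)
      rcases no_fix_of_commute hV h6 hf ho (hcf g₁ hg₁) with h | h
      · have h1 : F ≤ ⊥ := h ▸ hFt.trans hle'
        have h2 : Nat.card F = 1 := by rw [le_bot_iff.1 h1, Subgroup.card_bot]
        rw [show Nat.card F = 2 ^ 3 from hj] at h2
        norm_num at h2
      · exact h (hFt.trans hle')
    obtain ⟨k, hk, hd⟩ := card_mulAut_dvd' (show Nat.card F = 2 ^ 3 from hj)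
    have h9' : 9 ∣ Nat.card (MulAut F) := h9.trans (Subgroup.card_dvd_of_injective ρ hinj)
    have h9'' := h9'.trans hd
    interval_cases k <;> simp [Finset.prod_range_succ] at h9''

/-- A group normalising a transitive linear group is solvable modulo it. -/
theorem solvable_quotient : Group.IsSolvable (Y ⧸ X.subgroupOf Y) := by
  haveI : Fact (Nat.Prime 2) := ⟨Nat.prime_two⟩
  haveI : Finite (MulAut V) := inferInstance
  obtain ⟨n, hn⟩ := IsPGroup.iff_card.mp (isPGroup_two hV)
  by_cases hn1 : n ≤ 1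
  · haveI : Subsingleton (MulAut V) := ⟨fun a b => MulEquiv.ext fun x => by
      by_cases hx : x = 1
      · rw [hx, map_one, map_one]
      · have hall : ∀ y : V, y ≠ 1 → y = x := fun y hy => by
          by_contra hne
          have h3 : 2 < Nat.card V := by
            haveI := Fintype.ofFinite V
            rw [Nat.card_eq_fintype_card]
            exact Fintype.two_lt_card_iff.2 ⟨y, x, 1, hne, hy, hx⟩
          have : 2 ^ n ≤ 2 ^ 1 := Nat.pow_le_pow_right (by norm_num) hn1
          omega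
        rw [hall (a x) (fun e => hx (a.injective (e.trans (map_one a).symm))),
          hall (b x) (fun e => hx (b.injective (e.trans (map_one b).symm)))]⟩
    haveI : Subsingleton (Y ⧸ X.subgroupOf Y) := ⟨fun a b => by
      obtain ⟨a, rfl⟩ := QuotientGroup.mk'_surjective _ a
      obtain ⟨b, rfl⟩ := QuotientGroup.mk'_surjective _ b
      rw [Subsingleton.elim a b]⟩
    exact Group.isSolvable_of_comm fun p q => Subsingleton.elim _ _
  by_cases hn6 : n = 6
  · exact solvable_six hV hle htr (hn6 ▸ hn)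
  obtain ⟨r, hr, hrd, hppd⟩ := S2904.result 2 n (by norm_num) (by omega) (fun h => hn6 h.2) (by
    rintro ⟨rfl, m, hm⟩
    rcases m with _ | _ | m <;> simp [pow_succ] at hm <;> omega)
  haveI := Fact.mk hr
  have hr2 : r ≠ 2 := by
    rintro rfl
    have h1 : 2 ∣ 2 ^ n := dvd_pow_self 2 (by omega)
    have h2 : 2 ∣ 2 ^ n - (2 ^ n - 1) := Nat.dvd_sub h1 hrd
    rw [Nat.sub_sub_self Nat.one_le_two_pow] at h2
    omega
  haveI : Nontrivial V := Finite.one_lt_card_iff_nontrivial.1 (by
    rw [hn]; exact Nat.one_lt_pow (by omega) one_lt_two)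
  obtain ⟨R, H, hR, hRX, hrel, hH, φ, hφ⟩ := exists_normalizer (r := r) hle
  have hrR : r ∣ Nat.card R := by
    have := dvd_of_not_dvd_relIndex (m := 1) hr hRX hrel (by
      rw [pow_one]; exact hrd.trans (hn ▸ card_sub_one_dvd hV htr))
    rwa [pow_one] at this
  haveI : Nontrivial R := Finite.one_lt_card_iff_nontrivial.1
    (lt_of_lt_of_le hr.one_lt (Nat.le_of_dvd Nat.card_pos hrR))
  haveI := hR.center_nontrivial
  obtain ⟨k, hk0, hk⟩ := (hR.to_subgroup (Subgroup.center R)).nontrivial_iff_card.1 inferInstance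
  obtain ⟨⟨⟨a, haR⟩, haZ⟩, hao⟩ := exists_prime_orderOf_dvd_card' (G := Subgroup.center R) r
    (hk ▸ dvd_pow_self r hk0.ne')
  rw [← Subgroup.orderOf_coe, ← Subgroup.orderOf_coe] at hao
  haveI := solvable_of_normalizes H R haR
    (irr_of_primitive hV hn hr hr2 hppd (show orderOf a = r from hao))
    (fun b hb => (congrArg Subtype.val (Subgroup.mem_center_iff.1 haZ ⟨b, hb⟩)).symm) hH
  exact Group.isSolvable_of_surjective hφ

end Cfsg.Agent.TransLinearQuot57
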