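import Mathlib
import Cfsg.Agent.Lib.OutSolvable67
import Cfsg.Agent.Lib.AutFixInvolutions57
import Cfsg.Agent.Lib.TransLinearQuot57

/-!
The automorphisms induced on a Sylow 2-subgroup with commuting involutions that are all conjugate
form a solvable group; also the three-generator criterion.
-/

set_option autoImplicit false
set_option linter.style.haveILetI false
set_option linter.unusedSectionVars false

namespace Cfsg.Agent.OutInvComm57

universe u

variable {G : Type u} [Group G] [Finite G]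
  (hFT : ∀ (X : Type u) [Group X] [Finite X], Odd (Nat.card X) → Group.IsSolvable X)

include hFT in
theorem solvable_sylow_normalizer (P : Sylow 2 G) :
    Group.IsSolvable (Subgroup.normalizer ((P : Subgroup G) : Set G)) := by
  haveI : Fact (Nat.Prime 2) := ⟨Nat.prime_two⟩
  set N := Subgroup.normalizer ((P : Subgroup G) : Set G)
  let T : Sylow 2 N := P.subtype Subgroup.le_normalizer
  haveI : (T : Subgroup N).Normal := Subgroup.normal_in_normalizer
  haveI : Group.IsSolvable (T : Subgroup N) := by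
    haveI := T.isPGroup'.isNilpotent
    infer_instance
  haveI : Group.IsSolvable (N ⧸ (T : Subgroup N)) := by
    refine hFT _ ?_
    rw [← Subgroup.index_eq_card]
    exact Nat.odd_iff.2 (Nat.two_dvd_ne_zero.1 T.not_dvd_index)
  exact (Group.isSolvable_iff_subgroup_quotient (T : Subgroup N)).mpr ⟨inferInstance, inferInstance⟩

include hFT in
/-- Three generators and an element of odd order of the normaliser acting non-trivially. -/
theorem solvable_range_three (S : Sylow 2 G) (a b c : S)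
    (habc : Subgroup.closure ({a, b, c} : Set S) = ⊤) (g : G)
    (hg : g ∈ Subgroup.normalizer ((S : Subgroup G) : Set G)) (hgo : Odd (orderOf g))
    (hgc : g ∉ Subgroup.centralizer ((S : Subgroup G) : Set G)) :
    Group.IsSolvable (OutSolvable67.restrict (S : Subgroup G)).range := by
  set A := OutSolvable67.autStab (S : Subgroup G)
  set res := OutSolvable67.restrict (S : Subgroup G)
  set N := Subgroup.normalizer ((S : Subgroup G) : Set G)
  let κ : N →* A := (MulAut.conj.comp N.subtype).codRestrict A fun n x =>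
    (Subgroup.mem_normalizer_iff.1 n.2 x).symm
  let μ : N →* res.range := res.rangeRestrict.comp κ
  haveI : μ.range.Normal := ⟨by
    rintro _ ⟨n, rfl⟩ ⟨_, φ, rfl⟩
    have hn' : (φ : MulAut G) n ∈ N := Subgroup.mem_normalizer_iff.2 fun x => by
      obtain ⟨y, rfl⟩ := (φ : MulAut G).surjective x
      rw [← map_inv, ← map_mul, ← map_mul]
      exact ((φ.2 y).trans (Subgroup.mem_normalizer_iff.1 n.2 y)).trans (φ.2 _).symm
    refine ⟨⟨_, hn'⟩, ?_⟩
    have e : κ ⟨_, hn'⟩ = φ * κ n * φ⁻¹ := Subtype.ext (MulEquiv.ext fun x => by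
      show (φ : MulAut G) n * x * ((φ : MulAut G) n)⁻¹ =
        (φ : MulAut G) ((n : G) * ((φ : MulAut G)⁻¹ x) * (n : G)⁻¹)
      rw [map_mul, map_mul, MulAut.apply_inv_self, map_inv])
    exact Subtype.ext (by
      show res (κ ⟨_, hn'⟩) = res φ * res (κ n) * (res φ)⁻¹
      rw [e, map_mul, map_mul, map_inv])⟩
  haveI := solvable_sylow_normalizer hFT S
  haveI : Group.IsSolvable μ.range :=
    Group.isSolvable_of_surjective μ.rangeRestrict_surjective
  refine OutSolvable67.solvable_three_gen S.isPGroup' a b c habc _ μ.range (μ ⟨g, hg⟩) ⟨_, rfl⟩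
    ?_ ?_
  · intro e
    refine hgc (Subgroup.mem_centralizer_iff.2 fun s hs => ?_)
    have h1 : res (κ ⟨g, hg⟩) = 1 := congrArg Subtype.val e
    have h2 : g * s * g⁻¹ = s :=
      (congrArg Subtype.val (DFunLike.congr_fun h1 (⟨s, hs⟩ : (S : Subgroup G))) :)
    exact (mul_inv_eq_iff_eq_mul.1 h2).symm
  · exact hgo.of_dvd_nat ((orderOf_map_dvd μ _).trans (Subgroup.orderOf_coe (⟨g, hg⟩ : N)).symm.dvd)

include hFT in
/-- Commuting and fused involutions. -/
theorem solvable_range_inv (S : Sylow 2 G)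
    (h1 : ∀ s ∈ S, ∀ t ∈ S, orderOf s = 2 → orderOf t = 2 → s * t = t * s)
    (h2 : ∀ s ∈ S, ∀ t ∈ S, orderOf s = 2 → orderOf t = 2 → ∃ g : G, g * s * g⁻¹ = t) :
    Group.IsSolvable (OutSolvable67.restrict (S : Subgroup G)).range := by
  haveI : Fact (Nat.Prime 2) := ⟨Nat.prime_two⟩
  have hord : ∀ {x : G}, x * x = 1 → x ≠ 1 → orderOf x = 2 := fun hx hx1 =>
    orderOf_eq_prime (by rw [sq, hx]) hx1
  have hcom : ∀ x ∈ S, ∀ y ∈ S, x * x = 1 → y * y = 1 → x * y = y * x := by
    intro x hx y hy hxx hyy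
    by_cases hx1 : x = 1
    · rw [hx1, one_mul, mul_one]
    by_cases hy1 : y = 1
    · rw [hy1, one_mul, mul_one]
    exact h1 x hx y hy (hord hxx hx1) (hord hyy hy1)
  let V : Subgroup G :=
    { carrier := {x | x ∈ S ∧ x * x = 1}
      one_mem' := ⟨one_mem _, one_mul 1⟩
      mul_mem' := fun {a b} ha hb => ⟨mul_mem ha.1 hb.1, by
        rw [show a * b * (a * b) = a * (b * a) * b by group, ← hcom a ha.1 b hb.1 ha.2 hb.2,
          show a * (a * b) * b = (a * a) * (b * b) by group, ha.2, hb.2, one_mul]⟩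
      inv_mem' := fun {a} ha => ⟨inv_mem ha.1, by rw [← mul_inv_rev, ha.2, inv_one]⟩ }
  have hVS : V ≤ S := fun x hx => hx.1
  letI instV : CommGroup V :=
    { (inferInstance : Group V) with
      mul_comm := fun a b => Subtype.ext (hcom _ a.2.1 _ b.2.1 a.2.2 b.2.2) }
  set A := OutSolvable67.autStab (S : Subgroup G)
  set res := OutSolvable67.restrict (S : Subgroup G)
  set N := Subgroup.normalizer (V : Set G)
  -- a 2-subgroup contains at most one conjugate of `V`
  have huniq : ∀ T : Subgroup G, IsPGroup 2 T → ∀ g₁ g₂ : G,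
      V.map (MulAut.conj g₁).toMonoidHom ≤ T → V.map (MulAut.conj g₂).toMonoidHom ≤ T →
      V.map (MulAut.conj g₁).toMonoidHom = V.map (MulAut.conj g₂).toMonoidHom := by
    intro T hT g₁ g₂ hg₁ hg₂
    obtain ⟨P, hP⟩ := hT.exists_le_sylow
    obtain ⟨h, hh⟩ := MulAction.exists_smul_eq G P S
    have key : ∀ g, V.map (MulAut.conj g).toMonoidHom ≤ T →
        V.map (MulAut.conj (h * g)).toMonoidHom = V := by
      intro g hg
      refine Subgroup.eq_of_le_of_card_ge ?_ ?_
      · rintro _ ⟨x, hx, rfl⟩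
        refine ⟨?_, ?_⟩
        · rw [← hh]
          refine ⟨g * x * g⁻¹, hP (hg ⟨x, hx, rfl⟩), ?_⟩
          show h * (g * x * g⁻¹) * h⁻¹ = h * g * x * (h * g)⁻¹
          group
        · rw [← map_mul, hx.2, map_one]
      · rw [Subgroup.card_map_of_injective (MulAut.conj (h * g)).injective]
    have e : ∀ g, V.map (MulAut.conj (h * g)).toMonoidHom =
        (V.map (MulAut.conj g).toMonoidHom).map (MulAut.conj h).toMonoidHom := fun g => by
      rw [Subgroup.map_map]
      congr 1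
      exact MonoidHom.ext fun x => by simp [MulAut.conj_apply, mul_assoc]
    refine Subgroup.map_injective (f := (MulAut.conj h).toMonoidHom) (MulAut.conj h).injective ?_
    rw [← e, ← e, key g₁ hg₁, key g₂ hg₂]
  let ν : N →* MulAut V := Subgroup.normalizerMonoidHom V
  have hν : ∀ (n : N) (v : V), ((ν n v : V) : G) = n * v * (n : G)⁻¹ := fun n v => rfl
  have htr : ∀ v w : V, v ≠ 1 → w ≠ 1 → ∃ x ∈ ν.range, x v = w := by
    intro v w hv hw
    obtain ⟨g, hg⟩ := h2 v v.2.1 w w.2.1 (hord v.2.2 fun e => hv (Subtype.ext e))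
      (hord w.2.2 fun e => hw (Subtype.ext e))
    set C := Subgroup.centralizer ({(w : G)} : Set G)
    have hC : ∀ z : G, z ∈ C ↔ z * w = w * z := fun z => Subgroup.mem_centralizer_singleton_iff
    have hVp : IsPGroup 2 V := S.isPGroup'.to_le hVS
    have hV' : V.map (MulAut.conj g).toMonoidHom ≤ C := by
      rintro _ ⟨x, hx, rfl⟩
      rw [hC, ← hg]
      show g * x * g⁻¹ * (g * v * g⁻¹) = g * v * g⁻¹ * (g * x * g⁻¹)
      calc g * x * g⁻¹ * (g * v * g⁻¹) = g * (x * v) * g⁻¹ := by group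
        _ = g * (v * x) * g⁻¹ := by rw [hcom x hx.1 v v.2.1 hx.2 v.2.2]
        _ = _ := by group
    have hV1 : V ≤ C := fun x hx => (hC x).2 (hcom x hx.1 w w.2.1 hx.2 w.2.2)
    obtain ⟨T₁, hT₁⟩ := (hVp.comap_subtype (K := C)).exists_le_sylow
    obtain ⟨T₂, hT₂⟩ := ((hVp.map (MulAut.conj g).toMonoidHom).comap_subtype (K := C)).exists_le_sylow
    obtain ⟨c, hc⟩ := MulAction.exists_smul_eq C T₂ T₁
    have h3 : V.map (MulAut.conj ((c : G) * g)).toMonoidHom =
        V.map (MulAut.conj (1 : G)).toMonoidHom := by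
      refine huniq ((T₁ : Subgroup C).map C.subtype) (T₁.isPGroup'.map _) _ _ ?_ ?_
      · rintro _ ⟨x, hx, rfl⟩
        refine ⟨c * ⟨g * x * g⁻¹, hV' ⟨x, hx, rfl⟩⟩ * c⁻¹, ?_, ?_⟩
        · rw [← hc]
          exact ⟨_, hT₂ ⟨x, hx, rfl⟩, rfl⟩
        · show (c : G) * (g * x * g⁻¹) * (c : G)⁻¹ = (c : G) * g * x * ((c : G) * g)⁻¹
          group
      · rintro _ ⟨x, hx, rfl⟩
        exact ⟨⟨x, hV1 hx⟩, hT₁ hx, by simp⟩
    have hn : (c : G) * g ∈ N := Subgroup.mem_normalizer_iff_map_conj_eq.2 (h3.trans (by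
      ext x; simp [Subgroup.mem_map]))
    refine ⟨ν ⟨_, hn⟩, ⟨_, rfl⟩, Subtype.ext ?_⟩
    rw [hν]
    show (c : G) * g * v * ((c : G) * g)⁻¹ = w
    calc (c : G) * g * v * ((c : G) * g)⁻¹ = c * (g * v * g⁻¹) * (c : G)⁻¹ := by group
      _ = w := by rw [hg, (hC _).1 c.2, mul_inv_cancel_right]
  have hAV : ∀ φ : A, ∀ x, x ∈ V ↔ (φ : MulAut G) x ∈ V := fun φ x =>
    ⟨fun hx => ⟨(φ.2 x).2 hx.1, by rw [← map_mul, hx.2, map_one]⟩,
      fun hx => ⟨(φ.2 x).1 hx.1, (φ : MulAut G).injective (by rw [map_mul, hx.2, map_one])⟩⟩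
  let rV : A →* MulAut V :=
    { toFun := fun φ =>
        { toFun := fun x => ⟨(φ : MulAut G) x, (hAV φ x).1 x.2⟩
          invFun := fun x => ⟨((φ⁻¹ : A) : MulAut G) x, (hAV φ⁻¹ x).1 x.2⟩
          left_inv := fun x => Subtype.ext (MulEquiv.symm_apply_apply _ _)
          right_inv := fun x => Subtype.ext (MulEquiv.apply_symm_apply _ _)
          map_mul' := fun x y => Subtype.ext (map_mul (φ : MulAut G) (x : G) y) }
      map_one' := MulEquiv.ext fun x => Subtype.ext rfl
      map_mul' := fun a b => MulEquiv.ext fun x => Subtype.ext rfl }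
  have hrVν : ∀ (φ : A) (n : N) (hn : (φ : MulAut G) n ∈ N),
      rV φ * ν n * (rV φ)⁻¹ = ν ⟨_, hn⟩ := fun φ n hn => by
    rw [← map_inv]
    refine MulEquiv.ext fun x => Subtype.ext ?_
    show (φ : MulAut G) ((n : G) * ((φ⁻¹ : A) : MulAut G) x * (n : G)⁻¹) =
      (φ : MulAut G) n * x * ((φ : MulAut G) n)⁻¹
    rw [map_mul, map_mul, map_inv, Subgroup.coe_inv, MulAut.apply_inv_self]
  have hφN : ∀ (φ : A) (n : N), (φ : MulAut G) n ∈ N := fun φ n =>
    Subgroup.mem_normalizer_iff.2 fun x => by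
      obtain ⟨y, rfl⟩ := (φ : MulAut G).surjective x
      rw [← map_inv, ← map_mul, ← map_mul]
      exact ((hAV φ y).symm.trans (Subgroup.mem_normalizer_iff.1 n.2 y)).trans (hAV φ _)
  set X := ν.range with hX
  let Y := X ⊔ rV.range
  have hYN : Y ≤ Subgroup.normalizer (X : Set (MulAut V)) := by
    refine sup_le Subgroup.le_normalizer ?_
    rintro _ ⟨φ, rfl⟩
    rw [Subgroup.mem_normalizer_iff]
    intro x
    constructor
    · rintro ⟨n, rfl⟩
      exact ⟨_, (hrVν φ n (hφN φ n)).symm⟩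
    · rintro ⟨n, hn⟩
      refine ⟨⟨_, hφN φ⁻¹ n⟩, ?_⟩
      rw [← hrVν φ⁻¹ n (hφN φ⁻¹ n), hn, map_inv]
      group
  haveI : (X.subgroupOf Y).Normal :=
    (Subgroup.normal_subgroupOf_iff_le_normalizer le_sup_left).2 hYN
  haveI := TransLinearQuot57.solvable_quotient (V := V) (fun x => Subtype.ext x.2.2)
    (X := X) (Y := Y) le_sup_left htr
  have hSN : (S : Subgroup G) ≤ N := fun s hs => Subgroup.mem_normalizer_iff.2 fun x => by
    have hsx : x ∈ S ↔ s * x * s⁻¹ ∈ S :=
      ⟨fun hx => mul_mem (mul_mem hs hx) (inv_mem hs), fun hx => by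
        have e : x = s⁻¹ * (s * x * s⁻¹) * s := by group
        rw [e]; exact mul_mem (mul_mem (inv_mem hs) hx) hs⟩
    have he : s * x * s⁻¹ * (s * x * s⁻¹) = s * (x * x) * s⁻¹ := by group
    exact ⟨fun hx => ⟨hsx.1 hx.1, by rw [he, hx.2, mul_one, mul_inv_cancel]⟩,
      fun hx => ⟨hsx.2 hx.1, by
        have h' := hx.2
        rw [he] at h'
        exact conj_eq_one_iff.1 h'⟩⟩
  let P : Sylow 2 X := (S.subtype hSN).mapSurjective (f := ν.rangeRestrict) ν.rangeRestrict_surjective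
  haveI := solvable_sylow_normalizer hFT P
  by_contra hns
  obtain ⟨D, hD, hD1, hperf⟩ := FpfAut.exists_perfect_le res.range hns
  have hmemV : ∀ (k : MulAut S), k ∈ res.range → ∀ x : S, (x : G) ∈ V → ((k x : S) : G) ∈ V := by
    rintro _ ⟨φ, rfl⟩ x hx
    exact (hAV φ x).1 hx
  let ψ : D →* MulAut V :=
    { toFun := fun k =>
        { toFun := fun x => ⟨_, hmemV k (hD k.2) ⟨x, hVS x.2⟩ x.2⟩
          invFun := fun x => ⟨_, hmemV (k⁻¹ : D) (hD (k⁻¹ : D).2) ⟨x, hVS x.2⟩ x.2⟩
          left_inv := fun x => Subtype.ext ((congrArg Subtype.val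
            (MulEquiv.symm_apply_apply (k : MulAut S) (⟨x, hVS x.2⟩ : S)) :))
          right_inv := fun x => Subtype.ext ((congrArg Subtype.val
            (MulEquiv.apply_symm_apply (k : MulAut S) (⟨x, hVS x.2⟩ : S)) :))
          map_mul' := fun x y => Subtype.ext ((congrArg Subtype.val
            (map_mul (k : MulAut S) (⟨x, hVS x.2⟩ : S) (⟨y, hVS y.2⟩ : S)) :)) }
      map_one' := MulEquiv.ext fun x => Subtype.ext rfl
      map_mul' := fun a b => MulEquiv.ext fun x => Subtype.ext rfl }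
  have hψr : ∀ k, ∃ φ : A, ψ k = rV φ := by
    intro k
    obtain ⟨φ, hφ⟩ := hD k.2
    refine ⟨φ, MulEquiv.ext fun x => Subtype.ext ?_⟩
    show (((k : MulAut S) ⟨x, hVS x.2⟩ : S) : G) = _
    rw [← hφ]
    rfl
  have hψY : ∀ k, ψ k ∈ Y := fun k => by
    obtain ⟨φ, hφ⟩ := hψr k
    exact le_sup_right (a := X) ⟨φ, hφ.symm⟩
  have hψX : ∀ k, ψ k ∈ X := fun k => by
    have h3 := FpfAut.perfect_hom_eq_one hperf
      ((QuotientGroup.mk' (X.subgroupOf Y)).comp (ψ.codRestrict Y hψY))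
    exact (QuotientGroup.eq_one_iff (N := X.subgroupOf Y) _).1 (DFunLike.congr_fun h3 k)
  have hψP : ∀ k, ψ.codRestrict X hψX k ∈ Subgroup.normalizer ((P : Subgroup X) : Set X) := by
    intro k
    obtain ⟨φ, hφ⟩ := hψr k
    refine Subgroup.mem_normalizer_fintype ?_
    rintro _ ⟨s, hs, rfl⟩
    have hs' : (s : G) ∈ S := hs
    refine ⟨⟨_, hφN φ s⟩, (φ.2 _).2 hs', Subtype.ext ?_⟩
    show ν _ = ψ k * ν s * (ψ k)⁻¹
    rw [hφ, hrVν φ s (hφN φ s)]
  have hψ1 := FpfAut.perfect_hom_eq_one hperf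
    ((ψ.codRestrict X hψX).codRestrict _ hψP)
  have hfix : ∀ (k : D) (x : S), x * x = 1 → D.subtype k x = x := by
    intro k x hx
    have h4 : ψ k = 1 := congrArg Subtype.val (congrArg Subtype.val (DFunLike.congr_fun hψ1 k))
    have h5 := congrArg Subtype.val (DFunLike.congr_fun h4
      (⟨x, x.2, congrArg Subtype.val hx⟩ : V))
    exact Subtype.ext h5
  haveI : Finite (MulAut S) := inferInstance
  have h6 := AutFixInvolutions57.trivial_of_fix_involutions hFT hperf S.isPGroup'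
    (fun x y hx hy => Subtype.ext (hcom x x.2 y y.2 (congrArg Subtype.val hx) (congrArg Subtype.val hy)))
    D.subtype hfix
  exact hD1 (le_bot_iff.1 fun k hk => Subgroup.mem_bot.2 ((DFunLike.congr_fun h6 (⟨k, hk⟩ : D)) :))

end Cfsg.Agent.OutInvComm57
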