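import Mathlib
import Cfsg.Agent.Lib.DodecadConj
import Cfsg.Agent.Lib.GolayEnumComp

/-!
Stabilisers of one inner and one or two outer points of a dodecad: orders and moving them to the
standard ones.
-/

set_option autoImplicit false

namespace Cfsg.Agent.OuterPointStab

open Cfsg Cfsg.Agent.GolayBasic Cfsg.Agent.GolayPerm Cfsg.Agent.GolayM24 Cfsg.Agent.GolayDataM11
open Cfsg.Agent.GolayStab Cfsg.Agent.DodecadConj
open scoped Pointwise

theorem outer_iff : ∀ z : GolayPt, z ∉ mset 340831 → z ∈ mset 16436384 := by decide +kernel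

theorem pt_notMem {b : ℕ} (h : b = 5 ∨ b = 7) : pt b ∉ mset 340831 := by
  rcases h with rfl | rfl <;> decide +kernel

theorem apply_notMem {g : Equiv.Perm GolayPt} (hg : g ∈ Spor.M12) {z : GolayPt}
    (hz : z ∉ mset 340831) : g z ∉ mset 340831 := fun h => hz (by
  rw [← (mem_M12.1 hg).2, ← Equiv.Perm.smul_def, Finset.smul_mem_smul_finset_iff] at h
  exact h)

theorem card_chain11_1 :
    Nat.card (fixList Spor.M12 [0]) = 12 * Nat.card (fixList Spor.M12 [0, 5]) := by
  have h := card_fixList_step (keep := 340831) (fix := [0]) (b := 5) (O := 16436384) (ts := tr11_0)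
    (by norm_num) (by simp) (by decide +kernel) (H := Spor.M12)
    (fun g hg hk => mem_M12.2 ⟨hg, hk⟩)
    (fun g hg => outer_iff _ (apply_notMem (mem_fixList.1 hg).1 (pt_notMem (Or.inl rfl))))
  rwa [show wt 16436384 = 12 by decide +kernel] at h

theorem card_fix_zero_five : Nat.card (fixList Spor.M12 [0, 5]) = 660 := by
  have h := card_chain11_1
  rw [← M11_eq, card_M11] at h
  omega

theorem card_fix_zero_five_seven : Nat.card (fixList Spor.M12 [0, 5, 7]) = 60 := by
  have h := card_fixList_step (keep := 340831) (fix := [0, 5]) (b := 7) (O := 16436352)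
    (ts := tr11_1) (by norm_num) (by simp) (by decide +kernel) (H := Spor.M12)
    (fun g hg hk => mem_M12.2 ⟨hg, hk⟩)
    (fun g hg => by
      obtain ⟨hm, hf⟩ := mem_fixList.1 hg
      refine (by decide +kernel : ∀ z : GolayPt, z ∉ mset 340831 → z ≠ pt 5 → z ∈ mset 16436352) _
        (apply_notMem hm (pt_notMem (Or.inr rfl))) fun e => ?_
      rw [← hf 5 (by simp)] at e
      exact absurd (g.injective e) (by decide +kernel))
  rw [show wt 16436352 = 11 by decide +kernel, card_fix_zero_five] at h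
  have h' : ([0, 5] : List ℕ) ++ [7] = [0, 5, 7] := rfl
  rw [h'] at h
  omega

/-- a dodecad with an inner point and two outer points, moved to the standard ones -/
theorem exists_frame {d : Finset GolayPt} (hd : d ∈ dodecads) {p q q' : GolayPt} (hp : p ∈ d)
    (hq : q ∉ d) (hq' : q' ∉ d) (hne : q ≠ q') :
    ∃ a ∈ M24, a • mset 340831 = d ∧ a (pt 0) = p ∧ a (pt 5) = q ∧ a (pt 7) = q' := by
  obtain ⟨b, hb, hbd, hbp⟩ := exists_map_dodecad_point hd hp
  rw [squareDodecad_eq] at hbd
  have hout : ∀ z ∉ d, b⁻¹ z ∉ mset 340831 := fun z hz h => hz (by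
    rw [← hbd]
    exact Finset.mem_smul_finset.2 ⟨_, h, b.apply_symm_apply z⟩)
  have hcard : 1 < (Finset.univ \ mset 340831 : Finset GolayPt).card := by decide +kernel
  have h3 : ∃ z, z ∉ mset 340831 ∧ z ≠ b⁻¹ q ∧ z ≠ b⁻¹ q' := by
    by_contra h
    push Not at h
    have hsub : (Finset.univ \ mset 340831 : Finset GolayPt) ⊆ {b⁻¹ q, b⁻¹ q'} := fun z hz => by
      simp only [Finset.mem_sdiff, Finset.mem_univ, true_and] at hz
      simp only [Finset.mem_insert, Finset.mem_singleton]
      exact or_iff_not_imp_left.2 (h z hz)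
    have h12 : (Finset.univ \ mset 340831 : Finset GolayPt).card = 12 := by decide +kernel
    have h2 := (Finset.card_le_card hsub).trans Finset.card_le_two
    omega
  obtain ⟨z, hz, hzq, hzq'⟩ := h3
  obtain ⟨g, hg, e1, e2, -⟩ := exists_M11_three ![b⁻¹ q, b⁻¹ q', z]
    (by
      have : b⁻¹ q ≠ b⁻¹ q' := fun e => hne (b⁻¹.injective e)
      intro i j h
      fin_cases i <;> fin_cases j <;> simp_all)
    (by
      intro i
      rw [squareDodecad_eq]
      fin_cases i
      exacts [hout q hq, hout q' hq', hz])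
  rw [M11_eq, mem_fixList] at hg
  refine ⟨b * g, mul_mem hb hg.1.1, ?_, ?_, ?_, ?_⟩
  · rw [mul_smul, (mem_M12.1 hg.1).2, hbd]
  · rw [Equiv.Perm.mul_apply, hg.2 0 (by simp), ← hbp, pt_zero]; rfl
  · rw [Equiv.Perm.mul_apply, e1]; exact b.apply_symm_apply q
  · rw [Equiv.Perm.mul_apply, e2]; exact b.apply_symm_apply q'

end Cfsg.Agent.OuterPointStab
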