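import Mathlib
import Cfsg.Agent.Lib.OuterPointStab
import Cfsg.Agent.Lib.GolayPairData

/-!
The setwise stabiliser of an outer pair in the smallest Mathieu group as a symmetric group.
-/

set_option autoImplicit false

namespace Cfsg.Agent.OuterPairStab

open Cfsg Cfsg.Agent.GolayBasic Cfsg.Agent.GolayPerm Cfsg.Agent.GolayM24 Cfsg.Agent.GolayEnumComp
open Cfsg.Agent.GolayPairData Cfsg.Agent.GolayDataM11 Cfsg.Agent.OuterPointStab
open scoped Pointwise

/-- the map of five letters with a given code -/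
def fn5 (v : ℕ) (i : Fin 5) : Fin 5 := Fin.ofNat 5 (v / 8 ^ i.val % 8)

/-- composite -/
def op5 (w v : ℕ) : ℕ :=
  (fn5 w (fn5 v 0)).val + 8 * (fn5 w (fn5 v 1)).val + 64 * (fn5 w (fn5 v 2)).val +
    512 * (fn5 w (fn5 v 3)).val + 4096 * (fn5 w (fn5 v 4)).val

theorem fn5_op5 (w v : ℕ) : fn5 (op5 w v) = fn5 w ∘ fn5 v := by
  funext i
  have h : ∀ a b c d e : Fin 5, ∀ i : Fin 5,
      fn5 (a.val + 8 * b.val + 64 * c.val + 512 * d.val + 4096 * e.val) i =
        ![a, b, c, d, e] i := by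
    intro a b c d e i
    have := a.isLt; have := b.isLt; have := c.isLt; have := d.isLt; have := e.isLt
    fin_cases i <;> simp [fn5, Fin.ext_iff, Fin.val_ofNat] <;> omega
  rw [op5, h]
  fin_cases i <;> rfl

/-- the permutation with a given code -/
noncomputable def perm5 (v : ℕ) : Equiv.Perm (Fin 5) :=
  if h : Function.Bijective (fn5 v) then Equiv.ofBijective _ h else 1

theorem coe_perm5 {v : ℕ} (h : Function.Bijective (fn5 v)) : ⇑(perm5 v) = fn5 v := by
  rw [perm5, dif_pos h]; rfl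

theorem perm5_op {w v : ℕ} (hw : Function.Bijective (fn5 w)) (hv : Function.Bijective (fn5 v)) :
    perm5 (op5 w v) = perm5 w * perm5 v := by
  have h : Function.Bijective (fn5 (op5 w v)) := by rw [fn5_op5]; exact hw.comp hv
  refine Equiv.ext fun i => ?_
  rw [Equiv.Perm.mul_apply, coe_perm5 h, coe_perm5 hw, coe_perm5 hv, fn5_op5]
  rfl

/-- the code of the identity -/
def one5 : ℕ := 8 + 64 * 2 + 512 * 3 + 4096 * 4

theorem fn5_one : fn5 one5 = id := by
  funext i; revert i; decide +kernel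

theorem perm5_one : perm5 one5 = 1 := by
  refine Equiv.ext fun i => ?_
  rw [coe_perm5 (fn5_one ▸ Function.bijective_id), fn5_one]; rfl

theorem cert : Cert op5 one5 sfiveGens sfiveList 120 :=
  ⟨⟨sfivePar, by decide +kernel⟩, ⟨sfiveNxt, by decide +kernel⟩, ⟨sfiveSort, by decide +kernel⟩⟩

theorem all_bij : ∀ x ∈ sfiveGens ++ elts sfiveList 120, Function.Bijective (fn5 x.2) := by
  have h : ∀ x ∈ sfiveGens ++ elts sfiveList 120, Function.Injective (fn5 x.2) := by
    decide +kernel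
  exact fun x hx => Finite.injective_iff_bijective.1 (h x hx)

/-- the standard pair stabiliser -/
def grp : Subgroup (Equiv.Perm GolayPt) :=
  fixList Spor.M12 [0] ⊓ MulAction.stabilizer (Equiv.Perm GolayPt) ({pt 5, pt 7} : Finset GolayPt)

theorem grp_le : grp ≤ M24 := fun _ hg => (mem_fixList.1 hg.1).1.1

theorem smul_pair (g : Equiv.Perm GolayPt) (a b : GolayPt) :
    g • ({a, b} : Finset GolayPt) = {g a, g b} := by
  rw [Finset.smul_finset_insert, Finset.smul_finset_singleton]; rfl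

theorem gens_mem : ∀ g ∈ sfiveGens, permOf g.1 ∈ grp := by
  have h : ∀ g ∈ sfiveGens, good g.1 = true ∧ pmask g.1 340831 = 340831 ∧ pimg g.1 0 = 0 ∧
      pmask g.1 160 = 160 := by decide +kernel
  intro g hg
  obtain ⟨hgood, hD, h0, h57⟩ := h g hg
  have hv := valid_of_good hgood
  refine ⟨mem_fixList.2 ⟨mem_M12.2 ⟨permOf_mem_M24 hgood, by rw [smul_mset hv, hD]⟩, ?_⟩, ?_⟩
  · intro b hb
    rw [List.mem_singleton.1 hb, permOf_apply hv, pfun, idx_pt (by norm_num), h0]
  · show permOf g.1 • ({pt 5, pt 7} : Finset GolayPt) = {pt 5, pt 7}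
    rw [
      show ({pt 5, pt 7} : Finset GolayPt) = mset 160 by decide +kernel, smul_mset hv, h57]

theorem card_grp : Nat.card grp = 120 := by
  refine le_antisymm ?_ (cert.card_le gens_mem)
  have hsub : ∀ g ∈ grp, g (pt 5) ∈ ({pt 5, pt 7} : Finset GolayPt) := fun g hg => by
    rw [← (MulAction.mem_stabilizer_iff.1 hg.2)]
    exact Finset.mem_smul_finset.2 ⟨pt 5, by simp, rfl⟩
  obtain ⟨φ, hφ⟩ : ∃ O : Finset GolayPt, O ⊆ {pt 5, pt 7} ∧
      ∀ y, y ∈ O ↔ ∃ g ∈ grp, g (pt 5) = y := by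
    classical
    refine ⟨({pt 5, pt 7} : Finset GolayPt).filter fun y => ∃ g ∈ grp, g (pt 5) = y,
      Finset.filter_subset _ _, fun y => ?_⟩
    rw [Finset.mem_filter]
    exact ⟨fun h => h.2, fun ⟨g, hg, hy⟩ => ⟨hy ▸ hsub g hg, g, hg, hy⟩⟩
  rw [card_eq_card_mul grp (pt 5) φ (fun g hg => (hφ.2 _).2 ⟨g, hg, rfl⟩)
    (fun y hy => (hφ.2 y).1 hy)]
  have hle : grp ⊓ MulAction.stabilizer (Equiv.Perm GolayPt) (pt 5) ≤
      fixList Spor.M12 [0, 5, 7] := by
    rintro g ⟨⟨hg, hp⟩, h5⟩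
    obtain ⟨hm, h0⟩ := mem_fixList.1 hg
    have h5' : g (pt 5) = pt 5 := h5
    refine mem_fixList.2 ⟨hm, fun b hb => ?_⟩
    simp only [List.mem_cons, List.not_mem_nil, or_false] at hb
    rcases hb with rfl | rfl | rfl
    · exact h0 0 (by simp)
    · exact h5'
    · have h7 : g (pt 7) ∈ ({pt 5, pt 7} : Finset GolayPt) := by
        rw [← MulAction.mem_stabilizer_iff.1 hp]
        exact Finset.mem_smul_finset.2 ⟨pt 7, by simp, rfl⟩
      simp only [Finset.mem_insert, Finset.mem_singleton] at h7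
      rcases h7 with h7 | h7
      · exact absurd (g.injective (h7.trans h5'.symm)) (by decide +kernel)
      · exact h7
  have h1 := (Finset.card_le_card hφ.1).trans Finset.card_le_two
  have h2 := Subgroup.card_le_of_le hle
  rw [card_fix_zero_five_seven] at h2
  exact (Nat.mul_le_mul h1 h2).trans (by norm_num)

theorem nonempty_iso : Nonempty (grp ≃* Equiv.Perm (Fin 5)) := by
  obtain ⟨φ, hφ, hall⟩ := cert.spec gens_mem card_grp perm5 perm5_one
    (fun g hg x hx => perm5_op (all_bij g (List.mem_append_left _ hg))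
      (all_bij x (List.mem_append_right _ hx)))
  have hinj : Function.Injective φ := by
    rw [injective_iff_map_eq_one]
    intro h hh
    obtain ⟨x, hx, hxh⟩ := hall h
    obtain ⟨hm, hφx⟩ := hφ x hx
    rw [show (⟨_, hm⟩ : grp) = h from Subtype.ext hxh, hh] at hφx
    have key : ∀ x ∈ elts sfiveList 120, x.1 = idP ∨ ∃ i : Fin 5, fn5 x.2 i ≠ i := by
      decide +kernel
    rcases key x hx with hid | ⟨i, hi⟩
    · ext1
      rw [← hxh, hid, permOf_idP]; rfl
    · refine absurd ?_ hi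
      rw [← coe_perm5 (all_bij x (List.mem_append_right _ hx)), ← hφx]
      rfl
  refine ⟨MulEquiv.ofBijective φ ((Nat.bijective_iff_injective_and_card _).2 ⟨hinj, ?_⟩)⟩
  rw [card_grp, Nat.card_perm, Nat.card_fin]
  rfl

end Cfsg.Agent.OuterPairStab
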