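import Mathlib
import Cfsg.Agent.Lib.OuterPointStab
import Cfsg.Agent.Lib.GolayPSLData
import Cfsg.Agent.Lib.PSLCard

/-!
The stabiliser of an inner and an outer point of a dodecad as a projective linear group.
-/

set_option autoImplicit false

namespace Cfsg.Agent.OuterPointPSL

open Cfsg Cfsg.Agent.GolayBasic Cfsg.Agent.GolayPerm Cfsg.Agent.GolayM24 Cfsg.Agent.GolayEnumComp
open Cfsg.Agent.GolayPSLData Cfsg.Agent.OuterPointStab
open scoped Pointwise

/-- entries of the product, times a scalar -/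
def prod11 (s w v : ℕ) : ℕ :=
  (s * ((w % 11) * (v % 11) + (w / 11 % 11) * (v / 121 % 11))) % 11 +
  11 * ((s * ((w % 11) * (v / 11 % 11) + (w / 11 % 11) * (v / 1331 % 11))) % 11) +
  121 * ((s * ((w / 121 % 11) * (v % 11) + (w / 1331 % 11) * (v / 121 % 11))) % 11) +
  1331 * ((s * ((w / 121 % 11) * (v / 11 % 11) + (w / 1331 % 11) * (v / 1331 % 11))) % 11)

/-- first non-zero entry -/
def lead (v : ℕ) : ℕ :=
  if v % 11 = 0 then (if v / 11 % 11 = 0 then v / 121 % 11 else v / 11 % 11) else v % 11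

/-- product, with sign normalised -/
def op11 (w v : ℕ) : ℕ := if lead (prod11 1 w v) ≤ 5 then prod11 1 w v else prod11 10 w v

/-- the matrix of a code -/
def mat11 (v : ℕ) : Matrix (Fin 2) (Fin 2) (ZMod 11) :=
  !![(v : ZMod 11), ((v / 11 : ℕ) : ZMod 11); ((v / 121 : ℕ) : ZMod 11), ((v / 1331 : ℕ) : ZMod 11)]

theorem mat11_prod11 (s w v : ℕ) :
    mat11 (prod11 s w v) = (s : ZMod 11) • (mat11 w * mat11 v) := by
  have d : ∀ (a b c e : ℕ), a < 11 → b < 11 → c < 11 → e < 11 →
      mat11 (a + 11 * b + 121 * c + 1331 * e) =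
        !![(a : ZMod 11), (b : ZMod 11); (c : ZMod 11), (e : ZMod 11)] := by
    intro a b c e ha hb hc he
    have h1 : (a + 11 * b + 121 * c + 1331 * e) % 11 = a := by omega
    have h2 : (a + 11 * b + 121 * c + 1331 * e) / 11 % 11 = b := by omega
    have h3 : (a + 11 * b + 121 * c + 1331 * e) / 121 % 11 = c := by omega
    have h4 : (a + 11 * b + 121 * c + 1331 * e) / 1331 % 11 = e := by omega
    rw [mat11, ← ZMod.natCast_mod (a + 11 * b + 121 * c + 1331 * e), h1,
      ← ZMod.natCast_mod ((a + 11 * b + 121 * c + 1331 * e) / 11), h2,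
      ← ZMod.natCast_mod ((a + 11 * b + 121 * c + 1331 * e) / 121), h3,
      ← ZMod.natCast_mod ((a + 11 * b + 121 * c + 1331 * e) / 1331), h4]
  rw [prod11, d _ _ _ _ (Nat.mod_lt _ (by norm_num)) (Nat.mod_lt _ (by norm_num))
    (Nat.mod_lt _ (by norm_num)) (Nat.mod_lt _ (by norm_num))]
  simp [mat11, Matrix.mul_fin_two, ZMod.natCast_mod, Matrix.smul_of, Matrix.smul_cons, mul_add]

/-- the element of the special linear group with a given code -/
def sl11 (v : ℕ) : Matrix.SpecialLinearGroup (Fin 2) (ZMod 11) :=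
  if h : (mat11 v).det = 1 then ⟨mat11 v, h⟩ else 1

/-- the element of the projective group with a given code -/
def psl11 (v : ℕ) : Matrix.ProjectiveSpecialLinearGroup (Fin 2) (ZMod 11) :=
  QuotientGroup.mk (sl11 v)

theorem coe_sl11 {v : ℕ} (h : (mat11 v).det = 1) :
    (sl11 v : Matrix (Fin 2) (Fin 2) (ZMod 11)) = mat11 v := by
  unfold sl11
  exact congrArg Subtype.val (dif_pos h)

theorem psl11_op {w v : ℕ} (hw : (mat11 w).det = 1) (hv : (mat11 v).det = 1) :
    psl11 (op11 w v) = psl11 w * psl11 v := by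
  obtain ⟨s, hs, hop⟩ : ∃ s : ℕ, ((s : ZMod 11) = 1 ∨ (s : ZMod 11) = -1) ∧
      op11 w v = prod11 s w v := by
    rw [op11]
    split
    · exact ⟨1, Or.inl Nat.cast_one, rfl⟩
    · exact ⟨10, Or.inr (by decide), rfl⟩
  have hdet : (mat11 (op11 w v)).det = 1 := by
    rw [hop, mat11_prod11, Matrix.det_smul, Matrix.det_mul, hw, hv]
    rcases hs with h | h <;> simp [h]
  rw [psl11, psl11, psl11, ← QuotientGroup.mk_mul, QuotientGroup.eq,
    Matrix.SpecialLinearGroup.mem_center_iff]
  have hm : (sl11 (op11 w v) : Matrix (Fin 2) (Fin 2) (ZMod 11)) =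
      (s : ZMod 11) • ((sl11 w * sl11 v : Matrix.SpecialLinearGroup (Fin 2) (ZMod 11)) :
        Matrix (Fin 2) (Fin 2) (ZMod 11)) := by
    rw [coe_sl11 hdet, Matrix.SpecialLinearGroup.coe_mul, coe_sl11 hw, coe_sl11 hv, hop,
      mat11_prod11]
  refine ⟨(s : ZMod 11), by rcases hs with h | h <;> simp [h], ?_⟩
  have hss : (s : ZMod 11) * (s : ZMod 11) = 1 := by rcases hs with h | h <;> simp [h]
  have hm' : (sl11 w * sl11 v : Matrix.SpecialLinearGroup (Fin 2) (ZMod 11)).1 =
      (s : ZMod 11) • (sl11 (op11 w v)).1 := by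
    rw [show (sl11 (op11 w v)).1 = _ from hm, smul_smul, hss, one_smul]
  have key : ((sl11 (op11 w v))⁻¹ * (sl11 w * sl11 v) :
      Matrix.SpecialLinearGroup (Fin 2) (ZMod 11)).1 =
      (s : ZMod 11) • ((sl11 (op11 w v))⁻¹ * sl11 (op11 w v) :
        Matrix.SpecialLinearGroup (Fin 2) (ZMod 11)).1 := by
    show (sl11 (op11 w v))⁻¹.1 * (sl11 w * sl11 v).1 =
      (s : ZMod 11) • ((sl11 (op11 w v))⁻¹.1 * (sl11 (op11 w v)).1)
    rw [hm', Matrix.mul_smul]
  rw [inv_mul_cancel] at key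
  refine (key.trans ?_).symm
  show (s : ZMod 11) • (1 : Matrix (Fin 2) (Fin 2) (ZMod 11)) = _
  rw [Matrix.smul_one_eq_diagonal]; rfl

theorem psl11_one : psl11 1332 = 1 := by
  have : sl11 1332 = 1 := by decide +kernel
  rw [psl11, this]; rfl

theorem cert : Cert op11 1332 pslGens pslList 660 :=
  ⟨⟨pslPar, by decide +kernel⟩, ⟨pslNxt, by decide +kernel⟩, ⟨pslSort, by decide +kernel⟩⟩

theorem det_one : ∀ x ∈ pslGens ++ elts pslList 660, (mat11 x.2).det = 1 := by
  have h : (pslGens ++ elts pslList 660).all (fun x =>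
      (x.2 % 11 * (x.2 / 1331 % 11) + 10 * ((x.2 / 11 % 11) * (x.2 / 121 % 11))) % 11 == 1) =
        true := by decide +kernel
  intro x hx
  have h' := (beq_iff_eq.1 (List.all_eq_true.1 h x hx))
  have := congrArg (fun n : ℕ => (n : ZMod 11)) h'
  simp only [ZMod.natCast_mod, Nat.cast_add, Nat.cast_mul, Nat.cast_one] at this
  have h10 : ((10 : ℕ) : ZMod 11) = -1 := by decide
  rw [h10] at this
  rw [mat11, Matrix.det_fin_two_of]
  linear_combination this

theorem gens_mem : ∀ g ∈ pslGens, permOf g.1 ∈ fixList Spor.M12 [0, 5] := by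
  have h : ∀ g ∈ pslGens, good g.1 = true ∧ pmask g.1 340831 = 340831 ∧
      pimg g.1 0 = 0 ∧ pimg g.1 5 = 5 := by decide +kernel
  intro g hg
  obtain ⟨hgood, hD, h0, h5⟩ := h g hg
  have hv := valid_of_good hgood
  refine mem_fixList.2 ⟨mem_M12.2 ⟨permOf_mem_M24 hgood, by rw [smul_mset hv, hD]⟩, ?_⟩
  intro b hb
  simp only [List.mem_cons, List.not_mem_nil, or_false] at hb
  rcases hb with rfl | rfl <;> rw [permOf_apply hv, pfun, idx_pt (by norm_num)]
  · rw [h0]
  · rw [h5]

theorem nonempty_iso :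
    Nonempty (fixList Spor.M12 [0, 5] ≃* Matrix.ProjectiveSpecialLinearGroup (Fin 2) (ZMod 11)) := by
  obtain ⟨φ, hφ, hall⟩ := cert.spec gens_mem card_fix_zero_five psl11 psl11_one
    (fun g hg x hx => psl11_op (det_one g (List.mem_append_left _ hg))
      (det_one x (List.mem_append_right _ hx)))
  have hinj : Function.Injective φ := by
    rw [injective_iff_map_eq_one]
    intro h hh
    obtain ⟨x, hx, hxh⟩ := hall h
    obtain ⟨hm, hφx⟩ := hφ x hx
    rw [show (⟨_, hm⟩ : fixList Spor.M12 [0, 5]) = h from Subtype.ext hxh, hh, eq_comm, psl11,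
      QuotientGroup.eq_one_iff, Matrix.SpecialLinearGroup.mem_center_iff] at hφx
    obtain ⟨r, -, hr⟩ := hφx
    rw [coe_sl11 (det_one x (List.mem_append_right _ hx))] at hr
    have e01 := congrFun (congrFun hr 0) 1
    have e10 := congrFun (congrFun hr 1) 0
    have e00 := congrFun (congrFun hr 0) 0
    have e11 := congrFun (congrFun hr 1) 1
    simp [mat11] at e01 e10 e00 e11
    have key : (elts pslList 660).all (fun x => x.1 == idP || !(x.2 / 11 % 11 == 0) ||
        !(x.2 / 121 % 11 == 0) || !(x.2 % 11 == x.2 / 1331 % 11)) = true := by decide +kernel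
    have hk := List.all_eq_true.1 key x hx
    simp only [Bool.or_eq_true, beq_iff_eq, Bool.not_eq_true', beq_eq_false_iff_ne] at hk
    have v01 : x.2 / 11 % 11 = 0 := by
      have := (ZMod.natCast_eq_natCast_iff' (x.2 / 11) 0 11).1 (by simpa using e01.symm)
      simpa using this
    have v10 : x.2 / 121 % 11 = 0 := by
      have := (ZMod.natCast_eq_natCast_iff' (x.2 / 121) 0 11).1 (by simpa using e10.symm)
      simpa using this
    have v00 : x.2 % 11 = x.2 / 1331 % 11 :=
      (ZMod.natCast_eq_natCast_iff' x.2 (x.2 / 1331) 11).1 (e00.symm.trans e11)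
    have hid : x.1 = idP := by
      rcases hk with ((h1 | h2) | h3) | h4
      exacts [h1, absurd v01 h2, absurd v10 h3, absurd v00 h4]
    ext1
    rw [← hxh, hid, permOf_idP]
    rfl
  refine ⟨MulEquiv.ofBijective φ ((Nat.bijective_iff_injective_and_card _).2 ⟨hinj, ?_⟩)⟩
  haveI : Fact (Nat.Prime 11) := ⟨by norm_num⟩
  rw [card_fix_zero_five, PSLCard.card_PSL2_odd (F := ZMod 11) (by rw [Nat.card_zmod]; decide),
    Nat.card_zmod]
  norm_num

end Cfsg.Agent.OuterPointPSL
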