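import Mathlib
import Cfsg.Prelude.Def_Transfer

/-! Counting conjugacy classes of `p`-elements and of `π`-elements. -/

set_option autoImplicit false

namespace Cfsg.Agent.PClassCount

universe u

variable {G : Type u} [Group G] [Finite G] {p : ℕ} [Fact p.Prime]

/-- The classes of `p`-elements. -/
abbrev pClasses (p : ℕ) (G : Type u) [Group G] : Type u :=
  {c : ConjClasses G // ∀ x ∈ c.carrier, ∃ k : ℕ, orderOf x = p ^ k}

omit [Finite G] in
theorem orderOf_conj (g x : G) : orderOf (g * x * g⁻¹) = orderOf x := by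
  simpa using orderOf_injective (MulAut.conj g).toMonoidHom (MulAut.conj g).injective x

/-- The class of an element of a `p`-subgroup. -/
def ofMem (P : Sylow p G) (x : (P : Subgroup G)) : pClasses p G :=
  ⟨ConjClasses.mk (x : G), by
    intro y hy
    obtain ⟨g, rfl⟩ := isConj_iff.mp (ConjClasses.mem_carrier_iff_mk_eq.mp hy |> ConjClasses.mk_eq_mk_iff_isConj.mp).symm
    obtain ⟨k, hk⟩ := IsPGroup.iff_orderOf.mp P.isPGroup' x
    exact ⟨k, by rw [orderOf_conj, Subgroup.orderOf_coe]; exact hk⟩⟩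

theorem ofMem_surjective (P : Sylow p G) : Function.Surjective (ofMem P) := by
  rintro ⟨c, hc⟩
  obtain ⟨x, rfl⟩ := ConjClasses.exists_rep c
  obtain ⟨k, hk⟩ := hc x ConjClasses.mem_carrier_mk
  have hx : IsPGroup p (Subgroup.zpowers x) := IsPGroup.of_card (n := k) (by rw [Nat.card_zpowers, hk])
  obtain ⟨R, hR⟩ := hx.exists_le_sylow
  obtain ⟨g, hg⟩ := MulAction.exists_smul_eq G R P
  have hm : g * x * g⁻¹ ∈ (P : Subgroup G) := by
    rw [← hg, Sylow.coe_subgroup_smul]
    exact ⟨x, hR (Subgroup.mem_zpowers x), rfl⟩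
  exact ⟨⟨_, hm⟩, Subtype.ext (ConjClasses.mk_eq_mk_iff_isConj.mpr (isConj_iff.mpr ⟨g, rfl⟩).symm)⟩

theorem card_le (P : Sylow p G) : Nat.card (pClasses p G) ≤ Nat.card (P : Subgroup G) :=
  Nat.card_le_card_of_surjective _ (ofMem_surjective P)

/-- If all elements outside `F` share their image with another element then the image is small. -/
theorem two_mul_card_le {α β : Type*} [Finite α] (f : α → β) (hf : Function.Surjective f) (F : Set α)
    (h : ∀ x, x ∉ F → ∃ y, y ≠ x ∧ f y = f x) : 2 * Nat.card β ≤ Nat.card α + F.ncard := by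
  classical
  haveI := Fintype.ofFinite α
  haveI : Finite β := Finite.of_surjective f hf
  haveI := Fintype.ofFinite β
  have key : ∀ b : β, 2 ≤ (Finset.univ.filter (fun a => f a = b)).card + ((Finset.univ.filter (fun a => a ∈ F)).filter (fun a => f a = b)).card := by
    intro b
    obtain ⟨a, ha⟩ := hf b
    by_cases haF : a ∈ F
    · have h1 : 0 < (Finset.univ.filter (fun a => f a = b)).card := Finset.card_pos.mpr ⟨a, by simp [ha]⟩
      have h2 : 0 < ((Finset.univ.filter (fun a => a ∈ F)).filter (fun a => f a = b)).card := Finset.card_pos.mpr ⟨a, by simp [ha, haF]⟩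
      omega
    · obtain ⟨y, hy, hy'⟩ := h a haF
      have h1 : 1 < (Finset.univ.filter (fun a => f a = b)).card :=
        Finset.one_lt_card.mpr ⟨a, by simp [ha], y, by simp [hy', ha], hy.symm⟩
      omega
  have := Finset.sum_le_sum (s := (Finset.univ : Finset β)) (fun b _ => key b)
  rw [Finset.sum_const, smul_eq_mul, Finset.card_univ, Finset.sum_add_distrib,
    ← Finset.card_eq_sum_card_fiberwise (fun a _ => Finset.mem_univ (f a)),
    ← Finset.card_eq_sum_card_fiberwise (fun a _ => Finset.mem_univ (f a)), Finset.card_univ] at this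
  rw [Set.ncard_eq_toFinset_card', Nat.card_eq_fintype_card, Nat.card_eq_fintype_card]
  have e : F.toFinset = Finset.univ.filter (fun a => a ∈ F) := by ext a; simp
  rw [e]; omega

omit [Fact p.Prime] [Finite G] in
theorem mul_card_lt_of_ne_top {P : Type*} [Group P] [Finite P] {p : ℕ} [Fact p.Prime] (hP : IsPGroup p P) {Z : Subgroup P}
    (hZ : Z ≠ ⊤) : p * Nat.card Z ≤ Nat.card P := by
  obtain ⟨n, hn⟩ := hP.index Z
  rw [← Z.index_mul_card, hn]
  refine Nat.mul_le_mul_right _ (Nat.le_self_pow ?_ p)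
  rintro rfl
  exact hZ (Subgroup.index_eq_one.mp (by simpa using hn))

/-- Without abelian Sylow and normal complement there are few classes of `p`-elements. -/
theorem two_mul_mul_card_le (P : Sylow p G)
    (h : ¬ (Cfsg.HasNormalPComplement p G ∧ IsMulCommutative (P : Subgroup G))) :
    2 * p * Nat.card (pClasses p G) ≤ (p + 1) * Nat.card (P : Subgroup G) := by
  have main : ∀ Z : Subgroup (P : Subgroup G), Z ≠ ⊤ →
      (∀ x, x ∉ Z → ∃ y, y ≠ x ∧ ofMem P y = ofMem P x) →
      2 * p * Nat.card (pClasses p G) ≤ (p + 1) * Nat.card (P : Subgroup G) := by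
    intro Z hZ hx
    have h1 := two_mul_card_le (ofMem P) (ofMem_surjective P) (Z : Set (P : Subgroup G)) hx
    rw [← Nat.card_coe_set_eq] at h1
    change 2 * _ ≤ _ + Nat.card Z at h1
    have h2 := mul_card_lt_of_ne_top P.isPGroup' hZ
    nlinarith
  by_cases hc : IsMulCommutative (P : Subgroup G)
  · have hn : ¬ Cfsg.HasNormalPComplement p G := fun hh => h ⟨hh, hc⟩
    have hne : ¬ Subgroup.normalizer ((P : Subgroup G) : Set G) ≤ Subgroup.centralizer ((P : Subgroup G) : Set G) :=
      fun hle => hn ⟨P, (MonoidHom.transferSylow P hle).ker, MonoidHom.normal_ker _, MonoidHom.ker_transferSylow_isComplement' P hle⟩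
    obtain ⟨g, hgN, hgC⟩ := SetLike.not_le_iff_exists.mp hne
    refine main ((Subgroup.centralizer ({g} : Set G)).subgroupOf (P : Subgroup G)) (fun ht => hgC ?_) fun x hx => ?_
    · rw [Subgroup.mem_centralizer_iff]
      intro a ha
      exact Subgroup.mem_centralizer_singleton_iff.mp (Subgroup.subgroupOf_eq_top.mp ht ha)
    · refine ⟨⟨g * x * g⁻¹, (Subgroup.mem_normalizer_iff.mp hgN x).mp x.2⟩, fun he => hx ?_,
        Subtype.ext (ConjClasses.mk_eq_mk_iff_isConj.mpr (isConj_iff.mpr ⟨g, rfl⟩).symm)⟩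
      rw [Subgroup.mem_subgroupOf, Subgroup.mem_centralizer_singleton_iff]
      exact (mul_inv_eq_iff_eq_mul.mp (congrArg Subtype.val he)).symm
  · refine main (Subgroup.center (P : Subgroup G)) (fun ht => hc ⟨⟨fun a b => ?_⟩⟩) fun x hx => ?_
    · have hb : b ∈ Subgroup.center (P : Subgroup G) := by rw [ht]; trivial
      exact Subgroup.mem_center_iff.mp hb a
    · rw [Subgroup.mem_center_iff] at hx
      push Not at hx
      obtain ⟨a, ha⟩ := hx
      refine ⟨a * x * a⁻¹, fun he => ha (mul_inv_eq_iff_eq_mul.mp he), Subtype.ext ?_⟩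
      exact ConjClasses.mk_eq_mk_iff_isConj.mpr (isConj_iff.mpr ⟨(a : G), rfl⟩).symm

/-- With a normal complement and an abelian Sylow subgroup there are `|P|` classes. -/
theorem card_eq (P : Sylow p G) (hnp : Cfsg.HasNormalPComplement p G) (hc : IsMulCommutative (P : Subgroup G)) :
    Nat.card (pClasses p G) = Nat.card (P : Subgroup G) := by
  obtain ⟨R, K, hK, hKR⟩ := hnp
  haveI := hK
  have hRP : K.IsComplement' (P : Subgroup G) := by
    refine Subgroup.isComplement'_of_coprime ?_ ?_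
    · rw [P.card_eq_multiplicity, ← R.card_eq_multiplicity]; exact hKR.card_mul
    · rw [P.card_eq_multiplicity, ← hKR.index_eq_card]
      exact Nat.Coprime.pow_right _ (((Fact.out : p.Prime).coprime_iff_not_dvd.mpr R.not_dvd_index).symm)
  refine (Nat.card_eq_of_bijective _ ⟨?_, ofMem_surjective P⟩).symm
  rintro ⟨a, ha⟩ ⟨b, hb⟩ hab
  obtain ⟨g, hg⟩ := isConj_iff.mp (ConjClasses.mk_eq_mk_iff_isConj.mp (congrArg Subtype.val hab))
  have hgm : g ∈ ((K ⊔ (P : Subgroup G) : Subgroup G) : Set G) := by rw [hRP.sup_eq_top]; trivial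
  rw [Subgroup.normal_mul] at hgm
  obtain ⟨k, hk, c, hcP, rfl⟩ := hgm
  simp only at hg
  have h1 : c * a = a * c := congrArg Subtype.val (hc.is_comm.comm ⟨c, hcP⟩ ⟨a, ha⟩)
  have h2 : b * a⁻¹ ∈ K ⊓ (P : Subgroup G) := by
    refine Subgroup.mem_inf.mpr ⟨?_, mul_mem hb (inv_mem ha)⟩
    have e : b * a⁻¹ = k * (a * k⁻¹ * a⁻¹) := by
      rw [← hg]
      calc k * c * a * (k * c)⁻¹ * a⁻¹ = k * (c * a) * c⁻¹ * k⁻¹ * a⁻¹ := by group
        _ = k * (a * c) * c⁻¹ * k⁻¹ * a⁻¹ := by rw [h1]
        _ = _ := by group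
    rw [e]
    exact mul_mem hk (hK.conj_mem _ (inv_mem hk) a)
  rw [disjoint_iff.mp hRP.disjoint, Subgroup.mem_bot, mul_inv_eq_one] at h2
  exact Subtype.ext h2.symm

/-- The classes of `π`-elements. -/
abbrev piClasses (π : Finset ℕ) (G : Type u) [Group G] : Type u :=
  {c : ConjClasses G // ∀ x ∈ c.carrier, ∀ r : ℕ, r.Prime → r ∣ orderOf x → r ∈ π}

omit [Finite G] in
theorem exists_decomp {x : G} (hfin : IsOfFinOrder x) (r : ℕ) (hr : r.Prime) :
    ∃ u w : G, u * w = x ∧ Commute u w ∧ (∃ k, orderOf u = r ^ k) ∧ orderOf w ∣ orderOf x ∧ ¬ r ∣ orderOf w := by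
  set n := orderOf x
  have hn : n ≠ 0 := hfin.orderOf_pos.ne'
  have hco : (r ^ n.factorization r).Coprime (n / r ^ n.factorization r) :=
    Nat.Coprime.pow_left _ ((hr.coprime_iff_not_dvd).mpr (Nat.not_dvd_ordCompl hr hn))
  obtain ⟨i, hi1, hi2⟩ := Nat.chineseRemainder hco 1 0
  obtain ⟨j, hj1, hj2⟩ := Nat.chineseRemainder hco 0 1
  have hsplit : r ^ n.factorization r * (n / r ^ n.factorization r) = n := Nat.ordProj_mul_ordCompl_eq_self n r
  refine ⟨x ^ i, x ^ j, ?_, Commute.pow_pow_self x i j, ?_, orderOf_pow_dvd j, ?_⟩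
  · rw [← pow_add]
    conv_rhs => rw [← pow_one x]
    rw [pow_eq_pow_iff_modEq]
    change i + j ≡ 1 [MOD n]
    rw [← hsplit]
    exact (Nat.modEq_and_modEq_iff_modEq_mul hco).mp ⟨by simpa using hi1.add hj1, by simpa using hi2.add hj2⟩
  · obtain ⟨k, -, hk⟩ := (Nat.dvd_prime_pow hr).mp
      (show orderOf (x ^ i) ∣ r ^ n.factorization r from orderOf_dvd_of_pow_eq_one (by
    rw [← pow_mul]
    apply orderOf_dvd_iff_pow_eq_one.mp
    change n ∣ _
    conv_lhs => rw [← hsplit]
    rw [Nat.mul_comm i]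
    exact Nat.mul_dvd_mul_left _ (Nat.modEq_zero_iff_dvd.mp hi2)))
    exact ⟨k, hk⟩
  · intro hd
    refine Nat.not_dvd_ordCompl hr hn (hd.trans (orderOf_dvd_of_pow_eq_one ?_))
    rw [← pow_mul]
    apply orderOf_dvd_iff_pow_eq_one.mp
    change n ∣ _
    conv_lhs => rw [← hsplit]
    exact Nat.mul_dvd_mul_right (Nat.modEq_zero_iff_dvd.mp hj1) _

/-- Splitting off the prime `r`. -/
theorem card_insert_le {r : ℕ} [Fact r.Prime] (π : Finset ℕ) (B : ℕ)
    (hB : ∀ z : G, Nat.card (piClasses π (Subgroup.centralizer ({z} : Set G))) ≤ B) :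
    Nat.card (piClasses (insert r π) G) ≤ Nat.card (pClasses r G) * B := by
  classical
  let rep : pClasses r G → G := fun c => (ConjClasses.exists_rep c.1).choose
  have hrep : ∀ c, ConjClasses.mk (rep c) = c.1 := fun c => (ConjClasses.exists_rep c.1).choose_spec
  let S := Σ c : pClasses r G, piClasses π (Subgroup.centralizer ({rep c} : Set G))
  let f : S → ConjClasses G := fun s =>
    ConjClasses.mk (rep s.1 * ((ConjClasses.exists_rep s.2.1).choose : G))
  have hsub : ∀ c : piClasses (insert r π) G, ∃ s, f s = c.1 := by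
    rintro ⟨c, hc⟩
    obtain ⟨x, rfl⟩ := ConjClasses.exists_rep c
    obtain ⟨u, w, huw, hcomm, ⟨k, hk⟩, hwx, hrw⟩ := exists_decomp (isOfFinOrder_of_finite x) r (Fact.out)
    let c₁ : pClasses r G := ⟨ConjClasses.mk u, by
      intro y hy
      obtain ⟨g, rfl⟩ := isConj_iff.mp (ConjClasses.mk_eq_mk_iff_isConj.mp (ConjClasses.mem_carrier_iff_mk_eq.mp hy)).symm
      exact ⟨k, by rw [orderOf_conj, hk]⟩⟩
    obtain ⟨g, hg⟩ := isConj_iff.mp (ConjClasses.mk_eq_mk_iff_isConj.mp (hrep c₁)).symm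
    have hwm : g * w * g⁻¹ ∈ Subgroup.centralizer ({rep c₁} : Set G) := by
      rw [Subgroup.mem_centralizer_singleton_iff, ← hg]
      calc g * w * g⁻¹ * (g * u * g⁻¹) = g * (w * u) * g⁻¹ := by group
        _ = g * (u * w) * g⁻¹ := by rw [hcomm.eq]
        _ = _ := by group
    let d : piClasses π (Subgroup.centralizer ({rep c₁} : Set G)) := ⟨ConjClasses.mk ⟨_, hwm⟩, by
      intro y hy s hs hsd
      obtain ⟨h, rfl⟩ := isConj_iff.mp (ConjClasses.mk_eq_mk_iff_isConj.mp (ConjClasses.mem_carrier_iff_mk_eq.mp hy)).symm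
      rw [orderOf_conj, ← Subgroup.orderOf_coe, orderOf_conj] at hsd
      rcases Finset.mem_insert.mp (hc x ConjClasses.mem_carrier_mk s hs (hsd.trans hwx)) with rfl | h'
      · exact absurd hsd hrw
      · exact h'⟩
    refine ⟨⟨c₁, d⟩, ?_⟩
    obtain ⟨h, hh⟩ := isConj_iff.mp (ConjClasses.mk_eq_mk_iff_isConj.mp (ConjClasses.exists_rep d.1).choose_spec).symm
    have hh' : (h : G) * (g * w * g⁻¹) * (h : G)⁻¹ = ((ConjClasses.exists_rep d.1).choose : G) := by
      have := congrArg Subtype.val hh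
      simpa using this
    refine ConjClasses.mk_eq_mk_iff_isConj.mpr (isConj_iff.mpr ⟨(h : G) * g, ?_⟩).symm
    change (h : G) * g * x * ((h : G) * g)⁻¹ = rep c₁ * ((ConjClasses.exists_rep d.1).choose : G)
    have hcz : (h : G) * rep c₁ * (h : G)⁻¹ = rep c₁ := by
      rw [mul_inv_eq_iff_eq_mul]; exact Subgroup.mem_centralizer_singleton_iff.mp h.2
    rw [← huw, ← hh']
    calc (h : G) * g * (u * w) * ((h : G) * g)⁻¹
        = ((h : G) * (g * u * g⁻¹) * (h : G)⁻¹) * ((h : G) * (g * w * g⁻¹) * (h : G)⁻¹) := by group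
      _ = _ := by rw [hg, hcz]
  haveI := Fintype.ofFinite (pClasses r G)
  calc Nat.card (piClasses (insert r π) G) ≤ Nat.card S :=
        Nat.card_le_card_of_injective (fun c => (hsub c).choose) (fun a b hab => Subtype.ext (by
          simp only at hab
          rw [← (hsub a).choose_spec, ← (hsub b).choose_spec, hab]))
    _ ≤ Nat.card (pClasses r G) * B := by
        rw [Nat.card_sigma, Nat.card_eq_fintype_card (α := pClasses r G), ← Finset.card_univ, ← smul_eq_mul]
        exact Finset.sum_le_card_nsmul _ _ _ (fun c _ => hB (rep c))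

theorem prod_pos (π : Finset ℕ) (hπ : ∀ r ∈ π, r.Prime) (n : ℕ) : 0 < ∏ r ∈ π, r ^ n.factorization r :=
  Finset.prod_pos fun r hr => Nat.pow_pos (hπ r hr).pos

/-- There are at most `|G|_π` classes of `π`-elements. -/
theorem card_piClasses_le (π : Finset ℕ) (hπ : ∀ r ∈ π, r.Prime) :
    ∀ (G : Type u) [Group G] [Finite G],
      Nat.card (piClasses π G) ≤ ∏ r ∈ π, r ^ (Nat.card G).factorization r := by
  induction π using Finset.induction_on with
  | empty =>
    intro G _ _
    rw [Finset.prod_empty]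
    have : Subsingleton (piClasses (∅ : Finset ℕ) G) := by
      constructor
      intro a b
      apply Subtype.ext
      have key : ∀ c : piClasses (∅ : Finset ℕ) G, c.1 = ConjClasses.mk 1 := by
        rintro ⟨c, hc⟩
        obtain ⟨x, rfl⟩ := ConjClasses.exists_rep c
        by_contra hx
        obtain ⟨s, hs, hsd⟩ := Nat.exists_prime_and_dvd (mt orderOf_eq_one_iff.mp (fun h => hx (h ▸ rfl)))
        exact absurd (hc x ConjClasses.mem_carrier_mk s hs hsd) (Finset.notMem_empty s)
      rw [key a, key b]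
    exact Finite.card_le_one_iff_subsingleton.mpr this
  | @insert r π hr ih =>
    intro G _ _
    haveI := Fact.mk (hπ r (Finset.mem_insert_self r π))
    have hπ' : ∀ s ∈ π, s.Prime := fun s hs => hπ s (Finset.mem_insert_of_mem hs)
    refine (card_insert_le π (∏ s ∈ π, s ^ (Nat.card G).factorization s) fun z => ?_).trans ?_
    · refine (ih hπ' _).trans (Nat.le_of_dvd (prod_pos π hπ' _) (Finset.prod_dvd_prod_of_dvd _ _ fun s _ => ?_))
      exact pow_dvd_pow s ((Nat.factorization_le_iff_dvd Nat.card_pos.ne' Nat.card_pos.ne').mpr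
        (Subgroup.card_subgroup_dvd_card _) s)
    · rw [Finset.prod_insert hr]
      obtain ⟨P⟩ : Nonempty (Sylow r G) := inferInstance
      exact Nat.mul_le_mul_right _ ((card_le P).trans P.card_eq_multiplicity.le)

end Cfsg.Agent.PClassCount
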