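import Cfsg.Agent.Lib.PF6Glue43
import Cfsg.Agent.Lib.PFConstMod43
import Cfsg.Agent.Lib.CharInducedTI
import Cfsg.Agent.Lib.FourCoherence

/-!
Sibley coherence for nilpotent TI kernels.
-/

set_option autoImplicit false
set_option linter.unusedSectionVars false
set_option linter.style.haveILetI false

open scoped ComplexConjugate commutatorElement

namespace Cfsg.Agent.PF6

open Cfsg.Agent.CharBasic Cfsg.Agent.CharBasicOrth Cfsg.Agent.CharBasicDecomp Cfsg.Agent.CoherenceBasic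

universe u

variable {G : Type u} [Group G] [Fintype G]

/-- Induction from the normaliser of a TI subgroup is an isometry on the degree zero combinations. -/
theorem ti_setup {K N : Subgroup G} [Fintype N] [(K.subgroupOf N).Normal]
    (hTI : ∀ g : G, g ∉ N → ∀ t ∈ (K : Set G), g * t * g⁻¹ ∈ (K : Set G) → t = 1)
    (hCN : ∀ k ∈ K.subgroupOf N, k ≠ 1 → Subgroup.centralizer ({k} : Set N) ≤ K.subgroupOf N) :
    (∀ φ ∈ Cfsg.inducedIrrAbove (K.subgroupOf N) ⊥, Cfsg.IsIrrCharacter N φ) ∧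
      Cfsg.IsLinearIsometryOn (Cfsg.zspanOn (Cfsg.inducedIrrAbove (K.subgroupOf N) ⊥) {1}ᶜ)
        (fun α => Cfsg.indFun N α) ∧
      (∀ α ∈ Cfsg.zspanOn (Cfsg.inducedIrrAbove (K.subgroupOf N) ⊥) {1}ᶜ,
        (fun α => Cfsg.indFun N α) α 1 = 0) ∧
      Cfsg.inducedIrrAbove (K.subgroupOf N) ⊥ =
        {χ | Cfsg.IsIrrCharacter N χ ∧ ∃ x : N, (x : G) ∈ K ∧ χ x ≠ χ 1} := by
  classical
  set S := Cfsg.inducedIrrAbove (K.subgroupOf N) ⊥ with hS
  have hirr : ∀ φ ∈ S, Cfsg.IsIrrCharacter N φ := fun φ hφ => by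
    obtain ⟨θ, hθ, rfl⟩ := mem_induced.1 hφ
    exact CharInduced.isIrrCharacter_ind_of_centralizer _ hCN θ.2 (mem_aboveFin.1 hθ).1
  have hsupp : ∀ a ∈ Cfsg.zspan S, ∀ x : N, (x : G) ∉ K → a x = 0 := by
    intro a ha
    refine zspan_induction (P := fun a : N → ℂ => ∀ x : N, (x : G) ∉ K → a x = 0)
      ?_ (fun x _ => rfl) ?_ ?_ ha
    · intro φ hφ x hx
      obtain ⟨θ, -, rfl⟩ := mem_induced.1 hφ
      exact CharInduced.ind_normal_eq_zero (K.subgroupOf N) _ hx
    · intro a b _ _ ha hb x hx; simp [ha x hx, hb x hx]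
    · intro n a _ ha x hx; simp [ha x hx]
  have hgen : ∀ a ∈ Cfsg.zspan S, Cfsg.IsGeneralizedCharacter N a := fun a ha =>
    isClassFunction_zspan (fun φ hφ => isCharacter_of_isIrrCharacter (hirr φ hφ)) ha
  refine ⟨hirr, ⟨fun a _ b _ => CharInduced.ind_add N a b, fun a _ n => ?_, fun a ha b hb => ?_, fun a ha =>
      CharInduced.isGenChar_ind N (hgen a ha.1)⟩, fun a ha => ?_, ?_⟩
  · show Cfsg.indFun N (n • a) = n • Cfsg.indFun N a
    rw [← Int.cast_smul_eq_zsmul ℂ, ← Int.cast_smul_eq_zsmul ℂ, CharInduced.ind_smul]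
  · exact CharInduced.classInner_ind_of_ti _ N hTI a b
      (isClassFunction_of_isGeneralizedCharacter (hgen b hb.1))
      (fun x hx => hsupp a ha.1 x hx) (fun x hx => hsupp b hb.1 x hx) (apply_one_of_mem_zspanOn ha)
  · show Cfsg.indFun N a 1 = 0
    rw [CharInduced.ind_one_apply, apply_one_of_mem_zspanOn ha, mul_zero]
  · have h := diff_eq_irr (K := K.subgroupOf N) (Z := K.subgroupOf N) le_rfl (fun χ hχ => hirr χ hχ.1)
    rw [induced_self_empty, Set.sdiff_empty] at h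
    exact h

theorem centralizer_subgroupOf {K N : Subgroup G}
    (hC : ∀ k ∈ K, k ≠ 1 → Subgroup.centralizer ({k} : Set G) ≤ K) :
    ∀ k ∈ K.subgroupOf N, k ≠ 1 → Subgroup.centralizer ({k} : Set N) ≤ K.subgroupOf N := fun k hk hk1 g hg =>
  hC (k : G) hk (fun e => hk1 (Subtype.ext e)) (Subgroup.mem_centralizer_singleton_iff.2
    (congrArg Subtype.val (Subgroup.mem_centralizer_singleton_iff.1 hg)))

/-- An element of order two cannot normalise a non-abelian fixed-point-free subgroup. -/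
theorem odd_of_nonabelian {L : Type u} [Group L] [Finite L] (K : Subgroup L) [K.Normal] {p : ℕ}
    [Fact p.Prime] (hp : p ≠ 2) (hKp : IsPGroup p K) (hna : ¬ IsMulCommutative K)
    (hC : ∀ k ∈ K, k ≠ 1 → Subgroup.centralizer ({k} : Set L) ≤ K) : Odd (Nat.card L) := by
  by_contra hev
  obtain ⟨t, ht⟩ := exists_prime_orderOf_dvd_card' 2 (even_iff_two_dvd.1 (Nat.not_odd_iff_even.1 hev))
  have htK : t ∉ K := fun h => by
    obtain ⟨k, hk⟩ := IsPGroup.iff_orderOf.1 hKp ⟨t, h⟩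
    rw [Subgroup.orderOf_mk, ht] at hk
    exact hp ((Nat.prime_dvd_prime_iff_eq Nat.prime_two Fact.out).1
      (Nat.prime_two.dvd_of_dvd_pow (dvd_of_eq hk))).symm
  have htt : t * t = 1 := by rw [← sq, ← ht, pow_orderOf_eq_one]
  have hfp : MonoidHom.FixedPointFree (MulAut.conjNormal t : MulAut K).toMonoidHom := by
    intro k hk
    by_contra hk1
    refine htK (hC k k.2 (fun e => hk1 (Subtype.ext e)) (Subgroup.mem_centralizer_singleton_iff.2 ?_))
    have h := congrArg Subtype.val hk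
    change ((MulAut.conjNormal t k : K) : L) = k at h
    rw [MulAut.conjNormal_apply] at h
    exact mul_inv_eq_iff_eq_mul.1 h
  have hinv : Function.Involutive (MulAut.conjNormal t : MulAut K).toMonoidHom := fun k => by
    show MulAut.conjNormal t (MulAut.conjNormal t k) = k
    rw [← MulAut.mul_apply, ← map_mul, htt, map_one, MulAut.one_apply]
  exact hna ⟨⟨fun a b => (hfp.commute_all_of_involutive hinv a b).eq⟩⟩

set_option maxHeartbeats 1600000 in
/-- Sibley's coherence theorem for a non-abelian Sylow TI kernel of odd order. -/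
theorem sibley_core {p : ℕ} [Fact p.Prime] (hp : p ≠ 2) (P : Sylow p G)
    (hna : ¬ IsMulCommutative (P : Subgroup G)) (hTI : Cfsg.IsTISubset ((P : Subgroup G) : Set G))
    (hC : ∀ k ∈ (P : Subgroup G), k ≠ 1 → Subgroup.centralizer ({k} : Set G) ≤ (P : Subgroup G))
    (N : Subgroup G) [Fintype N] (hN : Subgroup.normalizer ((P : Subgroup G) : Set G) = N) :
    Cfsg.IsCoherent (Cfsg.inducedIrrAbove ((P : Subgroup G).subgroupOf N) ⊥) {1}ᶜ
      (fun α => Cfsg.indFun N α) := by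
  classical
  have hPN : (P : Subgroup G) ≤ N := hN ▸ Subgroup.le_normalizer
  set K := (P : Subgroup G).subgroupOf N with hK
  haveI : K.Normal := Subgroup.normal_subgroupOf_of_le_normalizer hN.ge
  have hCN := centralizer_subgroupOf (N := N) hC
  obtain ⟨hirr, hτ, hτ1, hSeq⟩ := ti_setup (K := (P : Subgroup G)) (N := N) (fun g hg => hTI g (hN.symm ▸ hg)) hCN
  rw [← hK] at hirr hτ hτ1 hSeq hCN
  set S := Cfsg.inducedIrrAbove K ⊥ with hSdef
  have hKcard : Nat.card K = Nat.card (P : Subgroup G) := Nat.card_congr (Subgroup.subgroupOfEquivOfLe hPN).toEquiv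
  have hKp : IsPGroup p ↥K := P.2.of_equiv (Subgroup.subgroupOfEquivOfLe hPN).symm
  have hnaK : ¬ IsMulCommutative K := fun h => hna ⟨⟨fun a b => Subtype.ext (congrArg
    (fun x : K => ((x : N) : G)) (h.is_comm.comm ⟨⟨a, hPN a.2⟩, a.2⟩ ⟨⟨b, hPN b.2⟩, b.2⟩))⟩⟩
  have hodd : Odd (Nat.card N) := odd_of_nonabelian K hp hKp hnaK hCN
  have hKne : K ≠ ⊥ := fun h => hnaK ⟨⟨fun a b => by
    have ha := a.2; have hb := b.2
    simp only [h, Subgroup.mem_bot] at ha hb
    exact Subtype.ext (by simp [ha, hb])⟩⟩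
  haveI hnil : Group.IsNilpotent K := hKp.isNilpotent
  have hsolv : Group.IsSolvable K := inferInstance
  have hp3 : 3 ≤ p := by have := (Fact.out : p.Prime).two_le; omega
  have hcop : K.index.Coprime p := by
    rw [Nat.coprime_comm, Nat.Prime.coprime_iff_not_dvd Fact.out]
    exact fun h => P.not_dvd_index (h.trans (Subgroup.relIndex_dvd_index_of_le hPN))
  set e := K.index with he
  have hepos : 0 < e := Nat.pos_of_ne_zero Subgroup.index_ne_zero_of_finite
  -- the central subgroup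
  set D := ⁅K, K⁆ with hD
  have hDK : D ≤ K := Subgroup.commutator_le.2 fun a ha b hb => by
    rw [commutatorElement_def]
    exact mul_mem (mul_mem (mul_mem ha hb) (inv_mem ha)) (inv_mem hb)
  set Z := Subgroup.centralizer (K : Set N) ⊓ D with hZ
  have hZK : Z ≤ K := inf_le_right.trans hDK
  have hZc : ∀ z ∈ Z, ∀ k ∈ K, z * k = k * z := fun z hz k hk => (hz.1 k hk).symm
  have hZne : Z ≠ ⊥ := by
    intro hbot
    have hD' : D.subgroupOf K ≠ ⊥ := by
      intro h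
      refine hnaK ⟨⟨fun a b => commutatorElement_eq_one_iff_mul_comm.1 ?_⟩⟩
      have hm : ⁅a, b⁆ ∈ D.subgroupOf K := Subgroup.commutator_mem_commutator a.2 b.2
      rwa [h, Subgroup.mem_bot] at hm
    obtain ⟨x, hx, hx1, hxc⟩ := center_meets (D.subgroupOf K) hD'
    have : (x : N) ∈ Z := ⟨fun k hk => (congrArg Subtype.val (hxc ⟨k, hk⟩)).symm, hx⟩
    rw [hbot, Subgroup.mem_bot] at this
    exact hx1 (Subtype.ext this)
  have hDlt : D < K := by
    refine lt_of_le_of_ne hDK fun h => ?_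
    obtain ⟨n, hn⟩ := Group.IsNilpotent.nilpotent (G := K)
    haveI : Nontrivial K := (Subgroup.nontrivial_iff_ne_bot K).2 hKne
    refine (Group.IsSolvable.commutator_lt_top_of_nontrivial K).ne ?_
    apply Subgroup.map_injective K.subtype_injective
    rw [Subgroup.map_subtype_commutator, ← hD, h, ← MonoidHom.range_eq_map, Subgroup.range_subtype]
  -- the degrees
  have hnm : ∀ φ ∈ S, nm φ = 1 := fun φ hφ =>
    nm_of_eq (by rw [classInner_irr_self (hirr φ hφ), Nat.cast_one])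
  have hdeg1 : ∀ φ ∈ S, φ 1 = (Cfsg.charDegree φ : ℂ) := fun φ hφ =>
    deg_spec (isCharacter_of_isIrrCharacter (hirr φ hφ))
  have hsumsq : ∀ T : Finset (Cfsg.IrrCharacter K), T ⊆ aboveFin K (⊥ : Subgroup N) →
      (∀ θ ∈ T, ∀ θ' : Cfsg.IrrCharacter K, ind K θ' = ind K θ → θ' ∈ T) →
      ∑ φ ∈ T.image (ind K), Cfsg.charDegree φ ^ 2 = e * ∑ θ ∈ T, Cfsg.charDegree (θ : K → ℂ) ^ 2 := by
    intro T hT hcl
    have h := sum_sq_div_nm K T hcl
    rw [Finset.sum_congr rfl (g := fun φ : N → ℂ => (Cfsg.charDegree φ : ℝ) ^ 2) (fun φ hφ => by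
      obtain ⟨θ, hθ, rfl⟩ := Finset.mem_image.1 hφ
      rw [hnm _ (mem_induced.2 ⟨θ, hT hθ, rfl⟩), Nat.cast_one, div_one])] at h
    exact_mod_cast h
  -- the set X
  set W := aboveFin K (⊥ : Subgroup N) \ aboveFin K Z with hW
  set X := W.image (ind K) with hXdef
  have hXset : (↑X : Set (N → ℂ)) = S \ Cfsg.inducedIrrAbove K Z := by
    ext φ
    simp only [hXdef, hW, Finset.coe_image, Set.mem_image, Finset.mem_coe, Finset.mem_sdiff,
      hSdef, mem_induced_diff, and_assoc]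
  have hirrX : ∀ φ ∈ S \ Cfsg.inducedIrrAbove K Z, Cfsg.IsIrrCharacter N φ := fun φ hφ => hirr φ hφ.1
  have hXirr := diff_eq_irr hZK hirrX
  have hSc : ∀ φ ∈ S, Cfsg.conjFun φ ∈ S := fun φ hφ => induced_conj hφ
  have hXc : ∀ φ ∈ S \ Cfsg.inducedIrrAbove K Z, Cfsg.conjFun φ ∈ S \ Cfsg.inducedIrrAbove K Z :=
    fun φ hφ => ⟨induced_conj hφ.1, fun h => hφ.2 (by simpa [conjFun_conjFun] using induced_conj h)⟩
  have hreal : ∀ φ ∈ S, Cfsg.conjFun φ ≠ φ := by
    intro φ hφ hc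
    obtain ⟨-, x, -, hne⟩ := (Set.ext_iff.1 hSeq φ).1 hφ
    have h1 := FourCoherence.eq_one_of_real hodd ⟨φ, hirr φ hφ⟩ (fun x => congrFun hc x)
    simp only at h1
    exact hne (by rw [h1])
  have hDS : Cfsg.inducedIrrAbove K Z ⊆ S := induced_mono bot_le
  have hsubX : S \ Cfsg.inducedIrrAbove K Z ⊆ S := fun _ h => h.1
  have hXcoh : Cfsg.IsCoherent (↑X : Set (N → ℂ)) {1}ᶜ (fun α => Cfsg.indFun N α) := by
    rw [hXset]
    refine coherent_central_pGroup hp3 hKp hcop hZK hZne hZc hirrX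
      (extends_irr hirrX hXc (iso_mono hsubX hτ) (fun a ha => hτ1 a (zspanOn_mono hsubX ha))) ?_
    intro S₀ hne hsub hc hdeg _
    obtain ⟨χ, hχ⟩ := hne
    exact coherent_irr_constant (fun φ hφ => hirrX φ (hsub hφ))
      ⟨_, hc χ hχ, χ, hχ, hreal χ (hsubX (hsub hχ))⟩ hdeg
      (iso_mono (hsub.trans hsubX) hτ) (fun a ha => hτ1 a (zspanOn_mono (hsub.trans hsubX) ha))
  -- the set Y
  set Y := (aboveFin K D).image (ind K) with hYdef
  have hYset : (↑Y : Set (N → ℂ)) = Cfsg.inducedIrrAbove K D := coe_image_aboveFin D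
  have hYS : (↑Y : Set (N → ℂ)) ⊆ S := hYset ▸ induced_mono bot_le
  have hYe : ∀ η ∈ Y, η 1 = (e : ℂ) := by
    intro η hη
    obtain ⟨θ, hθ, rfl⟩ := Finset.mem_image.1 hη
    rw [ind_apply_one, deg_one_of_commutator_le le_rfl hDK hθ, mul_one]
  have hYc : ∀ η ∈ Y, Cfsg.conjFun η ∈ Y := fun η hη => by
    rw [← Finset.mem_coe, hYset] at hη ⊢; exact induced_conj hη
  obtain ⟨θ₀, hθ₀, -⟩ := exists_linear K hsolv hDlt
  have hη₀ : ind K θ₀ ∈ Y := Finset.mem_image_of_mem _ hθ₀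
  set η₀ := ind K θ₀ with hη₀def
  have hY2 : 1 < Y.card := Finset.one_lt_card.2 ⟨_, hYc η₀ hη₀, η₀, hη₀, hreal η₀ (hYS hη₀)⟩
  have hYcoh : Cfsg.IsCoherent (↑Y : Set (N → ℂ)) {1}ᶜ (fun α => Cfsg.indFun N α) :=
    coherent_irr_constant (fun φ hφ => hirr φ (hYS hφ)) ⟨_, hYc η₀ hη₀, η₀, hη₀, hreal η₀ (hYS hη₀)⟩
      (fun φ hφ ψ hψ => (hYe φ hφ).trans (hYe ψ hψ).symm) (iso_mono hYS hτ)
      (fun a ha => hτ1 a (zspanOn_mono hYS ha))
  have hXS : (↑X : Set (N → ℂ)) ⊆ S := hXset ▸ hsubX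
  have hd : Disjoint X Y := Finset.disjoint_left.2 fun φ hX hY => by
    have h1 : φ ∈ S \ Cfsg.inducedIrrAbove K Z := hXset ▸ Finset.mem_coe.2 hX
    have h2 : φ ∈ Cfsg.inducedIrrAbove K D := hYset ▸ Finset.mem_coe.2 hY
    exact h1.2 (induced_mono inf_le_right h2)
  have hXne : X.Nonempty := by
    obtain ⟨⟨a, ha, ha0⟩, -⟩ := hXcoh
    rcases X.eq_empty_or_nonempty with h | h
    · exfalso
      refine ha0 ?_
      refine zspan_induction (P := fun a : N → ℂ => a = 0) (fun φ hφ => ?_) rfl ?_ ?_ ha.1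
      · simp [h] at hφ
      · intro a b _ _ ha hb; rw [ha, hb, add_zero]
      · intro n a _ ha; rw [ha, smul_zero]
    · exact h
  obtain ⟨χ₁, hχ₁, hmin⟩ := X.exists_min_image Cfsg.charDegree hXne
  have hX2 : 1 < X.card := Finset.one_lt_card.2 ⟨_, Finset.mem_coe.1 (hXset ▸ hXc χ₁ (hXset ▸ Finset.mem_coe.2 hχ₁)),
    χ₁, hχ₁, hreal χ₁ (hXS hχ₁)⟩
  obtain ⟨θ₁, hθ₁, hχ₁eq⟩ := Finset.mem_image.1 hχ₁
  set a := Cfsg.charDegree (θ₁ : K → ℂ) with hadef
  have hχ₁deg : χ₁ 1 = ((e * a : ℕ) : ℂ) := by rw [← hχ₁eq, ind_apply_one]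
  have hχ₁d : Cfsg.charDegree χ₁ = e * a := by rw [← hχ₁eq, deg_ind]
  have hapos : 0 < a := deg_pos θ₁.2
  obtain ⟨nP, hnP⟩ := hKp.exists_card_eq
  have hdvdX : ∀ χ ∈ X, Cfsg.charDegree χ₁ ∣ Cfsg.charDegree χ := by
    intro χ hχ
    have hle := hmin χ hχ
    obtain ⟨θ, -, rfl⟩ := Finset.mem_image.1 hχ
    rw [hχ₁d, deg_ind] at hle ⊢
    obtain ⟨i, -, hi⟩ := (Nat.dvd_prime_pow Fact.out).1 (hnP ▸ CharAverage.charDegree_dvd_card θ₁)
    obtain ⟨j, -, hj⟩ := (Nat.dvd_prime_pow Fact.out).1 (hnP ▸ CharAverage.charDegree_dvd_card θ)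
    refine Nat.mul_dvd_mul_left _ ?_
    rw [hadef, hi, hj]
    rw [hadef, hi, hj] at hle
    exact Nat.pow_dvd_pow p ((Nat.pow_le_pow_iff_right (show 1 < p by omega)).1
      (Nat.le_of_mul_le_mul_left hle hepos))
  set m : (N → ℂ) → ℕ := fun χ => Cfsg.charDegree χ / Cfsg.charDegree χ₁ with hmdef
  have hmd : ∀ χ ∈ X, Cfsg.charDegree χ = m χ * (e * a) := fun χ hχ => by
    rw [← hχ₁d]; exact (Nat.div_mul_cancel (hdvdX χ hχ)).symm
  have hm : ∀ χ ∈ X, χ 1 = (m χ : ℂ) * χ₁ 1 := fun χ hχ => by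
    rw [hdeg1 χ (hXS hχ), hmd χ hχ, hχ₁deg, Nat.cast_mul]
  -- numerical bounds
  set r := Z.relIndex K with hr
  have hKr : Nat.card K = Nat.card Z * r := by
    rw [hr, ← Subgroup.relIndex_bot_left K, ← Subgroup.relIndex_bot_left Z,
      Subgroup.relIndex_mul_relIndex ⊥ Z K bot_le hZK]
  have hrpos : 0 < r := Nat.pos_of_ne_zero Subgroup.index_ne_zero_of_finite
  have hZ1 : 1 < Nat.card Z := (Subgroup.one_lt_card_iff_ne_bot Z).2 hZne
  have hZbig : 2 * e + 1 ≤ Nat.card Z := by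
    obtain ⟨t, ht⟩ := index_dvd_card_sub_one K Z hZK hCN
    rw [← he] at ht
    have hZodd : Odd (Nat.card Z) := hodd.of_dvd_nat (Subgroup.card_subgroup_dvd_card Z)
    have heodd : Odd e := hodd.of_dvd_nat (Subgroup.index_dvd_card K)
    have ht0 : t ≠ 0 := fun h => by rw [h, mul_zero] at ht; omega
    have ht1 : t ≠ 1 := fun h => by
      rw [h, mul_one] at ht
      obtain ⟨i, hi⟩ := hZodd
      obtain ⟨j, hj⟩ := heodd
      omega
    have : e * 2 ≤ e * t := Nat.mul_le_mul_left e (by omega)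
    omega
  have hdb : ∀ θ ∈ aboveFin K (⊥ : Subgroup N), Cfsg.charDegree (θ : K → ℂ) ^ 2 ≤ r := by
    intro θ hθ
    have h := deg_bound (θ := θ) (B := ⊥) (C := K) (D := Z) bot_le hZK le_rfl
      (fun x hx y hy => by rw [Subgroup.mem_bot, hZc x hx y hy]; group) (mem_aboveFin.1 hθ).2
    refine Nat.le_of_mul_le_mul_right (c := Nat.card K * Nat.card Z) ?_
      (Nat.mul_pos Nat.card_pos Nat.card_pos)
    calc _ ≤ Nat.card K ^ 2 := h
      _ = r * (Nat.card K * Nat.card Z) := by rw [hKr]; ring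
  have hWcl : ∀ θ ∈ W, ∀ θ' : Cfsg.IrrCharacter K, ind K θ' = ind K θ → θ' ∈ W := by
    intro θ hθ θ' h
    simp only [hW, Finset.mem_sdiff] at hθ ⊢
    exact ⟨above_closed hθ.1 h, fun h' => hθ.2 (above_closed h' h.symm)⟩
  have hsumX : ∑ φ ∈ X, Cfsg.charDegree φ ^ 2 = e * (r * (Nat.card Z - 1)) := by
    rw [hXdef, hsumsq W Finset.sdiff_subset hWcl]
    congr 1
    have h1 := sum_sq_above (K := K) (A := (⊥ : Subgroup N))
    have h2 := sum_sq_above (K := K) (A := Z)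
    have h3 := Finset.sum_sdiff (f := fun θ : Cfsg.IrrCharacter K => Cfsg.charDegree (θ : K → ℂ) ^ 2)
      (above_mono (K := K) (bot_le : (⊥ : Subgroup N) ≤ Z))
    rw [Subgroup.relIndex_bot_left, hKr, ← h3] at h1
    rw [← hr] at h2
    rw [← hW] at h1
    zify [hZ1.le] at h1 h2 ⊢
    linear_combination h1 - h2
  have hM : 2 ≤ ∑ χ ∈ X, m χ ^ 2 := by
    have h : (∑ χ ∈ X, m χ ^ 2) * ((e * a) * (e * a)) = e * (r * (Nat.card Z - 1)) := by
      rw [← hsumX, Finset.sum_mul]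
      exact Finset.sum_congr rfl fun χ hχ => by rw [hmd χ hχ]; ring
    have h1 : a ^ 2 ≤ r := hdb θ₁ (Finset.mem_sdiff.1 hθ₁).1
    have h2 : 2 * ((e * a) * (e * a)) ≤ e * (r * (Nat.card Z - 1)) :=
      calc 2 * ((e * a) * (e * a)) = e * (a ^ 2 * (2 * e)) := by ring
        _ ≤ e * (r * (Nat.card Z - 1)) := Nat.mul_le_mul_left e (Nat.mul_le_mul h1 (by omega))
    exact Nat.le_of_mul_le_mul_right (h ▸ h2) (by positivity)
  -- gluing
  have hXY : (↑(X ∪ Y) : Set (N → ℂ)) ⊆ S := by rw [Finset.coe_union]; exact Set.union_subset hXS hYS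
  obtain ⟨-, v, hv, hvτ⟩ := hXcoh
  obtain ⟨-, w, hw, hwτ⟩ := hYcoh
  have hperp : ∀ χ ∈ X, ∀ η ∈ Y, Cfsg.classInner (v χ) (w η) = 0 :=
    (S1531.union_coherent (S := S) hirr hXS hYS (Finset.disjoint_coe.2 hd)
      (by simpa using Finset.one_lt_card.1 hX2) (by simpa using Finset.one_lt_card.1 hY2)
      hτ hτ1 hv hvτ hw hwτ).1
  set F := w η₀ with hF
  have hFg : Cfsg.IsGeneralizedCharacter G F := hw.2.2.2 η₀ (subset_zspan hη₀)
  have hFcf := isClassFunction_of_isGeneralizedCharacter hFg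
  set R : N → ℂ := fun x => F x with hRdef
  have hRg : Cfsg.IsGeneralizedCharacter N R := isGeneralizedCharacter_comap N.subtype hFg
  obtain ⟨ci, hci⟩ := classInner_isGeneralizedCharacter hRg
    (isGeneralizedCharacter_of_isCharacter (isCharacter_of_isIrrCharacter (hirr χ₁ (hXS hχ₁))))
  obtain ⟨di, hdi⟩ := classInner_isGeneralizedCharacter
    (isGeneralizedCharacter_of_isCharacter (isCharacter_of_isIrrCharacter (hirr η₀ (hYS hη₀)))) hRg
  have hrec : ∀ α : N → ℂ, Cfsg.classInner (Cfsg.indFun N α) F = Cfsg.classInner α R := fun α =>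
    CharInduced.inner_ind_left N α hFcf
  have hci' : Cfsg.classInner χ₁ R = ci := by rw [← conj_classInner, hci, map_intCast]
  have hprop : ∀ χ : Cfsg.IrrCharacter N, (∃ z ∈ Z, (χ : N → ℂ) z ≠ (χ : N → ℂ) 1) →
      χ₁ 1 * Cfsg.classInner R (χ : N → ℂ) = (χ : N → ℂ) 1 * Cfsg.classInner R χ₁ := by
    intro χ hχ
    have hχX : (χ : N → ℂ) ∈ X := by
      rw [← Finset.mem_coe, hXset, hSdef, hXirr]; exact ⟨χ.2, hχ⟩
    set β := (χ : N → ℂ) - (m (χ : N → ℂ) : ℂ) • χ₁ with hβ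
    have hβX : β ∈ Cfsg.zspanOn (↑X : Set (N → ℂ)) {1}ᶜ :=
      mem_zspanOn_one (zspan_sub (subset_zspan hχX) (zspan_natCast_smul _ (subset_zspan hχ₁)))
        (by simp [hβ, hm _ hχX])
    have h1 := hrec β
    rw [← show v β = Cfsg.indFun N β from hvτ β hβX, hβ, span_map_sub hv (subset_zspan hχX) (zspan_natCast_smul _ (subset_zspan hχ₁)),
      span_map_natCast_smul hv _ (subset_zspan hχ₁), classInner_sub_left, classInner_smul_left, hF,
      hperp _ hχX η₀ hη₀, hperp χ₁ hχ₁ η₀ hη₀, classInner_sub_left, classInner_smul_left, hci'] at h1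
    have h2 : Cfsg.classInner (χ : N → ℂ) R = (m (χ : N → ℂ) : ℂ) * ci := by linear_combination -h1
    rw [← conj_classInner, h2, map_mul, map_natCast, map_intCast, hm _ hχX, hci]
    ring
  have hkey : ∀ z : N, z ∈ Z → z ≠ 1 → (a : ℂ) * (F 1 - F z) = (ci : ℂ) * (Nat.card (P : Subgroup G)) := by
    intro z hz hz1
    have h := value_of_proportional (isClassFunction_of_isGeneralizedCharacter hRg) hprop hz hz1
    have hNc : Nat.card N = Nat.card (P : Subgroup G) * e := by rw [← hKcard, he, K.card_mul_index]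
    rw [hci, hχ₁deg, hNc] at h
    simp only [hRdef, OneMemClass.coe_one] at h
    push_cast at h
    have he0 : (e : ℂ) ≠ 0 := Nat.cast_ne_zero.2 hepos.ne'
    apply mul_left_cancel₀ he0
    linear_combination -h
  have hdvd : ∃ k : ℤ, Cfsg.classInner ((fun α => Cfsg.indFun N α) ((a : ℂ) • η₀ - χ₁)) (w η₀) = (a : ℂ) * k := by
    obtain ⟨ψ, s, hs, hψ, hFψ⟩ : ∃ ψ : G → ℂ, ∃ s : ℤ, (s = 1 ∨ s = -1) ∧ Cfsg.IsIrrCharacter G ψ ∧
        F = (s : ℂ) • ψ := by
      rcases si_of_norm_one hFg ((hw.2.2.1 η₀ (subset_zspan hη₀) η₀ (subset_zspan hη₀)).trans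
        (classInner_irr_self (hirr η₀ (hYS hη₀)))) with h | h
      · exact ⟨F, 1, Or.inl rfl, h, by simp⟩
      · exact ⟨-F, -1, Or.inr rfl, h, by simp⟩
    set ZG := Z.map N.subtype with hZG
    have hmemZG : ∀ z ∈ ZG, ∃ z' : N, z' ∈ Z ∧ (z' : G) = z := fun z hz => by
      obtain ⟨z', h1, h2⟩ := Subgroup.mem_map.1 hz; exact ⟨z', h1, h2⟩
    obtain ⟨z₁, hz₁, hz₁1⟩ := Z.bot_or_exists_ne_one.resolve_left hZne
    have hsz : (s : ℂ) * (a : ℂ) ≠ 0 := mul_ne_zero (by rcases hs with rfl | rfl <;> simp)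
      (Nat.cast_ne_zero.2 hapos.ne')
    have hconst : ∀ z ∈ ZG, ∀ z' ∈ ZG, z ≠ 1 → z' ≠ 1 → ψ z = ψ z' := by
      intro z hz z' hz' h1 h1'
      obtain ⟨y, hy, rfl⟩ := hmemZG z hz
      obtain ⟨y', hy', rfl⟩ := hmemZG z' hz'
      have e1 := hkey y hy fun h => h1 (by rw [h]; rfl)
      have e2 := hkey y' hy' fun h => h1' (by rw [h]; rfl)
      rw [hFψ] at e1 e2
      simp only [Pi.smul_apply, smul_eq_mul] at e1 e2
      apply mul_left_cancel₀ hsz
      linear_combination e2 - e1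
    have hNC : ∀ z ∈ ZG, z ≠ 1 → N ⊓ Subgroup.centralizer ({z} : Set G) = (P : Subgroup G) := by
      intro z hz hz1
      obtain ⟨y, hy, rfl⟩ := hmemZG z hz
      exact le_antisymm (inf_le_right.trans (hC _ (hZK hy) hz1)) (le_inf hPN fun x hx =>
        Subgroup.mem_centralizer_singleton_iff.2
          (congrArg Subtype.val (hZc y hy ⟨x, hPN hx⟩ hx)).symm)
    obtain ⟨n, d, hn, hd', t, ht⟩ := PFConstMod.const_congr P hTI (hN.symm ▸ hodd) ZG
      (fun z hz => by obtain ⟨y, hy, rfl⟩ := hmemZG z hz; exact hZK hy)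
      (fun x hx z hz => by
        rw [hN] at hx
        obtain ⟨y, hy, rfl⟩ := hmemZG z hz
        exact Subgroup.mem_map.2 ⟨⟨x, hx⟩ * y * ⟨x, hx⟩⁻¹, (inferInstance : Z.Normal).conj_mem y hy _, rfl⟩)
      (fun z hz y hy => by
        obtain ⟨z', hz', rfl⟩ := hmemZG z hz
        exact congrArg Subtype.val (hZc z' hz' ⟨y, hPN hy⟩ hy))
      (fun z hz z' hz' h1 h1' => by rw [hN, hNC z hz h1, hNC z' hz' h1'])
      ψ hψ hconst (z₁ : G) (Subgroup.mem_map.2 ⟨z₁, hz₁, rfl⟩) (fun h => hz₁1 (Subtype.ext h))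
    have e1 := hkey z₁ hz₁ hz₁1
    rw [hFψ] at e1
    simp only [Pi.smul_apply, smul_eq_mul, hn, hd'] at e1
    have ht' : (d : ℂ) - n = (Nat.card (P : Subgroup G) : ℂ) * t := by exact_mod_cast congrArg (Int.cast : ℤ → ℂ) ht
    have hP0 : (Nat.card (P : Subgroup G) : ℂ) ≠ 0 := Nat.cast_ne_zero.2 Nat.card_pos.ne'
    have hcs : (ci : ℂ) = (a : ℂ) * ((s : ℂ) * t) := by
      apply mul_right_cancel₀ hP0
      linear_combination (s : ℂ) * (a : ℂ) * ht' - e1
    refine ⟨di - s * t, ?_⟩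
    show Cfsg.classInner (Cfsg.indFun N _) F = _
    rw [hrec, classInner_sub_left, classInner_smul_left, hdi, hci', hcs]
    push_cast; ring
  have hcoh := glue (fun φ hφ => hirr φ (hXY hφ)) hd hX2 hY2 (iso_mono hXY hτ)
    (fun θ hθ => hτ1 θ (zspanOn_mono hXY hθ)) v w hv hvτ hw hwτ hχ₁ hη₀ e a m hepos.ne' hYe hχ₁deg hm hM hdvd
  -- the remaining characters
  have hUc : ∀ φ ∈ X ∪ Y, Cfsg.conjFun φ ∈ X ∪ Y := fun φ hφ => by
    rcases Finset.mem_union.1 hφ with h | h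
    · exact Finset.mem_union_left _ (by rw [← Finset.mem_coe, hXset] at h ⊢; exact hXc φ h)
    · exact Finset.mem_union_right _ (hYc φ h)
  obtain ⟨S₁, -, hT, h1S, -, h1⟩ := coherent_grow hSc (extends_irr hirr hSc hτ hτ1) (X ∪ Y) hXY hUc hcoh
    ((aboveFin K (⊥ : Subgroup N)).image (ind K)) (by rw [coe_image_aboveFin]) fun χ hχ _ => by
      obtain ⟨θ, hθ, rfl⟩ := Finset.mem_image.1 hχ
      have hη₀d : Cfsg.charDegree η₀ = e := deg_of_eq (hYe η₀ hη₀)
      refine ⟨η₀, Finset.mem_union_right _ hη₀, ?_, ?_⟩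
      · rw [hη₀d, deg_ind]; exact dvd_mul_right _ _
      · rw [Finset.sum_congr rfl (fun φ hφ => by rw [hnm φ (hXY hφ), Nat.cast_one, div_one]), hη₀d, deg_ind,
          ← he]
        have h2 : 2 * (e * Cfsg.charDegree (θ : K → ℂ)) * e < ∑ φ ∈ X ∪ Y, Cfsg.charDegree φ ^ 2 := by
          rw [Finset.sum_union hd, hsumX]
          have hY : 0 < ∑ φ ∈ Y, Cfsg.charDegree φ ^ 2 :=
            lt_of_lt_of_le (pow_pos (hη₀d ▸ hepos) 2)
              (Finset.single_le_sum (fun φ _ => Nat.zero_le (Cfsg.charDegree φ ^ 2)) hη₀)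
          have : 2 * (e * Cfsg.charDegree (θ : K → ℂ)) * e ≤ e * (r * (Nat.card Z - 1)) :=
            calc 2 * (e * Cfsg.charDegree (θ : K → ℂ)) * e = e * (Cfsg.charDegree (θ : K → ℂ) * (2 * e)) := by ring
              _ ≤ e * (r * (Nat.card Z - 1)) := Nat.mul_le_mul_left e
                  (Nat.mul_le_mul ((Nat.le_self_pow two_ne_zero _).trans (hdb θ hθ)) (by omega))
          omega
        exact_mod_cast h2
  have hS1 : (↑S₁ : Set (N → ℂ)) = S :=
    Set.Subset.antisymm h1S (by rw [hSdef, ← coe_image_aboveFin]; exact Finset.coe_subset.2 hT)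
  rw [hS1] at h1
  exact h1

/-- The kernel of order `e + 1` is elementary abelian and carries a single character. -/
theorem minimal_case {L : Type u} [Group L] [Fintype L] (K : Subgroup L) [K.Normal] (hK1 : K ≠ ⊥)
    (hC : ∀ k ∈ K, k ≠ 1 → Subgroup.centralizer ({k} : Set L) ≤ K) (hcard : Nat.card K = K.index + 1) :
    Nat.card ↥(Cfsg.inducedIrrAbove K ⊥) = 1 ∧ ∃ p : ℕ, p.Prime ∧ Cfsg.IsElementaryAbelian p K := by
  classical
  set e := K.index with he
  have hepos : 0 < e := Nat.pos_of_ne_zero Subgroup.index_ne_zero_of_finite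
  constructor
  · have hirr : ∀ φ ∈ Cfsg.inducedIrrAbove K ⊥, Cfsg.IsIrrCharacter L φ := fun φ hφ => by
      obtain ⟨θ, hθ, rfl⟩ := mem_induced.1 hφ
      exact CharInduced.isIrrCharacter_ind_of_centralizer _ hC θ.2 (mem_aboveFin.1 hθ).1
    set T := aboveFin K (⊥ : Subgroup L) with hT
    have hsq : ∑ θ ∈ T, Cfsg.charDegree (θ : K → ℂ) ^ 2 + 1 = e + 1 := by
      rw [hT, sum_sq_above, Subgroup.relIndex_bot_left, hcard]
    have h := sum_sq_div_nm K T fun θ hθ θ' h => above_closed hθ h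
    rw [Finset.sum_congr rfl (g := fun φ : L → ℂ => (Cfsg.charDegree φ : ℝ) ^ 2) (fun φ hφ => by
      obtain ⟨θ, hθ, rfl⟩ := Finset.mem_image.1 hφ
      rw [nm_of_eq (n := 1) (by rw [classInner_irr_self (hirr _ (mem_induced.2 ⟨θ, hθ, rfl⟩)), Nat.cast_one]),
        Nat.cast_one, div_one]), ← he] at h
    have h' : ∑ φ ∈ T.image (ind K), Cfsg.charDegree φ ^ 2 = e * e := by
      rw [show ∑ θ ∈ T, Cfsg.charDegree (θ : K → ℂ) ^ 2 = e by omega] at h
      exact_mod_cast h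
    have hlow : (T.image (ind K)).card * (e * e) ≤ e * e := by
      refine le_of_le_of_eq ?_ h'
      rw [← smul_eq_mul]
      refine Finset.card_nsmul_le_sum _ _ _ fun φ hφ => ?_
      obtain ⟨θ, -, rfl⟩ := Finset.mem_image.1 hφ
      rw [deg_ind, ← he, ← sq]
      exact Nat.pow_le_pow_left (Nat.le_mul_of_pos_right _ (deg_pos θ.2)) 2
    have hne : T.Nonempty := by
      rcases T.eq_empty_or_nonempty with h0 | h0
      · rw [h0, Finset.sum_empty] at hsq; omega
      · exact h0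
    rw [← coe_image_aboveFin (K := K) (⊥ : Subgroup L), Nat.card_eq_fintype_card]
    simp only [Finset.coe_sort_coe, Fintype.card_coe]
    refine le_antisymm ?_ (hne.image _).card_pos
    exact Nat.le_of_mul_le_mul_right (by rw [one_mul]; exact hlow) (Nat.mul_pos hepos hepos)
  · haveI := Fintype.ofFinite K
    have hcls : ∀ k ∈ K, k ≠ 1 → Subgroup.centralizer ({k} : Set L) = K ∧ ∀ x ∈ K, x ≠ 1 → IsConj k x := by
      intro k hk hk1
      set C := Subgroup.centralizer ({k} : Set L) with hCdef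
      have hsub : PFConstMod.cls k ⊆ (Finset.univ.filter fun x : L => x ∈ K).erase 1 := fun x hx => by
        obtain ⟨c, rfl⟩ := isConj_iff.1 (PFConstMod.mem_cls.1 hx)
        refine Finset.mem_erase.2 ⟨fun h => hk1 ?_, Finset.mem_filter.2 ⟨Finset.mem_univ _, ?_⟩⟩
        · simpa [mul_assoc] using congrArg (fun y => c⁻¹ * y * c) h
        · exact (inferInstance : K.Normal).conj_mem k hk c
      have hcard' : ((Finset.univ.filter fun x : L => x ∈ K).erase 1).card = e := by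
        rw [Finset.card_erase_of_mem (by simp [K.one_mem]), ← Fintype.card_subtype,
          ← Nat.card_eq_fintype_card, show Nat.card {x : L // x ∈ K} = Nat.card K from rfl, hcard,
          Nat.add_sub_cancel]
      have hle := Finset.card_le_card hsub
      rw [hcard', PFConstMod.card_cls, ← hCdef, ← Subgroup.relIndex_mul_index (hC k hk hk1), ← he] at hle
      have hr : C.relIndex K = 1 := by
        have h0 : C.relIndex K ≠ 0 := Subgroup.index_ne_zero_of_finite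
        have : C.relIndex K ≤ 1 := Nat.le_of_mul_le_mul_right (by rw [one_mul]; exact hle) hepos
        omega
      refine ⟨le_antisymm (hC k hk hk1) (Subgroup.relIndex_eq_one.1 hr), fun x hx hx1 => ?_⟩
      have heq := Finset.eq_of_subset_of_card_le hsub (by
        rw [hcard', PFConstMod.card_cls, ← hCdef, ← Subgroup.relIndex_mul_index (hC k hk hk1), hr, one_mul])
      refine PFConstMod.mem_cls.1 (heq ▸ ?_)
      simp [hx, hx1]
    obtain ⟨q, hq, hqd⟩ := Nat.exists_prime_and_dvd (show Nat.card K ≠ 1 by omega)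
    haveI := Fact.mk hq
    obtain ⟨k, hk⟩ := exists_prime_orderOf_dvd_card' q hqd
    have hk1 : (k : L) ≠ 1 := fun h => hq.ne_one (by
      rw [← hk, show k = 1 from Subtype.ext h, orderOf_one])
    refine ⟨q, hq, ⟨⟨fun a b => Subtype.ext ?_⟩⟩, fun a ha => ?_⟩
    · by_cases ha1 : (a : L) = 1
      · simp [ha1]
      · have hb : (b : L) ∈ Subgroup.centralizer ({(a : L)} : Set L) := (hcls a a.2 ha1).1.symm ▸ b.2
        exact (Subgroup.mem_centralizer_singleton_iff.1 hb).symm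
    · by_cases ha1 : a = 1
      · rw [ha1, one_pow]
      · obtain ⟨c, hc⟩ := isConj_iff.1 ((hcls k k.2 hk1).2 a ha ha1)
        rw [← hc, conj_pow, show (k : L) ^ q = 1 by
          rw [← hk]; exact (SubmonoidClass.coe_pow k _).symm.trans (congrArg Subtype.val (pow_orderOf_eq_one k))]
        simp

set_option maxHeartbeats 800000 in
/-- The theorem of Feit and Sibley. -/
theorem feit_sibley (K : Subgroup G) (hK1 : K ≠ ⊥) (hTI : Cfsg.IsTISubset (K : Set G))
    (hlt : K < Subgroup.normalizer (K : Set G))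
    (hC : ∀ k ∈ K, k ≠ 1 → Subgroup.centralizer ({k} : Set G) ≤ K)
    (N : Subgroup G) [Fintype N] (hN : Subgroup.normalizer (K : Set G) = N) :
    (Nat.card {χ : N → ℂ // Cfsg.IsIrrCharacter N χ ∧ ∃ k : N, (k : G) ∈ K ∧ χ k ≠ χ 1} = 1 ∧
      Nat.card K = (K.subgroupOf N).index + 1 ∧ ∃ p : ℕ, p.Prime ∧ Cfsg.IsElementaryAbelian p K) ∨
    (Nat.card K = 2 ^ (Nat.card G).factorization 2 ∧
      (⁅K, K⁆.subgroupOf K).index < 4 * (K.subgroupOf N).index ^ 2) ∨
    Cfsg.IsCoherent {χ : N → ℂ | Cfsg.IsIrrCharacter N χ ∧ ∃ k : N, (k : G) ∈ K ∧ χ k ≠ χ 1} {1}ᶜ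
      (fun α => Cfsg.indFun N α) := by
  classical
  rw [hN] at hlt
  have hKN : K ≤ N := hlt.le
  haveI : (K.subgroupOf N).Normal := Subgroup.normal_subgroupOf_of_le_normalizer hN.ge
  have hCN := centralizer_subgroupOf (N := N) hC
  obtain ⟨hirr, hτ, hτ1, hSeq⟩ := ti_setup (K := K) (N := N) (fun g hg => hTI g (hN.symm ▸ hg)) hCN
  have hKcard : Nat.card (K.subgroupOf N) = Nat.card K :=
    Nat.card_congr (Subgroup.subgroupOfEquivOfLe hKN).toEquiv
  have hmap : (K.subgroupOf N).map N.subtype = K := by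
    rw [Subgroup.subgroupOf_map_subtype, inf_eq_left.2 hKN]
  have hH1 : K.subgroupOf N ≠ ⊥ := fun h => hK1 (by rw [← hmap, h, Subgroup.map_bot])
  have hH2 : K.subgroupOf N ≠ ⊤ := fun h => hlt.not_ge (Subgroup.subgroupOf_eq_top.1 h)
  set e := (K.subgroupOf N).index with he
  by_cases hcard : Nat.card (K.subgroupOf N) = e + 1
  · left
    obtain ⟨h1, p, hp, hab, hpow⟩ := minimal_case (K.subgroupOf N) hH1 hCN hcard
    refine ⟨?_, hKcard ▸ hcard, p, hp, ⟨⟨fun a b => ?_⟩⟩, fun a ha => ?_⟩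
    · rw [hSeq] at h1; exact h1
    · exact Subtype.ext (congrArg (fun x : K.subgroupOf N => ((x : N) : G))
        (hab.is_comm.comm ⟨⟨a, hKN a.2⟩, a.2⟩ ⟨⟨b, hKN b.2⟩, b.2⟩))
    · exact congrArg Subtype.val (hpow ⟨a, hKN ha⟩ ha)
  right
  rcases feit_coherence (K.subgroupOf N) hH1 hH2 hCN hcard hτ hτ1 with hcoh | ⟨p, hp, ⟨j, hj⟩, hna, hidx⟩
  · right; rw [← hSeq]; exact hcoh
  haveI := Fact.mk hp
  rw [hKcard] at hj
  have hKp : IsPGroup p K := IsPGroup.of_card hj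
  obtain ⟨P, hP⟩ := hKp.exists_le_sylow
  haveI : Nontrivial K := (Subgroup.nontrivial_iff_ne_bot K).2 hK1
  have hPeq : (P : Subgroup G) = K := by
    haveI : Nontrivial (P : Subgroup G) := (Subgroup.nontrivial_iff_ne_bot _).2
      (fun h => hK1 (le_bot_iff.1 (h ▸ hP)))
    haveI := P.2.center_nontrivial
    obtain ⟨⟨z, hz⟩, hz1⟩ := exists_ne (1 : Subgroup.center (P : Subgroup G))
    obtain ⟨k, hk, hk1⟩ := K.bot_or_exists_ne_one.resolve_left hK1
    have hzk : (z : G) * k = k * z :=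
      congrArg Subtype.val (Subgroup.mem_center_iff.1 hz ⟨k, hP hk⟩).symm
    have hzK : (z : G) ∈ K := hC k hk hk1 (Subgroup.mem_centralizer_singleton_iff.2 hzk)
    refine le_antisymm (fun x hx => hC z hzK (fun h => hz1 (Subtype.ext (Subtype.ext h)))
      (Subgroup.mem_centralizer_singleton_iff.2 ?_)) hP
    exact congrArg Subtype.val (Subgroup.mem_center_iff.1 hz ⟨x, hx⟩)
  subst hPeq
  by_cases hp2 : p = 2
  · left
    subst hp2
    refine ⟨P.card_eq_multiplicity, ?_⟩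
    set K' := (P : Subgroup G).subgroupOf N with hK'
    have htr : (⁅K', K'⁆.subgroupOf K').index = (⁅(P : Subgroup G), (P : Subgroup G)⁆.subgroupOf P).index := by
      show ⁅K', K'⁆.relIndex K' = ⁅(P : Subgroup G), (P : Subgroup G)⁆.relIndex P
      rw [← Subgroup.relIndex_map_map_of_injective ⁅K', K'⁆ K' N.subtype_injective, Subgroup.map_commutator, hmap]
    rw [htr] at hidx
    obtain ⟨i, -, hi⟩ := (Nat.dvd_prime_pow hp).1
      (hj ▸ (⁅(P : Subgroup G), (P : Subgroup G)⁆.subgroupOf P).index_dvd_card)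
    have he1 : e ≠ 1 := fun h => hH2 (Subgroup.index_eq_one.1 h)
    have heodd : Odd e := by
      obtain ⟨t, ht⟩ := index_dvd_card_sub_one K' K' le_rfl hCN
      rw [hKcard, hj, ← he] at ht
      refine Nat.not_even_iff_odd.1 fun hev => ?_
      have hj0 : j ≠ 0 := fun h => by
        rw [h, pow_zero] at hj
        exact hK1 (Subgroup.card_eq_one.1 hj)
      have h1 : Even (e * t) := hev.mul_right t
      rw [← ht] at h1
      have h2 : Even (2 ^ j) := Nat.even_pow.2 ⟨even_two, hj0⟩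
      rw [Nat.even_sub Nat.one_le_two_pow] at h1
      exact Nat.not_even_one (h1.1 h2)
    rw [hi] at hidx ⊢
    refine lt_of_le_of_ne ?_ ?_
    · refine Nat.le_of_lt_succ (lt_of_le_of_ne hidx fun h => ?_)
      rcases Nat.eq_zero_or_pos i with h0 | h0
      · rw [h0, pow_zero] at h
        have : 0 < e ^ 2 := pow_pos (Nat.pos_of_ne_zero Subgroup.index_ne_zero_of_finite) 2
        omega
      · have h2 : 2 ∣ 2 ^ i := dvd_pow_self 2 h0.ne'
        omega
    · intro h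
      have hdvd : e ∣ 2 ^ i := ⟨4 * e, by rw [h]; ring⟩
      obtain ⟨l, -, hl⟩ := (Nat.dvd_prime_pow Nat.prime_two).1 hdvd
      rcases Nat.eq_zero_or_pos l with h0 | h0
      · exact he1 (by rw [hl, h0, pow_zero])
      · exact Nat.not_even_iff_odd.2 heodd (hl ▸ Nat.even_pow.2 ⟨even_two, h0.ne'⟩)
  · right
    rw [← hSeq]
    exact sibley_core hp2 P (fun h => hna ⟨⟨fun a b => Subtype.ext (Subtype.ext
      (congrArg (fun x : (P : Subgroup G) => (x : G))
        (h.is_comm.comm ⟨((a : N) : G), a.2⟩ ⟨((b : N) : G), b.2⟩) :))⟩⟩) hTI hC N hN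

end Cfsg.Agent.PF6
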