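import Mathlib
import Cfsg.Prelude.Def_Solvable
import Cfsg.Agent.Lib.CoprimeAction
import Cfsg.Agent.Lib.FittingHallBasic
import Cfsg.Agent.Lib.ComponentsFitting
import Cfsg.Agent.Lib.PFLineAct46

/-!
Group theory of a maximal subgroup of type III or IV, seen abstractly: `L = K W`, `W` of prime order `q`,
`K = Q D` with `Q` a normal `p`-subgroup, `D` nilpotent of order prime to `p`, and `Q / C_Q(D)` a chief
factor of order `p ^ q`.
-/

set_option autoImplicit false
set_option linter.style.haveILetI false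

open scoped commutatorElement Pointwise

namespace Cfsg.Agent.PFType34

universe u

open Subgroup

variable {L : Type u} [Group L]

/-- The shape of `M` of type III or IV. -/
structure Shape (K W W₂ Q D : Subgroup L) (p q : ℕ) : Prop where
  hp : p.Prime
  hq : q.Prime
  hodd : Odd (Nat.card L)
  Kn : K.Normal
  cardW : Nat.card W = q
  hqK : ¬ q ∣ Nat.card K
  KW : K ⊔ W = ⊤
  KiW : K ⊓ W = ⊥
  fix : ∀ x ∈ W, x ≠ 1 → K ⊓ centralizer ({x} : Set L) = W₂
  W2le : W₂ ≤ Q ⊓ ⁅K, K⁆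
  cardW2 : Nat.card W₂ = p
  Qn : Q.Normal
  Qp : IsPGroup p Q
  QiD : Q ⊓ D = ⊥
  QD : Q ⊔ D = K
  Dp : ¬ p ∣ Nat.card D
  Dnil : Group.IsNilpotent D
  WD : W ≤ normalizer (D : Set L)
  DD : ⁅D, D⁆ ≤ centralizer (Q : Set L)
  Q0n : (Q ⊓ centralizer (D : Set L)).Normal
  Q0lt : Q ⊓ centralizer (D : Set L) < Q
  cardQ : Nat.card Q = Nat.card ↥(Q ⊓ centralizer (D : Set L)) * p ^ q
  frat : ∀ a ∈ Q, ∀ b ∈ Q, a ^ p ∈ Q ⊓ centralizer (D : Set L) ∧ ⁅a, b⁆ ∈ Q ⊓ centralizer (D : Set L)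
  min : ∀ N : Subgroup L, N.Normal → Q ⊓ centralizer (D : Set L) ≤ N → N ≤ Q →
    N = Q ⊓ centralizer (D : Set L) ∨ N = Q

namespace Shape

variable [Finite L] {K W W₂ Q D : Subgroup L} {p q : ℕ}

theorem hp2 (h : Shape K W W₂ Q D p q) : p ≠ 2 := by
  intro hp
  have h2 := W₂.card_subgroup_dvd_card
  rw [h.cardW2, hp] at h2
  exact (Nat.not_even_iff_odd.2 h.hodd) (even_iff_two_dvd.2 h2)

theorem hq2 (h : Shape K W W₂ Q D p q) : q ≠ 2 := by
  intro hq
  have h2 := W.card_subgroup_dvd_card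
  rw [h.cardW, hq] at h2
  exact (Nat.not_even_iff_odd.2 h.hodd) (even_iff_two_dvd.2 h2)

theorem Q_le (h : Shape K W W₂ Q D p q) : Q ≤ K := h.QD ▸ le_sup_left

theorem D_le (h : Shape K W W₂ Q D p q) : D ≤ K := h.QD ▸ le_sup_right

theorem cop (h : Shape K W W₂ Q D p q) : (Nat.card D).Coprime (Nat.card Q) := by
  haveI := Fact.mk h.hp
  obtain ⟨n, hn⟩ := h.Qp.exists_card_eq
  rw [hn]
  exact (h.hp.coprime_iff_not_dvd.2 h.Dp).symm.pow_right n

theorem hpq (h : Shape K W W₂ Q D p q) : p ≠ q := by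
  intro hpq
  refine h.hqK (hpq ▸ h.cardW2 ▸ Subgroup.card_dvd_of_le ?_)
  exact (h.W2le.trans inf_le_left).trans h.Q_le

theorem cop_W (h : Shape K W W₂ Q D p q) {A : Subgroup L} (hA : A ≤ K) :
    (Nat.card W).Coprime (Nat.card A) := by
  rw [h.cardW]
  exact (h.hq.coprime_iff_not_dvd.2 h.hqK).coprime_dvd_right (Subgroup.card_dvd_of_le hA)

/-- An element of `K` fixed modulo a normal `A ≥ W₂` by a non-trivial element of `W` lies in `A`. -/
theorem mem_of_fixed (h : Shape K W W₂ Q D p q) {A : Subgroup L} (hAn : A.Normal) (hAK : A ≤ K)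
    (hW2 : W₂ ≤ A) {w k : L} (hw : w ∈ W) (hw1 : w ≠ 1) (hk : k ∈ K) (hwk : w * k * w⁻¹ * k⁻¹ ∈ A) :
    k ∈ A := by
  have hfix : k⁻¹ * w * k * w⁻¹ ∈ A := by
    simpa [mul_assoc] using hAn.conj_mem _ hwk k⁻¹
  obtain ⟨c, hc, hkc⟩ := CoprimeAction.exists_fixed_mem_coset_zpowers (a := w) (D := A)
    (by rw [normalizer_eq_top_iff.2 hAn]; exact mem_top w)
    ((h.cop_W hAK).coprime_dvd_left (Subgroup.orderOf_dvd_natCard W hw)) k hfix
  have hcK : c ∈ K := by simpa using K.mul_mem hk (hAK hkc)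
  have hcA : c ∈ A := hW2 ((h.fix w hw hw1).le ⟨hcK, mem_centralizer_singleton_iff.2 hc.symm⟩)
  simpa using A.mul_mem hcA (A.inv_mem hkc)

theorem conj_mod {A B : Subgroup L} (hAn : A.Normal) (hBn : B.Normal) {w : L} (x : B)
    (y : B) (hxy : ((x : L))⁻¹ * y ∈ A) :
    (w * x * w⁻¹)⁻¹ * (w * y * w⁻¹) ∈ A := by
  have := hAn.conj_mem _ hxy w
  simpa [mul_assoc] using this

/-- `|B : A| ≡ 1 (mod q)` for normal `W₂ ≤ A ≤ B ≤ K`. -/
theorem relIndex_modEq_one (h : Shape K W W₂ Q D p q) {A B : Subgroup L} (hAn : A.Normal)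
    (hBn : B.Normal) (hAB : A ≤ B) (hBK : B ≤ K) (hW2 : W₂ ≤ A) : A.relIndex B ≡ 1 [MOD q] := by
  haveI := Fact.mk h.hq
  haveI := hBn
  have hWp : IsPGroup q W := IsPGroup.of_card (n := 1) (by rw [h.cardW, pow_one])
  let X := B ⧸ A.subgroupOf B
  have hwell : ∀ (w : W) (x y : B), QuotientGroup.leftRel (A.subgroupOf B) x y →
      ((⟨(w : L) * x * (w : L)⁻¹, hBn.conj_mem _ x.2 _⟩ : B) : X) =
        ((⟨(w : L) * y * (w : L)⁻¹, hBn.conj_mem _ y.2 _⟩ : B) : X) := by
    intro w x y hxy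
    rw [QuotientGroup.leftRel_apply] at hxy
    exact QuotientGroup.eq.2 (conj_mod hAn hBn x y hxy)
  letI : MulAction W X :=
    { smul := fun w x => Quotient.liftOn' x
        (fun b : B => ((⟨(w : L) * b * (w : L)⁻¹, hBn.conj_mem _ b.2 _⟩ : B) : X)) (hwell w)
      one_smul := fun x => Quotient.inductionOn' x fun b => by
        show ((⟨((1 : W) : L) * b * ((1 : W) : L)⁻¹, _⟩ : B) : X) = (b : X)
        congr 1
        ext
        simp
      mul_smul := fun v w x => Quotient.inductionOn' x fun b => by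
        show ((⟨((v * w : W) : L) * b * ((v * w : W) : L)⁻¹, _⟩ : B) : X) =
          ((⟨(v : L) * ((w : L) * b * (w : L)⁻¹) * (v : L)⁻¹, _⟩ : B) : X)
        congr 1
        ext
        simp [mul_assoc] }
  have hmod := hWp.card_modEq_card_fixedPoints X
  have hfix : Nat.card (MulAction.fixedPoints W X) = 1 := by
    rw [Nat.card_eq_one_iff_unique]
    refine ⟨⟨fun a b => ?_⟩, ⟨⟨((1 : B) : X), fun w => ?_⟩⟩⟩
    · obtain ⟨w, hw1⟩ : ∃ w : W, w ≠ 1 := by
        by_contra hne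
        push Not at hne
        have : Nat.card W = 1 := Nat.card_eq_one_iff_unique.2
          ⟨⟨fun a b => (hne a).trans (hne b).symm⟩, inferInstance⟩
        exact h.hq.ne_one (h.cardW.symm.trans this)
      suffices hall : ∀ c : MulAction.fixedPoints W X, (c : X) = ((1 : B) : X) from
        Subtype.ext ((hall a).trans (hall b).symm)
      rintro ⟨c, hc⟩
      induction c using Quotient.inductionOn' with
      | h b' =>
        show (b' : X) = ((1 : B) : X)
        have h1 : ((⟨(w : L) * b' * (w : L)⁻¹, hBn.conj_mem _ b'.2 _⟩ : B) : X) = (b' : X) := hc w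
        rw [QuotientGroup.eq, mem_subgroupOf] at h1 ⊢
        have h2 : (b' : L) ∈ A := by
          refine h.mem_of_fixed hAn (hAB.trans hBK) hW2 w.2
            (fun e => hw1 (Subtype.ext e)) (hBK b'.2) ?_
          have h3 := hAn.conj_mem _ (A.inv_mem h1) (b' : L)
          simpa [mul_assoc] using h3
        simpa using A.inv_mem h2
    · show ((⟨(w : L) * ((1 : B) : L) * (w : L)⁻¹, _⟩ : B) : X) = ((1 : B) : X)
      congr 1
      ext
      simp
  rw [hfix] at hmod
  exact hmod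

/-- `C = C_D(Q)`. -/
theorem C_normal (h : Shape K W W₂ Q D p q) : (D ⊓ centralizer (Q : Set L)).Normal := by
  haveI := h.Qn
  haveI := h.Kn
  refine ⟨fun x hx g => ?_⟩
  obtain ⟨hxD, hxQ⟩ := hx
  set y := g * x * g⁻¹
  have hyQ : y ∈ centralizer (Q : Set L) := Normal.conj_mem (inferInstance) x hxQ g
  have hyK : y ∈ K := h.Kn.conj_mem x (h.D_le hxD) g
  obtain ⟨a, ha, b, hb, hab⟩ :=
    Set.mem_mul.1 (show y ∈ (Q : Set L) * (D : Set L) by rw [← normal_mul, h.QD]; exact hyK)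
  have hcomm : Commute a b := by
    have h1 : a * (a * b) = (a * b) * a := by rw [hab]; exact mem_centralizer_iff.1 hyQ a ha
    rw [mul_assoc] at h1
    exact mul_left_cancel h1
  have hn : y ^ Nat.card D = 1 := by
    rw [conj_pow, show x ^ Nat.card D = 1 from orderOf_dvd_iff_pow_eq_one.1
      (Subgroup.orderOf_dvd_natCard D hxD)]
    simp
  rw [← hab, hcomm.mul_pow, show b ^ Nat.card D = 1 from orderOf_dvd_iff_pow_eq_one.1
    (Subgroup.orderOf_dvd_natCard D hb), mul_one] at hn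
  have ha1 : a = 1 := orderOf_eq_one_iff.1 (Nat.eq_one_of_dvd_coprimes h.cop
    (orderOf_dvd_of_pow_eq_one hn) (Subgroup.orderOf_dvd_natCard Q ha))
  exact ⟨by rw [← hab, ha1, one_mul]; exact hb, hyQ⟩

/-- `F = Q C_D(Q)`. -/
def F (_h : Shape K W W₂ Q D p q) : Subgroup L := Q ⊔ (D ⊓ centralizer (Q : Set L))

/-- `F₁ = C_Q(D) C_D(Q)`. -/
def F1 (_h : Shape K W W₂ Q D p q) : Subgroup L :=
  (Q ⊓ centralizer (D : Set L)) ⊔ (D ⊓ centralizer (Q : Set L))

theorem F_normal (h : Shape K W W₂ Q D p q) : h.F.Normal := by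
  haveI := h.Qn
  haveI := h.C_normal
  exact Subgroup.sup_normal _ _

theorem F1_normal (h : Shape K W W₂ Q D p q) : h.F1.Normal := by
  haveI := h.Q0n
  haveI := h.C_normal
  exact Subgroup.sup_normal _ _

theorem F1_le_F (h : Shape K W W₂ Q D p q) : h.F1 ≤ h.F := sup_le_sup_right inf_le_left _

theorem F_le_K (h : Shape K W W₂ Q D p q) : h.F ≤ K :=
  sup_le h.Q_le (inf_le_left.trans h.D_le)

theorem F_nilpotent (h : Shape K W W₂ Q D p q) : Group.IsNilpotent h.F := by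
  haveI := Fact.mk h.hp
  have hle : h.F ≤ Cfsg.fittingSubgroup L := sup_le (le_sSup ⟨h.Qn, h.Qp.isNilpotent⟩)
    (le_sSup ⟨h.C_normal, by
      haveI := h.Dnil
      exact _root_.isNilpotent_of_ker_le_center
        (Subgroup.inclusion (inf_le_left : D ⊓ centralizer (Q : Set L) ≤ D)) (by simp)⟩)
  exact _root_.isNilpotent_of_ker_le_center (Subgroup.inclusion hle) (by simp)

theorem card_QX (h : Shape K W W₂ Q D p q) {A X : Subgroup L} (hAn : A.Normal) (hA : A ≤ Q)
    (hX : X ≤ D) : Nat.card ↥(A ⊔ X) = Nat.card A * Nat.card X := by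
  haveI := hAn
  have hbot : A ⊓ X = ⊥ := le_bot_iff.1 (h.QiD ▸ inf_le_inf hA hX)
  have hbij : Function.Bijective fun y : A × X =>
      (⟨(y.1 : L) * y.2, mul_mem_sup y.1.2 y.2.2⟩ : ↥(A ⊔ X)) := by
    refine ⟨fun a b e => ?_, fun x => ?_⟩
    · exact Subgroup.mul_injective_of_disjoint (disjoint_iff.2 hbot) (congrArg Subtype.val e)
    · obtain ⟨a, ha, b, hb, e⟩ :=
        Set.mem_mul.1 (show (x : L) ∈ (A : Set L) * (X : Set L) by rw [← normal_mul]; exact x.2)
      exact ⟨(⟨a, ha⟩, ⟨b, hb⟩), Subtype.ext e⟩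
  rw [← Nat.card_eq_of_bijective _ hbij, Nat.card_prod]

theorem card_K (h : Shape K W W₂ Q D p q) : Nat.card K = Nat.card Q * Nat.card D := by
  rw [← h.card_QX h.Qn le_rfl le_rfl, h.QD]

theorem relIndex_F1_F (h : Shape K W W₂ Q D p q) : h.F1.relIndex h.F = p ^ q := by
  have h1 := Subgroup.relIndex_mul_relIndex ⊥ h.F1 h.F bot_le h.F1_le_F
  rw [relIndex_bot_left, relIndex_bot_left, F, h.card_QX h.Qn le_rfl inf_le_left, F1, h.card_QX h.Q0n inf_le_left inf_le_left,
    h.cardQ] at h1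
  have hpos : 0 < Nat.card ↥(Q ⊓ centralizer (D : Set L)) *
      Nat.card ↥(D ⊓ centralizer (Q : Set L)) := Nat.mul_pos Nat.card_pos Nat.card_pos
  refine Nat.eq_of_mul_eq_mul_right hpos ?_
  rw [F, F1]
  linear_combination h1

theorem K_index (h : Shape K W W₂ Q D p q) : K.index = q := by
  haveI := h.Kn
  rw [← h.cardW, ← Subgroup.relIndex_top_right, ← h.KW, Subgroup.relIndex_sup_left, ← inf_relIndex_right,
    h.KiW, Subgroup.relIndex_bot_left]

theorem D_not_centralizer (h : Shape K W W₂ Q D p q) : ¬ D ≤ centralizer (Q : Set L) := fun hD =>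
  h.Q0lt.ne (inf_eq_left.2 fun _ hx => mem_centralizer_iff.2 fun _ hd =>
    (mem_centralizer_iff.1 (hD hd) _ hx).symm)

theorem F_lt_K (h : Shape K W W₂ Q D p q) : h.F < K := by
  refine lt_of_le_of_ne h.F_le_K fun he => h.D_not_centralizer ?_
  have h1 : Nat.card D = Nat.card ↥(D ⊓ centralizer (Q : Set L)) := by
    refine Nat.eq_of_mul_eq_mul_left (Nat.card_pos (α := Q)) ?_
    rw [← h.card_K, ← he, F, h.card_QX h.Qn le_rfl inf_le_left]
  exact inf_eq_left.1 (eq_of_le_of_card_ge inf_le_left h1.le)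

theorem commutator_K_le (h : Shape K W W₂ Q D p q) {N : Subgroup L} [N.Normal] (hQ : Q ≤ N) :
    ⁅K, K⁆ ≤ N ⊔ ⁅D, D⁆ := by
  have hmap : K.map (QuotientGroup.mk' N) = D.map (QuotientGroup.mk' N) := by
    rw [← h.QD, Subgroup.map_sup, (Subgroup.map_eq_bot_iff Q).2 (by rwa [QuotientGroup.ker_mk']),
      bot_sup_eq]
  have h1 : ⁅K, K⁆.map (QuotientGroup.mk' N) ≤ ⁅D, D⁆.map (QuotientGroup.mk' N) := by
    rw [Subgroup.map_commutator, Subgroup.map_commutator, hmap]
  rw [Subgroup.map_le_iff_le_comap, Subgroup.comap_map_eq, QuotientGroup.ker_mk', sup_comm] at h1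
  exact h1

theorem commutator_K_le_F (h : Shape K W W₂ Q D p q) : ⁅K, K⁆ ≤ h.F := by
  haveI := h.Qn
  refine (h.commutator_K_le (N := Q) le_rfl).trans (sup_le_sup_left (le_inf ?_ h.DD) _)
  exact Subgroup.commutator_le.2 fun a ha b hb =>
    D.mul_mem (D.mul_mem (D.mul_mem ha hb) (D.inv_mem ha)) (D.inv_mem hb)

theorem commutator_F_le (h : Shape K W W₂ Q D p q) : ⁅h.F, h.F⁆ ≤ h.F1 := by
  haveI := h.Q0n
  haveI := h.Qn
  haveI := h.C_normal
  haveI := h.F1_normal
  have hmap : h.F.map (QuotientGroup.mk' h.F1) = Q.map (QuotientGroup.mk' h.F1) := by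
    rw [F, Subgroup.map_sup, (Subgroup.map_eq_bot_iff (D ⊓ centralizer (Q : Set L))).2
      (by rw [QuotientGroup.ker_mk', F1]; exact le_sup_right), sup_bot_eq]
  have h1 : ⁅h.F, h.F⁆.map (QuotientGroup.mk' h.F1) ≤ ⁅Q, Q⁆.map (QuotientGroup.mk' h.F1) := by
    rw [Subgroup.map_commutator, Subgroup.map_commutator, hmap]
  rw [Subgroup.map_le_iff_le_comap, Subgroup.comap_map_eq, QuotientGroup.ker_mk'] at h1
  exact h1.trans (sup_le ((Subgroup.commutator_le.2 fun a ha b hb => (h.frat a ha b hb).2).trans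
    le_sup_left) le_rfl)

theorem W2_le_commutator (h : Shape K W W₂ Q D p q) : W₂ ≤ ⁅K, K⁆ := h.W2le.trans inf_le_right

theorem W2_le_F (h : Shape K W W₂ Q D p q) : W₂ ≤ h.F :=
  (h.W2le.trans inf_le_left).trans le_sup_left

/-- `u = |K : F|` is odd, `≡ 1 (mod q)` and at least `2 q + 1`. -/
theorem u_bound (h : Shape K W W₂ Q D p q) :
    h.F.relIndex K ≡ 1 [MOD q] ∧ Odd (h.F.relIndex K) ∧ 2 * q + 1 ≤ h.F.relIndex K := by
  have h1 := h.relIndex_modEq_one h.F_normal h.Kn h.F_le_K le_rfl h.W2_le_F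
  have h2 : Odd (h.F.relIndex K) :=
    h.hodd.of_dvd_nat ((h.F.relIndex_dvd_card K).trans K.card_subgroup_dvd_card)
  have h3 : h.F.relIndex K ≠ 1 := fun he =>
    h.F_lt_K.not_ge (Subgroup.relIndex_eq_one.1 he)
  refine ⟨h1, h2, ?_⟩
  obtain ⟨r, hr⟩ := h2
  obtain ⟨c, hc⟩ := (Nat.modEq_iff_dvd' (by omega)).1 h1.symm
  rw [hr, show 2 * r + 1 - 1 = 2 * r from by omega] at hc
  rcases Nat.lt_or_ge c 2 with hc2 | hc2
  · obtain ⟨s, hs⟩ := h.hq.odd_of_ne_two h.hq2
    interval_cases c <;> omega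
  · have : q * 2 ≤ q * c := Nat.mul_le_mul_left q hc2
    omega

/-- When `[K, K] = F`, `D` has derived subgroup `C_D(Q)`. -/
theorem commutator_D_eq (h : Shape K W W₂ Q D p q) (hd : ⁅K, K⁆ = h.F) :
    ⁅D, D⁆ = D ⊓ centralizer (Q : Set L) := by
  haveI := h.Qn
  refine le_antisymm (le_inf ?_ h.DD) fun x hx => ?_
  · exact Subgroup.commutator_le.2 fun a ha b hb =>
      D.mul_mem (D.mul_mem (D.mul_mem ha hb) (D.inv_mem ha)) (D.inv_mem hb)
  have hxK : x ∈ ((Q ⊔ ⁅D, D⁆ : Subgroup L) : Set L) :=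
    h.commutator_K_le (N := Q) le_rfl (hd ▸ le_sup_right (a := Q) hx)
  rw [normal_mul] at hxK
  obtain ⟨a, ha, b, hb, rfl⟩ := Set.mem_mul.1 hxK
  have hbD : b ∈ D := (Subgroup.commutator_le.2 fun a ha b hb =>
    D.mul_mem (D.mul_mem (D.mul_mem ha hb) (D.inv_mem ha)) (D.inv_mem hb)) hb
  have haD : a ∈ D := by simpa using D.mul_mem hx.1 (D.inv_mem hbD)
  have ha1 : a ∈ Q ⊓ D := ⟨ha, haD⟩
  rw [h.QiD, mem_bot] at ha1
  rw [ha1, one_mul]
  exact hb

/-- When `[K, K] = F`, `Q = [Q, D]`. -/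
theorem commutator_Q_D (h : Shape K W W₂ Q D p q) (hd : ⁅K, K⁆ = h.F) : ⁅Q, D⁆ = Q := by
  haveI := h.Qn
  haveI := Fact.mk h.hp
  set N := ⁅Q, D⁆ with hN
  have hNQ : N ≤ Q := Subgroup.le_normalizer_iff_commutator_le_left.1 (by
    rw [normalizer_eq_top_iff.2 h.Qn]; exact le_top)
  haveI hNn : N.Normal := by
    rw [← normalizer_eq_top_iff, eq_top_iff, ← h.KW, ← h.QD]
    refine sup_le (sup_le (normalizer_commutator_ge_left _ _) (normalizer_commutator_ge_right _ _)) ?_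
    intro w hw
    rw [mem_normalizer_iff_map_conj_eq, hN, Subgroup.map_commutator]
    congr 1
    · exact mem_normalizer_iff_map_conj_eq.1 (by rw [normalizer_eq_top_iff.2 h.Qn]; exact mem_top w)
    · exact mem_normalizer_iff_map_conj_eq.1 (h.WD hw)
  set f := QuotientGroup.mk' N
  have hcomm : ∀ x ∈ Q.map f, ∀ y ∈ D.map f, x * y = y * x := by
    rintro _ ⟨x, hx, rfl⟩ _ ⟨y, hy, rfl⟩
    rw [← commutatorElement_eq_one_iff_mul_comm, ← map_commutatorElement]
    exact (QuotientGroup.eq_one_iff _).2 (Subgroup.commutator_mem_commutator hx hy)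
  have hcopf : (Nat.card (Q.map f)).Coprime (Nat.card (D.map f)) :=
    (h.cop.symm.coprime_dvd_left (Q.card_map_dvd f)).coprime_dvd_right (D.card_map_dvd f)
  have hperf : Q.map f ≤ ⁅Q.map f, Q.map f⁆ := by
    have hle : ⁅K.map f, K.map f⁆ ≤ ⁅Q.map f, Q.map f⁆ ⊔ ⁅D.map f, D.map f⁆ := by
      rw [Subgroup.commutator_le]
      intro x hx y hy
      rw [← h.QD, Subgroup.map_sup] at hx hy
      obtain ⟨a, ha, b, hb, rfl⟩ := Set.mem_mul.1 (show x ∈ (Q.map f : Set _) * (D.map f : Set _) by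
        haveI := h.Qn.map f (QuotientGroup.mk'_surjective N)
        rw [← normal_mul]; exact hx)
      obtain ⟨a', ha', b', hb', rfl⟩ := Set.mem_mul.1 (show y ∈ (Q.map f : Set _) * (D.map f : Set _) by
        haveI := h.Qn.map f (QuotientGroup.mk'_surjective N)
        rw [← normal_mul]; exact hy)
      have c1 : Commute b a' := (hcomm a' ha' b hb).symm
      have c2 : Commute a b' := hcomm a ha b' hb'
      have c3 : Commute a b := hcomm a ha b hb
      have c4 : Commute a' b' := hcomm a' ha' b' hb'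
      have e : ⁅a * b, a' * b'⁆ = ⁅a, a'⁆ * ⁅b, b'⁆ := by
        have e1 : a * b * (a' * b') = (a * a') * (b * b') := c1.mul_mul_mul_comm a b'
        have e2 : a' * b' * (a * b) = (a' * a) * (b' * b) := (c2.symm).mul_mul_mul_comm a' b
        have c5 : Commute (a' * a)⁻¹ (b * b') :=
          (((show Commute a' b from hcomm a' ha' b hb).mul_right c4).mul_left (c3.mul_right c2)).inv_left
        calc ⁅a * b, a' * b'⁆ = (a * b * (a' * b')) * (a' * b' * (a * b))⁻¹ := by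
              simp [commutatorElement_def, mul_assoc]
          _ = (a * a') * ((b * b') * (b' * b)⁻¹ * (a' * a)⁻¹) := by rw [e1, e2]; group
          _ = (a * a') * ((a' * a)⁻¹ * ((b * b') * (b' * b)⁻¹)) := by
              have c6 : Commute (a' * a)⁻¹ (b' * b)⁻¹ :=
                ((c4.mul_right (show Commute a' b from hcomm a' ha' b hb)).mul_left (c2.mul_right c3)).inv_inv
              rw [(c5.mul_right c6).eq]
          _ = ⁅a, a'⁆ * ⁅b, b'⁆ := by simp [commutatorElement_def, mul_assoc]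
      rw [e]
      exact mul_mem_sup (commutator_mem_commutator ha ha') (commutator_mem_commutator hb hb')
    intro x hx
    have hxK : x ∈ ⁅K.map f, K.map f⁆ := by
      rw [← Subgroup.map_commutator, hd]
      obtain ⟨z, hz, rfl⟩ := hx
      exact mem_map_of_mem f (le_sup_left (b := D ⊓ centralizer (Q : Set L)) hz)
    have hnorm : ⁅D.map f, D.map f⁆ ≤ normalizer ((⁅Q.map f, Q.map f⁆ : Subgroup (L ⧸ N)) : Set (L ⧸ N)) := by
      intro b hb
      have hbD : b ∈ D.map f := by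
        rw [← Subgroup.map_commutator] at hb
        obtain ⟨z, hz, rfl⟩ := hb
        exact mem_map_of_mem f ((Subgroup.commutator_le.2 fun a ha b hb =>
          D.mul_mem (D.mul_mem (D.mul_mem ha hb) (D.inv_mem ha)) (D.inv_mem hb)) hz)
      refine centralizer_le_normalizer _ (mem_centralizer_iff.2 fun z hz => hcomm z ?_ b hbD)
      exact (Subgroup.commutator_le.2 fun a ha b hb => (Q.map f).mul_mem
        ((Q.map f).mul_mem ((Q.map f).mul_mem ha hb) ((Q.map f).inv_mem ha))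
          ((Q.map f).inv_mem hb)) hz
    obtain ⟨a, ha, b, hb, rfl⟩ := Set.mem_mul.1
      (show x ∈ ((⁅Q.map f, Q.map f⁆ : Subgroup (L ⧸ N)) : Set (L ⧸ N)) * ((⁅D.map f, D.map f⁆ : Subgroup (L ⧸ N)) : Set (L ⧸ N)) by
        rw [← coe_mul_of_right_le_normalizer_left _ _ hnorm]; exact hle hxK)
    have haQ : a ∈ Q.map f := (Subgroup.commutator_le.2 fun a ha b hb => (Q.map f).mul_mem
      ((Q.map f).mul_mem ((Q.map f).mul_mem ha hb) ((Q.map f).inv_mem ha))
        ((Q.map f).inv_mem hb)) ha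
    have hbQ : b ∈ Q.map f := by simpa using (Q.map f).mul_mem ((Q.map f).inv_mem haQ) hx
    have hbD : b ∈ D.map f := (Subgroup.commutator_le.2 fun a ha b hb => (D.map f).mul_mem
      ((D.map f).mul_mem ((D.map f).mul_mem ha hb) ((D.map f).inv_mem ha))
        ((D.map f).inv_mem hb)) hb
    have : b ∈ Q.map f ⊓ D.map f := ⟨hbQ, hbD⟩
    rw [inf_eq_bot_of_coprime hcopf, mem_bot] at this
    rw [this, mul_one]
    exact ha
  refine le_antisymm hNQ ?_
  have hbot : Q.map f = ⊥ := by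
    by_contra hne
    haveI := (h.Qp.map f).isNilpotent
    haveI : Nontrivial (Q.map f) := (nontrivial_iff_ne_bot _).2 hne
    refine (Group.IsSolvable.commutator_lt_top_of_nontrivial (Q.map f)).ne (top_le_iff.1 fun x _ => ?_)
    have hx : (x : L ⧸ N) ∈ (commutator (Q.map f)).map (Q.map f).subtype := by
      rw [commutator_def, Subgroup.map_commutator, ← MonoidHom.range_eq_map, Subgroup.range_subtype]
      exact hperf x.2
    obtain ⟨y, hy, e⟩ := hx
    exact (Q.map f).subtype_injective e ▸ hy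
  rw [Subgroup.map_eq_bot_iff, QuotientGroup.ker_mk'] at hbot
  exact hbot

/-- When `[K, K] = F`, `C_Q(D)` is central in `Q`. -/
theorem Q0_central (h : Shape K W W₂ Q D p q) (hd : ⁅K, K⁆ = h.F) :
    ∀ x ∈ Q, ∀ y ∈ Q ⊓ centralizer (D : Set L), x * y = y * x := by
  intro x hx y hy
  have hle : ⁅Q, D⁆ ≤ centralizer ((Q ⊓ centralizer (D : Set L) : Subgroup L) : Set L) := by
    rw [Subgroup.commutator_le]
    intro a ha d hd'
    refine mem_centralizer_iff.2 fun z hz => ?_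
    have hd1 : Commute z d := (mem_centralizer_iff.1 hz.2 d hd').symm
    have hd2 : Commute (a⁻¹ * z * a) d :=
      (mem_centralizer_iff.1 (by simpa using (h.Q0n.conj_mem z hz a⁻¹).2 :
        a⁻¹ * z * a ∈ centralizer (D : Set L)) d hd').symm
    have h3 : Commute z (a * d * a⁻¹) := by
      have := hd2.map (MulAut.conj a).toMonoidHom
      simpa [mul_assoc] using this
    have h4 : Commute z ⁅a, d⁆ := by
      rw [commutatorElement_def]
      exact h3.mul_right hd1.inv_right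
    exact h4
  rw [h.commutator_Q_D hd] at hle
  exact (mem_centralizer_iff.1 (hle hx) y hy).symm

/-- Conjugation on `Q / C_Q(D)`. -/
theorem exists_action (h : Shape K W W₂ Q D p q) :
    ∃ (V : Type u) (_ : CommGroup V) (_ : Finite V) (π : Q →* V) (φ : L →* MulAut V),
      Function.Surjective π ∧ (∀ x : Q, π x = 1 ↔ (x : L) ∈ centralizer (D : Set L)) ∧
      (∀ (g : L) (x : Q), φ g (π x) = π ⟨g * x * g⁻¹, h.Qn.conj_mem _ x.2 g⟩) ∧
      Nat.card V = p ^ q := by
  haveI := h.Qn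
  set Q0 := (Q ⊓ centralizer (D : Set L)).subgroupOf Q with hQ0
  haveI : Q0.Normal := h.Q0n.subgroupOf Q
  have hcomm : ∀ a b : Q ⧸ Q0, a * b = b * a := by
    intro a b
    induction a using QuotientGroup.induction_on with | _ a => ?_
    induction b using QuotientGroup.induction_on with | _ b => ?_
    show QuotientGroup.mk' Q0 a * QuotientGroup.mk' Q0 b = QuotientGroup.mk' Q0 b * QuotientGroup.mk' Q0 a
    rw [← commutatorElement_eq_one_iff_mul_comm, ← map_commutatorElement]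
    exact (QuotientGroup.eq_one_iff _).2 (h.frat a a.2 b b.2).2
  letI : CommGroup (Q ⧸ Q0) := { (inferInstance : Group (Q ⧸ Q0)) with mul_comm := hcomm }
  have hmap : ∀ g : L, Q0.map (MulAut.conjNormal (H := Q) g).toMonoidHom = Q0 := by
    intro g
    apply le_antisymm
    · rintro _ ⟨x, hx, rfl⟩
      exact h.Q0n.conj_mem _ hx g
    · intro x hx
      refine ⟨(MulAut.conjNormal (H := Q) g⁻¹) x, h.Q0n.conj_mem _ hx g⁻¹, ?_⟩
      ext
      simp [mul_assoc]
  let φ : L →* MulAut (Q ⧸ Q0) :=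
    { toFun := fun g => QuotientGroup.congr Q0 Q0 (MulAut.conjNormal (H := Q) g) (hmap g)
      map_one' := by
        ext x
        induction x using QuotientGroup.induction_on with | _ y => ?_
        show QuotientGroup.mk' Q0 (MulAut.conjNormal (H := Q) (1 : L) y) = QuotientGroup.mk' Q0 y
        rw [map_one]
        rfl
      map_mul' := fun a b => by
        ext x
        induction x using QuotientGroup.induction_on with | _ y => ?_
        show QuotientGroup.mk' Q0 (MulAut.conjNormal (H := Q) (a * b) y) =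
          QuotientGroup.mk' Q0 (MulAut.conjNormal (H := Q) a (MulAut.conjNormal (H := Q) b y))
        rw [map_mul]
        rfl }
  refine ⟨Q ⧸ Q0, inferInstance, inferInstance, QuotientGroup.mk' Q0, φ,
    QuotientGroup.mk'_surjective Q0, fun x => ?_, fun g x => rfl, ?_⟩
  · rw [QuotientGroup.mk'_apply, QuotientGroup.eq_one_iff, hQ0, mem_subgroupOf]
    exact ⟨fun hx => hx.2, fun hx => ⟨x.2, hx⟩⟩
  · have h1 := Q0.card_eq_card_quotient_mul_card_subgroup
    rw [h.cardQ, Nat.card_congr (subgroupOfEquivOfLe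
      (inf_le_left : Q ⊓ centralizer (D : Set L) ≤ Q)).toEquiv, mul_comm] at h1
    exact (Nat.eq_of_mul_eq_mul_right Nat.card_pos h1).symm

/-- An element of `D` acting trivially on `Q / C_Q(D)` centralises `Q`. -/
theorem centralizes_of_trivial (h : Shape K W W₂ Q D p q) {d : L} (hd : d ∈ D)
    (htriv : ∀ x ∈ Q, x⁻¹ * d * x * d⁻¹ ∈ centralizer (D : Set L)) :
    d ∈ centralizer (Q : Set L) := by
  haveI := h.Qn
  refine mem_centralizer_iff.2 fun x hx => ?_
  have hcen : x ∈ centralizer (zpowers d : Set L) := by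
    refine CoprimeAction.mem_centralizer_of_stabilizes (A := zpowers d)
      (D := Q ⊓ centralizer (D : Set L)) ?_ ?_ x ?_
    · rw [Nat.card_zpowers]
      exact (h.cop.coprime_dvd_left (Subgroup.orderOf_dvd_natCard D hd)).coprime_dvd_right
        (Subgroup.card_dvd_of_le inf_le_left)
    · exact inf_le_right.trans (centralizer_le (zpowers_le.2 hd))
    · intro a ha
      obtain ⟨n, rfl⟩ := mem_powers_iff_mem_zpowers.2 ha
      induction n with
      | zero => simp
      | succ n ih =>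
        have e : x⁻¹ * d ^ (n + 1) * x * (d ^ (n + 1))⁻¹ =
            (x⁻¹ * d * x * d⁻¹) * (d * (x⁻¹ * d ^ n * x * (d ^ n)⁻¹) * d⁻¹) := by
          rw [pow_succ']; simp [mul_assoc]
        rw [e]
        refine Subgroup.mul_mem _ ⟨?_, htriv x hx⟩
          (h.Q0n.conj_mem _ (ih (mem_powers_iff_mem_zpowers.1 ⟨n, rfl⟩)) d)
        simpa [mul_assoc] using Q.mul_mem (Q.inv_mem hx) (h.Qn.conj_mem x hx d)
  exact (mem_centralizer_iff.1 hcen d (mem_zpowers d)).symm

section action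

variable {V : Type u} [CommGroup V] [Finite V] {π : Q →* V} {φ : L →* MulAut V}

theorem W_gen (h : Shape K W W₂ Q D p q) {w : L} (hw : w ∈ W) (hw1 : w ≠ 1) : zpowers w = W :=
  eq_of_le_of_card_ge ((zpowers_le).2 hw) (by
    haveI := Fact.mk h.hq
    rw [h.cardW, Nat.card_zpowers, orderOf_eq_prime (orderOf_dvd_iff_pow_eq_one.1
      (h.cardW ▸ Subgroup.orderOf_dvd_natCard W hw)) hw1])

/-- The hypotheses of `PFLineAct` for the action on `Q / C_Q(D)`. -/
theorem action_facts (h : Shape K W W₂ Q D p q) (hπ : Function.Surjective π)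
    (hker : ∀ x : Q, π x = 1 ↔ (x : L) ∈ centralizer (D : Set L))
    (hφ : ∀ (g : L) (x : Q), φ g (π x) = π ⟨g * x * g⁻¹, h.Qn.conj_mem _ x.2 g⟩)
    {w : L} (hw : w ∈ W) (hw1 : w ≠ 1) :
    (∀ v : V, v ^ p = 1) ∧ (∀ z ∈ D.map φ, Odd (orderOf z)) ∧
      (∀ z ∈ D.map φ, (φ w)⁻¹ * z * φ w ∈ D.map φ) ∧ φ w ^ q = 1 ∧
      (∀ X : Subgroup V, PFLineAct.Inv (D.map φ : Set (MulAut V)) X →
        (∀ v ∈ X, φ w v ∈ X) → X = ⊥ ∨ X = ⊤) ∧
      (∀ d ∈ D, φ d = 1 → d ∈ centralizer (Q : Set L)) ∧ D.map φ ≠ ⊥ := by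
  have htriv : ∀ d ∈ D, φ d = 1 → d ∈ centralizer (Q : Set L) := by
    intro d hd hd1
    refine h.centralizes_of_trivial hd fun x hx => ?_
    have h1 := hφ d ⟨x, hx⟩
    rw [hd1, MulAut.one_apply] at h1
    have h2 : π ((⟨x, hx⟩ : Q)⁻¹ * ⟨d * x * d⁻¹, h.Qn.conj_mem _ hx d⟩) = 1 := by
      rw [map_mul, map_inv, ← h1, inv_mul_cancel]
    simpa [mul_assoc] using (hker _).1 h2
  refine ⟨fun v => ?_, ?_, ?_, ?_, fun X hX hXw => ?_, htriv, fun hbot => ?_⟩
  · obtain ⟨x, rfl⟩ := hπ v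
    rw [← map_pow, hker]
    exact (h.frat x x.2 x x.2).1.2
  · rintro _ ⟨d, -, rfl⟩
    exact h.hodd.of_dvd_nat ((orderOf_map_dvd φ d).trans (orderOf_dvd_natCard d))
  · rintro _ ⟨d, hd, rfl⟩
    refine ⟨w⁻¹ * d * w, ?_, by simp⟩
    have := (mem_normalizer_iff.1 ((normalizer (D : Set L)).inv_mem (h.WD hw)) d).1 hd
    simpa using this
  · rw [← map_pow, show w ^ q = 1 from orderOf_dvd_iff_pow_eq_one.1
      (h.cardW ▸ Subgroup.orderOf_dvd_natCard W hw), map_one]
  · set Y := (X.comap π).map Q.subtype with hY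
    have hYmem : ∀ x : Q, (x : L) ∈ Y ↔ π x ∈ X := fun x => by
      rw [hY]; exact Subgroup.mem_map_iff_mem Q.subtype_injective
    have hinv : ∀ g : L, (∀ v ∈ X, φ g v ∈ X) → g ∈ normalizer (Y : Set L) := by
      intro g hg
      refine mem_normalizer_fintype ?_
      intro y hy
      obtain ⟨x, hx, rfl⟩ := Subgroup.mem_map.1 hy
      refine (hYmem ⟨g * x * g⁻¹, h.Qn.conj_mem _ x.2 g⟩).2 ?_
      rw [← hφ]
      exact hg _ hx
    have hYn : Y.Normal := by
      rw [← normalizer_eq_top_iff, eq_top_iff, ← h.KW, ← h.QD]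
      refine sup_le (sup_le (fun g hg => hinv g fun v hv => ?_)
        fun g hg => hinv g fun v hv => hX _ ⟨g, hg, rfl⟩ v hv) ?_
      · obtain ⟨x, rfl⟩ := hπ v
        rw [hφ]
        have : π ⟨g * x * g⁻¹, h.Qn.conj_mem _ x.2 g⟩ = π x := by
          show π (⟨g, hg⟩ * x * ⟨g, hg⟩⁻¹) = π x
          rw [map_mul, map_mul, mul_comm (π ⟨g, hg⟩), map_inv, mul_inv_cancel_right]
        rwa [this]
      · rw [← h.W_gen hw hw1, zpowers_le]
        exact hinv w hXw
    rcases h.min Y hYn (fun x hx => (hYmem ⟨x, hx.1⟩).2 ((hker ⟨x, hx.1⟩).2 hx.2 ▸ X.one_mem))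
        (map_subtype_le _) with he | he
    · refine Or.inl ((eq_bot_iff_forall X).2 fun v hv => ?_)
      obtain ⟨x, rfl⟩ := hπ v
      have := (hYmem x).2 hv
      rw [he] at this
      exact (hker x).2 this.2
    · refine Or.inr (eq_top_iff.2 fun v _ => ?_)
      obtain ⟨x, rfl⟩ := hπ v
      refine (hYmem x).1 ?_
      rw [he]
      exact x.2
  · exact h.D_not_centralizer fun d hd =>
      htriv d hd (mem_bot.1 (hbot ▸ mem_map_of_mem φ hd))

end action

/-- When `[K, K] = F`, `C_Q(D) = 1`. -/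
theorem Q0_eq_bot (h : Shape K W W₂ Q D p q) (hd : ⁅K, K⁆ = h.F) :
    Q ⊓ centralizer (D : Set L) = ⊥ := by
  haveI := h.Qn
  obtain ⟨V, _, _, π, φ, hπ, hker, hφ, hcard⟩ := h.exists_action
  obtain ⟨w, hw, hw1⟩ := (W.bot_or_exists_ne_one).resolve_left (fun hb => h.hq.ne_one
    (h.cardW.symm.trans (Subgroup.card_eq_one.2 hb)))
  obtain ⟨hexp, hodd, hwD, hwq, hmin, -, hne⟩ := h.action_facts hπ hker hφ hw hw1
  set Q0 := Q ⊓ centralizer (D : Set L)
  have hcen := h.Q0_central hd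
  have hcq : ∀ x y : Q, ⁅(x : L), (y : L)⁆ ∈ Q0 := fun x y => (h.frat x x.2 y y.2).2
  letI : CommGroup Q0 := { (inferInstance : Group Q0) with
    mul_comm := fun a b => Subtype.ext (hcen a a.2.1 b b.2) }
  have hQab : ∀ x y : Q, x * y = y * x := by
    intro x₀ y₀
    rw [← commutatorElement_eq_one_iff_mul_comm]
    refine Subtype.ext ?_
    by_contra hne1
    have hne2 : (⟨⁅(x₀ : L), (y₀ : L)⁆, hcq x₀ y₀⟩ : Q0) ≠ 1 := fun e =>
      hne1 (congrArg Subtype.val e :)
    obtain ⟨χ, hχ⟩ := CommGroup.exists_apply_ne_one_of_hasEnoughRootsOfUnity Q0 ℂ hne2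
    -- the commutator pairing
    have hmul : ∀ x y z : Q, (⟨⁅((x * y : Q) : L), (z : L)⁆, hcq (x * y) z⟩ : Q0) =
        ⟨⁅(x : L), (z : L)⁆, hcq x z⟩ * ⟨⁅(y : L), (z : L)⁆, hcq y z⟩ := by
      intro x y z
      refine Subtype.ext ?_
      show ⁅(x : L) * y, (z : L)⁆ = ⁅(x : L), (z : L)⁆ * ⁅(y : L), (z : L)⁆
      have e : ⁅(x : L) * y, (z : L)⁆ = (x * ⁅(y : L), (z : L)⁆ * (x : L)⁻¹) * ⁅(x : L), (z : L)⁆ := by
        simp [commutatorElement_def, mul_assoc]
      rw [e, hcen x x.2 _ (hcq y z), mul_inv_cancel_right]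
      exact hcen _ (hcq y z).1 _ (hcq x z)
    have hanti : ∀ x y : Q, χ ⟨⁅(y : L), (x : L)⁆, hcq y x⟩ =
        (χ ⟨⁅(x : L), (y : L)⁆, hcq x y⟩)⁻¹ := fun x y => by
      rw [← map_inv]
      congr 1
      exact Subtype.ext (commutatorElement_inv _ _).symm
    let b1 : Q → Q →* ℂˣ := fun z =>
      { toFun := fun x => χ ⟨⁅(x : L), (z : L)⁆, hcq x z⟩
        map_one' := by
          rw [show (⟨⁅((1 : Q) : L), (z : L)⁆, hcq 1 z⟩ : Q0) = 1 from Subtype.ext (by simp)]
          exact map_one χ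
        map_mul' := fun x y => by rw [hmul, map_mul] }
    have hb1Q0 : ∀ z x : Q, π x = 1 → b1 z x = 1 := by
      intro z x hx
      show χ _ = 1
      rw [show (⟨⁅(x : L), (z : L)⁆, hcq x z⟩ : Q0) = 1 from Subtype.ext
        (commutatorElement_eq_one_iff_mul_comm.2 (hcen z z.2 x ⟨x.2, (hker x).1 hx⟩).symm)]
      exact map_one χ
    let b2 : Q → V →* ℂˣ := fun z =>
      π.liftOfSurjective hπ ⟨b1 z, fun x hx => hb1Q0 z x (MonoidHom.mem_ker.1 hx)⟩
    have hb2 : ∀ z x, b2 z (π x) = χ ⟨⁅(x : L), (z : L)⁆, hcq x z⟩ := fun z x => by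
      exact MonoidHom.liftOfRightInverse_comp_apply _ _ _ _ x
    let b3 : Q →* (V →* ℂˣ) :=
      { toFun := b2
        map_one' := by
          ext v
          obtain ⟨x, rfl⟩ := hπ v
          rw [hb2, show (⟨⁅(x : L), ((1 : Q) : L)⁆, hcq x 1⟩ : Q0) = 1 from Subtype.ext (by simp)]
          simp
        map_mul' := fun y z => by
          ext v
          obtain ⟨x, rfl⟩ := hπ v
          rw [MonoidHom.mul_apply, hb2, hb2, hb2, hanti (y * z) x, hmul, map_mul, mul_inv,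
            ← hanti y x, ← hanti z x] }
    let B : V →* V →* ℂˣ := π.liftOfSurjective hπ ⟨b3, fun z hz => MonoidHom.mem_ker.2 (by
      ext v
      obtain ⟨x, rfl⟩ := hπ v
      show ((b2 z (π x) : ℂˣ) : ℂ) = _
      rw [hb2, hanti z x]
      have := hb1Q0 x z (MonoidHom.mem_ker.1 hz)
      simp only [b1, MonoidHom.coe_mk, OneHom.coe_mk] at this
      simp [this])⟩
    have hB : ∀ x z, B (π z) (π x) = χ ⟨⁅(x : L), (z : L)⁆, hcq x z⟩ := fun x z => by
      rw [show B (π z) = b3 z from MonoidHom.liftOfRightInverse_comp_apply _ _ _ _ z]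
      exact hb2 z x
    have hall := PFLineAct.no_alt h.hp h.hq h.hq2 hcard hexp (D.map φ) hodd hne (φ w) hwD hwq hmin B
      (fun v => by
        obtain ⟨x, rfl⟩ := hπ v
        rw [hB, show (⟨⁅(x : L), (x : L)⁆, hcq x x⟩ : Q0) = 1 from Subtype.ext (by simp)]
        exact map_one χ)
      (by
        rintro _ ⟨d, hd', rfl⟩ v v'
        obtain ⟨x, rfl⟩ := hπ v
        obtain ⟨y, rfl⟩ := hπ v'
        rw [hφ, hφ, hB, hB]
        congr 1
        refine Subtype.ext ?_
        show ⁅d * (y : L) * d⁻¹, d * (x : L) * d⁻¹⁆ = ⁅(y : L), (x : L)⁆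
        have hc := mem_centralizer_iff.1 (hcq y x).2 d hd'
        rw [show ⁅d * (y : L) * d⁻¹, d * (x : L) * d⁻¹⁆ = d * ⁅(y : L), (x : L)⁆ * d⁻¹ by
          simp [commutatorElement_def, mul_assoc], hc, mul_inv_cancel_right])
    exact hχ ((hB x₀ y₀).symm.trans (hall (π y₀) (π x₀)))
  haveI : IsMulCommutative Q := ⟨⟨hQab⟩⟩
  have hbot := CoprimeAction.inf_centralizer_inf_commutator_eq_bot (V := Q) (A := D)
    (by rw [normalizer_eq_top_iff.2 h.Qn]; exact le_top) h.cop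
  rw [h.commutator_Q_D hd] at hbot
  exact le_bot_iff.1 (hbot ▸ le_inf le_rfl inf_le_left)

end Shape

end Cfsg.Agent.PFType34
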