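import Mathlib
import Cfsg.Prelude.Def_OddOrderChar
import Cfsg.Agent.Lib.PFType34Group46
import Cfsg.Agent.Lib.PF6Core43
import Cfsg.Agent.Lib.CharBasicPerm
import Cfsg.Agent.Lib.CharBasicLinear
import Cfsg.Agent.S1512
import Cfsg.Agent.S1513

/-!
The degrees of the characters of `K` in the abstract configuration of type III or IV.
-/

set_option autoImplicit false
set_option linter.style.haveILetI false
set_option linter.unusedSectionVars false

open scoped commutatorElement Pointwise

namespace Cfsg.Agent.PFType34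

universe u

open Subgroup Cfsg.Agent.CharBasic Cfsg.Agent.CharBasicOrth Cfsg.Agent.CharBasicDecomp

variable {L : Type u} [Group L] [Fintype L]

/-- A normal subgroup without non-trivial fixed points of `x` has only the principal character fixed. -/
theorem eq_one_of_fixed_free (A : Subgroup L) [A.Normal] {x : L} (hx1 : x ≠ 1)
    (hx : (orderOf x).Coprime (Nat.card A))
    (hC : ∀ y ∈ zpowers x, y ≠ 1 → A ⊓ centralizer ({y} : Set L) = ⊥)
    (ψ : Cfsg.IrrCharacter A) (hψ : CharInduced.conjFun A (ψ : A → ℂ) x = ψ) :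
    (ψ : A → ℂ) = fun _ => 1 := by
  classical
  haveI := Fintype.ofFinite A
  let α : A ≃* A := MulAut.conjNormal x
  have h := CharBasicPerm.card_fixed (fun n : A => α n)
    (fun C => ConjClasses.map α.toMonoidHom C = C)
    (fun n => by rw [show ConjClasses.map α.toMonoidHom (ConjClasses.mk n) = ConjClasses.mk (α n) from rfl,
      ConjClasses.mk_eq_mk_iff_isConj])
    (fun χ => ⟨(χ : A → ℂ) ∘ α, isIrrCharacter_comap α.toMonoidHom α.surjective χ.2⟩)
    (fun χ g => rfl)
  have hle := Cfsg.Agent.S1512.result A ⊥ x hx1 hx hC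
  rw [Subgroup.card_bot] at hle
  let S := {χ : Cfsg.IrrCharacter A //
    (⟨(χ : A → ℂ) ∘ α, isIrrCharacter_comap α.toMonoidHom α.surjective χ.2⟩ : Cfsg.IrrCharacter A) = χ}
  haveI : Subsingleton S := by
    haveI : Finite (Cfsg.IrrCharacter A) := finite_irrCharacter
    exact Finite.card_le_one_iff_subsingleton.1 (h ▸ hle)
  have h1 : (⟨(ψ : A → ℂ) ∘ α, isIrrCharacter_comap α.toMonoidHom α.surjective ψ.2⟩ :
      Cfsg.IrrCharacter A) = ψ := by
    refine Subtype.ext ?_
    rw [CharInduced.conjFun_eq_comp] at hψ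
    exact hψ
  have h2 : (⟨((trivIrr A : Cfsg.IrrCharacter A) : A → ℂ) ∘ α,
      isIrrCharacter_comap α.toMonoidHom α.surjective (trivIrr A).2⟩ : Cfsg.IrrCharacter A) = trivIrr A := by
    refine Subtype.ext ?_
    funext a
    simp [trivIrr]
  have := congrArg (fun s : S => (s.1 : A → ℂ)) (Subsingleton.elim (⟨ψ, h1⟩ : S) ⟨trivIrr A, h2⟩)
  simpa [trivIrr] using this

/-- An irreducible character of degree prime to `q` has, on every normal subgroup, a constituent fixed by
a given Sylow subgroup of order `q`. -/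
theorem exists_fixed_constituent {q : ℕ} (hq : q.Prime) (W : Subgroup L) (hW : Nat.card W = q)
    (hWi : ¬ q ∣ W.index) (A : Subgroup L) [A.Normal] [Fintype A] {μ : L → ℂ}
    (hμ : Cfsg.IsIrrCharacter L μ) (hdeg : ¬ q ∣ Cfsg.charDegree μ) :
    ∃ ψ : A → ℂ, Cfsg.IsIrrCharacter A ψ ∧ Cfsg.classInner (fun n : A => μ n) ψ ≠ 0 ∧
      ∀ x ∈ W, CharInduced.conjFun A ψ x = ψ := by
  classical
  haveI := Fact.mk hq
  have hμc := isCharacter_of_isIrrCharacter hμ
  have hres : Cfsg.IsCharacter A (fun n : A => μ n) := CharInduced.isCharacter_res A hμc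
  obtain ⟨ψ, hψ, hne⟩ := CharInduced.exists_constituent hres fun h0 =>
    isIrrCharacter_apply_one_ne_zero hμ (by simpa using congrFun h0 1)
  -- the orbit has size prime to `q`
  obtain ⟨e, he⟩ := CharInduced.coeff_nat hres hψ
  have hcl := congrFun (CharInduced.clifford A hμ hψ hne) 1
  have horb : ¬ q ∣ (CharInduced.orbitFin A ψ).card := by
    intro hdvd
    refine hdeg (hdvd.trans ⟨e * Cfsg.charDegree ψ, ?_⟩)
    have hsum : ∑ φ ∈ CharInduced.orbitFin A ψ, φ 1 =
        ((CharInduced.orbitFin A ψ).card : ℂ) * (Cfsg.charDegree ψ : ℂ) := by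
      rw [Finset.sum_congr rfl fun φ hφ => ?_, Finset.sum_const, nsmul_eq_mul]
      obtain ⟨g, rfl⟩ := (CharInduced.mem_orbitFin A).1 hφ
      rw [← PF6.deg_spec (isCharacter_of_isIrrCharacter hψ)]
      show ψ _ = ψ 1
      congr 1
      ext
      simp
    simp only [OneMemClass.coe_one, Pi.smul_apply, Finset.sum_apply, smul_eq_mul] at hcl
    rw [PF6.deg_spec hμc, he, hsum] at hcl
    have : ((Cfsg.charDegree μ : ℕ) : ℂ) =
        (((CharInduced.orbitFin A ψ).card * (e * Cfsg.charDegree ψ) : ℕ) : ℂ) := by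
      rw [hcl]; push_cast; ring
    exact_mod_cast this
  set T := CharInduced.inertia A ψ
  have hTq : q ∣ Nat.card T := by
    have h1 : q ∣ Nat.card T * (CharInduced.orbitFin A ψ).card := by
      rw [CharInduced.card_inertia_mul_card_orbit, ← hW]
      exact W.card_subgroup_dvd_card
    exact (hq.dvd_mul.1 h1).resolve_right horb
  obtain ⟨t, ht⟩ := exists_prime_orderOf_dvd_card' q hTq
  let P : Sylow q L :=
    (IsPGroup.of_card (n := 1) (by rw [hW, pow_one]) : IsPGroup q W).toSylow hWi
  have hR : IsPGroup q (zpowers (t : L)) :=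
    IsPGroup.of_card (n := 1) (by rw [Nat.card_zpowers, Subgroup.orderOf_coe, ht, pow_one])
  obtain ⟨R, hR'⟩ := hR.exists_le_sylow
  have hRc : Nat.card R = q := by
    rw [Sylow.card_eq_multiplicity, ← Sylow.card_eq_multiplicity P]
    exact hW
  have hRT : (R : Subgroup L) ≤ T := by
    rw [← eq_of_le_of_card_ge hR' (by rw [hRc, Nat.card_zpowers, Subgroup.orderOf_coe, ht])]
    exact zpowers_le.2 t.2
  obtain ⟨g, hg⟩ := MulAction.exists_smul_eq L P R
  refine ⟨CharInduced.conjFun A ψ g, CharInduced.isIrrCharacter_conjFun A hψ g, ?_, fun x hx => ?_⟩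
  · rwa [CharInduced.classInner_res_conjFun A (CharInduced.isClassFunction_irr hμ) ψ g]
  · have hxT : g * x * g⁻¹ ∈ T := by
      refine hRT ?_
      rw [← hg]
      exact ⟨x, hx, by simp [MulAut.conj_apply]⟩
    rw [CharInduced.conjFun_conjFun, ← show g * x * g⁻¹ * g = g * x by simp,
      ← CharInduced.conjFun_conjFun, (CharInduced.mem_inertia A).1 hxT]

namespace Shape

variable {K W W₂ Q D : Subgroup L} {p q : ℕ}

theorem W_ne (h : Shape K W W₂ Q D p q) : W ≠ ⊥ := fun hb =>
  h.hq.ne_one (h.cardW.symm.trans (Subgroup.card_eq_one.2 hb))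

theorem W_index (h : Shape K W W₂ Q D p q) : W.index = Nat.card K := by
  have h1 := W.card_mul_index
  rw [← K.card_mul_index, h.K_index, h.cardW, mul_comm (Nat.card K)] at h1
  exact Nat.eq_of_mul_eq_mul_left h.hq.pos h1

theorem W_cyclic (h : Shape K W W₂ Q D p q) : IsCyclic W := by
  haveI := Fact.mk h.hq
  exact isCyclic_of_prime_card h.cardW

theorem S1513_data (h : Shape K W W₂ Q D p q) :
    haveI := h.Kn
    (∀ θ : K → ℂ, Cfsg.IsIrrCharacter K θ → (∃ x ∈ W, CharInduced.conjFun K θ x ≠ θ) →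
        Cfsg.IsIrrCharacter L (Cfsg.indFun K θ)) ∧
      (∀ θ : K → ℂ, Cfsg.IsIrrCharacter K θ → (∀ x ∈ W, CharInduced.conjFun K θ x = θ) →
        ∃ C : Finset (L → ℂ), C.card = Nat.card W ∧ (∀ μ ∈ C, Cfsg.IsIrrCharacter L μ) ∧
          Cfsg.indFun K θ = ∑ μ ∈ C, μ) := by
  haveI := h.Kn
  haveI := Fact.mk h.hp
  obtain ⟨h1, -, h3⟩ := Cfsg.Agent.S1513.aux K W W₂ h.KiW h.KW h.W_ne h.W_cyclic
    (by rw [h.W_index]; exact h.cop_W le_rfl) (isCyclic_of_prime_card h.cardW2)
    ((h.W2le.trans inf_le_left).trans h.Q_le) h.fix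
  exact ⟨h1, h3⟩

/-- Degrees above `C_D(Q)` are at most `u`. -/
theorem deg_le (h : Shape K W W₂ Q D p q) (θ : Cfsg.IrrCharacter K)
    (hθ : ∀ a : K, (a : L) ∈ h.F1 → (θ : K → ℂ) a = (θ : K → ℂ) 1) :
    Cfsg.charDegree (θ : K → ℂ) ≤ h.F.relIndex K := by
  haveI := h.Kn
  haveI := h.F1_normal
  have h1 := PF6.deg_bound (K := K) (θ := θ) h.F1_le_F le_rfl h.F_le_K
    (fun x hx y hy => h.commutator_F_le (commutator_mem_commutator hx hy)) hθ
  have h2 : Nat.card K = h.F.relIndex K * Nat.card h.F := by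
    have := Subgroup.relIndex_mul_relIndex ⊥ h.F K bot_le h.F_le_K
    rw [relIndex_bot_left, relIndex_bot_left] at this
    rw [← this, mul_comm]
  rw [h2, mul_pow, sq (Nat.card h.F)] at h1
  exact Nat.pow_le_pow_iff_left two_ne_zero |>.1 (Nat.le_of_mul_le_mul_right h1
    (Nat.mul_pos Nat.card_pos Nat.card_pos))

/-- Once `C_Q(D) = 1`, the characters of `K` fixed by `W` have degree `u` (or are principal). -/
theorem deg_of_invariant (h : Shape K W W₂ Q D p q)
    (hQ0 : Q ⊓ centralizer (D : Set L) = ⊥) {θ : K → ℂ} (hθ : Cfsg.IsIrrCharacter K θ)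
    (hθ1 : θ ≠ fun _ => 1)
    (hinv : haveI := h.Kn; ∀ x ∈ W, CharInduced.conjFun K θ x = θ) :
    Cfsg.charDegree θ = h.F.relIndex K := by
  classical
  haveI := h.Kn
  haveI := h.Qn
  haveI := Fact.mk h.hp
  haveI := Fact.mk h.hq
  haveI := Fintype.ofFinite K
  -- an extension `μ` of `θ`
  obtain ⟨C, hCc, hCi, hind⟩ := h.S1513_data.2 θ hθ hinv
  obtain ⟨μ, hμC⟩ : C.Nonempty := Finset.card_pos.1 (hCc ▸ Nat.card_pos)
  have hμ := hCi μ hμC
  have hcoef : Cfsg.classInner (fun k : K => μ k) θ = 1 := by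
    have h1 : Cfsg.classInner (Cfsg.indFun K θ) μ = 1 := by
      rw [hind, CharInduced.inner_sum_left, Finset.sum_eq_single μ
        (fun ψ hψ hne => classInner_irr_ne (hCi ψ hψ) hμ hne) (fun h => absurd hμC h), classInner_irr_self hμ]
    rw [CharInduced.inner_ind_left K θ (CharInduced.isClassFunction_irr hμ),
      CharInduced.classInner_comm_of_isCharacter (isCharacter_of_isIrrCharacter hθ)
        (CharInduced.isCharacter_res K (isCharacter_of_isIrrCharacter hμ))] at h1
    exact h1
  have hinv' : ∀ g : L, CharInduced.conjFun K θ g = θ := by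
    intro g
    obtain ⟨k, hk, w, hw, rfl⟩ := Subgroup.mem_sup_of_normal_left.1 (h.KW ▸ Subgroup.mem_top g)
    rw [← CharInduced.conjFun_conjFun, CharInduced.conjFun_mem_eq K (CharInduced.isClassFunction_irr hθ) hk]
    exact hinv w hw
  have hres : (fun k : K => μ k) = θ := by
    rw [CharInduced.res_eq_smul_of_invariant K hθ hinv' hμ (by rw [hcoef]; exact one_ne_zero), hcoef,
      one_smul]
  have hdeg : Cfsg.charDegree μ = Cfsg.charDegree θ := by
    simp only [Cfsg.charDegree]
    rw [← congrFun hres 1]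
    rfl
  have hqdeg : ¬ q ∣ Cfsg.charDegree μ := fun hd => h.hqK
    ((hd.trans (hdeg ▸ CharKernel.charDegree_dvd_index ⟨θ, hθ⟩)).trans (index_dvd_card _))
  have hWi : ¬ q ∣ W.index := h.W_index ▸ h.hqK
  -- `μ` is trivial on `C_D(Q)`
  set C0 := D ⊓ centralizer (Q : Set L) with hC0
  haveI := h.C_normal
  have hC0K : C0 ≤ K := inf_le_left.trans h.D_le
  have htrivC : ∀ a : L, a ∈ C0 → μ a = μ 1 := by
    haveI := Fintype.ofFinite C0
    obtain ⟨ψ, hψ, hψne, hψfix⟩ := exists_fixed_constituent h.hq W h.cardW hWi C0 hμ hqdeg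
    obtain ⟨x, hx, hx1⟩ := (W.bot_or_exists_ne_one).resolve_left h.W_ne
    have hψ1 : ψ = fun _ => 1 := eq_one_of_fixed_free C0 hx1
      ((h.cop_W hC0K).coprime_dvd_left (Subgroup.orderOf_dvd_natCard W hx))
      (fun y hy hy1 => by
        rw [eq_bot_iff]
        intro z hz
        have hzW2 : z ∈ W₂ := (h.fix y (zpowers_le.2 hx hy) hy1).le ⟨hC0K hz.1, hz.2⟩
        have : z ∈ Q ⊓ D := ⟨(h.W2le hzW2).1, hz.1.1⟩
        rwa [h.QiD] at this)
      ⟨ψ, hψ⟩ (hψfix x hx)
    subst hψ1
    have h := CharInduced.res_eq_smul_of_invariant C0 hψ (fun g => rfl) hμ hψne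
    intro a ha
    have h2 := congrFun h ⟨a, ha⟩
    have h3 := congrFun h 1
    simp only [Pi.smul_apply, OneMemClass.coe_one] at h2 h3
    rw [h2, h3]
  -- a fixed constituent on `Q`
  haveI := Fintype.ofFinite Q
  obtain ⟨ψ, hψ, hψne, hψfix⟩ := exists_fixed_constituent h.hq W h.cardW hWi Q hμ hqdeg
  have hQab : ∀ a b : Q, a * b = b * a := fun a b => by
    have := (h.frat a a.2 b b.2).2
    rw [hQ0, mem_bot, commutatorElement_eq_one_iff_mul_comm] at this
    exact Subtype.ext this
  obtain ⟨χ, hχ⟩ := CharBasicLinear.exists_hom_of_comm hQab hψ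
  have hF1 : h.F1 = C0 := by rw [F1, hQ0, bot_sup_eq]
  refine le_antisymm (h.deg_le ⟨θ, hθ⟩ fun a ha => ?_) ?_
  · show θ a = θ 1
    rw [← congrFun hres a, ← congrFun hres 1]
    exact htrivC a (hF1 ▸ ha)
  · by_cases hψ1 : ψ = fun _ => 1
    · -- then `μ` would be trivial on `F`, hence `θ` principal
      exfalso
      subst hψ1
      have hQtriv := CharInduced.res_eq_smul_of_invariant Q hψ (fun g => rfl) hμ hψne
      have hQtriv' : ∀ a : L, a ∈ Q → μ a = μ 1 := by
        intro a ha
        have h2 := congrFun hQtriv ⟨a, ha⟩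
        have h3 := congrFun hQtriv 1
        simp only [Pi.smul_apply, OneMemClass.coe_one] at h2 h3
        rw [h2, h3]
      let θ' : Cfsg.IrrCharacter K := ⟨θ, hθ⟩
      haveI := CharKernel.irrKer_normal θ'
      have hker : ∀ a : K, (a : L) ∈ h.F → a ∈ CharKernel.irrKer θ' := by
        have hmem : ∀ b : K, μ (b : L) = μ 1 → b ∈ CharKernel.irrKer θ' := fun b hb => by
          rw [CharKernel.mem_irrKer]
          show θ b = θ 1
          rw [← congrFun hres b, ← congrFun hres 1]
          exact hb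
        intro a ha
        have ha' : (a : L) ∈ ((Q ⊔ C0 : Subgroup L) : Set L) := ha
        rw [normal_mul] at ha'
        obtain ⟨x, hx, y, hy, hxy⟩ := Set.mem_mul.1 ha'
        have : a = (⟨x, h.Q_le hx⟩ : K) * ⟨y, hC0K hy⟩ := Subtype.ext hxy.symm
        rw [this]
        exact mul_mem (hmem _ (hQtriv' x hx)) (hmem _ (htrivC y hy))
      have hcomm : ∀ a b : K, ⁅a, b⁆ ∈ CharKernel.irrKer θ' := fun a b =>
        hker _ (h.commutator_K_le_F (commutator_mem_commutator a.2 b.2))
      obtain ⟨ψ', hψ'⟩ := CharKernel.exists_quot_irr (CharKernel.irrKer θ') θ' fun n hn => hn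
      obtain ⟨lam, hlam⟩ := CharBasicLinear.exists_hom_of_comm (fun a b => by
        induction a using QuotientGroup.induction_on with | _ x => ?_
        induction b using QuotientGroup.induction_on with | _ y => ?_
        rw [← commutatorElement_eq_one_iff_mul_comm]
        exact (QuotientGroup.eq_one_iff _).2 (hcomm x y)) ψ'.2
      set l : K →* ℂˣ := lam.comp (QuotientGroup.mk' (CharKernel.irrKer θ'))
      have hθl : ∀ k : K, θ k = (l k : ℂ) := fun k => by
        rw [show θ k = (θ' : K → ℂ) k from rfl, hψ' k, hlam]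
        rfl
      obtain ⟨x, hx, hx1⟩ := (W.bot_or_exists_ne_one).resolve_left h.W_ne
      -- `k ↦ [x, k]` is surjective modulo `F`
      haveI := h.F_normal
      haveI : (h.F.subgroupOf K).Normal := Subgroup.Normal.subgroupOf h.F_normal K
      let c : K → K := fun k => ⟨x * k * x⁻¹, h.Kn.conj_mem _ k.2 x⟩
      let f : K ⧸ h.F.subgroupOf K → K ⧸ h.F.subgroupOf K := fun z => Quotient.liftOn' z
        (fun k => ((c k * k⁻¹ : K) : K ⧸ h.F.subgroupOf K)) fun a b hab => by
          rw [QuotientGroup.leftRel_apply, mem_subgroupOf] at hab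
          show ((c a * a⁻¹ : K) : K ⧸ h.F.subgroupOf K) = ((c b * b⁻¹ : K) : K ⧸ h.F.subgroupOf K)
          have h1 : (((c a)⁻¹ * c b : K) : L) ∈ h.F := conj_mod h.F_normal h.Kn a b hab
          have h2 : ((b⁻¹ * a : K) : L) ∈ h.F := by simpa using h.F.inv_mem hab
          rw [QuotientGroup.eq, mem_subgroupOf]
          simpa [mul_assoc] using h.F_normal.conj_mem _ (h.F.mul_mem h1 h2) (a : L)
      have hfinj : Function.Injective f := by
        intro z z'
        induction z using QuotientGroup.induction_on with | _ a => ?_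
        induction z' using QuotientGroup.induction_on with | _ b => ?_
        intro hab
        have hab' : ((c a * a⁻¹ : K) : K ⧸ h.F.subgroupOf K) = (c b * b⁻¹ : K) := hab
        rw [QuotientGroup.eq, mem_subgroupOf]
        refine h.mem_of_fixed h.F_normal h.F_le_K h.W2_le_F hx hx1 (a⁻¹ * b).2 ?_
        have e : ((c (a⁻¹ * b) * (a⁻¹ * b)⁻¹ : K) : K ⧸ h.F.subgroupOf K) = 1 := by
          have hc : c (a⁻¹ * b) * (a⁻¹ * b)⁻¹ = (c a)⁻¹ * (c b * b⁻¹) * a := by
            ext; simp [c, mul_assoc]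
          rw [hc, QuotientGroup.mk_mul, QuotientGroup.mk_mul, ← hab', ← QuotientGroup.mk_mul,
            ← QuotientGroup.mk_mul]
          simp
        rw [QuotientGroup.eq_one_iff, mem_subgroupOf] at e
        simpa [c, mul_assoc] using e
      have hfsurj := Finite.injective_iff_surjective.1 hfinj
      refine hθ1 (funext fun k => ?_)
      obtain ⟨z, hz⟩ := hfsurj (k : K ⧸ h.F.subgroupOf K)
      induction z using QuotientGroup.induction_on with | _ a => ?_
      have hz' : ((c a * a⁻¹ : K) : K ⧸ h.F.subgroupOf K) = k := hz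
      rw [QuotientGroup.eq, mem_subgroupOf] at hz'
      have h1 : l ((c a * a⁻¹)⁻¹ * k) = 1 := Units.ext (by
        rw [← hθl]
        refine ((CharKernel.mem_irrKer.1 (hker _ hz') : θ _ = θ 1)).trans ?_
        show θ 1 = _
        rw [hθl, map_one])
      have h2 : l (c a) = l a := Units.ext (by
        rw [← hθl, ← hθl]
        exact congrFun (hinv x hx) a)
      rw [map_mul, map_inv, map_mul, map_inv, h2, mul_inv_cancel, inv_one, one_mul] at h1
      rw [hθl, h1, Units.val_one]
    -- otherwise the stabiliser in `K` of `ψ` is `F`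
    set T := CharInduced.inertia Q ψ
    set S := T ⊓ K
    have hFT : h.F ≤ S := by
      refine le_inf ?_ h.F_le_K
      refine sup_le (CharInduced.le_inertia Q (CharInduced.isClassFunction_irr hψ)) fun g hg => ?_
      rw [CharInduced.mem_inertia]
      funext n
      show ψ _ = ψ n
      congr 1
      ext
      show g * (n : L) * g⁻¹ = n
      rw [(mem_centralizer_iff.1 hg.2 n n.2).symm, mul_inv_cancel_right]
    haveI hSn : S.Normal := by
      rw [← normalizer_eq_top_iff, eq_top_iff, ← h.KW]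
      refine sup_le (fun k hk => mem_normalizer_fintype fun s hs => ?_)
        fun w hw => mem_normalizer_fintype fun s hs => ?_
      · have h1 : k * s * k⁻¹ * s⁻¹ ∈ S := hFT (h.commutator_K_le_F
          (commutator_mem_commutator hk hs.2))
        simpa using S.mul_mem h1 hs
      · exact ⟨T.mul_mem (T.mul_mem ((CharInduced.mem_inertia Q).2 (hψfix w hw)) hs.1)
          ((CharInduced.mem_inertia Q).2 (hψfix _ (W.inv_mem hw))), h.Kn.conj_mem _ hs.2 w⟩
    have hSF : S = h.F := by
      refine le_antisymm ?_ hFT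
      haveI : (⁅Q, S⁆ : Subgroup L).Normal := Subgroup.commutator_normal Q S
      rcases h.min ⁅Q, S⁆ inferInstance (hQ0 ▸ bot_le) (Subgroup.commutator_le_left Q S) with he | he
      · rw [hQ0, Subgroup.commutator_eq_bot_iff_le_centralizer] at he
        intro s hs
        have hsQ : s ∈ centralizer (Q : Set L) :=
          mem_centralizer_iff.2 fun x hx => (mem_centralizer_iff.1 (he hx) s hs).symm
        obtain ⟨a, ha, b, hb, rfl⟩ := Set.mem_mul.1 (show s ∈ (Q : Set L) * (D : Set L) by
          rw [← normal_mul, h.QD]; exact hs.2)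
        refine mul_mem (Subgroup.mem_sup_left ha) (Subgroup.mem_sup_right ⟨hb, ?_⟩)
        refine mem_centralizer_iff.2 fun x hx => mul_left_cancel (a := a) ?_
        calc a * (x * b) = x * (a * b) := by
              rw [← mul_assoc, show a * x = x * a from congrArg Subtype.val (hQab ⟨a, ha⟩ ⟨x, hx⟩),
                mul_assoc]
          _ = a * (b * x) := by rw [mem_centralizer_iff.1 hsQ x hx, mul_assoc]
      · refine absurd ?_ hψ1
        have hle : ⁅Q, S⁆ ≤ χ.ker.map Q.subtype := by
          rw [Subgroup.commutator_le]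
          intro a ha s hs
          have hm : ⁅a, s⁆ ∈ Q := Subgroup.commutator_le_left Q S (commutator_mem_commutator ha hs)
          refine ⟨⟨⁅a, s⁆, hm⟩, ?_, rfl⟩
          have h1 := congrFun ((CharInduced.mem_inertia Q).1 hs.1) (⟨a, ha⟩⁻¹ : Q)
          rw [hχ] at h1
          have e : (⟨⁅a, s⁆, hm⟩ : Q) = ⟨a, ha⟩ *
              ⟨s * ((⟨a, ha⟩⁻¹ : Q) : L) * s⁻¹, h.Qn.conj_mem _ (⟨a, ha⟩⁻¹ : Q).2 s⟩ := by
            ext; simp [commutatorElement_def, mul_assoc]
          rw [SetLike.mem_coe, MonoidHom.mem_ker, e, map_mul, Units.ext h1, map_inv, mul_inv_cancel]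
        rw [hχ]
        funext n
        obtain ⟨m, hm, hme⟩ := (he.ge.trans hle) n.2
        rw [← Subtype.ext hme, show χ m = 1 from MonoidHom.mem_ker.1 hm, Units.val_one]
    -- the orbit
    obtain ⟨e, he⟩ := CharInduced.coeff_nat (CharInduced.isCharacter_res Q (isCharacter_of_isIrrCharacter hμ)) hψ
    have hcl := congrFun (CharInduced.clifford Q hμ hψ hψne) 1
    have hsum : ∑ φ ∈ CharInduced.orbitFin Q ψ, φ 1 = ((CharInduced.orbitFin Q ψ).card : ℂ) := by
      rw [Finset.sum_congr rfl fun φ hφ => ?_, Finset.sum_const, nsmul_eq_mul, mul_one]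
      obtain ⟨g, rfl⟩ := (CharInduced.mem_orbitFin Q).1 hφ
      show ψ _ = 1
      rw [hχ]
      simp only [OneMemClass.coe_one, mul_one, mul_inv_cancel]
      exact congrArg Units.val (map_one χ)
    simp only [OneMemClass.coe_one, Pi.smul_apply, Finset.sum_apply, smul_eq_mul] at hcl
    rw [PF6.deg_spec (isCharacter_of_isIrrCharacter hμ), he, hsum] at hcl
    have heq : Cfsg.charDegree μ = e * (CharInduced.orbitFin Q ψ).card := by exact_mod_cast hcl
    have he0 : 0 < e := Nat.pos_of_ne_zero fun h0 => hψne (by rw [he, h0, Nat.cast_zero])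
    refine le_trans ?_ (hdeg ▸ heq ▸ Nat.le_mul_of_pos_left _ he0)
    have hTK : Nat.card T ≤ Nat.card S * q := by
      have h1 := Subgroup.relIndex_mul_relIndex ⊥ S T bot_le inf_le_left
      rw [relIndex_bot_left, relIndex_bot_left, inf_relIndex_left] at h1
      rw [← h1]
      refine Nat.mul_le_mul_left _ ?_
      have := Subgroup.relIndex_le_of_le_right (H := K) (le_top : T ≤ ⊤)
        (by rw [relIndex_top_right, h.K_index]; exact h.hq.ne_zero)
      rwa [relIndex_top_right, h.K_index] at this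
    have horb := CharInduced.card_inertia_mul_card_orbit Q ψ
    have hL : Nat.card L = Nat.card h.F * h.F.relIndex K * q := by
      rw [← K.card_mul_index, h.K_index]
      have := Subgroup.relIndex_mul_relIndex ⊥ h.F K bot_le h.F_le_K
      rw [relIndex_bot_left, relIndex_bot_left] at this
      rw [this]
    rw [hSF] at hTK
    refine Nat.le_of_mul_le_mul_left
      (?_ : Nat.card h.F * q * _ ≤ Nat.card h.F * q * _) (Nat.mul_pos Nat.card_pos h.hq.pos)
    calc Nat.card h.F * q * h.F.relIndex K = Nat.card L := by rw [hL]; ring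
      _ = Nat.card T * (CharInduced.orbitFin Q ψ).card := horb.symm
      _ ≤ Nat.card h.F * q * (CharInduced.orbitFin Q ψ).card := Nat.mul_le_mul_right _ hTK

end Shape

end Cfsg.Agent.PFType34
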