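import Mathlib
import Cfsg.Agent.Lib.PFType34Chars46

/-!
Type IV shape: the irreducible case forces `D` abelian; otherwise the block of characters of degree
`q r` living on one line.
-/

set_option autoImplicit false
set_option linter.style.haveILetI false
set_option linter.unusedSectionVars false

open scoped commutatorElement Pointwise

namespace Cfsg.Agent.PFType34

universe u

open Subgroup Cfsg.Agent.CharBasic Cfsg.Agent.CharBasicOrth Cfsg.Agent.CharBasicDecomp

theorem mem_commutator_of_coe {X : Type u} [Group X] {H : Subgroup X} {x : H}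
    (hx : (x : X) ∈ ⁅H, H⁆) : x ∈ commutator H := by
  have h : (commutator H).map H.subtype = ⁅H, H⁆ := by
    rw [commutator_def, Subgroup.map_commutator, ← MonoidHom.range_eq_map, Subgroup.range_subtype]
  rw [← h] at hx
  obtain ⟨y, hy, e⟩ := hx
  exact H.subtype_injective e ▸ hy

/-- A finite nilpotent group generated by a subgroup and the derived group equals the subgroup. -/
theorem eq_top_of_sup_commutator {N : Type u} [Group N] [Finite N] [Group.IsNilpotent N]
    (S : Subgroup N) (h : S ⊔ commutator N = ⊤) : S = ⊤ := by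
  by_contra hne
  obtain ⟨M, hM, hSM⟩ := (eq_top_or_exists_le_coatom S).resolve_left hne
  haveI hMn : M.Normal := Subgroup.NormalizerCondition.normal_of_coatom M normalizerCondition_of_isNilpotent hM
  haveI : IsSimpleGroup (N ⧸ M) := by
    haveI : Nontrivial (N ⧸ M) := QuotientGroup.nontrivial_iff.2 hM.1
    refine ⟨fun X hX => ?_⟩
    have hle : M ≤ X.comap (QuotientGroup.mk' M) := fun x hx => by
      rw [mem_comap, QuotientGroup.mk'_apply, (QuotientGroup.eq_one_iff x).2 hx]
      exact X.one_mem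
    rcases hM.le_iff.1 hle with h | h
    · refine Or.inr ?_
      rw [← map_comap_eq_self_of_surjective (QuotientGroup.mk'_surjective M) X, h,
        map_top_of_surjective _ (QuotientGroup.mk'_surjective M)]
    · refine Or.inl ?_
      rw [← map_comap_eq_self_of_surjective (QuotientGroup.mk'_surjective M) X, h,
        QuotientGroup.map_mk'_self]
  have hle : commutator N ≤ M := by
    rw [commutator_def, commutator_le]
    intro a _ b _
    rw [← QuotientGroup.eq_one_iff]
    show QuotientGroup.mk' M ⁅a, b⁆ = 1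
    rw [map_commutatorElement, commutatorElement_eq_one_iff_mul_comm]
    haveI : Group.IsSolvable (N ⧸ M) := inferInstance
    exact IsSimpleGroup.comm_iff_isSolvable.2 inferInstance _ _
  exact hM.1 (top_le_iff.1 (h ▸ sup_le hSM hle))

theorem card_sup_le {X : Type u} [Group X] [Finite X] {H K : Subgroup X}
    (hc : ∀ h ∈ H, ∀ k ∈ K, h * k = k * h) : Nat.card ↥(H ⊔ K) ≤ Nat.card H * Nat.card K := by
  let f := MonoidHom.noncommCoprod H.subtype K.subtype fun h k => hc h h.2 k k.2
  have hr : f.range = H ⊔ K := by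
    exact (MonoidHom.noncommCoprod_range _ _ _).trans (by rw [Subgroup.range_subtype, Subgroup.range_subtype])
  rw [← hr, ← Nat.card_prod]
  exact Nat.card_le_card_of_surjective f.rangeRestrict f.rangeRestrict_surjective

variable {L : Type u} [Group L] [Fintype L]

namespace Shape

variable {K W W₂ Q D : Subgroup L} {p q : ℕ}

theorem Q_comm (h : Shape K W W₂ Q D p q) (hQ0 : Q ⊓ centralizer (D : Set L) = ⊥) :
    ∀ a ∈ Q, ∀ b ∈ Q, a * b = b * a := fun a ha b hb => by
  have := (h.frat a ha b hb).2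
  rwa [hQ0, mem_bot, commutatorElement_eq_one_iff_mul_comm] at this

/-- With `C_D(Q) ≠ 1`, `Q` is spanned by the `W`-conjugates of a `D`-invariant line. -/
theorem exists_line (h : Shape K W W₂ Q D p q) (hd : ⁅K, K⁆ = h.F)
    (hC : D ⊓ centralizer (Q : Set L) ≠ ⊥) :
    ∃ w ∈ W, w ≠ 1 ∧ ∃ l : Subgroup L, l ≤ Q ∧ Nat.card l = p ∧ D ≤ normalizer (l : Set L) ∧
      ∀ E : Subgroup L, (∀ i : ℕ, ∀ x ∈ l, w ^ i * x * (w ^ i)⁻¹ ∈ E) → Q ≤ E := by
  haveI := h.Qn
  haveI := h.Dnil
  have hQ0 := h.Q0_eq_bot hd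
  obtain ⟨V, _, _, π, φ, hπ, hker, hφ, hcard⟩ := h.exists_action
  obtain ⟨w, hw, hw1⟩ := (W.bot_or_exists_ne_one).resolve_left h.W_ne
  refine ⟨w, hw, hw1, ?_⟩
  obtain ⟨hexp, hodd, hwD, hwq, hmin, htriv, hne⟩ := h.action_facts hπ hker hφ hw hw1
  have hinj : Function.Injective π := (injective_iff_map_eq_one π).2 fun x hx => by
    have : (x : L) ∈ Q ⊓ centralizer (D : Set L) := ⟨x.2, (hker x).1 hx⟩
    rw [hQ0, mem_bot] at this
    exact Subtype.ext this
  rcases PFLineAct.dichotomy h.hp h.hq hcard (D.map φ) (φ w) hwD hwq hmin with hirr | ⟨l, hl, hli, hgen⟩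
  · exfalso
    haveI : Nontrivial V := Finite.one_lt_card_iff_nontrivial.1
      (hcard ▸ Nat.one_lt_pow h.hq.ne_zero h.hp.one_lt)
    have hCD := h.commutator_D_eq hd
    have hDc : ∀ a ∈ D.map φ, ∀ b ∈ D.map φ, a * b = b * a := by
      rintro _ ⟨a, ha, rfl⟩ _ ⟨b, hb, rfl⟩
      rw [← commutatorElement_eq_one_iff_mul_comm, ← map_commutatorElement]
      refine MulEquiv.ext fun v => ?_
      obtain ⟨x, rfl⟩ := hπ v
      rw [hφ, MulAut.one_apply]
      congr 1
      ext
      have hc : ⁅a, b⁆ ∈ centralizer (Q : Set L) := h.DD (commutator_mem_commutator ha hb)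
      show ⁅a, b⁆ * (x : L) * ⁅a, b⁆⁻¹ = x
      rw [(mem_centralizer_iff.1 hc x x.2).symm, mul_inv_cancel_right]
    haveI hcyc := PFLineAct.isCyclic_of_irreducible (D.map φ) hDc hirr
    obtain ⟨⟨g, hg⟩, hgen⟩ := hcyc.exists_generator
    obtain ⟨d, hd', rfl⟩ := hg
    have hsup : zpowers (⟨d, hd'⟩ : D) ⊔ commutator D = ⊤ := by
      refine eq_top_iff.2 fun x _ => ?_
      obtain ⟨n, hn⟩ := mem_zpowers_iff.1 (hgen ⟨φ x, mem_map_of_mem φ x.2⟩)
      have hn' : φ d ^ n = φ (x : L) := by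
        have := congrArg Subtype.val hn
        simpa using this
      have hxc : (((⟨d, hd'⟩ : D) ^ n)⁻¹ * x : D) ∈ commutator D := by
        have h1 : ((((⟨d, hd'⟩ : D) ^ n)⁻¹ * x : D) : L) ∈ ⁅D, D⁆ := by
          rw [hCD]
          refine ⟨SetLike.coe_mem _, htriv _ (SetLike.coe_mem _) ?_⟩
          simp [hn']
        exact mem_commutator_of_coe h1
      simpa using mul_mem (Subgroup.mem_sup_left (T := commutator D) (zpow_mem (mem_zpowers _) n))
        (Subgroup.mem_sup_right (S := zpowers (⟨d, hd'⟩ : D)) hxc)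
    have htop := eq_top_of_sup_commutator _ hsup
    refine hC (hCD ▸ (le_bot_iff.1 (Subgroup.commutator_le.2 fun a ha b hb => ?_)))
    obtain ⟨i, hi⟩ := mem_zpowers_iff.1 (htop ▸ mem_top (⟨a, ha⟩ : D))
    obtain ⟨j, hj⟩ := mem_zpowers_iff.1 (htop ▸ mem_top (⟨b, hb⟩ : D))
    rw [mem_bot, commutatorElement_eq_one_iff_mul_comm]
    have := (Commute.refl (⟨d, hd'⟩ : D)).zpow_zpow i j
    rw [hi, hj] at this
    exact congrArg Subtype.val this
  · refine ⟨(l.comap π).map Q.subtype, map_subtype_le _, ?_, ?_, fun E hE => ?_⟩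
    · have e := Subgroup.card_map_of_injective (K := l.comap π) (f := π) hinj
      rw [map_comap_eq_self_of_surjective hπ] at e
      rw [Subgroup.card_map_of_injective Q.subtype_injective, ← e, hl]
    · intro d hd'
      refine mem_normalizer_fintype ?_
      rintro _ ⟨x, hx, rfl⟩
      refine ⟨⟨d * x * d⁻¹, h.Qn.conj_mem _ x.2 d⟩, ?_, rfl⟩
      show π _ ∈ l
      rw [← hφ]
      exact hli _ (mem_map_of_mem φ hd') _ hx
    · have htop : (E.subgroupOf Q).map π = ⊤ := hgen _ fun i v hv => by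
        obtain ⟨x, rfl⟩ := hπ v
        rw [← map_pow, hφ]
        exact mem_map_of_mem π (mem_subgroupOf.2 (hE i x (mem_map_of_mem Q.subtype hv)))
      intro x hx
      obtain ⟨y, hy, e⟩ := (htop ▸ mem_top (π ⟨x, hx⟩) : π ⟨x, hx⟩ ∈ (E.subgroupOf Q).map π)
      rw [hinj e] at hy
      exact hy

/-- The block of characters of degree `q r` attached to a line. -/
theorem exists_block (h : Shape K W W₂ Q D p q) (hd : ⁅K, K⁆ = h.F)
    (hC : D ⊓ centralizer (Q : Set L) ≠ ⊥) {r m : ℕ} (hr : r.Prime) (hu : h.F.relIndex K = r ^ m)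
    (hexp : ∀ k ∈ K, k ^ r ∈ h.F) (hqr : ¬ q ∣ r - 1) :
    2 * r + 1 ≤ p ∧ r ∣ h.F.relIndex K ∧
      ∃ X : Finset (L → ℂ), ↑X ⊆ Cfsg.inducedIrrAbove K ⊥ ∧
        (∀ φ ∈ X, Cfsg.IsIrrCharacter L φ) ∧ (∀ φ ∈ X, φ 1 = (q * r : ℂ)) ∧
        (∀ φ ∈ X, Cfsg.conjFun φ ∈ X) ∧ (p - 1) * h.F.relIndex K ≤ X.card * r ^ 2 := by
  classical
  haveI := h.Kn
  haveI := h.Qn
  haveI := h.F_normal
  haveI := h.C_normal
  haveI := Fact.mk h.hp
  haveI := Fintype.ofFinite K
  have hQ0 := h.Q0_eq_bot hd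
  have hQc := h.Q_comm hQ0
  set u := h.F.relIndex K with hu'
  have hm : m ≠ 0 := by
    intro hm
    have h2 : 2 * q + 1 ≤ 1 := by
      have := h.u_bound.2.2
      rwa [← hu', hu, hm, pow_zero] at this
    have := h.hq.pos
    omega
  have hru : r ∣ u := by rw [hu]; exact dvd_pow_self r hm
  obtain ⟨w, hw, hw1, l, hlQ, hlc, hDl, hgen⟩ := h.exists_line hd hC
  have hKl : K ≤ normalizer (l : Set L) := by
    rw [← h.QD]
    refine sup_le (fun x hx => centralizer_le_normalizer _
      (mem_centralizer_iff.2 fun y hy => hQc y (hlQ hy) x hx)) hDl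
  set C0 := D ⊓ centralizer (Q : Set L) with hC0
  have hC0K : C0 ≤ K := inf_le_left.trans h.D_le
  -- the sum of the other lines
  set P : Subgroup L := (Finset.Ico 1 q).sup fun i => l.map (MulAut.conj (w ^ i)).toMonoidHom with hP
  have hline : ∀ i, l.map (MulAut.conj (w ^ i)).toMonoidHom ≤ Q := fun i => by
    rintro _ ⟨x, hx, rfl⟩
    exact h.Qn.conj_mem x (hlQ hx) _
  have hPQ : P ≤ Q := Finset.sup_le fun i _ => hline i
  have hPcard : Nat.card P ≤ p ^ (q - 1) := by
    have hgenl : ∀ S : Finset ℕ, S.sup (fun i => l.map (MulAut.conj (w ^ i)).toMonoidHom) ≤ Q ∧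
        Nat.card ↥(S.sup fun i => l.map (MulAut.conj (w ^ i)).toMonoidHom) ≤ p ^ S.card := by
      intro S
      induction S using Finset.induction_on with
      | empty => exact ⟨Finset.sup_le fun i hi => absurd hi (Finset.notMem_empty i), by simp⟩
      | insert i S hi ih =>
        rw [Finset.sup_insert, Finset.card_insert_of_notMem hi, pow_succ']
        refine ⟨sup_le (hline i) ih.1, (card_sup_le fun a ha b hb => hQc a (hline i ha) b (ih.1 hb)).trans
          (Nat.mul_le_mul ?_ ih.2)⟩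
        rw [Subgroup.card_map_of_injective (MulAut.conj (w ^ i)).injective, hlc]
    have := (hgenl (Finset.Ico 1 q)).2
    rwa [Nat.card_Ico] at this
  have hDP : ∀ d ∈ D, d ∈ normalizer (P : Set L) := by
    intro d hd'
    refine mem_normalizer_fintype fun x hx => ?_
    have hle : P ≤ P.comap (MulAut.conj d).toMonoidHom := by
      refine Finset.sup_le fun i hi => ?_
      rintro _ ⟨y, hy, rfl⟩
      refine Finset.le_sup (f := fun i => l.map (MulAut.conj (w ^ i)).toMonoidHom) hi
        ⟨(w ^ i)⁻¹ * d * w ^ i * y * ((w ^ i)⁻¹ * d * w ^ i)⁻¹, ?_, by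
          show MulAut.conj (w ^ i) _ = MulAut.conj d (MulAut.conj (w ^ i) y)
          simp only [MulAut.conj_apply]
          group⟩
      have hwd : (w ^ i)⁻¹ * d * w ^ i ∈ D := by
        have := (mem_normalizer_iff.1 ((normalizer (D : Set L)).inv_mem
          ((normalizer (D : Set L)).pow_mem (h.WD hw) i)) d).1 hd'
        simpa using this
      exact (mem_normalizer_iff.1 (hDl hwd) y).1 hy
    simpa using hle hx
  have hKP : K ≤ normalizer (P : Set L) := by
    rw [← h.QD]
    exact sup_le (fun x hx => centralizer_le_normalizer _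
      (mem_centralizer_iff.2 fun y hy => hQc y (hPQ hy) x hx)) hDP
  set A : Subgroup L := P ⊔ C0 with hA
  have hAK : A ≤ K := sup_le (hPQ.trans h.Q_le) hC0K
  have hAF : A ≤ h.F := sup_le_sup_right hPQ _
  have hKA : K ≤ normalizer (A : Set L) := by
    intro k hk
    rw [mem_normalizer_iff_map_conj_eq, hA, Subgroup.map_sup]
    congr 1
    · exact mem_normalizer_iff_map_conj_eq.1 (hKP hk)
    · exact mem_normalizer_iff_map_conj_eq.1 (by rw [normalizer_eq_top_iff.2 h.C_normal]; exact mem_top k)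
  haveI hAn : (A.subgroupOf K).Normal := normal_subgroupOf_of_le_normalizer hKA
  haveI hln : (l.subgroupOf K).Normal := normal_subgroupOf_of_le_normalizer hKl
  haveI hFn : (h.F.subgroupOf K).Normal := Subgroup.Normal.subgroupOf h.F_normal K
  -- `Q = l ⊔ P`
  have hlP : Q ≤ l ⊔ P := hgen _ fun i x hx => by
    have hwq : w ^ i = w ^ (i % q) := by
      rw [← pow_mod_orderOf]
      have : orderOf w = q := by
        haveI := Fact.mk h.hq
        exact orderOf_eq_prime (orderOf_dvd_iff_pow_eq_one.1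
          (h.cardW ▸ Subgroup.orderOf_dvd_natCard W hw)) hw1
      rw [this]
    rw [hwq]
    rcases Nat.eq_zero_or_pos (i % q) with h0 | h0
    · rw [h0, pow_zero]; simpa using Subgroup.mem_sup_left (T := P) hx
    · exact Subgroup.mem_sup_right (Finset.le_sup (f := fun i => l.map (MulAut.conj (w ^ i)).toMonoidHom)
        (Finset.mem_Ico.2 ⟨h0, Nat.mod_lt _ h.hq.pos⟩) ⟨x, hx, rfl⟩)
  have hQA : ¬ Q ≤ A := by
    intro hle
    have hQP : Q ≤ P := by
      intro x hx
      have hx' : x ∈ ((P ⊔ C0 : Subgroup L) : Set L) := hle hx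
      rw [mul_normal] at hx'
      obtain ⟨a, ha, c, hc, rfl⟩ := Set.mem_mul.1 hx'
      have hcQ : c ∈ Q ⊓ D := ⟨by simpa using Q.mul_mem (Q.inv_mem (hPQ ha)) hx, hc.1⟩
      rw [h.QiD, mem_bot] at hcQ
      rwa [hcQ, mul_one]
    have hc := Subgroup.card_le_of_le hQP
    rw [h.cardQ, hQ0, Subgroup.card_bot, one_mul] at hc
    exact (hc.trans hPcard).not_gt (Nat.pow_lt_pow_right h.hp.one_lt (Nat.sub_lt h.hq.pos one_pos))
  -- `|F : A| = p`
  have hAFp : A.relIndex h.F = p := by
    have h1 : (A.subgroupOf K).relIndex (h.F.subgroupOf K) = A.relIndex h.F :=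
      Subgroup.relIndex_subgroupOf h.F_le_K
    have h2 : h.F.subgroupOf K = l.subgroupOf K ⊔ A.subgroupOf K := by
      rw [← Subgroup.subgroupOf_sup (hlQ.trans h.Q_le) hAK]
      congr 1
      refine le_antisymm (sup_le (hlP.trans (sup_le le_sup_left (le_trans (le_sup_left (b := C0))
        le_sup_right))) (le_trans le_sup_right le_sup_right)) (sup_le (hlQ.trans le_sup_left) hAF)
    have h3 : A.relIndex h.F ∣ p := by
      rw [← h1, h2, Subgroup.relIndex_sup_right]
      refine (Subgroup.relIndex_dvd_card _ _).trans ?_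
      rw [Nat.card_congr (Subgroup.subgroupOfEquivOfLe (hlQ.trans h.Q_le)).toEquiv, hlc]
    refine ((Nat.dvd_prime h.hp).1 h3).resolve_left fun h4 => hQA ?_
    exact le_sup_left.trans (Subgroup.relIndex_eq_one.1 h4)
  have hAKu : A.relIndex K = p * u := by
    rw [← Subgroup.relIndex_mul_relIndex A h.F K hAF h.F_le_K, hAFp]
  -- the action on the line
  let ρ : K →* MulAut (l.subgroupOf K) := MulAut.conjNormal
  haveI : IsCyclic (l.subgroupOf K) := isCyclic_of_prime_card
    ((Nat.card_congr (Subgroup.subgroupOfEquivOfLe (hlQ.trans h.Q_le)).toEquiv).trans hlc)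
  haveI : IsCyclic (MulAut (l.subgroupOf K)) := by
    haveI : IsCyclic (ZMod (Nat.card (l.subgroupOf K)))ˣ := by
      rw [Nat.card_congr (Subgroup.subgroupOfEquivOfLe (hlQ.trans h.Q_le)).toEquiv, hlc]
      infer_instance
    exact isCyclic_of_surjective _ (IsCyclic.mulAutMulEquiv (l.subgroupOf K)).symm.surjective
  have hρF : ∀ k : K, (k : L) ∈ h.F → ρ k = 1 := by
    intro k hk
    refine MulEquiv.ext fun x => Subtype.ext (Subtype.ext ?_)
    show (k : L) * ((x : K) : L) * (k : L)⁻¹ = ((x : K) : L)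
    have hk' : (k : L) ∈ centralizer (l : Set L) := by
      refine (sup_le (fun y hy => mem_centralizer_iff.2 fun z hz => hQc z (hlQ hz) y hy)
        (fun y hy => centralizer_le (fun z hz => hlQ hz) hy.2) : h.F ≤ centralizer (l : Set L)) hk
    have hc : ((x : K) : L) * (k : L) = (k : L) * ((x : K) : L) := mem_centralizer_iff.1 hk' _ x.2
    rw [← hc, mul_inv_cancel_right]
  have hρr : Nat.card ρ.range ∣ r := by
    rw [← IsCyclic.exponent_eq_card]
    refine Monoid.exponent_dvd_of_forall_pow_eq_one fun z => ?_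
    obtain ⟨_, k, rfl⟩ := z
    refine Subtype.ext ?_
    rw [Subgroup.coe_pow, Subgroup.coe_one, ← map_pow]
    exact hρF _ (hexp k k.2)
  have hρ1 : Nat.card ρ.range ≠ 1 := by
    intro h1
    rw [Subgroup.card_eq_one, MonoidHom.range_eq_bot_iff] at h1
    refine h.D_not_centralizer fun d hd' => mem_centralizer_iff.2 fun x hx => ?_
    have hgl : ∀ d ∈ D, ∀ y ∈ l, d * y = y * d := by
      intro d hd' y hy
      have hfun := congrArg Subtype.val (congrArg Subtype.val (DFunLike.congr_fun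
        (DFunLike.congr_fun h1 (⟨d, h.D_le hd'⟩ : K))
        (⟨⟨y, hlQ.trans h.Q_le hy⟩, mem_subgroupOf.2 hy⟩ : l.subgroupOf K)))
      have hfun' : d * y * d⁻¹ = y := hfun
      calc d * y = d * y * d⁻¹ * d := by simp
        _ = y * d := by rw [hfun']
    have hle : Q ≤ centralizer ({d} : Set L) := hgen _ fun i y hy => by
      rw [mem_centralizer_singleton_iff]
      have hwd : (w ^ i)⁻¹ * d * w ^ i ∈ D := by
        have := (mem_normalizer_iff.1 ((normalizer (D : Set L)).inv_mem
          ((normalizer (D : Set L)).pow_mem (h.WD hw) i)) d).1 hd'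
        simpa using this
      have := congrArg (fun z => w ^ i * z * (w ^ i)⁻¹) (hgl _ hwd y hy)
      simpa [mul_assoc] using this.symm
    exact mem_centralizer_singleton_iff.1 (hle hx)
  have hρc : Nat.card ρ.range = r := ((Nat.dvd_prime hr).1 hρr).resolve_left hρ1
  have hrp : r ∣ p - 1 := by
    rw [← hρc]
    refine ρ.range.card_subgroup_dvd_card.trans ?_
    rw [IsCyclic.card_mulAut, Nat.card_congr (Subgroup.subgroupOfEquivOfLe (hlQ.trans h.Q_le)).toEquiv,
      hlc, Nat.totient_prime h.hp]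
  have hrodd : Odd r := h.hodd.of_dvd_nat
    (hru.trans ((h.F.relIndex_dvd_card K).trans K.card_subgroup_dvd_card))
  have h2rp : 2 * r + 1 ≤ p := by
    have hpodd : Odd p := h.hp.odd_of_ne_two h.hp2
    obtain ⟨a, ha⟩ := hpodd
    have h2 : r ∣ 2 * a := by rw [ha] at hrp; simpa using hrp
    have h3 : r ∣ a := (Nat.coprime_two_right.2 hrodd).dvd_of_dvd_mul_left h2
    have ha0 : 0 < a := Nat.pos_of_ne_zero fun h0 => h.hp.ne_one (by omega)
    have := Nat.le_of_dvd ha0 h3
    omega
  refine ⟨h2rp, hru, ?_⟩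
  -- the characters of `K`
  haveI hfin : Finite (Cfsg.IrrCharacter K) := finite_irrCharacter
  haveI := Fintype.ofFinite (Cfsg.IrrCharacter K)
  let triv : Subgroup K → Finset (Cfsg.IrrCharacter K) := fun N =>
    Finset.univ.filter fun χ => ∀ n ∈ N, (χ : K → ℂ) n = (χ : K → ℂ) 1
  let T : Finset (Cfsg.IrrCharacter K) := triv (A.subgroupOf K) \ triv (h.F.subgroupOf K)
  have hTmem : ∀ θ : Cfsg.IrrCharacter K, θ ∈ T ↔
      (∀ a : K, (a : L) ∈ A → (θ : K → ℂ) a = (θ : K → ℂ) 1) ∧
        ¬ ∀ a : K, (a : L) ∈ h.F → (θ : K → ℂ) a = (θ : K → ℂ) 1 := fun θ => by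
    simp [T, triv, mem_subgroupOf]
  have hsumT : ∀ (N : Subgroup K) [N.Normal],
      ∑ θ ∈ triv N, Cfsg.charDegree (θ : K → ℂ) ^ 2 = N.index := by
    intro N _
    have h := CharKernel.sum_sq_trivial_on N
    rw [← Finset.sum_subtype (triv N) (fun x => by simp [triv])
      (fun χ => Cfsg.charDegree (χ : K → ℂ) ^ 2)] at h
    exact h
  -- every degree is `r`
  have hAn' : ∀ c : K, ∀ b ∈ A.subgroupOf K, c * b * c⁻¹ ∈ A.subgroupOf K := fun c b hb =>
    hAn.conj_mem b hb c
  have hdegT : ∀ θ ∈ T, Cfsg.charDegree (θ : K → ℂ) = r := by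
    intro θ hθ
    obtain ⟨hθA, hθF⟩ := (hTmem θ).1 hθ
    -- at most `r`
    have hle : Cfsg.charDegree (θ : K → ℂ) ≤ r := by
      have hKc : ∀ d ∈ ρ.ker, ∀ c ∈ ρ.ker, d * c * d⁻¹ * c⁻¹ ∈ A.subgroupOf K := by
        intro x hx y hy
        set f := QuotientGroup.mk' (A.subgroupOf K)
        rw [← QuotientGroup.eq_one_iff]
        show f (x * y * x⁻¹ * y⁻¹) = 1
        rw [← commutatorElement_def, map_commutatorElement, commutatorElement_eq_one_iff_mul_comm]
        -- decomposition `x = a b`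
        have hdec : ∀ z : K, z ∈ ρ.ker → ∃ a b : K, (a : L) ∈ Q ∧ (b : L) ∈ D ∧
            (∀ y ∈ l, (b : L) * y = y * (b : L)) ∧ z = a * b := by
          intro z hz
          obtain ⟨a, ha, b, hb, hab⟩ := Set.mem_mul.1 (show (z : L) ∈ (Q : Set L) * (D : Set L) by
            rw [← normal_mul, h.QD]; exact z.2)
          refine ⟨⟨a, h.Q_le ha⟩, ⟨b, h.D_le hb⟩, ha, hb, fun y hy => ?_, Subtype.ext hab.symm⟩
          have h1 := congrArg Subtype.val (congrArg Subtype.val (DFunLike.congr_fun (MonoidHom.mem_ker.1 hz)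
            (⟨⟨y, hlQ.trans h.Q_le hy⟩, mem_subgroupOf.2 hy⟩ : l.subgroupOf K)))
          have h2 : (z : L) * y * (z : L)⁻¹ = y := h1
          have h3 : b * y * b⁻¹ = a⁻¹ * y * a := by
            rw [← hab] at h2
            calc b * y * b⁻¹ = a⁻¹ * (a * b * y * (a * b)⁻¹) * a := by simp [mul_assoc]
              _ = a⁻¹ * y * a := by rw [h2]
          rw [mul_assoc a⁻¹, hQc y (hlQ hy) a ha, inv_mul_cancel_left] at h3
          calc b * y = b * y * b⁻¹ * b := by simp
            _ = y * b := by rw [h3]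
        have hcen : ∀ a b : K, (a : L) ∈ Q → (∀ y ∈ l, (b : L) * y = y * (b : L)) →
            f a * f b = f b * f a := by
          intro a b ha hb
          have ha' : (a : L) ∈ ((l ⊔ P : Subgroup L) : Set L) := hlP ha
          rw [coe_mul_of_left_le_normalizer_right l P (fun y hy => hKP (h.Q_le (hlQ hy)))] at ha'
          obtain ⟨c, hc, e, he, hce⟩ := Set.mem_mul.1 ha'
          have hfe : f a = f ⟨c, hlQ.trans h.Q_le hc⟩ := by
            rw [show a = ⟨c, hlQ.trans h.Q_le hc⟩ * ⟨e, hPQ.trans h.Q_le he⟩ from Subtype.ext hce.symm,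
              map_mul, show f ⟨e, hPQ.trans h.Q_le he⟩ = 1 from (QuotientGroup.eq_one_iff _).2
                (mem_subgroupOf.2 (Subgroup.mem_sup_left he)), mul_one]
          rw [hfe, ← map_mul, ← map_mul]
          congr 1
          exact Subtype.ext (hb c hc).symm
        obtain ⟨a, b, ha, hb, hbl, rfl⟩ := hdec x hx
        obtain ⟨a', b', ha', hb', hbl', rfl⟩ := hdec y hy
        have c1 : Commute (f a) (f a') := by
          show f a * f a' = f a' * f a
          rw [← map_mul, ← map_mul]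
          exact congrArg f (Subtype.ext (hQc a ha a' ha'))
        have c2 : Commute (f a) (f b') := hcen a b' ha hbl'
        have c3 : Commute (f b) (f a') := (hcen a' b ha' hbl).symm
        have c4 : Commute (f b) (f b') := by
          show f b * f b' = f b' * f b
          rw [← commutatorElement_eq_one_iff_mul_comm, ← map_commutatorElement]
          refine (QuotientGroup.eq_one_iff _).2 (mem_subgroupOf.2 (Subgroup.mem_sup_right ?_))
          show ⁅(b : L), (b' : L)⁆ ∈ C0
          rw [hC0, ← h.commutator_D_eq hd]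
          exact commutator_mem_commutator hb hb'
        rw [map_mul f a b, map_mul f a' b']
        exact ((c1.mul_right c2).mul_left (c3.mul_right c4)).eq
      have hb := Cfsg.Agent.S1492.result (θ : K → ℂ) θ.2 (A.subgroupOf K) ρ.ker ρ.ker
        (fun a ha => MonoidHom.mem_ker.2 (hρF a (hAF ha))) le_rfl (fun c _ b hb => hAn' c b hb) hKc
        (fun b hb => hθA b hb)
      rw [PF6.deg_spec (isCharacter_of_isIrrCharacter θ.2), Complex.norm_natCast] at hb
      have hb' : Cfsg.charDegree (θ : K → ℂ) ^ 2 * Nat.card ρ.ker * Nat.card ρ.ker ≤ Nat.card K ^ 2 := by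
        exact_mod_cast hb
      rw [← ρ.ker.card_mul_index, Subgroup.index_ker, hρc, mul_pow, sq (Nat.card ρ.ker),
        mul_assoc, mul_comm (Cfsg.charDegree (θ : K → ℂ) ^ 2)] at hb'
      exact Nat.pow_le_pow_iff_left two_ne_zero |>.1 (Nat.le_of_mul_le_mul_left hb'
        (Nat.mul_pos Nat.card_pos Nat.card_pos))
    -- not linear
    have hne1 : Cfsg.charDegree (θ : K → ℂ) ≠ 1 := by
      intro h1
      obtain ⟨lam, hlam⟩ := CharBasicLinear.exists_hom_of_apply_one_eq_one
        (isCharacter_of_isIrrCharacter θ.2) (by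
          rw [PF6.deg_spec (isCharacter_of_isIrrCharacter θ.2), h1, Nat.cast_one])
      refine hθF fun a ha => ?_
      have hker : ⁅(⊤ : Subgroup K), ⊤⁆ ≤ lam.ker := Subgroup.commutator_le.2 fun x _ y _ => by
        rw [MonoidHom.mem_ker, map_commutatorElement, commutatorElement_eq_one_iff_mul_comm, mul_comm]
      have hmem : a ∈ lam.ker := by
        refine hker ?_
        have h2 : (a : L) ∈ ⁅K, K⁆ := hd ▸ ha
        exact mem_commutator_of_coe h2
      rw [hlam]
      show ((lam a : ℂˣ) : ℂ) = ((lam 1 : ℂˣ) : ℂ)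
      rw [MonoidHom.mem_ker.1 hmem, map_one]
    -- divides `p u`
    have hdvd : Cfsg.charDegree (θ : K → ℂ) ∣ p * r ^ m := by
      rw [← hu, ← hAKu]
      exact (CharKernel.charDegree_dvd_index θ).trans
        (Subgroup.index_dvd_of_le (H := A.subgroupOf K) fun a ha => hθA a ha)
    have hcop : (Cfsg.charDegree (θ : K → ℂ)).Coprime p := Nat.Coprime.symm
      (h.hp.coprime_iff_not_dvd.2 fun hpd => by
        have := Nat.le_of_dvd (Nat.pos_of_ne_zero fun h0 => by
          have := PF6.deg_pos θ.2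
          omega) hpd
        omega)
    obtain ⟨j, -, hj⟩ := (Nat.dvd_prime_pow hr).1 (hcop.dvd_of_dvd_mul_left hdvd)
    rcases j with _ | _ | j
    · exact absurd (by simpa using hj) hne1
    · simpa using hj
    · exfalso
      rw [hj] at hle
      have : r ^ 1 < r ^ (j + 2) := Nat.pow_lt_pow_right hr.one_lt (by omega)
      rw [pow_one] at this
      exact absurd hle (not_le.2 this)
  have hTcard : (p - 1) * u = T.card * r ^ 2 := by
    have h1 : ∑ θ ∈ T, Cfsg.charDegree (θ : K → ℂ) ^ 2 +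
        ∑ θ ∈ triv (h.F.subgroupOf K), Cfsg.charDegree (θ : K → ℂ) ^ 2 =
        ∑ θ ∈ triv (A.subgroupOf K), Cfsg.charDegree (θ : K → ℂ) ^ 2 :=
      Finset.sum_sdiff fun θ hθ => by
        simp only [triv, Finset.mem_filter, Finset.mem_univ, true_and, mem_subgroupOf] at hθ ⊢
        exact fun a ha => hθ a (hAF ha)
    rw [hsumT, hsumT, show (A.subgroupOf K).index = p * u from hAKu,
      show (h.F.subgroupOf K).index = u from rfl,
      Finset.sum_congr rfl (fun θ hθ => by rw [hdegT θ hθ]), Finset.sum_const, smul_eq_mul] at h1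
    rw [Nat.sub_mul, one_mul, ← h1, Nat.add_sub_cancel]
  -- irreducible
  have hirr : ∀ θ ∈ T, Cfsg.IsIrrCharacter L (Cfsg.indFun K (θ : K → ℂ)) := by
    intro θ hθ
    refine h.S1513_data.1 θ θ.2 ?_
    by_contra hinv
    push Not at hinv
    have hdeg := h.deg_of_invariant hQ0 θ.2 (fun e => ?_) hinv
    · rw [hdegT θ hθ] at hdeg
      refine hqr ?_
      rw [hdeg]
      exact (Nat.modEq_iff_dvd' (Nat.one_le_iff_ne_zero.2 (by rw [← hdeg]; exact hr.ne_zero))).1
        h.u_bound.1.symm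
    · exact ((hTmem θ).1 hθ).2 fun a _ => by rw [e]
  have hinjT : Set.InjOn (fun θ : Cfsg.IrrCharacter K => Cfsg.indFun K (θ : K → ℂ)) ↑T := by
    intro θ hθ θ' hθ' he
    obtain ⟨hθA, hθF⟩ := (hTmem θ).1 hθ
    obtain ⟨hθ'A, hθ'F⟩ := (hTmem θ').1 hθ'
    obtain ⟨g, hg⟩ := (PF6.ind_eq_iff K).1 he.symm
    obtain ⟨k, hk, v, hv, rfl⟩ := Subgroup.mem_sup_of_normal_left.1 (h.KW ▸ Subgroup.mem_top g)
    rw [← CharInduced.conjFun_conjFun, CharInduced.conjFun_mem_eq K
      (CharInduced.isClassFunction_irr θ.2) hk] at hg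
    by_cases hv1 : v = 1
    · rw [hv1, CharInduced.conjFun_one] at hg
      exact Subtype.ext hg
    exfalso
    refine hθ'F fun a ha => ?_
    haveI := CharKernel.irrKer_normal θ'
    -- `θ'` kills `l`
    have hv' : ∃ i ∈ Finset.Ico 1 q, v = w ^ i := by
      rw [← h.W_gen hw hw1] at hv
      obtain ⟨n, rfl⟩ := mem_powers_iff_mem_zpowers.2 hv
      have hoq : orderOf w = q := by
        haveI := Fact.mk h.hq
        exact orderOf_eq_prime (orderOf_dvd_iff_pow_eq_one.1
          (h.cardW ▸ Subgroup.orderOf_dvd_natCard W hw)) hw1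
      refine ⟨n % q, Finset.mem_Ico.2 ⟨Nat.one_le_iff_ne_zero.2 fun h0 => hv1 ?_, Nat.mod_lt _ h.hq.pos⟩, ?_⟩
      · show w ^ n = 1
        rw [← pow_mod_orderOf, hoq, h0, pow_zero]
      · show w ^ n = w ^ (n % q)
        rw [← hoq, pow_mod_orderOf]
    obtain ⟨i, hi, rfl⟩ := hv'
    have hl' : l.subgroupOf K ≤ CharKernel.irrKer θ' := by
      intro x hx
      rw [CharKernel.mem_irrKer, ← hg]
      show (θ : K → ℂ) _ = (θ : K → ℂ) _
      refine (hθA _ ?_).trans (congrArg _ (Subtype.ext (by simp)))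
      exact Subgroup.mem_sup_left (Finset.le_sup
        (f := fun i => l.map (MulAut.conj (w ^ i)).toMonoidHom) hi ⟨x, hx, rfl⟩)
    have hA' : A.subgroupOf K ≤ CharKernel.irrKer θ' := fun x hx => hθ'A x hx
    have hle : h.F.subgroupOf K ≤ CharKernel.irrKer θ' := by
      refine le_trans ?_ (sup_le hl' hA')
      rw [← Subgroup.subgroupOf_sup (hlQ.trans h.Q_le) hAK]
      exact fun x hx => sup_le (hlP.trans (sup_le le_sup_left (le_trans (le_sup_left (b := C0))
        le_sup_right))) (le_trans le_sup_right le_sup_right) hx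
    exact hle (mem_subgroupOf.2 ha)
  refine ⟨T.image (fun θ : Cfsg.IrrCharacter K => Cfsg.indFun K (θ : K → ℂ)), ?_, ?_, ?_, ?_, ?_⟩
  · intro φ hφ
    simp only [Finset.coe_image, Set.mem_image, Finset.mem_coe] at hφ
    obtain ⟨θ, hθ, rfl⟩ := hφ
    exact ⟨θ, θ.2, fun e => ((hTmem θ).1 hθ).2 fun a _ => by rw [e],
      fun a ha => by rw [show a = 1 from Subtype.ext (mem_bot.1 ha)], rfl⟩
  · intro φ hφ
    obtain ⟨θ, hθ, rfl⟩ := Finset.mem_image.1 hφ
    exact hirr θ hθ
  · intro φ hφ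
    obtain ⟨θ, hθ, rfl⟩ := Finset.mem_image.1 hφ
    rw [CharInduced.ind_one_apply, PF6.deg_spec (isCharacter_of_isIrrCharacter θ.2), hdegT θ hθ, h.K_index]
  · intro φ hφ
    obtain ⟨θ, hθ, rfl⟩ := Finset.mem_image.1 hφ
    obtain ⟨hθA, hθF⟩ := (hTmem θ).1 hθ
    refine Finset.mem_image.2 ⟨⟨Cfsg.conjFun (θ : K → ℂ), CoherenceBasic.conjFun_isIrr θ.2⟩,
      (hTmem _).2 ⟨fun a ha => by simp [Cfsg.conjFun, hθA a ha], fun hall => hθF fun a ha => ?_⟩, ?_⟩
    · exact (starRingEnd ℂ).injective (hall a ha)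
    · funext x
      exact congrFun (CharInduced.ind_conj K (θ : K → ℂ)) x
  · rw [Finset.card_image_of_injOn hinjT, hTcard]

end Shape

end Cfsg.Agent.PFType34
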