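import Mathlib
import Cfsg.Agent.Lib.PFType34Block46
import Cfsg.Agent.Lib.PFPrimeTIFam39
import Cfsg.Agent.Lib.BGTypeBasic
import Cfsg.Agent.Lib.BGTypeSetup
import Cfsg.Agent.Lib.HallTheorem
import Cfsg.Agent.S1517
import Cfsg.Agent.S1519
import Cfsg.Agent.S1520
import Cfsg.Agent.S1521

/-!
Peterfalvi (10)-(11): the structure of a maximal subgroup of type III or IV, given that the whole family
induced from `M'` is not coherent and two refuted special situations.
`M_F` is elementary abelian of order `p ^ q`, `q > p`, and `U` is abelian (so type IV does not occur).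
-/

set_option autoImplicit false
set_option linter.style.haveILetI false

open scoped commutatorElement Pointwise

namespace Cfsg.Agent.PFType34

universe u

open Subgroup

theorem relIndex_dvd_right {X : Type u} [Group X] {A B C : Subgroup X} (hAB : A ≤ B) (hBC : B ≤ C) :
    A.relIndex B ∣ A.relIndex C :=
  Dvd.intro _ (relIndex_mul_relIndex A B C hAB hBC)

theorem two_mul_add_one_le_three_pow : ∀ n : ℕ, 2 * n + 1 ≤ 3 ^ n
  | 0 => le_rfl
  | n + 1 => by
    have := two_mul_add_one_le_three_pow n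
    rw [pow_succ]
    omega

theorem four_sq_lt_pow {p q : ℕ} (hp : 3 ≤ p) (hq : 3 ≤ q) (h : 5 ≤ p ∨ 5 ≤ q) :
    4 * q ^ 2 + 1 < p ^ q := by
  have h3 : ∀ n, 5 ≤ n → 4 * n ^ 2 + 1 < 3 ^ n := by
    intro n hn
    induction n, hn using Nat.le_induction with
    | base => norm_num
    | succ n hn ih => rw [pow_succ 3]; nlinarith
  rcases Nat.lt_or_ge q 5 with hq5 | hq5
  · have hp5 : 5 ≤ p := h.resolve_right (by omega)
    have h5 : 5 ^ q ≤ p ^ q := Nat.pow_le_pow_left hp5 q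
    interval_cases q <;> omega
  · exact (h3 q hq5).trans_le (Nat.pow_le_pow_left hp q)

namespace Shape

variable {L : Type u} [Group L] {K W W₂ Q D : Subgroup L} {p q : ℕ}

theorem three_le_pq [Finite L] (h : Shape K W W₂ Q D p q) : 3 ≤ p ∧ 3 ≤ q ∧ (5 ≤ p ∨ 5 ≤ q) := by
  have h1 := h.hp.two_le
  have h2 := h.hq.two_le
  have h3 := h.hp2
  have h4 := h.hq2
  have h5 := h.hpq
  have h6 : p ≠ 4 := fun e => by have := h.hp; rw [e] at this; norm_num at this
  have h7 : q ≠ 4 := fun e => by have := h.hq; rw [e] at this; norm_num at this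
  omega

/-- `|B : A| = 1` or at least `2 q + 1`. -/
theorem two_q_lt_relIndex [Finite L] (h : Shape K W W₂ Q D p q) {A B : Subgroup L} (hAn : A.Normal)
    (hBn : B.Normal) (hAB : A ≤ B) (hBK : B ≤ K) (hW2 : W₂ ≤ A) (hne : A ≠ B) :
    2 * q + 1 ≤ A.relIndex B := by
  have h1 := h.relIndex_modEq_one hAn hBn hAB hBK hW2
  obtain ⟨r, hr⟩ : Odd (A.relIndex B) :=
    h.hodd.of_dvd_nat ((A.relIndex_dvd_card B).trans B.card_subgroup_dvd_card)
  have hne1 : A.relIndex B ≠ 1 := fun he => hne (le_antisymm hAB (relIndex_eq_one.1 he))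
  obtain ⟨c, hc⟩ := (Nat.modEq_iff_dvd' (by omega)).1 h1.symm
  rw [hr, show 2 * r + 1 - 1 = 2 * r from by omega] at hc
  obtain ⟨s, hs⟩ := h.hq.odd_of_ne_two h.hq2
  rcases Nat.lt_or_ge c 2 with hc2 | hc2
  · interval_cases c <;> omega
  · have : q * 2 ≤ q * c := Nat.mul_le_mul_left q hc2
    omega

/-- The degree condition of descending along a central step below `A ≤ F`. -/
theorem descend_bound [Finite L] (h : Shape K W W₂ Q D p q) {A : Subgroup L} (hAn : A.Normal)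
    (hAF : A ≤ h.F) (hW2 : W₂ ≤ A) (hne : A ≠ h.F) :
    4 * h.F.index ^ 2 * h.F.relIndex h.F < (A.relIndex K - 1) ^ 2 := by
  have ha := h.two_q_lt_relIndex hAn h.F_normal hAF h.F_le_K hW2 hne
  have hu := h.u_bound.2.2
  rw [relIndex_self, mul_one, ← relIndex_mul_index h.F_le_K, h.K_index,
    ← relIndex_mul_relIndex A h.F K hAF h.F_le_K]
  generalize A.relIndex h.F = a at ha ⊢
  generalize h.F.relIndex K = u at hu ⊢
  have h1 : 2 * (u * q) + u ≤ a * u := by nlinarith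
  rw [show 4 * (u * q) ^ 2 = (2 * (u * q)) ^ 2 by ring]
  refine Nat.pow_lt_pow_left ?_ two_ne_zero
  have hq0 := h.hq.pos
  have h2 : 2 * (u * q) + 1 < a * u := by omega
  exact Nat.lt_sub_iff_add_lt.2 h2

end Shape

section Main

variable {G : Type u} [Group G] [Fintype G] {M W₁ W₂ : Subgroup G} [Fintype ↥M]
  {W V Q D : Subgroup ↥M} {p q : ℕ}

/-- What is refuted when `|W₁| < |W₂|`. -/
def LtRefuted (M W₁ W₂ : Subgroup G) [Fintype ↥M] : Prop :=
  Nat.card W₁ < Nat.card W₂ → ∀ d : ℕ, (∀ φ ∈ PFPrimeTI.redChars M, φ 1 = (Nat.card W₁ * d : ℂ)) →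
    d ≤ (⁅PFPrimeTI.ker M, PFPrimeTI.ker M⁆).relIndex (PFPrimeTI.ker M) → False

/-- What is refuted by a large block of irreducible members of degree `|M : M'| r`. -/
def BlockRefuted (M W₁ W₂ : Subgroup G) [Fintype ↥M] : Prop :=
  ∀ (r d : ℕ) (X : Finset (↥M → ℂ)), (∀ φ ∈ PFPrimeTI.redChars M, φ 1 = (Nat.card W₁ * d : ℂ)) →
    d = (⁅PFPrimeTI.ker M, PFPrimeTI.ker M⁆).relIndex (PFPrimeTI.ker M) → 1 < r → r ∣ d →
    2 * r + 1 ≤ Nat.card W₂ → ↑X ⊆ Cfsg.inducedIrrAbove (PFPrimeTI.ker M) ⊥ →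
    (∀ φ ∈ X, Cfsg.IsIrrCharacter ↥M φ) → (∀ φ ∈ X, φ 1 = (Nat.card W₁ * r : ℂ)) →
    (∀ φ ∈ X, Cfsg.conjFun φ ∈ X) → (Nat.card W₂ - 1) * d ≤ X.card * r ^ 2 → False

/-- The family of degree `|M : M'|` is coherent. -/
theorem coherent_lin (hS : PFPrimeTI.Setup M W₁ W₂) : Cfsg.IsCoherent
    (Cfsg.inducedIrrAbove (PFPrimeTI.ker M) ⁅PFPrimeTI.ker M, PFPrimeTI.ker M⁆) {1}ᶜ
    (fun α : ↥M → ℂ => Cfsg.indFun M α) := by
  obtain ⟨R, hR⟩ := PFPrimeTI.exists_system hS
  haveI := hS.solv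
  set K := PFPrimeTI.ker M
  haveI : (⁅K, K⁆).Normal := Subgroup.commutator_normal _ _
  have hsub := PF6.induced_mono (K := K) (bot_le : ⊥ ≤ ⁅K, K⁆)
  have hKne : ⁅K, K⁆ < K := Group.IsSolvable.commutator_lt_of_ne_bot fun hb => by
    obtain ⟨φ, hφ⟩ := hR.nonempty
    obtain ⟨θ, hθ, hθ1, -, -⟩ := hφ
    refine hθ1 (funext fun k => ?_)
    have : k = 1 := Subtype.ext (Subgroup.mem_bot.1 (hb.le k.2))
    obtain ⟨lam, hlam⟩ := CharBasicLinear.exists_hom_of_comm (fun a b => by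
      rw [show a = 1 from Subtype.ext (Subgroup.mem_bot.1 (hb.le a.2)), one_mul, mul_one]) hθ
    rw [hlam, this]
    simp
  obtain ⟨θ₁, hθ₁, -⟩ := PF6.exists_linear K inferInstance hKne
  refine Cfsg.Agent.S1517.result _ _ R (PF6.system_restrict hR hsub ⟨_, PF6.mem_induced.2 ⟨θ₁, hθ₁, rfl⟩⟩
    (fun φ hφ => PF6.induced_conj hφ)) ?_
  have hdeg : ∀ φ ∈ Cfsg.inducedIrrAbove K ⁅K, K⁆, φ 1 = (K.index : ℂ) := by
    intro φ hφ
    obtain ⟨θ, hθ, rfl⟩ := PF6.mem_induced.1 hφ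
    have h1 := PF6.deg_bound (θ := θ) (C := K) (D := K) (Subgroup.commutator_le_self K) le_rfl le_rfl
      (fun x hx y hy => Subgroup.commutator_mem_commutator hx hy) (PF6.mem_aboveFin.1 hθ).2
    have hpos := PF6.deg_pos θ.2
    have hle : Cfsg.charDegree (θ : K → ℂ) ≤ 1 := by
      rw [sq (Nat.card K)] at h1
      have h2 : Cfsg.charDegree (θ : K → ℂ) ^ 2 * (Nat.card K * Nat.card K) ≤
          1 * (Nat.card K * Nat.card K) := by rw [one_mul]; exact h1
      have := Nat.le_of_mul_le_mul_right h2 (Nat.mul_pos Nat.card_pos Nat.card_pos)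
      exact (Nat.pow_le_pow_iff_left two_ne_zero).1 (by rw [one_pow]; exact this)
    rw [PF6.ind_apply_one, show Cfsg.charDegree (θ : K → ℂ) = 1 by omega, mul_one]
  exact fun φ hφ ψ hψ => (hdeg φ hφ).trans (hdeg ψ hψ).symm

theorem not_coherent_F1 (h : Shape (PFPrimeTI.ker M) W V Q D p q) (hS : PFPrimeTI.Setup M W₁ W₂)
    (hall : ¬ PFPrimeTI.AllCoherent M) :
    ¬ Cfsg.IsCoherent (Cfsg.inducedIrrAbove (PFPrimeTI.ker M) h.F1) {1}ᶜ
      (fun α : ↥M → ℂ => Cfsg.indFun M α) := by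
  intro hc
  obtain ⟨R, hR⟩ := PFPrimeTI.exists_system hS
  haveI := h.F_normal
  haveI := h.F1_normal
  haveI := h.F_nilpotent
  haveI := hS.solv
  haveI : ((⊥ : Subgroup ↥M).subgroupOf h.F).Normal := Subgroup.Normal.subgroupOf inferInstance _
  obtain ⟨h1, h2, h3⟩ := h.three_le_pq
  refine hall (Cfsg.Agent.S1520.result (PFPrimeTI.ker M) inferInstance _ R hR ⊥ h.F1 h.F bot_le
    h.F1_le_F h.F_le_K inferInstance hc ?_)
  rw [h.K_index, h.relIndex_F1_F]
  exact four_sq_lt_pow h1 h2 h3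

theorem commutator_eq_F (h : Shape (PFPrimeTI.ker M) W V Q D p q) (hS : PFPrimeTI.Setup M W₁ W₂)
    (hall : ¬ PFPrimeTI.AllCoherent M) : ⁅PFPrimeTI.ker M, PFPrimeTI.ker M⁆ = h.F := by
  by_contra hne
  obtain ⟨R, hR⟩ := PFPrimeTI.exists_system hS
  haveI := h.F_normal
  haveI := h.F1_normal
  haveI := hS.solv
  exact not_coherent_F1 h hS hall (Cfsg.Agent.S1519.result (PFPrimeTI.ker M) inferInstance _ R hR
    ⁅PFPrimeTI.ker M, PFPrimeTI.ker M⁆ h.F1 h.F h.F (h.commutator_K_le_F.trans_lt h.F_lt_K)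
    (h.F1_le_F.trans_lt h.F_lt_K) h.F1_le_F le_rfl h.F_le_K
    (fun x hx y hy => h.commutator_F_le (commutator_mem_commutator hx hy))
    (coherent_lin hS)
    (h.descend_bound (Subgroup.commutator_normal _ _) h.commutator_K_le_F h.W2_le_commutator hne))

theorem redChars_degree (h : Shape (PFPrimeTI.ker M) W V Q D p q)
    (hd : ⁅PFPrimeTI.ker M, PFPrimeTI.ker M⁆ = h.F) :
    ∀ φ ∈ PFPrimeTI.redChars M, φ 1 = (q * h.F.relIndex (PFPrimeTI.ker M) : ℂ) := by
  rintro φ ⟨⟨θ, hθ, hθ1, -, rfl⟩, hirr⟩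
  have hinv : ∀ x ∈ W, CharInduced.conjFun (PFPrimeTI.ker M) θ x = θ := fun x hx => by
    by_contra hne
    exact hirr (h.S1513_data.1 θ hθ ⟨x, hx, hne⟩)
  rw [CharInduced.ind_one_apply, h.K_index, PF6.deg_spec (CharBasic.isCharacter_of_isIrrCharacter hθ),
    h.deg_of_invariant (h.Q0_eq_bot hd) hθ hθ1 hinv]

theorem not_lt (h : Shape (PFPrimeTI.ker M) W V Q D p q) (hS : PFPrimeTI.Setup M W₁ W₂)
    (hall : ¬ PFPrimeTI.AllCoherent M) (hlt' : LtRefuted M W₁ W₂) (hp : Nat.card W₂ = p)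
    (hq : Nat.card W₁ = q) : ¬ q < p := by
  intro hlt
  have hd := commutator_eq_F h hS hall
  refine hlt' (by rw [hp, hq]; exact hlt) (h.F.relIndex (PFPrimeTI.ker M))
    (by rw [hq]; exact redChars_degree h hd) ?_
  rw [hd]

/-- Type IV does not occur. -/
theorem C_eq_bot (h : Shape (PFPrimeTI.ker M) W V Q D p q) (hS : PFPrimeTI.Setup M W₁ W₂)
    (hall : ¬ PFPrimeTI.AllCoherent M) (hblock : BlockRefuted M W₁ W₂) (hp : Nat.card W₂ = p) (hq : Nat.card W₁ = q) :
    D ⊓ centralizer (Q : Set ↥M) = ⊥ := by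
  by_contra hC
  have hd := commutator_eq_F h hS hall
  obtain ⟨R, hR⟩ := PFPrimeTI.exists_system hS
  haveI := h.F_normal
  haveI := h.F1_normal
  haveI := h.Qn
  haveI := h.Dnil
  haveI := hS.solv
  set K := PFPrimeTI.ker M with hK
  have hQF : Q ≤ h.F := le_sup_left
  have hH1 : h.F = ⁅K, K⁆ ⊔ Q := by rw [hd, sup_eq_left.2 hQF]
  have hfrob : ∀ k ∈ K, k ∉ h.F → ∀ x : ↥M, x * k * x⁻¹ * k⁻¹ ∈ h.F → x ∈ K := by
    intro k hk hkF x hx
    obtain ⟨a, ha, v, hv, rfl⟩ := Subgroup.mem_sup_of_normal_left.1 (h.KW ▸ Subgroup.mem_top x)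
    by_cases hv1 : v = 1
    · simpa [hv1] using ha
    exfalso
    refine hkF (h.mem_of_fixed h.F_normal h.F_le_K h.W2_le_F hv hv1 hk ?_)
    have h1 : ⁅a, v * k * v⁻¹⁆ ∈ h.F :=
      h.commutator_K_le_F (commutator_mem_commutator ha (h.Kn.conj_mem k hk v))
    have h2 := h.F.mul_mem (h.F.inv_mem h1) hx
    simpa [commutatorElement_def, mul_assoc] using h2
  haveI : (Q.subgroupOf K).Normal := Subgroup.Normal.subgroupOf h.Qn K
  have hnil : Group.IsNilpotent (↥K ⧸ Q.subgroupOf K) := by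
    refine Group.nilpotent_of_surjective
      ((QuotientGroup.mk' (Q.subgroupOf K)).comp (Subgroup.inclusion h.D_le)) fun z => ?_
    induction z using QuotientGroup.induction_on with | _ k => ?_
    obtain ⟨a, ha, b, hb, hab⟩ := Set.mem_mul.1 (show (k : ↥M) ∈ (Q : Set ↥M) * (D : Set ↥M) by
      rw [← normal_mul, h.QD]; exact k.2)
    refine ⟨⟨b, hb⟩, ?_⟩
    show ((⟨b, h.D_le hb⟩ : ↥K) : ↥K ⧸ Q.subgroupOf K) = (k : ↥K ⧸ Q.subgroupOf K)
    rw [QuotientGroup.eq, mem_subgroupOf]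
    have := h.Qn.conj_mem a ha b⁻¹
    simpa [← hab, mul_assoc] using this
  by_cases hgood : (∃ N : Subgroup ↥M, N.Normal ∧ h.F < N ∧ N < K) ∨
      4 * K.index ^ 2 + 1 < h.F.relIndex K ∨
      (¬ ∃ p m : ℕ, p.Prime ∧ Q.relIndex K = p ^ m) ∨ ⁅K, K⁆ ≤ Q ∨
      (∃ p m : ℕ, p.Prime ∧ Q.relIndex K = p ^ m ∧ K.index ∣ p - 1)
  · have hKtop : K < ⊤ := lt_top_iff_ne_top.2 fun he => h.hq.ne_one (h.K_index ▸ he ▸ index_top)
    have hcQ := Cfsg.Agent.S1521.result K inferInstance _ R hR h.hodd Q h.Q_le hnil h.F hH1 h.F_lt_K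
      hKtop hfrob hgood
    refine not_coherent_F1 h hS hall (Cfsg.Agent.S1519.result K inferInstance _ R hR Q h.F1 h.F h.F
      (hQF.trans_lt h.F_lt_K) (h.F1_le_F.trans_lt h.F_lt_K) h.F1_le_F le_rfl h.F_le_K
      (fun x hx y hy => h.commutator_F_le (commutator_mem_commutator hx hy)) hcQ
      (h.descend_bound h.Qn hQF (h.W2le.trans inf_le_left) fun he => hC ?_))
    refine le_bot_iff.1 (h.QiD ▸ le_inf ?_ inf_le_left)
    conv_rhs => rw [he]
    exact le_sup_right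
  · simp only [not_or, not_exists, not_and] at hgood
    obtain ⟨hmax, -, hpp, -, hqr⟩ := hgood
    obtain ⟨r, m, hr, hrm⟩ : ∃ r m : ℕ, r.Prime ∧ Q.relIndex K = r ^ m := by
      by_contra hne
      push Not at hne
      exact hpp hne
    have hudvd : h.F.relIndex K ∣ r ^ m := by
      rw [← hrm]
      exact Subgroup.relIndex_dvd_of_le_left K hQF
    obtain ⟨j, -, hj⟩ := (Nat.dvd_prime_pow hr).1 hudvd
    haveI hFK : (h.F.subgroupOf K).Normal := Subgroup.Normal.subgroupOf h.F_normal K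
    -- `K / F` has exponent `r`
    let f := QuotientGroup.mk' h.F
    have hcomm : ∀ a ∈ K, ∀ b ∈ K, Commute (f a) (f b) := fun a ha b hb => by
      show f a * f b = f b * f a
      rw [← commutatorElement_eq_one_iff_mul_comm, ← map_commutatorElement]
      exact (QuotientGroup.eq_one_iff _).2 (h.commutator_K_le_F (commutator_mem_commutator ha hb))
    let N0 : Subgroup ↥M :=
      { carrier := {k | k ∈ K ∧ f k ^ r = 1}
        one_mem' := ⟨K.one_mem, by rw [map_one, one_pow]⟩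
        mul_mem' := fun {a b} ha hb => ⟨K.mul_mem ha.1 hb.1, by
          rw [map_mul, (hcomm a ha.1 b hb.1).mul_pow, ha.2, hb.2, one_mul]⟩
        inv_mem' := fun {a} ha => ⟨K.inv_mem ha.1, by rw [map_inv, inv_pow, ha.2, inv_one]⟩ }
    have hmem : ∀ k, k ∈ N0 ↔ k ∈ K ∧ k ^ r ∈ h.F := fun k => by
      show k ∈ K ∧ f k ^ r = 1 ↔ _
      rw [← map_pow]
      exact and_congr_right fun _ => QuotientGroup.eq_one_iff _
    have hN0n : N0.Normal := ⟨fun k hk g => (hmem _).2 ⟨h.Kn.conj_mem k ((hmem k).1 hk).1 g, by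
      rw [conj_pow]; exact h.F_normal.conj_mem _ ((hmem k).1 hk).2 g⟩⟩
    have hFN : h.F ≤ N0 := fun k hk => (hmem k).2 ⟨h.F_le_K hk, h.F.pow_mem hk r⟩
    obtain ⟨k, hkK, hkF⟩ := SetLike.exists_of_lt h.F_lt_K
    have hFN' : h.F < N0 := by
      refine lt_of_le_of_ne hFN fun he => hkF ?_
      have hstep : ∀ i, k ^ (r ^ i) ∈ h.F → k ∈ h.F := by
        intro i
        induction i with
        | zero => intro hi; simpa using hi
        | succ i ih =>
          intro hi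
          refine ih ?_
          rw [he]
          exact (hmem _).2 ⟨K.pow_mem hkK _, by rw [← pow_mul, ← pow_succ]; exact hi⟩
      refine hstep j ?_
      have h1 := Subgroup.pow_index_mem (h.F.subgroupOf K) ⟨k, hkK⟩
      rw [← Subgroup.relIndex, hj, mem_subgroupOf] at h1
      exact h1
    have hexp : ∀ k ∈ K, k ^ r ∈ h.F := by
      intro k hk
      have hle : N0 ≤ K := fun x hx => ((hmem x).1 hx).1
      have hN0K : N0 = K := by
        by_contra hne
        exact hmax N0 hN0n hFN' (lt_of_le_of_ne hle hne)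
      rw [← hN0K] at hk
      exact ((hmem k).1 hk).2
    obtain ⟨h2r, hru, X, hX, hXirr, hXdeg, hXc, hXcard⟩ :=
      h.exists_block hd hC hr hj hexp (fun hdvd => hqr r m hr hrm (by rw [h.K_index]; exact hdvd))
    exact hblock r (h.F.relIndex K) X
      (by rw [hq]; exact redChars_degree h hd) (by rw [← hK, hd]) hr.one_lt hru (by rw [hp]; exact h2r)
      hX hXirr (by rw [hq]; exact hXdeg) hXc (by rw [hp]; exact hXcard)

end Main

section Bridge

variable {G : Type u} [Group G] [Fintype G]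

/-- The structure theorem, from the data of the Sylow subgroup `Q` of `M'` for `p = |W₂|`. -/
theorem structure_of_data (hG : Cfsg.IsMinSimpleOddOrder G) {M : Subgroup G} [Fintype ↥M]
    {W₁ U W₂ : Subgroup G} (hP : Cfsg.IsTypePWith M W₁ U W₂)
    (h34 : Cfsg.IsOfTypeIII M ∨ Cfsg.IsOfTypeIV M) (hS : PFPrimeTI.Setup M W₁ W₂)
    (hall : ¬ PFPrimeTI.AllCoherent M) (hlt : LtRefuted M W₁ W₂) (hblock : BlockRefuted M W₁ W₂)
    (hWp : (Nat.card W₁).Prime) {Q : Subgroup G} (hQH : Q ≤ Cfsg.fittingHallOf M)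
    (hQn : M ≤ Subgroup.normalizer (Q : Set G)) (hQp : IsPGroup (Nat.card W₂) Q)
    (hQi : ¬ Nat.card W₂ ∣ Q.relIndex ⁅M, M⁆)
    (hQD : ∀ D : Subgroup G, Cfsg.IsComplIn Q D ⁅M, M⁆ →
      Group.IsNilpotent D ∧ M ≤ Subgroup.normalizer ((Q ⊓ Subgroup.centralizer (D : Set G) : Subgroup G) : Set G) ∧
      Q ⊓ Subgroup.centralizer (D : Set G) < Q ∧
      Nat.card Q = Nat.card ↥(Q ⊓ Subgroup.centralizer (D : Set G)) * Nat.card W₂ ^ Nat.card W₁ ∧
      (∀ a ∈ Q, ∀ b ∈ Q, a ^ Nat.card W₂ ∈ Q ⊓ Subgroup.centralizer (D : Set G) ∧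
        a * b * a⁻¹ * b⁻¹ ∈ Q ⊓ Subgroup.centralizer (D : Set G)) ∧
      ∀ N : Subgroup G, Q ⊓ Subgroup.centralizer (D : Set G) < N → N < Q →
        ¬ M ≤ Subgroup.normalizer (N : Set G)) :
    Cfsg.IsElementaryAbelian (Nat.card W₂) (Cfsg.fittingHallOf M) ∧
      Nat.card (Cfsg.fittingHallOf M) = Nat.card W₂ ^ Nat.card W₁ ∧
      ¬ Nat.card W₁ < Nat.card W₂ ∧ IsMulCommutative U ∧ Cfsg.IsOfTypeIII M ∧ ¬ Cfsg.IsOfTypeIV M := by
  classical
  have hle : ⁅M, M⁆ ≤ M := hP.W₁_compl.1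
  have hW1M : W₁ ≤ M := hP.W₁_compl.2.1
  have hcop : (Nat.card ↥⁅M, M⁆).Coprime (Nat.card W₁) := by
    rw [← (BGTypeBasic.relIndex_of_isComplIn (BGTypeBasic.isComplIn_swap hP.W₁_compl)).1]
    exact hP.W₁_hall.symm
  have hW2le : W₂ ≤ ⁅M, M⁆ := (hP.W₂_le.trans inf_le_left).trans
    (BGTypeBasic.typeP_fittingHallOf_le_derived hP)
  set p := Nat.card W₂ with hp
  set q := Nat.card W₁ with hq
  haveI := Fact.mk hS.prime
  set H := Cfsg.fittingHallOf M with hH
  have hHK : H ≤ ⁅M, M⁆ := BGTypeBasic.typeP_fittingHallOf_le_derived hP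
  have hQK : Q ≤ ⁅M, M⁆ := hQH.trans hHK
  have hQM : Q ≤ M := hQK.trans hle
  haveI hHnil : Group.IsNilpotent H := by
    haveI := FittingHallBasic.fittingHall_isNilpotent (G := ↥M)
    exact nilpotent_of_mulEquiv
      ((Cfsg.fittingHall ↥M).equivMapOfInjective M.subtype M.subtype_injective)
  have hcommH : ∀ a ∈ H, ∀ b ∈ H, (orderOf a).Coprime (orderOf b) → a * b = b * a := by
    intro a ha b hb hab
    exact congrArg Subtype.val (FittingHallBasic.commute_of_coprime_orderOf (a := (⟨a, ha⟩ : H))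
      (b := ⟨b, hb⟩) (by rwa [Subgroup.orderOf_mk, Subgroup.orderOf_mk])).eq
  -- `Q` is the Sylow `p`-subgroup of `M'`
  obtain ⟨nQ, hnQ⟩ := hQp.exists_card_eq
  have hQcop : (Nat.card Q).Coprime (Q.relIndex ⁅M, M⁆) := by
    rw [hnQ]
    exact (hS.prime.coprime_iff_not_dvd.2 hQi).pow_left nQ
  -- the `p'`-part of `H`
  haveI hQnH : (Q.subgroupOf H).Normal := normal_subgroupOf_of_le_normalizer ((hHK.trans hle).trans hQn)
  have hH0dvd : (Nat.card (Q.subgroupOf H)).Coprime (Q.subgroupOf H).index := by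
    rw [Nat.card_congr (Subgroup.subgroupOfEquivOfLe hQH).toEquiv]
    exact hQcop.coprime_dvd_right (relIndex_dvd_right hQH hHK)
  obtain ⟨X, hX⟩ := Subgroup.exists_right_complement'_of_coprime hH0dvd
  set H0 : Subgroup G := X.map H.subtype with hH0
  have hH0H : H0 ≤ H := map_subtype_le _
  have hH0card : Nat.card H0 = Q.relIndex H := by
    rw [hH0, Subgroup.card_map_of_injective H.subtype_injective]
    have h1 := hX.symm.index_eq_card
    exact h1.symm
  have hH0p : ¬ p ∣ Nat.card H0 := fun hd =>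
    hQi (hd.trans (hH0card ▸ relIndex_dvd_right hQH hHK))
  have hQX : ∀ a ∈ Q, ∀ b ∈ H0, a * b = b * a := by
    intro a ha b hb
    refine hcommH a (hQH ha) b (hH0H hb) ?_
    refine ((hQcop.coprime_dvd_left (Subgroup.orderOf_dvd_natCard Q ha))).coprime_dvd_right ?_
    exact (Subgroup.orderOf_dvd_natCard H0 hb).trans
      (hH0card ▸ relIndex_dvd_right hQH hHK)
  have hdecH : ∀ y ∈ H, ∃ a ∈ Q, ∃ b ∈ H0, y = a * b := by
    intro y hy
    obtain ⟨⟨a, b⟩, hab, -⟩ := hX.existsUnique (⟨y, hy⟩ : H)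
    exact ⟨(a : H), a.2, _, mem_map_of_mem H.subtype b.2, (congrArg Subtype.val hab).symm⟩
  have hH0char : ∀ y ∈ H, y ^ Nat.card H0 = 1 → y ∈ H0 := by
    intro y hy hyn
    obtain ⟨a, ha, b, hb, rfl⟩ := hdecH y hy
    rw [(show Commute a b from hQX a ha b hb).mul_pow,
      show b ^ Nat.card H0 = 1 from orderOf_dvd_iff_pow_eq_one.1 (Subgroup.orderOf_dvd_natCard H0 hb),
      mul_one] at hyn
    have ha1 : a = 1 := orderOf_eq_one_iff.1 (Nat.eq_one_of_dvd_coprimes
      (hQcop.coprime_dvd_right (hH0card ▸ relIndex_dvd_right hQH hHK))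
      (Subgroup.orderOf_dvd_natCard Q ha) (orderOf_dvd_of_pow_eq_one hyn))
    rw [ha1, one_mul]
    exact hb
  have hH0M : M ≤ normalizer (H0 : Set G) := fun g hg => mem_normalizer_fintype fun y hy =>
    hH0char _ (BGTypeSetup.conj_mem_fittingHallOf hg (hH0H hy)) (by
      rw [conj_pow, show y ^ Nat.card H0 = 1 from orderOf_dvd_iff_pow_eq_one.1
        (Subgroup.orderOf_dvd_natCard H0 hy)]
      simp)
  -- the complement `D = H₀ U`
  obtain ⟨hHK', hUK, hHiU, hHU⟩ := hP.U_compl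
  have hUM : U ≤ M := hUK.trans hle
  set D : Subgroup G := H0 ⊔ U with hD
  have hDK : D ≤ ⁅M, M⁆ := sup_le (hH0H.trans hHK) hUK
  have hDM : D ≤ M := hDK.trans hle
  have hDmem : ∀ x ∈ D, ∃ a ∈ H0, ∃ b ∈ U, x = a * b := by
    intro x hx
    rw [hD, ← SetLike.mem_coe,
      Subgroup.coe_mul_of_right_le_normalizer_left H0 U (hUM.trans hH0M)] at hx
    obtain ⟨a, ha, b, hb, hab⟩ := Set.mem_mul.1 hx
    exact ⟨a, ha, b, hb, hab.symm⟩
  have hQiD : Q ⊓ D = ⊥ := by
    refine le_bot_iff.1 fun x hx => ?_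
    obtain ⟨a, ha, b, hb, rfl⟩ := hDmem x hx.2
    have hbH : b ∈ H ⊓ U := ⟨by simpa using H.mul_mem (H.inv_mem (hH0H ha)) (hQH hx.1), hb⟩
    rw [hH, hHiU, mem_bot] at hbH
    rw [hbH, mul_one] at hx ⊢
    exact (Subgroup.inf_eq_bot_of_coprime (hQcop.coprime_dvd_right
      (hH0card ▸ relIndex_dvd_right hQH hHK))).le ⟨hx.1, ha⟩
  have hDc : Cfsg.IsComplIn Q D ⁅M, M⁆ := by
    refine ⟨hQK, hDK, hQiD, fun y hy => ?_⟩
    obtain ⟨c, hc, b, hb, rfl⟩ := hHU y hy
    obtain ⟨a, ha, x, hx, rfl⟩ := hdecH c hc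
    exact ⟨a, ha, x * b, mul_mem_sup hx hb, mul_assoc a x b⟩
  obtain ⟨hDnil, hQ0n, hQ0lt, hQcard, hfrat, hmin⟩ := hQD D hDc
  have hDcard : Nat.card D = Q.relIndex ⁅M, M⁆ :=
    (BGTypeBasic.relIndex_of_isComplIn hDc).1.symm
  -- pass to `↥M`
  have hKeq : (PFPrimeTI.ker M) = (⁅M, M⁆ : Subgroup G).subgroupOf M := rfl
  set Q' := Q.subgroupOf M with hQ'
  set D' := D.subgroupOf M with hD'
  set W' := W₁.subgroupOf M with hW'
  set V' := W₂.subgroupOf M with hV'
  have hcW : Nat.card W' = q := Nat.card_congr (subgroupOfEquivOfLe hW1M).toEquiv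
  have hcV : Nat.card V' = p := Nat.card_congr (subgroupOfEquivOfLe (hW2le.trans hle)).toEquiv
  have hcQ : Nat.card Q' = Nat.card Q := Nat.card_congr (subgroupOfEquivOfLe hQM).toEquiv
  have hcen : ∀ (A : Subgroup G), A ≤ M → ∀ x : ↥M,
      x ∈ centralizer (A.subgroupOf M : Set ↥M) ↔ (x : G) ∈ centralizer (A : Set G) := by
    intro A hA x
    rw [mem_centralizer_iff, mem_centralizer_iff]
    exact ⟨fun hx a ha => congrArg Subtype.val (hx ⟨a, hA ha⟩ ha),
      fun hx a ha => Subtype.ext (hx a ha)⟩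
  have hcomm : ∀ A : Subgroup G, A ≤ M →
      (⁅A, A⁆ : Subgroup G).subgroupOf M = ⁅A.subgroupOf M, A.subgroupOf M⁆ := by
    intro A hA
    refine Subgroup.map_injective M.subtype_injective ?_
    rw [Subgroup.map_commutator, Subgroup.subgroupOf_map_subtype, Subgroup.subgroupOf_map_subtype,
      inf_eq_left.2 hA]
    exact inf_eq_left.2 ((Subgroup.commutator_le.2 fun a ha b hb =>
      A.mul_mem (A.mul_mem (A.mul_mem ha hb) (A.inv_mem ha)) (A.inv_mem hb)).trans hA)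
  have hQ0eq : Q' ⊓ centralizer (D' : Set ↥M) = (Q ⊓ centralizer (D : Set G)).subgroupOf M := by
    ext x
    rw [mem_inf, mem_subgroupOf, hcen D hDM]
    rfl
  have hQ0M : Q ⊓ centralizer (D : Set G) ≤ M := inf_le_left.trans hQM
  have hshape : Shape (PFPrimeTI.ker M) W' V' Q' D' p q := by
    refine
      { hp := hS.prime
        hq := hWp
        hodd := hG.1.of_dvd_nat M.card_subgroup_dvd_card
        Kn := inferInstance
        cardW := hcW
        hqK := ?_
        KW := ?_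
        KiW := ?_
        fix := ?_
        W2le := ?_
        cardW2 := hcV
        Qn := normal_subgroupOf_of_le_normalizer hQn
        Qp := hQp.comap_subtype
        QiD := ?_
        QD := ?_
        Dp := ?_
        Dnil := ?_
        WD := ?_
        DD := ?_
        Q0n := ?_
        Q0lt := ?_
        cardQ := ?_
        frat := ?_
        min := ?_ }
    · intro hd
      rw [hKeq, Nat.card_congr (subgroupOfEquivOfLe hle).toEquiv] at hd
      exact (hWp.coprime_iff_not_dvd.1 hcop.symm) hd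
    · rw [hKeq, hW', ← Subgroup.subgroupOf_sup hle hW1M, BGTypeBasic.sup_eq_of_isComplIn hP.W₁_compl,
        subgroupOf_self]
    · refine le_bot_iff.1 fun x hx => ?_
      have : (x : G) ∈ (⁅M, M⁆ : Subgroup G) ⊓ W₁ := ⟨hx.1, hx.2⟩
      rw [hP.W₁_compl.2.2.1, mem_bot] at this
      exact mem_bot.2 (Subtype.ext this)
    · intro x hx hx1
      ext y
      rw [mem_inf, mem_centralizer_singleton_iff, hV', mem_subgroupOf,
        ← hP.W₂_centralizer (x : G) hx fun he => hx1 (Subtype.ext he), mem_inf,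
        mem_centralizer_singleton_iff]
      exact and_congr Iff.rfl (Subtype.ext_iff)
    · refine le_inf (fun x hx => ?_) ?_
      · obtain ⟨a, ha, b, hb, hab⟩ := hdecH (x : G) (hP.W₂_le hx).1
        have hxp : (x : G) ^ p = 1 := by
          have := orderOf_dvd_iff_pow_eq_one.1 (Subgroup.orderOf_dvd_natCard W₂ hx)
          exact this
        rw [hab, (show Commute a b from hQX a ha b hb).mul_pow] at hxp
        have hbp : b ^ p ∈ Q ⊓ D := ⟨by
          rw [eq_inv_of_mul_eq_one_right hxp]; exact Q.inv_mem (Q.pow_mem ha p),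
          D.pow_mem (Subgroup.mem_sup_left hb) p⟩
        rw [hQiD, mem_bot] at hbp
        have hb1 : b = 1 := orderOf_eq_one_iff.1 (Nat.eq_one_of_dvd_coprimes
          ((hS.prime.coprime_iff_not_dvd).2 hH0p) (orderOf_dvd_of_pow_eq_one hbp)
          (Subgroup.orderOf_dvd_natCard H0 hb))
        show (x : G) ∈ Q
        rw [hab, hb1, mul_one]
        exact ha
      · rw [hKeq, ← hcomm _ hle]
        exact fun x hx => (hP.W₂_le hx).2
    · refine le_bot_iff.1 fun x hx => ?_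
      have : (x : G) ∈ Q ⊓ D := ⟨hx.1, hx.2⟩
      rw [hQiD, mem_bot] at this
      exact mem_bot.2 (Subtype.ext this)
    · rw [hKeq, hQ', hD', ← Subgroup.subgroupOf_sup hQM hDM, BGTypeBasic.sup_eq_of_isComplIn hDc]
    · rw [Nat.card_congr (subgroupOfEquivOfLe hDM).toEquiv, hDcard]
      exact hQi
    · haveI := hDnil
      exact nilpotent_of_mulEquiv (subgroupOfEquivOfLe hDM).symm
    · intro x hx
      have hxD : (x : G) ∈ normalizer (D : Set G) := by
        rw [mem_normalizer_iff_map_conj_eq, hD, Subgroup.map_sup]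
        congr 1
        · exact mem_normalizer_iff_map_conj_eq.1 (hH0M x.2)
        · exact mem_normalizer_iff_map_conj_eq.1 (hP.U_normal hx)
      exact mem_normalizer_fintype fun y hy => (mem_normalizer_iff.1 hxD y).1 hy
    · rw [hD', ← hcomm _ hDM]
      intro c hc
      refine (hcen Q hQM c).2 (mem_centralizer_iff.2 fun y hy => ?_)
      have hcD : (c : G) ∈ D := (Subgroup.commutator_le.2 fun a ha b hb =>
        D.mul_mem (D.mul_mem (D.mul_mem ha hb) (D.inv_mem ha)) (D.inv_mem hb)) hc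
      have hcF : (c : G) ∈ Cfsg.fittingOf M := hP.fitting_eq ▸ hP.derived_two_le
        (Subgroup.commutator_mono hDK hDK hc)
      have hyF : y ∈ Cfsg.fittingOf M := FittingHallBasic.fittingHallOf_le_fittingOf M (hQH hy)
      haveI := FittingHallBasic.fittingOf_isNilpotent M
      exact congrArg Subtype.val (FittingHallBasic.commute_of_coprime_orderOf
        (a := (⟨y, hyF⟩ : Cfsg.fittingOf M)) (b := ⟨c, hcF⟩) (by
          rw [Subgroup.orderOf_mk, Subgroup.orderOf_mk]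
          exact (hQcop.coprime_dvd_left (Subgroup.orderOf_dvd_natCard Q hy)).coprime_dvd_right
            (hDcard ▸ Subgroup.orderOf_dvd_natCard D hcD))).eq
    · rw [hQ0eq]
      exact normal_subgroupOf_of_le_normalizer hQ0n
    · refine lt_of_le_of_ne inf_le_left fun he => hQ0lt.ne (le_antisymm inf_le_left fun y hy => ?_)
      have : (⟨y, hQM hy⟩ : ↥M) ∈ Q' ⊓ centralizer (D' : Set ↥M) := he.symm ▸ hy
      rw [hQ0eq] at this
      exact this
    · rw [hQ0eq, hcQ, hQcard, Nat.card_congr (subgroupOfEquivOfLe hQ0M).toEquiv]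
    · intro a ha b hb
      rw [hQ0eq]
      refine ⟨?_, ?_⟩
      · rw [mem_subgroupOf, SubmonoidClass.coe_pow]
        exact (hfrat a ha b hb).1
      · rw [mem_subgroupOf]
        exact (hfrat a ha b hb).2
    · intro N hN hle1 hle2
      by_contra hcon
      push Not at hcon
      have hNQ : N.map M.subtype ≤ Q := fun y hy => by
        obtain ⟨z, hz, rfl⟩ := hy
        exact hle2 hz
      refine hmin (N.map M.subtype) (lt_of_le_of_ne ?_ fun he => hcon.1 ?_)
        (lt_of_le_of_ne hNQ fun he => hcon.2 ?_) ?_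
      · intro y hy
        exact ⟨⟨y, hQ0M hy⟩, hle1 (hQ0eq.symm ▸ hy), rfl⟩
      · rw [hQ0eq, he]
        exact (comap_map_eq_self_of_injective M.subtype_injective N).symm
      · rw [hQ', ← he]
        exact (comap_map_eq_self_of_injective M.subtype_injective N).symm
      · intro g hg
        refine mem_normalizer_fintype ?_
        rintro _ ⟨z, hz, rfl⟩
        exact ⟨⟨g, hg⟩ * z * ⟨g, hg⟩⁻¹, hN.conj_mem z hz _, rfl⟩
  have hd := commutator_eq_F hshape hS hall
  have hC := C_eq_bot hshape hS hall hblock hp.symm hq.symm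
  have hQ0 : Q ⊓ centralizer (D : Set G) = ⊥ := by
    have h1 := hshape.Q0_eq_bot hd
    rw [hQ0eq, Subgroup.subgroupOf_eq_bot] at h1
    exact disjoint_self.1 (h1.mono_right hQ0M)
  have hDab : ∀ a ∈ D, ∀ b ∈ D, a * b = b * a := by
    intro a ha b hb
    have h1 : ⁅(⟨a, hDM ha⟩ : ↥M), ⟨b, hDM hb⟩⁆ ∈ ⁅D', D'⁆ :=
      commutator_mem_commutator (g₁ := (⟨a, hDM ha⟩ : ↥M)) (g₂ := ⟨b, hDM hb⟩) ha hb
    rw [hshape.commutator_D_eq hd, hC, mem_bot, commutatorElement_eq_one_iff_mul_comm] at h1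
    exact congrArg Subtype.val h1
  -- `H₀ = 1`
  have hH0bot : H0 = ⊥ := by
    refine le_bot_iff.1 fun x hx => ?_
    have hxm : (⟨x, hDM (Subgroup.mem_sup_left hx)⟩ : ↥M) ∈ D' ⊓ centralizer (Q' : Set ↥M) :=
      ⟨Subgroup.mem_sup_left (T := U) hx, (hcen Q hQM _).2 (mem_centralizer_iff.2 fun y hy => hQX y hy x hx)⟩
    rw [hC, mem_bot] at hxm
    exact mem_bot.2 (congrArg Subtype.val hxm)
  have hHQ : H = Q := le_antisymm (fun y hy => by
    obtain ⟨a, ha, b, hb, rfl⟩ := hdecH y hy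
    rw [hH0bot, mem_bot] at hb
    simpa [hb] using ha) hQH
  have hUab : IsMulCommutative U := ⟨⟨fun a b => Subtype.ext
    (hDab a (Subgroup.mem_sup_right a.2) b (Subgroup.mem_sup_right b.2))⟩⟩
  have hnotIV : ¬ Cfsg.IsOfTypeIV M := by
    rintro ⟨W₁', U', W₂', hP', -, -, -, hna, -⟩
    obtain ⟨m, -, hm⟩ := BGTypeBasic.typeP_U_conj hP hP'
    refine hna ?_
    subst hm
    refine ⟨⟨fun a b => Subtype.ext ?_⟩⟩
    have ha' := BGTypeBasic.mem_conj_smul.1 a.2
    have hb' := BGTypeBasic.mem_conj_smul.1 b.2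
    have := congrArg (fun z => m * z * m⁻¹)
      (hDab _ (Subgroup.mem_sup_right ha') _ (Subgroup.mem_sup_right hb'))
    simpa [mul_assoc] using this
  refine ⟨⟨⟨⟨fun a b => Subtype.ext ?_⟩⟩, fun a ha => ?_⟩, ?_, ?_, hUab, h34.resolve_right hnotIV, hnotIV⟩
  · have h1 := (hfrat a (hHQ ▸ a.2) b (hHQ ▸ b.2)).2
    rw [hQ0, mem_bot] at h1
    exact commutatorElement_eq_one_iff_mul_comm.1 h1
  · have h1 := (hfrat a (hHQ ▸ ha) a (hHQ ▸ ha)).1
    rwa [hQ0, mem_bot] at h1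
  · rw [hHQ, hQcard, hQ0, Subgroup.card_bot, one_mul]
  · exact not_lt hshape hS hall hlt hp.symm hq.symm

end Bridge

end Cfsg.Agent.PFType34
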