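import Mathlib
import Cfsg.Agent.Lib.TIFixed
import Cfsg.Agent.Lib.HallHigmanExtraspecialAction
import Cfsg.Agent.Lib.OddLocalBase
import Cfsg.Agent.Lib.PGroupsCyclic
import Cfsg.Agent.Lib.FittingHallBasic

/-!
A nilpotent group with a cyclic group of operators `⟨w⟩` whose fixed points are a subgroup of order `p`
inside the derived group: every cyclic subgroup has index greater than `orderOf w`.
-/

set_option autoImplicit false
set_option linter.unusedSectionVars false

open Subgroup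
open scoped commutatorElement

namespace Cfsg.Agent.PFTypeV19

variable {G : Type*} [Group G] [Finite G]

/-- Free action on the complement of a subgroup. -/
theorem ratio_of_free {X Y : Subgroup G} (hYX : Y ≤ X) {w : G} (hwX : w ∈ normalizer (X : Set G))
    (hwY : w ∈ normalizer (Y : Set G)) (hodd : Odd (Nat.card X)) (hwodd : Odd (orderOf w))
    (hcop : (orderOf w).Coprime (Nat.card Y))
    (hfree : ∀ k : ℕ, w ^ k ≠ 1 → ∀ a ∈ X, w ^ k * a = a * w ^ k → a ∈ Y) (hne : Y ≠ X) :
    ∃ v, Nat.card X = Nat.card Y * v ∧ 2 * orderOf w + 1 ≤ v := by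
  classical
  haveI := Fintype.ofFinite G
  obtain ⟨v, hv⟩ := card_dvd_of_le hYX
  refine ⟨v, hv, ?_⟩
  have hv1 : 1 < v := by
    by_contra h
    rcases Nat.le_one_iff_eq_zero_or_eq_one.1 (not_lt.1 h) with rfl | rfl
    · rw [mul_zero] at hv; exact Nat.card_pos.ne' hv
    · exact hne (eq_of_le_of_card_ge hYX (by rw [hv, mul_one]))
  set A := zpowers w
  letI : MulAction A {a : G // a ∈ (X : Set G) \ (Y : Set G)} :=
    { smul := fun x a => ⟨(x : G) * a.1 * (x : G)⁻¹,
        ⟨(mem_normalizer_iff.1 (zpowers_le.2 hwX x.2) a.1).1 a.2.1,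
          fun h => a.2.2 ((mem_normalizer_iff.1 (zpowers_le.2 hwY x.2) a.1).2 h)⟩⟩
      one_smul := fun a => Subtype.ext (by show (1 : G) * a.1 * (1 : G)⁻¹ = a.1; group)
      mul_smul := fun x y a => Subtype.ext (by
        show ((x : G) * y) * a.1 * ((x : G) * y)⁻¹ = x * (y * a.1 * (y : G)⁻¹) * (x : G)⁻¹; group) }
  obtain ⟨R, hR⟩ := TIFixed.sum_eq_sum_orbit_reps (P := A) (Y := {a : G // a ∈ (X : Set G) \ (Y : Set G)})
    (fun x a h => by
      by_contra hx
      obtain ⟨k, hk⟩ := mem_powers_iff_mem_zpowers.2 x.2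
      refine a.2.2 (hfree k (fun e => hx (Subtype.ext (hk.symm.trans e))) a.1 a.2.1 ?_)
      have e : (x : G) * a.1 * (x : G)⁻¹ = a.1 := congrArg Subtype.val h
      rw [← hk] at e
      exact mul_inv_eq_iff_eq_mul.1 e) (fun _ => 1)
  simp only [Finset.sum_const, Finset.card_univ, smul_eq_mul, mul_one] at hR
  rw [← Nat.card_eq_fintype_card, ← Nat.card_eq_fintype_card, Nat.card_zpowers,
    Nat.card_coe_set_eq, Set.ncard_diff hYX, ← Nat.card_coe_set_eq, ← Nat.card_coe_set_eq] at hR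
  have hdvd : orderOf w ∣ Nat.card Y * (v - 1) := ⟨R.card, by
    rw [Nat.mul_sub_one, ← hv]; exact hR⟩
  have h1 := hcop.dvd_of_dvd_mul_left hdvd
  rw [hv, Nat.odd_mul] at hodd
  have h2 : 2 * orderOf w ∣ v - 1 :=
    (Nat.coprime_two_left.2 hwodd).mul_dvd_of_dvd_of_dvd (even_iff_two_dvd.1 (Nat.Odd.sub_odd hodd.2 odd_one)) h1
  have := Nat.le_of_dvd (by omega) h2
  omega

theorem lt_relIndex_of_cyclic {P C W₂ : Subgroup G} {p : ℕ} [hp : Fact p.Prime] (hP : IsPGroup p P)
    (hodd : Odd (Nat.card P)) {w : G} (hwP : w ∈ normalizer (P : Set G)) (hw1 : 1 < orderOf w)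
    (hwodd : Odd (orderOf w)) (hcop : (orderOf w).Coprime p) (hW₂ : Nat.card W₂ = p)
    (hW₂P : W₂ ≤ ⁅P, P⁆) (hfix : ∀ k : ℕ, w ^ k ≠ 1 → P ⊓ centralizer ({w ^ k} : Set G) = W₂)
    (hC : IsCyclic C) (hCP : C ≤ P) : orderOf w < C.relIndex P := by
  classical
  obtain ⟨a, ha⟩ := hP.exists_card_eq
  have hCne : C ≠ P := by
    rintro rfl
    have h : ⁅C, C⁆ = ⊥ := commutator_eq_bot_iff_le_centralizer.2 fun x hx => mem_centralizer_iff.2
      fun y hy => congrArg Subtype.val (show (⟨y, hy⟩ : C) * ⟨x, hx⟩ = ⟨x, hx⟩ * ⟨y, hy⟩ from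
        (hC.commGroup.mul_comm _ _))
    rw [h, le_bot_iff] at hW₂P
    rw [hW₂P, card_bot] at hW₂
    exact hp.out.one_lt.ne hW₂
  have hidx : 1 < C.relIndex P := by
    rcases Nat.lt_or_ge 1 (C.relIndex P) with h | h
    · exact h
    · have h0 : C.relIndex P ≠ 0 := index_ne_zero_of_finite
      have h1 : C.relIndex P = 1 := le_antisymm h (Nat.one_le_iff_ne_zero.2 h0)
      exact absurd (le_antisymm hCP (relIndex_eq_one.1 h1)) hCne
  rcases Nat.lt_or_ge (orderOf w) p with hlt | hge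
  · obtain ⟨b, hb, hbe⟩ := (Nat.dvd_prime_pow hp.out).1 (ha ▸ relIndex_dvd_card C P)
    rw [hbe] at hidx ⊢
    exact hlt.trans_le (Nat.le_self_pow (fun e => by rw [e, pow_zero] at hidx; omega) p)
  have hpq : p < orderOf w := lt_of_le_of_ne hge fun e => by
    rw [← e, Nat.coprime_self] at hcop
    exact hp.out.one_lt.ne hcop.symm
  have hcopY : ∀ Y : Subgroup G, Y ≤ P → (orderOf w).Coprime (Nat.card Y) := fun Y hY =>
    ((hcop.pow_right a).coprime_dvd_right (ha ▸ card_dvd_of_le hY))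
  set D := (frattini P).map P.subtype with hD
  have hDP : D ≤ P := map_subtype_le _
  have hwD : w ∈ normalizer (D : Set G) :=
    OddLocalBase.le_normalizer_map_characteristic (A := zpowers w) (zpowers_le.2 hwP) (frattini P)
      (mem_zpowers w)
  have hPD : ⁅P, P⁆ ≤ D := by
    rw [← map_subtype_commutator]
    exact map_mono (PGroupsBasic.commutator_le_frattini hP)
  have hWD : W₂ ≤ D := hW₂P.trans hPD
  haveI : Nontrivial P := (nontrivial_iff_ne_bot P).2 fun h => by
    rw [h] at hCP hCne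
    exact hCne (le_bot_iff.1 hCP)
  have hDne : D ≠ P := by
    intro h
    refine PGroupsBasic.frattini_ne_top (G := P) (map_injective P.subtype_injective ?_)
    rw [← MonoidHom.range_eq_map, range_subtype]; exact h
  obtain ⟨v, hv, hvq⟩ := ratio_of_free hDP hwP hwD hodd hwodd (hcopY D hDP)
    (fun k hk x hx hc => hWD (hfix k hk ▸ ⟨hx, mem_centralizer_singleton_iff.2 hc.symm⟩)) hDne
  have hrel : Nat.card C * C.relIndex P = Nat.card P := by
    rw [← Nat.card_congr (subgroupOfEquivOfLe hCP).toEquiv]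
    exact card_mul_index (C.subgroupOf P)
  -- a cyclic subgroup is at most `p` times its part inside `D`
  have hCD : Nat.card C ≤ p * Nat.card (C ⊓ D : Subgroup G) := by
    obtain ⟨⟨c, hc⟩, hgen⟩ := hC.exists_generator
    have h1 : Nat.card C = orderOf c := by
      rw [← orderOf_mk c hc, orderOf_eq_card_of_forall_mem_zpowers hgen]
    have h2 : c ^ p ∈ C ⊓ D := ⟨pow_mem hc p,
      ⟨⟨c, hCP hc⟩ ^ p, PGroupsBasic.pow_mem_frattini hP _, rfl⟩⟩
    rw [h1]
    have h3 := Nat.le_of_dvd (Nat.mul_pos hp.out.pos (orderOf_pos (c ^ p))) (orderOf_dvd_of_pow_eq_one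
      (show c ^ (p * orderOf (c ^ p)) = 1 by rw [pow_mul, pow_orderOf_eq_one]))
    exact h3.trans (Nat.mul_le_mul_left p (Nat.le_of_dvd Nat.card_pos (orderOf_dvd_natCard _ h2)))
  by_cases hDc : IsCyclic D
  swap
  · -- `D` is not cyclic
    have hCD' : C ⊓ D ≠ D := fun h => hDc (h ▸ (haveI := hC; isCyclic_of_le inf_le_left))
    obtain ⟨m, hm⟩ := card_dvd_of_le (inf_le_right : C ⊓ D ≤ D)
    have hm1 : m ≠ 1 := fun e => hCD' (eq_of_le_of_card_ge inf_le_right (by rw [hm, e, mul_one]))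
    have hmp : p ≤ m := by
      obtain ⟨b, -, rfl⟩ := (Nat.dvd_prime_pow hp.out).1
        (ha ▸ ((Dvd.intro_left _ hm.symm).trans (card_dvd_of_le hDP)))
      exact Nat.le_self_pow (fun e => by rw [e, pow_zero] at hm1; exact hm1 rfl) p
    have h4 : Nat.card C ≤ Nat.card D := hCD.trans (by rw [hm, mul_comm]; exact Nat.mul_le_mul_left _ hmp)
    have h5 : v ≤ C.relIndex P := by
      by_contra h
      rw [hv] at hrel
      have : Nat.card C * C.relIndex P < Nat.card D * v :=
        Nat.mul_lt_mul_of_le_of_lt h4 (not_le.1 h) Nat.card_pos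
      omega
    omega
  -- `D` cyclic: `w` centralises it, so `D = W₂`
  have hDW : D = W₂ := by
    refine le_antisymm ?_ hWD
    haveI : IsMulCommutative D := hDc.isMulCommutative
    have hle : zpowers w ≤ centralizer (D : Set G) := by
      refine CoprimeAction.le_centralizer_of_prime_order_fixed (zpowers_le.2 hwD)
        (by rw [Nat.card_zpowers]; exact hcopY D hDP) fun x hx hxp y hy => ?_
      have hxc : zpowers x = W₂ := by
        refine PGroupsCyclic.eq_of_card_eq_of_isCyclic hDc (zpowers_le.2 hx) hWD ?_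
        rw [hW₂, Nat.card_zpowers]
        obtain ⟨b, -, hb⟩ := (Nat.dvd_prime_pow hp.out).1 (ha ▸ P.orderOf_dvd_natCard (hDP hx))
        rw [hb] at hxp ⊢
        rw [(Nat.Prime.pow_eq_iff hxp).1 rfl |>.2, pow_one]
      obtain ⟨k, rfl⟩ := mem_powers_iff_mem_zpowers.2 hy
      by_cases hk : w ^ k = 1
      · simp [hk]
      exact (mem_centralizer_singleton_iff.1 (hfix k hk ▸ hxc ▸ mem_zpowers x :
        x ∈ P ⊓ centralizer ({w ^ k} : Set G)).2).symm
    intro x hx
    rw [← hfix 1 (by rw [pow_one]; exact fun e => by rw [e, orderOf_one] at hw1; omega)]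
    refine ⟨hDP hx, mem_centralizer_singleton_iff.2 ?_⟩
    rw [pow_one]
    exact mem_centralizer_iff.1 (hle (mem_zpowers w)) x hx
  have hC2 : Nat.card C ≤ p * p := hCD.trans (Nat.mul_le_mul_left p
    ((Nat.le_of_dvd Nat.card_pos (card_dvd_of_le inf_le_right)).trans (le_of_eq (by rw [hDW, hW₂]))))
  have hFcard : Nat.card (frattini P) = p := by
    rw [← hW₂, ← hDW, hD, card_map_of_injective P.subtype_injective]
  have hFZ : frattini P ≤ center P := by
    have hne : frattini P ≠ ⊥ := fun h => by rw [h, card_bot] at hFcard; exact hp.out.one_lt.ne hFcard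
    have h1 := PGroupsBasic.inf_center_ne_bot hP hne
    have h2 : frattini P ⊓ center P = frattini P := by
      refine eq_of_le_of_card_ge inf_le_left ?_
      rw [hFcard]
      rcases (Nat.dvd_prime hp.out).1 (hFcard ▸ card_dvd_of_le (inf_le_left : frattini P ⊓ center P ≤ _))
        with h | h
      · exact absurd (card_eq_one.1 h) h1
      · exact h.ge
    exact inf_eq_left.1 h2
  have hcomm : commutator P = frattini P := by
    refine eq_of_le_of_card_ge (PGroupsBasic.commutator_le_frattini hP) ?_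
    rw [hFcard, ← hW₂, ← card_map_of_injective (K := commutator P) (f := P.subtype) P.subtype_injective,
      map_subtype_commutator]
    exact card_le_of_le hW₂P
  by_cases hZ : frattini P = center P
  · -- extraspecial
    have hX : Cfsg.IsExtraspecial p ↥P := ⟨⟨hP, hZ, hcomm.trans hZ⟩, hZ ▸ hFcard⟩
    obtain ⟨n, hn1, hn⟩ := PGroupsExtraspecial.extraspecial_card hX
    have hor := HallHigman.dvd_pow_of_extraspecial P hX n hn (x := w)
      (fun e => by rw [e, orderOf_one] at hw1; omega) hwP hcop (fun k hk b => by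
        rw [← hZ]
        have hb : (b : G) ∈ W₂ ↔ b ∈ frattini P := by
          rw [← hDW, hD]
          exact ⟨fun ⟨c, hc, e⟩ => Subtype.ext e ▸ hc, fun h => ⟨b, h, rfl⟩⟩
        rw [← hb, ← hfix k hk]
        exact ⟨fun h => ⟨b.2, mem_centralizer_singleton_iff.2 h.symm⟩,
          fun h => (mem_centralizer_singleton_iff.1 h.2).symm⟩)
    have hev : Even (p ^ n + 1) ∧ Even (p ^ n - 1) := by
      have hpo : Odd p := hodd.of_dvd_nat (by rw [ha]; exact dvd_pow_self p (by
        intro e; rw [e, pow_zero] at ha; exact absurd ha (Finite.one_lt_card (α := P)).ne'))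
      exact ⟨(hpo.pow).add_odd odd_one, Nat.Odd.sub_odd hpo.pow odd_one⟩
    have hpn : 2 ≤ p ^ n := hp.out.two_le.trans (Nat.le_self_pow (by omega) p)
    have hq : orderOf w < p ^ n := by
      have key : ∀ m, Even m → 0 < m → orderOf w ∣ m → 2 * orderOf w ≤ m := fun m hm hm0 hd =>
        Nat.le_of_dvd hm0 ((Nat.coprime_two_left.2 hwodd).mul_dvd_of_dvd_of_dvd (even_iff_two_dvd.1 hm) hd)
      rcases hor with h | h
      · have := key _ hev.1 (by omega) h; omega
      · have := key _ hev.2 (by omega) h; omega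
    have h6 : p ^ n * (p * p) ≤ Nat.card P := by
      rw [hn, show 2 * n + 1 = n + 2 + (n - 1) by omega, pow_add, show p ^ (n + 2) = p ^ n * (p * p) by ring]
      exact Nat.le_mul_of_pos_right _ (pow_pos hp.out.pos _)
    by_contra h
    have : Nat.card C * C.relIndex P < p ^ n * (p * p) := by
      rw [mul_comm (p ^ n)]
      exact Nat.mul_lt_mul_of_le_of_lt hC2 (lt_of_le_of_lt (not_lt.1 h) hq) (Nat.mul_pos hp.out.pos hp.out.pos)
    omega
  · -- the centre is larger than the Frattini subgroup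
    set Z := (center P).map P.subtype with hZd
    have hwZ : w ∈ normalizer (Z : Set G) :=
      OddLocalBase.le_normalizer_map_characteristic (A := zpowers w) (zpowers_le.2 hwP) (center P)
        (mem_zpowers w)
    have hZP : Z ≤ P := map_subtype_le _
    have hDZ : D ≤ Z := map_mono hFZ
    have hDZne : D ≠ Z := fun h => hZ (map_injective P.subtype_injective h)
    have hZne : Z ≠ P := by
      intro h
      have htop : center P = ⊤ := map_injective P.subtype_injective (by
        rw [← MonoidHom.range_eq_map, range_subtype]; exact h)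
      have : commutator P = ⊥ := (commutator_eq_bot_iff_center_eq_top (G := ↥P)).2 htop
      rw [hcomm] at this
      rw [this, card_bot] at hFcard
      exact hp.out.one_lt.ne hFcard
    have hfree : ∀ k : ℕ, w ^ k ≠ 1 → ∀ x ∈ P, w ^ k * x = x * w ^ k → x ∈ D := fun k hk x hx hc =>
      hWD (hfix k hk ▸ ⟨hx, mem_centralizer_singleton_iff.2 hc.symm⟩)
    obtain ⟨z, hz, hzq⟩ := ratio_of_free hDZ hwZ hwD (hodd.of_dvd_nat (card_dvd_of_le hZP)) hwodd
      (hcopY D hDP) (fun k hk x hx => hfree k hk x (hZP hx)) hDZne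
    obtain ⟨u, hu, huq⟩ := ratio_of_free hZP hwP hwZ hodd hwodd (hcopY Z hZP)
      (fun k hk x hx hc => hDZ (hfree k hk x hx hc)) hZne
    rw [hu, hz, hDW, hW₂] at hrel
    by_contra h
    have h7 : Nat.card C * C.relIndex P ≤ p * p * orderOf w := Nat.mul_le_mul hC2 (not_lt.1 h)
    have h8 : p * ((2 * orderOf w + 1) * (2 * orderOf w + 1)) ≤ p * (z * u) :=
      Nat.mul_le_mul_left p (Nat.mul_le_mul hzq huq)
    have h9 : p * orderOf w < (2 * orderOf w + 1) * (2 * orderOf w + 1) := by nlinarith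
    have h10 : p * (p * orderOf w) < p * ((2 * orderOf w + 1) * (2 * orderOf w + 1)) :=
      (Nat.mul_lt_mul_left hp.out.pos).2 h9
    nlinarith

/-- The component in the Sylow subgroup of a commutator. -/
theorem le_commutator_sylow {K P W : Subgroup G} {p : ℕ} [hp : Fact p.Prime] (hK : Group.IsNilpotent K)
    (hPK : P ≤ K) (hP : IsPGroup p P) (hidx : ¬ p ∣ P.relIndex K) (hWP : W ≤ P) (hW : W ≤ ⁅K, K⁆) :
    W ≤ ⁅P, P⁆ := by
  classical
  haveI := hK
  let P₁ : Sylow p K := (hP.of_equiv (subgroupOfEquivOfLe hPK).symm).toSylow hidx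
  haveI : (P₁ : Subgroup K).Normal := inferInstance
  obtain ⟨R, hR⟩ := Subgroup.exists_left_complement'_of_coprime
    (N := (P₁ : Subgroup K)) P₁.card_coprime_index
  have hRc : Nat.card R = (P₁ : Subgroup K).index := hR.index_eq_card.symm
  have hcop : (Nat.card (P₁ : Subgroup K)).Coprime (Nat.card R) := hRc ▸ P₁.card_coprime_index
  have hcm : ∀ a ∈ (P₁ : Subgroup K), ∀ r ∈ R, Commute a r := fun a ha r hr =>
    FittingHallBasic.commute_of_coprime_orderOf ((hcop.coprime_dvd_left ((P₁ : Subgroup K).orderOf_dvd_natCard ha)).coprime_dvd_right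
      (R.orderOf_dvd_natCard hr))
  set N : Subgroup K := ⁅(P₁ : Subgroup K), (P₁ : Subgroup K)⁆ ⊔ R
  have hcomm : ⁅(⊤ : Subgroup K), (⊤ : Subgroup K)⁆ ≤ N := by
    refine commutator_le.2 fun a _ b _ => ?_
    obtain ⟨⟨r, x⟩, rfl⟩ := hR.2 a
    obtain ⟨⟨s, y⟩, rfl⟩ := hR.2 b
    have e : ⁅(r : K) * x, (s : K) * y⁆ = ⁅(x : K), (y : K)⁆ * ⁅(r : K), (s : K)⁆ := by
      simp only [commutatorElement_def, mul_inv_rev]
      have c1 : Commute (x : K) s := hcm x x.2 s s.2
      have c2 : Commute (y : K) r := hcm y y.2 r r.2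
      have c3 : Commute (y : K) s := hcm y y.2 s s.2
      have c4 : Commute (x : K) r := hcm x x.2 r r.2
      have d1 : Commute ((x : K) * y * (x : K)⁻¹ * (y : K)⁻¹) r :=
        ((c4.mul_left c2).mul_left c4.inv_left).mul_left c2.inv_left
      have d2 : Commute ((x : K) * y * (x : K)⁻¹ * (y : K)⁻¹) s :=
        ((c1.mul_left c3).mul_left c1.inv_left).mul_left c3.inv_left
      calc (r : K) * x * ((s : K) * y) * ((x : K)⁻¹ * (r : K)⁻¹) * ((y : K)⁻¹ * (s : K)⁻¹)
          = r * ((x : K) * s) * y * (x : K)⁻¹ * ((r : K)⁻¹ * (y : K)⁻¹) * (s : K)⁻¹ := by group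
        _ = r * ((s : K) * x) * y * (x : K)⁻¹ * ((y : K)⁻¹ * (r : K)⁻¹) * (s : K)⁻¹ := by
            rw [c1.eq, (c2.inv_left.inv_right).eq]
        _ = r * s * ((x : K) * y * (x : K)⁻¹ * (y : K)⁻¹) * ((r : K)⁻¹ * (s : K)⁻¹) := by group
        _ = ((x : K) * y * (x : K)⁻¹ * (y : K)⁻¹) * (r * s) * ((r : K)⁻¹ * (s : K)⁻¹) := by
            rw [← (d1.mul_right d2).eq]
        _ = _ := by group
    show ⁅(r : K) * x, (s : K) * y⁆ ∈ N
    rw [e]
    exact mul_mem (mem_sup_left (commutator_mem_commutator x.2 y.2))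
      (mem_sup_right (R.mul_mem (R.mul_mem (R.mul_mem r.2 s.2) (R.inv_mem r.2)) (R.inv_mem s.2)))
  intro z hz
  have hzK : (⟨z, hPK (hWP hz)⟩ : K) ∈ N := by
    refine hcomm ?_
    have h : z ∈ (⁅(⊤ : Subgroup K), (⊤ : Subgroup K)⁆).map K.subtype := by
      rw [map_commutator, ← MonoidHom.range_eq_map, range_subtype]
      exact hW hz
    obtain ⟨z', hz', e⟩ := h
    rwa [show (⟨z, hPK (hWP hz)⟩ : K) = z' from Subtype.ext e.symm]
  have hRn : R ≤ normalizer ((⁅(P₁ : Subgroup K), (P₁ : Subgroup K)⁆ : Subgroup K) : Set K) := fun r hr =>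
    centralizer_le_normalizer _ (mem_centralizer_iff.2 fun y hy =>
      (hcm y (commutator_le_self _ hy) r hr).eq)
  rw [show N = _ ⊔ R from rfl, ← SetLike.mem_coe, coe_mul_of_right_le_normalizer_left _ _ hRn] at hzK
  obtain ⟨x, hx, r, hr, hxr⟩ := hzK
  simp only at hxr
  have hrP : r ∈ (P₁ : Subgroup K) := by
    rw [show r = x⁻¹ * ⟨z, hPK (hWP hz)⟩ by rw [← hxr]; group]
    exact mul_mem (inv_mem (commutator_le_self _ hx)) (hWP hz : (⟨z, hPK (hWP hz)⟩ : K) ∈ P.subgroupOf K)
  have hr1 : r = 1 := by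
    have := (Subgroup.inf_eq_bot_of_coprime hcop).le ⟨hrP, hr⟩
    simpa using this
  rw [hr1, mul_one] at hxr
  have hmap : (⁅(P₁ : Subgroup K), (P₁ : Subgroup K)⁆).map K.subtype = ⁅P, P⁆ := by
    rw [map_commutator, show ((P₁ : Subgroup K)) = P.subgroupOf K from rfl, map_subgroupOf_eq_of_le hPK]
  exact hmap ▸ ⟨x, hx, congrArg Subtype.val hxr⟩

end Cfsg.Agent.PFTypeV19
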