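import Mathlib
import Cfsg.Prelude.Def_FusionSystem
import Cfsg.Agent.Lib.FusionPearl

/-!
Essential subgroups of order `p ^ 4` of a fusion system on a group of order `p ^ 5` without abelian
maximal subgroups fix the centre; so do nonabelian ones of order `p ^ 3`.
-/

set_option autoImplicit false
set_option linter.unusedSectionVars false

namespace Cfsg.Agent.PFiveBasic1

open scoped commutatorElement
open Cfsg Cfsg.FusionSystem Cfsg.Agent.FusionSysBasic Cfsg.Agent.FusionSysSaturated
  Cfsg.Agent.FusionSysNormal Cfsg.Agent.FusionSysChain Cfsg.Agent.FusionSysAlperin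

section Groups

variable {p : ℕ} [hp : Fact p.Prime] {X : Type*} [Group X] [Finite X]

theorem le_sq_of_cyclic_absurd (hX : IsPGroup p X) (hnc : ¬ IsMulCommutative X) :
    p ^ 2 ≤ (Subgroup.center X).index := by
  obtain ⟨m, hm⟩ := IsPGroup.iff_card.1 (hX.to_quotient (Subgroup.center X))
  rw [show (Subgroup.center X).index = p ^ m from hm]
  refine Nat.pow_le_pow_right hp.out.pos ?_
  by_contra hlt
  refine hnc ⟨⟨MaxClassTwo.eq_center_of_cyclic_quotient ?_⟩⟩
  obtain rfl | rfl : m = 0 ∨ m = 1 := by omega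
  · have : Subsingleton (X ⧸ Subgroup.center X) := (Nat.card_eq_one_iff_unique.mp hm).1
    infer_instance
  · exact isCyclic_of_prime_card (hm.trans (pow_one p))

/-- A central quotient of order `p ^ 2` gives a derived subgroup of order at most `p`. -/
theorem card_commutator_le (hX : IsPGroup p X) (hidx : (Subgroup.center X).index = p ^ 2)
    (hnc : ¬ IsMulCommutative X) : Nat.card (commutator X) ≤ p := by
  set Z := Subgroup.center X
  have hpow : ∀ x : X, x ^ p ∈ Z := by
    intro x
    rw [← QuotientGroup.eq_one_iff, QuotientGroup.mk_pow]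
    obtain ⟨i, hi, he⟩ := (Nat.dvd_prime_pow hp.out).1
      (hidx ▸ (show orderOf (x : X ⧸ Z) ∣ Z.index from orderOf_dvd_natCard (x : X ⧸ Z)))
    refine orderOf_dvd_iff_pow_eq_one.1 ?_
    rw [he]
    refine (pow_dvd_pow p (show i ≤ 1 from ?_)).trans (pow_one p).dvd
    by_contra hi2
    refine hnc ⟨⟨MaxClassTwo.eq_center_of_cyclic_quotient (isCyclic_of_orderOf_eq_card
      (x : X ⧸ Z) ?_)⟩⟩
    rw [he, show i = 2 by omega, ← hidx]
    rfl
  have hidx1 : Z ≠ ⊤ := fun e => by
    rw [e, Subgroup.index_top] at hidx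
    exact (Nat.one_lt_pow two_ne_zero hp.out.one_lt).ne hidx
  obtain ⟨a, -, ha⟩ := SetLike.exists_of_lt (lt_top_iff_ne_top.2 hidx1)
  have hA : Z ⊔ Subgroup.zpowers a ≠ ⊤ := by
    intro e
    refine hnc ⟨⟨MaxClassTwo.eq_center_of_cyclic_quotient ⟨(a : X ⧸ Z), fun x => ?_⟩⟩⟩
    obtain ⟨x, rfl⟩ := QuotientGroup.mk_surjective x
    obtain ⟨u, hu, v, hv, rfl⟩ := Subgroup.mem_sup_of_normal_left.1 (e.ge (Subgroup.mem_top x))
    obtain ⟨k, rfl⟩ := Subgroup.mem_zpowers_iff.1 hv
    rw [QuotientGroup.mk_mul, (QuotientGroup.eq_one_iff u).2 hu, one_mul, QuotientGroup.mk_zpow]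
    exact Subgroup.zpow_mem_zpowers _ k
  obtain ⟨b, -, hb⟩ := SetLike.exists_of_lt (lt_top_iff_ne_top.2 hA)
  have hAidx : (Z ⊔ Subgroup.zpowers a).index = p := by
    obtain ⟨j, hj, e⟩ := (Nat.dvd_prime_pow hp.out).1
      (hidx ▸ Subgroup.index_dvd_of_le (le_sup_left : Z ≤ Z ⊔ Subgroup.zpowers a))
    have hlt := Subgroup.index_strictAnti (lt_of_le_of_ne (le_sup_left : Z ≤ _) fun e' =>
      ha (e' ▸ Subgroup.mem_sup_right (Subgroup.mem_zpowers a)))
    rw [hidx, e] at hlt
    have hj2 := (Nat.pow_lt_pow_iff_right hp.out.one_lt).1 hlt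
    have hj0 : j ≠ 0 := fun h0 => hA (Subgroup.index_eq_one.1 (by rw [e, h0, pow_zero]))
    rw [e, show j = 1 by omega, pow_one]
  have htop : Z ⊔ Subgroup.zpowers a ⊔ Subgroup.zpowers b = ⊤ :=
    (PGroupsBasic.isCoatom_of_index_eq hAidx).2 _ (lt_of_le_of_ne le_sup_left fun e =>
      hb (e ▸ Subgroup.mem_sup_right (Subgroup.mem_zpowers b)))
  by_cases hab : ⁅a, b⁆ ∈ Z
  swap
  · exfalso
    have hcl : commutator X ≤ Z := PGroupsBasic.commutator_le_of_index_le_sq hX hidx.le
    exact hab (hcl (Subgroup.commutator_mem_commutator (Subgroup.mem_top a) (Subgroup.mem_top b)))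
  set N := Subgroup.zpowers ⁅a, b⁆
  haveI : N.Normal := PGroupsBasic.normal_of_le_center ((Subgroup.zpowers_le).2 hab)
  have hC : (⊤ : Subgroup X) ≤ (Subgroup.center (X ⧸ N)).comap (QuotientGroup.mk' N) := by
    have hπab : QuotientGroup.mk' N a * QuotientGroup.mk' N b =
        QuotientGroup.mk' N b * QuotientGroup.mk' N a := by
      rw [← commutatorElement_eq_one_iff_mul_comm, ← map_commutatorElement]
      exact (QuotientGroup.eq_one_iff _).2 (Subgroup.mem_zpowers _)
    have hZ : Z ≤ (Subgroup.center (X ⧸ N)).comap (QuotientGroup.mk' N) := fun z hz =>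
      Subgroup.mem_center_iff.2 fun x => by
        obtain ⟨x, rfl⟩ := QuotientGroup.mk'_surjective N x
        rw [← map_mul, ← map_mul, Subgroup.mem_center_iff.1 hz x]
    have key : ∀ c, Commute (QuotientGroup.mk' N c) (QuotientGroup.mk' N a) →
        Commute (QuotientGroup.mk' N c) (QuotientGroup.mk' N b) →
        c ∈ (Subgroup.center (X ⧸ N)).comap (QuotientGroup.mk' N) := by
      intro c h1 h2
      have hle : (⊤ : Subgroup X) ≤
          (Subgroup.centralizer ({QuotientGroup.mk' N c} : Set (X ⧸ N))).comap (QuotientGroup.mk' N) := by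
        rw [← htop]
        refine sup_le (sup_le (fun z hz => ?_) ?_) ?_
        · exact Subgroup.mem_centralizer_singleton_iff.2
            (Subgroup.mem_center_iff.1 (hZ hz) _).symm
        · exact (Subgroup.zpowers_le).2 (Subgroup.mem_centralizer_singleton_iff.2 h1.symm.eq)
        · exact (Subgroup.zpowers_le).2 (Subgroup.mem_centralizer_singleton_iff.2 h2.symm.eq)
      refine Subgroup.mem_center_iff.2 fun x => ?_
      obtain ⟨x, rfl⟩ := QuotientGroup.mk'_surjective N x
      exact Subgroup.mem_centralizer_singleton_iff.1 (hle (Subgroup.mem_top x))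
    rw [← htop]
    exact sup_le (sup_le hZ ((Subgroup.zpowers_le).2 (key a (Commute.refl _) hπab)))
      ((Subgroup.zpowers_le).2 (key b hπab.symm (Commute.refl _)))
  have hle : commutator X ≤ N := by
    rw [commutator_def, Subgroup.commutator_le]
    intro x hx y _
    rw [← QuotientGroup.eq_one_iff, ← QuotientGroup.mk'_apply, map_commutatorElement,
      commutatorElement_eq_one_iff_mul_comm]
    exact (Subgroup.mem_center_iff.1 (hC hx) _).symm
  refine (Subgroup.card_le_of_le hle).trans ?_
  rw [Nat.card_zpowers]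
  refine Nat.le_of_dvd hp.out.pos (orderOf_dvd_of_pow_eq_one ?_)
  rw [← PGroupsBasic.commutatorElement_pow_left hab, commutatorElement_eq_one_iff_mul_comm]
  exact (Subgroup.mem_center_iff.1 (hpow a) b).symm

theorem card_center_range (hX : IsPGroup p X) {n : ℕ} (hn : 3 ≤ n) (hcard : Nat.card X = p ^ n)
    (hnab : ∀ A : Subgroup X, Nat.card A = p ^ (n - 1) → ¬ IsMulCommutative A) :
    ∃ k, 1 ≤ k ∧ k + 3 ≤ n ∧ Nat.card (Subgroup.center X) = p ^ k := by
  have hnc : ¬ IsMulCommutative X := by
    intro h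
    obtain ⟨A, hA⟩ := Sylow.exists_subgroup_card_pow_prime p (G := X) (n := n - 1)
      (hcard ▸ pow_dvd_pow p (by omega))
    exact hnab A hA ⟨⟨fun a b => Subtype.ext (h.is_comm.comm (a : X) b)⟩⟩
  obtain ⟨k, hk⟩ := IsPGroup.iff_card.1 (hX.to_subgroup (Subgroup.center X))
  have h1 := Subgroup.card_mul_index (Subgroup.center X)
  have h2 := le_sq_of_cyclic_absurd hX hnc
  rw [hk, hcard] at h1
  have hk1 : 1 ≤ k := by
    by_contra h
    haveI : Nontrivial X := Finite.one_lt_card_iff_nontrivial.1
      (hcard ▸ Nat.one_lt_pow (by omega) hp.out.one_lt)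
    haveI := hX.center_nontrivial
    have := Finite.one_lt_card (α := Subgroup.center X)
    rw [hk, show k = 0 by omega, pow_zero] at this
    omega
  have hk2 : k + 2 ≤ n := by
    have : p ^ (k + 2) ≤ p ^ n := by
      rw [pow_add, ← h1]; exact Nat.mul_le_mul_left _ h2
    exact (Nat.pow_le_pow_iff_right hp.out.one_lt).1 this
  refine ⟨k, hk1, ?_, hk⟩
  by_contra h3
  have hk' : k = n - 2 := by omega
  have hne : Subgroup.center X ≠ ⊤ := fun e => hnc ⟨⟨fun a b =>
    (Subgroup.mem_center_iff.1 (e.ge (Subgroup.mem_top b)) a)⟩⟩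
  obtain ⟨x, -, hx⟩ := SetLike.exists_of_lt (lt_top_iff_ne_top.2 hne)
  set B := Subgroup.center X ⊔ Subgroup.zpowers x
  have hBc : IsMulCommutative B := by
    refine PGroupsBasic.isMulCommutative_of_le_centralizer (sup_le ?_ ?_)
    · exact Subgroup.center_le_centralizer _
    · refine (Subgroup.zpowers_le).2 (Subgroup.mem_centralizer_iff.2 fun y hy => ?_)
      obtain ⟨u, hu, v, hv, rfl⟩ := Subgroup.mem_sup_of_normal_left.1 hy
      obtain ⟨i, rfl⟩ := Subgroup.mem_zpowers_iff.1 hv
      rw [mul_assoc, (Commute.zpow_self x i).eq, ← mul_assoc, ← Subgroup.mem_center_iff.1 hu x,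
        mul_assoc]
  obtain ⟨b, hb⟩ := IsPGroup.iff_card.1 (hX.to_subgroup B)
  have hlt : p ^ k < p ^ b := by
    rw [← hk, ← hb]
    refine lt_of_le_of_ne (Subgroup.card_le_of_le le_sup_left) fun e => hx ?_
    rw [Subgroup.eq_of_le_of_card_ge le_sup_left e.ge]
    exact Subgroup.mem_sup_right (Subgroup.mem_zpowers x)
  have hkb := (Nat.pow_lt_pow_iff_right hp.out.one_lt).1 hlt
  have hbn : p ^ b ≤ p ^ n := by rw [← hb, ← hcard]; exact Subgroup.card_le_card_group B
  have hbn' := (Nat.pow_le_pow_iff_right hp.out.one_lt).1 hbn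
  by_cases hb1 : b = n - 1
  · exact hnab B (hb1 ▸ hb) hBc
  · have : B = ⊤ := Subgroup.eq_top_of_card_eq _ (by rw [hb, hcard, show b = n by omega])
    exact hnc ⟨⟨fun a c => PGroupsBasic.comm_of_isMulCommutative hBc
      (this.ge (Subgroup.mem_top a)) (this.ge (Subgroup.mem_top c))⟩⟩

end Groups

variable {Ω : Type*} [Group Ω] {S : Subgroup Ω} [Finite S] {p : ℕ} [hp : Fact p.Prime]
  {F : FusionSystem S} {E : Subgroup Ω}

theorem mem_Zs {x : Ω} : x ∈ centralizerIn S S ↔ ∃ h : x ∈ S, (⟨x, h⟩ : S) ∈ Subgroup.center S := by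
  rw [mem_centralizerIn]
  refine ⟨fun h => ⟨h.1, Subgroup.mem_center_iff.2 fun y => Subtype.ext ?_⟩,
    fun ⟨hxS, hc⟩ => ⟨hxS, fun y hy => ?_⟩⟩
  · have := h.2 (y : Ω) y.2
    simp only [cj_apply, mul_inv_eq_iff_eq_mul] at this
    exact this.symm
  · have := congrArg Subtype.val (Subgroup.mem_center_iff.1 hc ⟨y, hy⟩)
    simp only [Subgroup.coe_mul] at this
    rw [cj_apply, mul_inv_eq_iff_eq_mul]
    exact this.symm

theorem card_Zs : Nat.card (centralizerIn S S) = Nat.card (Subgroup.center S) := by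
  have e : centralizerIn S S = (Subgroup.center S).map S.subtype := by
    ext x
    rw [mem_Zs, Subgroup.mem_map]
    exact ⟨fun ⟨h, hc⟩ => ⟨⟨x, h⟩, hc, rfl⟩, fun ⟨y, hy, e⟩ => by subst e; exact ⟨y.2, hy⟩⟩
  rw [e, Subgroup.card_map_of_injective S.subtype_injective]

theorem Zs_le (hE : F.IsCentric E) : centralizerIn S S ≤ E := fun x hx =>
  centralizerIn_le_of_centric hE (mem_centralizerIn.2
    ⟨(mem_centralizerIn.1 hx).1, fun y hy => (mem_centralizerIn.1 hx).2 y (hE.1 hy)⟩)

/-- A characteristic subgroup equal to the centre of `S` is invariant. -/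
theorem invariant_of_char (hE : F.IsCentric E) (K : Subgroup ↥E) [hK : K.Characteristic]
    (h : (centralizerIn S S).subgroupOf E = K) (α : MulAut E) :
    ∀ x ∈ centralizerIn S S, afun α x ∈ centralizerIn S S := by
  intro x hx
  have hxE := Zs_le hE hx
  have h1 : (⟨x, hxE⟩ : E) ∈ K := h.le hx
  have h2 := Subgroup.characteristic_iff_le_comap.1 hK α h1
  rw [afun_apply α hxE]
  exact h.ge h2

theorem invariant_of_center (hE : F.IsCentric E)
    (h : Nat.card (Subgroup.center E) ≤ Nat.card (centralizerIn S S)) (α : MulAut E) :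
    ∀ x ∈ centralizerIn S S, afun α x ∈ centralizerIn S S := by
  haveI := finite_of_le hE.1
  refine invariant_of_char hE (Subgroup.center E) (Subgroup.eq_of_le_of_card_ge ?_ ?_) α
  · intro x hx
    refine Subgroup.mem_center_iff.2 fun y => Subtype.ext ?_
    have := (mem_centralizerIn.1 (Subgroup.mem_subgroupOf.1 hx)).2 (y : Ω) (hE.1 y.2)
    simp only [cj_apply, mul_inv_eq_iff_eq_mul] at this
    exact this.symm
  · rwa [Nat.card_congr (Subgroup.subgroupOfEquivOfLe (Zs_le hE)).toEquiv]

variable (hS : IsPGroup p S) (hF : F.IsSaturated p)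

include hS hF

/-- Essential subgroups of order `p ^ 4` fix the centre. -/
theorem four (hcard : Nat.card S = p ^ 5) (hE : F.IsEssential p E) (hE4 : Nat.card E = p ^ 4)
    (hnc : ¬ IsMulCommutative E) {k : ℕ} (hk1 : 1 ≤ k) (hk : Nat.card (Subgroup.center S) = p ^ k)
    (α : MulAut E) : ∀ x ∈ centralizerIn S S, afun α x ∈ centralizerIn S S := by
  have hES := hE.1.1
  haveI := finite_of_le hES
  have hEp : IsPGroup p E := hS.to_le hES
  have hidx := le_sq_of_cyclic_absurd hEp hnc
  have hci := Subgroup.card_mul_index (Subgroup.center E)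
  rw [hE4] at hci
  have hZE : Nat.card (Subgroup.center E) ≤ p ^ 2 := by
    by_contra h
    have : p ^ 2 * p ^ 2 < Nat.card (Subgroup.center E) * (Subgroup.center E).index :=
      Nat.mul_lt_mul_of_lt_of_le (not_le.1 h) hidx (lt_of_lt_of_le (pow_pos hp.out.pos 2) hidx)
    rw [hci, ← pow_add] at this
    exact lt_irrefl _ this
  by_cases hk2 : 2 ≤ k
  · refine invariant_of_center hE.1 (hZE.trans ?_) α
    rw [card_Zs, hk]
    exact Nat.pow_le_pow_right hp.out.pos hk2
  have hkone : k = 1 := by omega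
  subst hkone
  rw [pow_one] at hk
  set D := commutator E
  have hDne : D ≠ ⊥ := fun h => hnc ⟨⟨fun a b => by
    have := Subgroup.commutator_mem_commutator (Subgroup.mem_top a) (Subgroup.mem_top b)
    rw [← commutator_def] at this
    exact commutatorElement_eq_one_iff_mul_comm.1 (Subgroup.mem_bot.1 (h ▸ this))⟩⟩
  have hEn : (E.subgroupOf S).Normal := by
    refine PGroupsBasic.normal_of_index_eq hS ?_
    have h := Subgroup.card_mul_index (E.subgroupOf S)
    rw [Nat.card_congr (Subgroup.subgroupOfEquivOfLe hES).toEquiv, hE4, hcard,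
      show p ^ 5 = p ^ 4 * p by ring] at h
    exact Nat.eq_of_mul_eq_mul_left (pow_pos hp.out.pos 4) h
  obtain ⟨d, hd⟩ := IsPGroup.iff_card.1 (hEp.to_subgroup D)
  by_cases hd1 : d ≤ 1
  · -- the derived subgroup is the centre of `S`
    refine invariant_of_char hE.1 D ?_ α
    have hDc : Nat.card D = p := by
      have : d ≠ 0 := fun h0 => hDne (Subgroup.eq_bot_of_card_eq D (by rw [hd, h0, pow_zero]))
      rw [hd, show d = 1 by omega, pow_one]
    let DS : Subgroup S := D.map (Subgroup.inclusion hES)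
    haveI : DS.Normal := by
      refine ⟨fun z hz g => ?_⟩
      obtain ⟨a, ha, rfl⟩ := hz
      have hgn : (g : Ω) ∈ Subgroup.normalizer (E : Set Ω) :=
        mem_normalizer_of_cj_le hES fun x hx => hEn.conj_mem ⟨x, hES hx⟩ hx g
      let β := nHom S E ⟨g, g.2, hgn⟩
      exact ⟨β a, Subgroup.characteristic_iff_le_comap.1 (inferInstance : D.Characteristic) β ha,
        Subtype.ext (show ((β a : E) : Ω) = (g : Ω) * (a : Ω) * (g : Ω)⁻¹ by
          rw [← afun_coe, afun_nHom _ a.2, cj_apply])⟩
    have hDSc : Nat.card DS = p := by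
      rw [Subgroup.card_map_of_injective (Subgroup.inclusion_injective hES), hDc]
    have hcen := PGroupsBasic.le_center_of_card_eq_prime hS (N := DS) hDSc
    refine (Subgroup.eq_of_le_of_card_ge (fun a ha => ?_) ?_).symm
    · exact mem_Zs.2 ⟨hES a.2, hcen ⟨a, ha, rfl⟩⟩
    · rw [Nat.card_congr (Subgroup.subgroupOfEquivOfLe (Zs_le hE.1)).toEquiv, card_Zs, hk, hDc]
  · -- otherwise the centralizer of the derived subgroup is a forbidden middle term
    exfalso
    haveI : Nontrivial E := Finite.one_lt_card_iff_nontrivial.1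
      (hE4 ▸ Nat.one_lt_pow (by norm_num) hp.out.one_lt)
    have hDΦ : D ≤ frattini E := PGroupsBasic.commutator_le_frattini hEp
    obtain ⟨f, hf⟩ := IsPGroup.iff_card.1 (hEp.to_subgroup (frattini E))
    have hΦ2 : f ≤ 2 := by
      by_contra h3
      have h := Subgroup.card_mul_index (frattini E)
      rw [hf, hE4] at h
      refine FusionEssential88.no_middle hS hF hE (frattini E) le_rfl
        (Nat.le_mul_of_pos_right _ hp.out.pos) ?_
      rw [hE4, hf]
      calc p ^ 4 ≤ p ^ (f + 1) := Nat.pow_le_pow_right hp.out.pos (by omega)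
        _ = p ^ f * p := pow_succ p f
    have hdf : d ≤ f := (Nat.pow_le_pow_iff_right hp.out.one_lt).1
      (hd ▸ hf ▸ Subgroup.card_le_of_le hDΦ)
    have hd2 : d = 2 := by omega
    have hΦD : D = frattini E := Subgroup.eq_of_le_of_card_ge hDΦ
      (by rw [hd, hf, hd2, show f = 2 by omega])
    set C := Subgroup.centralizer (D : Set E)
    haveI : C.Characteristic := inferInstance
    have hDab : IsMulCommutative D := PGroupsBasic.isMulCommutative_of_card_le_sq
      (hEp.to_subgroup D) (by rw [hd, hd2])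
    have hDC : D ≤ C := PGroupsBasic.le_centralizer_of_isMulCommutative hDab
    have hCtop : C ≠ ⊤ := by
      intro hC
      have hDZ : D ≤ Subgroup.center E := fun a ha =>
        Subgroup.mem_center_iff.2 fun x =>
          (Subgroup.mem_centralizer_iff.1 (hC.ge (Subgroup.mem_top x)) a ha).symm
      have hZc : Nat.card (Subgroup.center E) = p ^ 2 :=
        le_antisymm hZE ((le_of_eq (by rw [hd, hd2])).trans (Subgroup.card_le_of_le hDZ))
      have h2 : (Subgroup.center E).index = p ^ 2 := by
        rw [hZc, show p ^ 4 = p ^ 2 * p ^ 2 by ring] at hci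
        exact Nat.eq_of_mul_eq_mul_left (pow_pos hp.out.pos 2) hci
      have := card_commutator_le hEp h2 hnc
      rw [show Nat.card (commutator E) = p ^ 2 by rw [hd, hd2]] at this
      exact absurd this (not_le.2 (by nlinarith [hp.out.one_lt]))
    -- the index of `C` is at most `p`
    haveI : (D ⊓ Subgroup.center E).Normal := inferInstance
    have hDZ : D ⊓ Subgroup.center E ≠ ⊥ := PGroupsBasic.inf_center_ne_bot hEp hDne
    obtain ⟨m, hm⟩ := IsPGroup.iff_card.1 (hEp.to_subgroup (D ⊓ Subgroup.center E))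
    have hm1 : m = 1 := by
      have hm0 : m ≠ 0 := fun h0 => hDZ (Subgroup.eq_bot_of_card_eq _ (by rw [hm, h0, pow_zero]))
      have hle : p ^ m ≤ p ^ 2 := by
        rw [← hm, show p ^ 2 = Nat.card D by rw [hd, hd2]]
        exact Subgroup.card_le_of_le inf_le_left
      have hm2 := (Nat.pow_le_pow_iff_right hp.out.one_lt).1 hle
      by_contra hm1
      refine hCtop (eq_top_iff.2 fun x _ => Subgroup.mem_centralizer_iff.2 fun a ha => ?_)
      have e : D ⊓ Subgroup.center E = D := Subgroup.eq_of_le_of_card_ge inf_le_left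
        (by rw [hm, hd, hd2, show m = 2 by omega])
      exact (Subgroup.mem_center_iff.1 (e.ge ha).2 x).symm
    obtain ⟨a, haD, haZ⟩ : ∃ a ∈ D, a ∉ D ⊓ Subgroup.center E := by
      by_contra hcon
      push Not at hcon
      have := Subgroup.card_le_of_le hcon
      rw [hm, hd, hd2, hm1, pow_one, sq] at this
      exact absurd this (not_le.2 (lt_mul_of_one_lt_left hp.out.pos hp.out.one_lt))
    -- `x ↦ [x, a]` is a homomorphism to a group of order `p`
    have hcomm : ∀ x : E, ⁅x, a⁆ ∈ D ⊓ Subgroup.center E := by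
      intro x
      have := PGroupsCritical.commutator_mem_of_succ (p := p) (G := E) hEp
        (A := D ⊓ Subgroup.center E) (B := D) inf_le_left
        (by rw [hd, hd2, hm, hm1]; ring) haD x
      exact this
    let δ : E →* Subgroup.center E := MonoidHom.mk' (fun x => ⟨⁅x, a⁆, (hcomm x).2⟩) fun x y => by
      refine Subtype.ext ?_
      show ⁅x * y, a⁆ = ⁅x, a⁆ * ⁅y, a⁆
      exact PGroupsBasic.commutatorElement_mul_left_of_central (hcomm y).2
    have hker : δ.ker ≤ C := by
      intro x hx
      have hxa : ⁅x, a⁆ = 1 := congrArg Subtype.val (MonoidHom.mem_ker.1 hx)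
      have hle : D ≤ Subgroup.centralizer ({x} : Set E) := by
        have hsup : (D ⊓ Subgroup.center E) ⊔ Subgroup.zpowers a = D := by
          refine Subgroup.eq_of_le_of_card_ge (sup_le inf_le_left ((Subgroup.zpowers_le).2 haD)) ?_
          obtain ⟨s, hs⟩ := IsPGroup.iff_card.1 (hEp.to_subgroup
            ((D ⊓ Subgroup.center E) ⊔ Subgroup.zpowers a))
          rw [hd, hd2, hs]
          refine Nat.pow_le_pow_right hp.out.pos ?_
          have hlt : p ^ m < p ^ s := by
            rw [← hm, ← hs]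
            refine lt_of_le_of_ne (Subgroup.card_le_of_le le_sup_left) fun e => haZ ?_
            rw [Subgroup.eq_of_le_of_card_ge le_sup_left e.ge]
            exact Subgroup.mem_sup_right (Subgroup.mem_zpowers a)
          have := (Nat.pow_lt_pow_iff_right hp.out.one_lt).1 hlt
          omega
        rw [← hsup]
        refine sup_le (fun b hb => Subgroup.mem_centralizer_singleton_iff.2 ?_)
          ((Subgroup.zpowers_le).2 (Subgroup.mem_centralizer_singleton_iff.2 ?_))
        · exact (Subgroup.mem_center_iff.1 hb.2 x).symm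
        · exact (commutatorElement_eq_one_iff_mul_comm.1 hxa).symm
      exact Subgroup.mem_centralizer_iff.2 fun b hb =>
        Subgroup.mem_centralizer_singleton_iff.1 (hle hb)
    have hrange : Nat.card δ.range ≤ p := by
      calc Nat.card δ.range ≤ Nat.card ((D ⊓ Subgroup.center E).subgroupOf (Subgroup.center E)) :=
            Subgroup.card_le_of_le (by rintro _ ⟨x, rfl⟩; exact hcomm x)
        _ = Nat.card (D ⊓ Subgroup.center E : Subgroup E) :=
            Nat.card_congr (Subgroup.subgroupOfEquivOfLe inf_le_right).toEquiv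
        _ = p := by rw [hm, hm1, pow_one]
    have hCidx : Nat.card E ≤ Nat.card C * p := by
      rw [← Subgroup.card_mul_index δ.ker, Subgroup.index_ker]
      exact Nat.mul_le_mul (Subgroup.card_le_of_le hker) hrange
    obtain ⟨cc, hcc⟩ := IsPGroup.iff_card.1 (hEp.to_subgroup C)
    have hcc3 : cc ≤ 3 := by
      by_contra h4
      refine hCtop (Subgroup.eq_top_of_le_card _ ?_)
      rw [hE4, hcc]
      exact Nat.pow_le_pow_right hp.out.pos (by omega)
    refine FusionEssential88.no_middle hS hF hE C (hΦD ▸ hDC) ?_ hCidx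
    rw [hcc, ← hΦD, hd, hd2, ← pow_succ]
    exact Nat.pow_le_pow_right hp.out.pos hcc3

/-- Nonabelian essential subgroups of order `p ^ 3` fix the centre. -/
theorem three_nonabelian (hE : F.IsEssential p E) (hE3 : Nat.card E = p ^ 3)
    (hnc : ¬ IsMulCommutative E) {k : ℕ} (hk1 : 1 ≤ k) (hk : Nat.card (Subgroup.center S) = p ^ k)
    (α : MulAut E) : ∀ x ∈ centralizerIn S S, afun α x ∈ centralizerIn S S := by
  haveI := finite_of_le hE.1.1
  refine invariant_of_center hE.1 ?_ α
  rw [card_Zs, hk, FusionPearl.card_center_of_card_cube hE3 hnc]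
  exact Nat.le_self_pow (by omega) p

/-- An abelian essential subgroup of order `p ^ 3` is elementary. -/
theorem three_elementary (hE : F.IsEssential p E) (hE3 : Nat.card E = p ^ 3)
    (hab : IsMulCommutative E) : ∀ e : E, e ^ p = 1 := by
  haveI := finite_of_le hE.1.1
  have hEp : IsPGroup p E := hS.to_le hE.1.1
  by_contra hcon
  push Not at hcon
  obtain ⟨e, he⟩ := hcon
  let P : E →* E := { toFun := fun a => a ^ p, map_one' := one_pow p,
                      map_mul' := fun a b => (Commute.mul_pow (hab.is_comm.comm a b) p) }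
  have hPr : P.range ≤ frattini E := by
    rintro _ ⟨a, rfl⟩
    exact PGroupsBasic.pow_mem_frattini hEp a
  obtain ⟨f, hf⟩ := IsPGroup.iff_card.1 (hEp.to_subgroup (frattini E))
  have hf1 : f = 1 := by
    have hf0 : f ≠ 0 := fun h0 => he (Subgroup.mem_bot.1
      ((Subgroup.eq_bot_of_card_eq _ (by rw [hf, h0, pow_zero]) : frattini E = ⊥) ▸
        hPr ⟨e, rfl⟩))
    by_contra hf1
    refine FusionEssential88.no_middle hS hF hE (frattini E) le_rfl
      (Nat.le_mul_of_pos_right _ hp.out.pos) ?_
    rw [hE3, hf, ← pow_succ]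
    exact Nat.pow_le_pow_right hp.out.pos (by omega)
  haveI : P.ker.Characteristic := Subgroup.characteristic_iff_le_comap.2 fun φ a ha => by
    show φ a ^ p = 1
    rw [← map_pow, show a ^ p = 1 from ha, map_one]
  have hrc : Nat.card P.range = p := by
    obtain ⟨r, hr⟩ := IsPGroup.iff_card.1 (hEp.to_subgroup P.range)
    have h1 : p ^ r ≤ p ^ f := hr ▸ hf ▸ Subgroup.card_le_of_le hPr
    have h2 := (Nat.pow_le_pow_iff_right hp.out.one_lt).1 h1
    have h0 : r ≠ 0 := fun h0 => he (Subgroup.mem_bot.1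
      ((Subgroup.eq_bot_of_card_eq _ (by rw [hr, h0, pow_zero]) : P.range = ⊥) ▸ ⟨e, rfl⟩))
    rw [hr, show r = 1 by omega, pow_one]
  have hkc : Nat.card P.ker = p ^ 2 := by
    have h := Subgroup.card_mul_index P.ker
    rw [Subgroup.index_ker, hrc, hE3, show p ^ 3 = p ^ 2 * p by ring] at h
    exact Nat.eq_of_mul_eq_mul_right hp.out.pos h
  refine FusionEssential88.no_middle hS hF hE P.ker (fun a ha => ?_) ?_ ?_
  · show a ^ p = 1
    refine PGroupsBasic.pow_eq_one_of_card (H := frattini E) ?_ ha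
    rw [hf, hf1, pow_one]
  · rw [hkc, hf, hf1, pow_one, sq]
  · rw [hkc, hE3, ← pow_succ]

end Cfsg.Agent.PFiveBasic1
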