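import Mathlib
import Cfsg.Agent.Lib.LocPEmb56
import Cfsg.Agent.Lib.PGroupsBasic

/-!
Transvections in linear groups with small Sylow subgroups.
-/

set_option autoImplicit false
set_option linter.unusedSectionVars false

namespace Cfsg.Agent.PFiveLinear1

variable {p : ℕ} [hp : Fact p.Prime] {V : Type*} [AddCommGroup V] [Module (ZMod p) V]
  {H : Type*} [Group H] (ρ : H →* Module.End (ZMod p) V)

/-- `t` acts as a transvection with centre `z` and axis the kernel of `φ`. -/
structure IsTr (t : H) (φ : V →ₗ[ZMod p] ZMod p) (z : V) : Prop where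
  act : ∀ v, ρ t v = v + φ v • z
  null : φ z = 0

variable {ρ}

theorem inv_apply (g : H) (v : V) : ρ g⁻¹ (ρ g v) = v := by
  rw [← Module.End.mul_apply, ← map_mul, inv_mul_cancel, map_one, Module.End.one_apply]

theorem apply_inv (g : H) (v : V) : ρ g (ρ g⁻¹ v) = v := by
  rw [← Module.End.mul_apply, ← map_mul, mul_inv_cancel, map_one, Module.End.one_apply]

theorem mul_apply (g h : H) (v : V) : ρ (g * h) v = ρ g (ρ h v) := by
  rw [map_mul, Module.End.mul_apply]

theorem IsTr.pow {t : H} {φ : V →ₗ[ZMod p] ZMod p} {z : V} (h : IsTr ρ t φ z) (n : ℕ) :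
    IsTr ρ (t ^ n) ((n : ZMod p) • φ) z := by
  refine ⟨fun v => ?_, by simp [h.null]⟩
  induction n with
  | zero => simp
  | succ n ih =>
    rw [pow_succ', mul_apply, ih, h.act, map_add, map_smul, LinearMap.smul_apply, h.null]
    simp [add_mul, add_smul, LinearMap.smul_apply]
    abel

theorem IsTr.conj {t : H} {φ : V →ₗ[ZMod p] ZMod p} {z : V} (h : IsTr ρ t φ z) (g : H) :
    IsTr ρ (g * t * g⁻¹) (φ.comp (ρ g⁻¹)) (ρ g z) := by
  refine ⟨fun v => ?_, by rw [LinearMap.comp_apply, inv_apply]; exact h.null⟩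
  rw [mul_apply, mul_apply, h.act, map_add, map_smul, apply_inv]
  rfl

theorem IsTr.apply_self {t : H} {φ : V →ₗ[ZMod p] ZMod p} {z : V} (h : IsTr ρ t φ z) :
    ρ t z = z := by rw [h.act, h.null, zero_smul, add_zero]

/-- An element whose displacement is nilpotent of index three has order dividing `p`. -/
theorem pow_prime (hp3 : 3 ≤ p) (hρ : Function.Injective ρ) {h : H}
    (hcube : ∀ v, ((ρ h - 1 : Module.End (ZMod p) V) ^ 3) v = 0) : h ^ p = 1 := by
  refine hρ ?_
  rw [map_pow, map_one]
  rcases subsingleton_or_nontrivial V with hV | hV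
  · exact LinearMap.ext fun v => Subsingleton.elim _ _
  haveI : CharP (Module.End (ZMod p) V) p :=
    charP_of_injective_algebraMap (algebraMap (ZMod p) (Module.End (ZMod p) V)).injective p
  have h1 : (ρ h - 1) ^ p = 0 := pow_eq_zero_of_le hp3 (LinearMap.ext hcube)
  rwa [sub_pow_char_of_commute (p := p) (Commute.one_right _), one_pow, sub_eq_zero] at h1

/-- Two transvections, the centre of the second in the axis of the first, generate a `p`-group. -/
theorem common_pgroup (hp3 : 3 ≤ p) (hρ : Function.Injective ρ) [Finite H] {t t' : H}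
    {φ φ' : V →ₗ[ZMod p] ZMod p} {z z' : V} (ht : IsTr ρ t φ z) (ht' : IsTr ρ t' φ' z')
    (h : φ z' = 0) : IsPGroup p (Subgroup.closure ({t, t'} : Set H)) := by
  let Q : H → Prop := fun g => ρ g z' = z' ∧
    (∀ v, φ v = 0 → ∃ a : ZMod p, ρ g v = v + a • z') ∧ ∀ v, φ (ρ g v) = φ v
  have h1 : Q 1 := ⟨by simp, fun v _ => ⟨0, by simp⟩, fun v => by simp⟩
  have hmul : ∀ a b, Q a → Q b → Q (a * b) := by
    rintro a b ⟨a1, a2, a3⟩ ⟨b1, b2, b3⟩
    refine ⟨by rw [mul_apply, b1, a1], fun v hv => ?_, fun v => by rw [mul_apply, a3, b3]⟩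
    obtain ⟨c, hc⟩ := b2 v hv
    obtain ⟨d, hd⟩ := a2 v hv
    exact ⟨d + c, by rw [mul_apply, hc, map_add, map_smul, a1, hd, add_smul, add_assoc]⟩
  have hpow : ∀ a, Q a → ∀ n : ℕ, Q (a ^ n) := fun a ha n => by
    induction n with
    | zero => simpa using h1
    | succ n ih => rw [pow_succ]; exact hmul _ _ ih ha
  have hQ : ∀ g ∈ Subgroup.closure ({t, t'} : Set H), Q g := by
    intro g hg
    induction hg using Subgroup.closure_induction with
    | mem x hx =>
      rcases hx with rfl | rfl
      · exact ⟨by rw [ht.act, h, zero_smul, add_zero],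
          fun v hv => ⟨0, by rw [ht.act, hv]; simp⟩,
          fun v => by rw [ht.act, map_add, map_smul, ht.null, smul_zero, add_zero]⟩
      · exact ⟨ht'.apply_self, fun v _ => ⟨φ' v, ht'.act v⟩,
          fun v => by rw [ht'.act, map_add, map_smul, h, smul_zero, add_zero]⟩
    | one => exact h1
    | mul x y _ _ hx hy => exact hmul x y hx hy
    | inv x _ hx =>
      have e : x⁻¹ = x ^ (orderOf x - 1) := by
        refine inv_eq_of_mul_eq_one_right ?_
        rw [← pow_succ', Nat.sub_add_cancel (orderOf_pos x), pow_orderOf_eq_one]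
      rw [e]
      exact hpow x hx _
  intro g
  refine ⟨1, Subtype.ext ?_⟩
  rw [pow_one]
  show (g : H) ^ p = 1
  refine pow_prime hp3 hρ fun v => ?_
  obtain ⟨q1, q2, q3⟩ := hQ g g.2
  have hJ : φ ((ρ (g : H) - 1) v) = 0 := by
    rw [LinearMap.sub_apply, Module.End.one_apply, map_sub, q3, sub_self]
  obtain ⟨a, ha⟩ := q2 _ hJ
  have h2 : (ρ (g : H) - 1) ((ρ (g : H) - 1) v) = a • z' := by
    rw [LinearMap.sub_apply (ρ (g : H)) 1 ((ρ (g : H) - 1) v), Module.End.one_apply, ha,
      add_sub_cancel_left]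
  rw [pow_succ', pow_two, Module.End.mul_apply, Module.End.mul_apply, h2, map_smul,
    LinearMap.sub_apply, q1, Module.End.one_apply, sub_self, smul_zero]

/-- Commuting transvections have symmetric incidence. -/
theorem sym_of_commute {t t' : H} {φ φ' : V →ₗ[ZMod p] ZMod p} {z z' : V}
    (ht : IsTr ρ t φ z) (ht' : IsTr ρ t' φ' z') (hz' : z' ≠ 0) (hφ : φ ≠ 0) (hc : Commute t t')
    (h : φ z' = 0) : φ' z = 0 := by
  obtain ⟨v, hv⟩ : ∃ v, φ v ≠ 0 := by
    by_contra hn
    push Not at hn
    exact hφ (LinearMap.ext hn)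
  have e := congrArg (fun g => ρ g v) hc.eq
  simp only [mul_apply, ht.act, ht'.act, map_add, map_smul, h, smul_eq_mul, mul_zero, add_zero,
    add_smul, smul_smul] at e
  have e2 : (φ v * φ' z) • z' = 0 := by
    have e3 : v + φ' v • z' + φ v • z =
        v + φ' v • z' + φ v • z + (φ v * φ' z) • z' := by
      refine e.trans ?_
      abel
    rwa [left_eq_add] at e3
  exact (mul_eq_zero.1 ((smul_eq_zero.1 e2).resolve_right hz')).resolve_left hv

/-- The torus element of two transvections in general position. -/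
theorem pair_torus [Finite H] {t t' : H} {φ φ' : V →ₗ[ZMod p] ZMod p} {z z' : V}
    (ht : IsTr ρ t φ z) (ht' : IsTr ρ t' φ' z') (hφ : φ z' ≠ 0) (hφ' : φ' z ≠ 0) {c : ZMod p}
    (hc : c ≠ 0) : ∃ τ ∈ Subgroup.closure ({t, t'} : Set H), ρ τ z = c • z ∧ ρ τ z' = c⁻¹ • z' ∧
      (∀ v, φ v = 0 → φ' v = 0 → ρ τ v = v) ∧
      ∃ n : ℕ, (n : ZMod p) = c ^ 2 ∧ ρ (τ * t * τ⁻¹) = ρ (t ^ n) := by
  let u : ZMod p → H := fun s => t ^ (s / φ z').val
  let u' : ZMod p → H := fun r => t' ^ (r / φ' z).val
  have hu : ∀ s v, ρ (u s) v = v + (s / φ z' * φ v) • z := fun s v => by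
    rw [(ht.pow _).act, LinearMap.smul_apply, ZMod.natCast_zmod_val, smul_eq_mul]
  have hu' : ∀ r v, ρ (u' r) v = v + (r / φ' z * φ' v) • z' := fun r v => by
    rw [(ht'.pow _).act, LinearMap.smul_apply, ZMod.natCast_zmod_val, smul_eq_mul]
  have huz : ∀ s, ρ (u s) z = z := fun s => by rw [hu, ht.null, mul_zero, zero_smul, add_zero]
  have huz' : ∀ s, ρ (u s) z' = z' + s • z := fun s => by rw [hu, div_mul_cancel₀ _ hφ]
  have hu'z' : ∀ r, ρ (u' r) z' = z' := fun r => by
    rw [hu', ht'.null, mul_zero, zero_smul, add_zero]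
  have hu'z : ∀ r, ρ (u' r) z = z + r • z' := fun r => by rw [hu', div_mul_cancel₀ _ hφ']
  let w : ZMod p → H := fun s => u s * u' (-s⁻¹) * u s
  have hwz : ∀ s, s ≠ 0 → ρ (w s) z = (-s⁻¹) • z' := fun s hs => by
    rw [mul_apply, mul_apply, huz, hu'z, map_add, map_smul, huz, huz', smul_add, smul_smul,
      neg_mul, inv_mul_cancel₀ hs]
    module
  have hwz' : ∀ s, s ≠ 0 → ρ (w s) z' = s • z := fun s hs => by
    rw [mul_apply, mul_apply, huz', map_add, map_smul, hu'z', hu'z, map_add, map_smul, map_add,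
      map_smul, huz', huz]
    match_scalars <;> field_simp <;> ring
  have hwfix : ∀ s v, φ v = 0 → φ' v = 0 → ρ (w s) v = v := fun s v h1 h2 => by
    have e1 : ρ (u s) v = v := by rw [hu, h1, mul_zero, zero_smul, add_zero]
    rw [mul_apply, mul_apply, e1, hu', h2, mul_zero, zero_smul, add_zero, e1]
  have hwmem : ∀ s, w s ∈ Subgroup.closure ({t, t'} : Set H) := fun s =>
    mul_mem (mul_mem (pow_mem (Subgroup.subset_closure (Set.mem_insert t {t'})) _)
      (pow_mem (Subgroup.subset_closure (Set.mem_insert_of_mem t (Set.mem_singleton t'))) _))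
      (pow_mem (Subgroup.subset_closure (Set.mem_insert t {t'})) _)
  have h1 : (-1 : ZMod p) ≠ 0 := neg_ne_zero.2 one_ne_zero
  let τ := w c * w (-1)
  have hτz : ρ τ z = c • z := by
    rw [mul_apply, hwz _ h1, inv_neg, inv_one, neg_neg, one_smul, hwz' _ hc]
  have hτz' : ρ τ z' = c⁻¹ • z' := by
    rw [mul_apply, hwz' _ h1, map_smul, hwz _ hc, smul_smul, neg_one_mul, neg_neg]
  have hτfix : ∀ v, φ v = 0 → φ' v = 0 → ρ τ v = v := fun v a b => by
    rw [mul_apply, hwfix _ v a b, hwfix _ v a b]
  refine ⟨τ, mul_mem (hwmem _) (hwmem _), hτz, hτz', hτfix, (c ^ 2).val,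
    ZMod.natCast_zmod_val _, ?_⟩
  have hscale : ∀ v, φ (ρ τ v) = c⁻¹ * φ v := fun v => by
    have hdec : v = (φ' v / φ' z) • z + (φ v / φ z') • z' +
        (v - (φ' v / φ' z) • z - (φ v / φ z') • z') := by abel
    have hk1 : φ (v - (φ' v / φ' z) • z - (φ v / φ z') • z') = 0 := by
      rw [map_sub, map_sub, map_smul, map_smul, ht.null, smul_zero, sub_zero, smul_eq_mul,
        div_mul_cancel₀ _ hφ, sub_self]
    have hk2 : φ' (v - (φ' v / φ' z) • z - (φ v / φ z') • z') = 0 := by
      rw [map_sub, map_sub, map_smul, map_smul, ht'.null, smul_zero, sub_zero, smul_eq_mul,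
        div_mul_cancel₀ _ hφ', sub_self]
    conv_lhs => rw [hdec]
    simp only [map_add, map_smul, hτz, hτz', hτfix _ hk1 hk2, hk1, ht.null, add_zero]
    simp only [smul_eq_mul, mul_zero, zero_add]
    field_simp
  refine LinearMap.ext fun v => ?_
  have hs := hscale (ρ τ⁻¹ v)
  rw [apply_inv] at hs
  rw [(ht.conj τ).act, (ht.pow _).act, LinearMap.comp_apply, LinearMap.smul_apply,
    ZMod.natCast_zmod_val, hτz, smul_smul, smul_eq_mul, hs]
  congr 2
  field_simp

section Embedded

variable [Finite H] [Finite V]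

theorem exists_functional {J : Module.End (ZMod p) V} {z : V} (hz : z ≠ 0)
    (h : ∀ v, J v ∈ (ZMod p) ∙ z) : ∃ φ : V →ₗ[ZMod p] ZMod p, ∀ v, J v = φ v • z := by
  let e := LinearEquiv.toSpanNonzeroSingleton (ZMod p) V z hz
  refine ⟨e.symm.toLinearMap.comp (J.codRestrict _ h), fun v => ?_⟩
  have := congrArg Subtype.val (e.apply_symm_apply (J.codRestrict _ h v))
  rw [LinearEquiv.toSpanNonzeroSingleton_apply] at this
  exact this.symm

/-- A linear group of degree three with Sylow subgroups of order `p ^ 2` has no strongly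
`p`-embedded subgroup. -/
theorem no_stronglyEmbedded (hp3 : 3 ≤ p) (hρ : Function.Injective ρ) (hV : Nat.card V = p ^ 3)
    (hsyl : ∀ T : Sylow p H, Nat.card T = p ^ 2) {M : Subgroup H}
    (hM : Cfsg.IsStronglyPEmbedded p M) : False := by
  classical
  have hMtop : M ≠ ⊤ := (Cfsg.Agent.PEmbCore.isStronglyPEmbedded_iff.mp hM).2.1
  obtain ⟨⟨T, hTne, hTM⟩, hnle⟩ := LocPEmb56.normalizers_le hM
  have hTc := hsyl T
  have hpM : p ∣ Nat.card M := dvd_trans (by rw [hTc]; exact dvd_pow_self p two_ne_zero)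
    (Subgroup.card_dvd_of_le hTM)
  have hmeet := LocPEmb56.meets_of_normalizers hpM hnle
  obtain ⟨g, -, hg⟩ := SetLike.exists_of_lt (lt_top_iff_ne_top.2 hMtop)
  have habel : ∀ {K : Subgroup H}, IsPGroup p K → ∀ a ∈ K, ∀ b ∈ K, Commute a b := by
    intro K hK a ha b hb
    obtain ⟨R, hR⟩ := hK.exists_le_sylow
    exact PGroupsBasic.comm_of_isMulCommutative
      (PGroupsBasic.isMulCommutative_of_card_le_sq R.isPGroup' (hsyl R).le) (hR ha) (hR hb)
  have hTI : ∀ d ∈ (T : Subgroup H), ∀ d0 ∈ (T : Subgroup H), d ≠ 1 → d0 ≠ 1 →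
      ¬ Commute d (g * d0 * g⁻¹) := by
    intro d hd d0 hd0 hd1 hd01 hc
    have hdp : IsPGroup p (Subgroup.zpowers d) :=
      T.isPGroup'.to_le ((Subgroup.zpowers_le).2 hd)
    have h1 : g * d0 * g⁻¹ ∈ M := by
      refine hnle (Subgroup.zpowers d) ((Subgroup.zpowers_le).2 (hTM hd)) hdp
        (fun e => hd1 (Subgroup.zpowers_eq_bot.1 e)) ?_
      refine Subgroup.mem_normalizer_iff.2 fun a => ⟨fun ha => ?_, fun ha => ?_⟩
      · obtain ⟨i, rfl⟩ := Subgroup.mem_zpowers_iff.1 ha
        rw [← (hc.zpow_left i).eq, mul_inv_cancel_right]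
        exact Subgroup.zpow_mem_zpowers d i
      · obtain ⟨i, hi⟩ := Subgroup.mem_zpowers_iff.1 ha
        have e : a = d ^ i := by
          have h2 := congrArg (fun x => (g * d0 * g⁻¹)⁻¹ * x * (g * d0 * g⁻¹)) hi
          rw [mul_assoc _ (d ^ i), (hc.zpow_left i).eq, inv_mul_cancel_left] at h2
          rw [h2]; group
        rw [e]
        exact Subgroup.zpow_mem_zpowers d i
    refine hmeet g hg (StrongPEmb.dvd_card_of_mem (p := p) (x := g * d0 * g⁻¹)
      (by simpa using hd01) (Subgroup.mem_inf.2 ⟨h1, ⟨d0, hTM hd0, rfl⟩⟩)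
      (T.isPGroup'.map (MulAut.conj g).toMonoidHom) ⟨d0, hd0, rfl⟩)
  have hne1 : ∀ {t : H} {φ : V →ₗ[ZMod p] ZMod p} {z : V}, IsTr ρ t φ z → φ ≠ 0 → z ≠ 0 →
      t ≠ 1 := by
    intro t φ z ht hφ hz h1
    refine hφ (LinearMap.ext fun v => ?_)
    have := ht.act v
    rw [h1, map_one, Module.End.one_apply, left_eq_add, smul_eq_zero] at this
    exact this.resolve_right hz
  have hconj0 : ∀ (a : H) (φ : V →ₗ[ZMod p] ZMod p), φ ≠ 0 → φ.comp (ρ a⁻¹) ≠ 0 := by
    intro a φ hφ h0
    refine hφ (LinearMap.ext fun v => ?_)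
    have := LinearMap.congr_fun h0 (ρ a v)
    rwa [LinearMap.comp_apply, inv_apply] at this
  have hinj0 : ∀ (a : H) (v : V), v ≠ 0 → ρ a v ≠ 0 := fun a v hv h0 => hv (by
    rw [← inv_apply (ρ := ρ) a v, h0, map_zero])
  -- transvections in `T` and in `gTg⁻¹` are in general position
  have hgen : ∀ {d d0 : H} {φ φ0 : V →ₗ[ZMod p] ZMod p} {z z0 : V}, d ∈ (T : Subgroup H) →
      d0 ∈ (T : Subgroup H) → IsTr ρ d φ z → IsTr ρ d0 φ0 z0 → φ ≠ 0 → φ0 ≠ 0 → z ≠ 0 → z0 ≠ 0 →
      φ (ρ g z0) ≠ 0 := by
    intro d d0 φ φ0 z z0 hd hd0 h h0 hφ hφ0 hz hz0 hinc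
    have hP := common_pgroup hp3 hρ h (h0.conj g) hinc
    exact hTI d hd d0 hd0 (hne1 h hφ hz) (hne1 h0 hφ0 hz0) (habel hP d
      (Subgroup.subset_closure (Set.mem_insert _ _)) _
      (Subgroup.subset_closure (Set.mem_insert_of_mem _ rfl)))
  -- displacements
  have hfin : Module.finrank (ZMod p) V = 3 := by
    have h := Module.natCard_eq_pow_finrank (K := ZMod p) (V := V)
    rw [hV, Nat.card_zmod] at h
    exact (Nat.pow_right_injective hp.out.two_le h).symm
  haveI : Nontrivial V := Module.nontrivial_of_finrank_pos (R := ZMod p) (by omega)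
  haveI : CharP (Module.End (ZMod p) V) p :=
    charP_of_injective_algebraMap (algebraMap (ZMod p) (Module.End (ZMod p) V)).injective p
  let D : H → Module.End (ZMod p) V := fun t => ρ t - 1
  have hD : ∀ t v, ρ t v = v + D t v := fun t v => by
    show _ = v + (ρ t v - v); abel
  have hDnil : ∀ t ∈ (T : Subgroup H), D t ^ 3 = 0 := by
    intro t ht
    obtain ⟨k, hk⟩ := T.isPGroup' ⟨t, ht⟩
    have h1 : t ^ p ^ k = 1 := congrArg Subtype.val hk
    have h2 : IsNilpotent (D t) := ⟨p ^ k, by
      show (ρ t - 1) ^ p ^ k = 0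
      rw [sub_pow_char_pow_of_commute (p := p) _ (Commute.one_right _), ← map_pow, h1, map_one,
        one_pow, sub_self]⟩
    have h3 := h2.charpoly_eq_X_pow_finrank
    have h4 := LinearMap.aeval_self_charpoly (D t)
    rw [h3, hfin, Polynomial.aeval_X_pow] at h4
    exact h4
  have hDcomm : ∀ s ∈ (T : Subgroup H), ∀ t ∈ (T : Subgroup H), Commute (D s) (D t) :=
    fun s hs t ht => ((((habel T.isPGroup' s hs t ht).map ρ).sub_left (Commute.one_left _))).sub_right
      (Commute.one_right _)
  have hDinj : ∀ s t, D s = D t → s = t := fun s t h => hρ (sub_left_inj.1 h)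
  by_cases hreg : ∃ x ∈ (T : Subgroup H), D x ^ 2 ≠ 0
  · -- a regular element
    obtain ⟨x, hx, hx2⟩ := hreg
    obtain ⟨v, hv⟩ : ∃ v, (D x ^ 2) v ≠ 0 := by
      by_contra hn
      push Not at hn
      exact hx2 (LinearMap.ext hn)
    set J := D x with hJdef
    have hli : LinearIndependent (ZMod p) (fun i : Fin 3 => (J ^ (i : ℕ)) v) := by
      rw [Fintype.linearIndependent_iff]
      intro c hc
      simp only [Fin.sum_univ_three, Fin.val_zero, Fin.val_one, Fin.val_two, pow_zero,
        Module.End.one_apply, pow_one] at hc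
      have hJ3 : ∀ w, J (J (J w)) = 0 := fun w => by
        rw [← Module.End.mul_apply, ← Module.End.mul_apply, ← pow_two, ← pow_succ, hDnil x hx,
          LinearMap.zero_apply]
      have hv' : J (J v) ≠ 0 := by rwa [pow_two, Module.End.mul_apply] at hv
      rw [pow_two, Module.End.mul_apply] at hc
      have e0 : c 0 = 0 := by
        have := congrArg (fun w => J (J w)) hc
        simp only [map_add, map_smul, hJ3, map_zero, smul_zero, add_zero] at this
        exact (smul_eq_zero.1 this).resolve_right hv'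
      have e1 : c 1 = 0 := by
        have := congrArg J hc
        simp only [e0, zero_smul, zero_add, map_add, map_smul, hJ3, map_zero, smul_zero,
          add_zero] at this
        exact (smul_eq_zero.1 this).resolve_right hv'
      have e2 : c 2 = 0 := by
        simp only [e0, e1, zero_smul, zero_add] at hc
        exact (smul_eq_zero.1 hc).resolve_right hv'
      intro i; fin_cases i <;> assumption
    let bas := basisOfLinearIndependentOfCardEqFinrank hli (by rw [hfin, Fintype.card_fin])
    have hbas : ∀ i : Fin 3, bas i = (J ^ (i : ℕ)) v := fun i => by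
      show basisOfLinearIndependentOfCardEqFinrank hli _ i = _
      rw [coe_basisOfLinearIndependentOfCardEqFinrank]
    have hJ3 : J ^ 3 = 0 := hDnil x hx
    -- the polynomial of an element of `T`
    have hpoly : ∀ t ∈ (T : Subgroup H), ∃ b c : ZMod p, D t = b • J + c • J ^ 2 := by
      intro t ht
      have hc := hDcomm t ht x hx
      obtain ⟨a, b, c, hd⟩ : ∃ a b c : ZMod p, D t = a • (1 : Module.End (ZMod p) V) + b • J +
          c • J ^ 2 := by
        obtain ⟨a, b, c, e⟩ : ∃ a b c : ZMod p, D t v = a • v + b • J v + c • (J ^ 2) v := by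
          refine ⟨bas.repr (D t v) 0, bas.repr (D t v) 1, bas.repr (D t v) 2, ?_⟩
          conv_lhs => rw [← bas.sum_repr (D t v)]
          simp only [Fin.sum_univ_three, hbas, Fin.val_zero, Fin.val_one, Fin.val_two, pow_zero,
            Module.End.one_apply, pow_one]
        refine ⟨a, b, c, bas.ext fun i => ?_⟩
        rw [hbas, ← Module.End.mul_apply, (hc.pow_right _).eq, Module.End.mul_apply, e]
        simp only [LinearMap.add_apply, LinearMap.smul_apply, Module.End.one_apply, map_add,
          map_smul, ← Module.End.mul_apply, one_mul, hJdef]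
        rw [((Commute.refl (D x)).pow_left (i : ℕ)).eq, ((Commute.refl (D x)).pow_pow (i : ℕ) 2).eq]
      refine ⟨b, c, ?_⟩
      have hz := congrArg (fun f : Module.End (ZMod p) V => (J ^ 2) ((f ^ 3) v)) hd
      have ha : a = 0 := by
        have h2 : (J ^ 2) (D t v) = a • (J ^ 2) v := by
          rw [hd]
          simp only [LinearMap.add_apply, LinearMap.smul_apply, Module.End.one_apply, map_add,
            map_smul]
          rw [← Module.End.mul_apply (J ^ 2) J, ← Module.End.mul_apply (J ^ 2) (J ^ 2),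
            ← pow_succ, ← pow_add, hJ3, pow_eq_zero_of_le (by norm_num : 3 ≤ 2 + 2) hJ3]
          simp
        have h3 : ∀ n : ℕ, (J ^ 2) (((D t) ^ n) v) = a ^ n • (J ^ 2) v := by
          intro n
          induction n with
          | zero => simp
          | succ n ih =>
            rw [pow_succ' (D t) n, Module.End.mul_apply, ← Module.End.mul_apply (J ^ 2),
              ← (hc.pow_right 2).eq, Module.End.mul_apply, ih, map_smul,
              ← Module.End.mul_apply, (hc.pow_right 2).eq, Module.End.mul_apply, h2, smul_smul,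
              pow_succ a n]
        have h4 := h3 3
        rw [hDnil t ht, LinearMap.zero_apply, map_zero] at h4
        exact pow_eq_zero_iff three_ne_zero |>.1 ((smul_eq_zero.1 h4.symm).resolve_right hv)
      rw [hd, ha, zero_smul, zero_add]
    choose cb cc hbc using hpoly
    have hbij : Function.Bijective (fun t : (T : Subgroup H) => (cb t t.2, cc t t.2)) := by
      refine (Nat.bijective_iff_injective_and_card _).2 ⟨fun s t h => Subtype.ext (hDinj _ _ ?_), ?_⟩
      · simp only [Prod.mk.injEq] at h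
        rw [hbc s s.2, hbc t t.2, h.1, h.2]
      · rw [Nat.card_prod, Nat.card_zmod, hTc, sq]
    obtain ⟨⟨d, hd⟩, hd'⟩ := hbij.2 (0, 1)
    simp only [Prod.mk.injEq] at hd'
    have hdD : D d = J ^ 2 := by rw [hbc d hd, hd'.1, hd'.2, zero_smul, zero_add, one_smul]
    set z := (J ^ 2) v with hzdef
    obtain ⟨φ, hφ⟩ := exists_functional (J := J ^ 2) hv fun w => by
      conv => arg 2; rw [← bas.sum_repr w]
      rw [map_sum]
      refine Submodule.sum_mem _ fun i _ => ?_
      rw [map_smul, hbas, ← Module.End.mul_apply, ← pow_add]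
      refine Submodule.smul_mem _ _ ?_
      rcases Nat.eq_zero_or_pos (i : ℕ) with h0 | h0
      · rw [h0]; exact Submodule.mem_span_singleton_self _
      · rw [pow_eq_zero_of_le (by omega) hJ3]; exact Submodule.zero_mem _
    have hφz : φ z = 0 := by
      have := hφ z
      rw [hzdef, ← Module.End.mul_apply, ← pow_add, pow_eq_zero_of_le (by norm_num) hJ3,
        LinearMap.zero_apply] at this
      exact (smul_eq_zero.1 this.symm).resolve_right hv
    have hφ0 : φ ≠ 0 := fun h0 => by
      have := hφ v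
      rw [h0, LinearMap.zero_apply, zero_smul] at this
      exact hv this
    have htd : IsTr ρ d φ z := ⟨fun w => by rw [hD, hdD, hφ], hφz⟩
    have hd1 := htd.conj g
    set φ' := φ.comp (ρ g⁻¹) with hφ'
    set z' := ρ g z with hz'
    have hn1 : φ z' ≠ 0 := hgen hd hd htd htd hφ0 hφ0 hv hv
    have hn2 : φ' z ≠ 0 := fun h0 => by
      have hP := common_pgroup hp3 hρ hd1 htd h0
      exact hTI d hd d hd (hne1 htd hφ0 hv) (hne1 htd hφ0 hv) (habel hP d
        (Subgroup.subset_closure (Set.mem_insert_of_mem _ rfl)) _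
        (Subgroup.subset_closure (Set.mem_insert _ _)))
    -- move the centre of the conjugate into its axis
    set k : ZMod p := -(φ' (ρ x z')) / (φ z' * φ' z) with hkdef
    set u := x * d ^ k.val with hudef
    have hxz : ρ x z = z := by
      rw [hD]
      show z + J z = z
      rw [hzdef, ← Module.End.mul_apply, ← pow_succ', hJ3, LinearMap.zero_apply, add_zero]
    have hzero : φ' (ρ u z') = 0 := by
      rw [hudef, mul_apply, (htd.pow _).act, map_add, map_smul, hxz, map_add, map_smul,
        LinearMap.smul_apply, ZMod.natCast_zmod_val, smul_eq_mul, smul_eq_mul, hkdef]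
      field_simp
      ring
    have hd2 := hd1.conj u
    have hP := common_pgroup hp3 hρ hd1 hd2 hzero
    have hc := habel hP _ (Subgroup.subset_closure (Set.mem_insert _ _)) _
      (Subgroup.subset_closure (Set.mem_insert_of_mem _ rfl))
    have hback := sym_of_commute hd1 hd2 (hinj0 u _ (hinj0 g _ hv)) (hconj0 g φ hφ0) hc hzero
    rw [LinearMap.comp_apply] at hback
    have hφ'z' : φ' z' = 0 := hd1.null
    set K := D u with hK
    have hKJ : K ^ 2 = J ^ 2 := by
      have e : K = J + k • J ^ 2 := by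
        refine LinearMap.ext fun w => ?_
        show ρ (x * d ^ k.val) w - w = J w + k • (J ^ 2) w
        rw [mul_apply, (htd.pow _).act, map_add, map_smul, hxz, hD, LinearMap.smul_apply,
          ZMod.natCast_zmod_val, hφ, smul_eq_mul, smul_smul]
        abel
      rw [e, pow_two (J + _), mul_add, add_mul, add_mul, smul_mul_assoc, mul_smul_comm,
        smul_mul_assoc, mul_smul_comm, ← pow_two, ← pow_succ', ← pow_succ, ← pow_add, hJ3,
        pow_eq_zero_of_le (by norm_num : 3 ≤ 2 + 2) hJ3]
      simp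
    have hu3 : K ^ 3 = 0 := hDnil u (mul_mem hx (pow_mem hd _))
    have hinv : ρ u⁻¹ z' = z' - K z' + (K ^ 2) z' := by
      apply (Function.LeftInverse.injective (g := ρ u⁻¹) (fun w => inv_apply u w))
      have k2 : K (K z') = (K ^ 2) z' := by rw [pow_two, Module.End.mul_apply]
      have k3 : K ((K ^ 2) z') = 0 := by
        rw [← Module.End.mul_apply, ← pow_succ', hu3, LinearMap.zero_apply]
      rw [apply_inv, map_add, map_sub, hD u z', hD u (K z'), hD u ((K ^ 2) z'), ← hK, k2, k3]
      abel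
    have hKz : φ' (K z') = 0 := by
      have := hzero
      rwa [hD, map_add, hφ'z', zero_add] at this
    rw [hinv, map_add, map_sub, hφ'z', hKz, sub_zero, zero_add, hKJ, hφ, map_smul,
      smul_eq_mul] at hback
    exact mul_ne_zero hn1 hn2 hback
  · -- quadratic elements
    push Not at hreg
    have hJK : ∀ s ∈ (T : Subgroup H), ∀ t ∈ (T : Subgroup H), D s * D t = 0 := by
      intro s hs t ht
      have h1 := hreg _ (mul_mem hs ht)
      have e : D (s * t) = D s + D t + D s * D t := by
        show ρ (s * t) - 1 = _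
        rw [map_mul]
        show ρ s * ρ t - 1 = (ρ s - 1) + (ρ t - 1) + (ρ s - 1) * (ρ t - 1)
        noncomm_ring
      have hc := hDcomm s hs t ht
      have hs2 := hreg s hs
      have ht2 := hreg t ht
      rw [pow_two] at hs2 ht2
      have e2 : D (s * t) ^ 2 = (2 : ℕ) • (D s * D t) := by
        have r1 : ∀ X, D s * (D s * X) = 0 := fun X => by rw [← mul_assoc, hs2, zero_mul]
        have r2 : ∀ X, D t * (D t * X) = 0 := fun X => by rw [← mul_assoc, ht2, zero_mul]
        have r3 : ∀ X, D t * (D s * X) = D s * (D t * X) := fun X => by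
          rw [← mul_assoc, ← hc.eq, mul_assoc]
        rw [e, pow_two]
        simp only [mul_add, add_mul, mul_assoc, hs2, ht2, r1, r2, r3, mul_zero, add_zero,
          zero_add, hc.symm.eq, two_nsmul]
      rw [h1, ← Nat.cast_smul_eq_nsmul (ZMod p)] at e2
      refine (smul_eq_zero.1 e2.symm).resolve_left fun h0 => ?_
      rw [ZMod.natCast_eq_zero_iff] at h0
      have := Nat.le_of_dvd two_pos h0
      omega
    let W : Submodule (ZMod p) V :=
      { carrier := {w | ∀ t ∈ (T : Subgroup H), D t w = 0}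
        add_mem' := fun ha hb t ht => by rw [map_add, ha t ht, hb t ht, add_zero]
        zero_mem' := fun t _ => map_zero _
        smul_mem' := fun c a ha t ht => by rw [map_smul, ha t ht, smul_zero] }
    have him : ∀ t ∈ (T : Subgroup H), ∀ v, D t v ∈ W := fun t ht v s hs => by
      rw [← Module.End.mul_apply, hJK s hs t ht, LinearMap.zero_apply]
    haveI : Finite W := inferInstance
    have hTne' : ∃ t ∈ (T : Subgroup H), D t ≠ 0 := by
      obtain ⟨t, ht, h1⟩ := ((T : Subgroup H).ne_bot_iff_exists_ne_one).1 hTne |> fun ⟨t, h⟩ =>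
        (⟨t, t.2, fun e => h (Subtype.ext e)⟩ : ∃ t ∈ (T : Subgroup H), t ≠ 1)
      exact ⟨t, ht, fun h0 => h1 (hDinj t 1 (h0.trans (by simp [D])))⟩
    obtain ⟨t0, ht0, hD0⟩ := hTne'
    have hWne : W ≠ ⊥ := fun e => hD0 (LinearMap.ext fun v =>
      (Submodule.mem_bot _).1 (e ▸ him t0 ht0 v))
    have hWtop : W ≠ ⊤ := fun e => hD0 (LinearMap.ext fun v =>
      (e ▸ Submodule.mem_top : v ∈ W) t0 ht0)
    have hW1 : 1 ≤ Module.finrank (ZMod p) W :=
      Submodule.one_le_finrank_iff.2 hWne
    have hW2 : Module.finrank (ZMod p) W ≤ 2 := by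
      have := Submodule.finrank_lt hWtop
      omega
    rcases (show Module.finrank (ZMod p) W = 1 ∨ Module.finrank (ZMod p) W = 2 by omega) with h1 | h2
    · -- a common centre
      obtain ⟨z, hzW, hz⟩ := Submodule.exists_mem_ne_zero_of_ne_bot hWne
      have hWz : W = (ZMod p) ∙ z := (Submodule.eq_of_le_of_finrank_eq
        ((Submodule.span_singleton_le_iff_mem _ _).2 hzW)
        (by rw [h1, finrank_span_singleton hz])).symm
      have hfun : ∀ t ∈ (T : Subgroup H), ∃ φ : V →ₗ[ZMod p] ZMod p,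
          (∀ v, D t v = φ v • z) ∧ φ z = 0 := by
        intro t ht
        obtain ⟨φ, hφ⟩ := exists_functional hz fun v => hWz ▸ him t ht v
        exact ⟨φ, hφ, (smul_eq_zero.1 ((hφ z).symm.trans (hzW t ht))).resolve_right hz⟩
      choose Φ hΦ using hfun
      let A : Submodule (ZMod p) (Module.Dual (ZMod p) V) :=
        LinearMap.ker (Module.Dual.eval (ZMod p) V z)
      let m : ↥(T : Subgroup H) → A := fun t => ⟨Φ t t.2, (hΦ t t.2).2⟩
      have hA : Nat.card A = p ^ 2 := by
        have hsurj : Function.Surjective (Module.Dual.eval (ZMod p) V z) := by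
          obtain ⟨f, hf⟩ := LinearMap.exists_extend_of_notMem (p := (⊥ : Submodule (ZMod p) V))
            0 (by simpa using hz) (1 : ZMod p) |> fun ⟨f, h1, h2⟩ => (⟨f, h2⟩ : ∃ f : V →ₗ[ZMod p] ZMod p, f z = 1)
          exact fun c => ⟨c • f, by simp [Module.Dual.eval_apply, hf]⟩
        have h := LinearMap.finrank_range_add_finrank_ker (Module.Dual.eval (ZMod p) V z)
        rw [LinearMap.range_eq_top.2 hsurj, finrank_top, Module.finrank_self,
          Subspace.dual_finrank_eq, hfin] at h
        haveI : Finite (Module.Dual (ZMod p) V) := Module.finite_of_finite (ZMod p)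
        rw [Module.natCard_eq_pow_finrank (K := ZMod p), Nat.card_zmod,
          show Module.finrank (ZMod p) A = 2 by show Module.finrank (ZMod p) (LinearMap.ker _) = 2; omega]
      haveI : Finite (Module.Dual (ZMod p) V) := Module.finite_of_finite (ZMod p)
      have hbij : Function.Bijective m := by
        refine (Nat.bijective_iff_injective_and_card _).2 ⟨fun s t h => Subtype.ext (hDinj _ _ ?_),
          by rw [hA, hTc]⟩
        have h' : Φ s s.2 = Φ t t.2 := congrArg Subtype.val h
        exact LinearMap.ext fun v => by rw [(hΦ s s.2).1, (hΦ t t.2).1, h']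
      -- an axis through both centres
      obtain ⟨f, hf0, hfW⟩ : ∃ f : V →ₗ[ZMod p] ZMod p, f ≠ 0 ∧
          ((ZMod p) ∙ z ⊔ (ZMod p) ∙ ρ g z) ≤ LinearMap.ker f := by
        refine Submodule.exists_le_ker_of_lt_top _ (lt_top_iff_ne_top.2 fun e => ?_)
        have h3 := Submodule.finrank_add_le_finrank_add_finrank ((ZMod p) ∙ z) ((ZMod p) ∙ ρ g z)
        rw [e, finrank_top, hfin, finrank_span_singleton hz,
          finrank_span_singleton (hinj0 g z hz)] at h3
        omega
      obtain ⟨⟨d, hd⟩, hdf⟩ := hbij.2 ⟨f, hfW (Submodule.mem_sup_left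
        (Submodule.mem_span_singleton_self z))⟩
      have e : Φ d hd = f := congrArg Subtype.val hdf
      have htd : IsTr ρ d f z := ⟨fun v => by rw [hD, (hΦ d hd).1, e], e ▸ (hΦ d hd).2⟩
      exact hgen hd hd htd htd hf0 hf0 hz hz
        (hfW (Submodule.mem_sup_right (Submodule.mem_span_singleton_self _)))
    · -- a common axis
      obtain ⟨f, hf0, hfW⟩ := Submodule.exists_le_ker_of_lt_top W (lt_top_iff_ne_top.2 hWtop)
      obtain ⟨v0, hv0⟩ : ∃ v, f v = 1 := by
        obtain ⟨v, hv⟩ : ∃ v, f v ≠ 0 := by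
          by_contra hn
          push Not at hn
          exact hf0 (LinearMap.ext hn)
        exact ⟨(f v)⁻¹ • v, by rw [map_smul, smul_eq_mul, inv_mul_cancel₀ hv]⟩
      have hkerW : LinearMap.ker f = W := by
        refine (Submodule.eq_of_le_of_finrank_eq hfW ?_).symm
        have h := LinearMap.finrank_range_add_finrank_ker f
        rw [LinearMap.range_eq_top.2 (fun c => ⟨c • v0, by simp [hv0]⟩), finrank_top,
          Module.finrank_self, hfin] at h
        omega
      have hact : ∀ t ∈ (T : Subgroup H), ∀ v, D t v = f v • D t v0 := by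
        intro t ht v
        have h : v - f v • v0 ∈ W := hkerW ▸ (by simp [hv0])
        have := h t ht
        rwa [map_sub, map_smul, sub_eq_zero] at this
      have hbij : Function.Bijective (fun t : (T : Subgroup H) => (⟨D t v0, him t t.2 v0⟩ : W)) := by
        refine (Nat.bijective_iff_injective_and_card _).2 ⟨fun s t h => Subtype.ext (hDinj _ _ ?_), ?_⟩
        · have h' : D s v0 = D t v0 := congrArg Subtype.val h
          exact LinearMap.ext fun v => by rw [hact s s.2 v, hact t t.2 v, h']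
        · rw [hTc, Module.natCard_eq_pow_finrank (K := ZMod p), Nat.card_zmod, h2]
      have htr : ∀ w ∈ W, ∃ d ∈ (T : Subgroup H), IsTr ρ d f w := by
        intro w hw
        obtain ⟨⟨d, hd⟩, hdw⟩ := hbij.2 ⟨w, hw⟩
        have e : D d v0 = w := congrArg Subtype.val hdw
        exact ⟨d, hd, fun v => by rw [hD, hact d hd, e], LinearMap.mem_ker.1 (hfW hw)⟩
      obtain ⟨w, hwW, hw0, hgw⟩ : ∃ w ∈ W, w ≠ 0 ∧ ρ g w ∈ W := by
        have h3 := Submodule.finrank_sup_add_finrank_inf_eq W (W.comap (ρ g))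
        have h4 : Module.finrank (ZMod p) ↥(W.comap (ρ g)) = 2 := by
          let e : V ≃ₗ[ZMod p] V :=
            { ρ g with invFun := ρ g⁻¹, left_inv := inv_apply g, right_inv := apply_inv g }
          have hmap : W.comap (ρ g) = W.map (e.symm : V →ₗ[ZMod p] V) := by
            refine Submodule.ext fun v => ⟨fun hv => ⟨ρ g v, hv, inv_apply g v⟩, ?_⟩
            rintro ⟨u, hu, rfl⟩
            show ρ g (ρ g⁻¹ u) ∈ W
            rwa [apply_inv]
          rw [hmap, LinearEquiv.finrank_map_eq, h2]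
        have h5 := Submodule.finrank_le (W ⊔ W.comap (ρ g))
        obtain ⟨w, hw, hw0⟩ := Submodule.exists_mem_ne_zero_of_ne_bot
          (p := W ⊓ W.comap (ρ g)) (fun e => by rw [e, finrank_bot] at h3; omega)
        exact ⟨w, hw.1, hw0, hw.2⟩
      obtain ⟨d, hd, htd⟩ := htr w hwW
      exact hgen hd hd htd htd hf0 hf0 hw0 hw0 (LinearMap.mem_ker.1 (hfW hgw))

end Embedded

end Cfsg.Agent.PFiveLinear1
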