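import Mathlib
import Cfsg.Agent.Lib.PFiveLinear1
import Cfsg.Agent.Lib.MaxClassEssDeep1

/-!
A group with central derived subgroup, an automorphism acting on it like an element of a larger
`p`-group, and a torus of automorphisms: relations between the multipliers.
-/

set_option autoImplicit false
set_option linter.unusedSectionVars false

namespace Cfsg.Agent.PFiveTwist1

open scoped commutatorElement
open PFiveLinear1

variable {p : ℕ} [hp : Fact p.Prime] {M : Type*} [Group M] [Finite M]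

theorem pow_cast {G : Type*} [Monoid G] {x : G} (hx : x ^ p = 1) {i j : ℕ}
    (h : (i : ZMod p) = j) : x ^ i = x ^ j := by
  rw [ZMod.natCast_eq_natCast_iff', ] at h
  rw [pow_eq_pow_mod i hx, pow_eq_pow_mod j hx, h]

theorem cast_of_pow {G : Type*} [Group G] {x : G} (hx : x ^ p = 1) (hx1 : x ≠ 1) {i j : ℕ}
    (h : x ^ i = x ^ j) : (i : ZMod p) = j := by
  rw [ZMod.natCast_eq_natCast_iff, ← orderOf_eq_prime hx hx1, ← pow_eq_pow_iff_modEq]
  exact h

/-- The data: `g`, `h` generate modulo the centre, `z` generates the derived subgroup, and `y`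
behaves like conjugation by an element outside the group. -/
structure Twist (K : Subgroup (MulAut M)) (y : MulAut M) (z w g h : M) (η : ℕ) : Prop where
  z_mem : z ∈ Subgroup.center M
  z_pow : z ^ p = 1
  z_ne : z ≠ 1
  w_mem : w ∈ Subgroup.center M
  w_pow : w ^ p = 1
  center_gen : ∀ x ∈ Subgroup.center M, ∃ i j : ℕ, x = z ^ i * w ^ j
  comm : ∀ a b : M, ⁅a, b⁆ ∈ Subgroup.zpowers z
  g_pow : g ^ p ∈ Subgroup.center M
  h_pow : h ^ p ∈ Subgroup.center M
  gen : ∀ x : M, ∃ i j : ℕ, (g ^ i * h ^ j)⁻¹ * x ∈ Subgroup.center M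
  indep : ∀ i j : ℕ, g ^ i * h ^ j ∈ Subgroup.center M → p ∣ i ∧ p ∣ j
  not_comm : ⁅g, h⁆ ≠ 1
  y_mem : y ∈ K
  y_z : y z = z
  y_w : y w = w * z ^ η
  y_g : y g = g * h
  y_h : h⁻¹ * y h ∈ Subgroup.center M
  induced : ∀ k ∈ K, k z = z → w⁻¹ * k w ∈ Subgroup.zpowers z → h⁻¹ * k h ∈ Subgroup.center M →
    (∃ j : ℕ, (g * h ^ j)⁻¹ * k g ∈ Subgroup.center M) → ∃ (m : ℕ) (n : M), k = MulAut.conj n * y ^ m

variable {K : Subgroup (MulAut M)} {y : MulAut M} {z w g h : M} {η : ℕ}

theorem main (hT : Twist (p := p) K y z w g h η) {c : ZMod p} (hc : c ≠ 0) {f : MulAut M}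
    (hf : f ∈ K) (hfz : f z = z ^ c.val) (hfw : f w = w)
    (hfg : (g ^ c⁻¹.val)⁻¹ * f g ∈ Subgroup.center M) :
    ∃ k ∈ K, ∃ a b ζ : ZMod p, ((a = c ^ 2 ∧ b = c⁻¹ ∧ ζ = c) ∨ (a = c ∧ b = c⁻¹ ∧ ζ = 1)) ∧
      k z = z ^ ζ.val ∧ (h ^ a.val)⁻¹ * k h ∈ Subgroup.center M ∧
      (∃ j : ℕ, (g ^ b.val * h ^ j)⁻¹ * k g ∈ Subgroup.center M) ∧
      (h⁻¹ * y h ∈ Subgroup.zpowers z ∨ a ^ 2 = b) ∧ (p ∣ η ∨ ζ * b = a) := by
  classical
  -- coordinates modulo the centre
  choose ci cj hcij using hT.gen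
  let q : M → ZMod p × ZMod p := fun x => ((ci x : ZMod p), (cj x : ZMod p))
  have hZle : Subgroup.zpowers z ≤ Subgroup.center M := (Subgroup.zpowers_le).2 hT.z_mem
  have hcen : ∀ a b : M, ⁅a, b⁆ ∈ Subgroup.center M := fun a b => hZle (hT.comm a b)
  let π := QuotientGroup.mk' (Subgroup.center M)
  have hπc : ∀ a b : M, π a * π b = π b * π a := fun a b => by
    rw [← commutatorElement_eq_one_iff_mul_comm, ← map_commutatorElement]
    exact (QuotientGroup.eq_one_iff _).2 (hcen a b)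
  have hgp : π g ^ p = 1 := by rw [← map_pow]; exact (QuotientGroup.eq_one_iff _).2 hT.g_pow
  have hhp : π h ^ p = 1 := by rw [← map_pow]; exact (QuotientGroup.eq_one_iff _).2 hT.h_pow
  have hπq : ∀ x, π x = π g ^ (q x).1.val * π h ^ (q x).2.val := fun x => by
    rw [pow_cast hgp (ZMod.natCast_zmod_val (q x).1), pow_cast hhp (ZMod.natCast_zmod_val (q x).2),
      ← map_pow, ← map_pow, ← map_mul]
    exact (QuotientGroup.eq.2 (hcij x)).symm
  have huniq : ∀ (i j : ℕ) (x : M), π x = π g ^ i * π h ^ j → q x = ((i : ZMod p), (j : ZMod p)) := by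
    intro i j x hx
    rw [hπq x] at hx
    set a := (q x).1.val
    set b := (q x).2.val
    obtain ⟨i', hi'⟩ : ∃ i' : ℕ, (i' : ZMod p) = (i : ZMod p) - a := ⟨_, ZMod.natCast_zmod_val _⟩
    obtain ⟨j', hj'⟩ : ∃ j' : ℕ, (j' : ZMod p) = (j : ZMod p) - b := ⟨_, ZMod.natCast_zmod_val _⟩
    have e1 : π g ^ i = π g ^ a * π g ^ i' := by
      rw [← pow_add]; exact pow_cast hgp (by push_cast; rw [hi']; ring)
    have e2 : π h ^ j = π h ^ b * π h ^ j' := by
      rw [← pow_add]; exact pow_cast hhp (by push_cast; rw [hj']; ring)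
    have hcm : Commute (π g ^ i') (π h ^ b) := Commute.pow_pow (hπc g h) i' b
    rw [e1, e2, mul_assoc, ← mul_assoc (π g ^ i'), hcm.eq, mul_assoc (π h ^ b), ← mul_assoc,
      left_eq_mul, ← map_pow, ← map_pow, ← map_mul] at hx
    obtain ⟨d1, d2⟩ := hT.indep i' j' ((QuotientGroup.eq_one_iff _).1 hx)
    rw [← ZMod.natCast_eq_zero_iff, hi', sub_eq_zero] at d1
    rw [← ZMod.natCast_eq_zero_iff, hj', sub_eq_zero] at d2
    rw [d1, d2]
    exact Prod.ext (ZMod.natCast_zmod_val _).symm (ZMod.natCast_zmod_val _).symm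
  have hqmul : ∀ a b, q (a * b) = q a + q b := fun a b => by
    rw [huniq ((q a).1.val + (q b).1.val) ((q a).2.val + (q b).2.val) (a * b) ?_]
    · simp only [Nat.cast_add, ZMod.natCast_zmod_val]
      rfl
    · rw [map_mul, hπq a, hπq b, pow_add, pow_add,
        (Commute.pow_pow (hπc h g) _ _).mul_mul_mul_comm]
  have hqzero : ∀ x, q x = 0 ↔ x ∈ Subgroup.center M := fun x => by
    refine ⟨fun h0 => (QuotientGroup.eq_one_iff _).1 ?_, fun hx => ?_⟩
    · show π x = 1
      rw [hπq x, h0]; simp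
    · rw [huniq 0 0 x (by simp [show π x = 1 from (QuotientGroup.eq_one_iff _).2 hx])]
      simp
  have hqsur : Function.Surjective q := fun v =>
    ⟨g ^ v.1.val * h ^ v.2.val, by
      rw [huniq v.1.val v.2.val _ (by rw [map_mul, map_pow, map_pow])]
      simp⟩
  obtain ⟨act, hact⟩ := MaxClassEssDeep1.exists_act (p := p) q hqmul hqsur fun α a ha =>
    (hqzero _).2 ((Subgroup.characteristic_iff_le_comap.1
      (inferInstance : (Subgroup.center M).Characteristic) α) ((hqzero a).1 ha))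
  have hqg : q g = (1, 0) := by rw [huniq 1 0 g (by simp)]; simp
  have hqh : q h = (0, 1) := by rw [huniq 0 1 h (by simp)]; simp
  have hq_eq : ∀ a b, q a = q b ↔ b⁻¹ * a ∈ Subgroup.center M := fun a b => by
    rw [← hqzero]
    have := hqmul b (b⁻¹ * a)
    rw [mul_inv_cancel_left] at this
    constructor
    · intro e; rwa [e, left_eq_add] at this
    · intro e; rw [this, e, add_zero]
  have hqpow : ∀ a (n : ℕ), q (a ^ n) = (n : ZMod p) • q a := fun a n => by
    induction n with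
    | zero => simp [(hqzero 1).2 (one_mem _)]
    | succ n ih => rw [pow_succ, hqmul, ih]; push_cast; rw [add_smul, one_smul]
  have hsplit : ∀ v : ZMod p × ZMod p, v = v.1 • ((1, 0) : ZMod p × ZMod p) + v.2 • (0, 1) :=
    fun v => by simp
  have hyg : act y (1, 0) = (1, 1) := by
    rw [← hqg, hact, hT.y_g, hqmul, hqg, hqh]; simp
  have hyh : act y (0, 1) = (0, 1) := by
    rw [← hqh, hact]
    exact (hq_eq _ _).2 hT.y_h
  let φ : (ZMod p × ZMod p) →ₗ[ZMod p] ZMod p := LinearMap.fst _ _ _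
  have hty : IsTr act y φ (0, 1) := ⟨fun v => by
    conv_lhs => rw [hsplit v, map_add, map_smul, map_smul, hyg, hyh]
    refine Prod.ext ?_ ?_ <;> simp [φ] <;> ring, rfl⟩
  -- automorphisms preserving the derived subgroup
  haveI hZn : (Subgroup.zpowers z).Normal :=
    ⟨fun a ha b => by rw [Subgroup.mem_center_iff.1 (hZle ha) b, mul_inv_cancel_right]; exact ha⟩
  let π' : M →* M ⧸ Subgroup.zpowers z := QuotientGroup.mk' (Subgroup.zpowers z)
  have hπ'1 : ∀ {a : M}, π' a = 1 ↔ a ∈ Subgroup.zpowers z := fun {a} => QuotientGroup.eq_one_iff a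
  have hπ'z : π' z = 1 := hπ'1.2 (Subgroup.mem_zpowers z)
  have hπ'c : ∀ a b : M, π' a * π' b = π' b * π' a := fun a b => by
    rw [← commutatorElement_eq_one_iff_mul_comm, ← map_commutatorElement]
    exact hπ'1.2 (hT.comm a b)
  -- obtain the element
  obtain ⟨k, hk, a, b, ζ, hab, hkz, hkw, hkh, hkg⟩ : ∃ k ∈ K, ∃ a b ζ : ZMod p,
      ((a = c ^ 2 ∧ b = c⁻¹ ∧ ζ = c) ∨ (a = c ∧ b = c⁻¹ ∧ ζ = 1)) ∧
      k z = z ^ ζ.val ∧ π' (k w) = π' w ∧ act k (0, 1) = (0, a) ∧ (act k (1, 0)).1 = b := by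
    by_cases hA : (act f (0, 1)).1 = 0
    · refine ⟨f, hf, (act f (0, 1)).2, c⁻¹, c, Or.inl ⟨?_, rfl, rfl⟩, hfz, by rw [hfw],
        Prod.ext hA rfl, ?_⟩
      · set a := (act f (0, 1)).2 with ha
        have hfh : (h ^ a.val)⁻¹ * f h ∈ Subgroup.center M := by
          rw [← hq_eq, hqpow, hqh, ZMod.natCast_zmod_val, ← hact, hqh]
          exact Prod.ext (by simpa using hA) (by simp [ha])
        -- apply `f` to the commutator
        obtain ⟨κ, hκ⟩ := Subgroup.mem_zpowers_iff.1 (hT.comm g h)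
        have hconj : ∀ {s s' : M}, s⁻¹ * s' ∈ Subgroup.center M → ∀ t : M, ⁅s', t⁆ = ⁅s, t⁆ := by
          intro s s' hs t
          obtain ⟨d, hd, rfl⟩ : ∃ d ∈ Subgroup.center M, s' = s * d :=
            ⟨_, hs, (mul_inv_cancel_left _ _).symm⟩
          have e : d * t = t * d := (Subgroup.mem_center_iff.1 hd t).symm
          simp only [commutatorElement_def, mul_inv_rev, mul_assoc]
          rw [← mul_assoc d t, e, mul_assoc t, mul_inv_cancel_left]
        have hpowc : ∀ (n : ℕ) (s t : M), ⁅s ^ n, t⁆ = ⁅s, t⁆ ^ n := by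
          intro n s t
          induction n with
          | zero => simp
          | succ n ih =>
            have e : ⁅s ^ n, t⁆ ∈ Subgroup.center M := hcen _ _
            calc ⁅s ^ (n + 1), t⁆ = s * ⁅s ^ n, t⁆ * s⁻¹ * ⁅s, t⁆ := by
                  rw [pow_succ']; simp only [commutatorElement_def]; group
              _ = ⁅s, t⁆ ^ (n + 1) := by
                  rw [Subgroup.mem_center_iff.1 e s, mul_inv_cancel_right, ih, pow_succ]
        have e := congrArg f hκ
        rw [map_zpow, hfz, map_commutatorElement, hconj hfg, ← commutatorElement_inv,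
          hconj hfh, hpowc, ← inv_pow, commutatorElement_inv] at e
        have e2 : ⁅g ^ c⁻¹.val, h⁆ ^ a.val = (z ^ c.val) ^ κ := e.symm
        rw [hpowc, ← hκ, ← zpow_natCast, ← zpow_natCast, ← zpow_natCast, ← zpow_mul, ← zpow_mul,
          ← zpow_mul, zpow_eq_zpow_iff_modEq, orderOf_eq_prime hT.z_pow hT.z_ne,
          ← ZMod.intCast_eq_intCast_iff] at e2
        push_cast at e2
        rw [ZMod.natCast_zmod_val, ZMod.natCast_zmod_val, ZMod.natCast_zmod_val] at e2
        have hκ0 : (κ : ZMod p) ≠ 0 := fun h0 => hT.not_comm (by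
          obtain ⟨l, rfl⟩ := (ZMod.intCast_zmod_eq_zero_iff_dvd κ p).1 h0
          rw [← hκ, zpow_mul, zpow_natCast, hT.z_pow, one_zpow])
        field_simp at e2
        linear_combination e2
      · rw [← hqg, hact, (hq_eq (f g) (g ^ c⁻¹.val)).2 hfg, hqpow, hqg]
        simp
    · -- the two root elements
      let Q : MulAut M → Prop := fun α => α z = z ∧ π' (α w) = π' w
      have hQm : ∀ α β, Q α → Q β → Q (α * β) := by
        intro α β hα hβ
        refine ⟨by rw [MulAut.mul_apply, hβ.1, hα.1], ?_⟩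
        obtain ⟨i, hi⟩ := Subgroup.mem_zpowers_iff.1 (QuotientGroup.eq.1 hβ.2.symm)
        rw [MulAut.mul_apply, show β w = w * z ^ i by rw [hi, mul_inv_cancel_left], map_mul,
          map_mul, map_zpow, hα.1, map_zpow, hπ'z, one_zpow, mul_one, hα.2]
      have hQy : Q y := ⟨hT.y_z, by rw [hT.y_w, map_mul, map_pow, hπ'z, one_pow, mul_one]⟩
      have hfiz : ∀ e : ℤ, f⁻¹ (z ^ e) ∈ Subgroup.zpowers z := fun e => by
        have h1 : z = f⁻¹ z ^ c.val := by
          rw [← map_pow, ← hfz, MulAut.inv_def, MulEquiv.symm_apply_apply]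
        obtain ⟨d, hd⟩ : ∃ d : ℕ, (d : ZMod p) = c⁻¹ := ⟨_, ZMod.natCast_zmod_val _⟩
        have h2 : f⁻¹ z = z ^ d := by
          have hp' : (f⁻¹ z) ^ p = 1 := by rw [← map_pow, hT.z_pow, map_one]
          conv_rhs => rw [h1, ← pow_mul]
          conv_lhs => rw [← pow_one (f⁻¹ z)]
          exact pow_cast hp' (by push_cast; rw [ZMod.natCast_zmod_val, hd, mul_inv_cancel₀ hc])
        rw [map_zpow, h2]
        exact zpow_mem (pow_mem (Subgroup.mem_zpowers z) _) _
      have hQy' : Q (f * y * f⁻¹) := by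
        have hz' : y (f⁻¹ z) = f⁻¹ z := by
          obtain ⟨i, hi⟩ := Subgroup.mem_zpowers_iff.1 (zpow_one z ▸ hfiz 1)
          rw [← hi, map_zpow, hT.y_z]
        have hfw' : f⁻¹ w = w := by
          conv_lhs => rw [← hfw]
          rw [MulAut.inv_def, MulEquiv.symm_apply_apply]
        refine ⟨by rw [MulAut.mul_apply, MulAut.mul_apply, hz', MulAut.apply_inv_self], ?_⟩
        rw [MulAut.mul_apply, MulAut.mul_apply, hfw', hT.y_w, map_mul, map_pow, hfw, hfz, map_mul,
          map_pow, map_pow, hπ'z, one_pow, one_pow, mul_one]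
      have htf := hty.conj f
      obtain ⟨τ, hτ, hτ1, hτ2, -, -⟩ := pair_torus hty htf (z := (0, 1))
        (z' := act f (0, 1)) hA (fun h0 => hA (by
          have := (hsplit (act f⁻¹ (0, 1)))
          have h1 : (act f⁻¹ (0, 1)).1 = 0 := h0
          rw [h1, zero_smul, zero_add] at this
          have h2 := congrArg (act f) this
          rw [apply_inv, map_smul] at h2
          have h3 := congrArg Prod.fst h2
          simp only [Prod.smul_fst, smul_eq_mul] at h3
          have h4 := congrArg Prod.snd h2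
          simp only [Prod.smul_snd, smul_eq_mul] at h4
          exact (mul_eq_zero.1 h3.symm).resolve_left fun h5 => by
            rw [h5, zero_mul] at h4; exact one_ne_zero h4)) hc
      have hτK : τ ∈ K ∧ Q τ := by
        clear hτ1 hτ2
        induction hτ using Subgroup.closure_induction with
        | mem x hx =>
          rcases hx with rfl | rfl
          · exact ⟨hT.y_mem, hQy⟩
          · exact ⟨mul_mem (mul_mem hf hT.y_mem) (inv_mem hf), hQy'⟩
        | one => exact ⟨one_mem _, rfl, rfl⟩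
        | mul x y _ _ hx hy => exact ⟨mul_mem hx.1 hy.1, hQm _ _ hx.2 hy.2⟩
        | inv x _ hx =>
          refine ⟨inv_mem hx.1, ?_⟩
          have e : x⁻¹ = x ^ (orderOf x - 1) := by
            refine inv_eq_of_mul_eq_one_right ?_
            rw [← pow_succ', Nat.sub_add_cancel (orderOf_pos x), pow_orderOf_eq_one]
          rw [e]
          generalize orderOf x - 1 = n
          induction n with
          | zero => exact ⟨rfl, rfl⟩
          | succ n ih => rw [pow_succ]; exact hQm _ _ ih hx.2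
      refine ⟨τ, hτK.1, c, c⁻¹, 1, Or.inr ⟨rfl, rfl, rfl⟩, ?_, hτK.2.2, ?_, ?_⟩
      · rw [hτK.2.1, ZMod.val_one, pow_one]
      · rw [hτ1]; simp
      · set v := act f (0, 1) with hv
        have h1 := congrArg Prod.fst hτ2
        rw [hsplit v, map_add, map_smul, map_smul, hτ1] at h1
        simp only [Prod.fst_add, Prod.smul_fst, smul_eq_mul, mul_zero, add_zero, mul_one] at h1
        exact mul_left_cancel₀ hA (h1.trans (mul_comm _ _))
  have ha0 : a ≠ 0 := by rcases hab with ⟨rfl, -, -⟩ | ⟨rfl, -, -⟩ <;> simp [hc]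
  have hb0 : b ≠ 0 := by rcases hab with ⟨-, rfl, -⟩ | ⟨-, rfl, -⟩ <;> simp [hc]
  have hkh' : (h ^ a.val)⁻¹ * k h ∈ Subgroup.center M := by
    rw [← hq_eq, hqpow, hqh, ZMod.natCast_zmod_val, ← hact, hqh, hkh]; simp
  refine ⟨k, hk, a, b, ζ, hab, hkz, hkh', ⟨(act k (1, 0)).2.val, ?_⟩, ?_⟩
  · rw [← hq_eq, hqmul, hqpow, hqpow, hqg, hqh, ← hact, hqg, ZMod.natCast_zmod_val,
      ZMod.natCast_zmod_val]
    exact Prod.ext (by simp [hkg]) (by simp)
  -- the conjugate of `y`
  have hkinv : ∀ x, k (k⁻¹ x) = x := fun x => by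
    rw [MulAut.inv_def, MulEquiv.apply_symm_apply]
  have hkih : act k⁻¹ (0, 1) = (0, a⁻¹) := by
    have h1 : a • act k⁻¹ ((0, 1) : ZMod p × ZMod p) = (0, 1) := by
      rw [← map_smul, show a • ((0, 1) : ZMod p × ZMod p) = (0, a) by simp, ← hkh, inv_apply]
    have h2 := congrArg (fun v => a⁻¹ • v) h1
    simp only [smul_smul, inv_mul_cancel₀ ha0, one_smul] at h2
    rw [h2]; simp
  set k1 := k * y * k⁻¹ with hk1
  have hky : ∀ x, k1 x = k (y (k⁻¹ x)) := fun x => rfl
  have hk1g : act k1 (1, 0) = (1, a / b) := by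
    have h1 := hty.conj k
    rw [← hk1] at h1
    rw [h1.act]
    have hfst : φ (act k⁻¹ (1, 0)) = b⁻¹ := by
      set v := act k⁻¹ ((1, 0) : ZMod p × ZMod p) with hv
      have h2 := congrArg Prod.fst (apply_inv (ρ := act) k (1, 0))
      rw [← hv, hsplit v, map_add, map_smul, map_smul, hkh] at h2
      simp only [Prod.fst_add, Prod.smul_fst, smul_eq_mul, mul_zero, add_zero] at h2
      rw [hkg] at h2
      show v.1 = b⁻¹
      field_simp
      linear_combination h2
    rw [LinearMap.comp_apply, hfst, hkh]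
    simp [div_eq_mul_inv, mul_comm]
  have hk1h : act k1 (0, 1) = (0, 1) := by
    rw [hk1, mul_apply, mul_apply, hkih, show ((0, a⁻¹) : ZMod p × ZMod p) = a⁻¹ • (0, 1) by simp,
      map_smul, hyh, map_smul, hkh]
    simp [inv_mul_cancel₀ ha0]
  have hkiz : ∃ d : ℕ, k⁻¹ z = z ^ d ∧ (d : ZMod p) * ζ = 1 := by
    have hζ : ζ ≠ 0 := by rcases hab with ⟨-, -, rfl⟩ | ⟨-, -, rfl⟩ <;> simp [hc]
    refine ⟨ζ⁻¹.val, k.injective ?_, by rw [ZMod.natCast_zmod_val, inv_mul_cancel₀ hζ]⟩
    rw [hkinv, map_pow, hkz, ← pow_mul]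
    conv_lhs => rw [← pow_one z]
    exact pow_cast hT.z_pow (by push_cast; simp [mul_inv_cancel₀ hζ])
  obtain ⟨d, hd, hdζ⟩ := hkiz
  have hk1z : k1 z = z := by
    rw [hky, hd, map_pow, hT.y_z, ← hd, hkinv]
  obtain ⟨e, hkiw⟩ : ∃ e : ℤ, k⁻¹ w = w * z ^ e := by
    obtain ⟨i, hi⟩ := Subgroup.mem_zpowers_iff.1 (QuotientGroup.eq.1 hkw)
    obtain ⟨d', hd'⟩ : ∃ d' : ℤ, d' = (d : ℤ) * i := ⟨_, rfl⟩
    refine ⟨d', k.injective ?_⟩
    rw [hkinv, map_mul, map_zpow, hkz, hd', ← zpow_natCast z ζ.val, ← zpow_mul,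
      show k w = w * z ^ (-i) by rw [zpow_neg, hi, mul_inv_rev, inv_inv, mul_inv_cancel_left],
      mul_assoc, ← zpow_add]
    conv_lhs => rw [← mul_one w, ← zpow_zero z]
    congr 1
    rw [zpow_eq_zpow_iff_modEq, orderOf_eq_prime hT.z_pow hT.z_ne, ← ZMod.intCast_eq_intCast_iff]
    push_cast
    rw [ZMod.natCast_zmod_val]
    linear_combination -(i : ZMod p) * hdζ
  have hk1w : k1 w = w * z ^ (ζ.val * η) := by
    rw [hky, hkiw, map_mul, map_zpow, hT.y_z, hT.y_w, mul_assoc w,
      ((Commute.refl z).pow_left η |>.zpow_right e).eq, ← mul_assoc w, ← hkiw, map_mul, hkinv,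
      map_pow, hkz, pow_mul]
  obtain ⟨m, n, hmn⟩ := hT.induced k1 (mul_mem (mul_mem hk hT.y_mem) (inv_mem hk)) hk1z
    (by rw [hk1w, inv_mul_cancel_left]; exact pow_mem (Subgroup.mem_zpowers z) _)
    ((hq_eq _ _).1 (by rw [← hact, hqh, hk1h]))
    ⟨(a / b).val, (hq_eq _ _).1 (by
      rw [← hact, hqg, hk1g, hqmul, hqpow, hqg, hqh, ZMod.natCast_zmod_val]; simp)⟩
  have hm : (m : ZMod p) = a / b := by
    have h1 : act k1 (1, 0) = (1, (m : ZMod p)) := by
      rw [hmn, mul_apply, (hty.pow m).act]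
      have hcj : ∀ v, act (MulAut.conj n) v = v := fun v => by
        obtain ⟨s, rfl⟩ := hqsur v
        rw [hact, MulAut.conj_apply, hq_eq]
        have := hcen s⁻¹ n
        simpa [commutatorElement_def, mul_assoc] using this
      rw [hcj]
      simp [φ]
    rw [hk1g] at h1
    exact (congrArg Prod.snd h1).symm
  have hcjw : MulAut.conj n w = w := by
    rw [MulAut.conj_apply, Subgroup.mem_center_iff.1 hT.w_mem n, mul_inv_cancel_right]
  have hcjz : MulAut.conj n z = z := by
    rw [MulAut.conj_apply, Subgroup.mem_center_iff.1 hT.z_mem n, mul_inv_cancel_right]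
  constructor
  · -- on `h`
    by_contra hcon
    push Not at hcon
    obtain ⟨hu, hne⟩ := hcon
    set u := h⁻¹ * y h with hudef
    obtain ⟨i, j, huij⟩ := hT.center_gen u hT.y_h
    have hup : u ^ p = 1 := by
      rw [huij, Commute.mul_pow (Subgroup.mem_center_iff.1 (pow_mem hT.w_mem j) _), ← pow_mul,
        ← pow_mul, mul_comm i, mul_comm j, pow_mul, pow_mul, hT.z_pow, hT.w_pow]
      simp
    have hyc : ∀ x ∈ Subgroup.center M, π' (y x) = π' x ∧ π' (k x) = π' x := by
      intro x hx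
      obtain ⟨i, j, rfl⟩ := hT.center_gen x hx
      constructor
      · rw [map_mul y, map_pow y, map_pow y, hT.y_z, hT.y_w]
        simp only [map_mul, map_pow, hπ'z, one_pow, mul_one]
      · rw [map_mul k, map_pow k, map_pow k, hkz]
        simp only [map_mul, map_pow, hπ'z, one_pow, hkw]
    have hpiy : ∀ l : ℕ, π' ((y ^ l) h) = π' h * π' u ^ l := by
      intro l
      induction l with
      | zero => simp
      | succ l ih =>
        obtain ⟨v, hv⟩ : ∃ v, (y ^ l) h = h * v := ⟨h⁻¹ * (y ^ l) h, (mul_inv_cancel_left _ _).symm⟩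
        have hvc : v ∈ Subgroup.center M := by
          have h2 : q ((y ^ l) h) = q h := by
            rw [← hact, hqh, (hty.pow l).act]; simp [φ]
          rw [hv] at h2
          simpa using (hq_eq _ _).1 h2
        have h3 : π' v = π' u ^ l := by rwa [hv, map_mul, mul_right_inj] at ih
        rw [pow_succ', MulAut.mul_apply, hv, map_mul y, show y h = h * u from
          (mul_inv_cancel_left _ _).symm, map_mul, map_mul, (hyc v hvc).1, h3, mul_assoc,
          ← pow_succ']
    obtain ⟨ζ0, hζ0, hkih'⟩ : ∃ ζ0 ∈ Subgroup.center M, k⁻¹ h = h ^ a⁻¹.val * ζ0 := by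
      refine ⟨(h ^ a⁻¹.val)⁻¹ * k⁻¹ h, ?_, (mul_inv_cancel_left _ _).symm⟩
      rw [← hq_eq, hqpow, hqh, ZMod.natCast_zmod_val, ← hact, hqh, hkih]; simp
    have h4 : π' (k1 h) = π' h * π' u ^ a⁻¹.val := by
      obtain ⟨d0, hd0, hyd⟩ : ∃ d0 ∈ Subgroup.center M, y ζ0 = ζ0 * d0 ∧ π' d0 = 1 :=
        ⟨ζ0⁻¹ * y ζ0, mul_mem (inv_mem hζ0) ((Subgroup.characteristic_iff_le_comap.1
          (inferInstance : (Subgroup.center M).Characteristic) y) hζ0), (mul_inv_cancel_left _ _).symm,
          by rw [map_mul, map_inv, (hyc ζ0 hζ0).1, inv_mul_cancel]⟩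
      have hu' : u ∈ Subgroup.center M := hT.y_h
      rw [hky, hkih', map_mul y, map_pow y, show y h = h * u from
        (mul_inv_cancel_left _ _).symm, Commute.mul_pow (Subgroup.mem_center_iff.1 hu' h),
        hyd.1, mul_assoc, ← mul_assoc (u ^ a⁻¹.val), Subgroup.mem_center_iff.1 hζ0 (u ^ a⁻¹.val),
        ← mul_assoc, ← mul_assoc, ← hkih', mul_assoc, map_mul k, hkinv, map_mul,
        (hyc _ (mul_mem (pow_mem hu' _) hd0)).2, map_mul, hyd.2, mul_one, map_pow]
    have h5 : π' (k1 h) = π' h * π' u ^ m := by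
      rw [hmn, MulAut.mul_apply, MulAut.conj_apply, map_mul, map_mul, hπ'c n, mul_assoc,
        ← map_mul π' n, mul_inv_cancel, map_one, mul_one, hpiy]
    rw [h4, mul_right_inj] at h5
    have h6 := cast_of_pow (by rw [← map_pow, hup, map_one] : π' u ^ p = 1)
      (fun h0 => hu (hπ'1.1 h0)) h5
    rw [ZMod.natCast_zmod_val, hm] at h6
    refine hne ?_
    field_simp at h6
    linear_combination -h6
  · -- on `w`
    by_contra hcon
    push Not at hcon
    obtain ⟨hη, hne⟩ := hcon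
    have hyl : ∀ l : ℕ, (y ^ l) w = w * z ^ (l * η) := by
      intro l
      induction l with
      | zero => simp
      | succ l ih =>
        rw [pow_succ', MulAut.mul_apply, ih, map_mul, map_pow, hT.y_z, hT.y_w, mul_assoc,
          ← pow_add]
        ring_nf
    have h7 := hk1w
    rw [hmn, MulAut.mul_apply, hyl, map_mul, map_pow, hcjw, hcjz, mul_right_inj] at h7
    have h8 := cast_of_pow hT.z_pow hT.z_ne h7
    push_cast at h8
    rw [hm, ZMod.natCast_zmod_val] at h8
    have hη0 : (η : ZMod p) ≠ 0 := fun h0 => hη ((ZMod.natCast_eq_zero_iff _ _).1 h0)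
    refine hne ?_
    have h9 := mul_right_cancel₀ hη0 h8
    field_simp at h9
    linear_combination -h9

end Cfsg.Agent.PFiveTwist1
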