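import Mathlib
import Cfsg.Agent.Lib.PGroupsBasic
import Cfsg.Agent.Lib.PFiveTwist1

/-!
A group of order `p ^ 5` of class three: its automorphisms act on a distinguished element of the
Frattini quotient by a square.
-/

set_option autoImplicit false
set_option linter.unusedSectionVars false

namespace Cfsg.Agent.PFiveFix1

open scoped commutatorElement
open PFiveTwist1 (pow_cast cast_of_pow)

/-- The relations of the group. -/
structure Rel (p : ℕ) {X : Type*} [Group X] (y g h w z : X) (η κ : ℕ) : Prop where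
  card_center : Nat.card (Subgroup.center X) = p
  z_mem : z ∈ Subgroup.center X
  z_pow : z ^ p = 1
  z_ne : z ≠ 1
  conj_g : y * g * y⁻¹ = g * h
  yh : y * h = h * y
  yw : y * w * y⁻¹ = w * z ^ η
  η_ndvd : ¬ p ∣ η
  gw : g * w = w * g
  hw : h * w = w * h
  gh : ⁅g, h⁆ = z ^ κ
  κ_ndvd : ¬ p ∣ κ
  g_pow : g ^ p = 1
  w_pow : w ^ p = 1
  gen : ∀ x : X, ∃ i j l m n : ℕ, x = y ^ i * g ^ j * h ^ l * w ^ m * z ^ n
  y_pow : ∃ j l m n : ℕ, y ^ p = g ^ j * h ^ l * w ^ m * z ^ n
  h_pow : ∃ m n : ℕ, h ^ p = w ^ m * z ^ n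

variable {p : ℕ} [hp : Fact p.Prime] {X : Type*} [Group X] [Finite X] {y g h w z : X} {η κ : ℕ}

theorem fix (hr : Rel p y g h w z η κ) (hX : IsPGroup p X) (hp2 : p ≠ 2) :
    w ∉ frattini X ∧ Nat.card (frattini X) ≤ p ^ 2 ∧
      ∀ β : MulAut X, ∃ b : ℕ, ¬ p ∣ b ∧ (w ^ (b ^ 2))⁻¹ * β w ∈ frattini X := by
  classical
  have hzc : ∀ x, Commute x z := fun x => Subgroup.mem_center_iff.1 hr.z_mem x
  have hη0 : (η : ZMod p) ≠ 0 := fun h0 => hr.η_ndvd ((ZMod.natCast_eq_zero_iff _ _).1 h0)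
  have hκ0 : (κ : ZMod p) ≠ 0 := fun h0 => hr.κ_ndvd ((ZMod.natCast_eq_zero_iff _ _).1 h0)
  have hcu : ∀ {a b : X}, ∀ {e : ℕ}, ⁅a, b⁆ = z ^ e → ⁅a, b⁆ ∈ Subgroup.center X :=
    fun {a b e} he => he ▸ pow_mem hr.z_mem e
  -- basic commutators
  have cyw : ⁅y, w⁆ = z ^ η := by
    rw [commutatorElement_def, hr.yw, ((hzc w).pow_right η).eq, mul_inv_cancel_right]
  have cgh := hr.gh
  have c0 : ∀ {a b : X}, a * b = b * a → ⁅a, b⁆ = z ^ 0 := fun {a b} e => by
    rw [pow_zero, commutatorElement_eq_one_iff_mul_comm]; exact e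
  -- homomorphisms given by commutators with `w` and `h`
  have key : ∀ (t : X) (ay ag : ℕ), ⁅y, t⁆ = z ^ ay → ⁅g, t⁆ = z ^ ag → ⁅h, t⁆ ∈ Subgroup.zpowers z →
      ⁅w, t⁆ = 1 → (⁅h, t⁆ = 1) →
      ∀ i j l m n : ℕ, ⁅y ^ i * g ^ j * h ^ l * w ^ m * z ^ n, t⁆ = z ^ (ay * i + ag * j) := by
    intro t ay ag hy hg _ hw hh i j l m n
    have e1 : ⁅y ^ i, t⁆ = z ^ (ay * i) := by
      rw [PGroupsBasic.commutatorElement_pow_left (hcu hy), hy, pow_mul]
    have e2 : ⁅g ^ j, t⁆ = z ^ (ag * j) := by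
      rw [PGroupsBasic.commutatorElement_pow_left (hcu hg), hg, pow_mul]
    have e3 : ⁅h ^ l, t⁆ = 1 := commutatorElement_eq_one_iff_mul_comm.2
      ((Commute.pow_left (commutatorElement_eq_one_iff_mul_comm.1 hh) l).eq)
    have e4 : ⁅w ^ m, t⁆ = 1 := commutatorElement_eq_one_iff_mul_comm.2
      ((Commute.pow_left (commutatorElement_eq_one_iff_mul_comm.1 hw) m).eq)
    have e5 : ⁅z ^ n, t⁆ = 1 := commutatorElement_eq_one_iff_mul_comm.2
      (((hzc t).pow_right n).symm.eq)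
    have one : ∀ {a : X}, ⁅a, t⁆ = 1 → ⁅a, t⁆ ∈ Subgroup.center X := fun {a} e => e ▸ one_mem _
    rw [PGroupsBasic.commutatorElement_mul_left_of_central (one e5), e5, mul_one,
      PGroupsBasic.commutatorElement_mul_left_of_central (one e4), e4, mul_one,
      PGroupsBasic.commutatorElement_mul_left_of_central (one e3), e3, mul_one,
      PGroupsBasic.commutatorElement_mul_left_of_central (hcu e2), e1, e2, pow_add]
  have hwt : ∀ i j l m n : ℕ, ⁅y ^ i * g ^ j * h ^ l * w ^ m * z ^ n, w⁆ = z ^ (η * i) := by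
    intro i j l m n
    rw [key w η 0 cyw (c0 hr.gw) (by rw [c0 hr.hw, pow_zero]; exact one_mem _)
      (commutatorElement_self w) (by rw [c0 hr.hw, pow_zero]), zero_mul, add_zero]
  have hht : ∀ i j l m n : ℕ, ⁅y ^ i * g ^ j * h ^ l * w ^ m * z ^ n, h⁆ = z ^ (κ * j) := by
    intro i j l m n
    rw [key h 0 κ (c0 hr.yh) cgh (by rw [commutatorElement_self]; exact one_mem _)
      (by rw [c0 hr.hw.symm, pow_zero]) (commutatorElement_self h), zero_mul, zero_add]
  -- powers
  obtain ⟨m0, n0, hm0⟩ := hr.h_pow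
  have hm0d : (m0 : ZMod p) = 0 := by
    have h1 : ⁅y, h ^ p⁆ = 1 := commutatorElement_eq_one_iff_mul_comm.2
      ((Commute.pow_right hr.yh p).eq)
    have ez : ⁅y, z ^ n0⁆ = 1 := commutatorElement_eq_one_iff_mul_comm.2 ((hzc y).pow_right n0).eq
    rw [hm0, PGroupsBasic.commutatorElement_mul_right_of_central (ez ▸ one_mem _),
      PGroupsBasic.commutatorElement_pow_right (hcu cyw), cyw,
      show ⁅y, z ^ n0⁆ = 1 from commutatorElement_eq_one_iff_mul_comm.2 ((hzc y).pow_right n0).eq,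
      mul_one, ← pow_mul, ← pow_zero z] at h1
    have := cast_of_pow hr.z_pow hr.z_ne h1
    push_cast at this
    exact (mul_eq_zero.1 this).resolve_left hη0
  have hwm : ∀ {m : ℕ}, (m : ZMod p) = 0 → w ^ m = 1 := fun {m} hm => by
    rw [pow_cast hr.w_pow (show (m : ZMod p) = (0 : ℕ) by simpa using hm), pow_zero]
  set N := Subgroup.closure ({h, z} : Set X) with hN
  have hhN : h ∈ N := Subgroup.subset_closure (Set.mem_insert _ _)
  have hzN : z ∈ N := Subgroup.subset_closure (Set.mem_insert_of_mem _ rfl)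
  have hnormgen : ∀ x, x * h * x⁻¹ ∈ N ∧ x * z * x⁻¹ ∈ N := by
    intro x
    refine ⟨?_, by rw [(hzc x).eq, mul_inv_cancel_right]; exact hzN⟩
    obtain ⟨i, j, l, m, n, rfl⟩ := hr.gen x
    have e := hht i j l m n
    rw [commutatorElement_def, mul_inv_eq_iff_eq_mul] at e
    rw [e]
    exact mul_mem (pow_mem hzN _) hhN
  haveI hNn : N.Normal := by
    refine ⟨fun a ha x => ?_⟩
    have hle : N ≤ N.comap (MulAut.conj x).toMonoidHom := by
      rw [hN, Subgroup.closure_le]
      rintro a (rfl | rfl)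
      · exact (hnormgen x).1
      · exact (hnormgen x).2
    exact hle ha
  let π := QuotientGroup.mk' N
  have hπh : π h = 1 := (QuotientGroup.eq_one_iff h).2 hhN
  have hπz : π z = 1 := (QuotientGroup.eq_one_iff z).2 hzN
  have hπyg : Commute (π y) (π g) := by
    show π y * π g = π g * π y
    rw [← mul_inv_eq_iff_eq_mul, ← map_inv, ← map_mul, ← map_mul, hr.conj_g, map_mul, hπh, mul_one]
  have hπyw : Commute (π y) (π w) := by
    show π y * π w = π w * π y
    rw [← mul_inv_eq_iff_eq_mul, ← map_inv, ← map_mul, ← map_mul, hr.yw, map_mul, map_pow, hπz,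
      one_pow, mul_one]
  have hπgw : Commute (π g) (π w) := Commute.map (show Commute g w from hr.gw) π
  have hπgen : ∀ x, ∃ i j m : ℕ, π x = π y ^ i * π g ^ j * π w ^ m := fun x => by
    obtain ⟨i, j, l, m, n, rfl⟩ := hr.gen x
    exact ⟨i, j, m, by simp [map_mul, map_pow, hπh, hπz]⟩
  obtain ⟨jp, lp, mp, np, hyp⟩ := hr.y_pow
  have hjp : (jp : ZMod p) = 0 := by
    have e := hht 0 jp lp mp np
    rw [pow_zero, one_mul, ← hyp, commutatorElement_eq_one_iff_mul_comm.2
      (Commute.pow_left hr.yh p).eq, ← pow_zero z] at e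
    have := cast_of_pow hr.z_pow hr.z_ne e
    push_cast at this
    exact (mul_eq_zero.1 this.symm).resolve_left hκ0
  have hgj : g ^ jp = 1 := by
    rw [pow_cast hr.g_pow (show (jp : ZMod p) = (0 : ℕ) by simpa using hjp), pow_zero]
  have hmp : (mp : ZMod p) = 0 := by
    have e1 : ⁅y, y ^ p⁆ = 1 := commutatorElement_eq_one_iff_mul_comm.2 (Commute.self_pow y p).eq
    have eh : ⁅y, h ^ lp⁆ = 1 := commutatorElement_eq_one_iff_mul_comm.2
      (Commute.pow_right hr.yh lp).eq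
    have ew : ⁅y, w ^ mp⁆ = z ^ (η * mp) := by
      rw [PGroupsBasic.commutatorElement_pow_right (hcu cyw), cyw, pow_mul]
    have ez : ⁅y, z ^ np⁆ = 1 := commutatorElement_eq_one_iff_mul_comm.2 ((hzc y).pow_right np).eq
    rw [hyp, hgj, one_mul, PGroupsBasic.commutatorElement_mul_right_of_central (ez ▸ one_mem _),
      PGroupsBasic.commutatorElement_mul_right_of_central (hcu ew), eh, one_mul, ew, ez,
      mul_one, ← pow_zero z] at e1
    have := cast_of_pow hr.z_pow hr.z_ne e1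
    push_cast at this
    exact (mul_eq_zero.1 this).resolve_left hη0
  have hπyp : π y ^ p = 1 := by
    rw [← map_pow, hyp, hgj, hwm hmp]
    simp [hπh, hπz]
  have hfle : frattini X ≤ N := by
    refine PGroupsBasic.frattini_le_of_elementary_quotient (p := p) ?_ fun x => ?_
    · rw [commutator_def, Subgroup.commutator_le]
      intro a _ b _
      rw [← QuotientGroup.eq_one_iff, ← QuotientGroup.mk'_apply, map_commutatorElement,
        commutatorElement_eq_one_iff_mul_comm]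
      obtain ⟨i, j, m, ha⟩ := hπgen a
      obtain ⟨i', j', m', hb⟩ := hπgen b
      rw [ha, hb]
      refine Commute.eq ?_
      refine Commute.mul_left (Commute.mul_left ?_ ?_) ?_ <;>
        refine Commute.mul_right (Commute.mul_right ?_ ?_) ?_ <;>
        refine Commute.pow_pow ?_ _ _
      exacts [Commute.refl _, hπyg, hπyw, hπyg.symm, Commute.refl _, hπgw, hπyw.symm, hπgw.symm,
        Commute.refl _]
    · rw [← QuotientGroup.eq_one_iff, ← QuotientGroup.mk'_apply, map_pow]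
      obtain ⟨i, j, m, hx⟩ := hπgen x
      have hπgp : π g ^ p = 1 := by rw [← map_pow, hr.g_pow, map_one]
      have hπwp : π w ^ p = 1 := by rw [← map_pow, hr.w_pow, map_one]
      rw [hx, ((hπyw.pow_pow i m).mul_left (hπgw.pow_pow j m)).mul_pow,
        (hπyg.pow_pow i j).mul_pow, ← pow_mul, ← pow_mul, ← pow_mul, mul_comm i, mul_comm j,
        mul_comm m, pow_mul, pow_mul, pow_mul, hπyp, hπgp, hπwp]
      simp
  -- order of `N`
  have hhpz : h ^ p = z ^ n0 := by rw [hm0, hwm hm0d, one_mul]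
  have hNform : ∀ a ∈ N, ∃ l n : ℕ, a = h ^ l * z ^ n := by
    intro a ha
    induction ha using Subgroup.closure_induction with
    | mem x hx =>
      rcases hx with rfl | rfl
      · exact ⟨1, 0, by simp⟩
      · exact ⟨0, 1, by simp⟩
    | one => exact ⟨0, 0, by simp⟩
    | mul a b _ _ ha hb =>
      obtain ⟨l, n, rfl⟩ := ha
      obtain ⟨l', n', rfl⟩ := hb
      exact ⟨l + l', n + n', by
        rw [pow_add, pow_add, mul_assoc, ← mul_assoc (z ^ n),
          ← (((hzc h).pow_right n).pow_left l').eq]; group⟩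
    | inv a _ ha =>
      obtain ⟨l, n, rfl⟩ := ha
      obtain ⟨o, ho⟩ : ∃ o : ℕ, (h ^ l * z ^ n)⁻¹ = (h ^ l * z ^ n) ^ o :=
        ⟨orderOf (h ^ l * z ^ n) - 1, inv_eq_of_mul_eq_one_right (by
          rw [← pow_succ', Nat.sub_add_cancel (orderOf_pos _), pow_orderOf_eq_one])⟩
      exact ⟨l * o, n * o, by
        rw [ho, (((hzc h).pow_right n).pow_left l).mul_pow, ← pow_mul, ← pow_mul]⟩
  have hNcard : Nat.card N ≤ p ^ 2 := by
    let f : Fin p × Fin p → N := fun q => ⟨h ^ (q.1 : ℕ) * z ^ (q.2 : ℕ),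
      mul_mem (pow_mem hhN _) (pow_mem hzN _)⟩
    have hf : Function.Surjective f := by
      rintro ⟨a, ha⟩
      obtain ⟨l, n, rfl⟩ := hNform a ha
      refine ⟨(⟨l % p, Nat.mod_lt _ hp.out.pos⟩, ⟨(n0 * (l / p) + n) % p, Nat.mod_lt _ hp.out.pos⟩),
        Subtype.ext ?_⟩
      show h ^ (l % p) * z ^ ((n0 * (l / p) + n) % p) = h ^ l * z ^ n
      rw [← pow_eq_pow_mod _ hr.z_pow, pow_add, ← mul_assoc, pow_mul, ← hhpz, ← pow_mul, ← pow_add,
        Nat.mod_add_div]
    refine (Nat.card_le_card_of_surjective f hf).trans ?_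
    rw [Nat.card_prod, Nat.card_eq_fintype_card, Fintype.card_fin, sq]
  have hwN : w ∉ N := by
    intro hmem
    obtain ⟨l, n, hw'⟩ := hNform w hmem
    have e1 : ⁅y, h ^ l * z ^ n⁆ = 1 := commutatorElement_eq_one_iff_mul_comm.2
      ((Commute.pow_right hr.yh l).mul_right ((hzc y).pow_right n)).eq
    rw [← hw', cyw, ← pow_zero z] at e1
    have := cast_of_pow hr.z_pow hr.z_ne e1
    exact hη0 (by simpa using this)
  refine ⟨fun hw => hwN (hfle hw), (Subgroup.card_le_of_le hfle).trans hNcard, fun β => ?_⟩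
  -- automorphisms
  have hcomm : commutator X ≤ frattini X := PGroupsBasic.commutator_le_frattini hX
  have hhΦ : h ∈ frattini X := hcomm (by
    have e : h = ⁅g⁻¹, y⁆ := by
      rw [commutatorElement_def, inv_inv, ← mul_left_cancel_iff (a := g)]
      rw [← hr.conj_g]; group
    rw [e]; exact Subgroup.commutator_mem_commutator (Subgroup.mem_top _) (Subgroup.mem_top _))
  have hzΦ : z ∈ frattini X := hcomm (by
    obtain ⟨d, hd⟩ : ∃ d : ℕ, (d : ZMod p) = (κ : ZMod p)⁻¹ := ⟨_, ZMod.natCast_zmod_val _⟩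
    have e : z = (z ^ κ) ^ d := by
      rw [← pow_mul]
      conv_lhs => rw [← pow_one z]
      exact pow_cast hr.z_pow (by push_cast; rw [hd, mul_inv_cancel₀ hκ0])
    rw [e, ← hr.gh]
    exact pow_mem (Subgroup.commutator_mem_commutator (Subgroup.mem_top _) (Subgroup.mem_top _)) _)
  have hcz : Subgroup.center X = Subgroup.zpowers z := (Subgroup.eq_of_le_of_card_ge
    ((Subgroup.zpowers_le).2 hr.z_mem)
    (by rw [hr.card_center, Nat.card_zpowers, orderOf_eq_prime hr.z_pow hr.z_ne])).symm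
  obtain ⟨ζ, hζ⟩ : ∃ ζ : ℕ, β z = z ^ ζ := by
    have h1 : β z ∈ Subgroup.zpowers z := hcz ▸
      (Subgroup.characteristic_iff_le_comap.1 (inferInstance : (Subgroup.center X).Characteristic) β
        hr.z_mem)
    obtain ⟨m, hm⟩ := (isOfFinOrder_of_finite z).mem_powers_iff_mem_zpowers.2 h1
    exact ⟨m, hm.symm⟩
  have hζ0 : (ζ : ZMod p) ≠ 0 := fun h0 => hr.z_ne (β.injective (by
    rw [hζ, map_one, pow_cast hr.z_pow (show (ζ : ZMod p) = (0 : ℕ) by simpa using h0), pow_zero]))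
  -- modulo `z`
  haveI hzn : (Subgroup.zpowers z).Normal :=
    PGroupsBasic.normal_of_le_center ((Subgroup.zpowers_le).2 hr.z_mem)
  let π' := QuotientGroup.mk' (Subgroup.zpowers z)
  have hz' : π' z = 1 := (QuotientGroup.eq_one_iff z).2 (Subgroup.mem_zpowers z)
  have hcent' : ∀ t : X, (∀ s : X, ⁅s, t⁆ ∈ Subgroup.zpowers z) → ∀ q, Commute q (π' t) := by
    intro t ht q
    obtain ⟨s, rfl⟩ := QuotientGroup.mk'_surjective (Subgroup.zpowers z) q
    refine commutatorElement_eq_one_iff_mul_comm.1 ?_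
    rw [← map_commutatorElement]
    exact (QuotientGroup.eq_one_iff _).2 (ht s)
  have hw' : ∀ s : X, ⁅s, w⁆ ∈ Subgroup.zpowers z := fun s => by
    obtain ⟨i, j, l, m, n, rfl⟩ := hr.gen s
    rw [hwt]; exact pow_mem (Subgroup.mem_zpowers z) _
  have hh' : ∀ s : X, ⁅s, h⁆ ∈ Subgroup.zpowers z := fun s => by
    obtain ⟨i, j, l, m, n, rfl⟩ := hr.gen s
    rw [hht]; exact pow_mem (Subgroup.mem_zpowers z) _
  have hHc := hcent' h hh'
  have hWc := hcent' w hw'
  have hYG : π' y * π' g = π' g * π' h * π' y := by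
    rw [← map_mul, ← map_mul, ← map_mul, ← hr.conj_g, inv_mul_cancel_right]
  have hpow : ∀ k : ℕ, π' y ^ k * π' g = π' g * π' h ^ k * π' y ^ k := by
    intro k
    induction k with
    | zero => simp
    | succ k ih =>
      calc π' y ^ (k + 1) * π' g = π' y * (π' y ^ k * π' g) := by rw [pow_succ', mul_assoc]
        _ = π' y * π' g * π' h ^ k * π' y ^ k := by rw [ih]; simp only [mul_assoc]
        _ = π' g * π' h * (π' y * π' h ^ k) * π' y ^ k := by rw [hYG]; simp only [mul_assoc]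
        _ = π' g * π' h * (π' h ^ k * π' y) * π' y ^ k := by rw [((hHc (π' y)).pow_right k).eq]
        _ = π' g * π' h ^ (k + 1) * π' y ^ (k + 1) := by
              rw [pow_succ' (π' h), pow_succ' (π' y)]; simp only [mul_assoc]
  have hπcoord : ∀ i j l m n : ℕ, π' (y ^ i * g ^ j * h ^ l * w ^ m * z ^ n) =
      π' y ^ i * π' g ^ j * (π' h ^ l * π' w ^ m) := fun i j l m n => by
    simp [map_mul, map_pow, hz', mul_assoc]
  have hgH : ∀ {e : ℕ}, π' h ^ e = 1 → (e : ZMod p) = 0 := by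
    intro e he
    rw [← map_pow] at he
    obtain ⟨d, hd⟩ := Subgroup.mem_zpowers_iff.1 ((QuotientGroup.eq_one_iff _).1 he)
    have e6 : ⁅g, h ^ e⁆ = z ^ (κ * e) := by
      rw [PGroupsBasic.commutatorElement_pow_right (hcu hr.gh), hr.gh, pow_mul]
    rw [← hd, show ⁅g, z ^ d⁆ = 1 from commutatorElement_eq_one_iff_mul_comm.2
      ((hzc g).zpow_right d).eq, ← pow_zero z] at e6
    have := cast_of_pow hr.z_pow hr.z_ne e6
    push_cast at this
    exact (mul_eq_zero.1 this.symm).resolve_left hκ0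
  have hHeq : ∀ {e e' : ℕ}, π' h ^ e = π' h ^ e' → (e : ZMod p) = e' := by
    intro e e' he
    obtain ⟨d, hd⟩ : ∃ d : ℕ, (d : ZMod p) = -(e' : ZMod p) := ⟨_, ZMod.natCast_zmod_val _⟩
    have hHp : π' h ^ p = 1 := by rw [← map_pow, hhpz, map_pow, hz', one_pow]
    have h2 : π' h ^ (e + d) = 1 := by
      rw [pow_add, he, ← pow_add, pow_cast hHp (show ((e' + d : ℕ) : ZMod p) = (0 : ℕ) by
        push_cast; rw [hd]; ring), pow_zero]
    have := hgH h2
    push_cast at this
    rw [hd] at this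
    linear_combination this
  -- the second centre
  have hU : ∀ x : X, (∀ s : X, ⁅x, s⁆ ∈ Subgroup.zpowers z) → ∀ i j l m n : ℕ,
      x = y ^ i * g ^ j * h ^ l * w ^ m * z ^ n → (i : ZMod p) = 0 ∧ (j : ZMod p) = 0 := by
    intro x hx i j l m n hxe
    have hh1 : ∀ s, ⁅x, s⁆ ∈ Subgroup.center X := fun s => hcz ▸ hx s
    let δ : X →* Subgroup.center X := MonoidHom.mk' (fun s => ⟨⁅x, s⁆, hh1 s⟩) fun s t =>
      Subtype.ext (PGroupsBasic.commutatorElement_mul_right_of_central (hh1 t))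
    have hxh : ⁅x, h⁆ = 1 := by
      rw [show h = ⁅g⁻¹, y⁆ by
        rw [commutatorElement_def, inv_inv, ← mul_left_cancel_iff (a := g), ← hr.conj_g]; group]
      have h2 : δ ⁅g⁻¹, y⁆ = 1 := by
        rw [map_commutatorElement, commutatorElement_eq_one_iff_mul_comm]
        exact Subtype.ext (Subgroup.mem_center_iff.1 (δ y).2 _)
      exact congrArg Subtype.val h2
    have hj : (j : ZMod p) = 0 := by
      rw [hxe, hht, ← pow_zero z] at hxh
      have := cast_of_pow hr.z_pow hr.z_ne hxh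
      push_cast at this
      exact (mul_eq_zero.1 this).resolve_left hκ0
    refine ⟨hgH ?_, hj⟩
    have hgj : π' g ^ j = 1 := by
      rw [← map_pow, pow_cast hr.g_pow (show (j : ZMod p) = (0 : ℕ) by simpa using hj), pow_zero,
        map_one]
    have e1 : π' x * π' g = π' g * π' x := by
      rw [← commutatorElement_eq_one_iff_mul_comm, ← map_commutatorElement]
      exact (QuotientGroup.eq_one_iff _).2 (hx g)
    have e4 : Commute (π' g) (π' h ^ l * π' w ^ m) :=
      ((hHc _).pow_right l).mul_right ((hWc _).pow_right m)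
    rw [hxe, hπcoord, hgj, mul_one, mul_assoc, ← e4.eq, ← mul_assoc, ← mul_assoc (π' g),
      mul_left_inj, hpow, mul_left_inj, mul_eq_left] at e1
    exact e1
  have hwU : ∀ s : X, ⁅w, s⁆ ∈ Subgroup.zpowers z := fun s => by
    rw [← commutatorElement_inv]; exact inv_mem (hw' s)
  have hUβ : ∀ s : X, ⁅β w, s⁆ ∈ Subgroup.zpowers z := by
    intro s
    have := Subgroup.characteristic_iff_le_comap.1 (inferInstance : (Subgroup.center X).Characteristic)
      β (hcz.ge (hwU (β⁻¹ s)))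
    rw [Subgroup.mem_comap, MulEquiv.coe_toMonoidHom, map_commutatorElement,
      MulAut.apply_inv_self] at this
    exact hcz.le this
  obtain ⟨a', b', l1, m1, n1, hy1⟩ := hr.gen (β y)
  obtain ⟨a, b, l2, m2, n2, hg1⟩ := hr.gen (β g)
  obtain ⟨i4, j4, l4, μ, n4, hw1⟩ := hr.gen (β w)
  obtain ⟨ν, e3, hh1⟩ : ∃ ν e3 : ℕ, β h = h ^ ν * z ^ e3 := hNform _ (hfle ((Subgroup.characteristic_iff_le_comap.1
    (inferInstance : (frattini X).Characteristic) β) hhΦ))
  obtain ⟨hi4, hj4⟩ := hU _ hUβ i4 j4 l4 μ n4 hw1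
  -- commutators with `β h`
  have hδh : ∀ i j l m n : ℕ, ⁅y ^ i * g ^ j * h ^ l * w ^ m * z ^ n, β h⁆ = z ^ (κ * j * ν) := by
    intro i j l m n
    rw [show β h = _ from hh1, PGroupsBasic.commutatorElement_mul_right_of_central
      (by rw [commutatorElement_eq_one_iff_mul_comm.2 ((hzc _).pow_right e3).eq]; exact one_mem _),
      commutatorElement_eq_one_iff_mul_comm.2 ((hzc _).pow_right e3).eq, mul_one,
      PGroupsBasic.commutatorElement_pow_right (hcu (hht i j l m n)), hht, ← pow_mul]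
  have hcast : ∀ {e e' : ℕ}, z ^ e = z ^ e' → (e : ZMod p) = e' := fun he =>
    cast_of_pow hr.z_pow hr.z_ne he
  have hgh' : (ζ : ZMod p) = (b : ZMod p) * ν := by
    have e := congrArg β hr.gh
    rw [map_commutatorElement, map_pow, hζ, hg1, hδh, ← pow_mul] at e
    have := hcast e
    push_cast at this
    exact mul_left_cancel₀ hκ0 (by linear_combination -this)
  have hν0 : (ν : ZMod p) ≠ 0 := fun h0 => hζ0 (by rw [hgh', h0, mul_zero])
  have hb' : (b' : ZMod p) = 0 := by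
    have e := congrArg β (commutatorElement_eq_one_iff_mul_comm.2 hr.yh)
    rw [map_one, map_commutatorElement, hy1, hδh, ← pow_zero z] at e
    have := hcast e
    push_cast at this
    exact (mul_eq_zero.1 ((mul_eq_zero.1 this).resolve_right hν0)).resolve_left hκ0
  have hgb' : g ^ b' = 1 := by
    rw [pow_cast hr.g_pow (show (b' : ZMod p) = (0 : ℕ) by simpa using hb'), pow_zero]
  have hν : (ν : ZMod p) = (a' : ZMod p) * b := by
    have e := congrArg (fun t => π' (β t)) (mul_inv_eq_iff_eq_mul.1 hr.conj_g)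
    simp only [map_mul, hh1, hy1, hg1, hπcoord, map_pow, hz', one_pow, mul_one] at e
    rw [← map_pow π' g b', hgb', map_one, mul_one] at e
    set Y := π' y
    set G := π' g
    set H := π' h
    set W := π' w
    have hc1 : ∀ q, Commute q (H ^ l1 * W ^ m1) := fun q =>
      ((hHc q).pow_right l1).mul_right ((hWc q).pow_right m1)
    have hc2 : ∀ q, Commute q (H ^ l2 * W ^ m2) := fun q =>
      ((hHc q).pow_right l2).mul_right ((hWc q).pow_right m2)
    have hYG' : ∀ k : ℕ, Y ^ a' * G ^ k = G ^ k * H ^ (a' * k) * Y ^ a' := by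
      intro k
      induction k with
      | zero => simp
      | succ k ih =>
        calc Y ^ a' * G ^ (k + 1) = Y ^ a' * G ^ k * G := by rw [pow_succ, mul_assoc]
          _ = G ^ k * H ^ (a' * k) * (Y ^ a' * G) := by rw [ih]; simp only [mul_assoc]
          _ = G ^ k * (H ^ (a' * k) * G) * H ^ a' * Y ^ a' := by
                rw [hpow a']; simp only [mul_assoc]
          _ = G ^ k * (G * H ^ (a' * k)) * H ^ a' * Y ^ a' := by
                rw [((hHc G).pow_right _).symm.eq]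
          _ = G ^ (k + 1) * H ^ (a' * (k + 1)) * Y ^ a' := by
                rw [pow_succ G, Nat.mul_succ, pow_add]; simp only [mul_assoc]
    rw [← Nat.cast_mul]
    refine hHeq (mul_left_cancel (a := Y ^ a * G ^ b * Y ^ a' * (H ^ l1 * W ^ m1) *
      (H ^ l2 * W ^ m2)) ?_)
    have el : Y ^ a' * (H ^ l1 * W ^ m1) * (Y ^ a * G ^ b * (H ^ l2 * W ^ m2)) =
        Y ^ a * G ^ b * H ^ (a' * b) * Y ^ a' * (H ^ l1 * W ^ m1) * (H ^ l2 * W ^ m2) := by
      calc Y ^ a' * (H ^ l1 * W ^ m1) * (Y ^ a * G ^ b * (H ^ l2 * W ^ m2))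
          = Y ^ a' * ((H ^ l1 * W ^ m1) * (Y ^ a * G ^ b)) * (H ^ l2 * W ^ m2) := by
            simp only [mul_assoc]
        _ = (Y ^ a' * Y ^ a) * G ^ b * (H ^ l1 * W ^ m1) * (H ^ l2 * W ^ m2) := by
            rw [(hc1 (Y ^ a * G ^ b)).symm.eq]; simp only [mul_assoc]
        _ = Y ^ a * (Y ^ a' * G ^ b) * (H ^ l1 * W ^ m1) * (H ^ l2 * W ^ m2) := by
            rw [((Commute.refl Y).pow_pow a' a).eq]; simp only [mul_assoc]
        _ = _ := by rw [hYG' b]; simp only [mul_assoc]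
    have hc3 : ∀ q, Commute q (H ^ ν) := fun q => (hHc q).pow_right ν
    have hc4 : ∀ q, Commute q (H ^ (a' * b)) := fun q => (hHc q).pow_right _
    have er : Y ^ a * G ^ b * (H ^ l2 * W ^ m2) * H ^ ν * (Y ^ a' * (H ^ l1 * W ^ m1)) =
        Y ^ a * G ^ b * Y ^ a' * (H ^ l1 * W ^ m1) * (H ^ l2 * W ^ m2) * H ^ ν := by
      calc Y ^ a * G ^ b * (H ^ l2 * W ^ m2) * H ^ ν * (Y ^ a' * (H ^ l1 * W ^ m1))
          = Y ^ a * G ^ b * ((H ^ l2 * W ^ m2 * H ^ ν) * (Y ^ a' * (H ^ l1 * W ^ m1))) := by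
            simp only [mul_assoc]
        _ = Y ^ a * G ^ b * ((Y ^ a' * (H ^ l1 * W ^ m1)) * (H ^ l2 * W ^ m2 * H ^ ν)) := by
            rw [((hc2 _).mul_right (hc3 _)).eq]
        _ = _ := by simp only [mul_assoc]
    rw [el] at e
    rw [← er, ← e]
    calc Y ^ a * G ^ b * H ^ (a' * b) * Y ^ a' * (H ^ l1 * W ^ m1) * (H ^ l2 * W ^ m2)
        = Y ^ a * G ^ b * (H ^ (a' * b) * (Y ^ a' * (H ^ l1 * W ^ m1) * (H ^ l2 * W ^ m2))) := by
          simp only [mul_assoc]
      _ = Y ^ a * G ^ b * ((Y ^ a' * (H ^ l1 * W ^ m1) * (H ^ l2 * W ^ m2)) * H ^ (a' * b)) := by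
          rw [(hc4 _).symm.eq]
      _ = _ := by simp only [mul_assoc]
  have hμ : (ζ : ZMod p) = (a' : ZMod p) * μ := by
    have e := congrArg β cyw
    rw [map_commutatorElement, map_pow, hζ, ← pow_mul] at e
    have hgj4 : g ^ j4 = 1 := by
      rw [pow_cast hr.g_pow (show (j4 : ZMod p) = (0 : ℕ) by simpa using hj4), pow_zero]
    have hcU : ∀ s, ⁅s, β w⁆ ∈ Subgroup.center X := fun s => by
      rw [← commutatorElement_inv]; exact inv_mem (hcz.ge (hUβ s))
    let δ : X →* Subgroup.center X := MonoidHom.mk' (fun s => ⟨⁅s, β w⁆, hcU s⟩) fun s t =>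
      Subtype.ext (PGroupsBasic.commutatorElement_mul_left_of_central (hcU t))
    have hδval : ∀ s, ((δ s : Subgroup.center X) : X) = ⁅s, β w⁆ := fun s => rfl
    -- `β w` differs from `w ^ μ` by an element of `N`
    obtain ⟨l, n, hl⟩ : ∃ l n : ℕ, β w = h ^ l * z ^ n * w ^ μ := by
      have hmem : β w * (w ^ μ)⁻¹ ∈ N := by
        rw [← QuotientGroup.eq_one_iff]
        show π (β w * (w ^ μ)⁻¹) = 1
        rw [map_mul, map_inv, map_pow, mul_inv_eq_one, hw1]
        simp only [map_mul, map_pow, hπh, hπz, one_pow, mul_one]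
        rw [pow_cast hπyp (show (i4 : ZMod p) = (0 : ℕ) by simpa using hi4), pow_zero,
          ← map_pow π g, hgj4, map_one, one_mul, one_mul]
      obtain ⟨l, n, hln⟩ := hNform _ hmem
      exact ⟨l, n, by rw [← hln, inv_mul_cancel_right]⟩
    rw [hy1, hl] at e
    have hz1 : ⁅y ^ a' * g ^ b' * h ^ l1 * w ^ m1 * z ^ n1, z ^ n⁆ = 1 :=
      commutatorElement_eq_one_iff_mul_comm.2 ((hzc _).pow_right n).eq
    have hw2 := hwt a' b' l1 m1 n1
    have hh2 := hht a' b' l1 m1 n1
    have hwc : ⁅y ^ a' * g ^ b' * h ^ l1 * w ^ m1 * z ^ n1, w ^ μ⁆ = z ^ (η * a' * μ) := by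
      rw [PGroupsBasic.commutatorElement_pow_right (hcu hw2), hw2, ← pow_mul]
    have hhc : ⁅y ^ a' * g ^ b' * h ^ l1 * w ^ m1 * z ^ n1, h ^ l⁆ = z ^ (κ * b' * l) := by
      rw [PGroupsBasic.commutatorElement_pow_right (hcu hh2), hh2, ← pow_mul]
    rw [PGroupsBasic.commutatorElement_mul_right_of_central (hcu hwc),
      PGroupsBasic.commutatorElement_mul_right_of_central (hz1 ▸ one_mem _), hz1, mul_one,
      hwc, hhc, ← pow_add] at e
    have := hcast e
    push_cast at this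
    rw [hb', mul_zero, zero_mul, zero_add] at this
    exact mul_left_cancel₀ hη0 (by linear_combination -this)
  refine ⟨b, fun hd => hζ0 ?_, ?_⟩
  · rw [hgh', (ZMod.natCast_eq_zero_iff b p).2 hd, zero_mul]
  have ha' : (a' : ZMod p) ≠ 0 := fun h0 => hζ0 (by rw [hμ, h0, zero_mul])
  have hμb : ((b ^ 2 : ℕ) : ZMod p) = μ := by
    push_cast
    refine mul_left_cancel₀ ha' ?_
    rw [← hμ, hgh', hν]
    ring
  rw [pow_cast hr.w_pow hμb]
  have hyΦ : ∀ {i : ℕ}, (i : ZMod p) = 0 → y ^ i ∈ frattini X := fun {i} hi => by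
    obtain ⟨q, rfl⟩ := (ZMod.natCast_eq_zero_iff i p).1 hi
    rw [pow_mul]; exact pow_mem (PGroupsBasic.pow_mem_frattini hX y) q
  rw [← QuotientGroup.eq_one_iff, ← QuotientGroup.mk'_apply, map_mul, map_inv, map_pow,
    inv_mul_eq_one, hw1]
  simp only [map_mul, map_pow]
  have f1 : QuotientGroup.mk' (frattini X) y ^ i4 = 1 := by
    rw [← map_pow]; exact (QuotientGroup.eq_one_iff _).2 (hyΦ hi4)
  have f2 : QuotientGroup.mk' (frattini X) g ^ j4 = 1 := by
    rw [← map_pow, pow_cast hr.g_pow (show (j4 : ZMod p) = (0 : ℕ) by simpa using hj4), pow_zero,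
      map_one]
  rw [f1, f2, show QuotientGroup.mk' (frattini X) h = 1 from (QuotientGroup.eq_one_iff h).2 hhΦ,
    show QuotientGroup.mk' (frattini X) z = 1 from (QuotientGroup.eq_one_iff z).2 hzΦ]
  simp

end Cfsg.Agent.PFiveFix1
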