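import Mathlib
import Cfsg.Prelude.Def_FusionSystem
import Cfsg.Agent.Lib.FusionFlag94
import Cfsg.Agent.Lib.MaxClassEssDeep1

/-!
The action of the outer automorphism group of an essential subgroup on its Frattini quotient, and
automorphisms stabilizing a flag.
-/

set_option autoImplicit false
set_option linter.unusedSectionVars false

namespace Cfsg.Agent.PFiveKit1

open scoped commutatorElement
open Cfsg Cfsg.FusionSystem Cfsg.Agent.FusionSysBasic Cfsg.Agent.FusionSysSaturated
  Cfsg.Agent.FusionSysNormal Cfsg.Agent.FusionSysChain Cfsg.Agent.FusionSysAlperin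

universe u

variable {Ω : Type u} [Group Ω] {S : Subgroup Ω} {p : ℕ} {F : FusionSystem S}

/-- `Inn(E)` inside `Aut_F(E)`. -/
abbrev innIn (F : FusionSystem S) (E : Subgroup Ω) : Subgroup ↥(F.autGroup E) :=
  (Inn E).subgroupOf (F.autGroup E)

instance innIn_normal (F : FusionSystem S) (E : Subgroup Ω) : (innIn F E).Normal :=
  inn_normal F E

/-- The outer automorphism group of `E` in the system. -/
abbrev Out (F : FusionSystem S) (E : Subgroup Ω) : Type _ := ↥(F.autGroup E) ⧸ innIn F E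

/-- The automorphism induced by an element of the normalizer. -/
def conjAut (F : FusionSystem S) {E : Subgroup Ω} (hES : E ≤ S) :
    ↥(S ⊓ Subgroup.normalizer (E : Set Ω)) →* ↥(F.autGroup E) :=
  (nHom S E).codRestrict _ fun g =>
    autInducedBy_le hES ((autInducedBy_eq_range S E).ge ⟨g, rfl⟩)

theorem afun_conjAut {E : Subgroup Ω} (hES : E ≤ S) (g : ↥(S ⊓ Subgroup.normalizer (E : Set Ω)))
    {x : Ω} (hx : x ∈ E) : afun (conjAut F hES g : MulAut E) x = cj (g : Ω) x :=
  afun_nHom g hx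

theorem conjAut_apply {E : Subgroup Ω} (hES : E ≤ S) (g : ↥(S ⊓ Subgroup.normalizer (E : Set Ω)))
    (a : E) : (((conjAut F hES g : MulAut E) a : E) : Ω) = cj (g : Ω) (a : Ω) := by
  rw [← afun_coe, afun_conjAut hES g a.2]

variable [Finite S] [hp : Fact p.Prime]

/-- Automorphisms stabilizing a flag with steps of order `p` above `⊥`, normal in `N_S(P)`, are
induced by `S`. -/
theorem mem_autInducedBy_of_flag (hS : IsPGroup p S) (hF : F.IsSaturated p) {P : Subgroup Ω}
    (hP : F.IsFullyNormalized P) {n : ℕ} (Y : ℕ → Subgroup Ω) (h0 : Y 0 = ⊥) (hn : Y n = P)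
    (hmono : ∀ i < n, Y i ≤ Y (i + 1)) (hYP : ∀ i ≤ n, Y i ≤ P)
    (hstep : ∀ i < n, Nat.card (Y (i + 1)) = Nat.card (Y i) * p)
    (hnorm : ∀ g ∈ normalizerIn S P, ∀ i ≤ n, ∀ y ∈ Y i, cj g y ∈ Y i)
    {β : MulAut P} (hβ : β ∈ F.autGroup P) (hinvβ : ∀ i ≤ n, ∀ y ∈ Y i, afun β y ∈ Y i)
    (hstab : ∀ i < n, ∀ y ∈ Y (i + 1), y⁻¹ * afun β y ∈ Y i) :
    β ∈ autInducedBy S P := by
  have hPS := hP.1
  haveI := finite_of_le hPS
  haveI := finite_autGroup (F := F) P
  let Q : MulAut P → Prop := fun a => ∀ i ≤ n, ∀ y ∈ Y i, afun a y ∈ Y i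
  have hQ1 : Q 1 := fun i hi y hy => by rw [afun_one (hYP i hi hy)]; exact hy
  have hQm : ∀ a b, Q a → Q b → Q (a * b) := fun a b ha hb i hi y hy => by
    rw [afun_mul _ _ (hYP i hi hy)]; exact ha i hi _ (hb i hi y hy)
  let A : Subgroup (MulAut P) :=
    { carrier := {a | a ∈ F.autGroup P ∧ Q a}
      one_mem' := ⟨one_mem _, hQ1⟩
      mul_mem' := fun ha hb => ⟨mul_mem ha.1 hb.1, hQm _ _ ha.2 hb.2⟩
      inv_mem' := fun {a} ha => by
        have hpow : ∀ m : ℕ, Q (a ^ m) := fun m => by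
          induction m with
          | zero => simpa using hQ1
          | succ m ih => rw [pow_succ]; exact hQm _ _ ih ha.2
        refine ⟨inv_mem ha.1, ?_⟩
        have e : a⁻¹ = a ^ (orderOf a - 1) := by
          refine inv_eq_of_mul_eq_one_right ?_
          rw [← pow_succ', Nat.sub_add_cancel (orderOf_pos a), pow_orderOf_eq_one]
        rw [e]
        exact hpow _ }
  let M := stabGroup A Y n hYP (fun α hα => hα.2)
  let N := normalizerIn S P
  have hPN : P ≤ N := le_normalizerIn hPS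
  haveI := finite_normalizerIn (S := S) P
  have hn' : ∀ i ≤ n, ((Y i).subgroupOf N).Normal := fun i hi =>
    ⟨fun m hm x => hnorm x x.2 i hi _ hm⟩
  have hTM : autInducedBy S P ≤ M := by
    intro α hα
    obtain ⟨g, hg, hgn, he⟩ := mem_autInducedBy.mp hα
    have hgN : g ∈ N := ⟨hg, hgn⟩
    refine ⟨⟨autInducedBy_le hPS hα, fun i hi y hy => ?_⟩, fun i hi y hy => ?_⟩
    · rw [he y (hYP i hi hy)]; exact hnorm g hgN i hi y hy
    · rw [he y (hYP _ hi hy)]
      haveI := hn' i hi.le
      haveI := hn' (i + 1) hi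
      have hy' : (⟨y, hPN (hYP _ hi hy)⟩ : N) ∈ (Y (i + 1)).subgroupOf N := hy
      have := PGroupsCritical.commutator_mem_of_succ (p := p) (G := N)
        (hS.to_le (inf_le_left : N ≤ S))
        (A := (Y i).subgroupOf N) (B := (Y (i + 1)).subgroupOf N) (fun z hz => hmono i hi hz)
        (by rw [Nat.card_congr (Subgroup.subgroupOfEquivOfLe ((hYP _ hi).trans hPN)).toEquiv,
          Nat.card_congr (Subgroup.subgroupOfEquivOfLe ((hYP i hi.le).trans hPN)).toEquiv,
          hstep i hi])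
        (inv_mem hy') (⟨g, hgN⟩ : N)
      have h2 : ⁅g, y⁻¹⁆ ∈ Y i := this
      rw [cj_div_eq]
      exact inv_mem h2
  have hMle : M ≤ F.autGroup P := fun m hm => hm.1.1
  have hMp : IsPGroup p M := isPGroup_stabGroup hS hPS h0 hn hmono
  obtain ⟨-, T, hT⟩ := fullyAutomized_of_fullyNormalized hS hF hP
  have hle : (T : Subgroup ↥(F.autGroup P)) ≤ M.subgroupOf (F.autGroup P) := by
    rw [hT]; exact fun a ha => hTM ha
  have heq := T.3 (hMp.of_equiv (Subgroup.subgroupOfEquivOfLe hMle).symm) hle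
  have h3 : (⟨β, hβ⟩ : ↥(F.autGroup P)) ∈ (T : Subgroup ↥(F.autGroup P)) :=
    heq.le (show β ∈ M from ⟨⟨hβ, hinvβ⟩, hstab⟩)
  rwa [hT, Subgroup.mem_subgroupOf] at h3

/-- An automorphism preserving such a flag extends to the normalizer. -/
theorem extend_of_flag (hS : IsPGroup p S) (hF : F.IsSaturated p) {P : Subgroup Ω}
    (hP : F.IsFullyNormalized P) {n : ℕ} (Y : ℕ → Subgroup Ω) (h0 : Y 0 = ⊥) (hn : Y n = P)
    (hmono : ∀ i < n, Y i ≤ Y (i + 1)) (hYP : ∀ i ≤ n, Y i ≤ P)
    (hstep : ∀ i < n, Nat.card (Y (i + 1)) = Nat.card (Y i) * p)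
    (hnorm : ∀ g ∈ normalizerIn S P, ∀ i ≤ n, ∀ y ∈ Y i, cj g y ∈ Y i)
    {α : MulAut P} (hα : α ∈ F.autGroup P) (hinvα : ∀ i ≤ n, ∀ y ∈ Y i, afun α y ∈ Y i) :
    ∃ f, Mor F (normalizerIn S P) f ∧ (∀ x ∈ normalizerIn S P, f x ∈ normalizerIn S P) ∧
      ∀ x ∈ P, f x = afun α x := by
  have hPS := hP.1
  haveI := finite_of_le hPS
  haveI := finite_autGroup (F := F) P
  have hinv' : ∀ i ≤ n, ∀ y ∈ Y i, afun α⁻¹ y ∈ Y i := by
    have hpow : ∀ m : ℕ, ∀ i ≤ n, ∀ y ∈ Y i, afun (α ^ m) y ∈ Y i := fun m => by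
      induction m with
      | zero => intro i hi y hy; rw [pow_zero, afun_one (hYP i hi hy)]; exact hy
      | succ m ih =>
        intro i hi y hy
        rw [pow_succ, afun_mul _ _ (hYP i hi hy)]
        exact ih i hi _ (hinvα i hi y hy)
    have e : α⁻¹ = α ^ (orderOf α - 1) := by
      refine inv_eq_of_mul_eq_one_right ?_
      rw [← pow_succ', Nat.sub_add_cancel (orderOf_pos α), pow_orderOf_eq_one]
    rw [e]
    exact hpow _
  refine FusionFlag94.extend_of_normalizes hS hF hP hα fun g => ?_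
  haveI := finite_normalizerIn (S := S) P
  refine mem_autInducedBy_of_flag hS hF hP Y h0 hn hmono hYP hstep hnorm
    (mul_mem (mul_mem hα (autInducedBy_le hPS ((autInducedBy_eq_range S P).ge ⟨g, rfl⟩)))
      (inv_mem hα)) (fun i hi y hy => ?_) fun i hi y hy => ?_
  · have hyP := hYP i hi hy
    rw [afun_mul _ _ hyP, afun_mul _ _ (afun_mem _ hyP), afun_nHom g (afun_mem _ hyP)]
    exact hinvα i hi _ (hnorm g g.2 i hi _ (hinv' i hi y hy))
  · have hyP := hYP _ hi hy
    have hz := hinv' _ hi y hy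
    have hzP := hYP _ hi hz
    have hn' : ∀ j ≤ n, ((Y j).subgroupOf (normalizerIn S P)).Normal := fun j hj =>
      ⟨fun m hm x => hnorm x x.2 j hj _ hm⟩
    haveI := hn' i hi.le
    haveI := hn' (i + 1) hi
    have hPN : P ≤ normalizerIn S P := le_normalizerIn hPS
    have hy' : (⟨_, hPN hzP⟩ : normalizerIn S P) ∈ (Y (i + 1)).subgroupOf (normalizerIn S P) := hz
    have := PGroupsCritical.commutator_mem_of_succ (p := p) (G := normalizerIn S P)
      (hS.to_le (inf_le_left : normalizerIn S P ≤ S))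
      (A := (Y i).subgroupOf _) (B := (Y (i + 1)).subgroupOf _) (fun z hz => hmono i hi hz)
      (by rw [Nat.card_congr (Subgroup.subgroupOfEquivOfLe ((hYP _ hi).trans hPN)).toEquiv,
        Nat.card_congr (Subgroup.subgroupOfEquivOfLe ((hYP i hi.le).trans hPN)).toEquiv,
        hstep i hi])
      (inv_mem hy') (⟨(g : Ω), g.2⟩ : normalizerIn S P)
    have h2 : (afun α⁻¹ y)⁻¹ * cj (g : Ω) (afun α⁻¹ y) ∈ Y i := by
      rw [cj_div_eq]; exact inv_mem this
    have h3 := hinvα i hi.le _ h2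
    rw [afun_map_mul α (inv_mem hzP) (cj_mem_of_normalizer g.2.2 hzP)] at h3
    have einv : afun α (afun α⁻¹ y)⁻¹ = y⁻¹ := by
      have h4 := afun_map_mul α (inv_mem hzP) hzP
      rw [inv_mul_cancel, afun_apply_inv α hyP] at h4
      have h1 : afun α (1 : Ω) = 1 := by
        rw [afun_apply _ P.one_mem]; exact congrArg Subtype.val (map_one α)
      rw [h1] at h4
      exact eq_inv_of_mul_eq_one_left h4.symm
    rw [einv] at h3
    rwa [afun_mul _ _ hyP, afun_mul _ _ (afun_mem _ hyP), afun_nHom g (afun_mem _ hyP)]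

variable {E : Subgroup Ω}

/-- The outer automorphism group acts faithfully on the Frattini quotient. -/
theorem exists_out_act (hS : IsPGroup p S) (hE : F.IsEssential p E) :
    ∃ (V : Type u) (_ : AddCommGroup V) (_ : Module (ZMod p) V) (_ : Finite V) (q : ↥E → V)
      (ρ : Out F E →* Module.End (ZMod p) V),
      (∀ a b, q (a * b) = q a + q b) ∧ Function.Surjective q ∧ (∀ a, q a = 0 ↔ a ∈ frattini ↥E) ∧
      Function.Injective ρ ∧
      (∀ (α : ↥(F.autGroup E)) a, ρ (α : Out F E) (q a) = q ((α : MulAut E) a)) ∧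
      Nat.card (frattini ↥E) * Nat.card V = Nat.card E := by
  classical
  have hES := hE.1.1
  haveI := finite_of_le hES
  have hEp : IsPGroup p E := hS.to_le hES
  obtain ⟨V, iV, iM, q, hmul, hsur, hzero⟩ := MaxClassEssDeep1.exists_quot (p := p) hEp
  have hchar : ∀ (α : MulAut E) a, q a = 0 → q (α a) = 0 := fun α a ha =>
    (hzero _).2 (Subgroup.characteristic_iff_le_comap.1 (inferInstance : (frattini ↥E).Characteristic)
      α ((hzero a).1 ha))
  obtain ⟨act, hact⟩ := MaxClassEssDeep1.exists_act (p := p) q hmul hsur hchar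
  have hq1 : q 1 = 0 := (hzero 1).2 (one_mem _)
  have hqi : ∀ a, q a⁻¹ = - q a := fun a =>
    eq_neg_of_add_eq_zero_right (by rw [← hmul, mul_inv_cancel, hq1])
  have hker : innIn F E ≤ (act.comp (F.autGroup E).subtype).ker := by
    rintro ⟨α, hαA⟩ hα
    obtain ⟨e, rfl⟩ := hα
    rw [MonoidHom.mem_ker]
    refine LinearMap.ext fun v => ?_
    obtain ⟨a, rfl⟩ := hsur v
    show act (MulAut.conj e) (q a) = q a
    rw [hact, MulAut.conj_apply, hmul, hmul, hqi]
    abel
  refine ⟨V, iV, iM, Finite.of_surjective q hsur, q,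
    QuotientGroup.lift (innIn F E) (act.comp (F.autGroup E).subtype) hker, hmul, hsur, hzero, ?_,
    fun α a => hact _ a, ?_⟩
  · rw [injective_iff_map_eq_one]
    intro x hx
    induction x using QuotientGroup.induction_on with
    | _ α =>
      refine (QuotientGroup.eq_one_iff _).2 ?_
      rw [Subgroup.mem_subgroupOf]
      refine FusionEssential88.mem_inn_of_trivial hS hE α.2 fun y => (hzero _).1 ?_
      have h := LinearMap.congr_fun hx (q y)
      rw [show (QuotientGroup.lift (innIn F E) (act.comp (F.autGroup E).subtype) hker) (α : Out F E)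
        = act (α : MulAut E) from rfl, hact, Module.End.one_apply] at h
      rw [hmul, hqi, h, neg_add_cancel]
  · let φ : ↥E →* Multiplicative V := MonoidHom.mk' (fun a => Multiplicative.ofAdd (q a))
      fun a b => congrArg Multiplicative.ofAdd (hmul a b)
    have hφ : Function.Surjective φ := fun v => by
      obtain ⟨a, ha⟩ := hsur v.toAdd
      exact ⟨a, congrArg Multiplicative.ofAdd ha⟩
    have hk : φ.ker = frattini ↥E := by
      ext a
      rw [MonoidHom.mem_ker, ← hzero]
      exact ⟨fun h => congrArg Multiplicative.toAdd h, fun h => congrArg Multiplicative.ofAdd h⟩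
    rw [show Nat.card V = Nat.card (Multiplicative V) from rfl,
      ← Nat.card_congr (QuotientGroup.quotientKerEquivOfSurjective φ hφ).toEquiv, hk,
      mul_comm, ← Subgroup.card_eq_card_quotient_mul_card_subgroup]

/-- The Sylow subgroup induced by `S`, and strongly embedded subgroups. -/
theorem exists_out_sylow (hS : IsPGroup p S) (hF : F.IsSaturated p) (hE : F.IsEssential p E) :
    ∃ T : Sylow p (Out F E),
      (∀ g, (conjAut F hE.1.1 g : Out F E) ∈ T) ∧
      (∀ t ∈ T, ∃ g, (conjAut F hE.1.1 g : Out F E) = t) ∧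
      Nat.card T * Nat.card E = Nat.card (normalizerIn S E) ∧
      (∀ α : ↥(F.autGroup E), (∀ t ∈ T, (α : Out F E) * t * (α : Out F E)⁻¹ ∈ T) →
        ∃ f, Mor F (normalizerIn S E) f ∧ (∀ x ∈ normalizerIn S E, f x ∈ normalizerIn S E) ∧
          ∀ x ∈ E, f x = afun (α : MulAut E) x) ∧
      ∃ M : Subgroup (Out F E), IsStronglyPEmbedded p M := by
  classical
  have hES := hE.1.1
  haveI := finite_of_le hES
  haveI := finite_autGroup (F := F) E
  haveI := finite_normalizerIn (S := S) E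
  obtain ⟨-, R, hR⟩ := fullyAutomized_of_fullyNormalized hS hF hE.2.1
  have hRrange : (R : Subgroup ↥(F.autGroup E)) = (conjAut F hES).range := by
    rw [hR]
    ext ⟨α, hα⟩
    rw [Subgroup.mem_subgroupOf, autInducedBy_eq_range, MonoidHom.mem_range, MonoidHom.mem_range]
    exact ⟨fun ⟨g, hg⟩ => ⟨g, Subtype.ext hg⟩, fun ⟨g, hg⟩ => ⟨g, congrArg Subtype.val hg⟩⟩
  let T : Sylow p (Out F E) := R.mapSurjective (QuotientGroup.mk'_surjective (innIn F E))
  let π := (QuotientGroup.mk' (innIn F E)).comp (conjAut F hES)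
  have hT : π.range = (T : Subgroup (Out F E)) := by
    show π.range = (R : Subgroup ↥(F.autGroup E)).map (QuotientGroup.mk' (innIn F E))
    rw [hRrange, MonoidHom.range_comp]
  refine ⟨T, fun g => hT.le ⟨g, rfl⟩, fun t ht => hT.ge ht, ?_, fun α hα => ?_, ?_⟩
  · have hker : π.ker = E.subgroupOf (S ⊓ Subgroup.normalizer (E : Set Ω)) := by
      ext g
      rw [MonoidHom.mem_ker, Subgroup.mem_subgroupOf]
      show (QuotientGroup.mk' (innIn F E)) (conjAut F hES g) = 1 ↔ _
      rw [QuotientGroup.mk'_apply, QuotientGroup.eq_one_iff]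
      refine ⟨fun h => mem_of_nHom_mem_inn hES (centralizerIn_le_of_centric hE.1) g h,
        fun h => ⟨⟨g, h⟩, MulEquiv.ext fun a => Subtype.ext ?_⟩⟩
      exact (conjAut_apply (F := F) hES g a).symm
    have h1 := π.ker.card_mul_index
    rw [Subgroup.index_ker, hT, hker, Nat.card_congr (Subgroup.subgroupOfEquivOfLe
      (show E ≤ S ⊓ Subgroup.normalizer (E : Set Ω) from le_normalizerIn hES)).toEquiv] at h1
    rw [mul_comm]
    exact h1
  · refine FusionFlag94.extend_of_normalizes hS hF hE.2.1 α.2 fun g => ?_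
    obtain ⟨g', hg'⟩ := hT.ge (hα _ (hT.le ⟨g, rfl⟩))
    have h2 : (conjAut F hES g')⁻¹ * (α * conjAut F hES g * α⁻¹) ∈ innIn F E :=
      QuotientGroup.eq.1 hg'
    have h3 : (α : MulAut E) * nHom S E g * (α : MulAut E)⁻¹ =
        (conjAut F hES g' : MulAut E) *
          ((((conjAut F hES g')⁻¹ * (α * conjAut F hES g * α⁻¹)) : ↥(F.autGroup E)) : MulAut E) := by
      rw [← Subgroup.coe_mul, mul_inv_cancel_left]
      rfl
    rw [h3]
    exact mul_mem ((autInducedBy_eq_range S E).ge ⟨g', rfl⟩) (inn_le_autInducedBy hES h2)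
  · obtain ⟨hI, M, hM⟩ := hE.2.2
    exact ⟨M, hM⟩

end Cfsg.Agent.PFiveKit1
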