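import Mathlib
import Cfsg.Prelude.Def_FusionSystem
import Cfsg.Agent.Lib.PFiveBasic1
import Cfsg.Agent.Lib.PFiveKit1
import Cfsg.Agent.Lib.PFiveTwist1
import Cfsg.Agent.Lib.PFiveFix1

/-!
Elementary abelian essential subgroups of order `p ^ 3` in a group of order `p ^ 5`.
-/

set_option autoImplicit false
set_option linter.unusedSectionVars false

namespace Cfsg.Agent.PFiveCube1

open scoped commutatorElement
open Cfsg Cfsg.FusionSystem Cfsg.Agent.FusionSysBasic Cfsg.Agent.FusionSysSaturated
  Cfsg.Agent.FusionSysNormal Cfsg.Agent.FusionSysChain Cfsg.Agent.FusionSysAlperin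

variable {Ω : Type*} [Group Ω] {S : Subgroup Ω} [Finite S] {p : ℕ} [hp : Fact p.Prime]
  {F : FusionSystem S} {E : Subgroup Ω}

/-- The normalizer of `E` has order `p ^ 4`, centre of order `p ^ 2` and derived subgroup `⟨z⟩`. -/
structure Shape (S E : Subgroup Ω) (p : ℕ) (z : Ω) : Prop where
  card_N : Nat.card (normalizerIn S E) = p ^ 4
  z_center : z ∈ centralizerIn S S
  z_ne : z ≠ 1
  z_pow : z ^ p = 1
  card_center : Nat.card (Subgroup.center (normalizerIn S E)) = p ^ 2
  center_le : ∀ c ∈ Subgroup.center (normalizerIn S E), (c : Ω) ∈ E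
  comm : ∀ a ∈ normalizerIn S E, ∀ b ∈ normalizerIn S E, ⁅a, b⁆ ∈ Subgroup.zpowers z

variable (hS : IsPGroup p S) (hF : F.IsSaturated p) (hp3 : 3 ≤ p) (hcard : Nat.card S = p ^ 5)
  (hE : F.IsEssential p E) (hE3 : Nat.card E = p ^ 3) (hab : IsMulCommutative E)

include hS hF hp3 hcard hE hE3 hab

theorem exists_shape : ∃ z, Shape S E p z := by
  classical
  have hES := hE.1.1
  haveI := finite_of_le hES
  haveI := finite_normalizerIn (S := S) E
  haveI := finite_autGroup (F := F) E
  have hexp := PFiveBasic1.three_elementary hS hF hE hE3 hab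
  have hEp : IsPGroup p E := hS.to_le hES
  set N := normalizerIn S E with hNdef
  have hNS : N ≤ S := inf_le_left
  have hEN : E ≤ N := le_normalizerIn hES
  have hNp : IsPGroup p N := hS.to_le hNS
  obtain ⟨m, hm⟩ := IsPGroup.iff_card.1 hNp
  have hm4 : 4 ≤ m := by
    have h := normalizerIn_gt hS (essential_lt hS hF hE)
    rw [hE3, ← hNdef, hm] at h
    exact (Nat.pow_lt_pow_iff_right hp.out.one_lt).1 h
  have hm5 : m ≤ 5 := by
    have h := Subgroup.card_le_of_le hNS
    rw [hm, hcard] at h
    exact (Nat.pow_le_pow_iff_right hp.out.one_lt).1 h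
  -- `E` is not normal
  have hm' : m = 4 := by
    by_contra hne
    obtain ⟨V, _, _, _, q, ρ, hqm, hqs, hqz, hρ, hact, hVc⟩ := PFiveKit1.exists_out_act hS hE
    obtain ⟨T, -, -, hTc, -, M, hM⟩ := PFiveKit1.exists_out_sylow hS hF hE
    rw [PGroupsBasic.frattini_eq_bot_of_elementary (p := p) hab.is_comm.comm hexp,
      Subgroup.card_bot, one_mul, hE3] at hVc
    rw [← hNdef, hm, hE3, show m = 5 by omega, show p ^ 5 = p ^ 2 * p ^ 3 by ring] at hTc
    refine PFiveLinear1.no_stronglyEmbedded hp3 hρ hVc (fun T' => ?_) hM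
    exact (T'.card_eq_multiplicity.trans T.card_eq_multiplicity.symm).trans
      (Nat.eq_of_mul_eq_mul_right (pow_pos hp.out.pos 3) hTc)
  subst hm'
  set EN := E.subgroupOf N
  have hENc : Nat.card EN = p ^ 3 := by
    rw [Nat.card_congr (Subgroup.subgroupOfEquivOfLe hEN).toEquiv, hE3]
  have hENi : EN.index = p := by
    have h := Subgroup.card_mul_index EN
    rw [hENc, hm, show p ^ 4 = p ^ 3 * p by ring] at h
    exact Nat.eq_of_mul_eq_mul_left (pow_pos hp.out.pos 3) h
  haveI hENn : EN.Normal := PGroupsBasic.normal_of_index_eq hNp hENi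
  have hENab : IsMulCommutative EN := ⟨⟨fun a b => Subtype.ext (Subtype.ext (congrArg (fun t : E => (t : Ω))
    (hab.is_comm.comm (⟨((a : N) : Ω), a.2⟩ : E) ⟨((b : N) : Ω), b.2⟩)))⟩⟩
  have hco := PGroupsBasic.isCoatom_of_index_eq hENi
  have hselfc : ∀ c : N, (∀ e ∈ EN, e * c = c * e) → c ∈ EN := by
    intro c hc
    refine centralizerIn_le_of_centric hE.1 (mem_centralizerIn.2 ⟨hNS c.2, fun x hx => ?_⟩)
    have h := congrArg Subtype.val (hc ⟨x, hEN hx⟩ hx)
    simp only [Subgroup.coe_mul] at h
    rw [cj_apply, mul_inv_eq_iff_eq_mul]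
    exact h.symm
  have hDle : commutator N ≤ EN := PGroupsBasic.commutator_le_of_index_le_sq hNp
    (hENi ▸ Nat.le_self_pow two_ne_zero p)
  set C := Subgroup.centralizer (commutator N : Set N)
  have hEC : EN ≤ C := fun a ha => Subgroup.mem_centralizer_iff.2 fun b hb =>
    PGroupsBasic.comm_of_isMulCommutative hENab (hDle hb) ha
  have hC : C = ⊤ := by
    by_contra hne
    have hCE : C = EN := (eq_or_lt_of_le hEC).elim Eq.symm fun hlt => absurd (hco.2 _ hlt) hne
    have hNn : ∀ g ∈ S, g ∈ Subgroup.normalizer (N : Set Ω) := by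
      intro g hg
      have hidx : (N.subgroupOf S).index = p := by
        have h := Subgroup.card_mul_index (N.subgroupOf S)
        rw [Nat.card_congr (Subgroup.subgroupOfEquivOfLe hNS).toEquiv, hm, hcard,
          show p ^ 5 = p ^ 4 * p by ring] at h
        exact Nat.eq_of_mul_eq_mul_left (pow_pos hp.out.pos 4) h
      haveI := PGroupsBasic.normal_of_index_eq hS hidx
      exact mem_normalizer_of_cj_le hNS fun x hx =>
        (‹(N.subgroupOf S).Normal›).conj_mem ⟨x, hNS hx⟩ hx ⟨g, hg⟩
    have hle : S ≤ N := by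
      intro g hg
      refine ⟨hg, mem_normalizer_of_cj_le hES fun x hx => ?_⟩
      let β := nHom S N ⟨g, hg, hNn g hg⟩
      have h1 : (⟨x, hEN hx⟩ : N) ∈ C := hCE.ge hx
      have h2 : β ⟨x, hEN hx⟩ ∈ C := Subgroup.characteristic_iff_le_comap.1
        (inferInstance : C.Characteristic) β h1
      rw [hCE, Subgroup.mem_subgroupOf, ← afun_coe, afun_nHom _ (hEN hx)] at h2
      exact h2
    have h := Subgroup.card_le_of_le hle
    rw [hcard, hm] at h
    exact absurd ((Nat.pow_le_pow_iff_right hp.out.one_lt).1 h) (by norm_num)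
  have hDZ : commutator N ≤ Subgroup.center N := fun a ha => Subgroup.mem_center_iff.2 fun x =>
    (Subgroup.mem_centralizer_iff.1 (hC.ge (Subgroup.mem_top x)) a ha).symm
  have hZE : Subgroup.center N ≤ EN := fun c hc => hselfc c fun e _ => Subgroup.mem_center_iff.1 hc e
  have hENtop : EN ≠ ⊤ := hco.1
  obtain ⟨x, -, hx⟩ := SetLike.exists_of_lt (lt_top_iff_ne_top.2 hENtop)
  obtain ⟨j, hj⟩ := IsPGroup.iff_card.1 (hNp.to_subgroup (Subgroup.center N))
  have hj2 : j = 2 := by
    have hj3 : j < 3 := by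
      by_contra h3
      refine hx (hselfc x fun e he => ?_)
      have he' : e ∈ Subgroup.center N := (Subgroup.eq_of_le_of_card_ge hZE
        (by rw [hENc, hj]; exact Nat.pow_le_pow_right hp.out.pos (by omega))).ge he
      exact (Subgroup.mem_center_iff.1 he' x).symm
    let δ : EN →* Subgroup.center N := MonoidHom.mk'
      (fun a => ⟨⁅x, (a : N)⁆, hDZ (Subgroup.commutator_mem_commutator (Subgroup.mem_top _)
        (Subgroup.mem_top _))⟩) fun a b => Subtype.ext
      (PGroupsBasic.commutatorElement_mul_right_of_central (hDZ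
        (Subgroup.commutator_mem_commutator (Subgroup.mem_top _) (Subgroup.mem_top _))))
    have hker : δ.ker ≤ (Subgroup.center N).subgroupOf EN := by
      intro a ha
      have ha' : ⁅x, (a : N)⁆ = 1 := congrArg Subtype.val (MonoidHom.mem_ker.1 ha)
      have hlt : EN < Subgroup.centralizer ({(a : N)} : Set N) := by
        refine lt_of_le_of_ne (fun e he => Subgroup.mem_centralizer_singleton_iff.2
          (PGroupsBasic.comm_of_isMulCommutative hENab he a.2)) fun e => hx ?_
        rw [e]
        exact Subgroup.mem_centralizer_singleton_iff.2 (commutatorElement_eq_one_iff_mul_comm.1 ha')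
      have htop := hco.2 _ hlt
      exact Subgroup.mem_center_iff.2 fun y =>
        Subgroup.mem_centralizer_singleton_iff.1 (htop.ge (Subgroup.mem_top y))
    have h := Subgroup.card_mul_index δ.ker
    rw [Subgroup.index_ker, hENc] at h
    have h1 := Subgroup.card_le_of_le hker
    rw [Nat.card_congr (Subgroup.subgroupOfEquivOfLe hZE).toEquiv, hj] at h1
    have h2 : Nat.card δ.range ≤ p ^ j := hj ▸ Subgroup.card_le_card_group _
    have h3 : p ^ 3 ≤ p ^ (j + j) := by rw [← h, pow_add]; exact Nat.mul_le_mul h1 h2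
    have := (Nat.pow_le_pow_iff_right hp.out.one_lt).1 h3
    omega
  subst hj2
  have hnc : ¬ IsMulCommutative N := fun h => hx (hselfc x fun e _ => h.is_comm.comm e x)
  have hidx : (Subgroup.center N).index = p ^ 2 := by
    have h := Subgroup.card_mul_index (Subgroup.center N)
    rw [hj, hm, show p ^ 4 = p ^ 2 * p ^ 2 by ring] at h
    exact Nat.eq_of_mul_eq_mul_left (pow_pos hp.out.pos 2) h
  have hDc : Nat.card (commutator N) = p := by
    refine le_antisymm (PFiveBasic1.card_commutator_le hNp hidx hnc) ?_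
    obtain ⟨d, hd⟩ := IsPGroup.iff_card.1 (hNp.to_subgroup (commutator N))
    have hd0 : d ≠ 0 := fun h0 => hnc ⟨⟨fun a b => by
      have := Subgroup.commutator_mem_commutator (Subgroup.mem_top a) (Subgroup.mem_top b)
      rw [← commutator_def, Subgroup.eq_bot_of_card_eq (commutator N) (by rw [hd, h0, pow_zero])] at this
      exact commutatorElement_eq_one_iff_mul_comm.1 (Subgroup.mem_bot.1 this)⟩⟩
    rw [hd]; exact Nat.le_self_pow hd0 p
  haveI : Nontrivial (commutator N) := Finite.one_lt_card_iff_nontrivial.1 (hDc ▸ hp.out.one_lt)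
  obtain ⟨z0, hz0⟩ := exists_ne (1 : commutator N)
  have hzgen : commutator N = Subgroup.zpowers (z0 : N) := by
    refine (Subgroup.eq_of_le_of_card_ge ((Subgroup.zpowers_le).2 z0.2) ?_).symm
    rw [hDc, Nat.card_zpowers, orderOf_eq_prime (PGroupsBasic.pow_eq_one_of_card hDc z0.2)
      fun h => hz0 (Subtype.ext h)]
  refine ⟨((z0 : N) : Ω), hm, ?_, fun h => hz0 (Subtype.ext (Subtype.ext h)), ?_, hj,
    fun c hc => hZE hc, fun a ha b hb => ?_⟩
  · let DS : Subgroup S := (commutator N).map (Subgroup.inclusion hNS)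
    haveI : DS.Normal := by
      refine ⟨fun w hw g => ?_⟩
      obtain ⟨a, ha, rfl⟩ := hw
      have hidx' : (N.subgroupOf S).index = p := by
        have h := Subgroup.card_mul_index (N.subgroupOf S)
        rw [Nat.card_congr (Subgroup.subgroupOfEquivOfLe hNS).toEquiv, hm, hcard,
          show p ^ 5 = p ^ 4 * p by ring] at h
        exact Nat.eq_of_mul_eq_mul_left (pow_pos hp.out.pos 4) h
      haveI := PGroupsBasic.normal_of_index_eq hS hidx'
      have hgn : (g : Ω) ∈ Subgroup.normalizer (N : Set Ω) := mem_normalizer_of_cj_le hNS fun x hx =>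
        (‹(N.subgroupOf S).Normal›).conj_mem ⟨x, hNS hx⟩ hx g
      let β := nHom S N ⟨g, g.2, hgn⟩
      exact ⟨β a, Subgroup.characteristic_iff_le_comap.1
        (inferInstance : (commutator N).Characteristic) β ha,
        Subtype.ext (show ((β a : N) : Ω) = (g : Ω) * (a : Ω) * (g : Ω)⁻¹ by
          rw [← afun_coe, afun_nHom _ a.2, cj_apply])⟩
    have hc := PGroupsBasic.le_center_of_card_eq_prime hS (N := DS)
      (by rw [Subgroup.card_map_of_injective (Subgroup.inclusion_injective hNS), hDc])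
    exact PFiveBasic1.mem_Zs.2 ⟨hNS (z0 : N).2, hc ⟨_, z0.2, rfl⟩⟩
  · exact congrArg Subtype.val (PGroupsBasic.pow_eq_one_of_card hDc z0.2)
  · have h := hzgen.le (Subgroup.commutator_mem_commutator (Subgroup.mem_top (⟨a, ha⟩ : N))
      (Subgroup.mem_top ⟨b, hb⟩))
    obtain ⟨i, hi⟩ := Subgroup.mem_zpowers_iff.1 h
    exact ⟨i, by simpa [Subgroup.coe_zpow, commutatorElement_def] using congrArg Subtype.val hi⟩

end Cfsg.Agent.PFiveCube1
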