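import Mathlib
import Cfsg.Prelude.Def_FusionSystem
import Cfsg.Agent.Lib.PFiveCube1

/-!
An elementary abelian essential subgroup of order `p ^ 3` moving the centre.
-/

set_option autoImplicit false
set_option linter.unusedSectionVars false
set_option maxHeartbeats 800000

namespace Cfsg.Agent.PFiveCube2

open scoped commutatorElement
open Cfsg Cfsg.FusionSystem Cfsg.Agent.FusionSysBasic Cfsg.Agent.FusionSysSaturated
  Cfsg.Agent.FusionSysNormal Cfsg.Agent.FusionSysChain Cfsg.Agent.FusionSysAlperin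
open PFiveTwist1 (pow_cast cast_of_pow)

theorem exists_pow {G : Type*} [Group G] {p : ℕ} [hp : Fact p.Prime] {z a : G} (hz : z ^ p = 1)
    (h : a ∈ Subgroup.zpowers z) : ∃ i : ℕ, a = z ^ i := by
  obtain ⟨i, hi⟩ := (isOfFinOrder_iff_pow_eq_one.2 ⟨p, hp.out.pos, hz⟩).mem_powers_iff_mem_zpowers.2 h
  exact ⟨i, hi.symm⟩

theorem sq_three : ∀ r : ZMod 3, r ≠ 0 → r ^ 2 = 1 := by decide

theorem dvd_of_pow_mem {G : Type*} [Group G] {p : ℕ} [hp : Fact p.Prime] {K : Subgroup G}
    [K.Normal] {x : G} (hx : x ∉ K) (hxp : x ^ p ∈ K) {j : ℕ} (hj : x ^ j ∈ K) : p ∣ j := by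
  rw [← QuotientGroup.eq_one_iff, QuotientGroup.mk_pow] at hxp hj
  exact orderOf_eq_prime hxp (fun h => hx ((QuotientGroup.eq_one_iff x).1 h)) ▸
    orderOf_dvd_of_pow_eq_one hj

variable {Ω : Type*} [Group Ω] {S : Subgroup Ω} [Finite S] {p : ℕ} [hp : Fact p.Prime]
  {F : FusionSystem S} {E : Subgroup Ω}
  (hS : IsPGroup p S) (hF : F.IsSaturated p) (hp3 : 3 ≤ p) (hcard : Nat.card S = p ^ 5)
  (hE : F.IsEssential p E) (hE3 : Nat.card E = p ^ 3) (hab : IsMulCommutative E)
  (hnab : ∀ A : Subgroup Ω, A ≤ S → Nat.card A = p ^ 4 → ¬ IsMulCommutative A)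

include hS hF hp3 hcard hE hE3 hab hnab

theorem cube_center :
    (∀ α ∈ F.autGroup E, ∀ x ∈ centralizerIn S S, afun α x ∈ centralizerIn S S) ∨
      (p = 3 ∧ Nat.card (frattini S) ≤ p ^ 2 ∧
        ∃ w : S, w ∉ frattini S ∧ ∀ β : MulAut S, w⁻¹ * β w ∈ frattini S) := by
  classical
  have hES := hE.1.1
  haveI := finite_of_le hES
  haveI := finite_autGroup (F := F) E
  haveI := finite_normalizerIn (S := S) E
  obtain ⟨k, hk1, hk2, hk⟩ := PFiveBasic1.card_center_range (X := S) hS (n := 5) (by norm_num)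
    hcard fun A hA hc => hnab (A.map S.subtype) (Subgroup.map_subtype_le A)
      (by rw [Subgroup.card_map_of_injective S.subtype_injective, hA])
      (PGroupsBasic.isMulCommutative_of_forall fun a ha b hb => by
        obtain ⟨a', ha', rfl⟩ := ha
        obtain ⟨b', hb', rfl⟩ := hb
        simp only [Subgroup.coe_subtype, ← Subgroup.coe_mul,
          PGroupsBasic.comm_of_isMulCommutative hc ha' hb'])
  obtain ⟨z, hsh⟩ := PFiveCube1.exists_shape hS hF hp3 hcard hE hE3 hab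
  have hexp := PFiveBasic1.three_elementary hS hF hE hE3 hab
  set N := normalizerIn S E with hNdef
  have hNS : N ≤ S := inf_le_left
  have hEN : E ≤ N := le_normalizerIn hES
  have hNp : IsPGroup p N := hS.to_le hNS
  set EN := E.subgroupOf N
  have hENi : EN.index = p := by
    have h := Subgroup.card_mul_index EN
    rw [Nat.card_congr (Subgroup.subgroupOfEquivOfLe hEN).toEquiv, hE3, hsh.card_N,
      show p ^ 4 = p ^ 3 * p by ring] at h
    exact Nat.eq_of_mul_eq_mul_left (pow_pos hp.out.pos 3) h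
  haveI : EN.Normal := PGroupsBasic.normal_of_index_eq hNp hENi
  have hco := PGroupsBasic.isCoatom_of_index_eq hENi
  obtain ⟨x, -, hx⟩ := SetLike.exists_of_lt (lt_top_iff_ne_top.2 hco.1)
  have hzE : z ∈ E := PFiveBasic1.Zs_le hE.1 hsh.z_center
  set zE : E := ⟨z, hzE⟩
  have hzEp : zE ^ p = 1 := Subtype.ext hsh.z_pow
  -- the linear action
  obtain ⟨V, _, _, _, q, ρ, hqm, hqs, hqz, hρ, hact, hVc⟩ := PFiveKit1.exists_out_act hS hE
  obtain ⟨T, hTg, -, hTc, hText, -⟩ := PFiveKit1.exists_out_sylow hS hF hE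
  have hfr : frattini E = ⊥ := PGroupsBasic.frattini_eq_bot_of_elementary hab.is_comm.comm hexp
  rw [hfr, Subgroup.card_bot, one_mul, hE3] at hVc
  have hTp : Nat.card T = p := by
    rw [← hNdef, hsh.card_N, hE3, show p ^ 4 = p * p ^ 3 by ring] at hTc
    exact Nat.eq_of_mul_eq_mul_right (pow_pos hp.out.pos 3) hTc
  have hq1 : q 1 = 0 := (hqz 1).2 (one_mem _)
  have hqi : ∀ {a b : E}, q a = q b → a = b := by
    intro a b h
    have h2 := hqm b (b⁻¹ * a)
    rw [mul_inv_cancel_left, h, left_eq_add, hqz, hfr, Subgroup.mem_bot, inv_mul_eq_one] at h2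
    exact h2.symm
  have hqp : ∀ (a : E) (n : ℕ), q (a ^ n) = (n : ZMod p) • q a := fun a n => by
    induction n with
    | zero => simp [hq1]
    | succ n ih => rw [pow_succ, hqm, ih]; push_cast; rw [add_smul, one_smul]
  have hqzE : q zE ≠ 0 := fun h => hsh.z_ne (congrArg Subtype.val (hqi (h.trans hq1.symm)))
  let gx : ↥(S ⊓ Subgroup.normalizer (E : Set Ω)) := x
  set t : PFiveKit1.Out F E := (PFiveKit1.conjAut F hES gx : PFiveKit1.Out F E) with ht
  have ht1 : t ≠ 1 := fun h => hx (mem_of_nHom_mem_inn hES (centralizerIn_le_of_centric hE.1) gx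
    (show PFiveKit1.conjAut F hES gx ∈ PFiveKit1.innIn F E from (QuotientGroup.eq_one_iff _).1 h))
  have htp : t ^ p = 1 := PGroupsBasic.pow_eq_one_of_card (H := (T : Subgroup _)) hTp (hTg gx)
  have hTeq : (T : Subgroup (PFiveKit1.Out F E)) = Subgroup.zpowers t :=
    (Subgroup.eq_of_le_of_card_ge ((Subgroup.zpowers_le).2 (hTg gx))
      (by rw [hTp, Nat.card_zpowers, orderOf_eq_prime htp ht1])).symm
  have hcx : ∀ a : E, (((PFiveKit1.conjAut F hES gx : MulAut E) a : E) : Ω) =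
      (x : Ω) * (a : Ω) * (x : Ω)⁻¹ := fun a => PFiveKit1.conjAut_apply hES gx a
  have hJ : ∀ v, (ρ t - 1) v ∈ (ZMod p) ∙ q zE := by
    intro v
    obtain ⟨a, rfl⟩ := hqs v
    obtain ⟨i, hi⟩ := exists_pow hsh.z_pow (hsh.comm x x.2 a (hEN a.2))
    have e : (PFiveKit1.conjAut F hES gx : MulAut E) a = zE ^ i * a := Subtype.ext (by
      rw [hcx, Subgroup.coe_mul, Subgroup.coe_pow, ← hi, commutatorElement_def,
        inv_mul_cancel_right])
    rw [LinearMap.sub_apply, Module.End.one_apply, ht, hact, e, hqm, hqp, add_sub_cancel_right]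
    exact Submodule.smul_mem _ _ (Submodule.mem_span_singleton_self _)
  obtain ⟨φ, hφ⟩ := PFiveLinear1.exists_functional hqzE hJ
  have hzx : (x : Ω) * z * (x : Ω)⁻¹ = z := by
    have := (mem_centralizerIn.1 hsh.z_center).2 x (hNS x.2)
    rw [cj_apply, mul_inv_eq_iff_eq_mul] at this
    rw [mul_inv_eq_iff_eq_mul]; exact this.symm
  have hφv : ∀ v, ρ t v = v + φ v • q zE := fun v => by
    rw [← hφ, LinearMap.sub_apply, Module.End.one_apply, add_sub_cancel]
  have hφiff : ∀ a : E, φ (q a) = 0 ↔ (x : Ω) * (a : Ω) = (a : Ω) * x := by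
    intro a
    have h := hφv (q a)
    rw [ht, hact] at h
    constructor
    · intro h0
      rw [h0, zero_smul, add_zero] at h
      rw [← mul_inv_eq_iff_eq_mul, ← hcx, hqi h]
    · intro he
      have : (PFiveKit1.conjAut F hES gx : MulAut E) a = a := Subtype.ext (by
        rw [hcx, he, mul_inv_cancel_right])
      rw [this, left_eq_add, smul_eq_zero] at h
      exact h.resolve_right hqzE
  have htr : PFiveLinear1.IsTr ρ t φ (q zE) :=
    ⟨hφv, (hφiff zE).2 (mul_inv_eq_iff_eq_mul.1 hzx)⟩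
  have hφ0 : φ ≠ 0 := fun h => ht1 (hρ (by
    rw [map_one]
    exact LinearMap.ext fun v => by rw [hφv, h, LinearMap.zero_apply, zero_smul, add_zero]; rfl))
  have hcenE : ∀ a : E, (⟨(a : Ω), hEN a.2⟩ : N) ∈ Subgroup.center N ↔
      (x : Ω) * (a : Ω) = (a : Ω) * x := by
    intro a
    refine ⟨fun h => congrArg Subtype.val (Subgroup.mem_center_iff.1 h x), fun he => ?_⟩
    have hle : EN ≤ Subgroup.centralizer ({(⟨(a : Ω), hEN a.2⟩ : N)} : Set N) := fun e he' =>
      Subgroup.mem_centralizer_singleton_iff.2 (Subtype.ext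
        (congrArg (fun u : E => (u : Ω)) (hab.is_comm.comm (⟨((e : N) : Ω), he'⟩ : E) a)))
    have hlt : EN < Subgroup.centralizer ({(⟨(a : Ω), hEN a.2⟩ : N)} : Set N) :=
      lt_of_le_of_ne hle fun e => hx (by
        rw [e]; exact Subgroup.mem_centralizer_singleton_iff.2 (Subtype.ext he))
    exact Subgroup.mem_center_iff.2 fun y =>
      Subgroup.mem_centralizer_singleton_iff.1 ((hco.2 _ hlt).ge (Subgroup.mem_top y))
  have hZN : ∀ u ∈ centralizerIn S S, ∃ h : u ∈ E, (⟨u, hEN h⟩ : N) ∈ Subgroup.center N := by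
    intro u hu
    have huE := PFiveBasic1.Zs_le hE.1 hu
    refine ⟨huE, Subgroup.mem_center_iff.2 fun y => Subtype.ext ?_⟩
    have := (mem_centralizerIn.1 hu).2 (y : Ω) (hNS y.2)
    rw [cj_apply, mul_inv_eq_iff_eq_mul] at this
    exact this.symm
  -- a map with centre in the axis
  have hsame : ∀ a : PFiveKit1.Out F E, φ (ρ a (q zE)) = 0 →
      (∃ l : ZMod p, l ≠ 0 ∧ ρ a (q zE) = l • q zE) ∧ ∀ v, φ v = 0 → φ (ρ a v) = 0 := by
    intro a h0
    have htr' := htr.conj a
    have hP := PFiveLinear1.common_pgroup hp3 hρ htr htr' h0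
    obtain ⟨R, hR⟩ := hP.exists_le_sylow
    have hRc : Nat.card R = p :=
      (R.card_eq_multiplicity.trans T.card_eq_multiplicity.symm).trans hTp
    have hRt : (R : Subgroup _) = Subgroup.zpowers t :=
      (Subgroup.eq_of_le_of_card_ge ((Subgroup.zpowers_le).2
        (hR (Subgroup.subset_closure (Set.mem_insert _ _))))
        (by rw [hRc, Nat.card_zpowers, orderOf_eq_prime htp ht1])).symm
    obtain ⟨n, hn⟩ := exists_pow htp
      (hRt.le (hR (Subgroup.subset_closure (Set.mem_insert_of_mem _ rfl))))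
    have heq : ∀ v, φ (ρ a⁻¹ v) • ρ a (q zE) = ((n : ZMod p) * φ v) • q zE := fun v => by
      have h1 := htr'.act v
      rw [hn, (htr.pow n).act, LinearMap.comp_apply, LinearMap.smul_apply, smul_eq_mul] at h1
      exact (add_left_cancel h1).symm
    have hn0 : (n : ZMod p) ≠ 0 := fun hn0 => by
      refine ht1 ?_
      have h2 : a * t * a⁻¹ = 1 := by
        rw [hn, pow_cast htp (show (n : ZMod p) = (0 : ℕ) by simpa using hn0), pow_zero]
      simpa using h2
    have hne : ρ a (q zE) ≠ 0 := fun h => hqzE (by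
      rw [← PFiveLinear1.inv_apply (ρ := ρ) a (q zE), h, map_zero])
    obtain ⟨v0, hv0⟩ : ∃ v, φ v ≠ 0 := by
      by_contra hn'
      push Not at hn'
      exact hφ0 (LinearMap.ext hn')
    have he0 := heq (ρ a v0)
    rw [PFiveLinear1.inv_apply] at he0
    refine ⟨⟨(φ v0)⁻¹ * ((n : ZMod p) * φ (ρ a v0)), fun hl => hne ?_, ?_⟩, fun v hv => ?_⟩
    · have := congrArg (fun u => (φ v0)⁻¹ • u) he0
      simp only [smul_smul, inv_mul_cancel₀ hv0, one_smul] at this
      rw [this, hl, zero_smul]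
    · have := congrArg (fun u => (φ v0)⁻¹ • u) he0
      simpa only [smul_smul, inv_mul_cancel₀ hv0, one_smul] using this
    · have h1 := heq (ρ a v)
      rw [PFiveLinear1.inv_apply, hv, zero_smul, eq_comm, smul_eq_zero] at h1
      exact (mul_eq_zero.1 (h1.resolve_right hqzE)).resolve_left hn0
  by_cases hall : ∀ α : F.autGroup E, φ (ρ (α : PFiveKit1.Out F E) (q zE)) = 0
  · -- the centre is invariant
    refine Or.inl fun α hα u hu => ?_
    obtain ⟨huE, huc⟩ := hZN u hu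
    obtain ⟨⟨l, -, hl⟩, hker⟩ := hsame _ (hall ⟨α, hα⟩)
    rw [afun_apply α huE]
    rcases (show k = 1 ∨ k = 2 by omega) with rfl | rfl
    · -- `u` is a power of `z`
      rw [pow_one] at hk
      have hgen : Subgroup.zpowers z = centralizerIn S S := by
        haveI := finite_centralizerIn (S := S) S
        refine Subgroup.eq_of_le_of_card_ge ((Subgroup.zpowers_le).2 hsh.z_center) ?_
        rw [PFiveBasic1.card_Zs, hk, Nat.card_zpowers, orderOf_eq_prime hsh.z_pow hsh.z_ne]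
      obtain ⟨i, hi⟩ := exists_pow hsh.z_pow (hgen.ge hu)
      have e : (⟨u, huE⟩ : E) = zE ^ i := Subtype.ext (by simpa using hi)
      have h2 : q (α (zE ^ i)) = q (zE ^ ((i : ZMod p) * l).val) := by
        rw [← hact ⟨α, hα⟩, hqp, map_smul, hl, hqp, ZMod.natCast_zmod_val, smul_smul]
      rw [e, hqi h2, ← hgen, Subgroup.coe_pow]
      exact pow_mem (Subgroup.mem_zpowers z) _
    · have himg : (Subgroup.center N).map N.subtype = centralizerIn S S := by
        haveI := finite_centralizerIn (S := S) S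
        haveI := finite_of_le ((Subgroup.map_subtype_le (Subgroup.center N)).trans hNS)
        refine (Subgroup.eq_of_le_of_card_ge (fun v hv => ?_) ?_).symm
        · obtain ⟨hvE, hvc⟩ := hZN v hv
          exact ⟨_, hvc, rfl⟩
        · rw [Subgroup.card_map_of_injective N.subtype_injective, hsh.card_center,
            PFiveBasic1.card_Zs, hk]
      have h3 := hker _ ((hφiff ⟨u, huE⟩).2 ((hcenE ⟨u, huE⟩).1 huc))
      rw [hact ⟨α, hα⟩, hφiff] at h3
      rw [← himg]
      exact ⟨_, (hcenE _).2 h3, rfl⟩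
  -- two transvections in general position
  push Not at hall
  obtain ⟨α, hα⟩ := hall
  set a : PFiveKit1.Out F E := (α : PFiveKit1.Out F E) with hadef
  have htr' := htr.conj a
  have hφ' : (φ.comp (ρ a⁻¹)) (q zE) ≠ 0 := fun h0 => by
    obtain ⟨⟨l, hl0, hl⟩, -⟩ := hsame a⁻¹ h0
    refine hα ?_
    have h2 := congrArg (ρ a) hl
    rw [PFiveLinear1.apply_inv, map_smul] at h2
    have h3 : ρ a (q zE) = l⁻¹ • q zE := by
      rw [h2, smul_smul, inv_mul_cancel₀ hl0, one_smul]
      exact (h2 ▸ rfl)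
    rw [h3, map_smul, htr.null, smul_zero]
  set φ' := φ.comp (ρ a⁻¹) with hφ'def
  obtain ⟨v, hv0, hv1, hv2⟩ : ∃ v, v ≠ 0 ∧ φ v = 0 ∧ φ' v = 0 := by
    by_contra hcon
    push Not at hcon
    have hinj : Function.Injective (φ.prod φ') := by
      rw [injective_iff_map_eq_zero]
      intro u hu
      by_contra hu0
      rw [LinearMap.prod_apply, Prod.mk_eq_zero] at hu
      exact hcon u hu0 hu.1 hu.2
    have h := Nat.card_le_card_of_injective _ hinj
    rw [hVc, Nat.card_prod, Nat.card_zmod, ← sq] at h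
    exact absurd ((Nat.pow_le_pow_iff_right hp.out.one_lt).1 h) (by norm_num)
  obtain ⟨wE, rfl⟩ := hqs v
  set gE : E := (α : MulAut E) zE with hgE
  have hqg : q gE = ρ a (q zE) := (hact α zE).symm
  set zN : N := ⟨z, hEN hzE⟩
  set wN : N := ⟨(wE : Ω), hEN wE.2⟩
  set gN : N := ⟨(gE : Ω), hEN gE.2⟩
  have hwc : wN ∈ Subgroup.center N := (hcenE wE).2 ((hφiff wE).1 hv1)
  have hzc : zN ∈ Subgroup.center N := (hcenE zE).2 ((hφiff zE).1 htr.null)
  have hgc : gN ∉ Subgroup.center N := fun h =>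
    hα (hqg ▸ (hφiff gE).2 ((hcenE gE).1 h))
  have hwp : wN ^ p = 1 := Subtype.ext (congrArg (fun u : E => (u : Ω)) (hexp wE))
  have hgp : gN ^ p = 1 := Subtype.ext (congrArg (fun u : E => (u : Ω)) (hexp gE))
  have hzp : zN ^ p = 1 := Subtype.ext hsh.z_pow
  have hzn : zN ≠ 1 := fun h => hsh.z_ne (congrArg Subtype.val h)
  have hcg : ∀ c ∈ Subgroup.center N, ∃ i j : ℕ, c = zN ^ i * wN ^ j := by
    let Φm : Fin p × Fin p → Subgroup.center N := fun i =>
      ⟨zN ^ (i.1 : ℕ) * wN ^ (i.2 : ℕ), mul_mem (pow_mem hzc _) (pow_mem hwc _)⟩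
    have hinj : Function.Injective Φm := by
      intro i j hij
      have h1 : (zE ^ (i.1 : ℕ) * wE ^ (i.2 : ℕ) : E) = zE ^ (j.1 : ℕ) * wE ^ (j.2 : ℕ) :=
        Subtype.ext (congrArg (fun c : Subgroup.center N => ((c : N) : Ω)) hij)
      have h2 := congrArg q h1
      simp only [hqm, hqp] at h2
      have h3 := congrArg φ' h2
      simp only [map_add, map_smul, hv2, smul_eq_mul, mul_zero, add_zero] at h3
      have e1 := mul_right_cancel₀ hφ' h3
      rw [e1] at h2
      have e2 : ((i.2 : ℕ) : ZMod p) = (j.2 : ℕ) := by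
        have := add_left_cancel h2
        rw [← sub_eq_zero, ← sub_smul, smul_eq_zero] at this
        exact sub_eq_zero.1 (this.resolve_right hv0)
      rw [ZMod.natCast_eq_natCast_iff', Nat.mod_eq_of_lt i.1.2, Nat.mod_eq_of_lt j.1.2] at e1
      rw [ZMod.natCast_eq_natCast_iff', Nat.mod_eq_of_lt i.2.2, Nat.mod_eq_of_lt j.2.2] at e2
      exact Prod.ext (Fin.ext e1) (Fin.ext e2)
    have hbij := (Nat.bijective_iff_injective_and_card Φm).2
      ⟨hinj, by rw [hsh.card_center, Nat.card_prod, Nat.card_eq_fintype_card, Fintype.card_fin, sq]⟩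
    intro c hc
    obtain ⟨i, hi⟩ := hbij.2 ⟨c, hc⟩
    exact ⟨i.1, i.2, (congrArg Subtype.val hi).symm⟩
  -- the torus
  have htorus : ∀ c : ZMod p, c ≠ 0 → ∃ f ∈ F.autGroup N, f zN = zN ^ c.val ∧ f wN = wN ∧
      f gN = gN ^ c⁻¹.val := by
    intro c hc
    obtain ⟨τ, -, hτ1, hτ2, hτ3, n, -, hτ4⟩ :=
      PFiveLinear1.pair_torus htr htr' hα hφ' hc
    obtain ⟨β, rfl⟩ := QuotientGroup.mk_surjective τ
    have hconj : ∀ u ∈ T, (β : PFiveKit1.Out F E) * u * (β : PFiveKit1.Out F E)⁻¹ ∈ T := by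
      intro u hu
      obtain ⟨i, rfl⟩ := exists_pow htp (hTeq.le hu)
      rw [← conj_pow, hρ hτ4]
      exact pow_mem (pow_mem (hTg gx) _) _
    obtain ⟨f, hf, hfN, hfE⟩ := hText β hconj
    obtain ⟨f', hf', he⟩ := hf.exists_aut (hf.im_self hfN)
    have hval : ∀ (b : E) (d : E), ρ (β : PFiveKit1.Out F E) (q b) = q d →
        f' ⟨(b : Ω), hEN b.2⟩ = ⟨(d : Ω), hEN d.2⟩ := by
      intro b d hbd
      refine Subtype.ext ?_
      rw [← afun_coe, he _ (hEN b.2), hfE _ b.2, afun_coe]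
      rw [hact] at hbd
      rw [hqi hbd]
    refine ⟨f', hf', ?_, hval wE wE (hτ3 _ hv1 hv2), ?_⟩
    · exact hval zE (zE ^ c.val) (by rw [hτ1, hqp, ZMod.natCast_zmod_val])
    · exact hval gE (gE ^ c⁻¹.val) (by rw [hqg, hτ2, hqp, hqg, ZMod.natCast_zmod_val])
  -- `N` is normal in `S`
  set NX := N.subgroupOf S
  have hNXc : Nat.card NX = p ^ 4 := by
    rw [Nat.card_congr (Subgroup.subgroupOfEquivOfLe hNS).toEquiv, hsh.card_N]
  have hNXi : NX.index = p := by
    have h := Subgroup.card_mul_index NX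
    rw [hNXc, hcard, show p ^ 5 = p ^ 4 * p by ring] at h
    exact Nat.eq_of_mul_eq_mul_left (pow_pos hp.out.pos 4) h
  haveI hNXn : NX.Normal := PGroupsBasic.normal_of_index_eq hS hNXi
  have hnN : ∀ g ∈ S, g ∈ Subgroup.normalizer (N : Set Ω) := fun g hg =>
    mem_normalizer_of_cj_le hNS fun u hu => hNXn.conj_mem ⟨u, hNS hu⟩ hu ⟨g, hg⟩
  haveI := finite_normalizerIn (S := S) N
  have hfullN : F.IsFullyNormalized N := ⟨hNS, fun Q hQ => Subgroup.card_le_of_le
    (le_trans inf_le_left (le_inf le_rfl hnN) : normalizerIn S Q ≤ normalizerIn S N)⟩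
  obtain ⟨s, -, hs⟩ := SetLike.exists_of_lt (lt_top_iff_ne_top.2
    (PGroupsBasic.isCoatom_of_index_eq hNXi).1)
  have hsn : (s : Ω) ∈ S ⊓ Subgroup.normalizer (N : Set Ω) := ⟨s.2, hnN _ s.2⟩
  set y : MulAut N := nHom S N ⟨(s : Ω), hsn⟩ with hy
  have hyv : ∀ u : N, ((y u : N) : Ω) = (s : Ω) * (u : Ω) * (s : Ω)⁻¹ := fun u => by
    rw [← afun_coe, hy, afun_nHom _ u.2, cj_apply]
  let ι : N →* S := Subgroup.inclusion hNS
  have hιinj : Function.Injective ι := Subgroup.inclusion_injective hNS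
  set ZX := (Subgroup.center N).map ι with hZX
  haveI hZXn : ZX.Normal := by
    refine ⟨fun u hu g => ?_⟩
    obtain ⟨c, hc, rfl⟩ := hu
    refine ⟨nHom S N ⟨g, g.2, hnN _ g.2⟩ c, Subgroup.characteristic_iff_le_comap.1
      (inferInstance : (Subgroup.center N).Characteristic) _ hc, Subtype.ext ?_⟩
    show ((nHom S N ⟨g, g.2, hnN _ g.2⟩ c : N) : Ω) = (g : Ω) * (c : Ω) * (g : Ω)⁻¹
    rw [← afun_coe, afun_nHom _ c.2, cj_apply]
  have hZXc : Nat.card ZX = p ^ 2 := by
    rw [Subgroup.card_map_of_injective hιinj, hsh.card_center]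
  set ZZ := Subgroup.zpowers (ι zN) with hZZ
  have hιz : ι zN ∈ Subgroup.center S := by
    obtain ⟨h, hc⟩ := PFiveBasic1.mem_Zs.1 hsh.z_center
    exact hc
  haveI : ZZ.Normal := PGroupsBasic.normal_of_le_center ((Subgroup.zpowers_le).2 hιz)
  have hZZc : Nat.card ZZ = p := by
    rw [Nat.card_zpowers, orderOf_eq_prime (by rw [← map_pow, hzp, map_one])
      fun h => hzn (hιinj (h.trans ι.map_one.symm))]
  have hcommS : ∀ u : N, ι (y u) = ⁅s, ι u⁆ * ι u := fun u => Subtype.ext (by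
    show ((y u : N) : Ω) = ((⁅s, ι u⁆ * ι u : S) : Ω)
    rw [hyv, Subgroup.coe_mul, show ((⁅s, ι u⁆ : S) : Ω) = ⁅(s : Ω), (u : Ω)⁆ from
      map_commutatorElement S.subtype s (ι u), commutatorElement_def, Subgroup.coe_inclusion,
      inv_mul_cancel_right])
  obtain ⟨η, hη⟩ : ∃ η : ℕ, y wN = wN * zN ^ η := by
    have h := PGroupsCritical.commutator_mem_of_succ (p := p) hS (A := ZZ) (B := ZX)
      ((Subgroup.zpowers_le).2 ⟨zN, hzc, rfl⟩) (by rw [hZXc, hZZc, sq]) ⟨wN, hwc, rfl⟩ s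
    obtain ⟨i, hi⟩ := exists_pow (by rw [← map_pow, hzp, map_one]) h
    refine ⟨i, hιinj ?_⟩
    rw [hcommS, hi, map_mul, map_pow, Subgroup.mem_center_iff.1 (pow_mem hιz i) (ι wN)]
  obtain ⟨LX, hLXn, hZL, hLN, hLXc⟩ := PGroupsBasic.exists_normal_succ hS (M := ZX) (N := NX)
    (lt_of_le_of_ne (by rintro _ ⟨c, -, rfl⟩; exact c.2) fun e => by
      have : Nat.card ZX = Nat.card NX := by rw [e]
      rw [hZXc, hNXc] at this
      exact absurd (Nat.pow_right_injective hp.out.two_le this) (by norm_num))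
  haveI := hLXn
  rw [hZXc, ← pow_succ] at hLXc
  set L := LX.comap ι with hL
  haveI : L.Normal := hLXn.comap ι
  set hN' : N := gN⁻¹ * y gN with hhdef
  have hyg : y gN = gN * hN' := (mul_inv_cancel_left _ _).symm
  have hhL : hN' ∈ L := by
    have h1 := PGroupsCritical.commutator_mem_of_succ (p := p) hS (A := LX) (B := NX) hLN
      (by rw [hLXc, hNXc, pow_succ p 3]) (show ι gN ∈ NX from gN.2) s
    show ι hN' ∈ LX
    rw [hhdef, map_mul, hcommS, map_inv]
    have := hLXn.conj_mem _ h1 (ι gN)⁻¹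
    rwa [inv_inv, mul_assoc] at this
  have hyh : hN'⁻¹ * y hN' ∈ Subgroup.center N := by
    have h1 := PGroupsCritical.commutator_mem_of_succ (p := p) hS (A := ZX) (B := LX) hZL
      (by rw [hLXc, hZXc, pow_succ p 2]) hhL s
    obtain ⟨c, hc, hce⟩ := h1
    have e : y hN' = c * hN' := hιinj (by rw [hcommS, map_mul ι c hN', hce])
    rw [e, ← Subgroup.mem_center_iff.1 hc hN', inv_mul_cancel_left]
    exact hc
  have hgEN : gN ∈ EN := gE.2
  have hZEN : Subgroup.center N ≤ EN := fun c hc => hsh.center_le c hc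
  have hhEN : hN' ∉ EN := by
    intro hmem
    have hyE : Subgroup.center N ⊔ Subgroup.zpowers gN ≤ EN.comap y.toMonoidHom := by
      refine sup_le (fun c hc => hZEN (Subgroup.characteristic_iff_le_comap.1
        (inferInstance : (Subgroup.center N).Characteristic) y hc)) ((Subgroup.zpowers_le).2 ?_)
      show y gN ∈ EN
      rw [hyg]; exact mul_mem hgEN hmem
    have hsup : Subgroup.center N ⊔ Subgroup.zpowers gN = EN := by
      refine Subgroup.eq_of_le_of_card_ge (sup_le hZEN ((Subgroup.zpowers_le).2 hgEN)) ?_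
      obtain ⟨j, hj⟩ := IsPGroup.iff_card.1 (hNp.to_subgroup
        (Subgroup.center N ⊔ Subgroup.zpowers gN))
      rw [Nat.card_congr (Subgroup.subgroupOfEquivOfLe hEN).toEquiv, hE3, hj]
      have hlt : p ^ 2 < p ^ j := by
        rw [← hsh.card_center, ← hj]
        refine lt_of_le_of_ne (Subgroup.card_le_of_le le_sup_left) fun e => hgc ?_
        rw [Subgroup.eq_of_le_of_card_ge le_sup_left e.ge]
        exact Subgroup.mem_sup_right (Subgroup.mem_zpowers gN)
      exact Nat.pow_le_pow_right hp.out.pos ((Nat.pow_lt_pow_iff_right hp.out.one_lt).1 hlt)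
    refine hs (show (s : Ω) ∈ N from ⟨s.2, mem_normalizer_of_cj_le hES fun u hu => ?_⟩)
    have h2 : y ⟨u, hEN hu⟩ ∈ EN := (hsup ▸ hyE) (show (⟨u, hEN hu⟩ : N) ∈ EN from hu)
    rw [Subgroup.mem_subgroupOf, hyv] at h2
    exact h2
  have hhc : hN' ∉ Subgroup.center N := fun h => hhEN (hZEN h)
  have hhp : hN' ^ p ∈ Subgroup.center N := by
    have hidx : (ZX.subgroupOf LX).index = p := by
      have h := Subgroup.card_mul_index (ZX.subgroupOf LX)
      rw [Nat.card_congr (Subgroup.subgroupOfEquivOfLe hZL).toEquiv, hZXc, hLXc,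
        pow_succ p 2] at h
      exact Nat.eq_of_mul_eq_mul_left (pow_pos hp.out.pos 2) h
    have := Subgroup.pow_index_mem (ZX.subgroupOf LX) (⟨ι hN', hhL⟩ : LX)
    rw [hidx, Subgroup.mem_subgroupOf] at this
    obtain ⟨c, hc, hce⟩ := this
    have : c = hN' ^ p := hιinj (by rw [map_pow, hce]; rfl)
    rwa [← this]
  have hhENp : hN' ^ p ∈ EN := hZEN hhp
  have hindep : ∀ i j : ℕ, gN ^ i * hN' ^ j ∈ Subgroup.center N → p ∣ i ∧ p ∣ j := by
    intro i j hij
    have hj : hN' ^ j ∈ EN := by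
      have := mul_mem (inv_mem (pow_mem hgEN i)) (hZEN hij)
      rwa [inv_mul_cancel_left] at this
    have hj' := dvd_of_pow_mem hhEN hhENp hj
    obtain ⟨j', rfl⟩ := hj'
    have hjc : hN' ^ (p * j') ∈ Subgroup.center N := by rw [pow_mul]; exact pow_mem hhp j'
    have := mul_mem hij (inv_mem hjc)
    rw [mul_inv_cancel_right] at this
    exact ⟨dvd_of_pow_mem hgc (by rw [hgp]; exact one_mem _) this, dvd_mul_right p j'⟩
  have hgen : ∀ u : N, ∃ i j : ℕ, (gN ^ i * hN' ^ j)⁻¹ * u ∈ Subgroup.center N := by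
    let Φm : Fin p × Fin p → N ⧸ Subgroup.center N := fun i =>
      ((gN ^ (i.1 : ℕ) * hN' ^ (i.2 : ℕ) : N) : N ⧸ Subgroup.center N)
    have hcm : ∀ u w : N ⧸ Subgroup.center N, u * w = w * u := by
      intro u w
      induction u using QuotientGroup.induction_on with
      | _ u =>
        induction w using QuotientGroup.induction_on with
        | _ w =>
          obtain ⟨i, hi⟩ := exists_pow hsh.z_pow (hsh.comm u u.2 w w.2)
          rw [← commutatorElement_eq_one_iff_mul_comm, ← QuotientGroup.mk'_apply,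
            ← QuotientGroup.mk'_apply, ← map_commutatorElement]
          refine (QuotientGroup.eq_one_iff _).2 ?_
          rw [show (⁅u, w⁆ : N) = zN ^ i from Subtype.ext
            ((map_commutatorElement N.subtype u w).trans (hi.trans (by simp [zN])))]
          exact pow_mem hzc i
    have hinj : Function.Injective Φm := by
      intro i j hij
      obtain ⟨d1, hd1⟩ : ∃ d : ℕ, (d : ZMod p) = ((j.1 : ℕ) : ZMod p) - (i.1 : ℕ) :=
        ⟨_, ZMod.natCast_zmod_val _⟩
      obtain ⟨d2, hd2⟩ : ∃ d : ℕ, (d : ZMod p) = ((j.2 : ℕ) : ZMod p) - (i.2 : ℕ) :=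
        ⟨_, ZMod.natCast_zmod_val _⟩
      have hG : (gN : N ⧸ Subgroup.center N) ^ p = 1 := by
        rw [← QuotientGroup.mk_pow, hgp, QuotientGroup.mk_one]
      have hH : (hN' : N ⧸ Subgroup.center N) ^ p = 1 := by
        rw [← QuotientGroup.mk_pow]; exact (QuotientGroup.eq_one_iff _).2 hhp
      have e : Φm i * ((gN ^ d1 * hN' ^ d2 : N) : N ⧸ Subgroup.center N) = Φm j := by
        simp only [Φm, QuotientGroup.mk_mul, QuotientGroup.mk_pow]
        rw [mul_assoc, ← mul_assoc ((hN' : N ⧸ Subgroup.center N) ^ (i.2 : ℕ)),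
          hcm ((hN' : N ⧸ Subgroup.center N) ^ (i.2 : ℕ)), mul_assoc, ← mul_assoc, ← pow_add,
          ← pow_add, pow_cast hG (j := (j.1 : ℕ)) (by push_cast; rw [hd1]; ring),
          pow_cast hH (j := (j.2 : ℕ)) (by push_cast; rw [hd2]; ring)]
      rw [hij, mul_eq_left, QuotientGroup.eq_one_iff] at e
      obtain ⟨h1, h2⟩ := hindep _ _ e
      rw [← ZMod.natCast_eq_zero_iff, hd1, sub_eq_zero, ZMod.natCast_eq_natCast_iff',
        Nat.mod_eq_of_lt i.1.2, Nat.mod_eq_of_lt j.1.2] at h1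
      rw [← ZMod.natCast_eq_zero_iff, hd2, sub_eq_zero, ZMod.natCast_eq_natCast_iff',
        Nat.mod_eq_of_lt i.2.2, Nat.mod_eq_of_lt j.2.2] at h2
      exact Prod.ext (Fin.ext h1.symm) (Fin.ext h2.symm)
    have hbij := (Nat.bijective_iff_injective_and_card Φm).2 ⟨hinj, by
      have h := Subgroup.card_mul_index (Subgroup.center N)
      rw [hsh.card_center, hsh.card_N, show p ^ 4 = p ^ 2 * p ^ 2 by ring] at h
      rw [← Subgroup.index_eq_card, Nat.eq_of_mul_eq_mul_left (pow_pos hp.out.pos 2) h,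
        Nat.card_prod, Nat.card_eq_fintype_card, Fintype.card_fin, sq]⟩
    intro u
    obtain ⟨i, hi⟩ := hbij.2 (u : N ⧸ Subgroup.center N)
    exact ⟨i.1, i.2, QuotientGroup.eq.1 hi⟩
  have hcommN : ∀ u w : N, ⁅u, w⁆ ∈ Subgroup.zpowers zN := fun u w => by
    obtain ⟨i, hi⟩ := exists_pow hsh.z_pow (hsh.comm u u.2 w w.2)
    rw [show (⁅u, w⁆ : N) = zN ^ i from Subtype.ext
      ((map_commutatorElement N.subtype u w).trans (hi.trans (by simp [zN])))]
    exact pow_mem (Subgroup.mem_zpowers _) i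
  have hgh : ⁅gN, hN'⁆ ≠ 1 := by
    intro h
    refine hgc (Subgroup.mem_center_iff.2 fun u => ?_)
    obtain ⟨i, j, hu⟩ := hgen u
    have e : u = gN ^ i * hN' ^ j * ((gN ^ i * hN' ^ j)⁻¹ * u) := (mul_inv_cancel_left _ _).symm
    have hc1 : Commute gN (gN ^ i * hN' ^ j) := ((Commute.refl gN).pow_right i).mul_right
      (Commute.pow_right (commutatorElement_eq_one_iff_mul_comm.1 h) j)
    rw [e]
    exact (hc1.mul_right (Subgroup.mem_center_iff.1 hu gN)).eq.symm
  have hyK : y ∈ F.autGroup N :=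
    autInducedBy_le hNS ((autInducedBy_eq_range S N).ge ⟨_, rfl⟩)
  have hyz : y zN = zN := hιinj (by
    rw [hcommS, commutatorElement_eq_one_iff_mul_comm.2 (Subgroup.mem_center_iff.1 hιz s), one_mul])
  have hT' : PFiveTwist1.Twist (p := p) (F.autGroup N) y zN wN gN hN' η := by
    refine ⟨hzc, hzp, hzn, hwc, hwp, hcg, hcommN, by rw [hgp]; exact one_mem _, hhp, hgen, hindep,
      hgh, hyK, hyz, hη, hyg, hyh, fun k hk hkz hkw hkh hkg => ?_⟩
    -- the flag
    set Zn := Subgroup.center N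
    set ZzN := Subgroup.zpowers zN
    haveI : ZzN.Normal := PGroupsBasic.normal_of_le_center ((Subgroup.zpowers_le).2 hzc)
    let Y : ℕ → Subgroup Ω := fun i =>
      if i = 0 then ⊥ else if i = 1 then ZzN.map N.subtype else if i = 2 then Zn.map N.subtype
      else if i = 3 then L.map N.subtype else N
    have hZnL : Zn ≤ L := fun c hc => hZL ⟨c, hc, rfl⟩
    have hLc : Nat.card L = p ^ 3 := by
      rw [← Subgroup.card_map_of_injective (K := L) hιinj, hL, Subgroup.map_comap_eq_self, hLXc]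
      exact fun u hu => ⟨⟨u, hLN hu⟩, rfl⟩
    have hker2 : ∀ l ∈ L, (l : N)⁻¹ * k l ∈ Zn := by
      have hsup : Zn ⊔ Subgroup.zpowers hN' = L := by
        refine Subgroup.eq_of_le_of_card_ge (sup_le hZnL ((Subgroup.zpowers_le).2 hhL)) ?_
        obtain ⟨j, hj⟩ := IsPGroup.iff_card.1 (hNp.to_subgroup (Zn ⊔ Subgroup.zpowers hN'))
        rw [hLc, hj]
        have hlt : p ^ 2 < p ^ j := by
          rw [← hsh.card_center, ← hj]
          refine lt_of_le_of_ne (Subgroup.card_le_of_le le_sup_left) fun e => hhc ?_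
          rw [Subgroup.eq_of_le_of_card_ge le_sup_left e.ge]
          exact Subgroup.mem_sup_right (Subgroup.mem_zpowers hN')
        exact Nat.pow_le_pow_right hp.out.pos ((Nat.pow_lt_pow_iff_right hp.out.one_lt).1 hlt)
      intro l hl
      have hle : Zn ⊔ Subgroup.zpowers hN' ≤
          ((QuotientGroup.mk' Zn).comp k.toMonoidHom).eqLocus (QuotientGroup.mk' Zn) := by
        refine sup_le (fun c hc => ?_) ((Subgroup.zpowers_le).2 (QuotientGroup.eq.2 hkh).symm)
        show ((k c : N) : N ⧸ Zn) = (c : N ⧸ Zn)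
        rw [(QuotientGroup.eq_one_iff _).2 hc, QuotientGroup.eq_one_iff]
        exact Subgroup.characteristic_iff_le_comap.1 (inferInstance : Zn.Characteristic) k hc
      exact QuotientGroup.eq.1 (show ((k l : N) : N ⧸ Zn) = (l : N ⧸ Zn) from
        hle (hsup.ge hl)).symm
    have hker3 : ∀ u : N, u⁻¹ * k u ∈ L := by
      intro u
      obtain ⟨i, j, hu⟩ := hgen u
      let πL := QuotientGroup.mk' L
      have hπc : ∀ c ∈ Zn, πL c = 1 := fun c hc => (QuotientGroup.eq_one_iff c).2 (hZnL hc)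
      have hπh : πL hN' = 1 := (QuotientGroup.eq_one_iff _).2 hhL
      obtain ⟨j0, hj0⟩ := hkg
      have hπkg : πL (k gN) = πL gN := by
        rw [← mul_inv_cancel_left (gN * hN' ^ j0) (k gN), map_mul, hπc _ hj0, mul_one, map_mul,
          map_pow, hπh, one_pow, mul_one]
      have hπkh : πL (k hN') = 1 := by
        rw [← mul_inv_cancel_left hN' (k hN'), map_mul, hπh, hπc _ hkh, one_mul]
      have hπkc : πL (k ((gN ^ i * hN' ^ j)⁻¹ * u)) = 1 :=
        hπc _ (Subgroup.characteristic_iff_le_comap.1 (inferInstance : Zn.Characteristic) k hu)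
      refine QuotientGroup.eq.1 (Eq.symm ?_)
      show πL (k u) = πL u
      conv_lhs => rw [← mul_inv_cancel_left (gN ^ i * hN' ^ j) u]
      conv_rhs => rw [← mul_inv_cancel_left (gN ^ i * hN' ^ j) u]
      rw [map_mul k, map_mul k, map_pow k, map_pow k, map_mul, map_mul, map_pow, map_pow, hπkg,
        hπkh, hπkc, map_mul, map_mul, map_pow, map_pow, hπh, hπc _ hu]
    have hker1 : ∀ c ∈ Zn, (c : N)⁻¹ * k c ∈ ZzN := by
      intro c hc
      obtain ⟨i, j, rfl⟩ := hcg c hc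
      refine QuotientGroup.eq.1 (Eq.symm ?_)
      show QuotientGroup.mk' ZzN (k (zN ^ i * wN ^ j)) = QuotientGroup.mk' ZzN (zN ^ i * wN ^ j)
      have e : QuotientGroup.mk' ZzN (k wN) = QuotientGroup.mk' ZzN wN :=
        (QuotientGroup.eq.2 hkw).symm
      rw [map_mul k, map_pow k, map_pow k, hkz, map_mul, map_mul, map_pow, map_pow, map_pow, e]
    have hmemY : ∀ (K : Subgroup N) {u : Ω}, u ∈ K.map N.subtype → ∃ h : u ∈ N, (⟨u, h⟩ : N) ∈ K :=
      fun K u hu => by obtain ⟨v, hv, rfl⟩ := hu; exact ⟨v.2, hv⟩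
    have hstep : ∀ (K K' : Subgroup N), (∀ l ∈ K', (l : N)⁻¹ * k l ∈ K) →
        ∀ u ∈ K'.map N.subtype, u⁻¹ * afun k u ∈ K.map N.subtype := by
      rintro K K' hK _ ⟨l, hl, rfl⟩
      exact ⟨_, hK l hl, by
        show ((l⁻¹ * k l : N) : Ω) = (l : Ω)⁻¹ * afun k (l : Ω)
        rw [afun_coe, Subgroup.coe_mul, Subgroup.coe_inv]⟩
    have hnormK : ∀ (K : Subgroup N), (K.map ι).Normal → ∀ g ∈ normalizerIn S N,
        ∀ u ∈ K.map N.subtype, cj g u ∈ K.map N.subtype := by
      rintro K hK g hg _ ⟨l, hl, rfl⟩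
      obtain ⟨l', hl', he⟩ := hK.conj_mem (ι l) ⟨l, hl, rfl⟩ ⟨g, hg.1⟩
      exact ⟨l', hl', (congrArg Subtype.val he).trans rfl⟩
    have hY0 : Y 0 = ⊥ := rfl
    have hY1 : Y 1 = ZzN.map N.subtype := rfl
    have hY2 : Y 2 = Zn.map N.subtype := rfl
    have hY3 : Y 3 = L.map N.subtype := rfl
    have hY4 : Y 4 = N := rfl
    have hst : ∀ i < 4, ∀ u ∈ Y (i + 1), u⁻¹ * afun k u ∈ Y i := by
      intro i hi u hu
      interval_cases i
      · rw [hY1] at hu
        obtain ⟨l, hl, rfl⟩ := hu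
        obtain ⟨e, he⟩ := exists_pow hzp hl
        rw [hY0, Subgroup.mem_bot, Subgroup.coe_subtype, afun_coe, he, map_pow, hkz, inv_mul_cancel]
      · rw [hY2] at hu; rw [hY1]; exact hstep _ _ hker1 u hu
      · rw [hY3] at hu; rw [hY2]; exact hstep _ _ hker2 u hu
      · rw [hY4] at hu; rw [hY3]
        exact hstep _ ⊤ (fun l _ => hker3 l) u ⟨⟨u, hu⟩, Subgroup.mem_top _, rfl⟩
    have hmono : ∀ i < 4, Y i ≤ Y (i + 1) := by
      intro i hi
      interval_cases i
      · exact bot_le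
      · exact Subgroup.map_mono ((Subgroup.zpowers_le).2 hzc)
      · exact Subgroup.map_mono hZnL
      · exact Subgroup.map_subtype_le L
    have hcardY : ∀ i < 4, Nat.card (Y (i + 1)) = Nat.card (Y i) * p := by
      intro i hi
      have c1 : Nat.card (Y 1) = p := by
        rw [hY1, Subgroup.card_map_of_injective N.subtype_injective, Nat.card_zpowers,
          orderOf_eq_prime hzp hzn]
      have c2 : Nat.card (Y 2) = p ^ 2 := by
        rw [hY2, Subgroup.card_map_of_injective N.subtype_injective, hsh.card_center]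
      have c3 : Nat.card (Y 3) = p ^ 3 := by
        rw [hY3, Subgroup.card_map_of_injective N.subtype_injective, hLc]
      interval_cases i
      · rw [c1, hY0, Subgroup.card_bot, one_mul]
      · rw [c2, c1, sq]
      · rw [c3, c2, ← pow_succ]
      · rw [c3, show Nat.card (Y 4) = p ^ 4 from hsh.card_N, ← pow_succ]
    have hnorm : ∀ g ∈ normalizerIn S N, ∀ i ≤ 4, ∀ u ∈ Y i, cj g u ∈ Y i := by
      intro g hg i hi u hu
      interval_cases i
      · rw [hY0, Subgroup.mem_bot] at hu ⊢; rw [hu, cj_apply, mul_one, mul_inv_cancel]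
      · refine hnormK ZzN ?_ g hg u hu
        rw [show ZzN.map ι = ZZ from MonoidHom.map_zpowers ι zN]; infer_instance
      · exact hnormK Zn hZXn g hg u hu
      · refine hnormK L ?_ g hg u hu
        rw [hL, Subgroup.map_comap_eq_self fun u hu => ⟨⟨u, hLN hu⟩, rfl⟩]; exact hLXn
      · exact cj_mem_of_normalizer hg.2 hu
    have hYP : ∀ i ≤ 4, Y i ≤ N := by
      intro i hi
      interval_cases i
      · exact bot_le
      all_goals first | exact Subgroup.map_subtype_le _ | exact le_rfl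
    have hinv : ∀ i ≤ 4, ∀ u ∈ Y i, afun k u ∈ Y i := by
      intro i hi u hu
      rcases Nat.eq_zero_or_pos i with rfl | h0
      · rw [hY0, Subgroup.mem_bot] at hu ⊢
        rw [hu, afun_apply _ N.one_mem]
        exact congrArg Subtype.val (map_one k)
      · obtain ⟨i', rfl⟩ : ∃ i', i = i' + 1 := ⟨i - 1, by omega⟩
        rw [← mul_inv_cancel_left u (afun k u)]
        exact mul_mem hu (hmono i' (by omega) (hst i' (by omega) u hu))
    have hmem := PFiveKit1.mem_autInducedBy_of_flag hS hF hfullN Y hY0 hY4 hmono hYP hcardY hnorm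
      hk hinv hst
    obtain ⟨g0, hg0, hg0n, hg0e⟩ := mem_autInducedBy.1 hmem
    obtain ⟨m, n, hmn⟩ : ∃ (m : ℕ) (n : N), (⟨g0, hg0⟩ : S) = ι n * s ^ m := by
      have hsp : (s : S ⧸ NX) ^ p = 1 := by
        rw [← QuotientGroup.mk_pow, QuotientGroup.eq_one_iff, ← hNXi]; exact NX.pow_index_mem s
      have hgenQ : ∀ u : S ⧸ NX, u ∈ Subgroup.zpowers (s : S ⧸ NX) := by
        haveI : Fact (Nat.card (S ⧸ NX)).Prime := ⟨by rw [← Subgroup.index_eq_card, hNXi]; exact hp.out⟩
        intro u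
        exact mem_zpowers_of_prime_card rfl fun h => hs ((QuotientGroup.eq_one_iff s).1 h)
      obtain ⟨m, hm⟩ := exists_pow hsp (hgenQ ((⟨g0, hg0⟩ : S) : S ⧸ NX))
      rw [← QuotientGroup.mk_pow] at hm
      have hmem' : (⟨g0, hg0⟩ : S) * (s ^ m)⁻¹ ∈ NX := by
        rw [← QuotientGroup.eq_one_iff, QuotientGroup.mk_mul, QuotientGroup.mk_inv, hm,
          mul_inv_cancel]
      exact ⟨m, ⟨_, hmem'⟩, (inv_mul_cancel_right _ _).symm⟩
    refine ⟨m, n, afun_ext fun u hu => ?_⟩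
    have hpow : ∀ (m : ℕ) (v : N), (((y ^ m) v : N) : Ω) = cj ((s : Ω) ^ m) (v : Ω) := by
      intro m
      induction m with
      | zero => intro v; simp [cj_apply]
      | succ m ih =>
        intro v
        rw [pow_succ' y, MulAut.mul_apply, hyv, ih, pow_succ', ← cj_cj, cj_apply (s : Ω)]
    rw [hg0e u hu, afun_apply _ hu, MulAut.mul_apply, MulAut.conj_apply, Subgroup.coe_mul,
      Subgroup.coe_mul, hpow, Subgroup.coe_inv,
      show g0 = (n : Ω) * (s : Ω) ^ m from congrArg Subtype.val hmn, ← cj_cj, cj_apply (n : Ω)]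
  -- conclusions
  obtain ⟨f, hf, hf1, hf2, hf3⟩ := htorus (-1) (neg_ne_zero.2 one_ne_zero)
  obtain ⟨k1, -, a', b', ζ', hcase, -, -, -, hu, -⟩ := PFiveTwist1.main hT'
    (neg_ne_zero.2 (one_ne_zero (α := ZMod p))) hf hf1 hf2 (by rw [hf3, inv_mul_cancel]; exact one_mem _)
  have hneg : (1 : ZMod p) ≠ -1 := fun h => by
    have h2 : ((2 : ℕ) : ZMod p) = 0 := by push_cast; linear_combination h
    rw [ZMod.natCast_eq_zero_iff] at h2
    have := Nat.le_of_dvd two_pos h2
    omega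
  have huz : hN'⁻¹ * y hN' ∈ Subgroup.zpowers zN := by
    refine hu.resolve_right fun h2 => hneg ?_
    rcases hcase with ⟨rfl, rfl, -⟩ | ⟨rfl, rfl, -⟩ <;> simpa [inv_neg] using h2
  obtain ⟨e0, he0⟩ := exists_pow hzp huz
  obtain ⟨κ, hκ⟩ := exists_pow hzp (hcommN gN hN')
  have hκ0 : (κ : ZMod p) ≠ 0 := fun h0 => hgh (by
    rw [hκ, pow_cast hzp (show (κ : ZMod p) = (0 : ℕ) by simpa using h0), pow_zero])
  obtain ⟨e, he⟩ : ∃ e : ℕ, (e : ZMod p) = -((e0 : ZMod p) / κ) := ⟨_, ZMod.natCast_zmod_val _⟩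
  set s' : S := ι gN ^ e * s with hs'def
  have hgeh : gN ^ e * hN' = zN ^ (κ * e) * hN' * gN ^ e := by
    have h1 : ⁅gN ^ e, hN'⁆ = zN ^ (κ * e) := by
      rw [PGroupsBasic.commutatorElement_pow_left
        ((Subgroup.zpowers_le).2 hzc (hcommN gN hN')), hκ, pow_mul]
    rw [← h1, commutatorElement_def]; group
  have hs'conj : ∀ u : N, s' * ι u * s'⁻¹ = ι (gN ^ e * y u * (gN ^ e)⁻¹) := fun u => Subtype.ext (by
    simp only [hs'def, Subgroup.coe_mul, Subgroup.coe_inv, SubmonoidClass.coe_pow,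
      Subgroup.coe_inclusion, ι, hyv]
    group)
  have hsh' : s' * ι hN' * s'⁻¹ = ι hN' := by
    rw [hs'conj]
    congr 1
    have e1 : y hN' = zN ^ e0 * hN' := by
      rw [← he0, ← Subgroup.mem_center_iff.1 hyh hN', mul_inv_cancel_left]
    rw [e1, ← mul_assoc, Subgroup.mem_center_iff.1 (pow_mem hzc e0) (gN ^ e), mul_assoc (zN ^ e0),
      hgeh, ← mul_assoc, ← mul_assoc, mul_inv_cancel_right, ← pow_add,
      pow_cast hzp (show ((e0 + κ * e : ℕ) : ZMod p) = (0 : ℕ) by
        push_cast; rw [he, mul_neg, mul_div_cancel₀ _ hκ0, add_neg_cancel]),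
      pow_zero, one_mul]
  have hs'N : s' ∉ NX := fun h => hs ((Subgroup.mul_mem_cancel_left NX (pow_mem gN.2 e :
    ι gN ^ e ∈ NX)).1 h)
  by_cases hη0 : p ∣ η
  · -- an abelian subgroup of index `p`
    exfalso
    have hyw : y wN = wN := by
      obtain ⟨d, rfl⟩ := hη0
      rw [hη, pow_mul, hzp, one_pow, mul_one]
    have hcomw : ∀ c ∈ Subgroup.center N, s' * ι c = ι c * s' := by
      intro c hc
      obtain ⟨i, j, rfl⟩ := hcg c hc
      rw [← mul_inv_eq_iff_eq_mul, hs'conj]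
      congr 1
      rw [map_mul y, map_pow y, map_pow y, hyz, hyw, Subgroup.mem_center_iff.1
        (mul_mem (pow_mem hzc i) (pow_mem hwc j)) (gN ^ e), mul_inv_cancel_right]
    set A : Subgroup S := Subgroup.closure
      (insert s' (insert (ι hN') ((Subgroup.center N).map ι : Set S))) with hA
    have hAc : IsMulCommutative A := by
      have hcz : ∀ u ∈ (Subgroup.center N).map ι, ∀ v : N, u * ι v = ι v * u := by
        rintro _ ⟨c, hc, rfl⟩ v
        rw [← map_mul, ← map_mul, Subgroup.mem_center_iff.1 hc v]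
      refine PGroupsBasic.isMulCommutative_of_le_centralizer ?_
      rw [hA, Subgroup.closure_le]
      intro u hu
      rw [SetLike.mem_coe, Subgroup.centralizer_closure, Subgroup.mem_centralizer_iff]
      intro v hv
      rcases hu with rfl | rfl | hu <;> rcases hv with rfl | rfl | hv
      · rfl
      · exact (mul_inv_eq_iff_eq_mul.1 hsh').symm
      · obtain ⟨c, hc, rfl⟩ := hv; exact (hcomw c hc).symm
      · exact mul_inv_eq_iff_eq_mul.1 hsh'
      · rfl
      · exact hcz v hv hN'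
      · obtain ⟨c, hc, rfl⟩ := hu; exact hcomw c hc
      · exact (hcz u hu hN').symm
      · obtain ⟨c, hc, rfl⟩ := hv; exact (hcz u hu c).symm
    obtain ⟨j, hj⟩ := IsPGroup.iff_card.1 (hS.to_subgroup A)
    have hj4 : 4 ≤ j := by
      set B := (Subgroup.center N ⊔ Subgroup.zpowers hN').map ι
      have hBA : B ≤ A := by
        rw [show B = (Subgroup.center N ⊔ Subgroup.zpowers hN').map ι from rfl, Subgroup.map_sup,
          MonoidHom.map_zpowers]
        exact sup_le (fun u hu => Subgroup.subset_closure (Or.inr (Or.inr hu)))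
          ((Subgroup.zpowers_le).2 (Subgroup.subset_closure (Or.inr (Or.inl rfl))))
      obtain ⟨i, hi⟩ := IsPGroup.iff_card.1 (hS.to_subgroup B)
      have h1 : p ^ 2 < p ^ i := by
        rw [← hi, Subgroup.card_map_of_injective hιinj, ← hsh.card_center]
        refine lt_of_le_of_ne (Subgroup.card_le_of_le le_sup_left) fun e => hhc ?_
        rw [Subgroup.eq_of_le_of_card_ge le_sup_left e.ge]
        exact Subgroup.mem_sup_right (Subgroup.mem_zpowers hN')
      have h2 : p ^ i < p ^ j := by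
        rw [← hi, ← hj]
        refine lt_of_le_of_ne (Subgroup.card_le_of_le hBA) fun e => hs'N ?_
        have := (Subgroup.eq_of_le_of_card_ge hBA e.ge).ge
          (Subgroup.subset_closure (Or.inl rfl) : s' ∈ A)
        obtain ⟨v, -, hv⟩ := this
        rw [← hv]; exact v.2
      have := (Nat.pow_lt_pow_iff_right hp.out.one_lt).1 h1
      have := (Nat.pow_lt_pow_iff_right hp.out.one_lt).1 h2
      omega
    obtain ⟨B, hB⟩ := Sylow.exists_subgroup_card_pow_prime p (G := A) (n := 4)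
      (hj ▸ pow_dvd_pow p hj4)
    refine hnab ((B.map A.subtype).map S.subtype) (Subgroup.map_subtype_le _) ?_
      (PGroupsBasic.isMulCommutative_of_forall ?_)
    · rw [Subgroup.card_map_of_injective S.subtype_injective,
        Subgroup.card_map_of_injective A.subtype_injective, hB]
    · rintro _ ⟨_, ⟨u, -, rfl⟩, rfl⟩ _ ⟨_, ⟨v, -, rfl⟩, rfl⟩
      exact congrArg (fun w : A => ((w : S) : Ω)) (hAc.is_comm.comm u v)
  by_cases hp5 : 5 ≤ p
  · exfalso
    have h2 : (2 : ZMod p) ≠ 0 := fun h0 => by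
      have h2' : ((2 : ℕ) : ZMod p) = 0 := by push_cast; exact h0
      rw [ZMod.natCast_eq_zero_iff] at h2'
      have := Nat.le_of_dvd two_pos h2'
      omega
    obtain ⟨f, hf, hf1, hf2, hf3⟩ := htorus 2 h2
    obtain ⟨k1, -, a', b', ζ', hcase, -, -, -, -, hw⟩ := PFiveTwist1.main hT' h2 hf hf1 hf2
      (by rw [hf3, inv_mul_cancel]; exact one_mem _)
    have h3 : ((3 : ℕ) : ZMod p) = 0 := by
      push_cast
      have h4 := hw.resolve_left hη0
      rcases hcase with ⟨rfl, rfl, rfl⟩ | ⟨rfl, rfl, rfl⟩ <;> field_simp at h4 <;>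
        linear_combination -h4
    rw [ZMod.natCast_eq_zero_iff] at h3
    have := Nat.le_of_dvd three_pos h3
    omega
  -- the prime three
  have hpthree : p = 3 := by
    rcases Nat.lt_or_ge p 4 with h | h
    · omega
    · have : p = 4 := by omega
      exact absurd (this ▸ hp.out) (by norm_num)
  subst hpthree
  obtain ⟨i1, hi1⟩ : ∃ i : ℕ, gN⁻¹ * (gN ^ e * y gN * (gN ^ e)⁻¹) = hN' * zN ^ i := by
    refine ⟨κ * e, ?_⟩
    have e2 : gN ^ e * y gN * (gN ^ e)⁻¹ = gN * (gN ^ e * hN' * (gN ^ e)⁻¹) := by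
      rw [hyg, ← mul_assoc (gN ^ e), (Commute.pow_self gN e).eq]; group
    rw [e2, inv_mul_cancel_left, hgeh, mul_inv_cancel_right,
      Subgroup.mem_center_iff.1 (pow_mem hzc _) hN']
  set h' : N := hN' * zN ^ i1
  have hh'c : h' ∈ L := mul_mem hhL (pow_mem (show zN ∈ L from hZL ⟨zN, hzc, rfl⟩) _)
  have hcardZ : Nat.card (Subgroup.center S) = 3 := by
    rcases (show k = 1 ∨ k = 2 by omega) with rfl | rfl
    · rw [hk, pow_one]
    exfalso
    have hle : Subgroup.center S ≤ ZX := fun u hu => by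
      obtain ⟨huE, huc⟩ := hZN (u : Ω) (PFiveBasic1.mem_Zs.2 ⟨u.2, hu⟩)
      exact ⟨_, huc, rfl⟩
    have heq := Subgroup.eq_of_le_of_card_ge hle (by rw [hk, hZXc])
    have hwS : ι wN ∈ Subgroup.center S := heq.ge ⟨wN, hwc, rfl⟩
    refine hη0 ((ZMod.natCast_eq_zero_iff η 3).1 ?_)
    have h5 : ι (y wN) = ι wN := by
      rw [hcommS, commutatorElement_eq_one_iff_mul_comm.2 (Subgroup.mem_center_iff.1 hwS s), one_mul]
    have h6 := hιinj h5
    rw [hη, mul_eq_left, ← pow_zero zN] at h6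
    simpa using cast_of_pow hzp hzn h6
  have hrel : PFiveFix1.Rel 3 s' (ι gN) (ι h') (ι wN) (ι zN) η κ := by
    refine ⟨hcardZ, hιz, by rw [← map_pow, hzp, map_one], fun h => hzn (hιinj (by rw [h, map_one])),
      ?_, ?_, ?_, hη0, ?_, ?_, ?_, fun hd => hκ0 ((ZMod.natCast_eq_zero_iff κ 3).2 hd), ?_, ?_,
      ?_, ?_, ?_⟩
    · rw [hs'conj, ← map_mul, ← hi1, mul_inv_cancel_left]
    · have hz' : s' * ι zN ^ i1 = ι zN ^ i1 * s' :=
        (Subgroup.mem_center_iff.1 (pow_mem hιz i1) s')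
      rw [map_mul, map_pow, ← mul_assoc, mul_inv_eq_iff_eq_mul.1 hsh', mul_assoc, hz', ← mul_assoc]
    · rw [hs'conj, ← map_pow, ← map_mul, hη, ← mul_assoc, Subgroup.mem_center_iff.1 hwc (gN ^ e),
        mul_assoc wN, Subgroup.mem_center_iff.1 (pow_mem hzc η) (gN ^ e), ← mul_assoc,
        mul_inv_cancel_right]
    · rw [← map_mul, ← map_mul, Subgroup.mem_center_iff.1 hwc gN]
    · rw [← map_mul, ← map_mul, Subgroup.mem_center_iff.1 hwc h']
    · rw [← map_commutatorElement, ← map_pow, ← hκ]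
      congr 1
      have hzz : ⁅gN, zN ^ i1⁆ = 1 := commutatorElement_eq_one_iff_mul_comm.2
        (Subgroup.mem_center_iff.1 (pow_mem hzc i1) gN)
      rw [PGroupsBasic.commutatorElement_mul_right_of_central (hzz ▸ one_mem _), hzz, mul_one]
    · rw [← map_pow, hgp, map_one]
    · rw [← map_pow, hwp, map_one]
    · intro u
      have hgenQ : ∀ u : S ⧸ NX, u ∈ Subgroup.zpowers (s' : S ⧸ NX) := by
        haveI : Fact (Nat.card (S ⧸ NX)).Prime := ⟨by rw [← Subgroup.index_eq_card, hNXi]; exact hp.out⟩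
        intro u
        exact mem_zpowers_of_prime_card rfl fun h => hs'N ((QuotientGroup.eq_one_iff s').1 h)
      have hsp : (s' : S ⧸ NX) ^ 3 = 1 := by
        rw [← QuotientGroup.mk_pow, QuotientGroup.eq_one_iff, ← hNXi]; exact NX.pow_index_mem s'
      obtain ⟨m, hm⟩ := exists_pow hsp (hgenQ (u : S ⧸ NX))
      have hmem : (s' ^ m)⁻¹ * u ∈ NX := by
        rw [← QuotientGroup.eq_one_iff, QuotientGroup.mk_mul, QuotientGroup.mk_inv, hm,
          QuotientGroup.mk_pow, inv_mul_cancel]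
      obtain ⟨i, j, hij⟩ := hgen ⟨_, hmem⟩
      obtain ⟨a1, b1, hab1⟩ := hcg _ hij
      obtain ⟨a2, ha2⟩ : ∃ a2 : ℕ, hN' ^ j * zN ^ a1 = h' ^ j * zN ^ a2 := by
        obtain ⟨d, hd⟩ : ∃ d : ℕ, (d : ZMod 3) = (a1 : ZMod 3) - i1 * j := ⟨_, ZMod.natCast_zmod_val _⟩
        refine ⟨d, ?_⟩
        rw [show h' ^ j = hN' ^ j * (zN ^ i1) ^ j from
          (Commute.mul_pow (Subgroup.mem_center_iff.1 (pow_mem hzc i1) hN') j), mul_assoc,
          ← pow_mul, ← pow_add, pow_cast hzp (show ((a1 : ℕ) : ZMod 3) = ((i1 * j + d : ℕ)) by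
            push_cast; rw [hd]; ring)]
      refine ⟨m, i, j, b1, a2, ?_⟩
      have e3 : (⟨_, hmem⟩ : N) = gN ^ i * h' ^ j * wN ^ b1 * zN ^ a2 := by
        rw [← mul_inv_cancel_left (gN ^ i * hN' ^ j) (⟨_, hmem⟩ : N), hab1, mul_assoc (gN ^ i),
          ← mul_assoc (hN' ^ j), ha2, mul_assoc (h' ^ j),
          Subgroup.mem_center_iff.1 (pow_mem hwc b1) (zN ^ a2)]
        simp only [mul_assoc]
      have e4 : u = s' ^ m * ι ⟨_, hmem⟩ := (mul_inv_cancel_left _ _).symm
      rw [e4, e3]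
      simp only [map_mul, map_pow, mul_assoc]
    · have hmem : s' ^ 3 ∈ NX := hNXi ▸ NX.pow_index_mem s'
      obtain ⟨i, j, hij⟩ := hgen ⟨_, hmem⟩
      obtain ⟨a1, b1, hab1⟩ := hcg _ hij
      obtain ⟨a2, ha2⟩ : ∃ a2 : ℕ, hN' ^ j * zN ^ a1 = h' ^ j * zN ^ a2 := by
        obtain ⟨d, hd⟩ : ∃ d : ℕ, (d : ZMod 3) = (a1 : ZMod 3) - i1 * j := ⟨_, ZMod.natCast_zmod_val _⟩
        refine ⟨d, ?_⟩
        rw [show h' ^ j = hN' ^ j * (zN ^ i1) ^ j from
          (Commute.mul_pow (Subgroup.mem_center_iff.1 (pow_mem hzc i1) hN') j), mul_assoc,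
          ← pow_mul, ← pow_add, pow_cast hzp (show ((a1 : ℕ) : ZMod 3) = ((i1 * j + d : ℕ)) by
            push_cast; rw [hd]; ring)]
      refine ⟨i, j, b1, a2, ?_⟩
      have e3 : (⟨_, hmem⟩ : N) = gN ^ i * h' ^ j * wN ^ b1 * zN ^ a2 := by
        rw [← mul_inv_cancel_left (gN ^ i * hN' ^ j) (⟨_, hmem⟩ : N), hab1, mul_assoc (gN ^ i),
          ← mul_assoc (hN' ^ j), ha2, mul_assoc (h' ^ j),
          Subgroup.mem_center_iff.1 (pow_mem hwc b1) (zN ^ a2)]
        simp only [mul_assoc]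
      have e4 : s' ^ 3 = ι ⟨_, hmem⟩ := rfl
      rw [e4, e3]
      simp only [map_mul, map_pow]
    · obtain ⟨a1, b1, hab1⟩ := hcg _ hhp
      refine ⟨b1, a1 + i1 * 3, ?_⟩
      rw [← map_pow, ← map_pow, ← map_pow, ← map_mul]
      congr 1
      rw [show h' ^ 3 = hN' ^ 3 * (zN ^ i1) ^ 3 from
        (Commute.mul_pow (Subgroup.mem_center_iff.1 (pow_mem hzc i1) hN') 3), hab1,
        Subgroup.mem_center_iff.1 (pow_mem hwc b1) (zN ^ a1), mul_assoc, ← pow_mul, ← pow_add]
  obtain ⟨hw1, hw2, hw3⟩ := PFiveFix1.fix hrel hS (by norm_num)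
  refine Or.inr ⟨rfl, hw2, ι wN, hw1, fun β => ?_⟩
  obtain ⟨b, hb, hb'⟩ := hw3 β
  have hb1 : ((b ^ 2 : ℕ) : ZMod 3) = (1 : ℕ) := by
    rw [← ZMod.natCast_eq_zero_iff] at hb
    push_cast
    exact sq_three _ hb
  rwa [pow_cast (by rw [← map_pow, hwp, map_one]) hb1, pow_one] at hb'

end Cfsg.Agent.PFiveCube2
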