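import Mathlib
import Cfsg.Prelude.Def_FusionSystem
import Cfsg.Agent.Lib.PFiveLinear1
import Cfsg.Agent.Lib.PFiveKit1
import Cfsg.Agent.Lib.PFiveBasic1
import Cfsg.Agent.Lib.PFiveCube1
import Cfsg.Agent.Lib.FusionInduct88
import Cfsg.Agent.Lib.FusionFocal

/-!
A functional on `S` fixed by the automorphisms of `S` and killing the transvection centres of all
essential subgroups is fixed by the whole system.
-/

set_option autoImplicit false
set_option linter.unusedSectionVars false
set_option maxHeartbeats 800000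

namespace Cfsg.Agent.PFiveFocal1

open scoped commutatorElement
open Cfsg Cfsg.FusionSystem Cfsg.Agent.FusionSysBasic Cfsg.Agent.FusionSysSaturated
  Cfsg.Agent.FusionSysNormal Cfsg.Agent.FusionSysChain Cfsg.Agent.FusionSysAlperin
open PFiveLinear1

section Linear

variable {p : ℕ} [hp : Fact p.Prime] {V : Type*} [AddCommGroup V] [Module (ZMod p) V]
  {H : Type*} [Group H] {ρ : H →* Module.End (ZMod p) V}

theorem card_span_le (z : V) : Nat.card ((ZMod p) ∙ z : Submodule (ZMod p) V) ≤ p := by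
  have h := Nat.card_le_card_of_surjective
    (fun c : ZMod p => (⟨c • z, Submodule.smul_mem _ c (Submodule.mem_span_singleton_self z)⟩ :
      ((ZMod p) ∙ z : Submodule (ZMod p) V)))
    (fun ⟨v, hv⟩ => by
      obtain ⟨c, rfl⟩ := Submodule.mem_span_singleton.1 hv
      exact ⟨c, rfl⟩)
  rwa [Nat.card_zmod] at h

theorem nil_pow [Nontrivial V] {t : H} (ht : t ^ p = 1) :
    (ρ t - 1 : Module.End (ZMod p) V) ^ p = 0 := by
  haveI : CharP (Module.End (ZMod p) V) p :=
    charP_of_injective_algebraMap (algebraMap (ZMod p) (Module.End (ZMod p) V)).injective p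
  rw [sub_pow_char_of_commute (p := p) (Commute.one_right _), one_pow, ← map_pow, ht, map_one,
    sub_self]

/-- An element of order `p` with displacement of rank one is a transvection. -/
theorem exists_tr [Finite V] (hρ : Function.Injective ρ) {t : H} (htp : t ^ p = 1) (ht : t ≠ 1)
    (hr : Nat.card (LinearMap.range (ρ t - 1 : Module.End (ZMod p) V)) ≤ p) :
    ∃ φ z, IsTr ρ t φ z ∧ φ ≠ 0 ∧ z ≠ 0 := by
  set J : Module.End (ZMod p) V := ρ t - 1 with hJ
  obtain ⟨v0, hv0⟩ : ∃ v, J v ≠ 0 := by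
    by_contra h
    push Not at h
    refine ht (hρ ?_)
    rw [map_one]
    exact sub_eq_zero.1 (LinearMap.ext h)
  haveI : Nontrivial V := nontrivial_of_ne _ _ hv0
  set z := J v0 with hz
  let ι : ZMod p → LinearMap.range J := fun c => ⟨c • z, c • v0, map_smul J c v0⟩
  have hι : Function.Injective ι := fun a b e => smul_left_injective (ZMod p) hv0
    (congrArg Subtype.val e)
  have hsur := (hι.bijective_of_nat_card_le (hr.trans (Nat.card_zmod p).ge)).2
  have hspan : ∀ v, J v ∈ ((ZMod p) ∙ z : Submodule (ZMod p) V) := fun v => by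
    obtain ⟨c, hc⟩ := hsur ⟨J v, v, rfl⟩
    exact Submodule.mem_span_singleton.2 ⟨c, congrArg Subtype.val hc⟩
  obtain ⟨φ, hφ⟩ := exists_functional hv0 hspan
  have hpow : ∀ n : ℕ, (J ^ n) z = φ z ^ n • z := fun n => by
    induction n with
    | zero => simp
    | succ n ih => rw [pow_succ', Module.End.mul_apply, ih, map_smul, hφ, smul_smul, ← pow_succ]
  have hnull : φ z = 0 := by
    have h := hpow p
    rw [nil_pow htp, LinearMap.zero_apply] at h
    exact pow_eq_zero_iff hp.out.ne_zero |>.1 ((smul_eq_zero.1 h.symm).resolve_right hv0)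
  refine ⟨φ, z, ⟨fun v => ?_, hnull⟩, fun h0 => hv0 ?_, hv0⟩
  · rw [← hφ, hJ, LinearMap.sub_apply, Module.End.one_apply, add_sub_cancel]
  · rw [hz, hφ, h0, LinearMap.zero_apply, zero_smul]

/-- A `p`-group acting faithfully in degree two has order at most `p` and consists of transvections. -/
theorem degree_two [Finite V] (hρ : Function.Injective ρ) (hV : Nat.card V ≤ p ^ 2)
    (hpV : p ∣ Nat.card V) {T : Subgroup H} (hT : IsPGroup p T) :
    Nat.card T ≤ p ∧ ∀ t ∈ T, t ^ p = 1 →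
      Nat.card (LinearMap.range (ρ t - 1 : Module.End (ZMod p) V)) ≤ p := by
  letI : MulAction T V :=
    { smul := fun t v => ρ (t : H) v
      one_smul := fun v => by
        show ρ ((1 : T) : H) v = v
        rw [Subgroup.coe_one, map_one, Module.End.one_apply]
      mul_smul := fun a b v => by
        show ρ ((a * b : T) : H) v = ρ (a : H) (ρ (b : H) v)
        rw [Subgroup.coe_mul, PFiveLinear1.mul_apply] }
  obtain ⟨z, hzfix, hz0⟩ := hT.exists_fixed_point_of_prime_dvd_card_of_fixed_point V hpV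
    (a := (0 : V)) (fun t => map_zero (ρ (t : H)))
  have hfix : ∀ t : T, ρ (t : H) z = z := hzfix
  by_cases hu : ∃ u : V, u ∉ ((ZMod p) ∙ z : Submodule (ZMod p) V)
  swap
  · push Not at hu
    have hall : ∀ t : T, (t : H) = 1 := fun t => hρ (by
      rw [map_one]
      refine LinearMap.ext fun v => ?_
      obtain ⟨c, rfl⟩ := Submodule.mem_span_singleton.1 (hu v)
      rw [map_smul, hfix, Module.End.one_apply])
    refine ⟨?_, fun t ht _ => ?_⟩
    · haveI : Subsingleton T := ⟨fun a b => Subtype.ext ((hall a).trans (hall b).symm)⟩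
      exact (Nat.card_le_card_of_injective (fun _ : T => (0 : ZMod p))
        (fun a b _ => Subsingleton.elim a b)).trans (Nat.card_zmod p).le
    · refine (le_of_eq ?_).trans hp.out.one_lt.le
      rw [show (ρ t - 1 : Module.End (ZMod p) V) = 0 by rw [show t = 1 from hall ⟨t, ht⟩, map_one, sub_self],
        LinearMap.range_zero]
      exact Nat.card_unique
  obtain ⟨u, hu⟩ := hu
  let b : ZMod p × ZMod p → V := fun x => x.1 • z + x.2 • u
  have hb : Function.Injective b := by
    rintro ⟨a, c⟩ ⟨a', c'⟩ e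
    replace e : a • z + c • u = a' • z + c' • u := e
    have e2 : (c - c') • u = (a' - a) • z := by
      rw [sub_smul, sub_smul, sub_eq_sub_iff_add_eq_add, add_comm, e]
    by_cases hc : c - c' = 0
    · rw [hc, zero_smul] at e2
      exact Prod.ext (sub_eq_zero.1 ((smul_eq_zero.1 e2.symm).resolve_right hz0.symm)).symm
        (sub_eq_zero.1 hc)
    · refine absurd ?_ hu
      rw [← inv_smul_smul₀ hc u, e2]
      exact Submodule.smul_mem _ _ (Submodule.smul_mem _ _ (Submodule.mem_span_singleton_self z))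
  have hsur := (hb.bijective_of_nat_card_le (by
    rw [Nat.card_prod, Nat.card_zmod, ← sq]; exact hV)).2
  have hkey : ∀ t : T, ∃ a : ZMod p, ρ (t : H) u = u + a • z := by
    intro t
    obtain ⟨⟨a, c⟩, hac⟩ := hsur (ρ (t : H) u)
    replace hac : a • z + c • u = ρ (t : H) u := hac
    refine ⟨a, ?_⟩
    have hn : ∀ n : ℕ, ∃ d : ZMod p, ρ ((t : H) ^ n) u = d • z + c ^ n • u := fun n => by
      induction n with
      | zero => exact ⟨0, by simp⟩
      | succ n ih =>
        obtain ⟨d, hd⟩ := ih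
        refine ⟨d + c ^ n * a, ?_⟩
        rw [pow_succ', PFiveLinear1.mul_apply, hd, map_add, map_smul, map_smul, hfix, ← hac,
          smul_add, smul_smul, smul_smul, ← pow_succ, add_smul, add_assoc]
    obtain ⟨k, hk⟩ := hT t
    obtain ⟨d, hd⟩ := hn (p ^ k)
    have hk' : (t : H) ^ p ^ k = 1 := by rw [← Subgroup.coe_pow, hk, Subgroup.coe_one]
    rw [hk', map_one, Module.End.one_apply, ZMod.pow_card_pow] at hd
    have he : b (0, 1) = b (d, c) := by
      show (0 : ZMod p) • z + (1 : ZMod p) • u = d • z + c • u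
      rw [zero_smul, one_smul, zero_add, ← hd]
    have hc1 : (1 : ZMod p) = c := (Prod.ext_iff.1 (hb he)).2
    rw [← hac, ← hc1, one_smul, add_comm]
  choose a ha using hkey
  refine ⟨?_, fun t ht _ => ?_⟩
  · have hainj : Function.Injective a := fun s s' e => Subtype.ext (hρ (LinearMap.ext fun v => by
      obtain ⟨⟨x, y⟩, rfl⟩ := hsur v
      show ρ (s : H) (x • z + y • u) = ρ (s' : H) (x • z + y • u)
      rw [map_add, map_add, map_smul, map_smul, map_smul, map_smul, hfix, hfix, ha, ha, e]))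
    exact (Nat.card_le_card_of_injective a hainj).trans (Nat.card_zmod p).le
  · have hle : LinearMap.range (ρ t - 1 : Module.End (ZMod p) V) ≤ (ZMod p) ∙ z := by
      rintro _ ⟨v, rfl⟩
      obtain ⟨⟨x, y⟩, rfl⟩ := hsur v
      refine Submodule.mem_span_singleton.2 ⟨y * a ⟨t, ht⟩, ?_⟩
      show _ = (ρ t - 1 : Module.End (ZMod p) V) (x • z + y • u)
      rw [LinearMap.sub_apply, Module.End.one_apply, map_add, map_smul, map_smul,
        show ρ t z = z from hfix ⟨t, ht⟩, show ρ t u = _ from ha ⟨t, ht⟩, smul_add, smul_smul]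
      abel
    exact (Nat.card_mono (Set.toFinite _) hle).trans (card_span_le z)

/-- If the normalizer of a Sylow subgroup of transvections fixes a functional, so does the group. -/
theorem core [Finite H] (hp3 : 3 ≤ p) (hρ : Function.Injective ρ) (T : Sylow p H)
    (hT : Nat.card T = p) (χ : V →ₗ[ZMod p] ZMod p)
    (hN : ∀ g : H, (∀ s ∈ T, g * s * g⁻¹ ∈ T) → ∀ v, χ (ρ g v) = χ v)
    {t : H} (htT : t ∈ T) {φ : V →ₗ[ZMod p] ZMod p} {z : V} (htr : IsTr ρ t φ z) (hφ : φ ≠ 0)
    (hz : z ≠ 0) :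
    ∀ g v, χ (ρ g v) = χ v := by
  obtain ⟨v1, hv1⟩ : ∃ v, φ v ≠ 0 := by
    by_contra hn
    push Not at hn
    exact hφ (LinearMap.ext hn)
  have hχz : χ z = 0 := by
    have h := hN t (fun s hs => mul_mem (mul_mem htT hs) (inv_mem htT)) v1
    rw [htr.act, map_add, map_smul, add_eq_left, smul_eq_mul] at h
    exact (mul_eq_zero.1 h).resolve_left hv1
  have ht1 : t ≠ 1 := fun h => by
    have e := htr.act v1
    rw [h, map_one, Module.End.one_apply, left_eq_add] at e
    exact (smul_eq_zero.1 e).elim hv1 hz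
  have hTz : (T : Subgroup H) = Subgroup.zpowers t := by
    refine (Subgroup.eq_of_le_of_card_ge (Subgroup.zpowers_le.2 htT) ?_).symm
    rw [Nat.card_zpowers, hT]
    exact (((Nat.dvd_prime hp.out).1 (hT ▸ Subgroup.orderOf_dvd_natCard _ htT)).resolve_left
      fun h => ht1 (orderOf_eq_one_iff.1 h)).ge
  have claim : ∀ g, χ (ρ g z) = 0 := by
    intro g
    have htr' := htr.conj g
    set t' := g * t * g⁻¹
    set φ' := φ.comp (ρ g⁻¹)
    set z' := ρ g z
    have hv' : φ' (ρ g v1) ≠ 0 := by rwa [LinearMap.comp_apply, inv_apply]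
    have hpg : IsPGroup p (Subgroup.closure ({t, t'} : Set H)) → χ z' = 0 := by
      intro hQ
      have e := T.3 hQ (hTz.le.trans (Subgroup.zpowers_le.2 (Subgroup.subset_closure
        (Set.mem_insert t {t'}))))
      have ht' : t' ∈ (T : Subgroup H) := e.le (Subgroup.subset_closure
        (Set.mem_insert_of_mem t (Set.mem_singleton t')))
      rw [hTz] at ht'
      obtain ⟨n, hn⟩ := (isOfFinOrder_of_finite t).mem_powers_iff_mem_zpowers.2 ht'
      have e1 := htr'.act (ρ g v1)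
      have e2 := (htr.pow n).act (ρ g v1)
      rw [← hn] at e1
      rw [e1, add_right_inj] at e2
      have e3 := congrArg χ e2
      rw [map_smul, map_smul, hχz, smul_zero, smul_eq_mul] at e3
      exact (mul_eq_zero.1 e3).resolve_left hv'
    by_cases h1 : φ z' = 0
    · exact hpg (common_pgroup hp3 hρ htr htr' h1)
    by_cases h2 : φ' z = 0
    · refine hpg ?_
      rw [Set.pair_comm]
      exact common_pgroup hp3 hρ htr' htr h2
    obtain ⟨τ, -, -, hτ', -, n, -, hτt⟩ := pair_torus htr htr' h1 h2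
      (c := (-1 : ZMod p)) (neg_ne_zero.2 one_ne_zero)
    have h := hN τ (fun s hs => by
      have hs' : s ∈ Subgroup.zpowers t := hTz.le hs
      obtain ⟨k, rfl⟩ := hs'
      show τ * t ^ k * τ⁻¹ ∈ T
      rw [← conj_zpow, hρ hτt]
      exact zpow_mem (pow_mem htT n) k) z'
    rw [hτ', map_smul, inv_neg, inv_one, smul_eq_mul, neg_one_mul] at h
    have h2z : (2 : ZMod p) * χ z' = 0 := by rw [two_mul]; exact add_eq_zero_iff_eq_neg.2 h.symm
    refine (mul_eq_zero.1 h2z).resolve_left fun h2 => ?_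
    have := Nat.le_of_dvd (by norm_num) ((ZMod.natCast_eq_zero_iff 2 p).1 (by exact_mod_cast h2))
    omega
  let K : Subgroup H :=
    { carrier := {h | ∀ g v, χ (ρ g (ρ h v)) = χ (ρ g v)}
      one_mem' := fun g v => by simp
      mul_mem' := fun {a b} ha hb g v => by
        rw [PFiveLinear1.mul_apply, ← PFiveLinear1.mul_apply g a, hb, PFiveLinear1.mul_apply, ha]
      inv_mem' := fun {a} ha g v => by
        conv_rhs => rw [← apply_inv (ρ := ρ) a v]
        exact (ha g _).symm }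
  haveI hKn : K.Normal := ⟨fun h hh x g v => by
    rw [PFiveLinear1.mul_apply, PFiveLinear1.mul_apply, ← PFiveLinear1.mul_apply g x, hh,
      PFiveLinear1.mul_apply, apply_inv]⟩
  have htK : t ∈ K := fun g v => by
    rw [htr.act, map_add, map_smul, map_add, map_smul, claim, smul_zero, add_zero]
  have hsup : Subgroup.normalizer ((T : Subgroup H) : Set H) ⊔ K = ⊤ :=
    Sylow.normalizer_sup_eq_top' T (hTz.le.trans (Subgroup.zpowers_le.2 htK))
  intro g v
  obtain ⟨a, ha, k, hk, rfl⟩ :=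
    Subgroup.mem_sup_of_normal_right.1 (hsup.ge (Subgroup.mem_top g))
  rw [PFiveLinear1.mul_apply, hN a (fun s hs => ((Subgroup.mem_normalizer_iff.1 ha) s).1 hs)]
  simpa using hk 1 v

end Linear

section Fusion

variable {Ω : Type*} [Group Ω] {S : Subgroup Ω} {p : ℕ} [hp : Fact p.Prime] {F : FusionSystem S}

theorem frattini_le_ker {G : Type*} [Group G] [Finite G] (φ : G →* Multiplicative (ZMod p)) :
    frattini G ≤ φ.ker :=
  PGroupsBasic.frattini_le_of_elementary_quotient (p := p) (Abelianization.commutator_subset_ker φ)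
    fun x => by
      rw [MonoidHom.mem_ker, map_pow]
      show Multiplicative.ofAdd (p • Multiplicative.toAdd (φ x)) = 1
      rw [nsmul_eq_mul, ZMod.natCast_self, zero_mul]
      rfl

/-- A functional on `S`. -/
def chiHom (χ : Ω → ZMod p) (hadd : ∀ x ∈ S, ∀ y ∈ S, χ (x * y) = χ x + χ y) {Q : Subgroup Ω}
    (hQ : Q ≤ S) : Q →* Multiplicative (ZMod p) :=
  MonoidHom.mk' (fun x => Multiplicative.ofAdd (χ (x : Ω))) fun a b => by
    rw [Subgroup.coe_mul, hadd _ (hQ a.2) _ (hQ b.2)]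
    rfl

theorem kills_frattini {χ : Ω → ZMod p} (hadd : ∀ x ∈ S, ∀ y ∈ S, χ (x * y) = χ x + χ y)
    {Q : Subgroup Ω} [Finite Q] (hQ : Q ≤ S) {x : Q} (hx : x ∈ frattini Q) : χ (x : Ω) = 0 :=
  congrArg Multiplicative.toAdd (frattini_le_ker (chiHom χ hadd hQ) hx)

theorem add_cj {χ : Ω → ZMod p} (hadd : ∀ x ∈ S, ∀ y ∈ S, χ (x * y) = χ x + χ y) {g x : Ω}
    (hg : g ∈ S) (hx : x ∈ S) : χ (cj g x) = χ x := by
  have h1 : χ 1 = 0 := by simpa using hadd 1 S.one_mem 1 S.one_mem
  have h2 := hadd _ hg _ (S.inv_mem hg)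
  rw [mul_inv_cancel, h1] at h2
  rw [cj_apply, hadd _ (S.mul_mem hg hx) _ (S.inv_mem hg), hadd _ hg _ hx]
  linear_combination -h2

theorem card_frattini_le_of_equiv {A B : Type*} [Group A] [Group B] [Finite B] (e : A ≃* B) :
    Nat.card (frattini A) ≤ Nat.card (frattini B) := by
  refine Nat.card_le_card_of_injective (fun a => (⟨e a, ?_⟩ : frattini B))
    fun a b h => Subtype.ext (e.injective (congrArg Subtype.val h))
  exact frattini_le_comap_frattini_of_surjective (φ := e.toMonoidHom) e.surjective a.2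

variable [Finite S]

/-- The data making the step lemma work: the displacement of `N_S(P)` on `P / Φ(P)` has rank one. -/
theorem exists_rank_one (hS : IsPGroup p S) (hF : F.IsSaturated p) (hp3 : 3 ≤ p)
    (hcard : Nat.card S = p ^ 5)
    (hnab : ∀ A : Subgroup Ω, A ≤ S → Nat.card A = p ^ 4 → ¬ IsMulCommutative A)
    (hΦ : Nat.card (frattini S) ≤ p ^ 2 ∨
      ∀ P : Subgroup S, P.index = p → p ^ 2 ≤ Nat.card (frattini P))
    {P : Subgroup Ω} (hP : F.IsEssential p P) {V : Type*} [AddCommGroup V] [Module (ZMod p) V]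
    [Finite V] {q : P → V} {ρ : PFiveKit1.Out F P →* Module.End (ZMod p) V}
    (hmul : ∀ a b, q (a * b) = q a + q b) (hsur : Function.Surjective q)
    (hzero : ∀ a, q a = 0 ↔ a ∈ frattini P) (hρ : Function.Injective ρ)
    (hact : ∀ (α : ↥(F.autGroup P)) a, ρ (α : PFiveKit1.Out F P) (q a) = q ((α : MulAut P) a))
    (hcardV : Nat.card (frattini P) * Nat.card V = Nat.card P)
    {T : Sylow p (PFiveKit1.Out F P)} (hTgen : ∀ t ∈ T, ∃ g,
      (PFiveKit1.conjAut F hP.1.1 g : PFiveKit1.Out F P) = t)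
    (hTcard : Nat.card T * Nat.card P = Nat.card (normalizerIn S P)) :
    Nat.card T = p ∧ ∀ t ∈ T, t ^ p = 1 →
      Nat.card (LinearMap.range (ρ t - 1 : Module.End (ZMod p) V)) ≤ p := by
  classical
  have hPS := hP.1.1
  have hlt := essential_lt hS hF hP
  haveI := finite_of_le hPS
  haveI := finite_normalizerIn (S := S) P
  have hPp : IsPGroup p P := hS.to_le hPS
  have hgt := normalizerIn_gt hS hlt
  obtain ⟨n, hn⟩ := IsPGroup.iff_card.1 hPp
  obtain ⟨f, hf⟩ := IsPGroup.iff_card.1 (hPp.to_subgroup (frattini P))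
  obtain ⟨k, hk⟩ : ∃ k, Nat.card T = p ^ k := IsPGroup.iff_card.1 T.2
  obtain ⟨j, hj⟩ : ∃ j, Nat.card (normalizerIn S P) = p ^ j :=
    IsPGroup.iff_card.1 (hS.to_le (inf_le_left : normalizerIn S P ≤ S))
  have hk1 : 1 ≤ k := by
    by_contra h0
    rw [hk, show k = 0 by omega, pow_zero, one_mul] at hTcard
    omega
  have hkj : k + n = j := by
    rw [hk, hn, hj, ← pow_add] at hTcard
    exact Nat.pow_right_injective hp.out.two_le hTcard
  have hj5 : j ≤ 5 := by
    rw [← Nat.pow_le_pow_iff_right hp.out.one_lt, ← hj, ← hcard]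
    exact Subgroup.card_le_of_le inf_le_left
  have hV : Nat.card V = p ^ (n - f) ∧ f ≤ n := by
    have hfn : f ≤ n := by
      rw [← Nat.pow_le_pow_iff_right hp.out.one_lt, ← hf, ← hn]
      exact Subgroup.card_le_card_group _
    refine ⟨Nat.eq_of_mul_eq_mul_left (pow_pos hp.out.pos f) ?_, hfn⟩
    rw [← pow_add, Nat.add_sub_cancel' hfn, ← hn, ← hcardV, hf]
  by_cases hsmall : n - f ≤ 2
  · by_cases hn0 : n - f = 0
    · exfalso
      haveI : Subsingleton V := (Nat.card_eq_one_iff_unique.1 (by rw [hV.1, hn0, pow_zero])).1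
      haveI : Nontrivial T := Finite.one_lt_card_iff_nontrivial.1 (by
        rw [hk]; exact Nat.one_lt_pow (by omega) hp.out.one_lt)
      obtain ⟨t, ht⟩ := exists_ne (1 : T)
      exact ht (Subtype.ext (hρ (LinearMap.ext fun v => Subsingleton.elim _ _)))
    obtain ⟨h1, h2⟩ := degree_two hρ (T := (T : Subgroup (PFiveKit1.Out F P)))
      (by rw [hV.1]; exact Nat.pow_le_pow_right hp.out.pos hsmall)
      (by rw [hV.1]; exact dvd_pow_self p hn0) T.2
    refine ⟨?_, h2⟩
    change Nat.card T ≤ p at h1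
    refine le_antisymm h1 (hk ▸ ?_)
    exact Nat.le_self_pow (by omega) p
  have hq1 : q 1 = 0 := (hzero 1).2 (one_mem _)
  have hdisp : ∀ t ∈ T, ∃ g : ↥(S ⊓ Subgroup.normalizer (P : Set Ω)), ∀ v,
      ∃ a : P, ∃ h : (a : Ω)⁻¹ * cj (g : Ω) a ∈ P,
        (ρ t - 1 : Module.End (ZMod p) V) v = q ⟨(a : Ω)⁻¹ * cj (g : Ω) a, h⟩ := by
    intro t ht
    obtain ⟨g, rfl⟩ := hTgen t ht
    refine ⟨g, fun v => ?_⟩
    obtain ⟨a, rfl⟩ := hsur v
    have hm : (a : Ω)⁻¹ * cj (g : Ω) a ∈ P :=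
      P.mul_mem (P.inv_mem a.2) (cj_mem_of_normalizer g.2.2 a.2)
    refine ⟨a, hm, ?_⟩
    rw [LinearMap.sub_apply, Module.End.one_apply, hact, sub_eq_iff_eq_add, add_comm, ← hmul]
    congr 1
    refine Subtype.ext ?_
    rw [PFiveKit1.conjAut_apply, Subgroup.coe_mul, mul_inv_cancel_left]
  have hn4 : n ≤ 4 := by omega
  by_cases hn3 : n = 3
  · obtain rfl : f = 0 := by omega
    have hPab : IsMulCommutative P := ⟨⟨fun a b => PGroupsBasic.commute_of_frattini_eq_bot hPp
      (Subgroup.eq_bot_of_card_eq _ (by rw [hf, pow_zero])) a b⟩⟩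
    obtain ⟨z, hsh⟩ := PFiveCube1.exists_shape hS hF hp3 hcard hP (by rw [hn, hn3]) hPab
    refine ⟨?_, fun t ht _ => ?_⟩
    · rw [hsh.card_N] at hj
      have : j = 4 := (Nat.pow_right_injective hp.out.two_le hj).symm
      rw [hk, show k = 1 by omega, pow_one]
    obtain ⟨g, hg⟩ := hdisp t ht
    have hzP : z ∈ P := PFiveBasic1.Zs_le hP.1 hsh.z_center
    refine (Nat.card_mono (Set.toFinite _) (show LinearMap.range (ρ t - 1 : Module.End (ZMod p) V) ≤
      (ZMod p) ∙ q ⟨z, hzP⟩ from ?_)).trans (card_span_le _)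
    rintro _ ⟨v, rfl⟩
    obtain ⟨a, hm, e⟩ := hg v
    rw [e]
    have hmem : (a : Ω)⁻¹ * cj (g : Ω) a ∈ Subgroup.zpowers z := by
      rw [cj_div_eq]
      exact inv_mem (hsh.comm _ g.2 _ (inv_mem (le_normalizerIn hPS a.2)))
    obtain ⟨i, hi⟩ := (isOfFinOrder_iff_pow_eq_one.2 ⟨p, hp.out.pos,
      hsh.z_pow⟩).mem_powers_iff_mem_zpowers.2 hmem
    refine Submodule.mem_span_singleton.2 ⟨(i : ZMod p), ?_⟩
    have hqi : ∀ i : ℕ, q ((⟨z, hzP⟩ : P) ^ i) = i • q ⟨z, hzP⟩ := fun i => by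
      induction i with
      | zero => simpa using hq1
      | succ i ih => rw [pow_succ, hmul, ih, succ_nsmul]
    rw [Nat.cast_smul_eq_nsmul, ← hqi]
    exact congrArg q (Subtype.ext hi)
  obtain rfl : n = 4 := by omega
  have hf0 : f ≠ 0 := fun h0 => hnab P hPS hn ⟨⟨fun a b => PGroupsBasic.commute_of_frattini_eq_bot
    hPp (Subgroup.eq_bot_of_card_eq _ (by rw [hf, h0, pow_zero])) a b⟩⟩
  obtain rfl : f = 1 := by omega
  set PX := P.subgroupOf S
  let e : PX ≃* P := Subgroup.subgroupOfEquivOfLe hPS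
  have hPi : PX.index = p := by
    have h := Subgroup.card_mul_index PX
    rw [Nat.card_congr e.toEquiv, hn, hcard, pow_succ p 4] at h
    exact Nat.eq_of_mul_eq_mul_left (pow_pos hp.out.pos 4) h
  have hΦS : Nat.card (frattini S) ≤ p ^ 2 := by
    refine hΦ.resolve_right fun h => ?_
    have h2 := (h PX hPi).trans (card_frattini_le_of_equiv e)
    rw [hf, Nat.pow_le_pow_iff_right hp.out.one_lt] at h2
    omega
  have hΦP : frattini S ≤ PX := frattini_le_coatom (PGroupsBasic.isCoatom_of_index_eq hPi)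
  refine ⟨by rw [hk, show k = 1 by omega, pow_one], fun t ht _ => ?_⟩
  obtain ⟨g, hg⟩ := hdisp t ht
  let Hs : Subgroup P := ((frattini S).map S.subtype).subgroupOf P
  have hHc : Nat.card Hs ≤ p ^ 2 := by
    rw [Nat.card_congr (Subgroup.subgroupOfEquivOfLe (show (frattini S).map S.subtype ≤ P by
      rintro _ ⟨x, hx, rfl⟩; exact hΦP hx)).toEquiv,
      Subgroup.card_map_of_injective S.subtype_injective]
    exact hΦS
  let φ : Hs →* Multiplicative V := MonoidHom.mk' (fun a => Multiplicative.ofAdd (q a.1))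
    fun a b => congrArg Multiplicative.ofAdd (hmul a.1 b.1)
  have hle : frattini P ≤ Hs := by
    haveI : Hs.Normal := ⟨fun x hx a => by
      obtain ⟨y, hy, hyx⟩ := hx
      refine ⟨⟨(a : Ω), hPS a.2⟩ * y * (⟨(a : Ω), hPS a.2⟩)⁻¹,
        Subgroup.Normal.conj_mem inferInstance y hy _, ?_⟩
      show (a : Ω) * (y : Ω) * (a : Ω)⁻¹ = _
      rw [show (y : Ω) = (x : Ω) from hyx]
      rfl⟩
    refine PGroupsBasic.frattini_le_of_elementary_quotient (p := p) ?_ fun x => ?_
    · rw [commutator_def, Subgroup.commutator_le]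
      intro a _ b _
      exact ⟨⁅(⟨(a : Ω), hPS a.2⟩ : S), ⟨(b : Ω), hPS b.2⟩⁆,
        PGroupsBasic.commutator_le_frattini hS
          (Subgroup.commutator_mem_commutator (Subgroup.mem_top _) (Subgroup.mem_top _)), rfl⟩
    · exact ⟨(⟨(x : Ω), hPS x.2⟩ : S) ^ p, PGroupsBasic.pow_mem_frattini hS _, rfl⟩
  have hker : Nat.card (frattini P) ≤ Nat.card φ.ker := by
    refine Nat.card_le_card_of_injective (fun x => (⟨⟨x.1, hle x.2⟩,
      congrArg Multiplicative.ofAdd ((hzero x.1).2 x.2)⟩ : φ.ker)) fun a b h => ?_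
    exact Subtype.ext (congrArg (fun y : φ.ker => (y : Hs).1) h)
  have hprod := φ.ker.card_mul_index
  rw [Subgroup.index_ker] at hprod
  have hrc : Nat.card φ.range ≤ p := by
    refine Nat.le_of_mul_le_mul_left ?_ hp.out.pos
    calc p * Nat.card φ.range ≤ Nat.card φ.ker * Nat.card φ.range :=
          Nat.mul_le_mul_right _ (by rw [hf, pow_one] at hker; exact hker)
      _ ≤ p * p := by rw [hprod, ← sq]; exact hHc
  refine (Nat.card_le_card_of_injective
    (fun v : LinearMap.range (ρ t - 1 : Module.End (ZMod p) V) =>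
      (⟨Multiplicative.ofAdd (v : V), ?_⟩ : φ.range))
    fun a b h => Subtype.ext (congrArg (fun y : φ.range => Multiplicative.toAdd y.1) h)).trans hrc
  obtain ⟨v', hv'⟩ := v.2
  obtain ⟨a, hm, e'⟩ := hg v'
  refine ⟨⟨⟨_, hm⟩, ⁅(⟨(g : Ω), g.2.1⟩ : S), (⟨(a : Ω), hPS a.2⟩)⁻¹⁆⁻¹,
    inv_mem (PGroupsBasic.commutator_le_frattini hS
      (Subgroup.commutator_mem_commutator (Subgroup.mem_top _) (Subgroup.mem_top _))),
    (cj_div_eq (g : Ω) (a : Ω)).symm⟩, congrArg Multiplicative.ofAdd (e'.symm.trans hv')⟩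

/-- One step: an essential subgroup preserves the functional if larger subgroups do. -/
theorem step (hS : IsPGroup p S) (hF : F.IsSaturated p) (hp3 : 3 ≤ p)
    (hcard : Nat.card S = p ^ 5)
    (hnab : ∀ A : Subgroup Ω, A ≤ S → Nat.card A = p ^ 4 → ¬ IsMulCommutative A)
    (hΦ : Nat.card (frattini S) ≤ p ^ 2 ∨
      ∀ P : Subgroup S, P.index = p → p ^ 2 ≤ Nat.card (frattini P))
    {χ : Ω → ZMod p} (hadd : ∀ x ∈ S, ∀ y ∈ S, χ (x * y) = χ x + χ y)
    {P : Subgroup Ω} (hP : F.IsEssential p P)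
    (hbig : ∀ Q f, Mor F Q f → Nat.card P < Nat.card Q → ∀ x ∈ Q, χ (f x) = χ x) :
    ∀ α ∈ F.autGroup P, ∀ x ∈ P, χ (afun α x) = χ x := by
  classical
  have hPS := hP.1.1
  haveI := finite_of_le hPS
  haveI := finite_autGroup (F := F) P
  obtain ⟨V, iV, iM, hfin, q, ρ, hmul, hsur, hzero, hρ, hact, hcardV⟩ :=
    PFiveKit1.exists_out_act hS hP
  letI := iV; letI := iM; haveI := hfin
  obtain ⟨T, -, hTgen, hTcard, hext, -⟩ := PFiveKit1.exists_out_sylow hS hF hP
  obtain ⟨hTp, hrank⟩ := exists_rank_one hS hF hp3 hcard hnab hΦ hP hmul hsur hzero hρ hact hcardV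
    hTgen hTcard
  haveI : Nontrivial T := Finite.one_lt_card_iff_nontrivial.1 (by rw [hTp]; exact hp.out.one_lt)
  obtain ⟨⟨t, htT⟩, ht1⟩ := exists_ne (1 : T)
  have htp : t ^ p = 1 := PGroupsBasic.pow_eq_one_of_card (H := (T : Subgroup _)) hTp htT
  obtain ⟨φ, z, htr, hφ, hz⟩ := exists_tr hρ htp (fun h => ht1 (Subtype.ext h)) (hrank t htT htp)
  choose sec hsec using hsur
  have hwell : ∀ a b : P, q a = q b → χ (a : Ω) = χ (b : Ω) := fun a b h => by
    have h2 : q (b⁻¹ * a) = 0 := by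
      have e := hmul b (b⁻¹ * a)
      rwa [mul_inv_cancel_left, h, left_eq_add] at e
    have h3 := kills_frattini hadd hPS ((hzero _).1 h2)
    rw [Subgroup.coe_mul, Subgroup.coe_inv] at h3
    calc χ (a : Ω) = χ ((b : Ω) * ((b : Ω)⁻¹ * a)) := by rw [mul_inv_cancel_left]
      _ = χ (b : Ω) := by
        rw [hadd _ (hPS b.2) _ (S.mul_mem (S.inv_mem (hPS b.2)) (hPS a.2)), h3, add_zero]
  let χ' : V →ₗ[ZMod p] ZMod p :=
    (AddMonoidHom.mk' (fun v => χ (sec v : Ω)) fun v w => by
      rw [← hadd _ (hPS (sec v).2) _ (hPS (sec w).2), ← Subgroup.coe_mul]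
      exact hwell _ _ (by rw [hmul, hsec, hsec, hsec])).toZModLinearMap p
  have hχ' : ∀ a : P, χ' (q a) = χ (a : Ω) := fun a => hwell _ _ (hsec _)
  have hgt := normalizerIn_gt hS (essential_lt hS hF hP)
  have hfix := core hp3 hρ T hTp χ' (fun g hg v => by
    induction g using QuotientGroup.induction_on with
    | _ α =>
      obtain ⟨f, hf, -, hfe⟩ := hext α hg
      obtain ⟨a, rfl⟩ : ∃ a, q a = v := ⟨sec v, hsec v⟩
      rw [hact, hχ', hχ', ← afun_coe, ← hfe _ a.2]
      exact hbig _ f hf hgt _ (le_normalizerIn hPS a.2)) htT htr hφ hz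
  intro α hα x hx
  have h := hfix ((⟨α, hα⟩ : ↥(F.autGroup P)) : PFiveKit1.Out F P) (q ⟨x, hx⟩)
  rw [hact, hχ', hχ', ← afun_coe] at h
  exact h

/-- A fixed functional is preserved by all of `F`. -/
theorem preserved (hS : IsPGroup p S) (hF : F.IsSaturated p) (hp3 : 3 ≤ p)
    (hcard : Nat.card S = p ^ 5)
    (hnab : ∀ A : Subgroup Ω, A ≤ S → Nat.card A = p ^ 4 → ¬ IsMulCommutative A)
    (hΦ : Nat.card (frattini S) ≤ p ^ 2 ∨
      ∀ P : Subgroup S, P.index = p → p ^ 2 ≤ Nat.card (frattini P))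
    {χ : Ω → ZMod p} (hadd : ∀ x ∈ S, ∀ y ∈ S, χ (x * y) = χ x + χ y)
    (haut : ∀ α ∈ F.autGroup S, ∀ x ∈ S, χ (afun α x) = χ x) :
    ∀ Q f, Mor F Q f → ∀ x ∈ Q, χ (f x) = χ x := by
  suffices ∀ n Q f, Mor F Q f → Nat.card S ≤ Nat.card Q + n → ∀ x ∈ Q, χ (f x) = χ x from
    fun Q f hf => this (Nat.card S) Q f hf (Nat.le_add_left _ _)
  intro n
  induction n using Nat.strong_induction_on with
  | _ n ih =>
    let Φ : Subgroup Ω → (Ω → Ω) → Prop := fun P f =>
      Nat.card S ≤ Nat.card P + n → ∀ x ∈ P, χ (f x) = χ x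
    have hcl : FusionInduct88.Closed F (U := S) Φ :=
      { congr := fun h he hn x hx => he x hx ▸ h hn x hx
        conj := fun hP hg _ x hx => add_cj hadd hg (hP hx)
        comp := fun {P Q f g} hf hg hP hQ hfQ h1 h2 hn x hx => by
          haveI := finite_of_le hQ
          have hc : Nat.card P ≤ Nat.card Q := Nat.card_le_card_of_injective
            (fun y : P => (⟨f y, hfQ y y.2⟩ : Q))
            fun a b e => Subtype.ext (hf.injOn a.2 b.2 (congrArg Subtype.val e))
          show χ (g (f x)) = χ x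
          rw [h2 (by omega) _ (hfQ x hx), h1 hn x hx]
        inv := fun {P f g} hf hg _ hgf h hn y hy => by
          obtain ⟨x, hx, rfl⟩ := hf.mem_im.1 hy
          rw [hgf x hx, h (by rw [hf.card_im] at hn; exact hn) x hx] }
    have hle : F ≤ FusionInduct88.subSystem le_rfl hcl := by
      refine alperin hS hF fun P hP α hα => ?_
      have hPS : P ≤ S := by
        rcases hP with rfl | hP
        · exact le_rfl
        · exact hP.1.1
      have hm := (mem_autGroup hPS).1 hα
      refine mem_autGroup_of_mor (FusionInduct88.mor_subSystem.2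
        ⟨hm, hPS, fun x hx => hm.apply_mem hx, fun hn => ?_⟩)
      rcases hP with rfl | hP
      · exact haut α hα
      · refine step hS hF hp3 hcard hnab hΦ hadd hP (fun Q f hf hlt => ?_) α hα
        have hQc : Nat.card Q ≤ Nat.card S := Subgroup.card_le_of_le hf.le
        exact ih (Nat.card S - Nat.card Q) (by omega) Q f hf (by omega)
    intro Q f hf hn
    exact (FusionInduct88.mor_subSystem.1 (mor_mono hle hf)).2.2.2 hn

/-- The averaged functional. -/
theorem hyperfocal_ne (hS : IsPGroup p S) (hF : F.IsSaturated p) (hp3 : 3 ≤ p)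
    (hcard : Nat.card S = p ^ 5)
    (hnab : ∀ A : Subgroup Ω, A ≤ S → Nat.card A = p ^ 4 → ¬ IsMulCommutative A)
    (hΦ : Nat.card (frattini S) ≤ p ^ 2 ∨
      ∀ P : Subgroup S, P.index = p → p ^ 2 ≤ Nat.card (frattini P))
    {w : S} (hw : w ∉ frattini S) (hfix : ∀ β : MulAut S, w⁻¹ * β w ∈ frattini S) :
    F.hyperfocalSubgroup p ≠ S := by
  classical
  haveI := finite_autGroup (F := F) S
  obtain ⟨V, iV, iM, q, hmul, hsur, hzero⟩ := MaxClassEssDeep1.exists_quot (p := p) hS
  letI := iV; letI := iM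
  obtain ⟨ψ, hψ⟩ : ∃ ψ : V →ₗ[ZMod p] ZMod p, ψ (q w) ≠ 0 := by
    by_contra h
    push Not at h
    exact hw ((hzero w).1 ((Module.forall_dual_apply_eq_zero_iff (ZMod p) (q w)).1 h))
  let χ0 : S → ZMod p := fun x => ψ (q x)
  have h0add : ∀ a b, χ0 (a * b) = χ0 a + χ0 b := fun a b => by
    show ψ (q (a * b)) = _
    rw [hmul, map_add]
  have h0Φ : ∀ x, x ∈ frattini S → χ0 x = 0 := fun x hx => by
    show ψ (q x) = 0
    rw [(hzero x).2 hx, map_zero]
  have h0inn : ∀ r ∈ Inn S, ∀ x, χ0 (r x) = χ0 x := by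
    rintro _ ⟨s, rfl⟩ x
    rw [MulAut.conj_apply, h0add, h0add]
    have e := h0add s s⁻¹
    rw [mul_inv_cancel, h0Φ 1 (one_mem _)] at e
    linear_combination -e
  let R := PFiveKit1.innIn F S
  have hidx : ¬ p ∣ R.index := by
    obtain ⟨T, hT⟩ := (fullyAutomized_of_saturated_self hF).2
    rw [autInducedBy_self] at hT
    have h := T.not_dvd_index
    rwa [hT] at h
  haveI : Fintype (↥(F.autGroup S) ⧸ R) := Fintype.ofFinite _
  have hwd : ∀ (α β : ↥(F.autGroup S)), (α : ↥(F.autGroup S) ⧸ R) = β → ∀ x,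
      χ0 ((α : MulAut S) x) = χ0 ((β : MulAut S) x) := by
    intro α β h x
    have hm := (QuotientGroup.eq_iff_div_mem.1 h : α / β ∈ R)
    have e : ((α / β : ↥(F.autGroup S)) : MulAut S) ((β : MulAut S) x) = (α : MulAut S) x := by
      rw [← MulAut.mul_apply, ← Subgroup.coe_mul, div_mul_cancel]
    rw [← e]
    exact h0inn _ hm _
  let avg : S → ZMod p := fun x => ∑ c : ↥(F.autGroup S) ⧸ R, χ0 ((c.out : MulAut S) x)
  have havgadd : ∀ a b, avg (a * b) = avg a + avg b := fun a b => by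
    show ∑ c : ↥(F.autGroup S) ⧸ R, χ0 ((c.out : MulAut S) (a * b)) = _
    rw [← Finset.sum_add_distrib]
    exact Finset.sum_congr rfl fun c _ => by rw [map_mul, h0add]
  have havginv : ∀ (β : ↥(F.autGroup S)) x, avg ((β : MulAut S) x) = avg x := fun β x => by
    refine Fintype.sum_equiv (Equiv.mulRight (β : ↥(F.autGroup S) ⧸ R)) _ _ fun c => ?_
    rw [← MulAut.mul_apply, ← Subgroup.coe_mul]
    refine hwd _ _ ?_ x
    rw [QuotientGroup.mk_mul, QuotientGroup.out_eq', QuotientGroup.out_eq', Equiv.coe_mulRight]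
  have havgw : avg w ≠ 0 := by
    have e : avg w = (R.index : ZMod p) * χ0 w := by
      show ∑ c : ↥(F.autGroup S) ⧸ R, χ0 ((c.out : MulAut S) w) = _
      rw [Finset.sum_congr rfl fun c _ => show χ0 ((c.out : MulAut S) w) = χ0 w by
        have h2 := h0add w (w⁻¹ * (c.out : MulAut S) w)
        rwa [mul_inv_cancel_left, h0Φ _ (hfix _), add_zero] at h2,
        Finset.sum_const, Finset.card_univ, nsmul_eq_mul, ← Nat.card_eq_fintype_card,
        ← Subgroup.index_eq_card]
    rw [e]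
    exact mul_ne_zero (fun h => hidx ((ZMod.natCast_eq_zero_iff _ _).1 h)) hψ
  let χ : Ω → ZMod p := fun x => if h : x ∈ S then avg ⟨x, h⟩ else 0
  have hχ : ∀ x : S, χ (x : Ω) = avg x := fun x => dif_pos x.2
  have hadd : ∀ x ∈ S, ∀ y ∈ S, χ (x * y) = χ x + χ y := fun x hx y hy => by
    have h := havgadd ⟨x, hx⟩ ⟨y, hy⟩
    rw [← hχ, ← hχ, ← hχ] at h
    exact h
  have haut : ∀ α ∈ F.autGroup S, ∀ x ∈ S, χ (afun α x) = χ x := fun α hα x hx => by
    have h := havginv ⟨α, hα⟩ ⟨x, hx⟩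
    rw [← hχ, ← hχ, ← afun_coe] at h
    exact h
  have hpres := preserved hS hF hp3 hcard hnab hΦ hadd haut
  let K : Subgroup Ω := (chiHom χ hadd le_rfl).ker.map S.subtype
  intro he
  have hfoc : F.focalSubgroup ≤ K := FusionFocal.focal_le_iff.2 fun P f hf x hx => by
    refine ⟨⟨x⁻¹ * f x, S.mul_mem (S.inv_mem (hf.le hx)) (hf.apply_mem hx)⟩, ?_, rfl⟩
    show Multiplicative.ofAdd (χ (x⁻¹ * f x)) = 1
    have e := hadd _ (hf.le hx) _ (S.inv_mem (hf.le hx))
    have h1 : χ 1 = 0 := by simpa using hadd 1 S.one_mem 1 S.one_mem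
    rw [mul_inv_cancel, h1] at e
    rw [hadd _ (S.inv_mem (hf.le hx)) _ (hf.apply_mem hx), hpres P f hf x hx]
    exact congrArg Multiplicative.ofAdd (show χ x⁻¹ + χ x = 0 by rw [e, add_comm])
  have hwK : (w : Ω) ∈ K := hfoc (FusionFocal.hyperfocal_le_focal (he.ge w.2))
  obtain ⟨v, hv, hvw⟩ := hwK
  obtain rfl : v = w := Subtype.ext hvw
  exact havgw (hχ v ▸ congrArg Multiplicative.toAdd hv)

end Fusion

end Cfsg.Agent.PFiveFocal1
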