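import Mathlib
import Cfsg.Agent.Lib.Blackburn20

/-!
Groups of order `p ^ 5` of maximal class without an abelian subgroup of index `p`, and their
pearls (elementary abelian self-centralising subgroups of order `p ^ 2`).
-/

set_option linter.unusedSectionVars false

open Subgroup
open scoped commutatorElement

namespace Cfsg.Agent.PFiveMaxClass59

open PGroupsHallPetrescu (Gf Gf_antitone commutator_mem_Gf)
open Blackburn20 (Ct mem_Ct gf_two_le_Ct mem_Ct_of_exact)

/-! ### commutator identities -/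

section Comm

variable {Y : Type*} [Group Y]

theorem comm_pow_left {x y : Y} (hc : ∀ t, t * ⁅x, y⁆ = ⁅x, y⁆ * t) :
    ∀ k : ℕ, ⁅x ^ k, y⁆ = ⁅x, y⁆ ^ k
  | 0 => by simp
  | k + 1 => by
    have e : ⁅x ^ k * x, y⁆ = x ^ k * ⁅x, y⁆ * (x ^ k)⁻¹ * ⁅x ^ k, y⁆ := by
      simp only [commutatorElement_def]; group
    rw [pow_succ x, e, hc (x ^ k), mul_inv_cancel_right, comm_pow_left hc k, ← pow_succ']

theorem comm_pow_right {x y : Y} (hc : ∀ t, t * ⁅x, y⁆ = ⁅x, y⁆ * t) (k : ℕ) :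
    ⁅x, y ^ k⁆ = ⁅x, y⁆ ^ k := by
  have h : ∀ t, t * ⁅y, x⁆ = ⁅y, x⁆ * t := fun t => by
    rw [← commutatorElement_inv x y]
    exact (Commute.inv_right (hc t)).eq
  rw [← commutatorElement_inv (y ^ k) x, comm_pow_left h, ← commutatorElement_inv x y, inv_pow,
    inv_inv]

theorem absorb {u x y : Y} (hu : ⁅u, y⁆ = 1) (hc : ∀ t, t * ⁅x, y⁆ = ⁅x, y⁆ * t) :
    ⁅u * x, y⁆ = ⁅x, y⁆ := by
  have e : ⁅u * x, y⁆ = u * ⁅x, y⁆ * u⁻¹ * ⁅u, y⁆ := by
    simp only [commutatorElement_def]; group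
  rw [e, hu, mul_one, hc u, mul_inv_cancel_right]

theorem bilin {x y u w : Y} {m k : ℕ} (hc : ∀ t, t * ⁅x, y⁆ = ⁅x, y⁆ * t)
    (hu : ⁅u, w * y ^ k⁆ = 1) (hw : ⁅w, x ^ m⁆ = 1) :
    ⁅u * x ^ m, w * y ^ k⁆ = ⁅x, y⁆ ^ (m * k) := by
  have hk : ∀ t, t * ⁅x, y ^ k⁆ = ⁅x, y ^ k⁆ * t := fun t => by
    rw [comm_pow_right hc]
    exact ((show Commute t ⁅x, y⁆ from hc t).pow_right k).eq
  have h1 : ⁅x ^ m, y ^ k⁆ = ⁅x, y⁆ ^ (m * k) := by
    rw [comm_pow_left hk, comm_pow_right hc, ← pow_mul, mul_comm]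
  have hmk : ∀ t, t * ⁅x ^ m, y ^ k⁆ = ⁅x ^ m, y ^ k⁆ * t := fun t => by
    rw [h1]
    exact ((show Commute t ⁅x, y⁆ from hc t).pow_right _).eq
  have hmk' : ∀ t, t * ⁅y ^ k, x ^ m⁆ = ⁅y ^ k, x ^ m⁆ * t := fun t => by
    rw [← commutatorElement_inv (x ^ m) (y ^ k)]
    exact (Commute.inv_right (hmk t)).eq
  have h2 : ⁅x ^ m, w * y ^ k⁆ = ⁅x ^ m, y ^ k⁆ := by
    rw [← commutatorElement_inv (w * y ^ k) (x ^ m), absorb hw hmk', commutatorElement_inv]
  rw [absorb hu (fun t => by rw [h2]; exact hmk t), h2, h1]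

/-- Bilinearity of the commutator modulo a normal subgroup. -/
theorem cong (N : Subgroup Y) [N.Normal] {x y x' y' : Y} {m k : ℕ}
    (hc : ∀ t, ⁅⁅x, y⁆, t⁆ ∈ N) (hu : ⁅x' * (x ^ m)⁻¹, y'⁆ ∈ N)
    (hw : ⁅y' * (y ^ k)⁻¹, x ^ m⁆ ∈ N) : ⁅x', y'⁆ * (⁅x, y⁆ ^ (m * k))⁻¹ ∈ N := by
  let q := QuotientGroup.mk' N
  have hq : ∀ {t}, t ∈ N → q t = 1 := fun h => (QuotientGroup.eq_one_iff _).mpr h
  have ex : q x' = q (x' * (x ^ m)⁻¹) * q x ^ m := by
    rw [← map_pow, ← map_mul, inv_mul_cancel_right]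
  have ey : q y' = q (y' * (y ^ k)⁻¹) * q y ^ k := by
    rw [← map_pow, ← map_mul, inv_mul_cancel_right]
  have h := bilin (x := q x) (y := q y) (u := q (x' * (x ^ m)⁻¹)) (w := q (y' * (y ^ k)⁻¹))
    (m := m) (k := k) ?_ ?_ ?_
  · rw [← ex, ← ey] at h
    refine (QuotientGroup.eq_one_iff _).mp ?_
    show q _ = 1
    rw [map_mul, map_inv, map_pow, map_commutatorElement, map_commutatorElement, h, mul_inv_cancel]
  · intro t
    obtain ⟨t, rfl⟩ := QuotientGroup.mk'_surjective N t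
    rw [← map_commutatorElement]
    refine (commutatorElement_eq_one_iff_mul_comm.mp ?_).symm
    rw [← map_commutatorElement]
    exact hq (hc t)
  · rw [← ey, ← map_commutatorElement]
    exact hq hu
  · rw [← map_pow, ← map_commutatorElement]
    exact hq hw

end Comm

variable {X : Type*} [Group X] [Finite X] {p : ℕ} [hp : Fact p.Prime]

theorem eq_of_between (hX : Nat.card X = p ^ 5) {H K L : Subgroup X} (hHL : H ≤ L) (hLK : L ≤ K)
    (hK : Nat.card K = p * Nat.card H) {x : X} (hxL : x ∈ L) (hxH : x ∉ H) : L = K := by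
  have hP : IsPGroup p X := IsPGroup.of_card hX
  refine eq_of_le_of_card_ge hLK ?_
  obtain ⟨h, hh⟩ := IsPGroup.iff_card.mp (hP.to_subgroup H)
  obtain ⟨l, hl⟩ := IsPGroup.iff_card.mp (hP.to_subgroup L)
  have hlt : Nat.card H < Nat.card L := lt_of_le_of_ne (card_le_of_le hHL) fun e =>
    hxH ((eq_of_le_of_card_ge hHL e.ge).symm ▸ hxL)
  rw [hh, hl] at hlt
  rw [hK, hh, hl, ← pow_succ']
  exact Nat.pow_le_pow_right hp.out.pos ((Nat.pow_lt_pow_iff_right hp.out.one_lt).mp hlt)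

theorem zpowers_inf_eq_bot (hX : Nat.card X = p ^ 5) {e : X} (hep : e ^ p = 1) {H : Subgroup X}
    (he : e ∉ H) : zpowers e ⊓ H = ⊥ := by
  have he1 : e ≠ 1 := fun h => he (h ▸ one_mem H)
  rw [eq_bot_iff]
  intro x hx
  by_contra hx1
  refine he ((inf_le_right : zpowers e ⊓ H ≤ H) ?_)
  rw [eq_of_between hX (K := zpowers e) (L := zpowers e ⊓ H) bot_le inf_le_left ?_ hx hx1]
  · exact mem_zpowers e
  · rw [card_bot, mul_one, Nat.card_zpowers, orderOf_eq_prime hep he1]

theorem comm_mul_conj (u x : X) : u * x * u⁻¹ = ⁅u, x⁆ * x := by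
  rw [commutatorElement_def]; group

theorem normal_of_gf_two_le {H : Subgroup X} (h : Gf X 2 ≤ H) : H.Normal := by
  refine ⟨fun n hn g => ?_⟩
  rw [comm_mul_conj]
  exact mul_mem (h (commutator_mem_Gf (i := 1) (j := 1) (mem_top g) (mem_top n))) hn

theorem mem_normalizer_of_gf {H : Subgroup X} {i : ℕ} (hH : Gf X (i + 1) ≤ H) {v : X}
    (hv : v ∈ Gf X i) : v ∈ normalizer (H : Set X) := by
  have key : ∀ u ∈ Gf X i, ∀ x ∈ H, u * x * u⁻¹ ∈ H := fun u hu x hx => by
    rw [comm_mul_conj]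
    exact mul_mem (hH (commutator_mem_Gf (i := i) (j := 1) hu (mem_top x))) hx
  refine mem_normalizer_iff.mpr fun x => ⟨key v hv x, fun h => ?_⟩
  have := key v⁻¹ (inv_mem hv) _ h
  simpa [mul_assoc] using this

theorem mem_map_gf (β : MulAut X) {i : ℕ} {x : X} (hx : x ∈ Gf X i) : β x ∈ Gf X i :=
  (Blackburn20.map_gf (f := β.toMonoidHom) β.surjective i).le (mem_map_of_mem _ hx)

theorem mem_map_Ct (β : MulAut X) {w : X} (hw : w ∈ Ct X 2) : β w ∈ Ct X 2 := by
  refine mem_Ct.mpr fun z hz => ?_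
  have h := mem_map_gf β (mem_Ct.mp hw _ (mem_map_gf β⁻¹ hz))
  rwa [map_commutatorElement, MulAut.apply_inv_self] at h

section MaxClass

variable (hX : Nat.card X = p ^ 5) (hc : Group.nilpotencyClass X = 4)

include hX hc

theorem card_gf {i : ℕ} (h1 : 2 ≤ i) (hi : i ≤ 5) : Nat.card (Gf X i) = p ^ (5 - i) :=
  S3806.card_gf hX hc (by omega) h1 hi

theorem gf_five : Gf X 5 = ⊥ := S3806.gf_bot hX hc le_rfl

theorem gf_four : Gf X 4 = center X := by
  refine eq_of_le_of_card_ge (fun z hz => mem_center_iff.mpr fun g => ?_) ?_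
  · have h : ⁅z, g⁆ ∈ Gf X 5 := commutator_mem_Gf (j := 1) hz (mem_top g)
    rw [gf_five hX hc, mem_bot, commutatorElement_eq_one_iff_mul_comm] at h
    exact h.symm
  · rw [(MaxClassTwo.center_of_maxClass (by omega) hX hc).1, card_gf hX hc (by omega) (by omega),
      show 5 - 4 = 1 from rfl, pow_one]

theorem card_center : Nat.card (center X) = p :=
  (MaxClassTwo.center_of_maxClass (by omega) hX hc).1

theorem card_Ct : Nat.card (Ct X 2) = p ^ 4 := by
  have h := card_mul_index (Ct X 2)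
  rw [Blackburn20.index_Ct hX hc le_rfl (by omega), hX, pow_succ p 4] at h
  exact Nat.eq_of_mul_eq_mul_right hp.out.pos h

theorem card_Ct' : Nat.card (Ct X 2) = p * Nat.card (Gf X 2) := by
  rw [card_Ct hX hc, card_gf hX hc le_rfl (by omega), ← pow_succ']

theorem card_top' : Nat.card (⊤ : Subgroup X) = p * Nat.card (Ct X 2) := by
  rw [card_top, hX, card_Ct hX hc, ← pow_succ']

theorem exists_gf_notMem {i : ℕ} (h1 : 1 ≤ i) (hi : i + 1 ≤ 5) :
    ∃ a ∈ Gf X i, a ∉ Gf X (i + 1) :=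
  SetLike.exists_of_lt (S3806.gf_lt hX hc h1 (by omega))

theorem exists_Ct_notMem : ∃ a ∈ Ct X 2, a ∉ Gf X 2 := by
  refine SetLike.exists_of_lt (lt_of_le_of_ne (gf_two_le_Ct 2) fun e => ?_)
  have h := card_Ct' hX hc
  rw [← e] at h
  have := hp.out.two_le
  have : 0 < Nat.card (Gf X 2) := Nat.card_pos
  nlinarith

theorem exists_notMem_Ct : ∃ g : X, g ∉ Ct X 2 := by
  by_contra h
  push Not at h
  have e : Ct X 2 = ⊤ := eq_top_iff.mpr fun x _ => h x
  exact Blackburn20.Ct_ne_top hX hc (by omega) (by omega) e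

theorem gf_two_comm {a b : X} (ha : a ∈ Gf X 2) (hb : b ∈ Gf X 2) : a * b = b * a := by
  have hgrade : ∀ {u v : X}, u ∈ Gf X 3 → v ∈ Gf X 2 → v * u = u * v := fun hu hv => by
    have h := commutator_mem_Gf hv hu
    rw [gf_five hX hc, mem_bot] at h
    exact commutatorElement_eq_one_iff_mul_comm.mp h
  by_cases ha' : a ∈ Gf X 3
  · exact (hgrade ha' hb).symm
  have h := S3806.eq_of_mem_of_notMem hX hc (by omega) le_rfl (by omega) (K := centralizer {a})
    (fun u hu => mem_centralizer_singleton_iff.mpr (hgrade hu ha).symm)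
    (mem_centralizer_singleton_iff.mpr rfl) ha ha' hb
  exact (mem_centralizer_singleton_iff.mp h).symm

/-- `Γ₁` centralises `Gf 3`. -/
theorem Ct_comm_gf_three {w u : X} (hw : w ∈ Ct X 2) (hu : u ∈ Gf X 3) : u * w = w * u := by
  have h : ⁅⁅Gf X 2, (⊤ : Subgroup X)⁆, Ct X 2⁆ ≤ ⊥ := by
    refine PGroupsHallPetrescu.commutator_rotate_le ?_ ?_
    · have h1 : ⁅(⊤ : Subgroup X), Ct X 2⁆ ≤ Gf X 2 := commutator_le.mpr fun a _ b _ =>
        (commutator_mem_Gf (i := 1) (j := 1) (mem_top a) (mem_top b) : ⁅a, b⁆ ∈ Gf X 2)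
      refine (commutator_mono h1 le_rfl).trans (commutator_le.mpr fun a ha b hb => ?_)
      rw [mem_bot, commutatorElement_eq_one_iff_mul_comm]
      exact gf_two_comm hX hc ha hb
    · have h1 : ⁅Ct X 2, Gf X 2⁆ ≤ center X := commutator_le.mpr fun a ha b hb => by
        rw [← gf_four hX hc, ← commutatorElement_inv]
        exact inv_mem (mem_Ct.mp ha b hb)
      refine (commutator_mono h1 le_rfl).trans (commutator_le.mpr fun a ha b _ => ?_)
      rw [mem_bot, commutatorElement_eq_one_iff_mul_comm]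
      exact (mem_center_iff.mp ha b).symm
  rw [← S3806.gf_succ (by omega : 1 ≤ 2)] at h
  exact commutatorElement_eq_one_iff_mul_comm.mp (mem_bot.mp (h (commutator_mem_commutator hu hw)))

/-- `Γ₁' ≤ Gf 4`. -/
theorem Ct_comm_mem {x y : X} (hx : x ∈ Ct X 2) (hy : y ∈ Ct X 2) : ⁅x, y⁆ ∈ Gf X 4 := by
  by_cases h : x ∈ Gf X 2
  · exact mem_Ct.mp hy x h
  let q := QuotientGroup.mk' (Gf X 4)
  let L := Ct X 2 ⊓ (centralizer {q x}).comap q
  have hL : ∀ y, y ∈ L ↔ y ∈ Ct X 2 ∧ ⁅x, y⁆ ∈ Gf X 4 := fun y => by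
    rw [S3806.comm_mem_iff, mem_inf, mem_comap, mem_centralizer_singleton_iff]
    exact and_congr_right fun _ => eq_comm
  have e : L = Ct X 2 := eq_of_between hX (fun v hv => (hL v).mpr ⟨gf_two_le_Ct 2 hv, by
      rw [← commutatorElement_inv]
      exact inv_mem (mem_Ct.mp hx v hv)⟩) inf_le_left (card_Ct' hX hc)
    ((hL x).mpr ⟨hx, by rw [commutatorElement_self]; exact one_mem _⟩) h
  exact ((hL y).mp (e.ge hy)).2

theorem comm_notMem_three {a g : X} (ha : a ∈ Ct X 2) (ha' : a ∉ Gf X 2) (hg : g ∉ Ct X 2) :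
    ⁅a, g⁆ ∉ Gf X 3 := by
  have hL : a ∉ zpowers g ⊔ Gf X 2 := fun h => by
    have : (zpowers g ⊔ Gf X 2).Normal := normal_of_gf_two_le le_sup_right
    have e : (zpowers g ⊔ Gf X 2) ⊓ Ct X 2 = Ct X 2 := eq_of_between hX
      (le_inf le_sup_right (gf_two_le_Ct 2)) inf_le_right (card_Ct' hX hc) ⟨h, ha⟩ ha'
    have htop : zpowers g ⊔ Gf X 2 = ⊤ := eq_of_between hX (e ▸ inf_le_left) le_top
      (card_top' hX hc) (mem_sup_left (mem_zpowers g)) hg
    have hP : IsPGroup p X := IsPGroup.of_card hX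
    have h2 : Gf X 2 = commutator X := Subgroup.top_lowerCentralSeries_one
    have hz : zpowers g = ⊤ := frattini_nongenerating (top_le_iff.mp (htop.ge.trans
      (sup_le_sup_left (h2 ▸ PGroupsBasic.commutator_le_frattini hP) _)))
    exact (MaxClassTwo.center_of_maxClass (by omega) hX hc).2.2.2 fun a b =>
      PGroupsBasic.comm_of_isMulCommutative (PGroupsBasic.isMulCommutative_zpowers g)
        (hz ▸ mem_top a) (hz ▸ mem_top b)
  have hgen := Blackburn20.gen_of_notMem hX hc (by omega) (fun h => hg (gf_two_le_Ct 2 h)) hL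
  intro h
  refine Blackburn20.commutator_notMem hX hc (by omega) hgen ?_
  rw [← commutatorElement_inv]
  exact inv_mem h

theorem comm_notMem_four {u g : X} (hu : u ∈ Gf X 2) (hu' : u ∉ Gf X 3) (hg : g ∉ Ct X 2) :
    ⁅u, g⁆ ∉ Gf X 4 := fun h => hg (mem_Ct_of_exact hX hc le_rfl (by omega) hu hu' h)

theorem comm_ne_one {u g : X} (hu : u ∈ Gf X 3) (hu' : u ∉ Gf X 4) (hg : g ∉ Ct X 2) :
    ⁅u, g⁆ ≠ 1 := fun h => by
  have hK : Gf X 3 ≤ centralizer ({g} : Set X) := S3806.eq_of_mem_of_notMem hX hc (by omega)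
    (by omega) (by omega) (fun v hv => mem_centralizer_singleton_iff.mpr (by
      rw [gf_four hX hc] at hv
      exact (mem_center_iff.mp hv g).symm))
    (mem_centralizer_singleton_iff.mpr (commutatorElement_eq_one_iff_mul_comm.mp h)) hu hu'
  have e : centralizer (Gf X 3 : Set X) = ⊤ := eq_of_between hX
    (fun w hw => mem_centralizer_iff.mpr fun v hv => Ct_comm_gf_three hX hc hw hv) le_top
    (card_top' hX hc)
    (mem_centralizer_iff.mpr fun v hv => mem_centralizer_singleton_iff.mp (hK hv)) hg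
  have hle : Gf X 3 ≤ center X := fun v hv => mem_center_iff.mpr fun x =>
    (mem_centralizer_iff.mp (e.ge (mem_top x)) v hv).symm
  have h3 := card_le_of_le hle
  rw [card_gf hX hc (by omega) (by omega), card_center hX hc] at h3
  have := hp.out.two_le
  rw [show 5 - 3 = 2 from rfl, sq] at h3
  nlinarith [h3]

/-- A subgroup above `Gf 2` with an element outside `Γ₁` has derived group containing `Gf 3`. -/
theorem gf_three_le_commutator {P : Subgroup X} (h2 : Gf X 2 ≤ P) {s : X} (hs : s ∈ P)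
    (hs' : s ∉ Ct X 2) : Gf X 3 ≤ ⁅P, P⁆ := by
  obtain ⟨v, hv, hv'⟩ := exists_gf_notMem hX hc (i := 2) (by omega) (by omega)
  obtain ⟨u, hu, hu'⟩ := exists_gf_notMem hX hc (i := 3) (by omega) (by omega)
  have h4 : Gf X 4 ≤ ⁅P, P⁆ := S3806.eq_of_mem_of_notMem hX hc (by omega) (by omega) (by omega)
    (by rw [gf_five hX hc]; exact bot_le)
    (commutator_mem_commutator (h2 (Gf_antitone (by omega) hu)) hs)
    (commutator_mem_Gf (j := 1) hu (mem_top s))
    (by rw [gf_five hX hc, mem_bot]; exact comm_ne_one hX hc hu hu' hs')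
  exact S3806.eq_of_mem_of_notMem hX hc (by omega) (by omega) (by omega) h4
    (commutator_mem_commutator (h2 hv) hs) (commutator_mem_Gf (i := 2) (j := 1) hv (mem_top s))
    (comm_notMem_four hX hc hv hv' hs')

theorem zpowers_center {z : X} (hz : z ∈ center X) (hz1 : z ≠ 1) : zpowers z = center X :=
  eq_of_between hX bot_le (zpowers_le.mpr hz) (by rw [card_bot, mul_one, card_center hX hc])
    (mem_zpowers z) (by rwa [mem_bot])

theorem orderOf_center {z : X} (hz : z ∈ center X) (hz1 : z ≠ 1) : orderOf z = p := by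
  rw [← Nat.card_zpowers, zpowers_center hX hc hz hz1, card_center hX hc]

theorem frattini_eq : frattini X = Gf X 2 := by
  have hP : IsPGroup p X := IsPGroup.of_card hX
  have h2 : Gf X 2 = commutator X := Subgroup.top_lowerCentralSeries_one
  refine (eq_of_le_of_card_ge (h2 ▸ PGroupsBasic.commutator_le_frattini hP) ?_).symm
  have h := card_mul_index (frattini X)
  rw [hX] at h
  rw [card_gf hX hc le_rfl (by omega)]
  have hnc := (MaxClassTwo.center_of_maxClass (by omega) hX hc).2.2.2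
  have h' : Nat.card (frattini X) * p ^ 2 ≤ p ^ (5 - 2) * p ^ 2 := by
    rw [← pow_add, show 5 - 2 + 2 = 5 from rfl, ← h]
    exact Nat.mul_le_mul le_rfl (S3806.index_frattini_ge hX hnc)
  exact Nat.le_of_mul_le_mul_right h' (pow_pos hp.out.pos 2)

variable (hnab : ∀ A : Subgroup X, A.index = p → ¬ IsMulCommutative A)

include hnab

theorem comm_ne_one' {a u : X} (ha : a ∈ Ct X 2) (ha' : a ∉ Gf X 2) (hu : u ∈ Gf X 2)
    (hu' : u ∉ Gf X 3) : ⁅a, u⁆ ≠ 1 := fun h => by
  have hK : Gf X 2 ≤ centralizer ({a} : Set X) := S3806.eq_of_mem_of_notMem hX hc (by omega) le_rfl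
    (by omega) (fun v hv => mem_centralizer_singleton_iff.mpr (Ct_comm_gf_three hX hc ha hv))
    (mem_centralizer_singleton_iff.mpr (commutatorElement_eq_one_iff_mul_comm.mp h).symm) hu hu'
  have hA : Ct X 2 ⊓ centralizer (Gf X 2 : Set X) = Ct X 2 := eq_of_between hX
    (le_inf (gf_two_le_Ct 2) fun v hv => mem_centralizer_iff.mpr fun w hw => gf_two_comm hX hc hw hv)
    inf_le_left (card_Ct' hX hc)
    ⟨ha, mem_centralizer_iff.mpr fun v hv => mem_centralizer_singleton_iff.mp (hK hv)⟩ ha'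
  refine hnab (Ct X 2) (Blackburn20.index_Ct hX hc le_rfl (by omega))
    (PGroupsBasic.isMulCommutative_of_forall fun x hx y hy => ?_)
  have hC : ∀ v ∈ Gf X 2, ∀ w ∈ Ct X 2, v * w = w * v := fun v hv w hw =>
    mem_centralizer_iff.mp (hA.ge hw).2 v hv
  by_cases hx2 : x ∈ Gf X 2
  · exact hC x hx2 y hy
  have e : Ct X 2 ⊓ centralizer ({x} : Set X) = Ct X 2 := eq_of_between hX
    (le_inf (gf_two_le_Ct 2) fun v hv => mem_centralizer_singleton_iff.mpr (hC v hv x hx))
    inf_le_left (card_Ct' hX hc) ⟨hx, mem_centralizer_singleton_iff.mpr rfl⟩ hx2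
  exact (mem_centralizer_singleton_iff.mp (e.ge hy).2).symm

/-- The scalars of an automorphism on `Γ₁ / Gf 2` and on the centre. -/
theorem law_aux (β : MulAut X) {g z : X} (hg : g ∉ Ct X 2) (hz : z ∈ center X) (hz1 : z ≠ 1)
    {b ζ : ℕ} (hb : β g * (g ^ b)⁻¹ ∈ Ct X 2) (hζ : β z = z ^ ζ) {a : X} (ha : a ∈ Ct X 2)
    (ha' : a ∉ Gf X 2) : ∃ m : ℕ, β a * (a ^ m)⁻¹ ∈ Gf X 2 ∧ (b : ZMod p) ≠ 0 ∧
      (m : ZMod p) = (b : ZMod p) ^ 2 ∧ (ζ : ZMod p) = (b : ZMod p) ^ 5 := by
  have hsup : zpowers a ⊔ Gf X 2 = Ct X 2 := eq_of_between hX le_sup_right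
    (sup_le (zpowers_le.mpr ha) (gf_two_le_Ct 2)) (card_Ct' hX hc)
    (mem_sup_left (mem_zpowers a)) ha'
  obtain ⟨x, hx, t, ht, hxt⟩ := Subgroup.mem_sup_of_normal_right.mp (hsup.ge (mem_map_Ct β ha))
  obtain ⟨m, rfl⟩ : ∃ m : ℕ, a ^ m = x := mem_powers_iff_mem_zpowers.mpr hx
  have hm : β a * (a ^ m)⁻¹ ∈ Gf X 2 := by
    rw [← hxt]
    exact Normal.conj_mem inferInstance t ht _
  refine ⟨m, hm, ?_⟩
  -- degree two
  have ha2 : ⁅a, g⁆ ∈ Gf X 2 := commutator_mem_Gf (i := 1) (j := 1) (mem_top a) (mem_top g)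
  have ha2' : ⁅a, g⁆ ∉ Gf X 3 := comm_notMem_three hX hc ha ha' hg
  have h2 : β ⁅a, g⁆ * (⁅a, g⁆ ^ (m * b))⁻¹ ∈ Gf X 3 := by
    rw [map_commutatorElement]
    exact cong (Gf X 3) (fun t => commutator_mem_Gf (j := 1) ha2 (mem_top t))
      (commutator_mem_Gf (j := 1) hm (mem_top _))
      (Gf_antitone (by omega) (Ct_comm_mem hX hc hb (pow_mem ha m)))
  -- degree three
  have ha3 : ⁅⁅a, g⁆, g⁆ ∈ Gf X 3 := commutator_mem_Gf (j := 1) ha2 (mem_top g)
  have ha3' : ⁅⁅a, g⁆, g⁆ ∉ Gf X 4 := comm_notMem_four hX hc ha2 ha2' hg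
  have h3 : β ⁅⁅a, g⁆, g⁆ * (⁅⁅a, g⁆, g⁆ ^ (m * b * b))⁻¹ ∈ Gf X 4 := by
    rw [map_commutatorElement]
    exact cong (Gf X 4) (fun t => commutator_mem_Gf (j := 1) ha3 (mem_top t))
      (commutator_mem_Gf (j := 1) h2 (mem_top _))
      (Ct_comm_mem hX hc hb (pow_mem (gf_two_le_Ct 2 ha2) _))
  -- degree four
  have ha4 : ⁅⁅⁅a, g⁆, g⁆, g⁆ ∈ center X := gf_four hX hc ▸ commutator_mem_Gf (j := 1) ha3 (mem_top g)
  have h4 : β ⁅⁅⁅a, g⁆, g⁆, g⁆ = ⁅⁅⁅a, g⁆, g⁆, g⁆ ^ (m * b * b * b) := by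
    rw [map_commutatorElement, ← mul_inv_eq_one, ← mem_bot]
    refine cong ⊥ (fun t => ?_) ?_ ?_
    · rw [mem_bot, commutatorElement_eq_one_iff_mul_comm]
      exact (mem_center_iff.mp ha4 t).symm
    · rw [mem_bot, commutatorElement_eq_one_iff_mul_comm]
      exact (mem_center_iff.mp (gf_four hX hc ▸ h3) _).symm
    · rw [mem_bot, commutatorElement_eq_one_iff_mul_comm]
      exact (Ct_comm_gf_three hX hc hb (pow_mem ha3 _)).symm
  -- the commutator inside `Γ₁`
  have hw : ⁅a, ⁅a, g⁆⁆ ∈ center X := gf_four hX hc ▸ Ct_comm_mem hX hc ha (gf_two_le_Ct 2 ha2)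
  have hw4 : β ⁅a, ⁅a, g⁆⁆ = ⁅a, ⁅a, g⁆⁆ ^ (m * (m * b)) := by
    rw [map_commutatorElement, ← mul_inv_eq_one, ← mem_bot]
    refine cong ⊥ (fun t => ?_) ?_ ?_
    · rw [mem_bot, commutatorElement_eq_one_iff_mul_comm]
      exact (mem_center_iff.mp hw t).symm
    · rw [mem_bot, commutatorElement_eq_one_iff_mul_comm]
      exact gf_two_comm hX hc hm (mem_map_gf β ha2)
    · rw [mem_bot, commutatorElement_eq_one_iff_mul_comm]
      exact Ct_comm_gf_three hX hc (pow_mem ha m) h2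
  have hscal : ∀ w ∈ center X, w ≠ 1 → ∀ e : ℕ, β w = w ^ e → (ζ : ZMod p) = e := by
    intro w hw hw1 e he
    obtain ⟨k, rfl⟩ : ∃ k : ℕ, z ^ k = w :=
      mem_powers_iff_mem_zpowers.mpr ((zpowers_center hX hc hz hz1).ge hw)
    rw [map_pow, hζ, ← pow_mul, mul_comm, pow_mul] at he
    rw [ZMod.natCast_eq_natCast_iff, ← orderOf_center hX hc hw hw1]
    exact pow_eq_pow_iff_modEq.mp he
  have e1 := hscal _ ha4 (comm_ne_one hX hc ha3 ha3' hg) _ h4
  have e2 := hscal _ hw (comm_ne_one' hX hc hnab ha ha' ha2 ha2') _ hw4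
  have hζ0 : (ζ : ZMod p) ≠ 0 := by
    intro h
    rw [ZMod.natCast_eq_zero_iff, ← orderOf_center hX hc hz hz1, orderOf_dvd_iff_pow_eq_one,
      ← hζ] at h
    exact hz1 (β.injective (h.trans (map_one β).symm))
  push_cast at e1 e2
  rw [e1] at hζ0
  simp only [mul_ne_zero_iff] at hζ0
  obtain ⟨⟨⟨hm0, hb0⟩, -⟩, -⟩ := hζ0
  have hmb : (m : ZMod p) = (b : ZMod p) ^ 2 := by
    refine mul_left_cancel₀ (mul_ne_zero hm0 hb0) ?_
    linear_combination e1 - e2
  exact ⟨hb0, hmb, by rw [e1, hmb]; ring⟩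

/-- The weight law: the centre carries the fifth power of the weight of `X / Γ₁`. -/
theorem law (β : MulAut X) {g z : X} (hg : g ∉ Ct X 2) (hz : z ∈ center X) (hz1 : z ≠ 1)
    {b ζ : ℕ} (hb : β g * (g ^ b)⁻¹ ∈ Gf X 2) (hζ : β z = z ^ ζ) :
    (ζ : ZMod p) = (b : ZMod p) ^ 5 := by
  obtain ⟨a, ha, ha'⟩ := exists_Ct_notMem hX hc
  obtain ⟨m, -, -, -, h⟩ := law_aux hX hc hnab β hg hz hz1 (gf_two_le_Ct 2 hb) hζ ha ha'
  exact h

theorem gamma_fix (h3 : p = 3) (β : MulAut X) : ∀ a ∈ Ct X 2, β a * a⁻¹ ∈ Gf X 2 := by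
  intro a ha
  by_cases ha' : a ∈ Gf X 2
  · exact mul_mem (mem_map_gf β ha') (inv_mem ha')
  obtain ⟨g, hg⟩ := exists_notMem_Ct hX hc
  obtain ⟨z, hz, hz'⟩ := exists_gf_notMem hX hc (i := 4) (by omega) (by omega)
  rw [gf_five hX hc, mem_bot] at hz'
  rw [gf_four hX hc] at hz
  obtain ⟨ζ, hζ⟩ : ∃ k : ℕ, z ^ k = β z := mem_powers_iff_mem_zpowers.mpr
    ((zpowers_center hX hc hz hz').ge (gf_four hX hc ▸ mem_map_gf β (gf_four hX hc ▸ hz)))
  have : (Ct X 2).Normal := normal_of_gf_two_le (gf_two_le_Ct 2)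
  have htop : Ct X 2 ⊔ zpowers g = ⊤ := eq_of_between hX le_sup_left le_top (card_top' hX hc)
    (mem_sup_right (mem_zpowers g)) hg
  obtain ⟨c, hc', x, hx, hcx⟩ := Subgroup.mem_sup_of_normal_left.mp (htop.ge (mem_top (β g)))
  obtain ⟨b, rfl⟩ : ∃ b : ℕ, g ^ b = x := mem_powers_iff_mem_zpowers.mpr hx
  obtain ⟨m, hm, hb0, hmb, -⟩ := law_aux hX hc hnab β hg hz hz' (b := b)
    (by rw [← hcx, mul_inv_cancel_right]; exact hc') hζ.symm ha ha'
  have hm1 : (m : ZMod p) = ((1 : ℕ) : ZMod p) := by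
    rw [hmb, Nat.cast_one, show 2 = p - 1 by omega]
    exact ZMod.pow_card_sub_one_eq_one hb0
  rw [ZMod.natCast_eq_natCast_iff, Nat.ModEq, Nat.one_mod_eq_one.mpr hp.out.ne_one] at hm1
  have e : β a * a⁻¹ = β a * (a ^ m)⁻¹ * (a ^ p) ^ (m / p) := by
    have hdiv := Nat.div_add_mod m p
    rw [hm1] at hdiv
    conv_rhs => arg 1; arg 2; rw [← hdiv, pow_succ, pow_mul]
    group
  rw [e]
  exact mul_mem hm (pow_mem (S3806.pow_mem_gf_two hX hc (by omega) a) _)

theorem card_frattini_maximal (h3 : p = 3) (P : Subgroup X) (hP : P.index = p) :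
    p ^ 2 ≤ Nat.card (frattini P) := by
  have hG : IsPGroup p X := IsPGroup.of_card hX
  have hcardP : Nat.card P = p ^ 4 := by
    have h := card_mul_index P
    rw [hP, hX, pow_succ p 4] at h
    exact Nat.eq_of_mul_eq_mul_right hp.out.pos h
  have h2 : Gf X 2 ≤ P := by
    rw [← frattini_eq hX hc]
    refine frattini_le_coatom ⟨fun e => ?_, fun L hL => ?_⟩
    · rw [e, index_top] at hP
      exact hp.out.ne_one hP.symm
    · obtain ⟨x, hx, hx'⟩ := SetLike.exists_of_lt hL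
      exact eq_of_between hX hL.le le_top (by rw [card_top, hX, hcardP, ← pow_succ']) hx hx'
  have hcom : ⁅P, P⁆ ≤ (frattini P).map P.subtype := by
    calc ⁅P, P⁆ = (commutator P).map P.subtype := by
          rw [_root_.commutator_def, map_commutator, ← MonoidHom.range_eq_map, range_subtype]
      _ ≤ _ := map_mono (PGroupsBasic.commutator_le_frattini (hG.to_subgroup P))
  rw [← card_map_of_injective P.subtype_injective (K := frattini P)]
  by_cases hle : P ≤ Ct X 2
  · obtain rfl : P = Ct X 2 := eq_of_le_of_card_ge hle (by rw [hcardP, card_Ct hX hc])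
    obtain ⟨a, ha'⟩ := Blackburn20.exists_pow_notMem hX hc (by omega) (by omega)
    rw [show p + 1 = 4 by omega] at ha'
    have ha : a ∈ Ct X 2 := by
      by_contra hga
      obtain ⟨u, hu, hu'⟩ := exists_gf_notMem hX hc (i := 3) (by omega) (by omega)
      refine ha' (gf_four hX hc ▸ Blackburn20.pow_mem_center hX hc (by omega)
        ⟨fun h => hga (gf_two_le_Ct 2 h), fun i h1 hi => ?_⟩)
      obtain rfl | rfl : i = 2 ∨ i = 3 := by omega
      · exact hga
      · intro h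
        have h5 := mem_Ct.mp h u hu
        rw [gf_five hX hc, mem_bot] at h5
        exact comm_ne_one hX hc hu hu' hga h5
    obtain ⟨b, hb, hb'⟩ := exists_Ct_notMem hX hc
    obtain ⟨v, hv, hv'⟩ := exists_gf_notMem hX hc (i := 2) (by omega) (by omega)
    have h4 : Gf X 4 ≤ (frattini (Ct X 2)).map (Ct X 2).subtype :=
      S3806.eq_of_mem_of_notMem hX hc (by omega) (by omega) (by omega)
        (by rw [gf_five hX hc]; exact bot_le)
        (hcom (commutator_mem_commutator hb (gf_two_le_Ct 2 hv)))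
        (Ct_comm_mem hX hc hb (gf_two_le_Ct 2 hv))
        (by rw [gf_five hX hc, mem_bot]; exact comm_ne_one' hX hc hnab hb hb' hv hv')
    have hpa : a ^ p ∈ (frattini (Ct X 2)).map (Ct X 2).subtype :=
      ⟨(⟨a, ha⟩ : Ct X 2) ^ p, PGroupsBasic.pow_mem_frattini (hG.to_subgroup _) _, rfl⟩
    obtain ⟨l, hl⟩ := IsPGroup.iff_card.mp
      (hG.to_subgroup ((frattini (Ct X 2)).map (Ct X 2).subtype))
    have hlt := lt_of_le_of_ne (card_le_of_le h4) fun e =>
      ha' ((eq_of_le_of_card_ge h4 e.ge).ge hpa)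
    rw [hl, card_gf hX hc (by omega) (by omega)] at hlt
    rw [hl]
    exact Nat.pow_le_pow_right hp.out.pos ((Nat.pow_lt_pow_iff_right hp.out.one_lt).mp hlt)
  · obtain ⟨s, hs, hs'⟩ := SetLike.not_le_iff_exists.mp hle
    refine le_of_eq_of_le ?_ (card_le_of_le ((gf_three_le_commutator hX hc h2 hs hs').trans hcom))
    rw [card_gf hX hc (by omega) (by omega)]

end MaxClass

/-! ### pearls -/

theorem class_of_pearl (hX : Nat.card X = p ^ 5) {E : Subgroup X} (hE : Nat.card E = p ^ 2)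
    (hC : centralizer (E : Set X) ≤ E) :
    Group.nilpotencyClass X = 4 ∧ Nat.card (center X) = p := by
  have hc : Group.nilpotencyClass X = 5 - 1 := MaxClassTwo.class_of_self_centralizing 5 X hX E hE
    (le_antisymm hC (PGroupsBasic.le_centralizer_of_isMulCommutative
      (IsPGroup.isMulCommutative_of_card_eq_prime_sq hE)))
  exact ⟨hc, card_center hX hc⟩

/-- The chain `E < N1 < N2 < X` of normalisers above a pearl. -/
theorem pearl_chain (hX : Nat.card X = p ^ 5) {E : Subgroup X} (hE : Nat.card E = p ^ 2)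
    (hexp : ∀ e ∈ E, e ^ p = 1) (hC : centralizer (E : Set X) ≤ E)
    (hc : Group.nilpotencyClass X = 4) {N1 N2 : Subgroup X} (hN1 : N1 = normalizer (E : Set X))
    (hN2 : N2 = N1 ⊔ Gf X 2) :
    Nat.card N1 = p ^ 3 ∧ ¬ IsMulCommutative N1 ∧ Gf X 3 ≤ N1 ∧ Nat.card N2 = p ^ 4 ∧
      normalizer (N1 : Set X) = N2 ∧
      (∀ e ∈ E, e ∉ center X → e ∉ Ct X 2 ∧ e ∉ Gf X 2) ∧
      Nat.card (Gf X 2) = p ^ 3 ∧ Nat.card (Gf X 3) = p ^ 2 ∧
      ((center X).subgroupOf N2).Characteristic ∧ ((Gf X 3).subgroupOf N2).Characteristic ∧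
      ((Gf X 2).subgroupOf N2).Characteristic := by
  have hZE : center X ≤ E := (center_le_centralizer _).trans hC
  have h43 : center X ≤ Gf X 3 := (gf_four hX hc).ge.trans (Gf_antitone (by omega))
  have hEcard : Nat.card E = p * Nat.card (center X) := by
    rw [hE, card_center hX hc, sq]
  have hout : ∀ e ∈ E, e ∉ center X → e ∉ Ct X 2 ∧ e ∉ Gf X 2 := by
    intro e he he'
    have h1 : e ∉ Ct X 2 := fun hCt => by
      have hle : E ⊓ centralizer (Gf X 3 : Set X) = E := eq_of_between hX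
        (le_inf hZE (center_le_centralizer _)) inf_le_left hEcard
        ⟨he, mem_centralizer_iff.mpr fun v hv => Ct_comm_gf_three hX hc hCt hv⟩ he'
      have h3E : Gf X 3 ≤ E := (le_centralizer_iff.mp (hle.ge.trans inf_le_right)).trans hC
      have e3 : Gf X 3 = E := eq_of_le_of_card_ge h3E (by
        rw [hE, card_gf hX hc (by omega) (by omega)])
      have hle' : Ct X 2 ≤ E := fun w hw => hC (mem_centralizer_iff.mpr fun v hv =>
        Ct_comm_gf_three hX hc hw (e3.ge hv))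
      have h4 := card_le_of_le hle'
      rw [card_Ct hX hc, hE] at h4
      have := (Nat.pow_le_pow_iff_right hp.out.one_lt).mp h4
      omega
    exact ⟨h1, fun h => h1 (gf_two_le_Ct 2 h)⟩
  obtain ⟨e, he, he'⟩ : ∃ e ∈ E, e ∉ center X := by
    by_contra h
    push Not at h
    have h' := card_le_of_le (show E ≤ center X from h)
    rw [hE, card_center hX hc] at h'
    have := hp.out.two_le
    nlinarith
  obtain ⟨heC, he2⟩ := hout e he he'
  have hep := hexp e he
  have he1 : e ≠ 1 := fun h => he' (h ▸ one_mem _)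
  have hz : Nat.card (zpowers e) = p := by rw [Nat.card_zpowers, orderOf_eq_prime hep he1]
  have hb2 : zpowers e ⊓ Gf X 2 = ⊥ := zpowers_inf_eq_bot hX hep he2
  have hb3 : zpowers e ⊓ Gf X 3 = ⊥ := zpowers_inf_eq_bot hX hep fun h =>
    he2 (Gf_antitone (by omega) h)
  -- membership of conjugation commutators
  have hE2 : ∀ x ∈ E, x ∈ Gf X 2 → x ∈ center X := fun x hx hx2 => by
    by_contra hx'
    exact (hout x hx hx').2 hx2
  have : (Ct X 2).Normal := normal_of_gf_two_le (gf_two_le_Ct 2)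
  have htop : Ct X 2 ⊔ zpowers e = ⊤ := eq_of_between hX le_sup_left le_top (card_top' hX hc)
    (mem_sup_right (mem_zpowers e)) heC
  have eN1 : N1 = Gf X 3 ⊔ zpowers e := by
    rw [hN1]
    refine le_antisymm (fun x hx => ?_) (sup_le (fun v hv => ?_) ?_)
    · obtain ⟨a, ha, y, hy, rfl⟩ := Subgroup.mem_sup_of_normal_left.mp (htop.ge (mem_top x))
      have hyN : y ∈ normalizer (E : Set X) := le_normalizer (zpowers_le.mpr he hy)
      have haN : a ∈ normalizer (E : Set X) := by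
        simpa using mul_mem hx (inv_mem hyN)
      have haE : ⁅a, e⁆ ∈ E := by
        rw [commutatorElement_def]
        exact mul_mem ((mem_normalizer_iff.mp haN e).mp he) (inv_mem he)
      have hae : ⁅a, e⁆ ∈ Gf X 4 := gf_four hX hc ▸ hE2 _ haE
        (commutator_mem_Gf (i := 1) (j := 1) (mem_top a) (mem_top e))
      have ha2 : a ∈ Gf X 2 := by
        by_contra h
        exact comm_notMem_three hX hc ha h heC (Gf_antitone (by omega) hae)
      have ha3 : a ∈ Gf X 3 := by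
        by_contra h
        exact comm_notMem_four hX hc ha2 h heC hae
      exact mul_mem_sup ha3 hy
    · exact mem_normalizer_of_gf (i := 3) ((gf_four hX hc).le.trans hZE) hv
    · exact zpowers_le.mpr (le_normalizer he)
  have eN2 : N2 = Gf X 2 ⊔ zpowers e := by
    rw [hN2, eN1]
    refine le_antisymm (sup_le (sup_le ((Gf_antitone (by omega)).trans le_sup_left) le_sup_right)
      le_sup_left) (sup_le le_sup_right (le_sup_right.trans le_sup_left))
  have c1 : Nat.card N1 = p ^ 3 := by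
    rw [eN1, PGroupsBasic.card_sup_of_normal (by rwa [inf_comm]), hz,
      card_gf hX hc (by omega) (by omega), ← pow_succ]
  have c2 : Nat.card N2 = p ^ 4 := by
    rw [eN2, PGroupsBasic.card_sup_of_normal (by rwa [inf_comm]), hz,
      card_gf hX hc (by omega) (by omega), ← pow_succ]
  have g3N1 : Gf X 3 ≤ N1 := eN1 ▸ le_sup_left
  have eN : N1 ≤ N2 := hN2 ▸ le_sup_left
  have he1' : e ∈ N1 := eN1 ▸ mem_sup_right (mem_zpowers e)
  have g2N2 : Gf X 2 ≤ N2 := hN2 ▸ le_sup_right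
  obtain ⟨u, hu, hu'⟩ := exists_gf_notMem hX hc (i := 3) (by omega) (by omega)
  have hue := comm_ne_one hX hc hu hu' heC
  have hnc : ¬ IsMulCommutative N1 := fun h => hue (commutatorElement_eq_one_iff_mul_comm.mpr
    (PGroupsBasic.comm_of_isMulCommutative h (g3N1 hu) he1'))
  have hNN : normalizer (N1 : Set X) = N2 := by
    have hle : N2 ≤ normalizer (N1 : Set X) := hN2 ▸ sup_le le_normalizer
      (fun v hv => mem_normalizer_of_gf (i := 2) g3N1 hv)
    refine le_antisymm (fun x hx => ?_) hle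
    by_contra hx'
    have ht : normalizer (N1 : Set X) = ⊤ := eq_of_between hX hle le_top
      (by rw [card_top, hX, c2, ← pow_succ']) hx hx'
    obtain ⟨a, ha, ha'⟩ := exists_Ct_notMem hX hc
    have haN : ⁅a, e⁆ ∈ Gf X 3 ⊔ zpowers e := by
      rw [← eN1, commutatorElement_def]
      exact mul_mem ((mem_normalizer_iff.mp (ht.ge (mem_top a)) e).mp he1') (inv_mem he1')
    obtain ⟨v, hv, y, hy, hvy⟩ := Subgroup.mem_sup_of_normal_left.mp haN
    have hy2 : y ∈ zpowers e ⊓ Gf X 2 := mem_inf.mpr ⟨hy, by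
      have : y = v⁻¹ * ⁅a, e⁆ := by rw [← hvy, inv_mul_cancel_left]
      rw [this]
      exact mul_mem (inv_mem (Gf_antitone (by omega) hv))
        (commutator_mem_Gf (i := 1) (j := 1) (mem_top a) (mem_top e))⟩
    rw [hb2, mem_bot] at hy2
    rw [hy2, mul_one] at hvy
    exact comm_notMem_three hX hc ha ha' heC (hvy ▸ hv)
  have hmem2 : ∀ x ∈ N2, ∃ v ∈ Gf X 2, ∃ y ∈ zpowers e, v * y = x := fun x hx =>
    Subgroup.mem_sup_of_normal_left.mp (eN2 ▸ hx)
  have hder : ⁅N2, N2⁆ = Gf X 3 := by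
    refine le_antisymm (commutator_le.mpr fun x hx y hy => ?_)
      (gf_three_le_commutator hX hc g2N2 (eN he1') heC)
    obtain ⟨v, hv, s, hs, rfl⟩ := hmem2 x hx
    obtain ⟨w, hw, t, ht, rfl⟩ := hmem2 y hy
    rw [S3806.comm_mem_iff, map_mul, map_mul]
    have hcen : ∀ v ∈ Gf X 2, ∀ r, Commute (QuotientGroup.mk' (Gf X 3) v)
        (QuotientGroup.mk' (Gf X 3) r) := fun v hv r =>
      (S3806.comm_mem_iff _ _ _).mp (commutator_mem_Gf (j := 1) hv (mem_top r))
    have hst : Commute (QuotientGroup.mk' (Gf X 3) s) (QuotientGroup.mk' (Gf X 3) t) := by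
      obtain ⟨i, rfl⟩ := mem_zpowers_iff.mp hs
      obtain ⟨j, rfl⟩ := mem_zpowers_iff.mp ht
      exact (Commute.zpow_zpow_self e i j).map _
    exact ((hcen v hv w).mul_right (hcen v hv t)).mul_left ((hcen w hw s).symm.mul_right hst)
  have hchar : ((Gf X 3).subgroupOf N2).Characteristic := by
    rw [show (Gf X 3).subgroupOf N2 = commutator N2 by
      rw [subgroupOf, ← hder, ← comap_map_eq_self_of_injective N2.subtype_injective (commutator N2),
        _root_.commutator_def, map_commutator, ← MonoidHom.range_eq_map, range_subtype],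
      _root_.commutator_def]
    infer_instance
  refine ⟨c1, hnc, g3N1, c2, hNN, hout, card_gf hX hc le_rfl (by omega),
    card_gf hX hc (by omega) (by omega), ?_, ?_, ?_⟩
  · have e0 : (center X).subgroupOf N2 = center N2 := by
      ext x
      rw [mem_subgroupOf]
      refine ⟨fun h => mem_center_iff.mpr fun y => Subtype.ext (mem_center_iff.mp h y), fun h => ?_⟩
      have hcm : ∀ y ∈ N2, y * (x : X) = x * y := fun y hy =>
        congrArg Subtype.val (mem_center_iff.mp h ⟨y, hy⟩)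
      have hxE : (x : X) ∈ E := hC (mem_centralizer_iff.mpr fun y hy =>
        hcm y (eN (hN1 ▸ le_normalizer hy)))
      by_contra hx'
      exact comm_ne_one hX hc hu hu' (hout _ hxE hx').1
        (commutatorElement_eq_one_iff_mul_comm.mpr (hcm u (eN (g3N1 hu))))
    rw [e0]
    infer_instance
  · exact hchar
  · have e0 : (Gf X 2).subgroupOf N2 =
        centralizer (((Gf X 3).subgroupOf N2 : Subgroup N2) : Set N2) := by
      ext x
      rw [mem_subgroupOf, mem_centralizer_iff]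
      refine ⟨fun h y hy => Subtype.ext (gf_two_comm hX hc
        (Gf_antitone (by omega) (mem_subgroupOf.mp hy)) h), fun h => ?_⟩
      obtain ⟨v, hv, y, hy, hvy⟩ := hmem2 x x.2
      have hux : u * (x : X) = x * u :=
        congrArg Subtype.val (h ⟨u, eN (g3N1 hu)⟩ (mem_subgroupOf.mpr hu))
      have huv : u * v = v * u := gf_two_comm hX hc (Gf_antitone (by omega) hu) hv
      have huy : y * u = u * y := by
        rw [← hvy, ← mul_assoc, huv, mul_assoc, mul_assoc] at hux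
        exact (mul_left_cancel hux).symm
      have hy1 : y ∈ zpowers e ⊓ centralizer ({u} : Set X) :=
        ⟨hy, mem_centralizer_singleton_iff.mpr huy⟩
      rw [zpowers_inf_eq_bot hX hep fun hmem => hue (commutatorElement_eq_one_iff_mul_comm.mpr
        (mem_centralizer_singleton_iff.mp hmem).symm), mem_bot] at hy1
      rw [← hvy, hy1, mul_one]
      exact hv
    rw [e0]
    infer_instance

end Cfsg.Agent.PFiveMaxClass59
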