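import Mathlib
import Cfsg.Prelude.Def_FusionSystem
import Cfsg.Agent.Lib.PFiveBasic1
import Cfsg.Agent.Lib.PFiveKit1
import Cfsg.Agent.Lib.PFiveTwist1
import Cfsg.Agent.Lib.PFiveMaxClass59

/-!
Essential subgroups of order `p ^ 2` in a group of order `p ^ 5`.
-/

set_option autoImplicit false
set_option linter.unusedSectionVars false
set_option maxHeartbeats 800000

namespace Cfsg.Agent.PFivePearl1

open scoped commutatorElement
open Cfsg Cfsg.FusionSystem Cfsg.Agent.FusionSysBasic Cfsg.Agent.FusionSysSaturated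
  Cfsg.Agent.FusionSysNormal Cfsg.Agent.FusionSysChain Cfsg.Agent.FusionSysAlperin
open PFiveTwist1 (pow_cast cast_of_pow)
open PGroupsHallPetrescu (Gf Gf_antitone commutator_mem_Gf)
open Blackburn20 (Ct gf_two_le_Ct)

theorem exists_pow {G : Type*} [Group G] {p : ℕ} [hp : Fact p.Prime] {z a : G} (hz : z ^ p = 1)
    (h : a ∈ Subgroup.zpowers z) : ∃ i : ℕ, a = z ^ i := by
  obtain ⟨i, hi⟩ := (isOfFinOrder_iff_pow_eq_one.2 ⟨p, hp.out.pos, hz⟩).mem_powers_iff_mem_zpowers.2 h
  exact ⟨i, hi.symm⟩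

theorem dvd_of_pow_mem {G : Type*} [Group G] {p : ℕ} [hp : Fact p.Prime] {K : Subgroup G}
    [K.Normal] {x : G} (hx : x ∉ K) (hxp : x ^ p ∈ K) {j : ℕ} (hj : x ^ j ∈ K) : p ∣ j := by
  rw [← QuotientGroup.eq_one_iff, QuotientGroup.mk_pow] at hxp hj
  exact orderOf_eq_prime hxp (fun h => hx ((QuotientGroup.eq_one_iff x).1 h)) ▸
    orderOf_dvd_of_pow_eq_one hj

theorem exists_scalar {p : ℕ} [hp : Fact p.Prime] (hp5 : 5 ≤ p) (hp7 : p ≠ 7) :
    ∃ c : ZMod p, c ≠ 0 ∧ c ^ 6 ≠ 1 ∧ c ^ 5 ≠ 1 := by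
  obtain ⟨u, hu⟩ := IsCyclic.exists_generator (α := (ZMod p)ˣ)
  have ho : orderOf u = p - 1 := by
    rw [orderOf_eq_card_of_forall_mem_zpowers hu, Nat.card_eq_fintype_card, ZMod.card_units]
  have key : ∀ k, k ∈ [5, 6] → (u : ZMod p) ^ k ≠ 1 := by
    intro k hk he
    have h1 : u ^ k = 1 := Units.ext (by simpa using he)
    have h2 := orderOf_dvd_of_pow_eq_one h1
    rw [ho] at h2
    have h3 : p - 1 ≤ k := Nat.le_of_dvd (by simp at hk; omega) h2
    simp at hk
    have hp' := hp.out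
    rcases hk with rfl | rfl
    · have h4 : p ≤ 6 := by omega
      interval_cases p <;> simp_all (config := { decide := true })
    · have h4 : p ≤ 7 := by omega
      interval_cases p <;> simp_all (config := { decide := true })
  exact ⟨u, u.ne_zero, key 6 (by simp), key 5 (by simp)⟩

variable {Ω : Type*} [Group Ω] {S : Subgroup Ω} [Finite S] {p : ℕ} [hp : Fact p.Prime]
  {F : FusionSystem S} {E : Subgroup Ω}
  (hS : IsPGroup p S) (hF : F.IsSaturated p) (hp3 : 3 ≤ p) (hp7 : p ≠ 7)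
  (hcard : Nat.card S = p ^ 5) (hE : F.IsEssential p E) (hE2 : Nat.card E = p ^ 2)
  (hnab : ∀ A : Subgroup Ω, A ≤ S → Nat.card A = p ^ 4 → ¬ IsMulCommutative A)

include hS hF hp3 hp7 hcard hE hE2 hnab

theorem pearl_center :
    (∀ α ∈ F.autGroup E, ∀ u ∈ centralizerIn S S, afun α u ∈ centralizerIn S S) ∨
      (p = 3 ∧ Group.nilpotencyClass S = 4) := by
  classical
  have hES := hE.1.1
  haveI := finite_of_le hES
  haveI := finite_autGroup (F := F) E
  haveI := finite_normalizerIn (S := S) E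
  have hEp : IsPGroup p E := hS.to_le hES
  have hEab : IsMulCommutative E := IsPGroup.isMulCommutative_of_card_eq_prime_sq hE2
  have hnabX : ∀ A : Subgroup S, A.index = p → ¬ IsMulCommutative A := by
    intro A hA hc
    have hAc : Nat.card A = p ^ 4 := by
      have h := Subgroup.card_mul_index A
      rw [hA, hcard, pow_succ p 4] at h
      exact Nat.eq_of_mul_eq_mul_right hp.out.pos h
    refine hnab (A.map S.subtype) (Subgroup.map_subtype_le A)
      (by rw [Subgroup.card_map_of_injective S.subtype_injective, hAc])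
      (PGroupsBasic.isMulCommutative_of_forall ?_)
    rintro _ ⟨a, ha, rfl⟩ _ ⟨b, hb, rfl⟩
    simp only [Subgroup.coe_subtype, ← Subgroup.coe_mul, PGroupsBasic.comm_of_isMulCommutative hc ha hb]
  have hexp : ∀ e : E, e ^ p = 1 := by
    intro e
    by_contra he
    obtain ⟨f, hf⟩ := IsPGroup.iff_card.1 (hEp.to_subgroup (frattini E))
    have hf0 : f ≠ 0 := fun h0 => he (Subgroup.mem_bot.1
      ((Subgroup.eq_bot_of_card_eq _ (by rw [hf, h0, pow_zero]) : frattini E = ⊥) ▸
        PGroupsBasic.pow_mem_frattini hEp e))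
    refine FusionEssential88.no_middle hS hF hE (frattini E) le_rfl
      (Nat.le_mul_of_pos_right _ hp.out.pos) ?_
    rw [hE2, hf, ← pow_succ]
    exact Nat.pow_le_pow_right hp.out.pos (by omega)
  set EX := E.subgroupOf S
  have hEXc : Nat.card EX = p ^ 2 := by
    rw [Nat.card_congr (Subgroup.subgroupOfEquivOfLe hES).toEquiv, hE2]
  have hEXexp : ∀ e ∈ EX, e ^ p = 1 := fun e he => Subtype.ext
    (congrArg (fun u : E => (u : Ω)) (hexp ⟨(e : Ω), he⟩) :)
  have hEXC : Subgroup.centralizer (EX : Set S) ≤ EX := by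
    intro v hv
    refine centralizerIn_le_of_centric hE.1 (mem_centralizerIn.2 ⟨v.2, fun u hu => ?_⟩)
    have h := congrArg Subtype.val (Subgroup.mem_centralizer_iff.1 hv ⟨u, hES hu⟩ hu)
    simp only [Subgroup.coe_mul] at h
    rw [cj_apply, mul_inv_eq_iff_eq_mul]
    exact h.symm
  obtain ⟨hc, hcZ⟩ := PFiveMaxClass59.class_of_pearl hcard hEXc hEXC
  obtain ⟨c1, hnc, h3N, c2, hN1N, hout, hc2, hc3, hchZ, hch3, hch2⟩ :=
    PFiveMaxClass59.pearl_chain hcard hEXc hEXexp hEXC hc rfl rfl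
  set N1 := Subgroup.normalizer (EX : Set S) with hN1def
  set N2 := N1 ⊔ Gf S 2 with hN2def
  have hZc : Nat.card (centralizerIn S S) = p := by rw [PFiveBasic1.card_Zs, hcZ]
  haveI : Nontrivial (centralizerIn S S) := by
    haveI := finite_centralizerIn (S := S) S
    exact Finite.one_lt_card_iff_nontrivial.1 (hZc ▸ hp.out.one_lt)
  obtain ⟨⟨z, hzZ⟩, hz0⟩ := exists_ne (1 : centralizerIn S S)
  have hz1 : z ≠ 1 := fun h => hz0 (Subtype.ext h)
  have hzp : z ^ p = 1 := PGroupsBasic.pow_eq_one_of_card hZc hzZ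
  have hgenZ : Subgroup.zpowers z = centralizerIn S S := by
    haveI := finite_centralizerIn (S := S) S
    exact Subgroup.eq_of_le_of_card_ge ((Subgroup.zpowers_le).2 hzZ)
      (by rw [hZc, Nat.card_zpowers, orderOf_eq_prime hzp hz1])
  have hzE : z ∈ E := PFiveBasic1.Zs_le hE.1 hzZ
  set zE : E := ⟨z, hzE⟩
  by_cases hall : ∀ α ∈ F.autGroup E, ((α zE : E) : Ω) ∈ Subgroup.zpowers z
  · refine Or.inl fun α hα u hu => ?_
    obtain ⟨i, hi⟩ := exists_pow hzp (hgenZ.ge hu)
    have e : (⟨u, PFiveBasic1.Zs_le hE.1 hu⟩ : E) = zE ^ i := Subtype.ext (by simpa using hi)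
    rw [afun_apply α (PFiveBasic1.Zs_le hE.1 hu), e, map_pow, Subgroup.coe_pow, ← hgenZ]
    exact pow_mem (hall α hα) i
  push Not at hall
  obtain ⟨α, hαA, hα⟩ := hall
  by_cases hp5 : 5 ≤ p
  swap
  · refine Or.inr ⟨?_, hc⟩
    rcases Nat.lt_or_ge p 4 with h | h
    · omega
    · have : p = 4 := by omega
      exact absurd (this ▸ hp.out) (by norm_num)
  exfalso
  obtain ⟨c, hc0, hc6, hc5⟩ := exists_scalar hp5 hp7
  -- the linear action
  obtain ⟨V, _, _, _, q, ρ, hqm, hqs, hqz, hρ, hact, hVc⟩ := PFiveKit1.exists_out_act hS hE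
  obtain ⟨T, hTg, -, hTc, hText, -⟩ := PFiveKit1.exists_out_sylow hS hF hE
  have hfr : frattini E = ⊥ := PGroupsBasic.frattini_eq_bot_of_elementary hEab.is_comm.comm hexp
  set N := normalizerIn S E with hNdef
  have hNS : N ≤ S := inf_le_left
  have hEN : E ≤ N := le_normalizerIn hES
  have hNX : N.subgroupOf S = N1 := by
    ext v
    rw [Subgroup.mem_subgroupOf, hN1def]
    constructor
    · intro hv
      refine Subgroup.mem_normalizer_iff.2 fun u => ?_
      exact Subgroup.mem_normalizer_iff.1 hv.2 (u : Ω)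
    · intro hv
      exact ⟨v.2, mem_normalizer_of_cj_le hES fun u hu =>
        (Subgroup.mem_normalizer_iff.1 hv ⟨u, hES hu⟩).1 hu⟩
  have hNc : Nat.card N = p ^ 3 := by
    rw [← c1, ← hNX, Nat.card_congr (Subgroup.subgroupOfEquivOfLe hNS).toEquiv]
  have hNp : IsPGroup p N := hS.to_le hNS
  have hTp : Nat.card T = p := by
    rw [hNc, hE2, show p ^ 3 = p * p ^ 2 by ring] at hTc
    exact Nat.eq_of_mul_eq_mul_right (pow_pos hp.out.pos 2) hTc
  have hq1 : q 1 = 0 := (hqz 1).2 (one_mem _)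
  have hqi : ∀ {a b : E}, q a = q b → a = b := by
    intro a b h
    have h2 := hqm b (b⁻¹ * a)
    rw [mul_inv_cancel_left, h, left_eq_add, hqz, hfr, Subgroup.mem_bot, inv_mul_eq_one] at h2
    exact h2.symm
  have hqp : ∀ (a : E) (n : ℕ), q (a ^ n) = (n : ZMod p) • q a := fun a n => by
    induction n with
    | zero => simp [hq1]
    | succ n ih => rw [pow_succ, hqm, ih]; push_cast; rw [add_smul, one_smul]
  have hqzE : q zE ≠ 0 := fun h => hz1 (congrArg Subtype.val (hqi (h.trans hq1.symm)))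
  set EN := E.subgroupOf N
  have hENi : EN.index = p := by
    have h := Subgroup.card_mul_index EN
    rw [Nat.card_congr (Subgroup.subgroupOfEquivOfLe hEN).toEquiv, hE2, hNc, pow_succ p 2] at h
    exact Nat.eq_of_mul_eq_mul_left (pow_pos hp.out.pos 2) h
  haveI : EN.Normal := PGroupsBasic.normal_of_index_eq hNp hENi
  obtain ⟨x, -, hx⟩ := SetLike.exists_of_lt (lt_top_iff_ne_top.2
    (PGroupsBasic.isCoatom_of_index_eq hENi).1)
  let gx : ↥(S ⊓ Subgroup.normalizer (E : Set Ω)) := x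
  set t : PFiveKit1.Out F E := (PFiveKit1.conjAut F hES gx : PFiveKit1.Out F E) with ht
  have ht1 : t ≠ 1 := fun h => hx (mem_of_nHom_mem_inn hES (centralizerIn_le_of_centric hE.1) gx
    (show PFiveKit1.conjAut F hES gx ∈ PFiveKit1.innIn F E from (QuotientGroup.eq_one_iff _).1 h))
  have htp : t ^ p = 1 := PGroupsBasic.pow_eq_one_of_card (H := (T : Subgroup _)) hTp (hTg gx)
  have hTeq : (T : Subgroup (PFiveKit1.Out F E)) = Subgroup.zpowers t :=
    (Subgroup.eq_of_le_of_card_ge ((Subgroup.zpowers_le).2 (hTg gx))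
      (by rw [hTp, Nat.card_zpowers, orderOf_eq_prime htp ht1])).symm
  have hcx : ∀ a : E, (((PFiveKit1.conjAut F hES gx : MulAut E) a : E) : Ω) =
      (x : Ω) * (a : Ω) * (x : Ω)⁻¹ := fun a => PFiveKit1.conjAut_apply hES gx a
  have hzS : (⟨z, hES hzE⟩ : S) ∈ Subgroup.center S := by
    obtain ⟨h, hc'⟩ := PFiveBasic1.mem_Zs.1 hzZ; exact hc'
  have hcenZ : ∀ v : S, v ∈ Subgroup.center S → (v : Ω) ∈ Subgroup.zpowers z := fun v hv =>
    hgenZ.ge (PFiveBasic1.mem_Zs.2 ⟨v.2, hv⟩)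
  -- elements of `E` in the derived subgroup are central
  have hE2c : ∀ v : S, v ∈ EX → v ∈ Gf S 2 → v ∈ Subgroup.center S := fun v hv hv2 => by
    by_contra hv'
    exact (hout v hv hv').2 hv2
  have hJ : ∀ v, (ρ t - 1) v ∈ (ZMod p) ∙ q zE := by
    intro v
    obtain ⟨a, rfl⟩ := hqs v
    have hmem : (⁅(⟨(x : Ω), hNS x.2⟩ : S), ⟨(a : Ω), hES a.2⟩⁆ : S) ∈ Subgroup.center S := by
      refine hE2c _ ?_ (commutator_mem_Gf (i := 1) (j := 1) (Subgroup.mem_top _) (Subgroup.mem_top _))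
      rw [Subgroup.mem_subgroupOf]
      show (x : Ω) * (a : Ω) * (x : Ω)⁻¹ * (a : Ω)⁻¹ ∈ E
      exact mul_mem (cj_mem_of_normalizer x.2.2 a.2) (inv_mem a.2)
    obtain ⟨i, hi⟩ := exists_pow hzp (hcenZ _ hmem)
    have e : (PFiveKit1.conjAut F hES gx : MulAut E) a = zE ^ i * a := Subtype.ext (by
      rw [hcx, Subgroup.coe_mul, Subgroup.coe_pow, ← hi]
      show _ = (x : Ω) * (a : Ω) * (x : Ω)⁻¹ * (a : Ω)⁻¹ * (a : Ω)
      rw [inv_mul_cancel_right])
    rw [LinearMap.sub_apply, Module.End.one_apply, ht, hact, e, hqm, hqp, add_sub_cancel_right]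
    exact Submodule.smul_mem _ _ (Submodule.mem_span_singleton_self _)
  obtain ⟨φ, hφ⟩ := PFiveLinear1.exists_functional hqzE hJ
  have hφv : ∀ v, ρ t v = v + φ v • q zE := fun v => by
    rw [← hφ, LinearMap.sub_apply, Module.End.one_apply, add_sub_cancel]
  have hφiff : ∀ a : E, φ (q a) = 0 ↔ (x : Ω) * (a : Ω) = (a : Ω) * x := by
    intro a
    have h := hφv (q a)
    rw [ht, hact] at h
    constructor
    · intro h0
      rw [h0, zero_smul, add_zero] at h
      rw [← mul_inv_eq_iff_eq_mul, ← hcx, hqi h]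
    · intro he
      have : (PFiveKit1.conjAut F hES gx : MulAut E) a = a := Subtype.ext (by
        rw [hcx, he, mul_inv_cancel_right])
      rw [this, left_eq_add, smul_eq_zero] at h
      exact h.resolve_right hqzE
  have hzx : (x : Ω) * z = z * x :=
    congrArg Subtype.val (Subgroup.mem_center_iff.1 hzS (⟨(x : Ω), hNS x.2⟩ : S))
  have htr : PFiveLinear1.IsTr ρ t φ (q zE) := ⟨hφv, (hφiff zE).2 hzx⟩
  -- elements outside the centre are moved by `x`
  have hmove : ∀ a : E, (a : Ω) ∉ Subgroup.zpowers z → φ (q a) ≠ 0 := by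
    intro a ha h0
    refine hx (centralizerIn_le_of_centric hE.1 (mem_centralizerIn.2 ⟨hNS x.2, fun u hu => ?_⟩))
    have hK : E ≤ Subgroup.centralizer ({(x : Ω)} : Set Ω) := by
      have hlt : Subgroup.zpowers z < (Subgroup.centralizer ({(x : Ω)} : Set Ω)) ⊓ E := by
        refine lt_of_le_of_ne (le_inf ((Subgroup.zpowers_le).2
          (Subgroup.mem_centralizer_singleton_iff.2 hzx.symm)) ((Subgroup.zpowers_le).2 hzE))
          fun e => ha ?_
        rw [e]
        exact ⟨Subgroup.mem_centralizer_singleton_iff.2 ((hφiff a).1 h0).symm, a.2⟩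
      haveI : Finite ↥((Subgroup.centralizer ({(x : Ω)} : Set Ω)) ⊓ E) := finite_of_le (inf_le_right.trans hES)
      have hlt' : Nat.card (Subgroup.zpowers z) <
          Nat.card ↥((Subgroup.centralizer ({(x : Ω)} : Set Ω)) ⊓ E) :=
        lt_of_le_of_ne (Subgroup.card_le_of_le hlt.le) fun e =>
          hlt.ne (Subgroup.eq_of_le_of_card_ge hlt.le e.ge)
      obtain ⟨j, hj⟩ := IsPGroup.iff_card.1 (hS.to_le
        (inf_le_right.trans hES : Subgroup.centralizer ({(x : Ω)} : Set Ω) ⊓ E ≤ S))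
      rw [Nat.card_zpowers, orderOf_eq_prime hzp hz1, hj] at hlt'
      have hj2 : 1 < j := (Nat.pow_lt_pow_iff_right hp.out.one_lt).1 (by rwa [pow_one])
      have e := Subgroup.eq_of_le_of_card_ge (inf_le_right :
        Subgroup.centralizer ({(x : Ω)} : Set Ω) ⊓ E ≤ E)
        (by rw [hE2, hj]; exact Nat.pow_le_pow_right hp.out.pos hj2)
      exact e.ge.trans inf_le_left
    rw [cj_apply, mul_inv_eq_iff_eq_mul]
    exact (Subgroup.mem_centralizer_singleton_iff.1 (hK hu)).symm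
  set a : PFiveKit1.Out F E := ((⟨α, hαA⟩ : F.autGroup E) : PFiveKit1.Out F E) with hadef
  set gE : E := α zE with hgE
  have hqg : q gE = ρ a (q zE) := (hact ⟨α, hαA⟩ zE).symm
  have hφg : φ (ρ a (q zE)) ≠ 0 := hqg ▸ hmove gE hα
  have hφ' : (φ.comp (ρ a⁻¹)) (q zE) ≠ 0 := by
    intro h0
    have h1 : ρ a⁻¹ (q zE) = q (α⁻¹ zE) := hact (⟨α, hαA⟩⁻¹ : F.autGroup E) zE
    rw [LinearMap.comp_apply, h1] at h0
    refine hα ?_
    have h2 : ((α⁻¹ zE : E) : Ω) ∈ Subgroup.zpowers z := by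
      by_contra h
      exact hmove _ h h0
    obtain ⟨i, hi⟩ := exists_pow hzp h2
    have h3 : α⁻¹ zE = zE ^ i := Subtype.ext (by simpa using hi)
    have h4 : zE = gE ^ i := by
      have := congrArg α h3
      rwa [MulAut.apply_inv_self, map_pow] at this
    by_contra hg
    -- `gE` is a power of `zE`
    have hi0 : ¬ p ∣ i := fun hd => by
      obtain ⟨d, rfl⟩ := hd
      rw [pow_mul, hexp, one_pow] at h4
      exact hz1 (congrArg Subtype.val h4)
    obtain ⟨j, hj⟩ : ∃ j : ℕ, (j : ZMod p) = (i : ZMod p)⁻¹ := ⟨_, ZMod.natCast_zmod_val _⟩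
    have hi0' : (i : ZMod p) ≠ 0 := fun h0 => hi0 ((ZMod.natCast_eq_zero_iff _ _).1 h0)
    refine hg ?_
    have h5 : gE = zE ^ j := by
      rw [h4, ← pow_mul]
      conv_lhs => rw [← pow_one gE]
      exact pow_cast (hexp gE) (by push_cast; rw [hj, mul_inv_cancel₀ hi0'])
    show (gE : Ω) ∈ Subgroup.zpowers z
    rw [h5, Subgroup.coe_pow]
    exact pow_mem (Subgroup.mem_zpowers z) _
  obtain ⟨τ, -, hτ1, hτ2, -, n, -, hτ4⟩ :=
    PFiveLinear1.pair_torus htr (htr.conj a) hφg hφ' hc0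
  obtain ⟨β, rfl⟩ := QuotientGroup.mk_surjective τ
  have hconj : ∀ u ∈ T, (β : PFiveKit1.Out F E) * u * (β : PFiveKit1.Out F E)⁻¹ ∈ T := by
    intro u hu
    obtain ⟨i, rfl⟩ := exists_pow htp (hTeq.le hu)
    rw [← conj_pow, hρ hτ4]
    exact pow_mem (pow_mem (hTg gx) _) _
  obtain ⟨f, hf, hfN, hfE⟩ := hText β hconj
  obtain ⟨f', hf', he⟩ := hf.exists_aut (hf.im_self hfN)
  have hval : ∀ (b : E) (d : E), ρ (β : PFiveKit1.Out F E) (q b) = q d →
      f' ⟨(b : Ω), hEN b.2⟩ = ⟨(d : Ω), hEN d.2⟩ := by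
    intro b d hbd
    refine Subtype.ext ?_
    rw [← afun_coe, he _ (hEN b.2), hfE _ b.2, afun_coe]
    rw [hact] at hbd
    rw [hqi hbd]
  set zN : N := ⟨z, hEN hzE⟩
  set gN : N := ⟨(gE : Ω), hEN gE.2⟩
  have hfz : f' zN = zN ^ c.val := hval zE (zE ^ c.val) (by rw [hτ1, hqp, ZMod.natCast_zmod_val])
  have hfg : f' gN = gN ^ c⁻¹.val :=
    hval gE (gE ^ c⁻¹.val) (by rw [hqg, hτ2, hqp, hqg, ZMod.natCast_zmod_val])
  -- the structure of `N`
  let ι : N →* S := Subgroup.inclusion hNS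
  have hιinj : Function.Injective ι := Subgroup.inclusion_injective hNS
  have hzNp : zN ^ p = 1 := Subtype.ext hzp
  have hzN1 : zN ≠ 1 := fun h => hz1 (congrArg Subtype.val h)
  have hzNc : zN ∈ Subgroup.center N := Subgroup.mem_center_iff.2 fun u =>
    hιinj (by rw [map_mul, map_mul]; exact Subgroup.mem_center_iff.1 hzS (ι u))
  have hnN : ¬ IsMulCommutative N := fun h => hnc (by
    rw [← hNX]
    exact ⟨⟨fun u v => Subtype.ext (Subtype.ext (congrArg (fun w : N => (w : Ω))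
      (h.is_comm.comm ⟨((u : S) : Ω), u.2⟩ ⟨((v : S) : Ω), v.2⟩)))⟩⟩)
  have hcN : Nat.card (Subgroup.center N) = p := FusionPearl.card_center_of_card_cube hNc hnN
  have hcNgen : Subgroup.center N = Subgroup.zpowers zN :=
    (Subgroup.eq_of_le_of_card_ge ((Subgroup.zpowers_le).2 hzNc)
      (by rw [hcN, Nat.card_zpowers, orderOf_eq_prime hzNp hzN1])).symm
  have hcidx : (Subgroup.center N).index = p ^ 2 := by
    have h := Subgroup.card_mul_index (Subgroup.center N)
    rw [hcN, hNc, show p ^ 3 = p * p ^ 2 by ring] at h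
    exact Nat.eq_of_mul_eq_mul_left hp.out.pos h
  have hcommN : ∀ u v : N, ⁅u, v⁆ ∈ Subgroup.zpowers zN := fun u v => hcNgen ▸
    PGroupsBasic.commutator_le_of_index_le_sq hNp hcidx.le
      (Subgroup.commutator_mem_commutator (Subgroup.mem_top u) (Subgroup.mem_top v))
  have hgp : gN ^ p = 1 := Subtype.ext (congrArg (fun u : E => (u : Ω)) (hexp gE))
  have hgc : gN ∉ Subgroup.center N := fun h => hα (by
    obtain ⟨i, hi⟩ := exists_pow hzNp (hcNgen.le h)
    show (gE : Ω) ∈ Subgroup.zpowers z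
    rw [show (gE : Ω) = z ^ i by simpa using congrArg (fun u : N => (u : Ω)) hi]
    exact pow_mem (Subgroup.mem_zpowers z) _)
  have hgS : ι gN ∉ Ct S 2 ∧ ι gN ∉ Gf S 2 :=
    hout (ι gN) gE.2 fun h => hα (hcenZ _ h)
  -- an element of the second normalizer
  have hN12 : N1 < N2 := lt_of_le_of_ne le_sup_left fun e => by
    have := c1
    rw [e, c2] at this
    exact absurd (Nat.pow_right_injective hp.out.two_le this) (by norm_num)
  obtain ⟨s, hs2, hs⟩ := SetLike.exists_of_lt hN12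
  have hnormN : ∀ v : S, v ∈ N2 ↔ (v : Ω) ∈ Subgroup.normalizer (N : Set Ω) := by
    intro v
    rw [← hN1N]
    constructor
    · intro hv
      refine mem_normalizer_of_cj_le hNS fun u hu => ?_
      have := (Subgroup.mem_normalizer_iff.1 hv ⟨u, hNS hu⟩).1 (hNX.le hu)
      rw [← hNX] at this
      exact this
    · intro hv
      refine Subgroup.mem_normalizer_iff.2 fun u => ?_
      rw [← hNX]
      exact Subgroup.mem_normalizer_iff.1 hv (u : Ω)
  have hsn : (s : Ω) ∈ S ⊓ Subgroup.normalizer (N : Set Ω) := ⟨s.2, (hnormN s).1 hs2⟩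
  set y : MulAut N := nHom S N ⟨(s : Ω), hsn⟩ with hy
  have hyv : ∀ u : N, ((y u : N) : Ω) = (s : Ω) * (u : Ω) * (s : Ω)⁻¹ := fun u => by
    rw [← afun_coe, hy, afun_nHom _ u.2, cj_apply]
  have hcommS : ∀ u : N, ι (y u) = ⁅s, ι u⁆ * ι u := fun u => Subtype.ext (by
    show ((y u : N) : Ω) = ((⁅s, ι u⁆ * ι u : S) : Ω)
    rw [hyv, Subgroup.coe_mul, show ((⁅s, ι u⁆ : S) : Ω) = ⁅(s : Ω), (u : Ω)⁆ from
      map_commutatorElement S.subtype s (ι u), commutatorElement_def, Subgroup.coe_inclusion,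
      inv_mul_cancel_right])
  have hyz : y zN = zN := hιinj (by
    rw [hcommS, commutatorElement_eq_one_iff_mul_comm.2
      (Subgroup.mem_center_iff.1 (show ι zN ∈ Subgroup.center S from hzS) s), one_mul])
  set hN' : N := gN⁻¹ * y gN with hhdef
  have hyg : y gN = gN * hN' := (mul_inv_cancel_left _ _).symm
  have hh2 : ι hN' ∈ Gf S 2 := by
    rw [hhdef, map_mul, hcommS, map_inv, ← mul_assoc]
    have h1 : ⁅s, ι gN⁆ ∈ Gf S 2 :=
      commutator_mem_Gf (i := 1) (j := 1) (Subgroup.mem_top _) (Subgroup.mem_top _)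
    have := (inferInstance : (Gf S 2).Normal).conj_mem _ h1 (ι gN)⁻¹
    rwa [inv_inv] at this
  have hg3 : Gf S 3 ≤ Gf S 2 := Gf_antitone (by omega)
  have hN1G : N1 ⊓ Gf S 2 = Gf S 3 := by
    refine (Subgroup.eq_of_le_of_card_ge (le_inf h3N hg3) ?_).symm
    obtain ⟨j, hj⟩ := IsPGroup.iff_card.1 (hS.to_subgroup (N1 ⊓ Gf S 2))
    have hlt : Nat.card (N1 ⊓ Gf S 2 : Subgroup S) < Nat.card N1 := by
      refine lt_of_le_of_ne (Subgroup.card_le_of_le inf_le_left) fun e => hgS.2 ?_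
      have := (Subgroup.eq_of_le_of_card_ge inf_le_left e.ge).ge
        (hNX.le (show ι gN ∈ N.subgroupOf S from gN.2))
      exact this.2
    rw [hj, c1] at hlt
    rw [hc3, hj]
    exact Nat.pow_le_pow_right hp.out.pos (by
      have := (Nat.pow_lt_pow_iff_right hp.out.one_lt).1 hlt; omega)
  have hh3 : ι hN' ∈ Gf S 3 := hN1G ▸ ⟨hNX.le hN'.2, hh2⟩
  have hgf4 := PFiveMaxClass59.gf_four hcard hc
  have hcenN : ∀ u : N, ι u ∈ Subgroup.center S → u ∈ Subgroup.center N := fun u hu =>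
    Subgroup.mem_center_iff.2 fun v => hιinj (by
      rw [map_mul, map_mul]; exact Subgroup.mem_center_iff.1 hu (ι v))
  have hyh : hN'⁻¹ * y hN' ∈ Subgroup.center N := by
    have h1 : ⁅s, ι hN'⁆ ∈ Subgroup.center S := by
      rw [← hgf4, ← commutatorElement_inv]
      exact inv_mem (commutator_mem_Gf (j := 1) hh3 (Subgroup.mem_top s))
    refine hcenN _ ?_
    rw [map_mul, hcommS, map_inv, ← mul_assoc, Subgroup.mem_center_iff.1 h1 (ι hN')⁻¹,
      mul_assoc, inv_mul_cancel, mul_one]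
    exact h1
  have hhEN : hN' ∉ EN := by
    intro hmem
    have hcs : ι hN' ∈ Subgroup.center S := hE2c _ hmem hh2
    have hmap : E ≤ (EN.comap y.toMonoidHom).map N.subtype := by
      intro u hu
      refine ⟨⟨u, hEN hu⟩, ?_, rfl⟩
      have hsup : Subgroup.zpowers zN ⊔ Subgroup.zpowers gN = EN := by
        refine Subgroup.eq_of_le_of_card_ge (sup_le ((Subgroup.zpowers_le).2 hzE)
          ((Subgroup.zpowers_le).2 gE.2)) ?_
        obtain ⟨j, hj⟩ := IsPGroup.iff_card.1 (hNp.to_subgroup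
          (Subgroup.zpowers zN ⊔ Subgroup.zpowers gN))
        rw [Nat.card_congr (Subgroup.subgroupOfEquivOfLe hEN).toEquiv, hE2, hj]
        have hlt : p ^ 1 < p ^ j := by
          rw [← hj, pow_one]
          have hzc : Nat.card (Subgroup.zpowers zN) = p := by
            rw [Nat.card_zpowers, orderOf_eq_prime hzNp hzN1]
          conv_lhs => rw [← hzc]
          refine lt_of_le_of_ne (Subgroup.card_le_of_le le_sup_left) fun e => hgc ?_
          rw [hcNgen, Subgroup.eq_of_le_of_card_ge le_sup_left e.ge]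
          exact Subgroup.mem_sup_right (Subgroup.mem_zpowers gN)
        exact Nat.pow_le_pow_right hp.out.pos ((Nat.pow_lt_pow_iff_right hp.out.one_lt).1 hlt)
      have hle : Subgroup.zpowers zN ⊔ Subgroup.zpowers gN ≤ EN.comap y.toMonoidHom := by
        refine sup_le ((Subgroup.zpowers_le).2 ?_) ((Subgroup.zpowers_le).2 ?_)
        · show y zN ∈ EN
          rw [hyz]; exact hzE
        · show y gN ∈ EN
          rw [hyg]; exact mul_mem gE.2 hmem
      exact hle (hsup.ge hu)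
    refine hs (hNX.le ⟨s.2, mem_normalizer_of_cj_le hES fun u hu => ?_⟩)
    obtain ⟨v, hv, rfl⟩ := hmap hu
    have : ((y v : N) : Ω) ∈ E := hv
    rwa [hyv] at this
  have hhc : hN' ∉ Subgroup.center N := fun h => hhEN (by
    obtain ⟨i, hi⟩ := exists_pow hzNp (hcNgen.le h)
    rw [hi]; exact pow_mem hzE i)
  set L := (Gf S 3).comap ι with hLdef
  have hLmap : L.map ι = Gf S 3 := by
    rw [hLdef, Subgroup.map_comap_eq_self]
    intro u hu
    exact ⟨⟨u, (hNX.ge (h3N hu) :)⟩, rfl⟩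
  haveI : L.Normal := (inferInstance : (Gf S 3).Normal).comap ι
  have hLc : Nat.card L = p ^ 2 := by
    rw [← Subgroup.card_map_of_injective (K := L) hιinj, hLmap, hc3]
  have hZL : Subgroup.center N ≤ L := by
    rw [hcNgen, Subgroup.zpowers_le]
    show ι zN ∈ Gf S 3
    exact Gf_antitone (by omega : 3 ≤ 4) (hgf4.ge hzS)
  have hsupL : Subgroup.center N ⊔ Subgroup.zpowers hN' = L := by
    refine Subgroup.eq_of_le_of_card_ge (sup_le hZL ((Subgroup.zpowers_le).2 hh3)) ?_
    obtain ⟨j, hj⟩ := IsPGroup.iff_card.1 (hNp.to_subgroup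
      (Subgroup.center N ⊔ Subgroup.zpowers hN'))
    rw [hLc, hj]
    have hlt : p ^ 1 < p ^ j := by
      rw [← hj, pow_one]
      conv_lhs => rw [← hcN]
      refine lt_of_le_of_ne (Subgroup.card_le_of_le le_sup_left) fun e => hhc ?_
      rw [Subgroup.eq_of_le_of_card_ge le_sup_left e.ge]
      exact Subgroup.mem_sup_right (Subgroup.mem_zpowers hN')
    exact Nat.pow_le_pow_right hp.out.pos ((Nat.pow_lt_pow_iff_right hp.out.one_lt).1 hlt)
  have hhp : hN' ^ p ∈ Subgroup.center N := by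
    have hidx : ((Subgroup.center N).subgroupOf L).index = p := by
      have h := Subgroup.card_mul_index ((Subgroup.center N).subgroupOf L)
      rw [Nat.card_congr (Subgroup.subgroupOfEquivOfLe hZL).toEquiv, hcN, hLc, sq] at h
      exact Nat.eq_of_mul_eq_mul_left hp.out.pos h
    have := Subgroup.pow_index_mem ((Subgroup.center N).subgroupOf L) (⟨hN', hh3⟩ : L)
    rw [hidx, Subgroup.mem_subgroupOf] at this
    simpa using this
  have hindep : ∀ i j : ℕ, gN ^ i * hN' ^ j ∈ Subgroup.center N → p ∣ i ∧ p ∣ j := by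
    intro i j hij
    have hZEN : Subgroup.center N ≤ EN := by rw [hcNgen, Subgroup.zpowers_le]; exact hzE
    have hj : hN' ^ j ∈ EN := by
      have := mul_mem (inv_mem (pow_mem (show gN ∈ EN from gE.2) i)) (hZEN hij)
      rwa [inv_mul_cancel_left] at this
    obtain ⟨j', rfl⟩ := dvd_of_pow_mem hhEN (hZEN hhp) hj
    have hjc : hN' ^ (p * j') ∈ Subgroup.center N := by rw [pow_mul]; exact pow_mem hhp j'
    have := mul_mem hij (inv_mem hjc)
    rw [mul_inv_cancel_right] at this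
    exact ⟨dvd_of_pow_mem hgc (by rw [hgp]; exact one_mem _) this, dvd_mul_right p j'⟩
  have hgen : ∀ u : N, ∃ i j : ℕ, (gN ^ i * hN' ^ j)⁻¹ * u ∈ Subgroup.center N := by
    intro u
    -- `u` is a power of `gN` times an element of `L`
    have hLi : L.index = p := by
      have h := Subgroup.card_mul_index L
      rw [hLc, hNc, pow_succ p 2] at h
      exact Nat.eq_of_mul_eq_mul_left (pow_pos hp.out.pos 2) h
    have hgL : gN ∉ L := fun h => hgS.2 (hg3 h)
    have hgQ : (gN : N ⧸ L) ^ p = 1 := by rw [← QuotientGroup.mk_pow, hgp, QuotientGroup.mk_one]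
    haveI : Fact (Nat.card (N ⧸ L)).Prime := ⟨by rw [← Subgroup.index_eq_card, hLi]; exact hp.out⟩
    obtain ⟨i, hi⟩ := exists_pow hgQ (mem_zpowers_of_prime_card (p := Nat.card (N ⧸ L)) rfl
      (fun h => hgL ((QuotientGroup.eq_one_iff gN).1 h)) (g' := (u : N ⧸ L)))
    rw [← QuotientGroup.mk_pow] at hi
    have hl : (gN ^ i)⁻¹ * u ∈ L := QuotientGroup.eq.1 hi.symm
    rw [← hsupL] at hl
    obtain ⟨v, hv, w, hw, hvw⟩ := Subgroup.mem_sup_of_normal_left.1 hl
    obtain ⟨j, hj⟩ : ∃ j : ℕ, w = hN' ^ j := by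
      obtain ⟨k, hk⟩ := (isOfFinOrder_of_finite hN').mem_powers_iff_mem_zpowers.2 hw
      exact ⟨k, hk.symm⟩
    subst hj
    refine ⟨i, j, ?_⟩
    rw [mul_inv_rev, mul_assoc, ← hvw, Subgroup.mem_center_iff.1 hv (hN' ^ j) |>.symm,
      inv_mul_cancel_left]
    exact hv
  have hgh : ⁅gN, hN'⁆ ≠ 1 := by
    intro h
    refine hgc (Subgroup.mem_center_iff.2 fun u => ?_)
    obtain ⟨i, j, hu⟩ := hgen u
    have e : u = gN ^ i * hN' ^ j * ((gN ^ i * hN' ^ j)⁻¹ * u) := (mul_inv_cancel_left _ _).symm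
    have hc1 : Commute gN (gN ^ i * hN' ^ j) := ((Commute.refl gN).pow_right i).mul_right
      (Commute.pow_right (commutatorElement_eq_one_iff_mul_comm.1 h) j)
    rw [e]
    exact (hc1.mul_right (Subgroup.mem_center_iff.1 hu gN)).eq.symm
  -- normalized subgroups
  haveI := finite_normalizerIn (S := S) N
  have hfullN : F.IsFullyNormalized N := by
    refine ⟨hNS, fun Q hQ => ?_⟩
    have hQS := isConj_right_le hQ
    have hNN : normalizerIn S N = N2.map S.subtype := by
      ext u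
      constructor
      · intro hu
        exact ⟨⟨u, hu.1⟩, (hnormN ⟨u, hu.1⟩).2 hu.2, rfl⟩
      · rintro ⟨v, hv, rfl⟩
        exact ⟨v.2, (hnormN v).1 hv⟩
    rw [hNN, Subgroup.card_map_of_injective S.subtype_injective, c2]
    haveI := finite_normalizerIn (S := S) Q
    obtain ⟨j, hj⟩ : ∃ j, Nat.card (normalizerIn S Q) = p ^ j :=
      IsPGroup.iff_card.1 (hS.to_le (inf_le_left : normalizerIn S Q ≤ S))
    rw [hj]
    refine Nat.pow_le_pow_right hp.out.pos ?_
    by_contra hj4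
    have hQn : (Q.subgroupOf S).Normal := by
      have e : normalizerIn S Q = S := eq_of_le_of_card_ge le_rfl inf_le_left
        (by rw [hj, hcard]; exact Nat.pow_le_pow_right hp.out.pos (by omega))
      exact ⟨fun v hv g => Subgroup.mem_subgroupOf.2 (cj_mem_of_normalizer (P := Q)
        ((e.ge g.2 : (g : Ω) ∈ normalizerIn S Q)).2 (Subgroup.mem_subgroupOf.1 hv))⟩
    -- a normal subgroup of order `p ^ 3` is abelian
    obtain ⟨f0, hf0, hf0Q⟩ := isConj_iff.1 hQ
    have hQc : Nat.card (Q.subgroupOf S) = p ^ 3 := by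
      rw [Nat.card_congr (Subgroup.subgroupOfEquivOfLe hQS).toEquiv, ← isConj_card hQ, hNc]
    obtain ⟨i, hi2, -, hi⟩ := MaxClassEssDeep1.normal_eq_gf hcard hc (by norm_num) (by omega)
      (N := Q.subgroupOf S) (MaxClassEssDeep1.le_gf_two hcard hc (by norm_num) (by omega) _ (by
        have h := Subgroup.card_mul_index (Q.subgroupOf S)
        rw [hQc, hcard, show p ^ 5 = p ^ 3 * p ^ 2 by ring] at h
        rw [Nat.eq_of_mul_eq_mul_left (pow_pos hp.out.pos 3) h]))
    refine hnN ⟨⟨fun u v => Subtype.ext (hf0.injOn (u * v).2 (v * u).2 ?_)⟩⟩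
    have hmemQ : ∀ w : N, (⟨f0 w, hf0.apply_mem w.2⟩ : S) ∈ Gf S 2 := fun w =>
      Gf_antitone hi2 (hi.le (Subgroup.mem_subgroupOf.2 (hf0Q ▸ apply_mem_im w.2)))
    rw [Subgroup.coe_mul, Subgroup.coe_mul, hf0.map_mul u.2 v.2, hf0.map_mul v.2 u.2]
    exact congrArg Subtype.val (PFiveMaxClass59.gf_two_comm hcard hc (hmemQ u) (hmemQ v))
  have hyK : y ∈ F.autGroup N :=
    autInducedBy_le hNS ((autInducedBy_eq_range S N).ge ⟨_, rfl⟩)
  -- the flag
  let Y : ℕ → Subgroup Ω := fun i => if i = 0 then ⊥ else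
    if i = 1 then (Subgroup.center N).map N.subtype else if i = 2 then L.map N.subtype else N
  have hY0 : Y 0 = ⊥ := rfl
  have hY1 : Y 1 = (Subgroup.center N).map N.subtype := rfl
  have hY2 : Y 2 = L.map N.subtype := rfl
  have hY3 : Y 3 = N := rfl
  have hmono : ∀ i < 3, Y i ≤ Y (i + 1) := by
    intro i hi
    interval_cases i
    · exact bot_le
    · exact Subgroup.map_mono hZL
    · exact Subgroup.map_subtype_le L
  have hYP : ∀ i ≤ 3, Y i ≤ N := by
    intro i hi
    interval_cases i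
    · exact bot_le
    all_goals first | exact Subgroup.map_subtype_le _ | exact le_rfl
  have hcardY : ∀ i < 3, Nat.card (Y (i + 1)) = Nat.card (Y i) * p := by
    intro i hi
    have d1 : Nat.card (Y 1) = p := by
      rw [hY1, Subgroup.card_map_of_injective N.subtype_injective, hcN]
    have d2 : Nat.card (Y 2) = p ^ 2 := by
      rw [hY2, Subgroup.card_map_of_injective N.subtype_injective, hLc]
    interval_cases i
    · rw [d1, hY0, Subgroup.card_bot, one_mul]
    · rw [d2, d1, sq]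
    · rw [d2, show Nat.card (Y 3) = p ^ 3 from hNc, ← pow_succ]
  have hnorm : ∀ g ∈ normalizerIn S N, ∀ i ≤ 3, ∀ u ∈ Y i, cj g u ∈ Y i := by
    intro g hg i hi u hu
    interval_cases i
    · rw [hY0, Subgroup.mem_bot] at hu ⊢; rw [hu, cj_apply, mul_one, mul_inv_cancel]
    · rw [hY1] at hu ⊢
      obtain ⟨l, hl, rfl⟩ := hu
      refine ⟨nHom S N ⟨g, hg.1, hg.2⟩ l, Subgroup.characteristic_iff_le_comap.1
        (inferInstance : (Subgroup.center N).Characteristic) _ hl, ?_⟩
      show ((nHom S N ⟨g, hg.1, hg.2⟩ l : N) : Ω) = cj g (l : Ω)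
      rw [← afun_coe, afun_nHom _ l.2]
    · rw [hY2] at hu ⊢
      obtain ⟨l, hl, rfl⟩ := hu
      refine ⟨⟨cj g (l : Ω), cj_mem_of_normalizer hg.2 l.2⟩, ?_, rfl⟩
      exact (inferInstance : (Gf S 3).Normal).conj_mem (ι l) hl ⟨g, hg.1⟩
    · exact cj_mem_of_normalizer hg.2 hu
  have hkL : ∀ k : MulAut N, (∃ a : ℕ, (hN' ^ a)⁻¹ * k hN' ∈ Subgroup.center N) →
      ∀ l ∈ L, k l ∈ L := by
    intro k ⟨a, ha⟩ l hl
    have hle : Subgroup.center N ⊔ Subgroup.zpowers hN' ≤ L.comap k.toMonoidHom := by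
      refine sup_le (fun v hv => hZL (Subgroup.characteristic_iff_le_comap.1
        (inferInstance : (Subgroup.center N).Characteristic) k hv)) ((Subgroup.zpowers_le).2 ?_)
      show k hN' ∈ L
      rw [← mul_inv_cancel_left (hN' ^ a) (k hN')]
      exact mul_mem (pow_mem hh3 a) (hZL ha)
    exact hle (hsupL.ge hl)
  have hT' : PFiveTwist1.Twist (p := p) (F.autGroup N) y zN 1 gN hN' 0 := by
    refine ⟨hzNc, hzNp, hzN1, one_mem _, one_pow p, fun v hv => ?_, hcommN, by rw [hgp]; exact one_mem _,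
      hhp, hgen, hindep, hgh, hyK, hyz, by simp, hyg, hyh, fun k hk hkz _ hkh hkg => ?_⟩
    · obtain ⟨i, rfl⟩ := exists_pow hzNp (hcNgen.le hv)
      exact ⟨i, 0, by simp⟩
    have hst : ∀ i < 3, ∀ u ∈ Y (i + 1), u⁻¹ * afun k u ∈ Y i := by
      intro i hi u hu
      interval_cases i
      · rw [hY1] at hu
        obtain ⟨l, hl, rfl⟩ := hu
        obtain ⟨e, he⟩ := exists_pow hzNp (hcNgen.le hl)
        rw [hY0, Subgroup.mem_bot, Subgroup.coe_subtype, afun_coe, he, map_pow, hkz, inv_mul_cancel]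
      · rw [hY2] at hu
        obtain ⟨l, hl, rfl⟩ := hu
        rw [hY1]
        refine ⟨l⁻¹ * k l, ?_, by simp [afun_coe]⟩
        have hle : Subgroup.center N ⊔ Subgroup.zpowers hN' ≤
            ((QuotientGroup.mk' (Subgroup.center N)).comp k.toMonoidHom).eqLocus
              (QuotientGroup.mk' (Subgroup.center N)) := by
          refine sup_le (fun v hv => ?_) ((Subgroup.zpowers_le).2 (QuotientGroup.eq.2 hkh).symm)
          show ((k v : N) : N ⧸ Subgroup.center N) = (v : N ⧸ Subgroup.center N)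
          rw [(QuotientGroup.eq_one_iff _).2 hv, QuotientGroup.eq_one_iff]
          exact Subgroup.characteristic_iff_le_comap.1 (inferInstance : (Subgroup.center N).Characteristic) k hv
        exact QuotientGroup.eq.1 (show ((k l : N) : N ⧸ Subgroup.center N) = (l : N ⧸ _) from
          hle (hsupL.ge hl)).symm
      · rw [hY3] at hu
        rw [hY2]
        refine ⟨(⟨u, hu⟩ : N)⁻¹ * k ⟨u, hu⟩, ?_, by simp [afun_apply k hu]⟩
        obtain ⟨i, j, hij⟩ := hgen ⟨u, hu⟩
        obtain ⟨j0, hj0⟩ := hkg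
        set πL := QuotientGroup.mk' L
        have hπh : πL hN' = 1 := (QuotientGroup.eq_one_iff _).2 hh3
        have hπc : ∀ v ∈ Subgroup.center N, πL v = 1 := fun v hv =>
          (QuotientGroup.eq_one_iff v).2 (hZL hv)
        have hπkg : πL (k gN) = πL gN := by
          rw [← mul_inv_cancel_left (gN * hN' ^ j0) (k gN), map_mul, hπc _ hj0, mul_one, map_mul,
            map_pow, hπh, one_pow, mul_one]
        have hπkh : πL (k hN') = 1 := by
          rw [← mul_inv_cancel_left hN' (k hN'), map_mul, hπh, hπc _ hkh, one_mul]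
        refine QuotientGroup.eq.1 (Eq.symm ?_)
        show πL (k ⟨u, hu⟩) = πL ⟨u, hu⟩
        have hkc : πL (k ((gN ^ i * hN' ^ j)⁻¹ * ⟨u, hu⟩)) = 1 := hπc _
          (Subgroup.characteristic_iff_le_comap.1
            (inferInstance : (Subgroup.center N).Characteristic) k hij)
        rw [← mul_inv_cancel_left (gN ^ i * hN' ^ j) (⟨u, hu⟩ : N), map_mul k, map_mul πL,
          map_mul πL, hπc _ hij, hkc, mul_one, mul_one]
        simp only [map_mul, map_pow, hπkg, hπkh, hπh]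
    have hinv : ∀ i ≤ 3, ∀ u ∈ Y i, afun k u ∈ Y i := by
      intro i hi u hu
      rcases Nat.eq_zero_or_pos i with rfl | h0
      · rw [hY0, Subgroup.mem_bot] at hu ⊢
        rw [hu, afun_apply _ N.one_mem]
        exact congrArg Subtype.val (map_one k)
      · obtain ⟨i', rfl⟩ : ∃ i', i = i' + 1 := ⟨i - 1, by omega⟩
        rw [← mul_inv_cancel_left u (afun k u)]
        exact mul_mem hu (hmono i' (by omega) (hst i' (by omega) u hu))
    obtain ⟨g0, hg0, hg0n, hg0e⟩ := mem_autInducedBy.1 (PFiveKit1.mem_autInducedBy_of_flag hS hF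
      hfullN Y hY0 hY3 hmono hYP hcardY hnorm hk hinv hst)
    have hg2 : (⟨g0, hg0⟩ : S) ∈ N2 := (hnormN _).2 hg0n
    have hidx : (N1.subgroupOf N2).index = p := by
      have h := Subgroup.card_mul_index (N1.subgroupOf N2)
      rw [Nat.card_congr (Subgroup.subgroupOfEquivOfLe hN12.le).toEquiv, c1, c2, pow_succ p 3] at h
      exact Nat.eq_of_mul_eq_mul_left (pow_pos hp.out.pos 3) h
    haveI : (N1.subgroupOf N2).Normal :=
      PGroupsBasic.normal_of_index_eq (hS.to_subgroup N2) hidx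
    haveI : Fact (Nat.card (N2 ⧸ N1.subgroupOf N2)).Prime :=
      ⟨by rw [← Subgroup.index_eq_card, hidx]; exact hp.out⟩
    set s2 : N2 := ⟨s, hs2⟩
    have hsp : (s2 : N2 ⧸ N1.subgroupOf N2) ^ p = 1 := by
      rw [← QuotientGroup.mk_pow, QuotientGroup.eq_one_iff, ← hidx]
      exact (N1.subgroupOf N2).pow_index_mem s2
    obtain ⟨m, hm⟩ := exists_pow hsp (mem_zpowers_of_prime_card
      (p := Nat.card (N2 ⧸ N1.subgroupOf N2)) rfl (fun h => hs ((QuotientGroup.eq_one_iff s2).1 h))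
      (g' := ((⟨⟨g0, hg0⟩, hg2⟩ : N2) : N2 ⧸ N1.subgroupOf N2)))
    have hmem : (⟨g0, hg0⟩ : S) * (s ^ m)⁻¹ ∈ N1 := by
      have : (⟨⟨g0, hg0⟩, hg2⟩ : N2) * (s2 ^ m)⁻¹ ∈ N1.subgroupOf N2 := by
        rw [← QuotientGroup.eq_one_iff, QuotientGroup.mk_mul, QuotientGroup.mk_inv, hm,
          QuotientGroup.mk_pow, mul_inv_cancel]
      exact this
    have hmemN : g0 * ((s : Ω) ^ m)⁻¹ ∈ N := by
      have := hNX.ge hmem
      simpa [Subgroup.mem_subgroupOf] using this
    refine ⟨m, ⟨_, hmemN⟩, afun_ext fun u hu => ?_⟩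
    have hpow : ∀ (m : ℕ) (v : N), (((y ^ m) v : N) : Ω) = cj ((s : Ω) ^ m) (v : Ω) := by
      intro m
      induction m with
      | zero => intro v; simp [cj_apply]
      | succ m ih =>
        intro v
        rw [pow_succ' y, MulAut.mul_apply, hyv, ih, pow_succ', ← cj_cj, cj_apply (s : Ω)]
    rw [hg0e u hu, afun_apply _ hu, MulAut.mul_apply, MulAut.conj_apply, Subgroup.coe_mul,
      Subgroup.coe_mul, hpow, Subgroup.coe_inv]
    simp only [cj_apply]
    group
  obtain ⟨k, hk, a', b', ζ', hcase, hkz, hkh, hkg, -, -⟩ := PFiveTwist1.main hT' hc0 hf' hfz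
    (map_one _) (by rw [hfg, inv_mul_cancel]; exact one_mem _)
  -- extend to `S`
  obtain ⟨f2, hf2, hf2N, hf2e⟩ := PFiveKit1.extend_of_flag hS hF hfullN Y hY0 hY3 hmono hYP hcardY
    hnorm hk fun i hi u hu => by
      interval_cases i
      · rw [hY0, Subgroup.mem_bot] at hu ⊢
        rw [hu, afun_apply _ N.one_mem]
        exact congrArg Subtype.val (map_one k)
      · rw [hY1] at hu ⊢
        obtain ⟨l, hl, rfl⟩ := hu
        exact ⟨k l, Subgroup.characteristic_iff_le_comap.1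
          (inferInstance : (Subgroup.center N).Characteristic) k hl, (afun_coe k l).symm⟩
      · rw [hY2] at hu ⊢
        obtain ⟨l, hl, rfl⟩ := hu
        exact ⟨k l, hkL k ⟨_, hkh⟩ l hl, (afun_coe k l).symm⟩
      · exact afun_mem k hu
  set P2 := normalizerIn S N with hP2def
  have hP2S : P2 ≤ S := inf_le_left
  have hP2X : P2.subgroupOf S = N2 := by
    ext v
    rw [Subgroup.mem_subgroupOf, hnormN]
    exact ⟨fun h => h.2, fun h => ⟨v.2, h⟩⟩
  have hP2c : Nat.card P2 = p ^ 4 := by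
    rw [← c2, ← hP2X, Nat.card_congr (Subgroup.subgroupOfEquivOfLe hP2S).toEquiv]
  obtain ⟨α2, hα2, he2⟩ := hf2.exists_aut (hf2.im_self hf2N)
  have hP2n : ∀ g ∈ S, g ∈ Subgroup.normalizer (P2 : Set Ω) := by
    intro g hg
    haveI : (P2.subgroupOf S).Normal := by
      refine PGroupsBasic.normal_of_index_eq hS ?_
      have h := Subgroup.card_mul_index (P2.subgroupOf S)
      rw [Nat.card_congr (Subgroup.subgroupOfEquivOfLe hP2S).toEquiv, hP2c, hcard, pow_succ p 4] at h
      exact Nat.eq_of_mul_eq_mul_left (pow_pos hp.out.pos 4) h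
    exact mem_normalizer_of_cj_le hP2S fun u hu =>
      (‹(P2.subgroupOf S).Normal›).conj_mem ⟨u, hP2S hu⟩ hu ⟨g, hg⟩
  haveI := finite_normalizerIn (S := S) P2
  have hnP2 : normalizerIn S P2 = S := le_antisymm inf_le_left (le_inf le_rfl hP2n)
  have hfull2 : F.IsFullyNormalized P2 := ⟨hP2S, fun Q _ => by
    rw [hnP2]; exact Subgroup.card_le_of_le inf_le_left⟩
  let W : ℕ → Subgroup S := fun i => if i = 0 then ⊥ else if i = 1 then Subgroup.center S else
    if i = 2 then Gf S 3 else if i = 3 then Gf S 2 else N2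
  let Y2 : ℕ → Subgroup Ω := fun i => (W i).map S.subtype
  have hWn : ∀ i, (W i).Normal := by
    intro i
    simp only [W]
    split_ifs <;> first | infer_instance | exact PFiveMaxClass59.normal_of_gf_two_le le_sup_right
  have hW2 : ∀ i ≤ 4, W i ≤ N2 := by
    intro i hi
    have h2 : Gf S 2 ≤ N2 := le_sup_right
    interval_cases i
    · exact bot_le
    · exact (hgf4.ge.trans (Gf_antitone (by omega))).trans h2
    · exact hg3.trans h2
    · exact h2
    · exact le_rfl
  have hWchar : ∀ i ≤ 4, ((W i).subgroupOf N2).Characteristic := by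
    intro i hi
    interval_cases i
    · rw [show W 0 = ⊥ from rfl, Subgroup.bot_subgroupOf]; infer_instance
    · exact hchZ
    · exact hch3
    · exact hch2
    · rw [show W 4 = N2 from rfl, Subgroup.subgroupOf_self]; infer_instance
  let e2 : P2 ≃* N2 :=
    ((MulEquiv.subgroupCongr hP2X.symm).trans (Subgroup.subgroupOfEquivOfLe hP2S)).symm
  have he2v : ∀ u : P2, (((e2 u : N2) : S) : Ω) = (u : Ω) := fun u => rfl
  obtain ⟨f3, hf3, hf3N, hf3e⟩ := PFiveKit1.extend_of_flag hS hF hfull2 (n := 4) Y2 (by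
      show (⊥ : Subgroup S).map S.subtype = ⊥
      exact Subgroup.map_bot _) (by
      show N2.map S.subtype = P2
      rw [← hP2X, Subgroup.map_subgroupOf_eq_of_le hP2S])
    (fun i hi => by
      refine Subgroup.map_mono ?_
      interval_cases i
      · exact bot_le
      · exact hgf4.ge.trans (Gf_antitone (by omega))
      · exact hg3
      · exact le_sup_right)
    (fun i hi => by
      rintro _ ⟨v, hv, rfl⟩
      have := hP2X.ge (hW2 i hi hv)
      exact this)
    (fun i hi => by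
      simp only [Y2, Subgroup.card_map_of_injective S.subtype_injective]
      interval_cases i
      · show Nat.card (Subgroup.center S) = Nat.card (⊥ : Subgroup S) * p
        rw [hcZ, Subgroup.card_bot, one_mul]
      · show Nat.card (Gf S 3) = Nat.card (Subgroup.center S) * p
        rw [hc3, hcZ, sq]
      · show Nat.card (Gf S 2) = Nat.card (Gf S 3) * p
        rw [hc2, hc3, ← pow_succ]
      · show Nat.card N2 = Nat.card (Gf S 2) * p
        rw [c2, hc2, ← pow_succ])
    (fun g hg i hi => by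
      rintro _ ⟨v, hv, rfl⟩
      exact ⟨⟨g, hg.1⟩ * v * ⟨g, hg.1⟩⁻¹, (hWn i).conj_mem v hv _, rfl⟩)
    hα2 (fun i hi => by
      rintro _ ⟨v, hv, rfl⟩
      have hv2 := hW2 i hi hv
      have hvP : (v : Ω) ∈ P2 := hP2X.ge hv2
      let β2 : MulAut N2 := e2.symm.trans (α2.trans e2)
      have hm := Subgroup.characteristic_iff_le_comap.1 (hWchar i hi) β2
        (show (⟨v, hv2⟩ : N2) ∈ (W i).subgroupOf N2 from hv)
      refine ⟨((β2 ⟨v, hv2⟩ : N2) : S), hm, ?_⟩
      show (((e2 (α2 (e2.symm ⟨v, hv2⟩)) : N2) : S) : Ω) = afun α2 (v : Ω)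
      rw [he2v, ← afun_coe]
      rfl)
  rw [hnP2] at hf3 hf3N
  obtain ⟨β3, hβ3, he3⟩ := hf3.exists_aut (hf3.im_self hf3N)
  have hNP2 : N ≤ P2 := le_normalizerIn hNS
  have hβv : ∀ u : N, ((β3 (ι u) : S) : Ω) = ((k u : N) : Ω) := fun u => by
    show (β3 (ι u) : Ω) = _
    rw [← afun_coe, show ((ι u : S) : Ω) = (u : Ω) from rfl, he3 _ (hNS u.2), hf3e _ (hNP2 u.2), he2 _ (hNP2 u.2), hf2e _ u.2, afun_coe]
  have hβ : ∀ u : N, β3 (ι u) = ι (k u) := fun u => Subtype.ext (hβv u)
  obtain ⟨j, hj⟩ := hkg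
  have hlaw := PFiveMaxClass59.law hcard hc hnabX β3 (g := ι gN) (z := ι zN) hgS.1 hzS
    (fun h => hzN1 (hιinj (h.trans ι.map_one.symm))) (b := b'.val) (ζ := ζ'.val) ?_ ?_
  · rw [ZMod.natCast_zmod_val, ZMod.natCast_zmod_val] at hlaw
    rcases hcase with ⟨-, rfl, rfl⟩ | ⟨-, rfl, rfl⟩
    · refine hc6 ?_
      rw [inv_pow] at hlaw
      field_simp at hlaw
      linear_combination hlaw
    · refine hc5 ?_
      rw [inv_pow, eq_comm, inv_eq_one] at hlaw
      exact hlaw
  · have hmem : k gN * (gN ^ b'.val)⁻¹ ∈ L := by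
      have h1 : (gN ^ b'.val)⁻¹ * k gN ∈ L := by
        have e : (gN ^ b'.val)⁻¹ * k gN = hN' ^ j * ((gN ^ b'.val * hN' ^ j)⁻¹ * k gN) := by group
        rw [e]
        exact mul_mem (pow_mem hh3 j) (hZL hj)
      have := (inferInstance : L.Normal).conj_mem _ h1 (gN ^ b'.val)
      rwa [mul_inv_cancel_left] at this
    rw [hβ, ← map_pow, ← map_inv, ← map_mul]
    exact hg3 hmem
  · rw [hβ, hkz, map_pow]

end Cfsg.Agent.PFivePearl1
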