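import Cfsg.Agent.Lib.PFixedKernel26
import Cfsg.Agent.Lib.DefectOneField7
import Cfsg.Agent.Lib.DefectOneSign7Rep
import Cfsg.Agent.Lib.CharBasicDecomp

/-!
# Counting characters positive on a Sylow subgroup of order `p`

Sums of irreducible characters of one degree with values in `ℚ(μ_m)`, `p ∤ m`, equal to a positive
integer on the powers `≠ 1` of an element of order `p`, carry residues modulo `e`, different up to
sign for sums without common or conjugate constituents; so there are at most `(e + 1) / 2` of them.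
-/

set_option autoImplicit false

open Finset
open scoped ComplexConjugate

namespace Cfsg.Agent.PFixedChars26

open Cfsg Cfsg.Agent.BrauerBlocksVal Cfsg.Agent.DefectOneField7 Cfsg.Agent.CharBasic
open Cfsg.Agent.PFixedLattice26 Cfsg.Agent.PFixedKernel26

universe u

/-- The local integers of `Km m`. -/
noncomputable def OK (M : Ideal AlgInt) (m : ℕ) : ValuationSubring (Km m) :=
  (vs M).comap (Km m).val.toRingHom

variable {M : Ideal AlgInt} {m p : ℕ}

theorem mem_OK {x : Km m} : x ∈ OK M m ↔ Int' M (x : ℂ) := Iff.rfl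

/-- An element of `OK` from a complex number. -/
noncomputable def mk (z : ℂ) (h1 : z ∈ Km m) (h2 : Int' M z) : OK M m := ⟨⟨z, h1⟩, h2⟩

/-- The value of an element of `OK`. -/
noncomputable def cv : OK M m →+* ℂ := (Km m).val.toRingHom.comp (OK M m).subtype

theorem cv_mk {z : ℂ} (h1 : z ∈ Km m) (h2 : Int' M z) : cv (mk (M := M) z h1 h2) = z := rfl

theorem cv_injective : Function.Injective (cv (M := M) (m := m)) :=
  fun _ _ h => Subtype.ext (Subtype.ext h)

instance charZero_OK : CharZero (OK M m) :=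
  ⟨fun a b h => by simpa using congrArg cv h⟩

theorem pr_OK (hM : IsPModular p M) (hm : ¬ p ∣ m) : Pr (OK M m) p where
  prime := hM.1
  ne_zero := fun h => hM.1.ne_zero (by simpa using congrArg cv h)
  not_unit := fun h => by
    obtain ⟨u, hu⟩ := h
    have h1 : Int' M (cv (↑u⁻¹ : OK M m)) := (↑u⁻¹ : OK M m).2
    have h2 : cv (↑u⁻¹ : OK M m) * (p : ℂ) = 1 := by
      rw [← map_natCast (cv (M := M) (m := m)), ← hu, ← map_mul, Units.inv_mul, map_one]
    have h3 := (sm_p hM).mul_left h1
    rw [h2] at h3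
    exact not_sm_one h3
  unit_or := fun x => by
    by_cases hs : Sm M (cv x)
    · refine Or.inr ?_
      have hmem : cv x / (p : ℂ) ∈ Km m := div_mem x.1.2 (natCast_mem _ _)
      refine ⟨mk _ hmem (int'_div_p hM hm x.1.2 hs), cv_injective ?_⟩
      rw [map_mul, cv_mk, map_natCast, mul_div_cancel₀ _ (Nat.cast_ne_zero.2 hM.1.ne_zero)]
    · refine Or.inl ?_
      have hmem : (cv x)⁻¹ ∈ Km m := inv_mem x.1.2
      refine IsUnit.of_mul_eq_one (mk _ hmem (int'_inv x.2 hs)) (cv_injective ?_)
      rw [map_mul, cv_mk, map_one, mul_inv_cancel₀]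
      intro h0
      exact hs (h0 ▸ sm_zero)

theorem isPID_OK (hM : IsPModular p M) (hm : ¬ p ∣ m) : IsPrincipalIdealRing (OK M m) := by
  have hO := pr_OK hM hm
  haveI : IsDiscreteValuationRing (OK M m) := by
    refine IsDiscreteValuationRing.ofHasUnitMulPowIrreducibleFactorization
      ⟨(p : OK M m), irreducible_iff.2 ⟨hO.not_unit, fun a b hab => ?_⟩, fun {x} hx => ?_⟩
    · by_contra hc
      push Not at hc
      obtain ⟨a', ha⟩ := (hO.unit_or a).resolve_left hc.1
      obtain ⟨b', hb⟩ := (hO.unit_or b).resolve_left hc.2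
      refine hO.not_unit (IsUnit.of_mul_eq_one (a' * b') ?_)
      refine mul_left_cancel₀ hO.ne_zero ?_
      conv_rhs => rw [mul_one, hab, ha, hb]
      ring
    · have hcx : cv x ≠ 0 := fun h => hx (cv_injective (by rw [h, map_zero]))
      obtain ⟨k, hk⟩ := exists_pow_int' hM hm (inv_mem (x.1.2) : (cv x)⁻¹ ∈ Km m)
      have hdvd : x ∣ (p : OK M m) ^ k := by
        have hq : (p : ℂ) ^ k * (cv x)⁻¹ ∈ Km m :=
          mul_mem (pow_mem (natCast_mem _ _) _) (inv_mem x.1.2)
        refine ⟨mk _ hq hk, cv_injective ?_⟩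
        rw [map_mul, cv_mk, map_pow, map_natCast]
        field_simp
      clear hk hcx
      induction k generalizing x with
      | zero => exact ⟨0, by rw [pow_zero] at hdvd ⊢; exact (associated_one_iff_isUnit.2
          (isUnit_of_dvd_one hdvd)).symm⟩
      | succ k ih =>
        rcases hO.unit_or x with hu | ⟨x', rfl⟩
        · exact ⟨0, by rw [pow_zero]; exact (associated_one_iff_isUnit.2 hu).symm⟩
        · rw [pow_succ'] at hdvd
          obtain ⟨n, hn⟩ := ih (right_ne_zero_of_mul hx) ((mul_dvd_mul_iff_left hO.ne_zero).1 hdvd)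
          exact ⟨n + 1, by rw [pow_succ']; exact hn.mul_left _⟩
  infer_instance

variable {G : Type u} [Group G] [Fintype G]

theorem char_mem_Km (χ : IrrCharacter G) {g : G} (hg : orderOf g ∣ m) :
    (χ : G → ℂ) g ∈ Km m := by
  obtain ⟨n, ρ, -, hχ⟩ := χ.2
  obtain ⟨b, μ, -, h2, -, h4⟩ := exists_rep_eigenbasis ρ g
  rw [← hχ, ← pow_one g, h4]
  simp only [pow_one]
  exact sum_mem fun i _ => mem_Km_of_dvd hg (h2 i)

/-- The conjugate irreducible character. -/
def conjIrr (χ : IrrCharacter G) : IrrCharacter G :=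
  ⟨fun g => conj ((χ : G → ℂ) g), CharBasicDecomp.isIrrCharacter_conj χ.2⟩

/-- A sum of irreducible characters of degree `d` with values in `Km m`. -/
structure Good (m : ℕ) (S : Finset (IrrCharacter G)) (d : ℕ) : Prop where
  deg : ∀ χ ∈ S, (χ : G → ℂ) 1 = d
  mem : ∀ g, ∑ χ ∈ S, (χ : G → ℂ) g ∈ Km m

theorem int'_sum_char (hM : IsPModular p M) (S : Finset (IrrCharacter G)) (g : G) :
    Int' M (∑ χ ∈ S, (χ : G → ℂ) g) :=
  int'_sum _ fun χ _ => int'_of_isIntegral hM
    (isCharacter_integral (isCharacter_of_isIrrCharacter χ.2) g)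

theorem conv_sum (S T : Finset (IrrCharacter G)) (a : G) [DecidableEq (IrrCharacter G)] :
    ∑ k, (∑ χ ∈ S, (χ : G → ℂ) (a * k⁻¹)) * (∑ ψ ∈ T, (ψ : G → ℂ) k) =
      ∑ χ ∈ S, if χ ∈ T then (Nat.card G : ℂ) * (χ : G → ℂ) a / (χ : G → ℂ) 1 else 0 := by
  simp only [sum_mul_sum]
  rw [sum_comm]
  refine sum_congr rfl fun χ _ => ?_
  rw [sum_comm]
  simp only [DefectOneSign7.sum_irr_conv]
  rw [sum_ite_eq]

/-- The kernel of a sum of characters. -/
noncomputable def kern (hM : IsPModular p M) {S : Finset (IrrCharacter G)} {d : ℕ}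
    (hcard : Nat.card G = p * m) (hm : ¬ p ∣ m) (hS : Good m S d) : Kernel G (OK M m) p where
  c := mk ((d : ℂ) / (m : ℂ)) (div_mem (natCast_mem _ _) (natCast_mem _ _))
    (by
      refine int'_of_mul (z := (m : ℂ)) ?_ (int'_natCast m) (not_sm_natCast_of_coprime hM hm)
      rw [mul_div_cancel₀ _ (Nat.cast_ne_zero.2 fun h : m = 0 => hm (h ▸ dvd_zero p))]
      exact int'_natCast d)
  s g := mk (∑ χ ∈ S, (χ : G → ℂ) g) (hS.mem g) (int'_sum_char hM S g)
  cls a x := cv_injective <| by
    rw [cv_mk, cv_mk]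
    exact sum_congr rfl fun χ _ => isClassFunction_of_isCharacter (isCharacter_of_isIrrCharacter χ.2) a x
  idem a := cv_injective <| by
    classical
    have hm0 : (m : ℂ) ≠ 0 := Nat.cast_ne_zero.2 fun h : m = 0 => hm (h ▸ dvd_zero p)
    simp only [map_mul, map_sum, map_natCast, cv_mk]
    rw [conv_sum, mul_sum, mul_sum]
    refine sum_congr rfl fun χ hχ => ?_
    have hd : (d : ℂ) ≠ 0 := hS.deg χ hχ ▸ isIrrCharacter_apply_one_ne_zero χ.2
    rw [if_pos hχ, hS.deg χ hχ, hcard, Nat.cast_mul]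
    field_simp

/-- Sums without common or conjugate constituents. -/
def Apart (S T : Finset (IrrCharacter G)) : Prop := ∀ χ ∈ S, χ ∉ T ∧ conjIrr χ ∉ T

variable {e : ℕ} [NeZero e] {y g : G} {N : Subgroup G}

/-- There are at most `(e + 1) / 2` sums, apart from each other and positive on `⟨y⟩`. -/
theorem card_le (hM : IsPModular p M) (hcard : Nat.card G = p * m) (hm : ¬ p ∣ m) (he : e ∣ m)
    (hodd : Odd e) (h : Local p e y g N) {ι : Type*} [Fintype ι]
    (S : ι → Finset (IrrCharacter G)) (d v : ι → ℕ) (hS : ∀ i, Good m (S i) (d i))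
    (hd : ∀ i, (S i).Nonempty)
    (hval : ∀ i, ∀ j, 0 < j → j < p → ∑ χ ∈ S i, (χ : G → ℂ) (y ^ j) = v i)
    (hv : ∀ i, 0 < v i) (hap : ∀ i j, i ≠ j → Apart (S i) (S j)) :
    2 * Fintype.card ι ≤ e + 1 := by
  classical
  haveI := isPID_OK hM hm
  have hO := pr_OK hM hm
  have hem : ¬ p ∣ e := fun h' => hm (h'.trans he)
  obtain ⟨ζ, hζ⟩ : ∃ z : ℂ, IsPrimitiveRoot z e :=
    ⟨_, Complex.isPrimitiveRoot_exp e (NeZero.ne e)⟩
  have hζm : ζ ∈ Km m := mem_Km_of_dvd he hζ.pow_eq_one
  let ω : OK M m := mk ζ hζm (int'_of_isIntegral hM (hζ.isIntegral (NeZero.pos e)))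
  have hω : IsPrimitiveRoot ω e := IsPrimitiveRoot.of_map_of_injective (f := cv) hζ cv_injective
  obtain ⟨u', hu'⟩ := (hO.unit_or (e : OK M m)).resolve_right (fun ⟨x, hx⟩ => by
    have h1 := congrArg cv hx
    rw [map_natCast, map_mul, map_natCast] at h1
    exact not_sm_natCast_of_coprime hM hem (h1 ▸ (sm_p hM).mul_right x.2))
  have hu : (↑u'⁻¹ : OK M m) * e = 1 := by rw [← hu', Units.inv_mul]
  let K : ι → Kernel G (OK M m) p := fun i => kern hM hcard hm (hS i)
  have hne : ∀ i, (MuK (e := e) ω y g (K i)).Nonempty := by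
    intro i
    have hp := hM.1
    have hm0 : (m : ℂ) ≠ 0 := Nat.cast_ne_zero.2 fun h : m = 0 => hm (h ▸ dvd_zero p)
    have hd1 : ∑ χ ∈ S i, (χ : G → ℂ) 1 = ((S i).card * d i : ℕ) := by
      rw [sum_congr rfl fun χ hχ => (hS i).deg χ hχ, sum_const, nsmul_eq_mul, Nat.cast_mul]
    have hd0 : 0 < d i := by
      obtain ⟨χ, hχ⟩ := hd i
      refine Nat.pos_of_ne_zero fun h0 => isIrrCharacter_apply_one_ne_zero χ.2 ?_
      rw [(hS i).deg χ hχ, h0, Nat.cast_zero]
    refine muK_nonempty hO hu hω h (K i) (d i * ((S i).card * d i))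
      (d i * ((S i).card * d i + (p - 1) * v i)) (cv_injective ?_) (cv_injective ?_) ?_
    · simp only [K, kern, map_mul, map_natCast, cv_mk, hd1, hcard]
      push_cast
      field_simp
    · simp only [K, kern, map_mul, map_natCast, map_sum, cv_mk, hcard]
      have hsum : ∑ j ∈ range p, ∑ χ ∈ S i, (χ : G → ℂ) (y ^ j) =
          ((S i).card * d i + (p - 1) * v i : ℕ) := by
        obtain ⟨p', rfl⟩ : ∃ p', p = p' + 1 := ⟨p - 1, (Nat.sub_add_cancel hp.one_le).symm⟩
        rw [sum_range_succ', pow_zero, hd1,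
          sum_congr rfl fun j hj => hval i (j + 1) (Nat.succ_pos j)
            (Nat.succ_lt_succ (mem_range.1 hj)), sum_const, card_range, nsmul_eq_mul]
        push_cast
        ring
      rw [hsum]
      push_cast
      field_simp
    · have : 0 < (p - 1) * v i := Nat.mul_pos (by have := hp.two_le; omega) (hv i)
      exact Nat.mul_lt_mul_of_pos_left (by omega) hd0
  choose μ hμ using hne
  have orth : ∀ i j, i ≠ j → Orth (K j) (K i) ∧ Orth (K j).inv (K i) := by
    intro i j hij
    constructor <;> intro a <;> refine cv_injective ?_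
    · simp only [K, kern, map_sum, map_mul, cv_mk, map_zero]
      rw [conv_sum]
      exact sum_eq_zero fun χ hχ => if_neg fun hc => (hap i j hij χ hc).1 hχ
    · simp only [K, kern, Kernel.inv, map_sum, map_mul, cv_mk, map_zero]
      have hinv : ∀ x, ∑ χ ∈ S j, (χ : G → ℂ) x⁻¹ = ∑ χ ∈ (S j).image conjIrr, (χ : G → ℂ) x := by
        intro x
        rw [sum_image fun a _ b _ hab => Subtype.ext (funext fun g => (starRingEnd ℂ).injective
          (congrFun (congrArg Subtype.val hab) g))]
        exact sum_congr rfl fun χ _ =>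
          isCharacter_inv (isCharacter_of_isIrrCharacter χ.2) x
      simp only [hinv]
      rw [conv_sum]
      refine sum_eq_zero fun χ hχ => if_neg fun hc => ?_
      obtain ⟨χ', hχ', rfl⟩ := mem_image.1 hχ
      exact (hap j i hij.symm χ' hχ').2 hc
  have hsep : ∀ i j, i ≠ j → μ i ≠ μ j ∧ -μ i ≠ μ j := fun i j hij =>
    ⟨fun hc => muK_disjoint hO hu hω.pow_eq_one h (K i) (K j) (orth i j hij).1 (hμ i) (hc ▸ hμ j),
     fun hc => muK_disjoint_neg hO hu hω.pow_eq_one h (K i) (K j) (orth i j hij).2 (hμ i)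
        (hc ▸ hμ j)⟩
  let cl : ι → ℕ := fun i => min (μ i).val (e - (μ i).val)
  have hinj : Function.Injective cl := by
    intro i j hij
    by_contra hne'
    obtain ⟨h1, h2⟩ := hsep i j hne'
    have hlt := ZMod.val_lt (μ i)
    have hlt' := ZMod.val_lt (μ j)
    have hcases : (μ i).val = (μ j).val ∨ (μ i).val + (μ j).val = e := by
      simp only [cl] at hij
      omega
    rcases hcases with h3 | h3
    · exact h1 (ZMod.val_injective e h3)
    · refine h2 (neg_eq_of_add_eq_zero_right ?_)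
      rw [← ZMod.natCast_zmod_val (μ i), ← ZMod.natCast_zmod_val (μ j), ← Nat.cast_add, h3,
        ZMod.natCast_self]
  have hmaps : ∀ i ∈ (univ : Finset ι), cl i ∈ range ((e + 1) / 2) := by
    intro i _
    obtain ⟨k, hk⟩ := hodd
    simp only [cl, mem_range]
    omega
  have := card_le_card_of_injOn cl hmaps hinj.injOn
  rw [card_univ, card_range] at this
  omega

end Cfsg.Agent.PFixedChars26
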