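import Cfsg.Agent.Lib.PFixedLattice26

/-!
# Lattices cut out of the group ring by central quasi-idempotents

A class function `s` with `c * (s * s) = p * s` cuts a lattice out of the functions on the group.
Orthogonal kernels give lattices without invariant maps, so with disjoint eigenvalue sets on fixed
vectors modulo norms.
-/

set_option autoImplicit false

open Finset

namespace Cfsg.Agent.PFixedKernel26

open PFixedLattice26

variable {G : Type*} [Group G] [Fintype G] {O : Type*} [CommRing O]

/-- A central quasi-idempotent of the group ring. -/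
structure Kernel (G : Type*) [Group G] [Fintype G] (O : Type*) [CommRing O] (p : ℕ) where
  c : O
  s : G → O
  cls : ∀ a x : G, s (x * a * x⁻¹) = s a
  idem : ∀ a : G, c * ∑ k, s (a * k⁻¹) * s k = (p : O) * s a

/-- Orthogonality of two kernels. -/
def Orth {p : ℕ} (k k' : Kernel G O p) : Prop := ∀ a : G, ∑ x, k.s (a * x⁻¹) * k'.s x = 0

variable {p : ℕ}

theorem Kernel.comm_mul (k : Kernel G O p) (a b : G) : k.s (a * b) = k.s (b * a) := by
  rw [← k.cls (a * b) b]; congr 1; group

/-- The contragredient kernel. -/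
def Kernel.inv (k : Kernel G O p) : Kernel G O p where
  c := k.c
  s x := k.s x⁻¹
  cls a x := by rw [show (x * a * x⁻¹)⁻¹ = x * a⁻¹ * x⁻¹ by group, k.cls]
  idem a := by
    rw [← k.idem a⁻¹]
    congr 1
    refine Fintype.sum_equiv (Equiv.inv G) _ _ fun x => ?_
    rw [Equiv.inv_apply, inv_inv, mul_inv_rev, inv_inv, k.comm_mul x a⁻¹]

/-- The kernel as an operator on a representation. -/
noncomputable def op (k : Kernel G O p) {L : Type*} [AddCommGroup L] [Module O L] (ρ : G →* Module.End O L) :
    Module.End O L := ∑ x, (k.c * k.s x⁻¹) • ρ x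

section Op

variable {L L' : Type*} [AddCommGroup L] [Module O L] [AddCommGroup L'] [Module O L']

theorem op_comp (k : Kernel G O p) (ρ : G →* Module.End O L) (ρ' : G →* Module.End O L')
    (T : L →ₗ[O] L') (h : ∀ x, ρ' x ∘ₗ T = T ∘ₗ ρ x) : op k ρ' ∘ₗ T = T ∘ₗ op k ρ := by
  refine LinearMap.ext fun v => ?_
  simp only [op, LinearMap.comp_apply, LinearMap.sum_apply, LinearMap.smul_apply, map_sum, map_smul]
  exact sum_congr rfl fun x _ => by rw [← LinearMap.comp_apply, h, LinearMap.comp_apply]

theorem op_mul_rho (k : Kernel G O p) (ρ : G →* Module.End O L) (a : G) :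
    op k ρ * ρ a = ρ a * op k ρ := by
  simp only [op, sum_mul, mul_sum, smul_mul_assoc, mul_smul_comm, ← map_mul]
  refine Fintype.sum_equiv (MulAut.conj a⁻¹).toEquiv _ _ fun x => ?_
  simp only [MulEquiv.toEquiv_eq_coe, MulEquiv.coe_toEquiv, MulAut.conj_apply, inv_inv]
  rw [show (a⁻¹ * x * a)⁻¹ = a⁻¹ * x⁻¹ * a by group,
    show a * (a⁻¹ * x * a) = x * a by group]
  congr 2
  have := k.cls x⁻¹ a⁻¹
  rw [inv_inv] at this
  exact this.symm

theorem op_mul_op (k k' : Kernel G O p) (ρ : G →* Module.End O L) :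
    op k ρ * op k' ρ = ∑ a, (k.c * k'.c * ∑ x, k.s (a⁻¹ * x⁻¹) * k'.s x) • ρ a := by
  have h1 : op k ρ * op k' ρ =
      ∑ x, ∑ a, ((k.c * k.s x⁻¹) * (k'.c * k'.s (a⁻¹ * x))) • ρ a := by
    rw [op, op, sum_mul_sum]
    refine sum_congr rfl fun x _ => ?_
    refine Fintype.sum_equiv (Equiv.mulLeft x) _ _ fun y => ?_
    rw [smul_mul_smul_comm, ← map_mul, Equiv.coe_mulLeft]
    congr 3
    group
  rw [h1, sum_comm]
  refine sum_congr rfl fun a _ => ?_
  rw [← sum_smul]
  congr 1
  rw [mul_sum]
  refine Fintype.sum_equiv (Equiv.mulLeft a⁻¹) _ _ fun x => ?_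
  rw [Equiv.coe_mulLeft, mul_inv_rev, inv_inv, k.comm_mul a⁻¹ (x⁻¹ * a),
    show x⁻¹ * a * a⁻¹ = x⁻¹ by group]
  ring

theorem op_sq (k : Kernel G O p) (ρ : G →* Module.End O L) :
    op k ρ * op k ρ = (p : O) • op k ρ := by
  rw [op_mul_op, op, smul_sum]
  refine sum_congr rfl fun a _ => ?_
  rw [mul_assoc, k.idem, smul_smul]
  ring_nf

theorem op_orth (k k' : Kernel G O p) (h : Orth k k') (ρ : G →* Module.End O L) :
    op k ρ * op k' ρ = 0 := by
  rw [op_mul_op]
  exact sum_eq_zero fun a _ => by rw [h a⁻¹, mul_zero, zero_smul]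

theorem op_dual (k : Kernel G O p) (ρ : G →* Module.End O L) :
    op k (dualRep ρ) = (op k.inv ρ).dualMap := by
  refine LinearMap.ext fun f => LinearMap.ext fun v => ?_
  simp only [op, LinearMap.dualMap_apply, LinearMap.sum_apply, LinearMap.smul_apply, map_sum,
    map_smul, dualRep_apply]
  refine Fintype.sum_equiv (Equiv.inv G) _ _ fun x => ?_
  simp [Kernel.inv]

end Op

/-- Left translation. -/
def reg (O : Type*) [CommRing O] (G : Type*) [Group G] : G →* Module.End O (G → O) where
  toFun x := LinearMap.funLeft O O fun a => x⁻¹ * a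
  map_one' := by ext; simp [LinearMap.funLeft_apply]
  map_mul' x y := LinearMap.ext fun v => funext fun a => by
    simp [LinearMap.funLeft_apply, mul_assoc]

theorem trace_reg [DecidableEq G] (a : G) :
    LinearMap.trace O (G → O) (reg O G a) = if a = 1 then (Nat.card G : O) else 0 := by
  classical
  rw [LinearMap.trace_eq_matrix_trace O (Pi.basisFun O G), Matrix.trace]
  simp only [Matrix.diag_apply, LinearMap.toMatrix_apply, Pi.basisFun_repr, Pi.basisFun_apply]
  split_ifs with h
  · subst h
    simp [Nat.card_eq_fintype_card]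
  · refine sum_eq_zero fun b _ => ?_
    show (Pi.single b (1 : O) : G → O) (a⁻¹ * b) = 0
    rw [Pi.single_eq_of_ne]
    intro hc
    exact h (inv_eq_one.1 (mul_eq_right.1 hc))

/-- The lattice of a kernel. -/
noncomputable def lat (k : Kernel G O p) : Submodule O (G → O) := LinearMap.range (op k (reg O G))

theorem lat_stable (k : Kernel G O p) (x : G) : ∀ v ∈ lat k, reg O G x v ∈ lat k := by
  rintro _ ⟨w, rfl⟩
  exact ⟨reg O G x w, by rw [← Module.End.mul_apply, op_mul_rho, Module.End.mul_apply]⟩

/-- The representation on the lattice of a kernel. -/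
noncomputable def rep (k : Kernel G O p) : G →* Module.End O (lat k) where
  toFun x := (reg O G x).restrict (lat_stable k x)
  map_one' := by ext v; simp
  map_mul' x y := by ext v; simp

theorem incl_rep (k : Kernel G O p) (x : G) :
    reg O G x ∘ₗ (lat k).subtype = (lat k).subtype ∘ₗ rep k x := rfl

theorem op_incl (k' k : Kernel G O p) :
    op k' (reg O G) ∘ₗ (lat k).subtype = (lat k).subtype ∘ₗ op k' (rep k) :=
  op_comp k' (rep k) (reg O G) _ fun x => incl_rep k x

theorem op_self (k : Kernel G O p) : op k (rep k) = (p : O) • 1 := by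
  refine LinearMap.ext fun v => Subtype.ext ?_
  have h := LinearMap.congr_fun (op_incl k k) v
  simp only [LinearMap.comp_apply, Submodule.coe_subtype] at h
  obtain ⟨w, hw⟩ := v.2
  rw [← h, ← hw, ← Module.End.mul_apply, op_sq, LinearMap.smul_apply, hw]
  rfl

theorem op_other (k' k : Kernel G O p) (ho : Orth k' k) : op k' (rep k) = 0 := by
  refine LinearMap.ext fun v => Subtype.ext ?_
  have h := LinearMap.congr_fun (op_incl k' k) v
  simp only [LinearMap.comp_apply, Submodule.coe_subtype] at h
  obtain ⟨w, hw⟩ := v.2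
  rw [← h, ← hw, ← Module.End.mul_apply, op_orth k' k ho]
  rfl

variable [IsDomain O] [IsPrincipalIdealRing O]

theorem trace_rep (k : Kernel G O p) (x : G) :
    (p : O) * LinearMap.trace O (lat k) (rep k x) = (Nat.card G : O) * k.c * k.s x := by
  classical
  have hto : ∀ v, (reg O G x * op k (reg O G)) v ∈ lat k := fun v => lat_stable k x _ ⟨v, rfl⟩
  have h1 := LinearMap.trace_restrict_eq_of_forall_mem (lat k) (reg O G x * op k (reg O G)) hto
  have h2 : (reg O G x * op k (reg O G)).restrict (fun v _ => hto v) = (p : O) • rep k x := by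
    refine LinearMap.ext fun v => Subtype.ext ?_
    have h := LinearMap.congr_fun (op_incl k k) v
    rw [op_self] at h
    simp only [LinearMap.comp_apply, Submodule.coe_subtype, LinearMap.smul_apply,
      Module.End.one_apply, Submodule.coe_smul] at h
    show reg O G x (op k (reg O G) (v : G → O)) = _
    rw [h, map_smul]
    rfl
  rw [h2, map_smul, smul_eq_mul] at h1
  rw [h1, op, mul_sum]
  simp only [mul_smul_comm, ← map_mul, map_sum, map_smul, smul_eq_mul, trace_reg, mul_ite, mul_zero]
  rw [sum_eq_single x⁻¹ (fun b _ hb => if_neg fun hc => hb (eq_inv_of_mul_eq_one_right hc))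
    (by simp), if_pos (mul_inv_cancel x), inv_inv]
  ring

variable {e : ℕ} [NeZero e] {y g : G} {N : Subgroup G}

/-- The eigenvalues of a kernel. -/
noncomputable def MuK (ω : O) (y g : G) (k : Kernel G O p) : Set (ZMod e) :=
  Mu p ω (rep k) y g

theorem muK_nonempty [CharZero O] (hO : Pr O p) {u ω : O} (hu : u * e = 1)
    (hω : IsPrimitiveRoot ω e) (h : Local p e y g N) (k : Kernel G O p) (D n : ℕ)
    (hD : (Nat.card G : O) * k.c * k.s 1 = (p : O) * D)
    (hn : (Nat.card G : O) * k.c * ∑ j ∈ range p, k.s (y ^ j) = (p : O) * n) (hlt : D < n) :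
    (MuK (e := e) ω y g k).Nonempty := by
  refine mu_nonempty hO hu hω h (rep k) n ?_ ?_
  · refine mul_left_cancel₀ hO.ne_zero ?_
    rw [← hn, nrm, map_sum, mul_sum, mul_sum]
    exact sum_congr rfl fun j _ => by rw [← map_pow, trace_rep]
  · have h1 := trace_rep k 1
    rw [map_one, LinearMap.trace_one, hD] at h1
    have := mul_left_cancel₀ hO.ne_zero h1
    rw [Nat.cast_inj] at this
    omega

theorem muK_disjoint (hO : Pr O p) {u ω : O} (hu : u * e = 1) (hω : ω ^ e = 1)
    (h : Local p e y g N) (k k' : Kernel G O p) (ho : Orth k' k) {i : ZMod e}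
    (hi : i ∈ MuK (e := e) ω y g k) : i ∉ MuK (e := e) ω y g k' := by
  classical
  refine mu_disjoint hO hu hω h (rep k) (rep k') (fun T hT => ?_) hi
  have h1 := op_comp k' (rep k) (rep k') T hT
  rw [op_self, op_other k' k ho, LinearMap.comp_zero] at h1
  refine LinearMap.ext fun v => smul_right_injective (lat k') hO.ne_zero ?_
  simpa using LinearMap.congr_fun h1 v

theorem muK_disjoint_neg (hO : Pr O p) {u ω : O} (hu : u * e = 1) (hω : ω ^ e = 1)
    (h : Local p e y g N) (k k' : Kernel G O p) (ho : Orth k'.inv k) {i : ZMod e}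
    (hi : i ∈ MuK (e := e) ω y g k) : -i ∉ MuK (e := e) ω y g k' := by
  classical
  refine mu_disjoint hO hu hω h (dualRep (rep k)) (rep k') (fun T hT => ?_)
    (mu_dual hO hu hω h (rep k) hi)
  have h1 := op_comp k' (dualRep (rep k)) (rep k') T hT
  rw [op_self, op_dual, op_other k'.inv k ho] at h1
  refine LinearMap.ext fun v => smul_right_injective (lat k') hO.ne_zero ?_
  have h2 := LinearMap.congr_fun h1 v
  simpa [LinearMap.dualMap_apply'] using h2

end Cfsg.Agent.PFixedKernel26
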