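import Mathlib

/-!
# Fixed vectors modulo norms for an element of prime order

For a lattice over a principal ideal domain in which the prime `p` generates the maximal ideal and
an operator `Y` with `Y ^ p = 1`: if the trace of the norm is larger than the rank, some fixed
vector is no norm; such vectors can be chosen as eigenvectors of an element normalising `⟨Y⟩`, and
two lattices without nonzero invariant maps share no such eigenvalue.
-/

set_option autoImplicit false

open Polynomial Finset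

namespace Cfsg.Agent.PFixedLattice26

/-- `p` is the uniformiser of `O`. -/
structure Pr (O : Type*) [CommRing O] (p : ℕ) : Prop where
  prime : p.Prime
  ne_zero : (p : O) ≠ 0
  not_unit : ¬ IsUnit (p : O)
  unit_or : ∀ x : O, IsUnit x ∨ (p : O) ∣ x

/-- A power indexed by residues. -/
def pw {M : Type*} [Monoid M] {e : ℕ} [NeZero e] (a : M) (k : ZMod e) : M := a ^ k.val

theorem pw_zero {M : Type*} [Monoid M] {e : ℕ} [NeZero e] (a : M) : pw (e := e) a 0 = 1 := by
  rw [pw, ZMod.val_zero, pow_zero]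

theorem pw_add {M : Type*} [Monoid M] {e : ℕ} [NeZero e] {a : M} (ha : a ^ e = 1) (i j : ZMod e) :
    pw a (i + j) = pw a i * pw a j := by
  rw [pw, pw, pw, ← pow_add, ZMod.val_add]
  exact pow_eq_pow_mod _ ha |>.symm

theorem pw_one {M : Type*} [Monoid M] {e : ℕ} [NeZero e] {a : M} (ha : a ^ e = 1) :
    pw (e := e) a 1 = a := by
  have h1 : (1 : ℕ) < e ∨ e = 1 := by have := NeZero.pos e; omega
  rcases h1 with h | h
  · haveI : Fact (1 < e) := ⟨h⟩
    rw [pw, ZMod.val_one, pow_one]
  · subst h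
    rw [pw, Subsingleton.elim (1 : ZMod 1) 0, ZMod.val_zero, pow_zero]
    rw [pow_one] at ha
    exact ha.symm

theorem poly_dvd {p : ℕ} (hp : p.Prime) (f g : ℤ[X])
    (h : f.map (Int.castRingHom (ZMod p)) = g.map (Int.castRingHom (ZMod p))) :
    ∃ A : ℤ[X], f = g + C (p : ℤ) * A := by
  have h0 : C (p : ℤ) ∣ f - g := by
    rw [C_dvd_iff_dvd_coeff]
    intro i
    rw [← ZMod.intCast_zmod_eq_zero_iff_dvd]
    have := congrArg (fun q => q.coeff i) h
    simpa [coeff_map, sub_eq_zero] using this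
  obtain ⟨A, hA⟩ := h0
  exact ⟨A, by rw [← hA]; ring⟩

theorem poly_pow (p : ℕ) (hp : p.Prime) :
    (∃ A : ℤ[X], (X - 1) ^ p = X ^ p - 1 + C (p : ℤ) * A) ∧
      ∃ B : ℤ[X], (X - 1) ^ (p - 1) = (∑ i ∈ range p, X ^ i) + C (p : ℤ) * B := by
  haveI := Fact.mk hp
  have h1 : ((X : (ZMod p)[X]) - 1) ^ p = X ^ p - 1 := by rw [sub_pow_char, one_pow]
  have h2 : ((X : (ZMod p)[X]) - 1) ^ (p - 1) = ∑ i ∈ range p, X ^ i := by
    have hne : (X : (ZMod p)[X]) - 1 ≠ 0 := by simpa using X_sub_C_ne_zero (1 : ZMod p)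
    refine mul_left_cancel₀ hne ?_
    rw [← pow_succ', Nat.sub_add_cancel hp.one_le, h1, mul_geom_sum]
  constructor
  · exact poly_dvd hp _ _ (by simpa using h1)
  · exact poly_dvd hp _ _ (by simpa [Polynomial.map_sum] using h2)

section Module

variable {O : Type*} [CommRing O] {L : Type*} [AddCommGroup L] [Module O L]

/-- The norm of an operator of order dividing `p`. -/
def nrm (p : ℕ) (Y : Module.End O L) : Module.End O L := ∑ i ∈ range p, Y ^ i

theorem mul_nrm {p : ℕ} {Y : Module.End O L} (hY : Y ^ p = 1) : Y * nrm p Y = nrm p Y := by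
  rw [← sub_eq_zero, ← sub_one_mul, nrm, mul_geom_sum, hY, sub_self]

theorem nrm_mul {p : ℕ} {Y : Module.End O L} (hY : Y ^ p = 1) : nrm p Y * Y = nrm p Y := by
  rw [← sub_eq_zero, ← mul_sub_one, nrm, geom_sum_mul, hY, sub_self]

theorem pow_apply_fixed {Y : Module.End O L} {z : L} (hz : Y z = z) : ∀ i : ℕ, (Y ^ i) z = z
  | 0 => rfl
  | i + 1 => by rw [pow_succ', Module.End.mul_apply, pow_apply_fixed hz i, hz]

theorem nrm_fixed {p : ℕ} {Y : Module.End O L} {z : L} (hz : Y z = z) :
    nrm p Y z = (p : O) • z := by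
  simp [nrm, LinearMap.sum_apply, pow_apply_fixed hz, Nat.cast_smul_eq_nsmul]

theorem end_pow {p : ℕ} (hp : p.Prime) {Y : Module.End O L} (hY : Y ^ p = 1) :
    (∃ A : Module.End O L, (Y - 1) ^ p = (p : O) • A) ∧
      ∃ B : Module.End O L, (Y - 1) ^ (p - 1) = nrm p Y + (p : O) • B := by
  have hc : ∀ W : Module.End O L, (p : ℤ) • W = (p : O) • W := fun W => by
    rw [natCast_zsmul, Nat.cast_smul_eq_nsmul]
  obtain ⟨⟨A, hA⟩, B, hB⟩ := poly_pow p hp
  constructor
  · refine ⟨aeval Y A, ?_⟩
    have := congrArg (aeval Y) hA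
    simpa [hY, Algebra.smul_def, ← hc] using this
  · refine ⟨aeval Y B, ?_⟩
    have := congrArg (aeval Y) hB
    simpa [nrm, Algebra.smul_def, ← hc] using this

variable [IsDomain O] [IsPrincipalIdealRing O] [Module.Free O L] [Module.Finite O L]

theorem smul_cancel {p : ℕ} (hO : Pr O p) {v w : L} (h : (p : O) • v = (p : O) • w) : v = w :=
  smul_right_injective L hO.ne_zero h

theorem eq_zero_of_dvd_pow {p : ℕ} (hO : Pr O p) {x : O} (h : ∀ n, (p : O) ^ n ∣ x) : x = 0 := by
  by_contra hx
  obtain ⟨n, hn⟩ := FiniteMultiplicity.of_not_isUnit hO.not_unit hx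
  exact hn (h (n + 1))

/-- If the trace of the norm exceeds the rank then some fixed vector is no norm. -/
theorem exists_fixed_not_norm [CharZero O] {p : ℕ} (hO : Pr O p) {Y : Module.End O L}
    (hY : Y ^ p = 1) (n : ℕ) (htr : LinearMap.trace O L (nrm p Y) = n)
    (hn : Module.finrank O L < n) : ∃ z, Y z = z ∧ ∀ w, nrm p Y w ≠ z := by
  classical
  by_contra hcon
  push Not at hcon
  let F : Submodule O L := LinearMap.eqLocus Y LinearMap.id
  have hmemF : ∀ {z : L}, z ∈ F ↔ Y z = z := fun {z} => by simp [F]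
  have hto : ∀ v, nrm p Y v ∈ F := fun v => by
    rw [hmemF, ← Module.End.mul_apply, mul_nrm hY]
  have htr' : LinearMap.trace O L (nrm p Y) = ((p * Module.finrank O F : ℕ) : O) := by
    rw [← LinearMap.trace_restrict_eq_of_forall_mem F (nrm p Y) hto,
      show (nrm p Y).restrict (fun x _ => hto x) = (p : O) • LinearMap.id from
        LinearMap.ext fun v => Subtype.ext (by
          simpa using nrm_fixed (p := p) (hmemF.1 v.2)),
      map_smul, LinearMap.trace_id, smul_eq_mul, Nat.cast_mul]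
  have hn' : n = p * Module.finrank O F := Nat.cast_injective (htr.symm.trans htr')
  let b := Module.finBasis O F
  choose v hv using fun j => hcon (b j : L) (hmemF.1 (b j).2)
  let w : Fin (Module.finrank O F) × Fin p → L := fun jk => ((Y - 1) ^ (jk.2 : ℕ)) (v jk.1)
  obtain ⟨⟨A, hA⟩, B, hB⟩ := end_pow hO.prime hY
  have step : ∀ c : Fin (Module.finrank O F) × Fin p → O, ∑ jk, c jk • w jk = 0 →
      ∀ jk, (p : O) ∣ c jk := by
    intro c hc
    suffices ∀ k : ℕ, ∀ jk, (jk.2 : ℕ) = k → (p : O) ∣ c jk from fun jk => this _ jk rfl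
    intro k
    induction k using Nat.strong_induction_on with
    | _ k ih =>
      rintro ⟨j, k'⟩ (rfl : (k' : ℕ) = k)
      let T := (Y - 1) ^ (p - 1 - (k' : ℕ))
      let P : Submodule O L := LinearMap.range ((p : O) • (LinearMap.id : L →ₗ[O] L))
      have hP : ∀ u, (p : O) • u ∈ P := fun u => ⟨u, rfl⟩
      have key : ∀ jk : Fin (Module.finrank O F) × Fin p,
          c jk • T (w jk) - (if jk.2 = k' then c jk • (b jk.1 : L) else 0) ∈ P := by
        rintro ⟨i, l⟩
        have hTw : T (w (i, l)) = ((Y - 1) ^ (p - 1 - (k' : ℕ) + (l : ℕ))) (v i) := by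
          rw [pow_add, Module.End.mul_apply]
        rcases lt_trichotomy (l : ℕ) (k' : ℕ) with h | h | h
        · obtain ⟨d, hd⟩ := ih _ h (i, l) rfl
          rw [if_neg (fun e => by simp only at e; rw [e] at h; exact lt_irrefl _ h), sub_zero, hd,
            mul_smul]
          exact hP _
        · obtain rfl : l = k' := Fin.ext h
          rw [if_pos rfl, hTw, Nat.sub_add_cancel (by have := l.2; omega), hB, LinearMap.add_apply,
            hv, LinearMap.smul_apply, smul_add, add_sub_cancel_left, smul_comm]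
          exact hP _
        · rw [if_neg (fun e => by simp only at e; rw [e] at h; exact lt_irrefl _ h), sub_zero, hTw]
          obtain ⟨r, hr⟩ := Nat.exists_eq_add_of_le
            (show p ≤ p - 1 - (k' : ℕ) + (l : ℕ) by have := k'.2; omega)
          rw [hr, pow_add, hA, Module.End.mul_apply, LinearMap.smul_apply, smul_comm]
          exact hP _
      have hsum := P.sum_mem (t := univ) fun jk _ => key jk
      have hT0 : ∑ jk, c jk • T (w jk) = 0 := by
        rw [← map_zero T, ← hc, map_sum]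
        simp only [map_smul]
      rw [sum_sub_distrib, hT0, zero_sub, neg_mem_iff, Fintype.sum_prod_type] at hsum
      simp only [sum_ite_eq', mem_univ, if_true] at hsum
      obtain ⟨u, hu⟩ := hsum
      simp only [LinearMap.smul_apply, LinearMap.id_coe, id_eq] at hu
      have huF : u ∈ F := by
        rw [hmemF]
        refine smul_cancel hO ?_
        rw [← map_smul, hu, map_sum]
        exact sum_congr rfl fun i _ => by rw [map_smul, hmemF.1 (b i).2]
      have heq : ∑ i, c (i, k') • b i = (p : O) • (⟨u, huF⟩ : F) := Subtype.ext (by simp [hu])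
      refine ⟨b.repr ⟨u, huF⟩ j, ?_⟩
      have h1 := congrArg (fun x => b.repr x j) heq
      simpa only [b.repr_sum_self, map_smul, Finsupp.smul_apply, smul_eq_mul] using h1
  have li : LinearIndependent O w := by
    rw [Fintype.linearIndependent_iff]
    intro c hc jk
    refine eq_zero_of_dvd_pow hO fun m => ?_
    induction m generalizing c with
    | zero => simp
    | succ m ih =>
      choose d hd using step c hc
      rw [hd jk, pow_succ']
      refine mul_dvd_mul_left _ (ih d (smul_cancel hO ?_))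
      rw [smul_zero, smul_sum, ← hc]
      exact sum_congr rfl fun i _ => by rw [hd i, mul_smul]
  have hle := li.fintype_card_le_finrank
  rw [Fintype.card_prod, Fintype.card_fin, Fintype.card_fin, mul_comm] at hle
  omega

/-- A fixed vector which is no norm is separated by an invariant functional. -/
theorem exists_functional {p : ℕ} (hO : Pr O p) {Y : Module.End O L} (hY : Y ^ p = 1) {z : L}
    (hz : Y z = z) (hnot : ∀ w, nrm p Y w ≠ z) :
    ∃ f : L →ₗ[O] O, f ∘ₗ Y = f ∧ IsUnit (f z) := by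
  classical
  let R := LinearMap.range (nrm p Y)
  let b := Module.finBasis O R
  let x : R := (nrm p Y).rangeRestrict z
  by_cases h : ∃ j, IsUnit (b.repr x j)
  · obtain ⟨j, hj⟩ := h
    refine ⟨b.coord j ∘ₗ (nrm p Y).rangeRestrict, LinearMap.ext fun v => ?_, hj⟩
    simp only [LinearMap.comp_apply]
    congr 1
    exact Subtype.ext (LinearMap.congr_fun (nrm_mul hY) v)
  · push Not at h
    choose d hd using fun j => (hO.unit_or (b.repr x j)).resolve_left (h j)
    obtain ⟨w, hw⟩ := (∑ j, d j • b j : R).2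
    refine absurd (smul_cancel hO ?_) (hnot w)
    rw [← nrm_fixed (p := p) hz, hw]
    have : (p : O) • (∑ j, d j • b j : R) = x := by
      conv_rhs => rw [← b.sum_repr x]
      rw [smul_sum]
      exact sum_congr rfl fun j _ => by rw [← mul_smul, hd j]
    exact congrArg Subtype.val this

end Module

section Eigen

variable {O : Type*} [CommRing O] {L : Type*} [AddCommGroup L] [Module O L] {e : ℕ} [NeZero e]

/-- The projection to an eigenspace of an operator of order dividing `e`. -/
noncomputable def proj (u ω : O) (g : Module.End O L) (i : ZMod e) : Module.End O L :=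
  u • ∑ k : ZMod e, pw ω (-(i * k)) • pw g k

theorem sum_pw [IsDomain O] {ω : O} (hω : IsPrimitiveRoot ω e) (k : ZMod e) :
    ∑ i : ZMod e, pw ω (-(i * k)) = if k = 0 then (e : O) else 0 := by
  split_ifs with h
  · simp [h, pw_zero, ZMod.card]
  · have h1 : pw ω (-k) ≠ 1 := by
      intro hc
      have h2 : e ∣ (-k).val := hω.dvd_of_pow_eq_one _ hc
      have h3 : (-k).val = 0 := Nat.eq_zero_of_dvd_of_lt h2 (ZMod.val_lt _)
      rw [ZMod.val_eq_zero, neg_eq_zero] at h3
      exact h h3
    have h4 : pw ω (-k) * ∑ i : ZMod e, pw ω (-(i * k)) = ∑ i : ZMod e, pw ω (-(i * k)) := by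
      rw [mul_sum]
      refine Fintype.sum_equiv (Equiv.addRight 1) _ _ fun i => ?_
      rw [← pw_add hω.pow_eq_one]
      congr 1
      simp only [Equiv.coe_addRight]
      ring
    by_contra hne
    exact h1 (mul_eq_right₀ hne |>.1 h4)

theorem sum_proj [IsDomain O] {u ω : O} (hu : u * e = 1) (hω : IsPrimitiveRoot ω e)
    (g : Module.End O L) : ∑ i : ZMod e, proj u ω g i = 1 := by
  simp only [proj, ← smul_sum]
  rw [sum_comm]
  simp only [← sum_smul, sum_pw hω, ite_smul, zero_smul]
  rw [sum_ite_eq' univ (0 : ZMod e), if_pos (mem_univ _), pw_zero, smul_smul, hu, one_smul]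

theorem proj_mul {u ω : O} (hω : ω ^ e = 1) {g : Module.End O L} (hg : g ^ e = 1) (i : ZMod e) :
    g * proj u ω g i = pw ω i • proj u ω g i ∧ proj u ω g i * g = pw ω i • proj u ω g i := by
  have key : ∀ k, pw ω i * pw ω (-(i * (k + 1))) = pw ω (-(i * k)) := fun k => by
    rw [← pw_add hω]; congr 1; ring
  have h2 : ∑ k : ZMod e, pw ω (-(i * k)) • pw g (k + 1) =
      pw ω i • ∑ k : ZMod e, pw ω (-(i * k)) • pw g k := by
    rw [← Equiv.sum_comp (Equiv.addRight (1 : ZMod e)) (fun k => pw ω (-(i * k)) • pw g k), smul_sum]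
    refine sum_congr rfl fun k _ => ?_
    rw [smul_smul, Equiv.coe_addRight, key]
  constructor
  · rw [proj, mul_smul_comm, mul_sum, smul_comm (pw ω i), ← h2]
    congr 1
    refine sum_congr rfl fun k _ => ?_
    rw [mul_smul_comm, add_comm k 1, pw_add hg, pw_one hg]
  · rw [proj, smul_mul_assoc, sum_mul, smul_comm (pw ω i), ← h2]
    congr 1
    refine sum_congr rfl fun k _ => ?_
    rw [smul_mul_assoc, pw_add hg, pw_one hg]

theorem proj_fixed {u ω : O} (hu : u * e = 1) (hω : ω ^ e = 1) {g : Module.End O L} {z : L}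
    {i : ZMod e} (hz : g z = pw ω i • z) : proj u ω g i z = z := by
  have hpow : ∀ n : ℕ, (g ^ n) z = (pw ω i) ^ n • z := by
    intro n
    induction n with
    | zero => simp
    | succ n ih =>
      rw [pow_succ', Module.End.mul_apply, ih, map_smul, hz, smul_smul, ← pow_succ]
  have hterm : ∀ k : ZMod e, pw ω (-(i * k)) • pw g k z = z := by
    intro k
    rw [pw, pw, hpow, smul_smul, pw, ← pow_mul, ← pow_add]
    have : ((-(i * k)).val + i.val * k.val : ℕ) ≡ 0 [MOD e] := by
      rw [← ZMod.natCast_eq_natCast_iff]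
      push_cast
      simp
    rw [pow_eq_pow_mod _ hω, this, Nat.zero_mod, pow_zero, one_smul]
  simp only [proj, LinearMap.smul_apply, LinearMap.sum_apply, hterm, sum_const, card_univ,
    ZMod.card, ← Nat.cast_smul_eq_nsmul O, smul_smul, hu, one_smul]

end Eigen

section Rep

variable {G : Type*} [Group G] {O : Type*} [CommRing O] {L L' : Type*} [AddCommGroup L]
  [Module O L] [AddCommGroup L'] [Module O L'] {e : ℕ} [NeZero e] {p : ℕ}

/-- The local data: `g` normalises `⟨y⟩`, of order `p`, and `N` is generated by them and is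
the only point fixed by `y` on `G / N`. -/
structure Local (p e : ℕ) (y g : G) (N : Subgroup G) : Prop where
  ord : orderOf y = p
  pow_e : g ^ e = 1
  left : ∀ k : ℕ, ∃ j : ℕ, g ^ k * y = y ^ j * g ^ k
  right : ∀ k : ℕ, ∃ j : ℕ, y * g ^ k = g ^ k * y ^ j
  gen : N ≤ Subgroup.closure {y, g}
  mem : y ∈ N
  fix : ∀ x : G, x⁻¹ * y * x ∈ N → x ∈ N

variable {y g : G} {N : Subgroup G}

theorem rho_pow_eq_one (h : Local p e y g N) (ρ : G →* Module.End O L) : ρ y ^ p = 1 := by
  rw [← map_pow, ← h.ord, pow_orderOf_eq_one, map_one]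

/-- The eigenvalues occurring on fixed vectors modulo norms. -/
def Mu (p : ℕ) (ω : O) (ρ : G →* Module.End O L) (y g : G) : Set (ZMod e) :=
  {i | ∃ z, ρ y z = z ∧ ρ g z = pw ω i • z ∧ ∀ w, nrm p (ρ y) w ≠ z}

theorem mu_nonempty [IsDomain O] [IsPrincipalIdealRing O] [Module.Free O L] [Module.Finite O L]
    [CharZero O] (hO : Pr O p) {u ω : O} (hu : u * e = 1) (hω : IsPrimitiveRoot ω e)
    (h : Local p e y g N) (ρ : G →* Module.End O L) (n : ℕ)
    (htr : LinearMap.trace O L (nrm p (ρ y)) = n) (hn : Module.finrank O L < n) :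
    (Mu (e := e) p ω ρ y g).Nonempty := by
  classical
  obtain ⟨z, hz, hnot⟩ := exists_fixed_not_norm hO (rho_pow_eq_one h ρ) n htr hn
  have hg : ρ g ^ e = 1 := by rw [← map_pow, h.pow_e, map_one]
  by_contra hcon
  rw [Set.not_nonempty_iff_eq_empty] at hcon
  have hall : ∀ i : ZMod e, ∃ w, nrm p (ρ y) w = proj u ω (ρ g) i z := by
    intro i
    by_contra hw
    push Not at hw
    have hi : i ∈ Mu (e := e) p ω ρ y g := by
      refine ⟨proj u ω (ρ g) i z, ?_, ?_, hw⟩
      · simp only [proj, LinearMap.smul_apply, LinearMap.sum_apply, map_smul, map_sum]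
        congr 1
        refine sum_congr rfl fun k _ => ?_
        obtain ⟨j, hj⟩ := h.right k.val
        congr 1
        show ρ y ((ρ g ^ k.val) z) = (ρ g ^ k.val) z
        rw [← map_pow, ← Module.End.mul_apply, ← map_mul, hj, map_mul,
          Module.End.mul_apply, map_pow ρ y, pow_apply_fixed hz]
      · rw [← Module.End.mul_apply, (proj_mul hω.pow_eq_one hg i).1, LinearMap.smul_apply]
    rw [hcon] at hi
    exact hi
  choose w hw using hall
  refine hnot (∑ i, w i) ?_
  rw [map_sum, sum_congr rfl fun i _ => hw i, ← LinearMap.sum_apply, sum_proj hu hω]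
  rfl

theorem exists_eigen_functional [IsDomain O] [IsPrincipalIdealRing O] [Module.Free O L]
    [Module.Finite O L] (hO : Pr O p) {u ω : O} (hu : u * e = 1) (hω : ω ^ e = 1)
    (h : Local p e y g N) (ρ : G →* Module.End O L) {i : ZMod e} {z : L} (hz : ρ y z = z)
    (hgz : ρ g z = pw ω i • z) (hnot : ∀ w, nrm p (ρ y) w ≠ z) :
    ∃ f : L →ₗ[O] O, f ∘ₗ ρ y = f ∧ f ∘ₗ ρ g = pw ω i • f ∧ IsUnit (f z) := by
  obtain ⟨f, hfY, hfz⟩ := exists_functional hO (rho_pow_eq_one h ρ) hz hnot
  have hg : ρ g ^ e = 1 := by rw [← map_pow, h.pow_e, map_one]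
  have hfpow : ∀ j : ℕ, f ∘ₗ (ρ y ^ j) = f := by
    intro j
    induction j with
    | zero => rfl
    | succ j ih => rw [pow_succ, Module.End.mul_eq_comp, ← LinearMap.comp_assoc, ih, hfY]
  refine ⟨f ∘ₗ proj u ω (ρ g) i, ?_, ?_, ?_⟩
  · simp only [proj, LinearMap.comp_smul, LinearMap.smul_comp, LinearMap.comp_assoc,
      ← Module.End.mul_eq_comp, sum_mul]
    ext v
    simp only [LinearMap.smul_apply, LinearMap.comp_apply, LinearMap.sum_apply, map_sum]
    congr 1
    refine sum_congr rfl fun k _ => ?_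
    obtain ⟨j, hj⟩ := h.left k.val
    rw [Module.End.mul_apply, LinearMap.smul_apply, map_smul, map_smul, pw, pw, ← map_pow,
      ← Module.End.mul_apply, ← map_mul, hj, map_mul, Module.End.mul_apply,
      map_pow]
    congr 1
    exact LinearMap.congr_fun (hfpow j) _
  · rw [LinearMap.comp_assoc, ← Module.End.mul_eq_comp, (proj_mul hω hg i).2, LinearMap.comp_smul]
  · rwa [LinearMap.comp_apply, proj_fixed hu hω hgz]

/-- The contragredient action. -/
def dualRep (ρ : G →* Module.End O L) : G →* Module.End O (Module.Dual O L) where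
  toFun x := (ρ x⁻¹).dualMap
  map_one' := by rw [inv_one, map_one]; exact LinearMap.dualMap_id
  map_mul' a b := by
    rw [mul_inv_rev, map_mul, Module.End.mul_eq_comp, Module.End.mul_eq_comp,
      LinearMap.dualMap_comp_dualMap]

theorem dualRep_apply (ρ : G →* Module.End O L) (x : G) (f : Module.Dual O L) (v : L) :
    dualRep ρ x f v = f (ρ x⁻¹ v) := rfl

theorem mu_dual [IsDomain O] [IsPrincipalIdealRing O] [Module.Free O L] [Module.Finite O L]
    (hO : Pr O p) {u ω : O} (hu : u * e = 1) (hω : ω ^ e = 1) (h : Local p e y g N)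
    (ρ : G →* Module.End O L) {i : ZMod e} (hi : i ∈ Mu (e := e) p ω ρ y g) :
    -i ∈ Mu (e := e) p ω (dualRep ρ) y g := by
  obtain ⟨z, hz, hgz, hnot⟩ := hi
  obtain ⟨f, hfY, hfg, hfz⟩ := exists_eigen_functional hO hu hω h ρ hz hgz hnot
  refine ⟨f, ?_, ?_, fun w hw => hO.not_unit ?_⟩
  · refine LinearMap.ext fun v => ?_
    rw [dualRep_apply]
    conv_lhs => rw [← hfY, LinearMap.comp_apply, ← Module.End.mul_apply, ← map_mul, mul_inv_cancel,
      map_one, Module.End.one_apply]
  · refine LinearMap.ext fun v => ?_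
    rw [dualRep_apply, LinearMap.smul_apply]
    have hv : v = ρ g (ρ g⁻¹ v) := by
      rw [← Module.End.mul_apply, ← map_mul, mul_inv_cancel, map_one, Module.End.one_apply]
    conv_rhs => rw [hv, ← LinearMap.comp_apply, hfg, LinearMap.smul_apply, smul_smul, ← pw_add hω,
      neg_add_cancel, pw_zero, one_smul]
  · have hfix : ∀ j : ℕ, (ρ ((y ^ j)⁻¹)) z = z := fun j => by
      have h1 : (ρ (y ^ j)) z = z := by rw [map_pow]; exact pow_apply_fixed hz j
      conv_lhs => rw [← h1, ← Module.End.mul_apply, ← map_mul, inv_mul_cancel, map_one,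
        Module.End.one_apply]
    have hval : f z = (p : O) * w z := by
      have := LinearMap.congr_fun hw z
      simp only [nrm, LinearMap.sum_apply, ← map_pow, dualRep_apply, hfix] at this
      simpa using this.symm
    rw [hval] at hfz
    exact isUnit_of_mul_isUnit_left hfz

theorem orbit_sum {X : Type*} [DecidableEq X] [MulAction G X] (h : Local p e y g N)
    (hp : p.Prime) (ρ' : G →* Module.End O L') (F : X → L')
    (hF : ∀ x, F (y • x) = ρ' y (F x)) (S : Finset X) (hS : ∀ x ∈ S, y • x ∈ S)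
    (hfree : ∀ x ∈ S, y • x ≠ x) : ∃ w, nrm p (ρ' y) w = ∑ x ∈ S, F x := by
  classical
  induction S using Finset.strongInduction with
  | _ S ih =>
    rcases S.eq_empty_or_nonempty with rfl | ⟨x, hx⟩
    · exact ⟨0, by simp⟩
    have hFpow : ∀ (j : ℕ), F (y ^ j • x) = (ρ' y ^ j) (F x) := by
      intro j
      induction j with
      | zero => simp
      | succ j ihj =>
        rw [pow_succ' y, mul_smul, hF, ihj, pow_succ', Module.End.mul_apply]
    have hmem : ∀ j : ℕ, y ^ j • x ∈ S := by
      intro j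
      induction j with
      | zero => simpa using hx
      | succ j ihj => rw [pow_succ', mul_smul]; exact hS _ ihj
    have hinj : Set.InjOn (fun j : ℕ => y ^ j • x) (range p : Set ℕ) := by
      intro a ha b hb hab
      simp only [coe_range, Set.mem_Iio] at ha hb
      by_contra hne
      have hd : ∀ a b : ℕ, a < b → b < p → y ^ a • x = y ^ b • x → False := by
        intro a b hab hb he
        have h1 : y ^ (b - a) • x = x := by
          have : y ^ a • (y ^ (b - a) • x) = y ^ a • x := by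
            rw [← mul_smul, ← pow_add, Nat.add_sub_cancel' hab.le, he]
          exact MulAction.injective (y ^ a) this
        have h2 : y ∈ Subgroup.zpowers (y ^ (b - a)) := by
          rw [mem_zpowers_pow_iff, Subgroup.mem_zpowers_iff.2 ⟨1, zpow_one y⟩ |> fun _ => h.ord]
          exact ((hp.coprime_iff_not_dvd.2 (Nat.not_dvd_of_pos_of_lt (by omega) (by omega))).symm)
        have h3 : y ∈ MulAction.stabilizer G x :=
          Subgroup.zpowers_le.2 (MulAction.mem_stabilizer_iff.2 h1) h2
        exact hfree x hx h3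
      rcases lt_or_gt_of_ne hne with h' | h'
      · exact hd a b h' hb hab
      · exact hd b a h' ha hab.symm
    let Ob := (range p).image fun j => y ^ j • x
    have hsub : Ob ⊆ S := by
      intro a ha
      obtain ⟨j, -, rfl⟩ := mem_image.1 ha
      exact hmem j
    have hxO : x ∈ Ob := mem_image.2 ⟨0, mem_range.2 hp.pos, by simp⟩
    have hss : S \ Ob ⊂ S := sdiff_ssubset hsub ⟨x, hxO⟩
    obtain ⟨w, hw⟩ := ih _ hss
      (fun a ha => by
        rw [mem_sdiff] at ha ⊢
        refine ⟨hS a ha.1, fun hc => ha.2 ?_⟩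
        obtain ⟨j, -, hj⟩ := mem_image.1 hc
        refine mem_image.2 ⟨(j + (p - 1)) % p, mem_range.2 (Nat.mod_lt _ hp.pos), ?_⟩
        have : a = y ^ (p - 1) • (y • a) := by
          rw [← mul_smul, ← pow_succ, Nat.sub_add_cancel hp.one_le, ← h.ord, pow_orderOf_eq_one,
            one_smul]
        rw [← h.ord, pow_mod_orderOf, h.ord, add_comm, pow_add, mul_smul, hj, ← this])
      (fun a ha => hfree a (mem_sdiff.1 ha).1)
    refine ⟨F x + w, ?_⟩
    rw [map_add, hw, ← sum_sdiff hsub, add_comm, sum_image hinj]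
    congr 1
    simp [nrm, LinearMap.sum_apply, hFpow]

/-- Two lattices without invariant maps share no eigenvalue. -/
theorem mu_disjoint [IsDomain O] [IsPrincipalIdealRing O] [Module.Free O L] [Module.Finite O L]
    [Fintype (G ⧸ N)] (hO : Pr O p) {u ω : O} (hu : u * e = 1) (hω : ω ^ e = 1)
    (h : Local p e y g N) (ρ : G →* Module.End O L) (ρ' : G →* Module.End O L')
    (hhom : ∀ T : L →ₗ[O] L', (∀ x, ρ' x ∘ₗ T = T ∘ₗ ρ x) → T = 0) {i : ZMod e}
    (hi : i ∈ Mu (e := e) p ω ρ y g) : i ∉ Mu (e := e) p ω ρ' y g := by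
  classical
  rintro ⟨z', hz', hgz', hnot'⟩
  obtain ⟨z, hz, hgz, hnot⟩ := hi
  obtain ⟨f, hfY, hfg, hfz⟩ := exists_eigen_functional hO hu hω h ρ hz hgz hnot
  let Φ : L →ₗ[O] L' := f.smulRight z'
  let C : Subgroup G :=
    { carrier := {x | ρ' x ∘ₗ Φ = Φ ∘ₗ ρ x}
      one_mem' := by simp [Module.End.one_eq_id]
      mul_mem' := fun {a b} ha hb => by
        simp only [Set.mem_setOf_eq, map_mul, Module.End.mul_eq_comp] at *
        rw [LinearMap.comp_assoc, hb, ← LinearMap.comp_assoc, ha, LinearMap.comp_assoc]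
      inv_mem' := fun {a} ha => by
        simp only [Set.mem_setOf_eq] at *
        calc ρ' a⁻¹ ∘ₗ Φ = ρ' a⁻¹ ∘ₗ (Φ ∘ₗ ρ a) ∘ₗ ρ a⁻¹ := by
              rw [LinearMap.comp_assoc, ← Module.End.mul_eq_comp (ρ a), ← map_mul, mul_inv_cancel,
                map_one, Module.End.one_eq_id, LinearMap.comp_id]
          _ = (ρ' a⁻¹ ∘ₗ ρ' a) ∘ₗ Φ ∘ₗ ρ a⁻¹ := by rw [← ha]; simp only [LinearMap.comp_assoc]
          _ = Φ ∘ₗ ρ a⁻¹ := by
              rw [← Module.End.mul_eq_comp, ← map_mul, inv_mul_cancel, map_one,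
                Module.End.one_eq_id, LinearMap.id_comp] }
  have hNC : N ≤ C := h.gen.trans ((Subgroup.closure_le C).2 (by
    rintro x (rfl | rfl) <;> refine LinearMap.ext fun v => ?_
    · simp only [Φ, LinearMap.comp_apply, LinearMap.smulRight_apply, map_smul, hz']
      rw [← LinearMap.comp_apply, hfY]
    · simp only [Φ, LinearMap.comp_apply, LinearMap.smulRight_apply, map_smul, hgz']
      rw [← LinearMap.comp_apply, hfg, LinearMap.smul_apply, smul_eq_mul, smul_smul, mul_comm]))
  let term : G ⧸ N → (L →ₗ[O] L') := Quotient.lift (fun q => ρ' q ∘ₗ Φ ∘ₗ ρ q⁻¹) (by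
    intro a b hab
    have hm : a⁻¹ * b ∈ C := hNC (QuotientGroup.leftRel_apply.1 hab)
    obtain ⟨n, hn, rfl⟩ : ∃ n ∈ C, b = a * n := ⟨a⁻¹ * b, hm, by group⟩
    have hn' : ρ' n ∘ₗ Φ = Φ ∘ₗ ρ n := hn
    symm
    calc ρ' (a * n) ∘ₗ Φ ∘ₗ ρ (a * n)⁻¹ = ρ' a ∘ₗ (ρ' n ∘ₗ Φ) ∘ₗ ρ n⁻¹ ∘ₗ ρ a⁻¹ := by
          simp only [mul_inv_rev, map_mul, Module.End.mul_eq_comp, LinearMap.comp_assoc]
      _ = ρ' a ∘ₗ Φ ∘ₗ (ρ n ∘ₗ ρ n⁻¹) ∘ₗ ρ a⁻¹ := by rw [hn']; simp only [LinearMap.comp_assoc]
      _ = ρ' a ∘ₗ Φ ∘ₗ ρ a⁻¹ := by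
          rw [← Module.End.mul_eq_comp (ρ n), ← map_mul, mul_inv_cancel, map_one,
            Module.End.one_eq_id, LinearMap.id_comp])
  have hterm : ∀ (x : G) (q : G ⧸ N), ρ' x ∘ₗ term q = term (x • q) ∘ₗ ρ x := by
    intro x q
    induction q using QuotientGroup.induction_on with
    | _ q =>
      show ρ' x ∘ₗ ρ' q ∘ₗ Φ ∘ₗ ρ q⁻¹ = (ρ' (x * q) ∘ₗ Φ ∘ₗ ρ (x * q)⁻¹) ∘ₗ ρ x
      rw [mul_inv_rev, map_mul, map_mul, Module.End.mul_eq_comp, Module.End.mul_eq_comp]
      simp only [LinearMap.comp_assoc]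
      rw [← Module.End.mul_eq_comp (ρ x⁻¹), ← map_mul, inv_mul_cancel, map_one,
        Module.End.one_eq_id, LinearMap.comp_id]
  have hT : (∑ q, term q) = 0 := by
    refine hhom _ fun x => ?_
    refine LinearMap.ext fun v => ?_
    simp only [LinearMap.comp_apply, LinearMap.sum_apply, map_sum]
    refine Fintype.sum_equiv (MulAction.toPerm x) _ _ fun q => ?_
    exact LinearMap.congr_fun (hterm x q) v
  obtain ⟨w, hw⟩ := orbit_sum h hO.prime ρ' (fun q : G ⧸ N => term q z)
    (fun q => by
      have := LinearMap.congr_fun (hterm y q) z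
      simpa [hz] using this.symm)
    (univ.erase ((1 : G) : G ⧸ N))
    (fun q hq => by
      refine mem_erase.2 ⟨fun hc => (mem_erase.1 hq).1 ?_, mem_univ _⟩
      rw [← inv_smul_smul y q, hc]
      exact QuotientGroup.eq.2 (by simpa using h.mem))
    (fun q hq => by
      induction q using QuotientGroup.induction_on with
      | _ q =>
        intro hc
        refine (mem_erase.1 hq).1 (QuotientGroup.eq.2 ?_)
        have h1 : (y * q)⁻¹ * q ∈ N := QuotientGroup.eq.1 hc
        have h2 : q⁻¹ * y * q ∈ N := by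
          have := N.inv_mem h1
          simpa [mul_assoc] using this
        simpa using h.fix q h2)
  have h0 : term ((1 : G) : G ⧸ N) z = f z • z' := by
    show (ρ' 1 ∘ₗ Φ ∘ₗ ρ 1⁻¹) z = _
    simp [Φ]
  have hsum : (∑ q, term q) z = 0 := by rw [hT, LinearMap.zero_apply]
  rw [LinearMap.sum_apply, ← add_sum_erase _ _ (mem_univ ((1 : G) : G ⧸ N)), h0, ← hw] at hsum
  obtain ⟨c, hc⟩ := hfz
  refine hnot' (-(↑c⁻¹ : O) • w) ?_
  rw [map_smul, eq_neg_of_add_eq_zero_right hsum, smul_neg, neg_smul, neg_neg, ← hc, smul_smul,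
    Units.inv_mul, one_smul]

end Rep

end Cfsg.Agent.PFixedLattice26
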