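import Cfsg.Agent.Lib.SteinbergPolarAvg

/-!
The fixed point Euler characteristic of a polar space has norm one, its value at `1` is the
`p`-part of the group order, and it vanishes at the non-trivial `p`-elements.
-/

set_option autoImplicit false

namespace Cfsg.Agent.SteinbergPolar

open Cfsg.Agent.H74Euler Cfsg.Agent.SteinbergEuler Cfsg.Agent.SteinbergLattice

open scoped Classical

variable {F V : Type*} [Field F] [AddCommGroup V] [Module F V] [Finite V] {Q : Geo F V}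
  {G : Type*} [Group G] {ρ : G →* (V ≃ₗ[F] V)} {p : ℕ} {H : Subgroup G} {W : Submodule F V}

omit [Finite V] in
theorem mem_pair_stab {e f : V} {h : G}
    (hh : h ∈ H ⊓ stabSub ρ (F ∙ e) ⊓ stabSub ρ (F ∙ f)) :
    h ∈ H ∧ img ρ h (F ∙ e) = F ∙ e ∧ img ρ h (F ∙ f) = F ∙ f :=
  ⟨hh.1.1, hh.1.2, hh.2⟩

omit [Finite V] in
/-- A `p`-element fixing a line fixes it pointwise. -/
theorem fix_of_line [CharP F p] [Fact p.Prime] {h : G} {k : ℕ} (hk : h ^ p ^ k = 1) {e : V}
    (he0 : e ≠ 0) (hl : img ρ h (F ∙ e) = F ∙ e) : ρ h e = e := by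
  obtain ⟨c, hc⟩ : ∃ c : F, c • e = ρ h e :=
    Submodule.mem_span_singleton.1 (hl ▸ apply_mem_img ρ (Submodule.mem_span_singleton_self e))
  have key : ∀ n : ℕ, ρ (h ^ n) e = c ^ n • e := by
    intro n
    induction n with
    | zero => simp
    | succ n ih => rw [pow_succ, map_mul, LinearEquiv.mul_apply, ← hc, map_smul, ih, smul_smul,
        pow_succ, mul_comm]
  have h1 := key (p ^ k)
  rw [hk, map_one] at h1
  have h2 : c ^ p ^ k = 1 := by
    have h3 : (c ^ p ^ k - 1) • e = 0 := by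
      rw [sub_smul, one_smul, ← h1, sub_eq_zero]; rfl
    exact sub_eq_zero.1 ((smul_eq_zero.1 h3).resolve_right he0)
  rw [← hc, iterateFrobenius_inj F p k (by simp only [iterateFrobenius_def, one_pow, h2] :
    iterateFrobenius F p k c = iterateFrobenius F p k 1), one_smul]

/-- Passing to the orthogonal space of a hyperbolic pair. -/
theorem Ok.descend [CharP F p] [Fact p.Prime] (hO : Ok Q ρ p H W) {e f : V} (he : e ∈ W)
    (hf : f ∈ W) (hes : Q.Φ e = 0) (hfs : Q.Φ f = 0) (hfe : Q.B f e = 1) :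
    Ok Q ρ p (H ⊓ stabSub ρ (F ∙ e) ⊓ stabSub ρ (F ∙ f)) (sub2 Q W e f) := by
  have he0 : e ≠ 0 := fun h => by rw [h, Q.zero_right] at hfe; exact zero_ne_one hfe
  have hf0 : f ≠ 0 := fun h => by rw [h, Q.zero_left] at hfe; exact zero_ne_one hfe
  refine ⟨fun v hv hperp => ?_, fun h hh => ?_, fun h hh => hO.pres h (mem_pair_stab hh).1, ?_, ?_⟩
  · obtain ⟨hvW, hve, hvf⟩ := mem_sub2.1 hv
    refine hO.nondeg v hvW fun u hu => ?_
    obtain ⟨a, b, hu'⟩ := decomp2 he hf hes hfs hfe hu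
    have := hperp _ hu'
    rw [Q.sub_right, Q.sub_right, Q.smul_right, Q.smul_right, hve, hvf] at this
    linear_combination this
  · obtain ⟨hH, h1, h2⟩ := mem_pair_stab hh
    rw [sub2, (img ρ h).map_inf, (img ρ h).map_inf, hO.img_perp hH, hO.img_perp hH, hO.stab h hH,
      h1, h2]
  · intro e' he' u hu v hv hes' hus hvs hue hve
    obtain ⟨he'W, he'e, he'f⟩ := mem_sub2.1 he'
    obtain ⟨huW, hue', huf'⟩ := mem_sub2.1 hu
    obtain ⟨hvW, hve', hvf'⟩ := mem_sub2.1 hv
    obtain ⟨h, hH, h1, h2, h3, h4⟩ := hO.eichler e' he'W u huW v hvW hes' hus hvs hue hve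
    have hE : ρ h e = e := h4 e (Q.refl _ _ he'e) (Q.refl _ _ hue') (Q.refl _ _ hve')
    have hF : ρ h f = f := h4 f (Q.refl _ _ he'f) (Q.refl _ _ huf') (Q.refl _ _ hvf')
    have hline : ∀ w : V, ρ h w = w → img ρ h (F ∙ w) = F ∙ w := fun w hw =>
      img_eq_of_le ρ (fun y hy => by
        obtain ⟨c, rfl⟩ := Submodule.mem_span_singleton.1 hy
        rw [map_smul, hw]; exact hy) le_rfl
    exact ⟨h, ⟨⟨hH, hline e hE⟩, hline f hF⟩, h1, h2, h3, h4⟩
  · intro h hh hp hne
    obtain ⟨hH, hle, hlf⟩ := mem_pair_stab hh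
    obtain ⟨k, hk⟩ := hp
    have hE := fix_of_line (ρ := ρ) hk he0 hle
    have hF := fix_of_line (ρ := ρ) hk hf0 hlf
    obtain ⟨v, -, hv0, hvs, hvfix, x, hx, hxv⟩ := hO.uni h hH ⟨k, hk⟩ hne
    obtain ⟨a, b, hx'⟩ := decomp2 he hf hes hfs hfe hx
    have hv : ρ h (x - a • e - b • f) - (x - a • e - b • f) = v := by
      rw [map_sub, map_sub, map_smul, map_smul, hE, hF, ← hxv]; abel
    refine ⟨v, ?_, hv0, hvs, hvfix, _, hx', hv⟩
    obtain ⟨hxW', hxe', hxf'⟩ := mem_sub2.1 hx'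
    have him : ρ h (x - a • e - b • f) ∈ sub2 Q W e f := by
      refine mem_sub2.2 ⟨hO.stab h hH ▸ apply_mem_img ρ hxW', ?_, ?_⟩
      · have := (hO.pres h hH).1 (x - a • e - b • f) e
        rw [hE] at this
        rw [this, hxe']
      · have := (hO.pres h hH).1 (x - a • e - b • f) f
        rw [hF] at this
        rw [this, hxf']
    exact hv ▸ Submodule.sub_mem _ him hx'

/-- The link of a singular point. -/
theorem Ok.up_line (hO : Ok Q ρ p H W) {g : G} (hg : g ∈ H) {e f : V} (he : e ∈ W)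
    (hes : Q.Φ e = 0) (hfe : Q.B f e = 1) (hge : img ρ g (F ∙ e) = F ∙ e)
    (hgf : img ρ g (F ∙ f) = F ∙ f) :
    Up Q ρ W (F ∙ e) g = L Q ρ (sub2 Q W e f) g := by
  have hf0 : f ≠ 0 := fun h => by rw [h, Q.zero_left] at hfe; exact zero_ne_one hfe
  have he0 : e ≠ 0 := fun h => by rw [h, Q.zero_right] at hfe; exact zero_ne_one hfe
  have hxf : (F ∙ e) ⊓ Q.perp (F ∙ f) = ⊥ := eq_bot_iff.2 fun y hy => by
    obtain ⟨hy1, hy2⟩ := Submodule.mem_inf.1 hy
    obtain ⟨c, rfl⟩ := Submodule.mem_span_singleton.1 hy1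
    have := hy2 f (Submodule.mem_span_singleton_self f)
    rw [Q.smul_left, mul_eq_zero] at this
    rw [this.resolve_right (pair_ne hfe), zero_smul]
    exact zero_mem _
  have heW : F ∙ e ≤ W := (Submodule.span_singleton_le_iff_mem _ _).2 he
  have hr : Module.finrank F (F ∙ e) = Module.finrank F (F ∙ f) := by
    rw [finrank_span_singleton he0, finrank_span_singleton hf0]
  have key : ∀ Z ∈ (fixd (img ρ) (Pts Q W) g).filter ((F ∙ e) < ·),
      Z ⊓ Q.perp (F ∙ f) ∈ fixd (img ρ) (Pts Q (sub2 Q W e f)) g ∧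
        (F ∙ e) ⊔ Z ⊓ Q.perp (F ∙ f) = Z := by
    intro Z hZ
    simp only [fixd, Finset.mem_filter, mem_Pts] at hZ
    obtain ⟨⟨⟨-, hZs, hZW⟩, hgZ⟩, heZ⟩ := hZ
    have hsplit := Q.sup_inf_perp heZ.le hxf hr
    refine ⟨Finset.mem_filter.2 ⟨(mem_Pts Q).2 ⟨fun h => ?_, hZs.mono inf_le_left, fun y hy => ?_⟩,
      hO.img_inf_perp hg hgZ hgf⟩, hsplit⟩
    · rw [h, sup_bot_eq] at hsplit
      exact heZ.ne hsplit
    · exact mem_sub2.2 ⟨hZW hy.1, hZs.2 hy.1 e (heZ.le (Submodule.mem_span_singleton_self e)),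
        hy.2 f (Submodule.mem_span_singleton_self f)⟩
  rw [Up, L]
  congr 1
  refine chi_congr _ _ (fun Z => Z ⊓ Q.perp (F ∙ f)) (fun Z hZ => (key Z hZ).1) (fun U hU => ?_)
    (fun Z hZ Z' hZ' => ⟨fun h => ?_, fun h => inf_le_inf_right _ h⟩)
  · simp only [fixd, Finset.mem_filter, mem_Pts] at hU
    obtain ⟨⟨hU0, hUs, hUW⟩, hgU⟩ := hU
    have hUf : U ≤ Q.perp (F ∙ f) := hUW.trans inf_le_right
    have hback : ((F ∙ e) ⊔ U) ⊓ Q.perp (F ∙ f) = U := by
      rw [sup_comm, sup_inf_assoc_of_le _ hUf, hxf, sup_bot_eq]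
    refine ⟨(F ∙ e) ⊔ U, Finset.mem_filter.2 ⟨Finset.mem_filter.2 ⟨(mem_Pts Q).2
      ⟨fun h => hU0 (eq_bot_iff.2 (le_sup_right.trans h.le)),
        (Q.sing_span hes).sup hUs (Q.le_perp_comm (hUW.trans (inf_le_left.trans inf_le_right))),
        sup_le heW (hUW.trans (inf_le_left.trans inf_le_left))⟩,
      by rw [(img ρ g).map_sup, hge, hgU]⟩, left_lt_sup.2 fun h => hU0 ?_⟩, hback⟩
    exact eq_bot_iff.2 (hxf ▸ le_inf h hUf)
  · rw [← (key Z hZ).2, ← (key Z' hZ').2]
    exact sup_le_sup_left h _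

/-- The opposite lines of a singular point are permuted transitively. -/
theorem Ok.move_opp (hO : Ok Q ρ p H W) {e : V} (he : e ∈ W) (he0 : e ≠ 0) (hes : Q.Φ e = 0) :
    ∀ a ∈ Opp Q W (F ∙ e), ∀ b ∈ Opp Q W (F ∙ e),
      ∃ m ∈ H ⊓ stabSub ρ (F ∙ e), img ρ m a = b := by
  have key : ∀ T ∈ Opp Q W (F ∙ e), ∃ u ∈ W, Q.Φ u = 0 ∧ Q.B u e = 1 ∧ T = F ∙ u := by
    intro T hT
    obtain ⟨hTP, hTe, hr⟩ := mem_Opp.1 hT
    obtain ⟨w, hw, hw0, hws, rfl⟩ := mem_Lines.1
      (Finset.mem_filter.2 ⟨hTP, by rw [hr, finrank_span_singleton he0]⟩)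
    have hwe : Q.B w e ≠ 0 := fun h => hw0 <| (Submodule.mem_bot F).1 <| hTe ▸
      ⟨Submodule.mem_span_singleton_self w, Q.mem_perp_span h⟩
    exact ⟨(Q.B w e)⁻¹ • w, W.smul_mem _ hw, Q.Φ_smul _ _ hws,
      by rw [Q.smul_left, inv_mul_cancel₀ hwe],
      (Submodule.span_singleton_smul_eq (IsUnit.mk0 _ (inv_ne_zero hwe)) w).symm⟩
  intro a ha b hb
  obtain ⟨u, hu, hus, hue, rfl⟩ := key a ha
  obtain ⟨v, hv, hvs, hve, rfl⟩ := key b hb
  have hu0 : u ≠ 0 := fun h => by rw [h, Q.zero_left] at hue; exact zero_ne_one hue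
  have hv0 : v ≠ 0 := fun h => by rw [h, Q.zero_left] at hve; exact zero_ne_one hve
  obtain ⟨h, hh, h1, h2, -, -⟩ := hO.eichler e he u hu v hv hes hus hvs hue hve
  refine ⟨h, ⟨hh, img_eq_of_le ρ (fun y hy => ?_) le_rfl⟩, img_eq_of_le ρ (fun y hy => ?_)
    (by rw [finrank_span_singleton hu0, finrank_span_singleton hv0])⟩
  · obtain ⟨c, rfl⟩ := Submodule.mem_span_singleton.1 hy
    rw [map_smul, h1]; exact hy
  · obtain ⟨c, rfl⟩ := Submodule.mem_span_singleton.1 hy
    rw [map_smul, h2]; exact Submodule.smul_mem _ _ (Submodule.mem_span_singleton_self v)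

theorem Ok.img_opp (hO : Ok Q ρ p H W) {x T : Submodule F V} {h : G}
    (hh : h ∈ H ⊓ stabSub ρ x) (hT : T ∈ Opp Q W x) : img ρ h T ∈ Opp Q W x := by
  obtain ⟨h1, h2, h3⟩ := mem_Opp.1 hT
  refine mem_Opp.2 ⟨hO.img_pts hh.1 h1, ?_, by rw [finrank_img, h3]⟩
  rw [← show img ρ h x = x from hh.2, ← hO.img_perp hh.1, ← (img ρ h).map_inf, h2]
  exact (img ρ h).map_bot

theorem opp_span {e f : V} (hf : f ∈ W) (hfs : Q.Φ f = 0) (hfe : Q.B f e = 1) :
    F ∙ f ∈ Opp Q W (F ∙ e) := by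
  have he0 : e ≠ 0 := fun h => by rw [h, Q.zero_right] at hfe; exact zero_ne_one hfe
  have hf0 : f ≠ 0 := fun h => by rw [h, Q.zero_left] at hfe; exact zero_ne_one hfe
  refine mem_Opp.2 ⟨(Finset.mem_filter.1 (mem_Lines.2 ⟨f, hf, hf0, hfs, rfl⟩)).1, ?_,
    by rw [finrank_span_singleton he0, finrank_span_singleton hf0]⟩
  refine eq_bot_iff.2 fun y hy => ?_
  obtain ⟨hy1, hy2⟩ := Submodule.mem_inf.1 hy
  obtain ⟨c, rfl⟩ := Submodule.mem_span_singleton.1 hy1
  have := hy2 e (Submodule.mem_span_singleton_self e)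
  rw [Q.smul_left, hfe, mul_one] at this
  rw [this, zero_smul]
  exact zero_mem _

/-- The identity at a singular point. -/
theorem Ok.L_line (hO : Ok Q ρ p H W) {g : G} (hg : g ∈ H) {e : V} (he : e ∈ W) (he0 : e ≠ 0)
    (hes : Q.Φ e = 0) (hge : img ρ g (F ∙ e) = F ∙ e) :
    L Q ρ W g = -(Up Q ρ W (F ∙ e) g * (fixd (img ρ) (Opp Q W (F ∙ e)) g).card) := by
  have : Module.Finite F V := Module.Finite.of_finite
  rw [hO.L_eq hg (Finset.mem_filter.1 (mem_Lines.2 ⟨e, he, he0, hes, rfl⟩)).1 hge]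
  congr 2
  rw [Finset.card_eq_sum_ones, Nat.cast_sum]
  refine Finset.sum_congr rfl fun T hT => ?_
  have hr : Module.finrank F T = 1 := by
    rw [(mem_Opp.1 (Finset.mem_filter.1 hT).1).2.2, finrank_span_singleton he0]
  have hempty : Ivl ⊥ T = ∅ := Finset.eq_empty_of_forall_notMem fun U hU => by
    obtain ⟨h1, h2⟩ := mem_Ivl.1 hU
    have h3 := Submodule.finrank_lt_finrank_of_lt h1
    have h4 := Submodule.finrank_lt_finrank_of_lt h2
    omega
  simp [D, fixd, hempty, chi_empty]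

/-! ### Counting -/

section Count

variable [Finite F] [CharP F p] [Fact p.Prime]

omit [Finite V] in
theorem card_F_pow : ∃ n : ℕ, 0 < n ∧ Nat.card F = p ^ n := by
  have := Fintype.ofFinite F
  obtain ⟨n, -, hn⟩ := FiniteField.card F p
  exact ⟨n, n.pos, by rw [Nat.card_eq_fintype_card, hn]⟩

/-- The singular vectors with `B u e = 1` number a power of `p`, above one unless the space is thin. -/
theorem Ok.card_partners {e f : V} (hO : Ok Q ρ p H W) (he : e ∈ W) (hf : f ∈ W) (hes : Q.Φ e = 0)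
    (hfs : Q.Φ f = 0) (hfe : Q.B f e = 1) :
    ∃ j : ℕ, Nat.card {u : V // u ∈ W ∧ Q.Φ u = 0 ∧ Q.B u e = 1} = p ^ j ∧
      (Thick Q W → 0 < j) := by
  have := Fintype.ofFinite F
  have := Fintype.ofFinite V
  obtain ⟨n, hn0, hn⟩ := card_F_pow (F := F) (p := p)
  let σe : F ≃+* F := RingEquiv.ofBijective Q.σ ⟨RingHom.injective Q.σ, Q.σ_surj⟩
  have hfw : ∀ w : sub2 Q W e f, Q.B (f + w) e = 1 ∧ Q.Φ (f + w) = Q.Φ w := fun w => by
    obtain ⟨-, hwe, hwf⟩ := mem_sub2.1 w.2
    rw [Q.add_left, Q.Φ_add, hfe, hwe, hfs, Q.refl _ _ hwf, map_zero, add_zero, add_zero, zero_add]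
    exact ⟨rfl, rfl⟩
  let φ : ((w : sub2 Q W e f) × {c : F // Q.θ c = -Q.Φ (w : V)}) →
      {u : V // u ∈ W ∧ Q.Φ u = 0 ∧ Q.B u e = 1} := fun x =>
    ⟨f + x.1 + σe.symm x.2.1 • e, W.add_mem (W.add_mem hf (mem_sub2.1 x.1.2).1) (W.smul_mem _ he),
      by
        rw [Q.Φ_add, Q.Φ_smul _ e hes, Q.smul_right, (hfw x.1).1, (hfw x.1).2, mul_one,
          show Q.σ (σe.symm x.2.1) = x.2.1 from σe.apply_symm_apply _, x.2.2]
        ring,
      by rw [Q.add_left, (hfw x.1).1, Q.smul_left, Q.iso e hes, mul_zero, add_zero]⟩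
  have hφ : Function.Bijective φ := by
    refine ⟨fun x y hxy => ?_, fun u => ?_⟩
    · have h1 : f + (x.1 : V) + σe.symm x.2.1 • e = f + y.1 + σe.symm y.2.1 • e :=
        congrArg Subtype.val hxy
      have h2 : σe.symm x.2.1 = σe.symm y.2.1 := by
        have h3 := congrArg (fun v => Q.B v f) h1
        simp only [Q.add_left, Q.smul_left, (mem_sub2.1 x.1.2).2.2, (mem_sub2.1 y.1.2).2.2,
          add_zero, add_left_cancel_iff] at h3
        exact mul_right_cancel₀ (pair_ne hfe) h3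
      rw [h2, add_left_inj, add_right_inj] at h1
      exact Sigma.subtype_ext (Subtype.ext h1) (σe.symm.injective h2)
    · obtain ⟨u, hu, hus, hue⟩ := u
      obtain ⟨a, b, hw⟩ := decomp2 he hf hes hfs hfe hu
      obtain ⟨-, hwe, -⟩ := mem_sub2.1 hw
      rw [Q.sub_left, Q.sub_left, Q.smul_left, Q.smul_left, Q.iso e hes, hfe, hue] at hwe
      have hb : b = 1 := by linear_combination -hwe
      refine ⟨⟨⟨_, hw⟩, σe a, ?_⟩, Subtype.ext ?_⟩
      · have hd : f + (u - a • e - b • f) + a • e = u := by rw [hb, one_smul]; abel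
        have h5 := hfw ⟨_, hw⟩
        have := hus
        rw [← hd, Q.Φ_add, Q.Φ_smul _ e hes, Q.smul_right, h5.1, h5.2, mul_one, add_zero] at this
        exact eq_neg_of_add_eq_zero_right this
      · show f + (u - a • e - b • f) + σe.symm (σe a) • e = u
        rw [σe.symm_apply_apply, hb, one_smul]; abel
  rw [← Nat.card_eq_of_bijective φ hφ, Nat.card_sigma]
  have hfib : ∀ w : sub2 Q W e f,
      Nat.card {c : F // Q.θ c = -Q.Φ (w : V)} = Nat.card Q.θ.ker := fun w => by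
    obtain ⟨c₀, hc₀⟩ := Q.trace (w : V)
    refine Nat.card_congr ⟨fun c => ⟨c.1 + c₀, AddMonoidHom.mem_ker.2 ?_⟩,
      fun c => ⟨c.1 - c₀, ?_⟩, fun c => Subtype.ext (add_sub_cancel_right _ _),
      fun c => Subtype.ext (sub_add_cancel _ _)⟩
    · rw [map_add, c.2, hc₀, neg_add_cancel]
    · rw [map_sub, AddMonoidHom.mem_ker.1 c.2, hc₀, zero_sub]
  simp only [hfib, Finset.sum_const, Finset.card_univ, smul_eq_mul, ← Nat.card_eq_fintype_card]
  obtain ⟨i, -, hi⟩ := (Nat.dvd_prime_pow Fact.out).1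
    (hn ▸ AddSubgroup.card_addSubgroup_dvd_card Q.θ.ker)
  refine ⟨n * Module.finrank F (sub2 Q W e f) + i,
    by rw [Module.natCard_eq_pow_finrank (K := F), hn, hi, ← pow_mul, ← pow_add], fun hth => ?_⟩
  rcases hth with ⟨c, hc0, hc⟩ | h3
  · have : 1 < Nat.card Q.θ.ker :=
      Finite.one_lt_card_iff_nontrivial.2 ⟨⟨c, hc⟩, 0, fun h => hc0 (congrArg Subtype.val h)⟩
    rcases Nat.eq_zero_or_pos i with h | h
    · rw [hi, h, pow_zero] at this; omega
    · omega
  · have h2 := finrank_sub2_le (Q := Q) (W := W) e f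
    exact Nat.add_pos_left (Nat.mul_pos hn0 (by omega)) _

/-- The opposite lines number a power of `p`. -/
theorem Ok.card_opp (hO : Ok Q ρ p H W) {e f : V} (he : e ∈ W) (hf : f ∈ W) (hes : Q.Φ e = 0)
    (hfs : Q.Φ f = 0) (hfe : Q.B f e = 1) :
    ∃ j : ℕ, (Opp Q W (F ∙ e)).card = p ^ j := by
  obtain ⟨j, hj, -⟩ := hO.card_partners he hf hes hfs hfe
  refine ⟨j, ?_⟩
  rw [← hj, ← Nat.card_eq_finsetCard]
  refine (Nat.card_eq_of_bijective
    (fun u => (⟨F ∙ u.1, opp_span u.2.1 u.2.2.1 u.2.2.2⟩ : Opp Q W (F ∙ e))) ⟨?_, ?_⟩).symm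
  · intro u v h
    have h' : F ∙ u.1 = F ∙ v.1 := congrArg Subtype.val h
    obtain ⟨c, hc⟩ := Submodule.mem_span_singleton.1 (h' ▸ Submodule.mem_span_singleton_self u.1)
    have := congrArg (fun y => Q.B y e) hc
    rw [Q.smul_left, v.2.2.2, u.2.2.2, mul_one] at this
    exact Subtype.ext (by rw [← hc, this, one_smul])
  · rintro ⟨T, hT⟩
    obtain ⟨hTP, hTe, hr⟩ := mem_Opp.1 hT
    have he0 : e ≠ 0 := fun h => by rw [h, Q.zero_right] at hfe; exact zero_ne_one hfe
    obtain ⟨w, hw, hw0, hws, rfl⟩ := mem_Lines.1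
      (Finset.mem_filter.2 ⟨hTP, by rw [hr, finrank_span_singleton he0]⟩)
    have hwe : Q.B w e ≠ 0 := fun h => hw0 <| (Submodule.mem_bot F).1 <| hTe ▸
      ⟨Submodule.mem_span_singleton_self w, Q.mem_perp_span h⟩
    refine ⟨⟨(Q.B w e)⁻¹ • w, W.smul_mem _ hw, Q.Φ_smul _ _ hws,
      by rw [Q.smul_left, inv_mul_cancel₀ hwe]⟩, Subtype.ext ?_⟩
    exact Submodule.span_singleton_smul_eq (IsUnit.mk0 _ (inv_ne_zero hwe)) w

/-- The number of singular points is prime to `p`. -/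
theorem Ok.not_dvd_lines (hO : Ok Q ρ p H W) (hth : Thick Q W) {e f : V} (he : e ∈ W) (hf : f ∈ W)
    (hes : Q.Φ e = 0) (hfs : Q.Φ f = 0) (hfe : Q.B f e = 1) :
    ¬ p ∣ (Lines Q W).card := by
  have := Fintype.ofFinite F
  have := Fintype.ofFinite V
  obtain ⟨j, hj, hjpos⟩ := hO.card_partners he hf hes hfs hfe
  obtain ⟨n, hn0, hn⟩ := card_F_pow (F := F) (p := p)
  set S : Finset V := Finset.univ.filter fun v => v ∈ W ∧ Q.Φ v = 0 with hS
  have hpart1 : p ∣ (S.filter fun v => ¬ Q.B v e = 0).card := by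
    have hc : Nat.card ({c : F // c ≠ 0} × {u : V // u ∈ W ∧ Q.Φ u = 0 ∧ Q.B u e = 1}) =
        (S.filter fun v => ¬ Q.B v e = 0).card := by
      rw [← Nat.card_eq_finsetCard]
      refine Nat.card_eq_of_bijective (fun x => (⟨x.1.1 • x.2.1, ?_⟩ :
        (S.filter fun v => ¬ Q.B v e = 0))) ⟨?_, ?_⟩
      · refine Finset.mem_filter.2 ⟨Finset.mem_filter.2 ⟨Finset.mem_univ _, W.smul_mem _ x.2.2.1,
          Q.Φ_smul _ _ x.2.2.2.1⟩, ?_⟩
        rw [Q.smul_left, x.2.2.2.2, mul_one]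
        exact x.1.2
      · intro x y h
        have h' : x.1.1 • x.2.1 = y.1.1 • y.2.1 := congrArg Subtype.val h
        have h2 := congrArg (fun v => Q.B v e) h'
        simp only [Q.smul_left, x.2.2.2.2, y.2.2.2.2, mul_one] at h2
        rw [h2] at h'
        exact Prod.ext (Subtype.ext h2) (Subtype.ext (smul_right_injective V y.1.2 h'))
      · rintro ⟨v, hv⟩
        obtain ⟨hv1, hve⟩ := Finset.mem_filter.1 hv
        obtain ⟨-, hvW, hvs⟩ := Finset.mem_filter.1 hv1
        exact ⟨(⟨_, hve⟩, ⟨(Q.B v e)⁻¹ • v, W.smul_mem _ hvW, Q.Φ_smul _ _ hvs,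
          by rw [Q.smul_left, inv_mul_cancel₀ hve]⟩), Subtype.ext (smul_inv_smul₀ hve v)⟩
    rw [← hc, Nat.card_prod, hj]
    exact (dvd_pow_self p (hjpos hth).ne').mul_left _
  have hpart0 : p ∣ (S.filter fun v => Q.B v e = 0).card := by
    have hc : Nat.card (F × {w : V // w ∈ sub2 Q W e f ∧ Q.Φ w = 0}) =
        (S.filter fun v => Q.B v e = 0).card := by
      rw [← Nat.card_eq_finsetCard]
      refine Nat.card_eq_of_bijective (fun x => (⟨x.1 • e + x.2.1, ?_⟩ :
        (S.filter fun v => Q.B v e = 0))) ⟨?_, ?_⟩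
      · obtain ⟨hwW, hwe, -⟩ := mem_sub2.1 x.2.2.1
        refine Finset.mem_filter.2 ⟨Finset.mem_filter.2 ⟨Finset.mem_univ _,
          W.add_mem (W.smul_mem _ he) hwW, ?_⟩, ?_⟩
        · rw [Q.Φ_add, Q.Φ_smul _ e hes, x.2.2.2, Q.smul_left, Q.refl _ _ hwe, mul_zero, map_zero]
          simp
        · rw [Q.add_left, Q.smul_left, Q.iso e hes, hwe, mul_zero, add_zero]
      · intro x y h
        have h' : x.1 • e + x.2.1 = y.1 • e + y.2.1 := congrArg Subtype.val h
        have h2 := congrArg (fun v => Q.B v f) h'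
        simp only [Q.add_left, Q.smul_left, (mem_sub2.1 x.2.2.1).2.2, (mem_sub2.1 y.2.2.1).2.2,
          add_zero] at h2
        have h3 := mul_right_cancel₀ (pair_ne hfe) h2
        rw [h3, add_right_inj] at h'
        exact Prod.ext h3 (Subtype.ext h')
      · rintro ⟨v, hv⟩
        obtain ⟨hv1, hve⟩ := Finset.mem_filter.1 hv
        obtain ⟨-, hvW, hvs⟩ := Finset.mem_filter.1 hv1
        obtain ⟨a, b, hw⟩ := decomp2 he hf hes hfs hfe hvW
        obtain ⟨-, hwe, -⟩ := mem_sub2.1 hw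
        rw [Q.sub_left, Q.sub_left, Q.smul_left, Q.smul_left, Q.iso e hes, hfe, hve] at hwe
        have hb : b = 0 := by linear_combination -hwe
        have hw' : v - a • e ∈ sub2 Q W e f := by rwa [hb, zero_smul, sub_zero] at hw
        have hΦ : Q.Φ (v - a • e) = 0 := by
          have := hvs
          rw [← sub_add_cancel v (a • e), Q.Φ_add, Q.Φ_smul _ e hes, Q.smul_right,
            (mem_sub2.1 hw').2.1, mul_zero, map_zero, add_zero, add_zero] at this
          exact this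
        exact ⟨(a, ⟨_, hw', hΦ⟩), Subtype.ext (by simp)⟩
    rw [← hc, Nat.card_prod, hn]
    exact (dvd_pow_self p hn0.ne').mul_right _
  have htot : p ∣ S.card := by
    rw [← Finset.card_filter_add_card_filter_not (s := S) (fun v => Q.B v e = 0)]
    exact dvd_add hpart0 hpart1
  have h0 : (0 : V) ∈ S := Finset.mem_filter.2 ⟨Finset.mem_univ _, W.zero_mem, Q.Φ_zero⟩
  have hlines : (S.erase 0).card = (Lines Q W).card * (p ^ n - 1) := by
    rw [Finset.card_eq_sum_card_fiberwise (f := fun v => F ∙ v) (t := Lines Q W) fun v hv => ?_]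
    · rw [Finset.sum_const_nat]
      intro U hU
      obtain ⟨u, hu, hu0, hus, rfl⟩ := mem_Lines.1 hU
      have hset : (S.erase 0).filter (fun v => F ∙ v = F ∙ u) =
          (Finset.univ.filter (· ∈ F ∙ u)).erase 0 := by
        ext v
        simp only [hS, Finset.mem_filter, Finset.mem_erase, Finset.mem_univ, true_and]
        refine ⟨fun h => ⟨h.1.1, h.2 ▸ Submodule.mem_span_singleton_self v⟩, fun h => ?_⟩
        obtain ⟨c, rfl⟩ := Submodule.mem_span_singleton.1 h.2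
        exact ⟨⟨h.1, W.smul_mem _ hu, Q.Φ_smul _ _ hus⟩,
          Submodule.span_singleton_smul_eq (IsUnit.mk0 c fun h0 => h.1 (by rw [h0, zero_smul])) u⟩
      rw [hset, Finset.card_erase_of_mem (Finset.mem_filter.2 ⟨Finset.mem_univ _, zero_mem _⟩),
        ← Fintype.card_subtype, ← Nat.card_eq_fintype_card, Module.natCard_eq_pow_finrank (K := F),
        finrank_span_singleton hu0, pow_one, hn]
    · obtain ⟨hv0, hv'⟩ := Finset.mem_erase.1 hv
      obtain ⟨-, hvW, hvs⟩ := Finset.mem_filter.1 hv'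
      exact mem_Lines.2 ⟨v, hvW, hv0, hvs, rfl⟩
  intro hdvd
  have h1 : p ∣ 1 := by
    have h2 : p ∣ (S.erase 0).card := hlines ▸ hdvd.mul_right _
    rw [← Finset.card_erase_add_one h0] at htot
    exact (Nat.dvd_add_right h2).1 htot
  exact Nat.Prime.not_dvd_one Fact.out h1

end Count

/-! ### The thin case -/

omit [Finite V] in
theorem sub2_pair {e f y : V} (hes : Q.Φ e = 0) (hfs : Q.Φ f = 0) (hfe : Q.B f e = 1) (a b : F)
    (hy : y = a • e + b • f) (hΦ : Q.Φ y = 0) (hinj : ∀ c : F, Q.θ c = 0 → c = 0) :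
    y ∈ F ∙ e ∨ y ∈ F ∙ f := by
  have h := hΦ
  rw [hy, Q.Φ_add, Q.Φ_smul _ e hes, Q.Φ_smul _ f hfs, Q.smul_left, Q.smul_right, zero_add,
    zero_add] at h
  rcases mul_eq_zero.1 (hinj _ h) with h1 | h1
  · exact Or.inr (Submodule.mem_span_singleton.2 ⟨b, by rw [hy, h1, zero_smul, zero_add]⟩)
  · have hb : b = 0 := (map_eq_zero Q.σ).1 ((mul_eq_zero.1 h1).resolve_right (pair_ne hfe))
    exact Or.inl (Submodule.mem_span_singleton.2 ⟨a, by rw [hy, hb, zero_smul, add_zero]⟩)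

theorem thin_space {e f : V} (he : e ∈ W) (hf : f ∈ W) (hes : Q.Φ e = 0) (hfs : Q.Φ f = 0)
    (hfe : Q.B f e = 1) (hth : ¬ Thick Q W) :
    (∀ y ∈ W, ∃ a b : F, y = a • e + b • f) ∧ Pts Q W = {F ∙ e, F ∙ f} ∧ F ∙ e ≠ F ∙ f := by
  have : Module.Finite F V := Module.Finite.of_finite
  rw [Thick, not_or] at hth
  have hinj : ∀ c : F, Q.θ c = 0 → c = 0 := fun c hc => by_contra fun h => hth.1 ⟨c, h, hc⟩
  have he0 : e ≠ 0 := fun h => by rw [h, Q.zero_right] at hfe; exact zero_ne_one hfe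
  have hf0 : f ≠ 0 := fun h => by rw [h, Q.zero_left] at hfe; exact zero_ne_one hfe
  have hne : ∀ c : F, c • e ≠ f := fun c h => by
    rw [← h, Q.smul_left, Q.iso e hes, mul_zero] at hfe
    exact zero_ne_one hfe
  have hspan : (F ∙ e) ⊔ (F ∙ f) = W := by
    refine Submodule.eq_of_le_of_finrank_le (sup_le ((Submodule.span_singleton_le_iff_mem _ _).2 he)
      ((Submodule.span_singleton_le_iff_mem _ _).2 hf)) ?_
    have hlt : F ∙ e < (F ∙ e) ⊔ (F ∙ f) := left_lt_sup.2 fun h => by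
      obtain ⟨c, hc⟩ := Submodule.mem_span_singleton.1 (h (Submodule.mem_span_singleton_self f))
      exact hne c hc
    have h1 := Submodule.finrank_lt_finrank_of_lt hlt
    rw [finrank_span_singleton he0] at h1
    have := hth.2
    omega
  have hdec : ∀ y ∈ W, ∃ a b : F, y = a • e + b • f := fun y hy => by
    rw [← hspan] at hy
    obtain ⟨u, hu, w, hw, rfl⟩ := Submodule.mem_sup.1 hy
    obtain ⟨a, rfl⟩ := Submodule.mem_span_singleton.1 hu
    obtain ⟨b, rfl⟩ := Submodule.mem_span_singleton.1 hw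
    exact ⟨a, b, rfl⟩
  refine ⟨hdec, ?_, fun h => ?_⟩
  · ext U
    simp only [mem_Pts, Finset.mem_insert, Finset.mem_singleton]
    refine ⟨fun ⟨hU0, hUs, hUW⟩ => ?_, ?_⟩
    · have hor : U ≤ F ∙ e ∨ U ≤ F ∙ f := by
        by_contra hcon
        rw [not_or] at hcon
        obtain ⟨y, hy, hye⟩ := SetLike.not_le_iff_exists.1 hcon.1
        obtain ⟨z, hz, hzf⟩ := SetLike.not_le_iff_exists.1 hcon.2
        have hmem : ∀ w ∈ U, w ∈ F ∙ e ∨ w ∈ F ∙ f := fun w hw => by
          obtain ⟨a, b, hab⟩ := hdec w (hUW hw)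
          exact sub2_pair hes hfs hfe a b hab (hUs.1 w hw) hinj
        obtain ⟨b, rfl⟩ := Submodule.mem_span_singleton.1 ((hmem y hy).resolve_left hye)
        obtain ⟨a, rfl⟩ := Submodule.mem_span_singleton.1 ((hmem z hz).resolve_right hzf)
        have h2 := hUs.2 hy _ hz
        rw [Q.smul_left, Q.smul_right, hfe, mul_one, mul_eq_zero, map_eq_zero] at h2
        rcases h2 with h2 | h2
        · exact hye (by rw [h2, zero_smul]; exact zero_mem _)
        · exact hzf (by rw [h2, zero_smul]; exact zero_mem _)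
      have h1 : 1 ≤ Module.finrank F U := by
        have := Submodule.finrank_eq_zero.not.2 hU0
        omega
      rcases hor with h | h
      · exact Or.inl (Submodule.eq_of_le_of_finrank_le h (by rw [finrank_span_singleton he0]; exact h1))
      · exact Or.inr (Submodule.eq_of_le_of_finrank_le h (by rw [finrank_span_singleton hf0]; exact h1))
    · rintro (rfl | rfl)
      · exact ⟨Submodule.span_singleton_eq_bot.not.2 he0, Q.sing_span hes,
          (Submodule.span_singleton_le_iff_mem _ _).2 he⟩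
      · exact ⟨Submodule.span_singleton_eq_bot.not.2 hf0, Q.sing_span hfs,
          (Submodule.span_singleton_le_iff_mem _ _).2 hf⟩
  · obtain ⟨c, hc⟩ := Submodule.mem_span_singleton.1 (h ▸ Submodule.mem_span_singleton_self f)
    exact hne c hc

/-! ### The main induction -/

section Main

variable [Fintype G] [Finite F] [CharP F p] [Fact p.Prime]

omit [Finite V] [Finite F] [CharP F p] [Fact p.Prime] in
theorem filter_stab (M : Subgroup G) (x : Submodule F V)
    [DecidablePred fun g => g ∈ M ∧ img ρ g x = x] :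
    (Finset.univ.filter fun g => g ∈ M ∧ img ρ g x = x) =
      Finset.univ.filter (· ∈ M ⊓ stabSub ρ x) := by
  ext g
  simp [mem_stabSub]

omit [Finite V] [Finite F] [CharP F p] in
theorem not_dvd_card_of_no_pElement (h : ∀ g ∈ H, (∃ k : ℕ, g ^ p ^ k = 1) → g = 1) :
    ¬ p ∣ (Finset.univ.filter (· ∈ H)).card := by
  rw [← Fintype.card_subtype]
  intro hd
  obtain ⟨g, hg⟩ := exists_prime_orderOf_dvd_card' (G := H) p (by rwa [Nat.card_eq_fintype_card])
  have h1 : g ^ p = 1 := hg ▸ pow_orderOf_eq_one g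
  have h2 : (g : G) = 1 := h g g.2 ⟨1, by rw [pow_one, ← Subgroup.coe_pow, h1]; rfl⟩
  rw [show g = 1 from Subtype.ext h2, orderOf_one] at hg
  exact (Fact.out : p.Prime).ne_one hg.symm

/-- Norm one and degree a `p`-part. -/
theorem Ok.norm_deg : ∀ (n : ℕ) {H : Subgroup G} {W : Submodule F V}, Module.finrank F W = n →
    Ok Q ρ p H W →
    ∑ g ∈ Finset.univ.filter (· ∈ H), L Q ρ W g * L Q ρ W g =
        ((Finset.univ.filter (· ∈ H)).card : ℤ) ∧
      ∃ k r : ℕ, (L Q ρ W 1).natAbs = p ^ k ∧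
        (Finset.univ.filter (· ∈ H)).card = p ^ k * r ∧ ¬ p ∣ r := by
  have hfin : Module.Finite F V := Module.Finite.of_finite
  intro n
  induction n using Nat.strong_induction_on with
  | _ n ih =>
  intro H W hn hO
  by_cases hs : ∀ v ∈ W, Q.Φ v = 0 → v = 0
  · have hP : Pts Q W = ∅ := Finset.eq_empty_of_forall_notMem fun U hU => by
      obtain ⟨hU0, hUs, hUW⟩ := (mem_Pts Q).1 hU
      exact hU0 (eq_bot_iff.2 fun v hv => (Submodule.mem_bot F).2 (hs v (hUW hv) (hUs.1 v hv)))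
    have hL : ∀ g : G, L Q ρ W g = 1 := fun g => by simp [L, fixd, hP, chi_empty]
    refine ⟨by simp [hL], 0, _, by simp [hL], (one_mul _).symm, ?_⟩
    refine not_dvd_card_of_no_pElement fun g hg hp => by_contra fun hne => ?_
    obtain ⟨v, hv, hv0, hvs, -, -⟩ := hO.uni g hg hp hne
    exact hv0 (hs v hv hvs)
  push Not at hs
  obtain ⟨e, he, hes, he0⟩ := hs
  obtain ⟨f, hf, hfs, hfe⟩ := hO.exists_partner he he0 hes
  by_cases hth : Thick Q W
  · -- the general case
    have hlin : F ∙ e ∈ Lines Q W := mem_Lines.2 ⟨e, he, he0, hes, rfl⟩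
    have hlines := sum_card_stab (img ρ) H (Lines Q W) (fun m hm a ha => hO.img_lines hm ha) hlin
      (hO.move_lines hth)
    have hstep : ∀ {e f : V}, e ∈ W → f ∈ W → e ≠ 0 → Q.Φ e = 0 → Q.Φ f = 0 → Q.B f e = 1 →
        Module.finrank F (sub2 Q W e f) < n := fun {e f} he' _ he0' _ _ hfe' => by
      rw [← hn]
      refine Submodule.finrank_lt_finrank_of_lt (lt_of_le_of_ne (inf_le_left.trans inf_le_left)
        fun h => ?_)
      have h1 : e ∈ sub2 Q W e f := le_of_eq h.symm he'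
      exact pair_ne hfe' (mem_sub2.1 h1).2.2
    have hwt : ∀ g : G, chi (fixd (img ρ) (Pts Q W) g) =
        ∑ x ∈ fixd (img ρ) (Pts Q W) g, Up Q ρ W x g := fun g => chi_eq _
    refine ⟨?_, ?_⟩
    · have e1 : ∀ g ∈ Finset.univ.filter (· ∈ H), L Q ρ W g * L Q ρ W g =
          L Q ρ W g - ∑ x ∈ fixd (img ρ) (Pts Q W) g, L Q ρ W g * Up Q ρ W x g := fun g _ => by
        rw [← Finset.mul_sum, ← hwt]
        conv_lhs => arg 2; rw [L]
        ring
      rw [Finset.sum_congr rfl e1, Finset.sum_sub_distrib, hO.sum_L hth ⟨_, hlin⟩, zero_sub,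
        Finset.sum_comm' (t' := Pts Q W)
          (s' := fun x => Finset.univ.filter fun g => g ∈ H ∧ img ρ g x = x)
          (fun g x => by simp only [Finset.mem_filter, fixd, Finset.mem_univ, true_and]; tauto),
        ← Finset.sum_neg_distrib, hlines.1, Nat.cast_sum, Lines, Finset.sum_filter]
      refine Finset.sum_congr rfl fun x hx => ?_
      split_ifs with hr
      · obtain ⟨a, ha, ha0, has, rfl⟩ := mem_Lines.1 (Finset.mem_filter.2 ⟨hx, hr⟩)
        obtain ⟨b, hb, hbs, hba⟩ := hO.exists_partner ha ha0 has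
        have hopp := sum_card_stab (img ρ) (H ⊓ stabSub ρ (F ∙ a)) (Opp Q W (F ∙ a))
          (fun m hm T hT => hO.img_opp hm hT) (opp_span hb hbs hba) (hO.move_opp ha ha0 has)
        have e2 : ∀ g ∈ Finset.univ.filter (fun g => g ∈ H ∧ img ρ g (F ∙ a) = F ∙ a),
            L Q ρ W g * Up Q ρ W (F ∙ a) g =
              -∑ T ∈ fixd (img ρ) (Opp Q W (F ∙ a)) g, Up Q ρ W (F ∙ a) g * Up Q ρ W (F ∙ a) g :=
          fun g hg => by
            obtain ⟨-, hgH, hga⟩ := Finset.mem_filter.1 hg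
            rw [hO.L_line hgH ha ha0 has hga, Finset.sum_const, nsmul_eq_mul]
            ring
        rw [Finset.sum_congr rfl e2, Finset.sum_neg_distrib, neg_neg,
          Finset.sum_comm' (t' := Opp Q W (F ∙ a)) (s' := fun T =>
            Finset.univ.filter fun g => g ∈ H ⊓ stabSub ρ (F ∙ a) ∧ img ρ g T = T)
            (fun g T => by
              simp only [Finset.mem_filter, fixd, Finset.mem_univ, true_and, Subgroup.mem_inf,
                mem_stabSub]
              tauto)]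
        erw [filter_stab (ρ := ρ) H (F ∙ a), hopp.1, Nat.cast_sum]
        refine Finset.sum_congr rfl fun T hT => ?_
        obtain ⟨hTP, hTe, hTr⟩ := mem_Opp.1 hT
        obtain ⟨w, hw, hw0, hws, rfl⟩ := mem_Lines.1
          (Finset.mem_filter.2 ⟨hTP, by rw [hTr, finrank_span_singleton ha0]⟩)
        have hwa : Q.B w a ≠ 0 := fun h => hw0 <| (Submodule.mem_bot F).1 <| hTe ▸
          ⟨Submodule.mem_span_singleton_self w, Q.mem_perp_span h⟩
        obtain ⟨b', hb', hbs', hba', hspan⟩ : ∃ b' ∈ W, Q.Φ b' = 0 ∧ Q.B b' a = 1 ∧ F ∙ w = F ∙ b' :=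
          ⟨(Q.B w a)⁻¹ • w, W.smul_mem _ hw, Q.Φ_smul _ _ hws,
            by rw [Q.smul_left, inv_mul_cancel₀ hwa],
            (Submodule.span_singleton_smul_eq (IsUnit.mk0 _ (inv_ne_zero hwa)) w).symm⟩
        rw [hspan]
        rw [filter_stab (ρ := ρ) (H ⊓ stabSub ρ (F ∙ a)) (F ∙ b')]
        erw [filter_stab (ρ := ρ) (H ⊓ stabSub ρ (F ∙ a)) (F ∙ b')]
        rw [← (ih _ (hstep ha hb' ha0 has hbs' hba') rfl
          (hO.descend ha hb' has hbs' hba')).1]
        refine Finset.sum_congr rfl fun g hg => ?_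
        obtain ⟨hgH, hga, hgb⟩ := mem_pair_stab (Finset.mem_filter.1 hg).2
        rw [hO.up_line hgH ha has hba' hga hgb]
      · have h2 : 2 ≤ Module.finrank F x := by
          have := Submodule.finrank_eq_zero.not.2 ((mem_Pts Q).1 hx).1
          omega
        rw [neg_eq_zero, ← hO.sum_L_up hx h2]
        exact Finset.sum_congr (Finset.filter_congr fun g _ => Iff.rfl) fun _ _ => rfl
    · obtain ⟨-, k, r, hk, hr, hpr⟩ :=
        ih _ (hstep he hf he0 hes hfs hfe) rfl (hO.descend he hf hes hfs hfe)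
      obtain ⟨j, hj⟩ := hO.card_opp he hf hes hfs hfe
      refine ⟨j + k, (Lines Q W).card * r, ?_, ?_, ?_⟩
      · have hall : fixd (img ρ) (Opp Q W (F ∙ e)) 1 = Opp Q W (F ∙ e) :=
          Finset.filter_true_of_mem fun T _ => img_one ρ T
        rw [hO.L_line H.one_mem he he0 hes (img_one ρ _), hO.up_line H.one_mem he hes hfe
          (img_one ρ _) (img_one ρ _), hall, Int.natAbs_neg, Int.natAbs_mul, hk, Int.natAbs_natCast,
          hj, pow_add, mul_comm]
      · have hopp := (sum_card_stab (img ρ) (H ⊓ stabSub ρ (F ∙ e)) (Opp Q W (F ∙ e))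
          (fun m hm T hT => hO.img_opp hm hT) (opp_span hf hfs hfe) (hO.move_opp he he0 hes)).2
        erw [hlines.2, filter_stab (ρ := ρ) H (F ∙ e), hopp, filter_stab (ρ := ρ) (H ⊓ stabSub ρ (F ∙ e)) (F ∙ f), hr,
          hj, pow_add]
        ring
      · intro h
        exact ((Fact.out : p.Prime).dvd_mul.1 h).elim (hO.not_dvd_lines hth he hf hes hfs hfe) hpr
  · -- a hyperbolic plane with two singular points
    obtain ⟨hdec, hP, hne⟩ := thin_space he hf hes hfs hfe hth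
    have hchi : ∀ g : G, chi (fixd (img ρ) (Pts Q W) g) = (fixd (img ρ) (Pts Q W) g).card := by
      intro g
      rw [chi_eq, Finset.card_eq_sum_ones, Nat.cast_sum]
      refine Finset.sum_congr rfl fun x hx => ?_
      have hempty : (fixd (img ρ) (Pts Q W) g).filter (x < ·) = ∅ := by
        refine Finset.filter_eq_empty_iff.2 fun y hy hlt => ?_
        have hr : ∀ z ∈ fixd (img ρ) (Pts Q W) g, Module.finrank F z = 1 := fun z hz => by
          have := (Finset.mem_filter.1 hz).1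
          rw [hP, Finset.mem_insert, Finset.mem_singleton] at this
          rcases this with rfl | rfl
          · exact finrank_span_singleton he0
          · exact finrank_span_singleton fun h => by rw [h, Q.zero_left] at hfe; exact zero_ne_one hfe
        have := Submodule.finrank_lt_finrank_of_lt hlt
        rw [hr x hx, hr y hy] at this
        omega
      rw [wt, hempty, chi_empty, sub_zero, Nat.cast_one]
    have hL : ∀ g ∈ H, L Q ρ W g * L Q ρ W g = 1 := fun g hg => by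
      have hperm : ∀ x ∈ ({F ∙ e, F ∙ f} : Finset (Submodule F V)),
          img ρ g x ∈ ({F ∙ e, F ∙ f} : Finset (Submodule F V)) :=
        fun x hx => hP ▸ hO.img_pts hg (hP ▸ hx)
      have he' := hperm (F ∙ e) (by simp)
      have hf' := hperm (F ∙ f) (by simp)
      simp only [Finset.mem_insert, Finset.mem_singleton] at he' hf'
      rw [L, hchi, fixd, hP]
      rcases he' with h1 | h1
      · have h2 : img ρ g (F ∙ f) = F ∙ f :=
          hf'.resolve_left fun h => hne ((img ρ g).injective (h1.trans h.symm))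
        rw [Finset.filter_true_of_mem (by simp [h1, h2]), Finset.card_pair hne]
        norm_num
      · have h2 : img ρ g (F ∙ f) ≠ F ∙ f := fun h => hne ((img ρ g).injective (h1.trans h.symm))
        rw [Finset.filter_false_of_mem (by simp [h1, h2, hne.symm])]
        norm_num
    refine ⟨?_, 0, _, ?_, (one_mul _).symm, ?_⟩
    · rw [Finset.sum_congr rfl fun g hg => hL g (Finset.mem_filter.1 hg).2]
      simp
    · have h := congrArg Int.natAbs (hL 1 H.one_mem)
      rw [Int.natAbs_mul] at h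
      rw [pow_zero]
      exact Nat.eq_one_of_mul_eq_one_right h
    · refine not_dvd_card_of_no_pElement fun g hg hp => by_contra fun hne' => ?_
      obtain ⟨v, hv, hv0, hvs, hvfix, x, hx, hxv⟩ := hO.uni g hg hp hne'
      obtain ⟨w, hw, hws, hwv⟩ := hO.exists_partner hv hv0 hvs
      obtain ⟨hdec', hP', -⟩ := thin_space hv hw hvs hws hwv hth
      obtain ⟨k, hk⟩ := hp
      have hw0 : w ≠ 0 := fun h => by rw [h, Q.zero_left] at hwv; exact zero_ne_one hwv
      have hgw : img ρ g (F ∙ w) = F ∙ w := by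
        have h1 := hO.img_pts hg (U := F ∙ w) (by rw [hP']; simp)
        rw [hP', Finset.mem_insert, Finset.mem_singleton] at h1
        refine h1.resolve_left fun h => ?_
        have hgv : img ρ g (F ∙ v) = F ∙ v := img_eq_of_le ρ (fun y hy => by
          obtain ⟨c, rfl⟩ := Submodule.mem_span_singleton.1 hy
          rw [map_smul, hvfix]; exact hy) le_rfl
        have h2 : F ∙ w = F ∙ v := (img ρ g).injective (h.trans hgv.symm)
        obtain ⟨c, hc⟩ := Submodule.mem_span_singleton.1 (h2 ▸ Submodule.mem_span_singleton_self w)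
        rw [← hc, Q.smul_left, Q.iso v hvs, mul_zero] at hwv
        exact zero_ne_one hwv
      have hfixw := fix_of_line (ρ := ρ) hk hw0 hgw
      obtain ⟨a, b, rfl⟩ := hdec' x hx
      rw [map_add, map_smul, map_smul, hvfix, hfixw, sub_self] at hxv
      exact hv0 hxv.symm

end Main

/-! ### Vanishing -/

omit [Finite V] in
theorem exists_fixed_in [CharP F p] [Fact p.Prime] {g : G} {k : ℕ} (hk : g ^ p ^ k = 1)
    {U : Submodule F V} (hU : img ρ g U = U) (hU0 : U ≠ ⊥) :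
    ∃ y ∈ U, y ≠ 0 ∧ ρ g y = y := by
  obtain ⟨z, hz, hz0⟩ := U.exists_mem_ne_zero_of_ne_bot hU0
  have : Nontrivial V := ⟨⟨z, 0, hz0⟩⟩
  have : CharP (Module.End F V) p :=
    charP_of_injective_algebraMap' F p
  set N : Module.End F V := (ρ g).toLinearMap - 1 with hN
  have hnil : N ^ p ^ k = 0 := by
    have hpow : ∀ m : ℕ, ((ρ g).toLinearMap : Module.End F V) ^ m = (ρ (g ^ m)).toLinearMap := by
      intro m
      induction m with
      | zero => rw [pow_zero, pow_zero, map_one]; rfl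
      | succ m ih => rw [pow_succ, pow_succ, ih, map_mul]; rfl
    rw [hN, sub_pow_char_pow_of_commute _ _ (Commute.one_right _), hpow, hk, map_one, one_pow]
    exact sub_self _
  have hex : ∃ m, (N ^ m) z = 0 := ⟨p ^ k, by rw [hnil]; rfl⟩
  obtain ⟨m, hm⟩ : ∃ m, Nat.find hex = m + 1 := by
    refine ⟨Nat.find hex - 1, (Nat.succ_pred_eq_of_pos (Nat.pos_of_ne_zero fun h => hz0 ?_)).symm⟩
    have := Nat.find_spec hex
    rwa [h, pow_zero] at this
  have hmem : ∀ i, (N ^ i) z ∈ U := by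
    intro i
    induction i with
    | zero => rwa [pow_zero]
    | succ i ih =>
      rw [pow_succ']
      exact U.sub_mem (hU ▸ apply_mem_img ρ ih) ih
  refine ⟨(N ^ m) z, hmem m, Nat.find_min hex (by omega), sub_eq_zero.1 ?_⟩
  have h := Nat.find_spec hex
  rw [hm, pow_succ'] at h
  exact h

/-- The function vanishes at non-trivial `p`-elements. -/
theorem Ok.L_eq_zero [CharP F p] [Fact p.Prime] (hO : Ok Q ρ p H W) {g : G} (hg : g ∈ H)
    (hp : ∃ k : ℕ, g ^ p ^ k = 1) (hne : g ≠ 1) : L Q ρ W g = 0 := by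
  obtain ⟨v, hv, hv0, hvs, hvfix, hvx⟩ := hO.uni g hg hp hne
  obtain ⟨k, hk⟩ := hp
  have hperp : ∀ u x : V, ρ g u = u → Q.B u (ρ g x - x) = 0 := fun u x hu => by
    rw [Q.sub_right]
    conv_lhs => arg 1; rw [← hu]
    rw [(hO.pres g hg).1, sub_self]
  let U1 : Submodule F V :=
    { carrier := {v | v ∈ W ∧ ρ g v = v ∧ Q.Φ v = 0 ∧ ∃ x ∈ W, ρ g x - x = v}
      zero_mem' := ⟨W.zero_mem, map_zero _, Q.Φ_zero, 0, W.zero_mem, by simp⟩
      add_mem' := by
        rintro a b ⟨ha, hga, has, x, hx, hxa⟩ ⟨hb, hgb, hbs, y, hy, hyb⟩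
        refine ⟨W.add_mem ha hb, by rw [map_add, hga, hgb], ?_, x + y, W.add_mem hx hy, ?_⟩
        · have := hperp a y hga
          rw [hyb] at this
          rw [Q.Φ_add, has, hbs, this, map_zero, add_zero, add_zero]
        · rw [map_add, ← hxa, ← hyb]; abel
      smul_mem' := by
        rintro c a ⟨ha, hga, has, x, hx, hxa⟩
        exact ⟨W.smul_mem _ ha, by rw [map_smul, hga], Q.Φ_smul _ _ has, c • x, W.smul_mem _ hx,
          by rw [map_smul, ← smul_sub, hxa]⟩ }
  let K : Submodule F V :=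
    { carrier := {y | ρ g y = y}
      zero_mem' := map_zero _
      add_mem' := fun {a b} ha hb => by
        show ρ g (a + b) = a + b
        rw [map_add, show ρ g a = a from ha, show ρ g b = b from hb]
      smul_mem' := fun c a ha => by
        show ρ g (c • a) = c • a
        rw [map_smul, show ρ g a = a from ha] }
  have hfixK : ∀ U : Submodule F V, U ≤ K → img ρ g U = U := fun U hU =>
    le_antisymm (fun y hy => by
      obtain ⟨x, hx, rfl⟩ := (mem_img ρ).1 hy
      rwa [show ρ g x = x from hU hx])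
      (fun y hy => (mem_img ρ).2 ⟨y, hy, hU hy⟩)
  have hU1K : U1 ≤ K := fun y hy => hy.2.1
  have hU1W : U1 ≤ W := fun y hy => hy.1
  have hfixperp : ∀ U : Submodule F V, U ≤ K → U ≤ Q.perp U1 := fun U hU u hu w hw => by
    obtain ⟨-, -, -, x, -, rfl⟩ := hw
    exact hperp u x (hU hu)
  have hU1s : Q.Sing U1 := ⟨fun y hy => hy.2.2.1, hfixperp U1 hU1K⟩
  have hU10 : U1 ≠ ⊥ := fun h => hv0 ((Submodule.mem_bot F).1 (h ▸ (⟨hv, hvfix, hvs, hvx⟩ : v ∈ U1)))
  have hc : U1 ∈ fixd (img ρ) (Pts Q W) g :=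
    Finset.mem_filter.2 ⟨(mem_Pts Q).2 ⟨hU10, hU1s, hU1W⟩, hfixK U1 hU1K⟩
  rw [L, chi_conical (fixd (img ρ) (Pts Q W) g) (fun U => U ⊓ K) (fun U => U ⊔ U1) U1
    (fun U hU => ?_) (fun U _ => inf_le_left) (fun U _ U' _ h => inf_le_inf_right _ h)
    (fun U _ => by rw [inf_assoc, inf_idem]) hc (inf_eq_left.2 hU1K) (fun U hU hfix => ?_)
    (fun U _ U' _ _ _ h => sup_le_sup_right h _), sub_self]
  · obtain ⟨hUP, hgU⟩ := Finset.mem_filter.1 hU
    obtain ⟨hU0, hUs, hUW⟩ := (mem_Pts Q).1 hUP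
    obtain ⟨y, hy, hy0, hyfix⟩ := exists_fixed_in (ρ := ρ) hk hgU hU0
    exact Finset.mem_filter.2 ⟨(mem_Pts Q).2 ⟨fun h => hy0 ((Submodule.mem_bot F).1
      (h ▸ ⟨hy, hyfix⟩)), hUs.mono inf_le_left, inf_le_left.trans hUW⟩, hfixK _ inf_le_right⟩
  · obtain ⟨hUP, -⟩ := Finset.mem_filter.1 hU
    obtain ⟨hU0, hUs, hUW⟩ := (mem_Pts Q).1 hUP
    have hUK : U ≤ K := inf_eq_left.1 hfix
    refine ⟨Finset.mem_filter.2 ⟨(mem_Pts Q).2 ⟨fun h => hU0 (eq_bot_iff.2 (le_sup_left.trans h.le)),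
      hUs.sup hU1s (hfixperp U hUK), sup_le hUW hU1W⟩, hfixK _ (sup_le hUK hU1K)⟩,
      inf_eq_left.2 (sup_le hUK hU1K), le_sup_left, le_sup_right⟩

end Cfsg.Agent.SteinbergPolar
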