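import Cfsg.Agent.Lib.TwistedBN

/-!
Identifying the fixed Weyl group of a twist with a Coxeter group from a list of words.
-/

set_option autoImplicit false
set_option linter.unusedSectionVars false

namespace Cfsg.Agent.TwistedCore

open Cfsg.Lie Cfsg.Agent.ChevalleyCert Cfsg.Agent.ChevWeyl Cfsg.Agent.ChevBruhat Cfsg.Agent.CoxeterTables

variable {D : ChevalleyDatum} {C : Cert D} {F : Type*} [Field F]

/-- the action of a word on roots, by packed permutations -/
def pact {n : ℕ} (P : List ℕ) (l : List (Fin n)) (r : ℕ) : ℕ := l.foldr (fun i x => act P i.val x) r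

/-- a code for the action of a word -/
def wcode (D : ChevalleyDatum) (P : List ℕ) (l : List (Fin D.rank)) : ℕ :=
  (List.range D.rank).foldl (fun a i => a * 256 + pact P l (D.simple i)) 0

/-- the number of positive roots made negative by a word -/
def winv (D : ChevalleyDatum) (P : List ℕ) (l : List (Fin D.rank)) : ℕ :=
  ((List.range D.nroots).filter fun r =>
    decide (D.nroots / 2 ≤ r) && decide (pact P l r < D.nroots / 2)).length

namespace Twist

variable (T : Twist C F)

lemma img_pact (l : List (Fin D.rank)) {r : ℕ} (hr : r < D.nroots) : T.X.img (T.wd l) r = pact T.X.P l r := by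
  induction l with
  | nil => simp [wd, pact]
  | cons i l ih =>
    have h : T.X.img (T.wd l) r < D.nroots := T.X.img_lt _ hr
    rw [wd, List.map_cons, List.prod_cons, T.X.img_mul]
    rw [wd] at ih h
    rw [Weyl.img, dif_pos h, T.X.ρ_simple_act]
    exact congrArg (act T.X.P i.val) ih

lemma inv_wd (l : List (Fin D.rank)) : T.X.inv (T.wd l) = winv D T.X.P l := by
  rw [Weyl.inv, winv, ← List.toFinset_card_of_nodup (List.Nodup.filter _ List.nodup_range)]
  congr 1
  ext r
  rw [T.X.mem_invSet, List.mem_toFinset, List.mem_filter, List.mem_range, Bool.and_eq_true, decide_eq_true_eq,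
    decide_eq_true_eq]
  constructor
  · rintro ⟨h1, h2⟩
    rw [T.X.neg_iff_lt h2.1, T.img_pact l h1.1] at h2
    exact ⟨h1.1, (T.X.pos_iff_le h1.1).mp h1, h2⟩
  · rintro ⟨h1, h2, h3⟩
    refine ⟨(T.X.pos_iff_le h1).mpr h2, ?_⟩
    rw [T.X.neg_iff_lt (T.X.img_lt _ h1), T.img_pact l h1]
    exact h3

lemma wd_append (l l' : List (Fin D.rank)) : T.wd (l ++ l') = T.wd l * T.wd l' := by
  simp [wd]

lemma wcode_congr {l l' : List (Fin D.rank)} (h : T.wd l = T.wd l') :
    wcode D T.X.P l = wcode D T.X.P l' := by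
  unfold wcode
  have key : ∀ (L : List ℕ), (∀ i ∈ L, i < D.rank) → ∀ a,
      L.foldl (fun a i => a * 256 + pact T.X.P l (D.simple i)) a =
        L.foldl (fun a i => a * 256 + pact T.X.P l' (D.simple i)) a := by
    intro L
    induction L with
    | nil => intros; rfl
    | cons i L ih =>
      intro hL a
      have hi := T.X.simple_lt (hL i List.mem_cons_self)
      rw [List.foldl_cons, List.foldl_cons, ← T.img_pact l hi, h, T.img_pact l' hi,
        ih fun j hj => hL j (List.mem_cons_of_mem _ hj)]
  exact key _ (fun i hi => List.mem_range.mp hi) 0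

end Twist

namespace Classes

variable {T : Twist C F} {G1 : Subgroup (GL D.Idx F)} (K : Classes T G1)

/-- the word of a word in classes -/
def cword {m : ℕ} (e : Fin m → K.κ) (v : List (Fin m)) : List (Fin D.rank) := v.flatMap fun a => K.cl (e a)

lemma wd_cword_mem {m : ℕ} (e : Fin m → K.κ) (v : List (Fin m)) : T.wd (K.cword e v) ∈ T.fixW := by
  induction v with
  | nil => exact one_mem _
  | cons a v ih =>
    rw [cword, List.flatMap_cons, T.wd_append]
    exact mul_mem (K.cw_fix (e a)) ih

lemma closure_cw {w : T.X.W} (hw : w ∈ T.fixW) : w ∈ Subgroup.closure (Set.range K.cw) := by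
  suffices h : ∀ k, ∀ w : T.X.W, w ∈ T.fixW → T.X.inv w = k → w ∈ Subgroup.closure (Set.range K.cw) from h _ w hw rfl
  intro k
  induction k using Nat.strong_induction_on with
  | _ k ih =>
    intro w hw hk
    by_cases h1 : w = 1
    · rw [h1]; exact one_mem _
    obtain ⟨J, -, -, -, -, hsub⟩ := K.exists_class_descent hw h1
    obtain ⟨-, hinv⟩ := K.step_sets hsub
    have hpos := K.inv_cw_pos J
    have h2 := ih (T.X.inv (w * K.cw J)) (by omega) _ (mul_mem hw (K.cw_fix J)) rfl
    have e : w = w * K.cw J * K.cw J := by rw [mul_assoc, K.cl_sq J, mul_one]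
    rw [e]
    exact mul_mem h2 (Subgroup.subset_closure ⟨J, rfl⟩)

/-- the fixed Weyl group is the Coxeter group of the classes, and sums over it are sums over the list of words -/
theorem fixW_model {m : ℕ} (M : CoxeterMatrix (Fin m)) [Finite M.Group] (e : Fin m → K.κ)
    (he : Function.Surjective e)
    (rel : ∀ a b, ∀ r < D.nroots,
      pact T.X.P (List.replicate (M a b) (K.cl (e a) ++ K.cl (e b))).flatten r = r)
    (L : List (List (Fin m))) (hcard : Nat.card M.Group ≤ L.length)
    (hsorted : ((L.map fun v => wcode D T.X.P (K.cword e v))).Pairwise (· < ·)) :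
    ∃ φ : M.Group ≃* ↥T.fixW, (∀ a, (φ (M.simple a) : T.X.W) = K.cw (e a)) ∧
      ∀ [Fintype ↥T.fixW] (f : ℕ → ℕ),
        ∑ w : ↥T.fixW, f (T.X.inv (w : T.X.W)) = ((L.map fun v => winv D T.X.P (K.cword e v)).map f).sum := by
  classical
  have hlift : ∀ a b, ((⟨K.cw (e a), K.cw_fix (e a)⟩ : ↥T.fixW) * ⟨K.cw (e b), K.cw_fix (e b)⟩) ^ M a b = 1 := by
    intro a b
    refine Subtype.ext ?_
    rw [SubmonoidClass.coe_pow, Subgroup.coe_mul, OneMemClass.coe_one]
    have hk : ∀ k, T.wd (List.replicate k (K.cl (e a) ++ K.cl (e b))).flatten = (K.cw (e a) * K.cw (e b)) ^ k := by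
      intro k
      induction k with
      | zero => simp [Twist.wd]
      | succ k ih => rw [List.replicate_succ, List.flatten_cons, T.wd_append, T.wd_append, ih, pow_succ']
    show (K.cw (e a) * K.cw (e b)) ^ M a b = 1
    rw [← hk]
    exact T.eq_of_img fun r hr => by rw [T.img_pact _ hr, T.X.img_one, rel a b r hr]
  obtain ⟨ψ, hψ⟩ : ∃ ψ : M.Group →* ↥T.fixW, ∀ a, ψ (M.simple a) = ⟨K.cw (e a), K.cw_fix (e a)⟩ :=
    ⟨M.toCoxeterSystem.lift ⟨fun a => ⟨K.cw (e a), K.cw_fix (e a)⟩, hlift⟩,
      fun a => CoxeterSystem.lift_apply_simple _ hlift a⟩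
  have hsurj : Function.Surjective ψ := by
    rintro ⟨w, hw⟩
    have h1 : Subgroup.closure (Set.range K.cw) ≤ ψ.range.map T.fixW.subtype := by
      rw [Subgroup.closure_le]
      rintro _ ⟨J, rfl⟩
      obtain ⟨a, rfl⟩ := he J
      exact ⟨ψ (M.simple a), ⟨_, rfl⟩, by rw [hψ]; rfl⟩
    obtain ⟨x, ⟨g, hg⟩, hx⟩ := h1 (K.closure_cw hw)
    exact ⟨g, hg.trans (Subtype.ext hx)⟩
  let g : Fin L.length → ↥T.fixW := fun j => ⟨T.wd (K.cword e L[j]), K.wd_cword_mem e _⟩
  have hg : Function.Injective g := by
    intro i j hij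
    have h := T.wcode_congr (congrArg Subtype.val hij)
    by_contra hne
    rw [List.pairwise_iff_getElem] at hsorted
    rcases lt_or_gt_of_ne hne with h1 | h1
    · have := hsorted i j (by simp) (by simp) h1
      simp only [List.getElem_map] at this
      exact this.ne h
    · have := hsorted j i (by simp) (by simp) h1
      simp only [List.getElem_map] at this
      exact this.ne h.symm
  have h1 : L.length ≤ Nat.card ↥T.fixW := by
    simpa using Nat.card_le_card_of_injective g hg
  have hψb : Function.Bijective ψ := hsurj.bijective_of_nat_card_le (hcard.trans h1)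
  have h2 : Nat.card ↥T.fixW ≤ L.length := (Nat.card_eq_of_bijective ψ hψb).symm.le.trans hcard
  have hgb : Function.Bijective g := hg.bijective_of_nat_card_le (by simpa using h2)
  refine ⟨MulEquiv.ofBijective ψ hψb, fun a => congrArg Subtype.val (hψ a), fun {_} f => ?_⟩
  rw [← Fintype.sum_bijective g hgb (fun j => f (winv D T.X.P (K.cword e L[j]))) _
    (fun j => by rw [← T.inv_wd])]
  rw [List.map_map]
  exact Fin.sum_univ_fun_getElem L (fun v => f (winv D T.X.P (K.cword e v)))

end Classes

end Cfsg.Agent.TwistedCore
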