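import Cfsg.Agent.Lib.ReeTwist17
import Cfsg.Agent.Lib.TwistedWeyl

/-!
`²G₂(q)` as a group of fixed points: the class, `U¹`, the Bruhat form and the order.
-/

set_option autoImplicit false
set_option linter.unusedSectionVars false
set_option maxRecDepth 20000

namespace Cfsg.Agent.ReeInstance17

open Cfsg.Lie Cfsg.Agent.ChevalleyCert Cfsg.Agent.ChevalleyCore Cfsg.Agent.TwistedCore
open Cfsg.Agent.ReeSL2 Cfsg.Agent.ReeTwist17 Cfsg.Agent.ChevExcGraphData Cfsg.Agent.ChevalleyTorus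
open Cfsg.Agent.ChevBruhat

/-- the setting: a field of order `3^(2m+1)` with its endomorphism -/
structure Ctx (K : Type*) [Field K] [Fintype K] [CharP K 3] where
  /-- the parameter -/
  e : ℕ
  /-- the endomorphism -/
  θ : K →+* K
  spec : ∀ t, θ t = t ^ e
  e_ne : e ≠ 0
  sq : ∀ t, θ (θ t) ^ 3 = t

variable {K : Type*} [Field K] [Fintype K] [CharP K 3] (X : Ctx K)

theorem exists_ctx {m : ℕ} (hK : Fintype.card K = 3 ^ (2 * m + 1)) :
    ∃ X : Ctx K, X.e = 3 ^ m := by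
  refine ⟨⟨3 ^ m, iterateFrobenius K 3 m, fun t => iterateFrobenius_def .., by simp, fun t => ?_⟩,
    rfl⟩
  rw [iterateFrobenius_def, iterateFrobenius_def, ← pow_mul, ← pow_mul,
    show 3 ^ m * (3 ^ m * 3) = 3 ^ (2 * m + 1) by ring, ← hK, FiniteField.pow_card]

namespace Ctx

theorem perf (x : K) : ∃ y : K, y ^ 3 = x :=
  (bijective_frobenius K 3).2 x

/-- the twist -/
noncomputable abbrev tw : Twist c2 K := mkTw X.θ perf

/-- the group -/
abbrev G1 : Subgroup (GL chevG2.Idx K) := twistedG2 K X.e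

theorem gen_eq (s : Bool) (t u v : K) :
    gen X.θ s t u v = wg c2 (if s then reeWordV X.e t u v else reeWordU X.e t u v) := by
  have hn : chevG2.negIdx.getD g2a 0 = 4 ∧ chevG2.negIdx.getD g2b 0 = 5 ∧
      chevG2.negIdx.getD g2ab 0 = 3 ∧ chevG2.negIdx.getD g2aab 0 = 2 ∧
      chevG2.negIdx.getD g2aaab 0 = 1 ∧ chevG2.negIdx.getD g2aaabb 0 = 0 := by decide +kernel
  have h1 : t * X.θ t + X.θ u = t ^ (X.e + 1) + u ^ X.e := by
    rw [X.spec, X.spec, pow_succ, mul_comm]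
  have h2 : t * X.θ t ^ 2 + X.θ v = t ^ (2 * X.e + 1) + v ^ X.e := by
    rw [X.spec, X.spec, ← pow_mul, pow_succ, mul_comm X.e 2, mul_comm t]
  rw [gen, h1, h2, X.spec t]
  cases s
  · simp only [Uf, tail, ReeTwist17.X, Bool.false_eq_true, ↓reduceIte, reeWordU,
      TwistedTools.wg_cons, TwistedTools.wg_nil, mul_one, mul_assoc, g2a, g2b, g2ab,
      g2aab, g2aaab, g2aaabb]
  · simp only [Uf, tail, ReeTwist17.X, ↓reduceIte, reeWordV, ChevalleyDatum.negWord, reeWordU,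
      List.map_cons, List.map_nil, hn, neg_val,
      TwistedTools.wg_cons, TwistedTools.wg_nil, mul_one, mul_assoc]

theorem gen_mem (s : Bool) (t u v : K) : gen X.θ s t u v ∈ X.G1 := by
  rw [gen_eq]
  refine TwistedTools.mem_gen c2 ⟨t, u, v, ?_⟩
  cases s <;> simp

theorem le_fixed : X.G1 ≤ X.tw.Fixed := by
  refine TwistedTools.gen_le c2 ?_
  rintro w ⟨t, u, v, hw⟩
  obtain ⟨s, rfl⟩ : ∃ s : Bool, w = if s then reeWordV X.e t u v else reeWordU X.e t u v := by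
    rcases hw with rfl | rfl
    · exact ⟨false, rfl⟩
    · exact ⟨true, rfl⟩
  rw [← gen_eq]
  exact ⟨Uf_group _ _ _ _ _ _ _, sg_gen X.θ perf X.sq s t u v⟩

theorem fixed_U_eq_gen {u : GL chevG2.Idx K} (hu : u ∈ chevG2.posUnipotent K)
    (hf : u ∈ X.tw.Fixed) : ∃ t a b, u = gen X.θ false t a b := by
  obtain ⟨a, b, c, d, e, g, rfl⟩ := exists_Uf hu
  have h := hf.2
  rw [sg_Uf] at h
  obtain ⟨h1, h2, h3, h4, -, -⟩ := Uf_inj h
  refine ⟨b, e, g, ?_⟩
  rw [gen]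
  rw [h2] at h3 h4
  rw [← h1, ← h3, ← h4]
  congr 1 <;> rw [h1] <;> ring

/-- the word of the longest element -/
def cl : List (Fin chevG2.rank) :=
  [⟨1, by decide⟩, ⟨0, by decide⟩, ⟨1, by decide⟩, ⟨0, by decide⟩, ⟨1, by decide⟩, ⟨0, by decide⟩]

/-- its representative -/
noncomputable def cn : GL chevG2.Idx K := ng c2 8 1 * ng c2 10 1

theorem cn_eq : (cn : GL chevG2.Idx K) = psi X.θ ChevalleySL2.wel := by
  show _ = phi8 X.θ _ * phi10 _
  rw [phi8, MonoidHom.comp_apply, map_wel, phi10]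
  have h8 : ChevalleySL2.phi (rels8 (K := K)) ChevalleySL2.wel = ng c2 8 1 := by
    refine (ChevalleySL2.phi_wel (rels8 (K := K))).trans ?_
    simp only [ChevalleySL2.nn, ng, root_facts.1]
  have h10 : ChevalleySL2.phi (rels10 (K := K)) ChevalleySL2.wel = ng c2 10 1 := by
    refine (ChevalleySL2.phi_wel (rels10 (K := K))).trans ?_
    simp only [ChevalleySL2.nn, ng, root_facts.2.1]
  rw [h8, h10]; rfl

theorem cn_G1 : (cn : GL chevG2.Idx K) ∈ X.G1 := by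
  rw [X.cn_eq]
  exact ReeSL2.range_le X.θ X.spec X.e_ne ⟨_, rfl⟩

theorem refl_facts : chevG2.reflectRoot 1 7 = 8 ∧ chevG2.reflectRoot 0 6 = 10 ∧
    chevG2.simple 0 = 7 ∧ chevG2.simple 1 = 6 ∧ chevG2.rank = 2 := by decide +kernel

theorem cn_toW : ∃ h : (cn : GL chevG2.Idx K) ∈ chevG2.monomialSubgroup K,
    X.tw.S.toW ⟨_, h⟩ = X.tw.wd cl := by
  obtain ⟨r8, r10, s0, s1, hr⟩ := refl_facts
  let η : Kˣ := Units.mk0 _ (eta_cast_ne c2 (F := K) 1 7)
  let η' : Kˣ := Units.mk0 _ (eta_cast_ne c2 (F := K) 0 6)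
  have e8 : ng c2 8 (1 : K) = ng c2 6 1 * ng c2 7 (η : K) * ng c2 6 (-1) := by
    have h := ng_simple_conj_ng c2 (F := K) (i := 1) (r := 7) (by rw [hr]; norm_num)
      (by decide +kernel) (η : K)
    rw [r8, s1, ng_inv] at h
    rw [h]
    exact congrArg _ (eta_cast_sq c2 1 7).symm
  have e10 : ng c2 10 (1 : K) = ng c2 7 1 * ng c2 6 (η' : K) * ng c2 7 (-1) := by
    have h := ng_simple_conj_ng c2 (F := K) (i := 0) (r := 6) (by rw [hr]; norm_num)
      (by decide +kernel) (η' : K)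
    rw [r10, s0, ng_inv] at h
    rw [h]
    exact congrArg _ (eta_cast_sq c2 0 6).symm
  obtain ⟨h, hw⟩ := X.tw.toW_prod_ng
    [((⟨1, by decide⟩ : Fin chevG2.rank), (1 : Kˣ)), (⟨0, by decide⟩, η), (⟨1, by decide⟩, -1),
      (⟨0, by decide⟩, 1), (⟨1, by decide⟩, η'), (⟨0, by decide⟩, -1)]
  have e : (([((⟨1, by decide⟩ : Fin chevG2.rank), (1 : Kˣ)), (⟨0, by decide⟩, η),
      (⟨1, by decide⟩, -1), (⟨0, by decide⟩, 1), (⟨1, by decide⟩, η'), (⟨0, by decide⟩, -1)]).map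
      fun p => ng c2 (chevG2.simple p.1.val) (p.2 : K)).prod = (cn : GL chevG2.Idx K) := by
    rw [cn, e8, e10]
    simp only [List.map_cons, List.map_nil, List.prod_cons, List.prod_nil, mul_one, s0, s1,
      Units.val_one, Units.val_neg, mul_assoc]
  exact ⟨e ▸ h, by simp only [← e]; exact hw⟩

theorem cl_neg : ∀ r < chevG2.nroots, chevG2.IsPosRoot r →
    chevG2.IsNegRoot (Twist.wact' chevG2 cl r) := by decide +kernel

theorem mem_invSet_cl {r : ℕ} :
    r ∈ X.tw.X.invSet (X.tw.wd cl) ↔ chevG2.IsPosRoot r := by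
  rw [X.tw.mem_invSet_wd]
  exact ⟨And.left, fun h => ⟨h, cl_neg r h.1 h⟩⟩

theorem Uw_cl : X.tw.S.Uw (X.tw.wd cl) = chevG2.posUnipotent K :=
  le_antisymm (X.tw.S.Uw_le_U _) ((Subgroup.closure_le _).mpr fun _ ⟨r, t, hr, hg⟩ =>
    Subgroup.subset_closure ⟨r, t, X.mem_invSet_cl.mpr hr, X.tw.S.eq_xg.mp hg⟩)

theorem inv_cl : X.tw.X.inv (X.tw.wd cl) = 6 := by
  rw [X.tw.inv_wd]
  show winv chevG2 ChevWeylData.g2.P cl = 6
  decide +kernel

theorem UF_cl_le : X.tw.UF (X.tw.wd cl) ≤ X.G1 := by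
  rintro u ⟨hu, hf⟩
  obtain ⟨t, a, b, rfl⟩ := X.fixed_U_eq_gen (X.Uw_cl ▸ hu) hf
  exact X.gen_mem _ _ _ _

theorem card_UF_cl : Nat.card ↥(X.tw.UF (X.tw.wd cl)) = Fintype.card K ^ 3 := by
  let f : K × K × K → ↥(X.tw.UF (X.tw.wd cl)) := fun p =>
    ⟨gen X.θ false p.1 p.2.1 p.2.2, X.Uw_cl.symm ▸ Uf_mem_U _ _ _ _ _ _,
      X.le_fixed (X.gen_mem _ _ _ _)⟩
  have hf : Function.Bijective f := by
    constructor
    · rintro ⟨t, u, v⟩ ⟨t', u', v'⟩ h
      obtain ⟨-, h2, -, -, h5, h6⟩ := Uf_inj (congrArg Subtype.val h)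
      simp only at h2 h5 h6
      rw [h2, h5, h6]
    · rintro ⟨u, hu, hf⟩
      obtain ⟨t, a, b, rfl⟩ := X.fixed_U_eq_gen (X.Uw_cl ▸ hu) hf
      exact ⟨(t, a, b), rfl⟩
  rw [← Nat.card_eq_of_bijective f hf, Nat.card_prod, Nat.card_prod, Nat.card_eq_fintype_card]
  ring

/-- the single class -/
noncomputable def classes : Classes X.tw X.G1 where
  κ := Unit
  cls _ := ()
  cls_surj _ := ⟨0, by decide, rfl⟩
  orbit i hi k hk _ := by
    have key : ∀ i < chevG2.rank, ∀ k < chevG2.rank, ∃ n < 2,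
        (fun j => piG2.getD j 0)^[n] i = k := by decide +kernel
    obtain ⟨n, -, hn⟩ := key i hi k hk
    exact ⟨n, hn⟩
  cl _ := cl
  cl_cls _ _ _ := rfl
  cl_sq _ := X.tw.wd_mul_self fun r hr =>
    (by decide +kernel : ∀ r < chevG2.nroots,
      Twist.wact' chevG2 cl (Twist.wact' chevG2 cl r) = r) r hr
  mem_cw _ r := X.mem_invSet_cl.trans ⟨fun h => ⟨h, fun _ _ _ => rfl⟩, And.left⟩
  cn _ := cn
  cn_G1 _ := X.cn_G1
  cn_N _ := X.cn_toW.1
  cn_toW _ := X.cn_toW.2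
  G1_le := X.le_fixed
  UJ_le _ := X.UF_cl_le
  Q := Fintype.card K
  e := 2
  one_lt_Q := Fintype.one_lt_card
  UJ_card _ := by rw [X.card_UF_cl, X.inv_cl, ← pow_mul]

/-- the longest element -/
noncomputable abbrev w0 : X.tw.X.W := X.tw.wd cl

theorem w0_fix : X.w0 ∈ X.tw.fixW := X.classes.cw_fix ()

theorem w0_ne_one : X.w0 ≠ 1 := X.classes.cw_ne_one ()

theorem fix_cases {w : X.tw.X.W} (hw : w ∈ X.tw.fixW) : w = 1 ∨ w = X.w0 := by
  refine or_iff_not_imp_left.2 fun h1 => ?_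
  obtain ⟨J, -, -, -, -, hsub⟩ := X.classes.exists_class_descent hw h1
  have hsub' : X.tw.X.invSet X.w0 ⊆ X.tw.X.invSet w := hsub
  have hle : X.tw.X.invSet w ⊆ X.tw.X.invSet X.w0 :=
    fun r hr => X.mem_invSet_cl.mpr (X.tw.X.mem_invSet.mp hr).1
  obtain ⟨-, hinv⟩ := X.classes.step_sets (J := ()) hsub'
  have h0 : X.tw.X.inv (w * X.w0) = 0 := by
    have he : X.tw.X.invSet w = X.tw.X.invSet X.w0 := Finset.Subset.antisymm hle hsub'
    have h2 : X.tw.X.inv w = X.tw.X.inv X.w0 := by unfold ChevWeyl.Weyl.inv; rw [he]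
    have h3 : X.classes.cw () = X.w0 := rfl
    rw [h3] at hinv
    omega
  have h4 := X.tw.X.eq_one_of_inv_eq_zero h0
  rw [eq_inv_of_mul_eq_one_left h4]
  exact X.classes.cw_inv ()

theorem U1_eq : chevG2.posUnipotent K ⊓ X.G1 = X.tw.UF X.w0 :=
  X.classes.U1_eq X.w0_fix X.Uw_cl.symm

theorem card_U1 : Nat.card ↥(chevG2.posUnipotent K ⊓ X.G1) = Fintype.card K ^ 3 := by
  rw [X.U1_eq, X.card_UF_cl]

theorem mem_U1 {u : GL chevG2.Idx K} (hu : u ∈ chevG2.posUnipotent K ⊓ X.G1) :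
    ∃ t a b, u = gen X.θ false t a b := X.fixed_U_eq_gen hu.1 (X.le_fixed hu.2)

/-- the Bruhat form -/
theorem form {g : GL chevG2.Idx K} (hg : g ∈ X.G1) :
    g ∈ chevG2.borelSubgroup K ⊓ X.G1 ∨
      ∃ b ∈ chevG2.borelSubgroup K ⊓ X.G1, ∃ u ∈ chevG2.posUnipotent K ⊓ X.G1,
        g = b * cn * u := by
  obtain ⟨b, hb, n, hn, u, hu, rfl⟩ := X.classes.exists_form1 hg
  have hu1 := X.classes.UF_le (X.classes.toW_fix hn) hu
  have huU := X.tw.S.Uw_le_U _ hu.1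
  rcases X.fix_cases (X.classes.toW_fix hn) with h | h
  · left
    have hH : (n : GL chevG2.Idx K) ∈ chevG2.diagonalSubgroup K := by
      have : n ∈ X.tw.S.toW.ker := h
      rw [X.tw.S.toW_ker] at this
      exact this
    exact Subgroup.mul_mem _ (Subgroup.mul_mem _ hb ⟨Sys.H_le_B hH, hn⟩)
      ⟨Sys.U_le_B huU, hu1⟩
  · right
    obtain ⟨hN, hw⟩ := X.cn_toW
    have h1 := X.tw.S.toW_eq_iff.mp (hw.trans h.symm)
    have h2 : (cn : GL chevG2.Idx K) * ((cn : GL chevG2.Idx K)⁻¹ * (n : GL chevG2.Idx K)) * (cn : GL chevG2.Idx K)⁻¹ ∈ chevG2.diagonalSubgroup K :=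
      X.tw.S.conj_H (X.tw.S.acts_toW ⟨_, hN⟩) h1
    have e : (cn : GL chevG2.Idx K) * ((cn : GL chevG2.Idx K)⁻¹ * (n : GL chevG2.Idx K)) * (cn : GL chevG2.Idx K)⁻¹ = (n : GL chevG2.Idx K) * cn⁻¹ := by group
    rw [e] at h2
    refine ⟨b * ((n : GL chevG2.Idx K) * cn⁻¹), Subgroup.mul_mem _ hb ⟨Sys.H_le_B h2,
      Subgroup.mul_mem _ hn (Subgroup.inv_mem _ X.cn_G1)⟩, u, ⟨huU, hu1⟩, by group⟩

theorem card_G1 : Nat.card ↥X.G1 = Nat.card ↥(chevG2.diagonalSubgroup K ⊓ X.G1) *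
    Fintype.card K ^ 3 * (1 + Fintype.card K ^ 3) := by
  classical
  haveI : Fintype ↥X.tw.fixW := Fintype.ofFinite _
  rw [X.classes.card_G1, X.classes.card_B1, X.card_U1]
  congr 1
  have huniv : (Finset.univ : Finset ↥X.tw.fixW) = {1, ⟨X.w0, X.w0_fix⟩} := by
    ext w
    simp only [Finset.mem_univ, Finset.mem_insert, Finset.mem_singleton, true_iff]
    rcases X.fix_cases w.2 with h | h
    · exact Or.inl (Subtype.ext h)
    · exact Or.inr (Subtype.ext h)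
  rw [huniv, Finset.sum_pair (fun h => X.w0_ne_one (congrArg Subtype.val h).symm)]
  congr 1
  · rw [Subgroup.card_eq_one]
    rw [eq_bot_iff]
    refine inf_le_left.trans ?_
    rw [Sys.Uw, Subgroup.closure_le]
    rintro g ⟨r, t, hr, -⟩
    rw [OneMemClass.coe_one, X.tw.X.mem_invSet, X.tw.X.img_one] at hr
    exact absurd hr.2 (X.tw.X.not_pos_and_neg hr.1)
  · exact X.card_UF_cl

/-! ### the torus -/

theorem cartan_facts : chevG2.rank = 2 ∧
    (List.range 2).map (fun i => chevG2.cartan i (chevG2.simple 0)) = [2, -1] ∧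
    (List.range 2).map (fun i => chevG2.cartan i (chevG2.simple 1)) = [-3, 2] := by decide +kernel

/-- the parameters of a fixed torus element -/
noncomputable def par : Kˣ →* (Fin chevG2.rank → Kˣ) where
  toFun c i := if i.val = 0 then Units.map X.θ.toMonoidHom c else c
  map_one' := by funext i; simp
  map_mul' c d := by funext i; split_ifs with h <;> simp [h]

/-- the torus of the fixed points -/
noncomputable def tor : Kˣ →* GL chevG2.Idx K := (torus chevG2).comp X.par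

theorem torus_inj : Function.Injective (torus chevG2 (F := K)) := by
  rw [injective_iff_map_eq_one]
  intro c hc
  have h := (TwistedTools.torus_eq_one_iff c2 c).1 hc
  have hfin : ∀ i : Fin chevG2.rank, i = ⟨0, by decide⟩ ∨ i = ⟨1, by decide⟩ := by decide +kernel
  have huniv : (Finset.univ : Finset (Fin chevG2.rank)) = {⟨0, by decide⟩, ⟨1, by decide⟩} := by
    decide +kernel
  have hA : chevG2.cartan 0 (chevG2.simple 0) = 2 ∧ chevG2.cartan 1 (chevG2.simple 0) = -1 ∧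
      chevG2.cartan 0 (chevG2.simple 1) = -3 ∧ chevG2.cartan 1 (chevG2.simple 1) = 2 := by
    decide +kernel
  have h0 := h ⟨0, by decide⟩
  have h1 := h ⟨1, by decide⟩
  simp only [tchar, huniv] at h0 h1
  rw [Finset.prod_pair (by decide)] at h0 h1
  simp only [hA] at h0 h1
  set x := c ⟨0, by decide⟩
  set y := c ⟨1, by decide⟩
  have hx : x = y ^ (2 : ℤ) := by
    have e : x ^ (-3 : ℤ) * y ^ (2 : ℤ) = 1 := h1
    have e0 : x ^ (2 : ℤ) * y ^ (-1 : ℤ) = 1 := h0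
    have ey : y = x ^ (2 : ℤ) := by
      rw [zpow_neg_one, mul_inv_eq_one] at e0; exact e0.symm
    rw [ey, ← zpow_mul, ← zpow_add] at e
    norm_num at e
    rw [ey, e]
    simp
  have e0 : x ^ (2 : ℤ) * y ^ (-1 : ℤ) = 1 := h0
  rw [hx, ← zpow_mul, zpow_neg_one, mul_inv_eq_one] at e0
  have e1 : x ^ (-3 : ℤ) * y ^ (2 : ℤ) = 1 := h1
  rw [hx, ← zpow_mul, ← zpow_add] at e1
  norm_num at e0 e1
  have hy : y = 1 := by
    have h3 : y ^ 3 = 1 := mul_right_cancel (b := y) (by rw [← pow_succ, one_mul]; exact e0)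
    have h4 : y ^ 4 = 1 := e1
    rwa [pow_succ, h3, one_mul] at h4
  funext i
  rcases hfin i with rfl | rfl
  · exact hx.trans (by rw [hy]; simp)
  · exact hy

theorem fixed_H_le : chevG2.diagonalSubgroup K ⊓ X.tw.Fixed ≤ X.tor.range := by
  rintro h ⟨hh, hf⟩
  obtain ⟨c, rfl⟩ := (mem_H_iff c2).1 hh
  have h1 := hf.2
  rw [X.tw.sg_torus] at h1
  have h2 := torus_inj h1
  refine ⟨c ⟨1, by decide⟩, congrArg (torus chevG2) (funext fun i => ?_)⟩
  have hfin : ∀ i : Fin chevG2.rank, i = ⟨0, by decide⟩ ∨ i = ⟨1, by decide⟩ := by decide +kernel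
  rcases hfin i with rfl | rfl
  · refine Units.ext ?_
    have h3 := congrArg Units.val (congrFun h2 ⟨0, by decide⟩)
    rw [Twist.tσ_apply] at h3
    exact h3
  · rfl

theorem H1_le : chevG2.diagonalSubgroup K ⊓ X.G1 ≤ X.tor.range :=
  (inf_le_inf_left _ X.le_fixed).trans X.fixed_H_le

theorem card_H1_dvd :
    Nat.card ↥(chevG2.diagonalSubgroup K ⊓ X.G1) ∣ Fintype.card K - 1 := by
  refine (Subgroup.card_dvd_of_le X.H1_le).trans ?_
  rw [← Nat.card_eq_fintype_card, ← Nat.card_units]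
  exact Subgroup.card_range_dvd _

theorem card_G1_dvd : Nat.card ↥X.G1 ∣
    (Fintype.card K - 1) * Fintype.card K ^ 3 * (1 + Fintype.card K ^ 3) := by
  rw [X.card_G1]
  exact mul_dvd_mul_right (mul_dvd_mul_right X.card_H1_dvd _) _

end Ctx

end Cfsg.Agent.ReeInstance17
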