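import Cfsg.Agent.Lib.ReeTorus17
import Cfsg.Agent.Lib.TwistedSimple
import Cfsg.Agent.S1050

/-!
The monomial part, the core of the Borel subgroup, perfectness and simplicity of `²G₂(q)`.
-/

set_option autoImplicit false
set_option linter.unusedSectionVars false
set_option maxRecDepth 20000

namespace Cfsg.Agent.ReeSimple17

open Cfsg.Lie Cfsg.Agent.ChevalleyCore Cfsg.Agent.TwistedCore Cfsg.Agent.ReeSL2
open Cfsg.Agent.ReeTwist17 Cfsg.Agent.ReeInstance17 Cfsg.Agent.ReeCentralizer17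
open Cfsg.Agent.ChevBruhat
open scoped MatrixGroups commutatorElement

variable {K : Type*} [Field K] [Fintype K] [CharP K 3] (X : ReeInstance17.Ctx K)

theorem exists_N1 :
    ∃ φ : ↥(chevG2.monomialSubgroup K ⊓ X.G1) →* Multiplicative (ZMod 2), Function.Surjective φ ∧
      φ.ker = (chevG2.diagonalSubgroup K ⊓ X.G1).subgroupOf (chevG2.monomialSubgroup K ⊓ X.G1) := by
  classical
  have hsq : X.w0 * X.w0 = 1 := X.classes.cl_sq ()
  let ψ : ↥X.tw.fixW →* Multiplicative (ZMod 2) :=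
    { toFun := fun w => if w = 1 then 1 else Multiplicative.ofAdd 1
      map_one' := if_pos rfl
      map_mul' := fun a b => by
        rcases X.fix_cases a.2 with ha | ha
        · have ha' : a = 1 := Subtype.ext ha
          simp [ha']
        · have ha' : a ≠ 1 := fun h => X.w0_ne_one (ha.symm.trans (congrArg Subtype.val h))
          rcases X.fix_cases b.2 with hb | hb
          · have hb' : b = 1 := Subtype.ext hb
            simp [hb']
          · have hb' : b ≠ 1 := fun h => X.w0_ne_one (hb.symm.trans (congrArg Subtype.val h))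
            have hab : a * b = 1 := Subtype.ext (by rw [Subgroup.coe_mul, ha, hb, hsq]; rfl)
            rw [if_pos hab, if_neg ha', if_neg hb']
            decide }
  have hψ : Function.Injective ψ := by
    rw [injective_iff_map_eq_one]
    intro w hw
    by_contra h
    simp [ψ, h] at hw
  have hs : Function.Surjective ψ := by
    intro y
    rcases zmod2_cases (Multiplicative.toAdd y) with h | h
    · exact ⟨1, by rw [map_one, ← ofAdd_toAdd y, h]; rfl⟩
    · refine ⟨⟨X.w0, X.w0_fix⟩, ?_⟩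
      have hne : (⟨X.w0, X.w0_fix⟩ : ↥X.tw.fixW) ≠ 1 :=
        fun h => X.w0_ne_one (congrArg Subtype.val h)
      show (if _ then _ else _) = y
      rw [if_neg hne, ← ofAdd_toAdd y, h]
  obtain ⟨φ, hφs, hφk⟩ := X.classes.exists_N1_hom
  refine ⟨ψ.comp φ, hs.comp hφs, ?_⟩
  rw [← hφk]
  ext x
  simp only [MonoidHom.mem_ker, MonoidHom.comp_apply]
  exact map_eq_one_iff ψ hψ

theorem gen_U1 (t u v : K) : gen X.θ false t u v ∈ chevG2.posUnipotent K ⊓ X.G1 :=
  ⟨Uf_mem_U _ _ _ _ _ _, X.gen_mem _ _ _ _⟩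

theorem simple_vals : chevG2.simple 0 = 7 ∧ chevG2.simple 1 = 6 ∧
    (∀ r ∈ ([6, 7, 8, 9, 10, 11] : List ℕ), chevG2.IsPosRoot r) := by decide +kernel

theorem coef : ∀ i < chevG2.rank, ∃ v ∈ upSub chevG2 K i, ∃ a : K, a ≠ 0 ∧
    v * xg c2 (chevG2.simple i) a ∈ X.tw.UF (X.classes.cw (X.classes.cls i)) := by
  intro i hi
  rw [show X.classes.cw (X.classes.cls i) = X.w0 from rfl, ← X.U1_eq]
  have hinv := inv_mem (gen_U1 X 1 0 0)
  rw [gen, map_one, map_zero, one_mul, one_pow, one_mul, add_zero] at hinv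
  obtain ⟨h0, h1, hpos⟩ := simple_vals
  have hup : ∀ r t, r ∈ ([6, 7, 8, 9, 10, 11] : List ℕ) → r ≠ chevG2.simple i →
      xg c2 r t ∈ upSub chevG2 K i := fun r t hr hne =>
    X.tw.S.xg_mem_upSub (hpos r hr) hne t
  have htail : ∀ c d e g : K, chevG2.simple i ∈ ([6, 7] : List ℕ) →
      tail false c d e g ∈ upSub chevG2 K i := by
    intro c d e g hs
    simp only [tail, ReeTwist17.X, Bool.false_eq_true, ↓reduceIte]
    simp only [List.mem_cons, List.not_mem_nil, or_false] at hs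
    refine mul_mem (mul_mem (mul_mem ?_ ?_) ?_) ?_ <;>
      refine hup _ _ (by simp) ?_ <;> omega
  have hi' : i = 0 ∨ i = 1 := by rw [nroots.2] at hi; omega
  rcases hi' with rfl | rfl
  · refine ⟨(tail false 1 1 0 0)⁻¹ * xg c2 6 (-1), mul_mem (inv_mem (htail _ _ _ _ (by simp [h0])))
      (hup _ _ (by simp) (by rw [h0]; norm_num)), -1, neg_ne_zero.2 one_ne_zero, ?_⟩
    have e : (tail false (1 : K) 1 0 0)⁻¹ * xg c2 6 (-1) * xg c2 (chevG2.simple 0) (-1) =
        (Uf false 1 1 1 1 0 0 : GL chevG2.Idx K)⁻¹ := by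
      rw [h0, ← xg_inv, ← xg_inv, Uf]
      simp only [ReeTwist17.X, Bool.false_eq_true, ↓reduceIte]
      group
    rw [e]
    exact hinv
  · have hsw : Uf false (1 : K) 1 1 1 0 0 = xg c2 6 1 * xg c2 7 1 *
        tail false (1 + -1) (1 + -1) (0 + 1) (0 + 1) := by
      rw [Uf]
      have h : ReeTwist17.X false 7 (1 : K) * ReeTwist17.X false 6 (1 : K) =
          ReeTwist17.X false 6 1 * ReeTwist17.X false 7 1 * tail false (-1) (-1) 1 1 := by
        rw [swap76, mul_assoc (_ * _), tail_mul]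
        simp [tail, X_zero]
      rw [h, mul_assoc (_ * _), tail_mul]
      simp only [ReeTwist17.X, Bool.false_eq_true, ↓reduceIte]
      norm_num [add_comm]
    refine ⟨(tail false (1 + -1 : K) (1 + -1) (0 + 1) (0 + 1))⁻¹ * xg c2 7 (-1),
      mul_mem (inv_mem (htail _ _ _ _ (by simp [h1])))
      (hup _ _ (by simp) (by rw [h1]; norm_num)), -1, neg_ne_zero.2 one_ne_zero, ?_⟩
    have e : (tail false (1 + -1 : K) (1 + -1) (0 + 1) (0 + 1))⁻¹ * xg c2 7 (-1) *
        xg c2 (chevG2.simple 1) (-1) = (Uf false 1 1 1 1 0 0 : GL chevG2.Idx K)⁻¹ := by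
      rw [h1, hsw, ← xg_inv, ← xg_inv]
      group
    rw [e]
    exact hinv

theorem core_bot :
    ((chevG2.borelSubgroup K ⊓ X.G1).subgroupOf X.G1).normalCore = ⊥ :=
  X.classes.core_eq_bot (coef X)

/-- the diagonal element of `SL₂` -/
def ds (s : Kˣ) : SL(2, K) :=
  ⟨!![(s : K), 0; 0, ((s⁻¹ : Kˣ) : K)], by rw [Matrix.det_fin_two_of]; simp⟩

theorem ds_upper (s : Kˣ) (w : K) : ⁅ds s, ChevalleySL2.upper w⁆ =
    ChevalleySL2.upper (((s : K) ^ 2 - 1) * w) := by
  have h : ds s * ChevalleySL2.upper w = ChevalleySL2.upper ((s : K) ^ 2 * w) * ds s := by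
    apply Subtype.ext
    rw [Matrix.SpecialLinearGroup.coe_mul, Matrix.SpecialLinearGroup.coe_mul, upper_coe, upper_coe]
    show !![(s : K), 0; 0, ((s⁻¹ : Kˣ) : K)] * _ = _ * !![(s : K), 0; 0, ((s⁻¹ : Kˣ) : K)]
    rw [Matrix.mul_fin_two, Matrix.mul_fin_two]
    ext i j
    fin_cases i <;> fin_cases j <;> simp
    field_simp
  rw [commutatorElement_def, h, mul_inv_cancel_right, upper_inv, upper_mul]
  congr 1
  ring

theorem exists_sq_ne (h3 : 3 < Fintype.card K) : ∃ s : Kˣ, (s : K) ^ 2 ≠ 1 := by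
  classical
  by_contra h
  push Not at h
  have hsub : (Finset.univ : Finset K) ⊆ {0, 1, -1} := by
    intro x _
    by_cases hx : x = 0
    · simp [hx]
    · have := h (Units.mk0 x hx)
      rcases sq_eq_one_iff.1 this with e | e <;> simp_all
  have := (Finset.card_le_card hsub).trans Finset.card_le_three
  rw [Finset.card_univ] at this
  omega

theorem U1_le_derived (h3 : 3 < Fintype.card K) :
    chevG2.posUnipotent K ⊓ X.G1 ≤ ⁅X.G1, X.G1⁆ := by
  have hC : ∀ u, psi X.θ (ChevalleySL2.upper u) ∈ ⁅X.G1, X.G1⁆ := by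
    intro u
    obtain ⟨s, hs⟩ := exists_sq_ne h3
    have hne : (s : K) ^ 2 - 1 ≠ 0 := sub_ne_zero.2 hs
    have h := ds_upper s (u / ((s : K) ^ 2 - 1))
    rw [mul_div_cancel₀ _ hne] at h
    rw [← h, map_commutatorElement]
    exact Subgroup.commutator_mem_commutator (ReeSL2.range_le X.θ X.spec X.e_ne ⟨_, rfl⟩)
      (ReeSL2.range_le X.θ X.spec X.e_ne ⟨_, rfl⟩)
  intro w hw
  have hav := ReeTorus17.av_mem X
  have hav2 : av X * av X = 1 := by
    rw [av, ← map_mul, neg_one_mul, neg_neg, map_one]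
  have hU : ∀ z ∈ chevG2.posUnipotent K ⊓ X.G1,
      av X * z * (av X)⁻¹ ∈ chevG2.posUnipotent K ⊓ X.G1 := fun z hz =>
    Subgroup.mem_inf.2 ⟨X.tw.S.H_conj_U (av_mem_H X) hz.1, mul_mem (mul_mem hav hz.2) (inv_mem hav)⟩
  set i := ⁅av X, w⁆ with hi
  have hiU : i ∈ chevG2.posUnipotent K ⊓ X.G1 := by
    rw [hi, commutatorElement_def]
    exact mul_mem (hU w hw) (inv_mem hw)
  have hiD : i ∈ ⁅X.G1, X.G1⁆ := Subgroup.commutator_mem_commutator hav hw.2
  have hconj : av X * i * (av X)⁻¹ = i⁻¹ := by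
    rw [hi, commutatorElement_def, eq_inv_of_mul_eq_one_left hav2]
    simp only [inv_inv, mul_inv_rev]
    calc av X * (av X * w * av X * w⁻¹) * av X
        = (av X * av X) * w * av X * w⁻¹ * av X := by group
      _ = _ := by rw [hav2, one_mul, ← eq_inv_of_mul_eq_one_left hav2]; group
  have hodd : Odd (Fintype.card K ^ 3) := by
    refine Odd.pow ?_
    obtain ⟨n, -, hn⟩ := FiniteField.card K 3
    rw [hn]
    exact Odd.pow (by decide)
  obtain ⟨k, hk⟩ := hodd
  have hin : i ^ (Fintype.card K ^ 3) = 1 := by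
    rw [← X.card_U1]
    exact congrArg Subtype.val (pow_card_eq_one' (x := (⟨i, hiU⟩ : ↥(chevG2.posUnipotent K ⊓ X.G1))))
  set j := i ^ (k + 1) with hj
  have hj2 : j * j = i := by
    rw [hj, ← pow_add, show k + 1 + (k + 1) = Fintype.card K ^ 3 + 1 by omega, pow_succ, hin,
      one_mul]
  have hjc : av X * j * (av X)⁻¹ = j⁻¹ := by
    rw [hj, ← conj_pow, hconj, inv_pow]
  have hzc : av X * (j * w) * (av X)⁻¹ = j * w := by
    have e : av X * (j * w) * (av X)⁻¹ = (av X * j * (av X)⁻¹) * (⁅av X, w⁆ * w) := by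
      rw [commutatorElement_def]; group
    rw [e, hjc, ← hi, ← hj2]
    group
  obtain ⟨u, hu⟩ := fixed_U X (mul_mem (pow_mem hiU _) hw) hzc
  have : w = j⁻¹ * psi X.θ (ChevalleySL2.upper u) := by rw [← hu, ← hj]; group
  rw [this]
  exact mul_mem (inv_mem (pow_mem hiD _)) (hC u)

theorem G1_closure : X.G1 = Subgroup.closure
    {g : GL chevG2.Idx K | ∃ w ∈ g2Words K X.e, (g : Matrix chevG2.Idx chevG2.Idx K) =
      chevG2.wordMat K w} := rfl

theorem perfect (h3 : 3 < Fintype.card K) : commutator ↥X.G1 = ⊤ := by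
  refine X.classes.perfect_of _ (G1_closure X) ?_ (fun J => ?_)
  · rintro a ⟨w, hw, he⟩
    obtain rfl : a = wg c2 w := Units.ext (he.trans (coe_wg c2 w).symm)
    obtain ⟨t, u, v, hw⟩ := hw
    refine ⟨(), ?_⟩
    rcases hw with rfl | rfl
    · left
      have h := X.gen_eq false t u v
      simp only [Bool.false_eq_true, ↓reduceIte] at h
      rw [← h]
      show _ ∈ X.tw.UF X.w0
      rw [← X.U1_eq]
      exact gen_U1 X t u v
    · right
      have h := X.gen_eq true t u v
      simp only [↓reduceIte] at h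
      rw [← h]
      have hV : ∀ r ∈ ([6, 7, 8, 9, 10, 11] : List ℕ), ∀ t : K,
          ReeTwist17.X true r t ∈ X.tw.Vw X.w0 := fun r hr t =>
        Subgroup.subset_closure ⟨r, -t, X.mem_invSet_cl.2 (simple_vals.2.2 r hr), rfl⟩
      exact mul_mem (mul_mem (hV 7 (by simp) _) (hV 6 (by simp) _))
        (mul_mem (mul_mem (mul_mem (hV 8 (by simp) _) (hV 9 (by simp) _)) (hV 10 (by simp) _))
          (hV 11 (by simp) _))
  · show X.tw.UF X.w0 ≤ _
    rw [← X.U1_eq]
    exact U1_le_derived X h3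

theorem simple (h3 : 3 < Fintype.card K) :
    IsSimpleGroup ↥X.G1 ∧ ¬ IsMulCommutative ↥X.G1 := by
  refine X.classes.simple_of (S1050.result chevG2 (by simp)) (core_bot X) (perfect X h3) ?_
    (by decide)
  rintro A ⟨J, hJ⟩ ⟨L, hL⟩
  exact absurd (show L ∈ A from Subsingleton.elim (h := inferInstanceAs (Subsingleton Unit)) L J ▸ hJ) hL

end Cfsg.Agent.ReeSimple17
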