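import Mathlib

/-!
Finite multisets of non-zero field elements invariant under `x ↦ (x ^ q)⁻¹`: a common exponent
modulo elements of norm one, bounded as for elements of the projective unitary group.
-/

set_option autoImplicit false

namespace Cfsg.Agent.PGUOrbitBound61

/-! ### Arithmetic -/

/-- `q ^ a - (-1) ^ a`. -/
def E (q a : ℕ) : ℕ := if Even a then q ^ a - 1 else q ^ a + 1

/-- `(q ^ a - (-1) ^ a) / (q + 1)`. -/
def w (q a : ℕ) : ℕ := E q a / (q + 1)

theorem succ_dvd_E (q a : ℕ) : q + 1 ∣ E q a := by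
  unfold E
  split_ifs with h
  · obtain ⟨t, rfl⟩ := h
    rw [← two_mul, pow_mul]
    refine Dvd.dvd.trans ?_ (by simpa using Nat.sub_dvd_pow_sub_pow (q ^ 2) 1 t)
    exact ⟨q - 1, by simpa using Nat.sq_sub_sq q 1⟩
  · simpa using (Nat.not_even_iff_odd.1 h).nat_add_dvd_pow_add_pow q 1

theorem w_mul (q a : ℕ) : w q a * (q + 1) = E q a := Nat.div_mul_cancel (succ_dvd_E q a)

theorem E_le (q a : ℕ) : E q a ≤ q ^ a + 1 := by unfold E; split_ifs <;> omega

theorem E_pos {q a : ℕ} (hq : 2 ≤ q) (ha : 0 < a) : 0 < E q a := by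
  have := Nat.one_lt_pow ha.ne' hq
  unfold E; split_ifs <;> omega

theorem w_pos {q a : ℕ} (hq : 2 ≤ q) (ha : 0 < a) : 0 < w q a := by
  have h := E_pos hq ha
  rw [← w_mul] at h
  exact Nat.pos_of_mul_pos_right h

theorem w_one (q : ℕ) : w q 1 = 1 := by simp [w, E]

theorem w_le {q a : ℕ} (hq : 2 ≤ q) (ha : 0 < a) : w q a ≤ q ^ (a - 1) := by
  refine Nat.le_of_mul_le_mul_right (c := q + 1) ?_ (by omega)
  rw [w_mul]
  refine (E_le q a).trans ?_
  obtain ⟨b, rfl⟩ := Nat.exists_eq_add_of_le (show 1 ≤ a from ha)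
  rw [Nat.add_sub_cancel_left, add_comm 1 b, pow_succ]
  have := Nat.one_le_pow b q (by omega)
  nlinarith

theorem E_even {q a : ℕ} (h : Even a) : E q a = q ^ a - 1 := if_pos h

theorem E_odd {q a : ℕ} (h : Odd a) : E q a = q ^ a + 1 := if_neg (Nat.not_even_iff_odd.2 h)

theorem le_pow_pred {p : ℕ} (hp : 2 ≤ p) (M : ℕ) : M ≤ p ^ (M - 1) := by
  rcases Nat.eq_zero_or_pos M with rfl | hM
  · simp
  · have := (Nat.lt_two_pow_self (n := M - 1)).trans_le (Nat.pow_le_pow_left hp _)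
    omega

theorem le_pow_pred_two {p M : ℕ} (hp : 2 ≤ p) (hM : 3 ≤ M) (h : p = 2 → 4 ≤ M) :
    M ≤ p ^ (M - 2) := by
  rcases eq_or_lt_of_le hM with rfl | hM4
  · have : p ≠ 2 := fun e => by have := h e; omega
    norm_num; omega
  · obtain ⟨n, rfl⟩ := Nat.exists_eq_add_of_le hM4
    refine le_trans ?_ (Nat.pow_le_pow_left hp _)
    rw [show 3 + 1 + n - 2 = 2 + n by omega, pow_add]
    have := Nat.lt_two_pow_self (n := n)
    omega

theorem succ_mul_pow_le {q d : ℕ} (hq : 2 ≤ q) (hd : 3 ≤ d) :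
    (q + 1) * q ^ (d - 3) ≤ q ^ (d - 1) - 1 := by
  obtain ⟨n, rfl⟩ := Nat.exists_eq_add_of_le hd
  rw [Nat.add_sub_cancel_left, show 3 + n - 1 = n + 2 by omega, pow_add]
  have h1 := Nat.one_le_pow n q (by omega)
  have h2 : q + 2 ≤ q ^ 2 := by nlinarith
  have h3 : q ^ n * (q + 2) ≤ q ^ n * q ^ 2 := Nat.mul_le_mul_left _ h2
  have : (q + 1) * q ^ n + 1 ≤ q ^ n * q ^ 2 := by nlinarith
  omega

/-- Exponents of size `(q + 1) q ^ (d - 3)`. -/
theorem small_bound {q d N i : ℕ} (hq : 2 ≤ q) (hd : 3 ≤ d) (h : N ≤ (q + 1) * q ^ i) (hi : i ≤ d - 3) :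
    N ≤ q ^ (d - 1) - 1 :=
  (h.trans (Nat.mul_le_mul_left _ (Nat.pow_le_pow_right (by omega) hi))).trans (succ_mul_pow_le hq hd)

theorem pow_lt_bound {q d N i : ℕ} (hq : 2 ≤ q) (hd : 3 ≤ d) (h : N ≤ q ^ i) (hi : i ≤ d - 2) :
    N ≤ q ^ (d - 1) - 1 := by
  have : q ^ i < q ^ (d - 1) := Nat.pow_lt_pow_right (by omega) (by omega)
  omega

/-- Two orbits of length at least two. -/
theorem two_large {q a b T : ℕ} (hq : 2 ≤ q) (ha : 2 ≤ a) (hb : 2 ≤ b)
    (hA : q ^ (a + b - 1) - 1 ≤ T) (h12 : a + b = 4 → q = 2 → 8 ≤ T) :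
    (q + 1) * (w q a * w q b) ≤ T := by
  have hN : (q + 1) * (w q a * w q b) * (q + 1) ≤ (q ^ a + 1) * (q ^ b + 1) :=
    calc (q + 1) * (w q a * w q b) * (q + 1) = (w q a * (q + 1)) * (w q b * (q + 1)) := by ring
      _ ≤ _ := by rw [w_mul, w_mul]; exact Nat.mul_le_mul (E_le q a) (E_le q b)
  by_cases h4 : a + b = 4 ∧ q = 2
  · obtain ⟨h4, rfl⟩ := h4
    have := h12 h4 rfl
    obtain ⟨rfl, rfl⟩ : a = 2 ∧ b = 2 := by omega
    norm_num at hN
    omega
  refine le_trans ?_ hA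
  refine Nat.le_of_mul_le_mul_right (hN.trans ?_) (by omega : 0 < q + 1)
  wlog hab : a ≤ b generalizing a b
  · have h := this hb ha (by rwa [add_comm]) (fun e => h12 (by omega))
      (by rw [mul_comm (w q b), mul_comm (q ^ b + 1)]; exact hN) (fun e => h4 ⟨by omega, e.2⟩) (by omega)
    rw [mul_comm (q ^ a + 1), add_comm a b]
    exact h
  obtain ⟨i, rfl⟩ := Nat.exists_eq_add_of_le ha
  obtain ⟨j, rfl⟩ := Nat.exists_eq_add_of_le hab
  rw [show 2 + i + (2 + i + j) - 1 = (2 + i + j) + (1 + i) by omega]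
  have hX : 1 ≤ q ^ i := Nat.one_le_pow _ _ (by omega)
  have hY : 1 ≤ q ^ j := Nat.one_le_pow _ _ (by omega)
  have key : q ^ (2 + i) + q ^ (2 + i + j) + q + 2 ≤ q ^ (2 + i + j + (1 + i)) := by
    rw [pow_add q 2 i, pow_add q (2 + i + j) (1 + i), pow_add q (2 + i) j, pow_add q 2 i, pow_add q 1 i, pow_one]
    rcases eq_or_lt_of_le hq with rfl | hq3
    · rcases Nat.eq_zero_or_pos i with rfl | hi
      · have : 2 ≤ 2 ^ j := Nat.le_self_pow (fun e => h4 ⟨by omega, rfl⟩) 2
        norm_num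
        omega
      · have h2 : 2 ≤ 2 ^ i := Nat.le_self_pow (by omega) 2
        have hX2 : 2 * 2 ^ i ≤ 2 ^ i * 2 ^ i := Nat.mul_le_mul_right _ h2
        have := Nat.mul_le_mul_left (8 * 2 ^ i) (Nat.mul_le_mul h2 hY)
        nlinarith [Nat.mul_le_mul_right (2 ^ j) hX2]
    · have h9 : 9 ≤ q ^ 2 := by nlinarith
      have hq3' : 3 ≤ q := hq3
      set X := q ^ i
      set Y := q ^ j
      have h1 : q ^ 2 * X * 1 ≤ q ^ 2 * X * Y * X := by
        rw [mul_assoc _ Y X]
        exact Nat.mul_le_mul_left _ (Nat.mul_le_mul hY hX : 1 * 1 ≤ Y * X)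
      have h2 : q ^ 2 * X * Y ≤ q ^ 2 * X * Y * X := Nat.le_mul_of_pos_right _ hX
      have h3 : 1 ≤ X * Y * X := Nat.mul_le_mul (Nat.mul_le_mul hX hY) hX
      have h4 : q + 2 ≤ q ^ 2 * X * Y * X := by
        have : q ^ 2 * 1 ≤ q ^ 2 * (X * Y * X) := Nat.mul_le_mul_left _ h3
        rw [mul_one] at this
        nlinarith
      calc q ^ 2 * X + q ^ 2 * X * Y + q + 2 ≤ 3 * (q ^ 2 * X * Y * X) := by rw [mul_one] at h1; omega
        _ ≤ q * (q ^ 2 * X * Y * X) := Nat.mul_le_mul_right _ hq3'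
        _ = _ := by ring
  have e : q ^ (2 + i) * q ^ (2 + i + j) = q ^ (2 + i + j + (1 + i)) * q := by
    rw [← pow_add, ← pow_succ]; congr 1; omega
  generalize q ^ (2 + i + j + (1 + i)) = Z at key e ⊢
  generalize q ^ (2 + i) = U at key e ⊢
  generalize q ^ (2 + i + j) = V at key e ⊢
  obtain ⟨Z', rfl⟩ : ∃ Z', Z = Z' + 1 := ⟨Z - 1, by omega⟩
  rw [Nat.add_sub_cancel]
  nlinarith

/-! ### Orbits -/

variable {K : Type*} [Field K]

/-- `x ↦ (x ^ q)⁻¹`. -/
def phi (q : ℕ) (x : K) : K := (x ^ q)⁻¹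

theorem phi_iterate (q : ℕ) (x : K) (i : ℕ) :
    (phi q)^[i] x = if Even i then x ^ q ^ i else (x ^ q ^ i)⁻¹ := by
  induction i with
  | zero => simp
  | succ i ih =>
    rw [Function.iterate_succ_apply', ih, phi]
    by_cases h : Even i
    · rw [if_pos h, if_neg (by simp [Nat.even_add_one, h]), ← pow_mul, ← pow_succ]
    · rw [if_neg h, if_pos (by simp [Nat.even_add_one, h]), inv_pow, inv_inv, ← pow_mul, ← pow_succ]

/-- Closed under `phi`, without zero. -/
def Cl (q : ℕ) (S : Finset K) : Prop := (∀ x ∈ S, phi q x ∈ S) ∧ (0 : K) ∉ S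

theorem orbit [DecidableEq K] {q : ℕ} (hq : 1 ≤ q) (hinj : Function.Injective (phi q : K → K))
    {S : Finset K} (hS : Cl q S) {r : K} (hr : r ∈ S) :
    ∃ (a : ℕ) (T : Finset K), 0 < a ∧ T ⊆ S ∧ T.card = a ∧ Cl q (S \ T) ∧ (r ^ w q a) ^ (q + 1) = 1 ∧
      ∀ x ∈ T, x ^ w q a = r ^ w q a ∧ ∃ i, (phi q)^[i] r = x := by
  obtain ⟨hSf, hS0⟩ := hS
  have hmem : ∀ i, (phi q)^[i] r ∈ S := by
    intro i
    induction i with
    | zero => simpa using hr
    | succ i ih => rw [Function.iterate_succ_apply']; exact hSf _ ih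
  have hper : 0 < Function.minimalPeriod (phi q) r := by
    obtain ⟨i, -, j, -, hne, he⟩ := Finset.exists_ne_map_eq_of_card_lt_of_maps_to
      (s := Finset.range (S.card + 1)) (t := S) (by simp) (fun i _ => hmem i)
    wlog hij : i < j generalizing i j
    · exact this j i (Ne.symm hne) he.symm (by omega)
    obtain ⟨e, rfl⟩ := Nat.exists_eq_add_of_le hij.le
    refine Function.IsPeriodicPt.minimalPeriod_pos (n := e) (by omega) ?_
    exact (hinj.iterate i (by rw [← Function.iterate_add_apply]; exact he)).symm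
  set a := Function.minimalPeriod (phi q) r with ha
  let T := (Finset.range a).image fun i => (phi q)^[i] r
  have hTS : T ⊆ S := Finset.image_subset_iff.2 fun i _ => hmem i
  have hTc : T.card = a := by
    rw [Finset.card_image_of_injOn, Finset.card_range]
    intro i hi j hj h
    exact Function.iterate_injOn_Iio_minimalPeriod (by simpa using hi) (by simpa using hj) h
  have hTm : ∀ i, (phi q)^[i] r ∈ T := fun i =>
    Finset.mem_image.2 ⟨i % a, Finset.mem_range.2 (Nat.mod_lt _ hper), Function.iterate_mod_minimalPeriod_eq⟩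
  have hTf : T.image (phi q) = T := by
    refine Finset.eq_of_subset_of_card_le (fun x hx => ?_) (by rw [Finset.card_image_of_injective _ hinj])
    obtain ⟨y, hy, rfl⟩ := Finset.mem_image.1 hx
    obtain ⟨i, -, rfl⟩ := Finset.mem_image.1 hy
    rw [← Function.iterate_succ_apply' (phi q)]
    exact hTm _
  have hr0 : r ≠ 0 := fun e => hS0 (e ▸ hr)
  have hrE : r ^ E q a = 1 := by
    have hfix : (phi q)^[a] r = r := Function.iterate_minimalPeriod
    rw [phi_iterate] at hfix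
    unfold E
    split_ifs with h
    · rw [if_pos h] at hfix
      rw [pow_sub₀ _ hr0 (Nat.one_le_pow _ _ (by omega)), hfix, pow_one, mul_inv_cancel₀ hr0]
    · rw [if_neg h] at hfix
      rw [pow_succ]
      conv_lhs => arg 2; rw [← hfix]
      exact mul_inv_cancel₀ (pow_ne_zero _ hr0)
  have hc : (r ^ w q a) ^ (q + 1) = 1 := by rw [← pow_mul, w_mul, hrE]
  refine ⟨a, T, hper, hTS, hTc, ⟨fun x hx => ?_, fun h => hS0 (Finset.mem_sdiff.1 h).1⟩, hc, fun x hx => ?_⟩
  · obtain ⟨h1, h2⟩ := Finset.mem_sdiff.1 hx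
    refine Finset.mem_sdiff.2 ⟨hSf x h1, fun h => h2 ?_⟩
    rw [← hTf] at h
    obtain ⟨y, hy, hyx⟩ := Finset.mem_image.1 h
    exact hinj hyx ▸ hy
  · obtain ⟨i, -, rfl⟩ := Finset.mem_image.1 hx
    refine ⟨?_, i, rfl⟩
    induction i with
    | zero => rfl
    | succ i ih =>
      rw [Function.iterate_succ_apply', phi, inv_pow, ← pow_mul, mul_comm q, pow_mul, ih (hTm i)]
      rw [pow_succ] at hc
      exact inv_eq_of_mul_eq_one_right hc

theorem exponent_any [DecidableEq K] {q : ℕ} (hq : 2 ≤ q) (hinj : Function.Injective (phi q : K → K)) :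
    ∀ S : Finset K, Cl q S → ∃ L, 0 < L ∧ L ≤ q ^ (S.card - 1) ∧ ∀ x ∈ S, x ^ ((q + 1) * L) = 1 := by
  intro S
  induction S using Finset.strongInduction with
  | _ S ih =>
    intro hS
    rcases S.eq_empty_or_nonempty with rfl | ⟨r, hr⟩
    · exact ⟨1, one_pos, by simp, by simp⟩
    obtain ⟨a, T, ha, hTS, hTc, hcl, hc, hx⟩ := orbit (by omega) hinj hS hr
    obtain ⟨L, hL, hLb, hLx⟩ := ih (S \ T) (Finset.sdiff_ssubset hTS (Finset.card_pos.1 (by omega))) hcl
    refine ⟨w q a * L, Nat.mul_pos (w_pos hq ha) hL, ?_, fun x hxS => ?_⟩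
    · refine (Nat.mul_le_mul (w_le hq ha) hLb).trans ?_
      rw [← pow_add]
      refine Nat.pow_le_pow_right (by omega) ?_
      have h1 := Finset.card_sdiff_of_subset hTS
      have h2 := Finset.card_le_card hTS
      omega
    · by_cases hxT : x ∈ T
      · rw [show (q + 1) * (w q a * L) = w q a * (q + 1) * L by ring, pow_mul, pow_mul, (hx x hxT).1, hc, one_pow]
      · rw [show (q + 1) * (w q a * L) = (q + 1) * L * w q a by ring, pow_mul,
          hLx x (Finset.mem_sdiff.2 ⟨hxS, hxT⟩), one_pow]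

/-- One orbit. -/
theorem one_orbit {p q d a M e T : ℕ} (hp : 2 ≤ p) (hpq : p ≤ q) (hd : 3 ≤ d)
    (h32 : ¬ (d = 3 ∧ q = 2)) (hqp : p = 2 → q = 2 ∨ 4 ≤ q) (ha : 0 < a) (hdM : a * M = d)
    (he : ∀ j, M ≤ p ^ j → e ≤ j) (hT : q ^ (d - 1) - 1 ≤ T) : w q a * p ^ e ≤ T := by
  have hq : 2 ≤ q := hp.trans hpq
  refine le_trans ?_ hT
  have hM : 0 < M := Nat.pos_of_mul_pos_left (show 0 < a * M by omega)
  rcases eq_or_lt_of_le (show 1 ≤ a from ha) with rfl | ha2
  · rw [one_mul] at hdM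
    subst hdM
    rw [w_one, one_mul]
    by_cases h : p = 2 ∧ M = 3
    · obtain ⟨rfl, rfl⟩ := h
      have h4 : 4 ≤ q := (hqp rfl).resolve_left fun e => h32 ⟨rfl, e⟩
      have h16 : 4 * 4 ≤ q * q := Nat.mul_le_mul h4 h4
      have := Nat.pow_le_pow_right (show 0 < 2 by norm_num) (he 2 (by norm_num))
      norm_num at this ⊢
      rw [pow_two]
      omega
    · refine pow_lt_bound hq hd ?_ le_rfl
      refine le_trans (Nat.pow_le_pow_right (by omega) (he (M - 2) ?_)) (Nat.pow_le_pow_left hpq _)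
      exact le_pow_pred_two hp hd (fun h2 => by
        rcases eq_or_lt_of_le hd with h3 | h3
        · exact absurd ⟨h2, h3.symm⟩ h
        · exact h3)
  · rcases eq_or_lt_of_le (show 1 ≤ M from hM) with rfl | hM2
    · rw [mul_one] at hdM
      subst hdM
      have he0 : e = 0 := Nat.le_zero.1 (he 0 (by simp))
      rw [he0, pow_zero, mul_one]
      have h1 : w q a * (q + 1) ≤ q ^ a + 1 := (w_mul q a).trans_le (E_le q a)
      obtain ⟨b, rfl⟩ := Nat.exists_eq_add_of_le (show 1 ≤ a from ha)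
      rw [Nat.add_sub_cancel_left]
      rw [pow_add, pow_one] at h1
      have hb : 2 ≤ q ^ b := hq.trans (Nat.le_self_pow (by omega) q)
      by_contra hlt
      push Not at hlt
      have : q ^ b * (q + 1) ≤ w q (1 + b) * (q + 1) := Nat.mul_le_mul_right _ (by omega)
      nlinarith
    · refine pow_lt_bound hq hd (i := a - 1 + (M - 1)) ?_ ?_
      · rw [pow_add]
        exact Nat.mul_le_mul (w_le hq ha) (le_trans (Nat.pow_le_pow_right (by omega) (he _ (le_pow_pred hp M)))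
          (Nat.pow_le_pow_left hpq _))
      · obtain ⟨i, rfl⟩ : ∃ i, a = 2 + i := ⟨a - 2, by omega⟩
        obtain ⟨j, rfl⟩ : ∃ j, M = 2 + j := ⟨M - 2, by omega⟩
        rw [show (2 + i) * (2 + j) = 4 + 2 * i + 2 * j + i * j by ring] at hdM
        omega

/-- Two orbits. -/
theorem two_orbits {p q d a b M m e T : ℕ} (hp : p.Prime) (hqf : ∃ f, 0 < f ∧ q = p ^ f) (hd : 3 ≤ d)
    (ha : 0 < a) (hb : 0 < b) (hm : 0 < m) (hmM : m ≤ M) (hdM : a * M + b * m = d)
    (he : ∀ j, M ≤ p ^ j → e ≤ j) (hT : q ^ (d - 1) - 1 ≤ T) (hTe : Even d → q ^ (d - 1) + 1 ≤ T)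
    (hTo : Odd d → q = p → p * (p ^ (d - 2) + 1) ≤ T) (hT2 : Even d → q = 2 → 4 * (2 ^ (d - 3) + 1) ≤ T) :
    (q + 1) * (w q a * w q b) * p ^ e ≤ T := by
  obtain ⟨f, hf, rfl⟩ := hqf
  set q := p ^ f with hqdef
  have hp2 := hp.two_le
  have hpq : p ≤ q := Nat.le_self_pow (by omega) p
  have hq : 2 ≤ q := hp2.trans hpq
  have haM : a + (M - 1) ≤ a * M := by
    obtain ⟨i, rfl⟩ := Nat.exists_eq_add_of_le (show 1 ≤ a from ha)
    obtain ⟨j, rfl⟩ := Nat.exists_eq_add_of_le (show 1 ≤ M from hm.trans_le hmM)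
    rw [show (1 + i) * (1 + j) = 1 + i + j + i * j by ring]
    omega
  have hbm : b ≤ b * m := Nat.le_mul_of_pos_right _ hm
  -- general estimate
  have gen : ∀ j, M ≤ p ^ j → ∀ k, p ^ j ≤ q ^ k → a - 1 + (b - 1) + k ≤ d - 3 →
      (q + 1) * (w q a * w q b) * p ^ e ≤ T := by
    intro j hj k hk hle
    refine le_trans (small_bound hq hd ?_ hle) hT
    calc (q + 1) * (w q a * w q b) * p ^ e ≤ (q + 1) * (q ^ (a - 1) * q ^ (b - 1)) * q ^ k :=
          Nat.mul_le_mul (Nat.mul_le_mul_left _ (Nat.mul_le_mul (w_le hq ha) (w_le hq hb)))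
            ((Nat.pow_le_pow_right (by omega) (he j hj)).trans hk)
      _ = _ := by ring
  rcases eq_or_lt_of_le (show 1 ≤ M from hm.trans_le hmM) with hM1 | hM2
  · subst hM1
    obtain rfl : m = 1 := by omega
    simp only [mul_one] at hdM
    subst hdM
    rw [Nat.le_zero.1 (he 0 (by simp)), pow_zero, mul_one]
    have hone : ∀ b, 2 ≤ b → (q ^ b - 1 ≤ T) → (Odd b → q ^ b + 1 ≤ T) → (q + 1) * (1 * w q b) ≤ T := by
      intro b _ h1 h2
      rw [one_mul, mul_comm, w_mul, E]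
      split_ifs with h
      · exact h1
      · exact h2 (Nat.not_even_iff_odd.1 h)
    rcases eq_or_lt_of_le (show 1 ≤ a from ha) with rfl | ha2
    · rw [Nat.add_sub_cancel_left] at hT hTe
      rw [w_one]
      exact hone b (by omega) hT fun h => hTe (by rw [add_comm]; exact h.add_one)
    · rcases eq_or_lt_of_le (show 1 ≤ b from hb) with rfl | hb2
      · rw [Nat.add_sub_cancel] at hT hTe
        rw [w_one, mul_comm (w q a) 1]
        exact hone a (by omega) hT fun h => hTe h.add_one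
      · refine two_large hq ha2 hb2 hT fun h4 h2 => ?_
        have := hT2 (h4 ▸ (by decide : Even 4)) h2
        rw [h4] at this
        norm_num at this
        omega
  by_cases hslack : a + b + (M - 1) < d
  · exact gen (M - 1) (le_pow_pred hp2 M) (M - 1) (Nat.pow_le_pow_left hpq _) (by omega)
  have hd' : a + b + (M - 1) = d := by omega
  obtain rfl : a = 1 := by
    by_contra h1
    obtain ⟨i, rfl⟩ := Nat.exists_eq_add_of_le (show 2 ≤ a by omega)
    obtain ⟨j, rfl⟩ : ∃ j, M = 2 + j := ⟨M - 2, by omega⟩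
    rw [show (2 + i) * (2 + j) = 4 + 2 * i + 2 * j + i * j by ring] at hdM
    omega
  obtain rfl : m = 1 := by
    by_contra h1
    have : b * 2 ≤ b * m := Nat.mul_le_mul_left _ (by omega)
    omega
  simp only [one_mul, mul_one] at hdM
  rw [w_one, one_mul, mul_comm (q + 1), w_mul]
  have alt : ∀ j, M ≤ p ^ j → ∀ k, p ^ j ≤ q ^ k → k + 2 ≤ M → E q b * p ^ e ≤ T := by
    intro j hj k hk hle
    have := gen j hj k hk (by omega)
    rwa [w_one, one_mul, mul_comm (q + 1), w_mul] at this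
  by_cases h3 : 3 ≤ M ∧ (p = 2 → 4 ≤ M)
  · exact alt (M - 2) (le_pow_pred_two hp2 h3.1 h3.2) (M - 2) (Nat.pow_le_pow_left hpq _) (by omega)
  rcases eq_or_lt_of_le (show 1 ≤ f from hf) with hf1 | hf2
  · have hqp : q = p := by rw [hqdef, ← hf1, pow_one]
    by_cases hM3 : M = 2
    · subst hM3
      have hpe : p ^ e ≤ p := (Nat.pow_le_pow_right (by omega) (he 1 (by simpa using hp2))).trans (pow_one p).le
      obtain rfl : b = d - 2 := by omega
      refine (Nat.mul_le_mul_left _ hpe).trans ?_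
      rcases Nat.even_or_odd (d - 2) with h | h
      · refine le_trans ?_ hT
        rw [E_even h, hqp, Nat.sub_mul, one_mul, ← pow_succ, show d - 2 + 1 = d - 1 by omega]
        omega
      · rw [E_odd h, hqp, mul_comm]
        refine hTo ?_ hqp
        rw [show d = d - 2 + 2 by omega]
        exact h.add_even even_two
    · obtain ⟨rfl, rfl⟩ : p = 2 ∧ M = 3 := by
        by_contra hcon
        exact h3 ⟨by omega, fun e2 => by omega⟩
      have hpe : 2 ^ e ≤ 4 := (Nat.pow_le_pow_right (by omega) (he 2 (by norm_num))).trans (by norm_num)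
      obtain rfl : b = d - 3 := by omega
      refine (Nat.mul_le_mul_left _ hpe).trans ?_
      rcases Nat.even_or_odd (d - 3) with h | h
      · refine le_trans ?_ hT
        rw [E_even h, hqp, show d - 1 = d - 3 + 2 by omega, pow_add]
        have := Nat.one_le_pow (d - 3) 2 (by norm_num)
        omega
      · rw [E_odd h, hqp, mul_comm]
        refine hT2 ?_ hqp
        rw [show d = d - 3 + 3 by omega]
        exact h.add_odd (by decide)
  · have hp4 : p * p ≤ q := by rw [hqdef, ← pow_two]; exact Nat.pow_le_pow_right (by omega) hf2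
    have hM23 : M = 2 ∨ (p = 2 ∧ M = 3) := by omega
    rcases hM23 with rfl | ⟨rfl, rfl⟩
    · have hpe : p ^ e ≤ p := (Nat.pow_le_pow_right (by omega) (he 1 (by simpa using hp2))).trans (pow_one p).le
      obtain rfl : b = d - 2 := by omega
      refine le_trans ((Nat.mul_le_mul (E_le q _) hpe).trans ?_) hT
      rw [show d - 1 = d - 2 + 1 by omega, pow_succ]
      have hY : q ≤ q ^ (d - 2) := Nat.le_self_pow (by omega) q
      have : (q ^ (d - 2) + 1) * p + 1 ≤ q ^ (d - 2) * q := by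
        have : q ^ (d - 2) * (p * p) ≤ q ^ (d - 2) * q := Nat.mul_le_mul_left _ hp4
        nlinarith
      omega
    · exact alt 2 (by norm_num) 1 (by rw [pow_one]; exact le_of_eq_of_le (by norm_num) hp4) (by norm_num)

/-- The exponent bound. -/
theorem exponent [DecidableEq K] {p q d T : ℕ} (hp : p.Prime) (hqf : ∃ f, 0 < f ∧ q = p ^ f) (hd : 3 ≤ d)
    (h32 : ¬ (d = 3 ∧ q = 2)) (hinj : Function.Injective (phi q : K → K)) (R : Multiset K)
    (hR : R.card = d) (h0 : (0 : K) ∉ R) (hcnt : ∀ x, R.count (phi q x) = R.count x)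
    (hT : q ^ (d - 1) - 1 ≤ T) (hTe : Even d → q ^ (d - 1) + 1 ≤ T)
    (hTo : Odd d → q = p → p * (p ^ (d - 2) + 1) ≤ T) (hT2 : Even d → q = 2 → 4 * (2 ^ (d - 3) + 1) ≤ T) :
    ∃ (L e : ℕ) (c : K), 0 < L ∧ c ^ (q + 1) = 1 ∧ (∀ x ∈ R, x ^ L = c) ∧ (∀ x, R.count x ≤ p ^ e) ∧
      L * p ^ e ≤ T := by
  obtain ⟨f, hf, hq'⟩ := id hqf
  have hp2 := hp.two_le
  have hpq : p ≤ q := hq' ▸ Nat.le_self_pow (by omega) p
  have hq : 2 ≤ q := hp2.trans hpq
  set S := R.toFinset with hSdef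
  have hcl : Cl q S := ⟨fun x hx => by
    rw [hSdef, Multiset.mem_toFinset, ← Multiset.count_pos] at hx ⊢
    rwa [hcnt], by simpa [hSdef] using h0⟩
  have hne : S.Nonempty := by
    rw [hSdef, Multiset.toFinset_nonempty, Ne, ← Multiset.card_eq_zero]
    omega
  have hsum : ∑ x ∈ S, R.count x = d := hR ▸ Multiset.toFinset_sum_count_eq R
  obtain ⟨r, hr, hmax⟩ := S.exists_max_image (fun x => R.count x) hne
  set M := R.count r with hMdef
  have hpos : ∀ x ∈ S, 0 < R.count x := fun x hx => Multiset.count_pos.2 (Multiset.mem_toFinset.1 hx)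
  have hle : ∀ x, R.count x ≤ M := fun x => by
    by_cases hx : x ∈ S
    · exact hmax x hx
    · rw [Multiset.count_eq_zero.2 fun h => hx (Multiset.mem_toFinset.2 h)]; exact Nat.zero_le _
  have hcardM : S.card + (M - 1) ≤ d := by
    rw [← hsum, ← Finset.add_sum_erase _ _ hr, ← hMdef]
    have : (S.erase r).card * 1 ≤ ∑ x ∈ S.erase r, R.count x :=
      (Finset.card_nsmul_le_sum _ _ 1 fun x hx => hpos x (Finset.mem_of_mem_erase hx))
    have h1 := Finset.card_erase_of_mem hr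
    have h2 := hpos r hr
    have h3 : 0 < S.card := hne.card_pos
    omega
  have hex : ∃ j, M ≤ p ^ j := ⟨M - 1, le_pow_pred hp2 M⟩
  set e := Nat.find hex
  have he : M ≤ p ^ e := Nat.find_spec hex
  have hemin : ∀ j, M ≤ p ^ j → e ≤ j := fun j hj => Nat.find_min' hex hj
  have hiter : ∀ (x : K) (i : ℕ), R.count ((phi q)^[i] x) = R.count x := fun x i => by
    induction i with
    | zero => rfl
    | succ i ih => rw [Function.iterate_succ_apply', hcnt, ih]
  obtain ⟨a, T₁, ha, hT1S, hT1c, hcl1, hc1, hx1⟩ := orbit (by omega) hinj hcl hr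
  have hT1n : ∀ x ∈ T₁, R.count x = M := fun x hx => by
    obtain ⟨i, hi⟩ := (hx1 x hx).2
    rw [← hi, hiter]
  have hs1 : ∑ x ∈ T₁, R.count x = a * M := by
    rw [Finset.sum_congr rfl hT1n, Finset.sum_const, smul_eq_mul, hT1c]
  have hsplit := Finset.sum_sdiff (f := fun x => R.count x) hT1S
  rw [hsum, hs1] at hsplit
  rcases (S \ T₁).eq_empty_or_nonempty with h1 | ⟨r2, hr2⟩
  · rw [h1, Finset.sum_empty, zero_add] at hsplit
    refine ⟨w q a, e, r ^ w q a, w_pos hq ha, hc1, fun x hx => ?_, fun x => (hle x).trans he,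
      one_orbit hp2 hpq hd h32 (fun e2 => ?_) ha hsplit hemin hT⟩
    · refine (hx1 x ?_).1
      by_contra hxT
      have : x ∈ S \ T₁ := Finset.mem_sdiff.2 ⟨Multiset.mem_toFinset.2 hx, hxT⟩
      simp [h1] at this
    · subst e2
      rcases eq_or_lt_of_le (show 1 ≤ f from hf) with rfl | h
      · exact Or.inl (by rw [hq', pow_one])
      · refine Or.inr ?_
        have := Nat.pow_le_pow_right (show 0 < 2 by norm_num) (show 2 ≤ f by omega)
        omega
  obtain ⟨b, T₂, hb, hT2S, hT2c, hcl2, hc2, hx2⟩ := orbit (by omega) hinj hcl1 hr2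
  set m := R.count r2
  have hT2n : ∀ x ∈ T₂, R.count x = m := fun x hx => by
    obtain ⟨i, hi⟩ := (hx2 x hx).2
    rw [← hi, hiter]
  have hs2 : ∑ x ∈ T₂, R.count x = b * m := by
    rw [Finset.sum_congr rfl hT2n, Finset.sum_const, smul_eq_mul, hT2c]
  have hsplit2 := Finset.sum_sdiff (f := fun x => R.count x) hT2S
  rw [hs2] at hsplit2
  have hcase : ∀ x ∈ R, x ∈ T₁ ∨ x ∈ T₂ ∨ x ∈ (S \ T₁) \ T₂ := fun x hx => by
    simp only [Finset.mem_sdiff, hSdef, Multiset.mem_toFinset]; tauto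
  rcases ((S \ T₁) \ T₂).eq_empty_or_nonempty with h2 | hne3
  · rw [h2, Finset.sum_empty, zero_add] at hsplit2
    rw [← hsplit2] at hsplit
    have hdM : a * M + b * m = d := by omega
    refine ⟨(q + 1) * (w q a * w q b), e, 1, ?_, one_pow _, fun x hx => ?_, fun x => (hle x).trans he,
      two_orbits hp hqf hd ha hb (hpos r2 (Finset.mem_sdiff.1 hr2).1) (hle r2) hdM hemin hT hTe hTo hT2⟩
    · exact Nat.mul_pos (by omega) (Nat.mul_pos (w_pos hq ha) (w_pos hq hb))
    · rcases hcase x hx with h | h | h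
      · rw [show (q + 1) * (w q a * w q b) = w q a * (q + 1) * w q b by ring, pow_mul, pow_mul, (hx1 x h).1, hc1, one_pow]
      · rw [show (q + 1) * (w q a * w q b) = w q b * (q + 1) * w q a by ring, pow_mul, pow_mul, (hx2 x h).1, hc2, one_pow]
      · simp [h2] at h
  · obtain ⟨L, hL, hLb, hLx⟩ := exponent_any hq hinj _ hcl2
    refine ⟨(q + 1) * (w q a * w q b * L), e, 1, ?_, one_pow _, fun x hx => ?_, fun x => (hle x).trans he, ?_⟩
    · exact Nat.mul_pos (by omega) (Nat.mul_pos (Nat.mul_pos (w_pos hq ha) (w_pos hq hb)) hL)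
    · rcases hcase x hx with h | h | h
      · rw [show (q + 1) * (w q a * w q b * L) = w q a * (q + 1) * (w q b * L) by ring, pow_mul x (w q a * (q + 1)), pow_mul x (w q a), (hx1 x h).1, hc1, one_pow]
      · rw [show (q + 1) * (w q a * w q b * L) = w q b * (q + 1) * (w q a * L) by ring, pow_mul x (w q b * (q + 1)), pow_mul x (w q b), (hx2 x h).1, hc2, one_pow]
      · rw [show (q + 1) * (w q a * w q b * L) = (q + 1) * L * (w q a * w q b) by ring, pow_mul, hLx x h, one_pow]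
    · set C := ((S \ T₁) \ T₂).card
      have hC : 0 < C := hne3.card_pos
      have hcardS : S.card = a + b + C := by
        have e1 := Finset.card_sdiff_of_subset hT1S
        have e2 := Finset.card_sdiff_of_subset hT2S
        have e3 := Finset.card_le_card hT1S
        have e4 := Finset.card_le_card hT2S
        omega
      refine le_trans (small_bound hq hd ?_ (i := a - 1 + (b - 1) + (C - 1) + (M - 1)) (by omega)) hT
      calc (q + 1) * (w q a * w q b * L) * p ^ e
          ≤ (q + 1) * (q ^ (a - 1) * q ^ (b - 1) * q ^ (C - 1)) * q ^ (M - 1) :=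
            Nat.mul_le_mul (Nat.mul_le_mul_left _ (Nat.mul_le_mul (Nat.mul_le_mul (w_le hq ha) (w_le hq hb)) hLb))
              ((Nat.pow_le_pow_right (by omega) (hemin _ (le_pow_pred hp2 M))).trans (Nat.pow_le_pow_left hpq _))
        _ = _ := by ring

end Cfsg.Agent.PGUOrbitBound61
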