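import Cfsg.Agent.Lib.HermitianFactor
import Cfsg.Agent.Lib.SpEightBound
import Cfsg.Agent.Lib.PGUOrbitBound61

/-!
Elements of `GU` modulo the centre: a bound on their orders, and elements realising prescribed
orders, built from blocks with invariant hermitian forms.
-/

set_option autoImplicit false

namespace Cfsg.Agent.PGUMatrix61

open Matrix Cfsg.Agent.HermitianFactor

variable {F : Type*} [Field F] [Fintype F] {σ : F →+* F} {q d : ℕ}

/-! ### The centre -/

def toGU (hq : ∀ x, σ x = x ^ q) (hσ : ∀ x, σ (σ x) = x) (M : Matrix (Fin d) (Fin d) F) (h : ct σ M * M = 1) :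
    ↥(Cfsg.GU d F q) :=
  ⟨⟨M, ct σ M, mul_eq_one_comm.1 h, h⟩, (mem_GU_iff hq hσ _).2 h⟩

@[simp] theorem toGU_val (hq : ∀ x, σ x = x ^ q) (hσ : ∀ x, σ (σ x) = x) (M : Matrix (Fin d) (Fin d) F)
    (h : ct σ M * M = 1) : (((toGU hq hσ M h : ↥(Cfsg.GU d F q)) : GL (Fin d) F) : Matrix (Fin d) (Fin d) F) = M := rfl

theorem exists_norm_one (hF : Fintype.card F = q ^ 2) (hq : ∀ x, σ x = x ^ q) (hq2 : 2 ≤ q) :
    ∃ z : F, z ≠ 1 ∧ σ z * z = 1 := by
  obtain ⟨x, hx⟩ := IsCyclic.exists_ofOrder_eq_natCard (α := Fˣ)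
  rw [Nat.card_units, Nat.card_eq_fintype_card, hF] at hx
  obtain ⟨r, rfl⟩ := Nat.exists_eq_add_of_le hq2
  have e : (2 + r) ^ 2 - 1 = (r + 1) * (2 + r + 1) := by
    have : (2 + r) ^ 2 = (r + 1) * (2 + r + 1) + 1 := by ring
    omega
  refine ⟨((x ^ (r + 1) : Fˣ) : F), fun h => ?_, ?_⟩
  · have h1 : x ^ (r + 1) = 1 := Units.ext h
    have := Nat.le_of_dvd (by omega) (orderOf_dvd_of_pow_eq_one h1)
    rw [hx, e] at this
    nlinarith
  · rw [hq, ← pow_succ, ← Units.val_pow_eq_pow_val, ← pow_mul, ← e, ← hx, pow_orderOf_eq_one, Units.val_one]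

theorem mem_center_iff (hF : Fintype.card F = q ^ 2) (hq : ∀ x, σ x = x ^ q) (hσ : ∀ x, σ (σ x) = x)
    (hq2 : 2 ≤ q) (g : ↥(Cfsg.GU d F q)) :
    g ∈ Subgroup.center ↥(Cfsg.GU d F q) ↔
      ∃ a : F, (((g : GL (Fin d) F)) : Matrix (Fin d) (Fin d) F) = Matrix.scalar (Fin d) a := by
  constructor
  · intro hg
    set A : Matrix (Fin d) (Fin d) F := ((g : GL (Fin d) F) : Matrix (Fin d) (Fin d) F) with hA
    have hcomm : ∀ M, ct σ M * M = 1 → M * A = A * M := fun M h =>
      congrArg (fun z : ↥(Cfsg.GU d F q) => ((z : GL (Fin d) F) : Matrix (Fin d) (Fin d) F))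
        (Subgroup.mem_center_iff.1 hg (toGU hq hσ M h))
    obtain ⟨z, hz1, hz⟩ := exists_norm_one hF hq hq2
    have hdiag : ∀ i j, i ≠ j → A i j = 0 := by
      intro i j hij
      let v : Fin d → F := fun k => if k = i then z else 1
      have h := hcomm (diagonal v) (by
        rw [show ct σ (diagonal v) = diagonal (fun k => σ (v k)) by
          simp [ct, Matrix.diagonal_map, Matrix.diagonal_transpose], diagonal_mul_diagonal, ← diagonal_one]
        congr 1
        funext k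
        simp only [v]
        split_ifs <;> simp [hz])
      have h' := congrFun (congrFun h i) j
      rw [diagonal_mul, mul_diagonal] at h'
      simp only [v, if_pos rfl, if_neg (Ne.symm hij), mul_one] at h'
      have : (z - 1) * A i j = 0 := by rw [sub_mul, one_mul, h', sub_self]
      exact (mul_eq_zero.1 this).resolve_left (sub_ne_zero.2 hz1)
    rcases Nat.eq_zero_or_pos d with rfl | hd
    · exact ⟨0, Subsingleton.elim _ _⟩
    refine ⟨A ⟨0, hd⟩ ⟨0, hd⟩, ?_⟩
    ext i j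
    by_cases hij : i = j
    · subst hij
      rw [Matrix.scalar_apply, diagonal_apply_eq]
      let P : Matrix (Fin d) (Fin d) F := (Equiv.swap i (⟨0, hd⟩ : Fin d)).permMatrix F
      have h := hcomm P (by
        have e : ct σ P = (Equiv.swap i (⟨0, hd⟩ : Fin d)).permMatrix F := by
          rw [ct]
          conv_rhs => rw [← Equiv.swap_inv, ← Matrix.transpose_permMatrix]
          congr 1
          ext a b
          simp only [P, Matrix.map_apply, Equiv.Perm.permMatrix, PEquiv.toMatrix_apply]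
          split_ifs <;> simp
        rw [e, ← Matrix.permMatrix_mul, Equiv.swap_mul_self, Matrix.permMatrix_one])
      have h' := congrFun (congrFun h i) ⟨0, hd⟩
      simp only [P, Equiv.Perm.permMatrix, PEquiv.toMatrix_toPEquiv_mul, PEquiv.mul_toMatrix_toPEquiv,
        Matrix.submatrix_apply, id, Equiv.symm_swap, Equiv.swap_apply_left, Equiv.swap_apply_right] at h'
      exact h'.symm
    · rw [Matrix.scalar_apply, diagonal_apply_ne _ hij, hdiag i j hij]
  · rintro ⟨a, ha⟩
    rw [Subgroup.mem_center_iff]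
    intro h
    apply Subtype.ext
    apply Units.ext
    simp only [Subgroup.coe_mul, Units.val_mul, ha]
    exact (Matrix.scalar_commute a (fun r => Commute.all _ _) _).eq.symm

/-! ### The upper bound -/

theorem orderOf_le {p f : ℕ} (hp : p.Prime) (hf : 1 ≤ f) (hqpf : q = p ^ f) (hF : Fintype.card F = q ^ 2)
    (hd : 3 ≤ d) (h32 : ¬ (d = 3 ∧ q = 2)) (T : ℕ) (hT : q ^ (d - 1) - 1 ≤ T)
    (hTe : Even d → q ^ (d - 1) + 1 ≤ T) (hTo : Odd d → q = p → p * (p ^ (d - 2) + 1) ≤ T)
    (hT2 : Even d → q = 2 → 4 * (2 ^ (d - 3) + 1) ≤ T)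
    (g : ↥(Cfsg.GU d F q) ⧸ Subgroup.center ↥(Cfsg.GU d F q)) : orderOf g ≤ T := by
  classical
  obtain ⟨σ, hq, hσ, -⟩ := exists_conjugation hF
  haveI : Fact p.Prime := ⟨hp⟩
  haveI : CharP F p := by
    obtain ⟨p', hp'⟩ := CharP.exists F
    obtain ⟨n, hn, hn'⟩ := FiniteField.card F p'
    rw [hF, hqpf, ← pow_mul] at hn'
    have := (Nat.Prime.pow_inj' hp hn (by positivity) n.ne_zero hn').1
    exact this ▸ hp'
  have hq2 : 2 ≤ q := hqpf ▸ hp.two_le.trans (Nat.le_self_pow (by omega) p)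
  obtain ⟨g, rfl⟩ := QuotientGroup.mk_surjective g
  set A : Matrix (Fin d) (Fin d) F := ((g : GL (Fin d) F) : Matrix (Fin d) (Fin d) F) with hA
  have hUA : ct σ A * A = 1 := (mem_GU_iff hq hσ _).1 g.2
  let K := AlgebraicClosure F
  let i := algebraMap F K
  haveI : CharP K p := charP_of_injective_algebraMap i.injective p
  have hMu : IsUnit A := (g : GL (Fin d) F).isUnit
  have hdM : IsUnit A.det := (Matrix.isUnit_iff_isUnit_det A).1 hMu
  have hinv : A⁻¹.charpoly = A.charpoly.map σ := by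
    rw [Matrix.inv_eq_left_inv hUA, ct, Matrix.charpoly_transpose, Matrix.charpoly_map]
  obtain ⟨u, hu, hrev⟩ : ∃ u : F, u ≠ 0 ∧ A.charpoly.map σ = Polynomial.C u * A.charpoly.reverse := by
    refine ⟨(-1) ^ Fintype.card (Fin d) * Ring.inverse A.det,
      mul_ne_zero (pow_ne_zero _ (neg_ne_zero.2 one_ne_zero)) hdM.ringInverse.ne_zero, ?_⟩
    rw [← hinv, Matrix.charpoly_inv A hMu, Matrix.reverse_charpoly, map_mul, map_pow, map_neg, map_one]
  set χ := A.charpoly.map i with hχ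
  have hmon := A.charpoly_monic
  have hsplit : χ.Splits := IsAlgClosed.splits χ
  have hprod : χ = (χ.roots.map fun a => Polynomial.X - Polynomial.C a).prod :=
    hsplit.eq_prod_roots_of_monic (hmon.map i)
  have hcard : χ.roots.card = d := by
    rw [← hsplit.natDegree_eq_card_roots, hχ, hmon.natDegree_map, A.charpoly_natDegree_eq_dim, Fintype.card_fin]
  have h0 : (0 : K) ∉ χ.roots := by
    intro hz
    have he : χ.IsRoot 0 := (Polynomial.mem_roots (hmon.map i).ne_zero).1 hz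
    rw [Polynomial.IsRoot, hχ, Polynomial.eval_map, Polynomial.eval₂_at_zero, map_eq_zero i] at he
    have := A.det_eq_sign_charpoly_coeff
    rw [he, mul_zero] at this
    exact hdM.ne_zero this
  obtain ⟨-, hroots⟩ := SpEightBound.reverse_prod_roots χ.roots h0
  have hmaprev : A.charpoly.reverse.map i = χ.reverse := by
    rw [Polynomial.reverse, Polynomial.reverse, hχ, Polynomial.natDegree_map_eq_of_injective i.injective,
      Polynomial.reflect_map]
  let frob := iterateFrobenius K p f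
  have hfrob : ∀ x : K, frob x = x ^ q := fun x => by simp [frob, iterateFrobenius_def, hqpf]
  have hfi : frob.comp i = i.comp σ := by
    ext a; simp [hfrob, hq]
  have hR1 : χ.roots.map frob = χ.roots.map fun x => x⁻¹ := by
    have e : χ.map frob = Polynomial.C (i u) * χ.reverse := by
      rw [hχ, Polynomial.map_map, hfi, ← Polynomial.map_map, hrev, Polynomial.map_mul, Polynomial.map_C, hmaprev]
    rw [← hsplit.roots_map frob, e, Polynomial.roots_C_mul _ (by simpa using hu), ← hroots, ← hprod]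
  have hR2 : χ.roots.map (PGUOrbitBound61.phi q) = χ.roots := by
    have := congrArg (Multiset.map fun x : K => x⁻¹) hR1
    rw [Multiset.map_map, Multiset.map_map] at this
    refine Eq.trans (Multiset.map_congr rfl fun x _ => ?_) (this.trans ?_)
    · simp [PGUOrbitBound61.phi, hfrob]
    · rw [show ((fun x : K => x⁻¹) ∘ fun x => x⁻¹) = id from funext fun x => _root_.inv_inv x, Multiset.map_id]
  have hinj : Function.Injective (PGUOrbitBound61.phi q : K → K) := fun x y h => by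
    simp only [PGUOrbitBound61.phi, ← hfrob] at h
    exact frob.injective (inv_injective h)
  obtain ⟨L, e, c, hL, hc, hroot, hcnt, hle⟩ := PGUOrbitBound61.exponent (p := p) hp ⟨f, hf, hqpf⟩ hd h32 hinj
    χ.roots hcard h0 (fun x => by
      conv_lhs => rw [← hR2]
      exact Multiset.count_map_eq_count' _ χ.roots hinj x) hT hTe hTo hT2
  refine le_trans (orderOf_le_of_pow_eq_one (Nat.mul_pos hL (pow_pos hp.pos e)) ?_) hle
  have hcq : c ^ Fintype.card F = c := by
    obtain ⟨r, rfl⟩ := Nat.exists_eq_add_of_le hq2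
    rw [hF, show (2 + r) ^ 2 = (2 + r + 1) * (r + 1) + 1 by ring, pow_succ, pow_mul, hc, one_pow, one_mul]
  obtain ⟨a, rfl⟩ : ∃ a : F, i a = c := by
    by_contra hno
    push Not at hno
    have hne := FiniteField.X_pow_card_sub_X_ne_zero K (Fintype.one_lt_card (α := F))
    have hsub : insert c (Finset.univ.image i) ⊆
        (Polynomial.X ^ Fintype.card F - Polynomial.X : Polynomial K).roots.toFinset := by
      intro z hz
      rw [Multiset.mem_toFinset, Polynomial.mem_roots hne]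
      rcases Finset.mem_insert.1 hz with rfl | hz
      · simp [hcq]
      · obtain ⟨b, -, rfl⟩ := Finset.mem_image.1 hz
        simp [← map_pow, FiniteField.pow_card]
    have hcc := (Finset.card_le_card hsub).trans ((Multiset.toFinset_card_le _).trans (Polynomial.card_roots' _))
    rw [Finset.card_insert_of_notMem (by
        intro hz
        obtain ⟨b, -, hb⟩ := Finset.mem_image.1 hz
        exact hno b hb),
      Finset.card_image_of_injective _ i.injective, Finset.card_univ,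
      FiniteField.X_pow_card_sub_X_natDegree_eq K (Fintype.one_lt_card (α := F))] at hcc
    omega
  rw [← QuotientGroup.mk_pow, QuotientGroup.eq_one_iff, mem_center_iff hF hq hσ hq2]
  refine ⟨a ^ p ^ e, ?_⟩
  rw [SubmonoidClass.coe_pow, Units.val_pow_eq_pow_val, ← hA]
  have hne1 : (Polynomial.X ^ L - Polynomial.C (i a) : Polynomial K) ≠ 0 := Polynomial.X_pow_sub_C_ne_zero hL _
  have hdvd : χ ∣ (Polynomial.X ^ L - Polynomial.C (i a) : Polynomial K) ^ p ^ e := by
    refine (hsplit.dvd_iff_roots_le_roots (hmon.map i).ne_zero (pow_ne_zero _ hne1)).2 ?_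
    rw [Multiset.le_iff_count]
    intro x
    by_cases hx : x ∈ χ.roots
    · rw [Polynomial.roots_pow, Multiset.count_nsmul]
      refine (hcnt x).trans (Nat.le_mul_of_pos_right _ (Multiset.count_pos.2 ?_))
      rw [Polynomial.mem_roots hne1]
      simp [hroot x hx]
    · rw [Multiset.count_eq_zero.2 hx]; exact Nat.zero_le _
  obtain ⟨r, hr⟩ := hdvd
  have hM0 : Polynomial.aeval (A.map i) χ = 0 := by
    rw [hχ, ← Matrix.charpoly_map]
    exact Matrix.aeval_self_charpoly _
  have hz := congrArg (Polynomial.aeval (A.map i)) hr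
  rw [map_mul, hM0, zero_mul, sub_pow_char_pow, ← pow_mul, map_sub, map_pow, Polynomial.aeval_X, ← map_pow,
    Polynomial.aeval_C, sub_eq_zero] at hz
  apply Matrix.map_injective i.injective
  show i.mapMatrix (A ^ (L * p ^ e)) = i.mapMatrix (Matrix.scalar (Fin d) (a ^ p ^ e))
  rw [map_pow]
  refine hz.trans ?_
  ext k l
  simp [Matrix.scalar_apply, Matrix.algebraMap_matrix_apply, Matrix.diagonal_apply, apply_ite i]

/-! ### Blocks with an invariant hermitian form -/

variable {ι κ : Type*} [Fintype ι] [DecidableEq ι] [Fintype κ] [DecidableEq κ]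

/-- `A` is an isometry of the non-degenerate hermitian form `H`. -/
def Inv (σ : F →+* F) (A H : Matrix ι ι F) : Prop := IsUnit H ∧ ct σ H = H ∧ ct σ A * H * A = H

omit [Fintype F] in
theorem inv_blocks {A H : Matrix ι ι F} {B J : Matrix κ κ F} (h1 : Inv σ A H) (h2 : Inv σ B J) :
    Inv σ (fromBlocks A 0 0 B) (fromBlocks H 0 0 J) := by
  obtain ⟨hH, hHh, hHi⟩ := h1
  obtain ⟨hJ, hJh, hJi⟩ := h2
  have hct : ∀ (X : Matrix ι ι F) (Y : Matrix κ κ F),
      ct σ (fromBlocks X 0 0 Y) = fromBlocks (ct σ X) 0 0 (ct σ Y) := fun X Y => by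
    simp [ct, fromBlocks_map, fromBlocks_transpose]
  refine ⟨isUnit_fromBlocks_zero₁₂.2 ⟨hH, hJ⟩, by rw [hct, hHh, hJh], ?_⟩
  rw [hct, fromBlocks_multiply, fromBlocks_multiply]
  simp [hHi, hJi]

omit [Fintype F] in
theorem blocks_pow (A : Matrix ι ι F) (B : Matrix κ κ F) (k : ℕ) :
    (fromBlocks A 0 0 B) ^ k = fromBlocks (A ^ k) 0 0 (B ^ k) := by
  induction k with
  | zero => simp [fromBlocks_one]
  | succ k ih => rw [pow_succ, pow_succ, pow_succ, ih, fromBlocks_multiply]; simp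

/-- From blocks to an element of `PGU`: `B` has order `u` even modulo scalars. -/
theorem witness (hF : Fintype.card F = q ^ 2) (hq : ∀ x, σ x = x ^ q) (hσ : ∀ x, σ (σ x) = x) (hq2 : 2 ≤ q)
    {A H : Matrix ι ι F} {B J : Matrix κ κ F} (hcard : Fintype.card ι + Fintype.card κ = d)
    (h1 : Inv σ A H) (h2 : Inv σ B J) {u : ℕ} (hcop : Nat.Coprime (orderOf A) u) (hBu : B ^ u = 1)
    (hB : ∀ (k : ℕ) (c : F), B ^ k = Matrix.scalar κ c → c = 1 ∧ u ∣ k) :
    ∃ g : ↥(Cfsg.GU d F q) ⧸ Subgroup.center ↥(Cfsg.GU d F q), orderOf g = orderOf A * u := by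
  obtain ⟨hHu, hHh, hHi⟩ := inv_blocks h1 h2
  obtain ⟨_, _, _, c, hc⟩ := exists_conjugation hF
  have hσc : ∃ c : F, σ c ≠ c := by
    obtain ⟨τ, hτ, -, c, hc⟩ := exists_conjugation hF
    exact ⟨c, by rwa [hq, ← hτ]⟩
  obtain ⟨c, hc⟩ := hσc
  set D := fromBlocks A 0 0 B with hD
  obtain ⟨s, -, hsu, hs⟩ := exists_factor hσ c hc hHu hHh
  obtain ⟨U, rfl⟩ := hsu
  let ψ : Matrix (ι ⊕ κ) (ι ⊕ κ) F ≃ₐ[F] Matrix (Fin d) (Fin d) F :=
    Matrix.reindexAlgEquiv F F (Fintype.equivFinOfCardEq (by rw [Fintype.card_sum, hcard]))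
  have hψ : ∀ X, ct σ (ψ X) = ψ (ct σ X) := fun X => by ext; simp [ψ, ct]
  set G₀ : Matrix (ι ⊕ κ) (ι ⊕ κ) F := (U : Matrix (ι ⊕ κ) (ι ⊕ κ) F) * D * ((U⁻¹ : (Matrix (ι ⊕ κ) (ι ⊕ κ) F)ˣ) : Matrix (ι ⊕ κ) (ι ⊕ κ) F) with hG
  have hG1 : ct σ G₀ * G₀ = 1 := by
    have e1 : ct σ G₀ * G₀ = ct σ ((U⁻¹ : (Matrix (ι ⊕ κ) (ι ⊕ κ) F)ˣ) : Matrix (ι ⊕ κ) (ι ⊕ κ) F) *
        (ct σ D * (ct σ (U : Matrix (ι ⊕ κ) (ι ⊕ κ) F) * (U : Matrix (ι ⊕ κ) (ι ⊕ κ) F)) * D) *
        ((U⁻¹ : (Matrix (ι ⊕ κ) (ι ⊕ κ) F)ˣ) : Matrix (ι ⊕ κ) (ι ⊕ κ) F) := by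
      simp only [hG, ct_mul]; noncomm_ring
    rw [e1, hs, hHi, ← hs, ← mul_assoc, ← ct_mul, Units.mul_inv, ct_one, one_mul, Units.mul_inv]
  have hG2 : ct σ (ψ G₀) * ψ G₀ = 1 := by rw [hψ, ← map_mul, hG1, map_one]
  have hpow : ∀ k a, (ψ G₀) ^ k = Matrix.scalar (Fin d) a ↔ A ^ k = Matrix.scalar ι a ∧ B ^ k = Matrix.scalar κ a := by
    intro k a
    have e : Matrix.scalar (Fin d) a = ψ (algebraMap F _ a) := by
      rw [AlgEquiv.commutes, Matrix.algebraMap_eq_diagonal]; rfl
    rw [e, ← map_pow, ψ.injective.eq_iff, hG, Units.conj_pow, Units.mul_inv_eq_iff_eq_mul,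
      Algebra.commutes a (U : Matrix (ι ⊕ κ) (ι ⊕ κ) F), U.isUnit.mul_right_inj, hD, blocks_pow,
      show algebraMap F (Matrix (ι ⊕ κ) (ι ⊕ κ) F) a = fromBlocks (Matrix.scalar ι a) 0 0 (Matrix.scalar κ a) by
        rw [Matrix.algebraMap_eq_diagonal, Matrix.scalar_apply, Matrix.scalar_apply, fromBlocks_diagonal]
        congr 1
        funext x; cases x <;> rfl,
      fromBlocks_inj]
    simp
  refine ⟨QuotientGroup.mk (toGU hq hσ _ hG2), Nat.dvd_antisymm (orderOf_dvd_of_pow_eq_one ?_) ?_⟩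
  · rw [← QuotientGroup.mk_pow, QuotientGroup.eq_one_iff, mem_center_iff hF hq hσ hq2]
    refine ⟨1, ?_⟩
    rw [SubmonoidClass.coe_pow, Units.val_pow_eq_pow_val, toGU_val, hpow]
    exact ⟨by rw [pow_mul, pow_orderOf_eq_one, one_pow, map_one],
      by rw [mul_comm, pow_mul, hBu, one_pow, map_one]⟩
  · have h := pow_orderOf_eq_one (QuotientGroup.mk (toGU hq hσ _ hG2) : ↥(Cfsg.GU d F q) ⧸ Subgroup.center ↥(Cfsg.GU d F q))
    rw [← QuotientGroup.mk_pow, QuotientGroup.eq_one_iff, mem_center_iff hF hq hσ hq2] at h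
    obtain ⟨a, ha⟩ := h
    rw [SubmonoidClass.coe_pow, Units.val_pow_eq_pow_val, toGU_val, hpow] at ha
    obtain ⟨hA, hB'⟩ := ha
    obtain ⟨rfl, huk⟩ := hB _ _ hB'
    exact hcop.mul_dvd_of_dvd_of_dvd (orderOf_dvd_of_pow_eq_one (by rw [hA, map_one])) huk

/-! ### The blocks -/

theorem one_block : Inv σ (1 : Matrix (Fin 1) (Fin 1) F) 1 ∧
    ∀ (k : ℕ) (c : F), (1 : Matrix (Fin 1) (Fin 1) F) ^ k = Matrix.scalar (Fin 1) c → c = 1 ∧ 1 ∣ k := by
  refine ⟨⟨isUnit_one, ct_one, by simp [ct_one]⟩, fun k c h => ⟨?_, one_dvd k⟩⟩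
  rw [one_pow] at h
  simpa using (congrFun (congrFun h 0) 0).symm

/-- A Singer cycle of `GU n`, `n` odd. -/
theorem singer (hF : Fintype.card F = q ^ 2) (hq : ∀ x, σ x = x ^ q) (hσ : ∀ x, σ (σ x) = x) {n : ℕ}
    (hn : Odd n) : ∃ A H : Matrix (Fin n) (Fin n) F, Inv σ A H ∧ orderOf A = q ^ n + 1 := by
  obtain ⟨τ, hτ, -, c, hc⟩ := exists_conjugation hF
  replace hc : σ c ≠ c := by rwa [hq, ← hτ]
  obtain ⟨p, hpchar⟩ := CharP.exists F
  obtain ⟨e, hp, hpe⟩ := FiniteField.card F p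
  haveI : Fact p.Prime := ⟨hp⟩
  haveI : NeZero n := ⟨hn.pos.ne'⟩
  obtain ⟨f, -, hqf⟩ := (Nat.dvd_prime_pow hp).1
    (show q ∣ p ^ (e : ℕ) by rw [← hpe, hF]; exact dvd_pow_self q two_ne_zero)
  let K := FiniteField.Extension F p n
  haveI : Finite K := Module.finite_of_finite F
  haveI : CharP K p := charP_of_injective_algebraMap (algebraMap F K).injective p
  have hK : Nat.card K = (q ^ n) ^ 2 := by
    rw [FiniteField.natCard_extension, Nat.card_eq_fintype_card, hF, ← pow_mul, ← pow_mul, mul_comm]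
  let b := Module.finBasisOfFinrankEq F K (FiniteField.finrank_extension F p n)
  let θ := iterateFrobenius K p (f * n)
  have hθ : ∀ x : K, θ x = x ^ q ^ n := fun x => by simp [θ, iterateFrobenius_def, hqf, ← pow_mul]
  have hθθ : ∀ x, θ (θ x) = x := fun x => by
    haveI := Fintype.ofFinite K
    rw [hθ, hθ, ← pow_mul, ← pow_two, ← hK, Nat.card_eq_fintype_card, FiniteField.pow_card]
  have hθa : ∀ a : F, θ (algebraMap F K a) = algebraMap F K (σ a) := by
    intro a
    rw [hθ, ← map_pow, hq]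
    congr 1
    obtain ⟨t, rfl⟩ := hn
    rw [pow_succ, pow_mul, pow_mul, ← hF, FiniteField.pow_card_pow]
  obtain ⟨x, hx⟩ := IsCyclic.exists_ofOrder_eq_natCard (α := Kˣ)
  rw [Nat.card_units, hK] at hx
  set r := q ^ n with hr
  have hr2 : 2 ≤ r := by
    refine le_trans ?_ (Nat.le_self_pow hn.pos.ne' q)
    have := Fintype.one_lt_card (α := F)
    rw [hF] at this
    nlinarith
  have hfac : r ^ 2 - 1 = (r + 1) * (r - 1) := by simpa using Nat.sq_sub_sq r 1
  set α : K := ((x ^ (r - 1) : Kˣ) : K) with hαdef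
  have hαord : orderOf α = r + 1 := by
    rw [hαdef, orderOf_units, orderOf_pow_of_dvd (by omega) (by rw [hx, hfac]; exact dvd_mul_left _ _), hx, hfac,
      Nat.mul_div_cancel _ (by omega)]
  have hαθ : θ α * α = 1 := by rw [hθ, ← pow_succ, ← hαord, pow_orderOf_eq_one]
  let A : Matrix (Fin n) (Fin n) F := Algebra.leftMulMatrix b α
  let P : Matrix (Fin n) (Fin n) F := Matrix.of fun i j => Algebra.trace F K (θ (b i) * b j)
  have hAord : orderOf A = r + 1 :=
    (orderOf_injective (Algebra.leftMulMatrix b : K →* Matrix (Fin n) (Fin n) F) (Algebra.leftMulMatrix_injective b) α).trans hαord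
  have hcol : ∀ j, ∑ l, algebraMap F K (A l j) * b l = α * b j := by
    intro j
    conv_rhs => rw [← b.sum_repr (α * b j)]
    refine Finset.sum_congr rfl fun l _ => ?_
    simp only [A, Algebra.smul_def, Algebra.leftMulMatrix_eq_repr_mul]
  have hinv : ct σ A * P * A = P := by
    ext i j
    have : Algebra.trace F K (θ (∑ k, algebraMap F K (A k i) * b k) * ∑ l, algebraMap F K (A l j) * b l) = P i j := by
      rw [hcol, hcol, map_mul θ, show θ α * θ (b i) * (α * b j) = θ α * α * (θ (b i) * b j) by ring, hαθ, one_mul]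
      rfl
    rw [← this, map_sum, Finset.sum_mul_sum, map_sum]
    simp only [map_mul, hθa, ct, Matrix.mul_apply, Matrix.transpose_apply, Matrix.map_apply, Matrix.of_apply, P, map_sum, Finset.sum_mul]
    rw [Finset.sum_comm]
    refine Finset.sum_congr rfl fun k _ => Finset.sum_congr rfl fun l _ => ?_
    rw [show algebraMap F K (σ (A k i)) * θ (b k) * (algebraMap F K (A l j) * b l) =
      (σ (A k i) * A l j) • (θ (b k) * b l) by rw [Algebra.smul_def, map_mul]; ring, map_smul, smul_eq_mul]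
    ring
  have hP : IsUnit P := by
    rw [← Matrix.mulVec_injective_iff_isUnit]
    refine (injective_iff_map_eq_zero (Matrix.mulVecLin P)).2 fun v hv => ?_
    let y : K := ∑ j, algebraMap F K (v j) * b j
    have hy : ∀ i, Algebra.trace F K (θ (b i) * y) = 0 := fun i => by
      have h := congrFun hv i
      simp only [Matrix.mulVecLin_apply, Matrix.mulVec, dotProduct, Pi.zero_apply, P, Matrix.of_apply] at h
      rw [← h, Finset.mul_sum, map_sum]
      refine Finset.sum_congr rfl fun j _ => ?_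
      rw [show θ (b i) * (algebraMap F K (v j) * b j) = v j • (θ (b i) * b j) by rw [Algebra.smul_def]; ring,
        map_smul, smul_eq_mul, mul_comm]
    have hall : ∀ z : K, Algebra.trace F K (z * y) = 0 := fun z => by
      rw [← hθθ z, ← b.sum_repr (θ z), map_sum, Finset.sum_mul, map_sum]
      refine Finset.sum_eq_zero fun i _ => ?_
      rw [Algebra.smul_def, map_mul θ, hθa, mul_assoc, ← Algebra.smul_def, map_smul, hy, smul_zero]
    have hy0 : y = 0 := (traceForm_nondegenerate F K).2 y fun z => by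
      rw [Algebra.traceForm_apply]; exact hall z
    funext j
    have hlin := Fintype.linearIndependent_iff.1 b.linearIndependent v
      (by simpa [y, Algebra.smul_def] using hy0)
    exact hlin j
  have hAu : IsUnit A := by
    refine (IsUnit.map (Algebra.leftMulMatrix b) ?_)
    exact (x ^ (r - 1)).isUnit
  obtain ⟨H, hH1, hH2, hH3⟩ := exists_hermitian_invariant hσ c hc hAu hP hinv
  exact ⟨A, H, ⟨hH1, hH2, hH3⟩, hAord⟩

/-- A Singer cycle of `GL m` inside `GU (2 m)`. -/
theorem hyperbolic (hF : Fintype.card F = q ^ 2) (hσ : ∀ x, σ (σ x) = x) {m : ℕ} (hm : 0 < m) :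
    ∃ A H : Matrix (Fin m ⊕ Fin m) (Fin m ⊕ Fin m) F, Inv σ A H ∧ orderOf A = q ^ (2 * m) - 1 := by
  obtain ⟨p, hpchar⟩ := CharP.exists F
  haveI : Fact p.Prime := ⟨CharP.char_is_prime F p⟩
  haveI : NeZero m := ⟨hm.ne'⟩
  let K := FiniteField.Extension F p m
  haveI : Finite K := Module.finite_of_finite F
  let b := Module.finBasisOfFinrankEq F K (FiniteField.finrank_extension F p m)
  obtain ⟨x, hx⟩ := IsCyclic.exists_ofOrder_eq_natCard (α := Kˣ)
  have hord : orderOf x = q ^ (2 * m) - 1 := by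
    rw [hx, Nat.card_units, FiniteField.natCard_extension, Nat.card_eq_fintype_card, hF, ← pow_mul]
  let φ : Kˣ →* (Matrix (Fin m) (Fin m) F)ˣ := Units.map (Algebra.leftMulMatrix b).toMonoidHom
  have hφ : Function.Injective φ := Units.map_injective (Algebra.leftMulMatrix_injective b)
  set U := φ x
  let A : Matrix (Fin m) (Fin m) F := U
  let B : Matrix (Fin m) (Fin m) F := ct σ ((U⁻¹ : (Matrix (Fin m) (Fin m) F)ˣ) : Matrix (Fin m) (Fin m) F)
  have hct : ∀ W X Y Z : Matrix (Fin m) (Fin m) F,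
      ct σ (fromBlocks W X Y Z) = fromBlocks (ct σ W) (ct σ Y) (ct σ X) (ct σ Z) := fun W X Y Z => by
    simp [ct, fromBlocks_map, fromBlocks_transpose]
  have hJ : (fromBlocks 0 1 1 0 : Matrix (Fin m ⊕ Fin m) (Fin m ⊕ Fin m) F) * fromBlocks 0 1 1 0 = 1 := by
    rw [fromBlocks_multiply, ← fromBlocks_one]; simp
  refine ⟨fromBlocks A 0 0 B, fromBlocks 0 1 1 0, ⟨⟨⟨_, _, hJ, hJ⟩, rfl⟩, ?_, ?_⟩, ?_⟩
  · rw [hct, ct_one]; simp [ct]
  · rw [hct, fromBlocks_multiply, fromBlocks_multiply]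
    have e1 : ct σ A * B = 1 := by simp only [A, B, ← ct_mul, Units.inv_mul, ct_one]
    have e2 : ct σ B * A = 1 := by simp only [A, B, ct_ct hσ, Units.inv_mul]
    have z : ct σ (0 : Matrix (Fin m) (Fin m) F) = 0 := by simp [ct]
    simp [z, e1, e2]
  · rw [← hord, ← orderOf_injective φ hφ x, orderOf_eq_orderOf_iff]
    intro k
    rw [blocks_pow, ← fromBlocks_one, fromBlocks_inj]
    constructor
    · rintro ⟨h, -, -, -⟩
      exact Units.ext (by simpa [A] using h)
    · intro h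
      replace h : U ^ k = 1 := h
      refine ⟨by simp only [A, ← Units.val_pow_eq_pow_val, h, Units.val_one], rfl, rfl, ?_⟩
      have hctpow : ∀ (X : Matrix (Fin m) (Fin m) F) (j : ℕ), ct σ X ^ j = ct σ (X ^ j) := by
        intro X j
        induction j with
        | zero => simp [ct_one]
        | succ j ih => rw [pow_succ, pow_succ', ih, ct_mul]
      simp only [B, hctpow, ← Units.val_pow_eq_pow_val, inv_pow, h, inv_one, Units.val_one, ct_one]

/-- A regular unipotent element of `GU 2`. -/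
theorem unipotent_two (hF : Fintype.card F = q ^ 2) (hq : ∀ x, σ x = x ^ q) (hσ : ∀ x, σ (σ x) = x)
    (p : ℕ) [CharP F p] : ∃ B J : Matrix (Fin 2) (Fin 2) F, Inv σ B J ∧ B ^ p = 1 ∧
      ∀ (k : ℕ) (c : F), B ^ k = Matrix.scalar (Fin 2) c → c = 1 ∧ p ∣ k := by
  obtain ⟨τ, hτ, -, x, hx⟩ := exists_conjugation hF
  replace hx : σ x ≠ x := by rwa [hq, ← hτ]
  set e := x - σ x with he
  have he0 : e ≠ 0 := sub_ne_zero.2 (Ne.symm hx)
  have heσ : σ e = -e := by rw [he, map_sub, hσ]; ring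
  let B : Matrix (Fin 2) (Fin 2) F := !![1, 1; 0, 1]
  let J : Matrix (Fin 2) (Fin 2) F := !![0, e; -e, 0]
  have hpow : ∀ k : ℕ, B ^ k = !![1, (k : F); 0, 1] := by
    intro k
    induction k with
    | zero => ext i j; fin_cases i <;> fin_cases j <;> simp
    | succ k ih =>
      rw [pow_succ, ih]
      ext i j; fin_cases i <;> fin_cases j <;> simp [B, Matrix.mul_apply, Fin.sum_univ_two]
      ring
  refine ⟨B, J, ⟨?_, ?_, ?_⟩, ?_, fun k c h => ?_⟩
  · rw [Matrix.isUnit_iff_isUnit_det, Matrix.det_fin_two, isUnit_iff_ne_zero]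
    simp [J, he0]
  · ext i j; fin_cases i <;> fin_cases j <;> simp [J, ct, heσ]
  · ext i j; fin_cases i <;> fin_cases j <;> simp [J, B, ct, Matrix.mul_apply, Fin.sum_univ_two]
  · rw [hpow, CharP.cast_eq_zero]
    ext i j; fin_cases i <;> fin_cases j <;> simp
  · rw [hpow] at h
    have h0 := congrFun (congrFun h 0) 0
    have h1 := congrFun (congrFun h 0) 1
    simp at h0 h1
    exact ⟨h0.symm, (CharP.cast_eq_zero_iff F p k).1 h1⟩

/-- A regular unipotent element of `GU 3 2`. -/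
theorem unipotent_three (hF : Fintype.card F = 4) (hq : ∀ x, σ x = x ^ 2) :
    ∃ B J : Matrix (Fin 3) (Fin 3) F, Inv σ B J ∧ B ^ 4 = 1 ∧
      ∀ (k : ℕ) (c : F), B ^ k = Matrix.scalar (Fin 3) c → c = 1 ∧ 4 ∣ k := by
  haveI : CharP F 2 := by
    obtain ⟨p, hp⟩ := CharP.exists F
    obtain ⟨e, hpp, hpe⟩ := FiniteField.card F p
    rw [hF, show 4 = 2 ^ 2 by norm_num] at hpe
    have := (Nat.Prime.pow_inj' Nat.prime_two hpp two_ne_zero e.ne_zero hpe).1
    exact this ▸ hp
  have h2 : (2 : F) = 0 := by exact_mod_cast CharP.cast_eq_zero F 2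
  obtain ⟨w, hw0, hw1⟩ : ∃ w : F, w ≠ 0 ∧ w ≠ 1 := by
    classical
    by_contra h
    push Not at h
    have : (Finset.univ : Finset F).card ≤ ({0, 1} : Finset F).card := Finset.card_le_card fun z _ => by
      by_cases hz : z = 0
      · simp [hz]
      · simp [h z hz]
    rw [Finset.card_univ, hF, Finset.card_pair zero_ne_one] at this
    omega
  have hw3 : w ^ 3 = 1 := by
    have := FiniteField.pow_card_sub_one_eq_one w hw0
    rwa [hF] at this
  have hw : w ^ 2 + w + 1 = 0 := by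
    have : (w - 1) * (w ^ 2 + w + 1) = 0 := by linear_combination hw3
    exact (mul_eq_zero.1 this).resolve_left (sub_ne_zero.2 hw1)
  let B : Matrix (Fin 3) (Fin 3) F := !![1, 1, w; 0, 1, 1; 0, 0, 1]
  let J : Matrix (Fin 3) (Fin 3) F := !![0, 0, 1; 0, 1, 0; 1, 0, 0]
  have hB2 : B ^ 2 = !![1, 0, 1; 0, 1, 0; 0, 0, 1] := by
    rw [pow_two]
    ext i j
    fin_cases i <;> fin_cases j <;> simp [B, Matrix.mul_apply, Fin.sum_univ_three]
    all_goals grind
  have hB4 : B ^ 4 = 1 := by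
    rw [show 4 = 2 * 2 by norm_num, pow_mul, hB2, pow_two]
    ext i j
    fin_cases i <;> fin_cases j <;> simp [Matrix.mul_apply, Fin.sum_univ_three]
    all_goals grind
  refine ⟨B, J, ⟨?_, ?_, ?_⟩, hB4, fun k c h => ?_⟩
  · rw [Matrix.isUnit_iff_isUnit_det, Matrix.det_fin_three, isUnit_iff_ne_zero]
    simp [J]
  · ext i j; fin_cases i <;> fin_cases j <;> simp [J, ct]
  · ext i j
    fin_cases i <;> fin_cases j <;> simp [J, B, ct, Matrix.mul_apply, Fin.sum_univ_three, hq]
    all_goals grind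
  · have hk : B ^ k = B ^ (k % 4) := by
      conv_lhs => rw [← Nat.mod_add_div k 4, pow_add, pow_mul, hB4, one_pow, mul_one]
    rw [hk] at h
    have hlt : k % 4 < 4 := Nat.mod_lt _ (by norm_num)
    have h00 := congrFun (congrFun h 0) 0
    have h02 := congrFun (congrFun h 0) 2
    have h01 := congrFun (congrFun h 0) 1
    interval_cases hm : k % 4
    · exact ⟨by simpa using h00.symm, Nat.dvd_of_mod_eq_zero hm⟩
    · exfalso; simp [B] at h01
    · exfalso; rw [hB2] at h02; simp at h02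
    · exfalso; rw [pow_succ, hB2] at h01; simp [B, Matrix.mul_apply, Fin.sum_univ_three] at h01

end Cfsg.Agent.PGUMatrix61
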