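import Mathlib

/-! Basic tools for the P(G,V)-theorem: actions on finite abelian groups of exponent `p`,
orbit products, Timmesfeld replacement. -/

set_option autoImplicit false
set_option linter.style.haveILetI false

namespace Cfsg.Agent.PGVBasic

/-! ### Groups -/

variable {H : Type*} [Group H]

/-- `gc g k = g k g⁻¹`. -/
def gc (g k : H) : H := g * k * g⁻¹

theorem gc_mul (g k l : H) : gc g (k * l) = gc g k * gc g l := by unfold gc; group

theorem gc_one (g : H) : gc g 1 = 1 := by unfold gc; group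

theorem one_gc (k : H) : gc 1 k = k := by unfold gc; group

theorem gc_gc (g g' k : H) : gc g (gc g' k) = gc (g * g') k := by unfold gc; group

theorem gc_inv (g k : H) : gc g k⁻¹ = (gc g k)⁻¹ := by unfold gc; group

theorem gc_commute {g k l : H} (h : Commute k l) : Commute (gc g k) (gc g l) := by
  show gc g k * gc g l = gc g l * gc g k
  rw [← gc_mul, ← gc_mul, h.eq]

theorem gc_of_commute {g k : H} (h : Commute g k) : gc g k = k := by
  unfold gc
  rw [h.eq, mul_inv_cancel_right]

theorem mul_eq_gc_mul (g k : H) : g * k = gc g k * g := by unfold gc; group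

theorem commute_of_gc_eq {g k : H} (h : gc g k = k) : Commute g k := by
  show g * k = k * g
  rw [mul_eq_gc_mul, h]

/-- The orbit product `∏_{i < n} h^i k h^{-i}`. -/
def phi (h k : H) : ℕ → H
  | 0 => 1
  | n + 1 => phi h k n * gc (h ^ n) k

/-- `h` has order dividing `p` and moves `K` to commuting conjugates. -/
structure Orb (p : ℕ) (h : H) (K : Subgroup H) : Prop where
  pow : h ^ p = 1
  comm : ∀ i : ℕ, 0 < i → i < p → ∀ k ∈ K, ∀ l ∈ K, Commute k (gc (h ^ i) l)

variable {p : ℕ} {h : H} {K : Subgroup H}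

theorem Orb.pow_add_p (o : Orb p h K) (i : ℕ) : h ^ (i + p) = h ^ i := by
  rw [pow_add, o.pow, mul_one]

theorem Orb.pow_eq_mod (o : Orb p h K) (i : ℕ) : h ^ i = h ^ (i % p) := by
  conv_lhs => rw [← Nat.mod_add_div i p]
  rw [pow_add, pow_mul, o.pow, one_pow, mul_one]

theorem Orb.commute_gc (o : Orb p h K) {i j : ℕ} (hij : i % p ≠ j % p) (hp : 0 < p)
    {k l : H} (hk : k ∈ K) (hl : l ∈ K) : Commute (gc (h ^ i) k) (gc (h ^ j) l) := by
  rw [o.pow_eq_mod i, o.pow_eq_mod j]
  have hi := Nat.mod_lt i hp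
  have hj := Nat.mod_lt j hp
  generalize i % p = a at *
  generalize j % p = b at *
  rcases lt_or_gt_of_ne hij with hlt | hlt
  · have := gc_commute (g := h ^ a) (o.comm (b - a) (by omega) (by omega) k hk l hl)
    rwa [gc_gc, ← pow_add, Nat.add_sub_cancel' hlt.le] at this
  · have := gc_commute (g := h ^ b) (o.comm (a - b) (by omega) (by omega) l hl k hk)
    rw [gc_gc, ← pow_add, Nat.add_sub_cancel' hlt.le] at this
    exact this.symm

theorem phi_succ_left (h k : H) : ∀ n, phi h k (n + 1) = k * gc h (phi h k n)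
  | 0 => by simp [phi, gc_one, one_gc]
  | n + 1 => by
    calc phi h k (n + 1 + 1) = phi h k (n + 1) * gc (h ^ (n + 1)) k := rfl
      _ = k * gc h (phi h k n) * gc (h * h ^ n) k := by rw [phi_succ_left h k n, pow_succ' h n]
      _ = k * gc h (phi h k n * gc (h ^ n) k) := by rw [gc_mul, gc_gc, mul_assoc]
      _ = k * gc h (phi h k (n + 1)) := rfl

theorem phi_one' (h k : H) : phi h k 1 = k := by simp [phi, one_gc]

theorem phi_commute (o : Orb p h K) {k : H} (hk : k ∈ K) (j : ℕ) {l : H} (hl : l ∈ K) :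
    ∀ n, n ≤ j → j < p → Commute (phi h k n) (gc (h ^ j) l) := by
  intro n
  induction n with
  | zero => intro _ _; exact Commute.one_left _
  | succ n ih =>
    intro hn hj
    refine (ih (by omega) hj).mul_left (o.commute_gc ?_ (by omega) hk hl)
    rw [Nat.mod_eq_of_lt (show n < p by omega), Nat.mod_eq_of_lt hj]
    omega

theorem phi_mul (o : Orb p h K) {k l : H} (hk : k ∈ K) (hl : l ∈ K) :
    ∀ n, n ≤ p → phi h (k * l) n = phi h k n * phi h l n := by
  intro n
  induction n with
  | zero => intro _; simp [phi]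
  | succ n ih =>
    intro hn
    have hc : Commute (phi h l n) (gc (h ^ n) k) := phi_commute o hl n hk n le_rfl (by omega)
    show phi h (k * l) n * gc (h ^ n) (k * l) =
      phi h k n * gc (h ^ n) k * (phi h l n * gc (h ^ n) l)
    rw [ih (by omega), gc_mul]
    calc phi h k n * phi h l n * (gc (h ^ n) k * gc (h ^ n) l)
        = phi h k n * (phi h l n * gc (h ^ n) k) * gc (h ^ n) l := by group
      _ = phi h k n * (gc (h ^ n) k * phi h l n) * gc (h ^ n) l := by rw [hc.eq]
      _ = _ := by group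

theorem rest_commute (o : Orb p h K) {k x : H} (hk : k ∈ K) (hx : x ∈ K) :
    ∀ n, n + 1 ≤ p → Commute x (gc h (phi h k n)) := by
  intro n
  induction n with
  | zero => intro _; simp [phi, gc_one]
  | succ n ih =>
    intro hn
    show Commute x (gc h (phi h k n * gc (h ^ n) k))
    rw [gc_mul, gc_gc, ← pow_succ']
    exact (ih (by omega)).mul_right (o.comm (n + 1) (by omega) (by omega) x hx k hk)

theorem gc_phi (o : Orb p h K) (hp : 0 < p) {k : H} (hk : k ∈ K) :
    gc h (phi h k p) = phi h k p := by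
  obtain ⟨n, rfl⟩ : ∃ n, p = n + 1 := ⟨p - 1, by omega⟩
  have h1 := phi_succ_left h k (n + 1)
  have h2 : Commute k (phi h k (n + 1)) := by
    rw [phi_succ_left]
    exact (Commute.refl k).mul_right (rest_commute o hk hk n le_rfl)
  rw [phi, o.pow, one_gc, ← h2.eq] at h1
  exact (mul_left_cancel h1).symm

theorem commute_phi (o : Orb p h K) (hp : 0 < p) {k : H} (hk : k ∈ K) :
    Commute h (phi h k p) :=
  commute_of_gc_eq (gc_phi o hp hk)

theorem gc_pow_phi (o : Orb p h K) (hp : 0 < p) {k : H} (hk : k ∈ K) (j : ℕ) :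
    gc (h ^ j) (phi h k p) = phi h k p :=
  gc_of_commute ((commute_phi o hp hk).pow_left j)

theorem conj_phi (o : Orb p h K) (hp : 0 < p) {k x : H} (hk : k ∈ K) (hx : x ∈ K) (j : ℕ) :
    gc (gc (h ^ j) x) (phi h k p) = gc (h ^ j) (x * k * x⁻¹ * k⁻¹) * phi h k p := by
  have h0 : gc x (phi h k p) = x * k * x⁻¹ * k⁻¹ * phi h k p := by
    obtain ⟨n, rfl⟩ : ∃ n, p = n + 1 := ⟨p - 1, by omega⟩
    rw [phi_succ_left, gc_mul, gc_of_commute (rest_commute o hk hx n le_rfl)]
    unfold gc; group
  have h1 := congrArg (gc (h ^ j)) h0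
  rw [gc_mul, gc_pow_phi o hp hk, gc_gc, mul_eq_gc_mul (h ^ j) x, ← gc_gc,
    gc_pow_phi o hp hk] at h1
  exact h1

theorem phi_gc {b : H} (hb : Commute b h) (k : H) :
    ∀ n, phi h (gc b k) n = gc b (phi h k n)
  | 0 => by simp [phi, gc_one]
  | n + 1 => by
    rw [phi, phi, gc_mul, phi_gc hb k n, gc_gc, gc_gc, (hb.pow_right n).eq]

/-- The orbit product as a homomorphism. -/
def phiHom (o : Orb p h K) : K →* H where
  toFun k := phi h k p
  map_one' := by
    have := phi_mul o K.one_mem K.one_mem p le_rfl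
    rw [one_mul] at this
    exact left_eq_mul.mp this
  map_mul' k l := phi_mul o k.2 l.2 p le_rfl

theorem phiHom_apply (o : Orb p h K) (k : K) : phiHom o k = phi h k p := rfl

/-- If the orbit product is trivial then `k` commutes with `K`. -/
theorem commute_of_phi_eq_one (o : Orb p h K) (hp : 0 < p) {k : H} (hk : k ∈ K)
    (h1 : phi h k p = 1) {l : H} (hl : l ∈ K) : Commute l k := by
  obtain ⟨n, rfl⟩ : ∃ n, p = n + 1 := ⟨p - 1, by omega⟩
  rw [phi_succ_left] at h1
  rw [eq_inv_of_mul_eq_one_left h1]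
  exact (rest_commute o hk hl n le_rfl).inv_right

/-! ### Perfect groups -/

theorem perfect_hom_commute {G' : Type*} [Group G'] (hperf : commutator G' = ⊤) {M : Type*}
    [Group M] (f : G' →* M) (hcomm : ∀ x y, Commute (f x) (f y)) (x : G') : f x = 1 := by
  have h : commutator G' ≤ f.ker := by
    rw [commutator_def, Subgroup.commutator_le]
    intro a _ b _
    rw [MonoidHom.mem_ker, map_commutatorElement]
    exact commutatorElement_eq_one_iff_commute.mpr (hcomm a b)
  rw [hperf] at h
  exact h (Subgroup.mem_top x)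

theorem perfect_commute_of_deviation (hperf : commutator K = ⊤) {b : H}
    (hb : ∀ k ∈ K, gc b k ∈ K)
    (hz : ∀ k ∈ K, ∀ l ∈ K, Commute (k⁻¹ * gc b k) l) : ∀ k ∈ K, Commute b k := by
  have hzmem : ∀ k ∈ K, k⁻¹ * gc b k ∈ K := fun k hk => mul_mem (inv_mem hk) (hb k hk)
  let f : K →* H :=
    { toFun := fun k => (k : H)⁻¹ * gc b k
      map_one' := by simp [gc_one]
      map_mul' := fun k l => by
        have hc : Commute ((k : H)⁻¹ * gc b k) (l : H)⁻¹ := hz k k.2 _ (inv_mem l.2)
        rw [Subgroup.coe_mul, gc_mul, mul_inv_rev]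
        calc (l : H)⁻¹ * (k : H)⁻¹ * (gc b k * gc b l)
            = (l : H)⁻¹ * ((k : H)⁻¹ * gc b k) * gc b l := by group
          _ = (k : H)⁻¹ * gc b k * (l : H)⁻¹ * gc b l := by rw [hc.eq]
          _ = _ := by group }
  intro k hk
  have h1 := perfect_hom_commute hperf f (fun x y => hz x x.2 _ (hzmem y y.2)) ⟨k, hk⟩
  exact commute_of_gc_eq (inv_mul_eq_one.mp h1).symm

/-- Every proper normal subgroup of `K` is central. -/
def QS (K : Subgroup H) : Prop :=
  ∀ N : Subgroup K, N.Normal → N = ⊤ ∨ N ≤ Subgroup.center K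

theorem qs_range {G' : Type*} [Group G'] (hq : ∀ N : Subgroup G', N.Normal →
    N = ⊤ ∨ N ≤ Subgroup.center G') (f : G' →* H) : QS f.range := by
  intro N hN
  rcases hq (N.comap f.rangeRestrict) (hN.comap _) with h | h
  · left
    rw [eq_top_iff]
    rintro x -
    obtain ⟨g, rfl⟩ := f.rangeRestrict_surjective x
    exact (h ▸ Subgroup.mem_top g : g ∈ N.comap f.rangeRestrict)
  · right
    intro x hx
    obtain ⟨g, rfl⟩ := f.rangeRestrict_surjective x
    rw [Subgroup.mem_center_iff]
    intro y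
    obtain ⟨g', rfl⟩ := f.rangeRestrict_surjective y
    rw [← map_mul, ← map_mul, Subgroup.mem_center_iff.mp (h hx) g']

theorem perfect_range {G' : Type*} [Group G'] (hperf : commutator G' = ⊤) (f : G' →* H) :
    commutator f.range = ⊤ := by
  have h := Subgroup.map_commutator (⊤ : Subgroup G') ⊤ f.rangeRestrict
  rw [← commutator_def, hperf,
    Subgroup.map_top_of_surjective _ f.rangeRestrict_surjective] at h
  rw [commutator_def]
  exact h.symm

/-! ### Actions on abelian groups -/

instance instFiniteEndUnits {W : Type*} [AddCommGroup W] [Finite W] :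
    Finite (AddMonoid.End W)ˣ :=
  haveI : Finite (AddMonoid.End W) := Finite.of_injective _ DFunLike.coe_injective
  inferInstance

variable {W : Type*} [AddCommGroup W] [DistribMulAction H W]

variable (W) in
/-- Fixed points of a subgroup. -/
def fixA (X : Subgroup H) : AddSubgroup W where
  carrier := {w | ∀ x ∈ X, x • w = w}
  zero_mem' x _ := smul_zero x
  add_mem' {a b} ha hb x hx := by rw [smul_add, ha x hx, hb x hx]
  neg_mem' {a} ha x hx := by rw [smul_neg, ha x hx]

theorem mem_fixA {X : Subgroup H} {w : W} : w ∈ fixA W X ↔ ∀ x ∈ X, x • w = w := Iff.rfl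

theorem fixA_anti {X Y : Subgroup H} (h : X ≤ Y) : fixA W Y ≤ fixA W X :=
  fun _ hw x hx => hw x (h hx)

/-- Fixed points of a single element. -/
abbrev fix1 (W : Type*) [AddCommGroup W] [DistribMulAction H W] (g : H) : AddSubgroup W :=
  fixA W (Subgroup.zpowers g)

theorem fixA_iff_fixingSubgroup {X : Subgroup H} {w : W} :
    w ∈ fixA W X ↔ X ≤ MulAction.stabilizer H w := Iff.rfl

theorem mem_fix1 {g : H} {w : W} : w ∈ fix1 W g ↔ g • w = w := by
  rw [fix1, fixA_iff_fixingSubgroup, Subgroup.zpowers_le]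
  rfl

theorem fixA_sup (X Y : Subgroup H) : fixA W (X ⊔ Y) = fixA W X ⊓ fixA W Y := by
  ext w
  rw [AddSubgroup.mem_inf, fixA_iff_fixingSubgroup, fixA_iff_fixingSubgroup,
    fixA_iff_fixingSubgroup, sup_le_iff]

theorem card_sup_mul_inf [Finite W] (S T : AddSubgroup W) :
    Nat.card ↥(S ⊔ T) * Nat.card ↥(S ⊓ T) = Nat.card S * Nat.card T := by
  let f : S × T →+ ↥(S ⊔ T) :=
    AddMonoidHom.coprod (AddSubgroup.inclusion le_sup_left) (AddSubgroup.inclusion le_sup_right)
  have hf : Function.Surjective f := by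
    intro x
    obtain ⟨s, hs, t, ht, hst⟩ := AddSubgroup.mem_sup.mp x.2
    exact ⟨(⟨s, hs⟩, ⟨t, ht⟩), Subtype.ext hst⟩
  have hker : ↥(S ⊓ T) ≃ f.ker :=
    { toFun := fun x => ⟨(⟨x.1, x.2.1⟩, ⟨-x.1, T.neg_mem x.2.2⟩), Subtype.ext (add_neg_cancel x.1)⟩
      invFun := fun y => ⟨y.1.1.1, y.1.1.2, by
        have : (y.1.1 : W) + y.1.2 = 0 := congrArg Subtype.val y.2
        rw [eq_neg_of_add_eq_zero_left this]
        exact T.neg_mem y.1.2.2⟩
      left_inv := fun _ => rfl
      right_inv := fun y => by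
        have : (y.1.1 : W) + y.1.2 = 0 := congrArg Subtype.val y.2
        refine Subtype.ext (Prod.ext rfl (Subtype.ext ?_))
        exact (eq_neg_of_add_eq_zero_right this).symm }
  rw [← Nat.card_prod S T, AddSubgroup.card_eq_card_quotient_mul_card_addSubgroup f.ker,
    Nat.card_congr (QuotientAddGroup.quotientKerEquivOfSurjective f hf).toEquiv,
    Nat.card_congr hker]

variable (p) in
/-- In exponent `p`, an element of order `p` acts unipotently. -/
theorem exists_fix_mod [Fact p.Prime] (hW : ∀ w : W, p • w = 0) {b : H} (hb : b ^ p = 1)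
    (M : AddSubgroup W) (P : W → Prop) (hP : ∀ w, P w → P (b • w - w)) {w : W} (hw : w ∉ M)
    (hPw : P w) : ∃ w', w' ∉ M ∧ P w' ∧ b • w' - w' ∈ M := by
  let B : AddMonoid.End W := DistribMulAction.toAddMonoidEnd H W b
  have hBapp : ∀ v, B v = b • v := fun v => rfl
  let D : AddMonoid.End W := B - 1
  have hD : ∀ v, D v = b • v - v := fun v => rfl
  have hpow : D ^ p = 0 := by
    have hc : Commute D 1 := Commute.one_right D
    obtain ⟨r, hr⟩ := hc.exists_add_pow_prime_eq (Fact.out : p.Prime)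
    have hB : B ^ p = 1 := by
      show (DistribMulAction.toAddMonoidEnd H W b) ^ p = 1
      rw [← map_pow, hb, map_one]
    have hp0 : (p : AddMonoid.End W) = 0 := by
      ext v
      rw [AddMonoid.End.natCast_apply]
      exact hW v
    rw [show D + 1 = B from sub_add_cancel B 1, hB, one_pow, hp0, zero_mul, zero_mul, zero_mul,
      add_zero] at hr
    exact left_eq_add.mp (hr.trans (add_comm _ _))
  have key : ∀ n (v : W), (D ^ n) v = 0 → v ∉ M → P v →
      ∃ w', w' ∉ M ∧ P w' ∧ b • w' - w' ∈ M := by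
    intro n
    induction n with
    | zero =>
      intro v h1 h2
      rw [pow_zero, AddMonoid.End.coe_one, id_eq] at h1
      exact absurd (h1.symm ▸ M.zero_mem : v ∈ M) h2
    | succ n ih =>
      intro v h1 h2 h3
      by_cases h : D v ∈ M
      · exact ⟨v, h2, h3, hD v ▸ h⟩
      · rw [pow_succ] at h1
        exact ih (D v) h1 h (hD v ▸ hP v h3)
  exact key p w (by rw [hpow]; rfl) hw hPw

/-- A commutative group of exponent `p` has a point fixed modulo any proper invariant subgroup. -/
theorem exists_fix_all_mod [Fact p.Prime] [Finite H] (hW : ∀ w : W, p • w = 0) (A : Subgroup H)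
    (hcomm : ∀ a ∈ A, ∀ b ∈ A, Commute a b) (hpow : ∀ a ∈ A, a ^ p = 1) (M : AddSubgroup W)
    (hM : ∀ a ∈ A, ∀ m ∈ M, a • m ∈ M) (hne : M ≠ ⊤) :
    ∃ w, w ∉ M ∧ ∀ a ∈ A, a • w - w ∈ M := by
  classical
  haveI : Fintype H := Fintype.ofFinite H
  have key : ∀ s : Finset H, (∀ a ∈ s, a ∈ A) → ∃ w, w ∉ M ∧ ∀ a ∈ s, a • w - w ∈ M := by
    intro s
    induction s using Finset.induction_on with
    | empty =>
      intro _
      obtain ⟨w, hw⟩ := SetLike.exists_not_mem_of_ne_top M hne rfl
      exact ⟨w, hw, by simp⟩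
    | insert b s _ ih =>
      intro hs
      obtain ⟨w, hw, hws⟩ := ih fun a ha => hs a (Finset.mem_insert_of_mem ha)
      have hbA := hs b (Finset.mem_insert_self b s)
      obtain ⟨w', h1, h2, h3⟩ := exists_fix_mod p hW (hpow b hbA) M
        (fun v => ∀ a ∈ s, a • v - v ∈ M) (fun v hv a ha => by
          have hc := (hcomm a (hs a (Finset.mem_insert_of_mem ha)) b hbA).eq
          have := M.sub_mem (hM b hbA _ (hv a ha)) (hv a ha)
          have e : a • (b • v - v) - (b • v - v) = b • (a • v - v) - (a • v - v) := by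
            rw [smul_sub, smul_sub, ← mul_smul, ← mul_smul, hc]
            abel
          rw [e]; exact this) hw hws
      refine ⟨w', h1, fun a ha => ?_⟩
      rcases Finset.mem_insert.mp ha with rfl | ha
      · exact h3
      · exact h2 a ha
  obtain ⟨w, h1, h2⟩ := key (Finset.univ.filter fun a => a ∈ A) (by simp)
  exact ⟨w, h1, fun a ha => h2 a (by simp [ha])⟩

/-- A `p'`-element centralising the `p`-element `b` and its fixed points is trivial. -/
theorem eq_one_of_fix [Fact p.Prime] [FaithfulSMul H W] (hW : ∀ w : W, p • w = 0) {b x : H}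
    (hb : b ^ p = 1) (hc : Commute x b) {n : ℕ} (hxn : x ^ n = 1) (hn : ¬ p ∣ n)
    (hfix : ∀ w : W, b • w = w → x • w = w) : x = 1 := by
  refine FaithfulSMul.eq_of_smul_eq_smul fun w : W => ?_
  rw [one_smul]
  by_contra hne
  obtain ⟨w', h1, -, h3⟩ := exists_fix_mod p hW hb (fix1 W x) (fun _ => True)
    (fun _ _ => trivial) (w := w) (fun h => hne (mem_fix1.mp h)) trivial
  apply h1
  rw [mem_fix1] at h3 ⊢
  have h4 : b • (x • w' - w') = x • w' - w' := by
    rw [smul_sub, ← mul_smul, ← hc.eq, mul_smul]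
    rw [smul_sub] at h3
    rw [sub_eq_sub_iff_add_eq_add] at h3 ⊢
    rw [h3]; abel
  have h5 := hfix _ h4
  have h6 : ∀ m : ℕ, x ^ m • w' = w' + m • (x • w' - w') := by
    intro m
    induction m with
    | zero => simp
    | succ m ih =>
      have h7 : x • m • (x • w' - w') = m • (x • w' - w') := by rw [smul_comm, h5]
      rw [pow_succ', mul_smul, ih, smul_add, h7, add_smul, one_smul]
      abel
  have h7 : n • (x • w' - w') = 0 := by
    have := h6 n
    rw [hxn, one_smul] at this
    exact left_eq_add.mp this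
  have h8 : addOrderOf (x • w' - w') ∣ Nat.gcd p n :=
    Nat.dvd_gcd (addOrderOf_dvd_of_nsmul_eq_zero (hW _)) (addOrderOf_dvd_of_nsmul_eq_zero h7)
  rw [(Nat.Prime.coprime_iff_not_dvd Fact.out).mpr hn, Nat.dvd_one,
    AddMonoid.addOrderOf_eq_one_iff, sub_eq_zero] at h8
  exact h8

end Cfsg.Agent.PGVBasic
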