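import Mathlib
import Cfsg.Agent.Lib.PGVBasic

/-! The configuration left after the reductions in the P(G,V)-theorem, and its irreducibility. -/

set_option autoImplicit false
set_option linter.style.haveILetI false

namespace Cfsg.Agent.PGVConf

open Cfsg.Agent.PGVBasic

variable {H : Type*} [Group H] {W : Type*} [AddCommGroup W] [DistribMulAction H W]

variable (W) in
/-- The configuration: `a` permutes commuting conjugates of `K`, the orbit products and `B`
centralise `[W, a]`, and the counting inequalities. -/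
structure Conf (p : ℕ) (a : H) (K B : Subgroup H) : Prop where
  perf : commutator K = ⊤
  ne : K ≠ ⊥
  qs : QS K
  orb : Orb p a K
  tw : ∀ k ∈ K, ∀ w : W, phi a k p • (a • w - w) = a • w - w
  bcomm : ∀ b ∈ B, Commute b a
  bab : ∀ b ∈ B, ∀ b' ∈ B, Commute b b'
  bpow : ∀ b ∈ B, b ^ p = 1
  bnorm : ∀ b ∈ B, ∀ k ∈ K, gc b k ∈ K
  bfaith : ∀ b ∈ B, (∀ k ∈ K, Commute b k) → b = 1
  bfix : ∀ b ∈ B, ∀ w : W, b • (a • w - w) = a • w - w
  cnt1 : B = ⊥ → Nat.card W ≤ p * Nat.card (fix1 W a)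
  cnt2 : Nat.card W ≤ p * Nat.card B * Nat.card (fixA W B)

theorem map_gc {H' : Type*} [Group H'] (f : H →* H') (g k : H) : f (gc g k) = gc (f g) (f k) := by
  simp [gc]

theorem map_phi {H' : Type*} [Group H'] (f : H →* H') (h k : H) :
    ∀ n, f (phi h k n) = phi (f h) (f k) n
  | 0 => by simp [phi]
  | n + 1 => by simp [phi, map_phi f h k n, map_gc]

/-- A hom on a perfect subgroup whose values commute with `b` up to a central kernel. -/
theorem deviation_of_ker {K : Subgroup H} {H' : Type*} [Group H'] (perf : commutator K = ⊤)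
    (qs : QS K) (ψ : K →* H') (hψ : ∃ k, ψ k ≠ 1) {b : H} (hb : ∀ k ∈ K, gc b k ∈ K)
    (hker : ∀ k : K, ψ ⟨gc b k, hb k k.2⟩ = ψ k) : ∀ k ∈ K, Commute b k := by
  have hN : ψ.ker ≤ Subgroup.center K := by
    rcases qs ψ.ker inferInstance with h | h
    · obtain ⟨k, hk⟩ := hψ
      exact absurd (h ▸ Subgroup.mem_top k : k ∈ ψ.ker) hk
    · exact h
  refine perfect_commute_of_deviation perf hb fun k hk l hl => ?_
  have : (⟨k, hk⟩ : K)⁻¹ * ⟨gc b k, hb k hk⟩ ∈ ψ.ker := by
    rw [MonoidHom.mem_ker, map_mul, map_inv, hker ⟨k, hk⟩, inv_mul_cancel]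
  exact (congrArg Subtype.val (Subgroup.mem_center_iff.mp (hN this) ⟨l, hl⟩)).symm

/-- Transport of a configuration along a homomorphism that is nontrivial on `K`. -/
theorem transfer {p : ℕ} {a : H} {K B : Subgroup H} (c : Conf W p a K B) {W' : Type*}
    [AddCommGroup W'] {H' : Type*} [Group H'] [DistribMulAction H' W']
    (S : Subgroup H) (π : S →* H') (ha : a ∈ S) (hK : K ≤ S) (hB : B ≤ S)
    (hne : ∃ k : K, π (Subgroup.inclusion hK k) ≠ 1)
    (htw : ∀ k : K, ∀ w : W', phi (π ⟨a, ha⟩) (π (Subgroup.inclusion hK k)) p •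
      (π ⟨a, ha⟩ • w - w) = π ⟨a, ha⟩ • w - w)
    (hbf : ∀ b : B, ∀ w : W', π (Subgroup.inclusion hB b) •
      (π ⟨a, ha⟩ • w - w) = π ⟨a, ha⟩ • w - w)
    (h1 : B = ⊥ → Nat.card W' ≤ p * Nat.card (fix1 W' (π ⟨a, ha⟩)))
    (h2 : Nat.card W' ≤
      p * Nat.card B * Nat.card (fixA W' (π.comp (Subgroup.inclusion hB)).range)) :
    Conf W' p (π ⟨a, ha⟩) (π.comp (Subgroup.inclusion hK)).range
      (π.comp (Subgroup.inclusion hB)).range := by
  set ψ := π.comp (Subgroup.inclusion hK) with hψ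
  set χ := π.comp (Subgroup.inclusion hB) with hχ
  have hfaith : ∀ b : B, (∀ k : K, Commute (χ b) (ψ k)) → b = 1 := by
    intro b hb
    refine Subtype.ext (c.bfaith b b.2 (deviation_of_ker c.perf c.qs ψ hne (c.bnorm b b.2) ?_))
    intro k
    have e : Subgroup.inclusion hK ⟨gc b k, c.bnorm b b.2 k k.2⟩ =
        gc (Subgroup.inclusion hB b) (Subgroup.inclusion hK k) := by
      apply Subtype.ext
      simp [gc]
    show π (Subgroup.inclusion hK _) = π (Subgroup.inclusion hK k)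
    rw [e, map_gc]
    exact gc_of_commute (hb k)
  have hinj : Function.Injective χ := by
    rw [injective_iff_map_eq_one]
    intro b hb
    exact hfaith b fun k => by rw [hb]; exact Commute.one_left _
  have hcard : Nat.card χ.range = Nat.card B := (Nat.card_congr (χ.ofInjective hinj).toEquiv).symm
  refine
    { perf := perfect_range c.perf ψ
      ne := ?_
      qs := qs_range c.qs ψ
      orb := ⟨?_, ?_⟩
      tw := ?_
      bcomm := ?_
      bab := ?_
      bpow := ?_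
      bnorm := ?_
      bfaith := ?_
      bfix := ?_
      cnt1 := ?_
      cnt2 := by rw [hcard]; exact h2 }
  · intro h
    obtain ⟨k, hk⟩ := hne
    exact hk (Subgroup.mem_bot.mp (h ▸ ⟨k, rfl⟩ : ψ k ∈ (⊥ : Subgroup H')))
  · rw [← map_pow, show (⟨a, ha⟩ : S) ^ p = 1 from Subtype.ext c.orb.pow, map_one]
  · rintro i hi hip _ ⟨k, rfl⟩ _ ⟨l, rfl⟩
    have h := c.orb.comm i hi hip k k.2 l l.2
    have h' : Commute (Subgroup.inclusion hK k) (gc ((⟨a, ha⟩ : S) ^ i)
        (Subgroup.inclusion hK l)) := by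
      apply Subtype.ext
      simpa [gc] using h.eq
    have := h'.map π
    rwa [map_gc, map_pow] at this
  · rintro _ ⟨k, rfl⟩ w
    exact htw k w
  · rintro _ ⟨b, rfl⟩
    exact (Commute.map (show Commute (Subgroup.inclusion hB b) (⟨a, ha⟩ : S) from
      Subtype.ext (c.bcomm b b.2).eq) π)
  · rintro _ ⟨b, rfl⟩ _ ⟨b', rfl⟩
    exact Commute.map (show Commute b b' from Subtype.ext (c.bab b b.2 b' b'.2).eq) χ
  · rintro _ ⟨b, rfl⟩
    rw [← map_pow, show b ^ p = 1 from Subtype.ext (c.bpow b b.2), map_one]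
  · rintro _ ⟨b, rfl⟩ _ ⟨k, rfl⟩
    refine ⟨⟨gc b k, c.bnorm b b.2 k k.2⟩, ?_⟩
    show π _ = gc (π _) (π _)
    rw [← map_gc]
    congr 1
  · rintro _ ⟨b, rfl⟩ hb
    rw [hfaith b fun k => hb _ ⟨k, rfl⟩, map_one]
  · rintro _ ⟨b, rfl⟩ w
    exact hbf b w
  · intro h
    refine h1 ?_
    rw [← Subgroup.card_eq_one, ← hcard, h, Subgroup.card_bot]

variable {p : ℕ} {a : H} {K B : Subgroup H}

/-- Invariance under all conjugates `a^i K a^-i`. -/
def LInv (a : H) (K : Subgroup H) (M : AddSubgroup W) : Prop :=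
  ∀ i : ℕ, ∀ k ∈ K, ∀ m ∈ M, gc (a ^ i) k • m ∈ M

/-- Invariance under `a`, `K` and `B`. -/
structure Inv (a : H) (K B : Subgroup H) (M : AddSubgroup W) : Prop where
  mem_a : ∀ m ∈ M, a • m ∈ M
  mem_K : ∀ k ∈ K, ∀ m ∈ M, k • m ∈ M
  mem_B : ∀ b ∈ B, ∀ m ∈ M, b • m ∈ M

theorem perfect_fix (perf : commutator K = ⊤) {M : Set W} (hM : ∀ k ∈ K, ∀ m ∈ M, k • m ∈ M)
    (hc : ∀ k ∈ K, ∀ l ∈ K, ∀ m ∈ M, k • l • m = l • k • m) :
    ∀ k ∈ K, ∀ m ∈ M, k • m = m := by
  intro k hk m hm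
  have h : commutator K ≤ (fixingSubgroup H M).subgroupOf K := by
    rw [commutator_def, Subgroup.commutator_le]
    intro x _ y _
    rw [Subgroup.mem_subgroupOf, mem_fixingSubgroup_iff]
    intro v hv
    have h1 := hM _ (inv_mem y.2) v hv
    have h2 := hM _ (inv_mem x.2) _ h1
    simp only [commutatorElement_def, Subgroup.coe_mul, InvMemClass.coe_inv, mul_smul]
    rw [hc x x.2 y y.2 _ h2, smul_inv_smul, smul_inv_smul]
  rw [perf] at h
  exact (mem_fixingSubgroup_iff H).mp (h (Subgroup.mem_top (⟨k, hk⟩ : K))) m hm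

/-- The image of `M` under `g`. -/
def mv (g : H) (M : AddSubgroup W) : AddSubgroup W := M.map (DistribSMul.toAddMonoidHom W g)

theorem mem_mv {g : H} {M : AddSubgroup W} {w : W} : w ∈ mv g M ↔ g⁻¹ • w ∈ M := by
  constructor
  · rintro ⟨m, hm, rfl⟩
    show g⁻¹ • g • m ∈ M
    rwa [inv_smul_smul]
  · intro h
    exact ⟨g⁻¹ • w, h, smul_inv_smul g w⟩

theorem mv_ne_bot {g : H} {M : AddSubgroup W} (h : M ≠ ⊥) : mv g M ≠ ⊥ := by
  intro e
  apply h
  rw [eq_bot_iff]
  intro m hm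
  have : g • m ∈ mv g M := mem_mv.mpr (by rwa [inv_smul_smul])
  rw [e, AddSubgroup.mem_bot, smul_eq_zero_iff_eq] at this
  exact this

variable [Fact p.Prime]

theorem Conf.pp (c : Conf W p a K B) : 0 < p := (Fact.out : p.Prime).pos

theorem pow_inv_eq (o : Orb p a K) (j : ℕ) : (a ^ j)⁻¹ = a ^ ((p - 1) * j) := by
  have hp := (Fact.out : p.Prime).one_lt
  refine inv_eq_of_mul_eq_one_left ?_
  rw [← pow_add, show (p - 1) * j + j = p * j by rw [← Nat.succ_mul]; congr 1; omega,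
    pow_mul, o.pow, one_pow]

theorem linv_mv_a (c : Conf W p a K B) {M : AddSubgroup W} (hM : LInv a K M) (j : ℕ) :
    LInv a K (mv (a ^ j) M) := by
  intro i k hk w hw
  rw [mem_mv] at hw ⊢
  have h := hM ((p - 1) * j + i) k hk _ hw
  rw [pow_add, ← pow_inv_eq c.orb, ← mul_smul] at h
  rw [← mul_smul]
  convert h using 2
  simp only [gc]; group

theorem linv_mv_B (c : Conf W p a K B) {M : AddSubgroup W} (hM : LInv a K M) {b : H}
    (hb : b ∈ B) : LInv a K (mv b M) := by
  intro i k hk w hw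
  rw [mem_mv] at hw ⊢
  have h := hM i _ (c.bnorm b⁻¹ (inv_mem hb) k hk) _ hw
  rw [gc_gc, ← ((c.bcomm b⁻¹ (inv_mem hb)).pow_right i).eq, ← mul_smul] at h
  rw [← mul_smul]
  convert h using 2
  simp only [gc]; group

theorem linv_inf {M N : AddSubgroup W} (hM : LInv a K M) (hN : LInv a K N) :
    LInv a K (M ⊓ N) := fun i k hk _ hm => ⟨hM i k hk _ hm.1, hN i k hk _ hm.2⟩

/-- A nonzero minimal `LInv` subgroup. -/
def MinL (a : H) (K : Subgroup H) (U : AddSubgroup W) : Prop :=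
  U ≠ ⊥ ∧ LInv a K U ∧ ∀ M : AddSubgroup W, LInv a K M → M ≠ ⊥ → M ≤ U → M = U

theorem min_mv_a (c : Conf W p a K B) {U : AddSubgroup W} (hU : MinL a K U) (j : ℕ) :
    MinL a K (mv (a ^ j) U) := by
  refine ⟨mv_ne_bot hU.1, linv_mv_a c hU.2.1 j, fun M hM hne hle => le_antisymm hle ?_⟩
  have h := hU.2.2 (mv (a ^ ((p - 1) * j)) M) (linv_mv_a c hM _) (mv_ne_bot hne) (by
    intro w hw
    rw [mem_mv, ← pow_inv_eq c.orb, inv_inv] at hw
    have := mem_mv.mp (hle hw)
    rwa [inv_smul_smul] at this)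
  intro w hw
  rw [mem_mv] at hw
  rw [← h, mem_mv, ← pow_inv_eq c.orb, inv_inv, smul_inv_smul] at hw
  exact hw

/-- In an irreducible configuration no point is fixed by all conjugates of `K`. -/
theorem fix_eq_zero (c : Conf W p a K B) [FaithfulSMul H W]
    (irr : ∀ M : AddSubgroup W, Inv a K B M → M = ⊥ ∨ M = ⊤) {w : W}
    (hw : ∀ i : ℕ, ∀ k ∈ K, gc (a ^ i) k • w = w) : w = 0 := by
  let M : AddSubgroup W :=
    { carrier := {v | ∀ i : ℕ, ∀ k ∈ K, gc (a ^ i) k • v = v}
      zero_mem' := fun i k _ => smul_zero _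
      add_mem' := fun {x y} hx hy i k hk => by rw [smul_add, hx i k hk, hy i k hk]
      neg_mem' := fun {x} hx i k hk => by rw [smul_neg, hx i k hk] }
  have hM : Inv a K B M := by
    refine ⟨fun m hm i k hk => ?_, fun k hk m hm => ?_, fun b hb m hm i k hk => ?_⟩
    · have h := hm ((p - 1) + i) k hk
      rw [pow_add, show a ^ (p - 1) = a⁻¹ by
        rw [← pow_one a, pow_inv_eq c.orb, mul_one, pow_one]] at h
      conv_rhs => rw [← h]
      rw [← mul_smul, ← mul_smul]
      congr 1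
      simp only [gc]; group
    · have h := hm 0 k hk
      rw [pow_zero, one_gc] at h
      rw [h]; exact hm
    · have h := hm i _ (c.bnorm b⁻¹ (inv_mem hb) k hk)
      rw [gc_gc, ← ((c.bcomm b⁻¹ (inv_mem hb)).pow_right i).eq] at h
      conv_rhs => rw [← h]
      rw [← mul_smul, ← mul_smul]
      congr 1
      simp only [gc]; group
  rcases irr M hM with h | h
  · exact AddSubgroup.mem_bot.mp (h ▸ hw : w ∈ (⊥ : AddSubgroup W))
  · exfalso
    apply c.ne
    rw [eq_bot_iff]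
    intro k hk
    rw [Subgroup.mem_bot]
    refine FaithfulSMul.eq_of_smul_eq_smul fun v : W => ?_
    have := (h ▸ AddSubgroup.mem_top v : v ∈ M) 0 k hk
    rw [pow_zero, one_gc] at this
    rw [this, one_smul]

/-- An irreducible configuration has no proper nonzero `LInv` subgroup. -/
theorem l_irred (c : Conf W p a K B) [FaithfulSMul H W] [Finite W]
    (irr : ∀ M : AddSubgroup W, Inv a K B M → M = ⊥ ∨ M = ⊤) {M : AddSubgroup W}
    (hM : LInv a K M) : M = ⊥ ∨ M = ⊤ := by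
  by_contra hcon
  simp only [not_or] at hcon
  obtain ⟨hbot, htop⟩ := hcon
  obtain ⟨U, ⟨hU0, hU1, hUM⟩, hmin⟩ := exists_minimal_of_wellFoundedLT
    (fun N : AddSubgroup W => N ≠ ⊥ ∧ LInv a K N ∧ N ≤ M) ⟨M, hbot, hM, le_rfl⟩
  have hU : MinL a K U :=
    ⟨hU0, hU1, fun N hN hne hle => le_antisymm hle (hmin ⟨hne, hN, hle.trans hUM⟩ hle)⟩
  -- a minimal subgroup moved by `a` is centralised by `K`
  have moved : ∀ U' : AddSubgroup W, MinL a K U' → mv a U' ≠ U' →
      ∀ k ∈ K, ∀ u ∈ U', k • u = u := by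
    intro U' hU' hne
    have hdisj : mv a U' ⊓ U' = ⊥ := by
      by_contra h
      have hmv : MinL a K (mv a U') := by simpa only [pow_one] using min_mv_a c hU' 1
      exact hne ((hmv.2.2 _ (linv_inf hmv.2.1 hU'.2.1) h inf_le_left).symm.trans
        (hU'.2.2 _ (linv_inf hmv.2.1 hU'.2.1) h inf_le_right))
    have hphi : ∀ k ∈ K, ∀ n, ∀ u ∈ U', phi a k n • u ∈ U' := by
      intro k hk n
      induction n with
      | zero => intro u hu; rwa [phi, one_smul]
      | succ n ih => intro u hu; rw [phi, mul_smul]; exact ih _ (hU'.2.1 n k hk u hu)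
    have hfix : ∀ k ∈ K, ∀ u ∈ U', phi a k p • u = u := by
      intro k hk u hu
      have h1 := c.tw k hk u
      rw [smul_sub, ← mul_smul, ← (commute_phi c.orb c.pp hk).eq, mul_smul,
        sub_eq_sub_iff_sub_eq_sub, ← smul_sub] at h1
      have h2 : phi a k p • u - u ∈ U' := U'.sub_mem (hphi k hk p u hu) hu
      have h3 : a • (phi a k p • u - u) ∈ mv a U' := mem_mv.mpr (by rwa [inv_smul_smul])
      have h4 : phi a k p • u - u ∈ mv a U' ⊓ U' := ⟨h1 ▸ h3, h2⟩
      rw [hdisj, AddSubgroup.mem_bot, sub_eq_zero] at h4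
      exact h4
    intro k hk u hu
    refine perfect_fix c.perf (M := (U' : Set W))
      (fun k hk m hm => by simpa [one_gc] using hU'.2.1 0 k hk m hm) ?_ k hk u hu
    intro k hk l hl m hm
    obtain ⟨n, hn⟩ : ∃ n, p = n + 1 := ⟨p - 1, by have := c.pp; omega⟩
    have hrest : ∀ v ∈ U', k • gc a (phi a k n) • v = v := fun v hv => by
      rw [← mul_smul, ← phi_succ_left, ← hn]; exact hfix k hk v hv
    have hcl := rest_commute c.orb hk hl n hn.ge
    have hlm : l • m ∈ U' := by simpa [one_gc] using hU'.2.1 0 l hl m hm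
    have h1 : ∀ v ∈ U', k • v = (gc a (phi a k n))⁻¹ • v := fun v hv => by
      have hck := rest_commute c.orb hk hk n hn.ge
      rw [eq_inv_smul_iff, ← mul_smul, ← hck.eq, mul_smul, hrest v hv]
    rw [h1 _ hlm, h1 m hm, ← mul_smul, ← mul_smul, hcl.inv_right.eq]
  have haU : mv a U = U := by
    by_contra hne
    obtain ⟨u, hu, hu0⟩ := (AddSubgroup.bot_or_exists_ne_zero U).resolve_left hU0
    refine hu0 (fix_eq_zero c irr fun i k hk => ?_)
    have hmem : a ^ ((p - 1) * i) • u ∈ mv (a ^ ((p - 1) * i)) U :=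
      mem_mv.mpr (by rwa [inv_smul_smul])
    have hne' : mv a (mv (a ^ ((p - 1) * i)) U) ≠ mv (a ^ ((p - 1) * i)) U := by
      intro e
      apply hne
      ext w
      have := SetLike.ext_iff.mp e (a ^ ((p - 1) * i) • w)
      rw [mem_mv, mem_mv, mem_mv, inv_smul_smul] at this
      rw [mem_mv, ← this, ← mul_smul, ← mul_smul]
      refine iff_of_eq (congrArg (fun g => g • w ∈ U) ?_)
      have hc : Commute a⁻¹ (a ^ ((p - 1) * i)) := ((Commute.refl a).inv_left).pow_right _
      rw [mul_assoc, hc.eq, inv_mul_cancel_left]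
    have h := moved _ (min_mv_a c hU _) hne' k hk _ hmem
    rw [← pow_inv_eq c.orb] at h
    rw [gc, mul_smul, mul_smul, h, smul_inv_smul]
  have hinva : ∀ m ∈ U, a • m ∈ U := fun m hm => by
    rw [← haU, mem_mv, inv_smul_smul]; exact hm
  have hK0 : ∀ k ∈ K, ∀ m ∈ U, k • m ∈ U := fun k hk m hm => by
    simpa [one_gc] using hU1 0 k hk m hm
  obtain ⟨t, ht, ht0⟩ : ∃ u ∈ U, a • u - u ≠ 0 := by
    by_contra h
    simp only [not_exists, not_and, not_not, sub_eq_zero] at h
    have hinv : ∀ u ∈ U, a⁻¹ • u = u := fun u hu => by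
      rw [inv_smul_eq_iff, h u hu]
    have hpw : ∀ (i : ℕ), ∀ u ∈ U, a ^ i • u = u ∧ (a ^ i)⁻¹ • u = u := by
      intro i u hu
      induction i with
      | zero => simp
      | succ i ih =>
        refine ⟨?_, ?_⟩
        · rw [pow_succ, mul_smul, h u hu, ih.1]
        · rw [pow_succ', mul_inv_rev, mul_smul, hinv u hu, ih.2]
    have hK : ∀ k ∈ K, ∀ u ∈ U, k • u = u := by
      refine perfect_fix c.perf (M := (U : Set W)) hK0 ?_
      intro k hk l hl m hm
      have hgk : ∀ v ∈ U, gc a k • v = k • v := fun v hv => by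
        rw [gc, mul_smul, mul_smul, hinv v hv, h _ (hK0 k hk v hv)]
      have hc : Commute l (gc a k) := by
        simpa using c.orb.comm 1 one_pos (Fact.out : p.Prime).one_lt l hl k hk
      rw [← hgk _ (hK0 l hl m hm), ← hgk m hm, ← mul_smul, ← mul_smul, hc.eq]
    obtain ⟨u, hu, hu0⟩ := (AddSubgroup.bot_or_exists_ne_zero U).resolve_left hU0
    refine hu0 (fix_eq_zero c irr fun i k hk => ?_)
    rw [gc, mul_smul, mul_smul, (hpw i u hu).2, hK k hk u hu, (hpw i u hu).1]
  have hUinv : Inv a K B U := by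
    refine ⟨hinva, hK0, fun b hb m hm => ?_⟩
    have hmem : a • t - t ∈ U ⊓ mv b⁻¹ U := by
      refine ⟨U.sub_mem (hinva t ht) ht, mem_mv.mpr ?_⟩
      rw [inv_inv, c.bfix b hb]
      exact U.sub_mem (hinva t ht) ht
    have hne : U ⊓ mv b⁻¹ U ≠ ⊥ := fun e => ht0 (AddSubgroup.mem_bot.mp (e ▸ hmem))
    have := hU.2.2 _ (linv_inf hU1 (linv_mv_B c hU1 (inv_mem hb))) hne inf_le_left
    have := mem_mv.mp (inf_eq_left.mp this hm)
    rwa [inv_inv] at this
  rcases irr U hUinv with h | h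
  · exact hU0 h
  · exact htop (eq_top_iff.mpr (h ▸ hUM))

/-- The odd case is impossible. -/
theorem false_of_odd (c : Conf W p a K B) [FaithfulSMul H W] [Finite W] (hp : p ≠ 2)
    (irr : ∀ M : AddSubgroup W, Inv a K B M → M = ⊥ ∨ M = ⊤) : False := by
  have hpr : p.Prime := Fact.out
  have h3 : 2 < p := lt_of_le_of_ne hpr.two_le (Ne.symm hp)
  have hc1 : ∀ k ∈ K, ∀ l ∈ K, Commute l (gc a k) := fun k hk l hl => by
    simpa using c.orb.comm 1 one_pos hpr.one_lt l hl k hk
  obtain ⟨k, hk, hkZ⟩ : ∃ k ∈ K, ∃ l ∈ K, ¬ Commute k l := by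
    by_contra h
    simp only [not_exists, not_and, not_not] at h
    apply c.ne
    rw [eq_bot_iff]
    intro k hk
    exact Subgroup.mem_bot.mpr (congrArg Subtype.val (perfect_hom_commute c.perf (MonoidHom.id K)
      (fun x y => Subtype.ext (h x x.2 y y.2).eq) ⟨k, hk⟩) : k = 1)
  have hgck : gc a k ≠ k := by
    intro e
    obtain ⟨l, hl, hne⟩ := hkZ
    exact hne (e ▸ hc1 k hk l hl).symm
  set z := phi a k p with hz
  have hza : Commute a z := commute_phi c.orb c.pp hk
  have hzk : Commute k z := by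
    obtain ⟨n, hn⟩ : ∃ n, p = n + 1 := ⟨p - 1, by have := c.pp; omega⟩
    rw [hz, hn, phi_succ_left]
    exact (Commute.refl k).mul_right (rest_commute c.orb hk hk n hn.ge)
  have hzk1 : Commute (gc a k) z := by
    have := gc_commute (g := a) hzk
    rwa [gc_of_commute hza] at this
  have hfa : ∀ w : W, a • (z • w - w) = z • w - w := by
    intro w
    have h1 := c.tw k hk w
    rw [← hz, smul_sub, ← mul_smul, ← hza.eq, mul_smul,
      sub_eq_sub_iff_sub_eq_sub, ← smul_sub] at h1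
    exact h1
  have hzDa : ∀ w : W, z • a • w - a • w = z • w - w := by
    intro w
    have h1 := c.tw k hk w
    rw [← hz, smul_sub, sub_eq_sub_iff_sub_eq_sub] at h1
    exact h1
  have hfixz : ∀ w : W, z • (k • w - gc a k • w) = k • w - gc a k • w := by
    intro w
    have e : k • (z • w - w) = gc a k • (z • w - w) := by
      conv_rhs => rw [← hfa w, ← mul_smul, ← mul_eq_gc_mul, mul_smul]
      rw [smul_sub k, ← mul_smul, hzk.eq, mul_smul, hfa]
    rw [smul_sub, smul_sub, ← mul_smul, ← mul_smul, hzk.eq, hzk1.eq, mul_smul, mul_smul,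
      sub_eq_sub_iff_sub_eq_sub] at e
    rw [smul_sub]
    exact e
  let N : Subgroup K :=
    { carrier := {x | ∀ w : W, gc (a ^ 2) x • (k • w - gc a k • w) = k • w - gc a k • w}
      one_mem' := fun w => by simp [gc_one]
      mul_mem' := fun {x y} hx hy w => by
        rw [Subgroup.coe_mul, gc_mul, mul_smul, hy w, hx w]
      inv_mem' := fun {x} hx w => by
        rw [InvMemClass.coe_inv, gc_inv, inv_smul_eq_iff, hx w] }
  have hck : ∀ y ∈ K, Commute (gc (a ^ 2) y) k := fun y hy =>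
    (c.orb.comm 2 two_pos h3 k hk y hy).symm
  have hck1 : ∀ y ∈ K, Commute (gc (a ^ 2) y) (gc a k) := fun y hy => by
    have := c.orb.commute_gc (i := 2) (j := 1)
      (by rw [Nat.mod_eq_of_lt h3, Nat.mod_eq_of_lt hpr.one_lt]; omega) c.pp hy hk
    rwa [pow_one] at this
  have hmovek : ∀ y ∈ K, ∀ w : W, gc (a ^ 2) y • (k • w - gc a k • w) =
      k • gc (a ^ 2) y • w - gc a k • gc (a ^ 2) y • w := fun y hy w => by
    rw [smul_sub, ← mul_smul, ← mul_smul, (hck y hy).eq, (hck1 y hy).eq, mul_smul, mul_smul]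
  have hN : N.Normal := by
    refine ⟨fun x hx y w => ?_⟩
    simp only [Subgroup.coe_mul, InvMemClass.coe_inv, gc_mul, mul_smul]
    rw [hmovek _ (inv_mem y.2) w, hx, hmovek y y.2]
    rw [← mul_smul (gc (a ^ 2) (y : H)), ← gc_mul, mul_inv_cancel, gc_one, one_smul]
  have hcomm : ∀ x : K, (x * ⟨k, hk⟩ * x⁻¹ * ⟨k, hk⟩⁻¹ : K) ∈ N := by
    intro x w
    show gc (a ^ 2) ((x : H) * k * (x : H)⁻¹ * k⁻¹) • _ = _
    have h := conj_phi c.orb c.pp hk x.2 2
    rw [← hz] at h
    set cc := gc (a ^ 2) ((x : H) * k * (x : H)⁻¹ * k⁻¹)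
    have h2 : cc • (z • (k • w - gc a k • w)) =
        gc (gc (a ^ 2) (x : H)) z • (k • w - gc a k • w) := by rw [h, mul_smul]
    rw [hfixz] at h2
    rw [h2, gc, mul_smul, mul_smul, ← gc_inv, hmovek _ (inv_mem x.2), hfixz,
      ← hmovek _ (inv_mem x.2), gc_inv, smul_inv_smul]
  have htop : N = ⊤ := by
    rcases c.qs N hN with h | h
    · exact h
    · exfalso
      obtain ⟨l, hl, hne⟩ := hkZ
      have := perfect_commute_of_deviation c.perf (b := k) (fun l hl => mul_mem (mul_mem hk hl)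
        (inv_mem hk)) (fun l hl m hm => ?_) l hl
      · exact hne this
      · have h1 := congrArg Subtype.val
          (Subgroup.mem_center_iff.mp (h (hcomm ⟨l⁻¹, inv_mem hl⟩)) ⟨m, hm⟩)
        simp only [Subgroup.coe_mul, InvMemClass.coe_inv, inv_inv] at h1
        show l⁻¹ * gc k l * m = m * (l⁻¹ * gc k l)
        rw [gc]
        simp only [← mul_assoc] at h1 ⊢
        exact h1.symm
  let M : AddSubgroup W :=
    { carrier := {v | ∀ y ∈ K, gc (a ^ 2) y • v = v}
      zero_mem' := fun y _ => smul_zero _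
      add_mem' := fun {x y} hx hy i hi => by rw [smul_add, hx i hi, hy i hi]
      neg_mem' := fun {x} hx i hi => by rw [smul_neg, hx i hi] }
  have hM : LInv a K M := by
    intro i l hl m hm y hy
    by_cases hi : i % p = 2 % p
    · rw [c.orb.pow_eq_mod i, hi, ← c.orb.pow_eq_mod 2, hm l hl, hm y hy]
    · rw [← mul_smul, ← (c.orb.commute_gc hi c.pp hl hy).eq, mul_smul, hm y hy]
  rcases l_irred c irr hM with h | h
  · apply hgck
    refine (FaithfulSMul.eq_of_smul_eq_smul fun w : W => ?_).symm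
    have hmem : k • w - gc a k • w ∈ M := fun y hy =>
      (htop ▸ Subgroup.mem_top (⟨y, hy⟩ : K) : (⟨y, hy⟩ : K) ∈ N) w
    rw [h, AddSubgroup.mem_bot, sub_eq_zero] at hmem
    exact hmem
  · apply c.ne
    rw [eq_bot_iff]
    intro y hy
    rw [Subgroup.mem_bot]
    have h1 : gc (a ^ 2) y = 1 := FaithfulSMul.eq_of_smul_eq_smul fun w : W => by
      rw [one_smul, (h ▸ AddSubgroup.mem_top w : w ∈ M) y hy]
    have h2 := congrArg (gc (a ^ 2)⁻¹) h1
    rwa [gc_gc, inv_mul_cancel, one_gc, gc_one] at h2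

end Cfsg.Agent.PGVConf
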