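import Mathlib
import Cfsg.Agent.Lib.PGVBasic

/-! Timmesfeld replacement for an abelian group acting on a finite abelian group. -/

set_option autoImplicit false
set_option linter.style.haveILetI false

namespace Cfsg.Agent.PGVReplace

open Cfsg.Agent.PGVBasic

variable {H : Type*} [Group H] {W : Type*} [AddCommGroup W] [DistribMulAction H W]

variable (W) in
/-- `|X| |C_W(X)|`. -/
noncomputable def wt (X : Subgroup H) : ℕ := Nat.card X * Nat.card (fixA W X)

variable (W) in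
/-- `A` maximises the weight among its subgroups. -/
def Maxi (A : Subgroup H) : Prop := ∀ B : Subgroup H, B ≤ A → wt W B ≤ wt W A

/-- `[W_S, A]`: the subgroup generated by `d v - v` for `v ∈ S`, `d ∈ A`. -/
def cm (A : Subgroup H) (S : Set W) : AddSubgroup W :=
  AddSubgroup.closure {w | ∃ v ∈ S, ∃ d ∈ A, d • v - v = w}

variable (W) in
/-- Elements fixing `[S, A]` pointwise. -/
def cmFix (A : Subgroup H) (S : Set W) : Subgroup H where
  carrier := {c | c ∈ A ∧ ∀ v ∈ S, ∀ d ∈ A, c • (d • v - v) = d • v - v}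
  one_mem' := ⟨A.one_mem, fun _ _ _ _ => one_smul H _⟩
  mul_mem' {a b} ha hb :=
    ⟨mul_mem ha.1 hb.1, fun v hv d hd => by rw [mul_smul, hb.2 v hv d hd, ha.2 v hv d hd]⟩
  inv_mem' {a} ha := ⟨inv_mem ha.1, fun v hv d hd => by
    conv_lhs => rw [← ha.2 v hv d hd]
    rw [inv_smul_smul]⟩

theorem cmFix_le (A : Subgroup H) (S : Set W) : cmFix W A S ≤ A := fun _ h => h.1

theorem card_relIndex {K L : Subgroup H} (h : K ≤ L) :
    Nat.card K * K.relIndex L = Nat.card L := by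
  rw [← Subgroup.relIndex_bot_left, ← Subgroup.relIndex_bot_left,
    Subgroup.relIndex_mul_relIndex ⊥ K L bot_le h]

theorem card_addRelIndex {S T : AddSubgroup W} (h : S ≤ T) :
    Nat.card S * S.relIndex T = Nat.card T := by
  rw [← AddSubgroup.relIndex_bot_left, ← AddSubgroup.relIndex_bot_left,
    AddSubgroup.relIndex_mul_relIndex ⊥ S T bot_le h]

theorem att_inf [Finite H] [Finite W] {A B C : Subgroup H}
    (hcomm : ∀ a ∈ A, ∀ b ∈ A, Commute a b) (hA : Maxi W A)
    (hB : B ≤ A) (hC : C ≤ A) (eB : wt W B = wt W A) (eC : wt W C = wt W A) :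
    wt W (B ⊓ C) = wt W A ∧ fixA W (B ⊓ C) = fixA W B ⊔ fixA W C := by
  have hn : B ≤ Subgroup.normalizer (C : Set H) := by
    refine Subgroup.le_normalizer_iff.2 fun b hb c hc => ?_
    rw [(hcomm b (hB hb) c (hC hc)).eq, mul_inv_cancel_right]; exact hc
  have hbc : Nat.card ↥(B ⊔ C) * Nat.card ↥(B ⊓ C) = Nat.card B * Nat.card C := by
    have := Subgroup.normal_subgroupOf_of_le_normalizer hn
    have := Subgroup.normal_subgroupOf_sup_of_le_normalizer hn
    have e := QuotientGroup.quotientInfEquivProdNormalizerQuotient B C hn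
    have h1 : C.relIndex B = C.relIndex (B ⊔ C) := Nat.card_congr e.toEquiv
    have h2 : Nat.card C * C.relIndex (B ⊔ C) = Nat.card ↥(B ⊔ C) := by
      exact card_relIndex le_sup_right
    have h3 : Nat.card ↥(B ⊓ C) * C.relIndex B = Nat.card B := by
      rw [← Subgroup.inf_relIndex_right, inf_comm, card_relIndex inf_le_right]
    rw [← h2, ← h3, h1]
    ring
  have hw := card_sup_mul_inf (fixA W B) (fixA W C)
  rw [← fixA_sup] at hw
  have hle : fixA W B ⊔ fixA W C ≤ fixA W (B ⊓ C) :=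
    sup_le (fixA_anti inf_le_left) (fixA_anti inf_le_right)
  have hcard := AddSubgroup.card_le_of_le hle
  have h1 := hA (B ⊓ C) (inf_le_left.trans hB)
  have h2 := hA (B ⊔ C) (sup_le hB hC)
  set m := wt W A with hm
  have hmpos : 0 < m := Nat.mul_pos Nat.card_pos Nat.card_pos
  have h3 : Nat.card ↥(B ⊓ C) * Nat.card ↥(fixA W B ⊔ fixA W C) * wt W (B ⊔ C) = m * m := by
    calc _ = Nat.card ↥(B ⊔ C) * Nat.card ↥(B ⊓ C) *
        (Nat.card ↥(fixA W B ⊔ fixA W C) * Nat.card ↥(fixA W (B ⊔ C))) := by rw [wt]; ring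
      _ = wt W B * wt W C := by rw [hbc, hw, wt, wt]; ring
      _ = m * m := by rw [eB, eC]
  have h1' : Nat.card ↥(B ⊓ C) * Nat.card ↥(fixA W B ⊔ fixA W C) ≤ m :=
    (Nat.mul_le_mul_left _ hcard).trans h1
  have hinf : Nat.card ↥(B ⊓ C) * Nat.card ↥(fixA W B ⊔ fixA W C) = m := by
    refine le_antisymm h1' (Nat.le_of_mul_le_mul_right ?_ hmpos)
    rw [← h3]
    exact Nat.mul_le_mul_left _ h2
  have hfull : wt W (B ⊓ C) = m := le_antisymm h1 (hinf ▸ Nat.mul_le_mul_left _ hcard)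
  exact ⟨hfull, (AddSubgroup.eq_of_le_of_card_ge hle
    (Nat.le_of_mul_le_mul_left (hfull.trans hinf.symm).le Nat.card_pos)).symm⟩

theorem cm_le_fix (A : Subgroup H) (S : Set W) : cm A S ≤ fixA W (cmFix W A S) := by
  refine (AddSubgroup.closure_le _).2 ?_
  rintro _ ⟨v, hv, d, hd, rfl⟩
  exact fun c hc => hc.2 v hv d hd

theorem att_single [Finite H] [Finite W] {A : Subgroup H}
    (hcomm : ∀ a ∈ A, ∀ b ∈ A, Commute a b) (hA : Maxi W A) (u : W) :
    wt W (cmFix W A {u}) = wt W A ∧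
      fixA W (cmFix W A {u}) = cm A {u} ⊔ fixA W A := by
  set Au := cmFix W A {u} with hAu
  set C := fixA W A with hC
  set S := cm A {u} ⊔ C with hS
  have hSfix : S ≤ fixA W Au :=
    sup_le (cm_le_fix A {u}) (fixA_anti (cmFix_le A {u}))
  have key : ∀ a ∈ A, ∀ b ∈ A, -(a • u - u) + (b • u - u) ∈ C → a⁻¹ * b ∈ Au := by
    intro a ha b hb hz
    refine ⟨mul_mem (inv_mem ha) hb, ?_⟩
    intro v hv d hd
    rw [Set.mem_singleton_iff] at hv
    subst hv
    have h := hz d hd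
    have e1 : -(a • v - v) + (b • v - v) = b • v - a • v := by abel
    rw [e1, smul_sub, ← mul_smul, ← mul_smul, (hcomm d hd b hb).eq, (hcomm d hd a ha).eq,
      mul_smul, mul_smul] at h
    rw [mul_smul, inv_smul_eq_iff, smul_sub, smul_sub]
    rw [sub_eq_sub_iff_sub_eq_sub] at h
    exact h
  let φ : A → ↥S ⧸ C.addSubgroupOf S := fun a =>
    QuotientAddGroup.mk (⟨(a : H) • u - u, le_sup_left (α := AddSubgroup W)
      (AddSubgroup.subset_closure ⟨u, rfl, a, a.2, rfl⟩)⟩ : S)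
  have hφ : ∀ a b : A, φ a = φ b → (a : A ⧸ Au.subgroupOf A) = b := by
    intro a b hab
    rw [QuotientGroup.eq]
    exact key a a.2 b b.2 ((QuotientAddGroup.eq (s := C.addSubgroupOf S)).1 hab)
  have hcard : Au.relIndex A ≤ C.relIndex S := by
    refine Nat.card_le_card_of_injective (fun q => φ q.out) fun q q' h => ?_
    have := hφ _ _ h
    rwa [QuotientGroup.out_eq', QuotientGroup.out_eq'] at this
  have eA : Nat.card A = Nat.card Au * Au.relIndex A :=
    (card_relIndex (cmFix_le A {u})).symm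
  have eS : Nat.card S = Nat.card C * C.relIndex S :=
    (card_addRelIndex (le_sup_right : C ≤ S)).symm
  have h1 : wt W A ≤ Nat.card Au * Nat.card S := by
    rw [wt, ← hC, eA, eS, mul_assoc, mul_comm (Nat.card C)]
    exact Nat.mul_le_mul_left _ (Nat.mul_le_mul_right _ hcard)
  have h3 := hA Au (cmFix_le A {u})
  have heq : wt W Au = wt W A :=
    le_antisymm h3 (h1.trans (Nat.mul_le_mul_left _ (AddSubgroup.card_le_of_le hSfix)))
  exact ⟨heq, (AddSubgroup.eq_of_le_of_card_ge hSfix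
    (Nat.le_of_mul_le_mul_left ((heq.le : Nat.card Au * _ ≤ _).trans h1) Nat.card_pos)).symm⟩

theorem att_all [Finite H] [Finite W] {A : Subgroup H}
    (hcomm : ∀ a ∈ A, ∀ b ∈ A, Commute a b) (hA : Maxi W A) :
    wt W (cmFix W A (Set.univ : Set W)) = wt W A ∧
      fixA W (cmFix W A (Set.univ : Set W)) = cm A Set.univ ⊔ fixA W A := by
  suffices h : ∀ S : Set W, S.Finite → wt W (cmFix W A S) = wt W A ∧
      fixA W (cmFix W A S) = cm A S ⊔ fixA W A from h _ Set.finite_univ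
  intro S hS
  induction S, hS using Set.Finite.induction_on with
  | empty =>
    have h1 : cmFix W A (∅ : Set W) = A :=
      le_antisymm (cmFix_le A ∅) fun c hc => ⟨hc, fun v hv => absurd hv (Set.notMem_empty v)⟩
    have h2 : cm A (∅ : Set W) = ⊥ := by
      rw [cm, AddSubgroup.closure_eq_bot_iff]
      rintro w ⟨v, hv, -⟩
      exact absurd hv (Set.notMem_empty v)
    rw [h1, h2, bot_sup_eq]
    exact ⟨rfl, rfl⟩
  | @insert u S _ _ ih =>
    obtain ⟨e1, f1⟩ := ih
    obtain ⟨e2, f2⟩ := att_single hcomm hA u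
    obtain ⟨e3, f3⟩ := att_inf hcomm hA (cmFix_le A {u}) (cmFix_le A S) e2 e1
    have h1 : cmFix W A (insert u S) = cmFix W A {u} ⊓ cmFix W A S := by
      ext c
      constructor
      · exact fun h => ⟨⟨h.1, fun v hv => h.2 v (Or.inl hv)⟩, h.1, fun v hv => h.2 v (Or.inr hv)⟩
      · rintro ⟨⟨h0, h⟩, _, h'⟩
        exact ⟨h0, fun v hv => hv.elim (fun e => h v e) (fun e => h' v e)⟩
    have h2 : cm A (insert u S) = cm A {u} ⊔ cm A S := by
      rw [cm, cm, cm, ← AddSubgroup.closure_union]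
      congr 1
      ext w
      constructor
      · rintro ⟨v, hv | hv, h⟩
        · exact Or.inl ⟨v, hv, h⟩
        · exact Or.inr ⟨v, hv, h⟩
      · rintro (⟨v, hv, h⟩ | ⟨v, hv, h⟩)
        · exact ⟨v, Or.inl hv, h⟩
        · exact ⟨v, Or.inr hv, h⟩
    rw [h1, h2, e3, f3, f1, f2, sup_sup_sup_comm, sup_idem]
    exact ⟨rfl, rfl⟩

variable {p : ℕ}

theorem cm_sup_fix_ne_top [Fact p.Prime] [Finite H] [Finite W] [FaithfulSMul H W]
    (hW : ∀ w : W, p • w = 0) {A : Subgroup H} (hcomm : ∀ a ∈ A, ∀ b ∈ A, Commute a b)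
    (hpow : ∀ a ∈ A, a ^ p = 1) (hA : A ≠ ⊥) : cm A Set.univ ⊔ fixA W A ≠ ⊤ := by
  intro htop
  let P : AddSubgroup W → Prop := fun M =>
    fixA W A ≤ M ∧ M ≠ ⊤ ∧ ∀ a ∈ A, ∀ m ∈ M, a • m ∈ M
  have hne : fixA W A ≠ ⊤ := by
    intro h
    apply hA
    rw [eq_bot_iff]
    intro a ha
    rw [Subgroup.mem_bot]
    refine FaithfulSMul.eq_of_smul_eq_smul fun w : W => ?_
    rw [one_smul]
    exact (h ▸ AddSubgroup.mem_top w : w ∈ fixA W A) a ha
  obtain ⟨M, ⟨hfix, hM, hinv⟩, hmax⟩ := exists_maximal_of_wellFoundedGT P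
    ⟨fixA W A, le_rfl, hne, fun a ha m hm => by rw [hm a ha]; exact hm⟩
  obtain ⟨w, hw, hwA⟩ := exists_fix_all_mod hW A hcomm hpow M hinv hM
  set M' := M ⊔ AddSubgroup.zmultiples w with hM'
  have hsmul : ∀ a ∈ A, ∀ v ∈ M', a • v - v ∈ M := by
    intro a ha v hv
    obtain ⟨m, hm, y, hy, rfl⟩ := AddSubgroup.mem_sup.mp hv
    obtain ⟨j, rfl⟩ := AddSubgroup.mem_zmultiples_iff.mp hy
    have e : a • (m + j • w) - (m + j • w) = (a • m - m) + j • (a • w - w) := by
      rw [smul_add, smul_comm a j w, smul_sub]; abel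
    rw [e]
    exact M.add_mem (M.sub_mem (hinv a ha m hm) hm) (M.zsmul_mem (hwA a ha) j)
  have hM'top : M' = ⊤ := by
    by_contra h
    have hP : P M' := ⟨hfix.trans le_sup_left, h, fun a ha v hv => by
      rw [← sub_add_cancel (a • v) v]
      exact M'.add_mem (le_sup_left (α := AddSubgroup W) (hsmul a ha v hv)) hv⟩
    exact hw (hmax hP le_sup_left (le_sup_right (α := AddSubgroup W)
      (AddSubgroup.mem_zmultiples w)))
  apply hM
  rw [eq_top_iff, ← htop]
  refine sup_le ((AddSubgroup.closure_le _).2 ?_) hfix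
  rintro _ ⟨v, -, d, hd, rfl⟩
  exact hsmul d hd v (hM'top ▸ AddSubgroup.mem_top v)

/-- Timmesfeld: there is a nontrivial `X ≤ A` centralising `[W, A]` with `|W : C_W(X)| ≤ |X|`. -/
theorem exists_star [Fact p.Prime] [Finite H] [Finite W] [FaithfulSMul H W]
    (hW : ∀ w : W, p • w = 0) {A : Subgroup H} (hcomm : ∀ a ∈ A, ∀ b ∈ A, Commute a b)
    (hpow : ∀ a ∈ A, a ^ p = 1) (hA : A ≠ ⊥) (hmax : Maxi W A) :
    ∃ X : Subgroup H, X ≤ A ∧ X ≠ ⊥ ∧
      (∀ x ∈ X, ∀ d ∈ A, ∀ v : W, x • (d • v - v) = d • v - v) ∧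
      Nat.card W ≤ Nat.card X * Nat.card (fixA W X) := by
  obtain ⟨e, f⟩ := att_all hcomm hmax
  have hbot : fixA W (⊥ : Subgroup H) = ⊤ := by
    rw [eq_top_iff]
    intro w _ x hx
    rw [Subgroup.mem_bot.mp hx, one_smul]
  refine ⟨cmFix W A Set.univ, cmFix_le A _, fun h => ?_, fun x hx d hd v => hx.2 v trivial d hd, ?_⟩
  · rw [h, hbot] at f
    exact cm_sup_fix_ne_top hW hcomm hpow hA f.symm
  · have h := hmax ⊥ bot_le
    rw [← e, wt, hbot, Subgroup.card_bot, one_mul, AddSubgroup.card_top] at h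
    exact h

end Cfsg.Agent.PGVReplace
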