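import Mathlib

/-! Finite prime rings of characteristic two with a trace making `r + t r` an anti-automorphism:
they look like `2 × 2` matrices over the centre. -/

set_option autoImplicit false
set_option linter.style.haveILetI false

namespace Cfsg.Agent.PGVRing

variable {R : Type*} [Ring R]

/-- The hypotheses on `(R, t)`. -/
structure TR (t : R → R) : Prop where
  two : ∀ x : R, x + x = 0
  central : ∀ x, t x ∈ Subring.center R
  add : ∀ x y, t (x + y) = t x + t y
  anti : ∀ r s, r * s + t (r * s) = (s + t s) * (r + t r)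
  inv : ∀ c ∈ Subring.center R, c ≠ 0 → ∃ d ∈ Subring.center R, c * d = 1
  prime : ∀ x y : R, x ≠ 0 → y ≠ 0 → ∃ m, x * m * y ≠ 0
  noncomm : ∃ x y : R, x * y ≠ y * x

variable {t : R → R} (h : TR t)

theorem cm {c : R} (hc : c ∈ Subring.center R) (x : R) : x * c = c * x :=
  Subring.mem_center_iff.mp hc x

include h in
theorem eq_of_add {x y : R} (e : x + y = 0) : x = y := by
  rw [← add_zero x, ← h.two y, ← add_assoc, e, zero_add]

include h in
theorem ki (r s : R) :
    r * s + s * r = t r * s + t s * r + (t s * t r + t (r * s)) := by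
  have h1 := h.anti r s
  rw [add_mul, mul_add, mul_add, cm (h.central r) s] at h1
  have h2 := congrArg (fun x => x + (s * r + t (r * s))) h1
  have e1 : r * s + t (r * s) + (s * r + t (r * s)) = r * s + s * r + (t (r * s) + t (r * s)) := by
    abel
  have e2 : s * r + t r * s + (t s * r + t s * t r) + (s * r + t (r * s)) =
      t r * s + t s * r + (t s * t r + t (r * s)) + (s * r + s * r) := by abel
  rw [e1, e2, h.two, h.two, add_zero, add_zero] at h2
  exact h2

include h in
theorem central_mul_eq_zero {c x : R} (hc : c ∈ Subring.center R) (hcx : c * x = 0) (hx : x ≠ 0) :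
    c = 0 := by
  by_contra hne
  obtain ⟨d, hd, hcd⟩ := h.inv c hc hne
  apply hx
  rw [← one_mul x, ← hcd, cm hd c, mul_assoc, hcx, mul_zero]

include h in
theorem central_sq {c : R} (hc : c ∈ Subring.center R) (hcc : c * c = 0) : c = 0 := by
  by_contra hne
  exact hne (central_mul_eq_zero h hc hcc hne)

include h in
theorem t_zero : t 0 = 0 := by
  have h0 := h.add 0 0
  rw [add_zero] at h0
  exact left_eq_add.mp h0

include h in
theorem t_center {c : R} (hc : c ∈ Subring.center R) : t c = 0 := by
  by_contra hne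
  obtain ⟨d, hd, hcd⟩ := h.inv _ (h.central c) hne
  obtain ⟨x, y, hxy⟩ := h.noncomm
  apply hxy
  have h1 := ki h c y
  rw [cm hc y, h.two] at h1
  have h2 : t c * y = t y * c + (t y * t c + t (c * y)) := by
    apply eq_of_add h
    rw [← add_assoc]; exact h1.symm
  have hmem : t c * y ∈ Subring.center R := by
    rw [h2]
    exact add_mem (mul_mem (h.central y) hc)
      (add_mem (mul_mem (h.central y) (h.central c)) (h.central _))
  have : y ∈ Subring.center R := by
    have : d * (t c * y) ∈ Subring.center R := mul_mem hd hmem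
    rwa [← mul_assoc, ← cm hd (t c), hcd, one_mul] at this
  exact Subring.mem_center_iff.mp this x

include h in
theorem t_smul {c : R} (hc : c ∈ Subring.center R) (r : R) : t (c * r) = c * t r := by
  have h1 := h.anti c r
  rw [t_center h hc, add_zero, cm hc (r + t r), mul_add] at h1
  exact add_left_cancel h1

include h in
theorem sq_central_add {c : R} (hc : c ∈ Subring.center R) (x : R) :
    (c + x) * (c + x) = c * c + x * x := by
  have e : (c + x) * (c + x) = c * c + x * x + (c * x + c * x) := by
    rw [add_mul, mul_add, mul_add, cm hc x]; abel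
  rw [e, h.two, add_zero]

include h in
theorem sq_add_central (r : R) : r * r + t r * r ∈ Subring.center R := by
  rw [Subring.mem_center_iff]
  intro s
  have hk := ki h r s
  set κ := t s * t r + t (r * s)
  have hκ : κ ∈ Subring.center R := add_mem (mul_mem (h.central s) (h.central r)) (h.central _)
  have h2 : r * (r * s + s * r) + (r * s + s * r) * r = t r * (r * s + s * r) := by
    rw [hk, mul_add, mul_add, add_mul, add_mul, cm hκ r, ← mul_assoc r (t r) s, cm (h.central r) r,
      ← mul_assoc r (t s) r, cm (h.central s) r]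
    have e : t r * r * s + t s * r * r + κ * r + (t r * s * r + t s * r * r + κ * r) =
        t r * r * s + t r * s * r + (t s * r * r + t s * r * r) + (κ * r + κ * r) := by abel
    rw [e, h.two, h.two, add_zero, add_zero, ← hk, mul_add, ← mul_assoc, ← mul_assoc]
  apply eq_of_add h
  have e : s * (r * r + t r * r) + (r * r + t r * r) * s =
      (r * (r * s + s * r) + (r * s + s * r) * r) + t r * (r * s + s * r) +
        ((r * s * r) + (r * s * r)) := by
    simp only [mul_add, add_mul, ← mul_assoc, cm (h.central r) s]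
    have e' : r * r * s + r * s * r + (r * s * r + s * r * r) + (t r * r * s + t r * s * r) +
        (r * s * r + r * s * r) =
        (s * r * r + t r * s * r + (r * r * s + t r * r * s)) +
          (r * s * r + r * s * r) + (r * s * r + r * s * r) := by abel
    rw [e', h.two, add_zero, add_zero]
  rw [e, h2, h.two, h.two, add_zero]

include h in
theorem t_sq_zero {n : R} (hn : n * n = 0) : t n = 0 := by
  by_contra hne
  obtain ⟨d, hd, hcd⟩ := h.inv _ (h.central n) hne
  have h1 := mul_mem hd (sq_add_central h n)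
  rw [hn, zero_add, ← mul_assoc, ← cm hd (t n), hcd, one_mul] at h1
  rw [central_sq h h1 hn, t_zero h] at hne
  exact hne rfl

include h in
theorem sandwich {x : R} (hx : x * x = 0) (y : R) : x * y * x = t (x * y) * x := by
  have h1 := congrArg (x * ·) (ki h x y)
  simp only [t_sq_zero h hx, zero_mul, mul_zero, zero_add, mul_add, ← mul_assoc, hx] at h1
  rw [cm (h.central y) x, mul_assoc (t y) x x, hx, mul_zero, zero_add, cm (h.central _) x] at h1
  exact h1

/-- Matrix units. -/
structure Frame (t : R → R) (n : R) : Type _ where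
  e : R
  f : R
  g : R
  nn : n * n = 0
  gg : g * g = 0
  en : e * n = n
  ne : n * e = 0
  ee : e * e = e
  ef : e * f = 0
  fe : f * e = 0
  ff : f * f = f
  fn : f * n = 0
  nf : n * f = n
  eg : e * g = 0
  fg : f * g = g
  ge : g * e = g
  gf : g * f = 0
  ng : n * g = e
  gn : g * n = f
  sum : e + f = 1
  te : t e = 1
  tf : t f = 1
  tn : t n = 0
  tg : t g = 0
  n0 : n ≠ 0

include h in
theorem frame {n : R} (hn : n ≠ 0) (hnn : n * n = 0) : Nonempty (Frame t n) := by
  obtain ⟨y, hy⟩ := h.prime n n hn hn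
  have hc : t (n * y) ≠ 0 := by
    intro e
    rw [sandwich h hnn, e, zero_mul] at hy
    exact hy rfl
  obtain ⟨d, hd, hcd⟩ := h.inv _ (h.central _) hc
  set m := d * y
  have hnm : n * m * n = n := by
    rw [← mul_assoc n d y, cm hd n, mul_assoc d n y, mul_assoc d (n * y) n, sandwich h hnn,
      ← mul_assoc, ← cm hd (t (n * y)), hcd, one_mul]
  obtain ⟨e, he⟩ : ∃ e, e = n * m := ⟨_, rfl⟩
  have hte : t e = 1 := by
    have h1 := sandwich h hnn m
    rw [hnm, ← he] at h1
    have h2 : (t e + 1) * n = 0 := by rw [add_mul, one_mul, ← h1, h.two]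
    exact eq_of_add h (central_mul_eq_zero h (add_mem (h.central _) (one_mem _)) h2 hn)
  have hen : e * n = n := by rw [he, hnm]
  have hne : n * e = 0 := by rw [he, ← mul_assoc, hnn, zero_mul]
  have hee : e * e = e := by
    conv_lhs => arg 2; rw [he]
    rw [← mul_assoc, hen, ← he]
  have hef : e * (1 + e) = 0 := by rw [mul_add, mul_one, hee, h.two]
  have hfe : (1 + e) * e = 0 := by rw [add_mul, one_mul, hee, h.two]
  have hff : (1 + e) * (1 + e) = 1 + e := by rw [add_mul, one_mul, hef, add_zero]
  have hfn : (1 + e) * n = 0 := by rw [add_mul, one_mul, hen, h.two]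
  have hnf : n * (1 + e) = n := by rw [mul_add, mul_one, hne, add_zero]
  obtain ⟨g, hg⟩ : ∃ g, g = (1 + e) * m * e := ⟨_, rfl⟩
  have heg : e * g = 0 := by rw [hg, ← mul_assoc, ← mul_assoc, hef, zero_mul, zero_mul]
  have hge : g * e = g := by rw [hg, mul_assoc, hee]
  have hgf : g * (1 + e) = 0 := by rw [hg, mul_assoc, hef, mul_zero]
  have hng : n * g = e := by rw [hg, ← mul_assoc, ← mul_assoc, hnf, ← he, hee]
  have hgg : g * g = 0 := by
    conv_lhs => arg 1; rw [← hge]
    rw [mul_assoc, heg, mul_zero]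
  have hmn : m * n = t m * n + (1 + e) := by
    have h1 := ki h n m
    rw [t_sq_zero h hnn, zero_mul, zero_add, mul_zero, zero_add, ← he, hte] at h1
    apply eq_of_add h
    have e2 : m * n + (t m * n + (1 + e)) = (e + m * n) + (t m * n + 1) := by abel
    rw [e2, h1, h.two]
  have hgn : g * n = 1 + e := by
    rw [hg, mul_assoc, hen, mul_assoc, hmn, mul_add, hff, ← mul_assoc,
      cm (h.central m) (1 + e), mul_assoc, hfn, mul_zero, zero_add]
  have hsum : e + (1 + e) = 1 := by rw [add_left_comm, h.two, add_zero]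
  exact ⟨⟨e, 1 + e, g, hnn, hgg, hen, hne, hee, hef, hfe, hff, hfn, hnf, heg, by
    rw [hg, ← mul_assoc, ← mul_assoc, hff], hge, hgf, hng, hgn, hsum, hte, by
    rw [h.add, t_center h (one_mem _), hte, zero_add], t_sq_zero h hnn, t_sq_zero h hgg, hn⟩⟩

variable {n : R}

/-- Linear combination of matrix units. -/
def comb (F : Frame t n) (α μ γ δ : R) : R := α * F.e + μ * n + γ * F.g + δ * F.f

include h in
theorem exists_comb (F : Frame t n) (r : R) :
    ∃ α ∈ Subring.center R, ∃ μ ∈ Subring.center R, ∃ γ ∈ Subring.center R,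
      ∃ δ ∈ Subring.center R, r = comb F α μ γ δ := by
  have hnn := sandwich h F.nn
  have hnmn : ∀ x, n * x * n = t (n * x) * n := hnn
  obtain ⟨e, f, g, nn, gg, en, ne, ee, ef, fe, ff, fn, nf, eg, fg, ge, gf, ng, gn, sum, te, tf, tn,
    tg, n0⟩ := F
  refine ⟨t (n * (g * r)), h.central _, t (n * (g * r * g)), h.central _, t (n * r), h.central _,
    t (n * (r * g)), h.central _, ?_⟩
  show r = t (n * (g * r)) * e + t (n * (g * r * g)) * n + t (n * r) * g + t (n * (r * g)) * f
  have h1 : e * r * e = t (n * (g * r)) * e := by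
    calc e * r * e = n * g * r * (n * g) := by rw [ng]
      _ = n * (g * r) * n * g := by simp only [mul_assoc]
      _ = t (n * (g * r)) * (n * g) := by rw [hnmn, mul_assoc]
      _ = _ := by rw [ng]
  have h2 : e * r * f = t (n * (g * r * g)) * n := by
    calc e * r * f = n * g * r * (g * n) := by rw [ng, gn]
      _ = n * (g * r * g) * n := by simp only [mul_assoc]
      _ = _ := hnmn _
  have h3 : f * r * e = t (n * r) * g := by
    calc f * r * e = g * n * r * (n * g) := by rw [gn, ng]
      _ = g * (n * r * n) * g := by simp only [mul_assoc]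
      _ = g * t (n * r) * (n * g) := by rw [hnmn]; simp only [mul_assoc]
      _ = _ := by rw [cm (h.central _) g, ng, mul_assoc, ge]
  have h4 : f * r * f = t (n * (r * g)) * f := by
    calc f * r * f = g * n * r * (g * n) := by rw [gn]
      _ = g * (n * (r * g) * n) := by simp only [mul_assoc]
      _ = g * t (n * (r * g)) * n := by rw [hnmn, mul_assoc]
      _ = _ := by rw [cm (h.central _) g, mul_assoc, gn]
  rw [← h1, ← h2, ← h3, ← h4]
  calc r = (e + f) * r * (e + f) := by rw [sum, one_mul, mul_one]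
    _ = _ := by simp only [add_mul, mul_add]; abel

include h in
theorem t_comb (F : Frame t n) {α μ γ δ : R} (ha : α ∈ Subring.center R) (hm : μ ∈ Subring.center R)
    (hg : γ ∈ Subring.center R) (hd : δ ∈ Subring.center R) : t (comb F α μ γ δ) = α + δ := by
  rw [comb, h.add, h.add, h.add, t_smul h ha, t_smul h hm, t_smul h hg, t_smul h hd, F.te, F.tn,
    F.tg, F.tf, mul_one, mul_zero, mul_zero, mul_one, add_zero, add_zero]

include h in
theorem comb_inj (F : Frame t n) {α μ γ δ : R} (ha : α ∈ Subring.center R)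
    (hm : μ ∈ Subring.center R) (hg : γ ∈ Subring.center R) (hd : δ ∈ Subring.center R)
    (h0 : comb F α μ γ δ = 0) : α = 0 ∧ μ = 0 ∧ γ = 0 ∧ δ = 0 := by
  have hg' : ∀ x y : R, x * comb F α μ γ δ * y = 0 := fun x y => by rw [h0, mul_zero, zero_mul]
  have push : ∀ x y : R, x * comb F α μ γ δ * y =
      α * (x * F.e * y) + μ * (x * n * y) + γ * (x * F.g * y) + δ * (x * F.f * y) := fun x y => by
    simp only [comb, mul_add, add_mul, ← mul_assoc, cm ha x, cm hm x, cm hg x, cm hd x]
  have e0 : F.e ≠ 0 := fun e => F.n0 (by rw [← F.en, e, zero_mul])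
  have f0 : F.f ≠ 0 := fun e => F.n0 (by rw [← F.nf, e, mul_zero])
  have g0 : F.g ≠ 0 := fun e => f0 (by rw [← F.gn, e, zero_mul])
  have h1 := hg' F.e F.e
  rw [push] at h1
  simp only [F.ee, F.en, F.ne, F.eg, F.ef, zero_mul, mul_zero, add_zero] at h1
  have h2 := hg' F.e F.f
  rw [push] at h2
  simp only [F.ee, F.en, F.nf, F.eg, F.ef, zero_mul, mul_zero, zero_add, add_zero] at h2
  have h3 := hg' F.f F.e
  rw [push] at h3
  simp only [F.fe, F.fn, F.fg, F.ge, F.ff, zero_mul, mul_zero, zero_add, add_zero] at h3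
  have h4 := hg' F.f F.f
  rw [push] at h4
  simp only [F.fe, F.fn, F.fg, F.gf, F.ff, zero_mul, mul_zero, zero_add, add_zero] at h4
  exact ⟨central_mul_eq_zero h ha h1 e0, central_mul_eq_zero h hm h2 F.n0,
    central_mul_eq_zero h hg h3 g0, central_mul_eq_zero h hd h4 f0⟩

include h in
theorem card_ge [Finite R] (F : Frame t n) : Nat.card (Subring.center R) ^ 4 ≤ Nat.card R := by
  let C := Subring.center R
  have : Function.Injective (fun x : C × C × C × C => comb F x.1 x.2.1 x.2.2.1 x.2.2.2) := by
    intro x y hxy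
    have h0 : comb F ((x.1 : R) - y.1) ((x.2.1 : R) - y.2.1) ((x.2.2.1 : R) - y.2.2.1)
        ((x.2.2.2 : R) - y.2.2.2) = 0 := by
      have := sub_eq_zero.mpr hxy
      rw [← this]
      simp only [comb, sub_mul]
      abel
    obtain ⟨e1, e2, e3, e4⟩ := comb_inj h F (sub_mem x.1.2 y.1.2) (sub_mem x.2.1.2 y.2.1.2)
      (sub_mem x.2.2.1.2 y.2.2.1.2) (sub_mem x.2.2.2.2 y.2.2.2.2) h0
    rw [sub_eq_zero] at e1 e2 e3 e4
    exact Prod.ext (Subtype.ext e1) (Prod.ext (Subtype.ext e2)
      (Prod.ext (Subtype.ext e3) (Subtype.ext e4)))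
  have hh := Nat.card_le_card_of_injective _ this
  rw [Nat.card_prod, Nat.card_prod, Nat.card_prod] at hh
  calc _ = _ := by ring
    _ ≤ _ := hh

include h in
theorem card_t_zero [Finite R] (F : Frame t n) :
    Nat.card {r : R // t r = 0} ≤ Nat.card (Subring.center R) ^ 3 := by
  let C := Subring.center R
  choose α ha μ hm γ hg δ hd hr using exists_comb h F
  have : Function.Injective (fun r : {r : R // t r = 0} =>
      ((⟨α r, ha r⟩ : C), (⟨μ r, hm r⟩ : C), (⟨γ r, hg r⟩ : C))) := by
    intro r s hrs
    simp only [Prod.mk.injEq, Subtype.mk.injEq] at hrs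
    have key : ∀ x : {r : R // t r = 0}, δ x = α x := fun x => by
      have := t_comb h F (ha x) (hm x) (hg x) (hd x)
      rw [← hr, x.2] at this
      exact (eq_of_add h this.symm).symm
    exact Subtype.ext (by rw [hr r.1, hr s.1, key r, key s, hrs.1, hrs.2.1, hrs.2.2])
  have hh := Nat.card_le_card_of_injective _ this
  rw [Nat.card_prod, Nat.card_prod] at hh
  calc _ ≤ _ := hh
    _ = _ := by ring

/-- An automorphism compatible with `t`. -/
structure Compat (t : R → R) (β : R →+* R) : Prop where
  sq : ∀ r, β (β r) = r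
  fix : ∀ c ∈ Subring.center R, β c = c
  tr : ∀ r, t (β r) = t r

include h in
theorem exists_sq_zero_fixed [Finite R] {β : R →+* R} (hβ : Compat t β) (hn : n ≠ 0)
    (hnn : n * n = 0) : ∃ n' : R, n' ≠ 0 ∧ n' * n' = 0 ∧ β n' = n' := by
  obtain ⟨x, hx, htx, hDx⟩ : ∃ x, x ∉ Subring.center R ∧ t x = 0 ∧
      β x + x ∈ Subring.center R := by
    by_cases hD : β n + n ∈ Subring.center R
    · exact ⟨n, fun hc => hn (central_sq h hc hnn), t_sq_zero h hnn, hD⟩
    · refine ⟨β n + n, hD, ?_, ?_⟩
      · rw [h.add, hβ.tr, h.two]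
      · rw [map_add, hβ.sq, add_comm n (β n), h.two]; exact zero_mem _
  have hsq : x * x ∈ Subring.center R := by
    have := sq_add_central h x
    rwa [htx, zero_mul, add_zero] at this
  let sq : Subring.center R → Subring.center R := fun c => c * c
  have hinj : Function.Injective sq := by
    intro c d hcd
    have h1 : (c : R) * c = d * d := congrArg Subtype.val hcd
    apply Subtype.ext
    apply eq_of_add h
    apply central_sq h (add_mem c.2 d.2)
    have e : ((c : R) + d) * (c + d) = (c * c + d * d) + (c * d + c * d) := by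
      rw [add_mul, mul_add, mul_add, cm c.2 (d : R)]; abel
    rw [e, h1, h.two, h.two, add_zero]
  obtain ⟨c, hc⟩ := (Finite.injective_iff_surjective.mp hinj) ⟨x * x, hsq⟩
  have hc' : (c : R) * c = x * x := congrArg Subtype.val hc
  have hsq' : ∀ y d : R, d ∈ Subring.center R → (y + d) * (y + d) = y * y + d * d := by
    intro y d hd
    have e : (y + d) * (y + d) = (y * y + d * d) + (d * y + d * y) := by
      rw [add_mul, mul_add, mul_add, cm hd y]; abel
    rw [e, h.two, add_zero]
  have hn' : (x + c) * (x + c) = 0 := by rw [hsq' x c c.2, hc', h.two]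
  refine ⟨x + c, fun e => hx (eq_of_add h e ▸ c.2), hn', ?_⟩
  apply eq_of_add h
  have hd : β (x + c) + (x + c) = β x + x := by
    rw [map_add, hβ.fix c c.2]
    have e : β x + c + (x + c) = β x + x + ((c : R) + c) := by abel
    rw [e, h.two, add_zero]
  apply central_sq h (hd ▸ hDx)
  rw [hd]
  have h1 := congrArg β hn'
  rw [map_mul, map_zero] at h1
  have e2 : β (x + c) = (x + c) + (β x + x) := by
    rw [← hd, add_left_comm, h.two, add_zero]
  rw [e2, hsq' _ _ hDx, hn', zero_add] at h1
  exact h1

include h in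
theorem image_form (F : Frame t n) {β : R →+* R} (hβ : Compat t β) (hn : β n = n) :
    ∃ X ∈ Subring.center R, β F.g = X + X * X * n + F.g ∧ β F.e = F.e + X * n ∧
      β F.f = F.f + X * n := by
  obtain ⟨α, ha, μ, hm, γ, hg, δ, hd, hr⟩ := exists_comb h F (β F.g)
  have hgam : γ = 1 := by
    have h1 : n * β F.g * n = n := by
      calc n * β F.g * n = β n * β F.g * β n := by rw [hn]
        _ = β (n * F.g * n) := by rw [map_mul, map_mul]
        _ = _ := by rw [F.ng, F.en, hn]
    have h2 : n * comb F α μ γ δ * n = γ * n := by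
      simp only [comb, mul_add, add_mul, ← mul_assoc, cm ha n, cm hm n, cm hg n, cm hd n]
      simp only [mul_assoc, F.en, F.fn, F.nn, F.gn, F.nf, mul_zero, zero_mul, zero_add, add_zero]
    rw [← hr, h1] at h2
    have h3 : (γ + 1) * n = 0 := by rw [add_mul, one_mul, ← h2, h.two]
    exact eq_of_add h (central_mul_eq_zero h (add_mem hg (one_mem _)) h3 F.n0)
  have hdel : δ = α := by
    have h1 := t_comb h F ha hm hg hd
    rw [← hr, hβ.tr, F.tg] at h1
    exact (eq_of_add h h1.symm).symm
  have hg' : β F.g = α + μ * n + F.g := by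
    rw [hr, comb, hgam, hdel, one_mul]
    calc α * F.e + μ * n + F.g + α * F.f = α * (F.e + F.f) + μ * n + F.g := by rw [mul_add]; abel
      _ = _ := by rw [F.sum, mul_one]
  have hμ : μ = α * α := by
    have h1 : β F.g * β F.g = 0 := by rw [← map_mul, F.gg, map_zero]
    rw [hg'] at h1
    rw [add_assoc (α : R) (μ * n) F.g, sq_central_add h ha] at h1
    have hx : (μ * n + F.g) * (μ * n + F.g) = μ := by
      have e1 : μ * n * (μ * n) = 0 := by
        rw [← mul_assoc, mul_assoc μ n μ, cm hm n, ← mul_assoc, mul_assoc (μ * μ), F.nn, mul_zero]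
      have e2 : μ * n * F.g = μ * F.e := by rw [mul_assoc, F.ng]
      have e3 : F.g * (μ * n) = μ * F.f := by
        rw [← mul_assoc, cm hm F.g, mul_assoc, F.gn]
      rw [add_mul, mul_add, mul_add, e1, e2, e3, F.gg, zero_add, add_zero, ← mul_add, F.sum,
        mul_one]
    rw [hx] at h1
    exact (eq_of_add h h1).symm
  rw [hμ] at hg'
  refine ⟨α, ha, hg', ?_, ?_⟩
  · calc β F.e = n * β F.g := by rw [← F.ng, map_mul, hn]
      _ = n * α + n * (α * α * n) + n * F.g := by rw [hg', mul_add, mul_add]
      _ = _ := by rw [← mul_assoc, cm (mul_mem ha ha) n, mul_assoc _ n n, F.nn, mul_zero,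
          add_zero, cm ha n, F.ng, add_comm]
  · calc β F.f = β F.g * n := by rw [← F.gn, map_mul, hn]
      _ = α * n + α * α * n * n + F.g * n := by rw [hg', add_mul, add_mul]
      _ = _ := by rw [mul_assoc _ n n, F.nn, mul_zero, add_zero, F.gn, add_comm]

include h in
theorem bounds [Finite R] {ι : Type*} (β : ι → (R →+* R)) (hβ : ∀ i, Compat t (β i))
    (hcomm : ∀ i j r, β i (β j r) = β j (β i r))
    (hinj : ∀ i j, (∀ r, β i r = β j r) → i = j) (i₀ : ι) (h0 : ∃ r, β i₀ r ≠ r)
    (hn : n ≠ 0) (hnn : n * n = 0) :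
    Nat.card {r : R // β i₀ r = r} ≤ Nat.card (Subring.center R) ^ 2 ∧
      Nat.card ι ≤ Nat.card (Subring.center R) := by
  obtain ⟨n', hn', hnn', hfix⟩ := exists_sq_zero_fixed h (hβ i₀) hn hnn
  obtain ⟨F⟩ := frame h hn' hnn'
  let C := Subring.center R
  choose α ha μ hm γ hg δ hd hr using exists_comb h F
  have happ : ∀ i, β i n' = n' → ∀ X : R, β i F.g = X + X * X * n' + F.g →
      β i F.e = F.e + X * n' → β i F.f = F.f + X * n' → ∀ r, β i r =
        α r * (F.e + X * n') + μ r * n' + γ r * (X + X * X * n' + F.g) + δ r * (F.f + X * n') := by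
    intro i hi X h1 h2 h3 r
    conv_lhs => rw [hr r]
    simp only [comb, map_add, map_mul, (hβ i).fix _ (ha r), (hβ i).fix _ (hm r),
      (hβ i).fix _ (hg r), (hβ i).fix _ (hd r), hi, h1, h2, h3]
  obtain ⟨X₀, hX, hX1, hX2, hX3⟩ := image_form h F (hβ i₀) hfix
  have hX0 : X₀ ≠ 0 := by
    intro e
    obtain ⟨r, hr'⟩ := h0
    apply hr'
    rw [happ i₀ hfix X₀ hX1 hX2 hX3 r, e]
    conv_rhs => rw [hr r]
    simp [comb]
  have hfixed : ∀ r, β i₀ r = r → γ r = 0 ∧ δ r = α r := by
    intro r hrr
    have h1 := happ i₀ hfix X₀ hX1 hX2 hX3 r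
    rw [hrr] at h1
    conv_lhs at h1 => rw [hr r]
    have h2 : comb F (γ r * X₀) ((α r + δ r) * X₀ + γ r * (X₀ * X₀)) 0 (γ r * X₀) = 0 := by
      rw [comb] at h1 ⊢
      have e : α r * (F.e + X₀ * n') + μ r * n' + γ r * (X₀ + X₀ * X₀ * n' + F.g) +
          δ r * (F.f + X₀ * n') = (α r * F.e + μ r * n' + γ r * F.g + δ r * F.f) +
          (γ r * X₀ * F.e + ((α r + δ r) * X₀ + γ r * (X₀ * X₀)) * n' + 0 * F.g +
            γ r * X₀ * F.f) := by
        rw [show γ r * (X₀ + X₀ * X₀ * n' + F.g) =
          γ r * (X₀ * (F.e + F.f) + X₀ * X₀ * n' + F.g) by rw [F.sum, mul_one]]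
        simp only [mul_add, add_mul, zero_mul, ← mul_assoc, mul_one]
        abel
      rw [e] at h1
      exact left_eq_add.mp h1
    obtain ⟨e1, e2, -, -⟩ := comb_inj h F (mul_mem (hg r) hX)
      (add_mem (mul_mem (add_mem (ha r) (hd r)) hX) (mul_mem (hg r) (mul_mem hX hX)))
      (zero_mem _) (mul_mem (hg r) hX) h2
    have hγ : γ r = 0 := central_mul_eq_zero h (hg r) e1 hX0
    rw [hγ, zero_mul, add_zero] at e2
    exact ⟨hγ, (eq_of_add h (central_mul_eq_zero h (add_mem (ha r) (hd r)) e2 hX0)).symm⟩
  refine ⟨?_, ?_⟩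
  · have : Function.Injective (fun r : {r : R // β i₀ r = r} =>
        ((⟨α r, ha r⟩ : C), (⟨μ r, hm r⟩ : C))) := by
      intro r s hrs
      simp only [Prod.mk.injEq, Subtype.mk.injEq] at hrs
      obtain ⟨r1, r2⟩ := hfixed r r.2
      obtain ⟨s1, s2⟩ := hfixed s s.2
      exact Subtype.ext (by rw [hr r.1, hr s.1, r1, s1, r2, s2, hrs.1, hrs.2])
    have hh := Nat.card_le_card_of_injective _ this
    rw [Nat.card_prod] at hh
    rw [pow_two]
    exact hh
  · have hall : ∀ i, β i n' = n' := by
      intro i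
      have hh : β i₀ (β i n') = β i n' := by rw [hcomm, hfix]
      obtain ⟨e1, e2⟩ := hfixed _ hh
      have h1 := hr (β i n')
      rw [comb, e1, e2, zero_mul, add_zero, add_right_comm, ← mul_add, F.sum, mul_one] at h1
      have h2 : α (β i n') = 0 := by
        apply central_sq h (ha _)
        have h3 : β i n' * β i n' = 0 := by rw [← map_mul, hnn', map_zero]
        rw [h1] at h3
        set A := α (β i n')
        set M := μ (β i n')
        rw [sq_central_add h (ha _)] at h3
        have e : M * n' * (M * n') = 0 := by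
          rw [← mul_assoc, mul_assoc M n' M, cm (hm _) n', ← mul_assoc, mul_assoc (M * M), hnn',
            mul_zero]
        rwa [e, add_zero] at h3
      rw [h2, zero_add] at h1
      have hMm := hm (β i n')
      generalize μ (β i n') = M at h1 hMm
      have h4 := congrArg (β i) h1
      rw [(hβ i).sq, map_mul, (hβ i).fix _ hMm, h1, ← mul_assoc] at h4
      have h5 : (M + 1) * (M + 1) * n' = 0 := by
        have e : (M + 1) * (M + 1) * n' = M * M * n' + n' + (M * n' + M * n') := by
          simp only [mul_add, add_mul, mul_one, one_mul]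
          abel
        rw [e, ← h4, h.two, h.two, add_zero]
      have hM : M + 1 ∈ Subring.center R := add_mem hMm (one_mem _)
      have h6 := central_sq h hM (central_mul_eq_zero h (mul_mem hM hM) h5 F.n0)
      rw [h1, eq_of_add h h6, one_mul]
    choose X hXc hXg hXe hXf using fun i => image_form h F (hβ i) (hall i)
    refine Nat.card_le_card_of_injective (fun i => (⟨X i, hXc i⟩ : C)) fun i j hij => ?_
    refine hinj i j fun r => ?_
    rw [happ i (hall i) _ (hXg i) (hXe i) (hXf i) r, happ j (hall j) _ (hXg j) (hXe j) (hXf j) r,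
      show X i = X j from congrArg Subtype.val hij]

theorem perm_three_metab :
    ∀ x y : Equiv.Perm (Fin 3), Equiv.Perm.sign x = 1 → Equiv.Perm.sign y = 1 →
      x * y = y * x := by
  decide

include h in
/-- If the centre is the field with two elements, the units embed in `S₃`. -/
theorem units_embed [Finite R] (F : Frame t n) (hq : Nat.card (Subring.center R) ≤ 2) :
    ∃ ψ : Rˣ →* Equiv.Perm (Fin 3), Function.Injective ψ := by
  have hC : ∀ c ∈ Subring.center R, c = 0 ∨ c = 1 := by
    intro c hc
    by_contra hcon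
    simp only [not_or] at hcon
    let v : Fin 3 → Subring.center R := ![0, 1, ⟨c, hc⟩]
    have hv : Function.Injective v := by
      intro i j hij
      have h10 : (1 : R) ≠ 0 := fun e => F.n0 (by rw [← one_mul n, e, zero_mul])
      have hij' := congrArg Subtype.val hij
      clear hij
      fin_cases i <;> fin_cases j <;> simp_all [v, eq_comm]
    have := Nat.card_le_card_of_injective v hv
    rw [Nat.card_fin] at this
    omega
  let S := {x : R // x * F.f = x ∧ x ≠ 0}
  have f0 : F.f ≠ 0 := fun e => F.n0 (by rw [← F.nf, e, mul_zero])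
  let v : Fin 3 → S := ![⟨n, F.nf, F.n0⟩, ⟨F.f, F.ff, f0⟩,
    ⟨n + F.f, by rw [add_mul, F.nf, F.ff], fun e => by
      have h1 := congrArg t (eq_of_add h e)
      rw [F.tn, F.tf] at h1
      exact F.n0 (by rw [← one_mul n, ← h1, zero_mul])⟩]
  have hv : Function.Surjective v := by
    rintro ⟨x, hx, hx0⟩
    obtain ⟨α, ha, μ, hm, γ, hg, δ, hd, hr⟩ := exists_comb h F x
    have h1 : x = μ * n + δ * F.f := by
      conv_lhs => rw [← hx, hr]
      rw [comb, add_mul, add_mul, add_mul, mul_assoc, mul_assoc, mul_assoc, mul_assoc, F.ef, F.nf,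
        F.gf, F.ff, mul_zero, mul_zero, zero_add, add_zero]
    rcases hC μ hm with rfl | rfl <;> rcases hC δ hd with rfl | rfl
    · simp at h1; exact absurd h1 hx0
    · exact ⟨1, Subtype.ext (by simp [v, h1])⟩
    · exact ⟨0, Subtype.ext (by simp [v, h1])⟩
    · exact ⟨2, Subtype.ext (by simp [v, h1])⟩
  have hv' : Function.Injective v := by
    intro i j hij
    have hij' := congrArg Subtype.val hij
    have h10 : (1 : R) ≠ 0 := fun e => F.n0 (by rw [← one_mul n, e, zero_mul])
    have hnf : n ≠ F.f := fun e => h10 (by rw [← F.tf, ← e, F.tn])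
    clear hij hv
    fin_cases i <;> fin_cases j <;> simp_all [v, F.n0, eq_comm]
  let es : Fin 3 ≃ S := Equiv.ofBijective v ⟨hv', hv⟩
  let act : Rˣ →* Equiv.Perm S :=
    { toFun := fun w =>
        { toFun := fun x => ⟨(w : R) * x.1, by rw [mul_assoc, x.2.1], fun e => x.2.2
            ((Units.mul_right_eq_zero w).mp e)⟩
          invFun := fun x => ⟨((w⁻¹ : Rˣ) : R) * x.1, by rw [mul_assoc, x.2.1], fun e => x.2.2
            ((Units.mul_right_eq_zero w⁻¹).mp e)⟩
          left_inv := fun x => Subtype.ext (by simp [← mul_assoc])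
          right_inv := fun x => Subtype.ext (by simp [← mul_assoc]) }
      map_one' := Equiv.ext fun x => Subtype.ext (one_mul _)
      map_mul' := fun w w' => Equiv.ext fun x => Subtype.ext (mul_assoc _ _ _) }
  refine ⟨(es.symm.permCongrHom.toMonoidHom).comp act,
    es.symm.permCongrHom.injective.comp ?_⟩
  rw [injective_iff_map_eq_one]
  intro w hw
  have hn := congrArg Subtype.val (Equiv.congr_fun hw ⟨n, F.nf, F.n0⟩)
  have hf := congrArg Subtype.val (Equiv.congr_fun hw ⟨F.f, F.ff, f0⟩)
  change (w : R) * n = n at hn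
  change (w : R) * F.f = F.f at hf
  ext
  calc (w : R) = w * n * F.g + w * F.f := by
        rw [mul_assoc, F.ng, ← mul_add, F.sum, mul_one]
    _ = 1 := by rw [hn, hf, F.ng, F.sum]

end Cfsg.Agent.PGVRing
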