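import Mathlib
import Cfsg.Agent.Lib.PGVConf
import Cfsg.Agent.Lib.PGVRing

/-! The irreducible configuration for `p = 2`. -/

set_option autoImplicit false
set_option linter.style.haveILetI false

namespace Cfsg.Agent.PGVTwo

open Cfsg.Agent.PGVBasic Cfsg.Agent.PGVConf Cfsg.Agent.PGVRing

variable {H : Type*} [Group H] {W : Type*} [AddCommGroup W] [DistribMulAction H W]

variable (W) in
/-- The endomorphism induced by a group element. -/
abbrev io : H →* AddMonoid.End W := DistribMulAction.toAddMonoidEnd H W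

theorem io_apply (g : H) (w : W) : io W g w = g • w := rfl

variable (W) in
/-- Conjugation in the endomorphism ring. -/
def cj (g : H) : AddMonoid.End W →+* AddMonoid.End W where
  toFun r := io W g * r * io W g⁻¹
  map_one' := by rw [mul_one, ← map_mul, mul_inv_cancel, map_one]
  map_mul' r s := by
    have e : io W g⁻¹ * io W g = 1 := by rw [← map_mul, inv_mul_cancel, map_one]
    calc io W g * (r * s) * io W g⁻¹ = io W g * r * 1 * s * io W g⁻¹ := by
          rw [mul_one]; simp only [mul_assoc]
      _ = _ := by rw [← e]; simp only [mul_assoc]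
  map_zero' := by rw [mul_zero, zero_mul]
  map_add' r s := by rw [mul_add, add_mul]

theorem cj_apply (g : H) (r : AddMonoid.End W) (w : W) : cj W g r w = g • r (g⁻¹ • w) := rfl

theorem cj_io (g k : H) : cj W g (io W k) = io W (gc g k) := by
  show io W g * io W k * io W g⁻¹ = _
  rw [← map_mul, ← map_mul]
  rfl

variable {a : H} {K B : Subgroup H} [Fact (Nat.Prime 2)]

/-- The case `p = 2` is impossible. -/
theorem false_of_two (c : Conf W 2 a K B) [FaithfulSMul H W] [Finite W]
    (hW : ∀ w : W, (2 : ℕ) • w = 0)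
    (irr : ∀ M : AddSubgroup W, Inv a K B M → M = ⊥ ∨ M = ⊤) : False := by
  classical
  have hadd : ∀ w : W, w + w = 0 := fun w => by rw [← two_nsmul]; exact hW w
  have hneg : ∀ w : W, -w = w := fun w => neg_eq_of_add_eq_zero_left (hadd w)
  have ha2 : a * a = 1 := by rw [← pow_two]; exact c.orb.pow
  have hainv : a⁻¹ = a := inv_eq_of_mul_eq_one_left ha2
  have hphi : ∀ k : H, phi a k 2 = k * gc a k := fun k => by simp [phi, one_gc, pow_one]
  have hcomm : ∀ k ∈ K, ∀ l ∈ K, Commute k (gc a l) := fun k hk l hl => by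
    simpa using c.orb.comm 1 one_pos one_lt_two k hk l hl
  have hKnc : ∃ k ∈ K, ∃ l ∈ K, ¬ Commute k l := by
    by_contra h
    simp only [not_exists, not_and, not_not] at h
    apply c.ne
    rw [eq_bot_iff]
    intro k hk
    exact Subgroup.mem_bot.mpr (congrArg Subtype.val (perfect_hom_commute c.perf (MonoidHom.id K)
      (fun x y => Subtype.ext (h x x.2 y y.2).eq) ⟨k, hk⟩) : k = 1)
  -- the point `u`
  obtain ⟨t₀, ht₀⟩ : ∃ w : W, a • w - w ≠ 0 := by
    by_contra h
    simp only [not_exists, not_not, sub_eq_zero] at h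
    have ha1 : a = 1 := FaithfulSMul.eq_of_smul_eq_smul fun w : W => by rw [h w, one_smul]
    obtain ⟨k, hk, l, hl, hne⟩ := hKnc
    apply hne
    have := hcomm k hk l hl
    rwa [ha1, one_gc] at this
  obtain ⟨u, hu⟩ : ∃ u, u = a • t₀ - t₀ := ⟨_, rfl⟩
  have hau : a • u = u := by
    rw [hu, smul_sub, ← mul_smul, ha2, one_smul, ← neg_sub, hneg]
  have hku : ∀ k ∈ K, gc a k • u = k⁻¹ • u := fun k hk => by
    rw [eq_inv_smul_iff, ← mul_smul, ← hphi, hu]
    exact c.tw k hk t₀
  -- the ring
  let Rs : Subring (AddMonoid.End W) := Subring.closure (io W '' (K : Set H))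
  have hRK : ∀ k ∈ K, io W k ∈ Rs := fun k hk => Subring.subset_closure ⟨k, hk, rfl⟩
  have hR1 : ∀ k ∈ K, ∀ r ∈ Rs, Commute (io W (gc a k)) r := by
    intro k hk r hr
    have hle : Rs ≤ Subring.centralizer {io W (gc a k)} := by
      refine Subring.closure_le.mpr ?_
      rintro _ ⟨l, hl, rfl⟩
      rw [SetLike.mem_coe, Subring.mem_centralizer_iff]
      rintro _ rfl
      rw [← map_mul, ← map_mul, (hcomm l hl k hk).eq]
    exact Subring.mem_centralizer_iff.mp (hle hr) _ rfl
  have hR2 : ∀ r ∈ Rs, ∀ s ∈ Rs, Commute (cj W a s) r := by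
    intro r hr s hs
    have hle : Rs ≤ (Subring.centralizer {r}).comap (cj W a) := by
      refine Subring.closure_le.mpr ?_
      rintro _ ⟨l, hl, rfl⟩
      rw [SetLike.mem_coe, Subring.mem_comap, Subring.mem_centralizer_iff]
      rintro _ rfl
      rw [cj_io]
      exact (hR1 l hl _ hr).eq.symm
    exact (Subring.mem_centralizer_iff.mp (Subring.mem_comap.mp (hle hs)) r rfl).symm
  have linv : ∀ M : AddSubgroup W, (∀ k ∈ K, ∀ m ∈ M, k • m ∈ M) →
      (∀ k ∈ K, ∀ m ∈ M, gc a k • m ∈ M) → LInv a K M := by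
    intro M h0 h1 i k hk m hm
    rw [c.orb.pow_eq_mod i]
    rcases Nat.mod_two_eq_zero_or_one i with e | e <;> rw [e]
    · rw [pow_zero, one_gc]; exact h0 k hk m hm
    · rw [pow_one]; exact h1 k hk m hm
  have hu0 : u ≠ 0 := hu ▸ ht₀
  have hsurj : ∀ w : W, ∃ r : Rs, (r : AddMonoid.End W) u = w := by
    let M : AddSubgroup W :=
      { carrier := {w | ∃ r : Rs, (r : AddMonoid.End W) u = w}
        zero_mem' := ⟨0, rfl⟩
        add_mem' := by
          rintro x y ⟨r, rfl⟩ ⟨s, rfl⟩
          exact ⟨r + s, rfl⟩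
        neg_mem' := by
          rintro x ⟨r, rfl⟩
          exact ⟨-r, rfl⟩ }
    have hM : LInv a K M := by
      refine linv M ?_ ?_
      · rintro k hk _ ⟨r, rfl⟩
        exact ⟨⟨io W k, hRK k hk⟩ * r, rfl⟩
      · rintro k hk _ ⟨r, rfl⟩
        refine ⟨r * ⟨io W k⁻¹, hRK _ (inv_mem hk)⟩, ?_⟩
        show (r : AddMonoid.End W) (k⁻¹ • u) = gc a k • (r : AddMonoid.End W) u
        rw [← hku k hk]
        exact (congrArg (fun f : AddMonoid.End W => f u) (hR1 k hk r r.2).eq).symm
    rcases l_irred c irr hM with h | h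
    · exfalso
      have : u ∈ M := ⟨1, rfl⟩
      rw [h, AddSubgroup.mem_bot] at this
      exact hu0 this
    · exact fun w => (h ▸ AddSubgroup.mem_top w : w ∈ M)
  have hzero : ∀ r : Rs, (r : AddMonoid.End W) u = 0 → r = 0 := by
    intro r hr
    refine Subtype.ext (AddMonoidHom.ext fun w => ?_)
    obtain ⟨s, hs⟩ := hsurj (a • w)
    have e : cj W a (s : AddMonoid.End W) u = w := by
      rw [cj_apply, hainv, hau, hs, ← mul_smul, ha2, one_smul]
    have h2 := congrArg (fun f : AddMonoid.End W => f u) (hR2 r r.2 s s.2).eq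
    change cj W a (s : AddMonoid.End W) ((r : AddMonoid.End W) u) =
      (r : AddMonoid.End W) (cj W a (s : AddMonoid.End W) u) at h2
    rw [hr, map_zero, e] at h2
    exact h2.symm
  have hinj : ∀ r s : Rs, (r : AddMonoid.End W) u = (s : AddMonoid.End W) u → r = s := by
    intro r s h
    rw [← sub_eq_zero]
    refine hzero _ ?_
    show (r : AddMonoid.End W) u - (s : AddMonoid.End W) u = 0
    rw [h, sub_self]
  haveI : Finite (AddMonoid.End W) := Finite.of_injective _ DFunLike.coe_injective
  -- the anti-automorphism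
  choose ev hev using hsurj
  let σ : Rs → Rs := fun r => ev (a • (r : AddMonoid.End W) u)
  have hσ : ∀ r : Rs, (σ r : AddMonoid.End W) u = a • (r : AddMonoid.End W) u := fun r => hev _
  let tt : Rs → Rs := fun r => σ r + r
  have htt : ∀ r : Rs, (tt r : AddMonoid.End W) u =
      a • (r : AddMonoid.End W) u - (r : AddMonoid.End W) u := fun r => by
    show (σ r : AddMonoid.End W) u + (r : AddMonoid.End W) u = _
    rw [hσ, sub_eq_add_neg, hneg]
  have htwo : ∀ x : Rs, x + x = 0 := fun x =>
    Subtype.ext (AddMonoidHom.ext fun w => hadd ((x : AddMonoid.End W) w))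
  have hσmul : ∀ r s : Rs, σ (r * s) = σ s * σ r := by
    intro r s
    apply hinj
    rw [hσ]
    show a • (r : AddMonoid.End W) ((s : AddMonoid.End W) u) =
      (σ s : AddMonoid.End W) ((σ r : AddMonoid.End W) u)
    have e1 : a • (r : AddMonoid.End W) ((s : AddMonoid.End W) u) =
        cj W a (r : AddMonoid.End W) ((σ s : AddMonoid.End W) u) := by
      rw [hσ, cj_apply, inv_smul_smul]
    have e2 : (σ r : AddMonoid.End W) u = cj W a (r : AddMonoid.End W) u := by
      rw [hσ, cj_apply, hainv, hau]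
    rw [e1, e2]
    exact congrArg (fun f : AddMonoid.End W => f u) (hR2 _ (σ s).2 r r.2).eq
  have hcentral : ∀ r : Rs, tt r ∈ Subring.center Rs := by
    intro r
    have hgen : ∀ k ∈ K,
        io W k * (tt r : AddMonoid.End W) = (tt r : AddMonoid.End W) * io W k := by
      intro k hk
      suffices e : (⟨io W k, hRK k hk⟩ * tt r : Rs) = tt r * ⟨io W k, hRK k hk⟩ from
        congrArg Subtype.val e
      apply hinj
      show k • (tt r : AddMonoid.End W) u = (tt r : AddMonoid.End W) (k • u)
      have h1 := c.tw k hk ((r : AddMonoid.End W) u)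
      rw [← htt, hphi, mul_smul] at h1
      have h2 : gc a k • (tt r : AddMonoid.End W) u = (tt r : AddMonoid.End W) (k⁻¹ • u) := by
        rw [← hku k hk]
        exact congrArg (fun f : AddMonoid.End W => f u) (hR1 k hk _ (tt r).2).eq
      have h3 := c.tw k⁻¹ (inv_mem hk) ((r : AddMonoid.End W) u)
      rw [← htt, hphi, mul_smul, inv_smul_eq_iff] at h3
      have h4 : gc a k⁻¹ • (tt r : AddMonoid.End W) u = (tt r : AddMonoid.End W) (k • u) := by
        have := hku k⁻¹ (inv_mem hk)
        rw [inv_inv] at this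
        rw [← this]
        exact congrArg (fun f : AddMonoid.End W => f u) (hR1 k⁻¹ (inv_mem hk) _ (tt r).2).eq
      rw [← h4, h3]
    rw [Subring.mem_center_iff]
    intro s
    have hle : Rs ≤ Subring.centralizer {(tt r : AddMonoid.End W)} := by
      refine Subring.closure_le.mpr ?_
      rintro _ ⟨l, hl, rfl⟩
      rw [SetLike.mem_coe, Subring.mem_centralizer_iff]
      rintro _ rfl
      exact (hgen l hl).symm
    exact Subtype.ext (Subring.mem_centralizer_iff.mp (hle s.2) _ rfl).symm
  have hprime : ∀ x y : Rs, x ≠ 0 → y ≠ 0 → ∃ m, x * m * y ≠ 0 := by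
    intro x y hx hy
    by_contra hall
    simp only [not_exists, not_not] at hall
    let M : AddSubgroup W :=
      { carrier := {w | ∀ m : Rs, (x : AddMonoid.End W) ((m : AddMonoid.End W) w) = 0}
        zero_mem' := fun m => by rw [map_zero, map_zero]
        add_mem' := fun {v w} hv hw m => by rw [map_add, map_add, hv m, hw m, add_zero]
        neg_mem' := fun {v} hv m => by rw [map_neg, map_neg, hv m, neg_zero] }
    have hM : LInv a K M := by
      refine linv M ?_ ?_
      · intro k hk w hw m
        exact hw (m * ⟨io W k, hRK k hk⟩)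
      · intro k hk w hw m
        have e : Commute (io W (gc a k)) ((x * m : Rs) : AddMonoid.End W) :=
          hR1 k hk _ (x * m).2
        have := congrArg (fun f : AddMonoid.End W => f w) e.eq
        change gc a k • (x : AddMonoid.End W) ((m : AddMonoid.End W) w) =
          (x : AddMonoid.End W) ((m : AddMonoid.End W) (gc a k • w)) at this
        rw [← this, hw m, smul_zero]
    rcases l_irred c irr hM with h | h
    · have hyu : (y : AddMonoid.End W) u ∈ M := fun m =>
        congrArg (fun f : Rs => (f : AddMonoid.End W) u) (hall m)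
      rw [h, AddSubgroup.mem_bot] at hyu
      exact hy (hzero y hyu)
    · exact hx (hzero x ((h ▸ AddSubgroup.mem_top u : u ∈ M) 1))
  have hinv : ∀ r ∈ Subring.center Rs, r ≠ 0 → ∃ d ∈ Subring.center Rs, r * d = 1 := by
    intro r hr hr0
    let M : AddSubgroup W := AddMonoidHom.ker (r : AddMonoid.End W)
    have hM : LInv a K M := by
      refine linv M ?_ ?_
      · intro k hk w hw
        have := congrArg (fun f : Rs => (f : AddMonoid.End W) w)
          (Subring.mem_center_iff.mp hr ⟨io W k, hRK k hk⟩)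
        change k • (r : AddMonoid.End W) w = (r : AddMonoid.End W) (k • w) at this
        show (r : AddMonoid.End W) (k • w) = 0
        rw [← this, show (r : AddMonoid.End W) w = 0 from hw, smul_zero]
      · intro k hk w hw
        have := congrArg (fun f : AddMonoid.End W => f w) (hR1 k hk r r.2).eq
        change gc a k • (r : AddMonoid.End W) w = (r : AddMonoid.End W) (gc a k • w) at this
        show (r : AddMonoid.End W) (gc a k • w) = 0
        rw [← this, show (r : AddMonoid.End W) w = 0 from hw, smul_zero]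
    have hker : M = ⊥ := (l_irred c irr hM).resolve_right fun h =>
      hr0 (hzero r (h ▸ AddSubgroup.mem_top u : u ∈ M))
    obtain ⟨w, hw⟩ := Finite.injective_iff_surjective.mp
      ((AddMonoidHom.ker_eq_bot_iff _).mp hker) u
    have hd : r * ev w = 1 := hinj _ _ (by
      show (r : AddMonoid.End W) ((ev w : AddMonoid.End W) u) = u
      rw [hev]; exact hw)
    refine ⟨ev w, Subring.mem_center_iff.mpr fun s => ?_, hd⟩
    have hc : ∀ y : Rs, y * r = r * y := Subring.mem_center_iff.mp hr
    calc s * ev w = ev w * r * (s * ev w) := by rw [hc, hd, one_mul]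
      _ = ev w * (s * (r * ev w)) := by rw [mul_assoc, ← mul_assoc r, ← hc s, mul_assoc]
      _ = _ := by rw [hd, mul_one]
  have hnc : ∃ x y : Rs, x * y ≠ y * x := by
    obtain ⟨k, hk, l, hl, hne⟩ := hKnc
    refine ⟨⟨io W k, hRK k hk⟩, ⟨io W l, hRK l hl⟩, fun e => hne ?_⟩
    refine FaithfulSMul.eq_of_smul_eq_smul fun w : W => ?_
    rw [mul_smul, mul_smul]
    exact congrArg (fun f : Rs => (f : AddMonoid.End W) w) e
  have hanti : ∀ r s : Rs, r * s + tt (r * s) = (s + tt s) * (r + tt r) := by
    intro r s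
    have e : ∀ x : Rs, x + tt x = σ x := fun x => by
      show x + (σ x + x) = σ x
      rw [add_left_comm, htwo, add_zero]
    rw [e, e, e, hσmul]
  have htadd : ∀ r s : Rs, tt (r + s) = tt r + tt s := by
    intro r s
    apply hinj
    show _ = (tt r : AddMonoid.End W) u + (tt s : AddMonoid.End W) u
    rw [htt, htt, htt]
    show a • ((r : AddMonoid.End W) u + (s : AddMonoid.End W) u) -
      ((r : AddMonoid.End W) u + (s : AddMonoid.End W) u) = _
    rw [smul_add]; abel
  have h : TR tt := ⟨htwo, hcentral, htadd, hanti, hinv, hprime, hnc⟩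
  -- a nilpotent element
  obtain ⟨n, hn, hnn⟩ : ∃ n : Rs, n ≠ 0 ∧ n * n = 0 := by
    obtain ⟨x, y, hx, hy, hxy⟩ : ∃ x y : Rs, x ≠ 0 ∧ y ≠ 0 ∧ x * y = 0 := by
      by_contra hno
      obtain ⟨x, y, hxy⟩ := hnc
      haveI : Nontrivial Rs := ⟨⟨x * y, y * x, hxy⟩⟩
      haveI : NoZeroDivisors Rs := ⟨fun {a b} hab => by
        by_contra hor
        simp only [not_or] at hor
        exact hno ⟨a, b, hor.1, hor.2, hab⟩⟩
      haveI : IsDomain Rs := NoZeroDivisors.to_isDomain _
      exact hxy ((Finite.isDomain_to_isField Rs).mul_comm x y)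
    obtain ⟨m, hm⟩ := hprime y x hy hx
    refine ⟨y * m * x, hm, ?_⟩
    calc y * m * x * (y * m * x) = y * m * (x * y) * (m * x) := by simp only [mul_assoc]
      _ = 0 := by rw [hxy, mul_zero, zero_mul]
  obtain ⟨F⟩ := frame h hn hnn
  have hcardW : Nat.card Rs = Nat.card W :=
    Nat.card_eq_of_bijective (fun r : Rs => (r : AddMonoid.End W) u)
      ⟨fun r s => hinj r s, fun w => ⟨ev w, hev w⟩⟩
  have h4 : Nat.card (Subring.center Rs) ^ 4 ≤ Nat.card W := hcardW ▸ card_ge h F
  have hq : Nat.card (Subring.center Rs) ≤ 2 := by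
    have hpos : 0 < Nat.card (Subring.center Rs) := Nat.card_pos
    suffices Nat.card W ≤ 2 * Nat.card (Subring.center Rs) ^ 3 by
      refine Nat.le_of_mul_le_mul_right (c := Nat.card (Subring.center Rs) ^ 3) ?_ (pow_pos hpos 3)
      calc _ = Nat.card (Subring.center Rs) ^ 4 := by ring
        _ ≤ _ := h4.trans this
    by_cases hB : B = ⊥
    · refine (c.cnt1 hB).trans (Nat.mul_le_mul_left _ (le_trans ?_ (card_t_zero h F)))
      refine Nat.card_le_card_of_injective (fun w => (⟨ev w.1, hzero _ ?_⟩ : {r // tt r = 0})) ?_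
      · rw [htt, hev, mem_fix1.mp w.2, sub_self]
      · intro v w hvw
        apply Subtype.ext
        rw [← hev v.1, ← hev w.1, show ev v.1 = ev w.1 from congrArg Subtype.val hvw]
    · have hbu : ∀ b : B, (b : H) • u = u := fun b => hu ▸ c.bfix b b.2 t₀
      have hmem : ∀ b : B, ∀ x ∈ Rs, cj W (b : H) x ∈ Rs := fun b x hx => by
        have hle : Rs ≤ Rs.comap (cj W (b : H)) := by
          refine Subring.closure_le.mpr ?_
          rintro _ ⟨l, hl, rfl⟩
          rw [SetLike.mem_coe, Subring.mem_comap, cj_io]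
          exact hRK _ (c.bnorm b b.2 l hl)
        exact Subring.mem_comap.mp (hle hx)
      let β : B → (Rs →+* Rs) := fun b =>
        ((cj W (b : H)).comp Rs.subtype).codRestrict Rs (fun x => hmem b x x.2)
      have hβ : ∀ (b : B) (r : Rs),
          (β b r : AddMonoid.End W) u = (b : H) • (r : AddMonoid.End W) u := fun b r => by
        show cj W (b : H) (r : AddMonoid.End W) u = _
        rw [cj_apply, inv_smul_eq_iff.mpr (hbu b).symm]
      have hbtt : ∀ (b : B) (r : Rs), β b (tt r) = tt r := fun b r => hinj _ _ (by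
        rw [hβ, htt]; exact c.bfix b b.2 _)
      have hcompat : ∀ b : B, Compat tt (β b) := by
        intro b
        refine ⟨fun r => hinj _ _ ?_, fun x hx => ?_, fun r => ?_⟩
        · rw [hβ, hβ, ← mul_smul, ← pow_two, c.bpow b b.2, one_smul]
        · have := hbtt b (x * F.e)
          rwa [t_smul h hx, F.te, mul_one] at this
        · refine (hinj _ _ ?_).trans (hbtt b r)
          rw [htt, hβ, hβ, htt, smul_sub, ← mul_smul, ← mul_smul, (c.bcomm b b.2).eq]
      have hcommβ : ∀ (i j : B) (r : Rs), β i (β j r) = β j (β i r) := fun i j r => hinj _ _ (by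
        rw [hβ, hβ, hβ, hβ, ← mul_smul, ← mul_smul, (c.bab i i.2 j j.2).eq])
      have hinjβ : ∀ i j : B, (∀ r, β i r = β j r) → i = j := fun i j hij => Subtype.ext
        (FaithfulSMul.eq_of_smul_eq_smul fun w : W => by rw [← hev w, ← hβ, ← hβ, hij])
      obtain ⟨b₀, hb₀, hne⟩ := B.bot_or_exists_ne_one.resolve_left hB
      have h0 : ∃ r, β ⟨b₀, hb₀⟩ r ≠ r := by
        by_contra hall
        simp only [not_exists, not_not] at hall
        apply hne
        refine FaithfulSMul.eq_of_smul_eq_smul fun w : W => ?_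
        rw [one_smul, ← hev w]
        have := hβ ⟨b₀, hb₀⟩ (ev w)
        rw [hall] at this
        exact this.symm
      obtain ⟨hfix, hcard⟩ := bounds h β hcompat hcommβ hinjβ ⟨b₀, hb₀⟩ h0 hn hnn
      refine c.cnt2.trans ?_
      rw [mul_assoc, pow_succ' (Nat.card (Subring.center Rs)) 2]
      refine Nat.mul_le_mul_left _ (Nat.mul_le_mul hcard (le_trans ?_ hfix))
      refine Nat.card_le_card_of_injective
        (fun w => (⟨ev w.1, hinj _ _ ?_⟩ : {r // β ⟨b₀, hb₀⟩ r = r})) ?_
      · rw [hβ, hev]; exact w.2 b₀ hb₀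
      · intro v w hvw
        apply Subtype.ext
        rw [← hev v.1, ← hev w.1, show ev v.1 = ev w.1 from congrArg Subtype.val hvw]
  obtain ⟨ψ, hψ⟩ := units_embed h F hq
  let ι : K →* Rsˣ := MonoidHom.toHomUnits
    { toFun := fun k : K => (⟨io W (k : H), hRK k k.2⟩ : Rs)
      map_one' := Subtype.ext (map_one (io W))
      map_mul' := fun x y => Subtype.ext (map_mul (io W) (x : H) y) }
  let f := ψ.comp ι
  have hsign : ∀ k, Equiv.Perm.sign (f k) = 1 :=
    perfect_hom_commute c.perf (Equiv.Perm.sign.comp f) (fun x y => Commute.all _ _)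
  have htriv : ∀ k, f k = 1 :=
    perfect_hom_commute c.perf f (fun x y => perm_three_metab _ _ (hsign x) (hsign y))
  apply c.ne
  rw [eq_bot_iff]
  intro k hk
  rw [Subgroup.mem_bot]
  refine FaithfulSMul.eq_of_smul_eq_smul fun w : W => ?_
  rw [one_smul]
  have h1 := hψ ((htriv ⟨k, hk⟩).trans (map_one ψ).symm)
  exact congrArg (fun r : Rsˣ => ((r : Rs) : AddMonoid.End W) w) h1

end Cfsg.Agent.PGVTwo
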