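import Mathlib
import Cfsg.Agent.Lib.PGVTwo

/-! Restriction to invariant subgroups and quotients; the configuration is impossible. -/

set_option autoImplicit false
set_option linter.style.haveILetI false

namespace Cfsg.Agent.PGVRestrict

open Cfsg.Agent.PGVBasic Cfsg.Agent.PGVConf

universe u

variable {H : Type*} [Group H] {W : Type*} [AddCommGroup W] [DistribMulAction H W]

/-- The setwise stabiliser. -/
def stab (M : AddSubgroup W) : Subgroup H where
  carrier := {g | ∀ m, g • m ∈ M ↔ m ∈ M}
  one_mem' m := by rw [one_smul]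
  mul_mem' {g h} hg hh m := by rw [mul_smul, hg, hh]
  inv_mem' {g} hg m := by
    conv_rhs => rw [← smul_inv_smul g m, hg]

theorem le_stab {M : AddSubgroup W} {X : Subgroup H} (h : ∀ g ∈ X, ∀ m ∈ M, g • m ∈ M) :
    X ≤ stab M := fun g hg m =>
  ⟨fun hm => by have := h g⁻¹ (inv_mem hg) _ hm; rwa [inv_smul_smul] at this, h g hg m⟩

/-- The action on an invariant subgroup. -/
def resHom (M : AddSubgroup W) : stab (H := H) M →* (AddMonoid.End M)ˣ :=
  MonoidHom.toHomUnits
    { toFun := fun g =>
        AddMonoidHom.mk' (fun m => (⟨(g : H) • (m : W), (g.2 m).mpr m.2⟩ : M))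
          fun x y => Subtype.ext (smul_add (g : H) (x : W) y)
      map_one' := AddMonoidHom.ext fun m => Subtype.ext (one_smul H (m : W))
      map_mul' := fun g h => AddMonoidHom.ext fun m => Subtype.ext (mul_smul (g : H) h (m : W)) }

theorem resHom_apply (M : AddSubgroup W) (g : stab (H := H) M) (m : M) :
    ((resHom M g • m : M) : W) = (g : H) • (m : W) := rfl

/-- The action on a quotient. -/
def quotHom (M : AddSubgroup W) : stab (H := H) M →* (AddMonoid.End (W ⧸ M))ˣ :=
  MonoidHom.toHomUnits
    { toFun := fun g =>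
        QuotientAddGroup.map M M (DistribSMul.toAddMonoidHom W (g : H)) fun m hm => (g.2 m).mpr hm
      map_one' := AddMonoidHom.ext fun x => QuotientAddGroup.induction_on x fun w =>
        congrArg (QuotientAddGroup.mk (s := M)) (one_smul H w)
      map_mul' := fun g h => AddMonoidHom.ext fun x => QuotientAddGroup.induction_on x fun w =>
        congrArg (QuotientAddGroup.mk (s := M)) (mul_smul (g : H) h w) }

theorem quotHom_apply (M : AddSubgroup W) (g : stab (H := H) M) (w : W) :
    quotHom M g • (QuotientAddGroup.mk w : W ⧸ M) = QuotientAddGroup.mk ((g : H) • w) := rfl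

theorem res_eq_one {M : AddSubgroup W} {g : stab (H := H) M} :
    resHom M g = 1 ↔ ∀ m ∈ M, (g : H) • m = m := by
  constructor
  · intro h m hm
    have := congrArg Subtype.val (congrArg (fun r => r • (⟨m, hm⟩ : M)) h)
    simpa [resHom_apply] using this
  · intro h
    refine Units.ext (AddMonoidHom.ext fun m => Subtype.ext ?_)
    exact h m m.2

theorem quot_eq_one {M : AddSubgroup W} {g : stab (H := H) M} :
    quotHom M g = 1 ↔ ∀ w : W, (g : H) • w - w ∈ M := by
  constructor
  · intro h w
    have := congrArg (fun r => r • (QuotientAddGroup.mk w : W ⧸ M)) h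
    simp only [quotHom_apply, one_smul] at this
    exact (QuotientAddGroup.eq_iff_sub_mem).mp this
  · intro h
    refine Units.ext (AddMonoidHom.ext fun x => QuotientAddGroup.induction_on x fun w => ?_)
    exact (QuotientAddGroup.eq_iff_sub_mem).mpr (h w)

theorem card_sub_fix [Finite W] {M F : AddSubgroup W} {c : ℕ}
    (h : Nat.card W ≤ c * Nat.card F) : Nat.card M ≤ c * Nat.card ↥(M ⊓ F) := by
  have h1 := card_sup_mul_inf M F
  have h2 : Nat.card ↥(M ⊔ F) ≤ Nat.card W := by
    rw [← AddSubgroup.card_top (G := W)]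
    exact AddSubgroup.card_le_of_le le_top
  refine Nat.le_of_mul_le_mul_right (c := Nat.card F) ?_ Nat.card_pos
  calc Nat.card M * Nat.card F = Nat.card ↥(M ⊔ F) * Nat.card ↥(M ⊓ F) := h1.symm
    _ ≤ c * Nat.card F * Nat.card ↥(M ⊓ F) := Nat.mul_le_mul_right _ (h2.trans h)
    _ = _ := by ring

theorem card_quot_fix [Finite W] {M F : AddSubgroup W} (F' : AddSubgroup (W ⧸ M)) {c : ℕ}
    (hF : ∀ w ∈ F, QuotientAddGroup.mk w ∈ F') (h : Nat.card W ≤ c * Nat.card F) :
    Nat.card (W ⧸ M) ≤ c * Nat.card F' := by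
  have hle : F ≤ F'.comap (QuotientAddGroup.mk' M) := hF
  have h1 : Nat.card F ≤ Nat.card F' * Nat.card M := by
    refine (AddSubgroup.card_le_of_le hle).trans (le_of_eq ?_)
    let g : F'.comap (QuotientAddGroup.mk' M) → F' := fun w => ⟨QuotientAddGroup.mk w.1, w.2⟩
    have := Nat.card_congr (QuotientAddGroup.preimageMkEquivAddSubgroupProdSet M (F' : Set (W ⧸ M)))
    rw [Nat.card_prod] at this
    rw [mul_comm]
    exact this
  refine Nat.le_of_mul_le_mul_right (c := Nat.card M) ?_ Nat.card_pos
  rw [← AddSubgroup.card_eq_card_quotient_mul_card_addSubgroup]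
  calc Nat.card W ≤ c * Nat.card F := h
    _ ≤ c * (Nat.card F' * Nat.card M) := Nat.mul_le_mul_left _ h1
    _ = _ := (mul_assoc _ _ _).symm

/-- The configuration is impossible. -/
theorem false_of_conf (p : ℕ) [Fact p.Prime] : ∀ (n : ℕ) (W : Type u) [AddCommGroup W] [Finite W]
    (a : (AddMonoid.End W)ˣ) (K B : Subgroup (AddMonoid.End W)ˣ), Nat.card W = n →
    (∀ w : W, p • w = 0) → Conf W p a K B → False := by
  intro n
  induction n using Nat.strong_induction_on with
  | _ n IH =>
  intro W _ _ a K B hn hW c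
  by_cases hirr : ∀ M : AddSubgroup W, Inv a K B M → M = ⊥ ∨ M = ⊤
  · by_cases hp : p = 2
    · subst hp
      exact PGVTwo.false_of_two c hW hirr
    · exact false_of_odd c hp hirr
  simp only [not_forall, not_or] at hirr
  obtain ⟨M, hM, hbot, htop⟩ := hirr
  have ha : a ∈ stab M := by
    refine le_stab (X := Subgroup.zpowers a) (fun g hg m hm => ?_) (Subgroup.mem_zpowers a)
    rw [← mem_powers_iff_mem_zpowers] at hg
    obtain ⟨j, rfl⟩ := hg
    induction j with
    | zero => simpa using hm
    | succ j ih =>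
      show a ^ (j + 1) • m ∈ M
      rw [pow_succ', mul_smul]
      exact hM.mem_a _ ih
  have hK : K ≤ stab M := le_stab hM.mem_K
  have hB : B ≤ stab M := le_stab hM.mem_B
  have hMlt : Nat.card M < Nat.card W := by
    rw [← AddSubgroup.card_top (G := W)]
    exact lt_of_not_ge fun h => htop (AddSubgroup.eq_of_le_of_card_ge le_top h)
  by_cases hne : ∃ k : K, resHom M (Subgroup.inclusion hK k) ≠ 1
  · refine IH _ (hn ▸ hMlt) M (resHom M ⟨a, ha⟩) ((resHom M).comp (Subgroup.inclusion hK)).range
      ((resHom M).comp (Subgroup.inclusion hB)).range rfl (fun m => Subtype.ext (hW m.1)) ?_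
    refine transfer c (stab M) (resHom M) ha hK hB hne ?_ ?_ ?_ ?_
    · intro k w
      rw [← map_phi]
      apply Subtype.ext
      rw [resHom_apply]
      show ((phi (⟨a, ha⟩ : stab M) (Subgroup.inclusion hK k) p : stab M) : (AddMonoid.End W)ˣ) •
        (a • (w : W) - w) = a • (w : W) - w
      rw [← Subgroup.coe_subtype, map_phi]
      exact c.tw k k.2 w
    · intro b w
      exact Subtype.ext (c.bfix b b.2 w)
    · intro hBbot
      refine (card_sub_fix (c.cnt1 hBbot)).trans (Nat.mul_le_mul_left _ ?_)
      refine Nat.card_le_card_of_injective (fun w => ⟨⟨w.1, w.2.1⟩, mem_fix1.mpr (Subtype.ext ?_)⟩)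
        (fun v w h => Subtype.ext (congrArg (fun x => (x.1 : M).1) h))
      exact mem_fix1.mp w.2.2
    · refine (card_sub_fix c.cnt2).trans (Nat.mul_le_mul_left _ ?_)
      refine Nat.card_le_card_of_injective (fun w => ⟨⟨w.1, w.2.1⟩, ?_⟩)
        (fun v w h => Subtype.ext (congrArg (fun x => (x.1 : M).1) h))
      rintro _ ⟨b, rfl⟩
      exact Subtype.ext (w.2.2 b b.2)
  · simp only [not_exists, not_not] at hne
    have hneq : ∃ k : K, quotHom M (Subgroup.inclusion hK k) ≠ 1 := by
      by_contra hq
      simp only [not_exists, not_not] at hq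
      apply c.ne
      rw [eq_bot_iff]
      intro k hk
      rw [Subgroup.mem_bot]
      refine FaithfulSMul.eq_of_smul_eq_smul fun w : W => ?_
      rw [one_smul]
      refine perfect_fix c.perf (M := Set.univ) (fun _ _ _ _ => trivial) ?_ k hk w trivial
      intro x hx y hy m _
      have h1 : ∀ z ∈ K, ∀ v : W, z • v - v ∈ M := fun z hz v =>
        (quot_eq_one.mp (hq ⟨z, hz⟩)) v
      have h2 : ∀ z ∈ K, ∀ v ∈ M, z • v = v := fun z hz v hv =>
        (res_eq_one.mp (hne ⟨z, hz⟩)) v hv
      have e1 : x • y • m = (y • m - m) + x • m := by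
        conv_lhs => rw [← sub_add_cancel (y • m) m, smul_add, h2 x hx _ (h1 y hy m)]
      have e2 : y • x • m = (x • m - m) + y • m := by
        conv_lhs => rw [← sub_add_cancel (x • m) m, smul_add, h2 y hy _ (h1 x hx m)]
      rw [e1, e2]; abel
    have hlt : Nat.card (W ⧸ M) < Nat.card W := by
      rw [AddSubgroup.card_eq_card_quotient_mul_card_addSubgroup M]
      exact lt_mul_of_one_lt_right Nat.card_pos (M.one_lt_card_iff_ne_bot.mpr hbot)
    refine IH _ (hn ▸ hlt) (W ⧸ M) (quotHom M ⟨a, ha⟩)
      ((quotHom M).comp (Subgroup.inclusion hK)).range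
      ((quotHom M).comp (Subgroup.inclusion hB)).range rfl
      (fun x => QuotientAddGroup.induction_on x fun w =>
        show QuotientAddGroup.mk (p • w) = _ by rw [hW]; rfl) ?_
    refine transfer c (stab M) (quotHom M) ha hK hB hneq ?_ ?_ ?_ ?_
    · intro k x
      induction x using QuotientAddGroup.induction_on with
      | H w =>
        rw [← map_phi]
        show QuotientAddGroup.mk
          (((phi (⟨a, ha⟩ : stab M) (Subgroup.inclusion hK k) p : stab M) : (AddMonoid.End W)ˣ) •
            (a • w - w)) = QuotientAddGroup.mk (a • w - w)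
        rw [← Subgroup.coe_subtype, map_phi]
        exact congrArg _ (c.tw k k.2 w)
    · intro b x
      induction x using QuotientAddGroup.induction_on with
      | H w => exact congrArg (QuotientAddGroup.mk (s := M)) (c.bfix b b.2 w)
    · intro hBbot
      exact card_quot_fix _ (fun w hw => mem_fix1.mpr
        (congrArg (QuotientAddGroup.mk (s := M)) (mem_fix1.mp hw))) (c.cnt1 hBbot)
    · refine card_quot_fix _ ?_ c.cnt2
      intro w hw
      rintro _ ⟨b, rfl⟩
      exact congrArg (QuotientAddGroup.mk (s := M)) (hw b b.2)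

end Cfsg.Agent.PGVRestrict
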