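import Mathlib
import Cfsg.Agent.Lib.PGVReplace
import Cfsg.Agent.Lib.PGVRestrict

/-! The reductions in the P(G,V)-theorem. -/

set_option autoImplicit false
set_option linter.style.haveILetI false

namespace Cfsg.Agent.PGVMain

open Cfsg.Agent.PGVBasic Cfsg.Agent.PGVConf Cfsg.Agent.PGVReplace Cfsg.Agent.PGVRestrict

universe u

variable {H : Type*} [Group H] {W : Type*} [AddCommGroup W] [DistribMulAction H W]

variable (W) in
/-- A best offender `A` and a perfect subgroup `K` moved by `A` to commuting conjugates. -/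
structure Pack (p : ℕ) (A K : Subgroup H) : Prop where
  comm : ∀ a ∈ A, ∀ b ∈ A, Commute a b
  pow : ∀ a ∈ A, a ^ p = 1
  perf : commutator K = ⊤
  ne : K ≠ ⊥
  qs : QS K
  conj : ∀ c ∈ A, (∀ k ∈ K, gc c k ∈ K) ∨ (∀ k ∈ K, ∀ l ∈ K, Commute k (gc c l))
  move : ∃ c ∈ A, ∀ k ∈ K, ∀ l ∈ K, Commute k (gc c l)
  max : Maxi W A

theorem abelian_eq_bot {K : Subgroup H} (perf : commutator K = ⊤)
    (h : ∀ k ∈ K, ∀ l ∈ K, Commute k l) : K = ⊥ := by
  rw [eq_bot_iff]
  intro k hk
  exact Subgroup.mem_bot.mpr (congrArg Subtype.val (perfect_hom_commute perf (MonoidHom.id K)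
    (fun x y => Subtype.ext (h x x.2 y y.2).eq) ⟨k, hk⟩) : k = 1)

variable {p : ℕ} [Fact p.Prime]

/-- Passage to the fixed points of `h ∈ A`. -/
theorem descend [Finite W] [FaithfulSMul H W] [Finite H] (hW : ∀ w : W, p • w = 0)
    {A : Subgroup H} (hcomm : ∀ a ∈ A, ∀ b ∈ A, Commute a b) (hpow : ∀ a ∈ A, a ^ p = 1)
    (hmax : Maxi W A) {h : H} (hh : h ∈ A)
    (K : Subgroup H) (perf : commutator K = ⊤) (ne : K ≠ ⊥) (qs : QS K)
    (hK : ∀ k ∈ K, Commute h k)
    (conj : ∀ c ∈ A, (∀ k ∈ K, gc c k ∈ K) ∨ (∀ k ∈ K, ∀ l ∈ K, Commute k (gc c l)))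
    (move : ∃ c ∈ A, ∀ k ∈ K, ∀ l ∈ K, Commute k (gc c l)) :
    ∃ (A' K' : Subgroup (AddMonoid.End (fix1 W h))ˣ), Pack (fix1 W h) p A' K' := by
  have hinv : ∀ g : H, Commute h g → g ∈ stab (fix1 W h) := by
    have hone : ∀ g : H, Commute h g → ∀ m ∈ fix1 W h, g • m ∈ fix1 W h := fun g hg m hm => by
      rw [mem_fix1] at hm ⊢
      rw [← mul_smul, hg.eq, mul_smul, hm]
    intro g hg m
    exact ⟨fun hm => by have := hone g⁻¹ hg.inv_right _ hm; rwa [inv_smul_smul] at this,
      hone g hg m⟩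
  have hA : A ≤ stab (fix1 W h) := fun a ha => hinv a (hcomm h hh a ha)
  have hKs : K ≤ stab (fix1 W h) := fun k hk => hinv k (hK k hk)
  let π := resHom (H := H) (fix1 W h)
  set ψ := π.comp (Subgroup.inclusion hKs) with hψ
  set θ := π.comp (Subgroup.inclusion hA) with hθ
  have hne : ∃ k, ψ k ≠ 1 := by
    by_contra hall
    simp only [not_exists, not_not] at hall
    obtain ⟨q, hq, hqd, hqp⟩ : ∃ q, q.Prime ∧ q ∣ Nat.card K ∧ q ≠ p := by
      by_contra hno
      simp only [not_exists, not_and, not_not] at hno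
      have hKp : IsPGroup p K := IsPGroup.of_card
        (Nat.eq_prime_pow_of_unique_prime_dvd Nat.card_pos.ne' fun {d} hd hdd => hno d hd hdd)
      haveI := hKp.isNilpotent
      haveI : Nontrivial K := K.nontrivial_iff_ne_bot.mpr ne
      haveI : Group.IsPerfect K := ⟨perf⟩
      exact Group.IsPerfect.not_isSolvable K inferInstance
    haveI : Fact q.Prime := ⟨hq⟩
    obtain ⟨x, hx⟩ := exists_prime_orderOf_dvd_card' q hqd
    have hxn : ((x : K) : H) ^ q = 1 := by
      rw [← SubmonoidClass.coe_pow, ← hx, pow_orderOf_eq_one]; rfl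
    have hx1 : (x : H) = 1 := eq_one_of_fix (W := W) hW (hpow h hh) (hK x x.2).symm hxn
      (fun hd => hqp ((Nat.prime_dvd_prime_iff_eq Fact.out hq).mp hd).symm)
      (fun w hw => (res_eq_one.mp (hall x)) w (mem_fix1.mpr hw))
    rw [show x = 1 from Subtype.ext hx1, orderOf_one] at hx
    exact hq.ne_one hx.symm
  have hθr : ∀ c : A, ∀ k : K, ∀ m : K, gc (c : H) k = m → gc (θ c) (ψ k) = ψ m := by
    intro c k m e
    show gc (π _) (π _) = π _
    rw [← map_gc]
    congr 1
    exact Subtype.ext e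
  refine ⟨θ.range, ψ.range,
    { comm := ?_, pow := ?_, perf := perfect_range perf ψ, ne := ?_, qs := qs_range qs ψ,
      conj := ?_, move := ?_, max := ?_ }⟩
  · rintro _ ⟨a, rfl⟩ _ ⟨b, rfl⟩
    exact Commute.map (show Commute a b from Subtype.ext (hcomm a a.2 b b.2).eq) θ
  · rintro _ ⟨a, rfl⟩
    rw [← map_pow, show a ^ p = 1 from Subtype.ext (hpow a a.2), map_one]
  · intro e
    obtain ⟨k, hk⟩ := hne
    exact hk (Subgroup.mem_bot.mp (e ▸ ⟨k, rfl⟩ : ψ k ∈ (⊥ : Subgroup _)))
  · rintro _ ⟨c, rfl⟩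
    rcases conj c c.2 with h1 | h1
    · left
      rintro _ ⟨k, rfl⟩
      exact ⟨⟨_, h1 k k.2⟩, (hθr c k ⟨_, h1 k k.2⟩ rfl).symm⟩
    · right
      rintro _ ⟨k, rfl⟩ _ ⟨l, rfl⟩
      have h2 : Commute (Subgroup.inclusion hKs k)
          (gc (Subgroup.inclusion hA c) (Subgroup.inclusion hKs l)) :=
        Subtype.ext (h1 k k.2 l l.2).eq
      have := h2.map π
      rwa [map_gc] at this
  · obtain ⟨c, hc, h1⟩ := move
    refine ⟨θ ⟨c, hc⟩, ⟨_, rfl⟩, ?_⟩
    rintro _ ⟨k, rfl⟩ _ ⟨l, rfl⟩
    have h2 : Commute (Subgroup.inclusion hKs k)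
        (gc (Subgroup.inclusion hA ⟨c, hc⟩) (Subgroup.inclusion hKs l)) :=
      Subtype.ext (h1 k k.2 l l.2).eq
    have := h2.map π
    rwa [map_gc] at this
  · -- the inequality
    have hpre : ∀ B : Subgroup (AddMonoid.End (fix1 W h))ˣ, B ≤ θ.range →
        wt W ((B.comap θ).map A.subtype) = wt (fix1 W h) B * Nat.card θ.ker := by
      intro B hB
      have hh' : h ∈ (B.comap θ).map A.subtype := by
        refine ⟨⟨h, hh⟩, ?_, rfl⟩
        have : θ ⟨h, hh⟩ = 1 := res_eq_one.mpr fun m hm => mem_fix1.mp hm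
        rw [SetLike.mem_coe, Subgroup.mem_comap, this]
        exact B.one_mem
      have hc1 : Nat.card ((B.comap θ).map A.subtype) = Nat.card B * Nat.card θ.ker := by
        rw [Subgroup.card_map_of_injective A.subtype_injective]
        have i1 : (B.comap θ).index = B.relIndex θ.range := Subgroup.index_comap B θ
        have i2 := Subgroup.card_mul_index (B.comap θ)
        have i3 := card_relIndex hB
        have i4 : Nat.card A = Nat.card θ.range * Nat.card θ.ker := by
          rw [Subgroup.card_eq_card_quotient_mul_card_subgroup θ.ker,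
            Nat.card_congr (QuotientGroup.quotientKerEquivRange θ).toEquiv]
        have hr : 0 < B.relIndex θ.range :=
          Nat.pos_of_mul_pos_left (i3.symm ▸ Nat.card_pos : 0 < Nat.card B * B.relIndex θ.range)
        rw [i1, i4, ← i3] at i2
        refine Nat.eq_of_mul_eq_mul_right hr (i2.trans ?_)
        ring
      have hc2 : Nat.card (fixA W ((B.comap θ).map A.subtype)) =
          Nat.card (fixA (fix1 W h) B) := by
        refine Nat.card_congr
          { toFun := fun w => ⟨⟨w.1, mem_fix1.mpr (w.2 h hh')⟩, fun x hx => ?_⟩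
            invFun := fun w => ⟨w.1.1, ?_⟩
            left_inv := fun _ => rfl
            right_inv := fun _ => rfl }
        · obtain ⟨c, rfl⟩ := hB hx
          exact Subtype.ext (w.2 c ⟨c, hx, rfl⟩)
        · rintro _ ⟨c, hc, rfl⟩
          exact congrArg Subtype.val (w.2 _ hc)
      rw [wt, wt, hc1, hc2]
      ring
    intro B hB
    have h1 := hmax _ ((Subgroup.map_subtype_le (B.comap θ)))
    have h2 := hpre θ.range le_rfl
    have e : (θ.range.comap θ).map A.subtype = A := by
      rw [show θ.range.comap θ = ⊤ from eq_top_iff.mpr fun a _ => ⟨a, rfl⟩,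
        ← MonoidHom.range_eq_map, Subgroup.range_subtype]
    rw [e] at h2
    rw [hpre B hB, h2] at h1
    exact Nat.le_of_mul_le_mul_right h1 Nat.card_pos

/-- No such pack exists. -/
theorem false_of_pack (p : ℕ) [Fact p.Prime] : ∀ (n : ℕ) (W : Type u) [AddCommGroup W] [Finite W]
    (A K : Subgroup (AddMonoid.End W)ˣ), Nat.card W = n →
    (∀ w : W, p • w = 0) → Pack W p A K → False := by
  intro n
  induction n using Nat.strong_induction_on with
  | _ n IH =>
  intro W _ _ A K hn hW P
  have hp : p.Prime := Fact.out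
  have hnc : ¬ ∀ k ∈ K, ∀ l ∈ K, Commute k l := fun h => P.ne (abelian_eq_bot P.perf h)
  let N : Subgroup (AddMonoid.End W)ˣ :=
    { carrier := {c | c ∈ A ∧ ∀ k ∈ K, gc c k ∈ K}
      one_mem' := ⟨A.one_mem, fun k hk => by rwa [one_gc]⟩
      mul_mem' := fun {a b} ha hb => ⟨mul_mem ha.1 hb.1, fun k hk => by
        rw [← gc_gc]; exact ha.2 _ (hb.2 k hk)⟩
      inv_mem' := fun {a} ha => ⟨inv_mem ha.1, fun k hk => by
        have hs : Function.Surjective (fun x : K => (⟨gc a x, ha.2 x x.2⟩ : K)) := by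
          refine Finite.injective_iff_surjective.mp fun x y h => Subtype.ext ?_
          have := congrArg (fun z : K => gc a⁻¹ (z : (AddMonoid.End W)ˣ)) h
          simpa [gc_gc, one_gc] using this
        obtain ⟨x, hx⟩ := hs ⟨k, hk⟩
        have hx' : gc a x = k := congrArg Subtype.val hx
        rw [← hx', gc_gc, inv_mul_cancel, one_gc]
        exact x.2⟩ }
  have hNA : N ≤ A := fun _ h => h.1
  have hout : ∀ c ∈ A, c ∉ N → ∀ k ∈ K, ∀ l ∈ K, Commute k (gc c l) := fun c hc hcN =>
    (P.conj c hc).resolve_left fun h => hcN ⟨hc, h⟩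
  have hpowN : ∀ c ∈ A, c ∉ N → ∀ i, 0 < i → i < p → c ^ i ∉ N := by
    intro c hc hcN i hi hip hmem
    apply hcN
    obtain ⟨m, hm⟩ := exists_pow_eq_self_of_coprime (n := i) (x := c)
      (((hp.coprime_iff_not_dvd.mpr (Nat.not_dvd_of_pos_of_lt hi hip)).coprime_dvd_left
        (orderOf_dvd_of_pow_eq_one (P.pow c hc))).symm)
    rw [← hm]
    exact pow_mem hmem m
  have horb : ∀ c ∈ A, c ∉ N → Orb p c K := fun c hc hcN =>
    ⟨P.pow c hc, fun i hi hip => hout _ (pow_mem hc i) (hpowN c hc hcN i hi hip)⟩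
  obtain ⟨h, hh, hhN⟩ : ∃ h ∈ A, h ∉ N := by
    obtain ⟨c, hc, hcK⟩ := P.move
    refine ⟨c, hc, fun hcN => hnc fun k hk l hl => ?_⟩
    have := hcK k hk _ ((N.inv_mem hcN).2 l hl)
    rwa [gc_gc, mul_inv_cancel, one_gc] at this
  have descent : ∀ g ∈ A, g ≠ 1 → ∀ L : Subgroup (AddMonoid.End W)ˣ, commutator L = ⊤ → L ≠ ⊥ →
      QS L → (∀ k ∈ L, Commute g k) →
      (∀ c ∈ A, (∀ k ∈ L, gc c k ∈ L) ∨ (∀ k ∈ L, ∀ l ∈ L, Commute k (gc c l))) →
      (∃ c ∈ A, ∀ k ∈ L, ∀ l ∈ L, Commute k (gc c l)) → False := by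
    intro g hg hg1 L h1 h2 h3 h4 h5 h6
    obtain ⟨A', K', P'⟩ := descend hW P.comm P.pow P.max hg L h1 h2 h3 h4 h5 h6
    have hlt : Nat.card (fix1 W g) < Nat.card W := by
      rw [← AddSubgroup.card_top (G := W)]
      refine lt_of_not_ge fun hge => hg1 ?_
      refine FaithfulSMul.eq_of_smul_eq_smul fun w : W => ?_
      rw [one_smul]
      exact mem_fix1.mp ((AddSubgroup.eq_of_le_of_card_ge le_top hge).symm ▸ AddSubgroup.mem_top w)
    exact IH _ (hn ▸ hlt) (fix1 W g) A' K' rfl (fun m => Subtype.ext (hW m.1)) P'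
  -- no element of `N` centralises `K`
  have hfaith : ∀ b ∈ N, (∀ k ∈ K, Commute b k) → b = 1 := by
    intro b hb hbK
    by_contra hb1
    exact descent b hb.1 hb1 K P.perf P.ne P.qs hbK P.conj P.move
  -- `N` has index `p`
  have hidx : ∀ a ∈ A, a ∉ N → ∀ c ∈ A, ∃ i, i < p ∧ a ^ i * c ∈ N := by
    intro a ha haN c hc
    by_contra hno
    simp only [not_exists, not_and] at hno
    have o := horb a ha haN
    have hno' : ∀ i, a ^ i * c ∉ N := fun i => by
      rw [o.pow_eq_mod i]; exact hno _ (Nat.mod_lt i hp.pos)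
    refine descent a ha (fun e => haN (e ▸ N.one_mem)) (phiHom o).range
      (perfect_range P.perf _) ?_ (qs_range P.qs _) ?_ ?_ ?_
    · intro e
      apply hnc
      intro k hk l hl
      refine (commute_of_phi_eq_one o hp.pos hk ?_ hl).symm
      exact (Subgroup.mem_bot.mp (e ▸ ⟨⟨k, hk⟩, rfl⟩ : phiHom o ⟨k, hk⟩ ∈ (⊥ : Subgroup _)))
    · rintro _ ⟨k, rfl⟩
      exact commute_phi o hp.pos k.2
    · intro d hd
      by_cases hcase : ∃ i, a ^ i * d ∈ N
      · obtain ⟨i, hi⟩ := hcase
        left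
        rintro _ ⟨k, rfl⟩
        refine ⟨⟨_, hi.2 k k.2⟩, ?_⟩
        rw [phiHom_apply, phiHom_apply, phi_gc (P.comm _ hi.1 a ha)]
        rw [((P.comm a ha d hd).pow_left i).eq, ← gc_gc, gc_pow_phi o hp.pos k.2]
      · simp only [not_exists] at hcase
        right
        rintro _ ⟨k, rfl⟩ _ ⟨l, rfl⟩
        rw [phiHom_apply, phiHom_apply, ← phi_gc (P.comm d hd a ha)]
        have hcomm : ∀ i j : ℕ, Commute (gc (a ^ i) (k : (AddMonoid.End W)ˣ))
            (gc (a ^ j) (gc d l)) := by
          intro i j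
          have := gc_commute (g := a ^ i)
            (hout _ (mul_mem (pow_mem ha ((p - 1) * i + j)) hd) (hcase _) k k.2 l l.2)
          rw [gc_gc, ← mul_assoc, ← pow_add, show i + ((p - 1) * i + j) = p * i + j by
            rw [← add_assoc]; congr 1
            conv_rhs => rw [show p = 1 + (p - 1) by have := hp.pos; omega]
            ring, pow_add, pow_mul, o.pow, one_pow, one_mul, ← gc_gc] at this
          exact this
        have h1 : ∀ n (x : (AddMonoid.End W)ˣ), (∀ j, Commute x (gc (a ^ j) (gc d l))) →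
            Commute x (phi a (gc d l) n) := by
          intro n x hx
          induction n with
          | zero => exact Commute.one_right _
          | succ n ih => exact ih.mul_right (hx n)
        have h2 : ∀ n, Commute (phi a (k : (AddMonoid.End W)ˣ) n) (phi a (gc d l) p) := by
          intro n
          induction n with
          | zero => exact Commute.one_left _
          | succ n ih => exact ih.mul_left (h1 p _ (hcomm n))
        exact h2 p
    · refine ⟨c, hc, ?_⟩
      rintro _ ⟨k, rfl⟩ _ ⟨l, rfl⟩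
      rw [phiHom_apply, phiHom_apply, ← phi_gc (P.comm c hc a ha)]
      have hcomm : ∀ i j : ℕ, Commute (gc (a ^ i) (k : (AddMonoid.End W)ˣ))
          (gc (a ^ j) (gc c l)) := by
        intro i j
        have := gc_commute (g := a ^ i)
          (hout _ (mul_mem (pow_mem ha ((p - 1) * i + j)) hc) (hno' _) k k.2 l l.2)
        rw [gc_gc, ← mul_assoc, ← pow_add, show i + ((p - 1) * i + j) = p * i + j by
          rw [← add_assoc]; congr 1
          conv_rhs => rw [show p = 1 + (p - 1) by have := hp.pos; omega]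
          ring, pow_add, pow_mul, o.pow, one_pow, one_mul, ← gc_gc] at this
        exact this
      have h1 : ∀ n (x : (AddMonoid.End W)ˣ), (∀ j, Commute x (gc (a ^ j) (gc c l))) →
          Commute x (phi a (gc c l) n) := by
        intro n x hx
        induction n with
        | zero => exact Commute.one_right _
        | succ n ih => exact ih.mul_right (hx n)
      have h2 : ∀ n, Commute (phi a (k : (AddMonoid.End W)ˣ) n) (phi a (gc c l) p) := by
        intro n
        induction n with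
        | zero => exact Commute.one_left _
        | succ n ih => exact ih.mul_left (h1 p _ (hcomm n))
      exact h2 p
  obtain ⟨X, hXA, hX1, hXfix, hXcard⟩ := exists_star hW P.comm P.pow
    (fun e => hhN ((Subgroup.mem_bot.mp (e ▸ hh : h ∈ (⊥ : Subgroup _))).symm ▸ N.one_mem)) P.max
  set B1 := X ⊓ N with hB1
  have hXle : Nat.card X ≤ p * Nat.card B1 := by
    choose i hi hiN using fun c : X => hidx h hh hhN c (hXA c.2)
    have hrel : B1.relIndex X ≤ p := by
      rw [← Nat.card_fin p]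
      refine Nat.card_le_card_of_injective
        (fun q : X ⧸ B1.subgroupOf X => (⟨i q.out, hi q.out⟩ : Fin p)) fun q r hqr => ?_
      have e : i q.out = i r.out := congrArg Fin.val hqr
      rw [← QuotientGroup.out_eq' q, ← QuotientGroup.out_eq' r, QuotientGroup.eq]
      refine ⟨(q.out⁻¹ * r.out).2, ?_⟩
      have h1 := N.mul_mem (N.inv_mem (hiN q.out)) (hiN r.out)
      rw [← e, mul_inv_rev, mul_assoc, inv_mul_cancel_left] at h1
      exact h1
    rw [← card_relIndex (inf_le_left : B1 ≤ X), mul_comm p]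
    exact Nat.mul_le_mul_left _ hrel
  -- the element `a`
  obtain ⟨a, ha, haN, hcnt⟩ : ∃ a ∈ A, a ∉ N ∧
      (B1 = ⊥ → Nat.card W ≤ p * Nat.card (fix1 W a)) := by
    by_cases hB : B1 = ⊥
    · obtain ⟨x, hx, hx1⟩ := X.bot_or_exists_ne_one.resolve_left hX1
      have hxN : x ∉ N := fun hxN => hx1 (Subgroup.mem_bot.mp (hB ▸ ⟨hx, hxN⟩))
      refine ⟨x, hXA hx, hxN, fun _ => hXcard.trans (Nat.mul_le_mul ?_ ?_)⟩
      · refine hXle.trans (le_of_eq ?_)
        rw [hB, Subgroup.card_bot, mul_one]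
      · exact AddSubgroup.card_le_of_le (fixA_anti (Subgroup.zpowers_le.mpr hx))
    · exact ⟨h, hh, hhN, fun e => absurd e hB⟩
  have o := horb a ha haN
  have hB1A : B1 ≤ A := inf_le_left.trans hXA
  have hbfix : ∀ b ∈ B1, ∀ w : W, b • (a • w - w) = a • w - w :=
    fun b hb w => hXfix b hb.1 a ha w
  let T : W →+ W := DistribSMul.toAddMonoidHom W a - AddMonoidHom.id W
  have hT : ∀ w, T w = a • w - w := fun w => rfl
  have hKinv : ∀ x ∈ (phiHom o).range, ∀ v ∈ T.range, x • v ∈ T.range := by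
    rintro _ ⟨k, rfl⟩ _ ⟨w, rfl⟩
    refine ⟨phiHom o k • w, ?_⟩
    rw [hT, hT, smul_sub, ← mul_smul, ← mul_smul, phiHom_apply, (commute_phi o hp.pos k.2).eq]
  have htw : ∀ k ∈ K, ∀ w : W, phi a k p • (a • w - w) = a • w - w := by
    by_cases hB : B1 = ⊥
    · have hT1 : Nat.card T.range ≤ p := by
        have h1 : Nat.card T.range * Nat.card T.ker = Nat.card W := by
          rw [AddSubgroup.card_eq_card_quotient_mul_card_addSubgroup T.ker,
            Nat.card_congr (QuotientAddGroup.quotientKerEquivRange T).toEquiv]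
        have h2 : T.ker = fix1 W a := by
          ext w
          rw [mem_fix1, AddMonoidHom.mem_ker, hT, sub_eq_zero]
        refine Nat.le_of_mul_le_mul_right (c := Nat.card T.ker) ?_ Nat.card_pos
        rw [h1, h2]; exact hcnt hB
      rcases eq_or_ne T.range ⊥ with e | e
      · intro k hk w
        have : a • w - w ∈ T.range := ⟨w, rfl⟩
        rw [e, AddSubgroup.mem_bot] at this
        rw [this, smul_zero]
      · obtain ⟨v₀, hv₀, hv0⟩ := T.range.bot_or_exists_ne_zero.resolve_left e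
        have hzm : AddSubgroup.zmultiples v₀ = T.range := by
          refine AddSubgroup.eq_of_le_of_card_ge (AddSubgroup.zmultiples_le.mpr hv₀) (hT1.trans ?_)
          rw [Nat.card_zmultiples, addOrderOf_eq_prime (hW v₀) hv0]
        intro k hk w
        refine perfect_fix (perfect_range P.perf (phiHom o)) (M := (T.range : Set W))
          hKinv ?_ _ ⟨⟨k, hk⟩, rfl⟩ _ ⟨w, rfl⟩
        intro x hx y hy m hm
        have key : ∀ z ∈ (phiHom o).range, ∃ j : ℤ, ∀ v ∈ T.range, z • v = j • v := by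
          intro z hz
          have := hKinv z hz v₀ hv₀
          rw [← hzm, AddSubgroup.mem_zmultiples_iff] at this
          obtain ⟨j, hj⟩ := this
          refine ⟨j, fun v hv => ?_⟩
          rw [← hzm, AddSubgroup.mem_zmultiples_iff] at hv
          obtain ⟨i, rfl⟩ := hv
          rw [smul_comm z i v₀, ← hj, ← mul_zsmul, ← mul_zsmul, mul_comm]
        obtain ⟨i, hi⟩ := key x hx
        obtain ⟨j, hj⟩ := key y hy
        rw [hi _ (hKinv y hy m hm), hj m hm, hj _ (hKinv x hx m hm), hi m hm, ← mul_zsmul,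
          ← mul_zsmul, mul_comm]
    · obtain ⟨b, hb, hb1⟩ := B1.bot_or_exists_ne_one.resolve_left hB
      let S : Subgroup K := (fixingSubgroup (AddMonoid.End W)ˣ (T.range : Set W)).comap (phiHom o)
      have hS : S.Normal := by
        refine ⟨fun x hx y => ?_⟩
        rw [Subgroup.mem_comap, mem_fixingSubgroup_iff] at hx ⊢
        intro v hv
        rw [map_mul, map_mul, map_inv, mul_smul, mul_smul,
          hx _ (hKinv _ (inv_mem ⟨y, rfl⟩) v hv), smul_inv_smul]
      have hb' : ∀ v ∈ T.range, b • v = v ∧ b⁻¹ • v = v := by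
        rintro _ ⟨w, rfl⟩
        exact ⟨hbfix b hb w, hbfix b⁻¹ (inv_mem hb) w⟩
      rcases P.qs S hS with e | e
      · intro k hk w
        exact (mem_fixingSubgroup_iff _).mp (e ▸ Subgroup.mem_top (⟨k, hk⟩ : K) : _ ∈ S)
          _ ⟨w, rfl⟩
      · exfalso
        apply hb1
        refine hfaith b hb.2 (perfect_commute_of_deviation P.perf hb.2.2 fun k hk l hl => ?_)
        have hmem : (⟨k, hk⟩ : K)⁻¹ * ⟨gc b k, hb.2.2 k hk⟩ ∈ S := by
          rw [Subgroup.mem_comap, mem_fixingSubgroup_iff]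
          intro v hv
          rw [map_mul, map_inv, mul_smul, phiHom_apply, phiHom_apply,
            phi_gc (P.comm b (hB1A hb) a ha), gc, mul_smul, mul_smul, (hb' v hv).2,
            (hb' (phi a k p • v) (hKinv _ ⟨⟨k, hk⟩, rfl⟩ v hv)).1]
          exact inv_smul_smul _ _
        exact (congrArg Subtype.val (Subgroup.mem_center_iff.mp (e hmem) ⟨l, hl⟩)).symm
  exact false_of_conf p _ W a K B1 rfl hW
    { perf := P.perf
      ne := P.ne
      qs := P.qs
      orb := o
      tw := htw
      bcomm := fun b hb => P.comm b (hB1A hb) a ha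
      bab := fun b hb b' hb' => P.comm b (hB1A hb) b' (hB1A hb')
      bpow := fun b hb => P.pow b (hB1A hb)
      bnorm := fun b hb => hb.2.2
      bfaith := fun b hb => hfaith b hb.2
      bfix := hbfix
      cnt1 := hcnt
      cnt2 := hXcard.trans (Nat.mul_le_mul hXle
        (AddSubgroup.card_le_of_le (fixA_anti inf_le_left))) }

end Cfsg.Agent.PGVMain
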