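import Mathlib
import Cfsg.Agent.Lib.HallPLength

/-!
# Subadditivity of the p-length
-/

set_option autoImplicit false

namespace Cfsg.Agent.PLengthChain

open Subgroup Cfsg.Agent.HallCore Cfsg.Agent.HallSolvable Cfsg.Agent.HallPLength

variable {G : Type*} [Group G] [Finite G] {p : ℕ} [hp : Fact p.Prime]

theorem relIndex_coprime_of_odd (a : ℕ) :
    ((term p G (2 * a)).relIndex (term p G (2 * a + 1))).Coprime p := by
  have h := piNat_relIndex_step (piOf p (2 * a)) (term p G (2 * a))
  rw [← term_succ] at h
  unfold piOf at h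
  rw [if_pos ⟨a, two_mul a⟩] at h
  exact (piNat_compl_singleton_iff hp.out).mp h

/-- Absorbing a `p'`-section into an odd term of the series. -/
theorem le_term_odd_of_coprime {a : ℕ} {N W : Subgroup G} [W.Normal]
    (hN : N ≤ term p G (2 * a + 1)) (h : (N.relIndex W).Coprime p) :
    W ≤ term p G (2 * a + 1) := by
  have h1 : ((term p G (2 * a + 1)).relIndex W).Coprime p :=
    h.coprime_dvd_left (Subgroup.relIndex_dvd_of_le_left _ hN)
  have hU : term p G (2 * a) ≤ term p G (2 * a + 1) := term_le_term (by omega)
  have h2 : ((term p G (2 * a)).relIndex (term p G (2 * a + 1) ⊔ W)).Coprime p := by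
    rw [← Subgroup.relIndex_mul_relIndex _ _ _ hU le_sup_left, sup_comm, Subgroup.relIndex_sup_right]
    exact (relIndex_coprime_of_odd a).mul_left h1
  have hW : term p G (2 * a + 1) ⊔ W ≤ term p G (2 * a + 1) := by
    conv_rhs => rw [term_succ]
    rw [le_step_iff, piOf, if_pos ⟨a, two_mul a⟩, piNat_compl_singleton_iff hp.out]
    exact h2
  exact le_sup_right.trans hW

/-- Subadditivity of the p-length. -/
theorem pLengthLE_add (N : Subgroup G) [N.Normal] {a b : ℕ} (hN : N ≤ term p G (2 * a + 1))
    (hQ : Cfsg.PLengthLE p b (G ⧸ N)) : Cfsg.PLengthLE p (a + b) G := by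
  have key : ∀ j : ℕ, (term p (G ⧸ N) (j + 1)).comap (QuotientGroup.mk' N) ≤
      term p G (2 * a + (j + 1)) := by
    intro j
    induction j with
    | zero =>
      have : ((term p (G ⧸ N) (0 + 1)).comap (QuotientGroup.mk' N)).Normal :=
        (term_two_normal p _ _).comap _
      refine le_term_odd_of_coprime hN ?_
      rw [relIndex_eq_card_map, Subgroup.map_comap_eq_self_of_surjective (QuotientGroup.mk'_surjective N),
        ← Subgroup.relIndex_bot_left,
        show (⊥ : Subgroup (G ⧸ N)) = term p (G ⧸ N) (2 * 0) from (Cfsg.Agent.HallConstrained.upperPSeries_zero).symm]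
      exact relIndex_coprime_of_odd 0
    | succ j ih =>
      have : ((term p (G ⧸ N) (j + 1 + 1)).comap (QuotientGroup.mk' N)).Normal :=
        (term_two_normal p _ _).comap _
      rw [show 2 * a + (j + 1 + 1) = (2 * a + (j + 1)) + 1 by ring, term_succ (2 * a + (j + 1)),
        le_step_iff, show piOf p (2 * a + (j + 1)) = piOf p (j + 1) by simp [piOf, parity_simps]]
      refine PiNat.of_dvd ?_ (Subgroup.relIndex_dvd_of_le_left _ ih)
      rw [Subgroup.relIndex_comap, Subgroup.map_comap_eq_self_of_surjective (QuotientGroup.mk'_surjective N),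
        term_succ (j + 1)]
      exact piNat_relIndex_step _ _
  rw [pLengthLE_iff] at hQ ⊢
  have h := key (2 * b)
  rw [hQ, Subgroup.comap_top] at h
  rw [show 2 * (a + b) + 1 = 2 * a + (2 * b + 1) by ring]
  exact top_le_iff.mp h

theorem map_subtype_term_le (M : Subgroup G) [M.Normal] (n : ℕ) :
    (term p M n).map M.subtype ≤ term p G n := by
  have hnorm : ∀ k, ((term p M k).map M.subtype).Normal := by
    intro k
    have : (term p M k).Characteristic := Subgroup.characteristic_iff_map_le.mpr fun e =>
      map_term_le (f := e.toMonoidHom) e.surjective k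
    infer_instance
  induction n with
  | zero =>
    rw [show term p M 0 = ⊥ from Cfsg.Agent.HallConstrained.upperPSeries_zero, Subgroup.map_bot]
    exact bot_le
  | succ n ih =>
    have := hnorm (n + 1)
    rw [term_succ n (G := G), le_step_iff]
    refine PiNat.of_dvd ?_ (Subgroup.relIndex_dvd_of_le_left _ ih)
    rw [Subgroup.relIndex_map_map_of_injective _ _ M.subtype_injective, term_succ n (G := M)]
    exact piNat_relIndex_step _ _

/-- A normal subgroup of p-length at most `a` lies in the term `2a+1`. -/
theorem le_term_of_pLengthLE (M : Subgroup G) [M.Normal] {a : ℕ} (h : Cfsg.PLengthLE p a M) :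
    M ≤ term p G (2 * a + 1) := by
  have h1 := map_subtype_term_le (p := p) M (2 * a + 1)
  rwa [pLengthLE_iff.mp h, ← MonoidHom.range_eq_map, M.range_subtype] at h1

end Cfsg.Agent.PLengthChain
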