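import Mathlib
import Cfsg.Prelude.Def_LocalEven
import Cfsg.Prelude.Def_Local
import Cfsg.Agent.Lib.ComponentsFitting
import Cfsg.Agent.Lib.BNPair

/-!
`p`-minimal groups over a simple group of Lie type: what is asked of the simple group, and three ways to get it.
-/

set_option autoImplicit false
set_option linter.unusedSectionVars false

namespace Cfsg.Agent.PMin87

variable {G H : Type*} [Group G] [Group H]

/-- the image of a subgroup under an automorphism -/
abbrev mv (α : MulAut G) (T : Subgroup G) : Subgroup G := T.map α.toMonoidHom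

theorem mem_mv {α : MulAut G} {T : Subgroup G} {x : G} (hx : x ∈ T) : α x ∈ mv α T :=
  Subgroup.mem_map_of_mem (f := α.toMonoidHom) hx

theorem mv_mul (α β : MulAut G) (T : Subgroup G) : mv (α * β) T = mv α (mv β T) := by
  rw [mv, mv, mv, Subgroup.map_map]; rfl

theorem mv_one (T : Subgroup G) : mv 1 T = T := Subgroup.map_id T

theorem mv_inv {α : MulAut G} {T T' : Subgroup G} (h : mv α T = T') : mv α⁻¹ T' = T := by
  rw [← h, ← mv_mul, inv_mul_cancel, mv_one]

theorem mv_mono {α : MulAut G} {T T' : Subgroup G} (h : T ≤ T') : mv α T ≤ mv α T' := Subgroup.map_mono h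

theorem mv_ne_top {α : MulAut G} {T : Subgroup G} (h : T ≠ ⊤) : mv α T ≠ ⊤ := fun e => by
  have := mv_inv e
  rw [mv, Subgroup.map_top_of_surjective _ (α⁻¹).surjective] at this
  exact h this.symm

/-- what is asked of a simple group: every invariant overgroup of `U` normalises it, and `r` holds unless some
automorphism from the `p`-group moves an overgroup -/
def Crit (p : ℕ) (U : Subgroup G) (r x : Prop) : Prop :=
  Subgroup.normalizer (U : Set G) ≠ ⊤ ∧ ∀ A : Subgroup (MulAut G), IsPGroup p A → (∀ α ∈ A, mv α U = U) →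
    ∀ L : Subgroup G, U ≤ L → L ≠ ⊤ → (∀ α ∈ A, mv α L = L) →
      (∀ T : Subgroup G, U ≤ T → T ≠ ⊤ → (∀ α ∈ A, mv α T = T) → T ≤ L) →
      L ≤ Subgroup.normalizer (U : Set G) ∧ (r ∨ (x ∧ ∃ α ∈ A, ∃ T : Subgroup G, U ≤ T ∧ mv α T ≠ T))

theorem Crit.of_equiv {p : ℕ} {U : Subgroup H} {r x : Prop} (e : G ≃* H) (h : Crit p U r x) :
    Crit p (U.map e.symm.toMonoidHom) r x := by
  set U' := U.map e.symm.toMonoidHom with hU'
  let f : MulAut G →* MulAut H :=
    { toFun := fun α => e.symm.trans (α.trans e)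
      map_one' := MulEquiv.ext fun x => by simp
      map_mul' := fun α β => MulEquiv.ext fun x => by simp }
  have hcomp : ∀ (α : MulAut G) (T : Subgroup G), mv (f α) (T.map e.toMonoidHom) = (mv α T).map e.toMonoidHom :=
    fun α T => by
      rw [mv, mv, Subgroup.map_map, Subgroup.map_map]
      congr 1
      ext x
      simp [f]
  have hback : ∀ T : Subgroup H, (T.map e.symm.toMonoidHom).map e.toMonoidHom = T := fun T => by
    ext x
    simp
  have hforth : ∀ T : Subgroup G, (T.map e.toMonoidHom).map e.symm.toMonoidHom = T := fun T => by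
    ext x
    simp
  have hinj : ∀ {T T' : Subgroup G}, T.map e.toMonoidHom = T'.map e.toMonoidHom → T = T' := fun {T T'} h => by
    rw [← hforth T, h, hforth]
  have hnorm : ∀ T : Subgroup G, (Subgroup.normalizer (T : Set G)).map e.toMonoidHom =
      Subgroup.normalizer ((T.map e.toMonoidHom : Subgroup H) : Set H) := fun T =>
    Subgroup.map_equiv_normalizer_eq T e
  refine ⟨fun htop => h.1 ?_, fun A hA hAU L hUL hL hAL hT => ?_⟩
  · rw [← hback U, ← hnorm, htop, Subgroup.map_top_of_surjective _ e.surjective]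
  · have hU1 : U'.map e.toMonoidHom = U := hback U
    refine (fun ⟨h1, h2⟩ => ?_) (h.2 (A.map f) (hA.map f) ?_ (L.map e.toMonoidHom) ?_ ?_ ?_ ?_)
    · rintro _ ⟨α, hα, rfl⟩
      rw [← hU1, hcomp, hAU α hα]
    · rw [← hU1]; exact Subgroup.map_mono hUL
    · intro htop
      refine hL (hinj ?_)
      rw [htop, Subgroup.map_top_of_surjective _ e.surjective]
    · rintro _ ⟨α, hα, rfl⟩
      rw [hcomp, hAL α hα]
    · intro T hUT hTne hAT
      have h1 := hT (T.map e.symm.toMonoidHom) (Subgroup.map_mono hUT) (fun htop => hTne ?_) fun α hα => hinj ?_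
      · have := Subgroup.map_mono (f := e.toMonoidHom) h1
        rwa [hback] at this
      · rw [← hback T, htop, Subgroup.map_top_of_surjective _ e.surjective]
      · rw [← hcomp, hback]
        exact hAT _ ⟨α, hα, rfl⟩
    · refine ⟨?_, h2.imp id fun ⟨hx, β, hβ, T, hUT, hne⟩ => ⟨hx, ?_⟩⟩
      · rw [← hU1, ← hnorm] at h1
        exact (Subgroup.map_le_map_iff_of_injective e.injective).1 h1
      · obtain ⟨α, hα, rfl⟩ := hβ
        refine ⟨α, hα, T.map e.symm.toMonoidHom, Subgroup.map_mono hUT, fun heq => hne ?_⟩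
        rw [← hback T, hcomp, heq]

/-- it is enough to look at one Sylow subgroup -/
theorem Crit.sylow [Finite G] {p : ℕ} [Fact p.Prime] {U : Sylow p G} {r x : Prop}
    (h : Crit p (U : Subgroup G) r x) (U' : Sylow p G) : Crit p (U' : Subgroup G) r x := by
  obtain ⟨g, hg⟩ := MulAction.exists_smul_eq G U U'
  have h1 := h.of_equiv (MulAut.conj g).symm
  have h2 : (U' : Subgroup G) = (U : Subgroup G).map (MulAut.conj g).toMonoidHom := by
    rw [← hg]; rfl
  rw [h2]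
  simpa using h1

/-- the way into the statement -/
theorem main {X : Type*} [Group X] [Finite X] {p : ℕ} [Fact p.Prime] (hX : Cfsg.IsPMinimal p X)
    (K : Subgroup X) [hKn : K.Normal] {r x : Prop} (U : Sylow p ↥K) (h : Crit p (U : Subgroup ↥K) r x) :
    IsCoatom (Subgroup.normalizer (((U : Subgroup ↥K).map K.subtype : Subgroup X) : Set X)) ∧
      (r ∨ (x ∧ K ≠ ⊤)) := by
  set U1 : Subgroup X := (U : Subgroup ↥K).map K.subtype with hU1
  obtain ⟨S, hS⟩ := (U.2.map K.subtype).exists_le_sylow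
  have hSK : ∀ y : ↥K, (y : X) ∈ (S : Subgroup X) → y ∈ (U : Subgroup ↥K) := by
    intro y hy
    have he : (S : Subgroup X).comap K.subtype = (U : Subgroup ↥K) :=
      U.3 (S.2.comap_of_injective K.subtype K.subtype_injective) fun z hz => hS (Subgroup.mem_map_of_mem _ hz)
    exact he ▸ hy
  have hUS : ∀ y ∈ (U : Subgroup ↥K), (y : X) ∈ (S : Subgroup X) := fun y hy => hS (Subgroup.mem_map_of_mem _ hy)
  obtain ⟨-, M, ⟨hM, hSM⟩, huniq⟩ := hX S
  have hover : ∀ T : Subgroup X, (S : Subgroup X) ≤ T → T ≠ ⊤ → T ≤ M := fun T hST hT => by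
    obtain ⟨M', hM', hTM'⟩ := (eq_top_or_exists_le_coatom T).resolve_left hT
    exact (huniq M' ⟨hM', hST.trans hTM'⟩) ▸ hTM'
  set N := Subgroup.normalizer (U1 : Set X) with hN
  have hnormK : ∀ g : X, g ∈ (S : Subgroup X) → mv (MulAut.conjNormal g : MulAut ↥K) (U : Subgroup ↥K) =
      (U : Subgroup ↥K) := by
    intro g hg
    ext y
    refine ⟨?_, fun hy => ⟨(MulAut.conjNormal g).symm y, hSK _ ?_, MulEquiv.apply_symm_apply _ y⟩⟩
    · rintro ⟨z, hz, rfl⟩
      refine hSK _ ?_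
      show ((MulAut.conjNormal g z : ↥K) : X) ∈ (S : Subgroup X)
      rw [MulAut.conjNormal_apply]
      exact mul_mem (mul_mem hg (hUS z hz)) (inv_mem hg)
    · rw [MulAut.conjNormal_symm_apply]
      exact mul_mem (mul_mem (inv_mem hg) (hUS y hy)) hg
  have hSN : (S : Subgroup X) ≤ N := by
    intro g hg
    refine Subgroup.mem_normalizer_iff.2 fun y => ⟨?_, fun hy => ?_⟩
    · rintro ⟨z, hz, rfl⟩
      refine ⟨MulAut.conjNormal g z, ?_, MulAut.conjNormal_apply g z⟩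
      exact (hnormK g hg).le (mem_mv hz)
    · obtain ⟨z, hz, hze⟩ := hy
      have h1 := (hnormK g⁻¹ (inv_mem hg)).le (mem_mv (α := MulAut.conjNormal g⁻¹) hz)
      refine ⟨_, h1, ?_⟩
      show ((MulAut.conjNormal g⁻¹ z : ↥K) : X) = y
      rw [MulAut.conjNormal_apply, show (z : X) = g * y * g⁻¹ from hze]
      group
  have hNnorm : ∀ y : ↥K, (y : X) ∈ N ↔ y ∈ Subgroup.normalizer ((U : Subgroup ↥K) : Set ↥K) := by
    intro y
    rw [hN, Subgroup.mem_normalizer_iff, Subgroup.mem_normalizer_iff]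
    refine ⟨fun hy z => ?_, fun hy z => ⟨?_, fun hz => ?_⟩⟩
    · have h1 := hy (z : X)
      rwa [hU1, show (y : X) * z * (y : X)⁻¹ = K.subtype (y * z * y⁻¹) from rfl,
        show (z : X) = K.subtype z from rfl, Subgroup.mem_map_iff_mem K.subtype_injective,
        Subgroup.mem_map_iff_mem K.subtype_injective] at h1
    · rintro ⟨w, hw, rfl⟩
      exact ⟨_, (hy w).1 hw, rfl⟩
    · obtain ⟨w, hw, hwe⟩ := hz
      refine ⟨_, ((hy (y⁻¹ * w * y)).2 (by rw [show y * (y⁻¹ * w * y) * y⁻¹ = w by group]; exact hw)), ?_⟩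
      show (y : X)⁻¹ * w * y = z
      rw [show (w : X) = (y : X) * z * (y : X)⁻¹ from hwe]
      group
  have hNtop : N ≠ ⊤ := fun htop => h.1 (eq_top_iff.2 fun y _ => (hNnorm y).1 (htop ▸ Subgroup.mem_top _))
  have hNM : N ≤ M := hover N hSN hNtop
  have hfrattini : N ⊔ K = ⊤ := Sylow.normalizer_sup_eq_top U
  set L := M.comap K.subtype with hL
  have hLtop : L ≠ ⊤ := fun htop => by
    refine hM.1 (eq_top_iff.2 (hfrattini ▸ sup_le hNM fun y hy => ?_))
    exact (htop ▸ Subgroup.mem_top (⟨y, hy⟩ : ↥K) : (⟨y, hy⟩ : ↥K) ∈ L)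
  set A := ((S : Subgroup X).map (MulAut.conjNormal (H := K))) with hA
  refine (fun ⟨hLN, hrx⟩ => ?_) (h.2 A (S.2.map _) (by rintro _ ⟨g, hg, rfl⟩; exact hnormK g hg) L
    (fun y hy => hSM (hUS y hy)) hLtop ?_ ?_)
  · rintro _ ⟨g, hg, rfl⟩
    ext y
    refine ⟨?_, fun hy => ⟨(MulAut.conjNormal g).symm y, ?_, MulEquiv.apply_symm_apply _ y⟩⟩
    · rintro ⟨z, hz, rfl⟩
      show ((MulAut.conjNormal g z : ↥K) : X) ∈ M
      rw [MulAut.conjNormal_apply]
      exact mul_mem (mul_mem (hSM hg) hz) (inv_mem (hSM hg))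
    · show (((MulAut.conjNormal g).symm y : ↥K) : X) ∈ M
      rw [MulAut.conjNormal_symm_apply]
      exact mul_mem (mul_mem (inv_mem (hSM hg)) hy) (hSM hg)
  · intro T hUT hT hAT
    set T1 := T.map K.subtype with hT1
    have hnorm : (S : Subgroup X) ≤ Subgroup.normalizer (T1 : Set X) := by
      intro g hg
      refine Subgroup.mem_normalizer_iff.2 fun y => ⟨?_, fun hy => ?_⟩
      · rintro ⟨z, hz, rfl⟩
        refine ⟨MulAut.conjNormal g z, ?_, MulAut.conjNormal_apply g z⟩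
        exact (hAT _ ⟨g, hg, rfl⟩).le (mem_mv hz)
      · obtain ⟨z, hz, hze⟩ := hy
        refine ⟨_, (hAT _ ⟨g⁻¹, inv_mem hg, rfl⟩).le (mem_mv (α := MulAut.conjNormal g⁻¹) hz), ?_⟩
        show ((MulAut.conjNormal g⁻¹ z : ↥K) : X) = y
        rw [MulAut.conjNormal_apply, show (z : X) = g * y * g⁻¹ from hze]
        group
    have hne : T1 ⊔ (S : Subgroup X) ≠ ⊤ := by
      intro htop
      refine hT (eq_top_iff.2 fun y _ => ?_)
      have hy : (y : X) ∈ ((T1 ⊔ (S : Subgroup X) : Subgroup X) : Set X) := htop ▸ Subgroup.mem_top _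
      rw [Subgroup.coe_mul_of_right_le_normalizer_left _ _ hnorm] at hy
      obtain ⟨a, ⟨z, hz, rfl⟩, s, hs, hse⟩ := hy
      have hs' : s = (z : X)⁻¹ * y := eq_inv_mul_of_mul_eq hse
      have hsK : (z⁻¹ * y : ↥K) ∈ (U : Subgroup ↥K) := hSK _ (by
        show (z : X)⁻¹ * y ∈ (S : Subgroup X)
        rw [← hs']; exact hs)
      have := mul_mem hz (hUT hsK)
      rwa [mul_inv_cancel_left] at this
    exact fun y hy => hover _ le_sup_right hne (Subgroup.mem_sup_left (Subgroup.mem_map_of_mem _ hy))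
  · refine ⟨?_, hrx.imp id fun ⟨hx, α, hα, T, hUT, hne⟩ => ⟨hx, fun htop => hne ?_⟩⟩
    · refine le_antisymm hNM ?_ ▸ hM
      intro m hm
      have hm' : m ∈ N ⊔ K := hfrattini ▸ Subgroup.mem_top _
      rw [Subgroup.mem_sup_of_normal_right] at hm'
      obtain ⟨n, hn, k, hk, rfl⟩ := hm'
      refine mul_mem hn ((hNnorm ⟨k, hk⟩).2 (hLN ?_))
      show k ∈ M
      have := mul_mem (inv_mem (hNM hn)) hm
      rwa [inv_mul_cancel_left] at this
    · obtain ⟨g, hg, rfl⟩ := hα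
      have hgK : g ∈ K := htop ▸ Subgroup.mem_top _
      have hgT : (⟨g, hgK⟩ : ↥K) ∈ T := hUT (hSK ⟨g, hgK⟩ hg)
      refine le_antisymm ?_ fun y hy => ⟨(⟨g, hgK⟩ : ↥K)⁻¹ * y * ⟨g, hgK⟩,
        mul_mem (mul_mem (inv_mem hgT) hy) hgT, Subtype.ext ?_⟩
      · rintro _ ⟨y, hy, rfl⟩
        have e : MulAut.conjNormal g y = (⟨g, hgK⟩ : ↥K) * y * (⟨g, hgK⟩ : ↥K)⁻¹ :=
          Subtype.ext (MulAut.conjNormal_apply g y)
        show MulAut.conjNormal g y ∈ T
        rw [e]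
        exact mul_mem (mul_mem hgT hy) (inv_mem hgT)
      · show ((MulAut.conjNormal g _ : ↥K) : X) = y
        rw [MulAut.conjNormal_apply]
        simp [mul_assoc]

/-! ### Rank one -/

theorem crit_of_tight {p : ℕ} {U : Subgroup G} {r x : Prop} (hN : Subgroup.normalizer (U : Set G) ≠ ⊤)
    (hr : r) (h : ∀ T : Subgroup G, U ≤ T → T ≠ ⊤ → T ≤ Subgroup.normalizer (U : Set G)) : Crit p U r x :=
  ⟨hN, fun _ _ _ L hUL hL _ _ => ⟨h L hUL hL, Or.inl hr⟩⟩

/-! ### Overgroups covered by finitely many maximal ones -/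

/-- finitely many proper overgroups covering all, each separated from the others -/
structure Frame (U : Subgroup G) {ι : Type*} (P : ι → Subgroup G) : Prop where
  le : ∀ i, U ≤ P i
  cover : ∀ T : Subgroup G, U ≤ T → T ≠ ⊤ → ∃ i, T ≤ P i
  sep : ∀ i, ∃ y, y ∉ P i ∧ ∀ j, j ≠ i → y ∈ P j

section Frame

variable {U : Subgroup G} {ι : Type*} {P : ι → Subgroup G}

theorem Frame.ne_top (F : Frame U P) (i : ι) : P i ≠ ⊤ := fun h =>
  (F.sep i).elim fun y hy => hy.1 (h ▸ Subgroup.mem_top y)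

theorem Frame.eq_of_le (F : Frame U P) {i j : ι} (h : P i ≤ P j) : i = j := by
  obtain ⟨y, hy, hy'⟩ := F.sep j
  by_contra hne
  exact hy (h (hy' i hne))

theorem Frame.permute (F : Frame U P) {α : MulAut G} (hα : mv α U = U) (i : ι) : ∃ j, mv α (P i) = P j := by
  obtain ⟨j, hj⟩ := F.cover _ (hα ▸ mv_mono (F.le i)) (mv_ne_top (F.ne_top i))
  refine ⟨j, le_antisymm hj ?_⟩
  obtain ⟨k, hk⟩ := F.cover (mv α⁻¹ (P j)) ((mv_inv hα) ▸ mv_mono (F.le j)) (mv_ne_top (F.ne_top j))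
  have h1 : P i ≤ P k := by
    refine le_trans ?_ hk
    have := mv_mono (α := α⁻¹) hj
    rwa [← mv_mul, inv_mul_cancel, mv_one] at this
  obtain rfl := F.eq_of_le h1
  have := mv_mono (α := α) hk
  rwa [← mv_mul, mul_inv_cancel, mv_one] at this

variable {A : Subgroup (MulAut G)} (hAU : ∀ α ∈ A, mv α U = U) {L : Subgroup G} (hUL : U ≤ L) (hL : L ≠ ⊤)
  (hAL : ∀ α ∈ A, mv α L = L)
  (hT : ∀ T : Subgroup G, U ≤ T → T ≠ ⊤ → (∀ α ∈ A, mv α T = T) → T ≤ L)

include hAU hUL hL hT in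
theorem Frame.transitive (F : Frame U P) (i j : ι) : ∃ α ∈ A, mv α (P i) = P j := by
  by_contra hno
  obtain ⟨c, hc⟩ := F.cover L hUL hL
  let O : ι → Prop := fun k => ∃ α ∈ A, mv α (P c) = P k
  have hstep : ∀ {α : MulAut G} {k l : ι}, α ∈ A → mv α (P k) = P l → O k → O l :=
    fun {α k l} hα he ⟨β, hβ, hb⟩ => ⟨α * β, mul_mem hα hβ, by rw [mv_mul, hb, he]⟩
  have hex : ∃ k, ¬ O k := by
    by_contra hall
    push Not at hall
    obtain ⟨β, hβ, hb⟩ := hall i
    obtain ⟨γ, hγ, hg⟩ := hall j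
    exact hno ⟨γ * β⁻¹, mul_mem hγ (inv_mem hβ), by rw [mv_mul, mv_inv hb, hg]⟩
  obtain ⟨k, hk⟩ := hex
  let I : Subgroup G := ⨅ l : {l : ι // ¬ O l}, P l
  have hle : ∀ α ∈ A, mv α I ≤ I := fun α hα => le_iInf fun l => by
    obtain ⟨m, hm⟩ := F.permute (hAU α⁻¹ (inv_mem hα)) l.1
    have hm' : mv α (P m) = P l.1 := by simpa using mv_inv hm
    exact hm' ▸ mv_mono (iInf_le (fun l : {l : ι // ¬ O l} => P l) ⟨m, fun h => l.2 (hstep hα hm' h)⟩)
  have hIinv : ∀ α ∈ A, mv α I = I := fun α hα => le_antisymm (hle α hα) (by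
    have := mv_mono (α := α) (hle α⁻¹ (inv_mem hα))
    rwa [← mv_mul, mul_inv_cancel, mv_one] at this)
  have hItop : I ≠ ⊤ := fun h => F.ne_top k (top_le_iff.1 (h ▸ iInf_le (fun l : {l : ι // ¬ O l} => P l) ⟨k, hk⟩))
  obtain ⟨y, hy, hy'⟩ := F.sep c
  refine hy (hc (hT I (le_iInf fun l => F.le l.1) hItop hIinv (Subgroup.mem_iInf.2 fun l => hy' _ fun e => ?_)))
  exact l.2 (e ▸ ⟨1, one_mem A, mv_one _⟩)

include hAU hUL hL hAL hT in
theorem Frame.le_all (F : Frame U P) (i : ι) : L ≤ P i := by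
  obtain ⟨c, hc⟩ := F.cover L hUL hL
  obtain ⟨α, hα, he⟩ := F.transitive hAU hUL hL hT c i
  exact he ▸ hAL α hα ▸ mv_mono hc

end Frame

/-- no automorphism can move one member to another -/
theorem crit_of_fixed {p : ℕ} {U : Subgroup G} {ι : Type*} {P : ι → Subgroup G} (F : Frame U P) {r x : Prop}
    (hN : Subgroup.normalizer (U : Set G) ≠ ⊤) {i j : ι}
    (hd : ∀ α : MulAut G, mv α U = U → mv α (P i) ≠ P j) : Crit p U r x := by
  refine ⟨hN, fun A _ hAU L hUL hL _ hT => ?_⟩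
  obtain ⟨α, hα, he⟩ := F.transitive hAU hUL hL hT i j
  exact absurd he (hd α (hAU α hα))

theorem card_mv (α : MulAut G) (T : Subgroup G) : Nat.card ↥(mv α T) = Nat.card ↥T :=
  Subgroup.card_map_of_injective α.injective

theorem crit_of_card {p : ℕ} {U : Subgroup G} {ι : Type*} {P : ι → Subgroup G} (F : Frame U P) {r x : Prop}
    (hN : Subgroup.normalizer (U : Set G) ≠ ⊤) {i j : ι} (hd : Nat.card ↥(P i) ≠ Nat.card ↥(P j)) :
    Crit p U r x :=
  crit_of_fixed F hN fun α _ he => hd (by rw [← he, card_mv])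

/-- two members: only for `p = 2`, and then they are interchanged -/
theorem crit_of_two {p : ℕ} [hp : Fact p.Prime] {U : Subgroup G} {ι : Type*} {P : ι → Subgroup G} (F : Frame U P)
    {r x : Prop} (hN : Subgroup.normalizer (U : Set G) ≠ ⊤) {i j : ι} (hij : i ≠ j) (hall : ∀ k, k = i ∨ k = j)
    (hsub : P i ⊓ P j ≤ Subgroup.normalizer (U : Set G)) (hx : p = 2 → x) : Crit p U r x := by
  refine ⟨hN, fun A hA hAU L hUL hL hAL hT => ?_⟩
  obtain ⟨α, hα, he⟩ := F.transitive hAU hUL hL hT i j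
  have hne : P i ≠ P j := fun h => hij (F.eq_of_le h.le)
  refine ⟨(le_inf (F.le_all hAU hUL hL hAL hT i) (F.le_all hAU hUL hL hAL hT j)).trans hsub, Or.inr ⟨hx ?_, ?_⟩⟩
  · by_contra hp2
    have hback : mv α (P j) = P i := by
      obtain ⟨k, hk⟩ := F.permute (hAU α hα) j
      rcases hall k with rfl | rfl
      · exact hk
      · exact absurd ((mv_inv he).symm.trans (mv_inv hk)) hne
    have hev : ∀ m : ℕ, mv ((α * α) ^ m) (P i) = P i := by
      intro m
      induction m with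
      | zero => rw [pow_zero, mv_one]
      | succ m ih => rw [pow_succ, mv_mul, mv_mul, he, hback, ih]
    obtain ⟨k, hk⟩ := hA ⟨α, hα⟩
    have hk' : α ^ p ^ k = 1 := congrArg Subtype.val hk
    obtain ⟨m, hm⟩ : Odd (p ^ k) := (hp.out.odd_of_ne_two hp2).pow
    have h2 : (α * α) ^ (m + 1) = α := by
      rw [← pow_two, ← pow_mul, show 2 * (m + 1) = (2 * m + 1) + 1 by ring, ← hm, pow_succ, hk', one_mul]
    have := hev (m + 1)
    rw [h2, he] at this
    exact hne this.symm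
  · exact ⟨α, hα, P i, F.le i, fun h => hne (h.symm.trans he)⟩

/-! ### Groups with a `(B, N)`-pair -/

section BN

open BNPairLib

variable (Q : Cfsg.BNPair G)

/-- the minimal parabolic subgroup of a distinguished representative -/
abbrev par (s : G) : Subgroup G := Q.parabolic {s}

theorem par_le {s : G} {M : Subgroup G} (hB : Q.B ≤ M) (hs : s ∈ M) : par Q s ≤ M :=
  sup_le hB ((Subgroup.closure_le _).2 fun y hy => (Set.mem_singleton_iff.1 hy).symm ▸ hs)

theorem par_inj {s t : G} (hs : s ∈ Q.S) (ht : t ∈ Q.S) (h : t ∈ par Q s) : t = s :=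
  (rep_mem_parabolic_iff Q (Set.singleton_subset_iff.2 hs) ⟨t, ht⟩).1 h

theorem permute_par {α : MulAut G} (hα : mv α Q.B = Q.B) {s : G} (hs : s ∈ Q.S) :
    ∃ t ∈ Q.S, mv α (par Q s) = par Q t := by
  have hB : Q.B ≤ mv α (par Q s) := hα.symm.le.trans (mv_mono (B_le_parabolic Q _))
  obtain ⟨t, ht, htm⟩ : ∃ t ∈ Q.S, t ∈ mv α (par Q s) := by
    by_contra hno
    push Not at hno
    refine rep_not_mem Q ⟨s, hs⟩ ?_
    have h1 : mv α (par Q s) ≤ Q.B := by
      rw [eq_parabolic Q hB]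
      exact sup_le le_rfl ((Subgroup.closure_le _).2 fun y hy => absurd hy.2 (hno y hy.1))
    obtain ⟨b, hb, he⟩ := hα.ge (h1 (mem_mv (rep_mem_parabolic Q (Set.mem_singleton s))))
    obtain rfl : b = s := α.injective he
    exact hb
  refine ⟨t, ht, le_antisymm ?_ (par_le Q hB htm)⟩
  have hle : mv α⁻¹ (par Q t) ≤ par Q s := by
    have := mv_mono (α := α⁻¹) (par_le Q hB htm)
    rwa [← mv_mul, inv_mul_cancel, mv_one] at this
  have hB' : Q.B ≤ mv α⁻¹ (par Q t) := (mv_inv hα).symm.le.trans (mv_mono (B_le_parabolic Q _))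
  obtain ⟨u, hu, hut⟩ : ∃ u ∈ Q.S, u ∈ mv α⁻¹ (par Q t) := by
    by_contra hno
    push Not at hno
    refine rep_not_mem Q ⟨t, ht⟩ ?_
    have h1 : mv α⁻¹ (par Q t) ≤ Q.B := by
      rw [eq_parabolic Q hB']
      exact sup_le le_rfl ((Subgroup.closure_le _).2 fun y hy => absurd hy.2 (hno y hy.1))
    obtain ⟨b, hb, he⟩ := (mv_inv hα).ge (h1 (mem_mv (rep_mem_parabolic Q (Set.mem_singleton t))))
    obtain rfl : b = t := α⁻¹.injective he
    exact hb
  obtain rfl := par_inj Q hs hu (hle hut)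
  have := mv_mono (α := α) (par_le Q hB' hut)
  rwa [← mv_mul, mul_inv_cancel, mv_one] at this

/-- the criterion for a `(B, N)`-pair -/
theorem crit_of_bn {p : ℕ} {U : Subgroup G} {r x : Prop} (hUB : U ≤ Q.B)
    (hB : Subgroup.normalizer (U : Set G) = Q.B) {s₀ t₀ : G} (hs₀ : s₀ ∈ Q.S) (ht₀ : t₀ ∈ Q.S)
    (hd : ∀ α : MulAut G, mv α U = U → mv α Q.B = Q.B → (∃ k : ℕ, α ^ p ^ k = 1) →
      mv α (par Q s₀) ≠ par Q t₀) : Crit p U r x := by
  refine ⟨fun h => rep_not_mem Q ⟨s₀, hs₀⟩ (hB ▸ h ▸ Subgroup.mem_top _), fun A hA hAU L hUL hL _ hT => ?_⟩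
  exfalso
  have hAB : ∀ α ∈ A, mv α Q.B = Q.B := fun α hα => by
    rw [← hB, mv, Subgroup.map_equiv_normalizer_eq U α]
    exact congrArg (fun T : Subgroup G => Subgroup.normalizer (T : Set G)) (hAU α hα)
  let O : Set G := {t | t ∈ Q.S ∧ ∃ α ∈ A, mv α (par Q s₀) = par Q t}
  let O' : Set G := {t | t ∈ Q.S ∧ ¬ ∃ α ∈ A, mv α (par Q s₀) = par Q t}
  have key : ∀ J : Set G, J ⊆ Q.S → (∀ α ∈ A, ∀ a ∈ J, ∀ b ∈ Q.S, mv α (par Q a) = par Q b → b ∈ J) →
      (∃ u ∈ Q.S, u ∉ J) → Q.parabolic J ≤ L := by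
    intro J hJ hst ⟨u, hu, huJ⟩
    have hle : ∀ α ∈ A, mv α (Q.parabolic J) ≤ Q.parabolic J := by
      intro α hα
      rw [mv, Cfsg.BNPair.parabolic, Subgroup.map_sup, MonoidHom.map_closure]
      refine sup_le ((hAB α hα).le.trans le_sup_left) ((Subgroup.closure_le _).2 ?_)
      rintro _ ⟨a, ha, rfl⟩
      obtain ⟨b, hb, he⟩ := permute_par Q (hAB α hα) (hJ ha)
      exact par_le Q le_sup_left (rep_mem_parabolic Q (hst α hα a ha b hb he))
        (he ▸ mem_mv (rep_mem_parabolic Q (Set.mem_singleton a)))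
    refine hT _ (hUB.trans (B_le_parabolic Q J))
      (fun h => huJ ((rep_mem_parabolic_iff Q hJ ⟨u, hu⟩).1 (h ▸ Subgroup.mem_top _))) fun α hα =>
        le_antisymm (hle α hα) ?_
    have := mv_mono (α := α) (hle α⁻¹ (inv_mem hα))
    rwa [← mv_mul, mul_inv_cancel, mv_one] at this
  have ht₀O : t₀ ∉ O := fun ⟨_, α, hα, he⟩ => hd α (hAU α hα) (hAB α hα)
    ((hA ⟨α, hα⟩).imp fun k hk => congrArg Subtype.val hk) he
  have hO : Q.parabolic O ≤ L := key O (fun t h => h.1)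
    (fun α hα a ⟨_, β, hβ, hb⟩ b hb' he => ⟨hb', α * β, mul_mem hα hβ, by rw [mv_mul, hb, he]⟩) ⟨t₀, ht₀, ht₀O⟩
  have hs₀O : s₀ ∈ O := ⟨hs₀, 1, one_mem A, mv_one _⟩
  have hO' : Q.parabolic O' ≤ L := key O' (fun t h => h.1)
    (fun α hα a ⟨_, ha⟩ b hb' he => ⟨hb', fun ⟨β, hβ, hb⟩ => ha ⟨α⁻¹ * β, mul_mem (inv_mem hα) hβ,
      by rw [mv_mul, hb, ← he, ← mv_mul, inv_mul_cancel, mv_one]⟩⟩)
    ⟨s₀, hs₀, fun h => h.2 hs₀O.2⟩
  refine hL (top_le_iff.1 ((parabolic_S Q).ge.trans (sup_le ((B_le_parabolic Q O).trans hO) ?_)))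
  refine (Subgroup.closure_le _).2 fun t ht => ?_
  by_cases h : ∃ α ∈ A, mv α (par Q s₀) = par Q t
  · exact hO (rep_mem_parabolic Q ⟨ht, h⟩)
  · exact hO' (rep_mem_parabolic Q ⟨ht, h⟩)

/-- two representatives and an odd prime -/
theorem crit_of_bn_two {p : ℕ} [hp : Fact p.Prime] (hp2 : p ≠ 2) {U : Subgroup G} {r x : Prop} (hUB : U ≤ Q.B)
    (hB : Subgroup.normalizer (U : Set G) = Q.B) {s₀ t₀ : G} (hs₀ : s₀ ∈ Q.S) (ht₀ : t₀ ∈ Q.S) (hst : s₀ ≠ t₀)
    (hall : ∀ u ∈ Q.S, u = s₀ ∨ u = t₀) : Crit p U r x := by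
  refine crit_of_bn Q hUB hB hs₀ ht₀ fun α _ hα ⟨k, hk⟩ he => ?_
  have hne : par Q s₀ ≠ par Q t₀ := fun h =>
    hst (par_inj Q hs₀ ht₀ (h ▸ rep_mem_parabolic Q (Set.mem_singleton _))).symm
  obtain ⟨u, hu, hue⟩ := permute_par Q hα ht₀
  rcases hall u hu with rfl | rfl
  · have hev : ∀ m : ℕ, mv ((α * α) ^ m) (par Q u) = par Q u := by
      intro m
      induction m with
      | zero => rw [pow_zero, mv_one]
      | succ m ih => rw [pow_succ, mv_mul, mv_mul, he, hue, ih]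
    obtain ⟨m, hm⟩ : Odd (p ^ k) := (hp.out.odd_of_ne_two hp2).pow
    have h2 : (α * α) ^ (m + 1) = α := by
      rw [← pow_two, ← pow_mul, show 2 * (m + 1) = (2 * m + 1) + 1 by ring, ← hm, pow_succ, hk, one_mul]
    have := hev (m + 1)
    rw [h2, he] at this
    exact hne this.symm
  · exact hne ((mv_inv he).symm.trans (mv_inv hue))

end BN

end Cfsg.Agent.PMin87
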