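import Cfsg.Agent.Lib.PMinPolar87
import Cfsg.Agent.Lib.PFreeClassical87
import Cfsg.Agent.Lib.OmegaClasses
import Cfsg.Prelude.Def_LieTypeChar

/-!
The symplectic, unitary and orthogonal families.
-/

set_option autoImplicit false
set_option linter.unusedSectionVars false

namespace Cfsg.Agent.PMinClassical87

open Cfsg.Agent.SteinbergPolar Cfsg.Agent.SteinbergLattice Cfsg.Agent.PMinFlag87 Cfsg.Agent.PMinPolar87
open Cfsg.Agent.PMinExc87 (Ans)

section Generic

variable {F V : Type*} [Field F] [AddCommGroup V] [Module F V] [Finite V] [Finite F] {G : Type*} [Group G] [Finite G]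
  {K : Type*} [Group K] [Finite K] {Q : Geo F V} {ρ : G →* (V ≃ₗ[F] V)} {p : ℕ} {π : G →* K}
  [CharP F p] [hp : Fact p.Prime] [IsSimpleGroup K]

open scoped Classical

/-- two orthogonal singular vectors give two orthogonal hyperbolic pairs -/
theorem pairs (hS : Setting Q ρ p π) {e e' : V} (he0 : e ≠ 0) (hes : Q.Φ e = 0) (hes' : Q.Φ e' = 0)
    (hee : Q.B e' e = 0) (hind : ∀ a : F, e' ≠ a • e) :
    ∃ f z w, Q.Φ f = 0 ∧ Q.B f e = 1 ∧ z ∈ sub2 Q ⊤ e f ∧ w ∈ sub2 Q ⊤ e f ∧ Q.Φ z = 0 ∧ Q.Φ w = 0 ∧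
      Q.B w z = 1 ∧ Module.finrank F ↥(sub2 Q ⊤ e f) + 2 = Module.finrank F V ∧
      Module.finrank F ↥(sub2 Q (sub2 Q ⊤ e f) z w) + 4 = Module.finrank F V := by
  obtain ⟨f, -, hfs, hfe⟩ := hS.ok.exists_partner (e := e) trivial he0 hes
  obtain ⟨a, ha⟩ : ∃ a : F, Q.B (e' - a • e) f = 0 :=
    ⟨Q.B e' f / Q.B e f, by rw [Q.sub_left, Q.smul_left, div_mul_cancel₀ _ (pair_ne hfe), sub_self]⟩
  have hz : e' - a • e ∈ sub2 Q ⊤ e f := mem_sub2.2 ⟨trivial, by
    rw [Q.sub_left, Q.smul_left, hee, Q.iso e hes, mul_zero, sub_zero], ha⟩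
  have hzs : Q.Φ (e' - a • e) = 0 := by
    rw [sub_eq_add_neg, ← neg_smul, Q.Φ_add, hes', Q.Φ_smul _ _ hes, Q.smul_right, hee, mul_zero, map_zero]
    ring
  obtain ⟨w, hw, hws, hwz⟩ := (hS.ok.descend trivial trivial hes hfs hfe).exists_partner hz
    (sub_ne_zero.2 (hind a)) hzs
  have h1 := finrank_sub2 (W := (⊤ : Submodule F V)) (e := e) trivial trivial hfs hfe
  have h2 := finrank_sub2 hz hw hws hwz
  rw [finrank_top] at h1
  exact ⟨f, _, w, hfs, hfe, hz, hw, hzs, hws, hwz, h1, by omega⟩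

/-- the points of the residue are more or fewer than those of a line -/
theorem count_ne {W : Submodule F V} {z w : V} (hz : z ∈ W) (hw : w ∈ W) (hzs : Q.Φ z = 0) (hws : Q.Φ w = 0)
    (hwz : Q.B w z = 1) {d : ℕ} (hd : Module.finrank F ↥(sub2 Q W z w) = d)
    (hcase : 2 ≤ d ∨ (d = 1 ∧ ∃ c : F, c ≠ 0 ∧ Q.θ c = 0) ∨ (d = 0 ∧ ∃ c : F, Q.θ c ≠ 0)) :
    (Lines Q W).card ≠ Nat.card F + 1 := by
  have : Fintype F := Fintype.ofFinite F
  have : Fintype V := Fintype.ofFinite V
  have : Module.Finite F V := Module.Finite.of_finite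
  have hz0 := (pair_facts hwz).1
  have hzline : F ∙ z ∈ Lines Q W := mem_Lines.2 ⟨z, hz, hz0, hzs, rfl⟩
  -- the points opposite to `z`
  have hopp : ∀ (x : V) (c : F), x ∈ sub2 Q W z w → Q.θ (Q.σ c) = -Q.Φ x →
      F ∙ (w + x + c • z) ∈ Lines Q W ∧ F ∙ (w + x + c • z) ≠ F ∙ z := by
    intro x c hx hc
    obtain ⟨hxW, hxz, hxw⟩ := mem_sub2.1 hx
    have h1 : Q.B (w + x) z = 1 := by rw [Q.add_left, hwz, hxz, add_zero]
    have h2 : Q.B (w + x + c • z) z = 1 := by rw [Q.add_left, h1, Q.smul_left, Q.iso z hzs, mul_zero, add_zero]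
    refine ⟨mem_Lines.2 ⟨_, W.add_mem (W.add_mem hw hxW) (W.smul_mem _ hz), fun h0 => ?_, ?_, rfl⟩, fun h0 => ?_⟩
    · rw [h0, Q.zero_left] at h2; exact zero_ne_one h2
    · rw [Q.Φ_add, Q.Φ_add, Q.Φ_smul c z hzs, Q.smul_right, h1, mul_one, hws, Q.refl _ _ hxw, map_zero, hc]; ring
    · obtain ⟨b, hb⟩ := Submodule.mem_span_singleton.1 (h0.le (Submodule.mem_span_singleton_self _))
      rw [← hb, Q.smul_left, Q.iso z hzs, mul_zero] at h2
      exact zero_ne_one h2
  have hinj : ∀ (x : V) (c : F) (x' : V) (c' : F), x ∈ sub2 Q W z w → x' ∈ sub2 Q W z w →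
      F ∙ (w + x + c • z) = F ∙ (w + x' + c' • z) → x = x' ∧ c = c' := by
    intro x c x' c' hx hx' h
    obtain ⟨b, hb⟩ := Submodule.mem_span_singleton.1 (h.le (Submodule.mem_span_singleton_self _))
    obtain ⟨-, hxz, hxw⟩ := mem_sub2.1 hx
    obtain ⟨-, hxz', hxw'⟩ := mem_sub2.1 hx'
    have h1 := congrArg (fun y => Q.B y z) hb
    simp only [Q.smul_left, Q.add_left, hwz, hxz, hxz', Q.iso z hzs, mul_zero, add_zero, mul_one] at h1
    rw [h1, one_smul] at hb
    have h2 := congrArg (fun y => Q.B y w) hb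
    simp only [Q.smul_left, Q.add_left, hxw, hxw', Q.iso w hws, zero_add] at h2
    have hcc : c' = c := mul_right_cancel₀ (pair_ne hwz) h2
    rw [hcc, add_left_inj, add_right_inj] at hb
    exact ⟨hb.symm, hcc.symm⟩
  have hlow : ∀ (T : Finset (V × F)), (∀ t ∈ T, t.1 ∈ sub2 Q W z w ∧ Q.θ (Q.σ t.2) = -Q.Φ t.1) →
      T.card + 1 ≤ (Lines Q W).card := by
    intro T hT
    have h1 : (T.image fun t => F ∙ (w + t.1 + t.2 • z)) ⊆ (Lines Q W).erase (F ∙ z) := fun a ha => by
      obtain ⟨t, ht, rfl⟩ := Finset.mem_image.1 ha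
      obtain ⟨h1, h2⟩ := hopp t.1 t.2 (hT t ht).1 (hT t ht).2
      exact Finset.mem_erase.2 ⟨h2, h1⟩
    have h2 := Finset.card_le_card h1
    rw [Finset.card_image_of_injOn (fun t ht t' ht' h => Prod.ext_iff.2
      (hinj _ _ _ _ (hT t ht).1 (hT t' ht').1 h)), Finset.card_erase_of_mem hzline] at h2
    have := Finset.card_pos.2 ⟨_, hzline⟩
    omega
  choose c hc using fun x : V => show ∃ c : F, Q.θ (Q.σ c) = -Q.Φ x from by
    obtain ⟨t, ht⟩ := Q.trace x
    obtain ⟨c, hc⟩ := Q.σ_surj (-t)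
    exact ⟨c, by rw [hc, map_neg, ht]⟩
  have hWcard : (Finset.univ.filter (· ∈ sub2 Q W z w)).card = Nat.card F ^ d := by
    rw [← Fintype.card_subtype, ← Nat.card_eq_fintype_card, ← hd]
    exact Module.natCard_eq_pow_finrank (K := F)
  have hq : 1 < Nat.card F := Finite.one_lt_card
  intro heq
  rcases hcase with h2 | ⟨rfl, k, hk0, hk⟩ | ⟨rfl, k, hk⟩
  · have h1 := hlow ((Finset.univ.filter (· ∈ sub2 Q W z w)).image fun x => (x, c x)) (fun t ht => by
      obtain ⟨x, hx, rfl⟩ := Finset.mem_image.1 ht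
      exact ⟨(Finset.mem_filter.1 hx).2, hc x⟩)
    rw [Finset.card_image_of_injective _ (fun a b h => congrArg Prod.fst h), hWcard, heq] at h1
    have h3 : Nat.card F ^ 2 ≤ Nat.card F ^ d := Nat.pow_le_pow_right (by omega) h2
    nlinarith
  · obtain ⟨k, rfl⟩ := Q.σ_surj k
    let S := Finset.univ.filter (· ∈ sub2 Q W z w)
    have h1 := hlow ((S ×ˢ (Finset.univ : Finset Bool)).image fun x => (x.1, c x.1 + if x.2 then k else 0)) (fun t ht => by
      obtain ⟨⟨x, b⟩, hx, rfl⟩ := Finset.mem_image.1 ht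
      refine ⟨(Finset.mem_filter.1 (Finset.mem_product.1 hx).1).2, ?_⟩
      cases b <;> simp [hc x, hk])
    rw [Finset.card_image_of_injective _ (fun a b h => by
      obtain ⟨h1, h2⟩ := Prod.ext_iff.1 h
      obtain ⟨x, u⟩ := a
      obtain ⟨y, v⟩ := b
      simp only at h1 h2
      subst h1
      rw [add_right_inj] at h2
      have hk' : k ≠ 0 := fun h => hk0 (by rw [h, map_zero])
      cases u <;> cases v
      · rfl
      · exact absurd (show (0 : F) = k from h2).symm hk'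
      · exact absurd (show k = (0 : F) from h2) hk'
      · rfl), Finset.card_product, hWcard, heq, Finset.card_univ, Fintype.card_bool] at h1
    simp only [pow_one] at h1
    omega
  · have hbot : sub2 Q W z w = ⊥ := Submodule.finrank_eq_zero.1 hd
    have hsub : Lines Q W ⊆ insert (F ∙ z)
        ((Finset.univ.filter fun a : F => Q.θ (Q.σ a) = 0).image fun a => F ∙ (w + a • z)) := by
      intro L hL
      obtain ⟨v, hv, hv0, hvs, rfl⟩ := mem_Lines.1 hL
      obtain ⟨a, b, hab⟩ := decomp2 hz hw hzs hws hwz hv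
      rw [hbot, Submodule.mem_bot, sub_sub, sub_eq_zero] at hab
      rw [hab] at hvs hv0 ⊢
      rcases eq_or_ne b 0 with rfl | hb
      · rw [zero_smul, add_zero] at hv0 ⊢
        rw [Submodule.span_singleton_smul_eq (IsUnit.mk0 a fun h => hv0 (by rw [h, zero_smul]))]
        exact Finset.mem_insert_self _ _
      · refine Finset.mem_insert.2 (Or.inr (Finset.mem_image.2 ⟨a / b, Finset.mem_filter.2 ⟨Finset.mem_univ _, ?_⟩, ?_⟩))
        · have h1 := Q.Φ_smul b⁻¹ _ hvs
          rw [smul_add, smul_smul, inv_smul_smul₀ hb, add_comm, inv_mul_eq_div, Q.Φ_add, hws,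
            Q.Φ_smul _ _ hzs, Q.smul_right, hwz, mul_one, zero_add, zero_add] at h1
          exact h1
        · rw [← Submodule.span_singleton_smul_eq (IsUnit.mk0 b hb) (w + (a / b) • z), smul_add, smul_smul,
            mul_div_cancel₀ _ hb, add_comm]
    have h1 := Finset.card_le_card hsub
    have h2 : (Finset.univ.filter fun a : F => Q.θ (Q.σ a) = 0).card < Nat.card F := by
      rw [Nat.card_eq_fintype_card, ← Finset.card_univ]
      refine Finset.card_lt_card (Finset.filter_ssubset.2 ?_)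
      obtain ⟨a, rfl⟩ := Q.σ_surj k
      exact ⟨a, Finset.mem_univ _, hk⟩
    have h3 := (Finset.card_insert_le _ _).trans' h1
    have h4 := Finset.card_image_le (s := Finset.univ.filter fun a : F => Q.θ (Q.σ a) = 0)
      (f := fun a => F ∙ (w + a • z))
    omega

/-- rank at least two, not exceptional -/
theorem ans_big {r x : Prop} (hS : Setting Q ρ p π) {e e' : V} (he0 : e ≠ 0) (hes : Q.Φ e = 0)
    (hes' : Q.Φ e' = 0) (hee : Q.B e' e = 0) (hind : ∀ a : F, e' ≠ a • e) {d : ℕ}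
    (hd : d + 4 = Module.finrank F V)
    (hth : (∃ c : F, c ≠ 0 ∧ Q.θ c = 0) ∨ 3 ≤ d)
    (hcase : 2 ≤ d ∨ (d = 1 ∧ ∃ c : F, c ≠ 0 ∧ Q.θ c = 0) ∨ (d = 0 ∧ ∃ c : F, Q.θ c ≠ 0)) : Ans p K r x := by
  obtain ⟨f, z, w, hfs, hfe, hz, hw, hzs, hws, hwz, h2, h3⟩ := pairs hS he0 hes hes' hee hind
  have hT : ∀ W : Submodule F V, d ≤ Module.finrank F W → Thick Q W := fun W hW =>
    hth.imp id fun h => h.trans hW
  refine ans_count hS hes hfs hfe (hT _ (by rw [finrank_top]; omega)) hz hw hzs hws hwz (hT _ (by omega))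
    (fun _ _ _ _ => hT _ (by omega)) (count_ne hz hw hzs hws hwz (d := d) (by omega) hcase)

end Generic

variable {F : Type} [Field F] [Fintype F] {p : ℕ} [Fact p.Prime] [CharP F p] {r x : Prop}

section Sp

open Matrix Cfsg.Agent.SymplecticBasic Cfsg.Agent.SymplecticSimple Cfsg.Agent.SteinbergSymplectic

theorem setting_sp {m : ℕ} (hm : 2 ≤ m) (h2 : m = 2 → 3 ≤ Fintype.card F) :
    Setting (geo m F) (nat m F) p (QuotientGroup.mk' (Subgroup.center (symplecticGroup (Fin m) F)) :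
      _ →* Cfsg.PSp m F) where
  surj := QuotientGroup.mk'_surjective _
  inj g k h := ext_smul fun y => by rw [← nat_apply g, ← nat_apply k, h]
  scal z hz v _ := by
    obtain ⟨a, ha⟩ := center_scalar (by omega) ((QuotientGroup.eq_one_iff z).1 hz)
    exact ⟨a, ha v⟩
  ok := PFreeClassical87.ok_sp
  good := PFreeClassical87.good_psp hm h2
  par g X _ hθ _ := absurd (hθ 1 rfl) one_ne_zero

theorem ans_psp {m : ℕ} (hm : 2 ≤ m) (h2 : m = 2 → 3 ≤ Fintype.card F) (hx : m = 2 → p = 2 → x) :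
    Ans p (Cfsg.PSp m F) r x := by
  have := Cfsg.Agent.S0270.result m hm h2
  haveI : Finite (symplecticGroup (Fin m) F) := Subtype.finite
  haveI : Finite (Cfsg.PSp m F) := Quotient.finite _
  set e : Fin m ⊕ Fin m → F := Pi.single (Sum.inl ⟨0, by omega⟩) 1 with he
  set e' : Fin m ⊕ Fin m → F := Pi.single (Sum.inl ⟨1, by omega⟩) 1 with he'
  have hee : sympForm m F e' e = 0 := by
    rw [form_eq_sum]
    exact Finset.sum_eq_zero fun i _ => by simp [he, he']
  have hind : ∀ a : F, e' ≠ a • e := fun a h => by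
    have := congrFun h (Sum.inl ⟨1, by omega⟩)
    simp [he, he', Fin.ext_iff] at this
  have hdim : Module.finrank F (Fin m ⊕ Fin m → F) = m + m := by
    rw [Module.finrank_fintype_fun_eq_card]; simp
  have hker : ∃ c : F, c ≠ 0 ∧ (geo m F).θ c = 0 := ⟨1, one_ne_zero, rfl⟩
  rcases eq_or_ne m 2 with rfl | hm2
  · obtain ⟨f, z, w, hfs, hfe, hz, hw, hzs, hws, hwz, h2', h3⟩ :=
      pairs (setting_sp (p := p) hm h2) (e := e) (e' := e') (by simp [he]) rfl rfl hee hind
    refine ans_two (setting_sp hm h2) rfl hfs hfe (Or.inl hker) hz hw hzs hws hwz (Or.inl hker)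
      (fun v hv _ => ?_) (hx rfl)
    have : sub2 (geo 2 F) (sub2 (geo 2 F) ⊤ e f) z w = ⊥ := Submodule.finrank_eq_zero.1 (by omega)
    rwa [this, Submodule.mem_bot] at hv
  · exact ans_big (setting_sp (p := p) hm h2) (e := e) (e' := e') (by simp [he]) rfl rfl hee hind
      (d := m + m - 4) (by omega) (Or.inl hker) (Or.inl (by omega))

end Sp

section SU

open Cfsg.Agent.OrthUnitaryHerm Cfsg.Agent.OrthUnitaryTransvection Cfsg.Agent.SteinbergUnitary
open scoped Matrix

theorem setting_su {n q : ℕ} (hn : 3 ≤ n) (hF : Fintype.card F = q ^ 2) (h32 : ¬ (n = 3 ∧ q = 2))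
    (hker : ∃ c : F, c ≠ 0 ∧ (geo (n := n) hF).θ c = 0) :
    Setting (geo hF) (nat n F q) p (QuotientGroup.mk' (Subgroup.center (Cfsg.SU n F q)) : _ →* Cfsg.PSU n F q) where
  surj := QuotientGroup.mk'_surjective _
  inj g k h := su_ext fun y => by rw [← SteinbergUnitary.nat_apply g, ← SteinbergUnitary.nat_apply k, h]
  scal z hz v _ := by
    have hsc := center_SU_scalar hF (by omega) ((QuotientGroup.eq_one_iff z).1 hz)
    refine ⟨((z : Matrix.SpecialLinearGroup (Fin n) F) : Matrix (Fin n) (Fin n) F)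
      ⟨0, by omega⟩ ⟨0, by omega⟩, funext fun i => ?_⟩
    show (((z : Matrix.SpecialLinearGroup (Fin n) F) : Matrix (Fin n) (Fin n) F) *ᵥ v) i = _
    rw [Matrix.mulVec, dotProduct, Finset.sum_eq_single i (fun j _ hj => by
      rw [hsc i j, if_neg (Ne.symm hj), zero_mul]) (fun h => absurd (Finset.mem_univ i) h), hsc i i,
      if_pos rfl]
    rfl
  ok := PFreeClassical87.ok_su hF
  good := PFreeClassical87.good_psu hn hF h32
  par g X _ hθ _ := by
    obtain ⟨c, hc0, hc⟩ := hker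
    exact absurd (hθ c hc) hc0

theorem ans_psu {n q : ℕ} (hn : 3 ≤ n) (hF : Fintype.card F = q ^ 2) (h32 : ¬ (n = 3 ∧ q = 2))
    (hr : n = 3 → r) : Ans p (Cfsg.PSU n F q) r x := by
  have := Cfsg.Agent.S0283.result hF n hn h32
  haveI : Finite (Cfsg.SU n F q) := Subtype.finite
  haveI : Finite (Cfsg.PSU n F q) := Quotient.finite _
  obtain ⟨c, hc0, hc⟩ : ∃ c : F, c ≠ 0 ∧ c + c ^ q = 0 := by
    obtain ⟨a, ha⟩ : ∃ a : F, a ^ q ≠ a := by
      by_contra hall
      push Not at hall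
      classical
      have hq := two_le_q hF
      have h1 : (Finset.univ : Finset F) ⊆ (Polynomial.X ^ q - Polynomial.X : Polynomial F).roots.toFinset :=
        fun a _ => by
          rw [Multiset.mem_toFinset, Polynomial.mem_roots']
          exact ⟨FiniteField.X_pow_card_sub_X_ne_zero F (by omega), by simp [hall a]⟩
      have h2 := ((Finset.card_le_card h1).trans (Multiset.toFinset_card_le _)).trans (Polynomial.card_roots' _)
      rw [FiniteField.X_pow_card_sub_X_natDegree_eq F (by omega), Finset.card_univ, hF] at h2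
      nlinarith
    refine ⟨a ^ q - a, sub_ne_zero.2 ha, ?_⟩
    rw [sub_eq_add_neg, add_pow_q hF, neg_pow_q hF, pow_q_q hF]
    ring
  have hker : ∃ c : F, c ≠ 0 ∧ (geo (n := n) hF).θ c = 0 := ⟨c, hc0, hc⟩
  obtain ⟨s, hs⟩ := exists_norm_eq hF (a := (-1 : F)) (by rw [neg_pow_q hF, one_pow])
  have hdim : Module.finrank F (Fin n → F) = n := by rw [Module.finrank_fin_fun]
  have hiso : ∀ i j : Fin n, i ≠ j →
      hermForm n F q (Pi.single i 1 + s • Pi.single j 1) (Pi.single i 1 + s • Pi.single j 1) = 0 := by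
    intro i j hij
    simp only [herm_add_left, herm_add_right hF, herm_smul_left, herm_smul_right,
      herm_single_right hF, Pi.add_apply, Pi.smul_apply, smul_eq_mul, Pi.single_eq_same,
      Pi.single_eq_of_ne hij, Pi.single_eq_of_ne hij.symm]
    linear_combination hs
  set e : Fin n → F := Pi.single ⟨0, by omega⟩ 1 + s • Pi.single ⟨1, by omega⟩ 1 with he
  have he0 : e ≠ 0 := fun h => by
    have := congrFun h ⟨0, by omega⟩
    simp [he] at this
  have hes : hermForm n F q e e = 0 := hiso _ _ (by simp)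
  rcases eq_or_ne n 3 with rfl | hn3
  · obtain ⟨f, -, hfs, hfe⟩ := (setting_su (p := p) hn hF h32 hker).ok.exists_partner (e := e) trivial he0 hes
    have h1 := finrank_sub2 (Q := geo hF) (W := (⊤ : Submodule F (Fin 3 → F))) (e := e) trivial trivial hfs hfe
    rw [finrank_top, hdim] at h1
    refine ans_one (setting_su hn hF h32 hker) (hr rfl) (Or.inl hker) hes hfs hfe fun v hv hvs => ?_
    by_contra hv0
    have hspan : F ∙ v = sub2 (geo hF) ⊤ e f := Submodule.eq_of_le_of_finrank_le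
      ((Submodule.span_singleton_le_iff_mem _ _).2 hv) (by rw [finrank_span_singleton hv0]; omega)
    refine hv0 (((setting_su (p := p) hn hF h32 hker).ok.descend (e := e) trivial trivial hes hfs hfe).nondeg v hv
      fun u hu => ?_)
    obtain ⟨a, rfl⟩ := Submodule.mem_span_singleton.1 (hspan.ge hu)
    rw [Geo.smul_right, (geo hF).iso v hvs, mul_zero]
  · set e' : Fin n → F := Pi.single ⟨2, by omega⟩ 1 + s • Pi.single ⟨3, by omega⟩ 1 with he'
    have hee : hermForm n F q e' e = 0 := by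
      simp [he, he', herm_add_left, herm_add_right hF, herm_smul_left, herm_smul_right, herm_single_right hF,
        Pi.single_apply, Fin.ext_iff]
    have hind : ∀ a : F, e' ≠ a • e := fun a h => by
      have := congrFun h ⟨2, by omega⟩
      simp [he, he', Fin.ext_iff] at this
    refine ans_big (setting_su (p := p) hn hF h32 hker) (e := e) (e' := e') he0 hes (hiso _ _ (by simp)) hee hind
      (d := n - 4) (by omega) (Or.inl hker) ?_
    by_cases hd2 : 2 ≤ n - 4
    · exact Or.inl hd2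
    rcases Nat.eq_zero_or_pos (n - 4) with hd0 | hd1
    · refine Or.inr (Or.inr ⟨hd0, ?_⟩)
      obtain ⟨t, ht⟩ := (geo hF).trace (Pi.single (⟨0, by omega⟩ : Fin n) (1 : F))
      refine ⟨t, ?_⟩
      rw [ht]
      show hermForm n F q _ _ ≠ 0
      simp [herm_single_right hF]
    · exact Or.inr (Or.inl ⟨by omega, hker⟩)

end SU

section Orth

open QuadraticMap Module Cfsg.Agent.OrthUnitaryQuad Cfsg.Agent.OrthUnitaryRefl
  Cfsg.Agent.OrthUnitaryOmega Cfsg.Agent.OrthUnitaryPrelude Cfsg.Agent.SteinbergOrth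

variable {ι : Type} [Fintype ι] [DecidableEq ι] {q : QuadraticForm F (ι → F)}

theorem ans_pomega (hnd : (polarBilin q).Nondegenerate) [IsSimpleGroup (Cfsg.POmega F ⇑q)]
    (hdim : 7 ≤ Fintype.card ι) (hgood : PFree87.Good p (Cfsg.POmega F ⇑q)) {e e' : ι → F} (he0 : e ≠ 0)
    (hes : q e = 0) (hes' : q e' = 0) (hee : polar q e' e = 0) (hind : ∀ a : F, e' ≠ a • e) :
    Ans p (Cfsg.POmega F ⇑q) r x := by
  have hexc : Fintype.card F ≠ 2 ∨ finrank F (ι → F) ≠ 4 :=
    Or.inr (by rw [Module.finrank_fintype_fun_eq_card]; omega)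
  have hgen := OmegaClasses.reflGroup_top hnd hexc
  haveI : Finite (Omega F ⇑q) := inferInstance
  haveI : Finite (Cfsg.POmega F ⇑q) := Quotient.finite _
  have hS : Setting (geo q) (SteinbergOrth.nat q) p (QuotientGroup.mk' _ : _ →* Cfsg.POmega F ⇑q) :=
    { surj := QuotientGroup.mk'_surjective _
      inj := fun g k h => Subtype.ext ((iso q).injective (Subtype.ext h))
      scal := fun z hz v hv => center_fix hnd hgen ((QuotientGroup.eq_one_iff z).1 hz) v hv
      ok := PFreeClassical87.ok_omega hnd hgen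
      good := hgood
      par := by
        intro g X hX _ h2
        obtain ⟨vs, hvs, hg⟩ := OmegaClasses.exists_rprod hgen (iso q g.1)
        have hmem := (mem_Omega_iff g.1).1 g.2
        rw [hg] at hmem
        have hev := ((OmegaClasses.rprod_mem_iff hnd hexc hvs).1 hmem).1
        have hL : OmegaClasses.Lagr q X := ⟨hX.1, h2⟩
        have h := OmegaClasses.parity_rprod hnd hL hL hvs
        have he : X.map ((OmegaClasses.rprod q vs).1 : (ι → F) →ₗ[F] (ι → F)) = img (SteinbergOrth.nat q) g X := by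
          rw [← hg]; rfl
        rw [he, inf_idem, Nat.even_add] at h
        exact h.2 hev }
  exact ans_big hS (e := e) (e' := e') he0 hes hes' hee hind (d := Fintype.card ι - 4)
    (by rw [Module.finrank_fintype_fun_eq_card]; omega) (Or.inr (by omega)) (Or.inl (by omega))

open Cfsg.Agent.QuadClassify (qPlus qMinus qOdd qPlus_coe qMinus_coe qOdd_coe)

theorem ans_odd {m : ℕ} (hm : 3 ≤ m) (hodd : Odd (Fintype.card F)) :
    Ans p (Cfsg.POmega F (Cfsg.quadFormOdd m F)) r x := by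
  have h2 : (2 : F) ≠ 0 := OmegaStd.two_ne_zero rfl hodd
  have hnd := OmegaMaxGlue.nondeg_odd (F := F) (m := m) h2
  have hs := Cfsg.Agent.S0295.result hodd m hm
  have hg := PFreeClassical87.good_odd (p := p) (F := F) hm hodd
  rw [← qOdd_coe] at hs hg ⊢
  refine ans_pomega hnd (by simp; omega) hg (e := Pi.single (Sum.inr (Sum.inl ⟨0, by omega⟩)) 1)
    (e' := Pi.single (Sum.inr (Sum.inl ⟨1, by omega⟩)) 1) (by simp) ?_ ?_ ?_ ?_
  · rw [qOdd_coe]; simp [Cfsg.quadFormOdd, Pi.single_apply]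
  · rw [qOdd_coe]; simp [Cfsg.quadFormOdd, Pi.single_apply]
  · rw [polar, qOdd_coe]; simp [Cfsg.quadFormOdd, Pi.single_apply]
  · intro a h
    have := congrFun h (Sum.inr (Sum.inl ⟨1, by omega⟩))
    simp [Fin.ext_iff] at this

theorem ans_plus {m : ℕ} (hm : 4 ≤ m) : Ans p (Cfsg.POmega F (Cfsg.quadFormPlus m F)) r x := by
  have hnd := OmegaStd.nondeg_plus (F := F) (m := m)
  have hs := Cfsg.Agent.S0296.result (F := F) m hm
  have hg := PFreeClassical87.good_plus (p := p) (F := F) hm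
  rw [← qPlus_coe] at hs hg ⊢
  refine ans_pomega hnd (by simp; omega) hg (e := Pi.single (Sum.inl ⟨0, by omega⟩) 1)
    (e' := Pi.single (Sum.inl ⟨1, by omega⟩) 1) (by simp) ?_ ?_ ?_ ?_
  · rw [qPlus_coe]; simp [Cfsg.quadFormPlus, Pi.single_apply]
  · rw [qPlus_coe]; simp [Cfsg.quadFormPlus, Pi.single_apply]
  · rw [polar, qPlus_coe]; simp [Cfsg.quadFormPlus, Pi.single_apply]
  · intro a h
    have := congrFun h (Sum.inl ⟨1, by omega⟩)
    simp [Fin.ext_iff] at this

theorem ans_minus {m : ℕ} (hm : 4 ≤ m) {a b : F}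
    (hab : ∀ z₁ z₂ : F, z₁ ^ 2 + a * z₁ * z₂ + b * z₂ ^ 2 = 0 → z₁ = 0 ∧ z₂ = 0) :
    Ans p (Cfsg.POmega F (Cfsg.quadFormMinus (m - 1) F a b)) r x := by
  have hnd := SteinbergOrthStd.nondeg_minus (m := m - 1) hab
  have hs := Cfsg.Agent.S0297.result m hm a b hab
  have hg := PFreeClassical87.good_minus (p := p) hm hab
  rw [← qMinus_coe] at hs hg ⊢
  refine ans_pomega hnd (by simp; omega) hg (e := Pi.single (Sum.inl (Sum.inl ⟨0, by omega⟩)) 1)
    (e' := Pi.single (Sum.inl (Sum.inl ⟨1, by omega⟩)) 1) (by simp) ?_ ?_ ?_ ?_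
  · rw [qMinus_coe]; simp [Cfsg.quadFormMinus, Pi.single_apply]
  · rw [qMinus_coe]; simp [Cfsg.quadFormMinus, Pi.single_apply]
  · rw [polar, qMinus_coe]; simp [Cfsg.quadFormMinus, Pi.single_apply]
  · intro c h
    have := congrFun h (Sum.inl (Sum.inl ⟨1, by omega⟩))
    simp [Fin.ext_iff] at this

end Orth

end Cfsg.Agent.PMinClassical87
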