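import Cfsg.Agent.Lib.PMinBase87
import Cfsg.Agent.Lib.PFreeChevalley87
import Cfsg.Agent.Lib.PFreeTwisted87
import Cfsg.Agent.Lib.ChevAutRigid
import Cfsg.Agent.Lib.TwistAutRigid

/-!
The exceptional groups: in each of them some minimal parabolic subgroup is carried to no other given one.
-/

set_option autoImplicit false
set_option linter.unusedSectionVars false

namespace Cfsg.Agent.PMinExc87

open Cfsg.Lie Cfsg.Agent.PMin87 Cfsg.Agent.BNPairLib
open scoped commutatorElement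

section Generic

variable {G : Type*} [Group G] (Q : Cfsg.BNPair G)

/-- `B` is the normaliser of `U` -/
theorem normalizer_eq_B {U : Subgroup G} (hBU : Q.B ≤ Subgroup.normalizer (U : Set G))
    (hB : Q.B ≤ U ⊔ (Q.B ⊓ Q.N)) (hUB : U ≤ Q.B) : Subgroup.normalizer (U : Set G) = Q.B := by
  refine le_antisymm ?_ hBU
  rw [eq_parabolic Q hBU]
  refine sup_le le_rfl ((Subgroup.closure_le _).2 ?_)
  rintro s ⟨hs, hsN⟩
  exfalso
  have hconj : ∀ {g : G}, g ∈ Q.N → g ∈ Subgroup.normalizer (U : Set G) → ∀ b ∈ Q.B, g * b * g⁻¹ ∈ Q.B := by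
    intro g hgN hg b hb
    have hle : U ⊔ (Q.B ⊓ Q.N) ≤ Q.B.comap (MulAut.conj g).toMonoidHom :=
      sup_le (fun u hu => hUB ((Subgroup.mem_normalizer_iff.1 hg u).1 hu)) fun t ht => Q.conj_mem g hgN t ht
    exact hle (hB hb)
  refine Q.conj_ne s hs (Set.Subset.antisymm ?_ ?_)
  · rintro _ ⟨b, hb, rfl⟩
    show s * b * s ∈ Q.B
    rw [show s * b * s = s * b * s⁻¹ * (s * s) by group]
    exact mul_mem (hconj (Q.subset hs) hsN b hb) (Q.sq_mem s hs)
  · intro b hb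
    refine ⟨s⁻¹ * b * s⁻¹, ?_, by group⟩
    rw [show s⁻¹ * b * s⁻¹ = s⁻¹ * b * s⁻¹⁻¹ * (s * s)⁻¹ by group]
    exact mul_mem (hconj (inv_mem (Q.subset hs)) (inv_mem hsN) b hb) (inv_mem (Q.sq_mem s hs))

theorem mem_par {s g : G} (hs : s ∈ Q.S) (hg : g ∈ par Q s) :
    g ∈ cell Q 1 ∨ g ∈ cell Q (σ Q ⟨s, hs⟩) := by
  obtain ⟨w, hw, hgw⟩ := (mem_parabolic Q (Set.singleton_subset_iff.2 hs)).1 hg
  have hset : ({x : Q.S | (x : G) ∈ ({s} : Set G)} : Set Q.S) = {⟨s, hs⟩} :=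
    Set.ext fun x => ⟨fun h => Subtype.ext h, fun h => congrArg Subtype.val h⟩
  rw [hset, WJ, Set.image_singleton, ← Subgroup.zpowers_eq_closure] at hw
  obtain ⟨k, hk⟩ := hw
  rcases Int.even_or_odd' k with ⟨m, rfl | rfl⟩
  · have : w = 1 := by rw [← hk]; simp [zpow_mul, zpow_ofNat, pow_two, σ_mul_self]
    exact Or.inl (this ▸ hgw)
  · have : w = σ Q ⟨s, hs⟩ := by rw [← hk]; simp [zpow_add, zpow_mul, zpow_ofNat, pow_two, σ_mul_self]
    exact Or.inr (this ▸ hgw)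

/-- two minimal parabolic subgroups permute -/
def Com (s t : G) : Prop :=
  ∀ g ∈ par Q s, ∀ h ∈ par Q t, ∃ x ∈ par Q t, ∃ y ∈ par Q s, g * h = x * y

theorem com_of_σ {s t : Q.S} (h : σ Q s * σ Q t = σ Q t * σ Q s) : Com Q (s : G) t := by
  intro g hg k hk
  have hBs : Q.B ≤ par Q (s : G) := B_le_parabolic Q _
  have hBt : Q.B ≤ par Q (t : G) := B_le_parabolic Q _
  rcases mem_par Q s.2 hg with hg1 | hg1
  · exact ⟨g * k, mul_mem (hBt ((mem_cell_one Q).1 hg1)) hk, 1, one_mem _, by rw [mul_one]⟩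
  rcases mem_par Q t.2 hk with hk1 | hk1
  · exact ⟨1, one_mem _, g * k, mul_mem hg (hBs ((mem_cell_one Q).1 hk1)), by rw [one_mul]⟩
  obtain ⟨a, ha, b, hb, rfl⟩ := exists_eq_mul Q ⟨(s : G), Q.subset s.2⟩ rfl hg1
  have h1 : a * (s : G) * b * k = a * ((s : G) * (b * k)) := by group
  rcases rep_mul_cell Q s (cell_mul_left Q hb hk1) with h2 | h2
  · rw [h] at h2
    obtain ⟨a', ha', b', hb', e⟩ := exists_eq_mul Q (⟨(t : G), Q.subset t.2⟩ * ⟨(s : G), Q.subset s.2⟩)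
      (map_mul (π Q) _ _) h2
    refine ⟨a * a' * t, mul_mem (hBt (mul_mem ha ha')) (rep_mem_parabolic Q (Set.mem_singleton _)),
      (s : G) * b', mul_mem (rep_mem_parabolic Q (Set.mem_singleton _)) (hBs hb'), ?_⟩
    rw [h1, e]
    simp [mul_assoc]
  · obtain ⟨a', ha', b', hb', e⟩ := exists_eq_mul Q ⟨(t : G), Q.subset t.2⟩ rfl h2
    refine ⟨a * a' * t * b', mul_mem (mul_mem (hBt (mul_mem ha ha'))
      (rep_mem_parabolic Q (Set.mem_singleton _))) (hBt hb'), 1, one_mem _, ?_⟩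
    rw [h1, e]
    simp [mul_assoc]

theorem σ_of_com {s t : Q.S} (h : Com Q (s : G) t) : σ Q s * σ Q t = σ Q t * σ Q s := by
  by_cases hst : s = t
  · rw [hst]
  have hne : σ Q s * σ Q t ≠ 1 := fun e => hst (σ_injective Q (by
    rw [← mul_one (σ Q s), ← σ_mul_self Q t, ← mul_assoc, e, one_mul]))
  have hlen : len Q (σ Q t) ≤ len Q (σ Q s * σ Q t) := by
    rw [len_σ]
    exact Nat.pos_of_ne_zero fun h0 => hne ((len_eq_zero Q).1 h0)
  have hst' : (s : G) * t ∈ cell Q (σ Q s * σ Q t) := rep_mul_cell_of_le' Q hlen (rep_mem_cell Q t)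
  obtain ⟨x, hx, y, hy, e⟩ := h s (rep_mem_parabolic Q (Set.mem_singleton _)) t
    (rep_mem_parabolic Q (Set.mem_singleton _))
  have hs1 : σ Q s * σ Q t ≠ σ Q s := fun e => σ_ne_one Q t (mul_left_cancel (e.trans (mul_one _).symm))
  have ht1 : σ Q s * σ Q t ≠ σ Q t := fun e => σ_ne_one Q s (mul_right_cancel (e.trans (one_mul _).symm))
  rw [e] at hst'
  rcases mem_par Q t.2 hx with hx1 | hx1
  · have hxy : x * y ∈ cell Q 1 ∨ x * y ∈ cell Q (σ Q s) := by
      rcases mem_par Q s.2 hy with hy1 | hy1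
      · exact Or.inl (cell_mul_left Q ((mem_cell_one Q).1 hx1) hy1)
      · exact Or.inr (cell_mul_left Q ((mem_cell_one Q).1 hx1) hy1)
    rcases hxy with h' | h'
    · exact absurd (cell_unique Q hst' h') hne
    · exact absurd (cell_unique Q hst' h') hs1
  obtain ⟨a, ha, b, hb, rfl⟩ := exists_eq_mul Q ⟨(t : G), Q.subset t.2⟩ rfl hx1
  rcases mem_par Q s.2 hy with hy1 | hy1
  · exact absurd (cell_unique Q hst' (cell_mul_right Q ((mem_cell_one Q).1 hy1) hx1)) ht1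
  have h1 : a * (t : G) * b * y = a * ((t : G) * (b * y)) := by group
  rw [h1] at hst'
  rcases rep_mul_cell Q t (cell_mul_left Q hb hy1) with h2 | h2
  · exact cell_unique Q hst' (cell_mul_left Q ha h2)
  · exact absurd (cell_unique Q hst' (cell_mul_left Q ha h2)) hs1

theorem com_mv {α : MulAut G} {s t s' t' : G} (hs : mv α (par Q s) = par Q s') (ht : mv α (par Q t) = par Q t')
    (h : Com Q s t) : Com Q s' t' := by
  intro g hg k hk
  obtain ⟨g0, hg0, rfl⟩ := hs.ge hg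
  obtain ⟨k0, hk0, rfl⟩ := ht.ge hk
  obtain ⟨x, hx, y, hy, e⟩ := h g0 hg0 k0 hk0
  exact ⟨α x, ht.le (mem_mv hx), α y, hs.le (mem_mv hy), by
    show α g0 * α k0 = α x * α y
    rw [← map_mul, e, map_mul]⟩

/-- a node with two neighbours is not carried to one with a single neighbour -/
theorem crit_of_degree {p : ℕ} {U : Subgroup G} {r x : Prop} (hUB : U ≤ Q.B)
    (hB : Subgroup.normalizer (U : Set G) = Q.B) (s t a b c : Q.S) (hab : a ≠ b)
    (ha : σ Q s * σ Q a ≠ σ Q a * σ Q s) (hb : σ Q s * σ Q b ≠ σ Q b * σ Q s)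
    (ht : ∀ u : Q.S, σ Q t * σ Q u ≠ σ Q u * σ Q t → u = c) : Crit p U r x := by
  refine crit_of_bn Q hUB hB s.2 t.2 fun α _ hα _ he => hab ?_
  have hinv : mv α⁻¹ (par Q (t : G)) = par Q (s : G) := mv_inv he
  have key : ∀ a : Q.S, σ Q s * σ Q a ≠ σ Q a * σ Q s → mv α (par Q (a : G)) = par Q (c : G) := by
    intro a ha
    obtain ⟨a', ha', hae⟩ := permute_par Q hα a.2
    rcases eq_or_ne (⟨a', ha'⟩ : Q.S) c with h | h
    · rw [hae, ← h]
    · refine absurd (σ_of_com Q (com_mv Q hinv (mv_inv hae) (com_of_σ Q (t := ⟨a', ha'⟩) ?_))) ha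
      exact not_not.1 fun hh => h (ht _ hh)
  have h2 : par Q (a : G) = par Q (b : G) := by
    rw [← mv_inv (key a ha), mv_inv (key b hb)]
  exact Subtype.ext (par_inj Q b.2 a.2 (h2 ▸ rep_mem_parabolic Q (Set.mem_singleton _)))

end Generic

/-! ### Chevalley groups -/

section Chev

open Cfsg.Agent.ChevalleyCert Cfsg.Agent.ChevalleyRoots Cfsg.Agent.ChevalleyCore Cfsg.Agent.ChevalleyTorus
  Cfsg.Agent.ChevBruhat

variable {D : ChevalleyDatum} {F : Type*} [Field F] [Fintype F] (C : Cert D) (S : ChevBruhat.Sys D F)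
  {p : ℕ} [Fact p.Prime] [CharP F p]

/-- the unipotent radical of `B` -/
abbrev U0 (D : ChevalleyDatum) (F : Type*) [Field F] : Subgroup ↥(D.group F) :=
  (D.posUnipotent F).subgroupOf (D.group F)

include S in
theorem U0_le : U0 D F ≤ S.bnPair.B := fun _ hx => Subgroup.mem_subgroupOf.2 (Sys.U_le_B (Subgroup.mem_subgroupOf.1 hx))

include C S in
theorem U0_normalizer : Subgroup.normalizer (U0 D F : Set ↥(D.group F)) = S.bnPair.B := by
  refine normalizer_eq_B S.bnPair (fun b hb => PFreeChevalley87.subgroupOf_normalizer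
    (sup_le Subgroup.le_normalizer (ChevalleyTorus.H_le_normalizer_U C) (Subgroup.mem_subgroupOf.1 hb)))
    (fun b hb => ?_) (U0_le S)
  obtain ⟨v, hv, k, hk, e⟩ := (ChevalleyTorus.mem_B_iff C).1 (Subgroup.mem_subgroupOf.1 hb)
  have hv' : (⟨v, S.U_le_group hv⟩ : ↥(D.group F)) ∈ U0 D F := hv
  have hk' : (⟨k, S.H_le_group hk⟩ : ↥(D.group F)) ∈ S.bnPair.B ⊓ S.bnPair.N :=
    ⟨Sys.H_le_B hk, Sys.H_le_N hk⟩
  have h2 := mul_mem (Subgroup.mem_sup_left hv') (Subgroup.mem_sup_right hk')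
  rwa [show b = ⟨v, S.U_le_group hv⟩ * ⟨k, S.H_le_group hk⟩ from Subtype.ext e.symm]

/-- the distinguished representative of a fundamental root -/
def rep (i : Fin D.rank) : S.bnPair.S :=
  ⟨⟨S.nn (D.simple i) 1, S.nn_mem_group (S.X.simple_lt i.isLt) 1⟩, i.val, i.isLt, S.coe_nn _ _⟩

theorem rep_surj (u : S.bnPair.S) : ∃ i, u = rep S i := by
  obtain ⟨i, hi⟩ := S.sSet_eq u.2
  exact ⟨i, Subtype.ext (Subtype.ext hi)⟩

theorem σ_comm_iff (i j : Fin D.rank) :
    σ S.bnPair (rep S i) * σ S.bnPair (rep S j) = σ S.bnPair (rep S j) * σ S.bnPair (rep S i) ↔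
      S.X.C.simple i * S.X.C.simple j = S.X.C.simple j * S.X.C.simple i := by
  have hsN : ∀ k : Fin D.rank, ((rep S k : ↥(D.group F)) : GL D.Idx F) = (S.sN k : GL D.Idx F) := fun k => rfl
  rw [σ, σ, ← map_mul, ← map_mul, π_eq, ← S.toW_sN i, ← S.toW_sN j, ← map_mul, ← map_mul, S.toW_eq_iff]
  constructor
  · intro h
    refine S.B_inf_N.le (Subgroup.mem_inf.2 ⟨?_, ?_⟩)
    · have h1 := Subgroup.mem_subgroupOf.1 h
      simpa [hsN] using h1
    · exact Subgroup.mul_mem _ (Subgroup.inv_mem _ (S.sN i * S.sN j).2) (S.sN j * S.sN i).2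
  · intro h
    refine Subgroup.mem_subgroupOf.2 ?_
    simpa [hsN] using Sys.H_le_B h

theorem simple_comm_iff (i j : Fin D.rank) :
    S.X.C.simple i * S.X.C.simple j = S.X.C.simple j * S.X.C.simple i ↔
      ∀ r < D.nroots, D.reflectRoot i (D.reflectRoot j r) = D.reflectRoot j (D.reflectRoot i r) := by
  have key : ∀ i j : Fin D.rank, ∀ r < D.nroots,
      S.X.img (S.X.C.simple i * S.X.C.simple j) r = D.reflectRoot i (D.reflectRoot j r) := fun i j r hr => by
    rw [S.X.img_mul, S.X.img_simple i (S.X.img_lt _ hr), S.X.img_simple j hr]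
  refine ⟨fun h r hr => by rw [← key i j r hr, h, key j i r hr], fun h => ?_⟩
  have hinv : ∀ k : Fin D.rank, (S.X.C.simple k)⁻¹ = S.X.C.simple k := fun k =>
    inv_eq_of_mul_eq_one_right (S.X.C.toCoxeterSystem.simple_mul_simple_self k)
  have h1 : (S.X.C.simple j * S.X.C.simple i)⁻¹ * (S.X.C.simple i * S.X.C.simple j) = 1 := by
    refine S.X.eq_one_of_inv_eq_zero (Finset.card_eq_zero.2 (Finset.eq_empty_of_forall_notMem fun r hr => ?_))
    obtain ⟨hpos, hneg⟩ := S.X.mem_invSet.1 hr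
    rw [S.X.img_mul, key i j r hpos.1, h r hpos.1, ← key j i r hpos.1, S.X.img_inv_img] at hneg
    exact S.X.not_pos_and_neg hpos hneg
  exact (inv_mul_eq_one.1 h1).symm

/-- the data of two nodes of different degree -/
def degData (D : ChevalleyDatum) (s t a b c : Fin D.rank) : Prop :=
  a ≠ b ∧ (¬ ∀ r < D.nroots, D.reflectRoot s (D.reflectRoot a r) = D.reflectRoot a (D.reflectRoot s r)) ∧
    (¬ ∀ r < D.nroots, D.reflectRoot s (D.reflectRoot b r) = D.reflectRoot b (D.reflectRoot s r)) ∧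
    ∀ u : Fin D.rank, u = c ∨
      ∀ r < D.nroots, D.reflectRoot t (D.reflectRoot u r) = D.reflectRoot u (D.reflectRoot t r)

include C S in
theorem crit_chev {r x : Prop} (s t a b c : Fin D.rank) (h : degData D s t a b c) :
    Crit p (U0 D F) r x := by
  obtain ⟨hab, ha, hb, hc⟩ := h
  refine crit_of_degree S.bnPair (U0_le S) (U0_normalizer C S) (rep S s) (rep S t) (rep S a) (rep S b) (rep S c)
    (fun e => hab ?_) (fun e => ha ((simple_comm_iff S s a).1 ((σ_comm_iff S s a).1 e)))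
    (fun e => hb ((simple_comm_iff S s b).1 ((σ_comm_iff S s b).1 e))) fun u hu => ?_
  · have h1 : S.nn (D.simple a) 1 = S.nn (D.simple b) 1 :=
      congrArg (fun z : S.bnPair.S => ((z : ↥(D.group F)) : GL D.Idx F)) e
    have h2 := congrArg S.toW (show S.sN a = S.sN b from Subtype.ext h1)
    rw [S.toW_sN, S.toW_sN] at h2
    have h3 := congrArg (fun w => S.X.img w (D.simple a)) h2
    simp only [S.X.img_simple _ (S.X.simple_lt a.isLt), S.X.reflect_simple a.isLt] at h3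
    by_contra hne
    have hne' : D.simple a ≠ D.simple b := fun he => hne (Fin.ext (by
      by_contra hv
      have h5 := C.coef_simple a.val a.val a.isLt a.isLt
      rw [he, C.coef_simple b.val a.val b.isLt a.isLt] at h5
      simp [hv, Ne.symm hv] at h5))
    have h4 := (S.X.root_facts' (S.X.simple_lt a.isLt) b.isLt).2.2.2.2.1 (S.X.simple_pos a.isLt) hne'
    rw [← h3] at h4
    exact S.X.not_pos_and_neg h4 ((S.X.pos_neg_iff (S.X.root_facts (S.X.simple_lt a.isLt)).1).mp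
      ((S.X.root_facts (S.X.simple_lt a.isLt)).2.1.symm ▸ S.X.simple_pos a.isLt))
  · obtain ⟨k, rfl⟩ := rep_surj S u
    rcases hc k with rfl | hk
    · rfl
    · exact absurd ((σ_comm_iff S t k).2 ((simple_comm_iff S t k).2 hk)) hu

end Chev

/-! ### Type `G₂` in characteristic two -/

section G2

open Cfsg.Agent.ChevalleyCert Cfsg.Agent.ChevalleyRoots Cfsg.Agent.ChevalleyCore Cfsg.Agent.ChevBruhat

variable {F : Type*} [Field F] [Fintype F] (C : Cert chevG2) (S : ChevBruhat.Sys chevG2 F)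

/-- the part of `U` away from a fundamental root -/
abbrev Vs (i : ℕ) : Subgroup ↥(chevG2.group F) := (upSub chevG2 F i).subgroupOf (chevG2.group F)

theorem max_normal (i : Fin chevG2.rank) {W : Subgroup ↥(chevG2.group F)} (hW : W ≤ U0 chevG2 F)
    (hn : ∀ w ∈ W, ((rep S i : S.bnPair.S) : ↥(chevG2.group F)) * w * ((rep S i : S.bnPair.S) : ↥(chevG2.group F))⁻¹ ∈ W) :
    W ≤ Vs (F := F) i := by
  intro w hw
  obtain ⟨v, hv, a, hwe⟩ := S.U_decomp i.isLt (Subgroup.mem_subgroupOf.1 (hW hw))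
  have h1 := Subgroup.mem_subgroupOf.1 (hW (hn w hw))
  simp only [Subgroup.coe_mul, Subgroup.coe_inv, hwe] at h1
  have h1' : S.nn (chevG2.simple i) 1 * (v * S.xg (chevG2.simple i) a) * (S.nn (chevG2.simple i) 1)⁻¹ ∈
      chevG2.posUnipotent F := h1
  obtain ⟨c, -, h3, -⟩ := S.acts_simple i (chevG2.simple i) (S.X.simple_lt i.isLt)
  rw [S.X.img_simple i (S.X.simple_lt i.isLt), S.X.reflect_simple i.isLt] at h3
  have h4 : S.nn (chevG2.simple i) 1 * (v * S.xg (chevG2.simple i) a) * (S.nn (chevG2.simple i) 1)⁻¹ =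
      (S.nn (chevG2.simple i) 1 * v * (S.nn (chevG2.simple i) 1)⁻¹) *
        (S.nn (chevG2.simple i) 1 * S.xg (chevG2.simple i) a * (S.nn (chevG2.simple i) 1)⁻¹) := by group
  rw [h4, Subgroup.mul_mem_cancel_left _ (Sys.upSub_le_U _ (S.nn_conj_upSub i hv))] at h1'
  have hneg : chevG2.IsNegRoot (chevG2.neg (chevG2.simple i)) :=
    (S.X.pos_neg_iff (S.X.root_facts (S.X.simple_lt i.isLt)).1).mp
      ((S.X.root_facts (S.X.simple_lt i.isLt)).2.1.symm ▸ S.X.simple_pos i.isLt)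
  have h5 : S.nn (chevG2.simple i) 1 * S.xg (chevG2.simple i) a * (S.nn (chevG2.simple i) 1)⁻¹ = 1 := by
    rw [h3] at h1' ⊢
    rw [S.xg_neg_notMem_B hneg (Sys.U_le_B h1'), S.xg_zero]
  rw [conj_eq_one_iff] at h5
  show (w : GL chevG2.Idx F) ∈ upSub chevG2 F i
  rw [hwe, h5, mul_one]
  exact hv

theorem Vs_normal (i : Fin chevG2.rank) :
    par S.bnPair ((rep S i : S.bnPair.S) : ↥(chevG2.group F)) ≤ Subgroup.normalizer (Vs (F := F) i : Set ↥(chevG2.group F)) := by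
  refine sup_le (fun b hb => ?_) ((Subgroup.closure_le _).2 fun y hy => ?_)
  · refine PFree87.mem_normalizer_of_conj (M := S.bnPair.B) (fun c hc z hz => ?_) hb
    obtain ⟨h, hh, v, hv, a, e⟩ := S.B_decomp i.isLt (Subgroup.mem_subgroupOf.1 hc)
    show (c : GL chevG2.Idx F) * z * (c : GL chevG2.Idx F)⁻¹ ∈ upSub chevG2 F i
    rw [e, show h * v * S.xg (chevG2.simple i) a * (z : GL chevG2.Idx F) * (h * v * S.xg (chevG2.simple i) a)⁻¹ =
      h * (v * (S.xg (chevG2.simple i) a * z * (S.xg (chevG2.simple i) a)⁻¹) * v⁻¹) * h⁻¹ by group]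
    exact S.H_conj_upSub hh (mul_mem (mul_mem hv (S.simple_mul_upSub i.isLt (Subgroup.mem_subgroupOf.1 hz) a)) (inv_mem hv))
  · rw [Set.mem_singleton_iff] at hy
    subst hy
    have hle : (Vs (F := F) i).map (MulAut.conj ((rep S i : S.bnPair.S) : ↥(chevG2.group F))).toMonoidHom ≤ Vs (F := F) i := by
      rintro _ ⟨z, hz, rfl⟩
      exact S.nn_conj_upSub i (Subgroup.mem_subgroupOf.1 hz)
    have heq := Subgroup.eq_of_le_of_card_ge hle (by rw [Subgroup.card_map_of_injective (MulEquiv.injective _)])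
    refine Subgroup.mem_normalizer_iff.2 fun z => ⟨fun hz => hle (Subgroup.mem_map_of_mem _ hz), fun hz => ?_⟩
    obtain ⟨z', hz', he⟩ := heq.ge hz
    obtain rfl : z' = z := (MulAut.conj _).injective he
    exact hz'

theorem Vs_le_U0 (i : ℕ) : Vs (F := F) i ≤ U0 chevG2 F := fun _ hx =>
  Subgroup.mem_subgroupOf.2 (Sys.upSub_le_U i (Subgroup.mem_subgroupOf.1 hx))

include C in
theorem pos_xg {k : ℕ} (hk : 6 ≤ k) (hk' : k < 12) : chevG2.IsPosRoot k :=
  (isPos C).2 ⟨hk, hk'⟩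

variable [CharP F 2]

/-- the high root group -/
def Z11 : Subgroup (GL chevG2.Idx F) where
  carrier := Set.range fun t : F => xg C 11 t
  one_mem' := ⟨0, xg_zero C _⟩
  mul_mem' := by
    rintro _ _ ⟨t, rfl⟩ ⟨u, rfl⟩
    exact ⟨t + u, (xg_mul C _ _ _).symm⟩
  inv_mem' := by
    rintro _ ⟨t, rfl⟩
    exact ⟨-t, (xg_inv C _ _).symm⟩

include C S in
theorem comm_le : ⁅upSub chevG2 F 0, upSub chevG2 F 0⁆ ≤ Z11 (F := F) C := by
  have hgen : ∀ {g : GL chevG2.Idx F}, (∃ (s : ℕ) (t : F), chevG2.IsPosRoot s ∧ s ≠ chevG2.simple 0 ∧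
      (g : Matrix chevG2.Idx chevG2.Idx F) = chevG2.x F s t) → ∃ s ∈ ([6, 8, 9, 10, 11] : List ℕ), ∃ t, g = xg C s t := by
    rintro g ⟨s, t, hs, hne, hg⟩
    refine ⟨s, ?_, t, Units.ext (hg.trans (coe_xg C s t).symm)⟩
    have h1 := (isPos C).1 hs
    exact (by decide : ∀ s < 12, 6 ≤ s → s ≠ chevG2.simple 0 → s ∈ ([6, 8, 9, 10, 11] : List ℕ)) s h1.2 h1.1 hne
  have hcent : ∀ z ∈ Z11 (F := F) C, ∀ y ∈ upSub chevG2 F 0, Commute y z := by
    rintro _ ⟨u, rfl⟩ y hy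
    induction hy using Subgroup.closure_induction with
    | mem g hg =>
      obtain ⟨s, hs, t, rfl⟩ := hgen hg
      rcases eq_or_ne s 11 with rfl | hne
      · show xg C 11 t * xg C 11 u = xg C 11 u * xg C 11 t
        rw [xg_mul, xg_mul, add_comm]
      · have hd := (by decide : ∀ s ∈ ([6, 8, 9, 10, 11] : List ℕ), s < chevG2.nroots ∧ (s ≠ 11 → 11 ≠ chevG2.neg s ∧ chevG2.commTerms s 11 = [])) s hs
        exact (ChevAutRoots.xg_comm_of_nil C hd.1 (by decide) (Ne.symm hne) (hd.2 hne).1 (hd.2 hne).2 t u).symm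
    | one => exact Commute.one_left _
    | mul a b _ _ ha hb => exact ha.mul_left hb
    | inv a _ ha => exact ha.inv_left
  have hz : ∀ x ∈ upSub chevG2 F 0, ∀ y ∈ upSub chevG2 F 0, ∃ z ∈ Z11 (F := F) C, x * y = y * x * z := by
    intro x hx y hy
    induction hx, hy using Subgroup.closure_induction₂ with
    | mem a b ha hb =>
      obtain ⟨s, hs, t, rfl⟩ := hgen ha
      obtain ⟨r, hr, u, rfl⟩ := hgen hb
      rcases eq_or_ne s r with rfl | hne
      · exact ⟨1, one_mem _, by rw [mul_one, xg_mul, xg_mul, add_comm]⟩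
      · have hd := (by decide : ∀ r ∈ ([6, 8, 9, 10, 11] : List ℕ), ∀ s ∈ ([6, 8, 9, 10, 11] : List ℕ),
          r < chevG2.nroots ∧ s < chevG2.nroots ∧ s ≠ chevG2.neg r ∧ ∀ c ∈ chevG2.commTerms r s, c.1 = 11) r hr s hs
        refine ⟨wg C (chevG2.commWord F r s u t), ?_, comm_formula C hd.1 hd.2.1 hne hd.2.2.1 u t⟩
        rw [wg]
        refine list_prod_mem fun g hg => ?_
        obtain ⟨q, hq, rfl⟩ := List.mem_map.1 hg
        obtain ⟨c, hc, rfl⟩ := List.mem_map.1 hq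
        exact ⟨_, by rw [hd.2.2.2 c hc]⟩
    | one_left b _ => exact ⟨1, one_mem _, by simp⟩
    | one_right a _ => exact ⟨1, one_mem _, by simp⟩
    | mul_left a a' b ha ha' hb h h' =>
      obtain ⟨z, hz, e⟩ := h
      obtain ⟨z', hz', e'⟩ := h'
      refine ⟨z * z', mul_mem hz hz', ?_⟩
      rw [mul_assoc a, e', ← mul_assoc a, ← mul_assoc a, e, mul_assoc (b * a), ← (hcent z hz a' ha').eq]
      group
    | mul_right b b' a hb hb' ha h h' =>
      obtain ⟨z, hz, e⟩ := h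
      obtain ⟨z', hz', e'⟩ := h'
      refine ⟨z' * z, mul_mem hz' hz, ?_⟩
      rw [← mul_assoc a, e, mul_assoc (b * a), ← (hcent z hz b' hb').eq, ← mul_assoc (b * a), mul_assoc b, e']
      group
    | inv_left a b ha hb h =>
      obtain ⟨z, hz, e⟩ := h
      refine ⟨z⁻¹, inv_mem hz, ?_⟩
      have h1 : b * a = a * b * z⁻¹ := by rw [e]; group
      calc a⁻¹ * b = a⁻¹ * (b * a) * a⁻¹ := by group
        _ = b * z⁻¹ * a⁻¹ := by rw [h1]; group
        _ = b * a⁻¹ * z⁻¹ := by rw [mul_assoc, ((hcent z hz a ha).inv_inv).eq.symm, ← mul_assoc]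
    | inv_right a b ha hb h =>
      obtain ⟨z, hz, e⟩ := h
      refine ⟨z⁻¹, inv_mem hz, ?_⟩
      calc a * b⁻¹ = b⁻¹ * (b * a) * b⁻¹ := by group
        _ = b⁻¹ * (a * b) * z⁻¹ * b⁻¹ := by rw [e]; group
        _ = b⁻¹ * a * z⁻¹ * (b * b⁻¹) := by
          rw [mul_assoc (b⁻¹ * (a * b)), ((hcent z hz b hb).inv_inv).eq.symm]
          rw [show b⁻¹ * (a * b) * (b⁻¹ * z⁻¹) = b⁻¹ * a * z⁻¹ by group, mul_inv_cancel, mul_one]
        _ = b⁻¹ * a * z⁻¹ := by rw [mul_inv_cancel, mul_one]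
  rw [Subgroup.commutator_le]
  intro x hx y hy
  obtain ⟨z, hzZ, e⟩ := hz x hx y hy
  rw [commutatorElement_def, e, show y * x * z * x⁻¹ * y⁻¹ = (y * x) * z * (y * x)⁻¹ by group,
    (hcent z hzZ (y * x) (mul_mem hy hx)).eq, mul_inv_cancel_right]
  exact hzZ

include C S in
theorem crit_g2 {r x : Prop} : Crit 2 (U0 chevG2 F) r x := by
  refine crit_of_bn S.bnPair (U0_le S) (U0_normalizer C S) (rep S ⟨0, by decide⟩).2 (rep S ⟨1, by decide⟩).2
    fun α hU _ _ he => ?_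
  have hle : mv α (Vs (F := F) 0) ≤ Vs (F := F) 1 := by
    refine max_normal S ⟨1, by decide⟩ ((mv_mono (Vs_le_U0 0)).trans hU.le) ?_
    rintro _ ⟨w, hw, rfl⟩
    obtain ⟨g, hg, hge⟩ := he.ge (rep_mem_parabolic S.bnPair (Set.mem_singleton ((rep S ⟨1, by decide⟩ : S.bnPair.S) : ↥(chevG2.group F))))
    refine ⟨g * w * g⁻¹, (Subgroup.mem_normalizer_iff.1 (Vs_normal S ⟨0, by decide⟩ hg) w).1 hw, ?_⟩
    show α (g * w * g⁻¹) = _
    rw [map_mul, map_mul, map_inv, show α g = _ from hge]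
    rfl
  have hge : mv α⁻¹ (Vs (F := F) 1) ≤ Vs (F := F) 0 := by
    refine max_normal S ⟨0, by decide⟩ ((mv_mono (Vs_le_U0 1)).trans (mv_inv hU).le) ?_
    rintro _ ⟨w, hw, rfl⟩
    obtain ⟨g, hg, hge⟩ := (mv_inv he).ge (rep_mem_parabolic S.bnPair (Set.mem_singleton ((rep S ⟨0, by decide⟩ : S.bnPair.S) : ↥(chevG2.group F))))
    refine ⟨g * w * g⁻¹, (Subgroup.mem_normalizer_iff.1 (Vs_normal S ⟨1, by decide⟩ hg) w).1 hw, ?_⟩
    show α⁻¹ (g * w * g⁻¹) = _
    rw [map_mul, map_mul, map_inv, show α⁻¹ g = _ from hge]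
    rfl
  have hcard : Nat.card ↥⁅Vs (F := F) 1, Vs (F := F) 1⁆ ≤ Nat.card ↥⁅upSub chevG2 F 0, upSub chevG2 F 0⁆ := by
    have h1 : Nat.card ↥⁅Vs (F := F) 1, Vs (F := F) 1⁆ ≤ Nat.card ↥⁅Vs (F := F) 0, Vs (F := F) 0⁆ := by
      rw [← card_mv α⁻¹, mv, Subgroup.map_commutator]
      exact Subgroup.card_le_of_le (Subgroup.commutator_mono hge hge)
    refine h1.trans ?_
    rw [← Subgroup.card_map_of_injective (K := ⁅Vs (F := F) 0, Vs (F := F) 0⁆) (chevG2.group F).subtype_injective,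
      Subgroup.map_commutator]
    exact Subgroup.card_le_of_le (Subgroup.commutator_mono
      (Subgroup.map_comap_le _ _) (Subgroup.map_comap_le _ _))
  have hup : ∀ s, 7 ≤ s → s < 12 → ∀ t, (xg C s t : GL chevG2.Idx F) ∈ (Vs (F := F) 1).map (chevG2.group F).subtype := by
    intro s hs hs' t
    have hu : (xg C s t : GL chevG2.Idx F) ∈ upSub chevG2 F 1 :=
      Subgroup.subset_closure ⟨s, t, pos_xg C (by omega) hs',
        fun e => absurd (e ▸ hs) (by decide), coe_xg C s t⟩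
    exact ⟨⟨_, S.U_le_group (Sys.upSub_le_U 1 hu)⟩, hu, rfl⟩
  set T := ⁅(Vs (F := F) 1).map (chevG2.group F).subtype, (Vs (F := F) 1).map (chevG2.group F).subtype⁆ with hT
  have h3 : (3 : F) = 1 := by
    have : (2 : F) = 0 := CharTwo.two_eq_zero
    linear_combination this
  have hpure : ∀ r s k : ℕ, 7 ≤ r → r < 12 → 7 ≤ s → s < 12 → s ≠ r → s ≠ chevG2.neg r →
      chevG2.commTerms r s = [(k, 3, 1, 1)] → ∀ u : F, xg C k u ∈ T := by
    intro r s k h1 h2 h4 h5 h6 h7 h8 u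
    have h9 := comm_formula C (show r < chevG2.nroots from h2) (show s < chevG2.nroots from h5) h6 h7 (1 : F) (-u)
    rw [ChevalleyDatum.commWord, h8] at h9
    simp [wg, h3] at h9
    have h10 : ⁅(xg C s (-u))⁻¹, (xg C r (1 : F))⁻¹⁆ = xg C k u := by
      rw [commutatorElement_def, inv_inv, inv_inv, mul_assoc ((xg C s (-u))⁻¹ * (xg C r (1 : F))⁻¹), h9]
      group
    exact h10 ▸ Subgroup.commutator_mem_commutator (inv_mem (hup s h4 h5 _)) (inv_mem (hup r h1 h2 _))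
  have hfin : ∀ A : Subgroup (GL chevG2.Idx F), Finite ↥A := fun A => inferInstance
  have hq : Nat.card F < Nat.card ↥T := by
    let f : Option F → ↥T := fun o => o.elim ⟨xg C 10 1, hpure 7 9 10 (by omega) (by omega) (by omega) (by omega)
      (by decide) (by decide) (by decide) 1⟩ fun u => ⟨xg C 11 u, hpure 8 9 11 (by omega) (by omega) (by omega)
        (by omega) (by decide) (by decide) (by decide) u⟩
    have hf : Function.Injective f := by
      rintro (_ | u) (_ | v) e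
      · rfl
      · exact absurd (ChevBruhatInstance.xg_injective C (by decide) (by decide) one_ne_zero (congrArg Subtype.val e)).1 (by decide)
      · exact absurd (ChevBruhatInstance.xg_injective C (by decide) (by decide) one_ne_zero (congrArg Subtype.val e).symm).1 (by decide)
      · refine congrArg some ?_
        rcases eq_or_ne u 0 with rfl | hu
        · by_contra hv
          exact hv (ChevBruhatInstance.xg_injective C (by decide) (by decide) (Ne.symm hv) (congrArg Subtype.val e).symm).2.symm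
        · exact (ChevBruhatInstance.xg_injective C (by decide) (by decide) hu (congrArg Subtype.val e)).2
    have := Nat.card_le_card_of_injective f hf
    rw [Finite.card_option] at this
    omega
  have hT1 : Nat.card ↥T = Nat.card ↥⁅Vs (F := F) 1, Vs (F := F) 1⁆ := by
    rw [hT, ← Subgroup.map_commutator, Subgroup.card_map_of_injective (chevG2.group F).subtype_injective]
  have hZ : Nat.card ↥(Z11 (F := F) C) ≤ Nat.card F :=
    Nat.card_le_card_of_surjective (fun t : F => (⟨xg C 11 t, t, rfl⟩ : ↥(Z11 (F := F) C)))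
      fun ⟨_, t, ht⟩ => ⟨t, Subtype.ext ht⟩
  have := (hcard.trans (Subgroup.card_le_of_le (comm_le C S))).trans hZ
  omega

end G2

/-! ### Twisted groups -/

section Twisted

open Cfsg.Agent.ChevalleyCert Cfsg.Agent.ChevBruhat Cfsg.Agent.TwistedCore

variable {D : ChevalleyDatum} {C : Cert D} {F : Type*} [Field F] [Fintype F] {T : Twist C F}
  {G1 : Subgroup (GL D.Idx F)} (K : Classes T G1) {p : ℕ}

/-- the unipotent radical of `B¹` -/
abbrev U1 (D : ChevalleyDatum) (G1 : Subgroup (GL D.Idx F)) : Subgroup ↥G1 :=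
  (D.posUnipotent F ⊓ G1).subgroupOf G1

include K in
theorem U1_normalizer : Subgroup.normalizer (U1 D G1 : Set ↥G1) = K.bnPair.B ∧ U1 D G1 ≤ K.bnPair.B := by
  have hUB : U1 D G1 ≤ K.bnPair.B := fun x hx =>
    ⟨Sys.U_le_B (Subgroup.mem_inf.1 (Subgroup.mem_subgroupOf.1 hx)).1, x.2⟩
  refine ⟨normalizer_eq_B K.bnPair (fun b hb => ?_) (fun b hb => ?_) hUB, hUB⟩
  · refine PFree87.mem_normalizer_of_conj (M := K.bnPair.B) (fun c hc x hx => ?_) hb
    obtain ⟨h, hh, u, hu, e⟩ := T.S.mem_B_iff.mp (show (c : GL D.Idx F) ∈ D.borelSubgroup F from hc.1)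
    refine ⟨?_, (c * x * c⁻¹).2⟩
    show (c : GL D.Idx F) * x * (c : GL D.Idx F)⁻¹ ∈ D.posUnipotent F
    rw [e, show h * u * (x : GL D.Idx F) * (h * u)⁻¹ = h * (u * x * u⁻¹) * h⁻¹ by group]
    exact T.S.H_conj_U hh (mul_mem (mul_mem hu hx.1) (inv_mem hu))
  · obtain ⟨h, hh, u, hu, e⟩ := PFreeTwisted87.decomp K (show (b : GL D.Idx F) ∈ D.borelSubgroup F ⊓ G1 from hb)
    have h1 : (⟨h, hh.2⟩ : ↥G1) ∈ K.bnPair.B ⊓ K.bnPair.N :=
      ⟨⟨Sys.H_le_B hh.1, hh.2⟩, ⟨Sys.H_le_N hh.1, hh.2⟩⟩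
    have h2 := mul_mem (Subgroup.mem_sup_right h1) (Subgroup.mem_sup_left (show (⟨u, hu.2⟩ : ↥G1) ∈ U1 D G1 from hu))
    rwa [show b = ⟨h, hh.2⟩ * ⟨u, hu.2⟩ from Subtype.ext e]

/-- the representative of a class -/
abbrev crep (J : K.κ) : ↥G1 := ⟨K.cn J, K.cn_G1 J⟩

theorem card_par (J : K.κ) : Nat.card ↥(par K.bnPair (crep K J)) =
    Nat.card ↥K.bnPair.B + Nat.card ↥K.bnPair.B * Nat.card ↥(T.UF (K.cw J)) := by
  have hmem : ∀ u : ↥(T.UF (K.cw J)), (u : GL D.Idx F) ∈ G1 := fun u => K.UF_le (K.cw_fix J) u.2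
  have huB : ∀ u : ↥(T.UF (K.cw J)), (⟨u, hmem u⟩ : ↥G1) ∈ par K.bnPair (crep K J) := fun u =>
    B_le_parabolic _ _ ⟨Sys.U_le_B (T.S.Uw_le_U _ u.2.1), hmem u⟩
  have hT : ∀ (b : ↥K.bnPair.B) (u : ↥(T.UF (K.cw J))),
      T.Cell (K.cw J) (((b : ↥G1) : GL D.Idx F) * K.cn J * u) := fun b u =>
    ⟨_, b.2.1, K.cnN J, _, Sys.U_le_B (T.S.Uw_le_U _ u.2.1), K.cn_toW J, rfl⟩
  have hnotB : ∀ (c b : ↥K.bnPair.B) (u : ↥(T.UF (K.cw J))),
      ((c : ↥G1) : GL D.Idx F) ≠ ((b : ↥G1) : GL D.Idx F) * K.cn J * u := fun c b u e => by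
    refine K.cw_ne_one J (T.cell_unique (e ▸ hT b u) ?_)
    exact ⟨_, c.2.1, 1, 1, one_mem _, map_one _, by simp⟩
  let f : ↥K.bnPair.B ⊕ (↥K.bnPair.B × ↥(T.UF (K.cw J))) → ↥(par K.bnPair (crep K J)) := Sum.elim
    (fun b : ↥K.bnPair.B => ⟨b.1, B_le_parabolic _ _ b.2⟩) fun bu : ↥K.bnPair.B × ↥(T.UF (K.cw J)) => ⟨(bu.1 : ↥G1) * crep K J * ⟨bu.2, hmem bu.2⟩,
      mul_mem (mul_mem (B_le_parabolic _ _ bu.1.2) (rep_mem_parabolic _ (Set.mem_singleton _))) (huB bu.2)⟩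
  have hf : Function.Bijective f := by
    refine ⟨?_, fun g => ?_⟩
    · rintro (c | ⟨b, u⟩) (c' | ⟨b', u'⟩) e
      · exact congrArg Sum.inl (Subtype.ext (congrArg (fun z : ↥(par K.bnPair (crep K J)) => (z : ↥G1)) e))
      · exact absurd (congrArg (fun z : ↥(par K.bnPair (crep K J)) => ((z : ↥G1) : GL D.Idx F)) e) (hnotB c b' u')
      · exact absurd (congrArg (fun z : ↥(par K.bnPair (crep K J)) => ((z : ↥G1) : GL D.Idx F)) e.symm) (hnotB c' b u)
      · obtain ⟨h1, h2⟩ := T.S.form_unique (K.cnN J) b.2.1 b'.2.1 (u := (u : GL D.Idx F)) (u' := (u' : GL D.Idx F))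
          (by rw [K.cn_toW J]; exact u.2.1) (by rw [K.cn_toW J]; exact u'.2.1)
          (congrArg (fun z : ↥(par K.bnPair (crep K J)) => ((z : ↥G1) : GL D.Idx F)) e)
        exact congrArg Sum.inr (Prod.ext (Subtype.ext (Subtype.ext h1)) (Subtype.ext h2))
    · rcases mem_par K.bnPair (show crep K J ∈ K.bnPair.S from ⟨J, rfl⟩) g.2 with hg | hg
      · exact ⟨Sum.inl ⟨g, (mem_cell_one _).1 hg⟩, rfl⟩
      obtain ⟨a, ha, b, hb, e⟩ := exists_eq_mul K.bnPair
        ⟨crep K J, K.bnPair.subset (show crep K J ∈ K.bnPair.S from ⟨J, rfl⟩)⟩ rfl hg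
      obtain ⟨c, hc, n, hn, u, hu, hform⟩ := K.exists_form1 (g : ↥G1).2
      have hcell : T.Cell (K.cw J) ((g : ↥G1) : GL D.Idx F) :=
        ⟨_, ha.1, K.cnN J, _, hb.1, K.cn_toW J, congrArg Subtype.val e⟩
      have hw : T.S.toW n = K.cw J := T.cell_unique ⟨_, hc.1, n, _, Sys.U_le_B (T.S.Uw_le_U _ hu.1), rfl, hform⟩ hcell
      have hH : (n : GL D.Idx F) * (K.cn J)⁻¹ ∈ D.diagonalSubgroup F := by
        have h1 : T.S.toW n⁻¹ = T.S.toW (K.cnN J)⁻¹ := by rw [map_inv, map_inv, hw, K.cn_toW J]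
        simpa using T.S.toW_eq_iff.mp h1
      rw [hw] at hu
      refine ⟨Sum.inr (⟨⟨c * ((n : GL D.Idx F) * (K.cn J)⁻¹), G1.mul_mem hc.2 (G1.mul_mem hn (G1.inv_mem (K.cn_G1 J)))⟩,
        ⟨mul_mem hc.1 (Sys.H_le_B hH), G1.mul_mem hc.2 (G1.mul_mem hn (G1.inv_mem (K.cn_G1 J)))⟩⟩, ⟨u, hu⟩), ?_⟩
      refine Subtype.ext (Subtype.ext ?_)
      show c * ((n : GL D.Idx F) * (K.cn J)⁻¹) * K.cn J * u = _
      rw [hform]
      group
  haveI : Finite ↥G1 := Finite.of_injective _ G1.subtype_injective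
  rw [← Nat.card_congr (Equiv.ofBijective f hf), Nat.card_sum, Nat.card_prod]

theorem inv_wd (l : List (Fin D.rank)) : T.X.inv (T.wd l) =
    ((Finset.range D.nroots).filter fun r => D.IsPosRoot r ∧ D.IsNegRoot (Twist.wact' D l r)).card := by
  unfold ChevWeyl.Weyl.inv
  congr 1
  ext r
  rw [T.mem_invSet_wd, Finset.mem_filter, Finset.mem_range]
  exact ⟨fun h => ⟨h.1.1, h⟩, fun h => h.2⟩

theorem crit_twisted {r x : Prop} (J J' : K.κ) (h : T.X.inv (K.cw J) ≠ T.X.inv (K.cw J')) :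
    Crit p (U1 D G1) r x := by
  haveI : Finite ↥G1 := Finite.of_injective _ G1.subtype_injective
  refine crit_of_bn K.bnPair (U1_normalizer K).2 (U1_normalizer K).1 (show crep K J ∈ K.bnPair.S from ⟨J, rfl⟩)
    (show crep K J' ∈ K.bnPair.S from ⟨J', rfl⟩) fun α _ _ _ he => h ?_
  have h1 := card_mv α (par K.bnPair (crep K J))
  rw [he, card_par, card_par] at h1
  have h2 : Nat.card ↥(T.UF (K.cw J')) = Nat.card ↥(T.UF (K.cw J)) :=
    Nat.eq_of_mul_eq_mul_left Nat.card_pos (Nat.add_left_cancel h1)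
  have h3 := K.UJ_card J
  have h4 := K.UJ_card J'
  rw [h2, h3] at h4
  exact Nat.pow_right_injective K.one_lt_Q h4

end Twisted

/-! ### The families -/

theorem degF4 : ∃ s t a b c : Fin chevF4.rank, degData chevF4 s t a b c :=
  ⟨⟨1, by decide⟩, ⟨0, by decide⟩, ⟨0, by decide⟩, ⟨2, by decide⟩, ⟨1, by decide⟩, by
    unfold degData
    decide +kernel⟩

theorem degE6 : ∃ s t a b c : Fin chevE6.rank, degData chevE6 s t a b c :=
  ⟨⟨2, by decide⟩, ⟨0, by decide⟩, ⟨0, by decide⟩, ⟨3, by decide⟩, ⟨2, by decide⟩, by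
    unfold degData
    decide +kernel⟩

theorem degE7 : ∃ s t a b c : Fin chevE7.rank, degData chevE7 s t a b c :=
  ⟨⟨2, by decide⟩, ⟨0, by decide⟩, ⟨0, by decide⟩, ⟨3, by decide⟩, ⟨2, by decide⟩, by
    unfold degData
    decide +kernel⟩

theorem degE8 : ∃ s t a b c : Fin chevE8.rank, degData chevE8 s t a b c :=
  ⟨⟨2, by decide⟩, ⟨0, by decide⟩, ⟨0, by decide⟩, ⟨3, by decide⟩, ⟨2, by decide⟩, by
    unfold degData
    decide +kernel⟩

section Families

variable {p : ℕ} [hp : Fact p.Prime] {r x : Prop}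

/-- two fundamental roots and an odd prime -/
theorem crit_chev_two {D : ChevalleyDatum} {F : Type*} [Field F] [Fintype F] (C : Cfsg.Agent.ChevalleyCert.Cert D)
    (S : ChevBruhat.Sys D F) [CharP F p] (hp2 : p ≠ 2) (i j : Fin D.rank)
    (hij : D.simple i ≠ D.simple j) (hall : ∀ k : Fin D.rank, k = i ∨ k = j) : Crit p (U0 D F) r x := by
  refine crit_of_bn_two S.bnPair hp2 (U0_le S) (U0_normalizer C S) (rep S i).2 (rep S j).2 (fun e => hij ?_)
    fun u hu => ?_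
  · have h2 := congrArg S.toW (show S.sN i = S.sN j from
      Subtype.ext (congrArg (fun z : ↥(D.group F) => (z : GL D.Idx F)) e :))
    rw [S.toW_sN, S.toW_sN] at h2
    have h3 := congrArg (fun w => S.X.img w (D.simple i)) h2
    simp only [S.X.img_simple _ (S.X.simple_lt i.isLt), S.X.reflect_simple i.isLt] at h3
    by_contra hne
    have h4 := (S.X.root_facts' (S.X.simple_lt i.isLt) j.isLt).2.2.2.2.1 (S.X.simple_pos i.isLt) hne
    rw [← h3] at h4
    exact S.X.not_pos_and_neg h4 ((S.X.pos_neg_iff (S.X.root_facts (S.X.simple_lt i.isLt)).1).mp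
      ((S.X.root_facts (S.X.simple_lt i.isLt)).2.1.symm ▸ S.X.simple_pos i.isLt))
  · obtain ⟨k, hk⟩ := rep_surj S ⟨u, hu⟩
    rcases hall k with rfl | rfl
    · exact Or.inl (congrArg Subtype.val hk)
    · exact Or.inr (congrArg Subtype.val hk)

/-- for some Sylow subgroup, hence for all -/
def Ans (p : ℕ) (G : Type*) [Group G] (r x : Prop) : Prop := ∀ P : Sylow p G, Crit p (P : Subgroup G) r x

theorem Ans.of_one {G : Type*} [Group G] [Finite G] (P : Sylow p G) (h : Crit p (P : Subgroup G) r x) :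
    Ans p G r x := fun P' => h.sylow P'

theorem Ans.of_equiv {G H : Type*} [Group G] [Group H] [Finite G] (e : G ≃* H) (h : Ans p H r x) :
    Ans p G r x := by
  intro P
  haveI : Finite H := Finite.of_equiv G e.toEquiv
  obtain ⟨Q, hQ⟩ := (P.2.map e.toMonoidHom).exists_le_sylow
  have h1 := (h Q).of_equiv e
  have h2 : (Q : Subgroup H).map e.symm.toMonoidHom = (P : Subgroup G) :=
    P.3 (Q.2.map _) fun y hy => ⟨e y, hQ (Subgroup.mem_map_of_mem _ hy), e.symm_apply_apply y⟩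
  rwa [h2] at h1

theorem exceptional {G : Type*} [Group G] [Finite G] (h : Cfsg.IsExceptionalChevChar p G) : Ans p G r x := by
  obtain ⟨K, _, _, _, h⟩ := h
  rcases h with ⟨-, ⟨e⟩⟩ | ⟨⟨e⟩⟩ | ⟨⟨e⟩⟩ | ⟨⟨e⟩⟩ | ⟨⟨e⟩⟩
  · refine Ans.of_equiv e ?_
    let C := ChevalleyAll.cert chevG2 (by simp)
    let S := ChevBruhatInstance.sys chevG2 (by simp) K
    haveI : Finite ↥(chevG2.group K) := inferInstance
    obtain ⟨P, hP⟩ := ChevalleySylow.exists_sylow C S p
    refine Ans.of_one P ?_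
    rw [hP]
    by_cases hp2 : p = 2
    · subst hp2
      exact crit_g2 C S
    · exact crit_chev_two C S hp2 ⟨0, by decide⟩ ⟨1, by decide⟩ (by decide) (by decide)
  · refine Ans.of_equiv e ?_
    let C := ChevalleyAll.cert chevF4 (by simp)
    let S := ChevBruhatInstance.sys chevF4 (by simp) K
    obtain ⟨P, hP⟩ := ChevalleySylow.exists_sylow C S p
    refine Ans.of_one P ?_
    rw [hP]
    obtain ⟨s, t, a, b, c, hd⟩ : ∃ s t a b c : Fin chevF4.rank, degData chevF4 s t a b c := degF4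
    exact crit_chev C S s t a b c hd
  · refine Ans.of_equiv e ?_
    let C := ChevalleyAll.cert chevE6 (by simp)
    let S := ChevBruhatInstance.sys chevE6 (by simp) K
    obtain ⟨P, hP⟩ := ChevalleySylow.exists_sylow C S p
    refine Ans.of_one P ?_
    rw [hP]
    obtain ⟨s, t, a, b, c, hd⟩ : ∃ s t a b c : Fin chevE6.rank, degData chevE6 s t a b c := degE6
    exact crit_chev C S s t a b c hd
  · refine Ans.of_equiv e ?_
    let C := ChevalleyAll.cert chevE7 (by simp)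
    let S := ChevBruhatInstance.sys chevE7 (by simp) K
    obtain ⟨P, hP⟩ := ChevalleySylow.exists_sylow C S p
    refine Ans.of_one P ?_
    rw [hP]
    obtain ⟨s, t, a, b, c, hd⟩ : ∃ s t a b c : Fin chevE7.rank, degData chevE7 s t a b c := degE7
    exact crit_chev C S s t a b c hd
  · refine Ans.of_equiv e ?_
    let C := ChevalleyAll.cert chevE8 (by simp)
    let S := ChevBruhatInstance.sys chevE8 (by simp) K
    obtain ⟨P, hP⟩ := ChevalleySylow.exists_sylow C S p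
    refine Ans.of_one P ?_
    rw [hP]
    obtain ⟨s, t, a, b, c, hd⟩ : ∃ s t a b c : Fin chevE8.rank, degData chevE8 s t a b c := degE8
    exact crit_chev C S s t a b c hd

theorem twisted_ans {D : ChevalleyDatum} {C : Cfsg.Agent.ChevalleyCert.Cert D} {F : Type*} [Field F] [Fintype F]
    {T : TwistedCore.Twist C F} {G1 : Subgroup (GL D.Idx F)} (K : TwistedCore.Classes T G1) [CharP F p] (J J' : K.κ)
    (h : T.X.inv (K.cw J) ≠ T.X.inv (K.cw J')) : Ans p ↥G1 r x := by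
  haveI : Finite ↥G1 := Finite.of_injective _ G1.subtype_injective
  obtain ⟨P, hP⟩ := TwistAutRigid.exists_sylow K p
  refine Ans.of_one P ?_
  rw [hP]
  have h1 : TwistAutRigid.U1 G1 = U1 D G1 := by
    ext x
    exact ⟨fun hx => ⟨Subgroup.mem_subgroupOf.1 hx, x.2⟩, fun hx => (Subgroup.mem_inf.1 (Subgroup.mem_subgroupOf.1 hx)).1⟩
  rw [h1]
  exact crit_twisted (p := p) K J J' h

theorem e6d4 {G : Type*} [Group G] [Finite G] (h : Cfsg.IsTwistedE6D4Char p G) : Ans p G r x := by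
  obtain ⟨K, _, _, _, q, hq, h⟩ := h
  rcases h with ⟨hK, ⟨e⟩⟩ | ⟨hK, ⟨e⟩⟩
  · obtain ⟨f, hf⟩ := TwistedField.exists_frob hK two_ne_zero
    refine Ans.of_equiv e (twisted_ans (TwistedE6.classes f hf hK) (Sum.inl 0) (Sum.inr 0) ?_)
    show (TwistedE6.tw f).X.inv ((TwistedE6.tw f).wd (TwistedE6.cl6 (Sum.inl 0))) ≠
      (TwistedE6.tw f).X.inv ((TwistedE6.tw f).wd (TwistedE6.cl6 (Sum.inr 0)))
    rw [inv_wd, inv_wd]
    decide +kernel
  · obtain ⟨f, hf⟩ := TwistedField.exists_frob hK three_ne_zero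
    refine Ans.of_equiv e (twisted_ans (TwistedD4.classes f hf hK) true false ?_)
    show (TwistedD4.tw f).X.inv ((TwistedD4.tw f).wd (TwistedD4.cl4 true)) ≠
      (TwistedD4.tw f).X.inv ((TwistedD4.tw f).wd (TwistedD4.cl4 false))
    rw [inv_wd, inv_wd]
    decide +kernel

theorem f4 {G : Type*} [Group G] [Finite G] [Fact (Nat.Prime 2)] (h : Cfsg.Lie.Iso2F4 G) : Ans 2 G r x := by
  obtain ⟨K, _, _, m, hm, hK, ⟨e⟩⟩ := h
  have := TwistedF4Classes.charP_two (K := K) m hK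
  refine Ans.of_equiv e (twisted_ans (TwistedF4Classes.classes m hK) true false ?_)
  show (TwistedF4Classes.tw (K := K) m).X.inv ((TwistedF4Classes.tw (K := K) m).wd (TwistedF4Classes.clF true)) ≠
    (TwistedF4Classes.tw (K := K) m).X.inv ((TwistedF4Classes.tw (K := K) m).wd (TwistedF4Classes.clF false))
  rw [inv_wd, inv_wd]
  decide +kernel

end Families

end Cfsg.Agent.PMinExc87
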