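import Cfsg.Agent.Lib.PFreePolar87

/-!
The subspaces fixed by a maximal `p`-subgroup of a group acting on a polar space, by induction on a hyperbolic pair.
-/

set_option autoImplicit false
set_option linter.unusedSectionVars false

namespace Cfsg.Agent.PMinFlag87

open Cfsg.Agent.SteinbergPolar Cfsg.Agent.SteinbergLattice

open scoped Classical

variable {F V : Type*} [Field F] [AddCommGroup V] [Module F V] {G : Type*} [Group G]

/-- the elements of `H` in the radical of a point -/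
def rd (Q : Geo F V) (ρ : G →* (V ≃ₗ[F] V)) (H : Subgroup G) (e : V) : Subgroup G :=
  H ⊓ PFreePolar87.rad Q ρ (F ∙ e)

/-- the stabiliser of a pair of points -/
def pst (ρ : G →* (V ≃ₗ[F] V)) (H : Subgroup G) (e f : V) : Subgroup G :=
  H ⊓ stabSub ρ (F ∙ e) ⊓ stabSub ρ (F ∙ f)

variable [Finite V]

/-- a nonzero singular subspace of `W` fixed by `U` -/
def Inv (Q : Geo F V) (ρ : G →* (V ≃ₗ[F] V)) (W : Submodule F V) (U : Subgroup G) (Y : Submodule F V) : Prop :=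
  Y ∈ Pts Q W ∧ ∀ u ∈ U, img ρ u Y = Y

/-- no residual hyperbolic plane with two points -/
def NT (Q : Geo F V) (W : Submodule F V) : Prop :=
  ∀ v ∈ W, Q.Φ v = 0 → v ≠ 0 → Thick Q W

/-- a maximal `p`-subgroup with the maximal members among its fixed subspaces -/
structure Dat (Q : Geo F V) (ρ : G →* (V ≃ₗ[F] V)) (p : ℕ) (H : Subgroup G) (W : Submodule F V) (U : Subgroup G)
    (M : Finset (Submodule F V)) : Prop where
  le : U ≤ H
  pg : IsPGroup p ↥U
  maxi : ∀ R : Subgroup G, U ≤ R → R ≤ H → IsPGroup p ↥R → R ≤ U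
  mem : ∀ X ∈ M, Inv Q ρ W U X
  cover : ∀ Y, Inv Q ρ W U Y → Y ∈ M ∨ ∃ X ∈ M, Y ≤ X ∧ Module.finrank F X = Module.finrank F Y + 1 ∧
    2 * Module.finrank F X = Module.finrank F W ∧ ∀ c : F, Q.θ c = 0 → c = 0
  sep : ∀ X ∈ M, ∃ h ∈ H, img ρ h X ≠ X ∧ ∀ X' ∈ M, X' ≠ X → img ρ h X' = X'
  norm : ∀ h ∈ H, (∀ X ∈ M, img ρ h X = X) → ∀ u ∈ U, h * u * h⁻¹ ∈ U

variable {Q : Geo F V} {ρ : G →* (V ≃ₗ[F] V)} {p : ℕ} {H : Subgroup G} {W : Submodule F V}

theorem exists_grow {P A : Subgroup G} [Finite G] [Fact p.Prime] (hP : IsPGroup p ↥P) (hA : A ≤ P) (hne : ¬ P ≤ A) :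
    ∃ y ∈ P, y ∉ A ∧ ∀ a ∈ A, y⁻¹ * a * y ∈ A := by
  haveI : Group.IsNilpotent P := hP.isNilpotent
  have hlt : A.subgroupOf P < ⊤ :=
    lt_top_iff_ne_top.2 fun h => hne (Subgroup.subgroupOf_eq_top.1 h)
  obtain ⟨y, hy, hyA⟩ := SetLike.exists_of_lt (Group.normalizerCondition_of_isNilpotent _ hlt)
  refine ⟨y, y.2, fun h => hyA (Subgroup.mem_subgroupOf.2 h), fun a ha => ?_⟩
  have := (Subgroup.mem_normalizer_iff.1 (inv_mem hy) ⟨a, hA ha⟩).1 (Subgroup.mem_subgroupOf.2 ha)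
  simpa [Subgroup.mem_subgroupOf] using this

theorem img_fix {g : G} {v : V} (h : ρ g v = v) : img ρ g (F ∙ v) = F ∙ v :=
  img_eq_of_le ρ (fun y hy => by
    obtain ⟨c, rfl⟩ := Submodule.mem_span_singleton.1 hy
    rw [map_smul, h]; exact hy) le_rfl

theorem pair_facts {e f : V} (hfe : Q.B f e = 1) : e ≠ 0 ∧ f ≠ 0 :=
  ⟨fun h => by rw [h, Q.zero_right] at hfe; exact zero_ne_one hfe,
    fun h => by rw [h, Q.zero_left] at hfe; exact zero_ne_one hfe⟩

theorem not_mem_perp {e f : V} (hfe : Q.B f e = 1) : e ∉ Q.perp (F ∙ f) := fun h =>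
  pair_ne hfe (h f (Submodule.mem_span_singleton_self f))

theorem inf_perp_eq {e f : V} (hfe : Q.B f e = 1) {Z : Submodule F V} (hZ : Z ≤ Q.perp (F ∙ f)) :
    ((F ∙ e) ⊔ Z) ⊓ Q.perp (F ∙ f) = Z := by
  rw [sup_comm, sup_inf_assoc_of_le _ hZ,
    show (F ∙ e) ⊓ Q.perp (F ∙ f) = ⊥ from eq_bot_iff.2 fun y hy => by
      obtain ⟨hy1, hy2⟩ := Submodule.mem_inf.1 hy
      obtain ⟨c, rfl⟩ := Submodule.mem_span_singleton.1 hy1
      rcases eq_or_ne c 0 with rfl | hc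
      · simp
      · exact absurd (((Q.perp (F ∙ f)).smul_mem_iff hc).1 hy2) (not_mem_perp hfe), sup_bot_eq]

theorem finrank_line_sup {e f : V} (hfe : Q.B f e = 1) {Z : Submodule F V} (hZ : Z ≤ Q.perp (F ∙ f)) :
    Module.finrank F ↥((F ∙ e) ⊔ Z) = Module.finrank F Z + 1 := by
  have : Module.Finite F V := Module.Finite.of_finite
  have h1 := Submodule.finrank_sup_add_finrank_inf_eq (F ∙ e) Z
  have h2 : (F ∙ e) ⊓ Z = ⊥ := eq_bot_iff.2 fun y hy => by
    have hy' : y ∈ (((F ∙ e) ⊔ Z) ⊓ Q.perp (F ∙ f) : Submodule F V) ⊓ (F ∙ e) :=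
      ⟨⟨Submodule.mem_sup_left hy.1, hZ hy.2⟩, hy.1⟩
    obtain ⟨c, rfl⟩ := Submodule.mem_span_singleton.1 hy.1
    rcases eq_or_ne c 0 with rfl | hc
    · simp
    · exact absurd (((Q.perp (F ∙ f)).smul_mem_iff hc).1 hy'.1.2) (not_mem_perp hfe)
  rw [h2, finrank_bot, finrank_span_singleton (pair_facts hfe).1] at h1
  omega

theorem finrank_sub2 {e f : V} (he : e ∈ W) (hf : f ∈ W) (hfs : Q.Φ f = 0) (hfe : Q.B f e = 1) :
    Module.finrank F ↥(sub2 Q W e f) + 2 = Module.finrank F W := by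
  have : Module.Finite F V := Module.Finite.of_finite
  refine le_antisymm ?_ (finrank_sub2_le e f)
  have h1 : sub2 Q W e f ≤ Q.perp (F ∙ f) := inf_le_right
  have h2 := finrank_line_sup hfe h1
  have hlt : (F ∙ e) ⊔ sub2 Q W e f < W := by
    refine lt_of_le_of_ne (sup_le ((Submodule.span_singleton_le_iff_mem _ _).2 he) (inf_le_left.trans inf_le_left))
      fun h => ?_
    obtain ⟨a, ha, z, hz, hf'⟩ := Submodule.mem_sup.1 (h.ge hf)
    obtain ⟨c, rfl⟩ := Submodule.mem_span_singleton.1 ha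
    have h3 := congrArg (fun y => Q.B y f) hf'
    simp only [Q.add_left, Q.smul_left, (mem_sub2.1 hz).2.2, Q.iso f hfs, add_zero, mul_eq_zero] at h3
    rw [h3.resolve_right (pair_ne hfe), zero_smul, zero_add] at hf'
    exact one_ne_zero (hfe.symm.trans (hf' ▸ (mem_sub2.1 hz).2.1))
  have := Submodule.finrank_lt_finrank_of_lt hlt
  omega

theorem rd_fix {e : V} {r : G} (hr : r ∈ rd Q ρ H e) : ρ r e = e := hr.2.1 e (Submodule.mem_span_singleton_self e)

theorem rd_stab {e : V} {r : G} (hr : r ∈ rd Q ρ H e) : img ρ r (F ∙ e) = F ∙ e := img_fix (rd_fix hr)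

theorem rd_sup {e : V} {r : G} (hr : r ∈ rd Q ρ H e) {Z : Submodule F V} (hZ : Z ≤ Q.perp (F ∙ e)) :
    img ρ r ((F ∙ e) ⊔ Z) = (F ∙ e) ⊔ Z := by
  refine img_eq_of_le ρ (fun y hy => ?_) le_rfl
  obtain ⟨a, ha, z, hz, rfl⟩ := Submodule.mem_sup.1 hy
  rw [map_add, hr.2.1 a ha]
  have h1 := hr.2.2 z (hZ hz)
  rw [show a + ρ r z = (a + (ρ r z - z)) + z by abel]
  exact Submodule.add_mem _ (Submodule.mem_sup_left (Submodule.add_mem _ ha h1)) (Submodule.mem_sup_right hz)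

theorem sup_le_perp {e : V} (hes : Q.Φ e = 0) {Z : Submodule F V} (hZ : Z ≤ Q.perp (F ∙ e)) :
    (F ∙ e) ⊔ Z ≤ Q.perp (F ∙ e) :=
  sup_le ((Q.sing_span hes).2) hZ

theorem pts_sup {e f : V} (he : e ∈ W) (hes : Q.Φ e = 0) (hfe : Q.B f e = 1) {Z : Submodule F V}
    (hZ : Z ∈ Pts Q (sub2 Q W e f)) : (F ∙ e) ⊔ Z ∈ Pts Q W := by
  obtain ⟨-, hZs, hZW⟩ := (mem_Pts Q).1 hZ
  refine (mem_Pts Q).2 ⟨fun h => (pair_facts hfe).1 ?_, (Q.sing_span hes).sup hZs
    (Q.le_perp_comm (hZW.trans (inf_le_left.trans inf_le_right))),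
    sup_le ((Submodule.span_singleton_le_iff_mem _ _).2 he) (hZW.trans (inf_le_left.trans inf_le_left))⟩
  exact (Submodule.mem_bot F).1 (h ▸ Submodule.mem_sup_left (Submodule.mem_span_singleton_self e))

variable (hO0 : Ok Q ρ p ⊤ ⊤)

section Eichler

variable (hO : Ok Q ρ p H W)

include hO in
/-- an Eichler element in `rd` -/
theorem exists_rd {e u v : V} (he : e ∈ W) (hu : u ∈ W) (hv : v ∈ W) (hes : Q.Φ e = 0) (hus : Q.Φ u = 0)
    (hvs : Q.Φ v = 0) (hue : Q.B u e = 1) (hve : Q.B v e = 1) :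
    ∃ h ∈ rd Q ρ H e, ρ h u = v ∧ ∀ y, Q.B y e = 0 → Q.B y u = 0 → Q.B y v = 0 → ρ h y = y := by
  obtain ⟨h, hh, he', hu', hperp, hfix⟩ := hO.eichler e he u hu v hv hes hus hvs hue hve
  refine ⟨h, ⟨hh, fun x hx => ?_, fun y hy => ?_⟩, hu', hfix⟩
  · obtain ⟨c, rfl⟩ := Submodule.mem_span_singleton.1 hx
    rw [map_smul, he']
  · obtain ⟨c, hc⟩ := hperp y (hy e (Submodule.mem_span_singleton_self e))
    rw [hc, add_sub_cancel_left]
    exact Submodule.smul_mem _ _ (Submodule.mem_span_singleton_self e)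

include hO in
/-- moving `e` along `z` -/
theorem yel {e f z : V} (he : e ∈ W) (hf : f ∈ W) (hes : Q.Φ e = 0) (hfs : Q.Φ f = 0) (hfe : Q.B f e = 1)
    (hz : z ∈ sub2 Q W e f) (hz0 : z ≠ 0) (hzs : Q.Φ z = 0) (hO2 : Ok Q ρ p (pst ρ H e f) (sub2 Q W e f)) (c : F) :
    ∃ h ∈ rd Q ρ H z, ρ h e = e + c • z := by
  obtain ⟨g, hg, hgs, hgz⟩ := hO2.exists_partner hz hz0 hzs
  obtain ⟨hzW, hze, hzf⟩ := mem_sub2.1 hz
  obtain ⟨hgW, hge, hgf⟩ := mem_sub2.1 hg
  obtain ⟨a, ha⟩ := Q.σ_surj (-c * Q.B z g / Q.B e f)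
  have hfz : Q.B f z = 0 := Q.refl _ _ hzf
  obtain ⟨h, hh, hhg, -⟩ := exists_rd hO hzW hgW (v := g + a • f) (W.add_mem hgW (W.smul_mem _ hf)) hzs hgs
    (by rw [Q.Φ_add, Q.Φ_smul _ _ hfs, hgs, Q.smul_right, hgf, mul_zero, map_zero]; ring) hgz
    (by rw [Q.add_left, Q.smul_left, hfz, mul_zero, add_zero, hgz])
  refine ⟨h, hh, ?_⟩
  obtain ⟨d, hd⟩ := Submodule.mem_span_singleton.1 (hh.2.2 e (Q.mem_perp_span (Q.refl _ _ hze)))
  have h1 := (hO.pres h hh.1).1 e g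
  rw [hhg, show ρ h e = e + d • z by rw [hd]; abel, Q.refl _ _ hge, Q.add_left, Q.add_right, Q.add_right,
    Q.smul_right, Q.smul_left, Q.smul_left, Q.smul_right, Q.refl _ _ hge, hzf, ha] at h1
  have h2 : d = c := by
    have hef := pair_ne hfe
    have hzg := pair_ne hgz
    field_simp at h1
    refine mul_right_cancel₀ (mul_ne_zero hef hzg) ?_
    linear_combination h1
  rw [← h2, hd]; abel

end Eichler

variable [Finite F] [CharP F p] [Fact p.Prime] (hinj : Function.Injective ρ)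

include hO0 hinj in
theorem rd_pgroup (e : V) : IsPGroup p ↥(rd Q ρ H e) :=
  (PFreePolar87.rad_isPGroup hinj hO0 (F ∙ e)).to_le inf_le_right

include hO0 in
theorem rd_conj {e : V} {g : G} (hg : g ∈ H) (hge : img ρ g (F ∙ e) = F ∙ e) {r : G} (hr : r ∈ rd Q ρ H e) :
    g * r * g⁻¹ ∈ rd Q ρ H e :=
  ⟨H.mul_mem (H.mul_mem hg hr.1) (H.inv_mem hg), PFreePolar87.rad_conj hO0
    (fun x hx => hge ▸ apply_mem_img ρ hx) (fun x hx => img_inv_of ρ g hge ▸ apply_mem_img ρ hx) hr.2⟩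

section Step

variable (hO : Ok Q ρ p H W) {e f : V} (he : e ∈ W) (hf : f ∈ W) (hes : Q.Φ e = 0) (hfs : Q.Φ f = 0)
  (hfe : Q.B f e = 1)

include hO he hf hes hfs hfe in
/-- the stabiliser of the point is the radical times the stabiliser of the pair -/
theorem factor {g : G} (hg : g ∈ H) (hge : img ρ g (F ∙ e) = F ∙ e) :
    ∃ r ∈ rd Q ρ H e, ∃ h ∈ pst ρ H e f, g = r * h := by
  obtain ⟨a, ha⟩ := Submodule.mem_span_singleton.1 (hge ▸ apply_mem_img ρ (Submodule.mem_span_singleton_self e))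
  have hg1 : Q.B (ρ g f) (ρ g e) = 1 := by rw [(hO.pres g hg).1, hfe]
  rw [← ha, Q.smul_right] at hg1
  have hgW : ρ g f ∈ W := hO.stab g hg ▸ apply_mem_img ρ hf
  have hgs : Q.Φ (ρ g f) = 0 := by rw [(hO.pres g hg).2, hfs]
  obtain ⟨r, hr, hrf, -⟩ := exists_rd hO he hf (v := Q.σ a • ρ g f) (W.smul_mem _ hgW) hes hfs
    (Q.Φ_smul _ _ hgs) hfe (by rw [Q.smul_left, hg1])
  have ha0 : Q.σ a ≠ 0 := fun h => by rw [h, zero_mul] at hg1; exact zero_ne_one hg1
  refine ⟨r, hr, r⁻¹ * g, ⟨⟨H.mul_mem (H.inv_mem hr.1) hg, ?_⟩, ?_⟩, (mul_inv_cancel_left r g).symm⟩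
  · show img ρ (r⁻¹ * g) (F ∙ e) = F ∙ e
    rw [img_mul, hge, img_inv_of ρ r (rd_stab hr)]
  · show img ρ (r⁻¹ * g) (F ∙ f) = F ∙ f
    refine img_eq_of_le ρ (fun y hy => ?_) le_rfl
    obtain ⟨c, rfl⟩ := Submodule.mem_span_singleton.1 hy
    have h1 : ρ (r⁻¹ * g) f = (Q.σ a)⁻¹ • f := by
      rw [PFreePolar87.rho_mul, show ρ g f = (Q.σ a)⁻¹ • ρ r f by rw [hrf, inv_smul_smul₀ ha0], map_smul,
        PFreePolar87.rho_inv]
    rw [map_smul, h1]
    exact Submodule.smul_mem _ _ (Submodule.smul_mem _ _ (Submodule.mem_span_singleton_self f))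

include hO0 hO he hf hes hfs hfe in
/-- the radical fixes only subspaces containing the point -/
theorem contains (hth : Thick Q W) {Y : Submodule F V} (hY : Y ∈ Pts Q W)
    (hfix : ∀ r ∈ rd Q ρ H e, img ρ r Y = Y) : e ∈ Y := by
  obtain ⟨hY0, hYs, hYW⟩ := (mem_Pts Q).1 hY
  have hmove : ∀ {r : G} {y : V}, r ∈ rd Q ρ H e → y ∈ Y → ρ r y ∈ Y := fun hr hy => hfix _ hr ▸ apply_mem_img ρ hy
  obtain ⟨y, hy, hy0⟩ := Submodule.exists_mem_ne_zero_of_ne_bot hY0
  have hO2 : Ok Q ρ p (pst ρ H e f) (sub2 Q W e f) := hO.descend he hf hes hfs hfe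
  by_cases hye : ∀ y ∈ Y, Q.B y e = 0
  · by_contra heY
    -- replace `y` by one orthogonal to the partner
    obtain ⟨a, b, hw⟩ := decomp2 he hf hes hfs hfe (hYW hy)
    obtain ⟨hwW, hwe, hwf⟩ := mem_sub2.1 hw
    rw [Q.sub_left, Q.sub_left, Q.smul_left, Q.smul_left, Q.iso e hes, hfe, hye y hy] at hwe
    obtain rfl : b = 0 := by linear_combination -hwe
    rw [zero_smul, sub_zero] at hw hwW hwf
    have hw0 : y - a • e ≠ 0 := fun h => by
      rw [sub_eq_zero] at h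
      rcases eq_or_ne a 0 with rfl | ha
      · exact hy0 (by rw [h, zero_smul])
      · exact heY ((Y.smul_mem_iff ha).1 (h ▸ hy))
    obtain ⟨z, hz, hzy⟩ : ∃ z ∈ sub2 Q W e f, Q.B z (y - a • e) ≠ 0 := by
      by_contra hall
      push Not at hall
      exact hw0 (hO2.nondeg _ hw fun u hu => Q.refl _ _ (hall u hu))
    obtain ⟨hzW, hze, hzf⟩ := mem_sub2.1 hz
    obtain ⟨t, ht⟩ := Q.trace (f + z)
    obtain ⟨d, hd⟩ := Q.σ_surj (-t)
    have hfz : Q.B (f + z) e = 1 := by rw [Q.add_left, hfe, hze, add_zero]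
    have hve : Q.B (f + z + d • e) e = 1 := by rw [Q.add_left, hfz, Q.smul_left, Q.iso e hes, mul_zero, add_zero]
    obtain ⟨r, hr, hrf, -⟩ := exists_rd hO he hf (v := f + z + d • e)
      (W.add_mem (W.add_mem hf hzW) (W.smul_mem _ he)) hes hfs
      (by rw [Q.Φ_add, Q.Φ_smul d e hes, Q.smul_right, hfz, mul_one, hd, map_neg, ht]; ring) hfe hve
    obtain ⟨c, hc⟩ := Submodule.mem_span_singleton.1 (hr.2.2 y (Q.mem_perp_span (hye y hy)))
    have hc0 : c ≠ 0 := by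
      rintro rfl
      rw [zero_smul, eq_comm, sub_eq_zero] at hc
      have h1 := (hO.pres r hr.1).1 f y
      rw [hrf, hc, Q.add_left, Q.add_left, Q.smul_left, Q.refl _ _ (hye y hy), mul_zero, add_zero,
        add_eq_left] at h1
      rw [Q.sub_right, Q.smul_right, hze, mul_zero, sub_zero] at hzy
      exact hzy h1
    exact heY ((Y.smul_mem_iff hc0).1 (hc ▸ Y.sub_mem (hmove hr hy) hy))
  · exfalso
    push Not at hye
    obtain ⟨y, hy, hye⟩ := hye
    set u := (Q.B y e)⁻¹ • y with hu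
    have huY : u ∈ Y := Y.smul_mem _ hy
    have hue : Q.B u e = 1 := by rw [hu, Q.smul_left, inv_mul_cancel₀ hye]
    have hus := hYs.1 u huY
    have huW := hYW huY
    have hpart : ∀ v ∈ W, Q.Φ v = 0 → Q.B v e = 1 → v ∈ Y := fun v hv hvs hve => by
      obtain ⟨r, hr, hru, -⟩ := exists_rd hO he huW hv hes hus hvs hue hve
      exact hru ▸ hmove hr huY
    have key : ∀ w ∈ sub2 Q W e u, ∀ c : F, Q.θ c = -Q.Φ w → c = 0 := by
      intro w hw c hc
      obtain ⟨hwW, hwe, hwu⟩ := mem_sub2.1 hw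
      obtain ⟨d, hd⟩ := Q.σ_surj c
      have h1 : Q.B (u + w) e = 1 := by rw [Q.add_left, hue, hwe, add_zero]
      have hv := hpart (u + w + d • e) (W.add_mem (W.add_mem huW hwW) (W.smul_mem _ he))
        (by rw [Q.Φ_add, Q.Φ_add, Q.Φ_smul d e hes, Q.smul_right, h1, hd, mul_one, Q.refl _ _ hwu, map_zero, hus,
          hc]; ring)
        (by rw [Q.add_left, h1, Q.smul_left, Q.iso e hes, mul_zero, add_zero])
      have h2 : Q.B (u + w + d • e) u = 0 := hYs.2 hv u huY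
      rw [Q.add_left, Q.add_left, Q.iso u hus, hwu, Q.smul_left, zero_add, zero_add, mul_eq_zero] at h2
      rw [← hd, h2.resolve_right (pair_ne hue), map_zero]
    by_cases hker : ∃ c : F, c ≠ 0 ∧ Q.θ c = 0
    · obtain ⟨c, hc0, hc⟩ := hker
      exact hc0 (key 0 (zero_mem _) c (by rw [Q.Φ_zero, neg_zero, hc]))
    · have h3 := hth.resolve_left hker
      push Not at hker
      have h0 : ∀ w ∈ sub2 Q W e u, Q.Φ w = 0 := fun w hw => by
        obtain ⟨t, ht⟩ := Q.trace w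
        have := key w hw (-t) (by rw [map_neg, ht])
        rw [neg_eq_zero] at this
        rw [← ht, this, map_zero]
      have hO2' : Ok Q ρ p (pst ρ H e u) (sub2 Q W e u) := hO.descend he huW hes hus hue
      have : sub2 Q W e u = ⊥ := eq_bot_iff.2 fun w hw => (Submodule.mem_bot F).2 (hO2'.nondeg w hw fun w' hw' =>
        by_contra fun hne => hker _ hne (by
          have := h0 _ (Submodule.add_mem _ hw hw')
          rwa [Q.Φ_add, h0 w hw, h0 w' hw', zero_add, zero_add] at this))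
      have h4 := finrank_sub2_le (Q := Q) (W := W) e u
      rw [this, finrank_bot] at h4
      omega

include hO0 hinj in
theorem sup_pgroup {U2 : Subgroup G} (hle : U2 ≤ pst ρ H e f) (hU2 : IsPGroup p ↥U2) :
    IsPGroup p ↥(rd Q ρ H e ⊔ U2) ∧ U2 ≤ Subgroup.normalizer (rd Q ρ H e : Set G) := by
  have hn : U2 ≤ Subgroup.normalizer (rd Q ρ H e : Set G) :=
    PFree87.mem_normalizer_of_conj fun g hg r hr => rd_conj hO0 (hle hg).1.1 (hle hg).1.2 hr
  exact ⟨(rd_pgroup hO0 hinj e).to_sup_of_normal_left' hU2 hn, hn⟩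

variable [Finite G]

include hO0 hO he hf hes hfs hfe hinj in
/-- one step of the induction -/
theorem step (hth : Thick Q W) {U2 : Subgroup G} {M2 : Finset (Submodule F V)}
    (D : Dat Q ρ p (pst ρ H e f) (sub2 Q W e f) U2 M2)
    (hroot : (∀ v ∈ sub2 Q W e f, Q.Φ v = 0 → v = 0) ∨
      ∃ z ∈ sub2 Q W e f, z ≠ 0 ∧ Q.Φ z = 0 ∧ ∀ Y, Inv Q ρ (sub2 Q W e f) U2 Y → z ∈ Y) :
    Dat Q ρ p H W (rd Q ρ H e ⊔ U2) (insert (F ∙ e) (M2.image fun Z => (F ∙ e) ⊔ Z)) ∧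
      ∀ Y, Inv Q ρ W (rd Q ρ H e ⊔ U2) Y → e ∈ Y := by
  have hO2 : Ok Q ρ p (pst ρ H e f) (sub2 Q W e f) := hO.descend he hf hes hfs hfe
  set U := rd Q ρ H e ⊔ U2 with hU
  obtain ⟨hpg, hn⟩ := sup_pgroup hO0 hinj D.le D.pg
  have hmemU : ∀ {u : G}, u ∈ U → ∃ r ∈ rd Q ρ H e, ∃ v ∈ U2, u = r * v := fun {u} hu => by
    rw [hU, ← SetLike.mem_coe, Subgroup.coe_mul_of_right_le_normalizer_left _ _ hn] at hu
    obtain ⟨r, hr, v, hv, e⟩ := hu
    exact ⟨r, hr, v, hv, e.symm⟩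
  have hUfix : ∀ {u : G}, u ∈ U → img ρ u (F ∙ e) = F ∙ e := fun {u} hu => by
    obtain ⟨r, hr, v, hv, rfl⟩ := hmemU hu
    rw [img_mul, (D.le hv).1.2, rd_stab hr]
  have hcontains : ∀ Y, Inv Q ρ W U Y → e ∈ Y := fun Y hY =>
    contains hO0 hO he hf hes hfs hfe hth hY.1 fun r hr => hY.2 r (Subgroup.mem_sup_left hr)
  have hperp : ∀ {Z}, Z ∈ Pts Q (sub2 Q W e f) → Z ≤ Q.perp (F ∙ e) ∧ Z ≤ Q.perp (F ∙ f) := fun hZ =>
    ⟨((mem_Pts Q).1 hZ).2.2.trans (inf_le_left.trans inf_le_right), ((mem_Pts Q).1 hZ).2.2.trans inf_le_right⟩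
  have hlift : ∀ {h : G} {Z}, h ∈ pst ρ H e f → Z ∈ Pts Q (sub2 Q W e f) →
      (img ρ h ((F ∙ e) ⊔ Z) = (F ∙ e) ⊔ Z ↔ img ρ h Z = Z) := fun {h Z} hh hZ => by
    refine ⟨fun h1 => ?_, fun h1 => by rw [(img ρ h).map_sup, hh.1.2, h1]⟩
    have h2 := hO.img_inf_perp hh.1.1 h1 hh.2
    rwa [inf_perp_eq hfe (hperp hZ).2] at h2
  have heY : ∀ {Z}, (F ∙ e) ≠ (F ∙ e) ⊔ Z ∨ Z ≤ (F ∙ e) := fun {Z} => by
    by_cases h : Z ≤ F ∙ e
    · exact Or.inr h
    · exact Or.inl fun h' => h (h' ▸ le_sup_right)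
  refine ⟨⟨sup_le inf_le_left fun v hv => (D.le hv).1.1, hpg, fun R hUR hRH hR => ?_, ?_, ?_, ?_, ?_⟩, hcontains⟩
  · -- maximality
    by_contra hne
    obtain ⟨y, hyR, hyU, hyn⟩ := exists_grow hR hUR hne
    have hye : img ρ y (F ∙ e) = F ∙ e := by
      have hmem : e ∈ img ρ y (F ∙ e) := by
        refine contains hO0 hO he hf hes hfs hfe hth (hO.img_pts (hRH hyR) ((mem_Pts Q).2
          ⟨Submodule.span_singleton_eq_bot.not.2 (pair_facts hfe).1, Q.sing_span hes,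
            (Submodule.span_singleton_le_iff_mem _ _).2 he⟩)) fun r hr => ?_
        have h1 := hUfix (hyn r (Subgroup.mem_sup_left hr))
        conv_rhs => rw [← h1]
        rw [← img_mul, ← img_mul]
        congr 1
        group
      refine (Submodule.eq_of_le_of_finrank_le ((Submodule.span_singleton_le_iff_mem _ _).2 hmem) ?_).symm
      rw [finrank_img]
    obtain ⟨r, hr, h, hh, rfl⟩ := factor hO he hf hes hfs hfe (hRH hyR) hye
    have hhR : h ∈ R := by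
      have := R.mul_mem (R.inv_mem (hUR (Subgroup.mem_sup_left hr))) hyR
      rwa [inv_mul_cancel_left] at this
    have h2 : h ∈ U2 := D.maxi (R ⊓ pst ρ H e f) (le_inf ((le_sup_right : U2 ≤ U).trans hUR) D.le) inf_le_right
      (hR.to_le inf_le_left) ⟨hhR, hh⟩
    exact hyU (mul_mem (Subgroup.mem_sup_left hr) (Subgroup.mem_sup_right h2))
  · -- members
    intro X hX
    rcases Finset.mem_insert.1 hX with rfl | hX
    · exact ⟨(mem_Pts Q).2 ⟨Submodule.span_singleton_eq_bot.not.2 (pair_facts hfe).1, Q.sing_span hes,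
        (Submodule.span_singleton_le_iff_mem _ _).2 he⟩, fun u hu => hUfix hu⟩
    obtain ⟨Z, hZ, rfl⟩ := Finset.mem_image.1 hX
    obtain ⟨hZP, hZU⟩ := D.mem Z hZ
    refine ⟨pts_sup he hes hfe hZP, fun u hu => ?_⟩
    obtain ⟨r, hr, v, hv, rfl⟩ := hmemU hu
    rw [img_mul, (hlift (D.le hv) hZP).2 (hZU v hv), rd_sup hr (hperp hZP).1]
  · -- cover
    intro Y hY
    have heY := hcontains Y hY
    have hle : F ∙ e ≤ Y := (Submodule.span_singleton_le_iff_mem _ _).2 heY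
    obtain ⟨-, hYs, hYW⟩ := (mem_Pts Q).1 hY.1
    by_cases hYe : Y ≤ F ∙ e
    · exact Or.inl (Finset.mem_insert.2 (Or.inl (le_antisymm hYe hle)))
    have hsplit : (F ∙ e) ⊔ Y ⊓ Q.perp (F ∙ f) = Y := by
      refine Q.sup_inf_perp hle (eq_bot_iff.2 fun y hy => ?_) ?_
      · have := inf_perp_eq hfe (Z := (⊥ : Submodule F V)) bot_le
        rw [sup_bot_eq] at this
        exact this ▸ hy
      · rw [finrank_span_singleton (pair_facts hfe).1, finrank_span_singleton (pair_facts hfe).2]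
    have hZ : Inv Q ρ (sub2 Q W e f) U2 (Y ⊓ Q.perp (F ∙ f)) := by
      refine ⟨(mem_Pts Q).2 ⟨fun h0 => hYe ?_, hYs.mono inf_le_left, fun z hz => mem_sub2.2
        ⟨hYW hz.1, hYs.2 hz.1 e heY, hz.2 f (Submodule.mem_span_singleton_self f)⟩⟩, fun v hv => ?_⟩
      · rw [h0, sup_bot_eq] at hsplit
        exact hsplit.ge
      · exact hO.img_inf_perp (D.le hv).1.1 (hY.2 v (Subgroup.mem_sup_right hv)) (D.le hv).2
    rcases D.cover _ hZ with h1 | ⟨X, hX, hYX, hr1, hr2, hθ⟩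
    · exact Or.inl (Finset.mem_insert.2 (Or.inr (Finset.mem_image.2 ⟨_, h1, hsplit⟩)))
    · refine Or.inr ⟨(F ∙ e) ⊔ X, Finset.mem_insert.2 (Or.inr (Finset.mem_image.2 ⟨X, hX, rfl⟩)),
        hsplit.ge.trans (sup_le_sup_left hYX _), ?_, ?_, hθ⟩
      · conv_rhs => rw [← hsplit]
        rw [finrank_line_sup hfe (hperp (D.mem X hX).1).2, finrank_line_sup hfe inf_le_right, hr1]
      · rw [finrank_line_sup hfe (hperp (D.mem X hX).1).2, ← finrank_sub2 he hf hfs hfe]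
        omega
  · -- separation
    intro X hX
    rcases Finset.mem_insert.1 hX with rfl | hX
    · rcases hroot with hnone | ⟨z, hz, hz0, hzs, hzY⟩
      · have hfl : F ∙ f ∈ Lines Q W := mem_Lines.2 ⟨f, hf, (pair_facts hfe).2, hfs, rfl⟩
        have hel : F ∙ e ∈ Lines Q W := mem_Lines.2 ⟨e, he, (pair_facts hfe).1, hes, rfl⟩
        obtain ⟨m, hm, hmv⟩ := hO.move_lines hth _ hel _ hfl
        refine ⟨m, hm, fun h => ?_, fun X' hX' hne => ?_⟩
        · have h1 : (F ∙ f) ≤ Q.perp (F ∙ f) := (Q.sing_span hfs).2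
          exact not_mem_perp hfe (h1 ((hmv.symm.trans h) ▸ Submodule.mem_span_singleton_self e))
        · obtain ⟨Z, hZ, rfl⟩ := Finset.mem_image.1 ((Finset.mem_insert.1 hX').resolve_left hne)
          obtain ⟨hZ0, hZs, hZW⟩ := (mem_Pts Q).1 (D.mem Z hZ).1
          exact absurd (eq_bot_iff.2 fun v hv => (Submodule.mem_bot F).2 (hnone v (hZW hv) (hZs.1 v hv))) hZ0
      · obtain ⟨h, hh, hhe⟩ := yel hO he hf hes hfs hfe hz hz0 hzs hO2 1
        rw [one_smul] at hhe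
        refine ⟨h, hh.1, fun h1 => ?_, fun X' hX' hne => ?_⟩
        · have h2 := h1 ▸ apply_mem_img ρ (g := h) (Submodule.mem_span_singleton_self e)
          rw [hhe, Submodule.add_mem_iff_right _ (Submodule.mem_span_singleton_self e)] at h2
          obtain ⟨c, hc⟩ := Submodule.mem_span_singleton.1 h2
          have h3 := (mem_sub2.1 hz).2.2
          rw [← hc, Q.smul_left, mul_eq_zero] at h3
          exact hz0 (by rw [← hc, h3.resolve_right (pair_ne hfe), zero_smul])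
        · obtain ⟨Z, hZ, rfl⟩ := Finset.mem_image.1 ((Finset.mem_insert.1 hX').resolve_left hne)
          obtain ⟨hZP, -⟩ := D.mem Z hZ
          have hzZ := hzY Z (D.mem Z hZ)
          have hp : (F ∙ e) ⊔ Z ≤ Q.perp (F ∙ z) := sup_le
            ((Submodule.span_singleton_le_iff_mem _ _).2 (Q.mem_perp_span (Q.refl _ _ (mem_sub2.1 hz).2.1)))
            fun y hy => Q.mem_perp_span (((mem_Pts Q).1 hZP).2.1.2 hy z hzZ)
          refine img_eq_of_le ρ (fun y hy => ?_) le_rfl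
          rw [← sub_add_cancel (ρ h y) y]
          refine Submodule.add_mem _ ?_ hy
          exact (Submodule.span_singleton_le_iff_mem _ _).2 (Submodule.mem_sup_right hzZ) (hh.2.2 y (hp hy))
    · obtain ⟨Z, hZ, rfl⟩ := Finset.mem_image.1 hX
      obtain ⟨h, hh, hmv, hfix⟩ := D.sep Z hZ
      refine ⟨h, hh.1.1, fun h1 => hmv ((hlift hh (D.mem Z hZ).1).1 h1), fun X' hX' hne => ?_⟩
      rcases Finset.mem_insert.1 hX' with rfl | hX'
      · exact hh.1.2
      obtain ⟨Z', hZ', rfl⟩ := Finset.mem_image.1 hX'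
      exact (hlift hh (D.mem Z' hZ').1).2 (hfix Z' hZ' fun e' => hne (by rw [e']))
  · -- normalising
    intro g hg hfix u hu
    obtain ⟨r, hr, h, hh, rfl⟩ := factor hO he hf hes hfs hfe hg (hfix _ (Finset.mem_insert_self _ _))
    have hh2 : ∀ Z ∈ M2, img ρ h Z = Z := fun Z hZ => by
      have h1 := hfix _ (Finset.mem_insert.2 (Or.inr (Finset.mem_image.2 ⟨Z, hZ, rfl⟩)))
      rw [img_mul] at h1
      have h2 := img_inv_of ρ r h1
      rw [img_inv_of ρ r (rd_sup hr (hperp (D.mem Z hZ).1).1)] at h2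
      exact (hlift hh (D.mem Z hZ).1).1 h2.symm
    obtain ⟨r', hr', v, hv, rfl⟩ := hmemU hu
    rw [show r * h * (r' * v) * (r * h)⁻¹ = r * ((h * r' * h⁻¹) * (h * v * h⁻¹)) * r⁻¹ by group]
    exact mul_mem (mul_mem (Subgroup.mem_sup_left hr) (mul_mem
      (Subgroup.mem_sup_left (rd_conj hO0 hh.1.1 hh.1.2 hr'))
      (Subgroup.mem_sup_right (D.norm h hh hh2 v hv)))) (inv_mem (Subgroup.mem_sup_left hr))

include hO0 hO hinj in
/-- a thin space has no `p`-elements -/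
theorem no_pElement (hth : ¬ Thick Q W) {g : G} (hg : g ∈ H) (hp : ∃ k : ℕ, g ^ p ^ k = 1) : g = 1 := by
  by_contra hne
  obtain ⟨v, hv, hv0, hvs, hvfix, x, hx, hxv⟩ := hO.uni g hg hp hne
  obtain ⟨w, hw, hws, hwv⟩ := hO.exists_partner hv hv0 hvs
  obtain ⟨hdec, hP, -⟩ := thin_space hv hw hvs hws hwv hth
  obtain ⟨k, hk⟩ := hp
  have hw0 := (pair_facts hwv).2
  have hgw : img ρ g (F ∙ w) = F ∙ w := by
    have h1 := hO.img_pts hg (U := F ∙ w) (by rw [hP]; simp)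
    rw [hP, Finset.mem_insert, Finset.mem_singleton] at h1
    refine h1.resolve_left fun h => ?_
    have h2 : F ∙ w = F ∙ v := (img ρ g).injective (h.trans (img_fix hvfix).symm)
    obtain ⟨c, hc⟩ := Submodule.mem_span_singleton.1 (h2 ▸ Submodule.mem_span_singleton_self w)
    rw [← hc, Q.smul_left, Q.iso v hvs, mul_zero] at hwv
    exact zero_ne_one hwv
  have hfixw := fix_of_line (ρ := ρ) hk hw0 hgw
  obtain ⟨a, b, rfl⟩ := hdec x hx
  rw [map_add, map_smul, map_smul, hvfix, hfixw, sub_self] at hxv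
  exact hv0 hxv.symm

include hO0 hO he hf hes hfs hfe hinj in
/-- the last step above a hyperbolic plane with two points -/
theorem step_thin (hth : Thick Q W) {z w : V} (hz : z ∈ sub2 Q W e f) (hw : w ∈ sub2 Q W e f) (hzs : Q.Φ z = 0)
    (hws : Q.Φ w = 0) (hwz : Q.B w z = 1) (hth2 : ¬ Thick Q (sub2 Q W e f)) :
    Dat Q ρ p H W (rd Q ρ H e) {(F ∙ e) ⊔ (F ∙ z), (F ∙ e) ⊔ (F ∙ w)} ∧
      ∀ Y, Inv Q ρ W (rd Q ρ H e) Y → e ∈ Y := by
  have hO2 : Ok Q ρ p (pst ρ H e f) (sub2 Q W e f) := hO.descend he hf hes hfs hfe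
  obtain ⟨-, hP, hne⟩ := thin_space hz hw hzs hws hwz hth2
  have hz0 := (pair_facts hwz).1
  have hw0 := (pair_facts hwz).2
  have hPz : F ∙ z ∈ Pts Q (sub2 Q W e f) := by rw [hP]; simp
  have hPw : F ∙ w ∈ Pts Q (sub2 Q W e f) := by rw [hP]; simp
  have hcontains : ∀ Y, Inv Q ρ W (rd Q ρ H e) Y → e ∈ Y := fun Y hY =>
    contains hO0 hO he hf hes hfs hfe hth hY.1 hY.2
  have hperp : ∀ {Z}, Z ∈ Pts Q (sub2 Q W e f) → Z ≤ Q.perp (F ∙ e) ∧ Z ≤ Q.perp (F ∙ f) := fun hZ =>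
    ⟨((mem_Pts Q).1 hZ).2.2.trans (inf_le_left.trans inf_le_right), ((mem_Pts Q).1 hZ).2.2.trans inf_le_right⟩
  have hcases : ∀ X ∈ ({(F ∙ e) ⊔ (F ∙ z), (F ∙ e) ⊔ (F ∙ w)} : Finset (Submodule F V)),
      ∃ Z ∈ Pts Q (sub2 Q W e f), X = (F ∙ e) ⊔ Z := fun X hX => by
    rw [Finset.mem_insert, Finset.mem_singleton] at hX
    rcases hX with rfl | rfl
    exacts [⟨_, hPz, rfl⟩, ⟨_, hPw, rfl⟩]
  refine ⟨⟨inf_le_left, rd_pgroup hO0 hinj e, fun R hUR hRH hR => ?_, ?_, ?_, ?_, ?_⟩, hcontains⟩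
  · by_contra hne
    obtain ⟨y, hyR, hyU, hyn⟩ := exists_grow hR hUR hne
    have hye : img ρ y (F ∙ e) = F ∙ e := by
      have hmem : e ∈ img ρ y (F ∙ e) := by
        refine contains hO0 hO he hf hes hfs hfe hth (hO.img_pts (hRH hyR) ((mem_Pts Q).2
          ⟨Submodule.span_singleton_eq_bot.not.2 (pair_facts hfe).1, Q.sing_span hes,
            (Submodule.span_singleton_le_iff_mem _ _).2 he⟩)) fun r hr => ?_
        have h1 := rd_stab (hyn r hr)
        conv_rhs => rw [← h1]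
        rw [← img_mul, ← img_mul]
        congr 1
        group
      refine (Submodule.eq_of_le_of_finrank_le ((Submodule.span_singleton_le_iff_mem _ _).2 hmem) ?_).symm
      rw [finrank_img]
    obtain ⟨r, hr, h, hh, rfl⟩ := factor hO he hf hes hfs hfe (hRH hyR) hye
    have hhR : h ∈ R := by
      have := R.mul_mem (R.inv_mem (hUR hr)) hyR
      rwa [inv_mul_cancel_left] at this
    have h1 : h = 1 := no_pElement hO0 hinj hO2 hth2 hh ((hR ⟨h, hhR⟩).imp fun k hk => congrArg Subtype.val hk)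
    exact hyU (by rw [h1, mul_one]; exact hr)
  · intro X hX
    obtain ⟨Z, hZ, rfl⟩ := hcases X hX
    exact ⟨pts_sup he hes hfe hZ, fun r hr => rd_sup hr (hperp hZ).1⟩
  · intro Y hY
    have heY := hcontains Y hY
    have hle : F ∙ e ≤ Y := (Submodule.span_singleton_le_iff_mem _ _).2 heY
    obtain ⟨-, hYs, hYW⟩ := (mem_Pts Q).1 hY.1
    by_cases hYe : Y ≤ F ∙ e
    · obtain rfl := le_antisymm hYe hle
      refine Or.inr ⟨_, Finset.mem_insert_self _ _, le_sup_left, ?_, ?_, ?_⟩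
      · rw [finrank_line_sup hfe (hperp hPz).2, finrank_span_singleton (pair_facts hfe).1,
          finrank_span_singleton hz0]
      · rw [finrank_line_sup hfe (hperp hPz).2, finrank_span_singleton hz0, ← finrank_sub2 he hf hfs hfe,
          ← finrank_sub2 hz hw hws hwz]
        have hbot : sub2 Q (sub2 Q W e f) z w = ⊥ := eq_bot_iff.2 fun y hy => by
          obtain ⟨hyW, hyz, hyw⟩ := mem_sub2.1 hy
          obtain ⟨a, b, rfl⟩ := (thin_space hz hw hzs hws hwz hth2).1 y hyW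
          rw [Q.add_left, Q.smul_left, Q.smul_left, Q.iso z hzs, hwz] at hyz
          rw [Q.add_left, Q.smul_left, Q.smul_left, Q.iso w hws, mul_zero, add_zero, mul_eq_zero] at hyw
          simp only [mul_zero, zero_add, mul_one] at hyz
          simp [hyz, hyw.resolve_right (pair_ne hwz)]
        rw [hbot, finrank_bot]
      · exact fun c hc => by_contra fun h0 => hth2 (Or.inl ⟨c, h0, hc⟩)
    have hsplit : (F ∙ e) ⊔ Y ⊓ Q.perp (F ∙ f) = Y := by
      refine Q.sup_inf_perp hle (eq_bot_iff.2 fun y hy => ?_) ?_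
      · have := inf_perp_eq hfe (Z := (⊥ : Submodule F V)) bot_le
        rw [sup_bot_eq] at this
        exact this ▸ hy
      · rw [finrank_span_singleton (pair_facts hfe).1, finrank_span_singleton (pair_facts hfe).2]
    have hZ : Y ⊓ Q.perp (F ∙ f) ∈ Pts Q (sub2 Q W e f) :=
      (mem_Pts Q).2 ⟨fun h0 => hYe (by rw [h0, sup_bot_eq] at hsplit; exact hsplit.ge), hYs.mono inf_le_left,
        fun y hy => mem_sub2.2 ⟨hYW hy.1, hYs.2 hy.1 e heY, hy.2 f (Submodule.mem_span_singleton_self f)⟩⟩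
    rw [hP, Finset.mem_insert, Finset.mem_singleton] at hZ
    left
    rw [← hsplit]
    rcases hZ with h | h <;> rw [h] <;> simp
  · -- separation
    have key : ∀ {z w : V}, z ∈ sub2 Q W e f → w ∈ sub2 Q W e f → z ≠ 0 → Q.Φ z = 0 → Q.Φ w = 0 →
        Q.B z w ≠ 0 → ∃ h ∈ H, img ρ h ((F ∙ e) ⊔ (F ∙ z)) = (F ∙ e) ⊔ (F ∙ z) ∧
          img ρ h ((F ∙ e) ⊔ (F ∙ w)) ≠ (F ∙ e) ⊔ (F ∙ w) := by
      intro z w hz hw hz0 hzs hws hzw
      obtain ⟨h, hh, hhe⟩ := yel hO he hf hes hfs hfe hz hz0 hzs hO2 1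
      rw [one_smul] at hhe
      refine ⟨h, hh.1, img_eq_of_le ρ (fun y hy => ?_) le_rfl, fun h1 => ?_⟩
      · have hp : (F ∙ e) ⊔ (F ∙ z) ≤ Q.perp (F ∙ z) := sup_le
          ((Submodule.span_singleton_le_iff_mem _ _).2 (Q.mem_perp_span (Q.refl _ _ (mem_sub2.1 hz).2.1)))
          (Q.sing_span hzs).2
        rw [← sub_add_cancel (ρ h y) y]
        exact Submodule.add_mem _ (Submodule.mem_sup_right (hh.2.2 y (hp hy))) hy
      · have h2 : ρ h e ∈ (F ∙ e) ⊔ (F ∙ w) :=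
          h1 ▸ apply_mem_img ρ (Submodule.mem_sup_left (Submodule.mem_span_singleton_self e))
        rw [hhe, Submodule.add_mem_iff_right _ (Submodule.mem_sup_left (Submodule.mem_span_singleton_self e))] at h2
        have h3 : (F ∙ e) ⊔ (F ∙ w) ≤ Q.perp (F ∙ w) := sup_le
          ((Submodule.span_singleton_le_iff_mem _ _).2 (Q.mem_perp_span (Q.refl _ _ (mem_sub2.1 hw).2.1)))
          (Q.sing_span hws).2
        exact hzw (h3 h2 w (Submodule.mem_span_singleton_self w))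
    intro X hX
    rw [Finset.mem_insert, Finset.mem_singleton] at hX
    rcases hX with rfl | rfl
    · obtain ⟨h, hh, h1, h2⟩ := key hw hz hw0 hws hzs (by rw [hwz]; exact one_ne_zero)
      refine ⟨h, hh, h2, fun X' hX' hne' => ?_⟩
      rw [Finset.mem_insert, Finset.mem_singleton] at hX'
      rw [hX'.resolve_left hne', h1]
    · obtain ⟨h, hh, h1, h2⟩ := key hz hw hz0 hzs hws (pair_ne hwz)
      refine ⟨h, hh, h2, fun X' hX' hne' => ?_⟩
      rw [Finset.mem_insert, Finset.mem_singleton] at hX'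
      rw [hX'.resolve_right hne', h1]
  · intro g hg hfix u hu
    refine rd_conj hO0 hg ?_ hu
    have hinf : ((F ∙ e) ⊔ (F ∙ z)) ⊓ ((F ∙ e) ⊔ (F ∙ w)) = F ∙ e := by
      refine le_antisymm (fun y hy => ?_) (le_inf le_sup_left le_sup_left)
      obtain ⟨a, ha, b, hb, rfl⟩ := Submodule.mem_sup.1 hy.1
      obtain ⟨a', ha', b', hb', e'⟩ := Submodule.mem_sup.1 hy.2
      have h1 : b ∈ ((F ∙ e) ⊔ (F ∙ w)) ⊓ Q.perp (F ∙ f) := ⟨by
        rw [show b = (a' + b') - a by rw [e']; abel]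
        exact Submodule.sub_mem _ (Submodule.add_mem _ (Submodule.mem_sup_left ha') (Submodule.mem_sup_right hb'))
          (Submodule.mem_sup_left ha), (hperp hPz).2 hb⟩
      rw [inf_perp_eq hfe (hperp hPw).2] at h1
      obtain ⟨c, rfl⟩ := Submodule.mem_span_singleton.1 hb
      rcases eq_or_ne c 0 with rfl | hc
      · simpa using ha
      · refine absurd (le_antisymm ((Submodule.span_singleton_le_iff_mem _ _).2
          (((F ∙ w).smul_mem_iff hc).1 h1)) ?_) hne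
        obtain ⟨d, hd⟩ := Submodule.mem_span_singleton.1 (((F ∙ w).smul_mem_iff hc).1 h1)
        refine (Submodule.span_singleton_le_iff_mem _ _).2 (Submodule.mem_span_singleton.2 ⟨d⁻¹, ?_⟩)
        rw [← hd, inv_smul_smul₀ fun h0 => hz0 (by rw [← hd, h0, zero_smul])]
    have h1 := congrArg (img ρ g) hinf
    rwa [(img ρ g).map_inf, hfix _ (Finset.mem_insert_self _ _),
      hfix _ (Finset.mem_insert.2 (Or.inr (Finset.mem_singleton_self _))), hinf, eq_comm] at h1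

end Step

include hO0 hinj in
/-- the induction -/
theorem exists_dat [Finite G] : ∀ (n : ℕ) {H : Subgroup G} {W : Submodule F V}, Module.finrank F W = n →
    Ok Q ρ p H W → NT Q W → ∃ U M, Dat Q ρ p H W U M ∧ ((∀ v ∈ W, Q.Φ v = 0 → v = 0) ∨
      ∃ z ∈ W, z ≠ 0 ∧ Q.Φ z = 0 ∧ ∀ Y, Inv Q ρ W U Y → z ∈ Y) := by
  intro n
  induction n using Nat.strong_induction_on with
  | _ n ih =>
  intro H W hn hO hNT
  by_cases hs : ∀ v ∈ W, Q.Φ v = 0 → v = 0
  · have hP : ∀ Y, Y ∉ Pts Q W := fun Y hY => by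
      obtain ⟨hY0, hYs, hYW⟩ := (mem_Pts Q).1 hY
      exact hY0 (eq_bot_iff.2 fun v hv => (Submodule.mem_bot F).2 (hs v (hYW hv) (hYs.1 v hv)))
    refine ⟨⊥, ∅, ⟨bot_le, IsPGroup.of_bot, fun R _ hRH hR => ?_, by simp, fun Y hY => absurd hY.1 (hP Y), by simp,
      fun h _ _ u hu => ?_⟩, Or.inl hs⟩
    · intro g hg
      by_contra hne
      obtain ⟨v, hv, hv0, hvs, -, -⟩ := hO.uni g (hRH hg)
        ((hR ⟨g, hg⟩).imp fun k hk => congrArg Subtype.val hk) (fun h => hne (h ▸ one_mem _))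
      exact hv0 (hs v hv hvs)
    · rw [Subgroup.mem_bot] at hu ⊢
      simp [hu]
  push Not at hs
  obtain ⟨e, he, hes, he0⟩ := hs
  have hth := hNT e he hes he0
  obtain ⟨f, hf, hfs, hfe⟩ := hO.exists_partner he he0 hes
  have hO2 : Ok Q ρ p (pst ρ H e f) (sub2 Q W e f) := hO.descend he hf hes hfs hfe
  by_cases hNT2 : NT Q (sub2 Q W e f)
  · obtain ⟨U2, M2, D, hroot⟩ := ih _ (by have := finrank_sub2 he hf hfs hfe; omega) rfl hO2 hNT2
    obtain ⟨h1, h2⟩ := step hO0 hinj hO he hf hes hfs hfe hth D hroot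
    exact ⟨_, _, h1, Or.inr ⟨e, he, he0, hes, h2⟩⟩
  · rw [NT] at hNT2
    push Not at hNT2
    obtain ⟨z, hz, hzs, hz0, hth2⟩ := hNT2
    obtain ⟨w, hw, hws, hwz⟩ := hO2.exists_partner hz hz0 hzs
    obtain ⟨h1, h2⟩ := step_thin hO0 hinj hO he hf hes hfs hfe hth hz hw hzs hws hwz hth2
    exact ⟨_, _, h1, Or.inr ⟨e, he, he0, hes, h2⟩⟩

end Cfsg.Agent.PMinFlag87
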