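import Cfsg.Agent.Lib.PMinExc87
import Cfsg.Agent.Lib.PFreeLinear87

/-!
The criterion for the projective special linear groups: the standard flag.
-/

set_option autoImplicit false
set_option linter.unusedSectionVars false

namespace Cfsg.Agent.PMinLinear87

open Matrix Cfsg.Agent.PFreeLinear87 Cfsg.Agent.PMin87
open Cfsg.Agent.PMinExc87 (Ans)

variable {F : Type} [Field F] {n : ℕ}

local notation "SL" => Matrix.SpecialLinearGroup (Fin n) F

/-- the standard flag -/
def X (i : ℕ) : Submodule F (Fin n → F) where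
  carrier := {x | ∀ j : Fin n, i ≤ j.val → x j = 0}
  zero_mem' _ _ := rfl
  add_mem' {a b} ha hb j hj := by rw [Pi.add_apply, ha j hj, hb j hj, add_zero]
  smul_mem' c a ha j hj := by rw [Pi.smul_apply, ha j hj, smul_zero]

theorem mem_X {i : ℕ} {x : Fin n → F} : x ∈ X (F := F) i ↔ ∀ j : Fin n, i ≤ j.val → x j = 0 := Iff.rfl

theorem X_mono {i j : ℕ} (h : i ≤ j) : X (F := F) (n := n) i ≤ X j := fun _ hx k hk => hx k (h.trans hk)

theorem single_mem {i : ℕ} {j : Fin n} (h : j.val < i) (c : F) : (Pi.single j c : Fin n → F) ∈ X (F := F) i :=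
  fun k hk => by rw [Pi.single_eq_of_ne (show k ≠ j from fun e => by rw [e] at hk; omega)]

/-- the stabiliser of a member of the flag -/
def stX (i : ℕ) : Subgroup SL where
  carrier := {g | (∀ x ∈ X (F := F) i, act g x ∈ X (F := F) i) ∧ ∀ x ∈ X (F := F) i, act g⁻¹ x ∈ X (F := F) i}
  one_mem' := ⟨fun x hx => by rwa [act_one], fun x hx => by rwa [inv_one, act_one]⟩
  mul_mem' {a b} ha hb := ⟨fun x hx => by rw [act_mul]; exact ha.1 _ (hb.1 x hx),
    fun x hx => by rw [_root_.mul_inv_rev, act_mul]; exact hb.2 _ (ha.2 x hx)⟩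
  inv_mem' {a} ha := ⟨ha.2, by rw [inv_inv]; exact ha.1⟩

/-- upper unitriangular matrices -/
def U : Subgroup SL where
  carrier := {g | ∀ i, ∀ x ∈ X (F := F) (i + 1), act g x - x ∈ X (F := F) i ∧ act g⁻¹ x - x ∈ X (F := F) i}
  one_mem' i x _ := by simp [act_one]
  mul_mem' {a b} ha hb i x hx := by
    have hmem : ∀ {g : SL}, (act g x - x ∈ X (F := F) i) → act g x ∈ X (F := F) (i + 1) := fun {g} hg => by
      have := (X (F := F) (n := n) (i + 1)).add_mem (X_mono (Nat.le_succ i) hg) hx
      rwa [sub_add_cancel] at this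
    constructor
    · have h1 := (hb i x hx).1
      have := (X (F := F) (n := n) i).add_mem ((ha i _ (hmem h1)).1) h1
      rwa [sub_add_sub_cancel, ← act_mul] at this
    · have h1 := (ha i x hx).2
      have := (X (F := F) (n := n) i).add_mem ((hb i _ (hmem h1)).2) h1
      rwa [sub_add_sub_cancel, ← act_mul, ← _root_.mul_inv_rev] at this
  inv_mem' {a} ha i x hx := ⟨(ha i x hx).2, by rw [inv_inv]; exact (ha i x hx).1⟩

theorem U_le_stX (i : ℕ) : (U : Subgroup SL) ≤ stX i := by
  intro g hg
  rcases i with _ | i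
  · have : ∀ (h : SL) (x : Fin n → F), x ∈ X (F := F) 0 → act h x ∈ X (F := F) 0 := fun h x hx => by
      have : x = 0 := funext fun j => hx j (Nat.zero_le _)
      rw [this, show act h (0 : Fin n → F) = 0 from mulVec_zero _]
      exact zero_mem _
    exact ⟨this g, this g⁻¹⟩
  · refine ⟨fun x hx => ?_, fun x hx => ?_⟩
    · have := (X (F := F) (n := n) (i + 1)).add_mem (X_mono (Nat.le_succ i) (hg i x hx).1) hx
      rwa [sub_add_cancel] at this
    · have := (X (F := F) (n := n) (i + 1)).add_mem (X_mono (Nat.le_succ i) (hg i x hx).2) hx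
      rwa [sub_add_cancel] at this

theorem tv_inv_act {v φ : Fin n → F} (h : φ ⬝ᵥ v = 0) (x : Fin n → F) :
    act (tv v φ h)⁻¹ x = x - (φ ⬝ᵥ x) • v := by
  conv_lhs => rw [show x = act (tv v φ h) (x - (φ ⬝ᵥ x) • v) by
    rw [tv_act, dotProduct_sub, dotProduct_smul, h, smul_zero, sub_zero, sub_add_cancel]]
  rw [act_inv]

theorem tv_mem_stX {i : ℕ} {v φ : Fin n → F} (h : φ ⬝ᵥ v = 0)
    (hc : ∀ x ∈ X (F := F) i, φ ⬝ᵥ x = 0 ∨ v ∈ X (F := F) i) : tv v φ h ∈ stX i := by
  have key : ∀ x ∈ X (F := F) i, (φ ⬝ᵥ x) • v ∈ X (F := F) i := fun x hx => by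
    rcases hc x hx with h0 | h0
    · rw [h0, zero_smul]; exact zero_mem _
    · exact Submodule.smul_mem _ _ h0
  exact ⟨fun x hx => by rw [tv_act]; exact Submodule.add_mem _ hx (key x hx),
    fun x hx => by rw [tv_inv_act]; exact Submodule.sub_mem _ hx (key x hx)⟩

theorem single_dot (k : Fin n) (x : Fin n → F) : (Pi.single k (1 : F) : Fin n → F) ⬝ᵥ x = x k := by
  rw [single_dotProduct, one_mul]

theorem tv_mem_U {j k : Fin n} (hjk : j.val < k.val) (h : (Pi.single k (1 : F) : Fin n → F) ⬝ᵥ Pi.single j 1 = 0) :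
    tv (Pi.single j 1) (Pi.single k 1) h ∈ (U : Subgroup SL) := by
  intro i x hx
  rw [tv_act, tv_inv_act, add_sub_cancel_left, sub_sub_cancel_left, neg_mem_iff, single_dot]
  refine ⟨?_, ?_⟩ <;>
  · by_cases hk : k.val ≤ i
    · exact Submodule.smul_mem _ _ (single_mem (by omega) 1)
    · rw [hx k (by omega), zero_smul]; exact zero_mem _

theorem dot_single {j k : Fin n} (h : j ≠ k) : (Pi.single k (1 : F) : Fin n → F) ⬝ᵥ Pi.single j 1 = 0 := by
  rw [single_dot, Pi.single_eq_of_ne h.symm]

theorem invariant_eq {Y : Submodule F (Fin n → F)} (hY : ∀ g ∈ (U : Subgroup SL), ∀ y ∈ Y, act g y ∈ Y) :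
    ∃ k ≤ n, Y = X k := by
  classical
  have hex : ∃ k, Y ≤ X (F := F) k := ⟨n, fun y _ j hj => absurd j.isLt (by omega)⟩
  refine ⟨Nat.find hex, Nat.find_min' hex fun y _ j hj => absurd j.isLt (by omega), le_antisymm (Nat.find_spec hex) ?_⟩
  rcases hk : Nat.find hex with _ | m
  · intro x hx
    rw [show x = 0 from funext fun j => hx j (Nat.zero_le _)]
    exact zero_mem _
  have hspec := Nat.find_spec hex
  rw [hk] at hspec
  have hmn : m < n := by
    have := Nat.find_min' hex (m := n) fun y _ j hj => absurd j.isLt (by omega)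
    omega
  obtain ⟨y, hy, hym⟩ : ∃ y ∈ Y, y ⟨m, hmn⟩ ≠ 0 := by
    by_contra hall
    push Not at hall
    refine Nat.find_min hex (m := m) (by omega) fun y hy j hj => ?_
    rcases Nat.eq_or_lt_of_le hj with h | h
    · rw [show j = ⟨m, hmn⟩ from Fin.ext h.symm]; exact hall y hy
    · exact hspec hy j h
  have hlow : ∀ j : Fin n, j.val < m → (Pi.single j (1 : F) : Fin n → F) ∈ Y := fun j hj => by
    have hne : j ≠ ⟨m, hmn⟩ := fun e => by rw [e] at hj; exact lt_irrefl _ hj
    have h1 := hY _ (tv_mem_U (k := ⟨m, hmn⟩) hj (dot_single hne)) y hy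
    rw [tv_act, single_dot, Submodule.add_mem_iff_right _ hy] at h1
    exact (Y.smul_mem_iff hym).1 h1
  intro x hx
  have hsplit : x - (x ⟨m, hmn⟩ / y ⟨m, hmn⟩) • y ∈ Y := by
    have hz : ∀ j : Fin n, m ≤ j.val → (x - (x ⟨m, hmn⟩ / y ⟨m, hmn⟩) • y) j = 0 := by
      intro j hj
      rcases Nat.eq_or_lt_of_le hj with h | h
      · rw [show j = ⟨m, hmn⟩ from Fin.ext h.symm, Pi.sub_apply, Pi.smul_apply, smul_eq_mul, div_mul_cancel₀ _ hym,
          sub_self]
      · rw [Pi.sub_apply, Pi.smul_apply, hx j h, hspec hy j h, smul_zero, sub_zero]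
    rw [pi_eq_sum_univ' (x - (x ⟨m, hmn⟩ / y ⟨m, hmn⟩) • y)]
    refine Submodule.sum_mem _ fun j _ => ?_
    by_cases hj : j.val < m
    · exact Submodule.smul_mem _ _ (hlow j hj)
    · rw [hz j (by omega), zero_smul]; exact zero_mem _
  simpa using Y.add_mem hsplit (Y.smul_mem (x ⟨m, hmn⟩ / y ⟨m, hmn⟩) hy)

variable [Fintype F] {p : ℕ} [hp : Fact p.Prime] [CharP F p]

theorem U_isPGroup (hn : 1 ≤ n) : IsPGroup p ↥(U : Subgroup SL) := by
  rintro ⟨g, hg⟩
  refine ⟨n, Subtype.ext (ext_act fun x => ?_)⟩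
  haveI : Nonempty (Fin n) := ⟨⟨0, hn⟩⟩
  haveI : CharP (Matrix (Fin n) (Fin n) F) p := inferInstance
  set N : Matrix (Fin n) (Fin n) F := (g : Matrix (Fin n) (Fin n) F) - 1 with hN
  have hdown : ∀ j : ℕ, ∀ x : Fin n → F, (N ^ j) *ᵥ x ∈ X (F := F) (n - j) := by
    intro j
    induction j with
    | zero => intro x k hk; exact absurd k.isLt (by omega)
    | succ j ih =>
      intro x
      rw [pow_succ', ← mulVec_mulVec]
      by_cases hj : n - j = 0
      · have h0 : (N ^ j) *ᵥ x = 0 := funext fun k => ih x k (by omega)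
        rw [h0, mulVec_zero]
        exact zero_mem _
      · have h1 := (hg (n - (j + 1)) ((N ^ j) *ᵥ x) (by rw [show n - (j + 1) + 1 = n - j by omega]; exact ih x)).1
        rw [hN, sub_mulVec, one_mulVec]
        exact h1
  have hz : N ^ p ^ n = 0 := by
    refine Matrix.ext_iff_mulVec.mpr fun x => ?_
    rw [zero_mulVec, show p ^ n = n + (p ^ n - n) by have := Nat.lt_pow_self (n := n) hp.out.one_lt; omega, pow_add,
      ← mulVec_mulVec]
    exact funext fun k => hdown n _ k (by omega)
  show act (((⟨g, hg⟩ : ↥(U : Subgroup SL)) ^ p ^ n : ↥(U : Subgroup SL)) : SL) x = act 1 x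
  rw [act_one, Subgroup.coe_pow, act, Matrix.SpecialLinearGroup.coe_pow]
  have h2 : (g : Matrix (Fin n) (Fin n) F) ^ p ^ n - 1 = 0 := by
    rw [← hz, hN, sub_pow_char_pow_of_commute p n (Commute.one_right _), one_pow]
  rw [sub_eq_zero.1 h2, one_mulVec]

theorem stX_conj {g : SL} (hg : ∀ i, g ∈ stX (F := F) (n := n) i) {u : SL} (hu : u ∈ (U : Subgroup SL)) :
    g * u * g⁻¹ ∈ (U : Subgroup SL) := by
  intro i x hx
  have h1 := (hg (i + 1)).2 x hx
  refine ⟨?_, ?_⟩
  · have h2 := (hg i).1 _ (hu i _ h1).1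
    rw [act_sub, act_inv'] at h2
    rwa [act_mul, act_mul]
  · have h2 := (hg i).1 _ (hu i _ h1).2
    rw [act_sub, act_inv'] at h2
    rwa [show (g * u * g⁻¹)⁻¹ = g * u⁻¹ * g⁻¹ by group, act_mul, act_mul]

theorem U_max (hn : 1 ≤ n) {R : Subgroup SL} (hR : IsPGroup p ↥R) (hle : (U : Subgroup SL) ≤ R) :
    R ≤ (U : Subgroup SL) := by
  haveI : Finite SL := Subtype.finite
  by_contra hne
  haveI : Group.IsNilpotent R := hR.isNilpotent
  have hlt : (U : Subgroup SL).subgroupOf R < ⊤ :=
    lt_top_iff_ne_top.2 fun h => hne (Subgroup.subgroupOf_eq_top.1 h)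
  obtain ⟨y, hy, hyU⟩ := SetLike.exists_of_lt (Group.normalizerCondition_of_isNilpotent _ hlt)
  have hyn : ∀ u ∈ (U : Subgroup SL), (y : SL)⁻¹ * u * y ∈ (U : Subgroup SL) := fun u hu => by
    have := (Subgroup.mem_normalizer_iff.1 (inv_mem hy) ⟨u, hle hu⟩).1 (Subgroup.mem_subgroupOf.2 hu)
    simpa [Subgroup.mem_subgroupOf] using this
  let L : (Fin n → F) →ₗ[F] (Fin n → F) :=
    { toFun := act (y : SL), map_add' := act_add _, map_smul' := act_smul _ }
  have hLinj : Function.Injective L := fun a b h => by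
    have := congrArg (act (y : SL)⁻¹) (show act (y : SL) a = act (y : SL) b from h)
    rwa [act_inv, act_inv] at this
  have hflag : ∀ i, (y : SL) ∈ stX (F := F) (n := n) i := by
    intro i
    obtain ⟨k, -, hk⟩ := invariant_eq (Y := (X (F := F) i).map L) fun u hu z hz => by
      obtain ⟨w, hw, rfl⟩ := hz
      refine ⟨_, (U_le_stX i (hyn u hu)).1 w hw, ?_⟩
      show act (y : SL) (act ((y : SL)⁻¹ * u * y) w) = act u (act (y : SL) w)
      rw [← act_mul, ← act_mul]
      congr 1
      group
    have hdim : Module.finrank F ↥((X (F := F) (n := n) i).map L) = Module.finrank F ↥(X (F := F) (n := n) i) :=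
      (Submodule.equivMapOfInjective L hLinj _).finrank_eq.symm
    have heq : (X (F := F) (n := n) i).map L = X i := by
      rcases le_total i k with h | h
      · exact hk ▸ (Submodule.eq_of_le_of_finrank_le (X_mono h) (by rw [← hk, hdim])).symm
      · exact hk ▸ Submodule.eq_of_le_of_finrank_le (X_mono h) (by rw [← hk, hdim])
    refine ⟨fun x hx => heq.le (Submodule.mem_map_of_mem hx), fun x hx => ?_⟩
    obtain ⟨w, hw, hwe⟩ := heq.ge hx
    rw [← hwe]
    show act (y : SL)⁻¹ (act (y : SL) w) ∈ _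
    rwa [act_inv]
  refine hyU (Subgroup.mem_subgroupOf.2 ?_)
  have key : ∀ g : SL, (∀ i, g ∈ stX (F := F) (n := n) i) → (∃ k : ℕ, g ^ p ^ k = 1) →
      ∀ i, ∀ x ∈ X (F := F) (i + 1), act g x - x ∈ X (F := F) i := by
    intro g hg ⟨k, hk⟩ i x hx
    by_cases hin : n ≤ i
    · exact fun j hj => absurd j.isLt (by omega)
    set e : Fin n := ⟨i, by omega⟩
    set c := act g (Pi.single e 1) e with hc
    have hge : ∀ z ∈ X (F := F) (n := n) (i + 1), act g z - c • z ∈ X (F := F) i := fun z hz => by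
      have hz' : z - z e • Pi.single e 1 ∈ X (F := F) i := fun j hj => by
        rcases Nat.eq_or_lt_of_le hj with h | h
        · rw [show j = e from Fin.ext h.symm]; simp
        · have hje : j ≠ e := fun he => by rw [he] at h; exact lt_irrefl _ h
          simp [hz j h, hje]
      have h1 := (hg i).1 _ hz'
      rw [act_sub, act_smul] at h1
      have h2 : act g (Pi.single e 1) - c • Pi.single e 1 ∈ X (F := F) i := fun j hj => by
        rcases Nat.eq_or_lt_of_le hj with h | h
        · rw [show j = e from Fin.ext h.symm]; simp [hc]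
        · have hje : j ≠ e := fun he => by rw [he] at h; exact lt_irrefl _ h
          simp [(hg (i + 1)).1 _ (single_mem (i := i + 1) (j := e) (Nat.lt_succ_self i) 1) j h, hje]
      have h3 := Submodule.add_mem _ (Submodule.sub_mem _ h1 (Submodule.smul_mem _ c hz'))
        (Submodule.smul_mem _ (z e) h2)
      convert h3 using 1
      module
    have hpow : ∀ m : ℕ, ∀ z ∈ X (F := F) (n := n) (i + 1), act (g ^ m) z - c ^ m • z ∈ X (F := F) i := by
      intro m
      induction m with
      | zero => intro z _; simp [act_one]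
      | succ m ih =>
        intro z hz
        have h1 := Submodule.add_mem _ (hge _ ((pow_mem (hg (i + 1)) m).1 z hz)) (Submodule.smul_mem _ c (ih z hz))
        rw [pow_succ', act_mul, pow_succ', mul_smul]
        convert h1 using 1
        module
    have h1 := hpow (p ^ k) (Pi.single e 1) (single_mem (Nat.lt_succ_self i) 1) e le_rfl
    rw [hk, act_one] at h1
    have h2 : c ^ p ^ k = 1 := by
      simp only [Pi.sub_apply, Pi.smul_apply, Pi.single_eq_same, smul_eq_mul, mul_one, sub_eq_zero] at h1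
      exact h1.symm
    have hc1 : c = 1 := iterateFrobenius_inj F p k
      (by simp only [iterateFrobenius_def, one_pow, h2] : iterateFrobenius F p k c = iterateFrobenius F p k 1)
    have := hge x hx
    rwa [hc1, one_smul] at this
  obtain ⟨k, hk⟩ := hR y
  have hk' : (y : SL) ^ p ^ k = 1 := congrArg Subtype.val hk
  exact fun i x hx => ⟨key _ hflag ⟨k, hk'⟩ i x hx,
    key _ (fun i => inv_mem (hflag i)) ⟨k, by rw [inv_pow, hk', inv_one]⟩ i x hx⟩

theorem ker_stX {z : SL} (hz : (QuotientGroup.mk' (Subgroup.center SL)) z = 1) (i : ℕ) : z ∈ stX (F := F) (n := n) i := by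
  have key : ∀ z : SL, z ∈ Subgroup.center SL → ∀ x ∈ X (F := F) (n := n) i, act z x ∈ X (F := F) i := by
    intro z hz x hx
    obtain ⟨r, -, hr⟩ := Matrix.SpecialLinearGroup.mem_center_iff.1 hz
    have : act z x = r • x := by
      show (z : Matrix (Fin n) (Fin n) F) *ᵥ x = _
      rw [← hr]
      simp [← Matrix.smul_one_eq_diagonal, smul_mulVec]
    rw [this]; exact Submodule.smul_mem _ _ hx
  have hc := (QuotientGroup.eq_one_iff z).1 hz
  exact ⟨key z hc, key z⁻¹ (inv_mem hc)⟩

theorem card_stX_ne (hn : 4 ≤ n) :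
    Nat.card ↥(stX (F := F) (n := n) 1) ≠ Nat.card ↥(stX (F := F) (n := n) 2) := by
  classical
  haveI : Finite SL := Subtype.finite
  set C := stX (F := F) (n := n) 1 ⊓ stX 2 with hC
  have hcard : ∀ P : Subgroup SL, C ≤ P → Nat.card ↥P = Nat.card ↥C * (C.subgroupOf P).index := fun P hP => by
    rw [← Subgroup.card_mul_index (C.subgroupOf P), Nat.card_congr (Subgroup.subgroupOfEquivOfLe hP).toEquiv]
  intro heq
  rw [hcard _ inf_le_left, hcard (stX 2) inf_le_right] at heq
  have heq' := Nat.eq_of_mul_eq_mul_left Nat.card_pos heq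
  let o0 : Fin n := ⟨0, by omega⟩
  let o1 : Fin n := ⟨1, by omega⟩
  let o2 : Fin n := ⟨2, by omega⟩
  let o3 : Fin n := ⟨3, by omega⟩
  -- at most `q + 1` points on the line
  have hup : (C.subgroupOf (stX (F := F) (n := n) 2)).index ≤ Nat.card F + 1 := by
    let φ : ↥(stX (F := F) (n := n) 2) → Option F := fun g =>
      if act (g : SL) (Pi.single o0 1) o1 = 0 then none
      else some (act (g : SL) (Pi.single o0 1) o0 / act (g : SL) (Pi.single o0 1) o1)
    rw [Subgroup.index, ← Finite.card_option]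
    refine Nat.card_le_card_of_injective (fun c => φ c.out) fun a b hab => ?_
    have key : ∀ g h : ↥(stX (F := F) (n := n) 2), φ g = φ h → ∃ l : F,
        act (g : SL) (Pi.single o0 1) = l • act (h : SL) (Pi.single o0 1) := by
      intro g h hgh
      have hm : ∀ g : ↥(stX (F := F) (n := n) 2), ∀ j : Fin n, 2 ≤ j.val → act (g : SL) (Pi.single o0 1) j = 0 :=
        fun g => g.2.1 _ (single_mem (show o0.val < 2 by norm_num [o0]) 1)
      set u := act (g : SL) (Pi.single o0 1) with hu
      set v := act (h : SL) (Pi.single o0 1) with hv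
      simp only [φ, ← hu, ← hv] at hgh
      have hext : ∀ l : F, u o0 = l * v o0 → u o1 = l * v o1 → u = l • v := fun l h0 h1 => funext fun j => by
        rcases Nat.lt_or_ge j.val 2 with hj | hj
        · rcases Nat.lt_or_ge j.val 1 with hj' | hj'
          · rw [show j = o0 from Fin.ext (show j.val = 0 by omega)]; exact h0
          · rw [show j = o1 from Fin.ext (show j.val = 1 by omega)]; exact h1
        · rw [Pi.smul_apply, show u j = 0 from hm g j hj, show v j = 0 from hm h j hj, smul_zero]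
      by_cases hu1 : u o1 = 0
      · rw [if_pos hu1] at hgh
        have hv1 : v o1 = 0 := by by_contra hne; rw [if_neg hne] at hgh; exact absurd hgh (by simp)
        have hv0 : v o0 ≠ 0 := fun h0 => by
          have hzero : v = 0 := funext fun j => by
            rcases Nat.lt_or_ge j.val 2 with hj | hj
            · rcases Nat.lt_or_ge j.val 1 with hj' | hj'
              · rw [show j = o0 from Fin.ext (show j.val = 0 by omega)]; exact h0
              · rw [show j = o1 from Fin.ext (show j.val = 1 by omega)]; exact hv1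
            · exact hm h j hj
          have := congrArg (act (h : SL)⁻¹) hzero
          rw [hv, act_inv, show act (h : SL)⁻¹ (0 : Fin n → F) = 0 from mulVec_zero _] at this
          simpa using congrFun this o0
        exact ⟨u o0 / v o0, hext _ (by rw [div_mul_cancel₀ _ hv0]) (by rw [hu1, hv1, mul_zero])⟩
      · rw [if_neg hu1] at hgh
        have hv1 : v o1 ≠ 0 := fun hne => by rw [if_pos hne] at hgh; exact absurd hgh (by simp)
        rw [if_neg hv1, Option.some_inj, div_eq_div_iff hu1 hv1] at hgh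
        exact ⟨u o1 / v o1, hext _ (by field_simp; linear_combination hgh) (by rw [div_mul_cancel₀ _ hv1])⟩
    obtain ⟨l, hl⟩ := key _ _ hab
    obtain ⟨l', hl'⟩ := key _ _ hab.symm
    rw [← a.out_eq, ← b.out_eq]
    refine QuotientGroup.eq.2 (Subgroup.mem_subgroupOf.2 ⟨⟨fun x hx => ?_, fun x hx => ?_⟩,
      (stX 2).mul_mem ((stX 2).inv_mem a.out.2) b.out.2⟩)
    · have hx' : x = x o0 • Pi.single o0 1 := funext fun j => by
        rcases Nat.eq_zero_or_pos j.val with hj | hj
        · rw [show j = o0 from Fin.ext hj]; simp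
        · have hje : j ≠ o0 := fun he => by rw [he] at hj; exact lt_irrefl _ hj
          simp [hx j hj, hje]
      rw [hx', Subgroup.coe_mul, Subgroup.coe_inv, act_mul, act_smul, hl', act_smul, act_smul, act_inv]
      exact Submodule.smul_mem _ _ (Submodule.smul_mem _ _ (single_mem (show o0.val < 1 by norm_num [o0]) 1))
    · have hx' : x = x o0 • Pi.single o0 1 := funext fun j => by
        rcases Nat.eq_zero_or_pos j.val with hj | hj
        · rw [show j = o0 from Fin.ext hj]; simp
        · have hje : j ≠ o0 := fun he => by rw [he] at hj; exact lt_irrefl _ hj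
          simp [hx j hj, hje]
      rw [hx', Subgroup.coe_mul, Subgroup.coe_inv, _root_.mul_inv_rev, inv_inv, act_mul, act_smul, hl, act_smul, act_smul,
        act_inv]
      exact Submodule.smul_mem _ _ (Submodule.smul_mem _ _ (single_mem (show o0.val < 1 by norm_num [o0]) 1))
  -- at least `q²` lines through the point
  have hlow : Nat.card F * Nat.card F ≤ (C.subgroupOf (stX (F := F) (n := n) 1)).index := by
    rw [← Nat.card_prod, Subgroup.index]
    have hφ : ∀ cd : F × F, (Pi.single o1 (1 : F) : Fin n → F) ⬝ᵥ (cd.1 • Pi.single o2 1 + cd.2 • Pi.single o3 1) = 0 :=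
      fun cd => by simp [single_dot, o1, o2, o3, Pi.single_apply, Fin.ext_iff]
    have hmem : ∀ cd : F × F, tv _ _ (hφ cd) ∈ stX (F := F) (n := n) 1 := fun cd => tv_mem_stX _ fun x hx =>
      Or.inl (by rw [single_dot]; exact hx o1 le_rfl)
    refine Nat.card_le_card_of_injective (fun cd => QuotientGroup.mk ⟨_, hmem cd⟩) fun a b hab => ?_
    have h1 := Subgroup.mem_subgroupOf.1 (QuotientGroup.eq.1 hab)
    have h2 := (Subgroup.mem_inf.1 h1).2.1 _ (single_mem (show o1.val < 2 by norm_num [o1]) 1)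
    rw [Subgroup.coe_mul, Subgroup.coe_inv, act_mul, tv_act, tv_inv_act] at h2
    have h3 := h2 o2 (show 2 ≤ o2.val by norm_num [o2])
    have h4 := h2 o3 (show 2 ≤ o3.val by norm_num [o3])
    simp [single_dot, o1, o2, o3, Pi.single_apply, Fin.ext_iff] at h3 h4
    exact Prod.ext (by linear_combination -h3) (by linear_combination -h4)
  rw [heq'] at hlow
  have hq : 2 ≤ Nat.card F := Finite.one_lt_card
  have h5 := hlow.trans hup
  nlinarith

theorem ans_psl {r x : Prop} (hn : 2 ≤ n) (h2 : n = 2 → 4 ≤ Fintype.card F) (hr : n = 2 → r)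
    (hx : n = 3 → p = 2 → x) : Ans p (ProjectiveSpecialLinearGroup (Fin n) F) r x := by
  classical
  have := Cfsg.Agent.PSLSimple.isSimpleGroup_PSL_fin' (F := F) hn
    fun h => by rw [Nat.card_eq_fintype_card]; exact h2 h
  haveI : Finite SL := Subtype.finite
  haveI : Finite (ProjectiveSpecialLinearGroup (Fin n) F) := Quotient.finite _
  set π := QuotientGroup.mk' (Subgroup.center SL) with hπdef
  have hπ : Function.Surjective π := QuotientGroup.mk'_surjective _
  let P0 : Sylow p SL :=
    ⟨U, U_isPGroup (by omega), fun {R} hR hle => le_antisymm (U_max (by omega) hR hle) hle⟩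
  set P := P0.mapSurjective hπ with hP
  have hPU : (P : Subgroup (ProjectiveSpecialLinearGroup (Fin n) F)) = (U : Subgroup SL).map π := rfl
  let ι := {i : Fin n // 0 < i.val}
  let St : ι → Subgroup (ProjectiveSpecialLinearGroup (Fin n) F) := fun i => (stX i.1.val).map π
  have hmem : ∀ (i : ℕ) (g : SL), π g ∈ (stX (F := F) (n := n) i).map π ↔ g ∈ stX i := fun i g => by
    refine ⟨fun ⟨s, hs, he⟩ => ?_, fun h => ⟨g, h, rfl⟩⟩
    have h1 : π (s⁻¹ * g) = 1 := by rw [map_mul, map_inv, he, inv_mul_cancel]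
    have := mul_mem hs (ker_stX h1 i)
    rwa [mul_inv_cancel_left] at this
  have hnorm : ∀ g : SL, (∀ i : ι, g ∈ stX i.1.val) → g ∈ Subgroup.normalizer ((U : Subgroup SL) : Set SL) := by
    intro g hg
    have hall : ∀ i, g ∈ stX (F := F) (n := n) i := by
      intro i
      by_cases h : 0 < i ∧ i < n
      · exact hg ⟨⟨i, h.2⟩, h.1⟩
      · rcases Nat.eq_zero_or_pos i with rfl | hi
        · have : ∀ (h : SL) (x : Fin n → F), x ∈ X (F := F) 0 → act h x ∈ X (F := F) 0 := fun h x hx => by
            rw [show x = 0 from funext fun j => hx j (Nat.zero_le _),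
              show act h (0 : Fin n → F) = 0 from mulVec_zero _]
            exact zero_mem _
          exact ⟨this g, this g⁻¹⟩
        · exact ⟨fun x _ j hj => absurd j.isLt (by omega), fun x _ j hj => absurd j.isLt (by omega)⟩
    refine Subgroup.mem_normalizer_iff.2 fun u => ⟨fun hu => stX_conj hall hu, fun hu => ?_⟩
    have := stX_conj (fun i => inv_mem (hall i)) hu
    simpa [mul_assoc] using this
  have Fr : Frame (P : Subgroup (ProjectiveSpecialLinearGroup (Fin n) F)) St := by
    refine ⟨fun i => hPU ▸ Subgroup.map_mono (U_le_stX _), fun T hUT hT => ?_, fun i => ?_⟩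
    · rw [hPU] at hUT
      have hidx : ¬ p ∣ T.index := fun hd => P.not_dvd_index (hd.trans (Subgroup.index_dvd_of_le (hPU ▸ hUT)))
      obtain ⟨R, hR, hRn, hR0⟩ : ∃ R : Subgroup (ProjectiveSpecialLinearGroup (Fin n) F), IsPGroup p ↥R ∧
          (∀ m ∈ T, ∀ x ∈ R, m * x * m⁻¹ ∈ R) ∧ R ≠ ⊥ := by
        by_contra hno
        push Not at hno
        exact hT (good_psl hn T (fun R h1 h2 => hno R h1 h2) hidx)
      have hRU : R ≤ (U : Subgroup SL).map π := by
        have h1 : IsPGroup p ↥(R ⊔ (P : Subgroup (ProjectiveSpecialLinearGroup (Fin n) F)) : Subgroup _) :=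
          hR.to_sup_of_normal_left' P.2 (PFree87.mem_normalizer_of_conj fun m hm => hRn m (hUT (hPU ▸ hm)))
        exact hPU ▸ (le_sup_left.trans (P.3 h1 le_sup_right).le)
      set R' := (U : Subgroup SL) ⊓ R.comap π with hR'
      have hconj : ∀ g : SL, π g ∈ T → ∀ x ∈ R', g * x * g⁻¹ ∈ R' := by
        intro g hg x hx
        have hxR : π (g * x * g⁻¹) ∈ R := by rw [map_mul, map_mul, map_inv]; exact hRn _ hg _ hx.2
        refine Subgroup.mem_inf.2 ⟨?_, hxR⟩
        obtain ⟨u, hu, hue⟩ := hRU hxR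
        have hn' : g * x * g⁻¹ ∈ Subgroup.normalizer ((U : Subgroup SL) : Set SL) := by
          have h1 : π (u⁻¹ * (g * x * g⁻¹)) = 1 := by rw [map_mul, map_inv, hue, inv_mul_cancel]
          have := mul_mem (Subgroup.le_normalizer hu) (hnorm _ fun i => ker_stX h1 _)
          rwa [mul_inv_cancel_left] at this
        have hz : IsPGroup p ↥(Subgroup.zpowers (g * x * g⁻¹)) :=
          ((U_isPGroup (F := F) (n := n) (p := p) (by omega)).map (MulAut.conj g).toMonoidHom).to_le
            (Subgroup.zpowers_le.2 ⟨x, hx.1, rfl⟩)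
        exact U_max (by omega) ((U_isPGroup (F := F) (n := n) (p := p) (by omega)).to_sup_of_normal_left' hz
          (Subgroup.zpowers_le.2 hn')) le_sup_left (Subgroup.mem_sup_right (Subgroup.mem_zpowers _))
      let Y : Submodule F (Fin n → F) :=
        { carrier := {v | ∀ r ∈ R', act r v = v}
          zero_mem' := fun r _ => mulVec_zero _
          add_mem' := fun {a b} ha hb r hr => by rw [act_add, ha r hr, hb r hr]
          smul_mem' := fun c a ha r hr => by rw [act_smul, ha r hr] }
      have hYinv : ∀ g : SL, π g ∈ T → ∀ v ∈ Y, act g v ∈ Y := by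
        intro g hg v hv r hr
        have h1 := hv _ (hconj g⁻¹ (by rw [map_inv]; exact inv_mem hg) r hr)
        rw [inv_inv, act_mul, act_mul] at h1
        nth_rw 2 [← h1]
        rw [act_inv']
      obtain ⟨k, hk, hYk⟩ := invariant_eq (Y := Y) fun u hu => hYinv u (hUT (Subgroup.mem_map_of_mem π hu))
      have hk1 : 0 < k := by
        refine Nat.pos_of_ne_zero fun hk0 => ?_
        obtain ⟨v, hv, hv0⟩ : ∃ v ∈ Y, v ≠ 0 := by
          refine ⟨Pi.single ⟨0, by omega⟩ 1, fun r hr => ?_, fun h => by simpa using congrFun h ⟨0, by omega⟩⟩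
          have h1 := (hr.1 0 (Pi.single ⟨0, by omega⟩ 1) (single_mem Nat.one_pos 1)).1
          exact sub_eq_zero.1 (funext fun j => h1 j (Nat.zero_le _))
        rw [hYk, hk0] at hv
        exact hv0 (funext fun j => hv j (Nat.zero_le _))
      have hk2 : k < n := by
        refine lt_of_le_of_ne hk fun hkn => hR0 (eq_bot_iff.2 fun z hz => ?_)
        obtain ⟨u, hu, rfl⟩ := hRU hz
        have hu' : u ∈ R' := ⟨hu, hz⟩
        have : u = 1 := ext_act fun v => by
          rw [act_one]
          exact (hYk.ge (fun j hj => absurd j.isLt (by omega)) : v ∈ Y) u hu'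
        simp [this]
      refine ⟨⟨⟨k, hk2⟩, hk1⟩, fun t ht => ?_⟩
      obtain ⟨g, rfl⟩ := hπ t
      refine ⟨g, ⟨fun v hv => hYk.le (hYinv g ht v (hYk.ge hv)), fun v hv => hYk.le (hYinv g⁻¹ ?_ v (hYk.ge hv))⟩, rfl⟩
      rw [map_inv]; exact inv_mem ht
    · obtain ⟨⟨i, hi⟩, h0 : 0 < i⟩ := i
      have hne : (⟨i, hi⟩ : Fin n) ≠ ⟨i - 1, by omega⟩ := fun e => by
        have : i = i - 1 := congrArg Fin.val e
        omega
      refine ⟨π (tv _ _ (dot_single hne)), fun hc => ?_, fun j hj => ⟨_, tv_mem_stX _ fun x hx => ?_, rfl⟩⟩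
      · have h1 := ((hmem i _).1 hc).1 (Pi.single ⟨i - 1, by omega⟩ 1) (single_mem (show i - 1 < i by omega) 1)
        have h2 := h1 ⟨i, hi⟩ le_rfl
        rw [tv_act, single_dot, Pi.single_eq_same, one_smul, Pi.add_apply, Pi.single_eq_of_ne hne,
          Pi.single_eq_same, zero_add] at h2
        exact one_ne_zero h2
      · rw [single_dot]
        rcases Nat.lt_or_ge i j.1.val with h | h
        · exact Or.inr (single_mem h 1)
        · refine Or.inl (hx _ ?_)
          have hne' : j.1.val ≠ i := fun e => hj (Subtype.ext (Fin.ext e))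
          show j.1.val ≤ i - 1
          omega
  have hN : Subgroup.normalizer (((P : Subgroup (ProjectiveSpecialLinearGroup (Fin n) F)) :
      Set (ProjectiveSpecialLinearGroup (Fin n) F))) ≠ ⊤ := by
    intro htop
    let i0 : ι := ⟨⟨1, by omega⟩, Nat.one_pos⟩
    obtain ⟨y, hy, -⟩ := Fr.sep i0
    have hbot : (P : Subgroup (ProjectiveSpecialLinearGroup (Fin n) F)) ≠ ⊥ := fun h => by
      have hne : (⟨0, by omega⟩ : Fin n) ≠ ⟨1, by omega⟩ := by simp
      have h1 : π (tv _ _ (dot_single hne)) ∈ (P : Subgroup (ProjectiveSpecialLinearGroup (Fin n) F)) :=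
        hPU ▸ Subgroup.mem_map_of_mem π (tv_mem_U Nat.one_pos _)
      rw [h, Subgroup.mem_bot] at h1
      obtain ⟨r, -, hr⟩ := Matrix.SpecialLinearGroup.mem_center_iff.1 ((QuotientGroup.eq_one_iff _).1 h1)
      have h2 : act (tv _ _ (dot_single hne)) (Pi.single ⟨1, by omega⟩ 1) = r • (Pi.single ⟨1, by omega⟩ 1 : Fin n → F) := by
        show ((tv _ _ (dot_single hne) : SL) : Matrix (Fin n) (Fin n) F) *ᵥ _ = _
        rw [← hr]
        funext q
        simp [← Matrix.smul_one_eq_diagonal, Matrix.col, Matrix.one_apply, Pi.single_apply]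
        exact if_congr eq_comm rfl rfl
      have h3 := congrFun h2 ⟨0, by omega⟩
      simp [tv_act, Fin.ext_iff] at h3
    exact hy (Fr.le i0 (PFree87.top_of_normalizer hbot le_rfl htop ▸ Subgroup.mem_top y))
  refine Ans.of_one P ?_
  have hk : ∀ k : ProjectiveSpecialLinearGroup (Fin n) F, (∀ i : ι, k ∈ St i) →
      k ∈ Subgroup.normalizer ((P : Subgroup (ProjectiveSpecialLinearGroup (Fin n) F)) : Set _) := by
    intro k hk
    obtain ⟨g, rfl⟩ := hπ k
    have hg := hnorm g fun i => (hmem _ g).1 (hk i)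
    rw [hPU]
    refine PFree87.mem_normalizer_of_conj
      (M := (Subgroup.normalizer ((U : Subgroup SL) : Set SL)).map π) ?_ ⟨g, hg, rfl⟩
    rintro _ ⟨m, hm, rfl⟩ _ ⟨u, hu, rfl⟩
    exact ⟨m * u * m⁻¹, (Subgroup.mem_normalizer_iff.1 hm u).1 hu, by simp⟩
  by_cases hn2 : n = 2
  · refine crit_of_tight hN (hr hn2) fun T hT hTne k hkT => hk k fun i => ?_
    obtain ⟨j, hj⟩ := Fr.cover T hT hTne
    have hij : i = j := Subtype.ext (Fin.ext (by
      have := i.2; have := j.2; have := i.1.isLt; have := j.1.isLt; omega))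
    exact hij ▸ hj hkT
  by_cases hn3 : n = 3
  · refine crit_of_two Fr hN (i := ⟨⟨1, by omega⟩, Nat.one_pos⟩) (j := ⟨⟨2, by omega⟩, Nat.succ_pos 1⟩)
      (fun e => absurd (congrArg (fun z : ι => z.1.val) e) (by norm_num)) (fun k => ?_) (fun k hk' => hk k fun i => ?_) (hx hn3)
    · have := k.2; have := k.1.isLt
      rcases (by omega : k.1.val = 1 ∨ k.1.val = 2) with h | h
      · exact Or.inl (Subtype.ext (Fin.ext h))
      · exact Or.inr (Subtype.ext (Fin.ext h))
    · have := i.2; have := i.1.isLt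
      rcases (by omega : i.1.val = 1 ∨ i.1.val = 2) with h | h
      · rw [show i = ⟨⟨1, by omega⟩, Nat.one_pos⟩ from Subtype.ext (Fin.ext h)]; exact hk'.1
      · rw [show i = ⟨⟨2, by omega⟩, Nat.succ_pos 1⟩ from Subtype.ext (Fin.ext h)]; exact hk'.2
  refine crit_of_card Fr hN (i := ⟨⟨1, by omega⟩, Nat.one_pos⟩) (j := ⟨⟨2, by omega⟩, Nat.succ_pos 1⟩)
    fun hcard => card_stX_ne (F := F) (n := n) (by omega) ?_
  have hpull : ∀ i, Nat.card ↥(stX (F := F) (n := n) i) * ((stX (F := F) (n := n) i).map π).index = Nat.card SL :=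
    fun i => by
      have hle : π.ker ≤ stX (F := F) (n := n) i := fun g hg => ker_stX (MonoidHom.mem_ker.1 hg) i
      rw [Subgroup.index_map_eq _ hπ hle, Subgroup.card_mul_index]
  have h1 := hpull 1
  have h2 := hpull 2
  have hidx : ((stX (F := F) (n := n) 1).map π).index = ((stX (F := F) (n := n) 2).map π).index := by
    have e1 := Subgroup.card_mul_index ((stX (F := F) (n := n) 1).map π)
    have e2 := Subgroup.card_mul_index ((stX (F := F) (n := n) 2).map π)
    rw [show Nat.card ↥((stX (F := F) (n := n) 1).map π) = Nat.card ↥((stX (F := F) (n := n) 2).map π) from hcard,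
      ← e2] at e1
    exact Nat.eq_of_mul_eq_mul_left Nat.card_pos e1
  rw [hidx, ← h2] at h1
  exact Nat.eq_of_mul_eq_mul_right (Nat.pos_of_ne_zero Subgroup.index_ne_zero_of_finite) h1

end Cfsg.Agent.PMinLinear87
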