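import Cfsg.Agent.Lib.PMinFlag87
import Cfsg.Agent.Lib.PMinExc87

/-!
The criterion for a simple group acting on a polar space.
-/

set_option autoImplicit false
set_option linter.unusedSectionVars false

namespace Cfsg.Agent.PMinPolar87

open Cfsg.Agent.SteinbergPolar Cfsg.Agent.SteinbergLattice Cfsg.Agent.PMinFlag87 Cfsg.Agent.PMin87

open scoped Classical

variable {F V : Type*} [Field F] [AddCommGroup V] [Module F V] [Finite V] [Finite F] {G : Type*} [Group G] [Finite G]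
  {K : Type*} [Group K] [Finite K]

/-- the hypotheses on the cover of a simple group -/
structure Setting (Q : Geo F V) (ρ : G →* (V ≃ₗ[F] V)) (p : ℕ) (π : G →* K) : Prop where
  surj : Function.Surjective π
  inj : Function.Injective ρ
  scal : ∀ z, π z = 1 → ∀ v, Q.Φ v = 0 → ∃ c : F, ρ z v = c • v
  ok : Ok Q ρ p ⊤ ⊤
  good : PFree87.Good p K
  par : ∀ (g : G) (X : Submodule F V), Q.Sing X → (∀ c : F, Q.θ c = 0 → c = 0) →
    2 * Module.finrank F X = Module.finrank F V → Even (Module.finrank F ↥(X ⊓ img ρ g X) + Module.finrank F X)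

variable {Q : Geo F V} {ρ : G →* (V ≃ₗ[F] V)} {p : ℕ} {π : G →* K}

theorem ker_fix (hS : Setting Q ρ p π) {z : G} (hz : π z = 1) {X : Submodule F V} (hX : Q.Sing X) :
    img ρ z X = X :=
  img_eq_of_le ρ (fun x hx => by
    obtain ⟨c, hc⟩ := hS.scal z hz x (hX.1 x hx)
    rw [hc]; exact X.smul_mem c hx) le_rfl

theorem mem_map_stab (hS : Setting Q ρ p π) {X : Submodule F V} (hX : Q.Sing X) {g : G} :
    π g ∈ (stabSub ρ X).map π ↔ img ρ g X = X := by
  refine ⟨fun ⟨s, hs, he⟩ => ?_, fun h => ⟨g, h, rfl⟩⟩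
  have hz : π (g⁻¹ * s) = 1 := by rw [map_mul, map_inv, he, inv_mul_cancel]
  have h1 := ker_fix hS hz hX
  rw [img_mul, show img ρ s X = X from hs] at h1
  calc img ρ g X = img ρ g (img ρ g⁻¹ X) := by rw [h1]
    _ = X := by rw [← img_mul, mul_inv_cancel, img_one]

variable [CharP F p] [hp : Fact p.Prime] [IsSimpleGroup K]

/-- the frame of the fixed subspaces -/
theorem toFrame (hS : Setting Q ρ p π) {U : Subgroup G} {M : Finset (Submodule F V)}
    (D : Dat Q ρ p ⊤ ⊤ U M) (hne : ∃ u ∈ U, π u ≠ 1) (hM : M.Nonempty) :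
    ∃ P : Sylow p K, Frame (P : Subgroup K) (fun X : M => (stabSub ρ (X : Submodule F V)).map π) ∧
      Subgroup.normalizer ((P : Subgroup K) : Set K) ≠ ⊤ ∧
      ∀ k : K, (∀ X : M, k ∈ (stabSub ρ (X : Submodule F V)).map π) →
        k ∈ Subgroup.normalizer ((P : Subgroup K) : Set K) := by
  let P0 : Sylow p G := ⟨U, D.pg, fun {R} hR hle => le_antisymm (D.maxi R hle le_top hR) hle⟩
  set P := P0.mapSurjective hS.surj with hP
  have hPU : (P : Subgroup K) = U.map π := rfl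
  have hsing : ∀ X : M, Q.Sing (X : Submodule F V) := fun X => ((mem_Pts Q).1 (D.mem X X.2).1).2.1
  have hUg : ∀ g : G, (∀ X ∈ M, img ρ g X = X) → g ∈ Subgroup.normalizer (U : Set G) := by
    intro g hg
    refine Subgroup.mem_normalizer_iff.2 fun u => ⟨D.norm g trivial hg u, fun hu => ?_⟩
    have := D.norm g⁻¹ trivial (fun X hX => img_inv_of ρ g (hg X hX)) _ hu
    simpa [mul_assoc] using this
  have hker : ∀ z : G, π z = 1 → z ∈ Subgroup.normalizer (U : Set G) := fun z hz =>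
    hUg z fun X hX => ker_fix hS hz (hsing ⟨X, hX⟩)
  have hsep : ∀ X : M, ∃ y, y ∉ (stabSub ρ (X : Submodule F V)).map π ∧
      ∀ X' : M, X' ≠ X → y ∈ (stabSub ρ (X' : Submodule F V)).map π := fun X => by
    obtain ⟨h, -, hmv, hfix⟩ := D.sep X X.2
    exact ⟨π h, fun hh => hmv ((mem_map_stab hS (hsing X)).1 hh), fun X' hne' =>
      ⟨h, hfix X' X'.2 fun e => hne' (Subtype.ext e), rfl⟩⟩
  have hle : ∀ X : M, (P : Subgroup K) ≤ (stabSub ρ (X : Submodule F V)).map π := fun X => by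
    rw [hPU]; exact Subgroup.map_mono fun u hu => (D.mem X X.2).2 u hu
  refine ⟨P, ⟨hle, fun T hUT hT => ?_, hsep⟩, fun htop => ?_, fun k hk => ?_⟩
  · -- cover
    rw [hPU] at hUT
    have hidx : ¬ p ∣ T.index := fun hd => P.not_dvd_index (hd.trans (Subgroup.index_dvd_of_le (hPU ▸ hUT)))
    obtain ⟨R, hR, hRn, hR0⟩ : ∃ R : Subgroup K, IsPGroup p ↥R ∧ (∀ m ∈ T, ∀ x ∈ R, m * x * m⁻¹ ∈ R) ∧ R ≠ ⊥ := by
      by_contra hno
      push Not at hno
      exact hT (hS.good T (fun R h1 h2 => hno R h1 h2) hidx)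
    have hRU : R ≤ U.map π := by
      have h1 : IsPGroup p ↥(R ⊔ (P : Subgroup K) : Subgroup K) :=
        hR.to_sup_of_normal_left' P.2 (PFree87.mem_normalizer_of_conj fun m hm => hRn m (hUT (hPU ▸ hm)))
      exact hPU ▸ (le_sup_left.trans (P.3 h1 le_sup_right).le)
    set R' := U ⊓ R.comap π with hR'
    have hconj : ∀ g : G, π g ∈ T → ∀ x ∈ R', g * x * g⁻¹ ∈ R' := by
      intro g hg x hx
      have hxR : π (g * x * g⁻¹) ∈ R := by rw [map_mul, map_mul, map_inv]; exact hRn _ hg _ hx.2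
      refine Subgroup.mem_inf.2 ⟨?_, hxR⟩
      obtain ⟨u, hu, hue⟩ := hRU hxR
      have hn : g * x * g⁻¹ ∈ Subgroup.normalizer (U : Set G) := by
        have h1 : π (u⁻¹ * (g * x * g⁻¹)) = 1 := by rw [map_mul, map_inv, hue, inv_mul_cancel]
        have := mul_mem (Subgroup.le_normalizer hu) (hker _ h1)
        rwa [mul_inv_cancel_left] at this
      have hz : IsPGroup p ↥(Subgroup.zpowers (g * x * g⁻¹)) := by
        have : Subgroup.zpowers (g * x * g⁻¹) ≤ U.map (MulAut.conj g).toMonoidHom :=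
          Subgroup.zpowers_le.2 ⟨x, hx.1, rfl⟩
        exact (D.pg.map _).to_le this
      have h2 := D.maxi (U ⊔ Subgroup.zpowers (g * x * g⁻¹)) le_sup_left le_top
        (D.pg.to_sup_of_normal_left' hz (Subgroup.zpowers_le.2 hn))
      exact h2 (Subgroup.mem_sup_right (Subgroup.mem_zpowers _))
    have hR'1 : R' ≠ ⊥ := by
      intro h0
      refine hR0 (eq_bot_iff.2 fun x hx => ?_)
      obtain ⟨u, hu, rfl⟩ := hRU hx
      have : u ∈ R' := Subgroup.mem_inf.2 ⟨hu, hx⟩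
      rw [h0, Subgroup.mem_bot] at this
      simp [this]
    have hperp : ∀ (r : G) (a x : V), ρ r a = a → Q.B a (ρ r x - x) = 0 := by
      intro r a x ha
      rw [Q.sub_right]
      nth_rw 1 [← ha]
      rw [(hS.ok.pres r trivial).1, sub_self]
    let I : Submodule F V := Submodule.span F {v | ∃ r ∈ R', ∃ x, ρ r x - x = v}
    have hfixI : ∀ a, (∀ r ∈ R', ρ r a = a) → ∀ v ∈ I, Q.B a v = 0 := by
      intro a ha v hv
      induction hv using Submodule.span_induction with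
      | mem v hv => obtain ⟨r, hr, x, rfl⟩ := hv; exact hperp r a x (ha r hr)
      | zero => exact Q.zero_right a
      | add v w _ _ hv hw => rw [Q.add_right, hv, hw, add_zero]
      | smul c v _ hv => rw [Q.smul_right, hv, mul_zero]
    let X : Submodule F V :=
      { carrier := {v | Q.Φ v = 0 ∧ (∀ r ∈ R', ρ r v = v) ∧ v ∈ I}
        zero_mem' := ⟨Q.Φ_zero, fun r _ => map_zero _, I.zero_mem⟩
        add_mem' := by
          rintro a b ⟨has, ha, haI⟩ ⟨hbs, hb, hbI⟩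
          exact ⟨by rw [Q.Φ_add, has, hbs, hfixI a ha b hbI, map_zero]; ring,
            fun r hr => by rw [map_add, ha r hr, hb r hr], I.add_mem haI hbI⟩
        smul_mem' := by
          rintro c a ⟨has, ha, haI⟩
          exact ⟨Q.Φ_smul c a has, fun r hr => by rw [map_smul, ha r hr], I.smul_mem c haI⟩ }
    have hXs : Q.Sing X := ⟨fun v hv => hv.1, fun v hv w hw => hfixI v hv.2.1 w hw.2.2⟩
    have hXne : X ≠ ⊥ := by
      have hR'p : IsPGroup p ↥R' := D.pg.to_le inf_le_left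
      have : Nontrivial ↥R' := (Subgroup.nontrivial_iff_ne_bot _).2 hR'1
      have := hR'p.center_nontrivial
      obtain ⟨z, hz⟩ := exists_ne (1 : ↥(Subgroup.center ↥R'))
      set w : G := (z : ↥R').1 with hw
      have hzc : ∀ g ∈ R', g * w = w * g := fun g hg =>
        congrArg Subtype.val (Subgroup.mem_center_iff.1 z.2 ⟨g, hg⟩)
      let Sf : Submodule F V :=
        { carrier := {v | ρ w v = v ∧ (∃ x, ρ w x - x = v) ∧ Q.Φ v = 0}
          zero_mem' := ⟨map_zero _, ⟨0, by simp⟩, Q.Φ_zero⟩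
          add_mem' := by
            rintro a b ⟨ha, ⟨x, hx⟩, has⟩ ⟨hb, ⟨y, hy⟩, hbs⟩
            refine ⟨by rw [map_add, ha, hb], ⟨x + y, by rw [map_add, ← hx, ← hy]; abel⟩, ?_⟩
            rw [Q.Φ_add, has, hbs, ← hy, hperp w a y ha, map_zero]; ring
          smul_mem' := by
            rintro c a ⟨ha, ⟨x, hx⟩, has⟩
            exact ⟨by rw [map_smul, ha], ⟨c • x, by rw [map_smul, ← hx, smul_sub]⟩, Q.Φ_smul c a has⟩ }
      have hstab : ∀ g ∈ R', ∀ v ∈ Sf, ρ g v ∈ Sf := by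
        rintro g hg v ⟨hv, ⟨x, hx⟩, hvs⟩
        refine ⟨?_, ⟨ρ g x, ?_⟩, by rw [(hS.ok.pres g trivial).2]; exact hvs⟩
        · rw [← PFreePolar87.rho_mul, ← hzc g hg, PFreePolar87.rho_mul, hv]
        · rw [← PFreePolar87.rho_mul, ← hzc g hg, PFreePolar87.rho_mul, ← map_sub, hx]
      letI : MulAction ↥R' ↥Sf :=
        { smul := fun g v => ⟨ρ g.1 v.1, hstab g.1 g.2 v.1 v.2⟩
          one_smul := fun v => Subtype.ext (PFreePolar87.rho_one ρ _)
          mul_smul := fun g h v => Subtype.ext (PFreePolar87.rho_mul ρ _ _ _) }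
      have hSne : Sf ≠ ⊥ := by
        obtain ⟨k, hk⟩ := hR'p (z : ↥R')
        have hw1 : w ≠ 1 := fun h => hz (Subtype.ext (Subtype.ext h))
        obtain ⟨v, -, hv0, hvs, hv, x, -, hx⟩ := hS.ok.uni w trivial ⟨k, congrArg Subtype.val hk⟩ hw1
        exact (Submodule.ne_bot_iff _).2 ⟨v, ⟨hv, ⟨x, hx⟩, hvs⟩, hv0⟩
      have hdvd : p ∣ Nat.card ↥Sf := by
        have := Fintype.ofFinite F
        have : Module.Finite F V := Module.Finite.of_finite
        obtain ⟨n, -, hn⟩ := FiniteField.card F p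
        rw [Module.natCard_eq_pow_finrank (K := F), Nat.card_eq_fintype_card, hn, ← pow_mul]
        exact dvd_pow_self p (mul_ne_zero n.pos.ne' fun h => hSne (Submodule.finrank_eq_zero.1 h))
      have h0 : (0 : ↥Sf) ∈ MulAction.fixedPoints ↥R' ↥Sf := fun g => Subtype.ext (map_zero (ρ g.1))
      obtain ⟨b, hb, hb0⟩ := hR'p.exists_fixed_point_of_prime_dvd_card_of_fixed_point _ hdvd h0
      obtain ⟨hb1, ⟨x, hx⟩, hbs⟩ := b.2
      refine (Submodule.ne_bot_iff _).2 ⟨b.1, ⟨hbs, fun r hr => congrArg Subtype.val (hb ⟨r, hr⟩),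
        Submodule.subset_span ⟨w, (z : ↥R').2, x, hx⟩⟩, fun h => hb0 (Subtype.ext h.symm)⟩
    have hXinv : ∀ g : G, π g ∈ T → img ρ g X = X := by
      intro g hg
      have hg' : π g⁻¹ ∈ T := by rw [map_inv]; exact inv_mem hg
      refine img_eq_of_le ρ ?_ le_rfl
      rintro v ⟨hvs, hv, hvI⟩
      refine ⟨by rw [(hS.ok.pres g trivial).2, hvs], fun r hr => ?_, ?_⟩
      · have h1 := hv _ (hconj g⁻¹ hg' r hr)
        rw [inv_inv, PFreePolar87.rho_mul, PFreePolar87.rho_mul] at h1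
        nth_rw 2 [← h1]
        rw [PFreePolar87.rho_inv']
      · have hmap : I.map (ρ g).toLinearMap ≤ I := by
          rw [Submodule.map_span, Submodule.span_le]
          rintro _ ⟨v, ⟨r, hr, x, rfl⟩, rfl⟩
          refine Submodule.subset_span ⟨g * r * g⁻¹, hconj g hg r hr, ρ g x, ?_⟩
          show ρ (g * r * g⁻¹) (ρ g x) - ρ g x = ρ g (ρ r x - x)
          rw [PFreePolar87.rho_mul, PFreePolar87.rho_mul, PFreePolar87.rho_inv, map_sub]
        exact hmap (Submodule.mem_map_of_mem hvI)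
    have hInv : Inv Q ρ ⊤ U X :=
      ⟨(mem_Pts Q).2 ⟨hXne, hXs, le_top⟩, fun u hu => hXinv u (hUT (Subgroup.mem_map_of_mem π hu))⟩
    rcases D.cover X hInv with h1 | ⟨Z, hZ, hXZ, hr1, hr2, hθ⟩
    · refine ⟨⟨X, h1⟩, fun t ht => ?_⟩
      obtain ⟨g, rfl⟩ := hS.surj t
      exact ⟨g, hXinv g ht, rfl⟩
    · refine ⟨⟨Z, hZ⟩, fun t ht => ?_⟩
      obtain ⟨g, rfl⟩ := hS.surj t
      refine ⟨g, ?_, rfl⟩
      have : Module.Finite F V := Module.Finite.of_finite
      show img ρ g Z = Z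
      rw [finrank_top] at hr2
      have hev := hS.par g Z (hsing ⟨Z, hZ⟩) hθ hr2
      have h1 : X ≤ Z ⊓ img ρ g Z := le_inf hXZ ((hXinv g ht).ge.trans ((img ρ g).monotone hXZ))
      have h2 := Submodule.finrank_mono h1
      have h3 := Submodule.finrank_mono (inf_le_left : Z ⊓ img ρ g Z ≤ Z)
      rw [Nat.even_iff] at hev
      have h4 : Z ⊓ img ρ g Z = Z := Submodule.eq_of_le_of_finrank_le inf_le_left (by omega)
      exact (Submodule.eq_of_le_of_finrank_le (inf_eq_left.1 h4) (by rw [finrank_img])).symm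
  · -- not normal
    obtain ⟨X, hX⟩ := hM
    obtain ⟨y, hy, -⟩ := hsep ⟨X, hX⟩
    have hbot : (P : Subgroup K) ≠ ⊥ := fun h => by
      obtain ⟨u, hu, hu1⟩ := hne
      have : π u ∈ (P : Subgroup K) := hPU ▸ Subgroup.mem_map_of_mem π hu
      rw [h, Subgroup.mem_bot] at this
      exact hu1 this
    exact hy (hle ⟨X, hX⟩ (PFree87.top_of_normalizer hbot le_rfl htop ▸ Subgroup.mem_top y))
  · -- normalising
    obtain ⟨g, rfl⟩ := hS.surj k
    have hg := hUg g fun X hX => (mem_map_stab hS (hsing ⟨X, hX⟩)).1 (hk ⟨X, hX⟩)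
    rw [hPU]
    refine PFree87.mem_normalizer_of_conj (M := (Subgroup.normalizer (U : Set G)).map π) ?_ ⟨g, hg, rfl⟩
    rintro _ ⟨m, hm, rfl⟩ _ ⟨u, hu, rfl⟩
    exact ⟨m * u * m⁻¹, (Subgroup.mem_normalizer_iff.1 hm u).1 hu, by simp⟩

section Top

variable {e f : V}

theorem exists_moved (hS : Setting Q ρ p π) {W : Submodule F V} (hth : Thick Q (⊤ : Submodule F V))
    (hes : Q.Φ e = 0) (hfs : Q.Φ f = 0) (hfe : Q.B f e = 1) {U : Subgroup G}
    (hU : rd Q ρ ⊤ e ≤ U) : ∃ u ∈ U, π u ≠ 1 := by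
  by_contra hno
  push Not at hno
  have h1 := contains hS.ok hS.ok (e := e) (f := f) trivial trivial hes hfs hfe hth
    (Y := F ∙ f) ((mem_Pts Q).2 ⟨Submodule.span_singleton_eq_bot.not.2 (pair_facts hfe).2, Q.sing_span hfs, le_top⟩)
    fun r hr => ker_fix hS (hno r (hU hr)) (Q.sing_span hfs)
  exact not_mem_perp hfe ((Q.sing_span hfs).2 h1)

/-- rank one -/
theorem ans_one {r x : Prop} (hS : Setting Q ρ p π) (hr : r) (hth : Thick Q (⊤ : Submodule F V))
    (hes : Q.Φ e = 0) (hfs : Q.Φ f = 0) (hfe : Q.B f e = 1)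
    (hnone : ∀ v ∈ sub2 Q ⊤ e f, Q.Φ v = 0 → v = 0) : PMinExc87.Ans p K r x := by
  have hO2 : Ok Q ρ p (pst ρ ⊤ e f) (sub2 Q ⊤ e f) := hS.ok.descend trivial trivial hes hfs hfe
  obtain ⟨U2, M2, D2, hroot⟩ := exists_dat hS.ok hS.inj _ rfl hO2 fun v hv hvs hv0 => absurd (hnone v hv hvs) hv0
  obtain ⟨D, -⟩ := step hS.ok hS.inj hS.ok trivial trivial hes hfs hfe hth D2 hroot
  have hM2 : M2 = ∅ := Finset.eq_empty_of_forall_notMem fun Z hZ => by
    obtain ⟨hZ0, hZs, hZW⟩ := (mem_Pts Q).1 (D2.mem Z hZ).1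
    exact hZ0 (eq_bot_iff.2 fun v hv => (Submodule.mem_bot F).2 (hnone v (hZW hv) (hZs.1 v hv)))
  obtain ⟨P, Fr, hN, hnorm⟩ := toFrame hS D (exists_moved hS (W := ⊤) hth hes hfs hfe le_sup_left)
    ⟨_, Finset.mem_insert_self _ _⟩
  refine PMinExc87.Ans.of_one P (crit_of_tight hN hr fun T hT hTne k hk => hnorm k fun X => ?_)
  obtain ⟨Y, hY⟩ := Fr.cover T hT hTne
  have hXY : X = Y := by
    have hone : ∀ Z : ↥(insert (F ∙ e) (M2.image fun Z => (F ∙ e) ⊔ Z)), (Z : Submodule F V) = F ∙ e := fun Z => by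
      have := Z.2
      simpa [hM2] using this
    exact Subtype.ext ((hone X).trans (hone Y).symm)
  exact hXY ▸ hY hk

variable {z w : V}

/-- the first two members -/
theorem two_steps (hS : Setting Q ρ p π) (hes : Q.Φ e = 0) (hfs : Q.Φ f = 0) (hfe : Q.B f e = 1)
    (hth : Thick Q (⊤ : Submodule F V)) (hz : z ∈ sub2 Q ⊤ e f) (hw : w ∈ sub2 Q ⊤ e f) (hzs : Q.Φ z = 0)
    (hws : Q.Φ w = 0) (hwz : Q.B w z = 1) (hth2 : Thick Q (sub2 Q ⊤ e f))
    (hNT : NT Q (sub2 Q (sub2 Q ⊤ e f) z w)) :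
    ∃ U M, Dat Q ρ p ⊤ ⊤ U M ∧ rd Q ρ ⊤ e ≤ U ∧ F ∙ e ∈ M ∧ (F ∙ e) ⊔ (F ∙ z) ∈ M ∧
      ((∀ v ∈ sub2 Q (sub2 Q ⊤ e f) z w, Q.Φ v = 0 → v = 0) → M = {F ∙ e, (F ∙ e) ⊔ (F ∙ z)}) := by
  have hO2 : Ok Q ρ p (pst ρ ⊤ e f) (sub2 Q ⊤ e f) := hS.ok.descend trivial trivial hes hfs hfe
  have hO3 : Ok Q ρ p (pst ρ (pst ρ ⊤ e f) z w) (sub2 Q (sub2 Q ⊤ e f) z w) := hO2.descend hz hw hzs hws hwz
  obtain ⟨U3, M3, D3, hroot3⟩ := exists_dat hS.ok hS.inj _ rfl hO3 hNT
  obtain ⟨D2, h2⟩ := step hS.ok hS.inj hO2 hz hw hzs hws hwz hth2 D3 hroot3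
  obtain ⟨D1, -⟩ := step hS.ok hS.inj hS.ok trivial trivial hes hfs hfe hth D2
    (Or.inr ⟨z, hz, (pair_facts hwz).1, hzs, h2⟩)
  refine ⟨_, _, D1, le_sup_left, Finset.mem_insert_self _ _,
    Finset.mem_insert.2 (Or.inr (Finset.mem_image.2 ⟨_, Finset.mem_insert_self _ _, rfl⟩)), fun hnone => ?_⟩
  have hM3 : M3 = ∅ := Finset.eq_empty_of_forall_notMem fun Z hZ => by
    obtain ⟨hZ0, hZs, hZW⟩ := (mem_Pts Q).1 (D3.mem Z hZ).1
    exact hZ0 (eq_bot_iff.2 fun v hv => (Submodule.mem_bot F).2 (hnone v (hZW hv) (hZs.1 v hv)))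
  simp [hM3]

theorem ne_line (hzf : z ∈ sub2 Q ⊤ e f) (hfe : Q.B f e = 1) (hz0 : z ≠ 0) :
    (F ∙ e) ≠ (F ∙ e) ⊔ (F ∙ z) := fun h => by
  have h1 := congrArg (fun Y : Submodule F V => Module.finrank F Y) h
  simp only [finrank_line_sup hfe ((Submodule.span_singleton_le_iff_mem _ _).2 hzf.2),
    finrank_span_singleton hz0, finrank_span_singleton (pair_facts hfe).1] at h1
  omega

/-- two members -/
theorem ans_two {r x : Prop} (hS : Setting Q ρ p π) (hes : Q.Φ e = 0) (hfs : Q.Φ f = 0) (hfe : Q.B f e = 1)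
    (hth : Thick Q (⊤ : Submodule F V)) (hz : z ∈ sub2 Q ⊤ e f) (hw : w ∈ sub2 Q ⊤ e f) (hzs : Q.Φ z = 0)
    (hws : Q.Φ w = 0) (hwz : Q.B w z = 1) (hth2 : Thick Q (sub2 Q ⊤ e f))
    (hnone : ∀ v ∈ sub2 Q (sub2 Q ⊤ e f) z w, Q.Φ v = 0 → v = 0) (hx : p = 2 → x) : PMinExc87.Ans p K r x := by
  obtain ⟨U, M, D, hU, he', hl', hM⟩ := two_steps hS hes hfs hfe hth hz hw hzs hws hwz hth2
    fun v hv hvs hv0 => absurd (hnone v hv hvs) hv0
  obtain ⟨P, Fr, hN, hnorm⟩ := toFrame hS D (exists_moved hS (W := ⊤) hth hes hfs hfe hU) ⟨_, he'⟩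
  have hall : ∀ X : M, X = ⟨_, he'⟩ ∨ X = ⟨_, hl'⟩ := fun X => by
    have := (hM hnone).le X.2
    rw [Finset.mem_insert, Finset.mem_singleton] at this
    exact this.imp Subtype.ext Subtype.ext
  refine PMinExc87.Ans.of_one P (crit_of_two Fr hN (i := ⟨_, he'⟩) (j := ⟨_, hl'⟩)
    (fun h => ne_line hz hfe (pair_facts hwz).1 (congrArg Subtype.val h)) hall (fun k hk => hnorm k fun X => ?_) hx)
  rcases hall X with rfl | rfl
  exacts [hk.1, hk.2]

/-- the count -/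
theorem ans_count {r x : Prop} (hS : Setting Q ρ p π) (hes : Q.Φ e = 0) (hfs : Q.Φ f = 0) (hfe : Q.B f e = 1)
    (hth : Thick Q (⊤ : Submodule F V)) (hz : z ∈ sub2 Q ⊤ e f) (hw : w ∈ sub2 Q ⊤ e f) (hzs : Q.Φ z = 0)
    (hws : Q.Φ w = 0) (hwz : Q.B w z = 1) (hth2 : Thick Q (sub2 Q ⊤ e f))
    (hNT : NT Q (sub2 Q (sub2 Q ⊤ e f) z w)) (hcount : (Lines Q (sub2 Q ⊤ e f)).card ≠ Nat.card F + 1) :
    PMinExc87.Ans p K r x := by
  obtain ⟨U, M, D, hU, he', hl', -⟩ := two_steps hS hes hfs hfe hth hz hw hzs hws hwz hth2 hNT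
  obtain ⟨P, Fr, hN, -⟩ := toFrame hS D (exists_moved hS (W := ⊤) hth hes hfs hfe hU) ⟨_, he'⟩
  refine PMinExc87.Ans.of_one P (crit_of_card Fr hN (i := ⟨_, he'⟩) (j := ⟨_, hl'⟩) fun hcard => hcount ?_)
  set ℓ := (F ∙ e) ⊔ (F ∙ z) with hℓ
  have : Fintype G := Fintype.ofFinite G
  have hO2 : Ok Q ρ p (pst ρ ⊤ e f) (sub2 Q ⊤ e f) := hS.ok.descend trivial trivial hes hfs hfe
  have hze := (mem_sub2.1 hz).2.1
  have hℓs : Q.Sing ℓ := ((mem_Pts Q).1 (D.mem _ hl').1).2.1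
  -- pull back
  have hpull : ∀ X : Submodule F V, Q.Sing X →
      Nat.card ↥(stabSub ρ X) = Nat.card ↥((stabSub ρ X).map π) * Nat.card ↥π.ker := fun X hX => by
    have hle : π.ker ≤ stabSub ρ X := fun g hg => ker_fix hS (MonoidHom.mem_ker.1 hg) hX
    have h1 : Nat.card ↥(stabSub ρ X ⊔ π.ker : Subgroup G) = Nat.card ↥(stabSub ρ X) := by rw [sup_eq_left.2 hle]
    rw [← h1, ← Subgroup.comap_map_eq]
    have h2 := Subgroup.card_mul_index (((stabSub ρ X).map π).comap π)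
    have h3 := Subgroup.card_mul_index π.ker
    rw [Subgroup.index_comap_of_surjective _ hS.surj] at h2
    rw [Subgroup.index_ker, MonoidHom.range_eq_top.2 hS.surj, Subgroup.card_top,
      ← Subgroup.card_mul_index ((stabSub ρ X).map π)] at h3
    refine Nat.eq_of_mul_eq_mul_right (Nat.pos_of_ne_zero Subgroup.index_ne_zero_of_finite :
      0 < ((stabSub ρ X).map π).index) ?_
    rw [h2, ← h3]; ring
  have heq : Nat.card ↥(stabSub ρ (F ∙ e)) = Nat.card ↥(stabSub ρ ℓ) := by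
    rw [hpull _ (Q.sing_span hes), hpull _ hℓs]
    exact congrArg (· * _) hcard
  -- lines through `e`
  have hperp : ∀ {Z}, Z ∈ Lines Q (sub2 Q ⊤ e f) → Z ≤ Q.perp (F ∙ e) ∧ Z ≤ Q.perp (F ∙ f) := fun hZ =>
    ⟨((mem_Pts Q).1 (Finset.mem_filter.1 hZ).1).2.2.trans (inf_le_left.trans inf_le_right),
      ((mem_Pts Q).1 (Finset.mem_filter.1 hZ).1).2.2.trans inf_le_right⟩
  let X1 : Finset (Submodule F V) := (Lines Q (sub2 Q ⊤ e f)).image fun d => (F ∙ e) ⊔ d
  have hX1card : X1.card = (Lines Q (sub2 Q ⊤ e f)).card := Finset.card_image_of_injOn fun d hd d' hd' h => by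
    have h1 := congrArg (fun Y : Submodule F V => Y ⊓ Q.perp (F ∙ f)) h
    simpa [inf_perp_eq hfe (hperp hd).2, inf_perp_eq hfe (hperp hd').2] using h1
  have hX1 : ∀ m ∈ stabSub ρ (F ∙ e), ∀ a ∈ X1, img ρ m a ∈ X1 := by
    intro m hm a ha
    obtain ⟨d, hd, rfl⟩ := Finset.mem_image.1 ha
    obtain ⟨r, hr, h, hh, rfl⟩ := factor (H := ⊤) hS.ok trivial trivial hes hfs hfe trivial hm
    refine Finset.mem_image.2 ⟨img ρ h d, hO2.img_lines hh hd, ?_⟩
    rw [img_mul, (img ρ h).map_sup, hh.1.2, rd_sup hr (hperp (hO2.img_lines hh hd)).1]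
  have hzline : F ∙ z ∈ Lines Q (sub2 Q ⊤ e f) := mem_Lines.2 ⟨z, hz, (pair_facts hwz).1, hzs, rfl⟩
  have hℓ1 : ℓ ∈ X1 := Finset.mem_image.2 ⟨_, hzline, rfl⟩
  have hcount1 := (sum_card_stab (img ρ) (stabSub ρ (F ∙ e)) X1 hX1 hℓ1 fun a ha b hb => by
    obtain ⟨d, hd, rfl⟩ := Finset.mem_image.1 ha
    obtain ⟨d', hd', rfl⟩ := Finset.mem_image.1 hb
    obtain ⟨h, hh, rfl⟩ := hO2.move_lines hth2 d hd d' hd'
    exact ⟨h, hh.1.2, by rw [(img ρ h).map_sup, hh.1.2]⟩).2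
  -- points of the line
  let X2 : Finset (Submodule F V) := (Lines Q (⊤ : Submodule F V)).filter (· ≤ ℓ)
  have heℓ : F ∙ e ∈ X2 := Finset.mem_filter.2 ⟨mem_Lines.2 ⟨e, trivial, (pair_facts hfe).1, hes, rfl⟩, le_sup_left⟩
  have hform : ∀ a ∈ X2, a = F ∙ z ∨ ∃ c : F, a = F ∙ (e + c • z) := by
    intro a ha
    obtain ⟨haL, hale⟩ := Finset.mem_filter.1 ha
    obtain ⟨v, -, hv0, -, rfl⟩ := mem_Lines.1 haL
    obtain ⟨x, hx, y, hy, hxy⟩ := Submodule.mem_sup.1 (hale (Submodule.mem_span_singleton_self v))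
    obtain ⟨a, rfl⟩ := Submodule.mem_span_singleton.1 hx
    obtain ⟨b, rfl⟩ := Submodule.mem_span_singleton.1 hy
    rcases eq_or_ne a 0 with rfl | ha0
    · left
      rw [zero_smul, zero_add] at hxy
      rw [← hxy, Submodule.span_singleton_smul_eq (IsUnit.mk0 b fun h => hv0 (by rw [← hxy, h, zero_smul]))]
    · exact Or.inr ⟨b / a, by
        rw [← hxy, ← Submodule.span_singleton_smul_eq (IsUnit.mk0 a ha0) (e + (b / a) • z), smul_add, smul_smul,
          mul_div_cancel₀ _ ha0]⟩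
  have hstabℓ : ∀ {h : G} {v : V}, v ∈ ℓ → (∀ y ∈ Q.perp (F ∙ v), ρ h y - y ∈ F ∙ v) → h ∈ stabSub ρ ℓ := by
    intro h v hv hh
    refine img_eq_of_le ρ (fun y hy => ?_) le_rfl
    rw [← sub_add_cancel (ρ h y) y]
    exact Submodule.add_mem _ ((Submodule.span_singleton_le_iff_mem _ _).2 hv
      (hh y (Q.mem_perp_span (hℓs.2 hy v hv)))) hy
  have hto : ∀ a ∈ X2, ∃ m ∈ stabSub ρ ℓ, img ρ m (F ∙ e) = a := by
    have hmove : ∀ c : F, ∃ m ∈ stabSub ρ ℓ, ρ m e = e + c • z := fun c => by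
      obtain ⟨h, hh, hhe⟩ := yel hS.ok trivial trivial hes hfs hfe hz (pair_facts hwz).1 hzs hO2 c
      exact ⟨h, hstabℓ (Submodule.mem_sup_right (Submodule.mem_span_singleton_self z)) hh.2.2, hhe⟩
    intro a ha
    rcases hform a ha with rfl | ⟨c, rfl⟩
    · obtain ⟨m, hm, hme⟩ := hmove 1
      have hmem : e ∈ sub2 Q ⊤ z w := mem_sub2.2 ⟨trivial, Q.refl _ _ hze, Q.refl _ _ (mem_sub2.1 hw).2.1⟩
      obtain ⟨h, hh, hhz⟩ := yel hS.ok trivial trivial hzs hws hwz hmem (pair_facts hfe).1 hes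
        (hS.ok.descend trivial trivial hzs hws hwz) (-1 : F)
      refine ⟨h * m, mul_mem (hstabℓ (Submodule.mem_sup_left (Submodule.mem_span_singleton_self e)) hh.2.2) hm, ?_⟩
      refine img_eq_of_le ρ (fun y hy => ?_) ?_
      · obtain ⟨c, rfl⟩ := Submodule.mem_span_singleton.1 hy
        rw [PFreePolar87.rho_mul, map_smul, hme, map_smul, map_add, map_smul, hhz, rd_fix hh, one_smul, neg_smul,
          one_smul]
        exact Submodule.smul_mem _ _ (Submodule.mem_span_singleton.2 ⟨1, by module⟩)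
      · rw [finrank_span_singleton (pair_facts hfe).1, finrank_span_singleton (pair_facts hwz).1]
    · obtain ⟨m, hm, hme⟩ := hmove c
      refine ⟨m, hm, img_eq_of_le ρ (fun y hy => ?_) ?_⟩
      · obtain ⟨d, rfl⟩ := Submodule.mem_span_singleton.1 hy
        rw [map_smul, hme]
        exact Submodule.smul_mem _ _ (Submodule.mem_span_singleton_self _)
      · rw [finrank_span_singleton (pair_facts hfe).1]
        exact (finrank_span_le_card ({e + c • z} : Set V)).trans (by simp)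
  have hX2 : ∀ m ∈ stabSub ρ ℓ, ∀ a ∈ X2, img ρ m a ∈ X2 := by
    intro m hm a ha
    obtain ⟨haL, hale⟩ := Finset.mem_filter.1 ha
    exact Finset.mem_filter.2 ⟨hS.ok.img_lines trivial haL, hm ▸ (img ρ m).monotone hale⟩
  have hcount2 := (sum_card_stab (img ρ) (stabSub ρ ℓ) X2 hX2 heℓ fun a ha b hb => by
    obtain ⟨m, hm, rfl⟩ := hto a ha
    obtain ⟨n, hn, rfl⟩ := hto b hb
    exact ⟨n * m⁻¹, mul_mem hn (inv_mem hm), by rw [img_mul, img_inv_of ρ m rfl]⟩).2
  have hX2card : X2.card = Nat.card F + 1 := by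
    have : Fintype F := Fintype.ofFinite F
    have hX2eq : X2 = insert (F ∙ z) (Finset.univ.image fun c : F => F ∙ (e + c • z)) := by
      refine Finset.ext fun a => ⟨fun ha => ?_, fun ha => ?_⟩
      · rcases hform a ha with rfl | ⟨c, rfl⟩ <;> simp
      · rw [Finset.mem_insert, Finset.mem_image] at ha
        rcases ha with rfl | ⟨c, -, rfl⟩
        · exact Finset.mem_filter.2 ⟨mem_Lines.2 ⟨z, trivial, (pair_facts hwz).1, hzs, rfl⟩, le_sup_right⟩
        · have hmem : e + c • z ∈ ℓ := Submodule.add_mem _ (Submodule.mem_sup_left (Submodule.mem_span_singleton_self e))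
            (Submodule.mem_sup_right (Submodule.smul_mem _ _ (Submodule.mem_span_singleton_self z)))
          refine Finset.mem_filter.2 ⟨mem_Lines.2 ⟨_, trivial, fun h => ?_, hℓs.1 _ hmem, rfl⟩,
            (Submodule.span_singleton_le_iff_mem _ _).2 hmem⟩
          have h1 := congrArg (fun y => Q.B y f) h
          simp only [Q.add_left, Q.smul_left, (mem_sub2.1 hz).2.2, mul_zero, add_zero, Q.zero_left] at h1
          exact pair_ne hfe h1
    rw [hX2eq, Finset.card_insert_of_notMem, Finset.card_image_of_injective, Finset.card_univ,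
      Nat.card_eq_fintype_card]
    · intro c c' h
      obtain ⟨d, hd⟩ := Submodule.mem_span_singleton.1
        ((h : (F ∙ (e + c • z)) = F ∙ (e + c' • z)).le (Submodule.mem_span_singleton_self (e + c • z)))
      have h1 := congrArg (fun y => Q.B y f) hd
      simp only [Q.add_left, Q.smul_left, (mem_sub2.1 hz).2.2, mul_zero, add_zero] at h1
      have hd1 : d = 1 := mul_right_cancel₀ (pair_ne hfe) (by rw [one_mul]; exact h1)
      rw [hd1, one_smul, add_right_inj] at hd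
      exact (smul_left_injective F (pair_facts hwz).1 hd).symm
    · simp only [Finset.mem_image, Finset.mem_univ, true_and, not_exists]
      intro c h
      obtain ⟨d, hd⟩ := Submodule.mem_span_singleton.1
        (h ▸ Submodule.mem_span_singleton_self (e + c • z) : e + c • z ∈ F ∙ z)
      have h1 := congrArg (fun y => Q.B y f) hd
      simp only [Q.add_left, Q.smul_left, (mem_sub2.1 hz).2.2, mul_zero, add_zero] at h1
      exact pair_ne hfe h1.symm
  have hc : ∀ A : Subgroup G, (Finset.univ.filter (· ∈ A)).card = Nat.card ↥A := fun A => by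
    rw [Nat.card_eq_fintype_card, Fintype.card_subtype]
  have hswap : (Finset.univ.filter fun m => m ∈ stabSub ρ (F ∙ e) ∧ img ρ m ℓ = ℓ) =
      (Finset.univ.filter fun m => m ∈ stabSub ρ ℓ ∧ img ρ m (F ∙ e) = F ∙ e) :=
    Finset.filter_congr fun m _ => and_comm
  erw [hc, hswap, hX1card] at hcount1
  erw [hc, ← heq, hcount1, hX2card] at hcount2
  refine Nat.eq_of_mul_eq_mul_right (Finset.card_pos.2 ⟨1, Finset.mem_filter.2 ⟨Finset.mem_univ _, one_mem _, img_one ρ _⟩⟩) hcount2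

end Top

end Cfsg.Agent.PMinPolar87
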