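import Cfsg.Agent.Lib.PMinExc87
import Cfsg.Agent.Lib.PFreeRankOne87
import Cfsg.Agent.Lib.PFreeSmall87

/-!
The rank one groups given by their own models, `L₂(8)` and `A₆`.
-/

set_option autoImplicit false
set_option linter.unusedSectionVars false

namespace Cfsg.Agent.PMinSmall87

open Cfsg.Agent.PMin87
open Cfsg.Agent.PMinExc87 (Ans)

theorem normalizer_ne_top {G : Type*} [Group G] [IsSimpleGroup G] {U : Subgroup G} (hne : U ≠ ⊥) (hlt : U ≠ ⊤) :
    Subgroup.normalizer (U : Set G) ≠ ⊤ := fun h => hlt (PFree87.top_of_normalizer hne le_rfl h)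

/-- a proper overgroup normalises a non-trivial subgroup of a Sylow subgroup -/
theorem exists_normalised {G : Type*} [Group G] [Finite G] {p : ℕ} [Fact p.Prime] (hG : PFree87.Good p G)
    (P : Sylow p G) {T : Subgroup G} (hPT : (P : Subgroup G) ≤ T) (hT : T ≠ ⊤) :
    ∃ R : Subgroup G, R ≠ ⊥ ∧ R ≤ (P : Subgroup G) ∧ ∀ m ∈ T, ∀ x ∈ R, m * x * m⁻¹ ∈ R := by
  obtain ⟨R, hR, hn, hne⟩ : ∃ R : Subgroup G, IsPGroup p ↥R ∧ (∀ m ∈ T, ∀ x ∈ R, m * x * m⁻¹ ∈ R) ∧ R ≠ ⊥ := by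
    by_contra hno
    push Not at hno
    exact hT (hG T (fun R h1 h2 => hno R h1 h2) fun hd => P.not_dvd_index (hd.trans (Subgroup.index_dvd_of_le hPT)))
  exact ⟨R, hne, PFree87.le_sylow P hPT hR hn, hn⟩

/-- `G = B ∪ U w B` -/
theorem crit_of_rankOne {G : Type*} [Group G] [IsSimpleGroup G] {p : ℕ} {U B : Subgroup G} {r x : Prop} (w : G)
    (hUne : U ≠ ⊥) (hlt : U ≠ ⊤) (hBU : B ≤ Subgroup.normalizer (U : Set G))
    (hG : ∀ g, g ∈ B ∨ ∃ u ∈ U, ∃ h ∈ B, g = u * w * h) (hr : r) : Crit p U r x := by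
  refine crit_of_tight (normalizer_ne_top hUne hlt) hr fun T hUT hT => ?_
  by_cases hTB : T ≤ B
  · exact hTB.trans hBU
  obtain ⟨m, hm, hmB⟩ := SetLike.not_le_iff_exists.1 hTB
  obtain ⟨u, hu, h, hh, rfl⟩ := (hG m).resolve_left hmB
  have hwh : w * h ∈ T := by
    have := mul_mem (inv_mem (hUT hu)) hm
    rwa [show u⁻¹ * (u * w * h) = w * h by group] at this
  have hconjB : ∀ h ∈ B, ∀ v ∈ U, h * v * h⁻¹ ∈ U := PFree87.conj_of_le_normalizer hBU
  refine absurd (PFree87.top_of_normal (N := Subgroup.normalClosure (U : Set G)) Subgroup.normalClosure_normal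
    (fun h0 => hUne (le_bot_iff.1 (h0 ▸ Subgroup.le_normalClosure))) ?_) hT
  rw [Subgroup.normalClosure, Subgroup.closure_le]
  intro x hx
  obtain ⟨v, hv, hc⟩ := Group.mem_conjugatesOfSet_iff.1 hx
  obtain ⟨g, rfl⟩ := isConj_iff.1 hc
  rcases hG g with hgB | ⟨u', hu', h', hh', rfl⟩
  · exact hUT (hconjB g hgB v hv)
  · have h1 : h⁻¹ * (h' * v * h'⁻¹) * h ∈ U := by
      have := hconjB h⁻¹ (inv_mem hh) _ (hconjB h' hh' v hv)
      rwa [inv_inv] at this
    have h2 := mul_mem (mul_mem (mul_mem (mul_mem (hUT hu') hwh) (hUT h1)) (inv_mem hwh)) (inv_mem (hUT hu'))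
    show u' * w * h' * v * (u' * w * h')⁻¹ ∈ T
    rwa [show u' * w * h' * v * (u' * w * h')⁻¹ =
      u' * (w * h) * (h⁻¹ * (h' * v * h'⁻¹) * h) * (w * h)⁻¹ * u'⁻¹ by group]

/-! ### Suzuki groups -/

theorem suzuki {G : Type*} [Group G] [Finite G] {r x : Prop} (hG : Cfsg.Lie.IsoSuzuki G) (hr : r) :
    Ans 2 G r x := by
  obtain ⟨F, _, _, m, hm, hF, ⟨e⟩⟩ := hG
  have := SuzukiGroupBasic.Param.mk' (F := F) (m := m) hm hF
  have := Fact.mk Nat.prime_two
  have := SuzukiGroupStructure.isSimpleGroup (F := F) (m := m)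
  refine Ans.of_equiv (e.trans SuzukiGroupLie.lieEquiv) (Ans.of_one SuzukiGroupStructure.sylowU ?_)
  rw [SuzukiGroupStructure.coe_sylowU]
  refine crit_of_rankOne (B := MulAction.stabilizer ↥(Cfsg.Sz F m) (Cfsg.suzukiPointInfinity F))
    SuzukiGroupStructure.Ws (fun h => ?_) (fun h => ?_) ?_ ?_ hr
  · have hc := SuzukiGroupStructure.natCard_unipotent (F := F) (m := m)
    rw [h, Subgroup.card_bot, ← pow_mul] at hc
    exact absurd hc.symm (Nat.one_lt_two_pow (by positivity)).ne'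
  · have hc := SuzukiGroupStructure.index_borel (F := F) (m := m)
    rw [show (SuzukiGroupStructure.borel : Subgroup ↥(Cfsg.Sz F m)) = ⊤ from
      top_le_iff.1 (h ▸ SuzukiGroupStructure.unipotent_le_borel), Subgroup.index_top] at hc
    have : 0 < (2 ^ (2 * m + 1)) ^ 2 := by positivity
    omega
  · exact PFree87.mem_normalizer_of_conj fun g hg v hv => SuzukiGroupStructure.conj_mem_unipotent hg hv
  · intro g
    rcases SuzukiGroupStructure.bruhat g with h | ⟨a, b, h, hh, rfl⟩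
    · exact Or.inl h
    · exact Or.inr ⟨_, SuzukiGroupStructure.Ts_mem a b, h, hh, rfl⟩

/-! ### Ree groups -/

section Twisted

open Cfsg.Lie Cfsg.Agent.ChevalleyCert Cfsg.Agent.ChevBruhat Cfsg.Agent.TwistedCore Cfsg.Agent.BNPairLib

variable {D : ChevalleyDatum} {C : Cert D} {F : Type*} [Field F] [Fintype F] {T : Twist C F}
  {G1 : Subgroup (GL D.Idx F)} (K : Classes T G1)

theorem crit_one_class {p : ℕ} [IsSimpleGroup ↥G1] {r x : Prop} (J : K.κ) (hone : ∀ J' : K.κ, J' = J) (hr : r) :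
    Crit p (PMinExc87.U1 D G1) r x := by
  set P := K.bnPair
  set s : ↥G1 := PMinExc87.crep K J with hsdef
  have hs : s ∈ P.S := ⟨J, rfl⟩
  have hU := PMinExc87.U1_normalizer K
  refine crit_of_rankOne (B := P.B) s ?_ (fun h => ?_) hU.1.ge ?_ hr
  · intro hbot
    obtain ⟨u, hu, hu1⟩ := (Subgroup.bot_or_exists_ne_one _).resolve_left (PFreeTwisted87.UF_ne_bot K J)
    have h1 : (⟨u, K.UF_le (K.cw_fix J) hu⟩ : ↥G1) ∈ PMinExc87.U1 D G1 :=
      ⟨T.S.Uw_le_U _ hu.1, K.UF_le (K.cw_fix J) hu⟩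
    rw [hbot, Subgroup.mem_bot] at h1
    exact hu1 (congrArg Subtype.val h1)
  · exact rep_not_mem P ⟨s, hs⟩ (hU.2 (h ▸ Subgroup.mem_top s))
  · intro g
    have hall : P.S ⊆ {s} := by
      rintro _ ⟨J', rfl⟩
      rw [hone J']
      rfl
    have hg : g ∈ PMin87.par P s :=
      sup_le le_sup_left ((Subgroup.closure_mono hall).trans le_sup_right)
        ((parabolic_S P).ge (Subgroup.mem_top g))
    rcases PMinExc87.mem_par P hs hg with h | h
    · exact Or.inl ((mem_cell_one P).1 h)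
    · obtain ⟨a, ha, b, hb, e⟩ := exists_eq_mul P ⟨s, P.subset hs⟩ rfl h
      obtain ⟨t, ht, u, hu, eu⟩ := PFreeTwisted87.decomp K
        (show (a : GL D.Idx F) ∈ D.borelSubgroup F ⊓ G1 from ha)
      let t' : ↥G1 := ⟨t, ht.2⟩
      let u' : ↥G1 := ⟨u, hu.2⟩
      have htBN : t' ∈ P.B ⊓ P.N := ⟨⟨Sys.H_le_B ht.1, ht.2⟩, ⟨Sys.H_le_N ht.1, ht.2⟩⟩
      have ea : a = t' * u' := Subtype.ext eu
      refine Or.inr ⟨t' * u' * t'⁻¹, ?_, (s⁻¹ * t' * s⁻¹⁻¹) * b,
        mul_mem (P.conj_mem s⁻¹ (inv_mem (P.subset hs)) t' htBN) hb, ?_⟩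
      · exact (Subgroup.mem_normalizer_iff.1 (hU.1.ge htBN.1) u').1 hu
      · rw [e, ea]
        show t' * u' * s * b = _
        group

theorem ree {G : Type*} [Group G] [Finite G] {r x : Prop} (hG : Cfsg.Lie.IsoRee G) (hr : r) : Ans 3 G r x := by
  obtain ⟨K, _, _, m, hm, hK, ⟨e⟩⟩ := hG
  have := Fact.mk Nat.prime_three
  have : CharP K 3 := charP_of_card_eq_prime_pow (f := 2 * m + 1) (by rw [hK])
  obtain ⟨X, hX⟩ := Cfsg.Agent.ReeInstance17.exists_ctx hK
  have hs := (S1073.result hm hK).1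
  refine Ans.of_equiv e ?_
  rw [← hX] at hs ⊢
  haveI : Finite ↥(Cfsg.Lie.twistedG2 K X.e) := Finite.of_injective _ (Subgroup.subtype_injective _)
  obtain ⟨P, hP⟩ := TwistAutRigid.exists_sylow X.classes 3
  refine Ans.of_one P ?_
  rw [hP, show TwistAutRigid.U1 X.G1 = PMinExc87.U1 chevG2 X.G1 by
    ext x
    exact ⟨fun hx => ⟨Subgroup.mem_subgroupOf.1 hx, x.2⟩,
      fun hx => (Subgroup.mem_inf.1 (Subgroup.mem_subgroupOf.1 hx)).1⟩]
  exact crit_one_class X.classes () (fun _ => rfl) hr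

end Twisted

/-! ### `L₂(8)` -/

section L28

open Matrix

variable {F : Type} [Field F] [Fintype F]

theorem two_by_two (A B B' : Matrix (Fin 2) (Fin 2) F) (hA : ¬ (A 0 1 = 0 ∧ A 1 0 = 0 ∧ A 0 0 = A 1 1))
    (h : A * B = B * A) (h' : A * B' = B' * A) : B * B' = B' * B := by
  have a1 := congrFun (congrFun h 0) 0
  have a2 := congrFun (congrFun h 0) 1
  have a3 := congrFun (congrFun h 1) 0
  have b1 := congrFun (congrFun h' 0) 0
  have b2 := congrFun (congrFun h' 0) 1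
  have b3 := congrFun (congrFun h' 1) 0
  simp only [Matrix.mul_apply, Fin.sum_univ_two] at a1 a2 a3 b1 b2 b3
  have key : B 0 1 * B' 1 0 = B' 0 1 * B 1 0 ∧ B 0 1 * (B' 0 0 - B' 1 1) = B' 0 1 * (B 0 0 - B 1 1) ∧
      B 1 0 * (B' 0 0 - B' 1 1) = B' 1 0 * (B 0 0 - B 1 1) := by
    by_cases hq : A 0 1 = 0
    · by_cases hr : A 1 0 = 0
      · have hd : A 0 0 - A 1 1 ≠ 0 := fun e => hA ⟨hq, hr, sub_eq_zero.1 e⟩
        rw [hq] at a2 b2
        rw [hr] at a3 b3
        have e1 : B 0 1 = 0 := (mul_eq_zero.1 (by linear_combination a2 : (A 0 0 - A 1 1) * B 0 1 = 0)).resolve_left hd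
        have e2 : B 1 0 = 0 := (mul_eq_zero.1 (by linear_combination -a3 : (A 0 0 - A 1 1) * B 1 0 = 0)).resolve_left hd
        have e3 : B' 0 1 = 0 := (mul_eq_zero.1 (by linear_combination b2 : (A 0 0 - A 1 1) * B' 0 1 = 0)).resolve_left hd
        have e4 : B' 1 0 = 0 := (mul_eq_zero.1 (by linear_combination -b3 : (A 0 0 - A 1 1) * B' 1 0 = 0)).resolve_left hd
        simp [e1, e2, e3, e4]
      · rw [hq, zero_mul] at a1 b1
        have e1 : B 0 1 = 0 := (mul_eq_zero.1 (by linear_combination -a1 : B 0 1 * A 1 0 = 0)).resolve_right hr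
        have e3 : B' 0 1 = 0 := (mul_eq_zero.1 (by linear_combination -b1 : B' 0 1 * A 1 0 = 0)).resolve_right hr
        refine ⟨by simp [e1, e3], by simp [e1, e3], mul_left_cancel₀ hr ?_⟩
        linear_combination B 1 0 * b3 - B' 1 0 * a3
    · have k1 : B 0 1 * B' 1 0 = B' 0 1 * B 1 0 := mul_left_cancel₀ hq (by linear_combination B 0 1 * b1 - B' 0 1 * a1)
      refine ⟨k1, ?_, ?_⟩ <;> refine mul_left_cancel₀ hq ?_
      · linear_combination B' 0 1 * a2 - B 0 1 * b2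
      · linear_combination B' 1 0 * a2 - B 1 0 * b2 - (A 0 0 - A 1 1) * k1
  obtain ⟨k1, k2, k3⟩ := key
  ext i j
  fin_cases i <;> fin_cases j <;> simp [Matrix.mul_apply, Fin.sum_univ_two]
  · linear_combination k1
  · linear_combination -k2
  · linear_combination k3
  · linear_combination -k1

theorem center_bot (hF : Fintype.card F = 8) : Subgroup.center (Matrix.SpecialLinearGroup (Fin 2) F) = ⊥ := by
  haveI := Fact.mk Nat.prime_two
  haveI : CharP F 2 := charP_of_card_eq_prime_pow (f := 3) (by rw [hF]; norm_num)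
  refine eq_bot_iff.2 fun z hz => ?_
  obtain ⟨r, hr2, hr⟩ := Matrix.SpecialLinearGroup.mem_center_iff.1 hz
  rw [Fintype.card_fin] at hr2
  have : r = 1 := frobenius_inj F 2 (by simpa [frobenius_def] using hr2)
  subst this
  exact Subgroup.mem_bot.2 (Subtype.ext (hr.symm.trans (map_one _)))

theorem centralizer_comm (hF : Fintype.card F = 8) {z a b : ProjectiveSpecialLinearGroup (Fin 2) F} (hz : z ≠ 1)
    (ha : z * a = a * z) (hb : z * b = b * z) : a * b = b * a := by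
  obtain ⟨Z, rfl⟩ := QuotientGroup.mk'_surjective _ z
  obtain ⟨A, rfl⟩ := QuotientGroup.mk'_surjective _ a
  obtain ⟨B, rfl⟩ := QuotientGroup.mk'_surjective _ b
  have hinj : Function.Injective (QuotientGroup.mk' (Subgroup.center (Matrix.SpecialLinearGroup (Fin 2) F))) := by
    rw [← MonoidHom.ker_eq_bot_iff, QuotientGroup.ker_mk', center_bot hF]
  have h1 : Z * A = A * Z := hinj (by rw [map_mul, map_mul]; exact ha)
  have h2 : Z * B = B * Z := hinj (by rw [map_mul, map_mul]; exact hb)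
  rw [← map_mul, ← map_mul]
  refine congrArg _ (Subtype.ext (two_by_two (Z : Matrix (Fin 2) (Fin 2) F) A B ?_
    (congrArg Subtype.val h1) (congrArg Subtype.val h2)))
  rintro ⟨e1, e2, e3⟩
  apply hz
  have hzc : Z ∈ Subgroup.center (Matrix.SpecialLinearGroup (Fin 2) F) := by
    refine Subgroup.mem_center_iff.2 fun g => Subtype.ext ?_
    ext i j
    fin_cases i <;> fin_cases j <;> simp [Matrix.mul_apply, Fin.sum_univ_two, e1, e2, e3] <;> ring
  exact (QuotientGroup.eq_one_iff Z).2 hzc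

theorem l28 {r x : Prop} (hF : Fintype.card F = 8) (hr : r) :
    Ans 3 (ProjectiveSpecialLinearGroup (Fin 2) F) r x := by
  haveI := Fact.mk Nat.prime_three
  haveI := Cfsg.Agent.PSLSimple.isSimpleGroup_PSL_fin' (F := F) (n := 2) le_rfl
    fun _ => by rw [Nat.card_eq_fintype_card, hF]; norm_num
  intro P
  have hc : Nat.card (ProjectiveSpecialLinearGroup (Fin 2) F) = 3 ^ 2 * 56 := by
    have h := S0243.result hF 2 le_rfl
    norm_num [Fin.prod_univ_two] at h ⊢
    omega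
  have hP9 : Nat.card ↥(P : Subgroup (ProjectiveSpecialLinearGroup (Fin 2) F)) = 3 ^ 2 := by
    rw [Sylow.card_eq_multiplicity P, hc, Nat.factorization_mul (by norm_num) (by norm_num),
      Finsupp.add_apply, Nat.prime_three.factorization_pow, Finsupp.single_eq_same,
      Nat.factorization_eq_zero_of_not_dvd (by norm_num), add_zero]
  have hcomm : ∀ a ∈ (P : Subgroup (ProjectiveSpecialLinearGroup (Fin 2) F)),
      ∀ b ∈ (P : Subgroup (ProjectiveSpecialLinearGroup (Fin 2) F)), a * b = b * a := fun a ha b hb =>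
    congrArg Subtype.val ((IsPGroup.isMulCommutative_of_card_eq_prime_sq hP9).is_comm.comm
      (⟨a, ha⟩ : ↥(P : Subgroup (ProjectiveSpecialLinearGroup (Fin 2) F))) ⟨b, hb⟩)
  refine crit_of_tight (normalizer_ne_top (fun h => ?_) fun h => ?_) hr fun T hT hTne => ?_
  · rw [h, Subgroup.card_bot] at hP9; norm_num at hP9
  · rw [h, Subgroup.card_top, hc] at hP9; norm_num at hP9
  obtain ⟨R, hR0, hRP, hRn⟩ := exists_normalised (PFreeSmall87.good_l28 hF) P hT hTne
  let W : Subgroup (ProjectiveSpecialLinearGroup (Fin 2) F) :=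
    Subgroup.centralizer (R : Set (ProjectiveSpecialLinearGroup (Fin 2) F))
  have hPW : (P : Subgroup (ProjectiveSpecialLinearGroup (Fin 2) F)) ≤ W :=
    fun u hu => Subgroup.mem_centralizer_iff.2 fun v hv => hcomm v (hRP hv) u hu
  obtain ⟨z, hzR, hz⟩ := (Subgroup.bot_or_exists_ne_one R).resolve_left hR0
  refine PFree87.mem_normalizer_of_conj fun t ht u hu => ?_
  have hW : t * u * t⁻¹ ∈ W := Subgroup.mem_centralizer_iff.2 fun v hv => by
    have h1 := hRn t⁻¹ (inv_mem ht) v hv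
    rw [inv_inv] at h1
    have h2 := hcomm _ (hRP h1) u hu
    calc v * (t * u * t⁻¹) = t * (t⁻¹ * v * t * u) * t⁻¹ := by group
      _ = t * (u * (t⁻¹ * v * t)) * t⁻¹ := by rw [h2]
      _ = t * u * t⁻¹ * v := by group
  have hu3 : IsPGroup 3 ↥(Subgroup.zpowers (t * u * t⁻¹)) :=
    (P.2.map (MulAut.conj t).toMonoidHom).to_le (Subgroup.zpowers_le.2 ⟨u, hu, rfl⟩)
  have hn : Subgroup.zpowers (t * u * t⁻¹) ≤
      Subgroup.normalizer ((P : Subgroup (ProjectiveSpecialLinearGroup (Fin 2) F)) : Set _) :=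
    Subgroup.zpowers_le.2 (Subgroup.mem_normalizer_iff.2 fun v => by
      have hcv : ∀ v ∈ W, (t * u * t⁻¹) * v * (t * u * t⁻¹)⁻¹ = v := fun v hv => by
        rw [centralizer_comm hF hz (Subgroup.mem_centralizer_iff.1 hW z hzR) (Subgroup.mem_centralizer_iff.1 hv z hzR),
          mul_inv_cancel_right]
      refine ⟨fun hv => by rw [hcv v (hPW hv)]; exact hv, fun hv => ?_⟩
      have h3 := hcv _ (hPW hv)
      have h4 : (t * u * t⁻¹) * v * (t * u * t⁻¹)⁻¹ = v := mul_left_cancel (mul_right_cancel h3)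
      rwa [h4] at hv)
  exact (P.3 (IsPGroup.to_sup_of_normal_left' P.2 hu3 hn) le_sup_left).le
    (Subgroup.mem_sup_right (Subgroup.mem_zpowers _))

end L28

/-! ### `A₆` -/

section A6

/-- the alternating group of degree six -/
abbrev A6 : Type := ↥(alternatingGroup (Fin 6))

/-- the central involution -/
def zA : A6 := ⟨Equiv.swap 0 1 * Equiv.swap 2 3, Equiv.Perm.mem_alternatingGroup.2 (by decide +kernel)⟩

/-- the two four-groups -/
def V : Fin 2 → List A6
  | 0 => [1, zA, ⟨Equiv.swap 0 2 * Equiv.swap 1 3, Equiv.Perm.mem_alternatingGroup.2 (by decide +kernel)⟩, ⟨Equiv.swap 0 3 * Equiv.swap 1 2, Equiv.Perm.mem_alternatingGroup.2 (by decide +kernel)⟩]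
  | 1 => [1, zA, ⟨Equiv.swap 0 1 * Equiv.swap 4 5, Equiv.Perm.mem_alternatingGroup.2 (by decide +kernel)⟩, ⟨Equiv.swap 2 3 * Equiv.swap 4 5, Equiv.Perm.mem_alternatingGroup.2 (by decide +kernel)⟩]

/-- the stabiliser of a four-group -/
def PA (i : Fin 2) : Subgroup A6 where
  carrier := {g | (∀ v ∈ V i, g * v * g⁻¹ ∈ V i) ∧ ∀ v ∈ V i, g⁻¹ * v * g ∈ V i}
  one_mem' := ⟨fun v hv => by simpa using hv, fun v hv => by simpa using hv⟩
  mul_mem' {a b} ha hb := ⟨fun v hv => by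
      rw [show a * b * v * (a * b)⁻¹ = a * (b * v * b⁻¹) * a⁻¹ by group]
      exact ha.1 _ (hb.1 v hv),
    fun v hv => by
      rw [show (a * b)⁻¹ * v * (a * b) = b⁻¹ * (a⁻¹ * v * a) * b by group]
      exact hb.2 _ (ha.2 v hv)⟩
  inv_mem' {a} ha := ⟨fun v hv => by rw [inv_inv]; exact ha.2 v hv, fun v hv => by rw [inv_inv]; exact ha.1 v hv⟩

theorem card_centralizer : (Finset.univ.filter fun g : A6 => g * zA = zA * g).card = 8 := by decide +kernel

theorem centralizer_in : ∀ g : A6, g * zA = zA * g → ∀ i, ∀ v ∈ V i, g * v * g⁻¹ ∈ V i := by decide +kernel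

theorem inter_le : ∀ g : A6, (∀ v ∈ V 0, g * v * g⁻¹ ∈ V 0) → (∀ v ∈ V 1, g * v * g⁻¹ ∈ V 1) → g * zA = zA * g := by
  decide +kernel

theorem meets_centre : ∀ r : A6, r * zA = zA * r → r ≠ 1 →
    r = zA ∨ ∃ u : A6, u * zA = zA * u ∧ u * r * u⁻¹ * r⁻¹ = zA := by decide +kernel

theorem four_cases : ∀ a : A6, a * zA = zA * a →
    a * a = zA ∨ a ∈ V 0 ∨ a ∈ V 1 := by decide +kernel

theorem mixed : ∀ a ∈ V 0, ∀ b ∈ V 1, a ≠ 1 → a ≠ zA → b ≠ 1 → b ≠ zA → a * b * (a * b) = zA := by decide +kernel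

theorem squares : ∀ a : A6, a * zA = zA * a → a * a = 1 ∨ a * a = zA := by decide +kernel

theorem V_closed : ∀ i : Fin 2, ∀ r ∈ V i, ∀ v ∈ V i, r ≠ 1 → r ≠ zA → v = 1 ∨ v = zA ∨ v = r ∨ v = r * zA := by
  decide +kernel

theorem sep_zero : ∃ g : A6, ((∀ v ∈ V 1, g * v * g⁻¹ ∈ V 1) ∧ ∀ v ∈ V 1, g⁻¹ * v * g ∈ V 1) ∧
    ¬ ∀ v ∈ V 0, g * v * g⁻¹ ∈ V 0 := by
  refine ⟨⟨Equiv.swap 0 4 * Equiv.swap 1 5, Equiv.Perm.mem_alternatingGroup.2 (by decide +kernel)⟩, ⟨?_, ?_⟩, ?_⟩ <;>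
    decide +kernel

theorem sep_one : ∃ g : A6, ((∀ v ∈ V 0, g * v * g⁻¹ ∈ V 0) ∧ ∀ v ∈ V 0, g⁻¹ * v * g ∈ V 0) ∧
    ¬ ∀ v ∈ V 1, g * v * g⁻¹ ∈ V 1 := by
  refine ⟨⟨Equiv.swap 1 2 * Equiv.swap 4 5, Equiv.Perm.mem_alternatingGroup.2 (by decide +kernel)⟩, ⟨?_, ?_⟩, ?_⟩ <;>
    decide +kernel

theorem not_normal : ∃ g : A6, ∃ u : A6, u * zA = zA * u ∧ g * u * g⁻¹ * zA ≠ zA * (g * u * g⁻¹) := by decide +kernel

theorem a6 {r x : Prop} (hx : x) : Ans 2 A6 r x := by
  haveI := Fact.mk Nat.prime_two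
  set U : Subgroup A6 := Subgroup.centralizer {zA} with hUdef
  have hmemU : ∀ g : A6, g ∈ U ↔ g * zA = zA * g := fun g => Subgroup.mem_centralizer_singleton_iff
  have hU8 : Nat.card ↥U = 8 := by
    rw [← card_centralizer, Nat.card_congr (Equiv.subtypeEquivRight hmemU), Nat.card_eq_fintype_card,
      Fintype.card_subtype]
  have hU : IsPGroup 2 ↥U := IsPGroup.of_card (n := 3) (by rw [hU8]; rfl)
  have hUi : ¬ 2 ∣ U.index := by
    have h := U.card_mul_index
    rw [hU8, nat_card_alternatingGroup, Nat.card_fin] at h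
    norm_num [Nat.factorial] at h
    omega
  have hUP : ∀ i, U ≤ PA i := fun i g hg => ⟨centralizer_in g ((hmemU g).1 hg) i, fun v hv => by
    have := centralizer_in g⁻¹ ((hmemU _).1 (inv_mem hg)) i v hv
    rwa [inv_inv] at this⟩
  have Fr : Frame U PA := by
    refine ⟨hUP, fun T hT hTne => ?_, fun i => ?_⟩
    · obtain ⟨R, hR0, hRU, hRn⟩ := exists_normalised PFreeSmall87.good_a6 (hU.toSylow hUi) hT hTne
      change R ≤ U at hRU
      have hzR : zA ∈ R := by
        obtain ⟨r, hr, hr1⟩ := (Subgroup.bot_or_exists_ne_one R).resolve_left hR0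
        rcases meets_centre r ((hmemU r).1 (hRU hr)) hr1 with rfl | ⟨u, hu, he⟩
        · exact hr
        · exact he ▸ mul_mem (hRn u (hT ((hmemU u).2 hu)) r hr) (inv_mem hr)
      by_cases hfix : ∀ t ∈ T, t * zA = zA * t
      · exact ⟨0, fun t ht => hUP 0 ((hmemU t).2 (hfix t ht))⟩
      push Not at hfix
      obtain ⟨t, ht, htz⟩ := hfix
      have hc : ∀ a ∈ R, a * a ≠ zA := fun a ha he => htz (by
        have h1 := (hmemU _).1 (hRU (hRn t ht a ha))
        have h2 : t * a * t⁻¹ * (t * a * t⁻¹) = t * zA * t⁻¹ := by rw [← he]; group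
        rcases squares _ h1 with h | h
        · rw [h2, conj_eq_one_iff] at h
          exact absurd h (by decide +kernel)
        · rw [h2] at h
          exact mul_inv_eq_iff_eq_mul.1 h)
      obtain ⟨a, ha, ha1, haz⟩ : ∃ a ∈ R, a ≠ 1 ∧ a ≠ zA := by
        refine ⟨t * zA * t⁻¹, hRn t ht zA hzR, fun h => ?_, fun h => htz (mul_inv_eq_iff_eq_mul.1 h)⟩
        rw [conj_eq_one_iff] at h
        exact absurd h (by decide +kernel)
      have hall : ∀ j, a ∈ V j → ∀ b ∈ R, b ∈ V j := by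
        intro j hj b hb
        rcases four_cases b ((hmemU b).1 (hRU hb)) with h | h
        · exact absurd h (hc b hb)
        by_contra hnb
        have hb1 : b ≠ 1 ∧ b ≠ zA := by
          constructor <;> rintro rfl <;> exact hnb (by fin_cases j <;> simp [V])
        fin_cases j
        · exact hc _ (mul_mem ha hb) (mixed a hj b (h.resolve_left hnb) ha1 haz hb1.1 hb1.2)
        · exact hc _ (mul_mem hb ha) (mixed b (h.resolve_right hnb) a hj hb1.1 hb1.2 ha1 haz)
      obtain ⟨j, hj⟩ : ∃ j, a ∈ V j := by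
        rcases four_cases a ((hmemU a).1 (hRU ha)) with h | h | h
        · exact absurd h (hc a ha)
        · exact ⟨0, h⟩
        · exact ⟨1, h⟩
      have hVR : ∀ v ∈ V j, v ∈ R := fun v hv => by
        rcases V_closed j a hj v hv ha1 haz with rfl | rfl | rfl | rfl
        · exact one_mem R
        · exact hzR
        · exact ha
        · exact mul_mem ha hzR
      refine ⟨j, fun s hs => ⟨fun v hv => hall j hj _ (hRn s hs v (hVR v hv)), fun v hv => ?_⟩⟩
      have := hall j hj _ (hRn s⁻¹ (inv_mem hs) v (hVR v hv))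
      rwa [inv_inv] at this
    · fin_cases i
      · obtain ⟨g, hg, hgv⟩ := sep_zero
        refine ⟨g, fun h => hgv h.1, fun j hj => ?_⟩
        obtain rfl : j = 1 := by revert hj; revert j; decide
        exact hg
      · obtain ⟨g, hg, hgv⟩ := sep_one
        refine ⟨g, fun h => hgv h.1, fun j hj => ?_⟩
        obtain rfl : j = 0 := by revert hj; revert j; decide
        exact hg
  have hN : Subgroup.normalizer (U : Set A6) ≠ ⊤ := fun h => by
    obtain ⟨g, u, hu, hne⟩ := not_normal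
    exact hne ((hmemU _).1 ((Subgroup.mem_normalizer_iff.1 (h ▸ Subgroup.mem_top g) u).1 ((hmemU u).2 hu)))
  refine Ans.of_one (hU.toSylow hUi) ?_
  refine crit_of_two Fr hN (i := 0) (j := 1) (by decide) (fun k => by fin_cases k <;> simp)
    (fun g hg => Subgroup.le_normalizer ((hmemU g).2 (inter_le g hg.1.1 hg.2.1))) fun _ => hx

end A6

end Cfsg.Agent.PMinSmall87
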