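import Cfsg.Agent.Lib.PMinSmall87
import Cfsg.Agent.Lib.TitsTwoSimple15

/-!
The Tits group: two overgroups of a Sylow subgroup, of different orders.
-/

set_option autoImplicit false

namespace Cfsg.Agent.PMinTits87

open Cfsg.Agent.PMin87
open Cfsg.Agent.PMinExc87 (Ans)
open Cfsg.Agent.PMinSmall87 (normalizer_ne_top)

/-! ### The Tits group -/

section Tits

set_option maxRecDepth 100000


open Cfsg.Lie Cfsg.Agent.TitsTwo15

theorem cell_table : ∀ t < 2, ∀ x < (repWords.getD t []).length, ∀ j < 16, j = 0 ∨ j = t + 1 →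
    (((cellTab.getD t []).getD x []).getD j ([], 0, [])).2.1 = 0 ∨
      (((cellTab.getD t []).getD x []).getD j ([], 0, [])).2.1 = t + 1 := by decide +kernel

theorem wW_succ {t : ℕ} (ht : t < 2) : wW (t + 1) = nW t := by
  interval_cases t
  · rw [wW, weyl_shape.2.2.1]; simp [nSeq]
  · rw [wW, weyl_shape.2.2.2]; simp [nSeq]

/-- two cells -/
def Q2 (t : ℕ) : Set GF := Cl 0 ∪ Cl (t + 1)

theorem Q2_step {t : ℕ} (ht : t < 2) {g : GF} (hg : g ∈ Q2 t) : ev (nW t) * g ∈ Q2 t := by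
  obtain ⟨j, hj, hjt, u, hu, v, hv, rfl⟩ : ∃ j < 16, (j = 0 ∨ j = t + 1) ∧ g ∈ Cl j := by
    rcases hg with h | h
    · exact ⟨0, by norm_num, Or.inl rfl, h⟩
    · exact ⟨t + 1, by omega, Or.inr rfl, h⟩
  obtain ⟨w, x, hx, rfl⟩ := coset_step ht hu
  obtain ⟨q, hq, hqe⟩ := ker_step ht w
  have hh := checks_ok t ht
  simp only [Bool.and_eq_true, cellChk, List.all_eq_true, List.mem_range, decide_eq_true_eq] at hh
  obtain ⟨h1, h2⟩ := hh.1.2 x hx j hj
  have h3 := eqW_sound h2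
  simp only [ev_append] at h3
  have key : ev (nW t) * (ev (ksW t w) * ev (rep t x) * ev (wW j) * v) ∈
      Cl (((cellTab.getD t []).getD x []).getD j ([], 0, [])).2.1 := by
    refine ⟨q * ev (cw (((cellTab.getD t []).getD x []).getD j ([], 0, [])).1), mul_mem hq (cw_mem _),
      ev (cw (((cellTab.getD t []).getD x []).getD j ([], 0, [])).2.2) * v, mul_mem (cw_mem _) hv, ?_⟩
    calc ev (nW t) * (ev (ksW t w) * ev (rep t x) * ev (wW j) * v)
        = q * (ev (nW t) * ev (rep t x) * ev (wW j)) * v := by simp only [← mul_assoc]; rw [hqe]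
      _ = _ := by rw [h3]; simp only [mul_assoc]
  rcases cell_table t ht x hx j hj hjt with h | h <;> rw [h] at key
  · exact Or.inl key
  · exact Or.inr key

/-- the subgroup over a node -/
def QG (t : Fin 2) : Subgroup GF := Subgroup.closure ((U : Set GF) ∪ {ev (nW t)})

theorem QG_sub (t : Fin 2) {g : GF} (hg : g ∈ QG t) : g ∈ Q2 t := by
  refine closure_sub_left (T := Q2 t) ?_ ?_ hg
  · exact Or.inl ⟨1, one_mem _, 1, one_mem _, by rw [wW_zero, ev_nil]; simp⟩
  · intro y hy a ha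
    rcases ha with ha | ha
    · rcases hy with ⟨u, hu, v, hv, rfl⟩ | ⟨u, hu, v, hv, rfl⟩
      · exact Or.inl ⟨a * u, mul_mem ha hu, v, hv, by simp only [mul_assoc]⟩
      · exact Or.inr ⟨a * u, mul_mem ha hu, v, hv, by simp only [mul_assoc]⟩
    · rw [Set.mem_singleton_iff.1 ha]
      exact Q2_step t.isLt hy

theorem Q2_sub (t : Fin 2) {g : GF} (hg : g ∈ Q2 t) : g ∈ QG t := by
  have hU : U ≤ QG t := fun x hx => Subgroup.subset_closure (Or.inl hx)
  rcases hg with ⟨u, hu, v, hv, rfl⟩ | ⟨u, hu, v, hv, rfl⟩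
  · rw [wW_zero, ev_nil, mul_one]
    exact mul_mem (hU hu) (hU hv)
  · rw [wW_succ t.isLt]
    exact mul_mem (mul_mem (hU hu) (Subgroup.subset_closure (Or.inr rfl))) (hU hv)

/-- an element of the derived group in a cell gives a normal form -/
theorem dW_mem {K : Subgroup GF} (hU : U0 ≤ K) {j : ℕ} {g : GF} (hg : g ∈ K) (hc : g ∈ Cl j) :
    ∃ i < 2, ∃ k < 2, ev (dW i j k) ∈ K := by
  obtain ⟨u, hu, v, hv, rfl⟩ := hc
  obtain ⟨z, hz, i, hi, rfl⟩ := U_split hu
  obtain ⟨y, hy, k, hk, hye⟩ := U_split (inv_mem hv)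
  have hv2 : v = (gl 1 ^ k)⁻¹ * y⁻¹ := by rw [← _root_.mul_inv_rev, ← hye, inv_inv]
  obtain ⟨k', hk', y', hy', hv3⟩ : ∃ k' < 2, ∃ y' ∈ U0, v = gl 1 ^ k' * y' := by
    interval_cases k
    · exact ⟨0, by norm_num, y⁻¹, inv_mem hy, by rw [hv2]; simp⟩
    · refine ⟨1, by norm_num, (gl 1 * gl 1)⁻¹ * y⁻¹, mul_mem (inv_mem gl_one_sq_U0) (inv_mem hy), ?_⟩
      rw [hv2]; group
  subst hv3
  refine ⟨i, hi, k', hk', ?_⟩
  have e : ev (dW i j k') = z⁻¹ * (z * gl 1 ^ i * ev (wW j) * (gl 1 ^ k' * y')) * y'⁻¹ := by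
    rw [dW, ev_append, ev_append, ev_replicate, ev_replicate]
    group
  rw [e]
  exact mul_mem (mul_mem (inv_mem (hU hz)) hg) (inv_mem (hU hy'))

theorem cover_GF {K : Subgroup GF} (hU : U0 ≤ K) (hK : K ≤ M) (hne : K ≠ M) : ∃ t : Fin 2, K ≤ QG t := by
  have hsplit : ∀ g ∈ K, g ∈ Cl 0 ∨ g ∈ Cl 1 ∨ g ∈ Cl 2 := by
    intro g hg
    obtain ⟨u, hu, j, hj, v, hv, rfl⟩ := mem_Cells (M_le (hK hg))
    have hc : u * ev (wW j) * v ∈ Cl j := ⟨u, hu, v, hv, rfl⟩
    obtain ⟨i, hi, k, hk, hd⟩ := dW_mem hU hg hc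
    rcases (by omega : j = 0 ∨ j = 1 ∨ j = 2 ∨ 3 ≤ j) with rfl | rfl | rfl | h3
    · exact Or.inl hc
    · exact Or.inr (Or.inl hc)
    · exact Or.inr (Or.inr hc)
    · exact absurd (no_long hU hK hi h3 hj hk hd) hne
  by_cases h1 : ∃ g ∈ K, g ∈ Cl 1
  · obtain ⟨g, hg, hc⟩ := h1
    refine ⟨0, fun x hx => Q2_sub 0 ?_⟩
    rcases hsplit x hx with h | h | h
    · exact Or.inl h
    · exact Or.inr h
    · exfalso
      obtain ⟨i, hi, k, hk, hd⟩ := dW_mem hU hg hc
      obtain ⟨i', hi', k', hk', hd'⟩ := dW_mem hU hx h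
      have hc' := pairChk_ok
      simp only [pairChk, Bool.and_eq_true, List.all_eq_true, List.mem_range] at hc'
      obtain ⟨e1, e2⟩ := hc' (2 * i + k) (by omega) (2 * i' + k') (by omega)
      rw [show (2 * i + k) / 2 = i by omega, show (2 * i + k) % 2 = k by omega,
        show (2 * i' + k') / 2 = i' by omega, show (2 * i' + k') % 2 = k' by omega] at e1 e2
      refine hne (le_antisymm hK (sup_le hU ((Subgroup.closure_le _).2 ?_)))
      rintro _ (rfl | rfl)
      · show ev (nW 0) ∈ K; rw [← eqW_sound e1]; exact atomsW_mem hU hd hd' _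
      · show ev (nW 1) ∈ K; rw [← eqW_sound e2]; exact atomsW_mem hU hd hd' _
  · refine ⟨1, fun x hx => Q2_sub 1 ?_⟩
    rcases hsplit x hx with h | h | h
    · exact Or.inl h
    · exact absurd ⟨x, hx, h⟩ h1
    · exact Or.inr h

theorem card_QG_zero : ¬ 5 ∣ Nat.card ↥(QG 0) := by
  have h := Nat.card_le_card_of_injective (α := ↥(QG 0)) (β := ↥(Cl 0 ∪ Cl 1 : Set GF))
    (fun g => ⟨g.1, QG_sub 0 g.2⟩) fun a b e => Subtype.ext (congrArg Subtype.val e :)
  have h2 := (Set.ncard_union_le (Cl 0) (Cl 1)).trans (Nat.add_le_add (cl_card (by norm_num)) (cl_card (by norm_num)))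
  have hl : (repsL (weylWords.getD 0 [])).length + (repsL (weylWords.getD 1 [])).length ≤ 3 := by decide +kernel
  rw [Nat.card_coe_set_eq] at h
  have h4 : 4096 ∣ Nat.card ↥(QG 0) :=
    card_U ▸ Subgroup.card_dvd_of_le (fun x hx => Subgroup.subset_closure (Or.inl hx))
  obtain ⟨c, hc⟩ := h4
  intro h5
  have hpos : 0 < Nat.card ↥(QG 0) := Nat.card_pos
  have : c ≤ 3 := by
    have := h.trans h2
    rw [← Nat.add_mul] at this
    have := this.trans (Nat.mul_le_mul_right 4096 hl)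
    omega
  interval_cases c <;> omega

theorem notMem_QG (t : Fin 2) : ev (nW (1 - t : Fin 2)) ∉ QG t := by
  intro h
  have h1 : ev (nW (1 - t : Fin 2)) ∈ Cl (((1 - t : Fin 2) : ℕ) + 1) :=
    ⟨1, one_mem _, 1, one_mem _, by rw [wW_succ (1 - t : Fin 2).isLt]; simp⟩
  rcases QG_sub t h with h' | h' <;>
    have := cl_disjoint (by omega) (by omega) h1 h' <;> revert this <;> fin_cases t <;> decide

theorem five_chk : eqW (List.replicate 5 (nW 1 ++ tw [1])).flatten [] = true := by decide +kernel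

theorem five_pow : (ev (nW 1) * ev (tw [1])) ^ 5 = 1 := by
  have h := eqW_sound five_chk
  rwa [ev_flatten_replicate, ev_append, ev_nil] at h

theorem tits {G : Type*} [Group G] [Finite G] {r x : Prop} (hG : Cfsg.Lie.IsoTits G) : Ans 2 G r x := by
  obtain ⟨e⟩ := hG
  refine Ans.of_equiv (G := G) (H := Cfsg.Lie.TitsGroup) e ?_
  haveI := Fact.mk Nat.prime_two
  haveI : Finite TitsGroup := Nat.finite_of_card_ne_zero (by rw [card_Tits]; norm_num)
  haveI := isSimple_Tits.1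
  refine Ans.of_one (isPGroup_W.toSylow PFreeSmall87.tits_index) ?_
  change Crit 2 (U0.comap ι) r x
  have hmap : ∀ T : Subgroup TitsGroup, U0.comap ι ≤ T → U0 ≤ T.map ι ∧ T.map ι ≤ M := fun T hT =>
    ⟨le_map_comap ι (le_of_le_of_eq U0_le_M ι_range.symm) hT,
      le_of_le_of_eq (Subgroup.map_le_range ι T) ι_range⟩
  have Fr : Frame (U0.comap ι) fun t => (QG t).comap ι := by
    refine ⟨fun t => Subgroup.comap_mono fun g hg => Subgroup.subset_closure (Or.inl (U0_le_U hg)),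
      fun T hT hTne => ?_, fun t => ?_⟩
    · obtain ⟨h1, h2⟩ := hmap T hT
      obtain ⟨t, ht⟩ := cover_GF h1 h2 fun h => hTne (eq_top_of_map_eq ι ι_inj (h.trans ι_range.symm))
      exact ⟨t, Subgroup.map_le_iff_le_comap.1 ht⟩
    · obtain ⟨y, hy⟩ := exists_lift (n_mem_M (t := ((1 - t : Fin 2) : ℕ)) (1 - t : Fin 2).isLt)
      refine ⟨y, fun h => notMem_QG t (hy ▸ Subgroup.mem_comap.1 h), fun u hu => ?_⟩
      have : u = 1 - t := by revert hu; revert u; fin_cases t <;> decide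
      rw [Subgroup.mem_comap, hy, this]
      exact Subgroup.subset_closure (Or.inr rfl)
  refine crit_of_card Fr (normalizer_ne_top (fun h => ?_) fun h => ?_) (i := 0) (j := 1) fun heq => ?_
  · have := card_W; rw [h, Subgroup.card_bot] at this; norm_num at this
  · have := card_W; rw [h, Subgroup.card_top, card_Tits] at this; norm_num at this
  · have r6 := five_pow
    obtain ⟨a, ha⟩ := exists_lift (n_mem_M (t := 1) (by norm_num))
    obtain ⟨b, hb⟩ := exists_lift (U0_le_M (tw_mem [1]))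
    have hab : a * b ∈ (QG 1).comap ι := by
      rw [Subgroup.mem_comap, map_mul, ha, hb]
      exact mul_mem (Subgroup.subset_closure (Or.inr rfl)) (Subgroup.subset_closure (Or.inl (U0_le_U (tw_mem _))))
    have ho : orderOf (a * b) = 5 := by
      haveI : Fact (Nat.Prime 5) := ⟨by norm_num⟩
      refine orderOf_eq_prime (ι_inj (by rw [map_pow, map_mul, ha, hb, r6, map_one])) fun h => notMem_QG 0 ?_
      have h1 : ev (nW 1) = (ev (tw [1]))⁻¹ := eq_inv_of_mul_eq_one_left (by rw [← ha, ← hb, ← map_mul, h, map_one])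
      show ev (nW 1) ∈ QG 0
      rw [h1]
      exact Subgroup.subset_closure (Or.inl (inv_mem (U0_le_U (tw_mem _))))
    refine card_QG_zero ((ho ▸ Subgroup.orderOf_dvd_natCard _ hab).trans (heq.symm.dvd.trans ?_))
    rw [← card_map_inj ι ι_inj]
    exact Subgroup.card_dvd_of_le (Subgroup.map_comap_le ι (QG 0))

end Tits

end Cfsg.Agent.PMinTits87
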